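import Mathlib

/-!
# The group algebra of an abelian group over the group algebra of a subgroup

For a subgroup `Z` of an additive commutative group `M`:
* `isPushout`: `R[M/Z]` is the pushout of `R[Z] → R[M]` along the counit `R[Z] → R`;
* `faithfullyFlat_incl`: `R[Z] → R[M]` is faithfully flat (`R[M]` is free over `R[Z]` on coset
  representatives).
-/

set_option autoImplicit false
set_option linter.style.haveILetI false
universe u

open CategoryTheory CategoryTheory.Limits

namespace Groth.Agent.Lib.T2H3.DiagQuotAlg

variable (R : Type u) [CommRing R] {M : Type} [AddCommGroup M] (Z : AddSubgroup M)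

/-- `R[Z] → R[M]`. -/
noncomputable abbrev incl : MonoidAlgebra R (Multiplicative ↥Z.toAddSubmonoid) →ₐ[R]
    MonoidAlgebra R (Multiplicative M) :=
  (MonoidAlgebra.mapDomainBialgHom R
    (AddMonoidHom.toMultiplicative Z.toAddSubmonoid.subtype)).toAlgHom

/-- `R[M] → R[M/Z]`. -/
noncomputable abbrev quot : MonoidAlgebra R (Multiplicative M) →ₐ[R]
    MonoidAlgebra R (Multiplicative (M ⧸ Z)) :=
  (MonoidAlgebra.mapDomainBialgHom R
    (AddMonoidHom.toMultiplicative (QuotientAddGroup.mk' Z))).toAlgHom

/-- the counit `R[Z] → R`. -/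
noncomputable abbrev cu : MonoidAlgebra R (Multiplicative ↥Z.toAddSubmonoid) →ₐ[R] R :=
  Bialgebra.counitAlgHom R (MonoidAlgebra R (Multiplicative ↥Z.toAddSubmonoid))

theorem incl_single (z : Multiplicative ↥Z.toAddSubmonoid) (r : R) :
    incl R Z (MonoidAlgebra.single z r) =
      MonoidAlgebra.single (Multiplicative.ofAdd ((Multiplicative.toAdd z : ↥Z.toAddSubmonoid) : M)) r :=
  MonoidAlgebra.mapDomainBialgHom_single _ _ _

theorem quot_single (m : Multiplicative M) (r : R) :
    quot R Z (MonoidAlgebra.single m r) =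
      MonoidAlgebra.single (Multiplicative.ofAdd (QuotientAddGroup.mk (Multiplicative.toAdd m) : M ⧸ Z)) r :=
  MonoidAlgebra.mapDomainBialgHom_single _ _ _

theorem cu_single (z : Multiplicative ↥Z.toAddSubmonoid) (r : R) :
    cu R Z (MonoidAlgebra.single z r) = r :=
  MonoidAlgebra.counit_single _ _

theorem quot_surjective : Function.Surjective (quot R Z) := by
  intro y
  induction y using MonoidAlgebra.induction_linear with
  | zero => exact ⟨0, map_zero _⟩
  | add x y hx hy =>
    obtain ⟨a, rfl⟩ := hx
    obtain ⟨b, rfl⟩ := hy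
    exact ⟨a + b, map_add _ _ _⟩
  | single q r =>
    obtain ⟨m, hm⟩ := QuotientAddGroup.mk_surjective (Multiplicative.toAdd q)
    refine ⟨MonoidAlgebra.single (Multiplicative.ofAdd m) r, ?_⟩
    rw [quot_single]
    congr 1

section Pushout

variable {R Z}

/-- the descended ring map. -/
theorem exists_desc {C : Type u} [CommRing C] (f : MonoidAlgebra R (Multiplicative M) →+* C)
    (g : R →+* C) (h : f.comp (incl R Z).toRingHom = g.comp (cu R Z).toRingHom) :
    ∃ d : MonoidAlgebra R (Multiplicative (M ⧸ Z)) →+* C,
      d.comp (quot R Z).toRingHom = f ∧ d.comp (algebraMap R _) = g := by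
  -- the character
  let χ : M →+ Additive C :=
    { toFun := fun m => Additive.ofMul (f (MonoidAlgebra.single (Multiplicative.ofAdd m) 1))
      map_zero' := by
        change Additive.ofMul (f (MonoidAlgebra.single 1 1)) = 0
        rw [← MonoidAlgebra.one_def, map_one]
        rfl
      map_add' := fun a b => by
        have h1 : (MonoidAlgebra.single (Multiplicative.ofAdd (a + b)) (1 : R) :
            MonoidAlgebra R (Multiplicative M)) =
            MonoidAlgebra.single (Multiplicative.ofAdd a) 1 *
              MonoidAlgebra.single (Multiplicative.ofAdd b) 1 := by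
          rw [MonoidAlgebra.single_mul_single, one_mul]
          rfl
        rw [h1, map_mul]
        rfl }
  have hχ : Z ≤ χ.ker := by
    intro z hz
    rw [AddMonoidHom.mem_ker]
    have h1 := congrArg (fun k => k (MonoidAlgebra.single
      (Multiplicative.ofAdd (⟨z, hz⟩ : ↥Z.toAddSubmonoid)) (1 : R))) h
    simp only [RingHom.comp_apply] at h1
    change f (incl R Z _) = g (cu R Z _) at h1
    rw [incl_single, cu_single, map_one] at h1
    exact congrArg Additive.ofMul h1
  let χbar : M ⧸ Z →+ Additive C := QuotientAddGroup.lift Z χ hχ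
  let γ : Multiplicative (M ⧸ Z) →* C := AddMonoidHom.toMultiplicativeLeft χbar
  have hγ : ∀ m : M, γ (Multiplicative.ofAdd (QuotientAddGroup.mk m : M ⧸ Z)) =
      f (MonoidAlgebra.single (Multiplicative.ofAdd m) 1) := fun m => rfl
  have hg : ∀ r : R, f (MonoidAlgebra.single 1 r) = g r := by
    intro r
    have h1 := congrArg (fun k => k (MonoidAlgebra.single
      (1 : Multiplicative ↥Z.toAddSubmonoid) r)) h
    simp only [RingHom.comp_apply] at h1
    change f (incl R Z _) = g (cu R Z _) at h1
    rw [incl_single, cu_single] at h1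
    exact h1
  refine ⟨MonoidAlgebra.liftNCRingHom g γ (fun _ _ => Commute.all _ _), ?_, ?_⟩
  · apply MonoidAlgebra.ringHom_ext
    · intro r
      simp only [RingHom.comp_apply]
      change MonoidAlgebra.liftNCRingHom g γ _ (quot R Z _) = _
      rw [quot_single, MonoidAlgebra.liftNCRingHom_single, hg]
      change g r * γ (Multiplicative.ofAdd ((0 : M) : M ⧸ Z)) = g r
      rw [hγ]
      change g r * f (MonoidAlgebra.single 1 1) = g r
      rw [← MonoidAlgebra.one_def, map_one, mul_one]
    · intro m
      simp only [RingHom.comp_apply]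
      change MonoidAlgebra.liftNCRingHom g γ _ (quot R Z _) = _
      rw [quot_single, MonoidAlgebra.liftNCRingHom_single, map_one, one_mul]
      exact hγ (Multiplicative.toAdd m)
  · ext r
    simp only [RingHom.comp_apply]
    change MonoidAlgebra.liftNCRingHom g γ _ (MonoidAlgebra.single 1 r) = _
    rw [MonoidAlgebra.liftNCRingHom_single, map_one, mul_one]

end Pushout

/-- `R[M/Z]` is the pushout of `R[Z] → R[M]` along the counit. -/
theorem isPushout :
    IsPushout (CommRingCat.ofHom (incl R Z).toRingHom) (CommRingCat.ofHom (cu R Z).toRingHom)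
      (CommRingCat.ofHom (quot R Z).toRingHom)
      (CommRingCat.ofHom (algebraMap R (MonoidAlgebra R (Multiplicative (M ⧸ Z))))) := by
  have w : CommRingCat.ofHom (incl R Z).toRingHom ≫ CommRingCat.ofHom (quot R Z).toRingHom =
      CommRingCat.ofHom (cu R Z).toRingHom ≫
        CommRingCat.ofHom (algebraMap R (MonoidAlgebra R (Multiplicative (M ⧸ Z)))) := by
    rw [← CommRingCat.ofHom_comp, ← CommRingCat.ofHom_comp]
    congr 1
    apply MonoidAlgebra.ringHom_ext
    · intro r
      simp only [RingHom.comp_apply]
      change quot R Z (incl R Z _) = algebraMap R _ (cu R Z _)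
      rw [incl_single, quot_single, cu_single]
      rfl
    · intro z
      simp only [RingHom.comp_apply]
      change quot R Z (incl R Z _) = algebraMap R _ (cu R Z _)
      rw [incl_single, quot_single, cu_single]
      change MonoidAlgebra.single _ 1 = MonoidAlgebra.single 1 1
      congr 1
      change Multiplicative.ofAdd _ = Multiplicative.ofAdd (0 : M ⧸ Z)
      congr 1
      exact (QuotientAddGroup.eq_zero_iff _).mpr (Multiplicative.toAdd z).2
  have hs : ∀ s : PushoutCocone (CommRingCat.ofHom (incl R Z).toRingHom)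
      (CommRingCat.ofHom (cu R Z).toRingHom),
      s.inl.hom.comp (incl R Z).toRingHom = s.inr.hom.comp (cu R Z).toRingHom := by
    intro s
    have := congrArg CommRingCat.Hom.hom s.condition
    exact this
  refine ⟨⟨w⟩, ⟨PushoutCocone.IsColimit.mk w
    (fun s => CommRingCat.ofHom (Classical.choose (exists_desc s.inl.hom s.inr.hom (hs s))))
    ?_ ?_ ?_⟩⟩
  · intro s
    ext1
    exact (Classical.choose_spec (exists_desc s.inl.hom s.inr.hom (hs s))).1
  · intro s
    ext1
    exact (Classical.choose_spec (exists_desc s.inl.hom s.inr.hom (hs s))).2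
  · intro s m h1 h2
    ext1
    have e1 : m.hom.comp (quot R Z).toRingHom = s.inl.hom := congrArg CommRingCat.Hom.hom h1
    have e2 := (Classical.choose_spec (exists_desc s.inl.hom s.inr.hom (hs s))).1
    apply RingHom.ext
    intro y
    obtain ⟨x, rfl⟩ := quot_surjective R Z y
    have := congrArg (fun f => f x) (e1.trans e2.symm)
    exact this

section Free

variable {Z}

/-- coset representatives. -/
noncomputable def rep (q : M ⧸ Z) : M := Quotient.out q

theorem mk_rep (q : M ⧸ Z) : (QuotientAddGroup.mk (rep q) : M ⧸ Z) = q :=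
  QuotientAddGroup.out_eq' q

theorem sub_rep_mem (m : M) : m - rep (QuotientAddGroup.mk m : M ⧸ Z) ∈ Z := by
  have h := mk_rep (QuotientAddGroup.mk m : M ⧸ Z)
  rw [QuotientAddGroup.eq] at h
  rwa [neg_add_eq_sub] at h

/-- the `Z`-component of `m`. -/
noncomputable def zc (m : M) : ↥Z.toAddSubmonoid :=
  ⟨m - rep (QuotientAddGroup.mk m : M ⧸ Z), sub_rep_mem m⟩

theorem mk_add_rep (z : ↥Z.toAddSubmonoid) (q : M ⧸ Z) :
    (QuotientAddGroup.mk ((z : M) + rep q) : M ⧸ Z) = q := by
  rw [QuotientAddGroup.mk_add, mk_rep, (QuotientAddGroup.eq_zero_iff _).mpr z.2, zero_add]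

theorem zc_add_rep (z : ↥Z.toAddSubmonoid) (q : M ⧸ Z) : zc ((z : M) + rep q) = z := by
  apply Subtype.ext
  change (z : M) + rep q - rep (QuotientAddGroup.mk ((z : M) + rep q) : M ⧸ Z) = z
  rw [mk_add_rep, add_sub_cancel_right]

variable (Z)

/-- `R[M]` is free over `R[Z]`, and faithfully flat when `R` is nontrivial. -/
theorem faithfullyFlat_incl [Nontrivial R] : (incl R Z).toRingHom.FaithfullyFlat := by
  letI alg : Algebra (MonoidAlgebra R (Multiplicative ↥Z.toAddSubmonoid))
      (MonoidAlgebra R (Multiplicative M)) := (incl R Z).toRingHom.toAlgebra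
  change Module.FaithfullyFlat (MonoidAlgebra R (Multiplicative ↥Z.toAddSubmonoid))
      (MonoidAlgebra R (Multiplicative M))
  let v : M ⧸ Z → MonoidAlgebra R (Multiplicative M) :=
    fun q => MonoidAlgebra.single (Multiplicative.ofAdd (rep q)) 1
  let Φ : ((M ⧸ Z) →₀ MonoidAlgebra R (Multiplicative ↥Z.toAddSubmonoid)) →ₗ[
      MonoidAlgebra R (Multiplicative ↥Z.toAddSubmonoid)] MonoidAlgebra R (Multiplicative M) :=
    Finsupp.linearCombination _ v
  have hΦ : ∀ (q : M ⧸ Z) (z : Multiplicative ↥Z.toAddSubmonoid) (r : R),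
      Φ (Finsupp.single q (MonoidAlgebra.single z r)) =
        MonoidAlgebra.single (Multiplicative.ofAdd
          (((Multiplicative.toAdd z : ↥Z.toAddSubmonoid) : M) + rep q)) r := by
    intro q z r
    change Finsupp.linearCombination _ v _ = _
    rw [Finsupp.linearCombination_single, Algebra.smul_def, RingHom.algebraMap_toAlgebra]
    change incl R Z _ * MonoidAlgebra.single _ 1 = _
    rw [incl_single, MonoidAlgebra.single_mul_single, mul_one]
    rfl
  let Ψ : MonoidAlgebra R (Multiplicative M) →+
      ((M ⧸ Z) →₀ MonoidAlgebra R (Multiplicative ↥Z.toAddSubmonoid)) :=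
    (Finsupp.liftAddHom (fun g : Multiplicative M =>
      (Finsupp.singleAddHom (QuotientAddGroup.mk (Multiplicative.toAdd g) : M ⧸ Z)).comp
        (MonoidAlgebra.singleAddHom
          (Multiplicative.ofAdd (zc (Z := Z) (Multiplicative.toAdd g)))))).comp
      (MonoidAlgebra.coeffAddEquiv (R := R) (M := Multiplicative M)).toAddMonoidHom
  have hΨ : ∀ (g : Multiplicative M) (r : R), Ψ (MonoidAlgebra.single g r) =
      Finsupp.single (QuotientAddGroup.mk (Multiplicative.toAdd g) : M ⧸ Z)
        (MonoidAlgebra.single (Multiplicative.ofAdd (zc (Z := Z) (Multiplicative.toAdd g))) r) := by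
    intro g r
    change Finsupp.liftAddHom _ (MonoidAlgebra.single g r).coeff = _
    rw [MonoidAlgebra.coeff_single, Finsupp.liftAddHom_apply_single]
    rfl
  have h1 : ∀ b, Φ (Ψ b) = b := by
    intro b
    have : (Φ.toAddMonoidHom.comp Ψ) = AddMonoidHom.id _ := by
      apply MonoidAlgebra.addMonoidHom_ext
      intro g r
      change Φ (Ψ (MonoidAlgebra.single g r)) = MonoidAlgebra.single g r
      rw [hΨ, hΦ]
      congr 1
      change Multiplicative.ofAdd (Multiplicative.toAdd g -
        rep (QuotientAddGroup.mk (Multiplicative.toAdd g) : M ⧸ Z) +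
        rep (QuotientAddGroup.mk (Multiplicative.toAdd g) : M ⧸ Z)) = g
      rw [sub_add_cancel]
      rfl
    exact congrArg (fun k => k b) this
  have h2 : ∀ c, Ψ (Φ c) = c := by
    intro c
    have : (Ψ.comp Φ.toAddMonoidHom) = AddMonoidHom.id _ := by
      apply Finsupp.addHom_ext
      intro q a
      change Ψ (Φ (Finsupp.single q a)) = Finsupp.single q a
      induction a using MonoidAlgebra.induction_linear with
      | zero => simp
      | add x y hx hy =>
        rw [Finsupp.single_add, map_add, map_add, hx, hy]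
      | single z r =>
        rw [hΦ, hΨ]
        change Finsupp.single (QuotientAddGroup.mk
          (((Multiplicative.toAdd z : ↥Z.toAddSubmonoid) : M) + rep q) : M ⧸ Z)
          (MonoidAlgebra.single (Multiplicative.ofAdd
            (zc (((Multiplicative.toAdd z : ↥Z.toAddSubmonoid) : M) + rep q))) r) = _
        rw [mk_add_rep, zc_add_rep]
        rfl
    exact congrArg (fun k => k c) this
  have hbij : Function.Bijective Φ :=
    Function.bijective_iff_has_inverse.mpr ⟨Ψ, h2, h1⟩
  haveI : Module.Free (MonoidAlgebra R (Multiplicative ↥Z.toAddSubmonoid))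
      (MonoidAlgebra R (Multiplicative M)) :=
    Module.Free.of_equiv (LinearEquiv.ofBijective Φ hbij)
  infer_instance

end Free

end Groth.Agent.Lib.T2H3.DiagQuotAlg
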