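import Mathlib
import Groth.Prelude.Def_Magnet3
import Groth.Agent.Lib.T2H3DensityExt

/-!
# Schematic dominance of `A(M)_S × T ⟶ A(N)_S × T` for an injective monoid map `N → M`
-/

set_option autoImplicit false
set_option linter.style.haveILetI false
set_option linter.unusedSectionVars false
universe u

open CategoryTheory CategoryTheory.Limits MonoidalCategory CartesianMonoidalCategory MonObj
  AlgebraicGeometry Opposite

namespace Groth.Agent.Lib.T2H3.MagnetDom

section Local

/-- scheme-theoretic dominance of a quasi-compact morphism is local on the target. -/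
theorem dominant_of_openCover {X Y : Scheme.{u}} (f : X ⟶ Y) [QuasiCompact f]
    (𝒰 : Y.OpenCover)
    (h : ∀ i, ∃ (X' : Scheme.{u}) (p : X' ⟶ X) (f' : X' ⟶ 𝒰.X i),
      IsPullback f' p (𝒰.f i) f ∧ IsSchemeTheoreticallyDominant f') :
    IsSchemeTheoreticallyDominant f := by
  rw [isSchemeTheoreticallyDominant_iff]
  refine Scheme.IdealSheafData.ext_of_iSup_eq_top
    (fun (p : Σ i, (𝒰.X i).affineOpens) =>
      (⟨(𝒰.f p.1) ''ᵁ p.2.1, p.2.2.image_of_isOpenImmersion _⟩ : Y.affineOpens)) ?_ ?_
  · rw [eq_top_iff]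
    rintro y -
    obtain ⟨i, x, rfl⟩ := 𝒰.exists_eq y
    obtain ⟨_, ⟨W, hW, rfl⟩, hxW, -⟩ :=
      (𝒰.X i).isBasis_affineOpens.exists_subset_of_mem_open (Set.mem_univ x) isOpen_univ
    rw [TopologicalSpace.Opens.mem_iSup]
    exact ⟨⟨i, ⟨W, hW⟩⟩, ⟨x, hxW, rfl⟩⟩
  · rintro ⟨i, W⟩
    obtain ⟨X', p, f', hpb, hdom⟩ := h i
    have e := Scheme.ker_ideal_of_isPullback_of_isOpenImmersion f f' p (𝒰.f i) hpb W
    rw [f'.ker_eq_bot, Scheme.IdealSheafData.ideal_bot] at e
    rw [Scheme.IdealSheafData.ideal_bot]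
    simp only [Pi.bot_apply] at e ⊢
    rw [eq_bot_iff]
    intro s hs
    have hsurj : Function.Surjective ((𝒰.f i).appIso W.1).inv.hom :=
      (ConcreteCategory.bijective_of_isIso ((𝒰.f i).appIso W.1).inv).2
    obtain ⟨s', rfl⟩ := hsurj s
    have : s' ∈ (⊥ : Ideal _) := by
      rw [e]
      exact hs
    rw [Ideal.mem_bot] at this
    rw [this, map_zero]
    exact Ideal.zero_mem _

end Local

section Algebra

open TensorProduct

variable (R : Type u) [CommRing R] {G H : Type} [Monoid G] [Monoid H] (f : G →* H)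
  (C : Type u) [CommRing C] [Algebra R C]

/-- `R[G] ⊗ C → R[H] ⊗ C` is injective for an injective monoid map `G → H`. -/
theorem tensor_mapDomain_injective (hf : Function.Injective f) :
    Function.Injective (Algebra.TensorProduct.map
      (MonoidAlgebra.mapDomainBialgHom R f).toAlgHom (AlgHom.id R C)) := by
  let eG : MonoidAlgebra R G ≃ₗ[R] (G →₀ R) := MonoidAlgebra.coeffLinearEquiv R
  let eH : MonoidAlgebra R H ≃ₗ[R] (H →₀ R) := MonoidAlgebra.coeffLinearEquiv R
  let cd : (H →₀ R) →ₗ[R] (G →₀ R) := Finsupp.lcomapDomain (R := R) (M := R) f hf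
  let ρ : MonoidAlgebra R H →ₗ[R] MonoidAlgebra R G :=
    eG.symm.toLinearMap ∘ₗ cd ∘ₗ eH.toLinearMap
  have hρ : ∀ x : MonoidAlgebra R G, ρ ((MonoidAlgebra.mapDomainBialgHom R f).toAlgHom x) = x := by
    intro x
    change eG.symm (cd (eH (MonoidAlgebra.mapDomain f x))) = x
    have h1 : eH (MonoidAlgebra.mapDomain f x) = Finsupp.mapDomain f x.coeff := rfl
    rw [h1]
    have h2 : cd (Finsupp.mapDomain f x.coeff) = x.coeff :=
      Finsupp.leftInverse_lcomapDomain_mapDomain (R := R) (M := R) f hf x.coeff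
    rw [h2]
    rfl
  have hleft : Function.LeftInverse (LinearMap.rTensor C ρ)
      (Algebra.TensorProduct.map (MonoidAlgebra.mapDomainBialgHom R f).toAlgHom
        (AlgHom.id R C)) := by
    intro z
    induction z using TensorProduct.induction_on with
    | zero => simp
    | tmul x c =>
      rw [Algebra.TensorProduct.map_tmul, LinearMap.rTensor_tmul, hρ]
      rfl
    | add a b ha hb => rw [map_add, map_add, ha, hb]
  exact hleft.injective

end Algebra

section Geometry

open TensorProduct

set_option backward.isDefEq.respectTransparency false in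
/-- the standard square `X ×_B T' ⟶ X ×_B T` over `v : T' ⟶ T` is cartesian. -/
theorem isPullback_map_right {X B T T' : Scheme.{u}} (pX : X ⟶ B) (t : T ⟶ B) (v : T' ⟶ T) :
    IsPullback (pullback.snd pX (v ≫ t))
      (pullback.map pX (v ≫ t) pX t (𝟙 X) v (𝟙 B) (by simp) (by simp)) v (pullback.snd pX t) := by
  refine IsPullback.of_bot (v₂₁ := pullback.fst pX t) (v₂₂ := t) (h₃₁ := pX) ?_ ?_
    (IsPullback.of_hasPullback pX t).flip
  · have h1 : pullback.map pX (v ≫ t) pX t (𝟙 X) v (𝟙 B) (by simp) (by simp) ≫ pullback.fst pX t =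
        pullback.fst pX (v ≫ t) := by simp
    rw [h1]
    exact (IsPullback.of_hasPullback pX (v ≫ t)).flip
  · simp

set_option backward.isDefEq.respectTransparency false in
/-- `P ×_B T ⟶ Q ×_B T` is the base change of `j : P ⟶ Q`. -/
theorem isPullback_map_left {P Q B T : Scheme.{u}} (pP : P ⟶ B) (pQ : Q ⟶ B) (j : P ⟶ Q)
    (hj : j ≫ pQ = pP) (t : T ⟶ B) :
    IsPullback (pullback.map pP t pQ t j (𝟙 T) (𝟙 B) (by simp [hj]) (by simp))
      (pullback.fst pP t) (pullback.fst pQ t) j := by
  refine IsPullback.of_right (h₁₂ := pullback.snd pQ t) (v₁₃ := t) (h₂₂ := pQ) ?_ ?_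
    (IsPullback.of_hasPullback pQ t).flip
  · have h1 : pullback.map pP t pQ t j (𝟙 T) (𝟙 B) (by simp [hj]) (by simp) ≫ pullback.snd pQ t =
        pullback.snd pP t := by simp
    rw [h1, hj]
    exact (IsPullback.of_hasPullback pP t).flip
  · simp

set_option backward.isDefEq.respectTransparency false in
/-- the cube: `P ×_B T' ⟶ Q ×_B T'` is the base change of `P ×_B T ⟶ Q ×_B T`. -/
theorem isPullback_map_cube {P Q B T T' : Scheme.{u}} (pP : P ⟶ B) (pQ : Q ⟶ B) (j : P ⟶ Q)
    (hj : j ≫ pQ = pP) (t : T ⟶ B) (v : T' ⟶ T) :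
    IsPullback (pullback.map pP (v ≫ t) pQ (v ≫ t) j (𝟙 T') (𝟙 B) (by simp [hj]) (by simp))
      (pullback.map pP (v ≫ t) pP t (𝟙 P) v (𝟙 B) (by simp) (by simp))
      (pullback.map pQ (v ≫ t) pQ t (𝟙 Q) v (𝟙 B) (by simp) (by simp))
      (pullback.map pP t pQ t j (𝟙 T) (𝟙 B) (by simp [hj]) (by simp)) := by
  refine IsPullback.of_right (h₁₂ := pullback.snd pQ (v ≫ t)) (v₁₃ := v)
    (h₂₂ := pullback.snd pQ t) ?_ ?_ (isPullback_map_right pQ t v)
  · have h1 : pullback.map pP (v ≫ t) pQ (v ≫ t) j (𝟙 T') (𝟙 B) (by simp [hj]) (by simp) ≫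
        pullback.snd pQ (v ≫ t) = pullback.snd pP (v ≫ t) := by simp
    have h2 : pullback.map pP t pQ t j (𝟙 T) (𝟙 B) (by simp [hj]) (by simp) ≫ pullback.snd pQ t =
        pullback.snd pP t := by simp
    rw [h1, h2]
    exact isPullback_map_right pP t v
  · apply pullback.hom_ext <;> simp

variable {R AP AQ : Type u} [CommRing R] [CommRing AP] [CommRing AQ] [Algebra R AP] [Algebra R AQ]

set_option backward.isDefEq.respectTransparency false in
/-- affine case: `Spec (AP ⊗ C) ⟶ Spec (AQ ⊗ C)` is scheme-theoretically dominant when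
`AQ ⊗ C ⟶ AP ⊗ C` is injective. -/
theorem dominant_map_affine' (φ : AQ →ₐ[R] AP)
    (hφ : ∀ (C : Type u) [CommRing C] [Algebra R C],
      Function.Injective (Algebra.TensorProduct.map φ (AlgHom.id R C)))
    (C : Type u) [CommRing C] [Algebra R C] :
    IsSchemeTheoreticallyDominant
      (pullback.map (Spec.map (CommRingCat.ofHom (algebraMap R AP)))
        (Spec.map (CommRingCat.ofHom (algebraMap R C)))
        (Spec.map (CommRingCat.ofHom (algebraMap R AQ)))
        (Spec.map (CommRingCat.ofHom (algebraMap R C)))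
        (Spec.map (CommRingCat.ofHom φ.toRingHom)) (𝟙 _) (𝟙 _)
        (by
          rw [Category.comp_id, ← Spec.map_comp, ← CommRingCat.ofHom_comp]
          congr 2
          exact φ.comp_algebraMap.symm) (by simp)) := by
  have key : pullback.map (Spec.map (CommRingCat.ofHom (algebraMap R AP)))
        (Spec.map (CommRingCat.ofHom (algebraMap R C)))
        (Spec.map (CommRingCat.ofHom (algebraMap R AQ)))
        (Spec.map (CommRingCat.ofHom (algebraMap R C)))
        (Spec.map (CommRingCat.ofHom φ.toRingHom)) (𝟙 _) (𝟙 _)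
        (by
          rw [Category.comp_id, ← Spec.map_comp, ← CommRingCat.ofHom_comp]
          congr 2
          exact φ.comp_algebraMap.symm) (by simp) =
      (pullbackSpecIso R AP C).hom ≫
        Spec.map (CommRingCat.ofHom (Algebra.TensorProduct.map φ (AlgHom.id R C)).toRingHom) ≫
        (pullbackSpecIso R AQ C).inv := by
    rw [← Iso.inv_comp_eq]
    apply pullback.hom_ext
    · rw [Category.assoc, Category.assoc, pullback.lift_fst, pullbackSpecIso_inv_fst_assoc,
        pullbackSpecIso_inv_fst, ← Spec.map_comp, ← Spec.map_comp, ← CommRingCat.ofHom_comp,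
        ← CommRingCat.ofHom_comp]
      congr 2
    · rw [Category.assoc, Category.assoc, pullback.lift_snd, pullbackSpecIso_inv_snd_assoc,
        pullbackSpecIso_inv_snd, ← Spec.map_comp, ← CommRingCat.ofHom_comp, Category.comp_id]
      congr 2
      ext x
      simp
  rw [key]
  have := Groth.Agent.Lib.T2H3.DensityExt.specMap_dominant
    (Algebra.TensorProduct.map φ (AlgHom.id R C)).toRingHom (hφ C)
  infer_instance

set_option backward.isDefEq.respectTransparency false in
theorem dominant_map_affine (φ : AQ →ₐ[R] AP)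
    (hφ : ∀ (C : Type u) [CommRing C] [Algebra R C],
      Function.Injective (Algebra.TensorProduct.map φ (AlgHom.id R C)))
    (C : CommRingCat.{u}) (s : Spec C ⟶ Spec (CommRingCat.of R)) :
    IsSchemeTheoreticallyDominant
      (pullback.map (Spec.map (CommRingCat.ofHom (algebraMap R AP))) s
        (Spec.map (CommRingCat.ofHom (algebraMap R AQ))) s
        (Spec.map (CommRingCat.ofHom φ.toRingHom)) (𝟙 _) (𝟙 _)
        (by
          rw [Category.comp_id, ← Spec.map_comp, ← CommRingCat.ofHom_comp]
          congr 2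
          exact φ.comp_algebraMap.symm) (by simp)) := by
  obtain ⟨ψ, rfl⟩ := Spec.map_surjective s
  letI : Algebra R C := ψ.hom.toAlgebra
  exact dominant_map_affine' φ hφ C

set_option backward.isDefEq.respectTransparency false in
/-- `Spec AP ×_R T ⟶ Spec AQ ×_R T` is scheme-theoretically dominant for every `T` over `Spec R`
when `AQ ⊗ C ⟶ AP ⊗ C` is injective for all `R`-algebras `C`. -/
theorem dominant_map (φ : AQ →ₐ[R] AP)
    (hφ : ∀ (C : Type u) [CommRing C] [Algebra R C],
      Function.Injective (Algebra.TensorProduct.map φ (AlgHom.id R C)))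
    {T : Scheme.{u}} (t : T ⟶ Spec (CommRingCat.of R)) :
    IsSchemeTheoreticallyDominant
      (pullback.map (Spec.map (CommRingCat.ofHom (algebraMap R AP))) t
        (Spec.map (CommRingCat.ofHom (algebraMap R AQ))) t
        (Spec.map (CommRingCat.ofHom φ.toRingHom)) (𝟙 _) (𝟙 _)
        (by
          rw [Category.comp_id, ← Spec.map_comp, ← CommRingCat.ofHom_comp]
          congr 2
          exact φ.comp_algebraMap.symm) (by simp)) := by
  have hj : Spec.map (CommRingCat.ofHom φ.toRingHom) ≫
      Spec.map (CommRingCat.ofHom (algebraMap R AQ)) =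
      Spec.map (CommRingCat.ofHom (algebraMap R AP)) := by
    rw [← Spec.map_comp, ← CommRingCat.ofHom_comp]
    congr 2
    exact φ.comp_algebraMap
  have hqc : QuasiCompact (pullback.map (Spec.map (CommRingCat.ofHom (algebraMap R AP))) t
        (Spec.map (CommRingCat.ofHom (algebraMap R AQ))) t
        (Spec.map (CommRingCat.ofHom φ.toRingHom)) (𝟙 _) (𝟙 _)
        (by rw [Category.comp_id, hj]) (by simp)) :=
    MorphismProperty.of_isPullback (P := @QuasiCompact)
      (isPullback_map_left _ _ _ hj t).flip inferInstance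
  refine dominant_of_openCover _
    (Scheme.Pullback.openCoverOfRight T.affineCover
      (Spec.map (CommRingCat.ofHom (algebraMap R AQ))) t) ?_
  intro i
  exact ⟨_, _, _, isPullback_map_cube _ _ _ hj t (T.affineCover.f i),
    dominant_map_affine φ hφ _ (T.affineCover.f i ≫ t)⟩

end Geometry

section Main

open Magnet

variable (S : Scheme.{u}) {M' N' : Type} [AddCommMonoid M'] [AddCommMonoid N']

set_option backward.isDefEq.respectTransparency false in
/-- **(1')** for an injective map of monoids `g : N' → M'` and every `T` over `S`, the morphism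
`A(M')_S × T ⟶ A(N')_S × T` is scheme-theoretically dominant. -/
theorem dominant_AMonS_map (g : N' →+ M') (hg : Function.Injective g) (T : Over S) :
    IsSchemeTheoreticallyDominant (AMonS.map S g ▷ T).left := by
  let τ : S ⟶ Spec (CommRingCat.of (ULift.{u} ℤ)) := IsTerminal.from specULiftZIsTerminal S
  let φ : MonoidAlgebra (ULift.{u} ℤ) (Multiplicative N') →ₐ[ULift.{u} ℤ]
      MonoidAlgebra (ULift.{u} ℤ) (Multiplicative M') :=
    (MonoidAlgebra.mapDomainBialgHom (ULift.{u} ℤ) (AddMonoidHom.toMultiplicative g)).toAlgHom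
  have hφ : ∀ (C : Type u) [CommRing C] [Algebra (ULift.{u} ℤ) C],
      Function.Injective (Algebra.TensorProduct.map φ (AlgHom.id (ULift.{u} ℤ) C)) :=
    fun C _ _ => tensor_mapDomain_injective (ULift.{u} ℤ) (AddMonoidHom.toMultiplicative g) C hg
  have hdom := dominant_map φ hφ (T.hom ≫ τ)
  let eM := pullbackLeftPullbackSndIso (AMon (ULift.{u} ℤ) M').hom τ T.hom
  let eN := pullbackLeftPullbackSndIso (AMon (ULift.{u} ℤ) N').hom τ T.hom
  have key : (AMonS.map S g ▷ T).left = eM.hom ≫
      pullback.map (Spec.map (CommRingCat.ofHom (algebraMap (ULift.{u} ℤ)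
          (MonoidAlgebra (ULift.{u} ℤ) (Multiplicative M'))))) (T.hom ≫ τ)
        (Spec.map (CommRingCat.ofHom (algebraMap (ULift.{u} ℤ)
          (MonoidAlgebra (ULift.{u} ℤ) (Multiplicative N'))))) (T.hom ≫ τ)
        (Spec.map (CommRingCat.ofHom φ.toRingHom)) (𝟙 _) (𝟙 _)
        (by
          rw [Category.comp_id, ← Spec.map_comp, ← CommRingCat.ofHom_comp]
          congr 2
          exact φ.comp_algebraMap.symm) (by simp) ≫ eN.inv := by
    have eN1 : eN.hom ≫ pullback.fst (AMon (ULift.{u} ℤ) N').hom (T.hom ≫ τ) =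
        pullback.fst _ _ ≫ pullback.fst _ _ := pullbackLeftPullbackSndIso_hom_fst _ _ _
    have eN2 : eN.hom ≫ pullback.snd (AMon (ULift.{u} ℤ) N').hom (T.hom ≫ τ) =
        pullback.snd _ _ := pullbackLeftPullbackSndIso_hom_snd _ _ _
    have eM1 : eM.hom ≫ pullback.fst (AMon (ULift.{u} ℤ) M').hom (T.hom ≫ τ) =
        pullback.fst _ _ ≫ pullback.fst _ _ := pullbackLeftPullbackSndIso_hom_fst _ _ _
    have eM2 : eM.hom ≫ pullback.snd (AMon (ULift.{u} ℤ) M').hom (T.hom ≫ τ) =
        pullback.snd _ _ := pullbackLeftPullbackSndIso_hom_snd _ _ _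
    rw [← Category.assoc, Iso.eq_comp_inv]
    apply pullback.hom_ext
    · have h1 : (AMonS.map S g).left ≫ pullback.fst (AMon (ULift.{u} ℤ) N').hom τ =
          pullback.fst (AMon (ULift.{u} ℤ) M').hom τ ≫ (AMon.map (ULift.{u} ℤ) g).left :=
        pullback.lift_fst _ _ _
      have h2 : (AMonS.map S g ▷ T).left ≫ pullback.fst (AMonS S N').hom T.hom =
          pullback.fst (AMonS S M').hom T.hom ≫ (AMonS.map S g).left :=
        Over.whiskerRight_left_fst _
      calc ((AMonS.map S g ▷ T).left ≫ eN.hom) ≫ pullback.fst _ _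
          = (AMonS.map S g ▷ T).left ≫ pullback.fst (AMonS S N').hom T.hom ≫
              pullback.fst (AMon (ULift.{u} ℤ) N').hom τ := by
            rw [Category.assoc]; exact congrArg _ eN1
        _ = pullback.fst (AMonS S M').hom T.hom ≫ pullback.fst (AMon (ULift.{u} ℤ) M').hom τ ≫
              (AMon.map (ULift.{u} ℤ) g).left := by
            rw [← Category.assoc, h2, Category.assoc, h1]
        _ = (eM.hom ≫ pullback.fst (AMon (ULift.{u} ℤ) M').hom (T.hom ≫ τ)) ≫
              (AMon.map (ULift.{u} ℤ) g).left := by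
            rw [eM1, Category.assoc]; rfl
        _ = _ := by
            rw [Category.assoc, Category.assoc, pullback.lift_fst]
            rfl
    · have h2 : (AMonS.map S g ▷ T).left ≫ pullback.snd (AMonS S N').hom T.hom =
          pullback.snd (AMonS S M').hom T.hom :=
        Over.whiskerRight_left_snd _
      calc ((AMonS.map S g ▷ T).left ≫ eN.hom) ≫ pullback.snd _ _
          = (AMonS.map S g ▷ T).left ≫ pullback.snd (AMonS S N').hom T.hom := by
            rw [Category.assoc]; exact congrArg _ eN2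
        _ = eM.hom ≫ pullback.snd (AMon (ULift.{u} ℤ) M').hom (T.hom ≫ τ) := by
            rw [h2, eM2]; rfl
        _ = _ := by
            rw [Category.assoc, pullback.lift_snd, Category.comp_id]; rfl
  rw [key]
  infer_instance

/-- morphisms `A(N')_S × T ⟶ X` into a separated `X` agreeing on `A(M')_S × T` are equal. -/
theorem ext_of_AMonS_map (g : N' →+ M') (hg : Function.Injective g) (T : Over S) {X : Over S}
    [IsSeparated X.hom] (φ ψ : AMonS S N' ⊗ T ⟶ X)
    (h : (AMonS.map S g ▷ T) ≫ φ = (AMonS.map S g ▷ T) ≫ ψ) : φ = ψ := by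
  have := dominant_AMonS_map S g hg T
  apply Over.OverMorphism.ext
  refine Groth.Agent.Lib.T2H3.DensityExt.ext_of_dominant (AMonS.map S g ▷ T).left X.hom
    ((Over.w φ).trans (Over.w ψ).symm) ?_
  rw [← Over.comp_left, ← Over.comp_left, h]

/-- a morphism `A(N')_S × T ⟶ X` whose restriction to `A(M')_S × T` factors through a closed
subscheme `Z` factors through `Z`. -/
theorem exists_factor_of_AMonS_map (g : N' →+ M') (hg : Function.Injective g) (T : Over S)
    {X Z : Over S} (j : Z ⟶ X) [IsClosedImmersion j.left] (φ : AMonS S N' ⊗ T ⟶ X)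
    (ψ : AMonS S M' ⊗ T ⟶ Z) (h : (AMonS.map S g ▷ T) ≫ φ = ψ ≫ j) :
    ∃ χ : AMonS S N' ⊗ T ⟶ Z, χ ≫ j = φ := by
  have := dominant_AMonS_map S g hg T
  have hcond : (AMonS.map S g ▷ T).left ≫ φ.left = ψ.left ≫ j.left := by
    rw [← Over.comp_left, ← Over.comp_left, h]
  have hiso : IsIso (pullback.fst φ.left j.left) :=
    Groth.Agent.Lib.T2H3.DensityExt.isIso_of_factors (pullback.fst φ.left j.left)
      (AMonS.map S g ▷ T).left (pullback.lift (AMonS.map S g ▷ T).left ψ.left hcond)
      (pullback.lift_fst _ _ _)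
  have hw : (inv (pullback.fst φ.left j.left) ≫ pullback.snd φ.left j.left) ≫ Z.hom =
      (AMonS S N' ⊗ T).hom := by
    rw [Category.assoc, ← Over.w j, ← pullback.condition_assoc, IsIso.inv_hom_id_assoc, Over.w φ]
  refine ⟨Over.homMk (inv (pullback.fst φ.left j.left) ≫ pullback.snd φ.left j.left) hw, ?_⟩
  ext1
  change (inv (pullback.fst φ.left j.left) ≫ pullback.snd φ.left j.left) ≫ j.left = φ.left
  rw [Category.assoc, ← pullback.condition, IsIso.inv_hom_id_assoc]

end Main

end Groth.Agent.Lib.T2H3.MagnetDom
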