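import Mathlib
import Groth.Prelude.Def_Magnet3
import Groth.Agent.Lib.T2H3DiagQuotAlg
import Groth.Agent.Lib.T2H3MagnetDom

/-!
# The sequence `1 → D(M/Z) → D(M) → D(Z)` of diagonalizable groups

For a subgroup `Z` of a commutative group `M` and any base scheme `S`:
* `amonS_kernel`: `D(M/Z)_S` is the kernel of `D(M)_S → D(Z)_S` (a pullback square in `Over S`);
* `effectiveEpi_whiskerRight`: `D(M)_S × T → D(Z)_S × T` is flat, surjective and quasi-compact,
  hence an effective epimorphism of schemes.
-/

set_option autoImplicit false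
set_option linter.style.haveILetI false
universe u

open CategoryTheory CategoryTheory.Limits MonoidalCategory CartesianMonoidalCategory MonObj
  AlgebraicGeometry Opposite

namespace Groth.Agent.Lib.T2H3.DiagQuot

open Magnet Groth.Agent.Lib.T2H3

variable (R : Type u) [CommRing R] {M : Type} [AddCommGroup M] (Z : AddSubgroup M)

/-- the kernel square over an affine base, on underlying schemes. -/
theorem amon_kernel_left :
    IsPullback (AMon.map R (QuotientAddGroup.mk' Z)).left (toUnit (AMon R (M ⧸ Z))).left
      (AMon.map R Z.toAddSubmonoid.subtype).left η[AMon R ↥Z.toAddSubmonoid].left := by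
  have := isPullback_SpecMap_of_isPushout _ _ _ _ (DiagQuotAlg.isPushout R Z)
  exact this

theorem amon_kernel :
    IsPullback (AMon.map R (QuotientAddGroup.mk' Z)) (toUnit (AMon R (M ⧸ Z)))
      (AMon.map R Z.toAddSubmonoid.subtype) η[AMon R ↥Z.toAddSubmonoid] := by
  refine IsPullback.of_map (Over.forget _) ?_ (amon_kernel_left R Z)
  ext1
  exact (amon_kernel_left R Z).w

theorem flat_surjective_amon_map [Nontrivial R] :
    Flat (AMon.map R Z.toAddSubmonoid.subtype).left ∧
      Surjective (AMon.map R Z.toAddSubmonoid.subtype).left := by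
  have := (flat_and_surjective_SpecMap_iff
    (CommRingCat.ofHom (DiagQuotAlg.incl R Z).toRingHom)).mpr (DiagQuotAlg.faithfullyFlat_incl R Z)
  exact this

section Base

variable (S : Scheme.{u})

/-- `D(M/Z)_S` is the kernel of `D(M)_S → D(Z)_S`. -/
theorem amonS_kernel :
    IsPullback (AMonS.map S (QuotientAddGroup.mk' Z)) (toUnit (AMonS S (M ⧸ Z)))
      (AMonS.map S Z.toAddSubmonoid.subtype) η[AMonS S ↥Z.toAddSubmonoid] := by
  have h0 := amon_kernel (ULift.{u} ℤ) Z
  have h1 := h0.map (Over.pullback (Limits.IsTerminal.from specULiftZIsTerminal S))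
  refine IsPullback.of_iso h1 (Iso.refl _) (Iso.refl _)
    (Functor.Monoidal.εIso (Over.pullback (Limits.IsTerminal.from specULiftZIsTerminal S))).symm
    (Iso.refl _) ?_ ?_ ?_ ?_
  · simp [AMonS.map]
  · exact toUnit_unique _ _
  · simp [AMonS.map]
  · rw [Functor.obj.η_def]
    simp

end Base

section Whisker

variable {S : Scheme.{u}}

/-- `(m ▷ T).left` is the base change of `m.left`. -/
theorem isPullback_whiskerRight {A A' : Over S} (m : A ⟶ A') (T : Over S) :
    IsPullback (m ▷ T).left (pullback.fst A.hom T.hom) (pullback.fst A'.hom T.hom) m.left := by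
  refine IsPullback.of_right (h₁₂ := pullback.snd A'.hom T.hom) (v₁₃ := T.hom) (h₂₂ := A'.hom)
    ?_ ?_ (IsPullback.of_hasPullback A'.hom T.hom).flip
  · have h1 : (m ▷ T).left ≫ pullback.snd A'.hom T.hom = pullback.snd A.hom T.hom :=
      Over.whiskerRight_left_snd m
    rw [h1, Over.w m]
    exact (IsPullback.of_hasPullback A.hom T.hom).flip
  · exact Over.whiskerRight_left_fst m

/-- `((Over.pullback τ).map m).left` is the base change of `m.left`. -/
theorem isPullback_pullback_map {B₀ : Scheme.{u}} (τ : S ⟶ B₀) {A A' : Over B₀} (m : A ⟶ A') :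
    IsPullback ((Over.pullback τ).map m).left (pullback.fst A.hom τ) (pullback.fst A'.hom τ)
      m.left := by
  refine IsPullback.of_right (h₁₂ := pullback.snd A'.hom τ) (v₁₃ := τ) (h₂₂ := A'.hom)
    ?_ ?_ (IsPullback.of_hasPullback A'.hom τ).flip
  · have h1 : ((Over.pullback τ).map m).left ≫ pullback.snd A'.hom τ = pullback.snd A.hom τ :=
      pullback.lift_snd _ _ _
    rw [h1, Over.w m]
    exact (IsPullback.of_hasPullback A.hom τ).flip
  · exact pullback.lift_fst _ _ _

/-- a property stable under base change passes from `m.left` to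
`((Over.pullback τ).map m ▷ T).left`. -/
theorem prop_pullback_map_whiskerRight (P : MorphismProperty Scheme.{u})
    [P.IsStableUnderBaseChange] {B₀ : Scheme.{u}} (τ : S ⟶ B₀) {A A' : Over B₀} (m : A ⟶ A')
    (T : Over S) (h : P m.left) : P ((Over.pullback τ).map m ▷ T).left :=
  P.of_isPullback ((isPullback_whiskerRight ((Over.pullback τ).map m) T).paste_vert
    (isPullback_pullback_map τ m)).flip h

end Whisker

section Epi

variable (S : Scheme.{u})

/-- `D(M)_S × T → D(Z)_S × T` is flat, surjective and quasi-compact. -/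
theorem flat_surjective_qc (T : Over S) :
    Flat (AMonS.map S Z.toAddSubmonoid.subtype ▷ T).left ∧
    Surjective (AMonS.map S Z.toAddSubmonoid.subtype ▷ T).left ∧
    QuasiCompact (AMonS.map S Z.toAddSubmonoid.subtype ▷ T).left := by
  obtain ⟨h1, h2⟩ := flat_surjective_amon_map (ULift.{u} ℤ) Z
  have h3' : QuasiCompact (Spec.map (CommRingCat.ofHom
      (DiagQuotAlg.incl (ULift.{u} ℤ) Z).toRingHom)) := inferInstance
  have h3 : QuasiCompact (AMon.map (ULift.{u} ℤ) Z.toAddSubmonoid.subtype).left := h3'
  exact ⟨prop_pullback_map_whiskerRight @Flat _ _ T h1,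
    prop_pullback_map_whiskerRight @Surjective _ _ T h2,
    prop_pullback_map_whiskerRight @QuasiCompact _ _ T h3⟩

theorem effectiveEpi_whiskerRight (T : Over S) :
    EffectiveEpi (AMonS.map S Z.toAddSubmonoid.subtype ▷ T).left := by
  obtain ⟨h1, h2, h3⟩ := flat_surjective_qc Z S T
  infer_instance

end Epi

end Groth.Agent.Lib.T2H3.DiagQuot
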