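import Mathlib
import Groth.Prelude
import Groth.Agent.Lib.Helper22DiscPurity

set_option autoImplicit false
set_option linter.style.haveILetI false
universe u

/-!
# Discriminant purity, dimension form: a finite flat morphism over a locally Noetherian base which
is étale outside a closed set all of whose points have local dimension ≥ 2 is étale (helper3)
-/

namespace Groth.Agent.Lib.T2H3.DiscDim
open AlgebraicGeometry CategoryTheory CategoryTheory.Limits

/-- an element of a Noetherian ring which becomes, up to a multiple, a power of `g` for enough `g`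
is a unit: ring form via Krull's principal ideal theorem. -/
theorem isUnit_of_forall_height_le_one {A : Type*} [CommRing A] [IsNoetherianRing A] (d : A)
    (h : ∀ p : Ideal A, p.IsPrime → p.height ≤ 1 → d ∉ p) : IsUnit d := by
  by_contra hd
  have hne : Ideal.span {d} ≠ ⊤ := by
    rwa [Ne, Ideal.span_singleton_eq_top]
  obtain ⟨p, hp⟩ := Ideal.nonempty_minimalPrimes hne
  have hpp : p.IsPrime := hp.1.1
  have hht : p.height ≤ 1 :=
    Ideal.height_le_one_of_isPrincipal_of_mem_minimalPrimes (Ideal.span {d}) p hp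
  exact h p hpp hht (hp.1.2 (Ideal.subset_span rfl))

set_option backward.isDefEq.respectTransparency.types false in
theorem etale_app_of_free {X Y : Scheme.{u}} [IsLocallyNoetherian X] (π : Y ⟶ X) [IsFinite π]
    (U : X.Opens)
    (hU : ∀ x : X, x ∉ U → (2 : WithBot ℕ∞) ≤ ringKrullDim (X.presheaf.stalk x))
    [Etale (pullback.snd π U.ι)] (W : X.Opens) (hW : IsAffineOpen W)
    (hfree : @Module.Free Γ(X, W) Γ(Y, π ⁻¹ᵁ W) _ _ (π.app W).hom.toAlgebra.toModule) :
    (π.app W).hom.Etale := by
  letI : Algebra Γ(X, W) Γ(Y, π ⁻¹ᵁ W) := (π.app W).hom.toAlgebra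
  have hfin : Module.Finite Γ(X, W) Γ(Y, π ⁻¹ᵁ W) := π.finite_app W hW
  haveI : IsNoetherianRing Γ(X, W) := IsLocallyNoetherian.component_noetherian ⟨W, hW⟩
  classical
  let bas := Module.Free.chooseBasis Γ(X, W) Γ(Y, π ⁻¹ᵁ W)
  have hunit : IsUnit (Algebra.discr Γ(X, W) bas) := by
    apply isUnit_of_forall_height_le_one
    intro p hp hht hdp
    -- the point of `W` attached to `p`
    let P : Spec Γ(X, W) := ⟨p, hp⟩
    let x : X := hW.fromSpec P
    have hxW : x ∈ W := by
      have : x ∈ Set.range hW.fromSpec := ⟨P, rfl⟩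
      rw [hW.range_fromSpec] at this
      exact this
    have hprime : hW.primeIdealOf ⟨x, hxW⟩ = P := by
      apply hW.fromSpec.isOpenEmbedding.injective
      rw [hW.fromSpec_primeIdealOf]
    -- dimension of the local ring
    have hxU : x ∈ U := by
      by_contra hx
      have h2 := hU x hx
      letI : Algebra Γ(X, W) (X.presheaf.stalk x) :=
        TopCat.Presheaf.algebra_section_stalk X.presheaf ⟨x, hxW⟩
      haveI : IsLocalization.AtPrime (X.presheaf.stalk x) (hW.primeIdealOf ⟨x, hxW⟩).asIdeal :=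
        hW.isLocalization_stalk ⟨x, hxW⟩
      rw [IsLocalization.AtPrime.ringKrullDim_eq_height (hW.primeIdealOf ⟨x, hxW⟩).asIdeal
        (X.presheaf.stalk x), hprime] at h2
      have h3 : ((2 : ℕ∞) : WithBot ℕ∞) ≤ ((1 : ℕ∞) : WithBot ℕ∞) :=
        h2.trans (WithBot.coe_le_coe.mpr hht)
      have h4 : (2 : ℕ∞) ≤ 1 := WithBot.coe_le_coe.mp h3
      exact absurd h4 (by decide)
    -- a basic open around `x` inside `U`
    obtain ⟨g, hgU, hxg⟩ := hW.exists_basicOpen_le (V := U) ⟨x, hxU⟩ hxW
    obtain ⟨u, n, hu⟩ :=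
      Groth.Agent.Lib.Helper22.DiscPurity.exists_mul_eq_pow π U W hW bas g hgU
    have hgp : g ∈ p := by
      have : g ^ n ∈ p := by rw [← hu]; exact p.mul_mem_right _ hdp
      exact hp.mem_of_pow_mem n this
    have hgP : P ∈ hW.fromSpec ⁻¹ᵁ X.basicOpen g := hxg
    rw [hW.fromSpec_preimage_basicOpen] at hgP
    exact hgP hgp
  have : Algebra.Etale Γ(X, W) Γ(Y, π ⁻¹ᵁ W) :=
    (Groth.Agent.Lib.Helper20.TraceEt.etale_iff_isUnit_discr bas).mpr hunit
  exact this

set_option backward.isDefEq.respectTransparency.types false in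
theorem etale_of_flat {X : Scheme.{u}} [IsLocallyNoetherian X] (U : X.Opens)
    (hU : ∀ x : X, x ∉ U → (2 : WithBot ℕ∞) ≤ ringKrullDim (X.presheaf.stalk x))
    {Y : Scheme.{u}} (π : Y ⟶ X) [IsFinite π] [Etale (π ∣_ U)] [Flat π] :
    Etale π := by
  haveI : Etale (pullback.snd π U.ι) := by
    rw [← pullbackRestrictIsoRestrict_hom_morphismRestrict]
    infer_instance
  apply IsZariskiLocalAtTarget.of_forall_exists_morphismRestrict (P := @Etale)
  intro x
  obtain ⟨W', hW', hxW', hfree⟩ := Groth.Agent.Lib.Helper22.DiscPurity.exists_affine_free π x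
  exact ⟨W', hxW', Groth.Agent.Lib.Helper22.DiscPurity.etale_restrict_of_app π W' hW'
    (etale_app_of_free π U hU W' hW' hfree)⟩

end Groth.Agent.Lib.T2H3.DiscDim
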