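import Mathlib
import Groth.Agent.S5096
import Groth.Agent.Lib.Helper23SecTw6

/-!
# Frames of `O_X(D)`
-/

set_option autoImplicit false
set_option linter.style.haveILetI false
universe u
open CategoryTheory CategoryTheory.Limits AlgebraicGeometry TopologicalSpace Opposite

namespace Groth.Agent.Lib.T2H3.DivModFrame

open Groth.Agent.Lib.Helper23.SecTw Groth.Agent.Lib.Helper6 Groth.Agent.Lib.Helper23.GenLocus
open Mero Groth.Agent.Lib.Helper20.Kmod Groth.Agent.Lib.Helper20.Kmod5 Groth.Agent.S5097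
open Groth.Agent.S5096

variable {X : Scheme.{u}}

theorem invSec_apply (D : Divisor X) {U : X.Opens} (f : (Γ(kmod X, U))ˣ)
    (hf : ∀ y : U, D.1 y.1 = germOf f y) (W : X.Opens) (hW : W ≤ U) (y : W) :
    (invSec D f hf W hW).1 y = ((f⁻¹ : (Γ(kmod X, U))ˣ) : Γ(kmod X, U)).1 ⟨y.1, hW y.2⟩ := rfl

theorem res_invSec (D : Divisor X) {U : X.Opens} (f : (Γ(kmod X, U))ˣ)
    (hf : ∀ y : U, D.1 y.1 = germOf f y) (W W' : X.Opens) (hW : W ≤ U) (hW' : W' ≤ W) :
    res (divMod D) hW' (invSec D f hf W hW) = invSec D f hf W' (hW'.trans hW) := rfl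

theorem divMod_ext {D : Divisor X} {W : X.Opens} {t t' : Γ(divMod D, W)}
    (h : ∀ y : W, t.1 y = t'.1 y) : t = t' := Subtype.ext (funext h)

theorem divMod_smul_apply {D : Divisor X} {W : X.Opens} (r : Γ(X, W)) (t : Γ(divMod D, W)) (y : W) :
    (r • t).1 y = X.presheaf.germ W y.1 y.2 r • t.1 y := rfl

theorem mul_inv_apply {U : X.Opens} (f : (Γ(kmod X, U))ˣ) (y : U) :
    (f : Γ(kmod X, U)).1 y * ((f⁻¹ : (Γ(kmod X, U))ˣ) : Γ(kmod X, U)).1 y = 1 := by
  have h1 : (f : Γ(kmod X, U)) * ((f⁻¹ : (Γ(kmod X, U))ˣ) : Γ(kmod X, U)) = 1 := f.mul_inv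
  exact congrArg (fun g : Γ(kmod X, U) => g.1 y) h1

/-- Lemma F: `f⁻¹` is a frame of `O_X(D)` where `D = div f`. -/
theorem isGen_invSec (D : Divisor X) {U : X.Opens} (f : (Γ(kmod X, U))ˣ)
    (hf : ∀ y : U, D.1 y.1 = germOf f y) (W : X.Opens) (hW : W ≤ U) :
    IsGen (divMod D) W (invSec D f hf W hW) := by
  intro W' hW'
  rw [show (fun r : Γ(X, W') => r • res (divMod D) hW' (invSec D f hf W hW)) =
    fun r : Γ(X, W') => r • invSec D f hf W' (hW'.trans hW) from rfl]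
  have hWU : W' ≤ U := hW'.trans hW
  constructor
  · intro r r' hrr'
    apply TopCat.Presheaf.section_ext X.sheaf
    intro y hy
    have h2 := congrArg (fun t : Γ(divMod D, W') => t.1 ⟨y, hy⟩) hrr'
    change X.presheaf.germ _ y hy r • ((f⁻¹ : (Γ(kmod X, U))ˣ) : Γ(kmod X, U)).1 ⟨y, hWU hy⟩ =
      X.presheaf.germ _ y hy r' • ((f⁻¹ : (Γ(kmod X, U))ˣ) : Γ(kmod X, U)).1 ⟨y, hWU hy⟩ at h2
    rw [Algebra.smul_def, Algebra.smul_def] at h2
    have h3 := congrArg (fun t => t * (f : Γ(kmod X, U)).1 ⟨y, hWU hy⟩) h2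
    simp only [mul_assoc] at h3
    rw [mul_comm _ ((f : Γ(kmod X, U)).1 ⟨y, hWU hy⟩), mul_inv_apply, mul_one, mul_one] at h3
    exact algebraMap_KStalk_injective y h3
  · intro t
    let tK : Γ(kmod X, W') := ⟨t.1, t.2.1⟩
    let fW : Γ(kmod X, W') := (kmod X).presheaf.map (homOfLE hWU).op (f : Γ(kmod X, U))
    have hrange : ∀ y : W', (tK * fW).1 y ∈
        (algebraMap (X.presheaf.stalk y.1) (KStalk X y.1)).range := by
      intro y
      exact t.2.2 y (valU f ⟨y.1, hWU y.2⟩) (hf ⟨y.1, hWU y.2⟩)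
    obtain ⟨r', hr'⟩ := exists_toK_eq (tK * fW) hrange
    refine ⟨r', ?_⟩
    apply divMod_ext
    intro y
    rw [divMod_smul_apply, invSec_apply, Algebra.smul_def, Groth.Agent.S10856.algebraMap_eq_mk,
      ← toK_apply, hr']
    change (t.1 y * (f : Γ(kmod X, U)).1 ⟨y.1, hWU y.2⟩) * _ = _
    rw [mul_assoc, mul_inv_apply, mul_one]

end Groth.Agent.Lib.T2H3.DivModFrame
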