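import Mathlib
import Groth.Agent.Lib.T2H3DivModFrame
import Groth.Agent.Lib.Helper23SecTw5

/-!
# `O_X(D) ⊗ O_X(E) ≅ O_X(D E)`
-/

set_option autoImplicit false
set_option linter.style.haveILetI false
universe u
open CategoryTheory CategoryTheory.Limits AlgebraicGeometry TopologicalSpace Opposite

namespace Groth.Agent.Lib.T2H3.DivModMul

open Groth.Agent.Lib.Helper23.SecTw Groth.Agent.Lib.Helper6 Groth.Agent.Lib.Helper23.GenLocus
open Mero Groth.Agent.Lib.Helper20.Kmod Groth.Agent.S5097 Groth.Agent.S5096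
open Groth.Agent.Lib.T2H3.DivModFrame Groth.Agent.Lib.Helper23.Extend

variable {X : Scheme.{u}}

/-- restriction of units of `K_X`. -/
noncomputable def resU {U W : X.Opens} (h : W ≤ U) (f : (Γ(kmod X, U))ˣ) : (Γ(kmod X, W))ˣ :=
  Units.map ((kring X).obj.map (homOfLE h).op).hom.toMonoidHom f

theorem resU_apply {U W : X.Opens} (h : W ≤ U) (f : (Γ(kmod X, U))ˣ) (y : W) :
    (resU h f : Γ(kmod X, W)).1 y = (f : Γ(kmod X, U)).1 ⟨y.1, h y.2⟩ := rfl

theorem resU_inv_apply {U W : X.Opens} (h : W ≤ U) (f : (Γ(kmod X, U))ˣ) (y : W) :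
    (((resU h f)⁻¹ : (Γ(kmod X, W))ˣ) : Γ(kmod X, W)).1 y =
      ((f⁻¹ : (Γ(kmod X, U))ˣ) : Γ(kmod X, U)).1 ⟨y.1, h y.2⟩ := by
  have h1 : (resU h f)⁻¹ = resU h f⁻¹ :=
    (map_inv (Units.map ((kring X).obj.map (homOfLE h).op).hom.toMonoidHom) f).symm
  rw [h1]
  rfl

theorem germOf_mul {D E : Divisor X} {U U' : X.Opens} (f : (Γ(kmod X, U))ˣ) (g : (Γ(kmod X, U'))ˣ)
    (hf : ∀ y : U, D.1 y.1 = germOf f y) (hg : ∀ y : U', E.1 y.1 = germOf g y)
    (y : (U ⊓ U' : X.Opens)) :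
    (D * E).1 y.1 = germOf (resU (inf_le_left : U ⊓ U' ≤ U) f * resU (inf_le_right : U ⊓ U' ≤ U') g) y := by
  change D.1 y.1 * E.1 y.1 = _
  rw [hf ⟨y.1, y.2.1⟩, hg ⟨y.1, y.2.2⟩, germOf, germOf, germOf, ← QuotientGroup.mk_mul]
  exact congrArg _ (Units.ext rfl)

/-- the value of the product frame. -/
theorem invSec_mul_apply {D E : Divisor X} {U U' : X.Opens} (f : (Γ(kmod X, U))ˣ)
    (g : (Γ(kmod X, U'))ˣ)
    (hf : ∀ y : U, D.1 y.1 = germOf f y) (hg : ∀ y : U', E.1 y.1 = germOf g y)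
    (A : X.Opens) (hA : A ≤ U ⊓ U') (y : A) :
    (invSec (D * E) (resU (inf_le_left : U ⊓ U' ≤ U) f * resU (inf_le_right : U ⊓ U' ≤ U') g)
      (germOf_mul f g hf hg) A hA).1 y =
    ((f⁻¹ : (Γ(kmod X, U))ˣ) : Γ(kmod X, U)).1 ⟨y.1, (hA y.2).1⟩ *
      ((g⁻¹ : (Γ(kmod X, U'))ˣ) : Γ(kmod X, U')).1 ⟨y.1, (hA y.2).2⟩ := by
  rw [invSec_apply, mul_inv, Units.val_mul, kmod_mul_apply, resU_inv_apply, resU_inv_apply]

/-- coefficient of a section of `O_X(D)` in the frame `f⁻¹`, pointwise. -/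
theorem exists_coef_invSec (D : Divisor X) {U : X.Opens} (f : (Γ(kmod X, U))ˣ)
    (hf : ∀ y : U, D.1 y.1 = germOf f y) (A : X.Opens) (hA : A ≤ U) (t : Γ(divMod D, A)) :
    ∃ c : Γ(X, A), c • invSec D f hf A hA = t ∧ ∀ y : A, t.1 y =
      algebraMap _ _ (X.presheaf.germ A y.1 y.2 c) *
        ((f⁻¹ : (Γ(kmod X, U))ˣ) : Γ(kmod X, U)).1 ⟨y.1, hA y.2⟩ := by
  obtain ⟨c, hc⟩ := (isGen_invSec D f hf A hA A le_rfl).2 t
  have hc' : c • invSec D f hf A hA = t := hc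
  refine ⟨c, hc', fun y => ?_⟩
  rw [← hc', divMod_smul_apply, invSec_apply, Algebra.smul_def]

theorem main (D E : Divisor X) :
    ∃ μ : CohB1.tensorMod (divMod D) (divMod E) ⟶ divMod (D * E),
      (∀ (U : X.Opens) (t : Γ(divMod D, U)) (t' : Γ(divMod E, U)),
        (divModι (D * E)).app U (μ.app U (SecTwist.tmul (divMod D) (divMod E) U t t')) =
          (divModι D).app U t * (divModι E).app U t') ∧ IsIso μ := by
  choose U hxU f hf using D.2
  choose U' hxU' g hg using E.2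
  let W : X → X.Opens := fun x => U x ⊓ U' x
  have hcov : ∀ x : X, ∃ i, x ∈ W i := fun x => ⟨x, hxU x, hxU' x⟩
  let a : ∀ i, Γ(CohB1.tensorMod (divMod D) (divMod E), W i) := fun i =>
    tm (divMod D) (divMod E) (W i) (invSec D (f i) (hf i) (W i) inf_le_left)
      (invSec E (g i) (hg i) (W i) inf_le_right)
  let b : ∀ i, Γ(divMod (D * E), W i) := fun i =>
    invSec (D * E) (resU inf_le_left (f i) * resU inf_le_right (g i))
      (germOf_mul (f i) (g i) (hf i) (hg i)) (W i) le_rfl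
  have ha : ∀ i, IsGen _ (W i) (a i) := fun i =>
    isGen_tm _ _ _ _ _ (isGen_invSec D (f i) (hf i) (W i) inf_le_left)
      (isGen_invSec E (g i) (hg i) (W i) inf_le_right)
  have hb : ∀ i, IsGen _ (W i) (b i) := fun i => isGen_invSec (D * E) _ _ (W i) le_rfl
  -- restriction of the frames
  have hresa : ∀ i (A : X.Opens) (hA : A ≤ W i), res _ hA (a i) =
      tm (divMod D) (divMod E) A (invSec D (f i) (hf i) A (hA.trans inf_le_left))
        (invSec E (g i) (hg i) A (hA.trans inf_le_right)) := fun i A hA => res_tm _ _ hA _ _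
  have hresb : ∀ i (A : X.Opens) (hA : A ≤ W i) (y : A), (res (divMod (D * E)) hA (b i)).1 y =
      (((f i)⁻¹ : (Γ(kmod X, U i))ˣ) : Γ(kmod X, U i)).1 ⟨y.1, (hA y.2).1⟩ *
        (((g i)⁻¹ : (Γ(kmod X, U' i))ˣ) : Γ(kmod X, U' i)).1 ⟨y.1, (hA y.2).2⟩ := fun i A hA y =>
    invSec_mul_apply (f i) (g i) (hf i) (hg i) A hA y
  have hc : ∀ i j (r : Γ(X, W i ⊓ W j)),
      res _ inf_le_left (a i) = r • res _ inf_le_right (a j) →
      res _ inf_le_left (b i) = r • res _ inf_le_right (b j) := by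
    intro i j r hr
    have hAi : W i ⊓ W j ≤ W i := inf_le_left
    have hAj : W i ⊓ W j ≤ W j := inf_le_right
    obtain ⟨u, hu, hu'⟩ := exists_coef_invSec D (f j) (hf j) (W i ⊓ W j) (hAj.trans inf_le_left)
      (invSec D (f i) (hf i) (W i ⊓ W j) (hAi.trans inf_le_left))
    obtain ⟨v, hv, hv'⟩ := exists_coef_invSec E (g j) (hg j) (W i ⊓ W j) (hAj.trans inf_le_right)
      (invSec E (g i) (hg i) (W i ⊓ W j) (hAi.trans inf_le_right))
    have h1 : res _ hAi (a i) = (u * v) • res _ hAj (a j) := by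
      rw [hresa i _ hAi, hresa j _ hAj, ← hu, ← hv, tm_smul_left, tm_smul_right, smul_smul]
    have hruv : r = u * v := by
      apply (ha j _ hAj).1
      change r • res _ hAj (a j) = (u * v) • res _ hAj (a j)
      rw [← hr, h1]
    rw [hruv]
    apply divMod_ext
    intro y
    rw [divMod_smul_apply, hresb i _ hAi y, hresb j _ hAj y, Algebra.smul_def, map_mul, map_mul]
    have e1 := hu' y
    have e2 := hv' y
    rw [invSec_apply] at e1 e2
    rw [e1, e2]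
    ring
  obtain ⟨Φ, hΦ⟩ := exists_iso_of_frames _ _ W hcov a b ha hb hc
  refine ⟨Φ.hom, ?_, inferInstance⟩
  intro U₀ t t'
  apply kmod_ext
  intro y
  change (Φ.hom.app U₀ (tm (divMod D) (divMod E) U₀ t t')).1 y = t.1 y * t'.1 y
  set i : X := y.1 with hi
  set A : X.Opens := U₀ ⊓ W i with hA
  have hy : y.1 ∈ A := ⟨y.2, hxU i, hxU' i⟩
  have hAW : A ≤ W i := inf_le_right
  have hAU : A ≤ U₀ := inf_le_left
  obtain ⟨c, hc1, hc2⟩ := exists_coef_invSec D (f i) (hf i) A (hAW.trans inf_le_left)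
    (res (divMod D) hAU t)
  obtain ⟨c', hc1', hc2'⟩ := exists_coef_invSec E (g i) (hg i) A (hAW.trans inf_le_right)
    (res (divMod E) hAU t')
  have h1 : res _ hAU (Φ.hom.app U₀ (tm (divMod D) (divMod E) U₀ t t')) =
      (c * c') • res _ hAW (b i) := by
    have h2 := (app_map Φ.hom (homOfLE hAU) (tm (divMod D) (divMod E) U₀ t t')).symm
    refine h2.trans ?_
    change Φ.hom.app A (res _ hAU (tm (divMod D) (divMod E) U₀ t t')) = _
    rw [res_tm, ← hc1, ← hc1', tm_smul_left, tm_smul_right, smul_smul, ← hresa i A hAW, hΦ]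
  have h3 := congrArg (fun τ : Γ(divMod (D * E), A) => τ.1 ⟨y.1, hy⟩) h1
  change (Φ.hom.app U₀ (tm (divMod D) (divMod E) U₀ t t')).1 y =
    ((c * c') • res _ hAW (b i)).1 ⟨y.1, hy⟩ at h3
  rw [h3, divMod_smul_apply, hresb i A hAW ⟨y.1, hy⟩, Algebra.smul_def, map_mul, map_mul]
  have e1 := hc2 ⟨y.1, hy⟩
  have e2 := hc2' ⟨y.1, hy⟩
  change t.1 y = _ at e1
  change t'.1 y = _ at e2
  rw [e1, e2]
  ring

end Groth.Agent.Lib.T2H3.DivModMul
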