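import Mathlib
import Groth.Prelude.Def_RefHull
import Groth.Agent.Lib.Helper2QCoh
import Groth.Agent.Lib.Helper3AffFP
import Groth.Agent.Lib.T2H8FTGerms
import Groth.Agent.Lib.Helper18Strict6

/-!
# The stalk of the sheaf Hom out of a finitely presented module

Library for S16485 (namespace `Groth.Agent.Lib.T2H3.HomShStalk`): for `F` of finite presentation the canonical map
`𝓗om(F, G)_x → Hom(F_x, G_x)` (`RefHull.evalStalk`) is surjective (injectivity is `T2H8FTGerms.main_S16484`).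

The set-up: `U` an affine open, `f : A^n → Γ(F, U)` surjective, `g : A^k → A^n` with `g, f` exact (`A = Γ(X, U)`).
* `exists_repr`: germs of the generators span every stalk `F_y`, `y ∈ U`.
* `exists_rel`: a relation between the germs of the generators at `y` is a combination of the germs of relations.
* `fam`: from sections `gs i` of `G` over `V ≤ U` satisfying the relations, the stalk maps `F_y → G_y`, `y ∈ V`.
* `isLocSect_fam`: these form a section of `𝓗om(F, G)` over `V`.
-/

set_option autoImplicit false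
set_option linter.style.haveILetI false

universe u

open CategoryTheory AlgebraicGeometry TopologicalSpace Opposite

namespace Groth.Agent.Lib.T2H3.HomShStalk

open Groth.Agent.Lib.Helper2

variable {X : Scheme.{u}}

section Pres

variable {F : X.Modules} [F.IsQuasicoherent] {U : X.Opens} (hU : IsAffineOpen U) {n k : ℕ}
  (f : (Fin n → Γ(X, U)) →ₗ[Γ(X, U)] Γ(F, U)) (g : (Fin k → Γ(X, U)) →ₗ[Γ(X, U)] (Fin n → Γ(X, U)))

/-- the generators -/
noncomputable def gen (i : Fin n) : Γ(F, U) := f (Pi.single i 1)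

/-- the relations -/
noncomputable def rel (j : Fin k) : Fin n → Γ(X, U) := g (Pi.single j 1)

omit [F.IsQuasicoherent] in
theorem f_apply (c : Fin n → Γ(X, U)) : f c = ∑ i, c i • gen f i := by
  conv_lhs => rw [← Finset.univ_sum_single c]
  rw [map_sum]
  refine Finset.sum_congr rfl fun i _ => ?_
  rw [show (Pi.single i (c i) : Fin n → Γ(X, U)) = c i • Pi.single i 1 by
    rw [← Pi.single_smul, smul_eq_mul, mul_one], map_smul]
  rfl

omit [F.IsQuasicoherent] in
theorem g_apply (d : Fin k → Γ(X, U)) : g d = ∑ j, d j • rel g j := by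
  conv_lhs => rw [← Finset.univ_sum_single d]
  rw [map_sum]
  refine Finset.sum_congr rfl fun j _ => ?_
  rw [show (Pi.single j (d j) : Fin k → Γ(X, U)) = d j • Pi.single j 1 by
    rw [← Pi.single_smul, smul_eq_mul, mul_one], map_smul]
  rfl

omit [F.IsQuasicoherent] in
theorem germ_sum_smul {G : X.Modules} {V : X.Opens} (y : X) (hy : y ∈ V) {ι : Type*} (s : Finset ι)
    (c : ι → Γ(X, V)) (m : ι → Γ(G, V)) :
    G.presheaf.germ V y hy (∑ i ∈ s, c i • m i) =
      ∑ i ∈ s, X.presheaf.germ V y hy (c i) • G.presheaf.germ V y hy (m i) := by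
  rw [map_sum]
  exact Finset.sum_congr rfl fun i _ => QCoh.germ_smul G y V hy _ _

include hU in
/-- the germs of the generators span the stalks -/
theorem exists_repr (hf : Function.Surjective f) (y : X) (hy : y ∈ U) (v : F.presheaf.stalk y) :
    ∃ c : Fin n → X.presheaf.stalk y, v = ∑ i, c i • F.presheaf.germ U y hy (gen f i) := by
  obtain ⟨s, m, hs, hsm⟩ := QCoh.exists_smul_eq_germ hU F y hy v
  obtain ⟨c₀, rfl⟩ := hf m
  rw [f_apply, germ_sum_smul] at hsm
  obtain ⟨u, hu⟩ := (X.mem_basicOpen s y hy).mp hs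
  refine ⟨fun i => (u⁻¹ : (X.presheaf.stalk y)ˣ).1 * X.presheaf.germ U y hy (c₀ i), ?_⟩
  have h1 : v = (u⁻¹ : (X.presheaf.stalk y)ˣ).1 • (X.presheaf.germ U y hy s • v) := by
    rw [← hu, smul_smul, Units.inv_mul, one_smul]
  rw [h1, hsm, Finset.smul_sum]
  exact Finset.sum_congr rfl fun i _ => by rw [smul_smul]

include hU in
/-- a relation between the germs of the generators is a combination of the germs of the relations -/
theorem exists_rel (hfg : Function.Exact g f) (y : X) (hy : y ∈ U) (c : Fin n → X.presheaf.stalk y)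
    (hc : ∑ i, c i • F.presheaf.germ U y hy (gen f i) = 0) :
    ∃ d : Fin k → X.presheaf.stalk y, ∀ i, c i = ∑ j, d j * X.presheaf.germ U y hy (rel g j i) := by
  letI := TopCat.Presheaf.algebra_section_stalk X.presheaf ⟨y, hy⟩
  haveI := hU.isLocalization_stalk ⟨y, hy⟩
  have hmap : ∀ a : Γ(X, U), algebraMap Γ(X, U) (X.presheaf.stalk y) a = X.presheaf.germ U y hy a :=
    fun _ => rfl
  obtain ⟨b, hb⟩ := IsLocalization.exist_integer_multiples_of_finite
    (hU.primeIdealOf ⟨y, hy⟩).asIdeal.primeCompl c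
  choose a ha using hb
  -- `germ b * c i = germ (a i)`
  have ha' : ∀ i, X.presheaf.germ U y hy b.1 * c i = X.presheaf.germ U y hy (a i) := by
    intro i
    have := ha i
    rw [hmap, Algebra.smul_def, hmap] at this
    exact this.symm
  have hbu : IsUnit (X.presheaf.germ U y hy b.1) := by
    rw [← X.mem_basicOpen b.1 y hy, Groth.Agent.Lib.Helper2.mem_basicOpen_iff_notMem_primeIdealOf hU y hy]
    exact b.2
  -- the germ of `f a` vanishes
  have h0 : F.presheaf.germ U y hy (f a) = 0 := by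
    rw [f_apply, germ_sum_smul]
    have : ∑ i, X.presheaf.germ U y hy (a i) • F.presheaf.germ U y hy (gen f i) =
        X.presheaf.germ U y hy b.1 • ∑ i, c i • F.presheaf.germ U y hy (gen f i) := by
      rw [Finset.smul_sum]
      exact Finset.sum_congr rfl fun i _ => by rw [smul_smul, ha']
    rw [this, hc, smul_zero]
  obtain ⟨t, ht, htm⟩ := QCoh.exists_smul_eq_zero_of_germ_eq_zero hU F y hy (f a) h0
  have htu : IsUnit (X.presheaf.germ U y hy t) := (X.mem_basicOpen t y hy).mp ht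
  rw [← map_smul] at htm
  obtain ⟨d₀, hd₀⟩ := (hfg (t • a)).mp htm
  rw [g_apply] at hd₀
  obtain ⟨ub, hub⟩ := hbu
  obtain ⟨ut, hut⟩ := htu
  refine ⟨fun j => (ub⁻¹ : (X.presheaf.stalk y)ˣ).1 * (ut⁻¹ : (X.presheaf.stalk y)ˣ).1 *
    X.presheaf.germ U y hy (d₀ j), fun i => ?_⟩
  have h1 := congrArg (fun w : Fin n → Γ(X, U) => X.presheaf.germ U y hy (w i)) hd₀
  simp only [Finset.sum_apply, Pi.smul_apply, smul_eq_mul, map_sum, map_mul] at h1
  have h2 : c i = (ub⁻¹ : (X.presheaf.stalk y)ˣ).1 * (ut⁻¹ : (X.presheaf.stalk y)ˣ).1 *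
      (X.presheaf.germ U y hy t * X.presheaf.germ U y hy (a i)) := by
    rw [← ha' i, ← hub, ← hut]
    have e1 : (ub⁻¹ : (X.presheaf.stalk y)ˣ).1 * (ut⁻¹ : (X.presheaf.stalk y)ˣ).1 *
        ((ut : X.presheaf.stalk y) * ((ub : X.presheaf.stalk y) * c i)) =
        ((ub⁻¹ : (X.presheaf.stalk y)ˣ).1 * (ub : X.presheaf.stalk y)) *
          ((ut⁻¹ : (X.presheaf.stalk y)ˣ).1 * (ut : X.presheaf.stalk y)) * c i := by ring
    rw [e1, Units.inv_mul, Units.inv_mul, one_mul, one_mul]
  rw [h2, ← h1, Finset.mul_sum]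
  exact Finset.sum_congr rfl fun j _ => by ring

end Pres

section Fam

variable {F G : X.Modules} [F.IsQuasicoherent] {U : X.Opens} (hU : IsAffineOpen U) {n k : ℕ}
  (f : (Fin n → Γ(X, U)) →ₗ[Γ(X, U)] Γ(F, U)) (g : (Fin k → Γ(X, U)) →ₗ[Γ(X, U)] (Fin n → Γ(X, U)))
  (hf : Function.Surjective f) (hfg : Function.Exact g f)
  {V : X.Opens} (hVU : V ≤ U) (gs : Fin n → Γ(G, V))
  (hgs : ∀ j, ∑ i, X.presheaf.map (homOfLE hVU).op (rel g j i) • gs i = 0)

/-- `O_y^n → F_y` given by the germs of the generators -/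
noncomputable def piY (y : X) (hy : y ∈ U) :
    (Fin n → X.presheaf.stalk y) →ₗ[X.presheaf.stalk y] F.presheaf.stalk y :=
  Fintype.linearCombination (X.presheaf.stalk y) (fun i => F.presheaf.germ U y hy (gen f i))

/-- `O_y^n → G_y` given by the germs of the chosen sections -/
noncomputable def gamY (y : X) (hy : y ∈ V) :
    (Fin n → X.presheaf.stalk y) →ₗ[X.presheaf.stalk y] G.presheaf.stalk y :=
  Fintype.linearCombination (X.presheaf.stalk y) (fun i => G.presheaf.germ V y hy (gs i))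

omit [F.IsQuasicoherent] in
theorem piY_apply (y : X) (hy : y ∈ U) (c : Fin n → X.presheaf.stalk y) :
    piY f y hy c = ∑ i, c i • F.presheaf.germ U y hy (gen f i) :=
  Fintype.linearCombination_apply _ _ _

omit [F.IsQuasicoherent] in
theorem gamY_apply (y : X) (hy : y ∈ V) (c : Fin n → X.presheaf.stalk y) :
    gamY gs y hy c = ∑ i, c i • G.presheaf.germ V y hy (gs i) :=
  Fintype.linearCombination_apply _ _ _

include hU hf in
theorem piY_surjective (y : X) (hy : y ∈ U) : Function.Surjective (piY f y hy) := by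
  intro v
  obtain ⟨c, hc⟩ := exists_repr hU f hf y hy v
  exact ⟨c, by rw [piY_apply, hc]⟩

include hU hfg hgs in
theorem ker_piY_le (y : X) (hy : y ∈ V) :
    LinearMap.ker (piY f y (hVU hy)) ≤ LinearMap.ker (gamY gs y hy) := by
  intro c hc
  rw [LinearMap.mem_ker, piY_apply] at hc
  obtain ⟨d, hd⟩ := exists_rel hU f g hfg y (hVU hy) c hc
  rw [LinearMap.mem_ker, gamY_apply]
  have h1 : ∀ j, ∑ i, X.presheaf.germ U y (hVU hy) (rel g j i) • G.presheaf.germ V y hy (gs i) = 0 := by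
    intro j
    have := congrArg (G.presheaf.germ V y hy) (hgs j)
    rw [germ_sum_smul, map_zero] at this
    rw [← this]
    refine Finset.sum_congr rfl fun i _ => ?_
    rw [TopCat.Presheaf.germ_res_apply]
  calc ∑ i, c i • G.presheaf.germ V y hy (gs i)
      = ∑ i, ∑ j, d j • (X.presheaf.germ U y (hVU hy) (rel g j i) • G.presheaf.germ V y hy (gs i)) := by
        refine Finset.sum_congr rfl fun i _ => ?_
        rw [hd i, Finset.sum_smul]
        exact Finset.sum_congr rfl fun j _ => by rw [mul_smul]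
    _ = ∑ j, d j • ∑ i, X.presheaf.germ U y (hVU hy) (rel g j i) • G.presheaf.germ V y hy (gs i) := by
        rw [Finset.sum_comm]
        exact Finset.sum_congr rfl fun j _ => by rw [Finset.smul_sum]
    _ = 0 := by
        refine Finset.sum_eq_zero fun j _ => ?_
        rw [h1 j, smul_zero]

/-- the stalk map `F_y → G_y` sending the germs of the generators to the germs of the chosen sections -/
noncomputable def fam (y : X) (hy : y ∈ V) : RefHull.StalkHom F G y :=
  ((LinearMap.ker (piY f y (hVU hy))).liftQ (gamY gs y hy) (ker_piY_le hU f g hfg hVU gs hgs y hy)) ∘ₗ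
    ((piY f y (hVU hy)).quotKerEquivOfSurjective (piY_surjective hU f hf y (hVU hy))).symm.toLinearMap

theorem fam_piY (y : X) (hy : y ∈ V) (c : Fin n → X.presheaf.stalk y) :
    fam hU f g hf hfg hVU gs hgs y hy (piY f y (hVU hy) c) = gamY gs y hy c := by
  have h1 : ((piY f y (hVU hy)).quotKerEquivOfSurjective (piY_surjective hU f hf y (hVU hy))).symm
      (piY f y (hVU hy) c) = Submodule.Quotient.mk c := by
    rw [LinearEquiv.symm_apply_eq]
    rfl
  change ((LinearMap.ker (piY f y (hVU hy))).liftQ (gamY gs y hy)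
    (ker_piY_le hU f g hfg hVU gs hgs y hy))
    (((piY f y (hVU hy)).quotKerEquivOfSurjective (piY_surjective hU f hf y (hVU hy))).symm
      (piY f y (hVU hy) c)) = _
  rw [h1]
  rfl

theorem fam_apply (y : X) (hy : y ∈ V) (c : Fin n → X.presheaf.stalk y) :
    fam hU f g hf hfg hVU gs hgs y hy (∑ i, c i • F.presheaf.germ U y (hVU hy) (gen f i)) =
      ∑ i, c i • G.presheaf.germ V y hy (gs i) := by
  rw [← piY_apply, fam_piY, gamY_apply]

omit [F.IsQuasicoherent] in
theorem map_sum_smul {H : X.Modules} {V₁ V₂ : X.Opens} (i : V₂ ⟶ V₁) {ι : Type*} (s : Finset ι)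
    (c : ι → Γ(X, V₁)) (m : ι → Γ(H, V₁)) :
    H.presheaf.map i.op (∑ l ∈ s, c l • m l) =
      ∑ l ∈ s, X.presheaf.map i.op (c l) • H.presheaf.map i.op (m l) := by
  rw [map_sum]
  exact Finset.sum_congr rfl fun l _ => Scheme.Modules.map_smul H i _ _

theorem isLocSect_fam :
    RefHull.IsLocSect F G (fun y : V => fam hU f g hf hfg hVU gs hgs y.1 y.2) := by
  intro V' i m z
  have hzU : z.1 ∈ U := hVU (i.le z.2)
  obtain ⟨t, htV', hzt⟩ := hU.exists_basicOpen_le (V := V') ⟨z.1, z.2⟩ hzU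
  obtain ⟨N, m', hm'⟩ := QCoh.exists_extension hU F t (F.presheaf.map (homOfLE htV').op m)
  obtain ⟨c₀, rfl⟩ := hf m'
  obtain ⟨u, hu⟩ : IsUnit (X.presheaf.map (homOfLE (X.basicOpen_le t)).op t) :=
    RingedSpace.isUnit_res_basicOpen X.toRingedSpace t
  let iU : X.basicOpen t ⟶ U := homOfLE (X.basicOpen_le t)
  let iV : X.basicOpen t ⟶ V := homOfLE (htV'.trans i.le)
  let a : Fin n → Γ(X, X.basicOpen t) := fun l =>
    ((u⁻¹ : Γ(X, X.basicOpen t)ˣ).1) ^ N * X.presheaf.map iU.op (c₀ l)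
  have hmW : F.presheaf.map (homOfLE htV').op m =
      ∑ l, a l • F.presheaf.map iU.op (gen f l) := by
    have h1 : F.presheaf.map (homOfLE htV').op m =
        ((u⁻¹ : Γ(X, X.basicOpen t)ˣ).1) ^ N • ((X.presheaf.map (homOfLE (X.basicOpen_le t)).op t) ^ N •
          F.presheaf.map (homOfLE htV').op m) := by
      rw [smul_smul, ← mul_pow, ← hu, Units.inv_mul, one_pow, one_smul]
    rw [h1, ← hm', f_apply, map_sum_smul, Finset.smul_sum]
    exact Finset.sum_congr rfl fun l _ => by rw [smul_smul]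
  refine ⟨X.basicOpen t, hzt, homOfLE htV', ∑ l, a l • G.presheaf.map iV.op (gs l), fun y => ?_⟩
  have e1 : F.presheaf.germ V' y.1 ((homOfLE htV').le y.2) m =
      ∑ l, X.presheaf.germ (X.basicOpen t) y.1 y.2 (a l) •
        F.presheaf.germ U y.1 (hVU (iV.le y.2)) (gen f l) := by
    rw [← TopCat.Presheaf.germ_res_apply F.presheaf (homOfLE htV') y.1 y.2 m, hmW, germ_sum_smul]
    refine Finset.sum_congr rfl fun l _ => ?_
    rw [TopCat.Presheaf.germ_res_apply]
  have e2 : G.presheaf.germ (X.basicOpen t) y.1 y.2 (∑ l, a l • G.presheaf.map iV.op (gs l)) =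
      ∑ l, X.presheaf.germ (X.basicOpen t) y.1 y.2 (a l) • G.presheaf.germ V y.1 (iV.le y.2) (gs l) := by
    rw [germ_sum_smul]
    refine Finset.sum_congr rfl fun l _ => ?_
    rw [TopCat.Presheaf.germ_res_apply]
  rw [e2]
  change fam hU f g hf hfg hVU gs hgs y.1 (iV.le y.2) _ = _
  rw [e1]
  exact fam_apply hU f g hf hfg hVU gs hgs y.1 (iV.le y.2) _

/-- the section of the sheaf Hom defined by the family -/
noncomputable def famSec : Γ(RefHull.homSh F G, V) :=
  ⟨fun y => fam hU f g hf hfg hVU gs hgs y.1 y.2, isLocSect_fam hU f g hf hfg hVU gs hgs⟩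

end Fam

section Main

/-- finitely many local conditions at a point hold on a common neighbourhood -/
theorem exists_nhd_forall {ι : Type*} [Finite ι] (x : X) (U₀ : X.Opens) (hx : x ∈ U₀)
    (P : ι → X.Opens → Prop) (hmono : ∀ i (W W' : X.Opens), W' ≤ W → P i W → P i W')
    (hP : ∀ i, ∃ W : X.Opens, x ∈ W ∧ P i W) :
    ∃ W : X.Opens, x ∈ W ∧ W ≤ U₀ ∧ ∀ i, P i W := by
  choose W hxW hW using hP
  let W₀ : X.Opens := ⟨⋂ i, (W i : Set X), isOpen_iInter_of_finite fun i => (W i).isOpen⟩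
  have hW₀ : ∀ i, W₀ ≤ W i := fun i y hy => Set.mem_iInter.1 hy i
  refine ⟨U₀ ⊓ W₀, ⟨hx, Set.mem_iInter.2 hxW⟩, inf_le_left, fun i => ?_⟩
  exact hmono i (W i) _ (inf_le_right.trans (hW₀ i)) (hW i)

theorem res_res {H : X.Modules} {V₁ V₂ V₃ : X.Opens} (h₁₂ : V₂ ≤ V₁) (h₂₃ : V₃ ≤ V₂) (s : Γ(H, V₁)) :
    H.presheaf.map (homOfLE h₂₃).op (H.presheaf.map (homOfLE h₁₂).op s) =
      H.presheaf.map (homOfLE (h₂₃.trans h₁₂)).op s := by
  rw [← ConcreteCategory.comp_apply, ← Functor.map_comp]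
  rfl

theorem res_res_ring {V₁ V₂ V₃ : X.Opens} (h₁₂ : V₂ ≤ V₁) (h₂₃ : V₃ ≤ V₂) (s : Γ(X, V₁)) :
    X.presheaf.map (homOfLE h₂₃).op (X.presheaf.map (homOfLE h₁₂).op s) =
      X.presheaf.map (homOfLE (h₂₃.trans h₁₂)).op s := by
  rw [← CommRingCat.comp_apply, ← Functor.map_comp]
  rfl

/-- **Surjectivity of `evalStalk`** for a finitely presented source. -/
theorem evalStalk_surjective (F G : X.Modules) (hF : CohB1.IsFP F) (x : X) :
    Function.Surjective (RefHull.evalStalk F G x) := by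
  haveI : SheafOfModules.IsFinitePresentation (R := X.ringCatSheaf) F := hF
  haveI : F.IsQuasicoherent := inferInstance
  intro φ
  obtain ⟨U, hU, hxU⟩ : ∃ U : X.Opens, IsAffineOpen U ∧ x ∈ U := by
    obtain ⟨_, ⟨V, hV, rfl⟩, hyV, -⟩ :=
      X.isBasis_affineOpens.exists_subset_of_mem_open (Set.mem_univ x) isOpen_univ
    exact ⟨V, hV, hyV⟩
  haveI : Module.FinitePresentation Γ(X, U) Γ(F, U) :=
    Groth.Agent.Lib.Helper3.AffFP.finitePresentation_sections F hU
  obtain ⟨n, k, f, g, hf, hfg⟩ := Module.FinitePresentation.exists_fin' Γ(X, U) Γ(F, U)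
  -- Step A: lift the images of the generators
  obtain ⟨V₁, hxV₁, hV₁U, hA⟩ := exists_nhd_forall (ι := Fin n) x U hxU
    (fun i W => ∀ hxW : x ∈ W, ∃ s : Γ(G, W),
      G.presheaf.germ W x hxW s = φ (F.presheaf.germ U x hxU (gen f i)))
    (fun i W W' hle hW hxW' => by
      obtain ⟨s, hs⟩ := hW (hle hxW')
      exact ⟨G.presheaf.map (homOfLE hle).op s, by rw [TopCat.Presheaf.germ_res_apply]; exact hs⟩)
    (fun i => by
      obtain ⟨W, hxW, s, hs⟩ := TopCat.Presheaf.exists_germ_eq G.presheaf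
        (φ (F.presheaf.germ U x hxU (gen f i)))
      exact ⟨W, hxW, fun _ => ⟨s, hs⟩⟩)
  choose gs₁ hgs₁ using fun i => hA i hxV₁
  -- Step B: the relations hold near `x`
  let ρ : Fin k → Γ(G, V₁) := fun j => ∑ i, X.presheaf.map (homOfLE hV₁U).op (rel g j i) • gs₁ i
  have hρ : ∀ j, G.presheaf.germ V₁ x hxV₁ (ρ j) = 0 := by
    intro j
    change G.presheaf.germ V₁ x hxV₁ (∑ i, _ • gs₁ i) = 0
    rw [germ_sum_smul]
    have h1 : ∀ i, X.presheaf.germ V₁ x hxV₁ (X.presheaf.map (homOfLE hV₁U).op (rel g j i)) •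
        G.presheaf.germ V₁ x hxV₁ (gs₁ i) =
        φ (X.presheaf.germ U x hxU (rel g j i) • F.presheaf.germ U x hxU (gen f i)) := by
      intro i
      rw [map_smul, hgs₁, TopCat.Presheaf.germ_res_apply]
    rw [Finset.sum_congr rfl fun i _ => h1 i, ← map_sum, ← germ_sum_smul, ← f_apply]
    have h2 : f (rel g j) = 0 := hfg.apply_apply_eq_zero _
    rw [h2, map_zero, map_zero]
  obtain ⟨V, hxV, hVV₁, hB⟩ := exists_nhd_forall (ι := Fin k) x V₁ hxV₁
    (fun j W => ∃ hW : W ≤ V₁, G.presheaf.map (homOfLE hW).op (ρ j) = 0)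
    (fun j W W' hle hW => by
      obtain ⟨hW₁, hW₂⟩ := hW
      refine ⟨hle.trans hW₁, ?_⟩
      rw [← res_res hW₁ hle, hW₂, map_zero])
    (fun j => by
      obtain ⟨W, hxW, i₁, i₂, hW⟩ := TopCat.Presheaf.germ_eq G.presheaf x hxV₁ hxV₁ (ρ j) 0
        ((hρ j).trans (map_zero _).symm)
      rw [map_zero] at hW
      exact ⟨W, hxW, i₁.le, hW⟩)
  have hVU : V ≤ U := hVV₁.trans hV₁U
  let gs : Fin n → Γ(G, V) := fun i => G.presheaf.map (homOfLE hVV₁).op (gs₁ i)
  have hgs : ∀ j, ∑ i, X.presheaf.map (homOfLE hVU).op (rel g j i) • gs i = 0 := by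
    intro j
    obtain ⟨hW', h0⟩ := hB j
    rw [← h0]
    change _ = G.presheaf.map (homOfLE hVV₁).op (∑ i, _ • gs₁ i)
    rw [map_sum_smul]
    refine Finset.sum_congr rfl fun i _ => ?_
    rw [res_res_ring]
  refine ⟨(RefHull.homSh F G).presheaf.germ V x hxV (famSec hU f g hf hfg hVU gs hgs), ?_⟩
  rw [RefHull.evalStalk_germ]
  change fam hU f g hf hfg hVU gs hgs x hxV = φ
  apply LinearMap.ext
  intro v
  obtain ⟨c, rfl⟩ := exists_repr hU f hf x hxU v
  rw [fam_apply, map_sum]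
  refine Finset.sum_congr rfl fun i _ => ?_
  rw [map_smul, ← hgs₁ i]
  congr 1
  exact TopCat.Presheaf.germ_res_apply G.presheaf (homOfLE hVV₁) x hxV (gs₁ i)

/-- **S16485.** `evalStalk` is bijective for a finitely presented source. -/
theorem evalStalk_bijective (F G : X.Modules) (hF : CohB1.IsFP F) (x : X) :
    Function.Bijective (RefHull.evalStalk F G x) :=
  ⟨Groth.Agent.Lib.T2H8.FTGerms.main_S16484 X F G
    (Groth.Agent.Helper18Strict.isFT_of_isFP F hF) x, evalStalk_surjective F G hF x⟩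

end Main

end Groth.Agent.Lib.T2H3.HomShStalk
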