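import Mathlib
import Groth.Prelude.Def_RefHull
import Groth.Agent.Lib.T2H3HomShStalk
import Groth.Agent.Lib.Helper23QCohLocal
import Groth.Agent.Lib.Helper23FinType2
import Groth.Agent.Lib.Helper23FinPres

/-!
# Quasi-coherence and coherence of the sheaf Hom out of a finitely presented module

Library (namespace `Groth.Agent.Lib.T2H3.HomShQCoh`).
* `exists_sec`, `val`: a section `θ` of `𝓗om(F, G)` over `V` sends a section `m` of `F` over `V` to the section
  `val θ m` of `G` over `V` with germs `θ_y(m_y)`.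
* `ext_of_gen`: sections of `𝓗om(F, G)` over `V ≤ U` agreeing on the germs of generators of `Γ(F, U)` (`U` affine) are equal.
* `isQuasicoherent_homSh`: `𝓗om(F, G)` is quasi-coherent for `F` of finite presentation and `G` quasi-coherent.
* `isFP_homSh`: on a locally Noetherian scheme, `𝓗om(F, G)` is of finite presentation for `F`, `G` coherent.
-/

set_option autoImplicit false
set_option linter.style.haveILetI false

universe u

open CategoryTheory AlgebraicGeometry TopologicalSpace Opposite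

namespace Groth.Agent.Lib.T2H3.HomShQCoh

open Groth.Agent.Lib.Helper2 Groth.Agent.Lib.T2H3.HomShStalk

variable {X : Scheme.{u}}

section Val

variable {F G : X.Modules}

/-- the sheaf underlying a module -/
noncomputable abbrev shf (G : X.Modules) : TopCat.Sheaf Ab X.toTopCat := ⟨G.presheaf, G.isSheaf⟩

theorem sec_ext {V : X.Opens} (s t : Γ(G, V))
    (h : ∀ (y : X) (hy : y ∈ V), G.presheaf.germ V y hy s = G.presheaf.germ V y hy t) : s = t :=
  TopCat.Presheaf.section_ext (shf G) V s t h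

/-- a section of the sheaf Hom acts on sections -/
theorem exists_sec {V : X.Opens} (θ : Γ(RefHull.homSh F G, V)) (m : Γ(F, V)) :
    ∃ n : Γ(G, V), ∀ (y : X) (hy : y ∈ V),
      G.presheaf.germ V y hy n = θ.1 ⟨y, hy⟩ (F.presheaf.germ V y hy m) := by
  have hloc := RefHull.isLocSect_of_mem θ V (𝟙 V) m
  choose W hxW j n hn using hloc
  have hcompat : TopCat.Presheaf.IsCompatible G.presheaf W n := by
    intro a b
    apply sec_ext
    intro y hy
    rw [TopCat.Presheaf.germ_res_apply, TopCat.Presheaf.germ_res_apply]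
    exact (hn a ⟨y, hy.1⟩).symm.trans (hn b ⟨y, hy.2⟩)
  have hcover : V ≤ iSup W := fun y hy => Opens.mem_iSup.mpr ⟨⟨y, hy⟩, hxW ⟨y, hy⟩⟩
  obtain ⟨s, hs, -⟩ := (shf G).existsUnique_gluing' W V j hcover n hcompat
  refine ⟨s, fun y hy => ?_⟩
  have h1 := hs ⟨y, hy⟩
  rw [← TopCat.Presheaf.germ_res_apply G.presheaf (j ⟨y, hy⟩) y (hxW ⟨y, hy⟩) s]
  change G.presheaf.germ _ y _ ((shf G).1.map (j ⟨y, hy⟩).op s) = _
  rw [h1]
  exact (hn ⟨y, hy⟩ ⟨y, hxW ⟨y, hy⟩⟩).symm

/-- the value of a section of the sheaf Hom on a section -/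
noncomputable def val {V : X.Opens} (θ : Γ(RefHull.homSh F G, V)) (m : Γ(F, V)) : Γ(G, V) :=
  (exists_sec θ m).choose

theorem germ_val {V : X.Opens} (θ : Γ(RefHull.homSh F G, V)) (m : Γ(F, V)) (y : X) (hy : y ∈ V) :
    G.presheaf.germ V y hy (val θ m) = θ.1 ⟨y, hy⟩ (F.presheaf.germ V y hy m) :=
  (exists_sec θ m).choose_spec y hy

theorem val_add {V : X.Opens} (θ θ' : Γ(RefHull.homSh F G, V)) (m : Γ(F, V)) :
    val (θ + θ') m = val θ m + val θ' m := by
  apply sec_ext
  intro y hy
  rw [map_add, germ_val, germ_val, germ_val]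
  rfl

theorem val_smul {V : X.Opens} (r : Γ(X, V)) (θ : Γ(RefHull.homSh F G, V)) (m : Γ(F, V)) :
    val (r • θ) m = r • val θ m := by
  apply sec_ext
  intro y hy
  rw [QCoh.germ_smul, germ_val, germ_val]
  rfl

theorem val_res {V V' : X.Opens} (i : V' ⟶ V) (θ : Γ(RefHull.homSh F G, V)) (m : Γ(F, V)) :
    val ((RefHull.homSh F G).presheaf.map i.op θ) (F.presheaf.map i.op m) =
      G.presheaf.map i.op (val θ m) := by
  apply sec_ext
  intro y hy
  rw [germ_val, TopCat.Presheaf.germ_res_apply, TopCat.Presheaf.germ_res_apply, germ_val]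
  rfl

end Val

section Aff

variable {F G : X.Modules} [F.IsQuasicoherent] {U : X.Opens} (hU : IsAffineOpen U) {n k : ℕ}
  (f : (Fin n → Γ(X, U)) →ₗ[Γ(X, U)] Γ(F, U)) (g : (Fin k → Γ(X, U)) →ₗ[Γ(X, U)] (Fin n → Γ(X, U)))
  (hf : Function.Surjective f) (hfg : Function.Exact g f)

include hU hf in
/-- sections of the sheaf Hom are determined by their values on the germs of the generators -/
theorem ext_of_gen {V : X.Opens} (hVU : V ≤ U) (θ θ' : Γ(RefHull.homSh F G, V))
    (h : ∀ (y : X) (hy : y ∈ V) (i : Fin n),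
      θ.1 ⟨y, hy⟩ (F.presheaf.germ U y (hVU hy) (gen f i)) =
        θ'.1 ⟨y, hy⟩ (F.presheaf.germ U y (hVU hy) (gen f i))) : θ = θ' := by
  apply Subtype.ext
  funext y
  apply LinearMap.ext
  intro v
  obtain ⟨c, rfl⟩ := exists_repr hU f hf y.1 (hVU y.2) v
  rw [map_sum, map_sum]
  refine Finset.sum_congr rfl fun i _ => ?_
  rw [map_smul, map_smul, h y.1 y.2 i]

theorem fam_gen {V : X.Opens} (hVU : V ≤ U) (gs : Fin n → Γ(G, V))
    (hgs : ∀ j, ∑ i, X.presheaf.map (homOfLE hVU).op (rel g j i) • gs i = 0)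
    (y : X) (hy : y ∈ V) (i : Fin n) :
    fam hU f g hf hfg hVU gs hgs y hy (F.presheaf.germ U y (hVU hy) (gen f i)) =
      G.presheaf.germ V y hy (gs i) := by
  have h := fam_apply hU f g hf hfg hVU gs hgs y hy (Pi.single i 1)
  have e1 : ∑ l, (Pi.single i (1 : X.presheaf.stalk y) : Fin n → X.presheaf.stalk y) l •
      F.presheaf.germ U y (hVU hy) (gen f l) = F.presheaf.germ U y (hVU hy) (gen f i) := by
    rw [Finset.sum_eq_single i]
    · rw [Pi.single_eq_same, one_smul]
    · intro l _ hl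
      rw [Pi.single_eq_of_ne hl, zero_smul]
    · intro hi
      exact absurd (Finset.mem_univ i) hi
  have e2 : ∑ l, (Pi.single i (1 : X.presheaf.stalk y) : Fin n → X.presheaf.stalk y) l •
      G.presheaf.germ V y hy (gs l) = G.presheaf.germ V y hy (gs i) := by
    rw [Finset.sum_eq_single i]
    · rw [Pi.single_eq_same, one_smul]
    · intro l _ hl
      rw [Pi.single_eq_of_ne hl, zero_smul]
    · intro hi
      exact absurd (Finset.mem_univ i) hi
  rw [e1, e2] at h
  exact h

omit [F.IsQuasicoherent] in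
theorem val_zero {V : X.Opens} (m : Γ(F, V)) : val (0 : Γ(RefHull.homSh F G, V)) m = 0 := by
  apply sec_ext
  intro y hy
  rw [germ_val, map_zero]
  rfl

include hU hf in
/-- second half of the localization property -/
theorem homSh_pow_smul_eq_zero [G.IsQuasicoherent] (a : Γ(X, U)) (θ : Γ(RefHull.homSh F G, U))
    (hθ : (RefHull.homSh F G).presheaf.map (homOfLE (X.basicOpen_le a)).op θ = 0) :
    ∃ N : ℕ, a ^ N • θ = 0 := by
  have h1 : ∀ i, ∃ N : ℕ, a ^ N • val θ (gen f i) = 0 := by
    intro i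
    apply QCoh.exists_pow_smul_eq_zero hU G a
    rw [← val_res, hθ, val_zero]
  choose N hN using h1
  refine ⟨Finset.univ.sup N, ?_⟩
  have h2 : ∀ i, a ^ (Finset.univ.sup N) • val θ (gen f i) = 0 := by
    intro i
    have hle : N i ≤ Finset.univ.sup N := Finset.le_sup (Finset.mem_univ i)
    rw [← Nat.sub_add_cancel hle, pow_add, mul_smul, hN i, smul_zero]
  apply ext_of_gen hU f hf le_rfl
  intro y hy i
  change X.presheaf.germ U y hy (a ^ (Finset.univ.sup N)) • θ.1 ⟨y, hy⟩ _ = 0
  rw [← germ_val, ← QCoh.germ_smul, h2 i, map_zero]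

omit [F.IsQuasicoherent] in
theorem res_id_ring (r : Γ(X, U)) : X.presheaf.map (homOfLE (le_refl U)).op r = r := by
  have : (homOfLE (le_refl U)).op = 𝟙 (op U) := rfl
  rw [this, X.presheaf.map_id]
  rfl

include hU hf hfg in
/-- first half of the localization property -/
theorem homSh_exists_extension [G.IsQuasicoherent] (a : Γ(X, U))
    (θ' : Γ(RefHull.homSh F G, X.basicOpen a)) :
    ∃ (N : ℕ) (θ : Γ(RefHull.homSh F G, U)),
      (RefHull.homSh F G).presheaf.map (homOfLE (X.basicOpen_le a)).op θ =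
        (X.presheaf.map (homOfLE (X.basicOpen_le a)).op a) ^ N • θ' := by
  let iD : X.basicOpen a ⟶ U := homOfLE (X.basicOpen_le a)
  let aD : Γ(X, X.basicOpen a) := X.presheaf.map iD.op a
  let n' : Fin n → Γ(G, X.basicOpen a) := fun i => val θ' (F.presheaf.map iD.op (gen f i))
  have h1 : ∀ i, ∃ (N : ℕ) (t : Γ(G, U)), G.presheaf.map iD.op t = aD ^ N • n' i :=
    fun i => QCoh.exists_extension hU G a (n' i)
  choose N₁ t ht using h1
  let N := Finset.univ.sup N₁
  let nn : Fin n → Γ(G, U) := fun i => a ^ (N - N₁ i) • t i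
  have hnn : ∀ i, G.presheaf.map iD.op (nn i) = aD ^ N • n' i := by
    intro i
    have hle : N₁ i ≤ N := Finset.le_sup (Finset.mem_univ i)
    change G.presheaf.map iD.op (a ^ (N - N₁ i) • t i) = _
    rw [Scheme.Modules.map_smul, ht i, smul_smul, map_pow, ← pow_add, Nat.sub_add_cancel hle]
  -- germs of `nn i` on `D(a)`
  have hgerm : ∀ (i : Fin n) (y : X) (hy : y ∈ X.basicOpen a),
      G.presheaf.germ U y (iD.le hy) (nn i) = X.presheaf.germ U y (iD.le hy) (a ^ N) •
        θ'.1 ⟨y, hy⟩ (F.presheaf.germ U y (iD.le hy) (gen f i)) := by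
    intro i y hy
    rw [← TopCat.Presheaf.germ_res_apply G.presheaf iD y hy (nn i), hnn i, QCoh.germ_smul, germ_val,
      TopCat.Presheaf.germ_res_apply, map_pow, TopCat.Presheaf.germ_res_apply, map_pow]
  let ρ : Fin k → Γ(G, U) := fun j => ∑ i, rel g j i • nn i
  have hρ : ∀ j, G.presheaf.map iD.op (ρ j) = 0 := by
    intro j
    apply sec_ext
    intro y hy
    rw [map_zero, TopCat.Presheaf.germ_res_apply]
    change G.presheaf.germ U y (iD.le hy) (∑ i, rel g j i • nn i) = 0
    rw [germ_sum_smul]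
    have h2 : ∀ i, X.presheaf.germ U y (iD.le hy) (rel g j i) • G.presheaf.germ U y (iD.le hy) (nn i) =
        X.presheaf.germ U y (iD.le hy) (a ^ N) • θ'.1 ⟨y, hy⟩
          (X.presheaf.germ U y (iD.le hy) (rel g j i) • F.presheaf.germ U y (iD.le hy) (gen f i)) := by
      intro i
      rw [hgerm i y hy, map_smul, smul_comm]
    have h0 : f (rel g j) = 0 := hfg.apply_apply_eq_zero _
    rw [Finset.sum_congr rfl fun i _ => h2 i, ← Finset.smul_sum, ← map_sum, ← germ_sum_smul, ← f_apply,
      h0, map_zero, map_zero, smul_zero]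
  have h3 : ∀ j, ∃ N' : ℕ, a ^ N' • ρ j = 0 := fun j => QCoh.exists_pow_smul_eq_zero hU G a (ρ j) (hρ j)
  choose N₂ hN₂ using h3
  let N' := Finset.univ.sup N₂
  have hN' : ∀ j, a ^ N' • ρ j = 0 := by
    intro j
    have hle : N₂ j ≤ N' := Finset.le_sup (Finset.mem_univ j)
    rw [← Nat.sub_add_cancel hle, pow_add, mul_smul, hN₂ j, smul_zero]
  let gs : Fin n → Γ(G, U) := fun i => a ^ N' • nn i
  have hgs : ∀ j, ∑ i, X.presheaf.map (homOfLE (le_refl U)).op (rel g j i) • gs i = 0 := by
    intro j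
    rw [← hN' j]
    change _ = a ^ N' • ∑ i, rel g j i • nn i
    rw [Finset.smul_sum]
    refine Finset.sum_congr rfl fun i _ => ?_
    rw [res_id_ring]
    change rel g j i • (a ^ N' • nn i) = _
    rw [smul_comm]
  refine ⟨N + N', famSec hU f g hf hfg le_rfl gs hgs, ?_⟩
  apply ext_of_gen hU f hf (X.basicOpen_le a)
  intro y hy i
  change fam hU f g hf hfg le_rfl gs hgs y (iD.le hy) _ =
    X.presheaf.germ (X.basicOpen a) y hy (aD ^ (N + N')) • θ'.1 ⟨y, hy⟩ _
  rw [fam_gen]
  change G.presheaf.germ U y (iD.le hy) (a ^ N' • nn i) = _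
  have haD : X.presheaf.germ (X.basicOpen a) y hy aD = X.presheaf.germ U y (iD.le hy) a :=
    TopCat.Presheaf.germ_res_apply X.presheaf iD y hy a
  rw [QCoh.germ_smul, hgerm i y hy, smul_smul, map_pow, map_pow, map_pow, haD, ← pow_add, add_comm]

include hU hf hfg in
theorem isLocOn_homSh [G.IsQuasicoherent] : Push.IsLocOn (RefHull.homSh F G) U :=
  ⟨fun a θ' => homSh_exists_extension hU f g hf hfg a θ',
    fun a θ hθ => homSh_pow_smul_eq_zero hU f hf a θ hθ⟩

include hU hf in
/-- over a Noetherian affine open the sections of `𝓗om(F, G)` form a finite module when those of `G` do -/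
theorem finite_sections_homSh [IsNoetherianRing Γ(X, U)] [Module.Finite Γ(X, U) Γ(G, U)] :
    Module.Finite Γ(X, U) Γ(RefHull.homSh F G, U) := by
  let Ψ : Γ(RefHull.homSh F G, U) →ₗ[Γ(X, U)] (Fin n → Γ(G, U)) :=
    { toFun := fun θ i => val θ (gen f i)
      map_add' := fun θ θ' => funext fun i => val_add θ θ' (gen f i)
      map_smul' := fun r θ => funext fun i => val_smul r θ (gen f i) }
  have hΨ : Function.Injective Ψ := by
    intro θ θ' h
    apply ext_of_gen hU f hf le_rfl
    intro y hy i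
    rw [← germ_val, ← germ_val]
    exact congrArg (G.presheaf.germ U y hy) (congrFun h i)
  haveI : IsNoetherian Γ(X, U) Γ(G, U) := isNoetherian_of_isNoetherianRing_of_finite _ _
  exact Module.Finite.of_injective Ψ hΨ

end Aff

section Global

open Groth.Agent.Lib.Helper23.FinType

/-- `𝓗om(F, G)` is quasi-coherent for `F` of finite presentation and `G` quasi-coherent. -/
theorem isQuasicoherent_homSh (F G : X.Modules) (hF : CohB1.IsFP F) [G.IsQuasicoherent] :
    (RefHull.homSh F G).IsQuasicoherent := by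
  haveI : SheafOfModules.IsFinitePresentation (R := X.ringCatSheaf) F := hF
  haveI : F.IsQuasicoherent := inferInstance
  apply Groth.Agent.Lib.Helper23.QCohLocal.isQuasicoherent_of_isLocOn
  intro V hV
  haveI : Module.FinitePresentation Γ(X, V) Γ(F, V) :=
    Groth.Agent.Lib.Helper3.AffFP.finitePresentation_sections F hV
  obtain ⟨n, k, f, g, hf, hfg⟩ := Module.FinitePresentation.exists_fin' Γ(X, V) Γ(F, V)
  exact isLocOn_homSh hV f g hf hfg

/-- on a locally Noetherian scheme `𝓗om(F, G)` is coherent for coherent `F`, `G`. -/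
theorem isCoh_homSh [IsLocallyNoetherian X] (F G : X.Modules) (hF : Coh.IsCoh F) (hG : Coh.IsCoh G) :
    Coh.IsCoh (RefHull.homSh F G) := by
  haveI : F.IsQuasicoherent := hF.1
  haveI : SheafOfModules.IsFiniteType (R := X.ringCatSheaf) F := hF.2
  haveI : G.IsQuasicoherent := hG.1
  haveI : SheafOfModules.IsFiniteType (R := X.ringCatSheaf) G := hG.2
  have hFP : CohB1.IsFP F := isFinitePresentation_of_isFiniteType F
  haveI : SheafOfModules.IsFinitePresentation (R := X.ringCatSheaf) F := hFP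
  haveI hq : (RefHull.homSh F G).IsQuasicoherent := isQuasicoherent_homSh F G hFP
  refine ⟨hq, ?_⟩
  refine isFiniteType_of_finite (RefHull.homSh F G) (fun V : X.affineOpens => (V : X.Opens))
    (iSup_affineOpens_eq_top X) (fun V => V.2) (fun V => ?_)
  haveI : IsNoetherianRing Γ(X, V.1) := IsLocallyNoetherian.component_noetherian V
  haveI : Module.Finite Γ(X, V.1) Γ(G, V.1) := finite_of_isFiniteType G V.2
  haveI : Module.FinitePresentation Γ(X, V.1) Γ(F, V.1) :=
    Groth.Agent.Lib.Helper3.AffFP.finitePresentation_sections F V.2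
  obtain ⟨n, k, f, g, hf, hfg⟩ := Module.FinitePresentation.exists_fin' Γ(X, V.1) Γ(F, V.1)
  exact finite_sections_homSh V.2 f hf

theorem isFP_of_isCoh [IsLocallyNoetherian X] (F : X.Modules) (hF : Coh.IsCoh F) : CohB1.IsFP F := by
  haveI : F.IsQuasicoherent := hF.1
  haveI : SheafOfModules.IsFiniteType (R := X.ringCatSheaf) F := hF.2
  exact isFinitePresentation_of_isFiniteType F

theorem isFP_homSh [IsLocallyNoetherian X] (F G : X.Modules) (hF : Coh.IsCoh F) (hG : Coh.IsCoh G) :
    CohB1.IsFP (RefHull.homSh F G) :=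
  isFP_of_isCoh _ (isCoh_homSh F G hF hG)

end Global

end Groth.Agent.Lib.T2H3.HomShQCoh
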