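import Mathlib
import Groth.Prelude.Def_RefHull
import Groth.Agent.Lib.T2H3HomShQCoh
import Groth.Agent.Lib.Helper23PB
import Groth.Agent.Lib.Helper23UnitStalk
import Groth.Agent.Lib.Helper23SecTw6

/-!
# Dual frames of an invertible module; the dual commutes with pullback (helper3)

Library (namespace `Groth.Agent.Lib.T2H3.DualFrame`), no Noetherian hypotheses.
* `bijective_smul_germ` : a frame (`Helper23.SecTw.IsGen`) freely generates every stalk.
* `dualFrame he : Γ(RefHull.dual M, W)` : the section of `𝓗om(M, O)` over `W` dual to a frame `e` of `M` over `W`.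
* `val_dualFrame`, `eq_smul_dualFrame`, `isGen_dualFrame`, `res_dualFrame_eq_smul` (transition functions).
* `isInvertible_dual` : the dual of an invertible module is invertible.
* `nonempty_dual_pullback_iso` : `(f^* L)^* ≅ f^*(L^*)` for `L` invertible.
-/

set_option autoImplicit false
set_option linter.style.haveILetI false
set_option linter.unusedSectionVars false
universe u
open CategoryTheory CategoryTheory.Limits AlgebraicGeometry TopologicalSpace Opposite

namespace Groth.Agent.Lib.T2H3.DualFrame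

open Groth.Agent.Lib.Helper23.SecTw Groth.Agent.Lib.Helper6 Groth.Agent.Lib.Helper23.GenLocus
  Groth.Agent.Lib.Helper2.QCoh Groth.Agent.Lib.Helper23.UnitStalk Groth.Agent.Lib.T2H3.HomShQCoh

variable {X : Scheme.{u}}

/-- a frame freely generates every stalk -/
theorem bijective_smul_germ {A : X.Modules} {W : X.Opens} {e : Γ(A, W)} (h : IsGen A W e) (x : X)
    (hx : x ∈ W) :
    Function.Bijective (LinearMap.toSpanSingleton (X.presheaf.stalk x) (A.presheaf.stalk x)
      (A.presheaf.germ W x hx e)) := by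
  constructor
  · rw [injective_iff_map_eq_zero]
    intro c hc
    change c • A.presheaf.germ W x hx e = 0 at hc
    obtain ⟨V, hxV, r, rfl⟩ := TopCat.Presheaf.exists_germ_eq X.presheaf c
    have h1 : A.presheaf.germ (V ⊓ W) x ⟨hxV, hx⟩
        (resf (inf_le_left : V ⊓ W ≤ V) r • res A (inf_le_right : V ⊓ W ≤ W) e) = 0 := by
      rw [germ_smul]
      rw [TopCat.Presheaf.germ_res_apply X.presheaf (homOfLE (inf_le_left : V ⊓ W ≤ V)) x ⟨hxV, hx⟩,
        TopCat.Presheaf.germ_res_apply A.presheaf (homOfLE (inf_le_right : V ⊓ W ≤ W)) x ⟨hxV, hx⟩]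
      exact hc
    have hmem : x ∈ V ⊓ W := ⟨hxV, hx⟩
    obtain ⟨V', hxV', i, i', hi'⟩ := TopCat.Presheaf.germ_eq A.presheaf (U := V ⊓ W) (V := V ⊓ W)
      x hmem hmem
      (resf (inf_le_left : V ⊓ W ≤ V) r • res A (inf_le_right : V ⊓ W ≤ W) e) 0
      (by rw [h1, map_zero])
    have hi : A.presheaf.map i.op
        (resf (inf_le_left : V ⊓ W ≤ V) r • res A (inf_le_right : V ⊓ W ≤ W) e) = 0 := by
      rw [hi', map_zero]
    have hle : V' ≤ V ⊓ W := i.le
    have h2 : resf hle (resf (inf_le_left : V ⊓ W ≤ V) r) • res A (hle.trans inf_le_right) e = 0 := by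
      have h3 : res A hle (resf (inf_le_left : V ⊓ W ≤ V) r • res A (inf_le_right : V ⊓ W ≤ W) e) = 0 :=
        hi
      rw [res_smul, res_res] at h3
      exact h3
    have h4 : resf hle (resf (inf_le_left : V ⊓ W ≤ V) r) = 0 := by
      apply (h V' (hle.trans inf_le_right)).1
      change _ • _ = (0 : Γ(X, V')) • _
      rw [h2, zero_smul]
    have h5 : X.presheaf.germ V x hxV r =
        X.presheaf.germ V' x hxV' (resf hle (resf (inf_le_left : V ⊓ W ≤ V) r)) := by
      rw [TopCat.Presheaf.germ_res_apply X.presheaf (homOfLE hle) x hxV',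
        TopCat.Presheaf.germ_res_apply X.presheaf (homOfLE (inf_le_left : V ⊓ W ≤ V)) x ⟨hxV, hx⟩]
    rw [h5, h4, map_zero]
  · intro v
    obtain ⟨V, hxV, m, rfl⟩ := TopCat.Presheaf.exists_germ_eq A.presheaf v
    obtain ⟨r, hr⟩ := (h (V ⊓ W) inf_le_right).2 (res A (inf_le_left : V ⊓ W ≤ V) m)
    refine ⟨X.presheaf.germ (V ⊓ W) x ⟨hxV, hx⟩ r, ?_⟩
    change X.presheaf.germ (V ⊓ W) x ⟨hxV, hx⟩ r • A.presheaf.germ W x hx e = _
    have h1 : A.presheaf.germ W x hx e =
        A.presheaf.germ (V ⊓ W) x ⟨hxV, hx⟩ (res A (inf_le_right : V ⊓ W ≤ W) e) :=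
      (TopCat.Presheaf.germ_res_apply A.presheaf (homOfLE (inf_le_right : V ⊓ W ≤ W)) x
        ⟨hxV, hx⟩ e).symm
    rw [h1, ← germ_smul]
    have hr' : r • res A (inf_le_right : V ⊓ W ≤ W) e = res A (inf_le_left : V ⊓ W ≤ V) m := hr
    rw [hr']
    exact TopCat.Presheaf.germ_res_apply A.presheaf (homOfLE (inf_le_left : V ⊓ W ≤ V)) x
      ⟨hxV, hx⟩ m

section Dual

variable {M : X.Modules} {W : X.Opens} {e : Γ(M, W)}

/-- the linear form on the stalk dual to a frame -/
noncomputable def dualStalk (he : IsGen M W e) (x : X) (hx : x ∈ W) :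
    RefHull.StalkHom M (Coh.structureModule X) x :=
  (toUnitStalk x) ∘ₗ
    (LinearEquiv.ofBijective _ (bijective_smul_germ he x hx)).symm.toLinearMap

theorem dualStalk_smul_germ (he : IsGen M W e) (x : X) (hx : x ∈ W) (c : X.presheaf.stalk x) :
    dualStalk he x hx (c • M.presheaf.germ W x hx e) = toUnitStalk x c := by
  unfold dualStalk
  rw [LinearMap.comp_apply]
  congr 1
  rw [LinearEquiv.coe_coe, LinearEquiv.symm_apply_eq]
  rfl

theorem dualStalk_germ (he : IsGen M W e) {A : X.Opens} (hA : A ≤ W) (x : X) (hx : x ∈ A)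
    (m : Γ(M, A)) :
    dualStalk he x (hA hx) (M.presheaf.germ A x hx m) =
      (Coh.structureModule X).presheaf.germ A x hx (toS A (coef he hA m)) := by
  have h1 : M.presheaf.germ A x hx m =
      X.presheaf.germ A x hx (coef he hA m) • M.presheaf.germ W x (hA hx) e := by
    conv_lhs => rw [← coef_spec he hA m]
    rw [germ_smul]
    congr 1
    exact TopCat.Presheaf.germ_res_apply M.presheaf (homOfLE hA) x hx e
  rw [h1, dualStalk_smul_germ, toUnitStalk_germ]

theorem isLocSect_dualStalk (he : IsGen M W e) :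
    RefHull.IsLocSect M (Coh.structureModule X) (fun x : W => dualStalk he x.1 x.2) := by
  intro V i m x
  refine ⟨V, x.2, 𝟙 V, toS V (coef he i.le m), fun y => ?_⟩
  exact dualStalk_germ he i.le y.1 y.2 m

/-- the section of the dual over `W` dual to a frame over `W` -/
noncomputable def dualFrame (he : IsGen M W e) : Γ(RefHull.dual M, W) :=
  ⟨fun x => dualStalk he x.1 x.2, isLocSect_dualStalk he⟩

theorem val_dualFrame (he : IsGen M W e) {A : X.Opens} (hA : A ≤ W) (m : Γ(M, A)) :
    val (res (RefHull.dual M) hA (dualFrame he)) m = toS A (coef he hA m) := by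
  apply sec_ext
  intro y hy
  rw [germ_val]
  exact dualStalk_germ he hA y hy m

theorem coef_self (he : IsGen M W e) {A : X.Opens} (hA : A ≤ W) : coef he hA (res M hA e) = 1 :=
  (coef_unique he hA _ _ (one_smul _ _)).symm

/-- every section of the dual is a multiple of the dual frame -/
theorem eq_smul_dualFrame (he : IsGen M W e) {A : X.Opens} (hA : A ≤ W) (θ : Γ(RefHull.dual M, A)) :
    θ = ofS A (val θ (res M hA e)) • res (RefHull.dual M) hA (dualFrame he) := by
  apply Subtype.ext
  funext x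
  apply LinearMap.ext
  intro v
  obtain ⟨c, rfl⟩ := (bijective_smul_germ he x.1 (hA x.2)).2 v
  change θ.1 x (c • M.presheaf.germ W x.1 (hA x.2) e) =
    (X.presheaf.germ A x.1 x.2 (ofS A (val θ (res M hA e))) •
      dualStalk he x.1 (hA x.2)) (c • M.presheaf.germ W x.1 (hA x.2) e)
  rw [LinearMap.smul_apply, dualStalk_smul_germ, map_smul]
  have h1 : θ.1 x (M.presheaf.germ W x.1 (hA x.2) e) =
      (Coh.structureModule X).presheaf.germ A x.1 x.2 (val θ (res M hA e)) := by
    rw [germ_val]
    congr 1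
    exact (TopCat.Presheaf.germ_res_apply M.presheaf (homOfLE hA) x.1 x.2 e).symm
  rw [h1]
  have h2 : (Coh.structureModule X).presheaf.germ A x.1 x.2 (val θ (res M hA e)) =
      toUnitStalk x.1 (X.presheaf.germ A x.1 x.2 (ofS A (val θ (res M hA e)))) := by
    rw [toUnitStalk_germ, toS_ofS]
  rw [h2, ← LinearMap.map_smul (toUnitStalk x.1), ← LinearMap.map_smul (toUnitStalk x.1), smul_eq_mul,
    smul_eq_mul, mul_comm]

theorem isGen_dualFrame (he : IsGen M W e) : IsGen (RefHull.dual M) W (dualFrame he) := by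
  intro A hA
  constructor
  · intro r r' hrr'
    have h1 : r • res (RefHull.dual M) hA (dualFrame he) = r' • res (RefHull.dual M) hA (dualFrame he) :=
      hrr'
    have h2 := congrArg (fun θ => val θ (res M hA e)) h1
    simp only [val_smul, val_dualFrame, coef_self] at h2
    have h3 := congrArg (ofS A) h2
    rw [smul_toS, smul_toS, mul_one, mul_one, ofS_toS, ofS_toS] at h3
    exact h3
  · intro θ
    exact ⟨ofS A (val θ (res M hA e)), (eq_smul_dualFrame he hA θ).symm⟩

/-- transition functions of dual frames are inverse to those of the frames -/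
theorem res_dualFrame_eq_smul {W₁ W₂ : X.Opens} {a₁ : Γ(M, W₁)} {a₂ : Γ(M, W₂)} (h₁ : IsGen M W₁ a₁)
    (h₂ : IsGen M W₂ a₂) {A : X.Opens} (hA₁ : A ≤ W₁) (hA₂ : A ≤ W₂) (c : Γ(X, A))
    (hc : res M hA₂ a₂ = c • res M hA₁ a₁) :
    res (RefHull.dual M) hA₁ (dualFrame h₁) = c • res (RefHull.dual M) hA₂ (dualFrame h₂) := by
  have h := eq_smul_dualFrame h₂ hA₂ (res (RefHull.dual M) hA₁ (dualFrame h₁))
  rw [hc, val_dualFrame, coef_smul, coef_self, mul_one, ofS_toS] at h
  exact h

theorem trivAt_dual (hM : PicF.IsInvertible M) (x : X) :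
    ∃ (W : X.Opens) (φ : Γ(RefHull.dual M, W)), x ∈ W ∧ IsGen (RefHull.dual M) W φ := by
  obtain ⟨W, e, hxW, he⟩ := exists_gen M hM x
  exact ⟨W, dualFrame he, hxW, isGen_dualFrame he⟩

end Dual

/-- the dual of an invertible module is invertible -/
theorem isInvertible_dual (M : X.Modules) (hM : PicF.IsInvertible M) :
    PicF.IsInvertible (RefHull.dual M) :=
  isInvertible_of_isGen _ (trivAt_dual hM)

section Pullback

open Groth.Agent.Lib.Helper23.PB Groth.Agent.Helper13PullbackUnit

variable {Y : Scheme.{u}} (f : Y ⟶ X)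

/-- `(f^* L)^* ≅ f^*(L^*)` for an invertible module `L` -/
theorem nonempty_dual_pullback_iso (L : X.Modules) (hL : PicF.IsInvertible L) :
    Nonempty (RefHull.dual ((Scheme.Modules.pullback f).obj L) ≅
      (Scheme.Modules.pullback f).obj (RefHull.dual L)) := by
  haveI : L.IsQuasicoherent := isQuasicoherent_of_isInvertible L hL
  haveI : (RefHull.dual L).IsQuasicoherent :=
    isQuasicoherent_of_isInvertible _ (isInvertible_dual L hL)
  obtain ⟨Φ, -⟩ := exists_iso_of_frames (RefHull.dual ((Scheme.Modules.pullback f).obj L))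
    ((Scheme.Modules.pullback f).obj (RefHull.dual L))
    (fun p : AFr L => f ⁻¹ᵁ p.1.1)
    (fun x => by
      obtain ⟨W, e, hxW, hW, he⟩ := exists_affine_gen L hL (f x)
      exact ⟨⟨⟨W, e⟩, hW, he⟩, hxW⟩)
    (fun p => dualFrame (isGen_unitSec f L p.2.1 p.1.2 p.2.2))
    (fun p => unitSec f (RefHull.dual L) le_rfl (dualFrame p.2.2))
    (fun p => isGen_dualFrame _)
    (fun p => isGen_unitSec f _ p.2.1 _ (isGen_dualFrame p.2.2))
    (fun p q => by
      -- `e_q = c • e_p` on `W_p ⊓ W_q`
      have hc := (coef_spec p.2.2 (inf_le_left : p.1.1 ⊓ q.1.1 ≤ p.1.1)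
        (res L (inf_le_right : p.1.1 ⊓ q.1.1 ≤ q.1.1) q.1.2)).symm
      set c := coef p.2.2 (inf_le_left : p.1.1 ⊓ q.1.1 ≤ p.1.1)
        (res L (inf_le_right : p.1.1 ⊓ q.1.1 ≤ q.1.1) q.1.2) with hcdef
      have h1 := res_dualFrame_eq_smul p.2.2 q.2.2 inf_le_left inf_le_right c hc
      refine cocycle_of_transition (isGen_dualFrame _)
        (f.appLE _ _ (preimage_inf_le f p.1.1 q.1.1) c) ?_ ?_
      · refine res_dualFrame_eq_smul _ _ inf_le_left inf_le_right _ ?_
        rw [res_unitSec f L le_rfl (preimage_inf_le f p.1.1 q.1.1) inf_le_right inf_le_right,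
          res_unitSec f L le_rfl (preimage_inf_le f p.1.1 q.1.1) inf_le_left inf_le_left, hc,
          unitSec_smul]
      · exact res_unitSec_of_transition f (RefHull.dual L) _ _ c h1)
  exact ⟨Φ⟩

end Pullback

end Groth.Agent.Lib.T2H3.DualFrame
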