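import Groth.Agent.Lib.T2H3QRegC

/-! Eisenbud–Goto, part 0 (helper3): further consequences of the long exact sequence of graded
local cohomology, and `H^0` versus torsion. -/

set_option autoImplicit false
set_option linter.unusedSectionVars false
set_option linter.style.haveILetI false
open DirectSum

noncomputable section

namespace Groth.Agent.Lib.T2H3.EG

open GrLC Groth.Agent.Lib.T2H3.GrLes Groth.Agent.Lib.T2H3.Serre Groth.Agent.Lib.T2H3.MinRes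
  Groth.Agent.Lib.T2H3.GrTors Groth.Agent.Lib.Helper29GrShift

universe u

variable {R : Type u} [CommRing R] {𝒜 : ℤ → AddSubgroup R} [GradedRing 𝒜]

section Gen

variable {M' M M'' : Type u} [AddCommGroup M'] [Module R M'] [AddCommGroup M] [Module R M]
  [AddCommGroup M''] [Module R M'']
  {ℳ' : ℤ → AddSubgroup M'} {ℳ : ℤ → AddSubgroup M} {ℳ'' : ℤ → AddSubgroup M''}
  [DirectSum.Decomposition ℳ'] [DirectSum.Decomposition ℳ] [DirectSum.Decomposition ℳ'']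
  [SetLike.GradedSMul 𝒜 ℳ'] [SetLike.GradedSMul 𝒜 ℳ] [SetLike.GradedSMul 𝒜 ℳ'']

/-- In a short exact sequence `0 → M' → M → M'' → 0`: if `H^i(M')_j = 0` and
`H^i(M'')_j = 0` then `H^i(M)_j = 0`. -/
theorem Hcomp_eq_bot_mid {f : M' →ₗ[R] M} {g : M →ₗ[R] M''} (S : GrSES ℳ' ℳ ℳ'' f g)
    (E' : StarInjRes 𝒜 ℳ') (E : StarInjRes 𝒜 ℳ) (E'' : StarInjRes 𝒜 ℳ'')
    (a : HomogeneousIdeal 𝒜) (i : ℕ) (j : ℤ)
    (h1 : E'.Hcomp a i j = ⊥) (h2 : E''.Hcomp a i j = ⊥) : E.Hcomp a i j = ⊥ := by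
  classical
  obtain ⟨φ, hφ, hφf⟩ := exists_lift E' E f S.f_gr
  obtain ⟨ψ, hψ, hψg⟩ := exists_lift E E'' g S.g_gr
  obtain ⟨δ, hδ, -, hex, -, -⟩ := exists_les S hφ hφf hψ hψg a
  rw [Submodule.eq_bot_iff]
  intro y hy
  have hψy : ψ.H a i y ∈ E''.Hcomp a i j := CMap.H_mem_Hcomp ψ a hψ i j hy
  rw [h2] at hψy
  have hyr : y ∈ LinearMap.range (φ.H a i) := by
    have h : y ∈ LinearMap.ker (ψ.H a i) := hψy
    rw [hex i] at h
    exact h
  letI := HgrDecomposition E a i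
  letI := HgrDecomposition E' a i
  obtain ⟨y', hy', rfl⟩ := exists_mem_piece_of_mem_range (E'.Hgr a i) (E.Hgr a i)
    (φ.H a i) (fun g m hm => CMap.H_mem_Hcomp φ a hφ i g hm) hy hyr
  have : y' = 0 := by
    have : y' ∈ E'.Hcomp a i j := hy'
    rw [h1] at this
    exact this
  rw [this, map_zero]

/-- In a short exact sequence `0 → M' → M → M'' → 0`: if `H^{i+1}(M)_j = 0` and
`H^i(M'')_j = 0` then `H^{i+1}(M')_j = 0`. -/
theorem Hcomp_eq_bot_sub {f : M' →ₗ[R] M} {g : M →ₗ[R] M''} (S : GrSES ℳ' ℳ ℳ'' f g)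
    (E' : StarInjRes 𝒜 ℳ') (E : StarInjRes 𝒜 ℳ) (E'' : StarInjRes 𝒜 ℳ'')
    (a : HomogeneousIdeal 𝒜) (i : ℕ) (j : ℤ)
    (h1 : E.Hcomp a (i + 1) j = ⊥) (h2 : E''.Hcomp a i j = ⊥) : E'.Hcomp a (i + 1) j = ⊥ := by
  classical
  obtain ⟨φ, hφ, hφf⟩ := exists_lift E' E f S.f_gr
  obtain ⟨ψ, hψ, hψg⟩ := exists_lift E E'' g S.g_gr
  obtain ⟨δ, hδ, -, -, -, hex⟩ := exists_les S hφ hφf hψ hψg a
  rw [Submodule.eq_bot_iff]
  intro y hy
  have hφy : φ.H a (i + 1) y ∈ E.Hcomp a (i + 1) j := CMap.H_mem_Hcomp φ a hφ (i + 1) j hy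
  rw [h1] at hφy
  have hyr : y ∈ LinearMap.range (δ i) := by
    have h : y ∈ LinearMap.ker (φ.H a (i + 1)) := hφy
    rw [hex i] at h
    exact h
  letI := HgrDecomposition E' a (i + 1)
  letI := HgrDecomposition E'' a i
  obtain ⟨y', hy', rfl⟩ := exists_mem_piece_of_mem_range (E''.Hgr a i) (E'.Hgr a (i + 1))
    (δ i) (fun g m hm => hδ i g m hm) hy hyr
  have : y' = 0 := by
    have : y' ∈ E''.Hcomp a i j := hy'
    rw [h2] at this
    exact this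
  rw [this, map_zero]

/-- In a short exact sequence `0 → M' → M → M'' → 0`: if `H^0(M)_j = 0` then `H^0(M')_j = 0`. -/
theorem Hcomp_eq_bot_sub_zero {f : M' →ₗ[R] M} {g : M →ₗ[R] M''} (S : GrSES ℳ' ℳ ℳ'' f g)
    (E' : StarInjRes 𝒜 ℳ') (E : StarInjRes 𝒜 ℳ) (E'' : StarInjRes 𝒜 ℳ'')
    (a : HomogeneousIdeal 𝒜) (j : ℤ)
    (h1 : E.Hcomp a 0 j = ⊥) : E'.Hcomp a 0 j = ⊥ := by
  classical
  obtain ⟨φ, hφ, hφf⟩ := exists_lift E' E f S.f_gr
  obtain ⟨ψ, hψ, hψg⟩ := exists_lift E E'' g S.g_gr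
  obtain ⟨δ, hδ, hinj, -, -, -⟩ := exists_les S hφ hφf hψ hψg a
  rw [Submodule.eq_bot_iff]
  intro y hy
  have hφy : φ.H a 0 y ∈ E.Hcomp a 0 j := CMap.H_mem_Hcomp φ a hφ 0 j hy
  rw [h1] at hφy
  apply hinj
  rw [map_zero]
  exact hφy

end Gen

section One

variable {M : Type u} [AddCommGroup M] [Module R M] {ℳ : ℤ → AddSubgroup M}
  [DirectSum.Decomposition ℳ] [SetLike.GradedSMul 𝒜 ℳ]

/-- The vanishing of a piece of graded local cohomology does not depend on the resolution. -/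
theorem Hcomp_eq_bot_congr (E F : StarInjRes 𝒜 ℳ) (a : HomogeneousIdeal 𝒜) (i : ℕ) (j : ℤ)
    (h : E.Hcomp a i j = ⊥) : F.Hcomp a i j = ⊥ := by
  have h1 := (Groth.Agent.Lib.T2H3.GrAinv.iso_invariance (LinearMap.id : M →ₗ[R] M)
    (fun _ _ hx => hx) Function.bijective_id E F a i).1 j
  rw [Submodule.eq_bot_iff]
  intro y hy
  have h2 : E.Hgr a i j = ⊥ := by
    rw [AddSubgroup.eq_bot_iff_forall]
    intro z hz
    have hz' : z ∈ E.Hcomp a i j := hz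
    rw [h] at hz'
    exact hz'
  have h3 := h1.mpr h2
  rw [AddSubgroup.eq_bot_iff_forall] at h3
  exact h3 y hy

/-- A homogeneous torsion element of degree `j` vanishes when `H^0_a(M)_j = 0`. -/
theorem eq_zero_of_mem_gam (E : StarInjRes 𝒜 ℳ) (a : HomogeneousIdeal 𝒜) (j : ℤ)
    (h : E.Hcomp a 0 j = ⊥) {x : M} (hx : x ∈ ℳ j) (hxg : x ∈ gam a.toIdeal M) : x = 0 := by
  have hc : E.ε x ∈ E.cocyc a 0 :=
    (mem_cocyc E a 0).mpr ⟨gam_map a.toIdeal E.ε hxg, res_d_ε E x⟩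
  have h1 : E.toH a 0 ⟨E.ε x, hc⟩ ∈ E.Hcomp a 0 j := ⟨_, E.ε_grHom j x hx, rfl⟩
  rw [h] at h1
  have h2 := (toH_eq_zero_iff E a 0 _).mp h1
  have h3 : E.ε x = 0 := (mem_cobdy_zero E a).mp h2
  apply E.ε_injective
  rw [h3]
  exact (map_zero E.ε).symm

/-- The graded local cohomology of a zero module vanishes. -/
theorem Hcomp_eq_bot_of_subsingleton [Subsingleton M] (E : StarInjRes 𝒜 ℳ)
    (a : HomogeneousIdeal 𝒜) (i : ℕ) (j : ℤ) [IsNoetherianRing R] : E.Hcomp a i j = ⊥ := by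
  have hM : gam a.toIdeal M = ⊤ := by
    rw [eq_top_iff]
    intro x _
    have : x = 0 := Subsingleton.elim _ _
    rw [this]
    exact Submodule.zero_mem _
  rw [Submodule.eq_bot_iff]
  intro y hy
  cases i with
  | zero =>
    obtain ⟨z, hz, rfl⟩ := hy
    have hzr : (z : (E.X 0).carrier) ∈ LinearMap.range E.ε := by
      rw [← E.exact_zero]
      exact ((mem_cocyc E a 0).mp z.2).2
    obtain ⟨x, hx⟩ := hzr
    have hx0 : x = 0 := Subsingleton.elim _ _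
    rw [hx0, map_zero] at hx
    rw [toH_eq_zero_iff]
    rw [mem_cobdy_zero]
    exact hx.symm
  | succ i => exact (H_subsingleton_of_gam_eq_top E a hM i).elim _ _

end One

end Groth.Agent.Lib.T2H3.EG
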