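import Groth.Agent.Lib.T2H3EGA
import Groth.Agent.Lib.Helper13RegCount
import Groth.Agent.Lib.LeadCanF

/-! Eisenbud–Goto, part 1 (helper3): the standard graded polynomial ring is *local, and its
graded local cohomology. -/

set_option autoImplicit false
set_option linter.unusedSectionVars false
set_option linter.style.haveILetI false
open DirectSum

noncomputable section

namespace Groth.Agent.Lib.T2H3.EG

open GrLC Groth.Agent.Lib.T2H3.GrIrr Groth.Agent.Lib.T2H3.GrArt Groth.Agent.Lib.T2H3.GrTr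
  Groth.Agent.Lib.T2H3.Serre Groth.Agent.Lib.T2H3.GrLes

universe u

section General

variable {R : Type u} [CommRing R] (𝒜 : ℤ → AddSubgroup R) [GradedRing 𝒜]

/-- A positively graded ring with `R_0` a field is *local with *maximal ideal `R_+`. -/
theorem isStarLocal_of_isField (hpos : ∀ n : ℤ, n < 0 → 𝒜 n = ⊥) (h0 : IsField (deg0 𝒜))
    (m : HomogeneousIdeal 𝒜) (hmtop : m.toIdeal ≠ ⊤) (hmsp : m.toIdeal = irr 𝒜) :
    IsStarLocal 𝒜 m := by
  classical
  have hmax : m.toIdeal.IsMaximal :=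
    Groth.Agent.Lib.LeadCan.isMaximal_of_isField_deg0 𝒜 hpos h0 m hmtop hmsp
  have hmne : m ≠ ⊤ := by
    intro h
    apply hmtop
    rw [h]
    rfl
  refine ⟨⟨hmne, fun b hb => ?_⟩, fun n hn => ?_⟩
  · have h1 : m.toIdeal < b.toIdeal := by
      refine lt_of_le_of_ne (fun x hx => hb.le hx) (fun h => ?_)
      exact hb.ne (HomogeneousIdeal.toIdeal_injective h)
    have h2 : b.toIdeal = ⊤ := hmax.out.2 _ h1
    exact HomogeneousIdeal.toIdeal_injective h2
  · have hnle : n ≤ m := by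
      intro x hx
      change x ∈ m.toIdeal
      have hx0 : (decompose 𝒜 x 0 : R) ∈ n.toIdeal := n.isHomogeneous 0 hx
      have hz : (decompose 𝒜 x 0 : R) = 0 := by
        by_contra hne
        let x0 : deg0 𝒜 := ⟨(decompose 𝒜 x 0 : R), (decompose 𝒜 x 0).2⟩
        have hx0ne : x0 ≠ 0 := fun h => hne (congrArg Subtype.val h)
        obtain ⟨y, hy⟩ := h0.mul_inv_cancel hx0ne
        have hy' : (decompose 𝒜 x 0 : R) * (y : R) = 1 := congrArg Subtype.val hy
        apply hn.1
        apply HomogeneousIdeal.toIdeal_injective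
        change n.toIdeal = ⊤
        rw [Ideal.eq_top_iff_one, ← hy']
        exact n.toIdeal.mul_mem_right _ hx0
      have h1 := sub_decompose_zero_mem_irr 𝒜 hpos x
      rw [hz, sub_zero, ← hmsp] at h1
      exact h1
    by_contra hne
    exact hmne (hn.2 m (lt_of_le_of_ne hnle hne))

end General

section Poly

variable (k : Type u) [Field k] (r : ℕ)

/-- The standard grading of `k[x_0..x_r]`, pieces as additive subgroups. -/
abbrev PA : ℤ → AddSubgroup (MvPolynomial (Fin (r + 1)) k) :=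
  asGr (GrSyz.stdGr k (Fin (r + 1)))

/-- The irrelevant ideal. -/
abbrev Pm : HomogeneousIdeal (PA k r) :=
  hiTo (GrSyz.stdGr k (Fin (r + 1))) (GrSyz.irrel (GrSyz.stdGr k (Fin (r + 1))))

theorem PA_pos (n : ℤ) (hn : n < 0) : PA k r n = ⊥ :=
  Groth.Agent.Lib.T2H3.QReg.stdGr_pos k r n hn

theorem Pm_eq_irr : (Pm k r).toIdeal = irr (PA k r) := by
  apply le_antisymm (Groth.Agent.Lib.T2H3.QReg.irrel_le_irr k r)
  change Ideal.span _ ≤ Ideal.span _
  apply Ideal.span_mono
  intro p hp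
  simp only [Set.mem_iUnion, Set.mem_Ioi, SetLike.mem_coe, exists_prop] at hp
  obtain ⟨n, hn, hp⟩ := hp
  exact ⟨n, hn, hp⟩

theorem isField_deg0 : IsField (deg0 (PA k r)) := by
  refine ⟨⟨0, 1, fun h => ?_⟩, mul_comm, fun {a} ha => ?_⟩
  · have h1 : ((0 : deg0 (PA k r)) : MvPolynomial (Fin (r + 1)) k) = ((1 : deg0 (PA k r)) :
        MvPolynomial (Fin (r + 1)) k) := congrArg Subtype.val h
    exact zero_ne_one h1
  · have hmem : (a : MvPolynomial (Fin (r + 1)) k) ∈ GrSyz.stdGr k (Fin (r + 1)) 0 := a.2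
    have hC := Groth.Agent.Helper13RegCount.eq_C_of_mem_stdGr_zero hmem
    have hc : MvPolynomial.constantCoeff (a : MvPolynomial (Fin (r + 1)) k) ≠ 0 := by
      intro h
      apply ha
      apply Subtype.ext
      rw [hC, h, map_zero]
      rfl
    have hinv : (MvPolynomial.C (MvPolynomial.constantCoeff (a : MvPolynomial (Fin (r + 1)) k))⁻¹ :
        MvPolynomial (Fin (r + 1)) k) ∈ GrSyz.stdGr k (Fin (r + 1)) 0 :=
      (GrSyz.mem_stdGr_iff k (Fin (r + 1)) _ _).2 (MvPolynomial.isWeightedHomogeneous_C _ _)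
    refine ⟨⟨_, hinv⟩, ?_⟩
    apply Subtype.ext
    change (a : MvPolynomial (Fin (r + 1)) k) * MvPolynomial.C _ = 1
    rw [hC, MvPolynomial.constantCoeff_C, ← map_mul, mul_inv_cancel₀ hc, map_one]

instance : IsArtinianRing (deg0 (PA k r)) := by
  letI := (isField_deg0 k r).toField
  infer_instance

theorem Pm_ne_top : (Pm k r).toIdeal ≠ ⊤ :=
  (Groth.Agent.Helper13FreeRes.isMaximal_irrel_stdGr k (Fin (r + 1))).ne_top

theorem Pm_isStarLocal : IsStarLocal (PA k r) (Pm k r) :=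
  isStarLocal_of_isField (PA k r) (PA_pos k r) (isField_deg0 k r) (Pm k r) (Pm_ne_top k r)
    (Pm_eq_irr k r)

theorem ringKrullDim_poly : ringKrullDim (MvPolynomial (Fin (r + 1)) k) = ((r + 1 : ℕ) : ℕ) :=
  Groth.Agent.Lib.T2H3.WPoly.ringKrullDim_eq k (r + 1) (w := fun _ => (1 : ℤ))
    (fun _ => one_pos) (m := Pm k r) (Pm_isStarLocal k r)

/-- The graded local cohomology of the polynomial ring: `H^i_m(S)_j = 0` unless `i = r + 1` and
`j ≤ -(r+1)`. -/
theorem Hcomp_self_eq_bot (I : StarInjRes (PA k r) (PA k r)) (i : ℕ) (j : ℤ)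
    (h : i = r + 1 → -((r : ℤ) + 1) < j) : I.Hcomp (Pm k r) i j = ⊥ := by
  classical
  rcases lt_trichotomy i (r + 1) with hlt | heq | hgt
  · haveI := Groth.Agent.Lib.T2H3.WPoly.cm k (r + 1)
    rw [Submodule.eq_bot_iff]
    intro y _
    exact Groth.Agent.Lib.T2H3.GrAinv.H_eq_zero_of_lt_dim (PA_pos k r) (Pm_isStarLocal k r)
      (r + 1) (ringKrullDim_poly k r) I i hlt y
  · subst heq
    have hend := Groth.Agent.Lib.T2H3.WPoly.endDeg_H_top k (r + 1) (w := fun _ => (1 : ℤ))
      (fun _ => one_pos) (m := Pm k r) (Pm_isStarLocal k r) (Pm_eq_irr k r) I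
    by_contra hne
    have hne' : I.Hgr (Pm k r) (r + 1) j ≠ ⊥ := by
      intro h0
      apply hne
      rw [Submodule.eq_bot_iff]
      intro y hy
      have hy' : y ∈ I.Hgr (Pm k r) (r + 1) j := hy
      rw [h0] at hy'
      exact hy'
    have hle : ((j : WithTop ℤ) : WithBot (WithTop ℤ)) ≤ endDeg (I.Hgr (Pm k r) (r + 1)) := by
      unfold endDeg
      exact le_iSup₂ (f := fun n (_ : I.Hgr (Pm k r) (r + 1) n ≠ ⊥) =>
        ((n : WithTop ℤ) : WithBot (WithTop ℤ))) j hne'
    have hle2 := le_of_le_of_eq hle hend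
    have hj := h rfl
    have h2 : j ≤ -(Finset.univ : Finset (Fin (r + 1))).sum (fun _ => (1 : ℤ)) := by
      have := hle2
      unfold Groth.Agent.Lib.T2H3.GrAinv.c at this
      exact_mod_cast this
    simp at h2
    omega
  · exact Hcomp_eq_bot_of_lt (ringKrullDim_poly k r) I hgt j

end Poly

end Groth.Agent.Lib.T2H3.EG
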