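import Groth.Agent.Lib.Helper13MinRes
import Groth.Agent.Lib.Helper13RegFinLen

/-! Eisenbud–Goto, part 2 (helper3): graded free modules `⊕ R(-a_b)` as graded modules (pieces
`strand`), their trivial free resolution. -/

set_option autoImplicit false
set_option linter.unusedSectionVars false
set_option linter.style.haveILetI false
open DirectSum

noncomputable section

namespace Groth.Agent.Lib.T2H3.EG

open Groth.Agent.Helper13Hilb Groth.Agent.Helper13MinRes

universe u

section Proj

variable {k : Type*} [CommRing k] {ι : Type*} [DecidableEq ι] {M : Type*} [AddCommGroup M]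
  [Module k M] (ℳ : ι → Submodule k M) (π : ι → M →ₗ[k] M)

/-- A family of submodules with a compatible family of projections is an internal direct sum. -/
theorem isInternal_of_proj (h1 : ∀ i x, π i x ∈ ℳ i) (h2 : ∀ i x, x ∈ ℳ i → π i x = x)
    (h3 : ∀ i j x, i ≠ j → x ∈ ℳ j → π i x = 0)
    (h4 : ∀ x, ∃ T : Finset ι, x = ∑ i ∈ T, π i x) : DirectSum.IsInternal ℳ := by
  rw [DirectSum.isInternal_submodule_iff_iSupIndep_and_iSup_eq_top]
  constructor
  · intro i
    rw [Submodule.disjoint_def]
    intro x hx hx'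
    have hk : (⨆ j, ⨆ (_ : j ≠ i), ℳ j) ≤ LinearMap.ker (π i) := by
      refine iSup₂_le fun j hj x hx => ?_
      exact h3 i j x (Ne.symm hj) hx
    rw [← h2 i x hx]
    exact hk hx'
  · rw [eq_top_iff]
    intro x _
    obtain ⟨T, hT⟩ := h4 x
    rw [hT]
    exact Submodule.sum_mem _ fun i _ => Submodule.mem_iSup_of_mem i (h1 i _)

end Proj

section Strand

variable {k : Type u} [Field k] {R : Type u} [CommRing R] [Algebra k R]
  (𝒜 : ℤ → Submodule k R) [GradedAlgebra 𝒜]

theorem isInternal_strand {n : ℕ} (a : Fin n → ℤ) : DirectSum.IsInternal (strand 𝒜 a) := by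
  refine isInternal_of_proj (strand 𝒜 a) (fun d => proj 𝒜 a d) (fun d x => proj_mem 𝒜 a d x)
    (fun d x hx => proj_eq_self 𝒜 a d x hx) (fun d d' x hne hx => ?_) (fun x => sum_proj 𝒜 a x)
  ext b
  rw [proj_apply]
  have hxb : x b ∈ 𝒜 (d' - a b) := (mem_strand 𝒜 a d' x).1 hx b
  rw [DirectSum.decompose_of_mem_ne 𝒜 hxb (by omega)]
  rfl

instance strandDecomposition {n : ℕ} (a : Fin n → ℤ) : DirectSum.Decomposition (strand 𝒜 a) :=
  (isInternal_strand 𝒜 a).chooseDecomposition

instance strand_gradedSMul {n : ℕ} (a : Fin n → ℤ) : SetLike.GradedSMul 𝒜 (strand 𝒜 a) where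
  smul_mem := by
    intro i j s v hs hv
    rw [mem_strand]
    intro b
    have hvb : v b ∈ 𝒜 (j - a b) := (mem_strand 𝒜 a j v).1 hv b
    have h := SetLike.GradedMul.mul_mem hs hvb
    have e : i + (j - a b) = (i +ᵥ j) - a b := by
      rw [vadd_eq_add]
      ring
    rw [e] at h
    exact h

theorem single_mem_strand {n : ℕ} (a : Fin n → ℤ) (b : Fin n) {e : ℤ} {s : R} (hs : s ∈ 𝒜 e) :
    (Pi.single b s : Fin n → R) ∈ strand 𝒜 a (e + a b) := by
  rw [mem_strand]
  intro b'
  by_cases h : b' = b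
  · subst h
    rw [Pi.single_eq_same]
    have e' : e + a b' - a b' = e := by ring
    rw [e']
    exact hs
  · rw [Pi.single_eq_of_ne h]
    exact Submodule.zero_mem _

/-- ranks of the trivial resolution of a free module -/
def freeRk (n : ℕ) : ℕ → ℕ
  | 0 => n
  | _ + 1 => 0

/-- degrees of the trivial resolution of a free module -/
def freeDeg {n : ℕ} (a : Fin n → ℤ) : (i : ℕ) → Fin (freeRk n i) → ℤ
  | 0 => a
  | _ + 1 => fun _ => 0

omit [GradedAlgebra 𝒜] in
theorem lc_single {n : ℕ} (v : Fin n → R) :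
    Fintype.linearCombination R (fun b : Fin n => (Pi.single b (1 : R) : Fin n → R)) v = v := by
  rw [Fintype.linearCombination_apply]
  ext b
  rw [Finset.sum_apply]
  simp only [Pi.smul_apply, smul_eq_mul]
  rw [Finset.sum_eq_single b]
  · rw [Pi.single_eq_same, mul_one]
  · intro b' _ hne
    rw [Pi.single_eq_of_ne (Ne.symm hne), mul_zero]
  · intro h
    exact absurd (Finset.mem_univ _) h

omit [GradedAlgebra 𝒜] in
theorem ker_lc_single {n : ℕ} :
    LinearMap.ker (Fintype.linearCombination R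
      (fun b : Fin n => (Pi.single b (1 : R) : Fin n → R))) =
      LinearMap.range (Matrix.mulVecLin (0 : Matrix (Fin n) (Fin 0) R)) := by
  ext v
  constructor
  · intro hv
    rw [LinearMap.mem_ker, lc_single] at hv
    rw [hv]
    exact Submodule.zero_mem _
  · rintro ⟨w, rfl⟩
    rw [LinearMap.mem_ker]
    simp

/-- the trivial resolution of a graded free module. -/
def freeRes {n : ℕ} (a : Fin n → ℤ) : GrSyz.FreeRes 𝒜 (strand 𝒜 a) where
  rk := freeRk n
  deg := freeDeg a
  d := fun _ => 0
  aug := fun b => (Pi.single (M := fun _ => R) (b : Fin n) (1 : R) : Fin n → R)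
  d_mem := fun _ _ _ => Submodule.zero_mem _
  aug_mem := fun b => by
    have h := single_mem_strand 𝒜 a (b : Fin n) (SetLike.GradedOne.one_mem (A := 𝒜))
    rw [zero_add] at h
    exact h
  aug_surjective := fun v => ⟨v, lc_single v⟩
  exact_zero := ker_lc_single
  exact_succ := by
    intro i
    haveI : IsEmpty (Fin (freeRk n (i + 1))) := (inferInstance : IsEmpty (Fin 0))
    ext v
    have h0 : v = 0 := Subsingleton.elim _ _
    rw [h0]
    exact ⟨fun _ => Submodule.zero_mem _, fun _ => Submodule.zero_mem _⟩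

theorem isRegLE_strand {n : ℕ} (a : Fin n → ℤ) (𝔪 : Ideal R) (d : ℤ) (h : ∀ b, a b ≤ d) :
    GrSyz.IsRegLE 𝒜 (strand 𝒜 a) 𝔪 d := by
  refine ⟨freeRes 𝒜 a, fun _ _ _ => Submodule.zero_mem _, fun i b => ?_⟩
  cases i with
  | zero =>
    have := h b
    change a b ≤ d + ((0 : ℕ) : ℤ)
    simpa using this
  | succ i => exact (IsEmpty.false (α := Fin 0) b).elim

end Strand

end Groth.Agent.Lib.T2H3.EG
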