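import Groth.Agent.Lib.T2H3EGB
import Groth.Agent.Lib.T2H3EGC

/-! Eisenbud–Goto, part 3 (helper3): graded local cohomology of graded free modules over the
polynomial ring. -/

set_option autoImplicit false
set_option linter.unusedSectionVars false
set_option linter.style.haveILetI false
open DirectSum

noncomputable section

namespace Groth.Agent.Lib.T2H3.EG

open GrLC Groth.Agent.Lib.T2H3.GrIrr Groth.Agent.Lib.T2H3.GrArt Groth.Agent.Lib.T2H3.GrTr
  Groth.Agent.Lib.T2H3.Serre Groth.Agent.Lib.T2H3.GrLes Groth.Agent.Lib.T2H3.MinRes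
  Groth.Agent.Helper13Hilb Groth.Agent.Lib.Helper29GrShift

universe u

variable (k : Type u) [Field k] (r : ℕ)

/-- The graded free module `⊕ S(-a_b)`, pieces as additive subgroups. -/
abbrev FA {n : ℕ} (a : Fin n → ℤ) : ℤ → AddSubgroup (Fin n → MvPolynomial (Fin (r + 1)) k) :=
  asGr (strand (GrSyz.stdGr k (Fin (r + 1))) a)

/-- The short exact sequence `0 → S(-a_0) → ⊕_{b ≤ n} S(-a_b) → ⊕_{1 ≤ b ≤ n} S(-a_b) → 0`. -/
theorem grSES_strand {n : ℕ} (a : Fin (n + 1) → ℤ) :
    GrSES (shiftGr (PA k r) (-(a 0))) (FA k r a) (FA k r (a ∘ Fin.succ))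
      (LinearMap.single (MvPolynomial (Fin (r + 1)) k) (fun _ : Fin (n + 1) =>
        MvPolynomial (Fin (r + 1)) k) 0)
      (LinearMap.funLeft (MvPolynomial (Fin (r + 1)) k) (MvPolynomial (Fin (r + 1)) k)
        (Fin.succ : Fin n → Fin (n + 1))) := by
  refine ⟨?_, ?_, ?_, ?_, ?_⟩
  · intro j s hs
    have hs' : s ∈ GrSyz.stdGr k (Fin (r + 1)) (j + -(a 0)) := hs
    have h := single_mem_strand (GrSyz.stdGr k (Fin (r + 1))) a 0 hs'
    have e : j + -(a 0) + a 0 = j := by ring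
    rw [e] at h
    exact h
  · intro j v hv
    have hv' : v ∈ strand (GrSyz.stdGr k (Fin (r + 1))) a j := hv
    change _ ∈ strand (GrSyz.stdGr k (Fin (r + 1))) (a ∘ Fin.succ) j
    rw [mem_strand] at hv' ⊢
    intro b
    exact hv' b.succ
  · intro s t h
    have := congrFun h 0
    simpa using this
  · intro w
    refine ⟨Fin.cons 0 w, ?_⟩
    ext b
    simp [LinearMap.funLeft_apply]
  · ext v
    constructor
    · intro hv
      rw [LinearMap.mem_ker] at hv
      refine ⟨v 0, ?_⟩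
      ext b
      refine Fin.cases ?_ (fun b' => ?_) b
      · simp
      · have h1 := congrFun hv b'
        rw [LinearMap.funLeft_apply] at h1
        rw [h1]
        simp [Fin.succ_ne_zero]
    · rintro ⟨s, rfl⟩
      rw [LinearMap.mem_ker]
      ext b
      simp [LinearMap.funLeft_apply, Fin.succ_ne_zero]

/-- `H^i_m(⊕ S(-a_b))_j = 0` unless `i = r + 1` and `j ≤ a_b - (r+1)` for some `b`. -/
theorem Hcomp_strand_eq_bot : ∀ (n : ℕ) (a : Fin n → ℤ) (i : ℕ) (j : ℤ),
    (∀ b, i = r + 1 → -((r : ℤ) + 1) < j - a b) →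
    ∀ E : StarInjRes (PA k r) (FA k r a), E.Hcomp (Pm k r) i j = ⊥ := by
  intro n
  induction n with
  | zero =>
    intro a i j _ E
    exact Hcomp_eq_bot_of_subsingleton E (Pm k r) i j
  | succ n ih =>
    intro a i j h E
    obtain ⟨I, -⟩ : ∃ I : StarInjRes (PA k r) (PA k r), True := ⟨minRes (PA k r) (PA k r), trivial⟩
    obtain ⟨E'', -⟩ : ∃ E'' : StarInjRes (PA k r) (FA k r (a ∘ Fin.succ)), True :=
      ⟨minRes (PA k r) (FA k r (a ∘ Fin.succ)), trivial⟩
    refine Hcomp_eq_bot_mid (grSES_strand k r a) (shiftRes I (-(a 0))) E E'' (Pm k r) i j ?_ ?_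
    · rw [Submodule.eq_bot_iff]
      intro y hy
      have hy' : y ∈ I.Hcomp (Pm k r) i (j + -(a 0)) := hy
      rw [Hcomp_self_eq_bot k r I i (j + -(a 0)) (fun hi => by have := h 0 hi; omega)] at hy'
      exact hy'
    · exact ih (a ∘ Fin.succ) i j (fun b hi => h b.succ hi) E''

end Groth.Agent.Lib.T2H3.EG
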