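import Groth.Agent.Lib.T2H3EGD
import Groth.Agent.Lib.Helper13RegSES
import Groth.Agent.Lib.Helper13RegLin
import Groth.Agent.Lib.Helper13GrQuotMod
import Groth.Agent.Lib.Helper29GrSub

/-! Eisenbud–Goto, part 4 (helper3): induced gradings (pieces `k`-subspaces) on homogeneous
submodules; a module of regularity `≤ d` has `H^i_m(M)_j = 0` for `j > d - i`. -/

set_option autoImplicit false
set_option linter.unusedSectionVars false
set_option linter.style.haveILetI false
open DirectSum

noncomputable section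

namespace Groth.Agent.Lib.T2H3.EG

open GrLC Groth.Agent.Lib.T2H3.GrIrr Groth.Agent.Lib.T2H3.GrArt Groth.Agent.Lib.T2H3.GrTr
  Groth.Agent.Lib.T2H3.Serre Groth.Agent.Lib.T2H3.GrLes Groth.Agent.Lib.T2H3.MinRes
  Groth.Agent.Helper13Hilb Groth.Agent.Lib.Helper29GrShift Groth.Agent.Lib.Helper29GrSub

universe u

section SubK

variable {k : Type u} [Field k] {R : Type u} [CommRing R] [Algebra k R]
  (𝒜 : ℤ → Submodule k R) [GradedAlgebra 𝒜]
  {M : Type u} [AddCommGroup M] [Module k M] [Module R M] [IsScalarTower k R M]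
  (ℳ : ℤ → Submodule k M) [DirectSum.Decomposition ℳ] [SetLike.GradedSMul 𝒜 ℳ]
  (P : Submodule R M)

/-- The induced pieces on a submodule, as `k`-subspaces. -/
def subGrK (j : ℤ) : Submodule k ↥P := (ℳ j).comap (P.subtype.restrictScalars k)

theorem mem_subGrK {j : ℤ} {x : ↥P} : x ∈ subGrK ℳ P j ↔ (x : M) ∈ ℳ j := Iff.rfl

theorem isHomogeneous_asGr {P : Submodule R M} (hP : P.IsHomogeneous ℳ) :
    P.IsHomogeneous (asGr ℳ) := by
  intro i x hx
  rw [decompose_asGr]
  exact hP i hx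

theorem isHomogeneous_of_asGr {P : Submodule R M} (hP : P.IsHomogeneous (asGr ℳ)) :
    P.IsHomogeneous ℳ := by
  intro i x hx
  rw [← decompose_asGr]
  exact hP i hx

/-- The induced decomposition of a homogeneous submodule. -/
@[instance_reducible]
def subDecK {P : Submodule R M} (hP : P.IsHomogeneous ℳ) :
    DirectSum.Decomposition (subGrK ℳ P) :=
  letI := subDecomposition (asGr ℳ) P (isHomogeneous_asGr ℳ hP)
  decompositionOfCarrier (subGr (asGr ℳ) P) (subGrK ℳ P) (fun _ _ => Iff.rfl)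

theorem sub_gradedSMulK : SetLike.GradedSMul 𝒜 (subGrK ℳ P) where
  smul_mem := by
    intro i j a b ha hb
    exact SetLike.GradedSMul.smul_mem (A := 𝒜) (B := ℳ) ha hb

end SubK

section PartA

variable (k : Type u) [Field k] (r : ℕ)

section Defs

variable {M : Type u} [AddCommGroup M] [Module k M] [Module (MvPolynomial (Fin (r + 1)) k) M]
  [IsScalarTower k (MvPolynomial (Fin (r + 1)) k) M]
  (ℳ : ℤ → Submodule k M) [DirectSum.Decomposition ℳ]
  [SetLike.GradedSMul (GrSyz.stdGr k (Fin (r + 1))) ℳ]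

/-- `H^i_m(M)_j = 0`, for every *injective resolution. -/
def Van (i : ℕ) (j : ℤ) : Prop :=
  ∀ E : StarInjRes (PA k r) (asGr ℳ), E.Hcomp (Pm k r) i j = ⊥

variable {ℳ} in
theorem van_of {i : ℕ} {j : ℤ} (E : StarInjRes (PA k r) (asGr ℳ))
    (h : E.Hcomp (Pm k r) i j = ⊥) : Van k r ℳ i j :=
  fun F => Hcomp_eq_bot_congr E F (Pm k r) i j h

end Defs

/-- Eisenbud–Goto, the easy half: if `reg M ≤ d` then `H^i_m(M)_j = 0` for `j > d - i`. -/
theorem van_of_isRegLE_aux : ∀ (t i : ℕ), i + t = r + 2 →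
    ∀ (M : Type u) [AddCommGroup M] [Module k M] [Module (MvPolynomial (Fin (r + 1)) k) M]
      [IsScalarTower k (MvPolynomial (Fin (r + 1)) k) M]
      [Module.Finite (MvPolynomial (Fin (r + 1)) k) M]
      (ℳ : ℤ → Submodule k M) [DirectSum.Decomposition ℳ]
      [SetLike.GradedSMul (GrSyz.stdGr k (Fin (r + 1))) ℳ] (d : ℤ),
      GrSyz.IsRegLE (GrSyz.stdGr k (Fin (r + 1))) ℳ
        (GrSyz.irrel (GrSyz.stdGr k (Fin (r + 1)))).toIdeal d →
      ∀ j : ℤ, d - i < j → Van k r ℳ i j := by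
  intro t
  induction t with
  | zero =>
    intro i hi M _ _ _ _ _ ℳ _ _ d _ j _ E
    exact Hcomp_eq_bot_of_lt (ringKrullDim_poly k r) E (by omega) j
  | succ t ih =>
    intro i hi M _ _ _ _ _ ℳ _ _ d hreg j hj E''
    classical
    obtain ⟨F, hFmin, hFgen⟩ := hreg
    -- the free module `F_0` and the kernel of the augmentation
    let π : (Fin (F.rk 0) → MvPolynomial (Fin (r + 1)) k) →ₗ[MvPolynomial (Fin (r + 1)) k] M :=
      F.augLin
    have hπs : Function.Surjective π := F.aug_surjective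
    have hπg : IsGrHom (strand (GrSyz.stdGr k (Fin (r + 1))) (F.deg 0)) ℳ π :=
      fun g v hv => augLin_mem F g v hv
    have hZ : (LinearMap.ker π).IsHomogeneous (strand (GrSyz.stdGr k (Fin (r + 1))) (F.deg 0)) := by
      intro g v hv
      rw [LinearMap.mem_ker] at hv ⊢
      have h1 := Groth.Agent.Helper13Horseshoe.map_decompose (g := π) hπg v g
      rw [h1, hv, DirectSum.decompose_zero]
      rfl
    letI decZ := subDecK (strand (GrSyz.stdGr k (Fin (r + 1))) (F.deg 0)) hZ
    haveI gsZ := sub_gradedSMulK (GrSyz.stdGr k (Fin (r + 1)))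
      (strand (GrSyz.stdGr k (Fin (r + 1))) (F.deg 0)) (LinearMap.ker π)
    have hregG : GrSyz.IsRegLE (GrSyz.stdGr k (Fin (r + 1)))
        (strand (GrSyz.stdGr k (Fin (r + 1))) (F.deg 0))
        (GrSyz.irrel (GrSyz.stdGr k (Fin (r + 1)))).toIdeal (d + 1) :=
      isRegLE_strand (GrSyz.stdGr k (Fin (r + 1))) (F.deg 0) _ (d + 1) (fun b => by
        have := hFgen 0 b
        push_cast at this
        omega)
    have hregZ : GrSyz.IsRegLE (GrSyz.stdGr k (Fin (r + 1)))
        (subGrK (strand (GrSyz.stdGr k (Fin (r + 1))) (F.deg 0)) (LinearMap.ker π))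
        (GrSyz.irrel (GrSyz.stdGr k (Fin (r + 1)))).toIdeal (d + 1) := by
      have h := Groth.Agent.Helper13RegSES.ses_sub
        (ℳ₁ := subGrK (strand (GrSyz.stdGr k (Fin (r + 1))) (F.deg 0)) (LinearMap.ker π))
        (LinearMap.ker π).subtype π
        (Submodule.injective_subtype _) hπs (Submodule.range_subtype _) 0
        (fun g z hz => by rw [add_zero]; exact hz) hπg (d + 1) hregG
        (by rw [add_sub_cancel_right]; exact ⟨F, hFmin, hFgen⟩)
      rwa [sub_zero] at h
    have hvZ : Van k r (subGrK (strand (GrSyz.stdGr k (Fin (r + 1))) (F.deg 0)) (LinearMap.ker π))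
        (i + 1) j :=
      ih (i + 1) (by omega) _ _ (d + 1) hregZ j (by push_cast; omega)
    obtain ⟨E', -⟩ : ∃ E' : StarInjRes (PA k r)
        (asGr (subGrK (strand (GrSyz.stdGr k (Fin (r + 1))) (F.deg 0)) (LinearMap.ker π))), True :=
      ⟨minRes _ _, trivial⟩
    obtain ⟨E, -⟩ : ∃ E : StarInjRes (PA k r) (FA k r (F.deg 0)), True := ⟨minRes _ _, trivial⟩
    have hS : GrSES (asGr (subGrK (strand (GrSyz.stdGr k (Fin (r + 1))) (F.deg 0))
        (LinearMap.ker π))) (FA k r (F.deg 0)) (asGr ℳ) (LinearMap.ker π).subtype π :=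
      ⟨fun g z hz => hz, fun g v hv => hπg g v hv, Submodule.injective_subtype _, hπs,
        (Submodule.range_subtype _).symm⟩
    refine Groth.Agent.Lib.T2H3.QReg.Hcomp_eq_bot_of_ses hS E' E E'' (Pm k r) i j ?_ (hvZ E')
    refine Hcomp_strand_eq_bot k r (F.rk 0) (F.deg 0) i j (fun b hi' => ?_) E
    have := hFgen 0 b
    push_cast at this
    omega

end PartA

end Groth.Agent.Lib.T2H3.EG
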