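import Groth.Agent.Lib.T2H3EGE

/-! Eisenbud–Goto, part 5 (helper3): the hard half — if `H^i_m(M)_j = 0` for all `j > d - i`
then `reg M ≤ d`.  Noetherian induction, dividing by the torsion and by homogeneous regular
elements of positive degree. -/

set_option autoImplicit false
set_option linter.unusedSectionVars false
set_option linter.style.haveILetI false
open DirectSum

noncomputable section

namespace Groth.Agent.Lib.T2H3.EG

open GrLC Groth.Agent.Lib.T2H3.GrIrr Groth.Agent.Lib.T2H3.GrArt Groth.Agent.Lib.T2H3.GrTr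
  Groth.Agent.Lib.T2H3.Serre Groth.Agent.Lib.T2H3.GrLes Groth.Agent.Lib.T2H3.MinRes
  Groth.Agent.Helper13Hilb Groth.Agent.Lib.Helper29GrShift Groth.Agent.Lib.Helper29GrSub
  Groth.Agent.Lib.T2H3.GrTors

universe u

variable (k : Type u) [Field k] (r : ℕ)

section Lemmas

variable {T' : Type u} [AddCommGroup T'] [Module k T'] [Module (MvPolynomial (Fin (r + 1)) k) T']
  [IsScalarTower k (MvPolynomial (Fin (r + 1)) k) T']
  (𝒯 : ℤ → Submodule k T') [DirectSum.Decomposition 𝒯]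
  [SetLike.GradedSMul (GrSyz.stdGr k (Fin (r + 1))) 𝒯]
  {N : Type u} [AddCommGroup N] [Module k N] [Module (MvPolynomial (Fin (r + 1)) k) N]
  [IsScalarTower k (MvPolynomial (Fin (r + 1)) k) N]
  (𝒩 : ℤ → Submodule k N) [DirectSum.Decomposition 𝒩]
  [SetLike.GradedSMul (GrSyz.stdGr k (Fin (r + 1))) 𝒩]
  {N' : Type u} [AddCommGroup N'] [Module k N'] [Module (MvPolynomial (Fin (r + 1)) k) N']
  [IsScalarTower k (MvPolynomial (Fin (r + 1)) k) N']
  (𝒩' : ℤ → Submodule k N') [DirectSum.Decomposition 𝒩']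
  [SetLike.GradedSMul (GrSyz.stdGr k (Fin (r + 1))) 𝒩']

/-- Dividing by a torsion submodule does not create local cohomology. -/
theorem van_of_ses_tors (f : T' →ₗ[MvPolynomial (Fin (r + 1)) k] N)
    (g : N →ₗ[MvPolynomial (Fin (r + 1)) k] N') (hfg : IsGrHom 𝒯 𝒩 f) (hgg : IsGrHom 𝒩 𝒩' g)
    (hf : Function.Injective f) (hg : Function.Surjective g)
    (hex : LinearMap.ker g = LinearMap.range f)
    (htors : gam (Pm k r).toIdeal T' = ⊤) (i : ℕ) (j : ℤ) (h : Van k r 𝒩 i j) :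
    Van k r 𝒩' i j := by
  intro E''
  obtain ⟨E', -⟩ : ∃ E' : StarInjRes (PA k r) (asGr 𝒯), True := ⟨minRes _ _, trivial⟩
  obtain ⟨E, -⟩ : ∃ E : StarInjRes (PA k r) (asGr 𝒩), True := ⟨minRes _ _, trivial⟩
  have hS : GrSES (asGr 𝒯) (asGr 𝒩) (asGr 𝒩') f g :=
    ⟨fun g m hm => hfg g m hm, fun g m hm => hgg g m hm, hf, hg, hex⟩
  refine Groth.Agent.Lib.T2H3.QReg.Hcomp_eq_bot_of_ses hS E' E E'' (Pm k r) i j (h E) ?_
  rw [Submodule.eq_bot_iff]
  intro z _
  exact (H_subsingleton_of_gam_eq_top E' (Pm k r) htors i).elim _ _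

/-- Dividing by a homogeneous regular element of degree `e`. -/
theorem van_quot_regular (x : MvPolynomial (Fin (r + 1)) k) (e : ℤ)
    (hx : x ∈ GrSyz.stdGr k (Fin (r + 1)) e) (hreg : Function.Injective (fun y : N => x • y))
    (π : N →ₗ[MvPolynomial (Fin (r + 1)) k] N') (hπ : Function.Surjective π)
    (hπg : IsGrHom 𝒩 𝒩' π)
    (hker : LinearMap.ker π = LinearMap.range (LinearMap.lsmul (MvPolynomial (Fin (r + 1)) k) N x))
    (i : ℕ) (j : ℤ) (h1 : Van k r 𝒩 i j) (h2 : Van k r 𝒩 (i + 1) (j + -e)) :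
    Van k r 𝒩' i j := by
  classical
  intro F
  let X : GMod.{u} (PA k r) := GMod.of (PA k r) N (asGr 𝒩)
  have hx' : x ∈ PA k r e := hx
  obtain ⟨E, -⟩ : ∃ E : StarInjRes (PA k r) X.gr, True := ⟨minRes _ _, trivial⟩
  have hK : gam (Pm k r).toIdeal
      (Groth.Agent.Lib.T2H3.Serre.kerG X hx').carrier = ⊤ := by
    rw [eq_top_iff]
    rintro ⟨y, hy⟩ _
    have hy0 : y = 0 := by
      apply hreg
      change x • y = x • (0 : N)
      rw [smul_zero]
      exact hy
    have : (⟨y, hy⟩ : (Groth.Agent.Lib.T2H3.Serre.kerG X hx').carrier) = 0 := Subtype.ext hy0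
    rw [this]
    exact Submodule.zero_mem _
  exact Groth.Agent.Lib.T2H3.QReg.Hcomp_quot_eq_bot X hx' (Pm k r) hK (asGr 𝒩') π
    (fun g m hm => hπg g m hm) hπ hker E F i j (h1 E) (h2 E)

variable [Module.Finite (MvPolynomial (Fin (r + 1)) k) N]
  [Module.Finite (MvPolynomial (Fin (r + 1)) k) N']

/-- If `x` is a homogeneous `N`-regular element of degree `e ≥ 1` and `reg N/xN ≤ d + e - 1`
then `reg N ≤ d`. -/
theorem isRegLE_of_quot_regular (x : MvPolynomial (Fin (r + 1)) k) (e : ℤ) (he : 1 ≤ e)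
    (hx : x ∈ GrSyz.stdGr k (Fin (r + 1)) e) (hreg : Function.Injective (fun y : N => x • y))
    (π : N →ₗ[MvPolynomial (Fin (r + 1)) k] N') (hπ : Function.Surjective π)
    (hπg : IsGrHom 𝒩 𝒩' π)
    (hker : LinearMap.ker π = LinearMap.range (LinearMap.lsmul (MvPolynomial (Fin (r + 1)) k) N x))
    (d : ℤ)
    (h' : GrSyz.IsRegLE (GrSyz.stdGr k (Fin (r + 1))) 𝒩'
      (GrSyz.irrel (GrSyz.stdGr k (Fin (r + 1)))).toIdeal (d + e - 1)) :
    GrSyz.IsRegLE (GrSyz.stdGr k (Fin (r + 1))) 𝒩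
      (GrSyz.irrel (GrSyz.stdGr k (Fin (r + 1)))).toIdeal d := by
  have hfe : ∀ (d : ℤ) (m : N), m ∈ 𝒩 d →
      LinearMap.lsmul (MvPolynomial (Fin (r + 1)) k) N x m ∈ 𝒩 (d + e) := by
    intro d m hm
    have h := SetLike.GradedSMul.smul_mem (A := GrSyz.stdGr k (Fin (r + 1))) (B := 𝒩) hx hm
    rw [vadd_eq_add, add_comm] at h
    exact h
  have step : ∀ t : ℕ, GrSyz.IsRegLE (GrSyz.stdGr k (Fin (r + 1))) 𝒩
      (GrSyz.irrel (GrSyz.stdGr k (Fin (r + 1)))).toIdeal (d + t) →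
      GrSyz.IsRegLE (GrSyz.stdGr k (Fin (r + 1))) 𝒩
        (GrSyz.irrel (GrSyz.stdGr k (Fin (r + 1)))).toIdeal d := by
    intro t
    induction t with
    | zero =>
      intro h
      simpa using h
    | succ t ih =>
      intro h
      apply ih
      have key := Groth.Agent.Helper13RegSES.ses_sub (ℳ₁ := 𝒩)
        (LinearMap.lsmul (MvPolynomial (Fin (r + 1)) k) N x) π hreg hπ hker.symm e hfe hπg
        (d + t + e)
        (Groth.Agent.Helper13RegLin.isRegLE_mono _ (by push_cast; omega) h)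
        (Groth.Agent.Helper13RegLin.isRegLE_mono _ (by omega) h')
      have e1 : d + (t : ℤ) + e - e = d + t := by ring
      rw [e1] at key
      exact key
  obtain ⟨r₀, hr₀⟩ := Groth.Agent.Helper13RegLin.exists_isRegLE (k := k) (n := r) 𝒩
  refine step (r₀ - d).toNat (Groth.Agent.Helper13RegLin.isRegLE_mono _ ?_ hr₀)
  have := Int.self_le_toNat (r₀ - d)
  omega

omit [Module.Finite (MvPolynomial (Fin (r + 1)) k) N]
  [Module.Finite (MvPolynomial (Fin (r + 1)) k) N'] in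
/-- A graded submodule of the torsion has regularity `≤ d` when `H^0_m(N)_j = 0` for `j > d`. -/
theorem isRegLE_of_tors [Module.Finite (MvPolynomial (Fin (r + 1)) k) T']
    (f : T' →ₗ[MvPolynomial (Fin (r + 1)) k] N) (hf : Function.Injective f)
    (hfg : IsGrHom 𝒯 𝒩 f) (hgam : ∀ t, f t ∈ gam (Pm k r).toIdeal N) (d : ℤ)
    (hvan : ∀ j : ℤ, d < j → Van k r 𝒩 0 j) :
    GrSyz.IsRegLE (GrSyz.stdGr k (Fin (r + 1))) 𝒯
      (GrSyz.irrel (GrSyz.stdGr k (Fin (r + 1)))).toIdeal d := by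
  classical
  have htors : gam (Pm k r).toIdeal T' = ⊤ := by
    rw [eq_top_iff]
    intro t _
    obtain ⟨n, hn⟩ := hgam t
    refine ⟨n, fun s hs => ?_⟩
    apply hf
    rw [map_smul, hn s hs, map_zero]
  obtain ⟨t, ht⟩ := exists_pow_kill_gam (Pm k r).toIdeal T'
  haveI hmax : (Pm k r).toIdeal.IsMaximal :=
    Groth.Agent.Helper13FreeRes.isMaximal_irrel_stdGr k (Fin (r + 1))
  haveI : IsArtinian (MvPolynomial (Fin (r + 1)) k) T' :=
    isArtinian_of_pow_smul_eq_zero (Pm k r).toIdeal t T'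
      (fun s hs y => ht s hs y (htors ▸ Submodule.mem_top))
  haveI : IsNoetherian (MvPolynomial (Fin (r + 1)) k) T' :=
    isNoetherian_of_isNoetherianRing_of_finite _ _
  have hfl : IsFiniteLength (MvPolynomial (Fin (r + 1)) k) T' :=
    isFiniteLength_iff_isNoetherian_isArtinian.mpr ⟨inferInstance, inferInstance⟩
  haveI : Module.Finite k T' :=
    Groth.Agent.Helper13RegFinLen.finite_of_isFiniteLength k (MvPolynomial (Fin (r + 1)) k) hfl
  obtain ⟨E, -⟩ : ∃ E : StarInjRes (PA k r) (asGr 𝒩), True := ⟨minRes _ _, trivial⟩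
  refine Groth.Agent.Helper13RegFinLen.isRegLE_of_pieces_eq_bot _ T' 𝒯 rfl d (fun j hj => ?_)
  rw [Submodule.eq_bot_iff]
  intro y hy
  apply hf
  rw [map_zero]
  exact eq_zero_of_mem_gam E (Pm k r) j (hvan j hj E) (hfg j y hy) (hgam y)

end Lemmas

end Groth.Agent.Lib.T2H3.EG
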