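import Groth.Agent.Lib.T2H3EGF
import Groth.Agent.Lib.Helper29GrGam

/-! Eisenbud–Goto, part 6 (helper3): the hard half, Noetherian induction. -/

set_option autoImplicit false
set_option linter.unusedSectionVars false
set_option linter.style.haveILetI false
open DirectSum

noncomputable section

namespace Groth.Agent.Lib.T2H3.EG

open GrLC Groth.Agent.Lib.T2H3.GrIrr Groth.Agent.Lib.T2H3.GrArt Groth.Agent.Lib.T2H3.GrTr
  Groth.Agent.Lib.T2H3.Serre Groth.Agent.Lib.T2H3.GrLes Groth.Agent.Lib.T2H3.MinRes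
  Groth.Agent.Helper13Hilb Groth.Agent.Lib.Helper29GrShift Groth.Agent.Lib.Helper29GrSub
  Groth.Agent.Lib.T2H3.GrTors Groth.Agent.Helper13GrQuotMod

universe u

variable (k : Type u) [Field k] (r : ℕ)

theorem isRegLE_of_van_aux (M : Type u) [AddCommGroup M]
    [Module (MvPolynomial (Fin (r + 1)) k) M] [IsNoetherian (MvPolynomial (Fin (r + 1)) k) M]
    (U : Submodule (MvPolynomial (Fin (r + 1)) k) M) :
    ∀ (N : Type u) [AddCommGroup N] [Module k N] [Module (MvPolynomial (Fin (r + 1)) k) N]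
      [IsScalarTower k (MvPolynomial (Fin (r + 1)) k) N]
      [Module.Finite (MvPolynomial (Fin (r + 1)) k) N]
      (𝒩 : ℤ → Submodule k N) [DirectSum.Decomposition 𝒩]
      [SetLike.GradedSMul (GrSyz.stdGr k (Fin (r + 1))) 𝒩]
      (π : M →ₗ[MvPolynomial (Fin (r + 1)) k] N), Function.Surjective π → LinearMap.ker π = U →
      ∀ d : ℤ, (∀ (i : ℕ) (j : ℤ), d - i < j → Van k r 𝒩 i j) →
      GrSyz.IsRegLE (GrSyz.stdGr k (Fin (r + 1))) 𝒩
        (GrSyz.irrel (GrSyz.stdGr k (Fin (r + 1)))).toIdeal d := by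
  induction U using IsNoetherian.induction with
  | hgt U ih =>
  intro N _ _ _ _ _ 𝒩 _ _ π hπ hker d hvan
  classical
  haveI : IsNoetherian (MvPolynomial (Fin (r + 1)) k) N :=
    isNoetherian_of_isNoetherianRing_of_finite _ _
  by_cases hT0 : gam (Pm k r).toIdeal N = ⊥
  · by_cases hsub : Subsingleton N
    · exact Groth.Agent.Helper13RegFinLen.isRegLE_of_subsingleton 𝒩 _ d
    · rw [not_subsingleton_iff_nontrivial] at hsub
      obtain ⟨x, e, he, hxe, -, hinj⟩ := exists_regular_homogeneous (M := N) (PA k r) (PA_pos k r)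
        (Pm k r).toIdeal (Pm k r).isHomogeneous (Pm_eq_irr k r).le hT0
      let P : Submodule (MvPolynomial (Fin (r + 1)) k) N :=
        LinearMap.range (LinearMap.lsmul (MvPolynomial (Fin (r + 1)) k) N x)
      have hP : P.IsHomogeneous 𝒩 :=
        isHomogeneous_of_asGr 𝒩 (range_lsmul_isHomogeneous (ℳ := asGr 𝒩) (𝒜 := PA k r) hxe)
      have hP' : IsHomog 𝒩 P := fun d y hy => hP d hy
      letI decQ := quotDecomposition hP'
      haveI gsQ := quot_gradedSMul (𝒜 := GrSyz.stdGr k (Fin (r + 1))) 𝒩 P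
      have hmk : IsGrHom 𝒩 (quotGr 𝒩 P) P.mkQ := mkQ_isGrHom 𝒩 P
      have hxe' : x ∈ GrSyz.stdGr k (Fin (r + 1)) e := hxe
      have hvan' : ∀ (i : ℕ) (j : ℤ), (d + e - 1) - i < j → Van k r (quotGr 𝒩 P) i j :=
        fun i j hj => van_quot_regular k r 𝒩 (quotGr 𝒩 P) x e hxe' hinj P.mkQ
          (Submodule.mkQ_surjective P) hmk (Submodule.ker_mkQ P) i j
          (hvan i j (by omega)) (hvan (i + 1) (j + -e) (by push_cast; omega))
      have hlt : U < LinearMap.ker (P.mkQ ∘ₗ π) := by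
        rw [← hker]
        refine lt_of_le_of_ne (LinearMap.ker_le_ker_comp _ _) (fun heq => ?_)
        obtain ⟨n₀, hn₀⟩ := exists_ne (0 : N)
        obtain ⟨m₀, hm₀⟩ := hπ (x • n₀)
        have h1 : m₀ ∈ LinearMap.ker (P.mkQ ∘ₗ π) := by
          rw [LinearMap.mem_ker, LinearMap.comp_apply, hm₀, Submodule.mkQ_apply,
            Submodule.Quotient.mk_eq_zero]
          exact ⟨n₀, rfl⟩
        rw [← heq, LinearMap.mem_ker, hm₀] at h1
        apply hn₀
        apply hinj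
        change x • n₀ = x • (0 : N)
        rw [h1, smul_zero]
      have hreg' := ih _ hlt (N ⧸ P) (quotGr 𝒩 P) (P.mkQ ∘ₗ π)
        ((Submodule.mkQ_surjective P).comp hπ) rfl (d + e - 1) hvan'
      exact isRegLE_of_quot_regular k r 𝒩 (quotGr 𝒩 P) x e (by omega) hxe' hinj P.mkQ
        (Submodule.mkQ_surjective P) hmk (Submodule.ker_mkQ P) d hreg'
  · let T : Submodule (MvPolynomial (Fin (r + 1)) k) N := gam (Pm k r).toIdeal N
    have hT : T.IsHomogeneous 𝒩 :=
      isHomogeneous_of_asGr 𝒩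
        (Groth.Agent.Lib.Helper29GrGam.gam_isHomogeneous (PA k r) (asGr 𝒩) (Pm k r))
    have hT' : IsHomog 𝒩 T := fun d y hy => hT d hy
    letI decQ := quotDecomposition hT'
    haveI gsQ := quot_gradedSMul (𝒜 := GrSyz.stdGr k (Fin (r + 1))) 𝒩 T
    letI decT := subDecK 𝒩 hT
    haveI gsT := sub_gradedSMulK (GrSyz.stdGr k (Fin (r + 1))) 𝒩 T
    have hmk : IsGrHom 𝒩 (quotGr 𝒩 T) T.mkQ := mkQ_isGrHom 𝒩 T
    have htorsT : gam (Pm k r).toIdeal ↥T = ⊤ := by
      rw [eq_top_iff]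
      rintro ⟨t, n, hn⟩ _
      exact ⟨n, fun s hs => Subtype.ext (hn s hs)⟩
    have hvan' : ∀ (i : ℕ) (j : ℤ), d - i < j → Van k r (quotGr 𝒩 T) i j :=
      fun i j hj => van_of_ses_tors k r (subGrK 𝒩 T) 𝒩 (quotGr 𝒩 T) T.subtype T.mkQ
        (fun g z hz => hz) hmk (Submodule.injective_subtype T) (Submodule.mkQ_surjective T)
        (by rw [Submodule.ker_mkQ, Submodule.range_subtype]) htorsT i j (hvan i j hj)
    have hlt : U < LinearMap.ker (T.mkQ ∘ₗ π) := by
      rw [← hker]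
      refine lt_of_le_of_ne (LinearMap.ker_le_ker_comp _ _) (fun heq => ?_)
      obtain ⟨t, ht, ht0⟩ := (Submodule.ne_bot_iff T).mp hT0
      obtain ⟨m₀, hm₀⟩ := hπ t
      have h1 : m₀ ∈ LinearMap.ker (T.mkQ ∘ₗ π) := by
        rw [LinearMap.mem_ker, LinearMap.comp_apply, hm₀, Submodule.mkQ_apply,
          Submodule.Quotient.mk_eq_zero]
        exact ht
      rw [← heq, LinearMap.mem_ker, hm₀] at h1
      exact ht0 h1
    have hregQ := ih _ hlt (N ⧸ T) (quotGr 𝒩 T) (T.mkQ ∘ₗ π)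
      ((Submodule.mkQ_surjective T).comp hπ) rfl d hvan'
    have hregT : GrSyz.IsRegLE (GrSyz.stdGr k (Fin (r + 1))) (subGrK 𝒩 T)
        (GrSyz.irrel (GrSyz.stdGr k (Fin (r + 1)))).toIdeal d :=
      isRegLE_of_tors k r (subGrK 𝒩 T) 𝒩 T.subtype (Submodule.injective_subtype T)
        (fun g z hz => hz) (fun t => t.2) d (fun j hj => hvan 0 j (by simpa using hj))
    exact Groth.Agent.Helper13RegSES.ses_mid (ℳ₁ := subGrK 𝒩 T) T.subtype T.mkQ
      (Submodule.injective_subtype T) (Submodule.mkQ_surjective T)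
      (by rw [Submodule.ker_mkQ, Submodule.range_subtype]) 0
      (fun g z hz => by rw [add_zero]; exact hz) hmk d (by rw [sub_zero]; exact hregT) hregQ

/-- Eisenbud–Goto, the hard half: if `H^i_m(N)_j = 0` for all `j > d - i` then `reg N ≤ d`. -/
theorem isRegLE_of_van {N : Type u} [AddCommGroup N] [Module k N]
    [Module (MvPolynomial (Fin (r + 1)) k) N] [IsScalarTower k (MvPolynomial (Fin (r + 1)) k) N]
    [Module.Finite (MvPolynomial (Fin (r + 1)) k) N]
    (𝒩 : ℤ → Submodule k N) [DirectSum.Decomposition 𝒩]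
    [SetLike.GradedSMul (GrSyz.stdGr k (Fin (r + 1))) 𝒩] (d : ℤ)
    (hvan : ∀ (i : ℕ) (j : ℤ), d - i < j → Van k r 𝒩 i j) :
    GrSyz.IsRegLE (GrSyz.stdGr k (Fin (r + 1))) 𝒩
      (GrSyz.irrel (GrSyz.stdGr k (Fin (r + 1)))).toIdeal d := by
  haveI : IsNoetherian (MvPolynomial (Fin (r + 1)) k) N :=
    isNoetherian_of_isNoetherianRing_of_finite _ _
  exact isRegLE_of_van_aux k r N ⊥ N 𝒩 LinearMap.id Function.surjective_id
    LinearMap.ker_id d hvan

end Groth.Agent.Lib.T2H3.EG
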