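import Groth.Agent.Lib.T2H3EGG
import Groth.Agent.Lib.Helper13Betti

/-! Eisenbud–Goto, part 7 (helper3): the theorem `reg M ≤ d ↔ H^i_m(M)_j = 0 for j > d - i`,
in terms of ends of the graded local cohomology modules, and its consequences for `reg`. -/

set_option autoImplicit false
set_option linter.unusedSectionVars false
set_option linter.style.haveILetI false
open DirectSum

noncomputable section

namespace Groth.Agent.Lib.T2H3.EG

open GrLC Groth.Agent.Lib.T2H3.GrIrr Groth.Agent.Lib.T2H3.GrArt Groth.Agent.Lib.T2H3.GrTr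
  Groth.Agent.Lib.T2H3.Serre Groth.Agent.Lib.T2H3.GrLes Groth.Agent.Lib.T2H3.MinRes
  Groth.Agent.Helper13Hilb Groth.Agent.Lib.Helper29GrShift Groth.Agent.Lib.Helper29GrSub
  Groth.Agent.Lib.T2H3.GrTors Groth.Agent.Helper13GrQuotMod

universe u

section Order

theorem iInf_int_eq (s : WithBot (WithTop ℤ)) :
    ⨅ (r : ℤ) (_ : s ≤ ((r : WithTop ℤ) : WithBot (WithTop ℤ))),
      ((r : WithTop ℤ) : WithBot (WithTop ℤ)) = s := by
  apply le_antisymm
  · induction s using WithBot.recBotCoe with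
    | bot =>
      obtain ⟨c, hc⟩ : ∃ c, c = ⨅ (r : ℤ) (_ : (⊥ : WithBot (WithTop ℤ)) ≤
        ((r : WithTop ℤ) : WithBot (WithTop ℤ))), ((r : WithTop ℤ) : WithBot (WithTop ℤ)) :=
        ⟨_, rfl⟩
      rw [← hc]
      have hle : ∀ r : ℤ, c ≤ ((r : WithTop ℤ) : WithBot (WithTop ℤ)) := by
        intro r
        rw [hc]
        exact iInf₂_le (f := fun (r : ℤ) (_ : (⊥ : WithBot (WithTop ℤ)) ≤
          ((r : WithTop ℤ) : WithBot (WithTop ℤ))) => ((r : WithTop ℤ) : WithBot (WithTop ℤ)))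
          r bot_le
      induction c using WithBot.recBotCoe with
      | bot => exact le_rfl
      | coe c' =>
        exfalso
        induction c' using WithTop.recTopCoe with
        | top =>
          have h := WithBot.coe_le_coe.1 (hle 0)
          exact WithTop.coe_ne_top (top_le_iff.1 h)
        | coe m =>
          have h := WithTop.coe_le_coe.1 (WithBot.coe_le_coe.1 (hle (m - 1)))
          omega
    | coe c =>
      induction c using WithTop.recTopCoe with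
      | top => exact le_top
      | coe n => exact iInf₂_le (f := fun (r : ℤ) (_ : (((n : ℤ) : WithTop ℤ) :
          WithBot (WithTop ℤ)) ≤ ((r : WithTop ℤ) : WithBot (WithTop ℤ))) =>
          ((r : WithTop ℤ) : WithBot (WithTop ℤ))) n le_rfl
  · exact le_iInf₂ (fun r hr => hr)

/-- An extended integer is determined by its integer upper bounds. -/
theorem eq_of_forall_le_int_iff {s s' : WithBot (WithTop ℤ)}
    (h : ∀ ρ : ℤ, s ≤ ((ρ : WithTop ℤ) : WithBot (WithTop ℤ)) ↔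
      s' ≤ ((ρ : WithTop ℤ) : WithBot (WithTop ℤ))) : s = s' := by
  rw [← iInf_int_eq s, ← iInf_int_eq s']
  simp only [h]

theorem add_int_le_iff (s : WithBot (WithTop ℤ)) (i ρ : ℤ) :
    s + ((i : WithTop ℤ) : WithBot (WithTop ℤ)) ≤ ((ρ : WithTop ℤ) : WithBot (WithTop ℤ)) ↔
      s ≤ (((ρ - i : ℤ) : WithTop ℤ) : WithBot (WithTop ℤ)) := by
  induction s using WithBot.recBotCoe with
  | bot => simp
  | coe c =>
    induction c using WithTop.recTopCoe with
    | top =>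
      rw [← WithBot.coe_add, WithBot.coe_le_coe, WithBot.coe_le_coe, top_add]
      simp
    | coe n =>
      rw [← WithBot.coe_add, ← WithTop.coe_add, WithBot.coe_le_coe, WithBot.coe_le_coe,
        WithTop.coe_le_coe, WithTop.coe_le_coe]
      omega

theorem endDeg_le_iff' {H : Type*} [AddCommGroup H] (𝓗 : ℤ → AddSubgroup H) (ρ : ℤ) :
    endDeg 𝓗 ≤ ((ρ : WithTop ℤ) : WithBot (WithTop ℤ)) ↔ ∀ j, ρ < j → 𝓗 j = ⊥ := by
  unfold endDeg
  rw [iSup₂_le_iff]
  constructor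
  · intro h j hj
    by_contra hne
    have h1 := h j hne
    rw [WithBot.coe_le_coe, WithTop.coe_le_coe] at h1
    omega
  · intro h j hj
    rw [WithBot.coe_le_coe, WithTop.coe_le_coe]
    by_contra hlt
    push Not at hlt
    exact hj (h j hlt)

end Order

section ResOf

variable {ι : Type} [AddCommGroup ι] [DecidableEq ι]
variable {R : Type u} [CommRing R] {σ : Type u} [SetLike σ R] [AddSubgroupClass σ R]
variable (𝒜 : ι → σ) [GradedRing 𝒜]
variable {M : Type u} [AddCommGroup M] [Module R M] {τ : Type u} [SetLike τ M]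
  [AddSubgroupClass τ M] (ℳ : ι → τ) [DirectSum.Decomposition ℳ] [SetLike.GradedSMul 𝒜 ℳ]

/-- Transfer of a *injective resolution, back. -/
def resOf (E : GrLC.StarInjRes (asGr 𝒜) (asGr ℳ)) : GrLC.StarInjRes 𝒜 ℳ where
  X n := gmOf 𝒜 (E.X n)
  d n := E.d n
  ε := E.ε
  d_grHom n := E.d_grHom n
  ε_grHom := fun g m hm => E.ε_grHom g m hm
  ε_injective := E.ε_injective
  exact_zero := E.exact_zero
  exact_succ := E.exact_succ
  starInj n := by
    haveI := gradedSMul_of_asGr 𝒜 (E.X n).gr (E.X n).gsmul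
    exact isStarInj_of_asGr 𝒜 (E.X n).gr (E.starInj n)

end ResOf

section Main

variable (k : Type u) [Field k] (r : ℕ)
  {M : Type u} [AddCommGroup M] [Module k M] [Module (MvPolynomial (Fin (r + 1)) k) M]
  [IsScalarTower k (MvPolynomial (Fin (r + 1)) k) M]
  (ℳ : ℤ → Submodule k M) [DirectSum.Decomposition ℳ]
  [SetLike.GradedSMul (GrSyz.stdGr k (Fin (r + 1))) ℳ]

variable {ℳ} in
theorem van_iff_Hgr (E : StarInjRes (GrSyz.stdGr k (Fin (r + 1))) ℳ) (i : ℕ) (j : ℤ) :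
    Van k r ℳ i j ↔ E.Hgr (GrSyz.irrel (GrSyz.stdGr k (Fin (r + 1)))) i j = ⊥ := by
  constructor
  · intro h
    have h1 := h (resTo (GrSyz.stdGr k (Fin (r + 1))) ℳ E)
    rw [AddSubgroup.eq_bot_iff_forall]
    intro y hy
    have hy' : y ∈ (resTo (GrSyz.stdGr k (Fin (r + 1))) ℳ E).Hcomp (Pm k r) i j := hy
    rw [h1] at hy'
    exact hy'
  · intro h
    apply van_of k r (resTo (GrSyz.stdGr k (Fin (r + 1))) ℳ E)
    rw [Submodule.eq_bot_iff]
    intro y hy
    have hy' : y ∈ E.Hgr (GrSyz.irrel (GrSyz.stdGr k (Fin (r + 1)))) i j := hy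
    rw [h] at hy'
    exact hy'

variable [Module.Finite (MvPolynomial (Fin (r + 1)) k) M]

/-- `reg M ≤ d` implies `H^i_m(M)_j = 0` for `j > d - i`. -/
theorem van_of_isRegLE (d : ℤ)
    (h : GrSyz.IsRegLE (GrSyz.stdGr k (Fin (r + 1))) ℳ
      (GrSyz.irrel (GrSyz.stdGr k (Fin (r + 1)))).toIdeal d) (i : ℕ) (j : ℤ) (hj : d - i < j) :
    Van k r ℳ i j := by
  by_cases hi : i ≤ r + 2
  · exact van_of_isRegLE_aux k r (r + 2 - i) i (by omega) M ℳ d h j hj
  · intro E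
    exact Hcomp_eq_bot_of_lt (ringKrullDim_poly k r) E (by omega) j

/-- The Eisenbud–Goto theorem. -/
theorem isRegLE_iff_van (d : ℤ) :
    GrSyz.IsRegLE (GrSyz.stdGr k (Fin (r + 1))) ℳ
      (GrSyz.irrel (GrSyz.stdGr k (Fin (r + 1)))).toIdeal d ↔
      ∀ (i : ℕ) (j : ℤ), d - i < j → Van k r ℳ i j :=
  ⟨fun h i j hj => van_of_isRegLE k r ℳ d h i j hj, fun h => isRegLE_of_van k r ℳ d h⟩

/-- The Eisenbud–Goto theorem, in terms of the ends of the local cohomology modules. -/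
theorem isRegLE_iff_endDeg (E : StarInjRes (GrSyz.stdGr k (Fin (r + 1))) ℳ) (d : ℤ) :
    GrSyz.IsRegLE (GrSyz.stdGr k (Fin (r + 1))) ℳ
      (GrSyz.irrel (GrSyz.stdGr k (Fin (r + 1)))).toIdeal d ↔
      ∀ i : ℕ, endDeg (E.Hgr (GrSyz.irrel (GrSyz.stdGr k (Fin (r + 1)))) i) +
        (((i : ℤ) : WithTop ℤ) : WithBot (WithTop ℤ)) ≤ ((d : WithTop ℤ) : WithBot (WithTop ℤ)) := by
  rw [isRegLE_iff_van]
  refine forall_congr' (fun i => ?_)
  rw [add_int_le_iff, endDeg_le_iff']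
  refine forall_congr' (fun j => ?_)
  rw [van_iff_Hgr k r E]

/-- For a minimal resolution, `reg M ≤ d` says that the resolution is generated in degrees
`≤ d + i`. -/
theorem isGenLE_iff_isRegLE (F : GrSyz.FreeRes (GrSyz.stdGr k (Fin (r + 1))) ℳ)
    (hF : F.IsMinimal (GrSyz.irrel (GrSyz.stdGr k (Fin (r + 1)))).toIdeal) (d : ℤ) :
    F.IsGenLE d ↔ GrSyz.IsRegLE (GrSyz.stdGr k (Fin (r + 1))) ℳ
      (GrSyz.irrel (GrSyz.stdGr k (Fin (r + 1)))).toIdeal d := by
  classical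
  constructor
  · intro h
    exact ⟨F, hF, h⟩
  · rintro ⟨F', hF', hgen⟩
    intro i b
    have hpos : 0 < F.betti i (F.deg i b) := by
      unfold GrSyz.FreeRes.betti
      exact Finset.card_pos.2 ⟨b, Finset.mem_filter.2 ⟨Finset.mem_univ _, rfl⟩⟩
    rw [Groth.Agent.Helper13Betti.betti_eq F F' hF hF' i (F.deg i b)] at hpos
    unfold GrSyz.FreeRes.betti at hpos
    obtain ⟨b', hb'⟩ := Finset.card_pos.1 hpos
    rw [← (Finset.mem_filter.1 hb').2]
    exact hgen i b'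

/-- `reg M = sup_i (end H^i_m(M) + i)`. -/
theorem reg_eq_iSup (E : StarInjRes (GrSyz.stdGr k (Fin (r + 1))) ℳ) :
    GrSyz.reg (GrSyz.stdGr k (Fin (r + 1))) ℳ (GrSyz.irrel (GrSyz.stdGr k (Fin (r + 1)))).toIdeal =
      ⨆ i : ℕ, (endDeg (E.Hgr (GrSyz.irrel (GrSyz.stdGr k (Fin (r + 1)))) i) +
        (((i : ℤ) : WithTop ℤ) : WithBot (WithTop ℤ))) := by
  have hiff : ∀ ρ : ℤ, GrSyz.IsRegLE (GrSyz.stdGr k (Fin (r + 1))) ℳ
      (GrSyz.irrel (GrSyz.stdGr k (Fin (r + 1)))).toIdeal ρ ↔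
      (⨆ i : ℕ, (endDeg (E.Hgr (GrSyz.irrel (GrSyz.stdGr k (Fin (r + 1)))) i) +
        (((i : ℤ) : WithTop ℤ) : WithBot (WithTop ℤ)))) ≤
        ((ρ : WithTop ℤ) : WithBot (WithTop ℤ)) := by
    intro ρ
    rw [iSup_le_iff]
    exact isRegLE_iff_endDeg k r ℳ E ρ
  unfold GrSyz.reg
  simp only [hiff]
  exact iInf_int_eq _

/-- `reg M ≤ ρ` iff `M` has regularity `≤ ρ`. -/
theorem reg_le_iff (ρ : ℤ) :
    GrSyz.reg (GrSyz.stdGr k (Fin (r + 1))) ℳ (GrSyz.irrel (GrSyz.stdGr k (Fin (r + 1)))).toIdeal ≤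
      ((ρ : WithTop ℤ) : WithBot (WithTop ℤ)) ↔
      GrSyz.IsRegLE (GrSyz.stdGr k (Fin (r + 1))) ℳ
        (GrSyz.irrel (GrSyz.stdGr k (Fin (r + 1)))).toIdeal ρ := by
  obtain ⟨E, -⟩ : ∃ E : StarInjRes (GrSyz.stdGr k (Fin (r + 1))) ℳ, True :=
    ⟨resOf _ _ (minRes (PA k r) (asGr ℳ)), trivial⟩
  rw [reg_eq_iSup k r ℳ E, iSup_le_iff]
  exact (isRegLE_iff_endDeg k r ℳ E ρ).symm

end Main

end Groth.Agent.Lib.T2H3.EG
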