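import Groth.Agent.Lib.T2H3EGH

/-! Eisenbud–Goto, part 8 (helper3): regularity and a quasi-regular linear form,
`reg M = max(end H^0_m(M), reg M/xM)`. -/

set_option autoImplicit false
set_option linter.unusedSectionVars false
set_option linter.style.haveILetI false
open DirectSum

noncomputable section

namespace Groth.Agent.Lib.T2H3.EG

open GrLC Groth.Agent.Lib.T2H3.GrIrr Groth.Agent.Lib.T2H3.GrArt Groth.Agent.Lib.T2H3.GrTr
  Groth.Agent.Lib.T2H3.Serre Groth.Agent.Lib.T2H3.GrLes Groth.Agent.Lib.T2H3.MinRes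
  Groth.Agent.Helper13Hilb Groth.Agent.Lib.Helper29GrShift Groth.Agent.Lib.Helper29GrSub
  Groth.Agent.Lib.T2H3.GrTors Groth.Agent.Helper13GrQuotMod

universe u

section Gen

variable {R : Type u} [CommRing R] {𝒜 : ℤ → AddSubgroup R} [GradedRing 𝒜] [IsNoetherianRing R]

/-- If the kernel of `x` on `M` is `a`-torsion, `H^{i+1}_a(M)_j = 0` and `H^i_a(M/xM)_j = 0` then
`H^{i+1}_a(M)_{j-e} = 0`. -/
theorem Hcomp_pred_eq_bot (X : GMod.{u} 𝒜) {x : R} {e : ℤ} (hx : x ∈ 𝒜 e)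
    (a : HomogeneousIdeal 𝒜) (hK : gam a.toIdeal (kerG X hx).carrier = ⊤)
    {N : Type u} [AddCommGroup N] [Module R N] (𝒩 : ℤ → AddSubgroup N)
    [DirectSum.Decomposition 𝒩] [SetLike.GradedSMul 𝒜 𝒩]
    (π : X.carrier →ₗ[R] N) (hπ : IsGrHom X.gr 𝒩 π) (hπs : Function.Surjective π)
    (hker : LinearMap.ker π = LinearMap.range (LinearMap.lsmul R X.carrier x))
    (E : StarInjRes 𝒜 X.gr) (F : StarInjRes 𝒜 𝒩) (i : ℕ) (j : ℤ)
    (h1 : E.Hcomp a (i + 1) j = ⊥) (h2 : F.Hcomp a i j = ⊥) :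
    E.Hcomp a (i + 1) (j + -e) = ⊥ := by
  classical
  obtain ⟨EK, -⟩ : ∃ EK : StarInjRes 𝒜 (kerG X hx).gr, True := ⟨minRes 𝒜 (kerG X hx).gr, trivial⟩
  obtain ⟨EC, -⟩ : ∃ EC : StarInjRes 𝒜 (coimG X hx).gr, True :=
    ⟨minRes 𝒜 (coimG X hx).gr, trivial⟩
  have S1 := grSES_sub_quot 𝒜 X.gr (LinearMap.ker (LinearMap.lsmul R X.carrier x))
      (ker_lsmul_isHomogeneous X hx)
  have S2 : GrSES (shiftGr (coimG X hx).gr (-e)) X.gr 𝒩 (coimMap X hx) π := by
    have S := grSES_coim_coker X hx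
    refine ⟨S.f_gr, hπ, S.f_inj, hπs, ?_⟩
    rw [hker]
    change _ = LinearMap.range ((LinearMap.ker (LinearMap.lsmul R X.carrier x)).liftQ
        (LinearMap.lsmul R X.carrier x) le_rfl)
    rw [Submodule.range_liftQ]
  have hC : (shiftRes EC (-e)).Hcomp a (i + 1) j = ⊥ :=
    Hcomp_eq_bot_sub S2 (shiftRes EC (-e)) E F a i j h1 h2
  have hC' : EC.Hcomp a (i + 1) (j + -e) = ⊥ := by
    rw [Submodule.eq_bot_iff]
    intro z hz
    have hz' : z ∈ (shiftRes EC (-e)).Hcomp a (i + 1) j := hz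
    rw [hC] at hz'
    exact hz'
  have hKbot : EK.Hcomp a (i + 1) (j + -e) = ⊥ := by
    rw [Submodule.eq_bot_iff]
    intro z _
    exact (H_subsingleton_of_gam_eq_top EK a hK i).elim _ _
  exact Hcomp_eq_bot_mid S1 EK E EC a (i + 1) (j + -e) hKbot hC'

end Gen

section Poly

variable (k : Type u) [Field k] (r : ℕ)
  {M : Type u} [AddCommGroup M] [Module k M] [Module (MvPolynomial (Fin (r + 1)) k) M]
  [IsScalarTower k (MvPolynomial (Fin (r + 1)) k) M]
  (ℳ : ℤ → Submodule k M) [DirectSum.Decomposition ℳ]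
  [SetLike.GradedSMul (GrSyz.stdGr k (Fin (r + 1))) ℳ]
  {N : Type u} [AddCommGroup N] [Module k N] [Module (MvPolynomial (Fin (r + 1)) k) N]
  [IsScalarTower k (MvPolynomial (Fin (r + 1)) k) N]
  (𝒩 : ℤ → Submodule k N) [DirectSum.Decomposition 𝒩]
  [SetLike.GradedSMul (GrSyz.stdGr k (Fin (r + 1))) 𝒩]

include ℳ in
/-- The kernel of a quasi-regular element is torsion. -/
theorem gam_ker_eq_top_of_isFiniteLength (x : MvPolynomial (Fin (r + 1)) k) (e : ℤ)
    (hx : x ∈ GrSyz.stdGr k (Fin (r + 1)) e)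
    (hq : IsFiniteLength (MvPolynomial (Fin (r + 1)) k)
      ↥(Submodule.torsionBy (MvPolynomial (Fin (r + 1)) k) M x)) :
    gam (Pm k r).toIdeal
      ↥(LinearMap.ker (LinearMap.lsmul (MvPolynomial (Fin (r + 1)) k) M x)) = ⊤ := by
  classical
  let X : GMod.{u} (PA k r) := GMod.of (PA k r) M (asGr ℳ)
  have hx' : x ∈ PA k r e := hx
  have hKeq : LinearMap.ker (LinearMap.lsmul (MvPolynomial (Fin (r + 1)) k) M x) =
      Submodule.torsionBy (MvPolynomial (Fin (r + 1)) k) M x := by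
    ext y
    rw [LinearMap.mem_ker, Submodule.mem_torsionBy_iff]
    rfl
  haveI hart : IsArtinian (MvPolynomial (Fin (r + 1)) k) (kerG X hx').carrier := by
    have h1 : IsArtinian (MvPolynomial (Fin (r + 1)) k)
        ↥(Submodule.torsionBy (MvPolynomial (Fin (r + 1)) k) M x) :=
      (isFiniteLength_iff_isNoetherian_isArtinian.mp hq).2
    rw [← hKeq] at h1
    exact h1
  exact Groth.Agent.Lib.T2H3.QReg.gam_eq_top_of_isArtinian (PA k r) (kerG X hx').gr
    (PA_pos k r) _ (Groth.Agent.Lib.T2H3.QReg.irrel_le_irr k r)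

variable {ℳ 𝒩}
variable (x : MvPolynomial (Fin (r + 1)) k) (e : ℤ) (hx : x ∈ GrSyz.stdGr k (Fin (r + 1)) e)
  (hK : gam (Pm k r).toIdeal
    ↥(LinearMap.ker (LinearMap.lsmul (MvPolynomial (Fin (r + 1)) k) M x)) = ⊤)
  (π : M →ₗ[MvPolynomial (Fin (r + 1)) k] N) (hπ : Function.Surjective π)
  (hπg : IsGrHom ℳ 𝒩 π)
  (hker : LinearMap.ker π = LinearMap.range (LinearMap.lsmul (MvPolynomial (Fin (r + 1)) k) M x))

include hx hK hπ hπg hker

theorem van_quot_qreg (i : ℕ) (j : ℤ) (h1 : Van k r ℳ i j) (h2 : Van k r ℳ (i + 1) (j + -e)) :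
    Van k r 𝒩 i j := by
  classical
  intro F
  let X : GMod.{u} (PA k r) := GMod.of (PA k r) M (asGr ℳ)
  have hx' : x ∈ PA k r e := hx
  obtain ⟨E, -⟩ : ∃ E : StarInjRes (PA k r) X.gr, True := ⟨minRes _ _, trivial⟩
  exact Groth.Agent.Lib.T2H3.QReg.Hcomp_quot_eq_bot X hx' (Pm k r) hK (asGr 𝒩) π
    (fun g m hm => hπg g m hm) hπ hker E F i j (h1 E) (h2 E)

theorem van_pred_qreg (i : ℕ) (j : ℤ) (h1 : Van k r ℳ (i + 1) j) (h2 : Van k r 𝒩 i j) :
    Van k r ℳ (i + 1) (j + -e) := by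
  classical
  let X : GMod.{u} (PA k r) := GMod.of (PA k r) M (asGr ℳ)
  have hx' : x ∈ PA k r e := hx
  obtain ⟨E, -⟩ : ∃ E : StarInjRes (PA k r) X.gr, True := ⟨minRes _ _, trivial⟩
  obtain ⟨F, -⟩ : ∃ F : StarInjRes (PA k r) (asGr 𝒩), True := ⟨minRes _ _, trivial⟩
  exact van_of k r E (Hcomp_pred_eq_bot X hx' (Pm k r) hK (asGr 𝒩) π
    (fun g m hm => hπg g m hm) hπ hker E F i j (h1 E) (h2 F))

end Poly

section Final

variable (k : Type u) [Field k] (r : ℕ)
  {M : Type u} [AddCommGroup M] [Module k M] [Module (MvPolynomial (Fin (r + 1)) k) M]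
  [IsScalarTower k (MvPolynomial (Fin (r + 1)) k) M]
  [Module.Finite (MvPolynomial (Fin (r + 1)) k) M]
  (ℳ : ℤ → Submodule k M) [DirectSum.Decomposition ℳ]
  [SetLike.GradedSMul (GrSyz.stdGr k (Fin (r + 1))) ℳ]
  {N : Type u} [AddCommGroup N] [Module k N] [Module (MvPolynomial (Fin (r + 1)) k) N]
  [IsScalarTower k (MvPolynomial (Fin (r + 1)) k) N]
  [Module.Finite (MvPolynomial (Fin (r + 1)) k) N]
  (𝒩 : ℤ → Submodule k N) [DirectSum.Decomposition 𝒩]
  [SetLike.GradedSMul (GrSyz.stdGr k (Fin (r + 1))) 𝒩]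

/-- `reg M = max(end H^0_m(M), reg M/xM)` for a quasi-regular linear form `x`. -/
theorem reg_eq_sup_of_qreg (x : MvPolynomial (Fin (r + 1)) k)
    (hx : x ∈ GrSyz.stdGr k (Fin (r + 1)) 1)
    (hq : IsFiniteLength (MvPolynomial (Fin (r + 1)) k)
      ↥(Submodule.torsionBy (MvPolynomial (Fin (r + 1)) k) M x))
    (π : M →ₗ[MvPolynomial (Fin (r + 1)) k] N) (hπ : Function.Surjective π)
    (hπg : IsGrHom ℳ 𝒩 π)
    (hker : LinearMap.ker π =
      LinearMap.range (x • (LinearMap.id : M →ₗ[MvPolynomial (Fin (r + 1)) k] M)))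
    (E : StarInjRes (GrSyz.stdGr k (Fin (r + 1))) ℳ) :
    GrSyz.reg (GrSyz.stdGr k (Fin (r + 1))) ℳ (GrSyz.irrel (GrSyz.stdGr k (Fin (r + 1)))).toIdeal =
      endDeg (E.Hgr (GrSyz.irrel (GrSyz.stdGr k (Fin (r + 1)))) 0) ⊔
        GrSyz.reg (GrSyz.stdGr k (Fin (r + 1))) 𝒩
          (GrSyz.irrel (GrSyz.stdGr k (Fin (r + 1)))).toIdeal := by
  classical
  apply eq_of_forall_le_int_iff
  intro ρ
  rw [sup_le_iff, reg_le_iff, reg_le_iff, endDeg_le_iff', isRegLE_iff_van, isRegLE_iff_van]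
  have hK := gam_ker_eq_top_of_isFiniteLength k r ℳ x 1 hx hq
  have hker' : LinearMap.ker π =
      LinearMap.range (LinearMap.lsmul (MvPolynomial (Fin (r + 1)) k) M x) := by
    rw [hker]
    rfl
  constructor
  · intro h
    refine ⟨fun j hj => (van_iff_Hgr k r E 0 j).mp (h 0 j (by simpa using hj)),
      fun i j hj => van_quot_qreg k r x 1 hx hK π hπ hπg hker' i j (h i j hj)
        (h (i + 1) (j + -1) (by push_cast; omega))⟩
  · rintro ⟨h0, hN⟩ i j hj
    cases i with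
    | zero => exact (van_iff_Hgr k r E 0 j).mpr (h0 j (by simpa using hj))
    | succ i =>
      obtain ⟨E₀, -⟩ : ∃ E₀ : StarInjRes (PA k r) (asGr ℳ), True := ⟨minRes _ _, trivial⟩
      obtain ⟨B, hB⟩ := exists_Hcomp_eq_bot_of_isStarLocal (PA_pos k r) (Pm_isStarLocal k r)
        E₀ (i + 1)
      have key : ∀ t : ℕ, ∀ j : ℤ, ρ - ((i + 1 : ℕ) : ℤ) < j → B ≤ j + t →
          Van k r ℳ (i + 1) j := by
        intro t
        induction t with
        | zero =>
          intro j _ hBj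
          exact van_of k r E₀ (hB j (by simpa using hBj))
        | succ t ih =>
          intro j hj hBj
          have h1 := ih (j + 1) (by omega) (by push_cast at hBj ⊢; omega)
          have h2 := hN i (j + 1) (by push_cast at hj ⊢; omega)
          have h3 := van_pred_qreg k r x 1 hx hK π hπ hπg hker' i (j + 1) h1 h2
          have e1 : j + 1 + -1 = j := by ring
          rwa [e1] at h3
      exact key (B - j).toNat j hj (by have := Int.self_le_toNat (B - j); omega)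

end Final

end Groth.Agent.Lib.T2H3.EG
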