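import Groth.Agent.Lib.T2H3GrDimB
import Groth.Agent.Lib.Helper28DepthMore

/-! The a-invariant of `R/xR` for a Cohen–Macaulay *local standard graded ring `R` and a homogeneous
non-zerodivisor `x ∈ m` of degree `k`: `a(R/xR) = a(R) + k` (helper3). -/

set_option autoImplicit false
set_option linter.unusedSectionVars false
set_option linter.style.haveILetI false
open DirectSum

namespace Groth.Agent.Lib.T2H3.GrAinv

open GrLC Groth.Agent.Lib.T2H3.GrArt Groth.Agent.Lib.T2H3.GrDim Groth.Agent.Lib.T2H3.GrLes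
  Groth.Agent.Lib.T2H3.GrIrr

universe u

section Arith

/-- The integer `k` in `WithBot (WithTop ℤ)`. -/
def c (k : ℤ) : WithBot (WithTop ℤ) := ((k : WithTop ℤ) : WithBot (WithTop ℤ))

theorem c_add (a b : ℤ) : c (a + b) = c a + c b := by
  unfold c
  rw [WithTop.coe_add, WithBot.coe_add]

theorem c_le_c {a b : ℤ} (h : a ≤ b) : c a ≤ c b := by
  unfold c
  exact WithBot.coe_le_coe.mpr (WithTop.coe_le_coe.mpr h)

theorem add_neg_add (S : WithBot (WithTop ℤ)) (k : ℤ) : S + c (-k) + c k = S := by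
  induction S using WithBot.recBotCoe with
  | bot => rw [WithBot.bot_add, WithBot.bot_add]
  | coe s =>
    induction s using WithTop.recTopCoe with
    | top =>
      unfold c
      rw [← WithBot.coe_add, WithTop.top_add, ← WithBot.coe_add, WithTop.top_add]
    | coe z =>
      change c z + c (-k) + c k = c z
      rw [← c_add, ← c_add, neg_add_cancel_right]

theorem iSup_add_le {A : ℤ → Prop} {S : WithBot (WithTop ℤ)} (k : ℤ)
    (h : ∀ j : ℤ, A j → c j + c k ≤ S) :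
    (⨆ (j : ℤ) (_ : A j), ((j : WithTop ℤ) : WithBot (WithTop ℤ))) + c k ≤ S := by
  have h1 : (⨆ (j : ℤ) (_ : A j), ((j : WithTop ℤ) : WithBot (WithTop ℤ))) ≤ S + c (-k) := by
    refine iSup₂_le fun j hj => ?_
    have h2 := add_le_add_left (h j hj) (c (-k))
    have h3 : c j + c k + c (-k) = c j := by
      rw [← c_add, ← c_add, add_neg_cancel_right]
    rw [h3] at h2
    exact h2
  calc (⨆ (j : ℤ) (_ : A j), ((j : WithTop ℤ) : WithBot (WithTop ℤ))) + c k
      ≤ S + c (-k) + c k := add_le_add_left h1 (c k)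
    _ = S := add_neg_add S k

end Arith

section Main

variable {R : Type u} [CommRing R] [hCM : LocCoh.IsCohenMacaulayRing R]
  {𝒜 : ℤ → AddSubgroup R} [GradedRing 𝒜]

/-- Graded local cohomology of a Cohen–Macaulay *local ring vanishes below the dimension. -/
theorem H_eq_zero_of_lt (hpos : ∀ n : ℤ, n < 0 → 𝒜 n = ⊥) {m : HomogeneousIdeal 𝒜}
    (hm : IsStarLocal 𝒜 m) (d : ℕ) (hd : ringKrullDim R = (d + 1 : ℕ)) (E : StarInjRes 𝒜 𝒜)
    (i : ℕ) (hi : i < d + 1) (y : E.H m i) : y = 0 := by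
  haveI hmax := isMaximal_of_isStarLocal hpos hm
  have hht : m.toIdeal.height = ((d + 1 : ℕ) : ℕ∞) := by
    have h := ringKrullDim_eq_height_of_isStarLocal hpos hm
    rw [hd] at h
    exact_mod_cast h.symm
  have hdepth : LocCoh.idealDepth m.toIdeal R = m.toIdeal.height :=
    Groth.Agent.Lib.Helper28.idealDepth_self_eq_height_of_isCohenMacaulayRing hCM m.toIdeal
      hmax.ne_top
  have hIM : m.toIdeal • (⊤ : Submodule R R) ≠ ⊤ := by
    rw [smul_eq_mul, Ideal.mul_top]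
    exact hmax.ne_top
  obtain ⟨e⟩ := Groth.Agent.S13224.result R 𝒜 m R 𝒜 E i
  have h0 := Groth.Agent.Lib.Helper8.LC.H_eq_zero_of_lt_depth m.toIdeal (d + 1) R hIM
    (by rw [hdepth, hht]) i hi (e y)
  exact e.injective (by rw [h0, map_zero])

variable {N : Type u} [AddCommGroup N] [Module R N] {𝒩 : ℤ → AddSubgroup N}
  [DirectSum.Decomposition 𝒩] [SetLike.GradedSMul 𝒜 𝒩]

theorem endDeg_eq (hpos : ∀ n : ℤ, n < 0 → 𝒜 n = ⊥) {m : HomogeneousIdeal 𝒜}
    (hm : IsStarLocal 𝒜 m) (d : ℕ) (hd : ringKrullDim R = (d + 1 : ℕ)) (I : StarInjRes 𝒜 𝒜)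
    (x : R) (k : ℤ) (hxk : x ∈ 𝒜 k) (hxm : x ∈ m.toIdeal) (hx : IsSMulRegular R x)
    (π : R →ₗ[R] N) (hπ : IsGrHom 𝒜 𝒩 π) (hπs : Function.Surjective π)
    (hπk : LinearMap.ker π = Ideal.span {x}) (F : StarInjRes 𝒜 𝒩) :
    endDeg (F.Hgr m d) = endDeg (I.Hgr m (d + 1)) + ((k : WithTop ℤ) : WithBot (WithTop ℤ)) := by
  have hk0 : 0 ≤ k := by
    by_contra hk
    have hx0 : x = 0 := by
      have h' : x ∈ (⊥ : AddSubgroup R) :=
        (congrArg (fun s : AddSubgroup R => x ∈ s) (hpos k (by omega))).mp hxk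
      exact AddSubgroup.mem_bot.mp h'
    subst hx0
    apply one_notMem_of_isStarLocal hm
    have : (1 : R) = 0 := hx (by simp)
    rw [this]
    exact Ideal.zero_mem _
  have hker : ∀ r : R, π r = 0 ↔ ∃ r' : R, x • r' = r := by
    intro r
    rw [← LinearMap.mem_ker, hπk, Ideal.mem_span_singleton']
    constructor
    · rintro ⟨a, rfl⟩; exact ⟨a, by rw [smul_eq_mul, mul_comm]⟩
    · rintro ⟨a, rfl⟩; exact ⟨a, by rw [smul_eq_mul, mul_comm]⟩
  obtain ⟨ψ, δ, -, hδ, -, -, -, hexF, -, hexE, -⟩ :=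
    exists_les_smul I F hxk hx π hπ hπs hker m
  -- nonvanishing of `H^d(N)_n` forces nonvanishing of `H^{d+1}(R)_{n-k}`
  have claim1 : ∀ n : ℤ, F.Hgr m d n ≠ ⊥ → I.Hgr m (d + 1) (n + -k) ≠ ⊥ := by
    intro n hn
    rw [Ne, AddSubgroup.eq_bot_iff_forall] at hn
    push Not at hn
    obtain ⟨y, hy, hy0⟩ := hn
    have h1 : δ d y ∈ I.Hgr m (d + 1) (n + -k) := hδ d n y hy
    have h2 : δ d y ≠ 0 := by
      intro h0
      obtain ⟨y', -, rfl⟩ := hexF d n y hy h0
      apply hy0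
      rw [H_eq_zero_of_lt hpos hm d hd I d (Nat.lt_succ_self d) y', map_zero]
    intro hbot
    rw [hbot] at h1
    exact h2 (AddSubgroup.mem_bot.mp h1)
  -- nonvanishing of `H^{d+1}(R)_j` forces nonvanishing of `H^d(N)_n` for some `n ≥ j + k`
  have claim2 : ∀ j : ℤ, I.Hgr m (d + 1) j ≠ ⊥ → ∃ n : ℤ, j + k ≤ n ∧ F.Hgr m d n ≠ ⊥ := by
    classical
    intro j hj
    rw [Ne, AddSubgroup.eq_bot_iff_forall] at hj
    push Not at hj
    obtain ⟨y, hy, hy0⟩ := hj
    have hex := exists_pow_smul_eq_zero I m (d + 1) hxm y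
    have ht0 : Nat.find hex ≠ 0 := by
      intro h0
      have := Nat.find_spec hex
      rw [h0, pow_zero, one_smul] at this
      exact hy0 this
    obtain ⟨t', ht'⟩ := Nat.exists_eq_succ_of_ne_zero ht0
    have hy'0 : x ^ t' • y ≠ 0 := Nat.find_min hex (by omega)
    have hxy' : x • (x ^ t' • y) = 0 := by
      have := Nat.find_spec hex
      rw [ht', Nat.succ_eq_add_one, pow_succ', mul_smul] at this
      exact this
    have hy' : x ^ t' • y ∈ I.Hcomp m (d + 1) (j + t' • k) :=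
      smul_mem_Hcomp I m (d + 1) (SetLike.pow_mem_graded t' hxk) hy
    obtain ⟨z, hz, hzy⟩ := hexE d (j + t' • k) _ hy' hxy'
    refine ⟨j + t' • k + k, ?_, ?_⟩
    · have : 0 ≤ t' • k := nsmul_nonneg hk0 t'
      omega
    · intro hbot
      have hz' : z ∈ F.Hgr m d (j + t' • k + k) := hz
      rw [hbot] at hz'
      apply hy'0
      rw [← hzy, AddSubgroup.mem_bot.mp hz', map_zero]
  change endDeg (F.Hgr m d) = endDeg (I.Hgr m (d + 1)) + c k
  apply le_antisymm
  · unfold endDeg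
    refine iSup₂_le fun n hn => ?_
    have h1 := claim1 n hn
    have h2 : c (n + -k) ≤ ⨆ (j : ℤ) (_ : I.Hgr m (d + 1) j ≠ ⊥),
        ((j : WithTop ℤ) : WithBot (WithTop ℤ)) :=
      le_iSup₂ (f := fun (j : ℤ) (_ : I.Hgr m (d + 1) j ≠ ⊥) =>
        ((j : WithTop ℤ) : WithBot (WithTop ℤ))) (n + -k) h1
    have h3 : c n = c (n + -k) + c k := by
      rw [← c_add, neg_add_cancel_right]
    change c n ≤ _
    rw [h3]
    exact add_le_add_left h2 (c k)
  · unfold endDeg
    refine iSup_add_le k fun j hj => ?_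
    obtain ⟨n, hn, hB⟩ := claim2 j hj
    rw [← c_add]
    refine le_trans (c_le_c hn) ?_
    exact le_iSup₂ (f := fun (n : ℤ) (_ : F.Hgr m d n ≠ ⊥) =>
      ((n : WithTop ℤ) : WithBot (WithTop ℤ))) n hB

end Main

end Groth.Agent.Lib.T2H3.GrAinv
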