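import Groth.Agent.Lib.T2H3SerreF
import Groth.Agent.Lib.T2H3GrAinvA

/-! Serre's formula for a Cohen–Macaulay ring (helper3): `H_R(n) - P_R(n) = (-1)^d ℓ(H^d_m(R)_n)`. -/

set_option autoImplicit false
set_option linter.unusedSectionVars false
set_option linter.style.haveILetI false
open DirectSum Polynomial

noncomputable section

namespace Groth.Agent.Lib.T2H3.Serre

open GrLC Groth.Agent.Lib.T2H3.GrLes Groth.Agent.Lib.T2H5.EulerAlg
  Groth.Agent.Lib.T2H3.GrIrr Groth.Agent.Lib.T2H3.GrArt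

universe u

variable {R : Type u} [CommRing R] [hCM : LocCoh.IsCohenMacaulayRing R]
  {𝒜 : ℤ → AddSubgroup R} [GradedRing 𝒜]
variable (hpos : ∀ n : ℤ, n < 0 → 𝒜 n = ⊥) [IsArtinianRing (deg0 𝒜)]
  {m : HomogeneousIdeal 𝒜} (hm : IsStarLocal 𝒜 m) {d : ℕ} (hd : ringKrullDim R = d)

include hpos hm hd in
theorem Hcomp_eq_bot_of_lt_dim (I : StarInjRes 𝒜 𝒜) {i : ℕ} (hi : i < d) (n : ℤ) :
    I.Hcomp m i n = ⊥ := by
  obtain ⟨d', rfl⟩ : ∃ d', d = d' + 1 := ⟨d - 1, by omega⟩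
  rw [eq_bot_iff]
  intro y _
  rw [Submodule.mem_bot]
  exact Groth.Agent.Lib.T2H3.GrAinv.H_eq_zero_of_lt hpos hm d' hd I i hi y

include hpos hm hd in
/-- Serre's formula for a Cohen–Macaulay ring. -/
theorem serre_cm (I : StarInjRes 𝒜 𝒜) (P : ℚ[X])
    (hP : ∃ N : ℤ, ∀ n : ℤ, N ≤ n → P.eval (n : ℚ) = (hZ 𝒜 𝒜 n : ℚ)) (n : ℤ) :
    (hZ 𝒜 𝒜 n : ℚ) - P.eval (n : ℚ) =
      (-1 : ℚ) ^ d * (lenZ (deg0 𝒜) (I.Hcomp m d n) : ℚ) := by
  rw [serre_formula hpos hm hd I P hP n]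
  unfold chiZ
  rw [Finset.sum_range_succ, Finset.sum_eq_zero, zero_add]
  · push_cast
    rfl
  · intro i hi
    rw [lenZ_eq_of_eq (Hcomp_eq_bot_of_lt_dim hpos hm hd I (Finset.mem_range.mp hi) n), lenZ_bot,
      mul_zero]

include hpos hm in
theorem lenZ_Hcomp_eq_zero_iff (I : StarInjRes 𝒜 𝒜) (i : ℕ) (n : ℤ) :
    lenZ (deg0 𝒜) (I.Hcomp m i n) = 0 ↔ I.Hgr m i n = ⊥ := by
  have hfin := isFiniteLength_Hcomp hpos hm I i n
  have hne : Module.length (deg0 𝒜) ↥(I.Hcomp m i n) ≠ ⊤ := Module.length_ne_top_iff.mpr hfin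
  unfold lenZ
  rw [Int.natCast_eq_zero, ENat.toNat_eq_zero]
  constructor
  · rintro (h | h)
    · rw [Module.length_eq_zero_iff] at h
      rw [eq_bot_iff]
      intro y hy
      have : (⟨y, hy⟩ : ↥(I.Hcomp m i n)) = 0 := Subsingleton.elim _ _
      exact AddSubgroup.mem_bot.mpr (congrArg Subtype.val this)
    · exact absurd h hne
  · intro h
    left
    rw [Module.length_eq_zero_iff]
    refine ⟨fun x y => Subtype.ext ?_⟩
    have hx : (x : I.H m i) ∈ I.Hgr m i n := x.2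
    have hy : (y : I.H m i) ∈ I.Hgr m i n := y.2
    rw [h, AddSubgroup.mem_bot] at hx hy
    rw [hx, hy]

include hpos hm hd in
/-- The nonzero degrees of `H^d_m(R)` are the degrees where the Hilbert function and the
Hilbert polynomial differ. -/
theorem Hgr_ne_bot_iff (I : StarInjRes 𝒜 𝒜) (P : ℚ[X])
    (hP : ∃ N : ℤ, ∀ n : ℤ, N ≤ n → P.eval (n : ℚ) = (hZ 𝒜 𝒜 n : ℚ)) (n : ℤ) :
    I.Hgr m d n ≠ ⊥ ↔ P.eval (n : ℚ) ≠ (hZ 𝒜 𝒜 n : ℚ) := by
  have h := serre_cm hpos hm hd I P hP n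
  rw [not_iff_not, ← lenZ_Hcomp_eq_zero_iff hpos hm I d n]
  constructor
  · intro h0
    rw [h0] at h
    simp only [Int.cast_zero, mul_zero] at h
    linarith
  · intro h0
    rw [h0, sub_self] at h
    have h1 : (-1 : ℚ) ^ d ≠ 0 := pow_ne_zero _ (by norm_num)
    have h2 := (mul_eq_zero.mp h.symm).resolve_left h1
    exact_mod_cast h2

end Groth.Agent.Lib.T2H3.Serre
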