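import Groth.Agent.Lib.T2H3EGI
import Groth.Agent.Lib.T2H3SerreG
import Groth.Agent.Lib.Helper8LCDepth
import Groth.Agent.S11625
import Groth.Agent.S16323

/-! Eisenbud–Goto, part 9 (helper3): the Hilbert function of a Cohen–Macaulay graded module over
the polynomial ring differs from the Hilbert polynomial in degree `reg M + pd M - n - 1`. -/

set_option autoImplicit false
set_option linter.unusedSectionVars false
set_option linter.style.haveILetI false
open DirectSum

noncomputable section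

namespace Groth.Agent.Lib.T2H3.EG

open GrLC Groth.Agent.Lib.T2H3.GrIrr Groth.Agent.Lib.T2H3.GrArt Groth.Agent.Lib.T2H3.GrTr
  Groth.Agent.Lib.T2H3.Serre Groth.Agent.Lib.T2H3.GrLes Groth.Agent.Lib.T2H3.MinRes
  Groth.Agent.Lib.T2H5.EulerAlg

universe u

section General

variable {R : Type u} [CommRing R] [IsNoetherianRing R] {𝒜 : ℤ → AddSubgroup R} [GradedRing 𝒜]
variable (hpos : ∀ n : ℤ, n < 0 → 𝒜 n = ⊥) [IsArtinianRing (deg0 𝒜)]
  {m : HomogeneousIdeal 𝒜} (hm : IsStarLocal 𝒜 m)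
variable {M : Type u} [AddCommGroup M] [Module R M] {ℳ : ℤ → AddSubgroup M}
  [DirectSum.Decomposition ℳ] [SetLike.GradedSMul 𝒜 ℳ]

include hpos hm in
theorem lenZ_Hcomp_eq_zero_iff' [Module.Finite R M] (E : StarInjRes 𝒜 ℳ) (i : ℕ) (n : ℤ) :
    lenZ (deg0 𝒜) (E.Hcomp m i n) = 0 ↔ E.Hcomp m i n = ⊥ := by
  have hfin := isFiniteLength_Hcomp hpos hm E i n
  have hne : Module.length (deg0 𝒜) ↥(E.Hcomp m i n) ≠ ⊤ := Module.length_ne_top_iff.mpr hfin
  unfold lenZ
  rw [Int.natCast_eq_zero, ENat.toNat_eq_zero]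
  constructor
  · rintro (h | h)
    · rw [Module.length_eq_zero_iff] at h
      rw [Submodule.eq_bot_iff]
      intro y hy
      have : (⟨y, hy⟩ : ↥(E.Hcomp m i n)) = 0 := Subsingleton.elim _ _
      exact congrArg Subtype.val this
    · exact absurd h hne
  · intro h
    left
    rw [Module.length_eq_zero_iff, h]
    infer_instance

/-- Vanishing of the graded local cohomology from vanishing of the ungraded one. -/
theorem Hcomp_eq_bot_of_subsingleton_H (E : StarInjRes 𝒜 ℳ) (a : HomogeneousIdeal 𝒜) (i : ℕ)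
    (h : Subsingleton (LocCoh.H a.toIdeal i M)) (n : ℤ) : E.Hcomp a i n = ⊥ := by
  obtain ⟨e⟩ := Groth.Agent.S13224.result R 𝒜 a M ℳ E i
  rw [eq_bot_iff]
  intro y _
  rw [Submodule.mem_bot]
  apply e.injective
  exact Subsingleton.elim _ _

end General

section Poly

variable (k : Type u) [Field k] (r : ℕ)
  {M : Type u} [AddCommGroup M] [Module k M] [Module (MvPolynomial (Fin (r + 1)) k) M]
  [IsScalarTower k (MvPolynomial (Fin (r + 1)) k) M]
  (ℳ : ℤ → Submodule k M) [DirectSum.Decomposition ℳ]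
  [SetLike.GradedSMul (GrSyz.stdGr k (Fin (r + 1))) ℳ]

/-- The ring homomorphism `k → S_0`. -/
def toDeg0 : k →+* deg0 (PA k r) :=
  (MvPolynomial.C : k →+* MvPolynomial (Fin (r + 1)) k).codRestrict (deg0 (PA k r)) (fun c => by
    change MvPolynomial.C c ∈ GrSyz.stdGr k (Fin (r + 1)) 0
    exact (GrSyz.mem_stdGr_iff k (Fin (r + 1)) _ _).2 (MvPolynomial.isWeightedHomogeneous_C _ _))

theorem toDeg0_surjective : Function.Surjective (toDeg0 k r) := by
  intro a
  have hmem : (a : MvPolynomial (Fin (r + 1)) k) ∈ GrSyz.stdGr k (Fin (r + 1)) 0 := a.2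
  have hC := Groth.Agent.Helper13RegCount.eq_C_of_mem_stdGr_zero hmem
  exact ⟨MvPolynomial.constantCoeff (a : MvPolynomial (Fin (r + 1)) k), Subtype.ext hC.symm⟩

/-- The Hilbert function, as a `k`-dimension. -/
theorem hZ_eq_finrank (j : ℤ) : hZ (PA k r) (asGr ℳ) j = (Module.finrank k ↥(ℳ j) : ℤ) := by
  letI : Algebra k (deg0 (PA k r)) := (toDeg0 k r).toAlgebra
  haveI : IsScalarTower k (deg0 (PA k r)) M := ⟨fun c a x => by
    change ((toDeg0 k r c * a : deg0 (PA k r)) : MvPolynomial (Fin (r + 1)) k) • x =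
      c • ((a : MvPolynomial (Fin (r + 1)) k) • x)
    rw [Subring.coe_mul, mul_smul]
    change (MvPolynomial.C c : MvPolynomial (Fin (r + 1)) k) • _ = _
    rw [← MvPolynomial.algebraMap_eq, algebraMap_smul]⟩
  have hsurj : Function.Surjective (algebraMap k (deg0 (PA k r))) := toDeg0_surjective k r
  have h1 := Module.length_eq_of_surjective (S := k) (R := deg0 (PA k r))
    (M := ↥(comp (PA k r) (asGr ℳ) j)) hsurj
  unfold hZ lenZ
  rw [← h1, Module.length_eq_rank, Cardinal.toNat_toENat]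
  rfl

variable [Module.Finite (MvPolynomial (Fin (r + 1)) k) M]

/-- For a Cohen–Macaulay graded module of depth `D` over the polynomial ring, of regularity
exactly `ρ`, the Hilbert function differs from the Hilbert polynomial in degree `ρ - D`. -/
theorem finrank_ne_eval_of_cm
    (hCM : Module.supportDim (MvPolynomial (Fin (r + 1)) k) M =
      ((LocCoh.idealDepth (GrSyz.irrel (GrSyz.stdGr k (Fin (r + 1)))).toIdeal M : ℕ∞) :
        WithBot ℕ∞))
    (D : ℕ) (hD : LocCoh.idealDepth (GrSyz.irrel (GrSyz.stdGr k (Fin (r + 1)))).toIdeal M = D)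
    (ρ : ℤ) (hreg : GrSyz.IsRegLE (GrSyz.stdGr k (Fin (r + 1))) ℳ
      (GrSyz.irrel (GrSyz.stdGr k (Fin (r + 1)))).toIdeal ρ)
    (hnreg : ¬ GrSyz.IsRegLE (GrSyz.stdGr k (Fin (r + 1))) ℳ
      (GrSyz.irrel (GrSyz.stdGr k (Fin (r + 1)))).toIdeal (ρ - 1))
    (P : Polynomial ℚ) (hP : ∃ d₁ : ℤ, ∀ d : ℤ, d₁ ≤ d →
      ((Module.finrank k ↥(ℳ d) : ℤ) : ℚ) = P.eval (d : ℚ)) :
    ((Module.finrank k ↥(ℳ (ρ - D)) : ℤ) : ℚ) ≠ P.eval ((ρ - D : ℤ) : ℚ) := by
  classical
  obtain ⟨E, -⟩ : ∃ E : StarInjRes (PA k r) (asGr ℳ), True := ⟨minRes _ _, trivial⟩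
  have hne : (GrSyz.irrel (GrSyz.stdGr k (Fin (r + 1)))).toIdeal •
      (⊤ : Submodule (MvPolynomial (Fin (r + 1)) k) M) ≠ ⊤ := by
    intro htop
    unfold LocCoh.idealDepth at hD
    rw [if_pos htop] at hD
    exact ENat.top_ne_natCast _ hD
  -- vanishing below the depth
  have hlow : ∀ i : ℕ, i < D → ∀ j : ℤ, E.Hcomp (Pm k r) i j = ⊥ := by
    intro i hi j
    apply Hcomp_eq_bot_of_subsingleton_H E (Pm k r) i _ j
    refine ⟨fun x y => ?_⟩
    have h0 := Groth.Agent.Lib.Helper8.LC.H_eq_zero_of_lt_depth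
      (GrSyz.irrel (GrSyz.stdGr k (Fin (r + 1)))).toIdeal D M hne (le_of_eq hD.symm) i hi
    exact (h0 x).trans (h0 y).symm
  -- vanishing above the dimension of the support
  have hhigh : ∀ i : ℕ, D < i → ∀ j : ℤ, E.Hcomp (Pm k r) i j = ⊥ := by
    intro i hi j
    apply Hcomp_eq_bot_of_subsingleton_H E (Pm k r) i _ j
    apply Groth.Agent.S11625.result
    rw [hCM, hD]
    exact_mod_cast hi
  -- the regularity is attained in cohomological degree `D`
  have hnv : E.Hcomp (Pm k r) D (ρ - D) ≠ ⊥ := by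
    rw [isRegLE_iff_van] at hnreg
    push Not at hnreg
    obtain ⟨i, j, hj, hv⟩ := hnreg
    have hj' : j ≤ ρ - i := by
      by_contra hcon
      push Not at hcon
      exact hv (van_of_isRegLE k r ℳ ρ hreg i j hcon)
    have hje : j = ρ - i := by omega
    subst hje
    have hE : E.Hcomp (Pm k r) i (ρ - i) ≠ ⊥ := fun h => hv (van_of k r E h)
    have hiD : i = D := by
      rcases lt_trichotomy i D with h | h | h
      · exact absurd (hlow i h _) hE
      · exact h
      · exact absurd (hhigh i h _) hE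
    rw [← hiD]
    exact hE
  have hDr : D ≤ r + 1 := by
    by_contra hcon
    push Not at hcon
    exact hnv (Hcomp_eq_bot_of_lt (ringKrullDim_poly k r) E hcon _)
  have hP' : ∃ N : ℤ, ∀ n : ℤ, N ≤ n → P.eval (n : ℚ) = (hZ (PA k r) (asGr ℳ) n : ℚ) := by
    obtain ⟨d₁, h⟩ := hP
    refine ⟨d₁, fun n hn => ?_⟩
    rw [hZ_eq_finrank, ← h n hn]
  have hS := serre_formula (PA_pos k r) (Pm_isStarLocal k r) (ringKrullDim_poly k r) E P hP'
    (ρ - D)
  have hchi : chiZ E (Pm k r) (r + 1) (ρ - D) =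
      (-1 : ℤ) ^ D * lenZ (deg0 (PA k r)) (E.Hcomp (Pm k r) D (ρ - D)) := by
    unfold chiZ
    rw [Finset.sum_eq_single D]
    · intro i _ hi
      have : E.Hcomp (Pm k r) i (ρ - D) = ⊥ := by
        rcases lt_or_gt_of_ne hi with h | h
        · exact hlow i h _
        · exact hhigh i h _
      rw [lenZ_eq_of_eq this, lenZ_bot, mul_zero]
    · intro h
      exact absurd (Finset.mem_range.2 (by omega)) h
  have hlen : lenZ (deg0 (PA k r)) (E.Hcomp (Pm k r) D (ρ - D)) ≠ 0 := fun h =>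
    hnv ((lenZ_Hcomp_eq_zero_iff' (PA_pos k r) (Pm_isStarLocal k r) E D (ρ - D)).1 h)
  rw [hchi, hZ_eq_finrank] at hS
  intro heq
  rw [heq, sub_self] at hS
  have h1 : ((-1 : ℤ) ^ D * lenZ (deg0 (PA k r)) (E.Hcomp (Pm k r) D (ρ - D)) : ℤ) = 0 := by
    exact_mod_cast hS.symm
  rcases mul_eq_zero.1 h1 with h | h
  · exact pow_ne_zero _ (by norm_num) h
  · exact hlen h

end Poly

end Groth.Agent.Lib.T2H3.EG
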