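/-
Helper library (helper3): a smooth morphism which is étale over a dense open of the base is étale
(`etale_of_smooth_of_etale_over_dense`), via freeness of Kähler differentials on standard smooth
charts.
-/
import Mathlib

set_option autoImplicit false
set_option linter.style.haveILetI false
universe u

open CategoryTheory AlgebraicGeometry CategoryTheory.Limits

namespace Groth.Agent.Lib.T2H3.EtExtOpen

section Ring

variable {A B T : Type*} [CommRing A] [CommRing B] [CommRing T] [Algebra A B] [Algebra B T]
  [Algebra A T] [IsScalarTower A B T]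

/-- If the Kähler differentials of `B / A` form a free module and vanish after localizing at some
prime, then they vanish. -/
theorem formallyUnramified_of_free_of_localization [Module.Free B Ω[B⁄A]] (q : Ideal B) [q.IsPrime]
    [IsLocalization.AtPrime T q] [Algebra.FormallyUnramified A T] :
    Algebra.FormallyUnramified A B := by
  let b := Module.Free.chooseBasis B Ω[B⁄A]
  have hemp : IsEmpty (Module.Free.ChooseBasisIndex B Ω[B⁄A]) := by
    by_contra hne
    rw [not_isEmpty_iff] at hne
    obtain ⟨i⟩ := hne
    have h1 : KaehlerDifferential.map A A B T (b i) = 0 := Subsingleton.elim _ _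
    haveI := KaehlerDifferential.isLocalizedModule_map (R := A) (S := B) (T := T) q.primeCompl
    obtain ⟨s, hs⟩ := (IsLocalizedModule.eq_zero_iff q.primeCompl
      (KaehlerDifferential.map A A B T)).mp h1
    have h2 : (s : B) = 0 := by
      have h3 := congrArg (fun v => b.repr v i) hs
      simp only [Submonoid.smul_def, map_smul, Module.Basis.repr_self, Finsupp.smul_single,
        smul_eq_mul, mul_one, Finsupp.single_eq_same, map_zero, Finsupp.coe_zero,
        Pi.zero_apply] at h3
      exact h3
    exact s.2 (h2 ▸ q.zero_mem)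
  haveI : Subsingleton Ω[B⁄A] := b.repr.toEquiv.subsingleton
  exact ⟨inferInstance⟩

end Ring

section Stalk

variable {X Y Z : Scheme.{u}} (f : X ⟶ Y)

/-- If `g ≫ f` is formally unramified for an open immersion `g`, the stalk maps of `f` at points in
the image of `g` are formally unramified. -/
theorem formallyUnramified_stalkMap_of_comp (g : Z ⟶ X) [IsOpenImmersion g]
    [FormallyUnramified (g ≫ f)] (z : Z) : (f.stalkMap (g z)).hom.FormallyUnramified := by
  have h1 := FormallyUnramified.stalkMap (g ≫ f) z
  rw [Scheme.Hom.stalkMap_comp] at h1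
  exact (RingHom.FormallyUnramified.respectsIso.cancel_right_isIso _ (g.stalkMap z)).mp h1

set_option maxHeartbeats 800000 in
/-- On a standard smooth chart containing a point at which `f` is unramified, `f` is unramified. -/
theorem formallyUnramified_appLE_of_stalkMap {U : Y.Opens} (hU : IsAffineOpen U) {V : X.Opens}
    (hV : IsAffineOpen V) (e : V ≤ f ⁻¹ᵁ U) (hsm : (f.appLE U V e).hom.IsStandardSmooth)
    (x : X) (hx : x ∈ V) (hunr : (f.stalkMap x).hom.FormallyUnramified) :
    (f.appLE U V e).hom.FormallyUnramified := by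
  have hfx : f x ∈ U := e hx
  letI : Algebra Γ(Y, U) Γ(X, V) := (f.appLE U V e).hom.toAlgebra
  haveI : Algebra.IsStandardSmooth Γ(Y, U) Γ(X, V) := hsm
  letI : Algebra Γ(X, V) (X.presheaf.stalk x) :=
    TopCat.Presheaf.algebra_section_stalk X.presheaf (⟨x, hx⟩ : V)
  letI : Algebra Γ(Y, U) (Y.presheaf.stalk (f x)) :=
    TopCat.Presheaf.algebra_section_stalk Y.presheaf (⟨f x, hfx⟩ : U)
  haveI : IsLocalization.AtPrime (X.presheaf.stalk x) (hV.primeIdealOf ⟨x, hx⟩).asIdeal :=
    hV.isLocalization_stalk ⟨x, hx⟩
  haveI : IsLocalization.AtPrime (Y.presheaf.stalk (f x)) (hU.primeIdealOf ⟨f x, hfx⟩).asIdeal :=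
    hU.isLocalization_stalk ⟨f x, hfx⟩
  letI : Algebra Γ(Y, U) (X.presheaf.stalk x) :=
    ((algebraMap Γ(X, V) (X.presheaf.stalk x)).comp (algebraMap Γ(Y, U) Γ(X, V))).toAlgebra
  haveI : IsScalarTower Γ(Y, U) Γ(X, V) (X.presheaf.stalk x) := IsScalarTower.of_algebraMap_eq' rfl
  haveI : Algebra.FormallyUnramified Γ(Y, U) (X.presheaf.stalk x) := by
    have h1 : (algebraMap Γ(Y, U) (Y.presheaf.stalk (f x))).FormallyUnramified :=
      RingHom.FormallyUnramified.holdsForLocalization (R := Γ(Y, U))
        (S := Y.presheaf.stalk (f x)) (M := (hU.primeIdealOf ⟨f x, hfx⟩).asIdeal.primeCompl)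
    have h2 : ((f.stalkMap x).hom.comp
        (algebraMap Γ(Y, U) (Y.presheaf.stalk (f x)))).FormallyUnramified := h1.comp hunr
    have h3 : (f.stalkMap x).hom.comp (algebraMap Γ(Y, U) (Y.presheaf.stalk (f x))) =
        algebraMap Γ(Y, U) (X.presheaf.stalk x) := by
      change (Y.presheaf.germ U (f x) hfx ≫ f.stalkMap x).hom =
        (f.appLE U V e ≫ X.presheaf.germ V x hx).hom
      rw [Scheme.Hom.germ_stalkMap, Scheme.Hom.appLE, Category.assoc, X.presheaf.germ_res]
    rw [h3] at h2
    exact h2
  exact formallyUnramified_of_free_of_localization (A := Γ(Y, U)) (B := Γ(X, V))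
    (T := X.presheaf.stalk x) (hV.primeIdealOf ⟨x, hx⟩).asIdeal

/-- A smooth morphism which is unramified over a dense open of the target is unramified. -/
theorem formallyUnramified_of_smooth_of_dense [Smooth f] (Y₀ : Y.Opens)
    (hd : Dense (Y₀ : Set Y)) [FormallyUnramified (pullback.fst f Y₀.ι ≫ f)] :
    FormallyUnramified f := by
  rw [HasRingHomProperty.iff_exists_appLE (P := @FormallyUnramified)
    (RingHom.FormallyUnramified.stableUnderComposition.stableUnderCompositionWithLocalizationAway
      RingHom.FormallyUnramified.holdsForLocalizationAway).left]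
  intro x
  obtain ⟨U, hU, V, hV, hxV, e, hsm⟩ := Smooth.exists_isStandardSmooth f x
  have hop : IsOpen (f '' (V : Set X)) := f.isOpenMap _ V.isOpen
  obtain ⟨y, ⟨x', hx'V, rfl⟩, hy⟩ := hd.inter_open_nonempty _ hop ⟨f x, x, hxV, rfl⟩
  have hx'r : x' ∈ Set.range (pullback.fst f Y₀.ι) := by
    rw [Scheme.Pullback.range_fst, Scheme.Opens.range_ι]
    exact hy
  obtain ⟨z, rfl⟩ := hx'r
  have hunr := formallyUnramified_stalkMap_of_comp f (pullback.fst f Y₀.ι) z
  exact ⟨⟨U, hU⟩, ⟨V, hV⟩, hxV, e,
    formallyUnramified_appLE_of_stalkMap f hU hV e hsm _ hx'V hunr⟩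

/-- A smooth morphism which is étale over a dense open of the target is étale. -/
theorem etale_of_smooth_of_dense [Smooth f] (Y₀ : Y.Opens) (hd : Dense (Y₀ : Set Y))
    [Etale (pullback.snd f Y₀.ι)] : Etale f := by
  haveI : Etale (pullback.fst f Y₀.ι ≫ f) := by
    rw [pullback.condition]; infer_instance
  haveI := formallyUnramified_of_smooth_of_dense f Y₀ hd
  exact Etale.of_formallyUnramified_of_flat f

end Stalk

end Groth.Agent.Lib.T2H3.EtExtOpen
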