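/-
Helper library (helper3): an `S`-morphism `φ : M ⟶ N` from a separated étale `S`-scheme to a smooth
`S`-scheme which is an isomorphism (and `N` étale) over a dense open of a reduced base `S` is an
open immersion.
-/
import Groth.Agent.Lib.T2H3EtExtOpenA
import Groth.Agent.Lib.Helper10WEtaleSch
import Groth.Prelude.Def_CInt
import Groth.Prelude.Def_Pi1

set_option autoImplicit false
set_option linter.style.haveILetI false
universe u

open CategoryTheory AlgebraicGeometry CategoryTheory.Limits

namespace Groth.Agent.Lib.T2H3.EtExtOpen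

section Cat

variable {S S' : Scheme.{u}} (j : S' ⟶ S) {M N : Over S} (φ : M ⟶ N)

/-- If the base change of `φ` along `j` is an isomorphism, two morphisms to `M` lying over the same
morphism to `S'` which agree after composing with `φ` are equal. -/
theorem eq_of_isIso_pullback_map [IsIso ((Over.pullback j).map φ)] {T : Scheme.{u}}
    (a b : T ⟶ M.left) (t : T ⟶ S') (ha : a ≫ M.hom = t ≫ j) (hb : b ≫ M.hom = t ≫ j)
    (hab : a ≫ φ.left = b ≫ φ.left) : a = b := by
  let ψ : pullback M.hom j ⟶ pullback N.hom j := ((Over.pullback j).map φ).left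
  haveI : IsIso ψ := inferInstanceAs (IsIso ((Over.forget _).map ((Over.pullback j).map φ)))
  have hψ1 : ψ ≫ pullback.fst N.hom j = pullback.fst M.hom j ≫ φ.left :=
    pullback.lift_fst _ _ _
  have hψ2 : ψ ≫ pullback.snd N.hom j = pullback.snd M.hom j :=
    pullback.lift_snd _ _ _
  have h1 : pullback.lift a t ha ≫ ψ = pullback.lift b t hb ≫ ψ := by
    apply pullback.hom_ext
    · rw [Category.assoc, Category.assoc, hψ1, pullback.lift_fst_assoc, pullback.lift_fst_assoc, hab]
    · rw [Category.assoc, Category.assoc, hψ2, pullback.lift_snd, pullback.lift_snd]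
  have h2 : pullback.lift a t ha = pullback.lift b t hb := (cancel_mono ψ).mp h1
  have h3 := congrArg (fun k => k ≫ pullback.fst M.hom j) h2
  simp only [pullback.lift_fst] at h3
  exact h3

end Cat

section Main

variable {S : Scheme.{u}} [IsReduced S] (S₀ : S.Opens) (hd : Dense (S₀ : Set S)) {M N : Over S}
  [Etale M.hom] [IsSeparated M.hom] [Etale N.hom] (φ : M ⟶ N)
  [IsIso ((Over.pullback S₀.ι).map φ)]

include hd in
/-- A morphism of étale `S`-schemes with separated source which is an isomorphism over a dense open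
of the reduced base is an open immersion. -/
theorem isOpenImmersion_of_isIso_over_dense : IsOpenImmersion φ.left := by
  haveI : Etale (φ.left ≫ N.hom) := by rw [Over.w]; infer_instance
  haveI : Etale φ.left := Etale.of_comp φ.left N.hom
  let pr₁ : pullback φ.left φ.left ⟶ M.left := pullback.fst φ.left φ.left
  let pr₂ : pullback φ.left φ.left ⟶ M.left := pullback.snd φ.left φ.left
  let g : pullback φ.left φ.left ⟶ S := pr₁ ≫ M.hom
  haveI : Etale g := inferInstanceAs (Etale (pullback.fst φ.left φ.left ≫ M.hom))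
  haveI : IsReduced (pullback φ.left φ.left) :=
    Groth.Agent.Lib.Helper10.WEtaleSch.isReduced_of_weaklyEtale g
  have hdP : Dense (g ⁻¹' (S₀ : Set S)) := hd.preimage g.isOpenMap
  haveI : IsDominant (g ⁻¹ᵁ S₀).ι := Opens.isDominant_ι hdP
  have hpr : pr₁ ≫ M.hom = pr₂ ≫ M.hom := by
    rw [← Over.w φ, ← Category.assoc, ← Category.assoc]
    exact congrArg (· ≫ N.hom) pullback.condition
  have key : (g ⁻¹ᵁ S₀).ι ≫ pr₁ = (g ⁻¹ᵁ S₀).ι ≫ pr₂ := by
    refine eq_of_isIso_pullback_map S₀.ι φ _ _ (g ∣_ S₀) ?_ ?_ ?_
    · rw [morphismRestrict_ι, Category.assoc]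
    · rw [morphismRestrict_ι, Category.assoc, ← hpr]
    · rw [Category.assoc, Category.assoc]
      exact congrArg ((g ⁻¹ᵁ S₀).ι ≫ ·) pullback.condition
  have heq : pr₁ = pr₂ := ext_of_isDominant_of_isSeparated M.hom hpr (g ⁻¹ᵁ S₀).ι key
  haveI : Mono φ.left := by
    refine ⟨fun a b hab => ?_⟩
    have h1 : pullback.lift a b hab ≫ pr₁ = a := pullback.lift_fst _ _ _
    have h2 : pullback.lift a b hab ≫ pr₂ = b := pullback.lift_snd _ _ _
    exact h1.symm.trans ((congrArg (pullback.lift a b hab ≫ ·) heq).trans h2)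
  exact IsOpenImmersion.of_flat_of_mono φ.left

end Main

section Prelude

variable {X : Scheme.{u}}

/-- A schematically dense open is dense. -/
theorem dense_of_isSchematicallyDense (U : X.Opens) (hU : CInt.IsSchematicallyDense U) :
    Dense (U : Set X) := by
  rw [dense_iff_inter_open]
  intro W hWo hWne
  by_contra hemp
  rw [Set.not_nonempty_iff_eq_empty] at hemp
  let W' : X.Opens := ⟨W, hWo⟩
  have hbot : W' ⊓ U = ⊥ := by
    ext x
    simp only [TopologicalSpace.Opens.coe_inf, TopologicalSpace.Opens.coe_bot]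
    exact Set.ext_iff.mp hemp x
  have hinj := hU W'
  haveI : Nonempty W' := by
    obtain ⟨x, hx⟩ := hWne
    exact ⟨⟨x, hx⟩⟩
  haveI : Nontrivial Γ(X, W') := inferInstance
  obtain ⟨a, b, hab⟩ := exists_pair_ne Γ(X, W')
  apply hab
  apply hinj
  have hss : ∀ (O : X.Opens), O = ⊥ → Subsingleton Γ(X, O) := by
    intro O hO
    subst hO
    infer_instance
  haveI := hss _ hbot
  exact Subsingleton.elim _ _

theorem isReduced_of_isNormalScheme (hX : Pi1.IsNormalScheme X) : IsReduced X := by
  haveI : ∀ x : X, _root_.IsReduced (X.presheaf.stalk x) := fun x => by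
    haveI := (hX x).1
    infer_instance
  exact isReduced_of_isReduced_stalk X

end Prelude

end Groth.Agent.Lib.T2H3.EtExtOpen
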