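import Mathlib
import Groth.Agent.Lib.Helper20EtLocalSch

/-!
# The map of fibres of an étale square is étale (helper3, team 2)
-/

set_option autoImplicit false
set_option linter.style.haveILetI false
universe u

open AlgebraicGeometry CategoryTheory CategoryTheory.Limits

namespace Groth.Agent.Lib.T2H3.EtFibSq

/-- the map of residue field spectra induced by an étale morphism is étale. -/
theorem etale_SpecMap_residueFieldMap {V V' : Scheme.{u}} (b : V' ⟶ V) [Etale b] (v' : V') :
    Etale (Spec.map (b.residueFieldMap v')) := by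
  rw [HasRingHomProperty.Spec_iff (P := @Etale)]
  obtain ⟨-, hfin, hsep⟩ :=
    (Groth.Agent.Lib.Helper20.EtLocal.formallyUnramified_stalkMap_iff_local b v').mp
      (FormallyUnramified.stalkMap b v')
  letI := (b.residueFieldMap v').hom.toAlgebra
  haveI : Algebra.FormallyEtale (V.residueField (b v')) (V'.residueField v') :=
    Algebra.FormallyEtale.of_isSeparable _ _
  haveI : Algebra.FinitePresentation (V.residueField (b v')) (V'.residueField v') :=
    Algebra.FinitePresentation.of_finiteType.mp inferInstance
  exact (⟨inferInstance, inferInstance⟩ : Algebra.Etale (V.residueField (b v')) (V'.residueField v'))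

theorem etale_fiberMap {U U' V V' : Scheme.{u}} (h : U ⟶ V) (h' : U' ⟶ V') (a : U' ⟶ U)
    (b : V' ⟶ V) [Etale a] [Etale b] (comm : h' ≫ b = a ≫ h) (v' : V')
    (φ : h'.fiber v' ⟶ h.fiber (b v')) (hφ1 : φ ≫ h.fiberι (b v') = h'.fiberι v' ≫ a)
    (hφ2 : φ ≫ h.fiberToSpecResidueField (b v') =
      h'.fiberToSpecResidueField v' ≫ Spec.map (b.residueFieldMap v')) :
    Etale φ := by
  set ρ : Spec (V'.residueField v') ⟶ Spec (V.residueField (b v')) :=
    Spec.map (b.residueFieldMap v') with hρ
  have hρV : ρ ≫ V.fromSpecResidueField (b v') = V'.fromSpecResidueField v' ≫ b :=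
    Scheme.Hom.SpecMap_residueFieldMap_fromSpecResidueField b v'
  haveI : Etale ρ := etale_SpecMap_residueFieldMap b v'
  -- the comparison map `U' ⟶ U ×_V V'`
  let c : U' ⟶ pullback h b := pullback.lift a h' comm.symm
  have hc1 : c ≫ pullback.fst h b = a := pullback.lift_fst _ _ _
  have hc2 : c ≫ pullback.snd h b = h' := pullback.lift_snd _ _ _
  haveI : Etale c := by
    haveI : Etale (c ≫ pullback.fst h b) := by rw [hc1]; infer_instance
    exact Etale.of_comp c (pullback.fst h b)
  -- the base change of the fibre of `h` to `κ(v')`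
  let t := h.fiberToSpecResidueField (b v')
  let ψ : h'.fiber v' ⟶ pullback t ρ := pullback.lift φ (h'.fiberToSpecResidueField v') hφ2
  have hψ1 : ψ ≫ pullback.fst t ρ = φ := pullback.lift_fst _ _ _
  have hψ2 : ψ ≫ pullback.snd t ρ = h'.fiberToSpecResidueField v' := pullback.lift_snd _ _ _
  suffices Etale ψ by
    rw [← hψ1]
    infer_instance
  -- `P = F ×_κ κ'` is also `W ×_{V'} κ'`
  have sqA : IsPullback (pullback.fst t ρ) (pullback.snd t ρ) t ρ := IsPullback.of_hasPullback t ρ
  have sqB : IsPullback (h.fiberι (b v')) t h (V.fromSpecResidueField (b v')) :=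
    IsPullback.of_hasPullback h (V.fromSpecResidueField (b v'))
  have sqAB : IsPullback (pullback.fst t ρ ≫ h.fiberι (b v')) (pullback.snd t ρ) h
      (V'.fromSpecResidueField v' ≫ b) := by
    rw [← hρV]
    exact sqA.paste_horiz sqB
  let w : pullback t ρ ⟶ pullback h b :=
    pullback.lift (pullback.fst t ρ ≫ h.fiberι (b v'))
      (pullback.snd t ρ ≫ V'.fromSpecResidueField v') (by
        have := sqAB.w
        simp only [Category.assoc] at this ⊢
        exact this)
  have hw1 : w ≫ pullback.fst h b = pullback.fst t ρ ≫ h.fiberι (b v') := pullback.lift_fst _ _ _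
  have hw2 : w ≫ pullback.snd h b = pullback.snd t ρ ≫ V'.fromSpecResidueField v' :=
    pullback.lift_snd _ _ _
  have sqR : IsPullback w (pullback.snd t ρ) (pullback.snd h b) (V'.fromSpecResidueField v') := by
    refine IsPullback.of_right ?_ hw2 (IsPullback.of_hasPullback h b)
    rw [hw1]
    exact sqAB
  have sqF' : IsPullback (h'.fiberToSpecResidueField v') (h'.fiberι v')
      (V'.fromSpecResidueField v') h' :=
    (IsPullback.of_hasPullback h' (V'.fromSpecResidueField v')).flip
  have sqL : IsPullback ψ (h'.fiberι v') w c := by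
    refine IsPullback.of_right ?_ ?_ sqR.flip
    · rw [hψ2, hc2]
      exact sqF'
    · apply pullback.hom_ext
      · rw [Category.assoc, hw1, ← Category.assoc, hψ1, hφ1, Category.assoc, hc1]
      · rw [Category.assoc, hw2, ← Category.assoc, hψ2, Category.assoc, hc2]
        exact (h'.fiber_fac v').symm
  exact MorphismProperty.of_isPullback (P := @Etale) sqL.flip inferInstance

end Groth.Agent.Lib.T2H3.EtFibSq
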