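import Mathlib
import Groth.Agent.Lib.T2H3DensityExt

/-!
# A flat separated morphism from an integral scheme which is an isomorphism on the local ring of
the generic point is a monomorphism (helper3)
-/

set_option autoImplicit false
set_option linter.style.haveILetI false
universe u

namespace Groth.Agent.Lib.T2H3.FlatBirMono
open AlgebraicGeometry CategoryTheory CategoryTheory.Limits

theorem flat_fromSpecStalk (X : Scheme.{u}) (x : X) : Flat (X.fromSpecStalk x) := by
  obtain ⟨_, ⟨U, hU, rfl⟩, hxU, -⟩ :=
    X.isBasis_affineOpens.exists_subset_of_mem_open (Set.mem_univ x) isOpen_univ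
  rw [← hU.fromSpecStalk_eq_fromSpecStalk hxU]
  unfold IsAffineOpen.fromSpecStalk
  have : Flat (Spec.map (X.presheaf.germ U x hxU)) := by
    rw [Flat.SpecMap_iff]
    let _ := TopCat.Presheaf.algebra_section_stalk X.presheaf (⟨x, hxU⟩ : U)
    have := hU.isLocalization_stalk ⟨x, hxU⟩
    exact IsLocalization.flat (X.presheaf.stalk x) (hU.primeIdealOf ⟨x, hxU⟩).asIdeal.primeCompl
  infer_instance

theorem mono_of_flat_of_isIso_stalkMap {X' X : Scheme.{u}} [IsIntegral X'] (f : X' ⟶ X) [Flat f]
    [IsSeparated f] (hK : IsIso (f.stalkMap (genericPoint X'))) : Mono f := by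
  haveI : Flat (X'.fromSpecStalk (genericPoint X')) := flat_fromSpecStalk X' (genericPoint X')
  -- the source of `j'` is a point
  haveI : Subsingleton ↥(Spec (X'.presheaf.stalk (genericPoint X'))) := by
    letI : Field (X'.presheaf.stalk (genericPoint X')) :=
      inferInstanceAs (Field X'.functionField)
    constructor
    intro a b
    exact PrimeSpectrum.ext
      (by rw [Ideal.eq_bot_of_prime a.asIdeal, Ideal.eq_bot_of_prime b.asIdeal])
  haveI : QuasiCompact (X'.fromSpecStalk (genericPoint X')) :=
    ⟨fun U _ _ => (Set.subsingleton_of_subsingleton).isCompact⟩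
  haveI : IsDominant (X'.fromSpecStalk (genericPoint X')) := by
    rw [isDominant_iff]
    have h1 : genericPoint X' ∈ Set.range (X'.fromSpecStalk (genericPoint X')) := by
      rw [Scheme.range_fromSpecStalk]
      exact specializes_rfl
    have h2 : Dense ({genericPoint X'} : Set X') := by
      rw [dense_iff_closure_eq]
      exact (genericPoint_spec X').def
    exact h2.mono (Set.singleton_subset_iff.mpr h1)
  haveI : IsSchemeTheoreticallyDominant (X'.fromSpecStalk (genericPoint X')) :=
    IsSchemeTheoreticallyDominant.of_isDominant _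
  let j' := X'.fromSpecStalk (genericPoint X')
  -- `j' ≫ f` is a monomorphism
  haveI : Mono (j' ≫ f) := by
    change Mono (X'.fromSpecStalk (genericPoint X') ≫ f)
    rw [← Scheme.SpecMap_stalkMap_fromSpecStalk]
    infer_instance
  -- the two-step base change
  let p₁ := pullback.fst f f
  let p₂ := pullback.snd f f
  let d₁ := pullback.snd j' p₁
  let q := d₁ ≫ p₂
  haveI : Flat d₁ := MorphismProperty.pullback_snd (P := @Flat) _ _ inferInstance
  haveI : Flat q := inferInstance
  let d₂ := pullback.snd j' q
  let d := d₂ ≫ d₁
  haveI : IsSchemeTheoreticallyDominant d₁ := inferInstance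
  haveI : IsSchemeTheoreticallyDominant d₂ := inferInstance
  haveI : IsSchemeTheoreticallyDominant d := inferInstance
  have e1 : d ≫ p₁ = (d₂ ≫ pullback.fst j' p₁) ≫ j' := by
    rw [Category.assoc, Category.assoc, pullback.condition]
  have e2 : d ≫ p₂ = pullback.fst j' q ≫ j' := by
    rw [Category.assoc]
    exact pullback.condition.symm
  have e3 : d₂ ≫ pullback.fst j' p₁ = pullback.fst j' q := by
    rw [← cancel_mono (j' ≫ f)]
    calc (d₂ ≫ pullback.fst j' p₁) ≫ j' ≫ f = (d ≫ p₁) ≫ f := by
          rw [e1, Category.assoc, Category.assoc, Category.assoc]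
      _ = d ≫ p₂ ≫ f := by rw [Category.assoc]; congr 1; exact pullback.condition
      _ = pullback.fst j' q ≫ j' ≫ f := by rw [← Category.assoc, e2, Category.assoc]
  have hd : d ≫ p₁ = d ≫ p₂ := by rw [e1, e2, e3]
  have hp : p₁ = p₂ :=
    Groth.Agent.Lib.T2H3.DensityExt.ext_of_dominant d f pullback.condition hd
  constructor
  intro T a b hab
  have h1 : pullback.lift a b hab ≫ p₁ = a := pullback.lift_fst _ _ _
  have h2 : pullback.lift a b hab ≫ p₂ = b := pullback.lift_snd _ _ _
  calc a = pullback.lift a b hab ≫ p₁ := h1.symm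
    _ = pullback.lift a b hab ≫ p₂ := by rw [hp]
    _ = b := h2

/-- **Flat + birational ⇒ isomorphism**, for separated surjective morphisms which are
quasi-compact or locally of finite presentation. -/
theorem isIso_of_flat {X' X : Scheme.{u}} [IsIntegral X'] (f : X' ⟶ X) [Flat f] [Surjective f]
    [IsSeparated f] (hK : IsIso (f.stalkMap (genericPoint X')))
    (h : QuasiCompact f ∨ LocallyOfFinitePresentation f) : IsIso f := by
  haveI := mono_of_flat_of_isIso_stalkMap f hK
  rcases h with h | h
  · haveI := h
    exact Flat.isIso_of_surjective_of_mono f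
  · haveI := h
    haveI := IsOpenImmersion.of_flat_of_mono f
    have : MorphismProperty.isomorphisms Scheme f := by
      rw [isomorphisms_eq_isOpenImmersion_inf_surjective]
      exact ⟨inferInstance, inferInstance⟩
    exact this

end Groth.Agent.Lib.T2H3.FlatBirMono
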