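import Mathlib

/-!
# Points of a scheme étale over a field with values in a normal domain

If `Y` is étale over a field `k` and `B` is an integrally closed domain with fraction field `K`,
every `K`-point of `Y` over a `B`-point of `Spec k` extends to a `B`-point of `Y`.
-/

set_option autoImplicit false
set_option linter.style.haveILetI false
universe u

open AlgebraicGeometry CategoryTheory

namespace Groth.Agent.Lib.T2H3.EtaleExt

/-- a ring homomorphism to a field with values integral over an integrally closed domain lifts. -/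
theorem exists_lift_of_isIntegral {C B K : Type u} [CommRing C] [CommRing B] [IsDomain B]
    [IsIntegrallyClosed B] [Field K] [Algebra B K] [IsFractionRing B K] (φ : C →+* K)
    (h : ∀ c, IsIntegral B (φ c)) :
    ∃ φ' : C →+* B, (algebraMap B K).comp φ' = φ := by
  have hinj : Function.Injective (algebraMap B K) := IsFractionRing.injective B K
  have hex : ∀ c, ∃ y : B, algebraMap B K y = φ c := fun c =>
    IsIntegrallyClosed.isIntegral_iff.mp (h c)
  choose ψ hψ using hex
  refine ⟨{ toFun := ψ, map_one' := ?_, map_mul' := ?_, map_zero' := ?_, map_add' := ?_ }, ?_⟩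
  · apply hinj; rw [hψ, map_one, map_one]
  · intro a b; apply hinj; rw [hψ, map_mul, map_mul, hψ, hψ]
  · apply hinj; rw [hψ, map_zero, map_zero]
  · intro a b; apply hinj; rw [hψ, map_add, map_add, hψ, hψ]
  · ext c
    exact hψ c

/-- **Extension of points of étale schemes over a field** to integrally closed domains. -/
theorem exists_extension_of_etale_field {k : Type u} [Field k] {Y : Scheme.{u}}
    (π : Y ⟶ Spec (CommRingCat.of k)) [Etale π]
    (B : Type u) [CommRing B] [IsDomain B] [IsIntegrallyClosed B] (K : Type u) [Field K]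
    [Algebra B K] [IsFractionRing B K]
    (g : Spec (CommRingCat.of K) ⟶ Y) (b : Spec (CommRingCat.of B) ⟶ Spec (CommRingCat.of k))
    (hg : g ≫ π = Spec.map (CommRingCat.ofHom (algebraMap B K)) ≫ b) :
    ∃ g' : Spec (CommRingCat.of B) ⟶ Y,
      Spec.map (CommRingCat.ofHom (algebraMap B K)) ≫ g' = g ∧ g' ≫ π = b := by
  obtain ⟨_, ⟨U, hU, rfl⟩, hγU, -⟩ := Y.isBasis_affineOpens.exists_subset_of_mem_open
    (Set.mem_univ (g (IsLocalRing.closedPoint K))) isOpen_univ
  have hrange : Set.range g ⊆ Set.range hU.fromSpec := by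
    rintro _ ⟨pt, rfl⟩
    rw [Subsingleton.elim pt (IsLocalRing.closedPoint K), hU.range_fromSpec]
    exact hγU
  set g₁ := IsOpenImmersion.lift hU.fromSpec g hrange with hg₁
  have hg₁g : g₁ ≫ hU.fromSpec = g := IsOpenImmersion.lift_fac _ _ _
  set φ' := Spec.preimage g₁ with hφ'
  have hφ'g : Spec.map φ' = g₁ := Spec.map_preimage _
  set ν' := Spec.preimage (hU.fromSpec ≫ π) with hν'
  have hν'π : Spec.map ν' = hU.fromSpec ≫ π := Spec.map_preimage _
  set μ' := Spec.preimage b with hμ'
  have hμ'b : Spec.map μ' = b := Spec.map_preimage _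
  have hEt : Etale (Spec.map ν') := by
    rw [hν'π]
    infer_instance
  have hνEt : ν'.hom.Etale := (HasRingHomProperty.Spec_iff (P := @Etale)).mp hEt
  -- compatibility of the structure maps
  have hcomp : ν' ≫ φ' = μ' ≫ CommRingCat.ofHom (algebraMap B K) := by
    apply Spec.map_injective
    rw [Spec.map_comp, Spec.map_comp, hφ'g, hν'π, hμ'b, ← Category.assoc, hg₁g, hg]
  algebraize [ν'.hom]
  have hfin : Module.Finite k Γ(Y, U) := Algebra.FormallyUnramified.finite_of_free k Γ(Y, U)
  have hint : ∀ c : Γ(Y, U), IsIntegral k c := fun c => Algebra.IsIntegral.isIntegral c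
  have hint' : ∀ c : Γ(Y, U), IsIntegral B (φ'.hom c) := by
    intro c
    refine IsIntegral.map_of_comp_eq μ'.hom φ'.hom ?_ (hint c)
    ext r
    have := congrArg (fun m => m.hom r) hcomp
    simp only [CommRingCat.hom_comp, RingHom.comp_apply, CommRingCat.hom_ofHom] at this
    exact this.symm
  obtain ⟨φ'', hφ''⟩ := exists_lift_of_isIntegral φ'.hom hint'
  refine ⟨Spec.map (CommRingCat.ofHom φ'') ≫ hU.fromSpec, ?_, ?_⟩
  · rw [← Category.assoc, ← Spec.map_comp, ← hg₁g, ← hφ'g]
    congr 2
    ext c
    exact congrArg (fun m => m c) hφ''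
  · rw [Category.assoc, ← hν'π, ← Spec.map_comp, ← hμ'b]
    congr 1
    ext r
    apply IsFractionRing.injective B K
    have h1 := congrArg (fun m => m.hom r) hcomp
    simp only [CommRingCat.hom_comp, RingHom.comp_apply, CommRingCat.hom_ofHom] at h1
    rw [← h1]
    exact congrArg (fun m => m (ν'.hom r)) hφ''

end Groth.Agent.Lib.T2H3.EtaleExt
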