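import Mathlib
import Groth.Agent.Lib.Helper4RatExt
import Groth.Agent.Lib.Helper4RatMapExt

/-!
# Extending sections from the generic point

* `exists_extension_of_stalk_lifts`: a morphism defined on a nonempty open of an integral scheme
  extends to the whole scheme as soon as it extends to the spectrum of every local ring.
* `exists_section_of_isFinite_of_normal`: sections of a finite morphism over a nonempty open of a
  normal integral scheme extend.
* `exists_open_section_of_generic`: spreading out a section over the generic stalk.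
-/

set_option autoImplicit false
set_option linter.style.haveILetI false
universe u

open AlgebraicGeometry CategoryTheory

namespace Groth.Agent.Lib.T2H3.GenericSection

open Groth.Agent.Lib.Helper4.RatExt Groth.Agent.Lib.Helper4.RatMapExt

/-- Extension of a morphism from a nonempty open of an integral scheme, given lifts over the
spectra of all local rings (compatible at the generic point). -/
theorem exists_extension_of_stalk_lifts {X Y S : Scheme.{u}} (p : X ⟶ S) (q : Y ⟶ S)
    [IsSeparated q] [LocallyOfFiniteType q] [IsIntegral X]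
    (U : X.Opens) (hU : (U : Set X).Nonempty) (f : U.toScheme ⟶ Y) (hf : f ≫ q = U.ι ≫ p)
    (hlift : ∀ (x : X)
      (jU : Spec (CommRingCat.of (FractionRing (X.presheaf.stalk x))) ⟶ U.toScheme),
      jU ≫ U.ι = genericHom X x →
      ∃ l : Spec (X.presheaf.stalk x) ⟶ Y, l ≫ q = X.fromSpecStalk x ≫ p ∧
        Spec.map (CommRingCat.ofHom (algebraMap (X.presheaf.stalk x)
          (FractionRing (X.presheaf.stalk x)))) ≫ l = jU ≫ f) :
    ∃ f' : X ⟶ Y, f' ≫ q = p ∧ U.ι ≫ f' = f := by
  have hUd : Dense (U : Set X) := U.2.dense hU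
  have key : ∀ x : X, ∃ (U' : X.Opens) (hUU' : U ≤ U') (_ : x ∈ U') (f' : U'.toScheme ⟶ Y),
      f' ≫ q = U'.ι ≫ p ∧ X.homOfLE hUU' ≫ f' = f := by
    intro x
    have hξ := genericHom_mem x U (hUd.closure_eq ▸ Set.mem_univ x)
    let jU : Spec (CommRingCat.of (FractionRing (X.presheaf.stalk x))) ⟶ U.toScheme :=
      IsOpenImmersion.lift U.ι (genericHom X x) (range_genericHom_subset x U hξ)
    have hjU : jU ≫ U.ι = genericHom X x := IsOpenImmersion.lift_fac _ _ _
    obtain ⟨l, hl2, hl1⟩ := hlift x jU hjU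
    obtain ⟨U', hUU', hxU', f', hf', hres, -⟩ :=
      exists_extension_of_stalk_lift p q x U f hf jU hjU l hl2 hl1
    exact ⟨U', hUU', hxU', f', hf', hres⟩
  choose U' hUU' hxU' f' hf' hres using key
  have hcov : TopologicalSpace.IsOpenCover U' := by
    apply TopologicalSpace.IsOpenCover.mk
    rw [eq_top_iff]
    intro x _
    exact TopologicalSpace.Opens.mem_iSup.mpr ⟨x, hxU' x⟩
  have hagree : ∀ i j, X.homOfLE (inf_le_left : U' i ⊓ U' j ≤ U' i) ≫ f' i =
      X.homOfLE (inf_le_right : U' i ⊓ U' j ≤ U' j) ≫ f' j := by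
    intro i j
    have hle : U ≤ U' i ⊓ U' j := le_inf (hUU' i) (hUU' j)
    haveI : Nonempty (U' i ⊓ U' j : X.Opens) := ⟨⟨hU.some, hle hU.some_mem⟩⟩
    haveI : IsDominant (X.homOfLE hle) := by
      constructor
      have hopen : IsOpen (Set.range (X.homOfLE hle)) :=
        (X.homOfLE hle).isOpenEmbedding.isOpen_range
      apply hopen.dense
      obtain ⟨z, hz⟩ := hU
      exact ⟨_, ⟨⟨z, hz⟩, rfl⟩⟩
    apply ext_of_isDominant_of_isSeparated q ?_ (X.homOfLE hle)
    · rw [← Category.assoc, X.homOfLE_homOfLE, hres, ← Category.assoc, X.homOfLE_homOfLE, hres]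
    · rw [Category.assoc, Category.assoc, hf', hf', X.homOfLE_ι_assoc, X.homOfLE_ι_assoc]
  obtain ⟨k, hk⟩ := exists_glue_family U' hcov f' hagree
  refine ⟨k, ?_, ?_⟩
  · apply (X.openCoverOfIsOpenCover U' hcov).hom_ext
    intro i
    change (U' i).ι ≫ k ≫ q = (U' i).ι ≫ p
    rw [← Category.assoc, hk, hf']
  · rw [← X.homOfLE_ι (hUU' hU.some), Category.assoc, hk, hres]

/-- Sections of a finite morphism over a nonempty open of a normal integral scheme extend. -/
theorem exists_section_of_isFinite_of_normal {X Y : Scheme.{u}} [IsIntegral X]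
    (hX : ∀ x : X, IsIntegrallyClosed (X.presheaf.stalk x)) (q : Y ⟶ X) [IsFinite q]
    (U : X.Opens) (hU : (U : Set X).Nonempty) (f : U.toScheme ⟶ Y) (hf : f ≫ q = U.ι) :
    ∃ s : X ⟶ Y, s ≫ q = 𝟙 X ∧ U.ι ≫ s = f := by
  refine exists_extension_of_stalk_lifts (𝟙 X) q U hU f (by rw [hf, Category.comp_id]) ?_
  intro x jU hjU
  set t := jU ≫ f with ht
  set pt := IsLocalRing.closedPoint (FractionRing (X.presheaf.stalk x)) with hpt
  have htq : t ≫ q = genericHom X x := by rw [ht, Category.assoc, hf, hjU]
  -- a point of `Y` over `x` in the closure of the image of `t`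
  have hclosed : IsClosedMap q := q.isClosedMap
  have hξx : genericHom X x pt ⤳ x := genericHom_specializes x x specializes_rfl
  obtain ⟨y₁, hy₁, hqy₁⟩ : ∃ y₁ : Y, t pt ⤳ y₁ ∧ q y₁ = x := by
    have h1 : IsClosed (q '' closure {t pt}) := hclosed _ isClosed_closure
    have h2 : genericHom X x pt ∈ q '' closure {t pt} := by
      refine ⟨t pt, subset_closure rfl, ?_⟩
      rw [← Scheme.Hom.comp_apply, htq]
    have h3 : x ∈ q '' closure {t pt} := hξx.mem_closed h1 h2
    obtain ⟨y₁, hy₁, rfl⟩ := h3
    exact ⟨y₁, specializes_iff_mem_closure.mpr hy₁, rfl⟩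
  subst hqy₁
  haveI := hX (q y₁)
  obtain ⟨l, hl1, hl2⟩ := exists_stalk_lift q y₁ (q.quasiFiniteAt y₁) t htq hy₁
  exact ⟨l, by rw [hl1, Category.comp_id], hl2⟩

/-- Spreading out a section over the generic stalk of an integral scheme. -/
theorem exists_open_section_of_generic {X Y : Scheme.{u}} [IsIntegral X] (q : Y ⟶ X)
    [LocallyOfFiniteType q]
    (σ : Spec (X.presheaf.stalk (genericPoint X)) ⟶ Y)
    (hσ : σ ≫ q = X.fromSpecStalk (genericPoint X)) :
    ∃ (U : X.Opens) (_ : (U : Set X).Nonempty) (f : U.toScheme ⟶ Y), f ≫ q = U.ι := by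
  obtain ⟨U, hxU, f, -, hf⟩ := spread_out_of_isGermInjective' (𝟙 X) q σ
    (by rw [hσ, Category.comp_id])
  exact ⟨U, ⟨_, hxU⟩, f, by rw [hf, Category.comp_id]⟩

/-- A finite morphism to a normal integral scheme with a section over the generic stalk has a
section. -/
theorem exists_section_of_isFinite_of_normal_of_generic {X Y : Scheme.{u}} [IsIntegral X]
    (hX : ∀ x : X, IsIntegrallyClosed (X.presheaf.stalk x)) (q : Y ⟶ X) [IsFinite q]
    (σ : Spec (X.presheaf.stalk (genericPoint X)) ⟶ Y)
    (hσ : σ ≫ q = X.fromSpecStalk (genericPoint X)) :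
    ∃ s : X ⟶ Y, s ≫ q = 𝟙 X := by
  obtain ⟨U, hU, f, hf⟩ := exists_open_section_of_generic q σ hσ
  obtain ⟨s, hs, -⟩ := exists_section_of_isFinite_of_normal hX q U hU f hf
  exact ⟨s, hs⟩


/-- A point over the fraction field of a domain `R` gives a section over the generic stalk of
`Spec R`. -/
theorem exists_stalk_section_of_fractionRing' (R : CommRingCat.{u}) [IsDomain R]
    {Y : Scheme.{u}} (q : Y ⟶ Spec R)
    (σ : Spec (CommRingCat.of (FractionRing R)) ⟶ Y)
    (hσ : σ ≫ q = Spec.map (CommRingCat.ofHom (algebraMap R (FractionRing R)))) :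
    ∃ σ' : Spec ((Spec R).presheaf.stalk (genericPoint (Spec R))) ⟶ Y,
      σ' ≫ q = (Spec R).fromSpecStalk (genericPoint _) := by
  let e : FractionRing R ≃ₐ[R] (Spec R).functionField :=
    FractionRing.algEquiv R (Spec R).functionField
  refine ⟨Spec.map (CommRingCat.ofHom (e : FractionRing R →+* (Spec R).functionField)) ≫ σ, ?_⟩
  rw [Category.assoc, hσ, ← Spec.map_comp, Spec.fromSpecStalk_eq']
  congr 1
  ext r
  exact e.commutes r

theorem exists_stalk_section_of_fractionRing (R : Type u) [CommRing R] [IsDomain R]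
    {Y : Scheme.{u}} (q : Y ⟶ Spec (CommRingCat.of R))
    (σ : Spec (CommRingCat.of (FractionRing R)) ⟶ Y)
    (hσ : σ ≫ q = Spec.map (CommRingCat.ofHom (algebraMap R (FractionRing R)))) :
    ∃ σ' : Spec ((Spec (CommRingCat.of R)).presheaf.stalk
        (genericPoint (Spec (CommRingCat.of R)))) ⟶ Y,
      σ' ≫ q = (Spec (CommRingCat.of R)).fromSpecStalk (genericPoint _) :=
  exists_stalk_section_of_fractionRing' (CommRingCat.of R) q σ hσ

/-- The local rings of the spectrum of a Dedekind domain are valuation rings. -/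
theorem valuationRing_stalk_of_isDedekindDomain (R : Type u) [CommRing R] [IsDedekindDomain R]
    (x : Spec (CommRingCat.of R)) :
    ValuationRing ((Spec (CommRingCat.of R)).presheaf.stalk x) := by
  haveI hloc : IsLocalization.AtPrime ((Spec.structureSheaf R).presheaf.stalk x) x.asIdeal :=
    StructureSheaf.IsLocalization.to_stalk R x
  haveI : IsDomain ((Spec.structureSheaf R).presheaf.stalk x) :=
    IsLocalization.isDomain_of_le_nonZeroDivisors (M := x.asIdeal.primeCompl) _
      x.asIdeal.primeCompl_le_nonZeroDivisors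
  haveI : IsDedekindDomain ((Spec.structureSheaf R).presheaf.stalk x) :=
    IsLocalization.isDedekindDomain R x.asIdeal.primeCompl_le_nonZeroDivisors _
  haveI : IsLocalRing ((Spec.structureSheaf R).presheaf.stalk x) :=
    inferInstanceAs (IsLocalRing ((Spec (CommRingCat.of R)).presheaf.stalk x))
  haveI : IsPrincipalIdealRing ((Spec.structureSheaf R).presheaf.stalk x) := by
    apply IsPrincipalIdealRing.of_finite_maximals
    refine (Set.finite_singleton (IsLocalRing.maximalIdeal _)).subset ?_
    intro I hI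
    exact IsLocalRing.eq_maximalIdeal hI
  change ValuationRing ((Spec.structureSheaf R).presheaf.stalk x)
  infer_instance

end Groth.Agent.Lib.T2H3.GenericSection
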