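import Mathlib
import Groth.Prelude.Def_Red
import Groth.Prelude.Def_NonAbH2
import Groth.Prelude.Def_Pi1
import Groth.Agent.Lib.Helper12Torsor
import Groth.Agent.Lib.Helper12PseudoTorsor
import Groth.Agent.Lib.Helper12Act
import Groth.Agent.Lib.Helper12Descent
import Groth.Agent.Lib.Helper8Grp
import Groth.Agent.Lib.Helper4EtNormalSch
import Groth.Agent.Lib.T2H3GenericSection
import Groth.Agent.Lib.T2H3EtaleExt

/-!
# Torsors under an étale group over a field, on a normal integral base

Sections of such a torsor over the base are the same as points over the generic point.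
-/

set_option autoImplicit false
set_option linter.style.haveILetI false
set_option linter.unusedSectionVars false
universe u

open CategoryTheory MonoidalCategory CartesianMonoidalCategory MonObj GrpObj AlgebraicGeometry Limits

namespace Groth.Agent.Lib.T2H3.GenericTorsor

open Groth.Agent.Lib.Helper12 Groth.Agent.Lib.Helper12.PseudoTorsor
open Groth.Agent.Lib.Helper4.RatExt Groth.Agent.Lib.Helper4.RatMapExt
open Groth.Agent.Lib.T2H3.GenericSection

/-! ### Properties of torsors by descent -/

section Descent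

variable {S : Scheme.{u}} {H X : Over S} [GrpObj H] (a : AlgGrp.Action H X)

/-- an fppf torsor inherits the fpqc-local properties of its group. -/
theorem torsor_prop {P : MorphismProperty Scheme.{u}} [IsZariskiLocalAtTarget P]
    [P.IsStableUnderBaseChange]
    (hP : P.DescendsAlong (@Surjective ⊓ @Flat ⊓ @QuasiCompact : MorphismProperty Scheme.{u}))
    (h : NonAbH1.IsTorsorFor Scheme.fppfPrecoverage a) (hH : P H.hom) : P X.hom := by
  obtain ⟨hps, R, hR, hsec⟩ := h
  exact of_mem_fpqcPrecoverage hP X.hom R (Scheme.fppfPrecoverage_le_fpqcPrecoverage _ hR)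
    (fun Y' f hf => pullback_snd_of_hasSectionOver a hps hH f (hsec f hf))

end Descent

/-! ### Extension of points of the group -/

section Ext

variable {k : Type u} [Field k] (G : Over (Spec (CommRingCat.of k))) [Etale G.hom]
  {S : Scheme.{u}} (s : S ⟶ Spec (CommRingCat.of k))

/-- points of `G_S` with values in the fraction field of a normal domain extend. -/
theorem exists_extension_bc (B : Type u) [CommRing B] [IsDomain B] [IsIntegrallyClosed B]
    (K : Type u) [Field K] [Algebra B K] [IsFractionRing B K]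
    (b₀ : Spec (CommRingCat.of B) ⟶ S)
    (g : Over.mk (Spec.map (CommRingCat.ofHom (algebraMap B K)) ≫ b₀) ⟶ Red.bc s G) :
    ∃ g' : Over.mk b₀ ⟶ Red.bc s G,
      (Over.homMk (Spec.map (CommRingCat.ofHom (algebraMap B K))) rfl :
        Over.mk (Spec.map (CommRingCat.ofHom (algebraMap B K)) ≫ b₀) ⟶ Over.mk b₀) ≫ g' = g := by
  have hw : g.left ≫ pullback.snd G.hom s = Spec.map (CommRingCat.ofHom (algebraMap B K)) ≫ b₀ :=
    Over.w g
  have h1 : (g.left ≫ pullback.fst G.hom s) ≫ G.hom =
      Spec.map (CommRingCat.ofHom (algebraMap B K)) ≫ (b₀ ≫ s) := by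
    rw [Category.assoc, pullback.condition, ← Category.assoc, hw, Category.assoc]
  obtain ⟨g₀, hg₀1, hg₀2⟩ := Groth.Agent.Lib.T2H3.EtaleExt.exists_extension_of_etale_field G.hom B K
    (g.left ≫ pullback.fst G.hom s) (b₀ ≫ s) h1
  refine ⟨Over.homMk (pullback.lift g₀ b₀ hg₀2) (pullback.lift_snd _ _ _), ?_⟩
  ext1
  apply pullback.hom_ext
  · simp only [Over.comp_left, Over.homMk_left, Category.assoc]
    erw [pullback.lift_fst]
    exact hg₀1
  · simp only [Over.comp_left, Over.homMk_left, Category.assoc]
    erw [pullback.lift_snd]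
    exact hw.symm

end Ext

/-! ### The translation argument -/

section Translate

variable {S : Scheme.{u}} {H X : Over S} [GrpObj H] (a : AlgGrp.Action H X)
  (hps : NonAbH1.IsPseudoTorsorSch a)

include hps in
/-- if all `Tη`-points of the group extend along `jj : Tη ⟶ T'`, a `T'`-point of a pseudo-torsor can
be translated so as to restrict to any prescribed `Tη`-point. -/
theorem exists_translate {T' Tη : Over S} (jj : Tη ⟶ T') (ι' : T' ⟶ X) (a₂ : Tη ⟶ X)
    (hext : ∀ g : Tη ⟶ H, ∃ g' : T' ⟶ H, jj ≫ g' = g) :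
    ∃ ψ : T' ⟶ X, jj ≫ ψ = a₂ := by
  obtain ⟨g, hgdef⟩ : ∃ g, g = lift (jj ≫ ι') a₂ ≫ diff a hps := ⟨_, rfl⟩
  have hga : lift g a₂ ≫ a.act = jj ≫ ι' := by
    rw [hgdef]
    exact diff_act a hps (jj ≫ ι') a₂
  obtain ⟨g', hg'⟩ := hext g
  refine ⟨lift g'⁻¹ ι' ≫ a.act, ?_⟩
  rw [← Category.assoc, comp_lift, GrpObj.comp_inv, hg']
  have h1 : lift g⁻¹ (jj ≫ ι') ≫ a.act = lift g⁻¹ (lift g a₂ ≫ a.act) ≫ a.act := by rw [hga]
  rw [h1, ← act_mul, inv_mul_cancel, act_one]

end Translate

/-- the stalk maps of a flat morphism are injective. -/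
theorem stalkMap_injective_of_flat {X S : Scheme.{u}} (f : X ⟶ S) [Flat f] (e' : X) :
    Function.Injective (f.stalkMap e').hom := by
  have hfl : (f.stalkMap e').hom.Flat := Flat.stalkMap f e'
  algebraize [(f.stalkMap e').hom]
  haveI : IsLocalHom (algebraMap (S.presheaf.stalk (f e')) (X.presheaf.stalk e')) :=
    inferInstanceAs (IsLocalHom (f.stalkMap e').hom)
  haveI : Module.FaithfullyFlat (S.presheaf.stalk (f e')) (X.presheaf.stalk e') :=
    Module.FaithfullyFlat.of_flat_of_isLocalHom
  exact FaithfulSMul.algebraMap_injective _ _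

section Main

variable {k : Type u} [Field k] (G : Over (Spec (CommRingCat.of k))) [GrpObj G] [Etale G.hom]
  {S : Scheme.{u}} [IsIntegral S] (hS : Pi1.IsNormalScheme S) (s : S ⟶ Spec (CommRingCat.of k))
  {X : Over S} (a : AlgGrp.Action (Red.bc s G) X) (hps : NonAbH1.IsPseudoTorsorSch a)
  [Etale X.hom]

include hS hps in
/-- Every point of `S` is the image of a specialization of a given generic rational point. -/
theorem exists_specialization (x₀ : S) (e' : X.left) (he' : X.hom e' = x₀)
    [IsDomain (S.presheaf.stalk x₀)]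
    (t : Spec (CommRingCat.of (FractionRing (S.presheaf.stalk x₀))) ⟶ X.left)
    (ht : t ≫ X.hom = genericHom S x₀) :
    ∃ y₁ : X.left, X.hom y₁ = x₀ ∧
      t (IsLocalRing.closedPoint (FractionRing (S.presheaf.stalk x₀))) ⤳ y₁ := by
  subst he'
  obtain ⟨hB1, hB2⟩ := Groth.Agent.Lib.Helper4.EtNormalSch.isNormalScheme_of_etale hS X.hom e'
  haveI : IsDomain (X.left.presheaf.stalk e') := hB1
  haveI : IsIntegrallyClosed (X.left.presheaf.stalk e') := hB2
  have hρ₀inj := stalkMap_injective_of_flat X.hom e'
  have hinj2 : Function.Injective ((algebraMap (X.left.presheaf.stalk e')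
      (FractionRing (X.left.presheaf.stalk e'))).comp (X.hom.stalkMap e').hom) :=
    (IsFractionRing.injective _ _).comp hρ₀inj
  have hρK_alg : (IsFractionRing.lift hinj2).comp (algebraMap (S.presheaf.stalk (X.hom e'))
      (FractionRing (S.presheaf.stalk (X.hom e')))) =
      (algebraMap (X.left.presheaf.stalk e') (FractionRing (X.left.presheaf.stalk e'))).comp
        (X.hom.stalkMap e').hom := by
    ext z
    rw [RingHom.comp_apply, IsFractionRing.lift_algebraMap]
  have hw₂ : (Spec.map (CommRingCat.ofHom (IsFractionRing.lift hinj2)) ≫ t) ≫ X.hom =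
      Spec.map (CommRingCat.ofHom (algebraMap (X.left.presheaf.stalk e')
        (FractionRing (X.left.presheaf.stalk e')))) ≫ X.left.fromSpecStalk e' ≫ X.hom := by
    rw [Category.assoc, ht, ← Scheme.SpecMap_stalkMap_fromSpecStalk, ← Category.assoc,
      ← Spec.map_comp]
    rw [← CommRingCat.ofHom_comp, hρK_alg, CommRingCat.ofHom_comp, Spec.map_comp, Category.assoc]
    rfl
  have hext := @exists_extension_bc k _ G _ S s (X.left.presheaf.stalk e') inferInstance
      inferInstance inferInstance (FractionRing (X.left.presheaf.stalk e')) inferInstance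
      inferInstance inferInstance (X.left.fromSpecStalk e' ≫ X.hom)
  obtain ⟨ψ, hψ⟩ := exists_translate a hps
    (T' := Over.mk (X.left.fromSpecStalk e' ≫ X.hom))
    (Tη := Over.mk (Spec.map (CommRingCat.ofHom (algebraMap (X.left.presheaf.stalk e')
        (FractionRing (X.left.presheaf.stalk e')))) ≫ X.left.fromSpecStalk e' ≫ X.hom))
    (Over.homMk (Spec.map (CommRingCat.ofHom (algebraMap (X.left.presheaf.stalk e')
        (FractionRing (X.left.presheaf.stalk e'))))) rfl)
    (Over.homMk (X.left.fromSpecStalk e') rfl)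
    (Over.homMk (Spec.map (CommRingCat.ofHom (IsFractionRing.lift hinj2)) ≫ t) hw₂)
    hext
  refine ⟨ψ.left (IsLocalRing.closedPoint (X.left.presheaf.stalk e')), ?_, ?_⟩
  · have h1 : ψ.left ≫ X.hom = X.left.fromSpecStalk e' ≫ X.hom := Over.w ψ
    have h2 := congrArg (fun m => m (IsLocalRing.closedPoint (X.left.presheaf.stalk e'))) h1
    simp only [Scheme.Hom.comp_apply] at h2
    rw [h2, Scheme.fromSpecStalk_closedPoint]
  · have h3 := congrArg (fun m => m.left (IsLocalRing.closedPoint
      (FractionRing (X.left.presheaf.stalk e')))) hψ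
    simp only [Over.comp_left, Over.homMk_left, Scheme.Hom.comp_apply] at h3
    have h5 : t (IsLocalRing.closedPoint (FractionRing (S.presheaf.stalk (X.hom e')))) =
        t (Spec.map (CommRingCat.ofHom (IsFractionRing.lift hinj2))
          (IsLocalRing.closedPoint (FractionRing (X.left.presheaf.stalk e')))) :=
      congrArg (fun z => t z) (Subsingleton.elim _ _)
    rw [h5, ← h3]
    exact (IsLocalRing.specializes_closedPoint _).map ψ.left.continuous

end Main

/-! ### The residue field at the generic point -/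

theorem isIso_residue_genericPoint (S : Scheme.{u}) [IsIntegral S] :
    IsIso (S.residue (genericPoint S)) := by
  have hF : IsField (S.presheaf.stalk (genericPoint S)) :=
    isField_stalk_of_closure_mem_irreducibleComponents S _
      (by simp [irreducibleComponents_eq_singleton])
  have hmax : IsLocalRing.maximalIdeal (S.presheaf.stalk (genericPoint S)) = ⊥ :=
    IsLocalRing.isField_iff_maximalIdeal_eq.mp hF
  have hbij : Function.Bijective (IsLocalRing.residue (S.presheaf.stalk (genericPoint S))) := by
    constructor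
    · rw [injective_iff_map_eq_zero]
      intro z hz
      have : z ∈ IsLocalRing.maximalIdeal (S.presheaf.stalk (genericPoint S)) :=
        (IsLocalRing.residue_eq_zero_iff z).mp hz
      rwa [hmax, Ideal.mem_bot] at this
    · exact IsLocalRing.residue_surjective
  exact (ConcreteCategory.isIso_iff_bijective (S.residue (genericPoint S))).mpr hbij

theorem locallyQuasiFinite_of_etale {X S : Scheme.{u}} (f : X ⟶ S) [Etale f] :
    LocallyQuasiFinite f := by
  constructor
  intro U hU V hV e
  have h1 := f.etale_appLE hU hV e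
  algebraize [(f.appLE U V e).hom]
  have : Algebra.Etale Γ(S, U) Γ(X, V) := h1
  exact RingHom.quasiFinite_algebraMap.mpr inferInstance

/-! ### The main theorems -/

section Final

variable {k : Type u} [Field k] (G : Over (Spec (CommRingCat.of k))) [GrpObj G] [Etale G.hom]
  {S : Scheme.{u}} [IsIntegral S] (hS : Pi1.IsNormalScheme S) (s : S ⟶ Spec (CommRingCat.of k))
  {X : Over S} (a : AlgGrp.Action (Red.bc s G) X)
  (h : NonAbH1.IsTorsorFor Scheme.fppfPrecoverage a)

include h in
theorem etale_hom : Etale X.hom := by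
  refine torsor_prop a inferInstance h ?_
  exact MorphismProperty.pullback_snd (P := @Etale) _ _ inferInstance

include h in
theorem isSeparated_hom : IsSeparated X.hom := by
  refine torsor_prop a descendsAlong_isSeparated h ?_
  haveI : DiscreteTopology (Spec (CommRingCat.of k)) :=
    inferInstanceAs (DiscreteTopology (PrimeSpectrum k))
  haveI : IsSeparated G.hom := Groth.Agent.Lib.Helper8.isSeparated_of_discrete G
  exact MorphismProperty.pullback_snd (P := @IsSeparated) _ _ inferInstance

include h in
theorem surjective_hom : Surjective X.hom := by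
  refine torsor_prop a inferInstance h ?_
  constructor
  intro x
  refine ⟨η[Red.bc s G].left x, ?_⟩
  have h1 : η[Red.bc s G].left ≫ (Red.bc s G).hom = 𝟙 S := Over.w η[Red.bc s G]
  rw [← Scheme.Hom.comp_apply, h1]
  rfl

include hS h in
theorem sections_unique (σ₁ σ₂ : S ⟶ X.left) (h1 : σ₁ ≫ X.hom = 𝟙 S) (h2 : σ₂ ≫ X.hom = 𝟙 S)
    (hη : S.fromSpecResidueField (genericPoint S) ≫ σ₁ =
      S.fromSpecResidueField (genericPoint S) ≫ σ₂) : σ₁ = σ₂ := by
  haveI := isSeparated_hom G s a h
  haveI := isIso_residue_genericPoint S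
  have e : S.fromSpecStalk (genericPoint S) ≫ σ₁ = S.fromSpecStalk (genericPoint S) ≫ σ₂ := by
    unfold Scheme.fromSpecResidueField at hη
    rw [Category.assoc, Category.assoc] at hη
    exact (cancel_epi _).mp hη
  obtain ⟨U, hηU, hU⟩ := spread_out_unique_of_isGermInjective' σ₁ σ₂ e
  exact extension_unique X.hom U ⟨_, hηU⟩ σ₁ σ₂ (h1.trans h2.symm) hU

include hS h in
theorem exists_section (x : Spec (S.residueField (genericPoint S)) ⟶ X.left)
    (hx : x ≫ X.hom = S.fromSpecResidueField (genericPoint S)) :
    ∃ σ : S ⟶ X.left, σ ≫ X.hom = 𝟙 S ∧ S.fromSpecResidueField (genericPoint S) ≫ σ = x := by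
  haveI := isSeparated_hom G s a h
  haveI := etale_hom G s a h
  haveI := surjective_hom G s a h
  haveI := isIso_residue_genericPoint S
  haveI : LocallyQuasiFinite X.hom := locallyQuasiFinite_of_etale X.hom
  set r := S.residue (genericPoint S) with hr
  have hφ : (Spec.map (inv r) ≫ x) ≫ X.hom = S.fromSpecStalk (genericPoint S) ≫ 𝟙 S := by
    rw [Category.assoc, hx, Category.comp_id]
    unfold Scheme.fromSpecResidueField
    rw [← Category.assoc, ← Spec.map_comp, IsIso.hom_inv_id, Spec.map_id, Category.id_comp]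
  obtain ⟨U, hηU, f, hφf, hf⟩ := spread_out_of_isGermInjective' (𝟙 S) X.hom
    (Spec.map (inv r) ≫ x) hφ
  obtain ⟨σ, hσ1, hσ2⟩ := exists_extension_of_stalk_lifts (𝟙 S) X.hom U ⟨_, hηU⟩ f hf (by
    intro x₀ jU hjU
    obtain ⟨e', he'⟩ := X.hom.surjective x₀
    haveI : IsDomain (S.presheaf.stalk x₀) := (hS x₀).1
    obtain ⟨y₁, hy₁, hsp⟩ := exists_specialization G hS s a h.1 x₀ e' he' (jU ≫ f)
      (by rw [Category.assoc, hf, Category.comp_id, hjU])
    subst hy₁
    haveI : IsIntegrallyClosed (S.presheaf.stalk (X.hom y₁)) := (hS (X.hom y₁)).2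
    obtain ⟨l, hl1, hl2⟩ := exists_stalk_lift X.hom y₁ (X.hom.quasiFiniteAt y₁) (jU ≫ f)
      (by rw [Category.assoc, hf, Category.comp_id, hjU]) hsp
    exact ⟨l, by rw [hl1, Category.comp_id], hl2⟩)
  refine ⟨σ, hσ1, ?_⟩
  have h3 : S.fromSpecStalk (genericPoint S) ≫ σ = Spec.map (inv r) ≫ x := by
    rw [← Scheme.Opens.fromSpecStalkOfMem_ι U (genericPoint S) hηU, Category.assoc, hσ2, ← hφf]
  unfold Scheme.fromSpecResidueField
  rw [Category.assoc, h3, ← Category.assoc, ← Spec.map_comp, IsIso.inv_hom_id, Spec.map_id,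
    Category.id_comp]

end Final

end Groth.Agent.Lib.T2H3.GenericTorsor
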