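import Mathlib
import Groth.Prelude
import Groth.Agent.Lib.Helper4EtNormalSch
import Groth.Agent.Lib.T2H3GenericTorsor
import Groth.Agent.Lib.T2H3FlatBirMono
import Groth.Agent.Lib.T2H3ConnPullback

/-!
# Étale separated schemes over a normal integral scheme with separably closed function field
(helper3)

* `isSepClosed_of_ringEquiv`: separable closedness transports along ring isomorphisms.
* `isOpenImmersion_of_etale`: an étale separated morphism from an integral scheme to an integral
  scheme with separably closed function field is an open immersion.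
* `isOpen_of_mem_irreducibleComponents`: irreducible components of a scheme with domain stalks and
  locally finitely many maximal points are open.
* `exists_opens_finite_genericPoints`: schemes étale over an irreducible scheme have locally
  finitely many maximal points.
-/

set_option autoImplicit false
set_option linter.style.haveILetI false
universe u

namespace Groth.Agent.Lib.T2H3.EtSepClosed
open AlgebraicGeometry CategoryTheory CategoryTheory.Limits
open Groth.Agent.Lib.T2H3.Birat Groth.Agent.Lib.T2H3.ConnPullback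

theorem isSepClosed_of_ringEquiv {k K : Type*} [Field k] [Field K] [IsSepClosed k]
    (e : k ≃+* K) : IsSepClosed K := by
  refine IsSepClosed.of_exists_root K fun p _ hirr hsep => ?_
  have hsep' : (p.map (e.symm : K →+* k)).Separable := hsep.map
  have hdeg : (p.map (e.symm : K →+* k)).degree ≠ 0 := by
    rw [Polynomial.degree_map]
    exact (Polynomial.degree_pos_of_irreducible hirr).ne'
  obtain ⟨x, hx⟩ := IsSepClosed.exists_root _ hdeg hsep'
  refine ⟨e x, ?_⟩
  have h1 : Polynomial.eval x (p.map (e.symm : K →+* k)) = 0 := hx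
  have h2 := congrArg (e : k →+* K) h1
  rw [Polynomial.eval_map, Polynomial.hom_eval₂, map_zero] at h2
  have h3 : ((e : k →+* K).comp (e.symm : K →+* k)) = RingHom.id K := by
    ext a; simp
  rw [h3, Polynomial.eval₂_id] at h2
  exact h2

theorem isIso_residue_of_eq (S : Scheme.{u}) [IsIntegral S] (x : S) (hx : x = genericPoint S) :
    IsIso (S.residue x) := by
  subst hx
  exact Groth.Agent.Lib.T2H3.GenericTorsor.isIso_residue_genericPoint S

theorem isSepClosed_residueField (X : Scheme.{u}) [IsIntegral X] [IsSepClosed X.functionField]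
    (y : X) (hy : y = genericPoint X) : IsSepClosed (X.residueField y) := by
  subst hy
  haveI := Groth.Agent.Lib.T2H3.GenericTorsor.isIso_residue_genericPoint X
  let e : X.functionField ≃+* X.residueField (genericPoint X) :=
    (asIso (X.residue (genericPoint X))).commRingCatIsoToRingEquiv
  exact isSepClosed_of_ringEquiv e

/-- an étale separated morphism from an integral scheme to an integral scheme with separably
closed function field is an open immersion. -/
theorem isOpenImmersion_of_etale {T' X : Scheme.{u}} [IsIntegral T'] [IsIntegral X]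
    [IsSepClosed X.functionField] (h : T' ⟶ X) [Etale h] [IsSeparated h] :
    IsOpenImmersion h := by
  let ξ := genericPoint T'
  have hξ : h ξ = genericPoint X := by
    have h1 : ξ ∈ genericPoints T' := by
      rw [genericPoints_eq_singleton]; rfl
    have h2 := map_mem_genericPoints h (Flat.generalizingMap h) h1
    rw [genericPoints_eq_singleton] at h2
    exact h2
  haveI : IsSepClosed (X.residueField (h ξ)) := isSepClosed_residueField X _ hξ
  letI : Algebra (X.residueField (h ξ)) (T'.residueField ξ) :=
    (h.residueFieldMap ξ).hom.toAlgebra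
  haveI : Algebra.IsSeparable (X.residueField (h ξ)) (T'.residueField ξ) := inferInstance
  have hbij : Function.Bijective (h.residueFieldMap ξ).hom :=
    IsSepClosed.algebraMap_bijective (X.residueField (h ξ)) (T'.residueField ξ)
  haveI : IsIso (h.residueFieldMap ξ) :=
    (ConcreteCategory.isIso_iff_bijective _).mpr hbij
  haveI : IsIso (X.residue (h ξ)) := isIso_residue_of_eq X _ hξ
  haveI : IsIso (T'.residue ξ) :=
    Groth.Agent.Lib.T2H3.GenericTorsor.isIso_residue_genericPoint T'
  have hK : IsIso (h.stalkMap ξ) := by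
    haveI : IsIso (h.stalkMap ξ ≫ T'.residue ξ) := by
      rw [← Scheme.residue_residueFieldMap]
      infer_instance
    exact IsIso.of_isIso_comp_right (h.stalkMap ξ) (T'.residue ξ)
  haveI := Groth.Agent.Lib.T2H3.FlatBirMono.mono_of_flat_of_isIso_stalkMap h hK
  exact IsOpenImmersion.of_flat_of_mono h

/-- irreducible components of a scheme with domain stalks and locally finitely many maximal points
are open. -/
theorem isOpen_of_mem_irreducibleComponents {T : Scheme.{u}}
    (hdom : ∀ t : T, IsDomain (T.presheaf.stalk t))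
    (hlf : ∀ t : T, ∃ W : T.Opens, t ∈ W ∧ (genericPoints T ∩ (W : Set T)).Finite)
    {Z : Set T} (hZ : Z ∈ irreducibleComponents T) : IsOpen Z := by
  rw [isOpen_iff_mem_nhds]
  intro t ht
  obtain ⟨W, htW, hfin⟩ := hlf t
  haveI := hdom t
  let G : Set T := {ξ | ξ ∈ genericPoints T ∩ (W : Set T) ∧ closure {ξ} ≠ Z}
  have hGfin : G.Finite := hfin.subset fun ξ hξ => hξ.1
  let C : Set T := ⋃ ξ ∈ G, closure {ξ}
  have hC : IsClosed C := hGfin.isClosed_biUnion fun _ _ => isClosed_closure
  have htC : t ∉ C := by
    intro htC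
    simp only [C, Set.mem_iUnion, exists_prop] at htC
    obtain ⟨ξ, hξG, hξt⟩ := htC
    exact hξG.2 (Groth.Agent.Lib.Helper4.EtNormalSch.irreducibleComponents_eq_of_mem t
      hξG.1.1 hZ hξt ht)
  have hnhds : (W : Set T) ∩ Cᶜ ∈ nhds t :=
    Filter.inter_mem (W.isOpen.mem_nhds htW) (hC.isOpen_compl.mem_nhds htC)
  refine Filter.mem_of_superset hnhds ?_
  rintro s ⟨hsW, hsC⟩
  obtain ⟨ξ, hξ, hξs⟩ := exists_genericPoint_specializes T s
  have hξW : ξ ∈ (W : Set T) := hξs.mem_open W.isOpen hsW
  have hsξ : s ∈ closure {ξ} := specializes_iff_mem_closure.mp hξs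
  by_cases hcl : closure {ξ} = Z
  · rw [← hcl]; exact hsξ
  · exfalso
    apply hsC
    simp only [C, Set.mem_iUnion, exists_prop]
    exact ⟨ξ, ⟨⟨hξ, hξW⟩, hcl⟩, hsξ⟩

/-- a scheme étale over an irreducible scheme has locally finitely many maximal points. -/
theorem exists_opens_finite_genericPoints {T X : Scheme.{u}} [IrreducibleSpace X] (g : T ⟶ X)
    [Etale g] (t : T) :
    ∃ W : T.Opens, t ∈ W ∧ (genericPoints T ∩ (W : Set T)).Finite := by
  obtain ⟨_, ⟨V, hV, rfl⟩, htV, -⟩ := X.isBasis_affineOpens.exists_subset_of_mem_open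
    (Set.mem_univ (g t)) isOpen_univ
  obtain ⟨_, ⟨W, hW, rfl⟩, htW, hWV⟩ := T.isBasis_affineOpens.exists_subset_of_mem_open
    (show t ∈ (g ⁻¹ᵁ V : Set T) from htV) (g ⁻¹ᵁ V).isOpen
  have e : W ≤ g ⁻¹ᵁ V := hWV
  refine ⟨W, htW, ?_⟩
  let h := g.resLE V W e
  haveI : IsAffine (W : Scheme.{u}) := hW
  haveI : IsAffine (V : Scheme.{u}) := hV
  haveI : QuasiCompact h := HasAffineProperty.iff_of_isAffine.mpr (by infer_instance)
  haveI : LocallyQuasiFinite g := Groth.Agent.Lib.T2H3.GenericTorsor.locallyQuasiFinite_of_etale g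
  haveI : LocallyQuasiFinite h := inferInstance
  have hηV : genericPoint X ∈ V :=
    ((genericPoint_spec X).mem_open_set_iff V.isOpen).mpr ⟨g t, Set.mem_univ _, htV⟩
  have hfin := h.finite_preimage_singleton ⟨genericPoint X, hηV⟩
  refine (hfin.image (fun w : W => (w : T))).subset ?_
  rintro ξ ⟨hξ, hξW⟩
  refine ⟨⟨ξ, hξW⟩, ?_, rfl⟩
  have h2 := map_mem_genericPoints g (Flat.generalizingMap g) hξ
  rw [genericPoints_eq_singleton] at h2
  show h ⟨ξ, hξW⟩ = ⟨genericPoint X, hηV⟩
  apply Subtype.ext
  rw [Scheme.Hom.coe_resLE_apply]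
  exact h2

end Groth.Agent.Lib.T2H3.EtSepClosed
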