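import Mathlib
import Groth.Agent.S13199
import Groth.Agent.S2750
import Groth.Agent.Lib.Helper3ShQuot
import Groth.Agent.Lib.Helper4Unibranch
import Groth.Agent.Lib.Helper3HzP
import Groth.Agent.S13598

/-!
# Prime elements stay prime in strict henselizations of smooth algebras
(helper3, team 2)

`D₀` a Noetherian strictly henselian local ring, `Δ ∈ D₀` a prime element, `C` smooth over `D₀`,
`Q` a prime of `C` over the closed point: `Δ` is prime in every strict henselization of `C_Q`.
-/

set_option autoImplicit false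
set_option linter.unusedSectionVars false
set_option linter.style.haveILetI false
universe u

namespace Groth.Agent.Lib.T2H3.EtUnivPrime
open IsLocalRing TensorProduct
open Groth.Agent.Lib.Helper3

/-- quotient of a local ring by a proper ideal is local -/
theorem isLocalRing_quotient {R : Type*} [CommRing R] [IsLocalRing R] (I : Ideal R) (hI : I ≠ ⊤) :
    IsLocalRing (R ⧸ I) := by
  haveI : Nontrivial (R ⧸ I) := Ideal.Quotient.nontrivial_iff.mpr hI
  exact IsLocalRing.of_surjective' (Ideal.Quotient.mk I) Ideal.Quotient.mk_surjective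

/-- the induced map on quotients of a local hom is local -/
theorem isLocalHom_quotient {A S : Type*} [CommRing A] [IsLocalRing A] [CommRing S] [IsLocalRing S]
    [Algebra A S] [IsLocalHom (algebraMap A S)] (I : Ideal A)
    [IsLocalRing (A ⧸ I)] [IsLocalRing (S ⧸ I.map (algebraMap A S))] :
    IsLocalHom (algebraMap (A ⧸ I) (S ⧸ I.map (algebraMap A S))) := by
  haveI := ShQuot.isLocalHom_mk (I.map (algebraMap A S))
  refine ⟨fun x hx => ?_⟩
  obtain ⟨a, rfl⟩ := Ideal.Quotient.mk_surjective x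
  have h1 : IsUnit (Ideal.Quotient.mk (I.map (algebraMap A S)) (algebraMap A S a)) := hx
  have h2 : IsUnit (algebraMap A S a) := isUnit_of_map_unit _ _ h1
  have h3 : IsUnit a := isUnit_of_map_unit (algebraMap A S) a h2
  exact h3.map _

theorem smooth_quotient {A B : Type u} [CommRing A] [CommRing B] [Algebra A B]
    [Algebra.Smooth A B] (I : Ideal A) : Algebra.Smooth (A ⧸ I) (B ⧸ I.map (algebraMap A B)) :=
  Algebra.Smooth.of_equiv (Algebra.TensorProduct.quotIdealMapEquivQuotTensor B I).symm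

theorem isLocalization_atPrime_quotient {C : Type u} [CommRing C] (Q : Ideal C) [Q.IsPrime]
    (J : Ideal C) (hJQ : J ≤ Q) (L : Type u) [CommRing L] [Algebra C L] [IsLocalization.AtPrime L Q]
    [(Q.map (Ideal.Quotient.mk J)).IsPrime] :
    IsLocalization.AtPrime (L ⧸ J.map (algebraMap C L)) (Q.map (Ideal.Quotient.mk J)) := by
  have h : Algebra.algebraMapSubmonoid (C ⧸ J) Q.primeCompl =
      (Q.map (Ideal.Quotient.mk J)).primeCompl := by
    ext x
    obtain ⟨c, rfl⟩ := Ideal.Quotient.mk_surjective x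
    constructor
    · rintro ⟨y, hy, hyc⟩
      intro hmem
      have hyc' : Ideal.Quotient.mk J y = Ideal.Quotient.mk J c := hyc
      rw [← hyc'] at hmem
      have hmem' : Ideal.Quotient.mk J y ∈ Ideal.map (Ideal.Quotient.mk J) Q := hmem
      rw [Ideal.mem_quotient_iff_mem hJQ] at hmem'
      exact hy hmem'
    · intro hc
      refine ⟨c, ?_, rfl⟩
      intro hcQ
      exact hc (Ideal.mem_map_of_mem _ hcQ)
  have := (inferInstance : IsLocalization (Algebra.algebraMapSubmonoid (C ⧸ J) Q.primeCompl)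
    (L ⧸ J.map (algebraMap C L)))
  rw [h] at this
  exact this

/-- **Core lemma.** -/
theorem prime_in_sh_of_smooth (D₀ : Type u) [CommRing D₀] [IsNoetherianRing D₀]
    [HenselianLocalRing D₀] [IsSepClosed (ResidueField D₀)] (Δ : D₀) (hΔ : Prime Δ)
    (C : Type u) [CommRing C] [Algebra D₀ C] [Algebra.Smooth D₀ C] (Q : Ideal C) [Q.IsPrime]
    (hQ : (maximalIdeal D₀).map (algebraMap D₀ C) ≤ Q)
    (T : Type u) [CommRing T] [IsLocalRing T] [Algebra (Localization.AtPrime Q) T]
    [IsLocalHom (algebraMap (Localization.AtPrime Q) T)]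
    [Hensel.IsStrictHenselization (Localization.AtPrime Q) T] :
    Prime (algebraMap (Localization.AtPrime Q) T
      (algebraMap C (Localization.AtPrime Q) (algebraMap D₀ C Δ))) := by
  classical
  let L := Localization.AtPrime Q
  let I : Ideal D₀ := Ideal.span {Δ}
  have hIprime : I.IsPrime := (Ideal.span_singleton_prime hΔ.ne_zero).mpr hΔ
  have hItop : I ≠ ⊤ := hIprime.ne_top
  have hIle : I ≤ maximalIdeal D₀ := le_maximalIdeal hItop
  let J : Ideal C := I.map (algebraMap D₀ C)
  have hJQ : J ≤ Q := (Ideal.map_mono hIle).trans hQ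
  -- the base `D = D₀ ⧸ I`
  haveI : IsDomain (D₀ ⧸ I) := Ideal.Quotient.isDomain I
  haveI hDloc : IsLocalRing (D₀ ⧸ I) := isLocalRing_quotient I hItop
  haveI : HenselianLocalRing (D₀ ⧸ I) := Groth.Agent.S13598.henselian_quotient I
  haveI hmkloc := ShQuot.isLocalHom_mk I
  haveI : IsSepClosed (ResidueField (D₀ ⧸ I)) :=
    ShQuot.isSepClosed_of_ringEquiv (RingEquiv.ofBijective _ (ShQuot.residue_map_mk_bijective I))
  haveI : Algebra.Smooth (D₀ ⧸ I) (C ⧸ J) := smooth_quotient I
  let Qb : Ideal (C ⧸ J) := Q.map (Ideal.Quotient.mk J)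
  haveI hQb : Qb.IsPrime :=
    Ideal.map_isPrime_of_surjective Ideal.Quotient.mk_surjective (by rw [Ideal.mk_ker]; exact hJQ)
  have hQb_le : (maximalIdeal (D₀ ⧸ I)).map (algebraMap (D₀ ⧸ I) (C ⧸ J)) ≤ Qb := by
    rw [Ideal.map_le_iff_le_comap]
    intro x hx
    obtain ⟨d, rfl⟩ := Ideal.Quotient.mk_surjective x
    have hd : d ∈ maximalIdeal D₀ := by
      by_contra hd
      have hu : IsUnit d := by
        by_contra hnu
        exact hd ((mem_maximalIdeal d).mpr hnu)
      exact ((mem_maximalIdeal _).mp hx) (hu.map _)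
    have h1 : algebraMap D₀ C d ∈ Q := hQ (Ideal.mem_map_of_mem _ hd)
    exact Ideal.mem_map_of_mem (Ideal.Quotient.mk J) h1
  obtain ⟨hdom, hgu⟩ := Groth.Agent.S13199.result (D₀ ⧸ I) (C ⧸ J) Qb hQb_le
  -- `L̄ = L ⧸ IL`
  let IL : Ideal L := J.map (algebraMap C L)
  haveI : IsLocalization.AtPrime (L ⧸ IL) Qb := isLocalization_atPrime_quotient Q J hJQ L
  let e : Localization.AtPrime Qb ≃ₐ[C ⧸ J] (L ⧸ IL) := IsLocalization.algEquiv Qb.primeCompl _ _
  have hILle : IL ≤ maximalIdeal L := by
    rw [Ideal.map_le_iff_le_comap]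
    intro c hc
    exact (IsLocalization.AtPrime.to_map_mem_maximal_iff L Q c).mpr (hJQ hc)
  have hILtop : IL ≠ ⊤ := by
    intro h
    rw [h] at hILle
    exact (maximalIdeal.isMaximal L).ne_top (top_le_iff.mp hILle)
  haveI hLbloc : IsLocalRing (L ⧸ IL) := isLocalRing_quotient IL hILtop
  haveI : IsDomain (L ⧸ IL) :=
    e.symm.toRingEquiv.toMulEquiv.isDomain (Localization.AtPrime Qb)
  have hguL : CAlg2.IsGeomUnibranch (L ⧸ IL) :=
    Groth.Agent.Lib.Helper4.Unibranch.isGeomUnibranch_of_ringEquiv e.toRingEquiv hgu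
  -- `T̄`
  let IT : Ideal T := IL.map (algebraMap L T)
  have hITle : IT ≤ maximalIdeal T := by
    rw [Ideal.map_le_iff_le_comap]
    intro x hx
    have hxm : x ∈ maximalIdeal L := hILle hx
    exact (mem_maximalIdeal _).mpr
      (fun hu => ((mem_maximalIdeal x).mp hxm) (isUnit_of_map_unit (algebraMap L T) x hu))
  have hITtop : IT ≠ ⊤ := by
    intro h
    rw [h] at hITle
    exact (maximalIdeal.isMaximal T).ne_top (top_le_iff.mp hITle)
  haveI hTbloc : IsLocalRing (T ⧸ IT) := isLocalRing_quotient IT hITtop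
  haveI : IsLocalHom (algebraMap (L ⧸ IL) (T ⧸ IT)) := isLocalHom_quotient IL
  haveI : Hensel.IsStrictHenselization (L ⧸ IL) (T ⧸ IT) :=
    ShQuot.isStrictHenselization_quotient IL
  have hTdom : IsDomain (T ⧸ IT) :=
    (Groth.Agent.S2750.result (L ⧸ IL) (T ⧸ IT)).mp ⟨inferInstance, hguL⟩
  have hITprime : IT.IsPrime := (Ideal.Quotient.isDomain_iff_prime IT).mp hTdom
  have hIT : IT = Ideal.span {algebraMap L T (algebraMap C L (algebraMap D₀ C Δ))} := by
    simp only [IT, IL, J, I, Ideal.map_span, Set.image_singleton]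
  rw [hIT] at hITprime
  -- nonvanishing
  haveI : Module.Flat C L := IsLocalization.flat L Q.primeCompl
  haveI : Module.Flat D₀ L := Module.Flat.trans D₀ C L
  haveI : IsLocalHom (algebraMap D₀ L) := by
    refine ⟨fun x hx => ?_⟩
    by_contra hnu
    have hxm : x ∈ maximalIdeal D₀ := (mem_maximalIdeal x).mpr hnu
    have h1 : algebraMap D₀ C x ∈ Q := hQ (Ideal.mem_map_of_mem _ hxm)
    have h2 : algebraMap C L (algebraMap D₀ C x) ∈ maximalIdeal L :=
      (IsLocalization.AtPrime.to_map_mem_maximal_iff L Q _).mpr h1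
    rw [← IsScalarTower.algebraMap_apply D₀ C L] at h2
    exact ((mem_maximalIdeal _).mp h2) hx
  haveI : Module.FaithfullyFlat D₀ L := Module.FaithfullyFlat.of_flat_of_isLocalHom
  haveI : Module.FaithfullyFlat L T := HzP.sh_faithfullyFlat L T
  have hne : algebraMap L T (algebraMap C L (algebraMap D₀ C Δ)) ≠ 0 := by
    intro h0
    have h1 : algebraMap C L (algebraMap D₀ C Δ) = 0 :=
      FaithfulSMul.algebraMap_injective L T (by rw [h0, map_zero])
    rw [← IsScalarTower.algebraMap_apply D₀ C L] at h1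
    exact hΔ.ne_zero (FaithfulSMul.algebraMap_injective D₀ L (by rw [h1, map_zero]))
  exact (Ideal.span_singleton_prime hne).mp hITprime

end Groth.Agent.Lib.T2H3.EtUnivPrime
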