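import Mathlib
import Groth.Agent.Lib.T2H3EtUnivPrimeA
import Groth.Agent.Lib.Helper3ShTensor2
import Groth.Agent.Lib.Helper3Branch

/-!
# Étale-universally prime elements: the smooth-local step
(helper3, team 2)
-/

set_option autoImplicit false
set_option linter.unusedSectionVars false
set_option linter.style.haveILetI false
universe u

namespace Groth.Agent.Lib.T2H3.EtUnivPrime
open IsLocalRing TensorProduct
open Groth.Agent.Lib.Helper3

/-- If `Δ` is prime in a strict henselization of `R_p` (`p = q ∩ R`), then it is prime in every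
strict henselization of `R'_q`, for `R'` smooth over the Noetherian ring `R`. -/
theorem prime_of_smooth (R : Type u) [CommRing R] [IsNoetherianRing R] (Δ : R)
    (R' : Type u) [CommRing R'] [Algebra R R'] [Algebra.Smooth R R'] (q : Ideal R') [q.IsPrime]
    (hL : ∀ (T₀ : Type u) [CommRing T₀] [IsLocalRing T₀]
      [Algebra (Localization.AtPrime (q.comap (algebraMap R R'))) T₀]
      [IsLocalHom (algebraMap (Localization.AtPrime (q.comap (algebraMap R R'))) T₀)]
      [Hensel.IsStrictHenselization (Localization.AtPrime (q.comap (algebraMap R R'))) T₀],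
      Prime (algebraMap (Localization.AtPrime (q.comap (algebraMap R R'))) T₀
        (algebraMap R (Localization.AtPrime (q.comap (algebraMap R R'))) Δ)))
    (T : Type u) [CommRing T] [IsLocalRing T] [Algebra (Localization.AtPrime q) T]
    [IsLocalHom (algebraMap (Localization.AtPrime q) T)]
    [Hensel.IsStrictHenselization (Localization.AtPrime q) T] :
    Prime (algebraMap (Localization.AtPrime q) T
      (algebraMap R' (Localization.AtPrime q) (algebraMap R R' Δ))) := by
  classical
  let p : Ideal R := q.comap (algebraMap R R')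
  haveI : p.IsPrime := Ideal.comap_isPrime _ _
  haveI : q.LiesOver p := ⟨rfl⟩
  let Rp := Localization.AtPrime p
  let Rq := Localization.AtPrime q
  obtain ⟨Rh, _, _, _, _, hRh⟩ := Branch.exists_isStrictHenselization Rp
  haveI := hRh
  have hΔh : Prime (algebraMap Rp Rh (algebraMap R Rp Δ)) := hL Rh
  -- algebra structures
  letI : Algebra R Rh := ((algebraMap Rp Rh).comp (algebraMap R Rp)).toAlgebra
  haveI : IsScalarTower R Rp Rh := IsScalarTower.of_algebraMap_eq (fun _ => rfl)
  letI : Algebra R' T := ((algebraMap Rq T).comp (algebraMap R' Rq)).toAlgebra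
  haveI : IsScalarTower R' Rq T := IsScalarTower.of_algebraMap_eq (fun _ => rfl)
  letI : Algebra R T := ((algebraMap R' T).comp (algebraMap R R')).toAlgebra
  haveI : IsScalarTower R R' T := IsScalarTower.of_algebraMap_eq (fun _ => rfl)
  letI : Algebra Rp Rq := (Localization.localRingHom p q (algebraMap R R') rfl).toAlgebra
  haveI : IsLocalHom (algebraMap Rp Rq) :=
    Localization.isLocalHom_localRingHom p q (algebraMap R R') rfl
  letI : Algebra Rp T := ((algebraMap Rq T).comp (algebraMap Rp Rq)).toAlgebra
  haveI : IsScalarTower Rp Rq T := IsScalarTower.of_algebraMap_eq (fun _ => rfl)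
  obtain ⟨g, hg⟩ := ShTensor.exists_map (A := Rp) (B := Rq) (S := Rh) (T := T)
  letI : Algebra Rh T := g.toRingHom.toAlgebra
  haveI : IsLocalHom (algebraMap Rh T) := hg
  have hRT : ∀ r : R, algebraMap R T r = algebraMap Rh T (algebraMap R Rh r) := by
    intro r
    change algebraMap Rq T (algebraMap R' Rq (algebraMap R R' r)) =
      g (algebraMap Rp Rh (algebraMap R Rp r))
    rw [g.commutes]
    change _ = algebraMap Rq T (Localization.localRingHom p q (algebraMap R R') rfl
      (algebraMap R Rp r))
    rw [Localization.localRingHom_to_map]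
  haveI : IsScalarTower R Rh T := IsScalarTower.of_algebraMap_eq hRT
  -- `T` is a strict henselization of `(Rh ⊗[R] R')_Q`
  have hsh := ShTensor2.isStrictHenselization R p Rh R' q T
  letI : Algebra (Localization.AtPrime (HzTensor.Q R R' Rh T)) T :=
    (HzTensor.phiL R R' Rh T).toAlgebra
  haveI : IsLocalHom (algebraMap (Localization.AtPrime (HzTensor.Q R R' Rh T)) T) :=
    HzTensor.isLocalHom_phiL
  haveI : Hensel.IsStrictHenselization (Localization.AtPrime (HzTensor.Q R R' Rh T)) T := hsh
  -- apply the core lemma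
  haveI : IsNoetherianRing Rh := HzP.sh_isNoetherianRing Rp Rh
  haveI : HenselianLocalRing Rh := Hensel.IsStrictHenselization.henselian (R := Rp)
  haveI : IsSepClosed (ResidueField Rh) :=
    (Hensel.IsStrictHenselization.isSepClosure (R := Rp) (S := Rh)).sep_closed
  have hQ : (maximalIdeal Rh).map (algebraMap Rh (Rh ⊗[R] R')) ≤ HzTensor.Q R R' Rh T := by
    rw [Ideal.map_le_iff_le_comap]
    intro x hx
    change HzTensor.phi R R' Rh T (algebraMap Rh (Rh ⊗[R] R') x) ∈ maximalIdeal T
    have h1 : HzTensor.phi R R' Rh T (algebraMap Rh (Rh ⊗[R] R') x) = algebraMap Rh T x := by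
      simp [HzTensor.phi, Algebra.TensorProduct.algebraMap_apply]
    rw [h1]
    exact (mem_maximalIdeal _).mpr
      (fun hu => ((mem_maximalIdeal x).mp hx) (isUnit_of_map_unit (algebraMap Rh T) x hu))
  have hcore := prime_in_sh_of_smooth Rh (algebraMap Rp Rh (algebraMap R Rp Δ)) hΔh
    (Rh ⊗[R] R') (HzTensor.Q R R' Rh T) hQ T
  have heq : algebraMap (Localization.AtPrime (HzTensor.Q R R' Rh T)) T
      (algebraMap (Rh ⊗[R] R') (Localization.AtPrime (HzTensor.Q R R' Rh T))
        (algebraMap Rh (Rh ⊗[R] R') (algebraMap Rp Rh (algebraMap R Rp Δ)))) =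
      algebraMap Rq T (algebraMap R' Rq (algebraMap R R' Δ)) := by
    change HzTensor.phiL R R' Rh T (algebraMap (Rh ⊗[R] R') _ _) = _
    rw [HzTensor.phiL_algebraMap]
    have h1 : HzTensor.phi R R' Rh T
        (algebraMap Rh (Rh ⊗[R] R') (algebraMap Rp Rh (algebraMap R Rp Δ))) =
        algebraMap Rh T (algebraMap Rp Rh (algebraMap R Rp Δ)) := by
      simp [HzTensor.phi, Algebra.TensorProduct.algebraMap_apply]
    rw [h1]
    exact (hRT Δ).symm
  rw [heq] at hcore
  exact hcore

end Groth.Agent.Lib.T2H3.EtUnivPrime
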