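import Mathlib
import Groth.Agent.Lib.Helper10CurveFlat
import Groth.Agent.Lib.Helper6SmRegSch
import Groth.Agent.Lib.Helper28Catenary

/-!
# Generic étaleness of morphisms of smooth curves (T2H3)

Ring-level and scheme-level helpers for S6554.
-/

set_option autoImplicit false
universe u
open CategoryTheory CategoryTheory.Limits AlgebraicGeometry TopologicalSpace

namespace Groth.Agent.Lib.T2H3.GenEtale

/-- If `L/K` is a separable extension of the fraction fields of `A → B` (with `B` a domain,
essentially of finite type over `A`), then `B_b` is formally unramified over `A` for some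
`b ≠ 0`. -/
theorem exists_away_formallyUnramified (A B K L : Type u) [CommRing A] [CommRing B] [IsDomain B]
    [Algebra A B] [Algebra.EssFiniteType A B] [Field K] [Field L] [Algebra A K]
    [IsFractionRing A K] [Algebra B L] [IsFractionRing B L] [Algebra K L] [Algebra A L]
    [IsScalarTower A K L] [IsScalarTower A B L] [Algebra.IsSeparable K L] :
    ∃ b : B, b ≠ 0 ∧ Algebra.FormallyUnramified A (Localization.Away b) := by
  have h1 : Algebra.FormallyUnramified A K :=
    Algebra.FormallyUnramified.of_isLocalization (nonZeroDivisors A)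
  have h2 : Algebra.FormallyUnramified K L := Algebra.FormallyUnramified.of_isSeparable K L
  have h3 : Algebra.FormallyUnramified A L := Algebra.FormallyUnramified.comp A K L
  have : IsLocalization (nonZeroDivisors B) (Localization.AtPrime (⊥ : Ideal B)) := by
    rw [← Ideal.primeCompl_bot]
    exact Localization.isLocalization
  let e : L ≃ₐ[B] Localization.AtPrime (⊥ : Ideal B) :=
    IsLocalization.algEquiv (nonZeroDivisors B) L (Localization.AtPrime (⊥ : Ideal B))
  have : Algebra.IsUnramifiedAt A (⊥ : Ideal B) :=
    Algebra.FormallyUnramified.of_equiv (e.restrictScalars A)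
  obtain ⟨b, hb, H⟩ := Algebra.exists_formallyUnramified_of_isUnramifiedAt (R := A)
    (⊥ : Ideal B)
  exact ⟨b, fun h => hb (by simp [h]), H⟩

/-- A dominant morphism from an integral scheme to a smooth curve is flat. -/
theorem flat_of_generic (k : Type u) [Field k] (X Y : Scheme.{u})
    (q : Y ⟶ Spec (CommRingCat.of k)) [IsIntegral X] [IsIntegral Y] [Smooth q]
    (hdY : topologicalKrullDim Y = 1) (f : X ⟶ Y)
    (e : f (genericPoint X) = genericPoint Y) : Flat f := by
  have : IsLocallyNoetherian Y := LocallyOfFiniteType.isLocallyNoetherian q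
  rw [Flat.iff_flat_stalkMap]
  intro x
  have hreg := Groth.Agent.Lib.Helper6.SmRegSch.isRegularLocalRing_stalk_of_smooth_over_field
    k Y q (f x)
  have hN := Groth.Agent.Lib.Helper28.isIntegrallyClosed_of_isRegularLocalRing
    (Y.presheaf.stalk (f x))
  have := Groth.Agent.Lib.Helper10.CurveFlat.isDedekindDomain_stalk Y hdY.le (f x) hN
  exact Groth.Agent.Lib.Helper10.CurveFlat.flat_of_injective_of_isDedekindDomain _
    (Groth.Agent.Lib.Helper10.CurveFlat.stalkMap_injective_of_generic f e x)

/-- If `Γ(Y, V) → Γ(X, U)` is formally unramified for affine opens `U ≤ f⁻¹ V`, then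
`U.ι ≫ f` is formally unramified. -/
theorem formallyUnramified_ι_comp_of_appLE {X Y : Scheme.{u}} (f : X ⟶ Y) (V : Y.Opens)
    (hV : IsAffineOpen V) (U : X.Opens) (hU : IsAffineOpen U) (e : U ≤ f ⁻¹ᵁ V)
    (h : (f.appLE V U e).hom.FormallyUnramified) : FormallyUnramified (U.ι ≫ f) := by
  have : IsAffine U := hU
  have : IsAffine V := hV
  have h1 : FormallyUnramified (f.resLE V U e) := by
    rw [HasRingHomProperty.iff_of_isAffine (P := @FormallyUnramified)]
    have : (RingHom.toMorphismProperty RingHom.FormallyUnramified).RespectsIso :=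
      RingHom.toMorphismProperty_respectsIso_iff.mp RingHom.FormallyUnramified.respectsIso
    exact (MorphismProperty.arrow_mk_iso_iff
      (RingHom.toMorphismProperty RingHom.FormallyUnramified) (arrowResLEAppIso f V U e)).mpr h
  rw [← Scheme.Hom.resLE_comp_ι f e]
  exact MorphismProperty.comp_mem _ _ _ h1 inferInstance

/-- If `g ≫ f` is formally unramified with `g` an open immersion, the stalk maps of `f` at points
in the image of `g` are formally unramified. -/
theorem stalkMap_formallyUnramified_of_comp {Z X Y : Scheme.{u}} (g : Z ⟶ X) [IsOpenImmersion g]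
    (f : X ⟶ Y) [FormallyUnramified (g ≫ f)] (z : Z) :
    (f.stalkMap (g z)).hom.FormallyUnramified := by
  have h := FormallyUnramified.stalkMap (g ≫ f) z
  have h2 : (f.stalkMap (g z) ≫ g.stalkMap z).hom.FormallyUnramified := by
    have h3 := Scheme.Hom.stalkMap_comp g f z
    exact h3 ▸ h
  rwa [CommRingCat.hom_comp, RingHom.FormallyUnramified.respectsIso.cancel_right_isIso] at h2

end Groth.Agent.Lib.T2H3.GenEtale
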