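import Mathlib
import Groth.Agent.Lib.T2H3GenEtale

/-!
# Spreading out unramifiedness from a stalk (T2H3)
-/

set_option autoImplicit false
set_option linter.style.haveILetI false
universe u
open CategoryTheory CategoryTheory.Limits AlgebraicGeometry TopologicalSpace

namespace Groth.Agent.Lib.T2H3.EtaleAt

/-- If `Γ(Y, V) → Γ(X, W)_b` is formally unramified, then `D(b) → Y` is formally unramified. -/
theorem formallyUnramified_basicOpen_ι_comp {X Y : Scheme.{u}} (φ : X ⟶ Y) (V : Y.Opens)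
    (hV : IsAffineOpen V) (W : X.Opens) (hW : IsAffineOpen W) (hWV : W ≤ φ ⁻¹ᵁ V) (b : Γ(X, W))
    (H : letI : Algebra Γ(Y, V) Γ(X, W) := (φ.appLE V W hWV).hom.toAlgebra
      Algebra.FormallyUnramified Γ(Y, V) (Localization.Away b)) :
    FormallyUnramified ((X.basicOpen b).ι ≫ φ) := by
  letI algAB : Algebra Γ(Y, V) Γ(X, W) := (φ.appLE V W hWV).hom.toAlgebra
  apply Groth.Agent.Lib.T2H3.GenEtale.formallyUnramified_ι_comp_of_appLE φ V hV
    (X.basicOpen b) (hW.basicOpen b) ((X.basicOpen_le b).trans hWV)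
  rw [← φ.appLE_map hWV (homOfLE (X.basicOpen_le b)).op, CommRingCat.hom_comp]
  haveI : IsLocalization.Away b Γ(X, X.basicOpen b) := hW.isLocalization_basicOpen b
  letI : Algebra Γ(Y, V) Γ(X, X.basicOpen b) :=
    ((algebraMap Γ(X, W) Γ(X, X.basicOpen b)).comp (algebraMap Γ(Y, V) Γ(X, W))).toAlgebra
  haveI : IsScalarTower Γ(Y, V) Γ(X, W) Γ(X, X.basicOpen b) :=
    IsScalarTower.of_algebraMap_eq' rfl
  let e' : Localization.Away b ≃ₐ[Γ(X, W)] Γ(X, X.basicOpen b) :=
    IsLocalization.algEquiv (Submonoid.powers b) _ _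
  have hfin' : Algebra.FormallyUnramified Γ(Y, V) Γ(X, X.basicOpen b) :=
    Algebra.FormallyUnramified.of_equiv (e'.restrictScalars Γ(Y, V))
  exact hfin'

/-- If the stalk map of a morphism locally of finite type is formally unramified at `x`, the
morphism is formally unramified on an open neighbourhood of `x`. -/
theorem exists_open_formallyUnramified_of_stalkMap {X Y : Scheme.{u}} (φ : X ⟶ Y)
    [LocallyOfFiniteType φ] (x : X) (h : (φ.stalkMap x).hom.FormallyUnramified) :
    ∃ U : X.Opens, x ∈ U ∧ FormallyUnramified (U.ι ≫ φ) := by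
  obtain ⟨V, hV, hyV, -⟩ := exists_isAffineOpen_mem_and_subset (X := Y) (x := φ x) (U := ⊤)
    trivial
  obtain ⟨W, hW, hxW, hWV⟩ := exists_isAffineOpen_mem_and_subset (X := X) (x := x)
    (U := φ ⁻¹ᵁ V) hyV
  letI algAB : Algebra Γ(Y, V) Γ(X, W) := (φ.appLE V W hWV).hom.toAlgebra
  letI algBS : Algebra Γ(X, W) (X.presheaf.stalk x) :=
    X.presheaf.algebra_section_stalk ⟨x, hxW⟩
  letI algAT : Algebra Γ(Y, V) (Y.presheaf.stalk (φ x)) :=
    Y.presheaf.algebra_section_stalk ⟨φ x, hyV⟩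
  letI algTS : Algebra (Y.presheaf.stalk (φ x)) (X.presheaf.stalk x) :=
    (φ.stalkMap x).hom.toAlgebra
  letI algAS : Algebra Γ(Y, V) (X.presheaf.stalk x) :=
    ((algebraMap Γ(X, W) (X.presheaf.stalk x)).comp (algebraMap Γ(Y, V) Γ(X, W))).toAlgebra
  haveI : IsScalarTower Γ(Y, V) Γ(X, W) (X.presheaf.stalk x) :=
    IsScalarTower.of_algebraMap_eq' rfl
  haveI : IsScalarTower Γ(Y, V) (Y.presheaf.stalk (φ x)) (X.presheaf.stalk x) := by
    apply IsScalarTower.of_algebraMap_eq'
    have hcompat : Y.presheaf.germ V (φ x) hyV ≫ φ.stalkMap x =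
        φ.appLE V W hWV ≫ X.presheaf.germ W x hxW := by
      rw [Scheme.Hom.germ_stalkMap, Scheme.Hom.appLE, Category.assoc, X.presheaf.germ_res]
    exact (congrArg CommRingCat.Hom.hom hcompat).symm
  haveI hlocS : IsLocalization.AtPrime (X.presheaf.stalk x)
      (hW.primeIdealOf ⟨x, hxW⟩).asIdeal := hW.isLocalization_stalk ⟨x, hxW⟩
  haveI hlocT : IsLocalization.AtPrime (Y.presheaf.stalk (φ x))
      (hV.primeIdealOf ⟨φ x, hyV⟩).asIdeal := hV.isLocalization_stalk ⟨φ x, hyV⟩
  have h1 : Algebra.FormallyUnramified Γ(Y, V) (Y.presheaf.stalk (φ x)) :=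
    Algebra.FormallyUnramified.of_isLocalization (hV.primeIdealOf ⟨φ x, hyV⟩).asIdeal.primeCompl
  have h2 : Algebra.FormallyUnramified (Y.presheaf.stalk (φ x)) (X.presheaf.stalk x) := h
  have h3 : Algebra.FormallyUnramified Γ(Y, V) (X.presheaf.stalk x) :=
    Algebra.FormallyUnramified.comp _ (Y.presheaf.stalk (φ x)) _
  let e : X.presheaf.stalk x ≃ₐ[Γ(X, W)]
      Localization.AtPrime (hW.primeIdealOf ⟨x, hxW⟩).asIdeal :=
    IsLocalization.algEquiv (hW.primeIdealOf ⟨x, hxW⟩).asIdeal.primeCompl _ _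
  haveI : Algebra.IsUnramifiedAt Γ(Y, V) (hW.primeIdealOf ⟨x, hxW⟩).asIdeal :=
    Algebra.FormallyUnramified.of_equiv (e.restrictScalars Γ(Y, V))
  haveI : Algebra.FiniteType Γ(Y, V) Γ(X, W) :=
    HasRingHomProperty.appLE (P := @LocallyOfFiniteType) φ inferInstance ⟨V, hV⟩ ⟨W, hW⟩ hWV
  obtain ⟨b, hb, H⟩ := Algebra.exists_formallyUnramified_of_isUnramifiedAt (R := Γ(Y, V))
    (hW.primeIdealOf ⟨x, hxW⟩).asIdeal
  refine ⟨X.basicOpen b, ?_, formallyUnramified_basicOpen_ι_comp φ V hV W hW hWV b H⟩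
  have h4 : hW.primeIdealOf ⟨x, hxW⟩ ∈ hW.fromSpec ⁻¹ᵁ X.basicOpen b := by
    rw [hW.fromSpec_preimage_basicOpen]
    exact hb
  have h5 := hW.fromSpec_primeIdealOf ⟨x, hxW⟩
  change hW.fromSpec (hW.primeIdealOf ⟨x, hxW⟩) ∈ X.basicOpen b at h4
  rwa [h5] at h4

/-- Over an algebraically closed field, the residue field extension at a closed point of the
source is surjective. -/
theorem residueFieldMap_surjective (k : Type u) [Field k] [IsAlgClosed k] {X Y : Scheme.{u}}
    (pX : X ⟶ Spec (CommRingCat.of k)) (pY : Y ⟶ Spec (CommRingCat.of k)) (φ : X ⟶ Y)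
    (w : φ ≫ pY = pX) [LocallyOfFiniteType pX] (x : X) (hx : IsClosed ({x} : Set X)) :
    Function.Surjective (φ.residueFieldMap x).hom := by
  let i := residueFieldIsoBase pX x hx
  have h1 : Spec.map i.inv = X.fromSpecResidueField x ≫ pX :=
    SpecMap_residueFieldIsoBase_inv pX x hx
  let j := Spec.preimage (Y.fromSpecResidueField (φ x) ≫ pY)
  have h2 : i.inv = j ≫ φ.residueFieldMap x := by
    apply Spec.map_injective
    rw [h1, Spec.map_comp, Spec.map_preimage, ← Category.assoc,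
      Scheme.Hom.SpecMap_residueFieldMap_fromSpecResidueField, Category.assoc, w]
  intro z
  refine ⟨j (i.hom z), ?_⟩
  have h3 : (j ≫ φ.residueFieldMap x) (i.hom z) = z := by
    rw [← h2]
    exact CategoryTheory.Iso.hom_inv_id_apply i z
  exact h3

/-- If the maximal ideal of `O_{Y,φ x}` generates that of `O_{X,x}` and `x` is not the generic
point, then `φ` is dominant (`Y` of dimension at most one). -/
theorem map_genericPoint_of_map_maximalIdeal {X Y : Scheme.{u}} [IsIntegral X] [IsIntegral Y]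
    (hdY : topologicalKrullDim Y ≤ 1) (φ : X ⟶ Y) (x : X) (hx : x ≠ genericPoint X)
    (h : Ideal.map (φ.stalkMap x).hom (IsLocalRing.maximalIdeal (Y.presheaf.stalk (φ x))) =
      IsLocalRing.maximalIdeal (X.presheaf.stalk x)) :
    φ (genericPoint X) = genericPoint Y := by
  by_contra hne
  have hnn : ¬ (Set.range φ.base).Nontrivial := fun hnc =>
    hne (Groth.Agent.Lib.Helper10.CurveFlat.map_genericPoint hdY φ hnc)
  rw [Set.not_nontrivial_iff] at hnn
  have hconst : φ (genericPoint X) = φ x := hnn ⟨_, rfl⟩ ⟨_, rfl⟩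
  have hξx : genericPoint X ⤳ x := genericPoint_specializes x
  have hiso : IsIso (Y.presheaf.stalkSpecializes (φ.base.hom.map_specializes hξx)) :=
    (Y.presheaf.stalkCongr (Inseparable.of_eq hconst.symm)).isIso_hom
  have hzero : ∀ s ∈ IsLocalRing.maximalIdeal (Y.presheaf.stalk (φ x)),
      (φ.stalkMap x).hom s = 0 := by
    intro s hs
    apply Groth.Agent.Lib.Helper10.CurveFlat.stalkSpecializes_injective hξx
    rw [map_zero]
    have h3 := Scheme.Hom.stalkSpecializes_stalkMap_apply φ _ _ hξx s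
    refine Eq.trans ?_ (h3.symm.trans ?_)
    · rfl
    · set t := (Y.presheaf.stalkSpecializes (φ.base.hom.map_specializes hξx)).hom s with ht
      have htn : ¬ IsUnit t := by
        intro htu
        have : IsLocalHom (Y.presheaf.stalkSpecializes (φ.base.hom.map_specializes hξx)).hom :=
          isLocalHom_of_isIso _
        exact hs (isUnit_of_map_unit
          (Y.presheaf.stalkSpecializes (φ.base.hom.map_specializes hξx)).hom s htu)
      have htn' : ¬ IsUnit ((φ.stalkMap (genericPoint X)).hom t) := fun hu =>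
        htn (isUnit_of_map_unit (φ.stalkMap (genericPoint X)).hom t hu)
      by_contra hne0
      exact htn' ((isUnit_iff_ne_zero (G₀ := X.functionField)).mpr hne0)
  have hbot : IsLocalRing.maximalIdeal (X.presheaf.stalk x) = ⊥ := by
    rw [← h, Ideal.map_eq_bot_iff_le_ker]
    intro s hs
    exact hzero s hs
  have hfx : IsField (X.presheaf.stalk x) := IsLocalRing.isField_iff_maximalIdeal_eq.mpr hbot
  apply hx
  have hmem : genericPoint X ∈ Set.range (X.fromSpecStalk x) := by
    rw [Scheme.range_fromSpecStalk]; exact hξx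
  obtain ⟨q, hq⟩ := hmem
  have hq' : q = IsLocalRing.closedPoint (X.presheaf.stalk x) := by
    apply PrimeSpectrum.ext
    have h1 : q.asIdeal ≤ IsLocalRing.maximalIdeal _ :=
      IsLocalRing.le_maximalIdeal q.isPrime.ne_top
    rw [hbot, le_bot_iff] at h1
    rw [h1]
    exact hbot.symm
  rw [← hq, hq']
  exact Scheme.fromSpecStalk_closedPoint.symm

end Groth.Agent.Lib.T2H3.EtaleAt
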