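import Mathlib

/-!
# Consequences of the translation pullback square of an exact sequence of group objects
-/

set_option autoImplicit false
set_option linter.unusedSectionVars false
universe v u

namespace Groth.Agent.Lib.T2H3.ExactGrp

open CategoryTheory MonoidalCategory CartesianMonoidalCategory MonObj GrpObj Limits

variable {C : Type u} [Category.{v} C] [CartesianMonoidalCategory C]
  {G' G G'' : C} [GrpObj G'] [GrpObj G] [GrpObj G'']

theorem lift_whiskerLeft_mul {T : C} (s : T ⟶ G) (g' : T ⟶ G') (u : G' ⟶ G) :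
    lift s g' ≫ (G ◁ u) ≫ μ[G] = s * (g' ≫ u) := by
  rw [Hom.mul_def, ← Category.assoc]
  congr 1
  ext <;> simp

variable {u : G' ⟶ G} {v : G ⟶ G''} (hpb : IsPullback (fst G G') ((G ◁ u) ≫ μ[G]) v v)

include hpb

theorem exists_translate {T : C} (s t : T ⟶ G) (h : s ≫ v = t ≫ v) :
    ∃ g' : T ⟶ G', t = s * (g' ≫ u) := by
  refine ⟨hpb.lift s t h ≫ snd G G', ?_⟩
  have h1 : hpb.lift s t h = lift s (hpb.lift s t h ≫ snd G G') := by
    ext
    · simp
    · simp
  have h2 := hpb.lift_snd s t h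
  rw [h1, lift_whiskerLeft_mul] at h2
  exact h2.symm

theorem translate_cancel {T : C} (s : T ⟶ G) (g₁ g₂ : T ⟶ G')
    (h : s * (g₁ ≫ u) = s * (g₂ ≫ u)) : g₁ = g₂ := by
  have h1 : lift s g₁ = lift s g₂ := by
    apply hpb.hom_ext
    · simp
    · rw [lift_whiskerLeft_mul, lift_whiskerLeft_mul, h]
  have := congrArg (· ≫ snd G G') h1
  simpa using this

theorem mono_u : Mono u := by
  constructor
  intro T a b hab
  apply translate_cancel hpb (1 : T ⟶ G)
  rw [hab]

theorem exists_kernel_lift [IsMonHom v] {T : C} (w : T ⟶ G) (hw : w ≫ v = 1) :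
    ∃ c : T ⟶ G', c ≫ u = w := by
  obtain ⟨g', hg'⟩ := exists_translate hpb (1 : T ⟶ G) w (by rw [MonObj.one_comp, hw])
  exact ⟨g', by rw [hg', _root_.one_mul]⟩

end Groth.Agent.Lib.T2H3.ExactGrp
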