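import Mathlib
import Groth.Prelude.Def_NonAbH2
import Groth.Agent.Lib.T2H3ExactGrp

/-!
# Descent of morphisms along covering morphisms of `S`-schemes (subcanonical topologies)
-/

set_option autoImplicit false
set_option linter.style.haveILetI false
universe u

namespace Groth.Agent.Lib.T2H3.ExactDescent

open CategoryTheory MonoidalCategory CartesianMonoidalCategory MonObj GrpObj AlgebraicGeometry Limits

variable {S : Scheme.{u}} (J : GrothendieckTopology Scheme.{u})

/-- `f` is a covering morphism: the sieve it generates is a covering sieve. -/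
def IsCov {A B : Over S} (f : A ⟶ B) : Prop :=
  Sieve.generate (Presieve.singleton f.left) ∈ J B.left

variable {J}

theorem isCov_id (W : Over S) : IsCov J (𝟙 W) := by
  unfold IsCov
  have : Sieve.generate (Presieve.singleton (𝟙 W : W ⟶ W).left) = ⊤ := by
    rw [Sieve.generate_of_singleton_isSplitEpi]
  rw [this]
  exact J.top_mem _

theorem IsCov.tensorHom {A B A' B' : Over S} {f : A ⟶ B} {g : A' ⟶ B'} (hf : IsCov J f)
    (hg : IsCov J g) : IsCov J (f ⊗ₘ g) := by
  unfold IsCov at hf hg ⊢
  refine J.superset_covering ?_ (J.intersection_covering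
    (J.pullback_stable (fst B B').left hf) (J.pullback_stable (snd B B').left hg))
  rintro T' h ⟨⟨Y, k, _, ⟨⟩, hk⟩, ⟨Y', k', _, ⟨⟩, hk'⟩⟩
  let T : Over S := Over.mk (h ≫ (B ⊗ B').hom)
  let hO : T ⟶ B ⊗ B' := Over.homMk h rfl
  let kO : T ⟶ A := Over.homMk k (by
    have := Over.w f
    have h2 := Over.w (fst B B')
    simp only [T, Over.mk_hom]
    rw [← this, ← Category.assoc, hk, Category.assoc, h2])
  let kO' : T ⟶ A' := Over.homMk k' (by
    have := Over.w g
    have h2 := Over.w (snd B B')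
    simp only [T, Over.mk_hom]
    rw [← this, ← Category.assoc, hk', Category.assoc, h2])
  have key : hO = lift kO kO' ≫ (f ⊗ₘ g) := by
    apply CartesianMonoidalCategory.hom_ext
    · rw [Category.assoc, tensorHom_fst, lift_fst_assoc]
      ext1
      exact hk.symm
    · rw [Category.assoc, tensorHom_snd, lift_snd_assoc]
      ext1
      exact hk'.symm
  refine ⟨_, (lift kO kO').left, (f ⊗ₘ g).left, ⟨⟩, ?_⟩
  rw [← Over.comp_left, ← key]
  rfl

theorem IsCov.whiskerRight {A B : Over S} {f : A ⟶ B} (hf : IsCov J f) (W : Over S) :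
    IsCov J (f ▷ W) := by
  rw [← tensorHom_id]
  exact hf.tensorHom (isCov_id W)

variable [J.Subcanonical]

theorem IsCov.effectiveEpi {A B : Over S} {f : A ⟶ B} (hf : IsCov J f) : EffectiveEpi f.left := by
  rw [← Sieve.effectiveEpimorphic_singleton,
    Presieve.EffectiveEpimorphic.iff_forall_isSheafFor_yoneda]
  intro Z
  exact (GrothendieckTopology.Subcanonical.isSheaf_of_isRepresentable _).isSheafFor _ hf

theorem IsCov.epi {A B : Over S} {f : A ⟶ B} (hf : IsCov J f) : Epi f := by
  haveI := hf.effectiveEpi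
  haveI : Epi f.left := inferInstance
  exact Over.epi_of_epi_left f

theorem IsCov.exists_desc {A B Z : Over S} {f : A ⟶ B} (hf : IsCov J f) (φ : A ⟶ Z)
    (h : ∀ (T : Over S) (a b : T ⟶ A), a ≫ f = b ≫ f → a ≫ φ = b ≫ φ) :
    ∃ ψ : B ⟶ Z, f ≫ ψ = φ := by
  haveI := hf.effectiveEpi
  have h' : ∀ {T' : Scheme.{u}} (a b : T' ⟶ A.left), a ≫ f.left = b ≫ f.left →
      a ≫ φ.left = b ≫ φ.left := by
    intro T' a b hab
    have hb : b ≫ A.hom = a ≫ A.hom := by
      rw [← Over.w f, ← Category.assoc, ← hab, Category.assoc]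
    have := h (Over.mk (a ≫ A.hom)) (Over.homMk a rfl) (Over.homMk b hb) (by
      ext1
      exact hab)
    exact congrArg (fun m => m.left) this
  refine ⟨Over.homMk (EffectiveEpi.desc f.left φ.left h') ?_, ?_⟩
  · rw [← cancel_epi f.left, EffectiveEpi.fac_assoc, Over.w φ, Over.w f]
  · ext1
    exact EffectiveEpi.fac f.left φ.left h'

omit [J.Subcanonical] in
theorem isCov_of_isLocallyTrivialFor {K : Precoverage Scheme.{u}} (hK : K.toGrothendieck ≤ J)
    {A B : Over S} (f : A ⟶ B) (h : NonAbH1.IsLocallyTrivialFor K (Over.mk f.left : Over B.left)) :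
    IsCov J f := by
  obtain ⟨R, hR, hsec⟩ := h
  refine J.superset_covering ?_ (hK _ (Precoverage.generate_mem_toGrothendieck hR))
  rintro T' m ⟨Y, k, g, hg, rfl⟩
  obtain ⟨s, hs⟩ := hsec g hg
  exact ⟨_, k ≫ s, f.left, ⟨⟩, by rw [Category.assoc]; congr 1⟩

end Groth.Agent.Lib.T2H3.ExactDescent
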