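import Mathlib
import Groth.Prelude.Def_NonAbH2
import Groth.Agent.Lib.T2H3ExactDescent

/-!
# Morphisms of rigidified bitorsors between extensions are homomorphisms
-/

set_option autoImplicit false
set_option linter.style.haveILetI false
set_option linter.unusedSectionVars false
universe u

namespace Groth.Agent.Lib.T2H3.ExactBitorsor

open CategoryTheory MonoidalCategory CartesianMonoidalCategory MonObj GrpObj AlgebraicGeometry Limits
open Groth.Agent.Lib.T2H3.ExactDescent Groth.Agent.Lib.T2H3.ExactGrp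

variable {S : Scheme.{u}} {J : GrothendieckTopology Scheme.{u}} [J.Subcanonical]
  {P G E E' : Over S} [GrpObj P] [GrpObj G] [GrpObj E] [GrpObj E']
  {u : G ⟶ E} {v : E ⟶ P} [IsMonHom u] [IsMonHom v]
  {u' : G ⟶ E'} {v' : E' ⟶ P} [IsMonHom u'] [IsMonHom v']

theorem isMonHom_of_bitorsor
    (huv : u ≫ v = 1) (hpb : IsPullback (fst E G) ((E ◁ u) ≫ μ[E]) v v) (hcov : IsCov J v)
    (hpb' : IsPullback (fst E' G) ((E' ◁ u') ≫ μ[E']) v' v')
    (hPP : ∀ c : P ⊗ P ⟶ G, lift (𝟙 P) (toUnit P ≫ η[P]) ≫ c = 1 →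
      lift (toUnit P ≫ η[P]) (𝟙 P) ≫ c = 1 → c = 1)
    (f : E ⟶ E') (hv : f ≫ v' = v) (h1 : η[E] ≫ f = η[E'])
    (hl : ∀ (T : Over S) (g : T ⟶ G) (x : T ⟶ E), ((g ≫ u) * x) ≫ f = (g ≫ u') * (x ≫ f))
    (hr : ∀ (T : Over S) (g : T ⟶ G) (x : T ⟶ E), (x * (g ≫ u)) ≫ f = (x ≫ f) * (g ≫ u')) :
    IsMonHom f := by
  haveI := mono_u hpb'
  have hone : ∀ T : Over S, (1 : T ⟶ E) ≫ f = 1 := by
    intro T
    rw [Hom.one_def, Category.assoc, h1, ← Hom.one_def]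
  let δ : E ⊗ E ⟶ E' := (fst E E ≫ f)⁻¹ * (μ[E] ≫ f) * (snd E E ≫ f)⁻¹
  have hδ_pt : ∀ (T : Over S) (x y : T ⟶ E),
      lift x y ≫ δ = (x ≫ f)⁻¹ * ((x * y) ≫ f) * (y ≫ f)⁻¹ := by
    intro T x y
    simp only [δ, MonObj.comp_mul, GrpObj.comp_inv, lift_fst_assoc, lift_snd_assoc]
    rw [← Category.assoc, ← Hom.mul_def]
  have hδv : δ ≫ v' = 1 := by
    have hμ : μ[E] = fst E E * snd E E := by
      rw [Hom.mul_def, lift_fst_snd, Category.id_comp]
    simp only [δ, MonObj.mul_comp, GrpObj.inv_comp, Category.assoc, hv]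
    rw [hμ, MonObj.mul_comp]
    group
  obtain ⟨c, hc⟩ := exists_kernel_lift hpb' δ hδv
  have hdesc : ∀ (T : Over S) (a b : T ⟶ E ⊗ E), a ≫ (v ⊗ₘ v) = b ≫ (v ⊗ₘ v) →
      a ≫ c = b ≫ c := by
    intro T a b hab
    obtain ⟨x, y, rfl⟩ : ∃ x y, a = lift x y :=
      ⟨a ≫ fst E E, a ≫ snd E E, by ext <;> simp⟩
    obtain ⟨x', y', rfl⟩ : ∃ x' y', b = lift x' y' :=
      ⟨b ≫ fst E E, b ≫ snd E E, by ext <;> simp⟩
    have e1 : x ≫ v = x' ≫ v := by
      have := congrArg (· ≫ fst P P) hab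
      simpa using this
    have e2 : y ≫ v = y' ≫ v := by
      have := congrArg (· ≫ snd P P) hab
      simpa using this
    obtain ⟨h, hh⟩ := exists_translate hpb _ _ e1
    obtain ⟨h', hh'⟩ := exists_translate hpb _ _ e2
    -- turn the right translate of `x` into a left translate
    have hker : (x * (h ≫ u) * x⁻¹) ≫ v = 1 := by
      have : (h ≫ u) ≫ v = 1 := by rw [Category.assoc, huv, MonObj.comp_one]
      rw [MonObj.mul_comp, MonObj.mul_comp, GrpObj.inv_comp, this]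
      group
    obtain ⟨h₁, hh₁⟩ := exists_kernel_lift hpb _ hker
    have hx' : x' = (h₁ ≫ u) * x := by
      rw [hh, hh₁]; group
    rw [← cancel_mono u', Category.assoc, Category.assoc, hc, hδ_pt, hδ_pt, hx', hh']
    have t1 : ((h₁ ≫ u) * x * (y * (h' ≫ u))) ≫ f = (h₁ ≫ u') * ((x * y) ≫ f) * (h' ≫ u') := by
      have : (h₁ ≫ u) * x * (y * (h' ≫ u)) = (h₁ ≫ u) * ((x * y) * (h' ≫ u)) := by group
      rw [this, hl, hr, _root_.mul_assoc]
    rw [t1, hl, hr]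
    group
  obtain ⟨cbar, hcbar⟩ := (hcov.tensorHom hcov).exists_desc c hdesc
  haveI := hcov.epi
  have hax1 : lift (𝟙 P) (toUnit P ≫ η[P]) ≫ cbar = 1 := by
    rw [← cancel_epi v, MonObj.comp_one]
    have : v ≫ lift (𝟙 P) (toUnit P ≫ η[P]) = lift (𝟙 E) (toUnit E ≫ η[E]) ≫ (v ⊗ₘ v) := by
      ext
      · simp
      · simp [IsMonHom.one_hom]
    rw [← Category.assoc, this, Category.assoc, hcbar, ← cancel_mono u', Category.assoc, hc,
      hδ_pt, MonObj.one_comp, ← Hom.one_def, hone, _root_.mul_one]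
    group
  have hax2 : lift (toUnit P ≫ η[P]) (𝟙 P) ≫ cbar = 1 := by
    rw [← cancel_epi v, MonObj.comp_one]
    have : v ≫ lift (toUnit P ≫ η[P]) (𝟙 P) = lift (toUnit E ≫ η[E]) (𝟙 E) ≫ (v ⊗ₘ v) := by
      ext
      · simp [IsMonHom.one_hom]
      · simp
    rw [← Category.assoc, this, Category.assoc, hcbar, ← cancel_mono u', Category.assoc, hc,
      hδ_pt, MonObj.one_comp, ← Hom.one_def, hone, _root_.one_mul]
    group
  have hcbar1 := hPP cbar hax1 hax2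
  have hδ1 : δ = 1 := by
    rw [← hc, ← hcbar, hcbar1, MonObj.comp_one, MonObj.one_comp]
  refine ⟨h1, ?_⟩
  have h2 : (fst E E ≫ f)⁻¹ * (μ[E] ≫ f) * (snd E E ≫ f)⁻¹ = 1 := hδ1
  have h3 : μ[E] ≫ f = (fst E E ≫ f) * (snd E E ≫ f) := by
    have : μ[E] ≫ f = (fst E E ≫ f) * ((fst E E ≫ f)⁻¹ * (μ[E] ≫ f) * (snd E E ≫ f)⁻¹) *
        (snd E E ≫ f) := by group
    rw [this, h2, _root_.mul_one]
  rw [h3, Hom.mul_def]
  congr 1

end Groth.Agent.Lib.T2H3.ExactBitorsor
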