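import Mathlib
import Groth.Prelude.Def_NonAbH2
import Groth.Agent.Lib.T2H3ExactDescent

/-!
# Centrality and commutativity of extensions (representable case, subcanonical topology)
-/

set_option autoImplicit false
set_option linter.style.haveILetI false
set_option linter.unusedSectionVars false
universe u

namespace Groth.Agent.Lib.T2H3.ExactCentral

open CategoryTheory MonoidalCategory CartesianMonoidalCategory MonObj GrpObj AlgebraicGeometry Limits
open Groth.Agent.Lib.T2H3.ExactDescent Groth.Agent.Lib.T2H3.ExactGrp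

theorem comm_central {Γ : Type*} [Group Γ] (x y z z' : Γ) (hz : ∀ t, z * t = t * z)
    (hz' : ∀ t, z' * t = t * z') :
    (x * z) * (y * z') * (x * z)⁻¹ * (y * z')⁻¹ = x * y * x⁻¹ * y⁻¹ := by
  have h1 : ∀ t, (x * z) * t * (x * z)⁻¹ = x * t * x⁻¹ := by
    intro t
    have : z * t * z⁻¹ = t := by rw [hz t, mul_inv_cancel_right]
    calc (x * z) * t * (x * z)⁻¹ = x * (z * t * z⁻¹) * x⁻¹ := by group
      _ = x * t * x⁻¹ := by rw [this]
  rw [h1]
  have h2 : z' * x⁻¹ * z'⁻¹ = x⁻¹ := by rw [hz' x⁻¹, mul_inv_cancel_right]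
  calc x * (y * z') * x⁻¹ * (y * z')⁻¹ = x * y * (z' * x⁻¹ * z'⁻¹) * y⁻¹ := by group
    _ = x * y * x⁻¹ * y⁻¹ := by rw [h2]

theorem comm_left {Γ : Type*} [Group Γ] (x g h : Γ) (hc : h * g = g * h) :
    (x * h) * g * (x * h)⁻¹ * g⁻¹ = x * g * x⁻¹ * g⁻¹ := by
  have : h * g * h⁻¹ = g := by rw [hc, mul_inv_cancel_right]
  calc (x * h) * g * (x * h)⁻¹ * g⁻¹ = x * (h * g * h⁻¹) * x⁻¹ * g⁻¹ := by group
    _ = x * g * x⁻¹ * g⁻¹ := by rw [this]

variable {S : Scheme.{u}} {J : GrothendieckTopology Scheme.{u}} [J.Subcanonical]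
  {P G E : Over S} [GrpObj P] [GrpObj G] [GrpObj E]
  {u : G ⟶ E} {v : E ⟶ P} [IsMonHom u] [IsMonHom v]
  (huv : u ≫ v = 1) (hpb : IsPullback (fst E G) ((E ◁ u) ≫ μ[E]) v v) (hcov : IsCov J v)

include huv hpb hcov

theorem central [IsCommMonObj G]
    (hPG : ∀ f : P ⊗ G ⟶ G, lift (𝟙 P) (toUnit P ≫ η[G]) ≫ f = 1 →
      lift (toUnit G ≫ η[P]) (𝟙 G) ≫ f = 1 → f = 1)
    (T : Over S) (g : T ⟶ G) (x : T ⟶ E) : (g ≫ u) * x = x * (g ≫ u) := by
  haveI := mono_u hpb
  -- the commutator map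
  let w : E ⊗ G ⟶ E := fst E G * (snd E G ≫ u) * (fst E G)⁻¹ * (snd E G ≫ u)⁻¹
  have hw_pt : ∀ (T : Over S) (x : T ⟶ E) (g : T ⟶ G),
      lift x g ≫ w = x * (g ≫ u) * x⁻¹ * (g ≫ u)⁻¹ := by
    intro T x g
    simp only [w, MonObj.comp_mul, GrpObj.comp_inv, lift_fst, lift_snd_assoc]
  have hwv : w ≫ v = 1 := by
    simp only [w, MonObj.mul_comp, GrpObj.inv_comp, Category.assoc, huv, MonObj.comp_one]
    group
  obtain ⟨c, hc⟩ := exists_kernel_lift hpb w hwv
  have hdesc : ∀ (T : Over S) (a b : T ⟶ E ⊗ G), a ≫ (v ▷ G) = b ≫ (v ▷ G) → a ≫ c = b ≫ c := by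
    intro T a b hab
    have ha : a = lift (a ≫ fst E G) (a ≫ snd E G) := by ext <;> simp
    have hb : b = lift (b ≫ fst E G) (b ≫ snd E G) := by ext <;> simp
    have h1 : (a ≫ fst E G) ≫ v = (b ≫ fst E G) ≫ v := by
      have := congrArg (· ≫ fst P G) hab
      simpa using this
    have h2 : a ≫ snd E G = b ≫ snd E G := by
      have := congrArg (· ≫ snd P G) hab
      simpa using this
    obtain ⟨h, hh⟩ := exists_translate hpb _ _ h1
    rw [← cancel_mono u, Category.assoc, Category.assoc, hc, ha, hb, hw_pt, hw_pt, hh, ← h2]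
    have hcomm : (h ≫ u) * ((a ≫ snd E G) ≫ u) = ((a ≫ snd E G) ≫ u) * (h ≫ u) := by
      rw [← MonObj.mul_comp, ← MonObj.mul_comp, mul_comm]
    exact (comm_left _ _ _ hcomm).symm
  obtain ⟨cbar, hcbar⟩ := (hcov.whiskerRight G).exists_desc c hdesc
  haveI := hcov.epi
  have hax1 : lift (𝟙 P) (toUnit P ≫ η[G]) ≫ cbar = 1 := by
    rw [← cancel_epi v, MonObj.comp_one]
    have : v ≫ lift (𝟙 P) (toUnit P ≫ η[G]) = lift (𝟙 E) (toUnit E ≫ η[G]) ≫ (v ▷ G) := by
      ext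
      · simp
      · simp
    rw [← Category.assoc, this, Category.assoc, hcbar, ← cancel_mono u, Category.assoc, hc,
      hw_pt, MonObj.one_comp, ← Hom.one_def, MonObj.one_comp]
    group
  have hax2 : lift (toUnit G ≫ η[P]) (𝟙 G) ≫ cbar = 1 := by
    have : lift (toUnit G ≫ η[P]) (𝟙 G) = lift (toUnit G ≫ η[E]) (𝟙 G) ≫ (v ▷ G) := by
      ext
      · simp [IsMonHom.one_hom]
      · simp
    rw [this, Category.assoc, hcbar, ← cancel_mono u, Category.assoc, hc,
      hw_pt, MonObj.one_comp, ← Hom.one_def]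
    group
  have hcbar1 := hPG cbar hax1 hax2
  have hw1 : w = 1 := by
    rw [← hc, ← hcbar, hcbar1, MonObj.comp_one, MonObj.one_comp]
  have := hw_pt T x g
  rw [hw1, MonObj.comp_one] at this
  have h3 : x * (g ≫ u) = (g ≫ u) * x := by
    have h4 : x * (g ≫ u) * x⁻¹ * (g ≫ u)⁻¹ * (g ≫ u) * x = (g ≫ u) * x := by
      rw [← this, _root_.one_mul]
    rw [← h4]
    group
  exact h3.symm

theorem commutative [IsCommMonObj P]
    (hcentral : ∀ (T : Over S) (g : T ⟶ G) (x : T ⟶ E), (g ≫ u) * x = x * (g ≫ u))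
    (hPP : ∀ f : P ⊗ P ⟶ G, lift (𝟙 P) (toUnit P ≫ η[P]) ≫ f = 1 →
      lift (toUnit P ≫ η[P]) (𝟙 P) ≫ f = 1 → f = 1) : IsCommMonObj E := by
  haveI := mono_u hpb
  have hwv : GrpObj.commutator E ≫ v = 1 := by
    simp only [GrpObj.commutator, MonObj.mul_comp, GrpObj.inv_comp]
    rw [mul_comm (fst E E ≫ v) (snd E E ≫ v)]
    group
  obtain ⟨c, hc⟩ := exists_kernel_lift hpb (GrpObj.commutator E) hwv
  have hdesc : ∀ (T : Over S) (a b : T ⟶ E ⊗ E), a ≫ (v ⊗ₘ v) = b ≫ (v ⊗ₘ v) →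
      a ≫ c = b ≫ c := by
    intro T a b hab
    have ha : a = lift (a ≫ fst E E) (a ≫ snd E E) := by ext <;> simp
    have hb : b = lift (b ≫ fst E E) (b ≫ snd E E) := by ext <;> simp
    have h1 : (a ≫ fst E E) ≫ v = (b ≫ fst E E) ≫ v := by
      have := congrArg (· ≫ fst P P) hab
      simpa using this
    have h2 : (a ≫ snd E E) ≫ v = (b ≫ snd E E) ≫ v := by
      have := congrArg (· ≫ snd P P) hab
      simpa using this
    obtain ⟨h, hh⟩ := exists_translate hpb _ _ h1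
    obtain ⟨h', hh'⟩ := exists_translate hpb _ _ h2
    rw [← cancel_mono u, Category.assoc, Category.assoc, hc, ha, hb,
      lift_commutator_eq_mul_mul_inv_inv, lift_commutator_eq_mul_mul_inv_inv, hh, hh']
    exact (comm_central _ _ _ _ (hcentral T h) (hcentral T h')).symm
  obtain ⟨cbar, hcbar⟩ := (hcov.tensorHom hcov).exists_desc c hdesc
  haveI := hcov.epi
  have hax1 : lift (𝟙 P) (toUnit P ≫ η[P]) ≫ cbar = 1 := by
    rw [← cancel_epi v, MonObj.comp_one]
    have : v ≫ lift (𝟙 P) (toUnit P ≫ η[P]) = lift (𝟙 E) (toUnit E ≫ η[E]) ≫ (v ⊗ₘ v) := by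
      ext
      · simp
      · simp [IsMonHom.one_hom]
    rw [← Category.assoc, this, Category.assoc, hcbar, ← cancel_mono u, Category.assoc, hc,
      lift_commutator_eq_mul_mul_inv_inv, MonObj.one_comp, ← Hom.one_def]
    group
  have hax2 : lift (toUnit P ≫ η[P]) (𝟙 P) ≫ cbar = 1 := by
    rw [← cancel_epi v, MonObj.comp_one]
    have : v ≫ lift (toUnit P ≫ η[P]) (𝟙 P) = lift (toUnit E ≫ η[E]) (𝟙 E) ≫ (v ⊗ₘ v) := by
      ext
      · simp [IsMonHom.one_hom]
      · simp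
    rw [← Category.assoc, this, Category.assoc, hcbar, ← cancel_mono u, Category.assoc, hc,
      lift_commutator_eq_mul_mul_inv_inv, MonObj.one_comp, ← Hom.one_def]
    group
  have hcbar1 := hPP cbar hax1 hax2
  rw [isCommMonObj_iff_commutator_eq_toUnit_η, ← hc, ← hcbar, hcbar1, MonObj.comp_one,
    MonObj.one_comp, Hom.one_def]

end Groth.Agent.Lib.T2H3.ExactCentral
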