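import Mathlib
import Groth.Prelude.Def_NonAbH2
import Groth.Agent.Lib.T2H3ExactDescent

/-!
# Rigidity of commutative extensions by a group receiving no nontrivial homomorphism
-/

set_option autoImplicit false
set_option linter.style.haveILetI false
set_option linter.unusedSectionVars false
universe u

namespace Groth.Agent.Lib.T2H3.ExactRigid

open CategoryTheory MonoidalCategory CartesianMonoidalCategory MonObj GrpObj AlgebraicGeometry Limits
open Groth.Agent.Lib.T2H3.ExactDescent Groth.Agent.Lib.T2H3.ExactGrp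

variable {S : Scheme.{u}} {J : GrothendieckTopology Scheme.{u}} [J.Subcanonical]
  {P G E : Over S} [GrpObj P] [GrpObj G] [GrpObj E] [IsCommMonObj E]
  {u : G ⟶ E} {v : E ⟶ P} [IsMonHom u] [IsMonHom v]

theorem rigid (huv : u ≫ v = 1) (hpb : IsPullback (fst E G) ((E ◁ u) ≫ μ[E]) v v)
    (hcov : IsCov J v)
    (htriv : ∀ (c : P ⟶ G), IsMonHom c → c = 1)
    (φ : E ⟶ E) [IsMonHom φ] (hφu : u ≫ φ = u) (hφv : φ ≫ v = v) : φ = 𝟙 E := by
  haveI := mono_u hpb
  haveI := hcov.epi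
  let δ : E ⟶ E := φ * (𝟙 E)⁻¹
  have hδ_pt : ∀ (T : Over S) (x : T ⟶ E), x ≫ δ = (x ≫ φ) * x⁻¹ := by
    intro T x
    simp only [δ, MonObj.comp_mul, GrpObj.comp_inv, Category.comp_id]
  have hδv : δ ≫ v = 1 := by
    simp only [δ, MonObj.mul_comp, GrpObj.inv_comp, hφv, Category.id_comp]
    exact mul_inv_cancel v
  have hδ_mul : ∀ (T : Over S) (x y : T ⟶ E), (x * y) ≫ δ = (x ≫ δ) * (y ≫ δ) := by
    intro T x y
    rw [hδ_pt, hδ_pt, hδ_pt, MonObj.mul_comp, _root_.mul_inv_rev, mul_comm y⁻¹ x⁻¹]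
    rw [_root_.mul_mul_mul_comm]
  obtain ⟨c, hc⟩ := exists_kernel_lift hpb δ hδv
  have hdesc : ∀ (T : Over S) (a b : T ⟶ E), a ≫ v = b ≫ v → a ≫ c = b ≫ c := by
    intro T a b hab
    obtain ⟨g, hg⟩ := exists_translate hpb _ _ hab
    rw [← cancel_mono u, Category.assoc, Category.assoc, hc, hg, hδ_mul]
    have : (g ≫ u) ≫ δ = 1 := by
      rw [hδ_pt, Category.assoc, hφu, mul_inv_cancel]
    rw [this, _root_.mul_one]
  obtain ⟨cbar, hcbar⟩ := hcov.exists_desc c hdesc
  have hc_mul : ∀ (T : Over S) (x y : T ⟶ E), (x * y) ≫ c = (x ≫ c) * (y ≫ c) := by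
    intro T x y
    rw [← cancel_mono u, MonObj.mul_comp (x ≫ c) (y ≫ c) u, Category.assoc, Category.assoc,
      Category.assoc, hc, hδ_mul]
  have hmon : IsMonHom cbar := by
    refine ⟨?_, ?_⟩
    · have h1 : η[P] = η[E] ≫ v := (IsMonHom.one_hom (f := v)).symm
      rw [h1, Category.assoc, hcbar, ← cancel_mono u, Category.assoc, hc, hδ_pt,
        IsMonHom.one_hom, mul_inv_cancel, IsMonHom.one_hom, Hom.one_def]
      have : toUnit (𝟙_ (Over S)) = 𝟙 _ := toUnit_unique _ _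
      rw [this, Category.id_comp]
    · haveI := (hcov.tensorHom hcov).epi
      rw [← cancel_epi (v ⊗ₘ v), ← Category.assoc, ← IsMonHom.mul_hom, Category.assoc, hcbar,
        ← Category.assoc, tensorHom_comp_tensorHom, hcbar]
      have hμ : μ[E] = fst E E * snd E E := by
        rw [Hom.mul_def, lift_fst_snd, Category.id_comp]
      have h2 : (c ⊗ₘ c) ≫ μ[G] = (fst E E ≫ c) * (snd E E ≫ c) := by
        rw [Hom.mul_def]
        congr 1
      rw [hμ, hc_mul, h2]
  have hcbar1 := htriv cbar hmon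
  have hδ1 : δ = 1 := by
    rw [← hc, ← hcbar, hcbar1, MonObj.comp_one, MonObj.one_comp]
  have : φ * (𝟙 E)⁻¹ = 1 := hδ1
  exact mul_inv_eq_one.mp this

end Groth.Agent.Lib.T2H3.ExactRigid
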