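import Groth.Agent.Lib.T2H3PuritySchJ

/-!
# Integral closure in a ring of sections: ring-level lemmas

Ring-level input for the extension of finite étale covers across regular points which are
unramified in codimension one.
-/

set_option autoImplicit false
set_option linter.unusedSectionVars false
set_option linter.style.haveILetI false
universe u

open TensorProduct

namespace Groth.Agent.Lib.T2H3.Ext

open Groth.Agent.Lib.T2H3.Purity

section IntegralRange

/-- if every integral element of `R` comes from the finite étale algebra `B ⊆ R`, the integral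
closure is finite étale. -/
theorem finite_etale_integralClosure_of_range {A B R : Type u} [CommRing A] [CommRing B]
    [CommRing R] [Algebra A B] [Algebra A R] [Module.Finite A B] [Algebra.Etale A B]
    (ψ : B →ₐ[A] R) (hinj : Function.Injective ψ)
    (hsurj : ∀ t : R, IsIntegral A t → ∃ b, ψ b = t) :
    Module.Finite A (integralClosure A R) ∧ Algebra.Etale A (integralClosure A R) := by
  haveI : Algebra.IsIntegral A B := Algebra.IsIntegral.of_finite A B
  let ψ' : B →ₐ[A] integralClosure A R :=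
    ψ.codRestrict _ (fun b => (Algebra.IsIntegral.isIntegral b).map ψ)
  have hb : Function.Bijective ψ' := by
    constructor
    · intro b b' h
      apply hinj
      exact congrArg Subtype.val h
    · rintro ⟨t, ht⟩
      obtain ⟨b, hb⟩ := hsurj t ht
      exact ⟨b, Subtype.ext hb⟩
  let e := AlgEquiv.ofBijective ψ' hb
  exact ⟨Module.Finite.equiv e.toLinearEquiv, Algebra.Etale.of_equiv e⟩

/-- integral closure and smooth base change, elementwise. -/
theorem exists_tmul_one_eq_of_isIntegral {A B H : Type u} [CommRing A] [CommRing B] [CommRing H]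
    [Algebra A B] [Algebra A H] [Algebra.Smooth A B]
    (hH : ∀ h : H, IsIntegral A h → ∃ a, algebraMap A H a = h)
    (t : B ⊗[A] H) (ht : IsIntegral B t) : ∃ b : B, b ⊗ₜ[A] (1 : H) = t := by
  obtain ⟨w, hw⟩ := (TensorProduct.toIntegralClosure_bijective_of_smooth
    (R := A) (S := B) (B := H)).2 ⟨t, ht⟩
  have key : ∀ w : B ⊗[A] integralClosure A H, ∃ b : B, b ⊗ₜ[A] (1 : H) =
      ((TensorProduct.toIntegralClosure A B H w : integralClosure B (B ⊗[A] H)) :
        B ⊗[A] H) := by
    intro w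
    induction w using TensorProduct.induction_on with
    | zero => exact ⟨0, by simp⟩
    | tmul l k =>
      obtain ⟨k, hk⟩ := k
      obtain ⟨r, rfl⟩ := hH k hk
      refine ⟨r • l, ?_⟩
      simp only [TensorProduct.toIntegralClosure, AlgHom.coe_codRestrict,
        Algebra.TensorProduct.map_tmul, AlgHom.coe_id, id_eq, Subalgebra.coe_val]
      rw [TensorProduct.smul_tmul, Algebra.smul_def, mul_one]
    | add x y hx hy =>
      obtain ⟨l1, h1⟩ := hx
      obtain ⟨l2, h2⟩ := hy
      refine ⟨l1 + l2, ?_⟩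
      rw [TensorProduct.add_tmul, h1, h2, map_add]
      rfl
  obtain ⟨l, hl⟩ := key w
  exact ⟨l, by rw [hl, hw]⟩

end IntegralRange

section LocalGlobal

open Polynomial

theorem isIntegral_of_scaled {C : Type u} [CommRing C] {R E T : Type u} [CommRing R] [Algebra C R]
    [CommRing E] [Algebra C E] [CommRing T] [Algebra C T]
    (φ : E →ₐ[C] R) (hφ : Function.Injective φ) (ι : E →ₐ[C] T)
    {t : R} (ht : IsIntegral C t) {s : C} {e : E} (he : φ e = s • t)
    {τ υ : T} (hτ : algebraMap C T s * τ = ι e) (hυ : algebraMap C T s * υ = 1) :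
    IsIntegral C τ := by
  obtain ⟨P, hP, hPt⟩ := ht
  refine ⟨P, hP, ?_⟩
  -- `Q(e) = 0`
  have h1 : eval₂ (algebraMap C E) e (scaleRoots P s) = 0 := by
    apply hφ
    rw [map_zero]
    have := Polynomial.hom_eval₂ (scaleRoots P s) (algebraMap C E) (φ : E →+* R) e
    rw [AlgHom.comp_algebraMap φ] at this
    erw [this]
    show eval₂ (algebraMap C R) (φ e) (scaleRoots P s) = 0
    rw [he, Algebra.smul_def, scaleRoots_eval₂_mul, hPt, mul_zero]
  have h2 : eval₂ (algebraMap C T) (ι e) (scaleRoots P s) = 0 := by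
    have := Polynomial.hom_eval₂ (scaleRoots P s) (algebraMap C E) (ι : E →+* T) e
    rw [AlgHom.comp_algebraMap ι, h1, map_zero] at this
    exact this.symm
  rw [← hτ, scaleRoots_eval₂_mul] at h2
  have h3 : algebraMap C T s ^ P.natDegree * υ ^ P.natDegree = 1 := by
    rw [← mul_pow, hυ, one_pow]
  calc eval₂ (algebraMap C T) τ P
      = (algebraMap C T s ^ P.natDegree * υ ^ P.natDegree) * eval₂ (algebraMap C T) τ P := by
        rw [h3, one_mul]
    _ = υ ^ P.natDegree * (algebraMap C T s ^ P.natDegree * eval₂ (algebraMap C T) τ P) := by ring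
    _ = 0 := by rw [h2, mul_zero]

/-- the core of the local step, with abstract rings. -/
theorem exists_smul_eq_core {C : Type u} [CommRing C] {R E : Type u} [CommRing R] [Algebra C R]
    [CommRing E] [Algebra C E] (φ : E →ₐ[C] R) (hφ : Function.Injective φ)
    (A : Type u) [CommRing A] [Algebra C A] (B : Type u) [CommRing B] [Algebra A B] [Algebra C B]
    [IsScalarTower C A B] [Algebra.Smooth A B] [Module.Flat A B]
    (K : Type u) [Field K] [Algebra A K] (hAK : Function.Injective (algebraMap A K))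
    (hH : ∀ k : K, IsIntegral A k → ∃ a, algebraMap A K a = k)
    (ιB : E →ₐ[C] B)
    {t : R} (ht : IsIntegral C t) {s : C} {e : E} (he : φ e = s • t)
    (hs : algebraMap C A s ≠ 0) : ∃ b : B, algebraMap C A s • b = ιB e := by
  let y : A := algebraMap C A s
  let yK : K := algebraMap A K y
  have hyK : yK ≠ 0 := (map_ne_zero_iff _ hAK).mpr hs
  let τ : B ⊗[A] K := (ιB e) ⊗ₜ[A] yK⁻¹
  have hfs : algebraMap C (B ⊗[A] K) s = (1 : B) ⊗ₜ[A] yK := by
    show (algebraMap C B s) ⊗ₜ[A] (1 : K) = _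
    rw [IsScalarTower.algebraMap_apply C A B, Algebra.algebraMap_eq_smul_one (A := B),
      TensorProduct.smul_tmul, ← Algebra.algebraMap_eq_smul_one]
  let ι : E →ₐ[C] B ⊗[A] K :=
    (Algebra.TensorProduct.includeLeft : B →ₐ[C] B ⊗[A] K).comp ιB
  have hιe : ι e = (ιB e) ⊗ₜ[A] (1 : K) := rfl
  have hτint : IsIntegral B τ := by
    have h1 : IsIntegral C τ := by
      refine isIntegral_of_scaled φ hφ ι ht he (υ := (1 : B) ⊗ₜ[A] yK⁻¹) ?_ ?_
      · rw [hfs, hιe, Algebra.TensorProduct.tmul_mul_tmul, one_mul, mul_inv_cancel₀ hyK]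
      · rw [hfs, Algebra.TensorProduct.tmul_mul_tmul, one_mul, mul_inv_cancel₀ hyK]
        rfl
    exact h1.tower_top
  obtain ⟨b, hb⟩ := exists_tmul_one_eq_of_isIntegral (A := A) (B := B) (H := K) hH τ hτint
  refine ⟨b, ?_⟩
  have hinj : Function.Injective (fun b : B => b ⊗ₜ[A] (1 : K)) :=
    Algebra.TensorProduct.includeLeft_injective (R := A) (S := A) (A := B) (B := K) hAK
  apply hinj
  show (y • b) ⊗ₜ[A] (1 : K) = (ιB e) ⊗ₜ[A] (1 : K)
  rw [← TensorProduct.smul_tmul', hb]
  show y • ((ιB e) ⊗ₜ[A] yK⁻¹) = _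
  rw [← TensorProduct.tmul_smul, Algebra.smul_def]
  show (ιB e) ⊗ₜ[A] (yK * yK⁻¹) = _
  rw [mul_inv_cancel₀ hyK]

/-- the local step. -/
theorem exists_smul_of_local {C : Type u} [CommRing C] {n : ℕ} (x : Fin n → C)
    {R E : Type u} [CommRing R] [Algebra C R] [CommRing E] [Algebra C E] [Algebra.Etale C E]
    (φ : E →ₐ[C] R) (hφ : Function.Injective φ)
    (H1 : ∀ r : R, (∀ i, ∃ N : ℕ, x i ^ N • r = 0) → r = 0)
    (H2 : ∀ (i : Fin n) (r : R), ∃ (N : ℕ) (e : E), φ e = x i ^ N • r)
    (q : Ideal C) [q.IsPrime] [IsDomain (Localization.AtPrime q)]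
    [IsIntegrallyClosed (Localization.AtPrime q)]
    (i : Fin n) (hi : algebraMap C (Localization.AtPrime q) (x i) ≠ 0)
    (t : R) (ht : IsIntegral C t) : ∃ s ∉ q, ∃ e : E, φ e = s • t := by
  classical
  let A := Localization.AtPrime q
  let K := FractionRing A
  let B := A ⊗[C] E
  obtain ⟨N, e, he⟩ := H2 i t
  have hy0 : algebraMap C A (x i ^ N) ≠ 0 := by
    rw [map_pow]
    exact pow_ne_zero _ hi
  have hH : ∀ k : K, IsIntegral A k → ∃ a, algebraMap A K a = k := fun k hk =>
    IsIntegrallyClosed.isIntegral_iff.mp hk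
  obtain ⟨b, hb⟩ := exists_smul_eq_core φ hφ A B K (IsFractionRing.injective A K) hH
    (Algebra.TensorProduct.includeRight : E →ₐ[C] B) ht he hy0
  have hb' : (x i ^ N) • b = (1 : A) ⊗ₜ[C] e := by
    rw [← algebraMap_smul A (x i ^ N) b]
    exact hb
  -- clear denominators
  haveI hloc : IsLocalizedModule q.primeCompl (TensorProduct.mk C A E 1) :=
    IsLocalization.tensorProduct_isLocalizedModule (S := q.primeCompl) (A := A) (M := E)
  obtain ⟨⟨e', s₁⟩, h1⟩ := IsLocalizedModule.surj q.primeCompl (TensorProduct.mk C A E 1) b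
  have h1' : (s₁ : C) • b = (1 : A) ⊗ₜ[C] e' := h1
  have h2 : (1 : A) ⊗ₜ[C] (x i ^ N • e' - (s₁ : C) • e) = 0 := by
    rw [TensorProduct.tmul_sub, TensorProduct.tmul_smul, TensorProduct.tmul_smul, ← h1', ← hb',
      smul_comm, sub_self]
  obtain ⟨s₂, h3⟩ := (IsLocalizedModule.eq_zero_iff q.primeCompl
    (TensorProduct.mk C A E 1)).mp h2
  have h3' : x i ^ N • ((s₂ : C) • e') = ((s₂ : C) * (s₁ : C)) • e := by
    have : (s₂ : C) • (x i ^ N • e' - (s₁ : C) • e) = 0 := h3
    rw [smul_sub, sub_eq_zero] at this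
    rw [smul_comm, this, mul_smul]
  -- the torsion element
  let u : R := φ ((s₂ : C) • e') - ((s₂ : C) * (s₁ : C)) • t
  have hu : x i ^ N • u = 0 := by
    show x i ^ N • (φ ((s₂ : C) • e') - ((s₂ : C) * (s₁ : C)) • t) = 0
    rw [smul_sub, ← map_smul, h3', map_smul, he, smul_comm, sub_self]
  have hkill : ∀ j : Fin n, ∃ sj : q.primeCompl, ∃ M : ℕ, x j ^ M • ((sj : C) • u) = 0 := by
    intro j
    obtain ⟨M, ej, hej⟩ := H2 j u
    have h4 : x i ^ N • ej = 0 := by
      apply hφ
      rw [map_smul, hej, map_zero, smul_comm, hu, smul_zero]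
    have h5 : (1 : A) ⊗ₜ[C] ej = 0 := by
      have hreg : IsSMulRegular B (algebraMap C A (x i ^ N)) :=
        isSMulRegular_of_flat (A := A) (M := B) ((isRegular_of_ne_zero hy0).left.isSMulRegular)
      apply hreg
      show algebraMap C A (x i ^ N) • ((1 : A) ⊗ₜ[C] ej) = algebraMap C A (x i ^ N) • (0 : B)
      rw [smul_zero, algebraMap_smul, ← TensorProduct.tmul_smul, h4, TensorProduct.tmul_zero]
    obtain ⟨sj, hsj⟩ := (IsLocalizedModule.eq_zero_iff q.primeCompl
      (TensorProduct.mk C A E 1)).mp h5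
    refine ⟨sj, M, ?_⟩
    rw [smul_comm, ← hej, ← map_smul]
    have : (sj : C) • ej = 0 := hsj
    rw [this, map_zero]
  choose sj Mj hsj using hkill
  let s₃ : C := ∏ j, (sj j : C)
  have hs₃ : s₃ ∉ q := by
    have : s₃ ∈ q.primeCompl := Submonoid.prod_mem _ (fun j _ => (sj j).2)
    exact this
  have hs₃u : s₃ • u = 0 := by
    apply H1
    intro j
    refine ⟨Mj j, ?_⟩
    obtain ⟨c, hc⟩ : (sj j : C) ∣ s₃ := Finset.dvd_prod_of_mem _ (Finset.mem_univ j)
    rw [hc, mul_comm, mul_smul, smul_comm, hsj j, smul_zero]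
  refine ⟨s₃ * ((s₂ : C) * (s₁ : C)), ?_, s₃ • ((s₂ : C) • e'), ?_⟩
  · intro hmem
    rcases Ideal.IsPrime.mem_or_mem inferInstance hmem with h | h
    · exact hs₃ h
    · rcases Ideal.IsPrime.mem_or_mem inferInstance h with h | h
      · exact s₂.2 h
      · exact s₁.2 h
  · have : s₃ • (φ ((s₂ : C) • e') - ((s₂ : C) * (s₁ : C)) • t) = 0 := hs₃u
    rw [smul_sub, sub_eq_zero] at this
    rw [map_smul, this, ← mul_smul]

/-- **Integral elements of a ring of sections come from an étale subalgebra which is locally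
everything**, when the base is normal along the boundary. -/
theorem exists_of_isIntegral {C : Type u} [CommRing C] {n : ℕ} (x : Fin n → C)
    {R E : Type u} [CommRing R] [Algebra C R] [CommRing E] [Algebra C E] [Algebra.Etale C E]
    (φ : E →ₐ[C] R) (hφ : Function.Injective φ)
    (H1 : ∀ r : R, (∀ i, ∃ N : ℕ, x i ^ N • r = 0) → r = 0)
    (H2 : ∀ (i : Fin n) (r : R), ∃ (N : ℕ) (e : E), φ e = x i ^ N • r)
    (H4 : ∀ (q : Ideal C) [q.IsPrime], (∀ i, x i ∈ q) →
      IsDomain (Localization.AtPrime q) ∧ IsIntegrallyClosed (Localization.AtPrime q) ∧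
        ∃ i, algebraMap C (Localization.AtPrime q) (x i) ≠ 0)
    (t : R) (ht : IsIntegral C t) : ∃ e : E, φ e = t := by
  classical
  let I : Ideal C :=
    { carrier := {s | ∃ e : E, φ e = s • t}
      add_mem' := by
        rintro s s' ⟨e, he⟩ ⟨e', he'⟩
        exact ⟨e + e', by rw [map_add, he, he', add_smul]⟩
      zero_mem' := ⟨0, by rw [map_zero, zero_smul]⟩
      smul_mem' := by
        rintro c s ⟨e, he⟩
        exact ⟨c • e, by rw [map_smul, he, smul_eq_mul, mul_smul]⟩ }
  by_contra hne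
  have hI : I ≠ ⊤ := by
    intro h
    have h1 : (1 : C) ∈ I := by rw [h]; trivial
    obtain ⟨e, he⟩ := h1
    exact hne ⟨e, by rw [he, one_smul]⟩
  obtain ⟨q, hqmax, hIq⟩ := Ideal.exists_le_maximal I hI
  haveI : q.IsPrime := hqmax.isPrime
  by_cases hx : ∀ i, x i ∈ q
  · obtain ⟨hdom, hic, i, hi⟩ := H4 q hx
    obtain ⟨s, hs, e, he⟩ := exists_smul_of_local x φ hφ H1 H2 q i hi t ht
    exact hs (hIq ⟨e, he⟩)
  · push_neg at hx
    obtain ⟨i, hi⟩ := hx
    obtain ⟨N, e, he⟩ := H2 i t
    exact hi (Ideal.IsPrime.mem_of_pow_mem inferInstance N (hIq ⟨e, he⟩))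

end LocalGlobal

end Groth.Agent.Lib.T2H3.Ext
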