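import Groth.Agent.Lib.T2H3ExtA

/-!
# Spreading out the integral closure in a ring of sections

`C` Noetherian, `R` a `C`-algebra finite over each `C[1/x i]`, `p` a prime such that the integral
closure of `C_p` in `C_p ⊗ R` is finite étale.  Then there are `a ∉ p` and a finite subalgebra
`E₀ ⊆ R`, locally everything on the `D(x i)`, which is étale over `C[1/a]`; and then the integral
closure of `C[1/a]` in the base change of `R` is finite étale.
-/

set_option autoImplicit false
set_option linter.unusedSectionVars false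
set_option linter.style.haveILetI false
universe u

open TensorProduct

namespace Groth.Agent.Lib.T2H3.Ext

open Groth.Agent.Lib.T2H3.Purity

section Generators

variable {C : Type u} [CommRing C]

/-- generators `1 ⊗ m` of a finite base change. -/
theorem exists_finset_span_one_tmul (A : Type u) [CommRing A] [Algebra C A] (M' : Type u)
    [AddCommGroup M'] [Module C M'] [Module.Finite A (A ⊗[C] M')] :
    ∃ T : Finset M', Submodule.span A ((fun m : M' => (1 : A) ⊗ₜ[C] m) '' (T : Set M')) = ⊤ := by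
  classical
  obtain ⟨S, hS⟩ := (Module.Finite.fg_top : (⊤ : Submodule A (A ⊗[C] M')).FG)
  have key : ∀ z : A ⊗[C] M', ∃ F : Finset M',
      z ∈ Submodule.span A ((fun m : M' => (1 : A) ⊗ₜ[C] m) '' (F : Set M')) := by
    intro z
    induction z using TensorProduct.induction_on with
    | zero => exact ⟨∅, Submodule.zero_mem _⟩
    | tmul a m =>
      refine ⟨{m}, ?_⟩
      have : a ⊗ₜ[C] m = a • ((1 : A) ⊗ₜ[C] m) := by
        rw [TensorProduct.smul_tmul', smul_eq_mul, mul_one]
      rw [this]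
      exact Submodule.smul_mem _ _ (Submodule.subset_span ⟨m, by simp, rfl⟩)
    | add z z' hz hz' =>
      obtain ⟨F, hF⟩ := hz
      obtain ⟨F', hF'⟩ := hz'
      refine ⟨F ∪ F', Submodule.add_mem _ (Submodule.span_mono ?_ hF)
        (Submodule.span_mono ?_ hF')⟩
      · exact Set.image_mono (by simp)
      · exact Set.image_mono (by simp)
  choose F hF using key
  refine ⟨S.biUnion F, ?_⟩
  rw [eq_top_iff, ← hS, Submodule.span_le]
  intro z hz
  refine Submodule.span_mono (Set.image_mono ?_) (hF z)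
  intro m hm
  simp only [Finset.coe_biUnion, Set.mem_iUnion]
  exact ⟨z, hz, hm⟩

attribute [local instance] Algebra.TensorProduct.rightAlgebra in
/-- elements of an algebra which is finite after inverting `a` are integral up to a power of
`a`. -/
theorem exists_pow_smul_isIntegral (a : C) (R : Type u) [CommRing R] [Algebra C R]
    [Module.Finite (Localization.Away a) (Localization.Away a ⊗[C] R)] (r : R) :
    ∃ N : ℕ, IsIntegral C (a ^ N • r) := by
  let L := Localization.Away a
  haveI : Algebra.IsIntegral L (L ⊗[C] R) := Algebra.IsIntegral.of_finite L (L ⊗[C] R)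
  have hz : IsIntegral L ((1 : L) ⊗ₜ[C] r) := Algebra.IsIntegral.isIntegral _
  obtain ⟨⟨_, k, rfl⟩, hk⟩ := IsIntegral.exists_multiple_integral_of_isLocalization
    (Submonoid.powers a) ((1 : L) ⊗ₜ[C] r) hz
  have hk' : IsIntegral C (algebraMap R (L ⊗[C] R) (a ^ k • r)) := by
    have : algebraMap R (L ⊗[C] R) (a ^ k • r) = a ^ k • ((1 : L) ⊗ₜ[C] r) := by
      rw [← TensorProduct.tmul_smul]
      rfl
    rw [this]
    exact hk
  obtain ⟨m, ⟨l, rfl⟩, hm⟩ := IsLocalization.exists_isIntegral_smul_of_isIntegral_map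
    (Sₘ := L ⊗[C] R) (Submonoid.powers a) hk'
  refine ⟨l + k, ?_⟩
  rw [pow_add, mul_smul]
  exact hm

/-- integral generators up to `a`-power torsion. -/
theorem exists_finset_integral_loc (a : C) (R : Type u) [CommRing R] [Algebra C R]
    [Module.Finite (Localization.Away a) (Localization.Away a ⊗[C] R)] :
    ∃ S : Finset R, (∀ s ∈ S, IsIntegral C s) ∧
      ∀ r : R, ∃ N : ℕ, a ^ N • r ∈ Submodule.span C (S : Set R) := by
  classical
  obtain ⟨T, hT⟩ := exists_finset_of_finite_loc a R
  choose Nf hNf using exists_pow_smul_isIntegral a R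
  let M : ℕ := T.sup Nf
  refine ⟨T.image (fun g => a ^ M • g), ?_, ?_⟩
  · intro s hs
    obtain ⟨g, hg, rfl⟩ := Finset.mem_image.mp hs
    have hle : Nf g ≤ M := Finset.le_sup hg
    have : a ^ M • g = a ^ (M - Nf g) • (a ^ Nf g • g) := by
      rw [smul_smul, ← pow_add, Nat.sub_add_cancel hle]
    rw [this]
    exact (hNf g).smul _
  · intro r
    obtain ⟨N, hN⟩ := hT r
    refine ⟨M + N, ?_⟩
    rw [pow_add, mul_smul]
    have h1 : a ^ M • (a ^ N • r) ∈ Submodule.map (LinearMap.lsmul C R (a ^ M))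
        (Submodule.span C (T : Set R)) := ⟨a ^ N • r, hN, rfl⟩
    rw [Submodule.map_span] at h1
    convert h1 using 2
    ext s
    simp

end Generators

section Spread

variable {C : Type u} [CommRing C] [IsNoetherianRing C]

/-- spreading out étaleness of a finite algebra from the primes over `p` to a basic open
neighbourhood of `p`. -/
theorem exists_etale_away_of_isEtaleAt (E₀ : Type u) [CommRing E₀] [Algebra C E₀]
    [Module.Finite C E₀] (p : Ideal C) [hp : p.IsPrime]
    (h : ∀ (P : Ideal E₀) [P.IsPrime], P.comap (algebraMap C E₀) = p → Algebra.IsEtaleAt C P) :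
    ∃ a ∉ p, Algebra.Etale (Localization.Away a) (Localization.Away a ⊗[C] E₀) := by
  haveI : Module.FinitePresentation C E₀ := Module.finitePresentation_of_finite C E₀
  haveI : Algebra.FinitePresentation C E₀ :=
    Algebra.FinitePresentation.of_finiteType.mp inferInstance
  have hopen : IsOpen (Algebra.etaleLocus C E₀) := Algebra.isOpen_etaleLocus
  let Z : Set (PrimeSpectrum E₀) := (Algebra.etaleLocus C E₀)ᶜ
  have hZ : IsClosed Z := hopen.isClosed_compl
  have hint : (algebraMap C E₀).IsIntegral :=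
    algebraMap_isIntegral_iff.mpr (Algebra.IsIntegral.of_finite C E₀)
  have hcl : IsClosed (PrimeSpectrum.comap (algebraMap C E₀) '' Z) :=
    PrimeSpectrum.isClosedMap_comap_of_isIntegral (algebraMap C E₀) hint Z hZ
  have hpn : (⟨p, hp⟩ : PrimeSpectrum C) ∈ (PrimeSpectrum.comap (algebraMap C E₀) '' Z)ᶜ := by
    rintro ⟨P, hPZ, hP⟩
    apply hPZ
    haveI := P.isPrime
    exact h P.asIdeal (congrArg PrimeSpectrum.asIdeal hP)
  obtain ⟨_, ⟨_, ⟨a, rfl⟩, rfl⟩, hpa, ha⟩ :=
    PrimeSpectrum.isBasis_basic_opens.exists_subset_of_mem_open hpn hcl.isOpen_compl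
  refine ⟨a, hpa, ?_⟩
  have hsub : (PrimeSpectrum.basicOpen (algebraMap C E₀ a) : Set (PrimeSpectrum E₀)) ⊆
      Algebra.etaleLocus C E₀ := by
    intro P hP
    by_contra hPe
    exact ha (show PrimeSpectrum.comap (algebraMap C E₀) P ∈ PrimeSpectrum.basicOpen a from hP)
      ⟨P, hPe, rfl⟩
  have hEt : Algebra.FormallyEtale C (Localization.Away (algebraMap C E₀ a)) :=
    Algebra.basicOpen_subset_etaleLocus_iff.mp hsub
  have e := (Localization.tensorRightAlgEquiv (Submonoid.powers a) E₀).restrictScalars C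
  have h1 : Algebra.FormallyEtale C
      (Localization (Algebra.algebraMapSubmonoid E₀ (Submonoid.powers a))) :=
    formallyEtale_localization_congr (Algebra.algebraMapSubmonoid_powers (S := E₀) a).symm hEt
  haveI h2 : Algebra.FormallyEtale C (Localization.Away a ⊗[C] E₀) :=
    Algebra.FormallyEtale.of_equiv e.symm
  haveI h3 : Algebra.FormallyEtale (Localization.Away a) (Localization.Away a ⊗[C] E₀) :=
    Algebra.FormallyEtale.localization_base (Submonoid.powers a)
  exact ⟨h3, inferInstance⟩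

/-- **Spreading out**: a finite subalgebra of the integral closure which is locally everything
on the `D(x i)` and étale over a basic open neighbourhood of `p`. -/
theorem exists_etale_subalgebra {n : ℕ}
    (x : Fin n → C) (R : Type u) [CommRing R] [Algebra C R]
    (hfin : ∀ i, Module.Finite (Loc x i) (Loc x i ⊗[C] R))
    (p : Ideal C) [p.IsPrime] (A : Type u) [CommRing A] [Algebra C A] [IsLocalization.AtPrime A p]
    (hA1 : Module.Finite A (integralClosure A (A ⊗[C] R)))
    (hA2 : Algebra.Etale A (integralClosure A (A ⊗[C] R))) :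
    ∃ a ∉ p, ∃ E₀ : Subalgebra C R, Module.Finite C E₀ ∧
      (∀ (i : Fin n) (r : R), ∃ N : ℕ, x i ^ N • r ∈ E₀) ∧
      Algebra.Etale (Localization.Away a) (Localization.Away a ⊗[C] E₀) := by
  classical
  -- generators for the local data
  have hS : ∀ i, ∃ S : Finset R, (∀ s ∈ S, IsIntegral C s) ∧
      ∀ r : R, ∃ N : ℕ, x i ^ N • r ∈ Submodule.span C (S : Set R) := fun i => by
    haveI := hfin i
    exact exists_finset_integral_loc (x i) R
  choose S hSint hSgen using hS
  -- generators at `p`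
  let τ : A ⊗[C] integralClosure C R ≃ₐ[A] integralClosure A (A ⊗[C] R) :=
    AlgEquiv.ofBijective (TensorProduct.toIntegralClosure C A R)
      (TensorProduct.toIntegralClosure_bijective_of_isLocalization p.primeCompl)
  haveI : Module.Finite A (A ⊗[C] integralClosure C R) := Module.Finite.equiv τ.symm.toLinearEquiv
  haveI : Algebra.Etale A (A ⊗[C] integralClosure C R) := Algebra.Etale.of_equiv τ.symm
  obtain ⟨T₀, hT₀⟩ := exists_finset_span_one_tmul (C := C) A (integralClosure C R)
  -- the subalgebra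
  let G : Set R := (↑(T₀.image Subtype.val) : Set R) ∪ ⋃ i, (S i : Set R)
  have hGfin : G.Finite :=
    (Finset.finite_toSet _).union (Set.finite_iUnion (fun i => (S i).finite_toSet))
  have hGint : ∀ g ∈ G, IsIntegral C g := by
    rintro g (hg | hg)
    · obtain ⟨c, -, rfl⟩ := Finset.mem_image.mp (Finset.mem_coe.mp hg)
      exact c.2
    · obtain ⟨i, hi⟩ := Set.mem_iUnion.mp hg
      exact hSint i g hi
  let E₀ : Subalgebra C R := Algebra.adjoin C G
  have hE₀fg : (Subalgebra.toSubmodule E₀).FG := fg_adjoin_of_finite hGfin hGint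
  have hle : E₀ ≤ integralClosure C R := Algebra.adjoin_le hGint
  haveI hE₀fin : Module.Finite C E₀ := Module.Finite.of_fg hE₀fg
  have hsub : G ⊆ E₀ := Algebra.subset_adjoin
  -- (α)
  have hα : ∀ (i : Fin n) (r : R), ∃ N : ℕ, x i ^ N • r ∈ E₀ := by
    intro i r
    obtain ⟨N, hN⟩ := hSgen i r
    refine ⟨N, ?_⟩
    have h1 : Submodule.span C (S i : Set R) ≤ Subalgebra.toSubmodule E₀ := by
      rw [Submodule.span_le]
      intro s hs
      exact hsub (Or.inr (Set.mem_iUnion.mpr ⟨i, hs⟩))
    exact h1 hN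
  -- (β)
  haveI : Module.Flat C A := IsLocalization.flat A p.primeCompl
  let ψ : A ⊗[C] E₀ →ₐ[A] A ⊗[C] integralClosure C R :=
    Algebra.TensorProduct.map (AlgHom.id A A) (Subalgebra.inclusion hle)
  have hψinj : Function.Injective ψ :=
    Module.Flat.lTensor_preserves_injective_linearMap (M := A)
      (Subalgebra.inclusion hle).toLinearMap (Subalgebra.inclusion_injective hle)
  have hψsurj : Function.Surjective ψ := by
    show Function.Surjective ψ.toLinearMap
    rw [← LinearMap.range_eq_top (f := ψ.toLinearMap), eq_top_iff, ← hT₀, Submodule.span_le]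
    rintro _ ⟨c, hc, rfl⟩
    have hcE : (c : R) ∈ E₀ := hsub (Or.inl (Finset.mem_coe.mpr
      (Finset.mem_image.mpr ⟨c, hc, rfl⟩)))
    exact ⟨(1 : A) ⊗ₜ[C] (⟨c, hcE⟩ : E₀), by
      show ψ ((1 : A) ⊗ₜ[C] (⟨c, hcE⟩ : E₀)) = _
      rw [Algebra.TensorProduct.map_tmul]
      rfl⟩
  let εψ : A ⊗[C] E₀ ≃ₐ[A] A ⊗[C] integralClosure C R := AlgEquiv.ofBijective ψ ⟨hψinj, hψsurj⟩
  haveI : Algebra.Etale A (A ⊗[C] E₀) := Algebra.Etale.of_equiv εψ.symm
  -- étale at the primes over `p`
  haveI : IsLocalRing A := IsLocalization.AtPrime.isLocalRing A p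
  have hcomap : (IsLocalRing.maximalIdeal A).comap (algebraMap C A) = p :=
    IsLocalization.AtPrime.comap_maximalIdeal A p
  have hEtp : Algebra.Etale (Localization.AtPrime p) (Localization.AtPrime p ⊗[C] E₀) :=
    etale_localization_tensor_of_flat (R := E₀) p A (IsLocalRing.maximalIdeal A) hcomap
  obtain ⟨a, hap, hEta⟩ := exists_etale_away_of_isEtaleAt E₀ p
    (fun P _ hP => isEtaleAt_of_etale_tensor p hEtp P hP)
  exact ⟨a, hap, E₀, hE₀fin, hα, hEta⟩

end Spread

section Assembly

/-- **Assembly**: after a flat base change `C → C₁` making the finite subalgebra `E₀` étale, the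
integral closure of `C₁` in the base-changed ring of sections is finite étale. -/
theorem finite_etale_integralClosure_of_subalgebra {C : Type u} [CommRing C] {n : ℕ}
    (x : Fin n → C) (R : Type u) [CommRing R] [Algebra C R] (E₀ : Subalgebra C R)
    [Module.Finite C E₀]
    (hα : ∀ (i : Fin n) (r : R), ∃ N : ℕ, x i ^ N • r ∈ E₀)
    (C₁ : Type u) [CommRing C₁] [Algebra C C₁] [Module.Flat C C₁]
    [Algebra.Etale C₁ (C₁ ⊗[C] E₀)]
    (R₁ : Type u) [CommRing R₁] [Algebra C₁ R₁] (κ : C₁ ⊗[C] R ≃ₐ[C₁] R₁)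
    (H1 : ∀ r : R₁, (∀ i, ∃ N : ℕ, (algebraMap C C₁ (x i)) ^ N • r = 0) → r = 0)
    (H4 : ∀ (q : Ideal C₁) [q.IsPrime], (∀ i, algebraMap C C₁ (x i) ∈ q) →
      IsDomain (Localization.AtPrime q) ∧ IsIntegrallyClosed (Localization.AtPrime q) ∧
        ∃ i, algebraMap C₁ (Localization.AtPrime q) (algebraMap C C₁ (x i)) ≠ 0) :
    Module.Finite C₁ (integralClosure C₁ R₁) ∧ Algebra.Etale C₁ (integralClosure C₁ R₁) := by
  let μ : C₁ ⊗[C] E₀ →ₐ[C₁] C₁ ⊗[C] R :=
    Algebra.TensorProduct.map (AlgHom.id C₁ C₁) E₀.val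
  have hμinj : Function.Injective μ :=
    Module.Flat.lTensor_preserves_injective_linearMap (M := C₁)
      E₀.val.toLinearMap Subtype.val_injective
  let φ : C₁ ⊗[C] E₀ →ₐ[C₁] R₁ := (κ : C₁ ⊗[C] R →ₐ[C₁] R₁).comp μ
  have hφinj : Function.Injective φ := κ.injective.comp hμinj
  have hsm : ∀ (c : C) (z : C₁ ⊗[C] R), algebraMap C C₁ c • z = c • z :=
    fun c z => algebraMap_smul C₁ c z
  have key : ∀ (i : Fin n) (z : C₁ ⊗[C] R), ∃ (N : ℕ) (e : C₁ ⊗[C] E₀),
      μ e = (algebraMap C C₁ (x i)) ^ N • z := by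
    intro i z
    induction z using TensorProduct.induction_on with
    | zero => exact ⟨0, 0, by simp⟩
    | tmul c r =>
      obtain ⟨N, hN⟩ := hα i r
      refine ⟨N, c ⊗ₜ[C] (⟨x i ^ N • r, hN⟩ : E₀), ?_⟩
      show c ⊗ₜ[C] (x i ^ N • r) = _
      rw [← map_pow, hsm, TensorProduct.tmul_smul]
    | add z z' hz hz' =>
      obtain ⟨N, e, he⟩ := hz
      obtain ⟨N', e', he'⟩ := hz'
      refine ⟨N + N', (algebraMap C C₁ (x i)) ^ N' • e + (algebraMap C C₁ (x i)) ^ N • e', ?_⟩
      rw [map_add, map_smul, map_smul, he, he', smul_smul, smul_smul, smul_add, ← pow_add,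
        ← pow_add, add_comm N' N]
  have H2 : ∀ (i : Fin n) (r : R₁), ∃ (N : ℕ) (e : C₁ ⊗[C] E₀),
      φ e = (algebraMap C C₁ (x i)) ^ N • r := by
    intro i r
    obtain ⟨N, e, he⟩ := key i (κ.symm r)
    refine ⟨N, e, ?_⟩
    show κ (μ e) = _
    rw [he, map_smul, κ.apply_symm_apply]
  exact finite_etale_integralClosure_of_range φ hφinj
    (exists_of_isIntegral (fun i => algebraMap C C₁ (x i)) φ hφinj H1 H2 H4)

end Assembly

end Groth.Agent.Lib.T2H3.Ext
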