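import Groth.Agent.Lib.T2H3PuritySchH

/-!
# Flat base change for the ring of sections of a finite étale cover of a quasi-compact open of
an affine scheme
-/

set_option autoImplicit false
set_option linter.unusedSectionVars false
set_option linter.style.haveILetI false
universe u
open AlgebraicGeometry CategoryTheory CategoryTheory.Limits TopologicalSpace Opposite TensorProduct

namespace Groth.Agent.Lib.T2H3.PuritySchG

open Groth.Agent.Lib.T2H3.Purity Groth.Agent.Lib.T2H3.PuritySch
open Groth.Agent.Lib.Helper26.FEtAffine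

section FlatBC

variable (C : Type u) [CommRing C] (C₁ : Type u) [CommRing C₁] [Algebra C C₁] [Module.Flat C C₁]
  (Us : (Spec (CommRingCat.of C)).Opens) (Vs : FEt.Cat (Us : Scheme.{u}))

theorem appLE_top_top {X Y : Scheme.{u}} (f : X ⟶ Y) (e : (⊤ : X.Opens) ≤ f ⁻¹ᵁ ⊤) :
    f.appLE ⊤ ⊤ e = f.appTop :=
  f.appLE_eq_app

theorem flat_bc : Flat (bc C C₁) := by
  rw [HasRingHomProperty.Spec_iff (P := @Flat)]
  exact (RingHom.flat_algebraMap_iff).mpr inferInstance

theorem isPushout_sections [CompactSpace (Us : Scheme.{u})] :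
    IsPushout ((total Us Vs).appTop) ((bc C C₁).appTop)
      ((pullback.fst (total Us Vs) (bc C C₁)).appTop)
      ((pullback.snd (total Us Vs) (bc C C₁)).appTop) := by
  haveI := flat_bc C C₁
  haveI : IsFinite Vs.hom := Vs.prop.1
  haveI : CompactSpace Vs.left := QuasiCompact.compactSpace_of_compactSpace (str C Us Vs)
  haveI : QuasiSeparatedSpace Vs.left :=
    quasiSeparatedSpace_of_quasiSeparated (total Us Vs)
  have H := IsPullback.of_hasPullback (total Us Vs) (bc C C₁)
  have piso := isIso_pushoutSection_of_isQuasiSeparated_of_flat_right H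
    (US := ⊤) (UT := ⊤) (UX := ⊤) (UY := ⊤) le_top le_top (by simp)
    (isAffineOpen_top _) (isAffineOpen_top _) isCompact_univ isQuasiSeparated_univ
  have := (isIso_pushoutSection_iff H (US := ⊤) (UT := ⊤) (UX := ⊤) (UY := ⊤) le_top le_top
    (by simp)).mp piso
  rw [appLE_top_top, appLE_top_top, appLE_top_top, appLE_top_top] at this
  exact this

/-- **Flat base change** for the ring of sections of a finite étale cover of a quasi-compact open
of an affine scheme. -/
theorem nonempty_algEquiv_tensor_secRing [CompactSpace (Us : Scheme.{u})] :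
    Nonempty (C₁ ⊗[C] SecRing C Us Vs ≃ₐ[C₁]
      SecRing C₁ ((bc C C₁) ⁻¹ᵁ Us) (bcObj Us Vs (bc C C₁))) := by
  let f := bc C C₁
  let iX := total Us Vs
  let U₁ : (Spec (CommRingCat.of C₁)).Opens := f ⁻¹ᵁ Us
  let V₁ : FEt.Cat (U₁ : Scheme.{u}) := bcObj Us Vs f
  let R := SecRing C Us Vs
  let R₁ := SecRing C₁ U₁ V₁
  have sq := isPushout_sections C C₁ Us Vs
  let γ : R →+* R₁ := (pullback.fst iX f).appTop.hom
  letI : Algebra R R₁ := γ.toAlgebra
  have hR : CommRingCat.ofHom (algebraMap C R) =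
      (Scheme.ΓSpecIso (CommRingCat.of C)).inv ≫ iX.appTop := rfl
  have hR₁ : CommRingCat.ofHom (algebraMap C₁ R₁) =
      (Scheme.ΓSpecIso (CommRingCat.of C₁)).inv ≫ (pullback.snd iX f).appTop := by
    have : V₁.hom ≫ U₁.ι = pullback.snd iX f := bcHom_ι Us Vs f
    show (Scheme.ΓSpecIso (CommRingCat.of C₁)).inv ≫ (V₁.hom ≫ U₁.ι).appTop = _
    rw [this]
    rfl
  have sq' : IsPushout (CommRingCat.ofHom (algebraMap C C₁)) (CommRingCat.ofHom (algebraMap C R))
      (CommRingCat.ofHom (algebraMap C₁ R₁)) (CommRingCat.ofHom (algebraMap R R₁)) := by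
    refine (sq.of_iso (Scheme.ΓSpecIso (CommRingCat.of C)) (Iso.refl _)
      (Scheme.ΓSpecIso (CommRingCat.of C₁)) (Iso.refl _) ?_ ?_ ?_ ?_).flip
    · rw [hR, Iso.refl_hom, Category.comp_id, Iso.hom_inv_id_assoc]
    · exact Scheme.ΓSpecIso_naturality (CommRingCat.ofHom (algebraMap C C₁))
    · rw [Iso.refl_hom, Iso.refl_hom, Category.comp_id, Category.id_comp]
      rfl
    · rw [hR₁, Iso.refl_hom, Category.comp_id, Iso.hom_inv_id_assoc]
  letI : Algebra C R₁ := ((algebraMap C₁ R₁).comp (algebraMap C C₁)).toAlgebra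
  haveI : IsScalarTower C C₁ R₁ := IsScalarTower.of_algebraMap_eq' rfl
  have hcomm : (algebraMap C₁ R₁).comp (algebraMap C C₁) =
      (algebraMap R R₁).comp (algebraMap C R) := by
    have := congrArg (fun t => t.hom) sq'.w
    exact this
  haveI : IsScalarTower C R R₁ := IsScalarTower.of_algebraMap_eq' hcomm
  haveI : Algebra.IsPushout C C₁ R R₁ := CommRingCat.isPushout_iff_isPushout.mp sq'
  exact ⟨Algebra.IsPushout.equiv C C₁ R R₁⟩

end FlatBC

end Groth.Agent.Lib.T2H3.PuritySchG
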