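import Groth.Agent.Lib.T2H3ExtB
import Groth.Agent.Lib.T2H3PuritySchI

/-!
# Charts for the relative normalization: integral closure version

* `finite_loc'`: the ring of sections of a finite étale cover of an open `Us ⊆ Spec C` is finite
  over each basic open contained in `Us` (no Hartogs hypothesis);
* `prop_fromNormalization_of_integralClosure`: over an affine base the relative normalization is
  finite étale as soon as the integral closure of the base ring in the ring of sections is;
* compatibility of rings of sections with isomorphisms and two-step base change;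
* density and the local ring of `X` at a point of a chart as an algebra over the chart.
-/

set_option autoImplicit false
set_option linter.unusedSectionVars false
set_option linter.style.haveILetI false
universe u

open AlgebraicGeometry CategoryTheory CategoryTheory.Limits TopologicalSpace Opposite TensorProduct

namespace Groth.Agent.Lib.T2H3.PuritySchG

open Groth.Agent.Lib.T2H3.Purity Groth.Agent.Lib.T2H3.PuritySch Groth.Agent.Lib.T2H3.Ext
open Groth.Agent.Lib.Helper26.FEtAffine

section FiniteLoc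

/-- the ring of sections of a finite étale cover of the whole affine scheme is finite. -/
theorem finite_secRing_of_eq_top (C₁ : Type u) [CommRing C₁]
    (U' : (Spec (CommRingCat.of C₁)).Opens) (hU' : U' = ⊤) (V' : FEt.Cat (U' : Scheme.{u})) :
    Module.Finite C₁ (SecRing C₁ U' V') := by
  subst hU'
  let S := Spec (CommRingCat.of C₁)
  haveI : IsFinite V'.hom := V'.prop.1
  haveI : IsIso (⊤ : S.Opens).ι := ⟨⟨S.topIso.inv, S.ι_toIso_inv, S.toIso_inv_ι⟩⟩
  haveI : IsFinite (V'.hom ≫ (⊤ : S.Opens).ι) := inferInstance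
  have h1 := Scheme.Hom.finite_appTop (V'.hom ≫ (⊤ : S.Opens).ι)
  apply RingHom.finite_algebraMap.mp
  rw [algebraMap_secRing]
  unfold secHom
  refine RingHom.Finite.comp h1 (RingHom.Finite.of_surjective _ ?_)
  exact ((ConcreteCategory.isIso_iff_bijective (Scheme.ΓSpecIso (CommRingCat.of C₁)).inv).mp
    inferInstance).2

variable (C : Type u) [CommRing C] (Us : (Spec (CommRingCat.of C)).Opens)
  (Vs : FEt.Cat (Us : Scheme.{u}))

/-- finiteness over a basic open contained in `Us`, without Hartogs. -/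
theorem finite_loc' [IsNoetherianRing C] (a : C)
    (ha : ∀ p : PrimeSpectrum C, a ∉ p.asIdeal → p ∈ Us) :
    Module.Finite (Localization.Away a) (Localization.Away a ⊗[C] SecRing C Us Vs) := by
  haveI := compactSpace_open C Us
  obtain ⟨κ⟩ := nonempty_algEquiv_tensor_secRing C (Localization.Away a) Us Vs
  have htop : (bc C (Localization.Away a)) ⁻¹ᵁ Us = ⊤ := by
    ext q
    simp only [Opens.coe_top, Set.mem_univ, iff_true]
    show (bc C (Localization.Away a)) q ∈ Us
    apply ha
    have h1 : (bc C (Localization.Away a)) q ∈ Set.range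
        (PrimeSpectrum.comap (algebraMap C (Localization.Away a))) := ⟨q, rfl⟩
    rw [PrimeSpectrum.localization_away_comap_range (Localization.Away a) a] at h1
    exact h1
  haveI := finite_secRing_of_eq_top (Localization.Away a) _ htop
    (bcObj Us Vs (bc C (Localization.Away a)))
  exact Module.Finite.equiv κ.symm.toLinearEquiv

end FiniteLoc

section ChartIC

variable (C : Type u) [CommRing C] (U : (Spec (CommRingCat.of C)).Opens)
  (V : FEt.Cat (U : Scheme.{u}))

/-- over an affine base, the relative normalization in `V` is finite étale when the integral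
closure of the base ring in `Γ(V, ⊤)` is finite étale. -/
theorem prop_fromNormalization_of_integralClosure
    [Module.Finite C (integralClosure C (SecRing C U V))]
    [Algebra.Etale C (integralClosure C (SecRing C U V))]
    [QuasiCompact (str C U V ≫ U.ι)] [QuasiSeparated (str C U V ≫ U.ι)] :
    FEt.prop (str C U V ≫ U.ι).fromNormalization := by
  let S := Spec (CommRingCat.of C)
  let g : V.left ⟶ S := str C U V ≫ U.ι
  let W₀ : S.affineOpens := ⟨⊤, isAffineOpen_top S⟩
  have h1 := g.ι_fromNormalization W₀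
  let c := g.normalizationOpenCover.f W₀
  have hc : c.opensRange = ⊤ := by
    rw [← g.fromNormalization_preimage W₀]
    rfl
  haveI : IsIso c := isIso_of_isOpenImmersion_of_opensRange_eq_top c hc
  haveI : IsIso (⊤ : S.Opens).ι := ⟨⟨S.topIso.inv, S.ι_toIso_inv, S.toIso_inv_ι⟩⟩
  haveI : IsIso ((isAffineOpen_top S).fromSpec) := by
    rw [← IsAffineOpen.isoSpec_inv_ι]
    infer_instance
  letI : Algebra Γ(S, ⊤) Γ(V.left, g ⁻¹ᵁ ⊤) := (g.app ⊤).hom.toAlgebra
  let φ₀ : Γ(S, ⊤) ⟶ CommRingCat.of (integralClosure Γ(S, ⊤) Γ(V.left, g ⁻¹ᵁ ⊤)) :=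
    g.normalizationDiagramMap.app (op (⊤ : S.Opens))
  have h2 : g.fromNormalization = inv c ≫ Spec.map φ₀ ≫ (isAffineOpen_top S).fromSpec := by
    rw [IsIso.eq_inv_comp]
    exact h1
  rw [h2, MorphismProperty.cancel_left_of_respectsIso FEt.prop,
    MorphismProperty.cancel_right_of_respectsIso FEt.prop]
  -- the ring level
  show FEt.prop (Spec.map φ₀)
  let ε : Γ(S, ⊤) ≅ CommRingCat.of C := Scheme.ΓSpecIso (CommRingCat.of C)
  have hfac : (g.app ⊤).hom = (secHom C U V).comp ε.hom.hom := by
    ext t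
    show (g.app ⊤).hom t = (g.appTop).hom (ε.inv.hom (ε.hom.hom t))
    have : ε.inv.hom (ε.hom.hom t) = t := by
      have := congrArg (fun m => m.hom t) ε.hom_inv_id
      exact this
    rw [this]
    rfl
  have hfac' : secHom C U V = (g.app ⊤).hom.comp ε.inv.hom := rfl
  have hmem : ∀ t : Γ(V.left, g ⁻¹ᵁ ⊤),
      t ∈ integralClosure Γ(S, ⊤) Γ(V.left, g ⁻¹ᵁ ⊤) ↔
        t ∈ integralClosure C (SecRing C U V) := by
    intro t
    constructor
    · intro ht
      have h3 : (g.app ⊤).hom.IsIntegralElem t := ht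
      rw [hfac] at h3
      exact RingHom.IsIntegralElem.of_comp h3
    · intro ht
      have h3 : (secHom C U V).IsIntegralElem t := ht
      rw [hfac'] at h3
      exact RingHom.IsIntegralElem.of_comp h3
  let κ : CommRingCat.of (integralClosure C (SecRing C U V)) ⟶
      CommRingCat.of (integralClosure Γ(S, ⊤) Γ(V.left, g ⁻¹ᵁ ⊤)) :=
    CommRingCat.ofHom
      { toFun := fun t => ⟨t.1, (hmem t.1).mpr t.2⟩
        map_one' := rfl
        map_mul' := fun _ _ => rfl
        map_zero' := rfl
        map_add' := fun _ _ => rfl }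
  haveI : IsIso κ := by
    rw [ConcreteCategory.isIso_iff_bijective]
    constructor
    · intro t t' h
      apply Subtype.ext
      have h' := congrArg Subtype.val h
      exact h'
    · rintro ⟨t, ht⟩
      exact ⟨⟨t, (hmem t).mp ht⟩, rfl⟩
  have hκ : ε.hom ≫ CommRingCat.ofHom (algebraMap C (integralClosure C (SecRing C U V))) ≫ κ =
      φ₀ := by
    ext t
    show (secHom C U V) (ε.hom.hom t) = (g.app ⊤).hom t
    rw [hfac]
    rfl
  rw [← hκ, Spec.map_comp, Spec.map_comp, MorphismProperty.cancel_right_of_respectsIso FEt.prop,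
    MorphismProperty.cancel_left_of_respectsIso FEt.prop]
  exact prop_specMap C (integralClosure C (SecRing C U V))

/-- a variant with the morphism given up to equality. -/
theorem prop_fromNormalization_of_integralClosure'
    [Module.Finite C (integralClosure C (SecRing C U V))]
    [Algebra.Etale C (integralClosure C (SecRing C U V))]
    (g : V.left ⟶ Spec (CommRingCat.of C)) (hg : g = str C U V ≫ U.ι)
    [QuasiCompact g] [QuasiSeparated g] : FEt.prop g.fromNormalization := by
  subst hg
  exact prop_fromNormalization_of_integralClosure C U V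

end ChartIC

section SecIso

variable (C : Type u) [CommRing C]

/-- the ring of sections only depends on the scheme over `Spec C`. -/
theorem nonempty_algEquiv_secRing_of_iso (Us Us' : (Spec (CommRingCat.of C)).Opens)
    (Vs : FEt.Cat (Us : Scheme.{u})) (Vs' : FEt.Cat (Us' : Scheme.{u}))
    (θ : Vs.left ≅ Vs'.left) (hθ : θ.hom ≫ (Vs'.hom ≫ Us'.ι) = Vs.hom ≫ Us.ι) :
    Nonempty (SecRing C Us' Vs' ≃ₐ[C] SecRing C Us Vs) := by
  let ψ : Γ(Vs'.left, ⊤) ⟶ Γ(Vs.left, ⊤) := θ.hom.appTop
  have hψ : Function.Bijective ψ := by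
    have h3' : IsIso θ.hom.appTop := inferInstanceAs (IsIso (θ.hom.app ⊤))
    exact (ConcreteCategory.isIso_iff_bijective _).mp h3'
  have hcomm : CommRingCat.ofHom (secHom C Us' Vs') ≫ ψ = CommRingCat.ofHom (secHom C Us Vs) := by
    show ((Scheme.ΓSpecIso (CommRingCat.of C)).inv ≫ (Vs'.hom ≫ Us'.ι).appTop) ≫ θ.hom.appTop =
      (Scheme.ΓSpecIso (CommRingCat.of C)).inv ≫ (Vs.hom ≫ Us.ι).appTop
    rw [Category.assoc, ← Scheme.Hom.comp_appTop, hθ]
  let ψ' : SecRing C Us' Vs' →ₐ[C] SecRing C Us Vs :=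
    { ψ.hom with
      commutes' := fun c => by
        have := congrArg (fun t => t.hom c) hcomm
        exact this }
  exact ⟨AlgEquiv.ofBijective ψ' hψ⟩

end SecIso

section Pasting

variable {X : Scheme.{u}} (U : X.Opens) (V : FEt.Cat (U : Scheme.{u}))
  {S S' : Scheme.{u}} (j : S ⟶ X) (k : S' ⟶ S)

/-- base change in two steps. -/
noncomputable def bcObjCompIso :
    pullback (total (j ⁻¹ᵁ U) (bcObj U V j)) k ≅ pullback (total U V) (k ≫ j) :=
  pullback.congrHom (bcHom_ι U V j) rfl ≪≫ pullbackLeftPullbackSndIso (total U V) j k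

theorem bcObjCompIso_hom_snd :
    (bcObjCompIso U V j k).hom ≫ pullback.snd (total U V) (k ≫ j) =
      pullback.snd (total (j ⁻¹ᵁ U) (bcObj U V j)) k := by
  have e1 : (pullbackLeftPullbackSndIso (total U V) j k).hom ≫ pullback.snd (total U V) (k ≫ j) =
      pullback.snd (pullback.snd (total U V) j) k := pullbackLeftPullbackSndIso_hom_snd _ _ _
  have e2 : (pullback.congrHom (bcHom_ι U V j) (rfl : k = k)).hom ≫
      pullback.snd (pullback.snd (total U V) j) k =
      pullback.snd (total (j ⁻¹ᵁ U) (bcObj U V j)) k := by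
    rw [pullback.congrHom_hom]
    exact (pullback.lift_snd _ _ _).trans (Category.comp_id _)
  unfold bcObjCompIso
  rw [Iso.trans_hom, Category.assoc, e1]
  exact e2

end Pasting

section PastingSec

variable {X : Scheme.{u}} (U : X.Opens) (V : FEt.Cat (U : Scheme.{u}))
  (C : Type u) [CommRing C] (j : Spec (CommRingCat.of C) ⟶ X)
  (C₁ : Type u) [CommRing C₁] [Algebra C C₁]

/-- the ring of sections of a two-step base change. -/
theorem nonempty_algEquiv_secRing_comp :
    Nonempty (SecRing C₁ ((bc C C₁) ⁻¹ᵁ (j ⁻¹ᵁ U)) (bcObj (j ⁻¹ᵁ U) (bcObj U V j) (bc C C₁)) ≃ₐ[C₁]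
      SecRing C₁ ((bc C C₁ ≫ j) ⁻¹ᵁ U) (bcObj U V (bc C C₁ ≫ j))) := by
  refine nonempty_algEquiv_secRing_of_iso C₁ ((bc C C₁ ≫ j) ⁻¹ᵁ U) ((bc C C₁) ⁻¹ᵁ (j ⁻¹ᵁ U))
    (bcObj U V (bc C C₁ ≫ j)) (bcObj (j ⁻¹ᵁ U) (bcObj U V j) (bc C C₁))
    (bcObjCompIso U V j (bc C C₁)).symm ?_
  have h1 : (bcObj U V (bc C C₁ ≫ j)).hom ≫ ((bc C C₁ ≫ j) ⁻¹ᵁ U).ι =
      pullback.snd (total U V) (bc C C₁ ≫ j) := bcHom_ι U V (bc C C₁ ≫ j)
  have h2 : (bcObj (j ⁻¹ᵁ U) (bcObj U V j) (bc C C₁)).hom ≫ ((bc C C₁) ⁻¹ᵁ (j ⁻¹ᵁ U)).ι =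
      pullback.snd (total (j ⁻¹ᵁ U) (bcObj U V j)) (bc C C₁) :=
    bcHom_ι (j ⁻¹ᵁ U) (bcObj U V j) (bc C C₁)
  rw [h1, h2, Iso.symm_hom, Iso.inv_comp_eq]
  exact (bcObjCompIso_hom_snd U V j (bc C C₁)).symm

end PastingSec

section Dense

variable (C : Type u) [CommRing C] (Us : (Spec (CommRingCat.of C)).Opens)

/-- density of `Us`: some member of a covering family does not vanish in the local ring at `q`. -/
theorem exists_algebraMap_ne_zero_of_dense (hd : Dense (Us : Set (Spec (CommRingCat.of C))))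
    {n : ℕ} (x : Fin n → C) (hx2 : ∀ p : PrimeSpectrum C, p ∈ Us → ∃ i, x i ∉ p.asIdeal)
    (q : Ideal C) [hq : q.IsPrime] (A : Type u) [CommRing A] [Algebra C A]
    [IsLocalization.AtPrime A q] : ∃ i, algebraMap C A (x i) ≠ 0 := by
  classical
  by_contra hcon
  push_neg at hcon
  have h1 : ∀ i, ∃ s : q.primeCompl, (s : C) * x i = 0 := fun i =>
    (IsLocalization.map_eq_zero_iff q.primeCompl A (x i)).mp (hcon i)
  choose s hs using h1
  let t : C := ∏ i, (s i : C)
  have ht : t ∉ q := by
    have : t ∈ q.primeCompl := Submonoid.prod_mem _ (fun i _ => (s i).2)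
    exact this
  have htx : ∀ i, t * x i = 0 := by
    intro i
    obtain ⟨c, hc⟩ : (s i : C) ∣ t := Finset.dvd_prod_of_mem _ (Finset.mem_univ i)
    rw [hc, mul_comm (s i : C) c, mul_assoc, hs i, mul_zero]
  have hopen : IsOpen ((PrimeSpectrum.basicOpen t : Set (PrimeSpectrum C))) :=
    (PrimeSpectrum.basicOpen t).isOpen
  have hne : ((PrimeSpectrum.basicOpen t : Set (PrimeSpectrum C))).Nonempty := ⟨⟨q, hq⟩, ht⟩
  obtain ⟨p', hp't, hp'U⟩ := hd.inter_open_nonempty _ hopen hne
  obtain ⟨i, hi⟩ := hx2 p' hp'U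
  have : t * x i ∈ p'.asIdeal := by rw [htx i]; exact Ideal.zero_mem _
  rcases p'.isPrime.mem_or_mem this with h | h
  · exact hp't h
  · exact hi h

end Dense

section StalkAlg

variable {X : Scheme.{u}} (C : Type u) [CommRing C] (j : Spec (CommRingCat.of C) ⟶ X)
  [IsOpenImmersion j] (p : Spec (CommRingCat.of C))

/-- the local ring of `X` at `j p` as a `C`-algebra. -/
noncomputable def stalkHom : C →+* X.presheaf.stalk (j p) :=
  (inv (j.stalkMap p)).hom.comp
    (@algebraMap C ((Spec (CommRingCat.of C)).presheaf.stalk p) _ _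
      (StructureSheaf.stalkAlgebra C p))

theorem specMap_stalkHom_comp :
    Spec.map (CommRingCat.ofHom (stalkHom C j p)) ≫ j = X.fromSpecStalk (j p) := by
  have h1 := Scheme.SpecMap_stalkMap_fromSpecStalk j (x := p)
  rw [Spec.fromSpecStalk_eq'] at h1
  have h2 : Spec.map (CommRingCat.ofHom (stalkHom C j p)) =
      Spec.map (inv (j.stalkMap p)) ≫
        Spec.map (StructureSheaf.toStalk (CommRingCat.of C) p) := by
    rw [← Spec.map_comp]
    rfl
  rw [h2, Category.assoc]
  have h3 : Spec.map (StructureSheaf.toStalk (CommRingCat.of C) p) ≫ j =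
      Spec.map (j.stalkMap p) ≫ X.fromSpecStalk (j p) := h1.symm
  calc Spec.map (inv (j.stalkMap p)) ≫ Spec.map (StructureSheaf.toStalk (CommRingCat.of C) p) ≫ j
      = Spec.map (inv (j.stalkMap p)) ≫ (Spec.map (j.stalkMap p) ≫ X.fromSpecStalk (j p)) :=
        congrArg _ h3
    _ = X.fromSpecStalk (j p) := by
        rw [← Category.assoc, ← Spec.map_comp, IsIso.hom_inv_id, Spec.map_id, Category.id_comp]

theorem isLocalization_stalkHom :
    @IsLocalization.AtPrime C _ (X.presheaf.stalk (j p)) _ (stalkHom C j p).toAlgebra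
      p.asIdeal _ := by
  letI : Algebra C (X.presheaf.stalk (j p)) := (stalkHom C j p).toAlgebra
  letI k : Algebra C ↑((Spec (CommRingCat.of C)).presheaf.stalk p) :=
    StructureSheaf.stalkAlgebra C p
  haveI : IsLocalization.AtPrime (↑((Spec (CommRingCat.of C)).presheaf.stalk p)) p.asIdeal :=
    StructureSheaf.IsLocalization.to_stalk C p
  let e1 : (Spec (CommRingCat.of C)).presheaf.stalk p ≃+* X.presheaf.stalk (j p) :=
    (asIso (j.stalkMap p)).symm.commRingCatIsoToRingEquiv
  let e2 : (Spec (CommRingCat.of C)).presheaf.stalk p ≃ₐ[C] X.presheaf.stalk (j p) :=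
    { e1 with
      commutes' := fun c => rfl }
  exact IsLocalization.isLocalization_of_algEquiv p.asIdeal.primeCompl e2

end StalkAlg

end Groth.Agent.Lib.T2H3.PuritySchG
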