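import Groth.Agent.Lib.T2H3ExtC

/-!
# Extension over a normal local base: the integral closure of the ring of sections

`A` a normal domain, `Ps ⊆ Spec A` a nonempty open, `Vξ` a finite étale cover of `Ps` which extends
to a finite étale cover of `Spec A`: the integral closure of `A` in `Γ(Vξ, ⊤)` is finite étale
(it is the extension).  Uses flat base change of sections and smooth base change of integral
closures.
-/

set_option autoImplicit false
set_option linter.unusedSectionVars false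
set_option linter.style.haveILetI false
universe u

open AlgebraicGeometry CategoryTheory CategoryTheory.Limits TopologicalSpace Opposite TensorProduct

namespace Groth.Agent.Lib.T2H3.PuritySchG

open Groth.Agent.Lib.T2H3.Purity Groth.Agent.Lib.T2H3.PuritySch Groth.Agent.Lib.T2H3.Ext
open Groth.Agent.Lib.Helper26.FEtAffine

section NormalOpen

/-- a normal domain is integrally closed in the ring of functions on a nonempty open of its
spectrum (bundled version). -/
theorem openHom_injective_and_closed_aux (R : CommRingCat.{u}) [IsDomain R] [IsIntegrallyClosed R]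
    (Ps : (Spec R).Opens) (hne : ∃ p : Spec R, p ∈ Ps) :
    Function.Injective ((Ps.ι.appTop).hom.comp (Scheme.ΓSpecIso R).inv.hom) ∧
      ∀ h : Γ((Ps : Scheme.{u}), ⊤),
        ((Ps.ι.appTop).hom.comp (Scheme.ΓSpecIso R).inv.hom).IsIntegralElem h →
        ∃ a : R, ((Ps.ι.appTop).hom.comp (Scheme.ΓSpecIso R).inv.hom) a = h := by
  let W : (Spec R).Opens := Ps.ι ''ᵁ ⊤
  have hW : W = Ps := Ps.ι_image_top
  have hη : genericPoint (Spec R) ∈ W := by
    rw [hW]
    obtain ⟨p, hp⟩ := hne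
    exact ((genericPoint_spec (Spec R)).mem_open_set_iff Ps.isOpen).mpr ⟨p, trivial, hp⟩
  let γ : Γ(Spec R, W) ⟶ (Spec R).functionField :=
    (Spec R).presheaf.germ W (genericPoint (Spec R)) hη
  have hγ : Function.Injective γ := germ_injective_of_isIntegral (Spec R) (genericPoint (Spec R)) hη
  have hχ : ∀ a : R, γ (((Ps.ι.appTop).hom.comp (Scheme.ΓSpecIso R).inv.hom) a) =
      algebraMap R (Spec R).functionField a := by
    intro a
    show ((Spec R).presheaf.germ W (genericPoint (Spec R)) hη)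
      (((Spec R).presheaf.map (homOfLE (x := W) le_top).op)
        ((Scheme.ΓSpecIso R).inv a)) = _
    rw [TopCat.Presheaf.germ_res_apply]
    rfl
  constructor
  · intro a a' h
    apply IsFractionRing.injective R (Spec R).functionField
    rw [← hχ, ← hχ, h]
  · intro h hint
    have h1 : _root_.IsIntegral R (γ h) := by
      obtain ⟨P, hP, hPh⟩ := hint
      refine ⟨P, hP, ?_⟩
      have := Polynomial.hom_eval₂ P ((Ps.ι.appTop).hom.comp (Scheme.ΓSpecIso R).inv.hom) γ.hom h
      rw [hPh, map_zero] at this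
      rw [this]
      congr 1
      ext a
      exact (hχ a).symm
    obtain ⟨a, ha⟩ := IsIntegrallyClosed.isIntegral_iff.mp h1
    refine ⟨a, ?_⟩
    apply hγ
    rw [hχ, ha]

variable (A : Type u) [CommRing A] (Ps : (Spec (CommRingCat.of A)).Opens)

/-- the structure map `A → Γ(Ps, ⊤)`. -/
noncomputable def openHom : A →+* Γ((Ps : Scheme.{u}), ⊤) :=
  (Ps.ι.appTop).hom.comp (Scheme.ΓSpecIso (CommRingCat.of A)).inv.hom

/-- a normal domain is integrally closed in the ring of functions on a nonempty open of its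
spectrum. -/
theorem openHom_injective_and_closed [IsDomain A] [IsIntegrallyClosed A]
    (hne : ∃ p : Spec (CommRingCat.of A), p ∈ Ps) :
    Function.Injective (openHom A Ps) ∧
      ∀ h : Γ((Ps : Scheme.{u}), ⊤), (openHom A Ps).IsIntegralElem h →
        ∃ a : A, openHom A Ps a = h :=
  openHom_injective_and_closed_aux (CommRingCat.of A) Ps hne

end NormalOpen

section ExtendsIC

variable (A : Type u) [CommRing A] [IsNoetherianRing A] (Ps : (Spec (CommRingCat.of A)).Opens)
  (Vξ : FEt.Cat (Ps : Scheme.{u}))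

/-- if `A` is integrally closed in `Γ(Ps, ⊤)` and the finite étale cover `Vξ` of `Ps` extends to
a finite étale cover of `Spec A`, the integral closure of `A` in `Γ(Vξ, ⊤)` is finite étale. -/
theorem finite_etale_integralClosure_secRing_of_extends
    (hinj : Function.Injective (openHom A Ps))
    (hcl : ∀ h : Γ((Ps : Scheme.{u}), ⊤), (openHom A Ps).IsIntegralElem h →
      ∃ a : A, openHom A Ps a = h)
    (Yξ : FEt.Cat (Spec (CommRingCat.of A))) (e : (FEt.restrict Ps.ι).obj Yξ ≅ Vξ) :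
    Module.Finite A (integralClosure A (SecRing A Ps Vξ)) ∧
      Algebra.Etale A (integralClosure A (SecRing A Ps Vξ)) := by
  obtain ⟨B, i1, i2, i3, i4, ⟨ε⟩⟩ := exists_iso_std A Yξ
  let e' : (FEt.restrict Ps.ι).obj (std A B) ≅ Vξ := ((FEt.restrict Ps.ι).mapIso ε).symm ≪≫ e
  let φ := Spec.map (CommRingCat.ofHom (algebraMap A B))
  let g := pullback.fst φ Ps.ι
  have hi1 : e'.inv.left ≫ e'.hom.left = 𝟙 _ := by
    rw [← MorphismProperty.Comma.comp_left, e'.inv_hom_id]; rfl
  have hi2 : e'.hom.left ≫ e'.inv.left = 𝟙 _ := by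
    rw [← MorphismProperty.Comma.comp_left, e'.hom_inv_id]; rfl
  let l : Vξ.left ⟶ pullback φ Ps.ι := e'.inv.left
  haveI : IsIso l := ⟨⟨e'.hom.left, hi1, hi2⟩⟩
  have hl : l ≫ pullback.snd φ Ps.ι = str A Ps Vξ := MorphismProperty.Over.w e'.inv
  -- flat base change
  haveI := compactSpace_open A Ps
  haveI := isQuasiAffine_open A Ps
  haveI : Module.Flat A B := inferInstance
  haveI : Flat φ := flat_bc A B
  have H := IsPullback.of_hasPullback φ Ps.ι
  have piso := isIso_pushoutSection_of_isQuasiSeparated_of_flat_left H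
    (US := ⊤) (UT := ⊤) (UX := ⊤) (UY := ⊤) le_top le_top (by simp)
    (isAffineOpen_top _) (isAffineOpen_top _) isCompact_univ isQuasiSeparated_univ
  have sq := (isIso_pushoutSection_iff H (US := ⊤) (UT := ⊤) (UX := ⊤) (UY := ⊤) le_top le_top
    (by simp)).mp piso
  rw [appLE_top_top, appLE_top_top, appLE_top_top, appLE_top_top] at sq
  -- the ring-level pushout
  let βhom : B →+* SecRing A Ps Vξ :=
    ((g.appTop ≫ l.appTop).hom).comp (Scheme.ΓSpecIso (CommRingCat.of B)).inv.hom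
  letI iH : Algebra A Γ((Ps : Scheme.{u}), ⊤) := (openHom A Ps).toAlgebra
  letI iBG : Algebra B (SecRing A Ps Vξ) := βhom.toAlgebra
  letI iHG : Algebra Γ((Ps : Scheme.{u}), ⊤) (SecRing A Ps Vξ) :=
    ((str A Ps Vξ).appTop).hom.toAlgebra
  have hAB : CommRingCat.ofHom (algebraMap A B) ≫ CommRingCat.ofHom βhom =
      CommRingCat.ofHom (secHom A Ps Vξ) := by
    show CommRingCat.ofHom (algebraMap A B) ≫
      ((Scheme.ΓSpecIso (CommRingCat.of B)).inv ≫ g.appTop ≫ l.appTop) = _
    rw [← Category.assoc, Scheme.ΓSpecIso_inv_naturality, Category.assoc,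
      ← Scheme.Hom.comp_appTop, ← Scheme.Hom.comp_appTop]
    have h4 : (l ≫ g) ≫ φ = str A Ps Vξ ≫ Ps.ι := by
      rw [← hl, Category.assoc, Category.assoc, pullback.condition]
    rw [h4]
    rfl
  haveI tAB : IsScalarTower A B (SecRing A Ps Vξ) := IsScalarTower.of_algebraMap_eq' (by
    have := congrArg (fun t => t.hom) hAB
    exact this.symm)
  haveI tAH : IsScalarTower A Γ((Ps : Scheme.{u}), ⊤) (SecRing A Ps Vξ) :=
    IsScalarTower.of_algebraMap_eq' (by
      show secHom A Ps Vξ = ((str A Ps Vξ).appTop).hom.comp (openHom A Ps)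
      unfold secHom openHom
      rw [Scheme.Hom.comp_appTop]
      rfl)
  haveI hlt : IsIso l.appTop := inferInstanceAs (IsIso (l.app ⊤))
  have sq' : IsPushout (CommRingCat.ofHom (algebraMap A B))
      (CommRingCat.ofHom (algebraMap A Γ((Ps : Scheme.{u}), ⊤)))
      (CommRingCat.ofHom (algebraMap B (SecRing A Ps Vξ)))
      (CommRingCat.ofHom (algebraMap Γ((Ps : Scheme.{u}), ⊤) (SecRing A Ps Vξ))) := by
    refine sq.of_iso (Scheme.ΓSpecIso (CommRingCat.of A)) (Scheme.ΓSpecIso (CommRingCat.of B))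
      (Iso.refl _) (@asIso _ _ _ _ l.appTop hlt) ?_ ?_ ?_ ?_
    · exact Scheme.ΓSpecIso_naturality (CommRingCat.ofHom (algebraMap A B))
    · rw [Iso.refl_hom, Category.comp_id]
      show _ = (Scheme.ΓSpecIso (CommRingCat.of A)).hom ≫
        ((Scheme.ΓSpecIso (CommRingCat.of A)).inv ≫ Ps.ι.appTop)
      rw [Iso.hom_inv_id_assoc]
    · show g.appTop ≫ l.appTop = (Scheme.ΓSpecIso (CommRingCat.of B)).hom ≫
        ((Scheme.ΓSpecIso (CommRingCat.of B)).inv ≫ g.appTop ≫ l.appTop)
      rw [Iso.hom_inv_id_assoc]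
    · rw [Iso.refl_hom, Category.id_comp]
      show (pullback.snd φ Ps.ι).appTop ≫ l.appTop = (str A Ps Vξ).appTop
      rw [← Scheme.Hom.comp_appTop, hl]
  haveI : Algebra.IsPushout A B Γ((Ps : Scheme.{u}), ⊤) (SecRing A Ps Vξ) :=
    CommRingCat.isPushout_iff_isPushout.mp sq'
  let κ : B ⊗[A] Γ((Ps : Scheme.{u}), ⊤) ≃ₐ[B] SecRing A Ps Vξ :=
    Algebra.IsPushout.equiv A B Γ((Ps : Scheme.{u}), ⊤) (SecRing A Ps Vξ)
  have hκ1 : ∀ b : B, κ (b ⊗ₜ[A] (1 : Γ((Ps : Scheme.{u}), ⊤))) =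
      algebraMap B (SecRing A Ps Vξ) b := fun b => by
    show Algebra.IsPushout.equiv A B Γ((Ps : Scheme.{u}), ⊤) (SecRing A Ps Vξ) _ = _
    rw [Algebra.IsPushout.equiv_tmul, map_one, mul_one]
  have hH : ∀ h : Γ((Ps : Scheme.{u}), ⊤), IsIntegral A h →
      ∃ a, algebraMap A Γ((Ps : Scheme.{u}), ⊤) a = h := hcl
  let ψ : B →ₐ[A] SecRing A Ps Vξ := IsScalarTower.toAlgHom A B (SecRing A Ps Vξ)
  have hψ : ∀ b : B, ψ b = κ (b ⊗ₜ[A] (1 : Γ((Ps : Scheme.{u}), ⊤))) := fun b => (hκ1 b).symm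
  have hinjψ : Function.Injective ψ := by
    have h1 : Function.Injective (fun b : B => b ⊗ₜ[A] (1 : Γ((Ps : Scheme.{u}), ⊤))) :=
      Algebra.TensorProduct.includeLeft_injective (R := A) (S := A) (A := B)
        (B := Γ((Ps : Scheme.{u}), ⊤)) hinj
    intro b b' hbb
    apply h1
    apply κ.injective
    show κ (b ⊗ₜ[A] (1 : Γ((Ps : Scheme.{u}), ⊤))) = κ (b' ⊗ₜ[A] (1 : Γ((Ps : Scheme.{u}), ⊤)))
    rw [← hψ, ← hψ, hbb]
  have hsurj : ∀ t : SecRing A Ps Vξ, IsIntegral A t → ∃ b, ψ b = t := by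
    intro t ht
    have h1 : IsIntegral B t := ht.tower_top
    have h2 : IsIntegral B (κ.symm t) := h1.map κ.symm
    obtain ⟨b, hb⟩ := exists_tmul_one_eq_of_isIntegral (A := A) (B := B)
      (H := Γ((Ps : Scheme.{u}), ⊤)) hH (κ.symm t) h2
    refine ⟨b, ?_⟩
    rw [hψ, hb, κ.apply_symm_apply]
  exact finite_etale_integralClosure_of_range ψ hinjψ hsurj

end ExtendsIC

section Translate

variable {X : Scheme.{u}} (U : X.Opens) (Y : FEt.Cat (U : Scheme.{u})) {S : Scheme.{u}} (j : S ⟶ X)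

/-- the base change of `Y` to `j⁻¹ U`, as a restriction. -/
noncomputable def bcObjIsoRestrict : bcObj U Y j ≅ (FEt.restrict (j ∣_ U)).obj Y :=
  MorphismProperty.Over.isoMk (isPullback_bcHom U Y j).isoPullback
    (isPullback_bcHom U Y j).isoPullback_hom_snd

/-- an extension of `Y` over the pullback `U ×_X S` is an extension over `j⁻¹ U`. -/
theorem nonempty_iso_bcObj_of_iso (Yξ : FEt.Cat S)
    (φ : (FEt.restrict (pullback.snd U.ι j)).obj Yξ ≅ (FEt.restrict (pullback.fst U.ι j)).obj Y) :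
    Nonempty ((FEt.restrict (j ⁻¹ᵁ U).ι).obj Yξ ≅ bcObj U Y j) := by
  let ρ : ((j ⁻¹ᵁ U : S.Opens) : Scheme.{u}) ≅ pullback U.ι j :=
    (isPullback_morphismRestrict j U).isoPullback
  have h1 : ρ.hom ≫ pullback.snd U.ι j = (j ⁻¹ᵁ U).ι :=
    (isPullback_morphismRestrict j U).isoPullback_hom_snd
  have h2 : ρ.hom ≫ pullback.fst U.ι j = j ∣_ U :=
    (isPullback_morphismRestrict j U).isoPullback_hom_fst
  let a1 : FEt.restrict (j ⁻¹ᵁ U).ι ≅ FEt.restrict (ρ.hom ≫ pullback.snd U.ι j) :=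
    MorphismProperty.Over.pullbackCongr h1.symm
  let a2 : FEt.restrict (ρ.hom ≫ pullback.snd U.ι j) ≅
      FEt.restrict (pullback.snd U.ι j) ⋙ FEt.restrict ρ.hom :=
    MorphismProperty.Over.pullbackComp ρ.hom (pullback.snd U.ι j)
  let a3 : FEt.restrict (ρ.hom ≫ pullback.fst U.ι j) ≅
      FEt.restrict (pullback.fst U.ι j) ⋙ FEt.restrict ρ.hom :=
    MorphismProperty.Over.pullbackComp ρ.hom (pullback.fst U.ι j)
  let a4 : FEt.restrict (ρ.hom ≫ pullback.fst U.ι j) ≅ FEt.restrict (j ∣_ U) :=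
    MorphismProperty.Over.pullbackCongr h2
  exact ⟨a1.app Yξ ≪≫ a2.app Yξ ≪≫ (FEt.restrict ρ.hom).mapIso φ ≪≫ (a3.app Y).symm ≪≫
    a4.app Y ≪≫ (bcObjIsoRestrict U Y j).symm⟩

end Translate

end Groth.Agent.Lib.T2H3.PuritySchG
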