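import Groth.Agent.Lib.T2H3ExtD
import Groth.Agent.Lib.Helper28Catenary

set_option autoImplicit false
set_option linter.unusedSectionVars false
set_option linter.style.haveILetI false
universe u

open AlgebraicGeometry CategoryTheory CategoryTheory.Limits TopologicalSpace Opposite TensorProduct

namespace Groth.Agent.Lib.T2H3.PuritySchG

open Groth.Agent.Lib.T2H3.Purity Groth.Agent.Lib.T2H3.PuritySch Groth.Agent.Lib.T2H3.Ext
open Groth.Agent.Lib.Helper26.FEtAffine

section CodimOne

variable {X : Scheme.{u}} (U : X.Opens) (V : FEt.Cat (U : Scheme.{u}))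
  (C : Type u) [CommRing C] [IsNoetherianRing C] (j : Spec (CommRingCat.of C) ⟶ X)

/-- the codimension-one input in a chart: if `V` extends over the normal local scheme `Spec A`
(flat over the chart), the integral closure of `A` in the base change of the ring of sections is
finite étale. -/
theorem finite_etale_integralClosure_tensor_of_extends
    (A : Type u) [CommRing A] [Algebra C A] [Module.Flat C A] [IsNoetherianRing A] [IsDomain A]
    [IsIntegrallyClosed A]
    (hne : ∃ z : Spec (CommRingCat.of A), z ∈ (bc C A ≫ j) ⁻¹ᵁ U)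
    (Yξ : FEt.Cat (Spec (CommRingCat.of A)))
    (φ : (FEt.restrict (pullback.snd U.ι (bc C A ≫ j))).obj Yξ ≅
      (FEt.restrict (pullback.fst U.ι (bc C A ≫ j))).obj V) :
    Module.Finite A (integralClosure A (A ⊗[C] SecRing C (j ⁻¹ᵁ U) (bcObj U V j))) ∧
      Algebra.Etale A (integralClosure A (A ⊗[C] SecRing C (j ⁻¹ᵁ U) (bcObj U V j))) := by
  obtain ⟨e⟩ := nonempty_iso_bcObj_of_iso U V (bc C A ≫ j) Yξ φ
  obtain ⟨hinj, hcl⟩ := openHom_injective_and_closed A ((bc C A ≫ j) ⁻¹ᵁ U) hne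
  obtain ⟨h1, h2⟩ := finite_etale_integralClosure_secRing_of_extends A _
    (bcObj U V (bc C A ≫ j)) hinj hcl Yξ e
  haveI := compactSpace_open C (j ⁻¹ᵁ U)
  obtain ⟨κ₁⟩ := nonempty_algEquiv_tensor_secRing C A (j ⁻¹ᵁ U) (bcObj U V j)
  obtain ⟨κ₂⟩ := nonempty_algEquiv_secRing_comp U V C j A
  let e₃ := (κ₁.trans κ₂).mapIntegralClosure
  exact ⟨Module.Finite.equiv e₃.symm.toLinearEquiv, Algebra.Etale.of_equiv e₃.symm⟩

end CodimOne

section SecondChart

variable {X : Scheme.{u}} (U : X.Opens) (V : FEt.Cat (U : Scheme.{u}))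
  (C : Type u) [CommRing C] [IsNoetherianRing C] (j : Spec (CommRingCat.of C) ⟶ X)
  [IsOpenImmersion j]

/-- in the smaller chart `Spec C[1/a]`, the relative normalization is finite étale. -/
theorem prop_pullback_snd_fromNormalization_away
    (hU : Dense (U : Set X))
    (hreg : ∀ z : X, z ∉ U → IsRegularLocalRing (X.presheaf.stalk z))
    {n : ℕ} (x : Fin n → C)
    (hx2 : ∀ p : PrimeSpectrum C, p ∈ j ⁻¹ᵁ U → ∃ i, x i ∉ p.asIdeal)
    (a : C) (E₀ : Subalgebra C (SecRing C (j ⁻¹ᵁ U) (bcObj U V j))) [Module.Finite C E₀]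
    (hα : ∀ (i : Fin n) (r : SecRing C (j ⁻¹ᵁ U) (bcObj U V j)), ∃ N : ℕ, x i ^ N • r ∈ E₀)
    [Algebra.Etale (Localization.Away a) (Localization.Away a ⊗[C] E₀)]
    [QuasiCompact (total U V)] [QuasiSeparated (total U V)] :
    FEt.prop (pullback.snd (total U V).fromNormalization (bc C (Localization.Away a) ≫ j)) := by
  let C₁ := Localization.Away a
  let j₁ : Spec (CommRingCat.of C₁) ⟶ X := bc C C₁ ≫ j
  haveI : IsOpenImmersion j₁ := inferInstance
  haveI : IsNoetherianRing C₁ :=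
    IsLocalization.isNoetherianRing (Submonoid.powers a) C₁ inferInstance
  let Us₁ : (Spec (CommRingCat.of C₁)).Opens := j₁ ⁻¹ᵁ U
  let Vs₁ : FEt.Cat (Us₁ : Scheme.{u}) := bcObj U V j₁
  have hx2' : ∀ q : PrimeSpectrum C₁, q ∈ Us₁ → ∃ i, algebraMap C C₁ (x i) ∉ q.asIdeal := by
    intro q hq
    have hq' : (bc C C₁) q ∈ j ⁻¹ᵁ U := hq
    obtain ⟨i, hi⟩ := hx2 _ hq'
    exact ⟨i, hi⟩
  -- the base change isomorphism
  haveI := compactSpace_open C (j ⁻¹ᵁ U)
  obtain ⟨κ₁⟩ := nonempty_algEquiv_tensor_secRing C C₁ (j ⁻¹ᵁ U) (bcObj U V j)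
  obtain ⟨κ₂⟩ := nonempty_algEquiv_secRing_comp U V C j C₁
  -- locality
  have H1 : ∀ r : SecRing C₁ Us₁ Vs₁,
      (∀ i, ∃ N : ℕ, (algebraMap C C₁ (x i)) ^ N • r = 0) → r = 0 := by
    intro r hr
    let y : Fin n → Γ(Vs₁.left, ⊤) := fun i =>
      algebraMap C₁ (SecRing C₁ Us₁ Vs₁) (algebraMap C C₁ (x i))
    have hcov := le_iSup_basicOpen C₁ Us₁ Vs₁ (fun i => algebraMap C C₁ (x i)) hx2'
    refine eq_zero_of_forall_pow_mul y hcov r (fun i => ?_)
    obtain ⟨N, hN⟩ := hr i
    refine ⟨N, ?_⟩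
    rw [Algebra.smul_def, map_pow] at hN
    exact hN
  -- normality along the boundary
  have hd₁ : Dense (Us₁ : Set (Spec (CommRingCat.of C₁))) :=
    hU.preimage j₁.isOpenEmbedding.isOpenMap
  have H4 : ∀ (q : Ideal C₁) [q.IsPrime], (∀ i, algebraMap C C₁ (x i) ∈ q) →
      IsDomain (Localization.AtPrime q) ∧ IsIntegrallyClosed (Localization.AtPrime q) ∧
        ∃ i, algebraMap C₁ (Localization.AtPrime q) (algebraMap C C₁ (x i)) ≠ 0 := by
    intro q hq hxq
    let Q : Spec (CommRingCat.of C₁) := ⟨q, hq⟩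
    have hQ : Q ∉ Us₁ := by
      intro hQU
      obtain ⟨i, hi⟩ := hx2' Q hQU
      exact hi (hxq i)
    obtain ⟨e⟩ := nonempty_ringEquiv_stalk C₁ j₁ Q
    haveI := hreg (j₁ Q) hQ
    haveI : IsRegularLocalRing (Localization.AtPrime q) := IsRegularLocalRing.of_ringEquiv e
    exact ⟨Groth.Agent.Lib.Helper5.isDomain_of_isRegularLocalRing _,
      Groth.Agent.Lib.Helper28.isIntegrallyClosed_of_isRegularLocalRing _,
      exists_algebraMap_ne_zero_of_dense C₁ Us₁ hd₁ (fun i => algebraMap C C₁ (x i)) hx2' q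
        (Localization.AtPrime q)⟩
  obtain ⟨hfin, het⟩ := finite_etale_integralClosure_of_subalgebra x
    (SecRing C (j ⁻¹ᵁ U) (bcObj U V j)) E₀ hα C₁ (SecRing C₁ Us₁ Vs₁) (κ₁.trans κ₂) H1 H4
  have h1 : FEt.prop (pullback.snd (total U V) j₁).fromNormalization :=
    @prop_fromNormalization_of_integralClosure' C₁ _ Us₁ Vs₁ hfin het (pullback.snd (total U V) j₁)
      (bcHom_ι U V j₁).symm (inferInstanceAs (QuasiCompact (pullback.snd (total U V) j₁)))
      (inferInstanceAs (QuasiSeparated (pullback.snd (total U V) j₁)))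
  rw [← Scheme.Hom.normalizationPullback_snd] at h1
  exact (MorphismProperty.cancel_left_of_respectsIso FEt.prop _ _).mp h1

end SecondChart

section Claim

variable {X : Scheme.{u}} [IsLocallyNoetherian X] (U : X.Opens) (V : FEt.Cat (U : Scheme.{u}))

/-- **The codimension-one step**: around a point `ξ ∉ U` with regular local ring over which `V`
extends, the relative normalization is finite étale. -/
theorem exists_chart_prop_of_extends
    (hU : Dense (U : Set X))
    (hreg : ∀ z : X, z ∉ U → IsRegularLocalRing (X.presheaf.stalk z))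
    (ξ : X) (hξ : ξ ∉ U)
    (hext : ∃ Yξ : FEt.Cat (Spec (X.presheaf.stalk ξ)),
      Nonempty ((FEt.restrict (pullback.snd U.ι (X.fromSpecStalk ξ))).obj Yξ ≅
        (FEt.restrict (pullback.fst U.ι (X.fromSpecStalk ξ))).obj V))
    [QuasiCompact (total U V)] [QuasiSeparated (total U V)] :
    ∃ (C₁ : Type u) (_ : CommRing C₁) (j₁ : Spec (CommRingCat.of C₁) ⟶ X)
      (_ : IsOpenImmersion j₁), ξ ∈ Set.range j₁ ∧
        FEt.prop (pullback.snd (total U V).fromNormalization j₁) := by
  obtain ⟨C₀, j, hj, p, hp⟩ : ∃ (C₀ : CommRingCat.{u}) (j : Spec C₀ ⟶ X) (_ : IsOpenImmersion j),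
      ∃ p, j p = ξ := by
    let 𝒰 := X.affineOpenCover
    obtain ⟨p, hp⟩ := 𝒰.covers ξ
    exact ⟨𝒰.X (𝒰.idx ξ), 𝒰.f (𝒰.idx ξ), inferInstance, p, hp⟩
  subst hp
  let C : Type u := C₀
  change Spec (CommRingCat.of C) ⟶ X at j
  change Spec (CommRingCat.of C) at p
  haveI : IsOpenImmersion j := hj
  haveI : IsNoetherianRing C := by
    have : IsLocallyNoetherian (Spec (CommRingCat.of C)) :=
      isLocallyNoetherian_of_isOpenImmersion j
    exact isLocallyNoetherian_Spec.mp this
  let Us : (Spec (CommRingCat.of C)).Opens := j ⁻¹ᵁ U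
  let Vs : FEt.Cat (Us : Scheme.{u}) := bcObj U V j
  obtain ⟨n, x, hx1, hx2⟩ := exists_family C Us
  have hd : Dense (Us : Set (Spec (CommRingCat.of C))) :=
    hU.preimage j.isOpenEmbedding.isOpenMap
  -- the local ring at `ξ`
  let A : Type u := X.presheaf.stalk (j p)
  letI : Algebra C A := (stalkHom C j p).toAlgebra
  haveI hloc : IsLocalization.AtPrime A p.asIdeal := isLocalization_stalkHom C j p
  haveI : Module.Flat C A := IsLocalization.flat A p.asIdeal.primeCompl
  haveI : IsNoetherianRing A :=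
    IsLocalization.isNoetherianRing p.asIdeal.primeCompl A inferInstance
  haveI hregA : IsRegularLocalRing A := hreg _ hξ
  haveI : IsDomain A := Groth.Agent.Lib.Helper5.isDomain_of_isRegularLocalRing A
  haveI : IsIntegrallyClosed A :=
    Groth.Agent.Lib.Helper28.isIntegrallyClosed_of_isRegularLocalRing A
  have hjξ : bc C A ≫ j = X.fromSpecStalk (j p) := specMap_stalkHom_comp C j p
  obtain ⟨Yξ, ⟨φ⟩⟩ := hext
  rw [← hjξ] at φ
  -- the generic point lies over `U`
  have hne : ∃ z : Spec (CommRingCat.of A), z ∈ (bc C A ≫ j) ⁻¹ᵁ U := by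
    obtain ⟨i, hi⟩ := exists_algebraMap_ne_zero_of_dense C Us hd x hx2 p.asIdeal A
    refine ⟨⟨⊥, Ideal.isPrime_bot⟩, ?_⟩
    show (bc C A) ⟨⊥, Ideal.isPrime_bot⟩ ∈ Us
    apply hx1 i
    intro hmem
    exact hi hmem
  obtain ⟨hA1, hA2⟩ := finite_etale_integralClosure_tensor_of_extends U V C j A hne Yξ φ
  -- spreading out
  obtain ⟨a, hap, E₀, hE₀fin, hα, hEta⟩ := exists_etale_subalgebra x (SecRing C Us Vs)
    (fun i => finite_loc' C Us Vs (x i) (hx1 i)) p.asIdeal A hA1 hA2
  haveI := hE₀fin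
  haveI := hEta
  refine ⟨Localization.Away a, inferInstance, bc C (Localization.Away a) ≫ j, inferInstance,
    ?_, prop_pullback_snd_fromNormalization_away U V C j hU hreg x hx2 a E₀ hα⟩
  have h1 : p ∈ Set.range (bc C (Localization.Away a)) := by
    have : Set.range (bc C (Localization.Away a)) = Set.range
        (PrimeSpectrum.comap (algebraMap C (Localization.Away a))) := rfl
    rw [this, PrimeSpectrum.localization_away_comap_range (Localization.Away a) a]
    exact hap
  obtain ⟨q, rfl⟩ := h1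
  exact ⟨q, rfl⟩

end Claim

section StepB

variable {X : Scheme.{u}} [IsLocallyNoetherian X] (U : X.Opens) (V : FEt.Cat (U : Scheme.{u}))

/-- purity over a chart, with regularity only outside `U`. -/
theorem prop_pullback_snd_fromNormalization_of_regular_outside
    (hreg : ∀ x : X, x ∉ U → IsRegularLocalRing (X.presheaf.stalk x))
    (hdim : ∀ x : X, x ∉ U → (2 : WithBot ℕ∞) ≤ ringKrullDim (X.presheaf.stalk x))
    (C : Type u) [CommRing C] (j : Spec (CommRingCat.of C) ⟶ X) [IsOpenImmersion j]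
    [QuasiCompact (total U V)] [QuasiSeparated (total U V)] :
    FEt.prop (pullback.snd (total U V).fromNormalization j) := by
  haveI : IsNoetherianRing C := by
    have : IsLocallyNoetherian (Spec (CommRingCat.of C)) :=
      isLocallyNoetherian_of_isOpenImmersion j
    exact isLocallyNoetherian_Spec.mp this
  let Us : (Spec (CommRingCat.of C)).Opens := j ⁻¹ᵁ U
  let Vs : FEt.Cat (Us : Scheme.{u}) := bcObj U V j
  obtain ⟨n, x, hx1, hx2⟩ := exists_family C Us
  have hregloc : ∀ (p : Ideal C) [hp : p.IsPrime], (⟨p, hp⟩ : PrimeSpectrum C) ∉ Us →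
      IsRegularLocalRing (Localization.AtPrime p) ∧
        (2 : WithBot ℕ∞) ≤ ringKrullDim (Localization.AtPrime p) := by
    intro p hp hpU
    let P : Spec (CommRingCat.of C) := ⟨p, hp⟩
    obtain ⟨e⟩ := nonempty_ringEquiv_stalk C j P
    haveI := hreg (j P) hpU
    refine ⟨IsRegularLocalRing.of_ringEquiv e, ?_⟩
    rw [← ringKrullDim_eq_of_ringEquiv e]
    exact hdim (j P) hpU
  obtain ⟨hH, hfin, het⟩ := finite_etale_secRing C Us Vs x hx1 hx2 hregloc
  have h1 : FEt.prop (pullback.snd (total U V) j).fromNormalization :=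
    @prop_fromNormalization_of_finite_etale' C _ Us Vs hfin het (pullback.snd (total U V) j)
      (bcHom_ι U V j).symm (inferInstanceAs (QuasiCompact (pullback.snd (total U V) j)))
      (inferInstanceAs (QuasiSeparated (pullback.snd (total U V) j)))
  rw [← Scheme.Hom.normalizationPullback_snd] at h1
  exact (MorphismProperty.cancel_left_of_respectsIso FEt.prop _ _).mp h1

/-- **Purity, essential surjectivity, with regularity only outside `U`.** -/
theorem exists_extension_of_regular_outside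
    (hreg : ∀ x : X, x ∉ U → IsRegularLocalRing (X.presheaf.stalk x))
    (hdim : ∀ x : X, x ∉ U → (2 : WithBot ℕ∞) ≤ ringKrullDim (X.presheaf.stalk x)) :
    ∃ Y' : FEt.Cat X, Nonempty ((FEt.restrict U.ι).obj Y' ≅ V) := by
  haveI := quasiCompact_total' U V
  haveI := quasiSeparated_total' U V
  let 𝒰 := X.affineOpenCover
  have key : ∀ i, FEt.prop (pullback.snd (total U V).fromNormalization (𝒰.f i)) := fun i =>
    @prop_pullback_snd_fromNormalization_of_regular_outside X _ U V hreg hdim (𝒰.X i) _ (𝒰.f i)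
      (inferInstanceAs (IsOpenImmersion (𝒰.f i))) _ _
  have hprop : FEt.prop (total U V).fromNormalization := by
    constructor
    · rw [IsZariskiLocalAtTarget.iff_of_openCover (P := @IsFinite) 𝒰.openCover]
      intro i
      exact (key i).1
    · rw [IsZariskiLocalAtTarget.iff_of_openCover (P := @Etale) 𝒰.openCover]
      intro i
      exact (key i).2
  let W : FEt.Cat X := MorphismProperty.Over.mk ⊤ (total U V).fromNormalization hprop
  obtain ⟨Θ, hΘ⟩ := exists_iso_pullback_fromNormalization' U V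
  refine ⟨W, ⟨MorphismProperty.Over.isoMk Θ.symm ?_⟩⟩
  rw [Iso.symm_hom, Iso.inv_comp_eq]
  exact hΘ.symm

end StepB

section Locus

variable {X N : Scheme.{u}} (ν : N ⟶ X)

/-- the locus of `X` over which `ν` is finite étale. -/
def fetLocus : X.Opens where
  carrier := {z | ∃ (S : Scheme.{u}) (i : S ⟶ X) (_ : IsOpenImmersion i),
    z ∈ Set.range i ∧ FEt.prop (pullback.snd ν i)}
  is_open' := by
    rw [isOpen_iff_forall_mem_open]
    rintro z ⟨S, i, hi, hz, hP⟩
    exact ⟨Set.range i, fun w hw => ⟨S, i, hi, hw, hP⟩, i.isOpenEmbedding.isOpen_range, hz⟩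

theorem mem_fetLocus {S : Scheme.{u}} (i : S ⟶ X) [hi : IsOpenImmersion i]
    (hP : FEt.prop (pullback.snd ν i)) {z : X} (hz : z ∈ Set.range i) : z ∈ fetLocus ν :=
  ⟨S, i, hi, hz, hP⟩

theorem prop_morphismRestrict_of_mem (U₁ : X.Opens) (z' : (U₁ : Scheme.{u}))
    (hz : U₁.ι z' ∈ fetLocus ν) :
    ∃ W : (U₁ : Scheme.{u}).Opens, z' ∈ W ∧ FEt.prop ((pullback.snd ν U₁.ι) ∣_ W) := by
  obtain ⟨S, i, hi, hzi, hP⟩ := hz
  let f := pullback.snd ν U₁.ι
  let W : (U₁ : Scheme.{u}).Opens := U₁.ι ⁻¹ᵁ i.opensRange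
  refine ⟨W, hzi, ?_⟩
  have hrange : Set.range (W.ι ≫ U₁.ι) ⊆ Set.range i := by
    rintro _ ⟨w, rfl⟩
    exact w.2
  let t : (W : Scheme.{u}) ⟶ S := IsOpenImmersion.lift i (W.ι ≫ U₁.ι) hrange
  have ht : t ≫ i = W.ι ≫ U₁.ι := IsOpenImmersion.lift_fac _ _ hrange
  have sqA : IsPullback (f ⁻¹ᵁ W).ι (f ∣_ W) f W.ι := (isPullback_morphismRestrict f W).flip
  have sqB : IsPullback (pullback.fst ν U₁.ι) f ν U₁.ι := IsPullback.of_hasPullback ν U₁.ι
  have big := sqA.paste_horiz sqB
  rw [← ht] at big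
  have left := IsPullback.of_right' big (IsPullback.of_hasPullback ν i)
  exact MorphismProperty.of_isPullback left hP

/-- `ν` is finite étale over its finite étale locus. -/
theorem prop_pullback_snd_fetLocus : FEt.prop (pullback.snd ν (fetLocus ν).ι) := by
  constructor
  · apply IsZariskiLocalAtTarget.of_forall_exists_morphismRestrict (P := @IsFinite) fun z' => ?_
    obtain ⟨W, hW, hP⟩ := prop_morphismRestrict_of_mem ν (fetLocus ν) z' z'.2
    exact ⟨W, hW, hP.1⟩
  · apply IsZariskiLocalAtTarget.of_forall_exists_morphismRestrict (P := @Etale) fun z' => ?_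
    obtain ⟨W, hW, hP⟩ := prop_morphismRestrict_of_mem ν (fetLocus ν) z' z'.2
    exact ⟨W, hW, hP.2⟩

end Locus

end Groth.Agent.Lib.T2H3.PuritySchG
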