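import Groth.Agent.Lib.T2H3ExtE

set_option autoImplicit false
set_option linter.unusedSectionVars false
set_option linter.style.haveILetI false
universe u

open AlgebraicGeometry CategoryTheory CategoryTheory.Limits TopologicalSpace Opposite TensorProduct

namespace Groth.Agent.Lib.T2H3.PuritySchG

open Groth.Agent.Lib.T2H3.Purity Groth.Agent.Lib.T2H3.PuritySch Groth.Agent.Lib.T2H3.Ext
open Groth.Agent.Lib.Helper26.FEtAffine

section Final

theorem two_le_of_ne {d : WithBot ℕ∞} (h0 : 0 ≤ d) (h1 : d ≠ 0) (h2 : d ≠ 1) : 2 ≤ d := by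
  induction d with
  | bot => simp at h0
  | coe n =>
    induction n with
    | top => exact_mod_cast le_top
    | coe m =>
      have hm0 : m ≠ 0 := by
        rintro rfl
        exact h1 rfl
      have hm1 : m ≠ 1 := by
        rintro rfl
        exact h2 rfl
      have : 2 ≤ m := by omega
      have h2' : (2 : ℕ∞) ≤ (m : ℕ∞) := by exact_mod_cast this
      exact WithBot.coe_le_coe.mpr h2'

variable {X : Scheme.{u}} [IsLocallyNoetherian X] (U : X.Opens)

/-- a point outside a dense open whose local ring is a domain has positive-dimensional local ring. -/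
theorem ringKrullDim_stalk_ne_zero_of_dense (hU : Dense (U : Set X)) (z : X) (hz : z ∉ U)
    [IsDomain (X.presheaf.stalk z)] : ringKrullDim (X.presheaf.stalk z) ≠ 0 := by
  intro hdim
  obtain ⟨C₀, j, hj, p, hp⟩ : ∃ (C₀ : CommRingCat.{u}) (j : Spec C₀ ⟶ X) (_ : IsOpenImmersion j),
      ∃ p, j p = z := by
    let 𝒰 := X.affineOpenCover
    obtain ⟨p, hp⟩ := 𝒰.covers z
    exact ⟨𝒰.X (𝒰.idx z), 𝒰.f (𝒰.idx z), inferInstance, p, hp⟩
  subst hp
  let C : Type u := C₀
  change Spec (CommRingCat.of C) ⟶ X at j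
  change Spec (CommRingCat.of C) at p
  haveI : IsOpenImmersion j := hj
  haveI : IsNoetherianRing C := by
    have : IsLocallyNoetherian (Spec (CommRingCat.of C)) :=
      isLocallyNoetherian_of_isOpenImmersion j
    exact isLocallyNoetherian_Spec.mp this
  let Us : (Spec (CommRingCat.of C)).Opens := j ⁻¹ᵁ U
  obtain ⟨n, x, hx1, hx2⟩ := exists_family C Us
  have hd : Dense (Us : Set (Spec (CommRingCat.of C))) :=
    hU.preimage j.isOpenEmbedding.isOpenMap
  let A : Type u := X.presheaf.stalk (j p)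
  letI : Algebra C A := (stalkHom C j p).toAlgebra
  haveI hloc : IsLocalization.AtPrime A p.asIdeal := isLocalization_stalkHom C j p
  obtain ⟨i, hi⟩ := exists_algebraMap_ne_zero_of_dense C Us hd x hx2 p.asIdeal A
  have hxp : x i ∈ p.asIdeal := by
    by_contra hcon
    exact hz (hx1 i p hcon)
  haveI : Ring.KrullDimLE 0 A := ringKrullDimZero_iff_ringKrullDim_eq_zero.mpr hdim
  have hfield : IsField A := Ring.KrullDimLE.isField_of_isDomain
  have hmax : IsLocalRing.maximalIdeal A = ⊥ := IsLocalRing.isField_iff_maximalIdeal_eq.mp hfield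
  have hmem : algebraMap C A (x i) ∈ IsLocalRing.maximalIdeal A :=
    (IsLocalization.AtPrime.to_map_mem_maximal_iff A p.asIdeal (x i)).mpr hxp
  rw [hmax] at hmem
  exact hi hmem

/-- **Extension across a closed subset with regular local rings, unramified in codimension one.** -/
theorem exists_extension_of_unramified_codim_one (V : FEt.Cat (U : Scheme.{u}))
    (hU : Dense (U : Set X))
    (hreg : ∀ x : X, x ∉ U → IsRegularLocalRing (X.presheaf.stalk x))
    (hunr : ∀ ξ : X, ξ ∉ U → ringKrullDim (X.presheaf.stalk ξ) = 1 →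
      ∃ Yξ : FEt.Cat (Spec (X.presheaf.stalk ξ)),
        Nonempty ((FEt.restrict (pullback.snd U.ι (X.fromSpecStalk ξ))).obj Yξ ≅
          (FEt.restrict (pullback.fst U.ι (X.fromSpecStalk ξ))).obj V)) :
    ∃ Y' : FEt.Cat X, Nonempty ((FEt.restrict U.ι).obj Y' ≅ V) := by
  haveI := quasiCompact_total' U V
  haveI := quasiSeparated_total' U V
  let ν : (total U V).normalization ⟶ X := (total U V).fromNormalization
  let U₁ : X.Opens := fetLocus ν
  let V₁ : FEt.Cat (U₁ : Scheme.{u}) :=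
    MorphismProperty.Over.mk ⊤ (pullback.snd ν U₁.ι) (prop_pullback_snd_fetLocus ν)
  obtain ⟨Θ, hΘ⟩ := exists_iso_pullback_fromNormalization' U V
  have hUprop : FEt.prop (pullback.snd ν U.ι) := by
    have h := V.prop
    rw [← hΘ] at h
    exact (MorphismProperty.cancel_left_of_respectsIso FEt.prop _ _).mp h
  have hle : U ≤ U₁ := by
    intro z hz
    refine mem_fetLocus ν U.ι hUprop ?_
    rw [Scheme.Opens.range_ι]
    exact hz
  have hreg₁ : ∀ z : X, z ∉ U₁ → IsRegularLocalRing (X.presheaf.stalk z) :=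
    fun z hz => hreg z (fun h => hz (hle h))
  have hdim₁ : ∀ z : X, z ∉ U₁ → (2 : WithBot ℕ∞) ≤ ringKrullDim (X.presheaf.stalk z) := by
    intro z hz
    have hzU : z ∉ U := fun h => hz (hle h)
    haveI := hreg z hzU
    haveI : IsDomain (X.presheaf.stalk z) :=
      Groth.Agent.Lib.Helper5.isDomain_of_isRegularLocalRing _
    refine two_le_of_ne ringKrullDim_nonneg_of_nontrivial
      (ringKrullDim_stalk_ne_zero_of_dense U hU z hzU) ?_
    intro h1
    obtain ⟨C₁, _, j₁, hj₁, hzj, hP⟩ :=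
      exists_chart_prop_of_extends U V hU hreg z hzU (hunr z hzU h1)
    exact hz (mem_fetLocus ν j₁ hP hzj)
  obtain ⟨Y', ⟨e'⟩⟩ := exists_extension_of_regular_outside U₁ V₁ hreg₁ hdim₁
  refine ⟨Y', ?_⟩
  let ι₁ : (U : Scheme.{u}) ⟶ (U₁ : Scheme.{u}) := X.homOfLE hle
  have hι : ι₁ ≫ U₁.ι = U.ι := X.homOfLE_ι hle
  let a1 : FEt.restrict U.ι ≅ FEt.restrict (ι₁ ≫ U₁.ι) :=
    MorphismProperty.Over.pullbackCongr hι.symm
  let a2 : FEt.restrict (ι₁ ≫ U₁.ι) ≅ FEt.restrict U₁.ι ⋙ FEt.restrict ι₁ :=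
    MorphismProperty.Over.pullbackComp ι₁ U₁.ι
  let c : pullback (pullback.snd ν U₁.ι) ι₁ ≅ V.left :=
    pullbackLeftPullbackSndIso ν U₁.ι ι₁ ≪≫ pullback.congrHom rfl hι ≪≫ Θ.symm
  have hc : c.hom ≫ V.hom = pullback.snd (pullback.snd ν U₁.ι) ι₁ := by
    have hΘ' : Θ.hom ≫ pullback.snd ν U.ι = V.hom := hΘ
    rw [← hΘ']
    simp only [c, Iso.trans_hom, Iso.symm_hom, Category.assoc, Iso.inv_hom_id_assoc,
      pullback.congrHom_hom]
    rw [pullback.lift_snd, Category.comp_id, pullbackLeftPullbackSndIso_hom_snd]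
  let b : (FEt.restrict ι₁).obj V₁ ≅ V := MorphismProperty.Over.isoMk c hc
  exact ⟨a1.app Y' ≪≫ a2.app Y' ≪≫ (FEt.restrict ι₁).mapIso e' ≪≫ b⟩

end Final

end Groth.Agent.Lib.T2H3.PuritySchG
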