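import Mathlib
import Groth.Agent.Lib.T2H7PdFibB
import Groth.Agent.S0563

/-!
# Projective dimension of a finite module is detected by `Ext` into the ring (helper3)

Over a Noetherian ring `R`, for a finite module `M` of finite projective dimension:
`pd M ≤ q` iff `Ext^i(M, R) = 0` for all `i > q`.

* `Van M n Y` : `Ext^n(M, Y) = 0`, with closure properties `van_of_iso`, `van_X₂`, `van_X₃`,
  `van_of_surjective`, `van_of_finite`.
* `hasPDLT_of_van_ring` : `pd M ≤ n + 1` and `Ext^{n+1}(M, R) = 0` imply `pd M ≤ n`.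
* `hasPDLT_iff_ext_ring` : the characterisation for `M` of finite projective dimension.
* `hasPDLT_iff_ext_ring_of_regular` : the characterisation over a regular local ring.
-/

set_option autoImplicit false
universe u

namespace Groth.Agent.Lib.T2H3.ExtRing

open CategoryTheory Abelian

variable {R : Type u} [CommRing R]

/-- `Ext^n(M, Y)` vanishes. -/
def Van (M : ModuleCat.{u} R) (n : ℕ) (Y : ModuleCat.{u} R) : Prop :=
  ∀ e : Ext.{u} M Y n, e = 0

theorem van_of_iso {M Y Y' : ModuleCat.{u} R} {n : ℕ} (e : Y ≅ Y') (h : Van M n Y) :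
    Van M n Y' := by
  intro x
  have h1 : x = (x.comp (Ext.mk₀ e.inv) (add_zero n)).comp (Ext.mk₀ e.hom) (add_zero n) := by
    rw [Ext.comp_assoc_of_third_deg_zero, Ext.mk₀_comp_mk₀, e.inv_hom_id, Ext.comp_mk₀_id]
  rw [h1, h (x.comp (Ext.mk₀ e.inv) (add_zero n)), Ext.zero_comp]

theorem van_X₂ {M : ModuleCat.{u} R} {n : ℕ} {S : ShortComplex (ModuleCat.{u} R)}
    (hS : S.ShortExact) (h₁ : Van M n S.X₁) (h₃ : Van M n S.X₃) : Van M n S.X₂ := by
  intro x₂
  obtain ⟨x₁, hx₁⟩ := Ext.covariant_sequence_exact₂ M hS x₂ (h₃ _)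
  rw [← hx₁, h₁ x₁, Ext.zero_comp]

theorem van_X₃ {M : ModuleCat.{u} R} {n : ℕ} {S : ShortComplex (ModuleCat.{u} R)}
    (hS : S.ShortExact) (hpd : HasProjectiveDimensionLT M (n + 1)) (h₂ : Van M n S.X₂) :
    Van M n S.X₃ := by
  intro x₃
  have h0 : x₃.comp hS.extClass (rfl : n + 1 = n + 1) = 0 :=
    Ext.eq_zero_of_hasProjectiveDimensionLT _ (n + 1) (le_refl _)
  obtain ⟨x₂, hx₂⟩ := Ext.covariant_sequence_exact₃ M hS x₃ rfl h0
  rw [← hx₂, h₂ x₂, Ext.zero_comp]

theorem van_of_surjective {M : ModuleCat.{u} R} {n : ℕ} {N N' : Type u} [AddCommGroup N]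
    [Module R N] [AddCommGroup N'] [Module R N'] (f : N →ₗ[R] N') (hf : Function.Surjective f)
    (hpd : HasProjectiveDimensionLT M (n + 1)) (h : Van M n (ModuleCat.of R N)) :
    Van M n (ModuleCat.of R N') :=
  van_X₃ (LinearMap.shortExact_shortComplexKer hf) hpd h

theorem van_prod {M : ModuleCat.{u} R} {n : ℕ} {N N' : Type u} [AddCommGroup N]
    [Module R N] [AddCommGroup N'] [Module R N'] (h : Van M n (ModuleCat.of R N))
    (h' : Van M n (ModuleCat.of R N')) : Van M n (ModuleCat.of R (N × N')) :=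
  van_X₂ (Groth.Agent.Lib.T2H7.PdFibB.mkSC_shortExact (LinearMap.inl R N N')
    (LinearMap.snd R N N') LinearMap.inl_injective LinearMap.snd_surjective
    Function.Exact.inl_snd) h h'

/-- If `pd M ≤ n` and `Ext^n(M, R) = 0`, then `Ext^n(M, N) = 0` for every finite module `N`. -/
theorem van_of_finite {M : ModuleCat.{u} R} {n : ℕ} (hpd : HasProjectiveDimensionLT M (n + 1))
    (hR : Van M n (ModuleCat.of R R)) (N : Type u) [AddCommGroup N] [Module R N]
    [Module.Finite R N] : Van M n (ModuleCat.of R N) := by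
  have key : ∀ (N' : Submodule R N), N'.FG → Van M n (ModuleCat.of R N') := by
    intro N' hN'
    induction N', hN' using Submodule.fg_induction with
    | singleton x =>
      let f : R →ₗ[R] (Submodule.span R ({x} : Set N)) :=
        LinearMap.codRestrict _ (LinearMap.toSpanSingleton R N x)
          (fun r => Submodule.smul_mem _ r (Submodule.mem_span_singleton_self x))
      have hf : Function.Surjective f := by
        rintro ⟨y, hy⟩
        obtain ⟨r, rfl⟩ := Submodule.mem_span_singleton.mp hy
        exact ⟨r, rfl⟩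
      exact van_of_surjective f hf hpd hR
    | sup N₁ N₂ _ _ h₁ h₂ =>
      let f : (N₁ × N₂) →ₗ[R] ((N₁ ⊔ N₂ : Submodule R N)) :=
        LinearMap.codRestrict _ (N₁.subtype.coprod N₂.subtype)
          (fun y => by
            rw [LinearMap.coprod_apply]
            exact Submodule.add_mem_sup y.1.2 y.2.2)
      have hf : Function.Surjective f := by
        rintro ⟨y, hy⟩
        obtain ⟨a, ha, b, hb, rfl⟩ := Submodule.mem_sup.mp hy
        refine ⟨(⟨a, ha⟩, ⟨b, hb⟩), ?_⟩
        apply Subtype.ext
        simp [f]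
      exact van_of_surjective f hf hpd (van_prod h₁ h₂)
  have h := key ⊤ (Module.Finite.fg_top)
  exact van_of_iso (Submodule.topEquiv (R := R) (M := N)).toModuleIso h

/-- Key step: if `pd M ≤ n + 1` and `Ext^{n+1}(M, R) = 0` then `pd M ≤ n`, for a finite module
over a Noetherian ring. -/
theorem hasPDLT_of_van_ring [IsNoetherianRing R] : ∀ (n : ℕ) (M : Type u) [AddCommGroup M]
    [Module R M] [Module.Finite R M],
    HasProjectiveDimensionLT (ModuleCat.of R M) (n + 2) →
    Van (ModuleCat.of R M) (n + 1) (ModuleCat.of R R) →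
    HasProjectiveDimensionLT (ModuleCat.of R M) (n + 1) := by
  intro n
  induction n with
  | zero =>
    intro M _ _ _ hpd hR
    obtain ⟨P, _, _, _, _, f, surjf⟩ := Module.exists_finite_presentation R M
    have hS := LinearMap.shortExact_shortComplexKer surjf
    have hK : Module.Finite R (LinearMap.ker f) := Module.IsNoetherian.finite R _
    have hv : Van (ModuleCat.of R M) 1 (ModuleCat.of R (LinearMap.ker f)) :=
      van_of_finite hpd hR (LinearMap.ker f)
    have h0 : (Ext.mk₀ (𝟙 (ModuleCat.of R M))).comp hS.extClass (zero_add 1) = 0 := hv _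
    obtain ⟨x₂, hx₂⟩ := Ext.covariant_sequence_exact₃ (ModuleCat.of R M) hS
      (Ext.mk₀ (𝟙 (ModuleCat.of R M))) (zero_add 1) h0
    obtain ⟨s, rfl⟩ := (Ext.mk₀_bijective _ _).2 x₂
    rw [Ext.mk₀_comp_mk₀] at hx₂
    have hs : s ≫ ModuleCat.ofHom f = 𝟙 (ModuleCat.of R M) := (Ext.mk₀_bijective _ _).1 hx₂
    have hproj : Projective (ModuleCat.of R P) :=
      Groth.Agent.Lib.T2H7.PdTorC.projective_of_module_projective P
    have hr : Retract (ModuleCat.of R M) (ModuleCat.of R P) := ⟨s, ModuleCat.ofHom f, hs⟩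
    have hP : HasProjectiveDimensionLT (ModuleCat.of R P) 1 :=
      projective_iff_hasProjectiveDimensionLT_one.mp hproj
    exact hr.hasProjectiveDimensionLT 1
  | succ n ih =>
    intro M _ _ _ hpd hR
    obtain ⟨P, _, _, _, _, f, surjf⟩ := Module.exists_finite_presentation R M
    have hS := LinearMap.shortExact_shortComplexKer surjf
    have hK : Module.Finite R (LinearMap.ker f) := Module.IsNoetherian.finite R _
    have hproj : Projective (ModuleCat.of R P) :=
      Groth.Agent.Lib.T2H7.PdTorC.projective_of_module_projective P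
    have hP : ∀ m, HasProjectiveDimensionLT (ModuleCat.of R P) (m + 1) := fun m =>
      hasProjectiveDimensionLT_of_ge _ 1 (m + 1) (by omega)
    have hpdK : HasProjectiveDimensionLT (ModuleCat.of R (LinearMap.ker f)) (n + 2) :=
      hS.hasProjectiveDimensionLT_X₁ (n + 2) (hP _) hpd
    have hvK : Van (ModuleCat.of R (LinearMap.ker f)) (n + 1) (ModuleCat.of R R) := by
      intro x₁
      have h0 : hS.extClass.comp x₁ (add_comm 1 (n + 1)) = 0 := hR _
      obtain ⟨x₂, hx₂⟩ := Ext.contravariant_sequence_exact₁ hS (ModuleCat.of R R) x₁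
        (add_comm 1 (n + 1)) h0
      have hx₂0 : x₂ = 0 := by
        have : Projective (LinearMap.shortComplexKer f).X₂ := hproj
        exact Ext.eq_zero_of_projective x₂
      rw [← hx₂, hx₂0, Ext.comp_zero]
    have hK' := ih (LinearMap.ker f) hpdK hvK
    exact hS.hasProjectiveDimensionLT_X₃ (n + 1) hK' (hP _)

/-- For a finite module of finite projective dimension over a Noetherian ring, `pd M ≤ q` iff
`Ext^i(M, R) = 0` for all `i > q`. -/
theorem hasPDLT_iff_ext_ring [IsNoetherianRing R] (M : Type u) [AddCommGroup M]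
    [Module R M] [Module.Finite R M] (d : ℕ)
    (hd : HasProjectiveDimensionLT (ModuleCat.of R M) (d + 1)) (q : ℕ) :
    HasProjectiveDimensionLT (ModuleCat.of R M) (q + 1) ↔
      ∀ i : ℕ, q < i → Subsingleton (Ext.{u} (ModuleCat.of R M) (ModuleCat.of R R) i) := by
  constructor
  · intro h i hi
    exact HasProjectiveDimensionLT.subsingleton _ (q + 1) i (by omega) _
  · intro h
    have key : ∀ t : ℕ, HasProjectiveDimensionLT (ModuleCat.of R M) (q + t + 1) →
        HasProjectiveDimensionLT (ModuleCat.of R M) (q + 1) := by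
      intro t
      induction t with
      | zero => exact fun h => h
      | succ t ih =>
        intro ht
        apply ih
        have hs := h (q + t + 1) (by omega)
        exact hasPDLT_of_van_ring (q + t) M ht (fun e => Subsingleton.elim _ _)
    exact key d (hasProjectiveDimensionLT_of_ge _ (d + 1) (q + d + 1) (by omega))

/-- Over a regular local ring, `pd M ≤ q` iff `Ext^i(M, A) = 0` for all `i > q`. -/
theorem hasPDLT_iff_ext_ring_of_regular (A : Type u) [CommRing A] [IsRegularLocalRing A]
    (M : Type u) [AddCommGroup M] [Module A M] [Module.Finite A M] (q : ℕ) :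
    HasProjectiveDimensionLT (ModuleCat.of A M) (q + 1) ↔
      ∀ i : ℕ, q < i → Subsingleton (Ext.{u} (ModuleCat.of A M) (ModuleCat.of A A) i) := by
  obtain ⟨d, hd⟩ := Groth.Agent.Lib.Helper5.exists_nat_ringKrullDim_eq A
  exact hasPDLT_iff_ext_ring M d (Groth.Agent.S0563.result A d hd M) q

end Groth.Agent.Lib.T2H3.ExtRing
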