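import Groth.Agent.Lib.Helper18Con1
import Groth.Agent.Lib.Helper18OmLS16

set_option autoImplicit false
set_option linter.style.haveILetI false
set_option linter.unusedSectionVars false
universe u
open CategoryTheory AlgebraicGeometry Limits TopologicalSpace Opposite

namespace Groth.Agent.Lib.T2H3.FOConormal

open Groth.Agent.Helper18OmLS Groth.Agent.Helper18Om Groth.Agent.Helper18Con
open Groth.Agent.Helper13PullbackUnit

section cls
variable {Z X : Scheme.{u}} (i : Z ⟶ X) [QuasiCompact i]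

/-- the class of a function in the square of the ideal vanishes (affine chart). -/
theorem cls_eq_zero_of_mem_sq (V : X.Opens) (T : Z.Opens) (hTV : T ≤ i ⁻¹ᵁ V) (y : Γ(X, V))
    (hy : y ∈ RingHom.ker (i.app V).hom ^ 2) : cls i V T hTV y = 0 := by
  rw [pow_two] at hy
  have key : ∀ y ∈ RingHom.ker (i.app V).hom * RingHom.ker (i.app V).hom,
      i.app V y = 0 ∧ cls i V T hTV y = 0 := by
    intro y hy
    refine Submodule.mul_induction_on hy ?_ ?_
    · intro a ha b hb
      have ha' : i.app V a = 0 := RingHom.mem_ker.1 ha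
      have hb' : i.app V b = 0 := RingHom.mem_ker.1 hb
      refine ⟨by rw [map_mul, ha', zero_mul], ?_⟩
      rw [cls_mul i V T hTV a b hb']
      have : i.appLE V T hTV a = 0 := by
        rw [Scheme.Hom.appLE]
        change Z.presheaf.map (homOfLE hTV).op (i.app V a) = 0
        rw [ha', map_zero]
      rw [this, zero_smul]
    · intro a b ⟨ha1, ha2⟩ ⟨hb1, hb2⟩
      refine ⟨by rw [map_add, ha1, hb1, add_zero], ?_⟩
      rw [cls_add i V T hTV a b ha1 hb1, ha2, hb2, add_zero]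
  exact (key y hy).2

/-- the class of a function which is locally in the square of the ideal vanishes. -/
theorem cls_eq_zero_of_locally_mem_sq (W : X.Opens) (T : Z.Opens) (hTW : T ≤ i ⁻¹ᵁ W)
    (x : Γ(X, W)) (hx : i.app W x = 0)
    (hloc : ∀ (V : X.Opens), IsAffineOpen V → ∀ hV : V ≤ W,
      X.presheaf.map (homOfLE hV).op x ∈ RingHom.ker (i.app V).hom ^ 2) :
    cls i W T hTW x = 0 := by
  refine TopCat.Sheaf.eq_of_locally_eq'
    (abSh ((Scheme.Modules.pullback i).obj (ClSub.idealMod i.ker)))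
    (fun V : {V : X.Opens // IsAffineOpen V ∧ V ≤ W} => T ⊓ i ⁻¹ᵁ V.1) T
    (fun V => homOfLE inf_le_left) ?_ _ _ ?_
  · intro z hz
    have hz' : i z ∈ W := hTW hz
    obtain ⟨V, hV, hzV, hVW⟩ := exists_isAffineOpen_mem_and_subset (x := i z) hz'
    exact Opens.mem_iSup.2 ⟨⟨V, hV, hVW⟩, ⟨hz, hzV⟩⟩
  · rintro ⟨V, hV, hVW⟩
    change ((Scheme.Modules.pullback i).obj (ClSub.idealMod i.ker)).presheaf.map
        (homOfLE (inf_le_left : T ⊓ i ⁻¹ᵁ V ≤ T)).op (cls i W T hTW x) =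
      ((Scheme.Modules.pullback i).obj (ClSub.idealMod i.ker)).presheaf.map
        (homOfLE (inf_le_left : T ⊓ i ⁻¹ᵁ V ≤ T)).op 0
    rw [map_zero, ← cls_res i W V T (T ⊓ i ⁻¹ᵁ V) hTW inf_le_right hVW inf_le_left x hx]
    exact cls_eq_zero_of_mem_sq i V _ inf_le_right _ (hloc V hV hVW)

end cls

section fo
variable {Z Z₁ W : Scheme.{u}} (j : Z ⟶ Z₁) (f : Z₁ ⟶ W) [IsImmersion f] [QuasiCompact f]
  [IsImmersion j] [QuasiCompact j] (hker : f.ker ≤ (j ≫ f).ker ^ 2)

include hker in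
theorem phi1_eq_zero
    (φ₁ : (Scheme.Modules.pullback j).obj (Omega.conormal f) ⟶ Omega.conormal (j ≫ f))
    (hφ₁ : OmegaSh.IsConormalMap (j ≫ f) f (𝟙 W) j φ₁) : φ₁ = 0 := by
  obtain ⟨ψ, -, huniq, key⟩ := exists_conormalMap (j ≫ f) f (𝟙 W) j (Category.comp_id _).symm
  rw [huniq φ₁ hφ₁]
  refine pullback_hom_ext₂ f j (M := ClSub.idealMod f.ker) ψ 0 fun U' s => ?_
  refine (key U' s).trans ?_
  refine (cls_eq_zero_of_locally_mem_sq (j ≫ f) _ _ _ _
    (sq_app_zero (j ≫ f) f (𝟙 W) j (Category.comp_id _).symm U' s) ?_).trans ?_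
  · intro V hV hVU
    have hVU' : V ≤ U' := hVU
    have e1 : W.presheaf.map (homOfLE hVU).op ((𝟙 W : W ⟶ W).app U'
        (OmegaSh.idealSect f.ker U' s)) =
        OmegaSh.idealSect f.ker V ((ClSub.idealMod f.ker).presheaf.map (homOfLE hVU').op s) := by
      rw [idealSect_res]
      rfl
    rw [e1]
    have h1 : OmegaSh.idealSect f.ker V ((ClSub.idealMod f.ker).presheaf.map (homOfLE hVU').op s) ∈
        f.ker.ideal ⟨V, hV⟩ := by
      rw [Scheme.Hom.ker_apply, RingHom.mem_ker]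
      exact app_idealSect_eq_zero f V _
    have h2 := hker ⟨V, hV⟩ h1
    rw [Scheme.IdealSheafData.ideal_pow, Pi.pow_apply, Scheme.Hom.ker_apply] at h2
    exact h2
  · rfl

include hker in
/-- **the conormal sheaf of `Z` in its first order neighbourhood is the conormal sheaf of `Z`**:
if the ideal of `Z₁` is contained in the square of the ideal of `Z`, the canonical map
`C_{Z/W} ⟶ C_{Z/Z₁}` is an isomorphism. -/
theorem isIso_phi2
    (φ₂ : (Scheme.Modules.pullback (𝟙 Z)).obj (Omega.conormal (j ≫ f)) ⟶ Omega.conormal j)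
    (hφ₂ : OmegaSh.IsConormalMap j (j ≫ f) f (𝟙 Z) φ₂) : IsIso φ₂ := by
  obtain ⟨φ₁, hφ₁, -, -⟩ := exists_conormalMap (j ≫ f) f (𝟙 W) j (Category.comp_id _).symm
  obtain ⟨hepi, him⟩ := main_S5974 f j φ₁ hφ₁ φ₂ hφ₂
  have h0 := phi1_eq_zero j f hker φ₁ hφ₁
  subst h0
  have hex : (ShortComplex.mk (0 : (Scheme.Modules.pullback j).obj (Omega.conormal f) ⟶ _)
      ((Scheme.Modules.pullbackId Z).inv.app (Omega.conormal (j ≫ f)) ≫ φ₂) zero_comp).Exact :=
    (ShortComplex.exact_iff_image_eq_kernel _).mpr him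
  have hmono : Mono ((Scheme.Modules.pullbackId Z).inv.app (Omega.conormal (j ≫ f)) ≫ φ₂) :=
    hex.mono_g rfl
  haveI : Mono φ₂ := by
    have h2 : φ₂ = (Scheme.Modules.pullbackId Z).hom.app (Omega.conormal (j ≫ f)) ≫
        ((Scheme.Modules.pullbackId Z).inv.app (Omega.conormal (j ≫ f)) ≫ φ₂) := by
      rw [← Category.assoc, Iso.hom_inv_id_app, Category.id_comp]
    rw [h2]
    exact mono_comp _ _
  exact isIso_of_mono_of_epi φ₂

end fo

end Groth.Agent.Lib.T2H3.FOConormal
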