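import Mathlib
import Groth.Agent.Lib.Helper14IrrComp
import Groth.Agent.Lib.Helper10CodimFib
import Groth.Agent.Lib.Helper4FibDimL
import Groth.Agent.Lib.Helper28FlatEquidim
import Groth.Agent.Lib.Helper11GenFlat
import Groth.Agent.Lib.Helper3GenFibDim

/-!
# Generic density in fibres (EGA IV 9.5.3, open dense case)

For `p : W ⟶ S` of finite type over an integral Noetherian scheme and a dense open `V ⊆ W`, the
trace of `V` on the fibre `p⁻¹(s)` is dense in the fibre for all `s` in a nonempty open of `S`.
-/

set_option autoImplicit false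
set_option linter.unusedVariables false
set_option linter.unusedSectionVars false
set_option linter.style.haveILetI false

open CategoryTheory CategoryTheory.Limits AlgebraicGeometry TopologicalSpace Topology

universe u

namespace Groth.Agent.Lib.T2H3.FibDense

section ring

variable {R S : Type*} [CommRing R] [CommRing S]

/-- if no minimal prime contains `I`, then `dim R/I + 1 ≤ dim R`. -/
theorem ringKrullDim_quotient_succ_le_of_forall_not_le (I : Ideal R)
    (h : ∀ p ∈ minimalPrimes R, ¬ I ≤ p) :
    ringKrullDim (R ⧸ I) + 1 ≤ ringKrullDim R := by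
  by_cases hI : I = ⊤
  · rw [hI, ringKrullDim_eq_bot_of_subsingleton]
    simp
  have : Nonempty (PrimeSpectrum.zeroLocus (R := R) I) := by
    rwa [Set.nonempty_coe_sort, Set.nonempty_iff_ne_empty, ne_eq,
      PrimeSpectrum.zeroLocus_empty_iff_eq_top]
  have := Ideal.Quotient.nontrivial_iff.mpr hI
  have := (Ideal.Quotient.mk I).domain_nontrivial
  rw [ringKrullDim_quotient, Order.krullDim_eq_iSup_length, ringKrullDim,
    Order.krullDim_eq_iSup_length, ← WithBot.coe_one, ← WithBot.coe_add,
    ENat.iSup_add, WithBot.coe_le_coe, iSup_le_iff]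
  intro l
  obtain ⟨p, hp, hp'⟩ := Ideal.exists_minimalPrimes_le (J := l.head.1.asIdeal) bot_le
  let p' : PrimeSpectrum R := ⟨p, hp.1.1⟩
  have hp'' : p' < l.head := lt_of_le_of_ne hp' fun heq => by
    apply h p hp
    have h1 : I ≤ l.head.1.asIdeal := l.head.2
    have h2 : l.head.1.asIdeal = p := by
      have := congrArg PrimeSpectrum.asIdeal heq
      exact this.symm
    rw [← h2]; exact h1
  refine le_trans ?_ (le_iSup _ ((l.map Subtype.val (fun _ _ ↦ id)).cons p' hp''))
  simp

theorem ringKrullDim_succ_le_of_surjective_of_forall_not_le (f : R →+* S)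
    (hf : Function.Surjective f) (h : ∀ p ∈ minimalPrimes R, ¬ RingHom.ker f ≤ p) :
    ringKrullDim S + 1 ≤ ringKrullDim R := by
  rw [← ringKrullDim_eq_of_ringEquiv (RingHom.quotientKerEquivOfSurjective hf)]
  exact ringKrullDim_quotient_succ_le_of_forall_not_le _ h

end ring

section top

/-- in a Noetherian quasi-sober space, a dense open set contains every maximal point. -/
theorem mem_of_dense_of_maximal {α : Type*} [TopologicalSpace α] [T0Space α] [QuasiSober α]
    [NoetherianSpace α] {V : Set α} (hVo : IsOpen V) (hV : Dense V) (w : α)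
    (hw : ∀ w' : α, w' ⤳ w → w' = w) : w ∈ V := by
  have hZ : closure ({w} : Set α) ∈ irreducibleComponents α :=
    (Groth.Agent.Lib.Helper14.closure_mem_irreducibleComponents_iff w).mpr hw
  obtain ⟨o, ho, hne, hoZ⟩ :=
    NoetherianSpace.exists_isOpen_nonempty_subset_irreducibleComponent _ hZ
  obtain ⟨v, hvo, hvV⟩ := hV.inter_open_nonempty o ho hne
  have hwv : w ⤳ v := specializes_iff_mem_closure.mpr (hoZ hvo)
  exact hwv.mem_open hVo hvV

/-- every point of a quasi-sober space is a specialization of a maximal point. -/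
theorem exists_maximal_specializes {α : Type*} [TopologicalSpace α] [T0Space α] [QuasiSober α]
    (z : α) : ∃ z₀ : α, z₀ ⤳ z ∧ ∀ z' : α, z' ⤳ z₀ → z' = z₀ := by
  have hirr : IsIrreducible (irreducibleComponent z) := isIrreducible_irreducibleComponent
  have hcl : closure {hirr.genericPoint} = irreducibleComponent z :=
    hirr.closure_genericPoint isClosed_irreducibleComponent
  refine ⟨hirr.genericPoint, ?_, ?_⟩
  · rw [specializes_iff_mem_closure, hcl]
    exact mem_irreducibleComponent
  · apply (Groth.Agent.Lib.Helper14.closure_mem_irreducibleComponents_iff _).mp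
    rw [hcl]
    exact irreducibleComponent_mem_irreducibleComponents z

end top

section order

/-- a strictly monotone map none of whose values is maximal raises the coheight by at least one. -/
theorem coheight_add_one_le_apply {α β : Type*} [Preorder α] [Preorder β] (f : α → β)
    (hf : StrictMono f) (hmax : ∀ a, ¬ IsMax (f a)) (a : α) :
    Order.coheight a + 1 ≤ Order.coheight (f a) := by
  have key : ∀ n : ℕ, (n : ℕ∞) ≤ Order.coheight a →
      ((n : ℕ∞) + 1) ≤ Order.coheight (f a) := by
    intro n hn
    obtain ⟨p, hp, hlen⟩ := Order.exists_series_of_le_coheight a hn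
    have hnm := hmax p.last
    rw [not_isMax_iff] at hnm
    obtain ⟨b, hb⟩ := hnm
    let q : LTSeries β := (p.map f hf).snoc b (by simpa using hb)
    have hq : q.head = f a := by simp [q, hp]
    have hlen' : q.length = n + 1 := by simp [q, hlen]
    have := Order.length_le_coheight_head (p := q)
    rw [hq, hlen'] at this
    exact_mod_cast this
  cases h : Order.coheight a with
  | top =>
    have : Order.coheight (f a) = ⊤ := by
      rw [ENat.eq_top_iff_forall_ge]
      intro m
      have := key m (by rw [h]; exact le_top)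
      exact le_trans (by simp) this
    rw [this]; exact le_top
  | coe n =>
    exact key n (by rw [h])

end order

section scheme

/-- (c): along an embedding whose image contains no maximal point, the local dimension
increases by at least one. -/
theorem coheight_add_one_le_of_isEmbedding {T W : Scheme.{u}} (τ : T ⟶ W)
    (hτ : IsEmbedding τ) (hmax : ∀ t : T, ∃ w : W, w ⤳ τ t ∧ w ≠ τ t) (t : T) :
    Order.coheight t + 1 ≤ Order.coheight (τ t) := by
  apply coheight_add_one_le_apply (fun t : T => (τ t : W))
  · intro a b hab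
    have h1 : b ⤳ a := hab.le
    have h2 : ¬ a ⤳ b := fun h => hab.not_ge h
    refine lt_of_le_not_ge ?_ ?_
    · exact h1.map τ.continuous
    · intro h
      exact h2 (hτ.isInducing.specializes_iff.mp h)
  · intro t hmx
    obtain ⟨w, hw, hne⟩ := hmax t
    have : τ t ⤳ w := hmx hw
    exact hne (hw.antisymm this).eq

/-- **Generic density in fibres**: for `p : W ⟶ S` of finite type over an integral Noetherian
scheme and `V ⊆ W` dense open, the trace of `V` on the fibre over `s` is dense for all `s` in a
nonempty open subset. -/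
theorem exists_open_forall_dense_fiber {W S : Scheme.{u}} (p : W ⟶ S) [IsIntegral S]
    [IsNoetherian S] [LocallyOfFiniteType p] [QuasiCompact p] (V : Set W) (hVo : IsOpen V)
    (hV : Dense V) :
    ∃ U : S.Opens, (U : Set S).Nonempty ∧ ∀ s ∈ U, Dense ((p.fiberι s) ⁻¹' V) := by
  haveI : IsLocallyNoetherian W := LocallyOfFiniteType.isLocallyNoetherian p
  haveI : CompactSpace W := QuasiCompact.compactSpace_of_compactSpace p
  haveI : IsNoetherian W := {}
  obtain ⟨T', τ, hτ, hrange⟩ :=
    Groth.Agent.Lib.Helper3.GenFibDim.exists_closedImmersion_range hVo.isClosed_compl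
  haveI := hτ
  haveI : IsLocallyNoetherian T' := LocallyOfFiniteType.isLocallyNoetherian τ
  obtain ⟨U, hUne, hflat⟩ := Groth.Agent.Lib.Helper11GenFlat.exists_open_flat (τ ≫ p)
  haveI := hflat
  refine ⟨U, hUne, fun s hs => ?_⟩
  have hmaxmem : ∀ z₀ : p.fiber s, (∀ z' : p.fiber s, z' ⤳ z₀ → z' = z₀) →
      p.fiberι s z₀ ∈ V := by
    intro z₀ hz₀
    by_contra hnV
    have hmem : p.fiberι s z₀ ∈ Set.range τ := by rw [hrange]; exact hnV
    obtain ⟨t, ht⟩ := hmem
    have hps : p (p.fiberι s z₀) = s := by
      have : p.fiberι s z₀ ∈ p ⁻¹' {s} := by rw [← p.range_fiberι s]; exact ⟨z₀, rfl⟩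
      exact this
    -- (b)
    have hb := Groth.Agent.Lib.Helper4.FibDim.ringKrullDim_stalk_le_add_fiber p s z₀
    have hZ : Order.coheight z₀ = 0 := by
      rw [Order.coheight_eq_zero]
      intro b hb
      have := hz₀ b hb
      rw [this]
    rw [ringKrullDim_stalk_eq_coheight, ringKrullDim_stalk_eq_coheight,
      ringKrullDim_stalk_eq_coheight, hZ, hps] at hb
    -- (c)
    have hc := coheight_add_one_le_of_isEmbedding τ τ.isEmbedding (fun t' => by
      obtain ⟨w, hw1, hw2⟩ := exists_maximal_specializes (τ t')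
      refine ⟨w, hw1, fun heq => ?_⟩
      have hwV : w ∈ V := mem_of_dense_of_maximal hVo hV w hw2
      have : τ t' ∈ Vᶜ := by rw [← hrange]; exact ⟨t', rfl⟩
      exact this (heq ▸ hwV)) t
    rw [ht] at hc
    -- (a)
    have htU : t ∈ (τ ≫ p) ⁻¹ᵁ U := by
      show (τ ≫ p) t ∈ U
      rw [Scheme.Hom.comp_apply, ht, hps]
      exact hs
    haveI : IsLocallyNoetherian (((τ ≫ p) ⁻¹ᵁ U) : Scheme.{u}) :=
      LocallyOfFiniteType.isLocallyNoetherian ((τ ≫ p) ⁻¹ᵁ U).ι
    let t' : ↥(((τ ≫ p) ⁻¹ᵁ U).toScheme) := (show ↥((τ ≫ p) ⁻¹ᵁ U) from ⟨t, htU⟩)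
    have ha := Groth.Agent.Lib.Helper10.CodimFib.ringKrullDim_stalk_le_of_flat
      (((τ ≫ p) ⁻¹ᵁ U).ι ≫ (τ ≫ p)) t'
    have he : (((τ ≫ p) ⁻¹ᵁ U).ι ≫ (τ ≫ p)) t' = s := by
      rw [Scheme.Hom.comp_apply, Scheme.Hom.comp_apply]
      show p (τ t) = s
      rw [ht, hps]
    have he' : Order.coheight t' = Order.coheight t :=
      (coheight_eq_of_isOpenImmersion (x := t') ((τ ≫ p) ⁻¹ᵁ U).ι).symm
    rw [ringKrullDim_stalk_eq_coheight, ringKrullDim_stalk_eq_coheight, he, he'] at ha
    -- conclusion
    have hfin : ringKrullDim (S.presheaf.stalk s) < ⊤ := ringKrullDim_lt_top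
    rw [ringKrullDim_stalk_eq_coheight] at hfin
    have ha' : Order.coheight s ≤ Order.coheight t := by exact_mod_cast ha
    have hb' : Order.coheight (p.fiberι s z₀) ≤ Order.coheight s := by
      have : ((Order.coheight (p.fiberι s z₀) : ℕ∞) : WithBot ℕ∞) ≤
          ((Order.coheight s : ℕ∞) : WithBot ℕ∞) := by simpa using hb
      exact_mod_cast this
    have hne : Order.coheight s ≠ ⊤ := by
      intro h
      rw [h] at hfin
      exact lt_irrefl _ hfin
    have h1 : Order.coheight s + 1 ≤ Order.coheight s :=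
      le_trans (add_le_add_left ha' 1) (le_trans hc hb')
    rw [ENat.add_one_le_iff hne] at h1
    exact lt_irrefl _ h1
  -- density from maximal points
  intro y
  rw [mem_closure_iff]
  intro o ho hyo
  obtain ⟨y₀, hy₀, hy₀max⟩ := exists_maximal_specializes y
  exact ⟨y₀, hy₀.mem_open ho hyo, hmaxmem y₀ hy₀max⟩

end scheme

end Groth.Agent.Lib.T2H3.FibDense
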