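import Mathlib
import Groth.Agent.Lib.Helper3BaseMap
import Groth.Agent.Lib.Helper3GrpFlat

/-!
# Pointwise flatness of a morphism over a base and arbitrary base change

For `f : X ⟶ Y` over `S` (with `X` flat and locally of finite presentation over `S`, `Y` locally of
finite type), the base change `f_T` along any `a : T ⟶ S` is flat at a point `y'` iff `f` is flat at
the image of `y'` in `X`.
-/

set_option autoImplicit false
set_option linter.unusedVariables false
set_option linter.unusedSectionVars false
set_option linter.style.haveILetI false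

open CategoryTheory CategoryTheory.Limits AlgebraicGeometry

universe u

namespace Groth.Agent.Lib.T2H3.FlatBC

open Groth.Agent.Lib.Helper3.BaseMap Groth.Agent.Lib.Helper3.GrpFlat

theorem exists_point_of_isPullback {X Y X' Y' : Scheme.{u}} {p' : X' ⟶ X} {f' : X' ⟶ Y'}
    {f : X ⟶ Y} {p : Y' ⟶ Y} (hpb : IsPullback p' f' f p) (x : X) (y' : Y') (h : f x = p y') :
    ∃ z : X', p' z = x ∧ f' z = y' := by
  obtain ⟨w, hw1, hw2⟩ := Scheme.Pullback.exists_preimage_pullback x y' h
  refine ⟨hpb.isoPullback.inv w, ?_, ?_⟩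
  · rw [← Scheme.Hom.comp_apply, hpb.isoPullback_inv_fst, hw1]
  · rw [← Scheme.Hom.comp_apply, hpb.isoPullback_inv_snd, hw2]

variable {X Y S : Scheme.{u}} (f : X ⟶ Y) (g : Y ⟶ S)

theorem lfp_baseMap [LocallyOfFinitePresentation f] {T : Scheme.{u}} (a : T ⟶ S) :
    LocallyOfFinitePresentation (baseMap f g a) :=
  MorphismProperty.of_isPullback (P := @LocallyOfFinitePresentation) (isPullback_baseMap f g a)
    inferInstance

theorem flat_of_flat_baseMap_fibre [LocallyOfFinitePresentation (f ≫ g)] [LocallyOfFiniteType g]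
    (s : S) (z : ↥(pullback (f ≫ g) (S.fromSpecResidueField s)))
    (hflat : ((f ≫ g).stalkMap (pullback.fst (f ≫ g) (S.fromSpecResidueField s) z)).hom.Flat)
    (h : ((baseMap f g (S.fromSpecResidueField s)).stalkMap z).hom.Flat) :
    (f.stalkMap (pullback.fst (f ≫ g) (S.fromSpecResidueField s) z)).hom.Flat :=
  flat_stalkMap_of_flat_of_fiberMap' f g s z hflat h

theorem flat_of_flat_baseMap_aux [LocallyOfFinitePresentation (f ≫ g)] [LocallyOfFiniteType g]
    (s : S) {T₂ : Scheme.{u}} (e : T₂ ⟶ S) (c : T₂ ⟶ Spec (S.residueField s)) [Flat c]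
    (he : e = c ≫ S.fromSpecResidueField s) (y'' : ↥(pullback (f ≫ g) e))
    (hflat : ((f ≫ g).stalkMap (pullback.fst (f ≫ g) e y'')).hom.Flat)
    (h : ((baseMap f g e).stalkMap y'').hom.Flat) :
    (f.stalkMap (pullback.fst (f ≫ g) e y'')).hom.Flat := by
  subst he
  have sq := isPullback_baseMap_comp f g (S.fromSpecResidueField s) c
  haveI : Flat (baseMapY g (S.fromSpecResidueField s) c) :=
    MorphismProperty.of_isPullback (P := @Flat) (isPullback_baseMapY g _ c).flip inferInstance
  haveI : Flat (baseMapY (f ≫ g) (S.fromSpecResidueField s) c) :=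
    MorphismProperty.of_isPullback (P := @Flat) (isPullback_baseMapY (f ≫ g) _ c).flip
      inferInstance
  have h1 := flat_stalkMap_of_isPullback_of_flat sq y'' h
  have hfst : pullback.fst (f ≫ g) (S.fromSpecResidueField s)
      (baseMapY (f ≫ g) (S.fromSpecResidueField s) c y'') =
      pullback.fst (f ≫ g) (c ≫ S.fromSpecResidueField s) y'' := by
    rw [← Scheme.Hom.comp_apply, baseMapY_fst]
  have h2 := flat_of_flat_baseMap_fibre f g s _ (by rw [hfst]; exact hflat) h1
  rw [hfst] at h2
  exact h2

/-- **pointwise flatness of a morphism over `S` and arbitrary base change.** -/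
theorem flat_baseMap_iff [LocallyOfFinitePresentation (f ≫ g)] [LocallyOfFiniteType g]
    [Flat (f ≫ g)] [LocallyOfFinitePresentation f] {T : Scheme.{u}} (a : T ⟶ S)
    (y' : ↥(pullback (f ≫ g) a)) :
    ((baseMap f g a).stalkMap y').hom.Flat ↔
      (f.stalkMap (pullback.fst (f ≫ g) a y')).hom.Flat := by
  constructor
  · intro h
    obtain ⟨t, ht⟩ : ∃ t : T, t = pullback.snd (f ≫ g) a y' := ⟨_, rfl⟩
    obtain ⟨b, hb⟩ : ∃ b : Spec (T.residueField t) ⟶ T, b = T.fromSpecResidueField t := ⟨_, rfl⟩
    have hbpt : b (IsLocalRing.closedPoint (T.residueField t)) = t := by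
      rw [hb]; exact Scheme.fromSpecResidueField_apply _ _
    obtain ⟨y'', hy1, hy2⟩ := exists_point_of_isPullback (isPullback_baseMapY (f ≫ g) a b) y'
      (IsLocalRing.closedPoint (T.residueField t)) (by rw [hbpt, ht])
    haveI := lfp_baseMap f g a
    have h'' : ((baseMap f g (b ≫ a)).stalkMap y'').hom.Flat :=
      flat_stalkMap_of_isPullback (isPullback_baseMap_comp f g a b) y'' (by rw [hy1]; exact h)
    have he : b ≫ a = Spec.map (a.residueFieldMap t) ≫ S.fromSpecResidueField (a t) := by
      rw [hb]; exact (Scheme.Hom.SpecMap_residueFieldMap_fromSpecResidueField (f := a) t).symm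
    haveI : Flat (Spec.map (a.residueFieldMap t)) := by
      rw [Flat.SpecMap_iff]
      algebraize [(a.residueFieldMap t).hom]
      exact (inferInstance : Module.Flat (S.residueField (a t)) (T.residueField t))
    have := flat_of_flat_baseMap_aux f g (a t) (b ≫ a) (Spec.map (a.residueFieldMap t)) he y''
      (Flat.stalkMap (f ≫ g) _) h''
    have hfst : pullback.fst (f ≫ g) (b ≫ a) y'' = pullback.fst (f ≫ g) a y' := by
      rw [← hy1, ← Scheme.Hom.comp_apply, baseMapY_fst]
    rw [hfst] at this
    exact this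
  · intro h
    exact flat_stalkMap_of_isPullback (isPullback_baseMap f g a) y' h

/-- pointwise form of `flat_baseMap_iff`: only flatness of `X → S` at the image point is needed. -/
theorem flat_baseMap_iff' [LocallyOfFinitePresentation (f ≫ g)] [LocallyOfFiniteType g]
    [LocallyOfFinitePresentation f] {T : Scheme.{u}} (a : T ⟶ S)
    (y' : ↥(pullback (f ≫ g) a))
    (hfl : ((f ≫ g).stalkMap (pullback.fst (f ≫ g) a y')).hom.Flat) :
    ((baseMap f g a).stalkMap y').hom.Flat ↔
      (f.stalkMap (pullback.fst (f ≫ g) a y')).hom.Flat := by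
  constructor
  · intro h
    obtain ⟨t, ht⟩ : ∃ t : T, t = pullback.snd (f ≫ g) a y' := ⟨_, rfl⟩
    obtain ⟨b, hb⟩ : ∃ b : Spec (T.residueField t) ⟶ T, b = T.fromSpecResidueField t := ⟨_, rfl⟩
    have hbpt : b (IsLocalRing.closedPoint (T.residueField t)) = t := by
      rw [hb]; exact Scheme.fromSpecResidueField_apply _ _
    obtain ⟨y'', hy1, hy2⟩ := exists_point_of_isPullback (isPullback_baseMapY (f ≫ g) a b) y'
      (IsLocalRing.closedPoint (T.residueField t)) (by rw [hbpt, ht])
    haveI := lfp_baseMap f g a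
    have h'' : ((baseMap f g (b ≫ a)).stalkMap y'').hom.Flat :=
      flat_stalkMap_of_isPullback (isPullback_baseMap_comp f g a b) y'' (by rw [hy1]; exact h)
    have he : b ≫ a = Spec.map (a.residueFieldMap t) ≫ S.fromSpecResidueField (a t) := by
      rw [hb]; exact (Scheme.Hom.SpecMap_residueFieldMap_fromSpecResidueField (f := a) t).symm
    haveI : Flat (Spec.map (a.residueFieldMap t)) := by
      rw [Flat.SpecMap_iff]
      algebraize [(a.residueFieldMap t).hom]
      exact (inferInstance : Module.Flat (S.residueField (a t)) (T.residueField t))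
    have hfst : pullback.fst (f ≫ g) (b ≫ a) y'' = pullback.fst (f ≫ g) a y' := by
      rw [← hy1, ← Scheme.Hom.comp_apply, baseMapY_fst]
    have := flat_of_flat_baseMap_aux f g (a t) (b ≫ a) (Spec.map (a.residueFieldMap t)) he y''
      (by rw [hfst]; exact hfl) h''
    rw [hfst] at this
    exact this
  · intro h
    exact flat_stalkMap_of_isPullback (isPullback_baseMap f g a) y' h

end Groth.Agent.Lib.T2H3.FlatBC
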