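import Mathlib
import Groth.Agent.Lib.Helper5FibMorLoci
import Groth.Agent.Lib.T2H3FlatBC
import Groth.Agent.Lib.Helper12Torsor
import Groth.Agent.S3694

/-!
# "The map of fibres is flat / an open immersion" are constructible properties of morphisms
-/

set_option autoImplicit false
set_option linter.style.haveILetI false
set_option linter.unusedVariables false
universe u
open CategoryTheory CategoryTheory.Limits AlgebraicGeometry Topology TopologicalSpace

namespace Groth.Agent.Lib.T2H3.FibFlatCons

open Groth.Agent.Lib.Helper5.FibMorLoci Groth.Agent.Lib.Helper3.ConsOfLocus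
  Groth.Agent.Lib.Helper11GenFlat Groth.Agent.Lib.Helper20.EtLocal
  Groth.Agent.Lib.Helper3.BaseMap

theorem lfp_of_lft_of_isLocallyNoetherian {X Y : Scheme.{u}} (f : X ⟶ Y) [LocallyOfFiniteType f]
    [IsLocallyNoetherian Y] : LocallyOfFinitePresentation f := by
  rw [HasRingHomProperty.iff_appLE (P := @LocallyOfFinitePresentation)]
  intro U V e
  have h : (f.appLE U.1 V.1 e).hom.FiniteType :=
    HasRingHomProperty.appLE (P := @LocallyOfFiniteType) f inferInstance U V e
  haveI : IsNoetherianRing Γ(Y, U.1) := IsLocallyNoetherian.component_noetherian U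
  exact RingHom.FinitePresentation.of_finiteType.1 h

/-- Over a point `s` of the base over which `X` is flat, the map of fibres `X_s ⟶ Y_s` is flat
iff `f` is flat at all points of `X` over `s`. -/
theorem flat_fiberMap_iff {X Y S : Scheme.{u}} (f : X ⟶ Y) (g : Y ⟶ S)
    [LocallyOfFinitePresentation f] [LocallyOfFinitePresentation (f ≫ g)] [LocallyOfFiniteType g]
    (s : S) (hfl : ∀ x : X, (f ≫ g) x = s → ((f ≫ g).stalkMap x).hom.Flat) :
    Flat (MoreMor.fiberMap f g s) ↔ ∀ x : X, (f ≫ g) x = s → (f.stalkMap x).hom.Flat := by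
  constructor
  · intro hflat x hx
    obtain ⟨z, hz⟩ := exists_fiber_point (f ≫ g) s x hx
    have hz' : pullback.fst (f ≫ g) (S.fromSpecResidueField s) z = x := hz
    have := (Groth.Agent.Lib.T2H3.FlatBC.flat_baseMap_iff' f g (S.fromSpecResidueField s) z
      (by rw [hz']; exact hfl x hx)).mp (Flat.stalkMap (MoreMor.fiberMap f g s) z)
    rw [hz'] at this
    exact this
  · intro H
    refine Flat.of_stalkMap _ (fun z => ?_)
    have hz := fiberι_mem (f ≫ g) s z
    exact (Groth.Agent.Lib.T2H3.FlatBC.flat_baseMap_iff' f g (S.fromSpecResidueField s) z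
      (hfl _ hz)).mpr (H _ hz)

/-- "The map of fibres is flat" is a constructible property of morphisms. -/
theorem isConsMor_flat : ConsProp.IsConsMor.{u} (fun _ _ _ f _ => Flat f) := by
  haveI : MorphismProperty.DescendsAlong (@Flat : MorphismProperty Scheme.{u})
      (@Surjective ⊓ @Flat ⊓ @QuasiCompact) := Groth.Agent.Lib.Helper12.descendsAlong_flat
  refine ⟨isFieldStableMor_of @Flat, ?_⟩
  intro X Y S f g _ _ _ _ _ _
  haveI : IsLocallyNoetherian Y := LocallyOfFiniteType.isLocallyNoetherian g
  obtain ⟨_, _⟩ := Groth.Agent.Lib.Helper3.ForallFiber.ft_of_comp f g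
  haveI : LocallyOfFinitePresentation f := lfp_of_lft_of_isLocallyNoetherian f
  haveI : LocallyOfFinitePresentation (f ≫ g) := lfp_of_lft_of_isLocallyNoetherian (f ≫ g)
  obtain ⟨V', hV', hflat⟩ := exists_open_flat (f ≫ g)
  refine dichotomy_aux (f ≫ g) _ ⟨{x | (f.stalkMap x).hom.Flat}, Groth.Agent.S0386.result f⟩
    V' hV' fun s hs => ?_
  refine flat_fiberMap_iff f g s fun x hx => ?_
  exact flat_stalkMap_of_nbhd (f ≫ g) x ((f ≫ g) ⁻¹ᵁ V') (by rw [← hx] at hs; exact hs)

/-- flat + mono + locally of finite presentation ⟹ open immersion. -/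
theorem isOpenImmersion_of_flat_of_mono {X Y : Scheme.{u}} (φ : X ⟶ Y) [Flat φ] [Mono φ]
    [LocallyOfFinitePresentation φ] : IsOpenImmersion φ := by
  haveI : IsIso (pullback.diagonal φ) := (pullback.isIso_diagonal_iff φ).mpr inferInstance
  haveI : FormallyUnramified φ := inferInstance
  haveI : Etale φ := Etale.of_formallyUnramified_of_flat φ
  exact Groth.Agent.S3694.result φ

end Groth.Agent.Lib.T2H3.FibFlatCons
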