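import Mathlib
import Groth.Agent.Lib.Helper28DepthFlat
import Groth.Agent.Lib.Helper5LocalFlat2
import Groth.Agent.Lib.Helper3FlatOpenFP
import Groth.Prelude.Def_EGA4b

/-!
# Fibrewise exactness of complexes of finite free modules (helper3, for S9184)

* `mem_smul_top_pi_iff`: `w ∈ P • ⊤ ⊆ T^a` iff all coordinates lie in `P`.
* `local_iff`: for a Noetherian local ring `T` flat over `R`, `p` the prime of `R` under the maximal
  ideal and matrices `ψ`, `ψ'` over `T` with `ψ ψ' = 0`: the reduction mod `pT` of the sequence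
  `T^c → T^b → T^a` is exact in the middle iff the sequence is exact in the middle and
  `Coker ψ` is `R`-flat.
-/

set_option autoImplicit false
set_option linter.style.haveILetI false
universe u
open TensorProduct
open scoped Pointwise

namespace Groth.Agent.Lib.T2H3.FibExact

section Pi

variable {T : Type u} [CommRing T]

/-- `w ∈ P • ⊤ ⊆ T^a` iff all coordinates of `w` lie in `P`. -/
theorem mem_smul_top_pi_iff (P : Ideal T) {a : ℕ} (w : Fin a → T) :
    w ∈ (P • ⊤ : Submodule T (Fin a → T)) ↔ ∀ i, w i ∈ P := by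
  constructor
  · intro hw i
    refine Submodule.smul_induction_on hw ?_ ?_
    · intro r hr n _
      exact P.mul_mem_right _ hr
    · intro x y hx hy
      exact P.add_mem hx hy
  · intro h
    have : w = ∑ i, w i • (Pi.single i (1 : T) : Fin a → T) := by
      funext j
      simp [Finset.sum_apply, Pi.single_apply]
    rw [this]
    exact Submodule.sum_mem _ fun i _ => Submodule.smul_mem_smul (h i) Submodule.mem_top

end Pi

section Local

open Groth.Agent.Lib.Helper28 Groth.Agent.Lib.Helper5

variable {R T : Type u} [CommRing R] [CommRing T] [Algebra R T] [IsLocalRing T]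
  [IsNoetherianRing T] [Module.Flat R T] (p : Ideal R) [p.IsPrime]
  (hp : (IsLocalRing.maximalIdeal T).comap (algebraMap R T) = p)

include hp in
/-- Element form of the local criterion: for `Z ≤ Ker ψ`, the map `T^b / Z → T^a` induced by `ψ` is
injective modulo `pT` iff `Ker ψ = Z` and `Coker ψ` is `R`-flat. -/
theorem local_iff_aux {a b : ℕ} (ψ : Matrix (Fin a) (Fin b) T) (Z : Submodule T (Fin b → T))
    (hZ : Z ≤ LinearMap.ker (Matrix.mulVecLin ψ)) :
    (∀ v : Fin b → T, (∀ i, (ψ.mulVec v) i ∈ p.map (algebraMap R T)) →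
        ∃ z ∈ Z, ∀ j, v j - z j ∈ p.map (algebraMap R T)) ↔
      (LinearMap.ker (Matrix.mulVecLin ψ) = Z ∧
        Module.Flat R ((Fin a → T) ⧸ LinearMap.range (Matrix.mulVecLin ψ))) := by
  have hunit : ∀ y : p.primeCompl, IsUnit (algebraMap R T y) := by
    intro y
    by_contra h
    have h1 : algebraMap R T y ∈ IsLocalRing.maximalIdeal T := (IsLocalRing.mem_maximalIdeal _).2 h
    have h2 : (y : R) ∈ (IsLocalRing.maximalIdeal T).comap (algebraMap R T) :=
      Ideal.mem_comap.2 h1
    rw [hp] at h2
    exact y.2 h2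
  let g : Localization.AtPrime p →+* T := IsLocalization.lift hunit
  letI aR'T : Algebra (Localization.AtPrime p) T := g.toAlgebra
  haveI tower : IsScalarTower R (Localization.AtPrime p) T :=
    IsScalarTower.of_algebraMap_eq (fun x => (IsLocalization.lift_eq hunit x).symm)
  haveI : IsLocalHom (algebraMap (Localization.AtPrime p) T) := by
    refine ⟨fun x hx => ?_⟩
    obtain ⟨r, s, rfl⟩ := IsLocalization.exists_mk'_eq p.primeCompl x
    have h1 : algebraMap (Localization.AtPrime p) T (IsLocalization.mk' _ r s) *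
        algebraMap R T s = algebraMap R T r := by
      rw [IsScalarTower.algebraMap_apply R (Localization.AtPrime p) T s,
        IsScalarTower.algebraMap_apply R (Localization.AtPrime p) T r, ← map_mul,
        IsLocalization.mk'_spec]
    have h2 : IsUnit (algebraMap R T r) := by
      rw [← h1]
      exact hx.mul (hunit s)
    have h3 : r ∈ p.primeCompl := by
      intro hr
      have : algebraMap R T r ∈ IsLocalRing.maximalIdeal T := by
        have : r ∈ (IsLocalRing.maximalIdeal T).comap (algebraMap R T) := by rw [hp]; exact hr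
        exact this
      exact (IsLocalRing.mem_maximalIdeal _).1 this h2
    exact (IsLocalization.AtPrime.isUnit_mk'_iff (Localization.AtPrime p) p r s).mpr h3
  haveI flatR'T : Module.Flat (Localization.AtPrime p) T :=
    (Module.flat_iff_of_isLocalization (Localization.AtPrime p) p.primeCompl T).mpr inferInstance
  haveI : Module.Flat (Localization.AtPrime p) (Fin a → T) :=
    Module.Flat.trans (Localization.AtPrime p) T (Fin a → T)
  set P : Ideal T := p.map (algebraMap R T) with hPdef
  have hP : (IsLocalRing.maximalIdeal (Localization.AtPrime p)).map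
      (algebraMap (Localization.AtPrime p) T) = P := by
    rw [← IsLocalization.AtPrime.map_eq_maximalIdeal p (Localization.AtPrime p), Ideal.map_map,
      ← IsScalarTower.algebraMap_eq]
  let u : ((Fin b → T) ⧸ Z) →ₗ[Localization.AtPrime p] (Fin a → T) :=
    (Z.liftQ (Matrix.mulVecLin ψ) hZ).restrictScalars (Localization.AtPrime p)
  have hu : ∀ v : Fin b → T, u (Submodule.Quotient.mk v) = ψ.mulVec v := fun v => rfl
  -- the residual injectivity in element form
  have key : Function.Injective
      (u.lTensor (Localization.AtPrime p ⧸ IsLocalRing.maximalIdeal (Localization.AtPrime p))) ↔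
      (∀ v : Fin b → T, (∀ i, (ψ.mulVec v) i ∈ P) → ∃ z ∈ Z, ∀ j, v j - z j ∈ P) := by
    rw [lTensor_quotient_injective_iff]
    have hq : ∀ v : Fin b → T, ((Submodule.Quotient.mk v : (Fin b → T) ⧸ Z) ∈
        (IsLocalRing.maximalIdeal (Localization.AtPrime p) • ⊤ :
          Submodule (Localization.AtPrime p) ((Fin b → T) ⧸ Z))) ↔
        ∃ z ∈ Z, ∀ j, v j - z j ∈ P := by
      intro v
      rw [← mem_map_smul_top_iff (S := T), hP]
      have h2 : (P • ⊤ : Submodule T ((Fin b → T) ⧸ Z)) =
          (P • ⊤ : Submodule T (Fin b → T)).map Z.mkQ := by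
        rw [Submodule.map_smul'', Submodule.map_top, Submodule.range_mkQ]
      rw [h2, Submodule.mem_map]
      constructor
      · rintro ⟨w, hw, hwv⟩
        have h3 : v - w ∈ Z := by
          rw [← Submodule.Quotient.eq]
          exact hwv.symm
        refine ⟨v - w, h3, fun j => ?_⟩
        have : v j - (v - w) j = w j := by simp
        rw [this]
        exact (mem_smul_top_pi_iff P w).mp hw j
      · rintro ⟨z, hz, hvz⟩
        refine ⟨v - z, (mem_smul_top_pi_iff P _).mpr hvz, ?_⟩
        rw [Submodule.mkQ_apply, Submodule.Quotient.eq]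
        simpa using Z.neg_mem hz
    constructor
    · intro h v hv
      apply (hq v).mp
      apply h
      rw [hu, ← mem_map_smul_top_iff (S := T), hP]
      exact (mem_smul_top_pi_iff P _).mpr hv
    · intro h n hn
      obtain ⟨v, rfl⟩ := Submodule.Quotient.mk_surjective _ n
      apply (hq v).mpr
      apply h
      rw [hu, ← mem_map_smul_top_iff (S := T), hP] at hn
      exact (mem_smul_top_pi_iff P _).mp hn
  -- range and injectivity of `u`
  have hrange : LinearMap.range u =
      (LinearMap.range (Matrix.mulVecLin ψ)).restrictScalars (Localization.AtPrime p) := by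
    ext w
    constructor
    · rintro ⟨n, rfl⟩
      obtain ⟨v, rfl⟩ := Submodule.Quotient.mk_surjective _ n
      exact ⟨v, rfl⟩
    · rintro ⟨v, rfl⟩
      exact ⟨Submodule.Quotient.mk v, rfl⟩
  have hinj : Function.Injective u ↔ LinearMap.ker (Matrix.mulVecLin ψ) = Z := by
    constructor
    · intro h
      refine le_antisymm ?_ hZ
      intro v hv
      have h1 : u (Submodule.Quotient.mk v) = u 0 := by
        rw [hu, map_zero]
        exact hv
      have h2 := h h1
      rwa [Submodule.Quotient.mk_eq_zero] at h2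
    · intro h
      rw [injective_iff_map_eq_zero]
      intro n hn
      obtain ⟨v, rfl⟩ := Submodule.Quotient.mk_surjective _ n
      rw [Submodule.Quotient.mk_eq_zero, ← h]
      exact hn
  let E : ((Fin a → T) ⧸ LinearMap.range u) ≃ₗ[Localization.AtPrime p]
      ((Fin a → T) ⧸ LinearMap.range (Matrix.mulVecLin ψ)) :=
    (Submodule.quotEquivOfEq _ _ hrange).trans
      (Submodule.Quotient.restrictScalarsEquiv (Localization.AtPrime p)
        (LinearMap.range (Matrix.mulVecLin ψ)))
  have hflat : Module.Flat (Localization.AtPrime p) ((Fin a → T) ⧸ LinearMap.range u) ↔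
      Module.Flat R ((Fin a → T) ⧸ LinearMap.range (Matrix.mulVecLin ψ)) :=
    (Module.Flat.equiv_iff E).trans
      (Module.flat_iff_of_isLocalization (Localization.AtPrime p) p.primeCompl _)
  rw [← key, ← hinj, ← hflat]
  constructor
  · intro h
    exact injective_and_flat_of_lTensor_residue_injective T u h
  · rintro ⟨h1, h2⟩
    haveI := h2
    exact LinearMap.lTensor_injective_of_exact_of_flat (LinearMap.range u).mkQ
      (Submodule.mkQ_surjective _) u h1 (LinearMap.exact_map_mkQ_range u) _

include hp in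
/-- **Fibrewise exactness, local form**: for matrices `ψ`, `ψ'` over the Noetherian local ring `T`
(flat over `R`) with `ψ ψ' = 0`, the sequence `T^c → T^b → T^a` is exact in the middle modulo `pT` iff
it is exact in the middle and `Coker ψ` is `R`-flat. -/
theorem local_iff {a b c : ℕ} (ψ : Matrix (Fin a) (Fin b) T) (ψ' : Matrix (Fin b) (Fin c) T)
    (h0 : ψ * ψ' = 0) :
    LinearMap.ker (Matrix.mulVecLin (ψ.map (Ideal.Quotient.mk (p.map (algebraMap R T))))) =
        LinearMap.range (Matrix.mulVecLin (ψ'.map (Ideal.Quotient.mk (p.map (algebraMap R T))))) ↔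
      (LinearMap.ker (Matrix.mulVecLin ψ) = LinearMap.range (Matrix.mulVecLin ψ') ∧
        Module.Flat R ((Fin a → T) ⧸ LinearMap.range (Matrix.mulVecLin ψ))) := by
  have hZ : LinearMap.range (Matrix.mulVecLin ψ') ≤ LinearMap.ker (Matrix.mulVecLin ψ) := by
    rintro _ ⟨w, rfl⟩
    rw [LinearMap.mem_ker, Matrix.mulVecLin_apply, Matrix.mulVecLin_apply, Matrix.mulVec_mulVec, h0,
      Matrix.zero_mulVec]
  rw [← local_iff_aux p hp ψ _ hZ]
  set P : Ideal T := p.map (algebraMap R T) with hPdef
  set mk := Ideal.Quotient.mk P with hmk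
  have hsurj : ∀ {k : ℕ} (x : Fin k → T ⧸ P), ∃ v : Fin k → T, (fun j => mk (v j)) = x := by
    intro k x
    obtain ⟨v, hv⟩ := (Ideal.Quotient.mk_surjective (I := P)).comp_left (α := Fin k) x
    exact ⟨v, hv⟩
  have hmv : ∀ {k l : ℕ} (M : Matrix (Fin k) (Fin l) T) (v : Fin l → T),
      (M.map mk).mulVec (fun j => mk (v j)) = fun i => mk ((M.mulVec v) i) := by
    intro k l M v
    funext i
    exact (RingHom.map_mulVec mk M v i).symm
  constructor
  · intro h v hv
    have h1 : (fun j => mk (v j)) ∈ LinearMap.ker (Matrix.mulVecLin (ψ.map mk)) := by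
      rw [LinearMap.mem_ker, Matrix.mulVecLin_apply, hmv]
      funext i
      exact Ideal.Quotient.eq_zero_iff_mem.mpr (hv i)
    rw [h] at h1
    obtain ⟨x, hx⟩ := h1
    obtain ⟨w, rfl⟩ := hsurj x
    rw [Matrix.mulVecLin_apply, hmv] at hx
    refine ⟨ψ'.mulVec w, ⟨w, rfl⟩, fun j => ?_⟩
    have := congrFun hx j
    exact Ideal.Quotient.eq.mp this.symm
  · intro h
    apply le_antisymm
    · intro x hx
      obtain ⟨v, rfl⟩ := hsurj x
      rw [LinearMap.mem_ker, Matrix.mulVecLin_apply, hmv] at hx
      obtain ⟨z, ⟨w, rfl⟩, hz⟩ := h v (fun i => Ideal.Quotient.eq_zero_iff_mem.mp (congrFun hx i))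
      refine ⟨fun j => mk (w j), ?_⟩
      rw [Matrix.mulVecLin_apply, hmv]
      funext j
      exact (Ideal.Quotient.eq.mpr (hz j)).symm
    · rintro _ ⟨x, rfl⟩
      rw [LinearMap.mem_ker, Matrix.mulVecLin_apply, Matrix.mulVecLin_apply, Matrix.mulVec_mulVec,
        ← Matrix.map_mul, h0, Matrix.map_zero _ (map_zero mk), Matrix.zero_mulVec]

end Local

section Chart

variable {S : Type u} [CommRing S] (q : Ideal S) [q.IsPrime]

/-- The coordinatewise localization map `S^k → (S_q)^k`. -/
noncomputable def fPi (k : ℕ) : (Fin k → S) →ₗ[S] (Fin k → Localization.AtPrime q) :=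
  LinearMap.pi fun i => (Algebra.linearMap S (Localization.AtPrime q)) ∘ₗ LinearMap.proj i

theorem fPi_apply (k : ℕ) (v : Fin k → S) (j : Fin k) :
    fPi q k v j = algebraMap S (Localization.AtPrime q) (v j) := rfl

instance isLocalizedModule_fPi (k : ℕ) : IsLocalizedModule q.primeCompl (fPi q k) := by
  unfold fPi
  infer_instance

theorem mulVec_fPi {k l : ℕ} (M : Matrix (Fin k) (Fin l) S) (v : Fin l → S) :
    (M.map (algebraMap S (Localization.AtPrime q))).mulVec (fPi q l v) = fPi q k (M.mulVec v) := by
  funext i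
  exact (RingHom.map_mulVec _ M v i).symm

theorem mulVec_smul_tower {k l : ℕ} (N : Matrix (Fin k) (Fin l) (Localization.AtPrime q)) (x : S)
    (w : Fin l → Localization.AtPrime q) : N.mulVec (x • w) = x • N.mulVec w := by
  rw [← algebraMap_smul (Localization.AtPrime q) x w, Matrix.mulVec_smul, algebraMap_smul]

/-- Middle exactness of the localized sequence in terms of the sequence over `S`. -/
theorem ker_eq_range_map_iff {a b c : ℕ} (φ : Matrix (Fin a) (Fin b) S)
    (φ' : Matrix (Fin b) (Fin c) S) (h0 : φ * φ' = 0) :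
    LinearMap.ker (Matrix.mulVecLin (φ.map (algebraMap S (Localization.AtPrime q)))) =
        LinearMap.range (Matrix.mulVecLin (φ'.map (algebraMap S (Localization.AtPrime q)))) ↔
      ∀ v ∈ LinearMap.ker (Matrix.mulVecLin φ), ∃ s ∈ q.primeCompl,
        s • v ∈ LinearMap.range (Matrix.mulVecLin φ') := by
  constructor
  · intro h v hv
    have h1 : fPi q b v ∈ LinearMap.ker
        (Matrix.mulVecLin (φ.map (algebraMap S (Localization.AtPrime q)))) := by
      rw [LinearMap.mem_ker, Matrix.mulVecLin_apply, mulVec_fPi]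
      have hv' : φ.mulVec v = 0 := hv
      rw [hv', map_zero]
    rw [h] at h1
    obtain ⟨w, hw⟩ := h1
    rw [Matrix.mulVecLin_apply] at hw
    obtain ⟨⟨w₀, t⟩, ht⟩ := IsLocalizedModule.surj q.primeCompl (fPi q c) w
    have ht' : t.1 • w = fPi q c w₀ := ht
    have h2 : fPi q b (t.1 • v) = fPi q b (φ'.mulVec w₀) := by
      rw [map_smul, ← hw, ← mulVec_smul_tower, ht', mulVec_fPi]
    obtain ⟨s', hs'⟩ := IsLocalizedModule.exists_of_eq (S := q.primeCompl) (f := fPi q b) h2
    have hs'' : s'.1 • t.1 • v = s'.1 • φ'.mulVec w₀ := hs'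
    refine ⟨s'.1 * t.1, (s' * t).2, ?_⟩
    rw [mul_smul, hs'']
    exact ⟨s'.1 • w₀, by rw [Matrix.mulVecLin_apply, Matrix.mulVec_smul]⟩
  · intro H
    apply le_antisymm
    · intro w hw
      rw [LinearMap.mem_ker, Matrix.mulVecLin_apply] at hw
      obtain ⟨⟨v₀, t⟩, ht⟩ := IsLocalizedModule.surj q.primeCompl (fPi q b) w
      have ht' : t.1 • w = fPi q b v₀ := ht
      have h1 : fPi q a (φ.mulVec v₀) = fPi q a 0 := by
        rw [← mulVec_fPi, ← ht', mulVec_smul_tower, hw, smul_zero, map_zero]
      obtain ⟨s', hs'⟩ := IsLocalizedModule.exists_of_eq (S := q.primeCompl) (f := fPi q a) h1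
      have hs'' : s'.1 • φ.mulVec v₀ = s'.1 • (0 : Fin a → S) := hs'
      have h2 : s'.1 • v₀ ∈ LinearMap.ker (Matrix.mulVecLin φ) := by
        rw [LinearMap.mem_ker, Matrix.mulVecLin_apply, Matrix.mulVec_smul, hs'', smul_zero]
      obtain ⟨s, hs, w₁, hw₁⟩ := H _ h2
      rw [Matrix.mulVecLin_apply] at hw₁
      have hunit := IsLocalization.map_units (Localization.AtPrime q)
        (⟨s * (s'.1 * t.1), (⟨s, hs⟩ * (s' * t) : q.primeCompl).2⟩ : q.primeCompl)
      obtain ⟨τ, hτ⟩ := hunit
      have h3 : (τ : Localization.AtPrime q) • w =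
          (φ'.map (algebraMap S (Localization.AtPrime q))).mulVec (fPi q c w₁) := by
        rw [mulVec_fPi, hw₁, hτ, algebraMap_smul, mul_smul, mul_smul, ht', ← map_smul, ← map_smul]
      refine ⟨(↑τ⁻¹ : Localization.AtPrime q) • fPi q c w₁, ?_⟩
      rw [Matrix.mulVecLin_apply, Matrix.mulVec_smul, ← h3, smul_smul, Units.inv_mul, one_smul]
    · rintro _ ⟨x, rfl⟩
      rw [LinearMap.mem_ker, Matrix.mulVecLin_apply, Matrix.mulVecLin_apply, Matrix.mulVec_mulVec,
        ← Matrix.map_mul, h0, Matrix.map_zero _ (map_zero _), Matrix.zero_mulVec]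

/-- The map induced by localization on cokernels. -/
noncomputable def cokerMap {a b : ℕ} (φ : Matrix (Fin a) (Fin b) S) :
    ((Fin a → S) ⧸ LinearMap.range (Matrix.mulVecLin φ)) →ₗ[S]
      ((Fin a → Localization.AtPrime q) ⧸
        LinearMap.range (Matrix.mulVecLin (φ.map (algebraMap S (Localization.AtPrime q))))) :=
  Submodule.mapQ _ ((LinearMap.range
    (Matrix.mulVecLin (φ.map (algebraMap S (Localization.AtPrime q))))).restrictScalars S)
    (fPi q a) (by
      rintro _ ⟨v, rfl⟩
      exact ⟨fPi q b v, by rw [Matrix.mulVecLin_apply, Matrix.mulVecLin_apply, mulVec_fPi]⟩)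

theorem cokerMap_mk {a b : ℕ} (φ : Matrix (Fin a) (Fin b) S) (v : Fin a → S) :
    cokerMap q φ (Submodule.Quotient.mk v) = Submodule.Quotient.mk (fPi q a v) := rfl

instance isLocalizedModule_cokerMap {a b : ℕ} (φ : Matrix (Fin a) (Fin b) S) :
    IsLocalizedModule q.primeCompl (cokerMap q φ) := by
  refine ⟨?_, ?_, ?_⟩
  · intro s
    obtain ⟨τ, hτ⟩ := IsLocalization.map_units (Localization.AtPrime q) s
    rw [Module.End.isUnit_iff]
    constructor
    · intro x y hxy
      have h1 : s.1 • x = s.1 • y := hxy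
      rw [← algebraMap_smul (Localization.AtPrime q) s.1 x,
        ← algebraMap_smul (Localization.AtPrime q) s.1 y, ← hτ] at h1
      have := congrArg (fun z => (↑τ⁻¹ : Localization.AtPrime q) • z) h1
      simpa [smul_smul] using this
    · intro x
      refine ⟨(↑τ⁻¹ : Localization.AtPrime q) • x, ?_⟩
      change s.1 • ((↑τ⁻¹ : Localization.AtPrime q) • x) = x
      rw [← algebraMap_smul (Localization.AtPrime q) s.1, ← hτ, smul_smul, Units.mul_inv, one_smul]
  · intro x
    obtain ⟨w, rfl⟩ := Submodule.Quotient.mk_surjective _ x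
    obtain ⟨⟨v₀, t⟩, ht⟩ := IsLocalizedModule.surj q.primeCompl (fPi q a) w
    have ht' : t.1 • w = fPi q a v₀ := ht
    refine ⟨⟨Submodule.Quotient.mk v₀, t⟩, ?_⟩
    change t.1 • (Submodule.Quotient.mk w : (Fin a → Localization.AtPrime q) ⧸
      LinearMap.range (Matrix.mulVecLin (φ.map (algebraMap S (Localization.AtPrime q))))) = _
    rw [cokerMap_mk, ← ht']
    rfl
  · intro x₁ x₂ h
    obtain ⟨v₁, rfl⟩ := Submodule.Quotient.mk_surjective _ x₁
    obtain ⟨v₂, rfl⟩ := Submodule.Quotient.mk_surjective _ x₂
    rw [cokerMap_mk, cokerMap_mk, Submodule.Quotient.eq, ← map_sub] at h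
    obtain ⟨w, hw⟩ := h
    rw [Matrix.mulVecLin_apply] at hw
    obtain ⟨⟨w₀, t⟩, ht⟩ := IsLocalizedModule.surj q.primeCompl (fPi q b) w
    have ht' : t.1 • w = fPi q b w₀ := ht
    have h2 : fPi q a (t.1 • (v₁ - v₂)) = fPi q a (φ.mulVec w₀) := by
      rw [map_smul, ← hw, ← mulVec_smul_tower, ht', mulVec_fPi]
    obtain ⟨s', hs'⟩ := IsLocalizedModule.exists_of_eq (S := q.primeCompl) (f := fPi q a) h2
    have hs'' : s'.1 • t.1 • (v₁ - v₂) = s'.1 • φ.mulVec w₀ := hs'
    refine ⟨s' * t, ?_⟩
    rw [Submonoid.smul_def, Submonoid.smul_def, Submonoid.coe_mul]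
    rw [← Submodule.Quotient.mk_smul, ← Submodule.Quotient.mk_smul, Submodule.Quotient.eq,
      ← smul_sub, mul_smul, hs'']
    exact ⟨s'.1 • w₀, by rw [Matrix.mulVecLin_apply, Matrix.mulVec_smul]⟩

/-- Flatness of the cokernel of the localized matrix is flatness of the localized cokernel. -/
theorem flat_coker_map_iff {R : Type u} [CommRing R] [Algebra R S] {a b : ℕ}
    (φ : Matrix (Fin a) (Fin b) S) :
    Module.Flat R ((Fin a → Localization.AtPrime q) ⧸
        LinearMap.range (Matrix.mulVecLin (φ.map (algebraMap S (Localization.AtPrime q))))) ↔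
      Module.Flat R (LocalizedModule q.primeCompl
        ((Fin a → S) ⧸ LinearMap.range (Matrix.mulVecLin φ))) := by
  let e := IsLocalizedModule.iso q.primeCompl (cokerMap q φ)
  exact (Module.Flat.equiv_iff (e.restrictScalars R)).symm

end Chart

section Open

variable {R S : Type u} [CommRing R] [CommRing S] [Algebra R S] [IsNoetherianRing R]
  [Algebra.FiniteType R S]

/-- The locus where the localized sequence `S_q^c → S_q^b → S_q^a` is exact in the middle and the
cokernel of `S_q^b → S_q^a` is `R`-flat is open. -/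
theorem isOpen_setOf_exact_and_flat {a b c : ℕ} (φ : Matrix (Fin a) (Fin b) S)
    (φ' : Matrix (Fin b) (Fin c) S) (h0 : φ * φ' = 0) :
    IsOpen {q : PrimeSpectrum S |
      LinearMap.ker (Matrix.mulVecLin (φ.map (algebraMap S (Localization.AtPrime q.asIdeal)))) =
        LinearMap.range
          (Matrix.mulVecLin (φ'.map (algebraMap S (Localization.AtPrime q.asIdeal)))) ∧
      Module.Flat R ((Fin a → Localization.AtPrime q.asIdeal) ⧸
        LinearMap.range
          (Matrix.mulVecLin (φ.map (algebraMap S (Localization.AtPrime q.asIdeal)))))} := by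
  haveI : Algebra.FinitePresentation R S :=
    Algebra.FinitePresentation.of_finiteType.mp inferInstance
  haveI : IsNoetherianRing S := Algebra.FiniteType.isNoetherianRing R S
  have hset : {q : PrimeSpectrum S |
      LinearMap.ker (Matrix.mulVecLin (φ.map (algebraMap S (Localization.AtPrime q.asIdeal)))) =
        LinearMap.range
          (Matrix.mulVecLin (φ'.map (algebraMap S (Localization.AtPrime q.asIdeal)))) ∧
      Module.Flat R ((Fin a → Localization.AtPrime q.asIdeal) ⧸
        LinearMap.range
          (Matrix.mulVecLin (φ.map (algebraMap S (Localization.AtPrime q.asIdeal)))))} =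
      (Module.support S (LinearMap.ker (Matrix.mulVecLin φ) ⧸
        (LinearMap.range (Matrix.mulVecLin φ')).comap
          (LinearMap.ker (Matrix.mulVecLin φ)).subtype))ᶜ ∩
      {q : PrimeSpectrum S | Module.Flat R (LocalizedModule q.asIdeal.primeCompl
        ((Fin a → S) ⧸ LinearMap.range (Matrix.mulVecLin φ)))} := by
    ext q
    simp only [Set.mem_ofPred_eq, Set.mem_inter_iff, Set.mem_compl_iff]
    rw [ker_eq_range_map_iff q.asIdeal φ φ' h0, flat_coker_map_iff q.asIdeal φ,
      Module.notMem_support_iff']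
    refine and_congr ?_ Iff.rfl
    constructor
    · intro h m
      obtain ⟨⟨v, hv⟩, rfl⟩ := Submodule.Quotient.mk_surjective _ m
      obtain ⟨s, hs, hsv⟩ := h v hv
      refine ⟨s, hs, ?_⟩
      rw [← Submodule.Quotient.mk_smul, Submodule.Quotient.mk_eq_zero]
      exact hsv
    · intro h v hv
      obtain ⟨r, hr, hr0⟩ := h (Submodule.Quotient.mk ⟨v, hv⟩)
      rw [← Submodule.Quotient.mk_smul, Submodule.Quotient.mk_eq_zero] at hr0
      exact ⟨r, hr, hr0⟩
  rw [hset]
  haveI : Module.FinitePresentation S ((Fin a → S) ⧸ LinearMap.range (Matrix.mulVecLin φ)) :=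
    Module.finitePresentation_of_finite S _
  exact (Module.isClosed_support).isOpen_compl.inter
    (Groth.Agent.Lib.Helper3.FlatOpen.isOpen_flatLocus_of_finitePresentation (R := R) (S := S)
      (M := (Fin a → S) ⧸ LinearMap.range (Matrix.mulVecLin φ)))

end Open

section Fibre

variable {R S : Type u} [CommRing R] [CommRing S] [Algebra R S] [IsNoetherianRing R]
  [Algebra.FiniteType R S] [Module.Flat R S]

omit [IsNoetherianRing R] [Algebra.FiniteType R S] [Module.Flat R S] in
theorem map_fibLocRing {a b : ℕ} (φ : Matrix (Fin a) (Fin b) S) (q : Ideal S) [q.IsPrime] :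
    φ.map (algebraMap S (EGA4.FibLocRing R S q)) =
      (φ.map (algebraMap S (Localization.AtPrime q))).map
        (Ideal.Quotient.mk ((q.comap (algebraMap R S)).map
          (algebraMap R (Localization.AtPrime q)))) := by
  ext i j
  rfl

/-- pointwise criterion: middle exactness over the fibre local ring. -/
theorem fibre_exact_iff {a b c : ℕ} (φ : Matrix (Fin a) (Fin b) S)
    (φ' : Matrix (Fin b) (Fin c) S) (h0 : φ * φ' = 0) (q : Ideal S) [q.IsPrime] :
    LinearMap.ker (Matrix.mulVecLin (φ.map (algebraMap S (EGA4.FibLocRing R S q)))) =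
        LinearMap.range (Matrix.mulVecLin (φ'.map (algebraMap S (EGA4.FibLocRing R S q)))) ↔
      (LinearMap.ker (Matrix.mulVecLin (φ.map (algebraMap S (Localization.AtPrime q)))) =
        LinearMap.range (Matrix.mulVecLin (φ'.map (algebraMap S (Localization.AtPrime q)))) ∧
      Module.Flat R ((Fin a → Localization.AtPrime q) ⧸
        LinearMap.range (Matrix.mulVecLin (φ.map (algebraMap S (Localization.AtPrime q)))))) := by
  haveI : IsNoetherianRing S := Algebra.FiniteType.isNoetherianRing R S
  haveI : IsNoetherianRing (Localization.AtPrime q) :=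
    IsLocalization.isNoetherianRing q.primeCompl (Localization.AtPrime q) inferInstance
  haveI : Module.Flat R (Localization.AtPrime q) := Module.Flat.trans R S (Localization.AtPrime q)
  have hp : (IsLocalRing.maximalIdeal (Localization.AtPrime q)).comap
      (algebraMap R (Localization.AtPrime q)) = q.comap (algebraMap R S) := by
    rw [IsScalarTower.algebraMap_eq R S (Localization.AtPrime q), ← Ideal.comap_comap]
    congr 1
    exact IsLocalization.AtPrime.under_maximalIdeal (Localization.AtPrime q) q
  have h0' : φ.map (algebraMap S (Localization.AtPrime q)) *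
      φ'.map (algebraMap S (Localization.AtPrime q)) = 0 := by
    rw [← Matrix.map_mul, h0, Matrix.map_zero _ (map_zero _)]
  rw [map_fibLocRing φ q, map_fibLocRing φ' q]
  exact local_iff (q.comap (algebraMap R S)) hp _ _ h0'

/-- **Openness of fibrewise middle exactness** for `S` flat of finite type over Noetherian `R`. -/
theorem isOpen_setOf_fibre_exact {a b c : ℕ} (φ : Matrix (Fin a) (Fin b) S)
    (φ' : Matrix (Fin b) (Fin c) S) (h0 : φ * φ' = 0) :
    IsOpen {q : PrimeSpectrum S |
      LinearMap.ker (Matrix.mulVecLin (φ.map (algebraMap S (EGA4.FibLocRing R S q.asIdeal)))) =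
        LinearMap.range
          (Matrix.mulVecLin (φ'.map (algebraMap S (EGA4.FibLocRing R S q.asIdeal))))} := by
  have := isOpen_setOf_exact_and_flat (R := R) φ φ' h0
  convert this using 2
  ext q
  exact fibre_exact_iff φ φ' h0 q.asIdeal

/-- **Openness of fibrewise injectivity**. -/
theorem isOpen_setOf_fibre_injective {a b : ℕ} (φ : Matrix (Fin a) (Fin b) S) :
    IsOpen {q : PrimeSpectrum S | Function.Injective
      (Matrix.mulVecLin (φ.map (algebraMap S (EGA4.FibLocRing R S q.asIdeal))))} := by
  have := isOpen_setOf_fibre_exact (R := R) φ (0 : Matrix (Fin b) (Fin 0) S) (Matrix.mul_zero φ)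
  convert this using 2
  ext q
  rw [← LinearMap.ker_eq_bot, Matrix.map_zero _ (map_zero _),
    Matrix.mulVecLin_zero, LinearMap.range_zero]

end Fibre

end Groth.Agent.Lib.T2H3.FibExact
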