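import Mathlib
import Groth.Agent.Lib.Helper2GenFree2
import Groth.Agent.Lib.Helper13Fiber

/-!
# Generic nowhere-density in fibres, ring level (helper3, team 2)

For a finite type algebra `B` over a domain `A` and an ideal `J` of `B` not contained in any
minimal prime of the generic fibre, there is `a ≠ 0` such that over `D(a)` every prime of `B`
has a generization in the same fibre that does not contain `J`.
-/

set_option autoImplicit false
set_option linter.style.haveILetI false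
universe u

open TensorProduct

namespace Groth.Agent.Lib.T2H3.GenNowhereDense

open Groth.Agent.Lib.Helper2.GenFree

section fibre

variable {A B : Type u} [CommRing A] [CommRing B] [Algebra A B]

/-- the prime of `B` cut out by a prime of the fibre ring -/
noncomputable def pull (p : PrimeSpectrum A) (Q : PrimeSpectrum (p.asIdeal.Fiber B)) :
    PrimeSpectrum B :=
  ((PrimeSpectrum.preimageOrderIsoFiber A B p).symm Q).1

lemma pull_comap (p : PrimeSpectrum A) (Q : PrimeSpectrum (p.asIdeal.Fiber B)) :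
    PrimeSpectrum.comap (algebraMap A B) (pull p Q) = p :=
  ((PrimeSpectrum.preimageOrderIsoFiber A B p).symm Q).2

lemma pull_asIdeal (p : PrimeSpectrum A) (Q : PrimeSpectrum (p.asIdeal.Fiber B)) :
    (pull p Q).asIdeal = Q.asIdeal.comap Algebra.TensorProduct.includeRight.toRingHom := rfl

lemma pull_le_pull {p : PrimeSpectrum A} {Q Q' : PrimeSpectrum (p.asIdeal.Fiber B)} :
    pull p Q ≤ pull p Q' ↔ Q ≤ Q' :=
  (PrimeSpectrum.preimageOrderIsoFiber A B p).symm.le_iff_le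

lemma exists_pull_eq (p : PrimeSpectrum A) (𝔮 : PrimeSpectrum B)
    (h : PrimeSpectrum.comap (algebraMap A B) 𝔮 = p) :
    ∃ Q : PrimeSpectrum (p.asIdeal.Fiber B), pull p Q = 𝔮 :=
  ⟨PrimeSpectrum.preimageOrderIsoFiber A B p ⟨𝔮, h⟩, by
    unfold pull
    rw [OrderIso.symm_apply_apply]⟩

/-- every prime in the fibre over `p` has a generization in the fibre, minimal there, of the
form `pull p Q` with `Q` a minimal prime of the fibre ring. -/
lemma exists_minimal_pull_le (p : PrimeSpectrum A) (𝔮 : PrimeSpectrum B)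
    (h : PrimeSpectrum.comap (algebraMap A B) 𝔮 = p) :
    ∃ Q : PrimeSpectrum (p.asIdeal.Fiber B), Q.asIdeal ∈ minimalPrimes (p.asIdeal.Fiber B) ∧
      pull p Q ≤ 𝔮 := by
  obtain ⟨Q₀, rfl⟩ := exists_pull_eq p 𝔮 h
  haveI := Q₀.2
  obtain ⟨P, hP, hPQ⟩ := Ideal.exists_minimalPrimes_le (bot_le : (⊥ : Ideal _) ≤ Q₀.asIdeal)
  exact ⟨⟨P, hP.1.1⟩, hP, pull_le_pull.mpr hPQ⟩

end fibre

section regular

variable {A : Type u} [CommRing A] [IsDomain A] {C : Type u} [CommRing C] [IsDomain C]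
  [Algebra A C] [Algebra.FiniteType A C]

/-- **Generic regularity on fibres**: a nonzero element of a finite type domain `C` over a domain
`A` is a nonzerodivisor on all fibre rings over a nonempty basic open of `Spec A`. -/
theorem exists_ne_zero_forall_mem_nonZeroDivisors (g : C) (hg : g ≠ 0) :
    ∃ a : A, a ≠ 0 ∧ ∀ p : PrimeSpectrum A, a ∉ p.asIdeal →
      (1 : p.asIdeal.ResidueField) ⊗ₜ[A] g ∈ nonZeroDivisors (p.asIdeal.Fiber C) := by
  classical
  set N : Ideal C := Ideal.span {g} with hN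
  obtain ⟨f₁, hf₁, -, hM₁, -, -⟩ := exists_freeAway A C (C ⧸ N)
  refine ⟨f₁, hf₁, fun p hp => ?_⟩
  set v : C →ₗ[A] C := LinearMap.mulLeft A g with hv
  have hrange : LinearMap.range v = N.restrictScalars A := by
    ext x
    simp only [LinearMap.mem_range, Submodule.restrictScalars_mem, hN, Ideal.mem_span_singleton',
      hv, LinearMap.mulLeft_apply]
    constructor
    · rintro ⟨y, rfl⟩; exact ⟨y, mul_comm _ _⟩
    · rintro ⟨y, rfl⟩; exact ⟨y, mul_comm _ _⟩
  have hfree : FreeAway A f₁ (C ⧸ LinearMap.range v) := by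
    rw [hrange]
    exact hM₁.of_linearEquiv (Submodule.Quotient.restrictScalarsEquiv A N).symm
  haveI : Module.Free (Localization.Away f₁) (Localization.Away f₁ ⊗[A] (C ⧸ LinearMap.range v)) :=
    hfree.free (Localization.Away f₁) (TensorProduct.mk A (Localization.Away f₁) _ 1)
  have hκ : IsUnit (algebraMap A p.asIdeal.ResidueField f₁) := by
    rw [isUnit_iff_ne_zero, Ne, Ideal.algebraMap_residueField_eq_zero]
    exact hp
  have hex := exact_baseChange_of_flat_coker_away f₁ (0 : C →ₗ[A] C) v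
    (fun x => ⟨0, by simp⟩)
    (fun y hy => ⟨0, by
      have : y = 0 := by
        rw [hv, LinearMap.mulLeft_apply] at hy
        exact (mul_eq_zero.mp hy).resolve_left hg
      simp [this]⟩) inferInstance p.asIdeal.ResidueField hκ
  have hinj : Function.Injective (v.baseChange p.asIdeal.ResidueField) := by
    rw [injective_iff_map_eq_zero]
    intro z hz
    obtain ⟨w, hw⟩ := (hex z).mp hz
    rw [← hw]
    simp
  have key : ∀ z : p.asIdeal.Fiber C,
      v.baseChange p.asIdeal.ResidueField z = z * ((1 : p.asIdeal.ResidueField) ⊗ₜ[A] g) := by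
    intro z
    induction z using TensorProduct.induction_on with
    | zero => simp
    | tmul k c =>
      rw [LinearMap.baseChange_tmul, Algebra.TensorProduct.tmul_mul_tmul, mul_one, hv,
        LinearMap.mulLeft_apply, mul_comm]
    | add x y hx hy => rw [map_add, hx, hy, add_mul]
  rw [mem_nonZeroDivisors_iff_right]
  intro z hz
  apply hinj
  rw [map_zero, key, hz]

end regular

section main

variable {A B : Type u} [CommRing A] [IsDomain A] [CommRing B] [Algebra A B]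
  [Algebra.FiniteType A B]

variable (A) in
/-- the generic point of `Spec A` -/
def gen : PrimeSpectrum A := ⟨⊥, Ideal.isPrime_bot⟩

omit [Algebra.FiniteType A B] in
/-- one horizontal component: generically in the base, every point of the component
`V(pull Q)` has a generization in its fibre avoiding `V(J)`. -/
lemma single (J : Ideal B) (Q : PrimeSpectrum ((gen A).asIdeal.Fiber B))
    [Algebra.FiniteType A (B ⧸ (pull (gen A) Q).asIdeal)]
    (hJQ : ¬ J ≤ (pull (gen A) Q).asIdeal) :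
    ∃ a : A, a ≠ 0 ∧ ∀ 𝔮 : PrimeSpectrum B,
      a ∉ (PrimeSpectrum.comap (algebraMap A B) 𝔮).asIdeal → pull (gen A) Q ≤ 𝔮 →
      ∃ 𝔮' : PrimeSpectrum B, PrimeSpectrum.comap (algebraMap A B) 𝔮' =
        PrimeSpectrum.comap (algebraMap A B) 𝔮 ∧ 𝔮' ≤ 𝔮 ∧ ¬ J ≤ 𝔮'.asIdeal := by
  set 𝔭 : Ideal B := (pull (gen A) Q).asIdeal with h𝔭
  haveI : 𝔭.IsPrime := (pull (gen A) Q).2
  obtain ⟨g, hgJ, hg𝔭⟩ := SetLike.not_le_iff_exists.mp hJQ
  have hg0 : Ideal.Quotient.mk 𝔭 g ≠ 0 := fun h => hg𝔭 (Ideal.Quotient.eq_zero_iff_mem.mp h)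
  obtain ⟨a, ha, hreg⟩ := exists_ne_zero_forall_mem_nonZeroDivisors (A := A) (C := B ⧸ 𝔭) _ hg0
  refine ⟨a, ha, fun 𝔮 ha𝔮 hQ𝔮 => ?_⟩
  have hmem : 𝔮 ∈ PrimeSpectrum.zeroLocus (𝔭 : Set B) := by
    rw [PrimeSpectrum.mem_zeroLocus]
    exact hQ𝔮
  rw [← Ideal.mk_ker (I := 𝔭), ← _root_.range_comap_of_surjective _ _
    Ideal.Quotient.mk_surjective] at hmem
  obtain ⟨qb, hqb⟩ := hmem
  set p := PrimeSpectrum.comap (algebraMap A B) 𝔮 with hp
  have hcomp : ∀ z : PrimeSpectrum (B ⧸ 𝔭), PrimeSpectrum.comap (algebraMap A (B ⧸ 𝔭)) z =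
      PrimeSpectrum.comap (algebraMap A B) (PrimeSpectrum.comap (Ideal.Quotient.mk 𝔭) z) := by
    intro z
    rw [IsScalarTower.algebraMap_eq A B (B ⧸ 𝔭)]
    rfl
  have hqbp : PrimeSpectrum.comap (algebraMap A (B ⧸ 𝔭)) qb = p := by
    rw [hcomp, hqb]
  obtain ⟨P, hP, hPqb⟩ := exists_minimal_pull_le p qb hqbp
  have hnot : (1 : p.asIdeal.ResidueField) ⊗ₜ[A] (Ideal.Quotient.mk 𝔭 g) ∉ P.asIdeal := by
    intro hmemP
    exact Set.disjoint_left.mp (Ideal.disjoint_nonZeroDivisors_of_mem_minimalPrimes hP) hmemP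
      (hreg p ha𝔮)
  refine ⟨PrimeSpectrum.comap (Ideal.Quotient.mk 𝔭) (pull p P), ?_, ?_, ?_⟩
  · rw [← hcomp, pull_comap]
  · rw [← hqb]
    exact Ideal.comap_mono hPqb
  · intro hle
    have h1 : g ∈ (PrimeSpectrum.comap (Ideal.Quotient.mk 𝔭) (pull p P)).asIdeal := hle hgJ
    rw [PrimeSpectrum.comap_asIdeal, Ideal.mem_comap, pull_asIdeal, Ideal.mem_comap] at h1
    exact hnot h1

/-- generically in the base, every point lies on one of the (finitely many) horizontal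
components. -/
lemma exists_ne_zero_forall_exists_pull_le :
    ∃ a : A, a ≠ 0 ∧ ∀ 𝔮 : PrimeSpectrum B,
      a ∉ (PrimeSpectrum.comap (algebraMap A B) 𝔮).asIdeal →
      ∃ Q : PrimeSpectrum ((gen A).asIdeal.Fiber B),
        Q.asIdeal ∈ minimalPrimes ((gen A).asIdeal.Fiber B) ∧ pull (gen A) Q ≤ 𝔮 := by
  classical
  obtain ⟨a₀, ha₀, hfreeB, -, -, -⟩ := exists_freeAway A B B
  refine ⟨a₀, ha₀, fun 𝔮 ha𝔮 => ?_⟩
  by_contra hcon
  simp only [not_exists, not_and] at hcon
  haveI : IsNoetherianRing ((gen A).asIdeal.Fiber B) :=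
    Algebra.FiniteType.isNoetherianRing (gen A).asIdeal.ResidueField _
  have hfin := minimalPrimes.finite_of_isNoetherianRing ((gen A).asIdeal.Fiber B)
  -- choose an element of each horizontal component outside `𝔮`
  have hch : ∀ I : Ideal ((gen A).asIdeal.Fiber B), ∃ b : B,
      (I ∈ minimalPrimes ((gen A).asIdeal.Fiber B) →
        Algebra.TensorProduct.includeRight (R := A) (A := (gen A).asIdeal.ResidueField) b ∈ I) ∧
      b ∉ 𝔮.asIdeal := by
    intro I
    by_cases hI : I ∈ minimalPrimes ((gen A).asIdeal.Fiber B)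
    · have h1 : ¬ (pull (gen A) ⟨I, hI.1.1⟩).asIdeal ≤ 𝔮.asIdeal := hcon ⟨I, hI.1.1⟩ hI
      obtain ⟨b, hb1, hb2⟩ := SetLike.not_le_iff_exists.mp h1
      exact ⟨b, fun _ => hb1, hb2⟩
    · exact ⟨1, fun h => absurd h hI, 𝔮.asIdeal.ne_top_iff_one.mp 𝔮.2.ne_top⟩
  choose b hb1 hb2 using hch
  set β : B := ∏ I ∈ hfin.toFinset, b I with hβ
  have hβ𝔮 : β ∉ 𝔮.asIdeal := by
    rw [hβ, 𝔮.2.prod_mem_iff]
    rintro ⟨I, -, hI⟩
    exact hb2 I hI
  have hnil : Algebra.TensorProduct.includeRight (R := A)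
      (A := (gen A).asIdeal.ResidueField) β ∈ nilradical ((gen A).asIdeal.Fiber B) := by
    rw [nilradical, ← Ideal.sInf_minimalPrimes, Ideal.mem_sInf]
    intro I hI
    have hdvd : b I ∣ β := Finset.dvd_prod_of_mem _ (hfin.mem_toFinset.mpr hI)
    exact Ideal.mem_of_dvd I (map_dvd _ hdvd) (hb1 I hI)
  obtain ⟨e, he⟩ := hnil
  rw [← map_pow, Algebra.TensorProduct.includeRight_apply] at he
  obtain ⟨t, ht, hte⟩ :=
    Groth.Agent.Helper13Fiber.exists_smul_mem_of_tmul_eq_zero (gen A).asIdeal (β ^ e) he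
  have ht0 : t ≠ 0 := fun h => ht (by rw [h]; exact Ideal.zero_mem _)
  have hte0 : t • β ^ e = 0 := by
    have : ((gen A).asIdeal • ⊤ : Submodule A B) = ⊥ := by
      change ((⊥ : Ideal A) • ⊤ : Submodule A B) = ⊥
      exact Submodule.bot_smul _
    rw [this] at hte
    exact hte
  obtain ⟨n, hn⟩ := hfreeB.exists_pow_smul_eq_zero ht0 hte0
  have hmem : algebraMap A B (a₀ ^ n) * β ^ e ∈ 𝔮.asIdeal := by
    rw [← Algebra.smul_def, hn]
    exact Ideal.zero_mem _
  rcases 𝔮.2.mem_or_mem hmem with h | h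
  · apply ha𝔮
    rw [PrimeSpectrum.comap_asIdeal, Ideal.mem_comap]
    rw [map_pow] at h
    exact 𝔮.2.mem_of_pow_mem _ h
  · exact hβ𝔮 (𝔮.2.mem_of_pow_mem _ h)

/-- **Generic nowhere-density in fibres**, ring level. -/
theorem exists_ne_zero_forall_exists_le (J : Ideal B)
    (hJ : ∀ Q : PrimeSpectrum ((gen A).asIdeal.Fiber B),
      Q.asIdeal ∈ minimalPrimes ((gen A).asIdeal.Fiber B) → ¬ J ≤ (pull (gen A) Q).asIdeal) :
    ∃ a : A, a ≠ 0 ∧ ∀ 𝔮 : PrimeSpectrum B,
      a ∉ (PrimeSpectrum.comap (algebraMap A B) 𝔮).asIdeal →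
      ∃ 𝔮' : PrimeSpectrum B, PrimeSpectrum.comap (algebraMap A B) 𝔮' =
        PrimeSpectrum.comap (algebraMap A B) 𝔮 ∧ 𝔮' ≤ 𝔮 ∧ ¬ J ≤ 𝔮'.asIdeal := by
  classical
  obtain ⟨a₀, ha₀, hcov⟩ := exists_ne_zero_forall_exists_pull_le (A := A) (B := B)
  haveI : IsNoetherianRing ((gen A).asIdeal.Fiber B) :=
    Algebra.FiniteType.isNoetherianRing (gen A).asIdeal.ResidueField _
  have hfin := minimalPrimes.finite_of_isNoetherianRing ((gen A).asIdeal.Fiber B)
  have hs : ∀ I : Ideal ((gen A).asIdeal.Fiber B), ∃ a : A, a ≠ 0 ∧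
      ∀ hI : I ∈ minimalPrimes ((gen A).asIdeal.Fiber B), ∀ 𝔮 : PrimeSpectrum B,
      a ∉ (PrimeSpectrum.comap (algebraMap A B) 𝔮).asIdeal →
      pull (gen A) ⟨I, hI.1.1⟩ ≤ 𝔮 →
      ∃ 𝔮' : PrimeSpectrum B, PrimeSpectrum.comap (algebraMap A B) 𝔮' =
        PrimeSpectrum.comap (algebraMap A B) 𝔮 ∧ 𝔮' ≤ 𝔮 ∧ ¬ J ≤ 𝔮'.asIdeal := by
    intro I
    by_cases hI : I ∈ minimalPrimes ((gen A).asIdeal.Fiber B)
    · obtain ⟨a, ha, h⟩ := single J ⟨I, hI.1.1⟩ (hJ _ hI)
      exact ⟨a, ha, fun _ => h⟩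
    · exact ⟨1, one_ne_zero, fun h => absurd h hI⟩
  choose α hα0 hα using hs
  refine ⟨a₀ * ∏ I ∈ hfin.toFinset, α I,
    mul_ne_zero ha₀ (Finset.prod_ne_zero_iff.mpr fun I _ => hα0 I), fun 𝔮 ha𝔮 => ?_⟩
  set p := PrimeSpectrum.comap (algebraMap A B) 𝔮 with hp
  have h1 : a₀ ∉ p.asIdeal := fun h => ha𝔮 (Ideal.mul_mem_right _ _ h)
  obtain ⟨Q, hQ, hQ𝔮⟩ := hcov 𝔮 h1
  have h2 : α Q.asIdeal ∉ p.asIdeal := by
    intro h
    apply ha𝔮
    apply Ideal.mul_mem_left
    exact Ideal.mem_of_dvd _ (Finset.dvd_prod_of_mem _ (hfin.mem_toFinset.mpr hQ)) h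
  exact hα Q.asIdeal hQ 𝔮 h2 hQ𝔮

end main

section general

variable {A B : Type u} [CommRing A] [CommRing B] [Algebra A B] [Algebra.FiniteType A B]

/-- **Generic nowhere-density in fibres** over a ring whose nilradical `η` is prime: if `J` is
contained in no minimal point of the fibre over `η`, then over a basic open neighbourhood of `η`
every prime of `B` has a generization in its fibre which does not contain `J`. -/
theorem exists_notMem_forall_exists_le (η : Ideal A) [η.IsPrime]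
    (hη : ∀ q : Ideal A, q.IsPrime → η ≤ q) (J : Ideal B)
    (hJ : ∀ 𝔮 : PrimeSpectrum B, 𝔮.asIdeal.comap (algebraMap A B) = η →
      (∀ 𝔮' : PrimeSpectrum B, 𝔮'.asIdeal.comap (algebraMap A B) = η → 𝔮' ≤ 𝔮 → 𝔮' = 𝔮) →
      ¬ J ≤ 𝔮.asIdeal) :
    ∃ a ∉ η, ∀ 𝔮 : PrimeSpectrum B, a ∉ 𝔮.asIdeal.comap (algebraMap A B) →
      ∃ 𝔮' : PrimeSpectrum B, 𝔮'.asIdeal.comap (algebraMap A B) =
        𝔮.asIdeal.comap (algebraMap A B) ∧ 𝔮' ≤ 𝔮 ∧ ¬ J ≤ 𝔮'.asIdeal := by
  classical
  set K : Ideal B := η.map (algebraMap A B) with hK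
  have hle : η ≤ K.comap (algebraMap A B) := Ideal.le_comap_map
  letI : Algebra (A ⧸ η) (B ⧸ K) := (Ideal.quotientMap K (algebraMap A B) hle).toAlgebra
  haveI : IsScalarTower A (A ⧸ η) (B ⧸ K) := IsScalarTower.of_algebraMap_eq' (by
    rw [RingHom.algebraMap_toAlgebra, Ideal.Quotient.algebraMap_eq, Ideal.quotientMap_comp_mk]
    rfl)
  haveI : Algebra.FiniteType A (B ⧸ K) := inferInstance
  haveI : Algebra.FiniteType (A ⧸ η) (B ⧸ K) :=
    Algebra.FiniteType.of_restrictScalars_finiteType A (A ⧸ η) (B ⧸ K)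
  set π : B →+* B ⧸ K := Ideal.Quotient.mk K with hπ
  -- compatibility of contractions
  have hcomp : ∀ z : PrimeSpectrum (B ⧸ K),
      (PrimeSpectrum.comap π z).asIdeal.comap (algebraMap A B) =
        ((PrimeSpectrum.comap (algebraMap (A ⧸ η) (B ⧸ K)) z).asIdeal).comap
          (Ideal.Quotient.mk η) := by
    intro z
    ext x
    simp only [PrimeSpectrum.comap_asIdeal, Ideal.mem_comap]
    rw [hπ, ← Ideal.Quotient.algebraMap_eq, ← IsScalarTower.algebraMap_apply,
      ← Ideal.Quotient.algebraMap_eq, ← IsScalarTower.algebraMap_apply]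
  -- every prime of `B` comes from `B ⧸ K`
  have hlift : ∀ 𝔮 : PrimeSpectrum B, ∃ z : PrimeSpectrum (B ⧸ K), PrimeSpectrum.comap π z = 𝔮 := by
    intro 𝔮
    have hmem : 𝔮 ∈ PrimeSpectrum.zeroLocus (K : Set B) := by
      rw [PrimeSpectrum.mem_zeroLocus, SetLike.coe_subset_coe, hK, Ideal.map_le_iff_le_comap]
      exact hη _ (Ideal.comap_isPrime _ _)
    rw [← Ideal.mk_ker (I := K), ← _root_.range_comap_of_surjective _ _
      Ideal.Quotient.mk_surjective] at hmem
    exact hmem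
  have hπmono : ∀ z z' : PrimeSpectrum (B ⧸ K),
      PrimeSpectrum.comap π z ≤ PrimeSpectrum.comap π z' ↔ z ≤ z' := by
    intro z z'
    constructor
    · intro h x hx
      obtain ⟨y, rfl⟩ := Ideal.Quotient.mk_surjective x
      exact h hx
    · intro h
      exact Ideal.comap_mono h
  have hπinj : ∀ z z' : PrimeSpectrum (B ⧸ K),
      PrimeSpectrum.comap π z = PrimeSpectrum.comap π z' → z = z' := by
    intro z z' h
    exact le_antisymm ((hπmono z z').mp h.le) ((hπmono z' z).mp h.ge)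
  have hbot : ∀ I : Ideal (A ⧸ η), I.comap (Ideal.Quotient.mk η) = η ↔ I = ⊥ := by
    intro I
    constructor
    · intro h
      rw [eq_bot_iff]
      intro x hx
      obtain ⟨y, rfl⟩ := Ideal.Quotient.mk_surjective x
      have : y ∈ I.comap (Ideal.Quotient.mk η) := hx
      rw [h] at this
      exact (Ideal.Quotient.eq_zero_iff_mem.mpr this)
    · rintro rfl
      rw [← RingHom.ker_eq_comap_bot, Ideal.mk_ker]
  -- apply the domain case
  obtain ⟨a', ha', hmain⟩ := exists_ne_zero_forall_exists_le (A := A ⧸ η) (B := B ⧸ K)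
    (J.map π) (by
      intro Q hQ hJle
      rw [Ideal.map_le_iff_le_comap] at hJle
      refine hJ (PrimeSpectrum.comap π (pull (gen (A ⧸ η)) Q)) ?_ ?_ hJle
      · rw [hcomp, pull_comap]
        exact (hbot _).mpr rfl
      · intro 𝔮' h𝔮' hle'
        obtain ⟨z, rfl⟩ := hlift 𝔮'
        rw [hπmono] at hle'
        rw [hcomp, hbot] at h𝔮'
        obtain ⟨Q', hQ'⟩ := exists_pull_eq (gen (A ⧸ η)) z (PrimeSpectrum.ext h𝔮')
        rw [← hQ'] at hle' ⊢
        rw [pull_le_pull] at hle'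
        have : Q' = Q := by
          apply PrimeSpectrum.ext
          exact le_antisymm hle' (hQ.2 ⟨Q'.2, bot_le⟩ hle')
        rw [this])
  obtain ⟨a, rfl⟩ := Ideal.Quotient.mk_surjective a'
  refine ⟨a, fun h => ha' (Ideal.Quotient.eq_zero_iff_mem.mpr h), fun 𝔮 ha𝔮 => ?_⟩
  obtain ⟨z, rfl⟩ := hlift 𝔮
  obtain ⟨z', hz'1, hz'2, hz'3⟩ := hmain z (by
    intro h
    apply ha𝔮
    rw [hcomp]
    exact h)
  refine ⟨PrimeSpectrum.comap π z', ?_, (hπmono _ _).mpr hz'2, ?_⟩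
  · rw [hcomp, hcomp, hz'1]
  · intro h
    apply hz'3
    rw [Ideal.map_le_iff_le_comap]
    exact h

end general

end Groth.Agent.Lib.T2H3.GenNowhereDense
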