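import Mathlib
import Groth.Agent.Lib.T2H3GenNowhereDense
import Groth.Agent.Lib.T2H3FibDense

/-!
# Generic nowhere-density in the fibres of a finite type morphism (helper3, team 2)
-/

set_option autoImplicit false
set_option linter.style.haveILetI false
universe u

open AlgebraicGeometry CategoryTheory CategoryTheory.Limits TopologicalSpace Topology

namespace Groth.Agent.Lib.T2H3.FibNowhereDense

variable {X Y : Scheme.{u}}

/-- a nowhere dense closed subset of a fibre of a finite type morphism contains no maximal point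
of the fibre. -/
theorem notMem_of_isNowhereDense_of_maximal (f : X ⟶ Y) [LocallyOfFiniteType f] [QuasiCompact f]
    (y : Y) (Z : Set X) (hZ : IsClosed Z) (h : IsNowhereDense ((f.fiberι y) ⁻¹' Z)) (x : X)
    (hx : f x = y) (hmax : ∀ x' : X, f x' = y → x' ⤳ x → x' = x) : x ∉ Z := by
  haveI : IsLocallyNoetherian (f.fiber y) :=
    LocallyOfFiniteType.isLocallyNoetherian (f.fiberToSpecResidueField y)
  haveI : IsNoetherian (f.fiber y) := {}
  obtain ⟨z, hz⟩ : x ∈ Set.range (f.fiberι y) := by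
    rw [Scheme.Hom.range_fiberι]; exact hx
  have hcl : IsClosed ((f.fiberι y) ⁻¹' Z) := hZ.preimage (f.fiberι y).continuous
  have hWd : Dense ((f.fiberι y) ⁻¹' Z)ᶜ := by
    rw [← interior_eq_empty_iff_dense_compl, ← hcl.isNowhereDense_iff]
    exact h
  have hzW := Groth.Agent.Lib.T2H3.FibDense.mem_of_dense_of_maximal hcl.isOpen_compl hWd z
    (fun z' hz' => by
      apply (f.fiberι y).isEmbedding.injective
      rw [hz]
      apply hmax
      · have : f.fiberι y z' ∈ Set.range (f.fiberι y) := ⟨z', rfl⟩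
        rw [Scheme.Hom.range_fiberι] at this
        exact this
      · rw [← hz]
        exact hz'.map (f.fiberι y).continuous)
  intro hxZ
  apply hzW
  change f.fiberι y z ∈ Z
  rw [hz]
  exact hxZ

/-- chart-level form of generic nowhere-density in fibres. -/
theorem exists_basicOpen_chart (f : X ⟶ Y) [IrreducibleSpace Y] {Y₀ : Y.Opens}
    (hY₀ : IsAffineOpen Y₀) (hη : genericPoint Y ∈ Y₀) {U : X.Opens} (hU : IsAffineOpen U)
    (e : U ≤ f ⁻¹ᵁ Y₀) (hft : (f.appLE Y₀ U e).hom.FiniteType) (Z : Set X) (hZ : IsClosed Z)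
    (hmax : ∀ x : X, f x = genericPoint Y →
      (∀ x' : X, f x' = genericPoint Y → x' ⤳ x → x' = x) → x ∉ Z) :
    ∃ a : Γ(Y, Y₀), genericPoint Y ∈ Y.basicOpen a ∧ ∀ x ∈ U, f x ∈ Y.basicOpen a →
      ∃ x' : X, x' ⤳ x ∧ f x' = f x ∧ x' ∉ Z := by
  set φ := f.appLE Y₀ U e with hφ
  algebraize [φ.hom]
  haveI : Algebra.FiniteType Γ(Y, Y₀) Γ(X, U) := hft
  set ηA : PrimeSpectrum Γ(Y, Y₀) := hY₀.primeIdealOf ⟨genericPoint Y, hη⟩ with hηA
  have hηA' : hY₀.fromSpec ηA = genericPoint Y := hY₀.fromSpec_primeIdealOf ⟨genericPoint Y, hη⟩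
  haveI := hY₀.isOpenImmersion_fromSpec
  haveI := hU.isOpenImmersion_fromSpec
  have hYinj : Function.Injective hY₀.fromSpec := hY₀.fromSpec.isOpenEmbedding.injective
  -- compatibility of `f` with the chart
  have hcompat : ∀ 𝔮 : PrimeSpectrum Γ(X, U),
      f (hU.fromSpec 𝔮) = hY₀.fromSpec (PrimeSpectrum.comap φ.hom 𝔮) := by
    intro 𝔮
    have := congrArg (fun g : Spec Γ(X, U) ⟶ Y => g 𝔮)
      (IsAffineOpen.SpecMap_appLE_fromSpec f hY₀ hU e)
    exact this.symm
  have hηle : ∀ q : Ideal Γ(Y, Y₀), q.IsPrime → ηA.asIdeal ≤ q := by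
    intro q hq
    have h1 : genericPoint Y ⤳ hY₀.fromSpec ⟨q, hq⟩ := genericPoint_specializes _
    rw [← hηA'] at h1
    have h2 : ηA ⤳ (⟨q, hq⟩ : PrimeSpectrum Γ(Y, Y₀)) :=
      hY₀.fromSpec.isOpenEmbedding.isInducing.specializes_iff.mp h1
    exact (PrimeSpectrum.le_iff_specializes _ _).mpr h2
  set t : Set (PrimeSpectrum Γ(X, U)) := hU.fromSpec ⁻¹' Z with ht
  have htcl : IsClosed t := hZ.preimage hU.fromSpec.continuous
  set J : Ideal Γ(X, U) := PrimeSpectrum.vanishingIdeal t with hJ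
  have hJt : ∀ 𝔮 : PrimeSpectrum Γ(X, U), J ≤ 𝔮.asIdeal ↔ hU.fromSpec 𝔮 ∈ Z := by
    intro 𝔮
    have : PrimeSpectrum.zeroLocus (J : Set Γ(X, U)) = t := by
      rw [hJ, PrimeSpectrum.zeroLocus_vanishingIdeal_eq_closure, htcl.closure_eq]
    rw [← SetLike.coe_subset_coe, ← PrimeSpectrum.mem_zeroLocus, this]
    rfl
  obtain ⟨a, haη, hmain⟩ := Groth.Agent.Lib.T2H3.GenNowhereDense.exists_notMem_forall_exists_le
    (A := Γ(Y, Y₀)) (B := Γ(X, U)) ηA.asIdeal hηle J (by
      intro 𝔮 h𝔮 hmin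
      rw [hJt]
      have h𝔮' : PrimeSpectrum.comap φ.hom 𝔮 = ηA := PrimeSpectrum.ext h𝔮
      apply hmax
      · rw [hcompat, h𝔮', hηA']
      · intro x' hx' hsp
        have hx'U : x' ∈ U := by
          have hxU : hU.fromSpec 𝔮 ∈ U := by
            rw [← SetLike.mem_coe, ← hU.range_fromSpec]; exact ⟨𝔮, rfl⟩
          exact hsp.mem_open U.2 hxU
        have hx'eq : hU.fromSpec (hU.primeIdealOf ⟨x', hx'U⟩) = x' :=
          hU.fromSpec_primeIdealOf ⟨x', hx'U⟩
        rw [← hx'eq] at hsp hx' ⊢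
        have h1 : hU.primeIdealOf ⟨x', hx'U⟩ ⤳ 𝔮 :=
          hU.fromSpec.isOpenEmbedding.isInducing.specializes_iff.mp hsp
        have h2 : (hU.primeIdealOf ⟨x', hx'U⟩).asIdeal.comap (algebraMap Γ(Y, Y₀) Γ(X, U)) =
            ηA.asIdeal := by
          rw [hcompat, ← hηA'] at hx'
          exact congrArg PrimeSpectrum.asIdeal (hYinj hx')
        rw [hmin _ h2 ((PrimeSpectrum.le_iff_specializes _ _).mpr h1)])
  have hbasic : ∀ p : PrimeSpectrum Γ(Y, Y₀), hY₀.fromSpec p ∈ Y.basicOpen a ↔ a ∉ p.asIdeal := by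
    intro p
    have := hY₀.fromSpec_preimage_basicOpen a
    have h1 : p ∈ hY₀.fromSpec ⁻¹ᵁ Y.basicOpen a ↔ p ∈ PrimeSpectrum.basicOpen a := by
      rw [this]
      exact Iff.rfl
    exact h1
  refine ⟨a, ?_, ?_⟩
  · rw [← hηA', hbasic]
    exact haη
  · intro x hxU hfx
    have hxeq : hU.fromSpec (hU.primeIdealOf ⟨x, hxU⟩) = x := hU.fromSpec_primeIdealOf ⟨x, hxU⟩
    set 𝔮 := hU.primeIdealOf ⟨x, hxU⟩ with h𝔮
    rw [← hxeq, hcompat, hbasic] at hfx
    obtain ⟨𝔮', h1, h2, h3⟩ := hmain 𝔮 hfx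
    refine ⟨hU.fromSpec 𝔮', ?_, ?_, ?_⟩
    · rw [← hxeq]
      exact ((PrimeSpectrum.le_iff_specializes _ _).mp h2).map hU.fromSpec.continuous
    · rw [← hxeq, hcompat, hcompat]
      congr 1
      exact PrimeSpectrum.ext h1
    · rw [← hJt]
      exact h3

lemma mem_basicOpen_prod {ι : Type*} (S : Finset ι) {Y₀ : Y.Opens} (α : ι → Γ(Y, Y₀)) (y : Y)
    (hy : y ∈ Y₀) : y ∈ Y.basicOpen (∏ i ∈ S, α i) ↔ ∀ i ∈ S, y ∈ Y.basicOpen (α i) := by
  classical
  induction S using Finset.induction_on with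
  | empty =>
    simp only [Finset.prod_empty, Finset.notMem_empty, false_imp_iff, implies_true, iff_true]
    rw [Scheme.basicOpen_of_isUnit _ isUnit_one]
    exact hy
  | insert i S hi ih =>
    rw [Finset.prod_insert hi, Scheme.basicOpen_mul, Finset.forall_mem_insert, ← ih]
    exact Iff.rfl

/-- **Generic nowhere-density in fibres**: for `f : X ⟶ Y` of finite type with `Y` irreducible and
`Z ⊆ X` closed with nowhere dense trace on the generic fibre, the trace of `Z` on the fibre over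
`y` is nowhere dense for all `y` in a nonempty open subset of `Y`. -/
theorem exists_open_forall_isNowhereDense (f : X ⟶ Y) [IrreducibleSpace Y] [LocallyOfFiniteType f]
    [QuasiCompact f] (Z : Set X) (hZ : IsClosed Z)
    (h : IsNowhereDense ((f.fiberι (genericPoint Y)) ⁻¹' Z)) :
    ∃ V : Y.Opens, (V : Set Y).Nonempty ∧ ∀ y ∈ V, IsNowhereDense ((f.fiberι y) ⁻¹' Z) := by
  classical
  have hmax := fun x hx hm =>
    notMem_of_isNowhereDense_of_maximal f (genericPoint Y) Z hZ h x hx hm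
  obtain ⟨Y₀, hY₀, hη, -⟩ := exists_isAffineOpen_mem_and_subset (X := Y) (x := genericPoint Y)
    (U := ⊤) trivial
  have hcomp : IsCompact (f ⁻¹ᵁ Y₀ : Set X) := f.isCompact_preimage hY₀.isCompact
  obtain ⟨s, hs, hsU⟩ := isCompact_iff_finite_and_eq_biUnion_affineOpens.mp hcomp
  have hch : ∀ U : X.affineOpens, ∃ a : Γ(Y, Y₀), genericPoint Y ∈ Y.basicOpen a ∧
      (U ∈ s → ∀ x ∈ U.1, f x ∈ Y.basicOpen a → ∃ x' : X, x' ⤳ x ∧ f x' = f x ∧ x' ∉ Z) := by
    intro U
    by_cases hUs : U ∈ s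
    · have e : U.1 ≤ f ⁻¹ᵁ Y₀ := by
        rw [hsU]; exact le_iSup₂_of_le U hUs le_rfl
      obtain ⟨a, ha, h⟩ := exists_basicOpen_chart f hY₀ hη U.2 e
        (f.finiteType_appLE hY₀ U.2 e) Z hZ hmax
      exact ⟨a, ha, fun _ => h⟩
    · refine ⟨1, ?_, fun h => absurd h hUs⟩
      rw [Scheme.basicOpen_of_isUnit _ isUnit_one]
      exact hη
  choose α hαη hα using hch
  refine ⟨Y.basicOpen (∏ U ∈ hs.toFinset, α U), ⟨genericPoint Y, ?_⟩, fun y hy => ?_⟩
  · exact (mem_basicOpen_prod _ α _ hη).mpr fun U _ => hαη U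
  · have hyY₀ : y ∈ Y₀ := Y.basicOpen_le _ hy
    have hcl : IsClosed ((f.fiberι y) ⁻¹' Z) := hZ.preimage (f.fiberι y).continuous
    rw [hcl.isNowhereDense_iff, interior_eq_empty_iff_dense_compl]
    intro z
    set x := f.fiberι y z with hx
    have hfx : f x = y := by
      have : x ∈ Set.range (f.fiberι y) := ⟨z, rfl⟩
      rw [Scheme.Hom.range_fiberι] at this
      exact this
    have hxpre : x ∈ f ⁻¹ᵁ Y₀ := by
      change f x ∈ Y₀
      rw [hfx]; exact hyY₀
    rw [hsU] at hxpre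
    simp only [Opens.mem_iSup] at hxpre
    obtain ⟨U, hUs, hxU⟩ := hxpre
    have hfxa : f x ∈ Y.basicOpen (α U) := by
      rw [hfx]
      exact (mem_basicOpen_prod _ α _ hyY₀).mp hy U (hs.mem_toFinset.mpr hUs)
    obtain ⟨x', hsp, hfx', hx'Z⟩ := hα U hUs x hxU hfxa
    obtain ⟨z', hz'⟩ : x' ∈ Set.range (f.fiberι y) := by
      rw [Scheme.Hom.range_fiberι]
      exact hfx'.trans hfx
    have hsp' : z' ⤳ z := by
      apply (f.fiberι y).isEmbedding.isInducing.specializes_iff.mp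
      rw [hz']
      exact hsp
    have hz'mem : z' ∈ ((f.fiberι y) ⁻¹' Z)ᶜ := by
      intro hmem
      apply hx'Z
      rw [← hz']
      exact hmem
    exact closure_mono (Set.singleton_subset_iff.mpr hz'mem) (specializes_iff_mem_closure.mp hsp')

end Groth.Agent.Lib.T2H3.FibNowhereDense
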