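import Mathlib
import Groth.Agent.Lib.T2H3FibFinite
import Groth.Agent.Lib.T2H6ChowLim
import Groth.Agent.S9705

/-!
# "The map of fibres is proper" is a constructible property (EGA IV 9.6.1 (vi))

Strategy: over an integral Noetherian base, after shrinking the base the morphism `f : X ⟶ Y` is
separated (otherwise the maps of fibres are generically not proper). Chow's lemma gives a proper
surjective `π : X' ⟶ X` and an immersion `j : X' ⟶ P^n_Y` over `Y`; then `f_s` is proper iff the trace
of the locally closed set `range j` on the fibre of `P^n_Y` over `s` is closed, a condition which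
satisfies the dichotomy by generic compatibility of closures with fibres.
-/

set_option autoImplicit false

universe u

open AlgebraicGeometry CategoryTheory Limits TopologicalSpace Topology

namespace Groth.Agent.Lib.T2H3.FibProper

set_option linter.style.haveILetI false
set_option linter.unusedVariables false

open Groth.Agent.Lib.T2H3.FibDense Groth.Agent.Lib.T2H3.FibDominant Groth.Agent.Lib.T2H3.FibSep
  Groth.Agent.Lib.T2H3.FibFinite

/-- Chow-type criterion: `f` separated of finite type dominated by a proper surjective `π` from a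
scheme immersed in a proper `Y`-scheme is proper iff the immersion has closed range. -/
theorem isProper_iff_isClosed_range {X' X P Y : Scheme.{u}} (π : X' ⟶ X) (f : X ⟶ Y)
    (j : X' ⟶ P) (p : P ⟶ Y) [IsImmersion j] [IsProper p] [IsProper π] [Surjective π]
    [IsSeparated f] [LocallyOfFiniteType f] [QuasiCompact f] (hc : j ≫ p = π ≫ f) :
    IsProper f ↔ IsClosed (Set.range j) := by
  constructor
  · intro hf
    haveI : IsProper (j ≫ p) := by rw [hc]; infer_instance
    haveI : IsProper j := IsProper.of_comp j p
    exact j.isClosedMap.isClosed_range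
  · intro h
    haveI : IsClosedImmersion j := IsClosedImmersion.of_isPreimmersion _ h
    haveI : IsProper (π ≫ f) := by rw [← hc]; infer_instance
    haveI : UniversallyClosed f := UniversallyClosed.of_comp_surjective π f
    exact {}

/-- base-change form of the criterion. -/
theorem isProper_pullback_snd_iff {X' X P Y Y' : Scheme.{u}} (π : X' ⟶ X) (f : X ⟶ Y)
    (j : X' ⟶ P) (p : P ⟶ Y) [IsImmersion j] [IsProper p] [IsProper π] [Surjective π]
    [IsSeparated f] [LocallyOfFiniteType f] [QuasiCompact f] (hc : j ≫ p = π ≫ f) (ι : Y' ⟶ Y) :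
    IsProper (pullback.snd f ι) ↔ IsClosed ((pullback.fst p ι) ⁻¹' (Set.range j)) := by
  have hcomp : (pullback.fst π (pullback.fst f ι) ≫ j) ≫ p =
      (pullback.snd π (pullback.fst f ι) ≫ pullback.snd f ι) ≫ ι := by
    rw [Category.assoc, hc, ← Category.assoc, pullback.condition, Category.assoc,
      pullback.condition, Category.assoc]
  obtain ⟨j', hj'⟩ : ∃ j' : pullback π (pullback.fst f ι) ⟶ pullback p ι,
      j' = pullback.lift (pullback.fst π (pullback.fst f ι) ≫ j)
        (pullback.snd π (pullback.fst f ι) ≫ pullback.snd f ι) hcomp := ⟨_, rfl⟩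
  have hj1 : j' ≫ pullback.fst p ι = pullback.fst π (pullback.fst f ι) ≫ j := by
    rw [hj']; exact pullback.lift_fst _ _ _
  have hj2 : j' ≫ pullback.snd p ι = pullback.snd π (pullback.fst f ι) ≫ pullback.snd f ι := by
    rw [hj']; exact pullback.lift_snd _ _ _
  have hleft : IsPullback (pullback.fst π (pullback.fst f ι)) (pullback.snd π (pullback.fst f ι)) π
      (pullback.fst f ι) := IsPullback.of_hasPullback _ _
  have hout : IsPullback (pullback.fst π (pullback.fst f ι))
      (pullback.snd π (pullback.fst f ι) ≫ pullback.snd f ι) (π ≫ f) ι :=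
    hleft.paste_vert (IsPullback.of_hasPullback f ι)
  have hout' : IsPullback (pullback.fst π (pullback.fst f ι)) (j' ≫ pullback.snd p ι) (j ≫ p) ι := by
    rw [hj2, hc]; exact hout
  have hsq : IsPullback (pullback.fst π (pullback.fst f ι)) j' j (pullback.fst p ι) :=
    IsPullback.of_bot hout' hj1.symm (IsPullback.of_hasPullback p ι)
  haveI : IsImmersion j' := MorphismProperty.of_isPullback (P := @IsImmersion) hsq inferInstance
  haveI : IsProper (pullback.snd π (pullback.fst f ι)) :=
    MorphismProperty.pullback_snd (P := @IsProper) _ _ inferInstance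
  haveI : Surjective (pullback.snd π (pullback.fst f ι)) :=
    MorphismProperty.pullback_snd (P := @Surjective) _ _ inferInstance
  haveI : IsProper (pullback.snd p ι) :=
    MorphismProperty.pullback_snd (P := @IsProper) _ _ inferInstance
  haveI : IsSeparated (pullback.snd f ι) :=
    MorphismProperty.pullback_snd (P := @IsSeparated) _ _ inferInstance
  haveI : LocallyOfFiniteType (pullback.snd f ι) :=
    MorphismProperty.pullback_snd (P := @LocallyOfFiniteType) _ _ inferInstance
  haveI : QuasiCompact (pullback.snd f ι) :=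
    MorphismProperty.pullback_snd (P := @QuasiCompact) _ _ inferInstance
  rw [isProper_iff_isClosed_range (pullback.snd π (pullback.fst f ι)) (pullback.snd f ι) j'
    (pullback.snd p ι) hj2]
  have hrange : Set.range j' = (pullback.fst p ι) ⁻¹' (Set.range j) := by
    have := Scheme.image_preimage_eq_of_isPullback hsq Set.univ
    rw [Set.preimage_univ, Set.image_univ, Set.image_univ] at this
    exact this
  rw [hrange]

/-- Dichotomy for "the base change to the fibre over `s` is proper" for a separated morphism of
finite type. -/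
theorem dichotomy_of_separated {X Y S : Scheme.{u}} [IsIntegral S] [IsNoetherian S]
    (f : X ⟶ Y) (g : Y ⟶ S) [IsSeparated f] [LocallyOfFiniteType f] [QuasiCompact f]
    [LocallyOfFiniteType g] [QuasiCompact g] :
    (interior {s | IsProper (pullback.snd f (g.fiberι s))}).Nonempty ∨
      (interior {s | IsProper (pullback.snd f (g.fiberι s))}ᶜ).Nonempty := by
  haveI : CompactSpace Y := QuasiCompact.compactSpace_of_compactSpace g
  haveI : IsLocallyNoetherian Y := LocallyOfFiniteType.isLocallyNoetherian g
  obtain ⟨n, X', π, j, hj, hcomp, hπ, hπs⟩ := Groth.Agent.Lib.T2H6.ChowLim.chow_qcqs f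
  haveI := hj; haveI := hπ; haveI := hπs
  haveI : IsProper (CohB1.ProjSpaceOver.toBase n Y) := Groth.Agent.S9705.isProper_toBase n Y
  haveI : LocallyOfFiniteType (CohB1.ProjSpaceOver.toBase n Y ≫ g) := inferInstance
  haveI : QuasiCompact (CohB1.ProjSpaceOver.toBase n Y ≫ g) := inferInstance
  refine dichotomy_fiberwise_closed (CohB1.ProjSpaceOver.toBase n Y ≫ g) (Set.range j)
    j.isLocallyClosed_range _ ?_
  intro s
  rw [Set.mem_ofPred_eq, isProper_pullback_snd_iff π f j (CohB1.ProjSpaceOver.toBase n Y) hcomp]
  haveI : IsPreimmersion (pullback.fst (CohB1.ProjSpaceOver.toBase n Y) (g.fiberι s)) :=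
    MorphismProperty.pullback_fst _ _ inferInstance
  rw [isClosed_preimage_iff_of_isEmbedding
    (pullback.fst (CohB1.ProjSpaceOver.toBase n Y) (g.fiberι s)).isEmbedding]
  have hrange : Set.range (pullback.fst (CohB1.ProjSpaceOver.toBase n Y) (g.fiberι s)) =
      (CohB1.ProjSpaceOver.toBase n Y ≫ g) ⁻¹' {s} := by
    rw [Scheme.Pullback.range_fst, Scheme.Hom.range_fiberι]
    ext w
    simp only [Set.mem_preimage, Set.mem_singleton_iff, Scheme.Hom.comp_apply]
  rw [hrange]
  exact Iff.rfl

/-- **"The map of fibres is proper" is a constructible property of morphisms**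
(EGA IV 9.6.1 (vi)). -/
theorem isConsMor_proper : ConsProp.IsConsMor.{u} (fun _ _ _ f _ => IsProper f) := by
  haveI := Groth.Agent.Lib.Helper12.descendsAlong_isProper.{u}
  have hstab := Groth.Agent.Lib.Helper3.ConsOfLocus.isFieldStableMor_of @IsProper.{u}
  refine ⟨hstab, ?_⟩
  intro X Y S f g _ _ _ _ _ _
  haveI : IsLocallyNoetherian Y := LocallyOfFiniteType.isLocallyNoetherian g
  obtain ⟨_, _⟩ := Groth.Agent.Lib.Helper3.ForallFiber.ft_of_comp f g
  -- first reduction: separated maps of fibres
  rcases isConsMor_separated.2 f g with hsep | hsep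
  swap
  · right
    refine hsep.mono (interior_mono ?_)
    intro s hs hfin
    have hfin' : IsProper (MoreMor.fiberMap f g s) := hfin
    exact hs (show IsSeparated (MoreMor.fiberMap f g s) from inferInstance)
  -- generic compatibility of the closure of the diagonal with fibres
  haveI : LocallyOfFiniteType (hW f g) := inferInstance
  haveI : QuasiCompact (hW f g) := inferInstance
  obtain ⟨U, hUne, key⟩ := exists_open_forall_closure_fiber (hW f g)
    (Set.range (pullback.diagonal f)) (pullback.diagonal f).isLocallyClosed_range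
  -- the open subscheme over which everything is good
  set Esep := ConsProp.locusMor (fun _ _ _ f _ => IsSeparated f) f g with hEsep
  set E := ConsProp.locusMor (fun _ _ _ f _ => IsProper f) f g with hE
  obtain ⟨U₂, hU₂def⟩ : ∃ U₂ : S.Opens, U₂ =
      U ⊓ ⟨interior Esep, isOpen_interior⟩ := ⟨_, rfl⟩
  have hU₂ne : (U₂ : Set S).Nonempty := by
    rw [hU₂def]
    exact nonempty_preirreducible_inter U.2 isOpen_interior hUne hsep
  haveI : Nonempty (U₂ : Scheme.{u}) := ⟨⟨hU₂ne.some, hU₂ne.some_mem⟩⟩
  haveI : IsIntegral (U₂ : Scheme.{u}) := isIntegral_of_isOpenImmersion U₂.ι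
  have hsub : ∀ s, s ∈ U₂ → s ∈ U ∧ s ∈ interior Esep := by
    intro s hs
    rw [hU₂def] at hs
    exact ⟨hs.1, hs.2⟩
  haveI : CompactSpace (U₂ : Scheme.{u}) :=
    isCompact_iff_compactSpace.mp (NoetherianSpace.isCompact (U₂ : Set S))
  haveI : IsNoetherian (U₂ : Scheme.{u}) :=
    { toIsLocallyNoetherian := inferInstance, toCompactSpace := inferInstance }
  let a : (U₂ : Scheme.{u}) ⟶ S := U₂.ι
  have ha : ∀ s' : (U₂ : Scheme.{u}), a s' ∈ U ∧ a s' ∈ Esep := by
    intro s'
    have : a s' ∈ U₂ := s'.2
    obtain ⟨h1, h2⟩ := hsub _ this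
    exact ⟨h1, interior_subset h2⟩
  have hY := IsPullback.of_hasPullback g a
  have hX := IsPullback.of_hasPullback f (pullback.fst g a)
  haveI : IsSeparated (pullback.snd f (pullback.fst g a)) := by
    refine isSeparated_baseChange_of_closure f g hY hX ?_
    intro s' w hw hwc
    obtain ⟨h1, h2⟩ := ha s'
    exact (isSeparated_fiberMap_iff f g (a s')).mp h2 w hw (key _ h1 w hw hwc)
  have hdich := dichotomy_of_separated (pullback.snd f (pullback.fst g a)) (pullback.snd g a)
  have hE₂ : {s' | IsProper (pullback.snd (pullback.snd f (pullback.fst g a))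
      ((pullback.snd g a).fiberι s'))} = a ⁻¹' E := by
    rw [hE, ← Groth.Agent.Lib.Helper3.LocusBC.locusMor_eq_preimage hstab hY hX]
    ext s'
    exact (Groth.Agent.Lib.Helper5.FibMorLoci.prop_fiberMap_iff @IsProper _ _ s').symm
  rw [hE₂, ← Set.preimage_compl] at hdich
  have transfer : ∀ A : Set S, (interior (a ⁻¹' A)).Nonempty → (interior A).Nonempty := by
    rintro A ⟨s', hs'⟩
    have hopen : IsOpen (a '' interior (a ⁻¹' A)) :=
      a.isOpenEmbedding.isOpenMap _ isOpen_interior
    refine ⟨a s', interior_maximal ?_ hopen ⟨s', hs', rfl⟩⟩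
    rintro _ ⟨t, ht, rfl⟩
    exact interior_subset (s := a ⁻¹' A) ht
  rcases hdich with h | h
  · exact Or.inl (transfer _ h)
  · exact Or.inr (transfer _ h)

end Groth.Agent.Lib.T2H3.FibProper
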