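import Mathlib
import Groth.Agent.Lib.Helper28DepthFlat
import Groth.Agent.Lib.Helper5LocalFlat2
import Groth.Agent.Lib.Helper3FlatOpenFP

/-!
# Fibrewise regular sequences on a flat module (helper3, for S4866)

`Q A gs N`: recursive predicate "`N` is `A`-flat, `g₁` is `N`-regular, `N/g₁N` is `A`-flat, …".

* `Q_congr`: invariance under additive equivalences that intertwine the actions.
* `Q_iff_of_isLocalization`: the base ring may be replaced by a localization.
* `flat_and_isWeaklyRegular_iff_Q`: for a local homomorphism `R → S` of Noetherian local rings and a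
  finite `S`-module `N`: `N` is `R`-flat and `gs` is weakly regular on `N / m_R N` iff `Q R gs N`.
* `isOpen_setOf_Q_localizedModule`: for `A` Noetherian, `B` of finite type over `A` and `M` a finite
  `B`-module, the set of primes `q` of `B` with `Q A gs M_q` is open.
-/

set_option autoImplicit false
set_option linter.style.haveILetI false
universe u
open TensorProduct RingTheory.Sequence
open scoped Pointwise

namespace Groth.Agent.Lib.T2H3.FibRegSeq

section Def

/-- `N` is `A`-flat, the first element is `N`-regular, and recursively for the quotient. -/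
def Q (A : Type u) {B : Type u} [CommRing A] [CommRing B] [Algebra A B] :
    List B → ∀ (N : Type u) [AddCommGroup N] [Module A N] [Module B N] [IsScalarTower A B N], Prop
  | [] => fun N _ _ _ _ => Module.Flat A N
  | g :: gs => fun N _ _ _ _ =>
      Module.Flat A N ∧ IsSMulRegular N g ∧ Q A gs (QuotSMulTop g N)

variable {A B : Type u} [CommRing A] [CommRing B] [Algebra A B]

theorem Q_nil (N : Type u) [AddCommGroup N] [Module A N] [Module B N] [IsScalarTower A B N] :
    Q A ([] : List B) N ↔ Module.Flat A N := Iff.rfl

theorem Q_cons (g : B) (gs : List B) (N : Type u) [AddCommGroup N] [Module A N] [Module B N]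
    [IsScalarTower A B N] :
    Q A (g :: gs) N ↔ Module.Flat A N ∧ IsSMulRegular N g ∧ Q A gs (QuotSMulTop g N) := Iff.rfl

theorem Q.flat {gs : List B} {N : Type u} [AddCommGroup N] [Module A N] [Module B N]
    [IsScalarTower A B N] (h : Q A gs N) : Module.Flat A N := by
  cases gs with
  | nil => exact h
  | cons g gs => exact h.1

end Def

section Congr

variable {A B B' : Type u} [CommRing A] [CommRing B] [CommRing B'] [Algebra A B] [Algebra A B']

/-- The additive equivalence on quotients induced by an additive equivalence intertwining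
`g` and `g'`. -/
noncomputable def quotAddEquiv {N N' : Type u} [AddCommGroup N] [Module B N]
    [AddCommGroup N'] [Module B' N'] (e : N ≃+ N') (g : B) (g' : B')
    (hg : ∀ x, e (g • x) = g' • e x) : QuotSMulTop g N ≃+ QuotSMulTop g' N' :=
  QuotientAddGroup.congr _ _ e (by
    ext y
    simp only [AddSubgroup.mem_map, Submodule.mem_toAddSubgroup,
      Submodule.mem_smul_pointwise_iff_exists]
    constructor
    · rintro ⟨x, ⟨n, -, rfl⟩, rfl⟩
      exact ⟨e n, Submodule.mem_top, (hg n).symm⟩
    · rintro ⟨n', -, rfl⟩
      refine ⟨g • e.symm n', ⟨e.symm n', Submodule.mem_top, rfl⟩, ?_⟩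
      have := hg (e.symm n')
      rw [AddEquiv.apply_symm_apply] at this
      exact this)

theorem quotAddEquiv_mk {N N' : Type u} [AddCommGroup N] [Module B N]
    [AddCommGroup N'] [Module B' N'] (e : N ≃+ N') (g : B) (g' : B')
    (hg : ∀ x, e (g • x) = g' • e x) (x : N) :
    quotAddEquiv e g g' hg (Submodule.Quotient.mk x) = Submodule.Quotient.mk (e x) := rfl

theorem Q_congr {gs : List B} : ∀ {gs' : List B'}
    {N N' : Type u} [AddCommGroup N] [Module A N] [Module B N] [IsScalarTower A B N]
    [AddCommGroup N'] [Module A N'] [Module B' N'] [IsScalarTower A B' N'] (e : N ≃+ N')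
    (_ : ∀ (a : A) (n : N), e (a • n) = a • e n)
    (_ : List.Forall₂ (fun (b : B) (b' : B') => ∀ x, e (b • x) = b' • e x) gs gs'),
    Q A gs N ↔ Q A gs' N' := by
  induction gs with
  | nil =>
    intro gs' N N' _ _ _ _ _ _ _ _ e hA h
    cases h
    let eA : N ≃ₗ[A] N' := { e with map_smul' := hA }
    exact Module.Flat.equiv_iff eA
  | cons g gs ih =>
    intro gs' N N' _ _ _ _ _ _ _ _ e hA h
    cases h with
    | cons hg ht =>
      rename_i g' gs''
      let eA : N ≃ₗ[A] N' := { e with map_smul' := hA }
      rw [Q_cons, Q_cons]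
      refine and_congr (Module.Flat.equiv_iff eA) (and_congr ?_ ?_)
      · exact e.toEquiv.isSMulRegular_congr hg
      · refine ih (quotAddEquiv e g g' hg) ?_ ?_
        · intro a q
          obtain ⟨x, rfl⟩ := Submodule.Quotient.mk_surjective _ q
          rw [← Submodule.Quotient.mk_smul, quotAddEquiv_mk, quotAddEquiv_mk, hA,
            Submodule.Quotient.mk_smul]
        · refine ht.imp ?_
          intro b b' hb q
          obtain ⟨x, rfl⟩ := Submodule.Quotient.mk_surjective _ q
          rw [← Submodule.Quotient.mk_smul, quotAddEquiv_mk, quotAddEquiv_mk, hb,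
            Submodule.Quotient.mk_smul]

/-- Linear-equivalence form. -/
theorem Q_congr_linearEquiv {A B : Type u} [CommRing A] [CommRing B] [Algebra A B] (gs : List B)
    {N N' : Type u} [AddCommGroup N] [Module A N] [Module B N] [IsScalarTower A B N]
    [AddCommGroup N'] [Module A N'] [Module B N'] [IsScalarTower A B N'] (e : N ≃ₗ[B] N') :
    Q A gs N ↔ Q A gs N' := by
  refine Q_congr e.toAddEquiv ?_ ?_
  · intro a n
    change e (a • n) = a • e n
    rw [← algebraMap_smul B a n, ← algebraMap_smul B a (e n), map_smul]
  · exact List.forall₂_same.mpr fun b _ x => map_smul e b x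

end Congr

section BaseLoc

variable {A R B : Type u} [CommRing A] [CommRing R] [CommRing B] [Algebra A R] [Algebra R B]
  [Algebra A B] (P : Submonoid A) [IsLocalization P R]

include P in
/-- The base ring may be replaced by a localization. -/
theorem Q_iff_of_isLocalization (gs : List B) :
    ∀ (N : Type u) [AddCommGroup N] [Module A N] [Module R N] [Module B N] [IsScalarTower A B N]
      [IsScalarTower R B N] [IsScalarTower A R N], Q R gs N ↔ Q A gs N := by
  induction gs with
  | nil =>
    intro N _ _ _ _ _ _ _
    exact Module.flat_iff_of_isLocalization R P N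
  | cons g gs ih =>
    intro N _ _ _ _ _ _ _
    rw [Q_cons, Q_cons]
    exact and_congr (Module.flat_iff_of_isLocalization R P N)
      (and_congr Iff.rfl (ih (QuotSMulTop g N)))

end BaseLoc

section Local

open Groth.Agent.Lib.Helper28 Groth.Agent.Lib.Helper5

variable {R S : Type u} [CommRing R] [CommRing S] [IsLocalRing R] [IsLocalRing S]
  [IsNoetherianRing R] [IsNoetherianRing S] [Algebra R S] [IsLocalHom (algebraMap R S)]

/-- EGA 0_III 10.2.4 / Matsumura 22.5 for one element: for a finite `S`-module `N` flat over `R`,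
`g` is regular on `N / m_R N` iff `g` is `N`-regular and `N / g N` is `R`-flat. -/
theorem isSMulRegular_quotient_iff (N : Type u) [AddCommGroup N] [Module S N] [Module R N]
    [IsScalarTower R S N] [Module.Finite S N] [Module.Flat R N] (g : S) :
    IsSMulRegular (N ⧸ ((IsLocalRing.maximalIdeal R).map (algebraMap R S) • ⊤ : Submodule S N)) g ↔
      IsSMulRegular N g ∧ Module.Flat R (QuotSMulTop g N) := by
  constructor
  · intro hreg
    refine ⟨?_, flat_quotSMulTop_of_isSMulRegular_quotient g hreg⟩
    have hinj : Function.Injective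
        ((ymap R N g).lTensor (R ⧸ IsLocalRing.maximalIdeal R)) := by
      rw [lTensor_quotient_injective_iff]
      intro n hn
      rw [← mem_map_smul_top_iff (S := S)] at hn ⊢
      rw [ymap_apply] at hn
      have h1 : g • (Submodule.Quotient.mk n : N ⧸ ((IsLocalRing.maximalIdeal R).map
          (algebraMap R S) • ⊤ : Submodule S N)) = g • 0 := by
        rw [smul_zero, ← Submodule.Quotient.mk_smul, Submodule.Quotient.mk_eq_zero]
        exact hn
      have h2 := hreg h1
      rwa [Submodule.Quotient.mk_eq_zero] at h2
    have := (injective_and_flat_of_lTensor_residue_injective S (ymap R N g) hinj).1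
    exact fun a b h => this h
  · rintro ⟨hN, hflat⟩
    haveI := hflat
    have hN' : Function.Injective (ymap R N g) := fun a b h => hN h
    have hinj := LinearMap.lTensor_injective_of_exact_of_flat (quotSMulTopMkR (R := R) (N := N) g)
      (quotSMulTopMkR_surjective g) (ymap R N g) hN' (exact_ymap_quotSMulTopMkR g)
      (R ⧸ IsLocalRing.maximalIdeal R)
    rw [lTensor_quotient_injective_iff] at hinj
    intro a b hab
    obtain ⟨x, rfl⟩ := Submodule.Quotient.mk_surjective _ a
    obtain ⟨y, rfl⟩ := Submodule.Quotient.mk_surjective _ b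
    change g • Submodule.Quotient.mk x = g • Submodule.Quotient.mk y at hab
    rw [← Submodule.Quotient.mk_smul, ← Submodule.Quotient.mk_smul, Submodule.Quotient.eq,
      ← smul_sub] at hab
    rw [Submodule.Quotient.eq]
    have h1 := hinj (x - y) (by
      rw [ymap_apply, ← mem_map_smul_top_iff (S := S)]
      exact hab)
    rwa [← mem_map_smul_top_iff (S := S)] at h1

/-- For a finite `S`-module `N`: `N` is `R`-flat and `gs` is a weakly regular sequence on the
closed fibre `N / m_R N` iff `Q R gs N`. -/
theorem flat_and_isWeaklyRegular_iff_Q (gs : List S) :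
    ∀ (N : Type u) [AddCommGroup N] [Module S N] [Module R N] [IsScalarTower R S N]
      [Module.Finite S N],
      (Module.Flat R N ∧ IsWeaklyRegular
        (N ⧸ ((IsLocalRing.maximalIdeal R).map (algebraMap R S) • ⊤ : Submodule S N)) gs) ↔
        Q R gs N := by
  induction gs with
  | nil =>
    intro N _ _ _ _ _
    rw [Q_nil]
    exact ⟨fun h => h.1, fun h => ⟨h, IsWeaklyRegular.nil _ _⟩⟩
  | cons g gs ih =>
    intro N _ _ _ _ _
    rw [Q_cons, ← ih (QuotSMulTop g N), isWeaklyRegular_cons_iff]
    constructor
    · rintro ⟨hfl, hreg, hw⟩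
      haveI := hfl
      obtain ⟨h1, h2⟩ := (isSMulRegular_quotient_iff N g).mp hreg
      exact ⟨hfl, h1, h2, ((quotSMulTopQuotEquiv g _).isWeaklyRegular_congr gs).mpr hw⟩
    · rintro ⟨hfl, h1, h2, hw⟩
      haveI := hfl
      exact ⟨hfl, (isSMulRegular_quotient_iff N g).mpr ⟨h1, h2⟩,
        ((quotSMulTopQuotEquiv g _).isWeaklyRegular_congr gs).mp hw⟩

end Local

section Open

/-- `QuotSMulTop g` commutes with localization. -/
theorem isLocalizedModule_quotSMulTop_map {B : Type u} [CommRing B] (T : Submonoid B)
    {M N : Type u} [AddCommGroup M] [Module B M] [AddCommGroup N] [Module B N] (φ : M →ₗ[B] N)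
    [IsLocalizedModule T φ] (g : B) : IsLocalizedModule T (QuotSMulTop.map g φ) := by
  refine ⟨?_, ?_, ?_⟩
  · intro s
    obtain ⟨ψ, hψ⟩ := IsLocalizedModule.map_units φ s
    have h1 : ∀ n : N, s.1 • (ψ⁻¹ : (Module.End B N)ˣ).1 n = n := by
      intro n
      have : (ψ.1 * (ψ⁻¹ : (Module.End B N)ˣ).1) n = n := by rw [Units.mul_inv]; rfl
      rw [hψ] at this
      exact this
    have h2 : ∀ n : N, (ψ⁻¹ : (Module.End B N)ˣ).1 (s.1 • n) = n := by
      intro n
      have : ((ψ⁻¹ : (Module.End B N)ˣ).1 * ψ.1) n = n := by rw [Units.inv_mul]; rfl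
      rw [hψ] at this
      exact this
    rw [Module.End.isUnit_iff]
    constructor
    · rw [injective_iff_map_eq_zero]
      intro z hz
      obtain ⟨n, rfl⟩ := Submodule.Quotient.mk_surjective _ z
      change s.1 • (Submodule.Quotient.mk n : QuotSMulTop g N) = 0 at hz
      rw [← Submodule.Quotient.mk_smul, Submodule.Quotient.mk_eq_zero,
        Submodule.mem_smul_pointwise_iff_exists] at hz
      obtain ⟨n', -, hn'⟩ := hz
      rw [Submodule.Quotient.mk_eq_zero, Submodule.mem_smul_pointwise_iff_exists]
      refine ⟨(ψ⁻¹ : (Module.End B N)ˣ).1 n', Submodule.mem_top, ?_⟩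
      rw [← map_smul, hn', h2]
    · intro z
      obtain ⟨n, rfl⟩ := Submodule.Quotient.mk_surjective _ z
      refine ⟨Submodule.Quotient.mk ((ψ⁻¹ : (Module.End B N)ˣ).1 n), ?_⟩
      change s.1 • (Submodule.Quotient.mk _ : QuotSMulTop g N) = _
      rw [← Submodule.Quotient.mk_smul, h1]
  · intro z
    obtain ⟨n, rfl⟩ := Submodule.Quotient.mk_surjective _ z
    obtain ⟨⟨m, s⟩, h⟩ := IsLocalizedModule.surj T φ n
    refine ⟨⟨Submodule.Quotient.mk m, s⟩, ?_⟩
    change s • (Submodule.Quotient.mk n : QuotSMulTop g N) = QuotSMulTop.map g φ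
      (Submodule.Quotient.mk m)
    rw [QuotSMulTop.map_apply_mk, ← h]
    rfl
  · intro z₁ z₂ h
    obtain ⟨m₁, rfl⟩ := Submodule.Quotient.mk_surjective _ z₁
    obtain ⟨m₂, rfl⟩ := Submodule.Quotient.mk_surjective _ z₂
    rw [QuotSMulTop.map_apply_mk, QuotSMulTop.map_apply_mk, Submodule.Quotient.eq,
      Submodule.mem_smul_pointwise_iff_exists] at h
    obtain ⟨n, -, hn⟩ := h
    obtain ⟨⟨m', s⟩, hs⟩ := IsLocalizedModule.surj T φ n
    have h3 : φ (s • (m₁ - m₂)) = φ (g • m') := by
      change φ (s.1 • (m₁ - m₂)) = φ (g • m')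
      rw [map_smul, map_smul, map_sub, ← hn, ← hs]
      change s.1 • g • n = g • s.1 • n
      rw [smul_comm]
    obtain ⟨c, hc⟩ := IsLocalizedModule.exists_of_eq (S := T) (f := φ) h3
    refine ⟨c * s, ?_⟩
    change (c * s).1 • (Submodule.Quotient.mk m₁ : QuotSMulTop g M) =
      (c * s).1 • (Submodule.Quotient.mk m₂ : QuotSMulTop g M)
    rw [← Submodule.Quotient.mk_smul, ← Submodule.Quotient.mk_smul, Submodule.Quotient.eq,
      ← smul_sub, Submodule.mem_smul_pointwise_iff_exists]
    refine ⟨c.1 • m', Submodule.mem_top, ?_⟩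
    rw [smul_comm g c.1 m']
    change c.1 • g • m' = (c.1 * s.1) • (m₁ - m₂)
    rw [mul_smul]
    exact hc.symm

/-- The locus where `g` is regular on the localization is the complement of the support of the
kernel of multiplication by `g`. -/
theorem isSMulRegular_localizedModule_iff {B : Type u} [CommRing B] (M : Type u) [AddCommGroup M]
    [Module B M] (g : B) (q : PrimeSpectrum B) :
    IsSMulRegular (LocalizedModule q.asIdeal.primeCompl M) g ↔
      q ∉ Module.support B (LinearMap.ker (LinearMap.lsmul B M g)) := by
  rw [Module.notMem_support_iff']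
  constructor
  · rintro hreg ⟨k, hk⟩
    have hk' : g • k = 0 := hk
    have h0 : g • LocalizedModule.mk k (1 : q.asIdeal.primeCompl) = g • 0 := by
      rw [LocalizedModule.smul'_mk, smul_zero, hk', LocalizedModule.zero_mk]
    have h1 := hreg h0
    rw [← LocalizedModule.zero_mk (1 : q.asIdeal.primeCompl), LocalizedModule.mk_eq] at h1
    obtain ⟨u, hu⟩ := h1
    refine ⟨u.1, u.2, ?_⟩
    apply Subtype.ext
    have hu' : u.1 • k = 0 := by simpa [Submonoid.smul_def] using hu
    exact hu'
  · intro h
    rw [isSMulRegular_iff_right_eq_zero_of_smul]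
    intro z hz
    induction z using LocalizedModule.induction_on with
    | h m s =>
      rw [LocalizedModule.smul'_mk, ← LocalizedModule.zero_mk s, LocalizedModule.mk_eq] at hz
      obtain ⟨u, hu⟩ := hz
      have hk : u.1 • s.1 • m ∈ LinearMap.ker (LinearMap.lsmul B M g) := by
        rw [LinearMap.mem_ker, LinearMap.lsmul_apply]
        have : u • s • g • m = u • s • (0 : M) := hu
        rw [smul_zero, smul_zero] at this
        change u.1 • s.1 • g • m = 0 at this
        rw [smul_comm g, smul_comm g]
        exact this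
      obtain ⟨r, hr, hr0⟩ := h ⟨_, hk⟩
      have hr0' : r • u.1 • s.1 • m = 0 := congrArg Subtype.val hr0
      rw [← LocalizedModule.zero_mk s, LocalizedModule.mk_eq]
      refine ⟨⟨r, hr⟩ * u, ?_⟩
      change (r * u.1) • s.1 • m = (r * u.1) • s.1 • (0 : M)
      rw [smul_zero, smul_zero, mul_smul]
      exact hr0'

variable {A B : Type u} [CommRing A] [CommRing B] [Algebra A B]

/-- **Openness of the locus `Q`** on the spectrum of a finite type algebra over a Noetherian
ring, for a finite module. -/
theorem isOpen_setOf_Q_localizedModule [IsNoetherianRing A] [Algebra.FiniteType A B]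
    (gs : List B) :
    ∀ (M : Type u) [AddCommGroup M] [Module A M] [Module B M] [IsScalarTower A B M]
      [Module.Finite B M],
      IsOpen {q : PrimeSpectrum B | Q A gs (LocalizedModule q.asIdeal.primeCompl M)} := by
  haveI : Algebra.FinitePresentation A B :=
    Algebra.FinitePresentation.of_finiteType.mp inferInstance
  haveI : IsNoetherianRing B := Algebra.FiniteType.isNoetherianRing A B
  induction gs with
  | nil =>
    intro M _ _ _ _ _
    haveI : Module.FinitePresentation B M := Module.finitePresentation_of_finite B M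
    exact Groth.Agent.Lib.Helper3.FlatOpen.isOpen_flatLocus_of_finitePresentation
      (R := A) (S := B) (M := M)
  | cons g gs ih =>
    intro M _ _ _ _ _
    haveI : Module.FinitePresentation B M := Module.finitePresentation_of_finite B M
    have hset : {q : PrimeSpectrum B | Q A (g :: gs) (LocalizedModule q.asIdeal.primeCompl M)} =
        ({q : PrimeSpectrum B | Module.Flat A (LocalizedModule q.asIdeal.primeCompl M)} ∩
          (Module.support B (LinearMap.ker (LinearMap.lsmul B M g)))ᶜ) ∩
        {q : PrimeSpectrum B |
          Q A gs (LocalizedModule q.asIdeal.primeCompl (QuotSMulTop g M))} := by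
      ext q
      haveI := isLocalizedModule_quotSMulTop_map q.asIdeal.primeCompl
        (LocalizedModule.mkLinearMap q.asIdeal.primeCompl M) g
      have e := IsLocalizedModule.iso q.asIdeal.primeCompl
        (QuotSMulTop.map g (LocalizedModule.mkLinearMap q.asIdeal.primeCompl M))
      simp only [Set.mem_ofPred_eq, Set.mem_inter_iff, Set.mem_compl_iff, Q_cons,
        isSMulRegular_localizedModule_iff, Q_congr_linearEquiv (A := A) gs e, and_assoc]
    rw [hset]
    exact ((Groth.Agent.Lib.Helper3.FlatOpen.isOpen_flatLocus_of_finitePresentation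
      (R := A) (S := B) (M := M)).inter (Module.isClosed_support).isOpen_compl).inter
      (ih (QuotSMulTop g M))

end Open

end Groth.Agent.Lib.T2H3.FibRegSeq
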