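import Mathlib
import Groth.Agent.Lib.T2H3FibRegSeq
import Groth.Agent.Lib.Helper2FlatOpen
import Groth.Agent.Lib.Helper2FibreCrit2

/-!
# Fibrewise regular sequences on a flat coherent module: scheme form (helper3, for S4866)

* `Q_map_algebraMap_iff`: the acting ring of `Q` may be changed along an algebra map.
* `isWeaklyRegular_fibre_iff_Q`: at a point `x` of an affine chart `U ≤ f⁻¹V` where `F` is flat over
  `Y`, weak regularity of germs on `F_x / m_y F_x` is `Q Γ(Y,V) gs (Γ(F,U)_q)`.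
* `isOpen_setOf_fibre_isWeaklyRegular`: EGA IV 11.3.8-type openness.
-/

set_option autoImplicit false
set_option linter.style.haveILetI false
universe u
open CategoryTheory Limits AlgebraicGeometry TopologicalSpace Opposite

namespace Groth.Agent.Lib.T2H3.FibRegSeq

section Algebra

/-- The acting ring of `Q` may be changed along an algebra map. -/
theorem Q_map_algebraMap_iff {A B S : Type u} [CommRing A] [CommRing B] [CommRing S] [Algebra A B]
    [Algebra A S] [Algebra B S] (gs : List B) (N : Type u) [AddCommGroup N] [Module A N]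
    [Module B N] [Module S N] [IsScalarTower A B N] [IsScalarTower A S N] [IsScalarTower B S N] :
    Q A (gs.map (algebraMap B S)) N ↔ Q A gs N := by
  refine Q_congr (AddEquiv.refl N) (fun _ _ => rfl) ?_
  exact List.forall₂_map_left_iff.mpr (List.forall₂_same.mpr fun b _ n => algebraMap_smul S b n)

end Algebra

open Groth.Agent.Lib.Helper2.FlatOver Groth.Agent.Lib.Helper2.FibreCrit
  Groth.Agent.Lib.Helper23.FinType

variable {X Y : Scheme.{u}}

/-- Chart form of the fibrewise regularity condition at a point where `F` is flat over `Y`. -/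
theorem isWeaklyRegular_fibre_iff_Q [IsLocallyNoetherian Y] (f : X ⟶ Y) [LocallyOfFiniteType f]
    (F : X.Modules) [F.IsQuasicoherent] [SheafOfModules.IsFiniteType (R := X.ringCatSheaf) F]
    {U : X.Opens} (hU : IsAffineOpen U) {V : Y.Opens} (hV : IsAffineOpen V) (e : U ≤ f ⁻¹ᵁ V)
    (x : X) (hx : x ∈ U) (hfl : FlatMod.IsFlatOverAt f F x) (gs : List Γ(X, U)) :
    letI : Module Γ(Y, V) Γ(F, U) := Module.compHom Γ(F, U) (f.appLE V U e).hom
    letI : Algebra Γ(Y, V) Γ(X, U) := (f.appLE V U e).hom.toAlgebra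
    haveI : IsScalarTower Γ(Y, V) Γ(X, U) Γ(F, U) :=
      IsScalarTower.of_algebraMap_smul (fun _ _ => rfl)
    RingTheory.Sequence.IsWeaklyRegular
        (↑(F.presheaf.stalk x) ⧸ (Ideal.map (f.stalkMap x).hom
          (IsLocalRing.maximalIdeal ↑(Y.presheaf.stalk (f.base x))) •
          (⊤ : Submodule ↑(X.presheaf.stalk x) ↑(F.presheaf.stalk x))))
        (gs.map (X.presheaf.germ U x hx).hom) ↔
      Q Γ(Y, V) gs (LocalizedModule (hU.primeIdealOf ⟨x, hx⟩).asIdeal.primeCompl Γ(F, U)) := by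
  haveI : IsLocallyNoetherian X := LocallyOfFiniteType.isLocallyNoetherian f
  letI aAB : Algebra Γ(Y, V) Γ(X, U) := (f.appLE V U e).hom.toAlgebra
  letI mAM : Module Γ(Y, V) Γ(F, U) := Module.compHom Γ(F, U) (f.appLE V U e).hom
  haveI tABM : IsScalarTower Γ(Y, V) Γ(X, U) Γ(F, U) :=
    IsScalarTower.of_algebraMap_smul (fun _ _ => rfl)
  letI aRS : Algebra (Y.presheaf.stalk (f.base x)) (X.presheaf.stalk x) :=
    (f.stalkMap x).hom.toAlgebra
  letI aAR : Algebra Γ(Y, V) (Y.presheaf.stalk (f.base x)) :=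
    Y.presheaf.algebra_section_stalk ⟨f.base x, e hx⟩
  letI aBS : Algebra Γ(X, U) (X.presheaf.stalk x) := X.presheaf.algebra_section_stalk ⟨x, hx⟩
  letI aAS : Algebra Γ(Y, V) (X.presheaf.stalk x) :=
    ((f.stalkMap x).hom.comp (Y.presheaf.germ V (f.base x) (e hx)).hom).toAlgebra
  letI mRN : Module (Y.presheaf.stalk (f.base x)) (F.presheaf.stalk x) :=
    FlatMod.moduleStalkOver f F x
  letI mAN : Module Γ(Y, V) (F.presheaf.stalk x) := moduleStalkBase f F V x (e hx)
  letI mBN : Module Γ(X, U) (F.presheaf.stalk x) := moduleStalkSections F U x hx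
  haveI tRSN : IsScalarTower (Y.presheaf.stalk (f.base x)) (X.presheaf.stalk x)
      (F.presheaf.stalk x) := IsScalarTower.of_algebraMap_smul (fun _ _ => rfl)
  haveI tASN : IsScalarTower Γ(Y, V) (X.presheaf.stalk x) (F.presheaf.stalk x) :=
    IsScalarTower.of_algebraMap_smul (fun _ _ => rfl)
  haveI tBSN : IsScalarTower Γ(X, U) (X.presheaf.stalk x) (F.presheaf.stalk x) :=
    IsScalarTower.of_algebraMap_smul (fun _ _ => rfl)
  haveI tARN : IsScalarTower Γ(Y, V) (Y.presheaf.stalk (f.base x)) (F.presheaf.stalk x) := by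
    refine ⟨fun a b y => ?_⟩
    change (f.stalkMap x).hom (Y.presheaf.germ V (f.base x) (e hx) a * b) • y =
      (f.stalkMap x).hom (Y.presheaf.germ V (f.base x) (e hx) a) • ((f.stalkMap x).hom b • y)
    rw [map_mul, mul_smul]
  haveI tABN : IsScalarTower Γ(Y, V) Γ(X, U) (F.presheaf.stalk x) := by
    refine IsScalarTower.of_algebraMap_smul (fun a n => ?_)
    change (X.presheaf.germ U x hx) ((f.appLE V U e).hom a) • n =
      (f.stalkMap x).hom (Y.presheaf.germ V (f.base x) (e hx) a) • n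
    rw [stalkMap_germ_eq f e x hx a]
  haveI : IsLocalHom (algebraMap (Y.presheaf.stalk (f.base x)) (X.presheaf.stalk x)) :=
    inferInstanceAs (IsLocalHom (f.stalkMap x).hom)
  haveI := finite_stalk F x
  haveI hflat : Module.Flat (Y.presheaf.stalk (f.base x)) (F.presheaf.stalk x) := hfl
  haveI := hV.isLocalization_stalk ⟨f.base x, e hx⟩
  haveI := isLocalizedModule_germ hU F x hx
  have h1 := flat_and_isWeaklyRegular_iff_Q (R := Y.presheaf.stalk (f.base x))
    (S := X.presheaf.stalk x) (gs.map (X.presheaf.germ U x hx).hom) (F.presheaf.stalk x)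
  have h2 := Q_iff_of_isLocalization (A := Γ(Y, V)) (R := Y.presheaf.stalk (f.base x))
    (B := X.presheaf.stalk x) (hV.primeIdealOf ⟨f.base x, e hx⟩).asIdeal.primeCompl
    (gs.map (X.presheaf.germ U x hx).hom) (F.presheaf.stalk x)
  have h3 := Q_map_algebraMap_iff (A := Γ(Y, V)) (B := Γ(X, U)) (S := X.presheaf.stalk x) gs
    (F.presheaf.stalk x)
  let T : LocalizedModule (hU.primeIdealOf ⟨x, hx⟩).asIdeal.primeCompl Γ(F, U) ≃ₗ[Γ(X, U)]
      F.presheaf.stalk x :=
    IsLocalizedModule.iso (hU.primeIdealOf ⟨x, hx⟩).asIdeal.primeCompl (germₗ F U x hx)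
  have h4 := Q_congr_linearEquiv (A := Γ(Y, V)) gs T.symm
  refine Iff.trans ?_ (h1.trans (h2.trans (h3.trans h4)))
  exact ⟨fun h => ⟨hflat, h⟩, fun h => h.2⟩

/-- **EGA IV 11.3.8-type openness**: for `Y` locally Noetherian, `f` locally of finite type, `F`
coherent and `f`-flat, and global functions `g₁, …, gₙ`, the set of points where the germs form a
weakly regular sequence on the fibre module `F_x / m_y F_x` is open. -/
theorem isOpen_setOf_fibre_isWeaklyRegular [IsLocallyNoetherian Y] (f : X ⟶ Y)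
    [LocallyOfFiniteType f] (F : X.Modules) [F.IsQuasicoherent]
    [SheafOfModules.IsFiniteType (R := X.ringCatSheaf) F] (hflat : FlatMod.IsFlatOver f F)
    (n : ℕ) (g : Fin n → Γ(X, ⊤)) :
    IsOpen {x : X |
      RingTheory.Sequence.IsWeaklyRegular
        (↑(F.presheaf.stalk x) ⧸ (Ideal.map (f.stalkMap x).hom
          (IsLocalRing.maximalIdeal ↑(Y.presheaf.stalk (f.base x))) •
          (⊤ : Submodule ↑(X.presheaf.stalk x) ↑(F.presheaf.stalk x))))
        (List.ofFn fun i => (X.presheaf.germ ⊤ x trivial) (g i))} := by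
  rw [isOpen_iff_forall_mem_open]
  intro x hx
  obtain ⟨V, hV, hxV⟩ : ∃ V : Y.Opens, IsAffineOpen V ∧ f.base x ∈ V := by
    obtain ⟨_, ⟨V, hV, rfl⟩, hxV, -⟩ :=
      Y.isBasis_affineOpens.exists_subset_of_mem_open (Set.mem_univ (f.base x)) isOpen_univ
    exact ⟨V, hV, hxV⟩
  obtain ⟨U, hU, hxU, hUV⟩ : ∃ U : X.Opens, IsAffineOpen U ∧ x ∈ U ∧ U ≤ f ⁻¹ᵁ V := by
    obtain ⟨_, ⟨U, hU, rfl⟩, hxU, hUV⟩ :=
      X.isBasis_affineOpens.exists_subset_of_mem_open (show x ∈ ((f ⁻¹ᵁ V : X.Opens) : Set X)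
        from hxV) (f ⁻¹ᵁ V).isOpen
    exact ⟨U, hU, hxU, hUV⟩
  letI aAB : Algebra Γ(Y, V) Γ(X, U) := (f.appLE V U hUV).hom.toAlgebra
  letI mAM : Module Γ(Y, V) Γ(F, U) := Module.compHom Γ(F, U) (f.appLE V U hUV).hom
  haveI tABM : IsScalarTower Γ(Y, V) Γ(X, U) Γ(F, U) :=
    IsScalarTower.of_algebraMap_smul (fun _ _ => rfl)
  haveI : IsNoetherianRing Γ(Y, V) := IsLocallyNoetherian.component_noetherian ⟨V, hV⟩
  have hft : (f.appLE V U hUV).hom.FiniteType :=
    HasRingHomProperty.appLE (P := @LocallyOfFiniteType) f inferInstance ⟨V, hV⟩ ⟨U, hU⟩ hUV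
  haveI : Algebra.FiniteType Γ(Y, V) Γ(X, U) := hft
  haveI : Module.Finite Γ(X, U) Γ(F, U) := finite_of_isFiniteType F hU
  let gsU : List Γ(X, U) := List.ofFn fun i => (X.presheaf.map (homOfLE le_top).op).hom (g i)
  have hlist : ∀ (y : X) (hy : y ∈ U),
      (List.ofFn fun i => (X.presheaf.germ ⊤ y trivial) (g i)) =
        gsU.map (X.presheaf.germ U y hy).hom := by
    intro y hy
    rw [List.map_ofFn]
    congr 1
    funext i
    exact (X.presheaf.germ_res_apply (homOfLE le_top) y hy (g i)).symm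
  have hW := isOpen_setOf_Q_localizedModule (A := Γ(Y, V)) (B := Γ(X, U)) gsU Γ(F, U)
  set W := {q : PrimeSpectrum Γ(X, U) | Q Γ(Y, V) gsU
    (LocalizedModule q.asIdeal.primeCompl Γ(F, U))} with hWdef
  have hcont : Continuous (fun y : U => hU.primeIdealOf y) := hU.isoSpec.hom.continuous
  have key : ∀ (y : X) (hy : y ∈ U),
      RingTheory.Sequence.IsWeaklyRegular
        (↑(F.presheaf.stalk y) ⧸ (Ideal.map (f.stalkMap y).hom
          (IsLocalRing.maximalIdeal ↑(Y.presheaf.stalk (f.base y))) •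
          (⊤ : Submodule ↑(X.presheaf.stalk y) ↑(F.presheaf.stalk y))))
        (List.ofFn fun i => (X.presheaf.germ ⊤ y trivial) (g i)) ↔
      hU.primeIdealOf ⟨y, hy⟩ ∈ W := by
    intro y hy
    rw [hlist y hy]
    exact isWeaklyRegular_fibre_iff_Q f F hU hV hUV y hy (hflat y) gsU
  refine ⟨Subtype.val '' ((fun y : U => hU.primeIdealOf y) ⁻¹' W), ?_,
    U.isOpen.isOpenMap_subtype_val _ (hW.preimage hcont), ?_⟩
  · rintro _ ⟨⟨y, hy⟩, hyW, rfl⟩
    exact (key y hy).mpr hyW
  · exact ⟨⟨x, hxU⟩, (key x hxU).mp hx, rfl⟩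

end Groth.Agent.Lib.T2H3.FibRegSeq
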