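import Mathlib
import Groth.Agent.Lib.Helper2GenFree2

/-!
# Generic regularity of an element on the fibres of a finite type algebra (helper3, team 2)

If `B` is a finite type algebra over a ring `A` whose nilradical `η` is prime and `g : B` is a
nonzerodivisor on the generic fibre `B ⊗ κ(η)`, then `g` is a nonzerodivisor on `B ⊗ κ` for all
fields `κ` over `A` in which a fixed `a ∉ η` is nonzero.
-/

set_option autoImplicit false
set_option linter.style.haveILetI false
universe u v

open TensorProduct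

namespace Groth.Agent.Lib.T2H3.GenRegular

open Groth.Agent.Lib.Helper2.GenFree

lemma map_mem_nonZeroDivisors_of_ringEquiv {R S : Type*} [Semiring R] [Semiring S] (e : R ≃+* S)
    {x : R} (hx : x ∈ nonZeroDivisors R) : e x ∈ nonZeroDivisors S :=
  mem_nonZeroDivisors_of_injective e.symm.injective (by simpa using hx)

section domain

variable {A : Type u} [CommRing A] [IsDomain A] {B : Type u} [CommRing B] [Algebra A B]
  [Algebra.FiniteType A B]

/-- **Generic regularity on fibres** (domain case): if multiplication by `g` on the finite type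
algebra `B` over the domain `A` has torsion kernel, then `1 ⊗ g` is a nonzerodivisor of `κ ⊗ B`
for every `A`-algebra `κ` in which a fixed nonzero `a` becomes invertible. -/
theorem exists_ne_zero_forall_one_tmul_mem_nonZeroDivisors (g : B)
    (hg : ∀ b : B, g * b = 0 → ∃ s : A, s ≠ 0 ∧ s • b = 0) :
    ∃ a : A, a ≠ 0 ∧ ∀ (κ : Type v) [CommRing κ] [Algebra A κ], IsUnit (algebraMap A κ a) →
      (1 : κ) ⊗ₜ[A] g ∈ nonZeroDivisors (κ ⊗[A] B) := by
  classical
  set N : Ideal B := Ideal.span {g} with hN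
  obtain ⟨f₁, hf₁, hS₁, hM₁, -, -⟩ := exists_freeAway A B (B ⧸ N)
  refine ⟨f₁, hf₁, fun κ _ _ hκ => ?_⟩
  set v : B →ₗ[A] B := LinearMap.mulLeft A g with hv
  have hrange : LinearMap.range v = N.restrictScalars A := by
    ext x
    simp only [LinearMap.mem_range, Submodule.restrictScalars_mem, hN, Ideal.mem_span_singleton',
      hv, LinearMap.mulLeft_apply]
    constructor
    · rintro ⟨y, rfl⟩; exact ⟨y, mul_comm _ _⟩
    · rintro ⟨y, rfl⟩; exact ⟨y, mul_comm _ _⟩
  have hfree : FreeAway A f₁ (B ⧸ LinearMap.range v) := by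
    rw [hrange]
    exact hM₁.of_linearEquiv (Submodule.Quotient.restrictScalarsEquiv A N).symm
  haveI : Module.Free (Localization.Away f₁) (Localization.Away f₁ ⊗[A] (B ⧸ LinearMap.range v)) :=
    hfree.free (Localization.Away f₁) (TensorProduct.mk A (Localization.Away f₁) _ 1)
  have hex := exact_baseChange_of_flat_coker_away f₁ (0 : B →ₗ[A] B) v
    (fun x => ⟨0, by simp⟩)
    (fun y hy => by
      rw [hv, LinearMap.mulLeft_apply] at hy
      obtain ⟨s, hs, hsy⟩ := hg y hy
      obtain ⟨n, hn⟩ := hS₁.exists_pow_smul_eq_zero hs hsy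
      exact ⟨n, 0, by simp [hn]⟩) inferInstance κ hκ
  have hinj : Function.Injective (v.baseChange κ) := by
    rw [injective_iff_map_eq_zero]
    intro z hz
    obtain ⟨w, hw⟩ := (hex z).mp hz
    rw [← hw]
    simp
  have key : ∀ z : κ ⊗[A] B, v.baseChange κ z = z * ((1 : κ) ⊗ₜ[A] g) := by
    intro z
    induction z using TensorProduct.induction_on with
    | zero => simp
    | tmul k c =>
      rw [LinearMap.baseChange_tmul, Algebra.TensorProduct.tmul_mul_tmul, mul_one, hv,
        LinearMap.mulLeft_apply, mul_comm]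
    | add x y hx hy => rw [map_add, hx, hy, add_mul]
  rw [mem_nonZeroDivisors_iff_right]
  intro z hz
  apply hinj
  rw [map_zero, key, hz]

end domain

section general

variable {A : Type u} [CommRing A] {B : Type u} [CommRing B] [Algebra A B]
  [Algebra.FiniteType A B]

/-- **Generic regularity on fibres** over a ring whose nilradical `η` is prime: if `g` is a
nonzerodivisor on the fibre of `B` over `η` then it is a nonzerodivisor on `B ⊗ κ` for all fields
`κ` over `A` in which a fixed `a ∉ η` is nonzero. -/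
theorem exists_notMem_forall_tmul_one_mem_nonZeroDivisors (η : Ideal A) [η.IsPrime]
    (hη : ∀ q : Ideal A, q.IsPrime → η ≤ q) (g : B)
    (hg : g ⊗ₜ[A] (1 : η.ResidueField) ∈ nonZeroDivisors (B ⊗[A] η.ResidueField)) :
    ∃ a ∉ η, ∀ (κ : Type v) [Field κ] [Algebra A κ], algebraMap A κ a ≠ 0 →
      g ⊗ₜ[A] (1 : κ) ∈ nonZeroDivisors (B ⊗[A] κ) := by
  classical
  let A' := A ⧸ η
  let B' := A' ⊗[A] B
  let K := η.ResidueField
  let e : K ⊗[A'] B' ≃ₐ[K] K ⊗[A] B := Algebra.TensorProduct.cancelBaseChange A A' K K B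
  let g' : B' := (1 : A') ⊗ₜ[A] g
  have he : e ((1 : K) ⊗ₜ[A'] g') = (1 : K) ⊗ₜ[A] g := by
    change Algebra.TensorProduct.cancelBaseChange A A' K K B ((1 : K) ⊗ₜ[A'] ((1 : A') ⊗ₜ[A] g)) = _
    rw [Algebra.TensorProduct.cancelBaseChange_tmul, one_smul]
  have hg1 : (1 : K) ⊗ₜ[A] g ∈ nonZeroDivisors (K ⊗[A] B) := by
    have := map_mem_nonZeroDivisors_of_ringEquiv
      (Algebra.TensorProduct.comm A B K).toRingEquiv hg
    simpa using this
  have hg2 : ∀ z : K ⊗[A'] B', ((1 : K) ⊗ₜ[A'] g') * z = 0 → z = 0 := by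
    intro z hz
    have h1 : e (((1 : K) ⊗ₜ[A'] g') * z) = 0 := by rw [hz, map_zero]
    rw [map_mul, he] at h1
    have h2 : e z = 0 := (mem_nonZeroDivisors_iff_left.mp hg1) _ h1
    exact (map_eq_zero_iff e e.injective).mp h2
  have hg' : ∀ b' : B', g' * b' = 0 → ∃ s : A', s ≠ 0 ∧ s • b' = 0 := by
    intro b' hb'
    have h1 : ((1 : K) ⊗ₜ[A'] g') * ((1 : K) ⊗ₜ[A'] b') = 0 := by
      rw [Algebra.TensorProduct.tmul_mul_tmul, hb', TensorProduct.tmul_zero]
    have h2 : (1 : K) ⊗ₜ[A'] b' = 0 := hg2 _ h1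
    obtain ⟨t, ht⟩ := (IsLocalizedModule.eq_zero_iff (nonZeroDivisors A')
      (TensorProduct.mk A' K B' 1) (m := b')).mp h2
    exact ⟨t, nonZeroDivisors.ne_zero t.2, ht⟩
  obtain ⟨a', ha', hcore⟩ :=
    exists_ne_zero_forall_one_tmul_mem_nonZeroDivisors.{u, v} (A := A') (B := B') g' hg'
  obtain ⟨a, rfl⟩ := Ideal.Quotient.mk_surjective a'
  refine ⟨a, fun hmem => ha' (Ideal.Quotient.eq_zero_iff_mem.mpr hmem), ?_⟩
  intro κ _ _ haκ
  have hker : ∀ x ∈ η, algebraMap A κ x = 0 := by
    intro x hx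
    have hprime : (RingHom.ker (algebraMap A κ)).IsPrime := RingHom.ker_isPrime _
    exact hη _ hprime hx
  letI : Algebra A' κ := (Ideal.Quotient.lift η (algebraMap A κ) hker).toAlgebra
  haveI : IsScalarTower A A' κ := IsScalarTower.of_algebraMap_eq' (by
    ext r
    rw [RingHom.algebraMap_toAlgebra, RingHom.comp_apply]
    exact (Ideal.Quotient.lift_mk η (algebraMap A κ) hker).symm)
  have hmap : algebraMap A' κ (Ideal.Quotient.mk η a) ≠ 0 := by
    rw [RingHom.algebraMap_toAlgebra, Ideal.Quotient.lift_mk]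
    exact haκ
  have hne := hcore κ hmap.isUnit
  let eq : κ ⊗[A'] B' ≃ₐ[κ] κ ⊗[A] B := Algebra.TensorProduct.cancelBaseChange A A' κ κ B
  have heq : eq ((1 : κ) ⊗ₜ[A'] g') = (1 : κ) ⊗ₜ[A] g := by
    change Algebra.TensorProduct.cancelBaseChange A A' κ κ B ((1 : κ) ⊗ₜ[A'] ((1 : A') ⊗ₜ[A] g)) = _
    rw [Algebra.TensorProduct.cancelBaseChange_tmul, one_smul]
  have h3 : (1 : κ) ⊗ₜ[A] g ∈ nonZeroDivisors (κ ⊗[A] B) := by
    have := map_mem_nonZeroDivisors_of_ringEquiv eq.toRingEquiv hne
    rw [← heq]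
    simpa using this
  have := map_mem_nonZeroDivisors_of_ringEquiv
    (Algebra.TensorProduct.comm A κ B).toRingEquiv h3
  simpa using this

end general

end Groth.Agent.Lib.T2H3.GenRegular
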