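import Mathlib
import Groth.Agent.Lib.T2H3GenRegular
import Groth.Agent.Lib.Helper3FibEtSch
import Groth.Agent.Lib.T2H3FibNowhereDense

/-!
# Generic scheme-theoretic density in the fibres of a finite type morphism (helper3, team 2)
-/

set_option autoImplicit false
set_option linter.style.haveILetI false
universe u

open AlgebraicGeometry CategoryTheory CategoryTheory.Limits TopologicalSpace Topology TensorProduct

namespace Groth.Agent.Lib.T2H3.FibSchDense

/-- an open subscheme containing, locally, the nonvanishing locus of a regular function is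
scheme-theoretically dense. -/
theorem isSchemeTheoreticallyDominant_ι_of_forall_exists {X : Scheme.{u}} (W : X.Opens)
    [QuasiCompact W.ι]
    (h : ∀ x : X, ∃ V : X.Opens, IsAffineOpen V ∧ x ∈ V ∧
      ∃ c : Γ(X, V), c ∈ nonZeroDivisors Γ(X, V) ∧ X.basicOpen c ≤ W) :
    IsSchemeTheoreticallyDominant W.ι := by
  choose V hV hxV c hc hcW using h
  rw [isSchemeTheoreticallyDominant_iff]
  refine Scheme.IdealSheafData.ext_of_iSup_eq_top (fun x ↦ ⟨V x, hV x⟩) ?_ ?_
  · rw [eq_top_iff]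
    intro x _
    exact Opens.mem_iSup.mpr ⟨x, hxV x⟩
  · intro x
    rw [Scheme.Hom.ker_apply]
    change _ = (⊥ : Ideal _)
    rw [← RingHom.injective_iff_ker_eq_bot]
    have hle : X.basicOpen (c x) ≤ W.ι ''ᵁ W.ι ⁻¹ᵁ V x := by
      intro z hz
      exact ⟨⟨z, hcW x hz⟩, X.basicOpen_le _ hz, rfl⟩
    have h1 : W.ι ''ᵁ W.ι ⁻¹ᵁ V x ≤ V x := Set.image_preimage_subset _ _
    have hfac : X.presheaf.map (homOfLE (X.basicOpen_le (c x))).op =
        X.presheaf.map (homOfLE h1).op ≫ X.presheaf.map (homOfLE hle).op := by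
      rw [← Functor.map_comp]
      rfl
    have hinj : Function.Injective (X.presheaf.map (homOfLE (X.basicOpen_le (c x))).op).hom := by
      haveI := (hV x).isLocalization_basicOpen (c x)
      exact IsLocalization.injective Γ(X, X.basicOpen (c x))
        ((Submonoid.powers_le (P := nonZeroDivisors Γ(X, V x))).mpr (hc x))
    rw [hfac] at hinj
    change Function.Injective (X.presheaf.map (homOfLE h1).op).hom
    exact Function.Injective.of_comp hinj

/-- chart version of `isSchemeTheoreticallyDominant_ι_of_forall_exists`. -/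
theorem isSchemeTheoreticallyDominant_ι_of_charts {X : Scheme.{u}} (W : X.Opens)
    [QuasiCompact W.ι]
    (h : ∀ x : X, ∃ (C : CommRingCat.{u}) (j : Spec C ⟶ X), IsOpenImmersion j ∧ x ∈ Set.range j ∧
      ∃ c : C, c ∈ nonZeroDivisors C ∧ ∀ q : PrimeSpectrum C, c ∉ q.asIdeal → j q ∈ W) :
    IsSchemeTheoreticallyDominant W.ι := by
  apply isSchemeTheoreticallyDominant_ι_of_forall_exists
  intro x
  obtain ⟨C, j, hj, hx, c, hc, hcW⟩ := h x
  refine ⟨j ''ᵁ ⊤, (isAffineOpen_top _).image_of_isOpenImmersion j, ?_,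
    (j.appIso ⊤).inv ((Scheme.ΓSpecIso C).inv c), ?_, ?_⟩
  · obtain ⟨q, rfl⟩ := hx
    exact ⟨q, trivial, rfl⟩
  · let e : C ≃+* Γ(X, j ''ᵁ ⊤) :=
      ((Scheme.ΓSpecIso C).symm ≪≫ (j.appIso ⊤).symm).commRingCatIsoToRingEquiv
    exact Groth.Agent.Lib.T2H3.GenRegular.map_mem_nonZeroDivisors_of_ringEquiv e hc
  · rw [← Scheme.image_basicOpen, basicOpen_eq_of_affine]
    rintro _ ⟨q, hq, rfl⟩
    exact hcW q hq

/-- on a Noetherian affine scheme, a scheme-theoretically dense open contains the nonvanishing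
locus of a regular element coming from any ideal cutting out (a subset of) its complement. -/
theorem exists_mem_nonZeroDivisors_of_dominant {B C : Type u} [CommRing B] [CommRing C]
    [IsNoetherianRing C] (φ : B →+* C) (I : Ideal B) (W : (Spec (.of C)).Opens)
    [IsSchemeTheoreticallyDominant W.ι]
    (hW : ∀ q : PrimeSpectrum C, q ∈ W → ¬ I ≤ q.asIdeal.comap φ) :
    ∃ g ∈ I, φ g ∈ nonZeroDivisors C := by
  classical
  by_contra hcon
  push Not at hcon
  -- prime avoidance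
  obtain ⟨P, hP, hIP⟩ : ∃ P ∈ associatedPrimes C C, I ≤ P.comap φ := by
    refine (Ideal.subset_union_prime_finite (associatedPrimes.finite C C)
      (f := fun P : Ideal C => P.comap φ) 0 0 fun P hP _ _ => ?_).1 ?_
    · haveI := hP.isPrime
      exact Ideal.comap_isPrime φ P
    · intro g hg
      have h1 : φ g ∈ (nonZeroDivisors C : Set C)ᶜ := hcon g hg
      rw [← biUnion_associatedPrimes_eq_compl_nonZeroDivisors] at h1
      simp only [Set.mem_iUnion, SetLike.mem_coe, exists_prop] at h1 ⊢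
      exact h1
  rw [AssociatedPrimes.mem_iff, isAssociatedPrime_iff] at hP
  obtain ⟨hPprime, x, rfl⟩ := hP
  have hx0 : x ≠ 0 := by
    rintro rfl
    apply hPprime.ne_top
    rw [Ideal.eq_top_iff_one, Submodule.mem_colon_singleton]
    simp
  have hgx : ∀ g ∈ I, φ g * x = 0 := by
    intro g hg
    have := hIP hg
    rw [Ideal.mem_comap, Submodule.mem_colon_singleton] at this
    simpa using this
  -- the section `x` vanishes on `W`
  apply hx0
  set x' : Γ(Spec (.of C), ⊤) := (Scheme.ΓSpecIso (.of C)).inv x with hx'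
  suffices hzero : x' = 0 by
    have h2 : (Scheme.ΓSpecIso (.of C)).hom x' = x := by
      rw [hx', ← CommRingCat.comp_apply, Iso.inv_hom_id]
      rfl
    rw [← h2, hzero, map_zero]
  haveI : QuasiCompact W.ι := inferInstance
  apply W.ι.app_injective ⊤
  rw [map_zero]
  have h1 : W.ι ''ᵁ W.ι ⁻¹ᵁ ⊤ ≤ ⊤ := le_top
  change ((Spec (.of C)).presheaf.map (homOfLE h1).op).hom x' = 0
  apply (Spec (.of C)).IsSheaf.section_ext
  intro q hq
  have hqW : q ∈ W := by
    obtain ⟨w, -, rfl⟩ := hq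
    exact w.2
  obtain ⟨g, hgI, hgq⟩ := SetLike.not_le_iff_exists.mp (hW q hqW)
  rw [Ideal.mem_comap] at hgq
  set c' : Γ(Spec (.of C), ⊤) := (Scheme.ΓSpecIso (.of C)).inv (φ g) with hc'
  have hqD : q ∈ (Spec (.of C)).basicOpen c' := by
    rw [hc', basicOpen_eq_of_affine]
    exact hgq
  refine ⟨(Spec (.of C)).basicOpen c' ⊓ (W.ι ''ᵁ W.ι ⁻¹ᵁ ⊤), inf_le_right, ⟨hqD, hq⟩, ?_⟩
  rw [map_zero, ← CommRingCat.comp_apply, ← Functor.map_comp]
  have hfac : (homOfLE h1).op ≫ (homOfLE (inf_le_right :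
      (Spec (.of C)).basicOpen c' ⊓ (W.ι ''ᵁ W.ι ⁻¹ᵁ ⊤) ≤ _)).op =
      (homOfLE ((Spec (.of C)).basicOpen_le c')).op ≫ (homOfLE (inf_le_left :
      (Spec (.of C)).basicOpen c' ⊓ (W.ι ''ᵁ W.ι ⁻¹ᵁ ⊤) ≤ _)).op := rfl
  rw [hfac, Functor.map_comp, CommRingCat.comp_apply]
  have hres : ((Spec (.of C)).presheaf.map (homOfLE ((Spec (.of C)).basicOpen_le c')).op).hom x'
      = 0 := by
    haveI := (isAffineOpen_top (Spec (.of C))).isLocalization_basicOpen c'
    change algebraMap Γ(Spec (.of C), ⊤) Γ(Spec (.of C), (Spec (.of C)).basicOpen c') x' = 0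
    rw [IsLocalization.map_eq_zero_iff (Submonoid.powers c')]
    refine ⟨⟨c', Submonoid.mem_powers c'⟩, ?_⟩
    change c' * x' = 0
    rw [hc', hx', ← map_mul, hgx g hgI, map_zero]
  rw [hres, map_zero]

/-- affine chart of a fibre: `Spec (Γ(X,V) ⊗ κ(p)) → X_s`, together with its range. -/
theorem exists_fibre_chart_range {X S : Scheme.{u}} (h : X ⟶ S) {S₀ : S.Opens}
    (hS₀ : IsAffineOpen S₀) {V : X.Opens} (hV : IsAffineOpen V) (e : V ≤ h ⁻¹ᵁ S₀)
    (p : Spec Γ(S, S₀)) (s : S)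
    (θ : Spec (.of p.asIdeal.ResidueField) ⟶ Spec (S.residueField s)) [IsIso θ]
    (hθ : θ ≫ S.fromSpecResidueField s =
      Spec.map (CommRingCat.ofHom (algebraMap Γ(S, S₀) p.asIdeal.ResidueField)) ≫ hS₀.fromSpec) :
    letI := (h.appLE S₀ V e).hom.toAlgebra
    ∃ j : Spec (.of (Γ(X, V) ⊗[Γ(S, S₀)] p.asIdeal.ResidueField)) ⟶ h.fiber s,
      IsOpenImmersion j ∧
      j ≫ h.fiberι s = Spec.map (CommRingCat.ofHom
        (algebraMap Γ(X, V) (Γ(X, V) ⊗[Γ(S, S₀)] p.asIdeal.ResidueField))) ≫ hV.fromSpec ∧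
      Set.range j = h.fiberι s ⁻¹' V := by
  letI := (h.appLE S₀ V e).hom.toAlgebra
  have e₁ : Spec.map (CommRingCat.ofHom (algebraMap Γ(S, S₀) Γ(X, V))) ≫ hS₀.fromSpec =
      hV.fromSpec ≫ h := IsAffineOpen.SpecMap_appLE_fromSpec h hS₀ hV e
  let j0 := pullback.map _ _ h (S.fromSpecResidueField s) hV.fromSpec θ hS₀.fromSpec e₁ hθ.symm
  let j := (pullbackSpecIso Γ(S, S₀) Γ(X, V) p.asIdeal.ResidueField).inv ≫ j0
  haveI : IsOpenImmersion hS₀.fromSpec := hS₀.isOpenImmersion_fromSpec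
  haveI : IsOpenImmersion hV.fromSpec := hV.isOpenImmersion_fromSpec
  haveI : IsOpenImmersion j0 := inferInstance
  have hjOI : IsOpenImmersion j := inferInstance
  have hj0fst : j0 ≫ pullback.fst h (S.fromSpecResidueField s) = pullback.fst _ _ ≫ hV.fromSpec :=
    pullback.lift_fst _ _ _
  refine ⟨j, hjOI, ?_, ?_⟩
  · show ((pullbackSpecIso Γ(S, S₀) Γ(X, V) p.asIdeal.ResidueField).inv ≫ j0) ≫
      pullback.fst h (S.fromSpecResidueField s) = _
    rw [Category.assoc, hj0fst, ← Category.assoc, pullbackSpecIso_inv_fst']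
  · have hr0 : Set.range j0 = pullback.fst h (S.fromSpecResidueField s) ⁻¹' Set.range hV.fromSpec ∩
        pullback.snd h (S.fromSpecResidueField s) ⁻¹' Set.range θ :=
      Scheme.Pullback.range_map _ _ _ _ _ _ _ _ _
    have hθr : Set.range θ = Set.univ := by
      rw [Set.range_eq_univ]
      exact (θ.homeomorph).surjective
    have hj : Set.range j = Set.range j0 := by
      change Set.range ((pullbackSpecIso Γ(S, S₀) Γ(X, V) p.asIdeal.ResidueField).inv ≫ j0) = _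
      rw [Scheme.Hom.comp_base, TopCat.coe_comp, Set.range_comp, Set.range_eq_univ.mpr, Set.image_univ]
      exact ((pullbackSpecIso Γ(S, S₀) Γ(X, V) p.asIdeal.ResidueField).inv.homeomorph).surjective
    refine hj.trans ?_
    rw [hr0, hθr, Set.preimage_univ, Set.inter_univ, hV.range_fromSpec]
    rfl

variable {X Y : Scheme.{u}}

open Groth.Agent.Lib.Helper3.FibEtSch in
/-- chart-level form of generic scheme-theoretic density in fibres. -/
theorem exists_basicOpen_chart (f : X ⟶ Y) [IrreducibleSpace Y] [LocallyOfFiniteType f]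
    {Y₀ : Y.Opens} (hY₀ : IsAffineOpen Y₀) (hη : genericPoint Y ∈ Y₀) {V : X.Opens}
    (hV : IsAffineOpen V) (e : V ≤ f ⁻¹ᵁ Y₀) (U : X.Opens)
    (h : IsSchemeTheoreticallyDominant (f.fiberι (genericPoint Y) ⁻¹ᵁ U).ι) :
    ∃ a : Γ(Y, Y₀), genericPoint Y ∈ Y.basicOpen a ∧ ∀ y ∈ Y.basicOpen a,
      ∃ (C : CommRingCat.{u}) (j : Spec C ⟶ f.fiber y), IsOpenImmersion j ∧
        Set.range j = f.fiberι y ⁻¹' V ∧ ∃ c : C, c ∈ nonZeroDivisors C ∧
          ∀ q : PrimeSpectrum C, c ∉ q.asIdeal → j q ∈ f.fiberι y ⁻¹ᵁ U := by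
  classical
  letI : Algebra Γ(Y, Y₀) Γ(X, V) := (f.appLE Y₀ V e).hom.toAlgebra
  haveI : Algebra.FiniteType Γ(Y, Y₀) Γ(X, V) := f.finiteType_appLE hY₀ hV e
  set ηA : PrimeSpectrum Γ(Y, Y₀) := hY₀.primeIdealOf ⟨genericPoint Y, hη⟩ with hηA
  have hηA' : hY₀.fromSpec ηA = genericPoint Y := hY₀.fromSpec_primeIdealOf ⟨genericPoint Y, hη⟩
  haveI := hY₀.isOpenImmersion_fromSpec
  haveI := hV.isOpenImmersion_fromSpec
  have hηle : ∀ q : Ideal Γ(Y, Y₀), q.IsPrime → ηA.asIdeal ≤ q := by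
    intro q hq
    have h1 : genericPoint Y ⤳ hY₀.fromSpec ⟨q, hq⟩ := genericPoint_specializes _
    rw [← hηA'] at h1
    have h2 : ηA ⤳ (⟨q, hq⟩ : PrimeSpectrum Γ(Y, Y₀)) :=
      hY₀.fromSpec.isOpenEmbedding.isInducing.specializes_iff.mp h1
    exact (PrimeSpectrum.le_iff_specializes _ _).mpr h2
  -- the ideal of the complement of `U` in the chart
  set t : Set (PrimeSpectrum Γ(X, V)) := hV.fromSpec ⁻¹' ((U : Set X)ᶜ) with ht
  have htcl : IsClosed t := (U.2.isClosed_compl).preimage hV.fromSpec.continuous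
  set I : Ideal Γ(X, V) := PrimeSpectrum.vanishingIdeal t with hI
  have hIt : ∀ 𝔮 : PrimeSpectrum Γ(X, V), I ≤ 𝔮.asIdeal ↔ hV.fromSpec 𝔮 ∉ U := by
    intro 𝔮
    have : PrimeSpectrum.zeroLocus (I : Set Γ(X, V)) = t := by
      rw [hI, PrimeSpectrum.zeroLocus_vanishingIdeal_eq_closure, htcl.closure_eq]
    rw [← SetLike.coe_subset_coe, ← PrimeSpectrum.mem_zeroLocus, this]
    rfl
  -- compatibility of the charts with `fiberι`
  have hcompat : ∀ (y : Y) (p : PrimeSpectrum Γ(Y, Y₀))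
      (j : Spec (.of (Γ(X, V) ⊗[Γ(Y, Y₀)] p.asIdeal.ResidueField)) ⟶ f.fiber y)
      (hj : j ≫ f.fiberι y = Spec.map (CommRingCat.ofHom
        (algebraMap Γ(X, V) (Γ(X, V) ⊗[Γ(Y, Y₀)] p.asIdeal.ResidueField))) ≫ hV.fromSpec)
      (q : PrimeSpectrum (Γ(X, V) ⊗[Γ(Y, Y₀)] p.asIdeal.ResidueField)),
      f.fiberι y (j q) = hV.fromSpec (PrimeSpectrum.comap
        (algebraMap Γ(X, V) (Γ(X, V) ⊗[Γ(Y, Y₀)] p.asIdeal.ResidueField)) q) := by
    intro y p j hj q
    have := congrArg (fun g : Spec (.of (Γ(X, V) ⊗[Γ(Y, Y₀)] p.asIdeal.ResidueField)) ⟶ X => g q) hj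
    exact this
  -- generic chart
  obtain ⟨θ, hθiso, hθ⟩ := exists_residueField_iso hY₀ ηA _ hηA'
  obtain ⟨j, hjo, hj1, hjr⟩ := exists_fibre_chart_range f hY₀ hV e ηA _ θ hθ
  haveI : LocallyOfFiniteType (f.fiberToSpecResidueField (genericPoint Y)) :=
    MorphismProperty.pullback_snd _ _ inferInstance
  haveI : IsLocallyNoetherian (f.fiber (genericPoint Y)) :=
    LocallyOfFiniteType.isLocallyNoetherian (f.fiberToSpecResidueField (genericPoint Y))
  haveI : IsSchemeTheoreticallyDominant (j ⁻¹ᵁ (f.fiberι (genericPoint Y) ⁻¹ᵁ U)).ι :=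
    IsSchemeTheoreticallyDominant.of_isPullback
      (isPullback_morphismRestrict j (f.fiberι (genericPoint Y) ⁻¹ᵁ U))
  haveI : IsNoetherianRing (Γ(X, V) ⊗[Γ(Y, Y₀)] ηA.asIdeal.ResidueField) := by
    haveI : IsNoetherianRing (ηA.asIdeal.ResidueField ⊗[Γ(Y, Y₀)] Γ(X, V)) :=
      Algebra.FiniteType.isNoetherianRing ηA.asIdeal.ResidueField _
    exact isNoetherianRing_of_ringEquiv _
      (Algebra.TensorProduct.comm Γ(Y, Y₀) ηA.asIdeal.ResidueField Γ(X, V)).toRingEquiv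
  obtain ⟨g, hgI, hg⟩ := exists_mem_nonZeroDivisors_of_dominant
    (algebraMap Γ(X, V) (Γ(X, V) ⊗[Γ(Y, Y₀)] ηA.asIdeal.ResidueField)) I
    (j ⁻¹ᵁ (f.fiberι (genericPoint Y) ⁻¹ᵁ U)) (by
      intro q hq hle
      have h1 : f.fiberι (genericPoint Y) (j q) ∈ U := hq
      rw [hcompat _ ηA j hj1 q] at h1
      exact (hIt _).mp hle h1)
  obtain ⟨a, haη, hreg⟩ :=
    Groth.Agent.Lib.T2H3.GenRegular.exists_notMem_forall_tmul_one_mem_nonZeroDivisors.{u, u}
      ηA.asIdeal hηle g hg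
  have hbasic : ∀ p : PrimeSpectrum Γ(Y, Y₀), hY₀.fromSpec p ∈ Y.basicOpen a ↔ a ∉ p.asIdeal := by
    intro p
    have := hY₀.fromSpec_preimage_basicOpen a
    have h1 : p ∈ hY₀.fromSpec ⁻¹ᵁ Y.basicOpen a ↔ p ∈ PrimeSpectrum.basicOpen a := by
      rw [this]
      exact Iff.rfl
    exact h1
  refine ⟨a, ?_, ?_⟩
  · rw [← hηA', hbasic]
    exact haη
  · intro y hy
    have hyY₀ : y ∈ Y₀ := Y.basicOpen_le _ hy
    set p : PrimeSpectrum Γ(Y, Y₀) := hY₀.primeIdealOf ⟨y, hyY₀⟩ with hp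
    have hp' : hY₀.fromSpec p = y := hY₀.fromSpec_primeIdealOf ⟨y, hyY₀⟩
    have hap : a ∉ p.asIdeal := by
      rw [← hbasic, hp']
      exact hy
    obtain ⟨θ', hθ'iso, hθ'⟩ := exists_residueField_iso hY₀ p _ hp'
    obtain ⟨j', hj'o, hj'1, hj'r⟩ := exists_fibre_chart_range f hY₀ hV e p _ θ' hθ'
    refine ⟨.of (Γ(X, V) ⊗[Γ(Y, Y₀)] p.asIdeal.ResidueField), j', hj'o, hj'r,
      g ⊗ₜ[Γ(Y, Y₀)] (1 : p.asIdeal.ResidueField), ?_, ?_⟩
    · exact hreg p.asIdeal.ResidueField (by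
        rw [Ne, Ideal.algebraMap_residueField_eq_zero]
        exact hap)
    · intro q hq
      change f.fiberι y (j' q) ∈ U
      rw [hcompat _ p j' hj'1 q]
      by_contra hnot
      have hle := (hIt _).mpr hnot
      exact hq (hle hgI)

/-- **Generic scheme-theoretic density in fibres**: for `f : X ⟶ Y` of finite type with `Y`
irreducible and `U ⊆ X` open with scheme-theoretically dense trace on the generic fibre, the trace
of `U` on the fibre over `y` is scheme-theoretically dense for all `y` in a nonempty open subset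
of `Y`. -/
theorem exists_open_forall_isSchemeTheoreticallyDominant (f : X ⟶ Y) [IrreducibleSpace Y]
    [LocallyOfFiniteType f] [QuasiCompact f] (U : X.Opens)
    (h : IsSchemeTheoreticallyDominant (f.fiberι (genericPoint Y) ⁻¹ᵁ U).ι) :
    ∃ V : Y.Opens, (V : Set Y).Nonempty ∧
      ∀ y ∈ V, IsSchemeTheoreticallyDominant (f.fiberι y ⁻¹ᵁ U).ι := by
  classical
  obtain ⟨Y₀, hY₀, hη, -⟩ := exists_isAffineOpen_mem_and_subset (X := Y) (x := genericPoint Y)
    (U := ⊤) trivial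
  have hcomp : IsCompact (f ⁻¹ᵁ Y₀ : Set X) := f.isCompact_preimage hY₀.isCompact
  obtain ⟨s, hs, hsU⟩ := isCompact_iff_finite_and_eq_biUnion_affineOpens.mp hcomp
  have hch : ∀ V : X.affineOpens, ∃ a : Γ(Y, Y₀), genericPoint Y ∈ Y.basicOpen a ∧
      (V ∈ s → ∀ y ∈ Y.basicOpen a,
        ∃ (C : CommRingCat.{u}) (j : Spec C ⟶ f.fiber y), IsOpenImmersion j ∧
          Set.range j = f.fiberι y ⁻¹' V.1 ∧ ∃ c : C, c ∈ nonZeroDivisors C ∧
            ∀ q : PrimeSpectrum C, c ∉ q.asIdeal → j q ∈ f.fiberι y ⁻¹ᵁ U) := by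
    intro V
    by_cases hVs : V ∈ s
    · have e : V.1 ≤ f ⁻¹ᵁ Y₀ := by
        rw [hsU]; exact le_iSup₂_of_le V hVs le_rfl
      obtain ⟨a, ha, h'⟩ := exists_basicOpen_chart f hY₀ hη V.2 e U h
      exact ⟨a, ha, fun _ => h'⟩
    · refine ⟨1, ?_, fun h => absurd h hVs⟩
      rw [Scheme.basicOpen_of_isUnit _ isUnit_one]
      exact hη
  choose α hαη hα using hch
  refine ⟨Y.basicOpen (∏ V ∈ hs.toFinset, α V), ⟨genericPoint Y, ?_⟩, fun y hy => ?_⟩
  · exact (Groth.Agent.Lib.T2H3.FibNowhereDense.mem_basicOpen_prod _ α _ hη).mpr fun V _ => hαη V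
  · have hyY₀ : y ∈ Y₀ := Y.basicOpen_le _ hy
    haveI : LocallyOfFiniteType (f.fiberToSpecResidueField y) :=
      MorphismProperty.pullback_snd _ _ inferInstance
    haveI : IsLocallyNoetherian (f.fiber y) :=
      LocallyOfFiniteType.isLocallyNoetherian (f.fiberToSpecResidueField y)
    apply isSchemeTheoreticallyDominant_ι_of_charts
    intro z
    set x := f.fiberι y z with hx
    have hfx : f x = y := by
      have : x ∈ Set.range (f.fiberι y) := ⟨z, rfl⟩
      rw [Scheme.Hom.range_fiberι] at this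
      exact this
    have hxpre : x ∈ f ⁻¹ᵁ Y₀ := by
      change f x ∈ Y₀
      rw [hfx]; exact hyY₀
    rw [hsU] at hxpre
    simp only [Opens.mem_iSup] at hxpre
    obtain ⟨V, hVs, hxV⟩ := hxpre
    have hya : y ∈ Y.basicOpen (α V) :=
      (Groth.Agent.Lib.T2H3.FibNowhereDense.mem_basicOpen_prod _ α _ hyY₀).mp hy V
        (hs.mem_toFinset.mpr hVs)
    obtain ⟨C, j, hj, hjr, c, hc, hcW⟩ := hα V hVs y hya
    refine ⟨C, j, hj, ?_, c, hc, hcW⟩
    rw [hjr]
    exact hxV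

end Groth.Agent.Lib.T2H3.FibSchDense
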