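import Mathlib
import Groth.Agent.Lib.Helper3LocusBC
import Groth.Agent.Lib.Helper3LocusFam
import Groth.Agent.Lib.Helper3LocusPair
import Groth.Agent.Lib.Helper26FGZ
import Groth.Agent.Lib.Helper22LimBC
import Groth.Agent.Lib.Helper5ProCons
import Groth.Agent.S0591
import Groth.Agent.S4759

/-!
# Loci defined by topological conditions on traces of constructible subsets on fibres
(EGA IV 9.5.3, 9.5.4): the general framework.

For a predicate `Q` on pairs of subsets of a topological space which is invariant under pullback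
along continuous open surjections, and `f : X ⟶ S` of finite presentation with `Z, Z' ⊆ X` locally
constructible, the set of `s` such that `Q` holds for the traces of `Z`, `Z'` on the fibre `X_s` is
locally constructible as soon as the generic dichotomy holds over integral Noetherian bases.
-/

set_option autoImplicit false
set_option linter.style.haveILetI false
set_option linter.unusedVariables false
universe u
open CategoryTheory CategoryTheory.Limits AlgebraicGeometry Topology

namespace Groth.Agent.Lib.T2H3.FibTop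

open Groth.Agent.Lib.Helper3.LocusBC Groth.Agent.Lib.Helper3.LocusFam Groth.Agent.Lib.Helper26.FGZ
  Groth.Agent.Lib.Helper3.LocusPair Groth.Agent.Lib.Helper22.LimBC

/-- a predicate on pairs of subsets of topological spaces, invariant under pullback along
continuous open surjections. -/
def IsOpenSurjStable (Q : ∀ (T : Type u) [TopologicalSpace T], Set T → Set T → Prop) : Prop :=
  ∀ {T T' : Type u} [TopologicalSpace T] [TopologicalSpace T'] (q : T' → T), Continuous q →
    IsOpenMap q → Function.Surjective q → ∀ A B : Set T, Q T' (q ⁻¹' A) (q ⁻¹' B) ↔ Q T A B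

/-- the set of points `s` of the base where `Q` holds for the traces of `Z`, `Z'` on the fibre. -/
def locusQ (Q : ∀ (T : Type u) [TopologicalSpace T], Set T → Set T → Prop) {X S : Scheme.{u}}
    (f : X ⟶ S) (Z Z' : Set X) : Set S :=
  {s | Q (f.fiber s) ((f.fiberι s) ⁻¹' Z) ((f.fiberι s) ⁻¹' Z')}

variable {Q : ∀ (T : Type u) [TopologicalSpace T], Set T → Set T → Prop}

/-- description of `locusQ` through the set-theoretic fibres. -/
theorem mem_locusQ_iff (hQ : IsOpenSurjStable Q) {X S : Scheme.{u}} (f : X ⟶ S) (Z Z' : Set X)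
    (s : S) :
    s ∈ locusQ Q f Z Z' ↔
      Q ↥(f ⁻¹' {s}) (Subtype.val ⁻¹' Z) (Subtype.val ⁻¹' Z') := by
  have := hQ (f.fiberHomeo s) (f.fiberHomeo s).continuous (f.fiberHomeo s).isOpenMap
    (f.fiberHomeo s).surjective (Subtype.val ⁻¹' Z) (Subtype.val ⁻¹' Z')
  exact this

/-- compatibility of `locusQ` with base change. -/
theorem locusQ_eq_preimage (hQ : IsOpenSurjStable Q) {X S X' S' : Scheme.{u}} {u : X ⟶ S}
    {u' : X' ⟶ S'} {a : S' ⟶ S} {pX : X' ⟶ X} (hX : IsPullback pX u' u a) (Z Z' : Set X) :
    locusQ Q u' (pX ⁻¹' Z) (pX ⁻¹' Z') = a ⁻¹' locusQ Q u Z Z' := by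
  ext s'
  obtain ⟨eX, h1, h2, h3⟩ := exists_fiber_lift hX s'
  have hUO : UniversallyOpen eX :=
    MorphismProperty.of_isPullback h3.flip
      (inferInstance : UniversallyOpen (Spec.map (a.residueFieldMap s')))
  have hsurj : Surjective eX :=
    MorphismProperty.of_isPullback h3.flip
      (⟨fun x => ⟨Classical.arbitrary _, Subsingleton.elim _ _⟩⟩ :
        Surjective (Spec.map (a.residueFieldMap s')))
  have hpre : ∀ W : Set X, (u'.fiberι s') ⁻¹' (pX ⁻¹' W) = eX ⁻¹' ((u.fiberι (a s')) ⁻¹' W) := by
    intro W
    ext z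
    simp only [Set.mem_preimage]
    rw [← Scheme.Hom.comp_apply, ← Scheme.Hom.comp_apply, h1]
  show Q _ _ _ ↔ Q _ _ _
  rw [hpre Z, hpre Z']
  exact hQ eX eX.continuous eX.isOpenMap eX.surjective _ _

/-- the predicate "`E` is a `Q`-locus of a finitely presented family with locally constructible
subsets". -/
def FamQ (Q : ∀ (T : Type u) [TopologicalSpace T], Set T → Set T → Prop) (S : Scheme.{u})
    (E : Set S) : Prop :=
  ∃ (X : Scheme.{u}) (u : X ⟶ S) (Z Z' : Set X), LocallyOfFinitePresentation u ∧ QuasiCompact u ∧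
    QuasiSeparated u ∧ IsLocallyConstructible Z ∧ IsLocallyConstructible Z' ∧ E = locusQ Q u Z Z'

theorem isLocusFam_famQ (hQ : IsOpenSurjStable Q) : IsLocusFam (FamQ Q) where
  bc := by
    rintro S S' a E ⟨X, u, Z, Z', h1, h2, h3, hZ, hZ', rfl⟩
    refine ⟨pullback u a, pullback.snd u a, (pullback.fst u a) ⁻¹' Z, (pullback.fst u a) ⁻¹' Z',
      inferInstance, inferInstance, inferInstance,
      Groth.Agent.Lib.Helper5.isLocallyConstructible_preimage _ hZ,
      Groth.Agent.Lib.Helper5.isLocallyConstructible_preimage _ hZ', ?_⟩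
    exact (locusQ_eq_preimage hQ (IsPullback.of_hasPullback u a) Z Z').symm
  approx := by
    rintro A E ⟨X, u, Z, Z', h1, h2, h3, hZ, hZ', rfl⟩
    obtain ⟨i, Xi, ui, qX, a1, a2, a3, hX⟩ :=
      @Groth.Agent.S0591.result _ _ _ (specDiagram A) (specCone A) (specIsLimit A) _ _ _ X u h1 h2 h3
    haveI := a1; haveI := a2; haveI := a3
    have inst : ∀ {i j : (FGSub A)ᵒᵖ} (f : i ⟶ j), IsAffineHom ((specDiagram A).map f) :=
      fun f => inferInstance
    haveI : CompactSpace Xi := QuasiCompact.compactSpace_of_compactSpace ui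
    haveI : QuasiSeparatedSpace Xi := quasiSeparatedSpace_of_quasiSeparated ui
    haveI : CompactSpace X := QuasiCompact.compactSpace_of_compactSpace u
    haveI : QuasiSeparatedSpace X := quasiSeparatedSpace_of_quasiSeparated u
    have hZc : IsConstructible Z := hZ.isConstructible
    have hZ'c : IsConstructible Z' := hZ'.isConstructible
    obtain ⟨j, φj, Zj, hZj, hZjeq⟩ := Groth.Agent.S4759.result (bcDiagram (specDiagram A) i ui)
      (bcCone i hX) (isLimitBcCone i hX (specIsLimit A)) (Over.mk (𝟙 i)) Z hZc
    obtain ⟨k, φk, Zk', hZk', hZk'eq⟩ := Groth.Agent.S4759.result (bcDiagram (specDiagram A) i ui)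
      (bcCone i hX) (isLimitBcCone i hX (specIsLimit A)) j Z' hZ'c
    have hpb := isPullback_bcπ (D := specDiagram A) (c := specCone A) i hX k
    have hfp1 : LocallyOfFinitePresentation (dSnd (specDiagram A) i ui k) :=
      MorphismProperty.of_isPullback (isPullback_d (specDiagram A) i ui k) inferInstance
    have hfp2 : QuasiCompact (dSnd (specDiagram A) i ui k) :=
      MorphismProperty.of_isPullback (isPullback_d (specDiagram A) i ui k) inferInstance
    have hfp3 : QuasiSeparated (dSnd (specDiagram A) i ui k) :=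
      MorphismProperty.of_isPullback (isPullback_d (specDiagram A) i ui k) inferInstance
    have hZk : IsConstructible (((bcDiagram (specDiagram A) i ui).map φk) ⁻¹' Zj) :=
      ((bcDiagram (specDiagram A) i ui).map φk).isConstructible_preimage hZj
    have hfam : FamQ Q ((specDiagram A).obj k.left)
        (locusQ Q (dSnd (specDiagram A) i ui k)
          (((bcDiagram (specDiagram A) i ui).map φk) ⁻¹' Zj) Zk') :=
      ⟨_, _, _, _, hfp1, hfp2, hfp3, hZk.isLocallyConstructible, hZk'.isLocallyConstructible, rfl⟩
    have e1 : (bcπ (D := specDiagram A) (c := specCone A) i hX k) ⁻¹'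
        (((bcDiagram (specDiagram A) i ui).map φk) ⁻¹' Zj) = Z := by
      rw [← hZjeq, ← Set.preimage_comp]
      have := bcπ_map (D := specDiagram A) (c := specCone A) i hX φk
      show _ = (bcπ (D := specDiagram A) (c := specCone A) i hX j) ⁻¹' Zj
      rw [← this]
      rfl
    have e2 : (bcπ (D := specDiagram A) (c := specCone A) i hX k) ⁻¹' Zk' = Z' := hZk'eq
    have hloc : locusQ Q u Z Z' = (specCone A).π.app k.left ⁻¹'
        locusQ Q (dSnd (specDiagram A) i ui k)
          (((bcDiagram (specDiagram A) i ui).map φk) ⁻¹' Zj) Zk' := by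
      have := locusQ_eq_preimage hQ hpb (((bcDiagram (specDiagram A) i ui).map φk) ⁻¹' Zj) Zk'
      rw [e1, e2] at this
      exact this
    exact ⟨CommRingCat.of k.left.unop.1, CommRingCat.ofHom (algebraMap k.left.unop.1 A), _,
      noeth_fgSub A k.left.unop, hfam, hloc⟩

/-- **Local constructibility of `Q`-loci** given the generic dichotomy. -/
theorem isLocallyConstructible_locusQ (hQ : IsOpenSurjStable Q)
    (hgen : ∀ {X S : Scheme.{u}} (f : X ⟶ S) [IsIntegral S] [IsNoetherian S]
      [LocallyOfFiniteType f] [QuasiCompact f] (Z Z' : Set X), IsConstructible Z →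
      IsConstructible Z' →
      (interior (locusQ Q f Z Z')).Nonempty ∨ (interior (locusQ Q f Z Z')ᶜ).Nonempty)
    {X S : Scheme.{u}} (f : X ⟶ S) [LocallyOfFinitePresentation f] [QuasiCompact f]
    [QuasiSeparated f] (Z Z' : Set X) (hZ : IsLocallyConstructible Z)
    (hZ' : IsLocallyConstructible Z') : IsLocallyConstructible (locusQ Q f Z Z') := by
  refine isLocallyConstructible (isLocusFam_famQ hQ) ?_
    ⟨X, f, Z, Z', inferInstance, inferInstance, inferInstance, hZ, hZ', rfl⟩
  rintro S _ _ E ⟨X, u, Z, Z', h1, h2, h3, hZ, hZ', rfl⟩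
  haveI : IsLocallyNoetherian X := LocallyOfFiniteType.isLocallyNoetherian u
  haveI : CompactSpace X := QuasiCompact.compactSpace_of_compactSpace u
  exact hgen u Z Z' hZ.isConstructible hZ'.isConstructible

end Groth.Agent.Lib.T2H3.FibTop
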