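import Mathlib
import Groth.Agent.Lib.T2H3FibTop
import Groth.Agent.Lib.T2H3FibImm

/-!
# Density, closedness, openness and local closedness of traces of constructible sets on fibres
(EGA IV 9.5.3, 9.5.4)
-/

set_option autoImplicit false
set_option linter.style.haveILetI false
set_option linter.unusedVariables false
universe u
open CategoryTheory CategoryTheory.Limits AlgebraicGeometry Topology TopologicalSpace

namespace Groth.Agent.Lib.T2H3.FibTopCons

open Groth.Agent.Lib.T2H3.FibTop Groth.Agent.Lib.T2H3.FibDense Groth.Agent.Lib.T2H3.FibDominant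
  Groth.Agent.Lib.T2H3.FibFinite

/-- `A` is dense in `B`. -/
def QDense (T : Type u) [TopologicalSpace T] (A B : Set T) : Prop := B ⊆ closure A

/-- `A` is closed. -/
def QClosed (T : Type u) [TopologicalSpace T] (A _B : Set T) : Prop := IsClosed A

/-- `A` is locally closed. -/
def QLC (T : Type u) [TopologicalSpace T] (A _B : Set T) : Prop := IsLocallyClosed A

theorem stable_QDense : IsOpenSurjStable.{u} QDense := by
  intro T T' _ _ q hc ho hs A B
  show q ⁻¹' B ⊆ closure (q ⁻¹' A) ↔ B ⊆ closure A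
  rw [← ho.preimage_closure_eq_closure_preimage hc, hs.preimage_subset_preimage_iff]

theorem stable_QClosed : IsOpenSurjStable.{u} QClosed := by
  intro T T' _ _ q hc ho hs A B
  exact (ho.isQuotientMap hc hs).isClosed_preimage

theorem isLocallyClosed_iff_isClosed_closure_diff {T : Type*} [TopologicalSpace T] (A : Set T) :
    IsLocallyClosed A ↔ IsClosed (closure A \ A) := by
  rw [isLocallyClosed_iff_isOpen_coborder, coborder, isOpen_compl_iff]

theorem stable_QLC : IsOpenSurjStable.{u} QLC := by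
  intro T T' _ _ q hc ho hs A B
  show IsLocallyClosed (q ⁻¹' A) ↔ IsLocallyClosed A
  rw [isLocallyClosed_iff_isOpen_coborder, isLocallyClosed_iff_isOpen_coborder,
    coborder_preimage ho hc]
  exact (ho.isQuotientMap hc hs).isOpen_preimage

section crit

variable {X S : Scheme.{u}} (f : X ⟶ S) (Z Z' : Set X) (s : S)

theorem closure_preimage_fiberι :
    closure ((f.fiberι s) ⁻¹' Z) = (f.fiberι s) ⁻¹' closure (Z ∩ f ⁻¹' {s}) := by
  rw [(f.fiberι s).isEmbedding.isInducing.closure_eq_preimage_closure_image,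
    Set.image_preimage_eq_inter_range, f.range_fiberι s]

theorem mem_locusQ_dense_iff :
    s ∈ locusQ QDense f Z Z' ↔ ∀ x ∈ Z', f x = s → x ∈ closure (Z ∩ f ⁻¹' {s}) := by
  show (f.fiberι s) ⁻¹' Z' ⊆ closure ((f.fiberι s) ⁻¹' Z) ↔ _
  rw [closure_preimage_fiberι]
  have hrange := f.range_fiberι s
  constructor
  · intro H x hx hxs
    have : x ∈ Set.range (f.fiberι s) := by rw [hrange]; exact hxs
    obtain ⟨x', rfl⟩ := this
    exact H hx
  · intro H x' hx'
    apply H _ hx'
    have : f.fiberι s x' ∈ Set.range (f.fiberι s) := ⟨x', rfl⟩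
    rw [hrange] at this
    exact this

theorem mem_locusQ_closed_iff :
    s ∈ locusQ QClosed f Z Z' ↔
      ∀ w : X, f w = s → w ∈ closure (Z ∩ f ⁻¹' {s}) → w ∈ Z := by
  show IsClosed ((f.fiberι s) ⁻¹' Z) ↔ _
  rw [isClosed_preimage_iff_of_isEmbedding (f.fiberι s).isEmbedding, f.range_fiberι s]
  exact Iff.rfl

end crit

section aux

theorem isConstructible_compl_image {W S : Scheme.{u}} (p : W ⟶ S) [IsNoetherian S]
    [LocallyOfFiniteType p] [QuasiCompact p] (T : Set W) (hT : IsConstructible T) :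
    IsConstructible (p '' T)ᶜ := by
  haveI : IsLocallyNoetherian W := LocallyOfFiniteType.isLocallyNoetherian p
  haveI : LocallyOfFinitePresentation p :=
    Groth.Agent.Lib.T2H3.FibFlatCons.lfp_of_lft_of_isLocallyNoetherian p
  exact (p.isConstructible_image hT).compl

theorem isConstructible_closure {W S : Scheme.{u}} (p : W ⟶ S) [IsNoetherian S]
    [LocallyOfFiniteType p] [QuasiCompact p] (Z : Set W) : IsConstructible (closure Z) := by
  haveI : IsLocallyNoetherian W := LocallyOfFiniteType.isLocallyNoetherian p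
  haveI : CompactSpace W := QuasiCompact.compactSpace_of_compactSpace p
  haveI : IsNoetherian W := {}
  exact Groth.Agent.Lib.T2H3.FibImm.isClosed.isConstructible_of_noetherianSpace isClosed_closure

end aux

section generic

variable {W S : Scheme.{u}} (p : W ⟶ S) [IsIntegral S] [IsNoetherian S] [LocallyOfFiniteType p]
  [QuasiCompact p]

/-- generic compatibility of closure with fibres for a constructible subset. -/
theorem exists_open_forall_closure_fiber (Z : Set W) (hZ : IsConstructible Z) :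
    ∃ U : S.Opens, (U : Set S).Nonempty ∧ ∀ s ∈ U, ∀ w : W, p w = s → w ∈ closure Z →
      w ∈ closure (Z ∩ p ⁻¹' {s}) := by
  haveI : IsLocallyNoetherian W := LocallyOfFiniteType.isLocallyNoetherian p
  haveI : CompactSpace W := QuasiCompact.compactSpace_of_compactSpace p
  haveI : IsNoetherian W := {}
  obtain ⟨Z₁, ζ, hζ, hζrange⟩ :=
    Groth.Agent.Lib.Helper3.GenFibDim.exists_closedImmersion_range
      (isClosed_closure : IsClosed (closure Z))
  haveI := hζ
  haveI : IsLocallyNoetherian Z₁ := LocallyOfFiniteType.isLocallyNoetherian ζ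
  haveI : CompactSpace Z₁ := QuasiCompact.compactSpace_of_compactSpace ζ
  haveI : IsNoetherian Z₁ := {}
  have hZ₁ : IsConstructible (ζ ⁻¹' Z) := ζ.isConstructible_preimage hZ
  have hZ₁d : Dense (ζ ⁻¹' Z) := by
    intro y₁
    rw [ζ.isEmbedding.isInducing.closure_eq_preimage_closure_image,
      Set.image_preimage_eq_inter_range, hζrange,
      Set.inter_eq_left.mpr subset_closure]
    show ζ y₁ ∈ closure Z
    rw [← hζrange]
    exact ⟨y₁, rfl⟩
  have hV₁d := dense_interior_of_isConstructible_of_dense hZ₁ hZ₁d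
  obtain ⟨U, hUne, hU⟩ := exists_open_forall_mem_closure (ζ ≫ p) _ isOpen_interior hV₁d
  refine ⟨U, hUne, ?_⟩
  intro s hs y hy hyC
  rw [← hζrange] at hyC
  obtain ⟨y₁, rfl⟩ := hyC
  have h1 := hU s hs y₁ (by rw [Scheme.Hom.comp_apply]; exact hy)
  have h2 := image_closure_subset_closure_image ζ.continuous ⟨y₁, h1, rfl⟩
  refine closure_mono ?_ h2
  rintro _ ⟨w, ⟨hw1, hw2⟩, rfl⟩
  have hw1' : w ∈ ζ ⁻¹' Z := interior_subset hw1
  refine ⟨hw1', ?_⟩
  have : (ζ ≫ p) w = s := hw2
  rw [Scheme.Hom.comp_apply] at this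
  exact this

/-- generic description of the density locus. -/
theorem exists_open_dense_iff (Z Z' : Set W) (hZ : IsConstructible Z) :
    ∃ U : S.Opens, (U : Set S).Nonempty ∧
      ∀ s ∈ U, s ∈ locusQ QDense p Z Z' ↔ s ∈ (p '' (Z' \ closure Z))ᶜ := by
  obtain ⟨U, hUne, key⟩ := exists_open_forall_closure_fiber p Z hZ
  refine ⟨U, hUne, fun s hs => ?_⟩
  rw [mem_locusQ_dense_iff]
  constructor
  · rintro H ⟨w, ⟨hwZ', hwc⟩, rfl⟩
    exact hwc (closure_mono Set.inter_subset_left (H w hwZ' rfl))
  · intro H x hx hxs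
    apply key s hs x hxs
    by_contra hne
    exact H ⟨x, ⟨hx, hne⟩, hxs⟩

/-- generic description of the closedness locus. -/
theorem exists_open_closed_iff (Z Z' : Set W) (hZ : IsConstructible Z) :
    ∃ U : S.Opens, (U : Set S).Nonempty ∧
      ∀ s ∈ U, s ∈ locusQ QClosed p Z Z' ↔ s ∈ (p '' (closure Z \ Z))ᶜ := by
  obtain ⟨U, hUne, key⟩ := exists_open_forall_closure_fiber p Z hZ
  refine ⟨U, hUne, fun s hs => ?_⟩
  rw [mem_locusQ_closed_iff]
  constructor
  · rintro H ⟨w, ⟨hwc, hwZ⟩, rfl⟩
    exact hwZ (H w rfl (key _ hs w rfl hwc))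
  · intro H w hw hwc
    by_contra hwZ
    exact H ⟨w, ⟨closure_mono Set.inter_subset_left hwc, hwZ⟩, hw⟩

/-- generically, the trace of `Z` on the fibre is locally closed iff the trace of
`closure Z \ Z` is closed. -/
theorem exists_open_lc_iff (Z Z' : Set W) (hZ : IsConstructible Z) :
    ∃ U : S.Opens, (U : Set S).Nonempty ∧
      ∀ s ∈ U, s ∈ locusQ QLC p Z Z' ↔ s ∈ locusQ QClosed p (closure Z \ Z) Z' := by
  obtain ⟨U, hUne, key⟩ := exists_open_forall_closure_fiber p Z hZ
  refine ⟨U, hUne, fun s hs => ?_⟩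
  show IsLocallyClosed ((p.fiberι s) ⁻¹' Z) ↔ IsClosed ((p.fiberι s) ⁻¹' (closure Z \ Z))
  rw [isLocallyClosed_iff_isClosed_closure_diff, closure_preimage_fiberι]
  have : (p.fiberι s) ⁻¹' closure (Z ∩ p ⁻¹' {s}) \ (p.fiberι s) ⁻¹' Z =
      (p.fiberι s) ⁻¹' (closure Z \ Z) := by
    ext w'
    simp only [Set.mem_sdiff, Set.mem_preimage]
    have hw' : p (p.fiberι s w') = s := by
      have : p.fiberι s w' ∈ Set.range (p.fiberι s) := ⟨w', rfl⟩
      rw [p.range_fiberι s] at this
      exact this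
    constructor
    · rintro ⟨h1, h2⟩
      exact ⟨closure_mono Set.inter_subset_left h1, h2⟩
    · rintro ⟨h1, h2⟩
      exact ⟨key s hs _ hw' h1, h2⟩
  rw [this]

theorem dichotomy_dense (Z Z' : Set W) (hZ : IsConstructible Z) (hZ' : IsConstructible Z') :
    (interior (locusQ QDense p Z Z')).Nonempty ∨ (interior (locusQ QDense p Z Z')ᶜ).Nonempty := by
  obtain ⟨U, hUne, hU⟩ := exists_open_dense_iff p Z Z' hZ
  exact dichotomy_of_isConstructible _ _
    (isConstructible_compl_image p _ (hZ'.sdiff (isConstructible_closure p Z))) U hUne hU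

theorem dichotomy_closed (Z Z' : Set W) (hZ : IsConstructible Z) :
    (interior (locusQ QClosed p Z Z')).Nonempty ∨
      (interior (locusQ QClosed p Z Z')ᶜ).Nonempty := by
  obtain ⟨U, hUne, hU⟩ := exists_open_closed_iff p Z Z' hZ
  exact dichotomy_of_isConstructible _ _
    (isConstructible_compl_image p _ ((isConstructible_closure p Z).sdiff hZ)) U hUne hU

theorem dichotomy_lc (Z Z' : Set W) (hZ : IsConstructible Z) :
    (interior (locusQ QLC p Z Z')).Nonempty ∨ (interior (locusQ QLC p Z Z')ᶜ).Nonempty := by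
  obtain ⟨U, hUne, hU⟩ := exists_open_lc_iff p Z Z' hZ
  have hZ₂ : IsConstructible (closure Z \ Z) := (isConstructible_closure p Z).sdiff hZ
  obtain ⟨U₂, hU₂ne, hU₂⟩ := exists_open_closed_iff p (closure Z \ Z) Z' hZ₂
  have hne : ((U ⊓ U₂ : S.Opens) : Set S).Nonempty :=
    nonempty_preirreducible_inter U.2 U₂.2 hUne hU₂ne
  refine dichotomy_of_isConstructible _ _
    (isConstructible_compl_image p _ ((isConstructible_closure p (closure Z \ Z)).sdiff hZ₂))
    (U ⊓ U₂) hne ?_
  intro s hs
  rw [hU s hs.1, hU₂ s hs.2]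

end generic

section main

variable {X S : Scheme.{u}} (f : X ⟶ S) [LocallyOfFinitePresentation f] [QuasiCompact f]
  [QuasiSeparated f] (Z Z' : Set X)

theorem isLocallyConstructible_locusQ_dense (hZ : IsLocallyConstructible Z)
    (hZ' : IsLocallyConstructible Z') : IsLocallyConstructible (locusQ QDense f Z Z') :=
  isLocallyConstructible_locusQ stable_QDense
    (fun p _ _ _ _ Z Z' hZ hZ' => dichotomy_dense p Z Z' hZ hZ') f Z Z' hZ hZ'

theorem isLocallyConstructible_locusQ_closed (hZ : IsLocallyConstructible Z)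
    (hZ' : IsLocallyConstructible Z') : IsLocallyConstructible (locusQ QClosed f Z Z') :=
  isLocallyConstructible_locusQ stable_QClosed
    (fun p _ _ _ _ Z Z' hZ hZ' => dichotomy_closed p Z Z' hZ) f Z Z' hZ hZ'

theorem isLocallyConstructible_locusQ_lc (hZ : IsLocallyConstructible Z)
    (hZ' : IsLocallyConstructible Z') : IsLocallyConstructible (locusQ QLC f Z Z') :=
  isLocallyConstructible_locusQ stable_QLC
    (fun p _ _ _ _ Z Z' hZ hZ' => dichotomy_lc p Z Z' hZ) f Z Z' hZ hZ'

end main

end Groth.Agent.Lib.T2H3.FibTopCons
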