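import Mathlib
import Groth.Agent.Lib.Helper20OnePtStalk

/-!
# The fibre of an affine morphism over a point of an affine open, as primes lying over
-/

set_option autoImplicit false
set_option linter.style.haveILetI false
universe u

open CategoryTheory CategoryTheory.Limits AlgebraicGeometry

namespace Groth.Agent.Lib.T2H3.FibrePrimes

theorem natCard_fibre_eq {X S : Scheme.{u}} (f : X ⟶ S) [IsAffineHom f]
    (s : S) (U₀ : S.Opens) (hU₀ : IsAffineOpen U₀) (hs : s ∈ U₀) :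
    letI : Algebra Γ(S, U₀) Γ(X, f ⁻¹ᵁ U₀) := (f.app U₀).hom.toAlgebra
    Nat.card {x : X // f x = s} =
      Nat.card ((hU₀.primeIdealOf ⟨s, hs⟩).asIdeal.primesOver Γ(X, f ⁻¹ᵁ U₀)) := by
  have hV₀ : IsAffineOpen (f ⁻¹ᵁ U₀) := hU₀.preimage f
  letI : Algebra Γ(S, U₀) Γ(X, f ⁻¹ᵁ U₀) := (f.app U₀).hom.toAlgebra
  have hmem : ∀ x : X, f x = s → x ∈ f ⁻¹ᵁ U₀ := fun x hx => by
    change f x ∈ U₀
    rw [hx]; exact hs
  refine Nat.card_congr (Equiv.ofBijective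
    (fun x => ⟨(hV₀.primeIdealOf ⟨x.1, hmem x.1 x.2⟩).asIdeal,
      (hV₀.primeIdealOf ⟨x.1, hmem x.1 x.2⟩).isPrime, ?_⟩) ⟨?_, ?_⟩)
  · have := Groth.Agent.Lib.Helper20.OnePt.liesOver_primeIdealOf f x.1 U₀ hU₀
      (by rw [x.2]; exact hs)
    have e : (⟨f x.1, by rw [x.2]; exact hs⟩ : U₀) = ⟨s, hs⟩ := Subtype.ext x.2
    rw [e] at this
    exact this
  · intro x y hxy
    have h1 : (hV₀.primeIdealOf ⟨x.1, hmem x.1 x.2⟩) = (hV₀.primeIdealOf ⟨y.1, hmem y.1 y.2⟩) :=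
      PrimeSpectrum.ext (congrArg Subtype.val hxy)
    have h2 := congrArg hV₀.fromSpec h1
    rw [hV₀.fromSpec_primeIdealOf, hV₀.fromSpec_primeIdealOf] at h2
    exact Subtype.ext h2
  · rintro ⟨q', hq'prime, hq'over⟩
    let q'' : ↥(Spec Γ(X, f ⁻¹ᵁ U₀)) := (⟨q', hq'prime⟩ : PrimeSpectrum Γ(X, f ⁻¹ᵁ U₀))
    have h1 : f (hV₀.fromSpec q'') = s := by
      have h2 := IsAffineOpen.SpecMap_appLE_fromSpec f hU₀ hV₀ le_rfl
      have h3 : hU₀.fromSpec (Spec.map (f.appLE U₀ (f ⁻¹ᵁ U₀) le_rfl) q'') =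
          f (hV₀.fromSpec q'') := by
        rw [← Scheme.Hom.comp_apply, ← Scheme.Hom.comp_apply, h2]
      rw [← h3]
      refine Eq.trans ?_ (hU₀.fromSpec_primeIdealOf ⟨s, hs⟩)
      congr 1
      apply PrimeSpectrum.ext
      have e : f.appLE U₀ (f ⁻¹ᵁ U₀) le_rfl = f.app U₀ := (Scheme.Hom.app_eq_appLE ..).symm
      rw [e]
      exact hq'over.over.symm
    refine ⟨⟨hV₀.fromSpec q'', h1⟩, ?_⟩
    apply Subtype.ext
    change (hV₀.primeIdealOf ⟨hV₀.fromSpec q'', _⟩).asIdeal = q'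
    have h5 : hV₀.fromSpec (hV₀.primeIdealOf ⟨hV₀.fromSpec q'', hmem _ h1⟩) = hV₀.fromSpec q'' :=
      hV₀.fromSpec_primeIdealOf _
    have h6 := hV₀.fromSpec.isOpenEmbedding.injective h5
    exact congrArg PrimeSpectrum.asIdeal h6

end Groth.Agent.Lib.T2H3.FibrePrimes
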