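import Mathlib
import Groth.Agent.Lib.Helper26StalkLim

/-!
# A property of schemes over `T` stable under thickenings, limits and stratifications
holds for a field point
-/

set_option autoImplicit false
set_option linter.style.haveILetI false
universe u
open CategoryTheory CategoryTheory.Limits AlgebraicGeometry Topology

namespace Groth.Agent.Lib.T2H3.FieldPoint

section basic

/-- A surjective ring map with nil kernel induces a surjection on spectra. -/
lemma surjective_specMap {R R' : CommRingCat.{u}} (φ : R ⟶ R')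
    (h1 : Function.Surjective φ.hom) (h2 : RingHom.ker φ.hom ≤ nilradical R) :
    Surjective (Spec.map φ) := by
  refine ⟨fun x => ?_⟩
  have hr := _root_.range_comap_of_surjective _ φ.hom h1
  have hx : x ∈ PrimeSpectrum.zeroLocus (RingHom.ker φ.hom : Set R) := by
    intro r hr'
    exact (nilradical_le_prime x.asIdeal) (h2 hr')
  rw [← hr] at hx
  obtain ⟨y, hy⟩ := hx
  exact ⟨y, hy⟩

end basic

section chain
variable {B : Type u} [CommRing B] (c : Set (Ideal B))

/-- The diagram `I ↦ B ⧸ I` over a set of ideals. -/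
noncomputable def chainDiagram : ↥c ⥤ CommRingCat.{u} where
  obj I := CommRingCat.of (B ⧸ I.1)
  map {I I'} f := CommRingCat.ofHom (Ideal.Quotient.factor (leOfHom f))
  map_id I := by
    ext x
    rfl
  map_comp f g := by
    ext x
    rfl

/-- The cocone with point `B ⧸ sSup c`. -/
noncomputable def chainCocone : Cocone (chainDiagram c) where
  pt := CommRingCat.of (B ⧸ sSup c)
  ι :=
    { app := fun I => CommRingCat.ofHom (Ideal.Quotient.factor (le_sSup I.2))
      naturality := by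
        intro I I' f
        ext x
        change B ⧸ I.1 at x
        obtain ⟨b, rfl⟩ := Ideal.Quotient.mk_surjective x
        rfl }

variable {c}

lemma isDirected_of_directedOn (hdir : DirectedOn (· ≤ ·) c) : IsDirected ↥c (· ≤ ·) :=
  ⟨fun a b => by
    obtain ⟨z, hz, h1, h2⟩ := hdir a.1 a.2 b.1 b.2
    exact ⟨⟨z, hz⟩, h1, h2⟩⟩

lemma isFiltered_of_directedOn (hdir : DirectedOn (· ≤ ·) c) (hne : c.Nonempty) :
    IsFiltered ↥c := by
  haveI := isDirected_of_directedOn hdir
  haveI : Nonempty ↥c := hne.to_subtype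
  exact isFiltered_of_directed_le_nonempty _

/-- `B ⧸ sSup c` is the colimit of the `B ⧸ I`, `I ∈ c`, for a directed nonempty `c`. -/
noncomputable def chainIsColimit (hdir : DirectedOn (· ≤ ·) c) (hne : c.Nonempty) :
    IsColimit (chainCocone c) := by
  haveI := isFiltered_of_directedOn hdir hne
  have : ReflectsColimitsOfShape ↥c (forget CommRingCat.{u}) :=
    reflectsColimitsOfShape_of_reflectsIsomorphisms
  refine isColimitOfReflects (forget CommRingCat.{u}) ?_
  refine Types.FilteredColimit.isColimitOf' _ _ ?_ ?_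
  · intro x
    change B ⧸ sSup c at x
    obtain ⟨b, rfl⟩ := Ideal.Quotient.mk_surjective x
    obtain ⟨I, hI⟩ := hne
    exact ⟨⟨I, hI⟩, Ideal.Quotient.mk I b, rfl⟩
  · intro I x y h
    change B ⧸ I.1 at x y
    obtain ⟨b, rfl⟩ := Ideal.Quotient.mk_surjective x
    obtain ⟨b', rfl⟩ := Ideal.Quotient.mk_surjective y
    have h' : b - b' ∈ sSup c := by
      refine Ideal.Quotient.eq.mp ?_
      exact h
    obtain ⟨I', hI', hb⟩ := (Submodule.mem_sSup_of_directed hne hdir).mp h'
    obtain ⟨I'', hI'', h1, h2⟩ := hdir I.1 I.2 I' hI'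
    refine ⟨⟨I'', hI''⟩, homOfLE h1, ?_⟩
    show Ideal.Quotient.mk I'' b = Ideal.Quotient.mk I'' b'
    exact Ideal.Quotient.eq.mpr (h2 hb)

end chain

variable (T : Scheme.{u}) (P : ∀ ⦃T' : Scheme.{u}⦄, (T' ⟶ T) → Prop)

section iso
variable (h1 : ∀ ⦃T' T'' : Scheme.{u}⦄ (a : T' ⟶ T) (t : T'' ⟶ T') [IsClosedImmersion t] [Surjective t]
      [CompactSpace T'] [QuasiSeparatedSpace T'] [CompactSpace T''] [QuasiSeparatedSpace T''],
      P (t ≫ a) ↔ P a)

include h1 in
lemma iso_inv {T' T'' : Scheme.{u}} (a : T' ⟶ T) (t : T'' ⟶ T') [IsIso t]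
    [CompactSpace T'] [QuasiSeparatedSpace T'] [CompactSpace T''] [QuasiSeparatedSpace T''] :
    P (t ≫ a) ↔ P a := h1 a t

end iso

section limit
variable (h2 : ∀ ⦃I : Type u⦄ [SmallCategory I] [IsCofiltered I] (D : I ⥤ Over T) (c : Limits.Cone D)
      (_ : Limits.IsLimit c),
      (∀ (i j : I) (m : i ⟶ j), IsAffineHom (D.map m).left) →
      (∀ i, CompactSpace (D.obj i).left ∧ QuasiSeparatedSpace (D.obj i).left) →
      (∀ i, P (D.obj i).hom) → P c.pt.hom)

include h2 in
lemma P_of_isLimit {I : Type u} [SmallCategory I] [IsCofiltered I] (D : I ⥤ Scheme.{u})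
    (σ : D ⟶ (Functor.const I).obj T) (c : Cone D) (hc : IsLimit c) (p : c.pt ⟶ T)
    (hp : ∀ i, c.π.app i ≫ σ.app i = p)
    (haff : ∀ (i j : I) (m : i ⟶ j), IsAffineHom (D.map m))
    (hq : ∀ i, CompactSpace (D.obj i) ∧ QuasiSeparatedSpace (D.obj i))
    (hP : ∀ i, P (σ.app i)) : P p :=
  haveI : Nonempty I := IsCofiltered.nonempty
  h2 (Over.lift D σ) (Over.liftCone D σ c p hp) (Over.isLimitLiftCone D σ c p hp hc) haff hq hP

end limit

section affine
variable (h3 : ∀ ⦃T' Z V : Scheme.{u}⦄ (a : T' ⟶ T) [CompactSpace T'] [QuasiSeparatedSpace T']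
      (i : Z ⟶ T') [IsClosedImmersion i] (j : V ⟶ T') [IsOpenImmersion j] [CompactSpace V],
      Set.range j = (Set.range i)ᶜ → P a → P (j ≫ a) ∨ P (i ≫ a))

/-- The reduced closed subscheme on the complement of an open. -/
lemma exists_closed_compl {T' : Scheme.{u}} (U : T'.Opens) :
    ∃ (Z : Scheme.{u}) (i : Z ⟶ T'), IsClosedImmersion i ∧ Set.range i = (U : Set T')ᶜ := by
  let Zc : TopologicalSpace.Closeds T' := ⟨(U : Set T')ᶜ, U.isOpen.isClosed_compl⟩
  refine ⟨_, (Scheme.IdealSheafData.vanishingIdeal Zc).subschemeι, inferInstance, ?_⟩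
  rw [Scheme.IdealSheafData.range_subschemeι, Scheme.IdealSheafData.coe_support_vanishingIdeal]
  rfl

include h3 in
lemma exists_affine (n : ℕ) : ∀ (T' : Scheme.{u}) (a : T' ⟶ T) [CompactSpace T']
    [QuasiSeparatedSpace T'] (𝒰 : Finset T'.Opens), 𝒰.card ≤ n → (∀ U ∈ 𝒰, IsAffineOpen U) →
    (∀ x : T', ∃ U ∈ 𝒰, x ∈ U) → Nonempty T' → P a →
    ∃ (W : Scheme.{u}) (w : W ⟶ T), IsAffine W ∧ Nonempty W ∧ P w := by
  classical
  induction n with
  | zero =>
    intro T' a _ _ 𝒰 hcard _ hcov hne _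
    obtain ⟨x⟩ := hne
    obtain ⟨U, hU, -⟩ := hcov x
    rw [Nat.le_zero, Finset.card_eq_zero] at hcard
    subst hcard
    simp at hU
  | succ n ih =>
    intro T' a _ _ 𝒰 hcard haff hcov hne hPa
    obtain ⟨x₀⟩ := hne
    obtain ⟨U, hU, hx₀⟩ := hcov x₀
    by_cases hUtop : U = ⊤
    · subst hUtop
      have h1 : IsAffine (↑(⊤ : T'.Opens) : Scheme.{u}) := haff ⊤ hU
      have : IsAffine T' := .of_isIso (Scheme.topIso T').inv
      exact ⟨T', a, this, ⟨x₀⟩, hPa⟩
    · obtain ⟨Z, i, hi, hri⟩ := exists_closed_compl U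
      haveI : IsAffine (U : Scheme.{u}) := haff U hU
      haveI : CompactSpace (U : Scheme.{u}) := inferInstance
      have hrj : Set.range U.ι = (Set.range i)ᶜ := by
        rw [hri, compl_compl]
        exact Scheme.Opens.range_ι U
      rcases h3 a i U.ι hrj hPa with h | h
      · exact ⟨U, U.ι ≫ a, haff U hU, ⟨⟨x₀, hx₀⟩⟩, h⟩
      · haveI : CompactSpace Z := QuasiCompact.compactSpace_of_compactSpace i
        haveI : QuasiSeparatedSpace Z := quasiSeparatedSpace_of_quasiSeparated i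
        refine ih Z (i ≫ a) ((𝒰.erase U).image (fun U' => i ⁻¹ᵁ U')) ?_ ?_ ?_ ?_ h
        · refine Finset.card_image_le.trans ?_
          rw [Finset.card_erase_of_mem hU]
          omega
        · intro V hV
          rw [Finset.mem_image] at hV
          obtain ⟨U', hU', rfl⟩ := hV
          exact (haff U' (Finset.mem_of_mem_erase hU')).preimage i
        · intro z
          obtain ⟨U', hU', hz⟩ := hcov (i z)
          have hne : U' ≠ U := by
            rintro rfl
            have : i z ∈ (U' : Set T')ᶜ := hri ▸ Set.mem_range_self z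
            exact this hz
          exact ⟨i ⁻¹ᵁ U', Finset.mem_image.mpr ⟨U', Finset.mem_erase.mpr ⟨hne, hU'⟩, rfl⟩, hz⟩
        · have : ((U : Set T')ᶜ).Nonempty := by
            rw [Set.nonempty_compl]
            intro h
            apply hUtop
            ext1
            exact h
          obtain ⟨y, hy⟩ := this
          rw [← hri] at hy
          obtain ⟨z, -⟩ := hy
          exact ⟨z⟩

end affine

section zorn

/-- The closed immersion `Spec (B ⧸ I) ⟶ Spec B`. -/
noncomputable abbrev q {B : Type u} [CommRing B] (I : Ideal B) :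
    Spec (CommRingCat.of (B ⧸ I)) ⟶ Spec (CommRingCat.of B) :=
  Spec.map (CommRingCat.ofHom (Ideal.Quotient.mk I))

instance {B : Type u} [CommRing B] (I : Ideal B) : IsClosedImmersion (q I) :=
  IsClosedImmersion.spec_of_surjective _ Ideal.Quotient.mk_surjective

/-- The closed immersion `Spec (B ⧸ J) ⟶ Spec (B ⧸ I)` for `I ≤ J`. -/
noncomputable abbrev qf {B : Type u} [CommRing B] {I J : Ideal B} (h : I ≤ J) :
    Spec (CommRingCat.of (B ⧸ J)) ⟶ Spec (CommRingCat.of (B ⧸ I)) :=
  Spec.map (CommRingCat.ofHom (Ideal.Quotient.factor h))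

instance {B : Type u} [CommRing B] {I J : Ideal B} (h : I ≤ J) : IsClosedImmersion (qf h) :=
  IsClosedImmersion.spec_of_surjective _ (Ideal.Quotient.factor_surjective h)

lemma qf_q {B : Type u} [CommRing B] {I J : Ideal B} (h : I ≤ J) : qf h ≫ q I = q J := by
  show Spec.map _ ≫ Spec.map _ = Spec.map _
  rw [← Spec.map_comp]
  congr 1

lemma surjective_qf {B : Type u} [CommRing B] {I J : Ideal B} (h : I ≤ J) (hJ : J ≤ I.radical) :
    Surjective (qf h) := by
  apply surjective_specMap _ (Ideal.Quotient.factor_surjective h)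
  intro x hx
  change B ⧸ I at x
  obtain ⟨b, rfl⟩ := Ideal.Quotient.mk_surjective x
  have hb : b ∈ J := by
    have : Ideal.Quotient.mk J b = 0 := hx
    exact Ideal.Quotient.eq_zero_iff_mem.mp this
  obtain ⟨n, hn⟩ := hJ hb
  refine ⟨n, ?_⟩
  rw [← map_pow]
  exact Ideal.Quotient.eq_zero_iff_mem.mpr hn

variable (h1 : ∀ ⦃T' T'' : Scheme.{u}⦄ (a : T' ⟶ T) (t : T'' ⟶ T') [IsClosedImmersion t]
      [Surjective t] [CompactSpace T'] [QuasiSeparatedSpace T'] [CompactSpace T'']
      [QuasiSeparatedSpace T''], P (t ≫ a) ↔ P a)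
  (h2 : ∀ ⦃I : Type u⦄ [SmallCategory I] [IsCofiltered I] (D : I ⥤ Over T) (c : Limits.Cone D)
      (_ : Limits.IsLimit c),
      (∀ (i j : I) (m : i ⟶ j), IsAffineHom (D.map m).left) →
      (∀ i, CompactSpace (D.obj i).left ∧ QuasiSeparatedSpace (D.obj i).left) →
      (∀ i, P (D.obj i).hom) → P c.pt.hom)

include h2 in
lemma P_sSup {B : Type u} [CommRing B] (a : Spec (CommRingCat.of B) ⟶ T) (c : Set (Ideal B))
    (hdir : DirectedOn (· ≤ ·) c) (hne : c.Nonempty) (hP : ∀ I ∈ c, P (q I ≫ a)) :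
    P (q (sSup c) ≫ a) := by
  haveI := isFiltered_of_directedOn hdir hne
  let σ : (chainDiagram c).op ⋙ Scheme.Spec ⟶ (Functor.const (↥c)ᵒᵖ).obj T :=
    { app := fun I => q I.unop.1 ≫ a
      naturality := by
        intro I I' f
        show qf (leOfHom f.unop) ≫ q I'.unop.1 ≫ a = (q I.unop.1 ≫ a) ≫ 𝟙 _
        rw [Category.comp_id, ← Category.assoc, qf_q] }
  refine P_of_isLimit T P h2 ((chainDiagram c).op ⋙ Scheme.Spec) σ
    (Scheme.Spec.mapCone (chainCocone c).op)
    (isLimitOfPreserves Scheme.Spec (chainIsColimit hdir hne).op) _ ?_ ?_ ?_ ?_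
  · intro I
    show qf (le_sSup I.unop.2) ≫ q I.unop.1 ≫ a = _
    rw [← Category.assoc, qf_q]
  · intro I I' f
    show IsAffineHom (Spec.map _)
    infer_instance
  · intro I
    exact ⟨(inferInstance : CompactSpace (Spec _)), (inferInstance : QuasiSeparatedSpace (Spec _))⟩
  · intro I
    exact hP _ I.unop.2

include h1 h2 in
lemma exists_maximal_ideal (B : Type u) [CommRing B] [Nontrivial B]
    (a : Spec (CommRingCat.of B) ⟶ T) (hPa : P a) :
    ∃ I : Ideal B, I ≠ ⊤ ∧ P (q I ≫ a) ∧ ∀ J : Ideal B, I ≤ J → J ≠ ⊤ → P (q J ≫ a) → J = I := by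
  let S : Set (Ideal B) := {I | I ≠ ⊤ ∧ P (q I ≫ a)}
  have hbot : ⊥ ∈ S := by
    refine ⟨bot_ne_top, ?_⟩
    haveI : Surjective (q (⊥ : Ideal B)) := by
      apply surjective_specMap _ Ideal.Quotient.mk_surjective
      intro x hx
      have hx' : x ∈ RingHom.ker (Ideal.Quotient.mk (⊥ : Ideal B)) := hx
      rw [Ideal.mk_ker] at hx'
      rw [Ideal.mem_bot.mp hx']
      exact (nilradical B).zero_mem
    exact (h1 a (q ⊥)).mpr hPa
  have hub : ∀ c ⊆ S, IsChain (· ≤ ·) c → ∀ y ∈ c, ∃ ub ∈ S, ∀ z ∈ c, z ≤ ub := by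
    intro c hcS hchain y hy
    refine ⟨sSup c, ⟨?_, ?_⟩, fun z hz => le_sSup hz⟩
    · intro htop
      have h1' : (1 : B) ∈ sSup c := htop ▸ Submodule.mem_top
      obtain ⟨I', hI', h1''⟩ := (Submodule.mem_sSup_of_directed ⟨y, hy⟩ hchain.directedOn).mp h1'
      exact (hcS hI').1 ((Ideal.eq_top_iff_one _).mpr h1'')
    · exact P_sSup T P h2 a c hchain.directedOn ⟨y, hy⟩ (fun I hI => (hcS hI).2)
  obtain ⟨I, -, hI⟩ := zorn_le_nonempty₀ S hub ⊥ hbot
  exact ⟨I, hI.prop.1, hI.prop.2, fun J hIJ hJ hPJ => (hI.eq_of_le ⟨hJ, hPJ⟩ hIJ).symm⟩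

end zorn

section main
variable (h1 : ∀ ⦃T' T'' : Scheme.{u}⦄ (a : T' ⟶ T) (t : T'' ⟶ T') [IsClosedImmersion t]
      [Surjective t] [CompactSpace T'] [QuasiSeparatedSpace T'] [CompactSpace T'']
      [QuasiSeparatedSpace T''], P (t ≫ a) ↔ P a)
  (h2 : ∀ ⦃I : Type u⦄ [SmallCategory I] [IsCofiltered I] (D : I ⥤ Over T) (c : Limits.Cone D)
      (_ : Limits.IsLimit c),
      (∀ (i j : I) (m : i ⟶ j), IsAffineHom (D.map m).left) →
      (∀ i, CompactSpace (D.obj i).left ∧ QuasiSeparatedSpace (D.obj i).left) →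
      (∀ i, P (D.obj i).hom) → P c.pt.hom)
  (h3 : ∀ ⦃T' Z V : Scheme.{u}⦄ (a : T' ⟶ T) [CompactSpace T'] [QuasiSeparatedSpace T']
      (i : Z ⟶ T') [IsClosedImmersion i] (j : V ⟶ T') [IsOpenImmersion j] [CompactSpace V],
      Set.range j = (Set.range i)ᶜ → P a → P (j ≫ a) ∨ P (i ≫ a))

lemma isIso_specMap_of_bijective {R R' : CommRingCat.{u}} (φ : R ⟶ R')
    (hφ : Function.Bijective φ.hom) : IsIso (Spec.map φ) := by
  haveI : IsIso φ := (ConcreteCategory.isIso_iff_bijective φ).mpr hφ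
  infer_instance

include h1 in
/-- Scheme-level maximality. -/
lemma isIso_of_maximal {B : Type u} [CommRing B] (a : Spec (CommRingCat.of B) ⟶ T)
    (I₁ : Ideal B) (hmax : ∀ J : Ideal B, I₁ ≤ J → J ≠ ⊤ → P (q J ≫ a) → J = I₁)
    {Z : Scheme.{u}} (i : Z ⟶ Spec (CommRingCat.of (B ⧸ I₁))) [IsClosedImmersion i] [Nonempty Z]
    (hPi : P (i ≫ q I₁ ≫ a)) : IsIso i := by
  obtain ⟨J, e, rfl⟩ := IsClosedImmersion.Spec_iff.mp (inferInstance : IsClosedImmersion i)
  change Ideal (B ⧸ I₁) at J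
  let J' : Ideal B := J.comap (Ideal.Quotient.mk I₁)
  have hIJ' : I₁ ≤ J' := by
    intro b hb
    show Ideal.Quotient.mk I₁ b ∈ J
    rw [Ideal.Quotient.eq_zero_iff_mem.mpr hb]
    exact J.zero_mem
  have hJ'top : J' ≠ ⊤ := by
    intro htop
    have hJ : J = ⊤ := by
      rw [Ideal.eq_top_iff_one]
      have : (1 : B) ∈ J' := htop ▸ Submodule.mem_top
      have h : Ideal.Quotient.mk I₁ 1 ∈ J := this
      rwa [map_one] at h
    obtain ⟨z⟩ := ‹Nonempty Z›
    have hsub : Subsingleton ((B ⧸ I₁) ⧸ J) := Ideal.Quotient.subsingleton_iff.mpr hJ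
    have x : PrimeSpectrum ((B ⧸ I₁) ⧸ J) := e.hom z
    exact x.isPrime.ne_top (Subsingleton.elim _ _)
  let ψ : B ⧸ J' →+* (B ⧸ I₁) ⧸ J := Ideal.quotientMap J (Ideal.Quotient.mk I₁) le_rfl
  have hψ : Function.Bijective ψ :=
    ⟨Ideal.quotientMap_injective, Ideal.quotientMap_surjective Ideal.Quotient.mk_surjective⟩
  haveI : IsIso (Spec.map (CommRingCat.ofHom ψ)) := isIso_specMap_of_bijective _ hψ
  have hcomm : q J ≫ q I₁ = Spec.map (CommRingCat.ofHom ψ) ≫ q J' := by
    show Spec.map _ ≫ Spec.map _ = Spec.map _ ≫ Spec.map _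
    rw [← Spec.map_comp, ← Spec.map_comp]
    congr 1
  have hP' : P (q J' ≫ a) := by
    have h3' : (e.hom ≫ q J) ≫ q I₁ ≫ a = (e.hom ≫ Spec.map (CommRingCat.ofHom ψ)) ≫ q J' ≫ a := by
      rw [Category.assoc, ← Category.assoc (q J), hcomm, Category.assoc, Category.assoc]
    rw [h3'] at hPi
    haveI : CompactSpace Z := by
      have := (e.hom.homeomorph).symm.compactSpace
      exact this
    haveI : QuasiSeparatedSpace Z := by
      have : IsAffine Z := .of_isIso e.hom
      infer_instance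
    exact (iso_inv T P h1 (q J' ≫ a) (e.hom ≫ Spec.map (CommRingCat.ofHom ψ))).mp hPi
  have hJ'eq : J' = I₁ := hmax J' hIJ' hJ'top hP'
  have hJbot : J = ⊥ := by
    have h4 : J = J'.map (Ideal.Quotient.mk I₁) :=
      (Ideal.map_comap_of_surjective _ Ideal.Quotient.mk_surjective J).symm
    rw [h4, hJ'eq, Ideal.map_quotient_self]
  subst hJbot
  haveI : IsIso (q (⊥ : Ideal (B ⧸ I₁))) := by
    apply isIso_specMap_of_bijective
    refine ⟨?_, Ideal.Quotient.mk_surjective⟩
    rw [injective_iff_map_eq_zero]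
    intro x hx
    exact Ideal.mem_bot.mp (Ideal.Quotient.eq_zero_iff_mem.mp hx)
  infer_instance

open Groth.Agent.Lib.Helper26.StalkLim in
include h1 h2 h3 in
theorem main [CompactSpace T] [QuasiSeparatedSpace T] [Nonempty T] (hT : P (𝟙 T)) :
    ∃ (K : Type u) (_ : Field K) (t : Spec (CommRingCat.of K) ⟶ T), P t := by
  classical
  -- Step A: an affine nonempty scheme with `P`
  obtain ⟨W, w, hWaff, hWne, hPw⟩ :
      ∃ (W : Scheme.{u}) (w : W ⟶ T), IsAffine W ∧ Nonempty W ∧ P w := by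
    have hU : ∀ x : T, ∃ U : T.Opens, IsAffineOpen U ∧ x ∈ U := fun x => by
      obtain ⟨U, hU, hx, -⟩ := TopologicalSpace.Opens.isBasis_iff_nbhd.mp T.isBasis_affineOpens
        (show x ∈ (⊤ : T.Opens) from trivial)
      exact ⟨U, hU, hx⟩
    choose U hUaff hxU using hU
    obtain ⟨t, ht⟩ := isCompact_univ.elim_finite_subcover (fun x => (U x : Set T))
      (fun x => (U x).isOpen) (fun x _ => Set.mem_iUnion.mpr ⟨x, hxU x⟩)
    refine exists_affine T P h3 (t.image U).card T (𝟙 T) (t.image U) le_rfl ?_ ?_ inferInstance hT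
    · intro V hV
      obtain ⟨x, -, rfl⟩ := Finset.mem_image.mp hV
      exact hUaff x
    · intro x
      obtain ⟨y, hy⟩ := Set.mem_iUnion.mp (ht (Set.mem_univ x))
      obtain ⟨hyt, hxy⟩ := Set.mem_iUnion.mp hy
      exact ⟨U y, Finset.mem_image.mpr ⟨y, hyt, rfl⟩, hxy⟩
  -- transfer to `Spec B`
  let a : Spec (CommRingCat.of Γ(W, ⊤)) ⟶ T := W.isoSpec.inv ≫ w
  have hPa : P a := (iso_inv T P h1 w W.isoSpec.inv).mpr hPw
  haveI : Nontrivial Γ(W, ⊤) := by
    obtain ⟨z⟩ := hWne
    exact PrimeSpectrum.nonempty_iff_nontrivial.mp ⟨W.isoSpec.hom z⟩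
  -- Step C: Zorn
  obtain ⟨I₁, hI₁top, hPI₁, hmax⟩ := exists_maximal_ideal T P h1 h2 Γ(W, ⊤) a hPa
  have hrad : I₁.radical = I₁ := by
    refine hmax I₁.radical Ideal.le_radical (fun h => hI₁top (Ideal.radical_eq_top.mp h)) ?_
    haveI : Surjective (qf (Ideal.le_radical : I₁ ≤ I₁.radical)) := surjective_qf _ le_rfl
    rw [← qf_q (Ideal.le_radical : I₁ ≤ I₁.radical), Category.assoc]
    exact (h1 (q I₁ ≫ a) (qf Ideal.le_radical)).mpr hPI₁
  haveI : _root_.IsReduced (Γ(W, ⊤) ⧸ I₁) :=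
    (Ideal.isRadical_iff_quotient_reduced I₁).mp (Ideal.radical_eq_iff.mp hrad)
  haveI : Nontrivial (Γ(W, ⊤) ⧸ I₁) := Ideal.Quotient.nontrivial_iff.mpr hI₁top
  let X₁ : Scheme.{u} := Spec (CommRingCat.of (Γ(W, ⊤) ⧸ I₁))
  let a₁ : X₁ ⟶ T := q I₁ ≫ a
  haveI : IsReduced X₁ := inferInstance
  obtain ⟨x₀⟩ : Nonempty X₁ := inferInstance
  -- generic point
  let x : X₁ := (isIrreducible_irreducibleComponent (x := x₀)).genericPoint
  have hx : closure {x} = irreducibleComponent x₀ :=
    (isIrreducible_irreducibleComponent (x := x₀)).closure_genericPoint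
      isClosed_irreducibleComponent
  have hxmem : closure {x} ∈ irreducibleComponents X₁ :=
    hx ▸ irreducibleComponent_mem_irreducibleComponents x₀
  have hfield := isField_stalk_of_closure_mem_irreducibleComponents X₁ x hxmem
  -- `P` for affine open neighbourhoods of `x`
  have hPnhd : ∀ i : (AffNhd x)ᵒᵖ, P (toX x i ≫ a₁) := by
    intro i
    by_cases htop : i.unop.U = ⊤
    · haveI : IsIso (toX x i) :=
        isIso_of_isOpenImmersion_of_opensRange_eq_top _ ((opensRange_toX x i).trans htop)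
      haveI : CompactSpace ((specDiagram x).obj i) := (inferInstance : CompactSpace (Spec _))
      haveI : QuasiSeparatedSpace ((specDiagram x).obj i) :=
        (inferInstance : QuasiSeparatedSpace (Spec _))
      exact (iso_inv T P h1 a₁ (toX x i)).mpr hPI₁
    · obtain ⟨Z, iz, hiz, hriz⟩ := exists_closed_compl i.unop.U
      haveI : CompactSpace ((specDiagram x).obj i) := (inferInstance : CompactSpace (Spec _))
      have hrj : Set.range (toX x i) = (Set.range iz)ᶜ := by
        rw [hriz, compl_compl]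
        exact range_toX x i
      rcases h3 a₁ iz (toX x i) hrj hPI₁ with h | h
      · exact h
      · exfalso
        haveI : Nonempty Z := by
          have : ((i.unop.U : Set X₁)ᶜ).Nonempty := by
            rw [Set.nonempty_compl]
            intro h'
            apply htop
            ext1
            exact h'
          obtain ⟨y, hy⟩ := this
          rw [← hriz] at hy
          obtain ⟨z, -⟩ := hy
          exact ⟨z⟩
        haveI : IsIso iz := isIso_of_maximal T P h1 a I₁ hmax iz h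
        have hsurj : Function.Surjective iz := by
          have := (iz.homeomorph).surjective
          exact this
        obtain ⟨z, hz⟩ := hsurj x
        have : x ∈ (i.unop.U : Set X₁)ᶜ := hriz ▸ ⟨z, hz⟩
        exact this i.unop.mem
  -- the limit
  let σ : specDiagram x ⟶ (Functor.const (AffNhd x)ᵒᵖ).obj T :=
    { app := fun i => toX x i ≫ a₁
      naturality := by
        intro i j f
        show (specDiagram x).map f ≫ toX x j ≫ a₁ = (toX x i ≫ a₁) ≫ 𝟙 _
        rw [Category.comp_id, map_toX_assoc] }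
  have hPstalk : P (X₁.fromSpecStalk x ≫ a₁) := by
    refine P_of_isLimit T P h2 (specDiagram x) σ (specCone x) (specIsLimit x) _ ?_ ?_ ?_ hPnhd
    · intro i
      show (specCone x).π.app i ≫ toX x i ≫ a₁ = _
      rw [π_toX_assoc]
      rfl
    · intro i j m
      infer_instance
    · intro i
      exact ⟨(inferInstance : CompactSpace (Spec _)), (inferInstance : QuasiSeparatedSpace (Spec _))⟩
  exact ⟨X₁.presheaf.stalk x, hfield.toField, X₁.fromSpecStalk x ≫ a₁, hPstalk⟩

end main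

end Groth.Agent.Lib.T2H3.FieldPoint
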