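import Mathlib

/-!
# Additivity of the trace in short exact sequences, and the trace on `R ⧸ (t ^ e)` (helper3, team 2)
-/

set_option autoImplicit false
universe u

namespace Groth.Agent.Lib.T2H3.FiltTrace

open Module

section Block

variable {R V : Type*} [CommRing R] [AddCommGroup V]
    [Module R V] [Module.Finite R V]
    (W : Submodule R V) [Module.Free R W] [Module.Finite R W] [Module.Free R (V ⧸ W)]

open Module.Basis in
theorem trace_eq_trace_restrict_add_trace_mapQ (e : V →ₗ[R] V) (he : W ≤ W.comap e) :
    LinearMap.trace R V e =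
      LinearMap.trace R W (e.restrict he) + LinearMap.trace R (V ⧸ W) (W.mapQ W e he) := by
  classical
  let m := Module.Free.ChooseBasisIndex R W
  let bW : Basis m R W := Module.Free.chooseBasis R W
  let n := Module.Free.ChooseBasisIndex R (V ⧸ W)
  let bQ : Basis n R (V ⧸ W) := Module.Free.chooseBasis R (V ⧸ W)
  let b := sumQuot bW bQ
  let A : Matrix m m R := LinearMap.toMatrix bW bW (e.restrict he)
  let B : Matrix m n R := Matrix.of fun i l ↦
    ((sumQuot bW bQ).repr (e ((sumQuot bW bQ) (Sum.inr l)))) (Sum.inl i)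
  let D : Matrix n n R := LinearMap.toMatrix bQ bQ (W.mapQ W e he)
  have key : LinearMap.toMatrix b b e = Matrix.fromBlocks A B 0 D := by
    ext u v
    cases u with
    | inl i =>
      cases v with
      | inl k =>
        simp only [b, sumQuot_inl, Matrix.fromBlocks_apply₁₁, A, LinearMap.toMatrix_apply]
        apply sumQuot_repr_inl_of_mem
      | inr l => simp [b, LinearMap.toMatrix_apply, Matrix.fromBlocks_apply₁₂, B]
    | inr j =>
      cases v with
      | inl k =>
        suffices W.mkQ (e (bW k)) = 0 by simp [LinearMap.toMatrix_apply, b, this]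
        rw [← LinearMap.mem_ker, Submodule.ker_mkQ]
        exact he (Submodule.coe_mem (bW k))
      | inr l =>
        simp only [LinearMap.toMatrix_apply, sumQuot_repr_inr,
          Matrix.fromBlocks_apply₂₂, b, D]
        rw [← sumQuot_inr bW bQ l, W.mapQ_apply]
        simp
  rw [LinearMap.trace_eq_matrix_trace R b, key, LinearMap.trace_eq_matrix_trace R bW,
    LinearMap.trace_eq_matrix_trace R bQ]
  simp only [Matrix.trace, Matrix.diag, Fintype.sum_sum_type, Matrix.fromBlocks_apply₁₁,
    Matrix.fromBlocks_apply₂₂]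
  rfl

end Block

section Exact

variable {κ V' V V'' : Type*} [Field κ] [AddCommGroup V'] [AddCommGroup V] [AddCommGroup V'']
  [Module κ V'] [Module κ V] [Module κ V''] [FiniteDimensional κ V]

/-- The trace is additive in short exact sequences of vector spaces with endomorphisms. -/
theorem trace_eq_add_of_exact (i : V' →ₗ[κ] V) (q : V →ₗ[κ] V'')
    (hi : Function.Injective i) (hq : Function.Surjective q) (hex : Function.Exact i q)
    (f' : V' →ₗ[κ] V') (f : V →ₗ[κ] V) (f'' : V'' →ₗ[κ] V'')
    (h1 : ∀ v, i (f' v) = f (i v)) (h2 : ∀ v, q (f v) = f'' (q v)) :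
    LinearMap.trace κ V f = LinearMap.trace κ V' f' + LinearMap.trace κ V'' f'' := by
  let W : Submodule κ V := LinearMap.range i
  have he : W ≤ W.comap f := by
    rintro _ ⟨y, rfl⟩
    exact ⟨f' y, h1 y⟩
  rw [trace_eq_trace_restrict_add_trace_mapQ W f he]
  congr 1
  · -- the sub
    let e1 : V' ≃ₗ[κ] W := LinearEquiv.ofInjective i hi
    rw [← LinearMap.trace_conj' f' e1]
    congr 1
    apply LinearMap.ext
    intro w
    obtain ⟨y, hy⟩ := w.2
    have hw : w = e1 y := Subtype.ext hy.symm
    rw [hw, LinearEquiv.conj_apply_apply, LinearEquiv.symm_apply_apply]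
    apply Subtype.ext
    show f (i y) = i (f' y)
    exact (h1 y).symm
  · -- the quotient
    have hker : LinearMap.ker q = W := (LinearMap.exact_iff.mp hex)
    let e2 : (V ⧸ W) ≃ₗ[κ] V'' :=
      (Submodule.quotEquivOfEq W (LinearMap.ker q) hker.symm).trans (q.quotKerEquivOfSurjective hq)
    have he2 : ∀ v : V, e2 (Submodule.Quotient.mk v) = q v := fun v => rfl
    rw [← LinearMap.trace_conj' (W.mapQ W f he) e2]
    congr 1
    apply LinearMap.ext
    intro v''
    obtain ⟨v, rfl⟩ := hq v''
    rw [← he2 v, LinearEquiv.conj_apply_apply, LinearEquiv.symm_apply_apply, Submodule.mapQ_apply, he2,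
      he2, h2]

end Exact

end Groth.Agent.Lib.T2H3.FiltTrace
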