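import Mathlib
import Groth.Agent.Lib.T2H3FiltTrace

/-!
# The trace on `R ⧸ (t ^ e)` (helper3, team 2)
-/

set_option autoImplicit false
universe u

namespace Groth.Agent.Lib.T2H3.FiltTrace

open Module

section Pow

variable (κ : Type*) {R : Type*} [Field κ] [CommRing R] [Algebra κ R] [FiniteDimensional κ R] (t : R)

theorem finite_quot (I : Ideal R) : Module.Finite κ (R ⧸ I) :=
  Module.Finite.of_surjective (Ideal.Quotient.mkₐ κ I).toLinearMap (Ideal.Quotient.mkₐ_surjective κ I)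

theorem trace_quot_succ (x : R) (j : ℕ)
    (hinj : ∀ r : R, t * r ∈ Ideal.span {t ^ (j + 1)} → r ∈ Ideal.span {t ^ j}) :
    Algebra.trace κ (R ⧸ Ideal.span {t ^ (j + 1)}) (Ideal.Quotient.mk _ x) =
      Algebra.trace κ (R ⧸ Ideal.span {t ^ j}) (Ideal.Quotient.mk _ x) +
        Algebra.trace κ (R ⧸ Ideal.span {t ^ 1}) (Ideal.Quotient.mk _ x) := by
  have hf0 := finite_quot κ (Ideal.span {t ^ (j + 1)})
  have hle : (Ideal.span {t ^ j} : Submodule R R) ≤
      Submodule.comap (LinearMap.mulLeft R t) (Ideal.span {t ^ (j + 1)}) := by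
    intro r hr
    obtain ⟨s, rfl⟩ := Ideal.mem_span_singleton'.mp hr
    rw [Submodule.mem_comap, LinearMap.mulLeft_apply]
    exact Ideal.mem_span_singleton'.mpr ⟨s, by ring⟩
  have hle' : (Ideal.span {t ^ (j + 1)} : Submodule R R) ≤
      Submodule.comap (LinearMap.id : R →ₗ[R] R) (Ideal.span {t ^ 1}) := by
    intro r hr
    obtain ⟨s, rfl⟩ := Ideal.mem_span_singleton'.mp hr
    rw [Submodule.mem_comap, LinearMap.id_apply]
    exact Ideal.mem_span_singleton'.mpr ⟨s * t ^ j, by ring⟩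
  let iR : (R ⧸ Ideal.span {t ^ j}) →ₗ[R] (R ⧸ Ideal.span {t ^ (j + 1)}) :=
    Submodule.mapQ _ _ (LinearMap.mulLeft R t) hle
  let qR : (R ⧸ Ideal.span {t ^ (j + 1)}) →ₗ[R] (R ⧸ Ideal.span {t ^ 1}) :=
    Submodule.mapQ _ _ LinearMap.id hle'
  have hiR : ∀ r : R, iR (Ideal.Quotient.mk _ r) = Ideal.Quotient.mk _ (t * r) := fun r => rfl
  have hqR : ∀ r : R, qR (Ideal.Quotient.mk _ r) = Ideal.Quotient.mk _ r := fun r => rfl
  rw [Algebra.trace_apply, Algebra.trace_apply, Algebra.trace_apply]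
  refine trace_eq_add_of_exact (iR.restrictScalars κ) (qR.restrictScalars κ) ?_ ?_ ?_ _ _ _ ?_ ?_
  · -- injective
    rw [← LinearMap.ker_eq_bot, LinearMap.ker_eq_bot']
    intro y hy
    obtain ⟨r, rfl⟩ := Ideal.Quotient.mk_surjective y
    rw [LinearMap.restrictScalars_apply, hiR, Ideal.Quotient.eq_zero_iff_mem] at hy
    exact Ideal.Quotient.eq_zero_iff_mem.mpr (hinj r hy)
  · -- surjective
    intro y
    obtain ⟨r, rfl⟩ := Ideal.Quotient.mk_surjective y
    exact ⟨Ideal.Quotient.mk _ r, hqR r⟩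
  · -- exact
    intro y
    obtain ⟨r, rfl⟩ := Ideal.Quotient.mk_surjective y
    rw [LinearMap.restrictScalars_apply, hqR, Ideal.Quotient.eq_zero_iff_mem]
    constructor
    · intro hr
      obtain ⟨s, rfl⟩ := Ideal.mem_span_singleton'.mp hr
      refine ⟨Ideal.Quotient.mk _ s, ?_⟩
      rw [LinearMap.restrictScalars_apply, hiR]
      congr 1
      ring
    · rintro ⟨z, hz⟩
      obtain ⟨s, rfl⟩ := Ideal.Quotient.mk_surjective z
      rw [LinearMap.restrictScalars_apply, hiR, Ideal.Quotient.eq] at hz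
      have h3 : t * s - r ∈ Ideal.span {t ^ 1} := hle' hz
      have h4 : t * s ∈ Ideal.span {t ^ 1} := Ideal.mem_span_singleton'.mpr ⟨s, by ring⟩
      have h5 := Ideal.sub_mem _ h4 h3
      rwa [sub_sub_cancel] at h5
  · -- compatibility with `i`
    intro v
    obtain ⟨r, rfl⟩ := Ideal.Quotient.mk_surjective v
    show iR (Ideal.Quotient.mk _ x * Ideal.Quotient.mk _ r) =
      Ideal.Quotient.mk _ x * iR (Ideal.Quotient.mk _ r)
    rw [hiR, ← map_mul, ← map_mul, hiR]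
    congr 1
    ring
  · -- compatibility with `q`
    intro v
    obtain ⟨r, rfl⟩ := Ideal.Quotient.mk_surjective v
    show qR (Ideal.Quotient.mk _ x * Ideal.Quotient.mk _ r) =
      Ideal.Quotient.mk _ x * qR (Ideal.Quotient.mk _ r)
    rw [hqR, ← map_mul, ← map_mul, hqR]

theorem trace_quot_pow (x : R) (e : ℕ)
    (hinj : ∀ j < e, ∀ r : R, t * r ∈ Ideal.span {t ^ (j + 1)} → r ∈ Ideal.span {t ^ j}) :
    ∀ j ≤ e, Algebra.trace κ (R ⧸ Ideal.span {t ^ j}) (Ideal.Quotient.mk _ x) =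
      j • Algebra.trace κ (R ⧸ Ideal.span {t ^ 1}) (Ideal.Quotient.mk _ x) := by
  intro j
  induction j with
  | zero =>
    intro _
    rw [zero_smul]
    have : Subsingleton (R ⧸ Ideal.span {t ^ 0}) := by
      rw [pow_zero, Ideal.span_singleton_one]
      exact Ideal.Quotient.subsingleton_iff.mpr rfl
    rw [Subsingleton.elim (Ideal.Quotient.mk (Ideal.span {t ^ 0}) x) 0, map_zero]
  | succ j ih =>
    intro hj
    rw [trace_quot_succ κ t x j (hinj j hj), ih (Nat.le_of_succ_le hj), succ_nsmul]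

/-- The trace on `R` when `t ^ e = 0`. -/
theorem trace_eq_smul_of_pow_eq_zero (x : R) (e : ℕ) (ht : t ^ e = 0)
    (hinj : ∀ j < e, ∀ r : R, t * r ∈ Ideal.span {t ^ (j + 1)} → r ∈ Ideal.span {t ^ j}) :
    Algebra.trace κ R x = e • Algebra.trace κ (R ⧸ Ideal.span {t ^ 1}) (Ideal.Quotient.mk _ x) := by
  rw [← trace_quot_pow κ t x e hinj e le_rfl]
  have hbot : Ideal.span {t ^ e} = ⊥ := by rw [ht]; exact Ideal.span_singleton_eq_bot.mpr rfl
  let E : (R ⧸ Ideal.span {t ^ e}) ≃ₐ[κ] R :=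
    (Ideal.quotientEquivAlgOfEq κ hbot).trans (AlgEquiv.quotientBot κ R)
  have hE : E (Ideal.Quotient.mk _ x) = x := rfl
  rw [← Algebra.trace_eq_of_algEquiv E, hE]

end Pow

end Groth.Agent.Lib.T2H3.FiltTrace
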