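import Mathlib

/-!
# Maps from finitely presented algebras into "directed unions" factor through a stage
(helper3, team 2)
-/

set_option autoImplicit false
universe u v

namespace Groth.Agent.Lib.T2H3.FpFactor

variable {A : Type u} [CommRing A] {S : Type u} [CommRing S] [Algebra A S] {J : Type v}
  (T : J → Type u) [∀ j, CommRing (T j)] [∀ j, Algebra A (T j)] (ι : ∀ j, T j →ₐ[A] S)

/-- finitely many elements come from a common stage -/
theorem exists_stage_fin [Nonempty J]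
    (hdir : ∀ j₁ j₂, ∃ (j : J) (f₁ : T j₁ →ₐ[A] T j) (f₂ : T j₂ →ₐ[A] T j),
      (ι j).comp f₁ = ι j₁ ∧ (ι j).comp f₂ = ι j₂)
    (hcov : ∀ x : S, ∃ (j : J) (y : T j), ι j y = x) :
    ∀ (m : ℕ) (x : Fin m → S), ∃ (j : J) (y : Fin m → T j), ∀ k, ι j (y k) = x k := by
  intro m
  induction m with
  | zero =>
    intro x
    obtain ⟨j⟩ := ‹Nonempty J›
    exact ⟨j, fun k => k.elim0, fun k => k.elim0⟩
  | succ m ih =>
    intro x
    obtain ⟨j₁, y₁, h₁⟩ := ih (fun k => x k.succ)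
    obtain ⟨j₂, y₂, h₂⟩ := hcov (x 0)
    obtain ⟨j, f₁, f₂, hf₁, hf₂⟩ := hdir j₁ j₂
    refine ⟨j, Fin.cons (f₂ y₂) (fun k => f₁ (y₁ k)), fun k => ?_⟩
    refine Fin.cases ?_ (fun k => ?_) k
    · rw [Fin.cons_zero, ← h₂, ← hf₂]; rfl
    · rw [Fin.cons_succ, ← h₁, ← hf₁]; rfl

/-- finitely many elements dying in `S` die at a later stage -/
theorem exists_stage_zero {P : Type u} [CommRing P] [Algebra A P]
    (hzero : ∀ j (x : T j), ι j x = 0 → ∃ (j' : J) (f : T j →ₐ[A] T j'), (ι j').comp f = ι j ∧ f x = 0)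
    (G : Finset P) : ∀ j (ψ₀ : P →ₐ[A] T j), (∀ g ∈ G, ι j (ψ₀ g) = 0) →
      ∃ (j' : J) (f' : T j →ₐ[A] T j'), (ι j').comp f' = ι j ∧ ∀ g ∈ G, f' (ψ₀ g) = 0 := by
  classical
  induction G using Finset.induction_on with
  | empty =>
    intro j ψ₀ _
    exact ⟨j, AlgHom.id A _, AlgHom.comp_id _, fun g hg => absurd hg (Finset.notMem_empty g)⟩
  | insert a G ha ih =>
    intro j ψ₀ h
    obtain ⟨j₁, f₁, hf₁, hz₁⟩ := ih j ψ₀ (fun g hg => h g (Finset.mem_insert_of_mem hg))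
    have ha0 : ι j₁ (f₁ (ψ₀ a)) = 0 := by
      have := h a (Finset.mem_insert_self a G)
      rw [← hf₁] at this
      exact this
    obtain ⟨j₂, f₂, hf₂, hz₂⟩ := hzero j₁ _ ha0
    refine ⟨j₂, f₂.comp f₁, ?_, fun g hg => ?_⟩
    · rw [← AlgHom.comp_assoc, hf₂, hf₁]
    · rcases Finset.mem_insert.mp hg with rfl | hg
      · exact hz₂
      · rw [AlgHom.comp_apply, hz₁ g hg, map_zero]

/-- **Factorisation through a stage.**  An algebra map from a finitely presented algebra into a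
"directed union" `S` of algebras `T j` factors through some `T j`. -/
theorem exists_factor [Nonempty J]
    (hdir : ∀ j₁ j₂, ∃ (j : J) (f₁ : T j₁ →ₐ[A] T j) (f₂ : T j₂ →ₐ[A] T j),
      (ι j).comp f₁ = ι j₁ ∧ (ι j).comp f₂ = ι j₂)
    (hcov : ∀ x : S, ∃ (j : J) (y : T j), ι j y = x)
    (hzero : ∀ j (x : T j), ι j x = 0 → ∃ (j' : J) (f : T j →ₐ[A] T j'), (ι j').comp f = ι j ∧ f x = 0)
    (P : Type u) [CommRing P] [Algebra A P] [Algebra.FinitePresentation A P] (φ : P →ₐ[A] S) :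
    ∃ (j : J) (ψ : P →ₐ[A] T j), (ι j).comp ψ = φ := by
  classical
  obtain ⟨n, f, hf, hker⟩ := Algebra.FinitePresentation.out (R := A) (A := P)
  obtain ⟨G, hG⟩ := hker
  obtain ⟨j, y, hy⟩ := exists_stage_fin T ι hdir hcov n (fun k => φ (f (MvPolynomial.X k)))
  let ψ₀ : MvPolynomial (Fin n) A →ₐ[A] T j := MvPolynomial.aeval y
  have hψ₀ : (ι j).comp ψ₀ = φ.comp f := by
    apply MvPolynomial.algHom_ext
    intro k
    simp only [AlgHom.comp_apply, ψ₀, MvPolynomial.aeval_X]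
    exact hy k
  have hG0 : ∀ g ∈ G, ι j (ψ₀ g) = 0 := by
    intro g hg
    have hgk : g ∈ RingHom.ker f.toRingHom := by
      rw [← hG]; exact Ideal.subset_span hg
    have h1 : f g = 0 := hgk
    have := AlgHom.congr_fun hψ₀ g
    simp only [AlgHom.comp_apply] at this
    rw [this, h1, map_zero]
  obtain ⟨j', f', hf', hz⟩ := exists_stage_zero T ι hzero G j ψ₀ hG0
  have hle : RingHom.ker f.toRingHom ≤ RingHom.ker (f'.comp ψ₀).toRingHom := by
    rw [← hG, Ideal.span_le]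
    intro g hg
    exact hz g hg
  refine ⟨j', AlgHom.liftOfSurjective f hf (f'.comp ψ₀) hle, ?_⟩
  apply AlgHom.ext
  intro p
  obtain ⟨q, rfl⟩ := hf p
  rw [AlgHom.comp_apply, AlgHom.liftOfSurjective_apply, AlgHom.comp_apply]
  have h1 := AlgHom.congr_fun hf' (ψ₀ q)
  have h2 := AlgHom.congr_fun hψ₀ q
  simp only [AlgHom.comp_apply] at h1 h2
  rw [h1, h2]

end Groth.Agent.Lib.T2H3.FpFactor
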