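import Mathlib
import Groth.Agent.Lib.Helper1SchDense
import Groth.Agent.Lib.T2H3DensityExt

/-!
# A faithfully flat, quasi-compact, separated, schematically birational morphism is an
isomorphism (helper3, team 2)
-/

set_option autoImplicit false
set_option linter.style.haveILetI false
universe u

open AlgebraicGeometry CategoryTheory CategoryTheory.Limits TopologicalSpace MorphismProperty

namespace Groth.Agent.Lib.T2H3.FpqcBirat

variable {X S : Scheme.{u}}

/-- if `f` is flat and separated and restricts to an isomorphism from a scheme-theoretically dense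
retrocompact open `V` onto an open of the target, then the diagonal of `f` is an isomorphism. -/
theorem isIso_diagonal (f : X ⟶ S) [Flat f] [IsSeparated f] (U : S.Opens) (V : X.Opens)
    [QuasiCompact V.ι] [IsSchemeTheoreticallyDominant V.ι]
    (hle : V ≤ f ⁻¹ᵁ U) [IsIso (f.resLE U V hle)] : IsIso (pullback.diagonal f) := by
  set p₁ := pullback.fst f f with hp₁
  set p₂ := pullback.snd f f with hp₂
  -- `O' = p₂⁻¹(V)` is scheme-theoretically dense
  set O' : (pullback f f).Opens := p₂ ⁻¹ᵁ V with hO'
  haveI : IsSchemeTheoreticallyDominant O'.ι :=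
    IsSchemeTheoreticallyDominant.of_isPullback (isPullback_morphismRestrict p₂ V)
  -- `g : O' ⟶ X` is flat
  set g : O'.toScheme ⟶ X := O'.ι ≫ p₁ with hg
  haveI : Flat g := by rw [hg]; infer_instance
  haveI : IsSchemeTheoreticallyDominant (g ⁻¹ᵁ V).ι :=
    IsSchemeTheoreticallyDominant.of_isPullback (isPullback_morphismRestrict g V)
  set d : (g ⁻¹ᵁ V).toScheme ⟶ pullback f f := (g ⁻¹ᵁ V).ι ≫ O'.ι with hd
  haveI : IsSchemeTheoreticallyDominant d := by rw [hd]; infer_instance
  -- the two projections agree on `d`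
  have hq1 : d ≫ p₁ = (g ∣_ V) ≫ V.ι := by
    rw [hd, Category.assoc, morphismRestrict_ι]
  have hq2 : d ≫ p₂ = ((g ⁻¹ᵁ V).ι ≫ (p₂ ∣_ V)) ≫ V.ι := by
    rw [hd, Category.assoc, Category.assoc, morphismRestrict_ι]
  have hq : (g ∣_ V) = (g ⁻¹ᵁ V).ι ≫ (p₂ ∣_ V) := by
    rw [← cancel_mono (f.resLE U V hle ≫ U.ι)]
    rw [Scheme.Hom.resLE_comp_ι, ← Category.assoc, ← Category.assoc, ← hq1, ← hq2,
      Category.assoc, Category.assoc, hp₁, hp₂, pullback.condition]
    simp only [hd, Category.assoc]
  have hd12 : d ≫ p₁ = d ≫ p₂ := by rw [hq1, hq2, hq]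
  have hl : (d ≫ p₁) ≫ pullback.diagonal f = d := by
    apply pullback.hom_ext
    · rw [Category.assoc, pullback.diagonal_fst, Category.comp_id]
    · rw [Category.assoc, pullback.diagonal_snd, Category.comp_id]
      exact hd12
  exact Groth.Agent.Lib.T2H3.DensityExt.isIso_of_factors (pullback.diagonal f) d (d ≫ p₁) hl

/-- a faithfully flat, quasi-compact, separated morphism which restricts to an isomorphism from a
scheme-theoretically dense retrocompact open onto an open of the target is an isomorphism. -/
theorem isIso_of_fpqc (f : X ⟶ S) [Flat f] [Surjective f] [QuasiCompact f] [IsSeparated f]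
    (U : S.Opens) (V : X.Opens) [QuasiCompact V.ι] [IsSchemeTheoreticallyDominant V.ι]
    (hle : V ≤ f ⁻¹ᵁ U) [IsIso (f.resLE U V hle)] : IsIso f := by
  haveI := isIso_diagonal f U V hle
  have hfst : IsIso (pullback.fst f f) := by
    haveI : IsIso (pullback.diagonal f ≫ pullback.fst f f) := by
      rw [pullback.diagonal_fst]; infer_instance
    exact IsIso.of_isIso_comp_left (pullback.diagonal f) (pullback.fst f f)
  exact MorphismProperty.of_isPullback_of_descendsAlong (P := isomorphisms Scheme.{u})
    (Q := @Surjective ⊓ @Flat ⊓ @QuasiCompact) (IsPullback.of_hasPullback f f)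
    ⟨⟨inferInstance, inferInstance⟩, inferInstance⟩ hfst

end Groth.Agent.Lib.T2H3.FpqcBirat
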