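import Mathlib

/-!
# helper3 (team 2): lifting freeness along a nilpotent ideal for flat modules

`free_of_flat_of_isNilpotent`: if `J` is a nilpotent ideal of `A`, `M` is a flat `A`-module and
`(A ⧸ J) ⊗[A] M` is free over `A ⧸ J`, then `M` is free over `A` (no finiteness hypothesis).
-/

set_option autoImplicit false
set_option linter.style.haveILetI false
universe u v

open TensorProduct

namespace Groth.Agent.Lib.T2H3.NilFree

variable {A : Type u} [CommRing A] {M : Type v} [AddCommGroup M] [Module A M]

/-- nilpotent Nakayama: `N ⊔ J • ⊤ = ⊤` with `J` nilpotent forces `N = ⊤`. -/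
theorem eq_top_of_sup_smul_top_eq_top (J : Ideal A) (hJ : IsNilpotent J) (N : Submodule A M)
    (h : N ⊔ J • (⊤ : Submodule A M) = ⊤) : N = ⊤ := by
  obtain ⟨n, hn⟩ := hJ
  have key : ∀ k : ℕ, N ⊔ (J ^ k) • (⊤ : Submodule A M) = ⊤ := by
    intro k
    induction k with
    | zero => simp
    | succ k ih =>
      rw [eq_top_iff]
      calc (⊤ : Submodule A M) = N ⊔ J • (⊤ : Submodule A M) := h.symm
        _ = N ⊔ J • (N ⊔ (J ^ k) • (⊤ : Submodule A M)) := by rw [ih]
        _ = N ⊔ (J • N ⊔ J • ((J ^ k) • (⊤ : Submodule A M))) := by rw [Submodule.smul_sup]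
        _ ≤ N ⊔ (J ^ (k + 1)) • (⊤ : Submodule A M) := by
          refine sup_le le_sup_left (sup_le (le_sup_of_le_left Submodule.smul_le_right) ?_)
          rw [← Submodule.mul_smul, ← pow_succ']
          exact le_sup_right
  have := key n
  rw [hn, Ideal.zero_eq_bot, Submodule.bot_smul, sup_bot_eq] at this
  exact this

/-- a module with `J • ⊤ = ⊤` for a nilpotent ideal `J` is trivial. -/
theorem subsingleton_of_smul_top_eq_top (J : Ideal A) (hJ : IsNilpotent J)
    (h : J • (⊤ : Submodule A M) = ⊤) : Subsingleton M := by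
  have := eq_top_of_sup_smul_top_eq_top J hJ (⊥ : Submodule A M) (by rw [bot_sup_eq, h])
  exact (Submodule.subsingleton_iff A).mp (subsingleton_of_bot_eq_top this)

/-- a module whose reduction modulo a nilpotent ideal vanishes is trivial. -/
theorem subsingleton_of_subsingleton_tensor (J : Ideal A) (hJ : IsNilpotent J)
    [Subsingleton ((A ⧸ J) ⊗[A] M)] : Subsingleton M := by
  apply subsingleton_of_smul_top_eq_top J hJ
  rw [eq_top_iff]
  intro x _
  have h1 : (TensorProduct.quotTensorEquivQuotSMul M J) ((1 : A ⧸ J) ⊗ₜ[A] x) = 0 := by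
    rw [Subsingleton.elim ((1 : A ⧸ J) ⊗ₜ[A] x) 0, map_zero]
  rw [TensorProduct.quotTensorEquivQuotSMul_mk_one_tmul, Submodule.Quotient.mk_eq_zero] at h1
  exact h1

/-- `1 ⊗ x = 0` in `(A ⧸ J) ⊗ M` iff `x ∈ J • ⊤`. -/
theorem one_tmul_eq_zero_iff (J : Ideal A) (x : M) :
    ((1 : A ⧸ J) ⊗ₜ[A] x = 0) ↔ x ∈ J • (⊤ : Submodule A M) := by
  rw [← (TensorProduct.quotTensorEquivQuotSMul M J).map_eq_zero_iff,
    TensorProduct.quotTensorEquivQuotSMul_mk_one_tmul, Submodule.Quotient.mk_eq_zero]

/-- **Lifting freeness along a nilpotent ideal.** -/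
theorem free_of_flat_of_isNilpotent (J : Ideal A) (hJ : IsNilpotent J) [Module.Flat A M]
    [hfree : Module.Free (A ⧸ J) ((A ⧸ J) ⊗[A] M)] : Module.Free A M := by
  classical
  let k := A ⧸ J
  obtain ⟨⟨ι, b⟩⟩ := hfree
  have hsurj : Function.Surjective (TensorProduct.mk A k M 1) :=
    TensorProduct.mk_surjective A M k Ideal.Quotient.mk_surjective
  choose v hv using fun i => hsurj (b i)
  let i : (ι →₀ A) →ₗ[A] M := Finsupp.linearCombination A v
  -- `k ⊗ i` is bijective
  let b₁ : Module.Basis ι k (k ⊗[A] (ι →₀ A)) := (Finsupp.basisSingleOne (R := A) (ι := ι)).baseChange k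
  have hb₁ : ∀ j, (i.baseChange k) (b₁ j) = b j := by
    intro j
    simp only [b₁, Module.Basis.baseChange_apply, Finsupp.coe_basisSingleOne,
      LinearMap.baseChange_tmul, i, Finsupp.linearCombination_single, one_smul]
    exact hv j
  have hi' : Function.Bijective (i.baseChange k) := by
    have : i.baseChange k = (b₁.equiv b (Equiv.refl ι)).toLinearMap := by
      apply b₁.ext
      intro j
      rw [hb₁ j]
      simp
    rw [this]
    exact (b₁.equiv b (Equiv.refl ι)).bijective
  -- `i` is surjective
  have hi : Function.Surjective i := by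
    rw [← LinearMap.range_eq_top]
    apply eq_top_of_sup_smul_top_eq_top J hJ
    rw [eq_top_iff]
    intro x _
    obtain ⟨y, hy⟩ := hi'.2 ((1 : k) ⊗ₜ[A] x)
    obtain ⟨c, rfl⟩ := TensorProduct.mk_surjective A (ι →₀ A) k Ideal.Quotient.mk_surjective y
    have h0 : (1 : k) ⊗ₜ[A] (x - i c) = 0 := by
      rw [TensorProduct.tmul_sub, ← hy]
      simp
    rw [one_tmul_eq_zero_iff] at h0
    have : x = i c + (x - i c) := by abel
    rw [this]
    exact Submodule.add_mem_sup ⟨c, rfl⟩ h0
  -- `i` is injective
  have hinj : Function.Injective i := by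
    rw [← LinearMap.ker_eq_bot, ← Submodule.subsingleton_iff_eq_bot]
    haveI : Subsingleton (k ⊗[A] (LinearMap.ker i)) := by
      rw [subsingleton_iff_forall_eq 0]
      intro x
      have H : Function.Injective (J.subtype.rTensor M) :=
        Module.Flat.rTensor_preserves_injective_linearMap _ Subtype.val_injective
      refine lTensor_injective_of_exact_of_exact_of_rTensor_injective
        (N₁ := LinearMap.ker i) (N₂ := ι →₀ A) (N₃ := M)
        (f₁ := J.subtype) (f₂ := Submodule.mkQ J)
        (g₁ := (LinearMap.ker i).subtype) (g₂ := i) (LinearMap.exact_subtype_mkQ J)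
        (Submodule.mkQ_surjective _) (LinearMap.exact_subtype_ker_map i) hi H ?_ ?_
      · apply Module.Flat.lTensor_preserves_injective_linearMap
        exact Subtype.val_injective
      · apply hi'.injective
        rw [LinearMap.baseChange_eq_ltensor]
        erw [← LinearMap.comp_apply (i.lTensor k), ← LinearMap.lTensor_comp]
        rw [(LinearMap.exact_subtype_ker_map i).linearMap_comp_eq_zero]
        simp only [LinearMap.lTensor_zero, LinearMap.zero_apply, map_zero]
    exact subsingleton_of_subsingleton_tensor J hJ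
  exact Module.Free.of_equiv (LinearEquiv.ofBijective i ⟨hinj, hi⟩)

end Groth.Agent.Lib.T2H3.NilFree
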