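import Mathlib
import Groth.Agent.Lib.Helper2GenFree

/-!
# Generic freeness over a reduced base: Gröbner data after a maximal localization (helper9)

Over a reduced ring `R` the leading coefficients of a Gröbner-type basis cannot simply be
multiplied together (the product may vanish).  Instead, among the non-nilpotent multiples `f` of a
given non-nilpotent `g` we choose one for which the monomial ideal generated by the degrees of the
elements of `I` whose leading coefficient divides a power of `f` is maximal (Dickson / Hilbert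
basis).  For such an `f` the usual Gröbner arguments work "up to `f`-power torsion".
-/

set_option autoImplicit false
set_option linter.style.haveILetI false
set_option linter.unusedSectionVars false
universe u v w

namespace Groth.Agent.Lib.T2H9.RedGenFree

open MvPolynomial MonomialOrder
open scoped MonomialOrder
open Groth.Agent.Lib.Helper24GB Groth.Agent.Lib.Helper2.GenFree

section dickson
variable {σ : Type*} [Finite σ] (m : MonomialOrder σ) {R : Type*} [CommRing R]

/-- Dickson: a finite subset of `Q` whose degrees dominate (divide) all degrees of `Q`. -/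
theorem exists_finite_dominating (Q : Set (MvPolynomial σ R)) :
    ∃ G : Finset (MvPolynomial σ R), (∀ g ∈ G, g ∈ Q) ∧
      ∀ q ∈ Q, ∃ g ∈ G, m.degree g ≤ m.degree q := by
  classical
  set D : Set (σ →₀ ℕ) := {d | ∃ x ∈ Q, m.degree x = d} with hD
  set Dmin : Set (σ →₀ ℕ) := {d | Minimal (· ∈ D) d} with hDmin
  have hanti : IsAntichain (· ≤ ·) Dmin := by
    intro a ha b hb hab hle
    exact hab (le_antisymm hle (hb.2 ha.1 hle))
  have hfin : Dmin.Finite := WellQuasiOrderedLE.finite_of_isAntichain hanti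
  have hch : ∀ d : Dmin, ∃ x ∈ Q, m.degree x = d.1 := fun d => d.2.1
  choose x hxQ hxd using hch
  haveI := hfin.fintype
  refine ⟨Finset.univ.image x, ?_, ?_⟩
  · intro g hg
    obtain ⟨d, -, rfl⟩ := Finset.mem_image.mp hg
    exact hxQ d
  · intro y hy
    have hmem : m.degree y ∈ D := ⟨y, hy, rfl⟩
    obtain ⟨b, hb, hbmin⟩ := (Set.isPWO_of_wellQuasiOrderedLE D).exists_le_minimal hmem
    refine ⟨x ⟨b, hbmin⟩, ?_, ?_⟩
    · simp
    · rw [hxd]; exact hb

/-- elements of `I` whose leading coefficient divides a power of `f` -/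
def QSet (I : Ideal (MvPolynomial σ R)) (f : R) : Set (MvPolynomial σ R) :=
  {q | q ∈ I ∧ ∃ k : ℕ, m.leadingCoeff q ∣ f ^ k}

/-- degrees divisible by the degree of an element of `QSet` -/
def ESet (I : Ideal (MvPolynomial σ R)) (f : R) : Set (σ →₀ ℕ) :=
  {d | ∃ q ∈ QSet m I f, m.degree q ≤ d}

theorem ESet_mono (I : Ideal (MvPolynomial σ R)) {f f' : R} (h : f ∣ f') :
    ESet m I f ⊆ ESet m I f' := by
  rintro d ⟨q, ⟨hqI, k, hk⟩, hd⟩
  exact ⟨q, ⟨hqI, k, hk.trans (pow_dvd_pow_of_dvd h k)⟩, hd⟩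

/-- among the non-nilpotent multiples of `g` there is one with maximal `ESet` -/
theorem exists_maximal (I : Ideal (MvPolynomial σ R)) (g : R) (hg : ¬ IsNilpotent g) :
    ∃ f, g ∣ f ∧ ¬ IsNilpotent f ∧
      ∀ f', f ∣ f' → ¬ IsNilpotent f' → ESet m I f' ⊆ ESet m I f := by
  classical
  let J : R → Ideal (MvPolynomial σ ℤ) := fun f =>
    Ideal.span ((fun d => monomial d (1 : ℤ)) '' ESet m I f)
  let 𝓙 : Set (Ideal (MvPolynomial σ ℤ)) := {K | ∃ f, g ∣ f ∧ ¬ IsNilpotent f ∧ K = J f}
  have hne : 𝓙.Nonempty := ⟨J g, g, dvd_rfl, hg, rfl⟩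
  obtain ⟨K, ⟨f, hgf, hf, rfl⟩, hmax⟩ :=
    (wellFounded_gt (α := Ideal (MvPolynomial σ ℤ))).has_min 𝓙 hne
  refine ⟨f, hgf, hf, fun f' hff' hf' d hd => ?_⟩
  have hle : J f ≤ J f' := Ideal.span_mono (Set.image_mono (ESet_mono m I hff'))
  have heq : J f' = J f := by
    by_contra hne'
    exact hmax (J f') ⟨f', hgf.trans hff', hf', rfl⟩ (lt_of_le_of_ne hle (Ne.symm hne'))
  have hmem : monomial d (1 : ℤ) ∈ J f := by
    rw [← heq]; exact Ideal.subset_span ⟨d, hd, rfl⟩
  rw [mem_ideal_span_monomial_image] at hmem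
  obtain ⟨d₀, ⟨q, hq, hqd⟩, hd₀⟩ := hmem d (by simp)
  exact ⟨q, hq, hqd.trans hd₀⟩

/-- **Key lemma**: over a reduced ring, after passing to a suitable non-nilpotent multiple `f` of
`g`, the ideal `I` has a finite "Gröbner basis up to `f`-torsion" whose leading coefficients
divide a power of `f`. -/
theorem exists_good [IsReduced R] (I : Ideal (MvPolynomial σ R)) (g : R) (hg : ¬ IsNilpotent g) :
    ∃ f, g ∣ f ∧ ¬ IsNilpotent f ∧ ∃ (G : Finset (MvPolynomial σ R)) (K : ℕ),
      (∀ q ∈ G, q ∈ I) ∧ (∀ q ∈ G, m.leadingCoeff q ∣ f ^ K) ∧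
      ∀ p ∈ I, (∀ j : ℕ, f ^ j • p ≠ 0) →
        ∃ j : ℕ, ∃ q ∈ G, m.degree q ≤ m.degree (f ^ j • p) := by
  classical
  obtain ⟨f, hgf, hf, hmax⟩ := exists_maximal m I g hg
  obtain ⟨G, hGQ, hGdom⟩ := exists_finite_dominating m (QSet m I f)
  have hK : ∃ K, ∀ q ∈ G, m.leadingCoeff q ∣ f ^ K := by
    choose! k hk using fun q (hq : q ∈ G) => (hGQ q hq).2
    exact ⟨G.sup k, fun q hq => (hk q hq).trans (pow_dvd_pow f (Finset.le_sup hq))⟩
  obtain ⟨K, hK⟩ := hK
  refine ⟨f, hgf, hf, G, K, fun q hq => (hGQ q hq).1, hK, fun p hpI hp => ?_⟩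
  -- degree stabilization
  obtain ⟨j₀, hj₀⟩ : ∃ j₀, ∀ j,
      ¬ m.toSyn (m.degree (f ^ j • p)) < m.toSyn (m.degree (f ^ j₀ • p)) := by
    obtain ⟨a, ⟨j₀, rfl⟩, hmin⟩ := (wellFounded_lt (α := m.syn)).has_min
      (Set.range fun j => m.toSyn (m.degree (f ^ j • p))) ⟨_, 0, rfl⟩
    exact ⟨j₀, fun j => hmin _ ⟨j, rfl⟩⟩
  obtain ⟨p', hp'⟩ : ∃ p', p' = f ^ j₀ • p := ⟨_, rfl⟩
  have hp'I : p' ∈ I := by rw [hp', smul_eq_C_mul]; exact I.mul_mem_left _ hpI
  have hpow : ∀ i, f ^ i • p' = f ^ (i + j₀) • p := fun i => by rw [hp', smul_smul, pow_add]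
  have hdeg : ∀ i, m.degree (f ^ i • p') = m.degree p' := by
    intro i
    have h2 : m.degree (f ^ i • p') ≼[m] m.degree p' := m.degree_smul_le
    have h3 := hj₀ (i + j₀)
    rw [← hpow, ← hp'] at h3
    exact m.toSyn.injective (le_antisymm h2 (not_lt.mp h3))
  have hfa : ∀ i, f ^ i * m.leadingCoeff p' ≠ 0 := by
    intro i h0
    have h1 : f ^ i • p' ≠ 0 := by rw [hpow]; exact hp _
    have h2 : m.leadingCoeff (f ^ i • p') = f ^ i * m.leadingCoeff p' := by
      rw [MonomialOrder.leadingCoeff, hdeg i, coeff_smul, smul_eq_mul, MonomialOrder.leadingCoeff]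
    exact (m.leadingCoeff_ne_zero_iff.mpr h1) (h2.trans h0)
  have hf'nil : ¬ IsNilpotent (f * m.leadingCoeff p') := by
    intro hn
    have := hfa 1
    rw [pow_one] at this
    exact this (IsReduced.eq_zero _ hn)
  have hmem : m.degree p' ∈ ESet m I (f * m.leadingCoeff p') :=
    ⟨p', ⟨hp'I, 1, by rw [pow_one]; exact Dvd.intro_left f rfl⟩, le_rfl⟩
  obtain ⟨q, hq, hqd⟩ := hmax _ (Dvd.intro _ rfl) hf'nil hmem
  obtain ⟨g', hg', hg'q⟩ := hGdom q hq
  exact ⟨j₀, g', hg', by rw [← hp']; exact hg'q.trans hqd⟩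

end dickson

section data
variable {σ : Type*} [Finite σ] {R : Type*} [CommRing R] [IsReduced R]

/-- Gröbner data for a ring homomorphism out of a polynomial ring over a reduced ring: for a
suitable non-nilpotent multiple `f` of `g`, the standard monomials are independent and spanning up
to powers of `f`, and the kernel is generated by the finite set `G` up to powers of `f`. -/
theorem exists_data' (m : MonomialOrder σ) {T : Type*} [CommRing T] [Module R T]
    (φ : MvPolynomial σ R →+* T) (hlin : ∀ (c : R) (p : MvPolynomial σ R), φ (c • p) = c • φ p)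
    (g : R) (hg : ¬ IsNilpotent g) :
    ∃ (f : R) (G : Finset (MvPolynomial σ R)), g ∣ f ∧ ¬ IsNilpotent f ∧ (∀ q ∈ G, φ q = 0) ∧
      (∀ l : Std m (G : Set (MvPolynomial σ R)) →₀ R,
        Finsupp.linearCombination R
          (fun b : Std m (G : Set (MvPolynomial σ R)) => φ (monomial b.1 1)) l = 0 →
          ∃ k : ℕ, f ^ k • l = 0) ∧
      (∀ p, ∃ n : ℕ, f ^ n • φ p ∈ Submodule.span R
        (Set.range fun b : Std m (G : Set (MvPolynomial σ R)) => φ (monomial b.1 1))) ∧
      (∀ p, φ p = 0 → ∃ n : ℕ, f ^ n • p ∈ Ideal.span (G : Set (MvPolynomial σ R))) := by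
  classical
  obtain ⟨f, hgf, hf, G, K, hGI, hK, hLM⟩ := exists_good m (RingHom.ker φ) g hg
  let φL : MvPolynomial σ R →ₗ[R] T :=
    { toFun := φ, map_add' := map_add φ, map_smul' := fun c p => hlin c p }
  have hspanle : Ideal.span (G : Set (MvPolynomial σ R)) ≤ RingHom.ker φ :=
    Ideal.span_le.mpr fun q hq => hGI q hq
  -- reduced elements of the kernel are `f`-power torsion
  have hkill : ∀ r ∈ RingHom.ker φ, Reduced m (G : Set (MvPolynomial σ R)) r →
      ∃ j : ℕ, f ^ j • r = 0 := by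
    intro r hrI hr
    by_contra hcon
    push Not at hcon
    obtain ⟨j, q, hq, hle⟩ := hLM r hrI hcon
    exact (hr.smul (f ^ j)).degree (hcon j) q hq hle
  refine ⟨f, G, hgf, hf, fun q hq => (RingHom.mem_ker).mp (hGI q hq), ?_, ?_, ?_⟩
  · intro l hl
    set r : MvPolynomial σ R := Finsupp.linearCombination R
      (fun b : Std m (G : Set (MvPolynomial σ R)) => monomial b.1 (1 : R)) l with hr
    have hφr : φ r = 0 := by
      change φL r = 0
      rw [hr, Finsupp.apply_linearCombination]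
      exact hl
    have hred : Reduced m (G : Set (MvPolynomial σ R)) r := by
      intro e he q hq
      rw [hr, Finsupp.linearCombination_apply, Finsupp.sum] at he
      obtain ⟨b, -, hb⟩ := Finset.mem_biUnion.mp (MvPolynomial.support_sum he)
      have hb' := MvPolynomial.support_smul hb
      have : e = b.1 := by
        have := support_monomial_subset hb'
        simpa using this
      subst this
      exact b.2 q hq
    obtain ⟨j, hj⟩ := hkill r ((RingHom.mem_ker).mpr hφr) hred
    refine ⟨j, ?_⟩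
    have hli : LinearIndependent R
        (fun b : Std m (G : Set (MvPolynomial σ R)) => monomial b.1 (1 : R)) :=
      ((basisMonomials σ R).linearIndependent.comp _ Subtype.val_injective)
    apply (linearIndependent_iff.mp hli)
    rw [map_smul, ← hr, hj]
  · intro p
    obtain ⟨n, r, hr, hmem⟩ := exists_pseudo_reduced m (G : Set (MvPolynomial σ R)) (f ^ K)
      (fun q hq => hK q hq) p
    refine ⟨K * n, ?_⟩
    have h0 : φ ((f ^ K) ^ n • p - r) = 0 := (RingHom.mem_ker).mp (hspanle hmem)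
    rw [map_sub, sub_eq_zero, hlin] at h0
    rw [pow_mul, h0]
    exact reduced_mem_span m φL hr
  · intro p hp
    obtain ⟨n, r, hr, hmem⟩ := exists_pseudo_reduced m (G : Set (MvPolynomial σ R)) (f ^ K)
      (fun q hq => hK q hq) p
    have hrI : r ∈ RingHom.ker φ := by
      have h0 : φ ((f ^ K) ^ n • p - r) = 0 := (RingHom.mem_ker).mp (hspanle hmem)
      rw [map_sub, hlin, hp, smul_zero, zero_sub, neg_eq_zero] at h0
      exact (RingHom.mem_ker).mpr h0
    obtain ⟨j, hj⟩ := hkill r hrI hr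
    refine ⟨j + K * n, ?_⟩
    have h1 : f ^ j • ((f ^ K) ^ n • p - r) ∈ Ideal.span (G : Set (MvPolynomial σ R)) := by
      rw [smul_eq_C_mul]
      exact Ideal.mul_mem_left _ _ hmem
    rwa [smul_sub, hj, sub_zero, smul_smul, ← pow_mul, ← pow_add] at h1

end data

section freeAway
variable (R : Type*) [CommRing R]

/-- `M` is free away from `f`, tolerating `f`-power torsion: there is a family of elements of `M`
which is independent and spanning up to powers of `f`. -/
def FreeAway' (f : R) (M : Type*) [AddCommGroup M] [Module R M] : Prop :=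
  ∃ (ι : Type) (v : ι → M),
    (∀ l : ι →₀ R, Finsupp.linearCombination R v l = 0 → ∃ k : ℕ, f ^ k • l = 0) ∧
    ∀ x : M, ∃ n : ℕ, f ^ n • x ∈ Submodule.span R (Set.range v)

variable {R} {M : Type*} [AddCommGroup M] [Module R M]

theorem FreeAway'.mul_right {f : R} (h : FreeAway' R f M) (g : R) : FreeAway' R (f * g) M := by
  obtain ⟨ι, v, hv, hs⟩ := h
  refine ⟨ι, v, fun l hl => ?_, fun x => ?_⟩
  · obtain ⟨k, hk⟩ := hv l hl
    exact ⟨k, by rw [mul_pow, mul_comm, mul_smul, hk, smul_zero]⟩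
  · obtain ⟨n, hn⟩ := hs x
    refine ⟨n, ?_⟩
    rw [mul_pow, mul_comm, mul_smul]
    exact Submodule.smul_mem _ _ hn

theorem FreeAway'.of_dvd {f f' : R} (h : FreeAway' R f M) (hff' : f ∣ f') : FreeAway' R f' M := by
  obtain ⟨c, rfl⟩ := hff'
  exact h.mul_right c

/-- A module which is free away from `f` becomes free over `R_f` after localization. -/
theorem FreeAway'.free {f : R} (h : FreeAway' R f M) (A : Type*) [CommRing A] [Algebra R A]
    [IsLocalization.Away f A] {M' : Type*} [AddCommGroup M'] [Module R M'] [Module A M']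
    [IsScalarTower R A M'] (g : M →ₗ[R] M') [IsLocalizedModule (Submonoid.powers f) g] :
    Module.Free A M' := by
  classical
  obtain ⟨ι, v, hv, hs⟩ := h
  let ψ : (ι →₀ R) →ₗ[R] M := Finsupp.linearCombination R v
  haveI : IsLocalizedModule (Submonoid.powers f) (g ∘ₗ ψ) := by
    refine ⟨IsLocalizedModule.map_units g, fun y => ?_, fun {x₁ x₂} hx => ?_⟩
    · obtain ⟨⟨m₀, s⟩, hms⟩ := IsLocalizedModule.surj (Submonoid.powers f) g y
      obtain ⟨n, hn⟩ := hs m₀
      obtain ⟨l, hl⟩ := (Finsupp.mem_span_range_iff_exists_finsupp).mp hn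
      refine ⟨⟨l, ⟨f ^ n, n, rfl⟩ * s⟩, ?_⟩
      change ((⟨f ^ n, n, rfl⟩ : Submonoid.powers f) * s) • y = g (ψ l)
      have hψ : ψ l = f ^ n • m₀ := by
        rw [← hl]
        exact Finsupp.linearCombination_apply R l
      rw [hψ, map_smul, ← hms, mul_smul]
      rfl
    · have hx' : g (ψ x₁) = g (ψ x₂) := hx
      obtain ⟨c, hc⟩ := IsLocalizedModule.exists_of_eq (S := Submonoid.powers f) hx'
      have h0 : ψ ((c : R) • (x₁ - x₂)) = 0 := by
        rw [map_smul, map_sub, smul_sub, sub_eq_zero]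
        exact hc
      obtain ⟨k, hk⟩ := hv _ h0
      refine ⟨⟨f ^ k, k, rfl⟩ * c, ?_⟩
      rw [mul_smul, mul_smul]
      change f ^ k • ((c : R) • x₁) = f ^ k • ((c : R) • x₂)
      rw [← sub_eq_zero, ← smul_sub, ← smul_sub]
      exact hk
  exact Module.free_of_isLocalizedModule (Submonoid.powers f) (g ∘ₗ ψ)

/-- Splitting lemma: if `T` is free away from `f` via a family each of whose members lies in the
image of `i` or is killed by the retraction `π`, then `Q` is free away from `f`. -/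
theorem FreeAway'.of_retract {f : R} {T Q : Type*} [AddCommGroup T] [Module R T] [AddCommGroup Q]
    [Module R Q] {ι : Type} (v : ι → T)
    (hv : ∀ l : ι →₀ R, Finsupp.linearCombination R v l = 0 → ∃ k : ℕ, f ^ k • l = 0)
    (hs : ∀ x : T, ∃ n : ℕ, f ^ n • x ∈ Submodule.span R (Set.range v))
    (i : Q →ₗ[R] T) (π : T →ₗ[R] Q) (hπi : ∀ q, π (i q) = q)
    (hcase : ∀ b, v b ∈ Set.range i ∨ π (v b) = 0) : FreeAway' R f Q := by
  classical
  let w : {b : ι // v b ∈ Set.range i} → Q := fun b => π (v b.1)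
  have hiw : ∀ b, i (w b) = v b.1 := by
    rintro ⟨b, q, hq⟩
    change i (π (v b)) = v b
    rw [← hq, hπi]
  refine ⟨{b : ι // v b ∈ Set.range i}, w, fun l hl => ?_, fun x => ?_⟩
  · have h1 : Finsupp.linearCombination R v (Finsupp.mapDomain Subtype.val l) = 0 := by
      rw [Finsupp.linearCombination_mapDomain]
      have h2 : (v ∘ Subtype.val : {b : ι // v b ∈ Set.range i} → T) = i ∘ w :=
        funext fun b => (hiw b).symm
      rw [h2, ← Finsupp.apply_linearCombination, hl, map_zero]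
    obtain ⟨k, hk⟩ := hv _ h1
    refine ⟨k, ?_⟩
    rw [← Finsupp.mapDomain_smul] at hk
    exact Finsupp.mapDomain_injective Subtype.val_injective (hk.trans Finsupp.mapDomain_zero.symm)
  · obtain ⟨n, hn⟩ := hs (i x)
    refine ⟨n, ?_⟩
    have h1 : π (f ^ n • i x) ∈ (Submodule.span R (Set.range v)).map π :=
      Submodule.mem_map_of_mem hn
    rw [map_smul, hπi, Submodule.map_span] at h1
    refine (Submodule.span_le.mpr ?_) h1
    rintro _ ⟨_, ⟨b, rfl⟩, rfl⟩
    rcases hcase b with hq | h0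
    · exact Submodule.subset_span ⟨⟨b, hq⟩, rfl⟩
    · rw [h0]; exact Submodule.zero_mem _

end freeAway

end Groth.Agent.Lib.T2H9.RedGenFree
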