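import Mathlib
import Groth.Agent.Lib.T2H9RedGenFree2

/-!
# Generic freeness over a reduced base: witness form and conclusions (helper9)
-/

set_option autoImplicit false
set_option linter.style.haveILetI false
set_option linter.unusedSectionVars false
universe u v w

namespace Groth.Agent.Lib.T2H9.RedGenFree

open MvPolynomial MonomialOrder TensorProduct
open scoped MonomialOrder
open Groth.Agent.Lib.Helper24GB Groth.Agent.Lib.Helper2.GenFree

/-- witness data for "after inverting `f`, `S` and `M` are free over `R`, `S` is finitely presented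
over `R` and `M` is finitely presented over `S`" -/
def Good (R : Type*) [CommRing R] (S : Type*) [CommRing S] [Algebra R S]
    (M : Type*) [AddCommGroup M] [Module S M] [Module R M] (f : R) : Prop :=
  FreeAway' R f S ∧ FreeAway' R f M ∧
    (∃ (n : ℕ) (φ : MvPolynomial (Fin n) R →ₐ[R] S) (G : Finset (MvPolynomial (Fin n) R)),
      Function.Surjective φ ∧ (∀ g ∈ G, φ g = 0) ∧
      ∀ p, φ p = 0 → ∃ k : ℕ, f ^ k • p ∈ Ideal.span (G : Set (MvPolynomial (Fin n) R))) ∧
    (∃ (r : ℕ) (mgen : Fin r → M) (V : Finset (Fin r → S)),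
      Submodule.span S (Set.range mgen) = ⊤ ∧ (∀ a ∈ V, ∑ j, a j • mgen j = 0) ∧
      ∀ a : Fin r → S, ∑ j, a j • mgen j = 0 →
        ∃ k : ℕ, f ^ k • a ∈ Submodule.span S (V : Set (Fin r → S)))

section
variable {R : Type*} [CommRing R] {S : Type*} [CommRing S] [Algebra R S]
  {M : Type*} [AddCommGroup M] [Module S M] [Module R M] [IsScalarTower R S M]

theorem Good.of_dvd {f f' : R} (h : Good R S M f) (hff' : f ∣ f') : Good R S M f' := by
  obtain ⟨hS, hM, ⟨n, φ, G, hφ, hG0, hker⟩, ⟨r, mgen, V, hgen, hV0, hV⟩⟩ := h
  obtain ⟨c, rfl⟩ := hff'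
  refine ⟨hS.mul_right c, hM.mul_right c, ⟨n, φ, G, hφ, hG0, fun p hp => ?_⟩,
    ⟨r, mgen, V, hgen, hV0, fun a ha => ?_⟩⟩
  · obtain ⟨k, hk⟩ := hker p hp
    refine ⟨k, ?_⟩
    rw [mul_pow, mul_comm, mul_smul]
    rw [smul_eq_C_mul (a := c ^ k)]
    exact Ideal.mul_mem_left _ _ hk
  · obtain ⟨k, hk⟩ := hV a ha
    refine ⟨k, ?_⟩
    rw [mul_pow, mul_comm, mul_smul, ← algebraMap_smul S (c ^ k)]
    exact Submodule.smul_mem _ _ hk

end

/-- **Generic freeness over a reduced ring** (witness form): every non-nilpotent `g` has a
non-nilpotent multiple `f` which is good. -/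
theorem exists_good_elt (R : Type*) [CommRing R] [IsReduced R] (S : Type*) [CommRing S]
    [Algebra R S] [Algebra.FiniteType R S] (M : Type*) [AddCommGroup M] [Module S M] [Module R M]
    [IsScalarTower R S M] [Module.Finite S M] (g : R) (hg : ¬ IsNilpotent g) :
    ∃ f : R, g ∣ f ∧ ¬ IsNilpotent f ∧ Good R S M f := by
  classical
  letI : Module Sᵐᵒᵖ M := Module.compHom M ((RingHom.id S).fromOpposite fun _ _ => mul_comm _ _)
  haveI : IsCentralScalar S M := ⟨fun s m => rfl⟩
  obtain ⟨n, φ, hφ⟩ := Algebra.FiniteType.iff_quotient_mvPolynomial''.mp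
    (inferInstance : Algebra.FiniteType R S)
  obtain ⟨r, mgen, hgen⟩ := Module.Finite.exists_fin (R := S) (M := M)
  obtain ⟨f₂, hgf₂, hf₂, hS, hM, V, hV0, hV⟩ := exists_module_data' φ hφ mgen hgen g hg
  obtain ⟨f₁, G, hf₂f₁, hf₁, hG0, -, -, hker⟩ := exists_data' (MonomialOrder.lex) φ.toRingHom
    (fun c p => map_smul φ c p) f₂ hf₂
  refine ⟨f₁, hgf₂.trans hf₂f₁, hf₁, hS.of_dvd hf₂f₁, hM.of_dvd hf₂f₁,
    ⟨n, φ, G, hφ, hG0, hker⟩, ⟨r, mgen, V, hgen, hV0, fun a ha => ?_⟩⟩
  obtain ⟨c, rfl⟩ := hf₂f₁
  obtain ⟨k, hk⟩ := hV a ha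
  refine ⟨k, ?_⟩
  rw [mul_pow, mul_comm, mul_smul, ← algebraMap_smul S (c ^ k)]
  exact Submodule.smul_mem _ _ hk

section conclusions

/-- transfer of finite presentation from the tensor product to the localization map -/
theorem finitePresentation_awayMap {R S : Type*} [CommRing R] [CommRing S] [Algebra R S] (f : R)
    (h : Algebra.FinitePresentation (Localization.Away f) (Localization.Away f ⊗[R] S)) :
    (Localization.awayMap (algebraMap R S) f).FinitePresentation := by
  letI : Algebra S (Localization.Away f ⊗[R] S) := Algebra.TensorProduct.rightAlgebra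
  have h1 : IsLocalization (Algebra.algebraMapSubmonoid S (Submonoid.powers f))
      (Localization.Away f ⊗[R] S) := IsLocalization.tensorRight (Localization.Away f)
      (Submonoid.powers f)
  rw [Algebra.algebraMapSubmonoid_powers] at h1
  haveI : IsLocalization.Away (algebraMap R S f) (Localization.Away f ⊗[R] S) := h1
  let e : (Localization.Away f ⊗[R] S) ≃ₐ[S] Localization.Away (algebraMap R S f) :=
    IsLocalization.algEquiv (Submonoid.powers (algebraMap R S f)) _ _
  have hcomp : (e : (Localization.Away f ⊗[R] S) →+* Localization.Away (algebraMap R S f)).comp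
      (algebraMap (Localization.Away f) (Localization.Away f ⊗[R] S)) =
      Localization.awayMap (algebraMap R S) f := by
    apply IsLocalization.ringHom_ext (Submonoid.powers f)
    ext r
    simp only [RingHom.coe_comp, Function.comp_apply]
    have h3 : Localization.awayMap (algebraMap R S) f (algebraMap R (Localization.Away f) r) =
        algebraMap S (Localization.Away (algebraMap R S f)) (algebraMap R S r) := by
      simp only [Localization.awayMap, IsLocalization.Away.map, IsLocalization.map_eq]
    rw [h3]
    have h2 : algebraMap (Localization.Away f) (Localization.Away f ⊗[R] S)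
        (algebraMap R (Localization.Away f) r) =
        algebraMap S (Localization.Away f ⊗[R] S) (algebraMap R S r) := by
      rw [Algebra.TensorProduct.algebraMap_apply, Algebra.TensorProduct.right_algebraMap_apply,
        Algebra.algebraMap_self_apply, Algebra.algebraMap_eq_smul_one, TensorProduct.smul_tmul,
        ← Algebra.algebraMap_eq_smul_one]
    rw [h2]
    exact e.commutes _
  rw [← hcomp]
  exact RingHom.FinitePresentation.comp (RingHom.FinitePresentation.of_bijective e.bijective)
    (RingHom.finitePresentation_algebraMap.mpr h)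

variable {R : Type*} [CommRing R] {S : Type*} [CommRing S] [Algebra R S]
  {M : Type*} [AddCommGroup M] [Module S M] [Module R M] [IsScalarTower R S M] {f : R}

theorem Good.free_localizedModule (h : Good R S M f) :
    Module.Free (Localization.Away f) (LocalizedModule (Submonoid.powers f) M) :=
  h.2.1.free (Localization.Away f) (LocalizedModule.mkLinearMap (Submonoid.powers f) M)

theorem Good.free_localizedModule_algebra (h : Good R S M f) :
    Module.Free (Localization.Away f) (LocalizedModule (Submonoid.powers f) S) :=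
  h.1.free (Localization.Away f) (LocalizedModule.mkLinearMap (Submonoid.powers f) S)

theorem Good.finitePresentation_awayMap (h : Good R S M f) :
    (Localization.awayMap (algebraMap R S) f).FinitePresentation := by
  obtain ⟨-, -, ⟨n, φ, G, hφ, hG0, hker⟩, -⟩ := h
  exact Groth.Agent.Lib.T2H9.RedGenFree.finitePresentation_awayMap f
    (finitePresentation_tensor φ hφ f G hG0 hker (Localization.Away f))

theorem Good.finitePresentation_localizedModule (h : Good R S M f) :
    Module.FinitePresentation (Localization.Away (algebraMap R S f))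
      (LocalizedModule (Submonoid.powers (algebraMap R S f)) M) := by
  obtain ⟨-, -, -, ⟨r, mgen, V, hgen, hV0, hV⟩⟩ := h
  refine Groth.Agent.Lib.Helper2.GenFree.finitePresentation_localizedModule
    (algebraMap R S f) mgen hgen V hV0 fun a ha => ?_
  obtain ⟨k, hk⟩ := hV a ha
  refine ⟨k, ?_⟩
  rw [← map_pow, algebraMap_smul]
  exact hk

theorem Good.flat_awayMap (h : Good R S M f) :
    (Localization.awayMap (algebraMap R S) f).Flat := by
  letI : Algebra (Localization.Away f) (Localization.Away (algebraMap R S f)) :=
    (Localization.awayMap (algebraMap R S) f).toAlgebra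
  haveI : IsScalarTower R (Localization.Away f) (Localization.Away (algebraMap R S f)) := by
    refine IsScalarTower.of_algebraMap_eq fun r => ?_
    change _ = Localization.awayMap (algebraMap R S) f (algebraMap R (Localization.Away f) r)
    simp only [Localization.awayMap, IsLocalization.Away.map, IsLocalization.map_eq]
    exact IsScalarTower.algebraMap_apply R S _ r
  haveI h1 : IsLocalization (Algebra.algebraMapSubmonoid S (Submonoid.powers f))
      (Localization.Away (algebraMap R S f)) := by
    rw [Algebra.algebraMapSubmonoid_powers]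
    infer_instance
  haveI : IsLocalizedModule (Submonoid.powers f)
      (IsScalarTower.toAlgHom R S (Localization.Away (algebraMap R S f))).toLinearMap :=
    (isLocalizedModule_iff_isLocalization).mpr h1
  haveI : Module.Free (Localization.Away f) (Localization.Away (algebraMap R S f)) :=
    h.1.free (Localization.Away f)
      (IsScalarTower.toAlgHom R S (Localization.Away (algebraMap R S f))).toLinearMap
  change Module.Flat (Localization.Away f) (Localization.Away (algebraMap R S f))
  infer_instance

end conclusions

/-- the union of the good basic opens is dense -/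
theorem dense_good (R : Type*) [CommRing R] [IsReduced R] (S : Type*) [CommRing S]
    [Algebra R S] [Algebra.FiniteType R S] (M : Type*) [AddCommGroup M] [Module S M] [Module R M]
    [IsScalarTower R S M] [Module.Finite S M] :
    Dense (⋃ (f : R) (_ : Good R S M f), (PrimeSpectrum.basicOpen f : Set (PrimeSpectrum R))) := by
  rw [dense_iff_inter_open]
  rintro W hW ⟨x, hx⟩
  obtain ⟨_, ⟨g, rfl⟩, hxg, hgW⟩ :=
    PrimeSpectrum.isTopologicalBasis_basic_opens.exists_subset_of_mem_open hx hW
  have hg : ¬ IsNilpotent g := by
    intro hn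
    obtain ⟨k, hk⟩ := hn
    have : g ^ k ∈ x.asIdeal := by rw [hk]; exact zero_mem _
    exact hxg (x.2.mem_of_pow_mem k this)
  obtain ⟨f, hgf, hf, hgood⟩ := exists_good_elt R S M g hg
  have hne : PrimeSpectrum.basicOpen f ≠ ⊥ := fun h =>
    hf ((PrimeSpectrum.basicOpen_eq_bot_iff f).mp h)
  obtain ⟨y, hy⟩ : ∃ y, y ∈ PrimeSpectrum.basicOpen f := by
    by_contra hcon
    push Not at hcon
    exact hne (TopologicalSpace.Opens.ext (Set.eq_empty_of_forall_notMem hcon))
  refine ⟨y, hgW ?_, Set.mem_iUnion₂.mpr ⟨f, hgood, hy⟩⟩
  obtain ⟨c, rfl⟩ := hgf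
  intro hgy
  exact hy (y.asIdeal.mul_mem_right c hgy)

theorem main_S9158 (R S : Type u) [CommRing R] [IsReduced R] [CommRing S]
    [Algebra R S] [Algebra.FiniteType R S] (M : Type u) [AddCommGroup M] [Module S M] [Module R M]
    [IsScalarTower R S M] [Module.Finite S M] :
    ∃ U : Set (PrimeSpectrum R), IsOpen U ∧ Dense U ∧ ∀ u ∈ U, ∃ f : R, f ∉ u.asIdeal ∧
      (PrimeSpectrum.basicOpen f : Set (PrimeSpectrum R)) ⊆ U ∧
      Module.Free (Localization.Away f) (LocalizedModule (Submonoid.powers f) M) ∧
      Module.Free (Localization.Away f) (LocalizedModule (Submonoid.powers f) S) ∧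
      (Localization.awayMap (algebraMap R S) f).FinitePresentation ∧
      Module.FinitePresentation (Localization.Away (algebraMap R S f))
        (LocalizedModule (Submonoid.powers (algebraMap R S f)) M) := by
  refine ⟨⋃ (f : R) (_ : Good R S M f), (PrimeSpectrum.basicOpen f : Set (PrimeSpectrum R)),
    isOpen_iUnion fun f => isOpen_iUnion fun _ => (PrimeSpectrum.basicOpen f).isOpen,
    dense_good R S M, fun u hu => ?_⟩
  obtain ⟨f, hgood, huf⟩ := Set.mem_iUnion₂.mp hu
  exact ⟨f, huf, Set.subset_iUnion₂ (s := fun (f : R) (_ : Good R S M f) =>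
      (PrimeSpectrum.basicOpen f : Set (PrimeSpectrum R))) f hgood,
    hgood.free_localizedModule, hgood.free_localizedModule_algebra,
    hgood.finitePresentation_awayMap, hgood.finitePresentation_localizedModule⟩

end Groth.Agent.Lib.T2H9.RedGenFree
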