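import Mathlib
import Groth.Agent.S9158
import Groth.Agent.Lib.T2H3NilFree

/-!
# helper3 (team 2): generic freeness in "test algebra" form

* `exists_free_of_prime`: for a prime `q` of `R₀`, a finite type `R₀`-algebra `S₀` and a finite `S₀`-module `M₀`,
  there is `g ∉ q` such that `k ⊗[R₀] M₀` is free over `k` for every `R₀`-algebra `k` killing `q` and inverting `g`.
* `exists_free_of_minimalPrime`: Noetherian `R₀`, `M₀` moreover flat over `R₀`, `q` a minimal prime over an ideal `I`:
  there is `g ∉ q` such that `k ⊗[R₀] M₀` is free over `k` for every `R₀`-algebra `k` killing `I` and inverting `g`.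
-/

set_option autoImplicit false
set_option linter.style.haveILetI false
universe u

open TensorProduct

namespace Groth.Agent.Lib.T2H3.GenFreeK

section prime

set_option maxHeartbeats 1000000 in
theorem exists_free_of_prime (R₀ : Type u) [CommRing R₀] (q : Ideal R₀) [q.IsPrime]
    (S₀ : Type u) [CommRing S₀] [Algebra R₀ S₀] [Algebra.FiniteType R₀ S₀]
    (M₀ : Type u) [AddCommGroup M₀] [Module S₀ M₀] [Module R₀ M₀] [IsScalarTower R₀ S₀ M₀]
    [Module.Finite S₀ M₀] :
    ∃ g : R₀, g ∉ q ∧ ∀ (k : Type u) [CommRing k] [Algebra R₀ k],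
      (∀ x ∈ q, algebraMap R₀ k x = 0) → IsUnit (algebraMap R₀ k g) →
        Module.Free k (k ⊗[R₀] M₀) := by
  classical
  let R := R₀ ⧸ q
  let Q : Ideal S₀ := q.map (algebraMap R₀ S₀)
  let S := S₀ ⧸ Q
  let N : Submodule S₀ M₀ := Q • ⊤
  let M := M₀ ⧸ N
  let φ : R →+* S := Ideal.quotientMap Q (algebraMap R₀ S₀) Ideal.le_comap_map
  letI : Algebra R S := φ.toAlgebra
  haveI : IsScalarTower R₀ R S := IsScalarTower.of_algebraMap_eq (fun x => rfl)
  haveI : Algebra.FiniteType R₀ S :=
    Algebra.FiniteType.of_surjective (Ideal.Quotient.mkₐ R₀ Q) (Ideal.Quotient.mkₐ_surjective R₀ Q)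
  haveI : Algebra.FiniteType R S := Algebra.FiniteType.of_restrictScalars_finiteType R₀ R S
  letI : Module R M := Module.compHom M φ
  have hsmul : ∀ (r : R) (m : M), r • m = φ r • m := fun _ _ => rfl
  haveI : IsScalarTower R S M := ⟨fun r s m => by
    rw [hsmul, Algebra.smul_def, mul_smul]; rfl⟩
  haveI : IsScalarTower S₀ S M := ⟨fun a s m => by
    obtain ⟨s, rfl⟩ := Ideal.Quotient.mk_surjective s
    obtain ⟨m, rfl⟩ := Submodule.Quotient.mk_surjective _ m
    change (Ideal.Quotient.mk Q (a • s)) • Submodule.Quotient.mk m =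
      a • ((Ideal.Quotient.mk Q s) • Submodule.Quotient.mk m)
    rw [Module.Quotient.mk_smul_mk, Module.Quotient.mk_smul_mk, ← Submodule.Quotient.mk_smul,
      smul_eq_mul, mul_smul]⟩
  haveI : Module.Finite S M := Module.Finite.of_restrictScalars_finite S₀ S M
  haveI : IsScalarTower R₀ R M := ⟨fun a r m => by
    obtain ⟨r, rfl⟩ := Ideal.Quotient.mk_surjective r
    obtain ⟨m, rfl⟩ := Submodule.Quotient.mk_surjective _ m
    rw [hsmul, hsmul]
    change (Ideal.Quotient.mk Q (algebraMap R₀ S₀ (a • r))) • Submodule.Quotient.mk m =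
      a • ((Ideal.Quotient.mk Q (algebraMap R₀ S₀ r)) • Submodule.Quotient.mk m)
    rw [Module.Quotient.mk_smul_mk, Module.Quotient.mk_smul_mk, ← Submodule.Quotient.mk_smul,
      smul_eq_mul, map_mul, mul_smul, algebraMap_smul]⟩
  obtain ⟨U, hUo, hUd, hU⟩ := Groth.Agent.S9158.result R S M
  let η : PrimeSpectrum R := ⟨⊥, Ideal.isPrime_bot⟩
  have hη : η ∈ U := by
    obtain ⟨v, hv⟩ := hUd.nonempty
    have : η ⤳ v := (PrimeSpectrum.le_iff_specializes η v).mp bot_le
    exact this.mem_open hUo hv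
  obtain ⟨f, hf, -, hfree, -, -, -⟩ := hU η hη
  obtain ⟨g, rfl⟩ := Ideal.Quotient.mk_surjective f
  refine ⟨g, fun hg => hf ?_, ?_⟩
  · change Ideal.Quotient.mk q g ∈ (⊥ : Ideal R)
    rw [Ideal.mem_bot]
    exact Ideal.Quotient.eq_zero_iff_mem.2 hg
  intro k _ _ hq hgu
  let f : R := Ideal.Quotient.mk q g
  let D := Localization.Away f
  let P := LocalizedModule (Submonoid.powers f) M
  -- algebra structures on `k`
  let ψ : R →+* k := Ideal.Quotient.lift q (algebraMap R₀ k) hq
  letI : Algebra R k := ψ.toAlgebra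
  haveI : IsScalarTower R₀ R k := IsScalarTower.of_algebraMap_eq (fun x => rfl)
  have hfu : IsUnit (algebraMap R k f) := hgu
  let χ : D →+* k := IsLocalization.Away.lift f hfu
  letI : Algebra D k := χ.toAlgebra
  haveI : IsScalarTower R D k := IsScalarTower.of_algebraMap_eq
    (fun x => (IsLocalization.Away.lift_eq f hfu x).symm)
  haveI : Module.Free D P := hfree
  haveI : Module.Free k (k ⊗[D] P) := inferInstance
  -- `P ≃ D ⊗[R] M`
  let e1 : P ≃ₗ[D] D ⊗[R] M := LocalizedModule.equivTensorProduct (Submonoid.powers f) M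
  -- `M ≃ R ⊗[R₀] M₀`
  have hN : q • (⊤ : Submodule R₀ M₀) = N.restrictScalars R₀ := by
    have := Ideal.smul_restrictScalars q (⊤ : Submodule S₀ M₀)
    rw [Submodule.restrictScalars_top] at this
    exact this.symm
  let e3₀ : (R ⊗[R₀] M₀) ≃ₗ[R₀] M :=
    (TensorProduct.quotTensorEquivQuotSMul M₀ q) ≪≫ₗ (Submodule.quotEquivOfEq _ _ hN) ≪≫ₗ
      (Submodule.Quotient.restrictScalarsEquiv R₀ N)
  let e3 : (R ⊗[R₀] M₀) ≃ₗ[R] M := e3₀.extendScalarsOfSurjective Ideal.Quotient.mk_surjective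
  let E : k ⊗[D] P ≃ₗ[k] k ⊗[R₀] M₀ :=
    (TensorProduct.AlgebraTensorModule.congr (LinearEquiv.refl k k) e1) ≪≫ₗ
    (TensorProduct.AlgebraTensorModule.cancelBaseChange R D k k M) ≪≫ₗ
    (TensorProduct.AlgebraTensorModule.congr (LinearEquiv.refl k k) e3.symm) ≪≫ₗ
    (TensorProduct.AlgebraTensorModule.cancelBaseChange R₀ R k k M₀)
  exact Module.Free.of_equiv E

set_option maxHeartbeats 1000000 in
theorem exists_free_of_minimalPrime (R₀ : Type u) [CommRing R₀] [IsNoetherianRing R₀]
    (I q : Ideal R₀) (hq : q ∈ I.minimalPrimes)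
    (S₀ : Type u) [CommRing S₀] [Algebra R₀ S₀] [Algebra.FiniteType R₀ S₀]
    (M₀ : Type u) [AddCommGroup M₀] [Module S₀ M₀] [Module R₀ M₀] [IsScalarTower R₀ S₀ M₀]
    [Module.Finite S₀ M₀] [Module.Flat R₀ M₀] :
    ∃ g : R₀, g ∉ q ∧ ∀ (k : Type u) [CommRing k] [Algebra R₀ k],
      (∀ x ∈ I, algebraMap R₀ k x = 0) → IsUnit (algebraMap R₀ k g) →
        Module.Free k (k ⊗[R₀] M₀) := by
  classical
  haveI : q.IsPrime := hq.1.1
  have hfin : I.minimalPrimes.Finite := Ideal.finite_minimalPrimes_of_isNoetherianRing R₀ I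
  let others : Finset (Ideal R₀) := hfin.toFinset.erase q
  have hnot : ¬ (others.inf id ≤ q) := by
    rw [Ideal.IsPrime.inf_le' ‹q.IsPrime›]
    rintro ⟨q', hq', hle⟩
    rw [Finset.mem_erase, Set.Finite.mem_toFinset] at hq'
    exact hq'.1 (le_antisymm hle (hq.2 hq'.2.1 hle))
  obtain ⟨h, hh, hhq⟩ := SetLike.not_le_iff_exists.mp hnot
  have hmem : ∀ x ∈ q, x * h ∈ I.radical := by
    intro x hx
    rw [← Ideal.sInf_minimalPrimes, Ideal.mem_sInf]
    intro q' hq'
    by_cases hqq : q' = q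
    · rw [hqq]; exact Ideal.mul_mem_right _ _ hx
    · have : q' ∈ others := by
        rw [Finset.mem_erase, Set.Finite.mem_toFinset]; exact ⟨hqq, hq'⟩
      have h1 : others.inf id ≤ q' := Finset.inf_le (f := id) this
      exact Ideal.mul_mem_left _ _ (h1 hh)
  obtain ⟨n, hn⟩ := Ideal.exists_radical_pow_le_of_fg I (IsNoetherian.noetherian _)
  obtain ⟨g', hg', hG⟩ := exists_free_of_prime R₀ q S₀ M₀
  refine ⟨h * g', fun hmem' => ?_, ?_⟩
  · rcases (‹q.IsPrime›.mem_or_mem hmem') with h1 | h1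
    · exact hhq h1
    · exact hg' h1
  intro k _ _ hI hu
  rw [map_mul, IsUnit.mul_iff] at hu
  obtain ⟨hhu, hgu⟩ := hu
  let J : Ideal k := q.map (algebraMap R₀ k)
  have hJnil : IsNilpotent J := by
    have hJfg : J.FG := Ideal.FG.map (IsNoetherian.noetherian q) _
    rw [hJfg.isNilpotent_iff_le_nilradical, Ideal.map_le_iff_le_comap]
    intro x hx
    rw [Ideal.mem_comap, mem_nilradical]
    refine ⟨n, ?_⟩
    have h1 : (x * h) ^ n ∈ I := hn (Ideal.pow_mem_pow (hmem x hx) n)
    have h2 := hI _ h1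
    rw [map_pow, map_mul, mul_pow] at h2
    exact (hhu.pow n).mul_left_eq_zero.mp h2
  let k' := k ⧸ J
  have hq' : ∀ x ∈ q, algebraMap R₀ k' x = 0 := by
    intro x hx
    rw [IsScalarTower.algebraMap_apply R₀ k k', Ideal.Quotient.algebraMap_eq,
      Ideal.Quotient.eq_zero_iff_mem]
    exact Ideal.mem_map_of_mem _ hx
  have hgu' : IsUnit (algebraMap R₀ k' g') := by
    rw [IsScalarTower.algebraMap_apply R₀ k k']
    exact hgu.map _
  haveI : Module.Free k' (k' ⊗[R₀] M₀) := hG k' hq' hgu'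
  haveI : Module.Free (k ⧸ J) ((k ⧸ J) ⊗[k] (k ⊗[R₀] M₀)) :=
    Module.Free.of_equiv
      (TensorProduct.AlgebraTensorModule.cancelBaseChange R₀ k k' k' M₀).symm
  exact Groth.Agent.Lib.T2H3.NilFree.free_of_flat_of_isNilpotent J hJnil

end prime

section strat

variable (R₀ : Type u) [CommRing R₀] [IsNoetherianRing R₀]
  (S₀ : Type u) [CommRing S₀] [Algebra R₀ S₀] [Algebra.FiniteType R₀ S₀]
  (M₀ : Type u) [AddCommGroup M₀] [Module S₀ M₀] [Module R₀ M₀] [IsScalarTower R₀ S₀ M₀]
  [Module.Finite S₀ M₀] [Module.Flat R₀ M₀]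

include S₀ in
/-- Noetherian induction step packaged: for every ideal `I` there is a list of elements, generating the unit
ideal together with `I`, whose successive "locally closed pieces inside `V(I)`" have `M₀` free. -/
theorem exists_list_free_aux (I : Ideal R₀) :
    ∃ l : List R₀, I ⊔ Ideal.span {a | a ∈ l} = ⊤ ∧
      ∀ (i : ℕ) (hi : i < l.length) (k : Type u) [CommRing k] [Algebra R₀ k],
        I ≤ RingHom.ker (algebraMap R₀ k) → (∀ a ∈ l.take i, algebraMap R₀ k a = 0) →
          IsUnit (algebraMap R₀ k l[i]) → Module.Free k (k ⊗[R₀] M₀) := by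
  induction I using IsNoetherian.induction with
  | hgt I ih =>
    by_cases hI : I = ⊤
    · refine ⟨[], by simp [hI], fun i hi => absurd hi (by simp)⟩
    obtain ⟨⟨q, hq⟩⟩ := Ideal.nonempty_minimalPrimes hI
    obtain ⟨g, hgq, hg⟩ := exists_free_of_minimalPrime R₀ I q hq S₀ M₀
    have hgI : g ∉ I := fun h => hgq (hq.1.2 h)
    have hlt : I < I ⊔ Ideal.span {g} := by
      refine lt_of_le_of_ne le_sup_left fun h => hgI ?_
      rw [h]
      exact Ideal.mem_sup_right (Ideal.mem_span_singleton_self g)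
    obtain ⟨l, hl, hfree⟩ := ih _ hlt
    refine ⟨g :: l, ?_, ?_⟩
    · have : {a | a ∈ g :: l} = {g} ∪ {a | a ∈ l} := by
        ext a; simp
      rw [this, Ideal.span_union, ← sup_assoc]
      exact hl
    · intro i hi k _ _ hIk htake hunit
      cases i with
      | zero =>
        refine hg k (fun x hx => ?_) (by simpa using hunit)
        exact (RingHom.mem_ker).1 (hIk hx)
      | succ i =>
        have hi' : i < l.length := by simpa using hi
        refine hfree i hi' k ?_ ?_ (by simpa using hunit)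
        · refine sup_le hIk ?_
          rw [Ideal.span_le]
          rintro x hx
          rw [Set.mem_singleton_iff] at hx
          subst hx
          exact (RingHom.mem_ker).2 (htake _ (by simp))
        · intro a ha
          exact htake a (by simp [ha])

include S₀ in
/-- **Stratification of a flat finite module over a finite type algebra over a Noetherian ring into free
pieces**, in test-algebra form. -/
theorem exists_list_free :
    ∃ l : List R₀, Ideal.span {a | a ∈ l} = ⊤ ∧
      ∀ (i : ℕ) (hi : i < l.length) (k : Type u) [CommRing k] [Algebra R₀ k],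
        (∀ a ∈ l.take i, algebraMap R₀ k a = 0) →
          IsUnit (algebraMap R₀ k l[i]) → Module.Free k (k ⊗[R₀] M₀) := by
  obtain ⟨l, hl, h⟩ := exists_list_free_aux R₀ S₀ M₀ ⊥
  rw [bot_sup_eq] at hl
  exact ⟨l, hl, fun i hi k _ _ h1 h2 => h i hi k bot_le h1 h2⟩

end strat

end Groth.Agent.Lib.T2H3.GenFreeK
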