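import Mathlib
import Groth.Agent.Lib.T2H3GenFreeK
import Groth.Agent.Lib.Helper3FlatModelMod

/-!
# helper3 (team 2): flat finitely presented modules: Noetherian model in tensor form

* `exists_noetherian_model`: a flat finitely presented module `M` over a finitely presented `A`-algebra `B` is
  `A ⊗[R₀] M₀` for a Noetherian ring `R₀`, a finite type `R₀`-algebra `S₀` and a finite `S₀`-module `M₀`
  flat over `R₀`.
* `exists_list_free`: EGA IV 11.3.? (stratification of `Spec A` into principal locally closed pieces over which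
  `M` becomes free), in test-algebra form.
-/

set_option autoImplicit false
set_option linter.style.haveILetI false
universe u

open TensorProduct

namespace Groth.Agent.Lib.T2H3.FreeStrat

theorem exists_noetherian_model (A B : Type u) [CommRing A] [CommRing B] [Algebra A B]
    [Algebra.FinitePresentation A B] (M : Type u) [AddCommGroup M] [Module B M] [Module A M]
    [IsScalarTower A B M] [Module.FinitePresentation B M] [Module.Flat A M] :
    ∃ (R₀ : Type u) (_ : CommRing R₀) (_ : Algebra R₀ A) (_ : IsNoetherianRing R₀)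
      (S₀ : Type u) (_ : CommRing S₀) (_ : Algebra R₀ S₀) (_ : Algebra.FiniteType R₀ S₀)
      (M₀ : Type u) (_ : AddCommGroup M₀) (_ : Module S₀ M₀) (_ : Module R₀ M₀)
      (_ : IsScalarTower R₀ S₀ M₀) (_ : Module.Finite S₀ M₀) (_ : Module.Flat R₀ M₀),
      Nonempty (M ≃ₗ[A] A ⊗[R₀] M₀) := by
  obtain ⟨R₀, _, _, S₀, _, _, _, _, _, _, M₀, _, _, _, _, _, _, f, hft, hftS, hfin, hflat, hpush,
    hbc⟩ := Groth.Agent.Lib.Helper3.FlatModelMod.exists_flat_module_model A B M
  haveI : IsNoetherianRing R₀ := Algebra.FiniteType.isNoetherianRing ℤ R₀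
  haveI := hpush
  refine ⟨R₀, inferInstance, inferInstance, inferInstance, S₀, inferInstance, inferInstance, hftS,
    M₀, inferInstance, inferInstance, inferInstance, inferInstance, hfin, hflat, ⟨?_⟩⟩
  exact (hbc.equiv.symm.restrictScalars A) ≪≫ₗ
    (Algebra.IsPushout.cancelBaseChange R₀ A S₀ B M₀)

/-- **EGA IV 11.3-type stratification**: for a flat finitely presented module over a finitely presented algebra
there is a list `f₁, …, fₙ` generating the unit ideal such that `k ⊗[A] M` is free over `k` for every
`A`-algebra `k` killing `f₁, …, fᵢ` and inverting `f_{i+1}`. -/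
theorem exists_list_free (A B : Type u) [CommRing A] [CommRing B] [Algebra A B]
    [Algebra.FinitePresentation A B] (M : Type u) [AddCommGroup M] [Module B M] [Module A M]
    [IsScalarTower A B M] [Module.FinitePresentation B M] [Module.Flat A M] :
    ∃ l : List A, Ideal.span {a | a ∈ l} = ⊤ ∧
      ∀ (i : ℕ) (hi : i < l.length) (k : Type u) [CommRing k] [Algebra A k],
        (∀ a ∈ l.take i, algebraMap A k a = 0) →
          IsUnit (algebraMap A k l[i]) → Module.Free k (k ⊗[A] M) := by
  obtain ⟨R₀, _, _, _, S₀, _, _, _, M₀, _, _, _, _, _, _, ⟨e⟩⟩ := exists_noetherian_model A B M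
  obtain ⟨l₀, hl₀, h₀⟩ := Groth.Agent.Lib.T2H3.GenFreeK.exists_list_free R₀ S₀ M₀
  refine ⟨l₀.map (algebraMap R₀ A), ?_, ?_⟩
  · have : {a | a ∈ l₀.map (algebraMap R₀ A)} = (algebraMap R₀ A) '' {a | a ∈ l₀} := by
      ext a
      simp [List.mem_map]
    rw [this, ← Ideal.map_span, hl₀, Ideal.map_top]
  · intro i hi k _ _ htake hunit
    have hi₀ : i < l₀.length := by simpa using hi
    letI : Algebra R₀ k := ((algebraMap A k).comp (algebraMap R₀ A)).toAlgebra
    haveI : IsScalarTower R₀ A k := IsScalarTower.of_algebraMap_eq (fun x => rfl)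
    haveI : Module.Free k (k ⊗[R₀] M₀) := by
      refine h₀ i hi₀ k ?_ ?_
      · intro a ha
        rw [IsScalarTower.algebraMap_apply R₀ A k]
        refine htake _ ?_
        rw [← List.map_take]
        exact List.mem_map_of_mem ha
      · rw [IsScalarTower.algebraMap_apply R₀ A k]
        simpa using hunit
    exact Module.Free.of_equiv
      ((TensorProduct.AlgebraTensorModule.congr (LinearEquiv.refl k k) e) ≪≫ₗ
        (TensorProduct.AlgebraTensorModule.cancelBaseChange R₀ A k k M₀)).symm

end Groth.Agent.Lib.T2H3.FreeStrat
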