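import Mathlib
import Groth.Agent.Lib.T2H3FreeStrat
import Groth.Agent.Lib.Helper3FlatOpenFP
import Groth.Agent.Lib.Helper3FlatLocA

/-!
# helper3 (team 2): generic freeness for flat finitely presented modules over a ring with prime nilradical
-/

set_option autoImplicit false
set_option linter.style.haveILetI false
universe u

open TensorProduct

namespace Groth.Agent.Lib.T2H3.FreeLoc

/-- If the nilradical of `A` contains a prime `P` (so `P` is the nilradical and the unique minimal prime) and `M`
is a flat finitely presented module over a finitely presented `A`-algebra, then there is `a ∉ P` such that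
`k ⊗[A] M` is free over every `A`-algebra `k` inverting `a`. -/
theorem exists_free_of_nil_prime (A B : Type u) [CommRing A] [CommRing B] [Algebra A B]
    [Algebra.FinitePresentation A B] (M : Type u) [AddCommGroup M] [Module B M] [Module A M]
    [IsScalarTower A B M] [Module.FinitePresentation B M] [Module.Flat A M]
    (P : Ideal A) [P.IsPrime] (hP : P ≤ nilradical A) :
    ∃ a : A, a ∉ P ∧ ∀ (k : Type u) [CommRing k] [Algebra A k],
      IsUnit (algebraMap A k a) → Module.Free k (k ⊗[A] M) := by
  obtain ⟨R₀, _, _, _, S₀, _, _, _, M₀, _, _, _, _, _, _, ⟨e⟩⟩ :=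
    Groth.Agent.Lib.T2H3.FreeStrat.exists_noetherian_model A B M
  let I : Ideal R₀ := RingHom.ker (algebraMap R₀ A)
  let q : Ideal R₀ := P.comap (algebraMap R₀ A)
  haveI : q.IsPrime := Ideal.comap_isPrime _ _
  have hq : q ∈ I.minimalPrimes := by
    refine ⟨⟨inferInstance, fun x hx => ?_⟩, fun q' hq' hle x hx => ?_⟩
    · change algebraMap R₀ A x ∈ P
      rw [(RingHom.mem_ker).1 hx]
      exact P.zero_mem
    · have h1 : algebraMap R₀ A x ∈ nilradical A := hP hx
      obtain ⟨n, hn⟩ := mem_nilradical.1 h1
      have h2 : x ^ n ∈ I := by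
        change algebraMap R₀ A (x ^ n) = 0
        rw [map_pow, hn]
      exact hq'.1.mem_of_pow_mem n (hq'.2 h2)
  obtain ⟨g, hgq, hg⟩ := Groth.Agent.Lib.T2H3.GenFreeK.exists_free_of_minimalPrime R₀ I q hq S₀ M₀
  refine ⟨algebraMap R₀ A g, hgq, ?_⟩
  intro k _ _ hunit
  letI : Algebra R₀ k := ((algebraMap A k).comp (algebraMap R₀ A)).toAlgebra
  haveI : IsScalarTower R₀ A k := IsScalarTower.of_algebraMap_eq (fun x => rfl)
  haveI : Module.Free k (k ⊗[R₀] M₀) := by
    refine hg k ?_ ?_
    · intro x hx
      rw [IsScalarTower.algebraMap_apply R₀ A k, (RingHom.mem_ker).1 hx, map_zero]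
    · rw [IsScalarTower.algebraMap_apply R₀ A k]
      exact hunit
  exact Module.Free.of_equiv
    ((TensorProduct.AlgebraTensorModule.congr (LinearEquiv.refl k k) e) ≪≫ₗ
      (TensorProduct.AlgebraTensorModule.cancelBaseChange R₀ A k k M₀)).symm

/-- flatness at a prime `p` of the base passes to the primes of `B` whose contraction lies in `p`. -/
theorem flat_localizedModule_of_comap_le {A B : Type u} [CommRing A] [CommRing B] [Algebra A B]
    {M : Type u} [AddCommGroup M] [Module B M] [Module A M] [IsScalarTower A B M]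
    (p : Ideal A) [p.IsPrime] (h : Module.Flat A (LocalizedModule p.primeCompl M))
    (q : Ideal B) [q.IsPrime] (hq : q.comap (algebraMap A B) ≤ p) :
    Module.Flat A (LocalizedModule q.primeCompl M) := by
  rw [Groth.Agent.Lib.Helper3.FlatLoc.flat_localizedModule_iff] at h ⊢
  intro I hI z hz
  obtain ⟨s, hs, hsz⟩ := h I hI z hz
  refine ⟨algebraMap A B s, fun hmem => hs (hq hmem), ?_⟩
  rw [algebraMap_smul]
  exact hsz

/-- **Spreading out flatness from the generic point**: if `p` is the unique minimal prime of `A` and `M_p` is flat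
over `A_p`, then `M_t` is flat over `A` for some `t ∉ p`. -/
theorem exists_flat_away (A B : Type u) [CommRing A] [CommRing B] [Algebra A B]
    [Algebra.FinitePresentation A B] (M : Type u) [AddCommGroup M] [Module B M] [Module A M]
    [IsScalarTower A B M] [Module.FinitePresentation B M]
    (p : Ideal A) [p.IsPrime] (hp : p ≤ nilradical A)
    (hflat : Module.Flat (Localization.AtPrime p) (LocalizedModule p.primeCompl M)) :
    ∃ t : A, t ∉ p ∧ Module.Flat A (LocalizedModule (Submonoid.powers t) M) := by
  classical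
  have hflatA : Module.Flat A (LocalizedModule p.primeCompl M) :=
    (Module.flat_iff_of_isLocalization (Localization.AtPrime p) p.primeCompl _).1 hflat
  -- the flat locus
  let U : Set (PrimeSpectrum B) :=
    {q | Module.Flat A (LocalizedModule q.asIdeal.primeCompl M)}
  have hU : IsOpen U := Groth.Agent.Lib.Helper3.FlatOpen.isOpen_flatLocus_of_finitePresentation
  obtain ⟨I', hI'⟩ := (PrimeSpectrum.isClosed_iff_zeroLocus_ideal _).1 hU.isClosed_compl
  -- `I' ⊔ pB` meets the image of `A ∖ p`
  let T : Submonoid B := Algebra.algebraMapSubmonoid B p.primeCompl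
  let K : Ideal B := I' ⊔ p.map (algebraMap A B)
  have hmeet : ¬ Disjoint (K : Set B) (T : Set B) := by
    intro hdis
    obtain ⟨q, hqprime, hKq, hqT⟩ := Ideal.exists_le_prime_disjoint K T hdis
    haveI := hqprime
    have hcomap : q.comap (algebraMap A B) ≤ p := by
      intro x hx
      by_contra hxp
      exact Set.disjoint_left.1 hqT hx ⟨x, hxp, rfl⟩
    have hqU : (⟨q, hqprime⟩ : PrimeSpectrum B) ∈ U :=
      flat_localizedModule_of_comap_le p hflatA q hcomap
    have hqZ : (⟨q, hqprime⟩ : PrimeSpectrum B) ∈ Uᶜ := by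
      rw [hI', PrimeSpectrum.mem_zeroLocus]
      exact fun x hx => hKq (Ideal.mem_sup_left hx)
    exact hqZ hqU
  rw [Set.not_disjoint_iff] at hmeet
  obtain ⟨_, hbK, ⟨t, htp, rfl⟩⟩ := hmeet
  obtain ⟨i, hi, n, hn, hsum⟩ := Submodule.mem_sup.1 hbK
  have hnnil : IsNilpotent n := by
    have : p.map (algebraMap A B) ≤ nilradical B := by
      rw [Ideal.map_le_iff_le_comap]
      intro x hx
      exact (mem_nilradical.1 (hp hx)).map _
    exact mem_nilradical.1 (this hn)
  -- every prime outside the flat locus contains `t`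
  have hZ : ∀ q : PrimeSpectrum B, q ∉ U → algebraMap A B t ∈ q.asIdeal := by
    intro q hq
    have hq' : q ∈ Uᶜ := hq
    rw [hI', PrimeSpectrum.mem_zeroLocus] at hq'
    rw [← hsum]
    refine q.asIdeal.add_mem (hq' hi) ?_
    obtain ⟨m, hm⟩ := hnnil
    exact q.2.mem_of_pow_mem m (by rw [hm]; exact q.asIdeal.zero_mem)
  refine ⟨t, htp, ?_⟩
  -- flatness of the `B`-localization at powers of `t`
  have hB : Module.Flat A (LocalizedModule (Submonoid.powers (algebraMap A B t)) M) := by
    rw [Groth.Agent.Lib.Helper3.FlatLoc.flat_localizedModule_iff]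
    intro I hI z hz
    -- the annihilator of `z`
    let Ann : Ideal B := (Submodule.span B {z}).annihilator
    have hrad : algebraMap A B t ∈ Ann.radical := by
      rw [Ideal.radical_eq_sInf, Ideal.mem_sInf]
      rintro q ⟨hAq, hqprime⟩
      by_contra htq
      have hqU : (⟨q, hqprime⟩ : PrimeSpectrum B) ∈ U := by
        by_contra hqU
        exact htq (hZ ⟨q, hqprime⟩ hqU)
      have hqU' : Module.Flat A (LocalizedModule q.primeCompl M) := hqU
      rw [Groth.Agent.Lib.Helper3.FlatLoc.flat_localizedModule_iff] at hqU'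
      obtain ⟨s, hs, hsz⟩ := hqU' I hI z hz
      refine hs (hAq ?_)
      rw [Submodule.mem_annihilator_span_singleton]
      exact hsz
    obtain ⟨m, hm⟩ := hrad
    refine ⟨(algebraMap A B t) ^ m, ⟨m, rfl⟩, ?_⟩
    rw [Submodule.mem_annihilator_span_singleton] at hm
    exact hm
  -- compare with the `A`-localization
  haveI : IsLocalizedModule (Submonoid.powers t)
      ((LocalizedModule.mkLinearMap (Submonoid.powers (algebraMap A B t)) M).restrictScalars A) :=
    IsLocalizedModule.restrictScalars_powers t _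
  exact Module.Flat.of_linearEquiv
    (IsLocalizedModule.linearEquiv (Submonoid.powers t)
      (LocalizedModule.mkLinearMap (Submonoid.powers t) M)
      ((LocalizedModule.mkLinearMap (Submonoid.powers (algebraMap A B t)) M).restrictScalars A))

attribute [local instance] Algebra.TensorProduct.rightAlgebra in
set_option maxHeartbeats 1000000 in
/-- **EGA IV 11.3-type generic freeness over a base with a unique minimal prime**: if `p` is the unique minimal
prime of `A` (i.e. `p` is prime and contained in the nilradical), `B` is a finitely presented `A`-algebra, `M` a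
finitely presented `B`-module and `M_p` is flat over `A_p`, then `M_t` is free over `A_t` for some `t ∉ p`. -/
theorem exists_free_away (A B : Type u) [CommRing A] [CommRing B] [Algebra A B]
    [Algebra.FinitePresentation A B] (M : Type u) [AddCommGroup M] [Module B M] [Module A M]
    [IsScalarTower A B M] [Module.FinitePresentation B M]
    (p : Ideal A) [p.IsPrime] (hp : p ≤ nilradical A)
    (hflat : Module.Flat (Localization.AtPrime p) (LocalizedModule p.primeCompl M)) :
    ∃ t : A, t ∉ p ∧
      Module.Free (Localization.Away t) (LocalizedModule (Submonoid.powers t) M) := by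
  classical
  obtain ⟨t₁, ht₁, hfl₁⟩ := exists_flat_away A B M p hp hflat
  let A₁ := Localization.Away t₁
  let B₁ := A₁ ⊗[A] B
  let M₁ := B₁ ⊗[B] M
  let e₁ : M₁ ≃ₗ[A₁] A₁ ⊗[A] M := Algebra.IsPushout.cancelBaseChange A A₁ B B₁ M
  let e₂ : A₁ ⊗[A] M ≃ₗ[A₁] LocalizedModule (Submonoid.powers t₁) M :=
    (LocalizedModule.equivTensorProduct (Submonoid.powers t₁) M).symm
  haveI : Module.Flat A₁ (LocalizedModule (Submonoid.powers t₁) M) :=
    (Module.flat_iff_of_isLocalization A₁ (Submonoid.powers t₁) _).2 hfl₁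
  haveI : Module.Flat A₁ M₁ := Module.Flat.of_linearEquiv (e₁ ≪≫ₗ e₂)
  -- the prime `P₁ = p A₁`
  have hdisj : Disjoint ((Submonoid.powers t₁ : Submonoid A) : Set A) (p : Set A) := by
    rw [Set.disjoint_left]
    rintro _ ⟨n, rfl⟩ hmem
    exact ht₁ (‹p.IsPrime›.mem_of_pow_mem n hmem)
  let P₁ : Ideal A₁ := p.map (algebraMap A A₁)
  haveI : P₁.IsPrime :=
    IsLocalization.isPrime_of_isPrime_disjoint (Submonoid.powers t₁) A₁ p inferInstance hdisj
  have hP₁ : P₁ ≤ nilradical A₁ := by
    rw [Ideal.map_le_iff_le_comap]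
    intro x hx
    exact (mem_nilradical.1 (hp hx)).map _
  obtain ⟨a₁, ha₁, hfree⟩ := exists_free_of_nil_prime A₁ B₁ M₁ P₁ hP₁
  obtain ⟨⟨x, s⟩, hxs⟩ := IsLocalization.surj (Submonoid.powers t₁) a₁
  have hx : x ∉ p := by
    intro hxp
    have h1 : a₁ * algebraMap A A₁ s ∈ P₁ := by
      rw [hxs]; exact Ideal.mem_map_of_mem _ hxp
    have hs : IsUnit (algebraMap A A₁ s) := IsLocalization.map_units A₁ s
    rcases ‹P₁.IsPrime›.mem_or_mem h1 with h2 | h2
    · exact ha₁ h2
    · exact ‹P₁.IsPrime›.ne_top (Ideal.eq_top_of_isUnit_mem _ h2 hs)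
  refine ⟨t₁ * x, fun h => (‹p.IsPrime›.mem_or_mem h).elim ht₁ hx, ?_⟩
  let t := t₁ * x
  let k := Localization.Away t
  have htu : IsUnit (algebraMap A k t) := IsLocalization.Away.algebraMap_isUnit t
  have hmul : algebraMap A k t = algebraMap A k t₁ * algebraMap A k x := map_mul _ _ _
  rw [hmul] at htu
  have ht₁u : IsUnit (algebraMap A k t₁) := isUnit_of_mul_isUnit_left htu
  have hxu : IsUnit (algebraMap A k x) := isUnit_of_mul_isUnit_right htu
  let χ : A₁ →+* k := IsLocalization.Away.lift t₁ ht₁u
  letI : Algebra A₁ k := χ.toAlgebra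
  haveI : IsScalarTower A A₁ k := IsScalarTower.of_algebraMap_eq
    (fun y => (IsLocalization.Away.lift_eq t₁ ht₁u y).symm)
  have ha₁u : IsUnit (algebraMap A₁ k a₁) := by
    have h1 := congrArg (algebraMap A₁ k) hxs
    rw [map_mul, ← IsScalarTower.algebraMap_apply A A₁ k, ← IsScalarTower.algebraMap_apply A A₁ k]
      at h1
    have h2 : IsUnit (algebraMap A₁ k a₁ * algebraMap A k s) := by rw [h1]; exact hxu
    exact isUnit_of_mul_isUnit_left h2
  haveI : Module.Free k (k ⊗[A₁] M₁) := hfree k ha₁u
  let E : k ⊗[A₁] M₁ ≃ₗ[k] LocalizedModule (Submonoid.powers t) M :=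
    (TensorProduct.AlgebraTensorModule.congr (LinearEquiv.refl k k) e₁) ≪≫ₗ
    (TensorProduct.AlgebraTensorModule.cancelBaseChange A A₁ k k M) ≪≫ₗ
    (LocalizedModule.equivTensorProduct (Submonoid.powers t) M).symm
  exact Module.Free.of_equiv E

end Groth.Agent.Lib.T2H3.FreeLoc
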