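import Mathlib
/-!
# Lifting smooth algebras along `R → R ⧸ I`, part 1: the Jacobian-type criterion (helper3)

* `formallySmooth_quotient_of_idempotent`: if `D₁` is formally smooth over `R`, `E` is a matrix,
  `f = Eᵀ f`, and there are `D₁`-linear forms `lam i` on `Ω[D₁⁄R]` with
  `lam i (d f_j) ≡ E i j` modulo `J = (f)`, then `D₁ ⧸ J` is formally smooth over `R`.
-/
set_option autoImplicit false
set_option linter.style.haveILetI false
universe u
open TensorProduct KaehlerDifferential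

namespace Groth.Agent.Lib.T2H3.SmoothLift

/-- Jacobian-type criterion with an idempotent-like matrix. -/
theorem formallySmooth_quotient_of_idempotent {R D₁ : Type u} [CommRing R] [CommRing D₁]
    [Algebra R D₁] [Algebra.FormallySmooth R D₁] {n : ℕ} (E : Matrix (Fin n) (Fin n) D₁)
    (f : Fin n → D₁) (hf : ∀ j, f j = ∑ i, E i j * f i)
    (lam : Fin n → (Ω[D₁⁄R] →ₗ[D₁] D₁))
    (hlam : ∀ i j, lam i (D R D₁ (f j)) - E i j ∈ Ideal.span (Set.range f)) :
    Algebra.FormallySmooth R (D₁ ⧸ Ideal.span (Set.range f)) := by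
  classical
  set J := Ideal.span (Set.range f) with hJ
  let P : Algebra.Extension R (D₁ ⧸ J) :=
    { Ring := D₁, σ := Function.surjInv Ideal.Quotient.mk_surjective,
      algebraMap_σ := Function.surjInv_eq _ }
  haveI : Algebra.FormallySmooth R P.Ring := ‹_›
  rw [P.formallySmooth_iff_split_injection]
  have hker : P.ker = J := Ideal.mk_ker
  have hfJ : ∀ i, f i ∈ J := fun i => Ideal.subset_span ⟨i, rfl⟩
  have hfmem : ∀ i, f i ∈ P.ker := fun i => hker.ge (hfJ i)
  let Λ : Fin n → (P.CotangentSpace →ₗ[D₁ ⧸ J] (D₁ ⧸ J)) := fun i =>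
    LinearMap.liftBaseChange (D₁ ⧸ J) ((Algebra.linearMap D₁ (D₁ ⧸ J)) ∘ₗ lam i)
  let l : P.CotangentSpace →ₗ[D₁ ⧸ J] P.Cotangent :=
    ∑ i, (Λ i).smulRight (Algebra.Extension.Cotangent.mk ⟨f i, hfmem i⟩)
  refine ⟨l, LinearMap.ext fun x => ?_⟩
  obtain ⟨⟨y, hy⟩, rfl⟩ := Algebra.Extension.Cotangent.mk_surjective x
  have hyJ : y ∈ J := hker.le hy
  have hmem : ∑ i, lam i (D R D₁ y) * f i ∈ P.ker :=
    Ideal.sum_mem _ fun i _ => Ideal.mul_mem_left _ _ (hfmem i)
  have h1 : l (P.cotangentComplex (Algebra.Extension.Cotangent.mk ⟨y, hy⟩)) =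
      Algebra.Extension.Cotangent.mk ⟨∑ i, lam i (D R D₁ y) * f i, hmem⟩ := by
    rw [Algebra.Extension.cotangentComplex_mk]
    simp only [l, LinearMap.sum_apply, LinearMap.smulRight_apply, Λ]
    have : (⟨∑ i, lam i (D R D₁ y) * f i, hmem⟩ : P.ker) =
        ∑ i, lam i (D R D₁ y) • (⟨f i, hfmem i⟩ : P.ker) := by
      apply Subtype.ext
      simp
    rw [this, map_sum]
    refine Finset.sum_congr rfl fun i _ => ?_
    rw [map_smul, LinearMap.liftBaseChange_tmul, one_smul, LinearMap.comp_apply,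
      Algebra.linearMap_apply, algebraMap_smul]
  rw [LinearMap.comp_apply, h1, LinearMap.id_apply, Algebra.Extension.Cotangent.mk_eq_mk_iff_sub_mem]
  simp only
  rw [hker]
  -- the ideal computation
  obtain ⟨c, rfl⟩ := (Ideal.mem_span_range_iff_exists_fun).mp hyJ
  have key : ∀ j, ∑ i, lam i (D R D₁ (c j * f j)) * f i - c j * f j ∈ J ^ 2 := by
    intro j
    have e1 : c j * f j = ∑ i, c j * (E i j * f i) := by
      conv_lhs => rw [hf j, Finset.mul_sum]
    have e2 : ∀ i, lam i (D R D₁ (c j * f j)) =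
        c j * lam i (D R D₁ (f j)) + f j * lam i (D R D₁ (c j)) := by
      intro i
      rw [Derivation.leibniz, map_add, map_smul, map_smul, smul_eq_mul, smul_eq_mul]
    rw [e1, ← Finset.sum_sub_distrib]
    refine Ideal.sum_mem _ fun i _ => ?_
    rw [← e1, e2 i]
    have e3 : (c j * lam i (D R D₁ (f j)) + f j * lam i (D R D₁ (c j))) * f i
        - c j * (E i j * f i) =
        c j * ((lam i (D R D₁ (f j)) - E i j) * f i) + lam i (D R D₁ (c j)) * (f j * f i) := by
      ring
    rw [e3, pow_two]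
    exact add_mem (Ideal.mul_mem_left _ _ (Ideal.mul_mem_mul (hlam i j) (hfJ i)))
      (Ideal.mul_mem_left _ _ (Ideal.mul_mem_mul (hfJ j) (hfJ i)))
  have e4 : ∑ i, lam i (D R D₁ (∑ j, c j * f j)) * f i - ∑ j, c j * f j =
      ∑ j, (∑ i, lam i (D R D₁ (c j * f j)) * f i - c j * f j) := by
    rw [Finset.sum_sub_distrib, Finset.sum_comm]
    congr 1
    refine Finset.sum_congr rfl fun i _ => ?_
    rw [map_sum, map_sum, Finset.sum_mul]
  rw [e4]
  exact Ideal.sum_mem _ fun j _ => key j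

end Groth.Agent.Lib.T2H3.SmoothLift
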