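import Mathlib
import Groth.Agent.Lib.T2H3SmoothLift1
/-!
# Lifting smooth algebras along `R → R ⧸ I`, part 2: the core construction (helper3)

`exists_smooth_of_core`: `P` smooth over `R`, `ψ : P → A₀` surjective with kernel
`𝔞 ⊇ I P` finitely generated modulo `I P`, an idempotent matrix `E` over `P`, elements `F i ∈ 𝔞`, `P`-linear forms `ℓ i` on
`Ω[P⁄R]` with `ψ (ℓ i (d F_j)) = ψ (E i j)` and `y ≡ ∑ ℓ i (d y) F_i` modulo `𝔞² + I P` for all
`y ∈ 𝔞`.  Then there is a smooth `R`-algebra `A` with a surjection `A → A₀` with kernel `I A`.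
-/
set_option autoImplicit false
set_option linter.style.haveILetI false
universe u
open TensorProduct KaehlerDifferential

namespace Groth.Agent.Lib.T2H3.SmoothLift

theorem exists_smooth_of_core {R P A₀ : Type u} [CommRing R] [CommRing P] [CommRing A₀]
    [Algebra R P] [Algebra R A₀] [Algebra.Smooth R P] (I : Ideal R)
    (ψ : P →ₐ[R] A₀) (hψ : Function.Surjective ψ)
    (hI : I.map (algebraMap R P) ≤ RingHom.ker ψ)
    (hfg : ∃ 𝔠 : Ideal P, 𝔠.FG ∧ RingHom.ker ψ = 𝔠 ⊔ I.map (algebraMap R P))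
    {n : ℕ} (E : Matrix (Fin n) (Fin n) P) (hE : IsIdempotentElem E)
    (F : Fin n → P) (hF : ∀ i, ψ (F i) = 0)
    (ℓ : Fin n → (Ω[P⁄R] →ₗ[P] P))
    (hℓ : ∀ i j, ψ (ℓ i (D R P (F j))) = ψ (E i j))
    (hstar : ∀ y ∈ RingHom.ker ψ, y - ∑ i, ℓ i (D R P y) * F i ∈
        (RingHom.ker ψ) ^ 2 ⊔ I.map (algebraMap R P)) :
    ∃ (A : Type u) (_ : CommRing A) (_ : Algebra R A), Algebra.Smooth R A ∧
      ∃ π : A →ₐ[R] A₀, Function.Surjective π ∧ RingHom.ker π = I.map (algebraMap R A) := by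
  classical
  set 𝔞 := RingHom.ker ψ with h𝔞
  set IP := I.map (algebraMap R P) with hIP
  have mem𝔞 : ∀ x, x ∈ 𝔞 ↔ ψ x = 0 := fun x => RingHom.mem_ker
  -- (a) the generators `f = Eᵀ F`
  let f : Fin n → P := fun j => ∑ i, E i j * F i
  have hEE : ∀ l j, ∑ i, E l i * E i j = E l j := fun l j => by
    have := congrFun (congrFun hE.eq l) j
    rwa [Matrix.mul_apply] at this
  have hf : ∀ j, f j = ∑ i, E i j * f i := by
    intro j
    simp only [f]
    simp_rw [Finset.mul_sum]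
    rw [Finset.sum_comm]
    refine Finset.sum_congr rfl fun l _ => ?_
    rw [← hEE l j, Finset.sum_mul]
    refine Finset.sum_congr rfl fun i _ => by ring
  have hF𝔞 : ∀ j, F j ∈ 𝔞 := fun j => (mem𝔞 _).mpr (hF j)
  have hf𝔞 : ∀ j, f j ∈ 𝔞 := fun j =>
    Ideal.sum_mem _ fun i _ => Ideal.mul_mem_left _ _ (hF𝔞 i)
  have hℓ𝔞 : ∀ i j, ℓ i (D R P (F j)) - E i j ∈ 𝔞 := fun i j => by
    rw [mem𝔞, map_sub, hℓ, sub_self]
  have hFf : ∀ j, F j - f j ∈ 𝔞 ^ 2 ⊔ IP := by
    intro j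
    have h1 := hstar (F j) (hF𝔞 j)
    have h2 : ∑ i, ℓ i (D R P (F j)) * F i - f j ∈ 𝔞 ^ 2 := by
      simp only [f]
      rw [← Finset.sum_sub_distrib]
      refine Ideal.sum_mem _ fun i _ => ?_
      rw [← sub_mul, pow_two]
      exact Ideal.mul_mem_mul (hℓ𝔞 i j) (hF𝔞 i)
    have : F j - f j = (F j - ∑ i, ℓ i (D R P (F j)) * F i) +
        (∑ i, ℓ i (D R P (F j)) * F i - f j) := by ring
    rw [this]
    exact add_mem h1 (Ideal.mem_sup_left h2)
  set 𝔟 := IP ⊔ Ideal.span (Set.range f) with h𝔟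
  have h𝔟𝔞 : 𝔟 ≤ 𝔞 :=
    sup_le hI (Ideal.span_le.mpr (by rintro _ ⟨j, rfl⟩; exact hf𝔞 j))
  have hle1 : 𝔞 ^ 2 ⊔ IP ≤ 𝔟 ⊔ 𝔞 ^ 2 := sup_le le_sup_right (le_sup_of_le_left le_sup_left)
  have h𝔞𝔟 : ∀ y ∈ 𝔞, y ∈ 𝔟 ⊔ 𝔞 ^ 2 := by
    intro y hy
    have h1 := hstar y hy
    have : y = (y - ∑ i, ℓ i (D R P y) * F i) + (∑ i, ℓ i (D R P y) * (F i - f i)) +
        ∑ i, ℓ i (D R P y) * f i := by
      simp only [mul_sub, Finset.sum_sub_distrib]
      ring
    rw [this]
    refine add_mem (add_mem (hle1 h1) ?_) ?_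
    · exact Ideal.sum_mem _ fun i _ => Ideal.mul_mem_left _ _ (hle1 (hFf i))
    · exact Ideal.mem_sup_left (Ideal.mem_sup_right (Ideal.sum_mem _ fun i _ =>
        Ideal.mul_mem_left _ _ (Ideal.subset_span ⟨i, rfl⟩)))
  -- (b) Nakayama
  obtain ⟨h, hh1, hh2⟩ : ∃ h : P, h - 1 ∈ 𝔞 ∧ ∀ y ∈ 𝔞, h * y ∈ 𝔟 := by
    let N : Submodule P (P ⧸ 𝔟) := Submodule.map (Submodule.mkQ 𝔟) 𝔞
    have hN : N.FG := by
      obtain ⟨𝔠, h𝔠fg, h𝔠⟩ := hfg
      have hNeq : N = Submodule.map (Submodule.mkQ 𝔟) 𝔠 := by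
        have h0 : Submodule.map (Submodule.mkQ 𝔟) IP = ⊥ := by
          rw [← LinearMap.le_ker_iff_map, Submodule.ker_mkQ]
          exact le_sup_left
        simp only [N]
        rw [h𝔠, Submodule.map_sup, h0, sup_bot_eq]
      rw [hNeq]
      exact Submodule.FG.map _ h𝔠fg
    have hle : N ≤ 𝔞 • N := by
      rintro _ ⟨y, hy, rfl⟩
      obtain ⟨b, hb, z, hz, rfl⟩ := Submodule.mem_sup.mp (h𝔞𝔟 y hy)
      have e1 : Submodule.mkQ 𝔟 (b + z) = Submodule.mkQ 𝔟 z := by
        rw [map_add, Submodule.mkQ_apply, (Submodule.Quotient.mk_eq_zero 𝔟).mpr hb, zero_add]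
      rw [e1]
      have hz' : z ∈ 𝔞 • (𝔞 : Submodule P P) := by rwa [pow_two] at hz
      rw [← Submodule.map_smul'']
      exact Submodule.mem_map_of_mem hz'
    obtain ⟨r, hr1, hr2⟩ :=
      Submodule.exists_sub_one_mem_and_smul_eq_zero_of_fg_of_le_smul 𝔞 N hN hle
    refine ⟨r, hr1, fun y hy => ?_⟩
    have := hr2 _ (Submodule.mem_map_of_mem hy)
    rw [← map_smul, smul_eq_mul, Submodule.mkQ_apply] at this
    exact (Submodule.Quotient.mk_eq_zero 𝔟).mp this
  -- (c) the matrices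
  let M : Matrix (Fin n) (Fin n) P := Matrix.of fun i j => ℓ i (D R P (f j))
  have hψM : ∀ k j, ψ (M k j) = ψ (E k j) := by
    intro k j
    have hDf : ℓ k (D R P (f j)) =
        ∑ i, (E i j * ℓ k (D R P (F i)) + F i * ℓ k (D R P (E i j))) := by
      simp only [f, map_sum, Derivation.leibniz, map_add, map_smul, smul_eq_mul]
    simp only [M, Matrix.of_apply]
    rw [hDf, map_sum, ← hEE k j, map_sum]
    refine Finset.sum_congr rfl fun i _ => ?_
    rw [map_add, map_mul, map_mul, hF, zero_mul, add_zero, hℓ, map_mul, mul_comm]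
  have hMME : ∀ k j, M k j - (M * E) k j ∈ Ideal.span (Set.range f) := by
    intro k j
    have e1 : M k j = ∑ i, (E i j * M k i + f i * ℓ k (D R P (E i j))) := by
      simp only [M, Matrix.of_apply]
      conv_lhs => rw [hf j]
      simp only [map_sum, Derivation.leibniz, map_add, map_smul, smul_eq_mul]
    rw [Matrix.mul_apply, e1, ← Finset.sum_sub_distrib]
    refine Ideal.sum_mem _ fun i _ => ?_
    have : E i j * M k i + f i * ℓ k (D R P (E i j)) - M k i * E i j =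
        ℓ k (D R P (E i j)) * f i := by ring
    rw [this]
    exact Ideal.mul_mem_left _ _ (Ideal.subset_span ⟨i, rfl⟩)
  let U : Matrix (Fin n) (Fin n) P := E * M * E + (1 - E)
  have hψME : (ψ : P →+* A₀).mapMatrix M = (ψ : P →+* A₀).mapMatrix E := by
    ext k j
    simp only [RingHom.mapMatrix_apply, Matrix.map_apply]
    exact hψM k j
  have hψU : (ψ : P →+* A₀).mapMatrix U = 1 := by
    have hp : (ψ : P →+* A₀).mapMatrix E * (ψ : P →+* A₀).mapMatrix E =
        (ψ : P →+* A₀).mapMatrix E := by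
      rw [← map_mul, hE.eq]
    simp only [U, map_add, map_mul, map_sub, map_one, hψME]
    rw [hp, hp]
    abel
  have hψg : ψ U.det = 1 := by
    have := RingHom.map_det (ψ : P →+* A₀) U
    rw [hψU, Matrix.det_one] at this
    exact this
  have hUE : U * E = E * M * E := by
    simp only [U, add_mul, sub_mul, one_mul, Matrix.mul_assoc, hE.eq, sub_self, add_zero]
  have hadj : U.adjugate * E * (M * E) = U.det • E := by
    rw [Matrix.mul_assoc, ← Matrix.mul_assoc E M E, ← hUE, ← Matrix.mul_assoc,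
      Matrix.adjugate_mul, Matrix.smul_mul, one_mul]
  -- (e) the localization
  have hψh : ψ h = 1 := by
    have := (mem𝔞 _).mp hh1
    rwa [map_sub, map_one, sub_eq_zero] at this
  obtain ⟨c, hc⟩ : ∃ c : P, c = U.det * h := ⟨_, rfl⟩
  have hψc : ψ c = 1 := by rw [hc, map_mul, hψg, hψh, one_mul]
  let P₁ := Localization.Away c
  haveI : Algebra.Smooth P P₁ := Algebra.Smooth.of_isLocalization_Away c
  haveI : Algebra.Smooth R P₁ := Algebra.Smooth.comp R P P₁
  haveI : Algebra.FormallyEtale P P₁ :=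
    Algebra.FormallyEtale.of_isLocalization (Rₘ := P₁) (Submonoid.powers c)
  let ι : P →+* P₁ := algebraMap P P₁
  have hιc : ι c = ι U.det * ι h := (congrArg ι hc).trans (map_mul ι _ _)
  let f₁ : Fin n → P₁ := fun j => ι (f j)
  let J₁ : Ideal P₁ := Ideal.span (Set.range f₁)
  let E₁ : Matrix (Fin n) (Fin n) P₁ := ι.mapMatrix E
  have hf₁ : ∀ j, f₁ j = ∑ i, E₁ i j * f₁ i := by
    intro j
    simp only [f₁, E₁, RingHom.mapMatrix_apply, Matrix.map_apply]
    conv_lhs => rw [hf j]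
    rw [map_sum]
    simp only [map_mul]
  let ℓ₁ : Fin n → (Ω[P₁⁄R] →ₗ[P₁] P₁) := fun k =>
    (KaehlerDifferential.isBaseChange_of_formallyEtale R P P₁).lift
      ((Algebra.linearMap P P₁) ∘ₗ ℓ k)
  have hℓ₁ : ∀ k x, ℓ₁ k (D R P₁ (ι x)) = ι (ℓ k (D R P x)) := by
    intro k x
    have := (KaehlerDifferential.isBaseChange_of_formallyEtale R P P₁).lift_eq
      ((Algebra.linearMap P P₁) ∘ₗ ℓ k) (D R P x)
    rw [KaehlerDifferential.map_D] at this
    exact this
  let invc : P₁ := IsLocalization.Away.invSelf c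
  have hinvc : ι c * invc = 1 := IsLocalization.Away.mul_invSelf c
  let W : Matrix (Fin n) (Fin n) P₁ := (invc * ι h) • ι.mapMatrix (U.adjugate * E)
  have hWME : W * ι.mapMatrix (M * E) = E₁ := by
    simp only [W, E₁]
    rw [Matrix.smul_mul, ← map_mul, hadj]
    ext i j
    simp only [Matrix.smul_apply, RingHom.mapMatrix_apply, Matrix.map_apply, smul_eq_mul, map_mul]
    have : invc * ι h * (ι U.det * ι (E i j)) = (ι c * invc) * ι (E i j) := by
      rw [hιc]; ring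
    rw [this, hinvc, one_mul]
  let lam : Fin n → (Ω[P₁⁄R] →ₗ[P₁] P₁) := fun i => ∑ k, W i k • ℓ₁ k
  have hlam : ∀ i j, lam i (D R P₁ (f₁ j)) - E₁ i j ∈ J₁ := by
    intro i j
    have e1 : lam i (D R P₁ (f₁ j)) = ∑ k, W i k * ι (M k j) := by
      simp only [lam, LinearMap.sum_apply, LinearMap.smul_apply, smul_eq_mul, f₁, hℓ₁]
      rfl
    have e2 : E₁ i j = ∑ k, W i k * ι ((M * E) k j) := by
      conv_lhs => rw [← hWME]
      rw [Matrix.mul_apply]
      rfl
    rw [e1, e2, ← Finset.sum_sub_distrib]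
    refine Ideal.sum_mem _ fun k _ => ?_
    rw [← mul_sub, ← map_sub]
    refine Ideal.mul_mem_left _ _ ?_
    have := Ideal.mem_map_of_mem ι (hMME k j)
    rw [Ideal.map_span] at this
    refine Ideal.span_mono ?_ this
    rintro _ ⟨_, ⟨j', rfl⟩, rfl⟩
    exact ⟨j', rfl⟩
  haveI : Algebra.FormallySmooth R P₁ := inferInstance
  have hfs : Algebra.FormallySmooth R (P₁ ⧸ J₁) :=
    formallySmooth_quotient_of_idempotent E₁ f₁ hf₁ lam hlam
  haveI : Algebra.FinitePresentation R P₁ := inferInstance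
  have hfp : Algebra.FinitePresentation R (P₁ ⧸ J₁) :=
    Algebra.FinitePresentation.quotient (Submodule.fg_span (Set.finite_range f₁))
  -- (f) the map to `A₀`
  have hunits : ∀ y : Submonoid.powers c, IsUnit (ψ y) := by
    rintro ⟨_, k, rfl⟩
    rw [map_pow, hψc, one_pow]
    exact isUnit_one
  let ψ₁ : P₁ →ₐ[R] A₀ := IsLocalization.liftAlgHom (M := Submonoid.powers c) (f := ψ) hunits
  have hψ₁ : ∀ x, ψ₁ (ι x) = ψ x := fun x => IsLocalization.lift_eq _ x
  have hJ₁ : ∀ a ∈ J₁, ψ₁ a = 0 := by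
    intro a ha
    have : J₁ ≤ RingHom.ker ψ₁ := by
      refine Ideal.span_le.mpr ?_
      rintro _ ⟨j, rfl⟩
      change ψ₁ (ι (f j)) = 0
      rw [hψ₁]
      exact (mem𝔞 _).mp (hf𝔞 j)
    exact this ha
  let π : (P₁ ⧸ J₁) →ₐ[R] A₀ := Ideal.Quotient.liftₐ J₁ ψ₁ hJ₁
  have hπ : ∀ x, π (Ideal.Quotient.mk J₁ x) = ψ₁ x := fun x => rfl
  refine ⟨P₁ ⧸ J₁, inferInstance, inferInstance, ⟨hfs, hfp⟩, π, ?_, ?_⟩
  · intro a
    obtain ⟨x, rfl⟩ := hψ a
    exact ⟨Ideal.Quotient.mk J₁ (ι x), by rw [hπ, hψ₁]⟩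
  · have hιh : IsUnit (ι h) := by
      have : IsUnit (ι c) := IsLocalization.map_units P₁ (⟨c, Submonoid.mem_powers c⟩ : Submonoid.powers c)
      rw [hιc] at this
      exact isUnit_of_mul_isUnit_right this
    apply le_antisymm
    · intro x hx
      obtain ⟨x₁, rfl⟩ := Ideal.Quotient.mk_surjective x
      obtain ⟨d, s, rfl⟩ := IsLocalization.exists_mk'_eq (Submonoid.powers c) x₁
      have hs : IsUnit (ι s) := IsLocalization.map_units P₁ s
      have h0 : ψ₁ (IsLocalization.mk' P₁ d s) = 0 := hx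
      have h1 : ψ d = 0 := by
        have := IsLocalization.mk'_spec P₁ d s
        have h2 := congrArg ψ₁ this
        rw [map_mul, h0, zero_mul] at h2
        rw [← hψ₁]
        exact h2.symm
      have h2 : h * d ∈ 𝔟 := hh2 d ((mem𝔞 _).mpr h1)
      set K : Ideal P₁ := I.map (algebraMap R P₁) ⊔ J₁ with hK
      have h3 : ι (h * d) ∈ K := by
        have := Ideal.mem_map_of_mem ι h2
        rw [h𝔟, Ideal.map_sup, hIP, Ideal.map_map, Ideal.map_span] at this
        have e1 : ι.comp (algebraMap R P) = algebraMap R P₁ :=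
          (IsScalarTower.algebraMap_eq R P P₁).symm
        rw [e1] at this
        have hle : Ideal.span (ι '' Set.range f) ≤ J₁ := by
          refine Ideal.span_mono ?_
          rintro _ ⟨_, ⟨j', rfl⟩, rfl⟩
          exact ⟨j', rfl⟩
        exact (sup_le_sup_left hle (I.map (algebraMap R P₁))) this
      have h4 : ι d ∈ K := by
        rw [map_mul] at h3
        exact (Ideal.unit_mul_mem_iff_mem K hιh).mp h3
      have h5 : IsLocalization.mk' P₁ d s ∈ K := by
        rw [← IsLocalization.mk'_spec P₁ d s] at h4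
        exact (Ideal.mul_unit_mem_iff_mem K hs).mp h4
      have h6 := Ideal.mem_map_of_mem (Ideal.Quotient.mk J₁) h5
      rw [hK, Ideal.map_sup, Ideal.map_quotient_self, sup_bot_eq, Ideal.map_map] at h6
      exact h6
    · rw [Ideal.map_le_iff_le_comap]
      intro r hr
      rw [Ideal.mem_comap, RingHom.mem_ker, AlgHom.commutes, ← ψ.commutes]
      exact (mem𝔞 _).mp (hI (Ideal.mem_map_of_mem _ hr))

end Groth.Agent.Lib.T2H3.SmoothLift
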