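import Mathlib
import Groth.Agent.Lib.T2H3SmoothLift2
import Groth.Agent.Lib.Helper20EtProj
/-!
# Lifting smooth algebras along `R → R ⧸ I`, part 3: étale localization (helper3)

`exists_smooth_of_forms`: as `exists_smooth_of_core` but without the idempotent matrix; it is
produced on an étale neighbourhood using `Helper20.EtProj.exists_etale_lift_idempotent_matrix`.
-/
set_option autoImplicit false
set_option linter.style.haveILetI false
universe u
open TensorProduct KaehlerDifferential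

namespace Groth.Agent.Lib.T2H3.SmoothLift

theorem exists_smooth_of_forms {R P₀ A₀ : Type u} [CommRing R] [CommRing P₀] [CommRing A₀]
    [Algebra R P₀] [Algebra R A₀] [Algebra.Smooth R P₀] (I : Ideal R)
    (ψ₀ : P₀ →ₐ[R] A₀) (hψ₀ : Function.Surjective ψ₀)
    (hI : I.map (algebraMap R P₀) ≤ RingHom.ker ψ₀)
    (hfg : ∃ 𝔠 : Ideal P₀, 𝔠.FG ∧ RingHom.ker ψ₀ = 𝔠 ⊔ I.map (algebraMap R P₀))
    {n : ℕ} (F : Fin n → P₀) (hF : ∀ i, ψ₀ (F i) = 0)
    (ℓ : Fin n → (Ω[P₀⁄R] →ₗ[P₀] P₀))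
    (hstar : ∀ y ∈ RingHom.ker ψ₀, y - ∑ i, ℓ i (D R P₀ y) * F i ∈
        (RingHom.ker ψ₀) ^ 2 ⊔ I.map (algebraMap R P₀)) :
    ∃ (A : Type u) (_ : CommRing A) (_ : Algebra R A), Algebra.Smooth R A ∧
      ∃ π : A →ₐ[R] A₀, Function.Surjective π ∧ RingHom.ker π = I.map (algebraMap R A) := by
  classical
  set 𝔞 := RingHom.ker ψ₀ with h𝔞
  set IP := I.map (algebraMap R P₀) with hIP
  have hF𝔞 : ∀ j, F j ∈ 𝔞 := fun j => RingHom.mem_ker.mpr (hF j)
  -- derivations preserve `𝔞² ⊔ IP` up to `𝔞`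
  have hder : ∀ k, ∀ z ∈ 𝔞 ^ 2 ⊔ IP, ℓ k (D R P₀ z) ∈ 𝔞 := by
    intro k z hz
    obtain ⟨a, ha, b, hb, rfl⟩ := Submodule.mem_sup.mp hz
    rw [map_add, map_add]
    refine add_mem ?_ ?_
    · rw [pow_two] at ha
      refine Submodule.mul_induction_on ha ?_ ?_
      · intro m hm m' hm'
        rw [Derivation.leibniz, map_add, map_smul, map_smul, smul_eq_mul, smul_eq_mul]
        exact add_mem (Ideal.mul_mem_right _ _ hm) (Ideal.mul_mem_right _ _ hm')
      · intro x y hx hy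
        rw [map_add, map_add]
        exact add_mem hx hy
    · have : b ∈ IP ∧ ℓ k (D R P₀ b) ∈ 𝔞 := by
        rw [hIP, Ideal.map] at hb
        refine Submodule.span_induction (p := fun b _ => b ∈ IP ∧ ℓ k (D R P₀ b) ∈ 𝔞)
          ?_ ?_ ?_ ?_ hb
        · rintro _ ⟨r, hr, rfl⟩
          refine ⟨Ideal.mem_map_of_mem _ hr, ?_⟩
          rw [Derivation.map_algebraMap, map_zero]
          exact zero_mem _
        · exact ⟨zero_mem _, by rw [map_zero, map_zero]; exact zero_mem _⟩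
        · rintro x y _ _ ⟨hx1, hx2⟩ ⟨hy1, hy2⟩
          exact ⟨add_mem hx1 hy1, by rw [map_add, map_add]; exact add_mem hx2 hy2⟩
        · rintro a x _ ⟨hx1, hx2⟩
          refine ⟨Ideal.mul_mem_left _ _ hx1, ?_⟩
          rw [smul_eq_mul, Derivation.leibniz, map_add, map_smul, map_smul, smul_eq_mul,
            smul_eq_mul]
          exact add_mem (Ideal.mul_mem_left _ _ hx2) (Ideal.mul_mem_right _ _ (hI hx1))
      exact this.2
  let G : Matrix (Fin n) (Fin n) P₀ := Matrix.of fun i j => ℓ i (D R P₀ (F j))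
  have hGG : ∀ k j, (G * G) k j - G k j ∈ 𝔞 := by
    intro k j
    have h1 := hder k _ (hstar (F j) (hF𝔞 j))
    have e1 : ℓ k (D R P₀ (F j - ∑ i, ℓ i (D R P₀ (F j)) * F i)) =
        G k j - ∑ i, (G i j * G k i + F i * ℓ k (D R P₀ (G i j))) := by
      simp only [map_sub, map_sum, Derivation.leibniz, map_add, map_smul, smul_eq_mul, G,
        Matrix.of_apply]
    rw [e1] at h1
    have e2 : (G * G) k j - G k j = -(G k j - ∑ i, (G i j * G k i + F i * ℓ k (D R P₀ (G i j))))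
        - ∑ i, ℓ k (D R P₀ (G i j)) * F i := by
      rw [Matrix.mul_apply, Finset.sum_add_distrib]
      have : ∑ i, F i * ℓ k (D R P₀ (G i j)) = ∑ i, ℓ k (D R P₀ (G i j)) * F i :=
        Finset.sum_congr rfl fun i _ => mul_comm _ _
      have e3 : ∑ i, G i j * G k i = ∑ i, G k i * G i j :=
        Finset.sum_congr rfl fun i _ => mul_comm _ _
      rw [this, e3]
      ring
    rw [e2]
    exact sub_mem (neg_mem h1) (Ideal.sum_mem _ fun i _ => Ideal.mul_mem_left _ _ (hF𝔞 i))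
  let p : Matrix (Fin n) (Fin n) (P₀ ⧸ 𝔞) := (Ideal.Quotient.mk 𝔞).mapMatrix G
  have hp : IsIdempotentElem p := by
    change p * p = p
    simp only [p]
    rw [← map_mul]
    ext k j
    simp only [RingHom.mapMatrix_apply, Matrix.map_apply]
    rw [Ideal.Quotient.eq]
    exact hGG k j
  obtain ⟨P', _, _, hét, hbij, E', hE', hE'map⟩ :=
    Groth.Agent.Lib.Helper20.EtProj.exists_etale_lift_idempotent_matrix 𝔞 p hp
  letI : Algebra R P' := ((algebraMap P₀ P').comp (algebraMap R P₀)).toAlgebra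
  haveI : IsScalarTower R P₀ P' := IsScalarTower.of_algebraMap_eq (fun _ => rfl)
  haveI : Algebra.FormallyEtale P₀ P' := hét.formallyEtale
  haveI : Algebra.FinitePresentation P₀ P' := hét.finitePresentation
  haveI : Algebra.Smooth P₀ P' := ⟨inferInstance, inferInstance⟩
  haveI : Algebra.Smooth R P' := Algebra.Smooth.comp R P₀ P'
  let ι : P₀ →+* P' := algebraMap P₀ P'
  set 𝔞' := 𝔞.map ι with h𝔞'
  let ψ' : P' →ₐ[R] (P' ⧸ 𝔞') := Ideal.Quotient.mkₐ R 𝔞'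
  have hkerψ' : RingHom.ker ψ' = 𝔞' := Ideal.Quotient.mkₐ_ker R 𝔞'
  have hψ'0 : ∀ x, ψ' x = 0 ↔ x ∈ 𝔞' := fun x => Ideal.Quotient.eq_zero_iff_mem
  let F' : Fin n → P' := fun i => ι (F i)
  have hF'𝔞 : ∀ i, F' i ∈ 𝔞' := fun i => Ideal.mem_map_of_mem ι (hF𝔞 i)
  let ℓ' : Fin n → (Ω[P'⁄R] →ₗ[P'] P') := fun k =>
    (KaehlerDifferential.isBaseChange_of_formallyEtale R P₀ P').lift
      ((Algebra.linearMap P₀ P') ∘ₗ ℓ k)
  have hℓ' : ∀ k x, ℓ' k (D R P' (ι x)) = ι (ℓ k (D R P₀ x)) := by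
    intro k x
    have := (KaehlerDifferential.isBaseChange_of_formallyEtale R P₀ P').lift_eq
      ((Algebra.linearMap P₀ P') ∘ₗ ℓ k) (D R P₀ x)
    rw [KaehlerDifferential.map_D] at this
    exact this
  have hIP' : I.map (algebraMap R P') = IP.map ι := by
    rw [hIP, Ideal.map_map]
    rfl
  have hI' : I.map (algebraMap R P') ≤ RingHom.ker ψ' := by
    rw [hkerψ', hIP']
    exact Ideal.map_mono hI
  have hfg' : ∃ 𝔠 : Ideal P', 𝔠.FG ∧ RingHom.ker ψ' = 𝔠 ⊔ I.map (algebraMap R P') := by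
    obtain ⟨𝔠, h𝔠fg, h𝔠⟩ := hfg
    refine ⟨𝔠.map ι, h𝔠fg.map ι, ?_⟩
    rw [hkerψ', hIP', h𝔞', h𝔠, Ideal.map_sup]
  have hstar' : ∀ y ∈ RingHom.ker ψ', y - ∑ i, ℓ' i (D R P' y) * F' i ∈
      (RingHom.ker ψ') ^ 2 ⊔ I.map (algebraMap R P') := by
    rw [hkerψ']
    intro y hy
    have : y ∈ 𝔞' ∧ y - ∑ i, ℓ' i (D R P' y) * F' i ∈ 𝔞' ^ 2 ⊔ I.map (algebraMap R P') := by
      rw [h𝔞', Ideal.map] at hy
      refine Submodule.span_induction
        (p := fun y _ => y ∈ 𝔞' ∧ y - ∑ i, ℓ' i (D R P' y) * F' i ∈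
          𝔞' ^ 2 ⊔ I.map (algebraMap R P')) ?_ ?_ ?_ ?_ hy
      · rintro _ ⟨y₀, hy₀, rfl⟩
        refine ⟨Ideal.mem_map_of_mem ι hy₀, ?_⟩
        have h1 := Ideal.mem_map_of_mem ι (hstar y₀ hy₀)
        rw [Ideal.map_sup, Ideal.map_pow, ← hIP'] at h1
        have e1 : ι (y₀ - ∑ i, ℓ i (D R P₀ y₀) * F i) =
            ι y₀ - ∑ i, ℓ' i (D R P' (ι y₀)) * F' i := by
          simp only [map_sub, map_sum, map_mul, hℓ', F']
        rw [e1] at h1
        exact h1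
      · refine ⟨zero_mem _, ?_⟩
        simp only [map_zero, zero_mul, Finset.sum_const_zero, sub_zero]
        exact zero_mem _
      · rintro x y _ _ ⟨hx1, hx2⟩ ⟨hy1, hy2⟩
        refine ⟨add_mem hx1 hy1, ?_⟩
        have : x + y - ∑ i, ℓ' i (D R P' (x + y)) * F' i =
            (x - ∑ i, ℓ' i (D R P' x) * F' i) + (y - ∑ i, ℓ' i (D R P' y) * F' i) := by
          simp only [map_add, add_mul, Finset.sum_add_distrib]
          ring
        rw [this]
        exact add_mem hx2 hy2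
      · rintro a x _ ⟨hx1, hx2⟩
        refine ⟨Ideal.mul_mem_left _ _ hx1, ?_⟩
        have : a • x - ∑ i, ℓ' i (D R P' (a • x)) * F' i =
            a * (x - ∑ i, ℓ' i (D R P' x) * F' i) - ∑ i, ℓ' i (D R P' a) * (x * F' i) := by
          simp only [smul_eq_mul, Derivation.leibniz, map_add, map_smul, add_mul,
            Finset.sum_add_distrib, mul_sub, Finset.mul_sum]
          have e1 : ∑ i, a * ℓ' i (D R P' x) * F' i = ∑ i, a * (ℓ' i (D R P' x) * F' i) :=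
            Finset.sum_congr rfl fun i _ => mul_assoc _ _ _
          have e2 : ∑ i, x * ℓ' i (D R P' a) * F' i = ∑ i, ℓ' i (D R P' a) * (x * F' i) :=
            Finset.sum_congr rfl fun i _ => by ring
          rw [e1, e2]
          ring
        rw [this]
        refine sub_mem (Ideal.mul_mem_left _ _ hx2) (Ideal.mem_sup_left ?_)
        refine Ideal.sum_mem _ fun i _ => Ideal.mul_mem_left _ _ ?_
        rw [pow_two]
        exact Ideal.mul_mem_mul hx1 (hF'𝔞 i)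
    exact this.2
  have hℓE : ∀ i j, ψ' (ℓ' i (D R P' (F' j))) = ψ' (E' i j) := by
    intro i j
    have h3 := congr_fun (congr_fun hE'map i) j
    simp only [Matrix.map_apply, p, RingHom.mapMatrix_apply] at h3
    simp only [F', hℓ']
    change Ideal.Quotient.mk 𝔞' (ι (G i j)) = Ideal.Quotient.mk 𝔞' (E' i j)
    rw [h3]
    rfl
  obtain ⟨A, _, _, hsm, π', hπ', hkerπ'⟩ := exists_smooth_of_core I ψ'
    (Ideal.Quotient.mkₐ_surjective R 𝔞') hI' hfg' E' hE' F'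
    (fun i => (hψ'0 _).mpr (hF'𝔞 i)) ℓ' hℓE hstar'
  -- transport along `P' ⧸ 𝔞' ≅ P₀ ⧸ 𝔞 ≅ A₀`
  let e₁ : (P₀ ⧸ 𝔞) ≃ₐ[R] A₀ := Ideal.quotientKerAlgEquivOfSurjective hψ₀
  let q : (P₀ ⧸ 𝔞) →ₐ[R] (P' ⧸ 𝔞') :=
    Ideal.quotientMapₐ 𝔞' (IsScalarTower.toAlgHom R P₀ P') Ideal.le_comap_map
  have hq : ⇑q = ⇑(algebraMap (P₀ ⧸ 𝔞) (P' ⧸ 𝔞')) := by
    funext x
    obtain ⟨x, rfl⟩ := Ideal.Quotient.mk_surjective x
    rfl
  have hqbij : Function.Bijective q := by rw [hq]; exact hbij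
  let e₂ : (P₀ ⧸ 𝔞) ≃ₐ[R] (P' ⧸ 𝔞') := AlgEquiv.ofBijective q hqbij
  let π : A →ₐ[R] A₀ := (e₁ : (P₀ ⧸ 𝔞) →ₐ[R] A₀).comp
    ((e₂.symm : (P' ⧸ 𝔞') →ₐ[R] (P₀ ⧸ 𝔞)).comp π')
  refine ⟨A, inferInstance, inferInstance, hsm, π, ?_, ?_⟩
  · exact e₁.surjective.comp (e₂.symm.surjective.comp hπ')
  · rw [← hkerπ']
    ext x
    simp only [RingHom.mem_ker, π, AlgHom.comp_apply, AlgEquiv.coe_toAlgHom,
      EmbeddingLike.map_eq_zero_iff]

end Groth.Agent.Lib.T2H3.SmoothLift
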