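import Mathlib
import Groth.Agent.Lib.T2H3SmoothLift3
/-!
# Lifting smooth algebras along `R → R ⧸ I`, part 4: polynomial presentations (helper3)

* `exists_pderiv_generators`: for a formally smooth quotient `ψ : R₀[x₁..x_N] → A₀` with kernel `J₀`
  there are `f̄ i ∈ J₀` with `y ≡ ∑ ∂ᵢ y · f̄ i` mod `J₀²` for all `y ∈ J₀`.
* `exists_smooth_lift`: a smooth `R ⧸ I`-algebra `A₀` lifts to a smooth `R`-algebra `A` with a
  surjection `A → A₀` with kernel `I A`.
-/
set_option autoImplicit false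
set_option linter.style.haveILetI false
universe u
open TensorProduct KaehlerDifferential

namespace Groth.Agent.Lib.T2H3.SmoothLift

theorem exists_pderiv_generators {R₀ A₀ : Type u} [CommRing R₀] [CommRing A₀] [Algebra R₀ A₀]
    [Algebra.FormallySmooth R₀ A₀] {N : ℕ} (ψ : MvPolynomial (Fin N) R₀ →ₐ[R₀] A₀)
    (hψ : Function.Surjective ψ) :
    ∃ fbar : Fin N → MvPolynomial (Fin N) R₀, (∀ i, ψ (fbar i) = 0) ∧
      ∀ y, ψ y = 0 → y - ∑ i, MvPolynomial.pderiv i y * fbar i ∈ (RingHom.ker ψ) ^ 2 := by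
  classical
  let P : Algebra.Extension R₀ A₀ := Algebra.Extension.ofSurjective ψ hψ
  haveI : Algebra.FormallySmooth R₀ P.Ring :=
    inferInstanceAs (Algebra.FormallySmooth R₀ (MvPolynomial (Fin N) R₀))
  obtain ⟨l, hl⟩ := (P.formallySmooth_iff_split_injection).mp inferInstance
  have hker : ∀ x : MvPolynomial (Fin N) R₀, x ∈ P.ker ↔ ψ x = 0 := fun x => RingHom.mem_ker
  choose g hg using fun i : Fin N => Algebra.Extension.Cotangent.mk_surjective
    (l ((1 : A₀) ⊗ₜ[P.Ring] D R₀ P.Ring (MvPolynomial.X i : MvPolynomial (Fin N) R₀)))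
  refine ⟨fun i => (g i).1, fun i => (hker _).mp (g i).2, fun y hy => ?_⟩
  have hy' : y ∈ P.ker := (hker y).mpr hy
  have h1 : Algebra.Extension.Cotangent.mk ⟨y, hy'⟩ =
      l (P.cotangentComplex (Algebra.Extension.Cotangent.mk ⟨y, hy'⟩)) :=
    (congr($hl _)).symm
  rw [Algebra.Extension.cotangentComplex_mk] at h1
  let a : Fin N → P.Ring := fun i => MvPolynomial.pderiv i y
  have h2 : D R₀ P.Ring y = ∑ i, a i •
      D R₀ P.Ring (MvPolynomial.X i : MvPolynomial (Fin N) R₀) := by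
    have := (mvPolynomialBasis R₀ (Fin N)).sum_repr (D R₀ _ y)
    simp only [mvPolynomialBasis_repr_apply, mvPolynomialBasis_apply] at this
    exact this.symm
  have h3 : l ((1 : A₀) ⊗ₜ[P.Ring] D R₀ P.Ring y) =
      Algebra.Extension.Cotangent.mk (∑ i, a i • g i) := by
    rw [h2, TensorProduct.tmul_sum, map_sum, map_sum]
    refine Finset.sum_congr rfl fun i _ => ?_
    rw [TensorProduct.tmul_smul, LinearMap.map_smul_of_tower, map_smul, hg]
  rw [h3, Algebra.Extension.Cotangent.mk_eq_mk_iff_sub_mem] at h1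
  have h4 : ((∑ i, a i • g i : P.ker) : P.Ring) = ∑ i, a i * (g i).1 := by
    simp
  rw [h4] at h1
  exact h1

/-- **Lifting smooth algebras**: a smooth `R ⧸ I`-algebra is the reduction of a smooth
`R`-algebra. -/
theorem exists_smooth_lift {R A₀ : Type u} [CommRing R] (I : Ideal R) [CommRing A₀]
    [Algebra R A₀] [Algebra (R ⧸ I) A₀] [IsScalarTower R (R ⧸ I) A₀]
    [Algebra.Smooth (R ⧸ I) A₀] :
    ∃ (A : Type u) (_ : CommRing A) (_ : Algebra R A), Algebra.Smooth R A ∧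
      ∃ π : A →ₐ[R] A₀, Function.Surjective π ∧ RingHom.ker π = I.map (algebraMap R A) := by
  classical
  obtain ⟨N, ψ₀, hψ₀, hfg₀⟩ := Algebra.FinitePresentation.out (R := R ⧸ I) (A := A₀)
  obtain ⟨fbar, hfbar, hstar₀⟩ := exists_pderiv_generators ψ₀ hψ₀
  let φr : MvPolynomial (Fin N) R →+* MvPolynomial (Fin N) (R ⧸ I) :=
    MvPolynomial.map (Ideal.Quotient.mk I)
  let φ : MvPolynomial (Fin N) R →ₐ[R] MvPolynomial (Fin N) (R ⧸ I) :=
    MvPolynomial.mapAlgHom (Ideal.Quotient.mkₐ R I)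
  have hφφ : ∀ x, φ x = φr x := fun _ => rfl
  have hφr : Function.Surjective φr :=
    MvPolynomial.map_surjective _ Ideal.Quotient.mk_surjective
  have hkerφ : RingHom.ker φr = I.map (algebraMap R (MvPolynomial (Fin N) R)) := by
    rw [MvPolynomial.ker_map, Ideal.mk_ker, MvPolynomial.algebraMap_eq]
  let ψ : MvPolynomial (Fin N) R →ₐ[R] A₀ := (ψ₀.restrictScalars R).comp φ
  have hψφ : ∀ x, ψ x = ψ₀ (φr x) := fun _ => rfl
  have hψ : Function.Surjective ψ := hψ₀.comp hφr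
  have hkerψ : RingHom.ker ψ = (RingHom.ker ψ₀).comap φr := by
    ext x
    simp only [RingHom.mem_ker, Ideal.mem_comap, hψφ]
  have hmapker : (RingHom.ker ψ).map φr = RingHom.ker ψ₀ := by
    rw [hkerψ, Ideal.map_comap_of_surjective φr hφr]
  have hI : I.map (algebraMap R (MvPolynomial (Fin N) R)) ≤ RingHom.ker ψ := by
    rw [← hkerφ]
    intro x hx
    rw [RingHom.mem_ker, hψφ, RingHom.mem_ker.mp hx, map_zero]
  have hcomap : ∀ 𝔡 : Ideal (MvPolynomial (Fin N) R), (𝔡.map φr).comap φr =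
      𝔡 ⊔ I.map (algebraMap R (MvPolynomial (Fin N) R)) := by
    intro 𝔡
    rw [Ideal.comap_map_of_surjective φr hφr, ← RingHom.ker_eq_comap_bot, hkerφ]
  have hfg : ∃ 𝔠 : Ideal (MvPolynomial (Fin N) R), 𝔠.FG ∧
      RingHom.ker ψ = 𝔠 ⊔ I.map (algebraMap R (MvPolynomial (Fin N) R)) := by
    obtain ⟨s₀, hs₀⟩ := hfg₀
    refine ⟨Ideal.span (s₀.image (Function.surjInv hφr)), ⟨_, rfl⟩, ?_⟩
    rw [← hcomap, Ideal.map_span, hkerψ]
    congr 1
    have : (φr '' ((s₀.image (Function.surjInv hφr) : Finset _) : Set _)) = (s₀ : Set _) := by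
      rw [Finset.coe_image, Set.image_image]
      simp only [Function.surjInv_eq hφr, Set.image_id']
    rw [this]
    exact hs₀.symm
  let F : Fin N → MvPolynomial (Fin N) R := fun i => Function.surjInv hφr (fbar i)
  have hφF : ∀ i, φr (F i) = fbar i := fun i => Function.surjInv_eq hφr _
  have hF : ∀ i, ψ (F i) = 0 := fun i => by rw [hψφ, hφF, hfbar]
  let ℓ : Fin N → (Ω[MvPolynomial (Fin N) R⁄R] →ₗ[MvPolynomial (Fin N) R] MvPolynomial (Fin N) R) :=
    fun i => (MvPolynomial.pderiv i).liftKaehlerDifferential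
  have hℓ : ∀ i y, ℓ i (D R _ y) = MvPolynomial.pderiv i y := fun i y =>
    Derivation.liftKaehlerDifferential_comp_D _ _
  have hstar : ∀ y ∈ RingHom.ker ψ, y - ∑ i, ℓ i (D R _ y) * F i ∈
      (RingHom.ker ψ) ^ 2 ⊔ I.map (algebraMap R (MvPolynomial (Fin N) R)) := by
    intro y hy
    rw [← hcomap, Ideal.map_pow, hmapker, Ideal.mem_comap]
    have h1 := hstar₀ (φr y) (by rw [← hψφ]; exact RingHom.mem_ker.mp hy)
    have e1 : φr (y - ∑ i, ℓ i (D R _ y) * F i) =
        φr y - ∑ i, MvPolynomial.pderiv i (φr y) * fbar i := by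
      simp only [map_sub, map_sum, map_mul, hℓ, hφF, φr, MvPolynomial.pderiv_map]
    rw [e1]
    exact h1
  haveI : Algebra.Smooth R (MvPolynomial (Fin N) R) := ⟨inferInstance, inferInstance⟩
  exact exists_smooth_of_forms I ψ hψ hI hfg F hF ℓ hstar

end Groth.Agent.Lib.T2H3.SmoothLift
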