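import Mathlib
import Groth.Prelude.Def_W4c1liftfrobW2
import Groth.Agent.Lib.Helper5W2Lift
import Groth.Agent.Lib.Helper16FrobLift
import Groth.Agent.Lib.T2H3SmoothLift4
/-!
# Smooth algebras over a perfect field lift to `W₂(k)` with Frobenius (helper3)

`isFLiftable_of_smooth`: uses `SmoothLift.exists_smooth_lift` for the flat (smooth) lifting and the
infinitesimal lifting property for the Frobenius.
-/
set_option autoImplicit false
set_option linter.style.haveILetI false
set_option linter.unusedSectionVars false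
universe u

namespace Groth.Agent.Lib.T2H3.FrobLift

open FrobAlg

section Twist

variable {W : Type u} [CommRing W]

/-- A `W`-algebra with its structure twisted by an endomorphism of `W`. -/
def Tw (_σ : W →+* W) (X : Type u) : Type u := X

instance (σ : W →+* W) (X : Type u) [CommRing X] : CommRing (Tw σ X) :=
  inferInstanceAs (CommRing X)

noncomputable instance (σ : W →+* W) (X : Type u) [CommRing X] [Algebra W X] :
    Algebra W (Tw σ X) := ((algebraMap W X).comp σ).toAlgebra

theorem algebraMap_tw (σ : W →+* W) (X : Type u) [CommRing X] [Algebra W X] (w : W) :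
    algebraMap W (Tw σ X) w = (algebraMap W X (σ w) : X) := rfl

end Twist

variable (p : ℕ) [Fact p.Prime] (k : Type u) [Field k] [CharP k p] [PerfectRing k p]

theorem res_surjective : Function.Surjective (res p k) := fun a =>
  ⟨WittVector.truncate 2 (WittVector.teichmuller p a), by
    rw [res_truncate, WittVector.teichmuller_coeff_zero]⟩

theorem ker_res_sq : (RingHom.ker (res p k)) ^ 2 = ⊥ := by
  rw [Groth.Agent.Lib.Helper5.W2Lift.ker_res, Ideal.span_singleton_pow, pow_two]
  have := Groth.Agent.Lib.Helper16FrobLift.w2_p_sq p k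
  rw [this, Ideal.span_singleton_eq_bot]

theorem res_sigma (w : W2 p k) : res p k (sigma p k w) = (res p k w) ^ p := by
  rw [res_apply, res_apply, WittGrp.coeff_frob]

theorem isFLiftable_of_smooth (A : Type u) [CommRing A] [Algebra k A] [Algebra.Smooth k A] :
    IsFLiftable p k A := by
  classical
  rcases subsingleton_or_nontrivial A with hA | hA
  · -- the zero ring
    refine ⟨A, inferInstance, (algebraMap k A).comp (res p k), RingHom.id A, RingHom.id A,
      ⟨⟨?_, fun a => ⟨a, rfl⟩, Subsingleton.elim _ _, RingHom.ext fun _ => Subsingleton.elim _ _⟩,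
        RingHom.ext fun _ => Subsingleton.elim _ _, fun _ => Subsingleton.elim _ _⟩⟩
    letI : Algebra (W2 p k) A := ((algebraMap k A).comp (res p k)).toAlgebra
    change Module.Flat (W2 p k) A
    infer_instance
  haveI : CharP A p := charP_of_injective_algebraMap (algebraMap k A).injective p
  set 𝔪 := RingHom.ker (res p k) with h𝔪
  letI : Algebra (W2 p k) A := ((algebraMap k A).comp (res p k)).toAlgebra
  letI : Algebra (W2 p k ⧸ 𝔪) A := (Ideal.Quotient.lift 𝔪 ((algebraMap k A).comp (res p k))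
    (fun w hw => by rw [RingHom.comp_apply, RingHom.mem_ker.mp hw, map_zero])).toAlgebra
  haveI : IsScalarTower (W2 p k) (W2 p k ⧸ 𝔪) A := IsScalarTower.of_algebraMap_eq (fun _ => rfl)
  -- smoothness over `W ⧸ 𝔪 ≅ k`
  let e : (W2 p k ⧸ 𝔪) ≃+* k := RingHom.quotientKerEquivOfSurjective (res_surjective p k)
  letI : Algebra (W2 p k ⧸ 𝔪) k := e.toRingHom.toAlgebra
  haveI : IsScalarTower (W2 p k ⧸ 𝔪) k A := IsScalarTower.of_algebraMap_eq (fun x => by
    obtain ⟨w, rfl⟩ := Ideal.Quotient.mk_surjective x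
    rfl)
  haveI : Algebra.Smooth (W2 p k ⧸ 𝔪) (W2 p k ⧸ 𝔪) := ⟨inferInstance, inferInstance⟩
  haveI : Algebra.Smooth (W2 p k ⧸ 𝔪) k :=
    Algebra.Smooth.of_equiv (AlgEquiv.ofRingEquiv (f := e) (fun _ => rfl))
  haveI : Algebra.Smooth (W2 p k ⧸ 𝔪) A := Algebra.Smooth.comp (W2 p k ⧸ 𝔪) k A
  obtain ⟨B, _, _, hsm, π, hπ, hker⟩ :=
    Groth.Agent.Lib.T2H3.SmoothLift.exists_smooth_lift (A₀ := A) 𝔪
  -- the Frobenius lift
  let σ := sigma p k
  have hkersq : (RingHom.ker π) ^ 2 = ⊥ := by
    rw [hker, ← Ideal.map_pow, h𝔪, ker_res_sq, Ideal.map_bot]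
  let π' : Tw σ B →ₐ[W2 p k] Tw σ A :=
    { (π : B →+* A) with commutes' := fun w => π.commutes (σ w) }
  let f : B →ₐ[W2 p k] Tw σ A :=
    { (frobenius A p).comp (π : B →+* A) with
      commutes' := fun w => by
        change (π (algebraMap (W2 p k) B w)) ^ p = algebraMap k A (res p k (σ w))
        rw [π.commutes, res_sigma, map_pow]
        rfl }
  have hnil : IsNilpotent (RingHom.ker (π' : Tw σ B →+* Tw σ A)) := ⟨2, hkersq⟩
  let Φ : B →ₐ[W2 p k] Tw σ B := Algebra.FormallySmooth.liftOfSurjective f π' hπ hnil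
  have hΦ : ∀ b, π' (Φ b) = f b := fun b =>
    congr($(Algebra.FormallySmooth.comp_liftOfSurjective f π' hπ hnil) b)
  let Φr : B →+* B := Φ.toRingHom
  refine ⟨B, inferInstance, algebraMap (W2 p k) B, (π : B →+* A), Φr,
    ⟨⟨?_, hπ, hker, ?_⟩, ?_, ?_⟩⟩
  · exact RingHom.flat_algebraMap_iff.mpr inferInstance
  · exact RingHom.ext fun w => π.commutes w
  · exact RingHom.ext fun w => Φ.commutes w
  · intro b
    exact hΦ b

end Groth.Agent.Lib.T2H3.FrobLift
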