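import Mathlib
import Groth.Prelude.Def_Frob
import Groth.Prelude.Def_Fitting

/-!
# Norms from Frobenius: the reduction of a Noetherian scheme of characteristic `p` has a norm

Helper library for S8882 (namespace `Groth.Agent.Lib.T2H3.FrobNorm`).
-/

set_option autoImplicit false
set_option linter.style.haveILetI false

universe u

open CategoryTheory AlgebraicGeometry TopologicalSpace Opposite

namespace Groth.Agent.Lib.T2H3.FrobNorm

section General

variable {Z X : Scheme.{u}}

/-- A "section up to a `d`-th power map" `φ` of `π : Z ⟶ X` (i.e. `φ ≫ π` is the identity on points and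
`s ↦ s ^ d` on sections), with `π` injective on points, gives a norm of degree `d` for `π`. -/
noncomputable def normOfSection (π : Z ⟶ X) (φ : X ⟶ Z) (d : ℕ) (hd : 1 ≤ d)
    (hbase : ∀ x : X, π.base (φ.base x) = x)
    (hpow : ∀ (U : X.Opens) (e : U ≤ (φ ≫ π) ⁻¹ᵁ U) (s : Γ(X, U)),
      (φ ≫ π).appLE U U e s = s ^ d)
    (hinj : Function.Injective π.base) : Nrm.NormOfDegree π d where
  one_le := hd
  norm U := (φ.appLE (π ⁻¹ᵁ U) U (fun x hx => by
    change π.base (φ.base x) ∈ U
    rw [hbase x]; exact hx)).hom.toMonoidHom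
  norm_res {U V} i s := by
    have hV : V ≤ φ ⁻¹ᵁ (π ⁻¹ᵁ V) := fun x hx => by
      change π.base (φ.base x) ∈ V
      rw [hbase x]; exact hx
    have hU : U ≤ φ ⁻¹ᵁ (π ⁻¹ᵁ U) := fun x hx => by
      change π.base (φ.base x) ∈ U
      rw [hbase x]; exact hx
    change (φ.appLE (π ⁻¹ᵁ U) U hU ≫ X.presheaf.map i.op) s =
      (Z.presheaf.map ((Opens.map π.base).map i).op ≫ φ.appLE (π ⁻¹ᵁ V) V hV) s
    rw [Scheme.Hom.appLE_map, Scheme.Hom.map_appLE]
  norm_app U g := by
    have hU : U ≤ φ ⁻¹ᵁ (π ⁻¹ᵁ U) := fun x hx => by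
      change π.base (φ.base x) ∈ U
      rw [hbase x]; exact hx
    change (π.app U ≫ φ.appLE (π ⁻¹ᵁ U) U hU) g = g ^ d
    rw [← Scheme.Hom.comp_appLE]
    exact hpow U _ g
  norm_mem U s x hx hs := by
    have hU : U ≤ φ ⁻¹ᵁ (π ⁻¹ᵁ U) := fun x hx => by
      change π.base (φ.base x) ∈ U
      rw [hbase x]; exact hx
    change X.presheaf.germ U (π.base x) hx (φ.appLE (π ⁻¹ᵁ U) U hU s) ∈ _
    rw [IsLocalRing.mem_maximalIdeal, mem_nonunits_iff] at hs ⊢
    intro hu
    apply hs
    have h1 : π.base x ∈ X.basicOpen (φ.appLE (π ⁻¹ᵁ U) U hU s) :=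
      (Scheme.mem_basicOpen X _ (π.base x) hx).mpr hu
    rw [Scheme.basicOpen_appLE] at h1
    have h2 : φ.base (π.base x) ∈ Z.basicOpen s := h1.2
    have h3 : φ.base (π.base x) = x := hinj (hbase _)
    rw [h3] at h2
    exact (Scheme.mem_basicOpen Z s x hx).mp h2

end General

section FrobPow

variable (X : Scheme.{u}) (p : ℕ) [Fact p.Prime] [FrobSch.IsCharP X p]

/-- The `e`-fold iterate of the absolute Frobenius. -/
noncomputable def frobPow : ℕ → (X ⟶ X)
  | 0 => 𝟙 X
  | e + 1 => frobPow e ≫ FrobSch.frob X p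

@[simp] lemma frobPow_zero : frobPow X p 0 = 𝟙 X := rfl

@[simp] lemma frobPow_succ (e : ℕ) : frobPow X p (e + 1) = frobPow X p e ≫ FrobSch.frob X p := rfl

lemma frobPow_base (e : ℕ) (x : X) : (frobPow X p e).base x = x := by
  induction e with
  | zero => rfl
  | succ e ih =>
    rw [frobPow_succ]
    change (FrobSch.frob X p).base ((frobPow X p e).base x) = x
    rw [ih]; rfl

lemma frobPow_preimage (e : ℕ) (U : X.Opens) : frobPow X p e ⁻¹ᵁ U = U := by
  ext x
  change (frobPow X p e).base x ∈ U ↔ x ∈ U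
  rw [frobPow_base]

lemma frobPow_appLE (e : ℕ) (U : X.Opens) : ∀ (h : U ≤ frobPow X p e ⁻¹ᵁ U) (s : Γ(X, U)),
    (frobPow X p e).appLE U U h s = s ^ (p ^ e) := by
  induction e with
  | zero =>
    intro h s
    simp only [pow_zero, pow_one]
    have : (𝟙 X : X ⟶ X).appLE U U h = 𝟙 _ :=
      (Category.id_comp _).trans (X.presheaf.map_id _)
    change ((𝟙 X : X ⟶ X).appLE U U h) s = s
    rw [this]; rfl
  | succ e ih =>
    intro h s
    have h' : U ≤ frobPow X p e ⁻¹ᵁ U := (frobPow_preimage X p e U).ge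
    have : (frobPow X p (e + 1)).appLE U U h =
        (FrobSch.frob X p).app U ≫ (frobPow X p e).appLE U U h' :=
      Scheme.Hom.comp_appLE _ _ _ _ _
    rw [this]
    change (frobPow X p e).appLE U U h' ((FrobSch.frob X p).app U s) = _
    rw [FrobSch.frob_app, ih h' (s ^ p), ← pow_mul, pow_succ']

instance frobPow_quasiCompact (e : ℕ) : QuasiCompact (frobPow X p e) := by
  constructor
  intro U hU hU'
  have : (frobPow X p e).base ⁻¹' U = U := by
    ext x
    change (frobPow X p e).base x ∈ U ↔ x ∈ U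
    rw [frobPow_base]
  rw [this]; exact hU'

end FrobPow

section Nilp

/-- In a localization, nilpotents are killed by the same power as in the base ring. -/
lemma pow_eq_zero_of_isLocalization {R S : Type*} [CommRing R] [CommRing S] [Algebra R S]
    (M : Submonoid R) [IsLocalization M S] (k : ℕ) (hk : ∀ a : R, IsNilpotent a → a ^ k = 0)
    (t : S) (ht : IsNilpotent t) : t ^ k = 0 := by
  have h1 : t ∈ (nilradical R).map (algebraMap R S) := by
    have h := IsLocalization.map_radical M S (⊥ : Ideal R)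
    rw [Ideal.map_bot] at h
    change t ∈ ((⊥ : Ideal R).radical).map (algebraMap R S)
    rw [h]
    exact mem_nilradical.mpr ht
  obtain ⟨⟨⟨a, ha⟩, m⟩, h⟩ := (IsLocalization.mem_map_algebraMap_iff M S).mp h1
  have ha' : a ^ k = 0 := hk a (mem_nilradical.mp ha)
  have h2 : t ^ k * (algebraMap R S m) ^ k = 0 := by
    rw [← mul_pow, h]
    change (algebraMap R S a) ^ k = 0
    rw [← map_pow, ha', map_zero]
  have hu : IsUnit ((algebraMap R S m) ^ k) := (IsLocalization.map_units S m).pow k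
  exact (hu.mul_left_eq_zero).mp h2

/-- On a Noetherian scheme, a single exponent kills all nilpotent sections over all opens. -/
lemma exists_uniform_nilpotent (X : Scheme.{u}) [IsNoetherian X] :
    ∃ K : ℕ, ∀ (U : X.Opens) (s : Γ(X, U)), IsNilpotent s → s ^ K = 0 := by
  let 𝒰 := X.affineCover.finiteSubcover
  have hV : ∀ i, IsAffineOpen (𝒰.f i).opensRange := fun i => isAffineOpen_opensRange _
  have hk : ∀ i, ∃ k : ℕ, ∀ a : Γ(X, (𝒰.f i).opensRange), IsNilpotent a → a ^ k = 0 := by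
    intro i
    haveI : IsNoetherianRing Γ(X, (𝒰.f i).opensRange) :=
      IsLocallyNoetherian.component_noetherian ⟨_, hV i⟩
    obtain ⟨k, hk⟩ := IsNoetherianRing.isNilpotent_nilradical Γ(X, (𝒰.f i).opensRange)
    refine ⟨k, fun a ha => ?_⟩
    have h : a ^ k ∈ nilradical _ ^ k := Ideal.pow_mem_pow (mem_nilradical.mpr ha) k
    rw [hk] at h
    exact h
  choose k hk using hk
  refine ⟨∑ i, k i, fun U s hs => ?_⟩
  apply TopCat.Presheaf.section_ext X.sheaf U
  intro x hx
  obtain ⟨i, y, hy⟩ := 𝒰.exists_eq x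
  have hxi : x ∈ (𝒰.f i).opensRange := ⟨y, hy⟩
  change X.presheaf.germ U x hx (s ^ ∑ i, k i) = X.presheaf.germ U x hx 0
  rw [map_pow, map_zero]
  letI := TopCat.Presheaf.algebra_section_stalk X.presheaf (⟨x, hxi⟩ : (𝒰.f i).opensRange)
  haveI := (hV i).isLocalization_stalk ⟨x, hxi⟩
  have h := pow_eq_zero_of_isLocalization ((hV i).primeIdealOf ⟨x, hxi⟩).asIdeal.primeCompl
    (S := X.presheaf.stalk x) (k i) (hk i) (X.presheaf.germ U x hx s) (hs.map _)
  exact pow_eq_zero_of_le (Finset.single_le_sum (fun _ _ => Nat.zero_le _) (Finset.mem_univ i)) h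

end Nilp

section Main

variable (X : Scheme.{u}) (p : ℕ) [Fact p.Prime] [FrobSch.IsCharP X p]

lemma nilradical_ker_le_frobPow_ker (K : ℕ)
    (hK : ∀ (U : X.Opens) (s : Γ(X, U)), IsNilpotent s → s ^ K = 0) (e : ℕ) (hKe : K ≤ p ^ e) :
    X.nilradical.subschemeι.ker ≤ (frobPow X p e).ker := by
  rw [Scheme.IdealSheafData.ker_subschemeι]
  intro U
  rw [Scheme.Hom.ker_apply]
  intro s hs
  have hs' : IsNilpotent s := by
    have : s ∈ (⊥ : Ideal Γ(X, U.1)).radical := hs
    exact mem_nilradical.mp this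
  rw [RingHom.mem_ker]
  have h : U.1 ≤ frobPow X p e ⁻¹ᵁ U.1 := (frobPow_preimage X p e U.1).ge
  have h' : frobPow X p e ⁻¹ᵁ U.1 ≤ U.1 := (frobPow_preimage X p e U.1).le
  have h1 : (frobPow X p e).appLE U.1 U.1 h s = 0 := by
    rw [frobPow_appLE]
    exact pow_eq_zero_of_le hKe (hK U.1 s hs')
  have h2 : X.presheaf.map (homOfLE h').op ((frobPow X p e).appLE U.1 U.1 h s) =
      (frobPow X p e).app U.1 s := by
    change ((frobPow X p e).appLE U.1 U.1 h ≫ X.presheaf.map (homOfLE h').op) s = _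
    rw [Scheme.Hom.appLE_map, ← Scheme.Hom.app_eq_appLE]
  change (frobPow X p e).app U.1 s = 0
  rw [← h2, h1, map_zero]

theorem hasNorm_reduction [IsNoetherian X] :
    ∃ e : ℕ, 0 < e ∧ Nrm.HasNorm X.nilradical.subschemeι (p ^ e) := by
  obtain ⟨K, hK⟩ := exists_uniform_nilpotent X
  have hp : p.Prime := Fact.out
  have hKe : K ≤ p ^ (K + 1) :=
    (Nat.lt_pow_self hp.one_lt).le.trans (Nat.pow_le_pow_right hp.pos (Nat.le_succ K))
  refine ⟨K + 1, Nat.succ_pos _, ⟨?_⟩⟩
  have H := nilradical_ker_le_frobPow_ker X p K hK (K + 1) hKe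
  let φ : X ⟶ X.nilradical.subscheme :=
    IsClosedImmersion.lift X.nilradical.subschemeι (frobPow X p (K + 1)) H
  have hφ : φ ≫ X.nilradical.subschemeι = frobPow X p (K + 1) :=
    IsClosedImmersion.lift_fac _ _ _
  refine normOfSection X.nilradical.subschemeι φ (p ^ (K + 1)) (Nat.one_le_two_pow.trans
    (Nat.pow_le_pow_left hp.two_le _)) ?_ ?_ ?_
  · intro x
    change (φ ≫ X.nilradical.subschemeι).base x = x
    rw [hφ, frobPow_base]
  · rw [hφ]
    intro U e s
    exact frobPow_appLE X p (K + 1) U e s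
  · exact X.nilradical.subschemeι.isEmbedding.injective

end Main

end Groth.Agent.Lib.T2H3.FrobNorm
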