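import Groth.Agent.Lib.LeadGDe

/-! Graded duals (helper3), part A: uniqueness of the graded dual, transport along graded
isomorphisms, and uniqueness of the "predual" for modules with finite-dimensional pieces. -/

set_option autoImplicit false
set_option linter.unusedSectionVars false
set_option linter.unusedVariables false
set_option linter.style.haveILetI false
set_option maxHeartbeats 1000000
open DirectSum

noncomputable section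

namespace Groth.Agent.Lib.T2H3.GDualU

open Groth.Agent.Lib.LeadGD

universe u

section Uniq

variable {k : Type u} [Field k] {R : Type u} [CommRing R] [Algebra k R]
  {M : Type u} [AddCommGroup M] [Module R M] [Module k M] [IsScalarTower k R M]
  (ℳ : ℤ → AddSubgroup M) [DirectSum.Decomposition ℳ]
  {D₁ : Type u} [AddCommGroup D₁] [Module R D₁] [Module k D₁] [IsScalarTower k R D₁]
  (𝒟₁ : ℤ → AddSubgroup D₁) [DirectSum.Decomposition 𝒟₁]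
  {D₂ : Type u} [AddCommGroup D₂] [Module R D₂] [Module k D₂] [IsScalarTower k R D₂]
  (𝒟₂ : ℤ → AddSubgroup D₂) [DirectSum.Decomposition 𝒟₂]
  {β₁ : D₁ →ₗ[k] M →ₗ[k] k} (hD₁ : GrSeg.IsGDual R ℳ 𝒟₁ β₁)
  {β₂ : D₂ →ₗ[k] M →ₗ[k] k} (hD₂ : GrSeg.IsGDual R ℳ 𝒟₂ β₂)

include hD₁ hD₂ in
theorem exists_rep_of_mem {n : ℤ} {d : D₁} (hd : d ∈ 𝒟₁ n) :
    ∃ d₂ ∈ 𝒟₂ n, ∀ x : M, β₂ d₂ x = β₁ d x := by
  obtain ⟨d₂, hd₂, h⟩ := hD₂.exists_eq n (β₁ d)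
  refine ⟨d₂, hd₂, fun x => ?_⟩
  rw [pair_eq_comp ℳ 𝒟₂ hD₂ hd₂ x, pair_eq_comp ℳ 𝒟₁ hD₁ hd x]
  exact h _ (SetLike.coe_mem _)

include hD₁ hD₂ in
theorem exists_rep (d : D₁) : ∃ d₂ : D₂, ∀ x : M, β₂ d₂ x = β₁ d x := by
  classical
  induction d using DirectSum.Decomposition.inductionOn 𝒟₁ with
  | zero => exact ⟨0, fun x => by rw [map_zero, map_zero]⟩
  | homogeneous d =>
    obtain ⟨d₂, -, h⟩ := exists_rep_of_mem ℳ 𝒟₁ 𝒟₂ hD₁ hD₂ d.2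
    exact ⟨d₂, h⟩
  | add a b ha hb =>
    obtain ⟨a₂, ha₂⟩ := ha
    obtain ⟨b₂, hb₂⟩ := hb
    exact ⟨a₂ + b₂, fun x => by
      rw [map_add, map_add, LinearMap.add_apply, LinearMap.add_apply, ha₂, hb₂]⟩

include hD₂ in
theorem rep_unique {d d' : D₂} (h : ∀ x : M, β₂ d x = β₂ d' x) : d = d' := by
  have h0 : d - d' = 0 := by
    refine eq_zero_of_pair_eq_zero ℳ 𝒟₂ hD₂ fun x => ?_
    rw [map_sub, LinearMap.sub_apply, h x, sub_self]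
  exact sub_eq_zero.mp h0

/-- The comparison map between two graded duals of the same module. -/
def dualMap : D₁ →ₗ[R] D₂ where
  toFun d := Classical.choose (exists_rep ℳ 𝒟₁ 𝒟₂ hD₁ hD₂ d)
  map_add' a b := by
    refine rep_unique ℳ 𝒟₂ hD₂ fun x => ?_
    rw [Classical.choose_spec (exists_rep ℳ 𝒟₁ 𝒟₂ hD₁ hD₂ (a + b)) x, map_add, map_add,
      LinearMap.add_apply, LinearMap.add_apply,
      Classical.choose_spec (exists_rep ℳ 𝒟₁ 𝒟₂ hD₁ hD₂ a) x,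
      Classical.choose_spec (exists_rep ℳ 𝒟₁ 𝒟₂ hD₁ hD₂ b) x]
  map_smul' r a := by
    refine rep_unique ℳ 𝒟₂ hD₂ fun x => ?_
    rw [RingHom.id_apply, Classical.choose_spec (exists_rep ℳ 𝒟₁ 𝒟₂ hD₁ hD₂ (r • a)) x,
      hD₁.map_smul, hD₂.map_smul, Classical.choose_spec (exists_rep ℳ 𝒟₁ 𝒟₂ hD₁ hD₂ a) (r • x)]

theorem pair_dualMap (d : D₁) (x : M) : β₂ (dualMap ℳ 𝒟₁ 𝒟₂ hD₁ hD₂ d) x = β₁ d x :=
  Classical.choose_spec (exists_rep ℳ 𝒟₁ 𝒟₂ hD₁ hD₂ d) x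

theorem dualMap_mem {n : ℤ} {d : D₁} (hd : d ∈ 𝒟₁ n) : dualMap ℳ 𝒟₁ 𝒟₂ hD₁ hD₂ d ∈ 𝒟₂ n := by
  obtain ⟨d₂, hd₂, h⟩ := exists_rep_of_mem ℳ 𝒟₁ 𝒟₂ hD₁ hD₂ hd
  have : dualMap ℳ 𝒟₁ 𝒟₂ hD₁ hD₂ d = d₂ := by
    refine rep_unique ℳ 𝒟₂ hD₂ fun x => ?_
    rw [pair_dualMap, h]
  rw [this]
  exact hd₂

include hD₁ hD₂ in
/-- Two graded duals of the same module are isomorphic, compatibly with the pairings. -/
theorem exists_equiv_of_isGDual : ∃ θ : D₁ ≃ₗ[R] D₂, (∀ d x, β₂ (θ d) x = β₁ d x) ∧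
    (∀ n, ∀ d ∈ 𝒟₁ n, θ d ∈ 𝒟₂ n) ∧ (∀ n, ∀ d ∈ 𝒟₂ n, θ.symm d ∈ 𝒟₁ n) := by
  refine ⟨LinearEquiv.ofLinearMap (dualMap ℳ 𝒟₁ 𝒟₂ hD₁ hD₂) (dualMap ℳ 𝒟₂ 𝒟₁ hD₂ hD₁) ?_ ?_,
    fun d x => pair_dualMap ℳ 𝒟₁ 𝒟₂ hD₁ hD₂ d x,
    fun n d hd => dualMap_mem ℳ 𝒟₁ 𝒟₂ hD₁ hD₂ hd,
    fun n d hd => dualMap_mem ℳ 𝒟₂ 𝒟₁ hD₂ hD₁ hd⟩
  · apply LinearMap.ext
    intro d
    refine rep_unique ℳ 𝒟₂ hD₂ fun x => ?_
    rw [LinearMap.comp_apply, pair_dualMap, pair_dualMap, LinearMap.id_apply]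
  · apply LinearMap.ext
    intro d
    refine rep_unique ℳ 𝒟₁ hD₁ fun x => ?_
    rw [LinearMap.comp_apply, pair_dualMap, pair_dualMap, LinearMap.id_apply]

end Uniq

section Transfer

variable {k : Type u} [Field k] {R : Type u} [CommRing R] [Algebra k R]
  {M : Type u} [AddCommGroup M] [Module R M] [Module k M] [IsScalarTower k R M]
  {τ : Type u} [SetLike τ M] [AddSubgroupClass τ M]
  (ℳ : ℤ → τ) [DirectSum.Decomposition ℳ]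
  {D : Type u} [AddCommGroup D] [Module R D] [Module k D] [IsScalarTower k R D]
  (𝒟 : ℤ → AddSubgroup D) [DirectSum.Decomposition 𝒟]
  {D' : Type u} [AddCommGroup D'] [Module R D'] [Module k D'] [IsScalarTower k R D']
  (𝒟' : ℤ → AddSubgroup D') [DirectSum.Decomposition 𝒟']
  {β' : D' →ₗ[k] M →ₗ[k] k} (hD' : GrSeg.IsGDual R ℳ 𝒟' β')

include hD' in
/-- Transport of a graded dual along a graded isomorphism. -/
theorem isGDual_comp (θ : D ≃ₗ[R] D') (hθ : ∀ n, ∀ d ∈ 𝒟 n, θ d ∈ 𝒟' n)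
    (hθ' : ∀ n, ∀ d ∈ 𝒟' n, θ.symm d ∈ 𝒟 n) :
    GrSeg.IsGDual R ℳ 𝒟 (β' ∘ₗ (θ.toLinearMap.restrictScalars k)) := by
  refine ⟨?_, ?_, ?_, ?_⟩
  · intro r d x
    change β' (θ (r • d)) x = β' (θ d) (r • x)
    rw [map_smul, hD'.map_smul]
  · intro n d hd m hm x hx
    exact hD'.vanish n (θ d) (hθ n d hd) m hm x hx
  · intro n d hd h
    have h1 := hD'.eq_zero n (θ d) (hθ n d hd) h
    exact θ.injective (h1.trans (map_zero θ).symm)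
  · intro n g
    obtain ⟨d', hd', h⟩ := hD'.exists_eq n g
    refine ⟨θ.symm d', hθ' n d' hd', fun x hx => ?_⟩
    change β' (θ (θ.symm d')) x = g x
    rw [LinearEquiv.apply_symm_apply]
    exact h x hx

end Transfer

section Predual

variable {k : Type u} [Field k] {R : Type u} [CommRing R] [Algebra k R]
  (𝒜 : ℤ → Submodule k R) [GradedAlgebra 𝒜]
  {M : Type u} [AddCommGroup M] [Module R M] [Module k M] [IsScalarTower k R M]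
  (ℳ : ℤ → AddSubgroup M) [DirectSum.Decomposition ℳ] [SetLike.GradedSMul 𝒜 ℳ]
  {D : Type u} [AddCommGroup D] [Module R D] [Module k D] [IsScalarTower k R D]
  (𝒟 : ℤ → AddSubgroup D) [DirectSum.Decomposition 𝒟] [SetLike.GradedSMul 𝒜 𝒟]
  {β : D →ₗ[k] M →ₗ[k] k} (hD : GrSeg.IsGDual R ℳ 𝒟 β)
  {M' : Type u} [AddCommGroup M'] [Module R M'] [Module k M'] [IsScalarTower k R M']
  (ℳ' : ℤ → AddSubgroup M') [DirectSum.Decomposition ℳ'] [SetLike.GradedSMul 𝒜 ℳ']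
  {D' : Type u} [AddCommGroup D'] [Module R D'] [Module k D'] [IsScalarTower k R D']
  (𝒟' : ℤ → AddSubgroup D') [DirectSum.Decomposition 𝒟'] [SetLike.GradedSMul 𝒜 𝒟']
  {β' : D' →ₗ[k] M' →ₗ[k] k} (hD' : GrSeg.IsGDual R ℳ' 𝒟' β')

include hD hD' in
/-- Graded modules with finite-dimensional pieces whose graded duals are isomorphic are
isomorphic. -/
theorem exists_equiv_of_dual_equiv (hfin : ∀ n : ℤ, FiniteDimensional k (pc 𝒜 ℳ n))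
    (hfin' : ∀ n : ℤ, FiniteDimensional k (pc 𝒜 ℳ' n))
    (θ : D ≃ₗ[R] D') (hθ : ∀ n, ∀ d ∈ 𝒟 n, θ d ∈ 𝒟' n)
    (hθ' : ∀ n, ∀ d ∈ 𝒟' n, θ.symm d ∈ 𝒟 n) :
    ∃ g : M' ≃ₗ[R] M, (∀ n, ∀ x ∈ ℳ' n, g x ∈ ℳ n) ∧ (∀ n, ∀ x ∈ ℳ n, g.symm x ∈ ℳ' n) := by
  have h1 : GrSeg.IsGDual R 𝒟 ℳ β.flip := isGDual_flip 𝒜 ℳ 𝒟 hD hfin
  have h2' : GrSeg.IsGDual R ℳ' 𝒟 (β' ∘ₗ (θ.toLinearMap.restrictScalars k)) :=
    isGDual_comp ℳ' 𝒟 𝒟' hD' θ hθ hθ'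
  have h2 : GrSeg.IsGDual R 𝒟 ℳ' (β' ∘ₗ (θ.toLinearMap.restrictScalars k)).flip :=
    isGDual_flip 𝒜 ℳ' 𝒟 h2' hfin'
  obtain ⟨g, -, hg, hg'⟩ := exists_equiv_of_isGDual 𝒟 ℳ' ℳ h2 h1
  exact ⟨g, hg, hg'⟩

end Predual

end Groth.Agent.Lib.T2H3.GDualU
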