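import Groth.Agent.Lib.T2H3VerA
import Groth.Agent.Lib.Helper29GrGam

/-! The Veronese functor (helper3): for `φ : R' → R` identifying a graded ring `R'` with the `q`-th
Veronese subring of `R`, the graded `R'`-module `V(N) = ⊕_j N_{jq}` of a graded `R`-module `N`. -/

set_option autoImplicit false
set_option linter.unusedSectionVars false
set_option linter.style.haveILetI false
open DirectSum

noncomputable section

namespace Groth.Agent.Lib.T2H3.Ver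

open GrLC Groth.Agent.Lib.Helper29GrHom Groth.Agent.Lib.Helper29GrEss

universe u

/-- The multiples of `q` in `ℤ`. -/
def Hq (q : ℕ) : AddSubgroup ℤ := AddSubgroup.zmultiples (q : ℤ)

instance (q : ℕ) : DecidablePred (· ∈ Hq q) :=
  fun i => decidable_of_iff ((q : ℤ) ∣ i) Int.mem_zmultiples_iff.symm

theorem mul_mem_Hq (q : ℕ) (j : ℤ) : j * q ∈ Hq q :=
  Int.mem_zmultiples_iff.mpr (Dvd.intro_left j rfl)

theorem exists_of_mem_Hq {q : ℕ} {i : ℤ} (hi : i ∈ Hq q) : ∃ j : ℤ, i = j * q := by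
  obtain ⟨j, hj⟩ := Int.mem_zmultiples_iff.mp hi
  exact ⟨j, by rw [hj, mul_comm]⟩

variable {R R' : Type u} [CommRing R] [CommRing R']

/-- `N` regarded as an `R'`-module through `φ : R' → R`. -/
def Rs (_φ : R' →+* R) (N : Type u) : Type u := N

instance (φ : R' →+* R) (N : Type u) [AddCommGroup N] : AddCommGroup (Rs φ N) :=
  inferInstanceAs (AddCommGroup N)

instance (φ : R' →+* R) (N : Type u) [AddCommGroup N] [Module R N] : Module R (Rs φ N) :=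
  inferInstanceAs (Module R N)

instance (φ : R' →+* R) (N : Type u) [AddCommGroup N] [Module R N] : Module R' (Rs φ N) :=
  Module.compHom N φ

theorem Rs.smul_def (φ : R' →+* R) {N : Type u} [AddCommGroup N] [Module R N] (r : R')
    (x : Rs φ N) : r • x = ((φ r • (show N from x) : N) : Rs φ N) := rfl

variable (𝒜 : ℤ → AddSubgroup R) [GradedRing 𝒜] (𝒜' : ℤ → AddSubgroup R') [GradedRing 𝒜']
variable (φ : R' →+* R) (q : ℕ)

/-- The hypotheses identifying `R'` with the `q`-th Veronese subring of `R`. -/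
structure VerHyp : Prop where
  hq : 0 < q
  hφ : Function.Injective φ
  hdeg : ∀ j : ℤ, (𝒜' j).map (φ : R' →+ R) = 𝒜 (j * q)

variable {𝒜 𝒜' φ q}

theorem phi_mem (hV : VerHyp 𝒜 𝒜' φ q) {j : ℤ} {r : R'} (hr : r ∈ 𝒜' j) : φ r ∈ 𝒜 (j * q) := by
  rw [← hV.hdeg j]
  exact ⟨r, hr, rfl⟩

theorem phi_mem_Vadd (hV : VerHyp 𝒜 𝒜' φ q) (r : R') : φ r ∈ Vadd (Hq q) 𝒜 := by
  classical
  rw [← DirectSum.sum_support_decompose 𝒜' r, map_sum]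
  refine AddSubgroup.sum_mem _ fun j _ => ?_
  exact mem_Vadd_of_mem (Hq q) 𝒜 (mul_mem_Hq q j) (phi_mem hV (SetLike.coe_mem _))

theorem exists_phi_eq (hV : VerHyp 𝒜 𝒜' φ q) {x : R} (hx : x ∈ Vadd (Hq q) 𝒜) :
    ∃ r : R', φ r = x := by
  classical
  have h1 : x ∈ (φ : R' →+ R).range := by
    rw [← DirectSum.sum_support_decompose 𝒜 x]
    refine AddSubgroup.sum_mem _ fun i _ => ?_
    by_cases hi : i ∈ Hq q
    · obtain ⟨j, rfl⟩ := exists_of_mem_Hq hi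
      have h2 : ((decompose 𝒜 x) (j * q) : R) ∈ (𝒜' j).map (φ : R' →+ R) := by
        rw [hV.hdeg j]
        exact SetLike.coe_mem _
      obtain ⟨r, -, hr⟩ := h2
      exact ⟨r, hr⟩
    · rw [hx i hi]
      exact zero_mem _
  exact h1

variable {N : Type u} [AddCommGroup N] [Module R N] (𝒩 : ℤ → AddSubgroup N)
  [DirectSum.Decomposition 𝒩] [SetLike.GradedSMul 𝒜 𝒩]

/-- The Veronese submodule `V(N) = ⊕_j N_{jq}` as an `R'`-submodule of `N`. -/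
def Vsub (hV : VerHyp 𝒜 𝒜' φ q) : Submodule R' (Rs φ N) where
  carrier := {x | (show N from x) ∈ Vadd (Hq q) 𝒩}
  add_mem' ha hb := (Vadd (Hq q) 𝒩).add_mem ha hb
  zero_mem' := (Vadd (Hq q) 𝒩).zero_mem
  smul_mem' r _ hx := smul_mem_Vadd (Hq q) 𝒜 𝒩 (phi_mem_Vadd hV r) hx

/-- The underlying element of `N`. -/
def Vval (hV : VerHyp 𝒜 𝒜' φ q) : ↥(Vsub 𝒩 hV) →+ N where
  toFun x := (show N from x.1)
  map_zero' := rfl
  map_add' _ _ := rfl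

theorem Vval_mem (hV : VerHyp 𝒜 𝒜' φ q) (x : ↥(Vsub 𝒩 hV)) : Vval 𝒩 hV x ∈ Vadd (Hq q) 𝒩 := x.2

theorem Vval_injective (hV : VerHyp 𝒜 𝒜' φ q) : Function.Injective (Vval 𝒩 hV) :=
  fun _ _ h => Subtype.ext h

theorem Vval_smul (hV : VerHyp 𝒜 𝒜' φ q) (r : R') (x : ↥(Vsub 𝒩 hV)) :
    Vval 𝒩 hV (r • x) = φ r • Vval 𝒩 hV x := rfl

/-- Make an element of `V(N)`. -/
def Vmk (hV : VerHyp 𝒜 𝒜' φ q) (x : N) (hx : x ∈ Vadd (Hq q) 𝒩) : ↥(Vsub 𝒩 hV) := ⟨x, hx⟩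

theorem Vval_Vmk (hV : VerHyp 𝒜 𝒜' φ q) (x : N) (hx : x ∈ Vadd (Hq q) 𝒩) :
    Vval 𝒩 hV (Vmk 𝒩 hV x hx) = x := rfl

/-- The pieces of `V(N)`: degree `j` is `N_{jq}`. -/
def Vgr (hV : VerHyp 𝒜 𝒜' φ q) : ℤ → AddSubgroup ↥(Vsub 𝒩 hV) :=
  fun j => (𝒩 (j * q)).comap (Vval 𝒩 hV)

theorem mem_Vgr (hV : VerHyp 𝒜 𝒜' φ q) {j : ℤ} {x : ↥(Vsub 𝒩 hV)} :
    x ∈ Vgr 𝒩 hV j ↔ Vval 𝒩 hV x ∈ 𝒩 (j * q) := Iff.rfl

theorem iSupIndep_comap {G G' : Type*} [AddCommGroup G] [AddCommGroup G'] (f : G →+ G')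
    (hf : Function.Injective f) {κ : Type*} (A : κ → AddSubgroup G') (hA : iSupIndep A) :
    iSupIndep (fun i => (A i).comap f) := by
  intro i
  rw [disjoint_iff, eq_bot_iff]
  intro x hx
  obtain ⟨hx1, hx2⟩ := hx
  have h1 : (⨆ (k : κ) (_ : k ≠ i), (A k).comap f) ≤ (⨆ (k : κ) (_ : k ≠ i), A k).comap f :=
    iSup₂_le fun k hk => AddSubgroup.comap_mono (le_iSup₂ (f := fun k (_ : k ≠ i) => A k) k hk)
  have h2 : f x ∈ A i ⊓ ⨆ (k : κ) (_ : k ≠ i), A k := ⟨hx1, h1 hx2⟩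
  have h3 : f x = 0 := by
    have := (hA i).le_bot h2
    exact this
  rw [AddSubgroup.mem_bot]
  apply hf
  rw [h3, map_zero]

theorem isInternal_Vgr (hV : VerHyp 𝒜 𝒜' φ q) : DirectSum.IsInternal (Vgr 𝒩 hV) := by
  classical
  constructor
  · have h1 : iSupIndep 𝒩 := (DirectSum.Decomposition.isInternal 𝒩).addSubgroup_iSupIndep
    have hq0 : (q : ℤ) ≠ 0 := by exact_mod_cast hV.hq.ne'
    have hσ : Function.Injective (fun j : ℤ => j * (q : ℤ)) := mul_left_injective₀ hq0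
    have h2 : iSupIndep (fun j : ℤ => 𝒩 (j * q)) := h1.comp hσ
    have h3 : iSupIndep (Vgr 𝒩 hV) :=
      iSupIndep_comap (Vval 𝒩 hV) (Vval_injective 𝒩 hV) _ h2
    exact h3.dfinsuppSumAddHom_injective
  · intro x
    have h1 : x = ∑ i ∈ (decompose 𝒩 (Vval 𝒩 hV x)).support,
        Vmk 𝒩 hV ((decompose 𝒩 (Vval 𝒩 hV x)) i : N)
          (decompose_mem_Vadd (Hq q) 𝒩 (Vval_mem 𝒩 hV x) i) := by
      apply Vval_injective 𝒩 hV
      rw [map_sum]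
      simp only [Vval_Vmk]
      exact (DirectSum.sum_support_decompose 𝒩 (Vval 𝒩 hV x)).symm
    have h2 : x ∈ (DirectSum.coeAddMonoidHom (Vgr 𝒩 hV)).range := by
      rw [h1]
      refine AddSubgroup.sum_mem _ fun i _ => ?_
      by_cases hi : i ∈ Hq q
      · obtain ⟨j, rfl⟩ := exists_of_mem_Hq hi
        refine ⟨DirectSum.of (fun j => ↥(Vgr 𝒩 hV j)) j
          ⟨Vmk 𝒩 hV ((decompose 𝒩 (Vval 𝒩 hV x)) (j * q) : N)
            (decompose_mem_Vadd (Hq q) 𝒩 (Vval_mem 𝒩 hV x) (j * q)), ?_⟩, ?_⟩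
        · exact SetLike.coe_mem ((decompose 𝒩 (Vval 𝒩 hV x)) (j * q))
        · rw [DirectSum.coeAddMonoidHom_of]
      · have h3 : ((decompose 𝒩 (Vval 𝒩 hV x)) i : N) = 0 := Vval_mem 𝒩 hV x i hi
        have h4 : Vmk 𝒩 hV ((decompose 𝒩 (Vval 𝒩 hV x)) i : N)
            (decompose_mem_Vadd (Hq q) 𝒩 (Vval_mem 𝒩 hV x) i) = 0 := by
          apply Vval_injective 𝒩 hV
          rw [Vval_Vmk, h3, map_zero]
        rw [h4]
        exact zero_mem _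
    exact h2

/-- The decomposition of `V(N)`. -/
@[instance_reducible]
def VDec (hV : VerHyp 𝒜 𝒜' φ q) : DirectSum.Decomposition (Vgr 𝒩 hV) :=
  (isInternal_Vgr 𝒩 hV).chooseDecomposition

theorem VGS (hV : VerHyp 𝒜 𝒜' φ q) : SetLike.GradedSMul 𝒜' (Vgr 𝒩 hV) where
  smul_mem := by
    intro i j a b ha hb
    rw [vadd_eq_add, mem_Vgr, Vval_smul, add_mul]
    exact SetLike.GradedSMul.smul_mem (A := 𝒜) (B := 𝒩) (phi_mem hV ha) hb

/-- `V(N)` as a bundled graded `R'`-module. -/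
def VG (hV : VerHyp 𝒜 𝒜' φ q) : GMod.{u} 𝒜' :=
  { carrier := ↥(Vsub 𝒩 hV), gr := Vgr 𝒩 hV, dec := VDec 𝒩 hV, gsmul := VGS 𝒩 hV }

variable {P : Type u} [AddCommGroup P] [Module R P] (𝓟 : ℤ → AddSubgroup P)
  [DirectSum.Decomposition 𝓟] [SetLike.GradedSMul 𝒜 𝓟]

/-- The Veronese functor on homogeneous maps. -/
def Vmap (hV : VerHyp 𝒜 𝒜' φ q) (f : N →ₗ[R] P) (hf : IsGrHom 𝒩 𝓟 f) :
    ↥(Vsub 𝒩 hV) →ₗ[R'] ↥(Vsub 𝓟 hV) where
  toFun x := Vmk 𝓟 hV (f (Vval 𝒩 hV x))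
    (map_mem_Vadd (Hq q) 𝒩 𝓟 f hf (Vval_mem 𝒩 hV x))
  map_add' _ _ := Subtype.ext (map_add f _ _)
  map_smul' r _ := Subtype.ext (map_smul f (φ r) _)

theorem Vval_Vmap (hV : VerHyp 𝒜 𝒜' φ q) (f : N →ₗ[R] P) (hf : IsGrHom 𝒩 𝓟 f)
    (x : ↥(Vsub 𝒩 hV)) : Vval 𝓟 hV (Vmap 𝒩 𝓟 hV f hf x) = f (Vval 𝒩 hV x) := rfl

theorem Vmap_isGrHom (hV : VerHyp 𝒜 𝒜' φ q) (f : N →ₗ[R] P) (hf : IsGrHom 𝒩 𝓟 f) :
    IsGrHom (Vgr 𝒩 hV) (Vgr 𝓟 hV) (Vmap 𝒩 𝓟 hV f hf) :=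
  fun j x hx => hf (j * q) (Vval 𝒩 hV x) hx

theorem Vmap_injective (hV : VerHyp 𝒜 𝒜' φ q) (f : N →ₗ[R] P) (hf : IsGrHom 𝒩 𝓟 f)
    (hinj : Function.Injective f) : Function.Injective (Vmap 𝒩 𝓟 hV f hf) := by
  intro x y hxy
  apply Vval_injective 𝒩 hV
  apply hinj
  exact congrArg (Vval 𝓟 hV) hxy

variable {Q : Type u} [AddCommGroup Q] [Module R Q] (𝓠 : ℤ → AddSubgroup Q)
  [DirectSum.Decomposition 𝓠] [SetLike.GradedSMul 𝒜 𝓠]

theorem Vmap_ker_eq_range (hV : VerHyp 𝒜 𝒜' φ q) (f : N →ₗ[R] P) (hf : IsGrHom 𝒩 𝓟 f)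
    (g : P →ₗ[R] Q) (hg : IsGrHom 𝓟 𝓠 g) (hex : LinearMap.ker g = LinearMap.range f) :
    LinearMap.ker (Vmap 𝓟 𝓠 hV g hg) = LinearMap.range (Vmap 𝒩 𝓟 hV f hf) := by
  apply le_antisymm
  · intro y hy
    have hy0 : g (Vval 𝓟 hV y) = 0 := congrArg (Vval 𝓠 hV) (LinearMap.mem_ker.mp hy)
    have hy1 : Vval 𝓟 hV y ∈ LinearMap.range f := by
      rw [← hex]
      exact hy0
    obtain ⟨x, hx⟩ := hy1
    refine ⟨Vmk 𝒩 hV (vproj (Hq q) 𝒩 x) (vproj_mem (Hq q) 𝒩 x), ?_⟩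
    apply Vval_injective 𝓟 hV
    rw [Vval_Vmap, Vval_Vmk, vproj_map (Hq q) 𝒩 𝓟 f hf, hx]
    exact vproj_eq_self (Hq q) 𝓟 (Vval_mem 𝓟 hV y)
  · rintro _ ⟨x, rfl⟩
    rw [LinearMap.mem_ker]
    apply Vval_injective 𝓠 hV
    rw [Vval_Vmap, Vval_Vmap, map_zero]
    have h1 : f (Vval 𝒩 hV x) ∈ LinearMap.ker g := by
      rw [hex]
      exact ⟨_, rfl⟩
    exact h1

/-- The Veronese projection as an `R'`-linear map. -/
def Vproj (hV : VerHyp 𝒜 𝒜' φ q) : Rs φ N →ₗ[R'] ↥(Vsub 𝒩 hV) where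
  toFun x := Vmk 𝒩 hV (vproj (Hq q) 𝒩 (show N from x)) (vproj_mem (Hq q) 𝒩 _)
  map_add' _ _ := Subtype.ext (map_add (vproj (Hq q) 𝒩) _ _)
  map_smul' r _ := Subtype.ext (vproj_smul (Hq q) 𝒜 𝒩 (phi_mem_Vadd hV r) _)

theorem Vproj_comp_subtype (hV : VerHyp 𝒜 𝒜' φ q) :
    Vproj 𝒩 hV ∘ₗ (Vsub 𝒩 hV).subtype = LinearMap.id := by
  ext x
  exact vproj_eq_self (Hq q) 𝒩 (Vval_mem 𝒩 hV x)

section Noeth

theorem comap_map_eq (hV : VerHyp 𝒜 𝒜' φ q) (J : Ideal R') : (J.map φ).comap φ = J := by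
  apply le_antisymm
  · intro x hx
    rw [Ideal.mem_comap] at hx
    have key : ∀ z ∈ Ideal.map φ J, ∀ r : R, ∃ y ∈ J, φ y = vproj (Hq q) 𝒜 (r * z) := by
      intro z hz
      refine Submodule.span_induction (p := fun z _ => ∀ r : R, ∃ y ∈ J,
        φ y = vproj (Hq q) 𝒜 (r * z)) ?_ ?_ ?_ ?_ hz
      · rintro _ ⟨y₀, hy₀, rfl⟩ r
        obtain ⟨s, hs⟩ := exists_phi_eq hV (vproj_mem (Hq q) 𝒜 r)
        refine ⟨y₀ * s, J.mul_mem_right _ hy₀, ?_⟩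
        have h1 : r * φ y₀ = φ y₀ • r := by rw [smul_eq_mul, mul_comm]
        rw [h1, vproj_smul (Hq q) 𝒜 𝒜 (phi_mem_Vadd hV y₀), map_mul, hs, smul_eq_mul]
      · intro r
        exact ⟨0, J.zero_mem, by rw [mul_zero, map_zero, map_zero]⟩
      · intro z₁ z₂ _ _ h₁ h₂ r
        obtain ⟨y₁, hy₁, e₁⟩ := h₁ r
        obtain ⟨y₂, hy₂, e₂⟩ := h₂ r
        exact ⟨y₁ + y₂, J.add_mem hy₁ hy₂, by rw [map_add, e₁, e₂, mul_add, map_add]⟩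
      · intro c z _ h r
        obtain ⟨y, hy, e⟩ := h (r * c)
        exact ⟨y, hy, by rw [e, smul_eq_mul, mul_assoc]⟩
    obtain ⟨y, hy, e⟩ := key (φ x) hx 1
    rw [one_mul, vproj_eq_self (Hq q) 𝒜 (phi_mem_Vadd hV x)] at e
    rw [← hV.hφ e]
    exact hy
  · exact Ideal.le_comap_map

theorem isNoetherianRing_of_verHyp (hV : VerHyp 𝒜 𝒜' φ q) [IsNoetherianRing R] :
    IsNoetherianRing R' := by
  have hmono : StrictMono (fun J : Ideal R' => J.map φ) := by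
    intro J₁ J₂ h
    refine lt_of_le_of_ne (Ideal.map_mono h.le) fun heq => ?_
    apply h.ne
    rw [← comap_map_eq hV J₁, ← comap_map_eq hV J₂]
    exact congrArg (Ideal.comap φ) heq
  haveI : WellFoundedGT (Ideal R') := StrictMono.wellFoundedGT hmono
  exact isNoetherian_iff'.mpr inferInstance

end Noeth

end Groth.Agent.Lib.T2H3.Ver
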