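import Groth.Agent.Lib.T2H3VerH
import Groth.Agent.Lib.T2H3VerB

/-! Veronese subrings of Gorenstein graded rings (helper3), part I: graded rings with pieces in
`AddSubgroup R` over a field `K` acting in degree zero; the graded dual `R^*` in this setting, and
the Veronese module `V(R^*)` as the graded dual of the Veronese subring `R'`; it is *injective. -/

set_option autoImplicit false
set_option linter.unusedSectionVars false
set_option linter.style.haveILetI false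
open DirectSum

noncomputable section

namespace Groth.Agent.Lib.T2H3.GDual

open Groth.Agent.Lib.T2H3.GrTr Groth.Agent.Lib.T2H3.Ver GrLC

universe u

/-- The field `K` acts on the graded ring `R` in degree zero. -/
class KGraded (K : Type u) [Field K] {R : Type u} [CommRing R] [Algebra K R]
    (𝒜 : ℤ → AddSubgroup R) : Prop where
  mem : ∀ c : K, algebraMap K R c ∈ 𝒜 0

section SubK

variable (K : Type u) [Field K] {R : Type u} [CommRing R] [Algebra K R]
  (𝒜 : ℤ → AddSubgroup R) [GradedRing 𝒜] [KGraded K 𝒜]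

/-- The pieces, as `K`-subspaces. -/
def subK (n : ℤ) : Submodule K R where
  carrier := 𝒜 n
  add_mem' := add_mem
  zero_mem' := zero_mem _
  smul_mem' c x hx := by
    rw [Algebra.smul_def]
    have h := SetLike.GradedMul.mul_mem (KGraded.mem (𝒜 := 𝒜) c) hx
    rwa [zero_add] at h

theorem mem_subK {n : ℤ} {x : R} : x ∈ subK K 𝒜 n ↔ x ∈ 𝒜 n := Iff.rfl

instance subK_decomposition : DirectSum.Decomposition (subK K 𝒜) :=
  decompositionOfCarrier 𝒜 (subK K 𝒜) (fun _ _ => Iff.rfl)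

instance subK_gradedAlgebra : GradedAlgebra (subK K 𝒜) :=
  { one_mem := SetLike.GradedOne.one_mem (A := 𝒜)
    mul_mem := fun _ _ _ _ ha hb => SetLike.GradedMul.mul_mem (A := 𝒜) ha hb
    toDecomposition := subK_decomposition K 𝒜 }

theorem decompose_subK (x : R) (i : ℤ) :
    ((DirectSum.decompose (subK K 𝒜) x) i : R) = ((DirectSum.decompose 𝒜 x) i : R) := by
  change ((DirectSum.map
    (fun i => (pieceEquiv 𝒜 (subK K 𝒜) (fun _ _ => Iff.rfl) i).toAddMonoidHom)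
    (DirectSum.decompose 𝒜 x)) i : R) = _
  rw [DirectSum.map_apply]
  rfl

theorem isHomogeneous_subK {I : Ideal R} (h : I.IsHomogeneous 𝒜) :
    I.IsHomogeneous (subK K 𝒜) := by
  intro i r hr
  rw [decompose_subK]
  exact h i hr

/-- Transfer of homogeneous ideals. -/
def hiK (m : HomogeneousIdeal 𝒜) : HomogeneousIdeal (subK K 𝒜) :=
  ⟨m.toIdeal, isHomogeneous_subK K 𝒜 m.isHomogeneous⟩

@[simp] theorem hiK_toIdeal (m : HomogeneousIdeal 𝒜) : (hiK K 𝒜 m).toIdeal = m.toIdeal := rfl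

theorem gradedSMul_subK {N : Type u} [AddCommGroup N] [Module R N] (𝒩 : ℤ → AddSubgroup N)
    [h : SetLike.GradedSMul 𝒜 𝒩] : SetLike.GradedSMul (subK K 𝒜) 𝒩 where
  smul_mem := fun {_ _ _ _} ha hm => h.smul_mem ha hm

theorem gradedSMul_of_subK {N : Type u} [AddCommGroup N] [Module R N] (𝒩 : ℤ → AddSubgroup N)
    (h : SetLike.GradedSMul (subK K 𝒜) 𝒩) : SetLike.GradedSMul 𝒜 𝒩 where
  smul_mem := fun {_ _ _ _} ha hm => h.smul_mem ha hm

/-- Transfer of bundled graded modules. -/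
def gmK (X : GrLC.GMod.{u} 𝒜) : GrLC.GMod.{u} (subK K 𝒜) :=
  { carrier := X.carrier
    gr := X.gr
    dec := X.dec
    gsmul := gradedSMul_subK K 𝒜 X.gr }

theorem isStarInj_of_subK {N : Type u} [AddCommGroup N] [Module R N] (𝒩 : ℤ → AddSubgroup N)
    [DirectSum.Decomposition 𝒩] [SetLike.GradedSMul 𝒜 𝒩] [SetLike.GradedSMul (subK K 𝒜) 𝒩]
    (h : GrLC.IsStarInj (subK K 𝒜) 𝒩) : GrLC.IsStarInj 𝒜 𝒩 :=
  fun A B f hf hinj g hg => h (gmK K 𝒜 A) (gmK K 𝒜 B) f hf hinj g hg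

/-- The graded dual of `R`. -/
abbrev GDK : Type u := GD (subK K 𝒜)

/-- Its pieces. -/
abbrev pieceA : ℤ → AddSubgroup (GDK K 𝒜) := piece (subK K 𝒜)

instance pieceA_gradedSMul : SetLike.GradedSMul 𝒜 (pieceA K 𝒜) :=
  gradedSMul_of_subK K 𝒜 _ (piece_gradedSMul (subK K 𝒜))

variable [Nontrivial R]

/-- `R^*` is a *injective envelope of `R/R_+`, in the `AddSubgroup` framework. -/
theorem exists_hullA (hpos : ∀ n : ℤ, n < 0 → 𝒜 n = ⊥)
    (h0 : ∀ x ∈ 𝒜 0, ∃ c : K, algebraMap K R c = x) (m : HomogeneousIdeal 𝒜)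
    (hm : m.toIdeal = Ideal.span (⋃ n ∈ Set.Ioi (0 : ℤ), (𝒜 n : Set R))) :
    ∃ e : (R ⧸ m.toIdeal) →ₗ[R] GDK K 𝒜,
      GrLC.IsStarInjHull 𝒜 (GrLC.quotGr 𝒜 m) (pieceA K 𝒜) e := by
  have hposK : ∀ n : ℤ, n < 0 → subK K 𝒜 n = ⊥ := by
    intro n hn
    rw [Submodule.eq_bot_iff]
    intro x hx
    have hx' : x ∈ 𝒜 n := hx
    rw [hpos n hn, AddSubgroup.mem_bot] at hx'
    exact hx'
  have h0K : subK K 𝒜 0 = Submodule.span K {(1 : R)} := by
    apply le_antisymm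
    · intro x hx
      obtain ⟨c, rfl⟩ := h0 x hx
      rw [Submodule.mem_span_singleton]
      exact ⟨c, (Algebra.algebraMap_eq_smul_one c).symm⟩
    · rw [Submodule.span_le]
      intro x hx
      rw [Set.mem_singleton_iff] at hx
      rw [hx]
      exact SetLike.GradedOne.one_mem (A := 𝒜)
  obtain ⟨e, he⟩ := exists_hull (subK K 𝒜) hposK h0K (hiK K 𝒜 m) hm
  exact ⟨e, ⟨⟨he.injective, fun g x hx => he.grHom g x hx, he.essential⟩,
    isStarInj_of_subK K 𝒜 _ he.starInj⟩⟩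

end SubK

section Veronese

variable (K : Type u) [Field K] {R R' : Type u} [CommRing R] [CommRing R'] [Algebra K R]
  [Algebra K R']
  (𝒜 : ℤ → AddSubgroup R) [GradedRing 𝒜] [KGraded K 𝒜]
  (𝒜' : ℤ → AddSubgroup R') [GradedRing 𝒜'] [KGraded K 𝒜']
  {φ : R' →+* R} {q : ℕ} (hV : VerHyp 𝒜 𝒜' φ q)
  (hφK : ∀ c : K, φ (algebraMap K R' c) = algebraMap K R c)

/-- `φ` as a `K`-linear map. -/
def phiK : R' →ₗ[K] R where
  toFun := φ
  map_add' := map_add φ
  map_smul' c x := by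
    rw [Algebra.smul_def, map_mul, hφK, RingHom.id_apply, Algebra.smul_def]

theorem phiK_apply (x : R') : phiK K hφK x = φ x := rfl

include hφK in
/-- `V(R^*)` is *injective over the Veronese subring. -/
theorem isStarInj_Vgr [DirectSum.Decomposition (Vgr (pieceA K 𝒜) hV)]
    [SetLike.GradedSMul 𝒜' (Vgr (pieceA K 𝒜) hV)] :
    GrLC.IsStarInj 𝒜' (Vgr (pieceA K 𝒜) hV) := by
  classical
  have hq0 : (q : ℤ) ≠ 0 := by exact_mod_cast hV.hq.ne'
  letI : Module K ↥(Vsub (pieceA K 𝒜) hV) :=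
    Module.compHom ↥(Vsub (pieceA K 𝒜) hV) (algebraMap K R')
  haveI : IsScalarTower K R' ↥(Vsub (pieceA K 𝒜) hV) :=
    IsScalarTower.of_algebraMap_smul (fun _ _ => rfl)
  haveI : SetLike.GradedSMul (subK K 𝒜') (Vgr (pieceA K 𝒜) hV) :=
    gradedSMul_subK K 𝒜' (Vgr (pieceA K 𝒜) hV)
  have hD := isGDual (subK K 𝒜)
  -- the pairing
  have hval_smul : ∀ (c : K) (d : ↥(Vsub (pieceA K 𝒜) hV)),
      Vval (pieceA K 𝒜) hV (c • d) = c • Vval (pieceA K 𝒜) hV d := by
    intro c d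
    change Vval (pieceA K 𝒜) hV ((algebraMap K R' c) • d) = _
    rw [Vval_smul, hφK, algebraMap_smul]
  let β' : ↥(Vsub (pieceA K 𝒜) hV) →ₗ[K] R' →ₗ[K] K :=
    { toFun := fun d => (ev (subK K 𝒜) (Vval (pieceA K 𝒜) hV d)) ∘ₗ phiK K hφK
      map_add' := fun a b => by
        rw [map_add, map_add, LinearMap.add_comp]
      map_smul' := fun c d => by
        rw [hval_smul, map_smul, LinearMap.smul_comp, RingHom.id_apply] }
  have hβ' : ∀ (d : ↥(Vsub (pieceA K 𝒜) hV)) (x : R'),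
      β' d x = ev (subK K 𝒜) (Vval (pieceA K 𝒜) hV d) (φ x) := fun _ _ => rfl
  have hD' : GrSeg.IsGDual R' (subK K 𝒜') (Vgr (pieceA K 𝒜) hV) β' := by
    refine ⟨?_, ?_, ?_, ?_⟩
    · intro r d x
      rw [hβ', hβ', Vval_smul, ev_smul, smul_eq_mul, map_mul φ]
    · intro n d hd m hm x hx
      rw [hβ']
      have hd' : Vval (pieceA K 𝒜) hV d ∈ pieceA K 𝒜 (n * q) := hd
      refine hd' (m * q) ?_ (φ x) (phi_mem hV hx)
      intro h
      apply hm
      have h2 : m * (q : ℤ) = (-n) * q := by rw [h]; ring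
      exact mul_right_cancel₀ hq0 h2
    · intro n d hd h
      have hd' : Vval (pieceA K 𝒜) hV d ∈ pieceA K 𝒜 (n * q) := hd
      apply Vval_injective (pieceA K 𝒜) hV
      rw [map_zero]
      apply hD.eq_zero (n * q) _ hd'
      intro y hy
      have hy' : y ∈ 𝒜 ((-n) * q) := by
        have : -(n * (q : ℤ)) = (-n) * q := by ring
        rw [← this]
        exact hy
      rw [← hV.hdeg (-n)] at hy'
      obtain ⟨x, hx, rfl⟩ := hy'
      exact h x hx
    · intro n g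
      obtain ⟨ψ, hψ⟩ := LinearMap.exists_leftInverse_of_injective (phiK K hφK) (by
        rw [LinearMap.ker_eq_bot]
        exact hV.hφ)
      obtain ⟨d₀, hd₀, hd₀g⟩ := hD.exists_eq (n * q) (g ∘ₗ ψ)
      have hd₀V : d₀ ∈ Vadd (Hq q) (pieceA K 𝒜) :=
        mem_Vadd_of_mem (Hq q) (pieceA K 𝒜) (mul_mem_Hq q n) hd₀
      refine ⟨Vmk (pieceA K 𝒜) hV d₀ hd₀V, hd₀, ?_⟩
      intro x hx
      rw [hβ', Vval_Vmk]
      have hx' : φ x ∈ subK K 𝒜 (-(n * q)) := by
        have : -(n * (q : ℤ)) = (-n) * q := by ring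
        rw [this]
        exact phi_mem hV hx
      rw [hd₀g (φ x) hx', LinearMap.comp_apply]
      have h3 : ψ (φ x) = x := LinearMap.congr_fun hψ x
      rw [h3]
  exact isStarInj_of_subK K 𝒜' _
    (isStarInj_of_isGDual (subK K 𝒜') (Vgr (pieceA K 𝒜) hV) β' hD')

/-- The Veronese module of the graded dual. -/
abbrev VD : GrLC.GMod.{u} 𝒜' := VG (pieceA K 𝒜) hV

include hφK in
theorem isStarInj_VD : GrLC.IsStarInj 𝒜' (VD K 𝒜 𝒜' hV).gr :=
  @isStarInj_Vgr K _ R R' _ _ _ _ 𝒜 _ _ 𝒜' _ _ φ q hV hφK (VDec (pieceA K 𝒜) hV)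
    (VGS (pieceA K 𝒜) hV)

end Veronese

end Groth.Agent.Lib.T2H3.GDual
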