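import Groth.Agent.Lib.T2H3GDualA
import Groth.Agent.Lib.T2H3VerI

/-! Graded duals (helper3), part B: the Veronese module of a graded dual is the graded dual of the
Veronese module. -/

set_option autoImplicit false
set_option linter.unusedSectionVars false
set_option linter.unusedVariables false
set_option linter.style.haveILetI false
set_option maxHeartbeats 1000000
open DirectSum

noncomputable section

namespace Groth.Agent.Lib.T2H3.GDualU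

open Groth.Agent.Lib.LeadGD Groth.Agent.Lib.T2H3.Ver Groth.Agent.Lib.T2H3.GDual GrLC

universe u

section Ver

variable (K : Type u) [Field K] {R R' : Type u} [CommRing R] [CommRing R'] [Algebra K R]
  [Algebra K R']
  (𝒜 : ℤ → AddSubgroup R) [GradedRing 𝒜] [KGraded K 𝒜]
  (𝒜' : ℤ → AddSubgroup R') [GradedRing 𝒜'] [KGraded K 𝒜']
  {φ : R' →+* R} {q : ℕ} (hV : VerHyp 𝒜 𝒜' φ q)
  (hφK : ∀ c : K, φ (algebraMap K R' c) = algebraMap K R c)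
  {C : Type u} [AddCommGroup C] [Module R C] [Module K C] [IsScalarTower K R C]
  (𝒞 : ℤ → AddSubgroup C) [DirectSum.Decomposition 𝒞] [SetLike.GradedSMul 𝒜 𝒞]
  {H : Type u} [AddCommGroup H] [Module R H] [Module K H] [IsScalarTower K R H]
  (𝓗 : ℤ → AddSubgroup H) [DirectSum.Decomposition 𝓗] [SetLike.GradedSMul 𝒜 𝓗]

/-- The `K`-structure of a Veronese module. -/
@[instance_reducible]
def VsubModK : Module K ↥(Vsub 𝒞 hV) := Module.compHom ↥(Vsub 𝒞 hV) (algebraMap K R')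

theorem VsubTower : letI := VsubModK K 𝒜 𝒜' hV 𝒞
    IsScalarTower K R' ↥(Vsub 𝒞 hV) :=
  letI := VsubModK K 𝒜 𝒜' hV 𝒞
  IsScalarTower.of_algebraMap_smul (fun _ _ => rfl)

include hφK in
theorem Vval_ksmul (c : K) (x : ↥(Vsub 𝒞 hV)) : letI := VsubModK K 𝒜 𝒜' hV 𝒞
    Vval 𝒞 hV (c • x) = c • Vval 𝒞 hV x := by
  letI := VsubModK K 𝒜 𝒜' hV 𝒞
  change Vval 𝒞 hV ((algebraMap K R' c) • x) = _
  rw [Vval_smul, hφK, algebraMap_smul]

variable (β : H →ₗ[K] C →ₗ[K] K)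

/-- The restricted pairing. -/
def pairV : letI := VsubModK K 𝒜 𝒜' hV 𝒞
    letI := VsubModK K 𝒜 𝒜' hV 𝓗
    ↥(Vsub 𝓗 hV) →ₗ[K] ↥(Vsub 𝒞 hV) →ₗ[K] K :=
  letI := VsubModK K 𝒜 𝒜' hV 𝒞
  letI := VsubModK K 𝒜 𝒜' hV 𝓗
  { toFun := fun h =>
      { toFun := fun c => β (Vval 𝓗 hV h) (Vval 𝒞 hV c)
        map_add' := fun c c' => by rw [map_add, map_add]
        map_smul' := fun k c => by
          rw [Vval_ksmul K 𝒜 𝒜' hV hφK 𝒞, map_smul, RingHom.id_apply] }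
    map_add' := fun h h' => LinearMap.ext fun c => by
      change β (Vval 𝓗 hV (h + h')) (Vval 𝒞 hV c) =
        β (Vval 𝓗 hV h) (Vval 𝒞 hV c) + β (Vval 𝓗 hV h') (Vval 𝒞 hV c)
      rw [map_add, map_add, LinearMap.add_apply]
    map_smul' := fun k h => LinearMap.ext fun c => by
      change β (Vval 𝓗 hV (k • h)) (Vval 𝒞 hV c) = k • β (Vval 𝓗 hV h) (Vval 𝒞 hV c)
      rw [Vval_ksmul K 𝒜 𝒜' hV hφK 𝓗, map_smul, LinearMap.smul_apply] }

theorem pairV_apply (h : ↥(Vsub 𝓗 hV)) (c : ↥(Vsub 𝒞 hV)) :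
    pairV K 𝒜 𝒜' hV hφK 𝒞 𝓗 β h c = β (Vval 𝓗 hV h) (Vval 𝒞 hV c) := rfl

variable {β}

/-- `V(H)` is the graded dual of `V(C)`. -/
theorem isGDual_Vsub (hD : GrSeg.IsGDual R 𝒞 𝓗 β)
    [DirectSum.Decomposition (Vgr 𝒞 hV)] [DirectSum.Decomposition (Vgr 𝓗 hV)] :
    letI := VsubModK K 𝒜 𝒜' hV 𝒞
    letI := VsubModK K 𝒜 𝒜' hV 𝓗
    haveI := VsubTower K 𝒜 𝒜' hV 𝒞
    haveI := VsubTower K 𝒜 𝒜' hV 𝓗
    GrSeg.IsGDual R' (Vgr 𝒞 hV) (Vgr 𝓗 hV) (pairV K 𝒜 𝒜' hV hφK 𝒞 𝓗 β) := by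
  classical
  letI := VsubModK K 𝒜 𝒜' hV 𝒞
  letI := VsubModK K 𝒜 𝒜' hV 𝓗
  haveI := VsubTower K 𝒜 𝒜' hV 𝒞
  haveI := VsubTower K 𝒜 𝒜' hV 𝓗
  have hq0 : (q : ℤ) ≠ 0 := by exact_mod_cast hV.hq.ne'
  refine ⟨?_, ?_, ?_, ?_⟩
  · intro r h c
    rw [pairV_apply, pairV_apply, Vval_smul, Vval_smul, hD.map_smul]
  · intro n h hh m hm c hc
    rw [pairV_apply]
    refine hD.vanish (n * q) _ hh (m * q) ?_ _ hc
    intro h1
    apply hm
    have h2 : m * (q : ℤ) = (-n) * q := by rw [h1]; ring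
    exact mul_right_cancel₀ hq0 h2
  · intro n h hh hzero
    apply Vval_injective 𝓗 hV
    rw [map_zero]
    refine hD.eq_zero (n * q) _ hh fun y hy => ?_
    have hy' : y ∈ 𝒞 ((-n) * q) := by
      have e1 : -(n * (q : ℤ)) = (-n) * q := by ring
      rw [← e1]
      exact hy
    have hyV : y ∈ Vadd (Hq q) 𝒞 := mem_Vadd_of_mem (Hq q) 𝒞 (mul_mem_Hq q (-n)) hy'
    have h1 := hzero (Vmk 𝒞 hV y hyV) hy'
    rw [pairV_apply, Vval_Vmk] at h1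
    exact h1
  · intro n g
    haveI : SetLike.GradedSMul (subK K 𝒜) 𝒞 := gradedSMul_subK K 𝒜 𝒞
    have e1 : -(n * (q : ℤ)) = (-n) * q := by ring
    have hW : ∀ y : pc (subK K 𝒜) 𝒞 (-(n * (q : ℤ))), (y : C) ∈ Vadd (Hq q) 𝒞 := by
      intro y
      have hy : (y : C) ∈ 𝒞 ((-n) * q) := by
        rw [← e1]
        exact y.2
      exact mem_Vadd_of_mem (Hq q) 𝒞 (mul_mem_Hq q (-n)) hy
    let g₀ : pc (subK K 𝒜) 𝒞 (-(n * (q : ℤ))) →ₗ[K] K :=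
      { toFun := fun y => g (Vmk 𝒞 hV (y : C) (hW y))
        map_add' := fun y y' => by
          rw [← map_add]
          congr 1
        map_smul' := fun k y => by
          rw [RingHom.id_apply, ← map_smul]
          congr 1
          apply Vval_injective 𝒞 hV
          rw [Vval_ksmul K 𝒜 𝒜' hV hφK 𝒞, Vval_Vmk, Vval_Vmk]
          rfl }
    obtain ⟨g', hg'⟩ := LinearMap.exists_extend g₀
    obtain ⟨d, hd, hdg⟩ := hD.exists_eq (n * q) g'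
    have hdV : d ∈ Vadd (Hq q) 𝓗 := mem_Vadd_of_mem (Hq q) 𝓗 (mul_mem_Hq q n) hd
    refine ⟨Vmk 𝓗 hV d hdV, hd, fun c hc => ?_⟩
    have hc' : Vval 𝒞 hV c ∈ 𝒞 (-(n * (q : ℤ))) := by
      rw [e1]
      exact hc
    rw [pairV_apply, Vval_Vmk, hdg _ hc']
    have h1 := LinearMap.congr_fun hg' (⟨Vval 𝒞 hV c, hc'⟩ : pc (subK K 𝒜) 𝒞 (-(n * (q : ℤ))))
    rw [LinearMap.comp_apply] at h1
    exact h1

end Ver

end Groth.Agent.Lib.T2H3.GDualU
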