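import Groth.Agent.Lib.T2H3GrLesE

/-! Graded local cohomology: the long exact sequence of a short exact sequence of graded
modules, for arbitrary *injective resolutions of the three terms and arbitrary homogeneous
lifts of the two maps; exactness in each degree (helper3). -/

set_option autoImplicit false
set_option linter.unusedSectionVars false
open DirectSum

noncomputable section

namespace Groth.Agent.Lib.T2H3.GrLes

open GrLC Groth.Agent.Lib.Helper29GrHom Groth.Agent.Lib.Helper29GrSub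
  Groth.Agent.Lib.Helper29GrQuot Groth.Agent.Lib.Helper29GrGam

universe u

variable {ι : Type} [AddCommGroup ι] [DecidableEq ι]
variable {R : Type u} [CommRing R] {𝒜 : ι → AddSubgroup R} [GradedRing 𝒜]
variable {M' : Type u} [AddCommGroup M'] [Module R M'] {ℳ' : ι → AddSubgroup M'}
  [DirectSum.Decomposition ℳ'] [SetLike.GradedSMul 𝒜 ℳ']
variable {M : Type u} [AddCommGroup M] [Module R M] {ℳ : ι → AddSubgroup M}
  [DirectSum.Decomposition ℳ] [SetLike.GradedSMul 𝒜 ℳ]
variable {M'' : Type u} [AddCommGroup M''] [Module R M''] {ℳ'' : ι → AddSubgroup M''}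
  [DirectSum.Decomposition ℳ''] [SetLike.GradedSMul 𝒜 ℳ'']

section Dec

variable (E : StarInjRes 𝒜 ℳ) (a : HomogeneousIdeal 𝒜) (i : ℕ)

theorem cocyc_isHomogeneous : (E.cocyc a i).IsHomogeneous (E.X i).gr :=
  inf_isHomogeneous (E.X i).gr (gam_isHomogeneous 𝒜 (E.X i).gr a)
    (ker_isHomogeneous (E.X (i + 1)).gr (E.X i).gr (E.d i) (E.d_grHom i))

theorem cobdy_isHomogeneous : (E.cobdy a i).IsHomogeneous (E.X i).gr := by
  cases i with
  | zero => exact IsHomogeneous.bot _
  | succ n =>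
    exact map_isHomogeneous (E.X n).gr (E.X (n + 1)).gr (E.d n) (E.d_grHom n)
      (gam_isHomogeneous 𝒜 (E.X n).gr a)

/-- The pieces `E.Hgr a i` form a decomposition of `E.H a i`. -/
@[instance_reducible]
def HgrDecomposition : DirectSum.Decomposition (E.Hgr a i) := by
  classical
  have hcoc := cocyc_isHomogeneous E a i
  have hcob := cobdy_isHomogeneous E a i
  letI dec : DirectSum.Decomposition (subGr (E.X i).gr (E.cocyc a i)) :=
    subDecomposition (E.X i).gr (E.cocyc a i) hcoc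
  have hP : ((E.cobdy a i).comap (E.cocyc a i).subtype).IsHomogeneous
      (subGr (E.X i).gr (E.cocyc a i)) :=
    comap_isHomogeneous (subGr (E.X i).gr (E.cocyc a i)) (E.X i).gr (E.cocyc a i).subtype
      (fun g m hm => hm) hcob
  have h2 : E.Hgr a i = quotGr (subGr (E.X i).gr (E.cocyc a i))
      ((E.cobdy a i).comap (E.cocyc a i).subtype) := by
    funext g
    ext x
    constructor
    · rintro ⟨z, hz, rfl⟩
      exact ⟨z, hz, rfl⟩
    · rintro ⟨z, hz, rfl⟩
      exact ⟨z, hz, rfl⟩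
  rw [h2]
  exact quotDecomposition (subGr (E.X i).gr (E.cocyc a i)) _ hP

end Dec

/-- Exactness of homogeneous maps in each degree. -/
theorem exists_mem_piece_of_mem_range {A B : Type u} [AddCommGroup A] [Module R A]
    [AddCommGroup B] [Module R B] (𝓐 : ι → AddSubgroup A) (𝓑 : ι → AddSubgroup B)
    [DirectSum.Decomposition 𝓐] [DirectSum.Decomposition 𝓑] (α : A →ₗ[R] B)
    (hα : ∀ (g : ι) (m : A), m ∈ 𝓐 g → α m ∈ 𝓑 g) {g : ι} {b : B} (hb : b ∈ 𝓑 g)
    (hr : b ∈ LinearMap.range α) : ∃ x ∈ 𝓐 g, α x = b := by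
  obtain ⟨x₀, rfl⟩ := hr
  refine ⟨((decompose 𝓐 x₀) g : A), SetLike.coe_mem _, ?_⟩
  rw [← decompose_map 𝓑 𝓐 α hα x₀ g, DirectSum.decompose_of_mem_same _ hb]

section LES

variable {E' : StarInjRes 𝒜 ℳ'} {E : StarInjRes 𝒜 ℳ} {E'' : StarInjRes 𝒜 ℳ''}
  {f : M' →ₗ[R] M} {g : M →ₗ[R] M''}

/-- The long exact sequence of graded local cohomology for a short exact sequence of graded
modules, arbitrary resolutions and arbitrary homogeneous lifts `φ`, `ψ` of the two maps. -/
theorem exists_les (S : GrSES ℳ' ℳ ℳ'' f g) {φ : CMap E' E} (hφ : φ.IsGr) (hφf : φ.Over f)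
    {ψ : CMap E E''} (hψ : ψ.IsGr) (hψg : ψ.Over g) (a : HomogeneousIdeal 𝒜) :
    ∃ δ : ∀ i, E''.H a i →ₗ[R] E'.H a (i + 1),
      (∀ (i : ℕ) (k : ι) (x : E''.H a i), x ∈ E''.Hcomp a i k → δ i x ∈ E'.Hcomp a (i + 1) k) ∧
      Function.Injective (φ.H a 0) ∧
      (∀ i, LinearMap.ker (ψ.H a i) = LinearMap.range (φ.H a i)) ∧
      (∀ i, LinearMap.ker (δ i) = LinearMap.range (ψ.H a i)) ∧
      (∀ i, LinearMap.ker (φ.H a (i + 1)) = LinearMap.range (δ i)) := by
  obtain ⟨T⟩ := nonempty_twist E' E'' S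
  obtain ⟨χ, hχ, hχid⟩ := exists_lift E (T.res S) (LinearMap.id : M →ₗ[R] M) (fun _ _ h => h)
  have hbij : ∀ i, Function.Bijective (χ.H a i) :=
    fun i => (H_bijective_of_over_id hχ hχid a i).1
  have h1 : ∀ i, χ.H a i ∘ₗ φ.H a i = (T.incl S).H a i := by
    intro i
    rw [← CMap.comp_H]
    refine H_eq_of_over (CMap.comp_isGr hχ hφ) (T.incl_isGr S) (f := f) ?_ (T.incl_over S) a i
    have := CMap.comp_over hχid hφf
    rwa [LinearMap.id_comp] at this
  have h2 : ∀ i, (T.proj S).H a i ∘ₗ χ.H a i = ψ.H a i := by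
    intro i
    rw [← CMap.comp_H]
    refine H_eq_of_over (CMap.comp_isGr (T.proj_isGr S) hχ) hψ (f := g) ?_ hψg a i
    have := CMap.comp_over (T.proj_over S) hχid
    rwa [LinearMap.comp_id] at this
  have h1' : ∀ i x, χ.H a i (φ.H a i x) = (T.incl S).H a i x :=
    fun i x => LinearMap.congr_fun (h1 i) x
  have h2' : ∀ i x, (T.proj S).H a i (χ.H a i x) = ψ.H a i x :=
    fun i x => LinearMap.congr_fun (h2 i) x
  refine ⟨T.δ a, fun i k x hx => T.δ_mem_Hcomp a i k hx, ?_, ?_, ?_, ?_⟩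
  · intro x y hxy
    apply T.incl_H_injective_zero S a
    rw [← h1', ← h1', hxy]
  · intro i
    ext x
    rw [LinearMap.mem_ker, ← h2', ← LinearMap.mem_ker, T.ker_proj_H S a i]
    constructor
    · rintro ⟨y, hy⟩
      refine ⟨y, (hbij i).1 ?_⟩
      rw [h1', hy]
    · rintro ⟨y, rfl⟩
      exact ⟨y, (h1' i y).symm⟩
  · intro i
    rw [T.ker_δ S a i]
    ext y
    constructor
    · rintro ⟨x, rfl⟩
      obtain ⟨x', rfl⟩ := (hbij i).2 x
      exact ⟨x', (h2' i x').symm⟩
    · rintro ⟨x, rfl⟩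
      exact ⟨χ.H a i x, h2' i x⟩
  · intro i
    rw [← T.ker_incl_H_succ S a i]
    ext x
    rw [LinearMap.mem_ker, LinearMap.mem_ker, ← h1']
    constructor
    · intro hx
      rw [hx, map_zero]
    · intro hx
      apply (hbij (i + 1)).1
      rw [hx, map_zero]

end LES

end Groth.Agent.Lib.T2H3.GrLes
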