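import Groth.Agent.Lib.T2H4DD1

set_option autoImplicit false
set_option linter.style.haveILetI false
universe u v w
open IsLocalRing

namespace Groth.Agent.Lib.T2H4.DD

section Lift

variable {R : Type u} [CommRing R]

lemma mem_smul_top_pi {ι : Type*} [Fintype ι] [DecidableEq ι] (J : Ideal R) {K : Type w}
    [AddCommGroup K] [Module R K] (y : ι → K)
    (hy : ∀ j, y j ∈ (J • ⊤ : Submodule R K)) : y ∈ (J • ⊤ : Submodule R (ι → K)) := by
  rw [← Finset.univ_sum_single y]
  refine Submodule.sum_mem _ (fun j _ => ?_)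
  have h1 : Pi.single j (y j) ∈ Submodule.map (LinearMap.single R (fun _ : ι => K) j)
      (J • ⊤ : Submodule R K) := ⟨y j, hy j, rfl⟩
  rw [Submodule.map_smul''] at h1
  exact Submodule.smul_mono le_rfl le_top h1

lemma apply_mem_smul_top_of_mem {ι : Type*} (J : Ideal R) {K : Type w}
    [AddCommGroup K] [Module R K] (y : ι → K)
    (hy : y ∈ (J • ⊤ : Submodule R (ι → K))) (i : ι) : y i ∈ (J • ⊤ : Submodule R K) := by
  have h1 : LinearMap.proj (R := R) (φ := fun _ : ι => K) i y ∈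
      Submodule.map (LinearMap.proj (R := R) (φ := fun _ : ι => K) i)
        (J • ⊤ : Submodule R (ι → K)) := ⟨y, hy, rfl⟩
  rw [Submodule.map_smul''] at h1
  exact Submodule.smul_mono le_rfl le_top h1


/-- **Artin–Rees lifting**: a map into `K / I^N K` lifts to a genuine map, up to a bounded loss
of precision. -/
theorem exists_lift_mod_pow [IsNoetherianRing R] (I : Ideal R) (K' : Type v) (K : Type w)
    [AddCommGroup K'] [Module R K'] [Module.Finite R K'] [AddCommGroup K] [Module R K]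
    [Module.Finite R K] :
    ∃ c : ℕ, ∀ N : ℕ, c ≤ N → ∀ σ : K' →ₗ[R] K ⧸ (I ^ N • ⊤ : Submodule R K),
      ∃ φ : K' →ₗ[R] K, ∀ x, Submodule.mkQ (I ^ (N - c) • ⊤ : Submodule R K) (φ x) =
        Submodule.factorPow I K (Nat.sub_le N c) (σ x) := by
  classical
  obtain ⟨a, p, hp⟩ := Module.Finite.exists_fin' R K'
  have hfg : (LinearMap.ker p).FG := IsNoetherian.noetherian _
  obtain ⟨b, r, hr⟩ := Submodule.fg_iff_exists_fin_generating_family.1 hfg
  let B : (Fin a → K) →ₗ[R] (Fin a → R) →ₗ[R] K := Fintype.bilinearCombination R R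
  let ρ : (Fin a → K) →ₗ[R] (Fin b → K) :=
    LinearMap.pi (fun j => (LinearMap.applyₗ (r j)) ∘ₗ B)
  have hρ : ∀ s j, ρ s j = B s (r j) := fun s j => rfl
  obtain ⟨c, hc⟩ := Ideal.exists_pow_inf_eq_pow_smul I (LinearMap.range ρ)
  refine ⟨c, fun N hN σ => ?_⟩
  choose s hs using fun i : Fin a =>
    Submodule.mkQ_surjective (I ^ N • ⊤ : Submodule R K) (σ (p (Pi.single i 1)))
  have hBs : ∀ v, Submodule.mkQ (I ^ N • ⊤ : Submodule R K) (B s v) = σ (p v) := by
    intro v
    have : (Submodule.mkQ (I ^ N • ⊤ : Submodule R K)) ∘ₗ (B s) = σ ∘ₗ p := by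
      apply LinearMap.pi_ext'
      intro i
      ext
      simp only [LinearMap.coe_comp, LinearMap.coe_single, Function.comp_apply, B,
        Fintype.bilinearCombination_apply, Fintype.linearCombination_apply_single, one_smul, hs]
    exact LinearMap.congr_fun this v
  have hmem : ρ s ∈ (I ^ N • ⊤ : Submodule R (Fin b → K)) ⊓ LinearMap.range ρ := by
    refine ⟨mem_smul_top_pi _ _ (fun j => ?_), ⟨s, rfl⟩⟩
    rw [hρ, ← Submodule.Quotient.mk_eq_zero, ← Submodule.mkQ_apply, hBs]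
    have : r j ∈ LinearMap.ker p := by rw [← hr]; exact Submodule.subset_span ⟨j, rfl⟩
    rw [LinearMap.mem_ker.1 this, map_zero]
  rw [hc N hN] at hmem
  have hmem2 : ρ s ∈ (I ^ (N - c) • LinearMap.range ρ : Submodule R (Fin b → K)) :=
    Submodule.smul_mono le_rfl inf_le_right hmem
  rw [LinearMap.range_eq_map, ← Submodule.map_smul''] at hmem2
  obtain ⟨t, ht, hts⟩ := hmem2
  have hker : ∀ j, B (s - t) (r j) = 0 := by
    intro j
    rw [← hρ, map_sub, hts, sub_self]
    rfl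
  have hle : LinearMap.ker p ≤ LinearMap.ker (B (s - t)) := by
    rw [← hr, Submodule.span_le]
    rintro _ ⟨j, rfl⟩
    exact hker j
  let e := p.quotKerEquivOfSurjective hp
  let φ : K' →ₗ[R] K := (Submodule.liftQ _ (B (s - t)) hle) ∘ₗ e.symm.toLinearMap
  have hφ : ∀ v, φ (p v) = B (s - t) v := by
    intro v
    have : e.symm (p v) = Submodule.Quotient.mk v := by
      rw [LinearEquiv.symm_apply_eq]
      rfl
    simp only [φ, LinearMap.coe_comp, LinearEquiv.coe_coe, Function.comp_apply, this,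
      Submodule.liftQ_apply]
  refine ⟨φ, fun x => ?_⟩
  obtain ⟨v, rfl⟩ := hp x
  rw [hφ, map_sub, LinearMap.sub_apply, map_sub, ← hBs]
  have h0 : B t v ∈ (I ^ (N - c) • ⊤ : Submodule R K) := by
    show Fintype.linearCombination R t v ∈ _
    rw [Fintype.linearCombination_apply]
    exact Submodule.sum_mem _
      (fun i _ => Submodule.smul_mem _ _ (apply_mem_smul_top_of_mem _ t ht i))
  rw [Submodule.mkQ_apply _ (B t v), (Submodule.Quotient.mk_eq_zero _).2 h0, sub_zero]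
  exact (Submodule.factor_mk _ _).symm


/-- membership form of `exists_lift_mod_pow`. -/
theorem exists_lift_mod_pow' [IsNoetherianRing R] (I : Ideal R) (K' : Type v) (K : Type w)
    [AddCommGroup K'] [Module R K'] [Module.Finite R K'] [AddCommGroup K] [Module R K]
    [Module.Finite R K] :
    ∃ c : ℕ, ∀ N : ℕ, c ≤ N → ∀ σ : K' →ₗ[R] K ⧸ (I ^ N • ⊤ : Submodule R K),
      ∃ φ : K' →ₗ[R] K, ∀ x z, Submodule.mkQ (I ^ N • ⊤ : Submodule R K) z = σ x →
        φ x - z ∈ (I ^ (N - c) • ⊤ : Submodule R K) := by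
  obtain ⟨c, hc⟩ := exists_lift_mod_pow I K' K
  refine ⟨c, fun N hN σ => ?_⟩
  obtain ⟨φ, hφ⟩ := hc N hN σ
  refine ⟨φ, fun x z hz => ?_⟩
  rw [← Submodule.Quotient.mk_eq_zero, Submodule.Quotient.mk_sub, sub_eq_zero,
    ← Submodule.mkQ_apply, hφ x, ← hz]
  exact Submodule.factor_mk _ z

end Lift

section Unique

variable {R : Type u} [CommRing R] [IsLocalRing R] [IsNoetherianRing R]
  {E : Type u} [AddCommGroup E] [Module R E]
  {f : ResidueField R →ₗ[R] E} (hf : InjHull.IsInjectiveHull f)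
  {K K' : Type u} [AddCommGroup K] [Module R K] [Module.Finite R K]
  [AddCommGroup K'] [Module R K'] [Module.Finite R K']
  (θ : (K →ₗ[R] E) ≃ₗ[R] (K' →ₗ[R] E))

local notation "𝔪" => maximalIdeal R

/-- the isomorphism of completions induced by an isomorphism of Matlis duals -/
noncomputable def hatEquiv : AdicCompletion 𝔪 K' ≃ₗ[R] AdicCompletion 𝔪 K :=
  (completionEquivDoubleDual hf).trans
    ((LinearEquiv.congrLeft E R θ.symm).trans (completionEquivDoubleDual hf).symm)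

lemma Φ_hatEquiv (x : AdicCompletion 𝔪 K') (ψ : K →ₗ[R] E) :
    Φ (hpt hf) (hatEquiv hf θ x) ψ = Φ (hpt hf) x (θ ψ) := by
  have h1 : Φ (hpt hf) (hatEquiv hf θ x) =
      (completionEquivDoubleDual hf) (hatEquiv hf θ x) := rfl
  rw [h1]
  unfold hatEquiv
  rw [LinearEquiv.trans_apply, LinearEquiv.trans_apply, LinearEquiv.apply_symm_apply]
  rfl

/-- the maps `K' → K / 𝔪^N K` induced by `θ` -/
noncomputable def σ (N : ℕ) : K' →ₗ[R] K ⧸ (𝔪 ^ N • ⊤ : Submodule R K) :=
  AdicCompletion.eval 𝔪 K N ∘ₗ (hatEquiv hf θ).toLinearMap ∘ₗ AdicCompletion.of 𝔪 K'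

lemma σ_apply (N : ℕ) (x' : K') :
    σ hf θ N x' = (hatEquiv hf θ (AdicCompletion.of 𝔪 K' x')).val N := rfl

lemma σ_pairing (N : ℕ) (φ : (K ⧸ (𝔪 ^ N • ⊤ : Submodule R K)) →ₗ[R] E) (x' : K') :
    φ (σ hf θ N x') = θ (φ ∘ₗ Submodule.mkQ _) x' := by
  set x := hatEquiv hf θ (AdicCompletion.of 𝔪 K' x') with hx
  obtain ⟨w, hw⟩ := Submodule.mkQ_surjective _ (x.val N)
  have hk : (𝔪 ^ N • ⊤ : Submodule R K) ≤ LinearMap.ker (φ ∘ₗ Submodule.mkQ _) := by
    intro y hy
    rw [LinearMap.mem_ker, LinearMap.comp_apply, Submodule.mkQ_apply,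
      (Submodule.Quotient.mk_eq_zero _).2 hy, map_zero]
  have h1 := Φ_apply (hpt hf) x _ N hk w hw
  rw [hx, Φ_hatEquiv, Φ_of, LinearMap.comp_apply, hw] at h1
  rw [σ_apply]
  exact h1.symm

lemma σ_one_surjective : Function.Surjective (σ hf θ 1) := by
  rw [← LinearMap.range_eq_top]
  by_contra hne
  obtain ⟨y, -, hy⟩ := SetLike.exists_of_lt (lt_top_iff_ne_top.2 hne)
  have hsoc := Groth.Agent.S6035.socGen_of_hull f hf
  have hq : (Submodule.Quotient.mk y : (K ⧸ (𝔪 ^ 1 • ⊤ : Submodule R K)) ⧸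
      LinearMap.range (σ hf θ 1)) ≠ 0 := by
    rw [Ne, Submodule.Quotient.mk_eq_zero]
    exact hy
  obtain ⟨g, hg⟩ := Groth.Agent.S6035.cogen hsoc _ _ hq
  set φ : (K ⧸ (𝔪 ^ 1 • ⊤ : Submodule R K)) →ₗ[R] E :=
    g ∘ₗ Submodule.mkQ (LinearMap.range (σ hf θ 1)) with hφ
  have h0 : θ (φ ∘ₗ Submodule.mkQ _) = 0 := by
    ext x'
    rw [← σ_pairing, LinearMap.zero_apply, hφ, LinearMap.comp_apply, Submodule.mkQ_apply,
      (Submodule.Quotient.mk_eq_zero _).2 (LinearMap.mem_range_self _ x'), map_zero]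
  have h1 : φ ∘ₗ Submodule.mkQ _ = 0 := by
    apply θ.injective
    rw [h0, map_zero]
  have h2 : φ = 0 := by
    apply LinearMap.ext
    intro z
    obtain ⟨w, rfl⟩ := Submodule.mkQ_surjective _ z
    exact LinearMap.congr_fun h1 w
  apply hsoc.ne
  rw [← hg]
  exact LinearMap.congr_fun h2 y

include hf θ in
/-- there is a surjection `K' → K` -/
theorem exists_surjective : ∃ φ : K' →ₗ[R] K, Function.Surjective φ := by
  obtain ⟨c, hc⟩ := exists_lift_mod_pow' 𝔪 K' K
  obtain ⟨φ, hφ⟩ := hc (c + 1) (Nat.le_succ c) (σ hf θ (c + 1))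
  have hc1 : c + 1 - c = 1 := by omega
  rw [hc1] at hφ
  refine ⟨φ, ?_⟩
  rw [← LinearMap.range_eq_top, eq_top_iff]
  apply Submodule.le_of_le_smul_of_le_jacobson_bot (I := 𝔪) Module.Finite.fg_top
    (IsLocalRing.maximalIdeal_le_jacobson ⊥)
  intro y _
  obtain ⟨x', hx'⟩ := σ_one_surjective hf θ (Submodule.mkQ _ y)
  obtain ⟨z, hz⟩ := Submodule.mkQ_surjective (𝔪 ^ (c + 1) • ⊤ : Submodule R K)
    (σ hf θ (c + 1) x')
  have h1 := hφ x' z hz
  have h2 : z - y ∈ (𝔪 ^ 1 • ⊤ : Submodule R K) := by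
    rw [← Submodule.Quotient.mk_eq_zero, Submodule.Quotient.mk_sub, sub_eq_zero,
      ← Submodule.mkQ_apply, ← Submodule.mkQ_apply, ← hx', σ_apply,
      ← AdicCompletion.transitionMap_comp_eval_apply 𝔪 K (Nat.le_add_left 1 c), ← σ_apply, ← hz]
    exact (Submodule.factor_mk _ z).symm
  rw [pow_one] at h1 h2
  have : y = φ x' - ((φ x' - z) + (z - y)) := by abel
  rw [this]
  exact Submodule.sub_mem _ (Submodule.mem_sup_left ⟨x', rfl⟩)
    (Submodule.mem_sup_right (Submodule.add_mem _ h1 h2))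


include hf θ in
/-- **finite modules with isomorphic Matlis duals are isomorphic** -/
theorem nonempty_equiv_of_dual_equiv : Nonempty (K ≃ₗ[R] K') := by
  obtain ⟨φ, hφ⟩ := exists_surjective hf θ
  obtain ⟨ψ, hψ⟩ := exists_surjective hf θ.symm
  have hinj : Function.Injective (φ ∘ₗ ψ) :=
    OrzechProperty.injective_of_surjective_endomorphism _ (hφ.comp hψ)
  have hψi : Function.Injective ψ := by
    intro a b hab
    apply hinj
    rw [LinearMap.comp_apply, LinearMap.comp_apply, hab]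
  exact ⟨LinearEquiv.ofBijective ψ ⟨hψi, hψ⟩⟩

end Unique

end Groth.Agent.Lib.T2H4.DD
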