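import Groth.Agent.S13244
import Groth.Agent.S13231
import Groth.Agent.S13237
import Groth.Agent.Lib.T2H3GrLesF

/-! Over a Gorenstein *local graded ring every *canonical module is free of rank one on a
homogeneous generator: `C ≅ R(-D)` (helper3).  This is the implication `Gorenstein ⇒ K_R ≅ R(a)`
for any finitely generated torsion-free grading group. -/

set_option autoImplicit false
set_option linter.unusedSectionVars false
set_option linter.style.haveILetI false
open DirectSum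

namespace Groth.Agent.Lib.T2H3.GorCanon

open GrLC Groth.Agent.Lib.Helper29GrShift Groth.Agent.Lib.T2H3.GrLes

universe u

section Symm

variable {ι : Type} [AddCommGroup ι] [DecidableEq ι]
variable {R : Type u} [CommRing R]
variable {A : Type u} [AddCommGroup A] [Module R A] (𝓐 : ι → AddSubgroup A)
  [DirectSum.Decomposition 𝓐]
variable {B : Type u} [AddCommGroup B] [Module R B] (𝓑 : ι → AddSubgroup B)
  [DirectSum.Decomposition 𝓑]

/-- The inverse of a bijective homogeneous map of degree `d` is homogeneous of degree `-d`. -/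
theorem symm_deg (u : A ≃ₗ[R] B) (d : ι) (hu : IsGrHomDeg 𝓐 𝓑 u.toLinearMap d) {i : ι} {b : B}
    (hb : b ∈ 𝓑 i) : u.symm b ∈ 𝓐 (i - d) := by
  classical
  set a := u.symm b with ha
  have hua : u a = b := u.apply_symm_apply b
  have h1 : ∀ l : ι, l ≠ i - d → (DirectSum.decompose 𝓐 a l : A) = 0 := by
    intro l hl
    apply u.injective
    rw [map_zero]
    have h2 : u (DirectSum.decompose 𝓐 a l : A) ∈ 𝓑 (l + d) := hu l _ (SetLike.coe_mem _)
    have h3 : ((DirectSum.decompose 𝓑 b) (l + d) : B) = u (DirectSum.decompose 𝓐 a l : A) := by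
      rw [← hua]
      conv_lhs => rw [← DirectSum.sum_support_decompose 𝓐 a]
      rw [map_sum, DirectSum.decompose_sum, DFinsupp.finsetSum_apply,
        AddSubmonoidClass.coe_finsetSum]
      rw [Finset.sum_eq_single l]
      · exact DirectSum.decompose_of_mem_same 𝓑 h2
      · intro c _ hc
        have h4 : u (DirectSum.decompose 𝓐 a c : A) ∈ 𝓑 (c + d) := hu c _ (SetLike.coe_mem _)
        exact DirectSum.decompose_of_mem_ne 𝓑 h4 (fun h => hc (add_right_cancel h))
      · intro hl'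
        rw [DFinsupp.notMem_support_iff] at hl'
        rw [hl']
        simp
    rw [← h3]
    refine DirectSum.decompose_of_mem_ne 𝓑 hb (fun h => hl ?_)
    rw [h, add_sub_cancel_right]
  rw [← DirectSum.sum_support_decompose 𝓐 a]
  apply AddSubgroup.sum_mem
  intro l _
  by_cases hl : l = i - d
  · rw [hl]
    exact SetLike.coe_mem _
  · rw [h1 l hl]
    exact zero_mem _

end Symm

variable {ι : Type} [AddCommGroup ι] [DecidableEq ι] [Module.Free ℤ ι] [Module.Finite ℤ ι]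

/-- Over a Gorenstein *local ring the *canonical module is `R(-D)`. -/
theorem exists_free_generator (R : Type u) [CommRing R] [hG : LocCoh.IsGorensteinRing R]
    [hCM : LocCoh.IsCohenMacaulayRing R] (𝒜 : ι → AddSubgroup R) [GradedRing 𝒜]
    (m : HomogeneousIdeal 𝒜) (hm : IsStarLocal 𝒜 m) (n : ℕ) (hn : m.toIdeal.height = n)
    (I : StarInjRes 𝒜 𝒜) (E' : Type u) [AddCommGroup E'] [Module R E'] (𝓔 : ι → AddSubgroup E')
    [DirectSum.Decomposition 𝓔] [SetLike.GradedSMul 𝒜 𝓔] (e : (R ⧸ m.toIdeal) →ₗ[R] E')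
    (he : IsStarInjHull 𝒜 (quotGr 𝒜 m) 𝓔 e) (C : Type u) [AddCommGroup C] [Module R C]
    (𝒞 : ι → AddSubgroup C) [DirectSum.Decomposition 𝒞] [SetLike.GradedSMul 𝒜 𝒞]
    (hC : IsStarCanonical 𝒜 𝒞 𝓔 m n I) :
    ∃ (D : ι) (f : R →ₗ[R] C), Function.Bijective f ∧ IsGrHomDeg 𝒜 𝒞 f D := by
  classical
  haveI hN : IsNoetherianRing R := inferInstance
  haveI hmp : m.toIdeal.IsPrime := Groth.Agent.Lib.T2H3.Matlis.isPrime_of_isStarLocal 𝒜 hm
  haveI hfinC : Module.Finite R C := hC.1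
  obtain ⟨g, φ₁, hφ₁⟩ := Groth.Agent.S13244.result R 𝒜 m hm n hn I E' 𝓔 e he
  letI decH := HgrDecomposition I m n
  -- `R(-g)`-graded `R` is *canonical
  have hC' : IsStarCanonical 𝒜 (shiftGr 𝒜 (-g)) 𝓔 m n I := by
    refine ⟨inferInstance, (LinearMap.ringLmapEquivSelf R R E').trans φ₁.symm, ?_⟩
    intro d ψ hψ
    have hψ' : IsGrHomDeg (shiftGr 𝒜 (-g)) 𝓔 ψ d := hψ
    have h1 : (1 : R) ∈ shiftGr 𝒜 (-g) g := by
      change (1 : R) ∈ 𝒜 (g + -g)
      rw [add_neg_cancel]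
      exact SetLike.GradedOne.one_mem
    have h2 : ψ 1 ∈ 𝓔 (g + d) := hψ' g 1 h1
    have h3 := symm_deg (I.Hgr m n) 𝓔 φ₁ g hφ₁ h2
    rw [add_sub_cancel_left] at h3
    exact h3
  -- localize at `m`
  have hdim : ringKrullDim (Localization.AtPrime m.toIdeal) = (n : ℕ) := by
    rw [IsLocalization.AtPrime.ringKrullDim_eq_height m.toIdeal (Localization.AtPrime m.toIdeal),
      hn]
    rfl
  haveI hcm : LocCoh.IsCohenMacaulayLocalRing (Localization.AtPrime m.toIdeal) :=
    LocCoh.IsCohenMacaulayRing.isCohenMacaulayLocalRing_localization m.toIdeal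
  obtain ⟨E₀, _, _, f₀, hf₀⟩ := Groth.Agent.S0299.result (Localization.AtPrime m.toIdeal)
    (IsLocalRing.ResidueField (Localization.AtPrime m.toIdeal))
  obtain ⟨eK⟩ := Groth.Agent.S13231.result R 𝒜 m hm n hn I E' 𝓔 e he C 𝒞 hC E₀ f₀ hf₀
  obtain ⟨eK'⟩ := Groth.Agent.S13231.result R 𝒜 m hm n hn I E' 𝓔 e he R (shiftGr 𝒜 (-g)) hC'
    E₀ f₀ hf₀
  have hEnd := Groth.Agent.S7703.result (Localization.AtPrime m.toIdeal) n hdim E₀ f₀ hf₀
    (LocalizedModule m.toIdeal.primeCompl C) eK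
  obtain ⟨θ⟩ := Groth.Agent.Lib.T2H4.DD.nonempty_equiv_of_dual_equiv hf₀ (eK.trans eK'.symm)
  obtain ⟨d, u, hud, hub⟩ :=
    Groth.Agent.Lib.T2H3.CanonUniq.exists_part_bijective 𝒜 𝒞 (shiftGr 𝒜 (-g)) m.toIdeal hEnd θ
  have hbij := Groth.Agent.Lib.T2H3.CanonUniq.bijective_of_map_bijective 𝒜 𝒞 (shiftGr 𝒜 (-g)) hm
    m.toIdeal le_rfl hud hub
  let ue : C ≃ₗ[R] R := LinearEquiv.ofBijective u hbij
  refine ⟨g - d, ue.symm.toLinearMap, ue.symm.bijective, ?_⟩
  intro i r hr
  have hr' : r ∈ shiftGr 𝒜 (-g) (i + g) := by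
    change r ∈ 𝒜 (i + g + -g)
    rw [add_neg_cancel_right]
    exact hr
  have h4 := symm_deg 𝒞 (shiftGr 𝒜 (-g)) ue d hud hr'
  have h5 : i + g - d = i + (g - d) := by abel
  rw [h5] at h4
  exact h4

end Groth.Agent.Lib.T2H3.GorCanon
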