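import Groth.Agent.Lib.T2H3GDualB
import Groth.Agent.Lib.Helper29GrBaer
import Groth.Agent.Lib.Helper29GrQuot
import Groth.Agent.Lib.T2H3GorCanon
import Groth.Agent.Lib.T2H3GrLesF
import Groth.Agent.S13214

/-! Graded duals (helper3), part C: if `E` is the graded dual of the ring `R` and `C` is a finitely
generated graded module, then a graded module `H` with a homogeneous isomorphism
`Hom_R(C, E) ≅ H` is the graded dual of `C`.  In particular the top local cohomology is the graded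
dual of the *canonical module. -/

set_option autoImplicit false
set_option linter.unusedSectionVars false
set_option linter.unusedVariables false
set_option linter.style.haveILetI false
set_option maxHeartbeats 1000000
open DirectSum

noncomputable section

namespace Groth.Agent.Lib.T2H3.GDualU

open Groth.Agent.Lib.LeadGD Groth.Agent.Lib.T2H3.Ver Groth.Agent.Lib.T2H3.GDual GrLC
  Groth.Agent.Lib.Helper29GrBaer

universe u

section Hom

variable (K : Type u) [Field K] {R : Type u} [CommRing R] [Algebra K R]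
  (𝒜 : ℤ → AddSubgroup R) [GradedRing 𝒜] [KGraded K 𝒜]
  {E : Type u} [AddCommGroup E] [Module R E] [Module K E] [IsScalarTower K R E]
  (𝓔 : ℤ → AddSubgroup E) [DirectSum.Decomposition 𝓔] [SetLike.GradedSMul 𝒜 𝓔]
  {βE : E →ₗ[K] R →ₗ[K] K} (hE : GrSeg.IsGDual R (subK K 𝒜) 𝓔 βE)
  {C : Type u} [AddCommGroup C] [Module R C] [Module K C] [IsScalarTower K R C]
  (𝒞 : ℤ → AddSubgroup C) [DirectSum.Decomposition 𝒞] [SetLike.GradedSMul 𝒜 𝒞]
  {H : Type u} [AddCommGroup H] [Module R H] [Module K H] [IsScalarTower K R H]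
  (𝓗 : ℤ → AddSubgroup H) [DirectSum.Decomposition 𝓗]
  (F : (C →ₗ[R] E) ≃ₗ[R] H)
  (hF : ∀ (d : ℤ) (ψ : C →ₗ[R] E), GrLC.IsGrHomDeg 𝒞 𝓔 ψ d → F ψ ∈ 𝓗 d)

include 𝒜 hF in
/-- The inverse of a homogeneous isomorphism `Hom(C, E) ≅ H` is homogeneous. -/
theorem symm_isGrHomDeg [Module.Finite R C] {d : ℤ} {h : H} (hh : h ∈ 𝓗 d) :
    GrLC.IsGrHomDeg 𝒞 𝓔 (F.symm h) d := by
  classical
  by_cases hh0 : h = 0
  · rw [hh0, map_zero]
    intro g c _
    exact zero_mem _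
  obtain ⟨ψ, hψ⟩ : ∃ ψ, ψ = F.symm h := ⟨_, rfl⟩
  have hFψ : F ψ = h := by rw [hψ, F.apply_symm_apply]
  rw [← hψ]
  obtain ⟨T, hT⟩ := exists_sum_part 𝒜 𝒞 𝓔 ψ
  have hpart : ∀ d, F (part 𝒜 𝒞 𝓔 ψ d) ∈ 𝓗 d := fun d =>
    hF d _ (part_isGrHomDeg 𝒜 𝒞 𝓔 ψ d)
  have hsum : h = ∑ d ∈ T, F (part 𝒜 𝒞 𝓔 ψ d) := by
    rw [← map_sum, hT, hFψ]
  have h1 : ((DirectSum.decompose 𝓗 h) d : H) = h := DirectSum.decompose_of_mem_same 𝓗 hh
  have h2 : ((DirectSum.decompose 𝓗 h) d : H) =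
      if d ∈ T then F (part 𝒜 𝒞 𝓔 ψ d) else 0 := by
    conv_lhs => rw [hsum]
    rw [DirectSum.decompose_sum, DFinsupp.finsetSum_apply, AddSubmonoidClass.coe_finsetSum]
    split_ifs with hjT
    · rw [Finset.sum_eq_single d]
      · exact DirectSum.decompose_of_mem_same 𝓗 (hpart d)
      · intro b _ hb
        exact DirectSum.decompose_of_mem_ne 𝓗 (hpart b) hb
      · intro hcon
        exact absurd hjT hcon
    · apply Finset.sum_eq_zero
      intro b hb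
      exact DirectSum.decompose_of_mem_ne 𝓗 (hpart b) (fun hbj => hjT (hbj ▸ hb))
  have hcomp : F ψ = F (part 𝒜 𝒞 𝓔 ψ d) := by
    rw [hFψ]
    by_cases hjT : d ∈ T
    · rw [if_pos hjT] at h2
      exact h1.symm.trans h2
    · rw [if_neg hjT] at h2
      exact absurd (h1.symm.trans h2) hh0
  have h3 : ψ = part 𝒜 𝒞 𝓔 ψ d := F.injective hcomp
  rw [h3]
  exact part_isGrHomDeg 𝒜 𝒞 𝓔 ψ d

/-- The pairing `H × C → K`, `(h, c) ↦ ⟨(F⁻¹ h)(c), 1⟩`. -/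
def pairH (βE : E →ₗ[K] R →ₗ[K] K) : H →ₗ[K] C →ₗ[K] K where
  toFun h :=
    { toFun := fun c => βE ((F.symm h) c) 1
      map_add' := fun c c' => by rw [map_add, map_add, LinearMap.add_apply]
      map_smul' := fun k c => by
        rw [RingHom.id_apply, ← algebraMap_smul R k c, map_smul, algebraMap_smul, map_smul,
          LinearMap.smul_apply] }
  map_add' h h' := LinearMap.ext fun c => by
    change βE ((F.symm (h + h')) c) 1 = βE ((F.symm h) c) 1 + βE ((F.symm h') c) 1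
    rw [map_add, LinearMap.add_apply, map_add, LinearMap.add_apply]
  map_smul' k h := LinearMap.ext fun c => by
    change βE ((F.symm (k • h)) c) 1 = k • βE ((F.symm h) c) 1
    rw [← algebraMap_smul R k h, map_smul, LinearMap.smul_apply, algebraMap_smul, map_smul,
      LinearMap.smul_apply]

theorem pairH_apply (h : H) (c : C) : pairH K F βE h c = βE ((F.symm h) c) 1 := rfl

include hE hF in
/-- `H ≅ Hom_R(C, R^*)` is the graded dual of `C`. -/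
theorem isGDual_hom [Module.Finite R C] : GrSeg.IsGDual R 𝒞 𝓗 (pairH K F βE) := by
  classical
  haveI : SetLike.GradedSMul (subK K 𝒜) 𝒞 := gradedSMul_subK K 𝒜 𝒞
  haveI : SetLike.GradedSMul (subK K 𝒜) 𝓔 := gradedSMul_subK K 𝒜 𝓔
  refine ⟨?_, ?_, ?_, ?_⟩
  · intro r h c
    rw [pairH_apply, pairH_apply, map_smul, LinearMap.smul_apply, (F.symm h).map_smul]
  · intro d h hh j hj c hc
    rw [pairH_apply]
    have h1 := symm_isGrHomDeg 𝒜 𝓔 𝒞 𝓗 F hF hh j c hc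
    refine hE.vanish (j + d) _ h1 0 ?_ 1 (SetLike.GradedOne.one_mem (A := 𝒜))
    intro h0
    apply hj
    omega
  · intro d h hh hzero
    have hψ := symm_isGrHomDeg 𝒜 𝓔 𝒞 𝓗 F hF hh
    have h0 : F.symm h = 0 := by
      apply LinearMap.ext
      intro c
      rw [LinearMap.zero_apply]
      induction c using DirectSum.Decomposition.inductionOn 𝒞 with
      | zero => rw [map_zero]
      | @homogeneous j c =>
        refine hE.eq_zero (j + d) _ (hψ j c c.2) fun r hr => ?_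
        have h1 : r • (c : C) ∈ 𝒞 (-d) := by
          have h2 := SetLike.GradedSMul.smul_mem (A := 𝒜) (B := 𝒞) hr c.2
          have e1 : -(j + d) +ᵥ j = -d := by rw [vadd_eq_add]; ring
          rw [e1] at h2
          exact h2
        have h2 := hzero (r • (c : C)) h1
        rw [pairH_apply, (F.symm h).map_smul, hE.map_smul, smul_eq_mul, mul_one] at h2
        exact h2
      | add a b ha hb => rw [map_add, ha, hb, add_zero]
    have h1 : h = F (F.symm h) := (F.apply_symm_apply h).symm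
    rw [h1, h0, map_zero]
  · intro d g
    obtain ⟨lam, hlamdef⟩ : ∃ lam : C →ₗ[K] K, ∀ x, lam x = g (compL (subK K 𝒜) 𝒞 (-d) x) :=
      ⟨g ∘ₗ compL (subK K 𝒜) 𝒞 (-d), fun x => rfl⟩
    have hlam : IsHomFun 𝒞 lam (-d) := fun j hj x hx => by
      rw [hlamdef, compL_of_mem_ne (subK K 𝒜) 𝒞 hx hj, map_zero]
    obtain ⟨ψ, hψdef⟩ : ∃ ψ : C →ₗ[R] E, ψ = homMap (subK K 𝒜) 𝒞 𝓔 hE hlam := ⟨_, rfl⟩
    have hψ : GrLC.IsGrHomDeg 𝒞 𝓔 ψ d := fun j c hc => by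
      have h1 := homMap_mem (subK K 𝒜) 𝒞 𝓔 hE hlam hc
      rw [sub_neg_eq_add] at h1
      rw [hψdef]
      exact h1
    refine ⟨F ψ, hF d ψ hψ, fun c hc => ?_⟩
    rw [pairH_apply, F.symm_apply_apply, hψdef, pair_homMap, one_smul, hlamdef,
      compL_of_mem (subK K 𝒜) 𝒞 hc]

end Hom

section Hull

variable (K : Type u) [Field K] {R : Type u} [CommRing R] [IsNoetherianRing R] [Algebra K R]
  (𝒜 : ℤ → AddSubgroup R) [GradedRing 𝒜] [KGraded K 𝒜] [Nontrivial R]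
  {E : Type u} [AddCommGroup E] [Module R E] [Module K E] [IsScalarTower K R E]
  (𝓔 : ℤ → AddSubgroup E) [DirectSum.Decomposition 𝓔] [SetLike.GradedSMul 𝒜 𝓔]

/-- Every *injective envelope of `R/R_+` is a graded dual of `R`. -/
theorem exists_isGDual_of_hull (hpos : ∀ n : ℤ, n < 0 → 𝒜 n = ⊥)
    (h0K : ∀ x ∈ 𝒜 0, ∃ c : K, algebraMap K R c = x) (m : HomogeneousIdeal 𝒜)
    (hmsp : m.toIdeal = Ideal.span (⋃ n ∈ Set.Ioi (0 : ℤ), (𝒜 n : Set R)))
    (e : (R ⧸ m.toIdeal) →ₗ[R] E) (he : GrLC.IsStarInjHull 𝒜 (GrLC.quotGr 𝒜 m) 𝓔 e) :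
    ∃ βE : E →ₗ[K] R →ₗ[K] K, GrSeg.IsGDual R (subK K 𝒜) 𝓔 βE := by
  classical
  obtain ⟨e₀, he₀⟩ := exists_hullA K 𝒜 hpos h0K m hmsp
  letI decQ : DirectSum.Decomposition (GrLC.quotGr 𝒜 m) :=
    Groth.Agent.Lib.Helper29GrQuot.quotDecomposition 𝒜 (m.toIdeal : Submodule R R) m.isHomogeneous
  haveI gsQ : SetLike.GradedSMul 𝒜 (GrLC.quotGr 𝒜 m) :=
    Groth.Agent.Lib.Helper29GrQuot.quot_gradedSMul 𝒜 (m.toIdeal : Submodule R R) 𝒜
  obtain ⟨β₀, hβ₀, -⟩ := Groth.Agent.S13214.result R 𝒜 (R ⧸ m.toIdeal) (GrLC.quotGr 𝒜 m)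
    E 𝓔 (GDK K 𝒜) (pieceA K 𝒜) e e₀ he he₀
  have hβ₀' : GrLC.IsGrHomDeg 𝓔 (pieceA K 𝒜) β₀.toLinearMap 0 := fun j x hx => by
    rw [add_zero]
    exact hβ₀ j x hx
  have hsymm : ∀ n, ∀ d ∈ pieceA K 𝒜 n, β₀.symm d ∈ 𝓔 n := fun n d hd => by
    have h1 := Groth.Agent.Lib.T2H3.GorCanon.symm_deg 𝓔 (pieceA K 𝒜) β₀ 0 hβ₀' hd
    rwa [sub_zero] at h1
  exact ⟨_, isGDual_comp (subK K 𝒜) 𝓔 (pieceA K 𝒜) (isGDual (subK K 𝒜)) β₀
    (fun n d hd => hβ₀ n d hd) hsymm⟩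

end Hull

section Canon

variable (K : Type u) [Field K] {R : Type u} [CommRing R] [IsNoetherianRing R] [Algebra K R]
  (𝒜 : ℤ → AddSubgroup R) [GradedRing 𝒜] [KGraded K 𝒜] [Nontrivial R]
  {E : Type u} [AddCommGroup E] [Module R E]
  (𝓔 : ℤ → AddSubgroup E) [DirectSum.Decomposition 𝓔] [SetLike.GradedSMul 𝒜 𝓔]
  {C : Type u} [AddCommGroup C] [Module R C] [Module K C] [IsScalarTower K R C]
  (𝒞 : ℤ → AddSubgroup C) [DirectSum.Decomposition 𝒞] [SetLike.GradedSMul 𝒜 𝒞]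

/-- The top local cohomology `H^n_m(R)` is the graded dual of the *canonical module. -/
theorem exists_isGDual_of_isStarCanonical (hpos : ∀ n : ℤ, n < 0 → 𝒜 n = ⊥)
    (h0K : ∀ x ∈ 𝒜 0, ∃ c : K, algebraMap K R c = x) (m : HomogeneousIdeal 𝒜)
    (hmsp : m.toIdeal = Ideal.span (⋃ n ∈ Set.Ioi (0 : ℤ), (𝒜 n : Set R)))
    (e : (R ⧸ m.toIdeal) →ₗ[R] E) (he : GrLC.IsStarInjHull 𝒜 (GrLC.quotGr 𝒜 m) 𝓔 e)
    (n : ℕ) (I : GrLC.StarInjRes 𝒜 𝒜) (hC : GrLC.IsStarCanonical 𝒜 𝒞 𝓔 m n I)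
    [Module K (I.H m n)] [IsScalarTower K R (I.H m n)]
    [DirectSum.Decomposition (I.Hgr m n)] :
    ∃ β : I.H m n →ₗ[K] C →ₗ[K] K, GrSeg.IsGDual R 𝒞 (I.Hgr m n) β := by
  classical
  letI : Module K E := Module.compHom E (algebraMap K R)
  haveI : IsScalarTower K R E := IsScalarTower.of_algebraMap_smul (fun _ _ => rfl)
  obtain ⟨βE, hE⟩ := exists_isGDual_of_hull K 𝒜 𝓔 hpos h0K m hmsp e he
  obtain ⟨hfin, F, hF⟩ := hC
  exact ⟨pairH K F βE, isGDual_hom K 𝒜 𝓔 hE 𝒞 (I.Hgr m n) F (fun d ψ hψ => hF d ψ hψ)⟩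

end Canon

end Groth.Agent.Lib.T2H3.GDualU
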