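import Groth.Agent.Lib.T2H3VerY

/-! Veronese subrings of Gorenstein graded rings (helper3), part Z: the type of the Veronese
subring `R^(q)` of a standard graded Gorenstein ring `R` over a field is `dim R_ρ`, `ρ` the
remainder of `a(R)` modulo `q` (version over an auxiliary field `K` mapping onto `R_0`). -/

set_option autoImplicit false
set_option linter.unusedSectionVars false
set_option linter.unusedVariables false
set_option linter.style.haveILetI false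
set_option maxHeartbeats 2000000
open DirectSum TensorProduct

noncomputable section

namespace Groth.Agent.Lib.T2H3.Ver

open GrLC Groth.Agent.Lib.T2H3.GrIrr Groth.Agent.Lib.T2H3.GrArt Groth.Agent.Lib.T2H3.GrLes
  Groth.Agent.Lib.T2H3.GDual Groth.Agent.Lib.Helper29GrShift

universe u

theorem bassNum_veronese_aux
    (K : Type u) [Field K]
    (R : Type u) [CommRing R] [LocCoh.IsGorensteinRing R] [Algebra K R]
    (𝒜 : ℤ → AddSubgroup R) [GradedRing 𝒜] [KGraded K 𝒜]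
    (hpos : ∀ n : ℤ, n < 0 → 𝒜 n = ⊥) (h0 : IsField (deg0 𝒜))
    (h0K : ∀ x ∈ 𝒜 0, ∃ c : K, algebraMap K R c = x)
    (m : HomogeneousIdeal 𝒜) (hm : IsStarLocal 𝒜 m)
    (hmsp : m.toIdeal = Ideal.span (⋃ n ∈ Set.Ioi (0 : ℤ), (𝒜 n : Set R)))
    (hstd : Ideal.span (⋃ n ∈ Set.Ioi (0 : ℤ), (𝒜 n : Set R)) =
      Ideal.span ((𝒜 1 : AddSubgroup R) : Set R))
    (n : ℕ) (hn : ringKrullDim R = n) (I : StarInjRes 𝒜 𝒜) (a : ℤ)
    (ha : endDeg (I.Hgr m n) = ((a : WithTop ℤ) : WithBot (WithTop ℤ)))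
    (q : ℕ) (R' : Type u) [CommRing R'] [Algebra K R'] (𝒜' : ℤ → AddSubgroup R')
    [GradedRing 𝒜'] [KGraded K 𝒜']
    (φ : R' →+* R) (hV : VerHyp 𝒜 𝒜' φ q)
    (hφK : ∀ c : K, φ (algebraMap K R' c) = algebraMap K R c)
    (m' : HomogeneousIdeal 𝒜') [hmax' : m'.toIdeal.IsMaximal]
    (hm'sp : m'.toIdeal = Ideal.span (⋃ j ∈ Set.Ioi (0 : ℤ), (𝒜' j : Set R')))
    (ρ : ℤ) (hρ0 : 0 ≤ ρ) (hρq : ρ < q) (hρa : (q : ℤ) ∣ a - ρ) :
    GrLC.bassNum m'.toIdeal R' n = (Module.finrank (deg0 𝒜) (comp 𝒜 𝒜 ρ) : ℕ∞) := by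
  classical
  haveI : IsNoetherianRing R' := isNoetherianRing_of_verHyp hV
  haveI hntR : Nontrivial R :=
    ⟨⟨0, 1, fun h => one_notMem_of_isStarLocal hm (by rw [← h]; exact zero_mem _)⟩⟩
  haveI hntR' : Nontrivial R' := ⟨⟨0, 1, fun h => by
    have h1 := congrArg φ h
    rw [map_zero, map_one] at h1
    exact zero_ne_one h1⟩⟩
  have hpos' := hpos_of_verHyp hV hpos
  have h0' := isField_deg0_of_verHyp hV h0
  have hm'ne : m'.toIdeal ≠ ⊤ := hmax'.ne_top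
  have hm' : IsStarLocal 𝒜' m' :=
    Groth.Agent.Lib.T2H3.EG.isStarLocal_of_isField 𝒜' hpos' h0' m' hm'ne hm'sp
  haveI hprime' : m'.toIdeal.IsPrime := hmax'.isPrime
  have h0K' : ∀ x ∈ 𝒜' 0, ∃ c : K, algebraMap K R' c = x := by
    intro x hx
    have h1 : φ x ∈ 𝒜 0 := by
      have h2 := phi_mem hV hx
      rwa [zero_mul] at h2
    obtain ⟨c, hc⟩ := h0K _ h1
    exact ⟨c, hV.hφ (by rw [hφK, hc])⟩
  -- the comparison set-up
  let gφ : R' →ₛₗ[φ] R :=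
    { toFun := φ
      map_add' := map_add φ
      map_smul' := fun r x => by rw [smul_eq_mul, map_mul, smul_eq_mul] }
  have hgdeg : ∀ j : ℤ, (𝒜' j).map (gφ : R' →+ R) = 𝒜 (j * q) := by
    intro j
    rw [← hV.hdeg j]
    rfl
  obtain ⟨F, -⟩ : ∃ F : StarInjRes 𝒜' 𝒜', True :=
    ⟨Groth.Agent.Lib.T2H3.MinRes.minRes 𝒜' 𝒜', trivial⟩
  obtain ⟨S, hSF, hSm, hSm', hSE⟩ : ∃ S : Setup 𝒜 𝒜' φ q 𝒜 𝒜',
      S.F = F ∧ S.m = m ∧ S.m' = m' ∧ S.E = I :=
    ⟨⟨hV, gφ, hV.hφ, hgdeg, I, F, m, m', radical_map_eq hV m m' hmsp hm'sp⟩, rfl, rfl, rfl, rfl⟩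
  subst hSF hSm hSm' hSE
  -- the height of `m`
  have hht : S.m.toIdeal.height = n := by
    have h1 := Groth.Agent.Lib.T2H3.GrDim.ringKrullDim_eq_height_of_isStarLocal hpos hm
    rw [hn] at h1
    exact_mod_cast h1.symm
  -- the hull and the isomorphism `H^n_m(R) ≅ R^*(-a)`
  obtain ⟨e, he⟩ := exists_hullA K 𝒜 hpos h0K S.m hmsp
  obtain ⟨g, ψ, hψ⟩ := Groth.Agent.S13244.result R 𝒜 S.m hm n hht S.E (GDK K 𝒜) (pieceA K 𝒜) e he
  have hg : g = -a := shift_eq_neg K 𝒜 hpos S.m n S.E a ha ψ g hψ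
  have hψ' : IsGrHomDeg (S.E.Hgr S.m n) (YGr K 𝒜 a) ψ.toLinearMap 0 := by
    intro j x hx
    have h1 := hψ j x hx
    change ψ.toLinearMap x ∈ pieceA K 𝒜 (j + 0 + -a)
    rw [add_zero, ← hg]
    exact h1
  obtain ⟨Φ⟩ := S.nonempty_H_equiv_Vsub (YGr K 𝒜 a) n ψ 0 hψ' (dvd_zero _)
  -- vanishing
  haveI hCMR : LocCoh.IsCohenMacaulayRing R :=
    Groth.Agent.Lib.Helper5.GorUnmixed.isCohenMacaulayRing_of_isGorensteinRing R
  have hvanR : ∀ i : ℕ, i < n → ∀ y : S.E.H S.m i, y = 0 := by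
    intro i hi y
    obtain ⟨d', rfl⟩ : ∃ d', n = d' + 1 := ⟨n - 1, by omega⟩
    exact Groth.Agent.Lib.T2H3.GrAinv.H_eq_zero_of_lt hpos hm d' hn S.E i hi y
  have hvanR' : ∀ i : ℕ, i < n → ∀ y : LocCoh.H S.m'.toIdeal i R', y = 0 := by
    intro i hi y
    obtain ⟨e1⟩ := Groth.Agent.S13224.result R' 𝒜' S.m' R' 𝒜' S.F i
    have h1 := S.F_H_eq_zero i (hvanR i hi) (e1.symm y)
    exact e1.symm.injective (h1.trans (map_zero e1.symm).symm)
  have hJ : S.m'.toIdeal • (⊤ : Submodule R' R') ≠ ⊤ := by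
    rw [smul_eq_mul, Ideal.mul_top]
    exact hm'ne
  have hdepth : (n : ℕ∞) ≤ LocCoh.idealDepth S.m'.toIdeal R' :=
    le_idealDepth_of_H S.m'.toIdeal R' n hJ hvanR'
  -- dimension and depth of the localization
  have hdimR' : ringKrullDim R' = n := (ringKrullDim_eq_of_verHyp hV).trans hn
  have hht' : ((S.m'.toIdeal.height : ℕ∞) : WithBot ℕ∞) = n := by
    rw [← Groth.Agent.Lib.T2H3.GrDim.ringKrullDim_eq_height_of_isStarLocal hpos' hm']
    exact hdimR'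
  have hdimA : ringKrullDim (Localization.AtPrime S.m'.toIdeal) = n := by
    rw [IsLocalization.AtPrime.ringKrullDim_eq_height S.m'.toIdeal
      (Localization.AtPrime S.m'.toIdeal)]
    exact hht'
  have hCMA : LocCoh.IsCohenMacaulayLocalRing (Localization.AtPrime S.m'.toIdeal) := by
    refine { supportDim_eq_depth := ?_ }
    rw [Module.supportDim_self_eq_ringKrullDim, hdimA]
    have h1 : (n : ℕ∞) ≤ LocCoh.depth (Localization.AtPrime S.m'.toIdeal)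
        (Localization.AtPrime S.m'.toIdeal) := by
      rw [← Groth.Agent.Lib.Helper28.depth_localizedModule_self]
      exact hdepth.trans
        (Groth.Agent.Lib.Helper28.idealDepth_le_depth_localization S.m'.toIdeal R' le_rfl)
    have h2 : ((LocCoh.depth (Localization.AtPrime S.m'.toIdeal)
        (Localization.AtPrime S.m'.toIdeal) : ℕ∞) : WithBot ℕ∞) ≤ n := by
      have h3 := Groth.Agent.Lib.Helper28.depth_le_supportDim
        (R := Localization.AtPrime S.m'.toIdeal) (M := Localization.AtPrime S.m'.toIdeal)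
      rwa [Module.supportDim_self_eq_ringKrullDim, hdimA] at h3
    apply le_antisymm
    · exact_mod_cast h1
    · exact h2
  -- a finite spanning set of `R_ρ`
  have hposK : ∀ n : ℤ, n < 0 → subK K 𝒜 n = ⊥ := subK_eq_bot K 𝒜 hpos
  have h0Ksp : subK K 𝒜 0 = Submodule.span K {(1 : R)} := by
    apply le_antisymm
    · intro x hx
      obtain ⟨c, rfl⟩ := h0K x hx
      rw [Submodule.mem_span_singleton]
      exact ⟨c, (Algebra.algebraMap_eq_smul_one c).symm⟩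
    · rw [Submodule.span_le]
      intro x hx
      rw [Set.mem_singleton_iff] at hx
      rw [hx]
      exact SetLike.GradedOne.one_mem (A := 𝒜)
  have hfd : FiniteDimensional K
      (Groth.Agent.Lib.LeadGD.pc (subK K 𝒜) (subK K 𝒜) ρ) :=
    Groth.Agent.Lib.LeadGD.finiteDimensional_pc_of_finite (subK K 𝒜) (subK K 𝒜) hposK h0Ksp ρ
  have hpceq : Groth.Agent.Lib.LeadGD.pc (subK K 𝒜) (subK K 𝒜) ρ = subK K 𝒜 ρ :=
    Submodule.ext fun _ => Iff.rfl
  rw [hpceq] at hfd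
  obtain ⟨T, hT⟩ : (subK K 𝒜 ρ).FG := (Submodule.fg_iff_finiteDimensional _).mpr hfd
  -- the canonical module of `R'`
  obtain ⟨Θ⟩ := nonempty_hom_equiv_Vsub K 𝒜 𝒜' hV hφK a hpos hstd ρ hρ0 hρq hρa T hT
  haveI hfinC : Module.Finite R' ↥(Vsub (CGr 𝒜 a) hV) :=
    finite_CMod K 𝒜 𝒜' hV hφK a hpos hstd ρ hρ0 hρq hρa T hT
  obtain ⟨e', he'⟩ := exists_hullA K 𝒜' hpos' h0K' S.m' hm'sp
  have h5 := type_of_hom_equiv 𝒜' S.m' hCMA n hdimA S.F (pieceA K 𝒜') e' he' (Θ.trans Φ.symm)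
  rw [h5, finrank_tensor_CMod K 𝒜 𝒜' hV a hpos hstd ρ hρ0 hρq hρa S.m' hm'sp]

end Groth.Agent.Lib.T2H3.Ver
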