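import Groth.Agent.Lib.T2H3GDualC
import Groth.Agent.Lib.T2H3VerZ

/-! Graded duals (helper3), part D: the *canonical module of the Veronese subring `R^(q)` is the
Veronese module of the *canonical module of `R` (version over an auxiliary field `K` mapping
onto `R_0`). -/

set_option autoImplicit false
set_option linter.unusedSectionVars false
set_option linter.unusedVariables false
set_option linter.style.haveILetI false
set_option maxHeartbeats 2000000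
open DirectSum

noncomputable section

namespace Groth.Agent.Lib.T2H3.GDualU

open Groth.Agent.Lib.LeadGD Groth.Agent.Lib.T2H3.Ver Groth.Agent.Lib.T2H3.GDual GrLC
  Groth.Agent.Lib.T2H3.GrArt Groth.Agent.Lib.T2H3.GrLes

universe u

theorem exists_semilinear_canonical
    (K : Type u) [Field K]
    (R : Type u) [CommRing R] [IsNoetherianRing R] [Algebra K R]
    (𝒜 : ℤ → AddSubgroup R) [GradedRing 𝒜] [KGraded K 𝒜]
    (hpos : ∀ n : ℤ, n < 0 → 𝒜 n = ⊥)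
    (h0K : ∀ x ∈ 𝒜 0, ∃ c : K, algebraMap K R c = x)
    (m : HomogeneousIdeal 𝒜) (hm : IsStarLocal 𝒜 m)
    (hmsp : m.toIdeal = Ideal.span (⋃ n ∈ Set.Ioi (0 : ℤ), (𝒜 n : Set R)))
    (n : ℕ) (I : StarInjRes 𝒜 𝒜)
    (E' : Type u) [AddCommGroup E'] [Module R E'] (𝓔 : ℤ → AddSubgroup E')
    [DirectSum.Decomposition 𝓔] [SetLike.GradedSMul 𝒜 𝓔] (e : (R ⧸ m.toIdeal) →ₗ[R] E')
    (he : GrLC.IsStarInjHull 𝒜 (GrLC.quotGr 𝒜 m) 𝓔 e)
    (C : Type u) [AddCommGroup C] [Module R C] (𝒞 : ℤ → AddSubgroup C)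
    [DirectSum.Decomposition 𝒞] [SetLike.GradedSMul 𝒜 𝒞]
    (hC : GrLC.IsStarCanonical 𝒜 𝒞 𝓔 m n I)
    (q : ℕ) (R' : Type u) [CommRing R'] [Algebra K R'] (𝒜' : ℤ → AddSubgroup R')
    [GradedRing 𝒜'] [KGraded K 𝒜']
    (φ : R' →+* R) (hV : VerHyp 𝒜 𝒜' φ q)
    (hφK : ∀ c : K, φ (algebraMap K R' c) = algebraMap K R c)
    (m' : HomogeneousIdeal 𝒜') (hm' : IsStarLocal 𝒜' m')
    (hm'sp : m'.toIdeal = Ideal.span (⋃ j ∈ Set.Ioi (0 : ℤ), (𝒜' j : Set R')))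
    (I' : StarInjRes 𝒜' 𝒜')
    (E'' : Type u) [AddCommGroup E''] [Module R' E''] (𝓔'' : ℤ → AddSubgroup E'')
    [DirectSum.Decomposition 𝓔''] [SetLike.GradedSMul 𝒜' 𝓔'']
    (e' : (R' ⧸ m'.toIdeal) →ₗ[R'] E'')
    (he' : GrLC.IsStarInjHull 𝒜' (GrLC.quotGr 𝒜' m') 𝓔'' e')
    (C' : Type u) [AddCommGroup C'] [Module R' C'] (𝒞' : ℤ → AddSubgroup C')
    [DirectSum.Decomposition 𝒞'] [SetLike.GradedSMul 𝒜' 𝒞']
    (hC' : GrLC.IsStarCanonical 𝒜' 𝒞' 𝓔'' m' n I') :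
    ∃ g : C' →ₛₗ[φ] C, Function.Injective g ∧
      ∀ j : ℤ, (𝒞' j).map (g : C' →+ C) = 𝒞 (j * q) := by
  classical
  haveI : IsNoetherianRing R' := isNoetherianRing_of_verHyp hV
  haveI hntR : Nontrivial R :=
    ⟨⟨0, 1, fun h => one_notMem_of_isStarLocal hm (by rw [← h]; exact zero_mem _)⟩⟩
  haveI hntR' : Nontrivial R' := ⟨⟨0, 1, fun h => by
    have h1 := congrArg φ h
    rw [map_zero, map_one] at h1
    exact zero_ne_one h1⟩⟩
  have hpos' := hpos_of_verHyp hV hpos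
  have h0K' : ∀ x ∈ 𝒜' 0, ∃ c : K, algebraMap K R' c = x := by
    intro x hx
    have h1 : φ x ∈ 𝒜 0 := by
      have h2 := phi_mem hV hx
      rwa [zero_mul] at h2
    obtain ⟨c, hc⟩ := h0K _ h1
    exact ⟨c, hV.hφ (by rw [hφK, hc])⟩
  haveI hfinC : Module.Finite R C := hC.1
  haveI hfinC' : Module.Finite R' C' := hC'.1
  -- the comparison set-up
  let gφ : R' →ₛₗ[φ] R :=
    { toFun := φ
      map_add' := map_add φ
      map_smul' := fun r x => by rw [smul_eq_mul, map_mul, smul_eq_mul] }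
  have hgdeg : ∀ j : ℤ, (𝒜' j).map (gφ : R' →+ R) = 𝒜 (j * q) := by
    intro j
    rw [← hV.hdeg j]
    rfl
  obtain ⟨S, hSF, hSm, hSm', hSE⟩ : ∃ S : Setup 𝒜 𝒜' φ q 𝒜 𝒜',
      S.F = I' ∧ S.m = m ∧ S.m' = m' ∧ S.E = I :=
    ⟨⟨hV, gφ, hV.hφ, hgdeg, I, I', m, m', radical_map_eq hV m m' hmsp hm'sp⟩, rfl, rfl, rfl, rfl⟩
  subst hSF hSm hSm' hSE
  -- `K`-structures
  letI modC : Module K C := Module.compHom C (algebraMap K R)
  haveI towC : IsScalarTower K R C := IsScalarTower.of_algebraMap_smul (fun _ _ => rfl)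
  letI modC' : Module K C' := Module.compHom C' (algebraMap K R')
  haveI towC' : IsScalarTower K R' C' := IsScalarTower.of_algebraMap_smul (fun _ _ => rfl)
  letI modH : Module K (S.E.H S.m n) := Module.compHom (S.E.H S.m n) (algebraMap K R)
  haveI towH : IsScalarTower K R (S.E.H S.m n) :=
    IsScalarTower.of_algebraMap_smul (fun _ _ => rfl)
  letI modH' : Module K (S.F.H S.m' n) := Module.compHom (S.F.H S.m' n) (algebraMap K R')
  haveI towH' : IsScalarTower K R' (S.F.H S.m' n) :=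
    IsScalarTower.of_algebraMap_smul (fun _ _ => rfl)
  letI decH := HgrDecomposition S.E S.m n
  haveI gsH : SetLike.GradedSMul 𝒜 (S.E.Hgr S.m n) := Hgr_gradedSMul S.E S.m n
  letI decH' := HgrDecomposition S.F S.m' n
  haveI gsH' : SetLike.GradedSMul 𝒜' (S.F.Hgr S.m' n) := Hgr_gradedSMul S.F S.m' n
  -- the two dualities
  obtain ⟨β, hβ⟩ := exists_isGDual_of_isStarCanonical K 𝒜 𝓔 𝒞 hpos h0K S.m hmsp e he n S.E hC
  obtain ⟨β', hβ'⟩ := exists_isGDual_of_isStarCanonical K 𝒜' 𝓔'' 𝒞' hpos' h0K' S.m' hm'sp e' he'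
    n S.F hC'
  -- the graded isomorphism `H^n_{m'}(R') ≅ V(H^n_m(R))`
  obtain ⟨Φ, hΦ⟩ := S.exists_H_equiv_Vsub_graded (S.E.Hgr S.m n) n
    (LinearEquiv.refl R (S.E.H S.m n)) 0 (fun j y hy => by rw [add_zero]; exact hy) 0
    (by rw [zero_mul])
  letI decVH := VDec (S.E.Hgr S.m n) S.hV
  letI decVC := VDec 𝒞 S.hV
  letI modVC := VsubModK K 𝒜 𝒜' S.hV 𝒞
  letI modVH := VsubModK K 𝒜 𝒜' S.hV (S.E.Hgr S.m n)
  haveI towVC := VsubTower K 𝒜 𝒜' S.hV 𝒞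
  haveI towVH := VsubTower K 𝒜 𝒜' S.hV (S.E.Hgr S.m n)
  have hVdual : GrSeg.IsGDual R' (Vgr 𝒞 S.hV) (Vgr (S.E.Hgr S.m n) S.hV)
      (pairV K 𝒜 𝒜' S.hV hφK 𝒞 (S.E.Hgr S.m n) β) :=
    isGDual_Vsub K 𝒜 𝒜' S.hV hφK 𝒞 (S.E.Hgr S.m n) hβ
  -- graded-module structures over `subK K 𝒜'`
  haveI gsVC0 : SetLike.GradedSMul 𝒜' (Vgr 𝒞 S.hV) := VGS 𝒞 S.hV
  haveI gsVH0 : SetLike.GradedSMul 𝒜' (Vgr (S.E.Hgr S.m n) S.hV) := VGS (S.E.Hgr S.m n) S.hV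
  haveI gsVC : SetLike.GradedSMul (subK K 𝒜') (Vgr 𝒞 S.hV) :=
    gradedSMul_subK K 𝒜' (Vgr 𝒞 S.hV)
  haveI gsVH : SetLike.GradedSMul (subK K 𝒜') (Vgr (S.E.Hgr S.m n) S.hV) :=
    gradedSMul_subK K 𝒜' (Vgr (S.E.Hgr S.m n) S.hV)
  haveI gsC' : SetLike.GradedSMul (subK K 𝒜') 𝒞' := gradedSMul_subK K 𝒜' 𝒞'
  haveI gsHK' : SetLike.GradedSMul (subK K 𝒜') (S.F.Hgr S.m' n) :=
    gradedSMul_subK K 𝒜' (S.F.Hgr S.m' n)
  haveI gsCK : SetLike.GradedSMul (subK K 𝒜) 𝒞 := gradedSMul_subK K 𝒜 𝒞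
  -- finiteness of the pieces
  have hposK : ∀ n : ℤ, n < 0 → subK K 𝒜 n = ⊥ := subK_eq_bot K 𝒜 hpos
  have hposK' : ∀ n : ℤ, n < 0 → subK K 𝒜' n = ⊥ := subK_eq_bot K 𝒜' hpos'
  have h0Ksp : subK K 𝒜 0 = Submodule.span K {(1 : R)} := by
    apply le_antisymm
    · intro x hx
      obtain ⟨c, rfl⟩ := h0K x hx
      rw [Submodule.mem_span_singleton]
      exact ⟨c, (Algebra.algebraMap_eq_smul_one c).symm⟩
    · rw [Submodule.span_le]
      intro x hx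
      rw [Set.mem_singleton_iff] at hx
      rw [hx]
      exact SetLike.GradedOne.one_mem (A := 𝒜)
  have h0Ksp' : subK K 𝒜' 0 = Submodule.span K {(1 : R')} := by
    apply le_antisymm
    · intro x hx
      obtain ⟨c, rfl⟩ := h0K' x hx
      rw [Submodule.mem_span_singleton]
      exact ⟨c, (Algebra.algebraMap_eq_smul_one c).symm⟩
    · rw [Submodule.span_le]
      intro x hx
      rw [Set.mem_singleton_iff] at hx
      rw [hx]
      exact SetLike.GradedOne.one_mem (A := 𝒜')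
  have hfin' : ∀ j : ℤ, FiniteDimensional K (pc (subK K 𝒜') 𝒞' j) := fun j =>
    finiteDimensional_pc_of_finite (subK K 𝒜') 𝒞' hposK' h0Ksp' j
  have hfinV : ∀ j : ℤ, FiniteDimensional K (pc (subK K 𝒜') (Vgr 𝒞 S.hV) j) := by
    intro j
    haveI hfd : FiniteDimensional K (pc (subK K 𝒜) 𝒞 (j * q)) :=
      finiteDimensional_pc_of_finite (subK K 𝒜) 𝒞 hposK h0Ksp (j * q)
    let f : pc (subK K 𝒜') (Vgr 𝒞 S.hV) j →ₗ[K] pc (subK K 𝒜) 𝒞 (j * q) :=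
      { toFun := fun x => ⟨Vval 𝒞 S.hV x.1, x.2⟩
        map_add' := fun x y => Subtype.ext (map_add (Vval 𝒞 S.hV) x.1 y.1)
        map_smul' := fun c x => Subtype.ext (Vval_ksmul K 𝒜 𝒜' S.hV hφK 𝒞 c x.1) }
    exact FiniteDimensional.of_injective f
      (fun x y hxy => by
        have h1 : ((f x : pc (subK K 𝒜) 𝒞 (j * q)) : C) = ((f y : pc (subK K 𝒜) 𝒞 (j * q)) : C) :=
          congrArg Subtype.val hxy
        have h2 : Vval 𝒞 S.hV x.1 = Vval 𝒞 S.hV y.1 := h1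
        exact Subtype.ext (Vval_injective 𝒞 S.hV h2))
  -- compare
  have hθ : ∀ j, ∀ d ∈ Vgr (S.E.Hgr S.m n) S.hV j, Φ.symm d ∈ S.F.Hgr S.m' n j := by
    intro j d hd
    have h1 := Groth.Agent.Lib.T2H3.GorCanon.symm_deg (S.F.Hgr S.m' n)
      (Vgr (S.E.Hgr S.m n) S.hV) Φ 0 hΦ hd
    rwa [sub_zero] at h1
  have hθ' : ∀ j, ∀ d ∈ S.F.Hgr S.m' n j, Φ.symm.symm d ∈ Vgr (S.E.Hgr S.m n) S.hV j := by
    intro j d hd
    have h1 := hΦ j d hd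
    rw [add_zero] at h1
    exact h1
  obtain ⟨g₀, hg₀, hg₀'⟩ := exists_equiv_of_dual_equiv (subK K 𝒜') (Vgr 𝒞 S.hV)
    (Vgr (S.E.Hgr S.m n) S.hV) hVdual 𝒞' (S.F.Hgr S.m' n) hβ' hfinV hfin' Φ.symm hθ hθ'
  -- the semilinear map
  refine ⟨{ toFun := fun x => Vval 𝒞 S.hV (g₀ x)
            map_add' := fun x y => by rw [map_add, map_add]
            map_smul' := fun r x => by rw [map_smul, Vval_smul] }, ?_, ?_⟩
  · intro x y hxy
    exact g₀.injective (Vval_injective 𝒞 S.hV hxy)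
  · intro j
    ext y
    rw [AddSubgroup.mem_map]
    constructor
    · rintro ⟨x, hx, rfl⟩
      exact hg₀ j x hx
    · intro hy
      have hyV : y ∈ Vadd (Hq q) 𝒞 := mem_Vadd_of_mem (Hq q) 𝒞 (mul_mem_Hq q j) hy
      have hv : Vmk 𝒞 S.hV y hyV ∈ Vgr 𝒞 S.hV j := hy
      refine ⟨g₀.symm (Vmk 𝒞 S.hV y hyV), hg₀' j _ hv, ?_⟩
      change Vval 𝒞 S.hV (g₀ (g₀.symm (Vmk 𝒞 S.hV y hyV))) = y
      rw [LinearEquiv.apply_symm_apply, Vval_Vmk]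

end Groth.Agent.Lib.T2H3.GDualU
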