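import Groth.Agent.Lib.Helper23SecTw10

/-!
# helper6 (team 2): tensor isomorphisms of invertible modules with control of sections

`exists_assocIso` : `(E ⊗ F) ⊗ G ≅ E ⊗ (F ⊗ G)` carrying `(a ⊗ b) ⊗ c` to `a ⊗ (b ⊗ c)`.
-/

set_option autoImplicit false
set_option linter.unusedSectionVars false
universe u

open CategoryTheory CategoryTheory.Limits AlgebraicGeometry TopologicalSpace Opposite

namespace Groth.Agent.Lib.T2H6.TensorTrack

open Groth.Agent.Lib.Helper23.SecTw Groth.Agent.Lib.Helper6 Groth.Agent.Lib.Helper23.GenLocus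
open Groth.Agent.Lib.Helper23.Extend

variable {X : Scheme.{u}}

/-- sections of a module agreeing locally are equal. -/
theorem sec_ext_of_cover (M : X.Modules) {κ : Type*} (W : κ → X.Opens) (hcov : ∀ x : X, ∃ i, x ∈ W i)
    (U : X.Opens) (m m' : Γ(M, U))
    (h : ∀ i, res M (inf_le_left : U ⊓ W i ≤ U) m = res M inf_le_left m') : m = m' := by
  have hcovV : U ≤ ⨆ i, U ⊓ W i := by
    intro x hx
    obtain ⟨i, hi⟩ := hcov x
    exact Opens.mem_iSup.2 ⟨i, hx, hi⟩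
  exact (modSheaf M).eq_of_locally_eq' (fun i => U ⊓ W i) U (fun i => homOfLE inf_le_left) hcovV _ _ h

/-- the associator with control of sections. -/
theorem exists_assocIso (E F G : X.Modules) (hE : PicF.IsInvertible E) (hF : PicF.IsInvertible F)
    (hG : PicF.IsInvertible G) :
    ∃ Φ : CohB1.tensorMod (CohB1.tensorMod E F) G ≅ CohB1.tensorMod E (CohB1.tensorMod F G),
      ∀ (U : X.Opens) (a : Γ(E, U)) (b : Γ(F, U)) (c : Γ(G, U)),
        Φ.hom.app U (tm _ _ U (tm E F U a b) c) = tm E _ U a (tm F G U b c) := by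
  let W : Fr E × Fr F × Fr G → X.Opens := fun p => p.1.1.1 ⊓ (p.2.1.1.1 ⊓ p.2.2.1.1)
  have hW1 : ∀ p, W p ≤ p.1.1.1 := fun p => inf_le_left
  have hW2 : ∀ p, W p ≤ p.2.1.1.1 := fun p => inf_le_right.trans inf_le_left
  have hW3 : ∀ p, W p ≤ p.2.2.1.1 := fun p => inf_le_right.trans inf_le_right
  have hcov : ∀ x : X, ∃ p, x ∈ W p := by
    intro x
    obtain ⟨W₁, e₁, hx₁, he₁⟩ := exists_gen E hE x
    obtain ⟨W₂, e₂, hx₂, he₂⟩ := exists_gen F hF x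
    obtain ⟨W₃, e₃, hx₃, he₃⟩ := exists_gen G hG x
    exact ⟨⟨⟨⟨W₁, e₁⟩, he₁⟩, ⟨⟨W₂, e₂⟩, he₂⟩, ⟨⟨W₃, e₃⟩, he₃⟩⟩, hx₁, hx₂, hx₃⟩
  let eE : ∀ p, Γ(E, W p) := fun p => res E (hW1 p) p.1.1.2
  let eF : ∀ p, Γ(F, W p) := fun p => res F (hW2 p) p.2.1.1.2
  let eG : ∀ p, Γ(G, W p) := fun p => res G (hW3 p) p.2.2.1.2
  have gE : ∀ p, IsGen E (W p) (eE p) := fun p => p.1.2.mono (hW1 p)
  have gF : ∀ p, IsGen F (W p) (eF p) := fun p => p.2.1.2.mono (hW2 p)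
  have gG : ∀ p, IsGen G (W p) (eG p) := fun p => p.2.2.2.mono (hW3 p)
  obtain ⟨Φ, hΦ⟩ := exists_iso_of_frames
    (CohB1.tensorMod (CohB1.tensorMod E F) G) (CohB1.tensorMod E (CohB1.tensorMod F G)) W hcov
    (fun p => tm _ _ _ (tm E F _ (eE p) (eF p)) (eG p))
    (fun p => tm E _ _ (eE p) (tm F G _ (eF p) (eG p)))
    (fun p => isGen_tm _ _ _ _ _ (isGen_tm _ _ _ _ _ (gE p) (gF p)) (gG p))
    (fun p => isGen_tm _ _ _ _ _ (gE p) (isGen_tm _ _ _ _ _ (gF p) (gG p)))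
    (fun p q => by
      obtain ⟨γ₁, hγ₁⟩ := exists_transition' (eE p) (gE q)
      obtain ⟨γ₂, hγ₂⟩ := exists_transition' (eF p) (gF q)
      obtain ⟨γ₃, hγ₃⟩ := exists_transition' (eG p) (gG q)
      refine cocycle_of_transition (isGen_tm _ _ _ _ _ (isGen_tm _ _ _ _ _ (gE q) (gF q)) (gG q))
        (γ₁ * γ₂ * γ₃) ?_ ?_
      · rw [res_tm, res_tm, hγ₁, hγ₂, hγ₃, tm_smul_smul, tm_smul_smul, res_tm, res_tm]
      · rw [res_tm, res_tm, hγ₁, hγ₂, hγ₃, tm_smul_smul, tm_smul_smul, res_tm, res_tm, mul_assoc])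
  refine ⟨Φ, fun U a b c => ?_⟩
  refine sec_ext_of_cover _ W hcov U _ _ (fun p => ?_)
  have h1 : res _ (inf_le_left : U ⊓ W p ≤ U) (Φ.hom.app U (tm _ _ U (tm E F U a b) c)) =
      Φ.hom.app (U ⊓ W p) (res _ inf_le_left (tm _ _ U (tm E F U a b) c)) :=
    (app_map Φ.hom (homOfLE inf_le_left) _).symm
  rw [h1, res_tm, res_tm, res_tm, res_tm]
  have ha := coef_spec (gE p) (inf_le_right : U ⊓ W p ≤ W p) (res E inf_le_left a)
  have hb := coef_spec (gF p) (inf_le_right : U ⊓ W p ≤ W p) (res F inf_le_left b)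
  have hc := coef_spec (gG p) (inf_le_right : U ⊓ W p ≤ W p) (res G inf_le_left c)
  rw [← ha, ← hb, ← hc, tm_smul_smul, tm_smul_smul, tm_smul_smul, tm_smul_smul, ← res_tm, ← res_tm,
    ← res_tm, ← res_tm, hΦ p (U ⊓ W p) inf_le_right, mul_assoc]

end Groth.Agent.Lib.T2H6.TensorTrack
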