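import Groth.Agent.Lib.T2H6VAmple
import Groth.Agent.Lib.T2H6TensorTrack
import Groth.Agent.S15744

/-!
# helper6 (team 2): ample ⟹ a power is very ample
-/

set_option autoImplicit false
set_option linter.unusedSectionVars false
universe u

open CategoryTheory CategoryTheory.Limits AlgebraicGeometry TopologicalSpace Opposite

namespace Groth.Agent.Lib.T2H6.VAmpleB

open Groth.Agent.Lib.Helper23.SecTw Groth.Agent.Lib.Helper6 Groth.Agent.Lib.Helper23.GenLocus
open Groth.Agent.Lib.Helper23.Extend Groth.Agent.Lib.T2H6.TensorTrack Groth.Agent.Lib.Helper23.TensorUnit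

variable {X : Scheme.{u}}

theorem secHom_sv {M : X.Modules} (h : Coh.structureModule X ⟶ M) : secHom M (sv h ⊤) = h := by
  unfold secHom
  apply M.unitHomEquiv.injective
  rw [Equiv.apply_symm_apply]
  ext U
  exact res_sv h le_top

/-- raising the exponent by one. -/
theorem exists_lift_succ (F P : X.Modules) (hF : PicF.IsInvertible F) (hP : PicF.IsInvertible P)
    (σ : Coh.structureModule X ⟶ P) (U : X.Opens) (t : Γ(F, U)) (n : ℕ)
    (c : Γ(CohB1.tensorMod F (CohB1.tensorPow P n), ⊤))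
    (hc : res _ (le_top : U ≤ ⊤) c = tw F P U t (sv σ U) n) :
    ∃ c' : Γ(CohB1.tensorMod F (CohB1.tensorPow P (n + 1)), ⊤),
      res _ (le_top : U ≤ ⊤) c' = tw F P U t (sv σ U) (n + 1) := by
  obtain ⟨Φ, hΦ⟩ := exists_assocIso F (CohB1.tensorPow P n) P hF (isInvertible_tensorPow hP n) hP
  refine ⟨Φ.hom.app ⊤ (tm _ _ ⊤ c (sv σ ⊤)), ?_⟩
  have h1 : res _ (le_top : U ≤ ⊤) (Φ.hom.app ⊤ (tm _ _ ⊤ c (sv σ ⊤))) =
      Φ.hom.app U (res _ le_top (tm _ _ ⊤ c (sv σ ⊤))) := (app_map Φ.hom (homOfLE le_top) _).symm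
  change res (CohB1.tensorMod F (CohB1.tensorMod (CohB1.tensorPow P n) P)) _ _ = _
  rw [h1, res_tm, hc, res_sv]
  unfold tw
  rw [hΦ]
  rfl

/-- raising the exponent. -/
theorem exists_lift_le (F P : X.Modules) (hF : PicF.IsInvertible F) (hP : PicF.IsInvertible P)
    (σ : Coh.structureModule X ⟶ P) (U : X.Opens) (t : Γ(F, U)) (n N : ℕ) (hnN : n ≤ N)
    (c : Γ(CohB1.tensorMod F (CohB1.tensorPow P n), ⊤))
    (hc : res _ (le_top : U ≤ ⊤) c = tw F P U t (sv σ U) n) :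
    ∃ c' : Γ(CohB1.tensorMod F (CohB1.tensorPow P N), ⊤),
      res _ (le_top : U ≤ ⊤) c' = tw F P U t (sv σ U) N := by
  induction N, hnN using Nat.le_induction with
  | base => exact ⟨c, hc⟩
  | succ N _ ih =>
    obtain ⟨c', hc'⟩ := ih
    exact exists_lift_succ F P hF hP σ U t N c' hc'

/-- uniform extension of finitely many functions on `X_σ`. -/
theorem exists_uniform_sections [CompactSpace X] [QuasiSeparatedSpace X] (P : X.Modules)
    (hP : PicF.IsInvertible P) (σ : Coh.structureModule X ⟶ P) {κ : Type*} [Fintype κ]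
    (b : κ → Γ(X, CohB1.genLocus P σ)) :
    ∃ N₀ : ℕ, ∀ N, N₀ ≤ N → ∀ a, ∃ c : Γ(CohB1.tensorMod (Coh.structureModule X) (CohB1.tensorPow P N), ⊤),
      res _ (le_top : CohB1.genLocus P σ ≤ ⊤) c =
        tw (Coh.structureModule X) P (CohB1.genLocus P σ) (toS _ (b a)) (sv σ _) N := by
  haveI : (Coh.structureModule X).IsQuasicoherent :=
    Groth.Agent.Lib.Helper23.Serre.isQuasicoherent_structureModule' X
  have h : ∀ a, ∃ n : ℕ, ∃ c : Γ(CohB1.tensorMod (Coh.structureModule X) (CohB1.tensorPow P n), ⊤),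
      res _ (le_top : CohB1.genLocus P σ ≤ ⊤) c =
        tw (Coh.structureModule X) P (CohB1.genLocus P σ) (toS _ (b a)) (sv σ _) n := by
    intro a
    obtain ⟨n, -, c, hc⟩ := Groth.Agent.S15744.main X P hP σ (Coh.structureModule X) (toS _ (b a))
    exact ⟨n, c, hc⟩
  choose n c hc using h
  refine ⟨Finset.univ.sup n, fun N hN a => ?_⟩
  exact exists_lift_le _ P (isInvertible_structureModule X) hP σ _ _ (n a) N
    ((Finset.le_sup (Finset.mem_univ a)).trans hN) (c a) (hc a)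


open Groth.Agent.Lib.T2H6.VAmple Groth.Agent.Lib.T2H6.Segre

theorem of_iso {S : Scheme.{u}} (q : X ⟶ S) {L L' : X.Modules} (e : L ≅ L')
    (h : RelAmple.IsRelVeryAmplePn q L) : RelAmple.IsRelVeryAmplePn q L' := by
  obtain ⟨n, i, hi, hq, ⟨ε⟩⟩ := h
  exact ⟨n, i, hi, hq, ⟨e.symm ≪≫ ε⟩⟩

theorem genLocus_id (X : Scheme.{u}) : CohB1.genLocus (Coh.structureModule X) (𝟙 _) = ⊤ := by
  rw [eq_top_iff]
  exact le_genLocus_of_isGen _ _ ⊤ (isGen_one ⊤)

theorem rs_refl {U : X.Opens} (b : Γ(X, U)) : rs (le_refl U) b = b := by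
  change (X.presheaf.map (𝟙 _)).hom b = b
  rw [X.presheaf.map_id]
  rfl

/-- **Very ampleness of large powers from an affine cover by generating loci.** -/
theorem veryAmple_of_affine_cover [CompactSpace X] [QuasiSeparatedSpace X] {S : Scheme.{u}} (q : X ⟶ S)
    [LocallyOfFiniteType q] (P : X.Modules) (hP : PicF.IsInvertible P) {T : Type*} [Fintype T]
    (σ : T → (Coh.structureModule X ⟶ P)) (V : T → S.Opens) (hV : ∀ x, IsAffineOpen (V x))
    (haff : ∀ x, IsAffineOpen (CohB1.genLocus P (σ x)))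
    (hqV : ∀ x, CohB1.genLocus P (σ x) ≤ q ⁻¹ᵁ V x) (hcov : ∀ y : X, ∃ x, y ∈ CohB1.genLocus P (σ x)) :
    ∃ N₀ : ℕ, ∀ N, N₀ ≤ N → 0 < N →
      RelAmple.IsRelVeryAmplePn q (CohB1.tensorMod (Coh.structureModule X) (CohB1.tensorPow P N)) := by
  classical
  have hft : ∀ x, ∃ g : Finset Γ(X, CohB1.genLocus P (σ x)),
      ∀ T' : Subring Γ(X, CohB1.genLocus P (σ x)), (∀ b ∈ g, b ∈ T') →
        (∀ c, pb q (V x) _ (hqV x) c ∈ T') → T' = ⊤ := by
    intro x
    have h := q.finiteType_appLE (hV x) (haff x) (hqV x)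
    letI := (q.appLE (V x) (CohB1.genLocus P (σ x)) (hqV x)).hom.toAlgebra
    obtain ⟨g, hg⟩ : (⊤ : Subalgebra Γ(S, V x) Γ(X, CohB1.genLocus P (σ x))).FG := h.out
    refine ⟨g, fun T' h1 h2 => ?_⟩
    let T'' : Subalgebra Γ(S, V x) Γ(X, CohB1.genLocus P (σ x)) :=
      { T'.toSubsemiring with algebraMap_mem' := h2 }
    have h3 : Algebra.adjoin Γ(S, V x) (g : Set Γ(X, CohB1.genLocus P (σ x))) ≤ T'' :=
      Algebra.adjoin_le (fun b hb => h1 b hb)
    rw [hg] at h3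
    rw [eq_top_iff]
    intro z _
    exact h3 (Algebra.mem_top : z ∈ (⊤ : Subalgebra Γ(S, V x) Γ(X, CohB1.genLocus P (σ x))))
  choose g hg using hft
  have hun : ∀ x, ∃ N₀ : ℕ, ∀ N, N₀ ≤ N → ∀ a : ↥(g x),
      ∃ c : Γ(CohB1.tensorMod (Coh.structureModule X) (CohB1.tensorPow P N), ⊤),
        res _ (le_top : CohB1.genLocus P (σ x) ≤ ⊤) c =
          tw (Coh.structureModule X) P (CohB1.genLocus P (σ x)) (toS _ (a : Γ(X, CohB1.genLocus P (σ x))))
            (sv (σ x) _) N :=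
    fun x => exists_uniform_sections P hP (σ x) (fun a : ↥(g x) => (a : Γ(X, CohB1.genLocus P (σ x))))
  choose N₀ hN₀ using hun
  refine ⟨Finset.univ.sup N₀, fun N hN hpos => ?_⟩
  set M' := CohB1.tensorMod (Coh.structureModule X) (CohB1.tensorPow P N) with hM'
  have hc : ∀ x (a : ↥(g x)), ∃ c : Γ(M', ⊤),
        res M' (le_top : CohB1.genLocus P (σ x) ≤ ⊤) c =
          tw (Coh.structureModule X) P (CohB1.genLocus P (σ x)) (toS _ (a : Γ(X, CohB1.genLocus P (σ x))))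
            (sv (σ x) _) N :=
    fun x a => hN₀ x N ((Finset.le_sup (Finset.mem_univ x)).trans hN) a
  choose c hc using hc
  have hM'inv : PicF.IsInvertible M' :=
    isInvertible_tensorMod (isInvertible_structureModule X) (isInvertible_tensorPow hP N)
  let t : T → (Coh.structureModule X ⟶ M') :=
    fun x => SecTwist.tmulHom (𝟙 (Coh.structureModule X)) (SecTwist.powHom (σ x) N)
  have ht : ∀ x, CohB1.genLocus M' (t x) = CohB1.genLocus P (σ x) := by
    intro x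
    change CohB1.genLocus (CohB1.tensorMod (Coh.structureModule X) (CohB1.tensorPow P N))
      (SecTwist.tmulHom (𝟙 (Coh.structureModule X)) (SecTwist.powHom (σ x) N)) = _
    rw [genLocus_tmulHom (isInvertible_structureModule X) (isInvertible_tensorPow hP N), genLocus_id,
      top_inf_eq, genLocus_powHom hP _ N hpos]
  let s : T ⊕ (Σ x : T, ↥(g x)) → ProjUP.Γm M' := Sum.elim (fun x => sv (t x) ⊤) (fun p => c p.1 p.2)
  have hs1 : ∀ x, CohB1.genLocus M' (secHom M' (s (Sum.inl x))) = CohB1.genLocus P (σ x) := by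
    intro x
    change CohB1.genLocus M' (secHom M' (sv (t x) ⊤)) = _
    rw [secHom_sv, ht]
  have key : ∀ (x : T) (O' : X.Opens) (hO : O' = CohB1.genLocus P (σ x)) (T' : Subring Γ(X, O')),
      (∀ a : ↥(g x), rs hO.le (a : Γ(X, CohB1.genLocus P (σ x))) ∈ T') →
      (∀ c, pb q (V x) O' (hO.le.trans (hqV x)) c ∈ T') → T' = ⊤ := by
    rintro x O' rfl T' h1 h2
    refine hg x T' (fun b hb => ?_) h2
    have := h1 ⟨b, hb⟩
    rwa [rs_refl] at this
  refine isRelVeryAmplePn_of_sections' q M' hM'inv s (Set.range Sum.inl) (Sum.elim V (fun _ => ⊤))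
    ?_ ?_ ?_ ?_ ?_
  · rintro _ ⟨x, rfl⟩
    exact hV x
  · rintro _ ⟨x, rfl⟩
    rw [hs1]
    exact hqV x
  · intro y
    obtain ⟨x, hx⟩ := hcov y
    exact ⟨Sum.inl x, ⟨x, rfl⟩, by rw [hs1]; exact hx⟩
  · rintro _ ⟨x, rfl⟩
    rw [hs1]
    exact haff x
  · rintro _ ⟨x, rfl⟩ T' h1 h2
    refine key x _ (hs1 x) T' (fun a => ?_) h2
    obtain ⟨a', ha', hab⟩ := h1 (Sum.inr ⟨x, a⟩)
    have hgenO : IsGen M' (CohB1.genLocus M' (secHom M' (s (Sum.inl x))))
        (res M' le_top (s (Sum.inl x))) := by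
      have := isGen_sv_genLocus M' (secHom M' (s (Sum.inl x)))
      rwa [sv_secHom] at this
    have hle : CohB1.genLocus M' (secHom M' (s (Sum.inl x))) ≤ CohB1.genLocus P (σ x) := (hs1 x).le
    have hU : res M' (le_top : CohB1.genLocus P (σ x) ≤ ⊤) (c x a) =
        (a : Γ(X, CohB1.genLocus P (σ x))) • sv (t x) (CohB1.genLocus P (σ x)) := by
      rw [hc x a]
      change tm _ _ _ _ _ = _ • sv (SecTwist.tmulHom (𝟙 (Coh.structureModule X)) (SecTwist.powHom (σ x) N)) _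
      rw [sv_tmulHom, sv_powHom, ← tm_smul_left]
      congr 1
      change _ = (a : Γ(X, CohB1.genLocus P (σ x))) • toS _ 1
      rw [smul_toS, mul_one]
    have h3 : rs hle (a : Γ(X, CohB1.genLocus P (σ x))) •
        res M' (le_top : CohB1.genLocus M' (secHom M' (s (Sum.inl x))) ≤ ⊤) (s (Sum.inl x)) =
        res M' (le_top : CohB1.genLocus M' (secHom M' (s (Sum.inl x))) ≤ ⊤) (s (Sum.inr ⟨x, a⟩)) := by
      change rs hle (a : Γ(X, CohB1.genLocus P (σ x))) •
        res M' (le_top : CohB1.genLocus M' (secHom M' (s (Sum.inl x))) ≤ ⊤) (sv (t x) ⊤) =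
        res M' (le_top : CohB1.genLocus M' (secHom M' (s (Sum.inl x))) ≤ ⊤) (c x a)
      rw [res_sv, ← res_res M' (le_top : CohB1.genLocus P (σ x) ≤ ⊤) hle (c x a), hU, res_smul, res_sv]
    have h4 : a' = rs hle (a : Γ(X, CohB1.genLocus P (σ x))) := by
      apply (hgenO _ le_rfl).1
      change a' • res M' le_rfl (res M' le_top (s (Sum.inl x))) =
        rs hle (a : Γ(X, CohB1.genLocus P (σ x))) • res M' le_rfl (res M' le_top (s (Sum.inl x)))
      rw [res_self, hab, h3]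
    rw [← h4]
    exact ha'


/-- an ample module gives a finite affine cover by generating loci of sections of one power, mapping into affine
opens of the base. -/
theorem exists_cover_of_isAmple {S : Scheme.{u}} (q : X ⟶ S) (L : X.Modules) (hL : CohB1.IsAmple L) :
    ∃ (d : ℕ) (_ : 0 < d) (T : Type u) (_ : Fintype T)
      (σ : T → (Coh.structureModule X ⟶ CohB1.tensorPow L d)) (V : T → S.Opens),
      (∀ x, IsAffineOpen (V x)) ∧ (∀ x, IsAffineOpen (CohB1.genLocus _ (σ x))) ∧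
      (∀ x, CohB1.genLocus _ (σ x) ≤ q ⁻¹ᵁ V x) ∧ ∀ y : X, ∃ x, y ∈ CohB1.genLocus _ (σ x) := by
  classical
  haveI := hL.2.1
  have hV : ∀ x : X, ∃ V : S.Opens, IsAffineOpen V ∧ q x ∈ V := by
    intro x
    obtain ⟨V, hV, hx, -⟩ := exists_isAffineOpen_mem_and_subset (x := q x) (U := ⊤) trivial
    exact ⟨V, hV, hx⟩
  choose V hVa hxV using hV
  have h0 : ∀ x : X, ∃ (n : ℕ) (s : Coh.structureModule X ⟶ CohB1.tensorPow L (n + 1)),
      ({x} : Set X) ⊆ CohB1.genLocus _ s ∧ CohB1.genLocus _ s ≤ q ⁻¹ᵁ V x ∧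
        IsAffineOpen (CohB1.genLocus _ s) :=
    fun x => exists_affine_genLocus_of_finite L hL {x} (Set.finite_singleton x) (q ⁻¹ᵁ V x)
      (Set.singleton_subset_iff.2 (hxV x))
  choose n σ₀ hx0 hle0 haff0 using h0
  obtain ⟨T₀, hT₀⟩ := isCompact_univ.elim_finite_subcover
    (fun x => ((CohB1.genLocus _ (σ₀ x) : X.Opens) : Set X)) (fun x => (CohB1.genLocus _ (σ₀ x)).2)
    (fun x _ => Set.mem_iUnion.2 ⟨x, hx0 x rfl⟩)
  set d := ∏ x ∈ T₀, (n x + 1) with hd
  have hdpos : 0 < d := Finset.prod_pos (fun x _ => Nat.succ_pos _)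
  have hdvd : ∀ x ∈ T₀, (n x + 1) * (d / (n x + 1)) = d :=
    fun x hx => Nat.mul_div_cancel' (Finset.dvd_prod_of_mem _ hx)
  have hepos : ∀ x ∈ T₀, 0 < d / (n x + 1) := by
    intro x hx
    apply Nat.pos_of_ne_zero
    intro h0
    have := hdvd x hx
    rw [h0, mul_zero] at this
    exact hdpos.ne this
  have hΨ : ∀ x : T₀, Nonempty (CohB1.tensorPow (CohB1.tensorPow L (n x + 1)) (d / (n x + 1)) ≅
      CohB1.tensorPow L d) :=
    fun x => nonempty_tensorPow_tensorPow_iso L hL.1 _ _ _ (hdvd x x.2)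
  let Ψ := fun x : T₀ => (hΨ x).some
  let σ : T₀ → (Coh.structureModule X ⟶ CohB1.tensorPow L d) :=
    fun x => SecTwist.powHom (σ₀ x) (d / (n x + 1)) ≫ (Ψ x).hom
  have hσ : ∀ x : T₀, CohB1.genLocus _ (σ x) = CohB1.genLocus _ (σ₀ x) := by
    intro x
    change CohB1.genLocus _ (SecTwist.powHom (σ₀ x) (d / (n x + 1)) ≫ (Ψ x).hom) = _
    rw [Groth.Agent.Lib.Helper23.AmpleIso.genLocus_comp_iso, genLocus_powHom (isInvertible_tensorPow hL.1 _) _ _ (hepos x x.2)]
  refine ⟨d, hdpos, T₀, inferInstance, σ, fun x => V x, fun x => hVa x, fun x => ?_, fun x => ?_,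
    fun y => ?_⟩
  · rw [hσ]; exact haff0 x
  · rw [hσ]; exact hle0 x
  · obtain ⟨x, hx⟩ := Set.mem_iUnion.1 (hT₀ (Set.mem_univ y))
    obtain ⟨hxT, hy⟩ := Set.mem_iUnion.1 hx
    exact ⟨⟨x, hxT⟩, by rw [hσ]; exact hy⟩

/-- **An ample module has very ample powers** (all large multiples of some `d`). -/
theorem exists_pow_veryAmple {S : Scheme.{u}} (q : X ⟶ S) [LocallyOfFiniteType q] (L : X.Modules)
    (hL : CohB1.IsAmple L) :
    ∃ d : ℕ, 0 < d ∧ ∃ N₀ : ℕ, ∀ N, N₀ ≤ N → 0 < N →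
      RelAmple.IsRelVeryAmplePn q (CohB1.tensorPow L (d * N)) := by
  haveI := hL.2.1
  haveI := quasiSeparatedSpace_of_isAmple L hL
  obtain ⟨d, hd, T, hT, σ, V, hV, haff, hqV, hcov⟩ := exists_cover_of_isAmple q L hL
  obtain ⟨N₀, hN₀⟩ := veryAmple_of_affine_cover q (CohB1.tensorPow L d) (isInvertible_tensorPow hL.1 d)
    σ V hV haff hqV hcov
  refine ⟨d, hd, N₀, fun N hN hpos => ?_⟩
  obtain ⟨Φ⟩ := nonempty_tensorPow_tensorPow_iso L hL.1 d N (d * N) rfl
  exact of_iso q (unitTensorIso _ ≪≫ Φ) (hN₀ N hN hpos)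

end Groth.Agent.Lib.T2H6.VAmpleB
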