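import Mathlib
import Groth.Agent.Lib.T2H5ClosedTransfer
import Groth.Agent.Lib.Helper26FpqcMod
import Groth.Agent.Lib.Helper13QcqsBC
import Groth.Agent.Lib.Helper23LocGen
import Groth.Agent.Lib.T2H6VAmpleB

/-!
# Global generation and faithfully flat base change (helper3)

`F` quasi-coherent on `X` quasi-compact quasi-separated over `Spec A`, `A → A'` faithfully flat:
`F` is globally generated iff its pullback to `X ×_A A'` is.
-/

set_option autoImplicit false
set_option linter.style.haveILetI false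
universe u
open CategoryTheory CategoryTheory.Limits AlgebraicGeometry TopologicalSpace Opposite TensorProduct
open Groth.Agent.Lib.Helper23.SecTw Groth.Agent.Lib.Helper23.GenLocus Groth.Agent.Lib.Helper6

namespace Groth.Agent.Lib.T2H3.GGDescent

section Pull

variable {X X' : Scheme.{u}} (g : X' ⟶ X)

/-- pullback preserves global generation. -/
theorem isGloballyGenerated_pullback (F : X.Modules) (h : Curv2.IsGloballyGenerated F) :
    Curv2.IsGloballyGenerated ((Scheme.Modules.pullback g).obj F) := by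
  obtain ⟨ι, p, hp⟩ := h
  have h1 : (Scheme.Modules.pullback g).PreservesEpimorphisms :=
    Functor.preservesEpimorphisms_of_adjunction (Scheme.Modules.pullbackPushforwardAdjunction g)
  have h2 : Epi ((Scheme.Modules.pullback g).map p) :=
    @Functor.map_epi _ _ _ _ (Scheme.Modules.pullback g) h1 _ _ p hp
  exact ⟨ι, (Groth.Agent.Lib.T2H5.ClosedTransfer.pullbackFreeIso g ι).inv ≫
    (Scheme.Modules.pullback g).map p, @epi_comp _ _ _ _ _ _ inferInstance _ h2⟩

end Pull

section Sec

variable {X : Scheme.{u}}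

/-- composing the morphism of a global section with a morphism of modules. -/
theorem secHom_comp {M N : X.Modules} (Φ : M ⟶ N) (s : Γ(M, ⊤)) :
    secHom M s ≫ Φ = secHom N (Φ.app ⊤ s) := by
  rw [← Groth.Agent.Lib.T2H6.VAmpleB.secHom_sv (secHom M s ≫ Φ)]
  congr 1
  have h1 : sv (secHom M s ≫ Φ) ⊤ = Φ.app ⊤ (sv (secHom M s) ⊤) := rfl
  rw [h1, sv_secHom]
  congr 1
  exact Groth.Agent.Helper13QcqsBC.res_self M s

/-- the evaluation morphism from the free module on all global sections. -/
noncomputable def ev (F : X.Modules) :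
    (SheafOfModules.free (Coh.structureModule X ⟶ F) : X.Modules) ⟶ F :=
  Sigma.desc (C := SheafOfModules X.ringCatSheaf) (fun s : (Coh.structureModule X ⟶ F) => s)

theorem ιFree_ev (F : X.Modules) (s : Coh.structureModule X ⟶ F) :
    (show Coh.structureModule X ⟶ (SheafOfModules.free (Coh.structureModule X ⟶ F) : X.Modules) from
      SheafOfModules.ιFree (R := X.ringCatSheaf) s) ≫ ev F = s :=
  Sigma.ι_desc (C := SheafOfModules X.ringCatSheaf) (fun s : (Coh.structureModule X ⟶ F) => s) s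

theorem isGloballyGenerated_of_epi_ev (F : X.Modules) (h : Epi (ev F)) :
    Curv2.IsGloballyGenerated F := ⟨_, ev F, h⟩

/-- a module is globally generated as soon as some epimorphism from a free module factors through
a given morphism from a free module (criterion used below). -/
theorem epi_of_forall_section_factors {P N : X.Modules} (a : P ⟶ N)
    (hN : Curv2.IsGloballyGenerated N)
    (h : ∀ s : Γ(N, ⊤), ∃ t : Γ(P, ⊤), a.app ⊤ t = s) : Epi a := by
  obtain ⟨ι, p, hp⟩ := hN
  choose t ht using h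
  let q : (SheafOfModules.free ι : X.Modules) ⟶ P :=
    Sigma.desc (C := SheafOfModules X.ringCatSheaf)
      (fun i : ι => secHom P (t (sv ((show Coh.structureModule X ⟶ (SheafOfModules.free ι : X.Modules) from
        SheafOfModules.ιFree (R := X.ringCatSheaf) i) ≫ p) ⊤)))
  have hq : q ≫ a = p := by
    refine Sigma.hom_ext (C := SheafOfModules X.ringCatSheaf) _ _ (fun i => ?_)
    have h1 := Sigma.ι_desc (C := SheafOfModules X.ringCatSheaf)
      (fun i : ι => secHom P (t (sv ((show Coh.structureModule X ⟶ (SheafOfModules.free ι : X.Modules) from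
        SheafOfModules.ιFree (R := X.ringCatSheaf) i) ≫ p) ⊤))) i
    refine (Category.assoc _ _ _).symm.trans ?_
    refine (congrArg (fun k => k ≫ a) h1).trans ?_
    rw [secHom_comp, ht, Groth.Agent.Lib.T2H6.VAmpleB.secHom_sv]
    rfl
  rw [← hq] at hp
  exact epi_of_epi q a

end Sec

section Unit

open Groth.Agent.Helper13PullbackUnit

/-- naturality of `unitSec` in the module. -/
theorem unitSec_naturality {X Y : Scheme.{u}} (f : Y ⟶ X) {F G : X.Modules} (φ : F ⟶ G)
    {V : X.Opens} {U : Y.Opens} (hle : U ≤ f ⁻¹ᵁ V) (m : Γ(F, V)) :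
    ((Scheme.Modules.pullback f).map φ).app U (unitSec f F hle m) =
      unitSec f G hle (φ.app V m) := by
  rw [unitSec_apply, unitSec_apply, Groth.Agent.Lib.Helper23.Extend.app_map]
  congr 1
  have hn := (Scheme.Modules.pullbackPushforwardAdjunction f).unit.naturality φ
  have h2 := congrArg (fun k => (Scheme.Modules.Hom.app k V) m) hn
  exact h2.symm

end Unit

section Desc

open Groth.Agent.Helper13PullbackUnit Groth.Agent.Helper13QcqsBC Groth.Agent.Helper13FlatMV
  Groth.Agent.Helper13AffBC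

variable {X S X' S' : Scheme.{u}} (f : X ⟶ S) (g : S' ⟶ S) (g' : X' ⟶ X) (f' : X' ⟶ S')
  (h : IsPullback g' f' f g) (F : X.Modules)
  {U : S.Opens} {U' : S'.Opens} (hle : U' ≤ g ⁻¹ᵁ U)

include hle in
/-- flat base change of sections, in the form `Γ(S',U') ⊗ Γ(F, f⁻¹U) ≃ Γ(g'^*F, f'⁻¹U')`. -/
theorem kap_uW_bijective [QuasiCompact f] [QuasiSeparated f] [F.IsQuasicoherent]
    (hU : IsAffineOpen U) (hU' : IsAffineOpen U') (hflat : (g.appLE U U' hle).hom.Flat) :
    letI : Algebra Γ(S, U) Γ(S', U') := (g.appLE U U' hle).hom.toAlgebra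
    Function.Bijective (kap (R := Γ(S, U)) (R' := Γ(S', U'))
      (uW f g' f' F le_rfl (preimage_le f g g' f' h hle) (le_refl (f' ⁻¹ᵁ U')))
      (uW_smul f g g' f' h F hle le_rfl (preimage_le f g g' f' h hle) le_rfl)) := by
  have hle' : f' ⁻¹ᵁ U' ≤ g' ⁻¹ᵁ (f ⁻¹ᵁ U) := preimage_le f g g' f' h hle
  have hK := KBij_of_qcqs f g g' f' h F hle hU hU' hflat
    (f.isQuasiSeparated_preimage hU.isQuasiSeparated) (f ⁻¹ᵁ U) (f.isCompact_preimage hU.isCompact)
    le_rfl
  letI : Algebra Γ(S, U) Γ(S', U') := (g.appLE U U' hle).hom.toAlgebra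
  have hφ' : ∀ (r : Γ(S, U)) (m : SecR f F U (f ⁻¹ᵁ U) le_rfl),
      uW f g' f' F le_rfl hle' (le_refl (f' ⁻¹ᵁ U')) (r • m) =
        algebraMap Γ(S, U) Γ(S', U') r • uW f g' f' F le_rfl hle' (le_refl (f' ⁻¹ᵁ U')) m :=
    uW_smul f g g' f' h F hle le_rfl hle' le_rfl
  have hVle : Vp g' f' U' (f ⁻¹ᵁ U) ≤ f' ⁻¹ᵁ U' := inf_le_right
  have hVeq : Vp g' f' U' (f ⁻¹ᵁ U) = f' ⁻¹ᵁ U' := inf_eq_right.2 hle'
  let ψ := resL f' ((Scheme.Modules.pullback g').obj F) U' (le_refl (f' ⁻¹ᵁ U'))
    (inf_le_right : Vp g' f' U' (f ⁻¹ᵁ U) ≤ f' ⁻¹ᵁ U') hVle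
  have hψ : Function.Bijective ψ :=
    map_bijective_of_eq ((Scheme.Modules.pullback g').obj F) hVeq (homOfLE hVle)
  have hn : ∀ x, ψ (kap (uW f g' f' F le_rfl hle' (le_refl (f' ⁻¹ᵁ U'))) hφ' x) =
      kap (R := Γ(S, U)) (R' := Γ(S', U'))
        (uW f g' f' F le_rfl (inf_le_left : Vp g' f' U' (f ⁻¹ᵁ U) ≤ g' ⁻¹ᵁ (f ⁻¹ᵁ U)) inf_le_right)
        (uW_smul f g g' f' h F hle le_rfl inf_le_left inf_le_right) x := by
    intro x
    have := kap_nat (R := Γ(S, U)) (R' := Γ(S', U'))
      (uW f g' f' F le_rfl hle' (le_refl (f' ⁻¹ᵁ U'))) hφ'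
      (uW f g' f' F le_rfl (inf_le_left : Vp g' f' U' (f ⁻¹ᵁ U) ≤ g' ⁻¹ᵁ (f ⁻¹ᵁ U)) inf_le_right)
      (uW_smul f g g' f' h F hle le_rfl inf_le_left inf_le_right)
      LinearMap.id ψ (fun a => unitSec_res g' F _ _ le_rfl hVle a |>.trans (by
        congr 1
        exact Groth.Agent.Helper13QcqsBC.res_self F a)) x
    rw [this, LinearMap.lTensor_id, LinearMap.id_apply]
  have hcomp : (ψ : _ → _) ∘ (kap (uW f g' f' F le_rfl hle' (le_refl (f' ⁻¹ᵁ U'))) hφ') =
      kap (R := Γ(S, U)) (R' := Γ(S', U'))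
        (uW f g' f' F le_rfl (inf_le_left : Vp g' f' U' (f ⁻¹ᵁ U) ≤ g' ⁻¹ᵁ (f ⁻¹ᵁ U)) inf_le_right)
        (uW_smul f g g' f' h F hle le_rfl inf_le_left inf_le_right) := funext hn
  have hb : Function.Bijective ((ψ : _ → _) ∘
      (kap (uW f g' f' F le_rfl hle' (le_refl (f' ⁻¹ᵁ U'))) hφ')) := hcomp ▸ hK
  exact (Function.Bijective.of_comp_iff' hψ _).1 hb

include hle h in
/-- induction principle: sections of `g'^*F` over `f'⁻¹U'` are combinations of pulled-back
sections of `F` over `f⁻¹U`. -/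
theorem section_induction [QuasiCompact f] [QuasiSeparated f] [F.IsQuasicoherent]
    (hU : IsAffineOpen U) (hU' : IsAffineOpen U') (hflat : (g.appLE U U' hle).hom.Flat)
    (motive : Γ((Scheme.Modules.pullback g').obj F, f' ⁻¹ᵁ U') → Prop)
    (h0 : motive 0) (hadd : ∀ a b, motive a → motive b → motive (a + b))
    (hsmul : ∀ (c : Γ(X', f' ⁻¹ᵁ U')) a, motive a → motive (c • a))
    (hunit : ∀ m : Γ(F, f ⁻¹ᵁ U), motive (unitSec g' F (preimage_le f g g' f' h hle) m))
    (s : Γ((Scheme.Modules.pullback g').obj F, f' ⁻¹ᵁ U')) : motive s := by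
  have hb := kap_uW_bijective f g g' f' h F hle hU hU' hflat
  letI : Algebra Γ(S, U) Γ(S', U') := (g.appLE U U' hle).hom.toAlgebra
  obtain ⟨x, rfl⟩ := hb.2 s
  induction x using TensorProduct.induction_on with
  | zero => rw [map_zero]; exact h0
  | tmul r' m =>
    rw [kap_tmul]
    exact hsmul _ _ (hunit m)
  | add x y hx hy => rw [map_add]; exact hadd _ _ hx hy

include h in
/-- the case `U = ⊤`, `U' = ⊤`. -/
theorem top_section_induction [QuasiCompact f] [QuasiSeparated f] [F.IsQuasicoherent]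
    (hS : IsAffineOpen (⊤ : S.Opens)) (hS' : IsAffineOpen (⊤ : S'.Opens))
    (hflat : (g.appLE ⊤ ⊤ le_top).hom.Flat)
    (motive : Γ((Scheme.Modules.pullback g').obj F, ⊤) → Prop)
    (h0 : motive 0) (hadd : ∀ a b, motive a → motive b → motive (a + b))
    (hsmul : ∀ (c : Γ(X', ⊤)) a, motive a → motive (c • a))
    (hunit : ∀ m : Γ(F, ⊤), motive (unitSec g' F (le_top : (⊤ : X'.Opens) ≤ g' ⁻¹ᵁ ⊤) m))
    (s : Γ((Scheme.Modules.pullback g').obj F, ⊤)) : motive s :=
  section_induction f g g' f' h F (U := ⊤) (U' := ⊤) le_top hS hS' hflat motive h0 hadd hsmul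
    hunit s

include h in
/-- if `g'^*F` is globally generated, then `g'^*` of the evaluation morphism of `F` is an
epimorphism (base affine, `g` flat, `f` quasi-compact and quasi-separated). -/
theorem epi_pullback_ev [QuasiCompact f] [QuasiSeparated f] [F.IsQuasicoherent]
    (hS : IsAffineOpen (⊤ : S.Opens)) (hS' : IsAffineOpen (⊤ : S'.Opens))
    (hflat : (g.appLE ⊤ ⊤ le_top).hom.Flat)
    (hN : Curv2.IsGloballyGenerated ((Scheme.Modules.pullback g').obj F)) :
    Epi ((Scheme.Modules.pullback g').map (ev F)) := by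
  refine epi_of_forall_section_factors _ hN (fun s => ?_)
  refine top_section_induction f g g' f' h F hS hS' hflat
    (fun s => ∃ t : Γ((Scheme.Modules.pullback g').obj
      (SheafOfModules.free (Coh.structureModule X ⟶ F) : X.Modules), ⊤),
      ((Scheme.Modules.pullback g').map (ev F)).app ⊤ t = s) ?_ ?_ ?_ ?_ s
  · exact ⟨0, map_zero _⟩
  · rintro a b ⟨ta, ha⟩ ⟨tb, hb⟩
    exact ⟨ta + tb, by rw [map_add, ha, hb]⟩
  · rintro c a ⟨ta, ha⟩
    exact ⟨c • ta, by rw [Scheme.Modules.Hom.app_smul, ha]⟩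
  · intro m
    let σ : Coh.structureModule X ⟶ F := secHom F m
    let e : Γ((SheafOfModules.free (Coh.structureModule X ⟶ F) : X.Modules), ⊤) :=
      sv (show Coh.structureModule X ⟶ (SheafOfModules.free (Coh.structureModule X ⟶ F) : X.Modules)
        from SheafOfModules.ιFree (R := X.ringCatSheaf) σ) ⊤
    have he : Scheme.Modules.Hom.app (ev F) ⊤ e = m := by
      have h1 : Scheme.Modules.Hom.app (ev F) ⊤ e = sv ((show Coh.structureModule X ⟶
          (SheafOfModules.free (Coh.structureModule X ⟶ F) : X.Modules)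
        from SheafOfModules.ιFree (R := X.ringCatSheaf) σ) ≫ ev F) ⊤ := rfl
      rw [h1, ιFree_ev, sv_secHom]
      exact Groth.Agent.Helper13QcqsBC.res_self F m
    refine ⟨unitSec g' _ (le_top : (⊤ : X'.Opens) ≤ g' ⁻¹ᵁ ⊤) e, ?_⟩
    rw [unitSec_naturality, he]

include h in
/-- **descent of global generation** along a flat surjective base change of an affine base. -/
theorem isGloballyGenerated_of_pullback [QuasiCompact f] [QuasiSeparated f] [F.IsQuasicoherent]
    [Flat g'] [Surjective g']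
    (hS : IsAffineOpen (⊤ : S.Opens)) (hS' : IsAffineOpen (⊤ : S'.Opens))
    (hflat : (g.appLE ⊤ ⊤ le_top).hom.Flat)
    (hN : Curv2.IsGloballyGenerated ((Scheme.Modules.pullback g').obj F)) :
    Curv2.IsGloballyGenerated F :=
  isGloballyGenerated_of_epi_ev F
    (Groth.Agent.Lib.Helper26.FpqcMod.epi_of_family (fun _ : Unit => g')
      (fun y => ⟨(), g'.surjective y⟩) (ev F)
      (fun _ => epi_pullback_ev f g g' f' h F hS hS' hflat hN))

end Desc

section Main

/-- **Global generation and faithfully flat base change of an affine base.** -/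
theorem isGloballyGenerated_iff_pullback (A A' : Type u) [CommRing A] [CommRing A'] [Algebra A A']
    [Module.FaithfullyFlat A A'] (X : Scheme.{u}) (f : X ⟶ Spec (CommRingCat.of A))
    [QuasiCompact f] [QuasiSeparated f] (F : X.Modules) [F.IsQuasicoherent] :
    Curv2.IsGloballyGenerated F ↔ Curv2.IsGloballyGenerated
      ((Scheme.Modules.pullback
        (pullback.fst f (Spec.map (CommRingCat.ofHom (algebraMap A A'))))).obj F) := by
  refine ⟨isGloballyGenerated_pullback _ F, fun hN => ?_⟩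
  have hff : (CommRingCat.ofHom (algebraMap A A')).hom.FaithfullyFlat :=
    (RingHom.faithfullyFlat_algebraMap_iff).2 inferInstance
  obtain ⟨hfl, hsurj⟩ := (flat_and_surjective_SpecMap_iff _).2 hff
  haveI := hfl
  haveI := hsurj
  exact isGloballyGenerated_of_pullback f (Spec.map (CommRingCat.ofHom (algebraMap A A')))
    (pullback.fst f _) (pullback.snd f _) (IsPullback.of_hasPullback f _) F
    (isAffineOpen_top _) (isAffineOpen_top _)
    ((Spec.map (CommRingCat.ofHom (algebraMap A A'))).flat_appLE (isAffineOpen_top _)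
      (isAffineOpen_top _) le_top) hN

end Main

end Groth.Agent.Lib.T2H3.GGDescent
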