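import Mathlib

/-!
# Primitive elements of a group algebra vanish
-/

set_option autoImplicit false
universe u v

namespace Groth.Agent.Lib.T2H3.MultGaAlg

open MonoidAlgebra

variable {B : Type u} [CommRing B] {G : Type v} [Group G]

/-- an element `a` of `B[G]` with `Δ a = a ⊗ 1 + 1 ⊗ a` (written in `B[G × G]`) is zero. -/
theorem eq_zero_of_primitive (a : MonoidAlgebra B G)
    (h : mapDomainRingHom B (MonoidHom.prod (MonoidHom.id G) (MonoidHom.id G)) a =
      mapDomainRingHom B (MonoidHom.inl G G) a + mapDomainRingHom B (MonoidHom.inr G G) a) :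
    a = 0 := by
  classical
  have hd : Function.Injective (MonoidHom.prod (MonoidHom.id G) (MonoidHom.id G)) := by
    intro x y hxy
    exact congrArg Prod.fst hxy
  have h1 : Function.Injective (MonoidHom.inl G G) := fun x y hxy => congrArg Prod.fst hxy
  have h2 : Function.Injective (MonoidHom.inr G G) := fun x y hxy => congrArg Prod.snd hxy
  have hc : ∀ g : G, a.coeff g = (if g = 1 then a.coeff g else 0) +
      (if g = 1 then a.coeff g else 0) := by
    intro g
    have := congrArg (fun z => z.coeff (g, g)) h
    simp only [mapDomainRingHom_apply, coeff_add, Finsupp.add_apply, coeff_mapDomain] at this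
    have e0 : Finsupp.mapDomain (MonoidHom.prod (MonoidHom.id G) (MonoidHom.id G)) a.coeff (g, g) =
        a.coeff g := Finsupp.mapDomain_apply hd a.coeff g
    rw [e0] at this
    refine this.trans ?_
    by_cases hg : g = 1
    · subst hg
      rw [if_pos rfl]
      have e1 : Finsupp.mapDomain (MonoidHom.inl G G) a.coeff ((1 : G), (1 : G)) = a.coeff 1 :=
        Finsupp.mapDomain_apply h1 a.coeff 1
      have e2 : Finsupp.mapDomain (MonoidHom.inr G G) a.coeff ((1 : G), (1 : G)) = a.coeff 1 :=
        Finsupp.mapDomain_apply h2 a.coeff 1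
      rw [e1, e2]
    · rw [if_neg hg]
      have e1 : Finsupp.mapDomain (MonoidHom.inl G G) a.coeff (g, g) = 0 := by
        apply Finsupp.mapDomain_of_notMem_range
        rintro ⟨x, hx⟩
        exact hg (congrArg Prod.snd hx).symm
      have e2 : Finsupp.mapDomain (MonoidHom.inr G G) a.coeff (g, g) = 0 := by
        apply Finsupp.mapDomain_of_notMem_range
        rintro ⟨x, hx⟩
        exact hg (congrArg Prod.fst hx).symm
      rw [e1, e2]
  apply coeff_injective
  ext g
  rw [coeff_zero, Finsupp.zero_apply]
  by_cases hg : g = 1
  · have := hc g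
    rw [if_pos hg] at this
    exact left_eq_add.mp this
  · have := hc g
    rwa [if_neg hg, add_zero] at this

end Groth.Agent.Lib.T2H3.MultGaAlg
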