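import Mathlib
import Groth.Prelude.Def_Red2
import Groth.Prelude.Def_SGA3x
import Groth.Agent.Lib.Helper27GaGm
import Groth.Agent.Lib.T2H3MultGaAlg
import Groth.Agent.Lib.T2H3GenericTorsor

/-!
# Homomorphisms from a group of multiplicative type to the additive group are trivial
-/

set_option autoImplicit false
set_option linter.style.haveILetI false
universe u

open CategoryTheory CategoryTheory.Limits AlgebraicGeometry MonoidalCategory
  CartesianMonoidalCategory MonObj GrpObj

namespace Groth.Agent.Lib.T2H3.MultGa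

open Groth.Agent.Lib.Helper27.GaGm Groth.Agent.Lib.T2H3.MultGaAlg

section Points

variable {T : Scheme.{u}} {M : Type} [AddCommGroup M]

/-- the function on `Y` attached to a point of `D_T(M)` and an element of `ℤ[M]`. -/
noncomputable def dsFn {Y : Over T} (x : Y ⟶ Red.DS T M)
    (b : MonoidAlgebra (ULift.{u} ℤ) (Multiplicative M)) : Γ(Y.left, ⊤) :=
  fn (adjEquiv (Limits.IsTerminal.from specULiftZIsTerminal T) (Red.diag (ULift.{u} ℤ) M) Y x).left b

/-- the underlying morphism to `Spec ℤ[M]`. -/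
noncomputable def dsPt {Y : Over T} (x : Y ⟶ Red.DS T M) :
    Y.left ⟶ Spec (CommRingCat.of (MonoidAlgebra (ULift.{u} ℤ) (Multiplicative M))) :=
  x.left ≫ pullback.fst _ _

lemma dsFn_eq {Y : Over T} (x : Y ⟶ Red.DS T M)
    (b : MonoidAlgebra (ULift.{u} ℤ) (Multiplicative M)) : dsFn x b = fn (dsPt x) b := rfl

theorem dsFn_comp {Y Y' : Over T} (g : Y' ⟶ Y) (x : Y ⟶ Red.DS T M)
    (b : MonoidAlgebra (ULift.{u} ℤ) (Multiplicative M)) :
    dsFn (g ≫ x) b = g.left.appTop (dsFn x b) := by
  rw [dsFn_eq, dsFn_eq, ← fn_comp]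
  unfold dsPt
  rw [Over.comp_left, Category.assoc]

theorem dsFn_mul_single {Y : Over T} (x y : Y ⟶ Red.DS T M) (m : Multiplicative M) :
    dsFn (x * y) (MonoidAlgebra.single m 1) =
      dsFn x (MonoidAlgebra.single m 1) * dsFn y (MonoidAlgebra.single m 1) := by
  unfold dsFn
  rw [adjEquiv_mul]
  refine fn_mul_left_of_grouplike _ _ _ ?_
  simp

lemma monalg_ringHom_ext' {B : Type*} [CommRing B]
    (φ ψ : MonoidAlgebra (ULift.{u} ℤ) (Multiplicative M) →+* B)
    (h : ∀ m : Multiplicative M, φ (MonoidAlgebra.single m 1) = ψ (MonoidAlgebra.single m 1)) :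
    φ = ψ := by
  apply MonoidAlgebra.ringHom_ext'
  · exact ulift_int_ringHom_ext _ _
  · ext m
    exact h m

theorem ds_ext {Y : Over T} {x y : Y ⟶ Red.DS T M}
    (h : ∀ m : Multiplicative M, dsFn x (MonoidAlgebra.single m 1) =
      dsFn y (MonoidAlgebra.single m 1)) : x = y := by
  have h2 : dsPt x = dsPt y := by
    apply fn_ext
    intro a
    exact congrArg (fun k : _ →+* _ => k a)
      (monalg_ringHom_ext' (fnHom (dsPt x)) (fnHom (dsPt y)) h)
  apply (adjEquiv (Limits.IsTerminal.from specULiftZIsTerminal T)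
    (Red.diag (ULift.{u} ℤ) M) Y).injective
  apply Over.OverMorphism.ext
  exact h2

/-- existence of points with prescribed characters. -/
theorem exists_dsPt {Y : Over T}
    (ψ : MonoidAlgebra (ULift.{u} ℤ) (Multiplicative M) →+* Γ(Y.left, ⊤)) :
    ∃ x : Y ⟶ Red.DS T M, ∀ b, dsFn x b = ψ b := by
  obtain ⟨y', hy'⟩ := fn_surj ψ
  refine ⟨(adjEquiv (Limits.IsTerminal.from specULiftZIsTerminal T)
    (Red.diag (ULift.{u} ℤ) M) Y).symm
    (Over.homMk y' (specULiftZIsTerminal.hom_ext _ _)), fun b => ?_⟩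
  unfold dsFn
  rw [Equiv.apply_symm_apply]
  exact hy' b

end Points

section SpecFn

variable {C C' : Type u} [CommRing C] [CommRing C']

/-- an element of `C` as a global function on `Spec C`. -/
noncomputable def toG (c : C) : Γ(Spec (CommRingCat.of C), ⊤) :=
  (Scheme.ΓSpecIso (CommRingCat.of C)).inv c

/-- a global function on `Spec C` as an element of `C`. -/
noncomputable def ofG (s : Γ(Spec (CommRingCat.of C), ⊤)) : C :=
  (Scheme.ΓSpecIso (CommRingCat.of C)).hom s

lemma toG_ofG (s : Γ(Spec (CommRingCat.of C), ⊤)) : toG (ofG s) = s := by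
  unfold toG ofG
  exact congrArg (fun k => k.hom s) (Scheme.ΓSpecIso (CommRingCat.of C)).hom_inv_id

lemma ofG_toG (c : C) : ofG (toG c) = c := by
  unfold toG ofG
  exact congrArg (fun k => k.hom c) (Scheme.ΓSpecIso (CommRingCat.of C)).inv_hom_id

lemma toG_injective : Function.Injective (toG : C → _) := fun c c' h => by
  rw [← ofG_toG c, ← ofG_toG c', h]

lemma toG_add (c c' : C) : toG (c + c') = toG c + toG c' := map_add _ _ _

lemma toG_mul (c c' : C) : toG (c * c') = toG c * toG c' := map_mul _ _ _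

lemma toG_zero : toG (0 : C) = 0 := map_zero _

lemma specMap_appTop_toG (φ : C →+* C') (c : C) :
    (Spec.map (CommRingCat.ofHom φ)).appTop (toG c) = toG (φ c) := by
  unfold toG
  have := Scheme.ΓSpecIso_inv_naturality (CommRingCat.ofHom φ)
  exact (congrArg (fun k => k.hom c) this).symm

end SpecFn

section Affine

variable {T : Scheme.{u}} {M : Type} [AddCommGroup M] {B : Type u} [CommRing B]
  (y : Spec (CommRingCat.of B) ⟶ T)

/-- `Spec C` over `T`, for a `B`-algebra `C`. -/
noncomputable def objB (C : Type u) [CommRing C] [Algebra B C] : Over T :=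
  Over.mk (Spec.map (CommRingCat.ofHom (algebraMap B C)) ≫ y)

/-- the morphism over `T` of a `B`-algebra homomorphism. -/
noncomputable def homB {C C' : Type u} [CommRing C] [CommRing C'] [Algebra B C] [Algebra B C']
    (φ : C →ₐ[B] C') : objB y C' ⟶ objB y C :=
  Over.homMk (Spec.map (CommRingCat.ofHom φ.toRingHom)) (by
    change Spec.map _ ≫ Spec.map _ ≫ y = Spec.map _ ≫ y
    rw [← Category.assoc, ← Spec.map_comp]
    congr 2
    ext b
    exact φ.commutes b)

lemma homB_left {C C' : Type u} [CommRing C] [CommRing C'] [Algebra B C] [Algebra B C']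
    (φ : C →ₐ[B] C') : (homB y φ).left = Spec.map (CommRingCat.ofHom φ.toRingHom) := rfl

/-- the morphism over `T` of a `B`-algebra homomorphism to `B`. -/
noncomputable def homB' {C : Type u} [CommRing C] [Algebra B C]
    (φ : C →ₐ[B] B) : Over.mk y ⟶ objB y C :=
  Over.homMk (Spec.map (CommRingCat.ofHom φ.toRingHom)) (by
    change Spec.map _ ≫ Spec.map _ ≫ y = y
    rw [← Category.assoc, ← Spec.map_comp]
    have : CommRingCat.ofHom (algebraMap B C) ≫ CommRingCat.ofHom φ.toRingHom = 𝟙 _ := by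
      ext b
      exact φ.commutes b
    rw [this, Spec.map_id, Category.id_comp])

lemma homB'_left {C : Type u} [CommRing C] [Algebra B C]
    (φ : C →ₐ[B] B) : (homB' y φ).left = Spec.map (CommRingCat.ofHom φ.toRingHom) := rfl

/-- the universal point of `D_T(M)` over `Spec B[M]`. -/
theorem exists_univ :
    ∃ j : objB y (MonoidAlgebra B (Multiplicative M)) ⟶ Red.DS T M,
      ∀ m : Multiplicative M, dsFn j (MonoidAlgebra.single m 1) =
        toG (MonoidAlgebra.single m (1 : B)) := by
  let f : ULift.{u} ℤ →+* B := (Int.castRingHom B).comp (ULift.ringEquiv.toRingHom)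
  let ψ : MonoidAlgebra (ULift.{u} ℤ) (Multiplicative M) →+*
      Γ((objB y (MonoidAlgebra B (Multiplicative M))).left, ⊤) :=
    ((Scheme.ΓSpecIso (CommRingCat.of (MonoidAlgebra B (Multiplicative M)))).inv.hom).comp
      (MonoidAlgebra.mapRingHom (Multiplicative M) f)
  obtain ⟨j, hj⟩ := exists_dsPt (T := T) (M := M) (Y := objB y (MonoidAlgebra B (Multiplicative M))) ψ
  refine ⟨j, fun m => ?_⟩
  rw [hj]
  change toG (MonoidAlgebra.mapRingHom (Multiplicative M) f (MonoidAlgebra.single m 1)) = _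
  congr 1
  simp [f]

lemma ofG_one {C : Type u} [CommRing C] : ofG (1 : Γ(Spec (CommRingCat.of C), ⊤)) = 1 :=
  map_one (Scheme.ΓSpecIso (CommRingCat.of C)).hom.hom

lemma ofG_mul {C : Type u} [CommRing C] (s s' : Γ(Spec (CommRingCat.of C), ⊤)) :
    ofG (s * s') = ofG s * ofG s' :=
  map_mul (Scheme.ΓSpecIso (CommRingCat.of C)).hom.hom s s'

/-- the universal point is killed by an additive function. -/
theorem univ_vanish (a : Γ((Red.DS T M).left, ⊤))
    (hadd : ∀ (Y : Over T) (x x' : Y ⟶ Red.DS T M),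
      (x * x').left.appTop a = x.left.appTop a + x'.left.appTop a)
    (j : objB y (MonoidAlgebra B (Multiplicative M)) ⟶ Red.DS T M)
    (hj : ∀ m : Multiplicative M, dsFn j (MonoidAlgebra.single m 1) =
        toG (MonoidAlgebra.single m (1 : B))) :
    j.left.appTop a = 0 := by
  let ι₁ : MonoidAlgebra B (Multiplicative M) →ₐ[B]
      MonoidAlgebra B (Multiplicative M × Multiplicative M) :=
    MonoidAlgebra.mapDomainAlgHom B B (MonoidHom.inl (Multiplicative M) (Multiplicative M))
  let ι₂ : MonoidAlgebra B (Multiplicative M) →ₐ[B]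
      MonoidAlgebra B (Multiplicative M × Multiplicative M) :=
    MonoidAlgebra.mapDomainAlgHom B B (MonoidHom.inr (Multiplicative M) (Multiplicative M))
  let δ : MonoidAlgebra B (Multiplicative M) →ₐ[B]
      MonoidAlgebra B (Multiplicative M × Multiplicative M) :=
    MonoidAlgebra.mapDomainAlgHom B B
      (MonoidHom.prod (MonoidHom.id (Multiplicative M)) (MonoidHom.id (Multiplicative M)))
  have hmul : (homB y ι₁ ≫ j) * (homB y ι₂ ≫ j) = homB y δ ≫ j := by
    apply ds_ext
    intro m
    rw [dsFn_mul_single, dsFn_comp, dsFn_comp, dsFn_comp, hj, homB_left, homB_left, homB_left]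
    erw [specMap_appTop_toG, specMap_appTop_toG, specMap_appTop_toG]
    refine (toG_mul _ _).symm.trans (congrArg toG ?_)
    simp [ι₁, ι₂, δ, MonoidAlgebra.single_mul_single]
  have h1 := hadd _ (homB y ι₁ ≫ j) (homB y ι₂ ≫ j)
  rw [hmul] at h1
  simp only [Over.comp_left, Scheme.Hom.comp_appTop, CommRingCat.comp_apply, homB_left] at h1
  have haj : j.left.appTop a = toG (ofG (j.left.appTop a)) := (toG_ofG _).symm
  rw [haj] at h1
  erw [specMap_appTop_toG, specMap_appTop_toG, specMap_appTop_toG] at h1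
  have h2 := toG_injective (h1.trans (toG_add _ _).symm)
  have h3 : ofG (j.left.appTop a) = 0 := eq_zero_of_primitive _ h2
  rw [haj, h3]
  exact toG_zero

lemma dsFn_one {Y : Over T} (x : Y ⟶ Red.DS T M) : dsFn x 1 = 1 := by
  rw [dsFn_eq, fn_eq, map_one]

lemma dsFn_mul {Y : Over T} (x : Y ⟶ Red.DS T M)
    (b b' : MonoidAlgebra (ULift.{u} ℤ) (Multiplicative M)) :
    dsFn x (b * b') = dsFn x b * dsFn x b' := by
  rw [dsFn_eq, dsFn_eq, dsFn_eq, fn_eq, fn_eq, fn_eq, map_mul]

/-- an additive function on `D_T(M)` vanishes on all points with values in affine schemes. -/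
theorem affine_vanish (a : Γ((Red.DS T M).left, ⊤))
    (hadd : ∀ (Y : Over T) (x x' : Y ⟶ Red.DS T M),
      (x * x').left.appTop a = x.left.appTop a + x'.left.appTop a)
    (x : Over.mk y ⟶ Red.DS T M) : x.left.appTop a = 0 := by
  obtain ⟨j, hj⟩ := exists_univ (M := M) y
  have hja := univ_vanish y a hadd j hj
  let χ : Multiplicative M →* B :=
    { toFun := fun m => ofG (dsFn x (MonoidAlgebra.single m 1))
      map_one' := by
        rw [← MonoidAlgebra.one_def, dsFn_one]
        exact ofG_one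
      map_mul' := fun m m' => by
        rw [← ofG_mul, ← dsFn_mul, MonoidAlgebra.single_mul_single, _root_.one_mul] }
  let ε : MonoidAlgebra B (Multiplicative M) →ₐ[B] B := MonoidAlgebra.lift B B (Multiplicative M) χ
  have hx : homB' y ε ≫ j = x := by
    apply ds_ext
    intro m
    rw [dsFn_comp, hj, homB'_left]
    erw [specMap_appTop_toG]
    have : ε.toRingHom (MonoidAlgebra.single m 1) = ofG (dsFn x (MonoidAlgebra.single m 1)) := by
      simp [ε, χ]
    rw [this]
    exact toG_ofG _
  rw [← hx, Over.comp_left, Scheme.Hom.comp_appTop, CommRingCat.comp_apply, hja, map_zero]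

end Affine

section General

variable {T : Scheme.{u}} {M : Type} [AddCommGroup M]

/-- an additive function on `D_T(M)` vanishes on all points with values in affine schemes. -/
theorem affine_vanish' (a : Γ((Red.DS T M).left, ⊤))
    (hadd : ∀ (Y : Over T) (x x' : Y ⟶ Red.DS T M),
      (x * x').left.appTop a = x.left.appTop a + x'.left.appTop a)
    (Y : Over T) [IsAffine Y.left] (x : Y ⟶ Red.DS T M) : x.left.appTop a = 0 := by
  let y : Spec (CommRingCat.of ↑Γ(Y.left, ⊤)) ⟶ T := Y.left.isoSpec.inv ≫ Y.hom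
  let g : Over.mk y ⟶ Y := Over.homMk Y.left.isoSpec.inv rfl
  have h := affine_vanish y a hadd (g ≫ x)
  rw [Over.comp_left, Scheme.Hom.comp_appTop, CommRingCat.comp_apply] at h
  have hinj : Function.Injective g.left.appTop := by
    have : IsIso g.left := inferInstanceAs (IsIso Y.left.isoSpec.inv)
    have : IsIso g.left.appTop := inferInstanceAs (IsIso (g.left.app ⊤))
    exact (ConcreteCategory.bijective_of_isIso g.left.appTop).injective
  apply hinj
  rw [h, map_zero]

/-- an additive function on `D_T(M)` is zero. -/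
theorem additive_eq_zero (a : Γ((Red.DS T M).left, ⊤))
    (hadd : ∀ (Y : Over T) (x x' : Y ⟶ Red.DS T M),
      (x * x').left.appTop a = x.left.appTop a + x'.left.appTop a) : a = 0 := by
  apply Scheme.zero_of_zero_cover a (Red.DS T M).left.affineCover
  intro i
  let Y : Over T := Over.mk ((Red.DS T M).left.affineCover.f i ≫ (Red.DS T M).hom)
  let x : Y ⟶ Red.DS T M := Over.homMk ((Red.DS T M).left.affineCover.f i) rfl
  haveI : IsAffine Y.left := inferInstanceAs (IsAffine ((Red.DS T M).left.affineCover.X i))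
  exact affine_vanish' a hadd Y x

end General

section FlatCover

/-- a global function vanishing on a jointly surjective family of flat morphisms is zero. -/
theorem section_eq_zero_of_flat_cover {X : Scheme.{u}} (s : Γ(X, ⊤))
    (h : ∀ x : X, ∃ (X' : Scheme.{u}) (q : X' ⟶ X) (_ : Flat q) (x' : X'),
      q x' = x ∧ q.appTop s = 0) : s = 0 := by
  apply TopCat.Presheaf.section_ext X.sheaf ⊤ s 0
  intro x hx
  obtain ⟨X', q, hq, x', rfl, hs⟩ := h x
  have h0 : X.presheaf.germ ⊤ (q x') hx s = 0 := by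
    apply Groth.Agent.Lib.T2H3.GenericTorsor.stalkMap_injective_of_flat q x'
    rw [map_zero]
    refine (Scheme.Hom.germ_stalkMap_apply q ⊤ x' hx s).trans ?_
    have hs' : q.app ⊤ s = 0 := hs
    rw [hs', map_zero]
  exact h0.trans (map_zero _).symm

end FlatCover

section Main

/-- **S8392.** every homomorphism from a group of multiplicative type to `𝔾_a` is trivial. -/
theorem hom_multType_Ga_eq_one (S : Scheme.{u}) (H : Over S) [GrpObj H]
    (hH : SGA3x.IsMultTypeFT H) (u : H ⟶ Red.Ga S) [IsMonHom u] : u = 1 := by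
  apply gaFn_injective
  rw [gaFn_one]
  obtain ⟨S', f, hflat, hsurj, -, hloc⟩ := hH
  apply section_eq_zero_of_flat_cover
  intro h
  obtain ⟨s', hs'⟩ := hsurj.surj (H.hom h)
  obtain ⟨U, hsU, M, instM, -, ⟨φ⟩⟩ := hloc s'
  let g : (U : Scheme.{u}) ⟶ S := U.ι ≫ f
  haveI : Flat g := inferInstanceAs (Flat (U.ι ≫ f))
  obtain ⟨z, hz1, hz2⟩ := Scheme.Pullback.exists_preimage_pullback (f := H.hom) (g := g) h
    ⟨s', hsU⟩ hs'.symm
  refine ⟨(Red.bc g H).left, pullback.fst H.hom g, inferInstance, z, hz1, ?_⟩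
  let ψ : Red.DS (U : Scheme.{u}) M ⟶ Red.bc g H := φ.inv.hom.hom
  haveI : IsMonHom ψ := inferInstanceAs (IsMonHom φ.inv.hom.hom)
  have hiso : IsIso ψ := ⟨φ.hom.hom.hom, by
    change φ.inv.hom.hom ≫ φ.hom.hom.hom = _
    rw [← Grp.comp_hom_hom, φ.inv_hom_id]; rfl, by
    change φ.hom.hom.hom ≫ φ.inv.hom.hom = _
    rw [← Grp.comp_hom_hom, φ.hom_inv_id]; rfl⟩
  haveI : IsIso ψ.left := inferInstanceAs (IsIso ((Over.forget _).map ψ))
  let a' : Γ((Red.DS (U : Scheme.{u}) M).left, ⊤) :=
    ψ.left.appTop ((pullback.fst H.hom g).appTop (Red.gaFn u))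
  have ha' : a' = 0 := by
    apply additive_eq_zero
    intro Y x x'
    have key : ∀ w : Y ⟶ Red.DS (U : Scheme.{u}) M,
        w.left.appTop a' = Red.gaFn (adjEquiv g H Y (w ≫ ψ) ≫ u) := by
      intro w
      rw [gaFn_comp, adjEquiv_left, Over.comp_left, Scheme.Hom.comp_appTop,
        Scheme.Hom.comp_appTop]
      rfl
    rw [key, key, key, MonObj.mul_comp, adjEquiv_mul]
    have h5 := MonObj.mul_comp (adjEquiv g H Y (x ≫ ψ)) (adjEquiv g H Y (x' ≫ ψ)) u
    rw [h5, gaFn_mul]
  have hinj : Function.Injective ψ.left.appTop := by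
    have : IsIso ψ.left.appTop := inferInstanceAs (IsIso (ψ.left.app ⊤))
    exact (ConcreteCategory.bijective_of_isIso ψ.left.appTop).injective
  apply hinj
  rw [map_zero]
  exact ha'

end Main

end Groth.Agent.Lib.T2H3.MultGa
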