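import Mathlib
import Groth.Prelude.Def_Red2
import Groth.Agent.Lib.Helper27GaGm
import Groth.Agent.Lib.T2H3MultGa

/-!
# Homomorphisms from `𝔾_a` to `𝔾_m` over a reduced base are trivial
-/

set_option autoImplicit false
set_option linter.style.haveILetI false
universe u

open CategoryTheory CategoryTheory.Limits AlgebraicGeometry MonoidalCategory
  CartesianMonoidalCategory MonObj GrpObj

namespace Groth.Agent.Lib.T2H3.GaGmRed

open Groth.Agent.Lib.Helper27.GaGm Groth.Agent.Lib.T2H3.MultGa

section Psi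

variable {S : Scheme.{u}} (φ : Red.Ga S ⟶ Red.Gm S) [IsMonHom φ]
  {R : Type u} [CommRing R] (y : Spec (CommRingCat.of R) ⟶ S)

/-- the point of `𝔾_a` over `Spec C` attached to `c : C`. -/
noncomputable def pt (C : Type u) [CommRing C] [Algebra R C] (c : C) : objB y C ⟶ Red.Ga S :=
  (gaEquiv (objB y C)).symm (toG c)

lemma gaFn_pt (C : Type u) [CommRing C] [Algebra R C] (c : C) :
    Red.gaFn (pt y C c) = toG c := gaFn_gaEquiv_symm _

/-- the function `C → C` induced by `φ` on `Spec C`-points. -/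
noncomputable def psi (C : Type u) [CommRing C] [Algebra R C] (c : C) : C :=
  ofG (Red.gmFn (pt y C c ≫ φ))

lemma ofG_specMap {C C' : Type u} [CommRing C] [CommRing C'] (h : C →+* C')
    (s : Γ(Spec (CommRingCat.of C), ⊤)) :
    ofG ((Spec.map (CommRingCat.ofHom h)).appTop s) = h (ofG s) := by
  conv_lhs => rw [← toG_ofG s]
  rw [specMap_appTop_toG, ofG_toG]

lemma pt_map {C C' : Type u} [CommRing C] [CommRing C'] [Algebra R C] [Algebra R C']
    (h : C →ₐ[R] C') (c : C) : pt y C' (h c) = homB y h ≫ pt y C c := by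
  apply gaFn_injective
  rw [gaFn_pt, gaFn_comp, gaFn_pt, homB_left]
  exact (specMap_appTop_toG h.toRingHom c).symm

omit [IsMonHom φ] in
lemma psi_map {C C' : Type u} [CommRing C] [CommRing C'] [Algebra R C] [Algebra R C']
    (h : C →ₐ[R] C') (c : C) : psi φ y C' (h c) = h (psi φ y C c) := by
  unfold psi
  rw [pt_map, Category.assoc, gmFn_comp, homB_left]
  exact ofG_specMap h.toRingHom _

lemma gmFn_pt_add (C : Type u) [CommRing C] [Algebra R C] (c c' : C) :
    Red.gmFn (pt y C (c + c') ≫ φ) = Red.gmFn (pt y C c ≫ φ) * Red.gmFn (pt y C c' ≫ φ) := by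
  have h1 : pt y C (c + c') = pt y C c * pt y C c' := by
    apply gaFn_injective
    rw [gaFn_mul, gaFn_pt, gaFn_pt, gaFn_pt]
    exact toG_add c c'
  rw [h1, MonObj.mul_comp (pt y C c) (pt y C c') φ, gmFn_mul]

lemma psi_add (C : Type u) [CommRing C] [Algebra R C] (c c' : C) :
    psi φ y C (c + c') = psi φ y C c * psi φ y C c' :=
  (congrArg ofG (gmFn_pt_add φ y C c c')).trans (ofG_mul _ _)

omit [IsMonHom φ] in
lemma psi_isUnit (C : Type u) [CommRing C] [Algebra R C] (c : C) : IsUnit (psi φ y C c) := by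
  unfold psi
  exact (gmFn_isUnit (pt y C c ≫ φ)).map (Scheme.ΓSpecIso (CommRingCat.of C)).hom.hom

open Polynomial in
theorem psi_eq_one [IsReduced R] (C : Type u) [CommRing C] [Algebra R C] (c : C) :
    psi φ y C c = 1 := by
  set p : R[X] := psi φ y R[X] X with hp
  have hpu : IsUnit p := psi_isUnit φ y _ _
  have hpC : p = Polynomial.C (p.coeff 0) := by
    obtain ⟨-, h2⟩ := Polynomial.coeff_isUnit_isNilpotent_of_isUnit hpu
    ext n
    rcases Nat.eq_zero_or_pos n with rfl | hn
    · simp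
    · rw [Polynomial.coeff_C, if_neg hn.ne']
      exact (h2 n hn.ne').eq_zero
  have hev : ∀ (C' : Type u) [CommRing C'] [Algebra R C'] (c' : C'),
      psi φ y C' c' = algebraMap R C' (p.coeff 0) := by
    intro C' _ _ c'
    have := psi_map φ y (Polynomial.aeval (R := R) c') X
    rw [Polynomial.aeval_X] at this
    rw [this, ← hp, hpC, Polynomial.aeval_C]
    simp
  have h0 : p.coeff 0 = 1 := by
    have h1 := psi_add φ y R 0 0
    rw [add_zero, hev R 0] at h1
    have hu : IsUnit (algebraMap R R (p.coeff 0)) := by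
      rw [← hev R 0]; exact psi_isUnit φ y R 0
    have h2 : algebraMap R R (p.coeff 0) * 1 =
        algebraMap R R (p.coeff 0) * algebraMap R R (p.coeff 0) := by
      rw [_root_.mul_one]; exact h1
    exact (hu.mul_left_cancel h2).symm
  rw [hev, h0, map_one]

theorem comp_eq_one [IsReduced R] (C : Type u) [CommRing C] [Algebra R C]
    (w : objB y C ⟶ Red.Ga S) : w ≫ φ = 1 := by
  have hw : w = pt y C (ofG (Red.gaFn w)) := by
    unfold pt
    rw [toG_ofG]
    exact (gaEquiv_symm_gaFn w).symm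
  apply gmFn_injective
  rw [gmFn_one]
  have h := psi_eq_one φ y C (ofG (Red.gaFn w))
  unfold psi at h
  rw [← hw] at h
  rw [← toG_ofG (Red.gmFn (w ≫ φ)), h]
  exact map_one _

end Psi

section Main

theorem hom_ext_affine {X Y S : Scheme.{u}} (f : X ⟶ S) (a b : X ⟶ Y)
    (h : ∀ (i : S.affineOpenCover.I₀) (C : CommRingCat.{u}) (w : Spec C ⟶ X)
      (g : Spec C ⟶ Spec (S.affineOpenCover.X i)),
      w ≫ f = g ≫ S.affineOpenCover.f i → w ≫ a = w ≫ b) : a = b := by
  refine (S.affineOpenCover.openCover.pullback₁ f).hom_ext (fun i => ?_)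
  refine ((S.affineOpenCover.openCover.pullback₁ f).X i).affineOpenCover.openCover.hom_ext _ _
    (fun j => ?_)
  rw [← Category.assoc, ← Category.assoc]
  refine h i _ _ (((S.affineOpenCover.openCover.pullback₁ f).X i).affineOpenCover.f j ≫
    pullback.snd _ _) ?_
  exact (Category.assoc _ _ _).trans (congrArg (_ ≫ ·) pullback.condition)

/-- **S13371.** -/
theorem hom_Ga_Gm_eq_one (S : Scheme.{u}) [IsReduced S] (φ : Red.Ga S ⟶ Red.Gm S)
    [IsMonHom φ] : φ = 1 := by
  apply Over.OverMorphism.ext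
  refine hom_ext_affine (Red.Ga S).hom _ _ (fun i C w g hw => ?_)
  let R : CommRingCat.{u} := S.affineOpenCover.X i
  let y : Spec (CommRingCat.of R) ⟶ S := S.affineOpenCover.f i
  haveI : IsOpenImmersion y := inferInstanceAs (IsOpenImmersion (S.affineOpenCover.f i))
  haveI : IsReduced (Spec (CommRingCat.of R)) := isReduced_of_isOpenImmersion y
  haveI : _root_.IsReduced R := (affine_isReduced_iff _).mp ‹_›
  let ψ : R ⟶ C := Spec.preimage g
  letI : Algebra R C := ψ.hom.toAlgebra
  have hg : g = Spec.map (CommRingCat.ofHom (algebraMap R C)) := (Spec.map_preimage g).symm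
  let w' : objB y C ⟶ Red.Ga S := Over.homMk w (by
    change w ≫ (Red.Ga S).hom = Spec.map (CommRingCat.ofHom (algebraMap R C)) ≫ y
    rw [hw, hg])
  have h1 := comp_eq_one φ y C w'
  have h2 : w' ≫ (1 : Red.Ga S ⟶ Red.Gm S) = 1 := MonObj.comp_one w'
  have h3 := congrArg (fun k => k.left) (h1.trans h2.symm)
  exact h3

end Main

end Groth.Agent.Lib.T2H3.GaGmRed
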