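import Mathlib
import Groth.Prelude.Def_FEt
import Groth.Agent.Lib.Helper26FEtAffine

/-!
# `π₁(Spec K)` and the absolute Galois group, part A (helper3)

Points of standard covers, the action of `Gal(K̄/K)` on the fibre functor.
-/

set_option autoImplicit false
set_option linter.style.haveILetI false
universe u
open CategoryTheory AlgebraicGeometry
open Groth.Agent.Lib.Helper26.FEtAffine

namespace Groth.Agent.Lib.T2H3.GalPiOne

variable (K : Type u) [Field K]

/-- the geometric point `Spec K̄ → Spec K`. -/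
noncomputable abbrev xi :
    Spec (CommRingCat.of (AlgebraicClosure K)) ⟶ Spec (CommRingCat.of K) :=
  Spec.map (CommRingCat.ofHom (algebraMap K (AlgebraicClosure K)))

/-- the fibre functor. -/
noncomputable abbrev F : FEt.Cat (Spec (CommRingCat.of K)) ⥤ Type u := FEt.fiber (xi K)

variable {K}

/-- `Spec σ`. -/
noncomputable def specAut (σ : AlgebraicClosure K ≃ₐ[K] AlgebraicClosure K) :
    Spec (CommRingCat.of (AlgebraicClosure K)) ⟶ Spec (CommRingCat.of (AlgebraicClosure K)) :=
  Spec.map (CommRingCat.ofHom (σ : AlgebraicClosure K →+* AlgebraicClosure K))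

theorem specAut_comp_xi (σ : AlgebraicClosure K ≃ₐ[K] AlgebraicClosure K) :
    specAut σ ≫ xi K = xi K := by
  unfold specAut xi
  rw [← Spec.map_comp]
  congr 1
  ext a
  exact σ.commutes a

theorem specAut_mul (σ τ : AlgebraicClosure K ≃ₐ[K] AlgebraicClosure K) :
    specAut (σ * τ) = specAut σ ≫ specAut τ := by
  unfold specAut
  rw [← Spec.map_comp]
  rfl

theorem specAut_one : specAut (1 : AlgebraicClosure K ≃ₐ[K] AlgebraicClosure K) = 𝟙 _ := by
  unfold specAut
  exact Spec.map_id _

/-- the action of `σ` on the fibre functor, as a natural transformation. -/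
noncomputable def actHom (σ : AlgebraicClosure K ≃ₐ[K] AlgebraicClosure K) : F K ⟶ F K where
  app Y := TypeCat.ofHom fun s =>
    ⟨specAut σ ≫ s.1, by rw [Category.assoc, s.2, specAut_comp_xi]⟩
  naturality Y Y' f := by
    apply ConcreteCategory.hom_ext
    intro s
    apply Subtype.ext
    exact (Category.assoc _ _ _).symm

theorem actHom_app_val (σ : AlgebraicClosure K ≃ₐ[K] AlgebraicClosure K)
    (Y : FEt.Cat (Spec (CommRingCat.of K))) (s : (F K).obj Y) :
    ((actHom σ).app Y s).1 = specAut σ ≫ s.1 := rfl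

theorem actHom_mul (σ τ : AlgebraicClosure K ≃ₐ[K] AlgebraicClosure K) :
    actHom (σ * τ) = actHom τ ≫ actHom σ := by
  ext Y s
  apply Subtype.ext
  change specAut (σ * τ) ≫ s.1 = specAut σ ≫ (specAut τ ≫ s.1)
  rw [specAut_mul, Category.assoc]

theorem actHom_one : actHom (1 : AlgebraicClosure K ≃ₐ[K] AlgebraicClosure K) = 𝟙 (F K) := by
  ext Y s
  apply Subtype.ext
  change specAut 1 ≫ s.1 = s.1
  rw [specAut_one, Category.id_comp]

/-- the action as an automorphism. -/
noncomputable def act (σ : AlgebraicClosure K ≃ₐ[K] AlgebraicClosure K) : Aut (F K) where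
  hom := actHom σ
  inv := actHom σ⁻¹
  hom_inv_id := by rw [← actHom_mul, inv_mul_cancel, actHom_one]
  inv_hom_id := by rw [← actHom_mul, mul_inv_cancel, actHom_one]

variable (K) in
/-- the homomorphism `Gal(K̄/K) → π₁(Spec K, ξ)`. -/
noncomputable def Phi : (AlgebraicClosure K ≃ₐ[K] AlgebraicClosure K) →* Aut (F K) where
  toFun := act
  map_one' := Aut.ext actHom_one
  map_mul' σ τ := Aut.ext (actHom_mul σ τ)

theorem Phi_hom (σ : AlgebraicClosure K ≃ₐ[K] AlgebraicClosure K) :
    (Phi K σ).hom = actHom σ := rfl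

section Points

variable {B : Type u} [CommRing B] [Algebra K B] [Module.Finite K B] [Algebra.Etale K B]

/-- the point of `std K B` attached to `φ : B → K̄`. -/
noncomputable def pt (φ : B →ₐ[K] AlgebraicClosure K) : (F K).obj (std K B) :=
  ⟨Spec.map (CommRingCat.ofHom φ.toRingHom), by
    change Spec.map _ ≫ Spec.map _ = Spec.map _
    rw [← Spec.map_comp]
    congr 1
    ext a
    exact φ.commutes a⟩

theorem pt_val (φ : B →ₐ[K] AlgebraicClosure K) :
    (pt φ).1 = Spec.map (CommRingCat.ofHom φ.toRingHom) := rfl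

theorem pt_injective {φ ψ : B →ₐ[K] AlgebraicClosure K} (h : pt φ = pt ψ) : φ = ψ := by
  have h1 : Spec.map (CommRingCat.ofHom φ.toRingHom) = Spec.map (CommRingCat.ofHom ψ.toRingHom) :=
    congrArg Subtype.val h
  have h2 := Spec.map_injective h1
  ext b
  exact congrArg (fun t => t.hom b) h2

theorem exists_pt (s : (F K).obj (std K B)) : ∃ φ : B →ₐ[K] AlgebraicClosure K, s = pt φ := by
  let l : Spec (CommRingCat.of (AlgebraicClosure K)) ⟶ Spec (CommRingCat.of B) := s.1
  have hw : l ≫ Spec.map (CommRingCat.ofHom (algebraMap K B)) =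
      Spec.map (CommRingCat.ofHom (algebraMap K (AlgebraicClosure K))) := s.2
  let r : CommRingCat.of B ⟶ CommRingCat.of (AlgebraicClosure K) := Spec.preimage l
  have hr : Spec.map r = l := Spec.map_preimage l
  have hcomm : CommRingCat.ofHom (algebraMap K B) ≫ r =
      CommRingCat.ofHom (algebraMap K (AlgebraicClosure K)) := by
    apply Spec.map_injective
    rw [Spec.map_comp, hr, hw]
  let φ : B →ₐ[K] AlgebraicClosure K :=
    { r.hom with
      commutes' := fun a => by
        have := congrArg (fun t => t.hom a) hcomm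
        exact this }
  refine ⟨φ, Subtype.ext ?_⟩
  exact hr.symm

theorem actHom_pt (σ : AlgebraicClosure K ≃ₐ[K] AlgebraicClosure K)
    (φ : B →ₐ[K] AlgebraicClosure K) :
    (actHom σ).app (std K B) (pt φ) = pt ((σ : AlgebraicClosure K →ₐ[K] AlgebraicClosure K).comp φ) := by
  apply Subtype.ext
  change specAut σ ≫ Spec.map _ = Spec.map _
  unfold specAut
  rw [← Spec.map_comp]
  rfl

theorem map_pt {C : Type u} [CommRing C] [Algebra K C] [Module.Finite K C] [Algebra.Etale K C]
    (g : C →ₐ[K] B) (φ : B →ₐ[K] AlgebraicClosure K) :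
    (F K).map (stdHom K g) (pt φ) = pt (φ.comp g) := by
  apply Subtype.ext
  change Spec.map _ ≫ Spec.map _ = Spec.map _
  rw [← Spec.map_comp]
  rfl

end Points

end Groth.Agent.Lib.T2H3.GalPiOne
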