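import Mathlib
import Groth.Agent.Lib.T2H3GalPiOneA

/-!
# `π₁(Spec K)` and the absolute Galois group, part B (helper3): injectivity
-/

set_option autoImplicit false
set_option linter.style.haveILetI false
universe u
open CategoryTheory AlgebraicGeometry IntermediateField
open Groth.Agent.Lib.Helper26.FEtAffine

namespace Groth.Agent.Lib.T2H3.GalPiOne

variable (K : Type u) [Field K]

theorem etale_of_finite_separable (E : Type u) [Field E] [Algebra K E] [FiniteDimensional K E]
    [Algebra.IsSeparable K E] : Algebra.Etale K E := by
  haveI : Algebra.FormallyEtale K E := Algebra.FormallyEtale.of_isSeparable K E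
  haveI : Algebra.FinitePresentation K E :=
    Algebra.FinitePresentation.of_finiteType.mp inferInstance
  exact ⟨inferInstance, inferInstance⟩

theorem finiteDimensional_adjoin_simple {x : AlgebraicClosure K} (hx : IsSeparable K x) :
    FiniteDimensional K K⟮x⟯ := adjoin.finiteDimensional hx.isIntegral

theorem isSeparable_adjoin_simple {x : AlgebraicClosure K} (hx : IsSeparable K x) :
    Algebra.IsSeparable K K⟮x⟯ :=
  (isSeparable_adjoin_simple_iff_isSeparable K (AlgebraicClosure K)).mpr hx

theorem etale_adjoin_simple {x : AlgebraicClosure K} (hx : IsSeparable K x) :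
    Algebra.Etale K K⟮x⟯ := by
  haveI := finiteDimensional_adjoin_simple K hx
  haveI := isSeparable_adjoin_simple K hx
  exact etale_of_finite_separable K _

variable {K}

theorem eq_one_of_fix_separable (σ : AlgebraicClosure K ≃ₐ[K] AlgebraicClosure K)
    (hfix : ∀ x : AlgebraicClosure K, IsSeparable K x → σ x = x) : σ = 1 := by
  have h1 : (σ : AlgebraicClosure K →+* AlgebraicClosure K).comp
      (algebraMap (separableClosure K (AlgebraicClosure K)) (AlgebraicClosure K)) =
      (RingHom.id (AlgebraicClosure K)).comp
        (algebraMap (separableClosure K (AlgebraicClosure K)) (AlgebraicClosure K)) := by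
    ext x
    exact hfix x.1 (mem_separableClosure_iff.mp x.2)
  have h2 := IsPurelyInseparable.injective_comp_algebraMap
    (separableClosure K (AlgebraicClosure K)) (AlgebraicClosure K) (AlgebraicClosure K) h1
  ext x
  exact congrArg (fun f => f x) h2

theorem Phi_injective : Function.Injective (Phi K) := by
  rw [injective_iff_map_eq_one]
  intro σ hσ
  apply eq_one_of_fix_separable
  intro x hx
  haveI := finiteDimensional_adjoin_simple K hx
  haveI := etale_adjoin_simple K hx
  have h0 : actHom σ = 𝟙 (F K) := by
    rw [← Phi_hom, hσ]
    rfl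
  have h1 : (actHom σ).app (std K K⟮x⟯) (pt K⟮x⟯.val) = pt K⟮x⟯.val := by
    rw [h0]
    rfl
  rw [actHom_pt] at h1
  have h2 := pt_injective h1
  exact congrArg (fun f => f ⟨x, mem_adjoin_simple_self K x⟩) h2

end Groth.Agent.Lib.T2H3.GalPiOne
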