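import Mathlib
import Groth.Agent.Lib.T2H3GalPiOneB

/-!
# `π₁(Spec K)` and the absolute Galois group, part C (helper3): surjectivity
-/

set_option autoImplicit false
set_option linter.style.haveILetI false
universe u
open CategoryTheory AlgebraicGeometry IntermediateField
open Groth.Agent.Lib.Helper26.FEtAffine

namespace Groth.Agent.Lib.T2H3.GalPiOne

variable {K : Type u} [Field K] (η : Aut (F K))

section JJ

variable {B : Type u} [CommRing B] [Algebra K B] [Module.Finite K B] [Algebra.Etale K B]

/-- the permutation of `Hom_K(B, K̄)` induced by `η`. -/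
noncomputable def jj (φ : B →ₐ[K] AlgebraicClosure K) : B →ₐ[K] AlgebraicClosure K :=
  (exists_pt (η.hom.app (std K B) (pt φ))).choose

theorem jj_spec (φ : B →ₐ[K] AlgebraicClosure K) :
    η.hom.app (std K B) (pt φ) = pt (jj η φ) :=
  (exists_pt (η.hom.app (std K B) (pt φ))).choose_spec

theorem jj_comp {C : Type u} [CommRing C] [Algebra K C] [Module.Finite K C] [Algebra.Etale K C]
    (g : C →ₐ[K] B) (φ : B →ₐ[K] AlgebraicClosure K) :
    jj η (φ.comp g) = (jj η φ).comp g := by
  apply pt_injective
  rw [← jj_spec, ← map_pt, ← map_pt, ← jj_spec]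
  exact NatTrans.naturality_apply η.hom (stdHom K g) (pt φ)

end JJ

/-- the value of the glued map at a separable element. -/
noncomputable def fval (x : AlgebraicClosure K) (hx : IsSeparable K x) : AlgebraicClosure K :=
  haveI := finiteDimensional_adjoin_simple K hx
  haveI := etale_adjoin_simple K hx
  jj η K⟮x⟯.val ⟨x, mem_adjoin_simple_self K x⟩

theorem jj_val_apply (E : IntermediateField K (AlgebraicClosure K)) [FiniteDimensional K E]
    [Algebra.Etale K E] (x : AlgebraicClosure K) (hxE : x ∈ E) (hx : IsSeparable K x) :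
    jj η E.val ⟨x, hxE⟩ = fval η x hx := by
  haveI := finiteDimensional_adjoin_simple K hx
  haveI := etale_adjoin_simple K hx
  have hle : K⟮x⟯ ≤ E := adjoin_simple_le_iff.mpr hxE
  have h1 : E.val.comp (inclusion hle) = K⟮x⟯.val := rfl
  have h2 := jj_comp η (inclusion hle) E.val
  rw [h1] at h2
  unfold fval
  rw [h2]
  rfl

theorem exists_common (x y : AlgebraicClosure K) (hx : IsSeparable K x) (hy : IsSeparable K y) :
    ∃ (E : IntermediateField K (AlgebraicClosure K)) (_ : FiniteDimensional K E)
      (_ : Algebra.Etale K E), x ∈ E ∧ y ∈ E := by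
  haveI := finiteDimensional_adjoin_simple K hx
  haveI := finiteDimensional_adjoin_simple K hy
  haveI := isSeparable_adjoin_simple K hx
  haveI := isSeparable_adjoin_simple K hy
  refine ⟨K⟮x⟯ ⊔ K⟮y⟯, inferInstance, etale_of_finite_separable K _, ?_, ?_⟩
  · exact (le_sup_left : K⟮x⟯ ≤ K⟮x⟯ ⊔ K⟮y⟯) (mem_adjoin_simple_self K x)
  · exact (le_sup_right : K⟮y⟯ ≤ K⟮x⟯ ⊔ K⟮y⟯) (mem_adjoin_simple_self K y)

theorem fval_add (x y : AlgebraicClosure K) (hx : IsSeparable K x) (hy : IsSeparable K y)
    (hxy : IsSeparable K (x + y)) : fval η (x + y) hxy = fval η x hx + fval η y hy := by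
  obtain ⟨E, _, _, hxE, hyE⟩ := exists_common x y hx hy
  rw [← jj_val_apply η E x hxE hx, ← jj_val_apply η E y hyE hy,
    ← jj_val_apply η E (x + y) (E.add_mem hxE hyE) hxy, ← map_add]
  rfl

theorem fval_mul (x y : AlgebraicClosure K) (hx : IsSeparable K x) (hy : IsSeparable K y)
    (hxy : IsSeparable K (x * y)) : fval η (x * y) hxy = fval η x hx * fval η y hy := by
  obtain ⟨E, _, _, hxE, hyE⟩ := exists_common x y hx hy
  rw [← jj_val_apply η E x hxE hx, ← jj_val_apply η E y hyE hy,
    ← jj_val_apply η E (x * y) (E.mul_mem hxE hyE) hxy, ← map_mul]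
  rfl

theorem fval_algebraMap (a : K) (ha : IsSeparable K (algebraMap K (AlgebraicClosure K) a)) :
    fval η (algebraMap K (AlgebraicClosure K) a) ha = algebraMap K (AlgebraicClosure K) a := by
  haveI := finiteDimensional_adjoin_simple K ha
  haveI := etale_adjoin_simple K ha
  unfold fval
  have : (⟨algebraMap K (AlgebraicClosure K) a, mem_adjoin_simple_self K _⟩ :
      K⟮algebraMap K (AlgebraicClosure K) a⟯) = algebraMap K _ a := rfl
  rw [this, AlgHom.commutes]

theorem fval_congr {x y : AlgebraicClosure K} (h : x = y) (hx : IsSeparable K x)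
    (hy : IsSeparable K y) : fval η x hx = fval η y hy := by
  subst h
  rfl

theorem fval_one (h : IsSeparable K (1 : AlgebraicClosure K)) : fval η 1 h = 1 := by
  have h1 : IsSeparable K (algebraMap K (AlgebraicClosure K) 1) := by rw [map_one]; exact h
  rw [fval_congr η (map_one (algebraMap K (AlgebraicClosure K))).symm h h1, fval_algebraMap,
    map_one]

theorem fval_zero (h : IsSeparable K (0 : AlgebraicClosure K)) : fval η 0 h = 0 := by
  have h1 : IsSeparable K (algebraMap K (AlgebraicClosure K) 0) := by rw [map_zero]; exact h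
  rw [fval_congr η (map_zero (algebraMap K (AlgebraicClosure K))).symm h h1, fval_algebraMap,
    map_zero]

/-- the glued homomorphism on the separable closure. -/
noncomputable def sig0 : separableClosure K (AlgebraicClosure K) →ₐ[K] AlgebraicClosure K where
  toFun x := fval η x.1 (mem_separableClosure_iff.mp x.2)
  map_one' := fval_one η _
  map_mul' x y := fval_mul η x.1 y.1 _ _ _
  map_zero' := fval_zero η _
  map_add' x y := fval_add η x.1 y.1 _ _ _
  commutes' a := fval_algebraMap η a _

theorem sig0_apply (x : separableClosure K (AlgebraicClosure K)) :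
    sig0 η x = fval η x.1 (mem_separableClosure_iff.mp x.2) := rfl

theorem exists_sigma : ∃ σ : AlgebraicClosure K ≃ₐ[K] AlgebraicClosure K,
    ∀ (x : AlgebraicClosure K) (hx : IsSeparable K x), σ x = fval η x hx := by
  obtain ⟨φ, hφ⟩ := IsAlgClosed.surjective_domRestrict_of_isAlgebraic
    (K := K) (L := separableClosure K (AlgebraicClosure K)) (M := AlgebraicClosure K)
    (E := AlgebraicClosure K) (sig0 η)
  have hbij : Function.Bijective φ := Algebra.IsAlgebraic.algHom_bijective φ
  refine ⟨AlgEquiv.ofBijective φ hbij, fun x hx => ?_⟩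
  have := DFunLike.congr_fun hφ ⟨x, hx⟩
  exact this

end Groth.Agent.Lib.T2H3.GalPiOne
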