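import Mathlib
import Groth.Agent.Lib.T2H3GalPiOneC

/-!
# `π₁(Spec K)` and the absolute Galois group, part D (helper3): the isomorphism
-/

set_option autoImplicit false
set_option linter.style.haveILetI false
universe u
open CategoryTheory AlgebraicGeometry IntermediateField
open Groth.Agent.Lib.Helper26.FEtAffine

namespace Groth.Agent.Lib.T2H3.GalPiOne

variable {K : Type u} [Field K]

section Factor

variable {B : Type u} [CommRing B] [Algebra K B] [Module.Finite K B] [Algebra.Etale K B]

/-- a homomorphism from a finite étale `K`-algebra to `K̄` factors through a finite separable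
subextension. -/
theorem exists_field_factor (φ : B →ₐ[K] AlgebraicClosure K) :
    ∃ (E : IntermediateField K (AlgebraicClosure K)) (_ : FiniteDimensional K E)
      (_ : Algebra.IsSeparable K E) (g : B →ₐ[K] E), E.val.comp g = φ := by
  let E : IntermediateField K (AlgebraicClosure K) := subalgebraEquivIntermediateField φ.range
  have hmem : ∀ b : B, φ b ∈ E := fun b =>
    mem_subalgebraEquivIntermediateField.mpr ⟨b, rfl⟩
  let g : B →ₐ[K] E :=
    { toFun := fun b => ⟨φ b, hmem b⟩
      map_one' := Subtype.ext (map_one φ)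
      map_mul' := fun a b => Subtype.ext (map_mul φ a b)
      map_zero' := Subtype.ext (map_zero φ)
      map_add' := fun a b => Subtype.ext (map_add φ a b)
      commutes' := fun a => Subtype.ext (φ.commutes a) }
  have hg : Function.Surjective g := by
    rintro ⟨e, he⟩
    obtain ⟨b, hb⟩ := mem_subalgebraEquivIntermediateField.mp he
    exact ⟨b, Subtype.ext hb⟩
  haveI hfin : Module.Finite K E := Module.Finite.of_surjective g.toLinearMap hg
  haveI : Algebra.FormallyUnramified K E := Algebra.FormallyUnramified.of_surjective g hg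
  haveI hsep : Algebra.IsSeparable K E := Algebra.FormallyUnramified.isSeparable K E
  exact ⟨E, hfin, hsep, g, rfl⟩

end Factor

variable (η : Aut (F K))

theorem jj_eq {B : Type u} [CommRing B] [Algebra K B] [Module.Finite K B] [Algebra.Etale K B]
    (σ : AlgebraicClosure K ≃ₐ[K] AlgebraicClosure K)
    (hσ : ∀ (x : AlgebraicClosure K) (hx : IsSeparable K x), σ x = fval η x hx)
    (φ : B →ₐ[K] AlgebraicClosure K) :
    jj η φ = (σ : AlgebraicClosure K →ₐ[K] AlgebraicClosure K).comp φ := by
  obtain ⟨E, hfin, hsep, g, hg⟩ := exists_field_factor φ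
  haveI : Algebra.Etale K E := etale_of_finite_separable K E
  rw [← hg, jj_comp]
  ext b
  have hx : IsSeparable K ((g b : E) : AlgebraicClosure K) :=
    isSeparable_of_mem_isSeparable K (AlgebraicClosure K) (g b).2
  change jj η E.val (g b) = σ ((g b : E) : AlgebraicClosure K)
  rw [hσ _ hx, ← jj_val_apply η E _ (g b).2 hx]

theorem Phi_surjective : Function.Surjective (Phi K) := by
  intro η
  obtain ⟨σ, hσ⟩ := exists_sigma η
  refine ⟨σ, ?_⟩
  apply Aut.ext
  rw [Phi_hom]
  apply NatTrans.ext
  funext Y
  apply ConcreteCategory.hom_ext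
  intro s
  obtain ⟨B, _, _, _, _, ⟨e⟩⟩ := exists_iso_std K Y
  have key : ∀ t : (F K).obj (std K B), (actHom σ).app _ t = η.hom.app _ t := by
    intro t
    obtain ⟨φ, rfl⟩ := exists_pt t
    rw [actHom_pt, jj_spec, jj_eq η σ hσ]
  have hs : (F K).map e.inv ((F K).map e.hom s) = s := by
    rw [← Functor.map_comp_apply, e.hom_inv_id, Functor.map_id_apply]
  have h1 : ∀ (α : F K ⟶ F K),
      α.app Y s = (F K).map e.inv (α.app (std K B) ((F K).map e.hom s)) := by
    intro α
    rw [← NatTrans.naturality_apply, hs]
  rw [h1 (actHom σ), h1 η.hom, key]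

variable (K) in
/-- the isomorphism `Gal(K̄/K) ≃* π₁(Spec K, Spec K̄)`. -/
noncomputable def mulEquiv : (AlgebraicClosure K ≃ₐ[K] AlgebraicClosure K) ≃* Aut (F K) :=
  MulEquiv.ofBijective (Phi K) ⟨Phi_injective, Phi_surjective⟩

end Groth.Agent.Lib.T2H3.GalPiOne
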