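import Mathlib
import Groth.Agent.Lib.T2H3GaloisAlg
/-!
# Power bases of Galois algebras from a separating element (helper3)

In the situation of `T2H3GaloisAlg` (`Φ` injective), if `t : B` is such that the conjugates
`σ_g t` differ pairwise by units and `|G| = n`, then `1, t, …, t^(n-1)` is an `A`-basis of `B`
(`coeffs_eq_zero`, `exists_coeffs`).
-/
set_option autoImplicit false
set_option linter.style.haveILetI false
set_option linter.unusedSectionVars false
universe u v
open TensorProduct

namespace Groth.Agent.Lib.T2H3.GaloisAlg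

variable {A B : Type u} [CommRing A] [CommRing B] [Algebra A B]
variable {G : Type v} [Group G] [Fintype G] [DecidableEq G]
variable (σ : G → (B →ₐ[A] B))

theorem isUnit_vandermonde_conj (t : B) (hunit : ∀ g g', g ≠ g' → IsUnit (σ g t - σ g' t))
    {n : ℕ} (e : Fin n ≃ G) :
    IsUnit (Matrix.vandermonde (fun i : Fin n => σ (e i) t)) := by
  rw [Matrix.isUnit_iff_isUnit_det, Matrix.det_vandermonde, IsUnit.prod_univ_iff]
  intro i
  rw [IsUnit.prod_iff]
  intro j hj
  rw [Finset.mem_Ioi] at hj
  apply hunit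
  intro h
  exact absurd (e.injective h) (ne_of_gt hj)

theorem coeffs_eq_zero [Module.FaithfullyFlat A B] (t : B)
    (hunit : ∀ g g', g ≠ g' → IsUnit (σ g t - σ g' t)) {n : ℕ} (hn : Fintype.card G = n)
    (c : Fin n → A) (hc : ∑ j : Fin n, algebraMap A B (c j) * t ^ (j : ℕ) = 0) : c = 0 := by
  have hinjAB : Function.Injective (algebraMap A B) := FaithfulSMul.algebraMap_injective A B
  let e : Fin n ≃ G := (Fintype.equivFinOfCardEq hn).symm
  have hV := isUnit_vandermonde_conj σ t hunit e
  have h0 : (fun j : Fin n => algebraMap A B (c j)) = 0 := by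
    apply Matrix.mulVec_injective_of_isUnit hV
    ext i
    rw [Matrix.mulVec_zero, Pi.zero_apply]
    simp only [Matrix.mulVec, dotProduct, Matrix.vandermonde_apply]
    have := congrArg (σ (e i)) hc
    rw [map_zero, map_sum] at this
    rw [← this]
    refine Finset.sum_congr rfl (fun j _ => ?_)
    rw [map_mul, map_pow, AlgHom.commutes, mul_comm]
  ext j
  apply hinjAB
  rw [Pi.zero_apply, map_zero]
  exact congrFun h0 j

theorem exists_coeffs [Module.FaithfullyFlat A B] (hinj : Function.Injective (Φ σ))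
    (hσmul : ∀ g h, σ (g * h) = (σ h).comp (σ g)) (hσ1 : σ 1 = AlgHom.id A B) (t : B)
    (hunit : ∀ g g', g ≠ g' → IsUnit (σ g t - σ g' t)) {n : ℕ} (hn : Fintype.card G = n)
    (y : B) : ∃ c : Fin n → A, ∑ j : Fin n, algebraMap A B (c j) * t ^ (j : ℕ) = y := by
  let e : Fin n ≃ G := (Fintype.equivFinOfCardEq hn).symm
  have hV := isUnit_vandermonde_conj σ t hunit e
  obtain ⟨w, hw⟩ := (Matrix.mulVec_surjective_iff_isUnit.mpr hV) (fun i : Fin n => σ (e i) y)
  have hwrow : ∀ g : G, ∑ j : Fin n, (σ g t) ^ (j : ℕ) * w j = σ g y := by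
    intro g
    have := congrFun hw (e.symm g)
    simp only [Matrix.mulVec, dotProduct, Matrix.vandermonde_apply, Equiv.apply_symm_apply] at this
    exact this
  have hcomp : ∀ (k g : G) (z : B), σ k (σ g z) = σ (g * k) z := fun k g z => by
    rw [hσmul]; rfl
  have hwfix : ∀ k : G, (fun j => σ k (w j)) = w := by
    intro k
    apply Matrix.mulVec_injective_of_isUnit hV
    rw [hw]
    ext i
    simp only [Matrix.mulVec, dotProduct, Matrix.vandermonde_apply]
    have := congrArg (σ k) (hwrow (e i * k⁻¹))
    rw [map_sum, hcomp, inv_mul_cancel_right] at this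
    rw [← this]
    refine Finset.sum_congr rfl (fun j _ => ?_)
    rw [map_mul, map_pow, hcomp, inv_mul_cancel_right]
  have hwA : ∀ j : Fin n, ∃ c : A, algebraMap A B c = w j := by
    intro j
    apply exists_of_fixed σ hinj
    intro g
    exact congrFun (hwfix g) j
  choose c hc using hwA
  refine ⟨c, ?_⟩
  have h0 := hwrow 1
  rw [hσ1] at h0
  rw [← show (AlgHom.id A B) y = y from rfl, ← h0]
  refine Finset.sum_congr rfl (fun j _ => ?_)
  rw [hc, mul_comm]; rfl

end Groth.Agent.Lib.T2H3.GaloisAlg
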