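import Mathlib
import Groth.Agent.Lib.T2H3GenEtale

/-!
# Generic étaleness for dominant morphisms of integral schemes (T2H3)
-/

set_option autoImplicit false
set_option linter.style.haveILetI false
universe u
open CategoryTheory CategoryTheory.Limits AlgebraicGeometry TopologicalSpace

namespace Groth.Agent.Lib.T2H3.GenEtale2

/-- If `L/K` is a finite separable extension of the fraction fields of `A → B` (with `B` a domain
of finite presentation over `A`), then `B_b` is étale over `A` for some `b ≠ 0`. -/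
theorem exists_away_etale (A B K L : Type u) [CommRing A] [CommRing B] [IsDomain B]
    [Algebra A B] [Algebra.FinitePresentation A B] [Field K] [Field L] [Algebra A K]
    [IsFractionRing A K] [Algebra B L] [IsFractionRing B L] [Algebra K L] [Algebra A L]
    [IsScalarTower A K L] [IsScalarTower A B L] [Algebra.IsSeparable K L] :
    ∃ b : B, b ≠ 0 ∧ Algebra.Etale A (Localization.Away b) := by
  have h1 : Algebra.FormallyEtale A K :=
    Algebra.FormallyEtale.of_isLocalization (nonZeroDivisors A)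
  have h2 : Algebra.FormallyEtale K L := Algebra.FormallyEtale.of_isSeparable K L
  have h3 : Algebra.FormallyEtale A L := Algebra.FormallyEtale.comp A K L
  have : IsLocalization (nonZeroDivisors B) (Localization.AtPrime (⊥ : Ideal B)) := by
    rw [← Ideal.primeCompl_bot]
    exact Localization.isLocalization
  let e : L ≃ₐ[B] Localization.AtPrime (⊥ : Ideal B) :=
    IsLocalization.algEquiv (nonZeroDivisors B) L (Localization.AtPrime (⊥ : Ideal B))
  have : Algebra.IsEtaleAt A (⊥ : Ideal B) :=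
    Algebra.FormallyEtale.of_equiv (e.restrictScalars A)
  obtain ⟨b, hb, H⟩ := Algebra.exists_etale_of_isEtaleAt (R := A) (⊥ : Ideal B)
  exact ⟨b, fun h => hb (by simp [h]), H⟩

/-- If `Γ(Y, V) → Γ(X, U)` is étale for affine opens `U ≤ f⁻¹ V`, then `U.ι ≫ f` is étale. -/
theorem etale_ι_comp_of_appLE {X Y : Scheme.{u}} (f : X ⟶ Y) (V : Y.Opens)
    (hV : IsAffineOpen V) (U : X.Opens) (hU : IsAffineOpen U) (e : U ≤ f ⁻¹ᵁ V)
    (h : (f.appLE V U e).hom.Etale) : Etale (U.ι ≫ f) := by
  have : IsAffine U := hU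
  have : IsAffine V := hV
  have h1 : Etale (f.resLE V U e) := by
    rw [HasRingHomProperty.iff_of_isAffine (P := @Etale)]
    have : (RingHom.toMorphismProperty RingHom.Etale).RespectsIso :=
      RingHom.toMorphismProperty_respectsIso_iff.mp RingHom.Etale.respectsIso
    exact (MorphismProperty.arrow_mk_iso_iff
      (RingHom.toMorphismProperty RingHom.Etale) (arrowResLEAppIso f V U e)).mpr h
  rw [← Scheme.Hom.resLE_comp_ι f e]
  exact MorphismProperty.comp_mem _ _ _ h1 inferInstance

/-- If `Γ(Y, V) → Γ(X, W)_b` is étale, then `D(b) → Y` is étale. -/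
theorem etale_basicOpen_ι_comp {X Y : Scheme.{u}} (φ : X ⟶ Y) (V : Y.Opens)
    (hV : IsAffineOpen V) (W : X.Opens) (hW : IsAffineOpen W) (hWV : W ≤ φ ⁻¹ᵁ V) (b : Γ(X, W))
    (H : letI : Algebra Γ(Y, V) Γ(X, W) := (φ.appLE V W hWV).hom.toAlgebra
      Algebra.Etale Γ(Y, V) (Localization.Away b)) :
    Etale ((X.basicOpen b).ι ≫ φ) := by
  letI algAB : Algebra Γ(Y, V) Γ(X, W) := (φ.appLE V W hWV).hom.toAlgebra
  apply etale_ι_comp_of_appLE φ V hV
    (X.basicOpen b) (hW.basicOpen b) ((X.basicOpen_le b).trans hWV)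
  rw [← φ.appLE_map hWV (homOfLE (X.basicOpen_le b)).op, CommRingCat.hom_comp]
  haveI : IsLocalization.Away b Γ(X, X.basicOpen b) := hW.isLocalization_basicOpen b
  letI : Algebra Γ(Y, V) Γ(X, X.basicOpen b) :=
    ((algebraMap Γ(X, W) Γ(X, X.basicOpen b)).comp (algebraMap Γ(Y, V) Γ(X, W))).toAlgebra
  haveI : IsScalarTower Γ(Y, V) Γ(X, W) Γ(X, X.basicOpen b) :=
    IsScalarTower.of_algebraMap_eq' rfl
  let e' : Localization.Away b ≃ₐ[Γ(X, W)] Γ(X, X.basicOpen b) :=
    IsLocalization.algEquiv (Submonoid.powers b) _ _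
  have hfin' : Algebra.Etale Γ(Y, V) Γ(X, X.basicOpen b) :=
    Algebra.Etale.of_equiv (e'.restrictScalars Γ(Y, V))
  exact hfin'

end Groth.Agent.Lib.T2H3.GenEtale2
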