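import Groth.Agent.Lib.T2H3TorsorSeq
import Groth.Agent.Lib.Helper12PseudoTorsor

/-!
# Lifting points along an equivariant map of torsors, over a locus where the group map is bijective

`exists_lift_of_bij`: `g : G ⟶ G'` a homomorphism of `S`-groups which is bijective on `T`-points for
all `T` over a fixed `T₀`; `f : P ⟶ P'` a `g`-equivariant morphism from a (locally trivial) `G`-torsor
to a `G'`-pseudo-torsor.  Then every `T₀`-point of `P'` lifts (uniquely) to `P`.

`bij_of_isIso_pullback`: the bijectivity hypothesis for `T₀ = Over.mk j` when the base change of `g`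
along `j` is an isomorphism.
-/

set_option autoImplicit false
set_option linter.style.haveILetI false
universe u

open CategoryTheory MonoidalCategory CartesianMonoidalCategory MonObj GrpObj AlgebraicGeometry Limits

namespace Groth.Agent.Lib.T2H3.GenericIso

open Groth.Agent.Lib.T2H3.ExactDescent Groth.Agent.Lib.T2H3.TorsorSeq Groth.Agent.Lib.Helper12
  Groth.Agent.Lib.Helper12.PseudoTorsor

variable {S : Scheme.{u}} {J : GrothendieckTopology Scheme.{u}} [J.Subcanonical]
  {G G' : Over S} [GrpObj G] [GrpObj G'] (g : G ⟶ G') [IsMonHom g]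

theorem exists_lift_of_bij {Kp : Precoverage Scheme.{u}} (hK : Kp.toGrothendieck ≤ J)
    (T₀ : Over S)
    (hbij : ∀ (T : Over S) (_ : T ⟶ T₀) (d' : T ⟶ G'), ∃! c : T ⟶ G, c ≫ g = d')
    {P P' : Over S} (a : AlgGrp.Action G P) (a' : AlgGrp.Action G' P')
    (hps : NonAbH1.IsPseudoTorsorSch a) (hps' : NonAbH1.IsPseudoTorsorSch a')
    (hloc : NonAbH1.IsLocallyTrivialFor Kp P)
    (f : P ⟶ P') (hf : a.act ≫ f = lift (fst G P ≫ g) (snd G P ≫ f) ≫ a'.act)
    (t' : T₀ ⟶ P') : ∃ ψ : T₀ ⟶ P, ψ ≫ f = t' := by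
  have hf_pt : ∀ (T : Over S) (c : T ⟶ G) (p : T ⟶ P),
      (lift c p ≫ a.act) ≫ f = lift (c ≫ g) (p ≫ f) ≫ a'.act := by
    intro T c p
    rw [Category.assoc, hf, ← Category.assoc]
    congr 1
    apply CartesianMonoidalCategory.hom_ext <;> simp
  have hone : ∀ T : Over S, (1 : T ⟶ G) ≫ g = 1 := by
    intro T
    simp [Hom.one_def, IsMonHom.one_hom]
  have hinj : ∀ (T : Over S) (_ : T ⟶ T₀) (p₁ p₂ : T ⟶ P), p₁ ≫ f = p₂ ≫ f → p₁ = p₂ := by
    intro T τ p₁ p₂ h
    have h1 : lift (lift p₂ p₁ ≫ diff a hps) p₁ ≫ a.act = p₂ := diff_act a hps p₂ p₁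
    have h2 : lift ((lift p₂ p₁ ≫ diff a hps) ≫ g) (p₁ ≫ f) ≫ a'.act = p₂ ≫ f := by
      rw [← hf_pt, h1]
    have h3 : (lift p₂ p₁ ≫ diff a hps) ≫ g = lift (p₂ ≫ f) (p₁ ≫ f) ≫ diff a' hps' :=
      diff_unique a' hps' _ _ _ h2
    rw [← h, diff_self] at h3
    have h4 : lift p₂ p₁ ≫ diff a hps = 1 := (hbij T τ 1).unique h3 (hone T)
    rw [← h1, h4, act_one]
  obtain ⟨c, hc, -⟩ := hbij (T₀ ⊗ P) (fst T₀ P)
    (lift (fst T₀ P ≫ t') (snd T₀ P ≫ f) ≫ diff a' hps')
  have hφf : (lift c (snd T₀ P) ≫ a.act) ≫ f = fst T₀ P ≫ t' := by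
    rw [hf_pt, hc, diff_act]
  have hc : IsCov J (fst T₀ P) := isCov_fst hK T₀ P hloc
  obtain ⟨ψ, hψ⟩ := hc.exists_desc (lift c (snd T₀ P) ≫ a.act) (by
    intro T x y hxy
    apply hinj T (x ≫ fst T₀ P)
    rw [Category.assoc x, Category.assoc y, hφf, ← Category.assoc, ← Category.assoc, hxy])
  refine ⟨ψ, ?_⟩
  haveI := hc.epi
  rw [← cancel_epi (fst T₀ P), ← Category.assoc, hψ, hφf]

omit [J.Subcanonical] [IsMonHom g] [GrpObj G] [GrpObj G'] in
theorem bij_of_isIso_pullback {K₀ : Scheme.{u}} (j : K₀ ⟶ S)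
    (hg : IsIso ((Over.pullback j).map g)) (T : Over S) (τ : T ⟶ Over.mk j) (d' : T ⟶ G') :
    ∃! c : T ⟶ G, c ≫ g = d' := by
  set m := ((Over.pullback j).map g).left with hm
  haveI : IsIso m := inferInstanceAs (IsIso ((Over.forget _).map ((Over.pullback j).map g)))
  have hm1 : m ≫ pullback.fst G'.hom j = pullback.fst G.hom j ≫ g.left := by
    rw [hm]
    exact pullback.lift_fst _ _ _
  have hm2 : m ≫ pullback.snd G'.hom j = pullback.snd G.hom j := by
    rw [hm]
    exact pullback.lift_snd _ _ _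
  have hτ : τ.left ≫ j = T.hom := Over.w τ
  have hinj : ∀ c₁ c₂ : T ⟶ G, c₁ ≫ g = c₂ ≫ g → c₁ = c₂ := by
    intro c₁ c₂ h
    have hv : ∀ c : T ⟶ G, c.left ≫ G.hom = τ.left ≫ j := fun c => by rw [Over.w c, hτ]
    have h1 : pullback.lift c₁.left τ.left (hv c₁) ≫ m = pullback.lift c₂.left τ.left (hv c₂) ≫ m := by
      apply pullback.hom_ext
      · simp only [Category.assoc, hm1, pullback.lift_fst_assoc]
        exact congrArg (fun k => k.left) h
      · simp only [Category.assoc, hm2, pullback.lift_snd]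
    have h2 := (cancel_mono m).mp h1
    apply Over.OverMorphism.ext
    have := congrArg (fun k => k ≫ pullback.fst G.hom j) h2
    simp only [pullback.lift_fst] at this
    exact this
  have hd' : d'.left ≫ G'.hom = τ.left ≫ j := by rw [Over.w d', hτ]
  refine ⟨Over.homMk (pullback.lift d'.left τ.left hd' ≫ inv m ≫ pullback.fst G.hom j) ?_, ?_,
    fun c₂ h₂ => hinj _ _ ?_⟩
  · have h1 : inv m ≫ pullback.snd G.hom j = pullback.snd G'.hom j := by
      rw [IsIso.inv_comp_eq, hm2]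
    rw [Category.assoc, Category.assoc, pullback.condition, reassoc_of% h1, pullback.lift_snd_assoc,
      hτ]
  · apply Over.OverMorphism.ext
    simp only [Over.comp_left, Over.homMk_left, Category.assoc]
    rw [← hm1, IsIso.inv_hom_id_assoc, pullback.lift_fst]
  · rw [h₂]
    apply Over.OverMorphism.ext
    simp only [Over.comp_left, Over.homMk_left, Category.assoc]
    rw [← hm1, IsIso.inv_hom_id_assoc, pullback.lift_fst]

end Groth.Agent.Lib.T2H3.GenericIso
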