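import Mathlib
import Groth.Agent.Lib.T2H3CommWords
import Groth.Agent.Lib.T2H3DensityExt
import Groth.Agent.Lib.T2H3SchClosure

/-!
# Commutator identities pass from the generic fibre to the whole group

For a flat separated group `G` over `S` and a quasi-compact scheme-theoretically dominant
`f : S' ⟶ S`, an iterated-commutator identity valid on all points of `f^* G` is valid on all points
of `G`: every iterated commutator of points of `G` is the pull back of a *universal* one with values
in a flat `S`-scheme (a product of copies of `G`), and morphisms from a flat scheme to a separated one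
are determined by their restriction along `f`.
-/

set_option autoImplicit false
universe u
open CategoryTheory MonoidalCategory CartesianMonoidalCategory MonObj GrpObj AlgebraicGeometry
  CategoryTheory.Limits
open scoped commutatorElement

namespace Groth.Agent.Lib.T2H3.GenericWords

open Groth.Agent.Lib.T2H3.CommWords Groth.Agent.Lib.T2H3.DensityExt
  Groth.Agent.Lib.T2H3.SchClosure Groth.Agent.Lib.Helper27.GaGm

variable {S : Scheme.{u}} (G : Over S) [GrpObj G]

/-- precomposition, as a group homomorphism. -/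
def precompHom {X Y : Over S} (φ : X ⟶ Y) : (Y ⟶ G) →* (X ⟶ G) where
  toFun x := φ ≫ x
  map_one' := MonObj.comp_one φ
  map_mul' := MonObj.comp_mul φ

@[simp] lemma precompHom_apply {X Y : Over S} (φ : X ⟶ Y) (x : Y ⟶ G) :
    precompHom G φ x = φ ≫ x := rfl

lemma flat_tensor (Y₁ Y₂ : Over S) [Flat Y₁.hom] [Flat Y₂.hom] : Flat (Y₁ ⊗ Y₂).hom := by
  rw [Over.tensorObj_hom]; infer_instance

/-- every `n`-fold derived commutator of points of `G` is a pull-back of one with values in a flat
`S`-scheme. -/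
theorem exists_universal_dW [Flat G.hom] (n : ℕ) :
    ∀ (X : Over S) (z : X ⟶ G), z ∈ dW (X ⟶ G) n →
      ∃ (Y : Over S) (_ : Flat Y.hom) (φ : X ⟶ Y) (x : Y ⟶ G), x ∈ dW (Y ⟶ G) n ∧ φ ≫ x = z := by
  induction n with
  | zero =>
    intro X z _
    exact ⟨G, inferInstance, z, 𝟙 G, trivial, Category.comp_id z⟩
  | succ n ih =>
    rintro X _ ⟨a, ha, b, hb, rfl⟩
    obtain ⟨Ya, hYa, φa, xa, hxa, rfl⟩ := ih X a ha
    obtain ⟨Yb, hYb, φb, xb, hxb, rfl⟩ := ih X b hb
    refine ⟨Ya ⊗ Yb, flat_tensor Ya Yb, lift φa φb, ⁅fst Ya Yb ≫ xa, snd Ya Yb ≫ xb⁆,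
      ⟨fst Ya Yb ≫ xa, map_mem_dW (precompHom G (fst Ya Yb)) n hxa,
        snd Ya Yb ≫ xb, map_mem_dW (precompHom G (snd Ya Yb)) n hxb, rfl⟩, ?_⟩
    have := map_commutatorElement (precompHom G (lift φa φb)) (fst Ya Yb ≫ xa) (snd Ya Yb ≫ xb)
    simp only [precompHom_apply, lift_fst_assoc, lift_snd_assoc] at this
    exact this

/-- every `n`-fold lower-central commutator of points of `G` is a pull-back of one with values in a
flat `S`-scheme. -/
theorem exists_universal_cW [Flat G.hom] (n : ℕ) :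
    ∀ (X : Over S) (z : X ⟶ G), z ∈ cW (X ⟶ G) n →
      ∃ (Y : Over S) (_ : Flat Y.hom) (φ : X ⟶ Y) (x : Y ⟶ G), x ∈ cW (Y ⟶ G) n ∧ φ ≫ x = z := by
  induction n with
  | zero =>
    intro X z _
    exact ⟨G, inferInstance, z, 𝟙 G, trivial, Category.comp_id z⟩
  | succ n ih =>
    rintro X _ ⟨a, ha, b, -, rfl⟩
    obtain ⟨Ya, hYa, φa, xa, hxa, rfl⟩ := ih X a ha
    refine ⟨Ya ⊗ G, flat_tensor Ya G, lift φa b, ⁅fst Ya G ≫ xa, snd Ya G⁆,
      ⟨fst Ya G ≫ xa, map_mem_cW (precompHom G (fst Ya G)) n hxa,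
        snd Ya G, trivial, rfl⟩, ?_⟩
    have := map_commutatorElement (precompHom G (lift φa b)) (fst Ya G ≫ xa) (snd Ya G)
    simp only [precompHom_apply, lift_fst_assoc, lift_snd] at this
    exact this

variable {S' : Scheme.{u}} (f : S' ⟶ S)

/-- base change of points, as a group homomorphism. -/
noncomputable def bcHom (Y : Over S) : (Y ⟶ G) →* ((Over.pullback f).obj Y ⟶ Red.bc f G) :=
  (Over.pullback f).homMonoidHom

lemma bcHom_apply (Y : Over S) (x : Y ⟶ G) : bcHom G f Y x = (Over.pullback f).map x := rfl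

lemma bcHom_injective [QuasiCompact f] [IsSchemeTheoreticallyDominant f] [IsSeparated G.hom]
    (Y : Over S) [Flat Y.hom] : Function.Injective (bcHom G f Y) :=
  fun a b h => over_ext f a b h

/-- solvability of class `n` passes from the generic fibre to `G`. -/
theorem derivedSeries_eq_bot_of_generic [QuasiCompact f] [IsSchemeTheoreticallyDominant f]
    [Flat G.hom] [IsSeparated G.hom] (n : ℕ)
    (h : ∀ X' : Over S', derivedSeries (X' ⟶ Red.bc f G) n = ⊥) (X : Over S) :
    derivedSeries (X ⟶ G) n = ⊥ := by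
  rw [derivedSeries_eq_bot_iff]
  intro z hz
  obtain ⟨Y, hY, φ, x, hx, rfl⟩ := exists_universal_dW G n X z hz
  have h1 : bcHom G f Y x = 1 :=
    (derivedSeries_eq_bot_iff n).mp (h _) _ (map_mem_dW (bcHom G f Y) n hx)
  have h2 : x = 1 := bcHom_injective G f Y (h1.trans (map_one _).symm)
  rw [h2]
  exact MonObj.comp_one φ

/-- nilpotency of class `n` passes from the generic fibre to `G`. -/
theorem lowerCentralSeries_eq_bot_of_generic [QuasiCompact f] [IsSchemeTheoreticallyDominant f]
    [Flat G.hom] [IsSeparated G.hom] (n : ℕ)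
    (h : ∀ X' : Over S', (⊤ : Subgroup (X' ⟶ Red.bc f G)).lowerCentralSeries n = ⊥) (X : Over S) :
    (⊤ : Subgroup (X ⟶ G)).lowerCentralSeries n = ⊥ := by
  rw [lowerCentralSeries_eq_bot_iff]
  intro z hz
  obtain ⟨Y, hY, φ, x, hx, rfl⟩ := exists_universal_cW G n X z hz
  have h1 : bcHom G f Y x = 1 :=
    (lowerCentralSeries_eq_bot_iff n).mp (h _) _ (map_mem_cW (bcHom G f Y) n hx)
  have h2 : x = 1 := bcHom_injective G f Y (h1.trans (map_one _).symm)
  rw [h2]
  exact MonObj.comp_one φ

/-- solvability of class `n` passes to every base change. -/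
theorem derivedSeries_eq_bot_bc (n : ℕ) (h : ∀ X : Over S, derivedSeries (X ⟶ G) n = ⊥)
    (X' : Over S') : derivedSeries (X' ⟶ Red.bc f G) n = ⊥ := by
  rw [derivedSeries_eq_bot_iff]
  intro z hz
  have h1 : adjMulEquiv f G X' z = 1 :=
    (derivedSeries_eq_bot_iff n).mp (h _) _ (map_mem_dW (adjMulEquiv f G X').toMonoidHom n hz)
  exact (adjMulEquiv f G X').injective (h1.trans (map_one _).symm)

/-- nilpotency of class `n` passes to every base change. -/
theorem lowerCentralSeries_eq_bot_bc (n : ℕ)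
    (h : ∀ X : Over S, (⊤ : Subgroup (X ⟶ G)).lowerCentralSeries n = ⊥)
    (X' : Over S') : (⊤ : Subgroup (X' ⟶ Red.bc f G)).lowerCentralSeries n = ⊥ := by
  rw [lowerCentralSeries_eq_bot_iff]
  intro z hz
  have h1 : adjMulEquiv f G X' z = 1 :=
    (lowerCentralSeries_eq_bot_iff n).mp (h _) _ (map_mem_cW (adjMulEquiv f G X').toMonoidHom n hz)
  exact (adjMulEquiv f G X').injective (h1.trans (map_one _).symm)

end Groth.Agent.Lib.T2H3.GenericWords
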