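import Groth.Agent.Lib.T2H3GrAinvA
import Mathlib.RingTheory.Regular.RegularSequence

/-! The a-invariant modulo a homogeneous regular sequence: the module version of the step
`M ↦ M/xM`, invariance under graded isomorphisms, and the induction (helper3). -/

set_option autoImplicit false
set_option linter.unusedSectionVars false
set_option linter.style.haveILetI false
open DirectSum

namespace Groth.Agent.Lib.T2H3.GrAinv

open GrLC Groth.Agent.Lib.T2H3.GrArt Groth.Agent.Lib.T2H3.GrDim Groth.Agent.Lib.T2H3.GrLes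
  Groth.Agent.Lib.T2H3.GrIrr Groth.Agent.Lib.Helper29GrQuot Groth.Agent.Lib.Helper29GrHom

universe u

variable {R : Type u} [CommRing R] {𝒜 : ℤ → AddSubgroup R} [GradedRing 𝒜]
variable {M : Type u} [AddCommGroup M] [Module R M] {ℳ : ℤ → AddSubgroup M}
  [DirectSum.Decomposition ℳ] [SetLike.GradedSMul 𝒜 ℳ]
variable {N : Type u} [AddCommGroup N] [Module R N] {𝒩 : ℤ → AddSubgroup N}
  [DirectSum.Decomposition 𝒩] [SetLike.GradedSMul 𝒜 𝒩]

theorem endDeg_congr {A B : Type u} [AddCommGroup A] [AddCommGroup B] {𝓐 : ℤ → AddSubgroup A}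
    {𝓑 : ℤ → AddSubgroup B} (h : ∀ n, 𝓐 n = ⊥ ↔ 𝓑 n = ⊥) : endDeg 𝓐 = endDeg 𝓑 := by
  unfold endDeg
  refine iSup_congr fun n => ?_
  have : (𝓐 n ≠ ⊥) = (𝓑 n ≠ ⊥) := propext (not_congr (h n))
  rw [this]

theorem forall_eq_zero_of_forall_homogeneous (E : StarInjRes 𝒜 ℳ) (a : HomogeneousIdeal 𝒜)
    (i : ℕ) (h : ∀ (g : ℤ) (y : E.H a i), y ∈ E.Hcomp a i g → y = 0) :
    ∀ y : E.H a i, y = 0 := by
  letI := HgrDecomposition E a i
  intro y
  induction y using DirectSum.Decomposition.inductionOn (E.Hgr a i) with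
  | zero => rfl
  | homogeneous y => exact h _ y.1 y.2
  | add y z hy hz => rw [hy, hz, add_zero]

/-- The step `M ↦ M/xM`. -/
theorem step (m : HomogeneousIdeal 𝒜) (E : StarInjRes 𝒜 ℳ) (F : StarInjRes 𝒜 𝒩) {x : R} {k : ℤ}
    (hxk : x ∈ 𝒜 k) (hk0 : 0 ≤ k) (hxm : x ∈ m.toIdeal) (hreg : IsSMulRegular M x)
    (π : M →ₗ[R] N) (hπ : IsGrHom ℳ 𝒩 π) (hπs : Function.Surjective π)
    (hker : ∀ z, π z = 0 ↔ ∃ z', x • z' = z) (e : ℕ)
    (hvan : ∀ i, i < e + 1 → ∀ y : E.H m i, y = 0) :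
    (∀ i, i < e → ∀ y : F.H m i, y = 0) ∧
      endDeg (F.Hgr m e) = endDeg (E.Hgr m (e + 1)) + c k := by
  obtain ⟨ψ, δ, -, hδ, -, -, -, hexF, -, hexE, -⟩ :=
    exists_les_smul E F hxk hreg π hπ hπs hker m
  refine ⟨?_, ?_⟩
  · intro i hi
    refine forall_eq_zero_of_forall_homogeneous F m i fun g y hy => ?_
    have h0 : δ i y = 0 := hvan (i + 1) (by omega) _
    obtain ⟨y', -, rfl⟩ := hexF i g y hy h0
    rw [hvan i (by omega) y', map_zero]
  have claim1 : ∀ n : ℤ, F.Hgr m e n ≠ ⊥ → E.Hgr m (e + 1) (n + -k) ≠ ⊥ := by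
    intro n hn
    rw [Ne, AddSubgroup.eq_bot_iff_forall] at hn
    push Not at hn
    obtain ⟨y, hy, hy0⟩ := hn
    have h1 : δ e y ∈ E.Hgr m (e + 1) (n + -k) := hδ e n y hy
    have h2 : δ e y ≠ 0 := by
      intro h0
      obtain ⟨y', -, rfl⟩ := hexF e n y hy h0
      apply hy0
      rw [hvan e (Nat.lt_succ_self e) y', map_zero]
    intro hbot
    rw [hbot] at h1
    exact h2 (AddSubgroup.mem_bot.mp h1)
  have claim2 : ∀ j : ℤ, E.Hgr m (e + 1) j ≠ ⊥ → ∃ n : ℤ, j + k ≤ n ∧ F.Hgr m e n ≠ ⊥ := by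
    classical
    intro j hj
    rw [Ne, AddSubgroup.eq_bot_iff_forall] at hj
    push Not at hj
    obtain ⟨y, hy, hy0⟩ := hj
    have hex := exists_pow_smul_eq_zero E m (e + 1) hxm y
    have ht0 : Nat.find hex ≠ 0 := by
      intro h0
      have := Nat.find_spec hex
      rw [h0, pow_zero, one_smul] at this
      exact hy0 this
    obtain ⟨t', ht'⟩ := Nat.exists_eq_succ_of_ne_zero ht0
    have hy'0 : x ^ t' • y ≠ 0 := Nat.find_min hex (by omega)
    have hxy' : x • (x ^ t' • y) = 0 := by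
      have := Nat.find_spec hex
      rw [ht', Nat.succ_eq_add_one, pow_succ', mul_smul] at this
      exact this
    have hy' : x ^ t' • y ∈ E.Hcomp m (e + 1) (j + t' • k) :=
      smul_mem_Hcomp E m (e + 1) (SetLike.pow_mem_graded t' hxk) hy
    obtain ⟨z, hz, hzy⟩ := hexE e (j + t' • k) _ hy' hxy'
    refine ⟨j + t' • k + k, ?_, ?_⟩
    · have : 0 ≤ t' • k := nsmul_nonneg hk0 t'
      omega
    · intro hbot
      have hz' : z ∈ F.Hgr m e (j + t' • k + k) := hz
      rw [hbot] at hz'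
      apply hy'0
      rw [← hzy, AddSubgroup.mem_bot.mp hz', map_zero]
  apply le_antisymm
  · unfold endDeg
    refine iSup₂_le fun n hn => ?_
    have h1 := claim1 n hn
    have h2 : c (n + -k) ≤ ⨆ (j : ℤ) (_ : E.Hgr m (e + 1) j ≠ ⊥),
        ((j : WithTop ℤ) : WithBot (WithTop ℤ)) :=
      le_iSup₂ (f := fun (j : ℤ) (_ : E.Hgr m (e + 1) j ≠ ⊥) =>
        ((j : WithTop ℤ) : WithBot (WithTop ℤ))) (n + -k) h1
    have h3 : c n = c (n + -k) + c k := by
      rw [← c_add, neg_add_cancel_right]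
    change c n ≤ _
    rw [h3]
    exact add_le_add_left h2 (c k)
  · unfold endDeg
    refine iSup_add_le k fun j hj => ?_
    obtain ⟨n, hn, hB⟩ := claim2 j hj
    rw [← c_add]
    refine le_trans (c_le_c hn) ?_
    exact le_iSup₂ (f := fun (n : ℤ) (_ : F.Hgr m e n ≠ ⊥) =>
      ((n : WithTop ℤ) : WithBot (WithTop ℤ))) n hB

section Iso

theorem symm_isGrHom (π : M →ₗ[R] N) (hπ : IsGrHom ℳ 𝒩 π) (hbij : Function.Bijective π) :
    IsGrHom 𝒩 ℳ ((LinearEquiv.ofBijective π hbij).symm : N →ₗ[R] M) := by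
  intro g y hy
  obtain ⟨z, rfl⟩ := hbij.2 y
  have hz : ((LinearEquiv.ofBijective π hbij).symm : N →ₗ[R] M) (π z) = z :=
    (LinearEquiv.ofBijective π hbij).symm_apply_apply z
  rw [hz]
  have h1 : π ((decompose ℳ z) g : M) = π z := by
    rw [← decompose_map 𝒩 ℳ π hπ z g, decompose_of_mem_same 𝒩 hy]
  rw [← hbij.1 h1]
  exact SetLike.coe_mem _

/-- Graded local cohomology of isomorphic graded modules, from any resolutions. -/
theorem iso_invariance (π : M →ₗ[R] N) (hπ : IsGrHom ℳ 𝒩 π) (hbij : Function.Bijective π)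
    (E : StarInjRes 𝒜 ℳ) (F : StarInjRes 𝒜 𝒩) (a : HomogeneousIdeal 𝒜) (i : ℕ) :
    (∀ g : ℤ, F.Hgr a i g = ⊥ ↔ E.Hgr a i g = ⊥) ∧
      ((∀ y : E.H a i, y = 0) → ∀ y : F.H a i, y = 0) := by
  obtain ⟨φ, hφ, hφπ⟩ := exists_lift E F π hπ
  obtain ⟨φ', hφ', hφ'π⟩ := exists_lift F E _ (symm_isGrHom π hπ hbij)
  have h1 : (φ'.comp φ).H a i = LinearMap.id := by
    rw [← CMap.id_H a E i]
    refine H_eq_of_over (CMap.comp_isGr hφ' hφ) (CMap.id_isGr E) (f := LinearMap.id) ?_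
      (CMap.id_over E) a i
    have := CMap.comp_over hφ'π hφπ
    have hid : ((LinearEquiv.ofBijective π hbij).symm : N →ₗ[R] M) ∘ₗ π = LinearMap.id := by
      ext z
      exact (LinearEquiv.ofBijective π hbij).symm_apply_apply z
    rwa [hid] at this
  have h2 : (φ.comp φ').H a i = LinearMap.id := by
    rw [← CMap.id_H a F i]
    refine H_eq_of_over (CMap.comp_isGr hφ hφ') (CMap.id_isGr F) (f := LinearMap.id) ?_
      (CMap.id_over F) a i
    have := CMap.comp_over hφπ hφ'π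
    have hid : π ∘ₗ ((LinearEquiv.ofBijective π hbij).symm : N →ₗ[R] M) = LinearMap.id := by
      ext z
      exact (LinearEquiv.ofBijective π hbij).apply_symm_apply z
    rwa [hid] at this
  rw [CMap.comp_H] at h1 h2
  have h1' : ∀ x, φ'.H a i (φ.H a i x) = x := fun x => LinearMap.congr_fun h1 x
  have h2' : ∀ y, φ.H a i (φ'.H a i y) = y := fun y => LinearMap.congr_fun h2 y
  refine ⟨fun g => ⟨fun hF => ?_, fun hE => ?_⟩, fun hE y => ?_⟩
  · rw [AddSubgroup.eq_bot_iff_forall]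
    intro x hx
    have h3 : φ.H a i x ∈ F.Hgr a i g := CMap.H_mem_Hcomp φ a hφ i g hx
    rw [hF] at h3
    rw [← h1' x, AddSubgroup.mem_bot.mp h3, map_zero]
  · rw [AddSubgroup.eq_bot_iff_forall]
    intro y hy
    have h3 : φ'.H a i y ∈ E.Hgr a i g := CMap.H_mem_Hcomp φ' a hφ' i g hy
    rw [hE] at h3
    rw [← h2' y, AddSubgroup.mem_bot.mp h3, map_zero]
  · rw [← h2' y, hE (φ'.H a i y), map_zero]

end Iso

section Induction

open scoped Pointwise

theorem smul_top_eq_range (x : R) :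
    x • (⊤ : Submodule R M) = LinearMap.range (LinearMap.lsmul R M x) := by
  ext z
  rw [Submodule.mem_smul_pointwise_iff_exists, LinearMap.mem_range]
  constructor
  · rintro ⟨b, -, rfl⟩; exact ⟨b, rfl⟩
  · rintro ⟨b, rfl⟩; exact ⟨b, Submodule.mem_top, rfl⟩

theorem c_zero : c 0 = 0 := rfl

/-- The a-invariant modulo a homogeneous weakly regular sequence (general module form). -/
theorem regseq_aux (hpos : ∀ n : ℤ, n < 0 → 𝒜 n = ⊥) (m : HomogeneousIdeal 𝒜) :
    ∀ (l : List (R × ℤ)), (∀ p ∈ l, p.1 ∈ 𝒜 p.2 ∧ p.1 ∈ m.toIdeal) →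
    ∀ (M : Type u) [AddCommGroup M] [Module R M] (ℳ : ℤ → AddSubgroup M)
      [DirectSum.Decomposition ℳ] [SetLike.GradedSMul 𝒜 ℳ] (E : StarInjRes 𝒜 ℳ)
      (N : Type u) [AddCommGroup N] [Module R N] (𝒩 : ℤ → AddSubgroup N)
      [DirectSum.Decomposition 𝒩] [SetLike.GradedSMul 𝒜 𝒩] (F : StarInjRes 𝒜 𝒩)
      (π : M →ₗ[R] N), IsGrHom ℳ 𝒩 π → Function.Surjective π →
      LinearMap.ker π = Ideal.ofList (l.map Prod.fst) • (⊤ : Submodule R M) →
      RingTheory.Sequence.IsWeaklyRegular M (l.map Prod.fst) → Nontrivial N →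
      ∀ e : ℕ, (∀ i, i < e + l.length → ∀ y : E.H m i, y = 0) →
      (∀ i, i < e → ∀ y : F.H m i, y = 0) ∧
        endDeg (F.Hgr m e) = endDeg (E.Hgr m (e + l.length)) + c ((l.map Prod.snd).sum) := by
  intro l
  induction l with
  | nil =>
    intro _ M _ _ ℳ _ _ E N _ _ 𝒩 _ _ F π hπ hπs hker _ _ e hvan
    have hinj : Function.Injective π := by
      rw [← LinearMap.ker_eq_bot, hker, List.map_nil, Ideal.ofList_nil, Submodule.bot_smul]
    have hbij : Function.Bijective π := ⟨hinj, hπs⟩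
    refine ⟨fun i hi => (iso_invariance π hπ hbij E F m i).2 (hvan i (by simpa using hi)), ?_⟩
    rw [List.map_nil, List.sum_nil, c_zero, add_zero]
    exact endDeg_congr (fun n => (iso_invariance π hπ hbij E F m e).1 n)
  | cons p l' ih =>
    intro hl M _ _ ℳ _ _ E N _ _ 𝒩 _ _ F π hπ hπs hker hreg hN e hvan
    obtain ⟨x, k⟩ := p
    have hxk : x ∈ 𝒜 k := (hl (x, k) (List.mem_cons_self)).1
    have hxm : x ∈ m.toIdeal := (hl (x, k) (List.mem_cons_self)).2
    have hl' : ∀ p ∈ l', p.1 ∈ 𝒜 p.2 ∧ p.1 ∈ m.toIdeal :=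
      fun p hp => hl p (List.mem_cons_of_mem _ hp)
    rw [List.map_cons] at hreg hker
    obtain ⟨hxreg, hreg'⟩ := (RingTheory.Sequence.isWeaklyRegular_cons_iff M x _).mp hreg
    -- the degree is nonnegative
    have hk0 : 0 ≤ k := by
      by_contra hk
      have hx0 : x = 0 := by
        have h' : x ∈ (⊥ : AddSubgroup R) :=
          (congrArg (fun s : AddSubgroup R => x ∈ s) (hpos k (by omega))).mp hxk
        exact AddSubgroup.mem_bot.mp h'
      subst hx0
      obtain ⟨y, hy⟩ := exists_ne (0 : N)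
      obtain ⟨z, rfl⟩ := hπs y
      apply hy
      have : z = 0 := hxreg (by simp)
      rw [this, map_zero]
    obtain ⟨P, hPdef⟩ : ∃ P : Submodule R M, P = x • (⊤ : Submodule R M) := ⟨_, rfl⟩
    have hP : P.IsHomogeneous ℳ := by
      rw [hPdef, smul_top_eq_range]
      exact range_lsmul_isHomogeneous hxk
    have hreg'' : RingTheory.Sequence.IsWeaklyRegular (M ⧸ P) (l'.map Prod.fst) := by
      rw [hPdef]
      exact hreg'
    have hker' : LinearMap.ker π = P ⊔ Ideal.ofList (l'.map Prod.fst) • (⊤ : Submodule R M) := by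
      rw [hker, Ideal.ofList_cons_smul, hPdef]
    have hPle : P ≤ LinearMap.ker π := by
      rw [hker']
      exact le_sup_left
    letI decQ : DirectSum.Decomposition (quotGr ℳ P) := quotDecomposition ℳ P hP
    letI gsQ : SetLike.GradedSMul 𝒜 (quotGr ℳ P) := quot_gradedSMul ℳ P 𝒜
    obtain ⟨F'⟩ : Nonempty (StarInjRes 𝒜 (quotGr ℳ P)) :=
      ⟨Groth.Agent.Lib.Helper29GrRes.starInjRes 𝒜 (quotGr ℳ P)⟩
    have hvan' : ∀ i, i < (e + l'.length) + 1 → ∀ y : E.H m i, y = 0 := by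
      intro i hi
      exact hvan i (by rw [List.length_cons]; omega)
    obtain ⟨hv1, hend1⟩ := step m E F' hxk hk0 hxm hxreg P.mkQ
      (fun g z hz => ⟨z, hz, rfl⟩) P.mkQ_surjective
      (fun z => by
        rw [Submodule.mkQ_apply, Submodule.Quotient.mk_eq_zero, hPdef,
          Submodule.mem_smul_pointwise_iff_exists]
        constructor
        · rintro ⟨b, -, hb⟩; exact ⟨b, hb⟩
        · rintro ⟨b, hb⟩; exact ⟨b, Submodule.mem_top, hb⟩) (e + l'.length) hvan'
    -- the induced map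
    have hπ' : IsGrHom (quotGr ℳ P) 𝒩 (P.liftQ π hPle) := by
      rintro g _ ⟨z, hz, rfl⟩
      exact hπ g z hz
    have hπs' : Function.Surjective (P.liftQ π hPle) := by
      intro y
      obtain ⟨z, rfl⟩ := hπs y
      exact ⟨P.mkQ z, rfl⟩
    have hkerQ : LinearMap.ker (P.liftQ π hPle) =
        Ideal.ofList (l'.map Prod.fst) • (⊤ : Submodule R (M ⧸ P)) := by
      rw [Submodule.ker_liftQ, hker', Submodule.map_sup, Submodule.mkQ_map_self, bot_sup_eq,
        Submodule.map_smul'', Submodule.map_top, Submodule.range_mkQ]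
    obtain ⟨hv2, hend2⟩ := ih hl' (M ⧸ P) (quotGr ℳ P) F' N 𝒩 F (P.liftQ π hPle) hπ' hπs'
      hkerQ hreg'' hN e hv1
    refine ⟨hv2, ?_⟩
    rw [hend2, hend1, List.map_cons, List.sum_cons, c_add, add_assoc, List.length_cons]
    rfl

end Induction

section Top

variable [hCM : LocCoh.IsCohenMacaulayRing R]

/-- Graded local cohomology of a Cohen–Macaulay *local ring vanishes below the dimension. -/
theorem H_eq_zero_of_lt_dim (hpos : ∀ n : ℤ, n < 0 → 𝒜 n = ⊥) {m : HomogeneousIdeal 𝒜}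
    (hm : IsStarLocal 𝒜 m) (n : ℕ) (hn : ringKrullDim R = n) (E : StarInjRes 𝒜 𝒜)
    (i : ℕ) (hi : i < n) (y : E.H m i) : y = 0 := by
  haveI hmax := isMaximal_of_isStarLocal hpos hm
  have hht : m.toIdeal.height = (n : ℕ∞) := by
    have h := ringKrullDim_eq_height_of_isStarLocal hpos hm
    rw [hn] at h
    exact_mod_cast h.symm
  have hdepth : LocCoh.idealDepth m.toIdeal R = m.toIdeal.height :=
    Groth.Agent.Lib.Helper28.idealDepth_self_eq_height_of_isCohenMacaulayRing hCM m.toIdeal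
      hmax.ne_top
  have hIM : m.toIdeal • (⊤ : Submodule R R) ≠ ⊤ := by
    rw [smul_eq_mul, Ideal.mul_top]
    exact hmax.ne_top
  obtain ⟨e⟩ := Groth.Agent.S13224.result R 𝒜 m R 𝒜 E i
  have h0 := Groth.Agent.Lib.Helper8.LC.H_eq_zero_of_lt_depth m.toIdeal n R hIM
    (by rw [hdepth, hht]) i hi (e y)
  exact e.injective (by rw [h0, map_zero])

theorem endDeg_regseq (hpos : ∀ n : ℤ, n < 0 → 𝒜 n = ⊥) {m : HomogeneousIdeal 𝒜}
    (hm : IsStarLocal 𝒜 m) (n : ℕ) (hn : ringKrullDim R = n) (I : StarInjRes 𝒜 𝒜) (t : ℕ)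
    (htn : t ≤ n) (f : Fin t → R) (deg : Fin t → ℤ) (hfdeg : ∀ i, f i ∈ 𝒜 (deg i))
    (hfm : ∀ i, f i ∈ m.toIdeal) (hreg : RingTheory.Sequence.IsRegular R (List.ofFn f))
    (π : R →ₗ[R] N) (hπ : IsGrHom 𝒜 𝒩 π) (hπs : Function.Surjective π)
    (hπk : LinearMap.ker π = Ideal.span (Set.range f)) (F : StarInjRes 𝒜 𝒩) :
    endDeg (F.Hgr m (n - t)) = endDeg (I.Hgr m n) +
      ((((Finset.univ : Finset (Fin t)).sum deg : ℤ) : WithTop ℤ) : WithBot (WithTop ℤ)) := by
  have hmap : (List.ofFn fun i => (f i, deg i)).map Prod.fst = List.ofFn f := by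
    rw [List.map_ofFn]
    rfl
  have hmap2 : (List.ofFn fun i => (f i, deg i)).map Prod.snd = List.ofFn deg := by
    rw [List.map_ofFn]
    rfl
  have hl : ∀ p ∈ List.ofFn (fun i => (f i, deg i)), p.1 ∈ 𝒜 p.2 ∧ p.1 ∈ m.toIdeal := by
    intro p hp
    rw [List.mem_ofFn] at hp
    obtain ⟨i, rfl⟩ := hp
    exact ⟨hfdeg i, hfm i⟩
  have hker : LinearMap.ker π =
      Ideal.ofList ((List.ofFn fun i => (f i, deg i)).map Prod.fst) • (⊤ : Submodule R R) := by
    rw [hmap, hπk, smul_eq_mul, Ideal.mul_top]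
    congr 1
    ext r
    simp only [Set.mem_range, Set.mem_ofPred_eq, List.mem_ofFn]
  have hN : Nontrivial N := by
    by_contra hN
    rw [not_nontrivial_iff_subsingleton] at hN
    apply one_notMem_of_isStarLocal hm
    have h1 : (1 : R) ∈ LinearMap.ker π := by
      rw [LinearMap.mem_ker]
      exact Subsingleton.elim _ _
    rw [hπk] at h1
    refine (Ideal.span_le.mpr ?_ : Ideal.span (Set.range f) ≤ m.toIdeal) h1
    rintro _ ⟨i, rfl⟩
    exact hfm i
  have hw : RingTheory.Sequence.IsWeaklyRegular R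
      ((List.ofFn fun i => (f i, deg i)).map Prod.fst) := by
    rw [hmap]
    exact hreg.toIsWeaklyRegular
  have hlen : (List.ofFn fun i => (f i, deg i)).length = t := List.length_ofFn
  have hvan : ∀ i, i < (n - t) + (List.ofFn fun i => (f i, deg i)).length →
      ∀ y : I.H m i, y = 0 := by
    intro i hi y
    rw [hlen, Nat.sub_add_cancel htn] at hi
    exact H_eq_zero_of_lt_dim hpos hm n hn I i hi y
  obtain ⟨-, hend⟩ := regseq_aux hpos m _ hl R 𝒜 I N 𝒩 F π hπ hπs hker hw hN (n - t) hvan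
  rw [hend, hlen, Nat.sub_add_cancel htn, hmap2, List.sum_ofFn]
  rfl

end Top

end Groth.Agent.Lib.T2H3.GrAinv
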