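import Groth.Agent.Lib.T2H3GrIrrB
import Mathlib.RingTheory.Artinian.Module

/-! Graded Artinian modules over a ℤ-graded ring: the pieces are Artinian over the degree-zero
subring, and (when the ring has no negative part) they vanish in high degrees.  *Local
positively graded rings: the *maximal ideal is maximal (helper3). -/

set_option autoImplicit false
set_option linter.unusedSectionVars false
open DirectSum

namespace Groth.Agent.Lib.T2H3.GrArt

open GrLC Groth.Agent.Lib.Helper29GrStd Groth.Agent.Lib.T2H3.GrIrr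

universe u

section General

variable {ι : Type} [AddCommGroup ι] [DecidableEq ι]
variable {R : Type u} [CommRing R] (𝒜 : ι → AddSubgroup R) [GradedRing 𝒜]
variable {H : Type u} [AddCommGroup H] [Module R H] (𝓗 : ι → AddSubgroup H)
  [DirectSum.Decomposition 𝓗] [SetLike.GradedSMul 𝒜 𝓗]

/-- An element of degree `n` in the `R`-span of an `R₀`-submodule of the piece of degree `n` lies in
that submodule. -/
theorem mem_of_mem_span_of_mem_piece (n : ι) (Q : Submodule (deg0 𝒜) H) (hQ : Q ≤ comp 𝒜 𝓗 n)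
    {y : H} (hy : y ∈ Submodule.span R (Q : Set H)) (hyn : y ∈ 𝓗 n) : y ∈ Q := by
  classical
  obtain ⟨T, hTsub, hyT⟩ := Submodule.mem_span_finite_of_mem_span hy
  obtain ⟨f, -, rfl⟩ := Submodule.mem_span_finset.mp hyT
  have h1 := decompose_sum_smul 𝒜 𝓗 T (fun _ => n) (fun t ht => hQ (hTsub ht)) f n
  rw [DirectSum.decompose_of_mem_same 𝓗 hyn] at h1
  rw [h1]
  refine Submodule.sum_mem _ fun t ht => ?_
  have h0' : ∀ k : ι, k = 0 → ((decompose 𝒜 (f t)) k : R) ∈ 𝒜 0 := by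
    intro k hk
    subst hk
    exact SetLike.coe_mem _
  have h0 : ((decompose 𝒜 (f t)) (n - n) : R) ∈ 𝒜 0 := h0' _ (sub_self n)
  exact Submodule.smul_mem _ (⟨_, h0⟩ : deg0 𝒜) (hTsub ht)

/-- The pieces of an Artinian graded module are Artinian over the degree-zero subring. -/
theorem isArtinian_comp [IsArtinian R H] (n : ι) : IsArtinian (deg0 𝒜) (comp 𝒜 𝓗 n) := by
  let f : Submodule (deg0 𝒜) (comp 𝒜 𝓗 n) → Submodule R H := fun Q =>
    Submodule.span R ((Q.map (comp 𝒜 𝓗 n).subtype : Submodule (deg0 𝒜) H) : Set H)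
  have hf : StrictMono f := by
    intro Q Q' hQQ'
    refine lt_of_le_of_ne (Submodule.span_mono ?_) ?_
    · exact SetLike.coe_subset_coe.mpr (Submodule.map_mono hQQ'.le)
    · intro heq
      obtain ⟨y, hyQ', hyQ⟩ := SetLike.exists_of_lt hQQ'
      apply hyQ
      have h1 : (y : H) ∈ f Q' := Submodule.subset_span ⟨y, hyQ', rfl⟩
      rw [← heq] at h1
      have h2 := mem_of_mem_span_of_mem_piece 𝒜 𝓗 n (Q.map (comp 𝒜 𝓗 n).subtype)
        (by rintro _ ⟨z, -, rfl⟩; exact z.2) h1 y.2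
      obtain ⟨z, hz, hzy⟩ := h2
      have : z = y := Subtype.ext hzy
      rwa [← this]
  exact hf.wellFoundedLT

end General

section Int

variable {R : Type u} [CommRing R] (𝒜 : ℤ → AddSubgroup R) [GradedRing 𝒜]
variable {H : Type u} [AddCommGroup H] [Module R H] (𝓗 : ℤ → AddSubgroup H)
  [DirectSum.Decomposition 𝓗] [SetLike.GradedSMul 𝒜 𝓗]

/-- The submodule generated by the pieces of degree at least `k`. -/
def geSub (k : ℤ) : Submodule R H := Submodule.span R (⋃ j ∈ Set.Ici k, (𝓗 j : Set H))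

theorem geSub_anti {k k' : ℤ} (h : k ≤ k') : geSub (R := R) 𝓗 k' ≤ geSub (R := R) 𝓗 k := by
  apply Submodule.span_mono
  intro y hy
  simp only [Set.mem_iUnion, Set.mem_Ici, SetLike.mem_coe, exists_prop] at hy ⊢
  obtain ⟨j, hj, hyj⟩ := hy
  exact ⟨j, le_trans h hj, hyj⟩

/-- Elements of `geSub (n+1)` have vanishing component of degree `n` (no negative part). -/
theorem decompose_eq_zero_of_mem_geSub (hpos : ∀ n : ℤ, n < 0 → 𝒜 n = ⊥) {n : ℤ} {w : H}
    (hw : w ∈ geSub (R := R) 𝓗 (n + 1)) : ((decompose 𝓗 w) n : H) = 0 := by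
  classical
  obtain ⟨T, hTsub, hwT⟩ := Submodule.mem_span_finite_of_mem_span hw
  have h : ∀ t : H, ∃ j : ℤ, t ∈ T → n + 1 ≤ j ∧ t ∈ 𝓗 j := by
    intro t
    by_cases ht : t ∈ T
    · have := hTsub ht
      simp only [Set.mem_iUnion, Set.mem_Ici, SetLike.mem_coe, exists_prop] at this
      obtain ⟨j, hj, htj⟩ := this
      exact ⟨j, fun _ => ⟨hj, htj⟩⟩
    · exact ⟨0, fun h => absurd h ht⟩
  choose deg hdeg using h
  obtain ⟨f, -, rfl⟩ := Submodule.mem_span_finset.mp hwT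
  rw [decompose_sum_smul 𝒜 𝓗 T deg (fun t ht => (hdeg t ht).2) f n]
  refine Finset.sum_eq_zero fun t ht => ?_
  have hneg : n - deg t < 0 := by have := (hdeg t ht).1; omega
  rw [decompose_neg_eq_zero 𝒜 hpos (f t) hneg, zero_smul]

/-- An Artinian graded module over a ring without negative part vanishes in high degrees. -/
theorem exists_piece_eq_bot [IsArtinian R H] (hpos : ∀ n : ℤ, n < 0 → 𝒜 n = ⊥) :
    ∃ N : ℤ, ∀ n : ℤ, N ≤ n → 𝓗 n = ⊥ := by
  let f : ℕ →o (Submodule R H)ᵒᵈ :=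
    ⟨fun k => OrderDual.toDual (geSub (R := R) 𝓗 (k : ℤ)), fun k k' h =>
      OrderDual.toDual_le_toDual.mpr (geSub_anti 𝓗 (by exact_mod_cast h))⟩
  obtain ⟨N, hN⟩ := IsArtinian.monotone_stabilizes f
  refine ⟨(N : ℤ), fun n hn => ?_⟩
  have hn0 : 0 ≤ n := le_trans (Int.natCast_nonneg N) hn
  have e1 : geSub (R := R) 𝓗 (N : ℤ) = geSub (R := R) 𝓗 ((n.toNat : ℕ) : ℤ) :=
    congrArg OrderDual.ofDual (hN n.toNat (by omega))
  have e2 : geSub (R := R) 𝓗 (N : ℤ) = geSub (R := R) 𝓗 (((n.toNat + 1 : ℕ) : ℕ) : ℤ) :=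
    congrArg OrderDual.ofDual (hN (n.toNat + 1) (by omega))
  have hnn : ((n.toNat : ℕ) : ℤ) = n := Int.toNat_of_nonneg hn0
  have hnn1 : (((n.toNat + 1 : ℕ) : ℕ) : ℤ) = n + 1 := by
    rw [Nat.cast_add, Nat.cast_one, hnn]
  rw [hnn] at e1
  rw [hnn1] at e2
  rw [eq_bot_iff]
  intro y hy
  rw [AddSubgroup.mem_bot]
  have h1 : y ∈ geSub (R := R) 𝓗 n :=
    Submodule.subset_span (Set.mem_biUnion (show n ∈ Set.Ici n from Set.mem_Ici.mpr le_rfl) hy)
  rw [← e1, e2] at h1
  have h2 := decompose_eq_zero_of_mem_geSub 𝒜 𝓗 hpos h1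
  rwa [DirectSum.decompose_of_mem_same 𝓗 hy] at h2

end Int

end Groth.Agent.Lib.T2H3.GrArt
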