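import Groth.Agent.Lib.T2H3GrLesF

/-! Graded local cohomology: the long exact sequence attached to multiplication by a
homogeneous non-zerodivisor `x` of degree `d` on a graded module `M`, in each degree
(helper3). -/

set_option autoImplicit false
set_option linter.unusedSectionVars false
open DirectSum

noncomputable section

namespace Groth.Agent.Lib.T2H3.GrLes

open GrLC Groth.Agent.Lib.Helper29GrShift

universe u

variable {ι : Type} [AddCommGroup ι] [DecidableEq ι]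
variable {R : Type u} [CommRing R] {𝒜 : ι → AddSubgroup R} [GradedRing 𝒜]
variable {M : Type u} [AddCommGroup M] [Module R M] {ℳ : ι → AddSubgroup M}
  [DirectSum.Decomposition ℳ] [SetLike.GradedSMul 𝒜 ℳ]
variable {N : Type u} [AddCommGroup N] [Module R N] {𝒩 : ι → AddSubgroup N}
  [DirectSum.Decomposition 𝒩] [SetLike.GradedSMul 𝒜 𝒩]

section XMap

theorem smul_mem_gr_of_shift (X : GMod.{u} 𝒜) {x : R} {d : ι} (hx : x ∈ 𝒜 d) {k : ι}
    {y : X.carrier} (hy : y ∈ X.gr (k + -d)) : x • y ∈ X.gr k := by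
  have h := SetLike.GradedSMul.smul_mem (A := 𝒜) (B := X.gr) hx hy
  rw [vadd_eq_add, add_comm k, add_neg_cancel_left] at h
  exact h

theorem smul_mem_of_shift {x : R} {d : ι} (hx : x ∈ 𝒜 d) {k : ι}
    {y : M} (hy : y ∈ ℳ (k + -d)) : x • y ∈ ℳ k := by
  have h := SetLike.GradedSMul.smul_mem (A := 𝒜) (B := ℳ) hx hy
  rw [vadd_eq_add, add_comm k, add_neg_cancel_left] at h
  exact h

variable (E : StarInjRes 𝒜 ℳ) {x : R} {d : ι} (hx : x ∈ 𝒜 d)

/-- Multiplication by a homogeneous element of degree `d`, as a homogeneous chain map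
`E(-d) → E`. -/
def xMap (_hx : x ∈ 𝒜 d) : CMap (shiftRes E (-d)) E where
  θ n := LinearMap.lsmul R (E.X n).carrier x
  comm n y := ((E.d n).map_smul x y).symm

theorem xMap_isGr : (xMap E hx).IsGr := fun n _ _ hy => smul_mem_gr_of_shift (E.X n) hx hy

theorem xMap_over : (xMap E hx).Over (LinearMap.lsmul R M x) := fun m => by
  change x • E.ε m = E.ε (x • m)
  rw [map_smul]

theorem xMap_H (a : HomogeneousIdeal 𝒜) (i : ℕ) (y : E.H a i) :
    (xMap E hx).H a i y = x • y := by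
  obtain ⟨z, rfl⟩ := toH_surjective E a i y
  rw [← map_smul]
  rfl

end XMap

section Aux

variable {M' : Type u} [AddCommGroup M'] [Module R M'] {ℳ' : ι → AddSubgroup M'}
  [DirectSum.Decomposition ℳ'] [SetLike.GradedSMul 𝒜 ℳ']

/-- Auxiliary form of the long exact sequence, in which the source resolution `E'` of the first
map is identified with `E` up to a shift of degrees by explicit equivalences. -/
theorem exists_les_smul_aux {E' : StarInjRes 𝒜 ℳ'} {E : StarInjRes 𝒜 ℳ} {F : StarInjRes 𝒜 𝒩}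
    {f : M' →ₗ[R] M} {π : M →ₗ[R] N} (S : GrSES ℳ' ℳ 𝒩 f π)
    {φ : CMap E' E} (hφ : φ.IsGr) (hφf : φ.Over f) (a : HomogeneousIdeal 𝒜) (x : R) (d : ι)
    (e : ∀ i, E'.H a i ≃ₗ[R] E.H a i)
    (he : ∀ (i : ℕ) (k : ι) (y : E'.H a i), y ∈ E'.Hcomp a i k ↔ e i y ∈ E.Hcomp a i (k + -d))
    (hφe : ∀ (i : ℕ) (y : E'.H a i), φ.H a i y = x • e i y) :
    ∃ (ψ : ∀ i, E.H a i →ₗ[R] F.H a i) (δ : ∀ i, F.H a i →ₗ[R] E.H a (i + 1)),
      (∀ (i : ℕ) (k : ι) (y : E.H a i), y ∈ E.Hcomp a i k → ψ i y ∈ F.Hcomp a i k) ∧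
      (∀ (i : ℕ) (k : ι) (y : F.H a i), y ∈ F.Hcomp a i k → δ i y ∈ E.Hcomp a (i + 1) (k + -d)) ∧
      (∀ y : E.H a 0, x • y = 0 → y = 0) ∧
      (∀ (i : ℕ) (k : ι) (y : E.H a i), y ∈ E.Hcomp a i k → ψ i y = 0 →
        ∃ y' ∈ E.Hcomp a i (k + -d), x • y' = y) ∧
      (∀ (i : ℕ) (y' : E.H a i), ψ i (x • y') = 0) ∧
      (∀ (i : ℕ) (k : ι) (y : F.H a i), y ∈ F.Hcomp a i k → δ i y = 0 →
        ∃ y' ∈ E.Hcomp a i k, ψ i y' = y) ∧
      (∀ (i : ℕ) (y' : E.H a i), δ i (ψ i y') = 0) ∧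
      (∀ (i : ℕ) (k : ι) (y : E.H a (i + 1)), y ∈ E.Hcomp a (i + 1) k → x • y = 0 →
        ∃ y' ∈ F.Hcomp a i (k + d), δ i y' = y) ∧
      (∀ (i : ℕ) (y' : F.H a i), x • δ i y' = 0) := by
  obtain ⟨ψ, hψ, hψπ⟩ := exists_lift E F π S.g_gr
  obtain ⟨δ, hδ, hinj, hex1, hex2, hex3⟩ := exists_les S hφ hφf hψ hψπ a
  let decE : ∀ i, DirectSum.Decomposition (E.Hgr a i) := fun i => HgrDecomposition E a i
  let decE' : ∀ i, DirectSum.Decomposition (E'.Hgr a i) := fun i => HgrDecomposition E' a i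
  let decF : ∀ i, DirectSum.Decomposition (F.Hgr a i) := fun i => HgrDecomposition F a i
  refine ⟨fun i => ψ.H a i, fun i => (e (i + 1)).toLinearMap ∘ₗ δ i,
    fun i k y hy => CMap.H_mem_Hcomp ψ a hψ i k hy, ?_, ?_, ?_, ?_, ?_, ?_, ?_, ?_⟩
  · intro i k y hy
    exact (he (i + 1) k _).mp (hδ i k y hy)
  · intro y hy
    have h1 : φ.H a 0 ((e 0).symm y) = φ.H a 0 0 := by
      rw [hφe, hφe, LinearEquiv.apply_symm_apply, map_zero, smul_zero, hy]
    have h2 := hinj h1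
    rw [← (e 0).apply_symm_apply y, h2, map_zero]
  · intro i k y hy hy0
    have hr : y ∈ LinearMap.range (φ.H a i) := by
      rw [← hex1 i]; exact hy0
    obtain ⟨y', hy', hy'y⟩ := exists_mem_piece_of_mem_range (E'.Hgr a i)
      (E.Hgr a i) (φ.H a i) (fun g m hm => CMap.H_mem_Hcomp φ a hφ i g hm) hy hr
    refine ⟨e i y', (he i k y').mp hy', ?_⟩
    rw [← hφe, hy'y]
  · intro i y'
    have h1 : φ.H a i ((e i).symm y') ∈ LinearMap.ker (ψ.H a i) := by
      rw [hex1 i]; exact LinearMap.mem_range_self _ _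
    rw [hφe, LinearEquiv.apply_symm_apply] at h1
    exact h1
  · intro i k y hy hy0
    have hy0' : δ i y = 0 := by
      apply (e (i + 1)).injective
      rw [map_zero]
      exact hy0
    have hr : y ∈ LinearMap.range (ψ.H a i) := by
      rw [← hex2 i]; exact hy0'
    exact exists_mem_piece_of_mem_range (E.Hgr a i) (F.Hgr a i) (ψ.H a i)
      (fun g m hm => CMap.H_mem_Hcomp ψ a hψ i g hm) hy hr
  · intro i y'
    have h1 : ψ.H a i y' ∈ LinearMap.ker (δ i) := by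
      rw [hex2 i]; exact LinearMap.mem_range_self _ _
    change e (i + 1) (δ i (ψ.H a i y')) = 0
    rw [LinearMap.mem_ker.mp h1, map_zero]
  · intro i k y hy hy0
    have hr : (e (i + 1)).symm y ∈ LinearMap.range (δ i) := by
      rw [← hex3 i, LinearMap.mem_ker, hφe, LinearEquiv.apply_symm_apply]
      exact hy0
    have hy' : (e (i + 1)).symm y ∈ E'.Hgr a (i + 1) (k + d) := by
      apply (he (i + 1) (k + d) _).mpr
      rw [LinearEquiv.apply_symm_apply, add_neg_cancel_right]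
      exact hy
    obtain ⟨y', hy'1, hy'2⟩ := exists_mem_piece_of_mem_range (F.Hgr a i)
      (E'.Hgr a (i + 1)) (δ i) (fun g m hm => hδ i g m hm) hy' hr
    refine ⟨y', hy'1, ?_⟩
    change e (i + 1) (δ i y') = y
    rw [hy'2, LinearEquiv.apply_symm_apply]
  · intro i y'
    have h1 : δ i y' ∈ LinearMap.ker (φ.H a (i + 1)) := by
      rw [hex3 i]; exact LinearMap.mem_range_self _ _
    rw [LinearMap.mem_ker, hφe] at h1
    exact h1

end Aux

/-- The long exact sequence for multiplication by a homogeneous `M`-regular element `x` of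
degree `d`: `N = M/xM` is given by a homogeneous surjection `π : M → N` with kernel `xM`. -/
theorem exists_les_smul (E : StarInjRes 𝒜 ℳ) (F : StarInjRes 𝒜 𝒩) {x : R} {d : ι}
    (hx : x ∈ 𝒜 d) (hreg : Function.Injective (fun m : M => x • m)) (π : M →ₗ[R] N)
    (hπ : IsGrHom ℳ 𝒩 π) (hπs : Function.Surjective π)
    (hker : ∀ m, π m = 0 ↔ ∃ m', x • m' = m) (a : HomogeneousIdeal 𝒜) :
    ∃ (ψ : ∀ i, E.H a i →ₗ[R] F.H a i) (δ : ∀ i, F.H a i →ₗ[R] E.H a (i + 1)),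
      (∀ (i : ℕ) (k : ι) (y : E.H a i), y ∈ E.Hcomp a i k → ψ i y ∈ F.Hcomp a i k) ∧
      (∀ (i : ℕ) (k : ι) (y : F.H a i), y ∈ F.Hcomp a i k → δ i y ∈ E.Hcomp a (i + 1) (k + -d)) ∧
      (∀ y : E.H a 0, x • y = 0 → y = 0) ∧
      (∀ (i : ℕ) (k : ι) (y : E.H a i), y ∈ E.Hcomp a i k → ψ i y = 0 →
        ∃ y' ∈ E.Hcomp a i (k + -d), x • y' = y) ∧
      (∀ (i : ℕ) (y' : E.H a i), ψ i (x • y') = 0) ∧
      (∀ (i : ℕ) (k : ι) (y : F.H a i), y ∈ F.Hcomp a i k → δ i y = 0 →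
        ∃ y' ∈ E.Hcomp a i k, ψ i y' = y) ∧
      (∀ (i : ℕ) (y' : E.H a i), δ i (ψ i y') = 0) ∧
      (∀ (i : ℕ) (k : ι) (y : E.H a (i + 1)), y ∈ E.Hcomp a (i + 1) k → x • y = 0 →
        ∃ y' ∈ F.Hcomp a i (k + d), δ i y' = y) ∧
      (∀ (i : ℕ) (y' : F.H a i), x • δ i y' = 0) := by
  have S : GrSES (shiftGr ℳ (-d)) ℳ 𝒩 (LinearMap.lsmul R M x) π := by
    refine ⟨fun k m hm => ?_, hπ, hreg, hπs, ?_⟩
    · exact smul_mem_of_shift hx hm
    · ext m
      rw [LinearMap.mem_ker, hker m]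
      rfl
  exact exists_les_smul_aux (E' := shiftRes E (-d)) (E := E) (F := F) S (xMap_isGr E hx)
    (xMap_over E hx) a x d (fun i => LinearEquiv.refl R (E.H a i)) (fun i k y => Iff.rfl)
    (fun i y => xMap_H E hx a i y)

end Groth.Agent.Lib.T2H3.GrLes
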