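import Groth.Agent.Lib.T2H3GrIrrB
import Groth.Agent.Lib.T2H3GrLesG
import Groth.Agent.Lib.Helper29GrRes
import Groth.Agent.Lib.Helper8LC2
import Groth.Agent.S13224

/-! Graded local cohomology with respect to the irrelevant ideal of a Noetherian positively
ℤ-graded ring: pieces are Noetherian over `R₀` and vanish in high degrees (helper3). -/

set_option autoImplicit false
set_option linter.unusedSectionVars false
open DirectSum

noncomputable section

namespace Groth.Agent.Lib.T2H3.GrIrr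

open GrLC Groth.Agent.Lib.Helper29GrStd Groth.Agent.Lib.Helper29GrGam Groth.Agent.Lib.T2H3.GrLes
  Groth.Agent.Lib.Helper29GrHom Groth.Agent.Lib.Helper29GrSub Groth.Agent.Lib.Helper29GrQuot

universe u

section General

variable {ι : Type} [AddCommGroup ι] [DecidableEq ι]
variable {R : Type u} [CommRing R] {𝒜 : ι → AddSubgroup R} [GradedRing 𝒜]
variable {M : Type u} [AddCommGroup M] [Module R M] {ℳ : ι → AddSubgroup M}
  [DirectSum.Decomposition ℳ] [SetLike.GradedSMul 𝒜 ℳ]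

/-- Restriction of an `R`-linear map to `R₀`-submodules. -/
def pieceMap {A B : Type u} [AddCommGroup A] [Module R A] [AddCommGroup B] [Module R B]
    (α : A →ₗ[R] B) (P : Submodule (deg0 𝒜) A) (Q : Submodule (deg0 𝒜) B)
    (h : ∀ x ∈ P, α x ∈ Q) : P →ₗ[deg0 𝒜] Q :=
  (α.restrictScalars (deg0 𝒜)).restrict h

@[simp] theorem pieceMap_coe {A B : Type u} [AddCommGroup A] [Module R A] [AddCommGroup B]
    [Module R B] (α : A →ₗ[R] B) (P : Submodule (deg0 𝒜) A) (Q : Submodule (deg0 𝒜) B)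
    (h : ∀ x ∈ P, α x ∈ Q) (x : P) : ((pieceMap α P Q h x : Q) : B) = α x := rfl

theorem smul_mem_Hcomp (E : StarInjRes 𝒜 ℳ) (a : HomogeneousIdeal 𝒜) (i : ℕ) {x : R} {d : ι}
    (hx : x ∈ 𝒜 d) {n : ι} {y : E.H a i} (hy : y ∈ E.Hcomp a i n) :
    x • y ∈ E.Hcomp a i (n + d) := by
  obtain ⟨z, hz, rfl⟩ := hy
  refine ⟨x • z, ?_, map_smul _ _ _⟩
  have h := SetLike.GradedSMul.smul_mem (A := 𝒜) (B := (E.X i).gr) hx hz
  rw [vadd_eq_add, add_comm] at h
  exact h

/-- Every class is killed by a power of any element of the ideal. -/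
theorem exists_pow_smul_eq_zero (E : StarInjRes 𝒜 ℳ) (a : HomogeneousIdeal 𝒜) (i : ℕ) {x : R}
    (hx : x ∈ a.toIdeal) (y : E.H a i) : ∃ k : ℕ, x ^ k • y = 0 := by
  obtain ⟨z, rfl⟩ := toH_surjective E a i y
  obtain ⟨k, hk⟩ := z.2.1
  refine ⟨k, ?_⟩
  rw [← map_smul]
  have : x ^ k • z = 0 := Subtype.ext (hk _ (Ideal.pow_mem_pow hx k))
  rw [this, map_zero]

theorem gam_eq_torsionSub (I : Ideal R) (L : Type u) [AddCommGroup L] [Module R L] :
    gam I L = DRing.torsionSub I L := rfl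

/-- Graded local cohomology of a torsion module vanishes in positive degrees. -/
theorem H_succ_eq_zero_of_torsion [Module.Free ℤ ι] [Module.Finite ℤ ι] [IsNoetherianRing R]
    (E : StarInjRes 𝒜 ℳ) (a : HomogeneousIdeal 𝒜) (htor : gam a.toIdeal M = ⊤) (j : ℕ)
    (y : E.H a (j + 1)) : y = 0 := by
  obtain ⟨e⟩ := Groth.Agent.S13224.result R 𝒜 a M ℳ E (j + 1)
  apply e.injective
  rw [map_zero]
  exact Groth.Agent.Lib.Helper8.LC.H_succ_eq_zero_of_torsion a.toIdeal j M htor _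

/-- The quotient by the torsion submodule is torsion-free (Noetherian ring). -/
theorem gam_quotient_eq_bot [IsNoetherianRing R] (I : Ideal R) (L : Type u) [AddCommGroup L]
    [Module R L] : gam I (L ⧸ gam I L) = ⊥ := by
  rw [eq_bot_iff]
  intro y hy
  obtain ⟨x, rfl⟩ := Submodule.Quotient.mk_surjective _ y
  obtain ⟨n, hn⟩ := hy
  rw [Submodule.mem_bot, Submodule.Quotient.mk_eq_zero]
  have hfg : (I ^ n • Submodule.span R {x}).FG :=
    Submodule.FG.smul ((isNoetherianRing_iff_ideal_fg R).mp inferInstance _)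
      (Submodule.fg_span_singleton x)
  have hle : I ^ n • Submodule.span R {x} ≤ DRing.torsionSub I L := by
    rw [Submodule.smul_le]
    intro r hr z hz
    obtain ⟨c, rfl⟩ := Submodule.mem_span_singleton.mp hz
    rw [smul_comm]
    apply (DRing.torsionSub I L).smul_mem
    have := hn r hr
    rw [← Submodule.Quotient.mk_smul, Submodule.Quotient.mk_eq_zero] at this
    exact this
  obtain ⟨s, hs⟩ := Groth.Agent.Lib.Helper8.DT.exists_pow_kills_of_fg (I := I) _ hfg hle
  refine ⟨s + n, fun r hr => ?_⟩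
  rw [pow_add] at hr
  refine Submodule.mul_induction_on hr ?_ ?_
  · intro b hb c hc
    rw [mul_smul]
    exact hs b hb _ (Submodule.smul_mem_smul hc (Submodule.mem_span_singleton_self x))
  · intro y z hy hz
    rw [add_smul, hy, hz, add_zero]

/-- The range of multiplication by a homogeneous element is a homogeneous submodule. -/
theorem range_lsmul_isHomogeneous {x : R} {d : ι} (hx : x ∈ 𝒜 d) :
    (LinearMap.range (LinearMap.lsmul R M x)).IsHomogeneous ℳ := by
  rintro g _ ⟨m, rfl⟩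
  refine ⟨((decompose ℳ m) (g - d) : M), ?_⟩
  change x • ((decompose ℳ m) (g - d) : M) = ((decompose ℳ (x • m)) g : M)
  rw [Groth.Agent.Lib.Helper29GrEss.decompose_smul_of_mem 𝒜 ℳ hx m g]

end General

section Int

variable {R : Type u} [CommRing R] [IsNoetherianRing R] {𝒜 : ℤ → AddSubgroup R} [GradedRing 𝒜]

/-- The statement proved by induction on the cohomological degree. -/
def PropI (𝒜 : ℤ → AddSubgroup R) [GradedRing 𝒜] (a : HomogeneousIdeal 𝒜) (i : ℕ) : Prop :=
  ∀ (M : Type u) [AddCommGroup M] [Module R M] [Module.Finite R M] (ℳ : ℤ → AddSubgroup M)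
    [DirectSum.Decomposition ℳ] [SetLike.GradedSMul 𝒜 ℳ] (E : StarInjRes 𝒜 ℳ),
    (∀ n : ℤ, IsNoetherian (deg0 𝒜) (E.Hcomp a i n)) ∧
      ∃ r : ℤ, ∀ n : ℤ, r ≤ n → E.Hcomp a i n = ⊥

variable (hpos : ∀ n : ℤ, n < 0 → 𝒜 n = ⊥) (a : HomogeneousIdeal 𝒜)
  (ha : a.toIdeal = irr 𝒜)

include ha in
theorem hirr_of_ha : ∀ n : ℤ, 0 < n → ∀ r ∈ 𝒜 n, r ∈ a.toIdeal := fun n hn r hr => by
  rw [ha]; exact mem_irr_of_mem 𝒜 hn hr

include hpos ha in
theorem propI_zero : PropI 𝒜 a 0 := by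
  intro M _ _ _ ℳ _ _ E
  classical
  have : IsNoetherian R M := isNoetherian_of_isNoetherianRing_of_finite R M
  -- every class of degree `n` comes from a torsion element of degree `n`
  have key : ∀ (n : ℤ) (y : E.H a 0), y ∈ E.Hcomp a 0 n →
      ∃ m : M, m ∈ ℳ n ∧ m ∈ gam a.toIdeal M ∧ ∃ hz : E.ε m ∈ E.cocyc a 0,
        E.toH a 0 ⟨E.ε m, hz⟩ = y := by
    rintro n _ ⟨z, hz, rfl⟩
    have hz0 : (z : (E.X 0).carrier) ∈ LinearMap.range E.ε := by
      rw [← E.exact_zero]; exact z.2.2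
    obtain ⟨m, hm⟩ := hz0
    have hmn : m ∈ ℳ n := by
      have h1 := decompose_map (E.X 0).gr ℳ E.ε E.ε_grHom m n
      rw [hm, DirectSum.decompose_of_mem_same _ hz, ← hm] at h1
      have h2 := E.ε_injective h1
      rw [h2]
      exact SetLike.coe_mem _
    have hmg : m ∈ gam a.toIdeal M := by
      obtain ⟨k, hk⟩ := z.2.1
      refine ⟨k, fun r hr => E.ε_injective ?_⟩
      rw [map_smul, map_zero, hm, hk r hr]
    have hz' : E.ε m ∈ E.cocyc a 0 := by rw [hm]; exact z.2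
    refine ⟨m, hmn, hmg, hz', ?_⟩
    congr 1
    exact Subtype.ext hm
  constructor
  · intro n
    -- the `R₀`-submodule of torsion elements of degree `n`
    let T : Submodule (deg0 𝒜) M := comp 𝒜 ℳ n ⊓ (gam a.toIdeal M).restrictScalars (deg0 𝒜)
    have : IsNoetherian (deg0 𝒜) (comp 𝒜 ℳ n) := isNoetherian_comp 𝒜 ℳ n
    have : IsNoetherian (deg0 𝒜) T := isNoetherian_of_le (inf_le_left : T ≤ comp 𝒜 ℳ n)
    have hT : ∀ m : T, E.ε (m : M) ∈ E.cocyc a 0 := fun m =>
      ⟨gam_map _ E.ε m.2.2, by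
        change E.ε (m : M) ∈ LinearMap.ker (E.d 0)
        rw [E.exact_zero]; exact LinearMap.mem_range_self _ _⟩
    let Φ : T →ₗ[deg0 𝒜] E.Hcomp a 0 n :=
      { toFun := fun m => ⟨E.toH a 0 ⟨E.ε (m : M), hT m⟩,
          ⟨⟨E.ε (m : M), hT m⟩, E.ε_grHom n _ m.2.1, rfl⟩⟩
        map_add' := fun m m' => by
          apply Subtype.ext
          change E.toH a 0 ⟨E.ε ((m : M) + (m' : M)), _⟩ =
            E.toH a 0 ⟨E.ε (m : M), hT m⟩ + E.toH a 0 ⟨E.ε (m' : M), hT m'⟩
          rw [← map_add]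
          congr 1
          exact Subtype.ext (map_add E.ε _ _)
        map_smul' := fun c m => by
          apply Subtype.ext
          change E.toH a 0 ⟨E.ε ((c : R) • (m : M)), _⟩ =
            (c : R) • E.toH a 0 ⟨E.ε (m : M), hT m⟩
          rw [← map_smul]
          congr 1
          exact Subtype.ext (map_smul E.ε _ _) }
    have hΦ : Function.Surjective Φ := by
      rintro ⟨y, hy⟩
      obtain ⟨m, hmn, hmg, hz, hzy⟩ := key n y hy
      exact ⟨⟨m, hmn, hmg⟩, Subtype.ext hzy⟩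
    exact isNoetherian_of_surjective Φ (LinearMap.range_eq_top.mpr hΦ)
  · obtain ⟨r₀, hr₀⟩ := exists_bound_gam 𝒜 ℳ a (hirr_of_ha a ha)
    refine ⟨r₀, fun n hn => ?_⟩
    rw [eq_bot_iff]
    intro y hy
    obtain ⟨m, hmn, hmg, hz, rfl⟩ := key n y hy
    have hm0 : m = 0 := hr₀ n hn m hmn hmg
    rw [Submodule.mem_bot]
    have h0 : E.ε m = 0 := by rw [hm0, map_zero]
    have : (⟨E.ε m, hz⟩ : ↥(E.cocyc a 0)) = 0 := Subtype.ext h0
    rw [this, map_zero]

end Int

end Groth.Agent.Lib.T2H3.GrIrr
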