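import Groth.Agent.S11589
import Groth.Agent.S11610
import Groth.Agent.S3261
import Groth.Agent.Lib.Helper8LCDepth
import Groth.Agent.Lib.Helper8LC3
import Groth.Agent.Lib.T2H3GrIrrC

/-! Local cohomology with support in a maximal ideal of a Noetherian ring: `H^i_m(M)` is Artinian
for every finitely generated `M` (no locality assumption on the ring) (helper3). -/

set_option autoImplicit false
set_option linter.unusedSectionVars false
set_option linter.style.haveILetI false
universe u
open LocCoh CategoryTheory

namespace Groth.Agent.Lib.T2H3.GrArt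

open Groth.Agent.Lib.Helper8.ExtLES Groth.Agent.Lib.Helper8.LC Groth.Agent.Lib.Helper8.DT

variable {R : Type u} [CommRing R] [IsNoetherianRing R] (m : Ideal R) [hm : m.IsMaximal]

/-- A finitely generated module killed by a maximal ideal is Artinian. -/
theorem isArtinian_of_smul_eq_zero (N : Type u) [AddCommGroup N] [Module R N] [Module.Finite R N]
    (h : ∀ r ∈ m, ∀ x : N, r • x = 0) : IsArtinian R N := by
  have htors : Module.IsTorsionBySet R N (m : Set R) := fun x r => h r.1 r.2 x
  letI : Field (R ⧸ m) := Ideal.Quotient.field m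
  letI : Module (R ⧸ m) N := htors.module
  haveI : IsScalarTower R (R ⧸ m) N := htors.isScalarTower
  haveI : Module.Finite (R ⧸ m) N := Module.Finite.of_restrictScalars_finite R (R ⧸ m) N
  haveI : IsArtinian (R ⧸ m) N := inferInstance
  exact isArtinian_of_surjective_algebraMap (R := R ⧸ m) (S := R) Ideal.Quotient.mk_surjective

/-- A finitely generated module killed by a power of a maximal ideal is Artinian. -/
theorem isArtinian_of_pow_smul_eq_zero (t : ℕ) : ∀ (N : Type u) [AddCommGroup N] [Module R N]
    [Module.Finite R N], (∀ r ∈ m ^ t, ∀ x : N, r • x = 0) → IsArtinian R N := by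
  induction t with
  | zero =>
    intro N _ _ _ h
    haveI : Subsingleton N := ⟨fun x y => by
      have hx := h 1 (by rw [pow_zero, Ideal.one_eq_top]; exact Submodule.mem_top) x
      have hy := h 1 (by rw [pow_zero, Ideal.one_eq_top]; exact Submodule.mem_top) y
      rw [one_smul] at hx hy
      rw [hx, hy]⟩
    infer_instance
  | succ t ih =>
    intro N _ _ _ h
    haveI : IsNoetherian R N := isNoetherian_of_isNoetherianRing_of_finite R N
    let N' : Submodule R N := m • (⊤ : Submodule R N)
    haveI : IsArtinian R N' := by
      apply ih N'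
      rintro r hr ⟨y, hy⟩
      apply Subtype.ext
      change r • y = 0
      refine Submodule.smul_induction_on hy ?_ ?_
      · intro s hs x _
        rw [smul_smul]
        exact h (r * s) (by rw [pow_succ]; exact Ideal.mul_mem_mul hr hs) x
      · intro y z hy hz
        rw [smul_add, hy, hz, add_zero]
    haveI : IsArtinian R (N ⧸ N') := by
      apply isArtinian_of_smul_eq_zero m
      intro r hr x
      obtain ⟨y, rfl⟩ := Submodule.Quotient.mk_surjective _ x
      rw [← Submodule.Quotient.mk_smul, Submodule.Quotient.mk_eq_zero]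
      exact Submodule.smul_mem_smul hr Submodule.mem_top
    exact isArtinian_of_range_eq_ker N'.subtype N'.mkQ
      (by rw [Submodule.range_subtype, Submodule.ker_mkQ])

theorem isArtinian_H_zero (M : Type u) [AddCommGroup M] [Module R M] [Module.Finite R M] :
    IsArtinian R (LocCoh.H m 0 M) := by
  haveI hN : IsNoetherian R M := isNoetherian_of_isNoetherianRing_of_finite R M
  obtain ⟨s, hs⟩ := exists_pow_kills_of_fg (I := m) (DRing.torsionSub m M)
    (IsNoetherian.noetherian _) le_rfl
  haveI : IsArtinian R ↥(DRing.torsionSub m M) := by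
    apply isArtinian_of_pow_smul_eq_zero m s
    rintro r hr ⟨x, hx⟩
    exact Subtype.ext (hs r hr x hx)
  exact isArtinian_of_linearEquiv (ΦEquiv m (ModuleCat.of R M)).symm

theorem isArtinian_H_succ_of_torsionFree (i : ℕ)
    (ih : ∀ (M : Type u) [AddCommGroup M] [Module R M] [Module.Finite R M],
      IsArtinian R (LocCoh.H m i M))
    (M : Type u) [AddCommGroup M] [Module R M] [Module.Finite R M]
    (hM : DRing.torsionSub m M = ⊥) :
    IsArtinian R (LocCoh.H m (i + 1) M) := by
  obtain ⟨r, hr, hreg⟩ := Groth.Agent.S11610.result R R m M (by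
    rw [Algebra.algebraMap_self, Ideal.map_id]
    exact hM)
  rw [Algebra.algebraMap_self, RingHom.id_apply] at hreg
  let f : M →ₗ[R] M := LinearMap.lsmul R M r
  have hf : Function.Injective f := hreg
  have hg : Function.Surjective (LinearMap.range f).mkQ := Submodule.mkQ_surjective _
  have hex : Function.Exact f (LinearMap.range f).mkQ := LinearMap.exact_map_mkQ_range f
  have hS := Sfg_shortExact f _ hf hg hex
  have hQ : IsArtinian R (LocCoh.H m i (M ⧸ LinearMap.range f)) := ih _
  have hrange : IsArtinian R ↥(LinearMap.range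
      (Hδ m i (Sfg f (LinearMap.range f).mkQ hex) hS).hom) := isArtinian_range _
  have hle : Submodule.torsionBy R (LocCoh.H m (i + 1) M) r ≤
      LinearMap.range (Hδ m i (Sfg f (LinearMap.range f).mkQ hex) hS).hom := by
    intro x hx
    have h0 : r • x = 0 := (Submodule.mem_torsionBy_iff _ _).mp hx
    have h1 : (localCohomology m (i + 1)).map
        (Sfg f (LinearMap.range f).mkQ hex).f x = 0 := by
      change (localCohomology m (i + 1)).map (ModuleCat.ofHom (LinearMap.lsmul R M r)) x = 0
      rw [Groth.Agent.Lib.Helper8.LC.H_map_lsmul]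
      exact h0
    obtain ⟨z, hz⟩ := H_exact₁ m i _ hS x h1
    exact ⟨z, hz⟩
  have hsoc : IsArtinian R ↥(Submodule.torsionBy R (LocCoh.H m (i + 1) M) r) :=
    isArtinian_of_le hle
  refine Groth.Agent.S3261.artinian_principal r _ ?_ hsoc
  intro y
  obtain ⟨n, hn⟩ := isPowerTorsion_H m (i + 1) (ModuleCat.of R M) y
  exact ⟨n, hn _ (Ideal.pow_mem_pow hr n)⟩

/-- Local cohomology of a finitely generated module with support in a maximal ideal of a
Noetherian ring is Artinian. -/
theorem isArtinian_H (i : ℕ) : ∀ (M : Type u) [AddCommGroup M] [Module R M] [Module.Finite R M],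
    IsArtinian R (LocCoh.H m i M) := by
  induction i with
  | zero => intro M _ _ _; exact isArtinian_H_zero m M
  | succ i ih =>
    intro M _ _ _
    have hbij := Groth.Agent.S11589.result R m M (i + 1) (Nat.succ_pos i)
    suffices h : IsArtinian R (LocCoh.H m (i + 1) (M ⧸ DRing.torsionSub m M)) from
      isArtinian_of_linearEquiv (LinearEquiv.ofBijective _ hbij).symm
    exact isArtinian_H_succ_of_torsionFree m i ih _
      (Groth.Agent.Lib.T2H3.GrIrr.gam_quotient_eq_bot m M)

end Groth.Agent.Lib.T2H3.GrArt
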