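import Groth.Agent.Lib.T2H3GrArtA
import Groth.Agent.Lib.T2H3GrArtB

/-! *Local positively graded Noetherian rings: the *maximal ideal is a maximal ideal containing
the irrelevant ideal; graded local cohomology with support in it is Artinian, hence its pieces are
Artinian over `R₀` and vanish in high degrees (helper3). -/

set_option autoImplicit false
set_option linter.unusedSectionVars false
set_option linter.style.haveILetI false
open DirectSum

namespace Groth.Agent.Lib.T2H3.GrArt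

open GrLC Groth.Agent.Lib.Helper29GrStd Groth.Agent.Lib.T2H3.GrIrr Groth.Agent.Lib.T2H3.GrLes

universe u

section StarLocal

variable {R : Type u} [CommRing R] (𝒜 : ℤ → AddSubgroup R) [GradedRing 𝒜]

theorem irr_isHomogeneous : (irr 𝒜).IsHomogeneous 𝒜 := by
  apply Ideal.homogeneous_span
  intro x hx
  simp only [Set.mem_iUnion, Set.mem_Ioi, SetLike.mem_coe, exists_prop] at hx
  obtain ⟨n, -, hxn⟩ := hx
  exact ⟨n, hxn⟩

/-- The irrelevant ideal as a homogeneous ideal. -/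
def irrH : HomogeneousIdeal 𝒜 := ⟨irr 𝒜, irr_isHomogeneous 𝒜⟩

theorem irrH_toIdeal : (irrH 𝒜).toIdeal = irr 𝒜 := rfl

theorem sub_decompose_zero_mem_irr (hpos : ∀ n : ℤ, n < 0 → 𝒜 n = ⊥) (x : R) :
    x - (DirectSum.decompose 𝒜 x 0 : R) ∈ irr 𝒜 := by
  classical
  induction x using DirectSum.Decomposition.inductionOn 𝒜 with
  | zero =>
    rw [DirectSum.decompose_zero, DirectSum.zero_apply, ZeroMemClass.coe_zero, sub_zero]
    exact Ideal.zero_mem _
  | homogeneous x =>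
    rename_i i
    rcases lt_trichotomy i 0 with hi | hi | hi
    · have hx0 : (x : R) = 0 := by
        have h' : (x : R) ∈ (⊥ : AddSubgroup R) :=
          (congrArg (fun s : AddSubgroup R => (x : R) ∈ s) (hpos i hi)).mp x.2
        exact AddSubgroup.mem_bot.mp h'
      rw [hx0, DirectSum.decompose_zero, DirectSum.zero_apply, ZeroMemClass.coe_zero, sub_zero]
      exact Ideal.zero_mem _
    · subst hi
      rw [DirectSum.decompose_of_mem_same 𝒜 x.2, sub_self]
      exact Ideal.zero_mem _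
    · rw [DirectSum.decompose_of_mem_ne 𝒜 x.2 (ne_of_gt hi), sub_zero]
      exact mem_irr_of_mem 𝒜 hi x.2
  | add x y hx hy =>
    rw [DirectSum.decompose_add, DirectSum.add_apply, AddMemClass.coe_add]
    have : x + y - ((DirectSum.decompose 𝒜 x 0 : R) + (DirectSum.decompose 𝒜 y 0 : R)) =
        (x - (DirectSum.decompose 𝒜 x 0 : R)) + (y - (DirectSum.decompose 𝒜 y 0 : R)) := by ring
    rw [this]
    exact Ideal.add_mem _ hx hy

variable {𝒜}

theorem one_notMem_of_isStarLocal {m : HomogeneousIdeal 𝒜} (hm : IsStarLocal 𝒜 m) :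
    (1 : R) ∉ m.toIdeal := by
  intro h1
  apply hm.1.1
  rw [HomogeneousIdeal.eq_top_iff]
  exact (Ideal.eq_top_iff_one _).mpr h1

/-- In a *local ring without negative part the irrelevant ideal lies in the *maximal ideal. -/
theorem irr_le_of_isStarLocal (hpos : ∀ n : ℤ, n < 0 → 𝒜 n = ⊥) {m : HomogeneousIdeal 𝒜}
    (hm : IsStarLocal 𝒜 m) : irr 𝒜 ≤ m.toIdeal := by
  classical
  by_cases hK : m ⊔ irrH 𝒜 = m
  · have h1 : irrH 𝒜 ≤ m := by rw [← hK]; exact le_sup_right
    exact h1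
  · exfalso
    have hlt : m < m ⊔ irrH 𝒜 := lt_of_le_of_ne le_sup_left (Ne.symm hK)
    have htop := hm.1.2 _ hlt
    have h2 : (1 : R) ∈ m.toIdeal ⊔ irr 𝒜 := by
      rw [← irrH_toIdeal, ← HomogeneousIdeal.toIdeal_sup, htop, HomogeneousIdeal.toIdeal_top]
      exact Submodule.mem_top
    obtain ⟨a, ha, b, hb, hab⟩ := Submodule.mem_sup.mp h2
    apply one_notMem_of_isStarLocal hm
    have h3 : ((decompose 𝒜 (1 : R)) 0 : R) = 1 :=
      DirectSum.decompose_of_mem_same 𝒜 SetLike.GradedOne.one_mem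
    rw [← h3, ← hab, DirectSum.decompose_add, DirectSum.add_apply, AddMemClass.coe_add,
      decompose_zero_eq_zero_of_mem_irr 𝒜 hpos hb, add_zero]
    exact m.isHomogeneous 0 ha

/-- In a *local ring without negative part the *maximal ideal is a maximal ideal. -/
theorem isMaximal_of_isStarLocal (hpos : ∀ n : ℤ, n < 0 → 𝒜 n = ⊥) {m : HomogeneousIdeal 𝒜}
    (hm : IsStarLocal 𝒜 m) : m.toIdeal.IsMaximal := by
  classical
  rw [Ideal.isMaximal_iff]
  refine ⟨one_notMem_of_isStarLocal hm, fun J x hmJ hxm hxJ => ?_⟩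
  have hsub : x - ((decompose 𝒜 x) 0 : R) ∈ m.toIdeal :=
    irr_le_of_isStarLocal hpos hm (sub_decompose_zero_mem_irr 𝒜 hpos x)
  have hx0m : ((decompose 𝒜 x) 0 : R) ∉ m.toIdeal := by
    intro h
    apply hxm
    have : x = (x - ((decompose 𝒜 x) 0 : R)) + ((decompose 𝒜 x) 0 : R) := by ring
    rw [this]
    exact Ideal.add_mem _ hsub h
  have hx0J : ((decompose 𝒜 x) 0 : R) ∈ J := by
    have : ((decompose 𝒜 x) 0 : R) = x - (x - ((decompose 𝒜 x) 0 : R)) := by ring
    rw [this]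
    exact Ideal.sub_mem _ hxJ (hmJ hsub)
  have hsp : (Ideal.span {((decompose 𝒜 x) 0 : R)}).IsHomogeneous 𝒜 := by
    apply Ideal.homogeneous_span
    intro y hy
    rw [Set.mem_singleton_iff] at hy
    subst hy
    exact ⟨0, SetLike.coe_mem _⟩
  obtain ⟨K, hKdef⟩ : ∃ K : HomogeneousIdeal 𝒜, K = m ⊔ ⟨Ideal.span {((decompose 𝒜 x) 0 : R)}, hsp⟩ :=
    ⟨_, rfl⟩
  have hKI : K.toIdeal = m.toIdeal ⊔ Ideal.span {((decompose 𝒜 x) 0 : R)} := by
    rw [hKdef, HomogeneousIdeal.toIdeal_sup]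
  have hmK : m < K := by
    refine lt_of_le_of_ne (by rw [hKdef]; exact le_sup_left) ?_
    intro h
    apply hx0m
    rw [h, hKI]
    exact Ideal.mem_sup_right (Ideal.subset_span rfl)
  have htop := hm.1.2 _ hmK
  have h1 : (1 : R) ∈ K.toIdeal := by
    rw [htop, HomogeneousIdeal.toIdeal_top]
    exact Submodule.mem_top
  rw [hKI] at h1
  refine (sup_le hmJ ?_ : m.toIdeal ⊔ Ideal.span {((decompose 𝒜 x) 0 : R)} ≤ J) h1
  rw [Ideal.span_le]
  intro y hy
  rw [Set.mem_singleton_iff] at hy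
  subst hy
  exact hx0J

end StarLocal

section Hgr

variable {ι : Type} [AddCommGroup ι] [DecidableEq ι]
variable {R : Type u} [CommRing R] {𝒜 : ι → AddSubgroup R} [GradedRing 𝒜]
variable {M : Type u} [AddCommGroup M] [Module R M] {ℳ : ι → AddSubgroup M}
  [DirectSum.Decomposition ℳ] [SetLike.GradedSMul 𝒜 ℳ]

theorem Hgr_gradedSMul (E : StarInjRes 𝒜 ℳ) (a : HomogeneousIdeal 𝒜) (i : ℕ) :
    SetLike.GradedSMul 𝒜 (E.Hgr a i) :=
  ⟨fun {d n x y} hx hy => by
    have h := smul_mem_Hcomp E a i hx (n := n) (y := y) hy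
    rw [vadd_eq_add, add_comm]
    exact h⟩

theorem comp_Hgr (E : StarInjRes 𝒜 ℳ) (a : HomogeneousIdeal 𝒜) (i : ℕ) (n : ι)
    [SetLike.GradedSMul 𝒜 (E.Hgr a i)] : comp 𝒜 (E.Hgr a i) n = E.Hcomp a i n :=
  Submodule.ext fun _ => Iff.rfl

end Hgr

section Main

variable {R : Type u} [CommRing R] [IsNoetherianRing R] {𝒜 : ℤ → AddSubgroup R} [GradedRing 𝒜]
variable {M : Type u} [AddCommGroup M] [Module R M] [Module.Finite R M] {ℳ : ℤ → AddSubgroup M}
  [DirectSum.Decomposition ℳ] [SetLike.GradedSMul 𝒜 ℳ]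

/-- Graded local cohomology of a finite graded module with support in the *maximal ideal of a
*local positively graded Noetherian ring is an Artinian module. -/
theorem isArtinian_H_of_isStarLocal (hpos : ∀ n : ℤ, n < 0 → 𝒜 n = ⊥) {m : HomogeneousIdeal 𝒜}
    (hm : IsStarLocal 𝒜 m) (E : StarInjRes 𝒜 ℳ) (i : ℕ) : IsArtinian R (E.H m i) := by
  haveI := isMaximal_of_isStarLocal hpos hm
  obtain ⟨e⟩ := Groth.Agent.S13224.result R 𝒜 m M ℳ E i
  haveI := isArtinian_H m.toIdeal i M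
  exact isArtinian_of_linearEquiv e.symm

/-- The pieces are Artinian over the degree-zero subring. -/
theorem isArtinian_Hcomp_of_isStarLocal (hpos : ∀ n : ℤ, n < 0 → 𝒜 n = ⊥)
    {m : HomogeneousIdeal 𝒜} (hm : IsStarLocal 𝒜 m) (E : StarInjRes 𝒜 ℳ) (i : ℕ) (n : ℤ) :
    IsArtinian (deg0 𝒜) (E.Hcomp m i n) := by
  haveI := isArtinian_H_of_isStarLocal hpos hm E i
  letI := HgrDecomposition E m i
  haveI := Hgr_gradedSMul E m i
  have h := isArtinian_comp 𝒜 (E.Hgr m i) n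
  rwa [comp_Hgr] at h

/-- The pieces vanish in high degrees. -/
theorem exists_Hcomp_eq_bot_of_isStarLocal (hpos : ∀ n : ℤ, n < 0 → 𝒜 n = ⊥)
    {m : HomogeneousIdeal 𝒜} (hm : IsStarLocal 𝒜 m) (E : StarInjRes 𝒜 ℳ) (i : ℕ) :
    ∃ N : ℤ, ∀ n : ℤ, N ≤ n → E.Hcomp m i n = ⊥ := by
  haveI := isArtinian_H_of_isStarLocal hpos hm E i
  letI := HgrDecomposition E m i
  haveI := Hgr_gradedSMul E m i
  obtain ⟨N, hN⟩ := exists_piece_eq_bot 𝒜 (E.Hgr m i) hpos
  refine ⟨N, fun n hn => ?_⟩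
  have h := hN n hn
  rw [eq_bot_iff]
  intro y hy
  have : y ∈ E.Hgr m i n := hy
  rw [h] at this
  exact (Submodule.mem_bot _).mpr (AddSubgroup.mem_bot.mp this)

end Main

end Groth.Agent.Lib.T2H3.GrArt
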