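import Groth.Agent.Lib.T2H3VerC
import Groth.Agent.Lib.Helper29Cone
import Groth.Agent.Lib.Helper29GrCompare
import Groth.Agent.Lib.T2H3GrLesF
import Groth.Agent.Lib.T2H3GorCanon

/-! Base independence of graded local cohomology (helper3), part A.  For a homogeneous ring map
`R → S` of Noetherian graded rings, homogeneous ideals `m ⊆ R`, `m' ⊆ S` with
`rad(mS) = rad(m')` and a graded `S`-module `M`, the graded local cohomology `H^i_{m'}(M)` computed
from a *injective resolution over `S` is isomorphic, compatibly with degrees and `R`-semilinearly,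
to `H^i_m(M)` computed from a *injective resolution of `M` over `R`. -/

set_option autoImplicit false
set_option linter.unusedSectionVars false
set_option linter.unusedVariables false
set_option linter.style.haveILetI false
set_option maxHeartbeats 1000000
open DirectSum CategoryTheory

noncomputable section

namespace Groth.Agent.Lib.T2H3.GrBInd

open GrLC Groth.Agent.Lib.T2H3.Ver Groth.Agent.Lib.T2H3.GrLes Groth.Agent.Lib.Helper29LCAcyclic

universe u

section AddLemma

/-- Two surjections with the same kernel have isomorphic targets. -/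
theorem exists_addEquiv_of_ker_eq {Z A B : Type*} [AddCommGroup Z] [AddCommGroup A]
    [AddCommGroup B] (p : Z →+ A) (q : Z →+ B) (hp : Function.Surjective p)
    (hq : Function.Surjective q) (h : ∀ z, p z = 0 ↔ q z = 0) :
    ∃ e : A ≃+ B, ∀ z, e (p z) = q z := by
  have key : ∀ z, q (Function.surjInv hp (p z)) = q z := by
    intro z
    have h1 : p (Function.surjInv hp (p z) - z) = 0 := by
      rw [map_sub, Function.surjInv_eq hp, sub_self]
    have h2 := (h _).mp h1
    rw [map_sub, sub_eq_zero] at h2
    exact h2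
  let f : A →+ B :=
    { toFun := fun x => q (Function.surjInv hp x)
      map_zero' := by
        have := key 0
        rw [map_zero, map_zero] at this
        exact this
      map_add' := fun x y => by
        obtain ⟨z, rfl⟩ := hp x
        obtain ⟨z', rfl⟩ := hp y
        rw [← map_add, key, key, key, map_add] }
  have hf : ∀ z, f (p z) = q z := key
  have hbij : Function.Bijective f := by
    constructor
    · rw [injective_iff_map_eq_zero]
      intro x hx
      obtain ⟨z, rfl⟩ := hp x
      rw [hf] at hx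
      exact (h z).mpr hx
    · intro b
      obtain ⟨z, rfl⟩ := hq b
      exact ⟨p z, hf z⟩
  exact ⟨AddEquiv.ofBijective f hbij, hf⟩

end AddLemma

variable {R S : Type u} [CommRing R] [CommRing S] [Algebra R S]
  {𝒜 : ℤ → AddSubgroup R} [GradedRing 𝒜] {𝒜' : ℤ → AddSubgroup S} [GradedRing 𝒜']
  (hf : ∀ (j : ℤ) (r : R), r ∈ 𝒜 j → algebraMap R S r ∈ 𝒜' j)
  (m : HomogeneousIdeal 𝒜) (m' : HomogeneousIdeal 𝒜')

/-- Restriction of a graded module along `R → S`. -/
def resG (X : GMod.{u} 𝒜') : GMod.{u} 𝒜 where
  carrier := Rs (algebraMap R S) X.carrier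
  gr := X.gr
  dec := X.dec
  gsmul := ⟨fun {i j r x} hr hx => by
    have h := X.gsmul.smul_mem (hf i r hr) (show (show X.carrier from x) ∈ X.gr j from hx)
    exact h⟩

/-- Restriction of a linear map. -/
def resLin {A B : Type u} [AddCommGroup A] [Module S A] [AddCommGroup B] [Module S B]
    (f : A →ₗ[S] B) : Rs (algebraMap R S) A →ₗ[R] Rs (algebraMap R S) B where
  toFun := f
  map_add' := f.map_add
  map_smul' r x := f.map_smul (algebraMap R S r) x

theorem resLin_apply {A B : Type u} [AddCommGroup A] [Module S A] [AddCommGroup B] [Module S B]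
    (f : A →ₗ[S] B) (x : A) : resLin (R := R) f x = f x := rfl

section Gam

variable [IsNoetherianRing S]
  (hrad : (m.toIdeal.map (algebraMap R S)).radical = m'.toIdeal.radical)
  (N : Type u) [AddCommGroup N] [Module S N]

omit [GradedRing 𝒜] [GradedRing 𝒜'] in
theorem smul_eq_zero_of_mem_map_pow (J : Ideal R) (k : ℕ) (x : N)
    (hk : ∀ r ∈ J ^ k, algebraMap R S r • x = 0) {s : S}
    (hs : s ∈ (J.map (algebraMap R S)) ^ k) : s • x = 0 := by
  rw [← Ideal.map_pow] at hs
  refine Submodule.span_induction (p := fun s _ => s • x = 0) ?_ ?_ ?_ ?_ hs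
  · rintro _ ⟨r, hr, rfl⟩
    exact hk r hr
  · exact zero_smul _ _
  · intro r s _ _ hr hs
    rw [add_smul, hr, hs, add_zero]
  · intro c r _ hr
    rw [smul_eq_mul, mul_smul, hr, smul_zero]

include hrad in
theorem mem_gam_res_iff (x : N) :
    (show Rs (algebraMap R S) N from x) ∈ gam m.toIdeal (Rs (algebraMap R S) N) ↔
      x ∈ gam m'.toIdeal N := by
  constructor
  · rintro ⟨k, hk⟩
    have hle : m'.toIdeal ≤ (m.toIdeal.map (algebraMap R S)).radical := by
      rw [hrad]
      exact Ideal.le_radical
    obtain ⟨t, ht⟩ := Ideal.exists_pow_le_of_le_radical_of_fg hle (IsNoetherian.noetherian _)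
    refine ⟨t * k, fun s hs => ?_⟩
    rw [pow_mul] at hs
    exact smul_eq_zero_of_mem_map_pow (S := S) N m.toIdeal k x (fun r hr => hk r hr)
      (Ideal.pow_right_mono ht k hs)
  · rintro ⟨k, hk⟩
    have hle : m.toIdeal.map (algebraMap R S) ≤ m'.toIdeal.radical := by
      rw [← hrad]
      exact Ideal.le_radical
    obtain ⟨t, ht⟩ := Ideal.exists_pow_le_of_le_radical_of_fg hle (IsNoetherian.noetherian _)
    refine ⟨t * k, fun r hr => ?_⟩
    change algebraMap R S r • x = 0
    apply hk
    have h1 : algebraMap R S r ∈ (m.toIdeal.map (algebraMap R S)) ^ (t * k) := by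
      rw [← Ideal.map_pow]
      exact Ideal.mem_map_of_mem _ hr
    rw [pow_mul] at h1
    exact Ideal.pow_right_mono ht k h1

end Gam

section Acyc

variable [IsNoetherianRing R] [IsNoetherianRing S]
  (hrad : (m.toIdeal.map (algebraMap R S)).radical = m'.toIdeal.radical)
  {N : Type u} [AddCommGroup N] [Module S N] (𝒩 : ℤ → AddSubgroup N)
  [DirectSum.Decomposition 𝒩] [SetLike.GradedSMul 𝒜' 𝒩]

include hrad in
/-- A *injective `S`-module is acyclic for `Γ_m` over `R`. -/
theorem LC_res_eq_zero (hI : IsStarInj 𝒜' 𝒩) (j : ℕ)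
    (x : LC m.toIdeal (j + 1) (Rs (algebraMap R S) N)) : x = 0 := by
  haveI : IsScalarTower R S (Rs (algebraMap R S) N) := ⟨fun r s y => by
    rw [Algebra.smul_def]
    change (algebraMap R S r * s) • (show N from y) = algebraMap R S r • (s • (show N from y))
    rw [mul_smul]⟩
  obtain ⟨ψ, -⟩ := Groth.Agent.S11614.result R S m.toIdeal (Rs (algebraMap R S) N) (j + 1)
  haveI h0 : Subsingleton (LocCoh.H m'.toIdeal (j + 1) N) :=
    Groth.Agent.S13217.result S 𝒜' m' N 𝒩 hI (j + 1) (Nat.le_add_left 1 j)
  haveI h1 : Subsingleton (LocCoh.H (Ideal.map (algebraMap R S) m.toIdeal) (j + 1)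
      (Rs (algebraMap R S) N)) :=
    Groth.Agent.Lib.Helper8.Acyc.subsingleton_of_radical_eq (K := m'.toIdeal) hrad (j + 1) N h0
  haveI h2 : Subsingleton (LocCoh.H m.toIdeal (j + 1) (Rs (algebraMap R S) N)) :=
    ψ.symm.injective.subsingleton
  exact Subsingleton.elim _ _

end Acyc

end Groth.Agent.Lib.T2H3.GrBInd
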