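import Groth.Agent.Lib.T2H3GrBIndA

/-! Base independence of graded local cohomology (helper3), part B: the comparison isomorphism. -/

set_option autoImplicit false
set_option linter.unusedSectionVars false
set_option linter.unusedVariables false
set_option linter.style.haveILetI false
set_option maxHeartbeats 1000000
open DirectSum CategoryTheory

noncomputable section

namespace Groth.Agent.Lib.T2H3.GrBInd

open GrLC Groth.Agent.Lib.T2H3.Ver Groth.Agent.Lib.T2H3.GrLes Groth.Agent.Lib.Helper29LCAcyclic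

universe u

variable {R S : Type u} [CommRing R] [CommRing S] [Algebra R S] [IsNoetherianRing R]
  [IsNoetherianRing S]
  {𝒜 : ℤ → AddSubgroup R} [GradedRing 𝒜] {𝒜' : ℤ → AddSubgroup S} [GradedRing 𝒜']
  (hf : ∀ (j : ℤ) (r : R), r ∈ 𝒜 j → algebraMap R S r ∈ 𝒜' j)
  (m : HomogeneousIdeal 𝒜) (m' : HomogeneousIdeal 𝒜')
  (hrad : (m.toIdeal.map (algebraMap R S)).radical = m'.toIdeal.radical)
  {M : Type u} [AddCommGroup M] [Module S M] [Module R M] [IsScalarTower R S M]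
  {ℳ : ℤ → AddSubgroup M} [DirectSum.Decomposition ℳ] [SetLike.GradedSMul 𝒜' ℳ]
  [SetLike.GradedSMul 𝒜 ℳ]
  (E : StarInjRes 𝒜' ℳ) (F : StarInjRes 𝒜 ℳ)

/-- The terms of the restricted complex. -/
abbrev XR (n : ℕ) : GMod.{u} 𝒜 := resG hf (E.X n)

/-- The differentials of the restricted complex. -/
def dR (n : ℕ) : (XR hf E n).carrier →ₗ[R] (XR hf E (n + 1)).carrier :=
  (resLin (R := R) (E.d n) :
    Rs (algebraMap R S) (E.X n).carrier →ₗ[R] Rs (algebraMap R S) (E.X (n + 1)).carrier)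

theorem dR_apply (n : ℕ) (x : (E.X n).carrier) : dR hf E n x = E.d n x := rfl

/-- The augmentation of the restricted complex. -/
def εR : M →ₗ[R] (XR hf E 0).carrier where
  toFun := E.ε
  map_add' := E.ε.map_add
  map_smul' r x := by
    change E.ε (r • x) = algebraMap R S r • E.ε x
    rw [← algebraMap_smul S r x, map_smul]

theorem εR_apply (x : M) : εR hf E x = E.ε x := rfl

theorem dR_isGr (n : ℕ) : IsGrHom (XR hf E n).gr (XR hf E (n + 1)).gr (dR hf E n) :=
  E.d_grHom n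

theorem εR_isGr : IsGrHom ℳ (XR hf E 0).gr (εR hf E) := E.ε_grHom

theorem εR_injective : Function.Injective (εR hf E) := E.ε_injective

theorem exactR_zero : LinearMap.ker (dR hf E 0) = LinearMap.range (εR hf E) := by
  ext x
  exact SetLike.ext_iff.mp E.exact_zero x

theorem exactR_succ (n : ℕ) :
    LinearMap.ker (dR hf E (n + 1)) = LinearMap.range (dR hf E n) := by
  ext x
  exact SetLike.ext_iff.mp (E.exact_succ n) x

theorem exists_theta : ∃ θ : ∀ n, (XR hf E n).carrier →ₗ[R] (F.X n).carrier,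
    (∀ n, IsGrHom (XR hf E n).gr (F.X n).gr (θ n)) ∧ (∀ y : M, θ 0 (εR hf E y) = F.ε y) ∧
    ∀ (n : ℕ) (x : (XR hf E n).carrier), θ (n + 1) (dR hf E n x) = F.d n (θ n x) :=
  Groth.Agent.Lib.Helper29GrCompare.exists_comparison 𝒜 ℳ (XR hf E) (dR hf E) (εR hf E)
    (dR_isGr hf E) (εR_isGr hf E) (exactR_zero hf E) (exactR_succ hf E) F (εR_injective hf E)

include hrad in
theorem hacycX (n j : ℕ) (x : LC m.toIdeal (j + 1) (XR hf E n).carrier) : x = 0 :=
  LC_res_eq_zero m m' hrad (E.X n).gr (E.starInj n) j x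

theorem hacycF (n j : ℕ) (x : LC m.toIdeal (j + 1) (F.X n).carrier) : x = 0 := by
  haveI := Groth.Agent.S13217.result R 𝒜 m (F.X n).carrier (F.X n).gr (F.starInj n)
    (j + 1) (Nat.le_add_left 1 j)
  exact Subsingleton.elim _ _

theorem hcobF (p : ℕ) : Groth.Agent.Lib.Helper29Cone.cobdy m.toIdeal
    (fun n => (F.X n).carrier) F.d p = F.cobdy m p := by
  cases p <;> rfl

/-- The common module of cocycles. -/
def Zc (p : ℕ) : Submodule R (XR hf E p).carrier :=
  gam m.toIdeal (XR hf E p).carrier ⊓ LinearMap.ker (dR hf E p)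

/-- The coboundaries of the restricted complex. -/
abbrev cobR (p : ℕ) : Submodule R (XR hf E p).carrier :=
  Groth.Agent.Lib.Helper29Cone.cobdy m.toIdeal (fun n => (XR hf E n).carrier) (dR hf E) p

include hrad in
theorem Zc_E_cocyc {p : ℕ} {z : (XR hf E p).carrier} (hz : z ∈ Zc hf m E p) :
    (show (E.X p).carrier from z) ∈ E.cocyc m' p := by
  obtain ⟨h1, h2⟩ := Submodule.mem_inf.mp hz
  exact Submodule.mem_inf.mpr ⟨(mem_gam_res_iff m m' hrad (E.X p).carrier z).mp h1, h2⟩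

include hrad in
theorem E_cocyc_Zc {p : ℕ} {z : (E.X p).carrier} (hz : z ∈ E.cocyc m' p) :
    (show (XR hf E p).carrier from z) ∈ Zc hf m E p := by
  obtain ⟨h1, h2⟩ := Submodule.mem_inf.mp hz
  exact Submodule.mem_inf.mpr ⟨(mem_gam_res_iff m m' hrad (E.X p).carrier z).mpr h1, h2⟩

include hrad in
theorem mem_cobR_iff (p : ℕ) (z : (XR hf E p).carrier) :
    z ∈ cobR hf m E p ↔ (show (E.X p).carrier from z) ∈ E.cobdy m' p := by
  cases p with
  | zero => exact Iff.rfl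
  | succ n =>
    constructor
    · rintro ⟨w, hw, rfl⟩
      exact ⟨w, (mem_gam_res_iff m m' hrad (E.X n).carrier w).mp hw, rfl⟩
    · rintro ⟨w, hw, rfl⟩
      exact ⟨w, (mem_gam_res_iff m m' hrad (E.X n).carrier w).mpr hw, rfl⟩

/-- The class map to `H^p_{m'}(M)` over `S`. -/
def pE (p : ℕ) : ↥(Zc hf m E p) →+ E.H m' p :=
  AddMonoidHom.mk' (fun z => E.toH m' p ⟨(show (E.X p).carrier from (z : (XR hf E p).carrier)),
    Zc_E_cocyc hf m m' hrad E z.2⟩) (by
    intro z w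
    rw [← map_add]
    rfl)

theorem pE_apply (p : ℕ) (z : ↥(Zc hf m E p)) :
    pE hf m m' hrad E p z = E.toH m' p ⟨(show (E.X p).carrier from (z : (XR hf E p).carrier)),
      Zc_E_cocyc hf m m' hrad E z.2⟩ := rfl

theorem pE_surjective (p : ℕ) : Function.Surjective (pE hf m m' hrad E p) := by
  intro y
  obtain ⟨w, rfl⟩ := toH_surjective E m' p y
  exact ⟨⟨_, E_cocyc_Zc hf m m' hrad E w.2⟩, rfl⟩

theorem pE_eq_zero_iff (p : ℕ) (z : ↥(Zc hf m E p)) :
    pE hf m m' hrad E p z = 0 ↔ (z : (XR hf E p).carrier) ∈ cobR hf m E p := by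
  rw [pE_apply, toH_eq_zero_iff, mem_cobR_iff hf m m' hrad E]

theorem pE_smul (p : ℕ) (r : R) (z : ↥(Zc hf m E p)) :
    pE hf m m' hrad E p (r • z) = algebraMap R S r • pE hf m m' hrad E p z := by
  rw [pE_apply, pE_apply, ← map_smul]
  rfl

variable (θ : ∀ n, (XR hf E n).carrier →ₗ[R] (F.X n).carrier)
  (hθgr : ∀ n, IsGrHom (XR hf E n).gr (F.X n).gr (θ n))
  (hθ0 : ∀ y : M, θ 0 (εR hf E y) = F.ε y)
  (hθ : ∀ (n : ℕ) (x : (XR hf E n).carrier), θ (n + 1) (dR hf E n x) = F.d n (θ n x))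

include hθ in
theorem Zc_F_cocyc {p : ℕ} {z : (XR hf E p).carrier} (hz : z ∈ Zc hf m E p) :
    θ p z ∈ F.cocyc m p := by
  obtain ⟨h1, h2⟩ := Submodule.mem_inf.mp hz
  refine Submodule.mem_inf.mpr ⟨gam_map m.toIdeal (θ p) h1, ?_⟩
  rw [LinearMap.mem_ker] at h2 ⊢
  rw [← hθ, h2, map_zero]

include hθ in
theorem theta_mem_of_mem_cobR (p : ℕ) {z : (XR hf E p).carrier} (h : z ∈ cobR hf m E p) :
    θ p z ∈ F.cobdy m p := by
  cases p with
  | zero =>
    have hz : z = 0 := (Submodule.mem_bot R).mp h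
    rw [hz, map_zero]
    exact zero_mem _
  | succ n =>
    obtain ⟨w, hw, rfl⟩ := h
    exact ⟨θ n w, gam_map m.toIdeal (θ n) hw, (hθ n w).symm⟩

/-- The class map to `H^p_m(M)` over `R`. -/
def pF (p : ℕ) : ↥(Zc hf m E p) →ₗ[R] F.H m p :=
  (F.toH m p) ∘ₗ ((θ p).restrict (fun _ hz => Zc_F_cocyc hf m E F θ hθ hz) :
    ↥(Zc hf m E p) →ₗ[R] ↥(F.cocyc m p))

theorem pF_apply (p : ℕ) (z : ↥(Zc hf m E p)) :
    pF hf m E F θ hθ p z = F.toH m p ⟨θ p z, Zc_F_cocyc hf m E F θ hθ z.2⟩ := rfl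

include hrad hθ0 in
theorem pF_surjective (p : ℕ) : Function.Surjective (pF hf m E F θ hθ p) := by
  intro y
  obtain ⟨w, rfl⟩ := toH_surjective F m p y
  obtain ⟨x, hx1, hx2, hx3⟩ := Groth.Agent.Lib.Helper29Cone.comparison_surj m.toIdeal
    (fun n => (XR hf E n).carrier) (dR hf E)
    (εR hf E) (exactR_succ hf E) (exactR_zero hf E) (hacycX hf m m' hrad E)
    (fun n => (F.X n).carrier) F.d F.ε
    F.exact_succ F.ε_injective F.exact_zero (hacycF m F) θ hθ0 hθ p
    (w : (F.X p).carrier) (Submodule.mem_inf.mp w.2).1 (Submodule.mem_inf.mp w.2).2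
  rw [hcobF] at hx3
  refine ⟨⟨x, Submodule.mem_inf.mpr ⟨hx1, hx2⟩⟩, ?_⟩
  rw [pF_apply, toH_eq_toH_iff]
  have h6 := neg_mem hx3
  rw [neg_sub] at h6
  exact h6

include hrad hθ0 in
theorem pF_eq_zero_iff (p : ℕ) (z : ↥(Zc hf m E p)) :
    pF hf m E F θ hθ p z = 0 ↔ (z : (XR hf E p).carrier) ∈ cobR hf m E p := by
  rw [pF_apply, toH_eq_zero_iff]
  constructor
  · intro h1
    rw [← hcobF] at h1
    exact Groth.Agent.Lib.Helper29Cone.comparison_inj m.toIdeal
      (fun n => (XR hf E n).carrier) (dR hf E)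
      (εR hf E) (exactR_succ hf E) (exactR_zero hf E) (hacycX hf m m' hrad E)
      (fun n => (F.X n).carrier) F.d F.ε
      F.exact_succ F.ε_injective F.exact_zero (hacycF m F) θ hθ0 hθ p z
      (Submodule.mem_inf.mp z.2).1 (Submodule.mem_inf.mp z.2).2 h1
  · intro h
    exact theta_mem_of_mem_cobR hf m E F θ hθ p h

end Groth.Agent.Lib.T2H3.GrBInd
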