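import Groth.Agent.Lib.T2H3GrBIndB

/-! Base independence of graded local cohomology (helper3), part C: the isomorphism. -/

set_option autoImplicit false
set_option linter.unusedSectionVars false
set_option linter.unusedVariables false
set_option linter.style.haveILetI false
set_option maxHeartbeats 1000000
open DirectSum CategoryTheory

noncomputable section

namespace Groth.Agent.Lib.T2H3.GrBInd

open GrLC Groth.Agent.Lib.T2H3.Ver Groth.Agent.Lib.T2H3.GrLes Groth.Agent.Lib.Helper29LCAcyclic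

universe u

variable {R S : Type u} [CommRing R] [CommRing S] [Algebra R S] [IsNoetherianRing R]
  [IsNoetherianRing S]
  {𝒜 : ℤ → AddSubgroup R} [GradedRing 𝒜] {𝒜' : ℤ → AddSubgroup S} [GradedRing 𝒜']
  (hf : ∀ (j : ℤ) (r : R), r ∈ 𝒜 j → algebraMap R S r ∈ 𝒜' j)
  (m : HomogeneousIdeal 𝒜) (m' : HomogeneousIdeal 𝒜')
  (hrad : (m.toIdeal.map (algebraMap R S)).radical = m'.toIdeal.radical)
  {M : Type u} [AddCommGroup M] [Module S M] [Module R M] [IsScalarTower R S M]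
  {ℳ : ℤ → AddSubgroup M} [DirectSum.Decomposition ℳ] [SetLike.GradedSMul 𝒜' ℳ]
  [SetLike.GradedSMul 𝒜 ℳ]
  (E : StarInjRes 𝒜' ℳ) (F : StarInjRes 𝒜 ℳ)

include hf hrad in
/-- **Base independence of graded local cohomology.** -/
theorem exists_equiv (p : ℕ) :
    ∃ Θ : E.H m' p ≃+ F.H m p,
      (∀ (r : R) (x : E.H m' p), Θ (algebraMap R S r • x) = r • Θ x) ∧
      (∀ (g : ℤ) (x : E.H m' p), x ∈ E.Hgr m' p g → Θ x ∈ F.Hgr m p g) ∧
      (∀ (g : ℤ) (y : F.H m p), y ∈ F.Hgr m p g → Θ.symm y ∈ E.Hgr m' p g) := by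
  classical
  obtain ⟨θ, hθgr, hθ0, hθ⟩ := exists_theta hf E F
  obtain ⟨Θ, hΘ⟩ := exists_addEquiv_of_ker_eq (pE hf m m' hrad E p)
    (pF hf m E F θ hθ p).toAddMonoidHom (pE_surjective hf m m' hrad E p)
    (pF_surjective hf m m' hrad E F θ hθ0 hθ p)
    (fun z => (pE_eq_zero_iff hf m m' hrad E p z).trans
      (pF_eq_zero_iff hf m m' hrad E F θ hθ0 hθ p z).symm)
  have hΘ' : ∀ z, Θ (pE hf m m' hrad E p z) = pF hf m E F θ hθ p z := hΘ
  have hsemi : ∀ (r : R) (x : E.H m' p), Θ (algebraMap R S r • x) = r • Θ x := by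
    intro r x
    obtain ⟨z, rfl⟩ := pE_surjective hf m m' hrad E p x
    rw [← pE_smul, hΘ', hΘ', map_smul]
  have hgr : ∀ (g : ℤ) (x : E.H m' p), x ∈ E.Hgr m' p g → Θ x ∈ F.Hgr m p g := by
    rintro g x ⟨w, hw, rfl⟩
    have h1 : pE hf m m' hrad E p ⟨_, E_cocyc_Zc hf m m' hrad E w.2⟩ = E.toH m' p w := rfl
    rw [← h1, hΘ', pF_apply]
    exact ⟨⟨θ p _, _⟩, hθgr p g _ hw, rfl⟩
  refine ⟨Θ, hsemi, hgr, ?_⟩
  letI modR : Module R (E.H m' p) := Module.compHom _ (algebraMap R S)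
  letI decE : DirectSum.Decomposition (E.Hgr m' p) := HgrDecomposition E m' p
  letI decF : DirectSum.Decomposition (F.Hgr m p) := HgrDecomposition F m p
  let ΘL : E.H m' p ≃ₗ[R] F.H m p :=
    { Θ with
      map_smul' := fun r x => hsemi r x }
  intro g y hy
  have h1 := Groth.Agent.Lib.T2H3.GorCanon.symm_deg (E.Hgr m' p) (F.Hgr m p) ΘL 0
    (fun g x hx => by rw [add_zero]; exact hgr g x hx) hy
  rw [sub_zero] at h1
  exact h1

end Groth.Agent.Lib.T2H3.GrBInd
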