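import Groth.Agent.Lib.T2H3GrDimA
import Groth.Agent.Lib.T2H3GrArtC

/-! *Local positively graded Noetherian rings: every proper homogeneous ideal lies in the
*maximal ideal `m`, every prime has height at most `ht m`, and `dim R = ht m` (helper3). -/

set_option autoImplicit false
set_option linter.unusedSectionVars false
set_option linter.style.haveILetI false
open DirectSum

namespace Groth.Agent.Lib.T2H3.GrDim

open GrLC Groth.Agent.Lib.T2H3.GrArt

universe u

variable {R : Type u} [CommRing R] [IsNoetherianRing R] {𝒜 : ℤ → AddSubgroup R} [GradedRing 𝒜]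

/-- In a *local Noetherian graded ring every proper homogeneous ideal lies in the *maximal
ideal. -/
theorem le_of_isStarLocal {m : HomogeneousIdeal 𝒜} (hm : IsStarLocal 𝒜 m)
    (J : HomogeneousIdeal 𝒜) (hJ : J ≠ ⊤) : J ≤ m := by
  haveI : WellFoundedGT (HomogeneousIdeal 𝒜) :=
    StrictMono.wellFoundedGT (f := fun K : HomogeneousIdeal 𝒜 => K.toIdeal) (fun _ _ h => h)
  obtain ⟨K, ⟨hJK, hKtop⟩, hKmax⟩ := WellFounded.has_min (wellFounded_gt (α := HomogeneousIdeal 𝒜))
    {K : HomogeneousIdeal 𝒜 | J ≤ K ∧ K ≠ ⊤} ⟨J, le_rfl, hJ⟩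
  have hco : IsCoatom K := by
    refine ⟨hKtop, fun b hb => ?_⟩
    by_contra hbtop
    exact hKmax b ⟨le_trans hJK hb.le, hbtop⟩ hb
  rw [← hm.2 K hco]
  exact hJK

theorem height_le_of_isStarLocal (hpos : ∀ n : ℤ, n < 0 → 𝒜 n = ⊥) {m : HomogeneousIdeal 𝒜}
    (hm : IsStarLocal 𝒜 m) (p : Ideal R) [hp : p.IsPrime] : p.height ≤ m.toIdeal.height := by
  haveI hmax := isMaximal_of_isStarLocal hpos hm
  haveI hPprime : (p.homogeneousCore 𝒜).toIdeal.IsPrime := core_isPrime p
  have hPtop : p.homogeneousCore 𝒜 ≠ ⊤ := by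
    intro h
    apply hPprime.ne_top
    rw [h, HomogeneousIdeal.toIdeal_top]
  have hPm : (p.homogeneousCore 𝒜).toIdeal ≤ m.toIdeal := le_of_isStarLocal hm _ hPtop
  by_cases heq : (p.homogeneousCore 𝒜).toIdeal = m.toIdeal
  · have hmp : m.toIdeal ≤ p := by
      rw [← heq]
      exact Ideal.toIdeal_homogeneousCore_le 𝒜 p
    rw [hmax.eq_of_le hp.ne_top hmp]
  · have hlt : (p.homogeneousCore 𝒜).toIdeal < m.toIdeal := lt_of_le_of_ne hPm heq
    exact le_trans (height_le_core_height_add_one p)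
      (Ideal.height_add_one_le_of_lt_of_isPrime hlt)

/-- The dimension of a *local positively graded Noetherian ring is the height of its *maximal
ideal. -/
theorem ringKrullDim_eq_height_of_isStarLocal (hpos : ∀ n : ℤ, n < 0 → 𝒜 n = ⊥)
    {m : HomogeneousIdeal 𝒜} (hm : IsStarLocal 𝒜 m) :
    ringKrullDim R = (m.toIdeal.height : WithBot ℕ∞) := by
  haveI hmax := isMaximal_of_isStarLocal hpos hm
  refine le_antisymm ?_ (Ideal.height_le_ringKrullDim_of_ne_top hmax.ne_top)
  rw [ringKrullDim_le_iff_height_le]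
  intro p hp
  exact_mod_cast height_le_of_isStarLocal hpos hm p

end Groth.Agent.Lib.T2H3.GrDim
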