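import Mathlib
import Groth.Prelude.Def_OmegaPn
import Groth.Agent.Lib.Helper18OmLS13
import Groth.Agent.Lib.Helper22IdealComap
import Groth.Agent.Lib.T2H2IdealComapPow

/-!
# The canonical map of graded pieces of ideal powers under base change is an epimorphism
-/

set_option autoImplicit false
set_option linter.style.haveILetI false
set_option linter.unusedSectionVars false
universe u
open CategoryTheory CategoryTheory.Limits AlgebraicGeometry TopologicalSpace Opposite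

namespace Groth.Agent.Lib.T2H3.GrEpi

open Groth.Agent.Helper18OmLS

section lift
variable {X X' : Scheme.{u}} (v : X' ⟶ X) (K : X.IdealSheafData)

theorem subschemeι_app_idealSect (U' : X.Opens) (s' : Γ(ClSub.idealMod K, U')) :
    K.subschemeι.app U' (OmegaSh.idealSect K U' s') = 0 :=
  Groth.Agent.Lib.Helper20.IdealModSec.ι_toSubscheme K U' s'

/-- L1: pulled back sections of an ideal are sections of the pulled back ideal. -/
theorem exists_lift_section (U' : X.Opens) (s' : Γ(ClSub.idealMod K, U')) :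
    ∃ s : Γ(ClSub.idealMod (K.comap v), v ⁻¹ᵁ U'),
      OmegaSh.idealSect (K.comap v) (v ⁻¹ᵁ U') s = v.app U' (OmegaSh.idealSect K U' s') := by
  have hx : (pullback.fst v K.subschemeι).app (v ⁻¹ᵁ U')
      (v.app U' (OmegaSh.idealSect K U' s')) = 0 := by
    have h := Scheme.Hom.congr_app (pullback.condition (f := v) (g := K.subschemeι)) U'
    rw [Scheme.Hom.comp_app, Scheme.Hom.comp_app] at h
    have h2 := congr($h (OmegaSh.idealSect K U' s'))
    refine h2.trans ?_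
    change ((pullback v K.subschemeι).presheaf.map (eqToHom _).op)
      ((pullback.snd v K.subschemeι).app (K.subschemeι ⁻¹ᵁ U')
        (K.subschemeι.app U' (OmegaSh.idealSect K U' s'))) = 0
    rw [subschemeι_app_idealSect, map_zero, map_zero]
  exact exists_idealSect_eq (pullback.fst v K.subschemeι) (v ⁻¹ᵁ U') _ hx

end lift

section sect
variable {X' : Scheme.{u}} (K' : X'.IdealSheafData)

theorem idealSect_mem_ideal {W1 : X'.Opens} (hW1 : IsAffineOpen W1) (s : Γ(ClSub.idealMod K', W1)) :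
    OmegaSh.idealSect K' W1 s ∈ K'.ideal ⟨W1, hW1⟩ := by
  rw [← K'.ker_subschemeι_app ⟨W1, hW1⟩, RingHom.mem_ker]
  exact subschemeι_app_idealSect K' W1 s

theorem exists_idealSect_of_mem {W1 : X'.Opens} (hW1 : IsAffineOpen W1) (a : Γ(X', W1))
    (ha : a ∈ K'.ideal ⟨W1, hW1⟩) :
    ∃ s : Γ(ClSub.idealMod K', W1), OmegaSh.idealSect K' W1 s = a := by
  apply Groth.Agent.Lib.Helper20.IdealModSec.exists_eq_ι K' W1 a
  rw [Groth.Agent.Lib.Helper20.IdealModSec.toSubscheme_app]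
  rw [← K'.ker_subschemeι_app ⟨W1, hW1⟩, RingHom.mem_ker] at ha
  exact ha

theorem idealSect_injective (W : X'.Opens) : Function.Injective (OmegaSh.idealSect K' W) :=
  Groth.Agent.Lib.Helper20.IdealModSec.ι_injective K' W

end sect

theorem app_map' {X : Scheme.{u}} {A B : X.Modules} (m : A ⟶ B) {W W' : X.Opens} (i : W' ⟶ W)
    (s : Γ(A, W)) :
    m.app W' (A.presheaf.map i.op s) = B.presheaf.map i.op (m.app W s) := by
  have := m.mapPresheaf.naturality i.op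
  exact congrArg (fun φ => φ s) this

section main
variable {Y X Y' X' : Scheme.{u}} (f : Y ⟶ X) [IsClosedImmersion f] (v : X' ⟶ X) (u : Y' ⟶ Y)
  (f' : Y' ⟶ X') (hsq : IsPullback u f' f v) (n : ℕ)
  (φ : (Scheme.Modules.pullback u).obj (PrinPart.grMod f n) ⟶ PrinPart.grMod f' n)
  (hφ : PrinPart.IsGrMap f' f v u n φ)

include hsq in
theorem ker_pow_eq : (f.ker ^ n).comap v = f'.ker ^ n := by
  rw [Groth.Agent.Lib.T2H2.IdealComapPow.comap_pow,
    Groth.Agent.Lib.T2H2.IdealComapPow.ker_eq_comap_of_isPullback f v u f' hsq]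

include hsq in
theorem exists_lift_section' (U' : X.Opens) (s' : Γ(ClSub.idealMod (f.ker ^ n), U')) :
    ∃ s : Γ(ClSub.idealMod (f'.ker ^ n), v ⁻¹ᵁ U'),
      OmegaSh.idealSect (f'.ker ^ n) (v ⁻¹ᵁ U') s =
        v.app U' (OmegaSh.idealSect (f.ker ^ n) U' s') := by
  rw [← ker_pow_eq f v u f' hsq n]
  exact exists_lift_section v (f.ker ^ n) U' s'

include hsq in
theorem ideal_eq_map {W1 : X'.Opens} (hW1 : IsAffineOpen W1) {U' : X.Opens} (hU' : IsAffineOpen U')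
    (h : W1 ≤ v ⁻¹ᵁ U') :
    (f'.ker ^ n).ideal ⟨W1, hW1⟩ = ((f.ker ^ n).ideal ⟨U', hU'⟩).map (v.appLE U' W1 h).hom := by
  rw [← ker_pow_eq f v u f' hsq n]
  exact Groth.Agent.Lib.Helper22.IdealComap.ideal_comap_eq_map v (f.ker ^ n) ⟨W1, hW1⟩ ⟨U', hU'⟩ h

include hsq hφ in
/-- the chart computation -/
theorem chart_eq {G : Y'.Modules} (α β : PrinPart.grMod f' n ⟶ G) (hαβ : φ ≫ α = φ ≫ β)
    {W1 : X'.Opens} (hW1 : IsAffineOpen W1) {U' : X.Opens} (hU' : IsAffineOpen U')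
    (h : W1 ≤ v ⁻¹ᵁ U') (a : Γ(X', W1))
    (ha : a ∈ ((f.ker ^ n).ideal ⟨U', hU'⟩).map (v.appLE U' W1 h).hom)
    (s1 : Γ(ClSub.idealMod (f'.ker ^ n), W1)) (hs1 : OmegaSh.idealSect (f'.ker ^ n) W1 s1 = a) :
    α.app (f' ⁻¹ᵁ W1) (PrinPart.grSect f' n W1 s1) =
      β.app (f' ⁻¹ᵁ W1) (PrinPart.grSect f' n W1 s1) := by
  have hmap := ideal_eq_map f v u f' hsq n hW1 hU' h
  induction ha using Submodule.span_induction generalizing s1 with
  | mem a ha =>
    obtain ⟨a0, ha0, rfl⟩ := ha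
    obtain ⟨s'0, hs'0⟩ := exists_idealSect_of_mem (f.ker ^ n) hU' a0 ha0
    obtain ⟨st, hst⟩ := exists_lift_section' f v u f' hsq n U' s'0
    have e1 : s1 = (ClSub.idealMod (f'.ker ^ n)).presheaf.map (homOfLE h).op st := by
      apply idealSect_injective (f'.ker ^ n) W1
      rw [hs1, idealSect_res, hst, hs'0]
      rfl
    have h₂ : f' ⁻¹ᵁ W1 ≤ f' ⁻¹ᵁ (v ⁻¹ᵁ U') := f'.preimage_mono h
    have h₁ : f' ⁻¹ᵁ W1 ≤ u ⁻¹ᵁ (f ⁻¹ᵁ U') := by
      intro y hy
      have h3 : (f' ≫ v) y ∈ U' := h₂ hy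
      rw [← hsq.w] at h3
      exact h3
    have key := hφ.2 U' s'0 st (by rw [hst, hs'0]) (f' ⁻¹ᵁ W1) h₁ h₂
    have e2 : PrinPart.grSect f' n W1 s1 =
        (PrinPart.grMod f' n).presheaf.map (homOfLE h₂).op
          (PrinPart.grSect f' n (v ⁻¹ᵁ U') st) := by
      rw [e1]
      exact OmegaSh.pullSect_map f' (ClSub.idealMod (f'.ker ^ n)) h st
    rw [e2, ← key, app_map' α, app_map' β]
    congr 1
    exact congrArg (fun ψ => Scheme.Modules.Hom.app ψ (u ⁻¹ᵁ (f ⁻¹ᵁ U'))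
      (OmegaSh.pullSect u (PrinPart.grMod f n) (f ⁻¹ᵁ U') (PrinPart.grSect f n U' s'0))) hαβ
  | zero =>
    have e1 : s1 = 0 := by
      apply idealSect_injective (f'.ker ^ n) W1
      rw [hs1, map_zero]
    rw [e1, map_zero, map_zero, map_zero]
  | add a b ha hb iha ihb =>
    have ha' : a ∈ (f'.ker ^ n).ideal ⟨W1, hW1⟩ := by rw [hmap]; exact ha
    have hb' : b ∈ (f'.ker ^ n).ideal ⟨W1, hW1⟩ := by rw [hmap]; exact hb
    obtain ⟨sa, hsa⟩ := exists_idealSect_of_mem (f'.ker ^ n) hW1 a ha'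
    obtain ⟨sb, hsb⟩ := exists_idealSect_of_mem (f'.ker ^ n) hW1 b hb'
    have e1 : s1 = sa + sb := by
      apply idealSect_injective (f'.ker ^ n) W1
      rw [hs1, map_add, hsa, hsb]
    rw [e1, map_add, map_add, map_add, iha sa hsa, ihb sb hsb]
  | smul r a ha iha =>
    have ha' : a ∈ (f'.ker ^ n).ideal ⟨W1, hW1⟩ := by rw [hmap]; exact ha
    obtain ⟨sa, hsa⟩ := exists_idealSect_of_mem (f'.ker ^ n) hW1 a ha'
    have e1 : s1 = r • sa := by
      apply idealSect_injective (f'.ker ^ n) W1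
      rw [hs1, idealSect_smul, hsa]
      rfl
    rw [e1]
    have e2 : PrinPart.grSect f' n W1 (r • sa) = f'.app W1 r • PrinPart.grSect f' n W1 sa :=
      OmegaSh.pullSect_smul f' (ClSub.idealMod (f'.ker ^ n)) W1 r sa
    rw [e2, Scheme.Modules.Hom.app_smul, Scheme.Modules.Hom.app_smul, iha sa hsa]

include hsq hφ in
/-- S5952 -/
theorem epi_grMap : Epi φ := by
  constructor
  intro G α β hαβ
  refine pullback_hom_ext f' α β fun W s => ?_
  have hloc : ∀ y : (f' ⁻¹ᵁ W : Y'.Opens), ∃ (W1 : X'.Opens) (_ : IsAffineOpen W1) (_ : f' y.1 ∈ W1)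
      (_ : W1 ≤ W) (U' : X.Opens) (_ : IsAffineOpen U'), W1 ≤ v ⁻¹ᵁ U' := by
    intro y
    obtain ⟨U', hU', hvU', -⟩ := exists_isAffineOpen_mem_and_subset (x := v (f' y.1)) (U := ⊤) trivial
    have hx2 : f' y.1 ∈ W ⊓ v ⁻¹ᵁ U' := ⟨y.2, hvU'⟩
    obtain ⟨W1, hW1, hxW1, hW1le⟩ := exists_isAffineOpen_mem_and_subset hx2
    exact ⟨W1, hW1, hxW1, fun z hz => (hW1le hz).1, U', hU', fun z hz => (hW1le hz).2⟩
  choose W1 hW1 hxW1 hW1W U' hU' hW1U' using hloc
  refine TopCat.Sheaf.eq_of_locally_eq' ⟨G.presheaf, G.isSheaf⟩ (fun y => f' ⁻¹ᵁ W1 y) (f' ⁻¹ᵁ W)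
    (fun y => homOfLE (f'.preimage_mono (hW1W y))) ?_ _ _ (fun y => ?_)
  · intro z hz
    exact Opens.mem_iSup.2 ⟨⟨z, hz⟩, hxW1 ⟨z, hz⟩⟩
  · change G.presheaf.map (homOfLE (f'.preimage_mono (hW1W y))).op (α.app (f' ⁻¹ᵁ W) _) =
      G.presheaf.map (homOfLE (f'.preimage_mono (hW1W y))).op (β.app (f' ⁻¹ᵁ W) _)
    rw [← app_map' α, ← app_map' β]
    have e3 : (PrinPart.grMod f' n).presheaf.map (homOfLE (f'.preimage_mono (hW1W y))).op
        (OmegaSh.pullSect f' (ClSub.idealMod (f'.ker ^ n)) W s) =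
        PrinPart.grSect f' n (W1 y)
          ((ClSub.idealMod (f'.ker ^ n)).presheaf.map (homOfLE (hW1W y)).op s) :=
      (OmegaSh.pullSect_map f' (ClSub.idealMod (f'.ker ^ n)) (hW1W y) s).symm
    rw [e3]
    have hmap := ideal_eq_map f v u f' hsq n (hW1 y) (hU' y) (hW1U' y)
    exact chart_eq f v u f' hsq n φ hφ α β hαβ (hW1 y) (hU' y) (hW1U' y) _
      (hmap ▸ idealSect_mem_ideal (f'.ker ^ n) (hW1 y) _) _ rfl

end main

end Groth.Agent.Lib.T2H3.GrEpi
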