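import Mathlib
import Groth.Agent.Lib.T2H3FlatAlongRees
import Groth.Agent.Lib.Helper2GenFree

/-!
# Generic flatness of the graded pieces of an adic filtration (helper3)

`exists_flat_gr_localized`: `D` a Noetherian domain, `B` a finite type `D`-algebra, `J ⊆ B` an ideal,
`M` a finite `B`-module. There is `f ≠ 0` in `D` such that for every multiple `g = f h`, every
localization `l : M → N` of `M` at the powers of `g` and every `n`, the image of `(JⁿM)_g` in
`N / (Jⁿ⁺¹M)_g` is flat over `D_g`.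
-/

set_option autoImplicit false
set_option linter.style.haveILetI false

universe u

namespace Groth.Agent.Lib.T2H3.GrFlat

open Groth.Agent.Lib.T2H3.FlatAlong

section Abstract

variable {D : Type*} [CommRing D] (S : Submonoid D) (T : Type*) [CommRing T] [Algebra D T]
  [IsLocalization S T] {M N : Type*} [AddCommGroup M] [AddCommGroup N] [Module D M] [Module D N]
  [Module T N] [IsScalarTower D T N] (l : M →ₗ[D] N) [IsLocalizedModule S l]

/-- Localization commutes with the image of a submodule in a quotient. -/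
theorem localized'_map_mkQ (P Q : Submodule D M) :
    (Submodule.map Q.mkQ P).localized' T S (Submodule.toLocalizedQuotient' T S l Q) =
      Submodule.map (Q.localized' T S l).mkQ (P.localized' T S l) := by
  have h1 := Submodule.localized'_eq_span T S (Submodule.toLocalizedQuotient' T S l Q)
    (Submodule.map Q.mkQ P)
  have h2 := Submodule.localized'_eq_span T S l P
  rw [h1, h2, Submodule.map_span]
  congr 1
  ext y
  constructor
  · rintro ⟨_, ⟨m, hm, rfl⟩, rfl⟩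
    exact ⟨l m, ⟨m, hm, rfl⟩, rfl⟩
  · rintro ⟨_, ⟨m, hm, rfl⟩, rfl⟩
    exact ⟨Q.mkQ m, ⟨m, hm, rfl⟩, rfl⟩

/-- If `X ≅ P/Q` (as the image of `P` in `M/Q`) has a `D`-flat localization at `S`, then the image
of `P_S` in `N / Q_S` is flat over `T = S⁻¹D`. -/
theorem flat_map_mkQ_localized' (P Q : Submodule D M) {X : Type*} [AddCommGroup X] [Module D X]
    (i : X →ₗ[D] M ⧸ Q) (hi : Function.Injective i)
    (hr : LinearMap.range i = Submodule.map Q.mkQ P)
    [hflat : Module.Flat D (LocalizedModule S X)] :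
    Module.Flat T ↥(Submodule.map (Q.localized' T S l).mkQ (P.localized' T S l)) := by
  rw [← localized'_map_mkQ S T l P Q]
  set lq := Submodule.toLocalizedQuotient' T S l Q
  set X' := Submodule.map Q.mkQ P
  let e : X ≃ₗ[D] ↥X' := (LinearEquiv.ofInjective i hi).trans (LinearEquiv.ofEq _ _ hr)
  let t : ↥X' →ₗ[D] ↥(X'.localized' T S lq) := Submodule.toLocalized' T S lq X'
  haveI : IsLocalizedModule S (t ∘ₗ e.toLinearMap) := IsLocalizedModule.of_linearEquiv_right S t e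
  let E : LocalizedModule S X ≃ₗ[D] ↥(X'.localized' T S lq) :=
    IsLocalizedModule.iso S (t ∘ₗ e.toLinearMap)
  haveI : Module.Flat D ↥(X'.localized' T S lq) := Module.Flat.of_linearEquiv E.symm
  exact (Module.flat_iff_of_isLocalization T S _).2 inferInstance

end Abstract

section Domain

variable {D B : Type u} [CommRing D] [CommRing B] [Algebra D B]
  (J : Ideal B) (M : Type u) [AddCommGroup M] [Module B M] [Module D M]
  [IsScalarTower D B M]

/-- The `D`-linear inclusion of `JⁿM / Jⁿ⁺¹M` into `M / Jⁿ⁺¹M` (quotient by a `D`-submodule). -/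
noncomputable def iD (n : ℕ) : Nn J M n →ₗ[D] M ⧸ (Pn J M (n + 1)).restrictScalars D :=
  (Submodule.Quotient.restrictScalarsEquiv D (Pn J M (n + 1))).symm.toLinearMap ∘ₗ
    (iN J M n).restrictScalars D

theorem iD_mk (n : ℕ) (x : ↥(Pn J M n)) :
    iD (D := D) J M n (Submodule.Quotient.mk x) = Submodule.Quotient.mk x.1 := rfl

theorem iD_injective (n : ℕ) : Function.Injective (iD (D := D) J M n) := by
  intro a b hab
  apply iN_injective J M n
  exact (Submodule.Quotient.restrictScalarsEquiv D (Pn J M (n + 1))).symm.injective hab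

theorem range_iD (n : ℕ) :
    LinearMap.range (iD (D := D) J M n) =
      Submodule.map ((Pn J M (n + 1)).restrictScalars D).mkQ ((Pn J M n).restrictScalars D) := by
  ext y
  constructor
  · rintro ⟨x, rfl⟩
    obtain ⟨x, rfl⟩ := Submodule.Quotient.mk_surjective _ x
    exact ⟨x.1, x.2, rfl⟩
  · rintro ⟨m, hm, rfl⟩
    exact ⟨Submodule.Quotient.mk ⟨m, hm⟩, rfl⟩

variable [IsDomain D] [IsNoetherianRing D] [Algebra.FiniteType D B] [Module.Finite B M]

/-- **Generic flatness of the graded pieces.** -/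
theorem exists_flat_gr_localized :
    ∃ f : D, f ≠ 0 ∧ ∀ (h : D) (T : Type u) [CommRing T] [Algebra D T]
      [IsLocalization (Submonoid.powers (f * h)) T] (N : Type u) [AddCommGroup N] [Module D N]
      [Module T N] [IsScalarTower D T N] (l : M →ₗ[D] N)
      [IsLocalizedModule (Submonoid.powers (f * h)) l] (n : ℕ),
      Module.Flat T ↥(Submodule.map
        (((Pn J M (n + 1)).restrictScalars D).localized' T (Submonoid.powers (f * h)) l).mkQ
        (((Pn J M n).restrictScalars D).localized' T (Submonoid.powers (f * h)) l)) := by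
  haveI : IsNoetherianRing B := Algebra.FiniteType.isNoetherianRing D B
  haveI : Algebra.FiniteType D (B ⧸ J) :=
    Algebra.FiniteType.of_surjective (Ideal.Quotient.mkₐ D J) (Ideal.Quotient.mkₐ_surjective D J)
  haveI := finite_GG J M
  haveI := finiteType_RR (A := D) J
  obtain ⟨f, hf0, -, hG, -, -⟩ :=
    Groth.Agent.Lib.Helper2.GenFree.exists_freeAway D (RR J) (GG J M)
  refine ⟨f, hf0, fun h T _ _ _ N _ _ _ _ l _ n => ?_⟩
  haveI hGf : Module.Flat D (LocalizedModule (Submonoid.powers (f * h)) (GG J M)) :=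
    Groth.Agent.Lib.Helper2.FlatOver.flat_of_freeAway (hG.mul_right h)
      (LocalizedModule.mkLinearMap (Submonoid.powers (f * h)) (GG J M))
  let ι : Nn J M n →ₗ[D] GG J M :=
    ((eG J M).toLinearMap ∘ₗ mapQJ J (sigma J M n)).restrictScalars D
  let π : GG J M →ₗ[D] Nn J M n :=
    (mapQJ J (rho J M n) ∘ₗ (eG J M).symm.toLinearMap).restrictScalars D
  have hπι : π ∘ₗ ι = LinearMap.id := by
    apply LinearMap.ext
    intro x
    change mapQJ J (rho J M n) ((eG J M).symm ((eG J M) (mapQJ J (sigma J M n) x))) = x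
    rw [(eG J M).symm_apply_apply, ← LinearMap.comp_apply,
      mapQJ_retract J _ _ (rho_comp_sigma J M n)]
    rfl
  haveI : Module.Flat D (LocalizedModule (Submonoid.powers (f * h)) (Nn J M n)) :=
    flat_loc_of_retract (A := D) (B := D) (Submonoid.powers (f * h)) ι π hπι
  exact flat_map_mkQ_localized' (Submonoid.powers (f * h)) T l _ _ (iD J M n) (iD_injective J M n)
    (range_iD J M n)

end Domain

section Quot

open TensorProduct

variable {A₀ : Type u} (B₀ : Type u) [CommRing A₀] [CommRing B₀] [Algebra A₀ B₀] (𝔭 : Ideal A₀)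
  (M₀ : Type u) [AddCommGroup M₀] [Module B₀ M₀] [Module A₀ M₀] [IsScalarTower A₀ B₀ M₀]

/-- `B₀ / 𝔭B₀`. -/
abbrev BD : Type u := B₀ ⧸ 𝔭.map (algebraMap A₀ B₀)

/-- `M₀ / 𝔭M₀` as a quotient `B₀`-module. -/
abbrev MD : Type u := M₀ ⧸ (𝔭.map (algebraMap A₀ B₀) • (⊤ : Submodule B₀ M₀))

/-- The `A₀/𝔭`-module structure of `M₀ / 𝔭M₀`. -/
@[reducible] noncomputable def moduleD : Module (A₀ ⧸ 𝔭) (MD B₀ 𝔭 M₀) :=
  Module.compHom _ (algebraMap (A₀ ⧸ 𝔭) (BD B₀ 𝔭))

attribute [local instance] moduleD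

omit [Module A₀ M₀] [IsScalarTower A₀ B₀ M₀] in
theorem towerDB : IsScalarTower (A₀ ⧸ 𝔭) (BD B₀ 𝔭) (MD B₀ 𝔭 M₀) :=
  ⟨fun d b m => by
    rw [Algebra.smul_def, mul_smul]
    rfl⟩

theorem towerAD : IsScalarTower A₀ (A₀ ⧸ 𝔭) (MD B₀ 𝔭 M₀) := by
  refine IsScalarTower.of_algebraMap_smul fun a x => ?_
  obtain ⟨m, rfl⟩ := Submodule.Quotient.mk_surjective _ x
  change (Ideal.Quotient.mk (𝔭.map (algebraMap A₀ B₀)) (algebraMap A₀ B₀ a)) •
    (Submodule.Quotient.mk m : MD B₀ 𝔭 M₀) = Submodule.Quotient.mk (a • m)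
  rw [← algebraMap_smul B₀ a m]
  rfl

attribute [local instance] towerDB towerAD

/-- The quotient map `M₀ → M₀/𝔭M₀`, `A₀`-linear. -/
noncomputable def thetaD : M₀ →ₗ[A₀] MD B₀ 𝔭 M₀ :=
  ((𝔭.map (algebraMap A₀ B₀) • (⊤ : Submodule B₀ M₀)).mkQ).restrictScalars A₀

theorem smulTop_restrict :
    𝔭 • (⊤ : Submodule A₀ M₀) =
      (𝔭.map (algebraMap A₀ B₀) • (⊤ : Submodule B₀ M₀)).restrictScalars A₀ := by
  rw [Ideal.smul_restrictScalars, Submodule.restrictScalars_top]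

/-- `M₀/𝔭M₀` is the base change of `M₀` to `A₀/𝔭`. -/
theorem isBaseChange_thetaD : IsBaseChange (A₀ ⧸ 𝔭) (thetaD B₀ 𝔭 M₀) := by
  let e₀ : (A₀ ⧸ 𝔭) ⊗[A₀] M₀ ≃ₗ[A₀] MD B₀ 𝔭 M₀ :=
    (TensorProduct.quotTensorEquivQuotSMul M₀ 𝔭).trans
      ((Submodule.quotEquivOfEq _ _ (smulTop_restrict B₀ 𝔭 M₀)).trans
        (Submodule.Quotient.restrictScalarsEquiv A₀
          (𝔭.map (algebraMap A₀ B₀) • (⊤ : Submodule B₀ M₀))))
  refine IsBaseChange.of_equiv (e₀.extendScalarsOfSurjective Ideal.Quotient.mk_surjective) ?_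
  intro x
  change e₀ (1 ⊗ₜ x) = _
  change (Submodule.Quotient.restrictScalarsEquiv A₀ _)
    ((Submodule.quotEquivOfEq _ _ (smulTop_restrict B₀ 𝔭 M₀))
      (TensorProduct.quotTensorEquivQuotSMul M₀ 𝔭 (1 ⊗ₜ x))) = _
  rw [TensorProduct.quotTensorEquivQuotSMul_mk_one_tmul]
  rfl

variable (J₀ : Ideal B₀)

omit [Module A₀ M₀] [IsScalarTower A₀ B₀ M₀] in
/-- The image of `J₀ⁿM₀` in `M₀/𝔭M₀` is `J_DⁿM_D`. -/
theorem map_mkQ_Pn (n : ℕ) :
    Submodule.map (𝔭.map (algebraMap A₀ B₀) • (⊤ : Submodule B₀ M₀)).mkQ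
        (J₀ ^ n • (⊤ : Submodule B₀ M₀)) =
      (Pn (J₀.map (Ideal.Quotient.mk (𝔭.map (algebraMap A₀ B₀)))) (MD B₀ 𝔭 M₀) n).restrictScalars
        B₀ := by
  rw [Submodule.map_smul'', Submodule.map_top, Submodule.range_mkQ]
  change _ = ((J₀.map (algebraMap B₀ (BD B₀ 𝔭))) ^ n • (⊤ : Submodule (BD B₀ 𝔭) (MD B₀ 𝔭 M₀))
    ).restrictScalars B₀
  rw [← Ideal.map_pow, Ideal.smul_restrictScalars, Submodule.restrictScalars_top]

theorem image_thetaD_Pn (n : ℕ) :
    (thetaD B₀ 𝔭 M₀) '' ((J₀ ^ n • (⊤ : Submodule B₀ M₀) : Submodule B₀ M₀) : Set M₀) =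
      ((Pn (J₀.map (Ideal.Quotient.mk (𝔭.map (algebraMap A₀ B₀)))) (MD B₀ 𝔭 M₀) n :
        Submodule (BD B₀ 𝔭) (MD B₀ 𝔭 M₀)) : Set (MD B₀ 𝔭 M₀)) := by
  have h := congrArg (fun S : Submodule B₀ (MD B₀ 𝔭 M₀) => (S : Set (MD B₀ 𝔭 M₀)))
    (map_mkQ_Pn B₀ 𝔭 M₀ J₀ n)
  exact h

end Quot

section Stratum

open TensorProduct

variable {A₀ B₀ : Type u} [CommRing A₀] [IsNoetherianRing A₀] [CommRing B₀] [Algebra A₀ B₀]
  [Algebra.FiniteType A₀ B₀] (J₀ : Ideal B₀) (M₀ : Type u) [AddCommGroup M₀] [Module B₀ M₀]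
  [Module A₀ M₀] [IsScalarTower A₀ B₀ M₀] [Module.Finite B₀ M₀]

attribute [local instance] moduleD towerDB towerAD

/-- **Generic flatness of the graded pieces on a stratum**: for a prime `𝔭` of the Noetherian ring
`A₀` there is `f₀ ∉ 𝔭` such that for every multiple `g = f₀ h`, with `T = (A₀/𝔭)_g`, all graded
pieces of the `J₀`-adic filtration of `T ⊗ M₀` are `T`-flat. -/
theorem exists_flat_gr_stratum (𝔭 : Ideal A₀) [𝔭.IsPrime] :
    ∃ f₀ : A₀, f₀ ∉ 𝔭 ∧ ∀ (h : A₀) (n : ℕ),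
      Module.Flat (Localization.Away (Ideal.Quotient.mk 𝔭 (f₀ * h)))
        ↥(Submodule.map
          (LinearMap.range (LinearMap.baseChange (Localization.Away (Ideal.Quotient.mk 𝔭 (f₀ * h)))
            ((J₀ ^ (n + 1) • (⊤ : Submodule B₀ M₀)).restrictScalars A₀).subtype)).mkQ
          (LinearMap.range (LinearMap.baseChange (Localization.Away (Ideal.Quotient.mk 𝔭 (f₀ * h)))
            ((J₀ ^ n • (⊤ : Submodule B₀ M₀)).restrictScalars A₀).subtype))) := by
  haveI : Algebra.FiniteType (A₀ ⧸ 𝔭) (BD B₀ 𝔭) := by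
    haveI : Algebra.FiniteType A₀ (BD B₀ 𝔭) :=
      Algebra.FiniteType.of_surjective (Ideal.Quotient.mkₐ A₀ _)
        (Ideal.Quotient.mkₐ_surjective A₀ _)
    exact Algebra.FiniteType.of_restrictScalars_finiteType A₀ (A₀ ⧸ 𝔭) (BD B₀ 𝔭)
  haveI : Module.Finite (BD B₀ 𝔭) (MD B₀ 𝔭 M₀) := by
    haveI : Module.Finite B₀ (MD B₀ 𝔭 M₀) := inferInstance
    exact Module.Finite.of_restrictScalars_finite B₀ (BD B₀ 𝔭) (MD B₀ 𝔭 M₀)
  obtain ⟨f, hf0, hflat⟩ := exists_flat_gr_localized (D := A₀ ⧸ 𝔭)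
    (J₀.map (Ideal.Quotient.mk (𝔭.map (algebraMap A₀ B₀)))) (MD B₀ 𝔭 M₀)
  obtain ⟨f₀, rfl⟩ := Ideal.Quotient.mk_surjective f
  refine ⟨f₀, fun hmem => hf0 (Ideal.Quotient.eq_zero_iff_mem.2 hmem), fun h n => ?_⟩
  have hmul : Ideal.Quotient.mk 𝔭 f₀ * Ideal.Quotient.mk 𝔭 h = Ideal.Quotient.mk 𝔭 (f₀ * h) :=
    (map_mul _ _ _).symm
  haveI : IsLocalization (Submonoid.powers (Ideal.Quotient.mk 𝔭 f₀ * Ideal.Quotient.mk 𝔭 h))
      (Localization.Away (Ideal.Quotient.mk 𝔭 (f₀ * h))) := by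
    rw [hmul]; infer_instance
  have hθ := isBaseChange_thetaD B₀ 𝔭 M₀
  let lam : MD B₀ 𝔭 M₀ →ₗ[A₀ ⧸ 𝔭] (Localization.Away (Ideal.Quotient.mk 𝔭 (f₀ * h))) ⊗[A₀] M₀ :=
    hθ.lift (TensorProduct.mk A₀ (Localization.Away (Ideal.Quotient.mk 𝔭 (f₀ * h))) M₀ 1)
  have hlam : lam.restrictScalars A₀ ∘ₗ thetaD B₀ 𝔭 M₀ =
      TensorProduct.mk A₀ (Localization.Away (Ideal.Quotient.mk 𝔭 (f₀ * h))) M₀ 1 :=
    hθ.lift_comp _
  have hbc : IsBaseChange (Localization.Away (Ideal.Quotient.mk 𝔭 (f₀ * h))) lam := by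
    refine IsBaseChange.of_comp hθ ?_
    rw [hlam]
    exact TensorProduct.isBaseChange A₀ M₀ _
  haveI : IsLocalizedModule
      (Submonoid.powers (Ideal.Quotient.mk 𝔭 f₀ * Ideal.Quotient.mk 𝔭 h)) lam :=
    (isLocalizedModule_iff_isBaseChange _ (Localization.Away (Ideal.Quotient.mk 𝔭 (f₀ * h))) lam).2
      hbc
  have key : ∀ k : ℕ, Submodule.localized' (Localization.Away (Ideal.Quotient.mk 𝔭 (f₀ * h)))
      (Submonoid.powers (Ideal.Quotient.mk 𝔭 f₀ * Ideal.Quotient.mk 𝔭 h)) lam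
      ((Pn (J₀.map (Ideal.Quotient.mk (𝔭.map (algebraMap A₀ B₀)))) (MD B₀ 𝔭 M₀) k).restrictScalars
        (A₀ ⧸ 𝔭)) =
      LinearMap.range (LinearMap.baseChange (Localization.Away (Ideal.Quotient.mk 𝔭 (f₀ * h)))
        ((J₀ ^ k • (⊤ : Submodule B₀ M₀)).restrictScalars A₀).subtype) := by
    intro k
    rw [Submodule.localized'_eq_span]
    change _ = Submodule.baseChange _ ((J₀ ^ k • (⊤ : Submodule B₀ M₀)).restrictScalars A₀)
    rw [Submodule.baseChange_eq_span]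
    congr 1
    have h1 := image_thetaD_Pn B₀ 𝔭 M₀ J₀ k
    change _ = (TensorProduct.mk A₀ (Localization.Away (Ideal.Quotient.mk 𝔭 (f₀ * h))) M₀ 1) ''
      ((J₀ ^ k • (⊤ : Submodule B₀ M₀) : Submodule B₀ M₀) : Set M₀)
    rw [← hlam]
    change lam '' ((Pn (J₀.map (Ideal.Quotient.mk (𝔭.map (algebraMap A₀ B₀)))) (MD B₀ 𝔭 M₀) k :
        Submodule (BD B₀ 𝔭) (MD B₀ 𝔭 M₀)) : Set (MD B₀ 𝔭 M₀)) =
      (fun x => lam (thetaD B₀ 𝔭 M₀ x)) ''
        ((J₀ ^ k • (⊤ : Submodule B₀ M₀) : Submodule B₀ M₀) : Set M₀)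
    rw [← h1, Set.image_image]
  have := hflat (Ideal.Quotient.mk 𝔭 h) (Localization.Away (Ideal.Quotient.mk 𝔭 (f₀ * h)))
    ((Localization.Away (Ideal.Quotient.mk 𝔭 (f₀ * h))) ⊗[A₀] M₀) lam n
  rw [key n, key (n + 1)] at this
  exact this

end Stratum

end Groth.Agent.Lib.T2H3.GrFlat
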