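import Mathlib
import Groth.Agent.Lib.T2H3GrFlat

/-!
# Stratification of a Noetherian affine base with flat graded pieces (helper3)

`exists_strata`: Noetherian induction producing strata `V(𝔮) ∩ D(g)`, `𝔮` prime, with the graded
pieces of the `J₀`-adic filtration flat over `(A₀/𝔮)_g`.
-/

set_option autoImplicit false
set_option linter.style.haveILetI false

universe u

namespace Groth.Agent.Lib.T2H3.GrFlat

open AlgebraicGeometry CategoryTheory TensorProduct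

section Strata

variable {A₀ : Type u} [CommRing A₀]

/-- The coordinate ring `(A₀/𝔮)_g` of the stratum `V(𝔮) ∩ D(g)`. -/
abbrev AS (s : Ideal A₀ × A₀) : Type u := Localization.Away (Ideal.Quotient.mk s.1 s.2)

/-- The stratum `V(𝔮) ∩ D(g)`. -/
def ZS (s : Ideal A₀ × A₀) : Set (PrimeSpectrum A₀) :=
  PrimeSpectrum.zeroLocus (s.1 : Set A₀) ∩ (PrimeSpectrum.basicOpen s.2 : Set (PrimeSpectrum A₀))

theorem mem_ZS (s : Ideal A₀ × A₀) (x : PrimeSpectrum A₀) :
    x ∈ ZS s ↔ s.1 ≤ x.asIdeal ∧ s.2 ∉ x.asIdeal := Iff.rfl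

theorem algebraMap_AS_eq_zero (s : Ideal A₀ × A₀) {a : A₀} (ha : a ∈ s.1) :
    algebraMap A₀ (AS s) a = 0 := by
  rw [IsScalarTower.algebraMap_apply A₀ (A₀ ⧸ s.1) (AS s), Ideal.Quotient.algebraMap_eq,
    Ideal.Quotient.eq_zero_iff_mem.2 ha, map_zero]

theorem isUnit_algebraMap_AS (s : Ideal A₀ × A₀) : IsUnit (algebraMap A₀ (AS s) s.2) := by
  rw [IsScalarTower.algebraMap_apply A₀ (A₀ ⧸ s.1) (AS s), Ideal.Quotient.algebraMap_eq]
  exact IsLocalization.Away.algebraMap_isUnit _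

theorem range_comap_AS (s : Ideal A₀ × A₀) :
    Set.range (PrimeSpectrum.comap (algebraMap A₀ (AS s))) = ZS s := by
  ext x
  constructor
  · rintro ⟨y, rfl⟩
    refine ⟨fun a ha => ?_, fun hg => ?_⟩
    · change algebraMap A₀ (AS s) a ∈ y.asIdeal
      rw [algebraMap_AS_eq_zero s ha]
      exact zero_mem _
    · exact y.2.ne_top (Ideal.eq_top_of_isUnit_mem _ hg (isUnit_algebraMap_AS s))
  · rintro ⟨h1, h2⟩
    have hx : x ∈ Set.range (PrimeSpectrum.comap (Ideal.Quotient.mk s.1)) := by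
      rw [_root_.range_comap_of_surjective (A₀ ⧸ s.1) (Ideal.Quotient.mk s.1)
        Ideal.Quotient.mk_surjective, Ideal.mk_ker]
      exact h1
    obtain ⟨x₁, rfl⟩ := hx
    have hx₁ : x₁ ∈ Set.range (PrimeSpectrum.comap (algebraMap (A₀ ⧸ s.1) (AS s))) := by
      rw [PrimeSpectrum.localization_away_comap_range (AS s) (Ideal.Quotient.mk s.1 s.2)]
      exact h2
    obtain ⟨y, rfl⟩ := hx₁
    exact ⟨y, rfl⟩

theorem range_specMap_AS (s : Ideal A₀ × A₀) :
    Set.range (Spec.map (CommRingCat.ofHom (algebraMap A₀ (AS s)))) = ZS s :=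
  range_comap_AS s

theorem isImmersion_specMap_AS (s : Ideal A₀ × A₀) :
    IsImmersion (Spec.map (CommRingCat.ofHom (algebraMap A₀ (AS s)))) := by
  have h : CommRingCat.ofHom (algebraMap A₀ (AS s)) =
      CommRingCat.ofHom (Ideal.Quotient.mk s.1) ≫
        CommRingCat.ofHom (algebraMap (A₀ ⧸ s.1) (AS s)) := by
    rw [← CommRingCat.ofHom_comp]
  rw [h, Spec.map_comp]
  haveI : IsClosedImmersion (Spec.map (CommRingCat.ofHom (Ideal.Quotient.mk s.1))) :=
    IsClosedImmersion.spec_of_surjective _ Ideal.Quotient.mk_surjective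
  haveI : IsOpenImmersion (Spec.map (CommRingCat.ofHom (algebraMap (A₀ ⧸ s.1) (AS s)))) :=
    inferInstance
  infer_instance

end Strata

section Induction

variable {A₀ B₀ : Type u} [CommRing A₀] [IsNoetherianRing A₀] [CommRing B₀] [Algebra A₀ B₀]
  [Algebra.FiniteType A₀ B₀] (J₀ : Ideal B₀) (M₀ : Type u) [AddCommGroup M₀] [Module B₀ M₀]
  [Module A₀ M₀] [IsScalarTower A₀ B₀ M₀] [Module.Finite B₀ M₀]

/-- The graded pieces of the `J₀`-adic filtration are flat on the stratum `s`. -/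
def FlatGr (s : Ideal A₀ × A₀) : Prop :=
  ∀ n : ℕ, Module.Flat (AS s)
    ↥(Submodule.map
      (LinearMap.range (LinearMap.baseChange (AS s)
        ((J₀ ^ (n + 1) • (⊤ : Submodule B₀ M₀)).restrictScalars A₀).subtype)).mkQ
      (LinearMap.range (LinearMap.baseChange (AS s)
        ((J₀ ^ n • (⊤ : Submodule B₀ M₀)).restrictScalars A₀).subtype)))

omit [Algebra.FiniteType A₀ B₀] [Algebra A₀ B₀] [CommRing B₀] in
/-- An element lying in all minimal primes of `I` but `𝔭`. -/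
theorem exists_sep_minimalPrime (I : Ideal A₀) {𝔭 : Ideal A₀} (h𝔭 : 𝔭 ∈ I.minimalPrimes) :
    ∃ g₁ : A₀, g₁ ∉ 𝔭 ∧ ∀ 𝔮 ∈ I.minimalPrimes, 𝔮 ≠ 𝔭 → g₁ ∈ 𝔮 := by
  classical
  haveI : 𝔭.IsPrime := h𝔭.1.1
  set F : Finset (Ideal A₀) :=
    (Ideal.finite_minimalPrimes_of_isNoetherianRing A₀ I).toFinset.erase 𝔭 with hF
  have hFmem : ∀ 𝔮, 𝔮 ∈ F ↔ 𝔮 ≠ 𝔭 ∧ 𝔮 ∈ I.minimalPrimes := by
    intro 𝔮
    rw [hF, Finset.mem_erase, Set.Finite.mem_toFinset]
  by_contra hcon
  push Not at hcon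
  have hle : F.inf id ≤ 𝔭 := by
    intro x hx
    by_contra hxp
    obtain ⟨𝔮, h𝔮, hne, hxq⟩ := hcon x hxp
    exact hxq ((Submodule.mem_finsetInf.1 hx) 𝔮 ((hFmem 𝔮).2 ⟨hne, h𝔮⟩))
  obtain ⟨𝔮, h𝔮F, h𝔮le⟩ := (Ideal.IsPrime.inf_le' (inferInstance : 𝔭.IsPrime)).1 hle
  obtain ⟨hne, h𝔮⟩ := (hFmem 𝔮).1 h𝔮F
  exact hne (le_antisymm h𝔮le (h𝔭.2 h𝔮.1 h𝔮le))

/-- **Stratification by Noetherian induction.** -/
theorem exists_strata (I : Ideal A₀) :
    ∃ (m : ℕ) (s : Fin m → Ideal A₀ × A₀),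
      (∀ i j, i ≠ j → Disjoint (ZS (s i)) (ZS (s j))) ∧
      (⋃ i, ZS (s i)) = PrimeSpectrum.zeroLocus (I : Set A₀) ∧
      (∀ i, ∃ U : Set (PrimeSpectrum A₀), IsOpen U ∧
        U ∩ (⋃ j, ⋃ (_ : i ≤ j), ZS (s j)) = ZS (s i)) ∧
      ∀ i, FlatGr J₀ M₀ (s i) := by
  induction I using IsNoetherian.induction with
  | hgt I ih =>
  by_cases hI : I = ⊤
  · subst hI
    refine ⟨0, Fin.elim0, fun i => i.elim0, ?_, fun i => i.elim0, fun i => i.elim0⟩
    ext x
    simp only [Set.mem_iUnion]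
    constructor
    · rintro ⟨i, -⟩
      exact i.elim0
    · intro hx
      exact absurd (top_le_iff.1 hx) x.2.ne_top
  obtain ⟨⟨𝔭, h𝔭⟩⟩ := Ideal.nonempty_minimalPrimes hI
  haveI : 𝔭.IsPrime := h𝔭.1.1
  have hI𝔭 : I ≤ 𝔭 := h𝔭.1.2
  obtain ⟨g₁, hg₁, hsep⟩ := exists_sep_minimalPrime I h𝔭
  obtain ⟨f₀, hf₀, hflat0⟩ := exists_flat_gr_stratum J₀ M₀ 𝔭
  set g : A₀ := f₀ * g₁ with hg
  have hg𝔭 : g ∉ 𝔭 := fun h => (Ideal.IsPrime.mem_or_mem inferInstance h).elim hf₀ hg₁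
  have hlt : I < I ⊔ Ideal.span {g} := by
    refine lt_of_le_of_ne le_sup_left fun heq => hg𝔭 (hI𝔭 ?_)
    rw [heq]
    exact Ideal.mem_sup_right (Ideal.subset_span rfl)
  obtain ⟨m', s', hdisj', hcov', hord', hfl'⟩ := ih _ hlt
  -- basic facts
  have hmemI' : ∀ x : PrimeSpectrum A₀,
      x ∈ PrimeSpectrum.zeroLocus ((I ⊔ Ideal.span {g} : Ideal A₀) : Set A₀) ↔
        I ≤ x.asIdeal ∧ g ∈ x.asIdeal := by
    intro x
    rw [PrimeSpectrum.mem_zeroLocus, SetLike.coe_subset_coe, sup_le_iff,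
      Ideal.span_singleton_le_iff_mem]
  have hs'mem : ∀ (i' : Fin m') (x : PrimeSpectrum A₀), x ∈ ZS (s' i') →
      I ≤ x.asIdeal ∧ g ∈ x.asIdeal := by
    intro i' x hx
    rw [← hmemI', ← hcov']
    exact Set.mem_iUnion.2 ⟨i', hx⟩
  have hZ0 : ∀ x : PrimeSpectrum A₀, I ≤ x.asIdeal → g ∉ x.asIdeal → x ∈ ZS (𝔭, g) := by
    intro x hIx hgx
    refine ⟨?_, hgx⟩
    obtain ⟨𝔮, h𝔮, hle⟩ := Ideal.exists_minimalPrimes_le hIx
    by_cases h𝔮𝔭 : 𝔮 = 𝔭
    · subst h𝔮𝔭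
      exact hle
    · exact absurd (Ideal.mul_mem_left _ f₀ (hle (hsep 𝔮 h𝔮 h𝔮𝔭))) hgx
  have hcover : (⋃ i, ZS ((Fin.cons (𝔭, g) s' : Fin (m' + 1) → Ideal A₀ × A₀) i)) =
      PrimeSpectrum.zeroLocus (I : Set A₀) := by
    ext x
    simp only [Set.mem_iUnion]
    constructor
    · rintro ⟨i, hi⟩
      induction i using Fin.cases with
      | zero =>
        rw [Fin.cons_zero] at hi
        exact fun a ha => hi.1 (hI𝔭 ha)
      | succ i' =>
        rw [Fin.cons_succ] at hi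
        exact (hs'mem i' x hi).1
    · intro hx
      have hIx : I ≤ x.asIdeal := hx
      by_cases hgx : g ∈ x.asIdeal
      · have : x ∈ ⋃ i, ZS (s' i) := by
          rw [hcov', hmemI']
          exact ⟨hIx, hgx⟩
        obtain ⟨i', hi'⟩ := Set.mem_iUnion.1 this
        exact ⟨i'.succ, by rw [Fin.cons_succ]; exact hi'⟩
      · exact ⟨0, by rw [Fin.cons_zero]; exact hZ0 x hIx hgx⟩
  have hdisj0 : ∀ j' : Fin m', Disjoint (ZS ((𝔭, g) : Ideal A₀ × A₀)) (ZS (s' j')) := by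
    intro j'
    rw [Set.disjoint_left]
    intro x hx hx'
    exact hx.2 (hs'mem j' x hx').2
  refine ⟨m' + 1, Fin.cons (𝔭, g) s', ?_, hcover, ?_, ?_⟩
  · intro i j hij
    induction i using Fin.cases with
    | zero =>
      induction j using Fin.cases with
      | zero => exact absurd rfl hij
      | succ j' =>
        rw [Fin.cons_zero, Fin.cons_succ]
        exact hdisj0 j'
    | succ i' =>
      induction j using Fin.cases with
      | zero =>
        rw [Fin.cons_zero, Fin.cons_succ]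
        exact (hdisj0 i').symm
      | succ j' =>
        rw [Fin.cons_succ, Fin.cons_succ]
        exact hdisj' i' j' (fun h => hij (congrArg Fin.succ h))
  · intro i
    induction i using Fin.cases with
    | zero =>
      refine ⟨(PrimeSpectrum.basicOpen g : Set (PrimeSpectrum A₀)),
        (PrimeSpectrum.basicOpen g).isOpen, ?_⟩
      rw [Fin.cons_zero]
      ext x
      constructor
      · rintro ⟨hxU, hx⟩
        obtain ⟨j, -, hj⟩ := Set.mem_iUnion₂.1 hx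
        have hxI : x ∈ PrimeSpectrum.zeroLocus (I : Set A₀) := by
          rw [← hcover]
          exact Set.mem_iUnion.2 ⟨j, hj⟩
        exact hZ0 x hxI hxU
      · intro hx
        refine ⟨hx.2, Set.mem_iUnion₂.2 ⟨0, le_rfl, ?_⟩⟩
        rw [Fin.cons_zero]
        exact hx
    | succ i' =>
      obtain ⟨U, hU, hUeq⟩ := hord' i'
      refine ⟨U, hU, ?_⟩
      rw [Fin.cons_succ, ← hUeq]
      ext x
      constructor
      · rintro ⟨hxU, hx⟩
        obtain ⟨j, hj, hxj⟩ := Set.mem_iUnion₂.1 hx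
        induction j using Fin.cases with
        | zero => exact absurd (Fin.le_zero_iff.1 hj) (Fin.succ_ne_zero i')
        | succ j' =>
          rw [Fin.cons_succ] at hxj
          exact ⟨hxU, Set.mem_iUnion₂.2 ⟨j', Fin.succ_le_succ_iff.1 hj, hxj⟩⟩
      · rintro ⟨hxU, hx⟩
        obtain ⟨j', hj', hxj'⟩ := Set.mem_iUnion₂.1 hx
        refine ⟨hxU, Set.mem_iUnion₂.2 ⟨j'.succ, Fin.succ_le_succ_iff.2 hj', ?_⟩⟩
        rw [Fin.cons_succ]
        exact hxj'
  · intro i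
    induction i using Fin.cases with
    | zero =>
      rw [Fin.cons_zero]
      exact fun n => hflat0 g₁ n
    | succ i' =>
      rw [Fin.cons_succ]
      exact hfl' i'

end Induction

end Groth.Agent.Lib.T2H3.GrFlat
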