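import Groth.Agent.Lib.Helper29GrStd
import Groth.Agent.Lib.Helper29GrGam
import Mathlib.RingTheory.Ideal.AssociatedPrime.Finiteness

/-! ℤ-graded rings with vanishing negative part: homogeneous prime avoidance in positive degree,
homogeneous regular elements, finiteness of the pieces of a finitely generated graded module over
the degree-zero subring, and boundedness of torsion (helper3). -/

set_option autoImplicit false
set_option linter.unusedSectionVars false
open DirectSum

namespace Groth.Agent.Lib.T2H3.GrIrr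

open GrLC Groth.Agent.Lib.Helper29GrStd Groth.Agent.Lib.Helper29GrGam

universe u

variable {R : Type u} [CommRing R] (𝒜 : ℤ → AddSubgroup R) [GradedRing 𝒜]

/-- the irrelevant ideal -/
def irr : Ideal R := Ideal.span (⋃ n ∈ Set.Ioi (0 : ℤ), (𝒜 n : Set R))

theorem mem_irr_of_mem {n : ℤ} (hn : 0 < n) {r : R} (hr : r ∈ 𝒜 n) : r ∈ irr 𝒜 :=
  Ideal.subset_span (Set.mem_biUnion (show n ∈ Set.Ioi (0 : ℤ) from hn) hr)

theorem decompose_neg_eq_zero (hpos : ∀ n : ℤ, n < 0 → 𝒜 n = ⊥) (r : R) {n : ℤ} (hn : n < 0) :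
    (decompose 𝒜 r n : R) = 0 :=
  eq_zero_of_mem_of_eq_bot (hpos n hn) (SetLike.coe_mem _)

theorem decompose_zero_eq_zero_of_mem_irr (hpos : ∀ n : ℤ, n < 0 → 𝒜 n = ⊥) {y : R}
    (hy : y ∈ irr 𝒜) : (decompose 𝒜 y 0 : R) = 0 := by
  classical
  suffices h : ∀ r : R, (decompose 𝒜 (r * y) 0 : R) = 0 by
    have := h 1
    rwa [one_mul] at this
  rw [irr] at hy
  induction hy using Submodule.span_induction with
  | mem a ha =>
    intro r
    simp only [Set.mem_iUnion, Set.mem_Ioi, SetLike.mem_coe, exists_prop] at ha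
    obtain ⟨n, hn, han⟩ := ha
    have h1 : (decompose 𝒜 (r * a) 0 : R) = (decompose 𝒜 r (-n) : R) * a := by
      have := DirectSum.coe_decompose_mul_add_of_right_mem 𝒜 (i := -n) (a := r) han
      rwa [neg_add_cancel] at this
    rw [h1, decompose_neg_eq_zero 𝒜 hpos r (by omega), zero_mul]
  | zero =>
    intro r
    rw [mul_zero, DirectSum.decompose_zero, DirectSum.zero_apply, ZeroMemClass.coe_zero]
  | add y z _ _ hy hz =>
    intro r
    rw [mul_add, DirectSum.decompose_add, DirectSum.add_apply, AddMemClass.coe_add, hy r, hz r,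
      add_zero]
  | smul s y _ hy =>
    intro r
    rw [smul_eq_mul, ← mul_assoc]
    exact hy (r * s)

section Avoid

theorem exists_single (hpos : ∀ n : ℤ, n < 0 → 𝒜 n = ⊥) (I : Ideal R) (hIh : I.IsHomogeneous 𝒜)
    (hI : I ≤ irr 𝒜) (p : Ideal R) (h : ¬ I ≤ p) :
    ∃ (x : R) (d : ℤ), 0 < d ∧ x ∈ 𝒜 d ∧ x ∈ I ∧ x ∉ p := by
  classical
  obtain ⟨z, hzI, hzp⟩ := Set.not_subset.mp h
  by_contra hcon
  push Not at hcon
  apply hzp
  rw [← DirectSum.sum_support_decompose 𝒜 z]
  apply Ideal.sum_mem
  intro d _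
  rcases lt_trichotomy d 0 with hd | hd | hd
  · rw [decompose_neg_eq_zero 𝒜 hpos z hd]
    exact Ideal.zero_mem _
  · subst hd
    rw [decompose_zero_eq_zero_of_mem_irr 𝒜 hpos (hI hzI)]
    exact Ideal.zero_mem _
  · exact hcon _ d hd (SetLike.coe_mem _) (hIh d hzI)

/-- Homogeneous prime avoidance in positive degree. -/
theorem exists_homogeneous_avoid (hpos : ∀ n : ℤ, n < 0 → 𝒜 n = ⊥) (I : Ideal R)
    (hIh : I.IsHomogeneous 𝒜) (hI : I ≤ irr 𝒜) (P : Finset (Ideal R))
    (hP : ∀ p ∈ P, p.IsPrime ∧ ¬ I ≤ p) :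
    ∃ (x : R) (d : ℤ), 0 < d ∧ x ∈ 𝒜 d ∧ x ∈ I ∧ ∀ p ∈ P, x ∉ p := by
  classical
  induction P using Finset.strongInduction with
  | H P ih =>
    rcases P.eq_empty_or_nonempty with rfl | ⟨q, hq⟩
    · exact ⟨0, 1, one_pos, zero_mem _, zero_mem _, by simp⟩
    · by_cases hE : P.erase q = ∅
      · obtain ⟨x, d, hd, hxd, hxI, hxq⟩ := exists_single 𝒜 hpos I hIh hI q (hP q hq).2
        refine ⟨x, d, hd, hxd, hxI, fun p hp => ?_⟩
        have : p = q := by
          by_contra hne
          have : p ∈ P.erase q := Finset.mem_erase.mpr ⟨hne, hp⟩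
          rw [hE] at this
          simp at this
        rw [this]
        exact hxq
      · have key : ∀ p ∈ P, ∃ (x : R) (d : ℤ), 0 < d ∧ x ∈ 𝒜 d ∧ x ∈ I ∧
            ∀ p' ∈ P.erase p, x ∉ p' := fun p hp =>
          ih (P.erase p) (Finset.erase_ssubset hp)
            (fun p' hp' => hP p' (Finset.mem_of_mem_erase hp'))
        choose! x d hd hxd hxI hxa using key
        by_cases hex : ∃ p ∈ P, x p ∉ p
        · obtain ⟨p, hp, hxp⟩ := hex
          refine ⟨x p, d p, hd p hp, hxd p hp, hxI p hp, fun p' hp' => ?_⟩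
          by_cases h : p' = p
          · rw [h]; exact hxp
          · exact hxa p hp p' (Finset.mem_erase.mpr ⟨h, hp'⟩)
        · push Not at hex
          obtain ⟨p0, hp0⟩ := Finset.nonempty_iff_ne_empty.mpr hE
          have hp0P : p0 ∈ P := Finset.mem_of_mem_erase hp0
          set y := ∏ p ∈ P.erase q, x p with hy
          set a := ∑ p ∈ P.erase q, d p with ha'
          have hya : y ∈ 𝒜 a :=
            SetLike.prod_mem_graded 𝒜 d x (fun p hp => hxd p (Finset.mem_of_mem_erase hp))
          have ha : 0 < a :=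
            lt_of_lt_of_le (hd p0 hp0P)
              (Finset.single_le_sum (f := d)
                (fun p hp => le_of_lt (hd p (Finset.mem_of_mem_erase hp))) hp0)
          have hb : 0 < d q := hd q hq
          have hbn : 0 < (d q).toNat := by omega
          have han : 0 < a.toNat := by omega
          have hyI : y ∈ I := Ideal.prod_mem I hp0 (hxI p0 hp0P)
          refine ⟨y ^ (d q).toNat + x q ^ a.toNat, a * d q, mul_pos ha hb, ?_, ?_, ?_⟩
          · apply add_mem
            · have := SetLike.pow_mem_graded (d q).toNat hya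
              have h2 : (d q).toNat • a = a * d q := by
                rw [nsmul_eq_mul, Int.toNat_of_nonneg (le_of_lt hb), mul_comm]
              rwa [h2] at this
            · have := SetLike.pow_mem_graded a.toNat (hxd q hq)
              have h2 : a.toNat • d q = a * d q := by
                rw [nsmul_eq_mul, Int.toNat_of_nonneg (le_of_lt ha)]
              rwa [h2] at this
          · exact Ideal.add_mem _ (Ideal.pow_mem_of_mem _ hyI _ hbn)
              (Ideal.pow_mem_of_mem _ (hxI q hq) _ han)
          · intro p hp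
            have hpp : p.IsPrime := (hP p hp).1
            by_cases h : p = q
            · intro hmem
              have h1 : x q ^ a.toNat ∈ p := by
                rw [h]; exact Ideal.pow_mem_of_mem _ (hex q hq) _ han
              have h2 : y ^ (d q).toNat ∈ p := (Ideal.add_mem_iff_left _ h1).mp hmem
              have h3 : y ∈ p := hpp.mem_of_pow_mem _ h2
              obtain ⟨p', hp', hxp'⟩ := (Ideal.IsPrime.prod_mem_iff).mp h3
              rw [h] at hxp'
              exact hxa p' (Finset.mem_of_mem_erase hp') q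
                (Finset.mem_erase.mpr ⟨(Finset.ne_of_mem_erase hp').symm, hq⟩) hxp'
            · intro hmem
              have hyp : y ∈ p := Ideal.prod_mem p (Finset.mem_erase.mpr ⟨h, hp⟩) (hex p hp)
              have h1 : y ^ (d q).toNat ∈ p := Ideal.pow_mem_of_mem _ hyp _ hbn
              have h2 : x q ^ a.toNat ∈ p := (Ideal.add_mem_iff_right _ h1).mp hmem
              have h3 := hpp.mem_of_pow_mem _ h2
              exact hxa q hq p (Finset.mem_erase.mpr ⟨h, hp⟩) h3

end Avoid

section Regular

variable {M : Type u} [AddCommGroup M] [Module R M]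

/-- A finitely generated module over a Noetherian ring without `a`-torsion (`a` homogeneous, inside
the irrelevant ideal) has a homogeneous regular element of positive degree inside `a`. -/
theorem exists_regular_homogeneous [IsNoetherianRing R] [Module.Finite R M]
    (hpos : ∀ n : ℤ, n < 0 → 𝒜 n = ⊥) (a : Ideal R) (hah : a.IsHomogeneous 𝒜) (ha : a ≤ irr 𝒜)
    (htf : gam a M = ⊥) :
    ∃ (x : R) (d : ℤ), 0 < d ∧ x ∈ 𝒜 d ∧ x ∈ a ∧ Function.Injective (fun m : M => x • m) := by
  classical
  have hfin : (associatedPrimes R M).Finite := associatedPrimes.finite R M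
  obtain ⟨x, d, hd, hxd, hxa, hx⟩ := exists_homogeneous_avoid 𝒜 hpos a hah ha hfin.toFinset
    (fun p hp => by
      rw [Set.Finite.mem_toFinset] at hp
      refine ⟨hp.isPrime, fun hle => ?_⟩
      obtain ⟨hpp, y, hy⟩ := (isAssociatedPrime_iff).mp hp
      have hyg : y ∈ gam a M := by
        refine ⟨1, fun r hr => ?_⟩
        rw [pow_one] at hr
        have : r ∈ (⊥ : Submodule R M).colon {y} := hy ▸ hle hr
        rwa [Submodule.mem_colon_singleton, Submodule.mem_bot] at this
      rw [htf, Submodule.mem_bot] at hyg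
      apply hpp.ne_top
      rw [hy, hyg, Submodule.colon_singleton_zero])
  refine ⟨x, d, hd, hxd, hxa, ?_⟩
  have hnz : x ∉ { r : R | ∃ y : M, y ≠ 0 ∧ r • y = 0 } := by
    rw [← biUnion_associatedPrimes_eq_zero_divisors R M]
    intro hmem
    simp only [Set.mem_iUnion] at hmem
    obtain ⟨p, hp, hxp⟩ := hmem
    exact hx p (by rw [Set.Finite.mem_toFinset]; exact hp) hxp
  intro m₁ m₂ h
  by_contra hne
  apply hnz
  refine ⟨m₁ - m₂, sub_ne_zero.mpr hne, ?_⟩
  change x • m₁ = x • m₂ at h
  rw [smul_sub, h, sub_self]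

end Regular

end Groth.Agent.Lib.T2H3.GrIrr
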