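import Groth.Agent.Lib.T2H3GrIrrC

/-! Graded local cohomology with respect to the irrelevant ideal: the inductive step and the
final finiteness / vanishing theorems (helper3). -/

set_option autoImplicit false
set_option linter.unusedSectionVars false
set_option linter.style.haveILetI false
open DirectSum

noncomputable section

namespace Groth.Agent.Lib.T2H3.GrIrr

open GrLC Groth.Agent.Lib.Helper29GrStd Groth.Agent.Lib.Helper29GrGam Groth.Agent.Lib.T2H3.GrLes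
  Groth.Agent.Lib.Helper29GrHom Groth.Agent.Lib.Helper29GrSub Groth.Agent.Lib.Helper29GrQuot

universe u

variable {R : Type u} [CommRing R] [IsNoetherianRing R] {𝒜 : ℤ → AddSubgroup R} [GradedRing 𝒜]
variable (hpos : ∀ n : ℤ, n < 0 → 𝒜 n = ⊥) (a : HomogeneousIdeal 𝒜)
  (ha : a.toIdeal = irr 𝒜)

include hpos ha in
theorem propI_succ_of_torsionFree {i : ℕ} (hi : PropI 𝒜 a i)
    (M : Type u) [AddCommGroup M] [Module R M] [Module.Finite R M] (ℳ : ℤ → AddSubgroup M)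
    [DirectSum.Decomposition ℳ] [SetLike.GradedSMul 𝒜 ℳ] (htf : gam a.toIdeal M = ⊥)
    (E : StarInjRes 𝒜 ℳ) :
    (∀ n : ℤ, IsNoetherian (deg0 𝒜) (E.Hcomp a (i + 1) n)) ∧
      ∃ r : ℤ, ∀ n : ℤ, r ≤ n → E.Hcomp a (i + 1) n = ⊥ := by
  classical
  obtain ⟨x, d, hd, hxd, hxa, hreg⟩ := exists_regular_homogeneous 𝒜 hpos a.toIdeal
    a.isHomogeneous (le_of_eq ha) htf
  obtain ⟨P, hPdef⟩ : ∃ P : Submodule R M, P = LinearMap.range (LinearMap.lsmul R M x) :=
    ⟨_, rfl⟩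
  have hP : P.IsHomogeneous ℳ := hPdef ▸ range_lsmul_isHomogeneous hxd
  letI decQ : DirectSum.Decomposition (quotGr ℳ P) := quotDecomposition ℳ P hP
  letI gsQ : SetLike.GradedSMul 𝒜 (quotGr ℳ P) := quot_gradedSMul ℳ P 𝒜
  obtain ⟨F⟩ : Nonempty (StarInjRes 𝒜 (quotGr ℳ P)) :=
    ⟨Groth.Agent.Lib.Helper29GrRes.starInjRes 𝒜 (quotGr ℳ P)⟩
  obtain ⟨hFN, rN, hrN⟩ := hi (M ⧸ P) (quotGr ℳ P) F
  obtain ⟨ψ, δ, hψ, hδ, h0, h1, h2, h3, h4, h5, h6⟩ := exists_les_smul E F hxd hreg P.mkQ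
    (fun k m hm => ⟨m, hm, rfl⟩) P.mkQ_surjective
    (fun m => by
      rw [Submodule.mkQ_apply, Submodule.Quotient.mk_eq_zero, hPdef]
      exact Iff.rfl) a
  -- vanishing
  have hvan_aux : ∀ (k : ℕ) (n : ℤ), rN - d ≤ n → ∀ y ∈ E.Hcomp a (i + 1) n,
      x ^ k • y = 0 → y = 0 := by
    intro k
    induction k with
    | zero =>
      intro n _ y _ hy
      rwa [pow_zero, one_smul] at hy
    | succ k ih =>
      intro n hn y hy hxy
      rw [pow_succ, mul_smul] at hxy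
      have hxy0 : x • y = 0 :=
        ih (n + d) (by omega) (x • y) (smul_mem_Hcomp E a (i + 1) hxd hy) hxy
      obtain ⟨y', hy', hy'y⟩ := h5 i n y hy hxy0
      have hbot : F.Hcomp a i (n + d) = ⊥ := hrN (n + d) (by omega)
      rw [hbot, Submodule.mem_bot] at hy'
      rw [← hy'y, hy', map_zero]
  have hvan : ∀ n : ℤ, rN - d ≤ n → E.Hcomp a (i + 1) n = ⊥ := by
    intro n hn
    rw [eq_bot_iff]
    intro y hy
    obtain ⟨k, hk⟩ := exists_pow_smul_eq_zero E a (i + 1) hxa y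
    rw [Submodule.mem_bot]
    exact hvan_aux k n hn y hy hk
  refine ⟨?_, rN - d, hvan⟩
  -- finiteness, by descending induction
  have hnoeth : ∀ (k : ℕ) (n : ℤ), rN - d - n ≤ k →
      IsNoetherian (deg0 𝒜) (E.Hcomp a (i + 1) n) := by
    intro k
    induction k with
    | zero =>
      intro n hn
      rw [hvan n (by omega)]
      infer_instance
    | succ k ih =>
      intro n hn
      haveI : IsNoetherian (deg0 𝒜) (E.Hcomp a (i + 1) (n + d)) := ih (n + d) (by omega)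
      haveI : IsNoetherian (deg0 𝒜) (F.Hcomp a i (n + d)) := hFN (n + d)
      let f : F.Hcomp a i (n + d) →ₗ[deg0 𝒜] E.Hcomp a (i + 1) n :=
        pieceMap (δ i) _ _ (fun y hy => by
          have := hδ i (n + d) y hy
          rwa [add_neg_cancel_right] at this)
      let g : E.Hcomp a (i + 1) n →ₗ[deg0 𝒜] E.Hcomp a (i + 1) (n + d) :=
        pieceMap (LinearMap.lsmul R (E.H a (i + 1)) x) _ _
          (fun y hy => smul_mem_Hcomp E a (i + 1) hxd hy)
      refine isNoetherian_of_range_eq_ker f g ?_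
      ext y
      constructor
      · rintro ⟨y', rfl⟩
        rw [LinearMap.mem_ker]
        apply Subtype.ext
        change x • δ i (y' : F.H a i) = 0
        exact h6 i y'
      · intro hy
        rw [LinearMap.mem_ker] at hy
        have hy0 : x • (y : E.H a (i + 1)) = 0 := congrArg Subtype.val hy
        obtain ⟨y', hy', hy'y⟩ := h5 i n y y.2 hy0
        exact ⟨⟨y', hy'⟩, Subtype.ext hy'y⟩
  intro n
  exact hnoeth (rN - d - n).toNat n (Int.self_le_toNat _)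

include hpos ha in
theorem propI_succ {i : ℕ} (hi : PropI 𝒜 a i) : PropI 𝒜 a (i + 1) := by
  intro M _ _ _ ℳ _ _ E
  classical
  obtain ⟨Γ, hΓdef⟩ : ∃ Γ : Submodule R M, Γ = gam a.toIdeal M := ⟨_, rfl⟩
  have hΓ : Γ.IsHomogeneous ℳ := hΓdef ▸ gam_isHomogeneous 𝒜 ℳ a
  letI decS : DirectSum.Decomposition (subGr ℳ Γ) := subDecomposition ℳ Γ hΓ
  letI gsS : SetLike.GradedSMul 𝒜 (subGr ℳ Γ) := sub_gradedSMul ℳ Γ 𝒜
  letI decQ : DirectSum.Decomposition (quotGr ℳ Γ) := quotDecomposition ℳ Γ hΓ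
  letI gsQ : SetLike.GradedSMul 𝒜 (quotGr ℳ Γ) := quot_gradedSMul ℳ Γ 𝒜
  obtain ⟨EΓ⟩ : Nonempty (StarInjRes 𝒜 (subGr ℳ Γ)) :=
    ⟨Groth.Agent.Lib.Helper29GrRes.starInjRes 𝒜 (subGr ℳ Γ)⟩
  obtain ⟨EQ⟩ : Nonempty (StarInjRes 𝒜 (quotGr ℳ Γ)) :=
    ⟨Groth.Agent.Lib.Helper29GrRes.starInjRes 𝒜 (quotGr ℳ Γ)⟩
  have S : GrSES (subGr ℳ Γ) ℳ (quotGr ℳ Γ) Γ.subtype Γ.mkQ :=
    ⟨fun _ _ hm => hm, fun k m hm => ⟨m, hm, rfl⟩, Γ.injective_subtype, Γ.mkQ_surjective, by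
      rw [Submodule.ker_mkQ, Submodule.range_subtype]⟩
  obtain ⟨φ, hφ, hφf⟩ := exists_lift EΓ E Γ.subtype S.f_gr
  obtain ⟨ψ, hψ, hψg⟩ := exists_lift E EQ Γ.mkQ S.g_gr
  obtain ⟨δ, -, -, hex1, -, -⟩ := exists_les S hφ hφf hψ hψg a
  have htorΓ : gam a.toIdeal Γ = ⊤ := by
    rw [eq_top_iff]
    rintro ⟨m, hm⟩ -
    rw [hΓdef] at hm
    obtain ⟨k, hk⟩ := hm
    exact ⟨k, fun r hr => Subtype.ext (hk r hr)⟩
  have hinj : Function.Injective (ψ.H a (i + 1)) := by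
    rw [← LinearMap.ker_eq_bot, hex1 (i + 1), eq_bot_iff]
    rintro _ ⟨y, rfl⟩
    rw [H_succ_eq_zero_of_torsion EΓ a htorΓ i y, map_zero]
    exact zero_mem _
  obtain ⟨hQN, rQ, hrQ⟩ := propI_succ_of_torsionFree hpos a ha hi (M ⧸ Γ) (quotGr ℳ Γ)
    (by subst hΓdef; exact gam_quotient_eq_bot a.toIdeal M) EQ
  constructor
  · intro n
    haveI : IsNoetherian (deg0 𝒜) (EQ.Hcomp a (i + 1) n) := hQN n
    let f : E.Hcomp a (i + 1) n →ₗ[deg0 𝒜] EQ.Hcomp a (i + 1) n :=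
      pieceMap (ψ.H a (i + 1)) _ _ (fun y hy => CMap.H_mem_Hcomp ψ a hψ (i + 1) n hy)
    refine isNoetherian_of_injective f ?_
    intro y y' hyy'
    apply Subtype.ext
    apply hinj
    exact congrArg Subtype.val hyy'
  · refine ⟨rQ, fun n hn => ?_⟩
    rw [eq_bot_iff]
    intro y hy
    have h1 : ψ.H a (i + 1) y ∈ EQ.Hcomp a (i + 1) n := CMap.H_mem_Hcomp ψ a hψ (i + 1) n hy
    rw [hrQ n hn, Submodule.mem_bot] at h1
    rw [Submodule.mem_bot]
    apply hinj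
    rw [h1, map_zero]

include hpos ha in
/-- Pieces of graded local cohomology with respect to the irrelevant ideal are Noetherian over the
degree-zero subring and vanish in high degrees. -/
theorem propI (i : ℕ) : PropI 𝒜 a i := by
  induction i with
  | zero => exact propI_zero hpos a ha
  | succ i ih => exact propI_succ hpos a ha ih

end Groth.Agent.Lib.T2H3.GrIrr
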