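import Groth.Agent.Lib.T2H3GrIrrD
import Groth.Agent.S0326

/-! Graded local cohomology with respect to the irrelevant ideal: uniform vanishing in high
degrees (helper3). -/

set_option autoImplicit false
set_option linter.unusedSectionVars false
open DirectSum

namespace Groth.Agent.Lib.T2H3.GrIrr

open GrLC

universe u

variable {R : Type u} [CommRing R] [IsNoetherianRing R] {𝒜 : ℤ → AddSubgroup R} [GradedRing 𝒜]
variable (hpos : ∀ n : ℤ, n < 0 → 𝒜 n = ⊥) (a : HomogeneousIdeal 𝒜)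
  (ha : a.toIdeal = irr 𝒜)
variable {M : Type u} [AddCommGroup M] [Module R M] [Module.Finite R M] {ℳ : ℤ → AddSubgroup M}
  [DirectSum.Decomposition ℳ] [SetLike.GradedSMul 𝒜 ℳ] (E : StarInjRes 𝒜 ℳ)

include hpos ha in
theorem finite_Hcomp (i : ℕ) (n : ℤ) : Module.Finite (deg0 𝒜) (E.Hcomp a i n) := by
  have : IsNoetherian (deg0 𝒜) (E.Hcomp a i n) := (propI hpos a ha i M ℳ E).1 n
  infer_instance

include hpos ha in
theorem exists_Hcomp_eq_bot : ∃ r : ℤ, ∀ (i : ℕ) (n : ℤ), r ≤ n → E.Hcomp a i n = ⊥ := by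
  classical
  obtain ⟨s, hs⟩ : a.toIdeal.FG := (isNoetherianRing_iff_ideal_fg R).mp inferInstance _
  have hbig : ∀ i : ℕ, s.card < i → ∀ n : ℤ, E.Hcomp a i n = ⊥ := by
    intro i hi n
    obtain ⟨e⟩ := Groth.Agent.S13224.result R 𝒜 a M ℳ E i
    have : Subsingleton (LocCoh.H a.toIdeal i M) := by
      rw [← hs]
      exact Groth.Agent.S0326.result R s M i hi
    rw [eq_bot_iff]
    intro y _
    rw [Submodule.mem_bot]
    apply e.injective
    exact Subsingleton.elim _ _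
  have hr : ∀ i : ℕ, ∃ r : ℤ, ∀ n : ℤ, r ≤ n → E.Hcomp a i n = ⊥ :=
    fun i => (propI hpos a ha i M ℳ E).2
  choose r hr using hr
  obtain ⟨r₀, hr₀⟩ := Finset.exists_le ((Finset.range (s.card + 1)).image r)
  refine ⟨r₀, fun i n hn => ?_⟩
  by_cases hi : s.card < i
  · exact hbig i hi n
  · have h1 : r i ≤ r₀ :=
      hr₀ _ (Finset.mem_image_of_mem r (Finset.mem_range.mpr (by omega)))
    exact hr i n (le_trans h1 hn)

end Groth.Agent.Lib.T2H3.GrIrr
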