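import Mathlib
import Groth.Prelude.Def_OmegaPn
import Groth.Agent.Lib.T2H3GrEpi
import Groth.Agent.Lib.Helper18Con3
import Groth.Agent.Lib.Helper20OmegaAff

/-!
# The canonical map of graded pieces of ideal powers under flat base change is an isomorphism
-/

set_option autoImplicit false
set_option linter.style.haveILetI false
set_option linter.unusedSectionVars false
universe u
open CategoryTheory CategoryTheory.Limits AlgebraicGeometry TopologicalSpace Opposite TensorProduct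

namespace Groth.Agent.Lib.T2H3.GrIso

open Groth.Agent.Helper18OmLS Groth.Agent.Helper18Con Groth.Agent.Helper13PullbackUnit

section chart
variable {Y X Y' X' : Scheme.{u}} (f : Y ⟶ X) [IsClosedImmersion f] (v : X' ⟶ X) (u : Y' ⟶ Y)
  (f' : Y' ⟶ X') [IsClosedImmersion f'] (hsq : IsPullback u f' f v) (n : ℕ)
  (φ : (Scheme.Modules.pullback u).obj (PrinPart.grMod f n) ⟶ PrinPart.grMod f' n)
  (hφ : PrinPart.IsGrMap f' f v u n φ)
  {U' : X.Opens} (hU' : IsAffineOpen U') {W1 : X'.Opens} (hW1 : IsAffineOpen W1)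
  (h : W1 ≤ v ⁻¹ᵁ U')

include hsq h in
theorem chart_le : f' ⁻¹ᵁ W1 ≤ u ⁻¹ᵁ (f ⁻¹ᵁ U') := by
  intro y hy
  have h3 : (f' ≫ v) y ∈ U' := h hy
  rw [← hsq.w] at h3
  exact h3

include hsq hφ h in
theorem phi_double (s' : Γ(ClSub.idealMod (f.ker ^ n), U'))
    (s1 : Γ(ClSub.idealMod (f'.ker ^ n), W1))
    (hs1 : OmegaSh.idealSect (f'.ker ^ n) W1 s1 =
      v.appLE U' W1 h (OmegaSh.idealSect (f.ker ^ n) U' s')) :
    φ.app (f' ⁻¹ᵁ W1) (unitSec u (PrinPart.grMod f n) (chart_le f v u f' hsq h)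
      (unitSec f (ClSub.idealMod (f.ker ^ n)) (le_refl (f ⁻¹ᵁ U')) s')) =
    unitSec f' (ClSub.idealMod (f'.ker ^ n)) (le_refl (f' ⁻¹ᵁ W1)) s1 := by
  obtain ⟨st, hst⟩ := GrEpi.exists_lift_section' f v u f' hsq n U' s'
  have e1 : s1 = (ClSub.idealMod (f'.ker ^ n)).presheaf.map (homOfLE h).op st := by
    apply GrEpi.idealSect_injective (f'.ker ^ n) W1
    rw [hs1, idealSect_res, hst]
    rfl
  have h₂ : f' ⁻¹ᵁ W1 ≤ f' ⁻¹ᵁ (v ⁻¹ᵁ U') := f'.preimage_mono h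
  have h₁ := chart_le f v u f' hsq h
  have key := hφ.2 U' s' st hst (f' ⁻¹ᵁ W1) h₁ h₂
  have a1 : unitSec f (ClSub.idealMod (f.ker ^ n)) (le_refl (f ⁻¹ᵁ U')) s' =
      PrinPart.grSect f n U' s' := by
    rw [unitSec_apply]
    exact presheaf_map_homOfLE_refl _ _ _
  rw [a1, unitSec_apply, GrEpi.app_map' φ]
  refine key.trans ?_
  rw [unitSec_apply, presheaf_map_homOfLE_refl, e1]
  exact (OmegaSh.pullSect_map f' (ClSub.idealMod (f'.ker ^ n)) h st).symm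

include hsq hφ hU' hW1 h in
theorem chart_bijective [Flat v] : Function.Bijective (φ.app (f' ⁻¹ᵁ W1)) := by
  have hTaff : IsAffineOpen (f' ⁻¹ᵁ W1) := hW1.preimage f'
  have hT'aff : IsAffineOpen (f ⁻¹ᵁ U') := hU'.preimage f
  have hTT' := chart_le f v u f' hsq h
  letI algA'A : Algebra Γ(X, U') Γ(X', W1) := (v.appLE U' W1 h).hom.toAlgebra
  letI algAR : Algebra Γ(X', W1) Γ(Y', f' ⁻¹ᵁ W1) :=
    (f'.appLE W1 (f' ⁻¹ᵁ W1) le_rfl).hom.toAlgebra
  letI algA'R : Algebra Γ(X, U') Γ(Y', f' ⁻¹ᵁ W1) :=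
    ((algebraMap Γ(X', W1) Γ(Y', f' ⁻¹ᵁ W1)).comp (algebraMap Γ(X, U') Γ(X', W1))).toAlgebra
  haveI : IsScalarTower Γ(X, U') Γ(X', W1) Γ(Y', f' ⁻¹ᵁ W1) :=
    IsScalarTower.of_algebraMap_eq fun _ => rfl
  have hsqR : ∀ a : Γ(X, U'), algebraMap Γ(X, U') Γ(Y', f' ⁻¹ᵁ W1) a =
      u.appLE (f ⁻¹ᵁ U') (f' ⁻¹ᵁ W1) hTT' (f.appLE U' (f ⁻¹ᵁ U') le_rfl a) := by
    intro a
    have h1 : v.appLE U' W1 h ≫ f'.appLE W1 (f' ⁻¹ᵁ W1) le_rfl =
        (f' ≫ v).appLE U' (f' ⁻¹ᵁ W1) (f'.preimage_mono h) :=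
      Scheme.Hom.appLE_comp_appLE _ _ _ _ _ _ _
    have h2 : f.appLE U' (f ⁻¹ᵁ U') le_rfl ≫ u.appLE (f ⁻¹ᵁ U') (f' ⁻¹ᵁ W1) hTT' =
        (u ≫ f).appLE U' (f' ⁻¹ᵁ W1) hTT' :=
      Scheme.Hom.appLE_comp_appLE _ _ _ _ _ _ _
    have h3 := OmegaSh.appLE_congr_hom hsq.w (U := U') (V := f' ⁻¹ᵁ W1) hTT' (f'.preimage_mono h)
    have h4 : v.appLE U' W1 h ≫ f'.appLE W1 (f' ⁻¹ᵁ W1) le_rfl =
        f.appLE U' (f ⁻¹ᵁ U') le_rfl ≫ u.appLE (f ⁻¹ᵁ U') (f' ⁻¹ᵁ W1) hTT' := by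
      rw [h1, h2, h3]
    exact congr($h4 a)
  -- the comparison map of ideals
  have hmap := GrEpi.ideal_eq_map f v u f' hsq n hW1 hU' h
  have hτex : ∀ s' : Γ(ClSub.idealMod (f.ker ^ n), U'),
      ∃ s : Γ(ClSub.idealMod (f'.ker ^ n), W1), OmegaSh.idealSect (f'.ker ^ n) W1 s =
        v.appLE U' W1 h (OmegaSh.idealSect (f.ker ^ n) U' s') := by
    intro s'
    apply GrEpi.exists_idealSect_of_mem (f'.ker ^ n) hW1
    rw [hmap]
    exact Ideal.mem_map_of_mem _ (GrEpi.idealSect_mem_ideal (f.ker ^ n) hU' s')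
  choose τf hτf using hτex
  let τ : Γ(ClSub.idealMod (f.ker ^ n), U') →+ Γ(ClSub.idealMod (f'.ker ^ n), W1) :=
    { toFun := τf
      map_zero' := by
        apply GrEpi.idealSect_injective (f'.ker ^ n) W1
        rw [hτf, map_zero, map_zero, map_zero]
      map_add' := fun a b => by
        apply GrEpi.idealSect_injective (f'.ker ^ n) W1
        rw [hτf, map_add, map_add, map_add, hτf, hτf] }
  have hτ : ∀ (a : Γ(X, U')) (m : Γ(ClSub.idealMod (f.ker ^ n), U')),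
      τ (a • m) = algebraMap Γ(X, U') Γ(X', W1) a • τ m := by
    intro a m
    apply GrEpi.idealSect_injective (f'.ker ^ n) W1
    change OmegaSh.idealSect (f'.ker ^ n) W1 (τf (a • m)) = OmegaSh.idealSect (f'.ker ^ n) W1
      (algebraMap Γ(X, U') Γ(X', W1) a • τf m)
    rw [hτf, idealSect_smul, idealSect_smul, hτf, map_mul]
    rfl
  have hgen : ∀ m : Γ(ClSub.idealMod (f'.ker ^ n), W1),
      m ∈ Submodule.span Γ(X', W1) (Set.range τ) := by
    intro m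
    have h1 : OmegaSh.idealSect (f'.ker ^ n) W1 m ∈
        ((f.ker ^ n).ideal ⟨U', hU'⟩).map (v.appLE U' W1 h).hom := by
      rw [← hmap]
      exact GrEpi.idealSect_mem_ideal (f'.ker ^ n) hW1 m
    have key : ∀ x ∈ ((f.ker ^ n).ideal ⟨U', hU'⟩).map (v.appLE U' W1 h).hom,
        ∃ m ∈ Submodule.span Γ(X', W1) (Set.range τ),
          OmegaSh.idealSect (f'.ker ^ n) W1 m = x := by
      intro x hx
      refine Submodule.span_induction ?_ ?_ ?_ ?_ hx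
      · rintro _ ⟨σ', hσ', rfl⟩
        obtain ⟨s', hs'⟩ := GrEpi.exists_idealSect_of_mem (f.ker ^ n) hU' σ' hσ'
        refine ⟨τ s', Submodule.subset_span ⟨s', rfl⟩, ?_⟩
        change OmegaSh.idealSect (f'.ker ^ n) W1 (τf s') = _
        rw [hτf, hs']
      · exact ⟨0, zero_mem _, map_zero _⟩
      · rintro x y _ _ ⟨m, hm, rfl⟩ ⟨m', hm', rfl⟩
        exact ⟨m + m', add_mem hm hm', map_add _ _ _⟩
      · rintro a x _ ⟨m, hm, rfl⟩
        exact ⟨a • m, Submodule.smul_mem _ a hm, idealSect_smul _ W1 a m⟩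
    obtain ⟨m', hm', hmn⟩ := key _ h1
    rwa [GrEpi.idealSect_injective _ _ hmn] at hm'
  -- the tensor product descriptions
  obtain ⟨e₃, he₃⟩ := exists_pullback_equiv f' (ClSub.idealMod (f'.ker ^ n))
    (le_refl (f' ⁻¹ᵁ W1)) hW1 hTaff rfl
  let L : Γ(ClSub.idealMod (f.ker ^ n), U') →+
      Γ((Scheme.Modules.pullback u).obj ((Scheme.Modules.pullback f).obj
        (ClSub.idealMod (f.ker ^ n))), f' ⁻¹ᵁ W1) :=
    (unitSec u ((Scheme.Modules.pullback f).obj (ClSub.idealMod (f.ker ^ n))) hTT').comp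
      (unitSec f (ClSub.idealMod (f.ker ^ n)) (le_refl (f ⁻¹ᵁ U')))
  have hL : ∀ (a : Γ(X, U')) (m : Γ(ClSub.idealMod (f.ker ^ n), U')),
      L (a • m) = algebraMap Γ(X, U') Γ(Y', f' ⁻¹ᵁ W1) a • L m := by
    intro a m
    change unitSec u _ hTT' (unitSec f (ClSub.idealMod (f.ker ^ n)) (le_refl (f ⁻¹ᵁ U'))
      (a • m)) = _
    rw [unitSec_smul, unitSec_smul, hsqR]
    rfl
  obtain ⟨Λ, hΛ⟩ := exists_baseChangeEquiv (A := Γ(X, U')) (B := Γ(Y', f' ⁻¹ᵁ W1)) L hL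
    (fun N _ _ l hl => existsUnique_lift₂ f u (ClSub.idealMod (f.ker ^ n)) hU' hT'aff (le_refl _)
      hTaff hTT' N l (fun r x => by rw [hl, hsqR]))
  obtain ⟨Φ, hΦ, -, hΦb⟩ := exists_tensor_map (R := Γ(Y', f' ⁻¹ᵁ W1)) τ hτ
  let φT : Γ((Scheme.Modules.pullback u).obj ((Scheme.Modules.pullback f).obj
      (ClSub.idealMod (f.ker ^ n))), f' ⁻¹ᵁ W1) →+
      Γ((Scheme.Modules.pullback f').obj (ClSub.idealMod (f'.ker ^ n)), f' ⁻¹ᵁ W1) :=
    (φ.app (f' ⁻¹ᵁ W1)).hom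
  have hφT : ∀ x, φT x = φ.app (f' ⁻¹ᵁ W1) x := fun _ => rfl
  have hcomp : ∀ w : Γ(Y', f' ⁻¹ᵁ W1) ⊗[Γ(X, U')] Γ(ClSub.idealMod (f.ker ^ n), U'),
      φT (Λ w) = e₃ (Φ w) := by
    intro w
    induction w using TensorProduct.induction_on with
    | zero => rw [map_zero, map_zero, map_zero, map_zero]
    | tmul r s' =>
      rw [hΛ, hΦ, he₃]
      refine (Scheme.Modules.Hom.app_smul φ r _).trans ?_
      congr 1
      exact phi_double f v u f' hsq n φ hφ h s' (τ s') (hτf s')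
    | add x y hx hy => rw [map_add, map_add, map_add, map_add, hx, hy]
  haveI : Module.Flat Γ(X, U') Γ(X', W1) := Scheme.Hom.flat_appLE v hU' hW1 h
  let ι' : Γ(ClSub.idealMod (f.ker ^ n), U') →ₗ[Γ(X, U')] Γ(X, U') :=
    { toFun := OmegaSh.idealSect (f.ker ^ n) U'
      map_add' := map_add _
      map_smul' := fun a m => idealSect_smul _ U' a m }
  let ι : Γ(ClSub.idealMod (f'.ker ^ n), W1) →ₗ[Γ(X', W1)] Γ(X', W1) :=
    { toFun := OmegaSh.idealSect (f'.ker ^ n) W1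
      map_add' := map_add _
      map_smul' := fun a m => idealSect_smul _ W1 a m }
  have hb := hΦb ι' ι inferInstance (GrEpi.idealSect_injective _ U')
    (GrEpi.idealSect_injective _ W1) (fun n' => hτf n') hgen
  constructor
  · intro x y hxy
    obtain ⟨a, rfl⟩ := Λ.surjective x
    obtain ⟨b, rfl⟩ := Λ.surjective y
    have hxy' : φT (Λ a) = φT (Λ b) := hxy
    rw [hcomp, hcomp] at hxy'
    rw [hb.1 (e₃.injective hxy')]
  · intro y
    obtain ⟨w, rfl⟩ := e₃.surjective y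
    obtain ⟨a, rfl⟩ := hb.2 w
    exact ⟨Λ a, (hφT _).symm.trans (hcomp a)⟩

end chart

section main
variable {Y X Y' X' : Scheme.{u}} (f : Y ⟶ X) [IsClosedImmersion f] (v : X' ⟶ X) [Flat v]
  (u : Y' ⟶ Y) (f' : Y' ⟶ X') (hsq : IsPullback u f' f v) (n : ℕ)
  (φ : (Scheme.Modules.pullback u).obj (PrinPart.grMod f n) ⟶ PrinPart.grMod f' n)
  (hφ : PrinPart.IsGrMap f' f v u n φ)

include hsq hφ in
/-- S5953 -/
theorem isIso_grMap : IsIso φ := by
  haveI : IsClosedImmersion f' :=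
    MorphismProperty.of_isPullback (P := @IsClosedImmersion) hsq inferInstance
  haveI : (PrinPart.grMod f n).IsQuasicoherent :=
    inferInstanceAs ((Scheme.Modules.pullback f).obj (ClSub.idealMod (f.ker ^ n))).IsQuasicoherent
  haveI : (PrinPart.grMod f' n).IsQuasicoherent :=
    inferInstanceAs ((Scheme.Modules.pullback f').obj
      (ClSub.idealMod (f'.ker ^ n))).IsQuasicoherent
  let ι : Type u := {T : X.Opens × X'.Opens // IsAffineOpen T.1 ∧ IsAffineOpen T.2 ∧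
    T.2 ≤ v ⁻¹ᵁ T.1}
  have hcover : IsOpenCover (fun T : ι => f' ⁻¹ᵁ T.1.2) := by
    refine IsOpenCover.mk (eq_top_iff.mpr ?_)
    intro z _
    obtain ⟨U', hU', hvU', -⟩ := exists_isAffineOpen_mem_and_subset (x := v (f' z)) (U := ⊤) trivial
    have hx2 : f' z ∈ v ⁻¹ᵁ U' := hvU'
    obtain ⟨W1, hW1, hxW1, hW1le⟩ := exists_isAffineOpen_mem_and_subset hx2
    exact Opens.mem_iSup.mpr ⟨⟨⟨U', W1⟩, hU', hW1, hW1le⟩, hxW1⟩
  have haff : ∀ T : ι, IsAffineOpen (f' ⁻¹ᵁ T.1.2) := fun T => T.2.2.1.preimage f'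
  exact isIso_of_bijective_app_cover φ _ hcover haff (fun T =>
    chart_bijective f v u f' hsq n φ hφ T.2.1 T.2.2.1 T.2.2.2)

end main

end Groth.Agent.Lib.T2H3.GrIso
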