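import Mathlib
import Groth.Prelude.Def_OmegaPn
import Groth.Agent.Lib.T2H3GrIso

/-!
# The canonical map of conormal sheaves of a section under arbitrary base change is an isomorphism
-/

set_option autoImplicit false
set_option linter.style.haveILetI false
set_option linter.unusedSectionVars false
universe u
open CategoryTheory CategoryTheory.Limits AlgebraicGeometry TopologicalSpace Opposite TensorProduct

namespace Groth.Agent.Lib.T2H3.GrIsoSec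

open Groth.Agent.Helper18OmLS Groth.Agent.Helper18Con Groth.Agent.Helper13PullbackUnit

section alg3

/-- if `A → R` retracts `R → A` and `ι : N → A` is the inclusion of its kernel, then `ι` stays injective
after the base change `B = S ⊗[R] A`. -/
theorem lTensor_injective_of_retraction {R S A B : Type u} [CommRing R] [CommRing S] [CommRing A]
    [CommRing B] [Algebra R S] [Algebra R A] [Algebra R B] [Algebra A B] [Algebra S B]
    [IsScalarTower R A B] [IsScalarTower R S B] [Algebra.IsPushout R S A B]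
    {N : Type u} [AddCommGroup N] [Module A N]
    (ι : N →ₗ[A] A) (hι : Function.Injective ι)
    (π : A →+* R) (hπ : ∀ r, π (algebraMap R A r) = r) (hπι : ∀ n, π (ι n) = 0)
    (hker : ∀ a, π a = 0 → ∃ n, ι n = a) :
    Function.Injective (LinearMap.lTensor B ι) := by
  letI : Module R N := Module.compHom N (algebraMap R A)
  haveI : IsScalarTower R A N := IsScalarTower.of_algebraMap_smul fun _ _ => rfl
  have hex : ∀ a : A, ∃ n, ι n = a - algebraMap R A (π a) := fun a =>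
    hker _ (by rw [map_sub, hπ, sub_self])
  choose ρf hρf using hex
  let ρ : A →ₗ[R] N :=
    { toFun := ρf
      map_add' := fun a b => hι (by
        rw [map_add, hρf, hρf, hρf, map_add, map_add]; ring)
      map_smul' := fun r a => hι (by
        rw [RingHom.id_apply, hρf]
        change _ = ι (algebraMap R A r • ρf a)
        rw [LinearMap.map_smul ι, hρf, Algebra.smul_def, map_mul, hπ, smul_eq_mul, map_mul]
        ring) }
  have hρι : ∀ n, ρ (ι n) = n := fun n => hι (by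
    change ι (ρf (ι n)) = ι n
    rw [hρf, hπι, map_zero, sub_zero])
  let ιR : N →ₗ[R] A := ι.restrictScalars R
  have h1 : Function.Injective (LinearMap.lTensor S ιR) := by
    have hc : ρ.comp ιR = LinearMap.id := LinearMap.ext hρι
    have h0 : (LinearMap.lTensor S ρ).comp (LinearMap.lTensor S ιR) = LinearMap.id := by
      rw [← LinearMap.lTensor_comp, hc, LinearMap.lTensor_id]
    exact Function.LeftInverse.injective (g := LinearMap.lTensor S ρ) (fun x => congr($h0 x))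
  let c1 := Algebra.IsPushout.cancelBaseChange R S A B N
  let c2 := Algebra.IsPushout.cancelBaseChange R S A B A
  have h2 : ∀ x : S ⊗[R] N,
      LinearMap.lTensor B ι (c1.symm x) = c2.symm (LinearMap.lTensor S ιR x) := by
    intro x
    induction x using TensorProduct.induction_on with
    | zero => rw [map_zero, map_zero, map_zero, map_zero]
    | tmul s n =>
      rw [Algebra.IsPushout.cancelBaseChange_symm_tmul, LinearMap.lTensor_tmul,
        LinearMap.lTensor_tmul, Algebra.IsPushout.cancelBaseChange_symm_tmul]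
      rfl
    | add x y hx hy => rw [map_add, map_add, map_add, map_add, hx, hy]
  intro x y hxy
  obtain ⟨x', rfl⟩ := c1.symm.surjective x
  obtain ⟨y', rfl⟩ := c1.symm.surjective y
  rw [h2, h2] at hxy
  rw [h1 (c2.symm.injective hxy)]

end alg3

section alg2
variable {A' A R : Type u} [CommRing A'] [CommRing A] [CommRing R] [Algebra A' A] [Algebra A R]
  [Algebra A' R] [IsScalarTower A' A R]
  {N' N : Type u} [AddCommGroup N'] [Module A' N'] [AddCommGroup N] [Module A N]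
  (τ : N' →+ N) (hτ : ∀ (a : A') (n : N'), τ (a • n) = algebraMap A' A a • τ n)

include hτ in
/-- variant of `exists_tensor_map` with flatness replaced by what it is used for. -/
theorem exists_tensor_map' :
    ∃ Φ : R ⊗[A'] N' →+ R ⊗[A] N, (∀ (r : R) (n' : N'), Φ (r ⊗ₜ n') = r ⊗ₜ τ n') ∧
      ∀ (ι' : N' →ₗ[A'] A') (ι : N →ₗ[A] A), Function.Injective (LinearMap.lTensor A ι') →
        Function.Injective ι → (∀ n', ι (τ n') = algebraMap A' A (ι' n')) →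
        (∀ n : N, n ∈ Submodule.span A (Set.range τ)) → Function.Bijective Φ := by
  letI : Module A' N := Module.compHom N (algebraMap A' A)
  haveI : IsScalarTower A' A N := IsScalarTower.of_algebraMap_smul fun _ _ => rfl
  let τl : N' →ₗ[A'] N := { toFun := τ, map_add' := map_add τ, map_smul' := fun a n => hτ a n }
  let β : A ⊗[A'] N' →ₗ[A] N := LinearMap.liftBaseChange A τl
  have hβ : ∀ (a : A) (n' : N'), β (a ⊗ₜ n') = a • τ n' := fun a n' =>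
    LinearMap.liftBaseChange_tmul _ _ _ _
  let c := TensorProduct.AlgebraTensorModule.cancelBaseChange A' A A R N'
  let Φl : R ⊗[A'] N' →ₗ[A] R ⊗[A] N := (LinearMap.lTensor R β).comp c.symm.toLinearMap
  have hΦ : ∀ (r : R) (n' : N'), Φl (r ⊗ₜ n') = r ⊗ₜ τ n' := by
    intro r n'
    change (LinearMap.lTensor R β) (c.symm (r ⊗ₜ n')) = _
    rw [TensorProduct.AlgebraTensorModule.cancelBaseChange_symm_tmul, LinearMap.lTensor_tmul, hβ,
      one_smul]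
  have hsurj : (∀ n : N, n ∈ Submodule.span A (Set.range τ)) → Function.Surjective β := by
    intro hgen
    rw [← LinearMap.range_eq_top, eq_top_iff]
    intro n _
    have hn := hgen n
    refine Submodule.span_le.2 ?_ hn
    rintro _ ⟨n', rfl⟩
    exact ⟨1 ⊗ₜ n', by rw [hβ, one_smul]⟩
  refine ⟨Φl.toAddMonoidHom, hΦ, ?_⟩
  intro ι' ι h1 hι hcomp hgen
  have hinj : Function.Injective β := by
    have h2 : ∀ x : A ⊗[A'] N', ι (β x) = TensorProduct.rid A' A (LinearMap.lTensor A ι' x) := by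
      intro x
      induction x using TensorProduct.induction_on with
      | zero => simp
      | tmul a n' =>
        rw [hβ, map_smul, hcomp, LinearMap.lTensor_tmul, TensorProduct.rid_tmul, smul_eq_mul,
          Algebra.smul_def, mul_comm]
      | add x y hx hy => rw [map_add, map_add, map_add, map_add, hx, hy]
    intro x y hxy
    apply h1
    apply (TensorProduct.rid A' A).injective
    rw [← h2, ← h2, hxy]
  let βe : A ⊗[A'] N' ≃ₗ[A] N := LinearEquiv.ofBijective β ⟨hinj, hsurj hgen⟩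
  have h3 : Function.Bijective (LinearMap.lTensor R β) :=
    (LinearEquiv.lTensor R βe).bijective
  exact h3.comp c.symm.bijective

end alg2

noncomputable def idealSectL {X : Scheme.{u}} (K : X.IdealSheafData) (U : X.Opens) :
    Γ(ClSub.idealMod K, U) →ₗ[Γ(X, U)] Γ(X, U) :=
  { toFun := OmegaSh.idealSect K U
    map_add' := map_add _
    map_smul' := fun a m => idealSect_smul _ U a m }

section chart
variable {Y X Y' X' : Scheme.{u}} (f : Y ⟶ X) [IsClosedImmersion f] (v : X' ⟶ X) (u : Y' ⟶ Y)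
  (f' : Y' ⟶ X') [IsClosedImmersion f'] (hsq : IsPullback u f' f v) (n : ℕ)
  (φ : (Scheme.Modules.pullback u).obj (PrinPart.grMod f n) ⟶ PrinPart.grMod f' n)
  (hφ : PrinPart.IsGrMap f' f v u n φ)
  {U' : X.Opens} (hU' : IsAffineOpen U') {W1 : X'.Opens} (hW1 : IsAffineOpen W1)
  (h : W1 ≤ v ⁻¹ᵁ U')

include hsq hφ hU' hW1 h in
/-- the chart computation of `GrIso.chart_bijective`, with flatness replaced by what it is used for. -/
theorem chart_bijective_of_injective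
    (hinj : letI : Algebra Γ(X, U') Γ(X', W1) := (v.appLE U' W1 h).hom.toAlgebra
      Function.Injective (LinearMap.lTensor Γ(X', W1) (idealSectL (f.ker ^ n) U'))) :
    Function.Bijective (φ.app (f' ⁻¹ᵁ W1)) := by
  have hTaff : IsAffineOpen (f' ⁻¹ᵁ W1) := hW1.preimage f'
  have hT'aff : IsAffineOpen (f ⁻¹ᵁ U') := hU'.preimage f
  have hTT' := GrIso.chart_le f v u f' hsq h
  letI algA'A : Algebra Γ(X, U') Γ(X', W1) := (v.appLE U' W1 h).hom.toAlgebra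
  letI algAR : Algebra Γ(X', W1) Γ(Y', f' ⁻¹ᵁ W1) :=
    (f'.appLE W1 (f' ⁻¹ᵁ W1) le_rfl).hom.toAlgebra
  letI algA'R : Algebra Γ(X, U') Γ(Y', f' ⁻¹ᵁ W1) :=
    ((algebraMap Γ(X', W1) Γ(Y', f' ⁻¹ᵁ W1)).comp (algebraMap Γ(X, U') Γ(X', W1))).toAlgebra
  haveI : IsScalarTower Γ(X, U') Γ(X', W1) Γ(Y', f' ⁻¹ᵁ W1) :=
    IsScalarTower.of_algebraMap_eq fun _ => rfl
  have hsqR : ∀ a : Γ(X, U'), algebraMap Γ(X, U') Γ(Y', f' ⁻¹ᵁ W1) a =
      u.appLE (f ⁻¹ᵁ U') (f' ⁻¹ᵁ W1) hTT' (f.appLE U' (f ⁻¹ᵁ U') le_rfl a) := by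
    intro a
    have h1 : v.appLE U' W1 h ≫ f'.appLE W1 (f' ⁻¹ᵁ W1) le_rfl =
        (f' ≫ v).appLE U' (f' ⁻¹ᵁ W1) (f'.preimage_mono h) :=
      Scheme.Hom.appLE_comp_appLE _ _ _ _ _ _ _
    have h2 : f.appLE U' (f ⁻¹ᵁ U') le_rfl ≫ u.appLE (f ⁻¹ᵁ U') (f' ⁻¹ᵁ W1) hTT' =
        (u ≫ f).appLE U' (f' ⁻¹ᵁ W1) hTT' :=
      Scheme.Hom.appLE_comp_appLE _ _ _ _ _ _ _
    have h3 := OmegaSh.appLE_congr_hom hsq.w (U := U') (V := f' ⁻¹ᵁ W1) hTT' (f'.preimage_mono h)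
    have h4 : v.appLE U' W1 h ≫ f'.appLE W1 (f' ⁻¹ᵁ W1) le_rfl =
        f.appLE U' (f ⁻¹ᵁ U') le_rfl ≫ u.appLE (f ⁻¹ᵁ U') (f' ⁻¹ᵁ W1) hTT' := by
      rw [h1, h2, h3]
    exact congr($h4 a)
  -- the comparison map of ideals
  have hmap := GrEpi.ideal_eq_map f v u f' hsq n hW1 hU' h
  have hτex : ∀ s' : Γ(ClSub.idealMod (f.ker ^ n), U'),
      ∃ s : Γ(ClSub.idealMod (f'.ker ^ n), W1), OmegaSh.idealSect (f'.ker ^ n) W1 s =
        v.appLE U' W1 h (OmegaSh.idealSect (f.ker ^ n) U' s') := by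
    intro s'
    apply GrEpi.exists_idealSect_of_mem (f'.ker ^ n) hW1
    rw [hmap]
    exact Ideal.mem_map_of_mem _ (GrEpi.idealSect_mem_ideal (f.ker ^ n) hU' s')
  choose τf hτf using hτex
  let τ : Γ(ClSub.idealMod (f.ker ^ n), U') →+ Γ(ClSub.idealMod (f'.ker ^ n), W1) :=
    { toFun := τf
      map_zero' := by
        apply GrEpi.idealSect_injective (f'.ker ^ n) W1
        rw [hτf, map_zero, map_zero, map_zero]
      map_add' := fun a b => by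
        apply GrEpi.idealSect_injective (f'.ker ^ n) W1
        rw [hτf, map_add, map_add, map_add, hτf, hτf] }
  have hτ : ∀ (a : Γ(X, U')) (m : Γ(ClSub.idealMod (f.ker ^ n), U')),
      τ (a • m) = algebraMap Γ(X, U') Γ(X', W1) a • τ m := by
    intro a m
    apply GrEpi.idealSect_injective (f'.ker ^ n) W1
    change OmegaSh.idealSect (f'.ker ^ n) W1 (τf (a • m)) = OmegaSh.idealSect (f'.ker ^ n) W1
      (algebraMap Γ(X, U') Γ(X', W1) a • τf m)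
    rw [hτf, idealSect_smul, idealSect_smul, hτf, map_mul]
    rfl
  have hgen : ∀ m : Γ(ClSub.idealMod (f'.ker ^ n), W1),
      m ∈ Submodule.span Γ(X', W1) (Set.range τ) := by
    intro m
    have h1 : OmegaSh.idealSect (f'.ker ^ n) W1 m ∈
        ((f.ker ^ n).ideal ⟨U', hU'⟩).map (v.appLE U' W1 h).hom := by
      rw [← hmap]
      exact GrEpi.idealSect_mem_ideal (f'.ker ^ n) hW1 m
    have key : ∀ x ∈ ((f.ker ^ n).ideal ⟨U', hU'⟩).map (v.appLE U' W1 h).hom,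
        ∃ m ∈ Submodule.span Γ(X', W1) (Set.range τ),
          OmegaSh.idealSect (f'.ker ^ n) W1 m = x := by
      intro x hx
      refine Submodule.span_induction ?_ ?_ ?_ ?_ hx
      · rintro _ ⟨σ', hσ', rfl⟩
        obtain ⟨s', hs'⟩ := GrEpi.exists_idealSect_of_mem (f.ker ^ n) hU' σ' hσ'
        refine ⟨τ s', Submodule.subset_span ⟨s', rfl⟩, ?_⟩
        change OmegaSh.idealSect (f'.ker ^ n) W1 (τf s') = _
        rw [hτf, hs']
      · exact ⟨0, zero_mem _, map_zero _⟩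
      · rintro x y _ _ ⟨m, hm, rfl⟩ ⟨m', hm', rfl⟩
        exact ⟨m + m', add_mem hm hm', map_add _ _ _⟩
      · rintro a x _ ⟨m, hm, rfl⟩
        exact ⟨a • m, Submodule.smul_mem _ a hm, idealSect_smul _ W1 a m⟩
    obtain ⟨m', hm', hmn⟩ := key _ h1
    rwa [GrEpi.idealSect_injective _ _ hmn] at hm'
  -- the tensor product descriptions
  obtain ⟨e₃, he₃⟩ := exists_pullback_equiv f' (ClSub.idealMod (f'.ker ^ n))
    (le_refl (f' ⁻¹ᵁ W1)) hW1 hTaff rfl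
  let L : Γ(ClSub.idealMod (f.ker ^ n), U') →+
      Γ((Scheme.Modules.pullback u).obj ((Scheme.Modules.pullback f).obj
        (ClSub.idealMod (f.ker ^ n))), f' ⁻¹ᵁ W1) :=
    (unitSec u ((Scheme.Modules.pullback f).obj (ClSub.idealMod (f.ker ^ n))) hTT').comp
      (unitSec f (ClSub.idealMod (f.ker ^ n)) (le_refl (f ⁻¹ᵁ U')))
  have hL : ∀ (a : Γ(X, U')) (m : Γ(ClSub.idealMod (f.ker ^ n), U')),
      L (a • m) = algebraMap Γ(X, U') Γ(Y', f' ⁻¹ᵁ W1) a • L m := by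
    intro a m
    change unitSec u _ hTT' (unitSec f (ClSub.idealMod (f.ker ^ n)) (le_refl (f ⁻¹ᵁ U'))
      (a • m)) = _
    rw [unitSec_smul, unitSec_smul, hsqR]
    rfl
  obtain ⟨Λ, hΛ⟩ := exists_baseChangeEquiv (A := Γ(X, U')) (B := Γ(Y', f' ⁻¹ᵁ W1)) L hL
    (fun N _ _ l hl => existsUnique_lift₂ f u (ClSub.idealMod (f.ker ^ n)) hU' hT'aff (le_refl _)
      hTaff hTT' N l (fun r x => by rw [hl, hsqR]))
  obtain ⟨Φ, hΦ, hΦb⟩ := exists_tensor_map' (R := Γ(Y', f' ⁻¹ᵁ W1)) τ hτ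
  let φT : Γ((Scheme.Modules.pullback u).obj ((Scheme.Modules.pullback f).obj
      (ClSub.idealMod (f.ker ^ n))), f' ⁻¹ᵁ W1) →+
      Γ((Scheme.Modules.pullback f').obj (ClSub.idealMod (f'.ker ^ n)), f' ⁻¹ᵁ W1) :=
    (φ.app (f' ⁻¹ᵁ W1)).hom
  have hφT : ∀ x, φT x = φ.app (f' ⁻¹ᵁ W1) x := fun _ => rfl
  have hcomp : ∀ w : Γ(Y', f' ⁻¹ᵁ W1) ⊗[Γ(X, U')] Γ(ClSub.idealMod (f.ker ^ n), U'),
      φT (Λ w) = e₃ (Φ w) := by
    intro w
    induction w using TensorProduct.induction_on with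
    | zero => rw [map_zero, map_zero, map_zero, map_zero]
    | tmul r s' =>
      rw [hΛ, hΦ, he₃]
      refine (Scheme.Modules.Hom.app_smul φ r _).trans ?_
      congr 1
      exact GrIso.phi_double f v u f' hsq n φ hφ h s' (τ s') (hτf s')
    | add x y hx hy => rw [map_add, map_add, map_add, map_add, hx, hy]
  let ι : Γ(ClSub.idealMod (f'.ker ^ n), W1) →ₗ[Γ(X', W1)] Γ(X', W1) :=
    idealSectL (f'.ker ^ n) W1
  have hb := hΦb (idealSectL (f.ker ^ n) U') ι hinj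
    (GrEpi.idealSect_injective _ W1) (fun n' => hτf n') hgen
  constructor
  · intro x y hxy
    obtain ⟨a, rfl⟩ := Λ.surjective x
    obtain ⟨b, rfl⟩ := Λ.surjective y
    have hxy' : φT (Λ a) = φT (Λ b) := hxy
    rw [hcomp, hcomp] at hxy'
    rw [hb.1 (e₃.injective hxy')]
  · intro y
    obtain ⟨w, rfl⟩ := e₃.surjective y
    obtain ⟨a, rfl⟩ := hb.2 w
    exact ⟨Λ a, (hφT _).symm.trans (hcomp a)⟩

end chart

theorem id_appLE' {X : Scheme.{u}} (U : X.Opens) (e : U ≤ (𝟙 X) ⁻¹ᵁ U) :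
    (𝟙 X : X ⟶ X).appLE U U e = 𝟙 _ := by
  simp only [Scheme.Hom.appLE, Scheme.Hom.id_app]
  exact X.presheaf.map_id _

section sec
variable {X Y X' Y' : Scheme.{u}} (g : X ⟶ Y) (f : Y ⟶ X) [IsClosedImmersion f]
  (hf : f ≫ g = 𝟙 Y) (u : Y' ⟶ Y) (v : X' ⟶ X) (g' : X' ⟶ Y') (hsq : IsPullback v g' g u)
  (f' : Y' ⟶ X') (hf' : f' ≫ g' = 𝟙 Y') (hf'v : f' ≫ v = u ≫ f)

include hf hsq hf' hf'v in
theorem isPullback_section : IsPullback u f' f v := by
  refine IsPullback.of_bot ?_ hf'v.symm hsq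
  rw [hf, hf']
  exact IsPullback.id_vert u

include hf in
theorem exists_chart_section (y : Y) :
    ∃ U' : X.Opens, IsAffineOpen U' ∧ U' ≤ g ⁻¹ᵁ (f ⁻¹ᵁ U') ∧ f y ∈ U' := by
  obtain ⟨V₀, hV₀, hyV₀, -⟩ := exists_isAffineOpen_mem_and_subset (x := y) (U := ⊤) trivial
  have hgy : g (f y) = y := by
    rw [← Scheme.Hom.comp_apply, hf]
    rfl
  have hx : f y ∈ g ⁻¹ᵁ V₀ := by
    change g (f y) ∈ V₀
    rw [hgy]
    exact hyV₀
  obtain ⟨U'₀, hU'₀, hxU'₀, hU'₀le⟩ := exists_isAffineOpen_mem_and_subset hx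
  obtain ⟨a, ha, hya⟩ := hV₀.exists_basicOpen_le (V := f ⁻¹ᵁ U'₀) ⟨y, hxU'₀⟩ hyV₀
  have hU : X.basicOpen (g.appLE V₀ U'₀ hU'₀le a) = U'₀ ⊓ g ⁻¹ᵁ (Y.basicOpen a) := by
    rw [Scheme.preimage_basicOpen]
    exact Scheme.basicOpen_res X (g.app V₀ a) (homOfLE hU'₀le).op
  have hfg : ∀ D : Y.Opens, f ⁻¹ᵁ (g ⁻¹ᵁ D) = D := by
    intro D
    change (f ≫ g) ⁻¹ᵁ D = D
    rw [hf]
    rfl
  have hfU : f ⁻¹ᵁ (X.basicOpen (g.appLE V₀ U'₀ hU'₀le a)) = Y.basicOpen a := by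
    rw [hU]
    change f ⁻¹ᵁ U'₀ ⊓ f ⁻¹ᵁ (g ⁻¹ᵁ (Y.basicOpen a)) = _
    rw [hfg]
    exact inf_eq_right.2 ha
  refine ⟨X.basicOpen (g.appLE V₀ U'₀ hU'₀le a), hU'₀.basicOpen _, ?_, ?_⟩
  · rw [hfU, hU]
    exact inf_le_right
  · rw [hU]
    refine ⟨hxU'₀, ?_⟩
    change g (f y) ∈ Y.basicOpen a
    rw [hgy]
    exact hya

include hf hsq in
theorem hinj_section {U' : X.Opens} (hU' : IsAffineOpen U') (hU'g : U' ≤ g ⁻¹ᵁ (f ⁻¹ᵁ U'))
    {V' : Y'.Opens} (hV' : IsAffineOpen V') (hV'u : V' ≤ u ⁻¹ᵁ (f ⁻¹ᵁ U')) :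
    letI : Algebra Γ(X, U') Γ(X', v ⁻¹ᵁ U' ⊓ g' ⁻¹ᵁ V') :=
      (v.appLE U' (v ⁻¹ᵁ U' ⊓ g' ⁻¹ᵁ V') inf_le_left).hom.toAlgebra
    Function.Injective (LinearMap.lTensor Γ(X', v ⁻¹ᵁ U' ⊓ g' ⁻¹ᵁ V')
      (idealSectL (f.ker ^ 1) U')) := by
  have hVaff : IsAffineOpen (f ⁻¹ᵁ U') := hU'.preimage f
  letI aRS : Algebra Γ(Y, f ⁻¹ᵁ U') Γ(Y', V') := (u.appLE _ V' hV'u).hom.toAlgebra
  letI aRA : Algebra Γ(Y, f ⁻¹ᵁ U') Γ(X, U') := (g.appLE _ U' hU'g).hom.toAlgebra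
  letI aAB : Algebra Γ(X, U') Γ(X', v ⁻¹ᵁ U' ⊓ g' ⁻¹ᵁ V') :=
    (v.appLE U' (v ⁻¹ᵁ U' ⊓ g' ⁻¹ᵁ V') inf_le_left).hom.toAlgebra
  letI aSB : Algebra Γ(Y', V') Γ(X', v ⁻¹ᵁ U' ⊓ g' ⁻¹ᵁ V') :=
    (g'.appLE V' (v ⁻¹ᵁ U' ⊓ g' ⁻¹ᵁ V') inf_le_right).hom.toAlgebra
  letI aRB : Algebra Γ(Y, f ⁻¹ᵁ U') Γ(X', v ⁻¹ᵁ U' ⊓ g' ⁻¹ᵁ V') :=
    ((algebraMap Γ(X, U') Γ(X', v ⁻¹ᵁ U' ⊓ g' ⁻¹ᵁ V')).comp
      (algebraMap Γ(Y, f ⁻¹ᵁ U') Γ(X, U'))).toAlgebra
  haveI : IsScalarTower Γ(Y, f ⁻¹ᵁ U') Γ(X, U') Γ(X', v ⁻¹ᵁ U' ⊓ g' ⁻¹ᵁ V') :=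
    IsScalarTower.of_algebraMap_eq fun _ => rfl
  have hPO : IsPushout (g.appLE (f ⁻¹ᵁ U') U' hU'g) (u.appLE (f ⁻¹ᵁ U') V' hV'u)
      (v.appLE U' (v ⁻¹ᵁ U' ⊓ g' ⁻¹ᵁ V') inf_le_left)
      (g'.appLE V' (v ⁻¹ᵁ U' ⊓ g' ⁻¹ᵁ V') inf_le_right) := by
    have := isIso_pushoutSection_of_isAffineOpen hsq hV'u hU'g rfl hVaff hV' hU'
    exact (isIso_pushoutSection_iff hsq _ _ rfl).mp this
  haveI : IsScalarTower Γ(Y, f ⁻¹ᵁ U') Γ(Y', V') Γ(X', v ⁻¹ᵁ U' ⊓ g' ⁻¹ᵁ V') :=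
    IsScalarTower.of_algebraMap_eq fun r => congr($(hPO.w) r)
  haveI : Algebra.IsPushout Γ(Y, f ⁻¹ᵁ U') Γ(Y', V') Γ(X, U') Γ(X', v ⁻¹ᵁ U' ⊓ g' ⁻¹ᵁ V') :=
    CommRingCat.isPushout_iff_isPushout.mp hPO.flip
  have hkerU : (f.ker ^ 1).ideal ⟨U', hU'⟩ = RingHom.ker (f.app U').hom := by
    rw [pow_one, Scheme.Hom.ker_apply]
  refine lTensor_injective_of_retraction (R := Γ(Y, f ⁻¹ᵁ U')) (S := Γ(Y', V'))
    (idealSectL (f.ker ^ 1) U') (GrEpi.idealSect_injective _ U') (f.app U').hom ?_ ?_ ?_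
  · intro r
    have e1 : g.appLE (f ⁻¹ᵁ U') U' hU'g ≫ f.app U' = 𝟙 _ := by
      rw [Scheme.Hom.app_eq_appLE, Scheme.Hom.appLE_comp_appLE,
        OmegaSh.appLE_congr_hom hf (U := f ⁻¹ᵁ U') (V := f ⁻¹ᵁ U') _ le_rfl]
      exact id_appLE' _ _
    exact congr($e1 r)
  · intro m
    have := GrEpi.idealSect_mem_ideal (f.ker ^ 1) hU' m
    rw [hkerU, RingHom.mem_ker] at this
    exact this
  · intro a ha
    exact GrEpi.exists_idealSect_of_mem (f.ker ^ 1) hU' a (by rw [hkerU, RingHom.mem_ker]; exact ha)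

include hf hsq hf' hf'v in
/-- S5963 -/
theorem isIso_grMap_one_section
    (φ : (Scheme.Modules.pullback u).obj (PrinPart.grMod f 1) ⟶ PrinPart.grMod f' 1)
    (hφ : PrinPart.IsGrMap f' f v u 1 φ) : IsIso φ := by
  have hsq' := isPullback_section g f hf u v g' hsq f' hf' hf'v
  haveI : IsClosedImmersion f' :=
    MorphismProperty.of_isPullback (P := @IsClosedImmersion) hsq' inferInstance
  haveI : (PrinPart.grMod f 1).IsQuasicoherent :=
    inferInstanceAs ((Scheme.Modules.pullback f).obj (ClSub.idealMod (f.ker ^ 1))).IsQuasicoherent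
  haveI : (PrinPart.grMod f' 1).IsQuasicoherent :=
    inferInstanceAs ((Scheme.Modules.pullback f').obj
      (ClSub.idealMod (f'.ker ^ 1))).IsQuasicoherent
  let ι : Type u := {T : X.Opens × Y'.Opens // IsAffineOpen T.1 ∧ T.1 ≤ g ⁻¹ᵁ (f ⁻¹ᵁ T.1) ∧
    IsAffineOpen T.2 ∧ T.2 ≤ u ⁻¹ᵁ (f ⁻¹ᵁ T.1)}
  have hgf' : ∀ y' : Y', g' (f' y') = y' := by
    intro y'
    rw [← Scheme.Hom.comp_apply, hf']
    rfl
  have hvf' : ∀ y' : Y', v (f' y') = f (u y') := by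
    intro y'
    rw [← Scheme.Hom.comp_apply, ← Scheme.Hom.comp_apply, hf'v]
  have hcover : IsOpenCover (fun T : ι => f' ⁻¹ᵁ (v ⁻¹ᵁ T.1.1 ⊓ g' ⁻¹ᵁ T.1.2)) := by
    refine IsOpenCover.mk (eq_top_iff.mpr ?_)
    intro y' _
    obtain ⟨U', hU', hU'g, hyU'⟩ := exists_chart_section g f hf (u y')
    have hy2 : y' ∈ u ⁻¹ᵁ (f ⁻¹ᵁ U') := hyU'
    obtain ⟨V', hV', hyV', hV'le⟩ := exists_isAffineOpen_mem_and_subset hy2
    refine Opens.mem_iSup.mpr ⟨⟨⟨U', V'⟩, hU', hU'g, hV', hV'le⟩, ?_⟩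
    refine ⟨?_, ?_⟩
    · change v (f' y') ∈ U'
      rw [hvf']
      exact hyU'
    · change g' (f' y') ∈ V'
      rw [hgf']
      exact hyV'
  have hW1aff : ∀ T : ι, IsAffineOpen (v ⁻¹ᵁ T.1.1 ⊓ g' ⁻¹ᵁ T.1.2) := by
    intro T
    have hVaff : IsAffineOpen (f ⁻¹ᵁ T.1.1) := T.2.1.preimage f
    have : IsAffine _ := hVaff
    have : IsAffine _ := T.2.2.2.1
    have : IsAffine _ := T.2.1
    exact .of_isIso (Scheme.Hom.isPullback_resLE hsq T.2.2.2.2 T.2.2.1 rfl).isoPullback.hom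
  have haff : ∀ T : ι, IsAffineOpen (f' ⁻¹ᵁ (v ⁻¹ᵁ T.1.1 ⊓ g' ⁻¹ᵁ T.1.2)) := fun T =>
    (hW1aff T).preimage f'
  exact isIso_of_bijective_app_cover φ _ hcover haff (fun T =>
    chart_bijective_of_injective f v u f' hsq' 1 φ hφ T.2.1 (hW1aff T) inf_le_left
      (hinj_section g f hf u v g' hsq T.2.1 T.2.2.1 T.2.2.2.1 T.2.2.2.2))

end sec

end Groth.Agent.Lib.T2H3.GrIsoSec
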