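import Mathlib
import Groth.Prelude.Def_OmegaPn
import Groth.Agent.Lib.T2H3GrIsoSec
import Groth.Agent.Lib.Helper2LocFree

/-!
# Graded pieces of the ideal of a section under base change, flat graded pieces
-/

set_option autoImplicit false
set_option linter.style.haveILetI false
set_option linter.unusedSectionVars false
universe u
open CategoryTheory CategoryTheory.Limits AlgebraicGeometry TopologicalSpace Opposite TensorProduct

namespace Groth.Agent.Lib.T2H3.GrIsoSec2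

open Groth.Agent.Helper18OmLS Groth.Agent.Helper18Con Groth.Agent.Helper13PullbackUnit

section algA

/-- for a surjective `A → R` with kernel `J`: `1 ⊗ x = 0` in `R ⊗[A] M` forces `x ∈ J M`. -/
theorem mem_smul_top_of_one_tmul_eq_zero {A R : Type u} [CommRing A] [CommRing R] [Algebra A R]
    (hs : Function.Surjective (algebraMap A R)) {M : Type u} [AddCommGroup M] [Module A M] (x : M)
    (hx : (1 : R) ⊗ₜ[A] x = 0) :
    x ∈ (RingHom.ker (algebraMap A R) • ⊤ : Submodule A M) := by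
  have hs' : Function.Surjective (Algebra.ofId A R) := hs
  let e : (A ⧸ RingHom.ker (Algebra.ofId A R)) ≃ₐ[A] R := Ideal.quotientKerAlgEquivOfSurjective hs'
  let E : (A ⧸ RingHom.ker (Algebra.ofId A R)) ⊗[A] M ≃ₗ[A] R ⊗[A] M :=
    TensorProduct.congr e.toLinearEquiv (LinearEquiv.refl A M)
  have h1 : E ((1 : A ⧸ RingHom.ker (Algebra.ofId A R)) ⊗ₜ x) = (1 : R) ⊗ₜ x := by
    change (e.toLinearEquiv 1) ⊗ₜ[A] x = _
    congr 1
    exact map_one e
  have h2 : ((1 : A ⧸ RingHom.ker (Algebra.ofId A R)) ⊗ₜ[A] x) = 0 :=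
    E.injective (by rw [h1, hx, map_zero])
  have h3 := congrArg (TensorProduct.quotTensorEquivQuotSMul M (RingHom.ker (Algebra.ofId A R))) h2
  rw [TensorProduct.quotTensorEquivQuotSMul_mk_one_tmul, map_zero] at h3
  exact (Submodule.Quotient.mk_eq_zero _).1 h3

end algA

section algB
variable {R A : Type u} [CommRing R] [CommRing A] [Algebra R A]

/-- if the graded pieces `J^k/J^(k+1)`, `k < n`, are flat over `R`, the inclusion `J^n → A` stays injective
after tensoring with any `R`-module. -/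
theorem lTensor_pow_injective (J : Ideal A) (S : Type u) [AddCommGroup S] [Module R S] (n : ℕ)
    (G : ℕ → Type u) [∀ k, AddCommGroup (G k)] [∀ k, Module R (G k)]
    (hG : ∀ k, k < n → Module.Flat R (G k))
    (q : ∀ k, ((J ^ k).restrictScalars R) →ₗ[R] G k)
    (hq : ∀ k, k < n → Function.Surjective (q k))
    (hker : ∀ k, k < n → ∀ x : ((J ^ k).restrictScalars R), q k x = 0 ↔ (x : A) ∈ J ^ (k + 1)) :
    Function.Injective (LinearMap.lTensor S ((J ^ n).restrictScalars R).subtype) := by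
  induction n with
  | zero =>
    have hall : ∀ x : A, x ∈ (J ^ 0).restrictScalars R := by
      intro x
      rw [Submodule.restrictScalars_mem, pow_zero, Ideal.one_eq_top]
      trivial
    let ρ : A →ₗ[R] ((J ^ 0).restrictScalars R) :=
      { toFun := fun x => ⟨x, hall x⟩
        map_add' := fun _ _ => rfl
        map_smul' := fun _ _ => rfl }
    have hc : ρ.comp ((J ^ 0).restrictScalars R).subtype = LinearMap.id := LinearMap.ext fun _ => rfl
    have h0 : (LinearMap.lTensor S ρ).comp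
        (LinearMap.lTensor S ((J ^ 0).restrictScalars R).subtype) = LinearMap.id := by
      rw [← LinearMap.lTensor_comp, hc, LinearMap.lTensor_id]
    exact Function.LeftInverse.injective (g := LinearMap.lTensor S ρ) (fun x => congr($h0 x))
  | succ n ih =>
    have ih' := ih (fun k hk => hG k (Nat.lt_succ_of_lt hk)) (fun k hk => hq k (Nat.lt_succ_of_lt hk))
      (fun k hk => hker k (Nat.lt_succ_of_lt hk))
    have hle : (J ^ (n + 1)).restrictScalars R ≤ (J ^ n).restrictScalars R := by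
      intro x hx
      exact Ideal.pow_le_pow_right (Nat.le_succ n) hx
    let incl : ((J ^ (n + 1)).restrictScalars R) →ₗ[R] ((J ^ n).restrictScalars R) :=
      Submodule.inclusion hle
    have h1 : Function.Injective (LinearMap.lTensor S incl) := by
      haveI := hG n (Nat.lt_succ_self n)
      refine LinearMap.lTensor_injective_of_exact_of_flat (q n) (hq n (Nat.lt_succ_self n)) incl
        (Submodule.inclusion_injective hle) ?_ S
      intro y
      rw [hker n (Nat.lt_succ_self n) y]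
      constructor
      · intro hy
        exact ⟨⟨y.1, hy⟩, rfl⟩
      · rintro ⟨z, rfl⟩
        exact z.2
    have h2 : ((J ^ (n + 1)).restrictScalars R).subtype =
        ((J ^ n).restrictScalars R).subtype.comp incl := rfl
    rw [h2, LinearMap.lTensor_comp]
    exact ih'.comp h1

end algB

section algC

/-- transfer of injectivity along a pushout `B = S ⊗[R] A`. -/
theorem lTensor_injective_of_restrictScalars {R S A B : Type u} [CommRing R] [CommRing S]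
    [CommRing A] [CommRing B] [Algebra R S] [Algebra R A] [Algebra R B] [Algebra A B] [Algebra S B]
    [IsScalarTower R A B] [IsScalarTower R S B] [Algebra.IsPushout R S A B]
    {N : Type u} [AddCommGroup N] [Module A N] [Module R N] [IsScalarTower R A N]
    (ι : N →ₗ[A] A)
    (h1 : Function.Injective (LinearMap.lTensor S (ι.restrictScalars R))) :
    Function.Injective (LinearMap.lTensor B ι) := by
  let c1 := Algebra.IsPushout.cancelBaseChange R S A B N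
  let c2 := Algebra.IsPushout.cancelBaseChange R S A B A
  have h2 : ∀ x : S ⊗[R] N,
      LinearMap.lTensor B ι (c1.symm x) = c2.symm (LinearMap.lTensor S (ι.restrictScalars R) x) := by
    intro x
    induction x using TensorProduct.induction_on with
    | zero => rw [map_zero, map_zero, map_zero, map_zero]
    | tmul s n =>
      rw [Algebra.IsPushout.cancelBaseChange_symm_tmul, LinearMap.lTensor_tmul,
        LinearMap.lTensor_tmul, Algebra.IsPushout.cancelBaseChange_symm_tmul]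
      rfl
    | add x y hx hy => rw [map_add, map_add, map_add, map_add, hx, hy]
  intro x y hxy
  obtain ⟨x', rfl⟩ := c1.symm.surjective x
  obtain ⟨y', rfl⟩ := c1.symm.surjective y
  rw [h2, h2] at hxy
  rw [h1 (c2.symm.injective hxy)]

end algC

section geomD
variable {Y X : Scheme.{u}} (f : Y ⟶ X) [IsClosedImmersion f] (k : ℕ)
  {U' : X.Opens} (hU' : IsAffineOpen U')

include hU' in
theorem ideal_pow_eq : (f.ker ^ k).ideal ⟨U', hU'⟩ = (RingHom.ker (f.app U').hom) ^ k := by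
  rw [Scheme.IdealSheafData.ideal_pow, Pi.pow_apply, Scheme.Hom.ker_apply]

include hU' in
theorem idealSect_mem_pow (m : Γ(ClSub.idealMod (f.ker ^ k), U')) :
    OmegaSh.idealSect (f.ker ^ k) U' m ∈ (RingHom.ker (f.app U').hom) ^ k := by
  rw [← ideal_pow_eq f k hU']
  exact GrEpi.idealSect_mem_ideal (f.ker ^ k) hU' m

include hU' in
theorem exists_idealSect_of_mem_pow (a : Γ(X, U')) (ha : a ∈ (RingHom.ker (f.app U').hom) ^ k) :
    ∃ m : Γ(ClSub.idealMod (f.ker ^ k), U'), OmegaSh.idealSect (f.ker ^ k) U' m = a := by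
  apply GrEpi.exists_idealSect_of_mem (f.ker ^ k) hU' a
  rw [ideal_pow_eq f k hU']
  exact ha

include hU' in
/-- D1: every section of `Gr_k` over the affine `f⁻¹ U'` is a class. -/
theorem exists_unitSec_grMod (t : Γ(PrinPart.grMod f k, f ⁻¹ᵁ U')) :
    ∃ m : Γ(ClSub.idealMod (f.ker ^ k), U'),
      unitSec f (ClSub.idealMod (f.ker ^ k)) (le_refl (f ⁻¹ᵁ U')) m = t := by
  letI : Algebra Γ(X, U') Γ(Y, f ⁻¹ᵁ U') := (f.appLE U' (f ⁻¹ᵁ U') le_rfl).hom.toAlgebra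
  refine exists_unitSec_eq f (ClSub.idealMod (f.ker ^ k)) (le_refl (f ⁻¹ᵁ U')) hU' (hU'.preimage f) rfl
    ?_ t
  have := Scheme.Hom.app_surjective f U' hU'
  rw [Scheme.Hom.app_eq_appLE] at this
  exact this

include hU' in
/-- D2: a class in `Gr_k` vanishes over the affine `f⁻¹ U'` iff the section lies in `J^(k+1)`. -/
theorem unitSec_grMod_eq_zero_iff (m : Γ(ClSub.idealMod (f.ker ^ k), U')) :
    unitSec f (ClSub.idealMod (f.ker ^ k)) (le_refl (f ⁻¹ᵁ U')) m = 0 ↔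
      OmegaSh.idealSect (f.ker ^ k) U' m ∈ (RingHom.ker (f.app U').hom) ^ (k + 1) := by
  letI : Algebra Γ(X, U') Γ(Y, f ⁻¹ᵁ U') := (f.appLE U' (f ⁻¹ᵁ U') le_rfl).hom.toAlgebra
  have hkerJ : RingHom.ker (algebraMap Γ(X, U') Γ(Y, f ⁻¹ᵁ U')) = RingHom.ker (f.app U').hom := by
    ext a
    rw [RingHom.mem_ker, RingHom.mem_ker]
    change (f.appLE U' (f ⁻¹ᵁ U') le_rfl) a = 0 ↔ _
    rw [← Scheme.Hom.app_eq_appLE]
  have hsurj : Function.Surjective (algebraMap Γ(X, U') Γ(Y, f ⁻¹ᵁ U')) := by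
    have := Scheme.Hom.app_surjective f U' hU'
    rw [Scheme.Hom.app_eq_appLE] at this
    exact this
  -- the two translations between `J • ⊤` and `J * J^k`
  have key1 : ∀ m : Γ(ClSub.idealMod (f.ker ^ k), U'),
      m ∈ (RingHom.ker (f.app U').hom • ⊤ : Submodule Γ(X, U') Γ(ClSub.idealMod (f.ker ^ k), U')) →
      OmegaSh.idealSect (f.ker ^ k) U' m ∈ (RingHom.ker (f.app U').hom) ^ (k + 1) := by
    intro m hm
    refine Submodule.smul_induction_on hm ?_ ?_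
    · intro j hj m' _
      rw [idealSect_smul, pow_succ']
      exact Ideal.mul_mem_mul hj (idealSect_mem_pow f k hU' m')
    · intro x y hx hy
      rw [map_add]
      exact add_mem hx hy
  have key2 : ∀ a ∈ RingHom.ker (f.app U').hom * (RingHom.ker (f.app U').hom) ^ k,
      ∀ m : Γ(ClSub.idealMod (f.ker ^ k), U'), OmegaSh.idealSect (f.ker ^ k) U' m = a →
      m ∈ (RingHom.ker (f.app U').hom • ⊤ :
        Submodule Γ(X, U') Γ(ClSub.idealMod (f.ker ^ k), U')) := by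
    have hle : RingHom.ker (f.app U').hom * (RingHom.ker (f.app U').hom) ^ k ≤
        (RingHom.ker (f.app U').hom) ^ k := Ideal.mul_le_right
    intro a ha
    refine Submodule.mul_induction_on' (C := fun a _ => ∀ m : Γ(ClSub.idealMod (f.ker ^ k), U'),
      OmegaSh.idealSect (f.ker ^ k) U' m = a → m ∈ (RingHom.ker (f.app U').hom • ⊤ :
        Submodule Γ(X, U') Γ(ClSub.idealMod (f.ker ^ k), U'))) ?_ ?_ ha
    · intro j hj b hb m hm
      obtain ⟨mb, hmb⟩ := exists_idealSect_of_mem_pow f k hU' b hb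
      have e1 : m = j • mb := by
        apply GrEpi.idealSect_injective (f.ker ^ k) U'
        rw [hm, idealSect_smul, hmb]
      rw [e1]
      exact Submodule.smul_mem_smul hj trivial
    · intro x hx y hy ihx ihy m hm
      obtain ⟨mx, hmx⟩ := exists_idealSect_of_mem_pow f k hU' x (hle hx)
      obtain ⟨my, hmy⟩ := exists_idealSect_of_mem_pow f k hU' y (hle hy)
      have e1 : m = mx + my := by
        apply GrEpi.idealSect_injective (f.ker ^ k) U'
        rw [hm, map_add, hmx, hmy]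
      rw [e1]
      exact add_mem (ihx mx hmx) (ihy my hmy)
  constructor
  · intro h0
    obtain ⟨e, he⟩ := exists_pullback_equiv f (ClSub.idealMod (f.ker ^ k)) (le_refl (f ⁻¹ᵁ U')) hU'
      (hU'.preimage f) rfl
    have h1 : e ((1 : Γ(Y, f ⁻¹ᵁ U')) ⊗ₜ m) = 0 := by rw [he, one_smul, h0]
    have h2 : (1 : Γ(Y, f ⁻¹ᵁ U')) ⊗ₜ[Γ(X, U')] m = 0 := e.injective (h1.trans (map_zero e).symm)
    have h3 := mem_smul_top_of_one_tmul_eq_zero hsurj m h2
    rw [hkerJ] at h3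
    exact key1 m h3
  · intro hm
    rw [pow_succ'] at hm
    have h3 := key2 _ hm m rfl
    rw [← hkerJ] at h3
    exact unitSec_eq_zero_of_mem_smul_top f (ClSub.idealMod (f.ker ^ k)) (le_refl (f ⁻¹ᵁ U')) rfl h3

end geomD

section sec
variable {X Y X' Y' : Scheme.{u}} (g : X ⟶ Y) (f : Y ⟶ X) [IsClosedImmersion f]
  (hf : f ≫ g = 𝟙 Y) (u : Y' ⟶ Y) (v : X' ⟶ X) (g' : X' ⟶ Y') (hsq : IsPullback v g' g u)

include hf hsq in
theorem hinj_section_flat (n : ℕ) (hflat : ∀ k, k < n → FlatMod.IsFlat (PrinPart.grMod f k))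
    {U' : X.Opens} (hU' : IsAffineOpen U') (hU'g : U' ≤ g ⁻¹ᵁ (f ⁻¹ᵁ U'))
    {V' : Y'.Opens} (hV' : IsAffineOpen V') (hV'u : V' ≤ u ⁻¹ᵁ (f ⁻¹ᵁ U')) :
    letI : Algebra Γ(X, U') Γ(X', v ⁻¹ᵁ U' ⊓ g' ⁻¹ᵁ V') :=
      (v.appLE U' (v ⁻¹ᵁ U' ⊓ g' ⁻¹ᵁ V') inf_le_left).hom.toAlgebra
    Function.Injective (LinearMap.lTensor Γ(X', v ⁻¹ᵁ U' ⊓ g' ⁻¹ᵁ V')
      (GrIsoSec.idealSectL (f.ker ^ n) U')) := by
  have hVaff : IsAffineOpen (f ⁻¹ᵁ U') := hU'.preimage f
  letI aRS : Algebra Γ(Y, f ⁻¹ᵁ U') Γ(Y', V') := (u.appLE _ V' hV'u).hom.toAlgebra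
  letI aRA : Algebra Γ(Y, f ⁻¹ᵁ U') Γ(X, U') := (g.appLE _ U' hU'g).hom.toAlgebra
  letI aAB : Algebra Γ(X, U') Γ(X', v ⁻¹ᵁ U' ⊓ g' ⁻¹ᵁ V') :=
    (v.appLE U' (v ⁻¹ᵁ U' ⊓ g' ⁻¹ᵁ V') inf_le_left).hom.toAlgebra
  letI aSB : Algebra Γ(Y', V') Γ(X', v ⁻¹ᵁ U' ⊓ g' ⁻¹ᵁ V') :=
    (g'.appLE V' (v ⁻¹ᵁ U' ⊓ g' ⁻¹ᵁ V') inf_le_right).hom.toAlgebra
  letI aRB : Algebra Γ(Y, f ⁻¹ᵁ U') Γ(X', v ⁻¹ᵁ U' ⊓ g' ⁻¹ᵁ V') :=
    ((algebraMap Γ(X, U') Γ(X', v ⁻¹ᵁ U' ⊓ g' ⁻¹ᵁ V')).comp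
      (algebraMap Γ(Y, f ⁻¹ᵁ U') Γ(X, U'))).toAlgebra
  haveI : IsScalarTower Γ(Y, f ⁻¹ᵁ U') Γ(X, U') Γ(X', v ⁻¹ᵁ U' ⊓ g' ⁻¹ᵁ V') :=
    IsScalarTower.of_algebraMap_eq fun _ => rfl
  have hPO : IsPushout (g.appLE (f ⁻¹ᵁ U') U' hU'g) (u.appLE (f ⁻¹ᵁ U') V' hV'u)
      (v.appLE U' (v ⁻¹ᵁ U' ⊓ g' ⁻¹ᵁ V') inf_le_left)
      (g'.appLE V' (v ⁻¹ᵁ U' ⊓ g' ⁻¹ᵁ V') inf_le_right) := by
    have := isIso_pushoutSection_of_isAffineOpen hsq hV'u hU'g rfl hVaff hV' hU'
    exact (isIso_pushoutSection_iff hsq _ _ rfl).mp this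
  haveI : IsScalarTower Γ(Y, f ⁻¹ᵁ U') Γ(Y', V') Γ(X', v ⁻¹ᵁ U' ⊓ g' ⁻¹ᵁ V') :=
    IsScalarTower.of_algebraMap_eq fun r => congr($(hPO.w) r)
  haveI : Algebra.IsPushout Γ(Y, f ⁻¹ᵁ U') Γ(Y', V') Γ(X, U') Γ(X', v ⁻¹ᵁ U' ⊓ g' ⁻¹ᵁ V') :=
    CommRingCat.isPushout_iff_isPushout.mp hPO.flip
  have hπ : ∀ r : Γ(Y, f ⁻¹ᵁ U'), f.app U' (algebraMap Γ(Y, f ⁻¹ᵁ U') Γ(X, U') r) = r := by
    intro r
    have e1 : g.appLE (f ⁻¹ᵁ U') U' hU'g ≫ f.app U' = 𝟙 _ := by
      rw [Scheme.Hom.app_eq_appLE, Scheme.Hom.appLE_comp_appLE,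
        OmegaSh.appLE_congr_hom hf (U := f ⁻¹ᵁ U') (V := f ⁻¹ᵁ U') _ le_rfl]
      exact GrIsoSec.id_appLE' _ _
    exact congr($e1 r)
  -- `R`-module structures on the sections of the ideal powers
  letI mR : ∀ k, Module Γ(Y, f ⁻¹ᵁ U') Γ(ClSub.idealMod (f.ker ^ k), U') := fun k =>
    Module.compHom _ (algebraMap Γ(Y, f ⁻¹ᵁ U') Γ(X, U'))
  haveI : ∀ k, IsScalarTower Γ(Y, f ⁻¹ᵁ U') Γ(X, U') Γ(ClSub.idealMod (f.ker ^ k), U') := fun k =>
    IsScalarTower.of_algebraMap_smul fun _ _ => rfl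
  -- the inverse of the inclusion of the ideal powers
  have hmex : ∀ k (x : ((RingHom.ker (f.app U').hom ^ k).restrictScalars Γ(Y, f ⁻¹ᵁ U'))),
      ∃ m : Γ(ClSub.idealMod (f.ker ^ k), U'),
        OmegaSh.idealSect (f.ker ^ k) U' m = (x : Γ(X, U')) := fun k x =>
    exists_idealSect_of_mem_pow f k hU' x.1 x.2
  choose mf hmf using hmex
  let mL : ∀ k, ((RingHom.ker (f.app U').hom ^ k).restrictScalars Γ(Y, f ⁻¹ᵁ U')) →ₗ[Γ(Y, f ⁻¹ᵁ U')]
      Γ(ClSub.idealMod (f.ker ^ k), U') := fun k =>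
    { toFun := mf k
      map_add' := fun x y => by
        apply GrEpi.idealSect_injective (f.ker ^ k) U'
        rw [map_add, hmf, hmf, hmf]
        rfl
      map_smul' := fun r x => by
        apply GrEpi.idealSect_injective (f.ker ^ k) U'
        rw [RingHom.id_apply, hmf]
        change _ = OmegaSh.idealSect (f.ker ^ k) U'
          (algebraMap Γ(Y, f ⁻¹ᵁ U') Γ(X, U') r • mf k x)
        rw [idealSect_smul, hmf]
        exact Algebra.smul_def r (x : Γ(X, U')) }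
  let uL : ∀ k, Γ(ClSub.idealMod (f.ker ^ k), U') →ₗ[Γ(Y, f ⁻¹ᵁ U')]
      Γ(PrinPart.grMod f k, f ⁻¹ᵁ U') := fun k =>
    { toFun := unitSec f (ClSub.idealMod (f.ker ^ k)) (le_refl (f ⁻¹ᵁ U'))
      map_add' := map_add _
      map_smul' := fun r m => by
        change unitSec f (ClSub.idealMod (f.ker ^ k)) (le_refl (f ⁻¹ᵁ U'))
          (algebraMap Γ(Y, f ⁻¹ᵁ U') Γ(X, U') r • m) = r • unitSec f _ _ m
        rw [unitSec_smul]
        congr 1
        rw [← Scheme.Hom.app_eq_appLE]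
        exact hπ r }
  have hG : ∀ k, k < n → Module.Flat Γ(Y, f ⁻¹ᵁ U') Γ(PrinPart.grMod f k, f ⁻¹ᵁ U') := by
    intro k hk
    haveI : (PrinPart.grMod f k).IsQuasicoherent :=
      inferInstanceAs ((Scheme.Modules.pullback f).obj
        (ClSub.idealMod (f.ker ^ k))).IsQuasicoherent
    exact Groth.Agent.Lib.Helper2.LocFree.flat_sections_of_isFlatAt (PrinPart.grMod f k) hVaff
      (fun y _ => hflat k hk y)
  have hmfE : ∀ k (m : Γ(ClSub.idealMod (f.ker ^ k), U'))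
      (hm : OmegaSh.idealSect (f.ker ^ k) U' m ∈ RingHom.ker (f.app U').hom ^ k),
      mf k ⟨OmegaSh.idealSect (f.ker ^ k) U' m, hm⟩ = m := fun k m hm =>
    GrEpi.idealSect_injective (f.ker ^ k) U' (hmf k _)
  have hres := lTensor_pow_injective (RingHom.ker (f.app U').hom) Γ(Y', V') n
    (fun k => Γ(PrinPart.grMod f k, f ⁻¹ᵁ U')) hG (fun k => (uL k).comp (mL k))
    (fun k _ t => by
      obtain ⟨m, hm⟩ := exists_unitSec_grMod f k hU' t
      refine ⟨⟨OmegaSh.idealSect (f.ker ^ k) U' m, idealSect_mem_pow f k hU' m⟩, ?_⟩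
      change unitSec f _ _ (mf k _) = t
      rw [hmfE k m, hm])
    (fun k _ x => by
      change unitSec f (ClSub.idealMod (f.ker ^ k)) (le_refl (f ⁻¹ᵁ U')) (mf k x) = 0 ↔ _
      rw [unitSec_grMod_eq_zero_iff f k hU', hmf])
  let En : Γ(ClSub.idealMod (f.ker ^ n), U') →ₗ[Γ(Y, f ⁻¹ᵁ U')]
      ((RingHom.ker (f.app U').hom ^ n).restrictScalars Γ(Y, f ⁻¹ᵁ U')) :=
    { toFun := fun m => ⟨OmegaSh.idealSect (f.ker ^ n) U' m, idealSect_mem_pow f n hU' m⟩
      map_add' := fun a b => Subtype.ext (map_add _ a b)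
      map_smul' := fun r m => Subtype.ext (by
        change OmegaSh.idealSect (f.ker ^ n) U'
          (algebraMap Γ(Y, f ⁻¹ᵁ U') Γ(X, U') r • m) = r • OmegaSh.idealSect (f.ker ^ n) U' m
        rw [idealSect_smul, Algebra.smul_def]) }
  have hc : (mL n).comp En = LinearMap.id := LinearMap.ext fun m => hmfE n m _
  have hEn : Function.Injective (LinearMap.lTensor Γ(Y', V') En) := by
    have h0 : (LinearMap.lTensor Γ(Y', V') (mL n)).comp (LinearMap.lTensor Γ(Y', V') En) =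
        LinearMap.id := by
      rw [← LinearMap.lTensor_comp, hc, LinearMap.lTensor_id]
    exact Function.LeftInverse.injective (g := LinearMap.lTensor Γ(Y', V') (mL n))
      (fun x => congr($h0 x))
  have hι : (GrIsoSec.idealSectL (f.ker ^ n) U').restrictScalars Γ(Y, f ⁻¹ᵁ U') =
      ((RingHom.ker (f.app U').hom ^ n).restrictScalars Γ(Y, f ⁻¹ᵁ U')).subtype.comp En :=
    LinearMap.ext fun _ => rfl
  apply lTensor_injective_of_restrictScalars (R := Γ(Y, f ⁻¹ᵁ U')) (S := Γ(Y', V'))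
  rw [hι, LinearMap.lTensor_comp]
  exact hres.comp hEn

end sec

section main
variable {X Y X' Y' : Scheme.{u}} (g : X ⟶ Y) (f : Y ⟶ X) [IsClosedImmersion f]
  (hf : f ≫ g = 𝟙 Y) (u : Y' ⟶ Y) (v : X' ⟶ X) (g' : X' ⟶ Y') (hsq : IsPullback v g' g u)
  (f' : Y' ⟶ X') (hf' : f' ≫ g' = 𝟙 Y') (hf'v : f' ≫ v = u ≫ f)

include hf hsq hf' hf'v in
/-- S5964 -/
theorem isIso_grMap_section_flat (n : ℕ)
    (hflat : ∀ k, k < n → FlatMod.IsFlat (PrinPart.grMod f k))
    (φ : (Scheme.Modules.pullback u).obj (PrinPart.grMod f n) ⟶ PrinPart.grMod f' n)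
    (hφ : PrinPart.IsGrMap f' f v u n φ) : IsIso φ := by
  have hsq' := GrIsoSec.isPullback_section g f hf u v g' hsq f' hf' hf'v
  haveI : IsClosedImmersion f' :=
    MorphismProperty.of_isPullback (P := @IsClosedImmersion) hsq' inferInstance
  haveI : (PrinPart.grMod f n).IsQuasicoherent :=
    inferInstanceAs ((Scheme.Modules.pullback f).obj (ClSub.idealMod (f.ker ^ n))).IsQuasicoherent
  haveI : (PrinPart.grMod f' n).IsQuasicoherent :=
    inferInstanceAs ((Scheme.Modules.pullback f').obj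
      (ClSub.idealMod (f'.ker ^ n))).IsQuasicoherent
  let ι : Type u := {T : X.Opens × Y'.Opens // IsAffineOpen T.1 ∧ T.1 ≤ g ⁻¹ᵁ (f ⁻¹ᵁ T.1) ∧
    IsAffineOpen T.2 ∧ T.2 ≤ u ⁻¹ᵁ (f ⁻¹ᵁ T.1)}
  have hgf' : ∀ y' : Y', g' (f' y') = y' := by
    intro y'
    rw [← Scheme.Hom.comp_apply, hf']
    rfl
  have hvf' : ∀ y' : Y', v (f' y') = f (u y') := by
    intro y'
    rw [← Scheme.Hom.comp_apply, ← Scheme.Hom.comp_apply, hf'v]
  have hcover : IsOpenCover (fun T : ι => f' ⁻¹ᵁ (v ⁻¹ᵁ T.1.1 ⊓ g' ⁻¹ᵁ T.1.2)) := by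
    refine IsOpenCover.mk (eq_top_iff.mpr ?_)
    intro y' _
    obtain ⟨U', hU', hU'g, hyU'⟩ := GrIsoSec.exists_chart_section g f hf (u y')
    have hy2 : y' ∈ u ⁻¹ᵁ (f ⁻¹ᵁ U') := hyU'
    obtain ⟨V', hV', hyV', hV'le⟩ := exists_isAffineOpen_mem_and_subset hy2
    refine Opens.mem_iSup.mpr ⟨⟨⟨U', V'⟩, hU', hU'g, hV', hV'le⟩, ?_⟩
    refine ⟨?_, ?_⟩
    · change v (f' y') ∈ U'
      rw [hvf']
      exact hyU'
    · change g' (f' y') ∈ V'
      rw [hgf']
      exact hyV'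
  have hW1aff : ∀ T : ι, IsAffineOpen (v ⁻¹ᵁ T.1.1 ⊓ g' ⁻¹ᵁ T.1.2) := by
    intro T
    have hVaff : IsAffineOpen (f ⁻¹ᵁ T.1.1) := T.2.1.preimage f
    have : IsAffine _ := hVaff
    have : IsAffine _ := T.2.2.2.1
    have : IsAffine _ := T.2.1
    exact .of_isIso (Scheme.Hom.isPullback_resLE hsq T.2.2.2.2 T.2.2.1 rfl).isoPullback.hom
  have haff : ∀ T : ι, IsAffineOpen (f' ⁻¹ᵁ (v ⁻¹ᵁ T.1.1 ⊓ g' ⁻¹ᵁ T.1.2)) := fun T =>
    (hW1aff T).preimage f'
  exact isIso_of_bijective_app_cover φ _ hcover haff (fun T =>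
    GrIsoSec.chart_bijective_of_injective f v u f' hsq' n φ hφ T.2.1 (hW1aff T) inf_le_left
      (hinj_section_flat g f hf u v g' hsq n hflat T.2.1 T.2.2.1 T.2.2.2.1 T.2.2.2.2))

end main

end Groth.Agent.Lib.T2H3.GrIsoSec2
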