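import Groth.Agent.Lib.Helper29GrCompare

/-! Graded local cohomology: chain maps between *injective resolutions and the maps they
induce on `E.H a i` (helper3).

`CMap E F` is a chain map between two *injective resolutions (of possibly different graded
modules); `CMap.H` is the induced map on the cohomology of `Γ_a`; homotopic chain maps induce
the same map. -/

set_option autoImplicit false
open DirectSum

namespace Groth.Agent.Lib.T2H3.GrLes

open GrLC

universe u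

variable {ι : Type} [AddCommGroup ι] [DecidableEq ι]
variable {R : Type u} [CommRing R] {𝒜 : ι → AddSubgroup R} [GradedRing 𝒜]
variable {M : Type u} [AddCommGroup M] [Module R M] {ℳ : ι → AddSubgroup M}
  [DirectSum.Decomposition ℳ] [SetLike.GradedSMul 𝒜 ℳ]
variable {N : Type u} [AddCommGroup N] [Module R N] {𝒩 : ι → AddSubgroup N}
  [DirectSum.Decomposition 𝒩] [SetLike.GradedSMul 𝒜 𝒩]
variable {P : Type u} [AddCommGroup P] [Module R P] {𝓟 : ι → AddSubgroup P}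
  [DirectSum.Decomposition 𝓟] [SetLike.GradedSMul 𝒜 𝓟]

/-- Any linear map preserves torsion. -/
theorem gam_map {A B : Type u} [AddCommGroup A] [Module R A] [AddCommGroup B] [Module R B]
    (I : Ideal R) (f : A →ₗ[R] B) {x : A} (hx : x ∈ gam I A) : f x ∈ gam I B := by
  obtain ⟨n, hn⟩ := hx
  exact ⟨n, fun r hr => by rw [← map_smul, hn r hr, map_zero]⟩

theorem res_d_d (E : StarInjRes 𝒜 ℳ) (n : ℕ) (x : (E.X n).carrier) :
    E.d (n + 1) (E.d n x) = 0 := by
  have : E.d n x ∈ LinearMap.ker (E.d (n + 1)) := by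
    rw [E.exact_succ n]; exact LinearMap.mem_range_self _ x
  exact this

theorem res_d_ε (E : StarInjRes 𝒜 ℳ) (m : M) : E.d 0 (E.ε m) = 0 := by
  have : E.ε m ∈ LinearMap.ker (E.d 0) := by
    rw [E.exact_zero]; exact LinearMap.mem_range_self _ m
  exact this


section ToH

variable (E : StarInjRes 𝒜 ℳ) (a : HomogeneousIdeal 𝒜) (i : ℕ)

theorem toH_surjective : Function.Surjective (E.toH a i) := Submodule.mkQ_surjective _

theorem toH_eq_zero_iff (z : ↥(E.cocyc a i)) :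
    E.toH a i z = 0 ↔ (z : (E.X i).carrier) ∈ E.cobdy a i := by
  change Submodule.Quotient.mk z = 0 ↔ _
  rw [Submodule.Quotient.mk_eq_zero, Submodule.mem_comap]
  rfl

theorem toH_eq_toH_iff (z w : ↥(E.cocyc a i)) :
    E.toH a i z = E.toH a i w ↔ (z : (E.X i).carrier) - (w : (E.X i).carrier) ∈ E.cobdy a i := by
  rw [← sub_eq_zero, ← map_sub, toH_eq_zero_iff]
  rfl

theorem mem_cobdy_succ {n : ℕ} {z : (E.X (n + 1)).carrier} :
    z ∈ E.cobdy a (n + 1) ↔ ∃ w ∈ gam a.toIdeal (E.X n).carrier, E.d n w = z := Iff.rfl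

theorem mem_cobdy_zero {z : (E.X 0).carrier} : z ∈ E.cobdy a 0 ↔ z = 0 := Submodule.mem_bot R

theorem mem_cocyc {z : (E.X i).carrier} :
    z ∈ E.cocyc a i ↔ z ∈ gam a.toIdeal (E.X i).carrier ∧ E.d i z = 0 := Iff.rfl

theorem mem_Hcomp {g : ι} {x : E.H a i} :
    x ∈ E.Hcomp a i g ↔
      ∃ z : ↥(E.cocyc a i), (z : (E.X i).carrier) ∈ (E.X i).gr g ∧ E.toH a i z = x := Iff.rfl

end ToH

theorem mem_gam_prod' {A B : Type u} [AddCommGroup A] [Module R A] [AddCommGroup B] [Module R B]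
    (I : Ideal R) {p : A × B} : p ∈ gam I (A × B) ↔ p.1 ∈ gam I A ∧ p.2 ∈ gam I B := by
  constructor
  · intro hp
    exact ⟨gam_map I (LinearMap.fst R A B) hp, gam_map I (LinearMap.snd R A B) hp⟩
  · rintro ⟨h1, h2⟩
    have : p = LinearMap.inl R A B p.1 + LinearMap.inr R A B p.2 := by
      rw [LinearMap.inl_apply, LinearMap.inr_apply, Prod.mk_add_mk, add_zero, zero_add]
    rw [this]
    exact add_mem (gam_map I _ h1) (gam_map I _ h2)

/-- A chain map between two resolutions. -/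
structure CMap (E : StarInjRes 𝒜 ℳ) (F : StarInjRes 𝒜 𝒩) where
  θ : ∀ n, (E.X n).carrier →ₗ[R] (F.X n).carrier
  comm : ∀ n x, θ (n + 1) (E.d n x) = F.d n (θ n x)

namespace CMap

variable {E : StarInjRes 𝒜 ℳ} {F : StarInjRes 𝒜 𝒩} {G : StarInjRes 𝒜 𝓟}

/-- The chain map is homogeneous (of degree zero) in every degree. -/
def IsGr (φ : CMap E F) : Prop := ∀ n, IsGrHom (E.X n).gr (F.X n).gr (φ.θ n)

/-- The chain map lies over `f`. -/
def Over (φ : CMap E F) (f : M →ₗ[R] N) : Prop := ∀ m, φ.θ 0 (E.ε m) = F.ε (f m)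

variable (φ : CMap E F) (a : HomogeneousIdeal 𝒜)

theorem map_cocyc (i : ℕ) {z : (E.X i).carrier} (hz : z ∈ E.cocyc a i) :
    φ.θ i z ∈ F.cocyc a i := by
  refine ⟨gam_map _ _ hz.1, ?_⟩
  change F.d i (φ.θ i z) = 0
  rw [← φ.comm, LinearMap.mem_ker.mp hz.2, map_zero]

theorem map_cobdy (i : ℕ) {z : (E.X i).carrier} (hz : z ∈ E.cobdy a i) :
    φ.θ i z ∈ F.cobdy a i := by
  cases i with
  | zero =>
    have : z = 0 := (Submodule.mem_bot R).mp hz
    rw [this, map_zero]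
    exact zero_mem _
  | succ n =>
    obtain ⟨w, hw, rfl⟩ := hz
    exact ⟨φ.θ n w, gam_map _ _ hw, (φ.comm n w).symm⟩

/-- The induced map on cocycles. -/
def cocycMap (i : ℕ) : ↥(E.cocyc a i) →ₗ[R] ↥(F.cocyc a i) :=
  (φ.θ i).restrict (fun _ hz => φ.map_cocyc a i hz)

@[simp] theorem cocycMap_coe (i : ℕ) (z : ↥(E.cocyc a i)) :
    ((φ.cocycMap a i z : ↥(F.cocyc a i)) : (F.X i).carrier) = φ.θ i z := rfl

/-- The induced map on the cohomology of `Γ_a`. -/
def H (i : ℕ) : E.H a i →ₗ[R] F.H a i :=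
  Submodule.mapQ _ _ (φ.cocycMap a i) (fun z hz => by
    rw [Submodule.mem_comap] at hz ⊢
    exact φ.map_cobdy a i hz)

theorem H_toH (i : ℕ) (z : ↥(E.cocyc a i)) :
    φ.H a i (E.toH a i z) = F.toH a i (φ.cocycMap a i z) := rfl

theorem H_mem_Hcomp (hφ : φ.IsGr) (i : ℕ) (g : ι) {x : E.H a i} (hx : x ∈ E.Hcomp a i g) :
    φ.H a i x ∈ F.Hcomp a i g := by
  obtain ⟨z, hz, rfl⟩ := hx
  exact ⟨φ.cocycMap a i z, hφ i g _ hz, rfl⟩

/-- The identity chain map. -/
def id (E : StarInjRes 𝒜 ℳ) : CMap E E where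
  θ _ := LinearMap.id
  comm _ _ := rfl

theorem id_isGr (E : StarInjRes 𝒜 ℳ) : (CMap.id E).IsGr := fun _ _ _ h => h

theorem id_over (E : StarInjRes 𝒜 ℳ) : (CMap.id E).Over LinearMap.id := fun _ => rfl

theorem id_H (E : StarInjRes 𝒜 ℳ) (i : ℕ) : (CMap.id E).H a i = LinearMap.id := by
  apply LinearMap.ext
  intro x
  obtain ⟨z, rfl⟩ := Submodule.mkQ_surjective _ x
  rfl

/-- Composition of chain maps. -/
def comp (ψ : CMap F G) (φ : CMap E F) : CMap E G where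
  θ n := ψ.θ n ∘ₗ φ.θ n
  comm n x := by
    rw [LinearMap.comp_apply, LinearMap.comp_apply, φ.comm, ψ.comm]

theorem comp_isGr {ψ : CMap F G} {φ : CMap E F} (hψ : ψ.IsGr) (hφ : φ.IsGr) :
    (ψ.comp φ).IsGr := fun n g x hx => hψ n g _ (hφ n g x hx)

theorem comp_over {ψ : CMap F G} {φ : CMap E F} {f' : N →ₗ[R] P} {f : M →ₗ[R] N}
    (hψ : ψ.Over f') (hφ : φ.Over f) : (ψ.comp φ).Over (f' ∘ₗ f) := fun m => by
  change ψ.θ 0 (φ.θ 0 (E.ε m)) = G.ε (f' (f m))
  rw [hφ m, hψ (f m)]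

theorem comp_H (ψ : CMap F G) (φ : CMap E F) (i : ℕ) :
    (ψ.comp φ).H a i = ψ.H a i ∘ₗ φ.H a i := by
  apply LinearMap.ext
  intro x
  obtain ⟨z, rfl⟩ := Submodule.mkQ_surjective _ x
  rfl

/-- Chain homotopy between two chain maps (the homotopy need not be homogeneous). -/
def Homotopic (φ ψ : CMap E F) : Prop :=
  ∃ s : ∀ n, (E.X (n + 1)).carrier →ₗ[R] (F.X n).carrier,
    (∀ x, φ.θ 0 x - ψ.θ 0 x = s 0 (E.d 0 x)) ∧
    ∀ n x, φ.θ (n + 1) x - ψ.θ (n + 1) x = F.d n (s n x) + s (n + 1) (E.d (n + 1) x)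

theorem H_eq_of_homotopic {φ ψ : CMap E F} (h : Homotopic φ ψ) (i : ℕ) :
    φ.H a i = ψ.H a i := by
  obtain ⟨s, hs0, hs⟩ := h
  apply LinearMap.ext
  intro x
  obtain ⟨z, rfl⟩ := Submodule.mkQ_surjective _ x
  change F.toH a i (φ.cocycMap a i z) = F.toH a i (ψ.cocycMap a i z)
  rw [← sub_eq_zero, ← map_sub]
  change Submodule.Quotient.mk _ = 0
  rw [Submodule.Quotient.mk_eq_zero, Submodule.mem_comap]
  change φ.θ i z - ψ.θ i z ∈ F.cobdy a i
  have hdz : E.d i z = 0 := LinearMap.mem_ker.mp z.2.2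
  cases i with
  | zero =>
    rw [hs0, hdz, map_zero]
    exact zero_mem _
  | succ n =>
    rw [hs n, hdz, map_zero, add_zero]
    exact ⟨s n z, gam_map _ _ z.2.1, rfl⟩

end CMap

end Groth.Agent.Lib.T2H3.GrLes
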