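import Groth.Agent.Lib.T2H3GrLesA

/-! Graded local cohomology: existence of homogeneous lifts of a homogeneous map to
*injective resolutions, uniqueness up to homotopy, and independence of the resolution
(helper3). -/

set_option autoImplicit false
open DirectSum

noncomputable section

namespace Groth.Agent.Lib.T2H3.GrLes

open GrLC Groth.Agent.Lib.Helper29GrCompare

universe u

variable {ι : Type} [AddCommGroup ι] [DecidableEq ι]
variable {R : Type u} [CommRing R] {𝒜 : ι → AddSubgroup R} [GradedRing 𝒜]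
variable {M : Type u} [AddCommGroup M] [Module R M] {ℳ : ι → AddSubgroup M}
  [DirectSum.Decomposition ℳ] [SetLike.GradedSMul 𝒜 ℳ]
variable {N : Type u} [AddCommGroup N] [Module R N] {𝒩 : ι → AddSubgroup N}
  [DirectSum.Decomposition 𝒩] [SetLike.GradedSMul 𝒜 𝒩]

section Lift

variable (E : StarInjRes 𝒜 ℳ) (F : StarInjRes 𝒜 𝒩)

/-- A stage of a lift. -/
structure LStage (n : ℕ) where
  θ : (E.X n).carrier →ₗ[R] (F.X n).carrier
  hom : IsGrHom (E.X n).gr (F.X n).gr θ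
  kills : ∀ x : (E.X n).carrier, E.d n x = 0 → F.d n (θ x) = 0

variable {E F}

theorem exists_lstage_zero (f : M →ₗ[R] N) (hf : IsGrHom ℳ 𝒩 f) :
    ∃ s : LStage E F 0, ∀ m : M, s.θ (E.ε m) = F.ε (f m) := by
  have hker : LinearMap.ker E.ε ≤ LinearMap.ker (F.ε ∘ₗ f) := by
    intro m hm
    rw [LinearMap.mem_ker] at hm
    have : m = 0 := E.ε_injective (by rw [hm, map_zero])
    rw [this]
    exact zero_mem _
  have hγ : IsGrHom ℳ (F.X 0).gr (F.ε ∘ₗ f) := fun k x hx => F.ε_grHom k _ (hf k x hx)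
  obtain ⟨h, hh, hhε⟩ := exists_extension 𝒜 (E.X 0) (F.X 0) ℳ (F.starInj 0) E.ε E.ε_grHom
    (F.ε ∘ₗ f) hγ hker
  refine ⟨⟨h, hh, ?_⟩, hhε⟩
  intro x hx
  have hx' : x ∈ LinearMap.range E.ε := by rw [← E.exact_zero]; exact hx
  obtain ⟨m, rfl⟩ := hx'
  rw [hhε m]
  exact res_d_ε F (f m)

theorem exists_lstage_succ (n : ℕ) (s : LStage E F n) :
    ∃ t : LStage E F (n + 1), ∀ x : (E.X n).carrier, t.θ (E.d n x) = F.d n (s.θ x) := by
  have hker : LinearMap.ker (E.d n) ≤ LinearMap.ker (F.d n ∘ₗ s.θ) := by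
    intro x hx
    exact s.kills x hx
  have hγ : IsGrHom (E.X n).gr (F.X (n + 1)).gr (F.d n ∘ₗ s.θ) :=
    fun k x hx => F.d_grHom n k _ (s.hom k x hx)
  obtain ⟨h, hh, hhd⟩ := exists_extension 𝒜 (E.X (n + 1)) (F.X (n + 1)) (E.X n).gr
    (F.starInj (n + 1)) (E.d n) (E.d_grHom n) (F.d n ∘ₗ s.θ) hγ hker
  refine ⟨⟨h, hh, ?_⟩, hhd⟩
  intro x hx
  have hx' : x ∈ LinearMap.range (E.d n) := by rw [← E.exact_succ n]; exact hx
  obtain ⟨y, rfl⟩ := hx'
  rw [hhd y]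
  exact res_d_d F n _

/-- Every homogeneous map lifts to a homogeneous chain map of *injective resolutions. -/
theorem exists_lift (E : StarInjRes 𝒜 ℳ) (F : StarInjRes 𝒜 𝒩) (f : M →ₗ[R] N)
    (hf : IsGrHom ℳ 𝒩 f) : ∃ φ : CMap E F, φ.IsGr ∧ φ.Over f := by
  obtain ⟨s0, hs0⟩ := exists_lstage_zero (E := E) (F := F) f hf
  choose next hnext using exists_lstage_succ (E := E) (F := F)
  let S : ∀ n, LStage E F n := fun n => Nat.rec s0 (fun n s => next n s) n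
  exact ⟨⟨fun n => (S n).θ, fun n x => hnext n (S n) x⟩, fun n => (S n).hom, hs0⟩

end Lift

section Homotopy

variable {E : StarInjRes 𝒜 ℳ} {F : StarInjRes 𝒜 𝒩}

/-- A stage of a homotopy between `φ` and `ψ`. -/
structure HStage (φ ψ : CMap E F) (n : ℕ) where
  s : (E.X (n + 1)).carrier →ₗ[R] (F.X n).carrier
  hom : IsGrHom (E.X (n + 1)).gr (F.X n).gr s
  rel : ∀ y : (E.X n).carrier, F.d n (s (E.d n y)) = F.d n (φ.θ n y - ψ.θ n y)

theorem exists_hstage_zero {φ ψ : CMap E F} (hφ : φ.IsGr) (hψ : ψ.IsGr)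
    (hε : ∀ m, φ.θ 0 (E.ε m) = ψ.θ 0 (E.ε m)) :
    ∃ t : HStage φ ψ 0, ∀ x, φ.θ 0 x - ψ.θ 0 x = t.s (E.d 0 x) := by
  have hker : LinearMap.ker (E.d 0) ≤ LinearMap.ker (φ.θ 0 - ψ.θ 0) := by
    intro x hx
    rw [E.exact_zero] at hx
    obtain ⟨m, rfl⟩ := hx
    rw [LinearMap.mem_ker, LinearMap.sub_apply, hε m, sub_self]
  have hγ : IsGrHom (E.X 0).gr (F.X 0).gr (φ.θ 0 - ψ.θ 0) := fun k x hx => by
    rw [LinearMap.sub_apply]
    exact sub_mem (hφ 0 k x hx) (hψ 0 k x hx)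
  obtain ⟨h, hh, hhd⟩ := exists_extension 𝒜 (E.X 1) (F.X 0) (E.X 0).gr (F.starInj 0)
    (E.d 0) (E.d_grHom 0) (φ.θ 0 - ψ.θ 0) hγ hker
  refine ⟨⟨h, hh, fun y => ?_⟩, fun x => ?_⟩
  · rw [hhd y, LinearMap.sub_apply]
  · rw [hhd x, LinearMap.sub_apply]

theorem exists_hstage_succ {φ ψ : CMap E F} (hφ : φ.IsGr) (hψ : ψ.IsGr) (n : ℕ)
    (t : HStage φ ψ n) :
    ∃ t' : HStage φ ψ (n + 1), ∀ x, φ.θ (n + 1) x - ψ.θ (n + 1) x =
      F.d n (t.s x) + t'.s (E.d (n + 1) x) := by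
  have hker : LinearMap.ker (E.d (n + 1)) ≤
      LinearMap.ker (φ.θ (n + 1) - ψ.θ (n + 1) - F.d n ∘ₗ t.s) := by
    intro x hx
    rw [E.exact_succ n] at hx
    obtain ⟨y, rfl⟩ := hx
    rw [LinearMap.mem_ker, LinearMap.sub_apply, LinearMap.sub_apply, LinearMap.comp_apply,
      t.rel y, φ.comm, ψ.comm, map_sub, sub_self]
  have hγ : IsGrHom (E.X (n + 1)).gr (F.X (n + 1)).gr
      (φ.θ (n + 1) - ψ.θ (n + 1) - F.d n ∘ₗ t.s) := fun k x hx => by
    rw [LinearMap.sub_apply, LinearMap.sub_apply]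
    exact sub_mem (sub_mem (hφ (n + 1) k x hx) (hψ (n + 1) k x hx))
      (F.d_grHom n k _ (t.hom k x hx))
  obtain ⟨h, hh, hhd⟩ := exists_extension 𝒜 (E.X (n + 2)) (F.X (n + 1)) (E.X (n + 1)).gr
    (F.starInj (n + 1)) (E.d (n + 1)) (E.d_grHom (n + 1)) _ hγ hker
  refine ⟨⟨h, hh, fun y => ?_⟩, fun x => ?_⟩
  · rw [hhd y, LinearMap.sub_apply, LinearMap.sub_apply, LinearMap.comp_apply, map_sub,
      res_d_d F n, sub_zero]
  · rw [hhd x, LinearMap.sub_apply, LinearMap.sub_apply, LinearMap.comp_apply]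
    abel

/-- Two homogeneous chain maps that agree on the augmentation are homotopic. -/
theorem homotopic_of_eq_on_ε {φ ψ : CMap E F} (hφ : φ.IsGr) (hψ : ψ.IsGr)
    (hε : ∀ m, φ.θ 0 (E.ε m) = ψ.θ 0 (E.ε m)) : CMap.Homotopic φ ψ := by
  obtain ⟨t0, ht0⟩ := exists_hstage_zero hφ hψ hε
  choose next hnext using exists_hstage_succ hφ hψ
  let S : ∀ n, HStage φ ψ n := fun n => Nat.rec t0 (fun n s => next n s) n
  exact ⟨fun n => (S n).s, ht0, fun n x => hnext n (S n) x⟩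

/-- Two homogeneous chain maps over the same map are homotopic. -/
theorem homotopic_of_over {φ ψ : CMap E F} (hφ : φ.IsGr) (hψ : ψ.IsGr) {f : M →ₗ[R] N}
    (hφf : φ.Over f) (hψf : ψ.Over f) : CMap.Homotopic φ ψ :=
  homotopic_of_eq_on_ε hφ hψ (fun m => by rw [hφf m, hψf m])

theorem H_eq_of_over {φ ψ : CMap E F} (hφ : φ.IsGr) (hψ : ψ.IsGr) {f : M →ₗ[R] N}
    (hφf : φ.Over f) (hψf : ψ.Over f) (a : HomogeneousIdeal 𝒜) (i : ℕ) :
    φ.H a i = ψ.H a i :=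
  CMap.H_eq_of_homotopic a (homotopic_of_over hφ hψ hφf hψf) i

end Homotopy

section Indep

variable {E F : StarInjRes 𝒜 ℳ}

/-- A homogeneous chain map over the identity between two resolutions of the same module
induces a bijection on `H`, and identifies the graded pieces. -/
theorem H_bijective_of_over_id {φ : CMap E F} (hφ : φ.IsGr) (hφid : φ.Over LinearMap.id)
    (a : HomogeneousIdeal 𝒜) (i : ℕ) :
    Function.Bijective (φ.H a i) ∧
      ∀ (g : ι) (x : E.H a i), φ.H a i x ∈ F.Hcomp a i g ↔ x ∈ E.Hcomp a i g := by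
  obtain ⟨ψ, hψ, hψid⟩ := exists_lift F E (LinearMap.id : M →ₗ[R] M) (fun _ _ h => h)
  have h1 : (ψ.comp φ).H a i = LinearMap.id := by
    rw [← CMap.id_H a E i]
    refine H_eq_of_over (CMap.comp_isGr hψ hφ) (CMap.id_isGr E) (f := LinearMap.id) ?_
      (CMap.id_over E) a i
    have := CMap.comp_over hψid hφid
    rwa [LinearMap.id_comp] at this
  have h2 : (φ.comp ψ).H a i = LinearMap.id := by
    rw [← CMap.id_H a F i]
    refine H_eq_of_over (CMap.comp_isGr hφ hψ) (CMap.id_isGr F) (f := LinearMap.id) ?_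
      (CMap.id_over F) a i
    have := CMap.comp_over hφid hψid
    rwa [LinearMap.id_comp] at this
  rw [CMap.comp_H] at h1 h2
  have h1' : ∀ x, ψ.H a i (φ.H a i x) = x := fun x => LinearMap.congr_fun h1 x
  have h2' : ∀ y, φ.H a i (ψ.H a i y) = y := fun y => LinearMap.congr_fun h2 y
  refine ⟨⟨fun x y hxy => ?_, fun y => ⟨ψ.H a i y, h2' y⟩⟩, fun g x => ⟨fun hx => ?_, fun hx => ?_⟩⟩
  · rw [← h1' x, ← h1' y, hxy]
  · rw [← h1' x]
    exact CMap.H_mem_Hcomp ψ a hψ i g hx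
  · exact CMap.H_mem_Hcomp φ a hφ i g hx

end Indep

end Groth.Agent.Lib.T2H3.GrLes
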