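import Groth.Agent.Lib.T2H3GrLesC

/-! Graded local cohomology: the horseshoe lemma in the graded category.  From a short exact
sequence `0 → M' → M → M'' → 0` of graded modules and *injective resolutions `E'`, `E''` of the
outer terms we build a *injective resolution of `M` with terms `E'ⁿ × E''ⁿ` (helper3). -/

set_option autoImplicit false
set_option linter.unusedSectionVars false
open DirectSum

noncomputable section

namespace Groth.Agent.Lib.T2H3.GrLes

open GrLC Groth.Agent.Lib.Helper29GrCompare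

universe u

variable {ι : Type} [AddCommGroup ι] [DecidableEq ι]
variable {R : Type u} [CommRing R] {𝒜 : ι → AddSubgroup R} [GradedRing 𝒜]
variable {M' : Type u} [AddCommGroup M'] [Module R M'] {ℳ' : ι → AddSubgroup M'}
  [DirectSum.Decomposition ℳ'] [SetLike.GradedSMul 𝒜 ℳ']
variable {M : Type u} [AddCommGroup M] [Module R M] {ℳ : ι → AddSubgroup M}
  [DirectSum.Decomposition ℳ] [SetLike.GradedSMul 𝒜 ℳ]
variable {M'' : Type u} [AddCommGroup M''] [Module R M''] {ℳ'' : ι → AddSubgroup M''}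
  [DirectSum.Decomposition ℳ''] [SetLike.GradedSMul 𝒜 ℳ'']

/-- A short exact sequence of graded modules. -/
structure GrSES (ℳ' : ι → AddSubgroup M') (ℳ : ι → AddSubgroup M) (ℳ'' : ι → AddSubgroup M'')
    (f : M' →ₗ[R] M) (g : M →ₗ[R] M'') : Prop where
  f_gr : IsGrHom ℳ' ℳ f
  g_gr : IsGrHom ℳ ℳ'' g
  f_inj : Function.Injective f
  g_surj : Function.Surjective g
  exact : LinearMap.ker g = LinearMap.range f

omit [AddCommGroup ι] [DecidableEq ι] [Decomposition ℳ'] [Decomposition ℳ] [Decomposition ℳ''] in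
theorem GrSES.g_f {f : M' →ₗ[R] M} {g : M →ₗ[R] M''} (S : GrSES ℳ' ℳ ℳ'' f g) (m' : M') :
    g (f m') = 0 := by
  have : f m' ∈ LinearMap.ker g := by rw [S.exact]; exact LinearMap.mem_range_self _ _
  exact this

/-- Twisting data for the horseshoe resolution. -/
structure Twist (E' : StarInjRes 𝒜 ℳ') (E'' : StarInjRes 𝒜 ℳ'') (ℳ : ι → AddSubgroup M)
    (f : M' →ₗ[R] M) (g : M →ₗ[R] M'') where
  η : M →ₗ[R] (E'.X 0).carrier
  η_gr : IsGrHom ℳ (E'.X 0).gr η
  η_f : ∀ m', η (f m') = E'.ε m'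
  τ : ∀ n, (E''.X n).carrier →ₗ[R] (E'.X (n + 1)).carrier
  τ_gr : ∀ n, IsGrHom (E''.X n).gr (E'.X (n + 1)).gr (τ n)
  τ_zero : ∀ m, τ 0 (E''.ε (g m)) = - E'.d 0 (η m)
  τ_succ : ∀ n c, τ (n + 1) (E''.d n c) = - E'.d (n + 1) (τ n c)

namespace Twist

variable {E' : StarInjRes 𝒜 ℳ'} {E'' : StarInjRes 𝒜 ℳ''} {f : M' →ₗ[R] M} {g : M →ₗ[R] M''}
  (T : Twist E' E'' ℳ f g)

/-- The differential of the horseshoe resolution. -/
def dd (n : ℕ) : (E'.X n).carrier × (E''.X n).carrier →ₗ[R]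
    (E'.X (n + 1)).carrier × (E''.X (n + 1)).carrier :=
  LinearMap.prod (E'.d n ∘ₗ LinearMap.fst R _ _ + T.τ n ∘ₗ LinearMap.snd R _ _)
    (E''.d n ∘ₗ LinearMap.snd R _ _)

omit [Decomposition ℳ] [SetLike.GradedSMul 𝒜 ℳ] in
theorem dd_apply (n : ℕ) (p : (E'.X n).carrier × (E''.X n).carrier) :
    T.dd n p = (E'.d n p.1 + T.τ n p.2, E''.d n p.2) := rfl

/-- The augmentation of the horseshoe resolution. -/
def ee : M →ₗ[R] (E'.X 0).carrier × (E''.X 0).carrier :=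
  LinearMap.prod T.η (E''.ε ∘ₗ g)

omit [Decomposition ℳ] [SetLike.GradedSMul 𝒜 ℳ] in
theorem ee_apply (m : M) : T.ee m = (T.η m, E''.ε (g m)) := rfl

variable (S : GrSES ℳ' ℳ ℳ'' f g)

include S in
theorem ee_injective : Function.Injective T.ee := by
  rw [← LinearMap.ker_eq_bot, eq_bot_iff]
  intro m hm
  rw [LinearMap.mem_ker, ee_apply, Prod.mk_eq_zero] at hm
  have h1 : g m = 0 := E''.ε_injective (by rw [hm.2, map_zero])
  have h2 : m ∈ LinearMap.range f := by rw [← S.exact]; exact h1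
  obtain ⟨m', rfl⟩ := h2
  rw [T.η_f] at hm
  have h3 : m' = 0 := E'.ε_injective (by rw [hm.1, map_zero])
  rw [h3, map_zero]
  exact zero_mem _

include S in
theorem exact_zero : LinearMap.ker (T.dd 0) = LinearMap.range T.ee := by
  apply le_antisymm
  · rintro ⟨x, c⟩ hp
    rw [LinearMap.mem_ker, dd_apply, Prod.mk_eq_zero] at hp
    obtain ⟨h1, h2⟩ := hp
    have hc : c ∈ LinearMap.range E''.ε := by rw [← E''.exact_zero]; exact h2
    obtain ⟨m'', rfl⟩ := hc
    obtain ⟨m, rfl⟩ := S.g_surj m''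
    have h3 : E'.d 0 (x - T.η m) = 0 := by
      change E'.d 0 x + T.τ 0 (E''.ε (g m)) = 0 at h1
      rw [T.τ_zero] at h1
      rw [map_sub, sub_eq_add_neg]
      exact h1
    have h4 : x - T.η m ∈ LinearMap.range E'.ε := by rw [← E'.exact_zero]; exact h3
    obtain ⟨m', hm'⟩ := h4
    refine ⟨m + f m', ?_⟩
    rw [ee_apply, map_add, map_add, T.η_f, S.g_f, add_zero, hm']
    apply Prod.ext
    · change T.η m + (x - T.η m) = x
      abel
    · rfl
  · rintro _ ⟨m, rfl⟩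
    rw [LinearMap.mem_ker, ee_apply, dd_apply, Prod.mk_eq_zero]
    constructor
    · change E'.d 0 (T.η m) + T.τ 0 (E''.ε (g m)) = 0
      rw [T.τ_zero, add_neg_cancel]
    · exact res_d_ε E'' (g m)

theorem exact_succ (n : ℕ) : LinearMap.ker (T.dd (n + 1)) = LinearMap.range (T.dd n) := by
  apply le_antisymm
  · rintro ⟨x, c⟩ hp
    rw [LinearMap.mem_ker, dd_apply, Prod.mk_eq_zero] at hp
    obtain ⟨h1, h2⟩ := hp
    have hc : c ∈ LinearMap.range (E''.d n) := by rw [← E''.exact_succ n]; exact h2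
    obtain ⟨c₀, rfl⟩ := hc
    have h3 : E'.d (n + 1) (x - T.τ n c₀) = 0 := by
      change E'.d (n + 1) x + T.τ (n + 1) (E''.d n c₀) = 0 at h1
      rw [T.τ_succ] at h1
      rw [map_sub, sub_eq_add_neg]
      exact h1
    have h4 : x - T.τ n c₀ ∈ LinearMap.range (E'.d n) := by rw [← E'.exact_succ n]; exact h3
    obtain ⟨x₀, hx₀⟩ := h4
    refine ⟨(x₀, c₀), ?_⟩
    rw [dd_apply]
    apply Prod.ext
    · change E'.d n x₀ + T.τ n c₀ = x
      rw [hx₀]
      abel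
    · rfl
  · rintro _ ⟨⟨x, c⟩, rfl⟩
    rw [LinearMap.mem_ker, dd_apply, dd_apply, Prod.mk_eq_zero]
    constructor
    · change E'.d (n + 1) (E'.d n x + T.τ n c) + T.τ (n + 1) (E''.d n c) = 0
      rw [map_add, res_d_d E' n, zero_add, T.τ_succ, add_neg_cancel]
    · exact res_d_d E'' n c

/-- The horseshoe resolution of the middle term. -/
def res : StarInjRes 𝒜 ℳ where
  X n := prodGMod (E'.X n) (E''.X n)
  d := T.dd
  ε := T.ee
  d_grHom n k p hp := by
    refine ⟨?_, E''.d_grHom n k _ hp.2⟩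
    exact add_mem (E'.d_grHom n k _ hp.1) (T.τ_gr n k _ hp.2)
  ε_grHom k m hm := ⟨T.η_gr k m hm, E''.ε_grHom k _ (S.g_gr k m hm)⟩
  ε_injective := T.ee_injective S
  exact_zero := T.exact_zero S
  exact_succ := T.exact_succ
  starInj n := isStarInj_prod (E'.X n) (E''.X n) (E'.starInj n) (E''.starInj n)

end Twist

section Exists

variable (E' : StarInjRes 𝒜 ℳ') (E'' : StarInjRes 𝒜 ℳ'') {f : M' →ₗ[R] M} {g : M →ₗ[R] M''}
  (S : GrSES ℳ' ℳ ℳ'' f g)

/-- A stage of the twisting cochain. -/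
structure TStage (n : ℕ) where
  τ : (E''.X n).carrier →ₗ[R] (E'.X (n + 1)).carrier
  hom : IsGrHom (E''.X n).gr (E'.X (n + 1)).gr τ
  kills : ∀ c, E''.d n c = 0 → E'.d (n + 1) (τ c) = 0

theorem exists_tstage_succ (n : ℕ) (t : TStage E' E'' n) :
    ∃ t' : TStage E' E'' (n + 1), ∀ c, t'.τ (E''.d n c) = - E'.d (n + 1) (t.τ c) := by
  have hker : LinearMap.ker (E''.d n) ≤ LinearMap.ker (-(E'.d (n + 1) ∘ₗ t.τ)) := by
    intro c hc
    rw [LinearMap.mem_ker, LinearMap.neg_apply, LinearMap.comp_apply, t.kills c hc, neg_zero]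
  have hγ : IsGrHom (E''.X n).gr (E'.X (n + 2)).gr (-(E'.d (n + 1) ∘ₗ t.τ)) := fun k x hx => by
    rw [LinearMap.neg_apply]
    exact neg_mem (E'.d_grHom (n + 1) k _ (t.hom k x hx))
  obtain ⟨h, hh, hhd⟩ := exists_extension 𝒜 (E''.X (n + 1)) (E'.X (n + 2)) (E''.X n).gr
    (E'.starInj (n + 2)) (E''.d n) (E''.d_grHom n) _ hγ hker
  refine ⟨⟨h, hh, fun c hc => ?_⟩, fun c => ?_⟩
  · have hc' : c ∈ LinearMap.range (E''.d n) := by rw [← E''.exact_succ n]; exact hc
    obtain ⟨c₀, rfl⟩ := hc'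
    rw [hhd c₀, LinearMap.neg_apply, LinearMap.comp_apply, map_neg, res_d_d E' (n + 1), neg_zero]
  · rw [hhd c]
    rfl

include S in
/-- The horseshoe lemma: twisting data exist. -/
theorem nonempty_twist : Nonempty (Twist E' E'' ℳ f g) := by
  -- the extension of the augmentation
  have key : ∃ η : M →ₗ[R] (E'.X 0).carrier, IsGrHom ℳ (E'.X 0).gr η ∧
      ∀ m', η (f m') = E'.ε m' := by
    obtain ⟨η, hη, hηf⟩ := E'.starInj 0 (GMod.of 𝒜 M' ℳ') (GMod.of 𝒜 M ℳ) f S.f_gr S.f_inj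
      E'.ε E'.ε_grHom
    exact ⟨η, hη, fun m' => LinearMap.congr_fun hηf m'⟩
  obtain ⟨η, hη, hηf'⟩ := key
  -- stage zero
  have hker : LinearMap.ker (E''.ε ∘ₗ g) ≤ LinearMap.ker (-(E'.d 0 ∘ₗ η)) := by
    intro m hm
    rw [LinearMap.mem_ker, LinearMap.comp_apply] at hm
    have h1 : g m = 0 := E''.ε_injective (by rw [hm, map_zero])
    have h2 : m ∈ LinearMap.range f := by rw [← S.exact]; exact h1
    obtain ⟨m', rfl⟩ := h2
    rw [LinearMap.mem_ker, LinearMap.neg_apply, LinearMap.comp_apply, hηf', res_d_ε E', neg_zero]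
  have hδ : IsGrHom ℳ (E''.X 0).gr (E''.ε ∘ₗ g) :=
    fun k x hx => E''.ε_grHom k _ (S.g_gr k x hx)
  have hγ : IsGrHom ℳ (E'.X 1).gr (-(E'.d 0 ∘ₗ η)) := fun k x hx => by
    rw [LinearMap.neg_apply]
    exact neg_mem (E'.d_grHom 0 k _ (hη k x hx))
  obtain ⟨h, hh, hhd⟩ := exists_extension 𝒜 (E''.X 0) (E'.X 1) ℳ (E'.starInj 1)
    (E''.ε ∘ₗ g) hδ _ hγ hker
  have hh0 : ∀ m, h (E''.ε (g m)) = - E'.d 0 (η m) := fun m => hhd m
  let t0 : TStage E' E'' 0 := ⟨h, hh, fun c hc => by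
    have hc' : c ∈ LinearMap.range E''.ε := by rw [← E''.exact_zero]; exact hc
    obtain ⟨m'', rfl⟩ := hc'
    obtain ⟨m, rfl⟩ := S.g_surj m''
    rw [hh0, map_neg, res_d_d E' 0, neg_zero]⟩
  choose next hnext using exists_tstage_succ E' E''
  let St : ∀ n, TStage E' E'' n := fun n => Nat.rec t0 (fun n s => next n s) n
  exact ⟨⟨η, hη, hηf', fun n => (St n).τ, fun n => (St n).hom, hh0, fun n c => hnext n (St n) c⟩⟩

end Exists

end Groth.Agent.Lib.T2H3.GrLes
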