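import Groth.Agent.Lib.T2H3GrLesD

/-! Graded local cohomology: the long exact sequence attached to the horseshoe resolution
(helper3). -/

set_option autoImplicit false
set_option linter.unusedSectionVars false
open DirectSum

noncomputable section

namespace Groth.Agent.Lib.T2H3.GrLes

open GrLC

universe u

variable {ι : Type} [AddCommGroup ι] [DecidableEq ι]
variable {R : Type u} [CommRing R] {𝒜 : ι → AddSubgroup R} [GradedRing 𝒜]
variable {M' : Type u} [AddCommGroup M'] [Module R M'] {ℳ' : ι → AddSubgroup M'}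
  [DirectSum.Decomposition ℳ'] [SetLike.GradedSMul 𝒜 ℳ']
variable {M : Type u} [AddCommGroup M] [Module R M] {ℳ : ι → AddSubgroup M}
  [DirectSum.Decomposition ℳ] [SetLike.GradedSMul 𝒜 ℳ]
variable {M'' : Type u} [AddCommGroup M''] [Module R M''] {ℳ'' : ι → AddSubgroup M''}
  [DirectSum.Decomposition ℳ''] [SetLike.GradedSMul 𝒜 ℳ'']

namespace Twist

variable {E' : StarInjRes 𝒜 ℳ'} {E'' : StarInjRes 𝒜 ℳ''} {f : M' →ₗ[R] M} {g : M →ₗ[R] M''}
  (T : Twist E' E'' ℳ f g) (S : GrSES ℳ' ℳ ℳ'' f g)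

/-- The inclusion of `E'` into the horseshoe resolution. -/
def incl : CMap E' (T.res S) where
  θ n := LinearMap.inl R _ _
  comm n x := by
    change ((E'.d n x, (0 : (E''.X (n + 1)).carrier))) = T.dd n (x, 0)
    rw [dd_apply]
    apply Prod.ext
    · change E'.d n x = E'.d n x + T.τ n 0
      rw [map_zero, add_zero]
    · change (0 : (E''.X (n + 1)).carrier) = E''.d n 0
      rw [map_zero]

theorem incl_isGr : (T.incl S).IsGr := fun _ _ _ hx => ⟨hx, zero_mem _⟩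

theorem incl_over : (T.incl S).Over f := fun m' => by
  change ((E'.ε m', (0 : (E''.X 0).carrier))) = T.ee (f m')
  rw [ee_apply, T.η_f, S.g_f, map_zero]

/-- The projection of the horseshoe resolution onto `E''`. -/
def proj : CMap (T.res S) E'' where
  θ _ := LinearMap.snd R _ _
  comm _ _ := rfl

theorem proj_isGr : (T.proj S).IsGr := fun _ _ _ hx => hx.2

theorem proj_over : (T.proj S).Over g := fun _ => rfl

variable (a : HomogeneousIdeal 𝒜)

theorem τ_mem_cocyc (i : ℕ) {c : (E''.X i).carrier} (hc : c ∈ E''.cocyc a i) :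
    T.τ i c ∈ E'.cocyc a (i + 1) := by
  refine ⟨gam_map _ _ hc.1, ?_⟩
  change E'.d (i + 1) (T.τ i c) = 0
  have h := T.τ_succ i c
  rw [LinearMap.mem_ker.mp hc.2, map_zero] at h
  rw [← neg_eq_zero, ← h]

theorem τ_mem_cobdy (i : ℕ) {c : (E''.X i).carrier} (hc : c ∈ E''.cobdy a i) :
    T.τ i c ∈ E'.cobdy a (i + 1) := by
  cases i with
  | zero =>
    have : c = 0 := (Submodule.mem_bot R).mp hc
    rw [this, map_zero]
    exact zero_mem _
  | succ n =>
    obtain ⟨w, hw, rfl⟩ := hc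
    refine ⟨-T.τ n w, neg_mem (gam_map _ _ hw), ?_⟩
    rw [map_neg, T.τ_succ]

/-- The connecting map on cocycles. -/
def δcocyc (i : ℕ) : ↥(E''.cocyc a i) →ₗ[R] ↥(E'.cocyc a (i + 1)) :=
  (T.τ i).restrict (fun _ hc => T.τ_mem_cocyc a i hc)

/-- The connecting homomorphism. -/
def δ (i : ℕ) : E''.H a i →ₗ[R] E'.H a (i + 1) :=
  Submodule.mapQ _ _ (T.δcocyc a i) (fun z hz => by
    rw [Submodule.mem_comap] at hz ⊢
    exact T.τ_mem_cobdy a i hz)

theorem δ_toH (i : ℕ) (z : ↥(E''.cocyc a i)) :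
    T.δ a i (E''.toH a i z) = E'.toH a (i + 1) (T.δcocyc a i z) := rfl

theorem δ_mem_Hcomp (i : ℕ) (k : ι) {x : E''.H a i} (hx : x ∈ E''.Hcomp a i k) :
    T.δ a i x ∈ E'.Hcomp a (i + 1) k := by
  obtain ⟨z, hz, rfl⟩ := hx
  exact ⟨T.δcocyc a i z, T.τ_gr i k _ hz, rfl⟩

theorem incl_H_injective_zero : Function.Injective ((T.incl S).H a 0) := by
  rw [← LinearMap.ker_eq_bot, eq_bot_iff]
  intro x hx
  obtain ⟨z, rfl⟩ := toH_surjective E' a 0 x
  rw [LinearMap.mem_ker, CMap.H_toH, toH_eq_zero_iff, mem_cobdy_zero] at hx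
  have h1 : (z : (E'.X 0).carrier) = 0 := congrArg Prod.fst hx
  have : z = 0 := Subtype.ext h1
  rw [this, map_zero]
  exact zero_mem _

theorem ker_proj_H (i : ℕ) :
    LinearMap.ker ((T.proj S).H a i) = LinearMap.range ((T.incl S).H a i) := by
  apply le_antisymm
  · intro x hx
    obtain ⟨z, rfl⟩ := toH_surjective (T.res S) a i x
    rw [LinearMap.mem_ker, CMap.H_toH, toH_eq_zero_iff] at hx
    obtain ⟨⟨x₁, c⟩, hz⟩ := z
    have hzg : x₁ ∈ gam a.toIdeal (E'.X i).carrier ∧ c ∈ gam a.toIdeal (E''.X i).carrier :=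
      (mem_gam_prod' a.toIdeal).mp hz.1
    have hzd : T.dd i (x₁, c) = 0 := LinearMap.mem_ker.mp hz.2
    rw [dd_apply, Prod.mk_eq_zero] at hzd
    change c ∈ E''.cobdy a i at hx
    cases i with
    | zero =>
      have hc : c = 0 := (Submodule.mem_bot R).mp hx
      subst hc
      have hx₁ : x₁ ∈ E'.cocyc a 0 := by
        refine ⟨hzg.1, ?_⟩
        have := hzd.1
        rw [map_zero, add_zero] at this
        exact this
      refine ⟨E'.toH a 0 ⟨x₁, hx₁⟩, ?_⟩
      rw [CMap.H_toH]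
      rfl
    | succ n =>
      obtain ⟨w, hw, rfl⟩ := hx
      have hx₁ : x₁ - T.τ n w ∈ E'.cocyc a (n + 1) := by
        refine ⟨sub_mem hzg.1 (gam_map _ _ hw), ?_⟩
        change E'.d (n + 1) (x₁ - T.τ n w) = 0
        have := hzd.1
        rw [T.τ_succ] at this
        rw [map_sub, sub_eq_add_neg]
        exact this
      refine ⟨E'.toH a (n + 1) ⟨x₁ - T.τ n w, hx₁⟩, ?_⟩
      rw [CMap.H_toH, toH_eq_toH_iff]
      refine ⟨((0 : (E'.X n).carrier), -w), (mem_gam_prod' a.toIdeal).mpr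
        ⟨zero_mem _, neg_mem hw⟩, ?_⟩
      change T.dd n (0, -w) = ((x₁ - T.τ n w, (0 : (E''.X (n + 1)).carrier))) - (x₁, E''.d n w)
      rw [dd_apply, Prod.mk_sub_mk]
      apply Prod.ext
      · change E'.d n 0 + T.τ n (-w) = x₁ - T.τ n w - x₁
        rw [map_zero, map_neg]
        abel
      · change E''.d n (-w) = 0 - E''.d n w
        rw [map_neg, zero_sub]
  · rintro _ ⟨y, rfl⟩
    obtain ⟨z, rfl⟩ := toH_surjective E' a i y
    rw [LinearMap.mem_ker, CMap.H_toH, CMap.H_toH, toH_eq_zero_iff]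
    change (0 : (E''.X i).carrier) ∈ E''.cobdy a i
    exact zero_mem _

theorem ker_δ (i : ℕ) : LinearMap.ker (T.δ a i) = LinearMap.range ((T.proj S).H a i) := by
  apply le_antisymm
  · intro y hy
    obtain ⟨z, rfl⟩ := toH_surjective E'' a i y
    rw [LinearMap.mem_ker, δ_toH, toH_eq_zero_iff, mem_cobdy_succ] at hy
    obtain ⟨w, hw, hwz⟩ := hy
    change E'.d i w = T.τ i z at hwz
    have hcoc : ((-w, (z : (E''.X i).carrier)) : (E'.X i).carrier × (E''.X i).carrier) ∈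
        (T.res S).cocyc a i := by
      refine ⟨(mem_gam_prod' a.toIdeal).mpr ⟨neg_mem hw, z.2.1⟩, ?_⟩
      change T.dd i (-w, (z : (E''.X i).carrier)) = 0
      rw [dd_apply, Prod.mk_eq_zero]
      constructor
      · change E'.d i (-w) + T.τ i z = 0
        rw [map_neg, hwz, neg_add_cancel]
      · exact LinearMap.mem_ker.mp z.2.2
    refine ⟨(T.res S).toH a i ⟨_, hcoc⟩, ?_⟩
    rw [CMap.H_toH]
    rfl
  · rintro _ ⟨x, rfl⟩
    obtain ⟨z, rfl⟩ := toH_surjective (T.res S) a i x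
    rw [LinearMap.mem_ker, CMap.H_toH, δ_toH, toH_eq_zero_iff, mem_cobdy_succ]
    obtain ⟨⟨x₁, c⟩, hz⟩ := z
    have hzg : x₁ ∈ gam a.toIdeal (E'.X i).carrier ∧ c ∈ gam a.toIdeal (E''.X i).carrier :=
      (mem_gam_prod' a.toIdeal).mp hz.1
    have hzd : T.dd i (x₁, c) = 0 := LinearMap.mem_ker.mp hz.2
    rw [dd_apply, Prod.mk_eq_zero] at hzd
    refine ⟨-x₁, neg_mem hzg.1, ?_⟩
    change E'.d i (-x₁) = T.τ i c
    have := hzd.1
    change E'.d i x₁ + T.τ i c = 0 at this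
    rw [map_neg, neg_eq_iff_add_eq_zero]
    exact this

theorem ker_incl_H_succ (i : ℕ) :
    LinearMap.ker ((T.incl S).H a (i + 1)) = LinearMap.range (T.δ a i) := by
  apply le_antisymm
  · intro x hx
    obtain ⟨z, rfl⟩ := toH_surjective E' a (i + 1) x
    rw [LinearMap.mem_ker, CMap.H_toH, toH_eq_zero_iff, mem_cobdy_succ] at hx
    obtain ⟨⟨x₀, c₀⟩, hw, hwz⟩ := hx
    have hwg : x₀ ∈ gam a.toIdeal (E'.X i).carrier ∧ c₀ ∈ gam a.toIdeal (E''.X i).carrier :=
      (mem_gam_prod' a.toIdeal).mp hw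
    change T.dd i (x₀, c₀) = ((z : (E'.X (i + 1)).carrier), (0 : (E''.X (i + 1)).carrier)) at hwz
    rw [dd_apply] at hwz
    have h1 : E'.d i x₀ + T.τ i c₀ = (z : (E'.X (i + 1)).carrier) := congrArg Prod.fst hwz
    have h2 : E''.d i c₀ = 0 := congrArg Prod.snd hwz
    have hc₀ : c₀ ∈ E''.cocyc a i := ⟨hwg.2, h2⟩
    refine ⟨E''.toH a i ⟨c₀, hc₀⟩, ?_⟩
    rw [δ_toH, toH_eq_toH_iff, mem_cobdy_succ]
    refine ⟨-x₀, neg_mem hwg.1, ?_⟩
    change E'.d i (-x₀) = T.τ i c₀ - (z : (E'.X (i + 1)).carrier)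
    rw [← h1, map_neg]
    abel
  · rintro _ ⟨y, rfl⟩
    obtain ⟨z, rfl⟩ := toH_surjective E'' a i y
    rw [LinearMap.mem_ker, δ_toH, CMap.H_toH, toH_eq_zero_iff, mem_cobdy_succ]
    refine ⟨((0 : (E'.X i).carrier), (z : (E''.X i).carrier)),
      (mem_gam_prod' a.toIdeal).mpr ⟨zero_mem _, z.2.1⟩, ?_⟩
    change T.dd i (0, (z : (E''.X i).carrier)) =
      (T.τ i z, (0 : (E''.X (i + 1)).carrier))
    rw [dd_apply]
    apply Prod.ext
    · change E'.d i 0 + T.τ i z = T.τ i z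
      rw [map_zero, zero_add]
    · exact LinearMap.mem_ker.mp z.2.2

end Twist

end Groth.Agent.Lib.T2H3.GrLes
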