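import Groth.Agent.Lib.Helper8LCDepth
import Groth.Agent.Lib.Helper8LCAdd
import Groth.Agent.S0325

/-! Top local cohomology: if `H^{r+2}_I` vanishes on all modules then
`H^{r+1}_I(R) = I · H^{r+1}_I(R)` (right exactness of `H^{r+1}_I`), helper3. -/

set_option autoImplicit false
set_option linter.unusedSectionVars false
set_option linter.style.haveILetI false

universe u

namespace Groth.Agent.Lib.T2H3.GrTop

open CategoryTheory Groth.Agent.Lib.Helper8.LC

variable {R : Type u} [CommRing R] [IsNoetherianRing R] (I : Ideal R)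

theorem torsionSub_quotient_eq_top : DRing.torsionSub I (R ⧸ I) = ⊤ := by
  rw [eq_top_iff]
  intro z _
  refine ⟨1, fun a ha => ?_⟩
  rw [pow_one] at ha
  obtain ⟨b, rfl⟩ := Ideal.Quotient.mk_surjective z
  rw [← Ideal.Quotient.mk_eq_mk, ← Submodule.Quotient.mk_smul, Submodule.Quotient.mk_eq_zero]
  exact Ideal.mul_mem_right _ _ ha

/-- Right exactness of `H^{r+1}_I` when `H^{r+2}_I` vanishes: `H^{r+1}_I(R) = I H^{r+1}_I(R)`. -/
theorem mem_smul_top_of_cd (r : ℕ)
    (hcd : ∀ (K : Type u) [AddCommGroup K] [Module R K]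
      (x : (localCohomology I (r + 1 + 1)).obj (ModuleCat.of R K)), x = 0)
    (y : (localCohomology I (r + 1)).obj (ModuleCat.of R R)) :
    y ∈ I • (⊤ : Submodule R ((localCohomology I (r + 1)).obj (ModuleCat.of R R))) := by
  classical
  obtain ⟨n, g, hg⟩ := (Submodule.fg_iff_exists_fin_generating_family).mp
    (IsNoetherian.noetherian I : (I : Submodule R R).FG)
  have hgI : ∀ j, g j ∈ I := fun j => by
    rw [← hg]
    exact Submodule.subset_span ⟨j, rfl⟩
  obtain ⟨φ, hφdef⟩ : ∃ φ : (Fin n → R) →ₗ[R] R,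
      φ = ∑ j, (LinearMap.lsmul R R (g j)).comp (LinearMap.proj j) := ⟨_, rfl⟩
  have hφapp : ∀ c : Fin n → R, φ c = ∑ j, g j * c j := by
    intro c
    rw [hφdef, LinearMap.sum_apply]
    rfl
  have hφI : ∀ c, φ c ∈ I := fun c => by
    rw [hφapp]
    exact Ideal.sum_mem _ fun j _ => Ideal.mul_mem_right _ _ (hgI j)
  obtain ⟨φ', hφ'def⟩ : ∃ φ' : (Fin n → R) →ₗ[R] I, φ' = φ.codRestrict I hφI := ⟨_, rfl⟩
  have hφ'app : ∀ c, ((φ' c : I) : R) = φ c := fun c => by rw [hφ'def]; rfl
  have hφ's : Function.Surjective φ' := by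
    intro z
    have hz : (z : R) ∈ LinearMap.range φ := by
      have hle : I ≤ LinearMap.range φ := by
        rw [← hg, Submodule.span_le]
        rintro _ ⟨j, rfl⟩
        refine ⟨Pi.single j 1, ?_⟩
        rw [hφapp, Finset.sum_eq_single j]
        · rw [Pi.single_eq_same, mul_one]
        · intro b _ hb
          rw [Pi.single_eq_of_ne hb, mul_zero]
        · intro h
          exact absurd (Finset.mem_univ j) h
      exact hle z.2
    obtain ⟨c, hc⟩ := hz
    exact ⟨c, Subtype.ext (by rw [hφ'app, hc])⟩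
  -- the two short exact sequences
  have hex1 : Function.Exact (LinearMap.ker φ').subtype φ' := LinearMap.exact_subtype_ker_map φ'
  have hS1 := Sfg_shortExact (LinearMap.ker φ').subtype φ' (Submodule.injective_subtype _) hφ's hex1
  have hex2 : Function.Exact I.subtype I.mkQ := LinearMap.exact_subtype_mkQ I
  have hS2 := Sfg_shortExact I.subtype I.mkQ (Submodule.injective_subtype _)
    (Submodule.mkQ_surjective _) hex2
  have h0 : (localCohomology I (r + 1)).map (Sfg I.subtype I.mkQ hex2).g y = 0 :=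
    H_succ_eq_zero_of_torsion I r (R ⧸ I) (torsionSub_quotient_eq_top I) _
  obtain ⟨x, hx⟩ := H_exact₂ I (r + 1) (Sfg I.subtype I.mkQ hex2) hS2 y h0
  obtain ⟨w, hw⟩ := H_exact₃ I (r + 1) (Sfg (LinearMap.ker φ').subtype φ' hex1) hS1 x
    (hcd _ _)
  have hcomp : (Sfg (LinearMap.ker φ').subtype φ' hex1).g ≫ (Sfg I.subtype I.mkQ hex2).f =
      ∑ j, (ModuleCat.ofHom (LinearMap.proj (R := R) (φ := fun _ : Fin n => R) j) ≫
        ModuleCat.ofHom (LinearMap.lsmul R R (g j))) := by
    apply ModuleCat.hom_ext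
    apply LinearMap.ext
    intro c
    rw [ModuleCat.hom_sum, LinearMap.sum_apply]
    change ((φ' c : I) : R) = _
    rw [hφ'app, hφapp]
    rfl
  have hy : y = (localCohomology I (r + 1)).map
      ((Sfg (LinearMap.ker φ').subtype φ' hex1).g ≫ (Sfg I.subtype I.mkQ hex2).f) w := by
    rw [Functor.map_comp]
    change y = (localCohomology I (r + 1)).map (Sfg I.subtype I.mkQ hex2).f
      ((localCohomology I (r + 1)).map (Sfg (LinearMap.ker φ').subtype φ' hex1).g w)
    rw [hw, hx]
  rw [hy, hcomp, H_map_sum]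
  refine Submodule.sum_mem _ fun j _ => ?_
  rw [Functor.map_comp]
  change (localCohomology I (r + 1)).map (ModuleCat.ofHom (LinearMap.lsmul R R (g j)))
    ((localCohomology I (r + 1)).map
      (ModuleCat.ofHom (LinearMap.proj (R := R) (φ := fun _ : Fin n => R) j)) w) ∈ _
  rw [H_map_lsmul]
  exact Submodule.smul_mem_smul (hgI j) Submodule.mem_top

/-- For a Noetherian ring of dimension `r + 1`. -/
theorem mem_smul_top_of_dim (r : ℕ) (hr : ringKrullDim R = ((r + 1 : ℕ) : WithBot ℕ∞))
    (y : (localCohomology I (r + 1)).obj (ModuleCat.of R R)) :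
    y ∈ I • (⊤ : Submodule R ((localCohomology I (r + 1)).obj (ModuleCat.of R R))) := by
  refine mem_smul_top_of_cd I r (fun K _ _ x => ?_) y
  haveI := Groth.Agent.S0325.result R I (r + 1) (le_of_eq hr) K (r + 1 + 1) (Nat.lt_succ_self _)
  exact Subsingleton.elim _ _

end Groth.Agent.Lib.T2H3.GrTop
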