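import Groth.Agent.Lib.T2H3GrTopA
import Groth.Agent.Lib.T2H3GrAinvB

/-! Top graded local cohomology of a standard graded *local ring of dimension `r ≥ 1`:
`H^r_m(R)_n = R_1 H^r_m(R)_{n-1}`, so the nonzero degrees form an interval unbounded below
(helper3). -/

set_option autoImplicit false
set_option linter.unusedSectionVars false
set_option linter.style.haveILetI false
open DirectSum

namespace Groth.Agent.Lib.T2H3.GrTop

open GrLC Groth.Agent.Lib.T2H3.GrArt Groth.Agent.Lib.T2H3.GrLes Groth.Agent.Lib.T2H3.GrIrr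
  Groth.Agent.Lib.T2H3.GrAinv

universe u

variable {R : Type u} [CommRing R] [IsNoetherianRing R] {𝒜 : ℤ → AddSubgroup R} [GradedRing 𝒜]

theorem map_symm_mem_smul_top {A B : Type u} [AddCommGroup A] [Module R A] [AddCommGroup B]
    [Module R B] (J : Ideal R) (e : B ≃ₗ[R] A) {z : A}
    (hz : z ∈ J • (⊤ : Submodule R A)) : e.symm z ∈ J • (⊤ : Submodule R B) := by
  induction hz using Submodule.smul_induction_on' with
  | smul r hr n _ =>
    rw [map_smul]
    exact Submodule.smul_mem_smul hr Submodule.mem_top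
  | add x _ y _ hx hy =>
    rw [map_add]
    exact Submodule.add_mem _ hx hy

/-- `H^{r+1}_m(R) = m H^{r+1}_m(R)` for the graded local cohomology of a ring of dimension `r+1`. -/
theorem mem_smul_top (m : HomogeneousIdeal 𝒜) (r : ℕ)
    (hr : ringKrullDim R = ((r + 1 : ℕ) : WithBot ℕ∞)) (E : StarInjRes 𝒜 𝒜) (y : E.H m (r + 1)) :
    y ∈ m.toIdeal • (⊤ : Submodule R (E.H m (r + 1))) := by
  obtain ⟨e⟩ := Groth.Agent.S13224.result R 𝒜 m R 𝒜 E (r + 1)
  have h1 := mem_smul_top_of_dim m.toIdeal r hr (e y)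
  have h2 := map_symm_mem_smul_top m.toIdeal e h1
  rwa [LinearEquiv.symm_apply_apply] at h2

/-- If the ideal is generated in degree one, the component of degree `n` of an element of
`J H` vanishes when `H_{n-1} = 0`. -/
theorem decompose_eq_zero_of_mem_smul_top {H : Type u} [AddCommGroup H] [Module R H]
    (𝓗 : ℤ → AddSubgroup H) [DirectSum.Decomposition 𝓗] [SetLike.GradedSMul 𝒜 𝓗]
    (n : ℤ) (hbot : 𝓗 (n - 1) = ⊥) {y : H}
    (hy : y ∈ Ideal.span ((𝒜 1 : AddSubgroup R) : Set R) • (⊤ : Submodule R H)) :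
    ((decompose 𝓗 y) n : H) = 0 := by
  have hQ : ∀ a ∈ Ideal.span ((𝒜 1 : AddSubgroup R) : Set R), ∀ h : H,
      ((decompose 𝓗 (a • h)) n : H) = 0 := by
    intro a ha
    induction ha using Submodule.span_induction with
    | mem a ha =>
      intro h
      rw [Groth.Agent.Lib.Helper29GrEss.decompose_smul_of_mem 𝒜 𝓗 ha h n]
      have h1 : ∀ z : H, z ∈ 𝓗 (n - 1) → z = 0 := fun z hz =>
        AddSubgroup.mem_bot.mp ((congrArg (fun s : AddSubgroup H => z ∈ s) hbot).mp hz)
      rw [h1 _ (SetLike.coe_mem _), smul_zero]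
    | zero =>
      intro h
      rw [zero_smul, decompose_zero, DirectSum.zero_apply, ZeroMemClass.coe_zero]
    | add a b _ _ ha hb =>
      intro h
      rw [add_smul, decompose_add, DirectSum.add_apply, AddMemClass.coe_add, ha h, hb h, add_zero]
    | smul s a _ ha =>
      intro h
      rw [smul_eq_mul, mul_comm, mul_smul]
      exact ha (s • h)
  induction hy using Submodule.smul_induction_on' with
  | smul a ha h _ => exact hQ a ha h
  | add x _ y _ hx hy =>
    rw [decompose_add, DirectSum.add_apply, AddMemClass.coe_add, hx, hy, add_zero]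

/-- Vanishing of the top graded local cohomology propagates upwards in degree. -/
theorem Hcomp_eq_bot_of_pred (m : HomogeneousIdeal 𝒜)
    (hm1 : m.toIdeal = Ideal.span ((𝒜 1 : AddSubgroup R) : Set R)) (r : ℕ)
    (hr : ringKrullDim R = ((r + 1 : ℕ) : WithBot ℕ∞)) (E : StarInjRes 𝒜 𝒜) (n : ℤ)
    (hbot : E.Hcomp m (r + 1) (n - 1) = ⊥) : E.Hcomp m (r + 1) n = ⊥ := by
  letI := HgrDecomposition E m (r + 1)
  haveI := Hgr_gradedSMul E m (r + 1)
  have hbot' : E.Hgr m (r + 1) (n - 1) = ⊥ := by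
    rw [AddSubgroup.eq_bot_iff_forall]
    intro x hx
    have hx' : x ∈ E.Hcomp m (r + 1) (n - 1) := hx
    rw [hbot] at hx'
    exact (Submodule.mem_bot _).mp hx'
  rw [eq_bot_iff]
  intro y hy
  have h1 := mem_smul_top m r hr E y
  rw [hm1] at h1
  have h2 := decompose_eq_zero_of_mem_smul_top (E.Hgr m (r + 1)) n hbot' h1
  have hy' : y ∈ E.Hgr m (r + 1) n := hy
  rw [decompose_of_mem_same _ hy'] at h2
  exact (Submodule.mem_bot _).mpr h2

theorem Hgr_ne_bot_of_endDeg_eq {H : Type u} [AddCommGroup H] (𝓗 : ℤ → AddSubgroup H) (a : ℤ)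
    (ha : endDeg 𝓗 = c a) : 𝓗 a ≠ ⊥ := by
  intro hbot
  have h1 : endDeg 𝓗 ≤ c (a - 1) := by
    unfold endDeg
    refine iSup₂_le fun n hn => ?_
    have h2 : c n ≤ c a := by
      rw [← ha]
      unfold endDeg
      exact le_iSup₂ (f := fun (n : ℤ) (_ : 𝓗 n ≠ ⊥) =>
        ((n : WithTop ℤ) : WithBot (WithTop ℤ))) n hn
    have h3 : n ≤ a := WithTop.coe_le_coe.mp (WithBot.coe_le_coe.mp h2)
    have h4 : n ≠ a := by
      rintro rfl
      exact hn hbot
    exact c_le_c (by omega)
  rw [ha] at h1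
  have h5 : a ≤ a - 1 := WithTop.coe_le_coe.mp (WithBot.coe_le_coe.mp h1)
  omega

/-- The top graded local cohomology is nonzero in every degree up to the a-invariant. -/
theorem Hcomp_ne_bot_of_le (m : HomogeneousIdeal 𝒜)
    (hm1 : m.toIdeal = Ideal.span ((𝒜 1 : AddSubgroup R) : Set R)) (r : ℕ)
    (hr : ringKrullDim R = ((r + 1 : ℕ) : WithBot ℕ∞)) (E : StarInjRes 𝒜 𝒜) (a : ℤ)
    (ha : endDeg (E.Hgr m (r + 1)) = c a) (n : ℤ) (hn : n ≤ a) : E.Hcomp m (r + 1) n ≠ ⊥ := by
  have hbase : E.Hcomp m (r + 1) a ≠ ⊥ := by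
    intro hbot
    apply Hgr_ne_bot_of_endDeg_eq (E.Hgr m (r + 1)) a ha
    rw [AddSubgroup.eq_bot_iff_forall]
    intro x hx
    have hx' : x ∈ E.Hcomp m (r + 1) a := hx
    rw [hbot] at hx'
    exact (Submodule.mem_bot _).mp hx'
  have hall : ∀ k : ℕ, E.Hcomp m (r + 1) (a - k) ≠ ⊥ := by
    intro k
    induction k with
    | zero => simpa using hbase
    | succ k ih =>
      intro hbot
      apply ih
      apply Hcomp_eq_bot_of_pred m hm1 r hr E
      have : a - (k : ℤ) - 1 = a - ((k + 1 : ℕ) : ℤ) := by push_cast; ring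
      rw [this]
      exact hbot
  have := hall (a - n).toNat
  rwa [Int.toNat_of_nonneg (by omega), sub_sub_cancel] at this

end Groth.Agent.Lib.T2H3.GrTop
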