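import Groth.Agent.Lib.T2H3GrLesG
import Groth.Agent.S13224
import Groth.Agent.S13215
import Groth.Agent.S0325

/-! Graded local cohomology: sums of chain maps, multiplication chain maps between shifted
resolutions, vanishing above the dimension and right exactness of the top local cohomology
(helper3). -/

set_option autoImplicit false
set_option linter.unusedSectionVars false
set_option linter.style.haveILetI false
open DirectSum

noncomputable section

namespace Groth.Agent.Lib.T2H3.GrTopDual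

open GrLC Groth.Agent.Lib.T2H3.GrLes Groth.Agent.Lib.Helper29GrShift
  Groth.Agent.Lib.Helper29GrSub Groth.Agent.Lib.Helper29GrHom

universe u

variable {ι : Type} [AddCommGroup ι] [DecidableEq ι]
variable {R : Type u} [CommRing R] {𝒜 : ι → AddSubgroup R} [GradedRing 𝒜]
variable {M : Type u} [AddCommGroup M] [Module R M] {ℳ : ι → AddSubgroup M}
  [DirectSum.Decomposition ℳ] [SetLike.GradedSMul 𝒜 ℳ]
variable {N : Type u} [AddCommGroup N] [Module R N] {𝒩 : ι → AddSubgroup N}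
  [DirectSum.Decomposition 𝒩] [SetLike.GradedSMul 𝒜 𝒩]

section Ops

variable {E : StarInjRes 𝒜 ℳ} {F : StarInjRes 𝒜 𝒩}

/-- The zero chain map. -/
def czero (E : StarInjRes 𝒜 ℳ) (F : StarInjRes 𝒜 𝒩) : CMap E F where
  θ _ := 0
  comm n x := by rw [LinearMap.zero_apply, LinearMap.zero_apply, map_zero]

theorem czero_isGr : (czero E F).IsGr := fun n g _ _ => zero_mem ((F.X n).gr g)

theorem czero_over : (czero E F).Over 0 := fun m => by
  change (0 : (F.X 0).carrier) = F.ε ((0 : M →ₗ[R] N) m)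
  rw [LinearMap.zero_apply, map_zero]

theorem czero_H (a : HomogeneousIdeal 𝒜) (i : ℕ) : (czero E F).H a i = 0 := by
  apply LinearMap.ext
  intro x
  obtain ⟨z, rfl⟩ := Submodule.mkQ_surjective _ x
  change F.toH a i ((czero E F).cocycMap a i z) = 0
  have h : (czero E F).cocycMap a i z = 0 := Subtype.ext rfl
  rw [h, map_zero]

/-- The sum of two chain maps. -/
def cadd (φ ψ : CMap E F) : CMap E F where
  θ n := φ.θ n + ψ.θ n
  comm n x := by rw [LinearMap.add_apply, LinearMap.add_apply, φ.comm, ψ.comm, map_add]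

theorem cadd_isGr {φ ψ : CMap E F} (hφ : φ.IsGr) (hψ : ψ.IsGr) : (cadd φ ψ).IsGr :=
  fun n g x hx => add_mem (hφ n g x hx) (hψ n g x hx)

theorem cadd_over {φ ψ : CMap E F} {f g : M →ₗ[R] N} (hφ : φ.Over f) (hψ : ψ.Over g) :
    (cadd φ ψ).Over (f + g) := fun m => by
  change φ.θ 0 (E.ε m) + ψ.θ 0 (E.ε m) = F.ε ((f + g) m)
  rw [hφ m, hψ m, LinearMap.add_apply, map_add]

theorem cadd_H (φ ψ : CMap E F) (a : HomogeneousIdeal 𝒜) (i : ℕ) :
    (cadd φ ψ).H a i = φ.H a i + ψ.H a i := by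
  apply LinearMap.ext
  intro x
  obtain ⟨z, rfl⟩ := Submodule.mkQ_surjective _ x
  change F.toH a i ((cadd φ ψ).cocycMap a i z) =
    F.toH a i (φ.cocycMap a i z) + F.toH a i (ψ.cocycMap a i z)
  rw [← map_add]
  congr 1

/-- A finite sum of chain maps. -/
def csum {J : Type} (s : Finset J) (φ : J → CMap E F) : CMap E F where
  θ n := ∑ j ∈ s, (φ j).θ n
  comm n x := by
    rw [LinearMap.sum_apply, LinearMap.sum_apply, map_sum]
    exact Finset.sum_congr rfl (fun j _ => (φ j).comm n x)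

theorem csum_isGr {J : Type} (s : Finset J) {φ : J → CMap E F} (hφ : ∀ j ∈ s, (φ j).IsGr) :
    (csum s φ).IsGr := fun n g x hx => by
  change (∑ j ∈ s, (φ j).θ n) x ∈ (F.X n).gr g
  rw [LinearMap.sum_apply]
  exact sum_mem (fun j hj => hφ j hj n g x hx)

theorem csum_over {J : Type} (s : Finset J) {φ : J → CMap E F} {f : J → (M →ₗ[R] N)}
    (hφ : ∀ j ∈ s, (φ j).Over (f j)) : (csum s φ).Over (∑ j ∈ s, f j) := fun m => by
  change (∑ j ∈ s, (φ j).θ 0) (E.ε m) = F.ε ((∑ j ∈ s, f j) m)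
  rw [LinearMap.sum_apply, LinearMap.sum_apply, map_sum]
  exact Finset.sum_congr rfl (fun j hj => hφ j hj m)

theorem csum_H {J : Type} (s : Finset J) (φ : J → CMap E F) (a : HomogeneousIdeal 𝒜) (i : ℕ) :
    (csum s φ).H a i = ∑ j ∈ s, (φ j).H a i := by
  apply LinearMap.ext
  intro x
  obtain ⟨z, rfl⟩ := Submodule.mkQ_surjective _ x
  rw [LinearMap.sum_apply]
  change F.toH a i ((csum s φ).cocycMap a i z) = ∑ j ∈ s, F.toH a i ((φ j).cocycMap a i z)
  rw [← map_sum]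
  congr 1
  apply Subtype.ext
  rw [Submodule.coe_sum]
  change (∑ j ∈ s, (φ j).θ i) z = _
  rw [LinearMap.sum_apply]
  rfl

end Ops

section SmulC

/-- Multiplication by `r`, as a chain map between two shifts of a resolution. -/
def smulC (E : StarInjRes 𝒜 ℳ) (r : R) (d₁ d₂ : ι) : CMap (shiftRes E d₁) (shiftRes E d₂) where
  θ n := LinearMap.lsmul R (E.X n).carrier r
  comm n y := ((E.d n).map_smul r y).symm

theorem smul_mem_gr_of_add (X : GMod.{u} 𝒜) {r : R} {j : ι} (hr : r ∈ 𝒜 j) {g d₁ d₂ : ι}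
    (h : j + d₁ = d₂) {y : X.carrier} (hy : y ∈ X.gr (g + d₁)) : r • y ∈ X.gr (g + d₂) := by
  have h1 := SetLike.GradedSMul.smul_mem (A := 𝒜) (B := X.gr) hr hy
  rw [vadd_eq_add] at h1
  have h2 : j + (g + d₁) = g + d₂ := by rw [← h]; abel
  rw [h2] at h1
  exact h1

theorem smulC_isGr (E : StarInjRes 𝒜 ℳ) {r : R} {j : ι} (hr : r ∈ 𝒜 j) {d₁ d₂ : ι}
    (h : j + d₁ = d₂) : (smulC E r d₁ d₂).IsGr :=
  fun n _ _ hy => smul_mem_gr_of_add (E.X n) hr h hy

theorem smulC_over (E : StarInjRes 𝒜 ℳ) (r : R) (d₁ d₂ : ι) :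
    (smulC E r d₁ d₂).Over (LinearMap.lsmul R M r) := fun m => by
  change r • E.ε m = E.ε (r • m)
  rw [map_smul]

theorem smulC_H (E : StarInjRes 𝒜 ℳ) (r : R) (d₁ d₂ : ι) (a : HomogeneousIdeal 𝒜) (i : ℕ)
    (y : E.H a i) : (smulC E r d₁ d₂).H a i y = r • y := by
  obtain ⟨z, rfl⟩ := toH_surjective E a i y
  rw [← map_smul]
  rfl

end SmulC

section Vanish

variable [Module.Free ℤ ι] [Module.Finite ℤ ι] [IsNoetherianRing R]

/-- Graded local cohomology vanishes above the dimension of the ring. -/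
theorem H_eq_zero_of_dim_lt (a : HomogeneousIdeal 𝒜) (d : ℕ) (hd : ringKrullDim R ≤ d)
    (E : StarInjRes 𝒜 ℳ) (i : ℕ) (hi : d < i) (y : E.H a i) : y = 0 := by
  obtain ⟨e⟩ := Groth.Agent.S13224.result R 𝒜 a M ℳ E i
  haveI := Groth.Agent.S0325.result R a.toIdeal d hd M i hi
  apply e.injective
  exact Subsingleton.elim _ _

variable {M' : Type u} [AddCommGroup M'] [Module R M'] {ℳ' : ι → AddSubgroup M'}
  [DirectSum.Decomposition ℳ'] [SetLike.GradedSMul 𝒜 ℳ']

/-- Right exactness of the top local cohomology. -/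
theorem top_right_exact (a : HomogeneousIdeal 𝒜) (d : ℕ) (hd : ringKrullDim R ≤ d)
    {E' : StarInjRes 𝒜 ℳ'} {E : StarInjRes 𝒜 ℳ} {E'' : StarInjRes 𝒜 𝒩}
    {f : M' →ₗ[R] M} {g : M →ₗ[R] N} (S : GrSES ℳ' ℳ 𝒩 f g)
    {φ : CMap E' E} (hφ : φ.IsGr) (hφf : φ.Over f)
    {ψ : CMap E E''} (hψ : ψ.IsGr) (hψg : ψ.Over g) :
    Function.Surjective (ψ.H a d) ∧ LinearMap.ker (ψ.H a d) = LinearMap.range (φ.H a d) := by
  obtain ⟨δ, -, -, h2, h3, -⟩ := exists_les S hφ hφf hψ hψg a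
  refine ⟨fun y => ?_, h2 d⟩
  have hy : y ∈ LinearMap.ker (δ d) := by
    rw [LinearMap.mem_ker]
    exact H_eq_zero_of_dim_lt a d hd E' (d + 1) (Nat.lt_succ_self d) _
  rw [h3 d] at hy
  exact hy

/-- A homogeneous surjection induces a surjection on the top local cohomology. -/
theorem H_surjective_of_surjective (a : HomogeneousIdeal 𝒜) (d : ℕ) (hd : ringKrullDim R ≤ d)
    {E : StarInjRes 𝒜 ℳ} {E'' : StarInjRes 𝒜 𝒩} {g : M →ₗ[R] N} (hg : IsGrHom ℳ 𝒩 g)
    (hgs : Function.Surjective g) {ψ : CMap E E''} (hψ : ψ.IsGr) (hψg : ψ.Over g) :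
    Function.Surjective (ψ.H a d) := by
  have hP : (LinearMap.ker g).IsHomogeneous ℳ := ker_isHomogeneous 𝒩 ℳ g hg
  letI := subDecomposition ℳ (LinearMap.ker g) hP
  haveI := sub_gradedSMul ℳ (LinearMap.ker g) 𝒜
  obtain ⟨E'⟩ := Groth.Agent.S13215.result R 𝒜 (LinearMap.ker g) (subGr ℳ (LinearMap.ker g))
  have S : GrSES (subGr ℳ (LinearMap.ker g)) ℳ 𝒩 (LinearMap.ker g).subtype g :=
    ⟨fun k x hx => hx, hg, Subtype.coe_injective, hgs, by rw [Submodule.range_subtype]⟩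
  obtain ⟨φ, hφ, hφf⟩ := exists_lift E' E (LinearMap.ker g).subtype S.f_gr
  exact (top_right_exact a d hd S hφ hφf hψ hψg).1

end Vanish

end Groth.Agent.Lib.T2H3.GrTopDual
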