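import Groth.Agent.Lib.T2H3GrTopDualA

/-! Graded local cohomology: the maps `θ_x : H^n_a(R) → H^n_a(M)` induced by multiplication
`R(-i) → M`, `r ↦ r x`, for a homogeneous element `x ∈ M_i`; additivity, linearity in `x`,
naturality, and the assembled additive map `M → Hom_R(H^n_a(R), H^n_a(M))` (helper3). -/

set_option autoImplicit false
set_option linter.unusedSectionVars false
set_option linter.style.haveILetI false
open DirectSum

noncomputable section

namespace Groth.Agent.Lib.T2H3.GrTopDual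

open GrLC Groth.Agent.Lib.T2H3.GrLes Groth.Agent.Lib.Helper29GrShift

universe u

variable {ι : Type} [AddCommGroup ι] [DecidableEq ι]
variable {R : Type u} [CommRing R] {𝒜 : ι → AddSubgroup R} [GradedRing 𝒜]
variable {M : Type u} [AddCommGroup M] [Module R M] {ℳ : ι → AddSubgroup M}
  [DirectSum.Decomposition ℳ] [SetLike.GradedSMul 𝒜 ℳ]
variable {N : Type u} [AddCommGroup N] [Module R N] {𝒩 : ι → AddSubgroup N}
  [DirectSum.Decomposition 𝒩] [SetLike.GradedSMul 𝒜 𝒩]

theorem over_congr {E : StarInjRes 𝒜 ℳ} {F : StarInjRes 𝒜 𝒩} {φ : CMap E F} {f g : M →ₗ[R] N}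
    (h : f = g) (hφ : φ.Over f) : φ.Over g := h ▸ hφ

theorem mu_isGr {x : M} {i : ι} (hx : x ∈ ℳ i) :
    IsGrHom (shiftGr 𝒜 (-i)) ℳ (LinearMap.toSpanSingleton R M x) := fun g r hr => by
  have h1 := SetLike.GradedSMul.smul_mem (A := 𝒜) (B := ℳ) (show r ∈ 𝒜 (g + -i) from hr) hx
  rw [vadd_eq_add, neg_add_cancel_right] at h1
  rw [LinearMap.toSpanSingleton_apply]
  exact h1

variable (I : StarInjRes 𝒜 𝒜)

/-- A chosen homogeneous lift of `r ↦ r x` to the resolutions. -/
def thetaC {x : M} {i : ι} (hx : x ∈ ℳ i) (E : StarInjRes 𝒜 ℳ) : CMap (shiftRes I (-i)) E :=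
  Classical.choose (exists_lift (shiftRes I (-i)) E _ (mu_isGr hx))

theorem thetaC_isGr {x : M} {i : ι} (hx : x ∈ ℳ i) (E : StarInjRes 𝒜 ℳ) :
    (thetaC I hx E).IsGr :=
  (Classical.choose_spec (exists_lift (shiftRes I (-i)) E _ (mu_isGr hx))).1

theorem thetaC_over {x : M} {i : ι} (hx : x ∈ ℳ i) (E : StarInjRes 𝒜 ℳ) :
    (thetaC I hx E).Over (LinearMap.toSpanSingleton R M x) :=
  (Classical.choose_spec (exists_lift (shiftRes I (-i)) E _ (mu_isGr hx))).2

variable (a : HomogeneousIdeal 𝒜) (n : ℕ)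

/-- The map `H^n_a(R) → H^n_a(M)` induced by a homogeneous element `x ∈ M_i`. -/
def theta {x : M} {i : ι} (hx : x ∈ ℳ i) (E : StarInjRes 𝒜 ℳ) : I.H a n →ₗ[R] E.H a n :=
  (thetaC I hx E).H a n

theorem theta_eq_of_lift {x : M} {i : ι} (hx : x ∈ ℳ i) (E : StarInjRes 𝒜 ℳ)
    {φ : CMap (shiftRes I (-i)) E} (hφ : φ.IsGr)
    (hφo : φ.Over (LinearMap.toSpanSingleton R M x)) : theta I a n hx E = φ.H a n :=
  H_eq_of_over (thetaC_isGr I hx E) hφ (thetaC_over I hx E) hφo a n

theorem theta_congr {x y : M} {i : ι} (hx : x ∈ ℳ i) (hy : y ∈ ℳ i) (hxy : x = y)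
    (E : StarInjRes 𝒜 ℳ) : theta I a n hx E = theta I a n hy E := by
  subst hxy
  exact rfl

theorem theta_mem {x : M} {i : ι} (hx : x ∈ ℳ i) (E : StarInjRes 𝒜 ℳ) {g : ι} {h : I.H a n}
    (hh : h ∈ I.Hcomp a n g) : theta I a n hx E h ∈ E.Hcomp a n (g + i) := by
  have h1 : h ∈ I.Hcomp a n (g + i + -i) := by
    rw [add_neg_cancel_right]
    exact hh
  exact CMap.H_mem_Hcomp (thetaC I hx E) a (thetaC_isGr I hx E) n (g + i)
    ((mem_Hcomp_shiftRes I (-i) a n (g + i) h).mpr h1)

theorem theta_add {x y : M} {i : ι} (hx : x ∈ ℳ i) (hy : y ∈ ℳ i) (E : StarInjRes 𝒜 ℳ) :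
    theta I a n (add_mem hx hy) E = theta I a n hx E + theta I a n hy E := by
  have hov : (cadd (thetaC I hx E) (thetaC I hy E)).Over (LinearMap.toSpanSingleton R M (x + y)) := by
    refine over_congr ?_ (cadd_over (thetaC_over I hx E) (thetaC_over I hy E))
    apply LinearMap.ext
    intro r
    rw [LinearMap.add_apply, LinearMap.toSpanSingleton_apply, LinearMap.toSpanSingleton_apply,
      LinearMap.toSpanSingleton_apply, smul_add]
  rw [theta_eq_of_lift I a n (add_mem hx hy) E
    (cadd_isGr (thetaC_isGr I hx E) (thetaC_isGr I hy E)) hov, cadd_H]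
  rfl

theorem theta_zero (i : ι) (E : StarInjRes 𝒜 ℳ) :
    theta I a n (zero_mem (ℳ i)) E = 0 := by
  have hov : (czero (shiftRes I (-i)) E).Over (LinearMap.toSpanSingleton R M (0 : M)) := by
    refine over_congr ?_ czero_over
    apply LinearMap.ext
    intro r
    rw [LinearMap.zero_apply, LinearMap.toSpanSingleton_apply, smul_zero]
  rw [theta_eq_of_lift I a n (zero_mem (ℳ i)) E czero_isGr hov, czero_H]
  rfl

theorem theta_smul {r : R} {j : ι} (hr : r ∈ 𝒜 j) {x : M} {i : ι} (hx : x ∈ ℳ i) {l : ι}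
    (hl : j + i = l) (hrx : r • x ∈ ℳ l) (E : StarInjRes 𝒜 ℳ) (h : I.H a n) :
    theta I a n hrx E h = r • theta I a n hx E h := by
  have hgr : ((thetaC I hx E).comp (smulC I r (-l) (-i))).IsGr :=
    CMap.comp_isGr (thetaC_isGr I hx E) (smulC_isGr I hr (by rw [← hl]; abel))
  have hov : ((thetaC I hx E).comp (smulC I r (-l) (-i))).Over
      (LinearMap.toSpanSingleton R M (r • x)) := by
    refine over_congr ?_ (CMap.comp_over (thetaC_over I hx E) (smulC_over I r (-l) (-i)))
    apply LinearMap.ext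
    intro s
    rw [LinearMap.comp_apply, LinearMap.toSpanSingleton_apply, LinearMap.toSpanSingleton_apply,
      LinearMap.lsmul_apply, smul_eq_mul, mul_comm, mul_smul]
  have h1 := theta_eq_of_lift I a n hrx E hgr hov
  have h2 : ((thetaC I hx E).comp (smulC I r (-l) (-i))).H a n h =
      (thetaC I hx E).H a n ((smulC I r (-l) (-i)).H a n h) :=
    LinearMap.congr_fun (CMap.comp_H a (thetaC I hx E) (smulC I r (-l) (-i)) n) h
  have h3 : (smulC I r (-l) (-i)).H a n h = r • h := smulC_H I r _ _ a n h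
  exact (LinearMap.congr_fun h1 h).trans (h2.trans
    ((congrArg ((thetaC I hx E).H a n) h3).trans (map_smul ((thetaC I hx E).H a n) r h)))

theorem theta_nat {x : M} {i : ι} (hx : x ∈ ℳ i) (E : StarInjRes 𝒜 ℳ) (F : StarInjRes 𝒜 𝒩)
    {f : M →ₗ[R] N} (hf : IsGrHom ℳ 𝒩 f) {φ : CMap E F} (hφ : φ.IsGr) (hφf : φ.Over f)
    (h : I.H a n) : φ.H a n (theta I a n hx E h) = theta I a n (hf i x hx) F h := by
  have hgr : (φ.comp (thetaC I hx E)).IsGr := CMap.comp_isGr hφ (thetaC_isGr I hx E)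
  have hov : (φ.comp (thetaC I hx E)).Over (LinearMap.toSpanSingleton R N (f x)) := by
    refine over_congr ?_ (CMap.comp_over hφf (thetaC_over I hx E))
    apply LinearMap.ext
    intro s
    rw [LinearMap.comp_apply, LinearMap.toSpanSingleton_apply, LinearMap.toSpanSingleton_apply,
      map_smul]
  have h1 := theta_eq_of_lift I a n (hf i x hx) F hgr hov
  have h2 : (φ.comp (thetaC I hx E)).H a n h = φ.H a n ((thetaC I hx E).H a n h) :=
    LinearMap.congr_fun (CMap.comp_H a φ (thetaC I hx E) n) h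
  exact ((LinearMap.congr_fun h1 h).trans h2).symm

/-- For the shifted module `R(-a₀)` itself, `θ_r` is multiplication by `r`. -/
theorem theta_shift (a₀ b : ι) {r : R} (hr : r ∈ shiftGr 𝒜 (-a₀) b) (h : I.H a n) :
    theta (ℳ := shiftGr 𝒜 (-a₀)) I a n hr (shiftRes I (-a₀)) h = r • h := by
  have hgr : (smulC I r (-b) (-a₀)).IsGr :=
    smulC_isGr I (show r ∈ 𝒜 (b + -a₀) from hr) (by abel)
  have hov : (smulC I r (-b) (-a₀)).Over (LinearMap.toSpanSingleton R R r) := by
    refine over_congr ?_ (smulC_over I r (-b) (-a₀))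
    apply LinearMap.ext
    intro s
    rw [LinearMap.toSpanSingleton_apply, LinearMap.lsmul_apply, smul_eq_mul, smul_eq_mul, mul_comm]
  have h1 := theta_eq_of_lift (ℳ := shiftGr 𝒜 (-a₀)) I a n hr (shiftRes I (-a₀)) hgr hov
  exact (LinearMap.congr_fun h1 h).trans (smulC_H I r _ _ a n h)

section Full

variable (E : StarInjRes 𝒜 ℳ)

/-- `x ↦ θ_x` on a homogeneous piece. -/
def thetaAdd (i : ι) : ℳ i →+ (I.H a n →ₗ[R] E.H a n) where
  toFun x := theta I a n x.2 E
  map_zero' := theta_zero I a n i E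
  map_add' x y := theta_add I a n x.2 y.2 E

/-- The assembled map `M → Hom_R(H^n_a(R), H^n_a(M))`. -/
def thetaFull : M →+ (I.H a n →ₗ[R] E.H a n) :=
  (DirectSum.toAddMonoid (thetaAdd I a n E)).comp (DirectSum.decomposeAddEquiv ℳ).toAddMonoidHom

theorem thetaFull_of_mem {x : M} {i : ι} (hx : x ∈ ℳ i) :
    thetaFull I a n E x = theta I a n hx E := by
  change DirectSum.toAddMonoid (thetaAdd I a n E) (DirectSum.decompose ℳ x) = _
  rw [DirectSum.decompose_of_mem ℳ hx, DirectSum.toAddMonoid_of]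
  rfl

theorem thetaFull_smul (r : R) (x : M) :
    thetaFull I a n E (r • x) = r • thetaFull I a n E x := by
  classical
  induction x using DirectSum.Decomposition.inductionOn ℳ with
  | zero => rw [smul_zero, map_zero, smul_zero]
  | @homogeneous i x =>
    induction r using DirectSum.Decomposition.inductionOn 𝒜 with
    | zero => rw [zero_smul, map_zero, zero_smul]
    | @homogeneous j r =>
      have hrx : (r : R) • (x : M) ∈ ℳ (j + i) :=
        SetLike.GradedSMul.smul_mem (A := 𝒜) (B := ℳ) r.2 x.2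
      rw [thetaFull_of_mem I a n E hrx, thetaFull_of_mem I a n E x.2]
      apply LinearMap.ext
      intro h
      rw [LinearMap.smul_apply]
      exact theta_smul I a n r.2 x.2 rfl hrx E h
    | add r s hr hs => rw [add_smul, map_add, hr, hs, add_smul]
  | add x y hx hy => rw [smul_add, map_add, hx, hy, map_add, smul_add]

end Full

end Groth.Agent.Lib.T2H3.GrTopDual
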