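import Groth.Agent.Lib.T2H3GrTopDualB

/-! The graded free module `⊕_j R(-a_j)` on `Fin s → R`: pieces, decomposition, graded
scalar multiplication, coordinate projections and the homogeneous map to a graded module
determined by homogeneous elements `x_j ∈ M_{a_j}` (helper3). -/

set_option autoImplicit false
set_option linter.unusedSectionVars false
set_option linter.style.haveILetI false
open DirectSum

noncomputable section

namespace Groth.Agent.Lib.T2H3.GrTopDual

open GrLC Groth.Agent.Lib.T2H3.GrLes Groth.Agent.Lib.Helper29GrShift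

universe u

variable {ι : Type} [AddCommGroup ι] [DecidableEq ι]
variable {R : Type u} [CommRing R] (𝒜 : ι → AddSubgroup R) [GradedRing 𝒜]
variable {s : ℕ} (a : Fin s → ι)

/-- The pieces of the graded free module `⊕_j R(-a_j)`. -/
def freeGr (g : ι) : AddSubgroup (Fin s → R) where
  carrier := {c | ∀ j, c j ∈ 𝒜 (g + -a j)}
  zero_mem' := fun _ => zero_mem _
  add_mem' := fun hc hc' j => add_mem (hc j) (hc' j)
  neg_mem' := fun hc j => neg_mem (hc j)

theorem mem_freeGr {g : ι} {c : Fin s → R} : c ∈ freeGr 𝒜 a g ↔ ∀ j, c j ∈ 𝒜 (g + -a j) :=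
  Iff.rfl

theorem single_mem_freeGr (j : Fin s) {g : ι} {x : R} (hx : x ∈ 𝒜 (g + -a j)) :
    (Pi.single j x : Fin s → R) ∈ freeGr 𝒜 a g := by
  intro j'
  by_cases h : j' = j
  · subst h
    rw [Pi.single_eq_same]
    exact hx
  · rw [Pi.single_eq_of_ne h]
    exact zero_mem _

/-- Inclusion of the `j`-th coordinate, piece by piece. -/
def singlePiece (j : Fin s) (g : ι) : ↥(shiftGr 𝒜 (-a j) g) →+ ↥(freeGr 𝒜 a g) where
  toFun x := ⟨Pi.single j (x : R), single_mem_freeGr 𝒜 a j x.2⟩
  map_zero' := Subtype.ext (Pi.single_zero j)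
  map_add' x y := Subtype.ext (Pi.single_add (f := fun _ : Fin s => R) j x.1 y.1)

theorem coe_map_singlePiece (j : Fin s) (u : ⨁ g, shiftGr 𝒜 (-a j) g) :
    DirectSum.coeAddMonoidHom (freeGr 𝒜 a) (DirectSum.map (singlePiece 𝒜 a j) u) =
      Pi.single j (DirectSum.coeAddMonoidHom (shiftGr 𝒜 (-a j)) u) := by
  classical
  induction u using DirectSum.induction_on with
  | zero => rw [map_zero, map_zero, map_zero, Pi.single_zero]
  | of g x =>
    rw [DirectSum.map_of, DirectSum.coeAddMonoidHom_of, DirectSum.coeAddMonoidHom_of]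
    rfl
  | add x y hx hy => rw [map_add, map_add, map_add, hx, hy, Pi.single_add]

/-- The decomposition map of the graded free module. -/
def freeDec : (Fin s → R) →+ ⨁ g, freeGr 𝒜 a g :=
  ∑ j : Fin s, (DirectSum.map (singlePiece 𝒜 a j)).comp
    ((DirectSum.decomposeAddEquiv (shiftGr 𝒜 (-a j))).toAddMonoidHom.comp
      (Pi.evalAddMonoidHom (fun _ => R) j))

theorem freeDec_apply (c : Fin s → R) :
    freeDec 𝒜 a c = ∑ j : Fin s, DirectSum.map (singlePiece 𝒜 a j)
      (DirectSum.decompose (shiftGr 𝒜 (-a j)) (c j)) := by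
  unfold freeDec
  rw [AddMonoidHom.finsetSum_apply]
  rfl

instance freeDecomposition : DirectSum.Decomposition (freeGr 𝒜 a) :=
  DirectSum.Decomposition.ofAddHom (freeGr 𝒜 a) (freeDec 𝒜 a)
    (by
      apply AddMonoidHom.ext
      intro c
      rw [AddMonoidHom.comp_apply, freeDec_apply, map_sum, AddMonoidHom.id_apply]
      simp only [coe_map_singlePiece]
      have h : ∀ j : Fin s, DirectSum.coeAddMonoidHom (shiftGr 𝒜 (-a j))
          (DirectSum.decompose (shiftGr 𝒜 (-a j)) (c j)) = c j :=
        fun j => DirectSum.Decomposition.left_inv (ℳ := shiftGr 𝒜 (-a j)) (c j)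
      simp only [h]
      exact Finset.univ_sum_single c)
    (by
      apply DirectSum.addHom_ext
      intro g c
      rw [AddMonoidHom.comp_apply, AddMonoidHom.id_apply, DirectSum.coeAddMonoidHom_of,
        freeDec_apply]
      have h1 : ∀ j : Fin s, DirectSum.map (singlePiece 𝒜 a j)
          (DirectSum.decompose (shiftGr 𝒜 (-a j)) (c.1 j)) =
          DirectSum.of (fun g => freeGr 𝒜 a g) g
            ⟨Pi.single j (c.1 j), single_mem_freeGr 𝒜 a j (c.2 j)⟩ := fun j => by
        rw [DirectSum.decompose_of_mem (shiftGr 𝒜 (-a j))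
          (show c.1 j ∈ shiftGr 𝒜 (-a j) g from c.2 j), DirectSum.map_of]
        rfl
      simp only [h1]
      rw [← map_sum]
      congr 1
      apply Subtype.ext
      rw [AddSubmonoidClass.coe_finsetSum]
      exact Finset.univ_sum_single c.1)

instance freeGradedSMul : SetLike.GradedSMul 𝒜 (freeGr 𝒜 a) where
  smul_mem := by
    intro i g r c hr hc j
    have h1 : r * c j ∈ 𝒜 (i + (g + -a j)) := SetLike.GradedMul.mul_mem hr (hc j)
    rw [← add_assoc] at h1
    exact h1

/-- The `j`-th basis vector. -/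
def fe (j : Fin s) : Fin s → R := Pi.single j 1

theorem fe_mem (j : Fin s) : fe (R := R) j ∈ freeGr 𝒜 a (a j) := by
  refine single_mem_freeGr 𝒜 a j ?_
  rw [add_neg_cancel]
  exact SetLike.GradedOne.one_mem

theorem proj_isGr (j : Fin s) :
    IsGrHom (freeGr 𝒜 a) (shiftGr 𝒜 (-a j)) (LinearMap.proj (R := R) (φ := fun _ : Fin s => R) j) :=
  fun _ _ hc => hc j

theorem sum_toSpanSingleton_proj :
    ∑ j : Fin s, (LinearMap.toSpanSingleton R (Fin s → R) (fe j)).comp
      (LinearMap.proj (R := R) (φ := fun _ : Fin s => R) j) = LinearMap.id := by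
  apply LinearMap.ext
  intro c
  rw [LinearMap.sum_apply, LinearMap.id_apply]
  have h : ∀ j : Fin s, ((LinearMap.toSpanSingleton R (Fin s → R) (fe j)).comp
      (LinearMap.proj (R := R) (φ := fun _ : Fin s => R) j)) c = Pi.single j (c j) := by
    intro j
    rw [LinearMap.comp_apply, LinearMap.toSpanSingleton_apply, LinearMap.proj_apply]
    ext l
    rw [Pi.smul_apply, fe]
    by_cases hl : l = j
    · subst hl
      rw [Pi.single_eq_same, Pi.single_eq_same, smul_eq_mul, mul_one]
    · rw [Pi.single_eq_of_ne hl, Pi.single_eq_of_ne hl, smul_zero]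
  simp only [h]
  exact Finset.univ_sum_single c

section ToModule

variable {M : Type u} [AddCommGroup M] [Module R M] (ℳ : ι → AddSubgroup M)
  [DirectSum.Decomposition ℳ] [SetLike.GradedSMul 𝒜 ℳ]

/-- The homogeneous map `⊕ R(-a_j) → M` determined by elements `x_j ∈ M_{a_j}`. -/
def freeMap (x : Fin s → M) : (Fin s → R) →ₗ[R] M := Fintype.linearCombination R x

theorem freeMap_apply (x : Fin s → M) (c : Fin s → R) : freeMap (R := R) x c = ∑ j, c j • x j :=
  Fintype.linearCombination_apply R x c

theorem freeMap_fe (x : Fin s → M) (j : Fin s) : freeMap (R := R) x (fe j) = x j := by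
  rw [freeMap, fe, Fintype.linearCombination_apply_single, one_smul]

theorem freeMap_isGr {x : Fin s → M} (hx : ∀ j, x j ∈ ℳ (a j)) :
    IsGrHom (freeGr 𝒜 a) ℳ (freeMap (R := R) x) := fun g c hc => by
  rw [freeMap_apply]
  refine sum_mem (fun j _ => ?_)
  have h1 := SetLike.GradedSMul.smul_mem (A := 𝒜) (B := ℳ) (hc j) (hx j)
  rw [vadd_eq_add, neg_add_cancel_right] at h1
  exact h1

theorem freeMap_surjective {x : Fin s → M} (hspan : Submodule.span R (Set.range x) = ⊤) :
    Function.Surjective (freeMap (R := R) x) := by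
  rw [← LinearMap.range_eq_top, freeMap, Fintype.range_linearCombination, hspan]

end ToModule

end Groth.Agent.Lib.T2H3.GrTopDual
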