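import Groth.Agent.Lib.T2H3GrTopDualC
import Groth.Agent.Lib.Helper29GrBaer

/-! Top graded local cohomology of the graded free module `⊕ R(-a_j)` and of finitely generated
graded modules: `H^n_a(⊕ R(-a_j)) = ⊕ θ_{e_j}(H^n_a(R))`, and `H^n_a(N)` is generated by the
images `θ_x(H^n_a(R))`, `x ∈ N` homogeneous, when `n ≥ dim R` (helper3). -/

set_option autoImplicit false
set_option linter.unusedSectionVars false
set_option linter.style.haveILetI false
open DirectSum

noncomputable section

namespace Groth.Agent.Lib.T2H3.GrTopDual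

open GrLC Groth.Agent.Lib.T2H3.GrLes Groth.Agent.Lib.Helper29GrShift

universe u

variable {ι : Type} [AddCommGroup ι] [DecidableEq ι]
variable {R : Type u} [CommRing R] {𝒜 : ι → AddSubgroup R} [GradedRing 𝒜]
variable (I : StarInjRes 𝒜 𝒜) (a : HomogeneousIdeal 𝒜) (n : ℕ)

section FreeH

variable {s : ℕ} (deg : Fin s → ι) (EF : StarInjRes 𝒜 (freeGr 𝒜 deg))

/-- A chosen homogeneous lift of the `j`-th coordinate projection. -/
def projC (j : Fin s) : CMap EF (shiftRes I (-deg j)) :=
  Classical.choose (exists_lift EF (shiftRes I (-deg j)) _ (proj_isGr 𝒜 deg j))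

theorem projC_isGr (j : Fin s) : (projC I deg EF j).IsGr :=
  (Classical.choose_spec (exists_lift EF (shiftRes I (-deg j)) _ (proj_isGr 𝒜 deg j))).1

theorem projC_over (j : Fin s) :
    (projC I deg EF j).Over (LinearMap.proj (R := R) (φ := fun _ : Fin s => R) j) :=
  (Classical.choose_spec (exists_lift EF (shiftRes I (-deg j)) _ (proj_isGr 𝒜 deg j))).2

/-- The map induced by the `j`-th coordinate projection on the local cohomology. -/
def projH (j : Fin s) : EF.H a n →ₗ[R] I.H a n := (projC I deg EF j).H a n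

theorem projH_theta {b : ι} {c : Fin s → R} (hc : c ∈ freeGr 𝒜 deg b) (j : Fin s)
    (h : I.H a n) : projH I a n deg EF j (theta I a n hc EF h) = c j • h := by
  have h1 := theta_nat I a n hc EF (shiftRes I (-deg j)) (proj_isGr 𝒜 deg j)
    (projC_isGr I deg EF j) (projC_over I deg EF j) h
  exact h1.trans (theta_shift I a n (deg j) b _ h)

theorem projH_mem {g : ι} {h : EF.H a n} (hh : h ∈ EF.Hcomp a n g) (j : Fin s) :
    projH I a n deg EF j h ∈ I.Hcomp a n (g + -deg j) :=
  (mem_Hcomp_shiftRes I (-deg j) a n g _).mp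
    (CMap.H_mem_Hcomp (projC I deg EF j) a (projC_isGr I deg EF j) n g hh)

theorem sum_theta_projH (h : EF.H a n) :
    ∑ j : Fin s, theta I a n (fe_mem 𝒜 deg j) EF (projH I a n deg EF j h) = h := by
  have hgr : (csum Finset.univ
      (fun j : Fin s => (thetaC I (fe_mem 𝒜 deg j) EF).comp (projC I deg EF j))).IsGr :=
    csum_isGr _ (fun j _ => CMap.comp_isGr (thetaC_isGr I (fe_mem 𝒜 deg j) EF)
      (projC_isGr I deg EF j))
  have hov : (csum Finset.univ
      (fun j : Fin s => (thetaC I (fe_mem 𝒜 deg j) EF).comp (projC I deg EF j))).Over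
      LinearMap.id :=
    over_congr sum_toSpanSingleton_proj
      (csum_over _ (fun j _ => CMap.comp_over (thetaC_over I (fe_mem 𝒜 deg j) EF)
        (projC_over I deg EF j)))
  have h1 := H_eq_of_over hgr (CMap.id_isGr EF) hov (CMap.id_over EF) a n
  rw [csum_H, CMap.id_H] at h1
  have h2 := LinearMap.congr_fun h1 h
  rw [LinearMap.sum_apply, LinearMap.id_apply] at h2
  refine Eq.trans (Finset.sum_congr rfl (fun j _ => ?_)) h2
  exact (LinearMap.congr_fun
    (CMap.comp_H a (thetaC I (fe_mem 𝒜 deg j) EF) (projC I deg EF j) n) h).symm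

end FreeH

section Span

variable [Module.Free ℤ ι] [Module.Finite ℤ ι] [IsNoetherianRing R]
variable {N : Type u} [AddCommGroup N] [Module R N] {𝒩 : ι → AddSubgroup N}
  [DirectSum.Decomposition 𝒩] [SetLike.GradedSMul 𝒜 𝒩]

/-- A finite homogeneous generating family indexed by `Fin s`. -/
theorem exists_fin_homogeneous_generators (𝒩 : ι → AddSubgroup N) [DirectSum.Decomposition 𝒩]
    [Module.Finite R N] :
    ∃ (s : ℕ) (x : Fin s → N) (deg : Fin s → ι), (∀ j, x j ∈ 𝒩 (deg j)) ∧
      Submodule.span R (Set.range x) = ⊤ := by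
  classical
  obtain ⟨S, hShom, hSspan⟩ :=
    Groth.Agent.Lib.Helper29GrBaer.exists_homogeneous_generators (R := R) (𝓐 := 𝒩)
  have hdeg : ∀ j : Fin S.card, ∃ g, ((S.equivFin.symm j : ↥S) : N) ∈ 𝒩 g :=
    fun j => hShom _ (S.equivFin.symm j).2
  choose deg hdeg' using hdeg
  refine ⟨S.card, fun j => ((S.equivFin.symm j : ↥S) : N), deg, hdeg', ?_⟩
  have hrange : Set.range (fun j : Fin S.card => ((S.equivFin.symm j : ↥S) : N)) = (S : Set N) := by
    ext y
    constructor
    · rintro ⟨j, rfl⟩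
      exact (S.equivFin.symm j).2
    · intro hy
      refine ⟨S.equivFin ⟨y, hy⟩, ?_⟩
      change ((S.equivFin.symm (S.equivFin ⟨y, hy⟩) : ↥S) : N) = y
      rw [Equiv.symm_apply_apply]
  rw [hrange, hSspan]

/-- The top local cohomology of a finitely generated graded module is generated by the images
of the maps `θ_x`. -/
theorem theta_induction [Module.Finite R N] (hn : ringKrullDim R ≤ n) (EN : StarInjRes 𝒜 𝒩)
    {P : EN.H a n → Prop} (h0 : P 0) (hadd : ∀ y y', P y → P y' → P (y + y'))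
    (hθ : ∀ (i : ι) (x : N) (hx : x ∈ 𝒩 i) (h : I.H a n), P (theta I a n hx EN h)) :
    ∀ y, P y := by
  classical
  obtain ⟨s, x, deg, hx, hspan⟩ := exists_fin_homogeneous_generators (R := R) 𝒩
  obtain ⟨EF⟩ := Groth.Agent.S13215.result R 𝒜 (Fin s → R) (freeGr 𝒜 deg)
  have hpgr : IsGrHom (freeGr 𝒜 deg) 𝒩 (freeMap (R := R) x) := freeMap_isGr 𝒜 deg 𝒩 hx
  obtain ⟨φ, hφ, hφo⟩ := exists_lift EF EN (freeMap (R := R) x) hpgr
  have hsurj : Function.Surjective (φ.H a n) :=
    H_surjective_of_surjective a n hn hpgr (freeMap_surjective hspan) hφ hφo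
  intro y
  obtain ⟨h, rfl⟩ := hsurj y
  rw [← sum_theta_projH I a n deg EF h, map_sum]
  refine Finset.sum_induction _ P hadd h0 (fun j _ => ?_)
  rw [theta_nat I a n (fe_mem 𝒜 deg j) EF EN hpgr hφ hφo]
  exact hθ _ _ _ _

end Span

end Groth.Agent.Lib.T2H3.GrTopDual
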