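import Groth.Agent.Lib.T2H3GrTopDualD
import Groth.Agent.Lib.T2H3GDualA

/-! Graded duals: functionals supported in finitely many degrees, and the pairing
`D × M → K` between the graded dual `D` of `H^n_a(M)` and the graded dual `K` of `H^n_a(R)`
(helper3). -/

set_option autoImplicit false
set_option linter.unusedSectionVars false
set_option linter.unusedVariables false
set_option linter.style.haveILetI false
open DirectSum

noncomputable section

namespace Groth.Agent.Lib.T2H3.GrTopDual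

open GrLC Groth.Agent.Lib.T2H3.GrLes Groth.Agent.Lib.Helper29GrShift Groth.Agent.Lib.LeadGD

universe u

section Dual

variable {k : Type u} [Field k] {R : Type u} [CommRing R] [Algebra k R]
  {H : Type u} [AddCommGroup H] [Module R H] [Module k H] [IsScalarTower k R H]
  (𝓗 : ℤ → AddSubgroup H) [DirectSum.Decomposition 𝓗]
  {D : Type u} [AddCommGroup D] [Module R D] [Module k D] [IsScalarTower k R D]
  (𝒟 : ℤ → AddSubgroup D) [DirectSum.Decomposition 𝒟]
  {β : D →ₗ[k] H →ₗ[k] k} (hD : GrSeg.IsGDual R 𝓗 𝒟 β)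

/-- Two additive functionals agreeing on homogeneous elements agree. -/
theorem ext_homogeneous {f g : H →+ k} (h : ∀ (i : ℤ) (x : H), x ∈ 𝓗 i → f x = g x) :
    ∀ x, f x = g x := by
  classical
  intro x
  induction x using DirectSum.Decomposition.inductionOn 𝓗 with
  | zero => rw [map_zero, map_zero]
  | homogeneous x => exact h _ _ x.2
  | add x y hx hy => rw [map_add, map_add, hx, hy]

include hD in
theorem pair_eq_zero_of_decompose_eq_zero (d : D) {g : ℤ}
    (hd : ((decompose 𝒟 d) (-g) : D) = 0) {x : H} (hx : x ∈ 𝓗 g) : β d x = 0 := by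
  rw [pair_eq_comp' 𝓗 𝒟 hD hx d, hd, map_zero, LinearMap.zero_apply]

/-- An additive functional supported in finitely many degrees. -/
def FS (f : H →+ k) : Prop := ∃ S : Finset ℤ, ∀ g, g ∉ S → ∀ x, x ∈ 𝓗 g → f x = 0

include hD in
/-- Every `k`-linear functional supported in finitely many degrees is represented by an element
of the graded dual. -/
theorem exists_of_fs (f : H →ₗ[k] k) (hf : FS 𝓗 f.toAddMonoidHom) :
    ∃ d : D, ∀ x, β d x = f x := by
  classical
  obtain ⟨S, hS⟩ := hf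
  have hex : ∀ g : ℤ, ∃ d : D, d ∈ 𝒟 (-g) ∧ ∀ x, x ∈ 𝓗 g → β d x = f x := fun g => by
    obtain ⟨d, hd, h⟩ := hD.exists_eq (-g) f
    refine ⟨d, hd, fun x hx => h x ?_⟩
    rwa [neg_neg]
  choose dd hdd hdf using hex
  refine ⟨∑ g ∈ S, dd g, ?_⟩
  refine ext_homogeneous 𝓗 (f := (β (∑ g ∈ S, dd g)).toAddMonoidHom) (g := f.toAddMonoidHom)
    (fun i x hx => ?_)
  change β (∑ g ∈ S, dd g) x = f x
  rw [map_sum, LinearMap.sum_apply]
  by_cases hi : i ∈ S
  · rw [Finset.sum_eq_single_of_mem i hi, hdf i x hx]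
    intro g _ hg
    exact hD.vanish (-g) (dd g) (hdd g) i (by intro h; apply hg; omega) x hx
  · rw [Finset.sum_eq_zero]
    · exact (hS i hi x hx).symm
    · intro g hg
      refine hD.vanish (-g) (dd g) (hdd g) i ?_ x hx
      intro h
      apply hi
      have h' : i = g := by omega
      rwa [h']

end Dual

section Main

variable {k : Type u} [Field k] {R : Type u} [CommRing R] [Algebra k R]
  {𝒜 : ℤ → AddSubgroup R} [GradedRing 𝒜]
  (a : HomogeneousIdeal 𝒜) (n : ℕ)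
  (I : StarInjRes 𝒜 𝒜) [Module k (I.H a n)] [IsScalarTower k R (I.H a n)]
  [DirectSum.Decomposition (I.Hgr a n)]
  {K : Type u} [AddCommGroup K] [Module R K] [Module k K] [IsScalarTower k R K]
  (𝒦 : ℤ → AddSubgroup K) [DirectSum.Decomposition 𝒦]
  {βK : K →ₗ[k] I.H a n →ₗ[k] k} (hK : GrSeg.IsGDual R (I.Hgr a n) 𝒦 βK)
  {M : Type u} [AddCommGroup M] [Module R M] (ℳ : ℤ → AddSubgroup M)
  [DirectSum.Decomposition ℳ] [SetLike.GradedSMul 𝒜 ℳ]
  (EM : StarInjRes 𝒜 ℳ) [Module k (EM.H a n)] [IsScalarTower k R (EM.H a n)]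
  [DirectSum.Decomposition (EM.Hgr a n)]
  {D : Type u} [AddCommGroup D] [Module R D] [Module k D] [IsScalarTower k R D]
  (𝒟 : ℤ → AddSubgroup D) [DirectSum.Decomposition 𝒟]
  {βD : D →ₗ[k] EM.H a n →ₗ[k] k} (hD : GrSeg.IsGDual R (EM.Hgr a n) 𝒟 βD)

include hK hD in
theorem exists_rep_hom {e i : ℤ} {d : D} (hd : d ∈ 𝒟 e) {x : M} (hx : x ∈ ℳ i) :
    ∃ κ ∈ 𝒦 (i + e), ∀ h : I.H a n, βK κ h = βD d (theta I a n hx EM h) := by
  obtain ⟨κ, hκ, hκf⟩ := hK.exists_eq (i + e)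
    ((βD d).comp ((theta I a n hx EM).restrictScalars k))
  refine ⟨κ, hκ, ?_⟩
  refine ext_homogeneous (I.Hgr a n) (f := (βK κ).toAddMonoidHom)
    (g := ((βD d).comp ((theta I a n hx EM).restrictScalars k)).toAddMonoidHom)
    (fun g h hh => ?_)
  change βK κ h = βD d (theta I a n hx EM h)
  by_cases hg : g = -(i + e)
  · subst hg
    exact hκf h hh
  · rw [hK.vanish (i + e) κ hκ g hg h hh]
    symm
    exact hD.vanish e d hd (g + i) (by omega) _ (theta_mem I a n hx EM hh)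

include hK hD in
theorem exists_rep (d : D) (x : M) :
    ∃ κ : K, ∀ h : I.H a n, βK κ h = βD d (thetaFull I a n EM x h) := by
  classical
  induction d using DirectSum.Decomposition.inductionOn 𝒟 with
  | zero =>
    exact ⟨0, fun h => by rw [map_zero, map_zero, LinearMap.zero_apply, LinearMap.zero_apply]⟩
  | @homogeneous e d =>
    induction x using DirectSum.Decomposition.inductionOn ℳ with
    | zero =>
      exact ⟨0, fun h => by
        rw [map_zero, map_zero, LinearMap.zero_apply, LinearMap.zero_apply, map_zero]⟩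
    | @homogeneous i x =>
      obtain ⟨κ, -, hκ⟩ := exists_rep_hom a n I 𝒦 hK ℳ EM 𝒟 hD d.2 x.2
      exact ⟨κ, fun h => by rw [thetaFull_of_mem I a n EM x.2]; exact hκ h⟩
    | add x y hx hy =>
      obtain ⟨κ, hκ⟩ := hx
      obtain ⟨κ', hκ'⟩ := hy
      exact ⟨κ + κ', fun h => by
        rw [map_add, LinearMap.add_apply, map_add, LinearMap.add_apply, map_add, hκ h, hκ' h]⟩
  | add d d' hd hd' =>
    obtain ⟨κ, hκ⟩ := hd
    obtain ⟨κ', hκ'⟩ := hd'
    exact ⟨κ + κ', fun h => by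
      rw [map_add, LinearMap.add_apply, map_add, LinearMap.add_apply, hκ h, hκ' h]⟩

/-- The element of `K` representing `h ↦ βD d (θ_x h)`. -/
def epsFun (d : D) (x : M) : K := Classical.choose (exists_rep a n I 𝒦 hK ℳ EM 𝒟 hD d x)

theorem epsFun_spec (d : D) (x : M) (h : I.H a n) :
    βK (epsFun a n I 𝒦 hK ℳ EM 𝒟 hD d x) h = βD d (thetaFull I a n EM x h) :=
  Classical.choose_spec (exists_rep a n I 𝒦 hK ℳ EM 𝒟 hD d x) h

theorem epsFun_eq {d : D} {x : M} {κ : K}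
    (h : ∀ h : I.H a n, βK κ h = βD d (thetaFull I a n EM x h)) :
    epsFun a n I 𝒦 hK ℳ EM 𝒟 hD d x = κ :=
  Groth.Agent.Lib.T2H3.GDualU.rep_unique (I.Hgr a n) 𝒦 hK
    (fun y => (epsFun_spec a n I 𝒦 hK ℳ EM 𝒟 hD d x y).trans (h y).symm)

/-- `epsFun d` as a linear map `M → K`. -/
def epsLin (d : D) : M →ₗ[R] K where
  toFun := epsFun a n I 𝒦 hK ℳ EM 𝒟 hD d
  map_add' x y := by
    refine epsFun_eq a n I 𝒦 hK ℳ EM 𝒟 hD (fun h => ?_)
    rw [map_add, LinearMap.add_apply, epsFun_spec, epsFun_spec, map_add, LinearMap.add_apply,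
      map_add]
  map_smul' r x := by
    refine epsFun_eq a n I 𝒦 hK ℳ EM 𝒟 hD (fun h => ?_)
    rw [RingHom.id_apply, hK.map_smul, epsFun_spec, thetaFull_smul, LinearMap.smul_apply,
      map_smul]

theorem epsLin_apply (d : D) (x : M) :
    epsLin a n I 𝒦 hK ℳ EM 𝒟 hD d x = epsFun a n I 𝒦 hK ℳ EM 𝒟 hD d x := rfl

/-- The comparison map `D → Hom_R(M, K)`. -/
def eps : D →ₗ[R] (M →ₗ[R] K) where
  toFun := epsLin a n I 𝒦 hK ℳ EM 𝒟 hD
  map_add' d d' := by
    apply LinearMap.ext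
    intro x
    rw [LinearMap.add_apply, epsLin_apply, epsLin_apply, epsLin_apply]
    refine epsFun_eq a n I 𝒦 hK ℳ EM 𝒟 hD (fun h => ?_)
    rw [map_add, LinearMap.add_apply, epsFun_spec, epsFun_spec, map_add, LinearMap.add_apply]
  map_smul' r d := by
    apply LinearMap.ext
    intro x
    rw [RingHom.id_apply, LinearMap.smul_apply, epsLin_apply, epsLin_apply]
    refine epsFun_eq a n I 𝒦 hK ℳ EM 𝒟 hD (fun h => ?_)
    rw [hK.map_smul, epsFun_spec, map_smul, hD.map_smul]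

theorem eps_spec (d : D) (x : M) (h : I.H a n) :
    βK (eps a n I 𝒦 hK ℳ EM 𝒟 hD d x) h = βD d (thetaFull I a n EM x h) :=
  epsFun_spec a n I 𝒦 hK ℳ EM 𝒟 hD d x h

theorem eps_eq {d : D} {x : M} {κ : K}
    (h : ∀ h : I.H a n, βK κ h = βD d (thetaFull I a n EM x h)) :
    eps a n I 𝒦 hK ℳ EM 𝒟 hD d x = κ :=
  epsFun_eq a n I 𝒦 hK ℳ EM 𝒟 hD h

theorem eps_mem {e i : ℤ} {d : D} (hd : d ∈ 𝒟 e) {x : M} (hx : x ∈ ℳ i) :
    eps a n I 𝒦 hK ℳ EM 𝒟 hD d x ∈ 𝒦 (i + e) := by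
  obtain ⟨κ, hκ, hκf⟩ := exists_rep_hom a n I 𝒦 hK ℳ EM 𝒟 hD hd hx
  have h1 : eps a n I 𝒦 hK ℳ EM 𝒟 hD d x = κ :=
    eps_eq a n I 𝒦 hK ℳ EM 𝒟 hD (fun h => by
      rw [thetaFull_of_mem I a n EM hx]
      exact hκf h)
  rw [h1]
  exact hκ

end Main

end Groth.Agent.Lib.T2H3.GrTopDual
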