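import Groth.Agent.Lib.T2H3GrTopDualE

/-! The graded dual of the top local cohomology: `(H^n_a(M))^* ≅ Hom_R(M, (H^n_a(R))^*)` as
graded modules, for a finitely generated graded module `M` over a Noetherian graded `k`-algebra
`R` with `dim R ≤ n` (helper3). -/

set_option autoImplicit false
set_option linter.unusedSectionVars false
set_option linter.unusedVariables false
set_option linter.style.haveILetI false
set_option maxHeartbeats 1000000
open DirectSum

noncomputable section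

namespace Groth.Agent.Lib.T2H3.GrTopDual

open GrLC Groth.Agent.Lib.T2H3.GrLes Groth.Agent.Lib.Helper29GrShift Groth.Agent.Lib.LeadGD
  Groth.Agent.Lib.Helper29GrSub Groth.Agent.Lib.Helper29GrHom

universe u

variable {k : Type u} [Field k] {R : Type u} [CommRing R] [Algebra k R] [IsNoetherianRing R]
  {𝒜 : ℤ → AddSubgroup R} [GradedRing 𝒜]
  (a : HomogeneousIdeal 𝒜) (n : ℕ)
  (I : StarInjRes 𝒜 𝒜) [Module k (I.H a n)] [IsScalarTower k R (I.H a n)]
  [DirectSum.Decomposition (I.Hgr a n)]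
  {K : Type u} [AddCommGroup K] [Module R K] [Module k K] [IsScalarTower k R K]
  (𝒦 : ℤ → AddSubgroup K) [DirectSum.Decomposition 𝒦]
  {βK : K →ₗ[k] I.H a n →ₗ[k] k} (hK : GrSeg.IsGDual R (I.Hgr a n) 𝒦 βK)
  {M : Type u} [AddCommGroup M] [Module R M] (ℳ : ℤ → AddSubgroup M)
  [DirectSum.Decomposition ℳ] [SetLike.GradedSMul 𝒜 ℳ] [Module.Finite R M]
  (EM : StarInjRes 𝒜 ℳ) [Module k (EM.H a n)] [IsScalarTower k R (EM.H a n)]
  [DirectSum.Decomposition (EM.Hgr a n)]
  {D : Type u} [AddCommGroup D] [Module R D] [Module k D] [IsScalarTower k R D]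
  (𝒟 : ℤ → AddSubgroup D) [DirectSum.Decomposition 𝒟]
  {βD : D →ₗ[k] EM.H a n →ₗ[k] k} (hD : GrSeg.IsGDual R (EM.Hgr a n) 𝒟 βD)

theorem eps_injective (hn : ringKrullDim R ≤ n) :
    Function.Injective (eps a n I 𝒦 hK ℳ EM 𝒟 hD) := by
  rw [injective_iff_map_eq_zero]
  intro d hd
  refine eq_zero_of_pair_eq_zero (EM.Hgr a n) 𝒟 hD ?_
  refine theta_induction I a n hn EM (P := fun y => βD d y = 0) (map_zero _)
    (fun y y' hy hy' => by rw [map_add, hy, hy', add_zero]) ?_
  intro i x hx h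
  have h1 := eps_spec a n I 𝒦 hK ℳ EM 𝒟 hD d x h
  rw [hd, LinearMap.zero_apply, map_zero, LinearMap.zero_apply, thetaFull_of_mem I a n EM hx] at h1
  exact h1.symm

theorem eps_surjective (hn : ringKrullDim R ≤ n) :
    Function.Surjective (eps a n I 𝒦 hK ℳ EM 𝒟 hD) := by
  classical
  intro u
  obtain ⟨s, x, deg, hx, hspan⟩ := exists_fin_homogeneous_generators (R := R) ℳ
  obtain ⟨EF⟩ := Groth.Agent.S13215.result R 𝒜 (Fin s → R) (freeGr 𝒜 deg)
  have hpgr : IsGrHom (freeGr 𝒜 deg) ℳ (freeMap (R := R) x) := freeMap_isGr 𝒜 deg ℳ hx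
  have hpsurj : Function.Surjective (freeMap (R := R) x) := freeMap_surjective hspan
  obtain ⟨φp, hφp, hφpo⟩ := exists_lift EF EM (freeMap (R := R) x) hpgr
  -- the kernel of the presentation
  have hQhom : (LinearMap.ker (freeMap (R := R) x)).IsHomogeneous (freeGr 𝒜 deg) :=
    ker_isHomogeneous ℳ (freeGr 𝒜 deg) _ hpgr
  letI := subDecomposition (freeGr 𝒜 deg) (LinearMap.ker (freeMap (R := R) x)) hQhom
  haveI := sub_gradedSMul (freeGr 𝒜 deg) (LinearMap.ker (freeMap (R := R) x)) 𝒜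
  obtain ⟨EN⟩ := Groth.Agent.S13215.result R 𝒜 (LinearMap.ker (freeMap (R := R) x))
    (subGr (freeGr 𝒜 deg) (LinearMap.ker (freeMap (R := R) x)))
  have S : GrSES (subGr (freeGr 𝒜 deg) (LinearMap.ker (freeMap (R := R) x))) (freeGr 𝒜 deg) ℳ
      (LinearMap.ker (freeMap (R := R) x)).subtype (freeMap (R := R) x) :=
    ⟨fun _ _ hc => hc, hpgr, Subtype.coe_injective, hpsurj, by rw [Submodule.range_subtype]⟩
  obtain ⟨φι, hφι, hφιo⟩ := exists_lift EN EF (LinearMap.ker (freeMap (R := R) x)).subtype S.f_gr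
  obtain ⟨hsurj, hker⟩ := top_right_exact a n hn S hφι hφιo hφp hφpo
  -- the functional on the cohomology of the free module
  obtain ⟨lamF, lamF_apply⟩ : ∃ lamF : EF.H a n →+ k,
      ∀ h, lamF h = ∑ j, βK (u (x j)) (projH I a n deg EF j h) := by
    refine ⟨∑ j, (βK (u (x j))).toAddMonoidHom.comp (projH I a n deg EF j).toAddMonoidHom,
      fun h => ?_⟩
    rw [AddMonoidHom.finsetSum_apply]
    rfl
  -- it kills the image of the cohomology of the kernel
  have hA : ∀ y : EN.H a n, lamF (φι.H a n y) = 0 := by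
    refine theta_induction I a n hn EN (P := fun y => lamF (φι.H a n y) = 0)
      (by rw [map_zero, map_zero])
      (fun y y' hy hy' => by rw [map_add, map_add, hy, hy', add_zero]) ?_
    intro b c hc h
    rw [theta_nat I a n hc EN EF S.f_gr hφι hφιo h, lamF_apply]
    have h1 : ∀ j, projH I a n deg EF j (theta I a n (S.f_gr b c hc) EF h) =
        (c : Fin s → R) j • h := fun j => projH_theta I a n deg EF _ j h
    simp only [h1]
    have h2 : ∀ j, βK (u (x j)) ((c : Fin s → R) j • h) =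
        βK ((c : Fin s → R) j • u (x j)) h := fun j => (hK.map_smul _ _ _).symm
    simp only [h2]
    rw [← LinearMap.sum_apply, ← map_sum]
    have h3 : ∑ j, (c : Fin s → R) j • u (x j) = u (freeMap (R := R) x c) := by
      rw [freeMap_apply, map_sum]
      simp only [map_smul]
    rw [h3, LinearMap.mem_ker.mp c.2, map_zero, map_zero, LinearMap.zero_apply]
  have hwd : ∀ h h', φp.H a n h = φp.H a n h' → lamF h = lamF h' := by
    intro h h' hh
    have h1 : h - h' ∈ LinearMap.ker (φp.H a n) := by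
      rw [LinearMap.mem_ker, map_sub, hh, sub_self]
    rw [hker] at h1
    obtain ⟨y, hy⟩ := h1
    have h2 := hA y
    rw [hy, map_sub, sub_eq_zero] at h2
    exact h2
  have hlamF_smul : ∀ (c : k) (h : EF.H a n), lamF (algebraMap k R c • h) = c • lamF h := by
    intro c h
    rw [lamF_apply, lamF_apply, Finset.smul_sum]
    refine Finset.sum_congr rfl (fun j _ => ?_)
    rw [map_smul, algebraMap_smul, map_smul]
  choose sec hsec using hsurj
  have hlam : ∀ h, lamF (sec (φp.H a n h)) = lamF h := fun h => hwd _ _ (hsec _)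
  have hadd : ∀ y y' : EM.H a n, lamF (sec (y + y')) = lamF (sec y) + lamF (sec y') := by
    intro y y'
    rw [← map_add]
    exact hwd _ _ (by rw [hsec, map_add, hsec, hsec])
  have hsmul : ∀ (c : k) (y : EM.H a n), lamF (sec (c • y)) = c • lamF (sec y) := by
    intro c y
    rw [← hlamF_smul]
    exact hwd _ _ (by rw [hsec, map_smul, hsec, algebraMap_smul])
  obtain ⟨lam, lam_apply⟩ : ∃ lam : EM.H a n →ₗ[k] k, ∀ y, lam y = lamF (sec y) :=
    ⟨⟨⟨fun y => lamF (sec y), hadd⟩, hsmul⟩, fun y => rfl⟩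
  -- finite support
  have hfs : FS (EM.Hgr a n) lam.toAddMonoidHom := by
    refine ⟨Finset.univ.biUnion (fun j : Fin s =>
      (decompose 𝒦 (u (x j))).support.image (fun e => -e + deg j)), fun g hg y hy => ?_⟩
    letI := HgrDecomposition EF a n
    obtain ⟨h, hh, rfl⟩ := exists_mem_piece_of_mem_range (EF.Hgr a n) (EM.Hgr a n) (φp.H a n)
      (fun g m hm => CMap.H_mem_Hcomp φp a hφp n g hm) hy
      (LinearMap.mem_range.mpr ⟨sec y, hsec y⟩)
    change lam (φp.H a n h) = 0
    rw [lam_apply, hlam, lamF_apply]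
    refine Finset.sum_eq_zero (fun j _ => ?_)
    refine pair_eq_zero_of_decompose_eq_zero (I.Hgr a n) 𝒦 hK (u (x j)) ?_
      (projH_mem I a n deg EF hh j)
    by_contra hne
    apply hg
    rw [Finset.mem_biUnion]
    refine ⟨j, Finset.mem_univ j, ?_⟩
    rw [Finset.mem_image]
    refine ⟨-(g + -deg j), ?_, by ring⟩
    rw [DFinsupp.mem_support_toFun]
    intro h0
    apply hne
    rw [h0, ZeroMemClass.coe_zero]
  obtain ⟨d, hd⟩ := exists_of_fs (EM.Hgr a n) 𝒟 hD lam hfs
  refine ⟨d, ?_⟩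
  apply LinearMap.ext_on_range hspan
  intro j
  refine eps_eq a n I 𝒦 hK ℳ EM 𝒟 hD (fun h => ?_)
  rw [thetaFull_of_mem I a n EM (hx j), hd, lam_apply]
  have h1 : theta I a n (hx j) EM h = φp.H a n (theta I a n (fe_mem 𝒜 deg j) EF h) := by
    rw [theta_nat I a n (fe_mem 𝒜 deg j) EF EM hpgr hφp hφpo h]
    exact LinearMap.congr_fun (theta_congr I a n _ _ (freeMap_fe x j).symm EM) h
  rw [h1, hlam, lamF_apply]
  have h2 : ∀ l, projH I a n deg EF l (theta I a n (fe_mem 𝒜 deg j) EF h) =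
      (fe j : Fin s → R) l • h := fun l => projH_theta I a n deg EF _ l h
  simp only [h2]
  rw [Finset.sum_eq_single j]
  · rw [fe, Pi.single_eq_same, one_smul]
  · intro l _ hl
    rw [fe, Pi.single_eq_of_ne hl, zero_smul, map_zero]
  · intro h
    exact absurd (Finset.mem_univ j) h

include a I hK EM hD in
/-- **The graded dual of the top local cohomology.** -/
theorem exists_equiv_hom [SetLike.GradedSMul 𝒜 𝒦] (hn : ringKrullDim R ≤ n) :
    ∃ ε : D ≃ₗ[R] (M →ₗ[R] K),
      IsGrHom 𝒟 (fun d : ℤ => (homDeg 𝒜 ℳ 𝒦 d).toAddSubgroup) ε.toLinearMap :=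
  ⟨LinearEquiv.ofBijective (eps a n I 𝒦 hK ℳ EM 𝒟 hD)
      ⟨eps_injective a n I 𝒦 hK ℳ EM 𝒟 hD hn, eps_surjective a n I 𝒦 hK ℳ EM 𝒟 hD hn⟩,
    fun e d hd i x hx => eps_mem a n I 𝒦 hK ℳ EM 𝒟 hD hd hx⟩

end Groth.Agent.Lib.T2H3.GrTopDual
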