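import Groth.Agent.Lib.T2H3GrLesG

/-! Graded local cohomology of a module on which a homogeneous element of the ideal acts
bijectively vanishes (helper3). -/

set_option autoImplicit false
set_option linter.unusedSectionVars false
open DirectSum

noncomputable section

namespace Groth.Agent.Lib.T2H3.GrTors

open GrLC Groth.Agent.Lib.Helper29GrShift Groth.Agent.Lib.T2H3.GrLes

universe u

variable {ι : Type} [AddCommGroup ι] [DecidableEq ι]
variable {R : Type u} [CommRing R] {𝒜 : ι → AddSubgroup R} [GradedRing 𝒜]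
variable {M : Type u} [AddCommGroup M] [Module R M] {ℳ : ι → AddSubgroup M}
  [DirectSum.Decomposition ℳ] [SetLike.GradedSMul 𝒜 ℳ]

/-- The inverse of multiplication by `f`. -/
def invMap {f : R} (hbij : Function.Bijective (fun x : M => f • x)) : M →ₗ[R] M :=
  ((LinearEquiv.ofBijective (LinearMap.lsmul R M f) hbij).symm : M →ₗ[R] M)

theorem smul_invMap {f : R} (hbij : Function.Bijective (fun x : M => f • x)) (x : M) :
    f • invMap hbij x = x :=
  (LinearEquiv.ofBijective (LinearMap.lsmul R M f) hbij).apply_symm_apply x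

theorem invMap_smul {f : R} (hbij : Function.Bijective (fun x : M => f • x)) (x : M) :
    invMap hbij (f • x) = x :=
  (LinearEquiv.ofBijective (LinearMap.lsmul R M f) hbij).symm_apply_apply x

theorem invMap_isGrHom {f : R} {d : ι} (hf : f ∈ 𝒜 d)
    (hbij : Function.Bijective (fun x : M => f • x)) :
    IsGrHom ℳ (shiftGr ℳ (-d)) (invMap hbij) := by
  intro k x hx
  change invMap hbij x ∈ ℳ (k + -d)
  set y := invMap hbij x with hy
  have hfy : f • y = x := smul_invMap hbij x
  have h1 := Groth.Agent.Lib.Helper29GrEss.decompose_smul_of_mem 𝒜 ℳ hf y k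
  rw [hfy, DirectSum.decompose_of_mem_same _ hx] at h1
  have h2 : y = ((decompose ℳ y) (k - d) : M) := hbij.1 (by
    change f • y = f • ((decompose ℳ y) (k - d) : M)
    rw [hfy]; exact h1)
  rw [h2, ← sub_eq_add_neg]
  exact SetLike.coe_mem _

variable (E : StarInjRes 𝒜 ℳ)

theorem smul_H_injective {f : R} {d : ι} (hf : f ∈ 𝒜 d)
    (hbij : Function.Bijective (fun x : M => f • x)) (a : HomogeneousIdeal 𝒜) (i : ℕ) :
    Function.Injective (fun y : E.H a i => f • y) := by
  obtain ⟨ψ, hψ, hψg⟩ := exists_lift E (shiftRes E (-d)) (invMap hbij) (invMap_isGrHom hf hbij)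
  have h1 : (ψ.comp (xMap E hf)).H a i = LinearMap.id := by
    rw [← CMap.id_H a (shiftRes E (-d)) i]
    refine H_eq_of_over (CMap.comp_isGr hψ (xMap_isGr E hf)) (CMap.id_isGr _)
      (f := LinearMap.id) ?_ (CMap.id_over _) a i
    intro m
    have := CMap.comp_over hψg (xMap_over E hf) m
    rw [this]
    congr 1
    exact invMap_smul hbij m
  rw [CMap.comp_H] at h1
  intro y y' hyy
  have hy : (xMap E hf).H a i y = (xMap E hf).H a i y' := by
    rw [xMap_H, xMap_H]; exact hyy
  have := congrArg (ψ.H a i) hy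
  have e1 := LinearMap.congr_fun h1 y
  have e2 := LinearMap.congr_fun h1 y'
  rw [LinearMap.comp_apply, LinearMap.id_apply] at e1 e2
  rw [← e1, ← e2]
  exact this

theorem H_subsingleton_of_bijective {f : R} {d : ι} (hf : f ∈ 𝒜 d)
    (hbij : Function.Bijective (fun x : M => f • x)) (a : HomogeneousIdeal 𝒜)
    (hfa : f ∈ a.toIdeal) (i : ℕ) : Subsingleton (E.H a i) := by
  have hinj := smul_H_injective E hf hbij a i
  have hpow : ∀ (n : ℕ) (y : E.H a i), f ^ n • y = 0 → y = 0 := by
    intro n
    induction n with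
    | zero => intro y hy; simpa using hy
    | succ n ih =>
      intro y hy
      apply ih
      apply hinj
      change f • (f ^ n • y) = f • 0
      rw [smul_zero, smul_smul, ← pow_succ']
      exact hy
  refine ⟨fun y y' => ?_⟩
  have key : ∀ y : E.H a i, y = 0 := by
    intro y
    obtain ⟨z, rfl⟩ := toH_surjective E a i y
    obtain ⟨n, hn⟩ := ((mem_cocyc E a i).mp z.2).1
    apply hpow n
    rw [← map_smul, toH_eq_zero_iff]
    have : (f ^ n • z : ↥(E.cocyc a i)) = 0 := by
      apply Subtype.ext
      change f ^ n • (z : (E.X i).carrier) = 0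
      exact hn _ (Ideal.pow_mem_pow hfa n)
    rw [this]
    exact zero_mem _
  rw [key y, key y']

end Groth.Agent.Lib.T2H3.GrTors
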