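import Groth.Agent.Lib.T2H3MinRes
import Groth.Agent.Lib.T2H3GrLesB
import Groth.Agent.Lib.Helper29GrGam

/-! Graded local cohomology of a torsion module: a *injective hull of an `a`-torsion graded
module over a Noetherian ring is `a`-torsion, hence `H^q_a(M) = 0` for `q ≥ 1` when `M` is
`a`-torsion (helper3). -/

set_option autoImplicit false
set_option linter.unusedSectionVars false
set_option linter.style.haveILetI false
open DirectSum

noncomputable section

namespace Groth.Agent.Lib.T2H3.GrTors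

open GrLC Groth.Agent.Lib.T2H3.GrLes Groth.Agent.Lib.T2H3.MinRes

universe u

variable {ι : Type} [AddCommGroup ι] [DecidableEq ι]
variable {R : Type u} [CommRing R] (𝒜 : ι → AddSubgroup R) [GradedRing 𝒜]

section Basic

/-- Over a Noetherian ring the `a`-torsion of a finite module is killed by one power of `a`. -/
theorem exists_pow_kill_gam [IsNoetherianRing R] (a : Ideal R) (N : Type u) [AddCommGroup N]
    [Module R N] [Module.Finite R N] :
    ∃ k : ℕ, ∀ r ∈ a ^ k, ∀ y ∈ gam a N, r • y = 0 := by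
  haveI : IsNoetherian R N := isNoetherian_of_isNoetherianRing_of_finite R N
  let f : ℕ →o Submodule R N :=
    { toFun := fun k => Submodule.torsionBySet R N ((a ^ k : Ideal R) : Set R)
      monotone' := by
        intro k l hkl y hy
        rw [Submodule.mem_torsionBySet_iff] at hy ⊢
        rintro ⟨r, hr⟩
        obtain ⟨c, rfl⟩ := Nat.exists_eq_add_of_le hkl
        change r • y = 0
        rw [SetLike.mem_coe, pow_add] at hr
        refine Submodule.smul_induction_on hr ?_ ?_
        · intro s hs t _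
          rw [smul_eq_mul, mul_comm, mul_smul]
          have := hy ⟨s, hs⟩
          change s • y = 0 at this
          rw [this, smul_zero]
        · intro s t hs ht
          rw [add_smul, hs, ht, add_zero] }
  obtain ⟨n, hn⟩ := monotone_stabilizes_iff_noetherian.mpr ‹IsNoetherian R N› f
  refine ⟨n, fun r hr y hy => ?_⟩
  obtain ⟨k, hk⟩ := hy
  have h1 : y ∈ f k := by
    change y ∈ Submodule.torsionBySet R N ((a ^ k : Ideal R) : Set R)
    rw [Submodule.mem_torsionBySet_iff]
    rintro ⟨s, hs⟩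
    exact hk s hs
  have h2 : y ∈ f n := by
    have h3 : f k ≤ f (max n k) := f.monotone (le_max_right n k)
    have h4 : f n = f (max n k) := hn _ (le_max_left n k)
    rw [h4]
    exact h3 h1
  change y ∈ Submodule.torsionBySet R N ((a ^ n : Ideal R) : Set R) at h2
  rw [Submodule.mem_torsionBySet_iff] at h2
  exact h2 ⟨r, hr⟩

theorem gam_quot_eq_top (a : Ideal R) {E : Type u} [AddCommGroup E] [Module R E]
    (P : Submodule R E) (h : gam a E = ⊤) : gam a (E ⧸ P) = ⊤ := by
  rw [eq_top_iff]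
  intro y _
  obtain ⟨x, rfl⟩ := Submodule.mkQ_surjective P y
  exact gam_map a P.mkQ (h ▸ Submodule.mem_top)

end Basic

section Hull

variable [IsNoetherianRing R]

/-- A *essential extension of an `a`-torsion graded module is `a`-torsion. -/
theorem gam_eq_top_of_isStarEss (a : HomogeneousIdeal 𝒜) (Y E : GMod.{u} 𝒜)
    (f : Y.carrier →ₗ[R] E.carrier) (hf : IsStarEss Y.gr E.gr f)
    (hY : gam a.toIdeal Y.carrier = ⊤) : gam a.toIdeal E.carrier = ⊤ := by
  classical
  -- homogeneous elements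
  have hhom : ∀ (g : ι) (x : E.carrier), x ∈ E.gr g → x ∈ gam a.toIdeal E.carrier := by
    intro g x hx
    let N : Submodule R E.carrier := Submodule.span R {x}
    haveI : Module.Finite R ↥N := Module.Finite.span_singleton R x
    obtain ⟨k, hk⟩ := exists_pow_kill_gam a.toIdeal ↥N
    obtain ⟨c, hc⟩ := Ideal.exists_pow_inf_eq_pow_smul a.toIdeal (gam a.toIdeal ↥N)
    have hzero : a.toIdeal ^ (c + k) • (⊤ : Submodule R ↥N) ⊓ gam a.toIdeal ↥N = ⊥ := by
      rw [hc (c + k) (Nat.le_add_right c k), Nat.add_sub_cancel_left, eq_bot_iff]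
      refine Submodule.smul_le.mpr ?_
      intro r hr y hy
      rw [Submodule.mem_bot]
      exact hk r hr y hy.2
    have hxN : x ∈ N := Submodule.mem_span_singleton_self x
    -- homogeneous elements of `a^(c+k)` kill `x`
    have hkill : ∀ (h : ι) (r : R), r ∈ 𝒜 h → r ∈ a.toIdeal ^ (c + k) → r • x = 0 := by
      intro h r hrh hr
      by_contra hne
      have hrx : r • x ∈ E.gr (h + g) :=
        SetLike.GradedSMul.smul_mem (A := 𝒜) (B := E.gr) hrh hx
      have hP := Groth.Agent.Lib.Helper29GrHom.span_singleton_isHomogeneous 𝒜 E.gr hrx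
      have hP0 : Submodule.span R {r • x} ≠ ⊥ := by
        intro h0
        apply hne
        have : r • x ∈ Submodule.span R {r • x} := Submodule.mem_span_singleton_self _
        rw [h0] at this
        exact this
      have hess := hf.essential _ hP hP0
      apply hess
      rw [eq_bot_iff]
      rintro y ⟨hy1, hy2⟩
      rw [Submodule.mem_bot]
      obtain ⟨s, rfl⟩ := Submodule.mem_span_singleton.mp hy1
      obtain ⟨w, hw⟩ := hy2
      have hyg : s • r • x ∈ gam a.toIdeal E.carrier := by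
        rw [← hw]
        exact gam_map a.toIdeal f (hY ▸ Submodule.mem_top)
      let y' : ↥N := (s * r) • ⟨x, hxN⟩
      have hy'1 : y' ∈ a.toIdeal ^ (c + k) • (⊤ : Submodule R ↥N) :=
        Submodule.smul_mem_smul (Ideal.mul_mem_left _ s hr) Submodule.mem_top
      have hy'2 : y' ∈ gam a.toIdeal ↥N := by
        obtain ⟨n, hn⟩ := hyg
        refine ⟨n, fun t ht => ?_⟩
        apply Subtype.ext
        change t • ((s * r) • x) = 0
        rw [mul_smul]
        exact hn t ht
      have hy'0 : y' = 0 := by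
        have : y' ∈ (⊥ : Submodule R ↥N) := hzero ▸ ⟨hy'1, hy'2⟩
        exact (Submodule.mem_bot R).mp this
      have := congrArg Subtype.val hy'0
      change (s * r) • x = 0 at this
      rw [mul_smul] at this
      exact this
    refine ⟨c + k, fun r hr => ?_⟩
    have hpow := Groth.Agent.Lib.Helper29GrGam.pow_isHomogeneous 𝒜 a (c + k)
    have hr' : r = ∑ h ∈ (decompose 𝒜 r).support, ((decompose 𝒜 r) h : R) :=
      (DirectSum.sum_support_decompose 𝒜 r).symm
    rw [hr', Finset.sum_smul]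
    apply Finset.sum_eq_zero
    intro h _
    exact hkill h _ (SetLike.coe_mem _) (hpow h hr)
  rw [eq_top_iff]
  intro x _
  have hx' : x = ∑ h ∈ (decompose E.gr x).support, ((decompose E.gr x) h : E.carrier) :=
    (DirectSum.sum_support_decompose E.gr x).symm
  rw [hx']
  apply Submodule.sum_mem
  intro h _
  exact hhom h _ (SetLike.coe_mem _)

end Hull

section Vanish

variable [IsNoetherianRing R]
variable {M : Type u} [AddCommGroup M] [Module R M] (ℳ : ι → AddSubgroup M)
  [DirectSum.Decomposition ℳ] [SetLike.GradedSMul 𝒜 ℳ]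

theorem gam_HX (a : HomogeneousIdeal 𝒜) (Y : GMod.{u} 𝒜) (hY : gam a.toIdeal Y.carrier = ⊤) :
    gam a.toIdeal (HX 𝒜 Y).carrier = ⊤ :=
  gam_eq_top_of_isStarEss 𝒜 a Y (HX 𝒜 Y) (hj 𝒜 Y) (hj_hull 𝒜 Y).toIsStarEss hY

theorem gam_next (a : HomogeneousIdeal 𝒜) (Y : GMod.{u} 𝒜) (hY : gam a.toIdeal Y.carrier = ⊤) :
    gam a.toIdeal (next 𝒜 Y).carrier = ⊤ :=
  gam_quot_eq_top a.toIdeal _ (gam_HX 𝒜 a Y hY)

theorem gam_Yseq (a : HomogeneousIdeal 𝒜) (Y₀ : GMod.{u} 𝒜)
    (hY : gam a.toIdeal Y₀.carrier = ⊤) (n : ℕ) :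
    gam a.toIdeal (Yseq 𝒜 Y₀ n).carrier = ⊤ := by
  induction n with
  | zero => exact hY
  | succ n ih => exact gam_next 𝒜 a _ ih

theorem gam_minRes (a : HomogeneousIdeal 𝒜) (hM : gam a.toIdeal M = ⊤) (n : ℕ) :
    gam a.toIdeal ((minRes 𝒜 ℳ).X n).carrier = ⊤ :=
  gam_HX 𝒜 a _ (gam_Yseq 𝒜 a (GMod.of 𝒜 M ℳ) hM n)

variable {𝒜 ℳ}

/-- If all terms of a resolution are `a`-torsion, `H^q_a` vanishes for `q ≥ 1`. -/
theorem H_subsingleton_of_gam_terms (E : StarInjRes 𝒜 ℳ) (a : HomogeneousIdeal 𝒜)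
    (hE : ∀ n, gam a.toIdeal (E.X n).carrier = ⊤) (q : ℕ) : Subsingleton (E.H a (q + 1)) := by
  have key : ∀ y : E.H a (q + 1), y = 0 := by
    intro y
    obtain ⟨z, rfl⟩ := toH_surjective E a (q + 1) y
    rw [toH_eq_zero_iff]
    have hz := ((mem_cocyc E a (q + 1)).mp z.2).2
    have hz' : (z : (E.X (q + 1)).carrier) ∈ LinearMap.range (E.d q) := by
      rw [← E.exact_succ q]; exact hz
    obtain ⟨w, hw⟩ := hz'
    exact (mem_cobdy_succ E a).mpr ⟨w, hE q ▸ Submodule.mem_top, hw⟩
  exact ⟨fun y y' => by rw [key y, key y']⟩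

/-- Graded local cohomology of an `a`-torsion module vanishes in positive degrees. -/
theorem H_subsingleton_of_gam_eq_top (E : StarInjRes 𝒜 ℳ) (a : HomogeneousIdeal 𝒜)
    (hM : gam a.toIdeal M = ⊤) (q : ℕ) : Subsingleton (E.H a (q + 1)) := by
  obtain ⟨φ, hφ, hφid⟩ := exists_lift E (minRes 𝒜 ℳ) (LinearMap.id : M →ₗ[R] M) (fun _ _ h => h)
  have hbij := (H_bijective_of_over_id hφ hφid a (q + 1)).1
  haveI := H_subsingleton_of_gam_terms (minRes 𝒜 ℳ) a (gam_minRes 𝒜 ℳ a hM) q
  exact hbij.1.subsingleton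

end Vanish

end Groth.Agent.Lib.T2H3.GrTors
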