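import Mathlib
import Groth.Prelude.Def_GrLC

/-! Transfer of the graded-local-cohomology vocabulary from a graded ring whose pieces live in
an arbitrary `SetLike` type (for instance `Submodule k R`, as for
`MvPolynomial.weightedHomogeneousSubmodule`) to the same grading with pieces in `AddSubgroup R`,
the form in which the results of this library are stated (helper3).  Everything is
definitional: carriers, maps and cohomology modules are unchanged. -/

set_option autoImplicit false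
open DirectSum

noncomputable section

namespace Groth.Agent.Lib.T2H3.GrTr

universe u

section Carrier

variable {ι : Type*} [DecidableEq ι] {M : Type*} [AddCommGroup M] {τ τ' : Type*}
  [SetLike τ M] [AddSubgroupClass τ M] [SetLike τ' M] [AddSubgroupClass τ' M]
  (ℳ : ι → τ) [DirectSum.Decomposition ℳ] (ℳ' : ι → τ')
  (h : ∀ (i : ι) (m : M), m ∈ ℳ' i ↔ m ∈ ℳ i)

/-- The identification of the pieces of two families with the same carriers. -/
def pieceEquiv (i : ι) : ℳ i ≃+ ℳ' i where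
  toFun x := ⟨x.1, (h i x.1).2 x.2⟩
  invFun x := ⟨x.1, (h i x.1).1 x.2⟩
  left_inv _ := rfl
  right_inv _ := rfl
  map_add' _ _ := rfl

theorem coe_map_pieceEquiv (z : DirectSum ι fun i => ℳ i) :
    DirectSum.coeAddMonoidHom ℳ'
        (DirectSum.map (fun i => (pieceEquiv ℳ ℳ' h i).toAddMonoidHom) z) =
      DirectSum.coeAddMonoidHom ℳ z := by
  induction z using DirectSum.induction_on with
  | zero => simp
  | of i x =>
    rw [DirectSum.map_of, DirectSum.coeAddMonoidHom_of, DirectSum.coeAddMonoidHom_of]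
    rfl
  | add x y hx hy => rw [map_add, map_add, map_add, hx, hy]

/-- A decomposition passes to a family with the same carriers. -/
@[instance_reducible]
def decompositionOfCarrier : DirectSum.Decomposition ℳ' :=
  DirectSum.Decomposition.ofAddHom ℳ'
    ((DirectSum.map (fun i => (pieceEquiv ℳ ℳ' h i).toAddMonoidHom)).comp
      (DirectSum.decomposeAddEquiv ℳ).toAddMonoidHom)
    (by
      apply AddMonoidHom.ext
      intro m
      rw [AddMonoidHom.comp_apply, AddMonoidHom.comp_apply, coe_map_pieceEquiv]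
      exact DirectSum.Decomposition.left_inv (ℳ := ℳ) m)
    (by
      apply DirectSum.addHom_ext
      intro i x
      rw [AddMonoidHom.comp_apply, AddMonoidHom.id_apply, DirectSum.coeAddMonoidHom_of,
        AddMonoidHom.comp_apply]
      have h1 : (DirectSum.decomposeAddEquiv ℳ).toAddMonoidHom (x : M) =
          DirectSum.of (fun i => ℳ i) i ⟨x.1, (h i x.1).1 x.2⟩ :=
        DirectSum.decompose_of_mem ℳ ((h i x.1).1 x.2)
      rw [h1, DirectSum.map_of]
      rfl)

end Carrier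

section Pieces

variable {ι : Type} [DecidableEq ι] {M : Type u} [AddCommGroup M] {τ : Type u}
  [SetLike τ M] [AddSubgroupClass τ M]

/-- The same family of pieces, as additive subgroups. -/
def asGr (ℳ : ι → τ) : ι → AddSubgroup M := fun i => AddSubgroup.ofClass (ℳ i)

theorem mem_asGr (ℳ : ι → τ) {i : ι} {x : M} : x ∈ asGr ℳ i ↔ x ∈ ℳ i := Iff.rfl

instance asGr_decomposition (ℳ : ι → τ) [DirectSum.Decomposition ℳ] :
    DirectSum.Decomposition (asGr ℳ) :=
  decompositionOfCarrier ℳ (asGr ℳ) (fun _ _ => Iff.rfl)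

theorem decompose_asGr (ℳ : ι → τ) [DirectSum.Decomposition ℳ] (x : M) (i : ι) :
    ((DirectSum.decompose (asGr ℳ) x) i : M) = ((DirectSum.decompose ℳ x) i : M) := by
  change ((DirectSum.map
    (fun i => (pieceEquiv ℳ (asGr ℳ) (fun _ _ => Iff.rfl) i).toAddMonoidHom)
    (DirectSum.decompose ℳ x)) i : M) = _
  rw [DirectSum.map_apply]
  rfl

end Pieces

section Ring

variable {ι : Type} [AddCommGroup ι] [DecidableEq ι]
variable {R : Type u} [CommRing R] {σ : Type u} [SetLike σ R] [AddSubgroupClass σ R]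
variable (𝒜 : ι → σ) [GradedRing 𝒜]

instance asGr_gradedRing : GradedRing (asGr 𝒜) :=
  { one_mem := SetLike.GradedOne.one_mem (A := 𝒜)
    mul_mem := fun _ _ _ _ ha hb => SetLike.GradedMul.mul_mem (A := 𝒜) ha hb
    toDecomposition := asGr_decomposition 𝒜 }

instance asGr_gradedSMul {M : Type u} [AddCommGroup M] [Module R M] {τ : Type u} [SetLike τ M]
    [AddSubgroupClass τ M] (ℳ : ι → τ) [SetLike.GradedSMul 𝒜 ℳ] :
    SetLike.GradedSMul (asGr 𝒜) ℳ where
  smul_mem := fun {_ _ _ _} ha hm => SetLike.GradedSMul.smul_mem (A := 𝒜) (B := ℳ) ha hm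

theorem gradedSMul_of_asGr {M : Type u} [AddCommGroup M] [Module R M] {τ : Type u} [SetLike τ M]
    [AddSubgroupClass τ M] (ℳ : ι → τ) (h : SetLike.GradedSMul (asGr 𝒜) ℳ) :
    SetLike.GradedSMul 𝒜 ℳ where
  smul_mem := fun {_ _ _ _} ha hm => h.smul_mem ha hm

theorem isHomogeneous_asGr_iff (I : Ideal R) : I.IsHomogeneous (asGr 𝒜) ↔ I.IsHomogeneous 𝒜 := by
  constructor
  · intro h i r hr
    have := h i hr
    rwa [decompose_asGr] at this
  · intro h i r hr
    rw [decompose_asGr]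
    exact h i hr

/-- Transfer of homogeneous ideals. -/
def hiTo (m : HomogeneousIdeal 𝒜) : HomogeneousIdeal (asGr 𝒜) :=
  ⟨m.toIdeal, (isHomogeneous_asGr_iff 𝒜 _).mpr m.isHomogeneous⟩

/-- Transfer of homogeneous ideals, back. -/
def hiOf (m : HomogeneousIdeal (asGr 𝒜)) : HomogeneousIdeal 𝒜 :=
  ⟨m.toIdeal, (isHomogeneous_asGr_iff 𝒜 _).mp m.isHomogeneous⟩

@[simp] theorem hiTo_toIdeal (m : HomogeneousIdeal 𝒜) : (hiTo 𝒜 m).toIdeal = m.toIdeal := rfl

@[simp] theorem hiOf_toIdeal (m : HomogeneousIdeal (asGr 𝒜)) : (hiOf 𝒜 m).toIdeal = m.toIdeal :=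
  rfl

/-- The order isomorphism of homogeneous ideals. -/
def hiIso : HomogeneousIdeal 𝒜 ≃o HomogeneousIdeal (asGr 𝒜) where
  toFun := hiTo 𝒜
  invFun := hiOf 𝒜
  left_inv _ := HomogeneousIdeal.toIdeal_injective rfl
  right_inv _ := HomogeneousIdeal.toIdeal_injective rfl
  map_rel_iff' := Iff.rfl

theorem isStarLocal_hiTo {m : HomogeneousIdeal 𝒜} (hm : GrLC.IsStarLocal 𝒜 m) :
    GrLC.IsStarLocal (asGr 𝒜) (hiTo 𝒜 m) := by
  refine ⟨((hiIso 𝒜).isCoatom_iff m).mpr hm.1, fun n hn => ?_⟩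
  have h1 : IsCoatom ((hiIso 𝒜).symm n) := by
    rw [← (hiIso 𝒜).isCoatom_iff, OrderIso.apply_symm_apply]
    exact hn
  have h2 := hm.2 _ h1
  rw [← h2]
  exact ((hiIso 𝒜).apply_symm_apply n).symm

end Ring

section Modules

variable {ι : Type} [AddCommGroup ι] [DecidableEq ι]
variable {R : Type u} [CommRing R] {σ : Type u} [SetLike σ R] [AddSubgroupClass σ R]
variable (𝒜 : ι → σ) [GradedRing 𝒜]

/-- Transfer of bundled graded modules. -/
def gmTo (X : GrLC.GMod.{u} 𝒜) : GrLC.GMod.{u} (asGr 𝒜) :=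
  { carrier := X.carrier
    gr := X.gr
    dec := X.dec
    gsmul := asGr_gradedSMul 𝒜 X.gr }

/-- Transfer of bundled graded modules, back. -/
def gmOf (X : GrLC.GMod.{u} (asGr 𝒜)) : GrLC.GMod.{u} 𝒜 :=
  { carrier := X.carrier
    gr := X.gr
    dec := X.dec
    gsmul := gradedSMul_of_asGr 𝒜 X.gr X.gsmul }

variable {M : Type u} [AddCommGroup M] [Module R M] (ℳ : ι → AddSubgroup M)
  [DirectSum.Decomposition ℳ] [SetLike.GradedSMul 𝒜 ℳ]

theorem isStarInj_asGr (h : GrLC.IsStarInj 𝒜 ℳ) : GrLC.IsStarInj (asGr 𝒜) ℳ :=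
  fun A B f hf hinj g hg => h (gmOf 𝒜 A) (gmOf 𝒜 B) f hf hinj g hg

theorem isStarInj_of_asGr (h : GrLC.IsStarInj (asGr 𝒜) ℳ) : GrLC.IsStarInj 𝒜 ℳ :=
  fun A B f hf hinj g hg => h (gmTo 𝒜 A) (gmTo 𝒜 B) f hf hinj g hg

end Modules

end Groth.Agent.Lib.T2H3.GrTr
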