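import Groth.Agent.Lib.T2H3GrTransfer

/-! Transfer (continued): *injective resolutions, graded local cohomology, *injective hulls and
*canonical modules from a grading with pieces in an arbitrary `SetLike` type to the same grading
with pieces in `AddSubgroup R` (helper3). -/

set_option autoImplicit false
open DirectSum

noncomputable section

namespace Groth.Agent.Lib.T2H3.GrTr

universe u

variable {ι : Type} [AddCommGroup ι] [DecidableEq ι]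
variable {R : Type u} [CommRing R] {σ : Type u} [SetLike σ R] [AddSubgroupClass σ R]
variable (𝒜 : ι → σ) [GradedRing 𝒜]

section Res

variable {M : Type u} [AddCommGroup M] [Module R M] {τ : Type u} [SetLike τ M]
  [AddSubgroupClass τ M] (ℳ : ι → τ) [DirectSum.Decomposition ℳ] [SetLike.GradedSMul 𝒜 ℳ]

instance asGr_gradedSMul_asGr : SetLike.GradedSMul (asGr 𝒜) (asGr ℳ) where
  smul_mem := fun {_ _ _ _} ha hm => SetLike.GradedSMul.smul_mem (A := 𝒜) (B := ℳ) ha hm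

/-- Transfer of a *injective resolution. -/
def resTo (E : GrLC.StarInjRes 𝒜 ℳ) : GrLC.StarInjRes (asGr 𝒜) (asGr ℳ) where
  X n := gmTo 𝒜 (E.X n)
  d n := E.d n
  ε := E.ε
  d_grHom n := E.d_grHom n
  ε_grHom := fun g m hm => E.ε_grHom g m hm
  ε_injective := E.ε_injective
  exact_zero := E.exact_zero
  exact_succ := E.exact_succ
  starInj n := isStarInj_asGr 𝒜 (E.X n).gr (E.starInj n)

theorem resTo_H (E : GrLC.StarInjRes 𝒜 ℳ) (a : HomogeneousIdeal 𝒜) (i : ℕ) :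
    (resTo 𝒜 ℳ E).H (hiTo 𝒜 a) i = E.H a i := rfl

theorem mem_resTo_Hgr (E : GrLC.StarInjRes 𝒜 ℳ) (a : HomogeneousIdeal 𝒜) (i : ℕ) (g : ι)
    (x : E.H a i) : x ∈ (resTo 𝒜 ℳ E).Hgr (hiTo 𝒜 a) i g ↔ x ∈ E.Hgr a i g := Iff.rfl

theorem resTo_Hgr_eq_bot_iff (E : GrLC.StarInjRes 𝒜 ℳ) (a : HomogeneousIdeal 𝒜) (i : ℕ) (g : ι) :
    (resTo 𝒜 ℳ E).Hgr (hiTo 𝒜 a) i g = ⊥ ↔ E.Hgr a i g = ⊥ := by
  rw [AddSubgroup.eq_bot_iff_forall, AddSubgroup.eq_bot_iff_forall]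
  rfl

end Res

section Hull

variable {E' : Type u} [AddCommGroup E'] [Module R E'] (𝓔 : ι → AddSubgroup E')
  [DirectSum.Decomposition 𝓔] [SetLike.GradedSMul 𝒜 𝓔]

theorem isStarInjHull_asGr {m : HomogeneousIdeal 𝒜} (e : (R ⧸ m.toIdeal) →ₗ[R] E')
    (he : GrLC.IsStarInjHull 𝒜 (GrLC.quotGr 𝒜 m) 𝓔 e) :
    GrLC.IsStarInjHull (asGr 𝒜) (GrLC.quotGr (asGr 𝒜) (hiTo 𝒜 m)) 𝓔 e :=
  { injective := he.injective
    grHom := fun g x hx => he.grHom g x hx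
    essential := he.essential
    starInj := isStarInj_asGr 𝒜 𝓔 he.starInj }

variable {C : Type u} [AddCommGroup C] [Module R C] (𝒞 : ι → AddSubgroup C)
  [DirectSum.Decomposition 𝒞] [SetLike.GradedSMul 𝒜 𝒞]

theorem isStarCanonical_asGr {m : HomogeneousIdeal 𝒜} (n : ℕ) (I : GrLC.StarInjRes 𝒜 𝒜)
    (hC : GrLC.IsStarCanonical 𝒜 𝒞 𝓔 m n I) :
    GrLC.IsStarCanonical (asGr 𝒜) 𝒞 𝓔 (hiTo 𝒜 m) n (resTo 𝒜 𝒜 I) :=
  ⟨hC.1, hC.2.choose, fun d f hf => hC.2.choose_spec d f hf⟩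

end Hull

end Groth.Agent.Lib.T2H3.GrTr
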