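import Mathlib

/-!
# Units of the group algebra of a group with two unique sums over a domain are trivial
-/

set_option autoImplicit false
set_option linter.style.haveILetI false

namespace Groth.Agent.Lib.T2H3.GrpAlgUnits

open Finset

variable {A G : Type*} [CommRing A] [IsDomain A] [AddCommGroup G] [TwoUniqueSums G]

theorem exists_single_of_mul_eq_one (f g : AddMonoidAlgebra A G) (h : f * g = 1) :
    ∃ (e : G) (c : A), f = AddMonoidAlgebra.single e c := by
  classical
  have hf : f ≠ 0 := by
    rintro rfl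
    rw [zero_mul] at h
    exact zero_ne_one h
  have hg : g ≠ 0 := by
    rintro rfl
    rw [mul_zero] at h
    exact zero_ne_one h
  have hfs : f.coeff.support.Nonempty := by
    rw [Finsupp.support_nonempty_iff]
    simpa using hf
  have hgs : g.coeff.support.Nonempty := by
    rw [Finsupp.support_nonempty_iff]
    simpa using hg
  have hone : ∀ a : G, (1 : AddMonoidAlgebra A G).coeff a ≠ 0 → a = 0 := by
    intro a ha
    by_contra hne
    apply ha
    rw [AddMonoidAlgebra.one_def, AddMonoidAlgebra.coeff_single, Finsupp.single_apply, if_neg]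
    exact fun h0 => hne h0.symm
  have hcard : ¬ 1 < #f.coeff.support * #g.coeff.support := by
    intro hc
    obtain ⟨p1, h1, p2, h2, hne, hu1, hu2⟩ := TwoUniqueSums.uniqueAdd_of_one_lt_card hc
    rw [mem_product] at h1 h2
    have e1 := AddMonoidAlgebra.coeff_mul_add_of_uniqueAdd hu1
    have e2 := AddMonoidAlgebra.coeff_mul_add_of_uniqueAdd hu2
    rw [h] at e1 e2
    have z1 : p1.1 + p1.2 = 0 := hone _ (by
      rw [e1]
      exact mul_ne_zero (Finsupp.mem_support_iff.mp h1.1) (Finsupp.mem_support_iff.mp h1.2))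
    have z2 : p2.1 + p2.2 = 0 := hone _ (by
      rw [e2]
      exact mul_ne_zero (Finsupp.mem_support_iff.mp h2.1) (Finsupp.mem_support_iff.mp h2.2))
    have := hu1 h2.1 h2.2 (z2.trans z1.symm)
    exact hne (Prod.ext this.1 this.2).symm
  have hf1 : #f.coeff.support = 1 := by
    have h1 : 0 < #f.coeff.support := card_pos.mpr hfs
    have h2 : 0 < #g.coeff.support := card_pos.mpr hgs
    by_contra hne
    apply hcard
    have : 2 ≤ #f.coeff.support := by omega
    calc 1 < 2 * 1 := by norm_num
      _ ≤ #f.coeff.support * #g.coeff.support := Nat.mul_le_mul this h2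
  obtain ⟨e, he⟩ := card_eq_one.mp hf1
  refine ⟨e, f.coeff e, ?_⟩
  apply AddMonoidAlgebra.ext
  rw [AddMonoidAlgebra.coeff_single]
  have := (Finsupp.support_eq_singleton (f := f.coeff) (a := e)).mp he
  exact this.2

theorem exists_unit_single_of_isUnit (f : AddMonoidAlgebra A G) (hf : IsUnit f) :
    ∃ (c : Aˣ) (e : G), f = AddMonoidAlgebra.single e (c : A) := by
  obtain ⟨g, hfg⟩ := hf.exists_right_inv
  obtain ⟨e, c, rfl⟩ := exists_single_of_mul_eq_one f g hfg
  obtain ⟨e', c', rfl⟩ := exists_single_of_mul_eq_one g _ (by rw [mul_comm]; exact hfg)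
  rw [AddMonoidAlgebra.single_mul_single, AddMonoidAlgebra.one_def, AddMonoidAlgebra.single_inj]
    at hfg
  rcases hfg with ⟨-, hcc⟩ | ⟨-, h10⟩
  · exact ⟨⟨c, c', hcc, by rw [mul_comm]; exact hcc⟩, e, rfl⟩
  · exact absurd h10 one_ne_zero

theorem single_unit_inj {c c' : A} {e e' : G} (hc : c ≠ 0)
    (h : (AddMonoidAlgebra.single e c : AddMonoidAlgebra A G) = AddMonoidAlgebra.single e' c') :
    e = e' ∧ c = c' := by
  rw [AddMonoidAlgebra.single_inj] at h
  rcases h with h | ⟨h, -⟩
  · exact h
  · exact absurd h hc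

end Groth.Agent.Lib.T2H3.GrpAlgUnits
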