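import Mathlib
import Groth.Agent.Lib.Helper3GrpFlat
import Groth.Agent.Lib.Helper20SmoothDescSch
import Groth.Agent.Lib.Helper20BCDescSch
import Groth.Agent.Lib.T2H3EtaleAt
import Groth.Agent.Lib.Helper3FibSmSch
import Groth.Agent.Lib.Helper6LfpComp
import Groth.Agent.Lib.Helper20FiberSq

/-!
# Pointwise properties of homomorphisms of group schemes (generic homogeneity)

A pointwise property `Q` of stalk maps which is stable under base change and descends along a class
`W` of base changes is constant along the fibres of `G → S` for a homomorphism `u : G → H` of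
`S`-group schemes (when `H ×_S G → H` is in `W`).  Instances: formally smooth stalk maps (`W` = flat)
and formally unramified stalk maps (`W` = everything).
-/

set_option autoImplicit false
set_option linter.unusedVariables false
set_option linter.unusedSectionVars false
set_option linter.style.haveILetI false

open CategoryTheory CategoryTheory.Limits MonoidalCategory CartesianMonoidalCategory MonObj GrpObj
  AlgebraicGeometry TopologicalSpace Topology

universe u

namespace Groth.Agent.Lib.T2H3.GrpHomP

open Groth.Agent.Lib.Helper3.GrpHomQF Groth.Agent.Lib.Helper3.GrpFibDim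
  Groth.Agent.Lib.Helper20.FlatDesc Groth.Agent.Lib.Helper20.EtLocal

/-- a pointwise property of stalk maps, stable under base change and descending along base changes
in the class `W`. -/
structure PtProp (Q : ∀ {R S : Type u} [CommRing R] [CommRing S], (R →+* S) → Prop)
    (W : MorphismProperty Scheme.{u}) : Prop where
  respectsIso : RingHom.RespectsIso Q
  baseChange : ∀ {X Y X' Y' : Scheme.{u}} {p' : X' ⟶ X} {f' : X' ⟶ Y'} {f : X ⟶ Y} {p : Y' ⟶ Y}
    (hpb : IsPullback p' f' f p) [LocallyOfFinitePresentation f] (z : X'),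
    Q (f.stalkMap (p' z)).hom → Q (f'.stalkMap z).hom
  descent : ∀ {X Y X' Y' : Scheme.{u}} {p' : X' ⟶ X} {f' : X' ⟶ Y'} {f : X ⟶ Y} {p : Y' ⟶ Y}
    (hpb : IsPullback p' f' f p) [LocallyOfFinitePresentation f] (hp : W p) (z : X'),
    Q (f'.stalkMap z).hom → Q (f.stalkMap (p' z)).hom

section instances

/-- transfer of a descent statement from the chosen pullback to an arbitrary pullback square. -/
theorem descent_of_pullback {Q : ∀ {R S : Type u} [CommRing R] [CommRing S], (R →+* S) → Prop}
    (hQ : RingHom.RespectsIso Q) {X Y X' Y' : Scheme.{u}} {p' : X' ⟶ X} {f' : X' ⟶ Y'}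
    {f : X ⟶ Y} {p : Y' ⟶ Y} (hpb : IsPullback p' f' f p)
    (H : ∀ w : ↥(pullback f p), Q ((pullback.snd f p).stalkMap w).hom →
      Q (f.stalkMap (pullback.fst f p w)).hom)
    (z : X') (hz : Q (f'.stalkMap z).hom) : Q (f.stalkMap (p' z)).hom := by
  have e1 : hpb.isoPullback.hom ≫ pullback.fst f p = p' := hpb.isoPullback_hom_fst
  have e2 : hpb.isoPullback.hom ≫ pullback.snd f p = f' := hpb.isoPullback_hom_snd
  have h1 : Q ((hpb.isoPullback.hom ≫ pullback.snd f p).stalkMap z).hom :=
    (stalkMap_congr_iff (Q := Q) e2 z).mpr hz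
  have h2 := (stalkMap_comp_iff_left hQ hpb.isoPullback.hom (pullback.snd f p) z).mp h1
  have h3 := H _ h2
  have hp : pullback.fst f p (hpb.isoPullback.hom z) = p' z := by
    rw [← Scheme.Hom.comp_apply, e1]
  rw [hp] at h3
  exact h3

theorem ptProp_formallySmooth :
    PtProp (fun {R S} [CommRing R] [CommRing S] (φ : R →+* S) => φ.FormallySmooth) @Flat where
  respectsIso := RingHom.FormallySmooth.respectsIso
  baseChange := by
    intro X Y X' Y' p' f' f p hpb _ z hz
    obtain ⟨U, hxU, hU⟩ := exists_smooth_nbhd f (p' z) hz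
    let O : X'.Opens := p' ⁻¹ᵁ U
    have htop : IsPullback (p' ∣_ U) O.ι U.ι p' := isPullback_morphismRestrict p' U
    have hbig := htop.paste_vert hpb
    haveI : Smooth (O.ι ≫ f') := MorphismProperty.of_isPullback (P := @Smooth) hbig hU
    exact formallySmooth_stalkMap_of_nbhd f' z O hxU
  descent := by
    intro X Y X' Y' p' f' f p hpb _ hp z hz
    haveI : Flat p := hp
    exact descent_of_pullback RingHom.FormallySmooth.respectsIso hpb
      (fun w hw => formallySmooth_stalkMap_of_flat_baseChange f p w hw) z hz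

theorem ptProp_formallyUnramified :
    PtProp (fun {R S} [CommRing R] [CommRing S] (φ : R →+* S) => φ.FormallyUnramified) ⊤ where
  respectsIso := RingHom.FormallyUnramified.respectsIso
  baseChange := by
    intro X Y X' Y' p' f' f p hpb _ z hz
    obtain ⟨U, hxU, hU⟩ :=
      Groth.Agent.Lib.T2H3.EtaleAt.exists_open_formallyUnramified_of_stalkMap f (p' z) hz
    let O : X'.Opens := p' ⁻¹ᵁ U
    have htop : IsPullback (p' ∣_ U) O.ι U.ι p' := isPullback_morphismRestrict p' U
    have hbig := htop.paste_vert hpb
    haveI : FormallyUnramified (O.ι ≫ f') :=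
      MorphismProperty.of_isPullback (P := @FormallyUnramified) hbig hU
    exact formallyUnramified_stalkMap_of_nbhd f' z O hxU
  descent := by
    intro X Y X' Y' p' f' f p hpb _ hp z hz
    exact descent_of_pullback RingHom.FormallyUnramified.respectsIso hpb
      (fun w hw => formallyUnramified_stalkMap_of_baseChange f p w hw) z hz

end instances

section homogeneity

variable {Q : ∀ {R S : Type u} [CommRing R] [CommRing S], (R →+* S) → Prop}
  {W : MorphismProperty Scheme.{u}} (hQ : PtProp (fun {R S} [CommRing R] [CommRing S] => @Q R S _ _) W)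
  {S : Scheme.{u}} (G H : Over S) [GrpObj G] [GrpObj H] (u : G ⟶ H) [IsMonHom u]
  [LocallyOfFinitePresentation u.left]

include hQ in
/-- `Q` holds for `u` at `a · b` iff it holds at `a`. -/
theorem hom_mul (hW : W (fst H G).left) (z : ↥(G ⊗ G).left) :
    Q (u.left.stalkMap (μ[G].left z)).hom ↔ Q (u.left.stalkMap ((fst G G).left z)).hom := by
  have hpb := isPullback_whiskerRight G H u
  have hA : ∀ w : ↥(G ⊗ G).left, Q ((u ▷ G).left.stalkMap w).hom ↔
      Q (u.left.stalkMap ((fst G G).left w)).hom := fun w =>
    ⟨hQ.descent hpb hW w, hQ.baseChange hpb w⟩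
  have hc := congrArg (fun f => f.left) (shear_comm u)
  simp only [Over.comp_left] at hc
  haveI : IsIso (shearIso' G).hom.left := inferInstance
  haveI : IsIso (shearHom u).hom.left := inferInstance
  have e1 : Q ((u ▷ G).left.stalkMap ((shearIso' G).hom.left z)).hom ↔
      Q ((u ▷ G).left.stalkMap z).hom :=
    (stalkMap_comp_iff_left hQ.respectsIso (shearIso' G).hom.left (u ▷ G).left z).symm.trans
      ((stalkMap_congr_iff (Q := Q) hc z).trans
        (stalkMap_comp_iff_right hQ.respectsIso (u ▷ G).left (shearHom u).hom.left z))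
  rw [hA, hA] at e1
  have hpt : (fst G G).left ((shearIso' G).hom.left z) = μ[G].left z := by
    rw [← Scheme.Hom.comp_apply, ← Over.comp_left]
    congr 2
    simp [shearIso', fst_mul_snd]
  rw [hpt] at e1
  exact e1

include hQ in
theorem hom_iff_unitSec (hW : W (fst H G).left) (x : G.left) :
    Q (u.left.stalkMap x).hom ↔ Q (u.left.stalkMap (unitSec G (G.hom x))).hom := by
  have h := hom_mul hQ G H u hW ((lift (toUnit G ≫ η[G]) (𝟙 G)).left x)
  have hp1 : μ[G].left ((lift (toUnit G ≫ η[G]) (𝟙 G)).left x) = x := by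
    rw [← Scheme.Hom.comp_apply, ← Over.comp_left, lift_comp_one_left]
    rfl
  have hp2 : (fst G G).left ((lift (toUnit G ≫ η[G]) (𝟙 G)).left x) = unitSec G (G.hom x) := by
    rw [← Scheme.Hom.comp_apply, ← Over.comp_left, lift_fst, Over.comp_left,
      Scheme.Hom.comp_apply]
    rfl
  rw [hp1, hp2] at h
  exact h

include hQ in
theorem hom_iff_of_base_eq (hW : W (fst H G).left) (x₁ x₂ : G.left) (h : G.hom x₁ = G.hom x₂) :
    Q (u.left.stalkMap x₁).hom ↔ Q (u.left.stalkMap x₂).hom := by
  rw [hom_iff_unitSec hQ G H u hW x₁, hom_iff_unitSec hQ G H u hW x₂, h]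

include hQ in
/-- if `Q` holds for `u` at `x`, it holds for the fibre `u_s` (`s` the image of `x`) at all
points. -/
theorem forall_fibre_of_point (hW : W (fst H G).left) (x : G.left)
    (hx : Q (u.left.stalkMap x).hom)
    (z : ↥(pullback G.hom (S.fromSpecResidueField (G.hom x)))) :
    Q (((Over.pullback (S.fromSpecResidueField (G.hom x))).map u).left.stalkMap z).hom := by
  have hpb := isPullback_overPullback_map G H u (S.fromSpecResidueField (G.hom x))
  refine hQ.baseChange hpb z ?_
  have hs : G.hom (pullback.fst G.hom (S.fromSpecResidueField (G.hom x)) z) = G.hom x := by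
    rw [← Scheme.Hom.comp_apply, pullback.condition, Scheme.Hom.comp_apply]
    exact Scheme.fromSpecResidueField_apply _ _
  exact (hom_iff_of_base_eq hQ G H u hW _ _ hs).mpr hx

omit [GrpObj G] [GrpObj H] [IsMonHom u] [LocallyOfFinitePresentation u.left] in
/-- a point of the fibre over `x`. -/
theorem exists_fibre_point (x : G.left) :
    ∃ z : ↥(pullback G.hom (S.fromSpecResidueField (G.hom x))),
      pullback.fst G.hom (S.fromSpecResidueField (G.hom x)) z = x := by
  let pt : Spec (S.residueField (G.hom x)) := IsLocalRing.closedPoint (S.residueField (G.hom x))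
  have hpt : S.fromSpecResidueField (G.hom x) pt = G.hom x := Scheme.fromSpecResidueField_apply _ _
  obtain ⟨z, hz1, -⟩ := Scheme.Pullback.exists_preimage_pullback (f := G.hom)
    (g := S.fromSpecResidueField (G.hom x)) x pt (by rw [hpt])
  exact ⟨z, hz1⟩

end homogeneity

section loci

variable {S : Scheme.{u}} (G H : Over S) [GrpObj G] [GrpObj H] (u : G ⟶ H) [IsMonHom u]

omit [GrpObj H] [IsMonHom u] in
/-- assembling the two assertions from the pointwise equivalence. -/
theorem assemble (P : MorphismProperty Scheme.{u})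
    (hb : ∀ x : G.left, (∃ W : G.left.Opens, x ∈ W ∧ P (W.ι ≫ u.left)) ↔
      P ((Over.pullback (S.fromSpecResidueField (G.hom x))).map u).left) :
    IsOpen {s : S | P ((Over.pullback (S.fromSpecResidueField s)).map u).left} ∧
    {x : G.left | ∃ W : G.left.Opens, x ∈ W ∧ P (W.ι ≫ u.left)} =
      G.hom.base ⁻¹' {s : S | P ((Over.pullback (S.fromSpecResidueField s)).map u).left} := by
  refine ⟨?_, ?_⟩
  · have hO : IsOpen {x : G.left | ∃ W : G.left.Opens, x ∈ W ∧ P (W.ι ≫ u.left)} := by
      rw [isOpen_iff_forall_mem_open]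
      rintro x ⟨W, hxW, hW⟩
      exact ⟨W, fun y hy => ⟨W, hy, hW⟩, W.2, hxW⟩
    have hc : Continuous (unitSec G) := (unitSec G).continuous
    convert hO.preimage hc using 1
    ext s
    simp only [Set.mem_setOf_eq, Set.mem_preimage]
    rw [hb, hom_unitSec' G]
  · ext x
    simp only [Set.mem_setOf_eq, Set.mem_preimage]
    exact hb x

/-- `u` is unramified near `x` iff the fibre `u_s` is unramified. -/
theorem unram_iff [LocallyOfFinitePresentation u.left] (x : G.left) :
    (∃ W : G.left.Opens, x ∈ W ∧ FormallyUnramified (W.ι ≫ u.left)) ↔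
      FormallyUnramified ((Over.pullback (S.fromSpecResidueField (G.hom x))).map u).left := by
  have hpb := isPullback_overPullback_map G H u (S.fromSpecResidueField (G.hom x))
  haveI : LocallyOfFinitePresentation
      ((Over.pullback (S.fromSpecResidueField (G.hom x))).map u).left :=
    MorphismProperty.of_isPullback (P := @LocallyOfFinitePresentation) hpb inferInstance
  constructor
  · rintro ⟨W, hxW, hW⟩
    haveI := hW
    have hx := formallyUnramified_stalkMap_of_nbhd u.left x W hxW
    have hall := forall_fibre_of_point ptProp_formallyUnramified G H u trivial x hx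
    exact of_forall_exists_nbhd _ (fun z =>
      Groth.Agent.Lib.T2H3.EtaleAt.exists_open_formallyUnramified_of_stalkMap _ z (hall z))
  · intro hfu
    obtain ⟨z, hz⟩ := exists_fibre_point G x
    have := ptProp_formallyUnramified.descent hpb trivial z (FormallyUnramified.stalkMap _ z)
    rw [hz] at this
    exact Groth.Agent.Lib.T2H3.EtaleAt.exists_open_formallyUnramified_of_stalkMap u.left x this

end loci

section smooth

variable {S : Scheme.{u}} (G H : Over S) [GrpObj G] [GrpObj H] (u : G ⟶ H) [IsMonHom u]
  [Flat G.hom] [LocallyOfFinitePresentation G.hom] [LocallyOfFiniteType H.hom]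

omit [GrpObj G] [GrpObj H] [IsMonHom u] [Flat G.hom] in
theorem lfp_hom : LocallyOfFinitePresentation u.left :=
  Groth.Agent.Lib.Helper6.locallyOfFinitePresentation_of_comp (g := H.hom) inferInstance
    (by rw [Over.w u]; infer_instance)

set_option maxHeartbeats 1600000 in
/-- `u` is smooth near `x` iff the fibre `u_s` is smooth (`G` flat and locally of finite
presentation over `S`, `H` locally of finite type). -/
theorem smooth_iff (x : G.left) :
    (∃ W : G.left.Opens, x ∈ W ∧ Smooth (W.ι ≫ u.left)) ↔
      Smooth ((Over.pullback (S.fromSpecResidueField (G.hom x))).map u).left := by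
  haveI := lfp_hom G H u
  have hpb := isPullback_overPullback_map G H u (S.fromSpecResidueField (G.hom x))
  haveI : LocallyOfFinitePresentation
      ((Over.pullback (S.fromSpecResidueField (G.hom x))).map u).left :=
    MorphismProperty.of_isPullback (P := @LocallyOfFinitePresentation) hpb inferInstance
  constructor
  · rintro ⟨W, hxW, hW⟩
    haveI := hW
    have hx := formallySmooth_stalkMap_of_nbhd u.left x W hxW
    haveI : Flat (fst H G).left := inferInstanceAs (Flat (pullback.fst H.hom G.hom))
    have hall := forall_fibre_of_point ptProp_formallySmooth G H u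
      (inferInstance : Flat (fst H G).left) x hx
    rw [← Scheme.Hom.smoothLocus_eq_top_iff, eq_top_iff]
    intro z _
    exact hall z
  · intro hsm
    have hw : u.left ≫ H.hom = G.hom := Over.w u
    haveI : LocallyOfFinitePresentation (u.left ≫ H.hom) := by rw [hw]; infer_instance
    haveI : Flat (u.left ≫ H.hom) := by rw [hw]; infer_instance
    have hxs : (u.left ≫ H.hom) x = G.hom x := by rw [hw]
    have sqA := isPullback_fiberMapOver u.left H.hom (G.hom x)
    have he : (sqA.isoIsPullback _ _ hpb).hom ≫
        ((Over.pullback (S.fromSpecResidueField (G.hom x))).map u).left =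
          CohIII.fiberMapOver u.left (u.left ≫ H.hom) H.hom rfl (G.hom x) :=
      IsPullback.isoIsPullback_hom_snd _ _ sqA hpb
    haveI : Smooth (CohIII.fiberMapOver u.left (u.left ≫ H.hom) H.hom rfl (G.hom x)) := by
      rw [← he]
      exact (MorphismProperty.cancel_left_of_respectsIso @Smooth _ _).mpr hsm
    have hfib : Smooth ((((u.left ≫ H.hom).fiberι (G.hom x)) ⁻¹ᵁ (⊤ : G.left.Opens)).ι ≫
        CohIII.fiberMapOver u.left (u.left ≫ H.hom) H.hom rfl (G.hom x)) := inferInstance
    have := Groth.Agent.Lib.Helper3.FibSmSch.formallySmooth_stalkMap_of_flat_of_fibre u.left H.hom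
      x (G.hom x) hxs (Flat.stalkMap (u.left ≫ H.hom) x) ⊤ trivial hfib
    exact exists_smooth_nbhd u.left x this

end smooth

section etale

variable {S : Scheme.{u}} (G H : Over S) [GrpObj G] [GrpObj H] (u : G ⟶ H) [IsMonHom u]
  [Flat G.hom] [LocallyOfFinitePresentation G.hom] [LocallyOfFiniteType H.hom]

theorem etale_iff_smooth_and_formallyUnramified {X Y : Scheme.{u}} (f : X ⟶ Y) :
    Etale f ↔ Smooth f ∧ FormallyUnramified f := by
  constructor
  · intro h
    exact ⟨inferInstance, inferInstance⟩
  · rintro ⟨h1, h2⟩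
    rw [Etale.iff_flat_and_formallyUnramified]
    exact ⟨inferInstance, h2, inferInstance⟩

/-- `u` is étale near `x` iff the fibre `u_s` is étale. -/
theorem etale_iff (x : G.left) :
    (∃ W : G.left.Opens, x ∈ W ∧ Etale (W.ι ≫ u.left)) ↔
      Etale ((Over.pullback (S.fromSpecResidueField (G.hom x))).map u).left := by
  haveI := lfp_hom G H u
  rw [etale_iff_smooth_and_formallyUnramified, ← smooth_iff G H u x, ← unram_iff G H u x]
  constructor
  · rintro ⟨W, hxW, hW⟩
    rw [etale_iff_smooth_and_formallyUnramified] at hW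
    exact ⟨⟨W, hxW, hW.1⟩, ⟨W, hxW, hW.2⟩⟩
  · rintro ⟨⟨W₁, hx₁, h₁⟩, ⟨W₂, hx₂, h₂⟩⟩
    refine ⟨W₁ ⊓ W₂, ⟨hx₁, hx₂⟩, ?_⟩
    rw [etale_iff_smooth_and_formallyUnramified]
    have e1 : (W₁ ⊓ W₂).ι = G.left.homOfLE (inf_le_left : W₁ ⊓ W₂ ≤ W₁) ≫ W₁.ι :=
      (Scheme.homOfLE_ι _ _).symm
    have e2 : (W₁ ⊓ W₂).ι = G.left.homOfLE (inf_le_right : W₁ ⊓ W₂ ≤ W₂) ≫ W₂.ι :=
      (Scheme.homOfLE_ι _ _).symm
    refine ⟨?_, ?_⟩
    · rw [e1, Category.assoc]
      haveI := h₁
      infer_instance
    · rw [e2, Category.assoc]
      haveI : FormallyUnramified (G.left.homOfLE (inf_le_right : W₁ ⊓ W₂ ≤ W₂)) :=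
        inferInstance
      exact MorphismProperty.comp_mem _ _ _ inferInstance h₂

end etale

end Groth.Agent.Lib.T2H3.GrpHomP
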