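import Groth.Agent.Lib.T2H3SerreF

/-! Existence of the Hilbert polynomial of a finitely generated graded module over a standard
graded Noetherian ring with Artinian degree-zero part (helper3). -/

set_option autoImplicit false
set_option linter.unusedSectionVars false
set_option linter.style.haveILetI false
open DirectSum Polynomial

noncomputable section

namespace Groth.Agent.Lib.T2H3.Serre

open GrLC Groth.Agent.Lib.T2H3.GrLes Groth.Agent.Lib.T2H5.EulerAlg
  Groth.Agent.Lib.T2H3.GrIrr Groth.Agent.Lib.T2H3.GrArt Groth.Agent.Lib.Helper29GrShift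
  Groth.Agent.Lib.Helper29GrQuot Groth.Agent.Lib.Helper29GrSub Groth.Agent.Lib.Helper29GrHom

universe u

/-- A function on the integers whose backward difference is eventually polynomial is eventually
polynomial. -/
theorem evPoly_of_diff (f : ℤ → ℚ) (Q : ℚ[X]) (N : ℤ)
    (h : ∀ n : ℤ, N ≤ n → f n - f (n - 1) = Q.eval (n : ℚ)) :
    ∃ P : ℚ[X], ∀ n : ℤ, N ≤ n → f n = P.eval (n : ℚ) := by
  obtain ⟨P₀, hP₀⟩ := exists_antidifference (Q.comp (X + 1))
  have hstep : ∀ n : ℤ, N ≤ n → f n - P₀.eval (n : ℚ) = f (n - 1) - P₀.eval ((n - 1 : ℤ) : ℚ) := by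
    intro n hn
    have h1 := h n hn
    have h2 := hP₀ ((n - 1 : ℤ) : ℚ)
    rw [eval_comp, eval_add, eval_X, eval_one] at h2
    have h3 : (1 : ℚ) + ((n - 1 : ℤ) : ℚ) = (n : ℚ) := by push_cast; ring
    have h4 : ((n - 1 : ℤ) : ℚ) + 1 = (n : ℚ) := by push_cast; ring
    rw [h3, h4] at h2
    linarith
  have hconst : ∀ k : ℕ, f (N + k) - P₀.eval ((N + k : ℤ) : ℚ) =
      f (N - 1) - P₀.eval ((N - 1 : ℤ) : ℚ) := by
    intro k
    induction k with
    | zero =>
      have := hstep N le_rfl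
      simpa using this
    | succ k ih =>
      have := hstep (N + (k + 1 : ℕ)) (by omega)
      have h5 : N + ((k + 1 : ℕ) : ℤ) - 1 = N + k := by push_cast; ring
      rw [h5] at this
      rw [this, ih]
  refine ⟨P₀ + C (f (N - 1) - P₀.eval ((N - 1 : ℤ) : ℚ)), fun n hn => ?_⟩
  obtain ⟨k, rfl⟩ : ∃ k : ℕ, n = N + k := ⟨(n - N).toNat, by omega⟩
  rw [eval_add, eval_C]
  have := hconst k
  linarith

variable {R : Type u} [CommRing R] [IsNoetherianRing R] {𝒜 : ℤ → AddSubgroup R} [GradedRing 𝒜]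

section KerCoker

variable (X : GMod.{u} 𝒜) {x : R} {e : ℤ} (hx : x ∈ 𝒜 e)

include hx in
theorem ker_lsmul_isHomogeneous :
    (LinearMap.ker (LinearMap.lsmul R X.carrier x)).IsHomogeneous X.gr := by
  intro j y hy
  rw [LinearMap.mem_ker] at hy ⊢
  change x • y = 0 at hy
  change x • ((decompose X.gr y) j : X.carrier) = 0
  have h1 := Groth.Agent.Lib.Helper29GrEss.decompose_smul_of_mem 𝒜 X.gr hx y (j + e)
  rw [hy, DirectSum.decompose_zero, add_sub_cancel_right] at h1
  exact h1.symm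

/-- The kernel of multiplication by `x`. -/
def kerG : GMod.{u} 𝒜 :=
  subG 𝒜 X.gr (LinearMap.ker (LinearMap.lsmul R X.carrier x)) (ker_lsmul_isHomogeneous X hx)

/-- The quotient by the kernel of multiplication by `x`. -/
def coimG : GMod.{u} 𝒜 :=
  quotG 𝒜 X.gr (LinearMap.ker (LinearMap.lsmul R X.carrier x)) (ker_lsmul_isHomogeneous X hx)

/-- The cokernel of multiplication by `x`. -/
def cokerG : GMod.{u} 𝒜 :=
  quotG 𝒜 X.gr (LinearMap.range (LinearMap.lsmul R X.carrier x)) (range_lsmul_isHomogeneous hx)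

/-- The injection `X / ker x → X` induced by `x`. -/
def coimMap : (coimG X hx).carrier →ₗ[R] X.carrier :=
  (LinearMap.ker (LinearMap.lsmul R X.carrier x)).liftQ (LinearMap.lsmul R X.carrier x) le_rfl

theorem coimMap_mk (y : X.carrier) :
    coimMap X hx ((LinearMap.ker (LinearMap.lsmul R X.carrier x)).mkQ y) = x • y := rfl

/-- The projection `X → X / xX`. -/
def cokerMk : X.carrier →ₗ[R] (cokerG X hx).carrier :=
  (LinearMap.range (LinearMap.lsmul R X.carrier x)).mkQ

theorem grSES_coim_coker :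
    GrSES (shiftGr (coimG X hx).gr (-e)) X.gr (cokerG X hx).gr (coimMap X hx) (cokerMk X hx) where
  f_gr := by
    rintro k _ ⟨a, ha, rfl⟩
    exact smul_mem_of_shift hx ha
  g_gr := fun _ y hy => ⟨y, hy, rfl⟩
  f_inj := by
    rw [← LinearMap.ker_eq_bot]
    exact Submodule.ker_liftQ_eq_bot _ _ _ le_rfl
  g_surj := Submodule.mkQ_surjective _
  exact := by
    change LinearMap.ker (LinearMap.range (LinearMap.lsmul R X.carrier x)).mkQ =
      LinearMap.range ((LinearMap.ker (LinearMap.lsmul R X.carrier x)).liftQ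
        (LinearMap.lsmul R X.carrier x) le_rfl)
    rw [Submodule.ker_mkQ, Submodule.range_liftQ]

instance finite_kerG [Module.Finite R X.carrier] : Module.Finite R (kerG X hx).carrier :=
  finite_subG 𝒜 X.gr _ _

instance finite_coimG [Module.Finite R X.carrier] : Module.Finite R (coimG X hx).carrier :=
  finite_quotG 𝒜 X.gr _ _

instance finite_cokerG [Module.Finite R X.carrier] : Module.Finite R (cokerG X hx).carrier :=
  finite_quotG 𝒜 X.gr _ _

variable [IsArtinianRing (deg0 𝒜)]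

/-- The difference of the Hilbert function in terms of kernel and cokernel of `x`. -/
theorem hZ_diff [Module.Finite R X.carrier] (n : ℤ) :
    hZ 𝒜 X.gr n - hZ 𝒜 X.gr (n + -e) =
      hZ 𝒜 (cokerG X hx).gr n - hZ 𝒜 (kerG X hx).gr (n + -e) := by
  have S1 := grSES_sub_quot 𝒜 X.gr (LinearMap.ker (LinearMap.lsmul R X.carrier x))
    (ker_lsmul_isHomogeneous X hx)
  have h1 : hZ 𝒜 X.gr (n + -e) = hZ 𝒜 (kerG X hx).gr (n + -e) + hZ 𝒜 (coimG X hx).gr (n + -e) :=
    hZ_ses S1 (n + -e) (isFiniteLength_comp (n + -e))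
  have h2 : hZ 𝒜 X.gr n = hZ 𝒜 (shiftGr (coimG X hx).gr (-e)) n + hZ 𝒜 (cokerG X hx).gr n :=
    hZ_ses (grSES_coim_coker X hx) n (isFiniteLength_comp n)
  rw [hZ_shift] at h2
  omega

end KerCoker

end Groth.Agent.Lib.T2H3.Serre
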