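import Groth.Agent.Lib.T2H3HilbA

/-! Existence of the Hilbert polynomial (helper3): Noetherian induction on the annihilator. -/

set_option autoImplicit false
set_option linter.unusedSectionVars false
set_option linter.style.haveILetI false
open DirectSum Polynomial

noncomputable section

namespace Groth.Agent.Lib.T2H3.Serre

open GrLC Groth.Agent.Lib.T2H3.GrLes Groth.Agent.Lib.T2H5.EulerAlg
  Groth.Agent.Lib.T2H3.GrIrr Groth.Agent.Lib.T2H3.GrArt Groth.Agent.Lib.Helper29GrShift
  Groth.Agent.Lib.Helper29GrQuot Groth.Agent.Lib.Helper29GrSub Groth.Agent.Lib.Helper29GrHom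

universe u

variable {R : Type u} [CommRing R] [IsNoetherianRing R] {𝒜 : ℤ → AddSubgroup R} [GradedRing 𝒜]
variable (hpos : ∀ n : ℤ, n < 0 → 𝒜 n = ⊥) [IsArtinianRing (deg0 𝒜)]
  (hstd : Ideal.span (⋃ n ∈ Set.Ioi (0 : ℤ), (𝒜 n : Set R)) =
    Ideal.span ((𝒜 1 : AddSubgroup R) : Set R))

theorem annihilator_le_subG (X : GMod.{u} 𝒜) (P : Submodule R X.carrier)
    (hP : P.IsHomogeneous X.gr) :
    Module.annihilator R X.carrier ≤ Module.annihilator R (subG 𝒜 X.gr P hP).carrier := by
  intro r hr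
  rw [Module.mem_annihilator] at hr ⊢
  rintro ⟨y, hy⟩
  exact Subtype.ext (hr y)

include hstd in
/-- A module killed by `R_1` vanishes in high degrees. -/
theorem exists_hZ_eq_zero_of_piece_one_le (X : GMod.{u} 𝒜) [Module.Finite R X.carrier]
    (h : ∀ r ∈ 𝒜 1, r ∈ Module.annihilator R X.carrier) :
    ∃ N : ℤ, ∀ n : ℤ, N ≤ n → hZ 𝒜 X.gr n = 0 := by
  have hirr : irr 𝒜 ≤ Module.annihilator R X.carrier := by
    change Ideal.span _ ≤ _
    rw [hstd, Ideal.span_le]
    exact fun r hr => h r hr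
  have htop : gam (irrH 𝒜).toIdeal X.carrier = ⊤ := by
    rw [eq_top_iff]
    intro y _
    refine ⟨1, fun r hr => ?_⟩
    rw [pow_one] at hr
    exact Module.mem_annihilator.mp (hirr hr) y
  obtain ⟨N, hN⟩ := exists_bound_gam 𝒜 X.gr (irrH 𝒜)
    (fun n hn r hr => mem_irr_of_mem 𝒜 hn hr)
  refine ⟨N, fun n hn => ?_⟩
  haveI : Subsingleton ↥(comp 𝒜 X.gr n) := by
    refine ⟨fun y z => Subtype.ext ?_⟩
    rw [hN n hn y y.2 (htop ▸ Submodule.mem_top), hN n hn z z.2 (htop ▸ Submodule.mem_top)]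
  exact lenZ_of_subsingleton _

include hstd in
theorem exists_hilbPoly_aux (J : Ideal R) : ∀ (X : GMod.{u} 𝒜) [Module.Finite R X.carrier],
    J ≤ Module.annihilator R X.carrier → ∃ P : ℚ[X], EvHilb 𝒜 X.gr P := by
  induction J using WellFoundedGT.induction with
  | ind J IH =>
    intro X _ hJ
    by_cases hall : ∀ r ∈ 𝒜 1, r ∈ J
    · obtain ⟨N, hN⟩ := exists_hZ_eq_zero_of_piece_one_le hstd X (fun r hr => hJ (hall r hr))
      exact ⟨0, N, fun n hn => by rw [hN n hn, eval_zero, Int.cast_zero]⟩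
    · push Not at hall
      obtain ⟨x, hx1, hxJ⟩ := hall
      have hlt : J < J ⊔ Ideal.span {x} := by
        refine lt_of_le_of_ne le_sup_left fun h => hxJ ?_
        rw [h]
        exact Ideal.mem_sup_right (Ideal.subset_span rfl)
      have hK : J ⊔ Ideal.span {x} ≤ Module.annihilator R (kerG X hx1).carrier := by
        refine sup_le (hJ.trans (annihilator_le_subG X _ _)) ?_
        rw [Ideal.span_le]
        intro r hr
        rw [Set.mem_singleton_iff] at hr
        subst hr
        rw [SetLike.mem_coe, Module.mem_annihilator]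
        rintro ⟨y, hy⟩
        exact Subtype.ext hy
      have hC : J ⊔ Ideal.span {x} ≤ Module.annihilator R (cokerG X hx1).carrier := by
        refine sup_le (hJ.trans (annihilator_le_quotG X _ _)) ?_
        rw [Ideal.span_le]
        intro r hr
        rw [Set.mem_singleton_iff] at hr
        subst hr
        rw [SetLike.mem_coe, Module.mem_annihilator]
        intro y
        obtain ⟨z, rfl⟩ := Submodule.mkQ_surjective
          (LinearMap.range (LinearMap.lsmul R X.carrier r)) y
        change r • (LinearMap.range (LinearMap.lsmul R X.carrier r)).mkQ z = 0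
        rw [← map_smul]
        exact (Submodule.Quotient.mk_eq_zero _).mpr ⟨z, rfl⟩
      obtain ⟨PK, NK, hNK⟩ := IH _ hlt (kerG X hx1) hK
      obtain ⟨PC, NC, hNC⟩ := IH _ hlt (cokerG X hx1) hC
      obtain ⟨P, hP⟩ := evPoly_of_diff (fun n => (hZ 𝒜 X.gr n : ℚ))
        (PC - PK.comp (Polynomial.X - C 1)) (max NC (NK + 1)) (by
          intro n hn
          have h1 := hZ_diff X hx1 n
          have h2 := hNC n (le_trans (le_max_left _ _) hn)
          have h3 := hNK (n + -1) (by have := le_trans (le_max_right _ _) hn; omega)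
          rw [eval_sub, eval_comp, eval_sub, eval_X, eval_C, h2]
          have h4 : ((n + -1 : ℤ) : ℚ) = (n : ℚ) - 1 := by push_cast; ring
          rw [h4] at h3
          rw [h3]
          have h5 : n - 1 = n + -1 := by ring
          rw [h5]
          have h6 : ((hZ 𝒜 X.gr n - hZ 𝒜 X.gr (n + -1) : ℤ) : ℚ) =
              ((hZ 𝒜 (cokerG X hx1).gr n - hZ 𝒜 (kerG X hx1).gr (n + -1) : ℤ) : ℚ) := by
            rw [h1]
          push_cast at h6
          exact h6)
      exact ⟨P, max NC (NK + 1), fun n hn => (hP n hn).symm⟩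

variable {M : Type u} [AddCommGroup M] [Module R M] [Module.Finite R M] {ℳ : ℤ → AddSubgroup M}
  [DirectSum.Decomposition ℳ] [SetLike.GradedSMul 𝒜 ℳ]

include hstd in
/-- Existence of the Hilbert polynomial. -/
theorem exists_hilbPoly (ℳ : ℤ → AddSubgroup M) [DirectSum.Decomposition ℳ]
    [SetLike.GradedSMul 𝒜 ℳ] : ∃ P : ℚ[X], EvHilb 𝒜 ℳ P := by
  haveI : Module.Finite R (GMod.of 𝒜 M ℳ).carrier := ‹Module.Finite R M›
  exact exists_hilbPoly_aux hstd ⊥ (GMod.of 𝒜 M ℳ) bot_le

end Groth.Agent.Lib.T2H3.Serre
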