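import Groth.Agent.Lib.T2H3HilbB
import Groth.Agent.Lib.Helper29GrStd

/-! The degree of the Hilbert polynomial is less than the dimension (helper3): dévissage by
torsion and homogeneous regular elements. -/

set_option autoImplicit false
set_option linter.unusedSectionVars false
set_option linter.style.haveILetI false
open DirectSum Polynomial

noncomputable section

namespace Groth.Agent.Lib.T2H3.Serre

open GrLC Groth.Agent.Lib.T2H3.GrLes Groth.Agent.Lib.T2H5.EulerAlg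
  Groth.Agent.Lib.T2H3.GrIrr Groth.Agent.Lib.T2H3.GrArt Groth.Agent.Lib.Helper29GrShift
  Groth.Agent.Lib.Helper29GrQuot Groth.Agent.Lib.Helper29GrSub Groth.Agent.Lib.Helper29GrHom
  Groth.Agent.Lib.Helper29GrGam

universe u

section Poly

theorem degree_lt_succ_of_degree_diff_lt (P : ℚ[X]) (e : ℚ) (he : e ≠ 0) (k : ℕ)
    (h : (P - P.comp (X - C e)).degree < (k : WithBot ℕ)) :
    P.degree < ((k + 1 : ℕ) : WithBot ℕ) := by
  by_cases hP : P = 0
  · rw [hP, degree_zero]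
    exact WithBot.bot_lt_coe _
  by_contra hcon
  rw [not_lt, degree_eq_natDegree hP] at hcon
  have hn : k + 1 ≤ P.natDegree := by exact_mod_cast hcon
  obtain ⟨n, hn'⟩ : ∃ n, P.natDegree = n + 1 := ⟨P.natDegree - 1, by omega⟩
  have hcomp : P.comp (X - C e) = taylor (-e) P := by
    rw [taylor_apply, C_neg, sub_eq_add_neg]
  have hdeg : (hasseDeriv n P).natDegree < 2 := by
    have := natDegree_hasseDeriv_le P n
    omega
  have hcoeff : (P - P.comp (X - C e)).coeff n = ((n + 1 : ℕ) : ℚ) * P.leadingCoeff * e := by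
    rw [coeff_sub, hcomp, taylor_coeff, eval_eq_sum_range' hdeg, Finset.sum_range_succ,
      Finset.sum_range_one, hasseDeriv_coeff, hasseDeriv_coeff]
    simp only [zero_add, pow_zero, mul_one, pow_one, Nat.choose_self, Nat.cast_one, one_mul]
    rw [Nat.add_comm 1 n, Nat.choose_succ_self_right, leadingCoeff, hn']
    ring
  have hne : (P - P.comp (X - C e)).coeff n ≠ 0 := by
    rw [hcoeff]
    refine mul_ne_zero (mul_ne_zero ?_ (leadingCoeff_ne_zero.mpr hP)) he
    exact_mod_cast Nat.succ_ne_zero n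
  have hle := le_degree_of_ne_zero hne
  have : ((n : ℕ) : WithBot ℕ) < (k : WithBot ℕ) := lt_of_le_of_lt hle h
  have : n < k := by exact_mod_cast this
  omega

theorem eq_zero_of_eventually_eval_eq_zero (P : ℚ[X])
    (h : ∃ N : ℤ, ∀ n : ℤ, N ≤ n → P.eval (n : ℚ) = 0) : P = 0 := by
  have h1 := (IsPolyFun.zero).eq_of_eventually_eq P (by
    obtain ⟨N, hN⟩ := h
    exact ⟨N, fun n hn => (hN n hn).symm⟩)
  apply Polynomial.eq_zero_of_infinite_isRoot
  have hsub : Set.range (fun k : ℕ => ((k : ℤ) : ℚ)) ⊆ {x | IsRoot P x} := by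
    rintro _ ⟨k, rfl⟩
    exact (h1 k).symm
  refine Set.Infinite.mono hsub (Set.infinite_range_of_injective ?_)
  intro a b hab
  have h2 : ((a : ℤ) : ℚ) = ((b : ℤ) : ℚ) := hab
  exact_mod_cast h2

end Poly

section Dim

theorem ringKrullDim_quot_le_of_le {R : Type*} [CommRing R] {I₁ I₂ : Ideal R} (h : I₁ ≤ I₂) :
    ringKrullDim (R ⧸ I₂) ≤ ringKrullDim (R ⧸ I₁) :=
  ringKrullDim_le_of_surjective (Ideal.Quotient.factor h) (Ideal.Quotient.factor_surjective h)

theorem ringKrullDim_quot_sup_span_add_one_le {R : Type*} [CommRing R] (I : Ideal R) (x : R)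
    (hx : ∀ r, r * x ∈ I → r ∈ I) :
    ringKrullDim (R ⧸ (I ⊔ Ideal.span {x})) + 1 ≤ ringKrullDim (R ⧸ I) := by
  have hnzd : Ideal.Quotient.mk I x ∈ nonZeroDivisors (R ⧸ I) := by
    rw [mem_nonZeroDivisors_iff_right]
    intro y hy
    obtain ⟨r, rfl⟩ := Ideal.Quotient.mk_surjective y
    rw [← map_mul, Ideal.Quotient.eq_zero_iff_mem] at hy
    rw [Ideal.Quotient.eq_zero_iff_mem]
    exact hx r hy
  have h1 := ringKrullDim_quotient_succ_le_of_nonZeroDivisor hnzd
  have hmap : (Ideal.span {x}).map (Ideal.Quotient.mk I) =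
      Ideal.span {Ideal.Quotient.mk I x} := by
    rw [Ideal.map_span, Set.image_singleton]
  have e := DoubleQuot.quotQuotEquivQuotSup I (Ideal.span {x})
  rw [hmap] at e
  rw [← ringKrullDim_eq_of_ringEquiv e]
  exact h1

end Dim

variable {R : Type u} [CommRing R] [IsNoetherianRing R] {𝒜 : ℤ → AddSubgroup R} [GradedRing 𝒜]
variable (hpos : ∀ n : ℤ, n < 0 → 𝒜 n = ⊥) [IsArtinianRing (deg0 𝒜)]
  {m : HomogeneousIdeal 𝒜} (hm : IsStarLocal 𝒜 m)
  (hstd : Ideal.span (⋃ n ∈ Set.Ioi (0 : ℤ), (𝒜 n : Set R)) =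
    Ideal.span ((𝒜 1 : AddSubgroup R) : Set R))

include hpos hm in
theorem evHilb_quot_gam (X : GMod.{u} 𝒜) [Module.Finite R X.carrier] (P : ℚ[X])
    (hP : EvHilb 𝒜 X.gr P) :
    EvHilb 𝒜 (quotG 𝒜 X.gr (gam m.toIdeal X.carrier) (gam_isHomogeneous 𝒜 X.gr m)).gr P := by
  obtain ⟨N, hN⟩ := hP
  have hNg := gam_isHomogeneous 𝒜 X.gr m
  have S := grSES_sub_quot 𝒜 X.gr (gam m.toIdeal X.carrier) hNg
  have htors : gam m.toIdeal (subG 𝒜 X.gr (gam m.toIdeal X.carrier) hNg).carrier = ⊤ := by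
    rw [eq_top_iff]
    rintro ⟨y, k, hk⟩ -
    exact ⟨k, fun r hr => Subtype.ext (hk r hr)⟩
  have hZs : ∀ k, hZ 𝒜 X.gr k = hZ 𝒜 (subG 𝒜 X.gr (gam m.toIdeal X.carrier) hNg).gr k +
      hZ 𝒜 (quotG 𝒜 X.gr (gam m.toIdeal X.carrier) hNg).gr k :=
    fun k => hZ_ses S k (isFiniteLength_comp k)
  obtain ⟨N', hN'⟩ := exists_hZ_eq_zero_of_torsion hpos hm
    (ℳ := (subG 𝒜 X.gr (gam m.toIdeal X.carrier) hNg).gr) htors
  exact ⟨max N N', fun k hk => by
    rw [hN k (le_trans (le_max_left _ _) hk), hZs k, hN' k (le_trans (le_max_right _ _) hk),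
      zero_add]⟩

theorem evHilb_coker_regular (X : GMod.{u} 𝒜) [Module.Finite R X.carrier] {x : R} {e : ℤ}
    (hx : x ∈ 𝒜 e) (hreg : Function.Injective (fun y : X.carrier => x • y)) (P : ℚ[X])
    (hP : EvHilb 𝒜 X.gr P) :
    EvHilb 𝒜 (cokerG X hx).gr (P - P.comp (Polynomial.X - C (e : ℚ))) := by
  obtain ⟨N, hN⟩ := hP
  have hK : ∀ k, hZ 𝒜 (kerG X hx).gr k = 0 := by
    intro k
    haveI : Subsingleton ↥(comp 𝒜 (kerG X hx).gr k) := by
      refine ⟨fun y z => Subtype.ext ?_⟩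
      have hy : ∀ w : (kerG X hx).carrier, w = 0 := by
        rintro ⟨w, hw⟩
        apply Subtype.ext
        apply hreg
        change x • w = x • 0
        rw [smul_zero]
        exact hw
      rw [hy y, hy z]
    exact lenZ_of_subsingleton _
  refine ⟨N + max e 0, fun k hk => ?_⟩
  have h1 := hZ_diff X hx k
  rw [hK, sub_zero] at h1
  rw [eval_sub, eval_comp, eval_sub, eval_X, eval_C]
  have h2 := hN k (by have := le_max_right e 0; omega)
  have h3 := hN (k + -e) (by have := le_max_left e 0; omega)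
  have h4 : ((k + -e : ℤ) : ℚ) = (k : ℚ) - (e : ℚ) := by push_cast; ring
  rw [h4] at h3
  rw [h2, h3, ← h1]
  push_cast
  ring

end Groth.Agent.Lib.T2H3.Serre
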