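import Groth.Agent.Lib.T2H3HilbC

/-! The degree of the Hilbert polynomial is less than the dimension (helper3): the induction. -/

set_option autoImplicit false
set_option linter.unusedSectionVars false
set_option linter.style.haveILetI false
open DirectSum Polynomial

noncomputable section

namespace Groth.Agent.Lib.T2H3.Serre

open GrLC Groth.Agent.Lib.T2H3.GrLes Groth.Agent.Lib.T2H5.EulerAlg
  Groth.Agent.Lib.T2H3.GrIrr Groth.Agent.Lib.T2H3.GrArt Groth.Agent.Lib.Helper29GrShift
  Groth.Agent.Lib.Helper29GrQuot Groth.Agent.Lib.Helper29GrSub Groth.Agent.Lib.Helper29GrHom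
  Groth.Agent.Lib.Helper29GrGam

universe u

variable {R : Type u} [CommRing R] [IsNoetherianRing R] {𝒜 : ℤ → AddSubgroup R} [GradedRing 𝒜]
variable (hpos : ∀ n : ℤ, n < 0 → 𝒜 n = ⊥) [IsArtinianRing (deg0 𝒜)]
  {m : HomogeneousIdeal 𝒜} (hm : IsStarLocal 𝒜 m)
  (hstd : Ideal.span (⋃ n ∈ Set.Ioi (0 : ℤ), (𝒜 n : Set R)) =
    Ideal.span ((𝒜 1 : AddSubgroup R) : Set R))

include hpos hstd in
/-- Graded Nakayama for a homogeneous element of the irrelevant ideal. -/
theorem nontrivial_cokerG (X : GMod.{u} 𝒜) [Module.Finite R X.carrier] [Nontrivial X.carrier]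
    {x : R} {e : ℤ} (hx : x ∈ 𝒜 e) (hxirr : x ∈ irr 𝒜) : Nontrivial (cokerG X hx).carrier := by
  by_contra hnt
  rw [not_nontrivial_iff_subsingleton] at hnt
  have hrange : LinearMap.range (LinearMap.lsmul R X.carrier x) = ⊤ := by
    rw [eq_top_iff]
    intro y _
    have h0 : (LinearMap.range (LinearMap.lsmul R X.carrier x)).mkQ y = 0 :=
      @Subsingleton.elim (cokerG X hx).carrier hnt _ _
    exact (Submodule.Quotient.mk_eq_zero _).mp h0
  have htop : irr 𝒜 • (⊤ : Submodule R X.carrier) = ⊤ := by
    rw [eq_top_iff]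
    intro z hz
    rw [← hrange] at hz
    obtain ⟨y, rfl⟩ := hz
    exact Submodule.smul_mem_smul hxirr Submodule.mem_top
  obtain ⟨y, hy⟩ := exists_ne (0 : X.carrier)
  exact hy (Groth.Agent.Lib.Helper29GrStd.eq_zero_of_smul_top_eq_top 𝒜 X.gr hpos (irr 𝒜) hstd
    htop y)

include hpos hm hstd in
theorem degree_hilbPoly_aux (J : Ideal R) : ∀ (X : GMod.{u} 𝒜) [Module.Finite R X.carrier],
    J ≤ Module.annihilator R X.carrier → ∀ (P : ℚ[X]), EvHilb 𝒜 X.gr P → ∀ k : ℕ,
    ringKrullDim (R ⧸ Module.annihilator R X.carrier) ≤ (k : WithBot ℕ∞) →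
    P.degree < (k : WithBot ℕ) := by
  induction J using WellFoundedGT.induction with
  | ind J IH =>
    intro X _ hJ P hP k hk
    have hNg := gam_isHomogeneous 𝒜 X.gr m
    have hPb0 := evHilb_quot_gam hpos hm X P hP
    obtain ⟨Xb, hXb⟩ : ∃ Xb : GMod.{u} 𝒜,
        Xb = quotG 𝒜 X.gr (gam m.toIdeal X.carrier) hNg := ⟨_, rfl⟩
    rw [← hXb] at hPb0
    haveI : Module.Finite R Xb.carrier := by rw [hXb]; infer_instance
    have hann : Module.annihilator R X.carrier ≤ Module.annihilator R Xb.carrier := by
      rw [hXb]; exact annihilator_le_quotG X _ hNg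
    have hJb : J ≤ Module.annihilator R Xb.carrier := hJ.trans hann
    have hkb : ringKrullDim (R ⧸ Module.annihilator R Xb.carrier) ≤ (k : WithBot ℕ∞) :=
      (ringKrullDim_quot_le_of_le hann).trans hk
    have htf : gam m.toIdeal Xb.carrier = ⊥ := by
      rw [hXb]; exact gam_quotient_eq_bot m.toIdeal X.carrier
    by_cases hsub : Subsingleton Xb.carrier
    · have hP0 : P = 0 := by
        apply eq_zero_of_eventually_eval_eq_zero
        obtain ⟨N, hN⟩ := hPb0
        refine ⟨N, fun n hn => ?_⟩
        rw [hN n hn]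
        haveI : Subsingleton ↥(comp 𝒜 Xb.gr n) := ⟨fun y z => Subtype.ext (Subsingleton.elim _ _)⟩
        have : hZ 𝒜 Xb.gr n = 0 := lenZ_of_subsingleton _
        rw [this, Int.cast_zero]
      rw [hP0, degree_zero]
      exact WithBot.bot_lt_coe _
    · rw [not_subsingleton_iff_nontrivial] at hsub
      obtain ⟨x, e, he, hxe, hxirr, hreg⟩ := exists_regular_homogeneous 𝒜 (M := Xb.carrier) hpos
        (irr 𝒜) (irr_isHomogeneous 𝒜) le_rfl
        (by rw [← gam_eq_gam_irr hpos hm]; exact htf)
      have hPQ := evHilb_coker_regular Xb hxe hreg P hPb0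
      haveI hQnt := nontrivial_cokerG hpos hstd Xb hxe hxirr
      have hxann : x ∉ Module.annihilator R Xb.carrier := by
        intro hx0
        obtain ⟨y, hy⟩ := exists_ne (0 : Xb.carrier)
        apply hy
        apply hreg
        change x • y = x • 0
        rw [smul_zero]
        exact Module.mem_annihilator.mp hx0 y
      have hlt : J < Module.annihilator R Xb.carrier ⊔ Ideal.span {x} := by
        refine lt_of_le_of_ne (hJb.trans le_sup_left) fun h => hxann ?_
        apply hJb
        rw [h]
        exact Ideal.mem_sup_right (Ideal.subset_span rfl)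
      have hJQ : Module.annihilator R Xb.carrier ⊔ Ideal.span {x} ≤
          Module.annihilator R (cokerG Xb hxe).carrier := by
        refine sup_le (annihilator_le_quotG Xb _ _) ?_
        rw [Ideal.span_le]
        intro r hr
        rw [Set.mem_singleton_iff] at hr
        subst hr
        rw [SetLike.mem_coe, Module.mem_annihilator]
        intro y
        obtain ⟨z, rfl⟩ := Submodule.mkQ_surjective
          (LinearMap.range (LinearMap.lsmul R Xb.carrier r)) y
        change r • (LinearMap.range (LinearMap.lsmul R Xb.carrier r)).mkQ z = 0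
        rw [← map_smul]
        exact (Submodule.Quotient.mk_eq_zero _).mpr ⟨z, rfl⟩
      have hdim1 : ringKrullDim (R ⧸ Module.annihilator R (cokerG Xb hxe).carrier) + 1 ≤
          (k : WithBot ℕ∞) := by
        refine le_trans ?_ hkb
        refine le_trans (add_le_add_left (ringKrullDim_quot_le_of_le hJQ) 1) ?_
        apply ringKrullDim_quot_sup_span_add_one_le
        intro r hr
        rw [Module.mem_annihilator] at hr ⊢
        intro y
        apply hreg
        change x • (r • y) = x • 0
        rw [smul_zero, smul_smul, mul_comm]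
        exact hr y
      haveI : Nontrivial (R ⧸ Module.annihilator R (cokerG Xb hxe).carrier) := by
        apply Ideal.Quotient.nontrivial_iff.mpr
        intro htop
        obtain ⟨y, hy⟩ := exists_ne (0 : (cokerG Xb hxe).carrier)
        apply hy
        have h1 : (1 : R) ∈ Module.annihilator R (cokerG Xb hxe).carrier := by
          rw [htop]; exact Submodule.mem_top
        have := Module.mem_annihilator.mp h1 y
        rwa [one_smul] at this
      have hnn : (0 : WithBot ℕ∞) ≤
          ringKrullDim (R ⧸ Module.annihilator R (cokerG Xb hxe).carrier) :=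
        ringKrullDim_nonneg_of_nontrivial
      cases k with
      | zero =>
        exfalso
        have h1 : (0 : WithBot ℕ∞) + 1 ≤ ((0 : ℕ) : WithBot ℕ∞) :=
          le_trans (add_le_add_left hnn 1) hdim1
        rw [zero_add, Nat.cast_zero] at h1
        exact absurd h1 (by decide)
      | succ k' =>
        have hdimQ : ringKrullDim (R ⧸ Module.annihilator R (cokerG Xb hxe).carrier) ≤
            (k' : WithBot ℕ∞) := by
          have h2 : ((k' + 1 : ℕ) : WithBot ℕ∞) = (k' : WithBot ℕ∞) + 1 := by push_cast; rfl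
          rw [h2] at hdim1
          generalize ringKrullDim (R ⧸ Module.annihilator R (cokerG Xb hxe).carrier) = D
            at hdim1 hnn ⊢
          induction D using WithBot.recBotCoe with
          | bot => exact bot_le
          | coe D =>
            have h3 : (D : WithBot ℕ∞) + 1 = ((D + 1 : ℕ∞) : WithBot ℕ∞) := rfl
            have h4 : (k' : WithBot ℕ∞) + 1 = (((k' : ℕ∞) + 1 : ℕ∞) : WithBot ℕ∞) := rfl
            rw [h3, h4, WithBot.coe_le_coe] at hdim1
            have h5 : D ≤ (k' : ℕ∞) := (ENat.add_le_add_iff_right (by simp)).mp hdim1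
            exact WithBot.coe_le_coe.mpr h5
        have hdegQ := IH _ hlt (cokerG Xb hxe) hJQ _ hPQ k' hdimQ
        exact degree_lt_succ_of_degree_diff_lt P (e : ℚ) (by exact_mod_cast he.ne') k' hdegQ

include hpos hm hstd in
/-- The Hilbert polynomial of a ring of dimension `d` has degree less than `d`. -/
theorem degree_hilbPoly_lt {d : ℕ} (hd : ringKrullDim R = d) (P : ℚ[X])
    (hP : EvHilb 𝒜 𝒜 P) : P.degree < (d : WithBot ℕ) := by
  haveI : Module.Finite R (GMod.of 𝒜 R 𝒜).carrier := (inferInstance : Module.Finite R R)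
  refine degree_hilbPoly_aux hpos hm hstd ⊥ (GMod.of 𝒜 R 𝒜) bot_le P hP d ?_
  rw [← hd]
  exact ringKrullDim_quotient_le _

end Groth.Agent.Lib.T2H3.Serre
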