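import Mathlib
import Groth.Agent.Lib.Helper22LimBC

/-!
# Inclusions of pulled-back ideal sheaves descend to a stage

For `X = lim X_j` (affine transitions, qcqs stages) and ideal sheaves `A`, `B` on `X_{i₀}` with
`V(A) ⟶ X_{i₀}` locally of finite presentation: if `A·O_X ≤ B·O_X` then `A·O_{X_j} ≤ B·O_{X_j}` for
some `j ⟶ i₀`.
-/

set_option autoImplicit false
set_option linter.style.haveILetI false
universe u
open CategoryTheory CategoryTheory.Limits AlgebraicGeometry

namespace Groth.Agent.Lib.T2H3.IdealStage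

open Groth.Agent.Lib.Helper22.LimBC

/-- if `p` factors through `q` then `ker q ≤ ker p`. -/
theorem ker_le_ker_of_fac {X Y Z : Scheme.{u}} (p : X ⟶ Z) (l : X ⟶ Y) (q : Y ⟶ Z)
    (h : l ≫ q = p) : q.ker ≤ p.ker := by
  rw [← h, Scheme.Hom.ker_comp, ← Scheme.IdealSheafData.map_bot]
  exact Scheme.IdealSheafData.map_mono q bot_le

/-- the kernel of the projection of any pullback square over `I.subschemeι` is `I.comap`. -/
theorem ker_eq_comap_of_isPullback {X Y P : Scheme.{u}} (f : X ⟶ Y) (I : Y.IdealSheafData)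
    {p : P ⟶ X} {q : P ⟶ I.subscheme} (sq : IsPullback p q f I.subschemeι) :
    p.ker = I.comap f := by
  unfold Scheme.IdealSheafData.comap
  apply le_antisymm
  · exact ker_le_ker_of_fac _ sq.isoPullback.inv p (by simp)
  · exact ker_le_ker_of_fac _ sq.isoPullback.hom _ (by simp)

/-- a morphism `p : P ⟶ X` such that `p ≫ f` factors through `V(A)` has `A.comap f ≤ ker p`. -/
theorem comap_le_ker_of_fac {X Y P : Scheme.{u}} (f : X ⟶ Y) (A : Y.IdealSheafData)
    (p : P ⟶ X) (g : P ⟶ A.subscheme) (h : g ≫ A.subschemeι = p ≫ f) : A.comap f ≤ p.ker := by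
  unfold Scheme.IdealSheafData.comap
  exact ker_le_ker_of_fac p (pullback.lift p g h.symm) _ (pullback.lift_fst _ _ _)

/-- a closed immersion `p : P ⟶ X` with `A.comap f ≤ ker p` has `p ≫ f` factoring through `V(A)`. -/
theorem exists_fac_of_comap_le_ker {X Y P : Scheme.{u}} (f : X ⟶ Y) (A : Y.IdealSheafData)
    (p : P ⟶ X) (h : A.comap f ≤ p.ker) :
    ∃ g : P ⟶ A.subscheme, g ≫ A.subschemeι = p ≫ f := by
  unfold Scheme.IdealSheafData.comap at h
  refine ⟨IsClosedImmersion.lift (pullback.fst f A.subschemeι) p h ≫ pullback.snd _ _, ?_⟩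
  rw [Category.assoc, ← pullback.condition, ← Category.assoc, IsClosedImmersion.lift_fac]

/-- **Stage lemma for inclusions of ideal sheaves.** -/
theorem exists_stage_comap_le {I : Type u} [SmallCategory I] [IsCofiltered I]
    (D : I ⥤ Scheme.{u}) (c : Cone D) (hc : IsLimit c)
    [∀ {i j : I} (f : i ⟶ j), IsAffineHom (D.map f)]
    (i0 : I) [CompactSpace (D.obj i0)] [QuasiSeparatedSpace (D.obj i0)]
    (A B : (D.obj i0).IdealSheafData) [LocallyOfFinitePresentation A.subschemeι]
    (h : A.comap (c.π.app i0) ≤ B.comap (c.π.app i0)) :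
    ∃ (j : I) (t : j ⟶ i0), A.comap (D.map t) ≤ B.comap (D.map t) := by
  let ιB := B.subschemeι
  haveI : CompactSpace B.subscheme := QuasiCompact.compactSpace_of_compactSpace ιB
  haveI : QuasiSeparatedSpace B.subscheme := quasiSeparatedSpace_of_quasiSeparated ιB
  let DZ : Over i0 ⥤ Scheme.{u} := bcDiagram D i0 ιB
  have hP : IsPullback (pullback.fst ιB (c.π.app i0)) (pullback.snd ιB (c.π.app i0)) ιB
      (c.π.app i0) := IsPullback.of_hasPullback _ _
  let cZ : Cone DZ := bcCone i0 hP
  have hcZ : IsLimit cZ := isLimitBcCone i0 hP hc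
  haveI : ∀ {j k : Over i0} (f : j ⟶ k), IsAffineHom (DZ.map f) := fun f => inferInstance
  haveI : ∀ j, CompactSpace (DZ.obj j) := fun j =>
    inferInstanceAs (CompactSpace ((bcDiagram D i0 ιB).obj j))
  haveI : ∀ j, QuasiSeparatedSpace (DZ.obj j) := fun j =>
    inferInstanceAs (QuasiSeparatedSpace ((bcDiagram D i0 ιB).obj j))
  let tZ : DZ ⟶ (Functor.const (Over i0)).obj (D.obj i0) :=
    { app := fun j => dFst D i0 ιB j ≫ ιB
      naturality := fun j k f => by
        simp only [Functor.const_obj_obj, Functor.const_obj_map, Category.comp_id]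
        rw [← Category.assoc, map_dFst] }
  -- the map from the limit to `V(A)`
  have hker : (pullback.snd ιB (c.π.app i0)).ker = B.comap (c.π.app i0) :=
    ker_eq_comap_of_isPullback (c.π.app i0) B hP.flip
  obtain ⟨a, ha⟩ := exists_fac_of_comap_le_ker (c.π.app i0) A (pullback.snd ιB (c.π.app i0))
    (hker ▸ h)
  have haZ : cZ.π ≫ tZ = (Functor.const (Over i0)).map (a ≫ A.subschemeι) := by
    ext j : 2
    simp only [NatTrans.comp_app, Functor.const_map_app]
    rw [ha]
    show bcπ i0 hP j ≫ dFst D i0 ιB j ≫ ιB = _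
    rw [← Category.assoc, bcπ_fst]
    exact hP.w
  obtain ⟨j, g, -, hg⟩ := Scheme.exists_π_app_comp_eq_of_locallyOfFinitePresentation DZ tZ
    A.subschemeι cZ hcZ a haZ
  refine ⟨j.left, j.hom, ?_⟩
  have hkerj : (dSnd D i0 ιB j).ker = B.comap (D.map j.hom) :=
    ker_eq_comap_of_isPullback (D.map j.hom) B (isPullback_d D i0 ιB j).flip
  rw [← hkerj]
  refine comap_le_ker_of_fac (D.map j.hom) A (dSnd D i0 ιB j) g ?_
  rw [hg]
  exact d_condition D i0 ιB j

end Groth.Agent.Lib.T2H3.IdealStage
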