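import Mathlib
import Groth.Prelude.Def_Smoothing
import Groth.Agent.Lib.T2H3SmoothLift4
/-!
# Ind-smoothness and square-zero deformations (helper3)

* `exists_list_of_mem_map`: elements of `I Λ` as finite sums `∑ ε_t λ_t`.
* `exists_smooth_model_mod`: for `I² = 0`, `Λ/IΛ` ind-smooth over `R/I` and `κ : A → Λ` with `A`
  finitely presented, there are a smooth `R`-algebra `C` with `ψ : C → Λ`, a surjection
  `π : C → Q` with kernel `I C` and `γ : A → Q` compatible modulo `I Λ`.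
-/
set_option autoImplicit false
set_option linter.style.haveILetI false
universe u

namespace Groth.Agent.Lib.T2H3.IndSmooth

theorem exists_list_of_mem_map {R Λ : Type u} [CommRing R] [CommRing Λ] [Algebra R Λ]
    (I : Ideal R) {x : Λ} (hx : x ∈ I.map (algebraMap R Λ)) :
    ∃ l : List (R × Λ), (∀ p ∈ l, p.1 ∈ I) ∧
      x = (l.map (fun p => algebraMap R Λ p.1 * p.2)).sum := by
  rw [Ideal.map] at hx
  refine Submodule.span_induction (p := fun x _ => ∃ l : List (R × Λ), (∀ p ∈ l, p.1 ∈ I) ∧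
      x = (l.map (fun p => algebraMap R Λ p.1 * p.2)).sum) ?_ ?_ ?_ ?_ hx
  · rintro _ ⟨r, hr, rfl⟩
    exact ⟨[(r, 1)], by simpa using hr, by simp⟩
  · exact ⟨[], by simp, by simp⟩
  · rintro x y _ _ ⟨l₁, h₁, rfl⟩ ⟨l₂, h₂, rfl⟩
    refine ⟨l₁ ++ l₂, ?_, by simp⟩
    intro p hp
    rcases List.mem_append.mp hp with hp | hp
    · exact h₁ p hp
    · exact h₂ p hp
  · rintro a x _ ⟨l, hl, rfl⟩
    refine ⟨l.map (fun p => (p.1, a * p.2)), ?_, ?_⟩
    · intro p hp
      obtain ⟨q, hq, rfl⟩ := List.mem_map.mp hp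
      exact hl q hq
    · rw [smul_eq_mul, List.map_map, ← List.sum_map_mul_left]
      congr 1
      refine List.map_congr_left fun p _ => ?_
      simp only [Function.comp_apply]
      ring

theorem exists_smooth_model_mod {R Λ A : Type u} [CommRing R] [CommRing Λ] [Algebra R Λ]
    (I : Ideal R) (hI : I ^ 2 = ⊥)
    (h : Smoothing.IndSmooth (R ⧸ I) (Λ ⧸ I.map (algebraMap R Λ)))
    [CommRing A] [Algebra R A] [Algebra.FinitePresentation R A] (κ : A →ₐ[R] Λ) :
    ∃ (C : Type u) (_ : CommRing C) (_ : Algebra R C) (_ : Algebra.Smooth R C) (ψ : C →ₐ[R] Λ)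
      (Q : Type u) (_ : CommRing Q) (_ : Algebra R Q) (π : C →ₐ[R] Q) (γ : A →ₐ[R] Q),
      Function.Surjective π ∧ RingHom.ker π = I.map (algebraMap R C) ∧
      ∀ a c, π c = γ a → ψ c - κ a ∈ I.map (algebraMap R Λ) := by
  classical
  haveI fp : Algebra.FinitePresentation (R ⧸ I) (A ⧸ I.map (algebraMap R A)) :=
    Algebra.FinitePresentation.equiv (Algebra.TensorProduct.quotIdealMapEquivQuotTensor A I).symm
  have hle : I.map (algebraMap R A) ≤ (I.map (algebraMap R Λ)).comap (κ : A →+* Λ) := by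
    rw [← Ideal.map_le_iff_le_comap, Ideal.map_map]
    exact le_of_eq (congrArg (fun f => Ideal.map f I) κ.comp_algebraMap)
  let κr : (A ⧸ I.map (algebraMap R A)) →+* (Λ ⧸ I.map (algebraMap R Λ)) :=
    Ideal.quotientMap _ (κ : A →+* Λ) hle
  let κbar : (A ⧸ I.map (algebraMap R A)) →ₐ[R ⧸ I] (Λ ⧸ I.map (algebraMap R Λ)) :=
    { κr with
      commutes' := fun a => by
        obtain ⟨a, rfl⟩ := Ideal.Quotient.mk_surjective a
        change κr (Ideal.Quotient.mk _ (algebraMap R A a)) =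
          Ideal.Quotient.mk _ (algebraMap R Λ a)
        rw [Ideal.quotientMap_mk]
        exact congrArg _ (κ.commutes a) }
  have hκbar : ∀ a, κbar (Ideal.Quotient.mk _ a) = Ideal.Quotient.mk _ (κ a) := fun a => rfl
  obtain ⟨Bb, _, _, hsm, gbar, kbar, hcomp⟩ := h (A ⧸ I.map (algebraMap R A)) fp κbar
  letI : Algebra R Bb := ((algebraMap (R ⧸ I) Bb).comp (Ideal.Quotient.mk I)).toAlgebra
  haveI : IsScalarTower R (R ⧸ I) Bb := IsScalarTower.of_algebraMap_eq (fun _ => rfl)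
  obtain ⟨C, _, _, hC, π, hπ, hker⟩ :=
    Groth.Agent.Lib.T2H3.SmoothLift.exists_smooth_lift (A₀ := Bb) I
  have hnil : IsNilpotent (RingHom.ker
      ((Ideal.Quotient.mkₐ R (I.map (algebraMap R Λ)) :
        Λ →ₐ[R] (Λ ⧸ I.map (algebraMap R Λ))) : Λ →+* (Λ ⧸ I.map (algebraMap R Λ)))) := by
    refine ⟨2, ?_⟩
    have : RingHom.ker ((Ideal.Quotient.mkₐ R (I.map (algebraMap R Λ)) :
        Λ →ₐ[R] (Λ ⧸ I.map (algebraMap R Λ))) : Λ →+* (Λ ⧸ I.map (algebraMap R Λ))) =
        I.map (algebraMap R Λ) := Ideal.mk_ker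
    rw [this, ← Ideal.map_pow, hI, Ideal.map_bot]
    rfl
  let ψ : C →ₐ[R] Λ := Algebra.FormallySmooth.liftOfSurjective
    ((kbar.restrictScalars R).comp π) (Ideal.Quotient.mkₐ R (I.map (algebraMap R Λ)))
    (Ideal.Quotient.mkₐ_surjective R _) hnil
  have hψ : ∀ c, Ideal.Quotient.mk (I.map (algebraMap R Λ)) (ψ c) = kbar (π c) := fun c =>
    congr($(Algebra.FormallySmooth.comp_liftOfSurjective ((kbar.restrictScalars R).comp π)
      (Ideal.Quotient.mkₐ R (I.map (algebraMap R Λ))) (Ideal.Quotient.mkₐ_surjective R _) hnil) c)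
  let γ : A →ₐ[R] Bb :=
    (gbar.restrictScalars R).comp (Ideal.Quotient.mkₐ R (I.map (algebraMap R A)))
  refine ⟨C, inferInstance, inferInstance, hC, ψ, Bb, inferInstance, inferInstance, π, γ, hπ,
    hker, ?_⟩
  intro a c hc
  rw [← Ideal.Quotient.eq, hψ, hc, ← hκbar, ← hcomp]
  rfl

end Groth.Agent.Lib.T2H3.IndSmooth
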