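import Mathlib
import Groth.Agent.S2023
import Groth.Agent.S6821
/-!
# Ind-smoothness of flat square-zero deformations (helper3)

`indSmooth_of_sq_zero`: `I² = 0`, `Λ` flat over `R`, `Λ/IΛ` ind-smooth over `R/I` ⟹ `Λ` ind-smooth
over `R` (combining `lift_once`, `lift_twice` and a correction by a derivation).
-/
set_option autoImplicit false
set_option linter.style.haveILetI false
universe u
open KaehlerDifferential

namespace Groth.Agent.Lib.T2H3.IndSmooth

theorem algHom_mem_map {R S T : Type u} [CommRing R] [CommRing S] [CommRing T] [Algebra R S]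
    [Algebra R T] (I : Ideal R) (θ : S →ₐ[R] T) {x : S} (hx : x ∈ I.map (algebraMap R S)) :
    θ x ∈ I.map (algebraMap R T) := by
  have hle : I.map (algebraMap R S) ≤ (I.map (algebraMap R T)).comap (θ : S →+* T) := by
    rw [← Ideal.map_le_iff_le_comap, Ideal.map_map, θ.comp_algebraMap]
  exact hle hx

theorem indSmooth_of_sq_zero {R Λ : Type u} [CommRing R] [CommRing Λ] [Algebra R Λ]
    [Module.Flat R Λ] (I : Ideal R) (hI : I ^ 2 = ⊥)
    (h : Smoothing.IndSmooth (R ⧸ I) (Λ ⧸ I.map (algebraMap R Λ))) :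
    Smoothing.IndSmooth R Λ := by
  classical
  intro A _ _ hfp φ
  haveI := hfp
  obtain ⟨B, _, _, hB, J, hJI, hJfg, g, k, hkg⟩ := Groth.Agent.S2023.result I hI h φ
  let φ' : B →ₐ[R] Λ := k.comp (Ideal.Quotient.mkₐ R J)
  have hφ'J : ∀ x ∈ J, φ' x = 0 := by
    intro x hx
    change k (Ideal.Quotient.mk J x) = 0
    rw [Ideal.Quotient.eq_zero_iff_mem.mpr hx, map_zero]
  obtain ⟨B', _, _, hB', α, β, hαJ, hβα⟩ :=
    Groth.Agent.S6821.result I hI h φ' J hJI hJfg hφ'J
  -- square-zero facts
  have hsq : ∀ (T : Type u) [CommRing T] [Algebra R T], ∀ x ∈ I.map (algebraMap R T),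
      ∀ y ∈ I.map (algebraMap R T), x * y = 0 := by
    intro T _ _ x hx y hy
    have := Ideal.mul_mem_mul hx hy
    rwa [← Ideal.map_mul, ← pow_two, hI, Ideal.map_bot, Ideal.mem_bot] at this
  -- the derivation `D = φ' - β ∘ α`
  letI : Algebra B Λ := (φ' : B →+* Λ).toAlgebra
  haveI : IsScalarTower R B Λ := IsScalarTower.of_algebraMap_eq (fun r => (φ'.commutes r).symm)
  have hsmul : ∀ (b : B) (x : Λ), b • x = φ' b * x := fun b x => Algebra.smul_def b x
  have hDmem : ∀ b, φ' b - β (α b) ∈ I.map (algebraMap R Λ) := fun b => by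
    have := hβα b
    rwa [← Ideal.neg_mem_iff, neg_sub] at this
  let Dlin : B →ₗ[R] Λ := φ'.toLinearMap - (β.comp α).toLinearMap
  have hDlin : ∀ b, Dlin b = φ' b - β (α b) := fun b => rfl
  let D : Derivation R B Λ := Derivation.mk' Dlin (fun a b => by
    have h0 := hsq Λ _ (hDmem a) _ (hDmem b)
    rw [hDlin, hDlin, hDlin, hsmul, hsmul, map_mul, map_mul, map_mul]
    linear_combination (-1 : Λ) * h0)
  have hD : ∀ b, D b = φ' b - β (α b) := fun b => rfl
  let Dt : Ω[B⁄R] →ₗ[B] Λ := D.liftKaehlerDifferential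
  have hDt : ∀ b, Dt (KaehlerDifferential.D R B b) = φ' b - β (α b) := fun b =>
    (Derivation.liftKaehlerDifferential_comp_D D b).trans (hD b)
  have hDtmem : ∀ ω, Dt ω ∈ I.map (algebraMap R Λ) := by
    intro ω
    have hω : ω ∈ Submodule.span B (Set.range (KaehlerDifferential.D R B)) := by
      rw [KaehlerDifferential.span_range_derivation]; trivial
    refine Submodule.span_induction (p := fun ω _ => Dt ω ∈ I.map (algebraMap R Λ))
      ?_ ?_ ?_ ?_ hω
    · rintro _ ⟨b, rfl⟩
      rw [hDt]
      exact hDmem b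
    · rw [map_zero]; exact zero_mem _
    · intro x y _ _ hx hy
      rw [map_add]; exact add_mem hx hy
    · intro a x _ hx
      rw [map_smul, hsmul]
      exact Ideal.mul_mem_left _ _ hx
  haveI : Algebra.FormallySmooth R B := hB.formallySmooth
  haveI : Algebra.FinitePresentation R B := hB.finitePresentation
  obtain ⟨n, f, gg, -, -, hfg⟩ := Module.Finite.exists_comp_eq_id_of_projective B Ω[B⁄R]
  let ω : Fin n → Ω[B⁄R] := fun i => f (Pi.single i 1)
  have hω : ∀ x : Ω[B⁄R], x = ∑ i, gg x i • ω i := by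
    intro x
    have h1 : f (gg x) = x := congr($hfg x)
    conv_lhs => rw [← h1, pi_eq_sum_univ' (gg x)]
    simp only [map_sum, map_smul, ω]
  let der : Fin n → B → B := fun i b => gg (KaehlerDifferential.D R B b) i
  have hder_add : ∀ i x y, der i (x + y) = der i x + der i y := fun i x y => by
    simp only [der, map_add, Pi.add_apply]
  have hder_mul : ∀ i x y, der i (x * y) = x * der i y + y * der i x := fun i x y => by
    simp only [der, Derivation.leibniz, map_add, map_smul, Pi.add_apply, Pi.smul_apply,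
      smul_eq_mul]
  have hder_alg : ∀ i (r : R), der i (algebraMap R B r) = 0 := fun i r => by
    simp only [der, Derivation.map_algebraMap, map_zero, Pi.zero_apply]
  have hder_one : ∀ i, der i 1 = 0 := fun i => by
    have := hder_alg i 1
    rwa [map_one] at this
  have hder_zero : ∀ i, der i 0 = 0 := fun i => by
    simp only [der, map_zero, Pi.zero_apply]
  have hderI : ∀ i, ∀ x ∈ I.map (algebraMap R B), der i x ∈ I.map (algebraMap R B) := by
    intro i x hx
    have : x ∈ I.map (algebraMap R B) ∧ der i x ∈ I.map (algebraMap R B) := by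
      rw [Ideal.map] at hx
      refine Submodule.span_induction (p := fun x _ => x ∈ I.map (algebraMap R B) ∧
        der i x ∈ I.map (algebraMap R B)) ?_ ?_ ?_ ?_ hx
      · rintro _ ⟨r, hr, rfl⟩
        exact ⟨Ideal.mem_map_of_mem _ hr, by rw [hder_alg]; exact zero_mem _⟩
      · exact ⟨zero_mem _, by rw [hder_zero]; exact zero_mem _⟩
      · rintro x y _ _ ⟨hx1, hx2⟩ ⟨hy1, hy2⟩
        exact ⟨add_mem hx1 hy1, by rw [hder_add]; exact add_mem hx2 hy2⟩
      · rintro a x _ ⟨hx1, hx2⟩
        refine ⟨Ideal.mul_mem_left _ _ hx1, ?_⟩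
        rw [smul_eq_mul, hder_mul]
        exact add_mem (Ideal.mul_mem_left _ _ hx2) (Ideal.mul_mem_right _ _ hx1)
    exact this.2
  -- representations of `Dt (ω i)`
  choose lst hlst1 hlst2 using fun i : Fin n => exists_list_of_mem_map I (hDtmem (ω i))
  let σ := Σ i : Fin n, Fin (lst i).length
  let eps : σ → R := fun s => ((lst s.1)[s.2.1]).1
  let lam : σ → Λ := fun s => ((lst s.1)[s.2.1]).2
  have heps : ∀ s, eps s ∈ I := fun s => hlst1 s.1 _ (List.getElem_mem _)
  haveI : Algebra.Smooth B' (MvPolynomial σ B') := ⟨inferInstance, inferInstance⟩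
  haveI : Algebra.Smooth R (MvPolynomial σ B') := Algebra.Smooth.comp R B' (MvPolynomial σ B')
  letI : Algebra B' Λ := (β : B' →+* Λ).toAlgebra
  haveI : IsScalarTower R B' Λ := IsScalarTower.of_algebraMap_eq (fun r => (β.commutes r).symm)
  have hβalg : ∀ c, algebraMap B' Λ c = β c := fun _ => rfl
  let β'' : MvPolynomial σ B' →ₐ[R] Λ :=
    (MvPolynomial.aeval lam : MvPolynomial σ B' →ₐ[B'] Λ).restrictScalars R
  let c : Fin n → MvPolynomial σ B' := fun i =>
    ∑ t : Fin (lst i).length, MvPolynomial.C (algebraMap R B' (eps ⟨i, t⟩)) * MvPolynomial.X ⟨i, t⟩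
  have hcI : ∀ i, c i ∈ I.map (algebraMap R (MvPolynomial σ B')) := by
    intro i
    refine Ideal.sum_mem _ fun t _ => Ideal.mul_mem_right _ _ ?_
    have : MvPolynomial.C (algebraMap R B' (eps ⟨i, t⟩)) =
        algebraMap R (MvPolynomial σ B') (eps ⟨i, t⟩) := rfl
    rw [this]
    exact Ideal.mem_map_of_mem _ (heps ⟨i, t⟩)
  have hβ''c : ∀ i, β'' (c i) = Dt (ω i) := by
    intro i
    have e1 : β'' (c i) = ∑ t : Fin (lst i).length,
        algebraMap R Λ (eps ⟨i, t⟩) * lam ⟨i, t⟩ := by
      simp only [β'', c, AlgHom.restrictScalars_apply, map_sum, map_mul,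
        MvPolynomial.aeval_C, MvPolynomial.aeval_X, hβalg, AlgHom.commutes]
    rw [e1, hlst2 i]
    exact Fin.sum_univ_fun_getElem (lst i) (fun p => algebraMap R Λ p.1 * p.2)
  have hβ''C : ∀ x, β'' (MvPolynomial.C x) = β x := fun x => by
    simp only [β'', AlgHom.restrictScalars_apply, MvPolynomial.aeval_C, hβalg]
  -- the corrected map
  let α''fun : B → MvPolynomial σ B' := fun b =>
    MvPolynomial.C (α b) + ∑ i, MvPolynomial.C (α (der i b)) * c i
  have hcc : ∀ (u v : MvPolynomial σ B') i j, (u * c i) * (v * c j) = 0 := fun u v i j =>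
    hsq _ _ (Ideal.mul_mem_left _ _ (hcI i)) _ (Ideal.mul_mem_left _ _ (hcI j))
  let α'' : B →ₐ[R] MvPolynomial σ B' :=
    { toFun := α''fun
      map_one' := by
        simp only [α''fun, map_one, hder_one, map_zero, zero_mul, Finset.sum_const_zero, add_zero]
      map_mul' := fun x y => by
        simp only [α''fun, map_mul, hder_mul, map_add]
        have hzero : (∑ i, MvPolynomial.C (α (der i x)) * c i) *
            (∑ j, MvPolynomial.C (α (der j y)) * c j) = 0 := by
          rw [Finset.sum_mul_sum]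
          exact Finset.sum_eq_zero fun i _ => Finset.sum_eq_zero fun j _ => hcc _ _ i j
        have e1 : ∑ i, (MvPolynomial.C (α x) * MvPolynomial.C (α (der i y)) +
            MvPolynomial.C (α y) * MvPolynomial.C (α (der i x))) * c i =
            MvPolynomial.C (α x) * ∑ i, MvPolynomial.C (α (der i y)) * c i +
            MvPolynomial.C (α y) * ∑ i, MvPolynomial.C (α (der i x)) * c i := by
          rw [Finset.mul_sum, Finset.mul_sum, ← Finset.sum_add_distrib]
          exact Finset.sum_congr rfl fun i _ => by ring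
        rw [e1]
        linear_combination (-1 : MvPolynomial σ B') * hzero
      map_zero' := by
        simp only [α''fun, map_zero, hder_zero, zero_mul, Finset.sum_const_zero, add_zero]
      map_add' := fun x y => by
        simp only [α''fun, map_add, hder_add, add_mul, Finset.sum_add_distrib]
        ring
      commutes' := fun r => by
        simp only [α''fun, AlgHom.commutes, hder_alg, map_zero, zero_mul, Finset.sum_const_zero,
          add_zero]
        rfl }
  have hα''def : ∀ b, α'' b = MvPolynomial.C (α b) + ∑ i, MvPolynomial.C (α (der i b)) * c i :=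
    fun b => rfl
  have hα''J : ∀ x ∈ J, α'' x = 0 := by
    intro x hx
    rw [hα''def, hαJ x hx, map_zero, zero_add]
    refine Finset.sum_eq_zero fun i _ => ?_
    have h1 : der i x ∈ I.map (algebraMap R B) := hderI i x (hJI hx)
    have h2 : MvPolynomial.C (α (der i x)) ∈ I.map (algebraMap R (MvPolynomial σ B')) :=
      algHom_mem_map I ((IsScalarTower.toAlgHom R B' (MvPolynomial σ B')).comp α) h1
    exact hsq _ _ h2 _ (hcI i)
  have hβ''α'' : ∀ b, β'' (α'' b) = φ' b := by
    intro b
    rw [hα''def, map_add, map_sum, hβ''C]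
    have e1 : φ' b - β (α b) = ∑ i, φ' (der i b) * Dt (ω i) := by
      rw [← hDt]
      conv_lhs => rw [hω (KaehlerDifferential.D R B b)]
      rw [map_sum]
      refine Finset.sum_congr rfl fun i _ => ?_
      rw [map_smul, hsmul]
    have e2 : ∀ i, β'' (MvPolynomial.C (α (der i b)) * c i) = φ' (der i b) * Dt (ω i) := by
      intro i
      rw [map_mul, hβ''C, hβ''c]
      have := hsq Λ _ (hDmem (der i b)) _ (hDtmem (ω i))
      linear_combination (-1 : Λ) * this
    rw [Finset.sum_congr rfl (fun i _ => e2 i), ← e1]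
    ring
  refine ⟨MvPolynomial σ B', inferInstance, inferInstance, inferInstance,
    (Ideal.Quotient.liftₐ J α'' hα''J).comp g, β'', ?_⟩
  ext a
  obtain ⟨b, hb⟩ := Ideal.Quotient.mk_surjective (g a)
  rw [AlgHom.comp_apply, AlgHom.comp_apply, ← hb]
  change β'' (α'' b) = φ a
  rw [hβ''α'', ← hkg]
  change k (Ideal.Quotient.mk J b) = k (g a)
  rw [hb]

end Groth.Agent.Lib.T2H3.IndSmooth
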