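import Mathlib
import Groth.Agent.Lib.T2H3IndSmooth2
/-!
# Ind-smoothness of flat nilpotent deformations (helper3)

* `indSmooth_of_ringEquiv`: transport of `Smoothing.IndSmooth` along ring isomorphisms of base and
  algebra.
* `indSmooth_of_surj_sq_zero`: surjection form of `indSmooth_of_sq_zero`.
* `indSmooth_of_surj_pow`: the same for a nilpotent kernel (induction on the exponent).
* `indSmooth_of_nilpotent`: `I` nilpotent, `Λ` flat over `R`, `Λ/IΛ` ind-smooth over `R/I` ⟹ `Λ`
  ind-smooth over `R`.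
-/
set_option autoImplicit false
set_option linter.style.haveILetI false
universe u

namespace Groth.Agent.Lib.T2H3.IndSmooth

theorem indSmooth_of_ringEquiv {R R' Λ Λ' : Type u} [CommRing R] [CommRing R'] [CommRing Λ]
    [CommRing Λ'] [Algebra R Λ] [Algebra R' Λ'] (e₀ : R ≃+* R') (e : Λ ≃+* Λ')
    (hcomm : ∀ r, e (algebraMap R Λ r) = algebraMap R' Λ' (e₀ r))
    (h : Smoothing.IndSmooth R Λ) : Smoothing.IndSmooth R' Λ' := by
  intro A' _ _ hfp f'
  haveI := hfp
  letI iRR' : Algebra R R' := e₀.toRingHom.toAlgebra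
  letI iRA' : Algebra R A' := ((algebraMap R' A').comp e₀.toRingHom).toAlgebra
  haveI : IsScalarTower R R' A' := IsScalarTower.of_algebraMap_eq (fun r => rfl)
  haveI hfpR : Algebra.FinitePresentation R R' :=
    Algebra.FinitePresentation.equiv (AlgEquiv.ofRingEquiv (f := e₀) (fun _ => rfl))
  have hfpA : Algebra.FinitePresentation R A' := Algebra.FinitePresentation.trans R R' A'
  let f : A' →ₐ[R] Λ :=
    { (e.symm.toRingHom.comp f'.toRingHom) with
      commutes' := fun r => by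
        change e.symm (f' (algebraMap R' A' (e₀ r))) = algebraMap R Λ r
        rw [f'.commutes, ← hcomm, e.symm_apply_apply] }
  have hf : ∀ a, f a = e.symm (f' a) := fun a => rfl
  obtain ⟨B, _, _, hB, g, hh, hcomp⟩ := h A' hfpA f
  haveI := hB
  letI iR'R : Algebra R' R := e₀.symm.toRingHom.toAlgebra
  letI iR'B : Algebra R' B := ((algebraMap R B).comp e₀.symm.toRingHom).toAlgebra
  haveI : IsScalarTower R' R B := IsScalarTower.of_algebraMap_eq (fun r => rfl)
  haveI : Algebra.Smooth R' R :=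
    Algebra.Smooth.of_equiv (AlgEquiv.ofRingEquiv (f := e₀.symm) (fun _ => rfl))
  have hB' : Algebra.Smooth R' B := Algebra.Smooth.comp R' R B
  refine ⟨B, inferInstance, iR'B, hB', ?_⟩
  let g' : A' →ₐ[R'] B :=
    { g.toRingHom with
      commutes' := fun r' => by
        change g (algebraMap R' A' r') = algebraMap R B (e₀.symm r')
        rw [← g.commutes]
        change g (algebraMap R' A' r') = g (algebraMap R' A' (e₀ (e₀.symm r')))
        rw [e₀.apply_symm_apply] }
  let h' : B →ₐ[R'] Λ' :=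
    { (e.toRingHom.comp hh.toRingHom) with
      commutes' := fun r' => by
        change e (hh (algebraMap R B (e₀.symm r'))) = algebraMap R' Λ' r'
        rw [hh.commutes, hcomm, e₀.apply_symm_apply] }
  refine ⟨g', h', ?_⟩
  ext a
  change e (hh (g a)) = f' a
  have : hh (g a) = f a := by rw [← hcomp]; rfl
  rw [this, hf, e.apply_symm_apply]

theorem indSmooth_of_surj_sq_zero {R R₀ Λ Λ₀ : Type u} [CommRing R] [CommRing R₀] [CommRing Λ]
    [CommRing Λ₀] [Algebra R Λ] [Algebra R₀ Λ₀] [Module.Flat R Λ] (p : R →+* R₀) (q : Λ →+* Λ₀)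
    (hp : Function.Surjective p) (hq : Function.Surjective q)
    (hcomm : ∀ r, q (algebraMap R Λ r) = algebraMap R₀ Λ₀ (p r))
    (hker : RingHom.ker q = (RingHom.ker p).map (algebraMap R Λ))
    (hsq : (RingHom.ker p) ^ 2 = ⊥) (h : Smoothing.IndSmooth R₀ Λ₀) :
    Smoothing.IndSmooth R Λ := by
  apply indSmooth_of_sq_zero (RingHom.ker p) hsq
  let e₀ : R₀ ≃+* R ⧸ RingHom.ker p := (RingHom.quotientKerEquivOfSurjective hp).symm
  let e : Λ₀ ≃+* Λ ⧸ (RingHom.ker p).map (algebraMap R Λ) :=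
    ((Ideal.quotEquivOfEq hker.symm).trans (RingHom.quotientKerEquivOfSurjective hq)).symm
  refine indSmooth_of_ringEquiv e₀ e ?_ h
  intro r₀
  obtain ⟨r, rfl⟩ := hp r₀
  have h1 : e₀ (p r) = Ideal.Quotient.mk _ r := by
    rw [RingEquiv.symm_apply_eq]; rfl
  have h2 : e (q (algebraMap R Λ r)) = Ideal.Quotient.mk _ (algebraMap R Λ r) := by
    rw [RingEquiv.symm_apply_eq]; rfl
  rw [← hcomm, h1, h2]; rfl

theorem indSmooth_of_surj_pow (n : ℕ) : ∀ {R R₀ Λ Λ₀ : Type u} [CommRing R] [CommRing R₀]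
    [CommRing Λ] [CommRing Λ₀] [Algebra R Λ] [Algebra R₀ Λ₀] [Module.Flat R Λ] (p : R →+* R₀)
    (q : Λ →+* Λ₀) (_ : Function.Surjective p) (_ : Function.Surjective q)
    (_ : ∀ r, q (algebraMap R Λ r) = algebraMap R₀ Λ₀ (p r))
    (_ : RingHom.ker q = (RingHom.ker p).map (algebraMap R Λ))
    (_ : (RingHom.ker p) ^ n = ⊥) (_ : Smoothing.IndSmooth R₀ Λ₀), Smoothing.IndSmooth R Λ := by
  induction n with
  | zero =>
    intro R R₀ Λ Λ₀ _ _ _ _ _ _ _ p q hp hq hcomm hker hpow h
    refine indSmooth_of_surj_sq_zero p q hp hq hcomm hker ?_ h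
    rw [pow_zero, Ideal.one_eq_top] at hpow
    exact le_bot_iff.mp (hpow ▸ le_top)
  | succ n ih =>
    intro R R₀ Λ Λ₀ _ _ _ _ _ _ _ p q hp hq hcomm hker hpow h
    rcases Nat.eq_zero_or_pos n with rfl | hn
    · refine indSmooth_of_surj_sq_zero p q hp hq hcomm hker ?_ h
      rw [zero_add, pow_one] at hpow
      rw [hpow]
      simp
    · obtain ⟨K, hK⟩ : ∃ K : Ideal R, K = (RingHom.ker p) ^ n := ⟨_, rfl⟩
      have hKle : K ≤ RingHom.ker p := hK ▸ Ideal.pow_le_self hn.ne'
      have hKsq : K ^ 2 = ⊥ := by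
        rw [← le_bot_iff, ← hpow, hK, ← pow_mul]
        exact Ideal.pow_le_pow_right (by omega)
      have hKΛle : K.map (algebraMap R Λ) ≤ RingHom.ker q := by
        rw [hker]; exact Ideal.map_mono hKle
      let p₁ : R ⧸ K →+* R₀ := Ideal.Quotient.lift K p (fun a ha => hKle ha)
      let q₁ : Λ ⧸ K.map (algebraMap R Λ) →+* Λ₀ :=
        Ideal.Quotient.lift (K.map (algebraMap R Λ)) q (fun a ha => hKΛle ha)
      haveI : Module.Flat (R ⧸ K) (Λ ⧸ K.map (algebraMap R Λ)) :=
        Module.Flat.of_linearEquiv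
          (Algebra.TensorProduct.quotIdealMapEquivQuotTensor Λ K).toLinearEquiv
      have h₁ : Smoothing.IndSmooth (R ⧸ K) (Λ ⧸ K.map (algebraMap R Λ)) := by
        refine ih p₁ q₁ ?_ ?_ ?_ ?_ ?_ h
        · exact Ideal.Quotient.lift_surjective_of_surjective _ _ hp
        · exact Ideal.Quotient.lift_surjective_of_surjective _ _ hq
        · intro r
          obtain ⟨r, rfl⟩ := Ideal.Quotient.mk_surjective r
          exact hcomm r
        · rw [Ideal.ker_quotient_lift, Ideal.ker_quotient_lift, hker, Ideal.map_map,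
            Ideal.map_map]
          rfl
        · rw [Ideal.ker_quotient_lift, ← Ideal.map_pow, ← hK, Ideal.map_quotient_self]
      refine indSmooth_of_surj_sq_zero (Ideal.Quotient.mk K)
        (Ideal.Quotient.mk (K.map (algebraMap R Λ))) Ideal.Quotient.mk_surjective
        Ideal.Quotient.mk_surjective (fun r => rfl) ?_ ?_ h₁
      · rw [Ideal.mk_ker, Ideal.mk_ker]
      · rw [Ideal.mk_ker]; exact hKsq

theorem indSmooth_of_nilpotent {R Λ : Type u} [CommRing R] [CommRing Λ] [Algebra R Λ]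
    [Module.Flat R Λ] (I : Ideal R) (hI : IsNilpotent I)
    (h : Smoothing.IndSmooth (R ⧸ I) (Λ ⧸ I.map (algebraMap R Λ))) :
    Smoothing.IndSmooth R Λ := by
  obtain ⟨n, hn⟩ := hI
  refine indSmooth_of_surj_pow n (Ideal.Quotient.mk I) (Ideal.Quotient.mk (I.map (algebraMap R Λ)))
    Ideal.Quotient.mk_surjective Ideal.Quotient.mk_surjective (fun r => rfl) ?_ ?_ h
  · rw [Ideal.mk_ker, Ideal.mk_ker]
  · rw [Ideal.mk_ker]; exact hn

end Groth.Agent.Lib.T2H3.IndSmooth
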