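import Mathlib

/-!
# Inertia degrees over an algebraically closed field are one
-/

set_option autoImplicit false
set_option linter.style.haveILetI false
universe u

namespace Groth.Agent.Lib.T2H3.InertiaOne

theorem inertiaDeg_eq_one_of_isAlgClosed (k A B : Type u) [Field k] [IsAlgClosed k] [CommRing A]
    [CommRing B] [Algebra k A] [Algebra k B] [Algebra A B] [IsScalarTower k A B]
    [Algebra.FiniteType k B]
    (𝔭 : Ideal A) [𝔭.IsMaximal] (P : Ideal B) [P.IsMaximal] [P.LiesOver 𝔭] :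
    P.inertiaDeg A = 1 := by
  rw [Ideal.inertiaDeg_eq_of_isMaximal 𝔭 P]
  letI : Field (A ⧸ 𝔭) := Ideal.Quotient.field 𝔭
  letI : Field (B ⧸ P) := Ideal.Quotient.field P
  haveI : Algebra.FiniteType k (B ⧸ P) :=
    .of_surjective (Ideal.Quotient.mkₐ k P) Ideal.Quotient.mk_surjective
  haveI : Module.Finite k (B ⧸ P) := finite_of_finite_type_of_isJacobsonRing k (B ⧸ P)
  have h1 : Function.Bijective (algebraMap k (B ⧸ P)) :=
    IsAlgClosed.algebraMap_bijective_of_isIntegral
  rw [finrank_eq_one_iff_of_nonzero' (1 : B ⧸ P) one_ne_zero]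
  intro b
  obtain ⟨c, rfl⟩ := h1.surjective b
  refine ⟨algebraMap k (A ⧸ 𝔭) c, ?_⟩
  rw [Algebra.smul_def, mul_one]
  change algebraMap (A ⧸ 𝔭) (B ⧸ P) (Ideal.Quotient.mk 𝔭 (algebraMap k A c)) =
    Ideal.Quotient.mk P (algebraMap k B c)
  rw [IsScalarTower.algebraMap_apply k A B]
  rfl

end Groth.Agent.Lib.T2H3.InertiaOne
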