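import Mathlib

/-!
# Torsors under infinitesimal group schemes: the algebra

`k` a field, `A` an augmented `k`-algebra with nilpotent augmentation ideal (`(ker ε)^N = 0`), `B` a
`k`-algebra with a "coaction" `ρ : B → A ⊗ B` such that `(ρ, 1 ⊗ -) : B ⊗ B → A ⊗ B` is injective and
`(ε ⊗ 1) ∘ ρ = id`.  Then `(b ⊗ 1 - 1 ⊗ b)^N = 0` in `B ⊗ B` for every `b` (`diff_pow_eq_zero`).
Consequences:
* in characteristic `p`, `b ^ p ^ n ∈ k` when `N ≤ p ^ n`, whence a ring map `B → k` restricting to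
  the iterated Frobenius on `k` (`exists_frobenius_section`);
* in characteristic zero, every residue field of a finite such `B` is `k`
  (`exists_section_of_charZero`).
-/

set_option autoImplicit false
set_option linter.style.haveILetI false
universe u

open TensorProduct

namespace Groth.Agent.Lib.T2H3.InfTorsorAlg

section Diff

variable {k A B C D : Type u} [Field k] [CommRing A] [CommRing B] [CommRing C] [CommRing D]
  [Algebra k A] [Algebra k B]
  (eC : A ⊗[k] B ≃+* C) (eD : B ⊗[k] B ≃+* D)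
  (ε : A →+* k) (hε : ∀ c, ε (algebraMap k A c) = c)
  (N : ℕ) (hN : (RingHom.ker ε) ^ N = ⊥)
  (ρ : B →+* C)
  (εX : C →+* B) (hεX1 : ∀ a, εX (eC (a ⊗ₜ 1)) = algebraMap k B (ε a))
  (hεX2 : ∀ b, εX (eC (1 ⊗ₜ b)) = b) (hεXρ : ∀ b, εX (ρ b) = b)
  (Φ : D →+* C) (hΦinj : Function.Injective Φ) (hΦ1 : ∀ b, Φ (eD (b ⊗ₜ 1)) = ρ b)
  (hΦ2 : ∀ b, Φ (eD (1 ⊗ₜ b)) = eC (1 ⊗ₜ b))

include hε hεX1 hεX2 in
/-- the kernel of `εX` is generated by the augmentation ideal of `A`. -/
lemma ker_le_map : RingHom.ker εX ≤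
    Ideal.map (eC.toRingHom.comp Algebra.TensorProduct.includeLeftRingHom) (RingHom.ker ε) := by
  set J := Ideal.map (eC.toRingHom.comp
    (Algebra.TensorProduct.includeLeftRingHom : A →+* A ⊗[k] B)) (RingHom.ker ε) with hJ
  have key : ∀ z : A ⊗[k] B, eC z - eC (1 ⊗ₜ εX (eC z)) ∈ J := by
    intro z
    induction z using TensorProduct.induction_on with
    | zero => simp
    | add x y hx hy =>
      have : eC (x + y) - eC (1 ⊗ₜ εX (eC (x + y))) =
          (eC x - eC (1 ⊗ₜ εX (eC x))) + (eC y - eC (1 ⊗ₜ εX (eC y))) := by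
        rw [map_add, map_add, tmul_add, map_add]; ring
      rw [this]
      exact J.add_mem hx hy
    | tmul a b =>
      have h1 : (a ⊗ₜ[k] b : A ⊗[k] B) = (a ⊗ₜ 1) * (1 ⊗ₜ b) := by
        rw [Algebra.TensorProduct.tmul_mul_tmul, mul_one, one_mul]
      have h2 : εX (eC (a ⊗ₜ[k] b)) = ε a • b := by
        rw [h1, map_mul, map_mul, hεX1, hεX2, Algebra.smul_def]
      have h3 : (1 ⊗ₜ[k] (ε a • b) : A ⊗[k] B) = (algebraMap k A (ε a) ⊗ₜ 1) * (1 ⊗ₜ b) := by
        rw [Algebra.TensorProduct.tmul_mul_tmul, mul_one, one_mul, TensorProduct.tmul_smul,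
          Algebra.algebraMap_eq_smul_one, TensorProduct.smul_tmul']
      have h4 : eC (a ⊗ₜ[k] b) - eC (1 ⊗ₜ εX (eC (a ⊗ₜ[k] b))) =
          eC ((a - algebraMap k A (ε a)) ⊗ₜ 1) * eC (1 ⊗ₜ b) := by
        rw [h2, h3, h1, map_mul, map_mul, sub_tmul, map_sub]; ring
      rw [h4]
      refine J.mul_mem_right _ ?_
      refine Ideal.mem_map_of_mem _ ?_
      rw [RingHom.mem_ker, map_sub, hε, sub_self]
  intro y hy
  rw [RingHom.mem_ker] at hy
  obtain ⟨z, rfl⟩ := eC.surjective y
  have := key z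
  rw [hy, tmul_zero, map_zero, sub_zero] at this
  exact this

include hε hN hεX1 hεX2 hεXρ hΦinj hΦ1 hΦ2 in
/-- `(b ⊗ 1 - 1 ⊗ b)^N = 0`. -/
theorem diff_pow_eq_zero (b : B) : ((b ⊗ₜ[k] 1 - 1 ⊗ₜ[k] b : B ⊗[k] B)) ^ N = 0 := by
  apply eD.injective
  apply hΦinj
  rw [map_zero, map_zero, map_pow, map_pow, map_sub, map_sub, hΦ1, hΦ2]
  have hmem : ρ b - eC (1 ⊗ₜ b) ∈ RingHom.ker εX := by
    rw [RingHom.mem_ker, map_sub, hεXρ, hεX2, sub_self]
  have h1 := ker_le_map eC ε hε εX hεX1 hεX2 hmem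
  have h2 := Ideal.pow_mem_pow h1 N
  rw [← Ideal.map_pow, hN, Ideal.map_bot] at h2
  exact h2

end Diff

section CharP

variable {k B : Type u} [Field k] [CommRing B] [Algebra k B] [Nontrivial B]
  (p : ℕ) [ExpChar k p]

/-- if `(b ⊗ 1 - 1 ⊗ b)^N = 0` for all `b` and `N ≤ p ^ n` (`p` the characteristic), there is a ring
map `B → k` inducing the `n`-fold Frobenius on `k`. -/
theorem exists_frobenius_section (N n : ℕ) (hNn : N ≤ p ^ n)
    (hdiff : ∀ b : B, ((b ⊗ₜ[k] 1 - 1 ⊗ₜ[k] b : B ⊗[k] B)) ^ N = 0) :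
    ∃ F : B →+* k, ∀ c, F (algebraMap k B c) = iterateFrobenius k p n c := by
  have : ExpChar B p := expChar_of_injective_algebraMap (algebraMap k B).injective p
  have : ExpChar (B ⊗[k] B) p :=
    expChar_of_injective_algebraMap (algebraMap k (B ⊗[k] B)).injective p
  have heff : Algebra.IsEffective k B := Algebra.IsEffective.of_faithfullyFlat k B
  have hmem : ∀ b : B, b ^ p ^ n ∈ Set.range (algebraMap k B) := by
    intro b
    have h1 : ((b ⊗ₜ[k] 1 - 1 ⊗ₜ[k] b : B ⊗[k] B)) ^ p ^ n = 0 := by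
      obtain ⟨m, hm⟩ := Nat.exists_eq_add_of_le hNn
      rw [hm, pow_add, hdiff b, zero_mul]
    rw [sub_pow_expChar_pow, Algebra.TensorProduct.tmul_pow, Algebra.TensorProduct.tmul_pow,
      one_pow] at h1
    rw [← heff.eqLocus_includeLeft_includeRight]
    exact sub_eq_zero.mp h1
  let e : k ≃+* (algebraMap k B).range :=
    RingEquiv.ofBijective (algebraMap k B).rangeRestrict
      ⟨fun x y hxy => (algebraMap k B).injective (congrArg Subtype.val hxy),
        (algebraMap k B).rangeRestrict_surjective⟩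
  let Fr : B →+* (algebraMap k B).range :=
    (iterateFrobenius B p n).codRestrict (algebraMap k B).range (fun b => by
      rw [iterateFrobenius_def]
      exact hmem b)
  refine ⟨e.symm.toRingHom.comp Fr, fun c => ?_⟩
  change e.symm (Fr (algebraMap k B c)) = _
  rw [RingEquiv.symm_apply_eq]
  apply Subtype.ext
  change iterateFrobenius B p n (algebraMap k B c) = algebraMap k B (iterateFrobenius k p n c)
  rw [iterateFrobenius_def, iterateFrobenius_def, map_pow]

end CharP

section CharZero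

variable {k : Type u} [Field k] [CharZero k]

/-- in characteristic zero, an element `x` of an algebraic field extension `L` with
`x ⊗ 1 - 1 ⊗ x` nilpotent in `L ⊗ L` lies in `k`. -/
theorem mem_range_of_nilpotent {L : Type u} [Field L] [Algebra k L] [Algebra.IsAlgebraic k L]
    (x : L) (N : ℕ) (hx : ((x ⊗ₜ[k] 1 - 1 ⊗ₜ[k] x : L ⊗[k] L)) ^ N = 0) :
    x ∈ Set.range (algebraMap k L) := by
  classical
  have hint : IsIntegral k x := Algebra.IsIntegral.isIntegral x
  set f := minpoly k x with hf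
  have hsplit : ∀ s : L, IsIntegral k s ∧
      ((minpoly k s).map (algebraMap k (AlgebraicClosure k))).Splits :=
    fun s => ⟨Algebra.IsIntegral.isIntegral s, IsAlgClosed.splits _⟩
  have hroots : ∀ α β : AlgebraicClosure k, Polynomial.aeval α f = 0 → Polynomial.aeval β f = 0 →
      α = β := by
    intro α β hα hβ
    obtain ⟨φα, hφα⟩ := IntermediateField.exists_algHom_of_splits_of_aeval hsplit hα
    obtain ⟨φβ, hφβ⟩ := IntermediateField.exists_algHom_of_splits_of_aeval hsplit hβ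
    let μ : L ⊗[k] L →ₐ[k] AlgebraicClosure k :=
      Algebra.TensorProduct.lift φα φβ (fun _ _ => Commute.all _ _)
    have := congrArg μ hx
    rw [map_pow, map_sub, map_zero, Algebra.TensorProduct.lift_tmul,
      Algebra.TensorProduct.lift_tmul, map_one, map_one, mul_one, one_mul, hφα, hφβ] at this
    exact sub_eq_zero.mp (eq_zero_of_pow_eq_zero this)
  have hsep : f.Separable := (minpoly.irreducible hint).separable
  have hdeg : f.natDegree = 1 := by
    have hmap_sep : (f.map (algebraMap k (AlgebraicClosure k))).Separable := hsep.map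
    have hcard : (f.map (algebraMap k (AlgebraicClosure k))).roots.card = f.natDegree := by
      rw [← Polynomial.natDegree_map (algebraMap k (AlgebraicClosure k))]
      exact (Polynomial.splits_iff_card_roots.mp (IsAlgClosed.splits _))
    have hnodup := Polynomial.nodup_roots hmap_sep
    have hle : (f.map (algebraMap k (AlgebraicClosure k))).roots.card ≤ 1 := by
      rw [← Multiset.toFinset_card_of_nodup hnodup, Finset.card_le_one]
      intro α hα β hβ
      rw [Multiset.mem_toFinset, Polynomial.mem_roots (Polynomial.map_ne_zero (minpoly.ne_zero hint)),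
        Polynomial.IsRoot.def, Polynomial.eval_map, ← Polynomial.aeval_def] at hα hβ
      exact hroots α β hα hβ
    have hpos : 0 < f.natDegree := minpoly.natDegree_pos hint
    omega
  exact (minpoly.natDegree_eq_one_iff).mp hdeg

/-- in characteristic zero: if `(b ⊗ 1 - 1 ⊗ b)^N = 0` for all `b` in a nonzero finite `k`-algebra
`B`, then `B` has a `k`-point. -/
theorem exists_section_of_charZero {B : Type u} [CommRing B] [Algebra k B] [Nontrivial B]
    [Module.Finite k B] (N : ℕ)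
    (hdiff : ∀ b : B, ((b ⊗ₜ[k] 1 - 1 ⊗ₜ[k] b : B ⊗[k] B)) ^ N = 0) :
    ∃ F : B →+* k, ∀ c, F (algebraMap k B c) = c := by
  obtain ⟨𝔪, h𝔪⟩ := Ideal.exists_maximal B
  letI : Field (B ⧸ 𝔪) := Ideal.Quotient.field 𝔪
  haveI : Module.Finite k (B ⧸ 𝔪) :=
    Module.Finite.of_surjective (Ideal.Quotient.mkₐ k 𝔪).toLinearMap
      (Ideal.Quotient.mkₐ_surjective k 𝔪)
  haveI : Algebra.IsAlgebraic k (B ⧸ 𝔪) := Algebra.IsAlgebraic.of_finite k (B ⧸ 𝔪)
  have hsurj : Function.Surjective (algebraMap k (B ⧸ 𝔪)) := by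
    intro y
    obtain ⟨x, rfl⟩ := Ideal.Quotient.mk_surjective y
    have hx : (((Ideal.Quotient.mk 𝔪 x) ⊗ₜ[k] 1 - 1 ⊗ₜ[k] (Ideal.Quotient.mk 𝔪 x) :
        (B ⧸ 𝔪) ⊗[k] (B ⧸ 𝔪))) ^ N = 0 := by
      have := congrArg (Algebra.TensorProduct.map (Ideal.Quotient.mkₐ k 𝔪)
        (Ideal.Quotient.mkₐ k 𝔪)) (hdiff x)
      rw [map_pow, map_sub, map_zero, Algebra.TensorProduct.map_tmul,
        Algebra.TensorProduct.map_tmul, map_one] at this
      exact this
    exact mem_range_of_nilpotent (Ideal.Quotient.mk 𝔪 x) N hx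
  let e : k ≃+* (B ⧸ 𝔪) :=
    RingEquiv.ofBijective (algebraMap k (B ⧸ 𝔪)) ⟨(algebraMap k (B ⧸ 𝔪)).injective, hsurj⟩
  refine ⟨e.symm.toRingHom.comp (Ideal.Quotient.mk 𝔪), fun c => ?_⟩
  change e.symm (Ideal.Quotient.mk 𝔪 (algebraMap k B c)) = c
  rw [RingEquiv.symm_apply_eq]
  rfl

end CharZero

section Aug

/-- the augmentation ideal of a connected Artinian augmented algebra is nilpotent. -/
theorem exists_ker_pow_eq_bot {k A : Type u} [Field k] [CommRing A] [IsArtinianRing A]
    [PreconnectedSpace (PrimeSpectrum A)] (ε : A →+* k) (hε : Function.Surjective ε) :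
    ∃ N : ℕ, (RingHom.ker ε) ^ N = ⊥ := by
  haveI : Subsingleton (PrimeSpectrum A) := subsingleton_of_preconnected_totallyDisconnected
  haveI hmax : (RingHom.ker ε).IsMaximal := RingHom.ker_isMaximal_of_surjective ε hε
  have hnil : nilradical A = RingHom.ker ε := by
    rw [nilradical_eq_sInf]
    apply le_antisymm
    · exact sInf_le hmax.isPrime
    · refine le_sInf (fun q hq => ?_)
      have : (⟨q, hq⟩ : PrimeSpectrum A) = ⟨RingHom.ker ε, hmax.isPrime⟩ := Subsingleton.elim _ _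
      rw [show q = RingHom.ker ε from congrArg PrimeSpectrum.asIdeal this]
  have := IsArtinianRing.isNilpotent_nilradical (R := A)
  rw [hnil] at this
  obtain ⟨N, hN⟩ := this
  exact ⟨N, hN⟩

end Aug

end Groth.Agent.Lib.T2H3.InfTorsorAlg
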