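import Mathlib
import Groth.Prelude.Def_AlgGrp
import Groth.Prelude.Def_NonAbH2
import Groth.Agent.Lib.T2H3InfTorsorAlg
import Groth.Agent.Lib.Helper27GaGm
import Groth.Agent.Lib.Helper12Act
import Groth.Agent.Lib.Helper12Torsor
import Groth.Agent.Lib.Helper12QuotSh

/-!
# Torsors under infinitesimal group schemes over a field
-/

set_option autoImplicit false
set_option linter.style.haveILetI false
universe u

open CategoryTheory MonoidalCategory CartesianMonoidalCategory MonObj GrpObj AlgebraicGeometry Limits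
open TensorProduct

namespace Groth.Agent.Lib.T2H3.InfTorsor

open Groth.Agent.Lib.Helper27.GaGm

variable {K : Type u} [CommRing K]

/-- functions on a product of affine `K`-schemes. -/
theorem exists_tensor_equiv (Y₁ Y₂ : Over (Spec (CommRingCat.of K))) [IsAffine Y₁.left]
    [IsAffine Y₂.left] :
    letI := (fnHom Y₁.hom).toAlgebra
    letI := (fnHom Y₂.hom).toAlgebra
    ∃ e : Γ(Y₁.left, ⊤) ⊗[K] Γ(Y₂.left, ⊤) ≃+* Γ((Y₁ ⊗ Y₂).left, ⊤),
      (∀ a, e (a ⊗ₜ 1) = (fst Y₁ Y₂).left.appTop a) ∧
      (∀ b, e (1 ⊗ₜ b) = (snd Y₁ Y₂).left.appTop b) := by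
  letI := (fnHom Y₁.hom).toAlgebra
  letI := (fnHom Y₂.hom).toAlgebra
  have hpb : IsPullback (fst Y₁ Y₂).left (snd Y₁ Y₂).left Y₁.hom Y₂.hom :=
    IsPullback.of_hasPullback Y₁.hom Y₂.hom
  have hpo := isPushout_appTop_of_isPullback hpb
  have hpo' : IsPushout (CommRingCat.ofHom (algebraMap K Γ(Y₁.left, ⊤)))
      (CommRingCat.ofHom (algebraMap K Γ(Y₂.left, ⊤)))
      (fst Y₁ Y₂).left.appTop (snd Y₁ Y₂).left.appTop := by
    refine hpo.of_iso' (Scheme.ΓSpecIso (CommRingCat.of K)).symm (Iso.refl _) (Iso.refl _)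
      (Iso.refl _) ?_ ?_ ?_ ?_
    · rw [Iso.refl_hom, Category.comp_id]; rfl
    · rw [Iso.refl_hom, Category.comp_id]; rfl
    · simp
    · simp
  let iso := (CommRingCat.isPushout_tensorProduct K Γ(Y₁.left, ⊤) Γ(Y₂.left, ⊤)).isoIsPushout _ _ hpo'
  refine ⟨iso.commRingCatIsoToRingEquiv, fun a => ?_, fun b => ?_⟩
  · have := (CommRingCat.isPushout_tensorProduct K Γ(Y₁.left, ⊤) Γ(Y₂.left, ⊤)).inl_isoIsPushout_hom _ _ hpo'
    exact congrArg (fun k => k.hom a) this
  · have := (CommRingCat.isPushout_tensorProduct K Γ(Y₁.left, ⊤) Γ(Y₂.left, ⊤)).inr_isoIsPushout_hom _ _ hpo'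
    exact congrArg (fun k => k.hom b) this

section Field

variable {K : Type u} [Field K]

/-- the unit section of a `K`-group. -/
noncomputable def unitPt (G : Over (Spec (CommRingCat.of K))) [GrpObj G] :
    Spec (CommRingCat.of K) ⟶ G.left := η[G].left

/-- the augmentation of the coordinate ring of a `K`-group. -/
noncomputable def aug (G : Over (Spec (CommRingCat.of K))) [GrpObj G] : Γ(G.left, ⊤) →+* K :=
  ((unitPt G).appTop ≫ (Scheme.ΓSpecIso (CommRingCat.of K)).hom).hom

lemma aug_apply (G : Over (Spec (CommRingCat.of K))) [GrpObj G] (x : Γ(G.left, ⊤)) :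
    aug G x = (Scheme.ΓSpecIso (CommRingCat.of K)).hom.hom ((unitPt G).appTop.hom x) := rfl

lemma aug_fnHom (G : Over (Spec (CommRingCat.of K))) [GrpObj G] (c : K) :
    aug G (fnHom G.hom c) = c := by
  have hw : unitPt G ≫ G.hom = 𝟙 _ := Over.w η[G]
  have h1 : G.hom.appTop ≫ (unitPt G).appTop = 𝟙 _ := by
    rw [← Scheme.Hom.comp_appTop, hw]
    rfl
  change (Scheme.ΓSpecIso (CommRingCat.of K)).hom.hom
    ((unitPt G).appTop.hom
      (G.hom.appTop.hom ((Scheme.ΓSpecIso (CommRingCat.of K)).inv.hom c))) = c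
  have h2 := congrArg (fun k => k.hom ((Scheme.ΓSpecIso (CommRingCat.of K)).inv.hom c)) h1
  simp only [CommRingCat.hom_comp, RingHom.comp_apply, CommRingCat.hom_id, RingHom.id_apply] at h2
  rw [h2]
  exact congrArg (fun k => k.hom c) (Scheme.ΓSpecIso (CommRingCat.of K)).inv_hom_id

lemma comp_left_appTop {S : Scheme.{u}} {Y Z W : Over S} (f : Y ⟶ Z) (g : Z ⟶ W) (b : Γ(W.left, ⊤)) :
    (f ≫ g).left.appTop b = f.left.appTop (g.left.appTop b) := by
  rw [Over.comp_left, Scheme.Hom.comp_appTop]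
  rfl

/-- in a pseudo-torsor under a group whose augmentation ideal has `N`-th power zero, the two
pull-backs of a function to `X × X` differ by an element of `N`-th power zero. -/
theorem diff_pow_eq_zero_of_pseudoTorsor (G X : Over (Spec (CommRingCat.of K))) [GrpObj G]
    [IsAffine G.left] [IsAffine X.left] (a : AlgGrp.Action G X)
    (hps : NonAbH1.IsPseudoTorsorSch a) (N : ℕ) (hN : (RingHom.ker (aug G)) ^ N = ⊥) :
    letI := (fnHom X.hom).toAlgebra
    ∀ b : Γ(X.left, ⊤), ((b ⊗ₜ[K] 1 - 1 ⊗ₜ[K] b : Γ(X.left, ⊤) ⊗[K] Γ(X.left, ⊤))) ^ N = 0 := by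
  letI := (fnHom X.hom).toAlgebra
  letI := (fnHom G.hom).toAlgebra
  obtain ⟨eC, heC1, heC2⟩ := exists_tensor_equiv G X
  obtain ⟨eD, heD1, heD2⟩ := exists_tensor_equiv X X
  let sec : X ⟶ G ⊗ X := lift (toUnit X ≫ η[G]) (𝟙 X)
  have hsec : sec ≫ a.act = 𝟙 X := by
    have := Groth.Agent.Lib.Helper12.act_one a (𝟙 X)
    rw [Hom.one_def] at this
    exact this
  haveI : IsIso (lift a.act (snd G X)) := hps
  haveI : IsIso (lift a.act (snd G X)).left :=
    inferInstanceAs (IsIso ((Over.forget _).map (lift a.act (snd G X))))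
  haveI : IsIso (lift a.act (snd G X)).left.appTop :=
    inferInstanceAs (IsIso (Scheme.Γ.map (lift a.act (snd G X)).left.op))
  have hΦinj : Function.Injective (lift a.act (snd G X)).left.appTop.hom :=
    (ConcreteCategory.bijective_of_isIso (lift a.act (snd G X)).left.appTop).1
  intro b
  refine Groth.Agent.Lib.T2H3.InfTorsorAlg.diff_pow_eq_zero eC eD (aug G) (aug_fnHom G) N hN
    a.act.left.appTop.hom sec.left.appTop.hom ?_ ?_ ?_
    (lift a.act (snd G X)).left.appTop.hom hΦinj ?_ ?_ b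
  · intro x
    rw [heC1]
    change sec.left.appTop ((fst G X).left.appTop x) = _
    rw [← comp_left_appTop, lift_fst, comp_left_appTop]
    change X.hom.appTop.hom ((unitPt G).appTop.hom x) =
      X.hom.appTop.hom ((Scheme.ΓSpecIso (CommRingCat.of K)).inv.hom (aug G x))
    rw [aug_apply]
    congr 1
    exact (congrArg (fun k => k.hom ((unitPt G).appTop.hom x))
      (Scheme.ΓSpecIso (CommRingCat.of K)).hom_inv_id).symm
  · intro x
    rw [heC2]
    change sec.left.appTop ((snd G X).left.appTop x) = _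
    rw [← comp_left_appTop, lift_snd]
    simp
  · intro x
    change sec.left.appTop (a.act.left.appTop x) = _
    rw [← comp_left_appTop, hsec]
    simp
  · intro x
    rw [heD1]
    change (lift a.act (snd G X)).left.appTop ((fst X X).left.appTop x) = _
    rw [← comp_left_appTop, lift_fst]
  · intro x
    rw [heD2, heC2]
    change (lift a.act (snd G X)).left.appTop ((snd X X).left.appTop x) = _
    rw [← comp_left_appTop, lift_snd]

end Field

section Final

variable {K : Type u} [Field K]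

/-- a ring map `Γ(X) → K` inducing `φ` on `K` gives a section of `X` over `Spec φ`. -/
theorem hasSectionOver_of_ringHom (X : Over (Spec (CommRingCat.of K))) [IsAffine X.left]
    (φ : K →+* K) (F : Γ(X.left, ⊤) →+* K) (hF : ∀ c, F (fnHom X.hom c) = φ c) :
    NonAbH1.HasSectionOver X (Spec.map (CommRingCat.ofHom φ)) := by
  refine ⟨Spec.map (CommRingCat.ofHom F) ≫ X.left.isoSpec.inv, ?_⟩
  rw [Category.assoc, ← Scheme.isoSpec_inv_naturality, Scheme.isoSpec_Spec_inv, ← Spec.map_comp,
    ← Spec.map_comp]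
  congr 1
  ext c
  exact hF c

lemma finite_fnHom (Y : Over (Spec (CommRingCat.of K))) [IsFinite Y.hom] :
    (fnHom Y.hom).Finite := by
  have h1 : Y.hom.appTop.hom.Finite := Scheme.Hom.finite_appTop Y.hom
  have h2 : (Scheme.ΓSpecIso (CommRingCat.of K)).inv.hom.Finite :=
    RingHom.Finite.of_surjective _
      (ConcreteCategory.bijective_of_isIso (Scheme.ΓSpecIso (CommRingCat.of K)).inv).2
  exact h1.comp h2

/-- the augmentation ideal of a finite connected `K`-group is nilpotent. -/
theorem exists_ker_aug_pow (G : Over (Spec (CommRingCat.of K))) [GrpObj G] [IsFinite G.hom]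
    [ConnectedSpace G.left] : ∃ N : ℕ, (RingHom.ker (aug G)) ^ N = ⊥ := by
  haveI : IsAffine G.left := isAffine_of_isAffineHom G.hom
  letI := (fnHom G.hom).toAlgebra
  haveI : Module.Finite K Γ(G.left, ⊤) := finite_fnHom G
  haveI : IsArtinianRing Γ(G.left, ⊤) := IsArtinianRing.of_finite K _
  haveI : ConnectedSpace (Spec Γ(G.left, ⊤)) :=
    (G.left.isoSpec.hom.homeomorph).surjective.connectedSpace
      (G.left.isoSpec.hom.homeomorph).continuous
  haveI : PreconnectedSpace (PrimeSpectrum Γ(G.left, ⊤)) :=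
    inferInstanceAs (PreconnectedSpace (Spec Γ(G.left, ⊤)))
  refine Groth.Agent.Lib.T2H3.InfTorsorAlg.exists_ker_pow_eq_bot (aug G) ?_
  intro c
  exact ⟨fnHom G.hom c, aug_fnHom G c⟩

/-- torsors under a finite connected group over a field become trivial after a purely
inseparable extension of bounded exponent. -/
theorem exists_hasSectionOver_iterateFrobenius (p : ℕ) [ExpChar K p]
    (G : Over (Spec (CommRingCat.of K))) [GrpObj G] [IsFinite G.hom] [ConnectedSpace G.left] :
    ∃ n : ℕ, ∀ (X : Over (Spec (CommRingCat.of K))) (a : AlgGrp.Action G X),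
      NonAbH1.IsTorsorFor Scheme.fppfPrecoverage a →
      NonAbH1.HasSectionOver X (Spec.map (CommRingCat.ofHom (iterateFrobenius K p n))) := by
  obtain ⟨N, hN⟩ := exists_ker_aug_pow G
  haveI : IsAffine G.left := isAffine_of_isAffineHom G.hom
  -- facts about an arbitrary torsor
  have hX : ∀ (X : Over (Spec (CommRingCat.of K))) (a : AlgGrp.Action G X),
      NonAbH1.IsTorsorFor Scheme.fppfPrecoverage a →
      IsFinite X.hom ∧ Nonempty X.left := by
    intro X a h
    obtain ⟨hps, R', hR', hsec⟩ := h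
    refine ⟨?_, ?_⟩
    · exact Groth.Agent.Lib.Helper12.of_mem_fpqcPrecoverage
        Groth.Agent.Lib.Helper12.descendsAlong_isFinite X.hom R'
        (Scheme.fppfPrecoverage_le_fpqcPrecoverage _ hR')
        (fun Y' f' hf' => Groth.Agent.Lib.Helper12.pullback_snd_of_hasSectionOver a
          (P := @IsFinite) hps inferInstance f' (hsec f' hf'))
    · have x₀ : (Spec (CommRingCat.of K) : Scheme.{u}) := Classical.arbitrary _
      obtain ⟨Y, g, hg, y, -⟩ := Scheme.JointlySurjective.exists_eq R' hR' x₀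
      obtain ⟨s, -⟩ := hsec g hg
      exact ⟨s y⟩
  rcases expChar_is_prime_or_one K p with hp | hp1
  · refine ⟨N, fun X a h => ?_⟩
    obtain ⟨hfin, hne⟩ := hX X a h
    haveI := hfin
    haveI : IsAffine X.left := isAffine_of_isAffineHom X.hom
    letI := (fnHom X.hom).toAlgebra
    haveI : Nontrivial Γ(X.left, ⊤) := by
      haveI : Nonempty (⊤ : X.left.Opens) := ⟨⟨hne.some, trivial⟩⟩
      exact X.left.component_nontrivial ⊤
    have hdiff := diff_pow_eq_zero_of_pseudoTorsor G X a h.1 N hN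
    obtain ⟨F, hF⟩ := Groth.Agent.Lib.T2H3.InfTorsorAlg.exists_frobenius_section p N N
      (Nat.lt_pow_self hp.one_lt).le hdiff
    exact hasSectionOver_of_ringHom X _ F hF
  · subst hp1
    haveI : CharZero K := charZero_of_expChar_one' K
    refine ⟨0, fun X a h => ?_⟩
    obtain ⟨hfin, hne⟩ := hX X a h
    haveI := hfin
    haveI : IsAffine X.left := isAffine_of_isAffineHom X.hom
    letI := (fnHom X.hom).toAlgebra
    haveI : Module.Finite K Γ(X.left, ⊤) := finite_fnHom X
    haveI : Nontrivial Γ(X.left, ⊤) := by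
      haveI : Nonempty (⊤ : X.left.Opens) := ⟨⟨hne.some, trivial⟩⟩
      exact X.left.component_nontrivial ⊤
    have hdiff := diff_pow_eq_zero_of_pseudoTorsor G X a h.1 N hN
    obtain ⟨F, hF⟩ := Groth.Agent.Lib.T2H3.InfTorsorAlg.exists_section_of_charZero N hdiff
    refine hasSectionOver_of_ringHom X _ F (fun c => (hF c).trans ?_)
    rw [iterateFrobenius_def, pow_zero, pow_one]

end Final

end Groth.Agent.Lib.T2H3.InfTorsor
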