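import Groth.Prelude.Def_Wider
import Groth.Agent.S0305
import Groth.Agent.S0306
import Groth.Agent.S0307
import Groth.Agent.S0311
import Groth.Agent.S0314
import Groth.Agent.S11661
import Mathlib

/-!
# Injective modules over Noetherian rings as filtered colimits of modules finite over Artinian algebras
-/

set_option autoImplicit false
set_option linter.style.haveILetI false
universe u

open CategoryTheory CategoryTheory.Limits

namespace Groth.Agent.Lib.T2H3.InjColim

variable {A : Type u} [CommRing A]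

/-- `M` is a finite module over some Artinian `A`-algebra, compatibly. -/
def Good (A : Type u) [CommRing A] (M : Type u) [AddCommGroup M] [Module A M] : Prop :=
  ∃ (B : Type u) (_ : CommRing B) (_ : Algebra A B) (_ : IsArtinianRing B)
    (_ : Module B M) (_ : IsScalarTower A B M), Module.Finite B M

theorem Good.of_equiv {M M' : Type u} [AddCommGroup M] [Module A M] [AddCommGroup M']
    [Module A M'] (e : M ≃ₗ[A] M') (h : Good A M') : Good A M := by
  obtain ⟨B, iB, iAB, hArt, iBM, iT, hfin⟩ := h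
  letI : Module B M := e.toAddEquiv.module B
  haveI : IsScalarTower A B M := LinearEquiv.isScalarTower B e
  refine ⟨B, iB, iAB, hArt, inferInstance, inferInstance, ?_⟩
  exact Module.Finite.equiv (e.toAddEquiv.linearEquiv B).symm

theorem finite_pi {ι' : Type u} [Fintype ι'] [DecidableEq ι'] (B : ι' → Type u)
    [∀ i, CommRing (B i)] (M : ι' → Type u) [∀ i, AddCommGroup (M i)] [∀ i, Module (B i) (M i)]
    [∀ i, Module.Finite (B i) (M i)] : Module.Finite (∀ i, B i) (∀ i, M i) := by
  classical
  have hS : ∀ i, ∃ S : Finset (M i), Submodule.span (B i) (S : Set (M i)) = ⊤ := fun i =>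
    (Module.finite_def.mp inferInstance : (⊤ : Submodule (B i) (M i)).FG)
  choose S hS using hS
  refine ⟨⟨Finset.univ.biUnion (fun i => (S i).image (Pi.single i)), ?_⟩⟩
  rw [eq_top_iff]
  intro x _
  rw [← Finset.univ_sum_single x]
  refine Submodule.sum_mem _ fun i _ => ?_
  have hx : x i ∈ Submodule.span (B i) (S i : Set (M i)) := by rw [hS i]; trivial
  generalize x i = y at hx
  induction hx using Submodule.span_induction with
  | mem m hm =>
    apply Submodule.subset_span
    simp only [Finset.coe_biUnion, Finset.coe_univ, Set.mem_univ, Set.iUnion_true, Set.mem_iUnion,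
      Finset.coe_image]
    exact ⟨i, m, hm, rfl⟩
  | zero => rw [Pi.single_zero]; exact Submodule.zero_mem _
  | add a b _ _ ha hb => rw [Pi.single_add]; exact Submodule.add_mem _ ha hb
  | smul b m _ hm =>
    have : (Pi.single i (b • m) : ∀ j, M j) = (Pi.single i b : ∀ j, B j) • (Pi.single i m : ∀ j, M j) := by
      funext j
      by_cases hj : j = i
      · subst hj; simp
      · simp [Pi.single_eq_of_ne hj]
    rw [this]
    exact Submodule.smul_mem _ _ hm

theorem Good.pi {ι' : Type u} [Fintype ι'] [DecidableEq ι'] (M : ι' → Type u)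
    [∀ i, AddCommGroup (M i)] [∀ i, Module A (M i)] (h : ∀ i, Good A (M i)) :
    Good A (∀ i, M i) := by
  choose B iB iAB hArt iBM iT hfin using h
  letI := iB
  letI := iAB
  letI := iBM
  haveI := hArt
  haveI := iT
  haveI := hfin
  refine ⟨∀ i, B i, inferInstance, inferInstance, inferInstance, inferInstance, ?_, finite_pi B M⟩
  constructor
  intro a b m
  funext i
  simp only [Pi.smul_apply, Pi.smul_apply']
  exact smul_assoc _ _ _

theorem isArtinianRing_quot_pow (R : Type u) [CommRing R] [IsNoetherianRing R] [IsLocalRing R]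
    (n : ℕ) : IsArtinianRing (R ⧸ IsLocalRing.maximalIdeal R ^ (n + 1)) := by
  apply IsLocalRing.quotient_artinian_of_mem_minimalPrimes_of_isLocalRing
  refine ⟨⟨inferInstance, Ideal.pow_le_self (Nat.succ_ne_zero n)⟩, ?_⟩
  rintro q ⟨hq, hle⟩ _
  exact hq.le_of_pow_le hle

/-- Lemma Q. -/
theorem good_torsion (R : Type u) [CommRing R] [Algebra A R] [IsNoetherianRing R] [IsLocalRing R]
    (E' : Type u) [AddCommGroup E'] [Module R E'] [Module A E'] [IsScalarTower A R E']
    [IsArtinian R E'] (n : ℕ) :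
    Good A ↥(Submodule.torsionBySet R E' ((IsLocalRing.maximalIdeal R ^ (n + 1) : Ideal R) : Set R)) := by
  set I : Ideal R := IsLocalRing.maximalIdeal R ^ (n + 1) with hI
  haveI : IsArtinianRing (R ⧸ I) := isArtinianRing_quot_pow R n
  refine ⟨R ⧸ I, inferInstance, inferInstance, inferInstance, inferInstance, inferInstance, ?_⟩
  have hart : IsArtinian (R ⧸ I) ↥(Submodule.torsionBySet R E' (I : Set R)) :=
    isArtinian_of_tower R inferInstance
  exact ((IsArtinianRing.tfae (R ⧸ I) ↥(Submodule.torsionBySet R E' (I : Set R))).out 0 2).mpr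
    hart

section Loc

variable [IsNoetherianRing A] (p : Ideal A) [p.IsPrime] (E : Type u) [AddCommGroup E] [Module A E]
  (f : (A ⧸ p) →ₗ[A] E) (hf : InjHull.IsInjectiveHull f)

include hf in
theorem mk_bijective : Function.Bijective (LocalizedModule.mkLinearMap p.primeCompl E) :=
  ((Groth.Agent.S11661.result A p.primeCompl p E f hf).2
    (Set.disjoint_left.mpr fun _ hx hx' => hx' hx)).1

include hf in
theorem exists_hull_loc :
    ∃ g : IsLocalRing.ResidueField (Localization.AtPrime p) →ₗ[Localization.AtPrime p]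
      LocalizedModule p.primeCompl E, InjHull.IsInjectiveHull g := by
  obtain ⟨g, hg⟩ := ((Groth.Agent.S11661.result A p.primeCompl p E f hf).2
    (Set.disjoint_left.mpr fun _ hx hx' => hx' hx)).2
  have hI : IsLocalRing.maximalIdeal (Localization.AtPrime p) =
      p.map (algebraMap A (Localization.AtPrime p)) :=
    (Localization.AtPrime.map_eq_maximalIdeal).symm
  let e0 : IsLocalRing.ResidueField (Localization.AtPrime p) ≃+*
      (Localization.AtPrime p ⧸ p.map (algebraMap A (Localization.AtPrime p))) :=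
    Ideal.quotEquivOfEq hI
  let e : IsLocalRing.ResidueField (Localization.AtPrime p) →ₗ[Localization.AtPrime p]
      (Localization.AtPrime p ⧸ p.map (algebraMap A (Localization.AtPrime p))) :=
    { toFun := fun x => e0 x
      map_add' := fun x y => map_add e0 x y
      map_smul' := fun r x => by
        rw [Algebra.smul_def, map_mul, RingHom.id_apply]
        change _ = algebraMap _ _ r * e0 x
        rfl }
  have he : Function.Bijective e := e0.bijective
  refine ⟨g ∘ₗ e, ⟨⟨hg.injective.comp he.1, ?_⟩, hg.isInjective⟩⟩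
  intro N hN
  have : LinearMap.range (g ∘ₗ e) = LinearMap.range g := by
    rw [LinearMap.range_comp, LinearMap.range_eq_top.mpr he.2, Submodule.map_top]
  rw [this]
  exact hg.essential N hN

include hf in
theorem isArtinian_loc : IsArtinian (Localization.AtPrime p) (LocalizedModule p.primeCompl E) := by
  obtain ⟨g, hg⟩ := exists_hull_loc p E f hf
  exact Groth.Agent.S0314.result _ _ g hg

include hf in
theorem isPowerTorsion_loc :
    LocCoh.IsPowerTorsion (IsLocalRing.maximalIdeal (Localization.AtPrime p))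
      (LocalizedModule p.primeCompl E) := by
  obtain ⟨g, hg⟩ := exists_hull_loc p E f hf
  exact Groth.Agent.S0311.result _ _ g hg

omit [IsNoetherianRing A] in
theorem map_pow_smul_mk {n : ℕ} {x : E} (hx : ∀ a ∈ p ^ n, a • x = 0)
    (r : Localization.AtPrime p)
    (hr : r ∈ IsLocalRing.maximalIdeal (Localization.AtPrime p) ^ n) :
    r • LocalizedModule.mkLinearMap p.primeCompl E x = 0 := by
  rw [← Localization.AtPrime.map_eq_maximalIdeal (I := p), ← Ideal.map_pow] at hr
  have hle : (p ^ n).map (algebraMap A (Localization.AtPrime p)) ≤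
      Ideal.torsionOf (Localization.AtPrime p) _ (LocalizedModule.mkLinearMap p.primeCompl E x) := by
    rw [Ideal.map_le_iff_le_comap]
    intro a ha
    rw [Ideal.mem_comap, Ideal.mem_torsionOf_iff, algebraMap_smul, ← map_smul, hx a ha, map_zero]
  exact (Ideal.mem_torsionOf_iff _ _).mp (hle hr)

include hf in
theorem smul_eq_zero_of_mk {n : ℕ} {x : E}
    (hx : ∀ r ∈ IsLocalRing.maximalIdeal (Localization.AtPrime p) ^ n,
      r • LocalizedModule.mkLinearMap p.primeCompl E x = 0) (a : A) (ha : a ∈ p ^ n) :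
    a • x = 0 := by
  apply (mk_bijective p E f hf).1
  rw [map_zero, map_smul, ← algebraMap_smul (Localization.AtPrime p)]
  apply hx
  rw [← Localization.AtPrime.map_eq_maximalIdeal (I := p), ← Ideal.map_pow]
  exact Ideal.mem_map_of_mem _ ha

include hf in
theorem exists_mem_torsion (x : E) :
    ∃ n : ℕ, x ∈ Submodule.torsionBySet A E ((p ^ (n + 1) : Ideal A) : Set A) := by
  obtain ⟨n, hn⟩ := isPowerTorsion_loc p E f hf (LocalizedModule.mkLinearMap p.primeCompl E x)
  refine ⟨n, ?_⟩
  rw [Submodule.mem_torsionBySet_iff]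
  rintro ⟨a, ha⟩
  exact smul_eq_zero_of_mk p E f hf hn a (Ideal.pow_le_pow_right (Nat.le_succ n) ha)

/-- the map on torsion pieces. -/
noncomputable def torsMap (n : ℕ) :
    ↥(Submodule.torsionBySet A E ((p ^ n : Ideal A) : Set A)) →ₗ[A]
    ↥(Submodule.torsionBySet (Localization.AtPrime p) (LocalizedModule p.primeCompl E)
      ((IsLocalRing.maximalIdeal (Localization.AtPrime p) ^ n : Ideal _) : Set _)) where
  toFun x := ⟨LocalizedModule.mkLinearMap p.primeCompl E x.1, by
    rw [Submodule.mem_torsionBySet_iff]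
    rintro ⟨r, hr⟩
    exact map_pow_smul_mk p E
      (fun a ha => (Submodule.mem_torsionBySet_iff _ _).mp x.2 ⟨a, ha⟩) r hr⟩
  map_add' x y := Subtype.ext (by simp)
  map_smul' a x := Subtype.ext (by simp)

omit [IsNoetherianRing A] in
theorem torsMap_coe (n : ℕ) (x : ↥(Submodule.torsionBySet A E ((p ^ n : Ideal A) : Set A))) :
    ((torsMap p E n x : ↥(Submodule.torsionBySet (Localization.AtPrime p)
      (LocalizedModule p.primeCompl E)
      ((IsLocalRing.maximalIdeal (Localization.AtPrime p) ^ n : Ideal _) : Set _))) :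
      LocalizedModule p.primeCompl E) = LocalizedModule.mkLinearMap p.primeCompl E x.1 := rfl

include hf in
theorem torsMap_bijective (n : ℕ) : Function.Bijective (torsMap p E n) := by
  refine ⟨fun x y hxy => ?_, fun y => ?_⟩
  · apply Subtype.ext
    apply (mk_bijective p E f hf).1
    rw [← torsMap_coe, ← torsMap_coe, hxy]
  · obtain ⟨x, hx⟩ := (mk_bijective p E f hf).2 y.1
    refine ⟨⟨x, ?_⟩, Subtype.ext hx⟩
    rw [Submodule.mem_torsionBySet_iff]
    rintro ⟨a, ha⟩
    refine smul_eq_zero_of_mk p E f hf (n := n) (fun r hr => ?_) a ha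
    rw [hx]
    exact (Submodule.mem_torsionBySet_iff _ _).mp y.2 ⟨r, hr⟩

include hf in
theorem good_torsion_hull (n : ℕ) :
    Good A ↥(Submodule.torsionBySet A E ((p ^ (n + 1) : Ideal A) : Set A)) := by
  haveI := isArtinian_loc p E f hf
  exact Good.of_equiv (LinearEquiv.ofBijective _ (torsMap_bijective p E f hf (n + 1)))
    (good_torsion (Localization.AtPrime p) (LocalizedModule p.primeCompl E) n)

end Loc

section Colim

variable {J : Type u} [AddCommGroup J] [Module A J]

theorem good_iSup {ι' : Type u} [Fintype ι'] [DecidableEq ι'] (N : ι' → Submodule A J)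
    (hind : iSupIndep N) (h : ∀ i, Good A ↥(N i)) : Good A ↥(⨆ i, N i) := by
  let e1 : (Π₀ i, ↥(N i)) ≃ₗ[A] ↥(LinearMap.range (DFinsupp.lsum ℕ fun i => (N i).subtype)) :=
    LinearEquiv.ofInjective _ hind.dfinsupp_lsum_injective
  let e2 : ↥(⨆ i, N i) ≃ₗ[A] ↥(LinearMap.range (DFinsupp.lsum ℕ fun i => (N i).subtype)) :=
    LinearEquiv.ofEq _ _ (Submodule.iSup_eq_range_dfinsupp_lsum N)
  let e3 : (Π₀ i, ↥(N i)) ≃ₗ[A] (∀ i, ↥(N i)) := DFinsupp.linearEquivFunOnFintype
  exact Good.of_equiv (e2.trans (e1.symm.trans e3)) (Good.pi _ h)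

theorem exists_colimit {ι : Type u} [Preorder ι] [IsDirectedOrder ι] [Nonempty ι]
    (M : ι → Submodule A J) (hmono : Monotone M) (hcov : ∀ x, ∃ k, x ∈ M k) :
    ∃ (D : ι ⥤ ModuleCat.{u} A) (c : Cocone D) (_ : IsColimit c),
      Nonempty (c.pt ≅ ModuleCat.of A J) ∧ ∀ k, D.obj k = ModuleCat.of A ↥(M k) := by
  classical
  let G : ι → Type u := fun k => ↥(M k)
  let f : ∀ i j, i ≤ j → G i →ₗ[A] G j := fun i j h => Submodule.inclusion (hmono h)
  haveI : DirectedSystem G fun i j h => f i j h :=
    ⟨fun _ _ => rfl, fun _ _ _ _ _ _ => rfl⟩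
  refine ⟨ModuleCat.directLimitDiagram G f, ModuleCat.directLimitCocone G f,
    ModuleCat.directLimitIsColimit G f, ⟨?_⟩, fun k => rfl⟩
  let L : Module.DirectLimit G f →ₗ[A] J :=
    Module.DirectLimit.lift A ι G f (fun k => (M k).subtype) (fun _ _ _ _ => rfl)
  have hinj : Function.Injective L :=
    Module.DirectLimit.lift_injective _ _ (fun k => Submodule.injective_subtype _)
  have hsurj : Function.Surjective L := by
    intro x
    obtain ⟨k, hk⟩ := hcov x
    exact ⟨Module.DirectLimit.of A ι G f k ⟨x, hk⟩, Module.DirectLimit.lift_of _ _ _⟩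
  exact (LinearEquiv.ofBijective L ⟨hinj, hsurj⟩).toModuleIso

end Colim

section Main

theorem isInjectiveHull_comp_incl (p : Ideal A) [p.IsPrime] {E : Type u} [AddCommGroup E]
    [Module A E] (g : p.ResidueField →ₗ[A] E) (hg : InjHull.IsInjectiveHull g) :
    InjHull.IsInjectiveHull (g ∘ₗ Groth.Agent.S0305.incl p) := by
  have hi := Groth.Agent.S0305.incl_essential p
  refine ⟨⟨hg.injective.comp hi.injective, ?_⟩, hg.isInjective⟩
  intro N hN
  obtain ⟨y, ⟨hyN, ⟨x, rfl⟩⟩, hy0⟩ := Submodule.exists_mem_ne_zero_of_ne_bot (hg.essential N hN)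
  have hx0 : x ≠ 0 := fun h => hy0 (by rw [h, map_zero])
  have hN' : N.comap g ≠ ⊥ := by
    intro h
    have hx : x ∈ N.comap g := hyN
    rw [h, Submodule.mem_bot] at hx
    exact hx0 hx
  obtain ⟨z, ⟨hzN, ⟨a, rfl⟩⟩, hz0⟩ :=
    Submodule.exists_mem_ne_zero_of_ne_bot (hi.essential _ hN')
  intro hbot
  have hmem : g (Groth.Agent.S0305.incl p a) ∈
      N ⊓ LinearMap.range (g ∘ₗ Groth.Agent.S0305.incl p) := ⟨hzN, ⟨a, rfl⟩⟩
  rw [hbot, Submodule.mem_bot] at hmem
  exact hz0 (hg.injective (hmem.trans (map_zero g).symm))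

theorem main (A : Type u) [CommRing A] [IsNoetherianRing A] (J : Type u) [AddCommGroup J]
    [Module A J] [Module.Injective A J] :
    ∃ (ι : Type u) (_ : SmallCategory ι) (_ : IsFiltered ι) (D : ι ⥤ ModuleCat.{u} A)
      (c : Cocone D) (_ : IsColimit c), Nonempty (c.pt ≅ ModuleCat.of A J) ∧
      ∀ i : ι, Good A (D.obj i) := by
  classical
  obtain ⟨I, E, hint, hE⟩ := Groth.Agent.S0307.result A J inferInstance
  have h6 : ∀ i, ∃ (p : Ideal A) (_ : p.IsPrime) (g : p.ResidueField →ₗ[A] E i),
      InjHull.IsInjectiveHull g := fun i => Groth.Agent.S0306.result A (E i) (hE i).1 (hE i).2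
  choose p hp g hg using h6
  haveI : ∀ i, (p i).IsPrime := hp
  let fi : ∀ i, (A ⧸ p i) →ₗ[A] E i := fun i => g i ∘ₗ Groth.Agent.S0305.incl (p i)
  have hfi : ∀ i, InjHull.IsInjectiveHull (fi i) := fun i =>
    isInjectiveHull_comp_incl (p i) (g i) (hg i)
  let N : I → ℕ → Submodule A J := fun i n =>
    (Submodule.torsionBySet A ↥(E i) ((p i ^ (n + 1) : Ideal A) : Set A)).map (E i).subtype
  have hNle : ∀ i n, N i n ≤ E i := fun i n => Submodule.map_subtype_le _ _
  have hNmono : ∀ i, Monotone (N i) := by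
    intro i n n' h
    apply Submodule.map_mono
    apply Submodule.torsionBySet_le_torsionBySet_of_subset
    exact Ideal.pow_le_pow_right (Nat.succ_le_succ h)
  have hNgood : ∀ i n, Good A ↥(N i n) := fun i n =>
    Good.of_equiv (Submodule.equivMapOfInjective (E i).subtype (E i).injective_subtype _).symm
      (good_torsion_hull (p i) ↥(E i) (fi i) (hfi i) n)
  let M : Finset I × ℕ → Submodule A J := fun k => ⨆ i : {i // i ∈ k.1}, N i.1 k.2
  have hMmono : Monotone M := by
    intro k k' h
    exact iSup_le fun i => le_iSup_of_le (⟨i.1, h.1 i.2⟩ : {i // i ∈ k'.1}) (hNmono i.1 h.2)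
  have hMcov : ∀ x : J, ∃ k, x ∈ M k := by
    intro x
    have hx : x ∈ ⨆ i, E i := by rw [hint.submodule_iSup_eq_top]; trivial
    refine Submodule.iSup_induction E (motive := fun x => ∃ k, x ∈ M k) hx ?_ ?_ ?_
    · intro i x hx
      obtain ⟨n, hn⟩ := exists_mem_torsion (p i) ↥(E i) (fi i) (hfi i) ⟨x, hx⟩
      refine ⟨(({i} : Finset I), n), ?_⟩
      have h1 : x ∈ N i n := ⟨⟨x, hx⟩, hn, rfl⟩
      exact le_iSup (fun j : {j // j ∈ ({i} : Finset I)} => N j.1 n)
        ⟨i, Finset.mem_singleton_self i⟩ h1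
    · exact ⟨(∅, 0), zero_mem _⟩
    · rintro x y ⟨k1, h1⟩ ⟨k2, h2⟩
      exact ⟨k1 ⊔ k2, add_mem (hMmono le_sup_left h1) (hMmono le_sup_right h2)⟩
  have hMgood : ∀ k, Good A ↥(M k) := by
    intro k
    refine good_iSup (fun i : {i // i ∈ k.1} => N i.1 k.2) ?_ (fun i => hNgood i.1 k.2)
    exact (hint.submodule_iSupIndep.comp Subtype.val_injective).mono (fun i => hNle i.1 k.2)
  obtain ⟨D, c, hc, hiso, hD⟩ := exists_colimit M hMmono hMcov
  refine ⟨Finset I × ℕ, Preorder.smallCategory _, isFiltered_of_directed_le_nonempty _,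
    D, c, hc, hiso, fun k => ?_⟩
  rw [hD k]
  exact hMgood k

end Main

end Groth.Agent.Lib.T2H3.InjColim
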