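import Mathlib
import Groth.Agent.Lib.T2H7FPFlatD
import Groth.Agent.Lib.Helper5LocalFlat2

/-!
# Injectivity modulo the fibre versus injectivity with flat cokernel: chart form (helper3)

Non-Noetherian finitely presented version (via helper7's Stacks 046Z) in the form needed on an
affine chart `Spec B → Spec A`.
-/

set_option autoImplicit false
set_option linter.style.haveILetI false
universe u

namespace Groth.Agent.Lib.T2H3.InjFib

open Function

/-- injective with flat cokernel ⇒ reflects membership in `I • ⊤`. -/
theorem mem_smul_top_of_injective_of_flat {A : Type*} [CommRing A] {M N C : Type*}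
    [AddCommGroup M] [Module A M] [AddCommGroup N] [Module A N] [AddCommGroup C] [Module A C]
    [Module.Flat A C] (u : M →ₗ[A] N) (π : N →ₗ[A] C) (hu : Injective u) (hπ : Surjective π)
    (hex : Function.Exact u π) (I : Ideal A) (x : M)
    (hx : u x ∈ (I • ⊤ : Submodule A N)) : x ∈ (I • ⊤ : Submodule A M) := by
  have := LinearMap.lTensor_injective_of_exact_of_flat π hπ u hu hex (A ⧸ I)
  exact (Groth.Agent.Lib.Helper5.lTensor_quotient_injective_iff u I).mp this x hx

/-- Membership in `I • ⊤` is transported by linear equivalences. -/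
theorem mem_smul_top_iff_of_linearEquiv {A : Type*} [CommRing A] {N N' : Type*}
    [AddCommGroup N] [Module A N] [AddCommGroup N'] [Module A N'] (T : N ≃ₗ[A] N') (I : Ideal A)
    (n : N) : T n ∈ (I • ⊤ : Submodule A N') ↔ n ∈ (I • ⊤ : Submodule A N) := by
  have h : (I • ⊤ : Submodule A N').comap (T : N →ₗ[A] N') = (I • ⊤ : Submodule A N) := by
    have h1 : (I • ⊤ : Submodule A N).map (T : N →ₗ[A] N') = (I • ⊤ : Submodule A N') := by
      rw [Submodule.map_smul'', Submodule.map_top, LinearEquiv.range]
    rw [← h1]
    exact Submodule.comap_map_eq_of_injective T.injective _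
  rw [← h]
  rfl

/-- `(I S) • ⊤` over `S` is `I • ⊤` over `A`, as sets. -/
theorem mem_map_smul_top_iff {A S : Type*} [CommRing A] [CommRing S] [Algebra A S] {N : Type*}
    [AddCommGroup N] [Module A N] [Module S N] [IsScalarTower A S N] (I : Ideal A) (n : N) :
    n ∈ (I.map (algebraMap A S) • ⊤ : Submodule S N) ↔ n ∈ (I • ⊤ : Submodule A N) := by
  have h := Ideal.smul_restrictScalars (R := A) (S := S) I (⊤ : Submodule S N)
  rw [Submodule.restrictScalars_top] at h
  rw [← h, Submodule.restrictScalars_mem]

variable {A B : Type u} [CommRing A] [CommRing B] [Algebra A B]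

section Chart

variable [Algebra.FinitePresentation A B] (p : Ideal A) [p.IsPrime] (q : Ideal B) [q.IsPrime]
  [q.LiesOver p]
  {M0 N0 C0 : Type u} [AddCommGroup M0] [Module B M0] [Module A M0] [IsScalarTower A B M0]
  [Module.FinitePresentation B M0]
  [AddCommGroup N0] [Module B N0] [Module A N0] [IsScalarTower A B N0]
  [Module.FinitePresentation B N0]
  [AddCommGroup C0] [Module B C0] [Module A C0] [IsScalarTower A B C0]
  (u0 : M0 →ₗ[B] N0) (π0 : N0 →ₗ[B] C0)

theorem chart_iff (hπ : Surjective π0) (hex : Function.Exact u0 π0)
    (hflat : Module.Flat A (LocalizedModule q.primeCompl N0)) :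
    (Injective (LocalizedModule.map q.primeCompl u0) ∧
      Module.Flat A (LocalizedModule q.primeCompl C0)) ↔
    ∀ z : LocalizedModule q.primeCompl M0,
      LocalizedModule.map q.primeCompl u0 z ∈
          (p • ⊤ : Submodule A (LocalizedModule q.primeCompl N0)) →
        z ∈ (p • ⊤ : Submodule A (LocalizedModule q.primeCompl M0)) := by
  have hexq : Function.Exact (LocalizedModule.map q.primeCompl u0)
      (LocalizedModule.map q.primeCompl π0) := LocalizedModule.map_exact q.primeCompl u0 π0 hex
  have hπq : Surjective (LocalizedModule.map q.primeCompl π0) :=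
    LocalizedModule.map_surjective q.primeCompl π0 hπ
  constructor
  · rintro ⟨hinj, hC⟩ z hz
    let uA : LocalizedModule q.primeCompl M0 →ₗ[A] LocalizedModule q.primeCompl N0 :=
      (LocalizedModule.map q.primeCompl u0).restrictScalars A
    let πA : LocalizedModule q.primeCompl N0 →ₗ[A] LocalizedModule q.primeCompl C0 :=
      (LocalizedModule.map q.primeCompl π0).restrictScalars A
    exact mem_smul_top_of_injective_of_flat uA πA hinj hπq hexq p z hz
  · intro h
    obtain ⟨hinj, hfl⟩ := Groth.Agent.Lib.T2H7.FPFlat.injective_and_flat_coker_atPrime p q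
      (LocalizedModule.map q.primeCompl u0) h
    refine ⟨hinj, ?_⟩
    have hle : LinearMap.range (LocalizedModule.map q.primeCompl u0) ≤
        LinearMap.ker (LocalizedModule.map q.primeCompl π0) := by
      rw [LinearMap.exact_iff.mp hexq]
    let g : (LocalizedModule q.primeCompl N0 ⧸
        LinearMap.range (LocalizedModule.map q.primeCompl u0)) →ₗ[Localization.AtPrime q]
        LocalizedModule q.primeCompl C0 :=
      (LinearMap.range (LocalizedModule.map q.primeCompl u0)).liftQ
        (LocalizedModule.map q.primeCompl π0) hle
    have hg : Bijective g := by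
      constructor
      · rw [← LinearMap.ker_eq_bot, Submodule.ker_liftQ, LinearMap.exact_iff.mp hexq,
          Submodule.mkQ_map_self]
      · intro c
        obtain ⟨n, rfl⟩ := hπq c
        exact ⟨Submodule.Quotient.mk n, rfl⟩
    exact Module.Flat.of_linearEquiv ((LinearEquiv.ofBijective g hg).restrictScalars A).symm

end Chart

end Groth.Agent.Lib.T2H3.InjFib
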