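import Mathlib
import Groth.Agent.Lib.T2H3InjFibAlg
import Groth.Agent.Lib.T2H3InjFlatOpen
import Groth.Agent.Lib.Helper4DimFormulaG

/-!
# EGA IV 11.3.7 (a) ⇔ (b), scheme form (helper3, for S4850)
-/

set_option autoImplicit false
set_option linter.style.haveILetI false
universe u
open CategoryTheory CategoryTheory.Limits AlgebraicGeometry TopologicalSpace Opposite
open Groth.Agent.Lib.Helper2.FPAff Groth.Agent.Helper18Fitt Groth.Agent.Helper18FittSh
open Groth.Agent.Helper18Strict Groth.Agent.Lib.Helper2.FlatOver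
open Groth.Agent.Lib.Helper23.QCohLocal Groth.Agent.Lib.Helper4.NormDelta

namespace Groth.Agent.Lib.T2H3.InjFib

variable {X Y : Scheme.{u}} (f : X ⟶ Y) [LocallyOfFinitePresentation f]
  (F F' : X.Modules) [F.IsQuasicoherent] [F'.IsQuasicoherent]
  [SheafOfModules.IsFinitePresentation (R := X.ringCatSheaf) F]
  [SheafOfModules.IsFinitePresentation (R := X.ringCatSheaf) F'] (u : F' ⟶ F)

/-- Chart form of membership in `m_y G_x`. -/
theorem mem_smul_top_stalk_iff (f : X ⟶ Y) (G : X.Modules) [G.IsQuasicoherent]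
    {V : Y.Opens} (hV : IsAffineOpen V) {W : X.Opens} (hW : IsAffineOpen W) (e : W ≤ f ⁻¹ᵁ V)
    (x : X) (hx : x ∈ W) :
    letI : Module Γ(Y, V) Γ(G, W) := Module.compHom Γ(G, W) (f.appLE V W e).hom
    letI : Algebra Γ(Y, V) Γ(X, W) := (f.appLE V W e).hom.toAlgebra
    haveI : IsScalarTower Γ(Y, V) Γ(X, W) Γ(G, W) :=
      IsScalarTower.of_algebraMap_smul (fun _ _ => rfl)
    letI := moduleStalkSections G W x hx
    haveI := isLocalizedModule_germ hW G x hx
    ∀ n : LocalizedModule (hW.primeIdealOf ⟨x, hx⟩).asIdeal.primeCompl Γ(G, W),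
      IsLocalizedModule.iso (hW.primeIdealOf ⟨x, hx⟩).asIdeal.primeCompl (germₗ G W x hx) n ∈
        ((Ideal.map (f.stalkMap x).hom (IsLocalRing.maximalIdeal ↑(Y.presheaf.stalk (f x)))) •
          (⊤ : Submodule ↑(X.presheaf.stalk x) ↑(G.presheaf.stalk x))) ↔
      n ∈ ((hV.primeIdealOf ⟨f x, e hx⟩).asIdeal • ⊤ : Submodule Γ(Y, V)
        (LocalizedModule (hW.primeIdealOf ⟨x, hx⟩).asIdeal.primeCompl Γ(G, W))) := by
  letI mAM : Module Γ(Y, V) Γ(G, W) := Module.compHom Γ(G, W) (f.appLE V W e).hom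
  letI aAB : Algebra Γ(Y, V) Γ(X, W) := (f.appLE V W e).hom.toAlgebra
  haveI tABM : IsScalarTower Γ(Y, V) Γ(X, W) Γ(G, W) :=
    IsScalarTower.of_algebraMap_smul (fun _ _ => rfl)
  letI aRS : Algebra (Y.presheaf.stalk (f.base x)) (X.presheaf.stalk x) :=
    (f.stalkMap x).hom.toAlgebra
  letI aAR : Algebra Γ(Y, V) (Y.presheaf.stalk (f.base x)) :=
    Y.presheaf.algebra_section_stalk ⟨f.base x, e hx⟩
  letI aAS : Algebra Γ(Y, V) (X.presheaf.stalk x) :=
    ((f.stalkMap x).hom.comp (Y.presheaf.germ V (f.base x) (e hx)).hom).toAlgebra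
  letI mAN : Module Γ(Y, V) (G.presheaf.stalk x) := moduleStalkBase f G V x (e hx)
  letI mBN : Module Γ(X, W) (G.presheaf.stalk x) := moduleStalkSections G W x hx
  haveI tASN : IsScalarTower Γ(Y, V) (X.presheaf.stalk x) (G.presheaf.stalk x) :=
    IsScalarTower.of_algebraMap_smul (fun _ _ => rfl)
  haveI tABN : IsScalarTower Γ(Y, V) Γ(X, W) (G.presheaf.stalk x) := by
    refine IsScalarTower.of_algebraMap_smul (fun a n => ?_)
    change (X.presheaf.germ W x hx) ((f.appLE V W e).hom a) • n =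
      (f.stalkMap x).hom (Y.presheaf.germ V (f.base x) (e hx) a) • n
    rw [stalkMap_germ_eq f e x hx a]
  haveI := hV.isLocalization_stalk ⟨f.base x, e hx⟩
  haveI := isLocalizedModule_germ hW G x hx
  intro n
  have hJ : Ideal.map (f.stalkMap x).hom (IsLocalRing.maximalIdeal ↑(Y.presheaf.stalk (f x))) =
      Ideal.map (algebraMap Γ(Y, V) (X.presheaf.stalk x))
        (hV.primeIdealOf ⟨f x, e hx⟩).asIdeal := by
    rw [← IsLocalization.AtPrime.map_eq_maximalIdeal (hV.primeIdealOf ⟨f x, e hx⟩).asIdeal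
      (Y.presheaf.stalk (f.base x)), Ideal.map_map]
    rfl
  rw [hJ, mem_map_smul_top_iff (A := Γ(Y, V)) (S := X.presheaf.stalk x)]
  exact mem_smul_top_iff_of_linearEquiv
    ((IsLocalizedModule.iso (hW.primeIdealOf ⟨x, hx⟩).asIdeal.primeCompl
      (germₗ G W x hx)).restrictScalars Γ(Y, V)) _ n

open Groth.Agent.Lib.T2H3.InjFlatOpen in
theorem main (x : X) (hflat : FlatMod.IsFlatOverAt f F x) :
    (Function.Injective (stalkHom u x) ∧ FlatMod.IsFlatOverAt f (cokernel u) x) ↔
      ∀ m : ↑(F'.presheaf.stalk x),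
        stalkHom u x m ∈ ((Ideal.map (f.stalkMap x).hom
            (IsLocalRing.maximalIdeal ↑(Y.presheaf.stalk (f x)))) •
          (⊤ : Submodule ↑(X.presheaf.stalk x) ↑(F.presheaf.stalk x))) →
        m ∈ ((Ideal.map (f.stalkMap x).hom
            (IsLocalRing.maximalIdeal ↑(Y.presheaf.stalk (f x)))) •
          (⊤ : Submodule ↑(X.presheaf.stalk x) ↑(F'.presheaf.stalk x))) := by
  haveI hQC : (cokernel u).IsQuasicoherent := isQuasicoherent_cokernel u
  obtain ⟨V, hV, hfxV, -⟩ := exists_isAffineOpen_mem_and_subset (x := f x) (U := ⊤) trivial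
  obtain ⟨W, hW, hx, e⟩ := exists_isAffineOpen_mem_and_subset (x := x) (U := f ⁻¹ᵁ V) hfxV
  letI aAB : Algebra Γ(Y, V) Γ(X, W) := (f.appLE V W e).hom.toAlgebra
  haveI : Algebra.FinitePresentation Γ(Y, V) Γ(X, W) := f.finitePresentation_appLE hV hW e
  -- the primes
  haveI hLO : (hW.primeIdealOf ⟨x, hx⟩).asIdeal.LiesOver (hV.primeIdealOf ⟨f x, e hx⟩).asIdeal :=
    ⟨(Groth.Agent.Lib.Helper4.DimFormula.primeIdealOf_comap_appLE f hW hV e x hx).symm⟩
  -- module structures on sections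
  letI mAF : Module Γ(Y, V) Γ(F, W) := Module.compHom Γ(F, W) (f.appLE V W e).hom
  letI mAF' : Module Γ(Y, V) Γ(F', W) := Module.compHom Γ(F', W) (f.appLE V W e).hom
  letI mAC : Module Γ(Y, V) Γ(cokernel u, W) :=
    Module.compHom Γ(cokernel u, W) (f.appLE V W e).hom
  haveI tF : IsScalarTower Γ(Y, V) Γ(X, W) Γ(F, W) :=
    IsScalarTower.of_algebraMap_smul (fun _ _ => rfl)
  haveI tF' : IsScalarTower Γ(Y, V) Γ(X, W) Γ(F', W) :=
    IsScalarTower.of_algebraMap_smul (fun _ _ => rfl)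
  haveI tC : IsScalarTower Γ(Y, V) Γ(X, W) Γ(cokernel u, W) :=
    IsScalarTower.of_algebraMap_smul (fun _ _ => rfl)
  haveI : Module.FinitePresentation Γ(X, W) Γ(F, W) := finitePresentation_sections F hW
  haveI : Module.FinitePresentation Γ(X, W) Γ(F', W) := finitePresentation_sections F' hW
  have hπ : Function.Surjective (appₗ (cokernel.π u) W) :=
    Groth.Agent.Lib.Helper23.FinType.surjective_app_of_epi (cokernel.π u) hW
  have hex : Function.Exact (appₗ u W) (appₗ (cokernel.π u) W) :=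
    LinearMap.exact_iff.mpr (ker_appₗ_cokernel_π u hW)
  have hflat' : Module.Flat Γ(Y, V)
      (LocalizedModule (hW.primeIdealOf ⟨x, hx⟩).asIdeal.primeCompl Γ(F, W)) :=
    (Groth.Agent.Lib.Helper2.FinPres.isFlatOverAt_iff_flat_localizedModule f F hW hV e x hx).mp hflat
  have key := chart_iff (hV.primeIdealOf ⟨f x, e hx⟩).asIdeal (hW.primeIdealOf ⟨x, hx⟩).asIdeal
    (appₗ u W) (appₗ (cokernel.π u) W) hπ hex hflat'
  have hCflat := Groth.Agent.Lib.Helper2.FinPres.isFlatOverAt_iff_flat_localizedModule f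
    (cokernel u) hW hV e x hx
  -- the stalks as localizations
  letI mBF : Module Γ(X, W) (F.presheaf.stalk x) := moduleStalkSections F W x hx
  letI mBF' : Module Γ(X, W) (F'.presheaf.stalk x) := moduleStalkSections F' W x hx
  haveI := isLocalizedModule_germ hW F x hx
  haveI := isLocalizedModule_germ hW F' x hx
  set T := IsLocalizedModule.iso (hW.primeIdealOf ⟨x, hx⟩).asIdeal.primeCompl (germₗ F W x hx)
    with hT
  set T' := IsLocalizedModule.iso (hW.primeIdealOf ⟨x, hx⟩).asIdeal.primeCompl (germₗ F' W x hx)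
    with hT'
  have K2 := mem_smul_top_stalk_iff f F hV hW e x hx
  have K2' := mem_smul_top_stalk_iff f F' hV hW e x hx
  have K1 : ∀ z, T (LocalizedModule.map (hW.primeIdealOf ⟨x, hx⟩).asIdeal.primeCompl
      (appₗ u W) z) = stalkHom u x (T' z) := by
    intro z
    induction z using LocalizedModule.induction_on with
    | h m s =>
      rw [LocalizedModule.map_mk]
      change IsLocalizedModule.mk' (germₗ F W x hx) (appₗ u W m) s =
        stalkHom u x (IsLocalizedModule.mk' (germₗ F' W x hx) m s)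
      rw [IsLocalizedModule.mk'_eq_iff]
      have h1 : s • stalkHom u x (IsLocalizedModule.mk' (germₗ F' W x hx) m s) =
          stalkHom u x (s • IsLocalizedModule.mk' (germₗ F' W x hx) m s) :=
        (stalkHom_smul u x _ _).symm
      rw [h1, IsLocalizedModule.mk'_cancel']
      exact (stalkHom_germ u x W hx m).symm
  have hL : (Function.Injective (stalkHom u x) ∧ FlatMod.IsFlatOverAt f (cokernel u) x) ↔
      (Function.Injective (LocalizedModule.map (hW.primeIdealOf ⟨x, hx⟩).asIdeal.primeCompl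
        (appₗ u W)) ∧ Module.Flat Γ(Y, V)
        (LocalizedModule (hW.primeIdealOf ⟨x, hx⟩).asIdeal.primeCompl Γ(cokernel u, W))) := by
    constructor
    · rintro ⟨hinj, hfl⟩
      refine ⟨?_, hCflat.mp hfl⟩
      intro z1 z2 h12
      apply T'.injective
      apply hinj
      rw [← K1, ← K1, h12]
    · rintro ⟨hinj, hfl⟩
      refine ⟨?_, hCflat.mpr hfl⟩
      intro y1 y2 h12
      obtain ⟨z1, rfl⟩ := T'.surjective y1
      obtain ⟨z2, rfl⟩ := T'.surjective y2
      rw [← K1, ← K1] at h12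
      rw [hinj (T.injective h12)]
  rw [hL, key]
  constructor
  · intro h m hm
    obtain ⟨z, rfl⟩ := T'.surjective m
    rw [← K1] at hm
    exact (K2' z).mpr (h z ((K2 _).mp hm))
  · intro h z hz
    apply (K2' z).mp
    apply h
    rw [← K1]
    exact (K2 _).mpr hz

end Groth.Agent.Lib.T2H3.InjFib
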