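/-
Helper library (helper3): algebra behind "a dominant morphism of integral varieties over an
algebraically closed field of characteristic zero which is injective on rational points is
birational".

* `exists_algHom_of_root`: for `B = A[θ]` with `A` integrally closed, `θ` integral, a `k`-point
  `χ` of `A` and a root `r` of the image of the minimal polynomial, there is a `k`-point of `B`
  over `χ` sending `θ` to `r`.
-/
import Mathlib

set_option autoImplicit false
set_option linter.style.haveILetI false
universe u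

open Polynomial

namespace Groth.Agent.Lib.T2H3.InjPtsAlg

section L1

variable {k A B : Type*} [Field k] [CommRing A] [CommRing B] [IsDomain A] [IsDomain B]
  [IsIntegrallyClosed A] [Algebra k A] [Algebra k B] [Algebra A B] [IsScalarTower k A B]
  [Module.IsTorsionFree A B]

theorem exists_algHom_of_root (θ : B) (hθ : IsIntegral A θ) (htop : Algebra.adjoin A {θ} = ⊤)
    (χ : A →ₐ[k] k) (r : k) (hr : ((minpoly A θ).map χ.toRingHom).IsRoot r) :
    ∃ φ : B →ₐ[k] k, φ.comp (IsScalarTower.toAlgHom k A B) = χ ∧ φ θ = r := by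
  have hr' : (minpoly A θ).eval₂ χ.toRingHom r = 0 := by
    rwa [Polynomial.IsRoot.def, Polynomial.eval_map] at hr
  -- the ring hom `AdjoinRoot P → k`
  let ψ₀ : AdjoinRoot (minpoly A θ) →+* k := AdjoinRoot.lift χ.toRingHom r hr'
  let e : AdjoinRoot (minpoly A θ) ≃ₐ[A] B :=
    (minpoly.equivAdjoin hθ).trans ((Subalgebra.equivOfEq _ _ htop).trans Subalgebra.topEquiv)
  let ψ : B →+* k := ψ₀.comp e.symm.toRingEquiv.toRingHom
  have hψA : ∀ a : A, ψ (algebraMap A B a) = χ a := by
    intro a
    have h1 : e.symm (algebraMap A B a) = algebraMap A (AdjoinRoot (minpoly A θ)) a :=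
      e.symm.commutes a
    change ψ₀ (e.symm (algebraMap A B a)) = χ a
    rw [h1, AdjoinRoot.algebraMap_eq]
    exact AdjoinRoot.lift_of hr'
  have heroot : e (AdjoinRoot.root (minpoly A θ)) = θ := by
    change ((Subalgebra.equivOfEq _ _ htop).trans Subalgebra.topEquiv)
      ((minpoly.equivAdjoin hθ) (AdjoinRoot.root (minpoly A θ))) = θ
    rw [minpoly.coe_equivAdjoin]
    simp [AdjoinRoot.Minpoly.toAdjoin]
  have hψθ : ψ θ = r := by
    have h1 : e.symm θ = AdjoinRoot.root (minpoly A θ) := by
      rw [AlgEquiv.symm_apply_eq, heroot]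
    change ψ₀ (e.symm θ) = r
    rw [h1]
    exact AdjoinRoot.lift_root hr'
  refine ⟨{ ψ with commutes' := fun c => ?_ }, ?_, hψθ⟩
  · change ψ (algebraMap k B c) = algebraMap k k c
    rw [IsScalarTower.algebraMap_apply k A B, hψA, χ.commutes]
  · ext a
    exact hψA a

/-- If all `k`-points of `B = A[θ]` over a `k`-point `χ` of `A` agree and the image of the minimal
polynomial of `θ` under `χ` is separable, then the minimal polynomial has degree at most one. -/
theorem natDegree_minpoly_le_one [IsAlgClosed k] (θ : B) (hθ : IsIntegral A θ)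
    (htop : Algebra.adjoin A {θ} = ⊤) (χ : A →ₐ[k] k)
    (hsep : ((minpoly A θ).map χ.toRingHom).Separable)
    (huniq : ∀ φ ψ : B →ₐ[k] k, φ.comp (IsScalarTower.toAlgHom k A B) = χ →
      ψ.comp (IsScalarTower.toAlgHom k A B) = χ → φ = ψ) :
    (minpoly A θ).natDegree ≤ 1 := by
  classical
  by_contra hlt
  push Not at hlt
  set P := (minpoly A θ).map χ.toRingHom with hP
  have hdeg : P.natDegree = (minpoly A θ).natDegree :=
    (minpoly.monic hθ).natDegree_map χ.toRingHom
  have hcard : P.roots.card = P.natDegree := IsAlgClosed.card_roots_eq_natDegree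
  have hnd : P.roots.Nodup := Polynomial.nodup_roots hsep
  have h2 : 1 < P.roots.toFinset.card := by
    rw [Multiset.toFinset_card_of_nodup hnd, hcard, hdeg]; exact hlt
  obtain ⟨r₁, hr₁, r₂, hr₂, hne⟩ := Finset.one_lt_card.mp h2
  have hP0 : P ≠ 0 := ((minpoly.monic hθ).map χ.toRingHom).ne_zero
  rw [Multiset.mem_toFinset, Polynomial.mem_roots hP0] at hr₁ hr₂
  obtain ⟨φ₁, h₁, h₁'⟩ := exists_algHom_of_root θ hθ htop χ r₁ hr₁
  obtain ⟨φ₂, h₂, h₂'⟩ := exists_algHom_of_root θ hθ htop χ r₂ hr₂
  have := huniq φ₁ φ₂ h₁ h₂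
  exact hne (by rw [← h₁', ← h₂', this])

end L1

section Null

/-- A nonzero element of a finitely generated domain over an algebraically closed field is nonzero
at some rational point. -/
theorem exists_algHom_apply_ne_zero {k R : Type*} [Field k] [IsAlgClosed k] [CommRing R]
    [IsDomain R] [Algebra k R] [Algebra.FiniteType k R] (d : R) (hd : d ≠ 0) :
    ∃ χ : R →ₐ[k] k, χ d ≠ 0 := by
  haveI : IsJacobsonRing R := isJacobsonRing_of_finiteType (A := k)
  have hrad : (⊥ : Ideal R).IsRadical := by
    rw [← Ideal.radical_eq_iff]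
    exact nilradical_eq_zero R
  have hJ : (⊥ : Ideal R).jacobson = ⊥ := IsJacobsonRing.out' _ hrad
  have hd' : d ∉ (⊥ : Ideal R).jacobson := by rw [hJ]; simpa using hd
  rw [Ideal.jacobson, Ideal.mem_sInf] at hd'
  push Not at hd'
  obtain ⟨M, ⟨-, hM⟩, hdM⟩ := hd'
  obtain ⟨M', hM', hMM'⟩ := Ideal.exists_le_maximal M hM.ne_top
  have hMeq : M = M' := hM.eq_of_le hM'.ne_top hMM'
  letI : Field (R ⧸ M) := Ideal.Quotient.field M
  haveI : Algebra.FiniteType k (R ⧸ M) :=
    Algebra.FiniteType.of_surjective (Ideal.Quotient.mkₐ k M) (Ideal.Quotient.mkₐ_surjective k M)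
  haveI : Module.Finite k (R ⧸ M) := finite_of_finite_type_of_isJacobsonRing k (R ⧸ M)
  haveI : Algebra.IsIntegral k (R ⧸ M) := Algebra.IsIntegral.of_finite k (R ⧸ M)
  have hbij : Function.Bijective (algebraMap k (R ⧸ M)) :=
    IsAlgClosed.algebraMap_bijective_of_isIntegral
  let e : k ≃ₐ[k] (R ⧸ M) := AlgEquiv.ofBijective (Algebra.ofId k (R ⧸ M)) hbij
  refine ⟨(e.symm : (R ⧸ M) →ₐ[k] k).comp (Ideal.Quotient.mkₐ k M), ?_⟩
  intro h0
  rw [AlgHom.comp_apply] at h0
  have h1 : Ideal.Quotient.mkₐ k M d = 0 := by
    have := congrArg e h0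
    simpa using this
  rw [Ideal.Quotient.mkₐ_eq_mk, Ideal.Quotient.eq_zero_iff_mem] at h1
  exact hdM h1

end Null

section G1

variable {k R S F : Type*} [Field k] [IsAlgClosed k] [CommRing R] [CommRing S] [IsDomain R]
  [IsDomain S] [IsIntegrallyClosed R] [Algebra k R] [Algebra k S] [Algebra R S]
  [IsScalarTower k R S] [Module.IsTorsionFree R S] [Algebra.FiniteType k R] [Field F]

/-- Let `S = R[θ]` with `R` an integrally closed finitely generated domain over an algebraically
closed field `k`, `θ` integral over `R` with minimal polynomial separable over the fraction field.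
If any two `k`-points of `S` with the same restriction to `R` agree, then the minimal polynomial
of `θ` has degree at most one. -/
theorem natDegree_minpoly_le_one_of_separable (θ : S) (hθ : IsIntegral R θ)
    (htop : Algebra.adjoin R {θ} = ⊤) (ι : R →+* F) (hι : Function.Injective ι)
    (hsep : ((minpoly R θ).map ι).Separable)
    (huniq : ∀ φ ψ : S →ₐ[k] k, φ.comp (IsScalarTower.toAlgHom k R S) =
      ψ.comp (IsScalarTower.toAlgHom k R S) → φ = ψ) :
    (minpoly R θ).natDegree ≤ 1 := by
  set P := minpoly R θ with hP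
  let K := FractionRing R
  let j : K →+* F := IsFractionRing.lift hι
  have hj : j.comp (algebraMap R K) = ι := by
    ext x; exact IsFractionRing.lift_algebraMap hι x
  have hsepK : (P.map (algebraMap R K)).Separable := by
    rw [← Polynomial.separable_map j, Polynomial.map_map, hj]; exact hsep
  obtain ⟨u, v, huv⟩ := hsepK
  obtain ⟨bu, hbu, hU⟩ := IsLocalization.integerNormalization_spec (nonZeroDivisors R) u
  obtain ⟨bv, hbv, hV⟩ := IsLocalization.integerNormalization_spec (nonZeroDivisors R) v
  set U := IsLocalization.integerNormalization (nonZeroDivisors R) u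
  set V := IsLocalization.integerNormalization (nonZeroDivisors R) v
  have hinjK : Function.Injective (algebraMap R K) := IsFractionRing.injective R K
  have key : C bv * U * P + C bu * V * derivative P = C (bu * bv) := by
    apply Polynomial.map_injective _ hinjK
    simp only [Polynomial.map_add, Polynomial.map_mul, Polynomial.map_C, hU, hV,
      ← Polynomial.derivative_map]
    have : (C (algebraMap R K bv) * bu • u * Polynomial.map (algebraMap R K) P +
        C (algebraMap R K bu) * bv • v * derivative (Polynomial.map (algebraMap R K) P)) =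
        C (algebraMap R K bu * algebraMap R K bv) *
          (u * Polynomial.map (algebraMap R K) P +
            v * derivative (Polynomial.map (algebraMap R K) P)) := by
      simp only [Algebra.smul_def, Polynomial.algebraMap_apply, C_mul]
      ring
    rw [this, huv, mul_one, ← map_mul (algebraMap R K)]
  have hd : bu * bv ≠ 0 :=
    mul_ne_zero (nonZeroDivisors.ne_zero hbu) (nonZeroDivisors.ne_zero hbv)
  obtain ⟨χ, hχ⟩ := exists_algHom_apply_ne_zero (k := k) (bu * bv) hd
  refine natDegree_minpoly_le_one θ hθ htop χ ?_ ?_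
  · have key' := congrArg (Polynomial.map χ.toRingHom) key
    simp only [Polynomial.map_add, Polynomial.map_mul, Polynomial.map_C,
      ← Polynomial.derivative_map] at key'
    refine ⟨C (χ (bu * bv))⁻¹ * (C (χ bv) * U.map χ.toRingHom),
      C (χ (bu * bv))⁻¹ * (C (χ bu) * V.map χ.toRingHom), ?_⟩
    have h2 : C (χ (bu * bv))⁻¹ * (C (χ bv) * U.map χ.toRingHom) * P.map χ.toRingHom +
        C (χ (bu * bv))⁻¹ * (C (χ bu) * V.map χ.toRingHom) * derivative (P.map χ.toRingHom) =
        C (χ (bu * bv))⁻¹ * (C (χ.toRingHom bv) * U.map χ.toRingHom * P.map χ.toRingHom +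
          C (χ.toRingHom bu) * V.map χ.toRingHom * derivative (P.map χ.toRingHom)) := by
      simp only [AlgHom.toRingHom_eq_coe, RingHom.coe_coe]
      ring
    rw [h2, key', ← C_mul]
    simp only [AlgHom.toRingHom_eq_coe, RingHom.coe_coe]
    rw [inv_mul_cancel₀ hχ, C_1]
  · intro φ ψ h1 h2
    exact huniq φ ψ (h1.trans h2.symm)

end G1

end Groth.Agent.Lib.T2H3.InjPtsAlg
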