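/-
Helper library (helper3): algebra behind "a dominant morphism of integral varieties over an
algebraically closed field which is injective on rational points and generically separable is
birational" — the localization step.
-/
import Groth.Agent.Lib.T2H3InjPtsAlgA

set_option autoImplicit false
set_option linter.style.haveILetI false
universe u

open Polynomial

namespace Groth.Agent.Lib.T2H3.InjPtsAlg

section Loc

variable {k A B K L : Type*} [Field k] [IsAlgClosed k] [CommRing A] [CommRing B] [IsDomain A]
  [IsDomain B] [IsIntegrallyClosed A] [Algebra k A] [Algebra k B] [Algebra A B]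
  [IsScalarTower k A B] [Algebra.FiniteType k A]
  [Field K] [Field L] [Algebra A K] [IsFractionRing A K] [Algebra B L] [IsFractionRing B L]
  [Algebra K L] [Algebra A L] [IsScalarTower A K L] [IsScalarTower A B L]

include K L in
theorem algebraMap_injective_of_tower : Function.Injective (algebraMap A B) := by
  have h1 : Function.Injective (algebraMap A L) := by
    rw [IsScalarTower.algebraMap_eq A K L]
    exact (algebraMap K L).injective.comp (IsFractionRing.injective A K)
  rw [IsScalarTower.algebraMap_eq A B L] at h1
  exact Function.Injective.of_comp h1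

set_option maxHeartbeats 800000 in
/-- The localization step: if `a • b ∈ A[θ]` for all `b` in a generating set of `B`, `θ` is integral
over `A` with separable minimal polynomial over `K`, and rational points of `B` are determined by
their restrictions to `A`, then `θ ∈ K`. -/
theorem mem_range_of_localization (a : A) (ha : a ≠ 0) (θ : B) (hθ : IsIntegral A θ)
    (s : Set B) (hs : Algebra.adjoin A s = ⊤)
    (hgen : ∀ b ∈ s, algebraMap A B a * b ∈ Algebra.adjoin A {θ})
    (hsep : (minpoly K (algebraMap B L θ)).Separable)
    (hinj : ∀ φ ψ : B →ₐ[k] k, φ.comp (IsScalarTower.toAlgHom k A B) =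
      ψ.comp (IsScalarTower.toAlgHom k A B) → φ = ψ) :
    algebraMap B L θ ∈ Set.range (algebraMap K L) := by
  have hAB : Function.Injective (algebraMap A B) := algebraMap_injective_of_tower (K := K) (L := L)
  let M : Submonoid A := Submonoid.powers a
  have hM : M ≤ nonZeroDivisors A := by
    rw [Submonoid.powers_le]; exact mem_nonZeroDivisors_of_ne_zero ha
  let N : Submonoid B := Algebra.algebraMapSubmonoid B M
  have hN : N ≤ nonZeroDivisors B := by
    rintro _ ⟨x, hx, rfl⟩
    exact mem_nonZeroDivisors_of_ne_zero
      (fun h => nonZeroDivisors.ne_zero (hM hx) (hAB (h.trans (map_zero _).symm)))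
  let A' := Localization M
  let B' := Localization N
  haveI : IsDomain A' := IsLocalization.isDomain_localization hM
  haveI : IsDomain B' := IsLocalization.isDomain_localization hN
  haveI : IsIntegrallyClosed A' := isIntegrallyClosed_of_isLocalization A' M hM
  haveI : IsScalarTower k A' B' := by
    refine IsScalarTower.of_algebraMap_eq fun c => ?_
    rw [IsScalarTower.algebraMap_apply k A A', ← IsScalarTower.algebraMap_apply A A' B',
      IsScalarTower.algebraMap_apply A B B', ← IsScalarTower.algebraMap_apply k A B,
      ← IsScalarTower.algebraMap_apply k B B']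
  have hA'B' : Function.Injective (algebraMap A' B') :=
    localizationAlgebra_injective A' B' hAB
  haveI : Module.IsTorsionFree A' B' := Module.isTorsionFree_iff_algebraMap_injective.mpr hA'B'
  -- the element θ'
  let θ' : B' := algebraMap B B' θ
  have hθ' : IsIntegral A' θ' :=
    (hθ.map (IsScalarTower.toAlgHom A B B')).tower_top
  -- generation
  have htop : Algebra.adjoin A' {θ'} = ⊤ := by
    set T := Algebra.adjoin A' ({θ'} : Set B') with hT
    -- the image of `A[θ]` lies in `T`
    have h1 : ∀ x ∈ Algebra.adjoin A ({θ} : Set B), algebraMap B B' x ∈ T := by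
      intro x hx
      have h2 : Algebra.adjoin A ({θ} : Set B) ≤
          (T.restrictScalars A).comap (IsScalarTower.toAlgHom A B B') := by
        apply Algebra.adjoin_le
        rintro _ rfl
        exact Algebra.subset_adjoin (Set.mem_singleton _)
      exact h2 hx
    have hunit : IsUnit (algebraMap A A' a) :=
      IsLocalization.map_units A' (⟨a, Submonoid.mem_powers a⟩ : M)
    -- the image of `B` lies in `T`
    have h3 : ∀ x : B, algebraMap B B' x ∈ T := by
      intro x
      have h4 : Algebra.adjoin A s ≤
          (T.restrictScalars A).comap (IsScalarTower.toAlgHom A B B') := by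
        apply Algebra.adjoin_le
        intro b hb
        have h5 := h1 _ (hgen b hb)
        rw [map_mul, ← IsScalarTower.algebraMap_apply A B B',
          IsScalarTower.algebraMap_apply A A' B'] at h5
        obtain ⟨c, hc⟩ := hunit.exists_left_inv
        have h6 : algebraMap B B' b = algebraMap A' B' c *
            (algebraMap A' B' (algebraMap A A' a) * algebraMap B B' b) := by
          rw [← mul_assoc, ← map_mul, hc, map_one, one_mul]
        change algebraMap B B' b ∈ T
        rw [h6]
        exact T.mul_mem (T.algebraMap_mem c) h5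
      exact h4 (hs ▸ Algebra.mem_top)
    rw [eq_top_iff]
    intro y _
    obtain ⟨x, ⟨_, m, hm, rfl⟩, rfl⟩ := IsLocalization.exists_mk'_eq N y
    have hu : IsUnit (algebraMap A A' m) := IsLocalization.map_units A' (⟨m, hm⟩ : M)
    obtain ⟨c, hc⟩ := hu.exists_left_inv
    have h7 : IsLocalization.mk' B' x (⟨algebraMap A B m, m, hm, rfl⟩ : N) =
        algebraMap A' B' c * algebraMap B B' x := by
      rw [IsLocalization.mk'_eq_iff_eq_mul]
      change algebraMap B B' x = algebraMap A' B' c * algebraMap B B' x *
        algebraMap B B' (algebraMap A B m)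
      rw [← IsScalarTower.algebraMap_apply A B B', IsScalarTower.algebraMap_apply A A' B',
        mul_right_comm, ← map_mul, hc, map_one, one_mul]
    rw [h7]
    exact T.mul_mem (T.algebraMap_mem c) (h3 x)
  -- the map `A' → L`
  have hunitsL : ∀ y : M, IsUnit (algebraMap A L y) := by
    intro y
    refine IsUnit.mk0 _ ?_
    rw [IsScalarTower.algebraMap_apply A K L]
    exact (_root_.map_ne_zero _).mpr
      ((map_ne_zero_iff _ (IsFractionRing.injective A K)).mpr (nonZeroDivisors.ne_zero (hM y.2)))
  let ι : A' →+* L := IsLocalization.lift hunitsL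
  have hιA : ∀ x : A, ι (algebraMap A A' x) = algebraMap A L x := fun x =>
    IsLocalization.lift_eq hunitsL x
  have hAL : Function.Injective (algebraMap A L) := by
    rw [IsScalarTower.algebraMap_eq A K L]
    exact (algebraMap K L).injective.comp (IsFractionRing.injective A K)
  have hι : Function.Injective ι := by
    rw [injective_iff_map_eq_zero]
    intro y hy
    obtain ⟨x, m, rfl⟩ := IsLocalization.exists_mk'_eq M y
    rw [IsLocalization.lift_mk'_spec, mul_zero] at hy
    have hx0 : x = 0 := hAL (hy.trans (map_zero _).symm)
    rw [hx0, IsLocalization.mk'_zero]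
  -- the map `B' → L`
  have hunitsBL : ∀ y : N, IsUnit (algebraMap B L y) := by
    intro y
    refine IsUnit.mk0 _ ?_
    exact (map_ne_zero_iff _ (IsFractionRing.injective B L)).mpr (nonZeroDivisors.ne_zero (hN y.2))
  let κ : B' →+* L := IsLocalization.lift hunitsBL
  have hκB : ∀ x : B, κ (algebraMap B B' x) = algebraMap B L x := fun x =>
    IsLocalization.lift_eq hunitsBL x
  have hκι : κ.comp (algebraMap A' B') = ι := by
    apply IsLocalization.ringHom_ext M
    ext x
    simp only [RingHom.comp_apply]
    rw [← IsScalarTower.algebraMap_apply A A' B', IsScalarTower.algebraMap_apply A B B', hκB, hιA,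
      ← IsScalarTower.algebraMap_apply A B L]
  -- separability of the minimal polynomial of θ' over A'
  set P' := minpoly A' θ' with hP'
  have hdvd : P' ∣ (minpoly A θ).map (algebraMap A A') := by
    apply minpoly.isIntegrallyClosed_dvd hθ'
    rw [Polynomial.aeval_map_algebraMap]
    have := minpoly.aeval A θ
    have h8 : Polynomial.aeval θ' (minpoly A θ) =
        algebraMap B B' (Polynomial.aeval θ (minpoly A θ)) := by
      rw [← Polynomial.aeval_algebraMap_apply]
    rw [h8, this, map_zero]
  have hminK : minpoly K (algebraMap B L θ) = (minpoly A θ).map (algebraMap A K) :=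
    minpoly.isIntegrallyClosed_eq_field_fractions K L hθ
  have hsepι : (P'.map ι).Separable := by
    have h9 : P'.map ι ∣ ((minpoly A θ).map (algebraMap A A')).map ι :=
      Polynomial.map_dvd ι hdvd
    refine Polynomial.Separable.of_dvd ?_ h9
    rw [Polynomial.map_map]
    have h10 : ι.comp (algebraMap A A') = (algebraMap K L).comp (algebraMap A K) := by
      ext x
      simp only [RingHom.comp_apply]
      rw [hιA, IsScalarTower.algebraMap_apply A K L]
    rw [h10, ← Polynomial.map_map, ← hminK]
    exact hsep.map
  -- uniqueness of rational points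
  have huniq : ∀ φ ψ : B' →ₐ[k] k, φ.comp (IsScalarTower.toAlgHom k A' B') =
      ψ.comp (IsScalarTower.toAlgHom k A' B') → φ = ψ := by
    intro φ ψ h
    have h11 : (φ.comp (IsScalarTower.toAlgHom k B B')).comp (IsScalarTower.toAlgHom k A B) =
        (ψ.comp (IsScalarTower.toAlgHom k B B')).comp (IsScalarTower.toAlgHom k A B) := by
      ext x
      have := congrArg (fun f : A' →ₐ[k] k => f (algebraMap A A' x)) h
      simp only [AlgHom.comp_apply, IsScalarTower.coe_toAlgHom'] at this ⊢
      rw [← IsScalarTower.algebraMap_apply A B B', IsScalarTower.algebraMap_apply A A' B']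
      exact this
    have h12 := hinj _ _ h11
    have h13 : (φ : B' →+* k) = (ψ : B' →+* k) := by
      apply IsLocalization.ringHom_ext N
      ext x
      exact congrArg (fun f : B →ₐ[k] k => f x) h12
    exact AlgHom.coe_ringHom_injective h13
  have hdeg := natDegree_minpoly_le_one_of_separable (k := k) θ' hθ' htop ι hι hsepι huniq
  have hdeg1 : P'.natDegree = 1 :=
    le_antisymm hdeg (minpoly.natDegree_pos hθ')
  obtain ⟨c, hc⟩ := minpoly.natDegree_eq_one_iff.mp hdeg1
  -- θ_L = ι c
  have h14 : algebraMap B L θ = ι c := by
    rw [← hκB, ← hκι, RingHom.comp_apply]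
    exact congrArg κ hc.symm
  rw [h14]
  obtain ⟨x, m, rfl⟩ := IsLocalization.exists_mk'_eq M c
  refine ⟨algebraMap A K x * (algebraMap A K m)⁻¹, ?_⟩
  symm
  rw [IsLocalization.lift_mk'_spec, map_mul, map_inv₀, ← IsScalarTower.algebraMap_apply A K L,
    ← IsScalarTower.algebraMap_apply A K L]
  have hm0 : algebraMap A L (m : A) ≠ 0 := (hunitsL m).ne_zero
  field_simp

omit [IsAlgClosed k] [IsIntegrallyClosed A] [Algebra.FiniteType k A] in
include k in
theorem isAlgebraic_of_finiteDimensional [FiniteDimensional K L] : Algebra.IsAlgebraic A B := by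
  refine ⟨fun b => ?_⟩
  have h1 : IsAlgebraic K (algebraMap B L b) := Algebra.IsAlgebraic.isAlgebraic _
  have h2 : IsAlgebraic A (algebraMap B L b) := (IsFractionRing.isAlgebraic_iff A K L).mpr h1
  exact (isAlgebraic_algebraMap_iff (IsFractionRing.injective B L)).mp h2

omit [IsAlgClosed k] [Algebra.FiniteType k A] in
include k in
/-- A primitive element of `L / K` lying in `B` and integral over `A`. -/
theorem exists_primitive_integral [FiniteDimensional K L] [Algebra.IsSeparable K L] :
    ∃ θ : B, IsIntegral A θ ∧ IntermediateField.adjoin K {algebraMap B L θ} = ⊤ := by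
  have hAB : Function.Injective (algebraMap A B) := algebraMap_injective_of_tower (K := K) (L := L)
  haveI : FaithfulSMul A B := (faithfulSMul_iff_algebraMap_injective A B).mpr hAB
  haveI : Algebra.IsAlgebraic A B := isAlgebraic_of_finiteDimensional (k := k) (K := K) (L := L)
  obtain ⟨α, hα⟩ := Field.exists_primitive_element K L
  obtain ⟨⟨b₀, ⟨_, a₀, ha₀, rfl⟩⟩, hb₀⟩ :=
    IsLocalization.surj (Algebra.algebraMapSubmonoid B (nonZeroDivisors A)) α
  simp only at hb₀
  obtain ⟨a₁, ha₁, hint⟩ := (Algebra.IsAlgebraic.isAlgebraic (R := A) b₀).exists_integral_multiple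
  refine ⟨a₁ • b₀, hint, ?_⟩
  rw [eq_top_iff, ← hα, IntermediateField.adjoin_simple_le_iff]
  set c : K := algebraMap A K (a₁ * a₀) with hc
  have hc0 : c ≠ 0 := by
    rw [hc]
    exact (map_ne_zero_iff _ (IsFractionRing.injective A K)).mpr
      (mul_ne_zero ha₁ (nonZeroDivisors.ne_zero ha₀))
  have h1 : algebraMap B L (a₁ • b₀) = c • α := by
    rw [Algebra.smul_def, map_mul, ← hb₀, ← IsScalarTower.algebraMap_apply A B L,
      ← IsScalarTower.algebraMap_apply A B L, hc, Algebra.smul_def,
      ← IsScalarTower.algebraMap_apply A K L, map_mul]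
    ring
  have h2 : α = c⁻¹ • algebraMap B L (a₁ • b₀) := by
    rw [h1, smul_smul, inv_mul_cancel₀ hc0, one_smul]
  rw [h2]
  exact (IntermediateField.adjoin K {algebraMap B L (a₁ • b₀)}).smul_mem
    (IntermediateField.mem_adjoin_simple_self K _)

omit [IsAlgClosed k] [IsIntegrallyClosed A] [Algebra.FiniteType k A] [IsFractionRing B L] in
include k in
theorem exists_mul_mem_adjoin_single (hBL : Function.Injective (algebraMap B L))
    (θ : B) (hθ : IsIntegral A θ)
    (hθL : IntermediateField.adjoin K {algebraMap B L θ} = ⊤) (b : B) :
    ∃ a : A, a ≠ 0 ∧ algebraMap A B a * b ∈ Algebra.adjoin A {θ} := by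
  have hint : IsIntegral K (algebraMap B L θ) :=
    (hθ.map (IsScalarTower.toAlgHom A B L)).tower_top
  have h1 : algebraMap B L b ∈ (IntermediateField.adjoin K {algebraMap B L θ}).toSubalgebra := by
    rw [hθL]; exact Algebra.mem_top
  rw [IntermediateField.adjoin_simple_toSubalgebra_of_isAlgebraic hint.isAlgebraic,
    Algebra.adjoin_singleton_eq_range_aeval] at h1
  obtain ⟨q, hq⟩ := h1
  obtain ⟨d, hd, hQ⟩ := IsLocalization.integerNormalization_spec (nonZeroDivisors A) q
  set Q := IsLocalization.integerNormalization (nonZeroDivisors A) q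
  refine ⟨d, nonZeroDivisors.ne_zero hd, ?_⟩
  have h2 : algebraMap B L (Polynomial.aeval θ Q) = algebraMap B L (algebraMap A B d * b) := by
    have hq' : Polynomial.aeval (algebraMap B L θ) q = algebraMap B L b := hq
    rw [← Polynomial.aeval_algebraMap_apply, ← Polynomial.aeval_map_algebraMap K, hQ,
      ← algebraMap_smul K d q, map_smul, hq', map_mul, ← IsScalarTower.algebraMap_apply A B L,
      Algebra.smul_def, ← IsScalarTower.algebraMap_apply A K L]
  rw [← hBL h2]
  exact Polynomial.aeval_mem_adjoin_singleton A θ

omit [IsAlgClosed k] [IsIntegrallyClosed A] [Algebra.FiniteType k A] [IsFractionRing B L] in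
include k in
theorem exists_mul_mem_adjoin (hBL : Function.Injective (algebraMap B L))
    (θ : B) (hθ : IsIntegral A θ)
    (hθL : IntermediateField.adjoin K {algebraMap B L θ} = ⊤) (s : Finset B) :
    ∃ a : A, a ≠ 0 ∧ ∀ b ∈ s, algebraMap A B a * b ∈ Algebra.adjoin A {θ} := by
  classical
  induction s using Finset.induction_on with
  | empty => exact ⟨1, one_ne_zero, fun b hb => absurd hb (Finset.notMem_empty b)⟩
  | insert b₀ s _ ih =>
    obtain ⟨a, ha, h⟩ := ih
    obtain ⟨a₀, ha₀, h₀⟩ :=
      exists_mul_mem_adjoin_single (k := k) (K := K) hBL θ hθ hθL b₀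
    refine ⟨a * a₀, mul_ne_zero ha ha₀, fun b hb => ?_⟩
    rw [Finset.mem_insert] at hb
    rw [map_mul]
    rcases hb with rfl | hb
    · rw [mul_assoc]
      exact (Algebra.adjoin A {θ}).mul_mem (Subalgebra.algebraMap_mem _ a) h₀
    · rw [mul_comm (algebraMap A B a), mul_assoc]
      exact (Algebra.adjoin A {θ}).mul_mem (Subalgebra.algebraMap_mem _ a₀) (h b hb)

/-- Main algebraic statement: if rational points of `B` are determined by their restriction to `A`
and `L / K` is finite separable, then `K → L` is surjective. -/
theorem algebraMap_surjective_of_points_injective [Algebra.FiniteType k B]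
    [FiniteDimensional K L] [Algebra.IsSeparable K L]
    (hinj : ∀ φ ψ : B →ₐ[k] k, φ.comp (IsScalarTower.toAlgHom k A B) =
      ψ.comp (IsScalarTower.toAlgHom k A B) → φ = ψ) :
    Function.Surjective (algebraMap K L) := by
  obtain ⟨θ, hθ, hθL⟩ := exists_primitive_integral (k := k) (A := A) (B := B) (K := K) (L := L)
  haveI : Algebra.FiniteType A B := Algebra.FiniteType.of_restrictScalars_finiteType k A B
  obtain ⟨s, hs⟩ := (Algebra.FiniteType.out : (⊤ : Subalgebra A B).FG)
  obtain ⟨a, ha, hgen⟩ := exists_mul_mem_adjoin (k := k) (K := K)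
    (IsFractionRing.injective B L) θ hθ hθL s
  have hsep : (minpoly K (algebraMap B L θ)).Separable := Algebra.IsSeparable.isSeparable K _
  have hmem := mem_range_of_localization (k := k) (K := K) (L := L) a ha θ hθ (s : Set B) hs
    (fun b hb => hgen b (Finset.mem_coe.mp hb)) hsep hinj
  have hbot : IntermediateField.adjoin K {algebraMap B L θ} = ⊥ := by
    rw [IntermediateField.adjoin_simple_eq_bot_iff, IntermediateField.mem_bot]
    exact hmem
  intro y
  have hy : y ∈ (⊥ : IntermediateField K L) := by
    rw [← hbot, hθL]; exact IntermediateField.mem_top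
  exact IntermediateField.mem_bot.mp hy

end Loc

section Cor

variable {k A B : Type*} [Field k] [IsAlgClosed k] [CharZero k] [CommRing A] [CommRing B]
  [IsDomain A] [IsDomain B] [IsIntegrallyClosed A] [Algebra k A] [Algebra k B] [Algebra A B]
  [IsScalarTower k A B] [Algebra.FiniteType k A] [Algebra.FiniteType k B] [FaithfulSMul A B]
  [Algebra.QuasiFinite A B]

attribute [local instance] FractionRing.liftAlgebra in
/-- If `A → B` is an injective quasi-finite map of finitely generated domains over an algebraically
closed field of characteristic zero, `A` is integrally closed and rational points of `B` are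
determined by their restrictions to `A`, then `A` is integrally closed in `B`. -/
theorem mem_range_of_isIntegral_of_points_injective
    (hinj : ∀ φ ψ : B →ₐ[k] k, φ.comp (IsScalarTower.toAlgHom k A B) =
      ψ.comp (IsScalarTower.toAlgHom k A B) → φ = ψ) (b : B) (hb : IsIntegral A b) :
    b ∈ Set.range (algebraMap A B) := by
  let K := FractionRing A
  let L := FractionRing B
  haveI : Algebra.QuasiFinite A L := Algebra.QuasiFinite.trans A B L
  haveI : Algebra.QuasiFinite K L := Algebra.QuasiFinite.of_restrictScalars A K L
  haveI : Module.Finite K L := Module.Finite.of_quasiFinite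
  haveI : CharZero K := charZero_of_injective_algebraMap (algebraMap k K).injective
  have hsurj : Function.Surjective (algebraMap K L) :=
    algebraMap_surjective_of_points_injective (k := k) (A := A) (B := B) hinj
  obtain ⟨c, hc⟩ := hsurj (algebraMap B L b)
  have h1 : IsIntegral A (algebraMap K L c) := by
    rw [hc]; exact hb.map (IsScalarTower.toAlgHom A B L)
  have h2 : IsIntegral A c := (isIntegral_algebraMap_iff (algebraMap K L).injective).mp h1
  obtain ⟨x, hx⟩ := IsIntegrallyClosed.isIntegral_iff.mp h2
  refine ⟨x, ?_⟩
  apply IsFractionRing.injective B L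
  rw [← hc, ← hx, ← IsScalarTower.algebraMap_apply A B L, ← IsScalarTower.algebraMap_apply A K L]

end Cor

end Groth.Agent.Lib.T2H3.InjPtsAlg
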