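/-
Helper library (helper3): a morphism of schemes locally of finite type over an algebraically closed
field which is injective on rational points is locally quasi-finite.
-/
import Mathlib

set_option autoImplicit false
set_option linter.style.haveILetI false
universe u

open CategoryTheory AlgebraicGeometry

namespace Groth.Agent.Lib.T2H3.InjPtsSch

section QF

variable {k : Type u} [Field k] [IsAlgClosed k] {X Y : Scheme.{u}}
  (sX : X ⟶ Spec (CommRingCat.of k)) (sY : Y ⟶ Spec (CommRingCat.of k))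
  [LocallyOfFiniteType sX] [LocallyOfFiniteType sY]
  (f : X ⟶ Y) (hf : f ≫ sY = sX)
  (hinj : ∀ a b : Spec (CommRingCat.of k) ⟶ X, a ≫ sX = 𝟙 _ → b ≫ sX = 𝟙 _ →
    a ≫ f = b ≫ f → a = b)

include hf hinj in
theorem closedPoints_injective (x₁ x₂ : X) (h₁ : IsClosed ({x₁} : Set X))
    (h₂ : IsClosed ({x₂} : Set X)) (h : f x₁ = f x₂) : x₁ = x₂ := by
  set a₁ := pointOfClosedPoint sX x₁ h₁
  set a₂ := pointOfClosedPoint sX x₂ h₂
  have e₁ : a₁ ≫ sX = 𝟙 _ := pointOfClosedPoint_comp sX x₁ h₁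
  have e₂ : a₂ ≫ sX = 𝟙 _ := pointOfClosedPoint_comp sX x₂ h₂
  have e₁' : (a₁ ≫ f) ≫ sY = 𝟙 _ := by rw [Category.assoc, hf, e₁]
  have e₂' : (a₂ ≫ f) ≫ sY = 𝟙 _ := by rw [Category.assoc, hf, e₂]
  have h3 : a₁ ≫ f = a₂ ≫ f := by
    refine ext_of_apply_closedPoint_eq sY e₁' e₂' ?_
    rw [Scheme.Hom.comp_apply, Scheme.Hom.comp_apply, pointOfClosedPoint_apply,
      pointOfClosedPoint_apply, h]
  have h4 := hinj a₁ a₂ e₁ e₂ h3
  have h5 : a₁ (IsLocalRing.closedPoint k) = a₂ (IsLocalRing.closedPoint k) := by rw [h4]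
  rwa [pointOfClosedPoint_apply, pointOfClosedPoint_apply] at h5

include hf in
theorem isClosed_singleton_map (x : X) (hx : IsClosed ({x} : Set X)) :
    IsClosed ({f x} : Set Y) := by
  set a := pointOfClosedPoint sX x hx
  have e : a ≫ sX = 𝟙 _ := pointOfClosedPoint_comp sX x hx
  have e' : (a ≫ f) ≫ sY = 𝟙 _ := by rw [Category.assoc, hf, e]
  have h := (pointEquivClosedPoint sY ⟨a ≫ f, e'⟩).2
  have h2 : ((pointEquivClosedPoint sY ⟨a ≫ f, e'⟩) : Y) = f x := by
    rw [pointEquivClosedPoint_apply_coe, Scheme.Hom.comp_apply, pointOfClosedPoint_apply]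
  rw [← h2]
  exact h

include hf hinj in
theorem preimage_eq_singleton (x : X) (hx : IsClosed ({x} : Set X)) :
    f ⁻¹' {f x} = {x} := by
  haveI : JacobsonSpace X := LocallyOfFiniteType.jacobsonSpace sX
  have hcl : IsClosed (f ⁻¹' {f x}) := (isClosed_singleton_map sX sY f hf x hx).preimage f.continuous
  have h1 := JacobsonSpace.closure_inter_closedPoints_eq_closure hcl.isLocallyClosed
  rw [hcl.closure_eq] at h1
  have h2 : f ⁻¹' {f x} ∩ closedPoints X ⊆ {x} := by
    rintro z ⟨hz1, hz2⟩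
    exact closedPoints_injective sX sY f hf hinj z x hz2 hx hz1
  refine Set.Subset.antisymm ?_ (by rintro _ rfl; rfl)
  rw [← h1]
  exact (closure_mono h2).trans hx.closure_eq.subset

include hf hinj in
theorem quasiFiniteAt_of_isClosed (x : X) (hx : IsClosed ({x} : Set X)) : f.QuasiFiniteAt x := by
  haveI : LocallyOfFiniteType (f ≫ sY) := by rw [hf]; infer_instance
  haveI : LocallyOfFiniteType f := locallyOfFiniteType_of_comp f sY
  rw [Scheme.Hom.quasiFiniteAt_iff_isOpen_singleton_asFiber]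
  have h1 : ({f.asFiber x} : Set (f.fiber (f x))) = Set.univ := by
    rw [Set.eq_univ_iff_forall]
    intro z
    rw [Set.mem_singleton_iff]
    apply (f.fiberHomeo (f x)).injective
    apply Subtype.ext
    have h2 : ((f.fiberHomeo (f x) z) : X) ∈ f ⁻¹' {f x} := (f.fiberHomeo (f x) z).2
    have h3 : ((f.fiberHomeo (f x) z) : X) ∈ ({x} : Set X) := by
      rw [← preimage_eq_singleton sX sY f hf hinj x hx]; exact h2
    rw [Set.mem_singleton_iff.mp h3, Scheme.Hom.fiberHomeo_apply, Scheme.Hom.fiberι_asFiber]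
  rw [h1]
  exact isOpen_univ

include hf hinj in
theorem locallyQuasiFinite : LocallyQuasiFinite f := by
  haveI : LocallyOfFiniteType (f ≫ sY) := by rw [hf]; infer_instance
  haveI : LocallyOfFiniteType f := locallyOfFiniteType_of_comp f sY
  haveI : JacobsonSpace X := LocallyOfFiniteType.jacobsonSpace sX
  rw [← Scheme.Hom.quasiFiniteLocus_eq_top_iff]
  have hop : IsOpen {x | f.QuasiFiniteAt x} := f.isOpen_quasiFiniteAt
  by_contra hne
  have h1 : ({x | f.QuasiFiniteAt x}ᶜ : Set X).Nonempty := by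
    by_contra h2
    rw [Set.not_nonempty_iff_eq_empty, Set.compl_empty_iff] at h2
    apply hne
    ext x
    simp only [TopologicalSpace.Opens.coe_top, Set.mem_univ, iff_true]
    have : x ∈ {x | f.QuasiFiniteAt x} := by rw [h2]; trivial
    exact this
  obtain ⟨z, hz1, hz2⟩ := nonempty_inter_closedPoints h1 hop.isClosed_compl.isLocallyClosed
  exact hz1 (quasiFiniteAt_of_isClosed sX sY f hf hinj z hz2)

end QF

end Groth.Agent.Lib.T2H3.InjPtsSch
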