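import Mathlib
import Groth.Prelude.Def_Fitting
import Groth.Prelude.Def_Pi1
import Groth.Agent.Lib.Helper4NormIso

/-!
# The norm of a finite surjective morphism onto a normal integral scheme

Library for S8881 (namespace `Groth.Agent.Lib.T2H3.NormNormal`): for `π : X ⟶ Y` finite surjective with
`X`, `Y` integral and `Y` normal, the field norm `N_{K(X)/K(Y)}` restricts to multiplicative maps
`Γ(X, π⁻¹U) → Γ(Y, U)` forming a norm of degree `[K(X) : K(Y)]`.
-/

set_option autoImplicit false
set_option linter.style.haveILetI false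

universe u

open CategoryTheory AlgebraicGeometry TopologicalSpace Opposite

namespace Groth.Agent.Lib.T2H3.NormNormal

section Alg

variable {A B K L : Type*} [CommRing A] [IsDomain A] [IsIntegrallyClosed A] [CommRing B] [IsDomain B]
  [Algebra A B] [Algebra.IsIntegral A B]
  [Field K] [Field L] [Algebra A K] [IsFractionRing A K] [Algebra B L] [FaithfulSMul B L]
  [Algebra K L] [Algebra A L] [IsScalarTower A K L] [IsScalarTower A B L] [FiniteDimensional K L]

omit [FaithfulSMul B L] in
open Polynomial IsScalarTower in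
/-- `x⁻¹ N(x)` is integral over `A` -/
theorem isIntegral_inv_mul_norm (b : B) (hb : algebraMap B L b ≠ 0) :
    IsIntegral A ((algebraMap B L b)⁻¹ *
      algebraMap K L (Algebra.norm K (algebraMap B L b))) := by
  classical
  let E := AlgebraicClosure L
  have hbi : IsIntegral A b := Algebra.IsIntegral.isIntegral b
  rw [← isIntegral_algHom_iff (toAlgHom A L E) (FaithfulSMul.algebraMap_injective L E),
    coe_toAlgHom', map_mul, map_inv₀, ← algebraMap_apply K L E,
    Algebra.norm_eq_prod_roots _ (IsAlgClosed.splits _), ← Multiset.prod_erase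
    (a := algebraMap L E (algebraMap B L b))]
  · rw [mul_pow, ← mul_pow_sub_one (Nat.pos_iff_ne_zero.1 Module.finrank_pos)
      (algebraMap L E (algebraMap B L b)), mul_assoc, inv_mul_cancel_left₀]
    · refine IsIntegral.mul (IsIntegral.pow ?_ _)
        (IsIntegral.pow (IsIntegral.multiset_prod (fun a ha ↦ ⟨minpoly A b, minpoly.monic hbi, ?_⟩)) _)
      · exact (hbi.map (toAlgHom A B L)).map (toAlgHom A L E)
      · replace ha := Multiset.erase_subset _ _ ha
        suffices (aeval a) ((minpoly A b).map (algebraMap A K)) = 0 by simpa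
        rw [← minpoly.isIntegrallyClosed_eq_field_fractions K L hbi]
        exact (mem_aroots.mp ha).2
    · exact (map_ne_zero_iff _ (FaithfulSMul.algebraMap_injective L E)).mpr hb
  · rw [mem_aroots]
    refine ⟨minpoly.ne_zero (hbi.map (toAlgHom A B L)).tower_top, ?_⟩
    rw [aeval_algebraMap_apply, minpoly.aeval, map_zero]

/-- if `b` lies in a prime `q` of `B`, its norm lies in `q ∩ A` -/
theorem algebraMap_mem_of_norm (b : B) (q : Ideal B) [q.IsPrime] (hb : b ∈ q) (t : A)
    (ht : algebraMap A K t = Algebra.norm K (algebraMap B L b)) : algebraMap A B t ∈ q := by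
  by_cases hb0 : algebraMap B L b = 0
  · rw [hb0, Algebra.norm_zero] at ht
    have : t = 0 := (IsFractionRing.injective A K) (ht.trans (map_zero _).symm)
    rw [this, map_zero]
    exact q.zero_mem
  · have hint := isIntegral_inv_mul_norm (A := A) (K := K) b hb0
    set y := (algebraMap B L b)⁻¹ * algebraMap K L (Algebra.norm K (algebraMap B L b)) with hy
    have hyB : IsIntegral B y := hint.tower_top
    let D := integralClosure B L
    have hker : RingHom.ker (algebraMap B D) ≤ q := by
      intro x hx
      rw [RingHom.mem_ker] at hx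
      have h1 : algebraMap B L x = 0 := by
        have := congrArg (algebraMap D L) hx
        rwa [← IsScalarTower.algebraMap_apply, map_zero] at this
      have : x = 0 := FaithfulSMul.algebraMap_injective B L (h1.trans (map_zero _).symm)
      rw [this]
      exact q.zero_mem
    obtain ⟨Q, hQp, hQ⟩ := Ideal.exists_ideal_over_prime_of_isIntegral_of_isDomain q hker
    have h1 : algebraMap B D b ∈ Q := by
      have : b ∈ Q.comap (algebraMap B D) := hQ ▸ hb
      exact this
    have h2 : algebraMap B D b * ⟨y, hyB⟩ = algebraMap B D (algebraMap A B t) := by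
      apply Subtype.ext
      change algebraMap B L b * y = algebraMap B L (algebraMap A B t)
      rw [hy, mul_inv_cancel_left₀ hb0, ← ht, ← IsScalarTower.algebraMap_apply,
        ← IsScalarTower.algebraMap_apply]
    have h3 : algebraMap B D (algebraMap A B t) ∈ Q := h2 ▸ Q.mul_mem_right _ h1
    have : algebraMap A B t ∈ Q.comap (algebraMap B D) := h3
    rwa [hQ] at this

end Alg

section Sch

/-- gluing sections inside the function field of an integral scheme -/
theorem exists_section_of_forall_affine {Z : Scheme.{u}} [IsIntegral Z] (V : Z.Opens)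
    [hV : Nonempty V] (x : Z.functionField)
    (hloc : ∀ W : Z.Opens, IsAffineOpen W → W ≤ V → ∀ _ : Nonempty W,
      ∃ s : Γ(Z, W), (Z.germToFunctionField W).hom s = x) :
    ∃ s : Γ(Z, V), (Z.germToFunctionField V).hom s = x := by
  let ι := {W : Z.affineOpens // W.1 ≤ V ∧ Nonempty W.1}
  let U : ι → Z.Opens := fun W => W.1.1
  choose! sf hsf using fun W : ι => hloc W.1.1 W.1.2 W.2.1 W.2.2
  have hcompat : TopCat.Presheaf.IsCompatible Z.presheaf U sf := by
    intro i j
    by_cases hij : Nonempty (U i ⊓ U j : Z.Opens)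
    · apply Z.germToFunctionField_injective (U i ⊓ U j)
      haveI := i.2.2
      haveI := j.2.2
      have h1 : (Z.germToFunctionField (U i ⊓ U j)).hom
          ((Z.presheaf.map (TopologicalSpace.Opens.infLELeft (U i) (U j)).op).hom (sf i)) =
          (Z.germToFunctionField (U i)).hom (sf i) := by
        rw [← CommRingCat.comp_apply, Z.presheaf.germ_res]
      have h2 : (Z.germToFunctionField (U i ⊓ U j)).hom
          ((Z.presheaf.map (TopologicalSpace.Opens.infLERight (U i) (U j)).op).hom (sf j)) =
          (Z.germToFunctionField (U j)).hom (sf j) := by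
        rw [← CommRingCat.comp_apply, Z.presheaf.germ_res]
      exact h1.trans ((hsf i).trans ((hsf j).symm.trans h2.symm))
    · have h0 : U i ⊓ U j = ⊥ := by
        ext y
        simp only [TopologicalSpace.Opens.coe_bot, Set.mem_empty_iff_false, iff_false]
        exact fun hy => hij ⟨⟨y, hy⟩⟩
      haveI : Subsingleton Γ(Z, U i ⊓ U j) := by
        rw [h0]; infer_instance
      exact Subsingleton.elim _ _
  have hcover : V ≤ iSup U := by
    intro y hy
    obtain ⟨_, ⟨W, hW, rfl⟩, hyW, hWV⟩ := Z.isBasis_affineOpens.exists_subset_of_mem_open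
      hy V.isOpen
    exact TopologicalSpace.Opens.mem_iSup.mpr ⟨⟨⟨W, hW⟩, hWV, ⟨⟨y, hyW⟩⟩⟩, hyW⟩
  obtain ⟨s, hs, -⟩ := Z.sheaf.existsUnique_gluing' U V (fun i => homOfLE i.2.1) hcover sf hcompat
  refine ⟨s, ?_⟩
  obtain ⟨y, hy⟩ : ∃ y, y ∈ V := ⟨hV.some.1, hV.some.2⟩
  obtain ⟨_, ⟨W, hW, rfl⟩, hyW, hWV⟩ := Z.isBasis_affineOpens.exists_subset_of_mem_open
    hy V.isOpen
  let i : ι := ⟨⟨W, hW⟩, hWV, ⟨⟨_, hyW⟩⟩⟩
  haveI := i.2.2
  have h3 := hs i
  have h4 : (Z.germToFunctionField W).hom
      ((Z.presheaf.map (homOfLE hWV : W ⟶ V).op).hom s) =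
      (Z.germToFunctionField V).hom s :=
    Z.presheaf.germ_res_apply (homOfLE hWV) _ _ s
  exact h4.symm.trans ((congrArg (Z.germToFunctionField W).hom h3).trans (hsf i))

theorem mem_primeIdealOf_iff {X : Scheme.{u}} {V : X.Opens} (hV : IsAffineOpen V) (x : X)
    (hx : x ∈ V) (s : Γ(X, V)) :
    s ∈ (hV.primeIdealOf ⟨x, hx⟩).asIdeal ↔
      X.presheaf.germ V x hx s ∈ IsLocalRing.maximalIdeal (X.presheaf.stalk x) := by
  rw [hV.primeIdealOf_eq_map_closedPoint]
  rfl

variable {X Y : Scheme.{u}} (π : X ⟶ Y) [IsIntegral X] [IsIntegral Y]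

theorem map_genericPoint [Surjective π] : π.base (genericPoint X) = genericPoint Y := by
  obtain ⟨x, hx⟩ := π.surjective (genericPoint Y)
  have h1 : π.base (genericPoint X) ⤳ genericPoint Y := by
    rw [← hx]
    exact (genericPoint_specializes x).map π.continuous
  exact (h1.antisymm (genericPoint_specializes _)).eq

omit [IsIntegral X] [IsIntegral Y] in
theorem nonempty_preimage [Surjective π] (U : Y.Opens) [hU : Nonempty U] : Nonempty (π ⁻¹ᵁ U) := by
  obtain ⟨y, hy⟩ := hU
  obtain ⟨x, rfl⟩ := π.surjective y
  exact ⟨⟨x, hy⟩⟩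

/-- the induced map of function fields -/
noncomputable def ffHom (e : π.base (genericPoint X) = genericPoint Y) :
    Y.functionField →+* X.functionField :=
  (Y.presheaf.stalkSpecializes (specializes_of_eq e) ≫ π.stalkMap (genericPoint X)).hom

theorem ffHom_germ (e : π.base (genericPoint X) = genericPoint Y) (U : Y.Opens) [Nonempty U]
    [Nonempty (π ⁻¹ᵁ U)] (g : Γ(Y, U)) :
    ffHom π e ((Y.germToFunctionField U).hom g) =
      (X.germToFunctionField (π ⁻¹ᵁ U)).hom ((π.app U).hom g) := by
  have h : (Y.germToFunctionField U ≫ Y.presheaf.stalkSpecializes (specializes_of_eq e) ≫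
      π.stalkMap (genericPoint X)) = π.app U ≫ X.germToFunctionField (π ⁻¹ᵁ U) := by
    unfold Scheme.germToFunctionField
    rw [TopCat.Presheaf.germ_stalkSpecializes_assoc, Scheme.Hom.germ_stalkMap]
  exact congrArg (fun f => f.hom g) h

theorem app_injective (e : π.base (genericPoint X) = genericPoint Y) (U : Y.Opens) [Nonempty U]
    [Nonempty (π ⁻¹ᵁ U)] : Function.Injective (π.app U).hom := by
  rw [injective_iff_map_eq_zero]
  intro g hg
  have h := ffHom_germ π e U g
  rw [hg, map_zero] at h
  have h2 : (Y.germToFunctionField U).hom g = 0 :=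
    (ffHom π e).injective (h.trans (map_zero _).symm)
  exact Y.germToFunctionField_injective U (h2.trans (map_zero _).symm)

variable [Algebra Y.functionField X.functionField]

theorem finiteDimensional_ff [IsFinite π] [Surjective π]
    (e : π.base (genericPoint X) = genericPoint Y)
    (hφ : algebraMap Y.functionField X.functionField = ffHom π e) :
    FiniteDimensional Y.functionField X.functionField := by
  obtain ⟨W, hW, hne⟩ : ∃ W : Y.Opens, IsAffineOpen W ∧ Nonempty W := by
    obtain ⟨_, ⟨W, hW, rfl⟩, hyW, -⟩ := Y.isBasis_affineOpens.exists_subset_of_mem_open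
      (Set.mem_univ (genericPoint Y)) isOpen_univ
    exact ⟨W, hW, ⟨⟨_, hyW⟩⟩⟩
  haveI := hne
  haveI := nonempty_preimage π W
  letI : Algebra Γ(Y, W) Γ(X, π ⁻¹ᵁ W) := (π.app W).hom.toAlgebra
  haveI : IsDomain Γ(Y, W) := IsIntegral.component_integral W
  haveI : IsDomain Γ(X, π ⁻¹ᵁ W) := IsIntegral.component_integral _
  haveI : Module.Finite Γ(Y, W) Γ(X, π ⁻¹ᵁ W) := π.finite_app W hW
  haveI : IsFractionRing Γ(Y, W) Y.functionField :=
    functionField_isFractionRing_of_isAffineOpen Y W hW
  haveI : IsFractionRing Γ(X, π ⁻¹ᵁ W) X.functionField :=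
    functionField_isFractionRing_of_isAffineOpen X _ (hW.preimage π)
  haveI : FaithfulSMul Γ(Y, W) Γ(X, π ⁻¹ᵁ W) :=
    (faithfulSMul_iff_algebraMap_injective _ _).mpr (app_injective π e W)
  letI : Algebra Γ(Y, W) X.functionField :=
    ((algebraMap Y.functionField X.functionField).comp
      (algebraMap Γ(Y, W) Y.functionField)).toAlgebra
  haveI : IsScalarTower Γ(Y, W) Y.functionField X.functionField :=
    IsScalarTower.of_algebraMap_eq' rfl
  haveI : IsScalarTower Γ(Y, W) Γ(X, π ⁻¹ᵁ W) X.functionField :=
    IsScalarTower.of_algebraMap_eq (fun g => by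
      change (algebraMap Y.functionField X.functionField) ((Y.germToFunctionField W).hom g) =
        (X.germToFunctionField (π ⁻¹ᵁ W)).hom ((π.app W).hom g)
      rw [hφ]
      exact ffHom_germ π e W g)
  exact Module.Finite.of_isLocalization Γ(Y, W) Γ(X, π ⁻¹ᵁ W) (nonZeroDivisors Γ(Y, W))

theorem exists_norm_section_affine [IsFinite π] (hY : Pi1.IsNormalScheme Y)
    (e : π.base (genericPoint X) = genericPoint Y)
    (hφ : algebraMap Y.functionField X.functionField = ffHom π e)
    (W : Y.Opens) (hW : IsAffineOpen W) [Nonempty W] [Nonempty (π ⁻¹ᵁ W)]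
    (b : Γ(X, π ⁻¹ᵁ W)) :
    ∃ t : Γ(Y, W), (Y.germToFunctionField W).hom t =
      Algebra.norm Y.functionField ((X.germToFunctionField (π ⁻¹ᵁ W)).hom b) := by
  letI : Algebra Γ(Y, W) Γ(X, π ⁻¹ᵁ W) := (π.app W).hom.toAlgebra
  haveI : IsDomain Γ(Y, W) := IsIntegral.component_integral W
  haveI : IsIntegrallyClosed Γ(Y, W) :=
    Groth.Agent.Lib.Helper4.NormIso.isIntegrallyClosed_sections hY W hW
  haveI : Module.Finite Γ(Y, W) Γ(X, π ⁻¹ᵁ W) := π.finite_app W hW
  haveI : IsFractionRing Γ(Y, W) Y.functionField :=
    functionField_isFractionRing_of_isAffineOpen Y W hW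
  letI : Algebra Γ(Y, W) X.functionField :=
    ((algebraMap Y.functionField X.functionField).comp
      (algebraMap Γ(Y, W) Y.functionField)).toAlgebra
  haveI : IsScalarTower Γ(Y, W) Y.functionField X.functionField :=
    IsScalarTower.of_algebraMap_eq' rfl
  haveI : IsScalarTower Γ(Y, W) Γ(X, π ⁻¹ᵁ W) X.functionField :=
    IsScalarTower.of_algebraMap_eq (fun g => by
      change (algebraMap Y.functionField X.functionField) ((Y.germToFunctionField W).hom g) =
        (X.germToFunctionField (π ⁻¹ᵁ W)).hom ((π.app W).hom g)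
      rw [hφ]
      exact ffHom_germ π e W g)
  have hbi : IsIntegral Γ(Y, W) (algebraMap Γ(X, π ⁻¹ᵁ W) X.functionField b) :=
    (Algebra.IsIntegral.isIntegral b).map (IsScalarTower.toAlgHom Γ(Y, W) Γ(X, π ⁻¹ᵁ W) X.functionField)
  have hn : IsIntegral Γ(Y, W) (Algebra.norm Y.functionField
      (algebraMap Γ(X, π ⁻¹ᵁ W) X.functionField b)) := Algebra.isIntegral_norm Y.functionField hbi
  obtain ⟨t, ht⟩ := (IsIntegrallyClosed.isIntegral_iff (R := Γ(Y, W)) (K := Y.functionField)).mp hn
  exact ⟨t, ht⟩

theorem norm_mem_affine [IsFinite π] (hY : Pi1.IsNormalScheme Y)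
    (e : π.base (genericPoint X) = genericPoint Y)
    (hφ : algebraMap Y.functionField X.functionField = ffHom π e)
    [FiniteDimensional Y.functionField X.functionField]
    (W : Y.Opens) (hW : IsAffineOpen W) [Nonempty W] [Nonempty (π ⁻¹ᵁ W)]
    (b : Γ(X, π ⁻¹ᵁ W)) (t : Γ(Y, W))
    (ht : (Y.germToFunctionField W).hom t =
      Algebra.norm Y.functionField ((X.germToFunctionField (π ⁻¹ᵁ W)).hom b))
    (x : X) (hx : π.base x ∈ W)
    (hb : X.presheaf.germ (π ⁻¹ᵁ W) x hx b ∈ IsLocalRing.maximalIdeal (X.presheaf.stalk x)) :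
    Y.presheaf.germ W (π.base x) hx t ∈
      IsLocalRing.maximalIdeal (Y.presheaf.stalk (π.base x)) := by
  letI : Algebra Γ(Y, W) Γ(X, π ⁻¹ᵁ W) := (π.app W).hom.toAlgebra
  haveI : IsDomain Γ(Y, W) := IsIntegral.component_integral W
  haveI : IsDomain Γ(X, π ⁻¹ᵁ W) := IsIntegral.component_integral _
  haveI : IsIntegrallyClosed Γ(Y, W) :=
    Groth.Agent.Lib.Helper4.NormIso.isIntegrallyClosed_sections hY W hW
  haveI : Module.Finite Γ(Y, W) Γ(X, π ⁻¹ᵁ W) := π.finite_app W hW
  haveI : IsFractionRing Γ(Y, W) Y.functionField :=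
    functionField_isFractionRing_of_isAffineOpen Y W hW
  haveI : FaithfulSMul Γ(X, π ⁻¹ᵁ W) X.functionField :=
    (faithfulSMul_iff_algebraMap_injective _ _).mpr (X.germToFunctionField_injective _)
  letI : Algebra Γ(Y, W) X.functionField :=
    ((algebraMap Y.functionField X.functionField).comp
      (algebraMap Γ(Y, W) Y.functionField)).toAlgebra
  haveI : IsScalarTower Γ(Y, W) Y.functionField X.functionField :=
    IsScalarTower.of_algebraMap_eq' rfl
  haveI : IsScalarTower Γ(Y, W) Γ(X, π ⁻¹ᵁ W) X.functionField :=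
    IsScalarTower.of_algebraMap_eq (fun g => by
      change (algebraMap Y.functionField X.functionField) ((Y.germToFunctionField W).hom g) =
        (X.germToFunctionField (π ⁻¹ᵁ W)).hom ((π.app W).hom g)
      rw [hφ]
      exact ffHom_germ π e W g)
  have hV : IsAffineOpen (π ⁻¹ᵁ W) := hW.preimage π
  have hbq : b ∈ (hV.primeIdealOf ⟨x, hx⟩).asIdeal := (mem_primeIdealOf_iff hV x hx b).mpr hb
  have hmem := algebraMap_mem_of_norm (A := Γ(Y, W)) (K := Y.functionField)
    (L := X.functionField) b (hV.primeIdealOf ⟨x, hx⟩).asIdeal hbq t ht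
  have hmem' : X.presheaf.germ (π ⁻¹ᵁ W) x hx ((π.app W).hom t) ∈
      IsLocalRing.maximalIdeal (X.presheaf.stalk x) := (mem_primeIdealOf_iff hV x hx _).mp hmem
  rw [IsLocalRing.mem_maximalIdeal, mem_nonunits_iff] at hmem' ⊢
  intro hu
  apply hmem'
  have hxb : π.base x ∈ Y.basicOpen t := (Y.mem_basicOpen t (π.base x) hx).mpr hu
  have hxb' : x ∈ π ⁻¹ᵁ Y.basicOpen t := hxb
  rw [Scheme.preimage_basicOpen] at hxb'
  exact (X.mem_basicOpen _ x hx).mp hxb'

theorem exists_norm_section [IsFinite π] [Surjective π] (hY : Pi1.IsNormalScheme Y)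
    (e : π.base (genericPoint X) = genericPoint Y)
    (hφ : algebraMap Y.functionField X.functionField = ffHom π e)
    (U : Y.Opens) [Nonempty U] [Nonempty (π ⁻¹ᵁ U)] (s : Γ(X, π ⁻¹ᵁ U)) :
    ∃ t : Γ(Y, U), (Y.germToFunctionField U).hom t =
      Algebra.norm Y.functionField ((X.germToFunctionField (π ⁻¹ᵁ U)).hom s) := by
  apply exists_section_of_forall_affine U
  intro W hW hWU hne
  haveI := hne
  haveI := nonempty_preimage π W
  obtain ⟨t, ht⟩ := exists_norm_section_affine π hY e hφ W hW
    ((X.presheaf.map ((Opens.map π.base).map (homOfLE hWU)).op).hom s)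
  refine ⟨t, ht.trans ?_⟩
  congr 1
  exact X.presheaf.germ_res_apply ((Opens.map π.base).map (homOfLE hWU)) _ _ s

open Classical in
/-- the norm on sections -/
noncomputable def normFun [IsFinite π] [Surjective π] (hY : Pi1.IsNormalScheme Y)
    (e : π.base (genericPoint X) = genericPoint Y)
    (hφ : algebraMap Y.functionField X.functionField = ffHom π e)
    (U : Y.Opens) (s : Γ(X, π ⁻¹ᵁ U)) : Γ(Y, U) :=
  if h : Nonempty U then
    haveI := h
    haveI := nonempty_preimage π U
    (exists_norm_section π hY e hφ U s).choose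
  else 1

theorem normFun_spec [IsFinite π] [Surjective π] (hY : Pi1.IsNormalScheme Y)
    (e : π.base (genericPoint X) = genericPoint Y)
    (hφ : algebraMap Y.functionField X.functionField = ffHom π e)
    (U : Y.Opens) [hU : Nonempty U] [Nonempty (π ⁻¹ᵁ U)] (s : Γ(X, π ⁻¹ᵁ U)) :
    (Y.germToFunctionField U).hom (normFun π hY e hφ U s) =
      Algebra.norm Y.functionField ((X.germToFunctionField (π ⁻¹ᵁ U)).hom s) := by
  unfold normFun
  rw [dif_pos hU]
  exact (exists_norm_section π hY e hφ U s).choose_spec

omit [IsIntegral X] [IsIntegral Y] [Algebra Y.functionField X.functionField] in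
theorem subsingleton_of_not_nonempty (U : Y.Opens) (h : ¬ Nonempty U) : Subsingleton Γ(Y, U) := by
  have h0 : U = ⊥ := by
    ext y
    simp only [TopologicalSpace.Opens.coe_bot, Set.mem_empty_iff_false, iff_false]
    exact fun hy => h ⟨⟨y, hy⟩⟩
  rw [h0]
  infer_instance

/-- the norm of degree `[K(X) : K(Y)]` -/
noncomputable def normOfDegree [IsFinite π] [Surjective π] (hY : Pi1.IsNormalScheme Y)
    (e : π.base (genericPoint X) = genericPoint Y)
    (hφ : algebraMap Y.functionField X.functionField = ffHom π e)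
    [FiniteDimensional Y.functionField X.functionField] :
    Nrm.NormOfDegree π (Module.finrank Y.functionField X.functionField) where
  one_le := Module.finrank_pos
  norm U :=
    { toFun := normFun π hY e hφ U
      map_one' := by
        by_cases h : Nonempty U
        · haveI := h
          haveI := nonempty_preimage π U
          apply Y.germToFunctionField_injective U
          rw [normFun_spec, map_one, map_one, map_one]
        · haveI := subsingleton_of_not_nonempty U h
          exact Subsingleton.elim _ _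
      map_mul' := fun a b => by
        by_cases h : Nonempty U
        · haveI := h
          haveI := nonempty_preimage π U
          apply Y.germToFunctionField_injective U
          rw [map_mul, normFun_spec, normFun_spec, normFun_spec, map_mul, map_mul]
        · haveI := subsingleton_of_not_nonempty U h
          exact Subsingleton.elim _ _ }
  norm_res := fun {U V} i s => by
    by_cases h : Nonempty V
    · haveI := h
      haveI : Nonempty U := ⟨⟨h.some.1, i.le h.some.2⟩⟩
      haveI := nonempty_preimage π U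
      haveI := nonempty_preimage π V
      apply Y.germToFunctionField_injective V
      change (Y.germToFunctionField V).hom ((Y.presheaf.map i.op).hom (normFun π hY e hφ U s)) =
        (Y.germToFunctionField V).hom (normFun π hY e hφ V
          ((X.presheaf.map ((Opens.map π.base).map i).op).hom s))
      rw [normFun_spec]
      have h1 : (Y.germToFunctionField V).hom ((Y.presheaf.map i.op).hom (normFun π hY e hφ U s)) =
          (Y.germToFunctionField U).hom (normFun π hY e hφ U s) :=
        Y.presheaf.germ_res_apply i _ _ _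
      have h2 : (X.germToFunctionField (π ⁻¹ᵁ V)).hom
          ((X.presheaf.map ((Opens.map π.base).map i).op).hom s) =
          (X.germToFunctionField (π ⁻¹ᵁ U)).hom s :=
        X.presheaf.germ_res_apply ((Opens.map π.base).map i) _ _ s
      rw [h1, h2, normFun_spec]
    · haveI := subsingleton_of_not_nonempty V h
      exact Subsingleton.elim _ _
  norm_app := fun U g => by
    by_cases h : Nonempty U
    · haveI := h
      haveI := nonempty_preimage π U
      apply Y.germToFunctionField_injective U
      change (Y.germToFunctionField U).hom (normFun π hY e hφ U ((π.app U).hom g)) = _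
      rw [normFun_spec, ← ffHom_germ π e U g, ← hφ, Algebra.norm_algebraMap, map_pow]
    · haveI := subsingleton_of_not_nonempty U h
      exact Subsingleton.elim _ _
  norm_mem := fun U s x hx hs => by
    obtain ⟨_, ⟨W, hW, rfl⟩, hxW, hWU⟩ := Y.isBasis_affineOpens.exists_subset_of_mem_open
      hx U.isOpen
    haveI : Nonempty W := ⟨⟨_, hxW⟩⟩
    haveI : Nonempty U := ⟨⟨_, hx⟩⟩
    haveI := nonempty_preimage π U
    haveI := nonempty_preimage π W
    let i : W ⟶ U := homOfLE hWU
    have ht : (Y.germToFunctionField W).hom ((Y.presheaf.map i.op).hom (normFun π hY e hφ U s)) =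
        Algebra.norm Y.functionField ((X.germToFunctionField (π ⁻¹ᵁ W)).hom
          ((X.presheaf.map ((Opens.map π.base).map i).op).hom s)) := by
      have h1 : (Y.germToFunctionField W).hom ((Y.presheaf.map i.op).hom (normFun π hY e hφ U s)) =
          (Y.germToFunctionField U).hom (normFun π hY e hφ U s) :=
        Y.presheaf.germ_res_apply i _ _ _
      have h2 : (X.germToFunctionField (π ⁻¹ᵁ W)).hom
          ((X.presheaf.map ((Opens.map π.base).map i).op).hom s) =
          (X.germToFunctionField (π ⁻¹ᵁ U)).hom s :=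
        X.presheaf.germ_res_apply ((Opens.map π.base).map i) _ _ s
      rw [h1, h2, normFun_spec]
    have hb : X.presheaf.germ (π ⁻¹ᵁ W) x hxW
        ((X.presheaf.map ((Opens.map π.base).map i).op).hom s) ∈
        IsLocalRing.maximalIdeal (X.presheaf.stalk x) := by
      have : X.presheaf.germ (π ⁻¹ᵁ W) x hxW
          ((X.presheaf.map ((Opens.map π.base).map i).op).hom s) =
          X.presheaf.germ (π ⁻¹ᵁ U) x hx s :=
        X.presheaf.germ_res_apply ((Opens.map π.base).map i) x hxW s
      rw [this]
      exact hs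
    have := norm_mem_affine π hY e hφ W hW _ _ ht x hxW hb
    have h3 : Y.presheaf.germ W (π.base x) hxW ((Y.presheaf.map i.op).hom (normFun π hY e hφ U s)) =
        Y.presheaf.germ U (π.base x) hx (normFun π hY e hφ U s) :=
      Y.presheaf.germ_res_apply i (π.base x) hxW _
    rw [h3] at this
    exact this

omit [Algebra Y.functionField X.functionField] in
theorem hasNorm [IsFinite π] [Surjective π] (hY : Pi1.IsNormalScheme Y) :
    ∃ d : ℕ, Nrm.HasNorm π d := by
  have e := map_genericPoint π
  letI : Algebra Y.functionField X.functionField := (ffHom π e).toAlgebra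
  have hφ : algebraMap Y.functionField X.functionField = ffHom π e := rfl
  haveI := finiteDimensional_ff π e hφ
  exact ⟨_, ⟨normOfDegree π hY e hφ⟩⟩

end Sch

end Groth.Agent.Lib.T2H3.NormNormal
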