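/-
Helper library (helper3): a dominant morphism `f : X ⟶ Y` of integral schemes, separated and of
finite type over an algebraically closed field of characteristic zero, with `Y` normal, which is
injective on rational points, is an open immersion.
-/
import Groth.Agent.Lib.T2H3InjPtsAlgB
import Groth.Agent.Lib.T2H3InjPtsSchA
import Groth.Agent.Lib.T2H3NormNormal

set_option autoImplicit false
set_option linter.style.haveILetI false
universe u

open CategoryTheory AlgebraicGeometry

namespace Groth.Agent.Lib.T2H3.InjPtsSch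

section Gen

variable {X Y : Scheme.{u}} [IsIntegral X] [IsIntegral Y] (f : X ⟶ Y) [IsDominant f]

theorem map_genericPoint_of_isDominant : f (genericPoint X) = genericPoint Y := by
  have h1 : IsGenericPoint (f (genericPoint ↥X)) (closure (f '' Set.univ)) :=
    (genericPoint_spec ↥X).image f.continuous
  rw [Set.image_univ, f.denseRange.closure_range] at h1
  exact (h1.eq (genericPoint_spec ↥Y))

theorem appLE_injective (V : Y.Opens) (U : X.Opens) [hUne : Nonempty U] (e : U ≤ f ⁻¹ᵁ V) :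
    Function.Injective (f.appLE V U e).hom := by
  haveI : Nonempty (f ⁻¹ᵁ V : X.Opens) := ⟨⟨hUne.some.1, e hUne.some.2⟩⟩
  haveI : Nonempty V := ⟨⟨f hUne.some.1, e hUne.some.2⟩⟩
  have e0 := map_genericPoint_of_isDominant f
  rw [injective_iff_map_eq_zero]
  intro g hg
  have h := NormNormal.ffHom_germ f e0 V g
  have h2 : (X.germToFunctionField U).hom ((f.appLE V U e).hom g) =
      (X.germToFunctionField (f ⁻¹ᵁ V)).hom ((f.app V).hom g) := by
    rw [Scheme.Hom.appLE, CommRingCat.hom_comp, RingHom.comp_apply]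
    exact X.presheaf.germ_res_apply (homOfLE e) _ _ _
  rw [hg, map_zero] at h2
  rw [← h2] at h
  have h3 : (Y.germToFunctionField V).hom g = 0 :=
    (NormNormal.ffHom f e0).injective (h.trans (map_zero _).symm)
  exact Y.germToFunctionField_injective V (h3.trans (map_zero _).symm)

end Gen

section ToSpec

theorem fromSpec_comp_toSpec {X : Scheme.{u}} {R : CommRingCat.{u}} (g : X ⟶ Spec R)
    {U : X.Opens} (hU : IsAffineOpen U) :
    hU.fromSpec ≫ g = Spec.map ((Scheme.ΓSpecIso R).inv ≫ g.appLE ⊤ U le_top) := by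
  rw [Spec.map_comp, ← Scheme.isoSpec_Spec_inv, ← IsAffineOpen.fromSpec_top,
    IsAffineOpen.SpecMap_appLE_fromSpec]

end ToSpec

section Main

variable {k : Type u} [Field k] [IsAlgClosed k] [CharZero k] {X Y : Scheme.{u}}
  (sY : Y ⟶ Spec (CommRingCat.of k)) [IsIntegral X] [IsIntegral Y]
  [LocallyOfFiniteType sY] (hY : Pi1.IsNormalScheme Y)
  (f : X ⟶ Y) [LocallyOfFiniteType (f ≫ sY)] [IsDominant f] [LocallyQuasiFinite f]
  (hinj : ∀ a b : Spec (CommRingCat.of k) ⟶ X, a ≫ (f ≫ sY) = 𝟙 _ → b ≫ (f ≫ sY) = 𝟙 _ →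
    a ≫ f = b ≫ f → a = b)

include hY hinj in
set_option maxHeartbeats 800000 in
/-- Sections over an affine open of `X` which are integral over the sections over an affine open of
`Y` come from `Y`. -/
theorem exists_of_isIntegralElem (V : Y.Opens) (hV : IsAffineOpen V) (U : X.Opens)
    (hU : IsAffineOpen U) [hUne : Nonempty U] (e : U ≤ f ⁻¹ᵁ V) (b : Γ(X, U))
    (hb : (f.appLE V U e).hom.IsIntegralElem b) :
    ∃ x : Γ(Y, V), (f.appLE V U e).hom x = b := by
  haveI : Nonempty V := ⟨⟨f hUne.some.1, e hUne.some.2⟩⟩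
  haveI : IsDomain Γ(Y, V) := IsIntegral.component_integral V
  haveI : IsDomain Γ(X, U) := IsIntegral.component_integral U
  haveI : IsIntegrallyClosed Γ(Y, V) :=
    Groth.Agent.Lib.Helper4.NormIso.isIntegrallyClosed_sections hY V hV
  let κY : k →+* Γ(Y, V) :=
    ((Scheme.ΓSpecIso (CommRingCat.of k)).inv ≫ sY.appLE ⊤ V le_top).hom
  let κX : k →+* Γ(X, U) :=
    ((Scheme.ΓSpecIso (CommRingCat.of k)).inv ≫ (f ≫ sY).appLE ⊤ U le_top).hom
  let φ : Γ(Y, V) →+* Γ(X, U) := (f.appLE V U e).hom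
  have htow : κX = φ.comp κY := by
    change _ = ((Scheme.ΓSpecIso (CommRingCat.of k)).inv ≫ sY.appLE ⊤ V le_top ≫
      f.appLE V U e).hom
    rw [Scheme.Hom.appLE_comp_appLE]
  letI : Algebra k Γ(Y, V) := κY.toAlgebra
  letI : Algebra k Γ(X, U) := κX.toAlgebra
  letI : Algebra Γ(Y, V) Γ(X, U) := φ.toAlgebra
  haveI : IsScalarTower k Γ(Y, V) Γ(X, U) := IsScalarTower.of_algebraMap_eq' htow
  haveI : Algebra.FiniteType k Γ(Y, V) := by
    have h1 : RingHom.FiniteType (sY.appLE ⊤ V le_top).hom :=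
      HasRingHomProperty.appLE (P := @LocallyOfFiniteType) sY inferInstance
        ⟨⊤, isAffineOpen_top _⟩ ⟨V, hV⟩ le_top
    have h2 : RingHom.FiniteType κY := by
      change RingHom.FiniteType ((sY.appLE ⊤ V le_top).hom.comp
        (Scheme.ΓSpecIso (CommRingCat.of k)).inv.hom)
      exact h1.comp (RingHom.FiniteType.of_surjective _
        (ConcreteCategory.bijective_of_isIso (Scheme.ΓSpecIso (CommRingCat.of k)).inv).2)
    exact h2
  haveI : Algebra.FiniteType k Γ(X, U) := by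
    have h1 : RingHom.FiniteType ((f ≫ sY).appLE ⊤ U le_top).hom :=
      HasRingHomProperty.appLE (P := @LocallyOfFiniteType) (f ≫ sY) inferInstance
        ⟨⊤, isAffineOpen_top _⟩ ⟨U, hU⟩ le_top
    have h2 : RingHom.FiniteType κX := by
      change RingHom.FiniteType (((f ≫ sY).appLE ⊤ U le_top).hom.comp
        (Scheme.ΓSpecIso (CommRingCat.of k)).inv.hom)
      exact h1.comp (RingHom.FiniteType.of_surjective _
        (ConcreteCategory.bijective_of_isIso (Scheme.ΓSpecIso (CommRingCat.of k)).inv).2)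
    exact h2
  haveI : FaithfulSMul Γ(Y, V) Γ(X, U) :=
    (faithfulSMul_iff_algebraMap_injective _ _).mpr (appLE_injective f V U e)
  haveI : Algebra.QuasiFinite Γ(Y, V) Γ(X, U) := by
    have h1 : RingHom.QuasiFinite (f.appLE V U e).hom :=
      HasRingHomProperty.appLE (P := @LocallyQuasiFinite) f inferInstance ⟨V, hV⟩ ⟨U, hU⟩ e
    exact h1
  -- rational points
  have hpts : ∀ ψ₁ ψ₂ : Γ(X, U) →ₐ[k] k,
      ψ₁.comp (IsScalarTower.toAlgHom k Γ(Y, V) Γ(X, U)) =
        ψ₂.comp (IsScalarTower.toAlgHom k Γ(Y, V) Γ(X, U)) → ψ₁ = ψ₂ := by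
    intro ψ₁ ψ₂ h
    have hsec : ∀ ψ : Γ(X, U) →ₐ[k] k,
        (Spec.map (CommRingCat.ofHom (ψ : Γ(X, U) →+* k)) ≫ hU.fromSpec) ≫ (f ≫ sY) = 𝟙 _ := by
      intro ψ
      rw [Category.assoc, fromSpec_comp_toSpec, ← Spec.map_comp]
      have h3 : ((Scheme.ΓSpecIso (CommRingCat.of k)).inv ≫ (f ≫ sY).appLE ⊤ U le_top) ≫
          CommRingCat.ofHom (ψ : Γ(X, U) →+* k) = 𝟙 _ := by
        ext c
        exact ψ.commutes c
      rw [h3, Spec.map_id]
    have hcomp : ∀ ψ : Γ(X, U) →ₐ[k] k,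
        (Spec.map (CommRingCat.ofHom (ψ : Γ(X, U) →+* k)) ≫ hU.fromSpec) ≫ f =
          Spec.map (CommRingCat.ofHom ((ψ : Γ(X, U) →+* k).comp φ)) ≫ hV.fromSpec := by
      intro ψ
      rw [Category.assoc, ← IsAffineOpen.SpecMap_appLE_fromSpec f hV hU e, ← Spec.map_comp_assoc]
      rfl
    have h4 : (ψ₁ : Γ(X, U) →+* k).comp φ = (ψ₂ : Γ(X, U) →+* k).comp φ := by
      ext x
      exact congrArg (fun g : Γ(Y, V) →ₐ[k] k => g x) h
    have h5 := hinj _ _ (hsec ψ₁) (hsec ψ₂) (by rw [hcomp, hcomp, h4])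
    have h6 : Spec.map (CommRingCat.ofHom (ψ₁ : Γ(X, U) →+* k)) =
        Spec.map (CommRingCat.ofHom (ψ₂ : Γ(X, U) →+* k)) := by
      haveI : Mono hU.fromSpec := inferInstance
      exact (cancel_mono hU.fromSpec).mp h5
    have h7 := Spec.map_injective h6
    have h8 : (ψ₁ : Γ(X, U) →+* k) = (ψ₂ : Γ(X, U) →+* k) := congrArg CommRingCat.Hom.hom h7
    exact AlgHom.coe_ringHom_injective h8
  obtain ⟨x, hx⟩ := InjPtsAlg.mem_range_of_isIntegral_of_points_injective (k := k) hpts b hb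
  exact ⟨x, hx⟩

include hY hinj in
set_option maxHeartbeats 800000 in
theorem bijective_algebraMap_integralClosure [QuasiCompact f] [QuasiSeparated f]
    (V : Y.Opens) (hV : IsAffineOpen V) :
    letI := (f.app V).hom.toAlgebra
    Function.Bijective (algebraMap Γ(Y, V) (integralClosure Γ(Y, V) Γ(X, f ⁻¹ᵁ V))) := by
  letI := (f.app V).hom.toAlgebra
  by_cases hne : Nonempty V
  · obtain ⟨⟨y, hy⟩⟩ := hne
    obtain ⟨x, hx⟩ := f.denseRange.exists_mem_open V.isOpen ⟨y, hy⟩
    have hx' : x ∈ f ⁻¹ᵁ V := hx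
    obtain ⟨_, ⟨U, hU, rfl⟩, hxU, hUV⟩ := X.isBasis_affineOpens.exists_subset_of_mem_open
      hx' (f ⁻¹ᵁ V).isOpen
    have e : U ≤ f ⁻¹ᵁ V := hUV
    haveI : Nonempty U := ⟨⟨x, hxU⟩⟩
    haveI : Nonempty (f ⁻¹ᵁ V : X.Opens) := ⟨⟨x, hx'⟩⟩
    haveI : Nonempty V := ⟨⟨y, hy⟩⟩
    have e0 := map_genericPoint_of_isDominant f
    have hres : ∀ t : Γ(X, f ⁻¹ᵁ V), (X.germToFunctionField U).hom
        ((X.presheaf.map (homOfLE e).op).hom t) = (X.germToFunctionField (f ⁻¹ᵁ V)).hom t :=
      fun t => X.presheaf.germ_res_apply (homOfLE e) _ _ _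
    constructor
    · intro a₁ a₂ h
      apply NormNormal.app_injective f e0 V
      exact congrArg Subtype.val h
    · rintro ⟨b, hb⟩
      obtain ⟨p, hp, hpb⟩ : (f.app V).hom.IsIntegralElem b := hb
      have hb' : (f.appLE V U e).hom.IsIntegralElem ((X.presheaf.map (homOfLE e).op).hom b) := by
        refine ⟨p, hp, ?_⟩
        have h1 := congrArg (X.presheaf.map (homOfLE e).op).hom hpb
        rw [Polynomial.hom_eval₂, map_zero] at h1
        exact h1
      obtain ⟨a, ha⟩ := exists_of_isIntegralElem sY hY f hinj V hV U hU e _ hb'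
      refine ⟨a, Subtype.ext ?_⟩
      change (f.app V).hom a = b
      apply X.germToFunctionField_injective (f ⁻¹ᵁ V)
      rw [← hres, ← hres b, ← ha]
      rfl
  · haveI : Subsingleton Γ(Y, V) := NormNormal.subsingleton_of_not_nonempty V hne
    have hne' : ¬ Nonempty (f ⁻¹ᵁ V : X.Opens) := fun ⟨⟨x, hx⟩⟩ => hne ⟨⟨f x, hx⟩⟩
    haveI : Subsingleton Γ(X, f ⁻¹ᵁ V) := NormNormal.subsingleton_of_not_nonempty _ hne'
    constructor
    · intro a₁ a₂ _; exact Subsingleton.elim _ _
    · intro b; exact ⟨0, Subsingleton.elim _ _⟩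

include hY hinj in
theorem isIso_fromNormalization_app [QuasiCompact f] [QuasiSeparated f]
    (V : Y.Opens) (hV : IsAffineOpen V) : IsIso (f.fromNormalization.app V) := by
  letI := (f.app V).hom.toAlgebra
  have hbij := bijective_algebraMap_integralClosure sY hY f hinj V hV
  have h1 : IsIso (CommRingCat.ofHom
      (algebraMap Γ(Y, V) (integralClosure Γ(Y, V) Γ(X, f ⁻¹ᵁ V)))) := by
    rw [ConcreteCategory.isIso_iff_bijective]
    exact hbij
  have h2 := Scheme.Hom.fromNormalization_app f hV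
  rw [h2]
  exact IsIso.comp_isIso' h1 inferInstance

include hY hinj in
theorem isIso_fromNormalization [QuasiCompact f] [QuasiSeparated f] :
    IsIso f.fromNormalization := by
  have h := (IsZariskiLocalAtTarget.iff_of_iSup_eq_top
    (P := MorphismProperty.isomorphisms Scheme) (f := f.fromNormalization)
      (fun V : Y.affineOpens => V.1) (iSup_affineOpens_eq_top Y)).mpr ?_
  · exact h
  · rintro ⟨V, hV⟩
    haveI : IsAffineHom f.fromNormalization := inferInstance
    exact (isIso_morphismRestrict_iff_isIso_app (f := f.fromNormalization) hV).mpr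
      (isIso_fromNormalization_app sY hY f hinj V hV)

end Main

end Groth.Agent.Lib.T2H3.InjPtsSch
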