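import Mathlib
import Groth.Agent.Lib.T2H3KerFP
import Groth.Agent.Lib.Helper26FlatLimA

/-!
# Injectivity with flat cokernel descends to a stage of a filtered colimit of rings (helper3)

Ring-level form of the injectivity part of EGA IV 11.2.6-type statements.
-/

set_option autoImplicit false
set_option linter.unusedSectionVars false
set_option linter.style.haveILetI false
universe u
open TensorProduct

namespace Groth.Agent.Lib.T2H3.InjStageAlg

open Groth.Agent.Lib.T2H3.KerFP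

section FGK

/-- for an exact sequence `M → N → Q → 0` of finitely presented `B`-modules with `Q` flat over `R`
(`B` of finite presentation over `R`), the kernel of `M → N` is finitely generated. -/
theorem fg_ker_of_exact_of_flat (R B : Type u) [CommRing R] [CommRing B] [Algebra R B]
    [Algebra.FinitePresentation R B]
    {M N Q : Type u} [AddCommGroup M] [Module B M] [Module.FinitePresentation B M]
    [AddCommGroup N] [Module B N] [Module.FinitePresentation B N]
    [AddCommGroup Q] [Module B Q] [Module R Q] [IsScalarTower R B Q]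
    [Module.FinitePresentation B Q] [Module.Flat R Q] (φ : M →ₗ[B] N) (π : N →ₗ[B] Q) (hπ : Function.Surjective π)
    (hex : Function.Exact φ π) : (LinearMap.ker φ).FG := by
  haveI hfp : Module.FinitePresentation B (LinearMap.ker π) :=
    finitePresentation_ker_of_flat R B π hπ
  let v : M →ₗ[B] LinearMap.ker π := φ.codRestrict _ (fun m => hex.apply_apply_eq_zero m)
  have hv : Function.Surjective v := by
    rintro ⟨n, hn⟩
    obtain ⟨m, rfl⟩ := (hex n).mp hn
    exact ⟨m, rfl⟩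
  have hker : LinearMap.ker v = LinearMap.ker φ := LinearMap.ker_codRestrict _ _ _
  rw [← hker]
  exact Module.FinitePresentation.fg_ker v hv

/-- in the situation of `fg_ker_of_exact_of_flat`, there is a finite subset `S` of `Ker φ₁` such
that for every `R₁`-algebra `T` killing `S` (i.e. `1 ⊗ s = 0` in `T ⊗ M₁`), the base change
`T ⊗ φ₁` is injective. -/
theorem exists_finset_lTensor_injective (R₁ C₁ : Type u) [CommRing R₁] [CommRing C₁]
    [Algebra R₁ C₁] [Algebra.FinitePresentation R₁ C₁]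
    {M₁ N₁ Q₁ : Type u} [AddCommGroup M₁] [Module C₁ M₁] [Module R₁ M₁] [IsScalarTower R₁ C₁ M₁]
    [Module.FinitePresentation C₁ M₁]
    [AddCommGroup N₁] [Module C₁ N₁] [Module R₁ N₁] [IsScalarTower R₁ C₁ N₁]
    [Module.FinitePresentation C₁ N₁]
    [AddCommGroup Q₁] [Module C₁ Q₁] [Module R₁ Q₁] [IsScalarTower R₁ C₁ Q₁]
    [Module.FinitePresentation C₁ Q₁] [Module.Flat R₁ Q₁]
    (φ₁ : M₁ →ₗ[C₁] N₁) (π₁ : N₁ →ₗ[C₁] Q₁) (hπ₁ : Function.Surjective π₁)
    (hex : Function.Exact φ₁ π₁) :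
    ∃ S : Finset M₁, (∀ s ∈ S, φ₁ s = 0) ∧
      ∀ (T : Type u) [CommRing T] [Algebra R₁ T], (∀ s ∈ S, (1 : T) ⊗ₜ[R₁] s = 0) →
        Function.Injective ((φ₁.restrictScalars R₁).lTensor T) := by
  obtain ⟨S, hS⟩ := fg_ker_of_exact_of_flat R₁ C₁ φ₁ π₁ hπ₁ hex
  refine ⟨S, fun s hs => ?_, fun T _ _ hT => ?_⟩
  · have : s ∈ LinearMap.ker φ₁ := hS ▸ Submodule.subset_span hs
    exact this
  · have key : ∀ k ∈ LinearMap.ker φ₁, ∀ t : T, t ⊗ₜ[R₁] k = 0 := by
      intro k hk
      rw [← hS] at hk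
      induction hk using Submodule.span_induction with
      | mem s hs =>
        intro t
        have h1 : t ⊗ₜ[R₁] s = t • ((1 : T) ⊗ₜ[R₁] s) := by
          rw [TensorProduct.smul_tmul', smul_eq_mul, mul_one]
        rw [h1, hT s hs, smul_zero]
      | zero => intro t; exact TensorProduct.tmul_zero _ _
      | add x y _ _ hx hy => intro t; rw [TensorProduct.tmul_add, hx, hy, add_zero]
      | smul c x _ hx =>
        intro t
        have h1 : t ⊗ₜ[R₁] (c • x) =
            ((LinearMap.lsmul C₁ M₁ c).restrictScalars R₁).lTensor T (t ⊗ₜ[R₁] x) := by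
          rw [LinearMap.lTensor_tmul]
          rfl
        rw [h1, hx, map_zero]
    let K := LinearMap.ker π₁
    let φ' : M₁ →ₗ[C₁] K := φ₁.codRestrict K (fun m => hex.apply_apply_eq_zero m)
    have hφ' : Function.Surjective φ' := by
      rintro ⟨n, hn⟩
      obtain ⟨m, rfl⟩ := (hex n).mp hn
      exact ⟨m, rfl⟩
    have hinj₂ : Function.Injective ((K.subtype.restrictScalars R₁).lTensor T) :=
      LinearMap.lTensor_injective_of_exact_of_flat (π₁.restrictScalars R₁) hπ₁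
        (K.subtype.restrictScalars R₁) Subtype.val_injective
        (LinearMap.exact_subtype_ker_map π₁) T
    have hexT := lTensor_exact T (LinearMap.exact_subtype_ker_map (φ'.restrictScalars R₁)) hφ'
    have hzero : ∀ v, ((LinearMap.ker (φ'.restrictScalars R₁)).subtype.lTensor T) v = 0 := by
      intro v
      induction v using TensorProduct.induction_on with
      | zero => exact map_zero _
      | tmul t k =>
        rw [LinearMap.lTensor_tmul]
        refine key k.1 ?_ t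
        have hk : φ' k.1 = 0 := k.2
        have := congrArg Subtype.val hk
        exact this
      | add x y hx hy => rw [map_add, hx, hy, add_zero]
    have hinj₁ : Function.Injective ((φ'.restrictScalars R₁).lTensor T) := by
      rw [injective_iff_map_eq_zero]
      intro w hw
      obtain ⟨v, rfl⟩ := (hexT w).mp hw
      exact hzero v
    have hcomp : (φ₁.restrictScalars R₁).lTensor T =
        ((K.subtype.restrictScalars R₁).lTensor T) ∘ₗ ((φ'.restrictScalars R₁).lTensor T) := by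
      rw [← LinearMap.lTensor_comp]
      rfl
    rw [hcomp]
    exact hinj₂.comp hinj₁

end FGK

section Sys
open Groth.Agent.Lib.Helper18ColimSys Groth.Agent.Lib.Helper26.FlatLim

attribute [local instance] Algebra.TensorProduct.rightAlgebra

section Theta

variable (R R₁ T C₀ : Type u) [CommRing R] [CommRing R₁] [CommRing T] [CommRing C₀]
  [Algebra R R₁] [Algebra R T] [Algebra R₁ T] [IsScalarTower R R₁ T] [Algebra R C₀]
  (M₀ : Type u) [AddCommGroup M₀] [Module C₀ M₀] [Module R M₀] [IsScalarTower R C₀ M₀]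

/-- `T ⊗_R M₀ ≃ T ⊗_{R₁} ((R₁ ⊗_R C₀) ⊗_{C₀} M₀)` -/
noncomputable def Theta : T ⊗[R] M₀ ≃ₗ[R₁] T ⊗[R₁] ((R₁ ⊗[R] C₀) ⊗[C₀] M₀) :=
  ((TensorProduct.AlgebraTensorModule.cancelBaseChange R R₁ T T M₀).symm.restrictScalars R₁) ≪≫ₗ
    (LinearEquiv.lTensor T (Algebra.IsPushout.cancelBaseChange R R₁ C₀ (R₁ ⊗[R] C₀) M₀).symm)

theorem Theta_tmul (t : T) (m : M₀) :
    Theta R R₁ T C₀ M₀ (t ⊗ₜ[R] m) = t ⊗ₜ[R₁] ((1 : R₁ ⊗[R] C₀) ⊗ₜ[C₀] m) := by
  unfold Theta
  rw [LinearEquiv.trans_apply, LinearEquiv.restrictScalars_apply,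
    TensorProduct.AlgebraTensorModule.cancelBaseChange_symm_tmul, LinearEquiv.lTensor_tmul,
    Algebra.IsPushout.cancelBaseChange_symm_tmul, map_one]

variable {M₀} {N₀ : Type u} [AddCommGroup N₀] [Module C₀ N₀] [Module R N₀] [IsScalarTower R C₀ N₀]

theorem Theta_naturality (φ₀ : M₀ →ₗ[C₀] N₀) (x : T ⊗[R] M₀) :
    ((φ₀.baseChange (R₁ ⊗[R] C₀)).restrictScalars R₁).lTensor T (Theta R R₁ T C₀ M₀ x) =
      Theta R R₁ T C₀ N₀ ((φ₀.restrictScalars R).lTensor T x) := by
  induction x using TensorProduct.induction_on with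
  | zero => simp
  | tmul t m =>
    rw [Theta_tmul, LinearMap.lTensor_tmul, LinearMap.lTensor_tmul, LinearMap.restrictScalars_apply,
      LinearMap.restrictScalars_apply, LinearMap.baseChange_tmul, Theta_tmul]
  | add x y hx hy => rw [map_add, map_add, hx, hy, map_add, map_add]

theorem one_tmul_cancelBaseChange_symm (χ : R₁ →ₐ[R] T) (hχ : ∀ r, χ r = algebraMap R₁ T r)
    (z : R₁ ⊗[R] M₀) :
    (1 : T) ⊗ₜ[R₁] ((Algebra.IsPushout.cancelBaseChange R R₁ C₀ (R₁ ⊗[R] C₀) M₀).symm z) =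
      Theta R R₁ T C₀ M₀ (χ.toLinearMap.rTensor M₀ z) := by
  induction z using TensorProduct.induction_on with
  | zero => simp
  | tmul r m =>
    rw [Algebra.IsPushout.cancelBaseChange_symm_tmul, LinearMap.rTensor_tmul,
      AlgHom.toLinearMap_apply, Theta_tmul, hχ, Algebra.algebraMap_eq_smul_one,
      Algebra.algebraMap_eq_smul_one, ← TensorProduct.smul_tmul', TensorProduct.tmul_smul,
      TensorProduct.smul_tmul']
  | add x y hx hy =>
    rw [map_add, TensorProduct.tmul_add, hx, hy, map_add, map_add]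

end Theta

variable {R : Type u} [CommRing R] {ι : Type u} {G : ι → Type u} [∀ i, CommRing (G i)]
    [∀ i, Algebra R (G i)] {A : Type u} [CommRing A] [Algebra R A] {g : ∀ i, G i →ₐ[R] A}

/-- **Injectivity with flat cokernel descends to a stage**: let `A = colim G i` (a `Sys`),
`C₀` an `R`-algebra of finite presentation and `M₀ → N₀ → Q₀ → 0` an exact sequence of finitely
presented `C₀`-modules. If `A ⊗ φ₀` is injective and `A ⊗ Q₀` is flat over `A`, then for some `j`,
`T ⊗ φ₀` is injective for every `R`-algebra `T` receiving `G j`. -/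
theorem Sys.injective_stage (hS : Sys R G A g) (C₀ : Type u) [CommRing C₀] [Algebra R C₀]
    [Algebra.FinitePresentation R C₀]
    {M₀ N₀ Q₀ : Type u} [AddCommGroup M₀] [Module C₀ M₀] [Module R M₀] [IsScalarTower R C₀ M₀]
    [Module.FinitePresentation C₀ M₀]
    [AddCommGroup N₀] [Module C₀ N₀] [Module R N₀] [IsScalarTower R C₀ N₀]
    [Module.FinitePresentation C₀ N₀]
    [AddCommGroup Q₀] [Module C₀ Q₀] [Module R Q₀] [IsScalarTower R C₀ Q₀]
    [Module.FinitePresentation C₀ Q₀]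
    (φ₀ : M₀ →ₗ[C₀] N₀) (π₀ : N₀ →ₗ[C₀] Q₀) (hπ₀ : Function.Surjective π₀)
    (hex : Function.Exact φ₀ π₀)
    (hinj : Function.Injective ((φ₀.restrictScalars R).lTensor A))
    (hflat : Module.Flat A (A ⊗[R] Q₀)) :
    ∃ j, ∀ (T : Type u) [CommRing T] [Algebra R T] (_ : G j →ₐ[R] T),
      Function.Injective ((φ₀.restrictScalars R).lTensor T) := by
  classical
  obtain ⟨j₁, hj₁⟩ := Sys.flat_stage' hS C₀ Q₀ hflat
  -- the base change to `R₁ = G j₁`
  let φ₁ : (G j₁ ⊗[R] C₀) ⊗[C₀] M₀ →ₗ[G j₁ ⊗[R] C₀] (G j₁ ⊗[R] C₀) ⊗[C₀] N₀ :=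
    φ₀.baseChange (G j₁ ⊗[R] C₀)
  let π₁ : (G j₁ ⊗[R] C₀) ⊗[C₀] N₀ →ₗ[G j₁ ⊗[R] C₀] (G j₁ ⊗[R] C₀) ⊗[C₀] Q₀ :=
    π₀.baseChange (G j₁ ⊗[R] C₀)
  have hπ₁ : Function.Surjective π₁ := LinearMap.lTensor_surjective (G j₁ ⊗[R] C₀) hπ₀
  have hex₁ : Function.Exact φ₁ π₁ := lTensor_exact (G j₁ ⊗[R] C₀) hex hπ₀
  haveI : Module.Flat (G j₁) ((G j₁ ⊗[R] C₀) ⊗[C₀] Q₀) :=
    Module.Flat.of_linearEquiv
      (Algebra.IsPushout.cancelBaseChange R (G j₁) C₀ (G j₁ ⊗[R] C₀) Q₀)
  obtain ⟨S, hSker, hST⟩ := exists_finset_lTensor_injective (G j₁) (G j₁ ⊗[R] C₀) φ₁ π₁ hπ₁ hex₁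
  -- the generators of the kernel die in `A ⊗ M₀`
  have hz : ∀ z ∈ S.image (Algebra.IsPushout.cancelBaseChange R (G j₁) C₀ (G j₁ ⊗[R] C₀) M₀),
      (g j₁).toLinearMap.rTensor M₀ z = 0 := by
    intro z hz
    obtain ⟨s, hs, rfl⟩ := Finset.mem_image.mp hz
    apply hinj
    rw [map_zero, ← LinearMap.comp_apply, LinearMap.lTensor_comp_rTensor,
      ← LinearMap.rTensor_comp_lTensor, LinearMap.comp_apply]
    have h1 := lTensor_cancelBaseChange_symm (R₀ := R) (R := G j₁) (S₀ := C₀)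
      (S := G j₁ ⊗[R] C₀) φ₀
      (Algebra.IsPushout.cancelBaseChange R (G j₁) C₀ (G j₁ ⊗[R] C₀) M₀ s)
    rw [LinearEquiv.symm_apply_apply] at h1
    have h2 : φ₀.lTensor (G j₁ ⊗[R] C₀) s = 0 := hSker s hs
    rw [h2] at h1
    have h3 := (Algebra.IsPushout.cancelBaseChange R (G j₁) C₀
      (G j₁ ⊗[R] C₀) N₀).symm.injective (h1.symm.trans (map_zero _).symm)
    rw [h3, map_zero]
  obtain ⟨j₂, φ, -, hkill⟩ := hS.tensor_kill_left_finset M₀ j₁ _ hz
  refine ⟨j₂, fun T _ _ ψ => ?_⟩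
  let χ : G j₁ →ₐ[R] T := ψ.comp φ
  letI : Algebra (G j₁) T := χ.toRingHom.toAlgebra
  haveI : IsScalarTower R (G j₁) T := IsScalarTower.of_algebraMap_eq (fun r => (χ.commutes r).symm)
  have hT : ∀ s ∈ S, (1 : T) ⊗ₜ[G j₁] s = 0 := by
    intro s hs
    have h1 := one_tmul_cancelBaseChange_symm R (G j₁) T C₀ χ (fun r => rfl)
      (Algebra.IsPushout.cancelBaseChange R (G j₁) C₀ (G j₁ ⊗[R] C₀) M₀ s)
    rw [LinearEquiv.symm_apply_apply] at h1
    rw [h1]
    have h2 : χ.toLinearMap.rTensor M₀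
        (Algebra.IsPushout.cancelBaseChange R (G j₁) C₀ (G j₁ ⊗[R] C₀) M₀ s) = 0 := by
      have h3 := hkill _ (Finset.mem_image_of_mem _ hs)
      have h4 : χ.toLinearMap = ψ.toLinearMap ∘ₗ φ.toLinearMap := rfl
      rw [h4, LinearMap.rTensor_comp, LinearMap.comp_apply, h3, map_zero]
    rw [h2, map_zero]
  have hinjT := hST T hT
  rw [injective_iff_map_eq_zero]
  intro x hx
  have h1 := Theta_naturality R (G j₁) T C₀ φ₀ x
  rw [hx, map_zero] at h1
  have h2 := hinjT (h1.trans (map_zero _).symm)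
  exact (Theta R (G j₁) T C₀ M₀).injective (h2.trans (map_zero _).symm)

end Sys

end Groth.Agent.Lib.T2H3.InjStageAlg
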