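import Mathlib
import Groth.Agent.Lib.T2H3InjStageAlg
import Groth.Agent.Lib.T2H3InjFlatOpen
import Groth.Agent.Lib.T2H3PullSec
import Groth.Agent.Lib.Helper26FlatLimD

/-!
# Injectivity at a point with flat cokernel descends to a stage of a limit of schemes (helper3)

Scheme-level form of the injectivity part of EGA IV 11.2.6-type statements.
-/

set_option autoImplicit false
set_option linter.style.haveILetI false
universe u
open CategoryTheory CategoryTheory.Limits AlgebraicGeometry TopologicalSpace Opposite TensorProduct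
open Groth.Agent.Helper18Strict Groth.Agent.Lib.T2H3.PullSec Groth.Agent.Lib.Helper4.NormDelta
open Groth.Agent.Lib.Helper2.FlatOver Groth.Agent.Lib.Helper26.FlatLim
open Groth.Agent.Lib.Helper23.QCohLocal

namespace Groth.Agent.Lib.T2H3.InjStageSch

section Bridge

variable {X : Scheme.{u}} {F' F : X.Modules} (v : F' ⟶ F)

/-- a morphism injective on all stalks over `W` is injective on sections over `W`. -/
theorem injective_app_of_injective_stalkHom (W : X.Opens)
    (h : ∀ x ∈ W, Function.Injective (stalkHom v x)) : Function.Injective (appₗ v W) := by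
  rw [injective_iff_map_eq_zero]
  intro m hm
  refine TopCat.Presheaf.section_ext ⟨F'.presheaf, F'.isSheaf⟩ W m 0 (fun x hx => ?_)
  apply h x hx
  rw [stalkHom_germ, map_zero, map_zero]
  have : v.app W m = 0 := hm
  rw [this, map_zero]

/-- a morphism of quasi-coherent modules injective on sections over an affine open `W` is
injective on the stalks at all points of `W`. -/
theorem injective_stalkHom_of_injective_app [F'.IsQuasicoherent] [F.IsQuasicoherent]
    {W : X.Opens} (hW : IsAffineOpen W) (h : Function.Injective (appₗ v W)) (x : X) (hx : x ∈ W) :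
    Function.Injective (stalkHom v x) := by
  letI := moduleStalkSections F' W x hx
  haveI := isLocalizedModule_germ hW F' x hx
  letI := moduleStalkSections F W x hx
  haveI := isLocalizedModule_germ hW F x hx
  rw [injective_iff_map_eq_zero]
  intro y hy
  obtain ⟨⟨m, t⟩, hmt⟩ := IsLocalizedModule.surj
    (hW.primeIdealOf ⟨x, hx⟩).asIdeal.primeCompl (germₗ F' W x hx) y
  have h1 : F.presheaf.germ W x hx (v.app W m) = 0 := by
    rw [← stalkHom_germ]
    have h2 : F'.presheaf.germ W x hx m = X.presheaf.germ W x hx t.1 • y := hmt.symm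
    rw [h2, stalkHom_smul, hy, smul_zero]
  obtain ⟨c, hc⟩ := (IsLocalizedModule.eq_zero_iff
    (hW.primeIdealOf ⟨x, hx⟩).asIdeal.primeCompl (germₗ F W x hx)).mp h1
  have hcm : c.1 • m = 0 := by
    apply h
    rw [map_smul, map_zero]
    exact hc
  have h4 : germₗ F' W x hx m = 0 := by
    rw [IsLocalizedModule.eq_zero_iff (hW.primeIdealOf ⟨x, hx⟩).asIdeal.primeCompl]
    exact ⟨c, hcm⟩
  have h5 : t • y = 0 := hmt.trans h4
  exact IsLocalizedModule.smul_injective (germₗ F' W x hx) t (h5.trans (smul_zero t).symm)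

/-- injectivity on a stalk is invariant under isomorphisms of arrows. -/
theorem injective_stalkHom_of_iso {F₁' F₁ : X.Modules} (v₁ : F₁' ⟶ F₁) (e' : F' ≅ F₁') (e : F ≅ F₁)
    (w : e'.hom ≫ v₁ = v ≫ e.hom) (x : X) (h : Function.Injective (stalkHom v x)) :
    Function.Injective (stalkHom v₁ x) := by
  intro a b hab
  have h1 : ∀ c, stalkHom v₁ x c = stalkHom e.hom x (stalkHom v x (stalkHom e'.inv x c)) := by
    intro c
    rw [stalkHom_comp, stalkHom_comp]
    congr 1
    rw [← w, ← Category.assoc, e'.inv_hom_id, Category.id_comp]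
  rw [h1, h1] at hab
  have h2 : Function.Injective (stalkHom e.hom x) := by
    intro p q hpq
    have := congrArg (stalkHom e.inv x) hpq
    rwa [stalkHom_comp, stalkHom_comp, e.hom_inv_id, stalkHom_id, stalkHom_id] at this
  have h3 : Function.Injective (stalkHom e'.inv x) := by
    intro p q hpq
    have := congrArg (stalkHom e'.hom x) hpq
    rwa [stalkHom_comp, stalkHom_comp, e'.inv_hom_id, stalkHom_id, stalkHom_id] at this
  exact h3 (h (h2 hab))

end Bridge

section cartesian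
open Groth.Agent.Lib.Helper2.PullbackFlat Groth.Agent.Lib.T2H3.KerFP Groth.Agent.Lib.Helper2.PullbackSec

variable {X S X' S' : Scheme.{u}} {f : X ⟶ S} {f' : X' ⟶ S'} {g' : X' ⟶ X} {g : S' ⟶ S}

set_option maxRecDepth 4000 in
/-- In a cartesian square, over affine opens, the pulled-back morphism `g'^* v` is injective on
sections over `g'⁻¹U ⊓ f'⁻¹V'` iff `Γ(S', V') ⊗_{Γ(S, V)} v_U` is injective. -/
theorem injective_sections_pullback_iff (hc : IsPullback g' f' f g) {F' F : X.Modules}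
    [F'.IsQuasicoherent] [F.IsQuasicoherent] (v : F' ⟶ F)
    {V : S.Opens} {V' : S'.Opens} {U : X.Opens} (eV' : V' ≤ g ⁻¹ᵁ V) (eU : U ≤ f ⁻¹ᵁ V)
    (hV : IsAffineOpen V) (hV' : IsAffineOpen V') (hU : IsAffineOpen U) :
    letI : Algebra Γ(S, V) Γ(S', V') := (g.appLE V V' eV').hom.toAlgebra
    letI : Module Γ(S, V) Γ(F', U) := Module.compHom Γ(F', U) (f.appLE V U eU).hom
    letI : Module Γ(S, V) Γ(F, U) := Module.compHom Γ(F, U) (f.appLE V U eU).hom
    ∀ (ψ : Γ(F', U) →ₗ[Γ(S, V)] Γ(F, U)), (∀ m, ψ m = v.app U m) →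
    (Function.Injective (appₗ ((Scheme.Modules.pullback g').map v) (g' ⁻¹ᵁ U ⊓ f' ⁻¹ᵁ V')) ↔
      Function.Injective (ψ.lTensor Γ(S', V'))) := by
  letI aAA' : Algebra Γ(S, V) Γ(S', V') := (g.appLE V V' eV').hom.toAlgebra
  letI mAM' : Module Γ(S, V) Γ(F', U) := Module.compHom Γ(F', U) (f.appLE V U eU).hom
  letI mAM : Module Γ(S, V) Γ(F, U) := Module.compHom Γ(F, U) (f.appLE V U eU).hom
  intro ψ hψ
  set U' : X'.Opens := g' ⁻¹ᵁ U ⊓ f' ⁻¹ᵁ V' with hU'def
  have hU' : IsAffineOpen U' := isAffineOpen_inf_preimage hc eV' eU hV hV' hU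
  have e1 : U' ≤ g' ⁻¹ᵁ U := inf_le_left
  have e2 : U' ≤ f' ⁻¹ᵁ V' := inf_le_right
  letI aAB : Algebra Γ(S, V) Γ(X, U) := (f.appLE V U eU).hom.toAlgebra
  letI aBB' : Algebra Γ(X, U) Γ(X', U') := (g'.appLE U U' e1).hom.toAlgebra
  letI aA'B' : Algebra Γ(S', V') Γ(X', U') := (f'.appLE V' U' e2).hom.toAlgebra
  letI aAB' : Algebra Γ(S, V) Γ(X', U') :=
    ((g'.appLE U U' e1).hom.comp (f.appLE V U eU).hom).toAlgebra
  haveI tABB' : IsScalarTower Γ(S, V) Γ(X, U) Γ(X', U') :=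
    IsScalarTower.of_algebraMap_eq (fun a => rfl)
  haveI tAA'B' : IsScalarTower Γ(S, V) Γ(S', V') Γ(X', U') := by
    refine IsScalarTower.of_algebraMap_eq (fun a => ?_)
    change (g'.appLE U U' e1).hom ((f.appLE V U eU).hom a) =
      (f'.appLE V' U' e2).hom ((g.appLE V V' eV').hom a)
    have h1 := Scheme.Hom.appLE_comp_appLE g' f V U U' eU e1
    have h2 := Scheme.Hom.appLE_comp_appLE f' g V V' U' eV' e2
    have h3 : (f.appLE V U eU ≫ g'.appLE U U' e1) = (g.appLE V V' eV' ≫ f'.appLE V' U' e2) := by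
      rw [h1, h2]
      congr 1
      exact hc.w
    exact congrArg (fun φ => φ.hom a) h3
  haveI hPO : Algebra.IsPushout Γ(S, V) Γ(S', V') Γ(X, U) Γ(X', U') :=
    algebra_isPushout hc eV' eU hV hV' hU e1 e2
  haveI tABM' : IsScalarTower Γ(S, V) Γ(X, U) Γ(F', U) :=
    IsScalarTower.of_algebraMap_smul (fun a n => rfl)
  haveI tABM : IsScalarTower Γ(S, V) Γ(X, U) Γ(F, U) :=
    IsScalarTower.of_algebraMap_smul (fun a n => rfl)
  have hψ' : ψ = (appₗ v U).restrictScalars Γ(S, V) := LinearMap.ext hψ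
  -- the two natural identifications
  have nat1 : ∀ z : Γ(X', U') ⊗[Γ(X, U)] Γ(F', U), secEquiv g' hU hU' e1 F ((appₗ v U).lTensor Γ(X', U') z) =
      ((Scheme.Modules.pullback g').map v).app U' (secEquiv g' hU hU' e1 F' z) :=
    fun z => secEquiv_naturality g' hU hU' e1 v z
  have nat2 : ∀ w : Γ(S', V') ⊗[Γ(S, V)] Γ(F', U), (appₗ v U).lTensor Γ(X', U')
        ((Algebra.IsPushout.cancelBaseChange Γ(S, V) Γ(S', V') Γ(X, U) Γ(X', U') Γ(F', U)).symm w) =
      (Algebra.IsPushout.cancelBaseChange Γ(S, V) Γ(S', V') Γ(X, U) Γ(X', U') Γ(F, U)).symm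
        (ψ.lTensor Γ(S', V') w) := by
    intro w
    rw [hψ']
    exact lTensor_cancelBaseChange_symm (R₀ := Γ(S, V)) (R := Γ(S', V')) (S₀ := Γ(X, U))
      (S := Γ(X', U')) (appₗ v U) w
  constructor
  · intro h
    rw [injective_iff_map_eq_zero]
    intro w hw
    have h1 := nat2 w
    rw [hw, map_zero] at h1
    have h2 := nat1 ((Algebra.IsPushout.cancelBaseChange Γ(S, V) Γ(S', V') Γ(X, U) Γ(X', U')
      Γ(F', U)).symm w)
    rw [h1, map_zero] at h2
    have h3 := h (h2.symm.trans (map_zero _).symm)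
    have h4 := (secEquiv g' hU hU' e1 F').injective (h3.trans (map_zero _).symm)
    exact (Algebra.IsPushout.cancelBaseChange Γ(S, V) Γ(S', V') Γ(X, U) Γ(X', U')
      Γ(F', U)).symm.injective (h4.trans (map_zero _).symm)
  · intro h
    rw [injective_iff_map_eq_zero]
    intro t ht
    obtain ⟨z, rfl⟩ := (secEquiv g' hU hU' e1 F').surjective t
    obtain ⟨w, rfl⟩ := (Algebra.IsPushout.cancelBaseChange Γ(S, V) Γ(S', V') Γ(X, U) Γ(X', U')
      Γ(F', U)).symm.surjective z
    have h1 := nat1 ((Algebra.IsPushout.cancelBaseChange Γ(S, V) Γ(S', V') Γ(X, U) Γ(X', U')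
      Γ(F', U)).symm w)
    have ht' : ((Scheme.Modules.pullback g').map v).app U' (secEquiv g' hU hU' e1 F'
      ((Algebra.IsPushout.cancelBaseChange Γ(S, V) Γ(S', V') Γ(X, U) Γ(X', U')
        Γ(F', U)).symm w)) = 0 := ht
    rw [ht', nat2] at h1
    have h2 := (secEquiv g' hU hU' e1 F).injective (h1.trans (map_zero _).symm)
    have h3 := (Algebra.IsPushout.cancelBaseChange Γ(S, V) Γ(S', V') Γ(X, U) Γ(X', U')
      Γ(F, U)).symm.injective (h2.trans (map_zero _).symm)
    have h4 := h (h3.trans (map_zero _).symm)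
    rw [h4, map_zero, map_zero]

end cartesian

section chart
open Groth.Agent.Lib.Helper26.ModLim Groth.Agent.Lib.Helper2.PullbackSec
open Groth.Agent.Lib.Helper18ColimSys Groth.Agent.Lib.T2H3.InjStageAlg
open Groth.Agent.Lib.T2H3.InjFlatOpen Groth.Agent.Lib.Helper2.FPAff

variable {I : Type u} [SmallCategory I] [IsCofiltered I] (D : I ⥤ Scheme.{u}) (c : Cone D)
  (hc : IsLimit c) [∀ (i j : I) (f : i ⟶ j), IsAffineHom (D.map f)] (i₀ : I)

attribute [local instance] algG algA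

include hc in
set_option maxRecDepth 4000 in
/-- chart form: if `q^* h₀` is injective on stalks with flat cokernel at all points over the chart
`U`, then the same injectivity holds over `U` at all stages `j' → j`, for some `j`. -/
theorem exists_stage_chart_inj {X₀ : Scheme.{u}} (f₀ : X₀ ⟶ D.obj i₀)
    [LocallyOfFinitePresentation f₀]
    {F₀ G₀ : X₀.Modules} [F₀.IsQuasicoherent] [G₀.IsQuasicoherent]
    [SheafOfModules.IsFinitePresentation (R := X₀.ringCatSheaf) F₀]
    [SheafOfModules.IsFinitePresentation (R := X₀.ringCatSheaf) G₀] (h₀ : F₀ ⟶ G₀)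
    {U : X₀.Opens} (hU : IsAffineOpen U) {V : (D.obj i₀).Opens} (hV : IsAffineOpen V)
    (e : U ≤ f₀ ⁻¹ᵁ V)
    {P : Scheme.{u}} {qX : P ⟶ X₀} {pX : P ⟶ c.pt} (hP : IsPullback qX pX f₀ (c.π.app i₀))
    (H : ∀ x : P, qX x ∈ U →
      Function.Injective (stalkHom ((Scheme.Modules.pullback qX).map h₀) x) ∧
      FlatMod.IsFlatOverAt pX ((Scheme.Modules.pullback qX).obj (cokernel h₀)) x) :
    ∃ j : Over i₀, ∀ (j' : Over i₀) (_ : j' ⟶ j) {Xj : Scheme.{u}} (p : Xj ⟶ X₀)
      (b : Xj ⟶ D.obj j'.left), IsPullback p b f₀ (D.map j'.hom) → ∀ x : Xj, p x ∈ U →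
        Function.Injective (stalkHom ((Scheme.Modules.pullback p).map h₀) x) := by
  haveI : (cokernel h₀).IsQuasicoherent := isQuasicoherent_cokernel h₀
  haveI hQfp : SheafOfModules.IsFinitePresentation (R := X₀.ringCatSheaf) (cokernel h₀) :=
    isFinitePresentation_cokernel h₀
  -- the algebra
  letI aBC : Algebra Γ(D.obj i₀, V) Γ(X₀, U) := (f₀.appLE V U e).hom.toAlgebra
  haveI fpC : Algebra.FinitePresentation Γ(D.obj i₀, V) Γ(X₀, U) := by
    have := HasRingHomProperty.appLE (P := @LocallyOfFinitePresentation) f₀ inferInstance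
      ⟨V, hV⟩ ⟨U, hU⟩ e
    exact this
  letI mBM : Module Γ(D.obj i₀, V) Γ(F₀, U) := Module.compHom Γ(F₀, U) (f₀.appLE V U e).hom
  haveI tBCM : IsScalarTower Γ(D.obj i₀, V) Γ(X₀, U) Γ(F₀, U) :=
    IsScalarTower.of_algebraMap_smul (fun a n => rfl)
  letI mBN : Module Γ(D.obj i₀, V) Γ(G₀, U) := Module.compHom Γ(G₀, U) (f₀.appLE V U e).hom
  haveI tBCN : IsScalarTower Γ(D.obj i₀, V) Γ(X₀, U) Γ(G₀, U) :=
    IsScalarTower.of_algebraMap_smul (fun a n => rfl)
  letI mBQ : Module Γ(D.obj i₀, V) Γ(cokernel h₀, U) :=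
    Module.compHom Γ(cokernel h₀, U) (f₀.appLE V U e).hom
  haveI tBCQ : IsScalarTower Γ(D.obj i₀, V) Γ(X₀, U) Γ(cokernel h₀, U) :=
    IsScalarTower.of_algebraMap_smul (fun a n => rfl)
  haveI fpM : Module.FinitePresentation Γ(X₀, U) Γ(F₀, U) := finitePresentation_sections F₀ hU
  haveI fpN : Module.FinitePresentation Γ(X₀, U) Γ(G₀, U) := finitePresentation_sections G₀ hU
  haveI fpQ : Module.FinitePresentation Γ(X₀, U) Γ(cokernel h₀, U) :=
    @finitePresentation_sections _ (cokernel h₀) _ hQfp _ hU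
  have hsurj : Function.Surjective (appₗ (cokernel.π h₀) U) :=
    Groth.Agent.Lib.Helper23.FinType.surjective_app_of_epi (cokernel.π h₀) hU
  have hex : Function.Exact (appₗ h₀ U) (appₗ (cokernel.π h₀) U) := by
    intro n
    have := ker_appₗ_cokernel_π h₀ hU
    rw [← LinearMap.mem_ker, this]
    rfl
  -- the limit level
  haveI hπ : IsAffineHom (c.π.app i₀) := isAffineHom_π_app D c hc i₀
  have hV' : IsAffineOpen (c.π.app i₀ ⁻¹ᵁ V) := hV.preimage _
  have hU' : IsAffineOpen (qX ⁻¹ᵁ U ⊓ pX ⁻¹ᵁ (c.π.app i₀ ⁻¹ᵁ V)) :=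
    isAffineOpen_inf_preimage hP le_rfl e hV hV' hU
  haveI : ((Scheme.Modules.pullback qX).obj (cokernel h₀)).IsQuasicoherent :=
    isQuasicoherent_pullback qX (cokernel h₀)
  have hfl := flat_sections_of_isFlatOverAt pX ((Scheme.Modules.pullback qX).obj (cokernel h₀))
    hU' hV' inf_le_right (fun x hx => (H x hx.1).2)
  have hflA := (flat_sections_pullback_iff hP (cokernel h₀) le_rfl e hV hV' hU inf_le_right).1 hfl
  have hinjsec : Function.Injective (appₗ ((Scheme.Modules.pullback qX).map h₀)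
      (qX ⁻¹ᵁ U ⊓ pX ⁻¹ᵁ (c.π.app i₀ ⁻¹ᵁ V))) :=
    injective_app_of_injective_stalkHom _ _ (fun x hx => (H x hx.1).1)
  have hinjA := (injective_sections_pullback_iff hP h₀ le_rfl e hV hV' hU
    ((appₗ h₀ U).restrictScalars Γ(D.obj i₀, V)) (fun m => rfl)).1 hinjsec
  obtain ⟨j, hj⟩ := Sys.injective_stage (sys D c hc i₀ V hV) Γ(X₀, U) (appₗ h₀ U)
    (appₗ (cokernel.π h₀) U) hsurj hex hinjA hflA
  refine ⟨j, fun j' a Xj p b hpb x hx => ?_⟩
  have hj' := hj (Gj D i₀ V j') (trAlg D i₀ V a)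
  have hVj : IsAffineOpen (D.map j'.hom ⁻¹ᵁ V) := hV.preimage _
  have hUj : IsAffineOpen (p ⁻¹ᵁ U ⊓ b ⁻¹ᵁ (D.map j'.hom ⁻¹ᵁ V)) :=
    isAffineOpen_inf_preimage hpb le_rfl e hV hVj hU
  have hsec := (injective_sections_pullback_iff hpb h₀ le_rfl e hV hVj hU
    ((appₗ h₀ U).restrictScalars Γ(D.obj i₀, V)) (fun m => rfl)).2 hj'
  haveI : ((Scheme.Modules.pullback p).obj F₀).IsQuasicoherent := isQuasicoherent_pullback p F₀
  haveI : ((Scheme.Modules.pullback p).obj G₀).IsQuasicoherent := isQuasicoherent_pullback p G₀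
  refine injective_stalkHom_of_injective_app _ hUj hsec x ⟨hx, ?_⟩
  show (D.map j'.hom) (b x) ∈ V
  have : (D.map j'.hom) (b x) = f₀ (p x) := by
    have := congrArg (fun φ => φ.base x) hpb.w
    simpa using this.symm
  rw [this]
  exact e hx

end chart

section natIso

variable {Z X₀ : Scheme.{u}} {Φ Ψ : X₀.Modules ⥤ Z.Modules} {F₀ G₀ : X₀.Modules}
  (h₀ : F₀ ⟶ G₀)

/-- injectivity on a stalk transfers along a natural isomorphism of functors. -/
theorem injective_stalkHom_of_natIso (α : Φ ≅ Ψ) (z : Z)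
    (h : Function.Injective (stalkHom (Φ.map h₀) z)) :
    Function.Injective (stalkHom (Ψ.map h₀) z) :=
  injective_stalkHom_of_iso (Φ.map h₀) (Ψ.map h₀) (α.app F₀) (α.app G₀)
    (α.hom.naturality h₀).symm z h

end natIso

section coker

variable {Z X₀ T : Scheme.{u}} (q : Z ⟶ X₀) (b : Z ⟶ T) {F₀ G₀ : X₀.Modules} (h₀ : F₀ ⟶ G₀)

open Groth.Agent.Lib.Helper26.ModLim in
/-- the cokernel of the pulled-back morphism is the pullback of the cokernel. -/
noncomputable def pullbackCokernelIso :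
    (Scheme.Modules.pullback q).obj (cokernel h₀) ≅ cokernel ((Scheme.Modules.pullback q).map h₀) :=
  PreservesCokernel.iso (Scheme.Modules.pullback q) h₀

theorem isFlatOverAt_cokernel_pullback_iff (z : Z) :
    FlatMod.IsFlatOverAt b (cokernel ((Scheme.Modules.pullback q).map h₀)) z ↔
      FlatMod.IsFlatOverAt b ((Scheme.Modules.pullback q).obj (cokernel h₀)) z :=
  ⟨isFlatOverAt_of_iso b (pullbackCokernelIso q h₀).symm z,
    isFlatOverAt_of_iso b (pullbackCokernelIso q h₀) z⟩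

end coker

section pt
open Groth.Agent.Lib.Helper26.ModLim Groth.Agent.Lib.Helper22.LimBC
open Groth.Agent.Lib.T2H3.InjFlatOpen Groth.Agent.Lib.Helper2.PullbackSec

variable {I : Type u} [SmallCategory I] [IsCofiltered I] (D : I ⥤ Scheme.{u}) (c : Cone D)
  (hc : IsLimit c) [∀ (i j : I) (f : i ⟶ j), IsAffineHom (D.map f)] (i₀ : I)

include hc in
/-- **EGA IV 11.2.6-type, injectivity part (pointwise)**: if `q^* h₀` is injective on the stalk at
`x` with cokernel flat over `S` at `x`, then for some `j` and all `j' → j` the pullback of `h₀` to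
`X₀ ×_{S_{i₀}} S_{j'}` is injective on the stalk at the image of `x`. -/
theorem exists_stage_injective_stalkHom {X₀ : Scheme.{u}} (f₀ : X₀ ⟶ D.obj i₀)
    [LocallyOfFinitePresentation f₀]
    {F₀ G₀ : X₀.Modules} [F₀.IsQuasicoherent] [G₀.IsQuasicoherent]
    [hF₀ : SheafOfModules.IsFinitePresentation (R := X₀.ringCatSheaf) F₀]
    [hG₀ : SheafOfModules.IsFinitePresentation (R := X₀.ringCatSheaf) G₀] (h₀ : F₀ ⟶ G₀)
    {P : Scheme.{u}} {qX : P ⟶ X₀} {pX : P ⟶ c.pt} (hP : IsPullback qX pX f₀ (c.π.app i₀)) (x : P)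
    (Hinj : Function.Injective (stalkHom ((Scheme.Modules.pullback qX).map h₀) x))
    (Hfl : FlatMod.IsFlatOverAt pX ((Scheme.Modules.pullback qX).obj (cokernel h₀)) x) :
    ∃ j : Over i₀, ∀ (j' : Over i₀) (_ : j' ⟶ j) {Xj : Scheme.{u}} (p : Xj ⟶ X₀)
      (b : Xj ⟶ D.obj j'.left) (_ : IsPullback p b f₀ (D.map j'.hom)) (v : P ⟶ Xj),
      v ≫ p = qX → v ≫ b = pX ≫ c.π.app j'.left →
        Function.Injective (stalkHom ((Scheme.Modules.pullback p).map h₀) (v x)) := by
  haveI hD : ∀ {i j : I} (φ : i ⟶ j), IsAffineHom (D.map φ) := fun φ => inferInstance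
  -- the `X`-system
  have hc'' : IsLimit (bcCone i₀ hP) := isLimitBcCone i₀ hP hc
  let k₀ : Over i₀ := Over.mk (𝟙 i₀)
  -- the good locus
  haveI : LocallyOfFinitePresentation pX := MorphismProperty.of_isPullback hP inferInstance
  haveI : ((Scheme.Modules.pullback qX).obj F₀).IsQuasicoherent := isQuasicoherent_pullback qX F₀
  haveI : ((Scheme.Modules.pullback qX).obj G₀).IsQuasicoherent := isQuasicoherent_pullback qX G₀
  haveI : SheafOfModules.IsFinitePresentation (R := P.ringCatSheaf)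
      ((Scheme.Modules.pullback qX).obj F₀) :=
    Groth.Agent.Helper18Strict.isFP_pullback qX F₀ hF₀
  haveI : SheafOfModules.IsFinitePresentation (R := P.ringCatSheaf)
      ((Scheme.Modules.pullback qX).obj G₀) :=
    Groth.Agent.Helper18Strict.isFP_pullback qX G₀ hG₀
  have hΩ := isOpen_setOf_injective_and_flat pX ((Scheme.Modules.pullback qX).obj G₀)
    ((Scheme.Modules.pullback qX).obj F₀) ((Scheme.Modules.pullback qX).map h₀)
  let Ω : P.Opens := ⟨_, hΩ⟩
  have hxΩ : x ∈ Ω := ⟨Hinj, (isFlatOverAt_cokernel_pullback_iff qX pX h₀ x).2 Hfl⟩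
  -- a chart
  obtain ⟨U₀, V₀, hU₀, hV₀, hxU₀, hUV₀⟩ := exists_affine_nhds f₀ (qX x)
  let U₀' : ((bcDiagram D i₀ f₀).obj k₀).Opens := dFst D i₀ f₀ k₀ ⁻¹ᵁ U₀
  have hU₀' : IsAffineOpen U₀' := hU₀.preimage _
  haveI hπ : IsAffineHom ((bcCone i₀ hP).π.app k₀) :=
    isAffineHom_π_app (bcDiagram D i₀ f₀) (bcCone i₀ hP) hc'' k₀
  have hU : IsAffineOpen ((bcCone i₀ hP).π.app k₀ ⁻¹ᵁ U₀') := hU₀'.preimage _
  have hxU : x ∈ (bcCone i₀ hP).π.app k₀ ⁻¹ᵁ U₀' := by
    show dFst D i₀ f₀ k₀ (bcπ i₀ hP k₀ x) ∈ U₀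
    have : dFst D i₀ f₀ k₀ (bcπ i₀ hP k₀ x) = qX x := by
      have := congrArg (fun φ => φ.base x) (bcπ_fst i₀ hP k₀)
      simpa using this
    rw [this]; exact hxU₀
  obtain ⟨s, hsΩ, hxs⟩ := hU.exists_basicOpen_le (V := Ω) ⟨x, hxΩ⟩ hxU
  obtain ⟨k, a, sk, hsk⟩ := exists_appLE_eq (bcDiagram D i₀ f₀) (bcCone i₀ hP) hc'' k₀ U₀' hU₀' s
  -- the basic open `W = D(s_k)` of `X_k`
  have hUk : IsAffineOpen ((bcDiagram D i₀ f₀).map a ⁻¹ᵁ U₀') := hU₀'.preimage _
  have hW : IsAffineOpen (((bcDiagram D i₀ f₀).obj k).basicOpen sk) := hUk.basicOpen sk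
  have hsW : P.basicOpen s = ((bcCone i₀ hP).π.app k₀ ⁻¹ᵁ U₀') ⊓
      (bcCone i₀ hP).π.app k ⁻¹ᵁ (((bcDiagram D i₀ f₀).obj k).basicOpen sk) := by
    rw [hsk]; exact Scheme.basicOpen_appLE _ _ _ _ _
  have hWU : ((bcDiagram D i₀ f₀).obj k).basicOpen sk ≤ dFst D i₀ f₀ k ⁻¹ᵁ U₀ := by
    refine (Scheme.basicOpen_le _ sk).trans ?_
    show (bcDiagram D i₀ f₀).map a ⁻¹ᵁ (dFst D i₀ f₀ k₀ ⁻¹ᵁ U₀) ≤ _
    rw [← Scheme.Hom.comp_preimage, map_dFst]
  -- the chart lemma at stage `k`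
  haveI : LocallyOfFinitePresentation (dSnd D i₀ f₀ k) :=
    MorphismProperty.of_isPullback (isPullback_d D i₀ f₀ k) inferInstance
  haveI : ((Scheme.Modules.pullback (dFst D i₀ f₀ k)).obj F₀).IsQuasicoherent :=
    isQuasicoherent_pullback _ F₀
  haveI : ((Scheme.Modules.pullback (dFst D i₀ f₀ k)).obj G₀).IsQuasicoherent :=
    isQuasicoherent_pullback _ G₀
  haveI : SheafOfModules.IsFinitePresentation (R := ((bcDiagram D i₀ f₀).obj k).ringCatSheaf)
      ((Scheme.Modules.pullback (dFst D i₀ f₀ k)).obj F₀) :=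
    Groth.Agent.Helper18Strict.isFP_pullback _ F₀ hF₀
  haveI : SheafOfModules.IsFinitePresentation (R := ((bcDiagram D i₀ f₀).obj k).ringCatSheaf)
      ((Scheme.Modules.pullback (dFst D i₀ f₀ k)).obj G₀) :=
    Groth.Agent.Helper18Strict.isFP_pullback _ G₀ hG₀
  have hVk : IsAffineOpen (D.map k.hom ⁻¹ᵁ V₀) := hV₀.preimage _
  have eWV : ((bcDiagram D i₀ f₀).obj k).basicOpen sk ≤ dSnd D i₀ f₀ k ⁻¹ᵁ (D.map k.hom ⁻¹ᵁ V₀) := by
    refine hWU.trans ?_
    rw [← Scheme.Hom.comp_preimage, ← d_condition, Scheme.Hom.comp_preimage]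
    exact (Scheme.Hom.preimage_mono _ hUV₀)
  -- the natural isomorphism `(bcπ k)^* (dFst k)^* ≅ qX^*`
  let α : Scheme.Modules.pullback (dFst D i₀ f₀ k) ⋙ Scheme.Modules.pullback (bcπ i₀ hP k) ≅
      Scheme.Modules.pullback qX :=
    Scheme.Modules.pullbackComp (bcπ i₀ hP k) (dFst D i₀ f₀ k) ≪≫
      Scheme.Modules.pullbackCongr (bcπ_fst i₀ hP k)
  have Hk : ∀ y : P, (bcπ i₀ hP k) y ∈ ((bcDiagram D i₀ f₀).obj k).basicOpen sk →
      Function.Injective (stalkHom ((Scheme.Modules.pullback (bcπ i₀ hP k)).map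
        ((Scheme.Modules.pullback (dFst D i₀ f₀ k)).map h₀)) y) ∧
      FlatMod.IsFlatOverAt pX ((Scheme.Modules.pullback (bcπ i₀ hP k)).obj
        (cokernel ((Scheme.Modules.pullback (dFst D i₀ f₀ k)).map h₀))) y := by
    intro y hy
    have hy0 : y ∈ (bcCone i₀ hP).π.app k₀ ⁻¹ᵁ U₀' := by
      show bcπ i₀ hP k₀ y ∈ U₀'
      have e1 : bcπ i₀ hP k₀ y = (bcDiagram D i₀ f₀).map a (bcπ i₀ hP k y) := by
        have := congrArg (fun φ => φ.base y) (bcπ_map i₀ hP a)
        simpa using this.symm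
      rw [e1]
      exact Scheme.basicOpen_le _ sk hy
    have hyΩ : y ∈ Ω := hsΩ (hsW.ge ⟨hy0, hy⟩)
    refine ⟨injective_stalkHom_of_natIso h₀ α.symm y hyΩ.1, ?_⟩
    have h1 : FlatMod.IsFlatOverAt pX ((Scheme.Modules.pullback qX).obj (cokernel h₀)) y :=
      (isFlatOverAt_cokernel_pullback_iff qX pX h₀ y).1 hyΩ.2
    have e : (Scheme.Modules.pullback (bcπ i₀ hP k)).obj
        (cokernel ((Scheme.Modules.pullback (dFst D i₀ f₀ k)).map h₀)) ≅
        (Scheme.Modules.pullback qX).obj (cokernel h₀) :=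
      (Scheme.Modules.pullback (bcπ i₀ hP k)).mapIso
        (pullbackCokernelIso (dFst D i₀ f₀ k) h₀).symm ≪≫ α.app (cokernel h₀)
    exact isFlatOverAt_of_iso pX e.symm y h1
  obtain ⟨l, hl⟩ := exists_stage_chart_inj D c hc k.left (dSnd D i₀ f₀ k)
    ((Scheme.Modules.pullback (dFst D i₀ f₀ k)).map h₀) hW hVk eWV (isPullback_bcπ i₀ hP k) Hk
  refine ⟨Over.mk (l.hom ≫ k.hom), fun j' a' Xj p b hpb v hv1 hv2 => ?_⟩
  let l' : Over k.left := Over.mk (a'.left ≫ l.hom)
  have hw : D.map j'.hom = D.map l'.hom ≫ D.map k.hom := by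
    rw [← D.map_comp]
    congr 1
    have := Over.w a'
    simpa [l'] using this.symm
  let p' : Xj ⟶ (bcDiagram D i₀ f₀).obj k := dLift k p (b ≫ D.map l'.hom) (by
    rw [hpb.w, hw, Category.assoc])
  have hp'1 : p' ≫ dFst D i₀ f₀ k = p := dLift_fst _ _ _ _
  have hp'2 : p' ≫ dSnd D i₀ f₀ k = b ≫ D.map l'.hom := dLift_snd _ _ _ _
  have hp' : IsPullback p' b (dSnd D i₀ f₀ k) (D.map l'.hom) := by
    refine IsPullback.of_right ?_ hp'2 (isPullback_d D i₀ f₀ k)
    rw [hp'1, ← hw]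
    exact hpb
  have hvp' : v ≫ p' = bcπ i₀ hP k := by
    apply d_hom_ext
    · rw [Category.assoc, hp'1, hv1, bcπ_fst]
    · rw [Category.assoc, hp'2, reassoc_of% hv2, bcπ_snd]
      congr 1
      exact c.w l'.hom
  have hmem : p' (v x) ∈ ((bcDiagram D i₀ f₀).obj k).basicOpen sk := by
    have e1 : p' (v x) = bcπ i₀ hP k x := by
      have := congrArg (fun φ => φ.base x) hvp'
      simpa using this
    rw [e1]
    have : x ∈ P.basicOpen s := hxs
    rw [hsW] at this
    exact this.2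
  have := hl l' (Over.homMk a'.left) p' b hp' (v x) hmem
  let β : Scheme.Modules.pullback (dFst D i₀ f₀ k) ⋙ Scheme.Modules.pullback p' ≅
      Scheme.Modules.pullback p :=
    Scheme.Modules.pullbackComp p' (dFst D i₀ f₀ k) ≪≫ Scheme.Modules.pullbackCongr hp'1
  exact injective_stalkHom_of_natIso h₀ β (v x) this

end pt

section bc
open Groth.Agent.Lib.Helper2.PullbackFlat Groth.Agent.Lib.Helper2.PullbackSec
open Groth.Agent.Lib.T2H3.InjFlatOpen Groth.Agent.Lib.Helper2.FPAff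

variable {X S X' S' : Scheme.{u}} {f : X ⟶ S} {f' : X' ⟶ S'} {g' : X' ⟶ X} {g : S' ⟶ S}

set_option maxRecDepth 4000 in
/-- **Base change of injectivity**: in a cartesian square with `f` locally of finite presentation,
if a morphism `v` of finitely presented quasi-coherent modules is injective on the stalk at `g' x'`
with `Coker v` flat over `S` at `g' x'`, then `g'^* v` is injective on the stalk at `x'`. -/
theorem injective_stalkHom_pullback_of_isPullback (hc : IsPullback g' f' f g)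
    [LocallyOfFinitePresentation f] {F' F : X.Modules} [F'.IsQuasicoherent] [F.IsQuasicoherent]
    [SheafOfModules.IsFinitePresentation (R := X.ringCatSheaf) F']
    [SheafOfModules.IsFinitePresentation (R := X.ringCatSheaf) F] (v : F' ⟶ F) (x' : X')
    (hinj : Function.Injective (stalkHom v (g' x')))
    (hfl : FlatMod.IsFlatOverAt f (cokernel v) (g' x')) :
    Function.Injective (stalkHom ((Scheme.Modules.pullback g').map v) x') := by
  haveI : (cokernel v).IsQuasicoherent := isQuasicoherent_cokernel v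
  have hΩ := isOpen_setOf_injective_and_flat f F F' v
  let Ω : X.Opens := ⟨_, hΩ⟩
  have hxΩ : g' x' ∈ Ω := ⟨hinj, hfl⟩
  obtain ⟨V, hV, hfxV, -⟩ := exists_isAffineOpen_mem_and_subset (x := f (g' x')) (U := ⊤) trivial
  obtain ⟨U, hU, hxU, hUle⟩ := exists_isAffineOpen_mem_and_subset (x := g' x')
    (U := f ⁻¹ᵁ V ⊓ Ω) ⟨hfxV, hxΩ⟩
  have eU : U ≤ f ⁻¹ᵁ V := hUle.trans inf_le_left
  have hgf : g (f' x') = f (g' x') := by
    have := congrArg (fun φ => φ.base x') hc.w
    simpa using this.symm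
  obtain ⟨V', hV', hxV', hV'le⟩ := exists_isAffineOpen_mem_and_subset (x := f' x')
    (U := g ⁻¹ᵁ V) (by show g (f' x') ∈ V; rw [hgf]; exact hfxV)
  have hU' : IsAffineOpen (g' ⁻¹ᵁ U ⊓ f' ⁻¹ᵁ V') :=
    isAffineOpen_inf_preimage hc hV'le eU hV hV' hU
  -- ring level
  letI aAA' : Algebra Γ(S, V) Γ(S', V') := (g.appLE V V' hV'le).hom.toAlgebra
  letI aAB : Algebra Γ(S, V) Γ(X, U) := (f.appLE V U eU).hom.toAlgebra
  letI mAM' : Module Γ(S, V) Γ(F', U) := Module.compHom Γ(F', U) (f.appLE V U eU).hom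
  letI mAM : Module Γ(S, V) Γ(F, U) := Module.compHom Γ(F, U) (f.appLE V U eU).hom
  letI mAQ : Module Γ(S, V) Γ(cokernel v, U) :=
    Module.compHom Γ(cokernel v, U) (f.appLE V U eU).hom
  haveI tABM' : IsScalarTower Γ(S, V) Γ(X, U) Γ(F', U) :=
    IsScalarTower.of_algebraMap_smul (fun a n => rfl)
  haveI tABM : IsScalarTower Γ(S, V) Γ(X, U) Γ(F, U) :=
    IsScalarTower.of_algebraMap_smul (fun a n => rfl)
  haveI tABQ : IsScalarTower Γ(S, V) Γ(X, U) Γ(cokernel v, U) :=
    IsScalarTower.of_algebraMap_smul (fun a n => rfl)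
  haveI hflat : Module.Flat Γ(S, V) Γ(cokernel v, U) :=
    flat_sections_of_isFlatOverAt f (cokernel v) hU hV eU (fun y hy => (hUle hy).2.2)
  have hsurj : Function.Surjective (appₗ (cokernel.π v) U) :=
    Groth.Agent.Lib.Helper23.FinType.surjective_app_of_epi (cokernel.π v) hU
  have hex : Function.Exact (appₗ v U) (appₗ (cokernel.π v) U) := by
    intro n
    have := ker_appₗ_cokernel_π v hU
    rw [← LinearMap.mem_ker, this]
    rfl
  have hinjU : Function.Injective (appₗ v U) :=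
    injective_app_of_injective_stalkHom v U (fun y hy => (hUle hy).2.1)
  have hT : Function.Injective (((appₗ v U).restrictScalars Γ(S, V)).lTensor Γ(S', V')) :=
    LinearMap.lTensor_injective_of_exact_of_flat
      ((appₗ (cokernel.π v) U).restrictScalars Γ(S, V)) hsurj
      ((appₗ v U).restrictScalars Γ(S, V)) hinjU hex Γ(S', V')
  have hsec := (injective_sections_pullback_iff hc v hV'le eU hV hV' hU
    ((appₗ v U).restrictScalars Γ(S, V)) (fun m => rfl)).2 hT
  haveI : ((Scheme.Modules.pullback g').obj F').IsQuasicoherent := isQuasicoherent_pullback g' F'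
  haveI : ((Scheme.Modules.pullback g').obj F).IsQuasicoherent := isQuasicoherent_pullback g' F
  exact injective_stalkHom_of_injective_app _ hU' hsec x' ⟨hxU, hxV'⟩

end bc

end Groth.Agent.Lib.T2H3.InjStageSch
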