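import Mathlib
import Groth.Agent.Lib.Helper23SecTw6
import Groth.Agent.Lib.Helper23PB
import Groth.Agent.Lib.Helper6QCohQcqs

/-!
# Sections of invertible modules on integral schemes
-/

set_option autoImplicit false
set_option linter.style.haveILetI false
universe u
open CategoryTheory CategoryTheory.Limits AlgebraicGeometry TopologicalSpace Opposite

namespace Groth.Agent.Lib.T2H3.IntInv

open Groth.Agent.Lib.Helper23.SecTw Groth.Agent.Lib.Helper6 Groth.Agent.Lib.Helper23.GenLocus

variable {X : Scheme.{u}}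

theorem hom_eq_of_sv {L : X.Modules} (s s' : Coh.structureModule X ⟶ L)
    (h : ∀ U : X.Opens, sv s U = sv s' U) : s = s' := by
  apply L.unitHomEquiv.injective
  apply Subtype.ext
  funext U
  exact h U.unop

theorem resf_zero' {U V : X.Opens} (h : V ≤ U) : resf h (0 : Γ(X, U)) = 0 :=
  map_zero (X.presheaf.map (homOfLE h).op).hom

theorem sv_zero {L : X.Modules} (U : X.Opens) : sv (0 : Coh.structureModule X ⟶ L) U = 0 := rfl

/-- a section vanishing on an open cover vanishes. -/
theorem eq_zero_of_cover (L : X.Modules) {V : X.Opens} (m : Γ(L, V))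
    (h : ∀ x ∈ V, ∃ (W : X.Opens) (hW : W ≤ V), x ∈ W ∧ res L hW m = 0) : m = 0 := by
  choose W hW hxW hres using h
  refine (modSheaf L).eq_of_locally_eq' (fun x : V => W x.1 x.2) V (fun x => homOfLE (hW x.1 x.2))
    ?_ m 0 ?_
  · intro x hx
    exact Opens.mem_iSup.2 ⟨⟨x, hx⟩, hxW x hx⟩
  · intro x
    rw [map_zero]
    exact hres x.1 x.2

section Integral

variable [IsIntegral X]

theorem inter_nonempty {U V : X.Opens} (hU : (U : Set X).Nonempty) (hV : (V : Set X).Nonempty) :
    ((U ⊓ V : X.Opens) : Set X).Nonempty :=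
  nonempty_preirreducible_inter U.2 V.2 hU hV

theorem resf_injective {U V : X.Opens} (h : V ≤ U) (hV : (V : Set X).Nonempty) :
    Function.Injective (resf h : Γ(X, U) → Γ(X, V)) := by
  haveI : Nonempty V := hV.to_subtype
  exact map_injective_of_isIntegral X (homOfLE h)

variable {L : X.Modules} (hL : PicF.IsInvertible L) (s : Coh.structureModule X ⟶ L)

include hL in
/-- Lemma Z: a section of an invertible module on an integral scheme vanishing on a nonempty open vanishes. -/
theorem sv_eq_zero_of_sv_eq_zero {V : X.Opens} (hV : (V : Set X).Nonempty) (h0 : sv s V = 0)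
    (U : X.Opens) : sv s U = 0 := by
  apply eq_zero_of_cover L
  intro x hx
  obtain ⟨W, e, hxW, he⟩ := exists_gen L hL x
  refine ⟨W ⊓ U, inf_le_right, ⟨hxW, hx⟩, ?_⟩
  rw [res_sv]
  have hne : (((W ⊓ U) ⊓ V : X.Opens) : Set X).Nonempty := inter_nonempty ⟨x, hxW, hx⟩ hV
  have hA : W ⊓ U ≤ W := inf_le_left
  have h1 := coef_spec he hA (sv s (W ⊓ U))
  have h2 : coef he hA (sv s (W ⊓ U)) = 0 := by
    apply resf_injective (inf_le_left : (W ⊓ U) ⊓ V ≤ W ⊓ U) hne
    rw [resf_zero', ← coef_res he hA inf_le_left, res_sv, ← res_sv s (inf_le_right : (W ⊓ U) ⊓ V ≤ V),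
      h0, res_zero]
    exact (coef_unique he _ _ 0 (by rw [zero_smul])).symm
  rw [← h1, h2, zero_smul]

include hL in
theorem eq_zero_of_sv_eq_zero {V : X.Opens} (hV : (V : Set X).Nonempty) (h0 : sv s V = 0) :
    s = 0 :=
  hom_eq_of_sv s 0 fun U => (sv_eq_zero_of_sv_eq_zero hL s hV h0 U).trans (sv_zero U).symm

include hL in
theorem sv_ne_zero (hs : s ≠ 0) {V : X.Opens} (hV : (V : Set X).Nonempty) : sv s V ≠ 0 :=
  fun h0 => hs (eq_zero_of_sv_eq_zero hL s hV h0)

include hL in
/-- the coefficient of a nonzero section in a frame is nonzero. -/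
theorem coef_ne_zero (hs : s ≠ 0) {W : X.Opens} {e : Γ(L, W)} (he : IsGen L W e) {A : X.Opens}
    (hA : A ≤ W) (hAne : (A : Set X).Nonempty) : coef he hA (sv s A) ≠ 0 := by
  intro h0
  apply sv_ne_zero hL s hs hAne
  rw [← coef_spec he hA (sv s A), h0, zero_smul]

include hL in
/-- Lemma T: torsion-freeness. -/
theorem eq_zero_of_smul_sv_eq_zero (hs : s ≠ 0) {V : X.Opens} (d : Γ(X, V))
    (hd : d • sv s V = 0) : d = 0 := by
  by_cases hV : (V : Set X).Nonempty
  · obtain ⟨z, hz⟩ := hV
    obtain ⟨W, e, hzW, he⟩ := exists_gen L hL z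
    have hne : ((W ⊓ V : X.Opens) : Set X).Nonempty := ⟨z, hzW, hz⟩
    haveI : Nonempty (W ⊓ V : X.Opens) := hne.to_subtype
    apply resf_injective (inf_le_right : W ⊓ V ≤ V) hne
    rw [resf_zero']
    have hA : W ⊓ V ≤ W := inf_le_left
    have h1 := coef_spec he hA (sv s (W ⊓ V))
    have h2 : (resf (inf_le_right : W ⊓ V ≤ V) d * coef he hA (sv s (W ⊓ V))) • res L hA e = 0 := by
      rw [mul_smul, h1, ← res_sv s (inf_le_right : W ⊓ V ≤ V), ← res_smul, hd, res_zero]
    have h3 : resf (inf_le_right : W ⊓ V ≤ V) d * coef he hA (sv s (W ⊓ V)) = 0 := by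
      apply (he _ hA).1
      change _ • res L hA e = (0 : Γ(X, W ⊓ V)) • res L hA e
      rw [h2, zero_smul]
    exact (mul_eq_zero.1 h3).resolve_right (coef_ne_zero hL s hs he hA hne)
  · have : V = ⊥ := by
      ext x
      simp only [Opens.coe_bot, Set.mem_empty_iff_false, iff_false]
      exact fun hx => hV ⟨x, hx⟩
    subst this
    exact Subsingleton.elim _ _

end Integral

end Groth.Agent.Lib.T2H3.IntInv
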