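import Mathlib
import Groth.Agent.Lib.T2H7JacCritB

/-!
# Jacobian criterion and the rank of differentials (helper3)

For a quotient `S = P/(F_1, …, F_c)` of a formally smooth `R`-algebra `P` whose module of
differentials is free of rank `n`, and a field `K` over `S`:
`dim_K (K ⊗_S Ω[S/R]) + rank (Jacobian matrix over K) = n`.
Combined with the Jacobian criterion of helper7 (`T2H7JacCrit`), for a Koszul-regular sequence
`F` and `n = m + c`: `S` is smooth over `R` at a prime `q` iff
`dim_{κ(q)} (κ(q) ⊗_S Ω[S/R]) ≤ m`.
-/

set_option autoImplicit false
set_option linter.unusedSectionVars false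
set_option linter.style.haveILetI false

namespace Groth.Agent.Lib.T2H3.JacFitt

open Module TensorProduct KaehlerDifferential
open Groth.Agent.Lib.T2H7.JacCrit

universe u

section Rank

variable {R P S K : Type u} [CommRing R] [CommRing P] [CommRing S] [Field K]
  [Algebra R P] [Algebra R S] [Algebra P S] [IsScalarTower R P S] [Algebra S K] [Algebra P K]
  [IsScalarTower P S K]

variable {c n : ℕ} (f : Fin c → P)
  (hf : Ideal.span (Set.range f) = RingHom.ker (algebraMap P S))
  (b : Basis (Fin n) P Ω[P⁄R])

include hf in
/-- the image of `K ⊗ I → K ⊗ Ω[P/R]` is, in coordinates, the row space of the Jacobian matrix -/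
theorem map_range_cotangentComplexBaseChange :
    (LinearMap.range (cotangentComplexBaseChange R S P K)).map
      (b.baseChange K).equivFun.toLinearMap =
      Submodule.span K (Set.range (jac (K := K) f b)) := by
  have h1 : LinearMap.range (cotangentComplexBaseChange R S P K) =
      Submodule.span K (Set.range (cotangentComplexBaseChange R S P K ∘ gen (K := K) f hf)) := by
    rw [LinearMap.range_eq_map, ← span_gen (K := K) f hf, Submodule.map_span, Set.range_comp]
  rw [h1, Submodule.map_span, ← Set.range_comp]
  congr 2
  funext i
  exact equivFun_cotangentComplexBaseChange_gen (R := R) (K := K) f hf b i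

include hf in
theorem finrank_add_finrank_span_jac (hsurj : Function.Surjective (algebraMap P S)) :
    Module.finrank K (K ⊗[S] Ω[S⁄R]) +
      Module.finrank K (Submodule.span K (Set.range (jac (K := K) f b))) = n := by
  let P' : Algebra.Extension R S :=
    { Ring := P, σ := Function.surjInv hsurj, algebraMap_σ := Function.surjInv_eq hsurj }
  have hex : Function.Exact P'.cotangentComplex P'.toKaehler :=
    P'.exact_cotangentComplex_toKaehler
  have hsj : Function.Surjective P'.toKaehler := P'.toKaehler_surjective
  let f' : K ⊗[S] P'.Cotangent →ₗ[K] K ⊗[S] P'.CotangentSpace := P'.cotangentComplex.baseChange K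
  let g' : K ⊗[S] P'.CotangentSpace →ₗ[K] K ⊗[S] Ω[S⁄R] := P'.toKaehler.baseChange K
  have hex' : Function.Exact f' g' := lTensor_exact K hex hsj
  have hsj' : Function.Surjective g' := LinearMap.lTensor_surjective K hsj
  let ec : (K ⊗[S] P'.CotangentSpace) ≃ₗ[K] K ⊗[P] Ω[P⁄R] :=
    AlgebraTensorModule.cancelBaseChange P S K K Ω[P⁄R]
  have : Module.Finite K (K ⊗[P] Ω[P⁄R]) := Module.Finite.of_basis (b.baseChange K)
  have : Module.Finite K (K ⊗[S] P'.CotangentSpace) := Module.Finite.equiv ec.symm
  have hn : Module.finrank K (K ⊗[S] P'.CotangentSpace) = n := by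
    rw [ec.finrank_eq, Module.finrank_eq_card_basis (b.baseChange K), Fintype.card_fin]
  have h1 := LinearMap.finrank_range_add_finrank_ker g'
  rw [LinearMap.range_eq_top.mpr hsj', finrank_top, hn, LinearMap.exact_iff.mp hex'] at h1
  have h2 : LinearMap.range (cotangentComplexBaseChange R S P K) =
      (LinearMap.range f').map ec.toLinearMap := by
    have h3 := P'.cotangentComplexBaseChange_eq_lTensor_cotangentComplex K
    have h4 : cotangentComplexBaseChange R S P K = cotangentComplexBaseChange R S P'.Ring K := rfl
    rw [h4, h3, LinearMap.range_comp, LinearMap.range_comp, LinearEquiv.range, Submodule.map_top]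
  have h5 : Module.finrank K (LinearMap.range f') =
      Module.finrank K (Submodule.span K (Set.range (jac (K := K) f b))) := by
    rw [← map_range_cotangentComplexBaseChange (R := R) (K := K) f hf b, h2,
      LinearEquiv.finrank_map_eq, LinearEquiv.finrank_map_eq]
  rw [h5] at h1
  exact h1

end Rank

section Inst

variable {R P S : Type u} [CommRing R] [CommRing P] [CommRing S] [Algebra R P] [Algebra R S]
  [Algebra P S] [IsScalarTower R P S] [Algebra.FormallySmooth R P]
  {n c : ℕ} (b : Basis (Fin n) P Ω[P⁄R]) (F : Fin c → P)
  (hsurj : Function.Surjective (algebraMap P S))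
  (hF : Ideal.span (Set.range F) = RingHom.ker (algebraMap P S))
  (q : Ideal S) [q.IsPrime]

open Groth.Agent.Lib.T2H7.JacCritB in
include hsurj hF in
/-- helper7's `isSmoothAt_iff_linearIndependent`, for an arbitrary quotient `P → S` -/
theorem isSmoothAt_iff_linearIndependent'
    (hreg : LCI.IsKoszulRegularSeq (Localization.AtPrime (q.comap (algebraMap P S)))
      (List.ofFn (fun i => algebraMap P (Localization.AtPrime (q.comap (algebraMap P S))) (F i)))) :
    Algebra.IsSmoothAt R q ↔ LinearIndependent q.ResidueField
      (fun (i : Fin c) (j : Fin n) => algebraMap S q.ResidueField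
        (algebraMap P S (b.repr (D R P (F i)) j))) := by
  let q' : Ideal P := q.comap (algebraMap P S)
  have hlo : q.LiesOver q' := ⟨rfl⟩
  let alg1 : Algebra (Localization.AtPrime q') (Localization.AtPrime q) :=
    Localization.AtPrime.algebraOfLiesOver q' q
  let alg2 : Algebra (Localization.AtPrime q') q.ResidueField :=
    ((algebraMap (Localization.AtPrime q) q.ResidueField).comp
      (algebraMap (Localization.AtPrime q') (Localization.AtPrime q))).toAlgebra
  have : IsScalarTower (Localization.AtPrime q') (Localization.AtPrime q) q.ResidueField :=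
    IsScalarTower.of_algebraMap_eq' rfl
  have : IsScalarTower R (Localization.AtPrime q') (Localization.AtPrime q) := inferInstance
  have : Algebra.FormallySmooth P (Localization.AtPrime q') :=
    Algebra.FormallySmooth.of_isLocalization q'.primeCompl
  have : Algebra.FormallyEtale P (Localization.AtPrime q') :=
    Algebra.FormallyEtale.of_isLocalization q'.primeCompl
  have : Algebra.FormallySmooth R (Localization.AtPrime q') :=
    Algebra.FormallySmooth.comp R P (Localization.AtPrime q')
  let b' : Basis (Fin n) (Localization.AtPrime q') Ω[Localization.AtPrime q'⁄R] :=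
    (b.baseChange (Localization.AtPrime q')).map
      (tensorKaehlerEquivOfFormallyEtale R P (Localization.AtPrime q'))
  have hb' : ∀ (p : P) (j : Fin n), b'.repr (D R (Localization.AtPrime q')
      (algebraMap P (Localization.AtPrime q') p)) j =
      algebraMap P (Localization.AtPrime q') (b.repr (D R P p) j) := by
    intro p j
    show (b.baseChange (Localization.AtPrime q')).repr
      ((tensorKaehlerEquivOfFormallyEtale R P (Localization.AtPrime q')).symm _) j = _
    rw [tensorKaehlerEquivOfFormallyEtale_symm_D_algebraMap, Basis.baseChange_repr_tmul,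
      Algebra.smul_def, mul_one]
  have halg : algebraMap (Localization.AtPrime q') (Localization.AtPrime q) =
      Localization.localRingHom q' q (algebraMap P S) rfl := rfl
  have h₁ : Function.Surjective (algebraMap (Localization.AtPrime q') (Localization.AtPrime q)) := by
    rw [halg]
    exact surjective_localRingHom _ hsurj q
  have hf : Ideal.span (Set.range (fun i => algebraMap P (Localization.AtPrime q') (F i))) =
      RingHom.ker (algebraMap (Localization.AtPrime q') (Localization.AtPrime q)) := by
    rw [halg, ker_localRingHom _ hsurj q, ← hF, Ideal.map_span, ← Set.range_comp]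
    rfl
  have h₃ : IsLocalRing.maximalIdeal (Localization.AtPrime q) ≤
      RingHom.ker (algebraMap (Localization.AtPrime q) q.ResidueField) := by
    intro x hx
    rw [RingHom.mem_ker]
    exact (IsLocalRing.residue_eq_zero_iff x).mpr hx
  have key := Groth.Agent.Lib.T2H7.JacCrit.formallySmooth_iff_linearIndependent_jac
    (R := R) (P := Localization.AtPrime q') (S := Localization.AtPrime q) (K := q.ResidueField)
    (fun i => algebraMap P (Localization.AtPrime q') (F i)) hf b' h₁ h₃ hreg
  have hjac : Groth.Agent.Lib.T2H7.JacCrit.jac (R := R) (K := q.ResidueField)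
      (fun i => algebraMap P (Localization.AtPrime q') (F i)) b' =
      fun (i : Fin c) (j : Fin n) => algebraMap S q.ResidueField
        (algebraMap P S (b.repr (D R P (F i)) j)) := by
    funext i j
    unfold Groth.Agent.Lib.T2H7.JacCrit.jac
    rw [hb']
    show algebraMap (Localization.AtPrime q) q.ResidueField
      (algebraMap (Localization.AtPrime q') (Localization.AtPrime q) (algebraMap P _ _)) = _
    rw [halg, Localization.localRingHom_to_map, ← IsScalarTower.algebraMap_apply]
  rw [hjac] at key
  exact key

include hsurj hF b in
/-- **Jacobian criterion, rank form**: for a quotient of a formally smooth algebra with free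
differentials of rank `m + c` by a Koszul-regular sequence of length `c`, smoothness at `q` is
equivalent to `dim κ(q) ⊗ Ω ≤ m`. -/
theorem isSmoothAt_iff_finrank_le {m : ℕ} (hn : n = m + c)
    (hreg : LCI.IsKoszulRegularSeq (Localization.AtPrime (q.comap (algebraMap P S)))
      (List.ofFn (fun i => algebraMap P (Localization.AtPrime (q.comap (algebraMap P S))) (F i)))) :
    Algebra.IsSmoothAt R q ↔
      Module.finrank q.ResidueField (q.ResidueField ⊗[S] Ω[S⁄R]) ≤ m := by
  rw [isSmoothAt_iff_linearIndependent' b F hsurj hF q hreg]
  let algK : Algebra P q.ResidueField :=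
    ((algebraMap S q.ResidueField).comp (algebraMap P S)).toAlgebra
  have : IsScalarTower P S q.ResidueField := IsScalarTower.of_algebraMap_eq' rfl
  have hsum := finrank_add_finrank_span_jac (R := R) (K := q.ResidueField) F hF b hsurj
  have hjac : jac (R := R) (K := q.ResidueField) F b =
      fun (i : Fin c) (j : Fin n) => algebraMap S q.ResidueField
        (algebraMap P S (b.repr (D R P (F i)) j)) := rfl
  rw [hjac] at hsum
  rw [linearIndependent_iff_card_eq_finrank_span, Fintype.card_fin]
  have hle := finrank_range_le_card (R := q.ResidueField)
    (fun (i : Fin c) (j : Fin n) => algebraMap S q.ResidueField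
        (algebraMap P S (b.repr (D R P (F i)) j)))
  rw [Fintype.card_fin] at hle
  unfold Set.finrank at hle ⊢
  omega

end Inst

end Groth.Agent.Lib.T2H3.JacFitt
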