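import Mathlib
import Groth.Prelude.Def_RegImm
import Groth.Agent.Lib.T2H3JacFitt
import Groth.Agent.Lib.LeadFittSing
import Groth.Agent.Lib.T2H9KoszulComp

/-!
# Smooth locus of a local complete intersection via the Fitting ideal of `Ω` (helper3)

If near `y` the morphism `f : Y ⟶ X` factors as a Koszul-regular immersion of codimension `c`
into a scheme smooth of relative dimension `m + c` over `X`, then `f` is smooth at `y` iff
`y ∉ V(Fit_m Ω_{Y/X})`.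
-/

set_option autoImplicit false
set_option linter.unusedSectionVars false
set_option linter.style.haveILetI false

namespace Groth.Agent.Lib.T2H3.JacFittSch

open CategoryTheory CategoryTheory.Limits AlgebraicGeometry TopologicalSpace
open Groth.Agent.Lib.T2H9.RegImmBC Groth.Agent.Lib.T2H9.KoszulComp
open Groth.Agent.Lib.LeadFittSing Groth.Agent.Lib.T2H3.JacFitt
open scoped TensorProduct

universe u

theorem mem_smoothLocus_iff_notMem_support {Y X : Scheme.{u}} (f : Y ⟶ X)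
    [LocallyOfFinitePresentation f] [QuasiSeparated f] (m : ℕ) (y : Y) (U : Y.Opens)
    (P : Scheme.{u}) (i : (U : Scheme.{u}) ⟶ P) (π : P ⟶ X) (c : ℕ) (hyU : y ∈ U)
    (hreg : RegImm.IsRegularImmersionOfCodim RegImm.Kind.koszul c i)
    (hπ : SmoothOfRelativeDimension (m + c) π) (comm : i ≫ π = U.ι ≫ f) :
    y ∈ f.smoothLocus ↔ y ∉ (Fitt.sheafIdeal (Omega.sheaf f) m).support := by
  let z : ↥U := ⟨y, hyU⟩
  obtain ⟨U₀, hpU₀, hcl, rs, hlen, hseq, hker⟩ := hreg.2 z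
  obtain ⟨V₀, hV₀, P₁, hP₁, hpP₁, e₁, hstd⟩ :=
    hπ.exists_isStandardSmoothOfRelativeDimension (i z)
  obtain ⟨g, hgle, hpg⟩ := hP₁.exists_basicOpen_le (V := U₀.1 ⊓ P₁) ⟨i z, ⟨hpU₀, hpP₁⟩⟩ hpP₁
  have hP₂ : IsAffineOpen (P.basicOpen g) := hP₁.basicOpen g
  have hP₂U₀ : P.basicOpen g ≤ U₀.1 := hgle.trans inf_le_left
  have hP₂P₁ : P.basicOpen g ≤ P₁ := P.basicOpen_le g
  haveI := hcl
  obtain ⟨hcl₂, rs', hlen', hseq', hker'⟩ :=
    restrict_data .koszul i U₀.2 rs hseq hker hP₂ hP₂U₀ z hpg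
  haveI := hcl₂
  have hc : rs'.length = c := hlen'.trans hlen
  subst hc
  have hloc : IsLocalization.Away g Γ(P, P.basicOpen g) := hP₁.isLocalization_basicOpen g
  have e₂ : P.basicOpen g ≤ π ⁻¹ᵁ V₀ := hP₂P₁.trans e₁
  have hstd₂ : (π.appLE V₀ (P.basicOpen g) e₂).hom.IsStandardSmoothOfRelativeDimension
      (m + rs'.length) := by
    have h1 := (RingHom.isStandardSmoothOfRelativeDimension_stableUnderCompositionWithLocalizationAway
      (m + rs'.length)).2 Γ(P, P.basicOpen g) g _ hstd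
    have h2 : (π.appLE V₀ (P.basicOpen g) e₂).hom =
        (algebraMap Γ(P, P₁) Γ(P, P.basicOpen g)).comp (π.appLE V₀ P₁ e₁).hom := by
      rw [← Scheme.Hom.appLE_map π e₁ (homOfLE hP₂P₁).op]
      rfl
    rw [h2]
    exact h1
  have hW₀ : IsAffineOpen (i ⁻¹ᵁ P.basicOpen g) := isAffineOpen_preimage_of_restrict i hP₂
  have hsurj : Function.Surjective (i.app (P.basicOpen g)).hom := app_surjective_of_restrict i hP₂
  have hW : IsAffineOpen (U.ι ''ᵁ (i ⁻¹ᵁ P.basicOpen g)) := hW₀.image_of_isOpenImmersion U.ι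
  have hyW : y ∈ U.ι ''ᵁ (i ⁻¹ᵁ P.basicOpen g) := ⟨z, hpg, rfl⟩
  have hWV : U.ι ''ᵁ (i ⁻¹ᵁ P.basicOpen g) ≤ f ⁻¹ᵁ V₀ := by
    rintro _ ⟨w, hw, rfl⟩
    show f (U.ι w) ∈ V₀
    have h1 : f (U.ι w) = π (i w) := by
      rw [← Scheme.Hom.comp_apply, ← comm, Scheme.Hom.comp_apply]
    rw [h1]
    exact e₁ (hP₂P₁ hw)
  -- the ring maps
  have hcomp : (f.appLE V₀ (U.ι ''ᵁ (i ⁻¹ᵁ P.basicOpen g)) hWV) =
      π.appLE V₀ (P.basicOpen g) e₂ ≫ i.app (P.basicOpen g) ≫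
        (U.ι.appIso (i ⁻¹ᵁ P.basicOpen g)).inv := by
    rw [← Category.assoc, Iso.eq_comp_inv, Scheme.Hom.appIso_hom', Scheme.Hom.appLE_comp_appLE,
      Scheme.Hom.app_eq_appLE, Scheme.Hom.appLE_comp_appLE]
    exact (appLE_congr_hom comm _ _ _).symm
  let β : Γ(P, P.basicOpen g) →+* Γ(Y, U.ι ''ᵁ (i ⁻¹ᵁ P.basicOpen g)) :=
    (i.app (P.basicOpen g) ≫ (U.ι.appIso (i ⁻¹ᵁ P.basicOpen g)).inv).hom
  letI algRB : Algebra Γ(X, V₀) Γ(P, P.basicOpen g) :=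
    (π.appLE V₀ (P.basicOpen g) e₂).hom.toAlgebra
  letI algRS : Algebra Γ(X, V₀) Γ(Y, U.ι ''ᵁ (i ⁻¹ᵁ P.basicOpen g)) :=
    (f.appLE V₀ (U.ι ''ᵁ (i ⁻¹ᵁ P.basicOpen g)) hWV).hom.toAlgebra
  letI algBS : Algebra Γ(P, P.basicOpen g) Γ(Y, U.ι ''ᵁ (i ⁻¹ᵁ P.basicOpen g)) := β.toAlgebra
  haveI : IsScalarTower Γ(X, V₀) Γ(P, P.basicOpen g) Γ(Y, U.ι ''ᵁ (i ⁻¹ᵁ P.basicOpen g)) :=
    IsScalarTower.of_algebraMap_eq' (by
      show (f.appLE V₀ (U.ι ''ᵁ (i ⁻¹ᵁ P.basicOpen g)) hWV).hom = β.comp _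
      rw [hcomp]
      rfl)
  haveI hss : Algebra.IsStandardSmoothOfRelativeDimension (m + rs'.length) Γ(X, V₀)
      Γ(P, P.basicOpen g) := hstd₂
  haveI : Algebra.IsStandardSmooth Γ(X, V₀) Γ(P, P.basicOpen g) :=
    Algebra.IsStandardSmoothOfRelativeDimension.isStandardSmooth (m + rs'.length)
  haveI : Nonempty ↥(P.basicOpen g) := ⟨⟨i z, hpg⟩⟩
  haveI : Nontrivial Γ(P, P.basicOpen g) := inferInstance
  have hfr : Module.finrank Γ(P, P.basicOpen g) Ω[Γ(P, P.basicOpen g)⁄Γ(X, V₀)] =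
      m + rs'.length :=
    Module.finrank_eq_of_rank_eq
      (Algebra.IsStandardSmoothOfRelativeDimension.rank_kaehlerDifferential (m + rs'.length))
  let b : Module.Basis (Fin (m + rs'.length)) Γ(P, P.basicOpen g)
      Ω[Γ(P, P.basicOpen g)⁄Γ(X, V₀)] := Module.finBasisOfFinrankEq _ _ hfr
  have hiso : Function.Bijective (U.ι.appIso (i ⁻¹ᵁ P.basicOpen g)).inv.hom :=
    ConcreteCategory.bijective_of_isIso (U.ι.appIso (i ⁻¹ᵁ P.basicOpen g)).inv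
  have hβ : β = ((U.ι.appIso (i ⁻¹ᵁ P.basicOpen g)).inv.hom).comp (i.app (P.basicOpen g)).hom := rfl
  have hsurjβ : Function.Surjective (algebraMap Γ(P, P.basicOpen g)
      Γ(Y, U.ι ''ᵁ (i ⁻¹ᵁ P.basicOpen g))) := by
    show Function.Surjective β
    rw [hβ]
    exact hiso.2.comp hsurj
  have hF : Ideal.span (Set.range rs'.get) = RingHom.ker (algebraMap Γ(P, P.basicOpen g)
      Γ(Y, U.ι ''ᵁ (i ⁻¹ᵁ P.basicOpen g))) := by
    show _ = RingHom.ker β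
    rw [hβ, RingHom.ker_comp_of_injective _ hiso.1, hker', Set.range_list_get]
  -- the prime of `y`
  haveI hqp : (hW.primeIdealOf ⟨y, hyW⟩).asIdeal.IsPrime := (hW.primeIdealOf ⟨y, hyW⟩).isPrime
  have hflat : (algebraMap Γ(P, P.basicOpen g) (Localization.AtPrime
      ((hW.primeIdealOf ⟨y, hyW⟩).asIdeal.comap (algebraMap Γ(P, P.basicOpen g)
        Γ(Y, U.ι ''ᵁ (i ⁻¹ᵁ P.basicOpen g)))))).Flat := by
    rw [RingHom.flat_algebraMap_iff]
    exact IsLocalization.flat _ ((hW.primeIdealOf ⟨y, hyW⟩).asIdeal.comap (algebraMap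
      Γ(P, P.basicOpen g) Γ(Y, U.ι ''ᵁ (i ⁻¹ᵁ P.basicOpen g)))).primeCompl
  have hregloc := isKoszulRegularSeq_map_of_flat _ hflat rs' hseq'
  have hlist : List.ofFn (fun k => algebraMap Γ(P, P.basicOpen g) (Localization.AtPrime
      ((hW.primeIdealOf ⟨y, hyW⟩).asIdeal.comap (algebraMap Γ(P, P.basicOpen g)
        Γ(Y, U.ι ''ᵁ (i ⁻¹ᵁ P.basicOpen g))))) (rs'.get k)) =
      rs'.map (algebraMap Γ(P, P.basicOpen g) (Localization.AtPrime
      ((hW.primeIdealOf ⟨y, hyW⟩).asIdeal.comap (algebraMap Γ(P, P.basicOpen g)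
        Γ(Y, U.ι ''ᵁ (i ⁻¹ᵁ P.basicOpen g)))))) := by
    conv_rhs => rw [← List.ofFn_get rs', List.map_ofFn]
    rfl
  rw [← hlist] at hregloc
  have key := isSmoothAt_iff_finrank_le b rs'.get hsurjβ hF (hW.primeIdealOf ⟨y, hyW⟩).asIdeal
    (m := m) rfl hregloc
  rw [Scheme.Hom.mem_smoothLocus, formallySmooth_stalkMap_iff V₀ hV₀ _ hW hWV hyW,
    notMem_support_iff_finrank f m y hV₀ hW hyW hWV]
  exact key

end Groth.Agent.Lib.T2H3.JacFittSch
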