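import Mathlib
import Groth.Prelude.Def_SGA1t
import Groth.Agent.Lib.T2H3GaloisBasis
/-!
# Principal `μ_n`-covers of a local ring are Kummer (algebra part, helper3)

`A` local, `n` invertible, `ζ₀` a primitive `n`-th root of unity.
* `isUnit_sub_of_ne`: distinct `n`-th roots of unity differ by a unit.
* `card_rootsOfUnity_eq`: `μ_n(A)` is finite of order `n`.
* `exists_algEquiv`: a finite étale faithfully flat `B` with a geometrically simply transitive
  (anti-)action `σ` of `μ_n(A)` is `A[T]/(T^n - a)`, `a ∈ Aˣ`, equivariantly for `T ↦ ζ T`.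
-/
set_option autoImplicit false
set_option linter.style.haveILetI false
set_option linter.unusedSectionVars false
universe u
open TensorProduct

namespace Groth.Agent.Lib.T2H3.KummerCover

open Groth.Agent.Lib.T2H3.GaloisAlg

variable {A : Type u} [CommRing A] [IsLocalRing A] (n : ℕ)

theorem isUnit_one_sub_of_ne_one (hn : IsUnit ((n : ℕ) : A)) (ξ : A) (hξ : ξ ^ n = 1)
    (hne : ξ ≠ 1) : IsUnit (1 - ξ) := by
  by_contra hnu
  have hm : 1 - ξ ∈ IsLocalRing.maximalIdeal A := (IsLocalRing.mem_maximalIdeal _).mpr hnu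
  have hm' : ξ - 1 ∈ IsLocalRing.maximalIdeal A := by
    have := Ideal.neg_mem_iff (IsLocalRing.maximalIdeal A) |>.mpr hm
    simpa using this
  have hpow : ∀ i : ℕ, ξ ^ i - 1 ∈ IsLocalRing.maximalIdeal A := by
    intro i
    have : ξ ^ i - 1 = (ξ - 1) * ∑ j ∈ Finset.range i, ξ ^ j := (mul_geom_sum ξ i).symm
    rw [this]
    exact Ideal.mul_mem_right _ _ hm'
  have hS : ∑ i ∈ Finset.range n, ξ ^ i - (n : A) ∈ IsLocalRing.maximalIdeal A := by
    have : ∑ i ∈ Finset.range n, ξ ^ i - (n : A) = ∑ i ∈ Finset.range n, (ξ ^ i - 1) := by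
      rw [Finset.sum_sub_distrib]; simp
    rw [this]
    exact Ideal.sum_mem _ (fun i _ => hpow i)
  have hSu : IsUnit (∑ i ∈ Finset.range n, ξ ^ i) := by
    rw [← IsLocalRing.notMem_maximalIdeal]
    intro hmem
    have : (n : A) ∈ IsLocalRing.maximalIdeal A := by
      have := Ideal.sub_mem _ hmem hS
      simpa using this
    exact (IsLocalRing.notMem_maximalIdeal.mpr hn) this
  have h0 : (ξ - 1) * ∑ i ∈ Finset.range n, ξ ^ i = 0 := by
    rw [mul_geom_sum, hξ, sub_self]
  have := (hSu.mul_left_eq_zero).mp h0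
  exact hne (sub_eq_zero.mp this)

theorem isUnit_sub_of_ne (hn : IsUnit ((n : ℕ) : A)) (ζ ζ' : rootsOfUnity n A) (hne : ζ ≠ ζ') :
    IsUnit ((((ζ : Aˣ) : A)) - ((ζ' : Aˣ) : A)) := by
  have h1 : (((ζ : Aˣ) : A)) - ((ζ' : Aˣ) : A) =
      ((ζ : Aˣ) : A) * (1 - (((ζ⁻¹ * ζ' : rootsOfUnity n A) : Aˣ) : A)) := by
    rw [mul_sub, mul_one]
    congr 1
    push_cast
    rw [← mul_assoc, Units.mul_inv, one_mul]
  rw [h1]
  refine IsUnit.mul (Units.isUnit _) (isUnit_one_sub_of_ne_one n hn _ ?_ ?_)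
  · have := (mem_rootsOfUnity n ((ζ⁻¹ * ζ' : rootsOfUnity n A) : Aˣ)).mp (ζ⁻¹ * ζ').2
    have h3 := congrArg Units.val this
    simpa using h3
  · intro h2
    apply hne
    have : (ζ⁻¹ * ζ' : rootsOfUnity n A) = 1 := by
      apply Subtype.ext
      apply Units.ext
      simpa using h2
    rw [inv_mul_eq_one] at this
    exact this

theorem finite_rootsOfUnity [NeZero n] (hn : IsUnit ((n : ℕ) : A)) :
    Finite (rootsOfUnity n A) ∧ Nat.card (rootsOfUnity n A) ≤ n := by
  have hinj : Function.Injective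
      (restrictRootsOfUnity (IsLocalRing.residue A) n) := by
    intro ζ ζ' h
    by_contra hne
    have hu := isUnit_sub_of_ne n hn ζ ζ' hne
    have h1 : IsLocalRing.residue A (((ζ : Aˣ) : A)) = IsLocalRing.residue A (((ζ' : Aˣ) : A)) := by
      have := congrArg (fun x : rootsOfUnity n (IsLocalRing.ResidueField A) =>
        ((x : (IsLocalRing.ResidueField A)ˣ) : IsLocalRing.ResidueField A)) h
      simpa using this
    have h2 : IsLocalRing.residue A ((((ζ : Aˣ) : A)) - ((ζ' : Aˣ) : A)) = 0 := by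
      rw [map_sub, h1, sub_self]
    have := (IsLocalRing.residue A).isUnit_map hu
    rw [h2] at this
    exact not_isUnit_zero this
  haveI : Finite (rootsOfUnity n A) := Finite.of_injective _ hinj
  refine ⟨inferInstance, ?_⟩
  exact (Nat.card_le_card_of_injective _ hinj).trans
    (card_rootsOfUnity (IsLocalRing.ResidueField A) n)

theorem card_rootsOfUnity_eq [NeZero n] (hn : IsUnit ((n : ℕ) : A)) (ζ₀ : A)
    (hζ₀ : IsPrimitiveRoot ζ₀ n) : Nat.card (rootsOfUnity n A) = n := by
  obtain ⟨hfin, hle⟩ := finite_rootsOfUnity n hn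
  refine le_antisymm hle ?_
  have hn0 : n ≠ 0 := NeZero.ne n
  obtain ⟨u, hu⟩ := hζ₀.isUnit hn0
  have humem : u ∈ rootsOfUnity n A := by
    rw [mem_rootsOfUnity]
    apply Units.ext
    rw [Units.val_pow_eq_pow_val, hu, Units.val_one]
    exact hζ₀.pow_eq_one
  let f : Fin n → rootsOfUnity n A := fun i => (⟨u, humem⟩ : rootsOfUnity n A) ^ (i : ℕ)
  have hf : Function.Injective f := by
    intro i j hij
    apply Fin.ext
    apply hζ₀.pow_inj i.2 j.2
    have := congrArg (fun x : rootsOfUnity n A => ((x : Aˣ) : A)) hij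
    simpa [f, hu] using this
  have := Nat.card_le_card_of_injective f hf
  simpa using this

section Main
variable {B : Type u} [CommRing B] [Algebra A B] [Module.Finite A B] [Algebra.Etale A B]
  [Module.FaithfullyFlat A B]

theorem exists_algEquiv (hn1 : 1 ≤ n) (hn : IsUnit ((n : ℕ) : A)) (ζ₀ : A)
    (hζ₀ : IsPrimitiveRoot ζ₀ n) (σ : rootsOfUnity n A → (B →ₐ[A] B))
    (hσ1 : σ 1 = AlgHom.id A B) (hσmul : ∀ g h, σ (g * h) = (σ h).comp (σ g))
    (h : GeomTorsor σ) :
    ∃ (a : Aˣ) (ψ : SGA1t.kummer A (fun _ : Unit => (a : A)) (fun _ => n) ≃ₐ[A] B),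
      ∀ (ζ : rootsOfUnity n A) (x : SGA1t.kummer A (fun _ : Unit => (a : A)) (fun _ => n)),
        σ ζ (ψ x) =
          ψ (SGA1t.kummerTwist A (fun _ : Unit => (a : A)) (fun _ => n) (fun _ => ζ) x) := by
  classical
  haveI : NeZero n := ⟨by omega⟩
  have hn0 : n ≠ 0 := NeZero.ne n
  haveI : Finite (rootsOfUnity n A) := (finite_rootsOfUnity n hn).1
  letI : Fintype (rootsOfUnity n A) := Fintype.ofFinite _
  have hcard : Fintype.card (rootsOfUnity n A) = n := by
    rw [← Nat.card_eq_fintype_card]; exact card_rootsOfUnity_eq n hn ζ₀ hζ₀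
  have hbij := Φ_bijective σ hσ1 hσmul h
  have hcomp : ∀ (k g : rootsOfUnity n A) (z : B), σ k (σ g z) = σ (g * k) z := fun k g z => by
    rw [hσmul]; rfl
  -- the character
  let u : rootsOfUnity n A → A := fun ζ => ((ζ : Aˣ) : A)
  have hu_mul : ∀ ζ η, u (ζ * η) = u ζ * u η := fun ζ η => by simp [u]
  have hu_inv : ∀ ζ, u ζ⁻¹ * u ζ = 1 := fun ζ => by simp [u]
  have hu_pow : ∀ ζ, u ζ ^ n = 1 := fun ζ => by
    have := (mem_rootsOfUnity n (ζ : Aˣ)).mp ζ.2
    have h3 := congrArg Units.val this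
    simpa [u] using h3
  -- the resolvent
  let R : B → B := fun b => ∑ ζ : rootsOfUnity n A, algebraMap A B (u ζ⁻¹) * σ ζ b
  have hR : ∀ b η, σ η (R b) = algebraMap A B (u η) * R b := by
    intro b η
    change σ η (∑ ζ : rootsOfUnity n A, algebraMap A B (u ζ⁻¹) * σ ζ b) = _
    rw [map_sum, Finset.mul_sum]
    refine Fintype.sum_equiv (Equiv.mulRight η) _ _ (fun ζ => ?_)
    rw [map_mul, AlgHom.commutes, hcomp, Equiv.coe_mulRight, ← mul_assoc, ← map_mul, ← hu_mul]
    congr 3
    rw [mul_inv_rev, mul_inv_cancel_left]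
  -- `(R b)^n` lies in `A`
  have hRfix : ∀ b, ∃ a : A, algebraMap A B a = R b ^ n := by
    intro b
    apply exists_of_fixed σ hbij.1
    intro η
    rw [map_pow, hR, mul_pow, ← map_pow, hu_pow, map_one, one_mul]
  choose α hα using hRfix
  -- some `α b` is a unit
  obtain ⟨x₀, hx₀⟩ := hbij.2 (fun ζ => algebraMap A B (u ζ))
  have hΛ0 : ∑ ζ : rootsOfUnity n A, algebraMap A B (u ζ⁻¹) * ev σ ζ x₀ = (n : B) := by
    have : ∀ ζ, ev σ ζ x₀ = algebraMap A B (u ζ) := fun ζ => congrFun hx₀ ζ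
    simp_rw [this, ← map_mul, hu_inv, map_one]
    rw [Finset.sum_const, Finset.card_univ, hcard, nsmul_eq_mul, mul_one]
  have hex : ∃ b, α b ∉ IsLocalRing.maximalIdeal A := by
    by_contra hall
    push Not at hall
    have hJ : ∀ b, R b ∈ ((IsLocalRing.maximalIdeal A).map (algebraMap A B)).radical := by
      intro b
      refine ⟨n, ?_⟩
      rw [← hα]
      exact Ideal.mem_map_of_mem _ (hall b)
    have hΛ : ∀ x : B ⊗[A] B, ∑ ζ : rootsOfUnity n A, algebraMap A B (u ζ⁻¹) * ev σ ζ x ∈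
        ((IsLocalRing.maximalIdeal A).map (algebraMap A B)).radical := by
      intro x
      induction x using TensorProduct.induction_on with
      | zero => simp
      | tmul b' b =>
        have : ∑ ζ : rootsOfUnity n A, algebraMap A B (u ζ⁻¹) * ev σ ζ (b' ⊗ₜ[A] b) = b' * R b := by
          change _ = b' * ∑ ζ : rootsOfUnity n A, algebraMap A B (u ζ⁻¹) * σ ζ b
          rw [Finset.mul_sum]
          refine Finset.sum_congr rfl (fun ζ _ => ?_)
          rw [ev_tmul]; ring
        rw [this]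
        exact Ideal.mul_mem_left _ _ (hJ b)
      | add x y hx hy =>
        simp only [map_add, mul_add, Finset.sum_add_distrib]
        exact Ideal.add_mem _ hx hy
    have h1 := hΛ x₀
    rw [hΛ0] at h1
    have hnB : IsUnit ((n : ℕ) : B) := by
      have := (algebraMap A B).isUnit_map hn
      simpa using this
    have htop : ((IsLocalRing.maximalIdeal A).map (algebraMap A B)).radical = ⊤ :=
      Ideal.eq_top_of_isUnit_mem _ h1 hnB
    rw [Ideal.radical_eq_top] at htop
    have := Ideal.comap_map_eq_self_of_faithfullyFlat (B := B) (IsLocalRing.maximalIdeal A)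
    rw [htop, Ideal.comap_top] at this
    exact (IsLocalRing.maximalIdeal.isMaximal A).ne_top this.symm
  obtain ⟨b, hb⟩ := hex
  have hαu : IsUnit (α b) := IsLocalRing.notMem_maximalIdeal.mp hb
  obtain ⟨a, ha⟩ := hαu
  obtain ⟨t, htdef⟩ : ∃ t : B, t = R b := ⟨_, rfl⟩
  have ht : t ^ n = algebraMap A B (a : A) := by rw [htdef, ha, hα]
  have htu : IsUnit t := by
    rw [← isUnit_pow_iff hn0, ht]
    exact (algebraMap A B).isUnit_map (Units.isUnit a)
  have hσt : ∀ ζ, σ ζ t = algebraMap A B (u ζ) * t := fun ζ => by rw [htdef, hR]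
  have hunit : ∀ ζ ζ', ζ ≠ ζ' → IsUnit (σ ζ t - σ ζ' t) := by
    intro ζ ζ' hne
    rw [hσt, hσt, ← sub_mul, ← map_sub]
    exact IsUnit.mul ((algebraMap A B).isUnit_map (isUnit_sub_of_ne n hn ζ ζ' hne)) htu
  -- the map
  have hle : Ideal.span (Set.range fun i : Unit =>
      (MvPolynomial.X i : MvPolynomial Unit A) ^ n - MvPolynomial.C (a : A)) ≤
      RingHom.ker (MvPolynomial.aeval (R := A) (fun _ : Unit => t)).toRingHom := by
    rw [Ideal.span_le]
    rintro _ ⟨i, rfl⟩
    rw [SetLike.mem_coe, RingHom.mem_ker]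
    change MvPolynomial.aeval (fun _ : Unit => t) _ = 0
    rw [map_sub, map_pow, MvPolynomial.aeval_X, MvPolynomial.aeval_C, ht, sub_self]
  let ψ₀ : SGA1t.kummer A (fun _ : Unit => (a : A)) (fun _ => n) →ₐ[A] B :=
    Ideal.Quotient.liftₐ _ (MvPolynomial.aeval (R := A) (fun _ : Unit => t)) (fun x hx => hle hx)
  have hψmk : ∀ P : MvPolynomial Unit A,
      ψ₀ (Ideal.Quotient.mk _ P) = MvPolynomial.aeval (fun _ : Unit => t) P := fun _ => rfl
  -- equivariance
  have hequiv : ∀ (ζ : rootsOfUnity n A)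
      (x : SGA1t.kummer A (fun _ : Unit => (a : A)) (fun _ => n)),
      σ ζ (ψ₀ x) =
        ψ₀ (SGA1t.kummerTwist A (fun _ : Unit => (a : A)) (fun _ => n) (fun _ => ζ) x) := by
    intro ζ x
    obtain ⟨P, rfl⟩ := Ideal.Quotient.mk_surjective x
    have e1 : SGA1t.kummerTwist A (fun _ : Unit => (a : A)) (fun _ => n) (fun _ => ζ)
        (Ideal.Quotient.mk _ P) = Ideal.Quotient.mk _ (MvPolynomial.aeval (R := A)
          (fun i : Unit => MvPolynomial.C (((ζ : Aˣ) : A)) * MvPolynomial.X i) P) := rfl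
    rw [e1, hψmk, hψmk]
    have e2 : (σ ζ).comp (MvPolynomial.aeval (R := A) (fun _ : Unit => t)) =
        (MvPolynomial.aeval (R := A) (fun _ : Unit => t)).comp
          (MvPolynomial.aeval (R := A)
            (fun i : Unit => MvPolynomial.C (((ζ : Aˣ) : A)) * MvPolynomial.X i)) := by
      apply MvPolynomial.algHom_ext
      intro i
      rw [AlgHom.comp_apply, AlgHom.comp_apply, MvPolynomial.aeval_X, MvPolynomial.aeval_X,
        map_mul, MvPolynomial.aeval_C, MvPolynomial.aeval_X, hσt]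
    exact congrArg (fun f => f P) e2
  -- the generator and the span
  obtain ⟨T, hT⟩ : ∃ T : SGA1t.kummer A (fun _ : Unit => (a : A)) (fun _ => n),
      T = Ideal.Quotient.mk _ (MvPolynomial.X ()) := ⟨_, rfl⟩
  have hψT : ψ₀ T = t := by rw [hT, hψmk, MvPolynomial.aeval_X]
  have hTn : T ^ n = algebraMap A _ (a : A) := by
    rw [hT, ← map_pow]
    change _ = Ideal.Quotient.mk _ (MvPolynomial.C (a : A))
    rw [Ideal.Quotient.eq]
    exact Ideal.subset_span ⟨(), rfl⟩
  let S : Submodule A (SGA1t.kummer A (fun _ : Unit => (a : A)) (fun _ => n)) :=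
    Submodule.span A (Set.range fun j : Fin n => T ^ (j : ℕ))
  have hS1 : (1 : SGA1t.kummer A (fun _ : Unit => (a : A)) (fun _ => n)) ∈ S := by
    have : (1 : SGA1t.kummer A (fun _ : Unit => (a : A)) (fun _ => n)) =
        T ^ ((⟨0, by omega⟩ : Fin n) : ℕ) := by simp
    rw [this]
    exact Submodule.subset_span ⟨_, rfl⟩
  have hST : ∀ x ∈ S, x * T ∈ S := by
    intro x hx
    induction hx using Submodule.span_induction with
    | mem x hx =>
      obtain ⟨j, rfl⟩ := hx
      change T ^ (j : ℕ) * T ∈ S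
      rw [← pow_succ]
      by_cases hj : (j : ℕ) + 1 < n
      · exact Submodule.subset_span ⟨⟨(j : ℕ) + 1, hj⟩, rfl⟩
      · have : (j : ℕ) + 1 = n := by have := j.2; omega
        rw [this, hTn, Algebra.algebraMap_eq_smul_one]
        exact Submodule.smul_mem _ _ hS1
    | zero => rw [zero_mul]; exact Submodule.zero_mem _
    | add x y _ _ hx hy => rw [add_mul]; exact Submodule.add_mem _ hx hy
    | smul c x _ hx => rw [smul_mul_assoc]; exact Submodule.smul_mem _ _ hx
  have hSall : ∀ P : MvPolynomial Unit A, Ideal.Quotient.mk _ P ∈ S := by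
    intro P
    induction P using MvPolynomial.induction_on with
    | C c =>
      have : Ideal.Quotient.mk (Ideal.span (Set.range fun i : Unit =>
          (MvPolynomial.X i : MvPolynomial Unit A) ^ n - MvPolynomial.C (a : A)))
          (MvPolynomial.C c) = c • (1 : SGA1t.kummer A (fun _ : Unit => (a : A)) (fun _ => n)) := by
        rw [← Algebra.algebraMap_eq_smul_one]; rfl
      rw [this]
      exact Submodule.smul_mem _ _ hS1
    | add P Q hP hQ => rw [map_add]; exact Submodule.add_mem _ hP hQ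
    | mul_X P i hP =>
      rw [map_mul]
      have := hST _ hP
      rwa [hT] at this
  have hrepr : ∀ x : SGA1t.kummer A (fun _ : Unit => (a : A)) (fun _ => n),
      ∃ c : Fin n → A, ∑ j : Fin n, c j • T ^ (j : ℕ) = x := by
    intro x
    obtain ⟨P, rfl⟩ := Ideal.Quotient.mk_surjective x
    exact (Submodule.mem_span_range_iff_exists_fun A).mp (hSall P)
  have hψsum : ∀ c : Fin n → A, ψ₀ (∑ j : Fin n, c j • T ^ (j : ℕ)) =
      ∑ j : Fin n, algebraMap A B (c j) * t ^ (j : ℕ) := by
    intro c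
    rw [map_sum]
    refine Finset.sum_congr rfl (fun j _ => ?_)
    rw [map_smul, map_pow, hψT, Algebra.smul_def]
  have hinj : Function.Injective ψ₀ := by
    rw [injective_iff_map_eq_zero]
    intro x hx
    obtain ⟨c, rfl⟩ := hrepr x
    rw [hψsum] at hx
    have := coeffs_eq_zero σ t hunit hcard c hx
    rw [this]; simp
  have hsurj : Function.Surjective ψ₀ := by
    intro y
    obtain ⟨c, hc⟩ := exists_coeffs σ hbij.1 hσmul hσ1 t hunit hcard y
    exact ⟨∑ j : Fin n, c j • T ^ (j : ℕ), by rw [hψsum, hc]⟩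
  exact ⟨a, AlgEquiv.ofBijective ψ₀ ⟨hinj, hsurj⟩, fun ζ x => hequiv ζ x⟩

end Main

end Groth.Agent.Lib.T2H3.KummerCover
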