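import Mathlib.LinearAlgebra.Basis.VectorSpace
import Mathlib.Algebra.Module.Projective
import Mathlib.LinearAlgebra.FreeModule.Basic
import Mathlib.LinearAlgebra.Dimension.Constructions
import Mathlib.LinearAlgebra.Quotient.Basic

/-! Künneth formula for Segre products (helper3), part A: splitting of a complex of vector spaces
into its cohomology and a contractible complex. -/

set_option autoImplicit false

noncomputable section

namespace Groth.Agent.Lib.T2H3.Kun

universe u

variable {k : Type u} [Field k]

/-- A linear map between vector spaces has a generalized inverse. -/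
theorem exists_ginv {V W : Type u} [AddCommGroup V] [Module k V] [AddCommGroup W] [Module k W]
    (f : V →ₗ[k] W) : ∃ g : W →ₗ[k] V, ∀ x, f (g (f x)) = f x := by
  obtain ⟨s, hs⟩ := f.rangeRestrict.exists_rightInverse_of_surjective
    (LinearMap.range_rangeRestrict f)
  obtain ⟨r, hr⟩ := (LinearMap.range f).subtype.exists_leftInverse_of_injective
    (LinearMap.ker_eq_bot.mpr (Submodule.injective_subtype _))
  refine ⟨s ∘ₗ r, fun x => ?_⟩
  have h1 : r (f x) = f.rangeRestrict x := by
    have := LinearMap.congr_fun hr (f.rangeRestrict x)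
    exact this
  have h2 : ∀ y : LinearMap.range f, f (s y) = y := by
    intro y
    have := LinearMap.congr_fun hs y
    exact congrArg Subtype.val this
  rw [LinearMap.comp_apply, h1, h2]
  rfl

section Split

variable {A : ℕ → Type u} [∀ n, AddCommGroup (A n)] [∀ n, Module k (A n)]
  (d : ∀ n, A n →ₗ[k] A (n + 1))

/-- A splitting of a complex: a projection onto a complement of the boundaries in the cycles,
homotopic to the identity. -/
structure Split where
  h : ∀ n, A (n + 1) →ₗ[k] A n
  π : ∀ n, A n →ₗ[k] A n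
  dπ : ∀ n x, d n (π n x) = 0
  πd : ∀ n x, π (n + 1) (d n x) = 0
  ππ : ∀ n x, π n (π n x) = π n x
  id0 : ∀ x, x = π 0 x + h 0 (d 0 x)
  idS : ∀ n x, x = π (n + 1) x + d n (h n x) + h (n + 1) (d (n + 1) x)

theorem exists_split (hd : ∀ n x, d (n + 1) (d n x) = 0) : Nonempty (Split d) := by
  choose g hg using fun n => exists_ginv (d n)
  let e : ∀ n, A n →ₗ[k] A n := fun n =>
    match n with
    | 0 => 0
    | n + 1 => d n ∘ₗ g n
  have he0 : ∀ x, e 0 x = 0 := fun x => rfl
  have heS : ∀ n x, e (n + 1) x = d n (g n x) := fun n x => rfl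
  have hde : ∀ n x, d n (e n x) = 0 := by
    intro n x
    cases n with
    | zero => rw [he0, map_zero]
    | succ n => rw [heS, hd]
  have hee : ∀ n x, e n (e n x) = e n x := by
    intro n x
    cases n with
    | zero => rw [he0, he0]
    | succ n => rw [heS, heS, hg]
  let h : ∀ n, A (n + 1) →ₗ[k] A n := fun n => (LinearMap.id - e n) ∘ₗ g n
  have hh : ∀ n x, h n x = g n x - e n (g n x) := fun n x => rfl
  have hdh : ∀ n x, d n (h n x) = d n (g n x) := by
    intro n x
    rw [hh, map_sub, hde, sub_zero]
  have heh : ∀ n x, e n (h n x) = 0 := by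
    intro n x
    rw [hh, map_sub, hee, sub_self]
  let π : ∀ n, A n →ₗ[k] A n := fun n => LinearMap.id - e n - h n ∘ₗ d n
  have hπ : ∀ n x, π n x = x - e n x - h n (d n x) := fun n x => rfl
  refine ⟨⟨h, π, ?_, ?_, ?_, ?_, ?_⟩⟩
  · intro n x
    rw [hπ, map_sub, map_sub, hde, hdh, hg, sub_zero, sub_self]
  · intro n x
    rw [hπ, hd, map_zero, sub_zero, heS, hg, sub_self]
  · intro n x
    have h1 : e n (π n x) = 0 := by
      rw [hπ, map_sub, map_sub, hee, heh, sub_self, sub_zero]
    have h2 : d n (π n x) = 0 := by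
      rw [hπ, map_sub, map_sub, hde, hdh, hg, sub_zero, sub_self]
    rw [hπ (n := n) (x := π n x), h1, h2, map_zero, sub_zero, sub_zero]
  · intro x
    rw [hπ, he0, sub_zero, sub_add_cancel]
  · intro n x
    rw [hπ, hdh, heS]
    abel

variable {d}

/-- A splitting of a complex exact at positive degrees has vanishing projections there. -/
theorem Split.π_eq_zero (s : Split d) (n : ℕ)
    (hex : LinearMap.ker (d (n + 1)) = LinearMap.range (d n)) (x : A (n + 1)) :
    s.π (n + 1) x = 0 := by
  have h1 : s.π (n + 1) x ∈ LinearMap.ker (d (n + 1)) := LinearMap.mem_ker.mpr (s.dπ _ _)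
  rw [hex] at h1
  obtain ⟨y, hy⟩ := h1
  rw [← s.ππ, ← hy, s.πd]

/-- Cocycles are cohomologous to their projections. -/
theorem Split.eq_of_cocycle_zero (s : Split d) {x : A 0} (hx : d 0 x = 0) : x = s.π 0 x := by
  have h := s.id0 x
  rw [hx, map_zero, add_zero] at h
  exact h

theorem Split.eq_of_cocycle_succ (s : Split d) (n : ℕ) {x : A (n + 1)} (hx : d (n + 1) x = 0) :
    x = s.π (n + 1) x + d n (s.h n x) := by
  have h := s.idS n x
  rw [hx, map_zero, add_zero] at h
  exact h

end Split

end Groth.Agent.Lib.T2H3.Kun
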