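import Groth.Agent.Lib.T2H3KunA
import Mathlib.LinearAlgebra.Pi

/-! Künneth formula for Segre products (helper3), part B: the total complex of a double complex
of modules, realized inside the product of all terms. -/

set_option autoImplicit false
set_option linter.unusedSectionVars false

noncomputable section

namespace Groth.Agent.Lib.T2H3.Kun

universe u

/-- The product of all the terms of a double complex. -/
abbrev Om (W : ℕ × ℕ → Type u) : Type u := ∀ p, W p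

/-- The sign `(-1)^i`. -/
def sgn {M : Type u} [AddCommGroup M] (i : ℕ) (x : M) : M := ((-1 : ℤ) ^ i) • x

section Sgn

variable {M N : Type u} [AddCommGroup M] [AddCommGroup N]

@[simp] theorem sgn_zero (i : ℕ) : sgn i (0 : M) = 0 := smul_zero _

theorem sgn_add (i : ℕ) (x y : M) : sgn i (x + y) = sgn i x + sgn i y := smul_add _ _ _

theorem sgn_succ (i : ℕ) (x : M) : sgn (i + 1) x = - sgn i x := by
  unfold sgn
  rw [pow_succ, mul_neg_one, neg_smul]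

theorem sgn_sgn (i : ℕ) (x : M) : sgn i (sgn i x) = x := by
  unfold sgn
  rw [smul_smul, ← pow_add, ← two_mul, pow_mul]
  simp

theorem sgn_neg (i : ℕ) (x : M) : sgn i (-x) = - sgn i x := smul_neg _ _

theorem map_sgn {F : Type*} [FunLike F M N] [AddMonoidHomClass F M N] (φ : F) (i : ℕ) (x : M) :
    φ (sgn i x) = sgn i (φ x) := map_zsmul φ _ x

theorem sgn_smul {Λ : Type u} [Ring Λ] [Module Λ M] (i : ℕ) (c : Λ) (x : M) :
    sgn i (c • x) = c • sgn i x := by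
  unfold sgn
  rw [smul_comm]

end Sgn

section DC

variable {Λ : Type u} [CommRing Λ]
variable {W : ℕ × ℕ → Type u} [∀ p, AddCommGroup (W p)] [∀ p, Module Λ (W p)]
variable {W' : ℕ × ℕ → Type u} [∀ p, AddCommGroup (W' p)] [∀ p, Module Λ (W' p)]

/-- Raising the first index. -/
def sh₁f (φ : ∀ i j, W (i, j) → W' (i + 1, j)) (f : Om W) : Om W'
  | (0, _) => 0
  | (i + 1, j) => φ i j (f (i, j))

/-- Raising the second index, with the sign. -/
def sh₂f (φ : ∀ i j, W (i, j) → W' (i, j + 1)) (f : Om W) : Om W'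
  | (_, 0) => 0
  | (i, j + 1) => sgn i (φ i j (f (i, j)))

/-- Raising the first index, as a linear map. -/
def sh₁ (φ : ∀ i j, W (i, j) →ₗ[Λ] W' (i + 1, j)) : Om W →ₗ[Λ] Om W' where
  toFun f := sh₁f (fun i j => φ i j) f
  map_add' f g := by
    funext p
    obtain ⟨i, j⟩ := p
    cases i with
    | zero => exact (add_zero _).symm
    | succ i => exact map_add (φ i j) _ _
  map_smul' c f := by
    funext p
    obtain ⟨i, j⟩ := p
    cases i with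
    | zero => exact (smul_zero c).symm
    | succ i => exact map_smul (φ i j) _ _

/-- Raising the second index, as a linear map. -/
def sh₂ (φ : ∀ i j, W (i, j) →ₗ[Λ] W' (i, j + 1)) : Om W →ₗ[Λ] Om W' where
  toFun f := sh₂f (fun i j => φ i j) f
  map_add' f g := by
    funext p
    obtain ⟨i, j⟩ := p
    cases j with
    | zero => exact (add_zero _).symm
    | succ j =>
      change sgn i (φ i j (f (i, j) + g (i, j))) = sgn i (φ i j (f (i, j))) + sgn i (φ i j (g (i, j)))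
      rw [map_add, sgn_add]
  map_smul' c f := by
    funext p
    obtain ⟨i, j⟩ := p
    cases j with
    | zero => exact (smul_zero c).symm
    | succ j =>
      change sgn i (φ i j (c • f (i, j))) = c • sgn i (φ i j (f (i, j)))
      rw [map_smul, sgn_smul]

@[simp] theorem sh₁_zero (φ : ∀ i j, W (i, j) →ₗ[Λ] W' (i + 1, j)) (f : Om W) (j : ℕ) :
    sh₁ φ f (0, j) = 0 := rfl

@[simp] theorem sh₁_succ (φ : ∀ i j, W (i, j) →ₗ[Λ] W' (i + 1, j)) (f : Om W) (i j : ℕ) :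
    sh₁ φ f (i + 1, j) = φ i j (f (i, j)) := rfl

@[simp] theorem sh₂_zero (φ : ∀ i j, W (i, j) →ₗ[Λ] W' (i, j + 1)) (f : Om W) (i : ℕ) :
    sh₂ φ f (i, 0) = 0 := rfl

@[simp] theorem sh₂_succ (φ : ∀ i j, W (i, j) →ₗ[Λ] W' (i, j + 1)) (f : Om W) (i j : ℕ) :
    sh₂ φ f (i, j + 1) = sgn i (φ i j (f (i, j))) := rfl

variable (d₁ : ∀ i j, W (i, j) →ₗ[Λ] W (i + 1, j)) (d₂ : ∀ i j, W (i, j) →ₗ[Λ] W (i, j + 1))

/-- The total differential. -/
def D : Om W →ₗ[Λ] Om W := sh₁ d₁ + sh₂ d₂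

theorem D_apply (f : Om W) (p : ℕ × ℕ) : D d₁ d₂ f p = sh₁ d₁ f p + sh₂ d₂ f p := rfl

theorem D_zero_zero (f : Om W) : D d₁ d₂ f (0, 0) = 0 := by
  rw [D_apply, sh₁_zero, sh₂_zero, add_zero]

theorem D_succ_zero (f : Om W) (i : ℕ) : D d₁ d₂ f (i + 1, 0) = d₁ i 0 (f (i, 0)) := by
  rw [D_apply, sh₁_succ, sh₂_zero, add_zero]

theorem D_zero_succ (f : Om W) (j : ℕ) : D d₁ d₂ f (0, j + 1) = sgn 0 (d₂ 0 j (f (0, j))) := by
  rw [D_apply, sh₁_zero, sh₂_succ, zero_add]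

theorem D_succ_succ (f : Om W) (i j : ℕ) :
    D d₁ d₂ f (i + 1, j + 1) = d₁ i (j + 1) (f (i, j + 1)) + sgn (i + 1) (d₂ (i + 1) j (f (i + 1, j))) := by
  rw [D_apply, sh₁_succ, sh₂_succ]

variable (h11 : ∀ i j x, d₁ (i + 1) j (d₁ i j x) = 0) (h22 : ∀ i j x, d₂ i (j + 1) (d₂ i j x) = 0)
  (h12 : ∀ i j x, d₂ (i + 1) j (d₁ i j x) = d₁ i (j + 1) (d₂ i j x))

include h11 in
theorem sh₁_sh₁ (f : Om W) : sh₁ d₁ (sh₁ d₁ f) = 0 := by
  funext p
  obtain ⟨i, j⟩ := p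
  rcases i with _ | _ | i
  · rfl
  · rw [sh₁_succ, sh₁_zero, map_zero]; rfl
  · rw [sh₁_succ, sh₁_succ, h11]; rfl

include h22 in
theorem sh₂_sh₂ (f : Om W) : sh₂ d₂ (sh₂ d₂ f) = 0 := by
  funext p
  obtain ⟨i, j⟩ := p
  rcases j with _ | _ | j
  · rfl
  · rw [sh₂_succ, sh₂_zero, map_zero, sgn_zero]; rfl
  · rw [sh₂_succ, sh₂_succ, map_sgn, h22, sgn_zero, sgn_zero]; rfl

include h12 in
theorem sh₁_sh₂ (f : Om W) : sh₁ d₁ (sh₂ d₂ f) + sh₂ d₂ (sh₁ d₁ f) = 0 := by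
  funext p
  obtain ⟨i, j⟩ := p
  rcases i with _ | i <;> rcases j with _ | j
  · change sh₁ d₁ (sh₂ d₂ f) (0, 0) + sh₂ d₂ (sh₁ d₁ f) (0, 0) = 0
    rw [sh₁_zero, sh₂_zero, add_zero]
  · change sh₁ d₁ (sh₂ d₂ f) (0, j + 1) + sh₂ d₂ (sh₁ d₁ f) (0, j + 1) = 0
    rw [sh₁_zero, sh₂_succ, sh₁_zero, map_zero, sgn_zero, add_zero]
  · change sh₁ d₁ (sh₂ d₂ f) (i + 1, 0) + sh₂ d₂ (sh₁ d₁ f) (i + 1, 0) = 0
    rw [sh₁_succ, sh₂_zero, sh₂_zero, map_zero, add_zero]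
  · change sh₁ d₁ (sh₂ d₂ f) (i + 1, j + 1) + sh₂ d₂ (sh₁ d₁ f) (i + 1, j + 1) = 0
    rw [sh₁_succ, sh₂_succ, sh₂_succ, sh₁_succ, map_sgn, h12, sgn_succ, add_neg_cancel]

include h11 h22 h12 in
theorem D_D (f : Om W) : D d₁ d₂ (D d₁ d₂ f) = 0 := by
  have e1 : D d₁ d₂ (D d₁ d₂ f) = sh₁ d₁ (sh₁ d₁ f) + (sh₁ d₁ (sh₂ d₂ f) + sh₂ d₂ (sh₁ d₁ f)) +
      sh₂ d₂ (sh₂ d₂ f) := by
    unfold D
    simp only [LinearMap.add_apply, map_add]
    abel
  rw [e1, sh₁_sh₁ d₁ h11, sh₂_sh₂ d₂ h22, sh₁_sh₂ d₁ d₂ h12, add_zero, add_zero]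

/-- The elements of total degree `n`. -/
def Xn (Λ : Type u) [CommRing Λ] (W : ℕ × ℕ → Type u) [∀ p, AddCommGroup (W p)]
    [∀ p, Module Λ (W p)] (n : ℕ) : Submodule Λ (Om W) where
  carrier := {f | ∀ p : ℕ × ℕ, p.1 + p.2 ≠ n → f p = 0}
  add_mem' {f g} hf hg p hp := by
    change f p + g p = 0
    rw [hf p hp, hg p hp, add_zero]
  zero_mem' _ _ := rfl
  smul_mem' c f hf p hp := by
    change c • f p = 0
    rw [hf p hp, smul_zero]

theorem mem_Xn {n : ℕ} {f : Om W} : f ∈ Xn Λ W n ↔ ∀ p : ℕ × ℕ, p.1 + p.2 ≠ n → f p = 0 := Iff.rfl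

theorem D_mem_Xn {n : ℕ} {f : Om W} (hf : f ∈ Xn Λ W n) : D d₁ d₂ f ∈ Xn Λ W (n + 1) := by
  intro p hp
  obtain ⟨i, j⟩ := p
  rcases i with _ | i <;> rcases j with _ | j
  · exact D_zero_zero d₁ d₂ f
  · rw [D_zero_succ, hf (0, j) (fun h => hp (by simp only at h ⊢; omega)), map_zero, sgn_zero]
  · rw [D_succ_zero, hf (i, 0) (fun h => hp (by simp only at h ⊢; omega)), map_zero]
  · rw [D_succ_succ, hf (i, j + 1) (fun h => hp (by simp only at h ⊢; omega)),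
      hf (i + 1, j) (fun h => hp (by simp only at h ⊢; omega)), map_zero, map_zero, sgn_zero,
      add_zero]

/-- The total complex as a family of modules. -/
abbrev XC (Λ : Type u) [CommRing Λ] (W : ℕ × ℕ → Type u) [∀ p, AddCommGroup (W p)]
    [∀ p, Module Λ (W p)] (n : ℕ) : Type u := ↥(Xn Λ W n)

/-- The differentials of the total complex. -/
def Dn (n : ℕ) : XC Λ W n →ₗ[Λ] XC Λ W (n + 1) :=
  (D d₁ d₂).restrict (fun _ hf => D_mem_Xn d₁ d₂ hf)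

theorem coe_Dn (n : ℕ) (x : XC Λ W n) : ((Dn d₁ d₂ n x : XC Λ W (n + 1)) : Om W) = D d₁ d₂ (x : Om W) :=
  rfl

include h11 h22 h12 in
theorem Dn_Dn (n : ℕ) (x : XC Λ W n) : Dn d₁ d₂ (n + 1) (Dn d₁ d₂ n x) = 0 := by
  apply Subtype.ext
  rw [coe_Dn, coe_Dn]
  exact D_D d₁ d₂ h11 h22 h12 _

/-- The elements with all components in given submodules. -/
def OmU (U : ∀ p, Submodule Λ (W p)) : Submodule Λ (Om W) where
  carrier := {f | ∀ p, f p ∈ U p}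
  add_mem' hf hg p := add_mem (hf p) (hg p)
  zero_mem' _ := zero_mem _
  smul_mem' c _ hf p := Submodule.smul_mem _ c (hf p)

theorem mem_OmU {U : ∀ p, Submodule Λ (W p)} {f : Om W} : f ∈ OmU U ↔ ∀ p, f p ∈ U p := Iff.rfl

theorem sgn_mem {M : Type u} [AddCommGroup M] [Module Λ M] (U : Submodule Λ M) (i : ℕ) {x : M}
    (hx : x ∈ U) : sgn i x ∈ U := by
  have h : sgn i x ∈ U.toAddSubgroup := zsmul_mem (show x ∈ U.toAddSubgroup from hx) _
  exact h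

theorem D_mem_OmU {U : ∀ p, Submodule Λ (W p)} (hU₁ : ∀ i j x, x ∈ U (i, j) → d₁ i j x ∈ U (i + 1, j))
    (hU₂ : ∀ i j x, x ∈ U (i, j) → d₂ i j x ∈ U (i, j + 1)) {f : Om W} (hf : f ∈ OmU U) :
    D d₁ d₂ f ∈ OmU U := by
  intro p
  obtain ⟨i, j⟩ := p
  rcases i with _ | i <;> rcases j with _ | j
  · rw [D_zero_zero]; exact zero_mem _
  · rw [D_zero_succ]; exact sgn_mem _ _ (hU₂ _ _ _ (hf _))
  · rw [D_succ_zero]; exact hU₁ _ _ _ (hf _)
  · rw [D_succ_succ]; exact add_mem (hU₁ _ _ _ (hf _)) (sgn_mem _ _ (hU₂ _ _ _ (hf _)))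

/-- Componentwise maps. -/
def dg (φ : ∀ p, W p →ₗ[Λ] W' p) : Om W →ₗ[Λ] Om W' :=
  LinearMap.pi fun p => φ p ∘ₗ LinearMap.proj p

@[simp] theorem dg_apply (φ : ∀ p, W p →ₗ[Λ] W' p) (f : Om W) (p : ℕ × ℕ) : dg φ f p = φ p (f p) :=
  rfl

theorem dg_mem_Xn (φ : ∀ p, W p →ₗ[Λ] W' p) {n : ℕ} {f : Om W} (hf : f ∈ Xn Λ W n) :
    dg φ f ∈ Xn Λ W' n := by
  intro p hp
  rw [dg_apply, hf p hp, map_zero]

end DC

section Compare

variable {Λ Λ' : Type u} [CommRing Λ] [CommRing Λ']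
variable {W : ℕ × ℕ → Type u} [∀ p, AddCommGroup (W p)] [∀ p, Module Λ (W p)]
variable {W' : ℕ × ℕ → Type u} [∀ p, AddCommGroup (W' p)] [∀ p, Module Λ' (W' p)]
variable (d₁ : ∀ i j, W (i, j) →ₗ[Λ] W (i + 1, j)) (d₂ : ∀ i j, W (i, j) →ₗ[Λ] W (i, j + 1))
variable (d₁' : ∀ i j, W' (i, j) →ₗ[Λ'] W' (i + 1, j)) (d₂' : ∀ i j, W' (i, j) →ₗ[Λ'] W' (i, j + 1))

/-- Componentwise additive maps commuting with the differentials commute with the total
differential. -/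
theorem map_D (φ : ∀ p, W p →+ W' p) (h₁ : ∀ i j x, φ (i + 1, j) (d₁ i j x) = d₁' i j (φ (i, j) x))
    (h₂ : ∀ i j x, φ (i, j + 1) (d₂ i j x) = d₂' i j (φ (i, j) x)) (f : Om W) (p : ℕ × ℕ) :
    φ p (D d₁ d₂ f p) = D d₁' d₂' (fun q => φ q (f q)) p := by
  obtain ⟨i, j⟩ := p
  rcases i with _ | i <;> rcases j with _ | j
  · rw [D_zero_zero, D_zero_zero, map_zero]
  · rw [D_zero_succ, D_zero_succ, map_sgn, h₂]
  · rw [D_succ_zero, D_succ_zero, h₁]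
  · rw [D_succ_succ, D_succ_succ, map_add, map_sgn, h₁, h₂]

end Compare

end Groth.Agent.Lib.T2H3.Kun
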