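import Groth.Agent.Lib.T2H3KunB

/-! Künneth formula for Segre products (helper3), part C: contracting homotopies on the total
complex of a double complex from homotopies of its rows and of its columns. -/

set_option autoImplicit false
set_option linter.unusedSectionVars false

noncomputable section

namespace Groth.Agent.Lib.T2H3.Kun

universe u

section Homotopy

variable {Λ : Type u} [CommRing Λ]
variable {W : ℕ × ℕ → Type u} [∀ p, AddCommGroup (W p)] [∀ p, Module Λ (W p)]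
variable (d₁ : ∀ i j, W (i, j) →ₗ[Λ] W (i + 1, j)) (d₂ : ∀ i j, W (i, j) →ₗ[Λ] W (i, j + 1))

/-- Lowering the first index. -/
def lo₁ (χ : ∀ i j, W (i + 1, j) →ₗ[Λ] W (i, j)) (f : Om W) : Om W :=
  fun p => χ p.1 p.2 (f (p.1 + 1, p.2))

/-- Lowering the second index, with the sign. -/
def lo₂ (χ : ∀ i j, W (i, j + 1) →ₗ[Λ] W (i, j)) (f : Om W) : Om W :=
  fun p => sgn p.1 (χ p.1 p.2 (f (p.1, p.2 + 1)))

theorem lo₁_apply (χ : ∀ i j, W (i + 1, j) →ₗ[Λ] W (i, j)) (f : Om W) (i j : ℕ) :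
    lo₁ χ f (i, j) = χ i j (f (i + 1, j)) := rfl

theorem lo₂_apply (χ : ∀ i j, W (i, j + 1) →ₗ[Λ] W (i, j)) (f : Om W) (i j : ℕ) :
    lo₂ χ f (i, j) = sgn i (χ i j (f (i, j + 1))) := rfl

theorem lo₁_mem_Xn (χ : ∀ i j, W (i + 1, j) →ₗ[Λ] W (i, j)) {n : ℕ} {f : Om W}
    (hf : f ∈ Xn Λ W (n + 1)) : lo₁ χ f ∈ Xn Λ W n := by
  intro p hp
  obtain ⟨i, j⟩ := p
  rw [lo₁_apply, hf (i + 1, j) (fun h => hp (by simp only at h ⊢; omega)), map_zero]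

theorem lo₂_mem_Xn (χ : ∀ i j, W (i, j + 1) →ₗ[Λ] W (i, j)) {n : ℕ} {f : Om W}
    (hf : f ∈ Xn Λ W (n + 1)) : lo₂ χ f ∈ Xn Λ W n := by
  intro p hp
  obtain ⟨i, j⟩ := p
  rw [lo₂_apply, hf (i, j + 1) (fun h => hp (by simp only at h ⊢; omega)), map_zero, sgn_zero]

theorem lo₁_eq_zero (χ : ∀ i j, W (i + 1, j) →ₗ[Λ] W (i, j)) {f : Om W} (hf : f ∈ Xn Λ W 0) :
    lo₁ χ f = 0 := by
  funext p
  obtain ⟨i, j⟩ := p
  rw [lo₁_apply, hf (i + 1, j) (by simp), map_zero]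
  rfl

theorem lo₂_eq_zero (χ : ∀ i j, W (i, j + 1) →ₗ[Λ] W (i, j)) {f : Om W} (hf : f ∈ Xn Λ W 0) :
    lo₂ χ f = 0 := by
  funext p
  obtain ⟨i, j⟩ := p
  rw [lo₂_apply, hf (i, j + 1) (by simp), map_zero, sgn_zero]
  rfl

/-- Homotopy data for a double complex: splittings of the rows compatible with the vertical
differential and splittings of the columns compatible with the horizontal differential. -/
structure Htpy where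
  h₁ : ∀ i j, W (i + 1, j) →ₗ[Λ] W (i, j)
  π₁ : ∀ p, W p →ₗ[Λ] W p
  h₂ : ∀ i j, W (i, j + 1) →ₗ[Λ] W (i, j)
  π₂ : ∀ p, W p →ₗ[Λ] W p
  id0₁ : ∀ j x, x = π₁ (0, j) x + h₁ 0 j (d₁ 0 j x)
  idS₁ : ∀ i j x, x = π₁ (i + 1, j) x + d₁ i j (h₁ i j x) + h₁ (i + 1) j (d₁ (i + 1) j x)
  ch₁ : ∀ i j x, h₁ i (j + 1) (d₂ (i + 1) j x) = d₂ i j (h₁ i j x)
  id0₂ : ∀ i x, x = π₂ (i, 0) x + h₂ i 0 (d₂ i 0 x)
  idS₂ : ∀ i j x, x = π₂ (i, j + 1) x + d₂ i j (h₂ i j x) + h₂ i (j + 1) (d₂ i (j + 1) x)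
  ch₂ : ∀ i j x, h₂ (i + 1) j (d₁ i (j + 1) x) = d₁ i j (h₂ i j x)
  dπ₁ : ∀ i j x, d₁ i j (π₁ (i, j) x) = 0
  πd₁ : ∀ i j x, π₁ (i + 1, j) (d₁ i j x) = 0
  cπ₁ : ∀ i j x, π₁ (i, j + 1) (d₂ i j x) = d₂ i j (π₁ (i, j) x)
  dπ₂ : ∀ i j x, d₂ i j (π₂ (i, j) x) = 0
  πd₂ : ∀ i j x, π₂ (i, j + 1) (d₂ i j x) = 0
  cπ₂ : ∀ i j x, π₂ (i + 1, j) (d₁ i j x) = d₁ i j (π₂ (i, j) x)
  ππ₁ : ∀ p x, π₁ p (π₁ p x) = π₁ p x
  ππ₂ : ∀ p x, π₂ p (π₂ p x) = π₂ p x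
  cππ : ∀ p x, π₁ p (π₂ p x) = π₂ p (π₁ p x)

variable {d₁ d₂} (H : Htpy d₁ d₂)

theorem Htpy.eq₁ (f : Om W) :
    f = dg H.π₁ f + D d₁ d₂ (lo₁ H.h₁ f) + lo₁ H.h₁ (D d₁ d₂ f) := by
  funext p
  obtain ⟨i, j⟩ := p
  change f (i, j) = H.π₁ (i, j) (f (i, j)) + D d₁ d₂ (lo₁ H.h₁ f) (i, j) +
    lo₁ H.h₁ (D d₁ d₂ f) (i, j)
  rcases i with _ | i <;> rcases j with _ | j
  · rw [D_zero_zero, lo₁_apply, D_succ_zero, add_zero]
    exact H.id0₁ 0 _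
  · rw [D_zero_succ, lo₁_apply, lo₁_apply, D_succ_succ, map_add, map_sgn, H.ch₁, sgn_succ]
    have h := H.id0₁ (j + 1) (f (0, j + 1))
    generalize sgn 0 (d₂ 0 j (H.h₁ 0 j (f (0 + 1, j)))) = t
    calc f (0, j + 1) = H.π₁ (0, j + 1) (f (0, j + 1)) +
          H.h₁ 0 (j + 1) (d₁ 0 (j + 1) (f (0, j + 1))) := h
      _ = _ := by abel
  · rw [D_succ_zero, lo₁_apply, lo₁_apply, D_succ_zero]
    exact H.idS₁ i 0 _
  · rw [D_succ_succ, lo₁_apply, lo₁_apply, lo₁_apply, D_succ_succ, map_add, map_sgn, H.ch₁,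
      sgn_succ (i + 1)]
    have h := H.idS₁ i (j + 1) (f (i + 1, j + 1))
    generalize sgn (i + 1) (d₂ (i + 1) j (H.h₁ (i + 1) j (f (i + 1 + 1, j)))) = t
    calc f (i + 1, j + 1) = H.π₁ (i + 1, j + 1) (f (i + 1, j + 1)) +
          d₁ i (j + 1) (H.h₁ i (j + 1) (f (i + 1, j + 1))) +
          H.h₁ (i + 1) (j + 1) (d₁ (i + 1) (j + 1) (f (i + 1, j + 1))) := h
      _ = _ := by abel

theorem Htpy.eq₂ (f : Om W) :
    f = dg H.π₂ f + D d₁ d₂ (lo₂ H.h₂ f) + lo₂ H.h₂ (D d₁ d₂ f) := by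
  funext p
  obtain ⟨i, j⟩ := p
  change f (i, j) = H.π₂ (i, j) (f (i, j)) + D d₁ d₂ (lo₂ H.h₂ f) (i, j) +
    lo₂ H.h₂ (D d₁ d₂ f) (i, j)
  rcases i with _ | i <;> rcases j with _ | j
  · rw [D_zero_zero, lo₂_apply, D_zero_succ, map_sgn, sgn_sgn, add_zero]
    exact H.id0₂ 0 _
  · rw [D_zero_succ, lo₂_apply, lo₂_apply, D_zero_succ, map_sgn, map_sgn, sgn_sgn, sgn_sgn]
    exact H.idS₂ 0 j _
  · rw [D_succ_zero, lo₂_apply, lo₂_apply, D_succ_succ, map_add, map_sgn, map_sgn, sgn_add,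
      sgn_sgn, H.ch₂, sgn_succ i]
    have h := H.id0₂ (i + 1) (f (i + 1, 0))
    generalize sgn i (d₁ i 0 (H.h₂ i 0 (f (i, 0 + 1)))) = t
    calc f (i + 1, 0) = H.π₂ (i + 1, 0) (f (i + 1, 0)) +
          H.h₂ (i + 1) 0 (d₂ (i + 1) 0 (f (i + 1, 0))) := h
      _ = _ := by abel
  · rw [D_succ_succ, lo₂_apply, lo₂_apply, lo₂_apply, D_succ_succ, map_add, map_sgn, map_sgn,
      map_sgn, sgn_add, sgn_sgn, sgn_sgn, H.ch₂, sgn_succ i]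
    have h := H.idS₂ (i + 1) j (f (i + 1, j + 1))
    generalize sgn i (d₁ i (j + 1) (H.h₂ i (j + 1) (f (i, j + 1 + 1)))) = t
    calc f (i + 1, j + 1) = H.π₂ (i + 1, j + 1) (f (i + 1, j + 1)) +
          d₂ (i + 1) j (H.h₂ (i + 1) j (f (i + 1, j + 1))) +
          H.h₂ (i + 1) (j + 1) (d₂ (i + 1) (j + 1) (f (i + 1, j + 1))) := h
      _ = _ := by abel

/-- The projection onto the harmonic part. -/
def Htpy.P : Om W →ₗ[Λ] Om W := dg fun p => H.π₂ p ∘ₗ H.π₁ p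

theorem Htpy.P_apply (f : Om W) (p : ℕ × ℕ) : H.P f p = H.π₂ p (H.π₁ p (f p)) := rfl

theorem Htpy.P_eq (f : Om W) : H.P f = dg H.π₂ (dg H.π₁ f) := rfl

theorem Htpy.dg₁_D (f : Om W) : dg H.π₁ (D d₁ d₂ f) = D d₁ d₂ (dg H.π₁ f) := by
  funext p
  have h := map_D d₁ d₂ d₁ d₂ (fun q => (H.π₁ q).toAddMonoidHom)
    (fun i j x => by
      change H.π₁ (i + 1, j) (d₁ i j x) = d₁ i j (H.π₁ (i, j) x)
      rw [H.πd₁, H.dπ₁])
    (fun i j x => H.cπ₁ i j x) f p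
  exact h

theorem Htpy.D_P (f : Om W) : D d₁ d₂ (H.P f) = 0 := by
  funext p
  obtain ⟨i, j⟩ := p
  rcases i with _ | i <;> rcases j with _ | j
  · exact D_zero_zero d₁ d₂ _
  · rw [D_zero_succ, H.P_apply, H.dπ₂, sgn_zero]; rfl
  · rw [D_succ_zero, H.P_apply, ← H.cπ₂, H.dπ₁, map_zero]; rfl
  · rw [D_succ_succ, H.P_apply, H.P_apply, ← H.cπ₂, H.dπ₁, map_zero, H.dπ₂, sgn_zero, add_zero]
    rfl

theorem Htpy.P_D (f : Om W) : H.P (D d₁ d₂ f) = 0 := by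
  funext p
  obtain ⟨i, j⟩ := p
  rcases i with _ | i <;> rcases j with _ | j
  · rw [H.P_apply, D_zero_zero, map_zero, map_zero]; rfl
  · rw [H.P_apply, D_zero_succ, map_sgn, map_sgn, H.cπ₁, H.πd₂, sgn_zero]; rfl
  · rw [H.P_apply, D_succ_zero, H.πd₁, map_zero]; rfl
  · rw [H.P_apply, D_succ_succ, map_add, map_add, H.πd₁, map_zero, map_sgn, map_sgn, H.cπ₁,
      H.πd₂, sgn_zero, add_zero]
    rfl

theorem Htpy.P_P (f : Om W) : H.P (H.P f) = H.P f := by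
  funext p
  rw [H.P_apply, H.P_apply, H.cππ, H.ππ₁, H.ππ₂]

theorem Htpy.P_mem_Xn {n : ℕ} {f : Om W} (hf : f ∈ Xn Λ W n) : H.P f ∈ Xn Λ W n :=
  dg_mem_Xn _ hf

/-- Cocycles of degree `0` are harmonic. -/
theorem Htpy.eq_P_of_cocycle_zero {z : Om W} (hz : z ∈ Xn Λ W 0) (hD : D d₁ d₂ z = 0) :
    z = H.P z := by
  have e1 : z = dg H.π₁ z := by
    have h := H.eq₁ z
    rw [hD, lo₁_eq_zero H.h₁ hz, map_zero] at h
    have h0 : lo₁ H.h₁ (0 : Om W) = 0 := by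
      funext p
      change H.h₁ p.1 p.2 0 = 0
      rw [map_zero]
    rw [h0, add_zero, add_zero] at h
    exact h
  have hz1 : dg H.π₁ z ∈ Xn Λ W 0 := dg_mem_Xn _ hz
  have hD1 : D d₁ d₂ (dg H.π₁ z) = 0 := by rw [← H.dg₁_D, hD, map_zero]
  have e2 : dg H.π₁ z = dg H.π₂ (dg H.π₁ z) := by
    have h := H.eq₂ (dg H.π₁ z)
    rw [hD1, lo₂_eq_zero H.h₂ hz1, map_zero] at h
    have h0 : lo₂ H.h₂ (0 : Om W) = 0 := by
      funext p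
      change sgn p.1 (H.h₂ p.1 p.2 0) = 0
      rw [map_zero, sgn_zero]
    rw [h0, add_zero, add_zero] at h
    exact h
  rw [H.P_eq, ← e2, ← e1]

/-- Cocycles of positive degree are cohomologous to their harmonic parts. -/
theorem Htpy.exists_eq_P_add {n : ℕ} {z : Om W} (hz : z ∈ Xn Λ W (n + 1)) (hD : D d₁ d₂ z = 0) :
    ∃ w ∈ Xn Λ W n, z = H.P z + D d₁ d₂ w := by
  have h0₁ : lo₁ H.h₁ (0 : Om W) = 0 := by
    funext p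
    change H.h₁ p.1 p.2 0 = 0
    rw [map_zero]
  have h0₂ : lo₂ H.h₂ (0 : Om W) = 0 := by
    funext p
    change sgn p.1 (H.h₂ p.1 p.2 0) = 0
    rw [map_zero, sgn_zero]
  have e1 : z = dg H.π₁ z + D d₁ d₂ (lo₁ H.h₁ z) := by
    have h := H.eq₁ z
    rw [hD, h0₁, add_zero] at h
    exact h
  have hz1 : dg H.π₁ z ∈ Xn Λ W (n + 1) := dg_mem_Xn _ hz
  have hD1 : D d₁ d₂ (dg H.π₁ z) = 0 := by rw [← H.dg₁_D, hD, map_zero]
  have e2 : dg H.π₁ z = dg H.π₂ (dg H.π₁ z) + D d₁ d₂ (lo₂ H.h₂ (dg H.π₁ z)) := by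
    have h := H.eq₂ (dg H.π₁ z)
    rw [hD1, h0₂, add_zero] at h
    exact h
  refine ⟨lo₂ H.h₂ (dg H.π₁ z) + lo₁ H.h₁ z,
    add_mem (lo₂_mem_Xn H.h₂ hz1) (lo₁_mem_Xn H.h₁ hz), ?_⟩
  rw [map_add, H.P_eq, ← add_assoc, ← e2, ← e1]

end Homotopy

end Groth.Agent.Lib.T2H3.Kun
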