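import Groth.Agent.Lib.T2H3KunA

/-! Künneth formula for Segre products (helper3), part D: cohomology of a subcomplex of an
`ℕ`-indexed complex of vector spaces, and the connecting isomorphisms for a surjection of
complexes with acyclic source. -/

set_option autoImplicit false
set_option linter.unusedSectionVars false

noncomputable section

namespace Groth.Agent.Lib.T2H3.Kun

universe u

variable {k : Type u} [Field k]

/-- Two surjections with the same kernel have isomorphic targets. -/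
theorem nonempty_equiv_of_surjective {G H₁ H₂ : Type u} [AddCommGroup G] [Module k G]
    [AddCommGroup H₁] [Module k H₁] [AddCommGroup H₂] [Module k H₂] (f₁ : G →ₗ[k] H₁)
    (f₂ : G →ₗ[k] H₂) (h₁ : Function.Surjective f₁) (h₂ : Function.Surjective f₂)
    (hker : ∀ x, f₁ x = 0 ↔ f₂ x = 0) : Nonempty (H₁ ≃ₗ[k] H₂) := by
  have hk : LinearMap.ker f₁ = LinearMap.ker f₂ := by
    ext x
    rw [LinearMap.mem_ker, LinearMap.mem_ker]
    exact hker x
  exact ⟨(f₁.quotKerEquivOfSurjective h₁).symm.trans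
    ((Submodule.quotEquivOfEq _ _ hk).trans (f₂.quotKerEquivOfSurjective h₂))⟩

section Fam

variable {C : ℕ → Type u} [∀ n, AddCommGroup (C n)] [∀ n, Module k (C n)]
  (d : ∀ n, C n →ₗ[k] C (n + 1)) (U : ∀ n, Submodule k (C n))

/-- The cocycles of the subcomplex. -/
def Zs (n : ℕ) : Submodule k (C n) := U n ⊓ LinearMap.ker (d n)

/-- The coboundaries of the subcomplex. -/
def Bs : ∀ n, Submodule k (C n)
  | 0 => ⊥
  | n + 1 => (U n).map (d n)

/-- The cohomology of the subcomplex. -/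
abbrev Hs (n : ℕ) : Type u := ↥(Zs d U n) ⧸ (Bs d U n).comap (Zs d U n).subtype

/-- The class map. -/
abbrev toHs (n : ℕ) : ↥(Zs d U n) →ₗ[k] Hs d U n := ((Bs d U n).comap (Zs d U n).subtype).mkQ

theorem mem_Zs {n : ℕ} {x : C n} : x ∈ Zs d U n ↔ x ∈ U n ∧ d n x = 0 := by
  rw [Zs, Submodule.mem_inf, LinearMap.mem_ker]

theorem mem_Bs_zero {x : C 0} : x ∈ Bs d U 0 ↔ x = 0 := Submodule.mem_bot k

theorem mem_Bs_succ {n : ℕ} {x : C (n + 1)} : x ∈ Bs d U (n + 1) ↔ ∃ y ∈ U n, d n y = x :=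
  Submodule.mem_map

theorem toHs_eq_zero_iff {n : ℕ} (z : ↥(Zs d U n)) :
    toHs d U n z = 0 ↔ (z : C n) ∈ Bs d U n := by
  change Submodule.Quotient.mk z = 0 ↔ _
  rw [Submodule.Quotient.mk_eq_zero, Submodule.mem_comap]
  rfl

theorem toHs_surjective (n : ℕ) : Function.Surjective (toHs d U n) := Submodule.mkQ_surjective _

theorem Hs_eq_zero {n : ℕ} (h : Zs d U n ≤ Bs d U n) (x : Hs d U n) : x = 0 := by
  obtain ⟨z, rfl⟩ := toHs_surjective d U n x
  rw [toHs_eq_zero_iff]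
  exact h z.2

/-- The whole complex as a subcomplex. -/
abbrev topU (C : ℕ → Type u) [∀ n, AddCommGroup (C n)] [∀ n, Module k (C n)] :
    ∀ n, Submodule k (C n) := fun _ => ⊤

variable {d}

/-- The cohomology of a complex is the range of the projection of a splitting. -/
theorem Split.nonempty_equiv (s : Split d) (n : ℕ) :
    Nonempty (↥(LinearMap.range (s.π n)) ≃ₗ[k] Hs d (topU C) n) := by
  let f₁ : ↥(Zs d (topU C) n) →ₗ[k] ↥(LinearMap.range (s.π n)) :=
    (s.π n).rangeRestrict ∘ₗ (Zs d (topU C) n).subtype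
  refine nonempty_equiv_of_surjective f₁ (toHs d (topU C) n) ?_ (toHs_surjective _ _ n) ?_
  · rintro ⟨_, x, rfl⟩
    refine ⟨⟨s.π n x, (mem_Zs d _).mpr ⟨Submodule.mem_top, s.dπ n x⟩⟩, ?_⟩
    apply Subtype.ext
    change s.π n (s.π n x) = s.π n x
    exact s.ππ n x
  · intro z
    rw [toHs_eq_zero_iff]
    have hz := ((mem_Zs d _).mp z.2).2
    have e1 : f₁ z = 0 ↔ s.π n (z : C n) = 0 := by
      constructor
      · intro h
        exact congrArg Subtype.val h
      · intro h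
        exact Subtype.ext h
    rw [e1]
    cases n with
    | zero =>
      rw [mem_Bs_zero]
      constructor
      · intro h
        rw [s.eq_of_cocycle_zero hz, h]
      · intro h
        rw [h, map_zero]
    | succ n =>
      rw [mem_Bs_succ]
      constructor
      · intro h
        refine ⟨s.h n z, Submodule.mem_top, ?_⟩
        have h2 := s.eq_of_cocycle_succ n hz
        rw [h, zero_add] at h2
        exact h2.symm
      · rintro ⟨y, -, hy⟩
        rw [← hy, s.πd]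

end Fam

section Les

variable {C : ℕ → Type u} [∀ n, AddCommGroup (C n)] [∀ n, Module k (C n)]
  (d : ∀ n, C n →ₗ[k] C (n + 1))
variable {C' : ℕ → Type u} [∀ n, AddCommGroup (C' n)] [∀ n, Module k (C' n)]
  (d' : ∀ n, C' n →ₗ[k] C' (n + 1))
variable (p : ∀ n, C n →ₗ[k] C' n) (hp : ∀ n, Function.Surjective (p n))
  (hc : ∀ n x, p (n + 1) (d n x) = d' n (p n x)) (hd : ∀ n x, d (n + 1) (d n x) = 0)

/-- The kernel of a morphism of complexes. -/
abbrev kerU : ∀ n, Submodule k (C n) := fun n => LinearMap.ker (p n)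

include hp hc hd in
/-- The connecting isomorphism in positive degrees. -/
theorem nonempty_Hs_equiv_succ (n : ℕ) (hex1 : LinearMap.ker (d (n + 1)) = LinearMap.range (d n))
    (hex2 : LinearMap.ker (d (n + 2)) = LinearMap.range (d (n + 1))) :
    Nonempty (Hs d' (topU C') (n + 1) ≃ₗ[k] Hs d (kerU p) (n + 2)) := by
  let G : Submodule k (C (n + 1)) := (kerU p (n + 2)).comap (d (n + 1))
  have hG : ∀ x : G, p (n + 2) (d (n + 1) (x : C (n + 1))) = 0 := fun x => x.2
  let g₁ : ↥G →ₗ[k] ↥(Zs d' (topU C') (n + 1)) :=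
    LinearMap.codRestrict _ (p (n + 1) ∘ₗ G.subtype) (fun x => by
      refine (mem_Zs d' _).mpr ⟨Submodule.mem_top, ?_⟩
      change d' (n + 1) (p (n + 1) (x : C (n + 1))) = 0
      rw [← hc, hG])
  let g₂ : ↥G →ₗ[k] ↥(Zs d (kerU p) (n + 2)) :=
    LinearMap.codRestrict _ (d (n + 1) ∘ₗ G.subtype) (fun x => by
      refine (mem_Zs d _).mpr ⟨x.2, ?_⟩
      change d (n + 1 + 1) (d (n + 1) (x : C (n + 1))) = 0
      exact hd _ _)
  refine nonempty_equiv_of_surjective (toHs d' (topU C') (n + 1) ∘ₗ g₁)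
    (toHs d (kerU p) (n + 2) ∘ₗ g₂) ?_ ?_ ?_
  · intro y
    obtain ⟨z', rfl⟩ := toHs_surjective d' _ (n + 1) y
    obtain ⟨x, hx⟩ := hp (n + 1) (z' : C' (n + 1))
    have hz' := ((mem_Zs d' _).mp z'.2).2
    have hxG : x ∈ G := by
      change p (n + 2) (d (n + 1) x) = 0
      rw [hc, hx, hz']
    refine ⟨⟨x, hxG⟩, ?_⟩
    rw [LinearMap.comp_apply]
    congr 1
    exact Subtype.ext hx
  · intro y
    obtain ⟨z, rfl⟩ := toHs_surjective d _ (n + 2) y
    have hz := (mem_Zs d _).mp z.2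
    have h1 : (z : C (n + 2)) ∈ LinearMap.ker (d (n + 2)) := LinearMap.mem_ker.mpr hz.2
    rw [hex2] at h1
    obtain ⟨x, hx⟩ := h1
    have hxG : x ∈ G := by
      change d (n + 1) x ∈ kerU p (n + 2)
      rw [hx]
      exact hz.1
    refine ⟨⟨x, hxG⟩, ?_⟩
    rw [LinearMap.comp_apply]
    congr 1
    exact Subtype.ext hx
  · intro x
    rw [LinearMap.comp_apply, LinearMap.comp_apply, toHs_eq_zero_iff, toHs_eq_zero_iff,
      mem_Bs_succ, mem_Bs_succ]
    change (∃ y ∈ (⊤ : Submodule k (C' n)), d' n y = p (n + 1) (x : C (n + 1))) ↔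
      (∃ y ∈ kerU p (n + 1), d (n + 1) y = d (n + 1) (x : C (n + 1)))
    constructor
    · rintro ⟨y', -, hy'⟩
      obtain ⟨y, rfl⟩ := hp n y'
      refine ⟨(x : C (n + 1)) - d n y, ?_, ?_⟩
      · change p (n + 1) ((x : C (n + 1)) - d n y) = 0
        rw [map_sub, hc, hy', sub_self]
      · rw [map_sub, hd, sub_zero]
    · rintro ⟨u, hu, hux⟩
      have h1 : (x : C (n + 1)) - u ∈ LinearMap.ker (d (n + 1)) := by
        rw [LinearMap.mem_ker, map_sub, hux, sub_self]
      rw [hex1] at h1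
      obtain ⟨y, hy⟩ := h1
      refine ⟨p n y, Submodule.mem_top, ?_⟩
      have hu' : p (n + 1) u = 0 := hu
      rw [← hc, hy, map_sub, hu', sub_zero]

include hp hc hd in
/-- The comparison of the cohomology in degree `0`. -/
theorem nonempty_Hs_equiv_zero (hU0 : ∀ x, p 0 x = 0 → d 0 x = 0 → x = 0)
    (hU1 : ∀ x, p 1 x = 0 → d 1 x = 0 → ∃ u, p 0 u = 0 ∧ d 0 u = x) :
    Nonempty (Hs d (topU C) 0 ≃ₗ[k] Hs d' (topU C') 0) := by
  let g₂ : ↥(Zs d (topU C) 0) →ₗ[k] ↥(Zs d' (topU C') 0) :=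
    LinearMap.codRestrict _ (p 0 ∘ₗ (Zs d (topU C) 0).subtype) (fun x => by
      refine (mem_Zs d' _).mpr ⟨Submodule.mem_top, ?_⟩
      change d' 0 (p 0 (x : C 0)) = 0
      rw [← hc, ((mem_Zs d _).mp x.2).2, map_zero])
  refine nonempty_equiv_of_surjective (toHs d (topU C) 0) (toHs d' (topU C') 0 ∘ₗ g₂)
    (toHs_surjective _ _ 0) ?_ ?_
  · intro y
    obtain ⟨z', rfl⟩ := toHs_surjective d' _ 0 y
    obtain ⟨x, hx⟩ := hp 0 (z' : C' 0)
    have hz' := ((mem_Zs d' _).mp z'.2).2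
    obtain ⟨u, hu1, hu2⟩ := hU1 (d 0 x) (by rw [hc, hx, hz']) (hd 0 x)
    refine ⟨⟨x - u, (mem_Zs d _).mpr ⟨Submodule.mem_top, by rw [map_sub, hu2, sub_self]⟩⟩, ?_⟩
    rw [LinearMap.comp_apply]
    congr 1
    apply Subtype.ext
    change p 0 (x - u) = z'
    rw [map_sub, hu1, sub_zero, hx]
  · intro x
    rw [LinearMap.comp_apply, toHs_eq_zero_iff, toHs_eq_zero_iff, mem_Bs_zero, mem_Bs_zero]
    change (x : C 0) = 0 ↔ p 0 (x : C 0) = 0
    constructor
    · intro h
      rw [h, map_zero]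
    · intro h
      exact hU0 _ h ((mem_Zs d _).mp x.2).2

include hc in
/-- Vanishing of the cohomology of the kernel in degrees `0` and `1`. -/
theorem Zs_kerU_zero (hinj : ∀ x, d 0 x = 0 → p 0 x = 0 → x = 0) :
    Zs d (kerU p) 0 ≤ Bs d (kerU p) 0 := by
  intro x hx
  rw [mem_Bs_zero]
  have h := (mem_Zs d _).mp hx
  exact hinj x h.2 h.1

include hc in
theorem Zs_kerU_one (hsurj : ∀ y', d' 0 y' = 0 → ∃ y, d 0 y = 0 ∧ p 0 y = y')
    (hex : LinearMap.ker (d 1) = LinearMap.range (d 0)) :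
    Zs d (kerU p) 1 ≤ Bs d (kerU p) 1 := by
  intro x hx
  rw [mem_Bs_succ]
  have h := (mem_Zs d _).mp hx
  have h1 : x ∈ LinearMap.ker (d 1) := LinearMap.mem_ker.mpr h.2
  rw [hex] at h1
  obtain ⟨y, rfl⟩ := h1
  have h2 : d' 0 (p 0 y) = 0 := by
    rw [← hc]
    exact h.1
  obtain ⟨y₀, hy₀, hy₀'⟩ := hsurj _ h2
  refine ⟨y - y₀, ?_, by rw [map_sub, hy₀, sub_zero]⟩
  change p 0 (y - y₀) = 0
  rw [map_sub, hy₀', sub_self]

end Les

end Groth.Agent.Lib.T2H3.Kun
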