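import Groth.Agent.Lib.T2H3KunC
import Groth.Agent.Lib.T2H3KunD
import Mathlib.LinearAlgebra.TensorProduct.RightExactness
import Mathlib.RingTheory.Flat.Basic
import Mathlib.LinearAlgebra.Dimension.Constructions
import Mathlib.LinearAlgebra.Dimension.Free
import Mathlib.Algebra.Order.Antidiag.Prod

/-! Künneth formula for Segre products (helper3), part E: the tensor product of two complexes of
vector spaces, its homotopy data and the Künneth formula. -/

set_option autoImplicit false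
set_option linter.unusedSectionVars false

open scoped TensorProduct

noncomputable section

namespace Groth.Agent.Lib.T2H3.Kun

universe u

variable {k : Type u} [Field k]

theorem tensor_ext_apply {M N P : Type u} [AddCommGroup M] [Module k M] [AddCommGroup N]
    [Module k N] [AddCommGroup P] [Module k P] (f g : M ⊗[k] N →ₗ[k] P)
    (h : ∀ a b, f (a ⊗ₜ[k] b) = g (a ⊗ₜ[k] b)) (x : M ⊗[k] N) : f x = g x :=
  LinearMap.congr_fun (TensorProduct.ext' h) x

section Tensor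

variable {A : ℕ → Type u} [∀ n, AddCommGroup (A n)] [∀ n, Module k (A n)]
  (dA : ∀ n, A n →ₗ[k] A (n + 1))
variable {B : ℕ → Type u} [∀ n, AddCommGroup (B n)] [∀ n, Module k (B n)]
  (dB : ∀ n, B n →ₗ[k] B (n + 1))

/-- The terms of the tensor product double complex. -/
abbrev Tn (k : Type u) [Field k] (A B : ℕ → Type u) [∀ n, AddCommGroup (A n)]
    [∀ n, Module k (A n)] [∀ n, AddCommGroup (B n)] [∀ n, Module k (B n)] : ℕ × ℕ → Type u :=
  fun p => A p.1 ⊗[k] B p.2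

/-- A map on the first factors. -/
def tL {A' : ℕ → Type u} [∀ n, AddCommGroup (A' n)] [∀ n, Module k (A' n)] {i i' : ℕ}
    (f : A i →ₗ[k] A' i') (j : ℕ) : Tn k A B (i, j) →ₗ[k] Tn k A' B (i', j) :=
  (TensorProduct.map f (LinearMap.id : B j →ₗ[k] B j) : A i ⊗[k] B j →ₗ[k] A' i' ⊗[k] B j)

/-- A map on the second factors. -/
def tR {B' : ℕ → Type u} [∀ n, AddCommGroup (B' n)] [∀ n, Module k (B' n)] {j j' : ℕ} (i : ℕ)
    (g : B j →ₗ[k] B' j') : Tn k A B (i, j) →ₗ[k] Tn k A B' (i, j') :=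
  (TensorProduct.map (LinearMap.id : A i →ₗ[k] A i) g : A i ⊗[k] B j →ₗ[k] A i ⊗[k] B' j')

theorem tL_tmul {A' : ℕ → Type u} [∀ n, AddCommGroup (A' n)] [∀ n, Module k (A' n)] {i i' : ℕ}
    (f : A i →ₗ[k] A' i') (j : ℕ) (a : A i) (b : B j) :
    tL (B := B) f j (a ⊗ₜ[k] b) = (f a) ⊗ₜ[k] b := rfl

theorem tR_tmul {B' : ℕ → Type u} [∀ n, AddCommGroup (B' n)] [∀ n, Module k (B' n)] {j j' : ℕ}
    (i : ℕ) (g : B j →ₗ[k] B' j') (a : A i) (b : B j) :
    tR (A := A) i g (a ⊗ₜ[k] b) = a ⊗ₜ[k] (g b) := rfl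

/-- The horizontal differential. -/
abbrev t₁ (i j : ℕ) : Tn k A B (i, j) →ₗ[k] Tn k A B (i + 1, j) := tL (dA i) j

/-- The vertical differential. -/
abbrev t₂ (i j : ℕ) : Tn k A B (i, j) →ₗ[k] Tn k A B (i, j + 1) := tR i (dB j)

variable (hdA : ∀ n x, dA (n + 1) (dA n x) = 0) (hdB : ∀ n x, dB (n + 1) (dB n x) = 0)

include hdA in
theorem t11 (i j : ℕ) (x : Tn k A B (i, j)) : t₁ (B := B) dA (i + 1) j (t₁ dA i j x) = 0 :=
  tensor_ext_apply (t₁ (B := B) dA (i + 1) j ∘ₗ t₁ dA i j) 0 (fun a b => by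
    rw [LinearMap.comp_apply, tL_tmul, tL_tmul, hdA, TensorProduct.zero_tmul]
    rfl) x

include hdB in
theorem t22 (i j : ℕ) (x : Tn k A B (i, j)) : t₂ (A := A) dB i (j + 1) (t₂ dB i j x) = 0 :=
  tensor_ext_apply (t₂ (A := A) dB i (j + 1) ∘ₗ t₂ dB i j) 0 (fun a b => by
    rw [LinearMap.comp_apply, tR_tmul, tR_tmul, hdB, TensorProduct.tmul_zero]
    rfl) x

theorem t12 (i j : ℕ) (x : Tn k A B (i, j)) :
    t₂ dB (i + 1) j (t₁ dA i j x) = t₁ dA i (j + 1) (t₂ dB i j x) :=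
  tensor_ext_apply (t₂ dB (i + 1) j ∘ₗ t₁ dA i j) (t₁ dA i (j + 1) ∘ₗ t₂ dB i j) (fun a b => by
    rw [LinearMap.comp_apply, LinearMap.comp_apply, tL_tmul, tR_tmul, tR_tmul, tL_tmul]) x

/-- The total differential of the tensor product. -/
abbrev DT : Om (Tn k A B) →ₗ[k] Om (Tn k A B) := D (t₁ dA) (t₂ dB)

include hdA hdB in
theorem DT_DT (f : Om (Tn k A B)) : DT dA dB (DT dA dB f) = 0 :=
  D_D (t₁ dA) (t₂ dB) (t11 dA hdA) (t22 dB hdB) (t12 dA dB) f

variable {dA dB}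

/-- The homotopy data of the tensor product of two split complexes. -/
def htpy (sA : Split dA) (sB : Split dB) : Htpy (t₁ (B := B) dA) (t₂ (A := A) dB) where
  h₁ i j := tL (sA.h i) j
  π₁ p := tL (sA.π p.1) p.2
  h₂ i j := tR i (sB.h j)
  π₂ p := tR p.1 (sB.π p.2)
  id0₁ j x := tensor_ext_apply LinearMap.id
    (tL (sA.π 0) j + tL (sA.h 0) j ∘ₗ t₁ dA 0 j) (fun a b => by
      rw [LinearMap.add_apply, LinearMap.comp_apply, tL_tmul, tL_tmul, tL_tmul,
        ← TensorProduct.add_tmul, ← sA.id0]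
      rfl) x
  idS₁ i j x := tensor_ext_apply LinearMap.id
    (tL (sA.π (i + 1)) j + t₁ dA i j ∘ₗ tL (sA.h i) j + tL (sA.h (i + 1)) j ∘ₗ t₁ dA (i + 1) j)
    (fun a b => by
      rw [LinearMap.add_apply, LinearMap.add_apply, LinearMap.comp_apply, LinearMap.comp_apply,
        tL_tmul, tL_tmul, tL_tmul, tL_tmul, tL_tmul, ← TensorProduct.add_tmul,
        ← TensorProduct.add_tmul, ← sA.idS]
      rfl) x
  ch₁ i j x := tensor_ext_apply (tL (sA.h i) (j + 1) ∘ₗ t₂ dB (i + 1) j)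
    (t₂ dB i j ∘ₗ tL (sA.h i) j) (fun a b => by
      rw [LinearMap.comp_apply, LinearMap.comp_apply, tR_tmul, tL_tmul, tL_tmul, tR_tmul]) x
  id0₂ i x := tensor_ext_apply LinearMap.id
    (tR i (sB.π 0) + tR i (sB.h 0) ∘ₗ t₂ dB i 0) (fun a b => by
      rw [LinearMap.add_apply, LinearMap.comp_apply, tR_tmul, tR_tmul, tR_tmul,
        ← TensorProduct.tmul_add, ← sB.id0]
      rfl) x
  idS₂ i j x := tensor_ext_apply LinearMap.id
    (tR i (sB.π (j + 1)) + t₂ dB i j ∘ₗ tR i (sB.h j) + tR i (sB.h (j + 1)) ∘ₗ t₂ dB i (j + 1))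
    (fun a b => by
      rw [LinearMap.add_apply, LinearMap.add_apply, LinearMap.comp_apply, LinearMap.comp_apply,
        tR_tmul, tR_tmul, tR_tmul, tR_tmul, tR_tmul, ← TensorProduct.tmul_add,
        ← TensorProduct.tmul_add, ← sB.idS]
      rfl) x
  ch₂ i j x := tensor_ext_apply (tR (i + 1) (sB.h j) ∘ₗ t₁ dA i (j + 1))
    (t₁ dA i j ∘ₗ tR i (sB.h j)) (fun a b => by
      rw [LinearMap.comp_apply, LinearMap.comp_apply, tL_tmul, tR_tmul, tR_tmul, tL_tmul]) x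
  dπ₁ i j x := tensor_ext_apply (t₁ dA i j ∘ₗ tL (sA.π i) j) 0 (fun a b => by
      rw [LinearMap.comp_apply, tL_tmul, tL_tmul, sA.dπ, TensorProduct.zero_tmul]
      rfl) x
  πd₁ i j x := tensor_ext_apply (tL (sA.π (i + 1)) j ∘ₗ t₁ dA i j) 0 (fun a b => by
      rw [LinearMap.comp_apply, tL_tmul, tL_tmul, sA.πd, TensorProduct.zero_tmul]
      rfl) x
  cπ₁ i j x := tensor_ext_apply (tL (sA.π i) (j + 1) ∘ₗ t₂ dB i j)
    (t₂ dB i j ∘ₗ tL (sA.π i) j) (fun a b => by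
      rw [LinearMap.comp_apply, LinearMap.comp_apply, tR_tmul, tL_tmul, tL_tmul, tR_tmul]) x
  dπ₂ i j x := tensor_ext_apply (t₂ dB i j ∘ₗ tR i (sB.π j)) 0 (fun a b => by
      rw [LinearMap.comp_apply, tR_tmul, tR_tmul, sB.dπ, TensorProduct.tmul_zero]
      rfl) x
  πd₂ i j x := tensor_ext_apply (tR i (sB.π (j + 1)) ∘ₗ t₂ dB i j) 0 (fun a b => by
      rw [LinearMap.comp_apply, tR_tmul, tR_tmul, sB.πd, TensorProduct.tmul_zero]
      rfl) x
  cπ₂ i j x := tensor_ext_apply (tR (i + 1) (sB.π j) ∘ₗ t₁ dA i j)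
    (t₁ dA i j ∘ₗ tR i (sB.π j)) (fun a b => by
      rw [LinearMap.comp_apply, LinearMap.comp_apply, tL_tmul, tR_tmul, tR_tmul, tL_tmul]) x
  ππ₁ p x := tensor_ext_apply (tL (sA.π p.1) p.2 ∘ₗ tL (sA.π p.1) p.2) (tL (sA.π p.1) p.2)
    (fun a b => by
      rw [LinearMap.comp_apply, tL_tmul, tL_tmul, sA.ππ]) x
  ππ₂ p x := tensor_ext_apply (tR p.1 (sB.π p.2) ∘ₗ tR p.1 (sB.π p.2)) (tR p.1 (sB.π p.2))
    (fun a b => by
      rw [LinearMap.comp_apply, tR_tmul, tR_tmul, sB.ππ]) x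
  cππ p x := tensor_ext_apply (tL (sA.π p.1) p.2 ∘ₗ tR p.1 (sB.π p.2))
    (tR p.1 (sB.π p.2) ∘ₗ tL (sA.π p.1) p.2) (fun a b => by
      rw [LinearMap.comp_apply, LinearMap.comp_apply, tR_tmul, tL_tmul, tL_tmul, tR_tmul]) x

section Consequences

variable (sA : Split dA) (sB : Split dB)

theorem tL_zero {A' : ℕ → Type u} [∀ n, AddCommGroup (A' n)] [∀ n, Module k (A' n)] {i i' : ℕ}
    (j : ℕ) (x : Tn k A B (i, j)) : tL (A' := A') (i' := i') (0 : A i →ₗ[k] A' i') j x = 0 := by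
  unfold tL
  rw [TensorProduct.map_zero_left]
  rfl

theorem tR_zero {B' : ℕ → Type u} [∀ n, AddCommGroup (B' n)] [∀ n, Module k (B' n)] {j j' : ℕ}
    (i : ℕ) (x : Tn k A B (i, j)) : tR (B' := B') (j' := j') i (0 : B j →ₗ[k] B' j') x = 0 := by
  unfold tR
  rw [TensorProduct.map_zero_right]
  rfl

/-- For complexes exact in positive degrees the harmonic projection vanishes in positive total
degrees. -/
theorem P_eq_zero_of_exact (hexA : ∀ i, LinearMap.ker (dA (i + 1)) = LinearMap.range (dA i))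
    (hexB : ∀ j, LinearMap.ker (dB (j + 1)) = LinearMap.range (dB j)) {n : ℕ}
    {z : Om (Tn k A B)} (hz : z ∈ Xn k (Tn k A B) (n + 1)) : (htpy sA sB).P z = 0 := by
  funext p
  obtain ⟨i, j⟩ := p
  rw [Htpy.P_apply]
  by_cases hp : i + j = n + 1
  · rcases i with _ | i
    · obtain ⟨j', rfl⟩ : ∃ j', j = j' + 1 := ⟨n, by omega⟩
      have h0 : sB.π (j' + 1) = 0 := LinearMap.ext (sB.π_eq_zero j' (hexB j'))
      change tR 0 (sB.π (j' + 1)) _ = 0
      rw [h0, tR_zero]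
    · have h0 : sA.π (i + 1) = 0 := LinearMap.ext (sA.π_eq_zero i (hexA i))
      change tR (i + 1) (sB.π j) (tL (sA.π (i + 1)) j _) = 0
      rw [h0, tL_zero, map_zero]
  · rw [hz (i, j) hp, map_zero, map_zero]
    rfl

include hdA hdB in
/-- The total complex of the tensor product of two complexes exact in positive degrees is exact in
positive degrees. -/
theorem tot_exact (hexA : ∀ i, LinearMap.ker (dA (i + 1)) = LinearMap.range (dA i))
    (hexB : ∀ j, LinearMap.ker (dB (j + 1)) = LinearMap.range (dB j)) (n : ℕ) :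
    LinearMap.ker (Dn (t₁ (B := B) dA) (t₂ (A := A) dB) (n + 1)) =
      LinearMap.range (Dn (t₁ dA) (t₂ dB) n) := by
  obtain ⟨sA⟩ := exists_split dA hdA
  obtain ⟨sB⟩ := exists_split dB hdB
  apply le_antisymm
  · intro z hz
    have hD : D (t₁ dA) (t₂ dB) (z : Om (Tn k A B)) = 0 := by
      have := congrArg Subtype.val (LinearMap.mem_ker.mp hz)
      exact this
    obtain ⟨w, hw, hzw⟩ := (htpy sA sB).exists_eq_P_add z.2 hD
    rw [P_eq_zero_of_exact sA sB hexA hexB z.2, zero_add] at hzw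
    exact ⟨⟨w, hw⟩, Subtype.ext hzw.symm⟩
  · rintro _ ⟨w, rfl⟩
    exact LinearMap.mem_ker.mpr (Dn_Dn _ _ (t11 dA hdA) (t22 dB hdB) (t12 dA dB) n w)

include hdA hdB in
/-- Cocycles of degree `0` lie in the tensor product of the cocycles of degree `0`. -/
theorem mem_range_of_cocycle_zero {z : Om (Tn k A B)} (hz : z ∈ Xn k (Tn k A B) 0)
    (hD : D (t₁ dA) (t₂ dB) z = 0) :
    z (0, 0) ∈ LinearMap.range (TensorProduct.map (LinearMap.ker (dA 0)).subtype
      (LinearMap.ker (dB 0)).subtype) := by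
  obtain ⟨sA⟩ := exists_split dA hdA
  obtain ⟨sB⟩ := exists_split dB hdB
  have h1 := (htpy sA sB).eq_P_of_cocycle_zero hz hD
  have h2 : z (0, 0) = TensorProduct.map (sA.π 0) (sB.π 0) (z (0, 0)) := by
    have h3 := congrFun h1 (0, 0)
    rw [Htpy.P_apply] at h3
    have h4 : TensorProduct.map (sA.π 0) (sB.π 0) =
        (tR 0 (sB.π 0) : Tn k A B (0, 0) →ₗ[k] Tn k A B (0, 0)) ∘ₗ tL (sA.π 0) 0 := by
      apply TensorProduct.ext'
      intro a b
      rfl
    rw [h4]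
    exact h3
  let πA : A 0 →ₗ[k] ↥(LinearMap.ker (dA 0)) :=
    LinearMap.codRestrict _ (sA.π 0) (fun x => LinearMap.mem_ker.mpr (sA.dπ 0 x))
  let πB : B 0 →ₗ[k] ↥(LinearMap.ker (dB 0)) :=
    LinearMap.codRestrict _ (sB.π 0) (fun x => LinearMap.mem_ker.mpr (sB.dπ 0 x))
  have h5 : TensorProduct.map (sA.π 0) (sB.π 0) =
      TensorProduct.map (LinearMap.ker (dA 0)).subtype (LinearMap.ker (dB 0)).subtype ∘ₗ
        TensorProduct.map πA πB := by
    rw [← TensorProduct.map_comp]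
    rfl
  rw [h2, h5]
  exact ⟨_, rfl⟩

/-- Conversely. -/
theorem cocycle_zero_of_mem_range {z : Om (Tn k A B)} (hz : z ∈ Xn k (Tn k A B) 0)
    (h : z (0, 0) ∈ LinearMap.range (TensorProduct.map (LinearMap.ker (dA 0)).subtype
      (LinearMap.ker (dB 0)).subtype)) : D (t₁ dA) (t₂ dB) z = 0 := by
  obtain ⟨t, ht⟩ := h
  have e1 : t₁ dA 0 0 (z (0, 0)) = 0 := by
    rw [← ht]
    refine tensor_ext_apply ((t₁ dA 0 0 : Tn k A B (0, 0) →ₗ[k] Tn k A B (1, 0)) ∘ₗ
      TensorProduct.map (LinearMap.ker (dA 0)).subtype (LinearMap.ker (dB 0)).subtype) 0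
      (fun a b => ?_) t
    rw [LinearMap.comp_apply, TensorProduct.map_tmul]
    change (dA 0 (a : A 0)) ⊗ₜ[k] (b : B 0) = 0
    rw [LinearMap.mem_ker.mp a.2, TensorProduct.zero_tmul]
  have e2 : t₂ dB 0 0 (z (0, 0)) = 0 := by
    rw [← ht]
    refine tensor_ext_apply ((t₂ dB 0 0 : Tn k A B (0, 0) →ₗ[k] Tn k A B (0, 1)) ∘ₗ
      TensorProduct.map (LinearMap.ker (dA 0)).subtype (LinearMap.ker (dB 0)).subtype) 0
      (fun a b => ?_) t
    rw [LinearMap.comp_apply, TensorProduct.map_tmul]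
    change (a : A 0) ⊗ₜ[k] (dB 0 (b : B 0)) = 0
    rw [LinearMap.mem_ker.mp b.2, TensorProduct.tmul_zero]
  funext p
  obtain ⟨i, j⟩ := p
  rcases i with _ | i <;> rcases j with _ | j
  · exact D_zero_zero _ _ z
  · rw [D_zero_succ]
    rcases j with _ | j
    · rw [e2, sgn_zero]; rfl
    · rw [hz (0, j + 1) (by simp), map_zero, sgn_zero]; rfl
  · rw [D_succ_zero]
    rcases i with _ | i
    · rw [e1]; rfl
    · rw [hz (i + 1, 0) (by simp), map_zero]; rfl
  · rw [D_succ_succ, hz (i, j + 1) (by simp), hz (i + 1, j) (by simp), map_zero, map_zero,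
      sgn_zero, add_zero]
    rfl

end Consequences

end Tensor

end Groth.Agent.Lib.T2H3.Kun
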