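import Groth.Agent.Lib.T2H3KunE

/-! Künneth formula for Segre products (helper3), part F: the Künneth isomorphism for the tensor
product of two complexes of vector spaces. -/

set_option autoImplicit false
set_option linter.unusedSectionVars false

open scoped TensorProduct

noncomputable section

namespace Groth.Agent.Lib.T2H3.Kun

universe u

variable {k : Type u} [Field k]

section Kunneth

variable {A : ℕ → Type u} [∀ n, AddCommGroup (A n)] [∀ n, Module k (A n)]
  {dA : ∀ n, A n →ₗ[k] A (n + 1)}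
variable {B : ℕ → Type u} [∀ n, AddCommGroup (B n)] [∀ n, Module k (B n)]
  {dB : ∀ n, B n →ₗ[k] B (n + 1)}

theorem rangeRestrict_subtype {V : Type u} [AddCommGroup V] [Module k V] (π : V →ₗ[k] V)
    (hπ : ∀ x, π (π x) = π x) (y : ↥(LinearMap.range π)) :
    π.rangeRestrict ((LinearMap.range π).subtype y) = y := by
  obtain ⟨_, x, rfl⟩ := y
  exact Subtype.ext (hπ x)

theorem map_range_comp {V V' : Type u} [AddCommGroup V] [Module k V] [AddCommGroup V']
    [Module k V'] (π : V →ₗ[k] V) (π' : V' →ₗ[k] V') (x : V ⊗[k] V') :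
    TensorProduct.map (LinearMap.range π).subtype (LinearMap.range π').subtype
      (TensorProduct.map π.rangeRestrict π'.rangeRestrict x) = TensorProduct.map π π' x := by
  rw [← LinearMap.comp_apply, ← TensorProduct.map_comp]
  rfl

theorem map_restrict_comp {V V' : Type u} [AddCommGroup V] [Module k V] [AddCommGroup V']
    [Module k V'] (π : V →ₗ[k] V) (π' : V' →ₗ[k] V') (hπ : ∀ x, π (π x) = π x)
    (hπ' : ∀ x, π' (π' x) = π' x) (t : ↥(LinearMap.range π) ⊗[k] ↥(LinearMap.range π')) :
    TensorProduct.map π.rangeRestrict π'.rangeRestrict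
      (TensorProduct.map (LinearMap.range π).subtype (LinearMap.range π').subtype t) = t := by
  rw [← LinearMap.comp_apply, ← TensorProduct.map_comp]
  have h1 : π.rangeRestrict ∘ₗ (LinearMap.range π).subtype = LinearMap.id :=
    LinearMap.ext (rangeRestrict_subtype π hπ)
  have h2 : π'.rangeRestrict ∘ₗ (LinearMap.range π').subtype = LinearMap.id :=
    LinearMap.ext (rangeRestrict_subtype π' hπ')
  rw [h1, h2, TensorProduct.map_id]
  rfl

theorem htpy_P_apply (sA : Split dA) (sB : Split dB) (f : Om (Tn k A B)) (p : ℕ × ℕ) :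
    (htpy sA sB).P f p = TensorProduct.map (sA.π p.1) (sB.π p.2) (f p) := by
  rw [Htpy.P_apply]
  have h4 : TensorProduct.map (sA.π p.1) (sB.π p.2) =
      (tR p.1 (sB.π p.2) : Tn k A B (p.1, p.2) →ₗ[k] Tn k A B (p.1, p.2)) ∘ₗ
        tL (sA.π p.1) p.2 := by
    apply TensorProduct.ext'
    intro a b
    rfl
  rw [h4]
  rfl

/-- The Künneth isomorphism in terms of a splitting. -/
theorem kunneth_split (sA : Split dA) (sB : Split dB) (n : ℕ) :
    Nonempty (Hs (Dn (t₁ (B := B) dA) (t₂ (A := A) dB)) (topU (XC k (Tn k A B))) n ≃ₗ[k]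
      ∀ p : ↥(Finset.antidiagonal n),
        ↥(LinearMap.range (sA.π p.1.1)) ⊗[k] ↥(LinearMap.range (sB.π p.1.2))) := by
  classical
  let H := htpy sA sB
  let Z := Zs (Dn (t₁ (B := B) dA) (t₂ (A := A) dB)) (topU (XC k (Tn k A B))) n
  let g : ↥Z →ₗ[k] ∀ p : ↥(Finset.antidiagonal n),
      ↥(LinearMap.range (sA.π p.1.1)) ⊗[k] ↥(LinearMap.range (sB.π p.1.2)) :=
    LinearMap.pi fun p =>
      TensorProduct.map (sA.π p.1.1).rangeRestrict (sB.π p.1.2).rangeRestrict ∘ₗ
        (LinearMap.proj p.1 : Om (Tn k A B) →ₗ[k] Tn k A B p.1) ∘ₗ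
        (Xn k (Tn k A B) n).subtype ∘ₗ Z.subtype
  have hg : ∀ (z : ↥Z) (p : ↥(Finset.antidiagonal n)), g z p =
      TensorProduct.map (sA.π p.1.1).rangeRestrict (sB.π p.1.2).rangeRestrict
        (((z : XC k (Tn k A B) n) : Om (Tn k A B)) p.1) := fun z p => rfl
  have hZD : ∀ z : ↥Z, D (t₁ dA) (t₂ dB) ((z : XC k (Tn k A B) n) : Om (Tn k A B)) = 0 := by
    intro z
    have h1 := ((mem_Zs _ _).mp z.2).2
    exact congrArg Subtype.val h1
  -- the harmonic projection of a cocycle in terms of `g`
  have hP : ∀ (z : ↥Z) (q : ℕ × ℕ), H.P ((z : XC k (Tn k A B) n) : Om (Tn k A B)) q =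
      if h : q ∈ Finset.antidiagonal n then
        TensorProduct.map (LinearMap.range (sA.π q.1)).subtype
          (LinearMap.range (sB.π q.2)).subtype (g z ⟨q, h⟩)
      else 0 := by
    intro z q
    rw [htpy_P_apply]
    split_ifs with h
    · rw [hg, map_range_comp]
    · have h1 : q.1 + q.2 ≠ n := fun h2 => h (Finset.mem_antidiagonal.mpr h2)
      rw [(z : XC k (Tn k A B) n).2 q h1, map_zero]
  have hsurj1 := toHs_surjective (Dn (t₁ (B := B) dA) (t₂ (A := A) dB)) (topU (XC k (Tn k A B))) n
  refine nonempty_equiv_of_surjective (k := k) (G := ↥Z)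
    (H₁ := Hs (Dn (t₁ (B := B) dA) (t₂ (A := A) dB)) (topU (XC k (Tn k A B))) n)
    (toHs (Dn (t₁ (B := B) dA) (t₂ (A := A) dB)) (topU (XC k (Tn k A B))) n) g
    hsurj1 ?_ ?_
  · intro t
    let f : Om (Tn k A B) := fun q =>
      if h : q ∈ Finset.antidiagonal n then
        TensorProduct.map (LinearMap.range (sA.π q.1)).subtype
          (LinearMap.range (sB.π q.2)).subtype (t ⟨q, h⟩)
      else 0
    have hfX : f ∈ Xn k (Tn k A B) n := by
      intro q hq
      have h1 : q ∉ Finset.antidiagonal n := fun h => hq (Finset.mem_antidiagonal.mp h)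
      exact dif_neg h1
    have hPf : H.P f = f := by
      funext q
      rw [htpy_P_apply]
      by_cases h : q ∈ Finset.antidiagonal n
      · have e1 : f q = TensorProduct.map (LinearMap.range (sA.π q.1)).subtype
            (LinearMap.range (sB.π q.2)).subtype (t ⟨q, h⟩) := dif_pos h
        rw [e1, ← map_range_comp, map_restrict_comp _ _ (sA.ππ _) (sB.ππ _)]
      · have e1 : f q = 0 := dif_neg h
        rw [e1, map_zero]
    have hDf : D (t₁ dA) (t₂ dB) f = 0 := by
      rw [← hPf]
      exact H.D_P f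
    let z : ↥Z := ⟨⟨f, hfX⟩, (mem_Zs _ _).mpr ⟨Submodule.mem_top, Subtype.ext hDf⟩⟩
    refine ⟨z, ?_⟩
    funext p
    rw [hg]
    change TensorProduct.map (sA.π p.1.1).rangeRestrict (sB.π p.1.2).rangeRestrict (f p.1) = t p
    have e1 : f p.1 = TensorProduct.map (LinearMap.range (sA.π p.1.1)).subtype
        (LinearMap.range (sB.π p.1.2)).subtype (t ⟨p.1, p.2⟩) := dif_pos p.2
    rw [e1, map_restrict_comp _ _ (sA.ππ _) (sB.ππ _)]
  · intro z
    rw [toHs_eq_zero_iff]
    constructor
    · intro hz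
      -- boundaries have vanishing harmonic projection
      have hPz : H.P ((z : XC k (Tn k A B) n) : Om (Tn k A B)) = 0 := by
        cases n with
        | zero =>
          rw [mem_Bs_zero] at hz
          rw [hz]
          exact map_zero _
        | succ n =>
          rw [mem_Bs_succ] at hz
          obtain ⟨y, -, hy⟩ := hz
          rw [← hy, coe_Dn]
          exact H.P_D _
      funext p
      have h1 := congrFun hPz p.1
      rw [hP z p.1, dif_pos p.2] at h1
      have hinj := TensorProduct.map_injective_of_flat_flat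
        (LinearMap.range (sA.π p.1.1)).subtype (LinearMap.range (sB.π p.1.2)).subtype
        (Submodule.injective_subtype _) (Submodule.injective_subtype _)
      apply hinj
      rw [Pi.zero_apply, map_zero]
      exact h1
    · intro hz
      have hPz : H.P ((z : XC k (Tn k A B) n) : Om (Tn k A B)) = 0 := by
        funext q
        rw [hP z q]
        split_ifs with h
        · rw [hz]
          exact map_zero _
        · rfl
      cases n with
      | zero =>
        rw [mem_Bs_zero]
        apply Subtype.ext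
        have h1 := H.eq_P_of_cocycle_zero (z : XC k (Tn k A B) 0).2 (hZD z)
        rw [hPz] at h1
        exact h1
      | succ n =>
        rw [mem_Bs_succ]
        obtain ⟨w, hw, hzw⟩ := H.exists_eq_P_add (z : XC k (Tn k A B) (n + 1)).2 (hZD z)
        rw [hPz, zero_add] at hzw
        exact ⟨⟨w, hw⟩, Submodule.mem_top, Subtype.ext hzw.symm⟩

variable (dA dB)

/-- The Künneth isomorphism. -/
theorem kunneth (hdA : ∀ n x, dA (n + 1) (dA n x) = 0) (hdB : ∀ n x, dB (n + 1) (dB n x) = 0)
    (n : ℕ) :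
    Nonempty (Hs (Dn (t₁ (B := B) dA) (t₂ (A := A) dB)) (topU (XC k (Tn k A B))) n ≃ₗ[k]
      ∀ p : ↥(Finset.antidiagonal n), Hs dA (topU A) p.1.1 ⊗[k] Hs dB (topU B) p.1.2) := by
  obtain ⟨sA⟩ := exists_split dA hdA
  obtain ⟨sB⟩ := exists_split dB hdB
  obtain ⟨e⟩ := kunneth_split sA sB n
  exact ⟨e.trans (LinearEquiv.piCongrRight fun p =>
    TensorProduct.congr (sA.nonempty_equiv p.1.1).some (sB.nonempty_equiv p.1.2).some)⟩

end Kunneth

end Groth.Agent.Lib.T2H3.Kun
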