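import Groth.Agent.Lib.T2H3KunF

/-! Künneth formula for Segre products (helper3), part G: the cohomology of the subcomplex
`ΓA ⊗ B + A ⊗ ΓB` of the tensor product of two acyclic complexes with subcomplexes. -/

set_option autoImplicit false
set_option linter.unusedSectionVars false

open scoped TensorProduct

noncomputable section

namespace Groth.Agent.Lib.T2H3.Kun

universe u

variable {k : Type u} [Field k]

section Quot

variable {A : ℕ → Type u} [∀ n, AddCommGroup (A n)] [∀ n, Module k (A n)]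
  (dA : ∀ n, A n →ₗ[k] A (n + 1)) (ΓA : ∀ n, Submodule k (A n))
  (hΓA : ∀ i x, x ∈ ΓA i → dA i x ∈ ΓA (i + 1))

/-- The terms of the quotient complex. -/
abbrev QA (n : ℕ) : Type u := A n ⧸ ΓA n

/-- The differentials of the quotient complex. -/
def dQ (n : ℕ) : QA ΓA n →ₗ[k] QA ΓA (n + 1) :=
  (ΓA n).mapQ (ΓA (n + 1)) (dA n) (fun x hx => hΓA n x hx)

/-- The quotient maps. -/
abbrev qA (n : ℕ) : A n →ₗ[k] QA ΓA n := (ΓA n).mkQ

theorem dQ_qA (n : ℕ) (x : A n) : dQ dA ΓA hΓA n (qA ΓA n x) = qA ΓA (n + 1) (dA n x) := rfl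

theorem qA_surjective (n : ℕ) : Function.Surjective (qA ΓA n) := Submodule.mkQ_surjective _

theorem qA_eq_zero_iff {n : ℕ} {x : A n} : qA ΓA n x = 0 ↔ x ∈ ΓA n :=
  Submodule.Quotient.mk_eq_zero _

variable (hdA : ∀ n x, dA (n + 1) (dA n x) = 0)

include hdA in
theorem dQ_dQ (n : ℕ) (x : QA ΓA n) : dQ dA ΓA hΓA (n + 1) (dQ dA ΓA hΓA n x) = 0 := by
  obtain ⟨a, rfl⟩ := qA_surjective ΓA n x
  rw [dQ_qA, dQ_qA, hdA, map_zero]

theorem kerU_qA : kerU (qA ΓA) = ΓA := funext fun _ => Submodule.ker_mkQ _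

include hdA in
/-- The cohomology of the quotient in positive degrees. -/
theorem nonempty_Hs_quot_succ (hex : ∀ i, LinearMap.ker (dA (i + 1)) = LinearMap.range (dA i))
    (i : ℕ) : Nonempty (Hs (dQ dA ΓA hΓA) (topU (QA ΓA)) (i + 1) ≃ₗ[k] Hs dA ΓA (i + 2)) := by
  have h := nonempty_Hs_equiv_succ dA (dQ dA ΓA hΓA) (qA ΓA) (qA_surjective ΓA)
    (fun n x => (dQ_qA dA ΓA hΓA n x).symm) hdA i (hex i) (hex (i + 1))
  rw [kerU_qA] at h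
  exact h

include hdA in
/-- Lifting cocycles of degree `0` of the quotient. -/
theorem exists_cocycle_lift (h1 : Zs dA ΓA 1 ≤ Bs dA ΓA 1) (y : QA ΓA 0)
    (hy : dQ dA ΓA hΓA 0 y = 0) : ∃ x : A 0, dA 0 x = 0 ∧ qA ΓA 0 x = y := by
  obtain ⟨x, rfl⟩ := qA_surjective ΓA 0 y
  rw [dQ_qA, qA_eq_zero_iff] at hy
  have h2 : dA 0 x ∈ Zs dA ΓA 1 := (mem_Zs dA ΓA).mpr ⟨hy, hdA 0 x⟩
  obtain ⟨u, hu, hux⟩ := (mem_Bs_succ dA ΓA).mp (h1 h2)
  refine ⟨x - u, by rw [map_sub, hux, sub_self], ?_⟩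
  rw [map_sub, (qA_eq_zero_iff ΓA).mpr hu, sub_zero]

theorem eq_zero_of_cocycle (h0 : Zs dA ΓA 0 ≤ Bs dA ΓA 0) (x : A 0) (hx : dA 0 x = 0)
    (hq : qA ΓA 0 x = 0) : x = 0 := by
  rw [qA_eq_zero_iff] at hq
  exact (mem_Bs_zero dA ΓA).mp (h0 ((mem_Zs dA ΓA).mpr ⟨hq, hx⟩))

include hdA in
/-- The cohomology of the quotient in degree `0`. -/
theorem nonempty_Hs_quot_zero (h0 : Zs dA ΓA 0 ≤ Bs dA ΓA 0) (h1 : Zs dA ΓA 1 ≤ Bs dA ΓA 1) :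
    Nonempty (Hs dA (topU A) 0 ≃ₗ[k] Hs (dQ dA ΓA hΓA) (topU (QA ΓA)) 0) := by
  refine nonempty_Hs_equiv_zero dA (dQ dA ΓA hΓA) (qA ΓA) (qA_surjective ΓA)
    (fun n x => (dQ_qA dA ΓA hΓA n x).symm) hdA ?_ ?_
  · intro x hq hx
    exact eq_zero_of_cocycle dA ΓA h0 x hx hq
  · intro x hq hx
    rw [qA_eq_zero_iff] at hq
    obtain ⟨u, hu, hux⟩ := (mem_Bs_succ dA ΓA).mp (h1 ((mem_Zs dA ΓA).mpr ⟨hq, hx⟩))
    exact ⟨u, (qA_eq_zero_iff ΓA).mpr hu, hux⟩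

end Quot

end Groth.Agent.Lib.T2H3.Kun
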