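import Groth.Agent.Lib.T2H3KunG

/-! Künneth formula for Segre products (helper3), part H: the cohomology of the kernel of
`Tot(A ⊗ B) → Tot(A/ΓA ⊗ B/ΓB)` for complexes `A`, `B` exact in positive degrees. -/

set_option autoImplicit false
set_option linter.unusedSectionVars false

open scoped TensorProduct

noncomputable section

namespace Groth.Agent.Lib.T2H3.Kun

universe u

variable {k : Type u} [Field k]

section AT

variable {A : ℕ → Type u} [∀ n, AddCommGroup (A n)] [∀ n, Module k (A n)]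
  (dA : ∀ n, A n →ₗ[k] A (n + 1)) (ΓA : ∀ n, Submodule k (A n))
  (hΓA : ∀ i x, x ∈ ΓA i → dA i x ∈ ΓA (i + 1))
variable {B : ℕ → Type u} [∀ n, AddCommGroup (B n)] [∀ n, Module k (B n)]
  (dB : ∀ n, B n →ₗ[k] B (n + 1)) (ΓB : ∀ n, Submodule k (B n))
  (hΓB : ∀ i x, x ∈ ΓB i → dB i x ∈ ΓB (i + 1))

/-- The componentwise quotient map of the tensor product double complex. -/
def pT (p : ℕ × ℕ) : Tn k A B p →ₗ[k] Tn k (QA ΓA) (QA ΓB) p :=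
  TensorProduct.map (qA ΓA p.1) (qA ΓB p.2)

theorem pT_tmul (i j : ℕ) (a : A i) (b : B j) :
    pT ΓA ΓB (i, j) (a ⊗ₜ[k] b) = (qA ΓA i a) ⊗ₜ[k] (qA ΓB j b) := rfl

theorem pT_surjective (p : ℕ × ℕ) : Function.Surjective (pT ΓA ΓB p) :=
  TensorProduct.map_surjective (qA_surjective ΓA p.1) (qA_surjective ΓB p.2)

/-- The quotient map of total complexes. -/
def pn (n : ℕ) : XC k (Tn k A B) n →ₗ[k] XC k (Tn k (QA ΓA) (QA ΓB)) n :=
  (dg (pT ΓA ΓB)).restrict (fun _ hf => dg_mem_Xn _ hf)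

theorem coe_pn (n : ℕ) (x : XC k (Tn k A B) n) (q : ℕ × ℕ) :
    ((pn ΓA ΓB n x : XC k (Tn k (QA ΓA) (QA ΓB)) n) : Om (Tn k (QA ΓA) (QA ΓB))) q =
      pT ΓA ΓB q ((x : Om (Tn k A B)) q) := rfl

theorem pn_surjective (n : ℕ) : Function.Surjective (pn ΓA ΓB n) := by
  classical
  intro y
  choose s hs using fun q => pT_surjective ΓA ΓB q ((y : Om (Tn k (QA ΓA) (QA ΓB))) q)
  let f : Om (Tn k A B) := fun q => if q.1 + q.2 = n then s q else 0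
  have hf : f ∈ Xn k (Tn k A B) n := fun q hq => if_neg hq
  refine ⟨⟨f, hf⟩, Subtype.ext (funext fun q => ?_)⟩
  rw [coe_pn]
  change pT ΓA ΓB q (f q) = _
  by_cases hq : q.1 + q.2 = n
  · have e1 : f q = s q := if_pos hq
    rw [e1, hs]
  · have e1 : f q = 0 := if_neg hq
    rw [e1, map_zero, y.2 q hq]

theorem pn_comm (n : ℕ) (x : XC k (Tn k A B) n) :
    pn ΓA ΓB (n + 1) (Dn (t₁ dA) (t₂ dB) n x) =
      Dn (t₁ (dQ dA ΓA hΓA)) (t₂ (dQ dB ΓB hΓB)) n (pn ΓA ΓB n x) := by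
  apply Subtype.ext
  funext q
  rw [coe_pn, coe_Dn, coe_Dn]
  exact map_D (t₁ dA) (t₂ dB) (t₁ (dQ dA ΓA hΓA)) (t₂ (dQ dB ΓB hΓB))
    (fun q => (pT ΓA ΓB q).toAddMonoidHom)
    (fun i j w => tensor_ext_apply (pT ΓA ΓB (i + 1, j) ∘ₗ t₁ dA i j)
      (t₁ (dQ dA ΓA hΓA) i j ∘ₗ pT ΓA ΓB (i, j)) (fun a b => rfl) w)
    (fun i j w => tensor_ext_apply (pT ΓA ΓB (i, j + 1) ∘ₗ t₂ dB i j)
      (t₂ (dQ dB ΓB hΓB) i j ∘ₗ pT ΓA ΓB (i, j)) (fun a b => rfl) w)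
    (x : Om (Tn k A B)) q

variable (hdA : ∀ n x, dA (n + 1) (dA n x) = 0) (hdB : ∀ n x, dB (n + 1) (dB n x) = 0)
  (hexA : ∀ i, LinearMap.ker (dA (i + 1)) = LinearMap.range (dA i))
  (hexB : ∀ j, LinearMap.ker (dB (j + 1)) = LinearMap.range (dB j))

include hdA hdB hexA hexB in
/-- The cohomology of the kernel in degrees at least two. -/
theorem nonempty_Hs_ker_equiv (n : ℕ) :
    Nonempty (Hs (Dn (t₁ (B := B) dA) (t₂ (A := A) dB)) (kerU (pn ΓA ΓB)) (n + 2) ≃ₗ[k]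
      ∀ p : ↥(Finset.antidiagonal (n + 1)),
        Hs (dQ dA ΓA hΓA) (topU (QA ΓA)) p.1.1 ⊗[k] Hs (dQ dB ΓB hΓB) (topU (QA ΓB)) p.1.2) := by
  obtain ⟨e1⟩ := nonempty_Hs_equiv_succ (Dn (t₁ (B := B) dA) (t₂ (A := A) dB))
    (Dn (t₁ (dQ dA ΓA hΓA)) (t₂ (dQ dB ΓB hΓB))) (pn ΓA ΓB) (pn_surjective ΓA ΓB)
    (pn_comm dA ΓA hΓA dB ΓB hΓB) (Dn_Dn _ _ (t11 dA hdA) (t22 dB hdB) (t12 dA dB)) n
    (tot_exact hdA hdB hexA hexB n) (tot_exact hdA hdB hexA hexB (n + 1))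
  obtain ⟨e2⟩ := kunneth (dQ dA ΓA hΓA) (dQ dB ΓB hΓB) (dQ_dQ dA ΓA hΓA hdA)
    (dQ_dQ dB ΓB hΓB hdB) (n + 1)
  exact ⟨e1.symm.trans e2⟩

variable (h0A : Zs dA ΓA 0 ≤ Bs dA ΓA 0) (h1A : Zs dA ΓA 1 ≤ Bs dA ΓA 1)
  (h0B : Zs dB ΓB 0 ≤ Bs dB ΓB 0) (h1B : Zs dB ΓB 1 ≤ Bs dB ΓB 1)

theorem eq_zero_of_Xn_zero {W : ℕ × ℕ → Type u} [∀ p, AddCommGroup (W p)] [∀ p, Module k (W p)]
    (x : XC k W 0) (h : (x : Om W) (0, 0) = 0) : x = 0 := by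
  apply Subtype.ext
  funext q
  by_cases hq : q = (0, 0)
  · subst hq
    exact h
  · have h1 : q.1 + q.2 ≠ 0 := by
      intro h2
      apply hq
      apply Prod.ext
      · simp only
        omega
      · simp only
        omega
    exact x.2 q h1

include hΓA hΓB hdA hdB h0A h0B in
theorem Zs_ker_zero : Zs (Dn (t₁ (B := B) dA) (t₂ (A := A) dB)) (kerU (pn ΓA ΓB)) 0 ≤
    Bs (Dn (t₁ (B := B) dA) (t₂ (A := A) dB)) (kerU (pn ΓA ΓB)) 0 := by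
  refine Zs_kerU_zero (Dn (t₁ (B := B) dA) (t₂ (A := A) dB))
    (Dn (t₁ (dQ dA ΓA hΓA)) (t₂ (dQ dB ΓB hΓB))) (pn ΓA ΓB) (pn_comm dA ΓA hΓA dB ΓB hΓB) ?_
  intro x hx hp
  have hD : D (t₁ dA) (t₂ dB) (x : Om (Tn k A B)) = 0 := congrArg Subtype.val hx
  obtain ⟨t, ht⟩ := mem_range_of_cocycle_zero hdA hdB x.2 hD
  have hp0 : pT ΓA ΓB (0, 0) ((x : Om (Tn k A B)) (0, 0)) = 0 :=
    congrFun (congrArg Subtype.val hp) (0, 0)
  let jA : ↥(LinearMap.ker (dA 0)) →ₗ[k] QA ΓA 0 := qA ΓA 0 ∘ₗ (LinearMap.ker (dA 0)).subtype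
  let jB : ↥(LinearMap.ker (dB 0)) →ₗ[k] QA ΓB 0 := qA ΓB 0 ∘ₗ (LinearMap.ker (dB 0)).subtype
  have hjA : Function.Injective jA := (injective_iff_map_eq_zero jA).mpr fun a ha =>
    Subtype.ext (eq_zero_of_cocycle dA ΓA h0A a (LinearMap.mem_ker.mp a.2) ha)
  have hjB : Function.Injective jB := (injective_iff_map_eq_zero jB).mpr fun a ha =>
    Subtype.ext (eq_zero_of_cocycle dB ΓB h0B a (LinearMap.mem_ker.mp a.2) ha)
  have h3 : TensorProduct.map jA jB t = 0 := by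
    rw [← hp0, ← ht, TensorProduct.map_comp]
    rfl
  have h4 : t = 0 := by
    apply TensorProduct.map_injective_of_flat_flat jA jB hjA hjB
    rw [h3, map_zero]
  apply eq_zero_of_Xn_zero
  rw [← ht, h4, map_zero]

include hΓA hΓB hdA hdB h1A h1B in
theorem Zs_ker_one (hexA : ∀ i, LinearMap.ker (dA (i + 1)) = LinearMap.range (dA i))
    (hexB : ∀ j, LinearMap.ker (dB (j + 1)) = LinearMap.range (dB j)) :
    Zs (Dn (t₁ (B := B) dA) (t₂ (A := A) dB)) (kerU (pn ΓA ΓB)) 1 ≤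
      Bs (Dn (t₁ (B := B) dA) (t₂ (A := A) dB)) (kerU (pn ΓA ΓB)) 1 := by
  classical
  refine Zs_kerU_one (Dn (t₁ (B := B) dA) (t₂ (A := A) dB))
    (Dn (t₁ (dQ dA ΓA hΓA)) (t₂ (dQ dB ΓB hΓB))) (pn ΓA ΓB) (pn_comm dA ΓA hΓA dB ΓB hΓB) ?_
    (tot_exact hdA hdB hexA hexB 0)
  intro y' hy'
  have hD : D (t₁ (dQ dA ΓA hΓA)) (t₂ (dQ dB ΓB hΓB))
      (y' : Om (Tn k (QA ΓA) (QA ΓB))) = 0 := congrArg Subtype.val hy'
  obtain ⟨t'', ht''⟩ := mem_range_of_cocycle_zero (dQ_dQ dA ΓA hΓA hdA) (dQ_dQ dB ΓB hΓB hdB)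
    y'.2 hD
  let rA : ↥(LinearMap.ker (dA 0)) →ₗ[k] ↥(LinearMap.ker (dQ dA ΓA hΓA 0)) :=
    LinearMap.restrict (qA ΓA 0) (fun x hx => by
      rw [LinearMap.mem_ker] at hx ⊢
      rw [dQ_qA, hx, map_zero])
  let rB : ↥(LinearMap.ker (dB 0)) →ₗ[k] ↥(LinearMap.ker (dQ dB ΓB hΓB 0)) :=
    LinearMap.restrict (qA ΓB 0) (fun x hx => by
      rw [LinearMap.mem_ker] at hx ⊢
      rw [dQ_qA, hx, map_zero])
  have hrA : Function.Surjective rA := by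
    rintro ⟨y, hy⟩
    obtain ⟨x, hx, hxy⟩ := exists_cocycle_lift dA ΓA hΓA hdA h1A y (LinearMap.mem_ker.mp hy)
    exact ⟨⟨x, LinearMap.mem_ker.mpr hx⟩, Subtype.ext hxy⟩
  have hrB : Function.Surjective rB := by
    rintro ⟨y, hy⟩
    obtain ⟨x, hx, hxy⟩ := exists_cocycle_lift dB ΓB hΓB hdB h1B y (LinearMap.mem_ker.mp hy)
    exact ⟨⟨x, LinearMap.mem_ker.mpr hx⟩, Subtype.ext hxy⟩
  obtain ⟨t, ht⟩ := TensorProduct.map_surjective hrA hrB t''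
  let w : Tn k A B (0, 0) :=
    TensorProduct.map (LinearMap.ker (dA 0)).subtype (LinearMap.ker (dB 0)).subtype t
  let f : Om (Tn k A B) := Pi.single (0, 0) w
  have hf0 : f (0, 0) = w := Pi.single_eq_same _ _
  have hfX : f ∈ Xn k (Tn k A B) 0 := by
    intro q hq
    refine Pi.single_eq_of_ne ?_ _
    rintro rfl
    exact hq rfl
  have hDf : D (t₁ dA) (t₂ dB) f = 0 := cocycle_zero_of_mem_range hfX ⟨t, hf0.symm⟩
  refine ⟨⟨f, hfX⟩, Subtype.ext hDf, ?_⟩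
  apply Subtype.ext
  funext q
  rw [coe_pn]
  change pT ΓA ΓB q (f q) = (y' : Om (Tn k (QA ΓA) (QA ΓB))) q
  by_cases hq : q = (0, 0)
  · subst hq
    rw [hf0, ← ht'', ← ht]
    have e1 : qA ΓA 0 ∘ₗ (LinearMap.ker (dA 0)).subtype =
        (LinearMap.ker (dQ dA ΓA hΓA 0)).subtype ∘ₗ rA := LinearMap.ext fun _ => rfl
    have e2 : qA ΓB 0 ∘ₗ (LinearMap.ker (dB 0)).subtype =
        (LinearMap.ker (dQ dB ΓB hΓB 0)).subtype ∘ₗ rB := LinearMap.ext fun _ => rfl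
    change TensorProduct.map (qA ΓA 0) (qA ΓB 0)
      (TensorProduct.map (LinearMap.ker (dA 0)).subtype (LinearMap.ker (dB 0)).subtype t) =
      TensorProduct.map (LinearMap.ker (dQ dA ΓA hΓA 0)).subtype
        (LinearMap.ker (dQ dB ΓB hΓB 0)).subtype (TensorProduct.map rA rB t)
    rw [← LinearMap.comp_apply, ← TensorProduct.map_comp, e1, e2, TensorProduct.map_comp]
    rfl
  · have h1 : q.1 + q.2 ≠ 0 := by
      intro h2
      apply hq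
      apply Prod.ext
      · simp only
        omega
      · simp only
        omega
    rw [y'.2 q h1, hfX q h1, map_zero]

end AT

end Groth.Agent.Lib.T2H3.Kun
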