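import Groth.Agent.Lib.T2H3KunH
import Mathlib.LinearAlgebra.Dimension.Finite
import Mathlib.LinearAlgebra.Dimension.Free
import Mathlib.LinearAlgebra.FiniteDimensional.Defs

/-! Künneth formula for Segre products (helper3), part I: the dimension formula. -/

set_option autoImplicit false
set_option linter.unusedSectionVars false
set_option linter.style.haveILetI false

open scoped TensorProduct

noncomputable section

namespace Groth.Agent.Lib.T2H3.Kun

universe u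

variable {k : Type u} [Field k]

/-- The arithmetic of the Künneth formula. -/
theorem arith (α β a b : ℕ → ℕ) (m₀ n₀ : ℕ) (hα0 : α 0 = 0) (hα1 : α 1 = 0) (hβ0 : β 0 = 0)
    (hβ1 : β 1 = 0) (ha0 : a 0 = m₀) (haS : ∀ i, a (i + 1) = α (i + 2)) (hb0 : b 0 = n₀)
    (hbS : ∀ i, b (i + 1) = β (i + 2)) (n : ℕ) :
    ∑ p ∈ Finset.antidiagonal (n + 1), a p.1 * b p.2 =
      m₀ * β (n + 2) + α (n + 2) * n₀ + ∑ i ∈ Finset.range (n + 2 + 2), α i * β (n + 2 + 1 - i) := by
  rw [Finset.Nat.sum_antidiagonal_eq_sum_range_succ_mk]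
  simp only
  rw [Finset.sum_range_succ', Finset.sum_range_succ]
  have e1 : ∑ x ∈ Finset.range n, a (x + 1) * b (n + 1 - (x + 1)) =
      ∑ x ∈ Finset.range n, α (x + 2) * β (n + 1 - x) := by
    refine Finset.sum_congr rfl fun x hx => ?_
    have hx' := Finset.mem_range.mp hx
    have e2 : n + 1 - (x + 1) = (n - x - 1) + 1 := by omega
    have e3 : n - x - 1 + 2 = n + 1 - x := by omega
    rw [haS, e2, hbS, e3]
  have e4 : ∑ i ∈ Finset.range (n + 2 + 2), α i * β (n + 2 + 1 - i) =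
      ∑ x ∈ Finset.range n, α (x + 2) * β (n + 1 - x) := by
    rw [Finset.sum_range_succ', Finset.sum_range_succ', hα0, hα1, zero_mul, zero_mul, add_zero,
      add_zero, Finset.sum_range_succ, Finset.sum_range_succ]
    have e5 : n + 2 + 1 - (n + 1 + 1 + 1) = 0 := by omega
    have e6 : n + 2 + 1 - (n + 1 + 1) = 1 := by omega
    rw [e5, e6, hβ0, hβ1, mul_zero, mul_zero, add_zero, add_zero]
    refine Finset.sum_congr rfl fun x _ => ?_
    have e7 : n + 2 + 1 - (x + 1 + 1) = n + 1 - x := by omega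
    rw [e7]
  have e8 : n + 1 - (n + 1) = 0 := by omega
  have e9 : n + 1 - 0 = n + 1 := by omega
  rw [e1, e4, haS, e8, hb0, ha0, e9, hbS]
  ring

section Finrank

variable {A : ℕ → Type u} [∀ n, AddCommGroup (A n)] [∀ n, Module k (A n)]
  (dA : ∀ n, A n →ₗ[k] A (n + 1)) (ΓA : ∀ n, Submodule k (A n))
  (hΓA : ∀ i x, x ∈ ΓA i → dA i x ∈ ΓA (i + 1))
variable {B : ℕ → Type u} [∀ n, AddCommGroup (B n)] [∀ n, Module k (B n)]
  (dB : ∀ n, B n →ₗ[k] B (n + 1)) (ΓB : ∀ n, Submodule k (B n))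
  (hΓB : ∀ i x, x ∈ ΓB i → dB i x ∈ ΓB (i + 1))
variable (hdA : ∀ n x, dA (n + 1) (dA n x) = 0) (hdB : ∀ n x, dB (n + 1) (dB n x) = 0)
  (hexA : ∀ i, LinearMap.ker (dA (i + 1)) = LinearMap.range (dA i))
  (hexB : ∀ j, LinearMap.ker (dB (j + 1)) = LinearMap.range (dB j))
  (h0A : Zs dA ΓA 0 ≤ Bs dA ΓA 0) (h1A : Zs dA ΓA 1 ≤ Bs dA ΓA 1)
  (h0B : Zs dB ΓB 0 ≤ Bs dB ΓB 0) (h1B : Zs dB ΓB 1 ≤ Bs dB ΓB 1)

theorem finrank_Hs_eq_zero {C : ℕ → Type u} [∀ n, AddCommGroup (C n)] [∀ n, Module k (C n)]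
    (d : ∀ n, C n →ₗ[k] C (n + 1)) (U : ∀ n, Submodule k (C n)) {n : ℕ}
    (h : Zs d U n ≤ Bs d U n) : Module.finrank k (Hs d U n) = 0 := by
  haveI : Subsingleton (Hs d U n) := ⟨fun x y => by rw [Hs_eq_zero d U h x, Hs_eq_zero d U h y]⟩
  exact Module.finrank_zero_of_subsingleton

include hΓA hΓB hdA hdB hexA hexB h0A h1A h0B h1B in
/-- The dimension formula. -/
theorem finrank_Hs_ker [Module.Finite k (Hs dA (topU A) 0)] [Module.Finite k (Hs dB (topU B) 0)]
    [∀ i, Module.Finite k (Hs dA ΓA i)] [∀ j, Module.Finite k (Hs dB ΓB j)] (q : ℕ) :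
    Module.finrank k (Hs (Dn (t₁ (B := B) dA) (t₂ (A := A) dB)) (kerU (pn ΓA ΓB)) q) =
      Module.finrank k (Hs dA (topU A) 0) * Module.finrank k (Hs dB ΓB q) +
        Module.finrank k (Hs dA ΓA q) * Module.finrank k (Hs dB (topU B) 0) +
        ∑ i ∈ Finset.range (q + 2),
          Module.finrank k (Hs dA ΓA i) * Module.finrank k (Hs dB ΓB (q + 1 - i)) := by
  have hα0 := finrank_Hs_eq_zero dA ΓA h0A
  have hα1 := finrank_Hs_eq_zero dA ΓA h1A
  have hβ0 := finrank_Hs_eq_zero dB ΓB h0B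
  have hβ1 := finrank_Hs_eq_zero dB ΓB h1B
  rcases q with _ | _ | n
  · rw [finrank_Hs_eq_zero _ _ (Zs_ker_zero dA ΓA hΓA dB ΓB hΓB hdA hdB h0A h0B), hα0, hβ0,
      Finset.sum_range_succ, Finset.sum_range_succ, Finset.sum_range_zero, hα0, hα1]
    simp
  · rw [finrank_Hs_eq_zero _ _ (Zs_ker_one dA ΓA hΓA dB ΓB hΓB hdA hdB h1A h1B hexA hexB), hα1,
      hβ1, Finset.sum_range_succ, Finset.sum_range_succ, Finset.sum_range_succ,
      Finset.sum_range_zero, hα0, hα1]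
    simp only [zero_add, Nat.reduceAdd, Nat.reduceSub, mul_zero, zero_mul, add_zero]
    rw [hβ0, mul_zero]
  · obtain ⟨e⟩ := nonempty_Hs_ker_equiv dA ΓA hΓA dB ΓB hΓB hdA hdB hexA hexB n
    obtain ⟨eA0⟩ := nonempty_Hs_quot_zero dA ΓA hΓA hdA h0A h1A
    obtain ⟨eB0⟩ := nonempty_Hs_quot_zero dB ΓB hΓB hdB h0B h1B
    have eAS := fun i => (nonempty_Hs_quot_succ dA ΓA hΓA hdA hexA i).some
    have eBS := fun i => (nonempty_Hs_quot_succ dB ΓB hΓB hdB hexB i).some
    haveI hfA : ∀ i, Module.Finite k (Hs (dQ dA ΓA hΓA) (topU (QA ΓA)) i) := by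
      intro i
      cases i with
      | zero => exact Module.Finite.equiv eA0
      | succ i => exact Module.Finite.equiv (eAS i).symm
    haveI hfB : ∀ i, Module.Finite k (Hs (dQ dB ΓB hΓB) (topU (QA ΓB)) i) := by
      intro i
      cases i with
      | zero => exact Module.Finite.equiv eB0
      | succ i => exact Module.Finite.equiv (eBS i).symm
    rw [e.finrank_eq, Module.finrank_pi_fintype]
    simp only [Module.finrank_tensorProduct]
    rw [Finset.sum_coe_sort (Finset.antidiagonal (n + 1)) (fun p =>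
      Module.finrank k (Hs (dQ dA ΓA hΓA) (topU (QA ΓA)) p.1) *
        Module.finrank k (Hs (dQ dB ΓB hΓB) (topU (QA ΓB)) p.2))]
    exact arith (fun i => Module.finrank k (Hs dA ΓA i)) (fun j => Module.finrank k (Hs dB ΓB j))
      (fun i => Module.finrank k (Hs (dQ dA ΓA hΓA) (topU (QA ΓA)) i))
      (fun j => Module.finrank k (Hs (dQ dB ΓB hΓB) (topU (QA ΓB)) j)) _ _ hα0 hα1 hβ0 hβ1
      eA0.finrank_eq.symm (fun i => (eAS i).finrank_eq) eB0.finrank_eq.symm
      (fun i => (eBS i).finrank_eq) n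

end Finrank

end Groth.Agent.Lib.T2H3.Kun
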