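import Groth.Agent.Lib.T2H3KunB
import Groth.Prelude.Def_GrLC
import Groth.Agent.Lib.Helper8LCAdd
import Groth.Agent.Lib.Helper29LCAcyclic
import Groth.Agent.Lib.Helper29GrHom
import Mathlib.Algebra.Order.Antidiag.Prod

/-! Künneth formula for Segre products (helper3), part J: the total complex of a double complex
of graded modules as a complex of graded modules; acyclicity of its terms. -/

set_option autoImplicit false
set_option linter.unusedSectionVars false
set_option linter.style.haveILetI false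
open DirectSum

noncomputable section

namespace Groth.Agent.Lib.T2H3.Kun

open GrLC

universe u

/-- A decomposition from a family of projections. -/
theorem isInternal_of_proj {M : Type u} [AddCommGroup M] (ℳ : ℤ → AddSubgroup M)
    (π : ℤ → M →+ M) (h1 : ∀ d x, π d x ∈ ℳ d) (h2 : ∀ d x, x ∈ ℳ d → π d x = x)
    (h3 : ∀ d e x, x ∈ ℳ e → e ≠ d → π d x = 0)
    (h4 : ∀ x, ∃ s : Finset ℤ, x = ∑ d ∈ s, π d x) : DirectSum.IsInternal ℳ := by
  classical
  have key : ∀ (y : ⨁ d, ℳ d) (e : ℤ), π e (DirectSum.coeAddMonoidHom ℳ y) = (y e : M) := by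
    intro y e
    induction y using DirectSum.induction_on with
    | zero => simp
    | of d x =>
      rw [DirectSum.coeAddMonoidHom_of]
      by_cases h : d = e
      · subst h
        rw [DirectSum.of_eq_same]
        exact h2 _ _ x.2
      · rw [DirectSum.of_eq_of_ne _ _ _ (Ne.symm h), h3 e d x x.2 h]
        rfl
    | add x y hx hy => rw [map_add, map_add, hx, hy, DirectSum.add_apply, AddSubgroup.coe_add]
  constructor
  · rw [injective_iff_map_eq_zero]
    intro y hy
    apply DFinsupp.ext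
    intro e
    apply Subtype.ext
    rw [← key, hy, map_zero]
    rfl
  · intro x
    obtain ⟨s, hs⟩ := h4 x
    refine ⟨∑ d ∈ s, DirectSum.of (fun d => ℳ d) d ⟨π d x, h1 d x⟩, ?_⟩
    rw [map_sum]
    conv_rhs => rw [hs]
    refine Finset.sum_congr rfl fun d _ => ?_
    rw [DirectSum.coeAddMonoidHom_of]

section GTot

variable {R : Type u} [CommRing R] {𝒜 : ℤ → AddSubgroup R} [GradedRing 𝒜]
variable (WG : ℕ × ℕ → GMod.{u} 𝒜)

/-- The carriers. -/
abbrev Wc : ℕ × ℕ → Type u := fun p => (WG p).carrier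

/-- The pieces of the terms of the total complex. -/
def grX (n : ℕ) (d : ℤ) : AddSubgroup (XC R (Wc WG) n) where
  carrier := {f | ∀ p, (f : Om (Wc WG)) p ∈ (WG p).gr d}
  add_mem' hf hg p := add_mem (hf p) (hg p)
  zero_mem' _ := zero_mem _
  neg_mem' hf p := neg_mem (hf p)

theorem mem_grX {n : ℕ} {d : ℤ} {f : XC R (Wc WG) n} :
    f ∈ grX WG n d ↔ ∀ p, (f : Om (Wc WG)) p ∈ (WG p).gr d := Iff.rfl

/-- The componentwise projections. -/
def prX (n : ℕ) (d : ℤ) : XC R (Wc WG) n →+ XC R (Wc WG) n where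
  toFun f := ⟨fun p => ((decompose (WG p).gr ((f : Om (Wc WG)) p)) d : (WG p).carrier), by
    intro p hp
    change ((decompose (WG p).gr ((f : Om (Wc WG)) p)) d : (WG p).carrier) = 0
    rw [f.2 p hp, DirectSum.decompose_zero]
    rfl⟩
  map_zero' := by
    apply Subtype.ext
    funext p
    change ((decompose (WG p).gr (0 : (WG p).carrier)) d : (WG p).carrier) = 0
    rw [DirectSum.decompose_zero]
    rfl
  map_add' f g := by
    apply Subtype.ext
    funext p
    change ((decompose (WG p).gr ((f : Om (Wc WG)) p + (g : Om (Wc WG)) p)) d : (WG p).carrier) =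
      ((decompose (WG p).gr ((f : Om (Wc WG)) p)) d : (WG p).carrier) +
        ((decompose (WG p).gr ((g : Om (Wc WG)) p)) d : (WG p).carrier)
    rw [DirectSum.decompose_add, DirectSum.add_apply, AddSubgroup.coe_add]

theorem prX_apply (n : ℕ) (d : ℤ) (f : XC R (Wc WG) n) (p : ℕ × ℕ) :
    ((prX WG n d f : XC R (Wc WG) n) : Om (Wc WG)) p =
      ((decompose (WG p).gr ((f : Om (Wc WG)) p)) d : (WG p).carrier) := rfl

theorem isInternal_grX (n : ℕ) : DirectSum.IsInternal (grX WG n) := by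
  classical
  refine isInternal_of_proj (grX WG n) (prX WG n) ?_ ?_ ?_ ?_
  · intro d f p
    rw [prX_apply]
    exact SetLike.coe_mem _
  · intro d f hf
    apply Subtype.ext
    funext p
    rw [prX_apply, DirectSum.decompose_of_mem_same _ (hf p)]
  · intro d e f hf hne
    apply Subtype.ext
    funext p
    rw [prX_apply, DirectSum.decompose_of_mem_ne _ (hf p) hne]
    rfl
  · intro f
    refine ⟨(Finset.HasAntidiagonal.antidiagonal n).biUnion
      (fun p => (decompose (WG p).gr ((f : Om (Wc WG)) p)).support), ?_⟩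
    apply Subtype.ext
    funext p
    rw [Submodule.coe_sum, Finset.sum_apply]
    simp only [prX_apply]
    by_cases hp : p ∈ Finset.HasAntidiagonal.antidiagonal n
    · have h1 := DirectSum.sum_support_decompose (WG p).gr ((f : Om (Wc WG)) p)
      conv_lhs => rw [← h1]
      refine Finset.sum_subset (Finset.subset_biUnion_of_mem
        (fun p => (decompose (WG p).gr ((f : Om (Wc WG)) p)).support) hp) ?_
      intro d _ hd
      rw [DFinsupp.notMem_support_iff] at hd
      rw [hd]
      rfl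
    · have h1 : (f : Om (Wc WG)) p = 0 :=
        f.2 p (fun h => hp (Finset.HasAntidiagonal.mem_antidiagonal.mpr h))
      rw [h1]
      symm
      refine Finset.sum_eq_zero fun d _ => ?_
      rw [DirectSum.decompose_zero]
      rfl

/-- The decomposition of the terms of the total complex. -/
@[instance_reducible]
def decX (n : ℕ) : DirectSum.Decomposition (grX WG n) := (isInternal_grX WG n).chooseDecomposition

theorem gsmulX (n : ℕ) : SetLike.GradedSMul 𝒜 (grX WG n) where
  smul_mem := by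
    intro e d t f ht hf p
    rw [vadd_eq_add]
    exact SetLike.GradedSMul.smul_mem (A := 𝒜) (B := (WG p).gr) ht (hf p)

/-- The terms of the total complex, bundled. -/
def XG (n : ℕ) : GMod.{u} 𝒜 :=
  letI := decX WG n
  letI := gsmulX WG n
  GMod.of 𝒜 (XC R (Wc WG) n) (grX WG n)

variable (d₁ : ∀ i j, Wc WG (i, j) →ₗ[R] Wc WG (i + 1, j))
  (d₂ : ∀ i j, Wc WG (i, j) →ₗ[R] Wc WG (i, j + 1))
  (hg₁ : ∀ i j, IsGrHom (WG (i, j)).gr (WG (i + 1, j)).gr (d₁ i j))
  (hg₂ : ∀ i j, IsGrHom (WG (i, j)).gr (WG (i, j + 1)).gr (d₂ i j))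

theorem sgn_mem_gr {M : Type u} [AddCommGroup M] (S : AddSubgroup M) (i : ℕ) {x : M} (hx : x ∈ S) :
    sgn i x ∈ S := zsmul_mem hx _

include hg₁ hg₂ in
theorem Dn_isGrHom (n : ℕ) : IsGrHom (XG WG n).gr (XG WG (n + 1)).gr (Dn d₁ d₂ n) := by
  intro d f hf p
  change D d₁ d₂ (f : Om (Wc WG)) p ∈ (WG p).gr d
  have hf' : ∀ p, (f : Om (Wc WG)) p ∈ (WG p).gr d := hf
  obtain ⟨i, j⟩ := p
  rcases i with _ | i <;> rcases j with _ | j
  · rw [D_zero_zero]; exact zero_mem _
  · rw [D_zero_succ]; exact sgn_mem_gr _ _ (hg₂ _ _ d _ (hf' _))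
  · rw [D_succ_zero]; exact hg₁ _ _ d _ (hf' _)
  · rw [D_succ_succ]
    exact add_mem (hg₁ _ _ d _ (hf' _)) (sgn_mem_gr _ _ (hg₂ _ _ d _ (hf' _)))

omit WG in
/-- A homogeneous map killing an element kills its components. -/
theorem map_component_eq_zero (X Y : GMod.{u} 𝒜) (β : X.carrier →ₗ[R] Y.carrier)
    (hβ : IsGrHom X.gr Y.gr β) (x : X.carrier) (d : ℤ) (hx : β x = 0) :
    β ((decompose X.gr x) d : X.carrier) = 0 := by
  have h1 := Groth.Agent.Lib.Helper29GrHom.decompose_map Y.gr X.gr β hβ x d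
  rw [hx, DirectSum.decompose_zero] at h1
  exact h1.symm

include hg₁ hg₂ in
/-- Exactness of the total complex can be checked on homogeneous elements. -/
theorem ker_le_range_of_homog (n : ℕ)
    (h : ∀ (d : ℤ) (x : XC R (Wc WG) (n + 1)), x ∈ grX WG (n + 1) d → Dn d₁ d₂ (n + 1) x = 0 →
      x ∈ LinearMap.range (Dn d₁ d₂ n)) :
    LinearMap.ker (Dn d₁ d₂ (n + 1)) ≤ LinearMap.range (Dn d₁ d₂ n) := by
  classical
  intro x hx
  have hgr := Dn_isGrHom WG d₁ d₂ hg₁ hg₂ (n + 1)
  let x' : (XG WG (n + 1)).carrier := x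
  have hsum := DirectSum.sum_support_decompose (XG WG (n + 1)).gr x'
  have hx' : x = x' := rfl
  rw [hx', ← hsum]
  refine Submodule.sum_mem _ (fun d _ => ?_)
  have h2 : Dn d₁ d₂ (n + 1) x = 0 := LinearMap.mem_ker.mp hx
  have hxd : Dn d₁ d₂ (n + 1)
      (((decompose (XG WG (n + 1)).gr x') d : (XG WG (n + 1)).carrier)) = 0 :=
    map_component_eq_zero (XG WG (n + 1)) (XG WG (n + 1 + 1)) (Dn d₁ d₂ (n + 1)) hgr x' d h2
  exact h d _ (SetLike.coe_mem ((decompose (XG WG (n + 1)).gr x') d)) hxd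

include hg₁ hg₂ in
/-- The homogeneous components of a cocycle of degree `0` are cocycles. -/
theorem ker_le_of_homog_zero (Q : Submodule R (XC R (Wc WG) 0))
    (h : ∀ (d : ℤ) (x : XC R (Wc WG) 0), x ∈ grX WG 0 d → Dn d₁ d₂ 0 x = 0 → x ∈ Q) :
    LinearMap.ker (Dn d₁ d₂ 0) ≤ Q := by
  classical
  intro x hx
  have hgr := Dn_isGrHom WG d₁ d₂ hg₁ hg₂ 0
  let x' : (XG WG 0).carrier := x
  have hsum := DirectSum.sum_support_decompose (XG WG 0).gr x'
  have hx' : x = x' := rfl
  rw [hx', ← hsum]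
  refine Submodule.sum_mem _ (fun d _ => ?_)
  have h2 : Dn d₁ d₂ 0 x = 0 := LinearMap.mem_ker.mp hx
  have hxd : Dn d₁ d₂ 0 (((decompose (XG WG 0).gr x') d : (XG WG 0).carrier)) = 0 :=
    map_component_eq_zero (XG WG 0) (XG WG (0 + 1)) (Dn d₁ d₂ 0) hgr x' d h2
  exact h d _ (SetLike.coe_mem ((decompose (XG WG 0).gr x') d)) hxd

end GTot

section Acyclic

open CategoryTheory Groth.Agent.Lib.Helper29LCAcyclic Groth.Agent.Lib.Helper8.LC

variable {T' : Type u} [CommRing T'] (I : Ideal T')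
variable {W : Type u} [AddCommGroup W] [Module T' W]

/-- Local cohomology of a finite direct sum of modules with vanishing local cohomology
vanishes. -/
theorem LC_eq_zero_of_decomp (i : ℕ) {Λ : Type} (s : Finset Λ) (Wl : Λ → Type u)
    [∀ l, AddCommGroup (Wl l)] [∀ l, Module T' (Wl l)] (pr : ∀ l, W →ₗ[T'] Wl l)
    (inc : ∀ l, Wl l →ₗ[T'] W) (hsum : ∀ w, ∑ l ∈ s, inc l (pr l w) = w)
    (h : ∀ l ∈ s, ∀ y : LC I i (Wl l), y = 0) (x : LC I i W) : x = 0 := by
  have h1 : 𝟙 (ModuleCat.of T' W) = ∑ l ∈ s, ModuleCat.ofHom (inc l ∘ₗ pr l) := by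
    apply ModuleCat.hom_ext
    rw [ModuleCat.hom_sum]
    simp only [ModuleCat.hom_ofHom]
    apply LinearMap.ext
    intro w
    rw [LinearMap.sum_apply]
    simp only [LinearMap.comp_apply]
    rw [hsum]
    rfl
  have h2 : x = (localCohomology I i).map (𝟙 (ModuleCat.of T' W)) x := by
    rw [CategoryTheory.Functor.map_id]
    rfl
  rw [h2, h1, H_map_sum]
  refine Finset.sum_eq_zero fun l hl => ?_
  have h3 : ModuleCat.ofHom (inc l ∘ₗ pr l) = ModuleCat.ofHom (pr l) ≫ ModuleCat.ofHom (inc l) := by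
    rw [← ModuleCat.ofHom_comp]
  rw [h3, Functor.map_comp]
  change ((localCohomology I i).map (ModuleCat.ofHom (inc l))).hom
    (((localCohomology I i).map (ModuleCat.ofHom (pr l))).hom x) = 0
  rw [h l hl (((localCohomology I i).map (ModuleCat.ofHom (pr l))).hom x), map_zero]

variable {Wp : ℕ × ℕ → Type u} [∀ p, AddCommGroup (Wp p)] [∀ p, Module T' (Wp p)]

/-- The terms of the total complex of a double complex of acyclic modules are acyclic. -/
theorem LC_XC_eq_zero (i n : ℕ) (h : ∀ p, ∀ y : LC I i (Wp p), y = 0)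
    (x : LC I i (XC T' Wp n)) : x = 0 := by
  classical
  let pr : ∀ p : ℕ × ℕ, XC T' Wp n →ₗ[T'] Wp p := fun p =>
    (LinearMap.proj p : Om Wp →ₗ[T'] Wp p) ∘ₗ (Xn T' Wp n).subtype
  have hsingle : ∀ (p : ℕ × ℕ) (hp : p.1 + p.2 = n) (w : Wp p),
      LinearMap.single T' Wp p w ∈ Xn T' Wp n := by
    intro p hp w q hq
    change Pi.single p w q = 0
    refine Pi.single_eq_of_ne ?_ _
    rintro rfl
    exact hq hp
  let inc : ∀ p : ℕ × ℕ, Wp p →ₗ[T'] XC T' Wp n := fun p =>
    if hp : p.1 + p.2 = n then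
      LinearMap.codRestrict (Xn T' Wp n) (LinearMap.single T' Wp p) (hsingle p hp)
    else 0
  refine LC_eq_zero_of_decomp I i (Finset.HasAntidiagonal.antidiagonal n) Wp pr inc ?_ (fun p _ => h p) x
  intro f
  apply Subtype.ext
  funext q
  rw [Submodule.coe_sum, Finset.sum_apply]
  have e1 : ∀ p ∈ Finset.HasAntidiagonal.antidiagonal n,
      ((inc p (pr p f) : XC T' Wp n) : Om Wp) q = Pi.single p ((f : Om Wp) p) q := by
    intro p hp
    have hp' : p.1 + p.2 = n := Finset.HasAntidiagonal.mem_antidiagonal.mp hp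
    have e2 : inc p = LinearMap.codRestrict (Xn T' Wp n) (LinearMap.single T' Wp p)
        (hsingle p hp') := dif_pos hp'
    rw [e2]
    rfl
  rw [Finset.sum_congr rfl e1, Finset.sum_pi_single]
  split_ifs with hq
  · rfl
  · exact (f.2 q (fun h => hq (Finset.HasAntidiagonal.mem_antidiagonal.mpr h))).symm

/-- Torsion elements of the terms of the total complex are the elements with torsion
components. -/
theorem mem_gam_XC_iff {n : ℕ} (x : XC T' Wp n) :
    x ∈ gam I (XC T' Wp n) ↔ ∀ p, (x : Om Wp) p ∈ gam I (Wp p) := by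
  classical
  constructor
  · rintro ⟨m, hm⟩ p
    exact ⟨m, fun r hr => congrFun (congrArg Subtype.val (hm r hr)) p⟩
  · intro h
    choose m hm using h
    refine ⟨(Finset.HasAntidiagonal.antidiagonal n).sup m, fun r hr => ?_⟩
    apply Subtype.ext
    funext p
    change r • (x : Om Wp) p = 0
    by_cases hp : p ∈ Finset.HasAntidiagonal.antidiagonal n
    · exact hm p r (Ideal.pow_le_pow_right (Finset.le_sup hp) hr)
    · rw [x.2 p (fun h => hp (Finset.HasAntidiagonal.mem_antidiagonal.mpr h)), smul_zero]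

end Acyclic

end Groth.Agent.Lib.T2H3.Kun
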