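import Groth.Agent.Lib.T2H3SegJ

/-! Künneth formula for Segre products (helper3), part K: graded local cohomology computed from an
arbitrary resolution by graded modules acyclic for `Γ` (generic version of the comparison in
`T2H3SegJ`). -/

set_option autoImplicit false
set_option linter.unusedSectionVars false
set_option linter.style.haveILetI false
open DirectSum

noncomputable section

namespace Groth.Agent.Lib.T2H3.Kun

open Groth.Agent.Lib.T2H3.GrTr Groth.Agent.Lib Groth.Agent.Lib.LeadSP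
  Groth.Agent.Lib.Helper29LCAcyclic GrLC Groth.Agent.Lib.Helper29GrHom
  Groth.Agent.Lib.Helper29GrGam Groth.Agent.Lib.T2H3.GrLes Groth.Agent.Lib.T2H3.Seg

universe u

variable {k : Type u} [Field k] {T : Type u} [CommRing T] [Algebra k T]
  {𝒯 : ℤ → Submodule k T} [GradedAlgebra 𝒯] [IsNoetherianRing T]
variable {P : Type u} [AddCommGroup P] [Module T P]
  {𝒬 : ℤ → AddSubgroup P} [DirectSum.Decomposition 𝒬] [SetLike.GradedSMul 𝒯 𝒬]
variable (EP : StarInjRes 𝒯 𝒬) (mT : HomogeneousIdeal 𝒯)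

/-- A resolution of `P` by graded modules acyclic for `Γ_{m_T}`. -/
structure AR (𝒯 : ℤ → Submodule k T) [GradedAlgebra 𝒯] (𝒬 : ℤ → AddSubgroup P)
    [DirectSum.Decomposition 𝒬] [SetLike.GradedSMul 𝒯 𝒬] (mT : HomogeneousIdeal 𝒯) where
  XG : ℕ → GMod.{u} (asGr 𝒯)
  dX : ∀ n, (XG n).carrier →ₗ[T] (XG (n + 1)).carrier
  εX : P →ₗ[T] (XG 0).carrier
  dX_isGrHom : ∀ n, IsGrHom (XG n).gr (XG (n + 1)).gr (dX n)
  εX_isGrHom : IsGrHom (asGr 𝒬) (XG 0).gr εX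
  εX_injective : Function.Injective εX
  exact_zero : LinearMap.ker (dX 0) = LinearMap.range εX
  exact_succ : ∀ n, LinearMap.ker (dX (n + 1)) = LinearMap.range (dX n)
  hacycX : ∀ (n j : ℕ) (x : LC mT.toIdeal (j + 1) (XG n).carrier), x = 0

namespace AR

variable {EP mT} (K : AR 𝒯 𝒬 mT)

/-- The terms. -/
abbrev X (n : ℕ) : Type u := (K.XG n).carrier

theorem hacycF (n j : ℕ) (x : LC mT.toIdeal (j + 1) (EP.X n).carrier) : x = 0 := by
  have h := Groth.Agent.S13217.result T (asGr 𝒯) (hiTo 𝒯 mT) (EP.X n).carrier (EP.X n).gr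
    (isStarInj_asGr 𝒯 (EP.X n).gr (EP.starInj n)) (j + 1) (Nat.le_add_left 1 j)
  exact @Subsingleton.elim _ h _ _

theorem exists_theta : ∃ θ : ∀ n, K.X n →ₗ[T] (EP.X n).carrier,
    (∀ n, IsGrHom (K.XG n).gr (EP.X n).gr (θ n)) ∧ (∀ y : P, θ 0 (K.εX y) = EP.ε y) ∧
    ∀ (n : ℕ) (x : K.X n), θ (n + 1) (K.dX n x) = EP.d n (θ n x) :=
  Groth.Agent.Lib.Helper29GrCompare.exists_comparison (asGr 𝒯) (asGr 𝒬) K.XG K.dX K.εX
    K.dX_isGrHom K.εX_isGrHom K.exact_zero K.exact_succ (resTo 𝒯 𝒬 EP) K.εX_injective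

/-- The cocycles of `Γ(X^•)`. -/
def ZX (q : ℕ) : Submodule T (K.X q) := gam mT.toIdeal (K.X q) ⊓ LinearMap.ker (K.dX q)

theorem mem_ZX {q : ℕ} {z : K.X q} :
    z ∈ K.ZX q ↔ z ∈ gam mT.toIdeal (K.X q) ∧ K.dX q z = 0 := Iff.rfl

/-- The coboundaries of `Γ(X^•)`. -/
abbrev cobX (q : ℕ) : Submodule T (K.X q) :=
  Groth.Agent.Lib.Helper29Cone.cobdy mT.toIdeal K.X K.dX q

/-- The homogeneous component of degree `j`. -/
def compX (q : ℕ) (j : ℤ) (x : K.X q) : K.X q :=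
  ((decompose (K.XG q).gr x) j : (K.XG q).carrier)

theorem compX_mem_gr (q : ℕ) (j : ℤ) (x : K.X q) : K.compX q j x ∈ (K.XG q).gr j :=
  SetLike.coe_mem ((decompose (K.XG q).gr x) j)

theorem compX_mem_gam (q : ℕ) (j : ℤ) {x : K.X q} (hx : x ∈ gam mT.toIdeal (K.X q)) :
    K.compX q j x ∈ gam mT.toIdeal (K.X q) :=
  gam_isHomogeneous (asGr 𝒯) (K.XG q).gr (hiTo 𝒯 mT) j hx

theorem dX_compX (q : ℕ) (j : ℤ) (x : K.X q) :
    K.dX q (K.compX q j x) = K.compX (q + 1) j (K.dX q x) :=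
  (decompose_map (K.XG (q + 1)).gr (K.XG q).gr (K.dX q) (K.dX_isGrHom q) x j).symm

theorem compX_zero (q : ℕ) (j : ℤ) : K.compX q j 0 = 0 := by
  have h : decompose (K.XG q).gr (0 : (K.XG q).carrier) = 0 := DirectSum.decompose_zero _
  change ((decompose (K.XG q).gr (0 : (K.XG q).carrier)) j : (K.XG q).carrier) = 0
  rw [h]
  rfl

theorem compX_of_mem (q : ℕ) (j : ℤ) {x : K.X q} (hx : x ∈ (K.XG q).gr j) : K.compX q j x = x :=
  DirectSum.decompose_of_mem_same _ hx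

theorem compX_mem_ZX (q : ℕ) (j : ℤ) {x : K.X q} (hx : x ∈ K.ZX q) : K.compX q j x ∈ K.ZX q := by
  refine ⟨K.compX_mem_gam q j hx.1, ?_⟩
  change K.dX q (K.compX q j x) = 0
  rw [K.dX_compX, LinearMap.mem_ker.mp hx.2, K.compX_zero]

variable (θ : ∀ n, K.X n →ₗ[T] (EP.X n).carrier)
  (hθgr : ∀ n, IsGrHom (K.XG n).gr (EP.X n).gr (θ n))
  (hθ0 : ∀ y : P, θ 0 (K.εX y) = EP.ε y)
  (hθ : ∀ (n : ℕ) (x : K.X n), θ (n + 1) (K.dX n x) = EP.d n (θ n x))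

include hθgr in
theorem theta_compX (q : ℕ) (j : ℤ) (x : K.X q) :
    θ q (K.compX q j x) = ((decompose (EP.X q).gr (θ q x)) j : (EP.X q).carrier) :=
  (decompose_map (EP.X q).gr (K.XG q).gr (θ q) (hθgr q) x j).symm

include hθ in
theorem theta_cocyc {q : ℕ} {z : K.X q} (hz : z ∈ K.ZX q) : θ q z ∈ EP.cocyc mT q := by
  refine Submodule.mem_inf.mpr ⟨gam_map mT.toIdeal (θ q) hz.1, ?_⟩
  rw [LinearMap.mem_ker, ← hθ q z, LinearMap.mem_ker.mp hz.2, map_zero]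

/-- The class map to `H^q_{m_T}(P)`. -/
def c1 (q : ℕ) : ↥(K.ZX q) →ₗ[T] EP.H mT q :=
  EP.toH mT q ∘ₗ LinearMap.codRestrict (EP.cocyc mT q) (θ q ∘ₗ (K.ZX q).subtype)
    (fun z => K.theta_cocyc θ hθ z.2)

theorem c1_apply (q : ℕ) (z : ↥(K.ZX q)) :
    K.c1 θ hθ q z = EP.toH mT q ⟨θ q z, K.theta_cocyc θ hθ z.2⟩ := rfl

include hθ0 hθ in
theorem exists_c1_eq (q : ℕ) (w : ↥(EP.cocyc mT q)) :
    ∃ x : ↥(K.ZX q), (w : (EP.X q).carrier) - θ q x ∈ EP.cobdy mT q := by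
  obtain ⟨x, hx1, hx2, hx3⟩ := Groth.Agent.Lib.Helper29Cone.comparison_surj mT.toIdeal K.X K.dX
    K.εX K.exact_succ K.exact_zero K.hacycX (fun n => (EP.X n).carrier) EP.d EP.ε
    EP.exact_succ EP.ε_injective EP.exact_zero
    (fun n j x => AR.hacycF (EP := EP) (mT := mT) n j x) θ hθ0 hθ q
    (w : (EP.X q).carrier) (Submodule.mem_inf.mp w.2).1 (Submodule.mem_inf.mp w.2).2
  rw [hcob] at hx3
  exact ⟨⟨x, hx1, hx2⟩, hx3⟩

include hθ0 in
theorem c1_surjective (q : ℕ) : Function.Surjective (K.c1 θ hθ q) := by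
  intro h
  obtain ⟨w, rfl⟩ := Submodule.mkQ_surjective _ h
  obtain ⟨x, hx⟩ := K.exists_c1_eq θ hθ0 hθ q w
  refine ⟨x, ?_⟩
  rw [c1_apply]
  symm
  rw [← sub_eq_zero, ← map_sub]
  change EP.toH mT q _ = 0
  rw [toH_eq_zero_iff']
  exact hx

include hθ in
theorem theta_mem_of_mem_cobX (q : ℕ) {z : K.X q} (h : z ∈ K.cobX q) :
    θ q z ∈ EP.cobdy mT q := by
  cases q with
  | zero =>
    have h0 : z = 0 := (Submodule.mem_bot T).mp h
    rw [h0, map_zero]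
    exact zero_mem _
  | succ n =>
    obtain ⟨w, hw, rfl⟩ := h
    exact ⟨θ n w, gam_map mT.toIdeal (θ n) hw, (hθ n w).symm⟩

include hθ0 in
theorem c1_eq_zero_iff (q : ℕ) (z : ↥(K.ZX q)) :
    K.c1 θ hθ q z = 0 ↔ (z : K.X q) ∈ K.cobX q := by
  rw [c1_apply, toH_eq_zero_iff']
  constructor
  · intro h1
    rw [← hcob] at h1
    exact Groth.Agent.Lib.Helper29Cone.comparison_inj mT.toIdeal K.X K.dX
      K.εX K.exact_succ K.exact_zero K.hacycX (fun n => (EP.X n).carrier) EP.d EP.ε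
      EP.exact_succ EP.ε_injective EP.exact_zero
      (fun n j x => AR.hacycF (EP := EP) (mT := mT) n j x) θ hθ0 hθ q z z.2.1
      (LinearMap.mem_ker.mp z.2.2) h1
  · intro h
    exact K.theta_mem_of_mem_cobX θ hθ q h

include hθgr hθ0 in
/-- Homogeneous classes are represented by homogeneous cocycles. -/
theorem exists_homog_preimage (q : ℕ) (n : ℤ) (h : EP.H mT q) (hh : h ∈ EP.Hgr mT q n) :
    ∃ z : ↥(K.ZX q), (z : K.X q) ∈ (K.XG q).gr n ∧ K.c1 θ hθ q z = h := by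
  obtain ⟨w, hw, rfl⟩ := hh
  obtain ⟨x, hx⟩ := K.exists_c1_eq θ hθ0 hθ q w
  refine ⟨⟨K.compX q n x, K.compX_mem_ZX q n x.2⟩, K.compX_mem_gr q n x, ?_⟩
  rw [c1_apply]
  symm
  rw [← sub_eq_zero, ← map_sub]
  change EP.toH mT q _ = 0
  rw [toH_eq_zero_iff']
  change (w : (EP.X q).carrier) - θ q (K.compX q n x) ∈ EP.cobdy mT q
  have h5 : ((decompose (EP.X q).gr ((w : (EP.X q).carrier) - θ q x)) n : (EP.X q).carrier) ∈
      EP.cobdy mT q :=
    cobdy_isHomogeneous (resTo 𝒯 𝒬 EP) (hiTo 𝒯 mT) q n hx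
  rw [DirectSum.decompose_sub, DirectSum.sub_apply, AddSubgroup.coe_sub,
    DirectSum.decompose_of_mem_same (EP.X q).gr hw, ← K.theta_compX θ hθgr q n x] at h5
  exact h5

include hθgr in
/-- The class of a homogeneous cocycle is homogeneous. -/
theorem c1_mem_Hgr (q : ℕ) (n : ℤ) (z : ↥(K.ZX q)) (hz : (z : K.X q) ∈ (K.XG q).gr n) :
    K.c1 θ hθ q z ∈ EP.Hgr mT q n :=
  ⟨⟨θ q z, K.theta_cocyc θ hθ z.2⟩, hθgr q n _ hz, rfl⟩

/-- Homogeneous coboundaries are coboundaries of homogeneous elements. -/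
theorem exists_homog_of_mem_cobX (q : ℕ) (n : ℤ) {z : K.X (q + 1)} (hz : z ∈ (K.XG (q + 1)).gr n)
    (h : z ∈ K.cobX (q + 1)) :
    ∃ y : K.X q, y ∈ gam mT.toIdeal (K.X q) ∧ y ∈ (K.XG q).gr n ∧ K.dX q y = z := by
  obtain ⟨w, hw, rfl⟩ := h
  refine ⟨K.compX q n w, K.compX_mem_gam q n hw, K.compX_mem_gr q n w, ?_⟩
  rw [K.dX_compX]
  exact K.compX_of_mem (q + 1) n hz

end AR

end Groth.Agent.Lib.T2H3.Kun
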