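import Groth.Agent.Lib.T2H3VerW

/-! Veronese subrings of Gorenstein graded rings (helper3), part X: the minimal number of
generators of `C' = V(R(a))` over the Veronese subring is `dim R_ρ`, `ρ` the remainder of `a`
modulo `q`. -/

set_option autoImplicit false
set_option linter.unusedSectionVars false
set_option linter.unusedVariables false
set_option linter.style.haveILetI false
set_option maxHeartbeats 1000000
open DirectSum TensorProduct

noncomputable section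

namespace Groth.Agent.Lib.T2H3.Ver

open GrLC Groth.Agent.Lib.T2H3.GrLes Groth.Agent.Lib.T2H3.GDual
  Groth.Agent.Lib.Helper29GrShift Groth.Agent.Lib.Helper29GrEss

universe u

section Rank

theorem eq_zero_of_mem_of_eq_bot {G : Type*} [AddGroup G] {A : AddSubgroup G} (h : A = ⊥) {x : G}
    (hx : x ∈ A) : x = 0 := by
  rw [h, AddSubgroup.mem_bot] at hx
  exact hx

/-- Two surjections from the same group with the same kernel have targets of the same rank
(version with a common ring of operators). -/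
theorem rank_eq_of_two_surjections' {S K₁ K₂ : Type u} {T A B : Type u} [Ring S] [Ring K₁]
    [Ring K₂] [AddCommGroup T] [AddCommGroup A] [AddCommGroup B] [Module S T] [Module K₁ A]
    [Module K₂ B] (p : S → K₁) (hp : Function.Surjective p) (i : K₁ → K₂)
    (hi : Function.Bijective i) (f₁ : T →+ A) (f₂ : T →+ B)
    (h₁ : Function.Surjective f₁) (h₂ : Function.Surjective f₂)
    (hker : ∀ z, f₁ z = 0 ↔ f₂ z = 0) (hs₁ : ∀ (s : S) (z : T), f₁ (s • z) = p s • f₁ z)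
    (hs₂ : ∀ (s : S) (z : T), f₂ (s • z) = i (p s) • f₂ z) :
    Module.rank K₁ A = Module.rank K₂ B := by
  have hk : f₁.ker = f₂.ker := by
    ext z
    rw [AddMonoidHom.mem_ker, AddMonoidHom.mem_ker]
    exact hker z
  let e₁ := QuotientAddGroup.quotientKerEquivOfSurjective f₁ h₁
  let e₂ := QuotientAddGroup.quotientKerEquivOfSurjective f₂ h₂
  let e₀ := QuotientAddGroup.quotientAddEquivOfEq hk
  let j : A ≃+ B := e₁.symm.trans (e₀.trans e₂)
  have hj : ∀ z, j (f₁ z) = f₂ z := by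
    intro z
    have h3 : e₁.symm (f₁ z) = QuotientAddGroup.mk z := by
      rw [AddEquiv.symm_apply_eq]
      rfl
    change e₂ (e₀ (e₁.symm (f₁ z))) = f₂ z
    rw [h3]
    rfl
  refine rank_eq_of_equiv_equiv i j hi ?_
  intro r a
  obtain ⟨s, rfl⟩ := hp r
  obtain ⟨z, rfl⟩ := h₁ a
  rw [← hs₁, hj, hj, hs₂]

end Rank

section Main

variable {R R' : Type u} [CommRing R] [CommRing R']
  (𝒜 : ℤ → AddSubgroup R) [GradedRing 𝒜]
  (𝒜' : ℤ → AddSubgroup R') [GradedRing 𝒜']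
  {φ : R' →+* R} {q : ℕ} (hV : VerHyp 𝒜 𝒜' φ q)
  (hpos : ∀ n : ℤ, n < 0 → 𝒜 n = ⊥)

include hV hpos in
/-- The component of degree `ρ < q` of `φ s * x`. -/
theorem decompose_phi_mul (ρ : ℤ) (hρ0 : 0 ≤ ρ) (hρq : ρ < q) (s : R') (x : R) :
    ((decompose 𝒜 (φ s * x)) ρ : R) = ((decompose 𝒜 (φ s)) 0 : R) * ((decompose 𝒜 x) ρ : R) := by
  classical
  have hq0 : (0 : ℤ) < q := by exact_mod_cast hV.hq
  induction s using DirectSum.Decomposition.inductionOn 𝒜' with
  | zero => simp only [map_zero, zero_mul, DirectSum.decompose_zero, DirectSum.zero_apply,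
      ZeroMemClass.coe_zero]
  | homogeneous s =>
    rename_i l
    have hs : φ (s : R') ∈ 𝒜 (l * q) := phi_mem hV s.2
    have h1 := decompose_smul_of_mem 𝒜 𝒜 hs x ρ
    rw [smul_eq_mul, smul_eq_mul] at h1
    rw [h1]
    rcases lt_trichotomy l 0 with hl | hl | hl
    · have h2 : (s : R') = 0 := eq_zero_of_mem_of_eq_bot (hpos_of_verHyp hV hpos l hl) s.2
      rw [h2, map_zero, zero_mul, DirectSum.decompose_zero, DirectSum.zero_apply,
        ZeroMemClass.coe_zero, zero_mul]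
    · subst hl
      rw [zero_mul] at hs
      rw [zero_mul, sub_zero, DirectSum.decompose_of_mem_same 𝒜 hs]
    · have hneg : ρ - l * q < 0 := by nlinarith
      have h2 : ((decompose 𝒜 x) (ρ - l * q) : R) = 0 :=
        eq_zero_of_mem_of_eq_bot (hpos _ hneg) (SetLike.coe_mem _)
      have hne : l * (q : ℤ) ≠ 0 := (mul_pos hl hq0).ne'
      rw [h2, mul_zero, DirectSum.decompose_of_mem_ne 𝒜 hs hne, zero_mul]
  | add s t hs ht =>
    rw [map_add, add_mul, DirectSum.decompose_add, DirectSum.add_apply, AddSubgroup.coe_add,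
      hs, ht, DirectSum.decompose_add, DirectSum.add_apply, AddSubgroup.coe_add, add_mul]

variable (m' : HomogeneousIdeal 𝒜')
  (hm'sp : m'.toIdeal = Ideal.span (⋃ j ∈ Set.Ioi (0 : ℤ), (𝒜' j : Set R')))

include hV hpos hm'sp in
theorem decompose_phi_zero_of_mem {r' : R'} (hr' : r' ∈ m'.toIdeal) :
    ((decompose 𝒜 (φ r')) 0 : R) = 0 := by
  classical
  have hq0 : (0 : ℤ) < q := by exact_mod_cast hV.hq
  rw [hm'sp] at hr'
  refine Submodule.span_induction (p := fun r' _ => ((decompose 𝒜 (φ r')) 0 : R) = 0)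
    ?_ ?_ ?_ ?_ hr'
  · intro y hy
    obtain ⟨j, hj, hyj⟩ := Set.mem_iUnion₂.1 hy
    have h1 : φ y ∈ 𝒜 (j * q) := phi_mem hV hyj
    have hne : j * (q : ℤ) ≠ 0 := (mul_pos hj hq0).ne'
    rw [DirectSum.decompose_of_mem_ne 𝒜 h1 hne]
  · rw [map_zero, DirectSum.decompose_zero]
    rfl
  · intro x y _ _ hx hy
    rw [map_add, DirectSum.decompose_add, DirectSum.add_apply, AddSubgroup.coe_add, hx, hy,
      add_zero]
  · intro s y _ hy
    rw [smul_eq_mul, map_mul, decompose_phi_mul 𝒜 𝒜' hV hpos 0 le_rfl hq0 s (φ y), hy, mul_zero]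

include hV in
theorem decompose_phi (s : R') (j : ℤ) :
    ((decompose 𝒜 (φ s)) (j * q) : R) = φ ((decompose 𝒜' s) j : R') := by
  classical
  have hq0 : (q : ℤ) ≠ 0 := by exact_mod_cast hV.hq.ne'
  induction s using DirectSum.Decomposition.inductionOn 𝒜' with
  | zero => simp only [map_zero, DirectSum.decompose_zero, DirectSum.zero_apply,
      ZeroMemClass.coe_zero]
  | homogeneous s =>
    rename_i l
    have hs : φ (s : R') ∈ 𝒜 (l * q) := phi_mem hV s.2
    by_cases hlj : l = j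
    · subst hlj
      rw [DirectSum.decompose_of_mem_same 𝒜 hs, DirectSum.decompose_of_mem_same 𝒜' s.2]
    · have hne : l * (q : ℤ) ≠ j * q := fun h => hlj (mul_right_cancel₀ hq0 h)
      rw [DirectSum.decompose_of_mem_ne 𝒜 hs hne, DirectSum.decompose_of_mem_ne 𝒜' s.2 hlj,
        map_zero]
  | add s t hs ht =>
    rw [map_add, DirectSum.decompose_add, DirectSum.add_apply, AddSubgroup.coe_add, hs, ht,
      DirectSum.decompose_add, DirectSum.add_apply, AddSubgroup.coe_add, map_add]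

include hV hpos hm'sp in
theorem mem_of_decompose_phi_zero {s : R'} (h : ((decompose 𝒜 (φ s)) 0 : R) = 0) :
    s ∈ m'.toIdeal := by
  classical
  have h1 := decompose_phi 𝒜 𝒜' hV s 0
  rw [zero_mul, h] at h1
  have h2 : ((decompose 𝒜' s) 0 : R') = 0 := hV.hφ (by rw [← h1, map_zero])
  rw [← DirectSum.sum_support_decompose 𝒜' s]
  refine Ideal.sum_mem _ fun j _ => ?_
  rcases lt_trichotomy j 0 with hj | hj | hj
  · rw [eq_zero_of_mem_of_eq_bot (hpos_of_verHyp hV hpos j hj)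
      (SetLike.coe_mem ((decompose 𝒜' s) j))]
    exact zero_mem _
  · rw [hj, h2]
    exact zero_mem _
  · rw [hm'sp]
    exact Ideal.subset_span (Set.mem_iUnion₂.2 ⟨j, hj, SetLike.coe_mem _⟩)

end Main

end Groth.Agent.Lib.T2H3.Ver

namespace Groth.Agent.Lib.T2H3.Ver

open GrLC Groth.Agent.Lib.T2H3.GrLes Groth.Agent.Lib.T2H3.GDual
  Groth.Agent.Lib.Helper29GrShift Groth.Agent.Lib.Helper29GrEss

universe u

section Fin

variable (K : Type u) [Field K] {R R' : Type u} [CommRing R] [CommRing R'] [Algebra K R]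
  [Algebra K R']
  (𝒜 : ℤ → AddSubgroup R) [GradedRing 𝒜] [KGraded K 𝒜]
  (𝒜' : ℤ → AddSubgroup R') [GradedRing 𝒜'] [KGraded K 𝒜']
  {φ : R' →+* R} {q : ℕ} (hV : VerHyp 𝒜 𝒜' φ q)
  (a : ℤ)
  (hpos : ∀ n : ℤ, n < 0 → 𝒜 n = ⊥)
  (hstd : Ideal.span (⋃ n ∈ Set.Ioi (0 : ℤ), (𝒜 n : Set R)) =
    Ideal.span ((𝒜 1 : AddSubgroup R) : Set R))
  (ρ : ℤ) (hρ0 : 0 ≤ ρ) (hρq : ρ < q) (hρa : (q : ℤ) ∣ a - ρ)
  (m' : HomogeneousIdeal 𝒜')
  (hm'sp : m'.toIdeal = Ideal.span (⋃ j ∈ Set.Ioi (0 : ℤ), (𝒜' j : Set R')))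

/-- The component of degree `ρ` of an element of `C'`. -/
def compRho : ↥(Vsub (CGr 𝒜 a) hV) →+ comp 𝒜 𝒜 ρ where
  toFun c := ⟨((decompose 𝒜 (Vval (CGr 𝒜 a) hV c)) ρ : R),
    (show ((decompose 𝒜 (Vval (CGr 𝒜 a) hV c)) ρ : R) ∈ 𝒜 ρ from SetLike.coe_mem _)⟩
  map_zero' := Subtype.ext (by
    change ((decompose 𝒜 (Vval (CGr 𝒜 a) hV 0)) ρ : R) = 0
    rw [map_zero, DirectSum.decompose_zero]
    rfl)
  map_add' c c' := Subtype.ext (by
    change ((decompose 𝒜 (Vval (CGr 𝒜 a) hV (c + c'))) ρ : R) =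
      ((decompose 𝒜 (Vval (CGr 𝒜 a) hV c)) ρ : R) + ((decompose 𝒜 (Vval (CGr 𝒜 a) hV c')) ρ : R)
    rw [map_add, DirectSum.decompose_add, DirectSum.add_apply, AddSubgroup.coe_add])

theorem coe_compRho (c : ↥(Vsub (CGr 𝒜 a) hV)) :
    ((compRho 𝒜 𝒜' hV a ρ c : comp 𝒜 𝒜 ρ) : R) =
      ((decompose 𝒜 (Vval (CGr 𝒜 a) hV c)) ρ : R) := rfl

include K hpos hstd hρ0 hρq hρa hm'sp in
/-- The kernel of the component map is `m' C'`. -/
theorem compRho_eq_zero_iff (c : ↥(Vsub (CGr 𝒜 a) hV)) :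
    compRho 𝒜 𝒜' hV a ρ c = 0 ↔
      c ∈ m'.toIdeal • (⊤ : Submodule R' ↥(Vsub (CGr 𝒜 a) hV)) := by
  classical
  have hq0 : (0 : ℤ) < q := by exact_mod_cast hV.hq
  constructor
  · intro h
    have hx : ((decompose 𝒜 (Vval (CGr 𝒜 a) hV c)) ρ : R) = 0 := by
      rw [← coe_compRho, h]
      rfl
    have hc : c = ∑ n ∈ (decompose 𝒜 (Vval (CGr 𝒜 a) hV c)).support,
        VprojC 𝒜 𝒜' hV a ((decompose 𝒜 (Vval (CGr 𝒜 a) hV c)) n : R) := by
      conv_lhs => rw [← VprojC_Vval 𝒜 𝒜' hV a c,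
        ← DirectSum.sum_support_decompose 𝒜 (Vval (CGr 𝒜 a) hV c), map_sum]
    rw [hc]
    refine Submodule.sum_mem _ fun n _ => ?_
    by_cases hnρ : n = ρ
    · rw [hnρ, hx, map_zero]
      exact zero_mem _
    · refine piece_cases K 𝒜 𝒜' hV a hpos hstd ρ hρ0 hρq hρa
        (fun y => VprojC 𝒜 𝒜' hV a y ∈
          m'.toIdeal • (⊤ : Submodule R' ↥(Vsub (CGr 𝒜 a) hV)))
        (by rw [map_zero]; exact zero_mem _)
        (fun x y hx hy => by rw [map_add]; exact add_mem hx hy) n _ (SetLike.coe_mem _) ?_ ?_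
      · intro hnot
        rw [VprojC_eq_zero 𝒜 𝒜' hV a hnot (SetLike.coe_mem _)]
        exact zero_mem _
      · intro l hl0 hnl r' hr' b hb
        have hl : 0 < l := by
          rcases eq_or_lt_of_le hl0 with h0 | h0
          · exfalso
            apply hnρ
            rw [hnl, ← h0, zero_mul, zero_add]
          · exact h0
        have hr'm : r' ∈ m'.toIdeal := by
          rw [hm'sp]
          exact Ideal.subset_span (Set.mem_iUnion₂.2 ⟨l, hl, hr'⟩)
        rw [VprojC_mul]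
        exact Submodule.smul_mem_smul hr'm Submodule.mem_top
  · intro h
    refine Submodule.smul_induction_on h ?_ ?_
    · intro r hr n _
      apply Subtype.ext
      rw [coe_compRho, Vval_smul, smul_eq_mul, decompose_phi_mul 𝒜 𝒜' hV hpos ρ hρ0 hρq,
        decompose_phi_zero_of_mem 𝒜 𝒜' hV hpos m' hm'sp hr, zero_mul]
      rfl
    · intro x y hx hy
      rw [map_add, hx, hy, add_zero]

include K hpos hstd hρ0 hρq hρa hm'sp in
/-- `dim_{R'/m'} (R'/m' ⊗ C') = dim_{R_0} R_ρ`. -/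
theorem finrank_tensor_CMod :
    Module.finrank (R' ⧸ m'.toIdeal) ((R' ⧸ m'.toIdeal) ⊗[R'] ↥(Vsub (CGr 𝒜 a) hV)) =
      Module.finrank (deg0 𝒜) (comp 𝒜 𝒜 ρ) := by
  classical
  have hq0 : (0 : ℤ) < q := by exact_mod_cast hV.hq
  -- the map `i₀`
  let i₀ : R' → deg0 𝒜 := fun s => ⟨((decompose 𝒜 (φ s)) 0 : R), SetLike.coe_mem _⟩
  have hi₀val : ∀ s, ((i₀ s : deg0 𝒜) : R) = ((decompose 𝒜 (φ s)) 0 : R) := fun _ => rfl
  have hi₀sub : ∀ s t, s - t ∈ m'.toIdeal → i₀ s = i₀ t := by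
    intro s t h
    apply Subtype.ext
    have h1 := decompose_phi_zero_of_mem 𝒜 𝒜' hV hpos m' hm'sp h
    rw [map_sub, DirectSum.decompose_sub, DirectSum.sub_apply, AddSubgroup.coe_sub,
      sub_eq_zero] at h1
    exact h1
  let g : R' ⧸ m'.toIdeal → R' := Function.surjInv Ideal.Quotient.mk_surjective
  have hg : ∀ x, Ideal.Quotient.mk m'.toIdeal (g x) = x :=
    Function.surjInv_eq Ideal.Quotient.mk_surjective
  let i : R' ⧸ m'.toIdeal → deg0 𝒜 := fun x => i₀ (g x)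
  have hi_mk : ∀ s, i (Ideal.Quotient.mk m'.toIdeal s) = i₀ s := by
    intro s
    apply hi₀sub
    rw [← Ideal.Quotient.eq, hg]
  have hi : Function.Bijective i := by
    constructor
    · intro x y hxy
      obtain ⟨s, rfl⟩ := Ideal.Quotient.mk_surjective x
      obtain ⟨t, rfl⟩ := Ideal.Quotient.mk_surjective y
      rw [hi_mk, hi_mk] at hxy
      rw [Ideal.Quotient.eq]
      apply mem_of_decompose_phi_zero 𝒜 𝒜' hV hpos m' hm'sp
      have h1 : ((decompose 𝒜 (φ s)) 0 : R) = ((decompose 𝒜 (φ t)) 0 : R) :=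
        congrArg Subtype.val hxy
      rw [map_sub, DirectSum.decompose_sub, DirectSum.sub_apply, AddSubgroup.coe_sub, h1,
        sub_self]
    · rintro ⟨y, hy⟩
      have hy' : y ∈ (𝒜' 0).map (φ : R' →+ R) := by
        rw [hV.hdeg 0, zero_mul]
        exact hy
      obtain ⟨r', hr', rfl⟩ := hy'
      refine ⟨Ideal.Quotient.mk _ r', ?_⟩
      rw [hi_mk]
      apply Subtype.ext
      exact DirectSum.decompose_of_mem_same 𝒜 hy
  -- the two maps
  let f₁ : ↥(Vsub (CGr 𝒜 a) hV) →+ (R' ⧸ m'.toIdeal) ⊗[R'] ↥(Vsub (CGr 𝒜 a) hV) :=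
    (TensorProduct.mk R' (R' ⧸ m'.toIdeal) ↥(Vsub (CGr 𝒜 a) hV) 1).toAddMonoidHom
  have hf₁ : ∀ c, f₁ c = (1 : R' ⧸ m'.toIdeal) ⊗ₜ[R'] c := fun c => rfl
  have h₁ : Function.Surjective f₁ := by
    intro t
    induction t using TensorProduct.induction_on with
    | zero => exact ⟨0, map_zero f₁⟩
    | tmul x c =>
      obtain ⟨s, rfl⟩ := Ideal.Quotient.mk_surjective x
      refine ⟨s • c, ?_⟩
      rw [hf₁, ← TensorProduct.smul_tmul]
      congr 1
      rw [Algebra.smul_def, Ideal.Quotient.algebraMap_eq, mul_one]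
    | add x y hx hy =>
      obtain ⟨cx, hcx⟩ := hx
      obtain ⟨cy, hcy⟩ := hy
      exact ⟨cx + cy, by rw [map_add, hcx, hcy]⟩
  have h₂ : Function.Surjective (compRho 𝒜 𝒜' hV a ρ) := by
    rintro ⟨y, hy⟩
    have hy' : y ∈ 𝒜 ρ := hy
    have hρmem : ρ - a ∈ Hq q := by
      rw [← neg_sub]
      exact neg_mem (Int.mem_zmultiples_iff.mpr hρa)
    refine ⟨Vmk (CGr 𝒜 a) hV y (mem_Vadd_CGr 𝒜 a hρmem hy'), ?_⟩
    apply Subtype.ext
    rw [coe_compRho, Vval_Vmk]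
    exact DirectSum.decompose_of_mem_same 𝒜 hy'
  have hker : ∀ c, f₁ c = 0 ↔ compRho 𝒜 𝒜' hV a ρ c = 0 := by
    intro c
    rw [compRho_eq_zero_iff K 𝒜 𝒜' hV a hpos hstd ρ hρ0 hρq hρa m' hm'sp c,
      ← (TensorProduct.quotTensorEquivQuotSMul ↥(Vsub (CGr 𝒜 a) hV) m'.toIdeal).map_eq_zero_iff,
      hf₁, TensorProduct.quotTensorEquivQuotSMul_mk_one_tmul, Submodule.Quotient.mk_eq_zero]
  have hs₁ : ∀ (s : R') (c : ↥(Vsub (CGr 𝒜 a) hV)),
      f₁ (s • c) = Ideal.Quotient.mk m'.toIdeal s • f₁ c := by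
    intro s c
    rw [hf₁, hf₁, TensorProduct.smul_tmul', ← TensorProduct.smul_tmul]
    congr 1
  have hs₂ : ∀ (s : R') (c : ↥(Vsub (CGr 𝒜 a) hV)),
      compRho 𝒜 𝒜' hV a ρ (s • c) =
        i (Ideal.Quotient.mk m'.toIdeal s) • compRho 𝒜 𝒜' hV a ρ c := by
    intro s c
    rw [hi_mk]
    apply Subtype.ext
    rw [coe_compRho, Vval_smul, smul_eq_mul, decompose_phi_mul 𝒜 𝒜' hV hpos ρ hρ0 hρq]
    rfl
  have hrank := rank_eq_of_two_surjections' (Ideal.Quotient.mk m'.toIdeal)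
    Ideal.Quotient.mk_surjective i hi f₁ (compRho 𝒜 𝒜' hV a ρ) h₁ h₂ hker hs₁ hs₂
  unfold Module.finrank
  rw [hrank]

end Fin

end Groth.Agent.Lib.T2H3.Ver
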