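import Groth.Agent.Lib.T2H3KunK
import Groth.Agent.Lib.T2H3KunI
import Groth.Agent.Lib.T2H3VerX

/-! Künneth formula for Segre products (helper3), part L: the strand of degree `d` of a *injective
resolution as a complex of vector spaces with the subcomplex of torsion elements; comparison of
its cohomology with the pieces of graded local cohomology. -/

set_option autoImplicit false
set_option linter.unusedSectionVars false
set_option linter.style.haveILetI false
open DirectSum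

noncomputable section

namespace Groth.Agent.Lib.T2H3.Kun

open Groth.Agent.Lib.T2H3.GrTr Groth.Agent.Lib GrLC Groth.Agent.Lib.Helper29GrHom
  Groth.Agent.Lib.Helper29GrGam Groth.Agent.Lib.T2H3.GrLes Groth.Agent.Lib.T2H3.Seg

universe u

/-- Two surjections with the same kernel, one semilinear over a bijection of the scalars, have
targets of the same rank. -/
theorem rank_eq_of_surjections {K₁ k Z V G : Type u} [Ring K₁] [Ring k] [AddCommGroup Z]
    [AddCommGroup V] [AddCommGroup G] [Module k Z] [Module K₁ V] [Module k G] (p : k → K₁)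
    (hp : Function.Bijective p) (f₁ : Z →+ V) (f₂ : Z →+ G) (h₁ : Function.Surjective f₁)
    (h₂ : Function.Surjective f₂) (hker : ∀ z, f₁ z = 0 ↔ f₂ z = 0)
    (hs₁ : ∀ (c : k) (z : Z), f₁ (c • z) = p c • f₁ z)
    (hs₂ : ∀ (c : k) (z : Z), f₂ (c • z) = c • f₂ z) :
    Module.rank K₁ V = Module.rank k G := by
  let e := Equiv.ofBijective p hp
  refine Groth.Agent.Lib.T2H3.Ver.rank_eq_of_two_surjections' p hp.surjective e.symm
    e.symm.bijective f₁ f₂ h₁ h₂ hker hs₁ ?_
  intro s z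
  have h : e.symm (p s) = s := e.symm_apply_apply s
  rw [h, hs₂]

section Deg0

variable {k : Type u} [Field k] {R : Type u} [CommRing R] [Algebra k R]
  (𝒜 : ℤ → Submodule k R) [GradedAlgebra 𝒜]

/-- The map from the field to the degree zero subring. -/
def p0 (c : k) : deg0 𝒜 := ⟨algebraMap k R c, by
  change algebraMap k R c ∈ 𝒜 0
  rw [Algebra.algebraMap_eq_smul_one]
  exact Submodule.smul_mem _ c SetLike.GradedOne.one_mem⟩

theorem coe_p0 (c : k) : ((p0 𝒜 c : deg0 𝒜) : R) = algebraMap k R c := rfl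

theorem p0_bijective [Nontrivial R] (h0 : 𝒜 0 = Submodule.span k {(1 : R)}) :
    Function.Bijective (p0 𝒜) := by
  constructor
  · intro a b hab
    have h1 : algebraMap k R a = algebraMap k R b := congrArg Subtype.val hab
    exact (algebraMap k R).injective h1
  · rintro ⟨r, hr⟩
    have hr' : r ∈ 𝒜 0 := hr
    rw [h0, Submodule.mem_span_singleton] at hr'
    obtain ⟨c, rfl⟩ := hr'
    refine ⟨c, Subtype.ext ?_⟩
    rw [coe_p0, Algebra.algebraMap_eq_smul_one]

theorem p0_smul {L : Type u} [AddCommGroup L] [Module R L] [Module k L] [IsScalarTower k R L]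
    (c : k) (x : L) : p0 𝒜 c • x = c • x := by
  change (algebraMap k R c) • x = c • x
  rw [algebraMap_smul]

end Deg0

section Strand

variable {k : Type u} [Field k] {R : Type u} [CommRing R] [Algebra k R]
  {𝒜 : ℤ → Submodule k R} [GradedAlgebra 𝒜]
variable {M : Type u} [AddCommGroup M] [Module R M] [Module k M] [IsScalarTower k R M]
  {ℳ : ℤ → AddSubgroup M} [DirectSum.Decomposition ℳ] [SetLike.GradedSMul 𝒜 ℳ]
variable (EM : StarInjRes 𝒜 ℳ) [∀ n, Module k (EM.X n).carrier]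
  [∀ n, IsScalarTower k R (EM.X n).carrier]
variable (mR : HomogeneousIdeal 𝒜) (d : ℤ)

/-- The terms of the strand of degree `d`. -/
abbrev Ad (i : ℕ) : Type u := ↥(pcK 𝒜 (EM.X i).gr d)

/-- The differentials of the strand. -/
def dAd (i : ℕ) : Ad EM d i →ₗ[k] Ad EM d (i + 1) :=
  ((EM.d i).restrictScalars k).restrict (fun x hx => EM.d_grHom i d x hx)

theorem coe_dAd (i : ℕ) (x : Ad EM d i) :
    ((dAd EM d i x : Ad EM d (i + 1)) : (EM.X (i + 1)).carrier) = EM.d i (x : (EM.X i).carrier) :=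
  rfl

theorem EM_d_d (i : ℕ) (x : (EM.X i).carrier) : EM.d (i + 1) (EM.d i x) = 0 := by
  have h : EM.d i x ∈ LinearMap.range (EM.d i) := ⟨x, rfl⟩
  rw [← EM.exact_succ] at h
  exact h

theorem dAd_dAd (i : ℕ) (x : Ad EM d i) : dAd EM d (i + 1) (dAd EM d i x) = 0 := by
  apply Subtype.ext
  rw [coe_dAd, coe_dAd]
  exact EM_d_d EM i _

/-- The torsion elements of the strand. -/
def ΓAd (i : ℕ) : Submodule k (Ad EM d i) :=
  ((gam mR.toIdeal (EM.X i).carrier).restrictScalars k).comap (pcK 𝒜 (EM.X i).gr d).subtype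

theorem mem_ΓAd {i : ℕ} {x : Ad EM d i} :
    x ∈ ΓAd EM mR d i ↔ (x : (EM.X i).carrier) ∈ gam mR.toIdeal (EM.X i).carrier := Iff.rfl

theorem ΓAd_stable (i : ℕ) (x : Ad EM d i) (hx : x ∈ ΓAd EM mR d i) :
    dAd EM d i x ∈ ΓAd EM mR d (i + 1) := by
  rw [mem_ΓAd] at hx ⊢
  rw [coe_dAd]
  exact gam_map mR.toIdeal (EM.d i) hx

/-- The homogeneous component of degree `d`, as an element of the strand. -/
def cpt (i : ℕ) (x : (EM.X i).carrier) : Ad EM d i :=
  ⟨((decompose (EM.X i).gr x) d : (EM.X i).carrier), SetLike.coe_mem _⟩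

theorem coe_cpt (i : ℕ) (x : (EM.X i).carrier) :
    ((cpt EM d i x : Ad EM d i) : (EM.X i).carrier) =
      ((decompose (EM.X i).gr x) d : (EM.X i).carrier) := rfl

theorem cpt_coe (i : ℕ) (x : Ad EM d i) : cpt EM d i (x : (EM.X i).carrier) = x :=
  Subtype.ext (DirectSum.decompose_of_mem_same (EM.X i).gr
    (show (x : (EM.X i).carrier) ∈ (EM.X i).gr d from x.2))

theorem dAd_cpt (i : ℕ) (x : (EM.X i).carrier) :
    dAd EM d i (cpt EM d i x) = cpt EM d (i + 1) (EM.d i x) := by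
  apply Subtype.ext
  rw [coe_dAd, coe_cpt, coe_cpt]
  exact (decompose_map (EM.X (i + 1)).gr (EM.X i).gr (EM.d i) (EM.d_grHom i) x d).symm

theorem cpt_mem_ΓAd (i : ℕ) {x : (EM.X i).carrier} (hx : x ∈ gam mR.toIdeal (EM.X i).carrier) :
    cpt EM d i x ∈ ΓAd EM mR d i := by
  rw [mem_ΓAd, coe_cpt]
  exact gam_isHomogeneous (asGr 𝒜) (EM.X i).gr (hiTo 𝒜 mR) d hx

theorem exAd (i : ℕ) : LinearMap.ker (dAd EM d (i + 1)) = LinearMap.range (dAd EM d i) := by
  apply le_antisymm
  · intro x hx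
    have h1 : EM.d (i + 1) (x : (EM.X (i + 1)).carrier) = 0 := by
      have := congrArg Subtype.val (LinearMap.mem_ker.mp hx)
      exact this
    have h2 : (x : (EM.X (i + 1)).carrier) ∈ LinearMap.ker (EM.d (i + 1)) :=
      LinearMap.mem_ker.mpr h1
    rw [EM.exact_succ] at h2
    obtain ⟨y, hy⟩ := h2
    refine ⟨cpt EM d i y, ?_⟩
    rw [dAd_cpt, hy, cpt_coe]
  · rintro _ ⟨y, rfl⟩
    exact LinearMap.mem_ker.mpr (dAd_dAd EM d i y)

/-- Cocycles of the torsion subcomplex are cocycles of `Γ(E^•)`. -/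
theorem coe_mem_cocyc {i : ℕ} (z : ↥(Zs (dAd EM d) (ΓAd EM mR d) i)) :
    ((z : Ad EM d i) : (EM.X i).carrier) ∈ EM.cocyc mR i := by
  have h := (mem_Zs _ _).mp z.2
  refine Submodule.mem_inf.mpr ⟨h.1, LinearMap.mem_ker.mpr ?_⟩
  have := congrArg Subtype.val h.2
  exact this

theorem coe_mem_cobdy_iff {i : ℕ} (z : Ad EM d i) :
    (z : (EM.X i).carrier) ∈ EM.cobdy mR i ↔ z ∈ Bs (dAd EM d) (ΓAd EM mR d) i := by
  cases i with
  | zero =>
    rw [mem_Bs_zero]
    change (z : (EM.X 0).carrier) ∈ (⊥ : Submodule R (EM.X 0).carrier) ↔ _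
    rw [Submodule.mem_bot]
    constructor
    · intro h
      exact Subtype.ext h
    · intro h
      rw [h]
      rfl
  | succ n =>
    rw [mem_Bs_succ]
    constructor
    · rintro ⟨y, hy, hyz⟩
      refine ⟨cpt EM d n y, cpt_mem_ΓAd EM mR d n hy, ?_⟩
      rw [dAd_cpt]
      have h1 : EM.d n y = (z : (EM.X (n + 1)).carrier) := hyz
      rw [h1, cpt_coe]
    · rintro ⟨y, hy, rfl⟩
      exact ⟨(y : (EM.X n).carrier), hy, rfl⟩

variable [Nontrivial R] (h0 : 𝒜 0 = Submodule.span k {(1 : R)})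

include h0 in
/-- The cohomology of the torsion subcomplex of the strand is the piece of local cohomology. -/
theorem rank_Hs_ΓAd (i : ℕ) :
    Module.rank (deg0 𝒜) (EM.Hcomp mR i d) =
      Module.rank k (Hs (dAd EM d) (ΓAd EM mR d) i) := by
  let f₁ : ↥(Zs (dAd EM d) (ΓAd EM mR d) i) →+ EM.Hcomp mR i d :=
    { toFun := fun z => ⟨EM.toH mR i ⟨((z : Ad EM d i) : (EM.X i).carrier),
        coe_mem_cocyc EM mR d z⟩, ⟨_, (show ((z : Ad EM d i) : (EM.X i).carrier) ∈ (EM.X i).gr d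
          from (z : Ad EM d i).2), rfl⟩⟩
      map_zero' := by
        apply Subtype.ext
        change EM.toH mR i ⟨0, _⟩ = 0
        exact map_zero (EM.toH mR i)
      map_add' := fun x y => by
        apply Subtype.ext
        change EM.toH mR i ⟨_, _⟩ = EM.toH mR i ⟨_, _⟩ + EM.toH mR i ⟨_, _⟩
        rw [← map_add]
        rfl }
  have hf₁ : ∀ z, ((f₁ z : EM.Hcomp mR i d) : EM.H mR i) =
      EM.toH mR i ⟨((z : Ad EM d i) : (EM.X i).carrier), coe_mem_cocyc EM mR d z⟩ := fun z => rfl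
  refine rank_eq_of_surjections (p0 𝒜) (p0_bijective 𝒜 h0) f₁
    (toHs (dAd EM d) (ΓAd EM mR d) i).toAddMonoidHom ?_ (toHs_surjective _ _ i) ?_ ?_ ?_
  · rintro ⟨x, w, hw, rfl⟩
    have hw2 := Submodule.mem_inf.mp w.2
    refine ⟨⟨⟨(w : (EM.X i).carrier), hw⟩, (mem_Zs _ _).mpr ⟨hw2.1, ?_⟩⟩, ?_⟩
    · apply Subtype.ext
      rw [coe_dAd]
      exact LinearMap.mem_ker.mp hw2.2
    · apply Subtype.ext
      rfl
  · intro z
    have e1 : f₁ z = 0 ↔ ((f₁ z : EM.Hcomp mR i d) : EM.H mR i) = 0 := by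
      constructor
      · intro h
        rw [h]
        rfl
      · intro h
        exact Subtype.ext h
    rw [e1, hf₁, toH_eq_zero_iff']
    change _ ↔ toHs (dAd EM d) (ΓAd EM mR d) i z = 0
    rw [toHs_eq_zero_iff]
    exact coe_mem_cobdy_iff EM mR d (z : Ad EM d i)
  · intro c z
    apply Subtype.ext
    rw [hf₁]
    change _ = (p0 𝒜 c : R) • ((f₁ z : EM.Hcomp mR i d) : EM.H mR i)
    rw [hf₁, ← map_smul]
    congr 1
    apply Subtype.ext
    change c • ((z : Ad EM d i) : (EM.X i).carrier) =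
      (algebraMap k R c) • ((z : Ad EM d i) : (EM.X i).carrier)
    rw [algebraMap_smul]
  · intro c z
    exact map_smul (toHs (dAd EM d) (ΓAd EM mR d) i) c z

omit [Nontrivial R] in
/-- Vanishing of a piece of local cohomology in terms of the strand. -/
theorem Zs_le_Bs_of_Hcomp_eq_bot (i : ℕ) (h : EM.Hcomp mR i d = ⊥) :
    Zs (dAd EM d) (ΓAd EM mR d) i ≤ Bs (dAd EM d) (ΓAd EM mR d) i := by
  intro z hz
  rw [← coe_mem_cobdy_iff]
  have h1 : EM.toH mR i ⟨(z : (EM.X i).carrier), coe_mem_cocyc EM mR d ⟨z, hz⟩⟩ ∈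
      EM.Hcomp mR i d :=
    ⟨_, (show (z : (EM.X i).carrier) ∈ (EM.X i).gr d from z.2), rfl⟩
  rw [h, Submodule.mem_bot] at h1
  exact (toH_eq_zero_iff' EM mR i _).mp h1

omit [Nontrivial R] in
theorem EM_d_ε (m : M) : EM.d 0 (EM.ε m) = 0 := by
  have h : EM.ε m ∈ LinearMap.range EM.ε := ⟨m, rfl⟩
  rw [← EM.exact_zero] at h
  exact h

include h0 in
/-- The cohomology in degree `0` of the strand is the piece of the module. -/
theorem rank_Hs_top_zero :
    Module.rank (deg0 𝒜) (comp 𝒜 ℳ d) =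
      Module.rank k (Hs (dAd EM d) (topU (Ad EM d)) 0) := by
  let f₁ : ↥(pcK 𝒜 ℳ d) →+ comp 𝒜 ℳ d :=
    { toFun := fun z => ⟨(z : M), z.2⟩
      map_zero' := rfl
      map_add' := fun _ _ => rfl }
  have hmem : ∀ z : ↥(pcK 𝒜 ℳ d), (⟨EM.ε (z : M), EM.ε_grHom d _ z.2⟩ : Ad EM d 0) ∈
      Zs (dAd EM d) (topU (Ad EM d)) 0 := by
    intro z
    refine (mem_Zs _ _).mpr ⟨Submodule.mem_top, Subtype.ext ?_⟩
    rw [coe_dAd]
    exact EM_d_ε EM _
  let f₂ : ↥(pcK 𝒜 ℳ d) →+ Hs (dAd EM d) (topU (Ad EM d)) 0 :=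
    { toFun := fun z => toHs (dAd EM d) (topU (Ad EM d)) 0 ⟨_, hmem z⟩
      map_zero' := by
        have e : (⟨_, hmem 0⟩ : ↥(Zs (dAd EM d) (topU (Ad EM d)) 0)) = 0 := by
          apply Subtype.ext
          apply Subtype.ext
          change EM.ε ((0 : ↥(pcK 𝒜 ℳ d)) : M) = 0
          rw [ZeroMemClass.coe_zero, map_zero]
        rw [e, map_zero]
      map_add' := fun x y => by
        rw [← map_add]
        congr 1
        apply Subtype.ext
        apply Subtype.ext
        change EM.ε ((x + y : ↥(pcK 𝒜 ℳ d)) : M) = EM.ε (x : M) + EM.ε (y : M)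
        rw [Submodule.coe_add, map_add] }
  have hf₂ : ∀ z, f₂ z = toHs (dAd EM d) (topU (Ad EM d)) 0 ⟨_, hmem z⟩ := fun z => rfl
  refine rank_eq_of_surjections (p0 𝒜) (p0_bijective 𝒜 h0) f₁ f₂ ?_ ?_ ?_ ?_ ?_
  · rintro ⟨m, hm⟩
    exact ⟨⟨m, hm⟩, rfl⟩
  · intro y
    obtain ⟨w, rfl⟩ := toHs_surjective _ _ 0 y
    have hw := ((mem_Zs _ _).mp w.2).2
    have h1 : EM.d 0 ((w : Ad EM d 0) : (EM.X 0).carrier) = 0 := by
      have := congrArg Subtype.val hw
      exact this
    have h2 : ((w : Ad EM d 0) : (EM.X 0).carrier) ∈ LinearMap.ker (EM.d 0) :=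
      LinearMap.mem_ker.mpr h1
    rw [EM.exact_zero] at h2
    obtain ⟨m, hm⟩ := h2
    refine ⟨⟨((decompose ℳ m) d : M), SetLike.coe_mem _⟩, ?_⟩
    rw [hf₂]
    congr 1
    apply Subtype.ext
    apply Subtype.ext
    change EM.ε ((decompose ℳ m) d : M) = ((w : Ad EM d 0) : (EM.X 0).carrier)
    rw [← decompose_map (EM.X 0).gr ℳ EM.ε EM.ε_grHom m d, hm]
    exact DirectSum.decompose_of_mem_same (EM.X 0).gr
      (show ((w : Ad EM d 0) : (EM.X 0).carrier) ∈ (EM.X 0).gr d from (w : Ad EM d 0).2)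
  · intro z
    rw [hf₂, toHs_eq_zero_iff, mem_Bs_zero]
    constructor
    · intro h
      have h1 : (z : M) = 0 := congrArg Subtype.val h
      apply Subtype.ext
      change EM.ε (z : M) = 0
      rw [h1, map_zero]
    · intro h
      have h1 : EM.ε (z : M) = 0 := congrArg Subtype.val h
      have h2 : (z : M) = 0 := EM.ε_injective (by rw [h1, map_zero])
      apply Subtype.ext
      exact h2
  · intro c z
    apply Subtype.ext
    change c • (z : M) = (algebraMap k R c) • (z : M)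
    rw [algebraMap_smul]
  · intro c z
    rw [hf₂, hf₂, ← map_smul]
    congr 1
    apply Subtype.ext
    apply Subtype.ext
    change EM.ε (c • (z : M)) = c • EM.ε (z : M)
    rw [← algebraMap_smul R c (z : M), map_smul, algebraMap_smul]

end Strand

section Finite

variable {k : Type u} [Field k]

/-- Finiteness from an equality of ranks. -/
theorem finite_of_rank_eq {K₁ V G : Type u} [CommRing K₁] [Nontrivial K₁] [AddCommGroup V]
    [Module K₁ V] [Module.Finite K₁ V] [AddCommGroup G] [Module k G]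
    (h : Module.rank K₁ V = Module.rank k G) : Module.Finite k G := by
  rw [← Module.rank_lt_aleph0_iff, ← h]
  exact Module.rank_lt_aleph0 K₁ V

theorem finrank_eq_of_rank_eq' {K₁ V G : Type u} [Ring K₁] [AddCommGroup V]
    [Module K₁ V] [AddCommGroup G] [Module k G]
    (h : Module.rank K₁ V = Module.rank k G) : Module.finrank K₁ V = Module.finrank k G :=
  congrArg Cardinal.toNat h

end Finite

end Groth.Agent.Lib.T2H3.Kun
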