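import Groth.Agent.Lib.T2H3SegE

/-! Segre products of graded modules (helper3), part G: the `T_+`-torsion of the Segre product of
two split modules. -/

set_option autoImplicit false
set_option linter.unusedSectionVars false
set_option linter.style.haveILetI false
open DirectSum
open scoped TensorProduct

noncomputable section

namespace Groth.Agent.Lib.T2H3.Seg

open Groth.Agent.Lib.T2H3.GrTr Groth.Agent.Lib Groth.Agent.Lib.LeadSP
  Groth.Agent.Lib.Helper29LCAcyclic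

universe u

variable {k : Type u} [Field k] {R S T : Type u} [CommRing R] [CommRing S] [CommRing T]
  [Algebra k R] [Algebra k S] [Algebra k T]
  {𝒜 : ℤ → Submodule k R} [GradedAlgebra 𝒜] {ℬ : ℤ → Submodule k S} [GradedAlgebra ℬ]
  {𝒯 : ℤ → Submodule k T} [GradedAlgebra 𝒯] {ψ : T →ₐ[k] R ⊗[k] S}
variable {A : Type u} [AddCommGroup A] [Module R A] [Module k A] [IsScalarTower k R A]
  {𝓐 : ℤ → AddSubgroup A} [DirectSum.Decomposition 𝓐] [SetLike.GradedSMul 𝒜 𝓐]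
variable {B : Type u} [AddCommGroup B] [Module S B] [Module k B] [IsScalarTower k S B]
  {𝓑 : ℤ → AddSubgroup B} [DirectSum.Decomposition 𝓑] [SetLike.GradedSMul ℬ 𝓑]
variable (hT : GrSeg.IsSegreRing 𝒜 ℬ 𝒯 ψ)
variable {mR : HomogeneousIdeal 𝒜} {mS : HomogeneousIdeal ℬ} {δ : ℤ}
  (GA : Good 𝒜 mR 𝓐 δ) (GB : Good ℬ mS 𝓑 δ)
variable [IsNoetherianRing R] [IsNoetherianRing S] [IsNoetherianRing T]
  (hposT : ∀ n : ℤ, n < 0 → 𝒯 n = ⊥)
  (mT : HomogeneousIdeal 𝒯) (hmT : mT.toIdeal = LeadSeg.irr 𝒯)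
  (hirrR : ∀ n : ℤ, 0 < n → ∀ r ∈ 𝒜 n, r ∈ mR.toIdeal)
  (hirrS : ∀ n : ℤ, 0 < n → ∀ s ∈ ℬ n, s ∈ mS.toIdeal)

theorem Eij_range_eq_zero_of_pow_smul (i : Fin (GA.n + 1)) (hi : i ≠ 0) (j : Fin (GB.n + 1))
    (hj : j ≠ 0) {t : T} (ht : ψ t = GA.x i ⊗ₜ[k] GB.x j) (n : ℕ) :
    ∀ w : ↥(seg 𝓐 𝓑 hT), Eij hT GA GB i j w = w → t ^ n • w = 0 → w = 0 := by
  induction n with
  | zero =>
    intro w _ h
    rwa [pow_zero, one_smul] at h
  | succ n ih =>
    intro w hw h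
    apply ih w hw
    have h1 : Eij hT GA GB i j (t ^ n • w) = t ^ n • w := by rw [map_smul, hw]
    rw [← h1, ← Nij_smul hT GA GB i hi j hj ht, ← mul_smul, ← pow_succ', h, map_zero]

include hmT in
/-- Torsion elements have no component on the parts where some element of `T_+` is bijective. -/
theorem Eij_eq_zero_of_mem_gam (hδ : 0 < δ) (i : Fin (GA.n + 1)) (hi : i ≠ 0)
    (j : Fin (GB.n + 1)) (hj : j ≠ 0) (z : ↥(seg 𝓐 𝓑 hT))
    (hz : z ∈ GrLC.gam mT.toIdeal ↥(seg 𝓐 𝓑 hT)) : Eij hT GA GB i j z = 0 := by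
  obtain ⟨t, ht, htψ⟩ := exists_tij hT GA GB i hi j hj
  have htm : t ∈ mT.toIdeal := by
    rw [hmT]
    exact mem_irr_of_mem 𝒯 hδ ht
  obtain ⟨n, hn⟩ := hz
  refine Eij_range_eq_zero_of_pow_smul hT GA GB i hi j hj htψ n _ (Eij_Eij hT GA GB i j z) ?_
  rw [← map_smul, hn _ (Ideal.pow_mem_pow htm n), map_zero]

include hmT GA GB in
/-- A pair of maps killing the torsion of the factors kills the torsion of the Segre product. -/
theorem map_sval_eq_zero_of_mem_gam (hδ : 0 < δ) {A' B' : Type u} [AddCommGroup A'] [Module k A']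
    [AddCommGroup B'] [Module k B'] (f : A →ₗ[k] A') (g : B →ₗ[k] B')
    (hf : ∀ a ∈ GrLC.gam mR.toIdeal A, f a = 0) (hg : ∀ b ∈ GrLC.gam mS.toIdeal B, g b = 0)
    (z : ↥(seg 𝓐 𝓑 hT)) (hz : z ∈ GrLC.gam mT.toIdeal ↥(seg 𝓐 𝓑 hT)) :
    TensorProduct.map f g (sval 𝓐 𝓑 hT z) = 0 := by
  have h1 : sval 𝓐 𝓑 hT z = ∑ p ∈ (Finset.univ : Finset (Fin (GA.n + 1) × Fin (GB.n + 1))),
      sval 𝓐 𝓑 hT (Eij hT GA GB p.1 p.2 z) := by
    rw [← map_sum, ← LinearMap.sum_apply, sum_Eij, LinearMap.id_apply]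
  rw [h1, map_sum]
  refine Finset.sum_eq_zero fun p _ => ?_
  by_cases hp1 : p.1 = 0
  · rw [sval_Eij, ← LinearMap.comp_apply, ← TensorProduct.map_comp, hp1]
    have h2 : f ∘ₗ (GA.e 0).restrictScalars k = 0 := by
      apply LinearMap.ext
      intro a
      exact hf _ (GA.e_tors a)
    rw [h2, TensorProduct.map_zero_left, LinearMap.zero_apply]
  by_cases hp2 : p.2 = 0
  · rw [sval_Eij, ← LinearMap.comp_apply, ← TensorProduct.map_comp, hp2]
    have h2 : g ∘ₗ (GB.e 0).restrictScalars k = 0 := by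
      apply LinearMap.ext
      intro b
      exact hg _ (GB.e_tors b)
    rw [h2, TensorProduct.map_zero_right, LinearMap.zero_apply]
  · rw [Eij_eq_zero_of_mem_gam hT GA GB mT hmT hδ p.1 hp1 p.2 hp2 z hz, map_zero, map_zero]

include hT hposT hmT hirrR in
/-- Elements of the Segre product lying in `Γ(A) ⊗ B` are torsion. -/
theorem mem_gam_of_sval_mem_range_left (z : ↥(seg 𝓐 𝓑 hT))
    (hz : sval 𝓐 𝓑 hT z ∈ LinearMap.range (TensorProduct.map
      ((GrLC.gam mR.toIdeal A).subtype.restrictScalars k) (LinearMap.id : B →ₗ[k] B))) :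
    z ∈ GrLC.gam mT.toIdeal ↥(seg 𝓐 𝓑 hT) := by
  apply mem_gam_subtype
  obtain ⟨w, hw⟩ := hz
  change toTW ψ A B (sval 𝓐 𝓑 hT z) ∈ _
  rw [← hw]
  clear hw
  induction w using TensorProduct.induction_on with
  | zero => rw [map_zero, map_zero]; exact zero_mem _
  | tmul a b =>
    rw [TensorProduct.map_tmul]
    exact tmul_mem_gam_left hT hposT mT hmT mR hirrR a.2 b
  | add x y hx hy => rw [map_add, map_add]; exact add_mem hx hy

end Groth.Agent.Lib.T2H3.Seg
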