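import Groth.Agent.Lib.T2H3KunL
import Groth.Agent.Lib.T2H3KunJ
import Groth.Agent.Lib.T2H3SegG

/-! Künneth formula for Segre products (helper3), part M: the double complex `E^i # F^j` of the
Segre products of the terms of two *injective resolutions, and the maps from the tensor products of
the strands of degree `d`. -/

set_option autoImplicit false
set_option linter.unusedSectionVars false
set_option linter.style.haveILetI false
open DirectSum
open scoped TensorProduct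

noncomputable section

namespace Groth.Agent.Lib.T2H3.Kun

open Groth.Agent.Lib.T2H3.GrTr Groth.Agent.Lib Groth.Agent.Lib.LeadSP
  Groth.Agent.Lib.Helper29LCAcyclic GrLC Groth.Agent.Lib.Helper29GrHom
  Groth.Agent.Lib.Helper29GrGam Groth.Agent.Lib.T2H3.GrLes Groth.Agent.Lib.T2H3.Seg

universe u

variable {k : Type u} [Field k] {R S T : Type u} [CommRing R] [CommRing S] [CommRing T]
  [Algebra k R] [Algebra k S] [Algebra k T]
  {𝒜 : ℤ → Submodule k R} [GradedAlgebra 𝒜] {ℬ : ℤ → Submodule k S} [GradedAlgebra ℬ]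
  {𝒯 : ℤ → Submodule k T} [GradedAlgebra 𝒯] {ψ : T →ₐ[k] R ⊗[k] S}
  [IsNoetherianRing R] [IsNoetherianRing S] [IsNoetherianRing T]
variable {M : Type u} [AddCommGroup M] [Module R M] [Module k M] [IsScalarTower k R M]
  {ℳ : ℤ → AddSubgroup M} [DirectSum.Decomposition ℳ] [SetLike.GradedSMul 𝒜 ℳ]
variable {N : Type u} [AddCommGroup N] [Module S N] [Module k N] [IsScalarTower k S N]
  {𝒩 : ℤ → AddSubgroup N} [DirectSum.Decomposition 𝒩] [SetLike.GradedSMul ℬ 𝒩]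
variable {P : Type u} [AddCommGroup P] [Module T P] [Module k P] [IsScalarTower k T P]
  {𝒬 : ℤ → AddSubgroup P} [DirectSum.Decomposition 𝒬] [SetLike.GradedSMul 𝒯 𝒬]
variable (EM : StarInjRes 𝒜 ℳ) [∀ n, Module k (EM.X n).carrier]
  [∀ n, IsScalarTower k R (EM.X n).carrier]
variable (EN : StarInjRes ℬ 𝒩) [∀ n, Module k (EN.X n).carrier]
  [∀ n, IsScalarTower k S (EN.X n).carrier]
variable (φ : P →ₗ[k] M ⊗[k] N) (mR : HomogeneousIdeal 𝒜) (mS : HomogeneousIdeal ℬ)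
  (mT : HomogeneousIdeal 𝒯) (δ : ℤ)

theorem map_map_comm {V V' W W' : Type u} [AddCommGroup V] [Module k V] [AddCommGroup V']
    [Module k V'] [AddCommGroup W] [Module k W] [AddCommGroup W'] [Module k W']
    (f : V →ₗ[k] V') (g : W →ₗ[k] W') (t : V ⊗[k] W) :
    TensorProduct.map (LinearMap.id : V' →ₗ[k] V') g (TensorProduct.map f LinearMap.id t) =
      TensorProduct.map f (LinearMap.id : W' →ₗ[k] W')
        (TensorProduct.map LinearMap.id g t) :=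
  tensor_ext_apply (TensorProduct.map (LinearMap.id : V' →ₗ[k] V') g ∘ₗ
    TensorProduct.map f LinearMap.id) (TensorProduct.map f (LinearMap.id : W' →ₗ[k] W') ∘ₗ
    TensorProduct.map LinearMap.id g) (fun _ _ => rfl) t

/-- The data of the Künneth comparison. -/
structure K2Setup where
  hT : GrSeg.IsSegreRing 𝒜 ℬ 𝒯 ψ
  hP : GrSeg.IsSegreMod ψ ℳ 𝒩 𝒬 φ
  hposT : ∀ n : ℤ, n < 0 → 𝒯 n = ⊥
  hmT : mT.toIdeal = LeadSeg.irr 𝒯
  hirrR : ∀ n : ℤ, 0 < n → ∀ r ∈ 𝒜 n, r ∈ mR.toIdeal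
  hirrS : ∀ n : ℤ, 0 < n → ∀ s ∈ ℬ n, s ∈ mS.toIdeal
  hδ : 0 < δ
  GA : ∀ n, Good 𝒜 mR (EM.X n).gr δ
  GB : ∀ n, Good ℬ mS (EN.X n).gr δ

namespace K2Setup

variable {EM EN φ mR mS mT δ} (K : K2Setup (ψ := ψ) (𝒬 := 𝒬) EM EN φ mR mS mT δ)

/-- The terms `E^i # F^j`, bundled. -/
abbrev WG (p : ℕ × ℕ) : GMod.{u} (asGr 𝒯) := segG (EM.X p.1).gr (EN.X p.2).gr K.hT

/-- The terms `E^i # F^j`. -/
abbrev W : ℕ × ℕ → Type u := fun p => ↥(seg (EM.X p.1).gr (EN.X p.2).gr K.hT)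

/-- The horizontal differentials. -/
def d₁ (i j : ℕ) : K.W (i, j) →ₗ[T] K.W (i + 1, j) :=
  segMap (EM.X i).gr (EN.X j).gr K.hT (EM.X (i + 1)).gr (EN.X j).gr (EM.d i) LinearMap.id
    (EM.d_grHom i) (isGrHom_id _)

/-- The vertical differentials. -/
def d₂ (i j : ℕ) : K.W (i, j) →ₗ[T] K.W (i, j + 1) :=
  segMap (EM.X i).gr (EN.X j).gr K.hT (EM.X i).gr (EN.X (j + 1)).gr LinearMap.id (EN.d j)
    (isGrHom_id _) (EN.d_grHom j)

/-- The underlying tensor. -/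
abbrev sv (p : ℕ × ℕ) : K.W p →ₗ[k] (EM.X p.1).carrier ⊗[k] (EN.X p.2).carrier :=
  sval (EM.X p.1).gr (EN.X p.2).gr K.hT

theorem sv_injective (p : ℕ × ℕ) : Function.Injective (K.sv p) :=
  sval_injective (EM.X p.1).gr (EN.X p.2).gr K.hT

theorem sv_d₁ (i j : ℕ) (x : K.W (i, j)) :
    K.sv (i + 1, j) (K.d₁ i j x) =
      TensorProduct.map ((EM.d i).restrictScalars k) LinearMap.id (K.sv (i, j) x) := rfl

theorem sv_d₂ (i j : ℕ) (x : K.W (i, j)) :
    K.sv (i, j + 1) (K.d₂ i j x) =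
      TensorProduct.map LinearMap.id ((EN.d j).restrictScalars k) (K.sv (i, j) x) := rfl

theorem h11 (i j : ℕ) (x : K.W (i, j)) : K.d₁ (i + 1) j (K.d₁ i j x) = 0 := by
  apply K.sv_injective
  rw [sv_d₁, sv_d₁, ← LinearMap.comp_apply, ← TensorProduct.map_comp]
  have h : (EM.d (i + 1)).restrictScalars k ∘ₗ (EM.d i).restrictScalars k = 0 :=
    LinearMap.ext fun a => EM_d_d EM i a
  rw [h, TensorProduct.map_zero_left, LinearMap.zero_apply, map_zero]

theorem h22 (i j : ℕ) (x : K.W (i, j)) : K.d₂ i (j + 1) (K.d₂ i j x) = 0 := by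
  apply K.sv_injective
  rw [sv_d₂, sv_d₂, ← LinearMap.comp_apply, ← TensorProduct.map_comp]
  have h : (EN.d (j + 1)).restrictScalars k ∘ₗ (EN.d j).restrictScalars k = 0 :=
    LinearMap.ext fun a => EM_d_d EN j a
  rw [h, TensorProduct.map_zero_right, LinearMap.zero_apply, map_zero]

theorem h12 (i j : ℕ) (x : K.W (i, j)) :
    K.d₂ (i + 1) j (K.d₁ i j x) = K.d₁ i (j + 1) (K.d₂ i j x) := by
  apply K.sv_injective
  rw [sv_d₂, sv_d₁, sv_d₁, sv_d₂]
  exact map_map_comm _ _ _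

theorem d₁_isGrHom (i j : ℕ) : IsGrHom (K.WG (i, j)).gr (K.WG (i + 1, j)).gr (K.d₁ i j) :=
  segMap_isGrHom (EM.X i).gr (EN.X j).gr K.hT (EM.X (i + 1)).gr (EN.X j).gr (EM.d i) LinearMap.id
    (EM.d_grHom i) (isGrHom_id _)

theorem d₂_isGrHom (i j : ℕ) : IsGrHom (K.WG (i, j)).gr (K.WG (i, j + 1)).gr (K.d₂ i j) :=
  segMap_isGrHom (EM.X i).gr (EN.X j).gr K.hT (EM.X i).gr (EN.X (j + 1)).gr LinearMap.id (EN.d j)
    (isGrHom_id _) (EN.d_grHom j)

section J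

variable (d : ℤ)

/-- The inclusion of the tensor product of the strands of degree `d`. -/
def ιι (EM : StarInjRes 𝒜 ℳ) [∀ n, Module k (EM.X n).carrier]
    [∀ n, IsScalarTower k R (EM.X n).carrier] (EN : StarInjRes ℬ 𝒩)
    [∀ n, Module k (EN.X n).carrier] [∀ n, IsScalarTower k S (EN.X n).carrier] (d : ℤ)
    (p : ℕ × ℕ) :
    Tn k (Ad EM d) (Ad EN d) p →ₗ[k] (EM.X p.1).carrier ⊗[k] (EN.X p.2).carrier :=
  TensorProduct.map (pcK 𝒜 (EM.X p.1).gr d).subtype (pcK ℬ (EN.X p.2).gr d).subtype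

theorem ιι_tmul (i j : ℕ) (a : Ad EM d i) (b : Ad EN d j) :
    ιι EM EN d (i, j) (a ⊗ₜ[k] b) = (a : (EM.X i).carrier) ⊗ₜ[k] (b : (EN.X j).carrier) := rfl

theorem ιι_injective (p : ℕ × ℕ) : Function.Injective (ιι EM EN d p) :=
  TensorProduct.map_injective_of_flat_flat _ _ (Submodule.injective_subtype _)
    (Submodule.injective_subtype _)

theorem ιι_mem_piece (p : ℕ × ℕ) (w : Tn k (Ad EM d) (Ad EN d) p) :
    ιι EM EN d p w ∈ GrSeg.segrePiece k (EM.X p.1).gr (EN.X p.2).gr d := by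
  induction w using TensorProduct.induction_on with
  | zero => rw [map_zero]; exact zero_mem _
  | tmul a b => exact tmul_mem_piece _ _ a.2 b.2
  | add x y hx hy => rw [map_add]; exact add_mem hx hy

theorem exists_ιι_eq (p : ℕ × ℕ) {v : (EM.X p.1).carrier ⊗[k] (EN.X p.2).carrier}
    (hv : v ∈ GrSeg.segrePiece k (EM.X p.1).gr (EN.X p.2).gr d) : ∃ w, ιι EM EN d p w = v := by
  induction hv using Submodule.span_induction with
  | mem x hx =>
    obtain ⟨a, ha, b, hb, rfl⟩ := hx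
    exact ⟨(⟨a, ha⟩ : Ad EM d p.1) ⊗ₜ[k] (⟨b, hb⟩ : Ad EN d p.2), rfl⟩
  | zero => exact ⟨0, map_zero _⟩
  | add x y _ _ hx hy =>
    obtain ⟨w₁, rfl⟩ := hx
    obtain ⟨w₂, rfl⟩ := hy
    exact ⟨w₁ + w₂, map_add _ _ _⟩
  | smul c x _ hx =>
    obtain ⟨w, rfl⟩ := hx
    exact ⟨c • w, map_smul _ _ _⟩

/-- The maps from the tensor products of the strands to the Segre products. -/
def J (p : ℕ × ℕ) : Tn k (Ad EM d) (Ad EN d) p →ₗ[k] K.W p where
  toFun w := smk (EM.X p.1).gr (EN.X p.2).gr K.hT (ιι EM EN d p w)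
    (piece_le_segK _ _ d (ιι_mem_piece d p w))
  map_add' x y := K.sv_injective p (by
    change ιι EM EN d p (x + y) = ιι EM EN d p x + ιι EM EN d p y
    rw [map_add])
  map_smul' c x := K.sv_injective p (by
    change ιι EM EN d p (c • x) = c • ιι EM EN d p x
    rw [map_smul])

theorem sv_J (p : ℕ × ℕ) (w : Tn k (Ad EM d) (Ad EN d) p) : K.sv p (K.J d p w) = ιι EM EN d p w :=
  rfl

theorem J_injective (p : ℕ × ℕ) : Function.Injective (K.J d p) := by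
  intro x y h
  apply ιι_injective d p
  rw [← K.sv_J, ← K.sv_J, h]

theorem J_mem (p : ℕ × ℕ) (w : Tn k (Ad EM d) (Ad EN d) p) : K.J d p w ∈ (K.WG p).gr d :=
  ιι_mem_piece d p w

theorem exists_J_eq (p : ℕ × ℕ) (z : K.W p) (hz : z ∈ (K.WG p).gr d) : ∃ w, K.J d p w = z := by
  obtain ⟨w, hw⟩ := exists_ιι_eq d p (show K.sv p z ∈ _ from hz)
  exact ⟨w, K.sv_injective p hw⟩

theorem J_t₁ (i j : ℕ) (w : Tn k (Ad EM d) (Ad EN d) (i, j)) :
    K.J d (i + 1, j) (t₁ (dAd EM d) i j w) = K.d₁ i j (K.J d (i, j) w) := by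
  apply K.sv_injective
  rw [sv_J, sv_d₁, sv_J]
  exact tensor_ext_apply (ιι EM EN d (i + 1, j) ∘ₗ t₁ (dAd EM d) i j)
    (TensorProduct.map ((EM.d i).restrictScalars k) LinearMap.id ∘ₗ ιι EM EN d (i, j))
    (fun _ _ => rfl) w

theorem J_t₂ (i j : ℕ) (w : Tn k (Ad EM d) (Ad EN d) (i, j)) :
    K.J d (i, j + 1) (t₂ (dAd EN d) i j w) = K.d₂ i j (K.J d (i, j) w) := by
  apply K.sv_injective
  rw [sv_J, sv_d₂, sv_J]
  exact tensor_ext_apply (ιι EM EN d (i, j + 1) ∘ₗ t₂ (dAd EN d) i j)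
    (TensorProduct.map LinearMap.id ((EN.d j).restrictScalars k) ∘ₗ ιι EM EN d (i, j))
    (fun _ _ => rfl) w

/-- The component of degree `d`, as a `k`-linear map. -/
def cptL (EM : StarInjRes 𝒜 ℳ) [∀ n, Module k (EM.X n).carrier]
    [∀ n, IsScalarTower k R (EM.X n).carrier] (d : ℤ) (i : ℕ) :
    (EM.X i).carrier →ₗ[k] Ad EM d i :=
  LinearMap.codRestrict (pcK 𝒜 (EM.X i).gr d) (prK 𝒜 (EM.X i).gr d)
    (fun x => prK_mem 𝒜 (EM.X i).gr d x)

theorem cptL_apply (i : ℕ) (x : (EM.X i).carrier) : cptL EM d i x = cpt EM d i x := rfl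

theorem cptL_coe (i : ℕ) (x : Ad EM d i) : cptL EM d i (x : (EM.X i).carrier) = x :=
  cpt_coe EM d i x

theorem map_mem_gam_right' {A B : Type u} [AddCommGroup A] [Module R A] [Module k A]
    [IsScalarTower k R A] [AddCommGroup B] [Module S B] [Module k B] [IsScalarTower k S B]
    (hT : GrSeg.IsSegreRing 𝒜 ℬ 𝒯 ψ) (hposT : ∀ n : ℤ, n < 0 → 𝒯 n = ⊥)
    (mT : HomogeneousIdeal 𝒯) (hmT : mT.toIdeal = LeadSeg.irr 𝒯) (mS : HomogeneousIdeal ℬ)
    (hirrS : ∀ n : ℤ, 0 < n → ∀ s ∈ ℬ n, s ∈ mS.toIdeal)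
    {A₀ B₀ : Type u} [AddCommGroup A₀] [Module k A₀] [AddCommGroup B₀]
    [Module k B₀] (f : A₀ →ₗ[k] A) (g : B₀ →ₗ[k] B) (hg : ∀ b, g b ∈ gam mS.toIdeal B)
    (w : A₀ ⊗[k] B₀) : toTW ψ A B (TensorProduct.map f g w) ∈ gam mT.toIdeal (TW ψ A B) := by
  induction w using TensorProduct.induction_on with
  | zero => rw [map_zero, map_zero]; exact zero_mem _
  | tmul a b =>
    rw [TensorProduct.map_tmul]
    exact tmul_mem_gam_right hT hposT mT hmT mS hirrS (f a) (hg b)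
  | add x y hx hy => rw [map_add, map_add]; exact add_mem hx hy

/-- The torsion elements of `E^i # F^j` of degree `d`. -/
theorem J_mem_gam_iff (p : ℕ × ℕ) (w : Tn k (Ad EM d) (Ad EN d) p) :
    K.J d p w ∈ gam mT.toIdeal (K.W p) ↔ pT (ΓAd EM mR d) (ΓAd EN mS d) p w = 0 := by
  constructor
  · intro h
    let f : (EM.X p.1).carrier →ₗ[k] QA (ΓAd EM mR d) p.1 :=
      qA (ΓAd EM mR d) p.1 ∘ₗ cptL EM d p.1
    let g : (EN.X p.2).carrier →ₗ[k] QA (ΓAd EN mS d) p.2 :=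
      qA (ΓAd EN mS d) p.2 ∘ₗ cptL EN d p.2
    have hf : ∀ a ∈ gam mR.toIdeal (EM.X p.1).carrier, f a = 0 := fun a ha =>
      (qA_eq_zero_iff _).mpr (cpt_mem_ΓAd EM mR d p.1 ha)
    have hg : ∀ b ∈ gam mS.toIdeal (EN.X p.2).carrier, g b = 0 := fun b hb =>
      (qA_eq_zero_iff _).mpr (cpt_mem_ΓAd EN mS d p.2 hb)
    have h1 := map_sval_eq_zero_of_mem_gam K.hT (K.GA p.1) (K.GB p.2) mT K.hmT K.hδ f g hf hg
      (K.J d p w) h
    have h2 : K.sv p (K.J d p w) = ιι EM EN d p w := rfl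
    rw [h2] at h1
    rw [← h1]
    exact tensor_ext_apply (pT (ΓAd EM mR d) (ΓAd EN mS d) p)
      (TensorProduct.map f g ∘ₗ ιι EM EN d p) (fun a b => by
        rw [LinearMap.comp_apply]
        change (qA (ΓAd EM mR d) p.1 a) ⊗ₜ[k] (qA (ΓAd EN mS d) p.2 b) =
          (qA (ΓAd EM mR d) p.1 (cptL EM d p.1 (a : (EM.X p.1).carrier))) ⊗ₜ[k]
            (qA (ΓAd EN mS d) p.2 (cptL EN d p.2 (b : (EN.X p.2).carrier)))
        rw [cptL_coe, cptL_coe]) w
  · intro h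
    have hker := TensorProduct.map_ker (LinearMap.exact_subtype_mkQ (ΓAd EM mR d p.1))
      (qA_surjective (ΓAd EM mR d) p.1) (LinearMap.exact_subtype_mkQ (ΓAd EN mS d p.2))
      (qA_surjective (ΓAd EN mS d) p.2)
    have hw : w ∈ LinearMap.ker (TensorProduct.map (qA (ΓAd EM mR d) p.1)
        (qA (ΓAd EN mS d) p.2)) := LinearMap.mem_ker.mpr h
    rw [hker] at hw
    obtain ⟨w₁, ⟨v₁, rfl⟩, w₂, ⟨v₂, rfl⟩, rfl⟩ := Submodule.mem_sup.mp hw
    rw [map_add]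
    refine add_mem ?_ ?_
    · apply mem_gam_subtype
      change toTW ψ _ _ (ιι EM EN d p (LinearMap.lTensor _ (ΓAd EN mS d p.2).subtype v₁)) ∈ _
      have e1 : ιι EM EN d p (LinearMap.lTensor _ (ΓAd EN mS d p.2).subtype v₁) =
          TensorProduct.map (pcK 𝒜 (EM.X p.1).gr d).subtype
            ((pcK ℬ (EN.X p.2).gr d).subtype ∘ₗ (ΓAd EN mS d p.2).subtype) v₁ := by
        unfold ιι LinearMap.lTensor
        rw [← LinearMap.comp_apply, ← TensorProduct.map_comp]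
        rfl
      rw [e1]
      exact map_mem_gam_right' K.hT K.hposT mT K.hmT mS K.hirrS _ _ (fun b => b.2) v₁
    · apply mem_gam_subtype
      change toTW ψ _ _ (ιι EM EN d p (LinearMap.rTensor _ (ΓAd EM mR d p.1).subtype v₂)) ∈ _
      have e1 : ιι EM EN d p (LinearMap.rTensor _ (ΓAd EM mR d p.1).subtype v₂) =
          TensorProduct.map ((pcK 𝒜 (EM.X p.1).gr d).subtype ∘ₗ (ΓAd EM mR d p.1).subtype)
            (pcK ℬ (EN.X p.2).gr d).subtype v₂ := by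
        unfold ιι LinearMap.rTensor
        rw [← LinearMap.comp_apply, ← TensorProduct.map_comp]
        rfl
      rw [e1]
      exact map_mem_gam_left' K.hT K.hposT mT K.hmT K.hirrR _ (fun a => a.2) _ v₂

end J

end K2Setup

end Groth.Agent.Lib.T2H3.Kun
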