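import Groth.Agent.Lib.T2H3KunM

/-! Künneth formula for Segre products (helper3), part N: the total complex of `E^i # F^j` is a
resolution of `M # N` by graded modules acyclic for `Γ_{T_+}`. -/

set_option autoImplicit false
set_option linter.unusedSectionVars false
set_option linter.style.haveILetI false
open DirectSum
open scoped TensorProduct

noncomputable section

namespace Groth.Agent.Lib.T2H3.Kun

open Groth.Agent.Lib.T2H3.GrTr Groth.Agent.Lib Groth.Agent.Lib.LeadSP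
  Groth.Agent.Lib.Helper29LCAcyclic GrLC Groth.Agent.Lib.Helper29GrHom
  Groth.Agent.Lib.Helper29GrGam Groth.Agent.Lib.T2H3.GrLes Groth.Agent.Lib.T2H3.Seg

universe u

variable {k : Type u} [Field k] {R S T : Type u} [CommRing R] [CommRing S] [CommRing T]
  [Algebra k R] [Algebra k S] [Algebra k T]
  {𝒜 : ℤ → Submodule k R} [GradedAlgebra 𝒜] {ℬ : ℤ → Submodule k S} [GradedAlgebra ℬ]
  {𝒯 : ℤ → Submodule k T} [GradedAlgebra 𝒯] {ψ : T →ₐ[k] R ⊗[k] S}
  [IsNoetherianRing R] [IsNoetherianRing S] [IsNoetherianRing T]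
variable {M : Type u} [AddCommGroup M] [Module R M] [Module k M] [IsScalarTower k R M]
  {ℳ : ℤ → AddSubgroup M} [DirectSum.Decomposition ℳ] [SetLike.GradedSMul 𝒜 ℳ]
variable {N : Type u} [AddCommGroup N] [Module S N] [Module k N] [IsScalarTower k S N]
  {𝒩 : ℤ → AddSubgroup N} [DirectSum.Decomposition 𝒩] [SetLike.GradedSMul ℬ 𝒩]
variable {P : Type u} [AddCommGroup P] [Module T P] [Module k P] [IsScalarTower k T P]
  {𝒬 : ℤ → AddSubgroup P} [DirectSum.Decomposition 𝒬] [SetLike.GradedSMul 𝒯 𝒬]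
variable {EM : StarInjRes 𝒜 ℳ} [∀ n, Module k (EM.X n).carrier]
  [∀ n, IsScalarTower k R (EM.X n).carrier]
variable {EN : StarInjRes ℬ 𝒩} [∀ n, Module k (EN.X n).carrier]
  [∀ n, IsScalarTower k S (EN.X n).carrier]
variable {φ : P →ₗ[k] M ⊗[k] N} {mR : HomogeneousIdeal 𝒜} {mS : HomogeneousIdeal ℬ}
  {mT : HomogeneousIdeal 𝒯} {δ : ℤ}

namespace K2Setup

variable (K : K2Setup (ψ := ψ) (𝒬 := 𝒬) EM EN φ mR mS mT δ)

section OJ

variable (d : ℤ)

/-- The componentwise map from the total complex of the strands of degree `d`. -/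
def OJ (f : Om (Tn k (Ad EM d) (Ad EN d))) : Om K.W := fun p => K.J d p (f p)

theorem OJ_apply (f : Om (Tn k (Ad EM d) (Ad EN d))) (p : ℕ × ℕ) : K.OJ d f p = K.J d p (f p) :=
  rfl

theorem OJ_D (f : Om (Tn k (Ad EM d) (Ad EN d))) :
    K.OJ d (D (t₁ (dAd EM d)) (t₂ (dAd EN d)) f) = D K.d₁ K.d₂ (K.OJ d f) := by
  funext p
  exact map_D (t₁ (dAd EM d)) (t₂ (dAd EN d)) K.d₁ K.d₂ (fun q => (K.J d q).toAddMonoidHom)
    (fun i j w => K.J_t₁ d i j w) (fun i j w => K.J_t₂ d i j w) f p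

theorem OJ_injective : Function.Injective (K.OJ d) := by
  intro f g h
  funext p
  exact K.J_injective d p (congrFun h p)

theorem OJ_mem_Xn_iff (n : ℕ) (f : Om (Tn k (Ad EM d) (Ad EN d))) :
    K.OJ d f ∈ Xn T K.W n ↔ f ∈ Xn k (Tn k (Ad EM d) (Ad EN d)) n := by
  constructor
  · intro h p hp
    apply K.J_injective d p
    rw [map_zero]
    exact h p hp
  · intro h p hp
    rw [OJ_apply, h p hp, map_zero]

theorem exists_OJ_eq (x : Om K.W) (hx : ∀ p, x p ∈ (K.WG p).gr d) : ∃ f, K.OJ d f = x := by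
  choose f hf using fun p => K.exists_J_eq d p (x p) (hx p)
  exact ⟨f, funext hf⟩

theorem OJ_mem (f : Om (Tn k (Ad EM d) (Ad EN d))) (p : ℕ × ℕ) : K.OJ d f p ∈ (K.WG p).gr d :=
  K.J_mem d p (f p)

/-- Exactness of the total complex on homogeneous elements, in positive degrees. -/
theorem exists_of_homog (n : ℕ) (x : XC T K.W (n + 1))
    (hx : ∀ p, (x : Om K.W) p ∈ (K.WG p).gr d) (hD : D K.d₁ K.d₂ (x : Om K.W) = 0) :
    ∃ y : XC T K.W n, (∀ p, (y : Om K.W) p ∈ (K.WG p).gr d) ∧ Dn K.d₁ K.d₂ n y = x := by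
  obtain ⟨f, hf⟩ := K.exists_OJ_eq d (x : Om K.W) hx
  have hfX : f ∈ Xn k (Tn k (Ad EM d) (Ad EN d)) (n + 1) := by
    rw [← K.OJ_mem_Xn_iff, hf]
    exact x.2
  have hDf : D (t₁ (dAd EM d)) (t₂ (dAd EN d)) f = 0 := by
    apply K.OJ_injective d
    rw [K.OJ_D, hf, hD]
    funext p
    exact (map_zero (K.J d p)).symm
  have h1 : (⟨f, hfX⟩ : XC k (Tn k (Ad EM d) (Ad EN d)) (n + 1)) ∈
      LinearMap.ker (Dn (t₁ (dAd EM d)) (t₂ (dAd EN d)) (n + 1)) :=
    LinearMap.mem_ker.mpr (Subtype.ext hDf)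
  rw [tot_exact (dAd_dAd EM d) (dAd_dAd EN d) (exAd EM d) (exAd EN d) n] at h1
  obtain ⟨u, hu⟩ := h1
  have hu' : D (t₁ (dAd EM d)) (t₂ (dAd EN d)) (u : Om (Tn k (Ad EM d) (Ad EN d))) = f :=
    congrArg Subtype.val hu
  refine ⟨⟨K.OJ d (u : Om (Tn k (Ad EM d) (Ad EN d))), (K.OJ_mem_Xn_iff d n _).mpr u.2⟩,
    fun p => K.OJ_mem d _ p, Subtype.ext ?_⟩
  rw [coe_Dn]
  change D K.d₁ K.d₂ (K.OJ d (u : Om (Tn k (Ad EM d) (Ad EN d)))) = (x : Om K.W)
  rw [← K.OJ_D, hu', hf]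

end OJ

section Exact

theorem exact_succ (n : ℕ) :
    LinearMap.ker (Dn K.d₁ K.d₂ (n + 1)) = LinearMap.range (Dn K.d₁ K.d₂ n) := by
  apply le_antisymm
  · refine ker_le_range_of_homog K.WG K.d₁ K.d₂ K.d₁_isGrHom K.d₂_isGrHom n ?_
    intro d x hx hD
    obtain ⟨y, -, hy⟩ := K.exists_of_homog d n x hx (congrArg Subtype.val hD)
    exact ⟨y, hy⟩
  · rintro _ ⟨y, rfl⟩
    exact LinearMap.mem_ker.mpr (Dn_Dn _ _ K.h11 K.h22 K.h12 n y)

/-- The augmentation to `E^0 # F^0`. -/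
def ε₀ : P →ₗ[T] K.W (0, 0) :=
  segMap ℳ 𝒩 K.hT (EM.X 0).gr (EN.X 0).gr EM.ε EN.ε EM.ε_grHom EN.ε_grHom ∘ₗ
    pIso ℳ 𝒩 K.hT 𝒬 φ K.hP

theorem ε₀_injective : Function.Injective K.ε₀ :=
  (segMap_injective ℳ 𝒩 (EM.X 0).gr (EN.X 0).gr K.hT EM.ε EN.ε EM.ε_grHom EN.ε_grHom
    EM.ε_injective EN.ε_injective).comp (pIso_injective ℳ 𝒩 K.hT 𝒬 φ K.hP)

theorem ε₀_mem {d : ℤ} {y : P} (hy : y ∈ 𝒬 d) : K.ε₀ y ∈ (K.WG (0, 0)).gr d :=
  segMap_isGrHom ℳ 𝒩 K.hT (EM.X 0).gr (EN.X 0).gr EM.ε EN.ε EM.ε_grHom EN.ε_grHom d _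
    (pIso_mem ℳ 𝒩 K.hT 𝒬 φ K.hP hy)

theorem single_mem_Xn_zero (w : K.W (0, 0)) :
    (Pi.single (0, 0) w : Om K.W) ∈ Xn T K.W 0 := by
  intro q hq
  refine Pi.single_eq_of_ne ?_ _
  rintro rfl
  exact hq rfl

/-- The augmentation of the total complex. -/
def εX : P →ₗ[T] XC T K.W 0 :=
  LinearMap.codRestrict (Xn T K.W 0) (LinearMap.single T K.W (0, 0) ∘ₗ K.ε₀)
    (fun y => K.single_mem_Xn_zero (K.ε₀ y))

theorem εX_zero (y : P) : ((K.εX y : XC T K.W 0) : Om K.W) (0, 0) = K.ε₀ y := by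
  change (Pi.single (0, 0) (K.ε₀ y) : Om K.W) (0, 0) = K.ε₀ y
  exact Pi.single_eq_same _ _

theorem εX_injective : Function.Injective K.εX := by
  intro y y' h
  apply K.ε₀_injective
  rw [← K.εX_zero, ← K.εX_zero, h]

theorem εX_isGrHom : IsGrHom (asGr 𝒬) (XG K.WG 0).gr K.εX := by
  intro d y hy q
  by_cases hq : q = (0, 0)
  · subst hq
    change ((K.εX y : XC T K.W 0) : Om K.W) (0, 0) ∈ _
    rw [K.εX_zero]
    exact K.ε₀_mem hy
  · have h1 : ((K.εX y : XC T K.W 0) : Om K.W) q = 0 := Pi.single_eq_of_ne hq _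
    change ((K.εX y : XC T K.W 0) : Om K.W) q ∈ _
    rw [h1]
    exact zero_mem _

/-- Cocycles of degree `0` of a double complex. -/
theorem D_eq_zero_iff_of_Xn_zero {x : Om K.W} (hx : x ∈ Xn T K.W 0) :
    D K.d₁ K.d₂ x = 0 ↔ K.d₁ 0 0 (x (0, 0)) = 0 ∧ K.d₂ 0 0 (x (0, 0)) = 0 := by
  have hs : ∀ y : K.W (0, 1), sgn 0 y = y := fun y => by
    unfold sgn
    rw [pow_zero, one_smul]
  constructor
  · intro h
    have h1 := congrFun h (1, 0)
    have h2 := congrFun h (0, 1)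
    rw [D_succ_zero] at h1
    rw [D_zero_succ, hs] at h2
    exact ⟨h1, h2⟩
  · rintro ⟨e1, e2⟩
    funext p
    obtain ⟨i, j⟩ := p
    rcases i with _ | i <;> rcases j with _ | j
    · exact D_zero_zero _ _ x
    · rw [D_zero_succ]
      rcases j with _ | j
      · rw [e2, sgn_zero]; rfl
      · rw [hx (0, j + 1) (by simp), map_zero, sgn_zero]; rfl
    · rw [D_succ_zero]
      rcases i with _ | i
      · rw [e1]; rfl
      · rw [hx (i + 1, 0) (by simp), map_zero]; rfl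
    · rw [D_succ_succ, hx (i, j + 1) (by simp), hx (i + 1, j) (by simp), map_zero, map_zero,
        sgn_zero, add_zero]
      rfl

theorem D_εX (y : P) : D K.d₁ K.d₂ ((K.εX y : XC T K.W 0) : Om K.W) = 0 := by
  rw [K.D_eq_zero_iff_of_Xn_zero (K.εX y).2, K.εX_zero]
  constructor
  · apply K.sv_injective
    rw [sv_d₁, map_zero]
    change TensorProduct.map ((EM.d 0).restrictScalars k) LinearMap.id
      (TensorProduct.map (EM.ε.restrictScalars k) (EN.ε.restrictScalars k) _) = 0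
    rw [← LinearMap.comp_apply, ← TensorProduct.map_comp]
    have h : (EM.d 0).restrictScalars k ∘ₗ EM.ε.restrictScalars k = 0 :=
      LinearMap.ext fun m => EM_d_ε EM m
    rw [h, TensorProduct.map_zero_left, LinearMap.zero_apply]
  · apply K.sv_injective
    rw [sv_d₂, map_zero]
    change TensorProduct.map LinearMap.id ((EN.d 0).restrictScalars k)
      (TensorProduct.map (EM.ε.restrictScalars k) (EN.ε.restrictScalars k) _) = 0
    rw [← LinearMap.comp_apply, ← TensorProduct.map_comp]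
    have h : (EN.d 0).restrictScalars k ∘ₗ EN.ε.restrictScalars k = 0 :=
      LinearMap.ext fun m => EM_d_ε EN m
    rw [h, TensorProduct.map_zero_right, LinearMap.zero_apply]

theorem exact_zero : LinearMap.ker (Dn K.d₁ K.d₂ 0) = LinearMap.range K.εX := by
  apply le_antisymm
  · intro x hx
    have hD : D K.d₁ K.d₂ (x : Om K.W) = 0 := congrArg Subtype.val (LinearMap.mem_ker.mp hx)
    obtain ⟨e1, e2⟩ := (K.D_eq_zero_iff_of_Xn_zero x.2).mp hD
    -- first variable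
    have h1 : (x : Om K.W) (0, 0) ∈ LinearMap.ker (segMap (EM.X 0).gr (EN.X 0).gr K.hT
        (EM.X 1).gr (EN.X 0).gr (EM.d 0) LinearMap.id (EM.d_grHom 0) (isGrHom_id _)) :=
      LinearMap.mem_ker.mpr e1
    rw [segMap_exact_left ℳ (EN.X 0).gr (EM.X 0).gr K.hT (EM.X 1).gr EM.ε (EM.d 0) EM.ε_grHom
      (EM.d_grHom 0) EM.exact_zero] at h1
    obtain ⟨y, hy⟩ := h1
    -- second variable
    have h2 : segMap ℳ (EN.X 0).gr K.hT ℳ (EN.X 1).gr LinearMap.id (EN.d 0) (isGrHom_id _)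
        (EN.d_grHom 0) y = 0 := by
      apply segMap_injective ℳ (EN.X 1).gr (EM.X 0).gr (EN.X 1).gr K.hT EM.ε LinearMap.id
        EM.ε_grHom (isGrHom_id _) EM.ε_injective (fun _ _ h => h)
      rw [map_zero]
      have h3 : K.d₂ 0 0 ((x : Om K.W) (0, 0)) = 0 := e2
      rw [← hy] at h3
      apply sval_injective (EM.X 0).gr (EN.X 1).gr K.hT
      rw [map_zero]
      have h4 := congrArg (K.sv (0, 1)) h3
      rw [map_zero] at h4
      rw [← h4]
      rw [sval_segMap, sval_segMap, sv_d₂, sval_segMap]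
      exact (map_map_comm _ _ _).symm
    have h5 : y ∈ LinearMap.ker (segMap ℳ (EN.X 0).gr K.hT ℳ (EN.X 1).gr LinearMap.id (EN.d 0)
        (isGrHom_id _) (EN.d_grHom 0)) := LinearMap.mem_ker.mpr h2
    rw [segMap_exact_right ℳ 𝒩 (EN.X 0).gr K.hT (EN.X 1).gr EN.ε (EN.d 0) EN.ε_grHom
      (EN.d_grHom 0) EN.exact_zero] at h5
    obtain ⟨y', hy'⟩ := h5
    obtain ⟨p, hp⟩ := pIso_surjective ℳ 𝒩 K.hT 𝒬 φ K.hP y'
    refine ⟨p, ?_⟩
    apply Subtype.ext
    funext q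
    by_cases hq : q = (0, 0)
    · subst hq
      rw [K.εX_zero, ← hy, ← hy']
      change segMap ℳ 𝒩 K.hT (EM.X 0).gr (EN.X 0).gr EM.ε EN.ε EM.ε_grHom EN.ε_grHom
        (pIso ℳ 𝒩 K.hT 𝒬 φ K.hP p) = _
      rw [hp]
      apply sval_injective (EM.X 0).gr (EN.X 0).gr K.hT
      rw [sval_segMap, sval_segMap, sval_segMap]
      exact tensor_ext_apply (TensorProduct.map (EM.ε.restrictScalars k) (EN.ε.restrictScalars k))
        (TensorProduct.map (EM.ε.restrictScalars k) LinearMap.id ∘ₗ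
          TensorProduct.map LinearMap.id (EN.ε.restrictScalars k)) (fun _ _ => rfl) _
    · have h1 : ((K.εX p : XC T K.W 0) : Om K.W) q = 0 := Pi.single_eq_of_ne hq _
      rw [h1]
      have h6 : q.1 + q.2 ≠ 0 := by
        intro h7
        apply hq
        apply Prod.ext
        · simp only
          omega
        · simp only
          omega
      exact (x.2 q h6).symm
  · rintro _ ⟨y, rfl⟩
    exact LinearMap.mem_ker.mpr (Subtype.ext (K.D_εX y))

end Exact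

/-- The total complex of `E^i # F^j` as an acyclic resolution of `M # N`. -/
def toAR : AR 𝒯 𝒬 mT where
  XG n := XG K.WG n
  dX n := Dn K.d₁ K.d₂ n
  εX := K.εX
  dX_isGrHom := Dn_isGrHom K.WG K.d₁ K.d₂ K.d₁_isGrHom K.d₂_isGrHom
  εX_isGrHom := K.εX_isGrHom
  εX_injective := K.εX_injective
  exact_zero := K.exact_zero
  exact_succ := K.exact_succ
  hacycX n j x := LC_XC_eq_zero mT.toIdeal (j + 1) n (fun p y =>
    LC_seg_eq_zero K.hT (K.GA p.1) (K.GB p.2) K.hposT mT K.hmT K.hirrR K.hirrS K.hδ j y) x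

end K2Setup

end Groth.Agent.Lib.T2H3.Kun
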