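import Groth.Agent.Lib.T2H3KunN

/-! Künneth formula for Segre products (helper3), part O: the pieces of `H_{T_+}(M # N)` are the
cohomology of the subcomplex `ΓA ⊗ B + A ⊗ ΓB` of the tensor product of the strands. -/

set_option autoImplicit false
set_option linter.unusedSectionVars false
set_option linter.style.haveILetI false
open DirectSum
open scoped TensorProduct

noncomputable section

namespace Groth.Agent.Lib.T2H3.Kun

open Groth.Agent.Lib.T2H3.GrTr Groth.Agent.Lib Groth.Agent.Lib.LeadSP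
  Groth.Agent.Lib.Helper29LCAcyclic GrLC Groth.Agent.Lib.Helper29GrHom
  Groth.Agent.Lib.Helper29GrGam Groth.Agent.Lib.T2H3.GrLes Groth.Agent.Lib.T2H3.Seg

universe u

variable {k : Type u} [Field k] {R S T : Type u} [CommRing R] [CommRing S] [CommRing T]
  [Algebra k R] [Algebra k S] [Algebra k T]
  {𝒜 : ℤ → Submodule k R} [GradedAlgebra 𝒜] {ℬ : ℤ → Submodule k S} [GradedAlgebra ℬ]
  {𝒯 : ℤ → Submodule k T} [GradedAlgebra 𝒯] {ψ : T →ₐ[k] R ⊗[k] S}
  [IsNoetherianRing R] [IsNoetherianRing S] [IsNoetherianRing T]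
variable {M : Type u} [AddCommGroup M] [Module R M] [Module k M] [IsScalarTower k R M]
  {ℳ : ℤ → AddSubgroup M} [DirectSum.Decomposition ℳ] [SetLike.GradedSMul 𝒜 ℳ]
variable {N : Type u} [AddCommGroup N] [Module S N] [Module k N] [IsScalarTower k S N]
  {𝒩 : ℤ → AddSubgroup N} [DirectSum.Decomposition 𝒩] [SetLike.GradedSMul ℬ 𝒩]
variable {P : Type u} [AddCommGroup P] [Module T P] [Module k P] [IsScalarTower k T P]
  {𝒬 : ℤ → AddSubgroup P} [DirectSum.Decomposition 𝒬] [SetLike.GradedSMul 𝒯 𝒬]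
variable {EM : StarInjRes 𝒜 ℳ} [∀ n, Module k (EM.X n).carrier]
  [∀ n, IsScalarTower k R (EM.X n).carrier]
variable {EN : StarInjRes ℬ 𝒩} [∀ n, Module k (EN.X n).carrier]
  [∀ n, IsScalarTower k S (EN.X n).carrier]
variable {φ : P →ₗ[k] M ⊗[k] N} {mR : HomogeneousIdeal 𝒜} {mS : HomogeneousIdeal ℬ}
  {mT : HomogeneousIdeal 𝒯} {δ : ℤ}

namespace K2Setup

variable (K : K2Setup (ψ := ψ) (𝒬 := 𝒬) EM EN φ mR mS mT δ) (d : ℤ)

/-- The map from the total complex of the strands to the total complex of the Segre products. -/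
def Jn (n : ℕ) : XC k (Tn k (Ad EM d) (Ad EN d)) n →+ XC T K.W n where
  toFun w := ⟨K.OJ d (w : Om (Tn k (Ad EM d) (Ad EN d))), (K.OJ_mem_Xn_iff d n _).mpr w.2⟩
  map_zero' := by
    apply Subtype.ext
    funext p
    exact map_zero (K.J d p)
  map_add' x y := by
    apply Subtype.ext
    funext p
    exact map_add (K.J d p) _ _

theorem coe_Jn (n : ℕ) (w : XC k (Tn k (Ad EM d) (Ad EN d)) n) (p : ℕ × ℕ) :
    ((K.Jn d n w : XC T K.W n) : Om K.W) p =
      K.J d p ((w : Om (Tn k (Ad EM d) (Ad EN d))) p) := rfl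

theorem Jn_injective (n : ℕ) : Function.Injective (K.Jn d n) := by
  intro x y h
  apply Subtype.ext
  exact K.OJ_injective d (congrArg Subtype.val h)

theorem Jn_D (n : ℕ) (w : XC k (Tn k (Ad EM d) (Ad EN d)) n) :
    Dn K.d₁ K.d₂ n (K.Jn d n w) = K.Jn d (n + 1) (Dn (t₁ (dAd EM d)) (t₂ (dAd EN d)) n w) := by
  apply Subtype.ext
  exact (K.OJ_D d (w : Om (Tn k (Ad EM d) (Ad EN d)))).symm

theorem Jn_mem_gr (n : ℕ) (w : XC k (Tn k (Ad EM d) (Ad EN d)) n) :
    K.Jn d n w ∈ grX K.WG n d := fun p => K.OJ_mem d _ p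

theorem exists_Jn_eq (n : ℕ) (x : XC T K.W n) (hx : x ∈ grX K.WG n d) :
    ∃ w, K.Jn d n w = x := by
  obtain ⟨f, hf⟩ := K.exists_OJ_eq d (x : Om K.W) hx
  have hfX : f ∈ Xn k (Tn k (Ad EM d) (Ad EN d)) n := by
    rw [← K.OJ_mem_Xn_iff, hf]
    exact x.2
  exact ⟨⟨f, hfX⟩, Subtype.ext hf⟩

theorem Jn_mem_gam_iff (n : ℕ) (w : XC k (Tn k (Ad EM d) (Ad EN d)) n) :
    K.Jn d n w ∈ gam mT.toIdeal (XC T K.W n) ↔
      w ∈ kerU (pn (ΓAd EM mR d) (ΓAd EN mS d)) n := by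
  rw [mem_gam_XC_iff]
  constructor
  · intro h
    apply LinearMap.mem_ker.mpr
    apply Subtype.ext
    funext p
    rw [coe_pn]
    exact (K.J_mem_gam_iff d p _).mp (h p)
  · intro h p
    rw [coe_Jn, K.J_mem_gam_iff]
    have h1 := congrFun (congrArg Subtype.val (LinearMap.mem_ker.mp h)) p
    rw [coe_pn] at h1
    exact h1

theorem Jn_smul (n : ℕ) (c : k) (w : XC k (Tn k (Ad EM d) (Ad EN d)) n) :
    K.Jn d n (c • w) = (algebraMap k T c) • K.Jn d n w := by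
  apply Subtype.ext
  funext p
  change K.J d p (c • (w : Om (Tn k (Ad EM d) (Ad EN d))) p) =
    (algebraMap k T c) • K.J d p ((w : Om (Tn k (Ad EM d) (Ad EN d))) p)
  rw [map_smul, algebraMap_smul]

end K2Setup

end Groth.Agent.Lib.T2H3.Kun
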