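import Groth.Agent.Lib.T2H3KunO

/-! Künneth formula for Segre products (helper3), part P: the rank of a piece of `H_{T_+}(M # N)`
is the rank of the cohomology of the subcomplex `ΓA ⊗ B + A ⊗ ΓB` of the tensor product of the
strands. -/

set_option autoImplicit false
set_option linter.unusedSectionVars false
set_option linter.style.haveILetI false
open DirectSum
open scoped TensorProduct

noncomputable section

namespace Groth.Agent.Lib.T2H3.Kun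

open Groth.Agent.Lib.T2H3.GrTr Groth.Agent.Lib Groth.Agent.Lib.LeadSP
  Groth.Agent.Lib.Helper29LCAcyclic GrLC Groth.Agent.Lib.Helper29GrHom
  Groth.Agent.Lib.Helper29GrGam Groth.Agent.Lib.T2H3.GrLes Groth.Agent.Lib.T2H3.Seg

universe u

variable {k : Type u} [Field k] {R S T : Type u} [CommRing R] [CommRing S] [CommRing T]
  [Algebra k R] [Algebra k S] [Algebra k T]
  {𝒜 : ℤ → Submodule k R} [GradedAlgebra 𝒜] {ℬ : ℤ → Submodule k S} [GradedAlgebra ℬ]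
  {𝒯 : ℤ → Submodule k T} [GradedAlgebra 𝒯] {ψ : T →ₐ[k] R ⊗[k] S}
  [IsNoetherianRing R] [IsNoetherianRing S] [IsNoetherianRing T]
variable {M : Type u} [AddCommGroup M] [Module R M] [Module k M] [IsScalarTower k R M]
  {ℳ : ℤ → AddSubgroup M} [DirectSum.Decomposition ℳ] [SetLike.GradedSMul 𝒜 ℳ]
variable {N : Type u} [AddCommGroup N] [Module S N] [Module k N] [IsScalarTower k S N]
  {𝒩 : ℤ → AddSubgroup N} [DirectSum.Decomposition 𝒩] [SetLike.GradedSMul ℬ 𝒩]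
variable {P : Type u} [AddCommGroup P] [Module T P] [Module k P] [IsScalarTower k T P]
  {𝒬 : ℤ → AddSubgroup P} [DirectSum.Decomposition 𝒬] [SetLike.GradedSMul 𝒯 𝒬]
variable {EM : StarInjRes 𝒜 ℳ} [∀ n, Module k (EM.X n).carrier]
  [∀ n, IsScalarTower k R (EM.X n).carrier]
variable {EN : StarInjRes ℬ 𝒩} [∀ n, Module k (EN.X n).carrier]
  [∀ n, IsScalarTower k S (EN.X n).carrier]
variable {φ : P →ₗ[k] M ⊗[k] N} {mR : HomogeneousIdeal 𝒜} {mS : HomogeneousIdeal ℬ}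
  {mT : HomogeneousIdeal 𝒯} {δ : ℤ}

namespace K2Setup

variable (K : K2Setup (ψ := ψ) (𝒬 := 𝒬) EM EN φ mR mS mT δ) (EP : StarInjRes 𝒯 𝒬) (d : ℤ)

/-- The subcomplex `ΓA ⊗ B + A ⊗ ΓB`. -/
abbrev UU : ∀ n, Submodule k (XC k (Tn k (Ad EM d) (Ad EN d)) n) :=
  kerU (pn (ΓAd EM mR d) (ΓAd EN mS d))

/-- The differential of the tensor product of the strands. -/
abbrev DD : ∀ n, XC k (Tn k (Ad EM d) (Ad EN d)) n →ₗ[k] XC k (Tn k (Ad EM d) (Ad EN d)) (n + 1) :=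
  Dn (t₁ (dAd EM d)) (t₂ (dAd EN d))

theorem Jn_mem_ZX (q : ℕ) (z : ↥(Zs (DD (EM := EM) (EN := EN) d) (UU (mR := mR) (mS := mS) d) q)) :
    K.Jn d q (z : XC k (Tn k (Ad EM d) (Ad EN d)) q) ∈ K.toAR.ZX q := by
  have h := (mem_Zs _ _).mp z.2
  refine (AR.mem_ZX K.toAR).mpr ⟨(K.Jn_mem_gam_iff d q _).mpr h.1, ?_⟩
  change Dn K.d₁ K.d₂ q (K.Jn d q z) = 0
  rw [K.Jn_D, h.2, map_zero]

/-- The class map from the cocycles of `ΓA ⊗ B + A ⊗ ΓB` to the piece of local cohomology. -/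
def cls (θ : ∀ n, K.toAR.X n →ₗ[T] (EP.X n).carrier)
    (hθgr : ∀ n, IsGrHom (K.toAR.XG n).gr (EP.X n).gr (θ n))
    (hθ : ∀ (n : ℕ) (x : K.toAR.X n), θ (n + 1) (K.toAR.dX n x) = EP.d n (θ n x)) (q : ℕ) :
    ↥(Zs (DD (EM := EM) (EN := EN) d) (UU (mR := mR) (mS := mS) d) q) →+ EP.Hcomp mT q d where
  toFun z := ⟨K.toAR.c1 θ hθ q ⟨K.Jn d q (z : XC k (Tn k (Ad EM d) (Ad EN d)) q), K.Jn_mem_ZX d q z⟩,
    K.toAR.c1_mem_Hgr θ hθgr hθ q d _ (K.Jn_mem_gr d q _)⟩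
  map_zero' := by
    apply Subtype.ext
    have e : (⟨K.Jn d q ((0 : ↥(Zs (DD (EM := EM) (EN := EN) d) (UU (mR := mR) (mS := mS) d) q)) :
        XC k (Tn k (Ad EM d) (Ad EN d)) q), K.Jn_mem_ZX d q 0⟩ : ↥(K.toAR.ZX q)) = 0 :=
      Subtype.ext (map_zero (K.Jn d q))
    change K.toAR.c1 θ hθ q _ = 0
    rw [e, map_zero]
  map_add' x y := by
    apply Subtype.ext
    change K.toAR.c1 θ hθ q _ = K.toAR.c1 θ hθ q _ + K.toAR.c1 θ hθ q _
    rw [← map_add]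
    congr 1
    apply Subtype.ext
    exact map_add (K.Jn d q) _ _

theorem coe_cls (θ : ∀ n, K.toAR.X n →ₗ[T] (EP.X n).carrier)
    (hθgr : ∀ n, IsGrHom (K.toAR.XG n).gr (EP.X n).gr (θ n))
    (hθ : ∀ (n : ℕ) (x : K.toAR.X n), θ (n + 1) (K.toAR.dX n x) = EP.d n (θ n x)) (q : ℕ)
    (z : ↥(Zs (DD (EM := EM) (EN := EN) d) (UU (mR := mR) (mS := mS) d) q)) :
    ((K.cls EP d θ hθgr hθ q z : EP.Hcomp mT q d) : EP.H mT q) =
      K.toAR.c1 θ hθ q ⟨K.Jn d q (z : XC k (Tn k (Ad EM d) (Ad EN d)) q), K.Jn_mem_ZX d q z⟩ := rfl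

theorem cls_surjective (θ : ∀ n, K.toAR.X n →ₗ[T] (EP.X n).carrier)
    (hθgr : ∀ n, IsGrHom (K.toAR.XG n).gr (EP.X n).gr (θ n))
    (hθ0 : ∀ y : P, θ 0 (K.toAR.εX y) = EP.ε y)
    (hθ : ∀ (n : ℕ) (x : K.toAR.X n), θ (n + 1) (K.toAR.dX n x) = EP.d n (θ n x)) (q : ℕ) :
    Function.Surjective (K.cls EP d θ hθgr hθ q) := by
  rintro ⟨h, hh⟩
  obtain ⟨z, hz, hzh⟩ := K.toAR.exists_homog_preimage θ hθgr hθ0 hθ q d h hh
  obtain ⟨w, hw⟩ := K.exists_Jn_eq d q (z : K.toAR.X q) hz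
  have hz2 := (AR.mem_ZX K.toAR).mp z.2
  have hwU : w ∈ UU (mR := mR) (mS := mS) d q := by
    rw [← K.Jn_mem_gam_iff, hw]
    exact hz2.1
  have hwD : DD (EM := EM) (EN := EN) d q w = 0 := by
    apply K.Jn_injective d (q + 1)
    rw [← K.Jn_D, hw, map_zero]
    exact hz2.2
  refine ⟨⟨w, (mem_Zs _ _).mpr ⟨hwU, hwD⟩⟩, ?_⟩
  apply Subtype.ext
  rw [coe_cls]
  change _ = h
  rw [← hzh]
  congr 1
  apply Subtype.ext
  exact hw

theorem cls_eq_zero_iff (θ : ∀ n, K.toAR.X n →ₗ[T] (EP.X n).carrier)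
    (hθgr : ∀ n, IsGrHom (K.toAR.XG n).gr (EP.X n).gr (θ n))
    (hθ0 : ∀ y : P, θ 0 (K.toAR.εX y) = EP.ε y)
    (hθ : ∀ (n : ℕ) (x : K.toAR.X n), θ (n + 1) (K.toAR.dX n x) = EP.d n (θ n x)) (q : ℕ)
    (z : ↥(Zs (DD (EM := EM) (EN := EN) d) (UU (mR := mR) (mS := mS) d) q)) :
    K.cls EP d θ hθgr hθ q z = 0 ↔
      toHs (DD (EM := EM) (EN := EN) d) (UU (mR := mR) (mS := mS) d) q z = 0 := by
  have e1 : K.cls EP d θ hθgr hθ q z = 0 ↔
      ((K.cls EP d θ hθgr hθ q z : EP.Hcomp mT q d) : EP.H mT q) = 0 := by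
    constructor
    · intro h
      rw [h]
      rfl
    · intro h
      exact Subtype.ext h
  rw [e1, coe_cls, K.toAR.c1_eq_zero_iff θ hθ0 hθ q, toHs_eq_zero_iff]
  change K.Jn d q (z : XC k (Tn k (Ad EM d) (Ad EN d)) q) ∈ K.toAR.cobX q ↔ _
  cases q with
  | zero =>
    rw [mem_Bs_zero]
    constructor
    · intro h
      have h' : K.Jn d 0 (z : XC k (Tn k (Ad EM d) (Ad EN d)) 0) = 0 := (Submodule.mem_bot T).mp h
      apply K.Jn_injective d 0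
      rw [h', map_zero]
    · intro h
      rw [h, map_zero]
      exact zero_mem _
  | succ n =>
    rw [mem_Bs_succ]
    constructor
    · intro h
      obtain ⟨y, hy1, hy2, hy3⟩ := K.toAR.exists_homog_of_mem_cobX n d
        (K.Jn_mem_gr d (n + 1) (z : XC k (Tn k (Ad EM d) (Ad EN d)) (n + 1))) h
      obtain ⟨w, hw⟩ := K.exists_Jn_eq d n y hy2
      refine ⟨w, ?_, ?_⟩
      · rw [← K.Jn_mem_gam_iff, hw]
        exact hy1
      · apply K.Jn_injective d (n + 1)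
        rw [← K.Jn_D, hw]
        exact hy3
    · rintro ⟨w, hw, hwz⟩
      refine ⟨K.Jn d n w, (K.Jn_mem_gam_iff d n w).mpr hw, ?_⟩
      change Dn K.d₁ K.d₂ n (K.Jn d n w) = _
      rw [K.Jn_D]
      exact congrArg (K.Jn d (n + 1)) hwz

include K in
/-- The rank of a piece of `H_{T_+}(M # N)`. -/
theorem rank_Hcomp [Nontrivial T] (h0T : 𝒯 0 = Submodule.span k {(1 : T)}) (q : ℕ) :
    Module.rank (deg0 𝒯) (EP.Hcomp mT q d) =
      Module.rank k (Hs (DD (EM := EM) (EN := EN) d) (UU (mR := mR) (mS := mS) d) q) := by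
  obtain ⟨θ, hθgr, hθ0, hθ⟩ := AR.exists_theta (EP := EP) K.toAR
  refine rank_eq_of_surjections (p0 𝒯) (p0_bijective 𝒯 h0T) (K.cls EP d θ hθgr hθ q)
    (toHs (DD (EM := EM) (EN := EN) d) (UU (mR := mR) (mS := mS) d) q).toAddMonoidHom
    (K.cls_surjective EP d θ hθgr hθ0 hθ q) (toHs_surjective _ _ q)
    (K.cls_eq_zero_iff EP d θ hθgr hθ0 hθ q) ?_ ?_
  · intro c z
    apply Subtype.ext
    rw [coe_cls]
    change _ = (p0 𝒯 c : T) • ((K.cls EP d θ hθgr hθ q z : EP.Hcomp mT q d) : EP.H mT q)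
    rw [coe_cls, ← map_smul]
    congr 1
    apply Subtype.ext
    exact K.Jn_smul d q c _
  · intro c z
    exact map_smul (toHs (DD (EM := EM) (EN := EN) d) (UU (mR := mR) (mS := mS) d) q) c z

end K2Setup

end Groth.Agent.Lib.T2H3.Kun
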