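import Groth.Agent.Lib.T2H3KunP
import Groth.Agent.S13226

/-! Künneth formula for Segre products (helper3), part Q: the dimension formula for the pieces of
`H_{T_+}(M # N)`. -/

set_option autoImplicit false
set_option linter.unusedSectionVars false
set_option linter.style.haveILetI false
open DirectSum
open scoped TensorProduct

noncomputable section

namespace Groth.Agent.Lib.T2H3.Kun

open Groth.Agent.Lib.T2H3.GrTr Groth.Agent.Lib Groth.Agent.Lib.LeadSP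
  Groth.Agent.Lib.Helper29LCAcyclic GrLC Groth.Agent.Lib.Helper29GrHom
  Groth.Agent.Lib.Helper29GrGam Groth.Agent.Lib.T2H3.GrLes Groth.Agent.Lib.T2H3.Seg

universe u

section Fin

variable {k : Type u} [Field k] {R : Type u} [CommRing R] [Algebra k R]
  (𝒜 : ℤ → Submodule k R) [GradedAlgebra 𝒜] [IsNoetherianRing R]
variable {M : Type u} [AddCommGroup M] [Module R M] [Module.Finite R M]
  {ℳ : ℤ → AddSubgroup M} [DirectSum.Decomposition ℳ] [SetLike.GradedSMul 𝒜 ℳ]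

/-- Finiteness of the pieces of graded local cohomology, for gradings by subspaces. -/
theorem finite_Hcomp' (hpos : ∀ n : ℤ, n < 0 → 𝒜 n = ⊥) (mR : HomogeneousIdeal 𝒜)
    (hmR : mR.toIdeal = Ideal.span (⋃ n ∈ Set.Ioi (0 : ℤ), (𝒜 n : Set R)))
    (EM : StarInjRes 𝒜 ℳ) (i : ℕ) (n : ℤ) : Module.Finite (deg0 𝒜) (EM.Hcomp mR i n) := by
  have hpos' : ∀ n : ℤ, n < 0 → asGr 𝒜 n = ⊥ := by
    intro n hn
    rw [eq_bot_iff]
    intro x hx
    have hx' : x ∈ 𝒜 n := hx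
    rw [hpos n hn, Submodule.mem_bot] at hx'
    rw [AddSubgroup.mem_bot]
    exact hx'
  exact Groth.Agent.S13226.result R (asGr 𝒜) hpos' (hiTo 𝒜 mR) hmR M (asGr ℳ) (resTo 𝒜 ℳ EM) i n

/-- Finiteness of the pieces of a finitely generated graded module. -/
theorem finite_comp' (n : ℤ) : Module.Finite (deg0 𝒜) (comp 𝒜 ℳ n) := by
  haveI : IsNoetherian R M := isNoetherian_of_isNoetherianRing_of_finite R M
  have h : IsNoetherian (deg0 (asGr 𝒜)) (comp (asGr 𝒜) ℳ n) :=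
    Groth.Agent.Lib.T2H3.GrIrr.isNoetherian_comp (asGr 𝒜) ℳ n
  have h' : IsNoetherian (deg0 𝒜) (comp 𝒜 ℳ n) := h
  infer_instance

end Fin

section Main

variable {k : Type u} [Field k] {R S T : Type u} [CommRing R] [CommRing S] [CommRing T]
  [Algebra k R] [Algebra k S] [Algebra k T]
  {𝒜 : ℤ → Submodule k R} [GradedAlgebra 𝒜] {ℬ : ℤ → Submodule k S} [GradedAlgebra ℬ]
  {𝒯 : ℤ → Submodule k T} [GradedAlgebra 𝒯] {ψ : T →ₐ[k] R ⊗[k] S}
  [IsNoetherianRing R] [IsNoetherianRing S] [IsNoetherianRing T]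
variable {M : Type u} [AddCommGroup M] [Module R M] [Module k M] [IsScalarTower k R M]
  {ℳ : ℤ → AddSubgroup M} [DirectSum.Decomposition ℳ] [SetLike.GradedSMul 𝒜 ℳ]
variable {N : Type u} [AddCommGroup N] [Module S N] [Module k N] [IsScalarTower k S N]
  {𝒩 : ℤ → AddSubgroup N} [DirectSum.Decomposition 𝒩] [SetLike.GradedSMul ℬ 𝒩]
variable {P : Type u} [AddCommGroup P] [Module T P] [Module k P] [IsScalarTower k T P]
  {𝒬 : ℤ → AddSubgroup P} [DirectSum.Decomposition 𝒬] [SetLike.GradedSMul 𝒯 𝒬]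
variable {EM : StarInjRes 𝒜 ℳ} [∀ n, Module k (EM.X n).carrier]
  [∀ n, IsScalarTower k R (EM.X n).carrier]
variable {EN : StarInjRes ℬ 𝒩} [∀ n, Module k (EN.X n).carrier]
  [∀ n, IsScalarTower k S (EN.X n).carrier]
variable {φ : P →ₗ[k] M ⊗[k] N} {mR : HomogeneousIdeal 𝒜} {mS : HomogeneousIdeal ℬ}
  {mT : HomogeneousIdeal 𝒯} {δ : ℤ}

namespace K2Setup

variable (K : K2Setup (ψ := ψ) (𝒬 := 𝒬) EM EN φ mR mS mT δ) (EP : StarInjRes 𝒯 𝒬)

include K in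
/-- The Künneth formula for the pieces of the local cohomology of a Segre product. -/
theorem finrank_Hcomp [Nontrivial R] [Nontrivial S] [Nontrivial T] [Module.Finite R M]
    [Module.Finite S N] (hposR : ∀ n : ℤ, n < 0 → 𝒜 n = ⊥)
    (hposS : ∀ n : ℤ, n < 0 → ℬ n = ⊥) (h0R : 𝒜 0 = Submodule.span k {(1 : R)})
    (h0S : ℬ 0 = Submodule.span k {(1 : S)}) (h0T : 𝒯 0 = Submodule.span k {(1 : T)})
    (hmR : mR.toIdeal = Ideal.span (⋃ n ∈ Set.Ioi (0 : ℤ), (𝒜 n : Set R)))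
    (hmS : mS.toIdeal = Ideal.span (⋃ n ∈ Set.Ioi (0 : ℤ), (ℬ n : Set S)))
    (hM : ∀ (q : ℕ) (d : ℤ), q ≤ 1 → EM.Hcomp mR q d = ⊥)
    (hN : ∀ (q : ℕ) (d : ℤ), q ≤ 1 → EN.Hcomp mS q d = ⊥) (q : ℕ) (d : ℤ) :
    Module.finrank (deg0 𝒯) (EP.Hcomp mT q d) =
      Module.finrank (deg0 𝒜) (comp 𝒜 ℳ d) * Module.finrank (deg0 ℬ) (EN.Hcomp mS q d) +
        Module.finrank (deg0 𝒜) (EM.Hcomp mR q d) * Module.finrank (deg0 ℬ) (comp ℬ 𝒩 d) +
        (Finset.range (q + 2)).sum (fun i => Module.finrank (deg0 𝒜) (EM.Hcomp mR i d) *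
          Module.finrank (deg0 ℬ) (EN.Hcomp mS (q + 1 - i) d)) := by
  haveI : ∀ i, Module.Finite (deg0 𝒜) (EM.Hcomp mR i d) := fun i =>
    finite_Hcomp' 𝒜 hposR mR hmR EM i d
  haveI : ∀ j, Module.Finite (deg0 ℬ) (EN.Hcomp mS j d) := fun j =>
    finite_Hcomp' ℬ hposS mS hmS EN j d
  haveI : Module.Finite (deg0 𝒜) (comp 𝒜 ℳ d) := finite_comp' 𝒜 d
  haveI : Module.Finite (deg0 ℬ) (comp ℬ 𝒩 d) := finite_comp' ℬ d
  haveI fA0 : Module.Finite k (Hs (dAd EM d) (topU (Ad EM d)) 0) :=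
    finite_of_rank_eq (rank_Hs_top_zero EM d h0R)
  haveI fB0 : Module.Finite k (Hs (dAd EN d) (topU (Ad EN d)) 0) :=
    finite_of_rank_eq (rank_Hs_top_zero EN d h0S)
  haveI fA : ∀ i, Module.Finite k (Hs (dAd EM d) (ΓAd EM mR d) i) := fun i =>
    finite_of_rank_eq (rank_Hs_ΓAd EM mR d h0R i)
  haveI fB : ∀ j, Module.Finite k (Hs (dAd EN d) (ΓAd EN mS d) j) := fun j =>
    finite_of_rank_eq (rank_Hs_ΓAd EN mS d h0S j)
  have key := finrank_Hs_ker (dAd EM d) (ΓAd EM mR d) (ΓAd_stable EM mR d) (dAd EN d)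
    (ΓAd EN mS d) (ΓAd_stable EN mS d) (dAd_dAd EM d) (dAd_dAd EN d) (exAd EM d) (exAd EN d)
    (Zs_le_Bs_of_Hcomp_eq_bot EM mR d 0 (hM 0 d zero_le_one))
    (Zs_le_Bs_of_Hcomp_eq_bot EM mR d 1 (hM 1 d le_rfl))
    (Zs_le_Bs_of_Hcomp_eq_bot EN mS d 0 (hN 0 d zero_le_one))
    (Zs_le_Bs_of_Hcomp_eq_bot EN mS d 1 (hN 1 d le_rfl)) q
  rw [finrank_eq_of_rank_eq' (K.rank_Hcomp EP d h0T q),
    finrank_eq_of_rank_eq' (rank_Hs_top_zero EM d h0R),
    finrank_eq_of_rank_eq' (rank_Hs_top_zero EN d h0S),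
    finrank_eq_of_rank_eq' (rank_Hs_ΓAd EM mR d h0R q),
    finrank_eq_of_rank_eq' (rank_Hs_ΓAd EN mS d h0S q)]
  have e : (Finset.range (q + 2)).sum (fun i => Module.finrank (deg0 𝒜) (EM.Hcomp mR i d) *
      Module.finrank (deg0 ℬ) (EN.Hcomp mS (q + 1 - i) d)) =
      (Finset.range (q + 2)).sum (fun i => Module.finrank k (Hs (dAd EM d) (ΓAd EM mR d) i) *
        Module.finrank k (Hs (dAd EN d) (ΓAd EN mS d) (q + 1 - i))) := by
    refine Finset.sum_congr rfl fun i _ => ?_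
    rw [finrank_eq_of_rank_eq' (rank_Hs_ΓAd EM mR d h0R i),
      finrank_eq_of_rank_eq' (rank_Hs_ΓAd EN mS d h0S (q + 1 - i))]
  rw [e]
  exact key

end K2Setup

end Main

end Groth.Agent.Lib.T2H3.Kun
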