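import Groth.Agent.Lib.T2H3KunL
import Groth.Agent.Lib.LeadSPe

/-! Künneth formula for Segre products (helper3), part R: the ring case `M = R`, `N = S`,
`M # N = T`. -/

set_option autoImplicit false
set_option linter.unusedSectionVars false
set_option linter.style.haveILetI false
open DirectSum
open scoped TensorProduct

noncomputable section

namespace Groth.Agent.Lib.T2H3.Kun

open Groth.Agent.Lib.T2H3.GrTr Groth.Agent.Lib GrLC

universe u

section Self

variable {k : Type u} [Field k] {R : Type u} [CommRing R] [Algebra k R]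
  (𝒜 : ℤ → Submodule k R) [GradedAlgebra 𝒜]

/-- The ring as a graded module over itself, graded by additive subgroups. -/
instance gradedSMul_self : SetLike.GradedSMul 𝒜 (asGr 𝒜) where
  smul_mem := fun {_ _ _ _} ha hm => SetLike.GradedSMul.smul_mem (A := 𝒜) (B := 𝒜) ha hm

/-- A *injective resolution of the ring, for the grading by additive subgroups. -/
def resSelf (I : StarInjRes 𝒜 𝒜) : StarInjRes 𝒜 (asGr 𝒜) where
  X := I.X
  d := I.d
  ε := I.ε
  d_grHom := I.d_grHom
  ε_grHom := fun g m hm => I.ε_grHom g m hm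
  ε_injective := I.ε_injective
  exact_zero := I.exact_zero
  exact_succ := I.exact_succ
  starInj := I.starInj

theorem resSelf_Hcomp (I : StarInjRes 𝒜 𝒜) (a : HomogeneousIdeal 𝒜) (i : ℕ) (g : ℤ) :
    (resSelf 𝒜 I).Hcomp a i g = I.Hcomp a i g := rfl

/-- The pieces of the ring have the same dimension over the field and over the degree zero
subring. -/
theorem finrank_comp_self [Nontrivial R] (h0 : 𝒜 0 = Submodule.span k {(1 : R)}) (d : ℤ) :
    Module.finrank (deg0 𝒜) (comp 𝒜 (asGr 𝒜) d) = Module.finrank k (𝒜 d) := by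
  let f₁ : ↥(𝒜 d) →+ comp 𝒜 (asGr 𝒜) d :=
    { toFun := fun z => ⟨(z : R), z.2⟩
      map_zero' := rfl
      map_add' := fun _ _ => rfl }
  refine finrank_eq_of_rank_eq' (rank_eq_of_surjections (p0 𝒜) (p0_bijective 𝒜 h0) f₁
    (AddMonoidHom.id ↥(𝒜 d)) ?_ Function.surjective_id ?_ ?_ ?_)
  · rintro ⟨m, hm⟩
    exact ⟨⟨m, hm⟩, rfl⟩
  · intro z
    constructor
    · intro h
      have h1 : (z : R) = 0 := congrArg Subtype.val h
      exact Subtype.ext h1
    · intro h
      have h1 : z = 0 := h
      rw [h1]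
      rfl
  · intro c z
    apply Subtype.ext
    change c • (z : R) = (algebraMap k R c) • (z : R)
    rw [algebraMap_smul]
  · intro c z
    rfl

end Self

section Seg

variable {k : Type u} [Field k] {R S T : Type u} [CommRing R] [CommRing S] [CommRing T]
  [Algebra k R] [Algebra k S] [Algebra k T]
  (𝒜 : ℤ → Submodule k R) [GradedAlgebra 𝒜] (ℬ : ℤ → Submodule k S) [GradedAlgebra ℬ]
  (𝒯 : ℤ → Submodule k T) [GradedAlgebra 𝒯] (ψ : T →ₐ[k] R ⊗[k] S)

/-- The Segre product of the rings is the Segre product of the rings as modules. -/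
theorem isSegreMod_self (hψ : Function.Injective ψ)
    (hdegT : ∀ n : ℤ, (𝒯 n).map ψ.toLinearMap =
      Submodule.span k {x : R ⊗[k] S | ∃ a ∈ 𝒜 n, ∃ b ∈ ℬ n, x = a ⊗ₜ[k] b}) :
    GrSeg.IsSegreMod ψ (asGr 𝒜) (asGr ℬ) (asGr 𝒯) ψ.toLinearMap where
  injective := hψ
  image_piece n := by
    have h := congrArg (fun s : Submodule k (R ⊗[k] S) => (s : Set (R ⊗[k] S))) (hdegT n)
    simp only [Submodule.map_coe] at h
    exact h
  map_smul t p := by
    change ψ (t • p) = GrSeg.act k R S R S (ψ t) (ψ p)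
    rw [Groth.Agent.Lib.LeadSP.act_eq_mul, smul_eq_mul, map_mul]

end Seg

end Groth.Agent.Lib.T2H3.Kun
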