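import Groth.Agent.Lib.T2H3VerF
import Groth.Agent.Lib.T2H3VerI
import Groth.Agent.Lib.T2H3EGH
import Groth.Agent.Lib.T2H3GrDimB
import Groth.Agent.Lib.Helper8LCDepth
import Groth.Agent.Lib.Helper28DepthLoc
import Groth.Agent.Lib.Helper28DepthMore
import Groth.Agent.Lib.Helper5IntDim
import Groth.Agent.Lib.Helper5GorEquidim
import Groth.Agent.Lib.LeadCanM
import Groth.Agent.S13224
import Groth.Agent.S13244

/-! Veronese subrings of Gorenstein graded rings (helper3), part J: basic facts on the Veronese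
subring (positivity, degree zero, integrality, dimension), depth from local cohomology. -/

set_option autoImplicit false
set_option linter.unusedSectionVars false
set_option linter.style.haveILetI false
open DirectSum

noncomputable section

namespace Groth.Agent.Lib.T2H3.Ver

open GrLC Groth.Agent.Lib.T2H3.GrIrr Groth.Agent.Lib.T2H3.GrArt Groth.Agent.Lib.T2H3.GrLes

universe u

section Depth

variable {A : Type u} [CommRing A] [IsNoetherianRing A] (J : Ideal A)
  (M : Type u) [AddCommGroup M] [Module A M] [Module.Finite A M]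

/-- The depth is the index of the unique nonvanishing local cohomology module. -/
theorem idealDepth_eq_of_H (n : ℕ) (hJ : J • (⊤ : Submodule A M) ≠ ⊤)
    (h0 : ∀ i : ℕ, i ≠ n → ∀ y : LocCoh.H J i M, y = 0) (hn : ∃ y : LocCoh.H J n M, y ≠ 0) :
    LocCoh.idealDepth J M = n := by
  have h1 : ¬ ((n + 1 : ℕ) : ℕ∞) ≤ LocCoh.idealDepth J M := by
    intro h
    obtain ⟨y, hy⟩ := hn
    exact hy (Groth.Agent.Lib.Helper8.LC.H_eq_zero_of_lt_depth J (n + 1) M hJ h n
      (Nat.lt_succ_self n) y)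
  rw [not_le] at h1
  obtain ⟨k, hk⟩ := ENat.ne_top_iff_exists.mp (ne_top_of_lt h1)
  obtain ⟨y, hy⟩ := Groth.Agent.Lib.Helper8.LC.H_ne_zero_of_depth_eq J k M hJ hk.symm
  have hkn : k = n := by
    by_contra hne
    exact hy (h0 k hne y)
  rw [← hk, hkn]

end Depth

section Basics

variable {R R' : Type u} [CommRing R] [CommRing R']
variable {𝒜 : ℤ → AddSubgroup R} [GradedRing 𝒜] {𝒜' : ℤ → AddSubgroup R'} [GradedRing 𝒜']
variable {φ : R' →+* R} {q : ℕ}

theorem hpos_of_verHyp (hV : VerHyp 𝒜 𝒜' φ q) (hpos : ∀ n : ℤ, n < 0 → 𝒜 n = ⊥) (j : ℤ)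
    (hj : j < 0) : 𝒜' j = ⊥ := by
  rw [AddSubgroup.eq_bot_iff_forall]
  intro x hx
  have h1 : φ x ∈ 𝒜 (j * q) := phi_mem hV hx
  have hq0 : (0 : ℤ) < q := by exact_mod_cast hV.hq
  rw [hpos (j * q) (mul_neg_of_neg_of_pos hj hq0), AddSubgroup.mem_bot] at h1
  apply hV.hφ
  rw [h1, map_zero]

/-- The ring isomorphism `R'_0 ≅ R_0`. -/
def deg0Hom (hV : VerHyp 𝒜 𝒜' φ q) : deg0 𝒜' →+* deg0 𝒜 :=
  (φ.comp (deg0 𝒜').subtype).codRestrict (deg0 𝒜) (fun r => by
    have h := phi_mem hV (show (r : R') ∈ 𝒜' 0 from r.2)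
    rw [zero_mul] at h
    exact h)

theorem deg0Hom_bijective (hV : VerHyp 𝒜 𝒜' φ q) : Function.Bijective (deg0Hom hV) := by
  constructor
  · intro a b hab
    apply Subtype.ext
    apply hV.hφ
    exact congrArg Subtype.val hab
  · rintro ⟨y, hy⟩
    have h1 : y ∈ (𝒜' 0).map (φ : R' →+ R) := by
      rw [hV.hdeg 0, zero_mul]
      exact hy
    obtain ⟨r, hr, hry⟩ := h1
    exact ⟨⟨r, hr⟩, Subtype.ext hry⟩

theorem isField_deg0_of_verHyp (hV : VerHyp 𝒜 𝒜' φ q) (h0 : IsField (deg0 𝒜)) :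
    IsField (deg0 𝒜') :=
  (RingEquiv.ofBijective (deg0Hom hV) (deg0Hom_bijective hV)).toMulEquiv.isField h0

/-- `R` is integral over its Veronese subring. -/
theorem isIntegral_of_verHyp (hV : VerHyp 𝒜 𝒜' φ q) :
    letI := φ.toAlgebra
    Algebra.IsIntegral R' R := by
  classical
  letI := φ.toAlgebra
  refine ⟨fun x => ?_⟩
  rw [← DirectSum.sum_support_decompose 𝒜 x]
  refine IsIntegral.sum _ fun i _ => ?_
  apply IsIntegral.of_pow hV.hq
  have h1 : ((DirectSum.decompose 𝒜 x) i : R) ^ q ∈ 𝒜 (q • i) :=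
    SetLike.pow_mem_graded q (SetLike.coe_mem _)
  have h2 : q • i = i * (q : ℤ) := by rw [nsmul_eq_mul, mul_comm]
  rw [h2, ← hV.hdeg i] at h1
  obtain ⟨r, -, hr⟩ := h1
  have h3 : ((DirectSum.decompose 𝒜 x) i : R) ^ q = algebraMap R' R r := hr.symm
  rw [h3]
  exact isIntegral_algebraMap

theorem ringKrullDim_eq_of_verHyp (hV : VerHyp 𝒜 𝒜' φ q) : ringKrullDim R' = ringKrullDim R := by
  letI := φ.toAlgebra
  haveI := isIntegral_of_verHyp hV
  exact (Groth.Agent.Lib.Helper5.ringKrullDim_eq_of_isIntegral_of_injective R' R hV.hφ).symm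

theorem irr_ne_top [Nontrivial R] (hpos : ∀ n : ℤ, n < 0 → 𝒜 n = ⊥) : irr 𝒜 ≠ ⊤ := by
  classical
  intro h
  have h1 : (1 : R) ∈ irr 𝒜 := by rw [h]; exact Submodule.mem_top
  have h2 := decompose_zero_eq_zero_of_mem_irr 𝒜 hpos h1
  rw [DirectSum.decompose_of_mem_same 𝒜 (SetLike.GradedOne.one_mem (A := 𝒜))] at h2
  exact one_ne_zero h2

end Basics

end Groth.Agent.Lib.T2H3.Ver
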