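import Groth.Agent.Lib.T2H3KunL
import Groth.Agent.Lib.T2H3SerreG
import Groth.Agent.Lib.T2H3EGB
import Groth.Agent.Lib.T2H3VerJ
import Groth.Agent.Lib.LeadGCMc
import Groth.Agent.Lib.LeadSegJ
import Groth.Agent.Lib.T2H3GrLesF
import Groth.Agent.Lib.T2H3CanonUniq

/-! Künneth formula for Segre products (helper3), part S: a graded ring over a field is
Cohen–Macaulay iff its graded local cohomology vanishes below the dimension. -/

set_option autoImplicit false
set_option linter.unusedSectionVars false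
set_option linter.style.haveILetI false
open DirectSum

noncomputable section

namespace Groth.Agent.Lib.T2H3.Kun

open Groth.Agent.Lib.T2H3.GrTr Groth.Agent.Lib GrLC

universe u

section Gen

variable {R : Type u} [CommRing R] {𝒜 : ℤ → AddSubgroup R} [GradedRing 𝒜]
  {M : Type u} [AddCommGroup M] [Module R M] {ℳ : ℤ → AddSubgroup M}
  [DirectSum.Decomposition ℳ] [SetLike.GradedSMul 𝒜 ℳ]

/-- A graded module all of whose pieces of local cohomology vanish has vanishing local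
cohomology. -/
theorem H_eq_zero_of_Hcomp_eq_bot_gen (E : StarInjRes 𝒜 ℳ) (a : HomogeneousIdeal 𝒜) {q : ℕ}
    (h : ∀ d : ℤ, E.Hcomp a q d = ⊥) (y : E.H a q) : y = 0 := by
  classical
  letI := Groth.Agent.Lib.T2H3.GrLes.HgrDecomposition E a q
  have h1 := DirectSum.sum_support_decompose (E.Hgr a q) y
  rw [← h1]
  refine Finset.sum_eq_zero fun g _ => ?_
  have h2 : ((decompose (E.Hgr a q) y) g : E.H a q) ∈ E.Hcomp a q g :=
    SetLike.coe_mem ((decompose (E.Hgr a q) y) g)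
  rw [h g, Submodule.mem_bot] at h2
  exact h2

end Gen

section CM

variable {k : Type u} [Field k] {R : Type u} [CommRing R] [Algebra k R] [Nontrivial R]
  (𝒜 : ℤ → Submodule k R) [GradedAlgebra 𝒜]
  (hpos : ∀ n : ℤ, n < 0 → 𝒜 n = ⊥) (h0 : 𝒜 0 = Submodule.span k {(1 : R)})

/-- The map from the field to the degree zero subring, as a ring homomorphism. -/
def p0Hom : k →+* deg0 (asGr 𝒜) :=
  (algebraMap k R).codRestrict (deg0 (asGr 𝒜)) (fun c => (p0 𝒜 c).2)

include h0 in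
theorem p0Hom_bijective : Function.Bijective (p0Hom 𝒜) := p0_bijective 𝒜 h0

include h0 in
theorem isField_deg0_asGr : IsField (deg0 (asGr 𝒜)) :=
  MulEquiv.isField (Field.toIsField k)
    (RingEquiv.ofBijective (p0Hom 𝒜) (p0Hom_bijective 𝒜 h0)).symm.toMulEquiv

include hpos in
theorem hposAs : ∀ n : ℤ, n < 0 → asGr 𝒜 n = ⊥ := by
  intro n hn
  rw [eq_bot_iff]
  intro x hx
  have hx' : x ∈ 𝒜 n := hx
  rw [hpos n hn, Submodule.mem_bot] at hx'
  rw [AddSubgroup.mem_bot]
  exact hx'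

variable (mR : HomogeneousIdeal 𝒜)
  (hmR : mR.toIdeal = Ideal.span (⋃ n ∈ Set.Ioi (0 : ℤ), (𝒜 n : Set R)))

include hpos h0 hmR in
theorem isStarLocal_asGr : IsStarLocal (asGr 𝒜) (hiTo 𝒜 mR) := by
  haveI hmax : (LeadSeg.irr 𝒜).IsMaximal := LeadSeg.irr_isMaximal 𝒜 hpos h0
  refine Groth.Agent.Lib.T2H3.EG.isStarLocal_of_isField (asGr 𝒜) (hposAs 𝒜 hpos)
    (isField_deg0_asGr 𝒜 h0) (hiTo 𝒜 mR) ?_ hmR
  change mR.toIdeal ≠ ⊤
  rw [hmR]
  exact hmax.ne_top

include h0 in
theorem isArtinianRing_deg0_asGr : IsArtinianRing (deg0 (asGr 𝒜)) := by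
  letI := (isField_deg0_asGr 𝒜 h0).toField
  infer_instance

variable [IsNoetherianRing R] (I : StarInjRes 𝒜 𝒜)

omit [IsNoetherianRing R] in
include hpos h0 hmR in
/-- Vanishing below the dimension for a Cohen–Macaulay ring. -/
theorem Hcomp_eq_bot_of_lt_dim [hCM : LocCoh.IsCohenMacaulayRing R] {n : ℕ}
    (hn : ringKrullDim R = n) {q : ℕ} (hq : q < n) (d : ℤ) : I.Hcomp mR q d = ⊥ := by
  haveI := isArtinianRing_deg0_asGr 𝒜 h0
  have h := Groth.Agent.Lib.T2H3.Serre.Hcomp_eq_bot_of_lt_dim (hposAs 𝒜 hpos)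
    (isStarLocal_asGr 𝒜 hpos h0 mR hmR) hn (resTo 𝒜 𝒜 I) hq d
  exact h

include h0 in
/-- Vanishing above the dimension. -/
theorem Hcomp_eq_bot_of_dim_lt {n : ℕ} (hn : ringKrullDim R = n) {q : ℕ} (hq : n < q) (d : ℤ) :
    I.Hcomp mR q d = ⊥ := by
  haveI := isArtinianRing_deg0_asGr 𝒜 h0
  have h := Groth.Agent.Lib.T2H3.Serre.Hcomp_eq_bot_of_lt (m := hiTo 𝒜 mR) hn (resTo 𝒜 𝒜 I) hq d
  exact h

/-- A graded module all of whose pieces of local cohomology vanish has vanishing local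
cohomology. -/
theorem H_eq_zero_of_Hcomp_eq_bot {q : ℕ} (h : ∀ d : ℤ, I.Hcomp mR q d = ⊥) (y : I.H mR q) :
    y = 0 :=
  H_eq_zero_of_Hcomp_eq_bot_gen (resTo 𝒜 𝒜 I) (hiTo 𝒜 mR) h y

include hpos h0 hmR in
/-- A graded ring over a field whose graded local cohomology vanishes below the dimension is
Cohen–Macaulay. -/
theorem isCohenMacaulayRing_of_Hcomp_eq_bot {n : ℕ} (hn : ringKrullDim R = n)
    (h : ∀ q : ℕ, q < n → ∀ d : ℤ, I.Hcomp mR q d = ⊥) : LocCoh.IsCohenMacaulayRing R := by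
  classical
  have hm := isStarLocal_asGr 𝒜 hpos h0 mR hmR
  have hpos' := hposAs 𝒜 hpos
  haveI hmax : mR.toIdeal.IsMaximal := by
    rw [hmR]
    exact LeadSeg.irr_isMaximal 𝒜 hpos h0
  have hL : ∀ q : ℕ, q < n → ∀ y : LocCoh.H mR.toIdeal q R, y = 0 := by
    intro q hq y
    obtain ⟨e⟩ := Groth.Agent.S13224.result R (asGr 𝒜) (hiTo 𝒜 mR) R (asGr 𝒜) (resTo 𝒜 𝒜 I) q
    have h1 : e.symm y = 0 := H_eq_zero_of_Hcomp_eq_bot 𝒜 mR I (h q hq) (e.symm y)
    exact e.symm.injective (h1.trans (map_zero e.symm).symm)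
  have hJ : mR.toIdeal • (⊤ : Submodule R R) ≠ ⊤ := by
    rw [smul_eq_mul, Ideal.mul_top]
    exact hmax.ne_top
  have hdepth : (n : ℕ∞) ≤ LocCoh.idealDepth mR.toIdeal R := by
    by_contra hlt
    rw [not_le] at hlt
    obtain ⟨j, hj⟩ := ENat.ne_top_iff_exists.mp (ne_top_of_lt hlt)
    obtain ⟨y, hy⟩ := Groth.Agent.Lib.Helper8.LC.H_ne_zero_of_depth_eq mR.toIdeal j R hJ hj.symm
    have hjn : j < n := by
      rw [← hj] at hlt
      exact_mod_cast hlt
    exact hy (hL j hjn y)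
  have hht : ((mR.toIdeal.height : ℕ∞) : WithBot ℕ∞) = n := by
    have h1 := Groth.Agent.Lib.T2H3.GrDim.ringKrullDim_eq_height_of_isStarLocal hpos' hm
    rw [hn] at h1
    exact h1.symm
  have hdimA : ringKrullDim (Localization.AtPrime mR.toIdeal) = n := by
    rw [IsLocalization.AtPrime.ringKrullDim_eq_height mR.toIdeal
      (Localization.AtPrime mR.toIdeal)]
    exact hht
  haveI hCMA : LocCoh.IsCohenMacaulayLocalRing (Localization.AtPrime mR.toIdeal) := by
    refine { supportDim_eq_depth := ?_ }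
    rw [Module.supportDim_self_eq_ringKrullDim, hdimA]
    have h1 : (n : ℕ∞) ≤ LocCoh.depth (Localization.AtPrime mR.toIdeal)
        (Localization.AtPrime mR.toIdeal) := by
      refine le_trans hdepth ?_
      rw [← Groth.Agent.Lib.Helper28.depth_localizedModule_self]
      exact Groth.Agent.Lib.Helper28.idealDepth_le_depth_localization mR.toIdeal R le_rfl
    have h2 : ((LocCoh.depth (Localization.AtPrime mR.toIdeal)
        (Localization.AtPrime mR.toIdeal) : ℕ∞) : WithBot ℕ∞) ≤ n := by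
      have h3 := Groth.Agent.Lib.Helper28.depth_le_supportDim
        (R := Localization.AtPrime mR.toIdeal) (M := Localization.AtPrime mR.toIdeal)
      rwa [Module.supportDim_self_eq_ringKrullDim, hdimA] at h3
    apply le_antisymm
    · exact_mod_cast h1
    · exact h2
  refine Groth.Agent.Lib.LeadGCM.isCohenMacaulayRing_of_homogeneous_primes (asGr 𝒜)
    fun q hq hqhom => ?_
  have hle : (⟨q, hqhom⟩ : HomogeneousIdeal (asGr 𝒜)) ≤ hiTo 𝒜 mR :=
    Groth.Agent.Lib.T2H3.CanonUniq.le_of_isStarLocal (asGr 𝒜) hm _ (fun h' => hq.ne_top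
      (congrArg HomogeneousIdeal.toIdeal h'))
  exact Groth.Agent.Lib.Helper28.CMFib.isCohenMacaulayLocalRing_localization_of_le q mR.toIdeal
    (fun x hx => hle hx) hCMA

end CM

end Groth.Agent.Lib.T2H3.Kun
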