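import Groth.Agent.Lib.T2H3KunS
import Groth.Agent.Lib.T2H3KunR
import Groth.Agent.Lib.T2H3KunQ
import Groth.Agent.Lib.LeadSegF
import Groth.Agent.S13215

/-! Künneth formula for Segre products (helper3), part T: the Segre product of two Cohen–Macaulay
graded rings of dimension at least two is Cohen–Macaulay iff `R # H^s(S) = 0 = H^r(R) # S`. -/

set_option autoImplicit false
set_option linter.unusedSectionVars false
set_option linter.style.haveILetI false
open DirectSum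
open scoped TensorProduct

noncomputable section

namespace Groth.Agent.Lib.T2H3.Kun

open Groth.Agent.Lib.T2H3.GrTr Groth.Agent.Lib GrLC

universe u

section ResOf

variable {R : Type u} [CommRing R] {σ : Type u} [SetLike σ R] [AddSubgroupClass σ R]
  (𝒜 : ℤ → σ) [GradedRing 𝒜]

/-- Transfer of a *injective resolution of the ring, back. -/
def resOf (E : StarInjRes (asGr 𝒜) (asGr 𝒜)) : StarInjRes 𝒜 𝒜 where
  X n := gmOf 𝒜 (E.X n)
  d n := E.d n
  ε := E.ε
  d_grHom n := E.d_grHom n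
  ε_grHom := fun g m hm => E.ε_grHom g m hm
  ε_injective := E.ε_injective
  exact_zero := E.exact_zero
  exact_succ := E.exact_succ
  starInj n := by
    haveI := gradedSMul_of_asGr 𝒜 (E.X n).gr (E.X n).gsmul
    exact isStarInj_of_asGr 𝒜 (E.X n).gr (E.starInj n)

/-- A *injective resolution of a Noetherian graded ring exists. -/
theorem nonempty_starInjRes_self [IsNoetherianRing R] : Nonempty (StarInjRes 𝒜 𝒜) := by
  obtain ⟨E⟩ := Groth.Agent.S13215.result (ι := ℤ) R (asGr 𝒜) R (asGr 𝒜)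
  exact ⟨resOf 𝒜 E⟩

end ResOf

section Fin

variable {k : Type u} [Field k] {R : Type u} [CommRing R] [Algebra k R] [Nontrivial R]
  (𝒜 : ℤ → Submodule k R) [GradedAlgebra 𝒜] (h0 : 𝒜 0 = Submodule.span k {(1 : R)})

include h0 in
theorem isField_deg0 : IsField (deg0 𝒜) := isField_deg0_asGr 𝒜 h0

include h0 in
theorem finrank_eq_zero_iff {X : Type u} [AddCommGroup X] [Module R X] (V : Submodule (deg0 𝒜) X)
    [Module.Finite (deg0 𝒜) V] : Module.finrank (deg0 𝒜) V = 0 ↔ V = ⊥ := by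
  letI := (isField_deg0 𝒜 h0).toField
  exact Submodule.finrank_eq_zero

include h0 in
/-- The pieces of a Noetherian graded ring over a field are finite dimensional. -/
theorem finite_piece [IsNoetherianRing R] (d : ℤ) : Module.Finite k (𝒜 d) := by
  haveI : Module.Finite (deg0 𝒜) (comp 𝒜 (asGr 𝒜) d) := finite_comp' 𝒜 d
  let f₁ : ↥(𝒜 d) →+ comp 𝒜 (asGr 𝒜) d :=
    { toFun := fun z => ⟨(z : R), z.2⟩
      map_zero' := rfl
      map_add' := fun _ _ => rfl }
  refine finite_of_rank_eq (rank_eq_of_surjections (p0 𝒜) (p0_bijective 𝒜 h0) f₁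
    (AddMonoidHom.id ↥(𝒜 d)) ?_ Function.surjective_id ?_ ?_ ?_)
  · rintro ⟨m, hm⟩
    exact ⟨⟨m, hm⟩, rfl⟩
  · intro z
    constructor
    · intro h
      have h1 : (z : R) = 0 := congrArg Subtype.val h
      exact Subtype.ext h1
    · intro h
      have h1 : z = 0 := h
      rw [h1]
      rfl
  · intro c z
    apply Subtype.ext
    change c • (z : R) = (algebraMap k R c) • (z : R)
    rw [algebraMap_smul]
  · intro c z
    rfl

end Fin

section Arith

/-- The arithmetic of the Cohen–Macaulay criterion. -/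
theorem cm_arith {r s : ℕ} (h2r : 2 ≤ r) (h2s : 2 ≤ s) (a b : ℤ → ℕ) (α β τ : ℕ → ℤ → ℕ)
    (hα : ∀ i d, i ≠ r → α i d = 0) (hβ : ∀ j d, j ≠ s → β j d = 0)
    (hF : ∀ q d, τ q d = a d * β q d + α q d * b d +
      ∑ i ∈ Finset.range (q + 2), α i d * β (q + 1 - i) d) :
    (∀ q, q < r + s - 1 → ∀ d, τ q d = 0) ↔
      (∀ d, a d = 0 ∨ β s d = 0) ∧ (∀ d, α r d = 0 ∨ b d = 0) := by
  have hsum : ∀ q, q < r + s - 1 → ∀ d,
      ∑ i ∈ Finset.range (q + 2), α i d * β (q + 1 - i) d = 0 := by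
    intro q hq d
    refine Finset.sum_eq_zero fun i hi => ?_
    have hi' := Finset.mem_range.mp hi
    by_cases hir : i = r
    · have h1 : q + 1 - i ≠ s := by omega
      rw [hβ _ d h1, mul_zero]
    · rw [hα i d hir, zero_mul]
  constructor
  · intro h
    constructor
    · intro d
      have h1 := h s (by omega) d
      rw [hF, hsum s (by omega) d, add_zero] at h1
      have h2 : a d * β s d = 0 := by omega
      exact Nat.mul_eq_zero.mp h2
    · intro d
      have h1 := h r (by omega) d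
      rw [hF, hsum r (by omega) d, add_zero] at h1
      have h2 : α r d * b d = 0 := by omega
      exact Nat.mul_eq_zero.mp h2
  · rintro ⟨h1, h2⟩ q hq d
    rw [hF, hsum q hq d, add_zero]
    have e1 : a d * β q d = 0 := by
      by_cases hqs : q = s
      · subst hqs
        exact Nat.mul_eq_zero.mpr (h1 d)
      · rw [hβ q d hqs, mul_zero]
    have e2 : α q d * b d = 0 := by
      by_cases hqr : q = r
      · subst hqr
        exact Nat.mul_eq_zero.mpr (h2 d)
      · rw [hα q d hqr, zero_mul]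
    rw [e1, e2]

end Arith

section Main

variable {k : Type u} [Field k] {R S T : Type u} [CommRing R] [CommRing S] [CommRing T]
  [Algebra k R] [Algebra k S] [Algebra k T] [Nontrivial R] [Nontrivial S] [Nontrivial T]
  [IsNoetherianRing R] [IsNoetherianRing S] [IsNoetherianRing T]
  (𝒜 : ℤ → Submodule k R) [GradedAlgebra 𝒜] (ℬ : ℤ → Submodule k S) [GradedAlgebra ℬ]
  (𝒯 : ℤ → Submodule k T) [GradedAlgebra 𝒯]
  (hposR : ∀ n : ℤ, n < 0 → 𝒜 n = ⊥) (h0R : 𝒜 0 = Submodule.span k {(1 : R)})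
  (hposS : ∀ n : ℤ, n < 0 → ℬ n = ⊥) (h0S : ℬ 0 = Submodule.span k {(1 : S)})
  (hposT : ∀ n : ℤ, n < 0 → 𝒯 n = ⊥) (h0T : 𝒯 0 = Submodule.span k {(1 : T)})
  (mR : HomogeneousIdeal 𝒜)
  (hmR : mR.toIdeal = Ideal.span (⋃ n ∈ Set.Ioi (0 : ℤ), (𝒜 n : Set R))) (I : StarInjRes 𝒜 𝒜)
  (mS : HomogeneousIdeal ℬ)
  (hmS : mS.toIdeal = Ideal.span (⋃ n ∈ Set.Ioi (0 : ℤ), (ℬ n : Set S))) (J : StarInjRes ℬ ℬ)
  (mT : HomogeneousIdeal 𝒯)
  (hmT : mT.toIdeal = Ideal.span (⋃ n ∈ Set.Ioi (0 : ℤ), (𝒯 n : Set T))) (IT : StarInjRes 𝒯 𝒯)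

omit [Nontrivial R] in
include hposR hmR in
theorem finite_Hcomp_self (q : ℕ) (d : ℤ) : Module.Finite (deg0 𝒜) (I.Hcomp mR q d) :=
  finite_Hcomp' 𝒜 hposR mR hmR (resSelf 𝒜 I) q d

include hposR h0R hmR in
/-- Vanishing of the local cohomology of a Cohen–Macaulay ring off the dimension. -/
theorem finrank_Hcomp_eq_zero_of_ne [LocCoh.IsCohenMacaulayRing R] {r : ℕ}
    (hr : ringKrullDim R = r) (i : ℕ) (d : ℤ) (hi : i ≠ r) :
    Module.finrank (deg0 𝒜) (I.Hcomp mR i d) = 0 := by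
  have h : I.Hcomp mR i d = ⊥ := by
    rcases lt_or_gt_of_ne hi with h | h
    · exact Hcomp_eq_bot_of_lt_dim 𝒜 hposR h0R mR hmR I hr h d
    · exact Hcomp_eq_bot_of_dim_lt 𝒜 h0R mR I hr h d
  rw [h]
  exact finrank_bot _ _

include hposR h0R hmR hposS h0S hmS hposT h0T hmT in
/-- The Cohen–Macaulay criterion for Segre products, given the Künneth formula. -/
theorem isCohenMacaulayRing_segre_iff_of_formula [LocCoh.IsCohenMacaulayRing R]
    [LocCoh.IsCohenMacaulayRing S] {r s : ℕ} (hr : ringKrullDim R = r) (hs : ringKrullDim S = s)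
    (h2r : 2 ≤ r) (h2s : 2 ≤ s) (hdimT : ringKrullDim T = ((r + s - 1 : ℕ) : WithBot ℕ∞))
    (hF : ∀ (q : ℕ) (d : ℤ), Module.finrank (deg0 𝒯) (IT.Hcomp mT q d) =
      Module.finrank k (𝒜 d) * Module.finrank (deg0 ℬ) (J.Hcomp mS q d) +
        Module.finrank (deg0 𝒜) (I.Hcomp mR q d) * Module.finrank k (ℬ d) +
        (Finset.range (q + 2)).sum (fun i => Module.finrank (deg0 𝒜) (I.Hcomp mR i d) *
          Module.finrank (deg0 ℬ) (J.Hcomp mS (q + 1 - i) d))) :
    LocCoh.IsCohenMacaulayRing T ↔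
      (∀ n : ℤ, 𝒜 n = ⊥ ∨ J.Hcomp mS s n = ⊥) ∧ (∀ n : ℤ, I.Hcomp mR r n = ⊥ ∨ ℬ n = ⊥) := by
  have key := cm_arith h2r h2s (fun d => Module.finrank k (𝒜 d)) (fun d => Module.finrank k (ℬ d))
    (fun i d => Module.finrank (deg0 𝒜) (I.Hcomp mR i d))
    (fun j d => Module.finrank (deg0 ℬ) (J.Hcomp mS j d))
    (fun q d => Module.finrank (deg0 𝒯) (IT.Hcomp mT q d))
    (fun i d hi => finrank_Hcomp_eq_zero_of_ne 𝒜 hposR h0R mR hmR I hr i d hi)
    (fun j d hj => finrank_Hcomp_eq_zero_of_ne ℬ hposS h0S mS hmS J hs j d hj) hF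
  have hfT : ∀ q d, Module.Finite (deg0 𝒯) (IT.Hcomp mT q d) :=
    finite_Hcomp_self 𝒯 hposT mT hmT IT
  have hfR : ∀ q d, Module.Finite (deg0 𝒜) (I.Hcomp mR q d) := finite_Hcomp_self 𝒜 hposR mR hmR I
  have hfS : ∀ q d, Module.Finite (deg0 ℬ) (J.Hcomp mS q d) := finite_Hcomp_self ℬ hposS mS hmS J
  have hpR : ∀ d, Module.Finite k (𝒜 d) := finite_piece 𝒜 h0R
  have hpS : ∀ d, Module.Finite k (ℬ d) := finite_piece ℬ h0S
  have hL : LocCoh.IsCohenMacaulayRing T ↔
      ∀ q, q < r + s - 1 → ∀ d, Module.finrank (deg0 𝒯) (IT.Hcomp mT q d) = 0 := by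
    constructor
    · intro hCM q hq d
      rw [Hcomp_eq_bot_of_lt_dim 𝒯 hposT h0T mT hmT IT hdimT hq d]
      exact finrank_bot _ _
    · intro h
      refine isCohenMacaulayRing_of_Hcomp_eq_bot 𝒯 hposT h0T mT hmT IT hdimT fun q hq d => ?_
      haveI := hfT q d
      exact (finrank_eq_zero_iff 𝒯 h0T _).mp (h q hq d)
  rw [hL, key]
  refine and_congr (forall_congr' fun d => or_congr ?_ ?_) (forall_congr' fun d => or_congr ?_ ?_)
  · haveI := hpR d
    exact Submodule.finrank_eq_zero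
  · haveI := hfS s d
    exact finrank_eq_zero_iff ℬ h0S _
  · haveI := hfR r d
    exact finrank_eq_zero_iff 𝒜 h0R _
  · haveI := hpS d
    exact Submodule.finrank_eq_zero

end Main

end Groth.Agent.Lib.T2H3.Kun
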