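import Groth.Agent.Lib.T2H3KunT
import Groth.Agent.Lib.LeadGSa

/-! Künneth formula for Segre products (helper3), part U: the Cohen–Macaulay criterion for Segre
products of standard graded rings in terms of `a`-invariants. -/

set_option autoImplicit false
set_option linter.unusedSectionVars false
set_option linter.style.haveILetI false
open DirectSum

noncomputable section

namespace Groth.Agent.Lib.T2H3.Kun

open Groth.Agent.Lib.T2H3.GrTr Groth.Agent.Lib GrLC

universe u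

theorem lt_zero_iff_le_neg_one (x : WithBot (WithTop ℤ)) :
    x < 0 ↔ x ≤ (((-1 : ℤ) : WithTop ℤ) : WithBot (WithTop ℤ)) := by
  induction x using WithBot.recBotCoe with
  | bot =>
    constructor
    · intro _
      exact bot_le
    · intro _
      exact WithBot.bot_lt_coe _
  | coe y =>
    induction y using WithTop.recTopCoe with
    | top =>
      constructor
      · intro h
        have h1 : ((⊤ : WithTop ℤ) : WithBot (WithTop ℤ)) < ((0 : WithTop ℤ) : WithBot (WithTop ℤ)) :=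
          h
        rw [WithBot.coe_lt_coe] at h1
        exact absurd h1 (not_lt_of_ge le_top)
      · intro h
        rw [WithBot.coe_le_coe, top_le_iff] at h
        exact absurd h (WithTop.coe_ne_top)
    | coe n =>
      have e0 : (0 : WithBot (WithTop ℤ)) = (((0 : ℤ) : WithTop ℤ) : WithBot (WithTop ℤ)) := rfl
      rw [e0, WithBot.coe_lt_coe, WithTop.coe_lt_coe, WithBot.coe_le_coe, WithTop.coe_le_coe]
      omega

section A

variable {k : Type u} [Field k] {R : Type u} [CommRing R] [Algebra k R]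
  (𝒜 : ℤ → Submodule k R) [GradedAlgebra 𝒜]

theorem forall_or_iff_endDeg_neg (hpos : ∀ n : ℤ, n < 0 → 𝒜 n = ⊥)
    (hne : ∀ n : ℕ, 𝒜 (n : ℤ) ≠ ⊥) {H : Type u} [AddCommGroup H] (𝓗 : ℤ → AddSubgroup H) :
    (∀ n : ℤ, 𝒜 n = ⊥ ∨ 𝓗 n = ⊥) ↔ endDeg 𝓗 < 0 := by
  rw [lt_zero_iff_le_neg_one, Groth.Agent.Lib.T2H3.EG.endDeg_le_iff']
  constructor
  · intro h j hj
    obtain ⟨n, rfl⟩ : ∃ n : ℕ, j = (n : ℤ) := ⟨j.toNat, (Int.toNat_of_nonneg (by omega)).symm⟩
    rcases h (n : ℤ) with h1 | h1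
    · exact absurd h1 (hne n)
    · exact h1
  · intro h n
    rcases lt_or_ge n 0 with hn | hn
    · exact Or.inl (hpos n hn)
    · exact Or.inr (h n (by omega))

/-- The pieces of a standard graded Cohen–Macaulay ring of positive dimension are nonzero. -/
theorem piece_ne_bot [Nontrivial R] [hCM : LocCoh.IsCohenMacaulayRing R]
    (hpos : ∀ n : ℤ, n < 0 → 𝒜 n = ⊥) (h0 : 𝒜 0 = Submodule.span k {(1 : R)})
    (hstd : Ideal.span (⋃ n ∈ Set.Ioi (0 : ℤ), (𝒜 n : Set R)) =
      Ideal.span ((𝒜 1 : Submodule k R) : Set R))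
    (h1 : 1 ≤ ringKrullDim R) (n : ℕ) : 𝒜 (n : ℤ) ≠ ⊥ := by
  intro h
  have h2 := Groth.Agent.Lib.LeadGS.hilb_mono 𝒜 hpos h0 hstd h1 (Nat.zero_le n)
  rw [Groth.Agent.Lib.LeadGS.hilb_zero 𝒜 h0] at h2
  unfold Groth.Agent.Lib.LeadGS.hilb at h2
  rw [h, finrank_bot] at h2
  omega

theorem Hcomp_eq_bot_iff_Hgr (I : StarInjRes 𝒜 𝒜) (m : HomogeneousIdeal 𝒜) (q : ℕ) (n : ℤ) :
    I.Hcomp m q n = ⊥ ↔ I.Hgr m q n = ⊥ := by
  rw [Submodule.eq_bot_iff, AddSubgroup.eq_bot_iff_forall]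
  rfl

end A

end Groth.Agent.Lib.T2H3.Kun
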