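import Groth.Agent.Lib.T2H3KunS
import Groth.Agent.Lib.T2H3KunQ
import Groth.Agent.Lib.LeadSegJ
import Groth.Agent.Lib.LeadSegH
import Groth.Agent.Lib.Helper8GV
import Groth.Agent.Lib.Helper28DepthLoc
import Groth.Agent.Lib.Helper28DepthCM
import Groth.Agent.Lib.Helper8LCDepth
import Groth.Agent.Lib.Helper4RectDepthD
import Groth.Agent.Lib.Helper28Normal
import Groth.Agent.S13232
import Groth.Agent.S13234

/-! Künneth formula for Segre products (helper3), part V: graded local cohomology of a graded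
Cohen–Macaulay module over a graded ring over a field vanishes off the dimension. -/

set_option autoImplicit false
set_option linter.unusedSectionVars false
set_option linter.style.haveILetI false
open DirectSum

noncomputable section

namespace Groth.Agent.Lib.T2H3.Kun

open Groth.Agent.Lib.T2H3.GrTr Groth.Agent.Lib GrLC

universe u

section ModA

variable {k : Type u} [Field k] {R : Type u} [CommRing R] [Algebra k R] [Nontrivial R]
  (𝒜 : ℤ → Submodule k R) [GradedAlgebra 𝒜]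
  (hpos : ∀ n : ℤ, n < 0 → 𝒜 n = ⊥) (h0 : 𝒜 0 = Submodule.span k {(1 : R)})
  [Algebra.FiniteType k R]
  {M : Type u} [AddCommGroup M] [Module R M] [Module.Finite R M]
  (ℳ : ℤ → AddSubgroup M) [DirectSum.Decomposition ℳ] [SetLike.GradedSMul 𝒜 ℳ]
  (mR : HomogeneousIdeal 𝒜)
  (hmR : mR.toIdeal = Ideal.span (⋃ n ∈ Set.Ioi (0 : ℤ), (𝒜 n : Set R)))

include hpos h0 ℳ in
/-- The irrelevant ideal is in the support of a nonzero graded module. -/
theorem annihilator_le_irr [Nontrivial M] : Module.annihilator R M ≤ LeadSeg.irr 𝒜 := by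
  refine LeadSeg.le_irr_of_isHomogeneous 𝒜 hpos h0 (LeadSeg.annihilator_isHomogeneous 𝒜 ℳ) ?_
  intro h
  obtain ⟨x, hx⟩ := exists_ne (0 : M)
  have h1 : (1 : R) ∈ Module.annihilator R M := h ▸ Submodule.mem_top
  have h2 := Module.mem_annihilator.mp h1 x
  rw [one_smul] at h2
  exact hx h2

include hpos h0 ℳ in
/-- The dimension of a graded module is the dimension of its localization at the irrelevant
ideal. -/
theorem le_supportDim_localization_irr [Nontrivial M] (r : ℕ)
    (hdM : Module.supportDim R M = r) (𝔪 : Ideal R) [h𝔪 : 𝔪.IsMaximal]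
    (hle : LeadSeg.irr 𝒜 ≤ 𝔪) :
    (r : WithBot ℕ∞) ≤ Module.supportDim (Localization.AtPrime 𝔪)
      (LocalizedModule 𝔪.primeCompl M) := by
  classical
  haveI : IsNoetherianRing R := Algebra.FiniteType.isNoetherianRing k R
  have hdM' : ringKrullDim (R ⧸ Module.annihilator R M) = r := by
    rw [← Module.supportDim_eq_ringKrullDim_quotient_annihilator, hdM]
  obtain ⟨p, hp, hple, hpdim⟩ := Groth.Agent.Lib.Helper4.HilbFun.exists_prime_dim_eq _ r hdM'
  haveI := hp
  obtain ⟨p₀, hp₀min, hp₀p⟩ := Ideal.exists_minimalPrimes_le hple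
  haveI hp₀ : p₀.IsPrime := hp₀min.1.1
  have hannp₀ : Module.annihilator R M ≤ p₀ := hp₀min.1.2
  have hp₀dim : (r : WithBot ℕ∞) ≤ ringKrullDim (R ⧸ p₀) := by
    have h1 := ringKrullDim_le_of_surjective (Ideal.Quotient.factor hp₀p)
      (Ideal.Quotient.factor_surjective hp₀p)
    rwa [hpdim] at h1
  have hp₀hom : p₀.IsHomogeneous 𝒜 :=
    LeadSeg.isHomogeneous_of_mem_minimalPrimes 𝒜 (LeadSeg.annihilator_isHomogeneous 𝒜 ℳ) hp₀min
  have hp₀𝔪 : p₀ ≤ 𝔪 := (LeadSeg.le_irr_of_isHomogeneous 𝒜 hpos h0 hp₀hom hp₀.ne_top).trans hle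
  exact hp₀dim.trans
    (LeadSeg.ringKrullDim_quotient_le_supportDim_localization k 𝔪 p₀ hannp₀ hp₀𝔪)

include hpos h0 ℳ hmR in
/-- The depth of a graded Cohen–Macaulay module with respect to the irrelevant ideal. -/
theorem le_idealDepth_of_CM [Nontrivial M] (r : ℕ) (hdM : Module.supportDim R M = r)
    (hMcm : ∀ (q : Ideal R) [q.IsPrime], Subsingleton (LocalizedModule q.primeCompl M) ∨
      LocCoh.IsCohenMacaulayModule (Localization.AtPrime q) (LocalizedModule q.primeCompl M)) :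
    (r : ℕ∞) ≤ LocCoh.idealDepth mR.toIdeal M := by
  haveI : IsNoetherianRing R := Algebra.FiniteType.isNoetherianRing k R
  haveI hmax : mR.toIdeal.IsMaximal := by
    rw [hmR]
    exact LeadSeg.irr_isMaximal 𝒜 hpos h0
  rw [Groth.Agent.Lib.Helper28.idealDepth_eq_iInf_depth_localization mR.toIdeal M]
  refine le_iInf₂ fun p hp => ?_
  have hpe : mR.toIdeal = p.asIdeal := hmax.eq_of_le p.2.ne_top hp
  haveI hpmax : p.asIdeal.IsMaximal := hpe ▸ hmax
  have hle : LeadSeg.irr 𝒜 ≤ p.asIdeal := by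
    rw [← hpe, hmR]
    exact le_rfl
  have hdim := le_supportDim_localization_irr 𝒜 hpos h0 ℳ r hdM p.asIdeal hle
  have hpM : p ∈ Module.support R M := by
    rw [Module.support_eq_zeroLocus]
    exact (annihilator_le_irr 𝒜 hpos h0 ℳ).trans hle
  haveI hnt : Nontrivial (LocalizedModule p.asIdeal.primeCompl M) :=
    Module.mem_support_iff.mp hpM
  rcases hMcm p.asIdeal with h | h
  · exact absurd h (not_subsingleton _)
  · unfold LocCoh.IsCohenMacaulayModule at h
    rw [h] at hdim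
    exact_mod_cast hdim

include hpos h0 ℳ hmR in
theorem irr_smul_top_ne_top [Nontrivial M] : mR.toIdeal • (⊤ : Submodule R M) ≠ ⊤ := by
  intro h
  haveI hmax : mR.toIdeal.IsMaximal := by
    rw [hmR]
    exact LeadSeg.irr_isMaximal 𝒜 hpos h0
  obtain ⟨r, hr1, hr2⟩ := Submodule.exists_sub_one_mem_and_smul_eq_zero_of_fg_of_le_smul mR.toIdeal
    (⊤ : Submodule R M) Module.Finite.fg_top (le_of_eq h.symm)
  have hr : r ∈ Module.annihilator R M :=
    Module.mem_annihilator.mpr fun x => hr2 x Submodule.mem_top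
  have hrm : r ∈ mR.toIdeal := by
    have := annihilator_le_irr 𝒜 hpos h0 ℳ hr
    rw [hmR]
    exact this
  apply hmax.ne_top
  rw [Ideal.eq_top_iff_one]
  have h1 : r - (r - 1) ∈ mR.toIdeal := Ideal.sub_mem _ hrm hr1
  rwa [sub_sub_cancel] at h1

variable (E : StarInjRes 𝒜 ℳ)

include hpos h0 hmR in
/-- The graded local cohomology of a graded Cohen–Macaulay module vanishes off the dimension. -/
theorem Hcomp_eq_bot_of_ne_supportDim (r : ℕ) (hdM : Module.supportDim R M = r)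
    (hMcm : ∀ (q : Ideal R) [q.IsPrime], Subsingleton (LocalizedModule q.primeCompl M) ∨
      LocCoh.IsCohenMacaulayModule (Localization.AtPrime q) (LocalizedModule q.primeCompl M))
    (i : ℕ) (hi : i ≠ r) (d : ℤ) : E.Hcomp mR i d = ⊥ := by
  haveI : IsNoetherianRing R := Algebra.FiniteType.isNoetherianRing k R
  haveI : Nontrivial M := by
    by_contra hnt
    rw [not_nontrivial_iff_subsingleton] at hnt
    rw [Module.supportDim_eq_bot_of_subsingleton] at hdM
    exact absurd hdM (by simp)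
  obtain ⟨e⟩ := Groth.Agent.S13224.result R (asGr 𝒜) (hiTo 𝒜 mR) M (asGr ℳ) (resTo 𝒜 ℳ E) i
  rw [eq_bot_iff]
  intro y _
  rw [Submodule.mem_bot]
  have hy : e y = 0 := by
    rcases lt_or_gt_of_ne hi with h | h
    · exact Groth.Agent.Lib.Helper8.LC.H_eq_zero_of_lt_depth mR.toIdeal r M
        (irr_smul_top_ne_top 𝒜 hpos h0 ℳ mR hmR)
        (le_idealDepth_of_CM 𝒜 hpos h0 ℳ mR hmR r hdM hMcm) i h (e y)
    · refine Groth.Agent.Lib.Helper8.GV.H_eq_zero_of_supportDim_lt mR.toIdeal i M ?_ (e y)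
      rw [hdM]
      exact_mod_cast h
  exact e.injective (hy.trans (map_zero e).symm)

end ModA

section Arith

theorem arith_cm (a c c' : WithBot ℕ∞) (b : ℕ∞) (D : ℕ) (h1 : a + c' ≤ (D : WithBot ℕ∞))
    (h2 : (D : WithBot ℕ∞) ≤ (b : WithBot ℕ∞) + c) (h3 : c ≤ c') (h4 : (b : WithBot ℕ∞) ≤ a)
    (h5 : a ≠ ⊥) (h6 : c' ≠ ⊥) : a = (b : WithBot ℕ∞) := by
  obtain ⟨x, rfl⟩ := WithBot.ne_bot_iff_exists.mp h5
  obtain ⟨y, rfl⟩ := WithBot.ne_bot_iff_exists.mp h6
  have h1' : x + y ≤ (D : ℕ∞) := by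
    have : ((x + y : ℕ∞) : WithBot ℕ∞) ≤ ((D : ℕ∞) : WithBot ℕ∞) := by
      rw [WithBot.coe_add]
      exact h1
    exact WithBot.coe_le_coe.mp this
  have hx : x ≠ ⊤ := by
    intro h
    rw [h, top_add, top_le_iff] at h1'
    exact ENat.natCast_ne_top D h1'
  have hy : y ≠ ⊤ := by
    intro h
    rw [h, add_top, top_le_iff] at h1'
    exact ENat.natCast_ne_top D h1'
  obtain ⟨x', rfl⟩ := ENat.ne_top_iff_exists.mp hx
  obtain ⟨y', rfl⟩ := ENat.ne_top_iff_exists.mp hy
  have h4' : b ≤ (x' : ℕ∞) := WithBot.coe_le_coe.mp h4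
  have hb : b ≠ ⊤ := by
    intro h
    rw [h, top_le_iff] at h4'
    exact ENat.natCast_ne_top x' h4'
  obtain ⟨b', rfl⟩ := ENat.ne_top_iff_exists.mp hb
  have h2' : (D : WithBot ℕ∞) ≤ ((b' : ℕ∞) : WithBot ℕ∞) + ((y' : ℕ∞) : WithBot ℕ∞) :=
    h2.trans (add_le_add_right h3 _)
  rw [← WithBot.coe_add] at h2'
  have h2'' : (D : ℕ∞) ≤ (b' : ℕ∞) + (y' : ℕ∞) := WithBot.coe_le_coe.mp h2'
  have e1 : x' + y' ≤ D := by exact_mod_cast h1'
  have e2 : D ≤ b' + y' := by exact_mod_cast h2''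
  have e3 : b' ≤ x' := by exact_mod_cast h4'
  have e4 : x' = b' := by omega
  rw [e4]

end Arith

section ModB

variable {k : Type u} [Field k] {R : Type u} [CommRing R] [Algebra k R] [Nontrivial R]
  (𝒜 : ℤ → Submodule k R) [GradedAlgebra 𝒜]
  (hpos : ∀ n : ℤ, n < 0 → 𝒜 n = ⊥) (h0 : 𝒜 0 = Submodule.span k {(1 : R)})
  [Algebra.FiniteType k R]
  {M : Type u} [AddCommGroup M] [Module R M] [Module.Finite R M]
  (ℳ : ℤ → AddSubgroup M) [DirectSum.Decomposition ℳ] [SetLike.GradedSMul 𝒜 ℳ]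
  (mR : HomogeneousIdeal 𝒜)
  (hmR : mR.toIdeal = Ideal.span (⋃ n ∈ Set.Ioi (0 : ℤ), (𝒜 n : Set R)))
  (E : StarInjRes 𝒜 ℳ)

include hpos h0 hmR in
/-- Vanishing of the graded local cohomology below `D` bounds the depth below. -/
theorem le_idealDepth_of_Hcomp_eq_bot [Nontrivial M] (D : ℕ)
    (h : ∀ i : ℕ, i < D → ∀ d : ℤ, E.Hcomp mR i d = ⊥) :
    (D : ℕ∞) ≤ LocCoh.idealDepth mR.toIdeal M := by
  haveI : IsNoetherianRing R := Algebra.FiniteType.isNoetherianRing k R
  have hL : ∀ q : ℕ, q < D → ∀ y : LocCoh.H mR.toIdeal q M, y = 0 := by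
    intro q hq y
    obtain ⟨e⟩ := Groth.Agent.S13224.result R (asGr 𝒜) (hiTo 𝒜 mR) M (asGr ℳ) (resTo 𝒜 ℳ E) q
    have h1 : e.symm y = 0 :=
      H_eq_zero_of_Hcomp_eq_bot_gen (resTo 𝒜 ℳ E) (hiTo 𝒜 mR) (h q hq) (e.symm y)
    exact e.symm.injective (h1.trans (map_zero e.symm).symm)
  by_contra hlt
  rw [not_le] at hlt
  obtain ⟨j, hj⟩ := ENat.ne_top_iff_exists.mp (ne_top_of_lt hlt)
  obtain ⟨y, hy⟩ := Groth.Agent.Lib.Helper8.LC.H_ne_zero_of_depth_eq mR.toIdeal j M
    (irr_smul_top_ne_top 𝒜 hpos h0 ℳ mR hmR) hj.symm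
  have hjn : j < D := by
    rw [← hj] at hlt
    exact_mod_cast hlt
  exact hy (hL j hjn y)

include hpos h0 hmR in
/-- A graded module of depth equal to its dimension is Cohen–Macaulay at the homogeneous
primes. -/
theorem cm_at_homogeneous_of_le_idealDepth (D : ℕ) (hdM : Module.supportDim R M = D)
    (hdepth : (D : ℕ∞) ≤ LocCoh.idealDepth mR.toIdeal M) (q : Ideal R) [hq : q.IsPrime]
    (hqhom : q.IsHomogeneous 𝒜) [hnt : Nontrivial (LocalizedModule q.primeCompl M)] :
    LocCoh.IsCohenMacaulayModule (Localization.AtPrime q) (LocalizedModule q.primeCompl M) := by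
  haveI : IsNoetherianRing R := Algebra.FiniteType.isNoetherianRing k R
  haveI hmax : mR.toIdeal.IsMaximal := by
    rw [hmR]
    exact LeadSeg.irr_isMaximal 𝒜 hpos h0
  have hqm : q ≤ mR.toIdeal := by
    rw [hmR]
    exact LeadSeg.le_irr_of_isHomogeneous 𝒜 hpos h0 hqhom hq.ne_top
  have hqM : (⟨q, hq⟩ : PrimeSpectrum R) ∈ Module.support R M := Module.mem_support_iff.mpr hnt
  have g1 := Groth.Agent.Lib.Helper4.RectDepth.depth_localization_le_add q mR.toIdeal M hqm
  have g2 := LeadSeg.ringKrullDim_quotient_le_comap_localization mR.toIdeal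
    (q.map (algebraMap R (Localization.AtPrime mR.toIdeal)))
  rw [(Groth.Agent.Lib.Helper28.isPrime_map_and_comap_map_of_le mR.toIdeal hqm).2] at g2
  have g3 := Groth.Agent.Lib.Helper28.supportDim_localization_add_ringKrullDim_quotient_le
    (p := q) (hp := hq) (M := M) hqM
  rw [hdM] at g3
  have g4 : ((D : ℕ∞) : WithBot ℕ∞) ≤ ((LocCoh.depth (Localization.AtPrime mR.toIdeal)
      (LocalizedModule mR.toIdeal.primeCompl M) : ℕ∞) : WithBot ℕ∞) :=
    WithBot.coe_le_coe.mpr (hdepth.trans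
      (Groth.Agent.Lib.Helper28.idealDepth_le_depth_localization mR.toIdeal M le_rfl))
  have g5 := Groth.Agent.Lib.Helper28.depth_le_supportDim
    (R := Localization.AtPrime q) (M := LocalizedModule q.primeCompl M)
  have g6 : ringKrullDim (R ⧸ q) ≠ ⊥ := by
    haveI : Nontrivial (R ⧸ q) := Ideal.Quotient.nontrivial_iff.mpr hq.ne_top
    intro hbot
    have h1 := ringKrullDim_nonneg_of_nontrivial (R := R ⧸ q)
    rw [hbot] at h1
    exact absurd h1 (by simp)
  unfold LocCoh.IsCohenMacaulayModule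
  exact arith_cm _ _ _ _ D g3 (g4.trans g1) g2 g5
    (Module.supportDim_ne_bot_of_nontrivial _ _) g6

include hpos h0 hmR ℳ in
/-- A graded module of depth equal to its dimension is Cohen–Macaulay. -/
theorem cm_of_le_idealDepth (D : ℕ) (hdM : Module.supportDim R M = D)
    (hdepth : (D : ℕ∞) ≤ LocCoh.idealDepth mR.toIdeal M) (q : Ideal R) [hq : q.IsPrime] :
    Subsingleton (LocalizedModule q.primeCompl M) ∨
      LocCoh.IsCohenMacaulayModule (Localization.AtPrime q) (LocalizedModule q.primeCompl M) := by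
  classical
  haveI : IsNoetherianRing R := Algebra.FiniteType.isNoetherianRing k R
  by_cases hs : Subsingleton (LocalizedModule q.primeCompl M)
  · exact Or.inl hs
  right
  haveI hnt : Nontrivial (LocalizedModule q.primeCompl M) := not_subsingleton_iff_nontrivial.mp hs
  haveI hcore : (Ideal.homogeneousCore (asGr 𝒜) q).toIdeal.IsPrime :=
    Ideal.IsPrime.homogeneousCore hq
  have hq'hom : (Ideal.homogeneousCore (asGr 𝒜) q).toIdeal.IsHomogeneous 𝒜 :=
    (isHomogeneous_asGr_iff 𝒜 _).mp (Ideal.homogeneousCore (asGr 𝒜) q).isHomogeneous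
  have hle : (Ideal.homogeneousCore (asGr 𝒜) q).toIdeal ≤ q :=
    Ideal.toIdeal_homogeneousCore_le (asGr 𝒜) q
  have hqM : (⟨q, hq⟩ : PrimeSpectrum R) ∈ Module.support R M := Module.mem_support_iff.mpr hnt
  have hann : Module.annihilator R M ≤ q := by
    rw [Module.support_eq_zeroLocus] at hqM
    exact hqM
  have hann' : Module.annihilator R M ≤ (Ideal.homogeneousCore (asGr 𝒜) q).toIdeal := by
    have hh : (Module.annihilator R M).IsHomogeneous (asGr 𝒜) :=
      (isHomogeneous_asGr_iff 𝒜 _).mpr (LeadSeg.annihilator_isHomogeneous 𝒜 ℳ)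
    exact hh.toIdeal_homogeneousCore_eq_self.symm.trans_le
      (Ideal.homogeneousCore_mono (asGr 𝒜) hann)
  haveI hnt' : Nontrivial
      (LocalizedModule (Ideal.homogeneousCore (asGr 𝒜) q).toIdeal.primeCompl M) := by
    have h1 : (⟨(Ideal.homogeneousCore (asGr 𝒜) q).toIdeal, hcore⟩ : PrimeSpectrum R) ∈
        Module.support R M := by
      rw [Module.support_eq_zeroLocus]
      exact hann'
    exact Module.mem_support_iff.mp h1
  have hcm' := cm_at_homogeneous_of_le_idealDepth 𝒜 hpos h0 mR hmR D hdM hdepth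
    (Ideal.homogeneousCore (asGr 𝒜) q).toIdeal hq'hom
  haveI hprime : (q.map (Ideal.Quotient.mk (Ideal.homogeneousCore (asGr 𝒜) q).toIdeal)).IsPrime :=
    Ideal.map_isPrime_of_surjective Ideal.Quotient.mk_surjective (by rwa [Ideal.mk_ker])
  have hfin : (q.map (Ideal.Quotient.mk (Ideal.homogeneousCore (asGr 𝒜) q).toIdeal)).height ≠ ⊤ :=
    Ideal.height_ne_top_of_isPrime
  obtain ⟨d, hd⟩ := ENat.ne_top_iff_exists.mp hfin
  have hdep := Groth.Agent.S13234.result R (asGr 𝒜) M ℳ q d hd.symm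
  have hdim := Groth.Agent.S13232.result R (asGr 𝒜) M ℳ q d hd.symm hnt
  unfold LocCoh.IsCohenMacaulayModule at hcm' ⊢
  rw [hdim, hdep, hcm']
  rfl

include hpos h0 hmR in
/-- A graded module whose graded local cohomology vanishes below the dimension is
Cohen–Macaulay. -/
theorem cm_of_Hcomp_eq_bot (D : ℕ) (hdM : Module.supportDim R M = D)
    (h : ∀ i : ℕ, i < D → ∀ d : ℤ, E.Hcomp mR i d = ⊥) (q : Ideal R) [hq : q.IsPrime] :
    Subsingleton (LocalizedModule q.primeCompl M) ∨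
      LocCoh.IsCohenMacaulayModule (Localization.AtPrime q) (LocalizedModule q.primeCompl M) := by
  haveI : Nontrivial M := by
    by_contra hnt
    rw [not_nontrivial_iff_subsingleton] at hnt
    rw [Module.supportDim_eq_bot_of_subsingleton] at hdM
    exact absurd hdM (by simp)
  exact cm_of_le_idealDepth 𝒜 hpos h0 ℳ mR hmR D hdM
    (le_idealDepth_of_Hcomp_eq_bot 𝒜 hpos h0 ℳ mR hmR E D h) q

end ModB

end Groth.Agent.Lib.T2H3.Kun
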