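import Groth.Agent.Lib.T2H3SegA

/-! Segre products of graded modules (helper3), part B: the Segre product `A # B` as a graded
`T`-submodule of `A ⊗[k] B`, its decomposition and bundling as a graded module over `T`. -/

set_option autoImplicit false
set_option linter.unusedSectionVars false
open DirectSum
open scoped TensorProduct

noncomputable section

namespace Groth.Agent.Lib.T2H3.Seg

open Groth.Agent.Lib.T2H3.GrTr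

universe u

variable {k : Type u} [Field k] {R S T : Type u} [CommRing R] [CommRing S] [CommRing T]
  [Algebra k R] [Algebra k S] [Algebra k T]
  {𝒜 : ℤ → Submodule k R} [GradedAlgebra 𝒜] {ℬ : ℤ → Submodule k S} [GradedAlgebra ℬ]
  {𝒯 : ℤ → Submodule k T} [GradedAlgebra 𝒯] {ψ : T →ₐ[k] R ⊗[k] S}
variable {A : Type u} [AddCommGroup A] [Module R A] [Module k A] [IsScalarTower k R A]
  (𝓐 : ℤ → AddSubgroup A) [DirectSum.Decomposition 𝓐] [SetLike.GradedSMul 𝒜 𝓐]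
variable {B : Type u} [AddCommGroup B] [Module S B] [Module k B] [IsScalarTower k S B]
  (𝓑 : ℤ → AddSubgroup B) [DirectSum.Decomposition 𝓑] [SetLike.GradedSMul ℬ 𝓑]

theorem psi_mem (hT : GrSeg.IsSegreRing 𝒜 ℬ 𝒯 ψ) {n : ℤ} {t : T} (ht : t ∈ 𝒯 n) :
    ψ t ∈ GrSeg.segrePiece k 𝒜 ℬ n := by
  rw [← hT.2 n]
  exact ⟨t, ht, rfl⟩

omit [DirectSum.Decomposition 𝓐] [DirectSum.Decomposition 𝓑] in
theorem act_mem {n d : ℤ} {u : R ⊗[k] S} (hu : u ∈ GrSeg.segrePiece k 𝒜 ℬ n) {w : A ⊗[k] B}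
    (hw : w ∈ GrSeg.segrePiece k 𝓐 𝓑 d) :
    GrSeg.act k R S A B u w ∈ GrSeg.segrePiece k 𝓐 𝓑 (n + d) := by
  induction hu using Submodule.span_induction with
  | mem x hx =>
    obtain ⟨a, ha, b, hb, rfl⟩ := hx
    induction hw using Submodule.span_induction with
    | mem y hy =>
      obtain ⟨x, hx, y, hy, rfl⟩ := hy
      rw [GrSeg.act_tmul]
      exact tmul_mem_piece 𝓐 𝓑 (SetLike.GradedSMul.smul_mem (A := 𝒜) (B := 𝓐) ha hx)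
        (SetLike.GradedSMul.smul_mem (A := ℬ) (B := 𝓑) hb hy)
    | zero => rw [map_zero]; exact zero_mem _
    | add x y _ _ hx hy => rw [map_add]; exact add_mem hx hy
    | smul c x _ hx => rw [map_smul]; exact Submodule.smul_mem _ c hx
  | zero => rw [map_zero, LinearMap.zero_apply]; exact zero_mem _
  | add x y _ _ hx hy => rw [map_add, LinearMap.add_apply]; exact add_mem hx hy
  | smul c x _ hx => rw [map_smul, LinearMap.smul_apply]; exact Submodule.smul_mem _ c hx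

/-- The sum of the diagonal pieces, as a `k`-subspace of `A ⊗[k] B`. -/
def segK : Submodule k (A ⊗[k] B) := ⨆ d, GrSeg.segrePiece k 𝓐 𝓑 d

omit [DirectSum.Decomposition 𝓐] [DirectSum.Decomposition 𝓑] in
theorem act_mem_segK (hT : GrSeg.IsSegreRing 𝒜 ℬ 𝒯 ψ) (t : T) {w : A ⊗[k] B}
    (hw : w ∈ segK 𝓐 𝓑) : GrSeg.act k R S A B (ψ t) w ∈ segK 𝓐 𝓑 := by
  classical
  rw [← DirectSum.sum_support_decompose 𝒯 t, map_sum, map_sum, LinearMap.sum_apply]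
  refine Submodule.sum_mem _ fun n _ => ?_
  have hn := psi_mem hT (SetLike.coe_mem ((decompose 𝒯 t) n))
  refine Submodule.iSup_induction (fun d => GrSeg.segrePiece k 𝓐 𝓑 d)
    (motive := fun w => GrSeg.act k R S A B (ψ ((decompose 𝒯 t) n : T)) w ∈ segK 𝓐 𝓑) hw ?_ ?_ ?_
  · intro d x hx
    exact (le_iSup (fun d => GrSeg.segrePiece k 𝓐 𝓑 d) (n + d)) (act_mem 𝓐 𝓑 hn hx)
  · rw [map_zero]; exact zero_mem _
  · intro x y hx hy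
    rw [map_add]; exact add_mem hx hy

variable (hT : GrSeg.IsSegreRing 𝒜 ℬ 𝒯 ψ)

/-- The Segre product `A # B` as a `T`-submodule of `A ⊗[k] B`. -/
def seg : Submodule T (TW ψ A B) where
  carrier := {w | (toTW ψ A B).symm w ∈ segK 𝓐 𝓑}
  add_mem' {a b} ha hb := by
    have h : (toTW ψ A B).symm a + (toTW ψ A B).symm b ∈ segK 𝓐 𝓑 := add_mem ha hb
    exact h
  zero_mem' := zero_mem (segK 𝓐 𝓑)
  smul_mem' t _ hw := act_mem_segK 𝓐 𝓑 hT t hw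

theorem mem_seg {w : TW ψ A B} : w ∈ seg 𝓐 𝓑 hT ↔ (toTW ψ A B).symm w ∈ segK 𝓐 𝓑 := Iff.rfl

/-- The underlying tensor of an element of the Segre product. -/
def sval : ↥(seg 𝓐 𝓑 hT) →ₗ[k] A ⊗[k] B :=
  ((toTW ψ A B).symm : TW ψ A B →ₗ[k] A ⊗[k] B) ∘ₗ ((seg 𝓐 𝓑 hT).subtype.restrictScalars k)

theorem sval_injective : Function.Injective (sval 𝓐 𝓑 hT) := fun _ _ h => Subtype.ext h

theorem sval_mem (z : ↥(seg 𝓐 𝓑 hT)) : sval 𝓐 𝓑 hT z ∈ segK 𝓐 𝓑 := z.2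

theorem sval_smul (t : T) (z : ↥(seg 𝓐 𝓑 hT)) :
    sval 𝓐 𝓑 hT (t • z) = GrSeg.act k R S A B (ψ t) (sval 𝓐 𝓑 hT z) := rfl

/-- Constructor. -/
def smk (w : A ⊗[k] B) (hw : w ∈ segK 𝓐 𝓑) : ↥(seg 𝓐 𝓑 hT) := ⟨toTW ψ A B w, hw⟩

@[simp] theorem sval_smk (w : A ⊗[k] B) (hw : w ∈ segK 𝓐 𝓑) : sval 𝓐 𝓑 hT (smk 𝓐 𝓑 hT w hw) = w :=
  rfl

theorem piece_le_segK (d : ℤ) : GrSeg.segrePiece k 𝓐 𝓑 d ≤ segK 𝓐 𝓑 :=
  le_iSup (fun d => GrSeg.segrePiece k 𝓐 𝓑 d) d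

/-- The pieces of the Segre product. -/
def segGr (d : ℤ) : AddSubgroup ↥(seg 𝓐 𝓑 hT) :=
  (GrSeg.segrePiece k 𝓐 𝓑 d).toAddSubgroup.comap (sval 𝓐 𝓑 hT).toAddMonoidHom

theorem mem_segGr {d : ℤ} {z : ↥(seg 𝓐 𝓑 hT)} :
    z ∈ segGr 𝓐 𝓑 hT d ↔ sval 𝓐 𝓑 hT z ∈ GrSeg.segrePiece k 𝓐 𝓑 d := Iff.rfl

theorem pd_coe (y : ⨁ d, segGr 𝓐 𝓑 hT d) (e : ℤ) :
    pd 𝒜 ℬ 𝓐 𝓑 e (sval 𝓐 𝓑 hT (DirectSum.coeAddMonoidHom (segGr 𝓐 𝓑 hT) y)) =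
      sval 𝓐 𝓑 hT ((y e : ↥(segGr 𝓐 𝓑 hT e)) : ↥(seg 𝓐 𝓑 hT)) := by
  classical
  induction y using DirectSum.induction_on with
  | zero => simp
  | of d x =>
    rw [DirectSum.coeAddMonoidHom_of]
    by_cases h : d = e
    · subst h
      rw [DirectSum.of_eq_same]
      exact pd_of_mem_same 𝒜 ℬ 𝓐 𝓑 x.2
    · rw [DirectSum.of_eq_of_ne _ _ _ (Ne.symm h)]
      have h1 := pd_of_mem_ne 𝒜 ℬ 𝓐 𝓑 (w := sval 𝓐 𝓑 hT x) x.2 h
      rw [h1]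
      simp
  | add x y hx hy =>
    rw [map_add, map_add, map_add, hx, hy, DirectSum.add_apply, AddSubgroup.coe_add, map_add]

theorem isInternal_segGr : DirectSum.IsInternal (segGr 𝓐 𝓑 hT) := by
  classical
  constructor
  · rw [injective_iff_map_eq_zero]
    intro y hy
    apply DFinsupp.ext
    intro e
    apply Subtype.ext
    apply sval_injective 𝓐 𝓑 hT
    rw [← pd_coe, hy]
    simp
  · intro z
    let Sg : AddSubgroup (A ⊗[k] B) :=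
      (((sval 𝓐 𝓑 hT).toAddMonoidHom).comp (DirectSum.coeAddMonoidHom (segGr 𝓐 𝓑 hT))).range
    have key : ∀ w ∈ segK 𝓐 𝓑, w ∈ Sg := by
      intro w hw
      refine Submodule.iSup_induction (fun d => GrSeg.segrePiece k 𝓐 𝓑 d)
        (motive := fun w => w ∈ Sg) hw ?_ ?_ ?_
      · intro d x hx
        refine ⟨DirectSum.of (fun d => segGr 𝓐 𝓑 hT d) d
          ⟨smk 𝓐 𝓑 hT x (piece_le_segK 𝓐 𝓑 d hx), hx⟩, ?_⟩
        rw [AddMonoidHom.comp_apply, DirectSum.coeAddMonoidHom_of]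
        rfl
      · exact zero_mem _
      · intro x y hx hy
        exact add_mem hx hy
    obtain ⟨y, hy⟩ := key _ (sval_mem 𝓐 𝓑 hT z)
    exact ⟨y, sval_injective 𝓐 𝓑 hT hy⟩

/-- The decomposition of the Segre product. -/
@[instance_reducible]
def segDecomposition : DirectSum.Decomposition (segGr 𝓐 𝓑 hT) :=
  (isInternal_segGr 𝓐 𝓑 hT).chooseDecomposition

theorem seg_gradedSMul : SetLike.GradedSMul (asGr 𝒯) (segGr 𝓐 𝓑 hT) where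
  smul_mem := by
    intro n d t z ht hz
    rw [vadd_eq_add]
    change sval 𝓐 𝓑 hT (t • z) ∈ GrSeg.segrePiece k 𝓐 𝓑 (n + d)
    rw [sval_smul]
    exact act_mem 𝓐 𝓑 (psi_mem hT ht) hz

/-- The Segre product, bundled as a graded `T`-module. -/
def segG : GrLC.GMod.{u} (asGr 𝒯) :=
  letI := segDecomposition 𝓐 𝓑 hT
  letI := seg_gradedSMul 𝓐 𝓑 hT
  GrLC.GMod.of (asGr 𝒯) ↥(seg 𝓐 𝓑 hT) (segGr 𝓐 𝓑 hT)

theorem sval_decompose (z : ↥(seg 𝓐 𝓑 hT)) (e : ℤ) :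
    letI := segDecomposition 𝓐 𝓑 hT
    sval 𝓐 𝓑 hT (((decompose (segGr 𝓐 𝓑 hT) z) e : ↥(segGr 𝓐 𝓑 hT e)) : ↥(seg 𝓐 𝓑 hT)) =
      pd 𝒜 ℬ 𝓐 𝓑 e (sval 𝓐 𝓑 hT z) := by
  let _ := segDecomposition 𝓐 𝓑 hT
  have h := pd_coe 𝓐 𝓑 hT (decompose (segGr 𝓐 𝓑 hT) z) e
  have h2 : DirectSum.coeAddMonoidHom (segGr 𝓐 𝓑 hT) (decompose (segGr 𝓐 𝓑 hT) z) = z :=
    (decompose (segGr 𝓐 𝓑 hT)).symm_apply_apply z
  rw [h2] at h
  exact h.symm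

section Functorial

variable {A' : Type u} [AddCommGroup A'] [Module R A'] [Module k A'] [IsScalarTower k R A']
  (𝓐' : ℤ → AddSubgroup A') [DirectSum.Decomposition 𝓐'] [SetLike.GradedSMul 𝒜 𝓐']
variable {B' : Type u} [AddCommGroup B'] [Module S B'] [Module k B'] [IsScalarTower k S B']
  (𝓑' : ℤ → AddSubgroup B') [DirectSum.Decomposition 𝓑'] [SetLike.GradedSMul ℬ 𝓑']

omit [DirectSum.Decomposition 𝓐] [DirectSum.Decomposition 𝓑] [DirectSum.Decomposition 𝓐']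
  [DirectSum.Decomposition 𝓑'] [SetLike.GradedSMul 𝒜 𝓐] [SetLike.GradedSMul ℬ 𝓑]
  [SetLike.GradedSMul 𝒜 𝓐'] [SetLike.GradedSMul ℬ 𝓑'] in
theorem map_mem_piece (f : A →ₗ[k] A') (g : B →ₗ[k] B') (c : ℤ)
    (hf : ∀ d a, a ∈ 𝓐 d → f a ∈ 𝓐' (d + c)) (hg : ∀ d b, b ∈ 𝓑 d → g b ∈ 𝓑' (d + c))
    {d : ℤ} {w : A ⊗[k] B} (hw : w ∈ GrSeg.segrePiece k 𝓐 𝓑 d) :
    TensorProduct.map f g w ∈ GrSeg.segrePiece k 𝓐' 𝓑' (d + c) := by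
  induction hw using Submodule.span_induction with
  | mem x hx =>
    obtain ⟨a, ha, b, hb, rfl⟩ := hx
    rw [TensorProduct.map_tmul]
    exact tmul_mem_piece 𝓐' 𝓑' (hf d a ha) (hg d b hb)
  | zero => rw [map_zero]; exact zero_mem _
  | add x y _ _ hx hy => rw [map_add]; exact add_mem hx hy
  | smul c x _ hx => rw [map_smul]; exact Submodule.smul_mem _ c hx

theorem map_mem_segK (f : A →ₗ[k] A') (g : B →ₗ[k] B') (c : ℤ)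
    (hf : ∀ d a, a ∈ 𝓐 d → f a ∈ 𝓐' (d + c)) (hg : ∀ d b, b ∈ 𝓑 d → g b ∈ 𝓑' (d + c))
    {w : A ⊗[k] B} (hw : w ∈ segK 𝓐 𝓑) : TensorProduct.map f g w ∈ segK 𝓐' 𝓑' := by
  refine Submodule.iSup_induction (fun d => GrSeg.segrePiece k 𝓐 𝓑 d)
    (motive := fun w => TensorProduct.map f g w ∈ segK 𝓐' 𝓑') hw ?_ ?_ ?_
  · intro d x hx
    exact piece_le_segK 𝓐' 𝓑' (d + c) (map_mem_piece 𝓐 𝓑 𝓐' 𝓑' f g c hf hg hx)
  · rw [map_zero]; exact zero_mem _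
  · intro x y hx hy
    rw [map_add]; exact add_mem hx hy

/-- The map induced on Segre products by `k`-linear maps homogeneous of the same degree. -/
def segMapK (f : A →ₗ[k] A') (g : B →ₗ[k] B') (c : ℤ)
    (hf : ∀ d a, a ∈ 𝓐 d → f a ∈ 𝓐' (d + c)) (hg : ∀ d b, b ∈ 𝓑 d → g b ∈ 𝓑' (d + c)) :
    ↥(seg 𝓐 𝓑 hT) →ₗ[k] ↥(seg 𝓐' 𝓑' hT) where
  toFun z := smk 𝓐' 𝓑' hT (TensorProduct.map f g (sval 𝓐 𝓑 hT z))
    (map_mem_segK 𝓐 𝓑 𝓐' 𝓑' f g c hf hg (sval_mem 𝓐 𝓑 hT z))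
  map_add' x y := by
    apply sval_injective 𝓐' 𝓑' hT
    change TensorProduct.map f g (sval 𝓐 𝓑 hT (x + y)) =
      TensorProduct.map f g (sval 𝓐 𝓑 hT x) + TensorProduct.map f g (sval 𝓐 𝓑 hT y)
    rw [map_add, map_add]
  map_smul' a x := by
    apply sval_injective 𝓐' 𝓑' hT
    change TensorProduct.map f g (sval 𝓐 𝓑 hT (a • x)) =
      a • TensorProduct.map f g (sval 𝓐 𝓑 hT x)
    rw [map_smul, map_smul]

@[simp] theorem sval_segMapK (f : A →ₗ[k] A') (g : B →ₗ[k] B') (c : ℤ)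
    (hf : ∀ d a, a ∈ 𝓐 d → f a ∈ 𝓐' (d + c)) (hg : ∀ d b, b ∈ 𝓑 d → g b ∈ 𝓑' (d + c))
    (z : ↥(seg 𝓐 𝓑 hT)) :
    sval 𝓐' 𝓑' hT (segMapK 𝓐 𝓑 hT 𝓐' 𝓑' f g c hf hg z) =
      TensorProduct.map f g (sval 𝓐 𝓑 hT z) := rfl

theorem segMapK_mem (f : A →ₗ[k] A') (g : B →ₗ[k] B') (c : ℤ)
    (hf : ∀ d a, a ∈ 𝓐 d → f a ∈ 𝓐' (d + c)) (hg : ∀ d b, b ∈ 𝓑 d → g b ∈ 𝓑' (d + c))
    {d : ℤ} {z : ↥(seg 𝓐 𝓑 hT)} (hz : z ∈ segGr 𝓐 𝓑 hT d) :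
    segMapK 𝓐 𝓑 hT 𝓐' 𝓑' f g c hf hg z ∈ segGr 𝓐' 𝓑' hT (d + c) :=
  map_mem_piece 𝓐 𝓑 𝓐' 𝓑' f g c hf hg hz

/-- The `T`-linear map induced on Segre products by homogeneous linear maps. -/
def segMap (f : A →ₗ[R] A') (g : B →ₗ[S] B') (hf : GrLC.IsGrHom 𝓐 𝓐' f)
    (hg : GrLC.IsGrHom 𝓑 𝓑' g) : ↥(seg 𝓐 𝓑 hT) →ₗ[T] ↥(seg 𝓐' 𝓑' hT) where
  toFun z := segMapK 𝓐 𝓑 hT 𝓐' 𝓑' (f.restrictScalars k) (g.restrictScalars k) 0
    (fun d a ha => by rw [add_zero]; exact hf d a ha)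
    (fun d b hb => by rw [add_zero]; exact hg d b hb) z
  map_add' x y := map_add _ x y
  map_smul' t x := by
    apply sval_injective 𝓐' 𝓑' hT
    rw [RingHom.id_apply, sval_segMapK, sval_smul, sval_smul, sval_segMapK, map_act]

@[simp] theorem sval_segMap (f : A →ₗ[R] A') (g : B →ₗ[S] B') (hf : GrLC.IsGrHom 𝓐 𝓐' f)
    (hg : GrLC.IsGrHom 𝓑 𝓑' g) (z : ↥(seg 𝓐 𝓑 hT)) :
    sval 𝓐' 𝓑' hT (segMap 𝓐 𝓑 hT 𝓐' 𝓑' f g hf hg z) =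
      TensorProduct.map (f.restrictScalars k) (g.restrictScalars k) (sval 𝓐 𝓑 hT z) := rfl

theorem segMap_isGrHom (f : A →ₗ[R] A') (g : B →ₗ[S] B') (hf : GrLC.IsGrHom 𝓐 𝓐' f)
    (hg : GrLC.IsGrHom 𝓑 𝓑' g) :
    GrLC.IsGrHom (segGr 𝓐 𝓑 hT) (segGr 𝓐' 𝓑' hT) (segMap 𝓐 𝓑 hT 𝓐' 𝓑' f g hf hg) := by
  intro d z hz
  have h := segMapK_mem 𝓐 𝓑 hT 𝓐' 𝓑' (f.restrictScalars k) (g.restrictScalars k) 0
    (fun d a ha => by rw [add_zero]; exact hf d a ha)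
    (fun d b hb => by rw [add_zero]; exact hg d b hb) hz
  rw [add_zero] at h
  exact h

end Functorial

end Groth.Agent.Lib.T2H3.Seg
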