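import Groth.Agent.Lib.T2H3KunV
import Groth.Agent.Lib.T2H3SegB
import Groth.Agent.Lib.T2H3KunT

/-! Künneth formula for Segre products (helper3), part W: a Noetherian graded ring over a field
is of finite type; the Segre product of graded modules is a graded module. -/

set_option autoImplicit false
set_option linter.unusedSectionVars false
set_option linter.style.haveILetI false
open DirectSum
open scoped TensorProduct

noncomputable section

namespace Groth.Agent.Lib.T2H3.Kun

open Groth.Agent.Lib.T2H3.GrTr Groth.Agent.Lib GrLC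

universe u

section FT

variable {k : Type u} [Field k] {R : Type u} [CommRing R] [Algebra k R]
  (𝒜 : ℤ → Submodule k R) [GradedAlgebra 𝒜]
  (hpos : ∀ n : ℤ, n < 0 → 𝒜 n = ⊥) (h0 : 𝒜 0 = Submodule.span k {(1 : R)})

include hpos h0 in
/-- A Noetherian nonnegatively graded algebra over a field with degree zero part the field is of
finite type. -/
theorem finiteType_of_isNoetherianRing [IsNoetherianRing R] : Algebra.FiniteType k R := by
  classical
  have hfg : (Submodule.span R (⋃ n ∈ Set.Ioi (0 : ℤ), (𝒜 n : Set R))).FG :=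
    IsNoetherian.noetherian _
  obtain ⟨t, hts, ht⟩ := (Submodule.fg_span_iff_fg_span_finset_subset _).mp hfg
  have hdeg : ∀ b ∈ t, ∃ j : ℤ, 0 < j ∧ b ∈ 𝒜 j := by
    intro b hb
    obtain ⟨n, hn, hbn⟩ := Set.mem_iUnion₂.mp (hts hb)
    exact ⟨n, hn, hbn⟩
  have hneg0 : ∀ i : ℤ, i < 0 → ∀ y ∈ 𝒜 i, y = 0 := by
    intro i hi y hy
    rw [hpos i hi] at hy
    exact (Submodule.mem_bot k).mp hy
  have key : ∀ n : ℕ, ∀ x ∈ 𝒜 (n : ℤ), x ∈ Algebra.adjoin k (t : Set R) := by
    intro n
    induction n using Nat.strong_induction_on with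
    | _ n ih =>
      intro x hx
      rcases Nat.eq_zero_or_pos n with hn | hn
      · subst hn
        rw [Nat.cast_zero, h0] at hx
        obtain ⟨c, rfl⟩ := Submodule.mem_span_singleton.mp hx
        rw [← Algebra.algebraMap_eq_smul_one]
        exact Subalgebra.algebraMap_mem _ c
      · have hxs : x ∈ Submodule.span R (⋃ n ∈ Set.Ioi (0 : ℤ), (𝒜 n : Set R)) :=
          Submodule.subset_span (Set.mem_biUnion (show (n : ℤ) ∈ Set.Ioi (0 : ℤ) from
            Set.mem_Ioi.mpr (by exact_mod_cast hn)) hx)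
        rw [ht] at hxs
        obtain ⟨f, -, hf⟩ := Submodule.mem_span_finset.mp hxs
        have hx' : x = ∑ b ∈ t, ((decompose 𝒜 (f b • b)) (n : ℤ) : R) := by
          have h1 : ((decompose 𝒜 x) (n : ℤ) : R) = x := DirectSum.decompose_of_mem_same 𝒜 hx
          rw [← h1, ← hf, DirectSum.decompose_sum, DFinsupp.finsetSum_apply,
            AddSubmonoidClass.coe_finsetSum]
        rw [hx']
        refine Subalgebra.sum_mem _ fun b hb => ?_
        obtain ⟨j, hj, hbj⟩ := hdeg b hb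
        have e : (n : ℤ) = ((n : ℤ) - j) + j := by ring
        rw [smul_eq_mul, e, DirectSum.coe_decompose_mul_add_of_right_mem 𝒜 hbj]
        refine Subalgebra.mul_mem _ ?_ (Algebra.subset_adjoin hb)
        rcases lt_or_ge ((n : ℤ) - j) 0 with hneg | hge
        · rw [hneg0 _ hneg _ (SetLike.coe_mem _)]
          exact Subalgebra.zero_mem _
        · obtain ⟨m, hm⟩ : ∃ m : ℕ, (n : ℤ) - j = (m : ℤ) :=
            ⟨((n : ℤ) - j).toNat, (Int.toNat_of_nonneg hge).symm⟩
          have hmn : m < n := by omega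
          have h3 : ∀ (i : ℤ) (m : ℕ), i = (m : ℤ) → m < n → ∀ y ∈ 𝒜 i,
              y ∈ Algebra.adjoin k (t : Set R) := by
            intro i m hi hmn y hy
            subst hi
            exact ih m hmn y hy
          exact h3 _ m hm hmn _ (SetLike.coe_mem _)
  refine ⟨⟨t, ?_⟩⟩
  rw [eq_top_iff]
  intro x _
  rw [← DirectSum.sum_support_decompose 𝒜 x]
  refine Subalgebra.sum_mem _ fun i _ => ?_
  rcases lt_or_ge i 0 with hneg | hge
  · rw [hneg0 _ hneg _ (SetLike.coe_mem _)]
    exact Subalgebra.zero_mem _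
  · obtain ⟨m, rfl⟩ : ∃ m : ℕ, i = (m : ℤ) := ⟨i.toNat, (Int.toNat_of_nonneg hge).symm⟩
    exact key m _ (SetLike.coe_mem _)

end FT

section GS

variable {k : Type u} [Field k] {R S T : Type u} [CommRing R] [CommRing S] [CommRing T]
  [Algebra k R] [Algebra k S] [Algebra k T]
  {𝒜 : ℤ → Submodule k R} [GradedAlgebra 𝒜] {ℬ : ℤ → Submodule k S} [GradedAlgebra ℬ]
  {𝒯 : ℤ → Submodule k T} [GradedAlgebra 𝒯] {ψ : T →ₐ[k] R ⊗[k] S}
variable {M : Type u} [AddCommGroup M] [Module R M] [Module k M] [IsScalarTower k R M]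
  (ℳ : ℤ → AddSubgroup M) [DirectSum.Decomposition ℳ] [SetLike.GradedSMul 𝒜 ℳ]
variable {N : Type u} [AddCommGroup N] [Module S N] [Module k N] [IsScalarTower k S N]
  (𝒩 : ℤ → AddSubgroup N) [DirectSum.Decomposition 𝒩] [SetLike.GradedSMul ℬ 𝒩]
variable {P : Type u} [AddCommGroup P] [Module T P] [Module k P] [IsScalarTower k T P]
  (𝒬 : ℤ → AddSubgroup P) [DirectSum.Decomposition 𝒬] {φ : P →ₗ[k] M ⊗[k] N}

/-- The Segre product of graded modules is a graded module over the Segre product of the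
rings. -/
theorem gradedSMul_of_isSegreMod (hT : GrSeg.IsSegreRing 𝒜 ℬ 𝒯 ψ)
    (hP : GrSeg.IsSegreMod ψ ℳ 𝒩 𝒬 φ) : SetLike.GradedSMul 𝒯 𝒬 where
  smul_mem := by
    intro i j t p ht hp
    have h1 : φ p ∈ GrSeg.segrePiece k ℳ 𝒩 j := by
      rw [← SetLike.mem_coe, ← hP.image_piece j]
      exact ⟨p, hp, rfl⟩
    have h2 := Groth.Agent.Lib.T2H3.Seg.act_mem ℳ 𝒩 (Groth.Agent.Lib.T2H3.Seg.psi_mem hT ht) h1
    rw [← hP.map_smul, ← SetLike.mem_coe, ← hP.image_piece (i + j)] at h2
    obtain ⟨p', hp', hpp'⟩ := h2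
    rw [vadd_eq_add, ← hP.injective hpp']
    exact hp'

end GS

section ResOfMod

variable {R : Type u} [CommRing R] {σ : Type u} [SetLike σ R] [AddSubgroupClass σ R]
  (𝒜 : ℤ → σ) [GradedRing 𝒜] {M : Type u} [AddCommGroup M] [Module R M]
  (ℳ : ℤ → AddSubgroup M) [DirectSum.Decomposition ℳ] [SetLike.GradedSMul 𝒜 ℳ]

/-- Transfer of a *injective resolution of a module, back. -/
def resOfMod (E : StarInjRes (asGr 𝒜) ℳ) : StarInjRes 𝒜 ℳ where
  X n := gmOf 𝒜 (E.X n)
  d n := E.d n
  ε := E.ε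
  d_grHom n := E.d_grHom n
  ε_grHom := fun g m hm => E.ε_grHom g m hm
  ε_injective := E.ε_injective
  exact_zero := E.exact_zero
  exact_succ := E.exact_succ
  starInj n := by
    haveI := gradedSMul_of_asGr 𝒜 (E.X n).gr (E.X n).gsmul
    exact isStarInj_of_asGr 𝒜 (E.X n).gr (E.starInj n)

/-- A *injective resolution of a graded module over a Noetherian graded ring exists. -/
theorem nonempty_starInjRes [IsNoetherianRing R] : Nonempty (StarInjRes 𝒜 ℳ) := by
  obtain ⟨E⟩ := Groth.Agent.S13215.result (ι := ℤ) R (asGr 𝒜) M ℳ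
  exact ⟨resOfMod 𝒜 ℳ E⟩

end ResOfMod

end Groth.Agent.Lib.T2H3.Kun
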