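import Groth.Agent.Lib.T2H3KunW

/-! Künneth formula for Segre products (helper3), part X: the Cohen–Macaulay criterion for Segre
products of graded Cohen–Macaulay modules, from the dimension formula. -/

set_option autoImplicit false
set_option linter.unusedSectionVars false
set_option linter.style.haveILetI false
open DirectSum
open scoped TensorProduct

noncomputable section

namespace Groth.Agent.Lib.T2H3.Kun

open Groth.Agent.Lib.T2H3.GrTr Groth.Agent.Lib GrLC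

universe u

section CompBot

variable {k : Type u} [Field k] {R : Type u} [CommRing R] [Algebra k R]
  (𝒜 : ℤ → Submodule k R) [GradedAlgebra 𝒜]
  {M : Type u} [AddCommGroup M] [Module R M]
  (ℳ : ℤ → AddSubgroup M) [SetLike.GradedSMul 𝒜 ℳ]

theorem comp_eq_bot_iff (d : ℤ) : comp 𝒜 ℳ d = ⊥ ↔ ℳ d = ⊥ := by
  rw [Submodule.eq_bot_iff, AddSubgroup.eq_bot_iff_forall]
  rfl

end CompBot

section MainMod

variable {k : Type u} [Field k] {R S T : Type u} [CommRing R] [CommRing S] [CommRing T]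
  [Algebra k R] [Algebra k S] [Algebra k T] [Nontrivial R] [Nontrivial S] [Nontrivial T]
  (𝒜 : ℤ → Submodule k R) [GradedAlgebra 𝒜] (ℬ : ℤ → Submodule k S) [GradedAlgebra ℬ]
  (𝒯 : ℤ → Submodule k T) [GradedAlgebra 𝒯]
  (hposR : ∀ n : ℤ, n < 0 → 𝒜 n = ⊥) (h0R : 𝒜 0 = Submodule.span k {(1 : R)})
  (hposS : ∀ n : ℤ, n < 0 → ℬ n = ⊥) (h0S : ℬ 0 = Submodule.span k {(1 : S)})
  (hposT : ∀ n : ℤ, n < 0 → 𝒯 n = ⊥) (h0T : 𝒯 0 = Submodule.span k {(1 : T)})
  [Algebra.FiniteType k R] [Algebra.FiniteType k S] [Algebra.FiniteType k T]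
  (mR : HomogeneousIdeal 𝒜)
  (hmR : mR.toIdeal = Ideal.span (⋃ n ∈ Set.Ioi (0 : ℤ), (𝒜 n : Set R)))
  (mS : HomogeneousIdeal ℬ)
  (hmS : mS.toIdeal = Ideal.span (⋃ n ∈ Set.Ioi (0 : ℤ), (ℬ n : Set S)))
  (mT : HomogeneousIdeal 𝒯)
  (hmT : mT.toIdeal = Ideal.span (⋃ n ∈ Set.Ioi (0 : ℤ), (𝒯 n : Set T)))
  {M : Type u} [AddCommGroup M] [Module R M] [Module.Finite R M]
  (ℳ : ℤ → AddSubgroup M) [DirectSum.Decomposition ℳ] [SetLike.GradedSMul 𝒜 ℳ]
  (EM : StarInjRes 𝒜 ℳ)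
  {N : Type u} [AddCommGroup N] [Module S N] [Module.Finite S N]
  (𝒩 : ℤ → AddSubgroup N) [DirectSum.Decomposition 𝒩] [SetLike.GradedSMul ℬ 𝒩]
  (EN : StarInjRes ℬ 𝒩)
  {P : Type u} [AddCommGroup P] [Module T P] [Module.Finite T P]
  (𝒬 : ℤ → AddSubgroup P) [DirectSum.Decomposition 𝒬] [SetLike.GradedSMul 𝒯 𝒬]
  (EP : StarInjRes 𝒯 𝒬)

include hposR h0R hmR hposS h0S hmS hposT h0T hmT in
/-- The Cohen–Macaulay criterion for the Segre product of graded Cohen–Macaulay modules of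
dimensions at least two, given the Künneth dimension formula. -/
theorem cm_segreMod_iff_of_formula {r s : ℕ} (h2r : 2 ≤ r) (h2s : 2 ≤ s)
    (hdM : Module.supportDim R M = r) (hdN : Module.supportDim S N = s)
    (hdP : Module.supportDim T P = ((r + s - 1 : ℕ) : WithBot ℕ∞))
    (hMcm : ∀ (q : Ideal R) [q.IsPrime], Subsingleton (LocalizedModule q.primeCompl M) ∨
      LocCoh.IsCohenMacaulayModule (Localization.AtPrime q) (LocalizedModule q.primeCompl M))
    (hNcm : ∀ (q : Ideal S) [q.IsPrime], Subsingleton (LocalizedModule q.primeCompl N) ∨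
      LocCoh.IsCohenMacaulayModule (Localization.AtPrime q) (LocalizedModule q.primeCompl N))
    (hF : ∀ (q : ℕ) (d : ℤ), Module.finrank (deg0 𝒯) (EP.Hcomp mT q d) =
      Module.finrank (deg0 𝒜) (comp 𝒜 ℳ d) * Module.finrank (deg0 ℬ) (EN.Hcomp mS q d) +
        Module.finrank (deg0 𝒜) (EM.Hcomp mR q d) * Module.finrank (deg0 ℬ) (comp ℬ 𝒩 d) +
        (Finset.range (q + 2)).sum (fun i => Module.finrank (deg0 𝒜) (EM.Hcomp mR i d) *
          Module.finrank (deg0 ℬ) (EN.Hcomp mS (q + 1 - i) d))) :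
    (∀ (q : Ideal T) [q.IsPrime], Subsingleton (LocalizedModule q.primeCompl P) ∨
      LocCoh.IsCohenMacaulayModule (Localization.AtPrime q) (LocalizedModule q.primeCompl P)) ↔
      (∀ d : ℤ, ℳ d = ⊥ ∨ EN.Hcomp mS s d = ⊥) ∧ (∀ d : ℤ, EM.Hcomp mR r d = ⊥ ∨ 𝒩 d = ⊥) := by
  haveI : IsNoetherianRing R := Algebra.FiniteType.isNoetherianRing k R
  haveI : IsNoetherianRing S := Algebra.FiniteType.isNoetherianRing k S
  haveI : IsNoetherianRing T := Algebra.FiniteType.isNoetherianRing k T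
  have key := cm_arith h2r h2s (fun d => Module.finrank (deg0 𝒜) (comp 𝒜 ℳ d))
    (fun d => Module.finrank (deg0 ℬ) (comp ℬ 𝒩 d))
    (fun i d => Module.finrank (deg0 𝒜) (EM.Hcomp mR i d))
    (fun j d => Module.finrank (deg0 ℬ) (EN.Hcomp mS j d))
    (fun q d => Module.finrank (deg0 𝒯) (EP.Hcomp mT q d))
    (fun i d hi => by
      rw [Hcomp_eq_bot_of_ne_supportDim 𝒜 hposR h0R ℳ mR hmR EM r hdM hMcm i hi d]
      exact finrank_bot _ _)
    (fun j d hj => by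
      rw [Hcomp_eq_bot_of_ne_supportDim ℬ hposS h0S 𝒩 mS hmS EN s hdN hNcm j hj d]
      exact finrank_bot _ _) hF
  have hfT : ∀ q d, Module.Finite (deg0 𝒯) (EP.Hcomp mT q d) :=
    fun q d => finite_Hcomp' 𝒯 hposT mT hmT EP q d
  have hfR : ∀ q d, Module.Finite (deg0 𝒜) (EM.Hcomp mR q d) :=
    fun q d => finite_Hcomp' 𝒜 hposR mR hmR EM q d
  have hfS : ∀ q d, Module.Finite (deg0 ℬ) (EN.Hcomp mS q d) :=
    fun q d => finite_Hcomp' ℬ hposS mS hmS EN q d
  have hpR : ∀ d, Module.Finite (deg0 𝒜) (comp 𝒜 ℳ d) := fun d => finite_comp' 𝒜 d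
  have hpS : ∀ d, Module.Finite (deg0 ℬ) (comp ℬ 𝒩 d) := fun d => finite_comp' ℬ d
  have hL : (∀ (q : Ideal T) [q.IsPrime], Subsingleton (LocalizedModule q.primeCompl P) ∨
      LocCoh.IsCohenMacaulayModule (Localization.AtPrime q) (LocalizedModule q.primeCompl P)) ↔
      ∀ q, q < r + s - 1 → ∀ d, Module.finrank (deg0 𝒯) (EP.Hcomp mT q d) = 0 := by
    constructor
    · intro hCM q hq d
      rw [Hcomp_eq_bot_of_ne_supportDim 𝒯 hposT h0T 𝒬 mT hmT EP (r + s - 1) hdP hCM q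
        (ne_of_lt hq) d]
      exact finrank_bot _ _
    · intro h q hq
      refine cm_of_Hcomp_eq_bot 𝒯 hposT h0T 𝒬 mT hmT EP (r + s - 1) hdP (fun i hi d => ?_) q
      haveI := hfT i d
      exact (finrank_eq_zero_iff 𝒯 h0T _).mp (h i hi d)
  rw [hL, key]
  refine and_congr (forall_congr' fun d => or_congr ?_ ?_) (forall_congr' fun d => or_congr ?_ ?_)
  · haveI := hpR d
    exact (finrank_eq_zero_iff 𝒜 h0R _).trans (comp_eq_bot_iff 𝒜 ℳ d)
  · haveI := hfS s d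
    exact finrank_eq_zero_iff ℬ h0S _
  · haveI := hfR r d
    exact finrank_eq_zero_iff 𝒜 h0R _
  · haveI := hpS d
    exact (finrank_eq_zero_iff ℬ h0S _).trans (comp_eq_bot_iff ℬ 𝒩 d)

end MainMod

end Groth.Agent.Lib.T2H3.Kun
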