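import Groth.Agent.Lib.T2H3GrTransferB
import Groth.Agent.Lib.T2H3CanonDeg
import Groth.Agent.Lib.Helper13RegResidue
import Groth.Agent.Lib.Helper28PolyCM
import Groth.Agent.Lib.Helper28FGDim
import Groth.Agent.Lib.Helper28Unmixed
import Groth.Agent.Lib.Helper5KoszulGor
import Groth.Agent.Lib.Helper29GrRes

/-! The weighted polynomial ring `k[X_1..X_N]`, `deg X_i = w_i > 0`, as a positively graded
*local Gorenstein ring: the irrelevant ideal is `(X_1..X_N)`, the variables form a regular
sequence, the dimension is `N` and the a-invariant is `-(w_1 + ⋯ + w_N)` (helper3). -/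

set_option autoImplicit false
set_option linter.unusedSectionVars false
set_option linter.style.haveILetI false
open DirectSum

attribute [local instance] MvPolynomial.weightedGradedAlgebra

namespace Groth.Agent.Lib.T2H3.WPoly

open GrLC MvPolynomial Groth.Agent.Lib.T2H3.GrTr Groth.Agent.Lib.T2H3.GrArt
  Groth.Agent.Lib.T2H3.GrLes Groth.Agent.Lib.T2H3.GrIrr Groth.Agent.Lib.T2H3.GrAinv
  Groth.Agent.Lib.T2H3.GrDim

universe u

variable (k : Type u) [Field k] (N : ℕ) (w : Fin N → ℤ)

/-- The weighted grading with pieces as additive subgroups. -/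
noncomputable abbrev 𝒲 : ℤ → AddSubgroup (MvPolynomial (Fin N) k) :=
  asGr (weightedHomogeneousSubmodule k w)

theorem mem_𝒲 {n : ℤ} {p : MvPolynomial (Fin N) k} :
    p ∈ 𝒲 k N w n ↔ IsWeightedHomogeneous w p n := Iff.rfl

instance : IsNoetherianRing (MvPolynomial (Fin N) k) := inferInstance

theorem cm : LocCoh.IsCohenMacaulayRing (MvPolynomial (Fin N) k) :=
  haveI := Groth.Agent.Lib.Helper28.isCohenMacaulayRing_of_field k
  Groth.Agent.Lib.Helper28.isCohenMacaulayRing_mvPolynomial_fin N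

theorem gor : LocCoh.IsGorensteinRing (MvPolynomial (Fin N) k) :=
  haveI := Groth.Agent.Lib.Helper5.GorRing.gorRing_of_field k
  Groth.Agent.Lib.Helper5.KoszulGor.gorRing_mvPolynomial k N

variable {w} (hw : ∀ i, 0 < w i)

include hw in
theorem weight_nonneg (d : Fin N →₀ ℕ) : 0 ≤ Finsupp.weight w d := by
  rw [Finsupp.weight_apply]
  apply Finsupp.sum_nonneg
  intro i _
  exact smul_nonneg (Nat.zero_le _) (hw i).le

include hw in
theorem weight_pos {d : Fin N →₀ ℕ} (hd : d ≠ 0) : 0 < Finsupp.weight w d := by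
  obtain ⟨i, hi⟩ : ∃ i, d i ≠ 0 := by
    by_contra hcon
    push Not at hcon
    exact hd (Finsupp.ext hcon)
  rw [Finsupp.weight_apply, Finsupp.sum]
  have hi' : i ∈ d.support := Finsupp.mem_support_iff.mpr hi
  apply Finset.sum_pos'
  · intro j _
    exact smul_nonneg (Nat.zero_le _) (hw j).le
  · exact ⟨i, hi', smul_pos (Nat.pos_of_ne_zero hi) (hw i)⟩

include hw in
theorem wpos (n : ℤ) (hn : n < 0) : 𝒲 k N w n = ⊥ := by
  rw [AddSubgroup.eq_bot_iff_forall]
  intro p hp
  by_contra hp0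
  obtain ⟨d, hd⟩ := MvPolynomial.ne_zero_iff.mp hp0
  have h1 : Finsupp.weight w d = n := hp hd
  have h2 := weight_nonneg N hw d
  omega

theorem X_mem (i : Fin N) : (X i : MvPolynomial (Fin N) k) ∈ 𝒲 k N w (w i) :=
  isWeightedHomogeneous_X k w i

include hw in
/-- The irrelevant ideal is generated by the variables. -/
theorem irr_eq_span_X :
    irr (𝒲 k N w) = Ideal.span (Set.range (X : Fin N → MvPolynomial (Fin N) k)) := by
  apply le_antisymm
  · unfold irr
    rw [Ideal.span_le]
    intro p hp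
    simp only [Set.mem_iUnion, Set.mem_Ioi, SetLike.mem_coe, exists_prop] at hp
    obtain ⟨n, hn, hpn⟩ := hp
    rw [SetLike.mem_coe, ← Set.image_univ, MvPolynomial.mem_ideal_span_X_image]
    intro d hd
    have h1 : Finsupp.weight w d = n := hpn (MvPolynomial.mem_support_iff.mp hd)
    have hd0 : d ≠ 0 := by
      intro h0
      rw [h0, map_zero] at h1
      omega
    obtain ⟨i, hi⟩ : ∃ i, d i ≠ 0 := by
      by_contra hcon
      push Not at hcon
      exact hd0 (Finsupp.ext hcon)
    exact ⟨i, Set.mem_univ i, hi⟩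
  · rw [Ideal.span_le]
    rintro _ ⟨i, rfl⟩
    exact mem_irr_of_mem (𝒲 k N w) (hw i) (X_mem k N i)

variable {m : HomogeneousIdeal (𝒲 k N w)} (hm : IsStarLocal (𝒲 k N w) m)
  (hmsp : m.toIdeal = irr (𝒲 k N w))

include hw hm in
theorem ringKrullDim_eq : ringKrullDim (MvPolynomial (Fin N) k) = N := by
  haveI hmax := isMaximal_of_isStarLocal (wpos k N hw) hm
  rw [ringKrullDim_eq_height_of_isStarLocal (wpos k N hw) hm,
    Groth.Agent.Lib.Helper28.height_eq_of_isMaximal_mvPolynomial_fin k N m.toIdeal hmax]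
  rfl

include hw hm hmsp in
theorem isRegular_X : RingTheory.Sequence.IsRegular (MvPolynomial (Fin N) k)
    (List.ofFn (fun l : Fin N => (X l : MvPolynomial (Fin N) k))) := by
  refine ⟨Groth.Agent.Helper13RegResidue.isWeaklyRegular_X k N, ?_⟩
  intro h
  apply one_notMem_of_isStarLocal hm
  have h1 : (1 : MvPolynomial (Fin N) k) ∈ (⊤ : Submodule (MvPolynomial (Fin N) k) _) :=
    Submodule.mem_top
  rw [h, smul_eq_mul, Ideal.mul_top] at h1
  rw [hmsp, irr_eq_span_X k N hw]
  refine (Ideal.span_mono ?_) h1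
  intro p hp
  obtain ⟨i, rfl⟩ := List.mem_ofFn.mp hp
  exact ⟨i, rfl⟩

include hw hm hmsp in
/-- The a-invariant of the weighted polynomial ring. -/
theorem endDeg_H_top (I : StarInjRes (𝒲 k N w) (𝒲 k N w)) :
    endDeg (I.Hgr m N) = c (-(Finset.univ : Finset (Fin N)).sum w) := by
  classical
  haveI := cm k N
  have hpos := wpos k N hw
  have hmhom : (m.toIdeal : Submodule (MvPolynomial (Fin N) k) _).IsHomogeneous (𝒲 k N w) :=
    m.isHomogeneous
  letI decQ : DirectSum.Decomposition
      (Groth.Agent.Lib.Helper29GrQuot.quotGr (𝒲 k N w) (m.toIdeal : Submodule _ _)) :=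
    Groth.Agent.Lib.Helper29GrQuot.quotDecomposition (𝒲 k N w) _ hmhom
  haveI gsQ : SetLike.GradedSMul (𝒲 k N w)
      (Groth.Agent.Lib.Helper29GrQuot.quotGr (𝒲 k N w) (m.toIdeal : Submodule _ _)) :=
    Groth.Agent.Lib.Helper29GrQuot.quot_gradedSMul (𝒲 k N w) _ (𝒲 k N w)
  let F : StarInjRes (𝒲 k N w)
      (Groth.Agent.Lib.Helper29GrQuot.quotGr (𝒲 k N w) (m.toIdeal : Submodule _ _)) :=
    Groth.Agent.Lib.Helper29GrRes.starInjRes (𝒲 k N w) _
  let π : MvPolynomial (Fin N) k →ₗ[MvPolynomial (Fin N) k] (MvPolynomial (Fin N) k ⧸ m.toIdeal) :=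
    (m.toIdeal : Submodule _ _).mkQ
  have hπ : IsGrHom (𝒲 k N w)
      (Groth.Agent.Lib.Helper29GrQuot.quotGr (𝒲 k N w) (m.toIdeal : Submodule _ _)) π :=
    fun g a ha => ⟨a, ha, rfl⟩
  have hπs : Function.Surjective π := Submodule.mkQ_surjective _
  have hπk : LinearMap.ker π = Ideal.span (Set.range fun l : Fin N =>
      (X l : MvPolynomial (Fin N) k)) := by
    rw [Submodule.ker_mkQ, hmsp, irr_eq_span_X k N hw]
  have hfm : ∀ i : Fin N, (X i : MvPolynomial (Fin N) k) ∈ m.toIdeal := by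
    intro i
    rw [hmsp]
    exact mem_irr_of_mem (𝒲 k N w) (hw i) (X_mem k N i)
  have key := endDeg_regseq hpos hm N (ringKrullDim_eq k N hw hm) I N le_rfl
    (fun l : Fin N => (X l : MvPolynomial (Fin N) k)) w (X_mem k N) hfm
    (isRegular_X k N hw hm hmsp) π hπ hπs hπk F
  rw [Nat.sub_self] at key
  -- `H^0_m(k)` has end `0`
  have hπ1 : π 1 ≠ 0 := by
    intro h
    have h1 : (1 : MvPolynomial (Fin N) k) ∈ LinearMap.ker π := h
    rw [Submodule.ker_mkQ] at h1
    exact one_notMem_of_isStarLocal hm h1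
  have hconc : ∀ y : MvPolynomial (Fin N) k ⧸ m.toIdeal, F.ε y ∈ (F.X 0).gr 0 := by
    intro y
    obtain ⟨s, rfl⟩ := hπs y
    have h1 : s - (DirectSum.decompose (𝒲 k N w) s 0 : MvPolynomial (Fin N) k) ∈ m.toIdeal :=
      irr_le_of_isStarLocal hpos hm (sub_decompose_zero_mem_irr (𝒲 k N w) hpos s)
    have h2 : π s = π (DirectSum.decompose (𝒲 k N w) s 0 : MvPolynomial (Fin N) k) := by
      rw [← sub_eq_zero, ← map_sub]
      have : s - (DirectSum.decompose (𝒲 k N w) s 0 : MvPolynomial (Fin N) k) ∈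
          LinearMap.ker π := by
        rw [Submodule.ker_mkQ]
        exact h1
      exact this
    rw [h2]
    exact F.ε_grHom 0 _ (hπ 0 _ (SetLike.coe_mem _))
  have hend0 : endDeg (F.Hgr m 0) = c 0 := by
    apply le_antisymm
    · unfold endDeg
      refine iSup₂_le fun j hj => ?_
      apply c_le_c
      obtain ⟨x, hx, hx0⟩ : ∃ x : F.H m 0, x ∈ F.Hgr m 0 j ∧ x ≠ 0 := by
        by_contra hcon
        push Not at hcon
        apply hj
        rw [AddSubgroup.eq_bot_iff_forall]
        exact hcon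
      obtain ⟨z, hz, rfl⟩ := hx
      have hzker : (z : (F.X 0).carrier) ∈ LinearMap.ker (F.d 0) := z.2.2
      rw [F.exact_zero] at hzker
      obtain ⟨y, hy⟩ := hzker
      have hz0 : (z : (F.X 0).carrier) ≠ 0 := by
        intro h0
        apply hx0
        rw [toH_eq_zero_iff]
        rw [h0]
        exact zero_mem _
      have hz00 : (z : (F.X 0).carrier) ∈ (F.X 0).gr 0 := by
        rw [← hy]
        exact hconc y
      by_contra hne
      apply hz0
      have h1 := DirectSum.decompose_of_mem_same (F.X 0).gr hz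
      rw [DirectSum.decompose_of_mem_ne (F.X 0).gr hz00 (by omega)] at h1
      exact h1.symm
    · have hmem : F.ε (π 1) ∈ F.cocyc m 0 := by
        refine ⟨⟨1, fun r hr => ?_⟩, ?_⟩
        · rw [pow_one] at hr
          rw [← map_smul, ← map_smul, smul_eq_mul, mul_one]
          have : π r = 0 := by
            have : r ∈ LinearMap.ker π := by
              rw [Submodule.ker_mkQ]
              exact hr
            exact this
          rw [this, map_zero]
        · rw [F.exact_zero]
          exact ⟨_, rfl⟩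
      have hne : F.toH m 0 ⟨F.ε (π 1), hmem⟩ ≠ 0 := by
        rw [Ne, toH_eq_zero_iff]
        change ¬ (F.ε (π 1) ∈ (⊥ : Submodule _ _))
        rw [Submodule.mem_bot]
        intro h
        exact hπ1 (F.ε_injective (h.trans (map_zero _).symm))
      have hin : F.toH m 0 ⟨F.ε (π 1), hmem⟩ ∈ F.Hgr m 0 0 :=
        ⟨⟨F.ε (π 1), hmem⟩, hconc _, rfl⟩
      have hnb : F.Hgr m 0 0 ≠ ⊥ := by
        intro hb
        rw [hb, AddSubgroup.mem_bot] at hin
        exact hne hin
      unfold endDeg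
      exact le_iSup₂ (f := fun (j : ℤ) (_ : F.Hgr m 0 j ≠ ⊥) =>
        ((j : WithTop ℤ) : WithBot (WithTop ℤ))) 0 hnb
  rw [hend0] at key
  -- arithmetic
  have hS : endDeg (I.Hgr m N) + c ((Finset.univ : Finset (Fin N)).sum w) = c 0 := key.symm
  have := add_neg_add (endDeg (I.Hgr m N) + c ((Finset.univ : Finset (Fin N)).sum w) +
    c (-(Finset.univ : Finset (Fin N)).sum w)) 0
  have h3 : endDeg (I.Hgr m N) = endDeg (I.Hgr m N) + c ((Finset.univ : Finset (Fin N)).sum w) +
      c (-(Finset.univ : Finset (Fin N)).sum w) := by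
    have h4 := add_neg_add (endDeg (I.Hgr m N)) (-(Finset.univ : Finset (Fin N)).sum w)
    rw [neg_neg] at h4
    exact h4.symm
  rw [h3, hS, ← c_add, zero_add]

end Groth.Agent.Lib.T2H3.WPoly
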