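import Groth.Agent.Lib.T2H3KunX
import Groth.Agent.Lib.T2H3GrLesC
import Groth.Agent.Lib.T2H3WPoly
import Groth.Agent.Lib.Helper28DepthMore
import Groth.Agent.S18656

/-! Künneth formula for Segre products (helper3), part Y: shifted resolutions over a ring graded
by subspaces, the depth of a graded module from its graded local cohomology, and the graded local
cohomology of the standard graded polynomial ring. -/

set_option autoImplicit false
set_option linter.unusedSectionVars false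
set_option linter.style.haveILetI false
open DirectSum
open scoped TensorProduct

noncomputable section

namespace Groth.Agent.Lib.T2H3.Kun

open Groth.Agent.Lib.T2H3.GrTr Groth.Agent.Lib GrLC Groth.Agent.Lib.Helper29GrShift

universe u

section ShiftK

variable {R : Type u} [CommRing R] {σ : Type u} [SetLike σ R] [AddSubgroupClass σ R]
  (𝒜 : ℤ → σ) [GradedRing 𝒜]

/-- The shifted family of pieces is again graded over the ring. -/
theorem shift_gradedSMul_gen {L : Type u} [AddCommGroup L] [Module R L] (𝓛 : ℤ → AddSubgroup L)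
    [SetLike.GradedSMul 𝒜 𝓛] (d : ℤ) : SetLike.GradedSMul 𝒜 (shiftGr 𝓛 d) where
  smul_mem := by
    intro i j a b ha hb
    change a • b ∈ 𝓛 (i + j + d)
    have := SetLike.GradedSMul.smul_mem (A := 𝒜) (B := 𝓛) (i := i) (j := j + d) ha hb
    rw [vadd_eq_add, ← add_assoc] at this
    exact this

/-- The shifted graded module `X(d)`. -/
def shiftGModGen (X : GMod.{u} 𝒜) (d : ℤ) : GMod.{u} 𝒜 :=
  letI := shiftDecomposition X.gr d
  haveI := shift_gradedSMul_gen 𝒜 X.gr d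
  GMod.of 𝒜 X.carrier (shiftGr X.gr d)

variable {M : Type u} [AddCommGroup M] [Module R M] (ℳ : ℤ → AddSubgroup M)
  [DirectSum.Decomposition ℳ] [SetLike.GradedSMul 𝒜 ℳ]

/-- The shifted resolution over a ring graded by any kind of additive subgroups. -/
def shiftResGen (d : ℤ) [DirectSum.Decomposition (shiftGr ℳ d)]
    [SetLike.GradedSMul 𝒜 (shiftGr ℳ d)] (E : StarInjRes 𝒜 ℳ) :
    StarInjRes 𝒜 (shiftGr ℳ d) where
  X n := shiftGModGen 𝒜 (E.X n) d
  d := E.d
  ε := E.ε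
  d_grHom n k x hx := E.d_grHom n (k + d) x hx
  ε_grHom k x hx := E.ε_grHom (k + d) x hx
  ε_injective := E.ε_injective
  exact_zero := E.exact_zero
  exact_succ := E.exact_succ
  starInj n := by
    intro A B f hf hinj g hg
    obtain ⟨h, hh, hhf⟩ := E.starInj n (shiftGModGen 𝒜 A (-d)) (shiftGModGen 𝒜 B (-d)) f
      (fun k x hx => hf (k + -d) x hx) hinj g (fun k x hx => by
        have h1 : g x ∈ (E.X n).gr (k + -d + d) := hg (k + -d) x hx
        rwa [neg_add_cancel_right] at h1)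
    refine ⟨h, fun k x hx => ?_, hhf⟩
    have hx' : x ∈ B.gr (k + d + -d) := by rwa [add_neg_cancel_right]
    exact hh (k + d) x hx'

theorem mem_Hcomp_shiftResGen (d : ℤ) [DirectSum.Decomposition (shiftGr ℳ d)]
    [SetLike.GradedSMul 𝒜 (shiftGr ℳ d)] (E : StarInjRes 𝒜 ℳ) (a : HomogeneousIdeal 𝒜) (i : ℕ)
    (g : ℤ) (x : E.H a i) :
    x ∈ (shiftResGen 𝒜 ℳ d E).Hcomp a i g ↔ x ∈ E.Hcomp a i (g + d) := Iff.rfl

theorem Hcomp_shiftResGen_eq_bot_iff (d : ℤ) [DirectSum.Decomposition (shiftGr ℳ d)]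
    [SetLike.GradedSMul 𝒜 (shiftGr ℳ d)] (E : StarInjRes 𝒜 ℳ) (a : HomogeneousIdeal 𝒜) (i : ℕ)
    (g : ℤ) : (shiftResGen 𝒜 ℳ d E).Hcomp a i g = ⊥ ↔ E.Hcomp a i (g + d) = ⊥ := by
  rw [Submodule.eq_bot_iff, Submodule.eq_bot_iff]
  rfl

end ShiftK

section Depth

variable {k : Type u} [Field k] {R : Type u} [CommRing R] [Algebra k R] [Nontrivial R]
  (𝒜 : ℤ → Submodule k R) [GradedAlgebra 𝒜]
  (hpos : ∀ n : ℤ, n < 0 → 𝒜 n = ⊥) (h0 : 𝒜 0 = Submodule.span k {(1 : R)})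
  [Algebra.FiniteType k R]
  {M : Type u} [AddCommGroup M] [Module R M] [Module.Finite R M]
  (ℳ : ℤ → AddSubgroup M) [DirectSum.Decomposition ℳ] [SetLike.GradedSMul 𝒜 ℳ]
  (mR : HomogeneousIdeal 𝒜)
  (hmR : mR.toIdeal = Ideal.span (⋃ n ∈ Set.Ioi (0 : ℤ), (𝒜 n : Set R)))
  (E : StarInjRes 𝒜 ℳ)

include hpos h0 hmR in
/-- Nonvanishing of a piece of the graded local cohomology bounds the depth above. -/
theorem idealDepth_le_of_Hcomp_ne_bot [Nontrivial M] (q : ℕ) (d : ℤ)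
    (h : E.Hcomp mR q d ≠ ⊥) : LocCoh.idealDepth mR.toIdeal M ≤ (q : ℕ∞) := by
  haveI : IsNoetherianRing R := Algebra.FiniteType.isNoetherianRing k R
  by_contra hlt
  rw [not_le] at hlt
  have h1 : ((q + 1 : ℕ) : ℕ∞) ≤ LocCoh.idealDepth mR.toIdeal M := by
    rw [Nat.cast_add, Nat.cast_one]
    exact Order.add_one_le_of_lt hlt
  apply h
  rw [eq_bot_iff]
  intro y _
  rw [Submodule.mem_bot]
  obtain ⟨e⟩ := Groth.Agent.S13224.result R (asGr 𝒜) (hiTo 𝒜 mR) M (asGr ℳ) (resTo 𝒜 ℳ E) q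
  have hy : e y = 0 :=
    Groth.Agent.Lib.Helper8.LC.H_eq_zero_of_lt_depth mR.toIdeal (q + 1) M
      (irr_smul_top_ne_top 𝒜 hpos h0 ℳ mR hmR) h1 q (Nat.lt_succ_self q) (e y)
  exact e.injective (hy.trans (map_zero e).symm)

include hpos h0 hmR in
/-- The depth of a graded module from its graded local cohomology. -/
theorem idealDepth_eq_of_Hcomp [Nontrivial M] (D : ℕ)
    (h : ∀ i : ℕ, i < D → ∀ d : ℤ, E.Hcomp mR i d = ⊥) (d : ℤ) (hD : E.Hcomp mR D d ≠ ⊥) :
    LocCoh.idealDepth mR.toIdeal M = (D : ℕ∞) :=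
  le_antisymm (idealDepth_le_of_Hcomp_ne_bot 𝒜 hpos h0 ℳ mR hmR E D d hD)
    (le_idealDepth_of_Hcomp_eq_bot 𝒜 hpos h0 ℳ mR hmR E D h)

end Depth

section Tmul

variable {k : Type u} [Field k] {M N : Type u} [AddCommGroup M] [Module k M] [AddCommGroup N]
  [Module k N]

/-- Over a field a pure tensor of nonzero vectors is nonzero. -/
theorem tmul_ne_zero_of_field {x : M} {y : N} (hx : x ≠ 0) (hy : y ≠ 0) : x ⊗ₜ[k] y ≠ 0 := by
  intro h
  obtain ⟨f, hf⟩ : ∃ f : Module.Dual k M, f x ≠ 0 := by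
    by_contra hcon
    push Not at hcon
    exact hx ((Module.forall_dual_apply_eq_zero_iff k x).mp hcon)
  obtain ⟨g, hg⟩ : ∃ g : Module.Dual k N, g y ≠ 0 := by
    by_contra hcon
    push Not at hcon
    exact hy ((Module.forall_dual_apply_eq_zero_iff k y).mp hcon)
  have h1 := congrArg ((TensorProduct.lid k k).toLinearMap ∘ₗ TensorProduct.map f g) h
  rw [map_zero, LinearMap.comp_apply, TensorProduct.map_tmul] at h1
  have h2 : f x * g y = 0 := by
    simpa using h1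
  exact (mul_ne_zero hf hg) h2

end Tmul

section Poly

open MvPolynomial

attribute [local instance] MvPolynomial.weightedGradedAlgebra

variable (k : Type u) [Field k] (N : ℕ)

/-- The standard grading of the polynomial ring, by subspaces. -/
abbrev polyGr : ℤ → Submodule k (MvPolynomial (Fin N) k) :=
  weightedHomogeneousSubmodule k (fun _ : Fin N => (1 : ℤ))

theorem poly_hpos (n : ℤ) (hn : n < 0) : polyGr k N n = ⊥ := by
  have h := WPoly.wpos k N (w := fun _ => (1 : ℤ)) (fun _ => one_pos) n hn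
  rw [eq_bot_iff]
  intro x hx
  have hx' : x ∈ WPoly.𝒲 k N (fun _ => (1 : ℤ)) n := hx
  rw [h] at hx'
  exact (Submodule.mem_bot k).mpr (AddSubgroup.mem_bot.mp hx')

theorem poly_h0 : polyGr k N 0 = Submodule.span k {(1 : MvPolynomial (Fin N) k)} := by
  apply le_antisymm
  · intro p hp
    have hsupp : ∀ m ∈ p.support, m = 0 := by
      intro m hm
      by_contra hm0
      have h1 := WPoly.weight_pos N (w := fun _ => (1 : ℤ)) (fun _ => one_pos) hm0
      have h2 : Finsupp.weight (fun _ : Fin N => (1 : ℤ)) m = 0 := hp (mem_support_iff.mp hm)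
      omega
    have hp' : p = C (coeff 0 p) := by
      ext m
      by_cases hm : m = 0
      · subst hm
        simp
      · rw [coeff_C, if_neg (Ne.symm hm)]
        by_contra hc
        exact hm (hsupp m (mem_support_iff.mpr hc))
    rw [hp', ← mul_one (C (coeff 0 p)), ← smul_eq_C_mul]
    exact Submodule.smul_mem _ _ (Submodule.mem_span_singleton_self 1)
  · rw [Submodule.span_le, Set.singleton_subset_iff]
    exact (mem_weightedHomogeneousSubmodule k _ 0 1).mpr (isWeightedHomogeneous_one k _)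

theorem poly_piece_ne_bot (hN : 1 ≤ N) (n : ℤ) (hn : 0 ≤ n) : polyGr k N n ≠ ⊥ := by
  obtain ⟨j, rfl⟩ : ∃ j : ℕ, n = (j : ℤ) := ⟨n.toNat, (Int.toNat_of_nonneg hn).symm⟩
  intro h
  have h1 : (X (⟨0, hN⟩ : Fin N) : MvPolynomial (Fin N) k) ^ j ∈ polyGr k N (j : ℤ) := by
    have h2 := (isWeightedHomogeneous_X k (fun _ : Fin N => (1 : ℤ)) (⟨0, hN⟩ : Fin N)).pow j
    rw [mem_weightedHomogeneousSubmodule]
    simpa using h2
  rw [h, Submodule.mem_bot] at h1
  exact (pow_ne_zero j (X_ne_zero _)) h1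

theorem poly_ringKrullDim : ringKrullDim (MvPolynomial (Fin N) k) = (N : WithBot ℕ∞) := by
  rw [MvPolynomial.ringKrullDim_of_isNoetherianRing, ringKrullDim_eq_zero_of_field]
  simp

theorem poly_supportDim :
    Module.supportDim (MvPolynomial (Fin N) k) (MvPolynomial (Fin N) k) = (N : WithBot ℕ∞) := by
  rw [Module.supportDim_self_eq_ringKrullDim, poly_ringKrullDim]

theorem poly_cm_module (q : Ideal (MvPolynomial (Fin N) k)) [q.IsPrime] :
    Subsingleton (LocalizedModule q.primeCompl (MvPolynomial (Fin N) k)) ∨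
      LocCoh.IsCohenMacaulayModule (Localization.AtPrime q)
        (LocalizedModule q.primeCompl (MvPolynomial (Fin N) k)) := by
  right
  have hcm := WPoly.cm k N
  unfold LocCoh.IsCohenMacaulayModule
  rw [Groth.Agent.Lib.Helper28.depth_localizedModule_self,
    Module.supportDim_eq_of_equiv (Groth.Agent.Lib.Helper28.localizedModuleSelfEquiv q)]
  exact (hcm.isCohenMacaulayLocalRing_localization q).supportDim_eq_depth

variable (mR : HomogeneousIdeal (polyGr k N))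
  (hmR : mR.toIdeal = Ideal.span (⋃ n ∈ Set.Ioi (0 : ℤ), (polyGr k N n : Set _)))

include hmR in
/-- The top graded local cohomology of the standard graded polynomial ring in `N` variables
lives exactly in the degrees `≤ -N`. -/
theorem poly_Hcomp_eq_bot_iff (hN : 1 ≤ N) (I : StarInjRes (polyGr k N) (polyGr k N)) (d : ℤ) :
    I.Hcomp mR N d = ⊥ ↔ -(N : ℤ) < d := by
  have hw : ∀ i : Fin N, (0 : ℤ) < (fun _ : Fin N => (1 : ℤ)) i := fun _ => one_pos
  have hm := isStarLocal_asGr (polyGr k N) (poly_hpos k N) (poly_h0 k N) mR hmR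
  have hmsp : (hiTo (polyGr k N) mR).toIdeal =
      Groth.Agent.Lib.T2H3.GrIrr.irr (WPoly.𝒲 k N (fun _ : Fin N => (1 : ℤ))) := hmR
  have hend := WPoly.endDeg_H_top k N hw hm hmsp (resTo (polyGr k N) (polyGr k N) I)
  have hsum : (Finset.univ : Finset (Fin N)).sum (fun _ : Fin N => (1 : ℤ)) = (N : ℤ) := by
    simp
  rw [hsum] at hend
  have hiff : I.Hcomp mR N d = ⊥ ↔
      (resTo (polyGr k N) (polyGr k N) I).Hgr (hiTo (polyGr k N) mR) N d = ⊥ := by
    rw [Submodule.eq_bot_iff, AddSubgroup.eq_bot_iff_forall]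
    rfl
  constructor
  · intro h
    by_contra hd
    rw [not_lt] at hd
    have hstd : Ideal.span (⋃ n ∈ Set.Ioi (0 : ℤ),
        (WPoly.𝒲 k N (fun _ : Fin N => (1 : ℤ)) n : Set (MvPolynomial (Fin N) k))) =
        Ideal.span ((WPoly.𝒲 k N (fun _ : Fin N => (1 : ℤ)) 1 :
          AddSubgroup (MvPolynomial (Fin N) k)) : Set (MvPolynomial (Fin N) k)) := by
      apply le_antisymm
      · have h1 := WPoly.irr_eq_span_X k N hw
        unfold Groth.Agent.Lib.T2H3.GrIrr.irr at h1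
        rw [h1, Ideal.span_le]
        rintro _ ⟨i, rfl⟩
        exact Ideal.subset_span (WPoly.X_mem k N (w := fun _ : Fin N => (1 : ℤ)) i)
      · refine Ideal.span_mono ?_
        intro x hx
        exact Set.mem_biUnion (show (1 : ℤ) ∈ Set.Ioi (0 : ℤ) from Set.mem_Ioi.mpr one_pos) hx
    have hne := Groth.Agent.S18656.result (MvPolynomial (Fin N) k)
      (WPoly.𝒲 k N (fun _ : Fin N => (1 : ℤ))) (WPoly.wpos k N hw)
      (isField_deg0_asGr (polyGr k N) (poly_h0 k N)) (hiTo (polyGr k N) mR) hm hmR hstd N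
      (poly_ringKrullDim k N) hN (resTo (polyGr k N) (polyGr k N) I) (-(N : ℤ)) hend d hd
    apply hne
    rw [Submodule.eq_bot_iff]
    rw [Submodule.eq_bot_iff] at h
    exact h
  · intro hd
    rw [hiff]
    exact (Groth.Agent.Lib.T2H3.EG.endDeg_le_iff' _ (-(N : ℤ))).mp hend.le d hd

end Poly

section DepthSeg

theorem kun_sum_eq_zero {r s : ℕ} (h2r : 2 ≤ r) (h2s : 2 ≤ s) (α β : ℕ → ℕ)
    (hα : ∀ i, i ≠ r → α i = 0) (hβ : ∀ j, j ≠ s → β j = 0) (q : ℕ) (hq : q < r + s - 1) :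
    ∑ i ∈ Finset.range (q + 2), α i * β (q + 1 - i) = 0 := by
  refine Finset.sum_eq_zero fun i hi => ?_
  have hi' := Finset.mem_range.mp hi
  by_cases hir : i = r
  · have h1 : q + 1 - i ≠ s := by omega
    rw [hβ _ h1, mul_zero]
  · rw [hα i hir, zero_mul]

variable {k : Type u} [Field k] {R S T : Type u} [CommRing R] [CommRing S] [CommRing T]
  [Algebra k R] [Algebra k S] [Algebra k T] [Nontrivial R] [Nontrivial S] [Nontrivial T]
  (𝒜 : ℤ → Submodule k R) [GradedAlgebra 𝒜] (ℬ : ℤ → Submodule k S) [GradedAlgebra ℬ]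
  (𝒯 : ℤ → Submodule k T) [GradedAlgebra 𝒯]
  (hposR : ∀ n : ℤ, n < 0 → 𝒜 n = ⊥) (h0R : 𝒜 0 = Submodule.span k {(1 : R)})
  (hposS : ∀ n : ℤ, n < 0 → ℬ n = ⊥) (h0S : ℬ 0 = Submodule.span k {(1 : S)})
  (hposT : ∀ n : ℤ, n < 0 → 𝒯 n = ⊥) (h0T : 𝒯 0 = Submodule.span k {(1 : T)})
  [Algebra.FiniteType k R] [Algebra.FiniteType k S] [Algebra.FiniteType k T]
  (mR : HomogeneousIdeal 𝒜)
  (hmR : mR.toIdeal = Ideal.span (⋃ n ∈ Set.Ioi (0 : ℤ), (𝒜 n : Set R)))
  (mS : HomogeneousIdeal ℬ)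
  (hmS : mS.toIdeal = Ideal.span (⋃ n ∈ Set.Ioi (0 : ℤ), (ℬ n : Set S)))
  (mT : HomogeneousIdeal 𝒯)
  (hmT : mT.toIdeal = Ideal.span (⋃ n ∈ Set.Ioi (0 : ℤ), (𝒯 n : Set T)))
  {M : Type u} [AddCommGroup M] [Module R M] [Module.Finite R M]
  (ℳ : ℤ → AddSubgroup M) [DirectSum.Decomposition ℳ] [SetLike.GradedSMul 𝒜 ℳ]
  (EM : StarInjRes 𝒜 ℳ)
  {N : Type u} [AddCommGroup N] [Module S N] [Module.Finite S N]
  (𝒩 : ℤ → AddSubgroup N) [DirectSum.Decomposition 𝒩] [SetLike.GradedSMul ℬ 𝒩]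
  (EN : StarInjRes ℬ 𝒩)
  {P : Type u} [AddCommGroup P] [Module T P] [Module.Finite T P] [Nontrivial P]
  (𝒬 : ℤ → AddSubgroup P) [DirectSum.Decomposition 𝒬] [SetLike.GradedSMul 𝒯 𝒬]
  (EP : StarInjRes 𝒯 𝒬)

include hposR h0R hmR hposS h0S hmS hposT h0T hmT in
/-- The depth of the Segre product of graded Cohen–Macaulay modules of dimensions `r, s ≥ 2` is
`s` when `H^r(M) # N = 0` and `M # H^s(N) ≠ 0`. -/
theorem idealDepth_segreMod_eq_right {r s : ℕ} (h2r : 2 ≤ r) (h2s : 2 ≤ s)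
    (hdM : Module.supportDim R M = r) (hdN : Module.supportDim S N = s)
    (hMcm : ∀ (q : Ideal R) [q.IsPrime], Subsingleton (LocalizedModule q.primeCompl M) ∨
      LocCoh.IsCohenMacaulayModule (Localization.AtPrime q) (LocalizedModule q.primeCompl M))
    (hNcm : ∀ (q : Ideal S) [q.IsPrime], Subsingleton (LocalizedModule q.primeCompl N) ∨
      LocCoh.IsCohenMacaulayModule (Localization.AtPrime q) (LocalizedModule q.primeCompl N))
    (hF : ∀ (q : ℕ) (d : ℤ), Module.finrank (deg0 𝒯) (EP.Hcomp mT q d) =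
      Module.finrank (deg0 𝒜) (comp 𝒜 ℳ d) * Module.finrank (deg0 ℬ) (EN.Hcomp mS q d) +
        Module.finrank (deg0 𝒜) (EM.Hcomp mR q d) * Module.finrank (deg0 ℬ) (comp ℬ 𝒩 d) +
        (Finset.range (q + 2)).sum (fun i => Module.finrank (deg0 𝒜) (EM.Hcomp mR i d) *
          Module.finrank (deg0 ℬ) (EN.Hcomp mS (q + 1 - i) d)))
    (h1 : ∀ d : ℤ, EM.Hcomp mR r d = ⊥ ∨ 𝒩 d = ⊥) (d0 : ℤ) (hd0M : ℳ d0 ≠ ⊥)
    (hd0N : EN.Hcomp mS s d0 ≠ ⊥) : LocCoh.idealDepth mT.toIdeal P = (s : ℕ∞) := by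
  haveI : IsNoetherianRing R := Algebra.FiniteType.isNoetherianRing k R
  haveI : IsNoetherianRing S := Algebra.FiniteType.isNoetherianRing k S
  haveI : IsNoetherianRing T := Algebra.FiniteType.isNoetherianRing k T
  have hα : ∀ i d, i ≠ r → Module.finrank (deg0 𝒜) (EM.Hcomp mR i d) = 0 := fun i d hi => by
    rw [Hcomp_eq_bot_of_ne_supportDim 𝒜 hposR h0R ℳ mR hmR EM r hdM hMcm i hi d]
    exact finrank_bot _ _
  have hβ : ∀ j d, j ≠ s → Module.finrank (deg0 ℬ) (EN.Hcomp mS j d) = 0 := fun j d hj => by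
    rw [Hcomp_eq_bot_of_ne_supportDim ℬ hposS h0S 𝒩 mS hmS EN s hdN hNcm j hj d]
    exact finrank_bot _ _
  have hfT : ∀ q d, Module.Finite (deg0 𝒯) (EP.Hcomp mT q d) :=
    fun q d => finite_Hcomp' 𝒯 hposT mT hmT EP q d
  have hfR : ∀ q d, Module.Finite (deg0 𝒜) (EM.Hcomp mR q d) :=
    fun q d => finite_Hcomp' 𝒜 hposR mR hmR EM q d
  have hfS : ∀ q d, Module.Finite (deg0 ℬ) (EN.Hcomp mS q d) :=
    fun q d => finite_Hcomp' ℬ hposS mS hmS EN q d
  have hpR : ∀ d, Module.Finite (deg0 𝒜) (comp 𝒜 ℳ d) := fun d => finite_comp' 𝒜 d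
  have hpS : ∀ d, Module.Finite (deg0 ℬ) (comp ℬ 𝒩 d) := fun d => finite_comp' ℬ d
  refine idealDepth_eq_of_Hcomp 𝒯 hposT h0T 𝒬 mT hmT EP s (fun i hi d => ?_) d0 ?_
  · haveI := hfT i d
    rw [← finrank_eq_zero_iff 𝒯 h0T, hF i d, hβ i d (ne_of_lt hi),
      kun_sum_eq_zero h2r h2s (fun i => Module.finrank (deg0 𝒜) (EM.Hcomp mR i d))
        (fun j => Module.finrank (deg0 ℬ) (EN.Hcomp mS j d)) (fun i hi => hα i d hi)
        (fun j hj => hβ j d hj) i (by omega), mul_zero, zero_add, add_zero]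
    by_cases hir : i = r
    · subst hir
      rcases h1 d with h | h
      · rw [h, finrank_bot, zero_mul]
      · rw [(comp_eq_bot_iff ℬ 𝒩 d).mpr h, finrank_bot, mul_zero]
    · rw [hα i d hir, zero_mul]
  · haveI := hfT s d0
    rw [Ne, ← finrank_eq_zero_iff 𝒯 h0T, hF s d0]
    have e1 : Module.finrank (deg0 𝒜) (comp 𝒜 ℳ d0) ≠ 0 := by
      haveI := hpR d0
      rw [Ne, finrank_eq_zero_iff 𝒜 h0R, comp_eq_bot_iff]
      exact hd0M
    have e2 : Module.finrank (deg0 ℬ) (EN.Hcomp mS s d0) ≠ 0 := by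
      haveI := hfS s d0
      rw [Ne, finrank_eq_zero_iff ℬ h0S]
      exact hd0N
    have e3 := Nat.pos_of_ne_zero (mul_ne_zero e1 e2)
    omega

include hposR h0R hmR hposS h0S hmS hposT h0T hmT in
/-- The depth of the Segre product of graded Cohen–Macaulay modules of dimensions `r, s ≥ 2` is
`r` when `M # H^s(N) = 0` and `H^r(M) # N ≠ 0`. -/
theorem idealDepth_segreMod_eq_left {r s : ℕ} (h2r : 2 ≤ r) (h2s : 2 ≤ s)
    (hdM : Module.supportDim R M = r) (hdN : Module.supportDim S N = s)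
    (hMcm : ∀ (q : Ideal R) [q.IsPrime], Subsingleton (LocalizedModule q.primeCompl M) ∨
      LocCoh.IsCohenMacaulayModule (Localization.AtPrime q) (LocalizedModule q.primeCompl M))
    (hNcm : ∀ (q : Ideal S) [q.IsPrime], Subsingleton (LocalizedModule q.primeCompl N) ∨
      LocCoh.IsCohenMacaulayModule (Localization.AtPrime q) (LocalizedModule q.primeCompl N))
    (hF : ∀ (q : ℕ) (d : ℤ), Module.finrank (deg0 𝒯) (EP.Hcomp mT q d) =
      Module.finrank (deg0 𝒜) (comp 𝒜 ℳ d) * Module.finrank (deg0 ℬ) (EN.Hcomp mS q d) +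
        Module.finrank (deg0 𝒜) (EM.Hcomp mR q d) * Module.finrank (deg0 ℬ) (comp ℬ 𝒩 d) +
        (Finset.range (q + 2)).sum (fun i => Module.finrank (deg0 𝒜) (EM.Hcomp mR i d) *
          Module.finrank (deg0 ℬ) (EN.Hcomp mS (q + 1 - i) d)))
    (h1 : ∀ d : ℤ, ℳ d = ⊥ ∨ EN.Hcomp mS s d = ⊥) (d0 : ℤ) (hd0M : EM.Hcomp mR r d0 ≠ ⊥)
    (hd0N : 𝒩 d0 ≠ ⊥) : LocCoh.idealDepth mT.toIdeal P = (r : ℕ∞) := by
  haveI : IsNoetherianRing R := Algebra.FiniteType.isNoetherianRing k R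
  haveI : IsNoetherianRing S := Algebra.FiniteType.isNoetherianRing k S
  haveI : IsNoetherianRing T := Algebra.FiniteType.isNoetherianRing k T
  have hα : ∀ i d, i ≠ r → Module.finrank (deg0 𝒜) (EM.Hcomp mR i d) = 0 := fun i d hi => by
    rw [Hcomp_eq_bot_of_ne_supportDim 𝒜 hposR h0R ℳ mR hmR EM r hdM hMcm i hi d]
    exact finrank_bot _ _
  have hβ : ∀ j d, j ≠ s → Module.finrank (deg0 ℬ) (EN.Hcomp mS j d) = 0 := fun j d hj => by
    rw [Hcomp_eq_bot_of_ne_supportDim ℬ hposS h0S 𝒩 mS hmS EN s hdN hNcm j hj d]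
    exact finrank_bot _ _
  have hfT : ∀ q d, Module.Finite (deg0 𝒯) (EP.Hcomp mT q d) :=
    fun q d => finite_Hcomp' 𝒯 hposT mT hmT EP q d
  have hfR : ∀ q d, Module.Finite (deg0 𝒜) (EM.Hcomp mR q d) :=
    fun q d => finite_Hcomp' 𝒜 hposR mR hmR EM q d
  have hfS : ∀ q d, Module.Finite (deg0 ℬ) (EN.Hcomp mS q d) :=
    fun q d => finite_Hcomp' ℬ hposS mS hmS EN q d
  have hpR : ∀ d, Module.Finite (deg0 𝒜) (comp 𝒜 ℳ d) := fun d => finite_comp' 𝒜 d
  have hpS : ∀ d, Module.Finite (deg0 ℬ) (comp ℬ 𝒩 d) := fun d => finite_comp' ℬ d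
  refine idealDepth_eq_of_Hcomp 𝒯 hposT h0T 𝒬 mT hmT EP r (fun i hi d => ?_) d0 ?_
  · haveI := hfT i d
    rw [← finrank_eq_zero_iff 𝒯 h0T, hF i d, hα i d (ne_of_lt hi),
      kun_sum_eq_zero h2r h2s (fun i => Module.finrank (deg0 𝒜) (EM.Hcomp mR i d))
        (fun j => Module.finrank (deg0 ℬ) (EN.Hcomp mS j d)) (fun i hi => hα i d hi)
        (fun j hj => hβ j d hj) i (by omega), zero_mul, add_zero, add_zero]
    by_cases his : i = s
    · subst his
      rcases h1 d with h | h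
      · rw [(comp_eq_bot_iff 𝒜 ℳ d).mpr h, finrank_bot, zero_mul]
      · rw [h, finrank_bot, mul_zero]
    · rw [hβ i d his, mul_zero]
  · haveI := hfT r d0
    rw [Ne, ← finrank_eq_zero_iff 𝒯 h0T, hF r d0]
    have e1 : Module.finrank (deg0 𝒜) (EM.Hcomp mR r d0) ≠ 0 := by
      haveI := hfR r d0
      rw [Ne, finrank_eq_zero_iff 𝒜 h0R]
      exact hd0M
    have e2 : Module.finrank (deg0 ℬ) (comp ℬ 𝒩 d0) ≠ 0 := by
      haveI := hpS d0
      rw [Ne, finrank_eq_zero_iff ℬ h0S, comp_eq_bot_iff]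
      exact hd0N
    have e3 := Nat.pos_of_ne_zero (mul_ne_zero e1 e2)
    omega

end DepthSeg

end Groth.Agent.Lib.T2H3.Kun
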