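import Groth.Agent.Lib.T2H3KunI
import Mathlib.LinearAlgebra.Dimension.RankNullity
import Mathlib.LinearAlgebra.Dimension.DivisionRing

/-! Künneth formula for Segre products (helper3), part Z: the dimension formula under the weaker
hypothesis that only the cohomology of degree zero of the torsion subcomplexes vanishes. -/

set_option autoImplicit false
set_option linter.unusedSectionVars false
set_option linter.style.haveILetI false

open scoped TensorProduct

noncomputable section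

namespace Groth.Agent.Lib.T2H3.Kun

universe u

variable {k : Type u} [Field k]

section Les2

variable {C : ℕ → Type u} [∀ n, AddCommGroup (C n)] [∀ n, Module k (C n)]
  (d : ∀ n, C n →ₗ[k] C (n + 1))
variable {C' : ℕ → Type u} [∀ n, AddCommGroup (C' n)] [∀ n, Module k (C' n)]
  (d' : ∀ n, C' n →ₗ[k] C' (n + 1))
variable (p : ∀ n, C n →ₗ[k] C' n) (hp : ∀ n, Function.Surjective (p n))
  (hc : ∀ n x, p (n + 1) (d n x) = d' n (p n x)) (hd : ∀ n x, d (n + 1) (d n x) = 0)

/-- The cohomology of degree zero is the space of cocycles. -/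
theorem rank_Hs_zero (U : ∀ n, Submodule k (C n)) :
    Module.rank k (Hs d U 0) = Module.rank k ↥(Zs d U 0) := by
  have h : (Bs d U 0).comap (Zs d U 0).subtype = ⊥ := by
    rw [eq_bot_iff]
    intro x hx
    rw [Submodule.mem_comap, mem_Bs_zero] at hx
    rw [Submodule.mem_bot]
    exact Subtype.ext hx
  exact (Submodule.quotEquivOfEqBot _ h).rank_eq

include hp hc hd in
/-- The low degree part of the long exact cohomology sequence, as an equality of dimensions. -/
theorem rank_Hs_zero_quot (hinj : ∀ x, d 0 x = 0 → p 0 x = 0 → x = 0)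
    (hex : LinearMap.ker (d 1) = LinearMap.range (d 0)) :
    Module.rank k (Hs d' (topU C') 0) =
      Module.rank k (Hs d (topU C) 0) + Module.rank k (Hs d (kerU p) 1) := by
  let g₀ : ↥(Zs d (topU C) 0) →ₗ[k] ↥(Zs d' (topU C') 0) :=
    LinearMap.codRestrict _ (p 0 ∘ₗ (Zs d (topU C) 0).subtype) (fun x => by
      refine (mem_Zs d' _).mpr ⟨Submodule.mem_top, ?_⟩
      change d' 0 (p 0 (x : C 0)) = 0
      rw [← hc, ((mem_Zs d _).mp x.2).2, map_zero])
  have hg₀ : Function.Injective g₀ := by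
    rw [injective_iff_map_eq_zero]
    intro x hx
    have h1 : p 0 (x : C 0) = 0 := congrArg Subtype.val hx
    exact Subtype.ext (hinj _ ((mem_Zs d _).mp x.2).2 h1)
  let G : Submodule k (C 0) := (kerU p 1).comap (d 0)
  have hG : ∀ x : G, p 1 (d 0 (x : C 0)) = 0 := fun x => x.2
  let g₁ : ↥G →ₗ[k] ↥(Zs d' (topU C') 0) :=
    LinearMap.codRestrict _ (p 0 ∘ₗ G.subtype) (fun x => by
      refine (mem_Zs d' _).mpr ⟨Submodule.mem_top, ?_⟩
      change d' 0 (p 0 (x : C 0)) = 0
      rw [← hc, hG])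
  let g₂ : ↥G →ₗ[k] ↥(Zs d (kerU p) 1) :=
    LinearMap.codRestrict _ (d 0 ∘ₗ G.subtype) (fun x => by
      refine (mem_Zs d _).mpr ⟨x.2, ?_⟩
      change d (0 + 1) (d 0 (x : C 0)) = 0
      exact hd _ _)
  obtain ⟨e⟩ := nonempty_equiv_of_surjective ((LinearMap.range g₀).mkQ ∘ₗ g₁)
    (toHs d (kerU p) 1 ∘ₗ g₂) (by
      intro y
      obtain ⟨z', rfl⟩ := Submodule.mkQ_surjective _ y
      obtain ⟨x, hx⟩ := hp 0 (z' : C' 0)
      have hz' := ((mem_Zs d' _).mp z'.2).2
      have hxG : x ∈ G := by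
        change p 1 (d 0 x) = 0
        rw [hc, hx, hz']
      refine ⟨⟨x, hxG⟩, ?_⟩
      rw [LinearMap.comp_apply]
      congr 1
      exact Subtype.ext hx) (by
      intro y
      obtain ⟨z, rfl⟩ := toHs_surjective d _ 1 y
      have hz := (mem_Zs d _).mp z.2
      have h1 : (z : C 1) ∈ LinearMap.ker (d 1) := LinearMap.mem_ker.mpr hz.2
      rw [hex] at h1
      obtain ⟨x, hx⟩ := h1
      have hxG : x ∈ G := by
        change d 0 x ∈ kerU p 1
        rw [hx]
        exact hz.1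
      refine ⟨⟨x, hxG⟩, ?_⟩
      rw [LinearMap.comp_apply]
      congr 1
      exact Subtype.ext hx) (by
      intro x
      rw [LinearMap.comp_apply, LinearMap.comp_apply, toHs_eq_zero_iff, mem_Bs_succ,
        Submodule.mkQ_apply, Submodule.Quotient.mk_eq_zero]
      change (g₁ x ∈ LinearMap.range g₀) ↔ (∃ y ∈ kerU p 0, d 0 y = d 0 (x : C 0))
      constructor
      · rintro ⟨w, hw⟩
        have hw' : p 0 (w : C 0) = p 0 (x : C 0) := congrArg Subtype.val hw
        refine ⟨(x : C 0) - (w : C 0), ?_, ?_⟩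
        · change p 0 ((x : C 0) - (w : C 0)) = 0
          rw [map_sub, hw', sub_self]
        · rw [map_sub, ((mem_Zs d _).mp w.2).2, sub_zero]
      · rintro ⟨u, hu, hux⟩
        have hu' : p 0 u = 0 := hu
        refine ⟨⟨(x : C 0) - u, (mem_Zs d _).mpr ⟨Submodule.mem_top, ?_⟩⟩, ?_⟩
        · rw [map_sub, hux, sub_self]
        · apply Subtype.ext
          change p 0 ((x : C 0) - u) = p 0 (x : C 0)
          rw [map_sub, hu', sub_zero])
  rw [rank_Hs_zero d' (topU C'), rank_Hs_zero d (topU C), ← e.rank_eq,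
    ← rank_range_of_injective g₀ hg₀, add_comm]
  exact (Submodule.rank_quotient_add_rank (LinearMap.range g₀)).symm

include hp hc hd in
/-- The low degree part of the long exact cohomology sequence, for finite dimensions. -/
theorem finrank_Hs_zero_quot [Module.Finite k (Hs d (topU C) 0)]
    [Module.Finite k (Hs d (kerU p) 1)] (hinj : ∀ x, d 0 x = 0 → p 0 x = 0 → x = 0)
    (hex : LinearMap.ker (d 1) = LinearMap.range (d 0)) :
    Module.Finite k (Hs d' (topU C') 0) ∧ Module.finrank k (Hs d' (topU C') 0) =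
      Module.finrank k (Hs d (topU C) 0) + Module.finrank k (Hs d (kerU p) 1) := by
  have h := rank_Hs_zero_quot d d' p hp hc hd hinj hex
  have hfin : Module.Finite k (Hs d' (topU C') 0) := by
    rw [← Module.rank_lt_aleph0_iff, h]
    exact Cardinal.add_lt_aleph0 (Module.rank_lt_aleph0 k _) (Module.rank_lt_aleph0 k _)
  refine ⟨hfin, ?_⟩
  rw [← Module.finrank_eq_rank k (Hs d' (topU C') 0), ← Module.finrank_eq_rank k (Hs d (topU C) 0),
    ← Module.finrank_eq_rank k (Hs d (kerU p) 1)] at h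
  exact_mod_cast h

end Les2

section RankHelpers

variable {X Y Z : Type u} [AddCommGroup X] [Module k X] [AddCommGroup Y] [Module k Y]
  [AddCommGroup Z] [Module k Z]

theorem finrank_add_of_rank_eq (h : Module.rank k X = Module.rank k Y + Module.rank k Z)
    [Module.Finite k Y] [Module.Finite k Z] :
    Module.Finite k X ∧ Module.finrank k X = Module.finrank k Y + Module.finrank k Z := by
  have hfin : Module.Finite k X := by
    rw [← Module.rank_lt_aleph0_iff, h]
    exact Cardinal.add_lt_aleph0 (Module.rank_lt_aleph0 k _) (Module.rank_lt_aleph0 k _)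
  refine ⟨hfin, ?_⟩
  rw [← Module.finrank_eq_rank k X, ← Module.finrank_eq_rank k Y,
    ← Module.finrank_eq_rank k Z] at h
  exact_mod_cast h

theorem finrank_add_of_rank_eq' (h : Module.rank k X = Module.rank k Y + Module.rank k Z)
    [Module.Finite k X] :
    Module.Finite k Z ∧ Module.finrank k X = Module.finrank k Y + Module.finrank k Z := by
  have hfinZ : Module.Finite k Z := by
    rw [← Module.rank_lt_aleph0_iff]
    refine lt_of_le_of_lt ?_ (Module.rank_lt_aleph0 k X)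
    rw [h]
    exact self_le_add_left _ _
  have hfinY : Module.Finite k Y := by
    rw [← Module.rank_lt_aleph0_iff]
    refine lt_of_le_of_lt ?_ (Module.rank_lt_aleph0 k X)
    rw [h]
    exact self_le_add_right _ _
  refine ⟨hfinZ, ?_⟩
  rw [← Module.finrank_eq_rank k X, ← Module.finrank_eq_rank k Y,
    ← Module.finrank_eq_rank k Z] at h
  exact_mod_cast h

end RankHelpers

section Quot2

variable {A : ℕ → Type u} [∀ n, AddCommGroup (A n)] [∀ n, Module k (A n)]
  (dA : ∀ n, A n →ₗ[k] A (n + 1)) (ΓA : ∀ n, Submodule k (A n))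
  (hΓA : ∀ i x, x ∈ ΓA i → dA i x ∈ ΓA (i + 1))
variable (hdA : ∀ n x, dA (n + 1) (dA n x) = 0)

include hdA in
/-- The cohomology of degree zero of the quotient complex, when only `H^0` of the subcomplex
vanishes. -/
theorem rank_Hs_quot_zero' (h0 : Zs dA ΓA 0 ≤ Bs dA ΓA 0)
    (hex : LinearMap.ker (dA 1) = LinearMap.range (dA 0)) :
    Module.rank k (Hs (dQ dA ΓA hΓA) (topU (QA ΓA)) 0) =
      Module.rank k (Hs dA (topU A) 0) + Module.rank k (Hs dA ΓA 1) := by
  have h := rank_Hs_zero_quot dA (dQ dA ΓA hΓA) (qA ΓA) (qA_surjective ΓA)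
    (fun n x => (dQ_qA dA ΓA hΓA n x).symm) hdA
    (fun x hx hq => eq_zero_of_cocycle dA ΓA h0 x hx hq) hex
  rw [kerU_qA] at h
  exact h

/-- A complex exact in positive degrees has finite cohomology there. -/
theorem finite_Hs_top_succ (hexA : ∀ i, LinearMap.ker (dA (i + 1)) = LinearMap.range (dA i))
    (i : ℕ) : Module.Finite k (Hs dA (topU A) (i + 1)) := by
  have h : Zs dA (topU A) (i + 1) ≤ Bs dA (topU A) (i + 1) := by
    intro x hx
    have h1 : x ∈ LinearMap.ker (dA (i + 1)) := LinearMap.mem_ker.mpr ((mem_Zs dA _).mp hx).2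
    rw [hexA i] at h1
    obtain ⟨y, rfl⟩ := h1
    exact (mem_Bs_succ dA _).mpr ⟨y, Submodule.mem_top, rfl⟩
  haveI : Subsingleton (Hs dA (topU A) (i + 1)) :=
    ⟨fun x y => by rw [Hs_eq_zero dA _ h x, Hs_eq_zero dA _ h y]⟩
  infer_instance

end Quot2

section AT2

variable {A : ℕ → Type u} [∀ n, AddCommGroup (A n)] [∀ n, Module k (A n)]
  (dA : ∀ n, A n →ₗ[k] A (n + 1)) (ΓA : ∀ n, Submodule k (A n))
  (hΓA : ∀ i x, x ∈ ΓA i → dA i x ∈ ΓA (i + 1))
variable {B : ℕ → Type u} [∀ n, AddCommGroup (B n)] [∀ n, Module k (B n)]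
  (dB : ∀ n, B n →ₗ[k] B (n + 1)) (ΓB : ∀ n, Submodule k (B n))
  (hΓB : ∀ i x, x ∈ ΓB i → dB i x ∈ ΓB (i + 1))
variable (hdA : ∀ n x, dA (n + 1) (dA n x) = 0) (hdB : ∀ n x, dB (n + 1) (dB n x) = 0)
  (hexA : ∀ i, LinearMap.ker (dA (i + 1)) = LinearMap.range (dA i))
  (hexB : ∀ j, LinearMap.ker (dB (j + 1)) = LinearMap.range (dB j))
  (h0A : Zs dA ΓA 0 ≤ Bs dA ΓA 0) (h0B : Zs dB ΓB 0 ≤ Bs dB ΓB 0)

include hdA hdB in
/-- The cohomology of degree zero of the total complex of a tensor product. -/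
theorem finrank_Hs_tot_zero [∀ i, Module.Finite k (Hs dA (topU A) i)]
    [∀ j, Module.Finite k (Hs dB (topU B) j)] :
    Module.Finite k (Hs (Dn (t₁ (B := B) dA) (t₂ (A := A) dB)) (topU (XC k (Tn k A B))) 0) ∧
      Module.finrank k (Hs (Dn (t₁ (B := B) dA) (t₂ (A := A) dB)) (topU (XC k (Tn k A B))) 0) =
        Module.finrank k (Hs dA (topU A) 0) * Module.finrank k (Hs dB (topU B) 0) := by
  obtain ⟨e⟩ := kunneth dA dB hdA hdB 0
  refine ⟨Module.Finite.equiv e.symm, ?_⟩
  rw [e.finrank_eq, Module.finrank_pi_fintype]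
  simp only [Module.finrank_tensorProduct]
  rw [Finset.sum_coe_sort (Finset.antidiagonal 0) (fun p =>
    Module.finrank k (Hs dA (topU A) p.1) * Module.finrank k (Hs dB (topU B) p.2)),
    Finset.Nat.antidiagonal_zero, Finset.sum_singleton]

include hΓA hΓB hdA hdB hexA hexB h0A h0B in
/-- The cohomology of degree one of the kernel. -/
theorem finrank_Hs_ker_one' [Module.Finite k (Hs dA (topU A) 0)]
    [Module.Finite k (Hs dB (topU B) 0)] [∀ i, Module.Finite k (Hs dA ΓA i)]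
    [∀ j, Module.Finite k (Hs dB ΓB j)] :
    Module.finrank k (Hs (Dn (t₁ (B := B) dA) (t₂ (A := A) dB)) (kerU (pn ΓA ΓB)) 1) +
      Module.finrank k (Hs dA (topU A) 0) * Module.finrank k (Hs dB (topU B) 0) =
      (Module.finrank k (Hs dA (topU A) 0) + Module.finrank k (Hs dA ΓA 1)) *
        (Module.finrank k (Hs dB (topU B) 0) + Module.finrank k (Hs dB ΓB 1)) := by
  obtain ⟨fQA0, eA⟩ := finrank_add_of_rank_eq (rank_Hs_quot_zero' dA ΓA hΓA hdA h0A (hexA 0))
  obtain ⟨fQB0, eB⟩ := finrank_add_of_rank_eq (rank_Hs_quot_zero' dB ΓB hΓB hdB h0B (hexB 0))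
  have eAS := fun i => (nonempty_Hs_quot_succ dA ΓA hΓA hdA hexA i).some
  have eBS := fun i => (nonempty_Hs_quot_succ dB ΓB hΓB hdB hexB i).some
  haveI hfQA : ∀ i, Module.Finite k (Hs (dQ dA ΓA hΓA) (topU (QA ΓA)) i) := by
    intro i
    cases i with
    | zero => exact fQA0
    | succ i => exact Module.Finite.equiv (eAS i).symm
  haveI hfQB : ∀ i, Module.Finite k (Hs (dQ dB ΓB hΓB) (topU (QA ΓB)) i) := by
    intro i
    cases i with
    | zero => exact fQB0
    | succ i => exact Module.Finite.equiv (eBS i).symm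
  haveI hfA : ∀ i, Module.Finite k (Hs dA (topU A) i) := by
    intro i
    cases i with
    | zero => infer_instance
    | succ i => exact finite_Hs_top_succ dA hexA i
  haveI hfB : ∀ i, Module.Finite k (Hs dB (topU B) i) := by
    intro i
    cases i with
    | zero => infer_instance
    | succ i => exact finite_Hs_top_succ dB hexB i
  obtain ⟨fT, eT⟩ := finrank_Hs_tot_zero dA dB hdA hdB
  obtain ⟨fTQ, eTQ⟩ := finrank_Hs_tot_zero (dQ dA ΓA hΓA) (dQ dB ΓB hΓB) (dQ_dQ dA ΓA hΓA hdA)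
    (dQ_dQ dB ΓB hΓB hdB)
  have hrank := rank_Hs_zero_quot (Dn (t₁ (B := B) dA) (t₂ (A := A) dB))
    (Dn (t₁ (dQ dA ΓA hΓA)) (t₂ (dQ dB ΓB hΓB))) (pn ΓA ΓB) (pn_surjective ΓA ΓB)
    (pn_comm dA ΓA hΓA dB ΓB hΓB) (Dn_Dn _ _ (t11 dA hdA) (t22 dB hdB) (t12 dA dB))
    (fun x hx hpx => by
      have h1 : x ∈ Zs (Dn (t₁ (B := B) dA) (t₂ (A := A) dB)) (kerU (pn ΓA ΓB)) 0 :=
        (mem_Zs _ _).mpr ⟨hpx, hx⟩
      exact (mem_Bs_zero _ _).mp (Zs_ker_zero dA ΓA hΓA dB ΓB hΓB hdA hdB h0A h0B h1))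
    (tot_exact hdA hdB hexA hexB 0)
  obtain ⟨-, e1⟩ := finrank_add_of_rank_eq' hrank
  rw [eTQ, eT, eA, eB] at e1
  rw [e1, add_comm]

end AT2

/-- The arithmetic of the Künneth formula, second version. -/
theorem arith' (α β a b : ℕ → ℕ) (m₀ n₀ : ℕ) (hα0 : α 0 = 0) (hβ0 : β 0 = 0)
    (ha0 : a 0 = m₀ + α 1) (haS : ∀ i, a (i + 1) = α (i + 2)) (hb0 : b 0 = n₀ + β 1)
    (hbS : ∀ i, b (i + 1) = β (i + 2)) (n : ℕ) :
    ∑ p ∈ Finset.antidiagonal (n + 1), a p.1 * b p.2 =
      m₀ * β (n + 2) + α (n + 2) * n₀ + ∑ i ∈ Finset.range (n + 2 + 2), α i * β (n + 2 + 1 - i) := by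
  rw [Finset.Nat.sum_antidiagonal_eq_sum_range_succ_mk]
  simp only
  rw [Finset.sum_range_succ', Finset.sum_range_succ]
  have e1 : ∑ x ∈ Finset.range n, a (x + 1) * b (n + 1 - (x + 1)) =
      ∑ x ∈ Finset.range n, α (x + 2) * β (n + 1 - x) := by
    refine Finset.sum_congr rfl fun x hx => ?_
    have hx' := Finset.mem_range.mp hx
    have e2 : n + 1 - (x + 1) = (n - x - 1) + 1 := by omega
    have e3 : n - x - 1 + 2 = n + 1 - x := by omega
    rw [haS, e2, hbS, e3]
  have e4 : ∑ i ∈ Finset.range (n + 2 + 2), α i * β (n + 2 + 1 - i) =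
      ∑ x ∈ Finset.range n, α (x + 2) * β (n + 1 - x) + α (n + 2) * β 1 + α 1 * β (n + 2) := by
    rw [Finset.sum_range_succ', Finset.sum_range_succ', hα0, zero_mul, add_zero,
      Finset.sum_range_succ, Finset.sum_range_succ]
    have e5 : n + 2 + 1 - (n + 1 + 1 + 1) = 0 := by omega
    have e6 : n + 2 + 1 - (n + 1 + 1) = 1 := by omega
    have e8 : n + 2 + 1 - (0 + 1) = n + 2 := by omega
    rw [e5, e6, e8, hβ0, mul_zero, add_zero]
    congr 2
    refine Finset.sum_congr rfl fun x _ => ?_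
    have e7 : n + 2 + 1 - (x + 1 + 1) = n + 1 - x := by omega
    rw [e7]
  have e8 : n + 1 - (n + 1) = 0 := by omega
  have e9 : n + 1 - 0 = n + 1 := by omega
  rw [e1, e4, haS, e8, hb0, ha0, e9, hbS]
  ring

section Finrank2

variable {A : ℕ → Type u} [∀ n, AddCommGroup (A n)] [∀ n, Module k (A n)]
  (dA : ∀ n, A n →ₗ[k] A (n + 1)) (ΓA : ∀ n, Submodule k (A n))
  (hΓA : ∀ i x, x ∈ ΓA i → dA i x ∈ ΓA (i + 1))
variable {B : ℕ → Type u} [∀ n, AddCommGroup (B n)] [∀ n, Module k (B n)]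
  (dB : ∀ n, B n →ₗ[k] B (n + 1)) (ΓB : ∀ n, Submodule k (B n))
  (hΓB : ∀ i x, x ∈ ΓB i → dB i x ∈ ΓB (i + 1))
variable (hdA : ∀ n x, dA (n + 1) (dA n x) = 0) (hdB : ∀ n x, dB (n + 1) (dB n x) = 0)
  (hexA : ∀ i, LinearMap.ker (dA (i + 1)) = LinearMap.range (dA i))
  (hexB : ∀ j, LinearMap.ker (dB (j + 1)) = LinearMap.range (dB j))
  (h0A : Zs dA ΓA 0 ≤ Bs dA ΓA 0) (h0B : Zs dB ΓB 0 ≤ Bs dB ΓB 0)

include hΓA hΓB hdA hdB hexA hexB h0A h0B in
/-- The dimension formula, when only the cohomology of degree zero of the subcomplexes is assumed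
to vanish. -/
theorem finrank_Hs_ker' [Module.Finite k (Hs dA (topU A) 0)] [Module.Finite k (Hs dB (topU B) 0)]
    [∀ i, Module.Finite k (Hs dA ΓA i)] [∀ j, Module.Finite k (Hs dB ΓB j)] (q : ℕ) :
    Module.finrank k (Hs (Dn (t₁ (B := B) dA) (t₂ (A := A) dB)) (kerU (pn ΓA ΓB)) q) =
      Module.finrank k (Hs dA (topU A) 0) * Module.finrank k (Hs dB ΓB q) +
        Module.finrank k (Hs dA ΓA q) * Module.finrank k (Hs dB (topU B) 0) +
        ∑ i ∈ Finset.range (q + 2),
          Module.finrank k (Hs dA ΓA i) * Module.finrank k (Hs dB ΓB (q + 1 - i)) := by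
  have hα0 := finrank_Hs_eq_zero dA ΓA h0A
  have hβ0 := finrank_Hs_eq_zero dB ΓB h0B
  rcases q with _ | _ | n
  · rw [finrank_Hs_eq_zero _ _ (Zs_ker_zero dA ΓA hΓA dB ΓB hΓB hdA hdB h0A h0B), hα0, hβ0,
      Finset.sum_range_succ, Finset.sum_range_succ, Finset.sum_range_zero, hα0]
    simp only [zero_add, Nat.reduceAdd, Nat.reduceSub, mul_zero, zero_mul, add_zero]
    rw [hβ0, mul_zero]
  · have h1 := finrank_Hs_ker_one' dA ΓA hΓA dB ΓB hΓB hdA hdB hexA hexB h0A h0B
    rw [Finset.sum_range_succ, Finset.sum_range_succ, Finset.sum_range_succ,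
      Finset.sum_range_zero, hα0]
    simp only [zero_add, Nat.reduceAdd, Nat.reduceSub, zero_mul]
    rw [hβ0, mul_zero, add_zero]
    have h2 : (Module.finrank k (Hs dA (topU A) 0) + Module.finrank k (Hs dA ΓA 1)) *
        (Module.finrank k (Hs dB (topU B) 0) + Module.finrank k (Hs dB ΓB 1)) =
        Module.finrank k (Hs dA (topU A) 0) * Module.finrank k (Hs dB (topU B) 0) +
          (Module.finrank k (Hs dA (topU A) 0) * Module.finrank k (Hs dB ΓB 1) +
            Module.finrank k (Hs dA ΓA 1) * Module.finrank k (Hs dB (topU B) 0) +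
            Module.finrank k (Hs dA ΓA 1) * Module.finrank k (Hs dB ΓB 1)) := by ring
    rw [h2, add_comm] at h1
    exact Nat.add_left_cancel h1
  · obtain ⟨e⟩ := nonempty_Hs_ker_equiv dA ΓA hΓA dB ΓB hΓB hdA hdB hexA hexB n
    obtain ⟨fQA0, eA⟩ := finrank_add_of_rank_eq (rank_Hs_quot_zero' dA ΓA hΓA hdA h0A (hexA 0))
    obtain ⟨fQB0, eB⟩ := finrank_add_of_rank_eq (rank_Hs_quot_zero' dB ΓB hΓB hdB h0B (hexB 0))
    have eAS := fun i => (nonempty_Hs_quot_succ dA ΓA hΓA hdA hexA i).some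
    have eBS := fun i => (nonempty_Hs_quot_succ dB ΓB hΓB hdB hexB i).some
    haveI hfA : ∀ i, Module.Finite k (Hs (dQ dA ΓA hΓA) (topU (QA ΓA)) i) := by
      intro i
      cases i with
      | zero => exact fQA0
      | succ i => exact Module.Finite.equiv (eAS i).symm
    haveI hfB : ∀ i, Module.Finite k (Hs (dQ dB ΓB hΓB) (topU (QA ΓB)) i) := by
      intro i
      cases i with
      | zero => exact fQB0
      | succ i => exact Module.Finite.equiv (eBS i).symm
    rw [e.finrank_eq, Module.finrank_pi_fintype]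
    simp only [Module.finrank_tensorProduct]
    rw [Finset.sum_coe_sort (Finset.antidiagonal (n + 1)) (fun p =>
      Module.finrank k (Hs (dQ dA ΓA hΓA) (topU (QA ΓA)) p.1) *
        Module.finrank k (Hs (dQ dB ΓB hΓB) (topU (QA ΓB)) p.2))]
    exact arith' (fun i => Module.finrank k (Hs dA ΓA i)) (fun j => Module.finrank k (Hs dB ΓB j))
      (fun i => Module.finrank k (Hs (dQ dA ΓA hΓA) (topU (QA ΓA)) i))
      (fun j => Module.finrank k (Hs (dQ dB ΓB hΓB) (topU (QA ΓB)) j)) _ _ hα0 hβ0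
      eA (fun i => (eAS i).finrank_eq) eB (fun i => (eBS i).finrank_eq) n

end Finrank2

end Groth.Agent.Lib.T2H3.Kun
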