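import Groth.Agent.Lib.T2H3SegE
import Groth.Agent.Lib.T2H3MatlisC
import Groth.Agent.Lib.T2H3GrLesC
import Groth.Agent.Lib.T2H3GrTorsB
import Groth.Agent.Lib.T2H3GrTors
import Groth.Agent.Lib.T2H3GrTransferB

/-! Segre products of graded modules (helper3), part F: a *injective module over a Noetherian graded
ring splits, for any finite list of homogeneous elements of a common degree, into a part which is
torsion for all of them and finitely many parts on each of which one of them acts bijectively. -/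

set_option autoImplicit false
set_option linter.unusedSectionVars false
set_option linter.style.haveILetI false
open DirectSum

noncomputable section

namespace Groth.Agent.Lib.T2H3.Seg

open GrLC Groth.Agent.Lib.Helper29GrSummand Groth.Agent.Lib.Helper29GrSub
  Groth.Agent.Lib.T2H3.Matlis Groth.Agent.Lib.T2H3.GrLes Groth.Agent.Lib.T2H3.GrTors
  Groth.Agent.Lib.Helper29GrShift

universe u

section RWorld

variable {ι : Type} [AddCommGroup ι] [DecidableEq ι]
variable {R : Type u} [CommRing R] (𝒜 : ι → AddSubgroup R) [GradedRing 𝒜]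
variable {I : Type u} [AddCommGroup I] [Module R I] (ℐ : ι → AddSubgroup I)
  [DirectSum.Decomposition ℐ] [SetLike.GradedSMul 𝒜 ℐ]

/-- A homogeneous submodule which is *essential over the `a`-torsion is `a`-torsion. -/
theorem le_gam_of_essOver [IsNoetherianRing R] (a : HomogeneousIdeal 𝒜) {X : Submodule R I}
    (hX : EssOver ℐ (gam a.toIdeal I) X) : X ≤ gam a.toIdeal I := by
  classical
  have hhom : ∀ (g : ι) (x : I), x ∈ X → x ∈ ℐ g → x ∈ gam a.toIdeal I := by
    intro g x hxX hx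
    let N : Submodule R I := Submodule.span R {x}
    haveI : Module.Finite R ↥N := Module.Finite.span_singleton R x
    obtain ⟨k, hk⟩ := exists_pow_kill_gam a.toIdeal ↥N
    obtain ⟨c, hc⟩ := Ideal.exists_pow_inf_eq_pow_smul a.toIdeal (gam a.toIdeal ↥N)
    have hzero : a.toIdeal ^ (c + k) • (⊤ : Submodule R ↥N) ⊓ gam a.toIdeal ↥N = ⊥ := by
      rw [hc (c + k) (Nat.le_add_right c k), Nat.add_sub_cancel_left, eq_bot_iff]
      refine Submodule.smul_le.mpr ?_
      intro r hr y hy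
      rw [Submodule.mem_bot]
      exact hk r hr y hy.2
    have hxN : x ∈ N := Submodule.mem_span_singleton_self x
    have hkill : ∀ (h : ι) (r : R), r ∈ 𝒜 h → r ∈ a.toIdeal ^ (c + k) → r • x = 0 := by
      intro h r hrh hr
      by_contra hne
      have hrx : r • x ∈ ℐ (h + g) :=
        SetLike.GradedSMul.smul_mem (A := 𝒜) (B := ℐ) hrh hx
      obtain ⟨s, hs0, hsm⟩ := hX.2.2 (h + g) (r • x) (X.smul_mem r hxX) hrx hne
      apply hs0
      let y' : ↥N := (s * r) • ⟨x, hxN⟩
      have hy'1 : y' ∈ a.toIdeal ^ (c + k) • (⊤ : Submodule R ↥N) :=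
        Submodule.smul_mem_smul (Ideal.mul_mem_left _ s hr) Submodule.mem_top
      have hy'2 : y' ∈ gam a.toIdeal ↥N := by
        obtain ⟨n, hn⟩ := hsm
        refine ⟨n, fun t ht => ?_⟩
        apply Subtype.ext
        change t • ((s * r) • x) = 0
        rw [mul_smul]
        exact hn t ht
      have hy'0 : y' = 0 := by
        have : y' ∈ (⊥ : Submodule R ↥N) := hzero ▸ ⟨hy'1, hy'2⟩
        exact (Submodule.mem_bot R).mp this
      have := congrArg Subtype.val hy'0
      change (s * r) • x = 0 at this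
      rw [mul_smul] at this
      exact this
    refine ⟨c + k, fun r hr => ?_⟩
    have hpow := Groth.Agent.Lib.Helper29GrGam.pow_isHomogeneous 𝒜 a (c + k)
    have hr' : r = ∑ h ∈ (decompose 𝒜 r).support, ((decompose 𝒜 r) h : R) :=
      (DirectSum.sum_support_decompose 𝒜 r).symm
    rw [hr', Finset.sum_smul]
    apply Finset.sum_eq_zero
    intro h _
    exact hkill h _ (SetLike.coe_mem _) (hpow h hr)
  intro x hx
  rw [← DirectSum.sum_support_decompose ℐ x]
  apply Submodule.sum_mem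
  intro h _
  exact hhom h _ (hX.1 h hx) (SetLike.coe_mem _)

/-- Over a Noetherian graded ring the `a`-torsion of a *injective module is a graded retract. -/
theorem isRetr_gam [IsNoetherianRing R] (hI : IsStarInj 𝒜 ℐ) (a : HomogeneousIdeal 𝒜) :
    IsRetr ℐ (gam a.toIdeal I) := by
  obtain ⟨X, Q, h, hess, -, -, hgr, hrange, hid⟩ := exists_summand 𝒜 ℐ hI (gam a.toIdeal I)
    (Groth.Agent.Lib.Helper29GrGam.gam_isHomogeneous 𝒜 ℐ a)
  have hX : X ≤ gam a.toIdeal I := le_gam_of_essOver 𝒜 ℐ a hess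
  refine ⟨h, hgr, fun x => hX ?_, fun x hx => hid x (hess.2.1 hx)⟩
  rw [← hrange]
  exact ⟨x, rfl⟩

/-- On the kernel of a graded idempotent of a *injective module, a homogeneous element acting
injectively acts bijectively, with a homogeneous inverse. -/
theorem exists_inverse_on_ker (hI : IsStarInj 𝒜 ℐ) {d : ι} {x : R} (hx : x ∈ 𝒜 d)
    (h : I →ₗ[R] I) (hgr : IsGrHom ℐ ℐ h) (hh : ∀ y, h (h y) = h y)
    (hker : ∀ y, h y = 0 → x • y = 0 → y = 0) :
    ∃ ν : I →ₗ[R] I, (∀ g y, y ∈ ℐ g → ν y ∈ ℐ (g + -d)) ∧ (∀ y, x • ν y = y - h y) ∧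
      (∀ y, ν (x • y) = y - h y) ∧ ∀ y, h (ν y) = 0 := by
  classical
  let K : Submodule R I := LinearMap.ker h
  let p : I →ₗ[R] I := LinearMap.id - h
  have hp : ∀ y, p y = y - h y := fun y => rfl
  have hhp : ∀ y, h (p y) = 0 := by
    intro y
    rw [hp, map_sub, hh, sub_self]
  have hK : IsRetr ℐ K := by
    refine ⟨p, fun g y hy => ?_, fun y => hhp y, fun y hy => ?_⟩
    · rw [hp]
      exact sub_mem hy (hgr g y hy)
    · have : h y = 0 := hy
      rw [hp, this, sub_zero]
  have key : ∃ ψ : ↥K →ₗ[R] ↥K,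
      (∀ g (y : ↥K), (y : I) ∈ ℐ g → ((ψ y : ↥K) : I) ∈ ℐ (g + -d)) ∧
        ∀ y : ↥K, ψ (x • y) = y := by
    let KG : GMod.{u} 𝒜 := subGMod 𝒜 ℐ K hK.isHomogeneous
    have hKinj : IsStarInj 𝒜 KG.gr := isStarInj_subGMod 𝒜 hI hK
    have hsh : IsStarInj 𝒜 (shiftGr KG.gr (-d)) := isStarInj_shift KG hKinj (-d)
    let f : ↥K →ₗ[R] ↥K := LinearMap.lsmul R ↥K x
    have hf : IsGrHom (shiftGMod KG (-d)).gr KG.gr f := by
      intro j y hy
      have hy' : ((y : ↥K) : I) ∈ ℐ (j + -d) := hy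
      have h1 : x • ((y : ↥K) : I) ∈ ℐ (d + (j + -d)) :=
        SetLike.GradedSMul.smul_mem (A := 𝒜) (B := ℐ) hx hy'
      have h2 : d + (j + -d) = j := by abel
      rw [h2] at h1
      exact h1
    have hinj : Function.Injective f := by
      rw [injective_iff_map_eq_zero]
      intro y hy
      apply Subtype.ext
      have h1 : x • ((y : ↥K) : I) = 0 := congrArg Subtype.val hy
      exact hker y y.2 h1
    obtain ⟨ψ, hψgr, hψ⟩ := hsh (shiftGMod KG (-d)) KG f hf hinj LinearMap.id (fun _ _ hy => hy)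
    exact ⟨ψ, fun g y hy => hψgr g y hy, fun y => LinearMap.congr_fun hψ y⟩
  obtain ⟨ψ, hψgr, hψx⟩ := key
  let q : I →ₗ[R] ↥K := LinearMap.codRestrict K p hhp
  have hq : ∀ y, ((q y : ↥K) : I) = y - h y := fun y => rfl
  have hqK : ∀ y : ↥K, q (y : I) = y := by
    intro y
    apply Subtype.ext
    rw [hq]
    have : h (y : I) = 0 := y.2
    rw [this, sub_zero]
  let ν : I →ₗ[R] I := K.subtype ∘ₗ ψ ∘ₗ q
  have hν : ∀ y, ν y = ((ψ (q y) : ↥K) : I) := fun y => rfl
  have hνx : ∀ y, ν (x • y) = y - h y := by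
    intro y
    rw [hν, map_smul, hψx, hq]
  have hhν : ∀ y, h (ν y) = 0 := fun y => (ψ (q y)).2
  have hxν : ∀ y, x • ν y = y - h y := by
    intro y
    have h1 : ψ (q y - x • ψ (q y)) = 0 := by
      rw [map_sub, hψx, sub_self]
    have h2 : q y - x • ψ (q y) = 0 := by
      have h3 : ψ (x • (q y - x • ψ (q y))) = 0 := by rw [map_smul, h1, smul_zero]
      rw [hψx] at h3
      exact h3
    have h4 : ((q y : ↥K) : I) = x • ((ψ (q y) : ↥K) : I) :=
      congrArg Subtype.val (sub_eq_zero.mp h2)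
    rw [hν, ← h4, hq]
  refine ⟨ν, fun g y hy => ?_, hxν, hνx, hhν⟩
  have h1 : ((q y : ↥K) : I) ∈ ℐ g := by
    rw [hq]
    exact sub_mem hy (hgr g y hy)
  exact hψgr g (q y) h1

/-- Splitting data of a graded module over a graded ring (no base field): as `Good`, with the
torsion condition stated for a list of elements. -/
structure GoodR (𝒜 : ι → AddSubgroup R) [GradedRing 𝒜] {A : Type u} [AddCommGroup A] [Module R A]
    (𝓐 : ι → AddSubgroup A) (δ : ι) (xs : List R) where
  n : ℕ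
  e : Fin (n + 1) → A →ₗ[R] A
  x : Fin (n + 1) → R
  ν : Fin (n + 1) → A →ₗ[R] A
  e_gr : ∀ i, IsGrHom 𝓐 𝓐 (e i)
  sum_e : ∀ a, ∑ i, e i a = a
  e_e : ∀ i a, e i (e i a) = e i a
  e_tors : ∀ a, ∀ y ∈ xs, ∃ m : ℕ, y ^ m • e 0 a = 0
  x_mem : ∀ i, i ≠ 0 → x i ∈ 𝒜 δ
  ν_gr : ∀ i, i ≠ 0 → ∀ d a, a ∈ 𝓐 d → ν i a ∈ 𝓐 (d + -δ)
  x_ν : ∀ i, i ≠ 0 → ∀ a, x i • ν i a = e i a
  ν_x : ∀ i, i ≠ 0 → ∀ a, ν i (x i • a) = e i a
  e_ν : ∀ i, i ≠ 0 → ∀ a, e i (ν i a) = ν i a

/-- The trivial splitting for the empty list. -/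
def GoodR.nil {A : Type u} [AddCommGroup A] [Module R A] (𝓐 : ι → AddSubgroup A) (δ : ι) :
    GoodR 𝒜 𝓐 δ [] where
  n := 0
  e := fun _ => LinearMap.id
  x := fun _ => 0
  ν := fun _ => 0
  e_gr := fun _ _ _ h => h
  sum_e := fun a => by simp
  e_e := fun _ _ => rfl
  e_tors := fun _ y hy => absurd hy List.not_mem_nil
  x_mem := fun i hi => absurd (Fin.fin_one_eq_zero i) hi
  ν_gr := fun i hi => absurd (Fin.fin_one_eq_zero i) hi
  x_ν := fun i hi => absurd (Fin.fin_one_eq_zero i) hi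
  ν_x := fun i hi => absurd (Fin.fin_one_eq_zero i) hi
  e_ν := fun i hi => absurd (Fin.fin_one_eq_zero i) hi

theorem castSucc_ne_zero' {n : ℕ} {j : Fin (n + 1)} (h : j.castSucc ≠ 0) : j ≠ 0 := by
  intro hj
  apply h
  rw [hj]
  rfl

/-- A *injective module over a Noetherian graded ring splits with respect to any list of
homogeneous elements of a common degree. -/
theorem exists_goodR [IsNoetherianRing R] {δ : ι} (xs : List R) (hxs : ∀ y ∈ xs, y ∈ 𝒜 δ) :
    ∀ X : GMod.{u} 𝒜, IsStarInj 𝒜 X.gr → Nonempty (GoodR 𝒜 X.gr δ xs) := by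
  classical
  induction xs with
  | nil => exact fun X _ => ⟨GoodR.nil 𝒜 X.gr δ⟩
  | cons y ys ih =>
    intro X hX
    have hyδ : y ∈ 𝒜 δ := hxs y List.mem_cons_self
    let ay : HomogeneousIdeal 𝒜 := ⟨Ideal.span {y}, Ideal.homogeneous_span 𝒜 {y} (by
      intro z hz
      rw [Set.mem_singleton_iff] at hz
      rw [hz]
      exact ⟨δ, hyδ⟩)⟩
    have hay : ay.toIdeal = Ideal.span {y} := rfl
    have hJ : IsRetr X.gr (gam ay.toIdeal X.carrier) := isRetr_gam 𝒜 X.gr hX ay
    obtain ⟨h, hgr, hmem, hid⟩ := hJ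
    have hh : ∀ z, h (h z) = h z := fun z => hid _ (hmem z)
    have hker : ∀ z, h z = 0 → y • z = 0 → z = 0 := by
      intro z hz hyz
      have h1 : z ∈ gam ay.toIdeal X.carrier := by
        refine ⟨1, fun r hr => ?_⟩
        rw [pow_one, hay, Ideal.mem_span_singleton'] at hr
        obtain ⟨c, rfl⟩ := hr
        rw [mul_smul, hyz, smul_zero]
      rw [← hid z h1, hz]
    obtain ⟨νy, hνgr, hyν, hνy, hhν⟩ := exists_inverse_on_ker 𝒜 X.gr hX hyδ h hgr hh hker
    let J : Submodule R X.carrier := gam ay.toIdeal X.carrier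
    have hJ' : IsRetr X.gr J := ⟨h, hgr, hmem, hid⟩
    obtain ⟨G⟩ := ih (fun z hz => hxs z (List.mem_cons_of_mem y hz))
      (subGMod 𝒜 X.gr J hJ'.isHomogeneous) (isStarInj_subGMod 𝒜 hX hJ')
    let π : X.carrier →ₗ[R] ↥J := LinearMap.codRestrict J h hmem
    have hπ : ∀ a, ((π a : ↥J) : X.carrier) = h a := fun a => rfl
    have hπJ : ∀ z : ↥J, π (z : X.carrier) = z := fun z => Subtype.ext (hid _ z.2)
    let E : Fin (G.n + 1) → X.carrier →ₗ[R] X.carrier := fun i => J.subtype ∘ₗ G.e i ∘ₗ π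
    let N : Fin (G.n + 1) → X.carrier →ₗ[R] X.carrier := fun i => J.subtype ∘ₗ G.ν i ∘ₗ π
    have hE : ∀ i a, E i a = J.subtype (G.e i (π a)) := fun i a => rfl
    have hN : ∀ i a, N i a = J.subtype (G.ν i (π a)) := fun i a => rfl
    have hπE : ∀ i a, π (E i a) = G.e i (π a) := fun i a => hπJ _
    have hπN : ∀ i a, π (N i a) = G.ν i (π a) := fun i a => hπJ _
    refine ⟨{
      n := G.n + 1
      e := Fin.snoc (α := fun _ => X.carrier →ₗ[R] X.carrier) E (LinearMap.id - h)
      x := Fin.snoc (α := fun _ => R) G.x y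
      ν := Fin.snoc (α := fun _ => X.carrier →ₗ[R] X.carrier) N νy
      e_gr := ?_
      sum_e := ?_
      e_e := ?_
      e_tors := ?_
      x_mem := ?_
      ν_gr := ?_
      x_ν := ?_
      ν_x := ?_
      e_ν := ?_ }⟩
    · intro i
      refine Fin.lastCases ?_ (fun j => ?_) i
      · rw [Fin.snoc_last]
        intro g a ha
        rw [LinearMap.sub_apply, LinearMap.id_apply]
        exact sub_mem ha (hgr g a ha)
      · rw [Fin.snoc_castSucc]
        intro g a ha
        rw [hE]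
        exact G.e_gr j g (π a) (hgr g a ha)
    · intro a
      rw [Fin.sum_univ_castSucc]
      simp only [Fin.snoc_castSucc, Fin.snoc_last]
      rw [LinearMap.sub_apply, LinearMap.id_apply]
      have h1 : ∑ i, E i a = h a := by
        have h2 : ∑ i, E i a = J.subtype (∑ i, G.e i (π a)) := by
          rw [map_sum]
          rfl
        rw [h2]
        exact congrArg J.subtype (G.sum_e (π a))
      rw [h1]
      abel
    · intro i
      refine Fin.lastCases ?_ (fun j => ?_) i
      · rw [Fin.snoc_last]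
        intro a
        simp only [LinearMap.sub_apply, LinearMap.id_apply, map_sub, hh, sub_self, sub_zero]
      · rw [Fin.snoc_castSucc]
        intro a
        rw [hE j (E j a), hπE, G.e_e, hE]
    · intro a z hz
      have h0 : (0 : Fin (G.n + 1 + 1)) = (0 : Fin (G.n + 1)).castSucc := rfl
      rw [h0, Fin.snoc_castSucc, hE]
      rcases List.mem_cons.mp hz with rfl | hz'
      · obtain ⟨m, hm⟩ := (G.e 0 (π a)).2
        refine ⟨m, hm _ ?_⟩
        rw [hay]
        exact Ideal.pow_mem_pow (Ideal.mem_span_singleton_self z) m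
      · obtain ⟨m, hm⟩ := G.e_tors (π a) z hz'
        exact ⟨m, congrArg Subtype.val hm⟩
    · intro i
      refine Fin.lastCases ?_ (fun j => ?_) i
      · intro _
        rw [Fin.snoc_last]
        exact hyδ
      · intro hj
        rw [Fin.snoc_castSucc]
        exact G.x_mem j (castSucc_ne_zero' hj)
    · intro i
      refine Fin.lastCases ?_ (fun j => ?_) i
      · intro _
        rw [Fin.snoc_last]
        exact hνgr
      · intro hj d a ha
        rw [Fin.snoc_castSucc, hN]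
        exact G.ν_gr j (castSucc_ne_zero' hj) d (π a) (hgr d a ha)
    · intro i
      refine Fin.lastCases ?_ (fun j => ?_) i
      · intro _ a
        simp only [Fin.snoc_last]
        rw [hyν, LinearMap.sub_apply, LinearMap.id_apply]
      · intro hj a
        simp only [Fin.snoc_castSucc]
        rw [hN, hE, ← G.x_ν j (castSucc_ne_zero' hj)]
        rfl
    · intro i
      refine Fin.lastCases ?_ (fun j => ?_) i
      · intro _ a
        simp only [Fin.snoc_last]
        rw [hνy, LinearMap.sub_apply, LinearMap.id_apply]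
      · intro hj a
        simp only [Fin.snoc_castSucc]
        rw [hN, hE, map_smul]
        exact congrArg _ (G.ν_x j (castSucc_ne_zero' hj) (π a))
    · intro i
      refine Fin.lastCases ?_ (fun j => ?_) i
      · intro _ a
        simp only [Fin.snoc_last]
        rw [LinearMap.sub_apply, LinearMap.id_apply, hhν, sub_zero]
      · intro hj a
        simp only [Fin.snoc_castSucc]
        rw [hE, hπN, G.e_ν j (castSucc_ne_zero' hj), hN]

end RWorld

section KWorld

open Groth.Agent.Lib.T2H3.GrTr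

variable {k : Type u} [Field k] {R : Type u} [CommRing R] [Algebra k R]
  {𝒜 : ℤ → Submodule k R} [GradedAlgebra 𝒜]
variable {A : Type u} [AddCommGroup A] [Module R A] [Module k A] [IsScalarTower k R A]
  {𝓐 : ℤ → AddSubgroup A} [DirectSum.Decomposition 𝓐] [SetLike.GradedSMul 𝒜 𝓐]

/-- An element killed by powers of elements generating `m` up to radical is `m`-torsion. -/
theorem mem_gam_of_forall_pow [IsNoetherianRing R] (m : Ideal R) (xs : List R)
    (hrad : m ≤ (Ideal.span {y | y ∈ xs}).radical) (a : A)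
    (ha : ∀ y ∈ xs, ∃ n : ℕ, y ^ n • a = 0) : a ∈ gam m A := by
  let J : Ideal R := LinearMap.ker (LinearMap.toSpanSingleton R A a)
  have hJ : ∀ r, r ∈ J ↔ r • a = 0 := fun r => by
    change LinearMap.toSpanSingleton R A a r = 0 ↔ _
    rw [LinearMap.toSpanSingleton_apply]
  have h1 : Ideal.span {y | y ∈ xs} ≤ J.radical := by
    rw [Ideal.span_le]
    intro y hy
    obtain ⟨n, hn⟩ := ha y hy
    exact ⟨n, (hJ _).mpr hn⟩
  have h2 : m ≤ J.radical := by
    refine hrad.trans ?_
    rw [← Ideal.radical_idem J]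
    exact Ideal.radical_mono h1
  obtain ⟨n, hn⟩ := Ideal.exists_pow_le_of_le_radical_of_fg h2 (IsNoetherian.noetherian m)
  exact ⟨n, fun r hr => (hJ r).mp (hn hr)⟩

/-- Conversion of splitting data to the form over a base field. -/
def Good.ofGoodR [IsNoetherianRing R] (mR : HomogeneousIdeal 𝒜) {δ : ℤ} {xs : List R}
    (G : GoodR (asGr 𝒜) 𝓐 δ xs) (hrad : mR.toIdeal ≤ (Ideal.span {y | y ∈ xs}).radical) :
    Good 𝒜 mR 𝓐 δ where
  n := G.n
  e := G.e
  x := G.x
  ν := fun i => (G.ν i).restrictScalars k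
  e_gr := G.e_gr
  sum_e := G.sum_e
  e_e := G.e_e
  e_tors := fun a => mem_gam_of_forall_pow mR.toIdeal xs hrad _ (G.e_tors a)
  x_mem := G.x_mem
  ν_gr := G.ν_gr
  x_ν := G.x_ν
  ν_x := G.ν_x
  e_ν := G.e_ν

/-- The irrelevant ideal is generated up to radical by finitely many homogeneous elements of a
common degree, which can be taken to be any multiple of some fixed positive integer. -/
theorem exists_list_pow [IsNoetherianRing R] (mR : HomogeneousIdeal 𝒜)
    (hmR : mR.toIdeal = Ideal.span (⋃ n ∈ Set.Ioi (0 : ℤ), (𝒜 n : Set R))) :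
    ∃ D : ℕ, 0 < D ∧ ∀ c : ℕ, ∃ xs : List R, (∀ y ∈ xs, y ∈ 𝒜 ((D * c : ℕ) : ℤ)) ∧
      mR.toIdeal ≤ (Ideal.span {y | y ∈ xs}).radical := by
  classical
  have hfg : (Submodule.span R (⋃ n ∈ Set.Ioi (0 : ℤ), (𝒜 n : Set R))).FG :=
    IsNoetherian.noetherian _
  obtain ⟨s', hs's, hs'⟩ := (Submodule.fg_span_iff_fg_span_finset_subset _).mp hfg
  have hd : ∀ y : R, ∃ n : ℕ, y ∈ s' → (0 < n ∧ y ∈ 𝒜 (n : ℤ)) := by
    intro y
    by_cases hy : y ∈ s'
    · obtain ⟨n, hn, hyn⟩ := Set.mem_iUnion₂.mp (hs's hy)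
      have hn0 : (0 : ℤ) < n := hn
      refine ⟨n.toNat, fun _ => ⟨by omega, ?_⟩⟩
      rw [Int.toNat_of_nonneg hn0.le]
      exact hyn
    · exact ⟨0, fun h => absurd h hy⟩
  choose d hd using hd
  refine ⟨∏ y ∈ s', d y, Finset.prod_pos (fun y hy => (hd y hy).1), fun c => ?_⟩
  refine ⟨s'.toList.map (fun y => y ^ ((∏ z ∈ s', d z) / d y * c)), ?_, ?_⟩
  · intro z hz
    obtain ⟨y, hy, rfl⟩ := List.mem_map.mp hz
    rw [Finset.mem_toList] at hy
    have h1 := SetLike.pow_mem_graded ((∏ z ∈ s', d z) / d y * c) (hd y hy).2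
    have h2 : ((∏ z ∈ s', d z) / d y * c) • ((d y : ℕ) : ℤ) = (((∏ z ∈ s', d z) * c : ℕ) : ℤ) := by
      rw [nsmul_eq_mul, ← Nat.cast_mul]
      congr 1
      rw [mul_right_comm, Nat.div_mul_cancel (Finset.dvd_prod_of_mem d hy)]
    rw [h2] at h1
    exact h1
  · rw [hmR]
    change Submodule.span R _ ≤ _
    rw [hs', Submodule.span_le]
    intro y hy
    refine ⟨(∏ z ∈ s', d z) / d y * c, Ideal.subset_span ?_⟩
    exact List.mem_map.mpr ⟨y, Finset.mem_toList.mpr hy, rfl⟩

/-- Splitting data for a *injective module over a Noetherian graded `k`-algebra. -/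
theorem exists_good_of_isStarInj [IsNoetherianRing R] (mR : HomogeneousIdeal 𝒜) {δ : ℤ}
    (xs : List R) (hxs : ∀ y ∈ xs, y ∈ 𝒜 δ)
    (hrad : mR.toIdeal ≤ (Ideal.span {y | y ∈ xs}).radical) (hA : IsStarInj 𝒜 𝓐) :
    Nonempty (Good 𝒜 mR 𝓐 δ) := by
  obtain ⟨G⟩ := exists_goodR (asGr 𝒜) xs hxs (GMod.of (asGr 𝒜) A 𝓐) (isStarInj_asGr 𝒜 𝓐 hA)
  exact ⟨Good.ofGoodR mR G hrad⟩

variable (𝓐) in
/-- Splitting data for a module on which a homogeneous element acts bijectively. -/
def Good.ofBijective (mR : HomogeneousIdeal 𝒜) {g : R} {δ : ℤ} (hg : g ∈ 𝒜 δ)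
    (hbij : Function.Bijective (fun y : A => g • y)) : Good 𝒜 mR 𝓐 δ where
  n := 1
  e := fun i => if i = 0 then 0 else LinearMap.id
  x := fun _ => g
  ν := fun _ => (Groth.Agent.Lib.T2H3.GrTors.invMap hbij).restrictScalars k
  e_gr := fun i => by
    by_cases hi : i = 0
    · rw [if_pos hi]
      intro _ _ _
      exact zero_mem _
    · rw [if_neg hi]
      exact fun _ _ h => h
  sum_e := fun a => by
    rw [Fin.sum_univ_two, if_pos rfl, if_neg (by decide)]
    simp
  e_e := fun i a => by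
    by_cases hi : i = 0
    · rw [if_pos hi]
      simp
    · rw [if_neg hi]
      rfl
  e_tors := fun a => by
    rw [if_pos rfl, LinearMap.zero_apply]
    exact zero_mem _
  x_mem := fun _ _ => hg
  ν_gr := fun _ _ d a ha =>
    Groth.Agent.Lib.T2H3.GrTors.invMap_isGrHom (𝒜 := asGr 𝒜) (ℳ := 𝓐) hg hbij d a ha
  x_ν := fun i hi a => by
    rw [if_neg hi]
    exact Groth.Agent.Lib.T2H3.GrTors.smul_invMap hbij a
  ν_x := fun i hi a => by
    rw [if_neg hi]
    exact Groth.Agent.Lib.T2H3.GrTors.invMap_smul hbij a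
  e_ν := fun i hi a => by
    rw [if_neg hi]
    rfl

end KWorld

end Groth.Agent.Lib.T2H3.Seg
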