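import Groth.Agent.Lib.T2H3KunZB
import Groth.Agent.Lib.T2H3KunX

/-! Künneth formula for Segre products (helper3), part ZC: the Cohen–Macaulay criterion for Segre
products with a factor of dimension one. -/

set_option autoImplicit false
set_option linter.unusedSectionVars false
set_option linter.style.haveILetI false
open DirectSum
open scoped TensorProduct

noncomputable section

namespace Groth.Agent.Lib.T2H3.Kun

open Groth.Agent.Lib.T2H3.GrTr Groth.Agent.Lib GrLC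

universe u

section DimOne

variable {k : Type u} [Field k] {R S T : Type u} [CommRing R] [CommRing S] [CommRing T]
  [Algebra k R] [Algebra k S] [Algebra k T] [Nontrivial R] [Nontrivial S] [Nontrivial T]
  (𝒜 : ℤ → Submodule k R) [GradedAlgebra 𝒜] (ℬ : ℤ → Submodule k S) [GradedAlgebra ℬ]
  (𝒯 : ℤ → Submodule k T) [GradedAlgebra 𝒯]
  (hposR : ∀ n : ℤ, n < 0 → 𝒜 n = ⊥) (h0R : 𝒜 0 = Submodule.span k {(1 : R)})
  (hposS : ∀ n : ℤ, n < 0 → ℬ n = ⊥) (h0S : ℬ 0 = Submodule.span k {(1 : S)})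
  (hposT : ∀ n : ℤ, n < 0 → 𝒯 n = ⊥) (h0T : 𝒯 0 = Submodule.span k {(1 : T)})
  [Algebra.FiniteType k R] [Algebra.FiniteType k S] [Algebra.FiniteType k T]
  (mR : HomogeneousIdeal 𝒜)
  (hmR : mR.toIdeal = Ideal.span (⋃ n ∈ Set.Ioi (0 : ℤ), (𝒜 n : Set R)))
  (mS : HomogeneousIdeal ℬ)
  (hmS : mS.toIdeal = Ideal.span (⋃ n ∈ Set.Ioi (0 : ℤ), (ℬ n : Set S)))
  (mT : HomogeneousIdeal 𝒯)
  (hmT : mT.toIdeal = Ideal.span (⋃ n ∈ Set.Ioi (0 : ℤ), (𝒯 n : Set T)))
  {M : Type u} [AddCommGroup M] [Module R M] [Module.Finite R M]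
  (ℳ : ℤ → AddSubgroup M) [DirectSum.Decomposition ℳ] [SetLike.GradedSMul 𝒜 ℳ]
  (EM : StarInjRes 𝒜 ℳ)
  {N : Type u} [AddCommGroup N] [Module S N] [Module.Finite S N]
  (𝒩 : ℤ → AddSubgroup N) [DirectSum.Decomposition 𝒩] [SetLike.GradedSMul ℬ 𝒩]
  (EN : StarInjRes ℬ 𝒩)
  {P : Type u} [AddCommGroup P] [Module T P] [Module.Finite T P]
  (𝒬 : ℤ → AddSubgroup P) [DirectSum.Decomposition 𝒬] [SetLike.GradedSMul 𝒯 𝒬]
  (EP : StarInjRes 𝒯 𝒬)

include hposR h0R hmR hposS h0S hmS hposT h0T hmT in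
/-- The Cohen–Macaulay criterion for the Segre product of a graded Cohen–Macaulay module of
dimension one and a graded Cohen–Macaulay module of dimension `s ≥ 1`, given the Künneth dimension
formula. -/
theorem cm_segreMod_dim_one_of_formula {s : ℕ} (h1s : 1 ≤ s)
    (hdM : Module.supportDim R M = ((1 : ℕ) : WithBot ℕ∞)) (hdN : Module.supportDim S N = s)
    (hdP : Module.supportDim T P = (s : WithBot ℕ∞))
    (hMcm : ∀ (q : Ideal R) [q.IsPrime], Subsingleton (LocalizedModule q.primeCompl M) ∨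
      LocCoh.IsCohenMacaulayModule (Localization.AtPrime q) (LocalizedModule q.primeCompl M))
    (hNcm : ∀ (q : Ideal S) [q.IsPrime], Subsingleton (LocalizedModule q.primeCompl N) ∨
      LocCoh.IsCohenMacaulayModule (Localization.AtPrime q) (LocalizedModule q.primeCompl N))
    (hF : ∀ (q : ℕ) (d : ℤ), Module.finrank (deg0 𝒯) (EP.Hcomp mT q d) =
      Module.finrank (deg0 𝒜) (comp 𝒜 ℳ d) * Module.finrank (deg0 ℬ) (EN.Hcomp mS q d) +
        Module.finrank (deg0 𝒜) (EM.Hcomp mR q d) * Module.finrank (deg0 ℬ) (comp ℬ 𝒩 d) +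
        (Finset.range (q + 2)).sum (fun i => Module.finrank (deg0 𝒜) (EM.Hcomp mR i d) *
          Module.finrank (deg0 ℬ) (EN.Hcomp mS (q + 1 - i) d))) :
    (2 ≤ s → ((∀ (q : Ideal T) [q.IsPrime], Subsingleton (LocalizedModule q.primeCompl P) ∨
      LocCoh.IsCohenMacaulayModule (Localization.AtPrime q) (LocalizedModule q.primeCompl P)) ↔
      ∀ d : ℤ, EM.Hcomp mR 1 d = ⊥ ∨ 𝒩 d = ⊥)) ∧
    (s = 1 → (∀ (q : Ideal T) [q.IsPrime], Subsingleton (LocalizedModule q.primeCompl P) ∨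
      LocCoh.IsCohenMacaulayModule (Localization.AtPrime q) (LocalizedModule q.primeCompl P))) := by
  haveI : IsNoetherianRing R := Algebra.FiniteType.isNoetherianRing k R
  haveI : IsNoetherianRing S := Algebra.FiniteType.isNoetherianRing k S
  haveI : IsNoetherianRing T := Algebra.FiniteType.isNoetherianRing k T
  have hα : ∀ i d, i ≠ 1 → Module.finrank (deg0 𝒜) (EM.Hcomp mR i d) = 0 := fun i d hi => by
    rw [Hcomp_eq_bot_of_ne_supportDim 𝒜 hposR h0R ℳ mR hmR EM 1 hdM hMcm i hi d]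
    exact finrank_bot _ _
  have hβ : ∀ j d, j ≠ s → Module.finrank (deg0 ℬ) (EN.Hcomp mS j d) = 0 := fun j d hj => by
    rw [Hcomp_eq_bot_of_ne_supportDim ℬ hposS h0S 𝒩 mS hmS EN s hdN hNcm j hj d]
    exact finrank_bot _ _
  have hfT : ∀ q d, Module.Finite (deg0 𝒯) (EP.Hcomp mT q d) :=
    fun q d => finite_Hcomp' 𝒯 hposT mT hmT EP q d
  have hfR : ∀ q d, Module.Finite (deg0 𝒜) (EM.Hcomp mR q d) :=
    fun q d => finite_Hcomp' 𝒜 hposR mR hmR EM q d
  have hpS : ∀ d, Module.Finite (deg0 ℬ) (comp ℬ 𝒩 d) := fun d => finite_comp' ℬ d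
  -- the formula below the dimension
  have hτ : ∀ q d, q < s → Module.finrank (deg0 𝒯) (EP.Hcomp mT q d) =
      Module.finrank (deg0 𝒜) (EM.Hcomp mR q d) * Module.finrank (deg0 ℬ) (comp ℬ 𝒩 d) := by
    intro q d hq
    have hsum : (Finset.range (q + 2)).sum (fun i => Module.finrank (deg0 𝒜) (EM.Hcomp mR i d) *
        Module.finrank (deg0 ℬ) (EN.Hcomp mS (q + 1 - i) d)) = 0 := by
      refine Finset.sum_eq_zero fun i _ => ?_
      by_cases hi : i = 1
      · subst hi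
        have e : q + 1 - 1 = q := by omega
        rw [e, hβ q d (ne_of_lt hq), mul_zero]
      · rw [hα i d hi, zero_mul]
    rw [hF q d, hsum, hβ q d (ne_of_lt hq), mul_zero, zero_add, add_zero]
  have hL : (∀ (q : Ideal T) [q.IsPrime], Subsingleton (LocalizedModule q.primeCompl P) ∨
      LocCoh.IsCohenMacaulayModule (Localization.AtPrime q) (LocalizedModule q.primeCompl P)) ↔
      ∀ q, q < s → ∀ d, Module.finrank (deg0 𝒯) (EP.Hcomp mT q d) = 0 := by
    constructor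
    · intro hCM q hq d
      rw [Hcomp_eq_bot_of_ne_supportDim 𝒯 hposT h0T 𝒬 mT hmT EP s hdP hCM q (ne_of_lt hq) d]
      exact finrank_bot _ _
    · intro h q hq
      refine cm_of_Hcomp_eq_bot 𝒯 hposT h0T 𝒬 mT hmT EP s hdP (fun i hi d => ?_) q
      haveI := hfT i d
      exact (finrank_eq_zero_iff 𝒯 h0T _).mp (h i hi d)
  constructor
  · intro h2s
    rw [hL]
    constructor
    · intro h d
      have h1 := h 1 (by omega) d
      rw [hτ 1 d (by omega)] at h1
      rcases Nat.mul_eq_zero.mp h1 with h2 | h2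
      · left
        haveI := hfR 1 d
        exact (finrank_eq_zero_iff 𝒜 h0R _).mp h2
      · right
        haveI := hpS d
        exact (comp_eq_bot_iff ℬ 𝒩 d).mp ((finrank_eq_zero_iff ℬ h0S _).mp h2)
    · intro h q hq d
      rw [hτ q d hq]
      by_cases hq1 : q = 1
      · subst hq1
        rcases h d with h2 | h2
        · rw [h2, finrank_bot, zero_mul]
        · rw [(comp_eq_bot_iff ℬ 𝒩 d).mpr h2, finrank_bot, mul_zero]
      · rw [hα q d hq1, zero_mul]
  · intro hs1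
    rw [hL]
    intro q hq d
    rw [hτ q d hq, hα q d (by omega), zero_mul]

end DimOne

section DimOneRing

variable {k : Type u} [Field k] {R S T : Type u} [CommRing R] [CommRing S] [CommRing T]
  [Algebra k R] [Algebra k S] [Algebra k T] [Nontrivial R] [Nontrivial S] [Nontrivial T]
  [IsNoetherianRing R] [IsNoetherianRing S] [IsNoetherianRing T]
  (𝒜 : ℤ → Submodule k R) [GradedAlgebra 𝒜] (ℬ : ℤ → Submodule k S) [GradedAlgebra ℬ]
  (𝒯 : ℤ → Submodule k T) [GradedAlgebra 𝒯]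
  (hposR : ∀ n : ℤ, n < 0 → 𝒜 n = ⊥) (h0R : 𝒜 0 = Submodule.span k {(1 : R)})
  (hposS : ∀ n : ℤ, n < 0 → ℬ n = ⊥) (h0S : ℬ 0 = Submodule.span k {(1 : S)})
  (hposT : ∀ n : ℤ, n < 0 → 𝒯 n = ⊥) (h0T : 𝒯 0 = Submodule.span k {(1 : T)})
  (mR : HomogeneousIdeal 𝒜)
  (hmR : mR.toIdeal = Ideal.span (⋃ n ∈ Set.Ioi (0 : ℤ), (𝒜 n : Set R))) (I : StarInjRes 𝒜 𝒜)
  (mS : HomogeneousIdeal ℬ)
  (hmS : mS.toIdeal = Ideal.span (⋃ n ∈ Set.Ioi (0 : ℤ), (ℬ n : Set S))) (J : StarInjRes ℬ ℬ)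
  (mT : HomogeneousIdeal 𝒯)
  (hmT : mT.toIdeal = Ideal.span (⋃ n ∈ Set.Ioi (0 : ℤ), (𝒯 n : Set T))) (IT : StarInjRes 𝒯 𝒯)

include hposR h0R hmR hposS h0S hmS hposT h0T hmT in
/-- The Cohen–Macaulay criterion for Segre products of rings with a factor of dimension one,
given the Künneth formula. -/
theorem isCohenMacaulayRing_segre_dim_one_of_formula [LocCoh.IsCohenMacaulayRing R]
    [LocCoh.IsCohenMacaulayRing S] {s : ℕ} (hr : ringKrullDim R = ((1 : ℕ) : WithBot ℕ∞))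
    (hs : ringKrullDim S = s) (hdimT : ringKrullDim T = (s : WithBot ℕ∞))
    (hF : ∀ (q : ℕ) (d : ℤ), Module.finrank (deg0 𝒯) (IT.Hcomp mT q d) =
      Module.finrank k (𝒜 d) * Module.finrank (deg0 ℬ) (J.Hcomp mS q d) +
        Module.finrank (deg0 𝒜) (I.Hcomp mR q d) * Module.finrank k (ℬ d) +
        (Finset.range (q + 2)).sum (fun i => Module.finrank (deg0 𝒜) (I.Hcomp mR i d) *
          Module.finrank (deg0 ℬ) (J.Hcomp mS (q + 1 - i) d))) :
    (2 ≤ s → (LocCoh.IsCohenMacaulayRing T ↔ ∀ n : ℤ, I.Hcomp mR 1 n = ⊥ ∨ ℬ n = ⊥)) ∧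
      (s = 1 → LocCoh.IsCohenMacaulayRing T) := by
  have hα : ∀ i d, i ≠ 1 → Module.finrank (deg0 𝒜) (I.Hcomp mR i d) = 0 := fun i d hi =>
    finrank_Hcomp_eq_zero_of_ne 𝒜 hposR h0R mR hmR I hr i d hi
  have hβ : ∀ j d, j ≠ s → Module.finrank (deg0 ℬ) (J.Hcomp mS j d) = 0 := fun j d hj =>
    finrank_Hcomp_eq_zero_of_ne ℬ hposS h0S mS hmS J hs j d hj
  have hfT : ∀ q d, Module.Finite (deg0 𝒯) (IT.Hcomp mT q d) :=
    finite_Hcomp_self 𝒯 hposT mT hmT IT
  have hfR : ∀ q d, Module.Finite (deg0 𝒜) (I.Hcomp mR q d) := finite_Hcomp_self 𝒜 hposR mR hmR I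
  have hpS : ∀ d, Module.Finite k (ℬ d) := finite_piece ℬ h0S
  have hτ : ∀ q d, q < s → Module.finrank (deg0 𝒯) (IT.Hcomp mT q d) =
      Module.finrank (deg0 𝒜) (I.Hcomp mR q d) * Module.finrank k (ℬ d) := by
    intro q d hq
    have hsum : (Finset.range (q + 2)).sum (fun i => Module.finrank (deg0 𝒜) (I.Hcomp mR i d) *
        Module.finrank (deg0 ℬ) (J.Hcomp mS (q + 1 - i) d)) = 0 := by
      refine Finset.sum_eq_zero fun i _ => ?_
      by_cases hi : i = 1
      · subst hi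
        have e : q + 1 - 1 = q := by omega
        rw [e, hβ q d (ne_of_lt hq), mul_zero]
      · rw [hα i d hi, zero_mul]
    rw [hF q d, hsum, hβ q d (ne_of_lt hq), mul_zero, zero_add, add_zero]
  have hL : LocCoh.IsCohenMacaulayRing T ↔
      ∀ q, q < s → ∀ d, Module.finrank (deg0 𝒯) (IT.Hcomp mT q d) = 0 := by
    constructor
    · intro hCM q hq d
      rw [Hcomp_eq_bot_of_lt_dim 𝒯 hposT h0T mT hmT IT hdimT hq d]
      exact finrank_bot _ _
    · intro h
      refine isCohenMacaulayRing_of_Hcomp_eq_bot 𝒯 hposT h0T mT hmT IT hdimT fun q hq d => ?_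
      haveI := hfT q d
      exact (finrank_eq_zero_iff 𝒯 h0T _).mp (h q hq d)
  constructor
  · intro h2s
    rw [hL]
    constructor
    · intro h d
      have h1 := h 1 (by omega) d
      rw [hτ 1 d (by omega)] at h1
      rcases Nat.mul_eq_zero.mp h1 with h2 | h2
      · left
        haveI := hfR 1 d
        exact (finrank_eq_zero_iff 𝒜 h0R _).mp h2
      · right
        haveI := hpS d
        exact Submodule.finrank_eq_zero.mp h2
    · intro h q hq d
      rw [hτ q d hq]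
      by_cases hq1 : q = 1
      · subst hq1
        rcases h d with h2 | h2
        · rw [h2, finrank_bot, zero_mul]
        · rw [h2, finrank_bot, mul_zero]
      · rw [hα q d hq1, zero_mul]
  · intro hs1
    rw [hL]
    intro q hq d
    rw [hτ q d hq, hα q d (by omega), zero_mul]

end DimOneRing

end Groth.Agent.Lib.T2H3.Kun
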