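import Groth.Agent.Lib.T2H3KunZ

/-! Künneth formula for Segre products (helper3), part ZD: the top cohomology of the kernel,
without any hypothesis on the low degrees. -/

set_option autoImplicit false
set_option linter.unusedSectionVars false
set_option linter.style.haveILetI false

open scoped TensorProduct

noncomputable section

namespace Groth.Agent.Lib.T2H3.Kun

universe u

variable {k : Type u} [Field k]

section Top

variable {A : ℕ → Type u} [∀ n, AddCommGroup (A n)] [∀ n, Module k (A n)]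
  (dA : ∀ n, A n →ₗ[k] A (n + 1)) (ΓA : ∀ n, Submodule k (A n))
  (hΓA : ∀ i x, x ∈ ΓA i → dA i x ∈ ΓA (i + 1))
variable {B : ℕ → Type u} [∀ n, AddCommGroup (B n)] [∀ n, Module k (B n)]
  (dB : ∀ n, B n →ₗ[k] B (n + 1)) (ΓB : ∀ n, Submodule k (B n))
  (hΓB : ∀ i x, x ∈ ΓB i → dB i x ∈ ΓB (i + 1))
variable (hdA : ∀ n x, dA (n + 1) (dA n x) = 0) (hdB : ∀ n x, dB (n + 1) (dB n x) = 0)
  (hexA : ∀ i, LinearMap.ker (dA (i + 1)) = LinearMap.range (dA i))
  (hexB : ∀ j, LinearMap.ker (dB (j + 1)) = LinearMap.range (dB j))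

include hΓA hΓB hdA hdB hexA hexB in
/-- The top cohomology of the kernel is the tensor product of the top cohomologies. -/
theorem finrank_Hs_ker_top (r' s' : ℕ)
    (hAv : ∀ i, r' + 2 < i → Zs dA ΓA i ≤ Bs dA ΓA i)
    (hBv : ∀ j, s' + 2 < j → Zs dB ΓB j ≤ Bs dB ΓB j)
    [Module.Finite k (Hs dA ΓA (r' + 2))] [Module.Finite k (Hs dB ΓB (s' + 2))] :
    Module.finrank k (Hs (Dn (t₁ (B := B) dA) (t₂ (A := A) dB)) (kerU (pn ΓA ΓB))
      (r' + s' + 1 + 2)) =
      Module.finrank k (Hs dA ΓA (r' + 2)) * Module.finrank k (Hs dB ΓB (s' + 2)) := by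
  obtain ⟨e⟩ := nonempty_Hs_ker_equiv dA ΓA hΓA dB ΓB hΓB hdA hdB hexA hexB (r' + s' + 1)
  have eAS := fun i => (nonempty_Hs_quot_succ dA ΓA hΓA hdA hexA i).some
  have eBS := fun i => (nonempty_Hs_quot_succ dB ΓB hΓB hdB hexB i).some
  have hsA : ∀ i, r' + 1 < i → Subsingleton (Hs (dQ dA ΓA hΓA) (topU (QA ΓA)) i) := by
    intro i hi
    obtain ⟨i', rfl⟩ : ∃ i', i = i' + 1 := ⟨i - 1, by omega⟩
    have h := hAv (i' + 2) (by omega)
    exact ⟨fun x y => (eAS i').injective (by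
      rw [Hs_eq_zero dA ΓA h (eAS i' x), Hs_eq_zero dA ΓA h (eAS i' y)])⟩
  have hsB : ∀ j, s' + 1 < j → Subsingleton (Hs (dQ dB ΓB hΓB) (topU (QA ΓB)) j) := by
    intro j hj
    obtain ⟨j', rfl⟩ : ∃ j', j = j' + 1 := ⟨j - 1, by omega⟩
    have h := hBv (j' + 2) (by omega)
    exact ⟨fun x y => (eBS j').injective (by
      rw [Hs_eq_zero dB ΓB h (eBS j' x), Hs_eq_zero dB ΓB h (eBS j' y)])⟩
  have key : ∀ i j, i + j = r' + s' + 1 + 1 → (i, j) ≠ (r' + 1, s' + 1) →
      Subsingleton (Hs (dQ dA ΓA hΓA) (topU (QA ΓA)) i ⊗[k]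
        Hs (dQ dB ΓB hΓB) (topU (QA ΓB)) j) := by
    intro i j hij hne
    by_cases hi : r' + 1 < i
    · haveI := hsA i hi
      infer_instance
    · have hj : s' + 1 < j := by
        by_contra hj
        apply hne
        have h1 : i = r' + 1 := by omega
        have h2 : j = s' + 1 := by omega
        rw [h1, h2]
      haveI := hsB j hj
      infer_instance
  have hfin : ∀ i j, i + j = r' + s' + 1 + 1 →
      Module.Finite k (Hs (dQ dA ΓA hΓA) (topU (QA ΓA)) i ⊗[k]
        Hs (dQ dB ΓB hΓB) (topU (QA ΓB)) j) := by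
    intro i j hij
    by_cases h : (i, j) = (r' + 1, s' + 1)
    · have h1 : i = r' + 1 := congrArg Prod.fst h
      have h2 : j = s' + 1 := congrArg Prod.snd h
      subst h1 h2
      haveI : Module.Finite k (Hs (dQ dA ΓA hΓA) (topU (QA ΓA)) (r' + 1)) :=
        Module.Finite.equiv (eAS r').symm
      haveI : Module.Finite k (Hs (dQ dB ΓB hΓB) (topU (QA ΓB)) (s' + 1)) :=
        Module.Finite.equiv (eBS s').symm
      infer_instance
    · haveI := key i j hij h
      infer_instance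
  haveI : ∀ p : ↥(Finset.antidiagonal (r' + s' + 1 + 1)),
      Module.Finite k (Hs (dQ dA ΓA hΓA) (topU (QA ΓA)) p.1.1 ⊗[k]
        Hs (dQ dB ΓB hΓB) (topU (QA ΓB)) p.1.2) :=
    fun p => hfin p.1.1 p.1.2 (Finset.mem_antidiagonal.mp p.2)
  rw [e.finrank_eq, Module.finrank_pi_fintype,
    Finset.sum_coe_sort (Finset.antidiagonal (r' + s' + 1 + 1)) (fun p =>
      Module.finrank k (Hs (dQ dA ΓA hΓA) (topU (QA ΓA)) p.1 ⊗[k]
        Hs (dQ dB ΓB hΓB) (topU (QA ΓB)) p.2)),
    Finset.sum_eq_single (r' + 1, s' + 1)]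
  · rw [Module.finrank_tensorProduct, (eAS r').finrank_eq, (eBS s').finrank_eq]
  · intro p hp hne
    haveI := key p.1 p.2 (Finset.mem_antidiagonal.mp hp) hne
    exact Module.finrank_zero_of_subsingleton
  · intro h
    exact absurd (Finset.mem_antidiagonal.mpr (by ring)) h

end Top

end Groth.Agent.Lib.T2H3.Kun
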