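import Groth.Agent.Lib.T2H3KunQ
import Groth.Agent.Lib.T2H3KunZD
import Groth.Agent.Lib.T2H3SegF
import Groth.Agent.S18646

/-! Künneth formula for Segre products (helper3), part ZE: the top local cohomology of a Segre
product, `dim H^{r+s-1}(M # N)_d = dim H^r(M)_d * dim H^s(N)_d`, without depth hypotheses. -/

set_option autoImplicit false
set_option linter.unusedSectionVars false
set_option linter.style.haveILetI false
open DirectSum
open scoped TensorProduct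

noncomputable section

namespace Groth.Agent.Lib.T2H3.Kun

open Groth.Agent.Lib.T2H3.GrTr Groth.Agent.Lib Groth.Agent.Lib.LeadSP
  Groth.Agent.Lib.Helper29LCAcyclic GrLC Groth.Agent.Lib.Helper29GrHom
  Groth.Agent.Lib.Helper29GrGam Groth.Agent.Lib.T2H3.GrLes Groth.Agent.Lib.T2H3.Seg

universe u

section Main

variable {k : Type u} [Field k] {R S T : Type u} [CommRing R] [CommRing S] [CommRing T]
  [Algebra k R] [Algebra k S] [Algebra k T]
  {𝒜 : ℤ → Submodule k R} [GradedAlgebra 𝒜] {ℬ : ℤ → Submodule k S} [GradedAlgebra ℬ]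
  {𝒯 : ℤ → Submodule k T} [GradedAlgebra 𝒯] {ψ : T →ₐ[k] R ⊗[k] S}
  [IsNoetherianRing R] [IsNoetherianRing S] [IsNoetherianRing T]
variable {M : Type u} [AddCommGroup M] [Module R M] [Module k M] [IsScalarTower k R M]
  {ℳ : ℤ → AddSubgroup M} [DirectSum.Decomposition ℳ] [SetLike.GradedSMul 𝒜 ℳ]
variable {N : Type u} [AddCommGroup N] [Module S N] [Module k N] [IsScalarTower k S N]
  {𝒩 : ℤ → AddSubgroup N} [DirectSum.Decomposition 𝒩] [SetLike.GradedSMul ℬ 𝒩]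
variable {P : Type u} [AddCommGroup P] [Module T P] [Module k P] [IsScalarTower k T P]
  {𝒬 : ℤ → AddSubgroup P} [DirectSum.Decomposition 𝒬] [SetLike.GradedSMul 𝒯 𝒬]
variable {EM : StarInjRes 𝒜 ℳ} [∀ n, Module k (EM.X n).carrier]
  [∀ n, IsScalarTower k R (EM.X n).carrier]
variable {EN : StarInjRes ℬ 𝒩} [∀ n, Module k (EN.X n).carrier]
  [∀ n, IsScalarTower k S (EN.X n).carrier]
variable {φ : P →ₗ[k] M ⊗[k] N} {mR : HomogeneousIdeal 𝒜} {mS : HomogeneousIdeal ℬ}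
  {mT : HomogeneousIdeal 𝒯} {δ : ℤ}

namespace K2Setup

variable (K : K2Setup (ψ := ψ) (𝒬 := 𝒬) EM EN φ mR mS mT δ) (EP : StarInjRes 𝒯 𝒬)

include K in
/-- The top local cohomology of a Segre product. -/
theorem finrank_Hcomp_top [Nontrivial R] [Nontrivial S] [Nontrivial T] [Module.Finite R M]
    [Module.Finite S N] (hposR : ∀ n : ℤ, n < 0 → 𝒜 n = ⊥)
    (hposS : ∀ n : ℤ, n < 0 → ℬ n = ⊥) (h0R : 𝒜 0 = Submodule.span k {(1 : R)})
    (h0S : ℬ 0 = Submodule.span k {(1 : S)}) (h0T : 𝒯 0 = Submodule.span k {(1 : T)})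
    (hmR : mR.toIdeal = Ideal.span (⋃ n ∈ Set.Ioi (0 : ℤ), (𝒜 n : Set R)))
    (hmS : mS.toIdeal = Ideal.span (⋃ n ∈ Set.Ioi (0 : ℤ), (ℬ n : Set S))) (r' s' : ℕ) (d : ℤ)
    (hMv : ∀ i, r' + 2 < i → EM.Hcomp mR i d = ⊥)
    (hNv : ∀ j, s' + 2 < j → EN.Hcomp mS j d = ⊥) :
    Module.finrank (deg0 𝒯) (EP.Hcomp mT (r' + s' + 1 + 2) d) =
      Module.finrank (deg0 𝒜) (EM.Hcomp mR (r' + 2) d) *
        Module.finrank (deg0 ℬ) (EN.Hcomp mS (s' + 2) d) := by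
  haveI : ∀ i, Module.Finite (deg0 𝒜) (EM.Hcomp mR i d) := fun i =>
    finite_Hcomp' 𝒜 hposR mR hmR EM i d
  haveI : ∀ j, Module.Finite (deg0 ℬ) (EN.Hcomp mS j d) := fun j =>
    finite_Hcomp' ℬ hposS mS hmS EN j d
  haveI fA : ∀ i, Module.Finite k (Hs (dAd EM d) (ΓAd EM mR d) i) := fun i =>
    finite_of_rank_eq (rank_Hs_ΓAd EM mR d h0R i)
  haveI fB : ∀ j, Module.Finite k (Hs (dAd EN d) (ΓAd EN mS d) j) := fun j =>
    finite_of_rank_eq (rank_Hs_ΓAd EN mS d h0S j)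
  have key := finrank_Hs_ker_top (dAd EM d) (ΓAd EM mR d) (ΓAd_stable EM mR d) (dAd EN d)
    (ΓAd EN mS d) (ΓAd_stable EN mS d) (dAd_dAd EM d) (dAd_dAd EN d) (exAd EM d) (exAd EN d)
    r' s' (fun i hi => Zs_le_Bs_of_Hcomp_eq_bot EM mR d i (hMv i hi))
    (fun j hj => Zs_le_Bs_of_Hcomp_eq_bot EN mS d j (hNv j hj))
  rw [finrank_eq_of_rank_eq' (K.rank_Hcomp EP d h0T (r' + s' + 1 + 2)),
    finrank_eq_of_rank_eq' (rank_Hs_ΓAd EM mR d h0R (r' + 2)),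
    finrank_eq_of_rank_eq' (rank_Hs_ΓAd EN mS d h0S (s' + 2))]
  exact key

end K2Setup

end Main

/-- The dimensions of the pieces of the top graded local cohomology of a Segre product of graded
modules. -/
theorem finrank_Hcomp_segreMod_top (k : Type u) [Field k] (R : Type u) [CommRing R]
    [Nontrivial R] [Algebra k R] (𝒜 : ℤ → Submodule k R) [GradedAlgebra 𝒜]
    (hposR : ∀ n : ℤ, n < 0 → 𝒜 n = ⊥) (h0R : 𝒜 0 = Submodule.span k {(1 : R)})
    [Algebra.FiniteType k R] (S : Type u) [CommRing S] [Nontrivial S] [Algebra k S]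
    (ℬ : ℤ → Submodule k S) [GradedAlgebra ℬ] (hposS : ∀ n : ℤ, n < 0 → ℬ n = ⊥)
    (h0S : ℬ 0 = Submodule.span k {(1 : S)}) [Algebra.FiniteType k S] (T : Type u) [CommRing T]
    [Algebra k T] (𝒯 : ℤ → Submodule k T) [GradedAlgebra 𝒯] (ψ : T →ₐ[k] TensorProduct k R S)
    (hT : GrSeg.IsSegreRing 𝒜 ℬ 𝒯 ψ) (mR : HomogeneousIdeal 𝒜)
    (hmR : mR.toIdeal = Ideal.span (⋃ n ∈ Set.Ioi (0 : ℤ), (𝒜 n : Set R)))
    (mS : HomogeneousIdeal ℬ)
    (hmS : mS.toIdeal = Ideal.span (⋃ n ∈ Set.Ioi (0 : ℤ), (ℬ n : Set S)))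
    (mT : HomogeneousIdeal 𝒯)
    (hmT : mT.toIdeal = Ideal.span (⋃ n ∈ Set.Ioi (0 : ℤ), (𝒯 n : Set T)))
    (M : Type u) [AddCommGroup M] [Module R M] [Module k M] [IsScalarTower k R M]
    (ℳ : ℤ → AddSubgroup M) [DirectSum.Decomposition ℳ] [SetLike.GradedSMul 𝒜 ℳ]
    [Module.Finite R M] (EM : GrLC.StarInjRes 𝒜 ℳ) (N : Type u) [AddCommGroup N] [Module S N]
    [Module k N] [IsScalarTower k S N] (𝒩 : ℤ → AddSubgroup N) [DirectSum.Decomposition 𝒩]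
    [SetLike.GradedSMul ℬ 𝒩] [Module.Finite S N] (EN : GrLC.StarInjRes ℬ 𝒩) (P : Type u)
    [AddCommGroup P] [Module T P] [Module k P] [IsScalarTower k T P] (𝒬 : ℤ → AddSubgroup P)
    [DirectSum.Decomposition 𝒬] [SetLike.GradedSMul 𝒯 𝒬] (φ : P →ₗ[k] TensorProduct k M N)
    (hP : GrSeg.IsSegreMod ψ ℳ 𝒩 𝒬 φ) (EP : GrLC.StarInjRes 𝒯 𝒬) (r' s' : ℕ) (d : ℤ)
    (hMv : ∀ i, r' + 2 < i → EM.Hcomp mR i d = ⊥)
    (hNv : ∀ j, s' + 2 < j → EN.Hcomp mS j d = ⊥) :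
    Module.finrank (GrLC.deg0 𝒯) (EP.Hcomp mT (r' + s' + 1 + 2) d) =
      Module.finrank (GrLC.deg0 𝒜) (EM.Hcomp mR (r' + 2) d) *
        Module.finrank (GrLC.deg0 ℬ) (EN.Hcomp mS (s' + 2) d) := by
  classical
  haveI : IsNoetherianRing R := Algebra.FiniteType.isNoetherianRing k R
  haveI : IsNoetherianRing S := Algebra.FiniteType.isNoetherianRing k S
  haveI : IsNoetherianRing T :=
    Groth.Agent.S18646.result k R 𝒜 hposR h0R S ℬ hposS h0S T 𝒯 ψ hT.1 hT.2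
  haveI : Nontrivial (TensorProduct k R S) :=
    Algebra.TensorProduct.nontrivial_of_algebraMap_injective_of_flat_left k R S
      (algebraMap k S).injective
  haveI : Nontrivial T := ⟨⟨0, 1, fun h => by
    have h1 : ψ 0 = ψ 1 := congrArg ψ h
    rw [map_zero, map_one] at h1
    exact zero_ne_one h1⟩⟩
  -- the `k`-structures on the terms of the resolutions
  letI kX : ∀ n, Module k (EM.X n).carrier := fun n => Module.compHom _ (algebraMap k R)
  haveI tX : ∀ n, IsScalarTower k R (EM.X n).carrier := fun n => ⟨fun c r x => by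
    change (c • r) • x = algebraMap k R c • (r • x)
    rw [Algebra.smul_def, mul_smul]⟩
  letI kY : ∀ n, Module k (EN.X n).carrier := fun n => Module.compHom _ (algebraMap k S)
  haveI tY : ∀ n, IsScalarTower k S (EN.X n).carrier := fun n => ⟨fun c r x => by
    change (c • r) • x = algebraMap k S c • (r • x)
    rw [Algebra.smul_def, mul_smul]⟩
  have hirrR : ∀ n : ℤ, 0 < n → ∀ r ∈ 𝒜 n, r ∈ mR.toIdeal := by
    intro n hn r hr
    rw [hmR]
    exact Ideal.subset_span (Set.mem_biUnion (show n ∈ Set.Ioi (0 : ℤ) from hn) hr)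
  have hirrS : ∀ n : ℤ, 0 < n → ∀ s ∈ ℬ n, s ∈ mS.toIdeal := by
    intro n hn s hs
    rw [hmS]
    exact Ideal.subset_span (Set.mem_biUnion (show n ∈ Set.Ioi (0 : ℤ) from hn) hs)
  -- splitting data
  obtain ⟨D, hD, hxs⟩ := exists_list_pow mR hmR
  obtain ⟨D', hD', hys⟩ := exists_list_pow mS hmS
  obtain ⟨xs, hxsδ, hradx⟩ := hxs D'
  obtain ⟨ys, hysδ, hrady⟩ := hys D
  rw [Nat.mul_comm D' D] at hysδ
  have hGA : ∀ n, Nonempty (Good 𝒜 mR (EM.X n).gr ((D * D' : ℕ) : ℤ)) := fun n =>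
    exists_good_of_isStarInj mR xs hxsδ hradx (EM.starInj n)
  have hGB : ∀ n, Nonempty (Good ℬ mS (EN.X n).gr ((D * D' : ℕ) : ℤ)) := fun n =>
    exists_good_of_isStarInj mS ys hysδ hrady (EN.starInj n)
  have hδ : (0 : ℤ) < ((D * D' : ℕ) : ℤ) := by
    have : 0 < D * D' := Nat.mul_pos hD hD'
    exact_mod_cast this
  let K : K2Setup (ψ := ψ) (𝒬 := 𝒬) EM EN φ mR mS mT ((D * D' : ℕ) : ℤ) :=
    { hT := hT
      hP := hP
      hposT := LeadSP.hposT 𝒜 ℬ 𝒯 ψ hT.1 hT.2 hposR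
      hmT := hmT
      hirrR := hirrR
      hirrS := hirrS
      hδ := hδ
      GA := fun n => (hGA n).some
      GB := fun n => (hGB n).some }
  exact K.finrank_Hcomp_top EP hposR hposS h0R h0S (LeadSP.h0T 𝒜 ℬ 𝒯 ψ hT.1 hT.2 h0R h0S) hmR hmS
    r' s' d hMv hNv

end Groth.Agent.Lib.T2H3.Kun
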