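import Groth.Agent.Lib.T2H3KunS
import Groth.Agent.Lib.T2H3GDualC
import Groth.Agent.Lib.LeadGDe
import Groth.Agent.Lib.T2H3GrTransferB
import Groth.Agent.Lib.T2H3GrArtC

/-! Künneth formula for Segre products (helper3), part ZF: the pieces of a *canonical module of a
graded ring over a field have the dimensions of the opposite pieces of the top local
cohomology. -/

set_option autoImplicit false
set_option linter.unusedSectionVars false
set_option linter.style.haveILetI false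
open DirectSum

noncomputable section

namespace Groth.Agent.Lib.T2H3.Kun

open Groth.Agent.Lib.T2H3.GrTr Groth.Agent.Lib GrLC Groth.Agent.Lib.T2H3.GrLes
  Groth.Agent.Lib.T2H3.GDual Groth.Agent.Lib.T2H3.GrArt

universe u

section Carrier

variable {k : Type u} [Field k] {R : Type u} [CommRing R] [Algebra k R] [Nontrivial R]
  (𝒜 : ℤ → Submodule k R) [GradedAlgebra 𝒜] (h0 : 𝒜 0 = Submodule.span k {(1 : R)})

include h0 in
/-- A subspace over the degree zero subring and a subspace over the field with the same elements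
have the same dimension. -/
theorem rank_eq_of_carrier_eq {X : Type u} [AddCommGroup X] [Module R X] [Module k X]
    [IsScalarTower k R X] (V : Submodule (deg0 𝒜) X) (W : Submodule k X)
    (h : ∀ x, x ∈ V ↔ x ∈ W) : Module.rank (deg0 𝒜) V = Module.rank k W := by
  let f₁ : ↥W →+ ↥V :=
    { toFun := fun z => ⟨(z : X), (h _).mpr z.2⟩
      map_zero' := rfl
      map_add' := fun _ _ => rfl }
  refine rank_eq_of_surjections (p0 𝒜) (p0_bijective 𝒜 h0) f₁ (AddMonoidHom.id ↥W) ?_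
    Function.surjective_id ?_ ?_ ?_
  · rintro ⟨m, hm⟩
    exact ⟨⟨m, (h _).mp hm⟩, rfl⟩
  · intro z
    constructor
    · intro hz
      have h1 : (z : X) = 0 := congrArg Subtype.val hz
      exact Subtype.ext h1
    · intro hz
      have h1 : z = 0 := hz
      rw [h1]
      rfl
  · intro c z
    apply Subtype.ext
    change c • (z : X) = (algebraMap k R c) • (z : X)
    rw [algebraMap_smul]
  · intro c z
    rfl

end Carrier

section Canon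

variable {k : Type u} [Field k] {R : Type u} [CommRing R] [Algebra k R] [Nontrivial R]
  (𝒜 : ℤ → Submodule k R) [GradedAlgebra 𝒜]
  (hpos : ∀ n : ℤ, n < 0 → 𝒜 n = ⊥) (h0 : 𝒜 0 = Submodule.span k {(1 : R)})
  [Algebra.FiniteType k R]
  (mR : HomogeneousIdeal 𝒜)
  (hmR : mR.toIdeal = Ideal.span (⋃ n ∈ Set.Ioi (0 : ℤ), (𝒜 n : Set R)))
  (I : StarInjRes 𝒜 𝒜)
  {E : Type u} [AddCommGroup E] [Module R E] (𝓔 : ℤ → AddSubgroup E)
  [DirectSum.Decomposition 𝓔] [SetLike.GradedSMul 𝒜 𝓔] (e : (R ⧸ mR.toIdeal) →ₗ[R] E)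
  (he : IsStarInjHull 𝒜 (quotGr 𝒜 mR) 𝓔 e)
  {C : Type u} [AddCommGroup C] [Module R C] (𝒞 : ℤ → AddSubgroup C)
  [DirectSum.Decomposition 𝒞] [SetLike.GradedSMul 𝒜 𝒞] (n : ℕ)
  (hC : IsStarCanonical 𝒜 𝒞 𝓔 mR n I)

include hpos h0 hmR he hC in
/-- The piece of degree `j` of a *canonical module has the dimension of the piece of degree `-j`
of the top local cohomology. -/
theorem finrank_comp_canonical (j : ℤ) :
    Module.finrank (deg0 𝒜) (comp 𝒜 𝒞 j) = Module.finrank (deg0 𝒜) (I.Hcomp mR n (-j)) := by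
  classical
  haveI : IsNoetherianRing R := Algebra.FiniteType.isNoetherianRing k R
  haveI hfinC : Module.Finite R C := hC.1
  letI modC : Module k C := Module.compHom C (algebraMap k R)
  haveI towC : IsScalarTower k R C := IsScalarTower.of_algebraMap_smul (fun _ _ => rfl)
  letI modH : Module k ((resTo 𝒜 𝒜 I).H (hiTo 𝒜 mR) n) :=
    Module.compHom ((resTo 𝒜 𝒜 I).H (hiTo 𝒜 mR) n) (algebraMap k R)
  haveI towH : IsScalarTower k R ((resTo 𝒜 𝒜 I).H (hiTo 𝒜 mR) n) :=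
    IsScalarTower.of_algebraMap_smul (fun _ _ => rfl)
  letI decH := HgrDecomposition (resTo 𝒜 𝒜 I) (hiTo 𝒜 mR) n
  haveI KG : KGraded k (asGr 𝒜) := ⟨fun c => SetLike.algebraMap_mem_graded 𝒜 c⟩
  have h0K : ∀ x ∈ asGr 𝒜 0, ∃ c : k, algebraMap k R c = x := by
    intro x hx
    have hx' : x ∈ 𝒜 0 := hx
    rw [h0] at hx'
    obtain ⟨c, rfl⟩ := Submodule.mem_span_singleton.mp hx'
    exact ⟨c, Algebra.algebraMap_eq_smul_one c⟩
  obtain ⟨β, hβ⟩ := Groth.Agent.Lib.T2H3.GDualU.exists_isGDual_of_isStarCanonical k (asGr 𝒜) 𝓔 𝒞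
    (hposAs 𝒜 hpos) h0K (hiTo 𝒜 mR) hmR e (isStarInjHull_asGr 𝒜 𝓔 e he) n (resTo 𝒜 𝒜 I)
    (isStarCanonical_asGr 𝒜 𝓔 𝒞 n I hC)
  haveI gsH : SetLike.GradedSMul 𝒜 ((resTo 𝒜 𝒜 I).Hgr (hiTo 𝒜 mR) n) :=
    gradedSMul_of_asGr 𝒜 _ (Hgr_gradedSMul (resTo 𝒜 𝒜 I) (hiTo 𝒜 mR) n)
  obtain ⟨Ψ, -⟩ := Groth.Agent.Lib.LeadGD.exists_linearEquiv_dual 𝒜 𝒞
    ((resTo 𝒜 𝒜 I).Hgr (hiTo 𝒜 mR) n) hβ j
  haveI : FiniteDimensional k (Groth.Agent.Lib.LeadGD.pc 𝒜 𝒞 j) :=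
    Groth.Agent.Lib.LeadGD.finiteDimensional_pc_of_finite 𝒜 𝒞 hpos h0 j
  have e1 : Module.finrank k (Groth.Agent.Lib.LeadGD.pc 𝒜
      ((resTo 𝒜 𝒜 I).Hgr (hiTo 𝒜 mR) n) (-j)) =
      Module.finrank k (Groth.Agent.Lib.LeadGD.pc 𝒜 𝒞 j) := by
    rw [Ψ.finrank_eq, Subspace.dual_finrank_eq]
  have e2 : Module.finrank (deg0 𝒜) (comp 𝒜 𝒞 j) =
      Module.finrank k (Groth.Agent.Lib.LeadGD.pc 𝒜 𝒞 j) :=
    finrank_eq_of_rank_eq' (rank_eq_of_carrier_eq 𝒜 h0 (comp 𝒜 𝒞 j)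
      (Groth.Agent.Lib.LeadGD.pc 𝒜 𝒞 j) (fun _ => Iff.rfl))
  have e3 : Module.finrank (deg0 𝒜) (I.Hcomp mR n (-j)) =
      Module.finrank k (Groth.Agent.Lib.LeadGD.pc 𝒜
        ((resTo 𝒜 𝒜 I).Hgr (hiTo 𝒜 mR) n) (-j)) :=
    finrank_eq_of_rank_eq' (rank_eq_of_carrier_eq (X := (resTo 𝒜 𝒜 I).H (hiTo 𝒜 mR) n) 𝒜 h0
      (I.Hcomp mR n (-j))
      (Groth.Agent.Lib.LeadGD.pc 𝒜 ((resTo 𝒜 𝒜 I).Hgr (hiTo 𝒜 mR) n) (-j)) (fun _ => Iff.rfl))
  rw [e2, e3, e1]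

end Canon

end Groth.Agent.Lib.T2H3.Kun
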