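import Groth.Agent.Lib.T2H3KunH
import Mathlib.RingTheory.Flat.Basic

/-! Künneth formula for Segre products (helper3), part ZG: linear algebra for the natural top
Künneth map.  Elements of a tensor product of vector spaces killed by maps on both factors; the
map `θ` from the cocycles of `ΓA ⊗ B + A ⊗ ΓB` in degree `i + j + 1` to
`(A^{i+1} / d ΓA^i) ⊗ (B^{j+1} / d ΓB^j)`, which kills the coboundaries, lands in the tensor
product of the cohomologies of `ΓA` and `ΓB`, and reaches all the pure tensors. -/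

set_option autoImplicit false
set_option linter.unusedSectionVars false
open scoped TensorProduct

noncomputable section

namespace Groth.Agent.Lib.T2H3.Kun

universe u

variable {k : Type u} [Field k]

section TK

variable {V W V' W' V'' W'' : Type u} [AddCommGroup V] [Module k V] [AddCommGroup W] [Module k W]
  [AddCommGroup V'] [Module k V'] [AddCommGroup W'] [Module k W']
  [AddCommGroup V''] [Module k V''] [AddCommGroup W''] [Module k W'']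

/-- An element of `V ⊗ W` killed by `f ⊗ 1` and by `1 ⊗ g` comes from `ker f ⊗ ker g`. -/
theorem mem_range_map_ker (f : V →ₗ[k] V') (g : W →ₗ[k] W') (z : V ⊗[k] W)
    (hf : TensorProduct.map f LinearMap.id z = 0) (hg : TensorProduct.map LinearMap.id g z = 0) :
    z ∈ LinearMap.range
      (TensorProduct.map (LinearMap.ker f).subtype (LinearMap.ker g).subtype) := by
  have h1 : Function.Exact (LinearMap.rTensor W (LinearMap.ker f).subtype)
      (LinearMap.rTensor W f) :=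
    Module.Flat.rTensor_exact W (LinearMap.exact_subtype_ker_map f)
  obtain ⟨z₁, hz₁⟩ := (h1 z).mp hf
  have h2 : Function.Exact (LinearMap.lTensor (LinearMap.ker f) (LinearMap.ker g).subtype)
      (LinearMap.lTensor (LinearMap.ker f) g) :=
    Module.Flat.lTensor_exact (LinearMap.ker f) (LinearMap.exact_subtype_ker_map g)
  have h3 : LinearMap.lTensor (LinearMap.ker f) g z₁ = 0 := by
    apply Module.Flat.rTensor_preserves_injective_linearMap (M := W') (LinearMap.ker f).subtype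
      (Submodule.injective_subtype _)
    rw [map_zero, ← hg, ← hz₁]
    change TensorProduct.map _ _ (TensorProduct.map _ _ z₁) =
      TensorProduct.map _ _ (TensorProduct.map _ _ z₁)
    rw [← LinearMap.comp_apply, ← LinearMap.comp_apply, ← TensorProduct.map_comp,
      ← TensorProduct.map_comp]
    rfl
  obtain ⟨z₂, hz₂⟩ := (h2 z₁).mp h3
  refine ⟨z₂, ?_⟩
  rw [← hz₁, ← hz₂]
  change _ = TensorProduct.map _ _ (TensorProduct.map _ _ z₂)
  rw [← LinearMap.comp_apply, ← TensorProduct.map_comp]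
  rfl

/-- An element of `V ⊗ W` killed by `f₁ ⊗ 1`, `f₂ ⊗ 1`, `1 ⊗ g₁` and `1 ⊗ g₂` comes from
`(ker f₁ ∩ ker f₂) ⊗ (ker g₁ ∩ ker g₂)`. -/
theorem mem_range_map_ker₂ (f₁ : V →ₗ[k] V') (f₂ : V →ₗ[k] V'') (g₁ : W →ₗ[k] W')
    (g₂ : W →ₗ[k] W'') (z : V ⊗[k] W)
    (hf₁ : TensorProduct.map f₁ LinearMap.id z = 0)
    (hf₂ : TensorProduct.map f₂ LinearMap.id z = 0)
    (hg₁ : TensorProduct.map LinearMap.id g₁ z = 0)
    (hg₂ : TensorProduct.map LinearMap.id g₂ z = 0) :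
    z ∈ LinearMap.range (TensorProduct.map (LinearMap.ker f₁ ⊓ LinearMap.ker f₂).subtype
      (LinearMap.ker g₁ ⊓ LinearMap.ker g₂).subtype) := by
  have hf : TensorProduct.map (f₁.prod f₂) LinearMap.id z = 0 := by
    have e : f₁.prod f₂ = LinearMap.inl k V' V'' ∘ₗ f₁ + LinearMap.inr k V' V'' ∘ₗ f₂ := by
      ext x <;> simp
    rw [e, TensorProduct.map_add_left, LinearMap.add_apply]
    have e1 : TensorProduct.map (LinearMap.inl k V' V'' ∘ₗ f₁) (LinearMap.id : W →ₗ[k] W) z =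
        TensorProduct.map (LinearMap.inl k V' V'') LinearMap.id
          (TensorProduct.map f₁ LinearMap.id z) := by
      rw [← LinearMap.comp_apply, ← TensorProduct.map_comp]
      rfl
    have e2 : TensorProduct.map (LinearMap.inr k V' V'' ∘ₗ f₂) (LinearMap.id : W →ₗ[k] W) z =
        TensorProduct.map (LinearMap.inr k V' V'') LinearMap.id
          (TensorProduct.map f₂ LinearMap.id z) := by
      rw [← LinearMap.comp_apply, ← TensorProduct.map_comp]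
      rfl
    rw [e1, e2, hf₁, hf₂, map_zero, map_zero, add_zero]
  have hg : TensorProduct.map LinearMap.id (g₁.prod g₂) z = 0 := by
    have e : g₁.prod g₂ = LinearMap.inl k W' W'' ∘ₗ g₁ + LinearMap.inr k W' W'' ∘ₗ g₂ := by
      ext x <;> simp
    rw [e, TensorProduct.map_add_right, LinearMap.add_apply]
    have e1 : TensorProduct.map (LinearMap.id : V →ₗ[k] V) (LinearMap.inl k W' W'' ∘ₗ g₁) z =
        TensorProduct.map LinearMap.id (LinearMap.inl k W' W'')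
          (TensorProduct.map LinearMap.id g₁ z) := by
      rw [← LinearMap.comp_apply, ← TensorProduct.map_comp]
      rfl
    have e2 : TensorProduct.map (LinearMap.id : V →ₗ[k] V) (LinearMap.inr k W' W'' ∘ₗ g₂) z =
        TensorProduct.map LinearMap.id (LinearMap.inr k W' W'')
          (TensorProduct.map LinearMap.id g₂ z) := by
      rw [← LinearMap.comp_apply, ← TensorProduct.map_comp]
      rfl
    rw [e1, e2, hg₁, hg₂, map_zero, map_zero, add_zero]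
  have h := mem_range_map_ker (f₁.prod f₂) (g₁.prod g₂) z hf hg
  rw [LinearMap.ker_prod, LinearMap.ker_prod] at h
  exact h

end TK

section Single

variable {Λ : Type u} [CommRing Λ]
variable {W : ℕ × ℕ → Type u} [∀ p, AddCommGroup (W p)] [∀ p, Module Λ (W p)]
variable {W' : ℕ × ℕ → Type u} [∀ p, AddCommGroup (W' p)] [∀ p, Module Λ (W' p)]

theorem sh₁_single (φ : ∀ i j, W (i, j) →ₗ[Λ] W' (i + 1, j)) (i j : ℕ) (t : W (i, j)) :
    sh₁ φ (Pi.single (i, j) t) = Pi.single (i + 1, j) (φ i j t) := by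
  funext p
  obtain ⟨a, b⟩ := p
  cases a with
  | zero =>
    rw [sh₁_zero, Pi.single_eq_of_ne (by simp)]
  | succ a =>
    rw [sh₁_succ]
    by_cases h : (a, b) = (i, j)
    · obtain ⟨rfl, rfl⟩ := Prod.mk.inj h
      rw [Pi.single_eq_same, Pi.single_eq_same]
    · rw [Pi.single_eq_of_ne h, map_zero, Pi.single_eq_of_ne]
      intro h'
      apply h
      obtain ⟨h1, h2⟩ := Prod.mk.inj h'
      rw [Nat.succ_injective h1, h2]

theorem sh₂_single (φ : ∀ i j, W (i, j) →ₗ[Λ] W' (i, j + 1)) (i j : ℕ) (t : W (i, j)) :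
    sh₂ φ (Pi.single (i, j) t) = Pi.single (i, j + 1) (sgn i (φ i j t)) := by
  funext p
  obtain ⟨a, b⟩ := p
  cases b with
  | zero =>
    rw [sh₂_zero, Pi.single_eq_of_ne (by simp)]
  | succ b =>
    rw [sh₂_succ]
    by_cases h : (a, b) = (i, j)
    · obtain ⟨rfl, rfl⟩ := Prod.mk.inj h
      rw [Pi.single_eq_same, Pi.single_eq_same]
    · rw [Pi.single_eq_of_ne h, map_zero, sgn_zero, Pi.single_eq_of_ne]
      intro h'
      apply h
      obtain ⟨h1, h2⟩ := Prod.mk.inj h'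
      rw [h1, Nat.succ_injective h2]

theorem D_single (d₁ : ∀ i j, W (i, j) →ₗ[Λ] W (i + 1, j))
    (d₂ : ∀ i j, W (i, j) →ₗ[Λ] W (i, j + 1)) (i j : ℕ) (t : W (i, j)) :
    D d₁ d₂ (Pi.single (i, j) t) =
      Pi.single (i + 1, j) (d₁ i j t) + Pi.single (i, j + 1) (sgn i (d₂ i j t)) := by
  change sh₁ d₁ _ + sh₂ d₂ _ = _
  rw [sh₁_single, sh₂_single]

theorem single_mem_Xn (i j : ℕ) (t : W (i, j)) : Pi.single (i, j) t ∈ Xn Λ W (i + j) := by
  intro p hp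
  rw [Pi.single_eq_of_ne]
  rintro rfl
  exact hp rfl

end Single

section Theta

variable {A : ℕ → Type u} [∀ n, AddCommGroup (A n)] [∀ n, Module k (A n)]
  (dA : ∀ n, A n →ₗ[k] A (n + 1)) (ΓA : ∀ n, Submodule k (A n))

/-- `A^{i+1} / d ΓA^i`. -/
abbrev VQ (i : ℕ) : Type u := A (i + 1) ⧸ (ΓA i).map (dA i)

/-- The quotient map. -/
abbrev vq (i : ℕ) : A (i + 1) →ₗ[k] VQ dA ΓA i := ((ΓA i).map (dA i)).mkQ

theorem vq_dA (i : ℕ) (x : A i) (hx : x ∈ ΓA i) : vq dA ΓA i (dA i x) = 0 :=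
  (Submodule.Quotient.mk_eq_zero _).mpr (Submodule.mem_map_of_mem hx)

/-- The map `A^i / ΓA^i → A^{i+1} / d ΓA^i` induced by the differential. -/
def vqd (i : ℕ) : QA ΓA i →ₗ[k] VQ dA ΓA i :=
  (ΓA i).liftQ (vq dA ΓA i ∘ₗ dA i) (fun x hx => LinearMap.mem_ker.mpr (vq_dA dA ΓA i x hx))

theorem vqd_qA (i : ℕ) (x : A i) : vqd dA ΓA i (qA ΓA i x) = vq dA ΓA i (dA i x) := rfl

/-- The map from the cohomology of `ΓA`. -/
def kap (i : ℕ) : Hs dA ΓA (i + 1) →ₗ[k] VQ dA ΓA i :=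
  Submodule.mapQ _ _ (Zs dA ΓA (i + 1)).subtype (le_refl _)

theorem kap_toHs (i : ℕ) (z : ↥(Zs dA ΓA (i + 1))) :
    kap dA ΓA i (toHs dA ΓA (i + 1) z) = vq dA ΓA i (z : A (i + 1)) := rfl

theorem kap_injective (i : ℕ) : Function.Injective (kap dA ΓA i) := by
  rw [injective_iff_map_eq_zero]
  intro h hh
  obtain ⟨z, rfl⟩ := toHs_surjective dA ΓA (i + 1) h
  rw [kap_toHs] at hh
  rw [toHs_eq_zero_iff]
  exact (Submodule.Quotient.mk_eq_zero _).mp hh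

variable (hΓA : ∀ i x, x ∈ ΓA i → dA i x ∈ ΓA (i + 1))
  (hdA : ∀ n x, dA (n + 1) (dA n x) = 0)

/-- The map to `A^{i+1} / ΓA^{i+1}`. -/
def vq₁ (i : ℕ) : VQ dA ΓA i →ₗ[k] QA ΓA (i + 1) :=
  ((ΓA i).map (dA i)).liftQ (qA ΓA (i + 1)) (by
    rintro _ ⟨x, hx, rfl⟩
    exact LinearMap.mem_ker.mpr ((qA_eq_zero_iff ΓA).mpr (hΓA i x hx)))

theorem vq₁_vq (i : ℕ) (x : A (i + 1)) : vq₁ dA ΓA hΓA i (vq dA ΓA i x) = qA ΓA (i + 1) x := rfl

/-- The map to `A^{i+2}`. -/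
def vq₂ (i : ℕ) : VQ dA ΓA i →ₗ[k] A (i + 2) :=
  ((ΓA i).map (dA i)).liftQ (dA (i + 1)) (by
    rintro _ ⟨x, _, rfl⟩
    exact LinearMap.mem_ker.mpr (hdA i x))

theorem vq₂_vq (i : ℕ) (x : A (i + 1)) : vq₂ dA ΓA hdA i (vq dA ΓA i x) = dA (i + 1) x := rfl

theorem ker_inf_ker_le_range_kap (i : ℕ) :
    LinearMap.ker (vq₁ dA ΓA hΓA i) ⊓ LinearMap.ker (vq₂ dA ΓA hdA i) ≤
      LinearMap.range (kap dA ΓA i) := by
  rintro v ⟨h1, h2⟩
  obtain ⟨a, rfl⟩ := Submodule.mkQ_surjective _ v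
  have ha1 : a ∈ ΓA (i + 1) := (qA_eq_zero_iff ΓA).mp h1
  have ha2 : dA (i + 1) a = 0 := h2
  exact ⟨toHs dA ΓA (i + 1) ⟨a, (mem_Zs _ _).mpr ⟨ha1, ha2⟩⟩, rfl⟩

variable {B : ℕ → Type u} [∀ n, AddCommGroup (B n)] [∀ n, Module k (B n)]
  (dB : ∀ n, B n →ₗ[k] B (n + 1)) (ΓB : ∀ n, Submodule k (B n))
  (hΓB : ∀ i x, x ∈ ΓB i → dB i x ∈ ΓB (i + 1))
  (hdB : ∀ n x, dB (n + 1) (dB n x) = 0)

/-- The map `A^{i+1} ⊗ B^j → (A^{i+1} / d ΓA^i) ⊗ (B^{j+1} / d ΓB^j)`. -/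
def lam (i j : ℕ) : Tn k A B (i + 1, j) →ₗ[k] VQ dA ΓA i ⊗[k] VQ dB ΓB j :=
  TensorProduct.map (vq dA ΓA i) (vq dB ΓB j ∘ₗ dB j)

theorem lam_tmul (i j : ℕ) (a : A (i + 1)) (b : B j) :
    lam dA ΓA dB ΓB i j (a ⊗ₜ[k] b) = (vq dA ΓA i a) ⊗ₜ[k] (vq dB ΓB j (dB j b)) := rfl

theorem lam_t₁ (i j : ℕ) (x : Tn k A B (i, j)) :
    lam dA ΓA dB ΓB i j (t₁ dA i j x) =
      TensorProduct.map (vqd dA ΓA i) (vqd dB ΓB j) (pT ΓA ΓB (i, j) x) :=
  tensor_ext_apply (lam dA ΓA dB ΓB i j ∘ₗ t₁ dA i j)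
    (TensorProduct.map (vqd dA ΓA i) (vqd dB ΓB j) ∘ₗ pT ΓA ΓB (i, j)) (fun _ _ => rfl) x

include hdB in
theorem lam_t₂ (i j : ℕ) (x : Tn k A B (i + 1, j)) :
    lam dA ΓA dB ΓB i (j + 1) (t₂ dB (i + 1) j x) = 0 :=
  tensor_ext_apply (lam dA ΓA dB ΓB i (j + 1) ∘ₗ t₂ dB (i + 1) j) 0 (fun a b => by
    rw [LinearMap.comp_apply, LinearMap.zero_apply]
    change (vq dA ΓA i a) ⊗ₜ[k] (vq dB ΓB (j + 1) (dB (j + 1) (dB j b))) = 0
    rw [hdB, map_zero, TensorProduct.tmul_zero]) x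

include hdB in
/-- `θ` kills the coboundaries. -/
theorem lam_D_eq_zero (i j : ℕ) (w : Om (Tn k A B)) (hw : ∀ p, pT ΓA ΓB p (w p) = 0) :
    lam dA ΓA dB ΓB i j (D (t₁ dA) (t₂ dB) w (i + 1, j)) = 0 := by
  cases j with
  | zero =>
    rw [D_succ_zero, lam_t₁, hw, map_zero]
  | succ j =>
    rw [D_succ_succ, map_add, lam_t₁, hw, map_zero, zero_add, map_sgn, lam_t₂ dA ΓA dB ΓB hdB,
      sgn_zero]

theorem lam_cond_f₁ (i j : ℕ) (x : Tn k A B (i + 1, j)) :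
    TensorProduct.map (vq₁ dA ΓA hΓA i) LinearMap.id (lam dA ΓA dB ΓB i j x) =
      TensorProduct.map LinearMap.id (vqd dB ΓB j) (pT ΓA ΓB (i + 1, j) x) :=
  tensor_ext_apply (TensorProduct.map (vq₁ dA ΓA hΓA i) LinearMap.id ∘ₗ lam dA ΓA dB ΓB i j)
    (TensorProduct.map LinearMap.id (vqd dB ΓB j) ∘ₗ pT ΓA ΓB (i + 1, j)) (fun _ _ => rfl) x

include hdB in
theorem lam_cond_g₂ (i j : ℕ) (x : Tn k A B (i + 1, j)) :
    TensorProduct.map LinearMap.id (vq₂ dB ΓB hdB j) (lam dA ΓA dB ΓB i j x) = 0 :=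
  tensor_ext_apply (TensorProduct.map LinearMap.id (vq₂ dB ΓB hdB j) ∘ₗ lam dA ΓA dB ΓB i j) 0
    (fun a b => by
      rw [LinearMap.comp_apply, LinearMap.zero_apply]
      change (vq dA ΓA i a) ⊗ₜ[k] (dB (j + 1) (dB j b)) = 0
      rw [hdB, TensorProduct.tmul_zero]) x

theorem lam_cond_f₂ (i j : ℕ) (x : Tn k A B (i + 1, j)) :
    TensorProduct.map (vq₂ dA ΓA hdA i) LinearMap.id (lam dA ΓA dB ΓB i j x) =
      TensorProduct.map (dA (i + 1)) (vq dB ΓB j) (t₂ dB (i + 1) j x) :=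
  tensor_ext_apply (TensorProduct.map (vq₂ dA ΓA hdA i) LinearMap.id ∘ₗ lam dA ΓA dB ΓB i j)
    (TensorProduct.map (dA (i + 1)) (vq dB ΓB j) ∘ₗ t₂ dB (i + 1) j) (fun _ _ => rfl) x

include hdA in
theorem aux_f₂ (i j : ℕ) (y : Tn k A B (i, j + 1)) :
    TensorProduct.map (dA (i + 1)) (vq dB ΓB j) (t₁ dA i (j + 1) y) = 0 :=
  tensor_ext_apply (TensorProduct.map (dA (i + 1)) (vq dB ΓB j) ∘ₗ t₁ dA i (j + 1)) 0
    (fun a b => by
      rw [LinearMap.comp_apply, LinearMap.zero_apply]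
      change (dA (i + 1) (dA i a)) ⊗ₜ[k] (vq dB ΓB j b) = 0
      rw [hdA, TensorProduct.zero_tmul]) y

theorem lam_cond_g₁ (i j : ℕ) (x : Tn k A B (i + 1, j)) :
    TensorProduct.map LinearMap.id (vq₁ dB ΓB hΓB j) (lam dA ΓA dB ΓB i j x) =
      TensorProduct.map (vq dA ΓA i) (qA ΓB (j + 1)) (t₂ dB (i + 1) j x) :=
  tensor_ext_apply (TensorProduct.map LinearMap.id (vq₁ dB ΓB hΓB j) ∘ₗ lam dA ΓA dB ΓB i j)
    (TensorProduct.map (vq dA ΓA i) (qA ΓB (j + 1)) ∘ₗ t₂ dB (i + 1) j) (fun _ _ => rfl) x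

theorem aux_g₁ (i j : ℕ) (y : Tn k A B (i, j + 1)) :
    TensorProduct.map (vq dA ΓA i) (qA ΓB (j + 1)) (t₁ dA i (j + 1) y) =
      TensorProduct.map (vqd dA ΓA i) LinearMap.id (pT ΓA ΓB (i, j + 1) y) :=
  tensor_ext_apply (TensorProduct.map (vq dA ΓA i) (qA ΓB (j + 1)) ∘ₗ t₁ dA i (j + 1))
    (TensorProduct.map (vqd dA ΓA i) LinearMap.id ∘ₗ pT ΓA ΓB (i, j + 1)) (fun _ _ => rfl) y

include hΓA hdA hΓB hdB in
/-- `θ` of a cocycle lies in the tensor product of the cohomologies. -/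
theorem lam_mem_range (i j : ℕ) (w : Om (Tn k A B)) (hU : ∀ p, pT ΓA ΓB p (w p) = 0)
    (hD : D (t₁ dA) (t₂ dB) w (i + 1, j + 1) = 0) :
    lam dA ΓA dB ΓB i j (w (i + 1, j)) ∈
      LinearMap.range (TensorProduct.map (kap dA ΓA i) (kap dB ΓB j)) := by
  rw [D_succ_succ] at hD
  have e : t₂ dB (i + 1) j (w (i + 1, j)) = - sgn (i + 1) (t₁ dA i (j + 1) (w (i, j + 1))) := by
    have h1 : sgn (i + 1) (t₂ dB (i + 1) j (w (i + 1, j))) = - t₁ dA i (j + 1) (w (i, j + 1)) :=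
      eq_neg_of_add_eq_zero_right hD
    have h2 := congrArg (sgn (i + 1)) h1
    rw [sgn_sgn, sgn_neg] at h2
    exact h2
  have c1 := lam_cond_f₁ dA ΓA hΓA dB ΓB i j (w (i + 1, j))
  rw [hU, map_zero] at c1
  have c2 := lam_cond_g₂ dA ΓA dB ΓB hdB i j (w (i + 1, j))
  have c3 := lam_cond_f₂ dA ΓA hdA dB ΓB i j (w (i + 1, j))
  rw [e, map_neg, map_sgn, aux_f₂ dA hdA dB ΓB, sgn_zero, neg_zero] at c3
  have c4 := lam_cond_g₁ dA ΓA dB ΓB hΓB i j (w (i + 1, j))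
  rw [e, map_neg, map_sgn, aux_g₁, hU, map_zero, sgn_zero, neg_zero] at c4
  obtain ⟨y, hy⟩ := mem_range_map_ker₂ (vq₁ dA ΓA hΓA i) (vq₂ dA ΓA hdA i) (vq₁ dB ΓB hΓB j)
    (vq₂ dB ΓB hdB j) _ c1 c3 c4 c2
  rw [← hy]
  clear hy
  induction y using TensorProduct.induction_on with
  | zero => rw [map_zero]; exact zero_mem _
  | tmul v v' =>
    obtain ⟨h, hh⟩ := ker_inf_ker_le_range_kap dA ΓA hΓA hdA i v.2
    obtain ⟨h', hh'⟩ := ker_inf_ker_le_range_kap dB ΓB hΓB hdB j v'.2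
    refine ⟨h ⊗ₜ[k] h', ?_⟩
    rw [TensorProduct.map_tmul, TensorProduct.map_tmul, hh, hh']
    rfl
  | add x y hx hy => rw [map_add]; exact add_mem hx hy

include hdA hdB in
/-- `θ` reaches the pure tensors. -/
theorem exists_lam_eq (i j : ℕ) (a : ↥(Zs dA ΓA (i + 1))) (a' : A i)
    (ha : dA i a' = (a : A (i + 1))) (b : ↥(Zs dB ΓB (j + 1))) (b' : B j)
    (hb : dB j b' = (b : B (j + 1))) :
    ∃ w : Om (Tn k A B), w ∈ Xn k (Tn k A B) (i + j + 1) ∧ (∀ p, pT ΓA ΓB p (w p) = 0) ∧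
      D (t₁ dA) (t₂ dB) w = 0 ∧
      lam dA ΓA dB ΓB i j (w (i + 1, j)) =
        (vq dA ΓA i (a : A (i + 1))) ⊗ₜ[k] (vq dB ΓB j (b : B (j + 1))) := by
  have hw : D (t₁ dA) (t₂ dB) (Pi.single (i, j) (a' ⊗ₜ[k] b') : Om (Tn k A B)) =
      Pi.single (i + 1, j) (((a : A (i + 1)) ⊗ₜ[k] b' : A (i + 1) ⊗[k] B j)) +
        Pi.single (i, j + 1) (sgn i ((a' ⊗ₜ[k] (b : B (j + 1)) : A i ⊗[k] B (j + 1)))) := by
    rw [D_single]
    have e1 : t₁ dA i j (a' ⊗ₜ[k] b') = ((a : A (i + 1)) ⊗ₜ[k] b' : A (i + 1) ⊗[k] B j) := by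
      change (dA i a') ⊗ₜ[k] b' = _
      rw [ha]
    have e2 : t₂ dB i j (a' ⊗ₜ[k] b') = (a' ⊗ₜ[k] (b : B (j + 1)) : A i ⊗[k] B (j + 1)) := by
      change a' ⊗ₜ[k] (dB j b') = _
      rw [hb]
    rw [e1, e2]
  have haΓ : qA ΓA (i + 1) (a : A (i + 1)) = 0 :=
    (qA_eq_zero_iff ΓA).mpr ((mem_Zs _ _).mp a.2).1
  have hbΓ : qA ΓB (j + 1) (b : B (j + 1)) = 0 :=
    (qA_eq_zero_iff ΓB).mpr ((mem_Zs _ _).mp b.2).1
  refine ⟨D (t₁ dA) (t₂ dB) (Pi.single (i, j) (a' ⊗ₜ[k] b')), ?_, ?_, ?_, ?_⟩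
  · exact D_mem_Xn _ _ (single_mem_Xn i j _)
  · intro p
    rw [hw, Pi.add_apply, map_add]
    have h1 : pT ΓA ΓB p ((Pi.single (i + 1, j)
        (((a : A (i + 1)) ⊗ₜ[k] b' : A (i + 1) ⊗[k] B j)) : Om (Tn k A B)) p) = 0 := by
      by_cases h : p = (i + 1, j)
      · subst h
        rw [Pi.single_eq_same]
        change (qA ΓA (i + 1) (a : A (i + 1))) ⊗ₜ[k] (qA ΓB j b') = 0
        rw [haΓ, TensorProduct.zero_tmul]
      · rw [Pi.single_eq_of_ne h, map_zero]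
    have h2 : pT ΓA ΓB p ((Pi.single (i, j + 1)
        (sgn i ((a' ⊗ₜ[k] (b : B (j + 1)) : A i ⊗[k] B (j + 1)))) : Om (Tn k A B)) p) = 0 := by
      by_cases h : p = (i, j + 1)
      · subst h
        rw [Pi.single_eq_same, map_sgn]
        change sgn i ((qA ΓA i a') ⊗ₜ[k] (qA ΓB (j + 1) (b : B (j + 1)))) = 0
        rw [hbΓ, TensorProduct.tmul_zero, sgn_zero]
      · rw [Pi.single_eq_of_ne h, map_zero]
    rw [h1, h2, add_zero]
  · exact DT_DT dA dB hdA hdB _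
  · rw [hw, Pi.add_apply, Pi.single_eq_same, Pi.single_eq_of_ne (by simp), add_zero, lam_tmul, hb]

end Theta

end Groth.Agent.Lib.T2H3.Kun
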