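import Groth.Agent.Lib.T2H3KunP
import Groth.Agent.Lib.T2H3KunZG

/-! Künneth formula for Segre products (helper3), part ZH: the natural map from the top local
cohomology `H^{i+j+1}_{T_+}(M # N)` to `(E^{i+1} / d Γ E^i) ⊗ (F^{j+1} / d Γ F^j)`, compatible
with the action of `T` through `ψ`. -/

set_option autoImplicit false
set_option linter.unusedSectionVars false
set_option linter.style.haveILetI false
open DirectSum
open scoped TensorProduct

noncomputable section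

namespace Groth.Agent.Lib.T2H3.Kun

open Groth.Agent.Lib.T2H3.GrTr Groth.Agent.Lib Groth.Agent.Lib.LeadSP
  Groth.Agent.Lib.Helper29LCAcyclic GrLC Groth.Agent.Lib.Helper29GrHom
  Groth.Agent.Lib.Helper29GrGam Groth.Agent.Lib.T2H3.GrLes Groth.Agent.Lib.T2H3.Seg

universe u

variable {k : Type u} [Field k] {R S T : Type u} [CommRing R] [CommRing S] [CommRing T]
  [Algebra k R] [Algebra k S] [Algebra k T]
  {𝒜 : ℤ → Submodule k R} [GradedAlgebra 𝒜] {ℬ : ℤ → Submodule k S} [GradedAlgebra ℬ]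
  {𝒯 : ℤ → Submodule k T} [GradedAlgebra 𝒯] {ψ : T →ₐ[k] R ⊗[k] S}
  [IsNoetherianRing R] [IsNoetherianRing S] [IsNoetherianRing T]
variable {M : Type u} [AddCommGroup M] [Module R M] [Module k M] [IsScalarTower k R M]
  {ℳ : ℤ → AddSubgroup M} [DirectSum.Decomposition ℳ] [SetLike.GradedSMul 𝒜 ℳ]
variable {N : Type u} [AddCommGroup N] [Module S N] [Module k N] [IsScalarTower k S N]
  {𝒩 : ℤ → AddSubgroup N} [DirectSum.Decomposition 𝒩] [SetLike.GradedSMul ℬ 𝒩]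
variable {P : Type u} [AddCommGroup P] [Module T P] [Module k P] [IsScalarTower k T P]
  {𝒬 : ℤ → AddSubgroup P} [DirectSum.Decomposition 𝒬] [SetLike.GradedSMul 𝒯 𝒬]

section XQ

variable (EM : StarInjRes 𝒜 ℳ) [∀ n, Module k (EM.X n).carrier]
  [∀ n, IsScalarTower k R (EM.X n).carrier] (mR : HomogeneousIdeal 𝒜)

/-- `E^{i+1} / d Γ E^i`. -/
abbrev XQ (i : ℕ) : Type u := (EM.X (i + 1)).carrier ⧸ EM.cobdy mR (i + 1)

/-- The quotient map. -/
abbrev xq (i : ℕ) : (EM.X (i + 1)).carrier →ₗ[R] XQ EM mR i := (EM.cobdy mR (i + 1)).mkQ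

theorem xq_d (i : ℕ) (x : (EM.X i).carrier) (hx : x ∈ gam mR.toIdeal (EM.X i).carrier) :
    xq EM mR i (EM.d i x) = 0 :=
  (Submodule.Quotient.mk_eq_zero _).mpr ⟨x, hx, rfl⟩

/-- The inclusion of the local cohomology. -/
def iH (i : ℕ) : EM.H mR (i + 1) →ₗ[R] XQ EM mR i :=
  Submodule.mapQ _ _ (EM.cocyc mR (i + 1)).subtype (le_refl _)

theorem iH_toH (i : ℕ) (z : ↥(EM.cocyc mR (i + 1))) :
    iH EM mR i (EM.toH mR (i + 1) z) = xq EM mR i (z : (EM.X (i + 1)).carrier) := rfl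

theorem iH_injective (i : ℕ) : Function.Injective (iH EM mR i) := by
  rw [injective_iff_map_eq_zero]
  intro h hh
  obtain ⟨z, rfl⟩ := Submodule.mkQ_surjective _ h
  have h1 : xq EM mR i (z : (EM.X (i + 1)).carrier) = 0 := hh
  have h2 : (z : (EM.X (i + 1)).carrier) ∈ EM.cobdy mR (i + 1) :=
    (Submodule.Quotient.mk_eq_zero _).mp h1
  exact (Submodule.Quotient.mk_eq_zero _).mpr h2

/-- The strand-level quotient into the global one. -/
def incQ (d : ℤ) (i : ℕ) : VQ (dAd EM d) (ΓAd EM mR d) i →ₗ[k] XQ EM mR i :=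
  Submodule.liftQ _ ((xq EM mR i).restrictScalars k ∘ₗ (pcK 𝒜 (EM.X (i + 1)).gr d).subtype) (by
    rintro _ ⟨x, hx, rfl⟩
    exact LinearMap.mem_ker.mpr (xq_d EM mR i (x : (EM.X i).carrier) hx))

theorem incQ_vq (d : ℤ) (i : ℕ) (a : Ad EM d (i + 1)) :
    incQ EM mR d i (vq (dAd EM d) (ΓAd EM mR d) i a) =
      xq EM mR i (a : (EM.X (i + 1)).carrier) := rfl

/-- The image of a strand-level cohomology class is the class of a homogeneous cocycle. -/
theorem incQ_kap (d : ℤ) (i : ℕ) (h : Hs (dAd EM d) (ΓAd EM mR d) (i + 1)) :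
    ∃ a ∈ EM.Hgr mR (i + 1) d, incQ EM mR d i (kap (dAd EM d) (ΓAd EM mR d) i h) =
      iH EM mR i a := by
  obtain ⟨z, rfl⟩ := toHs_surjective _ _ _ h
  refine ⟨EM.toH mR (i + 1) ⟨((z : Ad EM d (i + 1)) : (EM.X (i + 1)).carrier),
    coe_mem_cocyc EM mR d z⟩, ⟨⟨((z : Ad EM d (i + 1)) : (EM.X (i + 1)).carrier),
      coe_mem_cocyc EM mR d z⟩, (show ((z : Ad EM d (i + 1)) : (EM.X (i + 1)).carrier) ∈
        (EM.X (i + 1)).gr d from (z : Ad EM d (i + 1)).2), rfl⟩, ?_⟩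
  rw [kap_toHs, incQ_vq, iH_toH]

end XQ

variable {EM : StarInjRes 𝒜 ℳ} [∀ n, Module k (EM.X n).carrier]
  [∀ n, IsScalarTower k R (EM.X n).carrier]
variable {EN : StarInjRes ℬ 𝒩} [∀ n, Module k (EN.X n).carrier]
  [∀ n, IsScalarTower k S (EN.X n).carrier]
variable {φ : P →ₗ[k] M ⊗[k] N} {mR : HomogeneousIdeal 𝒜} {mS : HomogeneousIdeal ℬ}
  {mT : HomogeneousIdeal 𝒯} {δ : ℤ}

section LamG

variable (EM EN mR mS) (i j : ℕ)

/-- The map `E^{i+1} ⊗ F^j → (E^{i+1} / d Γ E^i) ⊗ (F^{j+1} / d Γ F^j)`. -/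
def LamG : (EM.X (i + 1)).carrier ⊗[k] (EN.X j).carrier →ₗ[k] XQ EM mR i ⊗[k] XQ EN mS j :=
  TensorProduct.map ((xq EM mR i).restrictScalars k)
    ((xq EN mS j ∘ₗ EN.d j).restrictScalars k)

theorem LamG_act (u : R ⊗[k] S) (w : (EM.X (i + 1)).carrier ⊗[k] (EN.X j).carrier) :
    LamG EM EN mR mS i j (GrSeg.act k R S _ _ u w) =
      GrSeg.act k R S _ _ u (LamG EM EN mR mS i j w) :=
  map_act (xq EM mR i) (xq EN mS j ∘ₗ EN.d j) u w

theorem LamG_ιι (d : ℤ) (x : Tn k (Ad EM d) (Ad EN d) (i + 1, j)) :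
    LamG EM EN mR mS i j (K2Setup.ιι EM EN d (i + 1, j) x) =
      TensorProduct.map (incQ EM mR d i) (incQ EN mS d j)
        (lam (dAd EM d) (ΓAd EM mR d) (dAd EN d) (ΓAd EN mS d) i j x) :=
  tensor_ext_apply (LamG EM EN mR mS i j ∘ₗ K2Setup.ιι EM EN d (i + 1, j))
    (TensorProduct.map (incQ EM mR d i) (incQ EN mS d j) ∘ₗ
      lam (dAd EM d) (ΓAd EM mR d) (dAd EN d) (ΓAd EN mS d) i j) (fun _ _ => rfl) x

end LamG

namespace K2Setup

variable (K : K2Setup (ψ := ψ) (𝒬 := 𝒬) EM EN φ mR mS mT δ) (i j : ℕ)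

/-- The map from the total complex. -/
def ThX : Om K.W →ₗ[k] XQ EM mR i ⊗[k] XQ EN mS j :=
  LamG EM EN mR mS i j ∘ₗ K.sv (i + 1, j) ∘ₗ
    (LinearMap.proj (i + 1, j) : Om K.W →ₗ[k] K.W (i + 1, j))

theorem ThX_apply (x : Om K.W) :
    K.ThX i j x = LamG EM EN mR mS i j (K.sv (i + 1, j) (x (i + 1, j))) := rfl

theorem ThX_smul (t : T) (x : Om K.W) :
    K.ThX i j (t • x) = GrSeg.act k R S _ _ (ψ t) (K.ThX i j x) := by
  rw [ThX_apply, ThX_apply, Pi.smul_apply]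
  have h : K.sv (i + 1, j) (t • x (i + 1, j)) =
      GrSeg.act k R S _ _ (ψ t) (K.sv (i + 1, j) (x (i + 1, j))) :=
    sval_smul (EM.X (i + 1)).gr (EN.X j).gr K.hT t (x (i + 1, j))
  rw [h, LamG_act]

theorem LamG_sv_d₁ (w : K.W (i, j)) (hw : w ∈ gam mT.toIdeal (K.W (i, j))) :
    LamG EM EN mR mS i j (K.sv (i + 1, j) (K.d₁ i j w)) = 0 := by
  rw [sv_d₁]
  have h := map_sval_eq_zero_of_mem_gam K.hT (K.GA i) (K.GB j) mT K.hmT K.hδ
    ((xq EM mR i ∘ₗ EM.d i).restrictScalars k) ((xq EN mS j ∘ₗ EN.d j).restrictScalars k)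
    (fun a ha => xq_d EM mR i a ha) (fun b hb => xq_d EN mS j b hb) w hw
  rw [← h]
  unfold LamG
  rw [← LinearMap.comp_apply, ← TensorProduct.map_comp]
  rfl

theorem LamG_sv_d₂ (w : K.W (i + 1, j)) :
    LamG EM EN mR mS i (j + 1) (K.sv (i + 1, j + 1) (K.d₂ (i + 1) j w)) = 0 := by
  rw [sv_d₂]
  unfold LamG
  rw [← LinearMap.comp_apply, ← TensorProduct.map_comp]
  have h : ((xq EN mS (j + 1) ∘ₗ EN.d (j + 1)).restrictScalars k) ∘ₗ
      ((EN.d j).restrictScalars k) = 0 :=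
    LinearMap.ext fun b => by
      change xq EN mS (j + 1) (EN.d (j + 1) (EN.d j b)) = 0
      rw [EM_d_d EN j b, map_zero]
  rw [h, TensorProduct.map_zero_right, LinearMap.zero_apply]

/-- The map kills the coboundaries of torsion elements. -/
theorem ThX_D (v : Om K.W) (hv : ∀ p, v p ∈ gam mT.toIdeal (K.W p)) :
    K.ThX i j (D K.d₁ K.d₂ v) = 0 := by
  rw [ThX_apply]
  cases j with
  | zero =>
    rw [D_succ_zero]
    exact K.LamG_sv_d₁ i 0 _ (hv _)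
  | succ j =>
    rw [D_succ_succ, map_add, map_add, map_sgn, map_sgn, K.LamG_sv_d₁ i (j + 1) _ (hv _),
      K.LamG_sv_d₂ i j, sgn_zero, add_zero]

section Descent

variable (EP : StarInjRes 𝒯 𝒬) [∀ n, Module k (EP.X n).carrier]
  [∀ n, IsScalarTower k T (EP.X n).carrier]

include K in
/-- The natural map from the local cohomology of the Segre product. -/
theorem exists_ThH :
    ∃ Θ : EP.H mT (i + j + 1) →ₗ[k] XQ EM mR i ⊗[k] XQ EN mS j,
      (∀ (t : T) (h : EP.H mT (i + j + 1)), Θ (t • h) = GrSeg.act k R S _ _ (ψ t) (Θ h)) ∧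
      (∀ (d : ℤ) (h : EP.H mT (i + j + 1)), h ∈ EP.Hgr mT (i + j + 1) d →
        ∃ y ∈ GrSeg.segrePiece k (EM.Hgr mR (i + 1)) (EN.Hgr mS (j + 1)) d,
          Θ h = TensorProduct.map ((iH EM mR i).restrictScalars k)
            ((iH EN mS j).restrictScalars k) y) ∧
      (∀ (d : ℤ) (a : EM.H mR (i + 1)) (b : EN.H mS (j + 1)), a ∈ EM.Hgr mR (i + 1) d →
        b ∈ EN.Hgr mS (j + 1) d → ∃ h ∈ EP.Hgr mT (i + j + 1) d,
          Θ h = (iH EM mR i a) ⊗ₜ[k] (iH EN mS j b)) := by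
  classical
  obtain ⟨θ, hθgr, hθ0, hθ⟩ := AR.exists_theta (EP := EP) K.toAR
  -- the map on cocycles
  let toOm : ∀ q, K.toAR.X q → Om K.W := fun q x => (show XC T K.W q from x).1
  let F : ↥(K.toAR.ZX (i + j + 1)) → XQ EM mR i ⊗[k] XQ EN mS j := fun z =>
    K.ThX i j (toOm _ z.1)
  have hFadd : ∀ z z', F (z + z') = F z + F z' := fun z z' =>
    map_add (K.ThX i j) (toOm _ z.1) (toOm _ z'.1)
  have hFsub : ∀ z z', F (z - z') = F z - F z' := fun z z' =>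
    map_sub (K.ThX i j) (toOm _ z.1) (toOm _ z'.1)
  have hFsmul : ∀ (t : T) z, F (t • z) = GrSeg.act k R S _ _ (ψ t) (F z) := fun t z =>
    K.ThX_smul i j t (toOm _ z.1)
  have hFcob : ∀ z : ↥(K.toAR.ZX (i + j + 1)),
      (z : K.toAR.X (i + j + 1)) ∈ K.toAR.cobX (i + j + 1) → F z = 0 := by
    rintro ⟨z, hz⟩ ⟨v, hv, hvz⟩
    change K.ThX i j (toOm _ z) = 0
    have hvz' : K.toAR.dX (i + j) v = z := hvz
    have e : toOm _ z = D K.d₁ K.d₂ (toOm _ v) := by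
      rw [← hvz']
      rfl
    rw [e]
    exact K.ThX_D i j _ ((mem_gam_XC_iff mT.toIdeal (show XC T K.W (i + j) from v)).mp hv)
  have hFeq : ∀ z z', K.toAR.c1 θ hθ (i + j + 1) z = K.toAR.c1 θ hθ (i + j + 1) z' →
      F z = F z' := by
    intro z z' h
    have h1 : K.toAR.c1 θ hθ (i + j + 1) (z - z') = 0 := by rw [map_sub, h, sub_self]
    have h2 : F (z - z') = 0 :=
      hFcob (z - z') ((K.toAR.c1_eq_zero_iff θ hθ0 hθ (i + j + 1) (z - z')).mp h1)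
    rw [hFsub, sub_eq_zero] at h2
    exact h2
  have hsurj := K.toAR.c1_surjective θ hθ0 hθ (i + j + 1)
  let G : EP.H mT (i + j + 1) → XQ EM mR i ⊗[k] XQ EN mS j := fun h =>
    F (Classical.choose (hsurj h))
  have hG : ∀ z, G (K.toAR.c1 θ hθ (i + j + 1) z) = F z := fun z =>
    hFeq _ _ (Classical.choose_spec (hsurj (K.toAR.c1 θ hθ (i + j + 1) z)))
  have hGadd : ∀ h h', G (h + h') = G h + G h' := by
    intro h h'
    obtain ⟨z, rfl⟩ := hsurj h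
    obtain ⟨z', rfl⟩ := hsurj h'
    rw [← map_add, hG, hG, hG, hFadd]
  have hGsmul : ∀ (t : T) h, G (t • h) = GrSeg.act k R S _ _ (ψ t) (G h) := by
    intro t h
    obtain ⟨z, rfl⟩ := hsurj h
    rw [← map_smul, hG, hG, hFsmul]
  let Θ : EP.H mT (i + j + 1) →ₗ[k] XQ EM mR i ⊗[k] XQ EN mS j :=
    { toFun := G
      map_add' := hGadd
      map_smul' := by
        intro c h
        have e1 : c • h = (algebraMap k T c) • h := (algebraMap_smul T c h).symm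
        rw [e1, hGsmul, RingHom.id_apply]
        have e2 : ψ (algebraMap k T c) = c • (1 : R ⊗[k] S) := by
          rw [AlgHom.commutes, Algebra.algebraMap_eq_smul_one]
        rw [e2, map_smul, LinearMap.smul_apply]
        congr 1
        have e3 : GrSeg.act k R S (XQ EM mR i) (XQ EN mS j) (1 : R ⊗[k] S) = 1 :=
          act_one (XQ EM mR i) (XQ EN mS j)
        rw [e3]
        rfl }
  have hΘ : ∀ z, Θ (K.toAR.c1 θ hθ (i + j + 1) z) = F z := hG
  -- the value on the class of a cocycle of the strand of degree `d`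
  have hcls : ∀ (d : ℤ)
      (w : ↥(Zs (DD (EM := EM) (EN := EN) d) (UU (mR := mR) (mS := mS) d) (i + j + 1))),
      Θ ((K.cls EP d θ hθgr hθ (i + j + 1) w : EP.Hcomp mT (i + j + 1) d) :
          EP.H mT (i + j + 1)) =
        TensorProduct.map (incQ EM mR d i) (incQ EN mS d j)
          (lam (dAd EM d) (ΓAd EM mR d) (dAd EN d) (ΓAd EN mS d) i j
            (((w : XC k (Tn k (Ad EM d) (Ad EN d)) (i + j + 1)) :
              Om (Tn k (Ad EM d) (Ad EN d))) (i + 1, j))) := by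
    intro d w
    rw [coe_cls, hΘ, ← LamG_ιι]
    rfl
  refine ⟨Θ, hGsmul, ?_, ?_⟩
  · intro d h hh
    obtain ⟨w, hw⟩ := K.cls_surjective EP d θ hθgr hθ0 hθ (i + j + 1) ⟨h, hh⟩
    have e : h = ((K.cls EP d θ hθgr hθ (i + j + 1) w : EP.Hcomp mT (i + j + 1) d) :
        EP.H mT (i + j + 1)) := by rw [hw]
    rw [e, hcls]
    have hw2 := (mem_Zs _ _).mp w.2
    have hU : ∀ p, pT (ΓAd EM mR d) (ΓAd EN mS d) p
        (((w : XC k (Tn k (Ad EM d) (Ad EN d)) (i + j + 1)) :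
          Om (Tn k (Ad EM d) (Ad EN d))) p) = 0 := by
      intro p
      have h1 := congrFun (congrArg Subtype.val (LinearMap.mem_ker.mp hw2.1)) p
      rw [coe_pn] at h1
      exact h1
    have hD : D (t₁ (dAd EM d)) (t₂ (dAd EN d))
        ((w : XC k (Tn k (Ad EM d) (Ad EN d)) (i + j + 1)) :
          Om (Tn k (Ad EM d) (Ad EN d))) (i + 1, j + 1) = 0 := by
      have h1 := congrFun (congrArg Subtype.val hw2.2) (i + 1, j + 1)
      rw [coe_Dn] at h1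
      exact h1
    obtain ⟨y₀, hy₀⟩ := lam_mem_range (dAd EM d) (ΓAd EM mR d) (ΓAd_stable EM mR d)
      (dAd_dAd EM d) (dAd EN d) (ΓAd EN mS d) (ΓAd_stable EN mS d) (dAd_dAd EN d) i j _ hU hD
    rw [← hy₀]
    clear hy₀ e hw
    induction y₀ using TensorProduct.induction_on with
    | zero => exact ⟨0, zero_mem _, by rw [map_zero, map_zero, map_zero]⟩
    | tmul h₁ h₂ =>
      obtain ⟨a, ha, hae⟩ := incQ_kap EM mR d i h₁
      obtain ⟨b, hb, hbe⟩ := incQ_kap EN mS d j h₂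
      refine ⟨a ⊗ₜ[k] b, Submodule.subset_span ⟨a, ha, b, hb, rfl⟩, ?_⟩
      rw [TensorProduct.map_tmul, TensorProduct.map_tmul, hae, hbe]
      rfl
    | add x y hx hy =>
      obtain ⟨y₁, hy₁, e₁⟩ := hx
      obtain ⟨y₂, hy₂, e₂⟩ := hy
      exact ⟨y₁ + y₂, add_mem hy₁ hy₂, by rw [map_add, map_add, e₁, e₂, map_add]⟩
  · rintro d a b ⟨zR, hzR, rfl⟩ ⟨zS, hzS, rfl⟩
    -- the cocycles of the strands
    have hzR2 := Submodule.mem_inf.mp zR.2
    have hzS2 := Submodule.mem_inf.mp zS.2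
    let a₀ : Ad EM d (i + 1) := ⟨(zR : (EM.X (i + 1)).carrier), hzR⟩
    let b₀ : Ad EN d (j + 1) := ⟨(zS : (EN.X (j + 1)).carrier), hzS⟩
    have ha₀d : dAd EM d (i + 1) a₀ = 0 :=
      Subtype.ext (LinearMap.mem_ker.mp hzR2.2)
    have hb₀d : dAd EN d (j + 1) b₀ = 0 :=
      Subtype.ext (LinearMap.mem_ker.mp hzS2.2)
    have ha₀ : a₀ ∈ Zs (dAd EM d) (ΓAd EM mR d) (i + 1) :=
      (mem_Zs _ _).mpr ⟨hzR2.1, ha₀d⟩
    have hb₀ : b₀ ∈ Zs (dAd EN d) (ΓAd EN mS d) (j + 1) :=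
      (mem_Zs _ _).mpr ⟨hzS2.1, hb₀d⟩
    obtain ⟨a', ha'⟩ : a₀ ∈ LinearMap.range (dAd EM d i) := by
      rw [← exAd EM d i]
      exact LinearMap.mem_ker.mpr ha₀d
    obtain ⟨b', hb'⟩ : b₀ ∈ LinearMap.range (dAd EN d j) := by
      rw [← exAd EN d j]
      exact LinearMap.mem_ker.mpr hb₀d
    obtain ⟨w, hwX, hwU, hwD, hwl⟩ := exists_lam_eq (dAd EM d) (ΓAd EM mR d) (dAd_dAd EM d)
      (dAd EN d) (ΓAd EN mS d) (dAd_dAd EN d) i j ⟨a₀, ha₀⟩ a' ha' ⟨b₀, hb₀⟩ b' hb'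
    let wX : XC k (Tn k (Ad EM d) (Ad EN d)) (i + j + 1) := ⟨w, hwX⟩
    have hwUU : wX ∈ UU (EM := EM) (EN := EN) (mR := mR) (mS := mS) d (i + j + 1) := by
      apply LinearMap.mem_ker.mpr
      apply Subtype.ext
      funext p
      rw [coe_pn]
      exact hwU p
    have hwDD : DD (EM := EM) (EN := EN) d (i + j + 1) wX = 0 := by
      apply Subtype.ext
      rw [coe_Dn]
      exact hwD
    let wz : ↥(Zs (DD (EM := EM) (EN := EN) d) (UU (mR := mR) (mS := mS) d) (i + j + 1)) :=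
      ⟨wX, (mem_Zs _ _).mpr ⟨hwUU, hwDD⟩⟩
    refine ⟨((K.cls EP d θ hθgr hθ (i + j + 1) wz : EP.Hcomp mT (i + j + 1) d) :
      EP.H mT (i + j + 1)), (K.cls EP d θ hθgr hθ (i + j + 1) wz).2, ?_⟩
    rw [hcls]
    change TensorProduct.map (incQ EM mR d i) (incQ EN mS d j)
      (lam (dAd EM d) (ΓAd EM mR d) (dAd EN d) (ΓAd EN mS d) i j (w (i + 1, j))) = _
    rw [hwl, TensorProduct.map_tmul, incQ_vq, incQ_vq]
    rfl

end Descent

end K2Setup

end Groth.Agent.Lib.T2H3.Kun
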