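import Groth.Agent.Lib.T2H3KunZH
import Mathlib.LinearAlgebra.FiniteDimensional.Lemmas
import Mathlib.LinearAlgebra.Dimension.Constructions

/-! Künneth formula for Segre products (helper3), part ZI: the top local cohomology of a Segre
product is, as a graded module over `T = R # S`, the Segre product of the top local cohomologies
(abstract form, from the natural map of part ZH and the equality of the dimensions of the
pieces). -/

set_option autoImplicit false
set_option linter.unusedSectionVars false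
set_option linter.style.haveILetI false
open DirectSum
open scoped TensorProduct

noncomputable section

namespace Groth.Agent.Lib.T2H3.Kun

open Groth.Agent.Lib.T2H3.GrTr Groth.Agent.Lib Groth.Agent.Lib.LeadSP
  Groth.Agent.Lib.Helper29LCAcyclic GrLC Groth.Agent.Lib.Helper29GrHom
  Groth.Agent.Lib.Helper29GrGam Groth.Agent.Lib.T2H3.GrLes Groth.Agent.Lib.T2H3.Seg

universe u

section Piece

variable {k : Type u} [Field k] {R S : Type u} [CommRing R] [CommRing S] [Algebra k R]
  [Algebra k S] (𝒜 : ℤ → Submodule k R) [GradedAlgebra 𝒜] (ℬ : ℤ → Submodule k S)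
  [GradedAlgebra ℬ]
variable {A : Type u} [AddCommGroup A] [Module R A] [Module k A] [IsScalarTower k R A]
  (𝓐 : ℤ → AddSubgroup A) [DirectSum.Decomposition 𝓐] [SetLike.GradedSMul 𝒜 𝓐]
variable {B : Type u} [AddCommGroup B] [Module S B] [Module k B] [IsScalarTower k S B]
  (𝓑 : ℤ → AddSubgroup B) [DirectSum.Decomposition 𝓑] [SetLike.GradedSMul ℬ 𝓑]

/-- The piece of a Segre product is the image of the tensor product of the pieces. -/
theorem segrePiece_eq_range (d : ℤ) : GrSeg.segrePiece k 𝓐 𝓑 d =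
    LinearMap.range (TensorProduct.map (pcK 𝒜 𝓐 d).subtype (pcK ℬ 𝓑 d).subtype) := by
  apply le_antisymm
  · apply Submodule.span_le.mpr
    rintro _ ⟨a, ha, b, hb, rfl⟩
    exact ⟨(⟨a, ha⟩ : ↥(pcK 𝒜 𝓐 d)) ⊗ₜ[k] (⟨b, hb⟩ : ↥(pcK ℬ 𝓑 d)), rfl⟩
  · rintro _ ⟨y, rfl⟩
    induction y using TensorProduct.induction_on with
    | zero => rw [map_zero]; exact zero_mem _
    | tmul a b => exact Submodule.subset_span ⟨a, a.2, b, b.2, rfl⟩
    | add x y hx hy => rw [map_add]; exact add_mem hx hy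

/-- The dimension of a piece of a Segre product. -/
theorem finrank_segrePiece (d : ℤ) :
    Module.finrank k (GrSeg.segrePiece k 𝓐 𝓑 d) =
      Module.finrank k (pcK 𝒜 𝓐 d) * Module.finrank k (pcK ℬ 𝓑 d) := by
  rw [segrePiece_eq_range 𝒜 ℬ 𝓐 𝓑 d, LinearMap.finrank_range_of_inj
    (TensorProduct.map_injective_of_flat_flat _ _ (Submodule.injective_subtype _)
      (Submodule.injective_subtype _)), Module.finrank_tensorProduct]

end Piece

variable {k : Type u} [Field k] {R S T : Type u} [CommRing R] [CommRing S] [CommRing T]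
  [Algebra k R] [Algebra k S] [Algebra k T]
  {𝒜 : ℤ → Submodule k R} [GradedAlgebra 𝒜] {ℬ : ℤ → Submodule k S} [GradedAlgebra ℬ]
  {𝒯 : ℤ → Submodule k T} [GradedAlgebra 𝒯] {ψ : T →ₐ[k] R ⊗[k] S}
  [IsNoetherianRing R] [IsNoetherianRing S] [IsNoetherianRing T]
variable {M : Type u} [AddCommGroup M] [Module R M] [Module k M] [IsScalarTower k R M]
  {ℳ : ℤ → AddSubgroup M} [DirectSum.Decomposition ℳ] [SetLike.GradedSMul 𝒜 ℳ]
variable {N : Type u} [AddCommGroup N] [Module S N] [Module k N] [IsScalarTower k S N]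
  {𝒩 : ℤ → AddSubgroup N} [DirectSum.Decomposition 𝒩] [SetLike.GradedSMul ℬ 𝒩]
variable {P : Type u} [AddCommGroup P] [Module T P] [Module k P] [IsScalarTower k T P]
  {𝒬 : ℤ → AddSubgroup P} [DirectSum.Decomposition 𝒬] [SetLike.GradedSMul 𝒯 𝒬]
variable {EM : StarInjRes 𝒜 ℳ} [∀ n, Module k (EM.X n).carrier]
  [∀ n, IsScalarTower k R (EM.X n).carrier]
variable {EN : StarInjRes ℬ 𝒩} [∀ n, Module k (EN.X n).carrier]
  [∀ n, IsScalarTower k S (EN.X n).carrier]
variable {φ : P →ₗ[k] M ⊗[k] N} {mR : HomogeneousIdeal 𝒜} {mS : HomogeneousIdeal ℬ}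
  {mT : HomogeneousIdeal 𝒯} {δ : ℤ}

namespace K2Setup

variable (K : K2Setup (ψ := ψ) (𝒬 := 𝒬) EM EN φ mR mS mT δ) (i j : ℕ)
variable (EP : StarInjRes 𝒯 𝒬) [∀ n, Module k (EP.X n).carrier]
  [∀ n, IsScalarTower k T (EP.X n).carrier]
variable [DirectSum.Decomposition (EM.Hgr mR (i + 1))] [SetLike.GradedSMul 𝒜 (EM.Hgr mR (i + 1))]
  [DirectSum.Decomposition (EN.Hgr mS (j + 1))] [SetLike.GradedSMul ℬ (EN.Hgr mS (j + 1))]
  [DirectSum.Decomposition (EP.Hgr mT (i + j + 1))]
  [SetLike.GradedSMul 𝒯 (EP.Hgr mT (i + j + 1))]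

include K in
/-- The top local cohomology of a Segre product is the Segre product of the top local
cohomologies, as a graded module over the Segre product of the rings. -/
theorem exists_isSegreMod_top
    (hfin : ∀ d, Module.Finite k (pcK 𝒯 (EP.Hgr mT (i + j + 1)) d))
    (hdim : ∀ d, Module.finrank k (pcK 𝒯 (EP.Hgr mT (i + j + 1)) d) =
      Module.finrank k (pcK 𝒜 (EM.Hgr mR (i + 1)) d) *
        Module.finrank k (pcK ℬ (EN.Hgr mS (j + 1)) d)) :
    ∃ Θ : EP.H mT (i + j + 1) →ₗ[k] EM.H mR (i + 1) ⊗[k] EN.H mS (j + 1),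
      GrSeg.IsSegreMod ψ (EM.Hgr mR (i + 1)) (EN.Hgr mS (j + 1)) (EP.Hgr mT (i + j + 1)) Θ := by
  classical
  obtain ⟨Θ', hsm, hpc, hpt⟩ := K.exists_ThH i j EP
  have hι : Function.Injective (TensorProduct.map ((iH EM mR i).restrictScalars k)
      ((iH EN mS j).restrictScalars k)) :=
    TensorProduct.map_injective_of_flat_flat _ _ (iH_injective EM mR i) (iH_injective EN mS j)
  have hιact : ∀ (u : R ⊗[k] S) (y : EM.H mR (i + 1) ⊗[k] EN.H mS (j + 1)),
      TensorProduct.map ((iH EM mR i).restrictScalars k) ((iH EN mS j).restrictScalars k)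
        (GrSeg.act k R S _ _ u y) = GrSeg.act k R S _ _ u
          (TensorProduct.map ((iH EM mR i).restrictScalars k)
            ((iH EN mS j).restrictScalars k) y) :=
    fun u y => map_act (iH EM mR i) (iH EN mS j) u y
  have hrange : ∀ h, ∃ y : EM.H mR (i + 1) ⊗[k] EN.H mS (j + 1),
      TensorProduct.map ((iH EM mR i).restrictScalars k) ((iH EN mS j).restrictScalars k) y =
        Θ' h := by
    intro h
    have h1 : Θ' h ∈ LinearMap.range (TensorProduct.map ((iH EM mR i).restrictScalars k)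
        ((iH EN mS j).restrictScalars k)) := by
      rw [← DirectSum.sum_support_decompose (EP.Hgr mT (i + j + 1)) h, map_sum]
      refine Submodule.sum_mem _ fun d _ => ?_
      obtain ⟨y, -, hy⟩ := hpc d _ (SetLike.coe_mem ((decompose (EP.Hgr mT (i + j + 1)) h) d))
      exact ⟨y, hy.symm⟩
    exact h1
  choose Θf hΘf using hrange
  let Θ : EP.H mT (i + j + 1) →ₗ[k] EM.H mR (i + 1) ⊗[k] EN.H mS (j + 1) :=
    { toFun := Θf
      map_add' := fun x y => by
        apply hι
        rw [map_add, hΘf, hΘf, hΘf, map_add]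
      map_smul' := fun c x => by
        apply hι
        rw [map_smul, hΘf, hΘf, map_smul, RingHom.id_apply] }
  have hΘ : ∀ h, TensorProduct.map ((iH EM mR i).restrictScalars k)
      ((iH EN mS j).restrictScalars k) (Θ h) = Θ' h := hΘf
  -- the pieces
  have himg : ∀ d : ℤ, Θ '' (EP.Hgr mT (i + j + 1) d : Set (EP.H mT (i + j + 1))) =
      (GrSeg.segrePiece k (EM.Hgr mR (i + 1)) (EN.Hgr mS (j + 1)) d :
        Set (EM.H mR (i + 1) ⊗[k] EN.H mS (j + 1))) := by
    intro d
    apply Set.Subset.antisymm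
    · rintro _ ⟨h, hh, rfl⟩
      obtain ⟨y, hy, e⟩ := hpc d h hh
      have e2 : Θ h = y := hι (by rw [hΘ, e])
      rw [e2]
      exact hy
    · intro y hy
      change y ∈ GrSeg.segrePiece k (EM.Hgr mR (i + 1)) (EN.Hgr mS (j + 1)) d at hy
      induction hy using Submodule.span_induction with
      | mem x hx =>
        obtain ⟨a, ha, b, hb, rfl⟩ := hx
        obtain ⟨h, hh, e⟩ := hpt d a b ha hb
        refine ⟨h, hh, hι ?_⟩
        rw [hΘ, e]
        rfl
      | zero => exact ⟨0, zero_mem _, map_zero Θ⟩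
      | add x y _ _ hx hy =>
        obtain ⟨h₁, hh₁, e₁⟩ := hx
        obtain ⟨h₂, hh₂, e₂⟩ := hy
        exact ⟨h₁ + h₂, add_mem hh₁ hh₂, by rw [map_add, e₁, e₂]⟩
      | smul c x _ hx =>
        obtain ⟨h₁, hh₁, e₁⟩ := hx
        exact ⟨c • h₁, ksmul_mem 𝒯 (EP.Hgr mT (i + j + 1)) c hh₁, by rw [map_smul, e₁]⟩
  -- injectivity on the pieces
  have hinjd : ∀ (d : ℤ) (h : EP.H mT (i + j + 1)), h ∈ EP.Hgr mT (i + j + 1) d → Θ h = 0 →
      h = 0 := by
    intro d h hh h0
    haveI := hfin d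
    let Θd : ↥(pcK 𝒯 (EP.Hgr mT (i + j + 1)) d) →ₗ[k]
        ↥(GrSeg.segrePiece k (EM.Hgr mR (i + 1)) (EN.Hgr mS (j + 1)) d) :=
      Θ.restrict (fun x hx => by
        have h1 : Θ x ∈ Θ '' (EP.Hgr mT (i + j + 1) d : Set (EP.H mT (i + j + 1))) :=
          ⟨x, hx, rfl⟩
        rw [himg d] at h1
        exact h1)
    have hsurj : Function.Surjective Θd := by
      rintro ⟨y, hy⟩
      have h1 : y ∈ Θ '' (EP.Hgr mT (i + j + 1) d : Set (EP.H mT (i + j + 1))) := by
        rw [himg d]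
        exact hy
      obtain ⟨x, hx, rfl⟩ := h1
      exact ⟨⟨x, hx⟩, rfl⟩
    haveI : Module.Finite k
        ↥(GrSeg.segrePiece k (EM.Hgr mR (i + 1)) (EN.Hgr mS (j + 1)) d) :=
      Module.Finite.of_surjective Θd hsurj
    have heq : Module.finrank k ↥(pcK 𝒯 (EP.Hgr mT (i + j + 1)) d) =
        Module.finrank k ↥(GrSeg.segrePiece k (EM.Hgr mR (i + 1)) (EN.Hgr mS (j + 1)) d) := by
      rw [hdim d, finrank_segrePiece 𝒜 ℬ]
    have hinj : Function.Injective Θd := by
      have hh := LinearMap.injective_iff_surjective_of_finrank_eq_finrank (K := k)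
        (V := ↥(pcK 𝒯 (EP.Hgr mT (i + j + 1)) d))
        (V₂ := ↥(GrSeg.segrePiece k (EM.Hgr mR (i + 1)) (EN.Hgr mS (j + 1)) d)) (f := Θd)
      exact (hh heq).mpr hsurj
    have h1 : Θd ⟨h, hh⟩ = 0 := Subtype.ext h0
    have h2 := hinj (h1.trans (map_zero Θd).symm)
    exact congrArg Subtype.val h2
  refine ⟨Θ, ?_, himg, ?_⟩
  · -- injectivity
    rw [injective_iff_map_eq_zero]
    intro h h0
    have hcomp : ∀ d : ℤ, ((decompose (EP.Hgr mT (i + j + 1)) h) d : EP.H mT (i + j + 1)) = 0 := by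
      intro d
      apply hinjd d _ (SetLike.coe_mem _)
      have hmem : ∀ e : ℤ, Θ ((decompose (EP.Hgr mT (i + j + 1)) h) e : EP.H mT (i + j + 1)) ∈
          GrSeg.segrePiece k (EM.Hgr mR (i + 1)) (EN.Hgr mS (j + 1)) e := by
        intro e
        have h1 : Θ ((decompose (EP.Hgr mT (i + j + 1)) h) e : EP.H mT (i + j + 1)) ∈
            Θ '' (EP.Hgr mT (i + j + 1) e : Set (EP.H mT (i + j + 1))) :=
          ⟨_, SetLike.coe_mem _, rfl⟩
        rw [himg e] at h1
        exact h1
      have h2 : pd 𝒜 ℬ (EM.Hgr mR (i + 1)) (EN.Hgr mS (j + 1)) d (Θ h) =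
          Θ ((decompose (EP.Hgr mT (i + j + 1)) h) d : EP.H mT (i + j + 1)) := by
        conv_lhs => rw [← DirectSum.sum_support_decompose (EP.Hgr mT (i + j + 1)) h]
        rw [map_sum, map_sum]
        by_cases hd : d ∈ (decompose (EP.Hgr mT (i + j + 1)) h).support
        · rw [Finset.sum_eq_single_of_mem d hd, pd_of_mem_same 𝒜 ℬ _ _ (hmem d)]
          intro e _ hed
          exact pd_of_mem_ne 𝒜 ℬ _ _ (hmem e) hed
        · rw [Finset.sum_eq_zero]
          · have h3 : (decompose (EP.Hgr mT (i + j + 1)) h) d = 0 :=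
              DFinsupp.notMem_support_iff.mp hd
            rw [h3]
            simp
          · intro e he
            have hed : e ≠ d := fun h4 => hd (h4 ▸ he)
            exact pd_of_mem_ne 𝒜 ℬ _ _ (hmem e) hed
      rw [← h2, h0, map_zero]
    rw [← DirectSum.sum_support_decompose (EP.Hgr mT (i + j + 1)) h]
    exact Finset.sum_eq_zero fun d _ => hcomp d
  · -- compatibility with the action
    intro t h
    apply hι
    rw [hΘ, hsm, hιact, hΘ]

end K2Setup

end Groth.Agent.Lib.T2H3.Kun
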