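import Groth.Agent.Lib.T2H3KunZI
import Groth.Agent.Lib.T2H3KunZE
import Groth.Agent.Lib.T2H3KunZF
import Groth.Agent.S19747

/-! Künneth formula for Segre products (helper3), part ZJ: the top local cohomology of a Segre
product `M # N` is the Segre product of the top local cohomologies of `M` and `N`, as a graded
module over `T = R # S` (module form of the top Künneth formula). -/

set_option autoImplicit false
set_option linter.unusedSectionVars false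
set_option linter.style.haveILetI false
open DirectSum
open scoped TensorProduct

noncomputable section

namespace Groth.Agent.Lib.T2H3.Kun

open Groth.Agent.Lib.T2H3.GrTr Groth.Agent.Lib Groth.Agent.Lib.LeadSP
  Groth.Agent.Lib.Helper29LCAcyclic GrLC Groth.Agent.Lib.Helper29GrHom
  Groth.Agent.Lib.Helper29GrGam Groth.Agent.Lib.T2H3.GrLes Groth.Agent.Lib.T2H3.Seg
  Groth.Agent.Lib.T2H3.GrArt

universe u

/-- The top graded local cohomology of a Segre product of graded modules is the Segre product of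
the top graded local cohomologies. -/
theorem exists_isSegreMod_Htop (k : Type u) [Field k] (R : Type u) [CommRing R]
    [Nontrivial R] [Algebra k R] (𝒜 : ℤ → Submodule k R) [GradedAlgebra 𝒜]
    (hposR : ∀ n : ℤ, n < 0 → 𝒜 n = ⊥) (h0R : 𝒜 0 = Submodule.span k {(1 : R)})
    [Algebra.FiniteType k R] (S : Type u) [CommRing S] [Nontrivial S] [Algebra k S]
    (ℬ : ℤ → Submodule k S) [GradedAlgebra ℬ] (hposS : ∀ n : ℤ, n < 0 → ℬ n = ⊥)
    (h0S : ℬ 0 = Submodule.span k {(1 : S)}) [Algebra.FiniteType k S] (T : Type u) [CommRing T]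
    [Algebra k T] (𝒯 : ℤ → Submodule k T) [GradedAlgebra 𝒯] (ψ : T →ₐ[k] TensorProduct k R S)
    (hT : GrSeg.IsSegreRing 𝒜 ℬ 𝒯 ψ) (mR : HomogeneousIdeal 𝒜)
    (hmR : mR.toIdeal = Ideal.span (⋃ n ∈ Set.Ioi (0 : ℤ), (𝒜 n : Set R)))
    (mS : HomogeneousIdeal ℬ)
    (hmS : mS.toIdeal = Ideal.span (⋃ n ∈ Set.Ioi (0 : ℤ), (ℬ n : Set S)))
    (mT : HomogeneousIdeal 𝒯)
    (hmT : mT.toIdeal = Ideal.span (⋃ n ∈ Set.Ioi (0 : ℤ), (𝒯 n : Set T)))
    (M : Type u) [AddCommGroup M] [Module R M] [Module k M] [IsScalarTower k R M]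
    (ℳ : ℤ → AddSubgroup M) [DirectSum.Decomposition ℳ] [SetLike.GradedSMul 𝒜 ℳ]
    [Module.Finite R M] (EM : GrLC.StarInjRes 𝒜 ℳ) [∀ n, Module k (EM.X n).carrier]
    [∀ n, IsScalarTower k R (EM.X n).carrier]
    (N : Type u) [AddCommGroup N] [Module S N]
    [Module k N] [IsScalarTower k S N] (𝒩 : ℤ → AddSubgroup N) [DirectSum.Decomposition 𝒩]
    [SetLike.GradedSMul ℬ 𝒩] [Module.Finite S N] (EN : GrLC.StarInjRes ℬ 𝒩)
    [∀ n, Module k (EN.X n).carrier] [∀ n, IsScalarTower k S (EN.X n).carrier] (P : Type u)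
    [AddCommGroup P] [Module T P] [Module k P] [IsScalarTower k T P] (𝒬 : ℤ → AddSubgroup P)
    [DirectSum.Decomposition 𝒬] [SetLike.GradedSMul 𝒯 𝒬] (φ : P →ₗ[k] TensorProduct k M N)
    (hP : GrSeg.IsSegreMod ψ ℳ 𝒩 𝒬 φ) (EP : GrLC.StarInjRes 𝒯 𝒬)
    [∀ n, Module k (EP.X n).carrier] [∀ n, IsScalarTower k T (EP.X n).carrier] (r' s' : ℕ)
    [DirectSum.Decomposition (EP.Hgr mT (r' + 1 + (s' + 1) + 1))]
    (hMv : ∀ d i, r' + 2 < i → EM.Hcomp mR i d = ⊥)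
    (hNv : ∀ d j, s' + 2 < j → EN.Hcomp mS j d = ⊥) :
    ∃ Θ : EP.H mT (r' + 1 + (s' + 1) + 1) →ₗ[k]
        TensorProduct k (EM.H mR (r' + 1 + 1)) (EN.H mS (s' + 1 + 1)),
      GrSeg.IsSegreMod ψ (EM.Hgr mR (r' + 1 + 1)) (EN.Hgr mS (s' + 1 + 1))
        (EP.Hgr mT (r' + 1 + (s' + 1) + 1)) Θ := by
  classical
  haveI : IsNoetherianRing R := Algebra.FiniteType.isNoetherianRing k R
  haveI : IsNoetherianRing S := Algebra.FiniteType.isNoetherianRing k S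
  haveI : IsNoetherianRing T :=
    Groth.Agent.S18646.result k R 𝒜 hposR h0R S ℬ hposS h0S T 𝒯 ψ hT.1 hT.2
  haveI : Nontrivial (TensorProduct k R S) :=
    Algebra.TensorProduct.nontrivial_of_algebraMap_injective_of_flat_left k R S
      (algebraMap k S).injective
  haveI : Nontrivial T := ⟨⟨0, 1, fun h => by
    have h1 : ψ 0 = ψ 1 := congrArg ψ h
    rw [map_zero, map_one] at h1
    exact zero_ne_one h1⟩⟩
  haveI : Module.Finite T P := Groth.Agent.S19747.result k R 𝒜 hposR h0R S ℬ hposS h0S T 𝒯 ψ hT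
    M ℳ N 𝒩 P 𝒬 φ hP
  have hposT := LeadSP.hposT 𝒜 ℬ 𝒯 ψ hT.1 hT.2 hposR
  have h0T := LeadSP.h0T 𝒜 ℬ 𝒯 ψ hT.1 hT.2 h0R h0S
  have hirrR : ∀ n : ℤ, 0 < n → ∀ r ∈ 𝒜 n, r ∈ mR.toIdeal := by
    intro n hn r hr
    rw [hmR]
    exact Ideal.subset_span (Set.mem_biUnion (show n ∈ Set.Ioi (0 : ℤ) from hn) hr)
  have hirrS : ∀ n : ℤ, 0 < n → ∀ s ∈ ℬ n, s ∈ mS.toIdeal := by
    intro n hn s hs
    rw [hmS]
    exact Ideal.subset_span (Set.mem_biUnion (show n ∈ Set.Ioi (0 : ℤ) from hn) hs)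
  -- splitting data
  obtain ⟨D, hD, hxs⟩ := exists_list_pow mR hmR
  obtain ⟨D', hD', hys⟩ := exists_list_pow mS hmS
  obtain ⟨xs, hxsδ, hradx⟩ := hxs D'
  obtain ⟨ys, hysδ, hrady⟩ := hys D
  rw [Nat.mul_comm D' D] at hysδ
  have hGA : ∀ n, Nonempty (Good 𝒜 mR (EM.X n).gr ((D * D' : ℕ) : ℤ)) := fun n =>
    exists_good_of_isStarInj mR xs hxsδ hradx (EM.starInj n)
  have hGB : ∀ n, Nonempty (Good ℬ mS (EN.X n).gr ((D * D' : ℕ) : ℤ)) := fun n =>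
    exists_good_of_isStarInj mS ys hysδ hrady (EN.starInj n)
  have hδ : (0 : ℤ) < ((D * D' : ℕ) : ℤ) := by
    have : 0 < D * D' := Nat.mul_pos hD hD'
    exact_mod_cast this
  let K : K2Setup (ψ := ψ) (𝒬 := 𝒬) EM EN φ mR mS mT ((D * D' : ℕ) : ℤ) :=
    { hT := hT
      hP := hP
      hposT := hposT
      hmT := hmT
      hirrR := hirrR
      hirrS := hirrS
      hδ := hδ
      GA := fun n => (hGA n).some
      GB := fun n => (hGB n).some }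
  -- the gradings of the local cohomology modules
  letI decR : DirectSum.Decomposition (EM.Hgr mR (r' + 1 + 1)) :=
    HgrDecomposition (resTo 𝒜 ℳ EM) (hiTo 𝒜 mR) (r' + 1 + 1)
  letI decS : DirectSum.Decomposition (EN.Hgr mS (s' + 1 + 1)) :=
    HgrDecomposition (resTo ℬ 𝒩 EN) (hiTo ℬ mS) (s' + 1 + 1)
  haveI gsR : SetLike.GradedSMul 𝒜 (EM.Hgr mR (r' + 1 + 1)) :=
    gradedSMul_of_asGr 𝒜 _ (Hgr_gradedSMul (resTo 𝒜 ℳ EM) (hiTo 𝒜 mR) (r' + 1 + 1))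
  haveI gsS : SetLike.GradedSMul ℬ (EN.Hgr mS (s' + 1 + 1)) :=
    gradedSMul_of_asGr ℬ _ (Hgr_gradedSMul (resTo ℬ 𝒩 EN) (hiTo ℬ mS) (s' + 1 + 1))
  haveI gsT : SetLike.GradedSMul 𝒯 (EP.Hgr mT (r' + 1 + (s' + 1) + 1)) :=
    gradedSMul_of_asGr 𝒯 _ (Hgr_gradedSMul (resTo 𝒯 𝒬 EP) (hiTo 𝒯 mT) (r' + 1 + (s' + 1) + 1))
  -- the dimensions
  have eT : ∀ d, Module.rank (deg0 𝒯) (EP.Hcomp mT (r' + 1 + (s' + 1) + 1) d) =
      Module.rank k (pcK 𝒯 (EP.Hgr mT (r' + 1 + (s' + 1) + 1)) d) := fun d =>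
    rank_eq_of_carrier_eq 𝒯 h0T (EP.Hcomp mT (r' + 1 + (s' + 1) + 1) d)
      (pcK 𝒯 (EP.Hgr mT (r' + 1 + (s' + 1) + 1)) d) (fun _ => Iff.rfl)
  have eR : ∀ d, Module.rank (deg0 𝒜) (EM.Hcomp mR (r' + 1 + 1) d) =
      Module.rank k (pcK 𝒜 (EM.Hgr mR (r' + 1 + 1)) d) := fun d =>
    rank_eq_of_carrier_eq 𝒜 h0R (EM.Hcomp mR (r' + 1 + 1) d)
      (pcK 𝒜 (EM.Hgr mR (r' + 1 + 1)) d) (fun _ => Iff.rfl)
  have eS : ∀ d, Module.rank (deg0 ℬ) (EN.Hcomp mS (s' + 1 + 1) d) =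
      Module.rank k (pcK ℬ (EN.Hgr mS (s' + 1 + 1)) d) := fun d =>
    rank_eq_of_carrier_eq ℬ h0S (EN.Hcomp mS (s' + 1 + 1) d)
      (pcK ℬ (EN.Hgr mS (s' + 1 + 1)) d) (fun _ => Iff.rfl)
  have hfin : ∀ d, Module.Finite k (pcK 𝒯 (EP.Hgr mT (r' + 1 + (s' + 1) + 1)) d) := by
    intro d
    haveI : Module.Finite (deg0 𝒯) (EP.Hcomp mT (r' + 1 + (s' + 1) + 1) d) :=
      finite_Hcomp' 𝒯 hposT mT hmT EP _ d
    exact finite_of_rank_eq (eT d)
  have hdim : ∀ d, Module.finrank k (pcK 𝒯 (EP.Hgr mT (r' + 1 + (s' + 1) + 1)) d) =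
      Module.finrank k (pcK 𝒜 (EM.Hgr mR (r' + 1 + 1)) d) *
        Module.finrank k (pcK ℬ (EN.Hgr mS (s' + 1 + 1)) d) := by
    intro d
    have key := K.finrank_Hcomp_top EP hposR hposS h0R h0S h0T hmR hmS r' s' d (hMv d) (hNv d)
    have e : r' + s' + 1 + 2 = r' + 1 + (s' + 1) + 1 := by omega
    rw [e] at key
    rw [← finrank_eq_of_rank_eq' (eT d), ← finrank_eq_of_rank_eq' (eR d),
      ← finrank_eq_of_rank_eq' (eS d)]
    exact key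
  exact K.exists_isSegreMod_top (r' + 1) (s' + 1) EP hfin hdim

end Groth.Agent.Lib.T2H3.Kun
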