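import Groth.Agent.Lib.T2H3SegC
import Groth.Agent.Lib.LeadGDe
import Mathlib.LinearAlgebra.Contraction

/-! Künneth formula for Segre products (helper3), part ZK: the Segre product of graded duals is
the graded dual of the Segre product.  If `D_M` is the graded dual of `M`, `D_N` the graded dual
of `N` (pieces of finite dimension), `P = M # N` and `D_P = D_M # D_N`, then `D_P` is the graded
dual of `P` over `T = R # S`. -/

set_option autoImplicit false
set_option linter.unusedSectionVars false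
set_option linter.style.haveILetI false
open DirectSum
open scoped TensorProduct

noncomputable section

namespace Groth.Agent.Lib.T2H3.Kun

open Groth.Agent.Lib.T2H3.Seg Groth.Agent.Lib.LeadGD

universe u

section Pair

variable {k : Type u} [Field k] {R S : Type u} [CommRing R] [CommRing S] [Algebra k R]
  [Algebra k S]
variable {M : Type u} [AddCommGroup M] [Module R M] [Module k M] [IsScalarTower k R M]
  {N : Type u} [AddCommGroup N] [Module S N] [Module k N] [IsScalarTower k S N]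
  {DM : Type u} [AddCommGroup DM] [Module R DM] [Module k DM] [IsScalarTower k R DM]
  {DN : Type u} [AddCommGroup DN] [Module S DN] [Module k DN] [IsScalarTower k S DN]
  (βM : DM →ₗ[k] M →ₗ[k] k) (βN : DN →ₗ[k] N →ₗ[k] k)

/-- The tensor product of two pairings. -/
def pairT : DM ⊗[k] DN →ₗ[k] M ⊗[k] N →ₗ[k] k :=
  TensorProduct.dualDistrib k M N ∘ₗ TensorProduct.map βM βN

theorem pairT_tmul (a : DM) (b : DN) (x : M) (y : N) :
    pairT βM βN (a ⊗ₜ[k] b) (x ⊗ₜ[k] y) = βM a x * βN b y := rfl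

/-- The tensor product of two pairings compatible with the actions is compatible with the
action of `R ⊗ S`. -/
theorem pairT_act (hM : ∀ (r : R) (d : DM) (x : M), βM (r • d) x = βM d (r • x))
    (hN : ∀ (s : S) (d : DN) (y : N), βN (s • d) y = βN d (s • y)) (u : R ⊗[k] S)
    (z : DM ⊗[k] DN) (w : M ⊗[k] N) :
    pairT βM βN (GrSeg.act k R S DM DN u z) w = pairT βM βN z (GrSeg.act k R S M N u w) := by
  induction u using TensorProduct.induction_on with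
  | zero => simp
  | add u₁ u₂ h₁ h₂ =>
    rw [map_add, LinearMap.add_apply, map_add, LinearMap.add_apply, h₁, h₂, map_add,
      LinearMap.add_apply, map_add]
  | tmul r s =>
    induction z using TensorProduct.induction_on with
    | zero => simp
    | add z₁ z₂ h₁ h₂ =>
      rw [map_add, map_add, LinearMap.add_apply, h₁, h₂, map_add, LinearMap.add_apply]
    | tmul a b =>
      induction w using TensorProduct.induction_on with
      | zero => simp
      | add w₁ w₂ h₁ h₂ => rw [map_add, h₁, h₂, map_add, map_add]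
      | tmul x y =>
        rw [GrSeg.act_tmul, GrSeg.act_tmul, pairT_tmul, pairT_tmul, hM, hN]

end Pair

section Piece

variable {k : Type u} [Field k] {R S : Type u} [CommRing R] [CommRing S] [Algebra k R]
  [Algebra k S] (𝒜 : ℤ → Submodule k R) [GradedAlgebra 𝒜] (ℬ : ℤ → Submodule k S)
  [GradedAlgebra ℬ]
variable {A : Type u} [AddCommGroup A] [Module R A] [Module k A] [IsScalarTower k R A]
  (𝓐 : ℤ → AddSubgroup A) [DirectSum.Decomposition 𝓐] [SetLike.GradedSMul 𝒜 𝓐]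
variable {B : Type u} [AddCommGroup B] [Module S B] [Module k B] [IsScalarTower k S B]
  (𝓑 : ℤ → AddSubgroup B) [DirectSum.Decomposition 𝓑] [SetLike.GradedSMul ℬ 𝓑]

/-- The piece of a Segre product is the image of the tensor product of the pieces. -/
theorem segrePiece_eq_range_pc (d : ℤ) : GrSeg.segrePiece k 𝓐 𝓑 d =
    LinearMap.range (TensorProduct.map (pc 𝒜 𝓐 d).subtype (pc ℬ 𝓑 d).subtype) := by
  apply le_antisymm
  · apply Submodule.span_le.mpr
    rintro _ ⟨a, ha, b, hb, rfl⟩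
    exact ⟨(⟨a, ha⟩ : ↥(pc 𝒜 𝓐 d)) ⊗ₜ[k] (⟨b, hb⟩ : ↥(pc ℬ 𝓑 d)), rfl⟩
  · rintro _ ⟨y, rfl⟩
    induction y using TensorProduct.induction_on with
    | zero => rw [map_zero]; exact zero_mem _
    | tmul a b => exact Submodule.subset_span ⟨a, a.2, b, b.2, rfl⟩
    | add x y hx hy => rw [map_add]; exact add_mem hx hy

end Piece

section Dual

variable {k : Type u} [Field k] {R : Type u} [CommRing R] [Algebra k R]
  (𝒜 : ℤ → Submodule k R) [GradedAlgebra 𝒜]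
  {M : Type u} [AddCommGroup M] [Module R M] [Module k M] [IsScalarTower k R M]
  (ℳ : ℤ → AddSubgroup M) [DirectSum.Decomposition ℳ] [SetLike.GradedSMul 𝒜 ℳ]
  {D : Type u} [AddCommGroup D] [Module R D] [Module k D] [IsScalarTower k R D]
  (𝒟 : ℤ → AddSubgroup D) [DirectSum.Decomposition 𝒟] [SetLike.GradedSMul 𝒜 𝒟]
  {β : D →ₗ[k] M →ₗ[k] k} (hD : GrSeg.IsGDual R ℳ 𝒟 β)

include hD in
/-- The piece `D_n` is the dual of `M_{-n}`. -/
theorem exists_linearEquiv_dual' (n : ℤ) :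
    ∃ Ψ : pc 𝒜 𝒟 n ≃ₗ[k] Module.Dual k (pc 𝒜 ℳ (-n)),
      ∀ (d : pc 𝒜 𝒟 n) (x : pc 𝒜 ℳ (-n)), Ψ d x = β (d : D) (x : M) := by
  obtain ⟨Ψ, hΨ⟩ := exists_linearEquiv_dual 𝒜 ℳ 𝒟 hD (-n)
  have e : pc 𝒜 𝒟 n = pc 𝒜 𝒟 (- -n) := by rw [neg_neg]
  exact ⟨(LinearEquiv.ofEq _ _ e).trans Ψ, fun d x => hΨ _ x⟩

end Dual

section Main

variable {k : Type u} [Field k] {R S T : Type u} [CommRing R] [CommRing S] [CommRing T]
  [Algebra k R] [Algebra k S] [Algebra k T]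
  (𝒜 : ℤ → Submodule k R) [GradedAlgebra 𝒜] (ℬ : ℤ → Submodule k S) [GradedAlgebra ℬ]
  (𝒯 : ℤ → Submodule k T) [GradedAlgebra 𝒯] (ψ : T →ₐ[k] R ⊗[k] S)
variable {M : Type u} [AddCommGroup M] [Module R M] [Module k M] [IsScalarTower k R M]
  (ℳ : ℤ → AddSubgroup M) [DirectSum.Decomposition ℳ] [SetLike.GradedSMul 𝒜 ℳ]
variable {N : Type u} [AddCommGroup N] [Module S N] [Module k N] [IsScalarTower k S N]
  (𝒩 : ℤ → AddSubgroup N) [DirectSum.Decomposition 𝒩] [SetLike.GradedSMul ℬ 𝒩]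
variable {P : Type u} [AddCommGroup P] [Module T P] [Module k P] [IsScalarTower k T P]
  (𝒬 : ℤ → AddSubgroup P) [DirectSum.Decomposition 𝒬]
variable {DM : Type u} [AddCommGroup DM] [Module R DM] [Module k DM] [IsScalarTower k R DM]
  (𝒟M : ℤ → AddSubgroup DM) [DirectSum.Decomposition 𝒟M] [SetLike.GradedSMul 𝒜 𝒟M]
variable {DN : Type u} [AddCommGroup DN] [Module S DN] [Module k DN] [IsScalarTower k S DN]
  (𝒟N : ℤ → AddSubgroup DN) [DirectSum.Decomposition 𝒟N] [SetLike.GradedSMul ℬ 𝒟N]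
variable {DP : Type u} [AddCommGroup DP] [Module T DP] [Module k DP] [IsScalarTower k T DP]
  (𝒟P : ℤ → AddSubgroup DP) [DirectSum.Decomposition 𝒟P]
variable (φ : P →ₗ[k] M ⊗[k] N) (hP : GrSeg.IsSegreMod ψ ℳ 𝒩 𝒬 φ)
  (Θ : DP →ₗ[k] DM ⊗[k] DN) (hΘ : GrSeg.IsSegreMod ψ 𝒟M 𝒟N 𝒟P Θ)
  {βM : DM →ₗ[k] M →ₗ[k] k} (hβM : GrSeg.IsGDual R ℳ 𝒟M βM)
  {βN : DN →ₗ[k] N →ₗ[k] k} (hβN : GrSeg.IsGDual S 𝒩 𝒟N βN)

include hβM hβN in
theorem pairT_vanish {n m : ℤ} (hmn : m ≠ -n) {z : DM ⊗[k] DN}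
    (hz : z ∈ GrSeg.segrePiece k 𝒟M 𝒟N n) {w : M ⊗[k] N}
    (hw : w ∈ GrSeg.segrePiece k ℳ 𝒩 m) : pairT βM βN z w = 0 := by
  induction hz using Submodule.span_induction with
  | mem z hz =>
    obtain ⟨a, ha, b, hb, rfl⟩ := hz
    induction hw using Submodule.span_induction with
    | mem w hw =>
      obtain ⟨x, hx, y, hy, rfl⟩ := hw
      rw [pairT_tmul, hβM.vanish n a ha m hmn x hx, zero_mul]
    | zero => rw [map_zero]
    | add w₁ w₂ _ _ h₁ h₂ => rw [map_add, h₁, h₂, add_zero]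
    | smul c w _ h => rw [map_smul, h, smul_zero]
  | zero => rw [map_zero, LinearMap.zero_apply]
  | add z₁ z₂ _ _ h₁ h₂ => rw [map_add, LinearMap.add_apply, h₁, h₂, add_zero]
  | smul c z _ h => rw [map_smul, LinearMap.smul_apply, h, smul_zero]

include hP hΘ hβM hβN in
/-- The Segre product of graded duals is the graded dual of the Segre product. -/
theorem isGDual_segre (hfM : ∀ n : ℤ, FiniteDimensional k (pc 𝒜 ℳ n))
    (hfN : ∀ n : ℤ, FiniteDimensional k (pc ℬ 𝒩 n)) :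
    GrSeg.IsGDual T 𝒬 𝒟P ((pairT βM βN ∘ₗ Θ).compl₂ φ) := by
  classical
  -- the duality between the pieces
  have hΞ : ∀ n : ℤ, ∃ Ξ : (pc 𝒜 𝒟M n ⊗[k] pc ℬ 𝒟N n) ≃ₗ[k]
      Module.Dual k (pc 𝒜 ℳ (-n) ⊗[k] pc ℬ 𝒩 (-n)),
      ∀ (z₀ : pc 𝒜 𝒟M n ⊗[k] pc ℬ 𝒟N n) (t : pc 𝒜 ℳ (-n) ⊗[k] pc ℬ 𝒩 (-n)),
        Ξ z₀ t = pairT βM βN
          (TensorProduct.map (pc 𝒜 𝒟M n).subtype (pc ℬ 𝒟N n).subtype z₀)
          (TensorProduct.map (pc 𝒜 ℳ (-n)).subtype (pc ℬ 𝒩 (-n)).subtype t) := by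
    intro n
    obtain ⟨ΨM, hΨM⟩ := exists_linearEquiv_dual' 𝒜 ℳ 𝒟M hβM n
    obtain ⟨ΨN, hΨN⟩ := exists_linearEquiv_dual' ℬ 𝒩 𝒟N hβN n
    haveI := hfM (-n)
    haveI := hfN (-n)
    refine ⟨(TensorProduct.congr ΨM ΨN).trans
      (TensorProduct.dualDistribEquiv k (pc 𝒜 ℳ (-n)) (pc ℬ 𝒩 (-n))), ?_⟩
    intro z₀ t
    induction z₀ using TensorProduct.induction_on with
    | zero => simp
    | add z₁ z₂ h₁ h₂ => rw [map_add, LinearMap.add_apply, h₁, h₂, map_add, map_add,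
        LinearMap.add_apply]
    | tmul a b =>
      induction t using TensorProduct.induction_on with
      | zero => simp
      | add t₁ t₂ h₁ h₂ => rw [map_add, h₁, h₂, map_add, map_add]
      | tmul x y =>
        rw [LinearEquiv.trans_apply, TensorProduct.congr_tmul, TensorProduct.map_tmul,
          TensorProduct.map_tmul]
        change TensorProduct.dualDistrib k _ _ ((ΨM a) ⊗ₜ[k] (ΨN b)) (x ⊗ₜ[k] y) = _
        rw [TensorProduct.dualDistrib_apply, hΨM, hΨN]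
        rfl
  have hval : ∀ (d : DP) (p : P), ((pairT βM βN ∘ₗ Θ).compl₂ φ) d p =
      pairT βM βN (Θ d) (φ p) := fun d p => rfl
  refine ⟨?_, ?_, ?_, ?_⟩
  · -- compatibility with the action of `T`
    intro t d p
    rw [hval, hval, hΘ.map_smul, hP.map_smul]
    exact pairT_act βM βN hβM.map_smul hβN.map_smul (ψ t) (Θ d) (φ p)
  · -- vanishing
    intro n d hd m hmn p hp
    rw [hval]
    have h1 : Θ d ∈ GrSeg.segrePiece k 𝒟M 𝒟N n := by
      have h := hΘ.image_piece n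
      have h2 : Θ d ∈ Θ '' (𝒟P n : Set DP) := ⟨d, hd, rfl⟩
      rw [h] at h2
      exact h2
    have h3 : φ p ∈ GrSeg.segrePiece k ℳ 𝒩 m := by
      have h := hP.image_piece m
      have h2 : φ p ∈ φ '' (𝒬 m : Set P) := ⟨p, hp, rfl⟩
      rw [h] at h2
      exact h2
    exact pairT_vanish ℳ 𝒩 𝒟M 𝒟N hβM hβN hmn h1 h3
  · -- nondegeneracy
    intro n d hd h
    obtain ⟨Ξ, hΞn⟩ := hΞ n
    have h1 : Θ d ∈ GrSeg.segrePiece k 𝒟M 𝒟N n := by
      have h' := hΘ.image_piece n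
      have h2 : Θ d ∈ Θ '' (𝒟P n : Set DP) := ⟨d, hd, rfl⟩
      rw [h'] at h2
      exact h2
    rw [segrePiece_eq_range_pc 𝒜 ℬ 𝒟M 𝒟N n] at h1
    obtain ⟨z₀, hz₀⟩ := h1
    have h2 : Ξ z₀ = 0 := by
      apply TensorProduct.ext'
      intro x y
      rw [hΞn, hz₀, LinearMap.zero_apply, TensorProduct.map_tmul]
      have h3 : (x : M) ⊗ₜ[k] (y : N) ∈ GrSeg.segrePiece k ℳ 𝒩 (-n) :=
        Submodule.subset_span ⟨x, x.2, y, y.2, rfl⟩
      have h4 := hP.image_piece (-n)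
      have h5 : (x : M) ⊗ₜ[k] (y : N) ∈ φ '' (𝒬 (-n) : Set P) := by
        rw [h4]
        exact h3
      obtain ⟨p, hp, hpe⟩ := h5
      have h6 := h p hp
      rw [hval, hpe] at h6
      exact h6
    have h3 : z₀ = 0 := Ξ.injective (h2.trans (map_zero Ξ).symm)
    rw [h3, map_zero] at hz₀
    exact hΘ.injective (hz₀.symm.trans (map_zero Θ).symm)
  · -- every functional on a piece is reached
    intro n g
    obtain ⟨Ξ, hΞn⟩ := hΞ n
    obtain ⟨ρ, hρ⟩ := φ.exists_leftInverse_of_injective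
      (LinearMap.ker_eq_bot.mpr hP.injective)
    let Φ : Module.Dual k (pc 𝒜 ℳ (-n) ⊗[k] pc ℬ 𝒩 (-n)) :=
      g ∘ₗ ρ ∘ₗ TensorProduct.map (pc 𝒜 ℳ (-n)).subtype (pc ℬ 𝒩 (-n)).subtype
    have h1 : TensorProduct.map (pc 𝒜 𝒟M n).subtype (pc ℬ 𝒟N n).subtype (Ξ.symm Φ) ∈
        GrSeg.segrePiece k 𝒟M 𝒟N n := by
      rw [segrePiece_eq_range_pc 𝒜 ℬ 𝒟M 𝒟N n]
      exact ⟨_, rfl⟩
    have h2 : TensorProduct.map (pc 𝒜 𝒟M n).subtype (pc ℬ 𝒟N n).subtype (Ξ.symm Φ) ∈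
        Θ '' (𝒟P n : Set DP) := by
      rw [hΘ.image_piece n]
      exact h1
    obtain ⟨d, hd, hde⟩ := h2
    refine ⟨d, hd, fun p hp => ?_⟩
    rw [hval, hde]
    have h3 : φ p ∈ GrSeg.segrePiece k ℳ 𝒩 (-n) := by
      have h := hP.image_piece (-n)
      have h2 : φ p ∈ φ '' (𝒬 (-n) : Set P) := ⟨p, hp, rfl⟩
      rw [h] at h2
      exact h2
    rw [segrePiece_eq_range_pc 𝒜 ℬ ℳ 𝒩 (-n)] at h3
    obtain ⟨t, ht⟩ := h3
    rw [← ht, ← hΞn, LinearEquiv.apply_symm_apply]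
    change g (ρ (TensorProduct.map (pc 𝒜 ℳ (-n)).subtype (pc ℬ 𝒩 (-n)).subtype t)) = g p
    rw [ht]
    have h4 := LinearMap.congr_fun hρ p
    rw [LinearMap.comp_apply, LinearMap.id_apply] at h4
    rw [h4]

end Main

end Groth.Agent.Lib.T2H3.Kun
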