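import Groth.Agent.Lib.T2H3VerT

/-! Veronese subrings of Gorenstein graded rings (helper3), part U: if `R` is a standard graded
Cohen–Macaulay ring over a field of dimension at least two and `R^(q)` is Gorenstein, then `R` is
Gorenstein and `q ∣ a(R)` (version over an auxiliary field `K` mapping onto `R_0`). -/

set_option autoImplicit false
set_option linter.unusedSectionVars false
set_option linter.style.haveILetI false
set_option maxHeartbeats 2000000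
open DirectSum

noncomputable section

namespace Groth.Agent.Lib.T2H3.Ver

open GrLC Groth.Agent.Lib.T2H3.GrIrr Groth.Agent.Lib.T2H3.GrArt Groth.Agent.Lib.T2H3.GrLes
  Groth.Agent.Lib.T2H3.GDual

universe u

theorem endDeg_eq_of {H : Type*} [AddCommGroup H] (𝓗 : ℤ → AddSubgroup H) (a : ℤ)
    (h1 : ∀ j, a < j → 𝓗 j = ⊥) (h2 : 𝓗 a ≠ ⊥) :
    endDeg 𝓗 = ((a : WithTop ℤ) : WithBot (WithTop ℤ)) := by
  apply le_antisymm ((Groth.Agent.Lib.T2H3.EG.endDeg_le_iff' 𝓗 a).2 h1)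
  unfold endDeg
  exact le_iSup₂ (f := fun (n : ℤ) (_ : 𝓗 n ≠ ⊥) => ((n : WithTop ℤ) : WithBot (WithTop ℤ))) a h2

theorem isGorensteinRing_and_dvd_of_veronese_aux
    (K : Type u) [Field K]
    (R : Type u) [CommRing R] [hCM : LocCoh.IsCohenMacaulayRing R] [Algebra K R]
    (𝒜 : ℤ → AddSubgroup R) [GradedRing 𝒜] [KGraded K 𝒜]
    (hpos : ∀ n : ℤ, n < 0 → 𝒜 n = ⊥) (h0 : IsField (deg0 𝒜))
    (h0K : ∀ x ∈ 𝒜 0, ∃ c : K, algebraMap K R c = x)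
    (m : HomogeneousIdeal 𝒜) (hm : IsStarLocal 𝒜 m)
    (hmsp : m.toIdeal = Ideal.span (⋃ n ∈ Set.Ioi (0 : ℤ), (𝒜 n : Set R)))
    (hstd : Ideal.span (⋃ n ∈ Set.Ioi (0 : ℤ), (𝒜 n : Set R)) =
      Ideal.span ((𝒜 1 : AddSubgroup R) : Set R))
    (n : ℕ) (hn : ringKrullDim R = n) (h2 : 2 ≤ n) (I : StarInjRes 𝒜 𝒜)
    (q : ℕ) (R' : Type u) [CommRing R'] [LocCoh.IsGorensteinRing R'] [Algebra K R']
    (𝒜' : ℤ → AddSubgroup R') [GradedRing 𝒜'] [KGraded K 𝒜']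
    (φ : R' →+* R) (hV : VerHyp 𝒜 𝒜' φ q)
    (hφK : ∀ c : K, φ (algebraMap K R' c) = algebraMap K R c) :
    LocCoh.IsGorensteinRing R ∧ ∃ a : ℤ,
      endDeg (I.Hgr m n) = ((a : WithTop ℤ) : WithBot (WithTop ℤ)) ∧ (q : ℤ) ∣ a := by
  classical
  haveI : IsNoetherianRing R' := isNoetherianRing_of_verHyp hV
  haveI hntR : Nontrivial R :=
    ⟨⟨0, 1, fun h => one_notMem_of_isStarLocal hm (by rw [← h]; exact zero_mem _)⟩⟩
  haveI hntR' : Nontrivial R' := ⟨⟨0, 1, fun h => by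
    have h1 := congrArg φ h
    rw [map_zero, map_one] at h1
    exact zero_ne_one h1⟩⟩
  have hpos' := hpos_of_verHyp hV hpos
  have h0' := isField_deg0_of_verHyp hV h0
  haveI hmax : m.toIdeal.IsMaximal := isMaximal_of_isStarLocal hpos hm
  haveI hprime : m.toIdeal.IsPrime := hmax.isPrime
  -- the *maximal ideal of `R'`
  obtain ⟨m', hm'def⟩ : ∃ m' : HomogeneousIdeal 𝒜', m' = irrH 𝒜' := ⟨_, rfl⟩
  have hm'sp : m'.toIdeal = Ideal.span (⋃ j ∈ Set.Ioi (0 : ℤ), (𝒜' j : Set R')) := by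
    rw [hm'def]; rfl
  have hm'ne : m'.toIdeal ≠ ⊤ := by rw [hm'def]; exact irr_ne_top hpos'
  have hm' : IsStarLocal 𝒜' m' :=
    Groth.Agent.Lib.T2H3.EG.isStarLocal_of_isField 𝒜' hpos' h0' m' hm'ne (by rw [hm'def]; rfl)
  -- the comparison set-up
  let gφ : R' →ₛₗ[φ] R :=
    { toFun := φ
      map_add' := map_add φ
      map_smul' := fun r x => by rw [smul_eq_mul, map_mul, smul_eq_mul] }
  have hgdeg : ∀ j : ℤ, (𝒜' j).map (gφ : R' →+ R) = 𝒜 (j * q) := by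
    intro j
    rw [← hV.hdeg j]
    rfl
  obtain ⟨F, -⟩ : ∃ F : StarInjRes 𝒜' 𝒜', True :=
    ⟨Groth.Agent.Lib.T2H3.MinRes.minRes 𝒜' 𝒜', trivial⟩
  obtain ⟨S, hSF, hSm, hSm', hSE⟩ : ∃ S : Setup 𝒜 𝒜' φ q 𝒜 𝒜',
      S.F = F ∧ S.m = m ∧ S.m' = m' ∧ S.E = I :=
    ⟨⟨hV, gφ, hV.hφ, hgdeg, I, F, m, m', radical_map_eq hV m m' hmsp hm'sp⟩, rfl, rfl, rfl, rfl⟩
  subst hSF hSm hSm' hSE
  -- heights
  have hht : S.m.toIdeal.height = n := by
    have h1 := Groth.Agent.Lib.T2H3.GrDim.ringKrullDim_eq_height_of_isStarLocal hpos hm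
    rw [hn] at h1
    exact_mod_cast h1.symm
  have hdimR' : ringKrullDim R' = n := (ringKrullDim_eq_of_verHyp hV).trans hn
  have hht' : S.m'.toIdeal.height = n := by
    have h1 := Groth.Agent.Lib.T2H3.GrDim.ringKrullDim_eq_height_of_isStarLocal hpos' hm'
    rw [hdimR'] at h1
    exact_mod_cast h1.symm
  -- the hull of `R'` and the isomorphism `H^n_{m'}(R') ≅ R'^*(g')`
  have h0K' : ∀ x ∈ 𝒜' 0, ∃ c : K, algebraMap K R' c = x := by
    intro x hx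
    have h1 := phi_mem hV hx
    rw [zero_mul] at h1
    obtain ⟨c, hc⟩ := h0K _ h1
    exact ⟨c, hV.hφ (by rw [hφK, hc])⟩
  obtain ⟨e', he'⟩ := exists_hullA K 𝒜' hpos' h0K' S.m' hm'sp
  obtain ⟨g', ψ', hψ'⟩ := Groth.Agent.S13244.result R' 𝒜' S.m' hm' n hht' S.F (GDK K 𝒜')
    (pieceA K 𝒜') e' he'
  -- the graded isomorphism `H^n_{m'}(R') ≅ V(H^n_m(R))`
  letI decH := HgrDecomposition S.E S.m n
  haveI gsH : SetLike.GradedSMul 𝒜 (S.E.Hgr S.m n) := Hgr_gradedSMul S.E S.m n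
  letI decF := HgrDecomposition S.F S.m' n
  obtain ⟨Φ, hΦ⟩ := S.exists_H_equiv_Vsub_graded (S.E.Hgr S.m n) n
    (LinearEquiv.refl R (S.E.H S.m n)) 0 (fun j y hy => by rw [add_zero]; exact hy) 0
    (by rw [zero_mul])
  letI decV := VDec (S.E.Hgr S.m n) S.hV
  -- the map `Ξ`
  obtain ⟨Ξ, hΞdef⟩ : ∃ Ξ : GDK K 𝒜' →+ S.E.H S.m n,
      ∀ δ, Ξ δ = Vval (S.E.Hgr S.m n) S.hV (Φ (ψ'.symm δ)) :=
    ⟨(Vval (S.E.Hgr S.m n) S.hV).comp
      ((Φ.toLinearMap.comp ψ'.symm.toLinearMap).toAddMonoidHom), fun δ => rfl⟩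
  have hΞ1 : ∀ (r' : R') (δ : GDK K 𝒜'), Ξ (r' • δ) = φ r' • Ξ δ := by
    intro r' δ
    rw [hΞdef, hΞdef, map_smul, map_smul]
    rfl
  have hΞ2 : ∀ (j : ℤ) (δ : GDK K 𝒜'), δ ∈ pieceA K 𝒜' j →
      Ξ δ ∈ S.E.Hgr S.m n ((j + -g') * q) := by
    intro j δ hδ
    rw [hΞdef]
    have h1 : ψ'.symm δ ∈ S.F.Hgr S.m' n (j - g') :=
      Groth.Agent.Lib.T2H3.GorCanon.symm_deg (S.F.Hgr S.m' n) (pieceA K 𝒜') ψ' g' hψ' hδ
    have h3 := hΦ _ _ h1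
    rw [add_zero, mem_Vgr] at h3
    rw [← sub_eq_add_neg]
    exact h3
  have hΞ3 : Function.Injective Ξ := by
    intro a b hab
    rw [hΞdef, hΞdef] at hab
    exact ψ'.symm.injective (Φ.injective (Vval_injective _ S.hV hab))
  have hΞ4 : ∀ (j : ℤ) (h : S.E.H S.m n), h ∈ S.E.Hgr S.m n (j * q) →
      ∃ δ ∈ pieceA K 𝒜' (j - -g'), Ξ δ = h := by
    intro j h hh
    have hhV : h ∈ Vadd (Hq q) (S.E.Hgr S.m n) :=
      mem_Vadd_of_mem (Hq q) (S.E.Hgr S.m n) (mul_mem_Hq q j) hh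
    have hv : Vmk (S.E.Hgr S.m n) S.hV h hhV ∈ Vgr (S.E.Hgr S.m n) S.hV j := hh
    have h1 : Φ.symm (Vmk (S.E.Hgr S.m n) S.hV h hhV) ∈ S.F.Hgr S.m' n (j - 0) :=
      Groth.Agent.Lib.T2H3.GorCanon.symm_deg (S.F.Hgr S.m' n) (Vgr (S.E.Hgr S.m n) S.hV) Φ 0 hΦ hv
    refine ⟨ψ' (Φ.symm (Vmk (S.E.Hgr S.m n) S.hV h hhV)), ?_, ?_⟩
    · have h3 := hψ' _ _ h1
      rw [sub_zero] at h3
      rw [sub_neg_eq_add]
      exact h3
    · rw [hΞdef, LinearEquiv.symm_apply_apply, LinearEquiv.apply_symm_apply, Vval_Vmk]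
  -- the `K`-structure on `H^n_m(R)`
  letI modK : Module K (S.E.H S.m n) := Module.compHom (S.E.H S.m n) (algebraMap K R)
  haveI towK : IsScalarTower K R (S.E.H S.m n) :=
    IsScalarTower.of_algebraMap_smul (fun _ _ => rfl)
  haveI gsHK : SetLike.GradedSMul (subK K 𝒜) (S.E.Hgr S.m n) :=
    gradedSMul_subK K 𝒜 (S.E.Hgr S.m n)
  -- the Veronese map as an algebra map
  obtain ⟨φA, hφA⟩ : ∃ φA : R' →ₐ[K] R, ∀ r, φA r = φ r :=
    ⟨{ φ with commutes' := hφK }, fun r => rfl⟩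
  have hdegK : ∀ j : ℤ, (subK K 𝒜' j).map φA.toLinearMap = subK K 𝒜 (j * q) := by
    intro j
    ext x
    constructor
    · rintro ⟨r, hr, rfl⟩
      change φA r ∈ 𝒜 (j * q)
      rw [hφA]
      exact phi_mem hV hr
    · intro hx
      have hx' : x ∈ (𝒜' j).map (φ : R' →+ R) := by
        rw [hV.hdeg j]
        exact hx
      obtain ⟨r, hr, rfl⟩ := hx'
      exact ⟨r, hr, hφA r⟩
  have hposK := subK_eq_bot K 𝒜 hpos
  have h0R := subK_zero_eq K 𝒜 h0K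
  have h0R' := subK_zero_eq K 𝒜' h0K'
  -- no torsion
  obtain ⟨d', hd'⟩ : ∃ d', n = d' + 1 := ⟨n - 1, by omega⟩
  have hH0 : ∀ y : S.E.H S.m 0, y = 0 := by
    intro y
    subst hd'
    exact Groth.Agent.Lib.T2H3.GrAinv.H_eq_zero_of_lt hpos hm d' hn S.E 0 (by omega) y
  have htors : ∀ (z : R) (e : ℤ), 0 ≤ e →
      (∀ j, e ≤ j → ∀ y ∈ subK K 𝒜 j, z * y = 0) → z = 0 := by
    intro z e he hz
    apply eq_zero_of_mem_gam_of_H_zero S.E S.m hH0 z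
    refine ⟨e.toNat, fun r hr => ?_⟩
    rw [smul_eq_mul]
    exact kill_pow (subK K 𝒜) S.m.toIdeal hmsp e.toNat z (fun j hj => hz j (by omega)) r hr
  -- the regular pair
  obtain ⟨x, y, dx, dy, hx, hy, hdx, hdy, hxH, hreg⟩ :=
    exists_regular_pair K R 𝒜 hpos h0K S.m hm hmsp n hn h2 S.E q hV.hq
  -- the isomorphism `H^n_m(R) ≅ R^*`
  obtain ⟨f, hf⟩ := exists_equiv_gdual_core (subK K 𝒜) (subK K 𝒜') φA q hV.hq hdegK hposK h0R h0R'
    hstd (S.E.Hgr S.m n) Ξ (-g') (fun r' δ => by rw [hφA]; exact hΞ1 r' δ) hΞ2 hΞ3 hΞ4 htors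
    x y dx dy hx hy hdx hdy hxH hreg
  -- `R` is Gorenstein
  have hdimA : ringKrullDim (Localization.AtPrime S.m.toIdeal) = n := by
    rw [IsLocalization.AtPrime.ringKrullDim_eq_height S.m.toIdeal
      (Localization.AtPrime S.m.toIdeal), hht]
    rfl
  haveI hCMA : LocCoh.IsCohenMacaulayLocalRing (Localization.AtPrime S.m.toIdeal) :=
    hCM.isCohenMacaulayLocalRing_localization S.m.toIdeal
  have hX : IsStarInj 𝒜 (pieceA K 𝒜) :=
    isStarInj_of_subK K 𝒜 _ (isStarInj_of_isGDual (subK K 𝒜) _ _ (isGDual _))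
  have hG := Groth.Agent.Lib.LeadCan.isGorensteinLocalRing_localization_of_isStarInj 𝒜 S.m
    (pieceA K 𝒜) hX n S.E f hdimA
  refine ⟨Groth.Agent.Lib.LeadCan.isGorensteinRing_of_isGorensteinLocalRing_localization 𝒜 S.m
    hm hG, -g' * q, ?_, ⟨-g', by ring⟩⟩
  -- the a-invariant
  obtain ⟨ε₀, hε0, hε1⟩ := exists_counit (subK K 𝒜)
  have hε0ne : ε₀ ≠ 0 := by
    intro h
    rw [h, map_zero, LinearMap.zero_apply] at hε1
    exact zero_ne_one hε1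
  apply endDeg_eq_of
  · intro j hj
    rw [AddSubgroup.eq_bot_iff_forall]
    intro h hh
    have h1 := hf j h hh
    have h3 : f h = 0 :=
      Groth.Agent.Lib.Helper24GrDual2.D_pos_eq_zero (subK K 𝒜) (piece (subK K 𝒜))
        (ev (subK K 𝒜)) hposK (isGDual _) (by omega) h1
    exact f.injective (h3.trans (map_zero f).symm)
  · intro hbot
    have h1 := Groth.Agent.Lib.T2H3.GorCanon.symm_deg (S.E.Hgr S.m n) (pieceA K 𝒜) f
      (-(-g' * q)) hf hε0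
    have e1 : (0 : ℤ) - -(-g' * q) = -g' * q := by ring
    rw [e1, hbot, AddSubgroup.mem_bot] at h1
    exact hε0ne (f.symm.injective (h1.trans (map_zero f.symm).symm))

end Groth.Agent.Lib.T2H3.Ver
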