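import Groth.Agent.Lib.T2H3KunZK
import Groth.Agent.Lib.T2H3KunZJ
import Groth.Agent.Lib.T2H3VerU
import Groth.Agent.Lib.T2H3KunY
import Groth.Agent.S13244
import Groth.Agent.S18650

/-! Künneth formula for Segre products (helper3), part ZL: graded duals and shifts; the top local
cohomology of a Gorenstein graded ring over a field is the graded dual of a shift of the ring, and
conversely. -/

set_option autoImplicit false
set_option linter.unusedSectionVars false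
set_option linter.style.haveILetI false
open DirectSum
open scoped TensorProduct

noncomputable section

namespace Groth.Agent.Lib.T2H3.Kun

open Groth.Agent.Lib.T2H3.GrTr Groth.Agent.Lib GrLC Groth.Agent.Lib.Helper29GrShift
  Groth.Agent.Lib.T2H3.GrLes Groth.Agent.Lib.T2H3.GrArt Groth.Agent.Lib.T2H3.GDual

universe u

section Reindex

variable {k : Type u} [Field k] {R : Type u} [CommRing R] [Algebra k R]
  {M : Type u} [AddCommGroup M] [Module R M] [Module k M] [IsScalarTower k R M]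
  {τ : Type u} [SetLike τ M] [AddSubgroupClass τ M]
  {τ₂ : Type u} [SetLike τ₂ M] [AddSubgroupClass τ₂ M]
  (ℳ : ℤ → τ) [DirectSum.Decomposition ℳ] (ℳ' : ℤ → τ₂) [DirectSum.Decomposition ℳ']
  {D : Type u} [AddCommGroup D] [Module R D] [Module k D] [IsScalarTower k R D]
  (𝒟 : ℤ → AddSubgroup D) [DirectSum.Decomposition 𝒟]
  (𝒟' : ℤ → AddSubgroup D) [DirectSum.Decomposition 𝒟']
  {β : D →ₗ[k] M →ₗ[k] k}

/-- Reindexing a graded dual: shifting the module by `-c` and the dual by `c`. -/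
theorem isGDual_reindex (hD : GrSeg.IsGDual R ℳ 𝒟 β) (c : ℤ)
    (hM : ∀ j x, x ∈ ℳ' j ↔ x ∈ ℳ (j - c)) (hD' : ∀ n d, d ∈ 𝒟' n ↔ d ∈ 𝒟 (n + c)) :
    GrSeg.IsGDual R ℳ' 𝒟' β := by
  refine ⟨hD.map_smul, ?_, ?_, ?_⟩
  · intro n d hd m hm x hx
    exact hD.vanish (n + c) d ((hD' n d).1 hd) (m - c) (by omega) x ((hM m x).1 hx)
  · intro n d hd h
    refine hD.eq_zero (n + c) d ((hD' n d).1 hd) fun x hx => h x ?_
    rw [hM]
    have e : -n - c = -(n + c) := by ring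
    rw [e]
    exact hx
  · intro n g
    obtain ⟨d, hd, h⟩ := hD.exists_eq (n + c) g
    refine ⟨d, (hD' n d).2 hd, fun x hx => h x ?_⟩
    have h1 := (hM (-n) x).1 hx
    have e : -n - c = -(n + c) := by ring
    rw [e] at h1
    exact h1

end Reindex

section EndDeg

variable {k : Type u} [Field k] {R : Type u} [CommRing R] [Algebra k R] [Nontrivial R]
  (𝒜 : ℤ → Submodule k R) [GradedAlgebra 𝒜] (hpos : ∀ n : ℤ, n < 0 → 𝒜 n = ⊥)
  {D : Type u} [AddCommGroup D] [Module R D] [Module k D] [IsScalarTower k R D]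
  (𝒟 : ℤ → AddSubgroup D) [DirectSum.Decomposition 𝒟]
  {β : D →ₗ[k] R →ₗ[k] k}

include hpos in
/-- The end of the graded dual of `R(a)` is `a`. -/
theorem endDeg_of_isGDual_shift (a : ℤ)
    (hD : GrSeg.IsGDual R (shiftGr (asGr 𝒜) a) 𝒟 β) :
    endDeg 𝒟 = ((a : WithTop ℤ) : WithBot (WithTop ℤ)) := by
  apply Groth.Agent.Lib.T2H3.Ver.endDeg_eq_of
  · intro j hj
    rw [eq_bot_iff]
    intro d hd
    rw [AddSubgroup.mem_bot]
    refine hD.eq_zero j d hd fun x hx => ?_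
    have hx' : x ∈ 𝒜 (-j + a) := hx
    rw [hpos _ (by omega), Submodule.mem_bot] at hx'
    rw [hx', map_zero]
  · intro hbot
    obtain ⟨f, hf⟩ : ∃ f : R →ₗ[k] k, f 1 ≠ 0 := by
      by_contra hcon
      push Not at hcon
      exact one_ne_zero ((Module.forall_dual_apply_eq_zero_iff k (1 : R)).1 hcon)
    obtain ⟨d, hd, h⟩ := hD.exists_eq a f
    rw [hbot, AddSubgroup.mem_bot] at hd
    have h1 : (1 : R) ∈ shiftGr (asGr 𝒜) a (-a) := by
      change (1 : R) ∈ 𝒜 (-a + a)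
      rw [neg_add_cancel]
      exact SetLike.one_mem_graded 𝒜
    have h2 := h 1 h1
    rw [hd, map_zero, LinearMap.zero_apply] at h2
    exact hf h2.symm

end EndDeg

section Gor

variable (k : Type u) [Field k] {R : Type u} [CommRing R] [Algebra k R] [Nontrivial R]
  (𝒜 : ℤ → Submodule k R) [GradedAlgebra 𝒜]
  (hpos : ∀ n : ℤ, n < 0 → 𝒜 n = ⊥) (h0 : 𝒜 0 = Submodule.span k {(1 : R)})
  (mR : HomogeneousIdeal 𝒜)
  (hmR : mR.toIdeal = Ideal.span (⋃ n ∈ Set.Ioi (0 : ℤ), (𝒜 n : Set R)))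
  (I : StarInjRes 𝒜 𝒜) (n : ℕ) (hn : ringKrullDim R = n)
  [Module k (I.H mR n)] [IsScalarTower k R (I.H mR n)]
  [DirectSum.Decomposition (I.Hgr mR n)]

include hpos h0 hmR hn in
theorem height_eq_of_dim [IsNoetherianRing R] : (hiTo 𝒜 mR).toIdeal.height = n := by
  have hm := isStarLocal_asGr 𝒜 hpos h0 mR hmR
  have h1 := Groth.Agent.Lib.T2H3.GrDim.ringKrullDim_eq_height_of_isStarLocal
    (hposAs 𝒜 hpos) hm
  rw [hn] at h1
  exact_mod_cast h1.symm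

include hpos h0 hmR hn in
/-- The top local cohomology of a Gorenstein graded ring over a field is the graded dual of a
shift of the ring. -/
theorem exists_isGDual_of_gorenstein [LocCoh.IsGorensteinRing R] :
    ∃ (a : ℤ) (β : I.H mR n →ₗ[k] R →ₗ[k] k),
      GrSeg.IsGDual R (shiftGr (asGr 𝒜) a) (I.Hgr mR n) β := by
  classical
  haveI KG : KGraded k (asGr 𝒜) := ⟨fun c => SetLike.algebraMap_mem_graded 𝒜 c⟩
  have h0K : ∀ x ∈ asGr 𝒜 0, ∃ c : k, algebraMap k R c = x := by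
    intro x hx
    have hx' : x ∈ 𝒜 0 := hx
    rw [h0] at hx'
    obtain ⟨c, rfl⟩ := Submodule.mem_span_singleton.mp hx'
    exact ⟨c, Algebra.algebraMap_eq_smul_one c⟩
  have hm := isStarLocal_asGr 𝒜 hpos h0 mR hmR
  have hht := height_eq_of_dim k 𝒜 hpos h0 mR hmR n hn
  obtain ⟨e, he⟩ := exists_hullA k (asGr 𝒜) (hposAs 𝒜 hpos) h0K (hiTo 𝒜 mR) hmR
  obtain ⟨g, φ, hφ⟩ : ∃ (g : ℤ) (φ : I.H mR n ≃ₗ[R] GDK k (asGr 𝒜)),
      IsGrHomDeg (I.Hgr mR n) (pieceA k (asGr 𝒜)) φ.toLinearMap g :=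
    Groth.Agent.S13244.result R (asGr 𝒜) (hiTo 𝒜 mR) hm n hht
      (resTo 𝒜 𝒜 I) (GDK k (asGr 𝒜)) (pieceA k (asGr 𝒜)) e he
  have hE := isGDual (subK k (asGr 𝒜))
  have hE' : GrSeg.IsGDual R (shiftGr (asGr 𝒜) (-g)) (shiftGr (pieceA k (asGr 𝒜)) g)
      (ev (subK k (asGr 𝒜))) := by
    refine isGDual_reindex (subK k (asGr 𝒜)) (shiftGr (asGr 𝒜) (-g)) (pieceA k (asGr 𝒜))
      (shiftGr (pieceA k (asGr 𝒜)) g) hE g (fun j x => ?_) (fun n d => Iff.rfl)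
    change x ∈ 𝒜 (j + -g) ↔ x ∈ 𝒜 (j - g)
    rw [sub_eq_add_neg]
  have hsymm : ∀ j, ∀ d ∈ shiftGr (pieceA k (asGr 𝒜)) g j, φ.symm d ∈ I.Hgr mR n j := by
    intro j d hd
    have h1 := Groth.Agent.Lib.T2H3.GorCanon.symm_deg (I.Hgr mR n)
      (pieceA k (asGr 𝒜)) φ g hφ (i := j + g) (b := d) hd
    rwa [add_sub_cancel_right] at h1
  exact ⟨-g, _, Groth.Agent.Lib.T2H3.GDualU.isGDual_comp (shiftGr (asGr 𝒜) (-g)) (I.Hgr mR n)
    (shiftGr (pieceA k (asGr 𝒜)) g) hE' φ (fun j d hd => hφ j d hd) hsymm⟩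

include hpos h0 hmR hn in
/-- A Cohen–Macaulay graded ring over a field whose top local cohomology is the graded dual of a
shift of the ring is Gorenstein. -/
theorem isGorensteinRing_of_isGDual_shift [LocCoh.IsCohenMacaulayRing R] (a : ℤ)
    {β : I.H mR n →ₗ[k] R →ₗ[k] k}
    (hβ : GrSeg.IsGDual R (shiftGr (asGr 𝒜) a) (I.Hgr mR n) β) :
    LocCoh.IsGorensteinRing R := by
  classical
  have hm := isStarLocal_asGr 𝒜 hpos h0 mR hmR
  have hht := height_eq_of_dim k 𝒜 hpos h0 mR hmR n hn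
  haveI gsH : SetLike.GradedSMul (asGr 𝒜) ((resTo 𝒜 𝒜 I).Hgr (hiTo 𝒜 mR) n) :=
    Hgr_gradedSMul (resTo 𝒜 𝒜 I) (hiTo 𝒜 mR) n
  haveI gsH' : SetLike.GradedSMul 𝒜 (I.Hgr mR n) :=
    gradedSMul_of_asGr 𝒜 _ gsH
  haveI gsS : SetLike.GradedSMul 𝒜 (shiftGr (I.Hgr mR n) a) :=
    shift_gradedSMul_gen 𝒜 (I.Hgr mR n) a
  have h1 : GrSeg.IsGDual R 𝒜 (shiftGr (I.Hgr mR n) a) β := by
    refine isGDual_reindex (shiftGr (asGr 𝒜) a) 𝒜 (I.Hgr mR n) (shiftGr (I.Hgr mR n) a) hβ a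
      (fun j x => ?_) (fun n d => Iff.rfl)
    change x ∈ 𝒜 j ↔ x ∈ 𝒜 (j - a + a)
    rw [sub_add_cancel]
  have h2 : IsStarInj 𝒜 (shiftGr (I.Hgr mR n) a) := isStarInj_of_isGDual 𝒜 _ β h1
  have h3 : IsStarInj (asGr 𝒜) (shiftGr (I.Hgr mR n) a) := isStarInj_asGr 𝒜 _ h2
  have h4 := isStarInj_shift (GMod.of (asGr 𝒜) (I.H mR n) (shiftGr (I.Hgr mR n) a)) h3 (-a)
  refine (Groth.Agent.S18650.result R (asGr 𝒜) (hiTo 𝒜 mR) hm n hht (resTo 𝒜 𝒜 I)).2
    ⟨shiftGMod (GMod.of (asGr 𝒜) (I.H mR n) (shiftGr (I.Hgr mR n) a)) (-a),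
      LinearEquiv.refl R _, h4, fun j x hx => ?_⟩
  change x ∈ I.Hgr mR n (j + -a + a)
  rw [neg_add_cancel_right]
  exact hx

end Gor

end Groth.Agent.Lib.T2H3.Kun
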