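import Groth.Agent.Lib.T2H3GDualC

/-! Künneth formula for Segre products (helper3), part ZM: the graded module `*Hom(C, E)` of a
finitely generated graded module `C` is the direct sum of its pieces; a graded dual of `C` is
`*Hom(C, E)` for `E` a graded dual of the ring. -/

set_option autoImplicit false
set_option linter.unusedSectionVars false
set_option linter.style.haveILetI false
open DirectSum

noncomputable section

namespace Groth.Agent.Lib.T2H3.Kun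

open GrLC Groth.Agent.Lib.Helper29GrBaer Groth.Agent.Lib.T2H3.GDual Groth.Agent.Lib.T2H3.GDualU

universe u

section HomDec

variable {ι : Type} [AddCommGroup ι] [DecidableEq ι]
variable {R : Type u} [CommRing R] (𝒜 : ι → AddSubgroup R) [GradedRing 𝒜]
variable {A : Type u} [AddCommGroup A] [Module R A] (𝓐 : ι → AddSubgroup A)
  [DirectSum.Decomposition 𝓐] [SetLike.GradedSMul 𝒜 𝓐]
variable {I : Type u} [AddCommGroup I] [Module R I] (ℐ : ι → AddSubgroup I)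
  [DirectSum.Decomposition ℐ] [SetLike.GradedSMul 𝒜 ℐ]

/-- The pieces of `*Hom(A, I)`. -/
def homPc (d : ι) : AddSubgroup (A →ₗ[R] I) := (homDeg 𝒜 𝓐 ℐ d).toAddSubgroup

theorem mem_homPc {d : ι} {φ : A →ₗ[R] I} : φ ∈ homPc 𝒜 𝓐 ℐ d ↔ IsGrHomDeg 𝓐 ℐ φ d := Iff.rfl

theorem part_add (φ φ' : A →ₗ[R] I) (d : ι) :
    part 𝒜 𝓐 ℐ (φ + φ') d = part 𝒜 𝓐 ℐ φ d + part 𝒜 𝓐 ℐ φ' d := by
  classical
  apply LinearMap.ext
  intro a
  induction a using DirectSum.Decomposition.inductionOn 𝓐 with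
  | zero => rw [map_zero, map_zero]
  | @homogeneous g a =>
    rw [LinearMap.add_apply, part_of_mem 𝒜 𝓐 ℐ _ d a.2, part_of_mem 𝒜 𝓐 ℐ _ d a.2,
      part_of_mem 𝒜 𝓐 ℐ _ d a.2, LinearMap.add_apply, DirectSum.decompose_add,
      DirectSum.add_apply, AddSubgroup.coe_add]
  | add a b ha hb => rw [map_add, ha, hb, map_add]

theorem part_zero (d : ι) : part 𝒜 𝓐 ℐ (0 : A →ₗ[R] I) d = 0 := by
  have h := part_add 𝒜 𝓐 ℐ (0 : A →ₗ[R] I) 0 d
  rw [add_zero] at h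
  exact left_eq_add.mp h

theorem part_of_isGrHomDeg {ψ : A →ₗ[R] I} {d : ι} (hψ : IsGrHomDeg 𝓐 ℐ ψ d) (d' : ι) :
    part 𝒜 𝓐 ℐ ψ d' = if d' = d then ψ else 0 := by
  classical
  apply LinearMap.ext
  intro a
  induction a using DirectSum.Decomposition.inductionOn 𝓐 with
  | zero => rw [map_zero, map_zero]
  | @homogeneous g a =>
    rw [part_of_mem 𝒜 𝓐 ℐ _ d' a.2]
    split_ifs with h
    · rw [h]
      exact DirectSum.decompose_of_mem_same ℐ (hψ g a a.2)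
    · rw [LinearMap.zero_apply]
      exact DirectSum.decompose_of_mem_ne ℐ (hψ g a a.2) (fun h' => h (add_left_cancel h').symm)
  | add a b ha hb => rw [map_add, ha, hb, map_add]

theorem part_coe (x : ⨁ d, homPc 𝒜 𝓐 ℐ d) (d₀ : ι) :
    part 𝒜 𝓐 ℐ (DirectSum.coeAddMonoidHom (homPc 𝒜 𝓐 ℐ) x) d₀ = (x d₀ : A →ₗ[R] I) := by
  classical
  induction x using DirectSum.induction_on with
  | zero =>
    rw [map_zero, part_zero]
    rfl
  | of d y =>
    rw [DirectSum.coeAddMonoidHom_of, part_of_isGrHomDeg 𝒜 𝓐 ℐ y.2 d₀]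
    split_ifs with h
    · subst h
      rw [DirectSum.of_eq_same]
    · rw [DirectSum.of_eq_of_ne (β := fun d => homPc 𝒜 𝓐 ℐ d) d d₀ y h]
      rfl
  | add x y hx hy =>
    rw [map_add, part_add, hx, hy, DirectSum.add_apply, AddSubgroup.coe_add]

theorem isInternal_homPc [Module.Finite R A] : DirectSum.IsInternal (homPc 𝒜 𝓐 ℐ) := by
  classical
  constructor
  · intro x y hxy
    apply DFinsupp.ext
    intro d
    apply Subtype.ext
    rw [← part_coe 𝒜 𝓐 ℐ x d, ← part_coe 𝒜 𝓐 ℐ y d, hxy]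
  · intro φ
    obtain ⟨D, hD⟩ := exists_sum_part 𝒜 𝓐 ℐ φ
    refine ⟨∑ d ∈ D, DirectSum.of (fun d => homPc 𝒜 𝓐 ℐ d) d
      ⟨part 𝒜 𝓐 ℐ φ d, part_isGrHomDeg 𝒜 𝓐 ℐ φ d⟩, ?_⟩
    rw [map_sum]
    simp only [DirectSum.coeAddMonoidHom_of]
    exact hD

/-- `*Hom(A, I)` of a finitely generated graded module is the direct sum of its pieces. -/
@[instance_reducible]
def homDecomposition [Module.Finite R A] : DirectSum.Decomposition (homPc 𝒜 𝓐 ℐ) :=
  (isInternal_homPc 𝒜 𝓐 ℐ).chooseDecomposition _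

end HomDec

section Equiv

variable (K : Type u) [Field K] {R : Type u} [CommRing R] [Algebra K R]
  (𝒜 : ℤ → AddSubgroup R) [GradedRing 𝒜] [KGraded K 𝒜]
  {E : Type u} [AddCommGroup E] [Module R E] [Module K E] [IsScalarTower K R E]
  (𝓔 : ℤ → AddSubgroup E) [DirectSum.Decomposition 𝓔] [SetLike.GradedSMul 𝒜 𝓔]
  {βE : E →ₗ[K] R →ₗ[K] K} (hE : GrSeg.IsGDual R (subK K 𝒜) 𝓔 βE)
  {C : Type u} [AddCommGroup C] [Module R C] [Module K C] [IsScalarTower K R C]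
  (𝒞 : ℤ → AddSubgroup C) [DirectSum.Decomposition 𝒞] [SetLike.GradedSMul 𝒜 𝒞]
  {H : Type u} [AddCommGroup H] [Module R H] [Module K H] [IsScalarTower K R H]
  (𝓗 : ℤ → AddSubgroup H) [DirectSum.Decomposition 𝓗]
  {β : H →ₗ[K] C →ₗ[K] K} (hH : GrSeg.IsGDual R 𝒞 𝓗 β)

include hE hH in
/-- A graded dual of a finitely generated graded module `C` is `*Hom(C, E)`, for `E` a graded dual
of the ring. -/
theorem exists_homEquiv_of_isGDual [Module.Finite R C] :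
    ∃ F : (C →ₗ[R] E) ≃ₗ[R] H, ∀ (d : ℤ) (ψ : C →ₗ[R] E), IsGrHomDeg 𝒞 𝓔 ψ d → F ψ ∈ 𝓗 d := by
  classical
  letI := homDecomposition 𝒜 𝒞 𝓔
  have h1 : GrSeg.IsGDual R 𝒞 (homPc 𝒜 𝒞 𝓔)
      (pairH K (LinearEquiv.refl R (C →ₗ[R] E)) βE) :=
    isGDual_hom K 𝒜 𝓔 hE 𝒞 (homPc 𝒜 𝒞 𝓔) (LinearEquiv.refl R (C →ₗ[R] E))
      (fun d ψ hψ => hψ)
  obtain ⟨θ, -, hθ, -⟩ := exists_equiv_of_isGDual 𝒞 (homPc 𝒜 𝒞 𝓔) 𝓗 h1 hH
  exact ⟨θ, fun d ψ hψ => hθ d ψ hψ⟩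

end Equiv

end Groth.Agent.Lib.T2H3.Kun
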