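import Groth.Agent.Lib.T2H3VerR
import Groth.Agent.Lib.T2H3KunZL

/-! Künneth formula for Segre products (helper3), part ZN: a graded module `H` over a graded ring
`R` of depth at least two, bounded above, whose pairing into its piece of degree `a` is perfect in
degrees at most `a`, is the graded dual of `R(a)`. -/

set_option autoImplicit false
set_option linter.unusedSectionVars false
set_option linter.style.haveILetI false
set_option maxHeartbeats 1000000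
open DirectSum

noncomputable section

namespace Groth.Agent.Lib.T2H3.Kun

open GrLC Groth.Agent.Lib.T2H3.GDual Groth.Agent.Lib.T2H3.Ver Groth.Agent.Lib.T2H3.GrTr
  Groth.Agent.Lib.Helper29GrShift

universe u

theorem exists_equiv_gdual_of_top_pairing {K : Type u} [Field K] {R : Type u} [CommRing R]
    [Algebra K R] (𝒜 : ℤ → Submodule K R) [GradedAlgebra 𝒜]
    (hpos : ∀ n : ℤ, n < 0 → 𝒜 n = ⊥)
    {H : Type u} [AddCommGroup H] [Module R H] [Module K H] [IsScalarTower K R H]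
    (𝓗 : ℤ → AddSubgroup H) [DirectSum.Decomposition 𝓗] [SetLike.GradedSMul 𝒜 𝓗]
    (lam : H →ₗ[K] K) (a : ℤ) (hlam : Groth.Agent.Lib.LeadGD.IsHomFun 𝓗 lam a)
    (hinjle : ∀ i : ℤ, i ≤ a → ∀ h ∈ 𝓗 i, (∀ r ∈ 𝒜 (a - i), lam (r • h) = 0) → h = 0)
    (hsurjle : ∀ i : ℤ, i ≤ a → ∀ g : R →ₗ[K] K,
      ∃ h ∈ 𝓗 i, ∀ r ∈ 𝒜 (a - i), lam (r • h) = g r)
    (b : ℤ) (hbd : ∀ i : ℤ, b < i → 𝓗 i = ⊥)
    (x y : R) (dx dy : ℤ) (hx : x ∈ 𝒜 dx) (hy : y ∈ 𝒜 dy) (hdx : b - a ≤ dx)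
    (hdy : b - a ≤ dy)
    (hxH : ∀ (i : ℤ) (h : H), h ∈ 𝓗 i → ∃ h₁ ∈ 𝓗 (i - dx), x • h₁ = h)
    (hreg : ∀ r : R, (∃ s, y * r = x * s) → ∃ s, r = x * s) :
    ∃ f : H ≃ₗ[R] GD 𝒜, IsGrHomDeg 𝓗 (piece 𝒜) f.toLinearMap (-a) := by
  classical
  have hD := isGDual 𝒜
  -- the map
  obtain ⟨f, hfdef⟩ : ∃ f : H →ₗ[R] GD 𝒜,
      f = Groth.Agent.Lib.LeadGD.homMap 𝒜 𝓗 (piece 𝒜) hD hlam := ⟨_, rfl⟩
  have hfev : ∀ (h : H) (r : R), ev 𝒜 (f h) r = lam (r • h) := by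
    intro h r
    rw [hfdef]
    exact Groth.Agent.Lib.LeadGD.pair_homMap 𝒜 𝓗 (piece 𝒜) hD hlam h r
  have hfgr : ∀ (i : ℤ) (h : H), h ∈ 𝓗 i → f h ∈ piece 𝒜 (i - a) := by
    intro i h hh
    rw [hfdef]
    exact Groth.Agent.Lib.LeadGD.homMap_mem 𝒜 𝓗 (piece 𝒜) hD hlam hh
  -- surjectivity on homogeneous elements
  have hsurj : ∀ (d : ℤ) (η : GD 𝒜), η ∈ piece 𝒜 d → ∃ h ∈ 𝓗 (d + a), f h = η := by
    intro d η hη
    by_cases hd : d ≤ 0
    · obtain ⟨h, hh, hhg⟩ := hsurjle (d + a) (by omega) (ev 𝒜 η)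
      refine ⟨h, hh, ?_⟩
      have hmem : f h ∈ piece 𝒜 d := by
        have h1 := hfgr _ h hh
        rwa [add_sub_cancel_right] at h1
      have h2 : f h - η = 0 := by
        refine hD.eq_zero d _ (sub_mem hmem hη) ?_
        intro r hr
        have hr' : r ∈ 𝒜 (a - (d + a)) := by
          have e : a - (d + a) = -d := by ring
          rw [e]
          exact hr
        rw [map_sub, LinearMap.sub_apply]
        change ev 𝒜 (f h) r - ev 𝒜 η r = 0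
        rw [hfev, hhg r hr', sub_self]
      exact sub_eq_zero.1 h2
    · refine ⟨0, zero_mem _, ?_⟩
      rw [map_zero]
      symm
      refine hD.eq_zero d η hη ?_
      intro r hr
      rw [hpos (-d) (by omega), Submodule.mem_bot] at hr
      rw [hr, map_zero]
  -- injectivity in degrees at most `a`
  have hinjle' : ∀ (i : ℤ), i ≤ a → ∀ h ∈ 𝓗 i, f h = 0 → h = 0 := by
    intro i hi h hh hfh
    refine hinjle i hi h hh fun r _ => ?_
    rw [← hfev, hfh, map_zero, LinearMap.zero_apply]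
  -- the kernel is killed by high degrees
  have hkill : ∀ (i : ℤ) (h : H), h ∈ 𝓗 i → f h = 0 →
      ∀ k, b - a ≤ k → ∀ r ∈ 𝒜 k, r • h = 0 := by
    intro i h hh hfh k hk r hr
    by_cases hi : i ≤ a
    · rw [hinjle' i hi h hh hfh, smul_zero]
    · have hmem : r • h ∈ 𝓗 (k + i) := SetLike.GradedSMul.smul_mem hr hh
      rw [hbd (k + i) (by omega), AddSubgroup.mem_bot] at hmem
      exact hmem
  -- injectivity on homogeneous elements
  have hinj : ∀ (i : ℤ) (n₀ : H), n₀ ∈ 𝓗 i → f n₀ = 0 → n₀ = 0 := by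
    intro i n₀ hn₀ hfn₀
    obtain ⟨h₁, hh₁, hxh₁⟩ := hxH i n₀ hn₀
    have he₁ : f h₁ ∈ piece 𝒜 (i - dx - a) := hfgr _ h₁ hh₁
    have hxe₁ : x • f h₁ = 0 := by rw [← map_smul, hxh₁, hfn₀]
    obtain ⟨e₂, he₂, hxe₂, hye₂⟩ := exists_div 𝒜 x y hx hy hreg _ (f h₁) he₁ hxe₁
    obtain ⟨h₂, hh₂, hfh₂⟩ := hsurj _ e₂ he₂
    have hyh₂ : y • h₂ ∈ 𝓗 (i - dx) := by
      have h3 := SetLike.GradedSMul.smul_mem (A := 𝒜) (B := 𝓗) hy hh₂
      rw [vadd_eq_add] at h3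
      have e1 : dy + (i - dx - a - dy + a) = i - dx := by ring
      rwa [e1] at h3
    have hz : h₁ - y • h₂ ∈ 𝓗 (i - dx) := sub_mem hh₁ hyh₂
    have hfz : f (h₁ - y • h₂) = 0 := by rw [map_sub, map_smul, hfh₂, hye₂, sub_self]
    have h3 : x • (h₁ - y • h₂) = 0 := hkill _ _ hz hfz dx hdx x hx
    have hxh₂ : x • h₂ ∈ 𝓗 (dx + (i - dx - a - dy + a)) := by
      have h5 := SetLike.GradedSMul.smul_mem (A := 𝒜) (B := 𝓗) hx hh₂
      rwa [vadd_eq_add] at h5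
    have hfxh₂ : f (x • h₂) = 0 := by rw [map_smul, hfh₂, hxe₂]
    have h4 : y • (x • h₂) = 0 := hkill _ _ hxh₂ hfxh₂ dy hdy y hy
    rw [smul_sub, sub_eq_zero, hxh₁] at h3
    rw [h3, smul_comm, h4]
  have hgrdeg : ∀ j, ∀ c ∈ 𝓗 j, f c ∈ piece 𝒜 (j + -a) := by
    intro j c hc
    have h1 := hfgr j c hc
    rwa [sub_eq_add_neg] at h1
  have hfinj : Function.Injective f :=
    injective_of_homogeneous 𝓗 (piece 𝒜) f.toAddMonoidHom (-a) hgrdeg hinj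
  have hfsurj : Function.Surjective f :=
    surjective_of_homogeneous (piece 𝒜) f.toAddMonoidHom (fun j c hc => by
      obtain ⟨h, -, hh⟩ := hsurj j c hc
      exact ⟨h, hh⟩)
  exact ⟨LinearEquiv.ofBijective f ⟨hfinj, hfsurj⟩, hgrdeg⟩

section ToDual

variable {K : Type u} [Field K] {R : Type u} [CommRing R] [Algebra K R]
  (𝒜 : ℤ → Submodule K R) [GradedAlgebra 𝒜]
  {H : Type u} [AddCommGroup H] [Module R H] [Module K H] [IsScalarTower K R H]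
  (𝓗 : ℤ → AddSubgroup H) [DirectSum.Decomposition 𝓗]

/-- A graded module isomorphic to the graded dual of the ring by a map of degree `-a` is a graded
dual of `R(a)`. -/
theorem exists_isGDual_shift_of_equiv (a : ℤ) (f : H ≃ₗ[R] GD 𝒜)
    (hf : IsGrHomDeg 𝓗 (piece 𝒜) f.toLinearMap (-a)) :
    ∃ β : H →ₗ[K] R →ₗ[K] K, GrSeg.IsGDual R (shiftGr (asGr 𝒜) a) 𝓗 β := by
  classical
  have hE := isGDual 𝒜
  have hE' : GrSeg.IsGDual R (shiftGr (asGr 𝒜) a) (shiftGr (piece 𝒜) (-a)) (ev 𝒜) := by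
    refine isGDual_reindex 𝒜 (shiftGr (asGr 𝒜) a) (piece 𝒜) (shiftGr (piece 𝒜) (-a)) hE (-a)
      (fun j x => ?_) (fun n d => Iff.rfl)
    change x ∈ 𝒜 (j + a) ↔ x ∈ 𝒜 (j - -a)
    rw [sub_neg_eq_add]
  have hsymm : ∀ j, ∀ d ∈ shiftGr (piece 𝒜) (-a) j, f.symm d ∈ 𝓗 j := by
    intro j d hd
    have h1 := Groth.Agent.Lib.T2H3.GorCanon.symm_deg 𝓗 (piece 𝒜) f (-a) hf (i := j + -a)
      (b := d) hd
    rwa [add_sub_cancel_right] at h1
  exact ⟨_, Groth.Agent.Lib.T2H3.GDualU.isGDual_comp (shiftGr (asGr 𝒜) a) 𝓗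
    (shiftGr (piece 𝒜) (-a)) hE' f (fun j d hd => hf j d hd) hsymm⟩

end ToDual

end Groth.Agent.Lib.T2H3.Kun
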