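import Groth.Agent.Lib.T2H3KunZN
import Groth.Agent.Lib.LeadSPe

/-! Künneth formula for Segre products (helper3), part ZO: if the Segre product `H_R # H_S` is the
graded dual of `T(a)`, then the pairings of `H_R` and `H_S` into their pieces of degree `a` are
perfect in degrees at most `a`. -/

set_option autoImplicit false
set_option linter.unusedSectionVars false
set_option linter.style.haveILetI false
set_option maxHeartbeats 1000000
open DirectSum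
open scoped TensorProduct

noncomputable section

namespace Groth.Agent.Lib.T2H3.Kun

open GrLC Groth.Agent.Lib.T2H3.GDual Groth.Agent.Lib.T2H3.Ver Groth.Agent.Lib.T2H3.GrTr
  Groth.Agent.Lib.Helper29GrShift Groth.Agent.Lib.LeadGD

universe u

section SmulPair

variable {k : Type u} [Field k] {R : Type u} [CommRing R] [Algebra k R]
  {D : Type u} [AddCommGroup D] [Module R D] [Module k D] [IsScalarTower k R D]

/-- The pairing `(h, r) ↦ lam (r • h)`. -/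
def smulPair (lam : D →ₗ[k] k) : D →ₗ[k] R →ₗ[k] k :=
  LinearMap.mk₂ k (fun h r => lam (r • h))
    (fun h₁ h₂ r => by rw [smul_add, map_add])
    (fun c h r => by rw [smul_comm, map_smul])
    (fun h r₁ r₂ => by rw [add_smul, map_add])
    (fun c h r => by rw [smul_assoc, map_smul])

theorem smulPair_apply (lam : D →ₗ[k] k) (h : D) (r : R) : smulPair lam h r = lam (r • h) := rfl

theorem smulPair_smul (lam : D →ₗ[k] k) (r : R) (h : D) (x : R) :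
    smulPair lam (r • h) x = smulPair lam h (r • x) := by
  rw [smulPair_apply, smulPair_apply, smul_smul, smul_eq_mul, mul_comm]

end SmulPair

section Main

variable {k : Type u} [Field k] {R S T : Type u} [CommRing R] [CommRing S] [CommRing T]
  [Algebra k R] [Algebra k S] [Algebra k T] [Nontrivial T]
  (𝒜 : ℤ → Submodule k R) [GradedAlgebra 𝒜] (ℬ : ℤ → Submodule k S) [GradedAlgebra ℬ]
  (𝒯 : ℤ → Submodule k T) [GradedAlgebra 𝒯] (ψ : T →ₐ[k] R ⊗[k] S)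
  (hT : GrSeg.IsSegreRing 𝒜 ℬ 𝒯 ψ) (h0T : 𝒯 0 = Submodule.span k {(1 : T)})
variable {DM : Type u} [AddCommGroup DM] [Module R DM] [Module k DM] [IsScalarTower k R DM]
  (𝒟M : ℤ → AddSubgroup DM) [DirectSum.Decomposition 𝒟M] [SetLike.GradedSMul 𝒜 𝒟M]
variable {DN : Type u} [AddCommGroup DN] [Module S DN] [Module k DN] [IsScalarTower k S DN]
  (𝒟N : ℤ → AddSubgroup DN) [DirectSum.Decomposition 𝒟N] [SetLike.GradedSMul ℬ 𝒟N]
variable {DP : Type u} [AddCommGroup DP] [Module T DP] [Module k DP] [IsScalarTower k T DP]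
  (𝒟P : ℤ → AddSubgroup DP) [DirectSum.Decomposition 𝒟P] [SetLike.GradedSMul 𝒯 𝒟P]
variable (Θ : DP →ₗ[k] DM ⊗[k] DN) (hΘ : GrSeg.IsSegreMod ψ 𝒟M 𝒟N 𝒟P Θ)
  (a : ℤ) {βT : DP →ₗ[k] T →ₗ[k] k}
  (hβT : GrSeg.IsGDual T (shiftGr (asGr 𝒯) a) 𝒟P βT)

theorem Θ_mem {n : ℤ} {d : DP} (hd : d ∈ 𝒟P n) (hΘ : GrSeg.IsSegreMod ψ 𝒟M 𝒟N 𝒟P Θ) :
    Θ d ∈ GrSeg.segrePiece k 𝒟M 𝒟N n := by
  have h := hΘ.image_piece n
  have h2 : Θ d ∈ Θ '' (𝒟P n : Set DP) := ⟨d, hd, rfl⟩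
  rw [h] at h2
  exact h2

theorem exists_of_mem_segrePiece {n : ℤ} {z : DM ⊗[k] DN}
    (hz : z ∈ GrSeg.segrePiece k 𝒟M 𝒟N n) (hΘ : GrSeg.IsSegreMod ψ 𝒟M 𝒟N 𝒟P Θ) :
    ∃ d ∈ 𝒟P n, Θ d = z := by
  have h := hΘ.image_piece n
  have h2 : z ∈ Θ '' (𝒟P n : Set DP) := by
    rw [h]
    exact hz
  obtain ⟨d, hd, hde⟩ := h2
  exact ⟨d, hd, hde⟩

include hT h0T hΘ hβT in
/-- The pairing of the graded dual of `T(a)` is the tensor product of two pairings into the pieces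
of degree `a`. -/
theorem exists_top_functionals :
    ∃ (lamR : DM →ₗ[k] k) (lamS : DN →ₗ[k] k), IsHomFun 𝒟M lamR a ∧ IsHomFun 𝒟N lamS a ∧
      ∀ (d : DP) (t : T), βT d t = pairT (smulPair lamR) (smulPair lamS) (Θ d) (ψ t) := by
  classical
  have one_mem : (1 : T) ∈ shiftGr (asGr 𝒯) a (-a) := by
    change (1 : T) ∈ 𝒯 (-a + a)
    rw [neg_add_cancel]
    exact SetLike.one_mem_graded 𝒯
  -- the generator of the top piece
  obtain ⟨g₁, hg₁⟩ := exists_functional_eq_one (K := k) (1 : T) one_ne_zero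
  obtain ⟨ω, hω, hωg⟩ := hβT.exists_eq a g₁
  have hω1 : βT ω 1 = 1 := by rw [hωg 1 one_mem, hg₁]
  have htop : ∀ d ∈ 𝒟P a, d = (βT d 1) • ω := by
    intro d hd
    have h1 : d - (βT d 1) • ω ∈ 𝒟P a := sub_mem hd (ksmul_mem_piece 𝒯 𝒟P _ hω)
    have h2 := hβT.eq_zero a _ h1 (fun x hx => by
      have hx' : x ∈ 𝒯 (-a + a) := hx
      rw [neg_add_cancel, h0T] at hx'
      obtain ⟨c, rfl⟩ := Submodule.mem_span_singleton.mp hx'
      rw [map_smul, map_sub, LinearMap.sub_apply, map_smul, LinearMap.smul_apply, hω1]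
      simp only [smul_eq_mul, mul_one, sub_self, mul_zero])
    exact sub_eq_zero.mp h2
  have hω0 : ω ≠ 0 := by
    intro h
    rw [h, map_zero, LinearMap.zero_apply] at hω1
    exact zero_ne_one hω1
  have hΘω0 : Θ ω ≠ 0 := fun h => hω0 (hΘ.injective (h.trans (map_zero Θ).symm))
  -- the top Segre piece is a line
  have hline : GrSeg.segrePiece k 𝒟M 𝒟N a = Submodule.span k {Θ ω} := by
    apply le_antisymm
    · intro z hz
      obtain ⟨d, hd, rfl⟩ := exists_of_mem_segrePiece ψ 𝒟M 𝒟N 𝒟P Θ hz hΘ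
      rw [htop d hd, map_smul]
      exact Submodule.smul_mem _ _ (Submodule.mem_span_singleton_self _)
    · rw [Submodule.span_le, Set.singleton_subset_iff]
      exact Θ_mem ψ 𝒟M 𝒟N 𝒟P Θ hω hΘ
  have hfr : Module.finrank k (Groth.Agent.Lib.T2H3.Seg.pcK 𝒜 𝒟M a) *
      Module.finrank k (Groth.Agent.Lib.T2H3.Seg.pcK ℬ 𝒟N a) = 1 := by
    rw [← finrank_segrePiece 𝒜 ℬ 𝒟M 𝒟N a, hline, finrank_span_singleton hΘω0]
  obtain ⟨hfrM, hfrN⟩ := mul_eq_one.mp hfr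
  obtain ⟨ξ, hξ0, hξ⟩ := finrank_eq_one_iff'.mp hfrM
  obtain ⟨η, hη0, hη⟩ := finrank_eq_one_iff'.mp hfrN
  have hξ0' : (ξ : DM) ≠ 0 := fun h => hξ0 (Subtype.ext h)
  have hη0' : (η : DN) ≠ 0 := fun h => hη0 (Subtype.ext h)
  have hle : GrSeg.segrePiece k 𝒟M 𝒟N a ≤ Submodule.span k {(ξ : DM) ⊗ₜ[k] (η : DN)} := by
    apply Submodule.span_le.mpr
    rintro _ ⟨x, hx, y, hy, rfl⟩
    obtain ⟨c₁, hc₁⟩ := hξ ⟨x, hx⟩
    obtain ⟨c₂, hc₂⟩ := hη ⟨y, hy⟩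
    have e₁ : x = c₁ • (ξ : DM) := (congrArg Subtype.val hc₁).symm
    have e₂ : y = c₂ • (η : DN) := (congrArg Subtype.val hc₂).symm
    rw [e₁, e₂, TensorProduct.smul_tmul_smul]
    exact Submodule.smul_mem _ _ (Submodule.mem_span_singleton_self _)
  obtain ⟨c₀, hc₀⟩ := Submodule.mem_span_singleton.mp
    (hle (Θ_mem ψ 𝒟M 𝒟N 𝒟P Θ hω hΘ))
  have hc₀0 : c₀ ≠ 0 := by
    intro h
    rw [h, zero_smul] at hc₀
    exact hΘω0 hc₀.symm
  -- the functionals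
  obtain ⟨fR, hfR⟩ := exists_functional_eq_one (K := k) (ξ : DM) hξ0'
  obtain ⟨fS, hfS⟩ := exists_functional_eq_one (K := k) (η : DN) hη0'
  obtain ⟨lamR, hlamRdef⟩ : ∃ lamR : DM →ₗ[k] k, lamR = fR.comp (compL 𝒜 𝒟M a) := ⟨_, rfl⟩
  obtain ⟨lamS, hlamSdef⟩ : ∃ lamS : DN →ₗ[k] k,
      lamS = c₀⁻¹ • fS.comp (compL ℬ 𝒟N a) := ⟨_, rfl⟩
  have hlamR : IsHomFun 𝒟M lamR a := by
    intro m hm x hx
    rw [hlamRdef, LinearMap.comp_apply, compL_of_mem_ne 𝒜 𝒟M hx hm, map_zero]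
  have hlamS : IsHomFun 𝒟N lamS a := by
    intro m hm x hx
    rw [hlamSdef, LinearMap.smul_apply, LinearMap.comp_apply, compL_of_mem_ne ℬ 𝒟N hx hm,
      map_zero, smul_zero]
  have hlamRξ : lamR ξ = 1 := by
    rw [hlamRdef, LinearMap.comp_apply, compL_of_mem 𝒜 𝒟M ξ.2, hfR]
  have hlamSη : lamS η = c₀⁻¹ := by
    rw [hlamSdef, LinearMap.smul_apply, LinearMap.comp_apply, compL_of_mem ℬ 𝒟N η.2, hfS,
      smul_eq_mul, mul_one]
  refine ⟨lamR, lamS, hlamR, hlamS, ?_⟩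
  -- the identity at `1`
  have hone : ∀ d : DP, βT d 1 =
      pairT (smulPair (R := R) lamR) (smulPair (R := S) lamS) (Θ d) ((1 : R) ⊗ₜ[k] (1 : S)) := by
    intro d
    induction d using DirectSum.Decomposition.inductionOn 𝒟P with
    | zero => rw [map_zero, map_zero, LinearMap.zero_apply, map_zero, LinearMap.zero_apply]
    | @homogeneous n d =>
      by_cases hn : n = a
      · subst hn
        have h1 := htop d d.2
        rw [h1, map_smul, LinearMap.smul_apply, hω1, map_smul, map_smul, LinearMap.smul_apply,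
          ← hc₀, map_smul, LinearMap.smul_apply, pairT_tmul, smulPair_apply, smulPair_apply,
          one_smul, one_smul, hlamRξ, hlamSη, one_mul, smul_eq_mul, smul_eq_mul, smul_eq_mul,
          mul_inv_cancel₀ hc₀0]
      · have h1 : βT d 1 = 0 :=
          hβT.vanish n d d.2 (-a) (fun h => hn (neg_injective h).symm) 1 one_mem
        rw [h1]
        symm
        have h2 := Θ_mem ψ 𝒟M 𝒟N 𝒟P Θ d.2 hΘ
        generalize Θ (d : DP) = z₀ at h2 ⊢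
        induction h2 using Submodule.span_induction with
        | mem z hz =>
          obtain ⟨x, hx, y, hy, rfl⟩ := hz
          rw [pairT_tmul, smulPair_apply, one_smul, hlamR n hn x hx, zero_mul]
        | zero => rw [map_zero, LinearMap.zero_apply]
        | add z₁ z₂ _ _ h₁ h₂ => rw [map_add, LinearMap.add_apply, h₁, h₂, add_zero]
        | smul c z _ h => rw [map_smul, LinearMap.smul_apply, h, smul_zero]
    | add d₁ d₂ h₁ h₂ =>
      rw [map_add, LinearMap.add_apply, h₁, h₂, map_add, map_add, LinearMap.add_apply]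
  intro d t
  have h1 : βT d t = βT (t • d) 1 := by
    rw [hβT.map_smul, smul_eq_mul, mul_one]
  rw [h1, hone, hΘ.map_smul,
    pairT_act (smulPair (R := R) lamR) (smulPair (R := S) lamS) (smulPair_smul lamR)
      (smulPair_smul lamS),
    Groth.Agent.Lib.LeadSP.act_eq_mul, ← Algebra.TensorProduct.one_def, mul_one]

variable (lamR : DM →ₗ[k] k) (lamS : DN →ₗ[k] k)
  (hstar : ∀ (d : DP) (t : T),
    βT d t = pairT (smulPair (R := R) lamR) (smulPair (R := S) lamS) (Θ d) (ψ t))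

include hT in
theorem ψ_mem {n : ℤ} {t : T} (ht : t ∈ 𝒯 n) : ψ t ∈ GrSeg.segrePiece k 𝒜 ℬ n := by
  rw [← hT.2 n]
  exact ⟨t, ht, rfl⟩

include hT in
theorem exists_of_mem_segrePiece_ring {n : ℤ} {z : R ⊗[k] S}
    (hz : z ∈ GrSeg.segrePiece k 𝒜 ℬ n) : ∃ t ∈ 𝒯 n, ψ t = z := by
  rw [← hT.2 n] at hz
  obtain ⟨t, ht, hte⟩ := hz
  exact ⟨t, ht, hte⟩

theorem tmul_eq_zero_left {h : DM} {v : DN} (hv0 : v ≠ 0) (h0 : h ⊗ₜ[k] v = 0) : h = 0 := by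
  by_contra hh0
  obtain ⟨f, hf⟩ := exists_functional_eq_one (K := k) h hh0
  obtain ⟨g, hg⟩ := exists_functional_eq_one (K := k) v hv0
  have h1 : TensorProduct.dualDistrib k DM DN (f ⊗ₜ[k] g) (h ⊗ₜ[k] v) = 1 := by
    rw [TensorProduct.dualDistrib_apply, hf, hg, mul_one]
  rw [h0, map_zero] at h1
  exact zero_ne_one h1

theorem tmul_eq_zero_right {u : DM} {h : DN} (hu0 : u ≠ 0) (h0 : u ⊗ₜ[k] h = 0) : h = 0 := by
  by_contra hh0
  obtain ⟨f, hf⟩ := exists_functional_eq_one (K := k) u hu0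
  obtain ⟨g, hg⟩ := exists_functional_eq_one (K := k) h hh0
  have h1 : TensorProduct.dualDistrib k DM DN (f ⊗ₜ[k] g) (u ⊗ₜ[k] h) = 1 := by
    rw [TensorProduct.dualDistrib_apply, hf, hg, mul_one]
  rw [h0, map_zero] at h1
  exact zero_ne_one h1

include hT hΘ hβT hstar in
/-- Nondegeneracy of the pairing of the left factor. -/
theorem inj_left {i : ℤ} {h : DM} (hh : h ∈ 𝒟M i) (hz : ∀ r ∈ 𝒜 (a - i), lamR (r • h) = 0)
    {v : DN} (hv : v ∈ 𝒟N i) (hv0 : v ≠ 0) : h = 0 := by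
  have hmem : h ⊗ₜ[k] v ∈ GrSeg.segrePiece k 𝒟M 𝒟N i :=
    Submodule.subset_span ⟨h, hh, v, hv, rfl⟩
  obtain ⟨d, hd, hde⟩ := exists_of_mem_segrePiece ψ 𝒟M 𝒟N 𝒟P Θ hmem hΘ
  have hd0 : d = 0 := by
    refine hβT.eq_zero i d hd fun t ht => ?_
    have ht' : t ∈ 𝒯 (a - i) := by
      have h1 : t ∈ 𝒯 (-i + a) := ht
      rwa [neg_add_eq_sub] at h1
    rw [hstar, hde]
    have h2 := ψ_mem 𝒜 ℬ 𝒯 ψ hT ht'
    generalize ψ t = w at h2 ⊢
    induction h2 using Submodule.span_induction with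
    | mem w hw =>
      obtain ⟨r, hr, y, hy, rfl⟩ := hw
      rw [pairT_tmul, smulPair_apply, hz r hr, zero_mul]
    | zero => rw [map_zero]
    | add w₁ w₂ _ _ h₁ h₂ => rw [map_add, h₁, h₂, add_zero]
    | smul c w _ h => rw [map_smul, h, smul_zero]
  rw [hd0, map_zero] at hde
  exact tmul_eq_zero_left hv0 hde.symm

include hT hΘ hβT hstar in
/-- Nondegeneracy of the pairing of the right factor. -/
theorem inj_right {i : ℤ} {h : DN} (hh : h ∈ 𝒟N i) (hz : ∀ y ∈ ℬ (a - i), lamS (y • h) = 0)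
    {u : DM} (hu : u ∈ 𝒟M i) (hu0 : u ≠ 0) : h = 0 := by
  have hmem : u ⊗ₜ[k] h ∈ GrSeg.segrePiece k 𝒟M 𝒟N i :=
    Submodule.subset_span ⟨u, hu, h, hh, rfl⟩
  obtain ⟨d, hd, hde⟩ := exists_of_mem_segrePiece ψ 𝒟M 𝒟N 𝒟P Θ hmem hΘ
  have hd0 : d = 0 := by
    refine hβT.eq_zero i d hd fun t ht => ?_
    have ht' : t ∈ 𝒯 (a - i) := by
      have h1 : t ∈ 𝒯 (-i + a) := ht
      rwa [neg_add_eq_sub] at h1
    rw [hstar, hde]
    have h2 := ψ_mem 𝒜 ℬ 𝒯 ψ hT ht'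
    generalize ψ t = w at h2 ⊢
    induction h2 using Submodule.span_induction with
    | mem w hw =>
      obtain ⟨r, hr, y, hy, rfl⟩ := hw
      rw [pairT_tmul, smulPair_apply, smulPair_apply, hz y hy, mul_zero]
    | zero => rw [map_zero]
    | add w₁ w₂ _ _ h₁ h₂ => rw [map_add, h₁, h₂, add_zero]
    | smul c w _ h => rw [map_smul, h, smul_zero]
  rw [hd0, map_zero] at hde
  exact tmul_eq_zero_right hu0 hde.symm

include hT hΘ hβT hstar in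
/-- Every functional on `R_{a-i}` is represented by an element of the left factor. -/
theorem surj_left {i : ℤ} (g : R →ₗ[k] k) {y₀ : S} (hy₀ : y₀ ∈ ℬ (a - i)) (hy₀0 : y₀ ≠ 0) :
    ∃ h ∈ 𝒟M i, ∀ r ∈ 𝒜 (a - i), lamR (r • h) = g r := by
  obtain ⟨g', hg'⟩ := exists_functional_eq_one (K := k) y₀ hy₀0
  obtain ⟨d, hd, hdg⟩ := hβT.exists_eq i
    ((TensorProduct.dualDistrib k R S (g ⊗ₜ[k] g')) ∘ₗ ψ.toLinearMap)
  obtain ⟨slice, hsl⟩ : ∃ slice : DM ⊗[k] DN →ₗ[k] DM,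
      slice = (TensorProduct.rid k DM).toLinearMap ∘ₗ
        TensorProduct.map LinearMap.id ((smulPair (R := S) lamS).flip y₀) := ⟨_, rfl⟩
  have hslice : ∀ (u : DM) (v : DN), slice (u ⊗ₜ[k] v) = lamS (y₀ • v) • u := fun u v => by
    rw [hsl]
    change (TensorProduct.rid k DM) (TensorProduct.map LinearMap.id
      ((smulPair (R := S) lamS).flip y₀) (u ⊗ₜ[k] v)) = _
    rw [TensorProduct.map_tmul, TensorProduct.rid_tmul]
    rfl
  have hmem : slice (Θ d) ∈ pc 𝒜 𝒟M i := by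
    have h1 : GrSeg.segrePiece k 𝒟M 𝒟N i ≤ (pc 𝒜 𝒟M i).comap slice := by
      apply Submodule.span_le.mpr
      rintro _ ⟨u, hu, v, hv, rfl⟩
      change slice (u ⊗ₜ[k] v) ∈ pc 𝒜 𝒟M i
      rw [hslice]
      exact Submodule.smul_mem (pc 𝒜 𝒟M i) _ hu
    exact h1 (Θ_mem ψ 𝒟M 𝒟N 𝒟P Θ hd hΘ)
  have hpair : ∀ (z : DM ⊗[k] DN) (r : R),
      pairT (smulPair (R := R) lamR) (smulPair (R := S) lamS) z (r ⊗ₜ[k] y₀) =
        lamR (r • slice z) := by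
    intro z r
    induction z using TensorProduct.induction_on with
    | zero => rw [map_zero, LinearMap.zero_apply, map_zero, smul_zero, map_zero]
    | tmul u v =>
      rw [pairT_tmul, smulPair_apply, smulPair_apply, hslice,
        smul_comm r (lamS (y₀ • v)) u, map_smul lamR (lamS (y₀ • v)) (r • u), smul_eq_mul,
        mul_comm]
    | add z₁ z₂ h₁ h₂ => rw [map_add, LinearMap.add_apply, h₁, h₂, map_add, smul_add, map_add]
  refine ⟨slice (Θ d), hmem, fun r hr => ?_⟩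
  have hmem2 : r ⊗ₜ[k] y₀ ∈ GrSeg.segrePiece k 𝒜 ℬ (a - i) :=
    Submodule.subset_span ⟨r, hr, y₀, hy₀, rfl⟩
  obtain ⟨t, ht, hte⟩ := exists_of_mem_segrePiece_ring 𝒜 ℬ 𝒯 ψ hT hmem2
  have ht' : t ∈ shiftGr (asGr 𝒯) a (-i) := by
    change t ∈ 𝒯 (-i + a)
    rwa [neg_add_eq_sub]
  have h1 := hdg t ht'
  rw [hstar, hte, hpair, LinearMap.comp_apply] at h1
  rw [h1]
  change TensorProduct.dualDistrib k R S (g ⊗ₜ[k] g') (ψ t) = g r
  rw [hte, TensorProduct.dualDistrib_apply, hg', mul_one]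

include hT hΘ hβT hstar in
/-- Every functional on `S_{a-i}` is represented by an element of the right factor. -/
theorem surj_right {i : ℤ} (g : S →ₗ[k] k) {x₀ : R} (hx₀ : x₀ ∈ 𝒜 (a - i)) (hx₀0 : x₀ ≠ 0) :
    ∃ h ∈ 𝒟N i, ∀ y ∈ ℬ (a - i), lamS (y • h) = g y := by
  obtain ⟨g', hg'⟩ := exists_functional_eq_one (K := k) x₀ hx₀0
  obtain ⟨d, hd, hdg⟩ := hβT.exists_eq i
    ((TensorProduct.dualDistrib k R S (g' ⊗ₜ[k] g)) ∘ₗ ψ.toLinearMap)
  obtain ⟨slice, hsl⟩ : ∃ slice : DM ⊗[k] DN →ₗ[k] DN,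
      slice = (TensorProduct.lid k DN).toLinearMap ∘ₗ
        TensorProduct.map ((smulPair (R := R) lamR).flip x₀) LinearMap.id := ⟨_, rfl⟩
  have hslice : ∀ (u : DM) (v : DN), slice (u ⊗ₜ[k] v) = lamR (x₀ • u) • v := fun u v => by
    rw [hsl]
    change (TensorProduct.lid k DN) (TensorProduct.map
      ((smulPair (R := R) lamR).flip x₀) LinearMap.id (u ⊗ₜ[k] v)) = _
    rw [TensorProduct.map_tmul, TensorProduct.lid_tmul]
    rfl
  have hmem : slice (Θ d) ∈ pc ℬ 𝒟N i := by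
    have h1 : GrSeg.segrePiece k 𝒟M 𝒟N i ≤ (pc ℬ 𝒟N i).comap slice := by
      apply Submodule.span_le.mpr
      rintro _ ⟨u, hu, v, hv, rfl⟩
      change slice (u ⊗ₜ[k] v) ∈ pc ℬ 𝒟N i
      rw [hslice]
      exact Submodule.smul_mem (pc ℬ 𝒟N i) _ hv
    exact h1 (Θ_mem ψ 𝒟M 𝒟N 𝒟P Θ hd hΘ)
  have hpair : ∀ (z : DM ⊗[k] DN) (y : S),
      pairT (smulPair (R := R) lamR) (smulPair (R := S) lamS) z (x₀ ⊗ₜ[k] y) =
        lamS (y • slice z) := by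
    intro z y
    induction z using TensorProduct.induction_on with
    | zero => rw [map_zero, LinearMap.zero_apply, map_zero, smul_zero, map_zero]
    | tmul u v =>
      rw [pairT_tmul, smulPair_apply, smulPair_apply, hslice,
        smul_comm y (lamR (x₀ • u)) v, map_smul lamS (lamR (x₀ • u)) (y • v), smul_eq_mul]
    | add z₁ z₂ h₁ h₂ => rw [map_add, LinearMap.add_apply, h₁, h₂, map_add, smul_add, map_add]
  refine ⟨slice (Θ d), hmem, fun y hy => ?_⟩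
  have hmem2 : x₀ ⊗ₜ[k] y ∈ GrSeg.segrePiece k 𝒜 ℬ (a - i) :=
    Submodule.subset_span ⟨x₀, hx₀, y, hy, rfl⟩
  obtain ⟨t, ht, hte⟩ := exists_of_mem_segrePiece_ring 𝒜 ℬ 𝒯 ψ hT hmem2
  have ht' : t ∈ shiftGr (asGr 𝒯) a (-i) := by
    change t ∈ 𝒯 (-i + a)
    rwa [neg_add_eq_sub]
  have h1 := hdg t ht'
  rw [hstar, hte, hpair, LinearMap.comp_apply] at h1
  rw [h1]
  change TensorProduct.dualDistrib k R S (g' ⊗ₜ[k] g) (ψ t) = g y
  rw [hte, TensorProduct.dualDistrib_apply, hg', one_mul]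

theorem exists_ne_zero_of_ne_bot {V : Type u} [AddCommGroup V] [Module k V] {W : Submodule k V}
    (h : W ≠ ⊥) : ∃ x ∈ W, x ≠ 0 := by
  by_contra hcon
  push Not at hcon
  apply h
  rw [Submodule.eq_bot_iff]
  exact hcon

include hT hΘ hβT hstar in
/-- The pairings of the two factors into their pieces of degree `a` are perfect in degrees at
most `a`. -/
theorem top_pairing_props (hneA : ∀ n : ℕ, 𝒜 (n : ℤ) ≠ ⊥) (hneB : ∀ n : ℕ, ℬ (n : ℤ) ≠ ⊥) :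
    (∀ i : ℤ, i ≤ a → ∀ h ∈ 𝒟M i, (∀ r ∈ 𝒜 (a - i), lamR (r • h) = 0) → h = 0) ∧
    (∀ i : ℤ, i ≤ a → ∀ g : R →ₗ[k] k, ∃ h ∈ 𝒟M i, ∀ r ∈ 𝒜 (a - i), lamR (r • h) = g r) ∧
    (∀ i : ℤ, i ≤ a → ∀ h ∈ 𝒟N i, (∀ y ∈ ℬ (a - i), lamS (y • h) = 0) → h = 0) ∧
    (∀ i : ℤ, i ≤ a → ∀ g : S →ₗ[k] k, ∃ h ∈ 𝒟N i, ∀ y ∈ ℬ (a - i), lamS (y • h) = g y) := by
  have hxy : ∀ i : ℤ, i ≤ a → (∃ x₀ ∈ 𝒜 (a - i), x₀ ≠ 0) ∧ (∃ y₀ ∈ ℬ (a - i), y₀ ≠ 0) := by
    intro i hi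
    obtain ⟨n, hn⟩ : ∃ n : ℕ, a - i = (n : ℤ) := ⟨(a - i).toNat, (Int.toNat_of_nonneg (by omega)).symm⟩
    rw [hn]
    exact ⟨exists_ne_zero_of_ne_bot (hneA n), exists_ne_zero_of_ne_bot (hneB n)⟩
  have hsL : ∀ i : ℤ, i ≤ a → ∀ g : R →ₗ[k] k,
      ∃ h ∈ 𝒟M i, ∀ r ∈ 𝒜 (a - i), lamR (r • h) = g r := by
    intro i hi g
    obtain ⟨-, y₀, hy₀, hy₀0⟩ := hxy i hi
    exact surj_left 𝒜 ℬ 𝒯 ψ hT 𝒟M 𝒟N 𝒟P Θ hΘ a hβT lamR lamS hstar g hy₀ hy₀0
  have hsR : ∀ i : ℤ, i ≤ a → ∀ g : S →ₗ[k] k,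
      ∃ h ∈ 𝒟N i, ∀ y ∈ ℬ (a - i), lamS (y • h) = g y := by
    intro i hi g
    obtain ⟨⟨x₀, hx₀, hx₀0⟩, -⟩ := hxy i hi
    exact surj_right 𝒜 ℬ 𝒯 ψ hT 𝒟M 𝒟N 𝒟P Θ hΘ a hβT lamR lamS hstar g hx₀ hx₀0
  have hneM : ∀ i : ℤ, i ≤ a → ∃ u ∈ 𝒟M i, u ≠ 0 := by
    intro i hi
    obtain ⟨⟨x₀, hx₀, hx₀0⟩, -⟩ := hxy i hi
    obtain ⟨g, hg⟩ := exists_functional_eq_one (K := k) x₀ hx₀0
    obtain ⟨u, hu, hug⟩ := hsL i hi g
    refine ⟨u, hu, fun h0 => ?_⟩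
    have h1 := hug x₀ hx₀
    rw [h0, smul_zero, map_zero, hg] at h1
    exact zero_ne_one h1
  have hneN : ∀ i : ℤ, i ≤ a → ∃ v ∈ 𝒟N i, v ≠ 0 := by
    intro i hi
    obtain ⟨-, y₀, hy₀, hy₀0⟩ := hxy i hi
    obtain ⟨g, hg⟩ := exists_functional_eq_one (K := k) y₀ hy₀0
    obtain ⟨v, hv, hvg⟩ := hsR i hi g
    refine ⟨v, hv, fun h0 => ?_⟩
    have h1 := hvg y₀ hy₀
    rw [h0, smul_zero, map_zero, hg] at h1
    exact zero_ne_one h1
  refine ⟨?_, hsL, ?_, hsR⟩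
  · intro i hi h hh hz
    obtain ⟨v, hv, hv0⟩ := hneN i hi
    exact inj_left 𝒜 ℬ 𝒯 ψ hT 𝒟M 𝒟N 𝒟P Θ hΘ a hβT lamR lamS hstar hh hz hv hv0
  · intro i hi h hh hz
    obtain ⟨u, hu, hu0⟩ := hneM i hi
    exact inj_right 𝒜 ℬ 𝒯 ψ hT 𝒟M 𝒟N 𝒟P Θ hΘ a hβT lamR lamS hstar hh hz hu hu0

end Main

end Groth.Agent.Lib.T2H3.Kun
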