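import Groth.Agent.Lib.T2H3VerS

/-! Veronese subrings of Gorenstein graded rings (helper3), part T: existence of a homogeneous
regular pair `x, y` of degrees at least `q` in a Cohen–Macaulay graded ring over a field of
dimension at least two, with `x` acting surjectively on `H^n_m(R)`. -/

set_option autoImplicit false
set_option linter.unusedSectionVars false
set_option linter.style.haveILetI false
set_option maxHeartbeats 1000000
open DirectSum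

noncomputable section

namespace Groth.Agent.Lib.T2H3.Ver

open GrLC Groth.Agent.Lib.T2H3.GrIrr Groth.Agent.Lib.T2H3.GrArt Groth.Agent.Lib.T2H3.GrLes
  Groth.Agent.Lib.T2H3.GDual

universe u

theorem lt_of_add_one_le_nat (a : WithBot ℕ∞) (n : ℕ) (h : a + 1 ≤ (n : WithBot ℕ∞)) :
    a < (n : WithBot ℕ∞) := by
  induction a using WithBot.recBotCoe with
  | bot => exact WithBot.bot_lt_coe _
  | coe a =>
    induction a using ENat.recTopCoe with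
    | top =>
      exfalso
      have h1 : ((⊤ : ℕ∞) : WithBot ℕ∞) + 1 = ((⊤ : ℕ∞) : WithBot ℕ∞) := rfl
      rw [h1] at h
      have h' : ((⊤ : ℕ∞) : WithBot ℕ∞) ≤ (((n : ℕ) : ℕ∞) : WithBot ℕ∞) := h
      rw [WithBot.coe_le_coe, top_le_iff] at h'
      exact ENat.natCast_ne_top n h'
    | coe k =>
      have h' : (((k + 1 : ℕ) : ℕ∞) : WithBot ℕ∞) ≤ (((n : ℕ) : ℕ∞) : WithBot ℕ∞) := by
        exact_mod_cast h
      rw [WithBot.coe_le_coe, Nat.cast_le] at h'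
      have h2 : k < n := by omega
      exact_mod_cast h2

theorem exists_regular_pair (K : Type u) [Field K] (R : Type u) [CommRing R]
    [hCM : LocCoh.IsCohenMacaulayRing R] [Algebra K R]
    (𝒜 : ℤ → AddSubgroup R) [GradedRing 𝒜] [KGraded K 𝒜]
    (hpos : ∀ n : ℤ, n < 0 → 𝒜 n = ⊥)
    (h0K : ∀ x ∈ 𝒜 0, ∃ c : K, algebraMap K R c = x)
    (m : HomogeneousIdeal 𝒜) (hm : IsStarLocal 𝒜 m)
    (hmsp : m.toIdeal = Ideal.span (⋃ n ∈ Set.Ioi (0 : ℤ), (𝒜 n : Set R)))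
    (n : ℕ) (hn : ringKrullDim R = n) (h2 : 2 ≤ n) (I : StarInjRes 𝒜 𝒜) (q : ℕ) (hq : 0 < q) :
    ∃ (x y : R) (dx dy : ℤ), x ∈ 𝒜 dx ∧ y ∈ 𝒜 dy ∧ (q : ℤ) ≤ dx ∧ (q : ℤ) ≤ dy ∧
      (∀ (i : ℤ) (h : I.H m n), h ∈ I.Hgr m n i → ∃ h₁ ∈ I.Hgr m n (i - dx), x • h₁ = h) ∧
      (∀ r : R, (∃ s, y * r = x * s) → ∃ s, r = x * s) := by
  classical
  haveI hmax : m.toIdeal.IsMaximal := isMaximal_of_isStarLocal hpos hm
  have hposK := subK_eq_bot K 𝒜 hpos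
  have h0R := subK_zero_eq K 𝒜 h0K
  have hqZ : (0 : ℤ) ≤ q := by positivity
  -- the first element
  have h1dim : 1 ≤ ringKrullDim R := by
    rw [hn]
    exact_mod_cast (by omega : 1 ≤ n)
  obtain ⟨x₀, d₀, hd₀, hx₀d, hx₀reg⟩ :=
    Groth.Agent.Lib.LeadSP.exists_homogeneous_nzd (subK K 𝒜) hposK h0R h1dim
  obtain ⟨x, hxdef⟩ : ∃ x : R, x = x₀ ^ q := ⟨_, rfl⟩
  have hxmem : x ∈ 𝒜 (q • (d₀ : ℤ)) := by
    rw [hxdef]
    exact SetLike.pow_mem_graded q (show x₀ ∈ 𝒜 (d₀ : ℤ) from hx₀d)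
  have hxnzd : x ∈ nonZeroDivisors R := by
    rw [hxdef]
    exact pow_mem hx₀reg q
  have hxinj : Function.Injective (fun r : R => x • r) := by
    intro a b hab
    have h1 : (a - b) * x = 0 := by
      have h3 : x * a = x * b := hab
      rw [sub_mul, mul_comm a x, mul_comm b x, h3, sub_self]
    exact sub_eq_zero.1 ((mem_nonZeroDivisors_iff_right.1 hxnzd) _ h1)
  -- the quotient `R/xR`
  obtain ⟨P, hPdef⟩ : ∃ P : Submodule R R, P = Ideal.span {x} := ⟨_, rfl⟩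
  have hP : P.IsHomogeneous 𝒜 := by
    rw [hPdef]
    exact Groth.Agent.Lib.Helper29GrHom.span_singleton_isHomogeneous 𝒜 𝒜 hxmem
  letI decN := Groth.Agent.Lib.Helper29GrQuot.quotDecomposition 𝒜 P hP
  haveI gsN := Groth.Agent.Lib.Helper29GrQuot.quot_gradedSMul 𝒜 P 𝒜
  obtain ⟨F, -⟩ : ∃ F : StarInjRes 𝒜 (Groth.Agent.Lib.Helper29GrQuot.quotGr 𝒜 P), True :=
    ⟨Groth.Agent.Lib.T2H3.MinRes.minRes 𝒜 _, trivial⟩
  have hπ : IsGrHom 𝒜 (Groth.Agent.Lib.Helper29GrQuot.quotGr 𝒜 P) P.mkQ :=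
    fun g r hr => ⟨r, hr, rfl⟩
  have hker : ∀ r : R, P.mkQ r = 0 ↔ ∃ r', x • r' = r := by
    intro r
    rw [Submodule.mkQ_apply, Submodule.Quotient.mk_eq_zero, hPdef, Ideal.mem_span_singleton']
    constructor
    · rintro ⟨a, rfl⟩
      exact ⟨a, by rw [smul_eq_mul, mul_comm]⟩
    · rintro ⟨a, rfl⟩
      exact ⟨a, by rw [smul_eq_mul, mul_comm]⟩
  obtain ⟨ψ, δ, -, -, -, hexE, -, hexF, -, -, -⟩ :=
    exists_les_smul I F hxmem hxinj P.mkQ hπ P.mkQ_surjective hker m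
  -- vanishing for `R`
  obtain ⟨d', hd'⟩ : ∃ d', n = d' + 1 := ⟨n - 1, by omega⟩
  have hIlt : ∀ i, i < n → ∀ y : I.H m i, y = 0 := by
    intro i hi y
    subst hd'
    exact Groth.Agent.Lib.T2H3.GrAinv.H_eq_zero_of_lt hpos hm d' hn I i hi y
  -- vanishing of `H^n_m(R/xR)`
  have hdimN : Module.supportDim R (R ⧸ P) < ((n : ℕ) : WithBot ℕ∞) := by
    have h1 := ringKrullDim_quotient_succ_le_of_nonZeroDivisor hxnzd
    rw [hn] at h1
    have h3 := lt_of_add_one_le_nat _ n h1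
    rw [hPdef]
    rw [Module.supportDim_quotient_eq_ringKrullDim]
    exact h3
  have hFn : ∀ y : F.H m n, y = 0 := by
    intro y
    obtain ⟨e1⟩ := Groth.Agent.S13224.result R 𝒜 m (R ⧸ P)
      (Groth.Agent.Lib.Helper29GrQuot.quotGr 𝒜 P) F n
    apply e1.injective
    rw [map_zero]
    exact Groth.Agent.Lib.Helper8.GV.H_eq_zero_of_supportDim_lt m.toIdeal n (R ⧸ P) hdimN (e1 y)
  have hxH : ∀ (i : ℤ) (h : I.H m n), h ∈ I.Hgr m n i →
      ∃ h₁ ∈ I.Hgr m n (i - q • (d₀ : ℤ)), x • h₁ = h := by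
    intro i h hh
    obtain ⟨y', hy', hxy'⟩ := hexE n i h hh (hFn _)
    exact ⟨y', by rw [sub_eq_add_neg]; exact hy', hxy'⟩
  -- `R/xR` has no `m`-torsion
  have hF0 : ∀ y : F.H m 0, y = 0 := by
    apply Groth.Agent.Lib.T2H3.GrAinv.forall_eq_zero_of_forall_homogeneous F m 0
    intro g y hy
    obtain ⟨y', -, rfl⟩ := hexF 0 g y hy (hIlt 1 (by omega) _)
    rw [hIlt 0 (by omega) y', map_zero]
  have hNtors : ∀ z : R ⧸ P,
      (∀ r ∈ Groth.Agent.Lib.LeadSeg.irr (subK K 𝒜), r • z = 0) → z = 0 := by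
    intro z hz
    apply eq_zero_of_mem_gam_of_H_zero' F m hF0 z
    refine ⟨1, fun r hr => ?_⟩
    rw [pow_one, hmsp] at hr
    exact hz r hr
  -- the second element
  have hmaxK : (Groth.Agent.Lib.LeadSeg.irr (subK K 𝒜)).IsMaximal := by
    have h1 : Groth.Agent.Lib.LeadSeg.irr (subK K 𝒜) = m.toIdeal := hmsp.symm
    rw [h1]
    exact hmax
  obtain ⟨y₀, e₀, he₀, hy₀mem, hy₀reg⟩ :=
    exists_homogeneous_regular_on (subK K 𝒜) hposK hmaxK (N := R ⧸ P) hNtors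
  have hyreg := pow_smul_regular (R := R) y₀ hy₀reg q
  have hd₀Z : (1 : ℤ) ≤ d₀ := by exact_mod_cast hd₀
  have he₀Z : (1 : ℤ) ≤ e₀ := by exact_mod_cast he₀
  refine ⟨x, y₀ ^ q, q • (d₀ : ℤ), q • (e₀ : ℤ), hxmem,
    SetLike.pow_mem_graded q (show y₀ ∈ 𝒜 (e₀ : ℤ) from hy₀mem), ?_, ?_, hxH, ?_⟩
  · rw [nsmul_eq_mul]
    nlinarith
  · rw [nsmul_eq_mul]
    nlinarith
  · rintro r ⟨s, hs⟩
    have h1 : (y₀ ^ q) • (P.mkQ r) = 0 := by
      rw [← map_smul, smul_eq_mul, hs, hker]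
      exact ⟨s, rfl⟩
    have h3 := hyreg _ h1
    rw [hker] at h3
    obtain ⟨r', hr'⟩ := h3
    exact ⟨r', hr'.symm⟩

end Groth.Agent.Lib.T2H3.Ver
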