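import Groth.Agent.Lib.T2H3KunZN
import Groth.Agent.Lib.T2H3VerT

/-! Künneth formula for Segre products (helper3), part ZP: a Cohen–Macaulay graded ring over a
field, of dimension at least two, whose top local cohomology pairs perfectly into its piece of
degree `a` in degrees at most `a`, is Gorenstein with `a`-invariant `a`. -/

set_option autoImplicit false
set_option linter.unusedSectionVars false
set_option linter.style.haveILetI false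
set_option maxHeartbeats 1000000
open DirectSum

noncomputable section

namespace Groth.Agent.Lib.T2H3.Kun

open GrLC Groth.Agent.Lib.T2H3.GDual Groth.Agent.Lib.T2H3.Ver Groth.Agent.Lib.T2H3.GrTr
  Groth.Agent.Lib.Helper29GrShift Groth.Agent.Lib.T2H3.GrLes Groth.Agent.Lib.T2H3.GrArt

universe u

theorem isGorensteinRing_of_top_pairing (k : Type u) [Field k] {R : Type u} [CommRing R]
    [Algebra k R] [Nontrivial R] (𝒜 : ℤ → Submodule k R) [GradedAlgebra 𝒜]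
    (hpos : ∀ n : ℤ, n < 0 → 𝒜 n = ⊥) (h0 : 𝒜 0 = Submodule.span k {(1 : R)})
    [LocCoh.IsCohenMacaulayRing R] (mR : HomogeneousIdeal 𝒜)
    (hmR : mR.toIdeal = Ideal.span (⋃ n ∈ Set.Ioi (0 : ℤ), (𝒜 n : Set R)))
    (I : StarInjRes 𝒜 𝒜) (n : ℕ) (hn : ringKrullDim R = n) (h2 : 2 ≤ n)
    [Module k (I.H mR n)] [IsScalarTower k R (I.H mR n)]
    [DirectSum.Decomposition (I.Hgr mR n)]
    (lam : I.H mR n →ₗ[k] k) (a : ℤ)
    (hlam : Groth.Agent.Lib.LeadGD.IsHomFun (I.Hgr mR n) lam a)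
    (hinjle : ∀ i : ℤ, i ≤ a → ∀ h ∈ I.Hgr mR n i,
      (∀ r ∈ 𝒜 (a - i), lam (r • h) = 0) → h = 0)
    (hsurjle : ∀ i : ℤ, i ≤ a → ∀ g : R →ₗ[k] k,
      ∃ h ∈ I.Hgr mR n i, ∀ r ∈ 𝒜 (a - i), lam (r • h) = g r) :
    LocCoh.IsGorensteinRing R ∧
      endDeg (I.Hgr mR n) = ((a : WithTop ℤ) : WithBot (WithTop ℤ)) := by
  classical
  haveI KG : KGraded k (asGr 𝒜) := ⟨fun c => SetLike.algebraMap_mem_graded 𝒜 c⟩
  have h0K : ∀ x ∈ asGr 𝒜 0, ∃ c : k, algebraMap k R c = x := by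
    intro x hx
    have hx' : x ∈ 𝒜 0 := hx
    rw [h0] at hx'
    obtain ⟨c, rfl⟩ := Submodule.mem_span_singleton.mp hx'
    exact ⟨c, Algebra.algebraMap_eq_smul_one c⟩
  have hm := isStarLocal_asGr 𝒜 hpos h0 mR hmR
  haveI gsH : SetLike.GradedSMul 𝒜 (I.Hgr mR n) :=
    gradedSMul_of_asGr 𝒜 _ (Hgr_gradedSMul (resTo 𝒜 𝒜 I) (hiTo 𝒜 mR) n)
  -- boundedness
  obtain ⟨N, hN⟩ := exists_Hcomp_eq_bot_of_isStarLocal (hposAs 𝒜 hpos) hm (resTo 𝒜 𝒜 I) n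
  have hbd : ∀ i : ℤ, N - 1 < i → I.Hgr mR n i = ⊥ := by
    intro i hi
    rw [eq_bot_iff]
    intro y hy
    have hy' : y ∈ (resTo 𝒜 𝒜 I).Hcomp (hiTo 𝒜 mR) n i := hy
    rw [hN i (by omega)] at hy'
    exact AddSubgroup.mem_bot.mpr ((Submodule.mem_bot _).mp hy')
  -- the regular pair
  obtain ⟨q, hq, hqle⟩ : ∃ q : ℕ, 0 < q ∧ N - 1 - a ≤ (q : ℤ) :=
    ⟨(max 1 (N - 1 - a)).toNat, by omega, by omega⟩
  obtain ⟨x, y, dx, dy, hx, hy, hdx, hdy, hxH, hreg⟩ :=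
    exists_regular_pair k R (asGr 𝒜) (hposAs 𝒜 hpos) h0K (hiTo 𝒜 mR) hm hmR n hn h2
      (resTo 𝒜 𝒜 I) q hq
  obtain ⟨f, hf⟩ := exists_equiv_gdual_of_top_pairing 𝒜 hpos (I.Hgr mR n) lam a hlam hinjle
    hsurjle (N - 1) hbd x y dx dy hx hy (by omega) (by omega)
    (fun i h hh => hxH i h hh) hreg
  obtain ⟨β, hβ⟩ := exists_isGDual_shift_of_equiv 𝒜 (I.Hgr mR n) a f hf
  exact ⟨isGorensteinRing_of_isGDual_shift k 𝒜 hpos h0 mR hmR I n hn a hβ,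
    endDeg_of_isGDual_shift 𝒜 hpos _ a hβ⟩

end Groth.Agent.Lib.T2H3.Kun
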