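import Groth.Agent.Lib.T2H3KunZL
import Groth.Agent.Lib.T2H3KunZM
import Groth.Agent.Lib.T2H3SegB

/-! Künneth formula for Segre products (helper3), part ZQ: the shift `R(a)` is a *canonical module
of a Gorenstein graded ring `R` over a field with `a`-invariant `a`; the Segre product of graded
modules, as constructed in `T2H3SegB`, is a Segre module in the sense of the prelude. -/

set_option autoImplicit false
set_option linter.unusedSectionVars false
set_option linter.style.haveILetI false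
set_option maxHeartbeats 1000000
open DirectSum
open scoped TensorProduct

noncomputable section

namespace Groth.Agent.Lib.T2H3.Kun

open GrLC Groth.Agent.Lib.T2H3.GDual Groth.Agent.Lib.T2H3.GrTr
  Groth.Agent.Lib.Helper29GrShift Groth.Agent.Lib.T2H3.GrLes Groth.Agent.Lib.T2H3.GrArt
  Groth.Agent.Lib.T2H3.Seg

universe u

section Canon

variable (k : Type u) [Field k] {R : Type u} [CommRing R] [Algebra k R] [Nontrivial R]
  (𝒜 : ℤ → Submodule k R) [GradedAlgebra 𝒜]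
  (hpos : ∀ n : ℤ, n < 0 → 𝒜 n = ⊥) (h0 : 𝒜 0 = Submodule.span k {(1 : R)})
  (mR : HomogeneousIdeal 𝒜)
  (hmR : mR.toIdeal = Ideal.span (⋃ n ∈ Set.Ioi (0 : ℤ), (𝒜 n : Set R)))
  (I : StarInjRes 𝒜 𝒜) (n : ℕ) (hn : ringKrullDim R = n)

include hpos h0 hmR hn in
/-- For a Gorenstein graded ring over a field with `a`-invariant `a`, the shift `R(a)` is a
*canonical module (with respect to the *injective envelope `R^*`). -/
theorem isStarCanonical_shift_of_gorenstein [LocCoh.IsGorensteinRing R] (a : ℤ)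
    (ha : endDeg (I.Hgr mR n) = ((a : WithTop ℤ) : WithBot (WithTop ℤ)))
    [SetLike.GradedSMul 𝒜 (shiftGr (asGr 𝒜) a)] :
    IsStarCanonical 𝒜 (shiftGr (asGr 𝒜) a) (piece 𝒜) mR n I := by
  classical
  haveI KG : KGraded k (asGr 𝒜) := ⟨fun c => SetLike.algebraMap_mem_graded 𝒜 c⟩
  letI modH : Module k (I.H mR n) := Module.compHom (I.H mR n) (algebraMap k R)
  haveI towH : IsScalarTower k R (I.H mR n) := IsScalarTower.of_algebraMap_smul (fun _ _ => rfl)
  letI decH : DirectSum.Decomposition (I.Hgr mR n) :=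
    HgrDecomposition (resTo 𝒜 𝒜 I) (hiTo 𝒜 mR) n
  obtain ⟨a', β, hβ⟩ := exists_isGDual_of_gorenstein k 𝒜 hpos h0 mR hmR I n hn
  have e := endDeg_of_isGDual_shift 𝒜 hpos _ a' hβ
  have haa : a' = a := by
    rw [ha] at e
    exact_mod_cast e.symm
  subst haa
  have hE : GrSeg.IsGDual R (subK k (asGr 𝒜)) (piece 𝒜) (ev 𝒜) :=
    isGDual_reindex 𝒜 (subK k (asGr 𝒜)) (piece 𝒜) (piece 𝒜) (isGDual 𝒜) 0
      (fun j x => by rw [sub_zero]; exact Iff.rfl) (fun n d => by rw [add_zero])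
  obtain ⟨F, hF⟩ := exists_homEquiv_of_isGDual k (asGr 𝒜) (piece 𝒜) hE (shiftGr (asGr 𝒜) a')
    (I.Hgr mR n) hβ
  exact ⟨inferInstance, F, fun d f hf => hF d f hf⟩

end Canon

section SegMod

variable {k : Type u} [Field k] {R S T : Type u} [CommRing R] [CommRing S] [CommRing T]
  [Algebra k R] [Algebra k S] [Algebra k T]
  {𝒜 : ℤ → Submodule k R} [GradedAlgebra 𝒜] {ℬ : ℤ → Submodule k S} [GradedAlgebra ℬ]
  {𝒯 : ℤ → Submodule k T} [GradedAlgebra 𝒯] {ψ : T →ₐ[k] R ⊗[k] S}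
variable {A : Type u} [AddCommGroup A] [Module R A] [Module k A] [IsScalarTower k R A]
  (𝓐 : ℤ → AddSubgroup A) [DirectSum.Decomposition 𝓐] [SetLike.GradedSMul 𝒜 𝓐]
variable {B : Type u} [AddCommGroup B] [Module S B] [Module k B] [IsScalarTower k S B]
  (𝓑 : ℤ → AddSubgroup B) [DirectSum.Decomposition 𝓑] [SetLike.GradedSMul ℬ 𝓑]
  (hT : GrSeg.IsSegreRing 𝒜 ℬ 𝒯 ψ)

/-- The Segre product constructed in `T2H3SegB` is a Segre module. -/
theorem isSegreMod_seg :
    letI := segDecomposition 𝓐 𝓑 hT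
    GrSeg.IsSegreMod ψ 𝓐 𝓑 (segGr 𝓐 𝓑 hT) (sval 𝓐 𝓑 hT) := by
  letI := segDecomposition 𝓐 𝓑 hT
  refine ⟨sval_injective 𝓐 𝓑 hT, fun n => ?_, fun t p => sval_smul 𝓐 𝓑 hT t p⟩
  ext w
  constructor
  · rintro ⟨z, hz, rfl⟩
    exact hz
  · intro hw
    exact ⟨smk 𝓐 𝓑 hT w (piece_le_segK 𝓐 𝓑 n hw), hw, rfl⟩

end SegMod

end Groth.Agent.Lib.T2H3.Kun
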