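import Groth.Agent.Lib.T2H3VerH
import Groth.Agent.Lib.Helper29GrEss
import Groth.Agent.Lib.LeadGDe
import Mathlib.LinearAlgebra.TensorProduct.Quotient
import Mathlib.LinearAlgebra.Dimension.Basic

/-! Künneth formula for Segre products (helper3), part ZR: a graded module over a connected graded
algebra over a field, generated in its lowest degree `c`, has `dim_k M_c` minimal generators. -/

set_option autoImplicit false
set_option linter.unusedSectionVars false
set_option linter.style.haveILetI false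
set_option maxHeartbeats 1000000
open DirectSum
open scoped TensorProduct

noncomputable section

namespace Groth.Agent.Lib.T2H3.Kun

open GrLC Groth.Agent.Lib.T2H3.GDual Groth.Agent.Lib.T2H3.GrTr Groth.Agent.Lib.LeadGD

universe u

section MinGen

variable {k : Type u} [Field k] {T : Type u} [CommRing T] [Algebra k T]
  (𝒯 : ℤ → Submodule k T) [GradedAlgebra 𝒯]
  (hposT : ∀ n : ℤ, n < 0 → 𝒯 n = ⊥) (h0T : 𝒯 0 = Submodule.span k {(1 : T)})
  (mT : HomogeneousIdeal 𝒯)
  (hmT : mT.toIdeal = Ideal.span (⋃ n ∈ Set.Ioi (0 : ℤ), (𝒯 n : Set T)))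
  {P : Type u} [AddCommGroup P] [Module T P] [Module k P] [IsScalarTower k T P]
  (𝒬 : ℤ → AddSubgroup P) [DirectSum.Decomposition 𝒬] [SetLike.GradedSMul 𝒯 𝒬]
  (c : ℤ) (hlow : ∀ n : ℤ, n < c → 𝒬 n = ⊥)
  (hgen : ∀ n : ℤ, c < n → ∀ p ∈ 𝒬 n, p ∈ mT.toIdeal • (⊤ : Submodule T P))

include hmT hlow in
theorem decompose_eq_zero_of_mem_smul_top {p : P}
    (hp : p ∈ mT.toIdeal • (⊤ : Submodule T P)) : ((decompose 𝒬 p) c : P) = 0 := by
  classical
  -- the ideal of elements killing the lowest component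
  let J : Ideal T :=
    { carrier := {t | ∀ q : P, ((decompose 𝒬 (t • q)) c : P) = 0}
      add_mem' := fun {s t} hs ht q => by
        rw [add_smul, decompose_add, DirectSum.add_apply, AddSubgroup.coe_add, hs q, ht q,
          add_zero]
      zero_mem' := fun q => by
        rw [zero_smul, decompose_zero]
        rfl
      smul_mem' := fun r t ht q => by
        rw [smul_eq_mul, mul_comm, mul_smul]
        exact ht (r • q) }
  have hJ : mT.toIdeal ≤ J := by
    rw [hmT, Ideal.span_le]
    intro t ht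
    obtain ⟨m, hm, htm⟩ := Set.mem_iUnion₂.mp ht
    intro q
    have hm' : (0 : ℤ) < m := hm
    have h1 := Groth.Agent.Lib.Helper29GrEss.decompose_smul_of_mem (asGr 𝒯) 𝒬
      (show t ∈ asGr 𝒯 m from htm) q c
    rw [h1]
    have h2 : ∀ y ∈ 𝒬 (c - m), y = 0 := fun y hy => by
      rw [hlow (c - m) (by omega)] at hy
      exact AddSubgroup.mem_bot.mp hy
    rw [h2 _ (SetLike.coe_mem _), smul_zero]
  refine Submodule.smul_induction_on hp ?_ ?_
  · intro t ht q _
    exact hJ ht q
  · intro x y hx hy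
    rw [decompose_add, DirectSum.add_apply, AddSubgroup.coe_add, hx, hy, add_zero]

include hlow hgen in
theorem mem_smul_top_of_decompose_eq_zero {p : P} (hp : ((decompose 𝒬 p) c : P) = 0) :
    p ∈ mT.toIdeal • (⊤ : Submodule T P) := by
  classical
  rw [← DirectSum.sum_support_decompose 𝒬 p]
  refine Submodule.sum_mem _ fun n _ => ?_
  rcases lt_trichotomy n c with h | h | h
  · have h2 : ∀ y ∈ 𝒬 n, y = 0 := fun y hy => by
      rw [hlow n h] at hy
      exact AddSubgroup.mem_bot.mp hy
    rw [h2 _ (SetLike.coe_mem _)]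
    exact zero_mem _
  · rw [h, hp]
    exact zero_mem _
  · exact hgen n h _ (SetLike.coe_mem _)

include hposT h0T hmT hlow hgen in
/-- The number of minimal generators of a graded module generated in its lowest degree. -/
theorem finrank_residue_tensor_eq [Nontrivial T] (hne : mT.toIdeal ≠ ⊤) :
    Module.finrank (T ⧸ mT.toIdeal) ((T ⧸ mT.toIdeal) ⊗[T] P) =
      Module.finrank k (pc 𝒯 𝒬 c) := by
  classical
  haveI : Nontrivial (T ⧸ mT.toIdeal) := Ideal.Quotient.nontrivial_iff.mpr hne
  -- the residue field is `k`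
  let i : k →+* (T ⧸ mT.toIdeal) := (Ideal.Quotient.mk mT.toIdeal).comp (algebraMap k T)
  have hi : Function.Bijective i := by
    refine ⟨i.injective, fun q => ?_⟩
    obtain ⟨t, rfl⟩ := Ideal.Quotient.mk_surjective q
    have h1 := sub_decompose_zero_mem 𝒯 hposT mT hmT t
    have h2 : ∀ y ∈ 𝒯 0, ∃ a : k, a • (1 : T) = y := fun y hy => by
      rw [h0T] at hy
      exact Submodule.mem_span_singleton.mp hy
    obtain ⟨a, ha⟩ := h2 _ (SetLike.coe_mem ((decompose 𝒯 t) 0))
    refine ⟨a, ?_⟩
    change Ideal.Quotient.mk mT.toIdeal (algebraMap k T a) = Ideal.Quotient.mk mT.toIdeal t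
    rw [Algebra.algebraMap_eq_smul_one, ha]
    symm
    exact Ideal.Quotient.eq.mpr h1
  -- the comparison map
  let e := TensorProduct.quotTensorEquivQuotSMul P mT.toIdeal
  let j₀ : pc 𝒯 𝒬 c →+ (T ⧸ mT.toIdeal) ⊗[T] P :=
    { toFun := fun x => (1 : T ⧸ mT.toIdeal) ⊗ₜ[T] (x : P)
      map_zero' := by
        change (1 : T ⧸ mT.toIdeal) ⊗ₜ[T] (0 : P) = 0
        rw [TensorProduct.tmul_zero]
      map_add' := fun x y => by
        change (1 : T ⧸ mT.toIdeal) ⊗ₜ[T] ((x : P) + (y : P)) = _
        rw [TensorProduct.tmul_add] }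
  have hj₀ : ∀ x : pc 𝒯 𝒬 c, j₀ x = (1 : T ⧸ mT.toIdeal) ⊗ₜ[T] (x : P) := fun x => rfl
  have hej : ∀ x : pc 𝒯 𝒬 c, e (j₀ x) = Submodule.Quotient.mk (x : P) := fun x =>
    TensorProduct.quotTensorEquivQuotSMul_mk_one_tmul mT.toIdeal (x : P)
  have hbij : Function.Bijective j₀ := by
    constructor
    · rw [injective_iff_map_eq_zero]
      intro x hx
      have h1 : e (j₀ x) = 0 := by rw [hx, map_zero]
      rw [hej, Submodule.Quotient.mk_eq_zero] at h1
      have h2 := decompose_eq_zero_of_mem_smul_top 𝒯 mT hmT 𝒬 c hlow h1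
      rw [DirectSum.decompose_of_mem_same 𝒬 x.2] at h2
      exact Subtype.ext h2
    · intro v
      obtain ⟨p, hp⟩ := Submodule.Quotient.mk_surjective _ (e v)
      have hmem : ((decompose 𝒬 p) c : P) ∈ pc 𝒯 𝒬 c := SetLike.coe_mem _
      refine ⟨⟨((decompose 𝒬 p) c : P), hmem⟩, ?_⟩
      apply e.injective
      rw [hej, ← hp]
      change Submodule.Quotient.mk ((decompose 𝒬 p) c : P) = Submodule.Quotient.mk p
      symm
      rw [Submodule.Quotient.eq]
      apply mem_smul_top_of_decompose_eq_zero 𝒯 mT 𝒬 c hlow hgen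
      rw [decompose_sub, DirectSum.sub_apply, AddSubgroup.coe_sub,
        DirectSum.decompose_of_mem_same 𝒬 (SetLike.coe_mem _), sub_self]
  have hc : ∀ (a : k) (x : pc 𝒯 𝒬 c),
      (AddEquiv.ofBijective j₀ hbij) (a • x) = i a • (AddEquiv.ofBijective j₀ hbij) x := by
    intro a x
    change j₀ (a • x) = i a • j₀ x
    rw [hj₀, hj₀, TensorProduct.smul_tmul', smul_eq_mul, mul_one]
    change (1 : T ⧸ mT.toIdeal) ⊗ₜ[T] (a • (x : P)) = _
    rw [← algebraMap_smul T a (x : P), ← TensorProduct.smul_tmul]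
    congr 1
    change algebraMap k T a • (1 : T ⧸ mT.toIdeal) = Ideal.Quotient.mk mT.toIdeal (algebraMap k T a)
    rw [Algebra.smul_def, mul_one]
    rfl
  have hrank := rank_eq_of_equiv_equiv (i : k → T ⧸ mT.toIdeal) (AddEquiv.ofBijective j₀ hbij)
    hi hc
  unfold Module.finrank
  rw [hrank]

include hposT h0T hmT in
/-- The residue field of a connected graded algebra is the ground field. -/
theorem residue_bijective [Nontrivial T] (hne : mT.toIdeal ≠ ⊤) :
    Function.Bijective ((Ideal.Quotient.mk mT.toIdeal).comp (algebraMap k T)) := by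
  classical
  haveI : Nontrivial (T ⧸ mT.toIdeal) := Ideal.Quotient.nontrivial_iff.mpr hne
  refine ⟨RingHom.injective _, fun q => ?_⟩
  obtain ⟨t, rfl⟩ := Ideal.Quotient.mk_surjective q
  have h1 := sub_decompose_zero_mem 𝒯 hposT mT hmT t
  have h2 : ∀ y ∈ 𝒯 0, ∃ a : k, a • (1 : T) = y := fun y hy => by
    rw [h0T] at hy
    exact Submodule.mem_span_singleton.mp hy
  obtain ⟨a, ha⟩ := h2 _ (SetLike.coe_mem ((decompose 𝒯 t) 0))
  refine ⟨a, ?_⟩
  change Ideal.Quotient.mk mT.toIdeal (algebraMap k T a) = Ideal.Quotient.mk mT.toIdeal t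
  rw [Algebra.algebraMap_eq_smul_one, ha]
  symm
  exact Ideal.Quotient.eq.mpr h1

include hposT h0T hmT in
/-- The number of minimal generators, computed over the residue field or over the ground
field. -/
theorem finrank_residue_tensor_eq_quot [Nontrivial T] (hne : mT.toIdeal ≠ ⊤) :
    Module.finrank (T ⧸ mT.toIdeal) ((T ⧸ mT.toIdeal) ⊗[T] P) =
      Module.finrank k (P ⧸ (mT.toIdeal • (⊤ : Submodule T P))) := by
  classical
  have hi := residue_bijective 𝒯 hposT h0T mT hmT hne
  let e := TensorProduct.quotTensorEquivQuotSMul P mT.toIdeal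
  have hc : ∀ (a : k) (x : P ⧸ (mT.toIdeal • (⊤ : Submodule T P))),
      e.symm.toAddEquiv (a • x) =
        ((Ideal.Quotient.mk mT.toIdeal).comp (algebraMap k T)) a • e.symm.toAddEquiv x := by
    intro a x
    change e.symm (a • x) = (Ideal.Quotient.mk mT.toIdeal (algebraMap k T a)) • e.symm x
    rw [← algebraMap_smul T a x, map_smul]
    exact (algebraMap_smul (T ⧸ mT.toIdeal) (algebraMap k T a) (e.symm x)).symm
  have hrank := rank_eq_of_equiv_equiv
    (((Ideal.Quotient.mk mT.toIdeal).comp (algebraMap k T)) : k → T ⧸ mT.toIdeal)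
    e.symm.toAddEquiv hi hc
  unfold Module.finrank
  rw [hrank]

end MinGen

end Groth.Agent.Lib.T2H3.Kun
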