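import Groth.Agent.Lib.T2H3VerI

/-! Graded duals (helper3), local duality part A: construction of the graded `K`-dual
`H^* = ⊕_n Hom_K(H_{-n}, K)` of a graded module `H` over a graded ring (pieces in `AddSubgroup`)
on which a field `K` acts in degree zero; it satisfies `GrSeg.IsGDual`. -/

set_option autoImplicit false
set_option linter.unusedSectionVars false
set_option linter.style.haveILetI false
open DirectSum

noncomputable section

namespace Groth.Agent.Lib.T2H3.LDual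

open Groth.Agent.Lib.T2H3.GrTr Groth.Agent.Lib.T2H3.GDual

universe u

variable (K : Type u) [Field K] {R : Type u} [CommRing R] [Algebra K R]
  (𝒜 : ℤ → AddSubgroup R) [GradedRing 𝒜] [KGraded K 𝒜]
  {H : Type u} [AddCommGroup H] [Module R H] [Module K H] [IsScalarTower K R H]
  (𝓗 : ℤ → AddSubgroup H) [DirectSum.Decomposition 𝓗] [SetLike.GradedSMul 𝒜 𝓗]

include 𝒜 in
theorem ksmul_mem (c : K) {n : ℤ} {x : H} (hx : x ∈ 𝓗 n) : c • x ∈ 𝓗 n := by
  have h := SetLike.GradedSMul.smul_mem (A := 𝒜) (B := 𝓗) (KGraded.mem (𝒜 := 𝒜) c) hx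
  rwa [vadd_eq_add, zero_add, algebraMap_smul] at h

include 𝒜 in
theorem decompose_ksmul (c : K) (x : H) (n : ℤ) :
    ((decompose 𝓗 (c • x)) n : H) = c • ((decompose 𝓗 x) n : H) := by
  classical
  induction x using DirectSum.Decomposition.inductionOn 𝓗 with
  | zero => simp
  | @homogeneous j m =>
    have hm : c • (m : H) ∈ 𝓗 j := ksmul_mem K 𝒜 𝓗 c m.2
    by_cases h : j = n
    · subst h
      rw [DirectSum.decompose_of_mem_same _ hm, DirectSum.decompose_of_mem_same _ m.2]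
    · rw [DirectSum.decompose_of_mem_ne _ hm h, DirectSum.decompose_of_mem_ne _ m.2 h, smul_zero]
  | add m m' hm hm' =>
    rw [smul_add, DirectSum.decompose_add, DirectSum.decompose_add, DirectSum.add_apply,
      DirectSum.add_apply, AddSubgroup.coe_add, AddSubgroup.coe_add, smul_add, hm, hm']

/-- The homogeneous component, as a `K`-linear endomorphism. -/
def cp (n : ℤ) : H →ₗ[K] H where
  toFun x := ((decompose 𝓗 x) n : H)
  map_add' x y := by
    rw [DirectSum.decompose_add, DirectSum.add_apply, AddSubgroup.coe_add]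
  map_smul' c x := by
    rw [RingHom.id_apply]
    exact decompose_ksmul K 𝒜 𝓗 c x n

theorem cp_apply (n : ℤ) (x : H) : cp K 𝒜 𝓗 n x = ((decompose 𝓗 x) n : H) := rfl

/-- Functionals vanishing on all but finitely many pieces. -/
def finSuppM : Submodule K (H →ₗ[K] K) where
  carrier := {f | ∃ s : Finset ℤ, ∀ n, n ∉ s → ∀ x ∈ 𝓗 n, f x = 0}
  add_mem' := by
    classical
    rintro f g ⟨s, hs⟩ ⟨t, ht⟩
    refine ⟨s ∪ t, fun n hn x hx => ?_⟩
    rw [Finset.mem_union, not_or] at hn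
    rw [LinearMap.add_apply, hs n hn.1 x hx, ht n hn.2 x hx, add_zero]
  zero_mem' := ⟨∅, fun _ _ _ _ => rfl⟩
  smul_mem' := by
    rintro c f ⟨s, hs⟩
    exact ⟨s, fun n hn x hx => by rw [LinearMap.smul_apply, hs n hn x hx, smul_zero]⟩

/-- The graded dual `H^*` (the grading of the ring is recorded for instance search). -/
def GDm (_𝒜 : ℤ → AddSubgroup R) : Type u := ↥(finSuppM K 𝓗)

instance : AddCommGroup (GDm K 𝓗 𝒜) := inferInstanceAs (AddCommGroup ↥(finSuppM K 𝓗))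
instance : Module K (GDm K 𝓗 𝒜) := inferInstanceAs (Module K ↥(finSuppM K 𝓗))

/-- The underlying functional. -/
def evm : GDm K 𝓗 𝒜 →ₗ[K] H →ₗ[K] K := (finSuppM K 𝓗).subtype

variable {K 𝒜 𝓗}

theorem evm_injective : Function.Injective (evm K 𝒜 𝓗) := Subtype.val_injective

theorem GDm.ext {f g : GDm K 𝓗 𝒜} (h : ∀ x, evm K 𝒜 𝓗 f x = evm K 𝒜 𝓗 g x) : f = g :=
  evm_injective (LinearMap.ext h)

variable (K 𝒜 𝓗)

/-- `f ↦ f(r ·)`. -/
def smulFunM (r : R) (f : H →ₗ[K] K) : H →ₗ[K] K :=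
  f ∘ₗ ((LinearMap.lsmul R H r).restrictScalars K)

theorem smulFunM_apply (r : R) (f : H →ₗ[K] K) (x : H) : smulFunM K r f x = f (r • x) := rfl

include 𝒜 in
theorem smulFunM_mem (r : R) {f : H →ₗ[K] K} (hf : f ∈ finSuppM K 𝓗) :
    smulFunM K r f ∈ finSuppM K 𝓗 := by
  classical
  obtain ⟨s, hs⟩ := hf
  refine ⟨(s ×ˢ (DirectSum.decompose 𝒜 r).support).image (fun p => p.1 - p.2),
    fun n hn x hx => ?_⟩
  rw [smulFunM_apply]
  conv_lhs => rw [← DirectSum.sum_support_decompose 𝒜 r]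
  rw [Finset.sum_smul, map_sum]
  refine Finset.sum_eq_zero fun i hi => ?_
  apply hs (i + n) _ _ (SetLike.GradedSMul.smul_mem (A := 𝒜) (B := 𝓗) (SetLike.coe_mem _) hx)
  intro hin
  apply hn
  rw [Finset.mem_image]
  exact ⟨(i + n, i), Finset.mem_product.2 ⟨hin, hi⟩, by simp⟩

instance : SMul R (GDm K 𝓗 𝒜) :=
  ⟨fun r f => ⟨smulFunM K r f.1, smulFunM_mem K 𝒜 𝓗 r f.2⟩⟩

theorem evm_smul (r : R) (f : GDm K 𝓗 𝒜) (x : H) :
    evm K 𝒜 𝓗 (r • f) x = evm K 𝒜 𝓗 f (r • x) := rfl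

instance : Module R (GDm K 𝓗 𝒜) where
  one_smul f := GDm.ext fun x => by rw [evm_smul, one_smul]
  mul_smul r s f := GDm.ext fun x => by
    rw [evm_smul, evm_smul, evm_smul, mul_comm, mul_smul]
  smul_zero r := GDm.ext fun x => by simp only [evm_smul, map_zero, LinearMap.zero_apply]
  smul_add r f g := GDm.ext fun x => by
    rw [evm_smul, map_add, map_add, LinearMap.add_apply, LinearMap.add_apply, evm_smul, evm_smul]
  add_smul r s f := GDm.ext fun x => by
    rw [evm_smul, map_add, LinearMap.add_apply, evm_smul, evm_smul, add_smul, map_add]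
  zero_smul f := GDm.ext fun x => by
    rw [evm_smul, zero_smul, map_zero, map_zero, LinearMap.zero_apply]

instance : IsScalarTower K R (GDm K 𝓗 𝒜) where
  smul_assoc c r f := GDm.ext fun x => by
    rw [evm_smul, smul_assoc, (evm K 𝒜 𝓗 f).map_smul, (evm K 𝒜 𝓗).map_smul,
      LinearMap.smul_apply, evm_smul]

/-- The pieces, as `K`-subspaces. -/
def pieceKM (n : ℤ) : Submodule K (GDm K 𝓗 𝒜) where
  carrier := {f | ∀ m, m ≠ -n → ∀ x ∈ 𝓗 m, evm K 𝒜 𝓗 f x = 0}
  add_mem' := by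
    intro f g hf hg m hm x hx
    rw [map_add, LinearMap.add_apply, hf m hm x hx, hg m hm x hx, add_zero]
  zero_mem' := fun _ _ _ _ => by rw [map_zero, LinearMap.zero_apply]
  smul_mem' := by
    intro c f hf m hm x hx
    rw [map_smul, LinearMap.smul_apply, hf m hm x hx, smul_zero]

theorem mem_pieceKM {n : ℤ} {f : GDm K 𝓗 𝒜} :
    f ∈ pieceKM K 𝒜 𝓗 n ↔ ∀ m, m ≠ -n → ∀ x ∈ 𝓗 m, evm K 𝒜 𝓗 f x = 0 := Iff.rfl

/-- The value of a functional is the sum of the values on the components, over any finite set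
containing the support. -/
theorem apply_eq_sumM (g : H →ₗ[K] K) (x : H) (U : Finset ℤ)
    (hU : ∀ m, m ∉ U → ((DirectSum.decompose 𝓗 x) m : H) = 0) :
    g x = ∑ m ∈ U, g ((DirectSum.decompose 𝓗 x) m : H) := by
  classical
  rw [← map_sum]
  congr 1
  conv_lhs => rw [← DirectSum.sum_support_decompose 𝓗 x]
  apply Finset.sum_subset
  · intro m hm
    by_contra hmU
    rw [DFinsupp.mem_support_toFun] at hm
    exact hm (Subtype.ext (hU m hmU))
  · intro m _ hm
    rw [DFinsupp.notMem_support_iff] at hm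
    rw [hm]
    rfl

/-- The projection to the piece of degree `n`. -/
def projDM (n : ℤ) : GDm K 𝓗 𝒜 →ₗ[K] GDm K 𝓗 𝒜 where
  toFun f := ⟨(evm K 𝒜 𝓗 f) ∘ₗ cp K 𝒜 𝓗 (-n), by
    classical
    refine ⟨{-n}, fun m hm x hx => ?_⟩
    rw [Finset.mem_singleton] at hm
    rw [LinearMap.comp_apply, cp_apply, DirectSum.decompose_of_mem_ne 𝓗 hx hm, map_zero]⟩
  map_add' f g := GDm.ext fun x => by
    change (evm K 𝒜 𝓗 (f + g)) (cp K 𝒜 𝓗 (-n) x) =
      evm K 𝒜 𝓗 f (cp K 𝒜 𝓗 (-n) x) + evm K 𝒜 𝓗 g (cp K 𝒜 𝓗 (-n) x)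
    rw [map_add, LinearMap.add_apply]
  map_smul' c f := GDm.ext fun x => by
    change (evm K 𝒜 𝓗 (c • f)) (cp K 𝒜 𝓗 (-n) x) = c • evm K 𝒜 𝓗 f (cp K 𝒜 𝓗 (-n) x)
    rw [map_smul, LinearMap.smul_apply]

theorem evm_projDM (n : ℤ) (f : GDm K 𝓗 𝒜) (x : H) :
    evm K 𝒜 𝓗 (projDM K 𝒜 𝓗 n f) x = evm K 𝒜 𝓗 f ((DirectSum.decompose 𝓗 x) (-n) : H) := rfl

theorem isInternal_pieceKM : DirectSum.IsInternal (pieceKM K 𝒜 𝓗) := by
  classical
  refine Groth.Agent.Lib.T2H3.EG.isInternal_of_proj (pieceKM K 𝒜 𝓗) (projDM K 𝒜 𝓗) ?_ ?_ ?_ ?_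
  · intro n f m hm x hx
    rw [evm_projDM, DirectSum.decompose_of_mem_ne 𝓗 hx hm, map_zero]
  · intro n f hf
    apply GDm.ext
    intro x
    rw [evm_projDM, apply_eq_sumM K 𝓗 (evm K 𝒜 𝓗 f) x ((DirectSum.decompose 𝓗 x).support ∪ {-n})
      (fun m hm => by
        rw [Finset.mem_union, not_or, DFinsupp.notMem_support_iff] at hm
        rw [hm.1]
        rfl)]
    rw [Finset.sum_eq_single (-n)]
    · intro m _ hm
      exact hf m hm _ (SetLike.coe_mem _)
    · intro h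
      exact absurd (Finset.mem_union_right _ (Finset.mem_singleton_self _)) h
  · intro i j f hij hf
    apply GDm.ext
    intro x
    rw [evm_projDM, map_zero, LinearMap.zero_apply]
    exact hf (-i) (by omega) _ (SetLike.coe_mem _)
  · intro f
    obtain ⟨s, hs⟩ := f.2
    refine ⟨s.image Neg.neg, ?_⟩
    apply GDm.ext
    intro x
    rw [map_sum, LinearMap.sum_apply, Finset.sum_image (fun a _ b _ h => neg_injective h)]
    have hneg : ∀ a ∈ s, evm K 𝒜 𝓗 (projDM K 𝒜 𝓗 (-a) f) x =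
        evm K 𝒜 𝓗 f ((DirectSum.decompose 𝓗 x) a : H) := by
      intro a _
      rw [evm_projDM, neg_neg]
    rw [Finset.sum_congr rfl hneg]
    rw [apply_eq_sumM K 𝓗 (evm K 𝒜 𝓗 f) x ((DirectSum.decompose 𝓗 x).support ∪ s)
      (fun m hm => by
        rw [Finset.mem_union, not_or, DFinsupp.notMem_support_iff] at hm
        rw [hm.1]
        rfl)]
    symm
    apply Finset.sum_subset Finset.subset_union_right
    intro m _ hm
    exact hs m hm _ (SetLike.coe_mem _)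

instance pieceKMDecomposition : DirectSum.Decomposition (pieceKM K 𝒜 𝓗) :=
  (isInternal_pieceKM K 𝒜 𝓗).chooseDecomposition

/-- The pieces, as additive subgroups. -/
abbrev pieceM : ℤ → AddSubgroup (GDm K 𝓗 𝒜) := asGr (pieceKM K 𝒜 𝓗)

theorem mem_pieceM {n : ℤ} {f : GDm K 𝓗 𝒜} :
    f ∈ pieceM K 𝒜 𝓗 n ↔ ∀ m, m ≠ -n → ∀ x ∈ 𝓗 m, evm K 𝒜 𝓗 f x = 0 := Iff.rfl

instance pieceM_gradedSMul : SetLike.GradedSMul 𝒜 (pieceM K 𝒜 𝓗) where
  smul_mem := by
    intro i n r f hr hf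
    rw [vadd_eq_add, mem_pieceM]
    intro m hm x hx
    rw [evm_smul]
    exact hf (i + m) (by omega) _ (SetLike.GradedSMul.smul_mem (A := 𝒜) (B := 𝓗) hr hx)

/-- `H^*` is the graded dual of `H`. -/
theorem isGDualM : GrSeg.IsGDual R 𝓗 (pieceM K 𝒜 𝓗) (evm K 𝒜 𝓗) where
  map_smul r d x := by rw [evm_smul]
  vanish n d hd m hm x hx := hd m hm x hx
  eq_zero n d hd h := by
    classical
    apply GDm.ext
    intro x
    rw [map_zero, LinearMap.zero_apply, apply_eq_sumM K 𝓗 (evm K 𝒜 𝓗 d) x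
      (DirectSum.decompose 𝓗 x).support
      (fun m hm => by
        rw [DFinsupp.notMem_support_iff] at hm
        rw [hm]
        rfl)]
    refine Finset.sum_eq_zero fun m _ => ?_
    by_cases hm : m = -n
    · subst hm
      exact h _ (SetLike.coe_mem _)
    · exact hd m hm _ (SetLike.coe_mem _)
  exists_eq n g := by
    classical
    refine ⟨⟨g ∘ₗ cp K 𝒜 𝓗 (-n), ⟨{-n}, fun m hm x hx => ?_⟩⟩, ?_, ?_⟩
    · rw [Finset.mem_singleton] at hm
      rw [LinearMap.comp_apply, cp_apply, DirectSum.decompose_of_mem_ne 𝓗 hx hm, map_zero]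
    · intro m hm x hx
      change g (cp K 𝒜 𝓗 (-n) x) = 0
      rw [cp_apply, DirectSum.decompose_of_mem_ne 𝓗 hx hm, map_zero]
    · intro x hx
      change g (cp K 𝒜 𝓗 (-n) x) = g x
      rw [cp_apply, DirectSum.decompose_of_mem_same 𝓗 hx]

end Groth.Agent.Lib.T2H3.LDual
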