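import Groth.Agent.Lib.T2H3GDualA
import Groth.Agent.Lib.Helper29GrHom

/-! Graded duals (helper3), local duality part B: transposes of homogeneous maps between graded
duals; the transpose of an injection is a surjection, the transposed sequence of an exact sequence
is exact; transport of a graded dual along a homogeneous isomorphism of the predual. -/

set_option autoImplicit false
set_option linter.unusedSectionVars false
set_option linter.unusedVariables false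
set_option linter.style.haveILetI false
set_option maxHeartbeats 1000000
open DirectSum

noncomputable section

namespace Groth.Agent.Lib.T2H3.LDual

open Groth.Agent.Lib.LeadGD Groth.Agent.Lib.T2H3.GDualU

universe u

section Ext

variable {k : Type u} [Field k]
  {H : Type u} [AddCommGroup H] [Module k H]
  (𝓗 : ℤ → AddSubgroup H) [DirectSum.Decomposition 𝓗]

/-- Two additive functionals agreeing on homogeneous elements agree. -/
theorem eq_of_eq_on_homogeneous {f g : H →ₗ[k] k}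
    (h : ∀ (i : ℤ) (x : H), x ∈ 𝓗 i → f x = g x) (x : H) : f x = g x := by
  classical
  induction x using DirectSum.Decomposition.inductionOn 𝓗 with
  | zero => rw [map_zero, map_zero]
  | homogeneous x => exact h _ _ x.2
  | add x y hx hy => rw [map_add, map_add, hx, hy]

end Ext

section Transpose

variable {k : Type u} [Field k] {R : Type u} [CommRing R] [Algebra k R]
  {H : Type u} [AddCommGroup H] [Module R H] [Module k H] [IsScalarTower k R H]
  (𝓗 : ℤ → AddSubgroup H) [DirectSum.Decomposition 𝓗]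
  {H' : Type u} [AddCommGroup H'] [Module R H'] [Module k H'] [IsScalarTower k R H']
  (𝓗' : ℤ → AddSubgroup H') [DirectSum.Decomposition 𝓗']
  {D : Type u} [AddCommGroup D] [Module R D] [Module k D] [IsScalarTower k R D]
  (𝒟 : ℤ → AddSubgroup D) [DirectSum.Decomposition 𝒟]
  {β : D →ₗ[k] H →ₗ[k] k} (hD : GrSeg.IsGDual R 𝓗 𝒟 β)
  {D' : Type u} [AddCommGroup D'] [Module R D'] [Module k D'] [IsScalarTower k R D']
  (𝒟' : ℤ → AddSubgroup D') [DirectSum.Decomposition 𝒟']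
  {β' : D' →ₗ[k] H' →ₗ[k] k} (hD' : GrSeg.IsGDual R 𝓗' 𝒟' β')
  (f : H →ₗ[R] H') (hf : ∀ (g : ℤ) (x : H), x ∈ 𝓗 g → f x ∈ 𝓗' g)

include hD hD' hf in
theorem exists_tr_of_mem {n : ℤ} {d' : D'} (hd' : d' ∈ 𝒟' n) :
    ∃ d ∈ 𝒟 n, ∀ x : H, β d x = β' d' (f x) := by
  obtain ⟨d, hd, h⟩ := hD.exists_eq n ((β' d').comp (f.restrictScalars k))
  refine ⟨d, hd, fun x => ?_⟩
  refine eq_of_eq_on_homogeneous 𝓗 (f := β d) (g := (β' d').comp (f.restrictScalars k))
    (fun g y hy => ?_) x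
  by_cases hg : g = -n
  · subst hg
    exact h y hy
  · rw [hD.vanish n d hd g hg y hy]
    symm
    exact hD'.vanish n d' hd' g hg _ (hf g y hy)

include hD hD' hf in
theorem exists_tr (d' : D') : ∃ d : D, ∀ x : H, β d x = β' d' (f x) := by
  classical
  induction d' using DirectSum.Decomposition.inductionOn 𝒟' with
  | zero => exact ⟨0, fun x => by rw [map_zero, map_zero, LinearMap.zero_apply,
      LinearMap.zero_apply]⟩
  | homogeneous d' =>
    obtain ⟨d, -, h⟩ := exists_tr_of_mem 𝓗 𝓗' 𝒟 hD 𝒟' hD' f hf d'.2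
    exact ⟨d, h⟩
  | add a b ha hb =>
    obtain ⟨a₂, ha₂⟩ := ha
    obtain ⟨b₂, hb₂⟩ := hb
    exact ⟨a₂ + b₂, fun x => by
      rw [map_add, map_add, LinearMap.add_apply, LinearMap.add_apply, ha₂, hb₂]⟩

/-- The transpose `D' → D` of a homogeneous map `f : H → H'`. -/
def tr : D' →ₗ[R] D where
  toFun d' := Classical.choose (exists_tr 𝓗 𝓗' 𝒟 hD 𝒟' hD' f hf d')
  map_add' a b := by
    refine rep_unique 𝓗 𝒟 hD fun x => ?_
    rw [Classical.choose_spec (exists_tr 𝓗 𝓗' 𝒟 hD 𝒟' hD' f hf (a + b)) x, map_add, map_add,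
      LinearMap.add_apply, LinearMap.add_apply,
      Classical.choose_spec (exists_tr 𝓗 𝓗' 𝒟 hD 𝒟' hD' f hf a) x,
      Classical.choose_spec (exists_tr 𝓗 𝓗' 𝒟 hD 𝒟' hD' f hf b) x]
  map_smul' r a := by
    refine rep_unique 𝓗 𝒟 hD fun x => ?_
    rw [RingHom.id_apply, Classical.choose_spec (exists_tr 𝓗 𝓗' 𝒟 hD 𝒟' hD' f hf (r • a)) x,
      hD'.map_smul, hD.map_smul,
      Classical.choose_spec (exists_tr 𝓗 𝓗' 𝒟 hD 𝒟' hD' f hf a) (r • x), f.map_smul r x]

theorem pair_tr (d' : D') (x : H) : β (tr 𝓗 𝓗' 𝒟 hD 𝒟' hD' f hf d') x = β' d' (f x) :=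
  Classical.choose_spec (exists_tr 𝓗 𝓗' 𝒟 hD 𝒟' hD' f hf d') x

theorem tr_mem {n : ℤ} {d' : D'} (hd' : d' ∈ 𝒟' n) : tr 𝓗 𝓗' 𝒟 hD 𝒟' hD' f hf d' ∈ 𝒟 n := by
  obtain ⟨d, hd, h⟩ := exists_tr_of_mem 𝓗 𝓗' 𝒟 hD 𝒟' hD' f hf hd'
  have : tr 𝓗 𝓗' 𝒟 hD 𝒟' hD' f hf d' = d := by
    refine rep_unique 𝓗 𝒟 hD fun x => ?_
    rw [pair_tr, h]
  rw [this]
  exact hd

/-- The transpose of an injective homogeneous map is surjective. -/
theorem tr_surjective (hinj : Function.Injective f) :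
    Function.Surjective (tr 𝓗 𝓗' 𝒟 hD 𝒟' hD' f hf) := by
  classical
  intro d
  induction d using DirectSum.Decomposition.inductionOn 𝒟 with
  | zero => exact ⟨0, map_zero _⟩
  | @homogeneous n d =>
    have hinj' : LinearMap.ker (f.restrictScalars k) = ⊥ := by
      rw [LinearMap.ker_eq_bot]
      exact hinj
    obtain ⟨s, hs⟩ := LinearMap.exists_leftInverse_of_injective (f.restrictScalars k) hinj'
    have hs' : ∀ x, s (f x) = x := fun x => LinearMap.congr_fun hs x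
    obtain ⟨d', hd', h⟩ := hD'.exists_eq n ((β (d : D)).comp s)
    refine ⟨d', rep_unique 𝓗 𝒟 hD fun x => ?_⟩
    refine eq_of_eq_on_homogeneous 𝓗 (f := β (tr 𝓗 𝓗' 𝒟 hD 𝒟' hD' f hf d')) (g := β (d : D))
      (fun g y hy => ?_) x
    by_cases hg : g = -n
    · subst hg
      rw [pair_tr, h _ (hf _ y hy), LinearMap.comp_apply, hs']
    · rw [hD.vanish n _ (tr_mem 𝓗 𝓗' 𝒟 hD 𝒟' hD' f hf hd') g hg y hy,
        hD.vanish n _ d.2 g hg y hy]
  | add a b ha hb =>
    obtain ⟨a', ha'⟩ := ha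
    obtain ⟨b', hb'⟩ := hb
    exact ⟨a' + b', by rw [map_add, ha', hb']⟩

end Transpose

section Exact

variable {k : Type u} [Field k] {R : Type u} [CommRing R] [Algebra k R]
  {H : Type u} [AddCommGroup H] [Module R H] [Module k H] [IsScalarTower k R H]
  (𝓗 : ℤ → AddSubgroup H) [DirectSum.Decomposition 𝓗]
  {H' : Type u} [AddCommGroup H'] [Module R H'] [Module k H'] [IsScalarTower k R H']
  (𝓗' : ℤ → AddSubgroup H') [DirectSum.Decomposition 𝓗']
  {H'' : Type u} [AddCommGroup H''] [Module R H''] [Module k H''] [IsScalarTower k R H'']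
  (𝓗'' : ℤ → AddSubgroup H'') [DirectSum.Decomposition 𝓗'']
  {D : Type u} [AddCommGroup D] [Module R D] [Module k D] [IsScalarTower k R D]
  (𝒟 : ℤ → AddSubgroup D) [DirectSum.Decomposition 𝒟]
  {β : D →ₗ[k] H →ₗ[k] k} (hD : GrSeg.IsGDual R 𝓗 𝒟 β)
  {D' : Type u} [AddCommGroup D'] [Module R D'] [Module k D'] [IsScalarTower k R D']
  (𝒟' : ℤ → AddSubgroup D') [DirectSum.Decomposition 𝒟']
  {β' : D' →ₗ[k] H' →ₗ[k] k} (hD' : GrSeg.IsGDual R 𝓗' 𝒟' β')
  {D'' : Type u} [AddCommGroup D''] [Module R D''] [Module k D''] [IsScalarTower k R D'']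
  (𝒟'' : ℤ → AddSubgroup D'') [DirectSum.Decomposition 𝒟'']
  {β'' : D'' →ₗ[k] H'' →ₗ[k] k} (hD'' : GrSeg.IsGDual R 𝓗'' 𝒟'' β'')
  (f : H →ₗ[R] H') (hf : ∀ (g : ℤ) (x : H), x ∈ 𝓗 g → f x ∈ 𝓗' g)
  (f' : H' →ₗ[R] H'') (hf' : ∀ (g : ℤ) (x : H'), x ∈ 𝓗' g → f' x ∈ 𝓗'' g)

/-- The transposed sequence of an exact sequence is exact. -/
theorem ker_tr_le_range (hex : LinearMap.ker f' ≤ LinearMap.range f) :
    LinearMap.ker (tr 𝓗 𝓗' 𝒟 hD 𝒟' hD' f hf) ≤
      LinearMap.range (tr 𝓗' 𝓗'' 𝒟' hD' 𝒟'' hD'' f' hf') := by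
  classical
  intro d' hd'
  rw [LinearMap.mem_ker] at hd'
  -- reduce to homogeneous components
  rw [← DirectSum.sum_support_decompose 𝒟' d']
  refine Submodule.sum_mem _ fun n _ => ?_
  have hcomp : tr 𝓗 𝓗' 𝒟 hD 𝒟' hD' f hf ((decompose 𝒟' d') n : D') = 0 := by
    rw [← Groth.Agent.Lib.Helper29GrHom.decompose_map 𝒟 𝒟' (tr 𝓗 𝓗' 𝒟 hD 𝒟' hD' f hf)
      (fun g m hm => tr_mem 𝓗 𝓗' 𝒟 hD 𝒟' hD' f hf hm) d' n, hd', DirectSum.decompose_zero]
    rfl
  obtain ⟨e, he⟩ : ∃ e : D', e = ((decompose 𝒟' d') n : D') := ⟨_, rfl⟩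
  have hen : e ∈ 𝒟' n := by rw [he]; exact SetLike.coe_mem _
  rw [← he] at hcomp ⊢
  -- the functional `β' e` kills the kernel of `f'`
  have hann : β' e ∈ (LinearMap.ker (f'.restrictScalars k)).dualAnnihilator := by
    rw [Submodule.mem_dualAnnihilator]
    intro y hy
    have hy' : y ∈ LinearMap.ker f' := hy
    obtain ⟨x, rfl⟩ := hex hy'
    rw [← pair_tr 𝓗 𝓗' 𝒟 hD 𝒟' hD' f hf e x, hcomp, map_zero, LinearMap.zero_apply]
  rw [← LinearMap.range_dualMap_eq_dualAnnihilator_ker] at hann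
  obtain ⟨lam, hlam⟩ := hann
  have hlam' : ∀ y, lam (f' y) = β' e y := fun y => LinearMap.congr_fun hlam y
  obtain ⟨d'', hd'', h⟩ := hD''.exists_eq n lam
  refine ⟨d'', rep_unique 𝓗' 𝒟' hD' fun y => ?_⟩
  refine eq_of_eq_on_homogeneous 𝓗' (f := β' (tr 𝓗' 𝓗'' 𝒟' hD' 𝒟'' hD'' f' hf' d''))
    (g := β' e) (fun g y hy => ?_) y
  by_cases hg : g = -n
  · subst hg
    rw [pair_tr, h _ (hf' _ y hy), hlam']
  · rw [hD'.vanish n _ (tr_mem 𝓗' 𝓗'' 𝒟' hD' 𝒟'' hD'' f' hf' hd'') g hg y hy,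
      hD'.vanish n _ hen g hg y hy]

end Exact

section Transport

variable {k : Type u} [Field k] {R : Type u} [CommRing R] [Algebra k R]
  {H : Type u} [AddCommGroup H] [Module R H] [Module k H] [IsScalarTower k R H]
  (𝓗 : ℤ → AddSubgroup H) [DirectSum.Decomposition 𝓗]
  {H' : Type u} [AddCommGroup H'] [Module R H'] [Module k H'] [IsScalarTower k R H']
  (𝓗' : ℤ → AddSubgroup H') [DirectSum.Decomposition 𝓗']
  {D : Type u} [AddCommGroup D] [Module R D] [Module k D] [IsScalarTower k R D]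
  (𝒟 : ℤ → AddSubgroup D) [DirectSum.Decomposition 𝒟]
  {β : D →ₗ[k] H →ₗ[k] k} (hD : GrSeg.IsGDual R 𝓗 𝒟 β)

/-- The pairing transported along an isomorphism of the predual. -/
def pairTransport (e : H ≃ₗ[R] H') : D →ₗ[k] H' →ₗ[k] k :=
  (LinearMap.lcomp k k (e.symm.toLinearMap.restrictScalars k)).comp β

theorem pairTransport_apply (e : H ≃ₗ[R] H') (d : D) (y : H') :
    pairTransport (β := β) e d y = β d (e.symm y) := rfl

include hD in
/-- Transport of a graded dual along a homogeneous isomorphism of the predual. -/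
theorem isGDual_transport (e : H ≃ₗ[R] H') (he : ∀ (g : ℤ) (x : H), x ∈ 𝓗 g → e x ∈ 𝓗' g)
    (he' : ∀ (g : ℤ) (y : H'), y ∈ 𝓗' g → e.symm y ∈ 𝓗 g) :
    GrSeg.IsGDual R 𝓗' 𝒟 (pairTransport (β := β) e) := by
  refine ⟨?_, ?_, ?_, ?_⟩
  · intro r d y
    rw [pairTransport_apply, pairTransport_apply, hD.map_smul, e.symm.map_smul r y]
  · intro n d hd m hm y hy
    rw [pairTransport_apply]
    exact hD.vanish n d hd m hm _ (he' m y hy)
  · intro n d hd h
    refine hD.eq_zero n d hd fun x hx => ?_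
    have h1 := h (e x) (he _ x hx)
    rwa [pairTransport_apply, e.symm_apply_apply] at h1
  · intro n g
    obtain ⟨d, hd, h⟩ := hD.exists_eq n (g.comp (e.toLinearMap.restrictScalars k))
    refine ⟨d, hd, fun y hy => ?_⟩
    rw [pairTransport_apply, h _ (he' _ y hy)]
    change g (e (e.symm y)) = g y
    rw [e.apply_symm_apply]

end Transport

end Groth.Agent.Lib.T2H3.LDual
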