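import Groth.Agent.Lib.T2H3GrTopDualF
import Groth.Agent.Lib.T2H3LDualB

/-! Local duality (helper3), part C: naturality of the comparison map
`ε : (H^n_a(M))^* → Hom_R(M, K)` of `T2H3GrTopDualE`, vanishing of the local cohomology of graded
free modules, and graded presentations. -/

set_option autoImplicit false
set_option linter.unusedSectionVars false
set_option linter.unusedVariables false
set_option linter.style.haveILetI false
set_option maxHeartbeats 1000000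
open DirectSum

noncomputable section

namespace Groth.Agent.Lib.T2H3.LDual

open GrLC Groth.Agent.Lib.T2H3.GrLes Groth.Agent.Lib.Helper29GrShift Groth.Agent.Lib.LeadGD
  Groth.Agent.Lib.Helper29GrSub Groth.Agent.Lib.Helper29GrHom Groth.Agent.Lib.T2H3.GrTopDual

universe u

section ThetaNat

variable {ι : Type} [AddCommGroup ι] [DecidableEq ι]
variable {R : Type u} [CommRing R] {𝒜 : ι → AddSubgroup R} [GradedRing 𝒜]
variable {M : Type u} [AddCommGroup M] [Module R M] {ℳ : ι → AddSubgroup M}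
  [DirectSum.Decomposition ℳ] [SetLike.GradedSMul 𝒜 ℳ]
variable {N : Type u} [AddCommGroup N] [Module R N] {𝒩 : ι → AddSubgroup N}
  [DirectSum.Decomposition 𝒩] [SetLike.GradedSMul 𝒜 𝒩]
variable (I : StarInjRes 𝒜 𝒜) (a : HomogeneousIdeal 𝒜) (n : ℕ)

theorem thetaFull_nat (E : StarInjRes 𝒜 ℳ) (F : StarInjRes 𝒜 𝒩)
    {f : M →ₗ[R] N} (hf : IsGrHom ℳ 𝒩 f) {φ : CMap E F} (hφ : φ.IsGr) (hφf : φ.Over f)
    (x : M) (h : I.H a n) :
    φ.H a n (thetaFull I a n E x h) = thetaFull I a n F (f x) h := by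
  classical
  induction x using DirectSum.Decomposition.inductionOn ℳ with
  | zero => simp
  | @homogeneous i x =>
    rw [thetaFull_of_mem I a n E x.2, thetaFull_of_mem I a n F (hf i x x.2)]
    exact theta_nat I a n x.2 E F hf hφ hφf h
  | add x y hx hy =>
    rw [map_add, LinearMap.add_apply, map_add, hx, hy, map_add, map_add, LinearMap.add_apply]

/-- The induced map on local cohomology is homogeneous. -/
theorem H_isGr {E : StarInjRes 𝒜 ℳ} {F : StarInjRes 𝒜 𝒩} {φ : CMap E F} (hφ : φ.IsGr) (g : ι)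
    (x : E.H a n) (hx : x ∈ E.Hgr a n g) : φ.H a n x ∈ F.Hgr a n g :=
  CMap.H_mem_Hcomp φ a hφ n g hx

/-- The local cohomology of a graded free module vanishes where that of the ring does. -/
theorem freeH_eq_zero (hI : ∀ y : I.H a n, y = 0) {s : ℕ} (deg : Fin s → ι)
    (EF : StarInjRes 𝒜 (freeGr 𝒜 deg)) (h : EF.H a n) : h = 0 := by
  rw [← sum_theta_projH I a n deg EF h]
  refine Finset.sum_eq_zero fun j _ => ?_
  rw [hI (projH I a n deg EF j h), map_zero]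

end ThetaNat

section EpsNat

variable {k : Type u} [Field k] {R : Type u} [CommRing R] [Algebra k R]
  {𝒜 : ℤ → AddSubgroup R} [GradedRing 𝒜]
  (a : HomogeneousIdeal 𝒜) (n : ℕ)
  (I : StarInjRes 𝒜 𝒜) [Module k (I.H a n)] [IsScalarTower k R (I.H a n)]
  [DirectSum.Decomposition (I.Hgr a n)]
  {K : Type u} [AddCommGroup K] [Module R K] [Module k K] [IsScalarTower k R K]
  (𝒦 : ℤ → AddSubgroup K) [DirectSum.Decomposition 𝒦]
  {βK : K →ₗ[k] I.H a n →ₗ[k] k} (hK : GrSeg.IsGDual R (I.Hgr a n) 𝒦 βK)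
  {M₁ : Type u} [AddCommGroup M₁] [Module R M₁] (ℳ₁ : ℤ → AddSubgroup M₁)
  [DirectSum.Decomposition ℳ₁] [SetLike.GradedSMul 𝒜 ℳ₁]
  (E₁ : StarInjRes 𝒜 ℳ₁) [Module k (E₁.H a n)] [IsScalarTower k R (E₁.H a n)]
  [DirectSum.Decomposition (E₁.Hgr a n)]
  {D₁ : Type u} [AddCommGroup D₁] [Module R D₁] [Module k D₁] [IsScalarTower k R D₁]
  (𝒟₁ : ℤ → AddSubgroup D₁) [DirectSum.Decomposition 𝒟₁]
  {β₁ : D₁ →ₗ[k] E₁.H a n →ₗ[k] k} (hD₁ : GrSeg.IsGDual R (E₁.Hgr a n) 𝒟₁ β₁)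
  {M₂ : Type u} [AddCommGroup M₂] [Module R M₂] (ℳ₂ : ℤ → AddSubgroup M₂)
  [DirectSum.Decomposition ℳ₂] [SetLike.GradedSMul 𝒜 ℳ₂]
  (E₂ : StarInjRes 𝒜 ℳ₂) [Module k (E₂.H a n)] [IsScalarTower k R (E₂.H a n)]
  [DirectSum.Decomposition (E₂.Hgr a n)]
  {D₂ : Type u} [AddCommGroup D₂] [Module R D₂] [Module k D₂] [IsScalarTower k R D₂]
  (𝒟₂ : ℤ → AddSubgroup D₂) [DirectSum.Decomposition 𝒟₂]
  {β₂ : D₂ →ₗ[k] E₂.H a n →ₗ[k] k} (hD₂ : GrSeg.IsGDual R (E₂.Hgr a n) 𝒟₂ β₂)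
  {f : M₁ →ₗ[R] M₂} (hf : IsGrHom ℳ₁ ℳ₂ f) {φ : CMap E₁ E₂} (hφ : φ.IsGr) (hφf : φ.Over f)

include hf hφf in
/-- Naturality of the comparison map `ε`. -/
theorem eps_nat (d : D₂) (x : M₁) :
    eps a n I 𝒦 hK ℳ₁ E₁ 𝒟₁ hD₁
      (tr (E₁.Hgr a n) (E₂.Hgr a n) 𝒟₁ hD₁ 𝒟₂ hD₂ (φ.H a n) (H_isGr a n hφ) d) x =
    eps a n I 𝒦 hK ℳ₂ E₂ 𝒟₂ hD₂ d (f x) := by
  refine eps_eq a n I 𝒦 hK ℳ₁ E₁ 𝒟₁ hD₁ (fun h => ?_)
  rw [eps_spec, pair_tr, thetaFull_nat I a n E₁ E₂ hf hφ hφf]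

end EpsNat

section Pres

variable {R : Type u} [CommRing R] [IsNoetherianRing R] {𝒜 : ℤ → AddSubgroup R} [GradedRing 𝒜]
  {M : Type u} [AddCommGroup M] [Module R M] [Module.Finite R M] (ℳ : ℤ → AddSubgroup M)
  [DirectSum.Decomposition ℳ] [SetLike.GradedSMul 𝒜 ℳ]

/-- A graded presentation by a graded free module of finite rank. -/
theorem exists_presentation : ∃ (s : ℕ) (deg : Fin s → ℤ) (π : (Fin s → R) →ₗ[R] M),
    IsGrHom (freeGr 𝒜 deg) ℳ π ∧ Function.Surjective π := by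
  obtain ⟨s, x, deg, hx, hspan⟩ := exists_fin_homogeneous_generators (R := R) ℳ
  exact ⟨s, deg, freeMap (R := R) x, freeMap_isGr 𝒜 deg ℳ hx, freeMap_surjective hspan⟩

end Pres

end Groth.Agent.Lib.T2H3.LDual
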