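import Mathlib

/-! Local duality (helper3), part E: dimension shifting for `Ext^t(-, K)` along a presentation
`0 → ker π → F → M → 0` with `F` projective, in `R`-linear form. -/

set_option autoImplicit false
set_option linter.unusedSectionVars false
set_option linter.style.haveILetI false

noncomputable section

namespace Groth.Agent.Lib.T2H3.LDual

open CategoryTheory CategoryTheory.Abelian

universe u

variable {R : Type u} [CommRing R] {F M : Type u} [AddCommGroup F] [Module R F]
  [AddCommGroup M] [Module R M] (K : Type u) [AddCommGroup K] [Module R K]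
  (π : F →ₗ[R] M) (hπ : Function.Surjective π) [Module.Projective R F]

include hπ in
/-- `Ext^t(ker π, K) ≅ Ext^{t+1}(M, K)` for `t ≥ 1`. -/
theorem nonempty_ext_shift (t : ℕ) (ht : 1 ≤ t) :
    Nonempty (Ext.{u} (ModuleCat.of R ↥(LinearMap.ker π)) (ModuleCat.of R K) t ≃ₗ[R]
      Ext.{u} (ModuleCat.of R M) (ModuleCat.of R K) (t + 1)) := by
  have hS := LinearMap.shortExact_shortComplexKer hπ
  haveI : Projective π.shortComplexKer.X₂ :=
    (ModuleCat.of R F).projective_of_categoryTheory_projective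
  obtain ⟨t', rfl⟩ : ∃ t', t = t' + 1 := ⟨t - 1, by omega⟩
  refine ⟨LinearEquiv.ofBijective
    (hS.extClass.precompOfLinear R (ModuleCat.of R K) (add_comm 1 (t' + 1))) ⟨?_, ?_⟩⟩
  · rw [injective_iff_map_eq_zero]
    intro x hx
    obtain ⟨x₂, hx₂⟩ := Ext.contravariant_sequence_exact₁ hS (ModuleCat.of R K) x
      (add_comm 1 (t' + 1)) hx
    rw [← hx₂, Ext.eq_zero_of_projective x₂, Ext.comp_zero]
  · exact precomp_extClass_surjective_of_projective_X₂ (ModuleCat.of R K) hS (t' + 1)

/-- The map `Hom(ker π, K) → Ext^1(M, K)`. -/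
def connect : (↥(LinearMap.ker π) →ₗ[R] K) →ₗ[R]
    Ext.{u} (ModuleCat.of R M) (ModuleCat.of R K) 1 :=
  ((LinearMap.shortExact_shortComplexKer hπ).extClass.precompOfLinear R (ModuleCat.of R K)
      (add_comm 1 0)) ∘ₗ
    (Ext.linearEquiv₀ (R := R) (X := ModuleCat.of R ↥(LinearMap.ker π))
      (Y := ModuleCat.of R K)).symm.toLinearMap ∘ₗ
    (ModuleCat.homLinearEquiv (S := R) (M := ModuleCat.of R ↥(LinearMap.ker π))
      (N := ModuleCat.of R K)).symm.toLinearMap

theorem connect_apply (u : ↥(LinearMap.ker π) →ₗ[R] K) :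
    connect K π hπ u = (LinearMap.shortExact_shortComplexKer hπ).extClass.comp
      (Ext.mk₀ (ModuleCat.ofHom u)) (add_comm 1 0) := rfl

theorem connect_surjective : Function.Surjective (connect K π hπ) := by
  have hS := LinearMap.shortExact_shortComplexKer hπ
  haveI : Projective π.shortComplexKer.X₂ :=
    (ModuleCat.of R F).projective_of_categoryTheory_projective
  intro y
  obtain ⟨x, hx⟩ := precomp_extClass_surjective_of_projective_X₂ (ModuleCat.of R K) hS 0 y
  obtain ⟨g, rfl⟩ := (Ext.linearEquiv₀ (R := R)).symm.surjective x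
  refine ⟨g.hom, ?_⟩
  rw [connect_apply]
  exact hx

theorem ker_connect : LinearMap.ker (connect K π hπ) =
    LinearMap.range (LinearMap.lcomp R K (LinearMap.ker π).subtype) := by
  have hS := LinearMap.shortExact_shortComplexKer hπ
  ext u
  rw [LinearMap.mem_ker, connect_apply, LinearMap.mem_range]
  constructor
  · intro hu
    obtain ⟨x₂, hx₂⟩ := Ext.contravariant_sequence_exact₁ hS (ModuleCat.of R K)
      (Ext.mk₀ (ModuleCat.ofHom u)) (add_comm 1 0) hu
    obtain ⟨g, rfl⟩ := (Ext.linearEquiv₀ (R := R)).symm.surjective x₂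
    refine ⟨g.hom, ?_⟩
    have h1 : (Ext.mk₀ π.shortComplexKer.f).comp (Ext.mk₀ g) (zero_add 0) =
        Ext.mk₀ (π.shortComplexKer.f ≫ g) := Ext.mk₀_comp_mk₀ _ _
    have h2 : Ext.mk₀ (π.shortComplexKer.f ≫ g) = Ext.mk₀ (ModuleCat.ofHom u) := by
      rw [← h1]
      exact hx₂
    have h3 : π.shortComplexKer.f ≫ g = ModuleCat.ofHom u :=
      (Ext.mk₀_bijective _ _).1 h2
    have h4 := congrArg ModuleCat.Hom.hom h3
    exact h4
  · rintro ⟨v, rfl⟩
    have h1 : Ext.mk₀ (ModuleCat.ofHom (LinearMap.lcomp R K (LinearMap.ker π).subtype v)) =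
        (Ext.mk₀ π.shortComplexKer.f).comp (Ext.mk₀ (ModuleCat.ofHom v)) (zero_add 0) := by
      rw [Ext.mk₀_comp_mk₀]
      rfl
    rw [h1]
    exact hS.extClass_comp_assoc _

include hπ in
/-- `Hom(ker π, K) / Hom(F, K) ≅ Ext^1(M, K)`. -/
theorem nonempty_coker_equiv_ext_one :
    Nonempty (((↥(LinearMap.ker π) →ₗ[R] K) ⧸
        LinearMap.range (LinearMap.lcomp R K (LinearMap.ker π).subtype)) ≃ₗ[R]
      Ext.{u} (ModuleCat.of R M) (ModuleCat.of R K) 1) :=
  ⟨(Submodule.quotEquivOfEq _ _ (ker_connect K π hπ).symm).trans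
    ((connect K π hπ).quotKerEquivOfSurjective (connect_surjective K π hπ))⟩

end Groth.Agent.Lib.T2H3.LDual
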