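import Groth.Agent.Lib.T2H3LDualA
import Groth.Agent.Lib.T2H3LDualC
import Groth.Agent.Lib.T2H3LDualE
import Groth.Agent.Lib.T2H3GrArtC
import Groth.Agent.Lib.T2H3GorCanon

/-! **Graded local duality** (helper3), part D.  Let `R` be a Noetherian `ℤ`-graded ring on which a
field `k` acts in degree zero, `a` a homogeneous ideal, `n ≥ dim R` with `H^j_a(R) = 0` for `j < n`
(graded local cohomology computed from a *injective resolution `I`), and `K` a graded dual of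
`H^n_a(R)`.  Then for every finitely generated graded module `M` (with *injective resolution `EM`)
every graded dual `D` of `H^j_a(M)` is isomorphic, as an `R`-module, to `Ext^{n-j}_R(M, K)`. -/

set_option autoImplicit false
set_option linter.unusedSectionVars false
set_option linter.unusedVariables false
set_option linter.style.haveILetI false
set_option maxHeartbeats 1000000
open DirectSum

noncomputable section

namespace Groth.Agent.Lib.T2H3.LDual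

open GrLC Groth.Agent.Lib.T2H3.GrLes Groth.Agent.Lib.Helper29GrShift Groth.Agent.Lib.LeadGD
  Groth.Agent.Lib.Helper29GrSub Groth.Agent.Lib.Helper29GrHom Groth.Agent.Lib.T2H3.GrTopDual
  Groth.Agent.Lib.T2H3.GDual CategoryTheory CategoryTheory.Abelian

universe u

variable (k : Type u) [Field k] {R : Type u} [CommRing R] [Algebra k R] [IsNoetherianRing R]
  {𝒜 : ℤ → AddSubgroup R} [GradedRing 𝒜] [KGraded k 𝒜]
  (a : HomogeneousIdeal 𝒜) (I : StarInjRes 𝒜 𝒜)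
  (K : Type u) [AddCommGroup K] [Module R K] [Module k K] [IsScalarTower k R K]
  (𝒦 : ℤ → AddSubgroup K) [DirectSum.Decomposition 𝒦] [SetLike.GradedSMul 𝒜 𝒦]

/-- The local duality statement: graded duals of `H^j_a(M)` are `Ext^t(M, K)`. -/
def LDStmt (t j : ℕ) : Prop :=
  ∀ (M : Type u) [AddCommGroup M] [Module R M] [Module.Finite R M] (ℳ : ℤ → AddSubgroup M)
    [DirectSum.Decomposition ℳ] [SetLike.GradedSMul 𝒜 ℳ] (EM : StarInjRes 𝒜 ℳ)
    [Module k (EM.H a j)] [IsScalarTower k R (EM.H a j)] [DirectSum.Decomposition (EM.Hgr a j)]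
    (D : Type u) [AddCommGroup D] [Module R D] [Module k D] [IsScalarTower k R D]
    (𝒟 : ℤ → AddSubgroup D) [DirectSum.Decomposition 𝒟] (βD : D →ₗ[k] EM.H a j →ₗ[k] k),
    GrSeg.IsGDual R (EM.Hgr a j) 𝒟 βD →
      Nonempty (D ≃ₗ[R] Ext.{u} (ModuleCat.of R M) (ModuleCat.of R K) t)

variable {k K}

/-- The inductive step `t → t + 1` for `t ≥ 1`. -/
theorem step_succ (t j : ℕ) (ht : 1 ≤ t) (hIj : ∀ y : I.H a j, y = 0)
    (hIj1 : ∀ y : I.H a (j + 1), y = 0) (IH : LDStmt k a K t (j + 1)) :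
    LDStmt k a K (t + 1) j := by
  intro M _ _ _ ℳ _ _ EM _ _ _ D _ _ _ _ 𝒟 _ βD hD
  classical
  obtain ⟨s, deg, π, hπgr, hπsurj⟩ := exists_presentation (R := R) (𝒜 := 𝒜) ℳ
  have hker : (LinearMap.ker π).IsHomogeneous (freeGr 𝒜 deg) :=
    ker_isHomogeneous ℳ (freeGr 𝒜 deg) π hπgr
  letI decN : DirectSum.Decomposition (subGr (freeGr 𝒜 deg) (LinearMap.ker π)) :=
    subDecomposition (freeGr 𝒜 deg) (LinearMap.ker π) hker
  haveI gsN : SetLike.GradedSMul 𝒜 (subGr (freeGr 𝒜 deg) (LinearMap.ker π)) :=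
    sub_gradedSMul (freeGr 𝒜 deg) (LinearMap.ker π) 𝒜
  have S : GrSES (subGr (freeGr 𝒜 deg) (LinearMap.ker π)) (freeGr 𝒜 deg) ℳ
      (LinearMap.ker π).subtype π :=
    ⟨fun g x hx => hx, hπgr, Subtype.val_injective, hπsurj, (Submodule.range_subtype _).symm⟩
  obtain ⟨EN⟩ := Groth.Agent.S13215.result R 𝒜 ↥(LinearMap.ker π)
    (subGr (freeGr 𝒜 deg) (LinearMap.ker π))
  obtain ⟨EF⟩ := Groth.Agent.S13215.result R 𝒜 (Fin s → R) (freeGr 𝒜 deg)
  obtain ⟨φ, hφ, hφf⟩ := exists_lift EN EF (LinearMap.ker π).subtype S.f_gr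
  obtain ⟨ψ, hψ, hψg⟩ := exists_lift EF EM π hπgr
  obtain ⟨δ, hδgr, -, hex1, hex2, hex3⟩ := exists_les S hφ hφf hψ hψg a
  have hF0 : ∀ y : EF.H a j, y = 0 := freeH_eq_zero I a j hIj deg EF
  have hF1 : ∀ y : EF.H a (j + 1), y = 0 := freeH_eq_zero I a (j + 1) hIj1 deg EF
  have hδinj : Function.Injective (δ j) := by
    rw [← LinearMap.ker_eq_bot, hex2 j, LinearMap.range_eq_bot]
    apply LinearMap.ext
    intro y
    rw [hF0 y, map_zero, LinearMap.zero_apply]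
  have hδsurj : Function.Surjective (δ j) := by
    rw [← LinearMap.range_eq_top, ← hex3 j, LinearMap.ker_eq_top]
    apply LinearMap.ext
    intro y
    exact hF1 _
  let e : EM.H a j ≃ₗ[R] EN.H a (j + 1) := LinearEquiv.ofBijective (δ j) ⟨hδinj, hδsurj⟩
  letI mkN : Module k (EN.H a (j + 1)) := Module.compHom _ (algebraMap k R)
  haveI twN : IsScalarTower k R (EN.H a (j + 1)) :=
    IsScalarTower.of_algebraMap_smul (fun _ _ => rfl)
  letI decHN : DirectSum.Decomposition (EN.Hgr a (j + 1)) := HgrDecomposition EN a (j + 1)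
  have he : ∀ (g : ℤ) (x : EM.H a j), x ∈ EM.Hgr a j g → e x ∈ EN.Hgr a (j + 1) g :=
    fun g x hx => hδgr j g x hx
  have he' : ∀ (g : ℤ) (y : EN.H a (j + 1)), y ∈ EN.Hgr a (j + 1) g →
      e.symm y ∈ EM.Hgr a j g := by
    intro g y hy
    have h1 := Groth.Agent.Lib.T2H3.GorCanon.symm_deg (EM.Hgr a j) (EN.Hgr a (j + 1)) e 0
      (fun g x hx => by rw [add_zero]; exact he g x hx) hy
    rwa [sub_zero] at h1
  have hD' := isGDual_transport (EM.Hgr a j) (EN.Hgr a (j + 1)) 𝒟 hD e he he'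
  obtain ⟨θ⟩ := IH ↥(LinearMap.ker π) (subGr (freeGr 𝒜 deg) (LinearMap.ker π)) EN D 𝒟 _ hD'
  obtain ⟨θ'⟩ := nonempty_ext_shift K π hπsurj t ht
  exact ⟨θ.trans θ'⟩

/-- The inductive step `0 → 1`. -/
theorem step_one (j : ℕ) (hn : ringKrullDim R ≤ ((j + 1 : ℕ) : WithBot ℕ∞))
    (hIj : ∀ y : I.H a j, y = 0)
    [Module k (I.H a (j + 1))] [IsScalarTower k R (I.H a (j + 1))]
    [DirectSum.Decomposition (I.Hgr a (j + 1))]
    {βK : K →ₗ[k] I.H a (j + 1) →ₗ[k] k} (hK : GrSeg.IsGDual R (I.Hgr a (j + 1)) 𝒦 βK) :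
    LDStmt k a K 1 j := by
  intro M _ _ _ ℳ _ _ EM _ _ _ D _ _ _ _ 𝒟 _ βD hD
  classical
  obtain ⟨s, deg, π, hπgr, hπsurj⟩ := exists_presentation (R := R) (𝒜 := 𝒜) ℳ
  have hker : (LinearMap.ker π).IsHomogeneous (freeGr 𝒜 deg) :=
    ker_isHomogeneous ℳ (freeGr 𝒜 deg) π hπgr
  letI decN : DirectSum.Decomposition (subGr (freeGr 𝒜 deg) (LinearMap.ker π)) :=
    subDecomposition (freeGr 𝒜 deg) (LinearMap.ker π) hker
  haveI gsN : SetLike.GradedSMul 𝒜 (subGr (freeGr 𝒜 deg) (LinearMap.ker π)) :=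
    sub_gradedSMul (freeGr 𝒜 deg) (LinearMap.ker π) 𝒜
  have S : GrSES (subGr (freeGr 𝒜 deg) (LinearMap.ker π)) (freeGr 𝒜 deg) ℳ
      (LinearMap.ker π).subtype π :=
    ⟨fun g x hx => hx, hπgr, Subtype.val_injective, hπsurj, (Submodule.range_subtype _).symm⟩
  obtain ⟨EN⟩ := Groth.Agent.S13215.result R 𝒜 ↥(LinearMap.ker π)
    (subGr (freeGr 𝒜 deg) (LinearMap.ker π))
  obtain ⟨EF⟩ := Groth.Agent.S13215.result R 𝒜 (Fin s → R) (freeGr 𝒜 deg)
  obtain ⟨φ, hφ, hφf⟩ := exists_lift EN EF (LinearMap.ker π).subtype S.f_gr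
  obtain ⟨ψ, hψ, hψg⟩ := exists_lift EF EM π hπgr
  obtain ⟨δ, hδgr, -, hex1, hex2, hex3⟩ := exists_les S hφ hφf hψ hψg a
  have hF0 : ∀ y : EF.H a j, y = 0 := freeH_eq_zero I a j hIj deg EF
  have hδinj : Function.Injective (δ j) := by
    rw [← LinearMap.ker_eq_bot, hex2 j, LinearMap.range_eq_bot]
    apply LinearMap.ext
    intro y
    rw [hF0 y, map_zero, LinearMap.zero_apply]
  -- the structures on the top local cohomology of `N` and `F`
  letI mkN : Module k (EN.H a (j + 1)) := Module.compHom _ (algebraMap k R)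
  haveI twN : IsScalarTower k R (EN.H a (j + 1)) :=
    IsScalarTower.of_algebraMap_smul (fun _ _ => rfl)
  letI decHN : DirectSum.Decomposition (EN.Hgr a (j + 1)) := HgrDecomposition EN a (j + 1)
  haveI gsHN : SetLike.GradedSMul 𝒜 (EN.Hgr a (j + 1)) :=
    Groth.Agent.Lib.T2H3.GrArt.Hgr_gradedSMul EN a (j + 1)
  letI mkF : Module k (EF.H a (j + 1)) := Module.compHom _ (algebraMap k R)
  haveI twF : IsScalarTower k R (EF.H a (j + 1)) :=
    IsScalarTower.of_algebraMap_smul (fun _ _ => rfl)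
  letI decHF : DirectSum.Decomposition (EF.Hgr a (j + 1)) := HgrDecomposition EF a (j + 1)
  haveI gsHF : SetLike.GradedSMul 𝒜 (EF.Hgr a (j + 1)) :=
    Groth.Agent.Lib.T2H3.GrArt.Hgr_gradedSMul EF a (j + 1)
  -- their graded duals
  have hDN := isGDualM k 𝒜 (EN.Hgr a (j + 1))
  have hDF := isGDualM k 𝒜 (EF.Hgr a (j + 1))
  -- the transposes
  obtain ⟨g, hg⟩ : ∃ g : GDm k (EF.Hgr a (j + 1)) 𝒜 →ₗ[R] GDm k (EN.Hgr a (j + 1)) 𝒜,
      g = tr (EN.Hgr a (j + 1)) (EF.Hgr a (j + 1)) (pieceM k 𝒜 (EN.Hgr a (j + 1))) hDN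
        (pieceM k 𝒜 (EF.Hgr a (j + 1))) hDF (φ.H a (j + 1)) (H_isGr a (j + 1) hφ) := ⟨_, rfl⟩
  obtain ⟨δT, hδT⟩ : ∃ δT : GDm k (EN.Hgr a (j + 1)) 𝒜 →ₗ[R] D,
      δT = tr (EM.Hgr a j) (EN.Hgr a (j + 1)) 𝒟 hD (pieceM k 𝒜 (EN.Hgr a (j + 1))) hDN
        (δ j) (hδgr j) := ⟨_, rfl⟩
  have hδTsurj : Function.Surjective δT := by
    rw [hδT]
    exact tr_surjective (EM.Hgr a j) (EN.Hgr a (j + 1)) 𝒟 hD (pieceM k 𝒜 (EN.Hgr a (j + 1))) hDN
      (δ j) (hδgr j) hδinj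
  have hkerT : LinearMap.ker δT = LinearMap.range g := by
    apply le_antisymm
    · rw [hδT, hg]
      exact ker_tr_le_range (EM.Hgr a j) (EN.Hgr a (j + 1)) (EF.Hgr a (j + 1)) 𝒟 hD
        (pieceM k 𝒜 (EN.Hgr a (j + 1))) hDN (pieceM k 𝒜 (EF.Hgr a (j + 1))) hDF
        (δ j) (hδgr j) (φ.H a (j + 1)) (H_isGr a (j + 1) hφ) (le_of_eq (hex3 j))
    · rintro _ ⟨d, rfl⟩
      rw [LinearMap.mem_ker]
      refine Groth.Agent.Lib.T2H3.GDualU.rep_unique (EM.Hgr a j) 𝒟 hD fun x => ?_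
      rw [hδT, pair_tr, hg, pair_tr, map_zero, LinearMap.zero_apply]
      have h1 : δ j x ∈ LinearMap.ker (φ.H a (j + 1)) := by
        rw [hex3 j]
        exact LinearMap.mem_range_self _ x
      rw [LinearMap.mem_ker] at h1
      rw [h1, map_zero]
  -- the comparison maps
  haveI finN : Module.Finite R ↥(LinearMap.ker π) := inferInstance
  let εN : GDm k (EN.Hgr a (j + 1)) 𝒜 ≃ₗ[R] (↥(LinearMap.ker π) →ₗ[R] K) :=
    LinearEquiv.ofBijective
      (eps a (j + 1) I 𝒦 hK (subGr (freeGr 𝒜 deg) (LinearMap.ker π)) EN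
        (pieceM k 𝒜 (EN.Hgr a (j + 1))) hDN)
      ⟨eps_injective a (j + 1) I 𝒦 hK (subGr (freeGr 𝒜 deg) (LinearMap.ker π)) EN
          (pieceM k 𝒜 (EN.Hgr a (j + 1))) hDN hn,
        eps_surjective a (j + 1) I 𝒦 hK (subGr (freeGr 𝒜 deg) (LinearMap.ker π)) EN
          (pieceM k 𝒜 (EN.Hgr a (j + 1))) hDN hn⟩
  let εF : GDm k (EF.Hgr a (j + 1)) 𝒜 ≃ₗ[R] ((Fin s → R) →ₗ[R] K) :=
    LinearEquiv.ofBijective
      (eps a (j + 1) I 𝒦 hK (freeGr 𝒜 deg) EF (pieceM k 𝒜 (EF.Hgr a (j + 1))) hDF)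
      ⟨eps_injective a (j + 1) I 𝒦 hK (freeGr 𝒜 deg) EF (pieceM k 𝒜 (EF.Hgr a (j + 1))) hDF hn,
        eps_surjective a (j + 1) I 𝒦 hK (freeGr 𝒜 deg) EF
          (pieceM k 𝒜 (EF.Hgr a (j + 1))) hDF hn⟩
  have hnat : ∀ d, εN (g d) = LinearMap.lcomp R K (LinearMap.ker π).subtype (εF d) := by
    intro d
    apply LinearMap.ext
    intro x
    rw [hg]
    exact eps_nat a (j + 1) I 𝒦 hK (subGr (freeGr 𝒜 deg) (LinearMap.ker π)) EN
      (pieceM k 𝒜 (EN.Hgr a (j + 1))) hDN (freeGr 𝒜 deg) EF (pieceM k 𝒜 (EF.Hgr a (j + 1))) hDF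
      S.f_gr hφ hφf d x
  have hmap : (LinearMap.range g).map (εN : GDm k (EN.Hgr a (j + 1)) 𝒜 →ₗ[R] _) =
      LinearMap.range (LinearMap.lcomp R K (LinearMap.ker π).subtype) := by
    ext u
    constructor
    · rintro ⟨_, ⟨d, rfl⟩, rfl⟩
      exact ⟨εF d, (hnat d).symm⟩
    · rintro ⟨v, rfl⟩
      obtain ⟨d, rfl⟩ := εF.surjective v
      exact ⟨g d, ⟨d, rfl⟩, hnat d⟩
  -- assembly
  have e1 : D ≃ₗ[R] (GDm k (EN.Hgr a (j + 1)) 𝒜 ⧸ LinearMap.ker δT) :=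
    (δT.quotKerEquivOfSurjective hδTsurj).symm
  have e2 : (GDm k (EN.Hgr a (j + 1)) 𝒜 ⧸ LinearMap.ker δT) ≃ₗ[R]
      (GDm k (EN.Hgr a (j + 1)) 𝒜 ⧸ LinearMap.range g) := Submodule.quotEquivOfEq _ _ hkerT
  have e3 : (GDm k (EN.Hgr a (j + 1)) 𝒜 ⧸ LinearMap.range g) ≃ₗ[R]
      ((↥(LinearMap.ker π) →ₗ[R] K) ⧸
        LinearMap.range (LinearMap.lcomp R K (LinearMap.ker π).subtype)) :=
    Submodule.Quotient.equiv _ _ εN hmap
  obtain ⟨e4⟩ := nonempty_coker_equiv_ext_one K π hπsurj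
  exact ⟨e1.trans (e2.trans (e3.trans e4))⟩

/-- **Graded local duality.** -/
theorem localDuality (n : ℕ) (hn : ringKrullDim R ≤ n) (hCM : ∀ j < n, ∀ y : I.H a j, y = 0)
    [Module k (I.H a n)] [IsScalarTower k R (I.H a n)] [DirectSum.Decomposition (I.Hgr a n)]
    {βK : K →ₗ[k] I.H a n →ₗ[k] k} (hK : GrSeg.IsGDual R (I.Hgr a n) 𝒦 βK) :
    ∀ t j : ℕ, j + t = n → LDStmt k a K t j := by
  intro t
  induction t with
  | zero =>
    intro j hj
    obtain rfl : j = n := by omega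
    intro M _ _ _ ℳ _ _ EM _ _ _ D _ _ _ _ 𝒟 _ βD hD
    obtain ⟨ε, -⟩ := exists_equiv_hom a j I 𝒦 hK ℳ EM 𝒟 hD hn
    exact ⟨ε.trans (Ext.linearEquiv₀.trans ModuleCat.homLinearEquiv).symm⟩
  | succ t ih =>
    intro j hj
    cases t with
    | zero =>
      obtain rfl : n = j + 1 := by omega
      exact step_one a I 𝒦 j hn (hCM j (by omega)) hK
    | succ t' =>
      exact step_succ a I (t' + 1) j (by omega) (hCM j (by omega)) (hCM (j + 1) (by omega))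
        (ih (j + 1) (by omega))

end Groth.Agent.Lib.T2H3.LDual
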