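import Groth.Agent.Lib.T2H3LDualD
import Groth.Agent.Lib.T2H3GrBIndC
import Groth.Agent.Lib.T2H3GDualC
import Groth.Agent.Lib.T2H3GrAinvB
import Groth.Agent.Lib.Helper5IntDim

/-! Local duality (helper3), part F: the canonical module of a graded ring finite over a
Cohen–Macaulay graded ring `R` (both with degree-zero part a field `k`) is `Ext^t_R(S, K_R)`. -/

set_option autoImplicit false
set_option linter.unusedSectionVars false
set_option linter.unusedVariables false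
set_option linter.style.haveILetI false
set_option maxHeartbeats 1000000
open DirectSum

noncomputable section

namespace Groth.Agent.Lib.T2H3.LDual

open GrLC Groth.Agent.Lib.T2H3.GrLes Groth.Agent.Lib.LeadGD Groth.Agent.Lib.T2H3.GrTopDual
  Groth.Agent.Lib.T2H3.GDual CategoryTheory CategoryTheory.Abelian

universe u

section Radical

variable {R S : Type u} [CommRing R] [CommRing S] [Algebra R S] [IsNoetherianRing R]
  [Module.Finite R S]
  {𝒜 : ℤ → AddSubgroup R} [GradedRing 𝒜] {𝒜' : ℤ → AddSubgroup S} [GradedRing 𝒜']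
  (hf : ∀ (j : ℤ) (r : R), r ∈ 𝒜 j → algebraMap R S r ∈ 𝒜' j)

include hf in
/-- `S` is a graded `R`-module. -/
theorem gradedSMul_of_map : SetLike.GradedSMul 𝒜 𝒜' :=
  ⟨fun {i j r s} hr hs => by
    rw [Algebra.smul_def]
    exact SetLike.GradedMul.mul_mem (hf i r hr) hs⟩

include hf in
/-- High-degree pieces of a finite graded algebra lie in the extension of the irrelevant ideal. -/
theorem exists_bound_piece_le :
    ∃ B : ℤ, ∀ g : ℤ, B < g → ∀ y ∈ 𝒜' g,
      y ∈ (Ideal.span (⋃ n ∈ Set.Ioi (0 : ℤ), (𝒜 n : Set R))).map (algebraMap R S) := by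
  classical
  haveI := gradedSMul_of_map hf
  obtain ⟨s, x, deg, hx, hspan⟩ := exists_fin_homogeneous_generators (R := R) 𝒜'
  refine ⟨∑ i, |deg i|, fun g hg y hy => ?_⟩
  have hpgr : IsGrHom (freeGr 𝒜 deg) 𝒜' (freeMap (R := R) x) := freeMap_isGr 𝒜 deg 𝒜' hx
  obtain ⟨c, hc, rfl⟩ := exists_mem_piece_of_mem_range (freeGr 𝒜 deg) 𝒜' (freeMap (R := R) x)
    hpgr hy (by rw [LinearMap.range_eq_top.mpr (freeMap_surjective hspan)]; exact Submodule.mem_top)
  rw [freeMap_apply]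
  refine Ideal.sum_mem _ fun i _ => ?_
  rw [Algebra.smul_def]
  refine Ideal.mul_mem_right _ _ (Ideal.mem_map_of_mem _ (Ideal.subset_span ?_))
  simp only [Set.mem_iUnion, Set.mem_Ioi, SetLike.mem_coe, exists_prop]
  refine ⟨g + -deg i, ?_, (mem_freeGr 𝒜 deg).mp hc i⟩
  have h1 : deg i ≤ ∑ i, |deg i| :=
    (le_abs_self _).trans (Finset.single_le_sum (f := fun i => |deg i|)
      (fun i _ => abs_nonneg _) (Finset.mem_univ i))
  omega

include hf in
theorem radical_map_eq (m : HomogeneousIdeal 𝒜) (m' : HomogeneousIdeal 𝒜')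
    (hmsp : m.toIdeal = Ideal.span (⋃ n ∈ Set.Ioi (0 : ℤ), (𝒜 n : Set R)))
    (hm'sp : m'.toIdeal = Ideal.span (⋃ j ∈ Set.Ioi (0 : ℤ), (𝒜' j : Set S))) :
    (m.toIdeal.map (algebraMap R S)).radical = m'.toIdeal.radical := by
  apply le_antisymm
  · apply Ideal.radical_mono
    rw [hmsp, Ideal.map_span, Ideal.span_le]
    rintro _ ⟨r, hr, rfl⟩
    simp only [Set.mem_iUnion, Set.mem_Ioi] at hr
    obtain ⟨j, hj, hrj⟩ := hr
    rw [hm'sp]
    apply Ideal.subset_span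
    simp only [Set.mem_iUnion, Set.mem_Ioi]
    exact ⟨j, hj, hf j r hrj⟩
  · rw [Ideal.radical_le_radical_iff, hm'sp, Ideal.span_le]
    intro y hy
    simp only [Set.mem_iUnion, Set.mem_Ioi] at hy
    obtain ⟨j, hj, hyj⟩ := hy
    obtain ⟨B, hB⟩ := exists_bound_piece_le hf
    refine ⟨B.toNat + 1, ?_⟩
    rw [hmsp]
    have h1 : y ^ (B.toNat + 1) ∈ 𝒜' ((B.toNat + 1) • j) := SetLike.pow_mem_graded _ hyj
    refine hB _ ?_ _ h1
    rw [nsmul_eq_mul]
    have h2 : B ≤ (B.toNat : ℤ) := Int.self_le_toNat B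
    push_cast
    nlinarith

end Radical

section SemiTransport

variable {k : Type u} [Field k] {R S : Type u} [CommRing R] [CommRing S] [Algebra R S]
  [Algebra k R] [Algebra k S] [IsScalarTower k R S]
  {H : Type u} [AddCommGroup H] [Module S H] [Module k H] [IsScalarTower k S H]
  (𝓗 : ℤ → AddSubgroup H) [DirectSum.Decomposition 𝓗]
  {H' : Type u} [AddCommGroup H'] [Module R H'] [Module k H'] [IsScalarTower k R H']
  (𝓗' : ℤ → AddSubgroup H') [DirectSum.Decomposition 𝓗']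
  {D : Type u} [AddCommGroup D] [Module S D] [Module R D] [IsScalarTower R S D] [Module k D]
  [IsScalarTower k S D] [IsScalarTower k R D]
  (𝒟 : ℤ → AddSubgroup D) [DirectSum.Decomposition 𝒟]
  {β : D →ₗ[k] H →ₗ[k] k} (hD : GrSeg.IsGDual S 𝓗 𝒟 β)
  (Θ : H ≃+ H') (hΘ : ∀ (r : R) (x : H), Θ (algebraMap R S r • x) = r • Θ x)

/-- A semilinear additive equivalence is `k`-linear. -/
def semiK : H ≃ₗ[k] H' :=
  { Θ with
    map_smul' := fun c x => by
      change Θ (c • x) = c • Θ x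
      rw [← algebraMap_smul S c x, IsScalarTower.algebraMap_apply k R S c, hΘ, algebraMap_smul] }

theorem semiK_apply (x : H) : semiK Θ hΘ (k := k) x = Θ x := rfl

theorem semiK_symm_apply (y : H') : (semiK Θ hΘ (k := k)).symm y = Θ.symm y := rfl

/-- The pairing transported along a semilinear isomorphism of the predual. -/
def pairSemi : D →ₗ[k] H' →ₗ[k] k :=
  (LinearMap.lcomp k k ((semiK Θ hΘ (k := k)).symm : H' →ₗ[k] H)).comp β

theorem pairSemi_apply (d : D) (y : H') : pairSemi (β := β) Θ hΘ d y = β d (Θ.symm y) := rfl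

include hD in
/-- Transport of a graded dual over `S` to a graded dual over `R` along a semilinear homogeneous
isomorphism of the predual. -/
theorem isGDual_semi (he : ∀ (g : ℤ) (x : H), x ∈ 𝓗 g → Θ x ∈ 𝓗' g)
    (he' : ∀ (g : ℤ) (y : H'), y ∈ 𝓗' g → Θ.symm y ∈ 𝓗 g) :
    GrSeg.IsGDual R 𝓗' 𝒟 (pairSemi (β := β) Θ hΘ) := by
  have hsymm : ∀ (r : R) (y : H'), Θ.symm (r • y) = algebraMap R S r • Θ.symm y := by
    intro r y
    apply Θ.injective
    rw [hΘ, Θ.apply_symm_apply, Θ.apply_symm_apply]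
  refine ⟨?_, ?_, ?_, ?_⟩
  · intro r d y
    rw [pairSemi_apply, pairSemi_apply, hsymm, ← hD.map_smul, algebraMap_smul]
  · intro n d hd j hj y hy
    rw [pairSemi_apply]
    exact hD.vanish n d hd j hj _ (he' j y hy)
  · intro n d hd h
    refine hD.eq_zero n d hd fun x hx => ?_
    have h1 := h (Θ x) (he _ x hx)
    rwa [pairSemi_apply, Θ.symm_apply_apply] at h1
  · intro n g
    obtain ⟨d, hd, h⟩ := hD.exists_eq n (g.comp ((semiK Θ hΘ (k := k)) : H →ₗ[k] H'))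
    refine ⟨d, hd, fun y hy => ?_⟩
    rw [pairSemi_apply, h _ (he' _ y hy)]
    change g (Θ (Θ.symm y)) = g y
    rw [Θ.apply_symm_apply]

end SemiTransport

section SubKFacts

variable (K : Type u) [Field K] {R : Type u} [CommRing R] [Algebra K R]
  (𝒜 : ℤ → AddSubgroup R) [GradedRing 𝒜] [KGraded K 𝒜]

theorem subK_neg_eq_bot (hpos : ∀ n : ℤ, n < 0 → 𝒜 n = ⊥) (n : ℤ) (hn : n < 0) :
    subK K 𝒜 n = ⊥ := by
  rw [Submodule.eq_bot_iff]
  intro x hx
  have hx' : x ∈ 𝒜 n := hx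
  rw [hpos n hn, AddSubgroup.mem_bot] at hx'
  exact hx'

theorem subK_zero_eq_span (h0 : ∀ x ∈ 𝒜 0, ∃ c : K, algebraMap K R c = x) :
    subK K 𝒜 0 = Submodule.span K {(1 : R)} := by
  apply le_antisymm
  · intro x hx
    obtain ⟨c, rfl⟩ := h0 x hx
    rw [Submodule.mem_span_singleton]
    exact ⟨c, (Algebra.algebraMap_eq_smul_one c).symm⟩
  · rw [Submodule.span_le]
    intro x hx
    rw [Set.mem_singleton_iff] at hx
    rw [hx]
    exact SetLike.GradedOne.one_mem (A := 𝒜)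

end SubKFacts

section Main

/-- **The canonical module of a finite graded algebra over a Cohen–Macaulay graded ring.** -/
theorem canonical_ext_aux (k : Type u) [Field k]
    (R : Type u) [CommRing R] [LocCoh.IsCohenMacaulayRing R] [Algebra k R]
    (𝒜 : ℤ → AddSubgroup R) [GradedRing 𝒜] [KGraded k 𝒜]
    (hpos : ∀ n : ℤ, n < 0 → 𝒜 n = ⊥)
    (h0K : ∀ x ∈ 𝒜 0, ∃ c : k, algebraMap k R c = x)
    (m : HomogeneousIdeal 𝒜) (hm : IsStarLocal 𝒜 m)
    (hmsp : m.toIdeal = Ideal.span (⋃ n ∈ Set.Ioi (0 : ℤ), (𝒜 n : Set R)))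
    (n : ℕ) (hn : ringKrullDim R = n) (I : StarInjRes 𝒜 𝒜)
    (E' : Type u) [AddCommGroup E'] [Module R E'] (𝓔 : ℤ → AddSubgroup E')
    [DirectSum.Decomposition 𝓔] [SetLike.GradedSMul 𝒜 𝓔]
    (e : (R ⧸ m.toIdeal) →ₗ[R] E') (he : IsStarInjHull 𝒜 (quotGr 𝒜 m) 𝓔 e)
    (C : Type u) [AddCommGroup C] [Module R C] (𝒞 : ℤ → AddSubgroup C)
    [DirectSum.Decomposition 𝒞] [SetLike.GradedSMul 𝒜 𝒞]
    (hC : IsStarCanonical 𝒜 𝒞 𝓔 m n I)
    (S : Type u) [CommRing S] [IsNoetherianRing S] [Algebra R S] [Module.Finite R S]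
    [Algebra k S] [IsScalarTower k R S]
    (𝒜' : ℤ → AddSubgroup S) [GradedRing 𝒜']
    (hf : ∀ j : ℤ, (𝒜 j).map (algebraMap R S : R →+ S) ≤ 𝒜' j)
    (hf0 : (𝒜 0).map (algebraMap R S : R →+ S) = 𝒜' 0)
    (hpos' : ∀ j : ℤ, j < 0 → 𝒜' j = ⊥)
    (m' : HomogeneousIdeal 𝒜')
    (hm'sp : m'.toIdeal = Ideal.span (⋃ j ∈ Set.Ioi (0 : ℤ), (𝒜' j : Set S)))
    (n' : ℕ) (hn' : ringKrullDim S = n') (I' : StarInjRes 𝒜' 𝒜')
    (E'' : Type u) [AddCommGroup E''] [Module S E''] (𝓔'' : ℤ → AddSubgroup E'')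
    [DirectSum.Decomposition 𝓔''] [SetLike.GradedSMul 𝒜' 𝓔'']
    (e' : (S ⧸ m'.toIdeal) →ₗ[S] E'') (he' : IsStarInjHull 𝒜' (quotGr 𝒜' m') 𝓔'' e')
    (C' : Type u) [AddCommGroup C'] [Module S C'] [Module R C'] [IsScalarTower R S C']
    (𝒞' : ℤ → AddSubgroup C') [DirectSum.Decomposition 𝒞'] [SetLike.GradedSMul 𝒜' 𝒞']
    (hC' : IsStarCanonical 𝒜' 𝒞' 𝓔'' m' n' I') :
    Nonempty (C' ≃ₗ[R] Ext.{u} (ModuleCat.of R S) (ModuleCat.of R C) (n - n')) := by
  classical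
  haveI ntR : Nontrivial R := by
    by_contra hnt
    rw [not_nontrivial_iff_subsingleton] at hnt
    rw [ringKrullDim_eq_bot_of_subsingleton] at hn
    exact absurd hn (by simp)
  haveI ntS : Nontrivial S := by
    by_contra hnt
    rw [not_nontrivial_iff_subsingleton] at hnt
    rw [ringKrullDim_eq_bot_of_subsingleton] at hn'
    exact absurd hn' (by simp)
  have hf' : ∀ (j : ℤ) (r : R), r ∈ 𝒜 j → algebraMap R S r ∈ 𝒜' j :=
    fun j r hr => hf j ⟨r, hr, rfl⟩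
  haveI KG' : KGraded k 𝒜' := ⟨fun c => by
    rw [IsScalarTower.algebraMap_apply k R S]
    exact hf' 0 _ (KGraded.mem (𝒜 := 𝒜) c)⟩
  have h0K' : ∀ x ∈ 𝒜' 0, ∃ c : k, algebraMap k S c = x := by
    intro x hx
    rw [← hf0] at hx
    obtain ⟨r, hr, rfl⟩ := hx
    obtain ⟨c, rfl⟩ := h0K r hr
    exact ⟨c, IsScalarTower.algebraMap_apply k R S c⟩
  haveI gsRS : SetLike.GradedSMul 𝒜 𝒜' := gradedSMul_of_map hf'
  have hrad := radical_map_eq hf' m m' hmsp hm'sp
  have hnn : n' ≤ n := by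
    have h1 := Groth.Agent.Lib.Helper5.ringKrullDim_le_of_isIntegral R S
    rw [hn, hn'] at h1
    exact_mod_cast h1
  -- the `k`-structures on `C` and `C'`
  letI mkC : Module k C := Module.compHom C (algebraMap k R)
  haveI twC : IsScalarTower k R C := IsScalarTower.of_algebraMap_smul (fun _ _ => rfl)
  letI mkC' : Module k C' := Module.compHom C' (algebraMap k S)
  haveI twC'S : IsScalarTower k S C' := IsScalarTower.of_algebraMap_smul (fun _ _ => rfl)
  haveI twC'R : IsScalarTower k R C' := IsScalarTower.of_algebraMap_smul (fun c x => by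
    change algebraMap k R c • x = algebraMap k S c • x
    rw [IsScalarTower.algebraMap_apply k R S, algebraMap_smul S (algebraMap k R c) x])
  -- the structures on the local cohomology modules
  letI mkH : Module k (I.H m n) := Module.compHom _ (algebraMap k R)
  haveI twH : IsScalarTower k R (I.H m n) := IsScalarTower.of_algebraMap_smul (fun _ _ => rfl)
  letI decH : DirectSum.Decomposition (I.Hgr m n) := HgrDecomposition I m n
  haveI gsH : SetLike.GradedSMul 𝒜 (I.Hgr m n) :=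
    Groth.Agent.Lib.T2H3.GrArt.Hgr_gradedSMul I m n
  letI mkH' : Module k (I'.H m' n') := Module.compHom _ (algebraMap k S)
  haveI twH' : IsScalarTower k S (I'.H m' n') :=
    IsScalarTower.of_algebraMap_smul (fun _ _ => rfl)
  letI decH' : DirectSum.Decomposition (I'.Hgr m' n') := HgrDecomposition I' m' n'
  haveI gsH' : SetLike.GradedSMul 𝒜' (I'.Hgr m' n') :=
    Groth.Agent.Lib.T2H3.GrArt.Hgr_gradedSMul I' m' n'
  -- `C` is the graded dual of `H^n_m(R)`
  obtain ⟨β, hβ⟩ := Groth.Agent.Lib.T2H3.GDualU.exists_isGDual_of_isStarCanonical k 𝒜 𝓔 𝒞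
    hpos h0K m hmsp e he n I hC
  haveI finC : Module.Finite R C := hC.1
  haveI gsKC : SetLike.GradedSMul (subK k 𝒜) 𝒞 := gradedSMul_subK k 𝒜 𝒞
  haveI gsKH : SetLike.GradedSMul (subK k 𝒜) (I.Hgr m n) := gradedSMul_subK k 𝒜 (I.Hgr m n)
  have hfinC : ∀ j : ℤ, FiniteDimensional k (pc (subK k 𝒜) 𝒞 j) := fun j =>
    finiteDimensional_pc_of_finite (subK k 𝒜) 𝒞 (subK_neg_eq_bot k 𝒜 hpos)
      (subK_zero_eq_span k 𝒜 h0K) j
  have hK : GrSeg.IsGDual R (I.Hgr m n) 𝒞 β.flip :=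
    isGDual_flip (subK k 𝒜) 𝒞 (I.Hgr m n) hβ hfinC
  -- `C'` is the graded dual of `H^{n'}_{m'}(S)`
  obtain ⟨β', hβ'⟩ := Groth.Agent.Lib.T2H3.GDualU.exists_isGDual_of_isStarCanonical k 𝒜' 𝓔'' 𝒞'
    hpos' h0K' m' hm'sp e' he' n' I' hC'
  haveI finC' : Module.Finite S C' := hC'.1
  haveI gsKC' : SetLike.GradedSMul (subK k 𝒜') 𝒞' := gradedSMul_subK k 𝒜' 𝒞'
  haveI gsKH' : SetLike.GradedSMul (subK k 𝒜') (I'.Hgr m' n') :=
    gradedSMul_subK k 𝒜' (I'.Hgr m' n')
  have hfinC' : ∀ j : ℤ, FiniteDimensional k (pc (subK k 𝒜') 𝒞' j) := fun j =>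
    finiteDimensional_pc_of_finite (subK k 𝒜') 𝒞' (subK_neg_eq_bot k 𝒜' hpos')
      (subK_zero_eq_span k 𝒜' h0K') j
  have hK' : GrSeg.IsGDual S (I'.Hgr m' n') 𝒞' β'.flip :=
    isGDual_flip (subK k 𝒜') 𝒞' (I'.Hgr m' n') hβ' hfinC'
  -- base independence
  obtain ⟨ES⟩ := Groth.Agent.S13215.result R 𝒜 S 𝒜'
  obtain ⟨Θ, hΘ, hΘgr, hΘgr'⟩ := Groth.Agent.Lib.T2H3.GrBInd.exists_equiv hf' m m' hrad I' ES n'
  letI mkHS : Module k (ES.H m n') := Module.compHom _ (algebraMap k R)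
  haveI twHS : IsScalarTower k R (ES.H m n') := IsScalarTower.of_algebraMap_smul (fun _ _ => rfl)
  letI decHS : DirectSum.Decomposition (ES.Hgr m n') := HgrDecomposition ES m n'
  have hD := isGDual_semi (I'.Hgr m' n') (ES.Hgr m n') 𝒞' hK' Θ hΘ hΘgr hΘgr'
  -- vanishing below the dimension
  have hCM : ∀ j < n, ∀ y : I.H m j, y = 0 := fun j hj y =>
    Groth.Agent.Lib.T2H3.GrAinv.H_eq_zero_of_lt_dim hpos hm n hn I j hj y
  exact localDuality m I 𝒞 n (le_of_eq hn) hCM hK (n - n') n' (by omega) S 𝒜' ES C' 𝒞' _ hD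

end Main

end Groth.Agent.Lib.T2H3.LDual
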