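import Mathlib

/-!
# T2H5EulerAdd: additivity of alternating sums of lengths along a long exact sequence (helper5)
-/

set_option autoImplicit false
set_option linter.style.haveILetI false
set_option linter.unusedSectionVars false
universe u

namespace Groth.Agent.Lib.T2H5.EulerAdd

variable {A : Type u} [CommRing A]

/-- the length as a natural number -/
noncomputable def len (M : Type u) [AddCommGroup M] [Module A M] : ℕ := (Module.length A M).toNat

theorem length_eq_ker_add_range {P Q : Type u} [AddCommGroup P] [Module A P] [AddCommGroup Q]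
    [Module A Q] (φ : P →ₗ[A] Q) :
    Module.length A P = Module.length A (LinearMap.ker φ) + Module.length A (LinearMap.range φ) :=
  Module.length_eq_add_of_exact (LinearMap.ker φ).subtype φ.rangeRestrict
    (Submodule.injective_subtype _) φ.surjective_rangeRestrict
    (LinearMap.exact_iff.2 (by rw [LinearMap.ker_rangeRestrict, Submodule.range_subtype]))

theorem len_eq_ker_add_range {P Q : Type u} [AddCommGroup P] [Module A P] [AddCommGroup Q]
    [Module A Q] (φ : P →ₗ[A] Q) (hP : IsFiniteLength A P) :
    len (A := A) P = len (A := A) (LinearMap.ker φ) + len (A := A) (LinearMap.range φ) := by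
  have h1 : Module.length A (LinearMap.ker φ) ≠ ⊤ :=
    Module.length_ne_top_iff.2 (hP.of_injective (Submodule.injective_subtype _))
  have h2 : Module.length A (LinearMap.range φ) ≠ ⊤ :=
    Module.length_ne_top_iff.2 (hP.of_surjective φ.surjective_rangeRestrict)
  unfold len
  rw [length_eq_ker_add_range φ, ENat.toNat_add h1 h2]

theorem len_congr {P : Type u} [AddCommGroup P] [Module A P] {K K' : Submodule A P} (h : K = K') :
    len (A := A) K = len (A := A) K' := by subst h; rfl

section LES

variable {a b c : ℕ → Type u} [∀ i, AddCommGroup (a i)] [∀ i, Module A (a i)]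
  [∀ i, AddCommGroup (b i)] [∀ i, Module A (b i)] [∀ i, AddCommGroup (c i)] [∀ i, Module A (c i)]
  (f : ∀ i, a i →ₗ[A] b i) (g : ∀ i, b i →ₗ[A] c i) (δ : ∀ i, c i →ₗ[A] a (i + 1))

/-- additivity of the truncated Euler characteristic along a long exact sequence, with the error term -/
theorem euler_additive_aux (hf0 : Function.Injective (f 0))
    (h2 : ∀ i, LinearMap.ker (g i) = LinearMap.range (f i))
    (h3 : ∀ i, LinearMap.ker (δ i) = LinearMap.range (g i))
    (h1 : ∀ i, LinearMap.ker (f (i + 1)) = LinearMap.range (δ i))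
    (ha : ∀ i, IsFiniteLength A (a i)) (hb : ∀ i, IsFiniteLength A (b i))
    (hc : ∀ i, IsFiniteLength A (c i)) (N : ℕ) :
    ((Finset.range (N + 1)).sum fun i => (-1 : ℤ) ^ i * (len (A := A) (b i) : ℤ)) =
      ((Finset.range (N + 1)).sum fun i => (-1 : ℤ) ^ i * (len (A := A) (a i) : ℤ)) +
      ((Finset.range (N + 1)).sum fun i => (-1 : ℤ) ^ i * (len (A := A) (c i) : ℤ)) -
      (-1 : ℤ) ^ N * (len (A := A) (LinearMap.range (δ N)) : ℤ) := by
  have eb : ∀ i, (len (A := A) (b i) : ℤ) =
      len (A := A) (LinearMap.range (f i)) + len (A := A) (LinearMap.range (g i)) := by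
    intro i
    rw [len_eq_ker_add_range (g i) (hb i), len_congr (h2 i)]
    push_cast; ring
  have ec : ∀ i, (len (A := A) (c i) : ℤ) =
      len (A := A) (LinearMap.range (g i)) + len (A := A) (LinearMap.range (δ i)) := by
    intro i
    rw [len_eq_ker_add_range (δ i) (hc i), len_congr (h3 i)]
    push_cast; ring
  have ea : ∀ i, (len (A := A) (a (i + 1)) : ℤ) =
      len (A := A) (LinearMap.range (δ i)) + len (A := A) (LinearMap.range (f (i + 1))) := by
    intro i
    rw [len_eq_ker_add_range (f (i + 1)) (ha (i + 1)), len_congr (h1 i)]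
    push_cast; ring
  have ea0 : (len (A := A) (a 0) : ℤ) = len (A := A) (LinearMap.range (f 0)) := by
    rw [len_eq_ker_add_range (f 0) (ha 0), len_congr (LinearMap.ker_eq_bot.2 hf0)]
    have : len (A := A) (⊥ : Submodule A (a 0)) = 0 := by
      unfold len
      rw [Module.length_eq_zero]
      rfl
    rw [this]
    push_cast; ring
  induction N with
  | zero =>
    simp only [zero_add, Finset.range_one, Finset.sum_singleton, pow_zero, one_mul]
    rw [eb 0, ec 0, ea0]
    ring
  | succ N ih =>
    rw [Finset.sum_range_succ, Finset.sum_range_succ (fun i => (-1 : ℤ) ^ i * (len (A := A) (a i) : ℤ)),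
      Finset.sum_range_succ (fun i => (-1 : ℤ) ^ i * (len (A := A) (c i) : ℤ)), ih, eb (N + 1),
      ec (N + 1), ea N]
    ring

/-- additivity of the truncated Euler characteristic along a long exact sequence which vanishes beyond
degree `N` -/
theorem euler_additive (hf0 : Function.Injective (f 0))
    (h2 : ∀ i, LinearMap.ker (g i) = LinearMap.range (f i))
    (h3 : ∀ i, LinearMap.ker (δ i) = LinearMap.range (g i))
    (h1 : ∀ i, LinearMap.ker (f (i + 1)) = LinearMap.range (δ i))
    (ha : ∀ i, IsFiniteLength A (a i)) (hb : ∀ i, IsFiniteLength A (b i))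
    (hc : ∀ i, IsFiniteLength A (c i)) (N : ℕ) (hN : Subsingleton (a (N + 1))) :
    ((Finset.range (N + 1)).sum fun i => (-1 : ℤ) ^ i * (len (A := A) (b i) : ℤ)) =
      ((Finset.range (N + 1)).sum fun i => (-1 : ℤ) ^ i * (len (A := A) (a i) : ℤ)) +
      ((Finset.range (N + 1)).sum fun i => (-1 : ℤ) ^ i * (len (A := A) (c i) : ℤ)) := by
  rw [euler_additive_aux f g δ hf0 h2 h3 h1 ha hb hc N]
  have : len (A := A) (LinearMap.range (δ N)) = 0 := by
    unfold len
    rw [Module.length_eq_zero]
    rfl
  rw [this]
  simp

end LES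

end Groth.Agent.Lib.T2H5.EulerAdd
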