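import Mathlib
import Groth.Prelude.Def_Curv2
import Groth.Agent.S2420
import Groth.Agent.S0016

/-!
# Euler characteristic over a field: finite sums and additivity (helper6)
-/

set_option autoImplicit false
universe u

open AlgebraicGeometry CategoryTheory

namespace Groth.Agent.Lib.T2H6.EulerField

variable (k : Type u) [Field k] (X : Scheme.{u}) [X.Over (Spec (CommRingCat.of k))]

/-- A vanishing bound turns the Euler characteristic into a finite sum. -/
theorem euler_eq_sum (F : X.Modules) (N : ℕ)
    (hN : ∀ i : ℕ, N < i → Subsingleton (Coh.HH X F i)) :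
    Curv2.euler k X F =
      (Finset.range (N + 1)).sum fun i => (-1 : ℤ) ^ i * (Module.finrank k (Coh.HH X F i) : ℤ) := by
  unfold Curv2.euler
  apply finsum_eq_sum_of_support_subset
  intro i hi
  rw [Function.mem_support] at hi
  rw [Finset.coe_range, Set.mem_Iio]
  by_contra hlt
  rw [not_lt] at hlt
  haveI := hN i (by omega)
  apply hi
  rw [Module.finrank_zero_of_subsingleton]
  simp

variable [IsProper (X ↘ (Spec (CommRingCat.of k)))]

theorem finite_HH (F : X.Modules) (hF : Coh.IsCoh F) (i : ℕ) : Module.Finite k (Coh.HH X F i) :=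
  Groth.Agent.Lib.T2H5.T2Main.finite_HH_of_isProper k X F hF i

include k in
/-- There is a common vanishing bound for quasi-coherent modules on a proper `k`-scheme. -/
theorem exists_bound :
    ∃ d : ℕ, ∀ (M : X.Modules), Coh.IsQCoh M → ∀ p : ℕ, d ≤ p → Subsingleton (Coh.HH X M p) := by
  haveI : CompactSpace X :=
    QuasiCompact.compactSpace_of_compactSpace (X ↘ Spec (CommRingCat.of k))
  haveI : QuasiSeparatedSpace X :=
    quasiSeparatedSpace_of_quasiSeparated (X ↘ Spec (CommRingCat.of k))
  exact Groth.Agent.S0016.result X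

theorem euler_eq_sum_length (F : X.Modules) (hF : Coh.IsCoh F) (N : ℕ)
    (hN : ∀ i : ℕ, N < i → Subsingleton (Coh.HH X F i)) :
    Curv2.euler k X F =
      (Finset.range (N + 1)).sum fun i =>
        (-1 : ℤ) ^ i * ((Module.length k (Coh.HH X F i)).toNat : ℤ) := by
  rw [euler_eq_sum k X F N hN]
  refine Finset.sum_congr rfl fun i _ => ?_
  haveI := finite_HH k X F hF i
  rw [Module.length_eq_finrank]
  simp

/-- Additivity of the Euler characteristic on a proper scheme over a field. -/
theorem euler_additive (S : ShortComplex X.Modules) (hS : S.ShortExact)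
    (h₁ : Coh.IsCoh S.X₁) (h₂ : Coh.IsCoh S.X₂) (h₃ : Coh.IsCoh S.X₃) :
    Curv2.euler k X S.X₂ = Curv2.euler k X S.X₁ + Curv2.euler k X S.X₃ := by
  obtain ⟨d, hd⟩ := exists_bound k X
  have hN : ∀ (F : X.Modules), Coh.IsCoh F → ∀ i : ℕ, d < i → Subsingleton (Coh.HH X F i) :=
    fun F hF i hi => hd F hF.1 i hi.le
  rw [euler_eq_sum_length k X _ h₁ d (hN _ h₁), euler_eq_sum_length k X _ h₂ d (hN _ h₂),
    euler_eq_sum_length k X _ h₃ d (hN _ h₃)]
  exact Groth.Agent.S2420.result k X S hS h₁ h₂ h₃ d
    (fun i hi => ⟨hN _ h₁ i hi, hN _ h₂ i hi, hN _ h₃ i hi⟩)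

end Groth.Agent.Lib.T2H6.EulerField
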