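import Mathlib
import Groth.Prelude.Def_Curv2
import Groth.Agent.Lib.T2H6EulerField
import Groth.Agent.Lib.Helper2SemiLocFree
import Groth.Agent.Lib.Helper23StalkLin
import Groth.Agent.Lib.Helper2FibreCrit2
import Groth.Agent.Lib.T2H5Chevalley

/-!
# Additivity of ranks and degrees in short exact sequences of locally free modules (helper6)
-/

set_option autoImplicit false
universe u

open AlgebraicGeometry CategoryTheory Limits

namespace Groth.Agent.Lib.T2H6.RankAdd

section Algebra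

variable {R : Type*} [CommRing R] [Nontrivial R] {M₁ M₂ M₃ : Type*}
  [AddCommGroup M₁] [Module R M₁] [AddCommGroup M₂] [Module R M₂] [AddCommGroup M₃] [Module R M₃]

theorem finrank_add_of_exact [Module.Free R M₁] [Module.Finite R M₁] [Module.Free R M₃]
    [Module.Finite R M₃] (f : M₁ →ₗ[R] M₂) (g : M₂ →ₗ[R] M₃) (hf : Function.Injective f)
    (hg : Function.Surjective g) (hfg : Function.Exact f g) :
    Module.finrank R M₂ = Module.finrank R M₁ + Module.finrank R M₃ := by
  obtain ⟨s, hs⟩ := Module.projective_lifting_property g LinearMap.id hg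
  obtain ⟨e, -, -⟩ := hfg.splitSurjectiveEquiv hf ⟨s, hs⟩
  rw [e.finrank_eq, Module.finrank_prod]

end Algebra

variable {X : Scheme.{u}}

open Groth.Agent.Lib.Helper2.RankLoc Groth.Agent.Lib.Helper2.FPAff Groth.Agent.Lib.Helper2.LocFree
  Groth.Agent.Lib.Helper4.NormDelta Groth.Agent.Lib.Helper23.StalkLin

theorem free_finite_stalk (E : X.Modules) (n : ℕ) (hE : FlatMod.IsFinLocFreeOfRank n E) (x : X) :
    Module.Free (X.presheaf.stalk x) (E.presheaf.stalk x) ∧
      Module.Finite (X.presheaf.stalk x) (E.presheaf.stalk x) ∧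
      Module.finrank (X.presheaf.stalk x) (E.presheaf.stalk x) = n := by
  have hlf : FlatMod.IsFinLocFree E := fun x => by
    obtain ⟨U, hx, h⟩ := hE x
    exact ⟨U, n, hx, h⟩
  haveI hfp : SheafOfModules.IsFinitePresentation (R := X.ringCatSheaf) E :=
    isFP_of_isFinLocFree E hlf
  haveI : E.IsQuasicoherent := inferInstance
  obtain ⟨U, hxU, ⟨e⟩⟩ := hE x
  obtain ⟨hfree, hrk⟩ := fibreRank_eq_of_restrict_iso_freeMod U.ι E e ⟨x, hxU⟩
  haveI : Module.Free (X.presheaf.stalk x) (E.presheaf.stalk x) := hfree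
  refine ⟨hfree, Groth.Agent.Lib.Helper2.FibreCrit.finite_stalk E x, ?_⟩
  rw [← hrk]
  exact (Module.finrank_baseChange (R := IsLocalRing.ResidueField (X.presheaf.stalk x))
    (S := X.presheaf.stalk x) (M' := E.presheaf.stalk x)).symm

/-- Ranks are additive in short exact sequences of locally free modules on a nonempty scheme. -/
theorem rank_add (S : ShortComplex X.Modules) (hS : S.ShortExact) (n₁ n₂ n₃ : ℕ)
    (h₁ : FlatMod.IsFinLocFreeOfRank n₁ S.X₁) (h₂ : FlatMod.IsFinLocFreeOfRank n₂ S.X₂)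
    (h₃ : FlatMod.IsFinLocFreeOfRank n₃ S.X₃) (x : X) : n₂ = n₁ + n₃ := by
  obtain ⟨f1, g1, r1⟩ := free_finite_stalk S.X₁ n₁ h₁ x
  obtain ⟨f2, g2, r2⟩ := free_finite_stalk S.X₂ n₂ h₂ x
  obtain ⟨f3, g3, r3⟩ := free_finite_stalk S.X₃ n₃ h₃ x
  haveI := hS.mono_f
  haveI := hS.epi_g
  have := finrank_add_of_exact (stalkLin S.f x) (stalkLin S.g x) (stalkLin_injective S.f x)
    (stalkLin_surjective S.g x) (stalkLin_exact S hS x)
  rw [r1, r2, r3] at this
  exact this

theorem isZero_of_isEmpty [IsEmpty X] (M : X.Modules) : IsZero M := by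
  rw [IsZero.iff_id_eq_zero]
  ext U x
  have hU : U = ⊥ := by
    ext y
    exact isEmptyElim y
  have ht : IsTerminal (M.presheaf.obj (Opposite.op U)) :=
    TopCat.Sheaf.isTerminalOfEqEmpty ⟨M.presheaf, M.isSheaf⟩ hU
  have hz : IsZero (M.presheaf.obj (Opposite.op U)) := IsZero.of_iso (isZero_zero _)
    (ht.uniqueUpToIso (isZero_zero Ab).isTerminal)
  haveI : Subsingleton (M.presheaf.obj (Opposite.op U)) :=
    AddCommGrpCat.subsingleton_of_isZero hz
  exact Subsingleton.elim (α := (M.presheaf.obj (Opposite.op U))) _ _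

variable (k : Type u) [Field k] [X.Over (Spec (CommRingCat.of k))]

theorem euler_eq_zero_of_isEmpty [IsEmpty X] (M : X.Modules) : Curv2.euler k X M = 0 := by
  rw [Groth.Agent.Lib.T2H6.EulerField.euler_eq_sum k X M 0
    (fun i _ => Groth.Agent.Lib.T2H5.Chevalley.subsingleton_HH_of_isZero (isZero_of_isEmpty M) i)]
  haveI := Groth.Agent.Lib.T2H5.Chevalley.subsingleton_HH_of_isZero (isZero_of_isEmpty M) 0
  simp [Module.finrank_zero_of_subsingleton]

theorem isCoh_of_isFinLocFreeOfRank (E : X.Modules) (n : ℕ) (hE : FlatMod.IsFinLocFreeOfRank n E) :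
    Coh.IsCoh E := by
  have hlf : FlatMod.IsFinLocFree E := fun x => by
    obtain ⟨U, hx, h⟩ := hE x
    exact ⟨U, n, hx, h⟩
  haveI hfp : SheafOfModules.IsFinitePresentation (R := X.ringCatSheaf) E :=
    isFP_of_isFinLocFree E hlf
  exact ⟨inferInstance, inferInstance⟩

/-- Degrees are additive in short exact sequences of locally free modules. -/
theorem deg_additive [IsProper (X ↘ (Spec (CommRingCat.of k)))]
    (S : ShortComplex X.Modules) (hS : S.ShortExact)
    (n₁ n₂ n₃ : ℕ) (h₁ : FlatMod.IsFinLocFreeOfRank n₁ S.X₁)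
    (h₂ : FlatMod.IsFinLocFreeOfRank n₂ S.X₂) (h₃ : FlatMod.IsFinLocFreeOfRank n₃ S.X₃) :
    Curv2.deg k X S.X₂ n₂ = Curv2.deg k X S.X₁ n₁ + Curv2.deg k X S.X₃ n₃ := by
  have hadd := Groth.Agent.Lib.T2H6.EulerField.euler_additive k X S hS
    (isCoh_of_isFinLocFreeOfRank _ _ h₁) (isCoh_of_isFinLocFreeOfRank _ _ h₂)
    (isCoh_of_isFinLocFreeOfRank _ _ h₃)
  unfold Curv2.deg
  by_cases hX : Nonempty X
  · obtain ⟨x⟩ := hX
    have := rank_add S hS n₁ n₂ n₃ h₁ h₂ h₃ x
    rw [hadd, this]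
    push_cast
    ring
  · haveI : IsEmpty X := not_nonempty_iff.mp hX
    simp only [euler_eq_zero_of_isEmpty k]
    ring

end Groth.Agent.Lib.T2H6.RankAdd
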