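import Mathlib
import Groth.Prelude.Def_DCoh2
import Groth.Agent.Lib.T2H8StalkRestrict
import Groth.Agent.Lib.T2H8PCohFT
import Groth.Agent.Lib.T2H8PCohQCoh
import Groth.Agent.Lib.T2H8PerfLocal
import Groth.Agent.Lib.T2H3FreeLocus
import Groth.Agent.Lib.T2H6RankAdd
import Groth.Agent.Lib.T2H8PCohTriangle

/-!
# The locus where the cohomology sheaves of a perfect complex are finite free (helper8)

* `LFAt M x`: the module `M` is free of finite rank on a neighbourhood of `x`.
* `lfAt_homology`: if all the cohomology sheaves of a strictly perfect complex have free stalks at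
  `x`, they are all finite locally free on a common neighbourhood of `x`.
-/

set_option autoImplicit false
universe u
open CategoryTheory CategoryTheory.Limits AlgebraicGeometry

namespace Groth.Agent.Lib.T2H8.FreeLoc

open Groth.Agent.Lib.T2H8.StalkRestrict Groth.Agent.Lib.T2H8.PerfLocal
  Groth.Agent.Lib.T2H8.PCohFT Groth.Agent.Lib.T2H8.PCohQCoh Groth.Agent.Lib.T2H8.SchLocHtpy
  Groth.Agent.Lib.Helper20.LocFree

variable {X : Scheme.{u}}

/-- `M` is free of finite rank near `x` -/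
def LFAt (M : X.Modules) (x : X) : Prop :=
  ∃ (U : Scheme.{u}) (j : U ⟶ X) (_ : IsOpenImmersion j) (x' : U) (n : ℕ), j x' = x ∧
    Nonempty (M.restrict j ≅ FlatMod.freeMod U n)

lemma LFAt.of_iso {M N : X.Modules} (e : M ≅ N) {x : X} (h : LFAt M x) : LFAt N x := by
  obtain ⟨U, j, hj, x', n, hx, ⟨φ⟩⟩ := h
  exact ⟨U, j, hj, x', n, hx, ⟨(Scheme.Modules.restrictFunctor j).mapIso e.symm ≪≫ φ⟩⟩

lemma lfAt_of_isFinLocFree {M : X.Modules} (h : FlatMod.IsFinLocFree M) (x : X) : LFAt M x := by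
  obtain ⟨W, n, hxW, ⟨e⟩⟩ := h x
  exact ⟨W, W.ι, inferInstance, ⟨x, hxW⟩, n, rfl, ⟨e⟩⟩

lemma isFinLocFree_of_forall_lfAt {M : X.Modules} (h : ∀ x, LFAt M x) :
    FlatMod.IsFinLocFree M := by
  apply isFinLocFree_of_locally
  intro x
  obtain ⟨U, j, hj, x', n, hx, ⟨e⟩⟩ := h x
  exact ⟨U, j, hj, x', hx, Groth.Agent.Lib.Helper2.LocFree.isFinLocFree_of_iso_freeMod _ e⟩

lemma lfAt_of_isZero {M : X.Modules} (h : IsZero M) (x : X) : LFAt M x :=
  lfAt_of_isFinLocFree (isFinLocFree_of_isZero h) x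

lemma LFAt.of_restrict {M : X.Modules} {U : Scheme.{u}} (j : U ⟶ X) [IsOpenImmersion j] (x' : U)
    (h : LFAt (M.restrict j) x') : LFAt M (j x') := by
  obtain ⟨U', j', hj', x'', n, hx, ⟨e⟩⟩ := h
  refine ⟨U', j' ≫ j, inferInstance, x'', n, ?_, ⟨(Scheme.Modules.restrictFunctorComp j' j).app M ≪≫ e⟩⟩
  rw [Scheme.Hom.comp_apply, hx]

lemma LFAt.restrict {M : X.Modules} {U : Scheme.{u}} (j : U ⟶ X) [IsOpenImmersion j] (x' : U)
    (h : LFAt M (j x')) : LFAt (M.restrict j) x' := by
  obtain ⟨U', j', hj', x'', n, hx, ⟨e⟩⟩ := h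
  let W : U.Opens := j ⁻¹ᵁ j'.opensRange
  have hxW : x' ∈ W := ⟨x'', hx⟩
  have hr : Set.range (W.ι ≫ j) ⊆ Set.range j' := by
    rintro _ ⟨w, rfl⟩
    rw [Scheme.Hom.comp_apply]
    exact w.2
  haveI : IsOpenImmersion (IsOpenImmersion.lift j' (W.ι ≫ j) hr ≫ j') := by
    rw [IsOpenImmersion.lift_fac]
    infer_instance
  haveI : IsOpenImmersion (IsOpenImmersion.lift j' (W.ι ≫ j) hr) := IsOpenImmersion.of_comp _ j'
  obtain ⟨e2⟩ := nonempty_restrict_iso_freeMod_comp M j' (IsOpenImmersion.lift j' (W.ι ≫ j) hr)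
    (W.ι ≫ j) (IsOpenImmersion.lift_fac j' (W.ι ≫ j) hr) n e
  exact ⟨W, W.ι, inferInstance, ⟨x', hxW⟩, n, rfl,
    ⟨((Scheme.Modules.restrictFunctorComp W.ι j).app M).symm ≪≫ e2⟩⟩

/-- an open neighbourhood over which `M` is free, and so are its restrictions to smaller opens -/
lemma LFAt.exists_opens {M : X.Modules} {x : X} (h : LFAt M x) :
    ∃ (W : X.Opens) (n : ℕ), x ∈ W ∧ ∀ W' : X.Opens, W' ≤ W →
      Nonempty (M.restrict W'.ι ≅ FlatMod.freeMod (W' : Scheme.{u}) n) := by
  obtain ⟨U, j, hj, x', n, hx, ⟨e⟩⟩ := h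
  refine ⟨j.opensRange, n, ⟨x', hx⟩, fun W' hW' => ?_⟩
  have hr : Set.range W'.ι ⊆ Set.range j := by
    rw [Scheme.Opens.range_ι]
    exact hW'
  haveI : IsOpenImmersion (IsOpenImmersion.lift j W'.ι hr ≫ j) := by
    rw [IsOpenImmersion.lift_fac]
    infer_instance
  haveI : IsOpenImmersion (IsOpenImmersion.lift j W'.ι hr) := IsOpenImmersion.of_comp _ j
  exact nonempty_restrict_iso_freeMod_comp M j (IsOpenImmersion.lift j W'.ι hr) W'.ι
    (IsOpenImmersion.lift_fac j W'.ι hr) n e

/-- the kernel of an epimorphism between modules which are free near `x` is free near `x` -/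
lemma lfAt_kernel {F G : X.Modules} (p : F ⟶ G) [Epi p] {x : X} (hF : LFAt F x)
    (hG : LFAt G x) : LFAt (kernel p) x := by
  obtain ⟨W₁, n₁, hx₁, H₁⟩ := hF.exists_opens
  obtain ⟨W₂, n₂, hx₂, H₂⟩ := hG.exists_opens
  let W : X.Opens := W₁ ⊓ W₂
  obtain ⟨e₁⟩ := H₁ W inf_le_left
  obtain ⟨e₂⟩ := H₂ W inf_le_right
  have h₁ : FlatMod.IsFinLocFree ((Scheme.Modules.restrictFunctor W.ι).obj F) :=
    Groth.Agent.Lib.Helper2.LocFree.isFinLocFree_of_iso_freeMod _ e₁
  have h₂ : FlatMod.IsFinLocFree ((Scheme.Modules.restrictFunctor W.ι).obj G) :=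
    Groth.Agent.Lib.Helper2.LocFree.isFinLocFree_of_iso_freeMod _ e₂
  haveI : Epi ((Scheme.Modules.restrictFunctor W.ι).map p) := inferInstance
  have h₃ := isFinLocFree_kernel ((Scheme.Modules.restrictFunctor W.ι).map p) h₁ h₂
  have h₄ : LFAt ((kernel p).restrict W.ι) ⟨x, ⟨hx₁, hx₂⟩⟩ :=
    (lfAt_of_isFinLocFree h₃ _).of_iso
      (PreservesKernel.iso (Scheme.Modules.restrictFunctor W.ι) p).symm
  exact h₄.of_restrict W.ι ⟨x, ⟨hx₁, hx₂⟩⟩

/-- a module which is free near `x` has a finite free stalk at `x` -/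
lemma LFAt.free_finite_stalk {M : X.Modules} {x : X} (h : LFAt M x) :
    Module.Free (X.presheaf.stalk x) (M.presheaf.stalk x) ∧
      Module.Finite (X.presheaf.stalk x) (M.presheaf.stalk x) := by
  obtain ⟨U, j, hj, x', n, rfl, ⟨e⟩⟩ := h
  have hr : FlatMod.IsFinLocFreeOfRank n (FlatMod.freeMod U n) := fun y =>
    ⟨⊤, trivial, ⟨restrictFreeMod (⊤ : U.Opens).ι n⟩⟩
  obtain ⟨h1, h2, -⟩ := Groth.Agent.Lib.T2H6.RankAdd.free_finite_stalk _ n hr x'
  exact ⟨(free_stalk_restrict_iff j M x').1 (free_stalk_of_iso e.symm x' h1),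
    (finite_stalk_restrict_iff j M x').1 (finite_stalk_of_iso e.symm x' h2)⟩

/-- a finitely presented quasi-coherent module with a free stalk at `x` is free near `x` -/
lemma lfAt_of_free_stalk (M : X.Modules) [M.IsQuasicoherent]
    [SheafOfModules.IsFinitePresentation (R := X.ringCatSheaf) M] (x : X)
    (h : Module.Free (X.presheaf.stalk x) (M.presheaf.stalk x)) : LFAt M x := by
  obtain ⟨D, m, hxD, ⟨e⟩⟩ :=
    Groth.Agent.Lib.Helper2.LocFree.exists_restrict_iso_freeMod_of_isFlatAt M x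
      ((Groth.Agent.Lib.T2H3.FreeBC.free_stalk_iff_isFlatAt M x).1 h)
  exact ⟨D, D.ι, inferInstance, ⟨x, hxD⟩, m, rfl, ⟨e⟩⟩

section Trunc

open HomologicalComplex

variable (E : CochainComplex X.Modules ℤ)

/-- the cycles in degree `i` are finite locally free if the term in degree `i`, the cycles in
degree `i + 1` and the cohomology in degree `i + 1` are -/
lemma isFinLocFree_cycles_of_homology (i j : ℤ) (hij : i + 1 = j)
    (hX : FlatMod.IsFinLocFree (E.X i)) (hZ : FlatMod.IsFinLocFree (E.cycles j))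
    (hH : FlatMod.IsFinLocFree (E.homology j)) : FlatMod.IsFinLocFree (E.cycles i) := by
  have hI : FlatMod.IsFinLocFree (kernel (E.homologyπ j)) :=
    isFinLocFree_kernel (E.homologyπ j) hZ hH
  have hz : E.toCycles i j ≫ E.homologyπ j = 0 := E.toCycles_comp_homologyπ i j
  have hex : (ShortComplex.mk (E.toCycles i j) (E.homologyπ j) hz).Exact :=
    ShortComplex.exact_of_g_is_cokernel _ (E.homologyIsCokernel i j (by simp [← hij]))
  haveI : Epi (kernel.lift (E.homologyπ j) (E.toCycles i j) hz) :=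
    (ShortComplex.exact_iff_epi_kernel_lift _).1 hex
  have h1 := isFinLocFree_kernel (kernel.lift (E.homologyπ j) (E.toCycles i j) hz) hX hI
  -- the kernel of the lift is the kernel of `toCycles`
  have hfac : kernel.lift (E.homologyπ j) (E.toCycles i j) hz ≫ kernel.ι (E.homologyπ j) =
      E.toCycles i j := kernel.lift_ι _ _ _
  let e1 : kernel (kernel.lift (E.homologyπ j) (E.toCycles i j) hz) ≅ kernel (E.toCycles i j) :=
    (kernelCompMono (kernel.lift (E.homologyπ j) (E.toCycles i j) hz)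
      (kernel.ι (E.homologyπ j))).symm ≪≫ kernel.mapIso _ _ (Iso.refl _) (Iso.refl _)
        (by simp [hfac])
  exact isFinLocFree_of_iso (e1 ≪≫
    IsLimit.conePointUniqueUpToIso (kernelIsKernel (E.toCycles i j))
      (cyclesIsKernelToCycles E i j hij)) h1

/-- if the top cohomology sheaf of a strictly perfect complex is finite locally free, so are the
cycles in the degree below -/
lemma isFinLocFree_cycles_pred (hE : DCoh.IsStrictlyPerfect E) (b : ℤ)
    (hb : IsZero (E.X (b + 1))) (hH : FlatMod.IsFinLocFree (E.homology b)) :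
    FlatMod.IsFinLocFree (E.cycles (b - 1)) := by
  have hZ : FlatMod.IsFinLocFree (E.cycles b) :=
    isFinLocFree_of_iso (E.iCyclesIso b (b + 1) (by simp) (hb.eq_of_tgt _ _)).symm (hE.2 b)
  exact isFinLocFree_cycles_of_homology E (b - 1) b (by omega) (hE.2 (b - 1)) hZ hH

/-- the canonical truncation below the top degree of a strictly perfect complex whose top
cohomology sheaf is finite locally free is strictly perfect -/
lemma isStrictlyPerfect_truncLE (hE : DCoh.IsStrictlyPerfect E) (b : ℤ)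
    (hb : ∀ q, b < q → IsZero (E.X q)) (hH : FlatMod.IsFinLocFree (E.homology b)) :
    DCoh.IsStrictlyPerfect (E.truncLE (b - 1)) := by
  obtain ⟨a, c, hac⟩ := hE.1
  refine ⟨⟨a, b - 1, fun q hq => ?_⟩, fun q => ?_⟩
  · rcases lt_trichotomy q (b - 1) with hq' | hq' | hq'
    · rcases hq with hq | hq
      · exact IsZero.of_iso (hac q (Or.inl hq)) (E.truncLEXIso (b - 1) q hq')
      · omega
    · subst hq'
      rcases hq with hq | hq
      · refine IsZero.of_iso ?_ (E.truncLEXIsoCycles (b - 1))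
        exact IsZero.of_mono (E.iCycles (b - 1)) (hac _ (Or.inl hq))
      · omega
    · exact (E.truncLE (b - 1)).isZero_of_isStrictlyLE (b - 1) q hq'
  · rcases lt_trichotomy q (b - 1) with hq | hq | hq
    · exact isFinLocFree_of_iso (E.truncLEXIso (b - 1) q hq).symm (hE.2 q)
    · subst hq
      exact isFinLocFree_of_iso (E.truncLEXIsoCycles (b - 1)).symm
        (isFinLocFree_cycles_pred E hE b (hb _ (by omega)) hH)
    · exact isFinLocFree_of_isZero ((E.truncLE (b - 1)).isZero_of_isStrictlyLE (b - 1) q hq)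

/-- the top cohomology sheaf of a strictly perfect complex is of finite presentation -/
lemma isFP_homology_top (hE : DCoh.IsStrictlyPerfect E) (b : ℤ) (hb : IsZero (E.X (b + 1))) :
    CohB1.IsFP (E.homology b) := by
  apply isFP_of_coker_locFree
  intro x
  let ι := E.isoHomologyι b (b + 1) (by simp) (hb.eq_of_tgt _ _)
  have hz : E.d (b - 1) b ≫ (E.pOpcycles b ≫ ι.inv) = 0 := by
    rw [← Category.assoc, E.d_pOpcycles, zero_comp]
  let S : ShortComplex X.Modules := ShortComplex.mk (E.d (b - 1) b) (E.pOpcycles b ≫ ι.inv) hz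
  let S' : ShortComplex X.Modules :=
    ShortComplex.mk (E.d (b - 1) b) (E.pOpcycles b) (E.d_pOpcycles (b - 1) b)
  have hS' : S'.Exact :=
    ShortComplex.exact_of_g_is_cokernel _ (E.opcyclesIsCokernel (b - 1) b (by simp))
  let eS : S' ≅ S :=
    ShortComplex.isoMk (Iso.refl _) (Iso.refl _) ι.symm (by simp [S, S']) (by simp [S, S'])
  have hS : S.Exact := ShortComplex.exact_of_iso eS hS'
  refine ⟨X, 𝟙 X, inferInstance, x, rfl, S, (Scheme.Modules.restrictFunctorId.app _).symm,
    hE.2 _, hE.2 _, hS, ?_⟩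
  exact epi_comp _ _

end Trunc

section Main

open HomologicalComplex Groth.Agent.Lib.T2H8.HomologyCoprod

lemma isZero_homology_of_isZero_X {Y : Scheme.{u}} (E : CochainComplex Y.Modules ℤ) (q : ℤ)
    (h : IsZero (E.X q)) : IsZero (E.homology q) :=
  (E.sc q).isZero_homology_of_isZero_X₂ h

/-- if all the cohomology sheaves of a strictly perfect complex have free stalks at `x`, they are
all free of finite rank near the points of a common neighbourhood of `x` (induction on the
length of the complex) -/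
theorem lfAt_homology_aux : ∀ (n : ℕ) (Y : Scheme.{u}) (E : CochainComplex Y.Modules ℤ) (b : ℤ),
    DCoh.IsStrictlyPerfect E → (∀ q, b < q → IsZero (E.X q)) →
    (∀ q, q ≤ b - n → IsZero (E.X q)) →
    ∀ x : Y, (∀ q, Module.Free (Y.presheaf.stalk x) ((E.homology q).presheaf.stalk x)) →
    ∃ O : Y.Opens, x ∈ O ∧ ∀ q, ∀ y ∈ O, LFAt (E.homology q) y := by
  intro n
  induction n with
  | zero =>
    intro Y E b hE hb ha x hfree
    refine ⟨⊤, trivial, fun q y _ => lfAt_of_isZero (isZero_homology_of_isZero_X E q ?_) y⟩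
    rcases le_or_gt q b with h | h
    · exact ha q (by simpa using h)
    · exact hb q h
  | succ n ih =>
    intro Y E b hE hb ha x hfree
    haveI hqc : ∀ i, (E.X i).IsQuasicoherent := fun i => isQCoh_of_isFinLocFree _ (hE.2 i)
    haveI : (E.homology b).IsQuasicoherent := isQCoh_homology E hqc b
    haveI : SheafOfModules.IsFinitePresentation (R := Y.ringCatSheaf) (E.homology b) :=
      isFP_homology_top E hE b (hb _ (by omega))
    obtain ⟨D, m, hxD, ⟨eC⟩⟩ :=
      Groth.Agent.Lib.Helper2.LocFree.exists_restrict_iso_freeMod_of_isFlatAt (E.homology b) x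
        ((Groth.Agent.Lib.T2H3.FreeBC.free_stalk_iff_isFlatAt _ x).1 (hfree b))
    -- the restricted complex
    let r := Scheme.Modules.restrictFunctor D.ι
    let ED := (rC D.ι).obj E
    have hED : DCoh.IsStrictlyPerfect ED := isStrictlyPerfect_restrict D.ι E hE
    have hbD : ∀ q, b < q → IsZero (ED.X q) := fun q hq => r.map_isZero (hb q hq)
    have haD : ∀ q, q ≤ b - ((n + 1 : ℕ) : ℤ) → IsZero (ED.X q) := fun q hq =>
      r.map_isZero (ha q hq)
    let eH : ∀ q, ED.homology q ≅ (E.homology q).restrict D.ι := fun q => homologyMapIso r E q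
    have hHD : FlatMod.IsFinLocFree (ED.homology b) :=
      Groth.Agent.Lib.Helper2.LocFree.isFinLocFree_of_iso_freeMod _ (eH b ≪≫ eC)
    -- the truncation
    let E' := ED.truncLE (b - 1)
    have hE' : DCoh.IsStrictlyPerfect E' := isStrictlyPerfect_truncLE ED hED b hbD hHD
    have hb' : ∀ q, b - 1 < q → IsZero (E'.X q) := fun q hq =>
      E'.isZero_of_isStrictlyLE (b - 1) q hq
    have ha' : ∀ q, q ≤ b - 1 - (n : ℤ) → IsZero (E'.X q) := by
      intro q hq
      have hzq : IsZero (ED.X q) := haD q (by push_cast; omega)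
      rcases lt_or_eq_of_le (show q ≤ b - 1 by omega) with h | h
      · exact IsZero.of_iso hzq (ED.truncLEXIso (b - 1) q h)
      · subst h
        exact IsZero.of_iso (IsZero.of_mono (ED.iCycles (b - 1)) hzq) (ED.truncLEXIsoCycles (b - 1))
    have eH' : ∀ q, q ≤ b - 1 → Nonempty (E'.homology q ≅ ED.homology q) := fun q hq => by
      haveI := ED.quasiIsoAt_ιTruncLE (b - 1) q hq
      exact ⟨asIso (homologyMap (ED.ιTruncLE (b - 1)) q)⟩
    let x' : (D : Scheme.{u}) := ⟨x, hxD⟩
    have hfree' : ∀ q, Module.Free ((D : Scheme.{u}).presheaf.stalk x')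
        ((E'.homology q).presheaf.stalk x') := by
      intro q
      rcases le_or_gt q (b - 1) with hq | hq
      · obtain ⟨e1⟩ := eH' q hq
        have h1 : Module.Free ((D : Scheme.{u}).presheaf.stalk x')
            (((E.homology q).restrict D.ι).presheaf.stalk x') :=
          (free_stalk_restrict_iff D.ι (E.homology q) x').2 (hfree q)
        exact free_stalk_of_iso (e1 ≪≫ eH q).symm x' h1
      · haveI := subsingleton_stalk_of_isZero (isZero_homology_of_isZero_X E' q (hb' q hq)) x'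
        exact Module.Free.of_subsingleton _ _
    obtain ⟨O', hxO', HO'⟩ := ih D E' (b - 1) hE' hb' ha' x' hfree'
    refine ⟨D.ι ''ᵁ O', ⟨x', hxO', rfl⟩, fun q y hy => ?_⟩
    obtain ⟨y', hy', rfl⟩ := hy
    rcases lt_trichotomy q b with hq | hq | hq
    · obtain ⟨e1⟩ := eH' q (by omega)
      have h1 : LFAt ((E.homology q).restrict D.ι) y' := (HO' q y' hy').of_iso (e1 ≪≫ eH q)
      exact h1.of_restrict D.ι y'
    · subst hq
      exact ⟨D, D.ι, inferInstance, y', m, rfl, ⟨eC⟩⟩
    · exact lfAt_of_isZero (isZero_homology_of_isZero_X E q (hb q hq)) _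

end Main

section Perfect

open DerivedCategory Groth.Agent.Lib.T2H8.PCohTriangle

attribute [local instance] HasDerivedCategory.standard

variable {X : Scheme.{u}}

/-- if all cohomology sheaves of a perfect object have free stalks at `x`, then they are all free of
finite rank near the points of a common neighbourhood of `x` -/
theorem exists_opens_lfAt_HD (E : DCoh.D X) (hE : DCoh.IsPerfect E) (x : X)
    (hfree : ∀ i : ℤ, Module.Free (X.presheaf.stalk x) ((DCoh.HD E i).presheaf.stalk x)) :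
    ∃ O : X.Opens, x ∈ O ∧ ∀ i : ℤ, ∀ y ∈ O, LFAt (DCoh.HD E i) y := by
  obtain ⟨U', j, hj, x', rfl, P, hP, ⟨e⟩⟩ := (isPerfect_iff E).1 hE x
  let eq : ∀ q : ℤ, P.homology q ≅ (DCoh.HD E q).restrict j := fun q =>
    ((homologyFunctorFactors U'.Modules q).app P).symm ≪≫
      (homologyFunctor U'.Modules q).mapIso e.symm ≪≫
      (mapDerivedCategoryHomologyIso (Scheme.Modules.restrictFunctor j) q).app E
  obtain ⟨a, c, hac⟩ := hP.1
  have hfree' : ∀ q, Module.Free (U'.presheaf.stalk x') ((P.homology q).presheaf.stalk x') :=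
    fun q => free_stalk_of_iso (eq q).symm x'
      ((free_stalk_restrict_iff j (DCoh.HD E q) x').2 (hfree q))
  obtain ⟨O', hxO', HO'⟩ := lfAt_homology_aux (c - a + 1).toNat U' P c hP
    (fun q hq => hac q (Or.inr hq)) (fun q hq => hac q (Or.inl (by omega))) x' hfree'
  refine ⟨j ''ᵁ O', ⟨x', hxO', rfl⟩, fun q y hy => ?_⟩
  obtain ⟨y', hy', rfl⟩ := hy
  exact ((HO' q y' hy').of_iso (eq q)).of_restrict j y'

theorem main_S0892 {X : Scheme.{u}} (E : DCoh.D X) (hE : DCoh.IsPerfect E) :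
    ∃ U : X.Opens,
      (U : Set X) = {x : X | ∀ i : ℤ,
        Module.Free (X.presheaf.stalk x) ((DCoh.HD E i).presheaf.stalk x) ∧
        Module.Finite (X.presheaf.stalk x) ((DCoh.HD E i).presheaf.stalk x)} ∧
      (∀ i : ℤ, FlatMod.IsFinLocFree ((DCoh.HD E i).restrict U.ι)) ∧
      ∀ W : X.Opens, (∀ i : ℤ, FlatMod.IsFinLocFree ((DCoh.HD E i).restrict W.ι)) → W ≤ U := by
  let S : Set X := {x | ∃ O : X.Opens, x ∈ O ∧ ∀ i : ℤ, ∀ y ∈ O, LFAt (DCoh.HD E i) y}
  have hS : IsOpen S := by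
    rw [isOpen_iff_forall_mem_open]
    rintro x ⟨O, hxO, HO⟩
    exact ⟨O, fun y hy => ⟨O, hy, HO⟩, O.2, hxO⟩
  refine ⟨⟨S, hS⟩, ?_, fun i => ?_, fun W hW x hx => ?_⟩
  · ext x
    constructor
    · rintro ⟨O, hxO, HO⟩ i
      exact (HO i x hxO).free_finite_stalk
    · intro hx
      exact exists_opens_lfAt_HD E hE x (fun i => (hx i).1)
  · apply isFinLocFree_of_forall_lfAt
    rintro ⟨x, O, hxO, HO⟩
    exact LFAt.restrict (Scheme.Opens.ι ⟨S, hS⟩) ⟨x, O, hxO, HO⟩ (HO i x hxO)
  · exact ⟨W, hx, fun i y hy => (lfAt_of_isFinLocFree (hW i) ⟨y, hy⟩).of_restrict W.ι ⟨y, hy⟩⟩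

end Perfect

end Groth.Agent.Lib.T2H8.FreeLoc
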