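import Groth.Agent.Lib.T2H3FOConormal
import Groth.Agent.Lib.T2H3ConormalSplit
import Groth.Agent.Lib.Helper22ThickAffine
import Groth.Agent.Lib.T2H3FONbhd
import Groth.Agent.Lib.T2H3H1Conormal
import Groth.Agent.Lib.T2H9RegImmBC
import Groth.Agent.Lib.T2H9KoszulH1
import Groth.Agent.Lib.T2H8FreeLoc
import Groth.Agent.Lib.Helper18Grp3
import Groth.Agent.Lib.Helper18OmLS24
import Groth.Agent.S1488
import Groth.Agent.S9786
import Groth.Agent.Lib.Helper18Con3

set_option autoImplicit false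
set_option linter.style.haveILetI false
set_option linter.unusedSectionVars false
universe u
open CategoryTheory AlgebraicGeometry Limits TopologicalSpace Opposite

namespace Groth.Agent.Lib.T2H3.LciConormal

section affineHom

/-- a morphism between two thickenings of the same scheme is affine. -/
theorem isAffineHom_of_thickenings {U Z' W' : Scheme.{u}} (i' : U ⟶ Z') (l : U ⟶ W') (k : Z' ⟶ W')
    (hk : i' ≫ k = l) [IsClosedImmersion i'] (hs : Function.Surjective i') [IsClosedImmersion l] :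
    IsAffineHom k := by
  refine ⟨fun V hV => ?_⟩
  have h1 : IsAffineOpen (l ⁻¹ᵁ V) := hV.preimage l
  have h2 : i' ⁻¹ᵁ (k ⁻¹ᵁ V) = l ⁻¹ᵁ V := by rw [← hk]; rfl
  haveI : IsAffine (i' ⁻¹ᵁ (k ⁻¹ᵁ V)).toScheme := by
    change IsAffineOpen (i' ⁻¹ᵁ (k ⁻¹ᵁ V))
    rw [h2]; exact h1
  haveI : IsClosedImmersion (i' ∣_ (k ⁻¹ᵁ V)) :=
    MorphismProperty.of_isPullback (isPullback_morphismRestrict i' (k ⁻¹ᵁ V)).flip inferInstance
  have hsurj : Function.Surjective (i' ∣_ (k ⁻¹ᵁ V)) := by
    rintro ⟨y, hy⟩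
    obtain ⟨x, rfl⟩ := hs y
    refine ⟨⟨x, hy⟩, ?_⟩
    apply Subtype.ext
    have := congr($(morphismRestrict_ι i' (k ⁻¹ᵁ V)) ⟨x, hy⟩)
    exact this
  exact Groth.Agent.Lib.Helper22.ThickAffine.isAffine_of_thickening (i' ∣_ (k ⁻¹ᵁ V)) hsurj

end affineHom

open Groth.Agent.Helper18OmLS Groth.Agent.Helper18Om Groth.Agent.Helper18Con
open Groth.Agent.Helper18UT Groth.Agent.Lib.T2H8.FreeLoc

section retract
variable {X : Scheme.{u}}

/-- a retract of a module which is free of finite rank near `x` is free of finite rank near `x`. -/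
theorem lfAt_of_retract {M M' : X.Modules} (s : M' ⟶ M) (r : M ⟶ M') (h : s ≫ r = 𝟙 M') {x : X}
    (hM : LFAt M x) : LFAt M' x := by
  obtain ⟨U, j, hj, x', n, hx, ⟨e⟩⟩ := hM
  haveI := hj
  have hret : ((Scheme.Modules.restrictFunctor j).map s ≫ e.hom) ≫
      (e.inv ≫ (Scheme.Modules.restrictFunctor j).map r) = 𝟙 _ := by
    rw [Category.assoc, Iso.hom_inv_id_assoc, ← Functor.map_comp, h, CategoryTheory.Functor.map_id]
  have hfl : FlatMod.IsFinLocFree (M'.restrict j) :=
    Groth.Agent.Lib.Helper20.LocFree.isFinLocFree_of_retract _ _ hret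
  have := LFAt.of_restrict j x' (lfAt_of_isFinLocFree hfl x')
  rw [hx] at this
  exact this

end retract

section h1

theorem isRegularImmersion_h1_of_koszul {Z X : Scheme.{u}} (i : Z ⟶ X)
    (hi : RegImm.IsRegularImmersion .koszul i) : RegImm.IsRegularImmersion .h1 i := by
  obtain ⟨him, hat⟩ := hi
  refine ⟨him, fun z => ?_⟩
  obtain ⟨U, hU, hcl, rs, hrs, hker⟩ := hat z
  exact ⟨U, hU, hcl, rs,
    Groth.Agent.Lib.T2H9.KoszulH1.isH1Regular_of_isKoszulRegularSeq rs hrs, hker⟩

end h1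

section core
variable {U P Y W' : Scheme.{u}} (iU : U ⟶ P) (π : P ⟶ Y) [Smooth π]
  (hreg : RegImm.IsRegularImmersion .koszul iU) [FormallyUnramified (iU ≫ π)]
  (l : U ⟶ W') (h'' : W' ⟶ Y) (hu : OmegaSh.IsUnivThickening (iU ≫ π) l h'')

include hreg in
/-- the conormal sheaf of the first order neighbourhood of a Koszul-regular immersion is finite
locally free. -/
theorem isFinLocFree_conormal_model {Z₁ : Scheme.{u}} (c : U ⟶ P) (hc : c = iU)
    (i' : U ⟶ Z₁) (f₁ : Z₁ ⟶ P) [IsImmersion i'] [QuasiCompact i'] [IsImmersion f₁] [QuasiCompact f₁]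
    (hfac : i' ≫ f₁ = c) (hker : f₁.ker ≤ (i' ≫ f₁).ker ^ 2) :
    FlatMod.IsFinLocFree (Omega.conormal i') := by
  subst hc
  have hregc : RegImm.IsRegularImmersion .koszul (i' ≫ f₁) := by rw [hfac]; exact hreg
  haveI : IsImmersion (i' ≫ f₁) := hregc.1
  obtain ⟨φ₂, hφ₂, -, -⟩ := exists_conormalMap i' (i' ≫ f₁) f₁ (𝟙 U) (Category.id_comp _)
  haveI := Groth.Agent.Lib.T2H3.FOConormal.isIso_phi2 i' f₁ hker φ₂ hφ₂
  have h1 : FlatMod.IsFinLocFree (Omega.conormal (i' ≫ f₁)) :=
    Groth.Agent.Lib.T2H3.H1Conormal.isFinLocFree_conormal_of_h1 (i' ≫ f₁)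
      (isRegularImmersion_h1_of_koszul _ hregc)
  exact Groth.Agent.Lib.T2H8.SchLocHtpy.isFinLocFree_of_iso
    (((Scheme.Modules.pullbackId U).app (Omega.conormal (i' ≫ f₁))).symm ≪≫ asIso φ₂) h1

include hreg hu in
/-- **core**: if `U ⟶ Y` factors as a Koszul-regular immersion followed by a smooth morphism, the
conormal sheaf of any universal first order thickening of `U` over `Y` is finite locally free. -/
theorem isFinLocFree_conormal_core : FlatMod.IsFinLocFree (Omega.conormal l) := by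
  haveI : IsImmersion iU := hreg.1
  -- the model universal thickening of the immersion `iU`
  have hc : iU.liftCoborder ≫ iU.coborderRange.ι = iU := iU.liftCoborder_ι
  have hI : iU.liftCoborder.ker ^ 2 ≤ iU.liftCoborder.ker := by
    rw [pow_two]
    intro V
    exact Ideal.mul_le_left
  have he : (asIso iU.liftCoborder.toImage).hom ≫ iU.liftCoborder.ker.subschemeι =
      iU.liftCoborder := iU.liftCoborder.toImage_imageι
  have hmodel := isUnivThickening_iso_comp _ _ _
    (Groth.Agent.Lib.T2H3.FONbhd.isUnivThickening_subscheme_open iU.coborderRange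
      iU.liftCoborder.ker hI) (asIso iU.liftCoborder.toImage)
  have e1 : (asIso iU.liftCoborder.toImage).hom ≫ iU.liftCoborder.ker.subschemeι ≫
      iU.coborderRange.ι = iU := by rw [← Category.assoc, he, hc]
  rw [e1] at hmodel
  obtain ⟨i', hi'⟩ : ∃ i', i' = (asIso iU.liftCoborder.toImage).hom ≫
    Scheme.IdealSheafData.inclusion hI := ⟨_, rfl⟩
  obtain ⟨f₁, hf₁⟩ : ∃ f₁, f₁ = (iU.liftCoborder.ker ^ 2).subschemeι := ⟨_, rfl⟩
  rw [← hi', ← hf₁] at hmodel
  haveI : IsClosedImmersion i' := hmodel.1.1.1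
  haveI : IsClosedImmersion l := hu.1.1.1
  haveI : IsClosedImmersion f₁ := by rw [hf₁]; infer_instance
  have hfac : i' ≫ f₁ = iU.liftCoborder := by
    rw [hi', hf₁, Category.assoc, Scheme.IdealSheafData.inclusion_subschemeι, he]
  -- the comparison morphism `k`
  obtain ⟨k, ⟨hk₁, hk₂⟩, -⟩ := hu.2.2 U _ i' ((f₁ ≫ iU.coborderRange.ι) ≫ π) (𝟙 U) hmodel.1
    (by rw [← Category.assoc, hmodel.2.1, Category.id_comp])
  rw [Category.id_comp] at hk₁
  haveI : IsAffineHom k := isAffineHom_of_thickenings i' l k hk₁ hmodel.1.1.2.surj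
  -- the data for S9786
  have hd := isUniversal_dOmega k
  obtain ⟨φ, hφ⟩ := Groth.Agent.Helper18Grp.exists_conormalDiff i' k (OmegaSh.dOmega k)
  obtain ⟨ψ, hψ, -, -⟩ := exists_conormalMap i' l k (𝟙 U) (by rw [Category.id_comp, hk₁])
  have hp : MoreMor.IsFormallySmoothHom π := ((Groth.Agent.S1488.result π).mp inferInstance).2
  obtain ⟨w, hse, hsplit⟩ := Groth.Agent.S9786.result iU π hp i' (f₁ ≫ iU.coborderRange.ι) hmodel
    l h'' hu k hk₁ hk₂ (Omega.sheaf k) (OmegaSh.dOmega k) hd ψ hψ φ hφ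
  -- the middle term is finite locally free
  have hN : FlatMod.IsFinLocFree (Omega.conormal i') := by
    have sq : IsPullback iU.liftCoborder (𝟙 U) iU.coborderRange.ι iU := by
      refine IsOpenImmersion.isPullback _ _ _ _ (by rw [Category.id_comp, hc]) ?_
      rw [Scheme.Opens.opensRange_ι, Scheme.Hom.opensRange_of_isIso]
      apply le_antisymm le_top
      intro u _
      exact subset_coborder ⟨u, rfl⟩
    have hregc : RegImm.IsRegularImmersion .koszul iU.liftCoborder :=
      Groth.Agent.Lib.T2H9.RegImmBC.isRegularImmersion_of_isPullback sq .koszul hreg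
    refine isFinLocFree_conormal_model iU.liftCoborder hregc iU.liftCoborder rfl i' f₁ hfac ?_
    rw [hfac, hf₁, Scheme.IdealSheafData.ker_subschemeι]
  -- conclude by the local retractions
  apply isFinLocFree_of_forall_lfAt
  intro z
  obtain ⟨V, r, hzV, hr⟩ := hsplit z
  have h1 : LFAt (Omega.conormal i') (V.ι ⟨z, hzV⟩) := lfAt_of_isFinLocFree hN _
  have h2 := LFAt.restrict V.ι ⟨z, hzV⟩ h1
  have h3 := lfAt_of_retract _ r hr h2
  have h4 := LFAt.of_restrict V.ι ⟨z, hzV⟩ h3
  exact h4.of_iso ((Scheme.Modules.pullbackId U).app (Omega.conormal l))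

end core

section main
variable {X Y X' : Scheme.{u}} (f : X ⟶ Y) (hf : ∀ x : X, Synt.IsKoszulAt f x) [FormallyUnramified f]
  (i : X ⟶ X') (h' : X' ⟶ Y) (hu : OmegaSh.IsUnivThickening f i h')

include hf hu in
/-- **S9772**: the conormal sheaf of a formally unramified local complete intersection morphism is
finite locally free. -/
theorem main_S9772 : FlatMod.IsFinLocFree (Omega.conormal i) := by
  haveI : IsClosedImmersion i := hu.1.1.1
  apply isFinLocFree_of_forall_lfAt
  intro x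
  obtain ⟨U, P, iU, π, hxU, -, hreg, hsm, hfac⟩ := hf x
  haveI := hsm
  -- the restriction of the universal thickening to `U`
  have hhomeo := isHomeomorph_of_isUnivThickening hu
  let W' : X'.Opens := ⟨i '' (U : Set X), hhomeo.isOpenMap _ U.isOpen⟩
  have hW' : i ⁻¹ᵁ W' = U.ι.opensRange := by
    rw [Scheme.Opens.opensRange_ι]
    ext y
    constructor
    · rintro ⟨y', hy', hyy'⟩
      rwa [← hhomeo.injective hyy']
    · intro hy
      exact ⟨y, hy, rfl⟩
  have hrange : Set.range (U.ι ≫ i) ⊆ Set.range W'.ι := by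
    rintro _ ⟨y, rfl⟩
    rw [Scheme.Opens.range_ι]
    exact ⟨U.ι y, y.2, rfl⟩
  let l : (U : Scheme.{u}) ⟶ W'.toScheme := IsOpenImmersion.lift W'.ι (U.ι ≫ i) hrange
  have hl : l ≫ W'.ι = U.ι ≫ i := IsOpenImmersion.lift_fac _ _ _
  have hul := isUnivThickening_restrict hu U.ι W' hW' l hl
  rw [← hfac] at hul
  haveI : FormallyUnramified (iU ≫ π) := by
    rw [hfac]
    exact MorphismProperty.comp_mem (W := @FormallyUnramified) _ _ inferInstance inferInstance
  have hcore := isFinLocFree_conormal_core iU π hreg l (W'.ι ≫ h') hul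
  -- compare with the restriction of the conormal sheaf
  haveI : IsClosedImmersion l := hul.1.1.1
  have sq : IsPullback l U.ι W'.ι i :=
    IsOpenImmersion.isPullback l U.ι W'.ι i hl.symm (by rw [Scheme.Opens.opensRange_ι, hW'])
  obtain ⟨α, hα, -, -⟩ := exists_conormalMap l i W'.ι U.ι hl.symm
  haveI : IsIso α := (main_S9372 l i W'.ι U.ι sq α hα).2 inferInstance
  have h1 : LFAt (Omega.conormal l) ⟨x, hxU⟩ := lfAt_of_isFinLocFree hcore _
  have h2 : LFAt ((Scheme.Modules.pullback U.ι).obj (Omega.conormal i)) ⟨x, hxU⟩ :=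
    h1.of_iso (asIso α).symm
  have h3 : LFAt ((Omega.conormal i).restrict U.ι) ⟨x, hxU⟩ :=
    h2.of_iso ((Scheme.Modules.restrictFunctorIsoPullback U.ι).app _).symm
  exact LFAt.of_restrict U.ι ⟨x, hxU⟩ h3

end main

end Groth.Agent.Lib.T2H3.LciConormal
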