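import Mathlib
import Groth.Prelude.Def_LieS

/-!
# Lie algebra of a centraliser: commuting with all points iff Ad-invariant (S8370)
-/

set_option autoImplicit false
set_option linter.style.haveILetI false
set_option linter.unusedSectionVars false
universe u

open CategoryTheory MonObj AlgebraicGeometry LieS

namespace Groth.Agent.Lib.T2H3.LieCent

section Rings

variable {B C : Type u} [CommRing B] [CommRing C]

lemma dual_decomp (x : DualNumber B) :
    x = algebraMap B (DualNumber B) x.fst + algebraMap B (DualNumber B) x.snd * DualNumber.eps := by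
  apply TrivSqZeroExt.ext <;> simp [TrivSqZeroExt.algebraMap_eq_inl']

lemma ringHom_dual_apply (ρ : DualNumber B →+* C) (x : DualNumber B) :
    ρ x = ρ (algebraMap B (DualNumber B) x.fst) +
      ρ (algebraMap B (DualNumber B) x.snd) * ρ DualNumber.eps := by
  conv_lhs => rw [dual_decomp x]
  rw [map_add, map_mul]

lemma eps_map_sq (ρ : DualNumber B →+* C) : ρ DualNumber.eps * ρ DualNumber.eps = 0 := by
  rw [← map_mul, eps_sq, map_zero]

/-- `C[ε] → C`, `ε ↦ c`. -/
noncomputable def evHom (c : C) (hc : c * c = 0) : DualNumber C →+* C :=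
  dualHom (RingHom.id C) c hc

lemma evHom_comp_algebraMap (c : C) (hc : c * c = 0) :
    (evHom c hc).comp (algebraMap C (DualNumber C)) = RingHom.id C :=
  dualHom_comp_algebraMap _ _ _

lemma evHom_comp_bcHom (ρ : DualNumber B →+* C) :
    (evHom (ρ DualNumber.eps) (eps_map_sq ρ)).comp
      (bcHom (ρ.comp (algebraMap B (DualNumber B)))) = ρ := by
  apply RingHom.ext
  intro x
  rw [ringHom_dual_apply ρ x]
  simp [evHom, bcHom, TrivSqZeroExt.algebraMap_eq_inl']

end Rings

section Affine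

variable {S : Scheme.{u}} {G K : Over S} [GrpObj G] [GrpObj K] (i : K ⟶ G)
  {B : Type u} [CommRing B] (f : Spec (CommRingCat.of B) ⟶ S) (x : LieS.Lie G B f)

/-- the structure morphism of the affine test scheme attached to `ρ : B[ε] → C`. -/
noncomputable abbrev fC {C : Type u} [CommRing C] (ρ : DualNumber B →+* C) :
    Spec (CommRingCat.of C) ⟶ S :=
  Spec.map (CommRingCat.ofHom (ρ.comp (algebraMap B (DualNumber B)))) ≫ f

/-- the point of `I_T` with values in `Spec C` attached to `ρ`. -/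
noncomputable def yOf {C : Type u} [CommRing C] (ρ : DualNumber B →+* C) :
    LieS.pt C (fC f ρ) ⟶ LieS.dpt B f :=
  Over.homMk (Spec.map (CommRingCat.ofHom ρ)) (by
    change Spec.map _ ≫ Spec.map _ ≫ f = Spec.map _ ≫ f
    rw [← Category.assoc, specMap_comp])

/-- `Spec C → Spec C[ε]` given by `ε ↦ ρ ε`. -/
noncomputable def eOf {C : Type u} [CommRing C] (ρ : DualNumber B →+* C) :
    LieS.pt C (fC f ρ) ⟶ LieS.dpt C (fC f ρ) :=
  Over.homMk (Spec.map (CommRingCat.ofHom (evHom (ρ DualNumber.eps) (eps_map_sq ρ)))) (by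
    change Spec.map _ ≫ Spec.map _ ≫ fC f ρ = fC f ρ
    rw [← Category.assoc, specMap_comp, evHom_comp_algebraMap, CommRingCat.ofHom_id]
    erw [Spec.map_id]
    exact Category.id_comp _)

lemma eOf_dptMap {C : Type u} [CommRing C] (ρ : DualNumber B →+* C) :
    eOf f ρ ≫ dptMap f (ρ.comp (algebraMap B (DualNumber B))) = yOf f ρ := by
  ext
  change Spec.map _ ≫ Spec.map _ = Spec.map _
  rw [specMap_comp, evHom_comp_bcHom]

lemma eOf_proj {C : Type u} [CommRing C] (ρ : DualNumber B →+* C) :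
    eOf f ρ ≫ proj C (fC f ρ) = 𝟙 _ := by
  ext
  change Spec.map _ ≫ Spec.map _ = 𝟙 _
  rw [specMap_comp, evHom_comp_algebraMap, CommRingCat.ofHom_id]
  erw [Spec.map_id]

lemma pull_val {B' : Type u} [CommRing B'] (h : B →+* B') :
    (LieS.pull G f h x).1 = dptMap f h ≫ x.1 := rfl

lemma Ad_val {B' : Type u} [CommRing B'] (f' : Spec (CommRingCat.of B') ⟶ S)
    (g : LieS.pt B' f' ⟶ G) (v : LieS.Lie G B' f') :
    (LieS.Ad G B' f' g v).1 = (proj B' f' ≫ g) * v.1 * (proj B' f' ≫ g)⁻¹ := rfl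

/-- the affine case of the implication `Ad`-invariant ⟹ commuting. -/
theorem comm_affine
    (H2 : ∀ (B' : Type u) [CommRing B'] (h : B →+* B')
      (k : LieS.pt B' (Spec.map (CommRingCat.ofHom h) ≫ f) ⟶ K),
      LieS.Ad G B' (Spec.map (CommRingCat.ofHom h) ≫ f) (k ≫ i) (LieS.pull G f h x) =
        LieS.pull G f h x)
    {C : Type u} [CommRing C] (ρ : DualNumber B →+* C) (k : LieS.pt C (fC f ρ) ⟶ K) :
    (yOf f ρ ≫ x.1) * (k ≫ i) = (k ≫ i) * (yOf f ρ ≫ x.1) := by
  set h0 : B →+* C := ρ.comp (algebraMap B (DualNumber B)) with hh0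
  set x' : LieS.dpt C (fC f ρ) ⟶ G := dptMap f h0 ≫ x.1 with hx'
  set g : LieS.dpt C (fC f ρ) ⟶ G := proj C (fC f ρ) ≫ (k ≫ i) with hg
  have hcomm : g * x' = x' * g := by
    have h := congrArg Subtype.val (H2 C h0 k)
    rw [Ad_val, pull_val] at h
    change g * x' * g⁻¹ = x' at h
    calc g * x' = g * x' * g⁻¹ * g := by rw [inv_mul_cancel_right]
      _ = x' * g := by rw [h]
  have h1 : yOf f ρ ≫ x.1 = eOf f ρ ≫ x' := by
    rw [hx', ← Category.assoc, eOf_dptMap]
  have h2 : k ≫ i = eOf f ρ ≫ g := by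
    rw [hg, ← Category.assoc, eOf_proj, Category.id_comp]
  rw [h1, h2, ← MonObj.comp_mul, ← MonObj.comp_mul, hcomm]

end Affine

section Main

variable {S : Scheme.{u}} {G K : Over S} [GrpObj G] [GrpObj K] (i : K ⟶ G)
  {B : Type u} [CommRing B] (f : Spec (CommRingCat.of B) ⟶ S) (x : LieS.Lie G B f)

theorem comm_of_ad
    (H2 : ∀ (B' : Type u) [CommRing B'] (h : B →+* B')
      (k : LieS.pt B' (Spec.map (CommRingCat.ofHom h) ≫ f) ⟶ K),
      LieS.Ad G B' (Spec.map (CommRingCat.ofHom h) ≫ f) (k ≫ i) (LieS.pull G f h x) =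
        LieS.pull G f h x)
    (X' : Over S) (y : X' ⟶ LieS.dpt B f) (h : X' ⟶ K) :
    (y ≫ x.1) * (h ≫ i) = (h ≫ i) * (y ≫ x.1) := by
  apply Over.OverMorphism.ext
  refine X'.left.affineOpenCover.openCover.hom_ext _ _ (fun j => ?_)
  set C : CommRingCat.{u} := X'.left.affineOpenCover.X j with hC
  set u : Spec C ⟶ X'.left := X'.left.affineOpenCover.f j with hu
  let ρ' : CommRingCat.of (DualNumber B) ⟶ C := Spec.preimage (u ≫ y.left)
  let ρ : DualNumber B →+* C := ρ'.hom
  have hρ : Spec.map (CommRingCat.ofHom ρ) = u ≫ y.left := Spec.map_preimage (u ≫ y.left)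
  have hw : u ≫ X'.hom = fC f ρ := by
    have hy : y.left ≫ (LieS.dpt B f).hom = X'.hom := Over.w y
    change u ≫ X'.hom = Spec.map _ ≫ f
    rw [← hy, ← Category.assoc, ← hρ]
    change Spec.map _ ≫ Spec.map _ ≫ f = _
    rw [← Category.assoc, specMap_comp]
  let ũ : LieS.pt C (fC f ρ) ⟶ X' := Over.homMk u hw
  have hũy : ũ ≫ y = yOf f ρ := by
    ext
    change u ≫ y.left = Spec.map _
    exact hρ.symm
  have key := comm_affine i f x H2 ρ (ũ ≫ h)
  rw [← hũy, Category.assoc, Category.assoc, ← MonObj.comp_mul, ← MonObj.comp_mul] at key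
  exact congrArg (fun k => k.left) key

theorem ad_of_comm
    (H1 : ∀ (X' : Over S) (y : X' ⟶ LieS.dpt B f) (h : X' ⟶ K),
      (y ≫ x.1) * (h ≫ i) = (h ≫ i) * (y ≫ x.1))
    (B' : Type u) [CommRing B'] (h : B →+* B')
    (k : LieS.pt B' (Spec.map (CommRingCat.ofHom h) ≫ f) ⟶ K) :
    LieS.Ad G B' (Spec.map (CommRingCat.ofHom h) ≫ f) (k ≫ i) (LieS.pull G f h x) =
      LieS.pull G f h x := by
  apply Subtype.ext
  rw [Ad_val, pull_val]
  have h1 := H1 _ (dptMap f h) (proj B' (Spec.map (CommRingCat.ofHom h) ≫ f) ≫ k)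
  rw [Category.assoc] at h1
  rw [← h1, mul_inv_cancel_right]

end Main

end Groth.Agent.Lib.T2H3.LieCent
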