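import Mathlib
import Groth.Prelude.Def_LieS
import Groth.Agent.Lib.T2H3LieCent

/-!
# Additivity of the rescaling action on tangent vectors of a monoid scheme

For a monoid scheme `X` over `S` and a point `v` of `X` with values in the dual numbers over
`T = Spec B` restricting to the unit along the zero section:
`scale (a + b) ≫ v = (scale a ≫ v) * (scale b ≫ v)`.
-/

set_option autoImplicit false
set_option linter.style.haveILetI false
set_option linter.unusedSectionVars false
universe u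

open CategoryTheory CategoryTheory.Limits MonObj AlgebraicGeometry LieS

namespace Groth.Agent.Lib.T2H3.LieAdd

open Groth.Agent.Lib.T2H3.LieCent

section Einj

/-- Two morphisms out of `Spec R` which agree on two closed subschemes `Spec R₁`, `Spec R₂`,
where `R → R₁` is surjective with nil kernel and `R → R₁ × R₂` is injective, are equal. -/
theorem hom_ext_of_two {X : Scheme.{u}} {R R₁ R₂ : Type u} [CommRing R] [CommRing R₁] [CommRing R₂]
    (p₁ : R →+* R₁) (p₂ : R →+* R₂) (hp₁ : Function.Surjective p₁)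
    (hk : RingHom.ker p₁ ≤ nilradical R)
    (hinj : ∀ r, p₁ r = 0 → p₂ r = 0 → r = 0)
    (a b : Spec (CommRingCat.of R) ⟶ X)
    (h₁ : Spec.map (CommRingCat.ofHom p₁) ≫ a = Spec.map (CommRingCat.ofHom p₁) ≫ b)
    (h₂ : Spec.map (CommRingCat.ofHom p₂) ≫ a = Spec.map (CommRingCat.ofHom p₂) ≫ b) :
    a = b := by
  let ie := equalizer.ι a b
  let l₁ := equalizer.lift (Spec.map (CommRingCat.ofHom p₁)) h₁
  let l₂ := equalizer.lift (Spec.map (CommRingCat.ofHom p₂)) h₂
  have hl₁ : l₁ ≫ ie = Spec.map (CommRingCat.ofHom p₁) := equalizer.lift_ι _ _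
  have hl₂ : l₂ ≫ ie = Spec.map (CommRingCat.ofHom p₂) := equalizer.lift_ι _ _
  have hsurj₁ : Function.Surjective (Spec.map (CommRingCat.ofHom p₁)) :=
    (PrimeSpectrum.isHomeomorph_comap p₁
      (fun x => ⟨1, Nat.one_pos, by rw [pow_one]; exact hp₁ x⟩) hk).surjective
  have hsurj : Function.Surjective ie := by
    intro z
    obtain ⟨z₁, hz₁⟩ := hsurj₁ z
    refine ⟨l₁ z₁, ?_⟩
    rw [← Scheme.Hom.comp_apply, hl₁]
    exact hz₁
  haveI : IsClosedImmersion ie := by
    apply IsClosedImmersion.of_isPreimmersion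
    rw [hsurj.range_eq]
    exact isClosed_univ
  have hinjie : Function.Injective ie.appTop := by
    rw [injective_iff_map_eq_zero]
    intro s hs
    have e₁ : (Spec.map (CommRingCat.ofHom p₁)).appTop s = 0 := by
      rw [← hl₁, Scheme.Hom.comp_appTop]
      change l₁.appTop (ie.appTop s) = 0
      rw [hs, map_zero]
    have e₂ : (Spec.map (CommRingCat.ofHom p₂)).appTop s = 0 := by
      rw [← hl₂, Scheme.Hom.comp_appTop]
      change l₂.appTop (ie.appTop s) = 0
      rw [hs, map_zero]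
    obtain ⟨r, rfl⟩ : ∃ r : R, (Scheme.ΓSpecIso (CommRingCat.of R)).inv r = s :=
      ⟨(Scheme.ΓSpecIso (CommRingCat.of R)).hom s,
        congrArg (fun k => k.hom s) (Scheme.ΓSpecIso (CommRingCat.of R)).hom_inv_id⟩
    have n₁ := Scheme.ΓSpecIso_inv_naturality (CommRingCat.ofHom p₁)
    have n₂ := Scheme.ΓSpecIso_inv_naturality (CommRingCat.ofHom p₂)
    have e₁' : (Scheme.ΓSpecIso (CommRingCat.of R₁)).inv (p₁ r) = 0 :=
      (congrArg (fun k => k.hom r) n₁).trans e₁
    have e₂' : (Scheme.ΓSpecIso (CommRingCat.of R₂)).inv (p₂ r) = 0 :=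
      (congrArg (fun k => k.hom r) n₂).trans e₂
    have i₁ : Function.Injective (Scheme.ΓSpecIso (CommRingCat.of R₁)).inv :=
      (ConcreteCategory.bijective_of_isIso _).1
    have i₂ : Function.Injective (Scheme.ΓSpecIso (CommRingCat.of R₂)).inv :=
      (ConcreteCategory.bijective_of_isIso _).1
    have z₁ : p₁ r = 0 := i₁ (e₁'.trans (map_zero _).symm)
    have z₂ : p₂ r = 0 := i₂ (e₂'.trans (map_zero _).symm)
    rw [hinj r z₁ z₂, map_zero]
  haveI : IsIso ie := IsClosedImmersion.isIso_of_injective_of_isAffine hinjie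
  haveI : Epi (equalizer.ι a b) := inferInstanceAs (Epi ie)
  exact eq_of_epi_equalizer

end Einj

section Rings

variable (B : Type u) [CommRing B]

/-- `B[ε₁, ε₂]/(ε₁², ε₂², ε₁ε₂)`. -/
abbrev B2 : Type u := TrivSqZeroExt B (B × B)

variable {B}

lemma dual_ringHom_ext {C : Type u} [CommRing C] (φ ψ : DualNumber B →+* C)
    (h₁ : φ.comp (algebraMap B (DualNumber B)) = ψ.comp (algebraMap B (DualNumber B)))
    (h₂ : φ DualNumber.eps = ψ DualNumber.eps) : φ = ψ := by
  apply RingHom.ext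
  intro x
  rw [ringHom_dual_apply φ x, ringHom_dual_apply ψ x, h₂]
  have e : ∀ b : B, φ (algebraMap B (DualNumber B) b) = ψ (algebraMap B (DualNumber B) b) :=
    fun b => congrArg (fun k => k b) h₁
  rw [e, e]

lemma inr_mul_self (m : B × B) :
    (TrivSqZeroExt.inr m : B2 B) * TrivSqZeroExt.inr m = 0 := TrivSqZeroExt.inr_mul_inr _ _ _

/-- `ε ↦ a ε₁ + b ε₂`. -/
noncomputable def sg (a b : B) : DualNumber B →+* B2 B :=
  dualHom (algebraMap B (B2 B)) (TrivSqZeroExt.inr (a, b)) (inr_mul_self _)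

variable (B) in
/-- `ε₂ ↦ 0`. -/
noncomputable def p₁ : B2 B →+* DualNumber B :=
  (TrivSqZeroExt.map (LinearMap.fst B B B)).toRingHom

variable (B) in
/-- `ε₁ ↦ 0`. -/
noncomputable def p₂ : B2 B →+* DualNumber B :=
  (TrivSqZeroExt.map (LinearMap.snd B B B)).toRingHom

variable (B) in
/-- `ε₁, ε₂ ↦ ε`. -/
noncomputable def dl : B2 B →+* DualNumber B :=
  (TrivSqZeroExt.map (LinearMap.fst B B B + LinearMap.snd B B B)).toRingHom

lemma sg_comp_algebraMap (a b : B) :
    (sg a b).comp (algebraMap B (DualNumber B)) = algebraMap B (B2 B) :=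
  dualHom_comp_algebraMap _ _ _

lemma sg_eps (a b : B) : sg a b DualNumber.eps = TrivSqZeroExt.inr (a, b) := by
  rw [sg, dualHom_apply, DualNumber.fst_eps, DualNumber.snd_eps, map_zero, map_one, zero_add,
    _root_.one_mul]

lemma p₁_comp_algebraMap : (p₁ B).comp (algebraMap B (B2 B)) = algebraMap B (DualNumber B) :=
  RingHom.ext fun b => (TrivSqZeroExt.map (LinearMap.fst B B B)).commutes b

lemma p₂_comp_algebraMap : (p₂ B).comp (algebraMap B (B2 B)) = algebraMap B (DualNumber B) :=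
  RingHom.ext fun b => (TrivSqZeroExt.map (LinearMap.snd B B B)).commutes b

lemma dl_comp_algebraMap : (dl B).comp (algebraMap B (B2 B)) = algebraMap B (DualNumber B) :=
  RingHom.ext fun b =>
    (TrivSqZeroExt.map (LinearMap.fst B B B + LinearMap.snd B B B)).commutes b

lemma scaleHom_eps (a : B) : scaleHom a DualNumber.eps = TrivSqZeroExt.inr a := by
  rw [scaleHom, dualHom_apply, DualNumber.fst_eps, DualNumber.snd_eps, map_zero, map_one,
    zero_add, _root_.one_mul, ← Algebra.smul_def, DualNumber.inr_eq_smul_eps]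

lemma p₁_comp_sg (a b : B) : (p₁ B).comp (sg a b) = scaleHom a := by
  apply dual_ringHom_ext
  · rw [RingHom.comp_assoc, sg_comp_algebraMap, p₁_comp_algebraMap, scaleHom_comp_algebraMap]
  · rw [RingHom.comp_apply, sg_eps, scaleHom_eps]
    simp [p₁]

lemma p₂_comp_sg (a b : B) : (p₂ B).comp (sg a b) = scaleHom b := by
  apply dual_ringHom_ext
  · rw [RingHom.comp_assoc, sg_comp_algebraMap, p₂_comp_algebraMap, scaleHom_comp_algebraMap]
  · rw [RingHom.comp_apply, sg_eps, scaleHom_eps]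
    simp [p₂]

lemma dl_comp_sg (a b : B) : (dl B).comp (sg a b) = scaleHom (a + b) := by
  apply dual_ringHom_ext
  · rw [RingHom.comp_assoc, sg_comp_algebraMap, dl_comp_algebraMap, scaleHom_comp_algebraMap]
  · rw [RingHom.comp_apply, sg_eps, scaleHom_eps]
    simp [dl]

lemma scaleHom_one : scaleHom (1 : B) = RingHom.id _ := by
  apply dual_ringHom_ext
  · rw [scaleHom_comp_algebraMap, RingHom.id_comp]
  · rw [scaleHom_eps]; rfl

lemma scaleHom_zero :
    scaleHom (0 : B) =
      (algebraMap B (DualNumber B)).comp (TrivSqZeroExt.fstHom B B B).toRingHom := by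
  apply dual_ringHom_ext
  · rw [scaleHom_comp_algebraMap, RingHom.comp_assoc, fstHom_comp_algebraMap, RingHom.comp_id]
  · rw [scaleHom_eps, TrivSqZeroExt.inr_zero, RingHom.comp_apply]
    change 0 = algebraMap B (DualNumber B) (TrivSqZeroExt.fst (DualNumber.eps : DualNumber B))
    rw [DualNumber.fst_eps, map_zero]

lemma p₁_surjective : Function.Surjective (p₁ B) := by
  intro x
  refine ⟨sg 1 0 x, ?_⟩
  have := congrArg (fun k => k x) (p₁_comp_sg (1 : B) 0)
  simpa [scaleHom_one] using this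

lemma ker_p₁_le : RingHom.ker (p₁ B) ≤ nilradical (B2 B) := by
  intro r hr
  rw [RingHom.mem_ker] at hr
  have h1 : r.fst = 0 := by
    have := congrArg TrivSqZeroExt.fst hr
    simpa [p₁] using this
  refine ⟨2, ?_⟩
  rw [pow_two]
  apply TrivSqZeroExt.ext <;> simp [h1]

lemma p_inj (r : B2 B) (h₁ : p₁ B r = 0) (h₂ : p₂ B r = 0) : r = 0 := by
  have a1 : r.fst = 0 := by
    have := congrArg TrivSqZeroExt.fst h₁
    simpa [p₁] using this
  have a2 : r.snd.1 = 0 := by
    have := congrArg TrivSqZeroExt.snd h₁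
    simpa [p₁] using this
  have a3 : r.snd.2 = 0 := by
    have := congrArg TrivSqZeroExt.snd h₂
    simpa [p₂] using this
  apply TrivSqZeroExt.ext
  · simpa using a1
  · exact Prod.ext (by simpa using a2) (by simpa using a3)

end Rings

section Schemes

variable {S : Scheme.{u}} {B : Type u} [CommRing B] (f : Spec (CommRingCat.of B) ⟶ S)

/-- `Spec C` over `S` for a ring `C` under `B`. -/
noncomputable abbrev ob {C : Type u} [CommRing C] (hC : B →+* C) : Over S :=
  Over.mk (Spec.map (CommRingCat.ofHom hC) ≫ f)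

/-- the morphism over `S` induced by a ring homomorphism under `B`. -/
noncomputable def ovMap {C C' : Type u} [CommRing C] [CommRing C'] (hC : B →+* C) (hC' : B →+* C')
    (φ : C →+* C') (hφ : φ.comp hC = hC') : ob f hC' ⟶ ob f hC :=
  Over.homMk (Spec.map (CommRingCat.ofHom φ)) (by
    change Spec.map _ ≫ Spec.map _ ≫ f = Spec.map _ ≫ f
    rw [← Category.assoc, specMap_comp, hφ])

lemma ovMap_left {C C' : Type u} [CommRing C] [CommRing C'] (hC : B →+* C) (hC' : B →+* C')
    (φ : C →+* C') (hφ : φ.comp hC = hC') :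
    (ovMap f hC hC' φ hφ).left = Spec.map (CommRingCat.ofHom φ) := rfl

lemma ovMap_comp {C C' C'' : Type u} [CommRing C] [CommRing C'] [CommRing C'']
    (hC : B →+* C) (hC' : B →+* C') (hC'' : B →+* C'')
    (φ : C →+* C') (hφ : φ.comp hC = hC') (ψ : C' →+* C'') (hψ : ψ.comp hC' = hC'') :
    ovMap f hC' hC'' ψ hψ ≫ ovMap f hC hC' φ hφ =
      ovMap f hC hC'' (ψ.comp φ) (by rw [RingHom.comp_assoc, hφ, hψ]) := by
  ext
  change Spec.map _ ≫ Spec.map _ = Spec.map _
  rw [specMap_comp]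

lemma ovMap_congr {C C' : Type u} [CommRing C] [CommRing C'] (hC : B →+* C) (hC' : B →+* C')
    (φ ψ : C →+* C') (hφ : φ.comp hC = hC') (h : φ = ψ) :
    ovMap f hC hC' φ hφ = ovMap f hC hC' ψ (h ▸ hφ) := by
  subst h; rfl

lemma ovMap_id {C : Type u} [CommRing C] (hC : B →+* C) :
    ovMap f hC hC (RingHom.id C) (RingHom.id_comp _) = 𝟙 _ := by
  ext
  change Spec.map _ = 𝟙 _
  rw [CommRingCat.ofHom_id]
  erw [Spec.map_id]

/-- the double dual-number scheme over `T`. -/
noncomputable abbrev d2 : Over S := ob f (algebraMap B (B2 B))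

lemma dpt_eq : LieS.dpt B f = ob f (algebraMap B (DualNumber B)) := rfl

lemma scale_eq (a : B) :
    LieS.scale B f a = ovMap f (algebraMap B (DualNumber B)) (algebraMap B (DualNumber B))
      (scaleHom a) (scaleHom_comp_algebraMap a) := rfl

/-- `ε ↦ a ε₁ + b ε₂` -/
noncomputable def sgM (a b : B) : d2 f ⟶ LieS.dpt B f :=
  ovMap f _ _ (sg a b) (sg_comp_algebraMap a b)

noncomputable def j₁ : LieS.dpt B f ⟶ d2 f := ovMap f _ _ (p₁ B) p₁_comp_algebraMap
noncomputable def j₂ : LieS.dpt B f ⟶ d2 f := ovMap f _ _ (p₂ B) p₂_comp_algebraMap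
noncomputable def dg : LieS.dpt B f ⟶ d2 f := ovMap f _ _ (dl B) dl_comp_algebraMap

lemma j₁_sgM (a b : B) : j₁ f ≫ sgM f a b = LieS.scale B f a := by
  ext
  change Spec.map _ ≫ Spec.map _ = Spec.map _
  rw [specMap_comp, p₁_comp_sg]

lemma j₂_sgM (a b : B) : j₂ f ≫ sgM f a b = LieS.scale B f b := by
  ext
  change Spec.map _ ≫ Spec.map _ = Spec.map _
  rw [specMap_comp, p₂_comp_sg]

lemma dg_sgM (a b : B) : dg f ≫ sgM f a b = LieS.scale B f (a + b) := by
  ext
  change Spec.map _ ≫ Spec.map _ = Spec.map _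
  rw [specMap_comp, dl_comp_sg]

lemma scale_one : LieS.scale B f 1 = 𝟙 _ := by
  rw [scale_eq]
  exact (ovMap_congr f _ _ _ _ _ scaleHom_one).trans (ovMap_id f _)

lemma scale_zero : LieS.scale B f 0 = LieS.proj B f ≫ LieS.zeroSec B f := by
  ext
  change Spec.map _ = Spec.map _ ≫ Spec.map _
  rw [specMap_comp, scaleHom_zero]

/-- two points of `X` over the double dual numbers agreeing along `ε₂ = 0` and `ε₁ = 0` agree. -/
theorem d2_hom_ext {X : Over S} (α β : d2 f ⟶ X)
    (h₁ : j₁ f ≫ α = j₁ f ≫ β) (h₂ : j₂ f ≫ α = j₂ f ≫ β) : α = β := by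
  apply Over.OverMorphism.ext
  exact hom_ext_of_two (p₁ B) (p₂ B) p₁_surjective ker_p₁_le p_inj α.left β.left
    (congrArg (fun k => k.left) h₁) (congrArg (fun k => k.left) h₂)

variable {X : Over S} [MonObj X]

/-- **Additivity of rescaling** on points restricting to the unit along the zero section. -/
theorem scale_add (v : LieS.dpt B f ⟶ X) (hv : LieS.zeroSec B f ≫ v = 1) (a b : B) :
    LieS.scale B f (a + b) ≫ v = (LieS.scale B f a ≫ v) * (LieS.scale B f b ≫ v) := by
  have h0 : LieS.scale B f 0 ≫ v = 1 := by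
    rw [scale_zero, Category.assoc, hv, MonObj.comp_one]
  have key : sgM f a b ≫ v = (sgM f a 0 ≫ v) * (sgM f 0 b ≫ v) := by
    apply d2_hom_ext
    · rw [MonObj.comp_mul, ← Category.assoc, ← Category.assoc, ← Category.assoc, j₁_sgM, j₁_sgM,
        j₁_sgM, h0, _root_.mul_one]
    · rw [MonObj.comp_mul, ← Category.assoc, ← Category.assoc, ← Category.assoc, j₂_sgM, j₂_sgM,
        j₂_sgM, h0, _root_.one_mul]
  have this : dg f ≫ (sgM f a b ≫ v) = dg f ≫ ((sgM f a 0 ≫ v) * (sgM f 0 b ≫ v)) := by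
    rw [key]
  rw [MonObj.comp_mul, ← Category.assoc, ← Category.assoc, ← Category.assoc, dg_sgM, dg_sgM,
    dg_sgM, add_zero, zero_add] at this
  exact this

/-- a point restricting to the unit along the zero section is invertible. -/
theorem isUnit_of_zeroSec_eq_one (v : LieS.dpt B f ⟶ X) (hv : LieS.zeroSec B f ≫ v = 1) :
    IsUnit v := by
  have h0 : LieS.scale B f 0 ≫ v = 1 := by
    rw [scale_zero, Category.assoc, hv, MonObj.comp_one]
  have h1 : LieS.scale B f 1 ≫ v = v := by rw [scale_one, Category.id_comp]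
  rw [isUnit_iff_exists_and_exists]
  refine ⟨⟨LieS.scale B f (-1) ≫ v, ?_⟩, ⟨LieS.scale B f (-1) ≫ v, ?_⟩⟩
  · have := scale_add f v hv 1 (-1)
    rw [add_neg_cancel, h0, h1] at this
    exact this.symm
  · have := scale_add f v hv (-1) 1
    rw [neg_add_cancel, h0, h1] at this
    exact this.symm

/-- **S8365.** -/
theorem isUnit_iff (v : LieS.dpt B f ⟶ X) : IsUnit v ↔ IsUnit (LieS.zeroSec B f ≫ v) := by
  constructor
  · intro h
    rw [isUnit_iff_exists_and_exists] at h ⊢
    obtain ⟨⟨w, hw⟩, ⟨w', hw'⟩⟩ := h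
    refine ⟨⟨LieS.zeroSec B f ≫ w, ?_⟩, ⟨LieS.zeroSec B f ≫ w', ?_⟩⟩
    · rw [← MonObj.comp_mul, hw, MonObj.comp_one]
    · rw [← MonObj.comp_mul, hw', MonObj.comp_one]
  · intro h
    rw [isUnit_iff_exists_and_exists] at h
    obtain ⟨⟨w₀, hw₀⟩, ⟨w₀', hw₀'⟩⟩ := h
    -- `w₀ = w₀'`
    have hww : w₀' = w₀ := by
      calc w₀' = w₀' * ((LieS.zeroSec B f ≫ v) * w₀) := by rw [hw₀, _root_.mul_one]
        _ = (w₀' * (LieS.zeroSec B f ≫ v)) * w₀ := by rw [_root_.mul_assoc]
        _ = w₀ := by rw [hw₀', _root_.one_mul]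
    subst hww
    set w : LieS.dpt B f ⟶ X := LieS.proj B f ≫ w₀' with hw
    have hzw : LieS.zeroSec B f ≫ w = w₀' := by
      rw [hw, ← Category.assoc, zeroSec_proj, Category.id_comp]
    have u₁ : IsUnit (w * v) := by
      apply isUnit_of_zeroSec_eq_one
      rw [MonObj.comp_mul, hzw, hw₀']
    have u₂ : IsUnit (v * w) := by
      apply isUnit_of_zeroSec_eq_one
      rw [MonObj.comp_mul, hzw, hw₀]
    rw [isUnit_iff_exists_and_exists]
    obtain ⟨⟨a, ha⟩, -⟩ := isUnit_iff_exists_and_exists.mp u₂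
    obtain ⟨-, ⟨c, hc⟩⟩ := isUnit_iff_exists_and_exists.mp u₁
    refine ⟨⟨w * a, ?_⟩, ⟨c * w, ?_⟩⟩
    · rw [← _root_.mul_assoc, ha]
    · rw [_root_.mul_assoc, hc]

end Schemes

section Grp

variable {S : Scheme.{u}} {B : Type u} [CommRing B] (f : Spec (CommRingCat.of B) ⟶ S)
  {G : Over S} [GrpObj G]

/-- **S8357.** -/
theorem zpow_eq_smul (v : LieS.Lie G B f) (n : ℤ) :
    v ^ n = ((n : B) • v : LieS.Lie G B f) := by
  apply Subtype.ext
  rw [Subgroup.coe_zpow, LieS.smul_val]
  have hv : LieS.zeroSec B f ≫ v.1 = 1 := v.2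
  have h0 : LieS.scale B f 0 ≫ v.1 = 1 := by
    rw [scale_zero, Category.assoc, hv, MonObj.comp_one]
  have h1 : LieS.scale B f 1 ≫ v.1 = v.1 := by rw [scale_one, Category.id_comp]
  induction n using Int.induction_on with
  | zero => rw [zpow_zero, Int.cast_zero, h0]
  | succ k ih =>
    rw [zpow_add_one, ih, Int.cast_add, Int.cast_one, scale_add f v.1 hv, h1]
  | pred k ih =>
    rw [zpow_sub_one, ih]
    have := scale_add f v.1 hv (((-(k : ℤ) - 1 : ℤ)) : B) 1
    rw [h1] at this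
    have e : (((-(k : ℤ) - 1 : ℤ)) : B) + 1 = ((-(k : ℤ) : ℤ) : B) := by
      push_cast; ring
    rw [e] at this
    rw [this, mul_inv_cancel_right]

end Grp

end Groth.Agent.Lib.T2H3.LieAdd
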