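import Mathlib
import Groth.Agent.Lib.T2H6FinFP
import Groth.Agent.Lib.Helper6UniE
import Groth.Agent.Lib.Helper4FibDimG
import Groth.Agent.Lib.Helper6EquiSubE
import Groth.Agent.Lib.Helper7TopDim

/-!
# A bound on fibre dimensions extends to a finitely presented closed neighbourhood (helper6, team 2)
-/

set_option autoImplicit false
universe u

namespace Groth.Agent.Lib.T2H6.DimFP

open AlgebraicGeometry CategoryTheory TopologicalSpace Limits
open Groth.Agent.Lib.Helper22.FTIdeal Groth.Agent.Lib.T2H6.PropLim Groth.Agent.Lib.T2H6.FinFP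
open Groth.Agent.Lib.Helper4.FibDim

variable {X S : Scheme.{u}} (f : X ⟶ S)

theorem localDim_congr_pt (T : Set X) (x y : X) (h : x = y) (hx : x ∈ T) :
    FlatMor.localDim ↥(T ∩ f.base ⁻¹' {f.base x}) ⟨x, hx, rfl⟩ =
      FlatMor.localDim ↥(T ∩ f.base ⁻¹' {f.base y}) ⟨y, h ▸ hx, rfl⟩ := by
  subst h; rfl

theorem mem_support (K : X.IdealSheafData) (t : K.subscheme) :
    K.subschemeι.base t ∈ (K.support : Set X) := by
  rw [← K.range_subschemeι]; exact ⟨t, rfl⟩

/-- the fibre dimension of `V(K) ⟶ S` at a point, as a local dimension inside `X`. -/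
theorem fibreDimAt_subscheme (K : X.IdealSheafData) (t : K.subscheme) :
    FlatMor.fibreDimAt (K.subschemeι ≫ f) t =
      FlatMor.localDim ↥((K.support : Set X) ∩ f.base ⁻¹' {f.base (K.subschemeι.base t)})
        ⟨K.subschemeι.base t, mem_support K t, rfl⟩ :=
  (Groth.Agent.Lib.Helper6.Uni.localDim_range_inter_fibre f K.subschemeι (K.support : Set X)
    K.range_subschemeι t (mem_support K t)).symm

theorem fibreDimAt_mono {K K' : X.IdealSheafData} (t : K.subscheme) (t' : K'.subscheme)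
    (h : K.subschemeι.base t = K'.subschemeι.base t')
    (hsub : ∀ y, y ∈ (K'.support : Set X) → f.base y = f.base (K'.subschemeι.base t') →
      y ∈ (K.support : Set X)) :
    FlatMor.fibreDimAt (K'.subschemeι ≫ f) t' ≤ FlatMor.fibreDimAt (K.subschemeι ≫ f) t := by
  rw [fibreDimAt_subscheme, fibreDimAt_subscheme]
  rw [localDim_congr_pt f (K.support : Set X) _ _ h (mem_support K t)]
  have hsub' : (K'.support : Set X) ∩ f.base ⁻¹' {f.base (K'.subschemeι.base t')} ⊆
      (K.support : Set X) ∩ f.base ⁻¹' {f.base (K'.subschemeι.base t')} := by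
    rintro y ⟨hy1, hy2⟩
    exact ⟨hsub y hy1 hy2, hy2⟩
  exact Groth.Agent.Lib.Helper6.EquiSub.localDim_mono_subset hsub' (K'.subschemeι.base t')
    ⟨mem_support K' t', rfl⟩

theorem exists_ft_fibre_dim_le [LocallyOfFiniteType f] [QuasiCompact f] [CompactSpace X]
    [QuasiSeparatedSpace X] (d : ℕ) (I : X.IdealSheafData)
    (hI : ∀ t : I.subscheme, FlatMor.fibreDimAt (I.subschemeι ≫ f) t ≤ d) :
    ∃ J ∈ ftSub I, ∀ s : S, topologicalKrullDim ↥((J.subschemeι ≫ f).fiber s) ≤ d := by
  classical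
  let κ := {J : X.IdealSheafData // J ∈ ftSub I}
  haveI : Nonempty κ := ⟨⟨⊥, bot_mem_ftSub I⟩⟩
  have hsupp : (I.support : Set X) = ⋂ J : κ, (J.1.support : Set X) := by
    conv_lhs => rw [← sSup_ftSub I, Scheme.IdealSheafData.support_sSup]
    ext x
    simp [κ]
  have hdir : Directed (· ⊇ ·) (fun J : κ => (J.1.support : Set X)) := by
    intro a b
    refine ⟨⟨a.1 ⊔ b.1, sup_mem_ftSub a.2 b.2⟩, ?_, ?_⟩
    · exact Scheme.IdealSheafData.support_antitone (le_sup_left : a.1 ≤ a.1 ⊔ b.1)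
    · exact Scheme.IdealSheafData.support_antitone (le_sup_right : b.1 ≤ a.1 ⊔ b.1)
  let B : X.IdealSheafData → Set X := fun K =>
    K.subschemeι '' {t | ¬ FlatMor.fibreDimAt (K.subschemeι ≫ f) t ≤ d}
  have hBc : ∀ K, IsClosed (B K) := by
    intro K
    refine K.subschemeι.isClosedEmbedding.isClosedMap _ ?_
    rw [← isOpen_compl_iff]
    have := isOpen_setOf_fibreDimAt_le' (K.subschemeι ≫ f) (d : WithBot ℕ∞)
    convert this using 1
    ext t
    simp
  have hBmono : ∀ {K K' : X.IdealSheafData}, K ≤ K' → B K' ⊆ B K := by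
    rintro K K' hle _ ⟨t', ht', rfl⟩
    have hxK : K'.subschemeι t' ∈ (K.support : Set X) :=
      Scheme.IdealSheafData.support_antitone hle (mem_support K' t')
    rw [← K.range_subschemeι] at hxK
    obtain ⟨t, ht⟩ := hxK
    refine ⟨t, ?_, ht⟩
    intro hcon
    exact ht' ((fibreDimAt_mono f t t' ht
      (fun y hy _ => Scheme.IdealSheafData.support_antitone hle hy)).trans hcon)
  have hBdir : Directed (· ⊇ ·) (fun J : κ => B J.1) := by
    intro a b
    exact ⟨⟨a.1 ⊔ b.1, sup_mem_ftSub a.2 b.2⟩, hBmono le_sup_left, hBmono le_sup_right⟩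
  have hBempty : ⋂ J : κ, B J.1 = ∅ := by
    rw [Set.eq_empty_iff_forall_notMem]
    intro x hx
    have hxI : x ∈ (I.support : Set X) := by
      rw [hsupp]
      refine Set.mem_iInter.mpr fun J => ?_
      obtain ⟨t, -, rfl⟩ := Set.mem_iInter.mp hx J
      rw [← J.1.range_subschemeι]; exact ⟨t, rfl⟩
    rw [← I.range_subschemeι] at hxI
    obtain ⟨tI, rfl⟩ := hxI
    have hO : IsCompact (f ⁻¹' {f (I.subschemeι tI)} \ (I.support : Set X)) :=
      isCompact_of_subset_fiber f _ _ Set.sdiff_subset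
    obtain ⟨J, hJ⟩ := hO.elim_directed_family_closed (fun J : κ => (J.1.support : Set X))
      (fun J => J.1.support.isClosed)
      (by rw [← hsupp]; exact Set.sdiff_inter_self) hdir
    obtain ⟨tJ, htJ, htJx⟩ := Set.mem_iInter.mp hx J
    apply htJ
    refine (fibreDimAt_mono f tI tJ htJx.symm ?_).trans (hI tI)
    intro y hy1 hy2
    by_contra hyI
    have : y ∈ (f ⁻¹' {f (I.subschemeι tI)} \ (I.support : Set X)) ∩ (J.1.support : Set X) := by
      refine ⟨⟨?_, hyI⟩, hy1⟩
      show f y = f (I.subschemeι tI)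
      rw [← htJx]; exact hy2
    rw [hJ] at this
    exact this
  obtain ⟨J, hJ⟩ := (isCompact_univ (X := X)).elim_directed_family_closed (fun J : κ => B J.1)
    (fun J => hBc _) (by rw [hBempty, Set.inter_empty]) hBdir
  rw [Set.univ_inter] at hJ
  refine ⟨J.1, J.2, fun s => ?_⟩
  rw [Groth.Agent.Lib.Helper7.TopDim.topologicalKrullDim_eq_iSup_localDim]
  refine iSup_le fun y => ?_
  rw [localDim_fiber_eq, ← fibreDimAt_eq_fibLD]
  by_contra hcon
  have : J.1.subschemeι ((J.1.subschemeι ≫ f).fiberι s y) ∈ B J.1 := ⟨_, hcon, rfl⟩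
  rw [hJ] at this
  exact this

end Groth.Agent.Lib.T2H6.DimFP
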