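import Mathlib
import Groth.Agent.Lib.T2H3SubtrLimit
import Groth.Agent.Lib.T2H6DimFP
import Groth.Agent.Lib.Helper3LocDimBC
import Groth.Agent.S3398

/-!
# Fibre dimension bound for a limit of morphisms descends to a stage

Setting: diagrams `DX, DS : I ⥤ Scheme`, `φ : DX ⟶ DS`, limit cones `cX`, `cS`, with `DS` having
affine transition maps and `X_i ⟶ X_j ×_{S_j} S_i` closed immersions.
-/

set_option autoImplicit false
set_option linter.style.haveILetI false
universe u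
open CategoryTheory CategoryTheory.Limits AlgebraicGeometry Topology

namespace Groth.Agent.Lib.T2H3.LimFibDim

section topo
open Groth.Agent.Lib.Helper4.FibDim

/-- fibre dimension does not increase under restriction to an embedded subspace -/
lemma fibreDimAt_comp_le {Z X Y : Scheme.{u}} (j : Z ⟶ X) (hj : IsEmbedding j) (g : X ⟶ Y)
    (z : Z) : FlatMor.fibreDimAt (j ≫ g) z ≤ FlatMor.fibreDimAt g (j z) := by
  rw [fibreDimAt_eq_fibLD (j ≫ g) z, fibreDimAt_eq_fibLD g (j z)]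
  have h1 := Groth.Agent.Lib.Helper4.DimFormula.fibLD_comp_isEmbedding g j hj z
  refine (le_of_eq h1).trans ?_
  have h3 := Groth.Agent.Lib.Helper6.EquiSub.localDim_mono_subset
    (S := Set.range ⇑j ∩ ⇑g ⁻¹' {g (j z)}) (S' := ⇑g ⁻¹' {g (j z)}) Set.inter_subset_right (j z)
    ⟨⟨z, rfl⟩, rfl⟩
  exact h3

/-- comparison of fibre dimensions of two embedded subspaces -/
lemma fibreDimAt_le_of_range_subset {Z Z' X Y : Scheme.{u}} (j : Z ⟶ X) (hj : IsEmbedding j)
    (j' : Z' ⟶ X) (hj' : IsEmbedding j') (g : X ⟶ Y) (z : Z) (z' : Z') (hzz : j z = j' z')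
    (hsub : Set.range j ∩ g ⁻¹' {g (j z)} ⊆ Set.range j') :
    FlatMor.fibreDimAt (j ≫ g) z ≤ FlatMor.fibreDimAt (j' ≫ g) z' := by
  rw [fibreDimAt_eq_fibLD (j ≫ g) z, fibreDimAt_eq_fibLD (j' ≫ g) z']
  have h1 := Groth.Agent.Lib.Helper4.DimFormula.fibLD_comp_isEmbedding g j hj z
  have h2 := Groth.Agent.Lib.Helper4.DimFormula.fibLD_comp_isEmbedding g j' hj' z'
  refine (le_of_eq h1).trans (le_trans ?_ (le_of_eq h2.symm))
  have hsub' : Set.range j ∩ g ⁻¹' {g (j z)} ⊆ Set.range j' ∩ g ⁻¹' {g (j' z')} := by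
    intro y hy
    refine ⟨hsub hy, ?_⟩
    rw [← hzz]
    exact hy.2
  have h3 := Groth.Agent.Lib.Helper6.EquiSub.localDim_mono_subset hsub' (j z) ⟨⟨z, rfl⟩, rfl⟩
  refine h3.trans (le_of_eq ?_)
  congr 1
  exact Subtype.ext hzz

end topo

section diagram

variable {I : Type u} [SmallCategory I]
    (DX DS : I ⥤ Scheme.{u}) (φ : DX ⟶ DS) (cX : Cone DX) (cS : Cone DS)
    (f : cX.pt ⟶ cS.pt) (hf : ∀ i, f ≫ cS.π.app i = cX.π.app i ≫ φ.app i)

/-- `X_j ×_{S_j} S`. -/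
noncomputable def obj' (j : I) : Scheme.{u} := pullback (φ.app j) (cS.π.app j)

/-- first projection -/
noncomputable def pr₁ (j : I) : obj' DX DS φ cS j ⟶ DX.obj j := pullback.fst _ _

/-- second projection -/
noncomputable def pr₂ (j : I) : obj' DX DS φ cS j ⟶ cS.pt := pullback.snd _ _

lemma pr_condition (j : I) : pr₁ DX DS φ cS j ≫ φ.app j = pr₂ DX DS φ cS j ≫ cS.π.app j :=
  pullback.condition

lemma isPullback_pr (j : I) :
    IsPullback (pr₁ DX DS φ cS j) (pr₂ DX DS φ cS j) (φ.app j) (cS.π.app j) :=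
  IsPullback.of_hasPullback _ _

/-- lift -/
noncomputable def lift' {T : Scheme.{u}} (j : I) (a : T ⟶ DX.obj j) (b : T ⟶ cS.pt)
    (h : a ≫ φ.app j = b ≫ cS.π.app j) : T ⟶ obj' DX DS φ cS j := pullback.lift a b h

@[reassoc (attr := simp)]
lemma lift'_pr₁ {T : Scheme.{u}} (j : I) (a : T ⟶ DX.obj j) (b : T ⟶ cS.pt)
    (h : a ≫ φ.app j = b ≫ cS.π.app j) : lift' DX DS φ cS j a b h ≫ pr₁ DX DS φ cS j = a :=
  pullback.lift_fst _ _ _

@[reassoc (attr := simp)]
lemma lift'_pr₂ {T : Scheme.{u}} (j : I) (a : T ⟶ DX.obj j) (b : T ⟶ cS.pt)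
    (h : a ≫ φ.app j = b ≫ cS.π.app j) : lift' DX DS φ cS j a b h ≫ pr₂ DX DS φ cS j = b :=
  pullback.lift_snd _ _ _

lemma hom_ext' {T : Scheme.{u}} {j : I} {a b : T ⟶ obj' DX DS φ cS j}
    (h₁ : a ≫ pr₁ DX DS φ cS j = b ≫ pr₁ DX DS φ cS j)
    (h₂ : a ≫ pr₂ DX DS φ cS j = b ≫ pr₂ DX DS φ cS j) : a = b :=
  pullback.hom_ext h₁ h₂

/-- transition map -/
noncomputable def map' {j k : I} (u : j ⟶ k) : obj' DX DS φ cS j ⟶ obj' DX DS φ cS k :=
  lift' DX DS φ cS k (pr₁ DX DS φ cS j ≫ DX.map u) (pr₂ DX DS φ cS j) (by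
    rw [Category.assoc, φ.naturality u, ← Category.assoc, pr_condition, Category.assoc, cS.w])

@[reassoc (attr := simp)]
lemma map'_pr₁ {j k : I} (u : j ⟶ k) :
    map' DX DS φ cS u ≫ pr₁ DX DS φ cS k = pr₁ DX DS φ cS j ≫ DX.map u := lift'_pr₁ _ _ _ _ _ _ _ _

@[reassoc (attr := simp)]
lemma map'_pr₂ {j k : I} (u : j ⟶ k) :
    map' DX DS φ cS u ≫ pr₂ DX DS φ cS k = pr₂ DX DS φ cS j := lift'_pr₂ _ _ _ _ _ _ _ _

/-- The diagram `j ↦ X_j ×_{S_j} S`. -/
noncomputable def D' : I ⥤ Scheme.{u} where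
  obj j := obj' DX DS φ cS j
  map u := map' DX DS φ cS u
  map_id j := by
    apply hom_ext' <;> simp
  map_comp u v := by
    apply hom_ext' <;> simp

/-- The map `X ⟶ X_j ×_{S_j} S`. -/
noncomputable def κ (j : I) : cX.pt ⟶ obj' DX DS φ cS j :=
  lift' DX DS φ cS j (cX.π.app j) f (hf j).symm

@[reassoc (attr := simp)]
lemma κ_pr₁ (j : I) : κ DX DS φ cX cS f hf j ≫ pr₁ DX DS φ cS j = cX.π.app j :=
  lift'_pr₁ _ _ _ _ _ _ _ _

@[reassoc (attr := simp)]
lemma κ_pr₂ (j : I) : κ DX DS φ cX cS f hf j ≫ pr₂ DX DS φ cS j = f :=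
  lift'_pr₂ _ _ _ _ _ _ _ _

@[reassoc (attr := simp)]
lemma κ_map {j k : I} (u : j ⟶ k) :
    κ DX DS φ cX cS f hf j ≫ map' DX DS φ cS u = κ DX DS φ cX cS f hf k := by
  apply hom_ext'
  · rw [Category.assoc, map'_pr₁, κ_pr₁_assoc, κ_pr₁, cX.w]
  · rw [Category.assoc, map'_pr₂, κ_pr₂, κ_pr₂]

/-- The cone with apex `X` over `j ↦ X_j ×_{S_j} S`. -/
noncomputable def c' : Cone (D' DX DS φ cS) where
  pt := cX.pt
  π :=
    { app := fun j => κ DX DS φ cX cS f hf j
      naturality := fun j k u => by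
        show 𝟙 _ ≫ _ = _ ≫ map' DX DS φ cS u
        rw [Category.id_comp, κ_map] }

section limit
variable [IsCofiltered I]

/-- component of a cone over `D'`, with its type unfolded -/
def tπ (t : Cone (D' DX DS φ cS)) (j : I) : t.pt ⟶ obj' DX DS φ cS j := t.π.app j

omit [IsCofiltered I] in
lemma tπ_map (t : Cone (D' DX DS φ cS)) {j k : I} (u : j ⟶ k) :
    tπ DX DS φ cS t j ≫ map' DX DS φ cS u = tπ DX DS φ cS t k := t.w u

lemma cone_pr₂_eq (t : Cone (D' DX DS φ cS)) (j k : I) :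
    tπ DX DS φ cS t j ≫ pr₂ DX DS φ cS j = tπ DX DS φ cS t k ≫ pr₂ DX DS φ cS k := by
  rw [← tπ_map DX DS φ cS t (IsCofiltered.minToLeft j k),
    ← tπ_map DX DS φ cS t (IsCofiltered.minToRight j k), Category.assoc, Category.assoc,
    map'_pr₂, map'_pr₂]

/-- The cone over `DX` induced by a cone over `D'`. -/
noncomputable def coneX (t : Cone (D' DX DS φ cS)) : Cone DX where
  pt := t.pt
  π :=
    { app := fun j => tπ DX DS φ cS t j ≫ pr₁ DX DS φ cS j
      naturality := fun j k u => by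
        show 𝟙 _ ≫ _ = _
        rw [Category.id_comp, ← tπ_map DX DS φ cS t u, Category.assoc, Category.assoc,
          map'_pr₁] }

/-- the lift to `X` -/
noncomputable def liftX (hX : IsLimit cX) (t : Cone (D' DX DS φ cS)) : t.pt ⟶ cX.pt :=
  hX.lift (coneX DX DS φ cS t)

omit [IsCofiltered I] in
lemma liftX_π (hX : IsLimit cX) (t : Cone (D' DX DS φ cS)) (j : I) :
    liftX DX DS φ cX cS hX t ≫ cX.π.app j = tπ DX DS φ cS t j ≫ pr₁ DX DS φ cS j :=
  hX.fac (coneX DX DS φ cS t) j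

lemma liftX_κ (hX : IsLimit cX) (hS : IsLimit cS) (t : Cone (D' DX DS φ cS)) (j : I) :
    liftX DX DS φ cX cS hX t ≫ κ DX DS φ cX cS f hf j = tπ DX DS φ cS t j := by
  apply hom_ext'
  · rw [Category.assoc, κ_pr₁, liftX_π]
  · rw [Category.assoc, κ_pr₂]
    apply hS.hom_ext
    intro k
    rw [Category.assoc, hf k, ← Category.assoc, liftX_π, Category.assoc, pr_condition,
      ← Category.assoc, cone_pr₂_eq DX DS φ cS t k j]

/-- `X = lim_j X_j ×_{S_j} S`. -/
noncomputable def isLimitC' (hX : IsLimit cX) (hS : IsLimit cS) :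
    IsLimit (c' DX DS φ cX cS f hf) where
  lift t := liftX DX DS φ cX cS hX t
  fac t j := liftX_κ DX DS φ cX cS f hf hX hS t j
  uniq t m hm := by
    let m' : t.pt ⟶ cX.pt := m
    have h1 : ∀ j, m' ≫ κ DX DS φ cX cS f hf j = tπ DX DS φ cS t j := hm
    show m' = hX.lift (coneX DX DS φ cS t)
    apply hX.uniq (coneX DX DS φ cS t) m'
    intro j
    show m' ≫ cX.π.app j = tπ DX DS φ cS t j ≫ pr₁ DX DS φ cS j
    rw [← h1 j, Category.assoc, κ_pr₁]

end limit

section closed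
variable (hcl : ∀ (i j : I) (a : i ⟶ j),
  IsClosedImmersion (pullback.lift (DX.map a) (φ.app i) (φ.naturality a)))

include hcl in
lemma isClosedImmersion_map' {j k : I} (u : j ⟶ k) : IsClosedImmersion (map' DX DS φ cS u) := by
  let h : DX.obj j ⟶ pullback (φ.app k) (DS.map u) :=
    pullback.lift (DX.map u) (φ.app j) (φ.naturality u)
  let r : obj' DX DS φ cS k ⟶ pullback (φ.app k) (DS.map u) :=
    pullback.lift (pr₁ DX DS φ cS k) (pr₂ DX DS φ cS k ≫ cS.π.app j)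
      (by rw [pr_condition, Category.assoc, cS.w])
  have hr1 : r ≫ pullback.fst (φ.app k) (DS.map u) = pr₁ DX DS φ cS k := pullback.lift_fst _ _ _
  have hr2 : r ≫ pullback.snd (φ.app k) (DS.map u) = pr₂ DX DS φ cS k ≫ cS.π.app j :=
    pullback.lift_snd _ _ _
  have hh1 : h ≫ pullback.fst (φ.app k) (DS.map u) = DX.map u := pullback.lift_fst _ _ _
  have hh2 : h ≫ pullback.snd (φ.app k) (DS.map u) = φ.app j := pullback.lift_snd _ _ _
  have hR : IsPullback (pr₂ DX DS φ cS k) r (cS.π.app j)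
      (pullback.snd (φ.app k) (DS.map u)) := by
    refine IsPullback.of_bot ?_ hr2.symm (IsPullback.of_hasPullback (φ.app k) (DS.map u)).flip
    rw [hr1, cS.w]
    exact (isPullback_pr DX DS φ cS k).flip
  have hL : IsPullback (map' DX DS φ cS u) (pr₁ DX DS φ cS j) r h := by
    refine IsPullback.of_right ?_ ?_ hR
    · rw [map'_pr₂, hh2]
      exact (isPullback_pr DX DS φ cS j).flip
    · apply pullback.hom_ext
      · rw [Category.assoc, hr1, map'_pr₁, Category.assoc, hh1]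
      · rw [Category.assoc, hr2, ← Category.assoc, map'_pr₂, Category.assoc, hh2, pr_condition]
  exact MorphismProperty.of_isPullback (P := @IsClosedImmersion) hL.flip (hcl j k u)

end closed

section embedding
variable [IsCofiltered I]
  (hcl : ∀ (i j : I) (a : i ⟶ j),
    IsClosedImmersion (pullback.lift (DX.map a) (φ.app i) (φ.naturality a)))
  (hX : IsLimit cX) (hS : IsLimit cS) (j₀ : I) (hterm : IsTerminal j₀)

/-- the closed immersion `X_i ×_{S_i} S ⟶ X_{j₀} ×_{S_{j₀}} S` -/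
noncomputable def ι (i : I) : obj' DX DS φ cS i ⟶ obj' DX DS φ cS j₀ :=
  map' DX DS φ cS (hterm.from i)

omit [IsCofiltered I] in
include hcl in
lemma isClosedImmersion_ι (i : I) : IsClosedImmersion (ι DX DS φ cS j₀ hterm i) :=
  isClosedImmersion_map' DX DS φ cS hcl _

omit [IsCofiltered I] in
lemma map'_ι {i k : I} (u : i ⟶ k) :
    map' DX DS φ cS u ≫ ι DX DS φ cS j₀ hterm k = ι DX DS φ cS j₀ hterm i := by
  have h1 := (D' DX DS φ cS).map_comp u (hterm.from k)
  have h2 : u ≫ hterm.from k = hterm.from i := hterm.hom_ext _ _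
  rw [h2] at h1
  exact h1.symm

omit [IsCofiltered I] in
lemma ι_self : ι DX DS φ cS j₀ hterm j₀ = 𝟙 _ := by
  have h1 := (D' DX DS φ cS).map_id j₀
  have h2 : hterm.from j₀ = 𝟙 j₀ := hterm.hom_ext _ _
  unfold ι
  rw [h2]
  exact h1

omit [IsCofiltered I] in
lemma κ_ι (i : I) :
    κ DX DS φ cX cS f hf i ≫ ι DX DS φ cS j₀ hterm i = κ DX DS φ cX cS f hf j₀ :=
  κ_map DX DS φ cX cS f hf _

include hcl hX hS hterm in
lemma injective_κ : Function.Injective (κ DX DS φ cX cS f hf j₀) := by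
  haveI : ∀ {i j} (u : i ⟶ j), IsAffineHom ((D' DX DS φ cS).map u) := fun u => by
    haveI := isClosedImmersion_map' DX DS φ cS hcl u
    show IsAffineHom (map' DX DS φ cS u)
    infer_instance
  intro x x' hxx
  apply Groth.Agent.Lib.T2H3.SubtrLimit.eq_of_forall_π_app_eq (D' DX DS φ cS)
    (c' DX DS φ cX cS f hf) (isLimitC' DX DS φ cX cS f hf hX hS)
  intro i
  show κ DX DS φ cX cS f hf i x = κ DX DS φ cX cS f hf i x'
  haveI := isClosedImmersion_ι DX DS φ cS hcl j₀ hterm i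
  apply (ι DX DS φ cS j₀ hterm i).isClosedEmbedding.injective
  have h1 := congrArg (fun q : cX.pt ⟶ obj' DX DS φ cS j₀ => q x) (κ_ι DX DS φ cX cS f hf j₀ hterm i)
  have h2 := congrArg (fun q : cX.pt ⟶ obj' DX DS φ cS j₀ => q x') (κ_ι DX DS φ cX cS f hf j₀ hterm i)
  exact h1.trans (hxx.trans h2.symm)

include hcl hX hS hterm in
lemma isInducing_κ : IsInducing (κ DX DS φ cX cS f hf j₀) := by
  haveI : ∀ {i j} (u : i ⟶ j), IsAffineHom ((D' DX DS φ cS).map u) := fun u => by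
    haveI := isClosedImmersion_map' DX DS φ cS hcl u
    show IsAffineHom (map' DX DS φ cS u)
    infer_instance
  refine ⟨le_antisymm (κ DX DS φ cX cS f hf j₀).continuous.le_induced ?_⟩
  intro U hU
  rw [@isOpen_iff_forall_mem_open _ (TopologicalSpace.induced _ _) U]
  intro x hxU
  obtain ⟨_, ⟨i, V, -, rfl⟩, hxV, hVU⟩ := TopologicalSpace.Opens.isBasis_iff_nbhd.mp
    (isBasis_preimage_isAffineOpen (D' DX DS φ cS) (c' DX DS φ cX cS f hf)
      (isLimitC' DX DS φ cX cS f hf hX hS))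
    (show x ∈ (⟨U, hU⟩ : cX.pt.Opens) from hxU)
  haveI := isClosedImmersion_ι DX DS φ cS hcl j₀ hterm i
  obtain ⟨W, hW, hWV⟩ := (ι DX DS φ cS j₀ hterm i).isClosedEmbedding.isInducing.isOpen_iff.mp
    V.isOpen
  have hmem : ∀ y' : obj' DX DS φ cS i, ι DX DS φ cS j₀ hterm i y' ∈ W ↔ y' ∈ V.1 :=
    fun y' => Set.ext_iff.mp hWV y'
  have hκι : ∀ y : cX.pt, ι DX DS φ cS j₀ hterm i (κ DX DS φ cX cS f hf i y) =
      κ DX DS φ cX cS f hf j₀ y := fun y =>
    congrArg (fun q : cX.pt ⟶ obj' DX DS φ cS j₀ => q y) (κ_ι DX DS φ cX cS f hf j₀ hterm i)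
  refine ⟨(κ DX DS φ cX cS f hf j₀) ⁻¹' W, ?_, ?_, ?_⟩
  · intro y hy
    apply hVU
    show κ DX DS φ cX cS f hf i y ∈ V.1
    apply (hmem _).mp
    rw [hκι]
    exact hy
  · exact isOpen_induced_iff.mpr ⟨W, hW, rfl⟩
  · show κ DX DS φ cX cS f hf j₀ x ∈ W
    rw [← hκι]
    exact (hmem _).mpr hxV

include hcl hX hS in
lemma mem_range_κ [CompactSpace (obj' DX DS φ cS j₀)] (z : obj' DX DS φ cS j₀)
    (hz : ∀ i, z ∈ Set.range (ι DX DS φ cS j₀ hterm i)) :
    z ∈ Set.range (κ DX DS φ cX cS f hf j₀) := by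
  haveI : ∀ {i j} (u : i ⟶ j), IsAffineHom ((D' DX DS φ cS).map u) := fun u => by
    haveI := isClosedImmersion_map' DX DS φ cS hcl u
    show IsAffineHom (map' DX DS φ cS u)
    infer_instance
  haveI : CompactSpace ((D' DX DS φ cS).obj j₀) := ‹CompactSpace (obj' DX DS φ cS j₀)›
  let E : ∀ i : I, Set ((D' DX DS φ cS).obj i) := fun i => (ι DX DS φ cS j₀ hterm i) ⁻¹' {z}
  have hE : ∀ i, ProCons.IsProConstructible (E i) := fun i =>
    Groth.Agent.Lib.Helper5.isProConstructible_preimage _ _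
      (Groth.Agent.Lib.Helper5.isProConstructible_singleton _ _)
  have hEm : ∀ (i k : I) (u : i ⟶ k), E i ⊆ ((D' DX DS φ cS).map u) ⁻¹' E k := by
    intro i k u y hy
    show ι DX DS φ cS j₀ hterm k (map' DX DS φ cS u y) = z
    have h1 := congrArg (fun q : obj' DX DS φ cS i ⟶ obj' DX DS φ cS j₀ => q y)
      (map'_ι DX DS φ cS j₀ hterm u)
    exact (show ι DX DS φ cS j₀ hterm k (map' DX DS φ cS u y) = ι DX DS φ cS j₀ hterm i y
      from h1).trans hy
  obtain ⟨x, hx⟩ := Groth.Agent.Lib.T2H3.SubtrLimit.exists_mem_iInter_of_nonempty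
    (D' DX DS φ cS) (c' DX DS φ cX cS f hf) (isLimitC' DX DS φ cX cS f hf hX hS) j₀ E hE hEm j₀
    (fun i _ => by
      obtain ⟨y, hy⟩ := hz i
      exact ⟨y, hy⟩)
  refine ⟨x, ?_⟩
  have h1 : ι DX DS φ cS j₀ hterm j₀ (κ DX DS φ cX cS f hf j₀ x) = z := hx j₀
  rw [ι_self] at h1
  exact h1

end embedding

section main
open Groth.Agent.Lib.Helper4.FibDim Groth.Agent.Lib.T2H6.FinFP
variable [IsCofiltered I]
  [∀ {i j} (a : i ⟶ j), IsAffineHom (DS.map a)] [∀ i, CompactSpace (DS.obj i)]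
  [∀ i, LocallyOfFiniteType (φ.app i)] [∀ i, QuasiCompact (φ.app i)]
  (hcl : ∀ (i j : I) (a : i ⟶ j),
    IsClosedImmersion (pullback.lift (DX.map a) (φ.app i) (φ.naturality a)))
  (hX : IsLimit cX) (hS : IsLimit cS) (j₀ : I) (hterm : IsTerminal j₀)

omit [IsCofiltered I] [∀ {i j} (a : i ⟶ j), IsAffineHom (DS.map a)]
  [∀ i, CompactSpace (DS.obj i)] [∀ i, QuasiCompact (φ.app i)] in
instance (i : I) : LocallyOfFiniteType (pr₂ DX DS φ cS i) :=
  MorphismProperty.pullback_snd (P := @LocallyOfFiniteType) _ _ inferInstance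

omit [IsCofiltered I] [∀ {i j} (a : i ⟶ j), IsAffineHom (DS.map a)]
  [∀ i, CompactSpace (DS.obj i)] [∀ i, LocallyOfFiniteType (φ.app i)] in
instance (i : I) : QuasiCompact (pr₂ DX DS φ cS i) :=
  MorphismProperty.pullback_snd (P := @QuasiCompact) _ _ inferInstance

include hf hcl hX hS hterm in
theorem exists_stage_pr₂ (d : ℕ) (hd : ∀ x : cX.pt, FlatMor.fibreDimAt f x ≤ d) :
    ∃ i : I, ∀ t : obj' DX DS φ cS i, FlatMor.fibreDimAt (pr₂ DX DS φ cS i) t ≤ d := by
  classical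
  haveI : Nonempty I := IsCofiltered.nonempty
  haveI : CompactSpace cS.pt := Scheme.compactSpace_of_isLimit DS cS hS
  haveI : CompactSpace (obj' DX DS φ cS j₀) :=
    QuasiCompact.compactSpace_of_compactSpace (pr₂ DX DS φ cS j₀)
  have hιp : ∀ i, ι DX DS φ cS j₀ hterm i ≫ pr₂ DX DS φ cS j₀ = pr₂ DX DS φ cS i :=
    fun i => map'_pr₂ DX DS φ cS _
  have hιcl : ∀ i, IsClosedImmersion (ι DX DS φ cS j₀ hterm i) :=
    isClosedImmersion_ι DX DS φ cS hcl j₀ hterm
  have hιemb : ∀ i, IsEmbedding (ι DX DS φ cS j₀ hterm i) := fun i =>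
    haveI := hιcl i
    (ι DX DS φ cS j₀ hterm i).isClosedEmbedding.isEmbedding
  have hκemb : IsEmbedding (κ DX DS φ cX cS f hf j₀) :=
    ⟨isInducing_κ DX DS φ cX cS f hf hcl hX hS j₀ hterm,
      injective_κ DX DS φ cX cS f hf hcl hX hS j₀ hterm⟩
  have hmapι : ∀ {i k : I} (u : i ⟶ k) (y : obj' DX DS φ cS i),
      ι DX DS φ cS j₀ hterm k (map' DX DS φ cS u y) = ι DX DS φ cS j₀ hterm i y := fun u y =>
    congrArg (fun q : obj' DX DS φ cS _ ⟶ obj' DX DS φ cS j₀ => q y)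
      (map'_ι DX DS φ cS j₀ hterm u)
  have hκι : ∀ (i : I) (y : cX.pt), ι DX DS φ cS j₀ hterm i (κ DX DS φ cX cS f hf i y) =
      κ DX DS φ cX cS f hf j₀ y := fun i y =>
    congrArg (fun q : cX.pt ⟶ obj' DX DS φ cS j₀ => q y) (κ_ι DX DS φ cX cS f hf j₀ hterm i)
  let B : I → Set (obj' DX DS φ cS j₀) := fun i =>
    (ι DX DS φ cS j₀ hterm i) '' {t | ¬ FlatMor.fibreDimAt (pr₂ DX DS φ cS i) t ≤ d}
  have hBc : ∀ i, IsClosed (B i) := by
    intro i
    haveI := hιcl i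
    refine (ι DX DS φ cS j₀ hterm i).isClosedEmbedding.isClosedMap _ ?_
    rw [← isOpen_compl_iff]
    have := isOpen_setOf_fibreDimAt_le' (pr₂ DX DS φ cS i) (d : WithBot ℕ∞)
    convert this using 1
    ext t
    simp
  have hBmono : ∀ {i k : I} (u : i ⟶ k), B i ⊆ B k := by
    rintro i k u _ ⟨t', ht', rfl⟩
    refine ⟨map' DX DS φ cS u t', ?_, hmapι u t'⟩
    intro hcon
    apply ht'
    haveI := isClosedImmersion_map' DX DS φ cS hcl u
    have h1 := fibreDimAt_comp_le (map' DX DS φ cS u)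
      (map' DX DS φ cS u).isClosedEmbedding.isEmbedding (pr₂ DX DS φ cS k) t'
    rw [map'_pr₂] at h1
    exact h1.trans hcon
  have hBdir : Directed (· ⊇ ·) B := fun i k =>
    ⟨IsCofiltered.min i k, hBmono (IsCofiltered.minToLeft i k),
      hBmono (IsCofiltered.minToRight i k)⟩
  have hrmono : ∀ {i k : I} (u : i ⟶ k), Set.range (ι DX DS φ cS j₀ hterm i) ⊆
      Set.range (ι DX DS φ cS j₀ hterm k) := by
    rintro i k u _ ⟨y, rfl⟩
    exact ⟨map' DX DS φ cS u y, hmapι u y⟩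
  have hrdir : Directed (· ⊇ ·) (fun i => Set.range (ι DX DS φ cS j₀ hterm i)) := fun i k =>
    ⟨IsCofiltered.min i k, hrmono (IsCofiltered.minToLeft i k),
      hrmono (IsCofiltered.minToRight i k)⟩
  have hrange : Set.range (κ DX DS φ cX cS f hf j₀) =
      ⋂ i, Set.range (ι DX DS φ cS j₀ hterm i) := by
    ext y
    constructor
    · rintro ⟨x', rfl⟩
      exact Set.mem_iInter.mpr fun i => ⟨κ DX DS φ cX cS f hf i x', hκι i x'⟩
    · intro hy
      exact mem_range_κ DX DS φ cX cS f hf hcl hX hS j₀ hterm y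
        (fun i => Set.mem_iInter.mp hy i)
  have hBempty : ⋂ i, B i = ∅ := by
    rw [Set.eq_empty_iff_forall_notMem]
    intro z hz
    have hzr : z ∈ Set.range (κ DX DS φ cX cS f hf j₀) := by
      rw [hrange]
      refine Set.mem_iInter.mpr fun i => ?_
      obtain ⟨t, -, rfl⟩ := Set.mem_iInter.mp hz i
      exact ⟨t, rfl⟩
    obtain ⟨x, rfl⟩ := hzr
    have hO : IsCompact ((pr₂ DX DS φ cS j₀) ⁻¹'
        {pr₂ DX DS φ cS j₀ (κ DX DS φ cX cS f hf j₀ x)} \
          Set.range (κ DX DS φ cX cS f hf j₀)) :=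
      isCompact_of_subset_fiber (pr₂ DX DS φ cS j₀) _ _ Set.sdiff_subset
    obtain ⟨i, hi⟩ := hO.elim_directed_family_closed
      (fun i => Set.range (ι DX DS φ cS j₀ hterm i))
      (fun i => haveI := hιcl i; (ι DX DS φ cS j₀ hterm i).isClosedEmbedding.isClosed_range)
      (by rw [← hrange]; exact Set.sdiff_inter_self) hrdir
    obtain ⟨t, ht, htx⟩ := Set.mem_iInter.mp hz i
    apply ht
    have h1 := fibreDimAt_le_of_range_subset (ι DX DS φ cS j₀ hterm i) (hιemb i)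
      (κ DX DS φ cX cS f hf j₀) hκemb (pr₂ DX DS φ cS j₀) t x htx (by
        rintro y ⟨hy1, hy2⟩
        by_contra hy3
        have : y ∈ ((pr₂ DX DS φ cS j₀) ⁻¹'
            {pr₂ DX DS φ cS j₀ (κ DX DS φ cX cS f hf j₀ x)} \
              Set.range (κ DX DS φ cX cS f hf j₀)) ∩ Set.range (ι DX DS φ cS j₀ hterm i) := by
          refine ⟨⟨?_, hy3⟩, hy1⟩
          show pr₂ DX DS φ cS j₀ y = pr₂ DX DS φ cS j₀ (κ DX DS φ cX cS f hf j₀ x)
          rw [← htx]
          exact hy2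
        rw [hi] at this
        exact this)
    rw [hιp i, κ_pr₂] at h1
    exact h1.trans (hd x)
  obtain ⟨i, hi⟩ := (isCompact_univ (X := obj' DX DS φ cS j₀)).elim_directed_family_closed B hBc
    (by rw [hBempty, Set.inter_empty]) hBdir
  rw [Set.univ_inter] at hi
  refine ⟨i, fun t => ?_⟩
  by_contra hcon
  have : ι DX DS φ cS j₀ hterm i t ∈ B i := ⟨t, hcon, rfl⟩
  rw [hi] at this
  exact this

end main

section descend
open Groth.Agent.Lib.Helper4.FibDim
variable [IsCofiltered I]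
  [∀ {i j} (a : i ⟶ j), IsAffineHom (DS.map a)] [∀ i, CompactSpace (DS.obj i)]
  [∀ i, LocallyOfFiniteType (φ.app i)] [∀ i, QuasiCompact (φ.app i)]
  (hcl : ∀ (i j : I) (a : i ⟶ j),
    IsClosedImmersion (pullback.lift (DX.map a) (φ.app i) (φ.naturality a)))
  (hS : IsLimit cS)

include hcl hS in
theorem exists_stage_of_pr₂ (d : ℕ) (i : I)
    (hi : ∀ t : obj' DX DS φ cS i, FlatMor.fibreDimAt (pr₂ DX DS φ cS i) t ≤ d) :
    ∃ (k : I) (_ : k ⟶ i), ∀ x : DX.obj k, FlatMor.fibreDimAt (φ.app k) x ≤ d := by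
  classical
  let E : Set (DX.obj i) := {x | ¬ FlatMor.fibreDimAt (φ.app i) x ≤ d}
  have hEc : IsClosed E := by
    rw [← isOpen_compl_iff]
    have := isOpen_setOf_fibreDimAt_le' (φ.app i) (d : WithBot ℕ∞)
    convert this using 1
    ext t
    simp [E]
  let G : Set (DS.obj i) := (φ.app i) '' E
  have hG : ProCons.IsProConstructible G :=
    Groth.Agent.S3398.result (φ.app i) E
      (Groth.Agent.Lib.T2H3.ProConsBasic.isProConstructible_of_isClosed hEc)
  have hGS : ∀ s : cS.pt, cS.π.app i s ∉ G := by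
    rintro s ⟨x, hxE, hxs⟩
    obtain ⟨t, ht1, ht2⟩ := Scheme.Pullback.exists_preimage_pullback (f := φ.app i)
      (g := cS.π.app i) x s hxs
    apply hxE
    have h1 := Groth.Agent.Lib.Helper3.LocDimBC.fibreDimAt_eq_of_isPullback (φ.app i)
      (cS.π.app i) (pr₁ DX DS φ cS i) (pr₂ DX DS φ cS i) (isPullback_pr DX DS φ cS i) t
    have h2 : pr₁ DX DS φ cS i t = x := ht1
    rw [h2] at h1
    rw [← h1]
    exact hi t
  -- limit argument over `Over i`
  let D₂ : Over i ⥤ Scheme.{u} := Over.forget i ⋙ DS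
  let c₂ : Cone D₂ := cS.whisker (Over.forget i)
  have hc₂ : IsLimit c₂ := (Functor.Initial.isLimitWhiskerEquiv (Over.forget i) cS).symm hS
  haveI : ∀ {a b : Over i} (u : a ⟶ b), IsAffineHom (D₂.map u) := fun u => by
    show IsAffineHom (DS.map u.left)
    infer_instance
  haveI : CompactSpace (D₂.obj (Over.mk (𝟙 i))) := by
    show CompactSpace (DS.obj i)
    infer_instance
  let E' : ∀ b : Over i, Set (D₂.obj b) := fun b => (DS.map b.hom) ⁻¹' G
  have hE' : ∀ b, ProCons.IsProConstructible (E' b) := fun b =>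
    Groth.Agent.Lib.Helper5.isProConstructible_preimage _ _ hG
  have hEm' : ∀ (a b : Over i) (u : a ⟶ b), E' a ⊆ (D₂.map u) ⁻¹' E' b := by
    intro a b u y hy
    show DS.map b.hom (DS.map u.left y) ∈ G
    have h1 : DS.map u.left ≫ DS.map b.hom = DS.map a.hom := by
      rw [← DS.map_comp, Over.w]
    have h2 := congrArg (fun q : DS.obj a.left ⟶ DS.obj i => q y) h1
    exact (show DS.map b.hom (DS.map u.left y) = DS.map a.hom y from h2) ▸ hy
  obtain ⟨b, hb⟩ : ∃ b : Over i, E' b = ∅ := by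
    by_contra H
    push Not at H
    obtain ⟨s, hs⟩ := Groth.Agent.Lib.T2H3.SubtrLimit.exists_mem_iInter_of_nonempty D₂ c₂ hc₂
      (Over.mk (𝟙 i)) E' hE' hEm' (Over.mk (𝟙 i)) (fun a _ => H a)
    have h1 : DS.map (𝟙 i) (cS.π.app i s) ∈ G := hs (Over.mk (𝟙 i))
    rw [DS.map_id] at h1
    exact hGS s h1
  refine ⟨b.left, b.hom, fun x => ?_⟩
  by_contra hcon
  haveI := hcl b.left i b.hom
  let h : DX.obj b.left ⟶ pullback (φ.app i) (DS.map b.hom) :=
    pullback.lift (DX.map b.hom) (φ.app b.left) (φ.naturality b.hom)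
  have hh1 : h ≫ pullback.fst (φ.app i) (DS.map b.hom) = DX.map b.hom := pullback.lift_fst _ _ _
  have hh2 : h ≫ pullback.snd (φ.app i) (DS.map b.hom) = φ.app b.left := pullback.lift_snd _ _ _
  have h3 := fibreDimAt_comp_le h h.isClosedEmbedding.isEmbedding
    (pullback.snd (φ.app i) (DS.map b.hom)) x
  rw [hh2] at h3
  have h4 := Groth.Agent.Lib.Helper3.LocDimBC.fibreDimAt_eq_of_isPullback (φ.app i)
    (DS.map b.hom) (pullback.fst (φ.app i) (DS.map b.hom)) (pullback.snd (φ.app i) (DS.map b.hom))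
    (IsPullback.of_hasPullback _ _) (h x)
  have h5 : pullback.fst (φ.app i) (DS.map b.hom) (h x) = DX.map b.hom x :=
    congrArg (fun q : DX.obj b.left ⟶ DX.obj i => q x) hh1
  rw [h5] at h4
  rw [h4] at h3
  have hxE : DX.map b.hom x ∈ E := fun hle => hcon (h3.trans hle)
  have hmem : φ.app b.left x ∈ E' b := by
    show DS.map b.hom (φ.app b.left x) ∈ G
    refine ⟨DX.map b.hom x, hxE, ?_⟩
    exact congrArg (fun q : DX.obj b.left ⟶ DS.obj i => q x) (φ.naturality b.hom)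
  rw [hb] at hmem
  exact hmem

end descend

section final
variable [IsCofiltered I]
  [∀ {i j} (a : i ⟶ j), IsAffineHom (DS.map a)] [∀ i, CompactSpace (DS.obj i)]
  [∀ i, LocallyOfFiniteType (φ.app i)] [∀ i, QuasiCompact (φ.app i)]
  (hcl : ∀ (i j : I) (a : i ⟶ j),
    IsClosedImmersion (pullback.lift (DX.map a) (φ.app i) (φ.naturality a)))
  (hX : IsLimit cX) (hS : IsLimit cS) (j₀ : I) (hterm : IsTerminal j₀)

include hf hcl hX hS hterm in
/-- If all fibres of `f = lim f_i` have dimension `≤ d`, so do all fibres of some `f_k`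
(index category with a terminal object). -/
theorem exists_stage (d : ℕ) (hd : ∀ x : cX.pt, FlatMor.fibreDimAt f x ≤ d) :
    ∃ k : I, ∀ x : DX.obj k, FlatMor.fibreDimAt (φ.app k) x ≤ d := by
  obtain ⟨i, hi⟩ := exists_stage_pr₂ DX DS φ cX cS f hf hcl hX hS j₀ hterm d hd
  obtain ⟨k, -, hk⟩ := exists_stage_of_pr₂ DX DS φ cS hcl hS d i hi
  exact ⟨k, hk⟩

end final

end diagram

end Groth.Agent.Lib.T2H3.LimFibDim
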