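import Groth.Agent.Lib.Helper8Fal
import Groth.Prelude.Def_DualLC

/-! Local cohomology with supports in a specialization-stable subset `T ⊆ Spec R`
(`Dual2.HT`): representatives, the long exact sequence, `H⁰`, vanishing on torsion modules. -/

set_option autoImplicit false
universe u
open CategoryTheory CategoryTheory.Limits Opposite

namespace Groth.Agent.Lib.T2H3.LCT

open Groth.Agent.Lib.Helper8.ExtLES

variable {R : Type u} [CommRing R] (T : Set (PrimeSpectrum R))

section Index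

instance subsingleton_hom (J₁ J₂ : Dual2.IdealsIn T) : Subsingleton (J₁ ⟶ J₂) :=
  ⟨fun _ _ => ObjectProperty.hom_ext _ (Subsingleton.elim _ _)⟩

/-- the morphism attached to an inclusion of ideals -/
def homLE {J₁ J₂ : Dual2.IdealsIn T} (h : J₁.obj ≤ J₂.obj) : J₁ ⟶ J₂ :=
  ObjectProperty.homMk (homOfLE h)

theorem le_of_hom {J₁ J₂ : Dual2.IdealsIn T} (f : J₁ ⟶ J₂) : J₁.obj ≤ J₂.obj :=
  leOfHom f.hom

/-- the infimum of two objects -/
def infIdx (J₁ J₂ : Dual2.IdealsIn T) : Dual2.IdealsIn T :=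
  ⟨J₁.obj ⊓ J₂.obj, by
    rw [PrimeSpectrum.zeroLocus_inf]
    exact Set.union_subset J₁.property J₂.property⟩

/-- the product of two objects -/
def mulIdx (J₁ J₂ : Dual2.IdealsIn T) : Dual2.IdealsIn T :=
  ⟨J₁.obj * J₂.obj, by
    rw [PrimeSpectrum.zeroLocus_mul]
    exact Set.union_subset J₁.property J₂.property⟩

/-- powers of an object -/
def powIdx (J : Dual2.IdealsIn T) (k : ℕ) (hk : 0 < k) : Dual2.IdealsIn T :=
  ⟨J.obj ^ k, by
    change PrimeSpectrum.zeroLocus ((J.obj ^ k : Ideal R) : Set R) ⊆ T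
    rw [PrimeSpectrum.zeroLocus_pow _ hk.ne']
    exact J.property⟩

/-- the unit ideal -/
def topIdx : Dual2.IdealsIn T :=
  ⟨⊤, by
    rw [Submodule.top_coe, PrimeSpectrum.zeroLocus_univ]
    exact Set.empty_subset _⟩

instance : IsCofiltered (Dual2.IdealsIn T) where
  nonempty := ⟨topIdx T⟩
  cone_objs J₁ J₂ := ⟨infIdx T J₁ J₂, homLE T inf_le_left, homLE T inf_le_right, trivial⟩
  cone_maps J₁ _ _ _ := ⟨J₁, 𝟙 _, Subsingleton.elim _ _⟩

end Index

variable (i : ℕ) (M : ModuleCat.{u} R)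

/-- The diagram defining local cohomology with supports in `T`. -/
noncomputable abbrev tDiagram : (Dual2.IdealsIn T)ᵒᵖ ⥤ ModuleCat.{u} R ⥤ ModuleCat.{u} R :=
  localCohomology.diagram (Dual2.idealsInDiagram T) i

instance : HasColimit (tDiagram T i) := localCohomology.hasColimitDiagram.{u, u} _ _

/-- local cohomology with supports in `T` as a functor -/
noncomputable abbrev HTf : ModuleCat.{u} R ⥤ ModuleCat.{u} R :=
  localCohomology.ofDiagram.{u, u} (Dual2.idealsInDiagram T) i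

example : HTf T i = colimit (tDiagram T i) := rfl

/-- `R ⧸ J` as an object. -/
noncomputable abbrev XJ (J : Dual2.IdealsIn T) : ModuleCat.{u} R := ModuleCat.of R (R ⧸ J.obj)

/-- The transition map `R ⧸ J' → R ⧸ J` for `J' ≤ J`. -/
noncomputable abbrev trJ {J J' : Dual2.IdealsIn T} (h : J'.obj ≤ J.obj) : XJ T J' ⟶ XJ T J :=
  ModuleCat.ofHom (Submodule.mapQ _ _ LinearMap.id h)

/-- The evaluated diagram. -/
noncomputable abbrev evalDiagram : (Dual2.IdealsIn T)ᵒᵖ ⥤ ModuleCat.{u} R :=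
  tDiagram T i ⋙ (evaluation _ _).obj M

noncomputable def evalCocone : Cocone (evalDiagram T i M) :=
  ((evaluation _ _).obj M).mapCocone (colimit.cocone (tDiagram T i))

noncomputable def evalIsColimit : IsColimit (evalCocone T i M) :=
  isColimitOfPreserves ((evaluation _ _).obj M) (colimit.isColimit (tDiagram T i))

example : (evalCocone T i M).pt = (HTf T i).obj M := rfl
example (J : Dual2.IdealsIn T) : (evalDiagram T i M).obj (op J) = E i (XJ T J) M := rfl

instance : PreservesColimitsOfShape (Dual2.IdealsIn T)ᵒᵖ (forget (ModuleCat.{u} R)) :=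
  PreservesFilteredColimitsOfSize.preserves_filtered_colimits (Dual2.IdealsIn T)ᵒᵖ

/-- The class map `Ext^i(R/J, M) ⟶ H^i_T(M)`. -/
noncomputable def cls (J : Dual2.IdealsIn T) : E i (XJ T J) M ⟶ (HTf T i).obj M :=
  (colimit.ι (tDiagram T i) (op J)).app M

theorem evalDiagram_map {J J' : Dual2.IdealsIn T} (h : J'.obj ≤ J.obj) :
    (evalDiagram T i M).map (homLE T h).op = Epre i (trJ T h) M := rfl

theorem cls_restrict {J J' : Dual2.IdealsIn T} (h : J'.obj ≤ J.obj) (x : E i (XJ T J) M) :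
    cls T i M J' (Epre i (trJ T h) M x) = cls T i M J x := by
  have := (evalCocone T i M).w (homLE T h).op
  have h2 := congrArg (fun φ => φ.hom x) this
  exact h2

theorem exists_rep (x : (HTf T i).obj M) :
    ∃ (J : Dual2.IdealsIn T) (y : E i (XJ T J) M), cls T i M J y = x := by
  obtain ⟨j, y, hy⟩ := Concrete.isColimit_exists_rep (evalDiagram T i M) (evalIsColimit T i M) x
  exact ⟨j.unop, y, hy⟩

theorem cls_eq_iff {J J' : Dual2.IdealsIn T} (x : E i (XJ T J) M) (y : E i (XJ T J') M) :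
    cls T i M J x = cls T i M J' y ↔
      ∃ (K : Dual2.IdealsIn T) (hk : K.obj ≤ J.obj) (hl : K.obj ≤ J'.obj),
        Epre i (trJ T hk) M x = Epre i (trJ T hl) M y := by
  constructor
  · intro h
    obtain ⟨m, a, b, hab⟩ := (Concrete.isColimit_rep_eq_iff_exists (C := ModuleCat.{u} R)
      (evalDiagram T i M) (i := op J) (j := op J') (evalIsColimit T i M) x y).mp h
    have hk : m.unop.obj ≤ J.obj := le_of_hom T a.unop
    have hl : m.unop.obj ≤ J'.obj := le_of_hom T b.unop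
    refine ⟨m.unop, hk, hl, ?_⟩
    have ha : a = (homLE T hk).op := Quiver.Hom.unop_inj (Subsingleton.elim _ _)
    have hb : b = (homLE T hl).op := Quiver.Hom.unop_inj (Subsingleton.elim _ _)
    rw [ha, hb] at hab
    exact hab
  · rintro ⟨K, hk, hl, h⟩
    rw [← cls_restrict T i M hk, ← cls_restrict T i M hl, h]

theorem cls_eq_zero_iff {J : Dual2.IdealsIn T} (x : E i (XJ T J) M) :
    cls T i M J x = 0 ↔ ∃ (K : Dual2.IdealsIn T) (hk : K.obj ≤ J.obj),
      Epre i (trJ T hk) M x = 0 := by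
  have h0 : (0 : (HTf T i).obj M) = cls T i M J 0 := (map_zero _).symm
  rw [h0, cls_eq_iff]
  constructor
  · rintro ⟨K, hk, _, h⟩
    exact ⟨K, hk, by rw [h, map_zero]⟩
  · rintro ⟨K, hk, h⟩
    exact ⟨K, hk, hk, by rw [h, map_zero]⟩

variable {M} in
theorem map_cls {N : ModuleCat.{u} R} (g : M ⟶ N) (J : Dual2.IdealsIn T) (x : E i (XJ T J) M) :
    (HTf T i).map g (cls T i M J x) = cls T i N J (Emap i (XJ T J) g x) := by
  have := (colimit.ι (tDiagram T i) (op J)).naturality g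
  have h2 := congrArg (fun ψ => ψ.hom x) this
  exact h2.symm

section LES

variable (S : ShortComplex (ModuleCat.{u} R)) (hS : S.ShortExact)

/-- The cocone used to define the connecting homomorphism. -/
noncomputable def δCocone : Cocone (evalDiagram T i S.X₃) where
  pt := (HTf T (i + 1)).obj S.X₁
  ι :=
    { app := fun j => extδ S hS (XJ T j.unop) i ≫ cls T (i + 1) S.X₁ j.unop
      naturality := by
        intro j j' a
        have hle : j'.unop.obj ≤ j.unop.obj := le_of_hom T a.unop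
        have ha : a = (homLE T hle).op := Quiver.Hom.unop_inj (Subsingleton.elim _ _)
        subst ha
        apply ModuleCat.hom_ext
        apply LinearMap.ext
        intro z
        change cls T (i + 1) S.X₁ j'.unop (extδ S hS (XJ T j'.unop) i
          (Epre i (trJ T hle) S.X₃ z)) = cls T (i + 1) S.X₁ j.unop
            (extδ S hS (XJ T j.unop) i z)
        rw [← extδ_naturality, cls_restrict] }

/-- The connecting homomorphism `H^i_T(S.X₃) ⟶ H^{i+1}_T(S.X₁)`. -/
noncomputable def Hδ : (HTf T i).obj S.X₃ ⟶ (HTf T (i + 1)).obj S.X₁ :=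
  (evalIsColimit T i S.X₃).desc (δCocone T i S hS)

theorem Hδ_cls (J : Dual2.IdealsIn T) (z : E i (XJ T J) S.X₃) :
    Hδ T i S hS (cls T i S.X₃ J z) = cls T (i + 1) S.X₁ J (extδ S hS (XJ T J) i z) := by
  have := (evalIsColimit T i S.X₃).fac (δCocone T i S hS) (op J)
  have h2 := congrArg (fun ψ => ψ.hom z) this
  exact h2

include hS in
theorem H_exact₂ (y : (HTf T i).obj S.X₂) (hy : (HTf T i).map S.g y = 0) :
    ∃ x : (HTf T i).obj S.X₁, (HTf T i).map S.f x = y := by
  obtain ⟨J, yk, rfl⟩ := exists_rep T i S.X₂ y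
  rw [map_cls, cls_eq_zero_iff] at hy
  obtain ⟨K, hk, hm⟩ := hy
  rw [Epre_Emap] at hm
  obtain ⟨xm, hxm⟩ := ext_exact₂ S hS i _ hm
  refine ⟨cls T i S.X₁ K xm, ?_⟩
  rw [map_cls, hxm, cls_restrict]

theorem H_exact₃ (z : (HTf T i).obj S.X₃) (hz : Hδ T i S hS z = 0) :
    ∃ y : (HTf T i).obj S.X₂, (HTf T i).map S.g y = z := by
  obtain ⟨J, zk, rfl⟩ := exists_rep T i S.X₃ z
  rw [Hδ_cls, cls_eq_zero_iff] at hz
  obtain ⟨K, hk, hm⟩ := hz
  rw [extδ_naturality] at hm
  obtain ⟨ym, hym⟩ := ext_exact₃ S hS _ i _ hm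
  refine ⟨cls T i S.X₂ K ym, ?_⟩
  rw [map_cls, hym, cls_restrict]

theorem H_exact₁ (x : (HTf T (i + 1)).obj S.X₁) (hx : (HTf T (i + 1)).map S.f x = 0) :
    ∃ z : (HTf T i).obj S.X₃, Hδ T i S hS z = x := by
  obtain ⟨J, xk, rfl⟩ := exists_rep T (i + 1) S.X₁ x
  rw [map_cls, cls_eq_zero_iff] at hx
  obtain ⟨K, hk, hm⟩ := hx
  rw [Epre_Emap] at hm
  obtain ⟨zm, hzm⟩ := ext_exact₁ S hS _ i _ hm
  refine ⟨cls T i S.X₃ K zm, ?_⟩
  rw [Hδ_cls]
  change cls T (i + 1) S.X₁ K (extδP S hS (ProjectiveResolution.of (XJ T K)) i zm) = _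
  rw [hzm, cls_restrict]

theorem Hδ_map_g (y : (HTf T i).obj S.X₂) : Hδ T i S hS ((HTf T i).map S.g y) = 0 := by
  obtain ⟨J, yk, rfl⟩ := exists_rep T i S.X₂ y
  rw [map_cls, Hδ_cls]
  change cls T (i + 1) S.X₁ J (extδP S hS (ProjectiveResolution.of (XJ T J)) i _) = _
  rw [extδP_Emap_g, map_zero]

end LES

end Groth.Agent.Lib.T2H3.LCT
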