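import Groth.Agent.Lib.T2H3LocCohT

/-! Local cohomology with supports in `T`: annihilation, `H⁰`, vanishing on torsion modules and
the finiteness criterion. -/

set_option autoImplicit false
universe u
open CategoryTheory CategoryTheory.Limits Opposite

namespace Groth.Agent.Lib.T2H3.LCT

open Groth.Agent.Lib.Helper8.ExtLES Groth.Agent.Lib.Helper8.LC

variable {R : Type u} [CommRing R] (T : Set (PrimeSpectrum R))

section Kill

theorem smul_E_eq_zero (n : ℕ) (J : Dual2.IdealsIn T) (M : ModuleCat.{u} R) (a : R)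
    (ha : a ∈ J.obj) (y : E n (XJ T J) M) : a • y = 0 := by
  have h0 : a • 𝟙 (XJ T J) = 0 := by
    apply ModuleCat.hom_ext
    apply LinearMap.ext
    intro x
    obtain ⟨r, rfl⟩ := Submodule.Quotient.mk_surjective _ x
    change a • (Submodule.Quotient.mk r : R ⧸ J.obj) = 0
    rw [← Submodule.Quotient.mk_smul, Submodule.Quotient.mk_eq_zero]
    exact Ideal.mul_mem_right _ _ ha
  have h1 := Epre_smul n (XJ T J) M a
  have h2 := Epre_smul n (XJ T J) M 0
  rw [h0] at h1
  rw [zero_smul] at h2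
  rw [h2] at h1
  have h3 := congrArg (fun φ => φ.hom y) h1
  have h4 : (0 : R) • y = a • y := h3
  rw [← h4, zero_smul]

/-- every class is annihilated by some ideal of the system -/
theorem exists_kills (i : ℕ) (M : ModuleCat.{u} R) (x : (HTf T i).obj M) :
    ∃ J : Dual2.IdealsIn T, ∀ a ∈ J.obj, a • x = 0 := by
  obtain ⟨J, y, rfl⟩ := exists_rep T i M x
  refine ⟨J, fun a ha => ?_⟩
  rw [← map_smul, smul_E_eq_zero T i J M a ha y, map_zero]

lemma colimit_map_smul' {J : Type u} [SmallCategory J]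
    (F : J ⥤ ModuleCat.{u} R ⥤ ModuleCat.{u} R) [HasColimit F]
    (M : ModuleCat.{u} R) (s : R) (h : ∀ j, (F.obj j).map (s • 𝟙 M) = s • 𝟙 _) :
    (colimit F).map (s • 𝟙 M) = s • 𝟙 _ := by
  have hc : IsColimit (((evaluation _ _).obj M).mapCocone (colimit.cocone F)) :=
    isColimitOfPreserves _ (colimit.isColimit F)
  apply hc.hom_ext
  intro j
  simp only [Functor.mapCocone_ι_app, evaluation_obj_map, colimit.cocone_ι]
  rw [← (colimit.ι F j).naturality, h, Linear.smul_comp, Linear.comp_smul, Category.id_comp]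
  congr 1

theorem HTf_map_smul (i : ℕ) (M : ModuleCat.{u} R) (t : R) :
    (HTf T i).map (t • 𝟙 M) = t • 𝟙 _ := by
  apply colimit_map_smul'
  intro j
  exact Groth.Agent.Lib.Helper16.LocCohLinear.ext_map_smul R _ _ i t

theorem HTf_map_lsmul (i : ℕ) (M : Type u) [AddCommGroup M] [Module R M] (x : R)
    (y : (HTf T i).obj (ModuleCat.of R M)) :
    (HTf T i).map (ModuleCat.ofHom (LinearMap.lsmul R M x)) y = x • y := by
  rw [ofHom_lsmul, HTf_map_smul]
  rfl

end Kill

section H0

variable (M : ModuleCat.{u} R)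

/-- evaluation at `1̄`. -/
noncomputable def evalOne (J : Dual2.IdealsIn T) : ModuleCat.of R (XJ T J ⟶ M) ⟶ M :=
  ModuleCat.ofHom
    { toFun := fun h => h.hom (Submodule.Quotient.mk 1)
      map_add' := fun _ _ => rfl
      map_smul' := fun _ _ => rfl }

/-- The cocone defining `Φ : H^0_T(M) → M`. -/
noncomputable def ΦCocone : Cocone (evalDiagram T 0 M) where
  pt := M
  ι :=
    { app := fun j => θinv M (XJ T j.unop) ≫ evalOne T M j.unop
      naturality := by
        intro j j' a
        have hle : j'.unop.obj ≤ j.unop.obj := le_of_hom T a.unop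
        have ha : a = (homLE T hle).op := Quiver.Hom.unop_inj (Subsingleton.elim _ _)
        subst ha
        apply ModuleCat.hom_ext
        apply LinearMap.ext
        intro z
        obtain ⟨h, rfl⟩ := (θ_bijective (XJ T j.unop) M).2 z
        change evalOne T M j'.unop (θinv M (XJ T j'.unop)
          (Epre 0 (trJ T hle) M (θ (XJ T j.unop) M h))) =
          evalOne T M j.unop (θinv M (XJ T j.unop) (θ (XJ T j.unop) M h))
        rw [Epre_θ, θinv_θ, θinv_θ]
        rfl }

noncomputable def Φ : (HTf T 0).obj M ⟶ M :=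
  (evalIsColimit T 0 M).desc (ΦCocone T M)

theorem Φ_cls (J : Dual2.IdealsIn T) (h : XJ T J ⟶ M) :
    Φ T M (cls T 0 M J (θ (XJ T J) M h)) = h.hom (Submodule.Quotient.mk 1) := by
  have := (evalIsColimit T 0 M).fac (ΦCocone T M) (op J)
  have h2 := congrArg (fun ψ => ψ.hom (θ (XJ T J) M h)) this
  refine h2.trans ?_
  change evalOne T M J (θinv M (XJ T J) (θ (XJ T J) M h)) = _
  rw [θinv_θ]
  rfl

theorem exists_rep₀ (x : (HTf T 0).obj M) :
    ∃ (J : Dual2.IdealsIn T) (h : XJ T J ⟶ M), cls T 0 M J (θ (XJ T J) M h) = x := by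
  obtain ⟨J, y, rfl⟩ := exists_rep T 0 M x
  obtain ⟨h, rfl⟩ := (θ_bijective (XJ T J) M).2 y
  exact ⟨J, h, rfl⟩

/-- the image of `Φ` consists of elements killed by an ideal of the system -/
theorem Φ_kills (x : (HTf T 0).obj M) :
    ∃ J : Dual2.IdealsIn T, ∀ a ∈ J.obj, a • Φ T M x = 0 := by
  obtain ⟨J, h, rfl⟩ := exists_rep₀ T M x
  rw [Φ_cls]
  refine ⟨J, fun a ha => ?_⟩
  rw [← map_smul]
  have : a • (Submodule.Quotient.mk 1 : R ⧸ J.obj) = 0 := by
    rw [← Submodule.Quotient.mk_smul, Submodule.Quotient.mk_eq_zero]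
    simpa using ha
  rw [this, map_zero]

theorem Φ_injective : Function.Injective (Φ T M) := by
  rw [injective_iff_map_eq_zero]
  intro x hx
  obtain ⟨J, h, rfl⟩ := exists_rep₀ T M x
  rw [Φ_cls] at hx
  have h0 : h = 0 := by
    apply ModuleCat.hom_ext
    apply Submodule.linearMap_qext
    apply LinearMap.ext_ring
    exact hx
  rw [h0, map_zero, map_zero]

end H0

end Groth.Agent.Lib.T2H3.LCT
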