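import Groth.Agent.Lib.T2H3LocCohT2
import Groth.Agent.S11610

/-! Local cohomology with supports in `T`: vanishing on torsion modules and the finiteness
criterion (`H^i_T(M)` finite for `i ≤ n` iff annihilated by one ideal `J` with `V(J) ⊆ T`). -/

set_option autoImplicit false
universe u
open CategoryTheory CategoryTheory.Limits Opposite Pointwise

namespace Groth.Agent.Lib.T2H3.LCT

open Groth.Agent.Lib.Helper8 Groth.Agent.Lib.Helper8.ExtLES

variable {R : Type u} [CommRing R] (T : Set (PrimeSpectrum R))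

/-- the submodule of elements supported in `T` -/
def ΓT (M : Type u) [AddCommGroup M] [Module R M] : Submodule R M where
  carrier := {m | ∃ J : Dual2.IdealsIn T, ∀ a ∈ J.obj, a • m = 0}
  add_mem' := by
    rintro m₁ m₂ ⟨J₁, h₁⟩ ⟨J₂, h₂⟩
    refine ⟨infIdx T J₁ J₂, fun a ha => ?_⟩
    rw [smul_add, h₁ a (Submodule.mem_inf.mp ha).1, h₂ a (Submodule.mem_inf.mp ha).2, add_zero]
  zero_mem' := ⟨topIdx T, fun a _ => smul_zero a⟩
  smul_mem' := by
    rintro c m ⟨J, h⟩
    exact ⟨J, fun a ha => by rw [smul_comm, h a ha, smul_zero]⟩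

theorem exists_kills_of_fg {M : Type u} [AddCommGroup M] [Module R M] (N : Submodule R M)
    (hN : N.FG) (h : ∀ x ∈ N, ∃ J : Dual2.IdealsIn T, ∀ a ∈ J.obj, a • x = 0) :
    ∃ J : Dual2.IdealsIn T, ∀ a ∈ J.obj, ∀ x ∈ N, a • x = 0 := by
  classical
  obtain ⟨s, rfl⟩ := hN
  have key : ∃ J : Dual2.IdealsIn T, ∀ a ∈ J.obj, ∀ x ∈ s, a • x = 0 := by
    have h' : ∀ x ∈ s, ∃ J : Dual2.IdealsIn T, ∀ a ∈ J.obj, a • x = 0 :=
      fun x hx => h x (Submodule.subset_span hx)
    clear h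
    induction s using Finset.induction_on with
    | empty => exact ⟨topIdx T, fun a _ x hx => absurd hx (Finset.notMem_empty x)⟩
    | insert b s hb ih =>
      obtain ⟨J₁, h₁⟩ := h' b (Finset.mem_insert_self b s)
      obtain ⟨J₂, h₂⟩ := ih (fun x hx => h' x (Finset.mem_insert_of_mem hx))
      refine ⟨infIdx T J₁ J₂, fun a ha x hx => ?_⟩
      rcases Finset.mem_insert.mp hx with rfl | hx
      · exact h₁ a (Submodule.mem_inf.mp ha).1
      · exact h₂ a (Submodule.mem_inf.mp ha).2 x hx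
  obtain ⟨J, hJ⟩ := key
  refine ⟨J, fun a ha x hx => ?_⟩
  refine Submodule.span_induction (p := fun x _ => a • x = 0) ?_ ?_ ?_ ?_ hx
  · intro y hy
    exact hJ a ha y hy
  · exact smul_zero a
  · intro y z _ _ hy hz
    rw [smul_add, hy, hz, add_zero]
  · intro c y _ hy
    rw [smul_comm, hy, smul_zero]

/-- `J` kills `H^i_T(M)`. -/
def Kills (J : Ideal R) (i : ℕ) (M : Type u) [AddCommGroup M] [Module R M] : Prop :=
  ∀ a ∈ J, ∀ x : (HTf T i).obj (ModuleCat.of R M), a • x = 0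

theorem exists_kills_of_finite (i : ℕ) (M : Type u) [AddCommGroup M] [Module R M]
    [Module.Finite R ((HTf T i).obj (ModuleCat.of R M))] :
    ∃ J : Dual2.IdealsIn T, Kills T J.obj i M := by
  obtain ⟨J, hJ⟩ := exists_kills_of_fg T (⊤ : Submodule R ((HTf T i).obj (ModuleCat.of R M)))
    Module.Finite.fg_top (fun x _ => exists_kills T i (ModuleCat.of R M) x)
  exact ⟨J, fun a ha x => hJ a ha x trivial⟩

theorem exists_kills_of_finite_le (n : ℕ) (M : Type u) [AddCommGroup M] [Module R M]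
    (h : ∀ i : ℕ, i ≤ n → Module.Finite R ((HTf T i).obj (ModuleCat.of R M))) :
    ∃ J : Dual2.IdealsIn T, ∀ i : ℕ, i ≤ n → Kills T J.obj i M := by
  induction n with
  | zero =>
    have := h 0 le_rfl
    obtain ⟨J, hJ⟩ := exists_kills_of_finite T 0 M
    exact ⟨J, fun i hi => by rw [Nat.le_zero.mp hi]; exact hJ⟩
  | succ n ih =>
    obtain ⟨J, hJ⟩ := ih (fun i hi => h i (Nat.le_succ_of_le hi))
    have := h (n + 1) le_rfl
    obtain ⟨J', hJ'⟩ := exists_kills_of_finite T (n + 1) M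
    refine ⟨infIdx T J J', fun i hi a ha x => ?_⟩
    rcases Nat.eq_or_lt_of_le hi with heq | hlt
    · subst heq
      exact hJ' a (Submodule.mem_inf.mp ha).2 x
    · exact hJ i (Nat.lt_succ_iff.mp hlt) a (Submodule.mem_inf.mp ha).1 x

theorem H_zero_eq_zero (M : Type u) [AddCommGroup M] [Module R M] (h : ΓT T M = ⊥)
    (y : (HTf T 0).obj (ModuleCat.of R M)) : y = 0 := by
  apply Φ_injective T (ModuleCat.of R M)
  have h1 : Φ T (ModuleCat.of R M) y ∈ ΓT T M := Φ_kills T _ y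
  rw [h, Submodule.mem_bot] at h1
  rw [h1, map_zero]

theorem torsionSub_eq_bot_of_ΓT (M : Type u) [AddCommGroup M] [Module R M] (h : ΓT T M = ⊥)
    (J : Dual2.IdealsIn T) : DRing.torsionSub J.obj M = ⊥ := by
  rw [eq_bot_iff]
  rintro m ⟨k, hk⟩
  rw [Submodule.mem_bot]
  rcases Nat.eq_zero_or_pos k with rfl | hpos
  · have := hk 1 (by rw [pow_zero, Ideal.one_eq_top]; exact Submodule.mem_top)
    rwa [one_smul] at this
  · have hm : m ∈ ΓT T M := ⟨powIdx T J k hpos, hk⟩
    rwa [h, Submodule.mem_bot] at hm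

variable [IsNoetherianRing R]

/-- Local cohomology with supports in `T` of a module killed by an ideal of the system vanishes
in positive degrees. -/
theorem HT_succ_eq_zero_of_kills (n : ℕ) (N : Type u) [AddCommGroup N] [Module R N]
    (J₀ : Dual2.IdealsIn T) (hJ₀ : ∀ a ∈ J₀.obj, ∀ x : N, a • x = 0)
    (x : (HTf T (n + 1)).obj (ModuleCat.of R N)) : x = 0 := by
  obtain ⟨J, y, rfl⟩ := exists_rep T (n + 1) (ModuleCat.of R N) x
  have htors : DRing.torsionSub (infIdx T J J₀).obj N = ⊤ := by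
    rw [eq_top_iff]
    intro m _
    refine ⟨1, fun a ha => ?_⟩
    rw [pow_one] at ha
    exact hJ₀ a (Submodule.mem_inf.mp ha).2 m
  have hle1 : (powIdx T (infIdx T J J₀) 1 Nat.one_pos).obj ≤ J.obj := by
    change (infIdx T J J₀).obj ^ 1 ≤ J.obj
    rw [pow_one]
    exact inf_le_left
  rw [← cls_restrict T (n + 1) (ModuleCat.of R N) hle1 y]
  generalize Epre (n + 1) (trJ T hle1) (ModuleCat.of R N) y = y'
  have hz : LC.cls (infIdx T J J₀).obj (n + 1) (ModuleCat.of R N) 1 y' = 0 :=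
    LC.H_succ_eq_zero_of_torsion (infIdx T J J₀).obj n N htors _
  obtain ⟨m, hm1, hm⟩ :=
    (LC.cls_eq_zero_iff (infIdx T J J₀).obj (n + 1) (ModuleCat.of R N) y').mp hz
  have hmpos : 0 < m := by omega
  have hle2 : (powIdx T (infIdx T J J₀) m hmpos).obj ≤
      (powIdx T (infIdx T J J₀) 1 Nat.one_pos).obj := Ideal.pow_le_pow_right hm1
  rw [← cls_restrict T (n + 1) (ModuleCat.of R N) hle2 y']
  have h0 : Epre (n + 1) (trJ T hle2) (ModuleCat.of R N) y' = 0 := hm
  rw [h0, map_zero]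

theorem exists_kills_ΓT (M : Type u) [AddCommGroup M] [Module R M] [Module.Finite R M] :
    ∃ J : Dual2.IdealsIn T, ∀ a ∈ J.obj, ∀ x ∈ ΓT T M, a • x = 0 := by
  have : IsNoetherian R M := isNoetherian_of_isNoetherianRing_of_finite R M
  exact exists_kills_of_fg T (ΓT T M) (IsNoetherian.noetherian _) (fun x hx => hx)

theorem ΓT_quotient_eq_bot (M : Type u) [AddCommGroup M] [Module R M] [Module.Finite R M] :
    ΓT T (M ⧸ ΓT T M) = ⊥ := by
  obtain ⟨J₀, hJ₀⟩ := exists_kills_ΓT T M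
  rw [eq_bot_iff]
  intro mq hm
  obtain ⟨m, rfl⟩ := Submodule.Quotient.mk_surjective _ mq
  obtain ⟨J, hJ⟩ := hm
  rw [Submodule.mem_bot, Submodule.Quotient.mk_eq_zero]
  refine ⟨mulIdx T J₀ J, fun c hc => ?_⟩
  change c ∈ J₀.obj * J.obj at hc
  refine Submodule.mul_induction_on hc ?_ ?_
  · intro b hb a ha
    have h1 : a • m ∈ ΓT T M := by
      rw [← Submodule.Quotient.mk_eq_zero, Submodule.Quotient.mk_smul]
      exact hJ a ha
    rw [mul_smul]
    exact hJ₀ b hb _ h1
  · intro a b ha hb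
    rw [add_smul, ha, hb, add_zero]

theorem finite_H_zero (M : Type u) [AddCommGroup M] [Module R M] [Module.Finite R M] :
    Module.Finite R ((HTf T 0).obj (ModuleCat.of R M)) := by
  have : IsNoetherian R M := isNoetherian_of_isNoetherianRing_of_finite R M
  exact Module.Finite.of_injective (Φ T (ModuleCat.of R M)).hom (Φ_injective T _)

/-- `H^j_T(M) → H^j_T(M/Γ_T M)` is bijective for `j > 0`. -/
theorem HT_map_mkQ_bijective (M : Type u) [AddCommGroup M] [Module R M] [Module.Finite R M]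
    (j : ℕ) (hj : 0 < j) :
    Function.Bijective ((HTf T j).map (ModuleCat.ofHom (ΓT T M).mkQ)).hom := by
  obtain ⟨n, rfl⟩ := Nat.exists_eq_succ_of_ne_zero hj.ne'
  obtain ⟨J₀, hJ₀⟩ := exists_kills_ΓT T M
  have hJ₀' : ∀ a ∈ J₀.obj, ∀ x : ΓT T M, a • x = 0 :=
    fun a ha x => Subtype.ext (hJ₀ a ha x.1 x.2)
  have hex := LinearMap.exact_subtype_mkQ (ΓT T M)
  have hS := LC.Sfg_shortExact (ΓT T M).subtype (ΓT T M).mkQ (Submodule.injective_subtype _)
    (Submodule.mkQ_surjective _) hex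
  constructor
  · rw [injective_iff_map_eq_zero]
    intro x hx
    obtain ⟨w, hw⟩ := H_exact₂ T (n + 1) (LC.Sfg _ _ hex) hS x hx
    rw [← hw, HT_succ_eq_zero_of_kills T n (ΓT T M) J₀ hJ₀' w, map_zero]
  · intro z
    have h0 : Hδ T (n + 1) (LC.Sfg _ _ hex) hS z = 0 :=
      HT_succ_eq_zero_of_kills T (n + 1) (ΓT T M) J₀ hJ₀' _
    exact H_exact₃ T (n + 1) (LC.Sfg _ _ hex) hS z h0

/-- The torsion-free step. -/
theorem finite_of_kills_torsionFree (n : ℕ)
    (ih : ∀ (N : Type u) [AddCommGroup N] [Module R N] [Module.Finite R N],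
      (∃ J : Dual2.IdealsIn T, ∀ i : ℕ, i ≤ n → Kills T J.obj i N) →
        ∀ i : ℕ, i ≤ n → Module.Finite R ((HTf T i).obj (ModuleCat.of R N)))
    (M : Type u) [AddCommGroup M] [Module R M] [Module.Finite R M]
    (htf : ΓT T M = ⊥) (J : Dual2.IdealsIn T) (hk : ∀ i : ℕ, i ≤ n + 1 → Kills T J.obj i M)
    (j : ℕ) (hj : j ≤ n + 1) : Module.Finite R ((HTf T j).obj (ModuleCat.of R M)) := by
  obtain ⟨x, hxJ, hreg⟩ := Groth.Agent.S11610.result R R J.obj M (by
    rw [Algebra.algebraMap_self, Ideal.map_id]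
    exact torsionSub_eq_bot_of_ΓT T M htf J)
  rw [Algebra.algebraMap_self, RingHom.id_apply] at hreg
  have hex := LinearMap.exact_lsmul_mkQ_smul_top (R := R) M x
  have hS := LC.Sfg_shortExact (LinearMap.lsmul R M x)
    (x • (⊤ : Submodule R M)).mkQ hreg (Submodule.mkQ_surjective _) hex
  have hkN : ∀ i : ℕ, i ≤ n → Kills T (mulIdx T J J).obj i (QuotSMulTop x M) := by
    intro i hi c hc y
    change c ∈ J.obj * J.obj at hc
    refine Submodule.mul_induction_on hc ?_ ?_
    · intro a ha b hb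
      have h1 : Hδ T i _ hS (b • y) = 0 := by
        rw [map_smul]
        exact hk (i + 1) (by omega) b hb _
      obtain ⟨z, hz⟩ := H_exact₃ T i _ hS (b • y) h1
      rw [mul_smul, ← hz, ← map_smul, hk i (by omega) a ha z, map_zero]
    · intro a b ha hb
      rw [add_smul, ha, hb, add_zero]
  have hfinN := ih (QuotSMulTop x M) ⟨mulIdx T J J, hkN⟩
  rcases Nat.eq_zero_or_pos j with rfl | hpos
  · exact finite_H_zero T M
  · obtain ⟨j', rfl⟩ : ∃ j', j = j' + 1 := ⟨j - 1, by omega⟩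
    have hfin := hfinN j' (by omega)
    refine Module.Finite.of_surjective (Hδ T j' _ hS).hom ?_
    intro w
    refine H_exact₁ T j' _ hS w ?_
    change (HTf T (j' + 1)).map (ModuleCat.ofHom (LinearMap.lsmul R M x)) w = 0
    rw [HTf_map_lsmul]
    exact hk (j' + 1) hj _ hxJ w

theorem finite_of_kills (n : ℕ) : ∀ (M : Type u) [AddCommGroup M] [Module R M]
    [Module.Finite R M], (∃ J : Dual2.IdealsIn T, ∀ i : ℕ, i ≤ n → Kills T J.obj i M) →
    ∀ i : ℕ, i ≤ n → Module.Finite R ((HTf T i).obj (ModuleCat.of R M)) := by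
  induction n with
  | zero =>
    intro M _ _ _ _ i hi
    rw [Nat.le_zero.mp hi]
    exact finite_H_zero T M
  | succ n ih =>
    intro M _ _ _ ⟨J, hk⟩ i hi
    have hbij := fun j (hj : 0 < j) => HT_map_mkQ_bijective T M j hj
    have htf := ΓT_quotient_eq_bot T M
    have hk' : ∀ j : ℕ, j ≤ n + 1 → Kills T J.obj j (M ⧸ ΓT T M) := by
      intro j hj a ha y
      rcases Nat.eq_zero_or_pos j with rfl | hpos
      · rw [H_zero_eq_zero T _ htf y, smul_zero]
      · obtain ⟨x, rfl⟩ := (hbij j hpos).2 y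
        have h1 := hk j hj a ha x
        change a • ((HTf T j).map (ModuleCat.ofHom (ΓT T M).mkQ)) x = 0
        rw [← map_smul, h1, map_zero]
    rcases Nat.eq_zero_or_pos i with rfl | hpos
    · exact finite_H_zero T M
    · have hfin' := finite_of_kills_torsionFree T n ih (M ⧸ ΓT T M) htf J hk' i hi
      exact Module.Finite.equiv (LinearEquiv.ofBijective _ (hbij i hpos)).symm

end Groth.Agent.Lib.T2H3.LCT
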