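import Mathlib
import Groth.Prelude.Def_NonAbH2

/-!
# Local triviality via a two-step covering
-/

set_option autoImplicit false
set_option linter.style.haveILetI false
universe u

namespace Groth.Agent.Lib.T2H3.LocTrivTrans

open CategoryTheory AlgebraicGeometry Limits

variable {S : Scheme.{u}} {K : Precoverage Scheme.{u}} [K.IsStableUnderComposition]
  [K.IsStableUnderBaseChange]

/-- if `P` is locally trivial, `v : A ⟶ B` has sections locally on `B`, and `ψ : P ⟶ B`, then any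
`Q` which acquires a section whenever `P` has a section `s` and `ψ ∘ s` lifts through `v` is
locally trivial. -/
theorem isLocallyTrivialFor_of_lift (P Q : Over S) {A B : Scheme.{u}} (v : A ⟶ B)
    (ψ : P.left ⟶ B)
    (hP : NonAbH1.IsLocallyTrivialFor K P)
    (hv : NonAbH1.IsLocallyTrivialFor K (Over.mk v : Over B))
    (hQ : ∀ (S' : Scheme.{u}) (f' : S' ⟶ S) (s : S' ⟶ P.left) (_ : s ≫ P.hom = f') (t : S' ⟶ A)
      (_ : t ≫ v = s ≫ ψ), NonAbH1.HasSectionOver Q f') :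
    NonAbH1.IsLocallyTrivialFor K Q := by
  obtain ⟨R₁, hR₁, hsec₁⟩ := hP
  obtain ⟨R₂, hR₂, hsec₂⟩ := hv
  obtain ⟨I, Z, f, rfl⟩ := Presieve.exists_eq_ofArrows R₁
  obtain ⟨I₂, W, g₂, rfl⟩ := Presieve.exists_eq_ofArrows R₂
  choose s hs using fun i : I => hsec₁ (f i) ⟨i⟩
  choose t ht using fun j : I₂ => hsec₂ (g₂ j) ⟨j⟩
  have hcov : ∀ i : I, Presieve.ofArrows (fun j : I₂ => pullback (s i ≫ ψ) (g₂ j))
      (fun j => pullback.fst (s i ≫ ψ) (g₂ j)) ∈ K (Z i) := fun i =>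
    Precoverage.mem_coverings_of_isPullback g₂ hR₂ (s i ≫ ψ) _ (fun j => pullback.snd _ _)
      (fun j => IsPullback.of_hasPullback _ _)
  have hcomp := Precoverage.comp_mem_coverings (J := K) f hR₁ (σ := fun _ => I₂)
    (Y := fun i j => pullback (s i ≫ ψ) (g₂ j)) (fun i j => pullback.fst (s i ≫ ψ) (g₂ j)) hcov
  refine ⟨_, hcomp, ?_⟩
  rintro T _ ⟨p⟩
  refine hQ _ _ (pullback.fst (s p.1 ≫ ψ) (g₂ p.2) ≫ s p.1) ?_
    (pullback.snd (s p.1 ≫ ψ) (g₂ p.2) ≫ t p.2) ?_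
  · rw [Category.assoc, hs]
  · have ht' : t p.2 ≫ v = g₂ p.2 := ht p.2
    rw [Category.assoc, ht', Category.assoc]
    exact pullback.condition.symm

end Groth.Agent.Lib.T2H3.LocTrivTrans
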