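import Groth.Agent.Lib.Helper29GrSummand
import Groth.Agent.Lib.Helper29GrQuot

/-! Graded retracts of a *injective module: finite independent sums of graded retracts are
graded retracts, and the sum of an independent family of graded retracts is closed under
*essential extension when the ring is Noetherian (helper3).  Input to the graded
Matlis decomposition. -/

set_option autoImplicit false
open DirectSum

noncomputable section

namespace Groth.Agent.Lib.T2H3.Matlis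

open Groth.Agent.Lib.Helper29GrHom Groth.Agent.Lib.Helper29GrEss Groth.Agent.Lib.Helper29GrSub
  Groth.Agent.Lib.Helper29GrSummand

universe u

variable {ι : Type} [AddCommGroup ι] [DecidableEq ι]
variable {R : Type u} [CommRing R] (𝒜 : ι → AddSubgroup R) [GradedRing 𝒜]
variable {I : Type u} [AddCommGroup I] [Module R I] (ℐ : ι → AddSubgroup I)
  [DirectSum.Decomposition ℐ] [SetLike.GradedSMul 𝒜 ℐ]

/-- `J` is a graded retract of `I`: the image of a homogeneous idempotent endomorphism. -/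
def IsRetr (J : Submodule R I) : Prop :=
  ∃ h : I →ₗ[R] I, GrLC.IsGrHom ℐ ℐ h ∧ (∀ x, h x ∈ J) ∧ ∀ x ∈ J, h x = x

variable {ℐ} in
theorem IsRetr.isHomogeneous {J : Submodule R I} (hJ : IsRetr ℐ J) : J.IsHomogeneous ℐ := by
  obtain ⟨h, hgr, hmem, hid⟩ := hJ
  have : J = LinearMap.range h := by
    apply le_antisymm
    · intro x hx
      exact ⟨x, hid x hx⟩
    · rintro _ ⟨x, rfl⟩
      exact hmem x
  rw [this]
  exact range_isHomogeneous ℐ ℐ h hgr

omit [AddCommGroup ι] [DecidableEq ι] [Decomposition ℐ] in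
theorem isRetr_bot : IsRetr ℐ (⊥ : Submodule R I) := by
  refine ⟨0, fun g x _ => ?_, fun x => ?_, fun x hx => ?_⟩
  · rw [LinearMap.zero_apply]
    exact zero_mem _
  · rw [LinearMap.zero_apply]
    exact zero_mem _
  · rw [(Submodule.mem_bot R).mp hx, LinearMap.zero_apply]

omit [AddCommGroup ι] [DecidableEq ι] [Decomposition ℐ] in
theorem isRetr_top : IsRetr ℐ (⊤ : Submodule R I) :=
  ⟨LinearMap.id, fun _ _ hx => hx, fun _ => Submodule.mem_top, fun _ _ => rfl⟩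

include 𝒜 in
/-- A graded retraction onto `A` killing a homogeneous submodule `B` disjoint from `A`. -/
theorem exists_retr_kill (hI : GrLC.IsStarInj 𝒜 ℐ) {A B : Submodule R I} (hA : IsRetr ℐ A)
    (hB : B.IsHomogeneous ℐ) (hAB : A ⊓ B = ⊥) :
    ∃ π : I →ₗ[R] I, GrLC.IsGrHom ℐ ℐ π ∧ (∀ x, π x ∈ A) ∧ (∀ a ∈ A, π a = a) ∧
      ∀ b ∈ B, π b = 0 := by
  classical
  have hAh := hA.isHomogeneous
  obtain ⟨ρ, hρgr, hρmem, hρid⟩ := hA
  let decA : DirectSum.Decomposition (subGr ℐ A) := subDecomposition ℐ A hAh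
  have gsA : SetLike.GradedSMul 𝒜 (subGr ℐ A) := sub_gradedSMul ℐ A 𝒜
  let decQ : DirectSum.Decomposition (Helper29GrQuot.quotGr ℐ B) :=
    Helper29GrQuot.quotDecomposition ℐ B hB
  have gsQ : SetLike.GradedSMul 𝒜 (Helper29GrQuot.quotGr ℐ B) :=
    Helper29GrQuot.quot_gradedSMul ℐ B 𝒜
  let f : ↥A →ₗ[R] (I ⧸ B) := B.mkQ ∘ₗ A.subtype
  have hfinj : Function.Injective f := by
    rw [← LinearMap.ker_eq_bot, LinearMap.ker_eq_bot']
    intro a ha
    have h1 : B.mkQ (a : I) = 0 := ha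
    rw [Submodule.mkQ_apply, Submodule.Quotient.mk_eq_zero] at h1
    have h2 : (a : I) ∈ A ⊓ B := ⟨a.2, h1⟩
    rw [hAB, Submodule.mem_bot] at h2
    exact Subtype.ext h2
  obtain ⟨τ₀, hτ₀gr, hτ₀⟩ := hI (GrLC.GMod.of 𝒜 ↥A (subGr ℐ A))
    (GrLC.GMod.of 𝒜 (I ⧸ B) (Helper29GrQuot.quotGr ℐ B)) f
    (fun g a ha => ⟨A.subtype a, ha, rfl⟩) hfinj A.subtype (fun g a ha => ha)
  obtain ⟨τ, hτgr, hτ⟩ : ∃ τ : (I ⧸ B) →ₗ[R] I,
      GrLC.IsGrHom (Helper29GrQuot.quotGr ℐ B) ℐ τ ∧ τ ∘ₗ f = A.subtype := ⟨τ₀, hτ₀gr, hτ₀⟩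
  refine ⟨ρ ∘ₗ τ ∘ₗ B.mkQ, ?_, ?_, ?_, ?_⟩
  · intro g x hx
    exact hρgr g _ (hτgr g _ ⟨x, hx, rfl⟩)
  · intro x
    exact hρmem _
  · intro a ha
    have h1 : τ (B.mkQ a) = a := LinearMap.congr_fun hτ ⟨a, ha⟩
    change ρ (τ (B.mkQ a)) = a
    rw [h1]
    exact hρid a ha
  · intro b hb
    change ρ (τ (B.mkQ b)) = 0
    have h1 : B.mkQ b = 0 := by
      rw [Submodule.mkQ_apply, Submodule.Quotient.mk_eq_zero]
      exact hb
    rw [h1, map_zero, map_zero]

include 𝒜 in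
/-- The sum of two disjoint graded retracts of a *injective module is a graded retract. -/
theorem isRetr_sup (hI : GrLC.IsStarInj 𝒜 ℐ) {A B : Submodule R I} (hA : IsRetr ℐ A)
    (hB : IsRetr ℐ B) (hAB : A ⊓ B = ⊥) : IsRetr ℐ (A ⊔ B) := by
  obtain ⟨πA, hAgr, hAmem, hAid, hAkill⟩ :=
    exists_retr_kill 𝒜 ℐ hI hA hB.isHomogeneous hAB
  obtain ⟨πB, hBgr, hBmem, hBid, hBkill⟩ :=
    exists_retr_kill 𝒜 ℐ hI hB hA.isHomogeneous (by rwa [inf_comm])
  refine ⟨πA + πB, ?_, ?_, ?_⟩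
  · intro g x hx
    exact add_mem (hAgr g x hx) (hBgr g x hx)
  · intro x
    exact Submodule.add_mem_sup (hAmem x) (hBmem x)
  · intro x hx
    obtain ⟨a, ha, b, hb, rfl⟩ := Submodule.mem_sup.mp hx
    rw [LinearMap.add_apply, map_add, map_add, hAid a ha, hAkill b hb, hBkill a ha, hBid b hb,
      add_zero, zero_add]

include 𝒜 in
/-- Finite subsums of an independent family of graded retracts are graded retracts. -/
theorem isRetr_finset_sup (hI : GrLC.IsStarInj 𝒜 ℐ) {𝒮 : Set (Submodule R I)}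
    (hind : sSupIndep 𝒮) (hretr : ∀ J ∈ 𝒮, IsRetr ℐ J) (F : Finset (Submodule R I))
    (hF : (F : Set (Submodule R I)) ⊆ 𝒮) : IsRetr ℐ (F.sup id) := by
  classical
  induction F using Finset.induction_on with
  | empty =>
    rw [Finset.sup_empty]
    exact isRetr_bot ℐ
  | insert J F hJF ih =>
    rw [Finset.sup_insert, id]
    have hJ : J ∈ 𝒮 := hF (Finset.mem_coe.mpr (Finset.mem_insert_self J F))
    have hF' : (F : Set (Submodule R I)) ⊆ 𝒮 :=
      fun x hx => hF (Finset.mem_coe.mpr (Finset.mem_insert_of_mem (Finset.mem_coe.mp hx)))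
    refine isRetr_sup 𝒜 ℐ hI (hretr J hJ) (ih hF') ?_
    have h1 : F.sup id ≤ sSup (𝒮 \ {J}) := by
      apply Finset.sup_le
      intro K hK
      refine le_sSup ⟨hF' (Finset.mem_coe.mpr hK), fun h => hJF ?_⟩
      rw [Set.mem_singleton_iff] at h
      rwa [← h]
    exact le_bot_iff.mp (le_trans (inf_le_inf_left J h1) (hind hJ).le_bot)

include 𝒜 in
/-- Over a Noetherian ring, the sum of an independent family of graded retracts of a *injective
module has no proper *essential extension inside the module. -/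
theorem le_sSup_of_essOver [IsNoetherianRing R] (hI : GrLC.IsStarInj 𝒜 ℐ)
    {𝒮 : Set (Submodule R I)} (hind : sSupIndep 𝒮) (hretr : ∀ J ∈ 𝒮, IsRetr ℐ J)
    {X : Submodule R I} (hX : EssOver ℐ (sSup 𝒮) X) : X ≤ sSup 𝒮 := by
  classical
  obtain ⟨hXhom, hSX, hess⟩ := hX
  suffices H : ∀ (d : ι) (x : I), x ∈ X → x ∈ ℐ d → x ∈ sSup 𝒮 by
    intro x hx
    rw [← DirectSum.sum_support_decompose ℐ x]
    exact Submodule.sum_mem _ (fun d _ => H d _ (hXhom d hx) (SetLike.coe_mem _))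
  intro d x hxX hxd
  let 𝔞 : Ideal R := (sSup 𝒮).comap (LinearMap.toSpanSingleton R I x)
  have h𝔞 : ∀ r : R, r ∈ 𝔞 ↔ r • x ∈ sSup 𝒮 := fun r => by
    change LinearMap.toSpanSingleton R I x r ∈ sSup 𝒮 ↔ _
    rw [LinearMap.toSpanSingleton_apply]
  obtain ⟨G, hG⟩ := (IsNoetherian.noetherian 𝔞 : 𝔞.FG)
  have hGmem : ∀ r ∈ G, ∃ F : Finset (Submodule R I),
      (F : Set (Submodule R I)) ⊆ 𝒮 ∧ r • x ∈ F.sup id := by
    intro r hr
    have h1 : r ∈ 𝔞 := by
      rw [← hG]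
      exact Submodule.subset_span hr
    obtain ⟨F, hF, hmem⟩ := (Submodule.mem_sSup_iff_exists_finset).mp ((h𝔞 r).mp h1)
    refine ⟨F, hF, ?_⟩
    rwa [Finset.sup_eq_iSup]
  choose! Fr hFr using hGmem
  let F : Finset (Submodule R I) := G.biUnion Fr
  have hFS : (F : Set (Submodule R I)) ⊆ 𝒮 := by
    intro K hK
    obtain ⟨r, hr, hKr⟩ := Finset.mem_biUnion.mp (Finset.mem_coe.mp hK)
    exact (hFr r hr).1 (Finset.mem_coe.mpr hKr)
  obtain ⟨ρ, hρgr, hρmem, hρid⟩ := isRetr_finset_sup 𝒜 ℐ hI hind hretr F hFS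
  have hFle : F.sup id ≤ sSup 𝒮 := Finset.sup_le (fun K hK => le_sSup (hFS (Finset.mem_coe.mpr hK)))
  have hGc : ∀ r ∈ G, r • (x - ρ x) = 0 := by
    intro r hr
    have hle : (Fr r).sup id ≤ F.sup id :=
      Finset.sup_mono (Finset.subset_biUnion_of_mem Fr hr)
    have h1 : r • x ∈ F.sup id := hle (hFr r hr).2
    rw [smul_sub, ← map_smul, hρid _ h1, sub_self]
  have h𝔞c : ∀ r ∈ 𝔞, r • (x - ρ x) = 0 := by
    intro r hr
    rw [← hG] at hr
    have hle : Submodule.span R (G : Set R) ≤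
        LinearMap.ker (LinearMap.toSpanSingleton R I (x - ρ x)) :=
      Submodule.span_le.mpr (fun r hr => by
        rw [SetLike.mem_coe, LinearMap.mem_ker, LinearMap.toSpanSingleton_apply]
        exact hGc r (Finset.mem_coe.mp hr))
    have h2 := hle hr
    rwa [LinearMap.mem_ker, LinearMap.toSpanSingleton_apply] at h2
  by_contra hxS
  have hρS : ρ x ∈ sSup 𝒮 := hFle (hρmem x)
  have hc0 : x - ρ x ≠ 0 := by
    intro h0
    apply hxS
    rw [sub_eq_zero.mp h0]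
    exact hρS
  have hcX : x - ρ x ∈ X := X.sub_mem hxX (hSX hρS)
  have hcd : x - ρ x ∈ ℐ d := sub_mem hxd (hρgr d x hxd)
  obtain ⟨r, hr0, hrS⟩ := hess d _ hcX hcd hc0
  apply hr0
  apply h𝔞c
  rw [h𝔞]
  have h3 : r • x = r • (x - ρ x) + r • ρ x := by
    rw [smul_sub, sub_add_cancel]
  rw [h3]
  exact (sSup 𝒮).add_mem hrS ((sSup 𝒮).smul_mem r hρS)

end Groth.Agent.Lib.T2H3.Matlis
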