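import Groth.Agent.Lib.T2H3MatlisA
import Groth.Agent.Lib.Helper29GrAss
import Groth.Agent.Lib.Helper29GrGam
import Groth.Agent.S13223

/-! The graded Matlis decomposition: over a Noetherian graded ring every *injective graded
module is the internal direct sum of graded retracts, each a *injective hull of a shifted copy
of `R ⧸ p` for a homogeneous prime `p` (helper3).  The output is in the format of the
hypotheses of S13235 / S13240. -/

set_option autoImplicit false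
open DirectSum

noncomputable section

namespace Groth.Agent.Lib.T2H3.Matlis

open Groth.Agent.Lib.Helper29GrHom Groth.Agent.Lib.Helper29GrEss Groth.Agent.Lib.Helper29GrSub
  Groth.Agent.Lib.Helper29GrSummand Groth.Agent.Lib.Helper29GrAss Groth.Agent.Lib.Helper29GrGam

universe u

variable {ι : Type} [AddCommGroup ι] [DecidableEq ι] [Module.Free ℤ ι] [Module.Finite ℤ ι]
variable {R : Type u} [CommRing R] [IsNoetherianRing R] (𝒜 : ι → AddSubgroup R) [GradedRing 𝒜]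
variable {I : Type u} [AddCommGroup I] [Module R I] (ℐ : ι → AddSubgroup I)
  [DirectSum.Decomposition ℐ] [SetLike.GradedSMul 𝒜 ℐ]

/-- `J` is a graded retract of `I` which is a *injective hull of `(R ⧸ p)(-g)` for some
homogeneous prime `p` and degree `g`. -/
def Good (J : Submodule R I) : Prop :=
  IsRetr ℐ J ∧ ∃ (p : HomogeneousIdeal 𝒜) (g : ι) (f : (R ⧸ p.toIdeal) →ₗ[R] I),
    p.toIdeal.IsPrime ∧ Function.Injective f ∧ GrLC.IsGrHomDeg (GrLC.quotGr 𝒜 p) ℐ f g ∧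
    LinearMap.range f ≤ J ∧
    ∀ Q : Submodule R I, Q.IsHomogeneous ℐ → Q ≤ J → Q ≠ ⊥ → Q ⊓ LinearMap.range f ≠ ⊥

omit [Module.Free ℤ ι] [Module.Finite ℤ ι] [IsNoetherianRing R] in
variable {𝒜 ℐ} in
theorem Good.ne_bot {J : Submodule R I} (hJ : Good 𝒜 ℐ J) : J ≠ ⊥ := by
  obtain ⟨-, p, g, f, hp, hinj, -, hle, -⟩ := hJ
  intro h
  haveI : Nontrivial (R ⧸ p.toIdeal) := Ideal.Quotient.nontrivial_iff.mpr hp.ne_top
  have h1 : f 1 ∈ J := hle ⟨1, rfl⟩
  rw [h, Submodule.mem_bot] at h1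
  exact one_ne_zero (hinj (h1.trans (map_zero f).symm))

omit [Module.Free ℤ ι] [Module.Finite ℤ ι] [IsNoetherianRing R] [SetLike.GradedSMul 𝒜 ℐ] in
theorem sSup_isHomogeneous {𝒮 : Set (Submodule R I)} (h : ∀ J ∈ 𝒮, J.IsHomogeneous ℐ) :
    (sSup 𝒮).IsHomogeneous ℐ := by
  intro g x hx
  rw [sSup_eq_iSup'] at hx ⊢
  refine Submodule.iSup_induction (fun J : 𝒮 => (J : Submodule R I))
    (motive := fun x => ((decompose ℐ x) g : I) ∈ ⨆ J : 𝒮, (J : Submodule R I)) hx ?_ ?_ ?_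
  · intro J y hy
    exact (le_iSup (fun J : 𝒮 => (J : Submodule R I)) J) (h J.1 J.2 g hy)
  · rw [DirectSum.decompose_zero, DirectSum.zero_apply, ZeroMemClass.coe_zero]
    exact zero_mem _
  · intro y z hy hz
    rw [DirectSum.decompose_add, DirectSum.add_apply, AddSubgroup.coe_add]
    exact add_mem hy hz

/-- A nonzero homogeneous submodule `C` disjoint from a homogeneous submodule `S` of a
*injective module gives a good retract disjoint from `S`. -/
theorem exists_good_disjoint (hI : GrLC.IsStarInj 𝒜 ℐ) {C S : Submodule R I}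
    (hC : C.IsHomogeneous ℐ) (hC0 : C ≠ ⊥) (hS : S.IsHomogeneous ℐ) (hSC : S ⊓ C = ⊥) :
    ∃ J : Submodule R I, Good 𝒜 ℐ J ∧ J ⊓ S = ⊥ := by
  classical
  let decC : DirectSum.Decomposition (subGr ℐ C) := subDecomposition ℐ C hC
  have gsC : SetLike.GradedSMul 𝒜 (subGr ℐ C) := sub_gradedSMul ℐ C 𝒜
  haveI : Nontrivial ↥C := Submodule.nontrivial_iff_ne_bot.mpr hC0
  obtain ⟨g₀, m, hm, hm0, hprime, -⟩ := exists_homogeneous_prime_annihilator 𝒜 (subGr ℐ C)
  have hmI : (m : I) ∈ ℐ g₀ := hm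
  have hmI0 : (m : I) ≠ 0 := fun h => hm0 (Subtype.ext h)
  have hann : (Submodule.span R {(m : I)}).annihilator = (Submodule.span R {m}).annihilator := by
    ext r
    rw [Submodule.mem_annihilator_span_singleton, Submodule.mem_annihilator_span_singleton]
    constructor
    · intro h
      exact Subtype.ext h
    · intro h
      have := congrArg (fun z : ↥C => (z : I)) h
      exact this
  let q : HomogeneousIdeal 𝒜 :=
    ⟨(Submodule.span R {(m : I)}).annihilator, annihilator_span_singleton_isHomogeneous 𝒜 ℐ hmI⟩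
  haveI hq : q.toIdeal.IsPrime := by
    change ((Submodule.span R {(m : I)}).annihilator).IsPrime
    rw [hann]
    exact hprime
  obtain ⟨X, f, ψ, Q, hhull, hψinj, hψgr, hψf, -, -⟩ :=
    Groth.Agent.S13223.result R 𝒜 I ℐ hI q g₀ (m : I) hmI rfl
  -- the retraction
  obtain ⟨τ, hτgr, hτ⟩ := hhull.starInj X (GrLC.GMod.of 𝒜 I ℐ) ψ hψgr hψinj LinearMap.id
    (fun _ _ h => h)
  have hτψ : ∀ y, τ (ψ y) = y := fun y => LinearMap.congr_fun hτ y
  have hf1 : ∀ x : R ⧸ q.toIdeal, ∃ r : R, ψ (f x) = r • (m : I) := by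
    intro x
    obtain ⟨r, rfl⟩ := Ideal.Quotient.mk_surjective x
    refine ⟨r, ?_⟩
    have h1 : (Ideal.Quotient.mk q.toIdeal r) = r • (1 : R ⧸ q.toIdeal) := by
      rw [Algebra.smul_def, mul_one]
      rfl
    rw [h1, map_smul, map_smul, hψf]
  refine ⟨LinearMap.range ψ, ⟨⟨ψ ∘ₗ τ, ?_, ?_, ?_⟩, q, g₀, ψ ∘ₗ f, hq, ?_, ?_, ?_, ?_⟩, ?_⟩
  · intro g x hx
    exact hψgr g _ (hτgr g x hx)
  · intro x
    exact ⟨τ x, rfl⟩
  · rintro _ ⟨y, rfl⟩
    change ψ (τ (ψ y)) = ψ y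
    rw [hτψ]
  · exact hψinj.comp hhull.injective
  · intro j x hx
    have hx' : x ∈ GrLC.quotGr 𝒜 q (j + g₀ - g₀) := by rwa [add_sub_cancel_right]
    exact hψgr (j + g₀) _ (hhull.grHom (j + g₀) x hx')
  · rintro _ ⟨x, rfl⟩
    exact ⟨f x, rfl⟩
  · intro Q' hQ' hQ'le hQ'0
    have hP : (Q'.comap ψ).IsHomogeneous X.gr := comap_isHomogeneous X.gr ℐ ψ hψgr hQ'
    have hP0 : Q'.comap ψ ≠ ⊥ := by
      obtain ⟨y, hy, hy0⟩ := Submodule.exists_mem_ne_zero_of_ne_bot hQ'0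
      obtain ⟨z, rfl⟩ := hQ'le hy
      intro h
      have hz : z ∈ Q'.comap ψ := hy
      rw [h, Submodule.mem_bot] at hz
      exact hy0 (by rw [hz, map_zero])
    obtain ⟨w, hw, hw0⟩ := Submodule.exists_mem_ne_zero_of_ne_bot (hhull.essential _ hP hP0)
    obtain ⟨hwP, x, rfl⟩ := hw
    intro hbot
    have h1 : ψ (f x) ∈ Q' ⊓ LinearMap.range (ψ ∘ₗ f) := ⟨hwP, x, rfl⟩
    rw [hbot, Submodule.mem_bot] at h1
    exact hw0 (hψinj (h1.trans (map_zero ψ).symm))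
  · -- disjointness from `S`
    by_contra hne
    have hJS : (LinearMap.range ψ ⊓ S).IsHomogeneous ℐ :=
      inf_isHomogeneous ℐ (range_isHomogeneous ℐ X.gr ψ hψgr) hS
    -- essentiality gives a nonzero element of `S` in the image of `ψ ∘ f`
    have hP : ((LinearMap.range ψ ⊓ S).comap ψ).IsHomogeneous X.gr :=
      comap_isHomogeneous X.gr ℐ ψ hψgr hJS
    have hP0 : (LinearMap.range ψ ⊓ S).comap ψ ≠ ⊥ := by
      obtain ⟨y, hy, hy0⟩ := Submodule.exists_mem_ne_zero_of_ne_bot hne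
      obtain ⟨z, rfl⟩ := hy.1
      intro h
      have hz : z ∈ (LinearMap.range ψ ⊓ S).comap ψ := hy
      rw [h, Submodule.mem_bot] at hz
      exact hy0 (by rw [hz, map_zero])
    obtain ⟨w, hw, hw0⟩ := Submodule.exists_mem_ne_zero_of_ne_bot (hhull.essential _ hP hP0)
    obtain ⟨hwP, x, rfl⟩ := hw
    obtain ⟨r, hr⟩ := hf1 x
    have hwS : ψ (f x) ∈ S := hwP.2
    have hwC : ψ (f x) ∈ C := by
      rw [hr]
      exact C.smul_mem r m.2
    have h1 : ψ (f x) ∈ S ⊓ C := ⟨hwS, hwC⟩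
    rw [hSC, Submodule.mem_bot] at h1
    exact hw0 (hψinj (h1.trans (map_zero ψ).symm))

omit [Module.Free ℤ ι] [Module.Finite ℤ ι] [IsNoetherianRing R] [AddCommGroup ι] [DecidableEq ι] in
theorem sSupIndep_insert {α : Type*} [CompleteLattice α] [IsModularLattice α] {s : Set α} {a : α}
    (hs : sSupIndep s) (ha : Disjoint a (sSup s)) (has : a ∉ s) : sSupIndep (insert a s) := by
  intro b hb
  rcases hb with rfl | hb
  · refine ha.mono_right (sSup_le_sSup ?_)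
    rintro x ⟨hx, hxb⟩
    rcases hx with rfl | hx
    · exact absurd rfl hxb
    · exact hx
  · have hba : b ≠ a := fun h => has (h ▸ hb)
    have h1 : sSup (insert a s \ {b}) ≤ sSup (s \ {b}) ⊔ a := by
      apply sSup_le
      rintro x ⟨hx, hxb⟩
      rcases hx with rfl | hx
      · exact le_sup_right
      · exact le_sup_of_le_left (le_sSup ⟨hx, hxb⟩)
    refine Disjoint.mono_right h1 ?_
    refine (hs hb).disjoint_sup_right_of_disjoint_sup_left ?_
    refine ha.symm.mono_left ?_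
    exact sup_le (le_sSup hb) (sSup_le_sSup Set.sdiff_subset)

/-- **Graded Matlis decomposition** (set form). -/
theorem exists_decomposition_set (hI : GrLC.IsStarInj 𝒜 ℐ) :
    ∃ 𝒮 : Set (Submodule R I), sSupIndep 𝒮 ∧ sSup 𝒮 = ⊤ ∧ ∀ J ∈ 𝒮, Good 𝒜 ℐ J := by
  classical
  obtain ⟨𝒮, hmax⟩ := zorn_subset {𝒮 : Set (Submodule R I) | sSupIndep 𝒮 ∧ ∀ J ∈ 𝒮, Good 𝒜 ℐ J}
    (fun c hc hchain => ⟨⋃₀ c,
      ⟨iSupIndep_sUnion_of_directed hchain.directedOn (fun s hs => (hc hs).1),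
        fun J ⟨s, hs, hJs⟩ => (hc hs).2 J hJs⟩,
      fun s hs => Set.subset_sUnion_of_mem hs⟩)
  obtain ⟨⟨hind, hgood⟩, hmax'⟩ := hmax
  refine ⟨𝒮, hind, ?_, hgood⟩
  have hretr : ∀ J ∈ 𝒮, IsRetr ℐ J := fun J hJ => (hgood J hJ).1
  have hShom : (sSup 𝒮).IsHomogeneous ℐ :=
    sSup_isHomogeneous ℐ (fun J hJ => (hretr J hJ).isHomogeneous)
  obtain ⟨X, Q, h, hXess, hQhom, hcompl, -, -, -⟩ := exists_summand 𝒜 ℐ hI (sSup 𝒮) hShom
  have hXS : X = sSup 𝒮 := le_antisymm (le_sSup_of_essOver 𝒜 ℐ hI hind hretr hXess) hXess.2.1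
  rw [hXS] at hcompl
  by_cases hQ0 : Q = ⊥
  · rw [hQ0] at hcompl
    have := hcompl.sup_eq_top
    rwa [sup_bot_eq] at this
  · exfalso
    obtain ⟨J, hJgood, hJS⟩ := exists_good_disjoint 𝒜 ℐ hI hQhom hQ0 hShom hcompl.inf_eq_bot
    have hJnot : J ∉ 𝒮 := by
      intro hJ
      apply hJgood.ne_bot
      have : J ≤ J ⊓ sSup 𝒮 := le_inf le_rfl (le_sSup hJ)
      rw [hJS] at this
      exact le_bot_iff.mp this
    have hins : insert J 𝒮 ∈ {𝒮 : Set (Submodule R I) | sSupIndep 𝒮 ∧ ∀ J ∈ 𝒮, Good 𝒜 ℐ J} := by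
      refine ⟨sSupIndep_insert hind (disjoint_iff.mpr hJS) hJnot, ?_⟩
      rintro K (rfl | hK)
      · exact hJgood
      · exact hgood K hK
    exact hJnot (hmax' hins (Set.subset_insert J 𝒮) (Set.mem_insert J 𝒮))

/-- **Graded Matlis decomposition** (indexed form, in the format of the hypotheses of
S13235/S13240, with the extra information that the summands are graded retracts). -/
theorem exists_decomposition (hI : GrLC.IsStarInj 𝒜 ℐ) :
    ∃ (Λ : Type u) (P : Λ → HomogeneousIdeal 𝒜) (g : Λ → ι) (J : Λ → Submodule R I)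
      (f : ∀ α, (R ⧸ (P α).toIdeal) →ₗ[R] I),
      (∀ α, (P α).toIdeal.IsPrime) ∧ (∀ α, (J α).IsHomogeneous ℐ) ∧ iSupIndep J ∧ iSup J = ⊤ ∧
      (∀ α, Function.Injective (f α) ∧ GrLC.IsGrHomDeg (GrLC.quotGr 𝒜 (P α)) ℐ (f α) (g α) ∧
        LinearMap.range (f α) ≤ J α ∧
        ∀ Q : Submodule R I, Q.IsHomogeneous ℐ → Q ≤ J α → Q ≠ ⊥ →
          Q ⊓ LinearMap.range (f α) ≠ ⊥) ∧
      ∀ α, IsRetr ℐ (J α) := by
  obtain ⟨𝒮, hind, htop, hgood⟩ := exists_decomposition_set 𝒜 ℐ hI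
  have h := fun α : 𝒮 => (hgood α.1 α.2).2
  choose P g f hP hf using h
  refine ⟨↥𝒮, P, g, fun α => α.1, f, hP, fun α => (hgood α.1 α.2).1.isHomogeneous,
    (sSupIndep_iff 𝒮).mp hind, ?_, hf, fun α => (hgood α.1 α.2).1⟩
  rw [← sSup_eq_iSup']
  exact htop

end Groth.Agent.Lib.T2H3.Matlis
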