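import Mathlib
import Groth.Agent.Lib.Helper3GrpHomQF

/-!
# The largest open on which a homomorphism of group schemes is universally open is a subgroup
-/

set_option autoImplicit false
set_option linter.unusedVariables false
set_option linter.unusedSectionVars false
set_option linter.style.haveILetI false

open CategoryTheory CategoryTheory.Limits MonoidalCategory CartesianMonoidalCategory MonObj GrpObj
  AlgebraicGeometry TopologicalSpace Topology

universe u

namespace Groth.Agent.Lib.T2H3.MaxOpenUO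

open Groth.Agent.Lib.Helper3.GrpHomQF Groth.Agent.Lib.Helper3.GrpFibDim

section general

/-- universal openness descends along a surjective morphism on the source. -/
theorem universallyOpen_of_comp_surjective {A M Z : Scheme.{u}} (a : A ⟶ M) (k : M ⟶ Z)
    [Surjective a] [UniversallyOpen (a ≫ k)] : UniversallyOpen k := by
  rw [UniversallyOpen.eq]
  intro M' T i₁ i₂ k' hpb
  -- base change of `a`
  have hA : IsPullback (pullback.fst i₁ a) (pullback.snd i₁ a) i₁ a := IsPullback.of_hasPullback i₁ a
  have hbig : IsPullback (pullback.fst i₁ a ≫ k') (pullback.snd i₁ a) i₂ (a ≫ k) :=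
    hA.paste_horiz hpb
  haveI : UniversallyOpen (pullback.fst i₁ a ≫ k') :=
    MorphismProperty.of_isPullback (P := @UniversallyOpen) hbig.flip inferInstance
  haveI : Surjective (pullback.fst i₁ a) :=
    MorphismProperty.of_isPullback (P := @Surjective) hA.flip inferInstance
  intro O hO
  have h1 : (k' '' O : Set T) = (pullback.fst i₁ a ≫ k') '' ((pullback.fst i₁ a) ⁻¹' O) := by
    rw [Scheme.Hom.comp_base, TopCat.coe_comp, Set.image_comp,
      Set.image_preimage_eq _ (pullback.fst i₁ a).surjective]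
  rw [h1]
  exact (pullback.fst i₁ a ≫ k').isOpenMap _ (hO.preimage (pullback.fst i₁ a).continuous)

/-- cancelling a monomorphism on the right. -/
theorem universallyOpen_of_comp_mono {A M Z : Scheme.{u}} (k : A ⟶ M) (j : M ⟶ Z) [Mono j]
    [UniversallyOpen (k ≫ j)] : UniversallyOpen k := by
  have hpb : IsPullback (𝟙 A) k (k ≫ j) j :=
    IsPullback.of_isLimit' ⟨by simp⟩ (PullbackCone.IsLimit.mk _ (fun s => s.fst)
      (fun s => by simp) (fun s => by rw [← cancel_mono j]; simpa using s.condition)
      (fun s m h1 h2 => by simpa using h1))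
  exact MorphismProperty.of_isPullback (P := @UniversallyOpen) hpb inferInstance

/-- restriction to a smaller open. -/
theorem universallyOpen_ι_comp_of_le {X Z : Scheme.{u}} (f : X ⟶ Z) {O O' : X.Opens} (h : O ≤ O')
    [UniversallyOpen (O'.ι ≫ f)] : UniversallyOpen (O.ι ≫ f) := by
  rw [← X.homOfLE_ι h, Category.assoc]
  infer_instance

/-- factoring a universally open morphism through its (open) range. -/
theorem exists_range_factorization {A Z : Scheme.{u}} (a : A ⟶ Z) [UniversallyOpen a] :
    ∃ (M : Z.Opens) (a' : A ⟶ M), a' ≫ M.ι = a ∧ Surjective a' ∧ (M : Set Z) = Set.range a := by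
  let M : Z.Opens := ⟨Set.range a, a.isOpenMap.isOpen_range⟩
  have hr : Set.range a ⊆ Set.range M.ι := by
    rw [Scheme.Opens.range_ι]
    exact subset_rfl
  refine ⟨M, IsOpenImmersion.lift M.ι a hr, IsOpenImmersion.lift_fac _ _ _, ⟨?_⟩, rfl⟩
  intro m
  obtain ⟨x, hx⟩ : M.ι m ∈ Set.range a := m.2
  refine ⟨x, ?_⟩
  apply M.ι.injective
  rw [← Scheme.Hom.comp_apply, IsOpenImmersion.lift_fac]
  exact hx

end general

section group

variable {S : Scheme.{u}} (G H : Over S) [GrpObj G] [GrpObj H] (u : G ⟶ H) [IsMonHom u]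
  (V : G.left.Opens)

omit [GrpObj G] in
/-- the projection `K ×_S G → K` is universally open on opens lying over `V` when `V → S` is. -/
theorem universallyOpen_fst_of_le (K : Over S) [UniversallyOpen (V.ι ≫ G.hom)]
    (O' : (K ⊗ G).left.Opens) (hO' : O' ≤ (snd K G).left ⁻¹ᵁ V) :
    UniversallyOpen (O'.ι ≫ (fst K G).left) := by
  have hr : IsPullback (snd K G).left (fst K G).left G.hom K.hom :=
    (IsPullback.of_hasPullback K.hom G.hom).flip
  have htop : IsPullback ((snd K G).left ∣_ V) ((snd K G).left ⁻¹ᵁ V).ι V.ι (snd K G).left :=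
    isPullback_morphismRestrict _ V
  have hbig := htop.paste_vert hr
  haveI : UniversallyOpen (((snd K G).left ⁻¹ᵁ V).ι ≫ (fst K G).left) :=
    MorphismProperty.of_isPullback (P := @UniversallyOpen) hbig inferInstance
  exact universallyOpen_ι_comp_of_le _ hO'

omit [GrpObj G] [GrpObj H] [IsMonHom u] in
/-- `u × id` is the base change of `u` along the first projection. -/
theorem isPullback_whiskerRight' :
    IsPullback (fst G G).left (u ▷ G).left u.left (fst H G).left := by
  have hr : IsPullback (snd H G).left (fst H G).left G.hom H.hom :=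
    (IsPullback.of_hasPullback H.hom G.hom).flip
  have h1 : (u ▷ G).left ≫ (snd H G).left = (snd G G).left := by
    rw [← Over.comp_left, whiskerRight_snd]
  have h2 : (u ▷ G).left ≫ (fst H G).left = (fst G G).left ≫ u.left := by
    rw [← Over.comp_left, whiskerRight_fst, Over.comp_left]
  have ho : IsPullback ((u ▷ G).left ≫ (snd H G).left) (fst G G).left G.hom (u.left ≫ H.hom) := by
    rw [h1, Over.w u]
    exact (IsPullback.of_hasPullback G.hom G.hom).flip
  exact (IsPullback.of_right ho h2 hr).flip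

omit [GrpObj G] [GrpObj H] [IsMonHom u] in
theorem universallyOpen_whiskerRight [UniversallyOpen (V.ι ≫ u.left)]
    (O : (G ⊗ G).left.Opens) (hO : O ≤ (fst G G).left ⁻¹ᵁ V) :
    UniversallyOpen (O.ι ≫ (u ▷ G).left) := by
  have htop : IsPullback ((fst G G).left ∣_ V) ((fst G G).left ⁻¹ᵁ V).ι V.ι (fst G G).left :=
    isPullback_morphismRestrict _ V
  have hbig := htop.paste_vert (isPullback_whiskerRight' G H u)
  haveI : UniversallyOpen (((fst G G).left ⁻¹ᵁ V).ι ≫ (u ▷ G).left) :=
    MorphismProperty.of_isPullback (P := @UniversallyOpen) hbig inferInstance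
  exact universallyOpen_ι_comp_of_le _ hO

/-- composing an open inclusion with an isomorphism. -/
theorem ι_comp_iso {X Y : Scheme.{u}} (e : X ⟶ Y) [IsIso e] (O : X.Opens) :
    O.ι ≫ e = (e.isoImage O).hom ≫ (e ''ᵁ O).ι :=
  (Scheme.Hom.isoImage_hom_ι e O).symm

/-- **multiplicativity** of the largest open on which `u` is universally open. -/
theorem mul_mem [UniversallyOpen (V.ι ≫ u.left)] [UniversallyOpen (V.ι ≫ G.hom)]
    (hmax : ∀ W : G.left.Opens, UniversallyOpen (W.ι ≫ u.left) → W ≤ V)
    (z : ↥(G ⊗ G).left) (h1 : (fst G G).left z ∈ V) (h2 : (snd G G).left z ∈ V) :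
    μ[G].left z ∈ V := by
  obtain ⟨O, hOdef⟩ : ∃ O : (G ⊗ G).left.Opens,
      O = (fst G G).left ⁻¹ᵁ V ⊓ (snd G G).left ⁻¹ᵁ V := ⟨_, rfl⟩
  have hO1 : O ≤ (fst G G).left ⁻¹ᵁ V := hOdef ▸ inf_le_left
  have hO2 : O ≤ (snd G G).left ⁻¹ᵁ V := hOdef ▸ inf_le_right
  have hzO : z ∈ O := by rw [hOdef]; exact ⟨h1, h2⟩
  -- the shears
  obtain ⟨e, he⟩ : ∃ e : (G ⊗ G).left ⟶ (G ⊗ G).left, e = (shearIso' G).hom.left := ⟨_, rfl⟩
  haveI : IsIso e := by rw [he]; infer_instance
  obtain ⟨e', he'⟩ : ∃ e' : (H ⊗ G).left ⟶ (H ⊗ G).left, e' = (shearHom u).hom.left := ⟨_, rfl⟩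
  haveI : IsIso e' := by rw [he']; infer_instance
  have hefst : e ≫ (fst G G).left = μ[G].left := by
    rw [he, ← Over.comp_left]
    congr 1
    simp [shearIso', fst_mul_snd]
  have hesnd : e ≫ (snd G G).left = (snd G G).left := by
    rw [he, ← Over.comp_left]
    congr 1
    simp [shearIso']
  have he'snd : e' ≫ (snd H G).left = (snd H G).left := by
    rw [he', ← Over.comp_left]
    congr 1
    simp [shearHom]
  have hwsnd : (u ▷ G).left ≫ (snd H G).left = (snd G G).left := by
    rw [← Over.comp_left, whiskerRight_snd]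
  have hmu : μ[G].left ≫ u.left = (u ▷ G).left ≫ e' ≫ (fst H G).left := by
    have hc := congrArg (fun f => f.left) (shear_comm u)
    simp only [Over.comp_left] at hc
    rw [← hefst, he, he', Category.assoc]
    have h2 : (fst G G).left ≫ u.left = (u ▷ G).left ≫ (fst H G).left := by
      rw [← Over.comp_left, ← Over.comp_left, whiskerRight_fst]
    rw [h2, ← Category.assoc, hc, Category.assoc]
  -- `a` is universally open
  have hUOa : UniversallyOpen (O.ι ≫ μ[G].left) := by
    rw [← hefst, ← Category.assoc, ι_comp_iso e O, Category.assoc]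
    haveI : UniversallyOpen ((e ''ᵁ O).ι ≫ (fst G G).left) := by
      apply universallyOpen_fst_of_le G V G
      rintro w ⟨o, ho, rfl⟩
      show (snd G G).left (e o) ∈ V
      rw [← Scheme.Hom.comp_apply, hesnd]
      exact hO2 ho
    infer_instance
  -- `a ≫ u` is universally open
  have hUOau : UniversallyOpen ((O.ι ≫ μ[G].left) ≫ u.left) := by
    rw [Category.assoc, hmu, ← Category.assoc]
    haveI hb : UniversallyOpen (O.ι ≫ (u ▷ G).left) := universallyOpen_whiskerRight G H u V O hO1
    obtain ⟨R, b', hb'fac, hb'surj, hR⟩ := exists_range_factorization (O.ι ≫ (u ▷ G).left)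
    haveI : UniversallyOpen (b' ≫ R.ι) := by rw [hb'fac]; exact hb
    haveI : UniversallyOpen b' := universallyOpen_of_comp_mono b' R.ι
    rw [← hb'fac, Category.assoc, ← Category.assoc R.ι, ι_comp_iso e' R, Category.assoc]
    haveI : UniversallyOpen ((e' ''ᵁ R).ι ≫ (fst H G).left) := by
      apply universallyOpen_fst_of_le G V H
      rintro w ⟨r, hr, rfl⟩
      show (snd H G).left (e' r) ∈ V
      rw [← Scheme.Hom.comp_apply, he'snd]
      have hr' : r ∈ Set.range (O.ι ≫ (u ▷ G).left) := by rw [← hR]; exact hr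
      obtain ⟨o, rfl⟩ := hr'
      rw [← Scheme.Hom.comp_apply, Category.assoc, hwsnd, Scheme.Hom.comp_apply]
      exact hO2 o.2
    infer_instance
  -- conclusion
  obtain ⟨M, a', hfac, hsurj, hM⟩ := exists_range_factorization (O.ι ≫ μ[G].left)
  haveI : UniversallyOpen (a' ≫ M.ι ≫ u.left) := by
    rw [← Category.assoc, hfac]; exact hUOau
  have hMle : M ≤ V := hmax M (universallyOpen_of_comp_surjective a' (M.ι ≫ u.left))
  apply hMle
  show μ[G].left z ∈ (M : Set G.left)
  rw [hM]
  exact ⟨⟨z, hzO⟩, rfl⟩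

end group

section group2

variable {S : Scheme.{u}} (G H : Over S) [GrpObj G] [GrpObj H] (u : G ⟶ H) [IsMonHom u]
  (V : G.left.Opens)

/-- stability under inversion. -/
theorem inv_mem [UniversallyOpen (V.ι ≫ u.left)]
    (hmax : ∀ W : G.left.Opens, UniversallyOpen (W.ι ≫ u.left) → W ≤ V)
    (g : G.left) (hg : g ∈ V) : ι[G].left g ∈ V := by
  haveI : IsIso ι[G].left := inferInstanceAs (IsIso ((Over.forget S).map ι[G]))
  haveI : IsIso ι[H].left := inferInstanceAs (IsIso ((Over.forget S).map ι[H]))
  have hinv : ι[G].left ≫ u.left = u.left ≫ ι[H].left := by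
    rw [← Over.comp_left, ← Over.comp_left, GrpObj.inv_hom]
  have hUO : UniversallyOpen ((ι[G].left ⁻¹ᵁ V).ι ≫ u.left) := by
    have h1 : ((ι[G].left ⁻¹ᵁ V).ι ≫ u.left) ≫ ι[H].left =
        (ι[G].left ∣_ V) ≫ V.ι ≫ u.left := by
      rw [Category.assoc, ← hinv, ← Category.assoc, ← morphismRestrict_ι, Category.assoc]
    have h2 : UniversallyOpen (((ι[G].left ⁻¹ᵁ V).ι ≫ u.left) ≫ ι[H].left) := by
      rw [h1]; infer_instance
    exact (MorphismProperty.cancel_right_of_respectsIso @UniversallyOpen _ ι[H].left).mp h2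
  have hle := hmax _ hUO
  apply hle
  show ι[G].left (ι[G].left g) ∈ V
  rw [← Scheme.Hom.comp_apply, ← Over.comp_left, GrpObj.inv_comp_inv]
  exact hg

/-- the unit points of the fibres met by `V` lie in `V`. -/
theorem unit_mem [UniversallyOpen (V.ι ≫ u.left)] [UniversallyOpen (V.ι ≫ G.hom)]
    (hmax : ∀ W : G.left.Opens, UniversallyOpen (W.ι ≫ u.left) → W ≤ V)
    (g : G.left) (hg : g ∈ V) : η[G].left ((toUnit G).left g) ∈ V := by
  have h := mul_mem G H u V hmax ((lift (𝟙 G) ι[G]).left g)
    (by rw [← Scheme.Hom.comp_apply, ← Over.comp_left, lift_fst]; exact hg)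
    (by
      rw [← Scheme.Hom.comp_apply, ← Over.comp_left, lift_snd]
      exact inv_mem G H u V hmax g hg)
  rw [← Scheme.Hom.comp_apply, ← Over.comp_left] at h
  have hl : lift (𝟙 G) ι[G] ≫ μ[G] = toUnit G ≫ η[G] := by
    have := GrpObj.lift_comp_inv_right (𝟙 G)
    simp only [Category.id_comp] at this
    exact this
  rw [hl, Over.comp_left, Scheme.Hom.comp_apply] at h
  exact h

end group2

end Groth.Agent.Lib.T2H3.MaxOpenUO
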