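import Mathlib
import Groth.Prelude.Def_PicF2
import Groth.Prelude.Def_SecTwist
import Groth.Agent.Lib.Helper23SecTw6
import Groth.Agent.Lib.Helper23FinType2
import Groth.Agent.Lib.Helper2QCoh
import Groth.Agent.Lib.Helper20ZClos20

/-!
# The zero scheme of a section of an invertible module: the ideals on affine opens
-/

set_option autoImplicit false
set_option linter.style.haveILetI false
universe u
open CategoryTheory CategoryTheory.Limits AlgebraicGeometry TopologicalSpace Opposite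

namespace Groth.Agent.Lib.T2H3.ZeroScheme

open Groth.Agent.Lib.Helper23.SecTw Groth.Agent.Lib.Helper6 Groth.Agent.Lib.Helper23.GenLocus

variable {X : Scheme.{u}} (L : X.Modules) (s : Coh.structureModule X ⟶ L)

/-- `PicF2.zeroIdealOn` typed as an ideal of `Γ(X, U)`. -/
noncomputable def zI (U : X.Opens) : Ideal Γ(X, U) := PicF2.zeroIdealOn L s U

theorem mem_zI {U : X.Opens} {a : Γ(X, U)} :
    a ∈ zI L s U ↔ ∀ m : Γ(L, U), ∃ b : Γ(X, U), a • m = b • sv s U := Iff.rfl

theorem zI_eq_span {W : X.Opens} {e : Γ(L, W)} (he : IsGen L W e) {c : Γ(X, W)}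
    (hc : sv s W = c • e) : zI L s W = Ideal.span {c} := by
  have hinj := (he W le_rfl).1
  have hsurj := (he W le_rfl).2
  have hres : res L (le_refl W) e = e := res_self L e
  ext a
  rw [Ideal.mem_span_singleton', mem_zI]
  constructor
  · intro ha
    obtain ⟨b, hb⟩ := ha e
    refine ⟨b, ?_⟩
    apply hinj
    change (b * c) • res L (le_refl W) e = a • res L (le_refl W) e
    rw [hres, hb, hc, mul_smul]
  · rintro ⟨b, rfl⟩ m
    obtain ⟨r, hr⟩ := hsurj m
    have hr' : r • e = m := by rw [← hres]; exact hr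
    refine ⟨b * r, ?_⟩
    rw [← hr', hc, smul_smul, smul_smul]
    congr 1
    ring

section QC

variable [L.IsQuasicoherent]

theorem resf_mem_zI {U : X.Opens} (hU : IsAffineOpen U) (f : Γ(X, U)) {a : Γ(X, U)}
    (ha : a ∈ zI L s U) : resf (X.basicOpen_le f) a ∈ zI L s (X.basicOpen f) := by
  rw [mem_zI]
  intro m'
  obtain ⟨n, m, hm⟩ := Groth.Agent.Lib.Helper2.QCoh.exists_extension hU L f m'
  obtain ⟨b, hb⟩ := (mem_zI L s).1 ha m
  have hu : IsUnit (resf (X.basicOpen_le f) f) := RingedSpace.isUnit_res_basicOpen _ f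
  obtain ⟨w, hw⟩ := hu.pow n
  have hm' : res L (X.basicOpen_le f) m = (w : Γ(X, X.basicOpen f)) • m' := by rw [hw]; exact hm
  have h1 : resf (X.basicOpen_le f) a • res L (X.basicOpen_le f) m =
      resf (X.basicOpen_le f) b • sv s (X.basicOpen f) := by
    rw [← res_smul, hb, res_smul, res_sv]
  refine ⟨((w⁻¹ : (Γ(X, X.basicOpen f))ˣ) : Γ(X, X.basicOpen f)) * resf (X.basicOpen_le f) b, ?_⟩
  calc resf (X.basicOpen_le f) a • m'
      = (((w⁻¹ : (Γ(X, X.basicOpen f))ˣ) : Γ(X, X.basicOpen f)) * (w : Γ(X, X.basicOpen f))) •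
          (resf (X.basicOpen_le f) a • m') := by rw [Units.inv_mul, one_smul]
    _ = ((w⁻¹ : (Γ(X, X.basicOpen f))ˣ) : Γ(X, X.basicOpen f)) •
          (resf (X.basicOpen_le f) a • ((w : Γ(X, X.basicOpen f)) • m')) := by
        rw [mul_smul, smul_comm (w : Γ(X, X.basicOpen f)) (resf (X.basicOpen_le f) a) m']
    _ = ((w⁻¹ : (Γ(X, X.basicOpen f))ˣ) : Γ(X, X.basicOpen f)) •
          (resf (X.basicOpen_le f) b • sv s (X.basicOpen f)) := by rw [← hm', h1]
    _ = _ := by rw [mul_smul]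

theorem exists_pow_mul_smul_eq {U : X.Opens} (hU : IsAffineOpen U) (f : Γ(X, U)) {a : Γ(X, U)}
    (ha : resf (X.basicOpen_le f) a ∈ zI L s (X.basicOpen f)) (m : Γ(L, U)) :
    ∃ (N : ℕ) (b : Γ(X, U)), (f ^ N * a) • m = b • sv s U := by
  haveI : IsLocalization.Away f Γ(X, X.basicOpen f) := hU.isLocalization_basicOpen f
  obtain ⟨b', hb'⟩ := (mem_zI L s).1 ha (res L (X.basicOpen_le f) m)
  obtain ⟨⟨b, ⟨_, n, rfl⟩⟩, hbn⟩ := IsLocalization.surj (Submonoid.powers f) b'
  have hbn' : b' * resf (X.basicOpen_le f) (f ^ n) = resf (X.basicOpen_le f) b := hbn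
  have h0 : res L (X.basicOpen_le f) ((f ^ n * a) • m - b • sv s U) = 0 := by
    rw [res_sub, res_smul, res_smul, res_sv, resf_mul, mul_smul, hb', ← hbn', smul_smul, mul_comm,
      sub_self]
  obtain ⟨k, hk⟩ := Groth.Agent.Lib.Helper2.QCoh.exists_pow_smul_eq_zero hU L f _ h0
  refine ⟨k + n, f ^ k * b, ?_⟩
  rw [smul_sub, sub_eq_zero] at hk
  rw [pow_add, mul_assoc, mul_smul, hk, mul_smul]

theorem mem_map_of_mem_zI_basicOpen {U : X.Opens} (hU : IsAffineOpen U)
    [Module.Finite Γ(X, U) Γ(L, U)] (f : Γ(X, U)) {y : Γ(X, X.basicOpen f)}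
    (hy : y ∈ zI L s (X.basicOpen f)) :
    y ∈ (zI L s U).map (X.presheaf.map (homOfLE (X.basicOpen_le f)).op).hom := by
  classical
  haveI : IsLocalization.Away f Γ(X, X.basicOpen f) := hU.isLocalization_basicOpen f
  obtain ⟨a, ⟨_, n, rfl⟩, rfl⟩ := IsLocalization.exists_mk'_eq (Submonoid.powers f) y
  have ha : resf (X.basicOpen_le f) a ∈ zI L s (X.basicOpen f) := by
    have h1 := Ideal.mul_mem_right (resf (X.basicOpen_le f) (f ^ n)) _ hy
    have h2 : IsLocalization.mk' Γ(X, X.basicOpen f) a (⟨f ^ n, n, rfl⟩ : Submonoid.powers f) *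
        resf (X.basicOpen_le f) (f ^ n) = resf (X.basicOpen_le f) a :=
      IsLocalization.mk'_spec _ a (⟨f ^ n, n, rfl⟩ : Submonoid.powers f)
    rwa [h2] at h1
  change IsLocalization.mk' Γ(X, X.basicOpen f) a (⟨f ^ n, n, rfl⟩ : Submonoid.powers f) ∈
    Ideal.map (algebraMap Γ(X, U) Γ(X, X.basicOpen f)) (zI L s U)
  rw [IsLocalization.mk'_mem_map_algebraMap_iff]
  obtain ⟨G, hG⟩ := (Module.Finite.fg_top : (⊤ : Submodule Γ(X, U) Γ(L, U)).FG)
  choose N b hN using exists_pow_mul_smul_eq L s hU f ha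
  refine ⟨f ^ (G.sup N), ⟨_, rfl⟩, ?_⟩
  rw [mem_zI]
  intro m
  have hm : m ∈ Submodule.span Γ(X, U) (G : Set Γ(L, U)) := hG ▸ Submodule.mem_top
  induction hm using Submodule.span_induction with
  | mem x hx =>
    have hle : N x ≤ G.sup N := Finset.le_sup hx
    refine ⟨f ^ (G.sup N - N x) * b x, ?_⟩
    calc (f ^ G.sup N * a) • x = (f ^ (G.sup N - N x) * (f ^ N x * a)) • x := by
          rw [← mul_assoc, ← pow_add, Nat.sub_add_cancel hle]
      _ = f ^ (G.sup N - N x) • ((f ^ N x * a) • x) := mul_smul _ _ _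
      _ = f ^ (G.sup N - N x) • (b x • sv s U) := by rw [hN x]
      _ = _ := (mul_smul _ _ _).symm
  | zero => exact ⟨0, by rw [smul_zero, zero_smul]⟩
  | add x y _ _ hx hy =>
    obtain ⟨bx, hbx⟩ := hx
    obtain ⟨by', hby⟩ := hy
    exact ⟨bx + by', by rw [smul_add, hbx, hby, add_smul]⟩
  | smul r x _ hx =>
    obtain ⟨bx, hbx⟩ := hx
    exact ⟨r * bx, by rw [smul_comm, hbx, mul_smul]⟩

end QC

/-- the ideal sheaf of the zero scheme. -/
noncomputable def zSheaf (hL : PicF.IsInvertible L) : X.IdealSheafData where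
  ideal V := zI L s V.1
  map_ideal_basicOpen V f := by
    haveI : L.IsQuasicoherent := isQuasicoherent_of_isInvertible L hL
    haveI : SheafOfModules.IsFiniteType (R := X.ringCatSheaf) L :=
      Groth.Agent.Lib.Helper20.ZClosLib.isFiniteType_of_isInvertible L hL
    haveI : Module.Finite Γ(X, V.1) Γ(L, V.1) :=
      Groth.Agent.Lib.Helper23.FinType.finite_of_isFiniteType L V.2
    apply le_antisymm
    · rw [Ideal.map_le_iff_le_comap]
      intro a ha
      exact resf_mem_zI L s V.2 f ha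
    · intro y hy
      exact mem_map_of_mem_zI_basicOpen L s V.2 f hy

theorem zeroScheme_eq (hL : PicF.IsInvertible L) : PicF2.zeroScheme L s = zSheaf L s hL :=
  Scheme.IdealSheafData.ofIdeals_ideal (zSheaf L s hL)

theorem zeroScheme_ideal (hL : PicF.IsInvertible L) (V : X.affineOpens) :
    (PicF2.zeroScheme L s).ideal V = zI L s V.1 := by
  rw [zeroScheme_eq L s hL]
  rfl

end Groth.Agent.Lib.T2H3.ZeroScheme
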