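import Mathlib
import Groth.Agent.Lib.T2H3ZeroScheme
import Groth.Agent.Lib.T2H3IntInv
import Groth.Agent.Lib.T2H3DualFrame
import Groth.Agent.Lib.Helper20MeroDivIso

/-!
# The divisor of the zero scheme of a section of an invertible module on an integral scheme
-/

set_option autoImplicit false
set_option linter.style.haveILetI false
universe u
open CategoryTheory CategoryTheory.Limits AlgebraicGeometry TopologicalSpace Opposite

namespace Groth.Agent.Lib.T2H3.MeroZero

open Groth.Agent.Lib.Helper23.SecTw Groth.Agent.Lib.Helper6 Groth.Agent.Lib.Helper23.GenLocus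
open Groth.Agent.Lib.T2H3.ZeroScheme Groth.Agent.Lib.T2H3.IntInv
open Mero Groth.Agent.Lib.Helper20.MeroDivIso Groth.Agent.Lib.Helper20.RegMero
open Groth.Agent.Lib.Helper20.Kmod

variable {X : Scheme.{u}} [IsIntegral X]

/-- on an integral scheme the stalk monoids are all the nonzerodivisors. -/
theorem regStalk_eq (x : X) : regStalk X x = nonZeroDivisors (X.presheaf.stalk x) := by
  apply le_antisymm (regStalk_le_nonZeroDivisors x)
  intro g hg
  obtain ⟨V, hxV, r, rfl⟩ := X.presheaf.exists_germ_eq g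
  refine ⟨V, hxV, r, fun y => ?_, rfl⟩
  haveI : Nonempty V := ⟨⟨x, hxV⟩⟩
  have hr : r ≠ 0 := by
    rintro rfl
    rw [map_zero] at hg
    exact zero_notMem_nonZeroDivisors hg
  apply mem_nonZeroDivisors_of_ne_zero
  intro h0
  apply hr
  apply germ_injective_of_isIntegral X y.1 y.2
  rw [h0, map_zero]

/-- a nonzero section over a nonempty open is regular. -/
theorem mem_regSub_of_ne_zero {V : X.Opens} {r : Γ(X, V)} (hr : r ≠ 0) : r ∈ regSub X V := by
  intro y
  apply mem_nonZeroDivisors_of_ne_zero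
  intro h0
  apply hr
  apply germ_injective_of_isIntegral X y.1 y.2
  rw [h0, map_zero]

variable {L : X.Modules} (hL : PicF.IsInvertible L) (s : Coh.structureModule X ⟶ L)

/-- the meromorphic section attached to a global section. -/
noncomputable def smer : Γ(merMod L, ⊤) := toMerFun L ⊤ (sv s ⊤)

omit [IsIntegral X] in
theorem smer_apply (x : X) : (smer s).1 ⟨x, Opens.mem_top x⟩ =
    LocalizedModule.mk (L.presheaf.germ ⊤ x (Opens.mem_top x) (sv s ⊤)) 1 := rfl

include hL in
theorem germ_sv_ne_zero (hs : s ≠ 0) (x : X) :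
    L.presheaf.germ ⊤ x (Opens.mem_top x) (sv s ⊤) ≠ 0 := by
  intro h0
  have h1 : L.presheaf.germ ⊤ x (Opens.mem_top x) (sv s ⊤) =
      L.presheaf.germ ⊤ x (Opens.mem_top x) 0 := by rw [h0, map_zero]
  obtain ⟨W, hxW, iU, iV, hUV⟩ := TopCat.Presheaf.germ_eq L.presheaf x _ _ _ _ h1
  apply sv_ne_zero hL s hs (V := W) ⟨x, hxW⟩
  rw [← res_sv s (le_top : W ≤ ⊤)]
  have : res L (le_top : W ≤ ⊤) (sv s ⊤) = L.presheaf.map iU.op (sv s ⊤) := rfl
  rw [this, hUV, map_zero]

include hL in
theorem isRegularMero_smer (hs : s ≠ 0) : IsRegularMero L (smer s) := by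
  intro x q hq
  obtain ⟨g, hg⟩ := exists_isGen L hL x
  obtain ⟨c, hc⟩ := hg.2 (L.presheaf.germ ⊤ x (Opens.mem_top x) (sv s ⊤))
  have hc' : c • g = L.presheaf.germ ⊤ x (Opens.mem_top x) (sv s ⊤) := hc
  have hc0 : c ≠ 0 := by
    rintro rfl
    rw [zero_smul] at hc'
    exact germ_sv_ne_zero hL s hs x hc'.symm
  induction q using Localization.induction_on with
  | H ab =>
    obtain ⟨a, b⟩ := ab
    rw [smer_apply, LocalizedModule.mk_smul_mk, ← LocalizedModule.zero_mk (1 : regStalk X x),
      LocalizedModule.mk_eq] at hq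
    obtain ⟨u, hu⟩ := hq
    rw [smul_zero, smul_zero, one_smul, ← hc'] at hu
    have hu' : ((u : X.presheaf.stalk x) * a * c) • g = (0 : X.presheaf.stalk x) • g := by
      rw [zero_smul, mul_smul, mul_smul]
      exact hu
    have h0 : (u : X.presheaf.stalk x) * a * c = 0 := hg.1 hu'
    have hu0 : (u : X.presheaf.stalk x) ≠ 0 :=
      nonZeroDivisors.ne_zero (regStalk_le_nonZeroDivisors x u.2)
    have ha : a = 0 := by
      rcases mul_eq_zero.1 h0 with h | h
      · exact (mul_eq_zero.1 h).resolve_left hu0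
      · exact absurd h hc0
    rw [ha]
    exact Localization.mk_zero b

include hL in
theorem setup (hs : s ≠ 0) : Setup L (smer s) :=
  ⟨regStalk_eq, hL, isRegularMero_smer hL s hs⟩

omit [IsIntegral X] in
/-- a frame generates every stalk (in the form used by `Helper20`). -/
theorem isGen_germ {W : X.Opens} {e : Γ(L, W)} (he : Groth.Agent.Lib.Helper23.SecTw.IsGen L W e)
    (y : X) (hy : y ∈ W) :
    Groth.Agent.Lib.Helper20.RegMero.IsGen L y (L.presheaf.germ W y hy e) :=
  Groth.Agent.Lib.T2H3.DualFrame.bijective_smul_germ he y hy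

include hL in
/-- the local structure of `smer s` attached to a frame. -/
noncomputable def lsOfFrame (hs : s ≠ 0) {W : X.Opens} {e : Γ(L, W)}
    (he : Groth.Agent.Lib.Helper23.SecTw.IsGen L W e) (hW : (W : Set X).Nonempty) :
    LS L (smer s) where
  V := W
  t := e
  ht := isGen_germ he
  a := coef he le_rfl (sv s W)
  b := 1
  ha := mem_regSub_of_ne_zero (coef_ne_zero hL s hs he le_rfl hW)
  hb := Submonoid.one_mem _
  hs := by
    intro y hy
    rw [smer_apply]
    refine mk_congr ?_ ?_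
    · rw [← sv_eq_coef_smul s he, ← res_sv s (le_top : W ≤ ⊤)]
      exact (TopCat.Presheaf.germ_res_apply L.presheaf (homOfLE (le_top : W ≤ ⊤)) y hy _).symm
    · change (1 : X.presheaf.stalk y) = X.presheaf.germ W y hy (1 : Γ(X, W))
      rw [map_one]

omit [IsIntegral X] in
theorem invReg_one (W : X.Opens) :
    Groth.Agent.Lib.Helper20.Kmod.invReg (⟨1, Submonoid.one_mem _⟩ : regSub X W) = 1 := by
  have h := Groth.Agent.Lib.Helper20.Kmod.toK_mul_invReg (⟨1, Submonoid.one_mem _⟩ : regSub X W)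
  rwa [map_one, one_mul] at h

include hL in
/-- the divisor of `smer s` on a frame is the class of the coefficient. -/
theorem divisor_eq_of_frame (hs : s ≠ 0) {W : X.Opens} {e : Γ(L, W)}
    (he : Groth.Agent.Lib.Helper23.SecTw.IsGen L W e) (hW : (W : Set X).Nonempty) (y : W) :
    (divisor (setup hL s hs)).1 y.1 = QuotientGroup.mk (IsLocalization.map_units (KStalk X y.1)
      (regGerm y ⟨coef he le_rfl (sv s W),
        mem_regSub_of_ne_zero (coef_ne_zero hL s hs he le_rfl hW)⟩)).unit := by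
  rw [divisor_apply (setup hL s hs) (lsOfFrame hL s hs he hW) y.1 y.2]
  change QuotientGroup.mk _ = _
  congr 1
  apply Units.ext
  change (toK X W (coef he le_rfl (sv s W)) *
    Groth.Agent.Lib.Helper20.Kmod.invReg (⟨1, Submonoid.one_mem _⟩ : regSub X W)).1 y = _
  rw [invReg_one, mul_one]
  rfl

include hL in
theorem isDivOfIdeal_divisor (hs : s ≠ 0) :
    IsDivOfIdeal (divisor (setup hL s hs)) (PicF2.zeroScheme L s) := by
  intro x
  obtain ⟨W, e, hxW, hWaff, he⟩ := Groth.Agent.Lib.Helper23.PB.exists_affine_gen L hL x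
  have hW : (W : Set X).Nonempty := ⟨x, hxW⟩
  refine ⟨⟨W, hWaff⟩, hxW, coef he le_rfl (sv s W),
    mem_regSub_of_ne_zero (coef_ne_zero hL s hs he le_rfl hW), ?_, ?_⟩
  · rw [zeroScheme_ideal L s hL ⟨W, hWaff⟩]
    exact zI_eq_span L s he (sv_eq_coef_smul s he)
  · intro y
    exact divisor_eq_of_frame hL s hs he hW y

include hL in
theorem main (hs : s ≠ 0) :
    ∃ D : Mero.Divisor X, Mero.IsDivOfIdeal D (PicF2.zeroScheme L s) ∧
      ∃ e : L ≅ Mero.divMod D,
        (Mero.divModι D).app ⊤ (e.hom.app ⊤ (SecTwist.val s ⊤)) = 1 := by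
  set H := setup hL s hs with hH
  refine ⟨divisor H, isDivOfIdeal_divisor hL s hs, ?_⟩
  have h1 : ∀ (U : X.Opens) (m : Γ(L, U)), (divLoc X (divisor H)).pred
      (fun x : U => quot H x.1 (L.presheaf.germ U x.1 x.2 m)) :=
    fun U m => ⟨kLoc_quot H U m, fun x => divCond_quot H x.1 _⟩
  have hiso : IsIso (toModOf (divLoc X (divisor H)) L (quot H) h1) :=
    isIso_toModOf (divLoc X (divisor H)) L (quot H) h1 (quot_injective H)
      (fun U f hf x => exists_local_preimage H U f hf x)
  refine ⟨@asIso _ _ _ _ _ hiso, ?_⟩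
  apply kmod_ext
  intro x
  change quot H x.1 (L.presheaf.germ ⊤ x.1 x.2 (sv s ⊤)) = 1
  apply smul_injective H.hs x.1
  rw [quot_spec, one_smul]
  rfl

end Groth.Agent.Lib.T2H3.MeroZero
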