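import Mathlib
import Groth.Agent.Lib.T2H3MeroZero
import Groth.Agent.Lib.T2H3DivModFrame
import Groth.Agent.Lib.Helper23PB

/-!
# Effective divisors: the canonical section of `O_X(D)` and its zero scheme
-/

set_option autoImplicit false
set_option linter.style.haveILetI false
universe u
open CategoryTheory CategoryTheory.Limits AlgebraicGeometry TopologicalSpace Opposite

namespace Groth.Agent.Lib.T2H3.MeroEff

open Groth.Agent.Lib.Helper23.SecTw Groth.Agent.Lib.Helper6 Groth.Agent.Lib.Helper23.GenLocus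
open Groth.Agent.Lib.T2H3.ZeroScheme Groth.Agent.Lib.T2H3.IntInv
open Mero Groth.Agent.Lib.Helper20.Kmod Groth.Agent.Lib.Helper20.Kmod5 Groth.Agent.S5097
open Groth.Agent.S5096 Groth.Agent.Lib.T2H3.DivModFrame Groth.Agent.Lib.Helper23.Extend

variable {X : Scheme.{u}}

/-- A representative of an effective germ lies in the local ring. -/
theorem mem_range_of_effectiveAt {D : Divisor X} {x : X} (hD : IsEffectiveAt D x)
    (g : (KStalk X x)ˣ) (hg : D.1 x = QuotientGroup.mk g) :
    (g : KStalk X x) ∈ (algebraMap (X.presheaf.stalk x) (KStalk X x)).range := by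
  obtain ⟨a, ha⟩ := hD
  have h : (QuotientGroup.mk g : Germ X x) =
      QuotientGroup.mk (IsLocalization.map_units (KStalk X x) a).unit := hg.symm.trans ha
  rw [QuotientGroup.eq] at h
  obtain ⟨v, hv⟩ := h
  have h2 : g = (IsLocalization.map_units (KStalk X x) a).unit *
      (Units.map (algebraMap (X.presheaf.stalk x) (KStalk X x)).toMonoidHom v)⁻¹ := by
    rw [hv]; group
  refine ⟨a.1 * ((v⁻¹ : (X.presheaf.stalk x)ˣ) : X.presheaf.stalk x), ?_⟩
  rw [h2, ← map_inv, Units.val_mul, map_mul]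
  rfl

/-- the section `1` of `O_X(D)` for an effective divisor `D`. -/
noncomputable def oneSec (D : Divisor X) (hD : IsEffective D) (U : X.Opens) : Γ(divMod D, U) :=
  ⟨(1 : ∀ x : U, KStalk X x.1), ⟨kLoc_one X U, fun x g hg => by
    change (1 : KStalk X x.1) * g ∈ _
    rw [one_mul]
    exact mem_range_of_effectiveAt (hD x.1) g hg⟩⟩

theorem oneSec_apply (D : Divisor X) (hD : IsEffective D) (U : X.Opens) (y : U) :
    (oneSec D hD U).1 y = 1 := rfl

theorem res_oneSec (D : Divisor X) (hD : IsEffective D) {U V : X.Opens} (h : V ≤ U) :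
    res (divMod D) h (oneSec D hD U) = oneSec D hD V := rfl

theorem oneSec_ne_zero (D : Divisor X) (hD : IsEffective D) {U : X.Opens} (hU : (U : Set X).Nonempty) :
    oneSec D hD U ≠ 0 := by
  obtain ⟨x, hx⟩ := hU
  intro h0
  have h1 := congrArg (fun t : Γ(divMod D, U) => t.1 ⟨x, hx⟩) h0
  exact one_ne_zero (α := KStalk X x) h1

theorem main [IsIntegral X] (L : X.Modules) (hL : PicF.IsInvertible L) (D : Divisor X)
    (hD : IsEffective D) (e : L ≅ divMod D) :
    ∃ s : Coh.structureModule X ⟶ L, s ≠ 0 ∧ IsDivOfIdeal D (PicF2.zeroScheme L s) := by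
  let σ : Γ(L, ⊤) := e.inv.app ⊤ (oneSec D hD ⊤)
  refine ⟨secHom L σ, ?_, ?_⟩
  · intro h0
    have h1 : sv (secHom L σ) ⊤ = σ := by
      rw [sv_secHom]
      exact res_self L σ
    rw [h0] at h1
    have h2 : sv (0 : Coh.structureModule X ⟶ L) ⊤ = 0 := rfl
    rw [h2] at h1
    have h3 : e.hom.app ⊤ σ = oneSec D hD ⊤ := by
      have h4 := congrArg (fun ψ => Scheme.Modules.Hom.app ψ ⊤ (oneSec D hD ⊤)) e.inv_hom_id
      exact h4
    rw [← h1, map_zero] at h3
    exact oneSec_ne_zero D hD ⟨(inferInstance : Nonempty X).some, Set.mem_univ _⟩ h3.symm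
  · intro x
    obtain ⟨U, hxU, φ, hφ⟩ := D.2 x
    have hx1 : (φ : Γ(kmod X, U)).1 ⟨x, hxU⟩ ∈
        (algebraMap (X.presheaf.stalk x) (KStalk X x)).range :=
      mem_range_of_effectiveAt (hD x) (Units.map (evalK X U ⟨x, hxU⟩).toMonoidHom φ) (hφ ⟨x, hxU⟩)
    obtain ⟨W', hxW', hW'U, c0, hc0⟩ := exists_local_toK (φ : Γ(kmod X, U)) ⟨x, hxU⟩ hx1
    obtain ⟨W, hWaff, hxW, hWW'⟩ := Opens.isBasis_iff_nbhd.1 X.isBasis_affineOpens hxW'
    have hWU : W ≤ U := hWW'.trans hW'U
    let c : Γ(X, W) := resf hWW' c0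
    have hc : ∀ y : W, (φ : Γ(kmod X, U)).1 ⟨y.1, hWU y.2⟩ =
        LocalizedModule.mk (X.presheaf.germ W y.1 y.2 c) 1 := by
      intro y
      rw [hc0 ⟨y.1, hWW' y.2⟩]
      congr 1
      exact (TopCat.Presheaf.germ_res_apply X.presheaf (homOfLE hWW') y.1 y.2 c0).symm
    have hcne : c ≠ 0 := by
      intro h0
      have h1 := hc ⟨x, hxW⟩
      rw [h0, map_zero, LocalizedModule.zero_mk] at h1
      have h2 := mul_inv_apply φ ⟨x, hxU⟩
      rw [h1, zero_mul] at h2
      exact zero_ne_one h2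
    let t : Γ(L, W) := e.inv.app W (invSec D φ hφ W hWU)
    have ht : IsGen L W t :=
      Groth.Agent.Lib.Helper23.PB.isGen_of_iso e.symm (isGen_invSec D φ hφ W hWU)
    have hone : oneSec D hD W = c • invSec D φ hφ W hWU := by
      apply divMod_ext
      intro y
      rw [divMod_smul_apply, invSec_apply, oneSec_apply, Algebra.smul_def,
        Groth.Agent.S10856.algebraMap_eq_mk, ← hc y, mul_inv_apply]
    have hsv : sv (secHom L σ) W = c • t := by
      rw [sv_secHom]
      have h1 := app_map e.inv (homOfLE (le_top : W ≤ ⊤)) (oneSec D hD ⊤)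
      change res L le_top σ = c • e.inv.app W (invSec D φ hφ W hWU)
      rw [← Scheme.Modules.Hom.app_smul, ← hone]
      exact h1.symm
    refine ⟨⟨W, hWaff⟩, hxW, c, MeroZero.mem_regSub_of_ne_zero hcne, ?_, ?_⟩
    · rw [zeroScheme_ideal L _ hL ⟨W, hWaff⟩]
      exact zI_eq_span L _ ht hsv
    · intro y
      rw [hφ ⟨y.1, hWU y.2⟩]
      change QuotientGroup.mk _ = QuotientGroup.mk _
      congr 1
      apply Units.ext
      change (φ : Γ(kmod X, U)).1 ⟨y.1, hWU y.2⟩ = algebraMap _ _ (X.presheaf.germ W y.1 y.2 c)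
      rw [hc y, Groth.Agent.S10856.algebraMap_eq_mk]

end Groth.Agent.Lib.T2H3.MeroEff
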