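import Mathlib
import Groth.Agent.Lib.T2H3ZeroScheme
import Groth.Prelude.Def_MeroDiv

/-!
# The divisor of the zero scheme of a tensor product of sections
-/

set_option autoImplicit false
set_option linter.style.haveILetI false
universe u
open CategoryTheory CategoryTheory.Limits AlgebraicGeometry TopologicalSpace Opposite

namespace Groth.Agent.Lib.T2H3.MeroMul

open Groth.Agent.Lib.Helper23.SecTw Groth.Agent.Lib.Helper6 Groth.Agent.Lib.Helper23.GenLocus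
open Groth.Agent.Lib.T2H3.ZeroScheme
open Mero

variable {X : Scheme.{u}}

/-- the ideal of the zero scheme on a smaller affine open where the module has a frame. -/
theorem span_coef_eq {L : X.Modules} (hL : PicF.IsInvertible L) (s : Coh.structureModule X ⟶ L)
    {U₁ U : X.affineOpens} (hU : U ≤ U₁) {f : Γ(X, U₁.1)}
    (hI : (PicF2.zeroScheme L s).ideal U₁ = Ideal.span {f}) {e : Γ(L, U.1)}
    (he : IsGen L U.1 e) :
    Ideal.span {coef he le_rfl (sv s U.1)} = Ideal.span {resf hU f} := by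
  rw [← zI_eq_span L s he (sv_eq_coef_smul s he), ← zeroScheme_ideal L s hL U,
    ← (PicF2.zeroScheme L s).map_ideal hU, hI, Ideal.map_span, Set.image_singleton]
  rfl

theorem main {L₁ L₂ : X.Modules} (hL₁ : PicF.IsInvertible L₁) (hL₂ : PicF.IsInvertible L₂)
    (s₁ : Coh.structureModule X ⟶ L₁) (s₂ : Coh.structureModule X ⟶ L₂)
    (D₁ D₂ : Mero.Divisor X) (hD₁ : Mero.IsDivOfIdeal D₁ (PicF2.zeroScheme L₁ s₁))
    (hD₂ : Mero.IsDivOfIdeal D₂ (PicF2.zeroScheme L₂ s₂)) :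
    Mero.IsDivOfIdeal (D₁ * D₂)
      (PicF2.zeroScheme (CohB1.tensorMod L₁ L₂) (SecTwist.tmulHom s₁ s₂)) := by
  intro x
  obtain ⟨U₁, hx₁, f₁, hf₁, hI₁, hD₁'⟩ := hD₁ x
  obtain ⟨U₂, hx₂, f₂, hf₂, hI₂, hD₂'⟩ := hD₂ x
  obtain ⟨W₁, e₁, hxW₁, he₁⟩ := exists_gen L₁ hL₁ x
  obtain ⟨W₂, e₂, hxW₂, he₂⟩ := exists_gen L₂ hL₂ x
  obtain ⟨U, hUaff, hxU, hUle⟩ := exists_isAffineOpen_mem_and_subset (X := X) (x := x)
    (U := U₁.1 ⊓ U₂.1 ⊓ W₁ ⊓ W₂) ⟨⟨⟨hx₁, hx₂⟩, hxW₁⟩, hxW₂⟩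
  have hU1 : U ≤ U₁.1 := fun y hy => (hUle hy).1.1.1
  have hU2 : U ≤ U₂.1 := fun y hy => (hUle hy).1.1.2
  have hUW1 : U ≤ W₁ := fun y hy => (hUle hy).1.2
  have hUW2 : U ≤ W₂ := fun y hy => (hUle hy).2
  have he₁' := he₁.mono hUW1
  have he₂' := he₂.mono hUW2
  have hL₁₂ : PicF.IsInvertible (CohB1.tensorMod L₁ L₂) := isInvertible_tensorMod hL₁ hL₂
  have he₁₂ := isGen_tm L₁ L₂ U _ _ he₁' he₂'
  set c₁ := coef he₁' le_rfl (sv s₁ U) with hc₁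
  set c₂ := coef he₂' le_rfl (sv s₂ U) with hc₂
  have hsv : sv (SecTwist.tmulHom s₁ s₂) U =
      (c₁ * c₂) • tm L₁ L₂ U (res L₁ hUW1 e₁) (res L₂ hUW2 e₂) := by
    rw [sv_tmulHom, sv_eq_coef_smul s₁ he₁', sv_eq_coef_smul s₂ he₂', tm_smul_left, tm_smul_right,
      smul_smul]
  have hg₁ : resf hU1 f₁ ∈ regSub X U := regSub_res (homOfLE hU1) hf₁
  have hg₂ : resf hU2 f₂ ∈ regSub X U := regSub_res (homOfLE hU2) hf₂
  refine ⟨⟨U, hUaff⟩, hxU, resf hU1 f₁ * resf hU2 f₂, Submonoid.mul_mem _ hg₁ hg₂, ?_, ?_⟩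
  · rw [zeroScheme_ideal _ _ hL₁₂ ⟨U, hUaff⟩, zI_eq_span _ _ he₁₂ hsv,
      ← Ideal.span_singleton_mul_span_singleton, ← Ideal.span_singleton_mul_span_singleton,
      span_coef_eq hL₁ s₁ (U₁ := U₁) (U := ⟨U, hUaff⟩) hU1 hI₁ he₁',
      span_coef_eq hL₂ s₂ (U₁ := U₂) (U := ⟨U, hUaff⟩) hU2 hI₂ he₂']
  · intro y
    change D₁.1 y.1 * D₂.1 y.1 = _
    rw [hD₁' ⟨y.1, hU1 y.2⟩, hD₂' ⟨y.1, hU2 y.2⟩, ← QuotientGroup.mk_mul]
    congr 1
    apply Units.ext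
    change algebraMap _ _ (X.presheaf.germ U₁.1 y.1 (hU1 y.2) f₁) *
      algebraMap _ _ (X.presheaf.germ U₂.1 y.1 (hU2 y.2) f₂) =
      algebraMap _ _ (X.presheaf.germ U y.1 y.2 (resf hU1 f₁ * resf hU2 f₂))
    rw [map_mul, map_mul, TopCat.Presheaf.germ_res_apply, TopCat.Presheaf.germ_res_apply]

end Groth.Agent.Lib.T2H3.MeroMul
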