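import Mathlib
import Groth.Prelude.Def_EtMil
import Groth.Agent.Lib.Helper22Milnor
import Groth.Agent.Lib.Helper22MilnorGlue
import Groth.Agent.Lib.Helper22MilnorFlat

/-! Milnor squares of algebras: for `B' = B ×_A A'` (with `A' → A` surjective), a `B`-algebra `D`
and an `A'`-algebra `C'` with common base change `C`, the fibre product `D' = D ×_C C'` is the
Milnor glueing of `(D, C')`; base change identifications and transfer of algebra properties. -/

set_option autoImplicit false
set_option linter.style.haveILetI false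
universe u
open TensorProduct

namespace Groth.Agent.Lib.T2H3.MilnorAlg

open Groth.Agent.Lib.Helper22

variable {B' B A' A : Type u} [CommRing B'] [CommRing B] [CommRing A'] [CommRing A]
  [Algebra B' B] [Algebra B' A'] [Algebra B A] [Algebra A' A] [Algebra B' A]
  [IsScalarTower B' B A] [IsScalarTower B' A' A]
  {D' D C' C : Type u} [CommRing D'] [CommRing D] [CommRing C'] [CommRing C]
  [Algebra D' D] [Algebra D' C'] [Algebra D C] [Algebra C' C] [Algebra D' C]
  [IsScalarTower D' D C] [IsScalarTower D' C' C]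
  [Algebra B' D'] [Algebra B D] [Algebra A' C'] [Algebra A C]
  [Algebra B' D] [IsScalarTower B' B D] [IsScalarTower B' D' D]
  [Algebra B' C'] [IsScalarTower B' A' C'] [IsScalarTower B' D' C']
  [Algebra B C] [IsScalarTower B A C] [IsScalarTower B D C]
  [Algebra A' C] [IsScalarTower A' A C] [IsScalarTower A' C' C]

section Glue

variable [Algebra.IsPushout B D A C] [Algebra.IsPushout A' C' A C]

variable (B A' A D C' C) in
/-- the glueing isomorphism `A ⊗_B D ≃ C ≃ A ⊗_{A'} C'` -/
noncomputable def phi : A ⊗[B] D ≃ₗ[A] A ⊗[A'] C' :=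
  haveI : Algebra.IsPushout B A D C := Algebra.IsPushout.symm inferInstance
  haveI : Algebra.IsPushout A' A C' C := Algebra.IsPushout.symm inferInstance
  (Algebra.IsPushout.equiv B A D C).toLinearEquiv ≪≫ₗ
    (Algebra.IsPushout.equiv A' A C' C).toLinearEquiv.symm

theorem phi_one_tmul (d : D) :
    phi B A' A D C' C ((1 : A) ⊗ₜ[B] d) =
      haveI : Algebra.IsPushout A' A C' C := Algebra.IsPushout.symm inferInstance
      (Algebra.IsPushout.equiv A' A C' C).symm (algebraMap D C d) := by
  haveI : Algebra.IsPushout B A D C := Algebra.IsPushout.symm inferInstance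
  haveI : Algebra.IsPushout A' A C' C := Algebra.IsPushout.symm inferInstance
  change (Algebra.IsPushout.equiv A' A C' C).symm ((Algebra.IsPushout.equiv B A D C) (1 ⊗ₜ d)) = _
  rw [Algebra.IsPushout.equiv_tmul, map_one, one_mul]

theorem mem_glue_iff' (d : D) (c' : C') :
    (d, c') ∈ EtMil.glue B' (phi B A' A D C' C) ↔ algebraMap D C d = algebraMap C' C c' := by
  haveI : Algebra.IsPushout A' A C' C := Algebra.IsPushout.symm inferInstance
  change phi B A' A D C' C ((1 : A) ⊗ₜ[B] d) = (1 : A) ⊗ₜ[A'] c' ↔ _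
  rw [phi_one_tmul, AlgEquiv.symm_apply_eq, Algebra.IsPushout.equiv_tmul, map_one, one_mul]

variable (B' B A' A) in
/-- the map from the fibre product ring to the glued module -/
noncomputable def toGlue : D' →ₗ[B'] EtMil.glue B' (phi B A' A D C' C) where
  toFun d' := ⟨(algebraMap D' D d', algebraMap D' C' d'), by
    rw [mem_glue_iff', ← IsScalarTower.algebraMap_apply, ← IsScalarTower.algebraMap_apply]⟩
  map_add' x y := by
    apply Subtype.ext
    simp only [map_add, Submodule.coe_add, Prod.mk_add_mk]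
  map_smul' b x := by
    apply Subtype.ext
    simp only [RingHom.id_apply, Submodule.coe_smul, Prod.smul_mk]
    rw [Algebra.smul_def, map_mul, map_mul, ← IsScalarTower.algebraMap_apply,
      ← IsScalarTower.algebraMap_apply, Algebra.smul_def, Algebra.smul_def]

theorem toGlue_bijective (hsq' : EtMil.IsFibreSquare D' D C' C) :
    Function.Bijective (toGlue B' B A' A (D' := D') (D := D) (C' := C') (C := C)) := by
  constructor
  · intro x y hxy
    have h0 := congrArg Subtype.val hxy
    have h1 : algebraMap D' D x = algebraMap D' D y := congrArg Prod.fst h0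
    have h2 : algebraMap D' C' x = algebraMap D' C' y := congrArg Prod.snd h0
    exact fs_ext hsq' h1 h2
  · rintro ⟨⟨d, c'⟩, h⟩
    rw [mem_glue_iff'] at h
    obtain ⟨d', ⟨h1, h2⟩, -⟩ := hsq'.2 d c' h
    exact ⟨d', Subtype.ext (Prod.ext h1 h2)⟩

/-- `D = B ⊗_{B'} D'` -/
theorem isPushout_D (hsq : EtMil.IsFibreSquare B' B A' A) (hsq' : EtMil.IsFibreSquare D' D C' C) :
    Algebra.IsPushout B' B D' D := by
  constructor
  change Function.Bijective ((IsScalarTower.toAlgHom B' D' D).toLinearMap.liftBaseChange B)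
  let e : D' ≃ₗ[B'] EtMil.glue B' (phi B A' A D C' C) :=
    LinearEquiv.ofBijective (toGlue B' B A' A) (toGlue_bijective hsq')
  let E := AlgebraTensorModule.congr (LinearEquiv.refl B B) e
  have hcomp : ∀ t, (IsScalarTower.toAlgHom B' D' D).toLinearMap.liftBaseChange B t =
      (EtMil.glueFst B' (phi B A' A D C' C)).liftBaseChange B (E t) := by
    intro t
    induction t using TensorProduct.induction_on with
    | zero => simp only [map_zero]
    | add x y hx hy => simp only [map_add, hx, hy]
    | tmul b d' =>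
      simp only [E, AlgebraTensorModule.congr_tmul, LinearEquiv.refl_apply,
        LinearMap.liftBaseChange_tmul]
      rfl
  have hb := glue_fst_bijective (phi B A' A D C' C) hsq
  constructor
  · intro x y hxy
    rw [hcomp, hcomp] at hxy
    exact E.injective (hb.1 hxy)
  · intro d
    obtain ⟨t, ht⟩ := hb.2 d
    exact ⟨E.symm t, by rw [hcomp, LinearEquiv.apply_symm_apply, ht]⟩

/-- `C' = A' ⊗_{B'} D'` -/
theorem isPushout_C' (hsq : EtMil.IsFibreSquare B' B A' A) (hsq' : EtMil.IsFibreSquare D' D C' C) :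
    Algebra.IsPushout B' A' D' C' := by
  constructor
  change Function.Bijective ((IsScalarTower.toAlgHom B' D' C').toLinearMap.liftBaseChange A')
  let e : D' ≃ₗ[B'] EtMil.glue B' (phi B A' A D C' C) :=
    LinearEquiv.ofBijective (toGlue B' B A' A) (toGlue_bijective hsq')
  let E := AlgebraTensorModule.congr (LinearEquiv.refl A' A') e
  have hcomp : ∀ t, (IsScalarTower.toAlgHom B' D' C').toLinearMap.liftBaseChange A' t =
      (EtMil.glueSnd B' (phi B A' A D C' C)).liftBaseChange A' (E t) := by
    intro t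
    induction t using TensorProduct.induction_on with
    | zero => simp only [map_zero]
    | add x y hx hy => simp only [map_add, hx, hy]
    | tmul b d' =>
      simp only [E, AlgebraTensorModule.congr_tmul, LinearEquiv.refl_apply,
        LinearMap.liftBaseChange_tmul]
      rfl
  have hb := glue_snd_bijective (phi B A' A D C' C) hsq
  constructor
  · intro x y hxy
    rw [hcomp, hcomp] at hxy
    exact E.injective (hb.1 hxy)
  · intro d
    obtain ⟨t, ht⟩ := hb.2 d
    exact ⟨E.symm t, by rw [hcomp, LinearEquiv.apply_symm_apply, ht]⟩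

end Glue

section General

/-- monotonicity of `Subalgebra.baseChange` -/
theorem baseChange_mono {R A : Type*} [CommRing R] [CommRing A] [Algebra R A] (S : Type*)
    [CommRing S] [Algebra R S] {E F : Subalgebra R A} (h : E ≤ F) :
    E.baseChange S ≤ F.baseChange S := by
  rintro _ ⟨y, rfl⟩
  induction y using TensorProduct.induction_on with
  | zero => simp only [map_zero, zero_mem]
  | add x y hx hy =>
    rw [map_add]
    exact add_mem hx hy
  | tmul s e =>
    exact Subalgebra.tmul_mem_baseChange (h e.2) s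

/-- if `S ⊗ A` is a finite type `S`-algebra, some f.g. subalgebra of `A` generates it -/
theorem exists_fg_baseChange_eq_top {R A : Type*} [CommRing R] [CommRing A] [Algebra R A]
    (S : Type*) [CommRing S] [Algebra R S] [Algebra.FiniteType S (S ⊗[R] A)] :
    ∃ E : Subalgebra R A, E.FG ∧ E.baseChange S = ⊤ := by
  classical
  obtain ⟨t, ht⟩ := (Algebra.FiniteType.out : (⊤ : Subalgebra S (S ⊗[R] A)).FG)
  have key : ∀ t : Finset (S ⊗[R] A), ∃ E : Subalgebra R A, E.FG ∧
      (t : Set (S ⊗[R] A)) ⊆ E.baseChange S := by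
    intro t
    induction t using Finset.induction_on with
    | empty => exact ⟨⊥, Subalgebra.fg_bot, by simp⟩
    | insert x t _ ih =>
      obtain ⟨E, hE, hEt⟩ := ih
      obtain ⟨F, hF, hxF⟩ := exists_fg_and_mem_baseChange (R := R) (A := S) (B := A) x
      refine ⟨E ⊔ F, hE.sup hF, ?_⟩
      intro y hy
      rw [Finset.coe_insert, Set.mem_insert_iff] at hy
      rcases hy with rfl | hy
      · exact baseChange_mono S le_sup_right hxF
      · exact baseChange_mono S le_sup_left (hEt hy)
  obtain ⟨E, hE, hEt⟩ := key t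
  refine ⟨E, hE, ?_⟩
  rw [eq_top_iff, ← ht]
  exact Algebra.adjoin_le hEt

/-- if `E.baseChange S = ⊤`, then `S ⊗ (A/E)` is killed -/
theorem one_tmul_mkQ_eq_zero_of_baseChange_eq_top {R A : Type*} [CommRing R] [CommRing A]
    [Algebra R A] (S : Type*) [CommRing S] [Algebra R S] (E : Subalgebra R A)
    (hE : E.baseChange S = ⊤) (q : A ⧸ (Subalgebra.toSubmodule E)) :
    ((1 : S) ⊗ₜ[R] q : S ⊗[R] (A ⧸ (Subalgebra.toSubmodule E))) = 0 := by
  obtain ⟨a, rfl⟩ := (Subalgebra.toSubmodule E).mkQ_surjective q
  have hmem : ((1 : S) ⊗ₜ[R] a : S ⊗[R] A) ∈ E.baseChange S := by rw [hE]; trivial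
  obtain ⟨y, hy⟩ := hmem
  have key : ∀ y : S ⊗[R] E, (Subalgebra.toSubmodule E).mkQ.lTensor S
      (Algebra.TensorProduct.map (AlgHom.id S S) E.val y) = 0 := by
    intro y
    induction y using TensorProduct.induction_on with
    | zero => simp only [map_zero]
    | add x y hx hy => rw [map_add, map_add, hx, hy, add_zero]
    | tmul s e =>
      rw [Algebra.TensorProduct.map_tmul, LinearMap.lTensor_tmul]
      have : (Subalgebra.toSubmodule E).mkQ (E.val e) = 0 := by
        rw [Submodule.mkQ_apply, Submodule.Quotient.mk_eq_zero]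
        exact e.2
      rw [this, TensorProduct.tmul_zero]
  have := key y
  have hy' : Algebra.TensorProduct.map (AlgHom.id S S) E.val y = (1 : S) ⊗ₜ[R] a := hy
  rwa [hy', LinearMap.lTensor_tmul] at this

end General

section GeneralFP

variable {R P' E' : Type*} [CommRing R] [CommRing P'] [CommRing E'] [Algebra R P'] [Algebra R E']
  (S : Type*) [CommRing S] [Algebra R S]

/-- finitely many elements of `ker π` generate the kernel of `S ⊗ π` when the latter is f.g. -/
theorem exists_finset_map_le (π : P' →ₐ[R] E') (hπ : Function.Surjective π)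
    (hfg : (RingHom.ker (Algebra.TensorProduct.map (AlgHom.id S S) π)).FG) :
    ∃ σ : Finset P', (σ : Set P') ⊆ (RingHom.ker π : Ideal P') ∧
      (RingHom.ker π).map (Algebra.TensorProduct.includeRight : P' →ₐ[R] S ⊗[R] P') ≤
        (Ideal.span (σ : Set P')).map
          (Algebra.TensorProduct.includeRight : P' →ₐ[R] S ⊗[R] P') := by
  classical
  have h1 : RingHom.ker (Algebra.TensorProduct.map (AlgHom.id S S) π) =
      (RingHom.ker π).map (Algebra.TensorProduct.includeRight : P' →ₐ[R] S ⊗[R] P') := by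
    have := Algebra.TensorProduct.lTensor_ker (R := R) (A := S) (g := π) hπ
    exact this
  rw [h1, Ideal.map, ← Ideal.submodule_span_eq] at hfg
  obtain ⟨t, htsub, hteq⟩ := (Submodule.fg_span_iff_fg_span_finset_subset _).mp hfg
  obtain ⟨σ, hσ, rfl⟩ := Finset.subset_set_image_iff.mp htsub
  refine ⟨σ, hσ, ?_⟩
  rw [Ideal.map_span, Ideal.map, ← Ideal.submodule_span_eq, hteq, Finset.coe_image]

omit [Algebra R E'] in
theorem one_tmul_mkQ_eq_zero_aux (K Lr : Submodule R P') (hLK : Lr ≤ K)
    (hinj : Function.Injective (K.subtype.lTensor S)) (k : K)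
    (hmem : ((1 : S) ⊗ₜ[R] (k : P') : S ⊗[R] P') ∈ LinearMap.range (Lr.subtype.lTensor S)) :
    ((1 : S) ⊗ₜ[R] (LinearMap.range (Submodule.inclusion hLK)).mkQ k :
      S ⊗[R] (K ⧸ LinearMap.range (Submodule.inclusion hLK))) = 0 := by
  obtain ⟨y, hy⟩ := hmem
  have hcomp : Lr.subtype = K.subtype ∘ₗ Submodule.inclusion hLK := by
    ext x
    rfl
  rw [hcomp, LinearMap.lTensor_comp, LinearMap.comp_apply] at hy
  have hk : K.subtype.lTensor S ((1 : S) ⊗ₜ[R] k) = (1 : S) ⊗ₜ[R] (k : P') := by
    rw [LinearMap.lTensor_tmul]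
    rfl
  rw [← hk] at hy
  have hy' := hinj hy
  have hzero : (LinearMap.range (Submodule.inclusion hLK)).mkQ.lTensor S
      ((Submodule.inclusion hLK).lTensor S y) = 0 := by
    rw [← LinearMap.comp_apply, ← LinearMap.lTensor_comp]
    have : (LinearMap.range (Submodule.inclusion hLK)).mkQ ∘ₗ Submodule.inclusion hLK = 0 :=
      LinearMap.range_mkQ_comp _
    rw [this, LinearMap.lTensor_zero, LinearMap.zero_apply]
  rw [hy', LinearMap.lTensor_tmul] at hzero
  exact hzero

/-- if `L ≤ ker π` generates `ker (S ⊗ π)` and the target is flat, then `S ⊗ (ker π / L) = 0` -/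
theorem one_tmul_mkQ_eq_zero_of_map_le [Module.Flat R E'] (π : P' →ₐ[R] E')
    (hπ : Function.Surjective π) (L : Ideal P') (hL : L ≤ RingHom.ker π)
    (hmap : (RingHom.ker π).map (Algebra.TensorProduct.includeRight : P' →ₐ[R] S ⊗[R] P') ≤
        L.map (Algebra.TensorProduct.includeRight : P' →ₐ[R] S ⊗[R] P'))
    (q : ((RingHom.ker π).restrictScalars R) ⧸
      LinearMap.range (Submodule.inclusion (R := R)
        (p := L.restrictScalars R) (p' := (RingHom.ker π).restrictScalars R) hL)) :
    ((1 : S) ⊗ₜ[R] q : S ⊗[R] (((RingHom.ker π).restrictScalars R) ⧸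
      LinearMap.range (Submodule.inclusion (R := R)
        (p := L.restrictScalars R) (p' := (RingHom.ker π).restrictScalars R) hL))) = 0 := by
  obtain ⟨k, rfl⟩ := (LinearMap.range (Submodule.inclusion (R := R)
        (p := L.restrictScalars R) (p' := (RingHom.ker π).restrictScalars R) hL)).mkQ_surjective q
  have hinj : Function.Injective (((RingHom.ker π).restrictScalars R).subtype.lTensor S) := by
    refine LinearMap.lTensor_injective_of_exact_of_flat π.toLinearMap hπ _
      ((RingHom.ker π).restrictScalars R).subtype_injective ?_ S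
    intro x
    constructor
    · intro hx
      exact ⟨⟨x, hx⟩, rfl⟩
    · rintro ⟨y, rfl⟩
      exact y.2
  have hLr : L.restrictScalars R ≤ (RingHom.ker π).restrictScalars R := hL
  refine one_tmul_mkQ_eq_zero_aux S ((RingHom.ker π).restrictScalars R) (L.restrictScalars R) hLr hinj k ?_
  have hmemK : ((1 : S) ⊗ₜ[R] (k : P') : S ⊗[R] P') ∈
      (RingHom.ker π).map (Algebra.TensorProduct.includeRight : P' →ₐ[R] S ⊗[R] P') :=
    Ideal.mem_map_of_mem _ k.2
  have hmemL := hmap hmemK
  have hLeq := Ideal.map_includeRight_eq (R := R) (A := S) L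
  have hmemL' : ((1 : S) ⊗ₜ[R] (k : P') : S ⊗[R] P') ∈
      (L.map (Algebra.TensorProduct.includeRight : P' →ₐ[R] S ⊗[R] P')).restrictScalars R :=
    (Submodule.restrictScalars_mem R _ _).mpr hmemL
  exact hLeq.le hmemL'

end GeneralFP

section Fibre

/-- For `j ∈ ker (B' → B)` invertible in a field `K` over `B'`, the structure map `B' → K`
extends to `A'`. -/
noncomputable def psi (hsq : EtMil.IsFibreSquare B' B A' A) {K : Type*} [Field K] [Algebra B' K]
    (j : B') (hj : algebraMap B' B j = 0) (hne : algebraMap B' K j ≠ 0) : A' →+* K where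
  toFun a' := algebraMap B' K (jmap hsq j hj a') / algebraMap B' K j
  map_one' := by rw [jmap_one, div_self hne]
  map_mul' x y := by
    have h : jmap hsq j hj (x * y) * j = jmap hsq j hj x * jmap hsq j hj y := by
      apply fs_ext hsq
      · rw [map_mul (algebraMap B' B), map_mul (algebraMap B' B), jmap_algebraMap_B,
          jmap_algebraMap_B, jmap_algebraMap_B, zero_mul, zero_mul]
      · rw [map_mul (algebraMap B' A'), map_mul (algebraMap B' A'), jmap_algebraMap_A',
          jmap_algebraMap_A', jmap_algebraMap_A']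
        ring
    have h' := congrArg (algebraMap B' K) h
    rw [map_mul (algebraMap B' K), map_mul (algebraMap B' K)] at h'
    rw [div_mul_div_comm, ← h', mul_div_mul_right _ _ hne]
  map_zero' := by rw [map_zero, map_zero, zero_div]
  map_add' x y := by rw [map_add, map_add, add_div]

theorem psi_algebraMap (hsq : EtMil.IsFibreSquare B' B A' A) {K : Type*} [Field K] [Algebra B' K]
    (j : B') (hj : algebraMap B' B j = 0) (hne : algebraMap B' K j ≠ 0) (b : B') :
    psi hsq j hj hne (algebraMap B' A' b) = algebraMap B' K b := by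
  change algebraMap B' K (jmap hsq j hj (algebraMap B' A' b)) / algebraMap B' K j = _
  rw [Algebra.algebraMap_eq_smul_one (R := B') (A := A') b, map_smul, jmap_one, smul_eq_mul,
    map_mul (algebraMap B' K), mul_div_assoc, div_self hne, mul_one]

end Fibre

section Main

variable [Algebra.IsPushout B D A C] [Algebra.IsPushout A' C' A C]

/-- `B ⊗_{B'} D' ≃ D` -/
noncomputable def equivD (hsq : EtMil.IsFibreSquare B' B A' A)
    (hsq' : EtMil.IsFibreSquare D' D C' C) : B ⊗[B'] D' ≃ₐ[B] D :=
  haveI := isPushout_D (B' := B') (B := B) (A' := A') (A := A) hsq hsq'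
  Algebra.IsPushout.equiv B' B D' D

/-- `A' ⊗_{B'} D' ≃ C'` -/
noncomputable def equivC' (hsq : EtMil.IsFibreSquare B' B A' A)
    (hsq' : EtMil.IsFibreSquare D' D C' C) : A' ⊗[B'] D' ≃ₐ[A'] C' :=
  haveI := isPushout_C' (B' := B') (B := B) (A' := A') (A := A) hsq hsq'
  Algebra.IsPushout.equiv B' A' D' C'

theorem finiteType_iff (hsq : EtMil.IsFibreSquare B' B A' A)
    (hsq' : EtMil.IsFibreSquare D' D C' C) :
    Algebra.FiniteType B' D' ↔ Algebra.FiniteType B D ∧ Algebra.FiniteType A' C' := by
  constructor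
  · intro h
    exact ⟨Algebra.FiniteType.equiv inferInstance (equivD hsq hsq'),
      Algebra.FiniteType.equiv inferInstance (equivC' hsq hsq')⟩
  · rintro ⟨h1, h2⟩
    haveI : Algebra.FiniteType B (B ⊗[B'] D') := Algebra.FiniteType.equiv h1 (equivD hsq hsq').symm
    haveI : Algebra.FiniteType A' (A' ⊗[B'] D') :=
      Algebra.FiniteType.equiv h2 (equivC' hsq hsq').symm
    obtain ⟨E1, hE1, hE1t⟩ := exists_fg_baseChange_eq_top (R := B') (A := D') B
    obtain ⟨E2, hE2, hE2t⟩ := exists_fg_baseChange_eq_top (R := B') (A := D') A'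
    have hB : (E1 ⊔ E2).baseChange B = ⊤ :=
      eq_top_iff.mpr (hE1t ▸ baseChange_mono B le_sup_left)
    have hA' : (E1 ⊔ E2).baseChange A' = ⊤ :=
      eq_top_iff.mpr (hE2t ▸ baseChange_mono A' le_sup_right)
    have htop : E1 ⊔ E2 = ⊤ := by
      rw [eq_top_iff]
      intro d _
      have hq : (Subalgebra.toSubmodule (E1 ⊔ E2)).mkQ d = 0 :=
        fs_eq_zero_of_forall hsq (L' := D' ⧸ (Subalgebra.toSubmodule (E1 ⊔ E2)))
          (one_tmul_mkQ_eq_zero_of_baseChange_eq_top A' _ hA') _
          (one_tmul_mkQ_eq_zero_of_baseChange_eq_top B _ hB _)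
      rwa [Submodule.mkQ_apply, Submodule.Quotient.mk_eq_zero] at hq
    exact ⟨htop ▸ hE1.sup hE2⟩

theorem flat_iff (hsq : EtMil.IsFibreSquare B' B A' A)
    (hsq' : EtMil.IsFibreSquare D' D C' C) :
    Module.Flat B' D' ↔ Module.Flat B D ∧ Module.Flat A' C' := by
  constructor
  · intro h
    exact ⟨Module.Flat.of_linearEquiv (equivD hsq hsq').toLinearEquiv.symm,
      Module.Flat.of_linearEquiv (equivC' hsq hsq').toLinearEquiv.symm⟩
  · rintro ⟨h1, h2⟩
    haveI : Module.Flat B (B ⊗[B'] D') := Module.Flat.of_linearEquiv (equivD hsq hsq').toLinearEquiv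
    haveI : Module.Flat A' (A' ⊗[B'] D') :=
      Module.Flat.of_linearEquiv (equivC' hsq hsq').toLinearEquiv
    exact fs_flat hsq

theorem exists_fg_le_ker (hsq : EtMil.IsFibreSquare B' B A' A) {P' : Type u} [CommRing P']
    [Algebra B' P'] [Algebra.FinitePresentation B' P'] [Module.Flat B' D']
    [Algebra.FinitePresentation B (B ⊗[B'] D')] [Algebra.FinitePresentation A' (A' ⊗[B'] D')]
    (π : P' →ₐ[B'] D') (hπ : Function.Surjective π) : (RingHom.ker π).FG := by
  classical
  have hsB : Function.Surjective (Algebra.TensorProduct.map (AlgHom.id B B) π) :=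
    Algebra.TensorProduct.map_surjective (f := AlgHom.id B B) (g := π) Function.surjective_id hπ
  have hsA : Function.Surjective (Algebra.TensorProduct.map (AlgHom.id A' A') π) :=
    Algebra.TensorProduct.map_surjective (f := AlgHom.id A' A') (g := π) Function.surjective_id hπ
  have hfgB : (RingHom.ker (Algebra.TensorProduct.map (AlgHom.id B B) π)).FG :=
    Algebra.FinitePresentation.ker_fG_of_surjective _ hsB
  have hfgA : (RingHom.ker (Algebra.TensorProduct.map (AlgHom.id A' A') π)).FG :=
    Algebra.FinitePresentation.ker_fG_of_surjective _ hsA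
  obtain ⟨σ1, hσ1, h1⟩ := exists_finset_map_le B π hπ hfgB
  obtain ⟨σ2, hσ2, h2⟩ := exists_finset_map_le A' π hπ hfgA
  set L : Ideal P' := Ideal.span ((σ1 ∪ σ2 : Finset P') : Set P') with hLdef
  have hL : L ≤ RingHom.ker π := by
    rw [hLdef, Ideal.span_le, Finset.coe_union]
    exact Set.union_subset hσ1 hσ2
  have hL1 : Ideal.span (σ1 : Set P') ≤ L := by
    rw [hLdef, Finset.coe_union]
    exact Ideal.span_mono Set.subset_union_left
  have hL2 : Ideal.span (σ2 : Set P') ≤ L := by
    rw [hLdef, Finset.coe_union]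
    exact Ideal.span_mono Set.subset_union_right
  have hKL : RingHom.ker π ≤ L := by
    intro k hk
    have hq := fs_eq_zero_of_forall hsq
      (L' := ((RingHom.ker π).restrictScalars B') ⧸
        LinearMap.range (Submodule.inclusion (R := B')
          (p := L.restrictScalars B') (p' := (RingHom.ker π).restrictScalars B') hL))
      (one_tmul_mkQ_eq_zero_of_map_le A' π hπ L hL (h2.trans (Ideal.map_mono hL2)))
      ((LinearMap.range (Submodule.inclusion (R := B')
          (p := L.restrictScalars B') (p' := (RingHom.ker π).restrictScalars B') hL)).mkQ ⟨k, hk⟩)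
      (one_tmul_mkQ_eq_zero_of_map_le B π hπ L hL (h1.trans (Ideal.map_mono hL1)) _)
    rw [Submodule.mkQ_apply, Submodule.Quotient.mk_eq_zero] at hq
    obtain ⟨l, hl⟩ := hq
    have : (l : P') = k := congrArg Subtype.val hl
    rw [← this]
    exact l.2
  have : RingHom.ker π = L := le_antisymm hKL hL
  rw [this]
  exact ⟨σ1 ∪ σ2, rfl⟩

theorem flat_fp_iff (hsq : EtMil.IsFibreSquare B' B A' A)
    (hsq' : EtMil.IsFibreSquare D' D C' C) :
    (Module.Flat B' D' ∧ Algebra.FinitePresentation B' D') ↔
      (Module.Flat B D ∧ Algebra.FinitePresentation B D) ∧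
        (Module.Flat A' C' ∧ Algebra.FinitePresentation A' C') := by
  constructor
  · rintro ⟨hf, hp⟩
    obtain ⟨h1, h2⟩ := (flat_iff hsq hsq').mp hf
    exact ⟨⟨h1, Algebra.FinitePresentation.equiv (equivD hsq hsq')⟩,
      ⟨h2, Algebra.FinitePresentation.equiv (equivC' hsq hsq')⟩⟩
  · rintro ⟨⟨hf1, hp1⟩, ⟨hf2, hp2⟩⟩
    have hflat : Module.Flat B' D' := (flat_iff hsq hsq').mpr ⟨hf1, hf2⟩
    have hft : Algebra.FiniteType B' D' :=
      (finiteType_iff hsq hsq').mpr ⟨inferInstance, inferInstance⟩
    refine ⟨hflat, ?_⟩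
    obtain ⟨n, π, hπ⟩ := Algebra.FiniteType.iff_quotient_mvPolynomial''.mp hft
    haveI : Algebra.FinitePresentation B (B ⊗[B'] D') :=
      Algebra.FinitePresentation.equiv (equivD hsq hsq').symm
    haveI : Algebra.FinitePresentation A' (A' ⊗[B'] D') :=
      Algebra.FinitePresentation.equiv (equivC' hsq hsq').symm
    exact Algebra.FinitePresentation.of_surjective hπ (exists_fg_le_ker hsq π hπ)

theorem formallySmooth_fibre (hsq : EtMil.IsFibreSquare B' B A' A)
    (hsq' : EtMil.IsFibreSquare D' D C' C)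
    [Algebra.FormallySmooth B D] [Algebra.FormallySmooth A' C']
    (K : Type*) [Field K] [Algebra B' K] : Algebra.FormallySmooth K (K ⊗[B'] D') := by
  by_cases hker : RingHom.ker (algebraMap B' B) ≤ RingHom.ker (algebraMap B' K)
  · let ψ : B →+* K :=
      RingHom.liftOfSurjective (algebraMap B' B) (fs_surjective hsq) ⟨algebraMap B' K, hker⟩
    have hψ : ∀ b', ψ (algebraMap B' B b') = algebraMap B' K b' := fun b' =>
      RingHom.liftOfRightInverse_comp_apply _ _ _ _ b'
    letI : Algebra B K := ψ.toAlgebra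
    haveI : IsScalarTower B' B K := IsScalarTower.of_algebraMap_eq (fun x => (hψ x).symm)
    haveI : Algebra.FormallySmooth B (B ⊗[B'] D') :=
      Algebra.FormallySmooth.of_equiv (equivD hsq hsq').symm
    exact Algebra.FormallySmooth.of_equiv (Algebra.TensorProduct.cancelBaseChange B' B K K D')
  · obtain ⟨j, hj, hjK⟩ : ∃ j, algebraMap B' B j = 0 ∧ algebraMap B' K j ≠ 0 := by
      rw [SetLike.not_le_iff_exists] at hker
      obtain ⟨j, hj, hjK⟩ := hker
      exact ⟨j, hj, hjK⟩
    letI : Algebra A' K := (psi hsq j hj hjK).toAlgebra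
    haveI : IsScalarTower B' A' K :=
      IsScalarTower.of_algebraMap_eq (fun x => (psi_algebraMap hsq j hj hjK x).symm)
    haveI : Algebra.FormallySmooth A' (A' ⊗[B'] D') :=
      Algebra.FormallySmooth.of_equiv (equivC' hsq hsq').symm
    exact Algebra.FormallySmooth.of_equiv (Algebra.TensorProduct.cancelBaseChange B' A' K K D')

theorem smooth_iff (hsq : EtMil.IsFibreSquare B' B A' A)
    (hsq' : EtMil.IsFibreSquare D' D C' C) :
    Algebra.Smooth B' D' ↔ Algebra.Smooth B D ∧ Algebra.Smooth A' C' := by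
  constructor
  · intro h
    exact ⟨Algebra.Smooth.of_equiv (equivD hsq hsq'), Algebra.Smooth.of_equiv (equivC' hsq hsq')⟩
  · rintro ⟨h1, h2⟩
    obtain ⟨hflat, hfp⟩ := (flat_fp_iff hsq hsq').mpr
      ⟨⟨inferInstance, inferInstance⟩, ⟨inferInstance, inferInstance⟩⟩
    exact Algebra.Smooth.of_formallySmooth_fiber
      (fun I _ => formallySmooth_fibre hsq hsq' I.ResidueField)

theorem etale_iff (hsq : EtMil.IsFibreSquare B' B A' A)
    (hsq' : EtMil.IsFibreSquare D' D C' C) :
    Algebra.Etale B' D' ↔ Algebra.Etale B D ∧ Algebra.Etale A' C' := by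
  constructor
  · intro h
    exact ⟨Algebra.Etale.of_equiv (equivD hsq hsq'), Algebra.Etale.of_equiv (equivC' hsq hsq')⟩
  · rintro ⟨h1, h2⟩
    have hsm : Algebra.Smooth B' D' := (smooth_iff hsq hsq').mpr ⟨inferInstance, inferInstance⟩
    haveI := isPushout_D (B' := B') (B := B) (A' := A') (A := A) hsq hsq'
    haveI := isPushout_C' (B' := B') (B := B) (A' := A') (A := A) hsq hsq'
    have hunr : Algebra.FormallyUnramified B' D' := by
      constructor
      refine ⟨fun x y => ?_⟩
      have h0 : ∀ l : Ω[D'⁄B'], l = 0 := by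
        intro l
        refine fs_eq_zero_of_forall hsq' (L' := Ω[D'⁄B']) (fun l => ?_) l ?_
        · haveI : Subsingleton (C' ⊗[D'] Ω[D'⁄B']) :=
            (KaehlerDifferential.tensorKaehlerEquiv B' A' D' C').toEquiv.subsingleton
          exact Subsingleton.elim _ _
        · haveI : Subsingleton (D ⊗[D'] Ω[D'⁄B']) :=
            (KaehlerDifferential.tensorKaehlerEquiv B' B D' D).toEquiv.subsingleton
          exact Subsingleton.elim _ _
      rw [h0 x, h0 y]
    exact Algebra.Etale.iff_formallyUnramified_and_smooth.mpr ⟨hunr, hsm⟩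

end Main

end Groth.Agent.Lib.T2H3.MilnorAlg
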