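import Mathlib
import Groth.Prelude.Def_EtMil
import Groth.Agent.Lib.Helper22Milnor
import Groth.Agent.Lib.Helper22PoMapAlg2

/-! Finite presentation of glued modules over a fibre square of rings, relative version:
abstract steps.  `stepA` handles the quotient side (`D' → D` surjective), `stepB` the side
`A' ⊗ -` (where `B' → A'` need not be surjective) through the maps `jmap`. -/

set_option autoImplicit false
set_option linter.unusedSectionVars false

namespace Groth.Agent.Lib.T2H3.MilnorFP

open TensorProduct

universe u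

section StepA

variable {D' D : Type u} [CommRing D'] [CommRing D] [Algebra D' D]
  {P N : Type u} [AddCommGroup P] [Module D' P] [AddCommGroup N] [Module D N] [Module D' N]
  [IsScalarTower D' D N]

/-- the coordinatewise map `D'^n → D^n` -/
noncomputable def coord (n : ℕ) : (Fin n → D') →ₗ[D'] (Fin n → D) :=
  (Algebra.linearMap D' D).compLeft (Fin n)

theorem coord_apply {n : ℕ} (d : Fin n → D') (i : Fin n) :
    coord (D := D) n d i = algebraMap D' D (d i) := rfl

theorem coord_surjective (hD : Function.Surjective (algebraMap D' D)) (n : ℕ) :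
    Function.Surjective (coord (D' := D') (D := D) n) := by
  intro y
  exact ⟨fun i => (hD (y i)).choose, funext fun i => (hD (y i)).choose_spec⟩

theorem mem_smul_top_of_coord_eq_zero {n : ℕ} (d : Fin n → D')
    (hd : coord (D := D) n d = 0) :
    d ∈ (RingHom.ker (algebraMap D' D)) • (⊤ : Submodule D' (Fin n → D')) := by
  classical
  have h1 : d = ∑ i, (d i) • (Pi.single i (1 : D') : Fin n → D') := by
    conv_lhs => rw [← Finset.univ_sum_single d]
    refine Finset.sum_congr rfl fun i _ => ?_
    rw [← Pi.single_smul, smul_eq_mul, mul_one]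
  rw [h1]
  refine Submodule.sum_mem _ fun i _ => ?_
  refine Submodule.smul_mem_smul ?_ Submodule.mem_top
  rw [RingHom.mem_ker, ← coord_apply (D := D), hd]
  rfl

theorem coord_eq_zero_of_mem_smul_top {n : ℕ} (d : Fin n → D')
    (hd : d ∈ (RingHom.ker (algebraMap D' D)) • (⊤ : Submodule D' (Fin n → D'))) :
    coord (D := D) n d = 0 := by
  refine Submodule.smul_induction_on hd ?_ ?_
  · intro r hr x _
    rw [map_smul]
    funext i
    rw [Pi.smul_apply, Pi.zero_apply, Algebra.smul_def, RingHom.mem_ker.mp hr, zero_mul]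
  · intro x y hx hy
    rw [map_add, hx, hy, add_zero]

/-- the `D`-linear map `D^n → N` determined by `π` and `p` -/
noncomputable def gmap {n : ℕ} (π : (Fin n → D') →ₗ[D'] P) (p : P →ₗ[D'] N) :
    (Fin n → D) →ₗ[D] N :=
  Fintype.linearCombination D (fun i => p (π (Pi.single i 1)))

theorem gmap_coord {n : ℕ} (π : (Fin n → D') →ₗ[D'] P) (p : P →ₗ[D'] N) (d : Fin n → D') :
    gmap (D := D) π p (coord n d) = p (π d) := by
  classical
  have h1 : d = ∑ i, (d i) • (Pi.single i (1 : D') : Fin n → D') := by
    conv_lhs => rw [← Finset.univ_sum_single d]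
    refine Finset.sum_congr rfl fun i _ => ?_
    rw [← Pi.single_smul, smul_eq_mul, mul_one]
  rw [gmap, Fintype.linearCombination_apply]
  conv_rhs => rw [h1, map_sum, map_sum]
  refine Finset.sum_congr rfl fun i _ => ?_
  rw [map_smul, map_smul, coord_apply, algebraMap_smul]

theorem stepA (hD : Function.Surjective (algebraMap D' D))
    (p : P →ₗ[D'] N) (hp : Function.Surjective p)
    (hkp : LinearMap.ker p ≤ (RingHom.ker (algebraMap D' D)) • (⊤ : Submodule D' P))
    [Module.FinitePresentation D N]
    {n : ℕ} (π : (Fin n → D') →ₗ[D'] P) (hπ : Function.Surjective π)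
    (hflat : ∀ x, π x = 0 →
      x ∈ (RingHom.ker (algebraMap D' D)) • (⊤ : Submodule D' (Fin n → D')) →
      x ∈ (RingHom.ker (algebraMap D' D)) • LinearMap.ker π) :
    ∃ S : Finset (Fin n → D'), (∀ s ∈ S, π s = 0) ∧
      LinearMap.ker π ≤ Submodule.span D' (S : Set (Fin n → D')) ⊔
        (RingHom.ker (algebraMap D' D)) • LinearMap.ker π := by
  classical
  set 𝔞 := RingHom.ker (algebraMap D' D) with h𝔞
  have hgs : Function.Surjective (gmap (D := D) π p) := by
    intro y
    obtain ⟨x, rfl⟩ := hp y
    obtain ⟨d, rfl⟩ := hπ x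
    exact ⟨coord n d, gmap_coord π p d⟩
  obtain ⟨T, hT⟩ := Module.FinitePresentation.fg_ker (gmap (D := D) π p) hgs
  -- lifting elements of the kernel of `g`
  have hlift : ∀ t : Fin n → D, gmap (D := D) π p t = 0 →
      ∃ s : Fin n → D', π s = 0 ∧ coord n s = t := by
    intro t ht
    obtain ⟨d, rfl⟩ := coord_surjective hD n t
    rw [gmap_coord] at ht
    have h1 : π d ∈ 𝔞 • (⊤ : Submodule D' P) := hkp ht
    have h2 : 𝔞 • (⊤ : Submodule D' P) =
        Submodule.map π (𝔞 • (⊤ : Submodule D' (Fin n → D'))) := by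
      rw [Submodule.map_smul'', Submodule.map_top, LinearMap.range_eq_top.mpr hπ]
    rw [h2] at h1
    obtain ⟨e, he, hee⟩ := h1
    refine ⟨d - e, by rw [map_sub, hee, sub_self], ?_⟩
    rw [map_sub, coord_eq_zero_of_mem_smul_top e he, sub_zero]
  choose! s hs1 hs2 using hlift
  have hTker : ∀ t ∈ T, gmap (D := D) π p t = 0 := by
    intro t ht
    have : t ∈ LinearMap.ker (gmap (D := D) π p) := by
      rw [← hT]; exact Submodule.subset_span ht
    exact this
  refine ⟨T.image s, ?_, ?_⟩
  · intro x hx
    obtain ⟨t, ht, rfl⟩ := Finset.mem_image.mp hx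
    exact hs1 t (hTker t ht)
  · intro k hk
    have hk0 : π k = 0 := hk
    have hck : coord (D := D) n k ∈ Submodule.span D (T : Set (Fin n → D)) := by
      rw [hT, LinearMap.mem_ker, gmap_coord, hk0, map_zero]
    have key : ∀ y ∈ Submodule.span D (T : Set (Fin n → D)),
        ∃ x ∈ Submodule.span D' ((T.image s : Finset (Fin n → D')) : Set (Fin n → D')),
          coord (D := D) n x = y := by
      intro y hy
      induction hy using Submodule.span_induction with
      | mem t ht =>
        exact ⟨s t, Submodule.subset_span (Finset.mem_coe.mpr (Finset.mem_image_of_mem s ht)),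
          hs2 t (hTker t ht)⟩
      | zero => exact ⟨0, Submodule.zero_mem _, map_zero _⟩
      | add y₁ y₂ _ _ h₁ h₂ =>
        obtain ⟨x₁, hx₁, rfl⟩ := h₁
        obtain ⟨x₂, hx₂, rfl⟩ := h₂
        exact ⟨x₁ + x₂, Submodule.add_mem _ hx₁ hx₂, map_add _ _ _⟩
      | smul r y _ h =>
        obtain ⟨x, hx, rfl⟩ := h
        obtain ⟨r', rfl⟩ := hD r
        refine ⟨r' • x, Submodule.smul_mem _ r' hx, ?_⟩
        rw [map_smul, algebraMap_smul]
    obtain ⟨x, hx, hxk⟩ := key _ hck
    have hxker : π x = 0 := by
      have hle : Submodule.span D' ((T.image s : Finset (Fin n → D')) : Set (Fin n → D')) ≤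
          LinearMap.ker π := by
        rw [Submodule.span_le]
        intro z hz
        obtain ⟨t, ht, rfl⟩ := Finset.mem_image.mp (Finset.mem_coe.mp hz)
        exact hs1 t (hTker t ht)
      exact hle hx
    have h3 : k - x ∈ 𝔞 • LinearMap.ker π := by
      apply hflat
      · rw [map_sub, hk0, hxker, sub_zero]
      · apply mem_smul_top_of_coord_eq_zero
        rw [map_sub, hxk, sub_self]
    have : k = x + (k - x) := by abel
    rw [this]
    exact Submodule.add_mem_sup hx h3

end StepA

section StepB

open Groth.Agent.Lib.Helper22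

variable {B' B A' A : Type u} [CommRing B'] [CommRing B] [CommRing A'] [CommRing A]
  [Algebra B' B] [Algebra B' A'] [Algebra B A] [Algebra A' A] [Algebra B' A]
  [IsScalarTower B' B A] [IsScalarTower B' A' A]
  {D' C' : Type u} [CommRing D'] [CommRing C'] [Algebra B' D'] [Algebra A' C'] [Algebra D' C']
  [Algebra B' C'] [IsScalarTower B' A' C'] [IsScalarTower B' D' C']
  [Algebra.IsPushout B' A' D' C']

/-- `A' ⊗ D'^n ≃ C'^n` -/
noncomputable def Eqv (n : ℕ) : A' ⊗[B'] (Fin n → D') ≃ₗ[A'] (Fin n → C') :=
  (TensorProduct.piRight B' A' A' (fun _ : Fin n => D')) ≪≫ₗ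
    LinearEquiv.piCongrRight (fun _ => (Algebra.IsPushout.out :
      IsBaseChange A' (IsScalarTower.toAlgHom B' D' C').toLinearMap).equiv)

theorem Eqv_tmul {n : ℕ} (a' : A') (f : Fin n → D') :
    Eqv (B' := B') (C' := C') n (a' ⊗ₜ[B'] f) = a' • coord (D := C') n f := by
  funext i
  rw [Eqv, LinearEquiv.trans_apply, TensorProduct.piRight_apply, TensorProduct.piRightHom_tmul,
    LinearEquiv.piCongrRight_apply, IsBaseChange.equiv_tmul, Pi.smul_apply, coord_apply]
  rfl

/-- the `B'`-linear map `C'^n → D'^n` induced by `jmap j : A' → B'` -/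
noncomputable def Theta (hsq : EtMil.IsFibreSquare B' B A' A) (j : B')
    (hj : algebraMap B' B j = 0) (n : ℕ) : (Fin n → C') →ₗ[B'] (Fin n → D') :=
  (TensorProduct.lid B' (Fin n → D')).toLinearMap ∘ₗ
    (LinearMap.rTensor (Fin n → D') (jmap hsq j hj)) ∘ₗ
      ((Eqv (B' := B') (A' := A') (D' := D') (C' := C') n).symm.toLinearMap.restrictScalars B')

theorem Theta_smul_coord (hsq : EtMil.IsFibreSquare B' B A' A) (j : B')
    (hj : algebraMap B' B j = 0) {n : ℕ} (a' : A') (f : Fin n → D') :
    Theta (C' := C') hsq j hj n (a' • coord (D := C') n f) = jmap hsq j hj a' • f := by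
  rw [← Eqv_tmul (B' := B')]
  simp only [Theta, LinearMap.coe_comp, Function.comp_apply, LinearMap.coe_restrictScalars,
    LinearEquiv.coe_coe, LinearEquiv.symm_apply_apply, LinearMap.rTensor_tmul,
    TensorProduct.lid_tmul]

theorem Theta_coord (hsq : EtMil.IsFibreSquare B' B A' A) (j : B')
    (hj : algebraMap B' B j = 0) {n : ℕ} (f : Fin n → D') :
    Theta (C' := C') hsq j hj n (coord (D := C') n f) = j • f := by
  have := Theta_smul_coord (C' := C') hsq j hj (1 : A') f
  rwa [one_smul, jmap_one] at this

theorem Theta_smul_coord_mem (hsq : EtMil.IsFibreSquare B' B A' A) (j : B')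
    (hj : algebraMap B' B j = 0) {n : ℕ} (γ : C') (f : Fin n → D') :
    Theta (C' := C') hsq j hj n (γ • coord (D := C') n f) ∈
      Submodule.span D' ({f} : Set (Fin n → D')) := by
  have hPO : IsBaseChange A' (IsScalarTower.toAlgHom B' D' C').toLinearMap :=
    Algebra.IsPushout.out
  obtain ⟨ξ, rfl⟩ := hPO.equiv.surjective γ
  induction ξ using TensorProduct.induction_on with
  | zero =>
    rw [map_zero, zero_smul, map_zero]
    exact Submodule.zero_mem _
  | tmul a' d =>
    have h1 : hPO.equiv (a' ⊗ₜ[B'] d) • coord (D := C') n f =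
        a' • coord (D := C') n (d • f) := by
      rw [IsBaseChange.equiv_tmul, map_smul, smul_assoc]
      congr 1
      funext i
      rw [Pi.smul_apply, Pi.smul_apply, coord_apply, Algebra.smul_def (A := C') d,
        smul_eq_mul]
      rfl
    rw [h1, Theta_smul_coord]
    exact Submodule.smul_of_tower_mem _ _
      (Submodule.smul_mem _ d (Submodule.mem_span_singleton_self f))
  | add ξ₁ ξ₂ h₁ h₂ =>
    rw [map_add, add_smul, map_add]
    exact Submodule.add_mem _ h₁ h₂

variable {P M' : Type u} [AddCommGroup P] [Module D' P] [Module B' P] [IsScalarTower B' D' P]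
  [AddCommGroup M'] [Module C' M'] [Module D' M'] [IsScalarTower D' C' M'] [Module A' M']
  [IsScalarTower A' C' M'] [Module B' M'] [IsScalarTower B' A' M'] [IsScalarTower B' D' M']

theorem gmap_Eqv {n : ℕ} (π : (Fin n → D') →ₗ[D'] P) (q : P →ₗ[D'] M')
    (ξ : A' ⊗[B'] (Fin n → D')) :
    gmap (D := C') π q (Eqv (B' := B') n ξ) =
      LinearMap.liftBaseChange A' (q.restrictScalars B')
        (LinearMap.lTensor A' (π.restrictScalars B') ξ) := by
  induction ξ using TensorProduct.induction_on with
  | zero => simp only [map_zero]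
  | tmul a' f =>
    rw [Eqv_tmul, LinearMap.lTensor_tmul, LinearMap.liftBaseChange_tmul,
      ← algebraMap_smul C' a' (coord (D := C') n f), map_smul, gmap_coord, algebraMap_smul]
    rfl
  | add ξ₁ ξ₂ h₁ h₂ => rw [map_add, map_add, map_add, map_add, h₁, h₂]

theorem stepB (hsq : EtMil.IsFibreSquare B' B A' A)
    (q : P →ₗ[D'] M')
    (hq : Function.Bijective (LinearMap.liftBaseChange A' (q.restrictScalars B')))
    [Module.FinitePresentation C' M']
    {n : ℕ} (π : (Fin n → D') →ₗ[D'] P) (hπ : Function.Surjective π) :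
    ∃ S : Finset (Fin n → D'), (∀ s ∈ S, π s = 0) ∧
      ∀ (j : B'), algebraMap B' B j = 0 → ∀ k, π k = 0 →
        j • k ∈ Submodule.span D' (S : Set (Fin n → D')) := by
  classical
  set G := gmap (D := C') π q with hG
  have hπB : Function.Surjective (π.restrictScalars B') := hπ
  have hGs : Function.Surjective G := by
    intro y
    obtain ⟨z, rfl⟩ := hq.2 y
    obtain ⟨ξ, rfl⟩ := LinearMap.lTensor_surjective A' hπB z
    exact ⟨Eqv (B' := B') n ξ, gmap_Eqv π q ξ⟩
  obtain ⟨T, hT⟩ := Module.FinitePresentation.fg_ker G hGs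
  set ι := (LinearMap.ker (π.restrictScalars B')).subtype with hι
  have hex : Function.Exact (LinearMap.lTensor A' ι) (LinearMap.lTensor A' (π.restrictScalars B')) :=
    lTensor_exact A' (LinearMap.exact_subtype_ker_map (π.restrictScalars B')) hπB
  -- elements of the kernel of `G` come from `A' ⊗ K'`
  have h1 : ∀ t : Fin n → C', G t = 0 →
      ∃ ζ : A' ⊗[B'] (LinearMap.ker (π.restrictScalars B')),
        Eqv (B' := B') n (LinearMap.lTensor A' ι ζ) = t := by
    intro t ht
    obtain ⟨ξ, rfl⟩ := (Eqv (B' := B') (A' := A') (D' := D') (C' := C') n).surjective t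
    rw [hG, gmap_Eqv] at ht
    have h0 : LinearMap.lTensor A' (π.restrictScalars B') ξ = 0 := by
      apply hq.1
      rw [ht, map_zero]
    obtain ⟨ζ, hζ⟩ := (hex ξ).mp h0
    exact ⟨ζ, by rw [hζ]⟩
  have h2 : ∀ ζ : A' ⊗[B'] (LinearMap.ker (π.restrictScalars B')),
      ∃ S : Finset (Fin n → D'), (∀ s ∈ S, π s = 0) ∧
        Eqv (B' := B') n (LinearMap.lTensor A' ι ζ) ∈
          Submodule.span A' (coord (D := C') n '' (S : Set (Fin n → D'))) := by
    intro ζ
    induction ζ using TensorProduct.induction_on with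
    | zero =>
      refine ⟨∅, by simp, ?_⟩
      rw [map_zero, map_zero]
      exact Submodule.zero_mem _
    | tmul a' k =>
      refine ⟨{(k : Fin n → D')}, ?_, ?_⟩
      · intro s hs
        rw [Finset.mem_singleton] at hs
        rw [hs]
        exact k.2
      · rw [LinearMap.lTensor_tmul, Eqv_tmul]
        refine Submodule.smul_mem _ _ (Submodule.subset_span ?_)
        exact ⟨k, by simp, rfl⟩
    | add ζ₁ ζ₂ h₁ h₂ =>
      obtain ⟨S₁, hS₁, hm₁⟩ := h₁
      obtain ⟨S₂, hS₂, hm₂⟩ := h₂
      refine ⟨S₁ ∪ S₂, ?_, ?_⟩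
      · intro s hs
        rcases Finset.mem_union.mp hs with h | h
        · exact hS₁ s h
        · exact hS₂ s h
      · rw [map_add, map_add]
        refine Submodule.add_mem _ ?_ ?_
        · refine Submodule.span_mono (Set.image_mono ?_) hm₁
          intro x hx
          exact Finset.mem_union_left _ hx
        · refine Submodule.span_mono (Set.image_mono ?_) hm₂
          intro x hx
          exact Finset.mem_union_right _ hx
  have h3 : ∀ t : Fin n → C', G t = 0 →
      ∃ S : Finset (Fin n → D'), (∀ s ∈ S, π s = 0) ∧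
        t ∈ Submodule.span A' (coord (D := C') n '' (S : Set (Fin n → D'))) := by
    intro t ht
    obtain ⟨ζ, rfl⟩ := h1 t ht
    exact h2 ζ
  choose! S hS1 hS2 using h3
  have hTker : ∀ t ∈ T, G t = 0 := by
    intro t ht
    have : t ∈ LinearMap.ker G := by
      rw [← hT]; exact Submodule.subset_span ht
    exact this
  refine ⟨T.biUnion S, ?_, ?_⟩
  · intro s hs
    obtain ⟨t, ht, hst⟩ := Finset.mem_biUnion.mp hs
    exact hS1 t (hTker t ht) s hst
  · intro j hj k hk
    have hle : LinearMap.ker G ≤
        Submodule.span C' (coord (D := C') n '' ((T.biUnion S : Finset (Fin n → D')) :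
          Set (Fin n → D'))) := by
      rw [← hT, Submodule.span_le]
      intro t ht
      have h4 := hS2 t (hTker t ht)
      have h5 : Submodule.span A' (coord (D := C') n '' (S t : Set (Fin n → D'))) ≤
          (Submodule.span C' (coord (D := C') n '' ((T.biUnion S : Finset (Fin n → D')) :
            Set (Fin n → D')))).restrictScalars A' := by
        refine le_trans (Submodule.span_le_restrictScalars A' C' _) ?_
        intro x hx
        refine Submodule.span_mono (Set.image_mono ?_) hx
        intro z hz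
        exact Finset.mem_coe.mpr (Finset.mem_biUnion.mpr ⟨t, ht, hz⟩)
      exact h5 h4
    have hck : coord (D := C') n k ∈ LinearMap.ker G := by
      rw [LinearMap.mem_ker, hG, gmap_coord, hk, map_zero]
    have h6 := hle hck
    rw [Finsupp.mem_span_image_iff_linearCombination] at h6
    obtain ⟨l, hlsupp, hl⟩ := h6
    rw [← Theta_coord (C' := C') hsq j hj, ← hl, Finsupp.linearCombination_apply, Finsupp.sum,
      map_sum]
    refine Submodule.sum_mem _ fun z hz => ?_
    have hz' : z ∈ ((T.biUnion S : Finset (Fin n → D')) : Set (Fin n → D')) :=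
      (Finsupp.mem_supported _ l).mp hlsupp hz
    have h7 := Theta_smul_coord_mem (C' := C') hsq j hj (l z) z
    refine Submodule.span_mono ?_ h7
    intro w hw
    rw [Set.mem_singleton_iff] at hw
    rw [hw]
    exact hz'

end StepB

section StepC

open Groth.Agent.Lib.Helper22

variable {B' B A' A : Type u} [CommRing B'] [CommRing B] [CommRing A'] [CommRing A]
  [Algebra B' B] [Algebra B' A'] [Algebra B A] [Algebra A' A] [Algebra B' A]
  [IsScalarTower B' B A] [IsScalarTower B' A' A]
  {D' D C' : Type u} [CommRing D'] [CommRing D] [CommRing C'] [Algebra B' D'] [Algebra D' D]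
  [Algebra A' C'] [Algebra D' C']
  [Algebra B' C'] [IsScalarTower B' A' C'] [IsScalarTower B' D' C']
  [Algebra.IsPushout B' A' D' C']
  {P N M' : Type u} [AddCommGroup P] [Module D' P] [Module B' P] [IsScalarTower B' D' P]
  [AddCommGroup N] [Module D N] [Module D' N] [IsScalarTower D' D N]
  [AddCommGroup M'] [Module C' M'] [Module D' M'] [IsScalarTower D' C' M'] [Module A' M']
  [IsScalarTower A' C' M'] [Module B' M'] [IsScalarTower B' A' M'] [IsScalarTower B' D' M']

theorem finitePresentation_of_flat (hsq : EtMil.IsFibreSquare B' B A' A)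
    [Module.Flat B' P] [Module.Finite D' P]
    (hD : Function.Surjective (algebraMap D' D))
    (hker : RingHom.ker (algebraMap D' D) = (RingHom.ker (algebraMap B' B)).map (algebraMap B' D'))
    (p : P →ₗ[D'] N) (hp : Function.Surjective p)
    (hkp : LinearMap.ker p ≤ (RingHom.ker (algebraMap D' D)) • (⊤ : Submodule D' P))
    [Module.FinitePresentation D N]
    (q : P →ₗ[D'] M')
    (hq : Function.Bijective (LinearMap.liftBaseChange A' (q.restrictScalars B')))
    [Module.FinitePresentation C' M'] :
    Module.FinitePresentation D' P := by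
  classical
  obtain ⟨n, π, hπ⟩ := Module.Finite.exists_fin' D' P
  set J := RingHom.ker (algebraMap B' B) with hJ
  have hflat : ∀ x, π x = 0 →
      x ∈ (RingHom.ker (algebraMap D' D)) • (⊤ : Submodule D' (Fin n → D')) →
      x ∈ (RingHom.ker (algebraMap D' D)) • LinearMap.ker π := by
    intro x hx hxJ
    rw [hker] at hxJ ⊢
    have h1 : x ∈ J • (⊤ : Submodule B' (Fin n → D')) := by
      have : x ∈ ((J.map (algebraMap B' D')) • (⊤ : Submodule D' (Fin n → D'))).restrictScalars B' :=
        hxJ
      rwa [Ideal.smul_restrictScalars, Submodule.restrictScalars_top] at this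
    have h2 := Groth.Agent.Lib.Helper22.PoMap2.mem_smul_ker_of_flat (π.restrictScalars B') hπ J x hx h1
    have h3 : LinearMap.ker (π.restrictScalars B') = (LinearMap.ker π).restrictScalars B' := rfl
    rw [h3, ← Ideal.smul_restrictScalars] at h2
    exact h2
  obtain ⟨S₁, hS₁, hle₁⟩ := stepA hD p hp hkp π hπ hflat
  obtain ⟨S₂, hS₂, hle₂⟩ := stepB (C' := C') hsq q hq π hπ
  have hle₃ : (RingHom.ker (algebraMap D' D)) • LinearMap.ker π ≤
      Submodule.span D' (S₂ : Set (Fin n → D')) := by
    rw [hker, Submodule.smul_le]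
    intro r hr
    refine Submodule.span_induction (p := fun r _ => ∀ k ∈ LinearMap.ker π,
      r • k ∈ Submodule.span D' (S₂ : Set (Fin n → D'))) ?_ ?_ ?_ ?_ hr
    · rintro _ ⟨j, hj, rfl⟩ k hk
      rw [algebraMap_smul]
      exact hle₂ j (RingHom.mem_ker.mp hj) k hk
    · intro k _
      rw [zero_smul]
      exact Submodule.zero_mem _
    · intro r₁ r₂ _ _ h₁ h₂ k hk
      rw [add_smul]
      exact Submodule.add_mem _ (h₁ k hk) (h₂ k hk)
    · intro d r _ h k hk
      rw [smul_eq_mul, mul_comm, mul_smul]
      exact h _ (Submodule.smul_mem _ d hk)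
  have hfg : (LinearMap.ker π).FG := by
    refine ⟨S₁ ∪ S₂, le_antisymm ?_ ?_⟩
    · rw [Submodule.span_le]
      intro x hx
      rcases Finset.mem_union.mp (Finset.mem_coe.mp hx) with h | h
      · exact hS₁ x h
      · exact hS₂ x h
    · refine le_trans hle₁ (sup_le ?_ (le_trans hle₃ ?_))
      · exact Submodule.span_mono (by intro x hx; exact Finset.mem_union_left _ hx)
      · exact Submodule.span_mono (by intro x hx; exact Finset.mem_union_right _ hx)
  exact Module.finitePresentation_of_surjective π hπ hfg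

end StepC

end Groth.Agent.Lib.T2H3.MilnorFP
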