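import Mathlib
import Groth.Prelude.Def_EtMil
import Groth.Agent.Lib.Helper22Milnor
import Groth.Agent.Lib.Helper22PoMapAlg2
import Groth.Agent.S12081

/-! The relative glueing situation over a fibre square of rings: finiteness of the glued
module. -/

set_option autoImplicit false
set_option linter.unusedSectionVars false

namespace Groth.Agent.Lib.T2H9.MilnorRel

open TensorProduct

universe u

theorem fs_surjective_fst {B' B A' A : Type u} [CommRing B'] [CommRing B] [CommRing A'] [CommRing A]
    [Algebra B' B] [Algebra B' A'] [Algebra B A] [Algebra A' A] [Algebra B' A]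
    [IsScalarTower B' B A] [IsScalarTower B' A' A]
    (hsq : EtMil.IsFibreSquare B' B A' A) :
    Function.Surjective (algebraMap B' B) := by
  intro b
  obtain ⟨a', ha'⟩ := hsq.1 (algebraMap B A b)
  obtain ⟨b', ⟨hb', -⟩, -⟩ := hsq.2 b a' ha'.symm
  exact ⟨b', hb'⟩

theorem isPushout_right {B' B A' A : Type u} [CommRing B'] [CommRing B] [CommRing A'] [CommRing A]
    [Algebra B' B] [Algebra B' A'] [Algebra B A] [Algebra A' A] [Algebra B' A]
    [IsScalarTower B' B A] [IsScalarTower B' A' A]
    {D' D C' C : Type u} [CommRing D'] [CommRing D] [CommRing C'] [CommRing C]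
    [Algebra B' D'] [Algebra B D] [Algebra A' C'] [Algebra A C]
    [Algebra D' D] [Algebra B' D] [IsScalarTower B' B D] [IsScalarTower B' D' D]
    [Algebra.IsPushout B' B D' D]
    [Algebra D' C'] [Algebra B' C'] [IsScalarTower B' A' C'] [IsScalarTower B' D' C']
    [Algebra.IsPushout B' A' D' C']
    [Algebra D' C] [Algebra B' C] [IsScalarTower B' A C] [IsScalarTower B' D' C]
    [Algebra.IsPushout B' A D' C]
    [Algebra D C] [IsScalarTower D' D C] [Algebra B C] [IsScalarTower B A C] [IsScalarTower B D C]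
    [Algebra C' C] [IsScalarTower D' C' C] [Algebra A' C] [IsScalarTower A' A C]
    [IsScalarTower A' C' C] :
    Algebra.IsPushout A' A C' C := by
  have : IsScalarTower B' C' C := IsScalarTower.of_algebraMap_eq fun b => by
    rw [IsScalarTower.algebraMap_apply B' D' C, IsScalarTower.algebraMap_apply D' C' C,
      ← IsScalarTower.algebraMap_apply B' D' C']
  exact (Algebra.IsPushout.comp_iff B' A' D' (S' := C') (T := A) (T' := C)).mp inferInstance

theorem surjective_C {B' B A' A : Type u} [CommRing B'] [CommRing B] [CommRing A'] [CommRing A]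
    [Algebra B' B] [Algebra B' A'] [Algebra B A] [Algebra A' A] [Algebra B' A]
    [IsScalarTower B' B A] [IsScalarTower B' A' A]
    {D' D C' C : Type u} [CommRing D'] [CommRing D] [CommRing C'] [CommRing C]
    [Algebra B' D'] [Algebra B D] [Algebra A' C'] [Algebra A C]
    [Algebra D' D] [Algebra B' D] [IsScalarTower B' B D] [IsScalarTower B' D' D]
    [Algebra.IsPushout B' B D' D]
    [Algebra D' C'] [Algebra B' C'] [IsScalarTower B' A' C'] [IsScalarTower B' D' C']
    [Algebra.IsPushout B' A' D' C']
    [Algebra D' C] [Algebra B' C] [IsScalarTower B' A C] [IsScalarTower B' D' C]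
    [Algebra.IsPushout B' A D' C]
    [Algebra D C] [IsScalarTower D' D C] [Algebra B C] [IsScalarTower B A C] [IsScalarTower B D C]
    [Algebra C' C] [IsScalarTower D' C' C] [Algebra A' C] [IsScalarTower A' A C]
    [IsScalarTower A' C' C]
    (hsq : EtMil.IsFibreSquare B' B A' A) :
    Function.Surjective (algebraMap C' C) := by
  have := isPushout_right (B' := B') (B := B) (A' := A') (A := A) (D' := D') (D := D)
    (C' := C') (C := C)
  exact Groth.Agent.Lib.Helper22.PoMap2.surjective_of_isPushout (R := A') (A := A) hsq.1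

theorem surjective_D {B' B A' A : Type u} [CommRing B'] [CommRing B] [CommRing A'] [CommRing A]
    [Algebra B' B] [Algebra B' A'] [Algebra B A] [Algebra A' A] [Algebra B' A]
    [IsScalarTower B' B A] [IsScalarTower B' A' A]
    {D' D C' C : Type u} [CommRing D'] [CommRing D] [CommRing C'] [CommRing C]
    [Algebra B' D'] [Algebra B D] [Algebra A' C'] [Algebra A C]
    [Algebra D' D] [Algebra B' D] [IsScalarTower B' B D] [IsScalarTower B' D' D]
    [Algebra.IsPushout B' B D' D]
    [Algebra D' C'] [Algebra B' C'] [IsScalarTower B' A' C'] [IsScalarTower B' D' C']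
    [Algebra.IsPushout B' A' D' C']
    [Algebra D' C] [Algebra B' C] [IsScalarTower B' A C] [IsScalarTower B' D' C]
    [Algebra.IsPushout B' A D' C]
    [Algebra D C] [IsScalarTower D' D C] [Algebra B C] [IsScalarTower B A C] [IsScalarTower B D C]
    [Algebra C' C] [IsScalarTower D' C' C] [Algebra A' C] [IsScalarTower A' A C]
    [IsScalarTower A' C' C]
    (hsq : EtMil.IsFibreSquare B' B A' A) :
    Function.Surjective (algebraMap D' D) :=
  Groth.Agent.Lib.Helper22.PoMap2.surjective_of_isPushout (R := B') (A := B)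
    (fs_surjective_fst hsq)

/-- the kernel of `C' → C` is the image of `J D'` -/
theorem exists_of_mem_ker_C {B' B A' A : Type u} [CommRing B'] [CommRing B] [CommRing A'] [CommRing A]
    [Algebra B' B] [Algebra B' A'] [Algebra B A] [Algebra A' A] [Algebra B' A]
    [IsScalarTower B' B A] [IsScalarTower B' A' A]
    {D' D C' C : Type u} [CommRing D'] [CommRing D] [CommRing C'] [CommRing C]
    [Algebra B' D'] [Algebra B D] [Algebra A' C'] [Algebra A C]
    [Algebra D' D] [Algebra B' D] [IsScalarTower B' B D] [IsScalarTower B' D' D]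
    [Algebra.IsPushout B' B D' D]
    [Algebra D' C'] [Algebra B' C'] [IsScalarTower B' A' C'] [IsScalarTower B' D' C']
    [Algebra.IsPushout B' A' D' C']
    [Algebra D' C] [Algebra B' C] [IsScalarTower B' A C] [IsScalarTower B' D' C]
    [Algebra.IsPushout B' A D' C]
    [Algebra D C] [IsScalarTower D' D C] [Algebra B C] [IsScalarTower B A C] [IsScalarTower B D C]
    [Algebra C' C] [IsScalarTower D' C' C] [Algebra A' C] [IsScalarTower A' A C]
    [IsScalarTower A' C' C]
    (hsq : EtMil.IsFibreSquare B' B A' A) (s : C')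
    (hs : algebraMap C' C s = 0) :
    ∃ j ∈ (RingHom.ker (algebraMap B' B)).map (algebraMap B' D'), algebraMap D' C' j = s := by
  have := isPushout_right (B' := B') (B := B) (A' := A') (A := A) (D' := D') (D := D)
    (C' := C') (C := C)
  have h1 : s ∈ (RingHom.ker (algebraMap A' A)) • (⊤ : Submodule A' C') :=
    Groth.Agent.Lib.Helper22.PoMap2.mem_smul_top_of_isPushout (R := A') (A := A) hsq.1 s hs
  have h2 : s ∈ (RingHom.ker (algebraMap A' A)).map (algebraMap A' C') := by
    refine Submodule.smul_induction_on h1 ?_ ?_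
    · intro i hi c _
      rw [Algebra.smul_def]
      exact Ideal.mul_mem_right _ _ (Ideal.mem_map_of_mem _ hi)
    · intro x y hx hy
      exact Ideal.add_mem _ hx hy
  have h3 := Groth.Agent.S12081.result B' B A' A hsq D' C'
  have h4 : s ∈ (algebraMap D' C') ''
      ((RingHom.ker (algebraMap B' B)).map (algebraMap B' D') : Set D') := by
    rw [h3]
    exact h2
  obtain ⟨j, hj, rfl⟩ := h4
  exact ⟨j, hj, rfl⟩

theorem map_D_eq_zero {B' B A' A : Type u} [CommRing B'] [CommRing B] [CommRing A'] [CommRing A]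
    [Algebra B' B] [Algebra B' A'] [Algebra B A] [Algebra A' A] [Algebra B' A]
    [IsScalarTower B' B A] [IsScalarTower B' A' A]
    {D' D C' C : Type u} [CommRing D'] [CommRing D] [CommRing C'] [CommRing C]
    [Algebra B' D'] [Algebra B D] [Algebra A' C'] [Algebra A C]
    [Algebra D' D] [Algebra B' D] [IsScalarTower B' B D] [IsScalarTower B' D' D]
    [Algebra.IsPushout B' B D' D]
    [Algebra D' C'] [Algebra B' C'] [IsScalarTower B' A' C'] [IsScalarTower B' D' C']
    [Algebra.IsPushout B' A' D' C']
    [Algebra D' C] [Algebra B' C] [IsScalarTower B' A C] [IsScalarTower B' D' C]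
    [Algebra.IsPushout B' A D' C]
    [Algebra D C] [IsScalarTower D' D C] [Algebra B C] [IsScalarTower B A C] [IsScalarTower B D C]
    [Algebra C' C] [IsScalarTower D' C' C] [Algebra A' C] [IsScalarTower A' A C]
    [IsScalarTower A' C' C]
    (j : D') (hj : j ∈ (RingHom.ker (algebraMap B' B)).map (algebraMap B' D')) :
    algebraMap D' D j = 0 := by
  have hle : (RingHom.ker (algebraMap B' B)).map (algebraMap B' D') ≤
      RingHom.ker (algebraMap D' D) := by
    rw [Ideal.map_le_iff_le_comap]
    intro b hb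
    rw [Ideal.mem_comap, RingHom.mem_ker, ← IsScalarTower.algebraMap_apply B' D' D,
      IsScalarTower.algebraMap_apply B' B D, RingHom.mem_ker.mp hb, map_zero]
  exact RingHom.mem_ker.mp (hle hj)


/-- pairs `(0, s • μ)` with `s` in the kernel of `C' → C` are in the glued module -/
theorem zero_smul_mem {D' D C' C : Type u} [CommRing D'] [CommRing D] [CommRing C'] [CommRing C]
    [Algebra D' D] [Algebra D' C'] [Algebra D C] [Algebra C' C] [Algebra D' C]
    [IsScalarTower D' D C] [IsScalarTower D' C' C]
    {N M' : Type u} [AddCommGroup N] [Module D N] [Module D' N] [IsScalarTower D' D N]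
    [AddCommGroup M'] [Module C' M'] [Module D' M'] [IsScalarTower D' C' M']
    (φ : C ⊗[D] N ≃ₗ[C] C ⊗[C'] M')
    (s : C') (hs : algebraMap C' C s = 0) (μ : M') :
    ((0 : N), s • μ) ∈ EtMil.glue D' φ := by
  change φ ((1 : C) ⊗ₜ[D] (0 : N)) = (1 : C) ⊗ₜ[C'] (s • μ)
  rw [TensorProduct.tmul_zero, map_zero, ← TensorProduct.smul_tmul, Algebra.smul_def, mul_one, hs,
    TensorProduct.zero_tmul]

theorem finite_glue {B' B A' A : Type u} [CommRing B'] [CommRing B] [CommRing A'] [CommRing A]
    [Algebra B' B] [Algebra B' A'] [Algebra B A] [Algebra A' A] [Algebra B' A]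
    [IsScalarTower B' B A] [IsScalarTower B' A' A]
    {D' D C' C : Type u} [CommRing D'] [CommRing D] [CommRing C'] [CommRing C]
    [Algebra B' D'] [Algebra B D] [Algebra A' C'] [Algebra A C]
    [Algebra D' D] [Algebra B' D] [IsScalarTower B' B D] [IsScalarTower B' D' D]
    [Algebra.IsPushout B' B D' D]
    [Algebra D' C'] [Algebra B' C'] [IsScalarTower B' A' C'] [IsScalarTower B' D' C']
    [Algebra.IsPushout B' A' D' C']
    [Algebra D' C] [Algebra B' C] [IsScalarTower B' A C] [IsScalarTower B' D' C]
    [Algebra.IsPushout B' A D' C]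
    [Algebra D C] [IsScalarTower D' D C] [Algebra B C] [IsScalarTower B A C] [IsScalarTower B D C]
    [Algebra C' C] [IsScalarTower D' C' C] [Algebra A' C] [IsScalarTower A' A C]
    [IsScalarTower A' C' C]
    {N M' : Type u} [AddCommGroup N] [Module D N] [Module D' N] [IsScalarTower D' D N]
    [AddCommGroup M'] [Module C' M'] [Module D' M'] [IsScalarTower D' C' M']
    (φ : C ⊗[D] N ≃ₗ[C] C ⊗[C'] M')
    [Module.Finite D N] [Module.Finite C' M']
    (hsq : EtMil.IsFibreSquare B' B A' A) :
    Module.Finite D' ↥(EtMil.glue D' φ) := by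
  classical
  have hC : Function.Surjective (algebraMap C' C) :=
    surjective_C (B := B) (D' := D') (D := D) hsq
  have hD : Function.Surjective (algebraMap D' D) :=
    surjective_D (A' := A') (A := A) (C' := C') (C := C) hsq
  have hfst : ∀ n : N, ∃ m' : M', (n, m') ∈ EtMil.glue D' φ := by
    intro n
    obtain ⟨m', hm'⟩ := TensorProduct.mk_surjective C' M' C hC (φ ((1 : C) ⊗ₜ[D] n))
    exact ⟨m', hm'.symm⟩
  have hDfin : Module.Finite D' D := Module.Finite.of_surjective (Algebra.linearMap D' D) hD
  have hNfin : Module.Finite D' N := Module.Finite.trans D N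
  obtain ⟨TN, hTN⟩ := (Module.Finite.fg_top : (⊤ : Submodule D' N).FG)
  obtain ⟨SM, hSM⟩ := (Module.Finite.fg_top : (⊤ : Submodule C' M').FG)
  choose lift hlift using hfst
  let sndL : EtMil.glue D' φ → M' := fun l => (l : N × M').2
  have key : ∀ t : C ⊗[D] N, ∃ (F : Finset (EtMil.glue D' φ)),
      ∃ m' ∈ Submodule.span C' (sndL '' (F : Set (EtMil.glue D' φ))),
        φ t = (1 : C) ⊗ₜ[C'] m' := by
    intro t
    induction t using TensorProduct.induction_on with
    | zero => exact ⟨∅, 0, Submodule.zero_mem _, by rw [map_zero, TensorProduct.tmul_zero]⟩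
    | tmul c n =>
      obtain ⟨c', rfl⟩ := hC c
      refine ⟨{⟨(n, lift n), hlift n⟩}, c' • lift n, ?_, ?_⟩
      · apply Submodule.smul_mem
        apply Submodule.subset_span
        exact ⟨⟨(n, lift n), hlift n⟩, by simp, rfl⟩
      · have e : (algebraMap C' C c') ⊗ₜ[D] n = (algebraMap C' C c') • ((1 : C) ⊗ₜ[D] n) := by
          rw [TensorProduct.smul_tmul', smul_eq_mul, mul_one]
        have hmem : φ ((1 : C) ⊗ₜ[D] n) = (1 : C) ⊗ₜ[C'] (lift n) := hlift n
        rw [e, map_smul, hmem, TensorProduct.smul_tmul', smul_eq_mul, mul_one,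
          ← TensorProduct.smul_tmul, Algebra.smul_def, mul_one]
    | add x y hx hy =>
      obtain ⟨F1, m1, h1, e1⟩ := hx
      obtain ⟨F2, m2, h2, e2⟩ := hy
      refine ⟨F1 ∪ F2, m1 + m2, ?_, by rw [map_add, e1, e2, TensorProduct.tmul_add]⟩
      apply Submodule.add_mem
      · refine Submodule.span_mono (Set.image_mono ?_) h1
        intro x hx
        exact Finset.mem_union_left _ hx
      · refine Submodule.span_mono (Set.image_mono ?_) h2
        intro x hx
        exact Finset.mem_union_right _ hx
  choose F mF hmF heF using fun μ : M' => key (φ.symm ((1 : C) ⊗ₜ[C'] μ))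
  have hone : ∀ μ : M', (1 : C) ⊗ₜ[C'] (μ - mF μ) = (0 : C ⊗[C'] M') := by
    intro μ
    have := heF μ
    rw [LinearEquiv.apply_symm_apply] at this
    rw [TensorProduct.tmul_sub, this, sub_self]
  have hrmem : ∀ μ : M', ((0 : N), μ - mF μ) ∈ EtMil.glue D' φ := by
    intro μ
    change φ ((1 : C) ⊗ₜ[D] (0 : N)) = (1 : C) ⊗ₜ[C'] (μ - mF μ)
    rw [TensorProduct.tmul_zero, map_zero, hone μ]
  let r : M' → EtMil.glue D' φ := fun μ => ⟨((0 : N), μ - mF μ), hrmem μ⟩
  let G : Finset (EtMil.glue D' φ) :=
    (TN.image (fun n => (⟨(n, lift n), hlift n⟩ : EtMil.glue D' φ))) ∪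
      SM.biUnion (fun μ => insert (r μ) (F μ))
  refine ⟨⟨G, ?_⟩⟩
  set L₀ : Submodule D' (EtMil.glue D' φ) := Submodule.span D' (G : Set (EtMil.glue D' φ))
    with hL₀
  have hGL₀ : ∀ g ∈ G, g ∈ L₀ := fun g hg => Submodule.subset_span hg
  -- the second components of `G` span `M'`
  have hspan : Submodule.span C' (sndL '' (G : Set (EtMil.glue D' φ))) = ⊤ := by
    rw [eq_top_iff, ← hSM, Submodule.span_le]
    intro μ hμ
    have hsub : (insert (r μ) (F μ) : Finset (EtMil.glue D' φ)) ⊆ G := by
      intro x hx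
      exact Finset.mem_union_right _ (Finset.mem_biUnion.mpr ⟨μ, hμ, hx⟩)
    have h1 : mF μ ∈ Submodule.span C' (sndL '' (G : Set (EtMil.glue D' φ))) := by
      refine Submodule.span_mono (Set.image_mono ?_) (hmF μ)
      intro x hx
      exact hsub (Finset.mem_insert_of_mem hx)
    have h2 : μ - mF μ ∈ Submodule.span C' (sndL '' (G : Set (EtMil.glue D' φ))) := by
      apply Submodule.subset_span
      exact ⟨r μ, hsub (Finset.mem_insert_self _ _), rfl⟩
    have := Submodule.add_mem _ h1 h2
    rwa [add_sub_cancel] at this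
  -- claim B
  have hB : ∀ μ : M', ∀ s : C', algebraMap C' C s = 0 →
      ∀ l : EtMil.glue D' φ, (l : N × M') = ((0 : N), s • μ) → l ∈ L₀ := by
    intro μ
    have hμ : μ ∈ Submodule.span C' (sndL '' (G : Set (EtMil.glue D' φ))) := by
      rw [hspan]; exact Submodule.mem_top
    induction hμ using Submodule.span_induction with
    | mem μ hμ =>
      obtain ⟨g, hg, rfl⟩ := hμ
      intro s hs l hl
      obtain ⟨j, hj, hjs⟩ := exists_of_mem_ker_C (B' := B') (B := B) (A' := A') (A := A) (D' := D') (D := D) (C' := C') (C := C) hsq s hs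
      have hjD : algebraMap D' D j = 0 :=
        map_D_eq_zero (B' := B') (B := B) (A' := A') (A := A) (D' := D') (D := D) (C' := C') (C := C) j hj
      have : l = j • g := by
        apply Subtype.ext
        rw [hl]
        change ((0 : N), s • (g : N × M').2) = (j • (g : N × M').1, j • (g : N × M').2)
        rw [← IsScalarTower.algebraMap_smul D j (g : N × M').1, hjD, zero_smul,
          ← IsScalarTower.algebraMap_smul C' j (g : N × M').2, hjs]
      rw [this]
      exact L₀.smul_mem j (hGL₀ g hg)
    | zero =>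
      intro s hs l hl
      have : l = 0 := by
        apply Subtype.ext
        rw [hl, smul_zero]
        rfl
      rw [this]
      exact L₀.zero_mem
    | add μ₁ μ₂ _ _ h₁ h₂ =>
      intro s hs l hl
      have : l = ⟨_, zero_smul_mem φ s hs μ₁⟩ + ⟨_, zero_smul_mem φ s hs μ₂⟩ := by
        apply Subtype.ext
        rw [hl, smul_add]
        change _ = ((0 : N), s • μ₁) + ((0 : N), s • μ₂)
        rw [Prod.mk_add_mk, add_zero]
      rw [this]
      exact L₀.add_mem (h₁ s hs _ rfl) (h₂ s hs _ rfl)
    | smul c' μ _ h =>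
      intro s hs l hl
      refine h (s * c') (by rw [map_mul, hs, zero_mul]) l ?_
      rw [hl, mul_smul]
  -- claim B'
  have hB' : ∀ l : EtMil.glue D' φ, (l : N × M').1 = 0 → l ∈ L₀ := by
    intro l hl
    have hmem : φ ((1 : C) ⊗ₜ[D] (l : N × M').1) = (1 : C) ⊗ₜ[C'] (l : N × M').2 := l.2
    rw [hl, TensorProduct.tmul_zero, map_zero] at hmem
    have hker := Groth.Agent.Lib.Helper22.mem_ker_smul_top_of_one_tmul_eq_zero hC
      (l : N × M').2 hmem.symm
    have hQ : ∀ m' : M', m' ∈ (RingHom.ker (algebraMap C' C)) • (⊤ : Submodule C' M') →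
        ((1 : C) ⊗ₜ[C'] m' = (0 : C ⊗[C'] M')) ∧
          ∀ l : EtMil.glue D' φ, (l : N × M') = ((0 : N), m') → l ∈ L₀ := by
      intro m' hm'
      refine Submodule.smul_induction_on hm' ?_ ?_
      · intro s hs μ _
        refine ⟨?_, fun l hl => hB μ s (RingHom.mem_ker.mp hs) l hl⟩
        rw [← TensorProduct.smul_tmul, Algebra.smul_def, mul_one, RingHom.mem_ker.mp hs,
          TensorProduct.zero_tmul]
      · rintro x y ⟨hx1, hx2⟩ ⟨hy1, hy2⟩
        refine ⟨by rw [TensorProduct.tmul_add, hx1, hy1, add_zero], fun l hl => ?_⟩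
        have hxm : ((0 : N), x) ∈ EtMil.glue D' φ := by
          change φ ((1 : C) ⊗ₜ[D] (0 : N)) = (1 : C) ⊗ₜ[C'] x
          rw [TensorProduct.tmul_zero, map_zero, hx1]
        have hym : ((0 : N), y) ∈ EtMil.glue D' φ := by
          change φ ((1 : C) ⊗ₜ[D] (0 : N)) = (1 : C) ⊗ₜ[C'] y
          rw [TensorProduct.tmul_zero, map_zero, hy1]
        have : l = ⟨_, hxm⟩ + ⟨_, hym⟩ := by
          apply Subtype.ext
          rw [hl]
          change _ = ((0 : N), x) + ((0 : N), y)
          rw [Prod.mk_add_mk, add_zero]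
        rw [this]
        exact L₀.add_mem (hx2 _ rfl) (hy2 _ rfl)
    exact (hQ _ hker).2 l (Prod.ext hl rfl)
  -- claim C
  have hCc : ∀ n : N, ∀ l : EtMil.glue D' φ, (l : N × M').1 = n → l ∈ L₀ := by
    intro n
    have hn : n ∈ Submodule.span D' (TN : Set N) := by rw [hTN]; exact Submodule.mem_top
    induction hn using Submodule.span_induction with
    | mem n hn =>
      intro l hl
      have hg : (⟨(n, lift n), hlift n⟩ : EtMil.glue D' φ) ∈ L₀ :=
        hGL₀ _ (Finset.mem_union_left _ (Finset.mem_image.mpr ⟨n, hn, rfl⟩))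
      have h2 : l - ⟨(n, lift n), hlift n⟩ ∈ L₀ := by
        apply hB'
        change (l : N × M').1 - n = 0
        rw [hl, sub_self]
      have := L₀.add_mem hg h2
      rwa [add_sub_cancel] at this
    | zero =>
      intro l hl
      exact hB' l hl
    | add n₁ n₂ _ _ h₁ h₂ =>
      intro l hl
      have hg : (⟨(n₁, lift n₁), hlift n₁⟩ : EtMil.glue D' φ) ∈ L₀ := h₁ _ rfl
      have h2 : l - ⟨(n₁, lift n₁), hlift n₁⟩ ∈ L₀ := by
        apply h₂
        change (l : N × M').1 - n₁ = n₂
        rw [hl, add_sub_cancel_left]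
      have := L₀.add_mem hg h2
      rwa [add_sub_cancel] at this
    | smul d' n _ h =>
      intro l hl
      have hg : d' • (⟨(n, lift n), hlift n⟩ : EtMil.glue D' φ) ∈ L₀ := L₀.smul_mem d' (h _ rfl)
      have h2 : l - d' • (⟨(n, lift n), hlift n⟩ : EtMil.glue D' φ) ∈ L₀ := by
        apply hB'
        change (l : N × M').1 - d' • n = 0
        rw [hl, sub_self]
      have := L₀.add_mem hg h2
      rwa [add_sub_cancel] at this
  rw [eq_top_iff]
  intro l _
  exact hCc _ l rfl

end Groth.Agent.Lib.T2H9.MilnorRel
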