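import Mathlib
import Groth.Prelude.Def_EtMil
import Groth.Agent.Lib.T2H3MilnorFP
import Groth.Agent.Lib.T2H9MilnorRel
import Groth.Agent.Lib.Helper22MilnorGlue
import Groth.Agent.S2019
import Groth.Agent.S2020

/-! Finite presentation of the glued module in the relative situation over a fibre square of
rings (the flat case). -/

set_option autoImplicit false
set_option linter.unusedSectionVars false
set_option linter.style.haveILetI false

namespace Groth.Agent.Lib.T2H3.MilnorFP

open TensorProduct Groth.Agent.Lib.Helper22 Groth.Agent.Lib.T2H9.MilnorRel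

universe u

theorem finitePresentation_glue
    (B' B A' A : Type u) [CommRing B'] [CommRing B] [CommRing A'] [CommRing A]
    [Algebra B' B] [Algebra B' A'] [Algebra B A] [Algebra A' A] [Algebra B' A]
    [IsScalarTower B' B A] [IsScalarTower B' A' A]
    (hsq : EtMil.IsFibreSquare B' B A' A)
    (D' D C' C : Type u) [CommRing D'] [CommRing D] [CommRing C'] [CommRing C]
    [Algebra B' D'] [Algebra B D] [Algebra A' C'] [Algebra A C]
    [Algebra D' D] [Algebra B' D] [IsScalarTower B' B D] [IsScalarTower B' D' D]
    [Algebra.IsPushout B' B D' D]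
    [Algebra D' C'] [Algebra B' C'] [IsScalarTower B' A' C'] [IsScalarTower B' D' C']
    [Algebra.IsPushout B' A' D' C']
    [Algebra D' C] [Algebra B' C] [IsScalarTower B' A C] [IsScalarTower B' D' C]
    [Algebra.IsPushout B' A D' C]
    [Algebra D C] [IsScalarTower D' D C] [Algebra B C] [IsScalarTower B A C] [IsScalarTower B D C]
    [Algebra C' C] [IsScalarTower D' C' C] [Algebra A' C] [IsScalarTower A' A C]
    [IsScalarTower A' C' C]
    {N M' : Type u} [AddCommGroup N] [Module D N] [Module D' N] [IsScalarTower D' D N]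
    [AddCommGroup M'] [Module C' M'] [Module D' M'] [IsScalarTower D' C' M']
    (φ : C ⊗[D] N ≃ₗ[C] C ⊗[C'] M')
    [Module B N] [IsScalarTower B D N] [Module A' M'] [IsScalarTower A' C' M']
    [Module.FinitePresentation D N] [Module.Flat B N] [Module.FinitePresentation C' M']
    [Module.Flat A' M'] :
    Module.FinitePresentation D' ↥(EtMil.glue D' φ) := by
  classical
  -- `B'`-module structures
  letI : Module B' N := Module.compHom N (algebraMap B' D')
  haveI : IsScalarTower B' D' N := IsScalarTower.of_algebraMap_smul fun _ _ => rfl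
  haveI : IsScalarTower B' B N := IsScalarTower.of_algebraMap_smul fun b' n => by
    rw [← algebraMap_smul D (algebraMap B' B b') n, ← IsScalarTower.algebraMap_apply B' B D,
      IsScalarTower.algebraMap_apply B' D' D, algebraMap_smul D]
    rfl
  letI : Module B' M' := Module.compHom M' (algebraMap B' D')
  haveI : IsScalarTower B' D' M' := IsScalarTower.of_algebraMap_smul fun _ _ => rfl
  haveI : IsScalarTower B' A' M' := IsScalarTower.of_algebraMap_smul fun b' m => by
    rw [← algebraMap_smul C' (algebraMap B' A' b') m, ← IsScalarTower.algebraMap_apply B' A' C',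
      IsScalarTower.algebraMap_apply B' D' C', algebraMap_smul C']
    rfl
  -- the pushout squares
  haveI : IsScalarTower B' D C := IsScalarTower.of_algebraMap_eq fun b' => by
    rw [IsScalarTower.algebraMap_apply B' D' C, IsScalarTower.algebraMap_apply D' D C,
      ← IsScalarTower.algebraMap_apply B' D' D]
  haveI hPO1 : Algebra.IsPushout B A D C :=
    (Algebra.IsPushout.comp_iff B' B D' (S' := D) (T := A) (T' := C)).mp inferInstance
  haveI hPO2 : Algebra.IsPushout A' A C' C :=
    isPushout_right (B' := B') (B := B) (A' := A') (A := A) (D' := D') (D := D)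
      (C' := C') (C := C)
  -- the absolute glueing datum
  let e₁ : C ⊗[D] N ≃ₗ[A] A ⊗[B] N := Algebra.IsPushout.cancelBaseChange B A D C N
  let e₂ : C ⊗[C'] M' ≃ₗ[A] A ⊗[A'] M' := Algebra.IsPushout.cancelBaseChange A' A C' C M'
  let φa : A ⊗[B] N ≃ₗ[A] A ⊗[A'] M' := e₁.symm ≪≫ₗ (φ.restrictScalars A) ≪≫ₗ e₂
  have hφa : ∀ n : N, φa ((1 : A) ⊗ₜ[B] n) = e₂ (φ ((1 : C) ⊗ₜ[D] n)) := by
    intro n
    change e₂ (φ (e₁.symm ((1 : A) ⊗ₜ[B] n))) = _
    rw [Algebra.IsPushout.cancelBaseChange_symm_tmul, map_one]
  have hmem : ∀ x : N × M', x ∈ EtMil.glue D' φ ↔ x ∈ EtMil.glue B' φa := by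
    intro x
    change φ ((1 : C) ⊗ₜ[D] x.1) = (1 : C) ⊗ₜ[C'] x.2 ↔
      φa ((1 : A) ⊗ₜ[B] x.1) = (1 : A) ⊗ₜ[A'] x.2
    rw [hφa]
    constructor
    · intro h
      rw [h, Algebra.IsPushout.cancelBaseChange_tmul]
    · intro h
      apply e₂.injective
      rw [h, Algebra.IsPushout.cancelBaseChange_tmul]
  let ε : ↥(EtMil.glue D' φ) ≃ₗ[B'] ↥(EtMil.glue B' φa) :=
    { toFun := fun x => ⟨x.1, (hmem x.1).mp x.2⟩
      invFun := fun x => ⟨x.1, (hmem x.1).mpr x.2⟩
      map_add' := fun _ _ => rfl
      map_smul' := fun _ _ => rfl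
      left_inv := fun _ => rfl
      right_inv := fun _ => rfl }
  haveI hflatP : Module.Flat B' ↥(EtMil.glue D' φ) := by
    haveI : Module.Flat B' ↥(EtMil.glue B' φa) :=
      (Groth.Agent.S2020.result B' B A' A hsq).1 N M' φa inferInstance inferInstance
    exact Module.Flat.of_linearEquiv ε
  haveI hfinP : Module.Finite D' ↥(EtMil.glue D' φ) :=
    finite_glue (B' := B') (B := B) (A' := A') (A := A) φ hsq
  have hB : Function.Surjective (algebraMap B' B) := fs_surjective hsq
  have hD : Function.Surjective (algebraMap D' D) :=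
    surjective_D (A' := A') (A := A) (C' := C') (C := C) hsq
  have hker : RingHom.ker (algebraMap D' D) =
      (RingHom.ker (algebraMap B' B)).map (algebraMap B' D') := by
    apply le_antisymm
    · intro s hs
      have h1 := Groth.Agent.Lib.Helper22.PoMap2.mem_smul_top_of_isPushout (R := B') (A := B)
        (S := D') (A₂ := D) hB s (RingHom.mem_ker.mp hs)
      rw [Ideal.smul_top_eq_map] at h1
      exact h1
    · intro s hs
      exact RingHom.mem_ker.mpr (map_D_eq_zero (B' := B') (B := B) (A' := A') (A := A)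
        (D' := D') (D := D) (C' := C') (C := C) s hs)
  -- the first projection
  have hp : Function.Surjective (EtMil.glueFst D' φ) := by
    intro n
    obtain ⟨m', hm'⟩ := glue_exists_snd φa hsq n
    exact ⟨⟨(n, m'), (hmem _).mpr hm'⟩, rfl⟩
  have hkp : LinearMap.ker (EtMil.glueFst D' φ) ≤
      (RingHom.ker (algebraMap D' D)) • (⊤ : Submodule D' ↥(EtMil.glue D' φ)) := by
    intro x hx
    have hx1 : ((ε x : ↥(EtMil.glue B' φa)) : N × M').1 = 0 := hx
    have h1 := glue_mem_smul_of_fst_eq_zero φa hsq (ε x) hx1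
    have key : ∀ y ∈ (RingHom.ker (algebraMap B' B)) • (⊤ : Submodule B' ↥(EtMil.glue B' φa)),
        ε.symm y ∈ (RingHom.ker (algebraMap D' D)) • (⊤ : Submodule D' ↥(EtMil.glue D' φ)) := by
      intro y hy
      refine Submodule.smul_induction_on hy ?_ ?_
      · intro j hj z _
        rw [map_smul, ← algebraMap_smul D' j (ε.symm z)]
        refine Submodule.smul_mem_smul ?_ Submodule.mem_top
        rw [hker]
        exact Ideal.mem_map_of_mem _ hj
      · intro y₁ y₂ h₁ h₂
        rw [map_add]
        exact Submodule.add_mem _ h₁ h₂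
    have := key _ h1
    rwa [LinearEquiv.symm_apply_apply] at this
  -- the second projection
  have hq : Function.Bijective (LinearMap.liftBaseChange A'
      ((EtMil.glueSnd D' φ).restrictScalars B')) := by
    have h1 := (Groth.Agent.S2019.result B' B A' A hsq N M' φa).2
    have h2 : ∀ t : A' ⊗[B'] ↥(EtMil.glue D' φ),
        LinearMap.liftBaseChange A' ((EtMil.glueSnd D' φ).restrictScalars B') t =
          LinearMap.liftBaseChange A' (EtMil.glueSnd B' φa) (LinearEquiv.lTensor A' ε t) := by
      intro t
      induction t using TensorProduct.induction_on with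
      | zero => simp only [map_zero]
      | tmul a' x =>
        rw [LinearEquiv.lTensor_tmul, LinearMap.liftBaseChange_tmul,
          LinearMap.liftBaseChange_tmul]
        rfl
      | add t₁ t₂ h₁ h₂ => rw [map_add, map_add, map_add, h₁, h₂]
    have h3 : (⇑(LinearMap.liftBaseChange A' ((EtMil.glueSnd D' φ).restrictScalars B'))) =
        (⇑(LinearMap.liftBaseChange A' (EtMil.glueSnd B' φa))) ∘ ⇑(LinearEquiv.lTensor A' ε) :=
      funext h2
    rw [h3]
    exact h1.comp (LinearEquiv.lTensor A' ε).bijective
  exact finitePresentation_of_flat (C' := C') hsq hD hker (EtMil.glueFst D' φ) hp hkp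
    (EtMil.glueSnd D' φ) hq

end Groth.Agent.Lib.T2H3.MilnorFP
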