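import Groth.Agent.Lib.T2H6RankAdd

set_option autoImplicit false
set_option linter.style.haveILetI false
set_option linter.unusedSectionVars false
universe u
open TensorProduct KaehlerDifferential

namespace Groth.Agent.Lib.T2H3.NLRank

section ext
variable (A C B : Type u) [CommRing A] [CommRing C] [CommRing B] [Algebra A C] [Algebra A B]
  [Algebra C B] [IsScalarTower A C B]

/-- the extension `C → B` of the `A`-algebra `B`, with the ambient instances. -/
noncomputable def extOf (h : Function.Surjective (algebraMap C B)) : Algebra.Extension.{u} A B where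
  Ring := C
  σ x := (h x).choose
  algebraMap_σ x := (h x).choose_spec

variable {A C B}
variable (hAB : Function.Surjective (algebraMap A B)) (hCB : Function.Surjective (algebraMap C B))

/-- the morphism of extensions `(A → B) → (C → B)`. -/
noncomputable def extHom : (extOf A A B hAB).Hom (extOf A C B hCB) where
  toRingHom := algebraMap A C
  toRingHom_algebraMap _ := rfl
  algebraMap_toRingHom x := (IsScalarTower.algebraMap_apply A C B x).symm

include hAB in
theorem subsingleton_cotangentSpace : Subsingleton (extOf A A B hAB).CotangentSpace := by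
  change Subsingleton (B ⊗[A] Ω[A⁄A])
  infer_instance

variable [Algebra.FormallySmooth A C]

include hAB in
theorem cotangentComplex_surjective :
    Function.Surjective (extOf A C B hCB).cotangentComplex := by
  intro y
  haveI : Subsingleton Ω[B⁄A] := KaehlerDifferential.subsingleton_of_surjective A B hAB
  have h := (extOf A C B hCB).exact_cotangentComplex_toKaehler
  exact (h y).1 (Subsingleton.elim _ _)


include hAB in
theorem h1Cotangent_eq_top (x : (extOf A A B hAB).Cotangent) :
    (extOf A A B hAB).cotangentComplex x = 0 :=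
  haveI := subsingleton_cotangentSpace hAB
  Subsingleton.elim _ _

theorem cotangentMap_injective :
    Function.Injective (Algebra.Extension.Cotangent.map (extHom hAB hCB)) := by
  haveI : Algebra.FormallySmooth A (extOf A A B hAB).Ring :=
    inferInstanceAs (Algebra.FormallySmooth A A)
  haveI : Algebra.FormallySmooth A (extOf A C B hCB).Ring :=
    inferInstanceAs (Algebra.FormallySmooth A C)
  rw [injective_iff_map_eq_zero]
  intro x hx
  let x' : (extOf A A B hAB).H1Cotangent := ⟨x, h1Cotangent_eq_top hAB x⟩
  have h1 : Algebra.Extension.H1Cotangent.equivOfFormallySmooth (extOf A A B hAB)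
      (extOf A C B hCB) x' = 0 := by
    rw [Algebra.Extension.H1Cotangent.equivOfFormallySmooth_apply (extHom hAB hCB)]
    apply Subtype.ext
    exact hx
  have h2 : x' = 0 := (LinearEquiv.map_eq_zero_iff _).1 h1
  exact congrArg Subtype.val h2

theorem exact_cotangentMap :
    Function.Exact (Algebra.Extension.Cotangent.map (extHom hAB hCB))
      (extOf A C B hCB).cotangentComplex := by
  haveI : Algebra.FormallySmooth A (extOf A A B hAB).Ring :=
    inferInstanceAs (Algebra.FormallySmooth A A)
  haveI : Algebra.FormallySmooth A (extOf A C B hCB).Ring :=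
    inferInstanceAs (Algebra.FormallySmooth A C)
  intro y
  constructor
  · intro hy
    let y' : (extOf A C B hCB).H1Cotangent := ⟨y, hy⟩
    obtain ⟨x', hx'⟩ := (Algebra.Extension.H1Cotangent.equivOfFormallySmooth (extOf A A B hAB)
      (extOf A C B hCB)).surjective y'
    rw [Algebra.Extension.H1Cotangent.equivOfFormallySmooth_apply (extHom hAB hCB)] at hx'
    exact ⟨x'.1, congrArg Subtype.val hx'⟩
  · rintro ⟨x, rfl⟩
    rw [← Algebra.Extension.CotangentSpace.map_cotangentComplex, h1Cotangent_eq_top hAB x,
      map_zero]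

end ext

section pushout
variable (R A A' C B : Type u) [CommRing R] [CommRing A] [CommRing A'] [CommRing C] [CommRing B]
  [Algebra R A] [Algebra R A'] [Algebra R C] [Algebra A C] [Algebra A' C]
  [IsScalarTower R A C] [IsScalarTower R A' C] [Algebra.IsPushout R A A' C]
  [Algebra A' B] [Algebra C B] [IsScalarTower A' C B]

/-- `B ⊗_{A'} Ω_{A'/R} ≃ B ⊗_C Ω_{C/A}` for a pushout `C = A ⊗_R A'`. -/
noncomputable def cotangentSpaceEquiv : B ⊗[A'] Ω[A'⁄R] ≃ₗ[B] B ⊗[C] Ω[C⁄A] :=
  (AlgebraTensorModule.cancelBaseChange A' C B B Ω[A'⁄R]).symm ≪≫ₗ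
    AlgebraTensorModule.congr (LinearEquiv.refl B B) (tensorKaehlerEquiv R A A' C)

theorem formallySmooth_of_isPushout [Algebra.FormallySmooth R A'] : Algebra.FormallySmooth A C :=
  Algebra.FormallySmooth.of_equiv (Algebra.IsPushout.equiv R A A' C)


variable {R A A' C B}
variable [Algebra A B] [IsScalarTower A C B] [Algebra.FormallySmooth R A'] [Nontrivial B]
  (hAB : Function.Surjective (algebraMap A B)) (hCB : Function.Surjective (algebraMap C B))

theorem finrank_cotangent_pushout
    [Module.Free B (extOf A A B hAB).Cotangent] [Module.Finite B (extOf A A B hAB).Cotangent]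
    [Module.Free B (B ⊗[A'] Ω[A'⁄R])] [Module.Finite B (B ⊗[A'] Ω[A'⁄R])] :
    Module.finrank B (extOf A C B hCB).Cotangent =
      Module.finrank B (extOf A A B hAB).Cotangent + Module.finrank B (B ⊗[A'] Ω[A'⁄R]) := by
  haveI : Algebra.FormallySmooth A C := formallySmooth_of_isPushout R A A' C
  let e : B ⊗[A'] Ω[A'⁄R] ≃ₗ[B] (extOf A C B hCB).CotangentSpace := cotangentSpaceEquiv R A A' C B
  haveI : Module.Free B (extOf A C B hCB).CotangentSpace := Module.Free.of_equiv e
  haveI : Module.Finite B (extOf A C B hCB).CotangentSpace := Module.Finite.equiv e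
  rw [e.finrank_eq]
  exact Groth.Agent.Lib.T2H6.RankAdd.finrank_add_of_exact _ _ (cotangentMap_injective hAB hCB)
    (cotangentComplex_surjective hAB hCB) (exact_cotangentMap hAB hCB)

end pushout

section main
variable (R A A' B : Type u) [CommRing R] [CommRing A] [CommRing A'] [CommRing B]
  [Algebra R A] [Algebra R A'] [Algebra R B] [Algebra A B] [Algebra A' B]
  [IsScalarTower R A B] [IsScalarTower R A' B]
  [Algebra.FormallySmooth R A] [Algebra.FormallySmooth R A'] [Nontrivial B]
  (hA : Function.Surjective (algebraMap A B)) (hA' : Function.Surjective (algebraMap A' B))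

attribute [local instance] Algebra.TensorProduct.rightAlgebra

/-- **Independence of the virtual rank** : for two surjections `A → B ← A'` from formally smooth
`R`-algebras, `rank (B ⊗ Ω_A) + rank (I'/I'²) = rank (B ⊗ Ω_A') + rank (I/I²)`. -/
theorem finrank_add_eq
    [Module.Free B (extOf A A B hA).Cotangent] [Module.Finite B (extOf A A B hA).Cotangent]
    [Module.Free B (extOf A' A' B hA').Cotangent] [Module.Finite B (extOf A' A' B hA').Cotangent]
    [Module.Free B (B ⊗[A] Ω[A⁄R])] [Module.Finite B (B ⊗[A] Ω[A⁄R])]
    [Module.Free B (B ⊗[A'] Ω[A'⁄R])] [Module.Finite B (B ⊗[A'] Ω[A'⁄R])] :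
    Module.finrank B (B ⊗[A] Ω[A⁄R]) + Module.finrank B (extOf A' A' B hA').Cotangent =
      Module.finrank B (B ⊗[A'] Ω[A'⁄R]) + Module.finrank B (extOf A A B hA).Cotangent := by
  let φ : A ⊗[R] A' →ₐ[R] B :=
    Algebra.TensorProduct.productMap (IsScalarTower.toAlgHom R A B) (IsScalarTower.toAlgHom R A' B)
  letI algCB : Algebra (A ⊗[R] A') B := φ.toAlgebra
  haveI : IsScalarTower A (A ⊗[R] A') B := IsScalarTower.of_algebraMap_eq fun a => by
    change algebraMap A B a = φ (a ⊗ₜ 1)
    simp [φ]
  haveI : IsScalarTower A' (A ⊗[R] A') B := IsScalarTower.of_algebraMap_eq fun a => by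
    change algebraMap A' B a = φ (1 ⊗ₜ a)
    simp [φ]
  have hCB : Function.Surjective (algebraMap (A ⊗[R] A') B) := by
    intro y
    obtain ⟨a, rfl⟩ := hA y
    exact ⟨a ⊗ₜ 1, by change φ (a ⊗ₜ 1) = _; simp [φ]⟩
  haveI : Algebra.IsPushout R A' A (A ⊗[R] A') := Algebra.IsPushout.symm inferInstance
  have h1 := finrank_cotangent_pushout (R := R) (A := A) (A' := A') (C := A ⊗[R] A') (B := B)
    hA hCB
  have h2 := finrank_cotangent_pushout (R := R) (A := A') (A' := A) (C := A ⊗[R] A') (B := B)
    hA' hCB
  have h3 : Module.finrank B (extOf A (A ⊗[R] A') B hCB).Cotangent =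
      Module.finrank B (extOf A' (A ⊗[R] A') B hCB).Cotangent := rfl
  rw [h3, h2] at h1
  omega

end main

end Groth.Agent.Lib.T2H3.NLRank
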