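import Mathlib

set_option autoImplicit false
set_option linter.style.haveILetI false
universe u
open CategoryTheory AlgebraicGeometry

namespace Groth.Agent.Lib.T2H3.NormIso

/-- If `O_Y(U) → O_X(f⁻¹U)` is bijective for all affine opens `U`, then the relative normalization of
`Y` in `X` is `Y` itself. -/
theorem isIso_fromNormalization {X Y : Scheme.{u}} (f : X ⟶ Y) [QuasiCompact f] [QuasiSeparated f]
    (hO : ∀ U : Y.affineOpens, Function.Bijective (f.app U.1)) :
    IsIso f.fromNormalization := by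
  rw [← MorphismProperty.isomorphisms.iff,
    IsZariskiLocalAtTarget.iff_of_iSup_eq_top (P := MorphismProperty.isomorphisms Scheme.{u}) _
    (iSup_affineOpens_eq_top _)]
  intro U
  rw [MorphismProperty.isomorphisms.iff]
  let e := IsOpenImmersion.isoOfRangeEq (f.fromNormalization ⁻¹ᵁ U).ι (f.normalizationOpenCover.f U)
      (by simpa using congr($(f.fromNormalization_preimage U).1))
  have h1 : IsIso (Spec.map (f.normalizationDiagramMap.app (.op U.1))) := by
    letI := (f.app U.1).hom.toAlgebra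
    rw [isIso_SpecMap_iff]
    constructor
    · intro a b hab
      apply (hO U).1
      exact congrArg Subtype.val hab
    · intro x
      obtain ⟨y, hy⟩ := (hO U).2 x.1
      exact ⟨y, Subtype.ext hy⟩
  have h2 : e.inv ≫ (f.fromNormalization ∣_ U.1) ≫ U.2.isoSpec.hom =
      Spec.map (f.normalizationDiagramMap.app (.op U.1)) := by
    rw [← cancel_mono U.2.fromSpec]
    simp [IsAffineOpen.isoSpec_hom, e, Scheme.Hom.ι_fromNormalization]
    rfl
  have h3 : IsIso (e.inv ≫ (f.fromNormalization ∣_ U.1) ≫ U.2.isoSpec.hom) := by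
    rw [h2]; exact h1
  have h4 : IsIso ((f.fromNormalization ∣_ U.1) ≫ U.2.isoSpec.hom) :=
    IsIso.of_isIso_comp_left e.inv _
  exact IsIso.of_isIso_comp_right _ U.2.isoSpec.hom

theorem isIso_morphismRestrict_of_comp {X Z Y : Scheme.{u}} (f : X ⟶ Y) (g : X ⟶ Z) (h : Z ⟶ Y)
    [IsIso h] (hf : g ≫ h = f) (U' : Z.Opens) [IsIso (g ∣_ U')] :
    IsIso (f ∣_ (h ''ᵁ U')) := by
  subst hf
  rw [morphismRestrict_comp]
  have hU : h ⁻¹ᵁ (h ''ᵁ U') = U' := by
    simp
  have : IsIso (g ∣_ h ⁻¹ᵁ (h ''ᵁ U')) := by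
    rw [hU]; infer_instance
  refine @IsIso.comp_isIso _ _ _ _ _ _ _ ?_ ?_
  · exact this
  · infer_instance

theorem main {X Y : Scheme.{u}}
    (f : X ⟶ Y) [IsSeparated f] [LocallyOfFiniteType f] [QuasiCompact f]
    (hO : ∀ U : Y.Opens, Function.Bijective (f.app U)) :
    ∃ V : Y.Opens, IsIso (f ∣_ V) ∧
      ∀ y : Y, y ∉ (V : Set Y) → ∀ x : ↥(f.fiber y), ¬ IsOpen ({x} : Set ↥(f.fiber y)) := by
  haveI : IsIso f.fromNormalization := isIso_fromNormalization f (fun U => hO U.1)
  obtain ⟨U', hU', hU'eq⟩ := Scheme.Hom.exists_isIso_morphismRestrict_toNormalization f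
  refine ⟨f.fromNormalization ''ᵁ U',
    isIso_morphismRestrict_of_comp f f.toNormalization f.fromNormalization
      f.toNormalization_fromNormalization U', ?_⟩
  intro y hy x hx
  apply hy
  obtain ⟨⟨x0, h⟩, rfl⟩ := (f.fiberHomeo y).symm.surjective x
  have h' : f x0 = y := h
  subst h'
  have hq : f.QuasiFiniteAt x0 := by
    rw [Scheme.Hom.quasiFiniteAt_iff_isOpen_singleton_asFiber]
    exact hx
  have hmem : x0 ∈ (f.toNormalization ⁻¹ᵁ U').1 := by
    rw [hU'eq]; exact hq
  have : f x0 = f.fromNormalization (f.toNormalization x0) := by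
    rw [← Scheme.Hom.comp_apply, f.toNormalization_fromNormalization]
  rw [this]
  exact ⟨_, hmem, rfl⟩

end Groth.Agent.Lib.T2H3.NormIso
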