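import Mathlib
import Groth.Prelude.Def_Fitting

/-!
# Quasi-affineness descends along a finite morphism with a norm

Helper library for S8880 (namespace `Groth.Agent.Lib.T2H3.NormQAff`).
-/

set_option autoImplicit false
set_option linter.style.haveILetI false

universe u

open CategoryTheory AlgebraicGeometry TopologicalSpace Opposite

namespace Groth.Agent.Lib.T2H3.NormQAff

/-- Prime avoidance on a quasi-affine scheme: a finite set of points inside an open `W` is contained in a
basic open of a global function contained in `W`. -/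
lemma exists_basicOpen_of_finite (X : Scheme.{u}) [X.IsQuasiAffine] (F : Set X) (hF : F.Finite)
    (W : X.Opens) (hFW : F ⊆ W) :
    ∃ f : Γ(X, ⊤), F ⊆ X.basicOpen f ∧ X.basicOpen f ≤ W := by
  rcases F.eq_empty_or_nonempty with rfl | ⟨a, ha⟩
  · exact ⟨0, Set.empty_subset _, by rw [Scheme.basicOpen_zero]; exact bot_le⟩
  let j := X.toSpecΓ
  have hjW : IsOpen (j.base '' (W : Set X)) := j.isOpenEmbedding.isOpenMap _ W.2
  let I : Ideal Γ(X, ⊤) := PrimeSpectrum.vanishingIdeal (j.base '' (W : Set X))ᶜ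
  have hI : PrimeSpectrum.zeroLocus (I : Set Γ(X, ⊤)) = (j.base '' (W : Set X))ᶜ := by
    rw [PrimeSpectrum.zeroLocus_vanishingIdeal_eq_closure]
    exact hjW.isClosed_compl.closure_eq
  have hnot : ¬ ∃ x ∈ hF.toFinset, I ≤ (j.base x).asIdeal := by
    rintro ⟨x, hx, hle⟩
    have hx' : x ∈ F := hF.mem_toFinset.mp hx
    have : j.base x ∈ PrimeSpectrum.zeroLocus (I : Set Γ(X, ⊤)) := hle
    rw [hI] at this
    exact this ⟨x, hFW hx', rfl⟩
  have hav := (Ideal.subset_union_prime (s := hF.toFinset) (f := fun x => (j.base x).asIdeal) a a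
    (fun x _ _ _ => (j.base x).isPrime) (I := I)).not.mpr hnot
  rw [Set.not_subset] at hav
  obtain ⟨r, hrI, hr⟩ := hav
  refine ⟨r, ?_, ?_⟩
  · intro x hx
    rw [← Scheme.toSpecΓ_preimage_basicOpen]
    change r ∉ (j.base x).asIdeal
    intro hmem
    apply hr
    simp only [Set.mem_iUnion]
    exact ⟨x, hF.mem_toFinset.mpr hx, hmem⟩
  · intro x hx
    rw [← Scheme.toSpecΓ_preimage_basicOpen] at hx
    have hx' : r ∉ (j.base x).asIdeal := hx
    have h2 : j.base x ∉ PrimeSpectrum.zeroLocus (I : Set Γ(X, ⊤)) := fun h => hx' (h hrI)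
    rw [hI] at h2
    obtain ⟨w, hw, hwx⟩ := not_not.mp h2
    have := j.isOpenEmbedding.injective hwx
    rw [← this]; exact hw

variable {X Y : Scheme.{u}}

/-- A closed morphism carrying a norm (of degree `d ≥ 1`) is surjective. -/
lemma surjective_of_norm (π : X ⟶ Y) (hcl : IsClosedMap π.base) {d : ℕ} (N : Nrm.NormOfDegree π d) :
    Function.Surjective π.base := by
  let W : Y.Opens := ⟨(Set.range π.base)ᶜ, (hcl.isClosed_range).isOpen_compl⟩
  have hW : π ⁻¹ᵁ W = ⊥ := by
    ext x
    simp only [Opens.coe_bot, Set.mem_empty_iff_false, iff_false]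
    intro hx
    exact hx ⟨x, rfl⟩
  haveI : Subsingleton Γ(X, π ⁻¹ᵁ W) := by rw [hW]; infer_instance
  have h1 : N.norm W (π.app W 0) = 0 := by
    rw [N.norm_app, zero_pow (Nat.one_le_iff_ne_zero.mp N.one_le)]
  have h2 : N.norm W (π.app W 0) = 1 := by
    rw [Subsingleton.elim (π.app W 0) 1, map_one]
  have h3 : (1 : Γ(Y, W)) = 0 := h2.symm.trans h1
  have h4 : W = ⊥ := by
    rw [← Y.basicOpen_of_isUnit (isUnit_one : IsUnit (1 : Γ(Y, W))), h3, Scheme.basicOpen_zero]
  intro y
  by_contra hy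
  have : y ∈ W := hy
  rw [h4] at this
  exact this

/-- The key local statement: every point of `Y` has an affine basic open neighbourhood. -/
lemma exists_affine_basicOpen (π : X ⟶ Y) [IsFinite π] {d : ℕ} (N : Nrm.NormOfDegree π d)
    [X.IsQuasiAffine] (y : Y) :
    ∃ g : Γ(Y, ⊤), IsAffineOpen (Y.basicOpen g) ∧ y ∈ Y.basicOpen g := by
  have hcl : IsClosedMap π.base := π.isClosedMap
  have hsurj := surjective_of_norm π hcl N
  obtain ⟨V, hV, hyV⟩ : ∃ V : Y.Opens, IsAffineOpen V ∧ y ∈ V := by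
    obtain ⟨_, ⟨V, hV, rfl⟩, hyV, -⟩ :=
      Y.isBasis_affineOpens.exists_subset_of_mem_open (Set.mem_univ y) isOpen_univ
    exact ⟨V, hV, hyV⟩
  have hfin : (π.base ⁻¹' {y}).Finite := Scheme.Hom.finite_preimage_singleton π y
  obtain ⟨f, hFf, hfV⟩ := exists_basicOpen_of_finite X _ hfin (π ⁻¹ᵁ V) (fun x hx => by
    change π.base x ∈ V
    rw [show π.base x = y from hx]; exact hyV)
  let f' : Γ(X, π ⁻¹ᵁ ⊤) := f
  let g : Γ(Y, ⊤) := N.norm ⊤ f'
  -- (a) the preimage of D(g) is inside D(f)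
  have ha : ∀ x : X, π.base x ∈ Y.basicOpen g → x ∈ X.basicOpen f := by
    intro x hx
    have hx1 : IsUnit (Y.presheaf.germ ⊤ (π.base x) trivial g) :=
      (Y.mem_basicOpen g (π.base x) trivial).mp hx
    by_contra hxf
    have hx2 : ¬ IsUnit (X.presheaf.germ (π ⁻¹ᵁ ⊤) x trivial f') := fun h =>
      hxf ((X.mem_basicOpen f x trivial).mpr h)
    have := N.norm_mem ⊤ f' x trivial ((IsLocalRing.mem_maximalIdeal _).mpr hx2)
    exact ((IsLocalRing.mem_maximalIdeal _).mp this) hx1
  -- (c) D(g) ⊆ V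
  have hc : Y.basicOpen g ≤ V := by
    intro y' hy'
    obtain ⟨x, rfl⟩ := hsurj y'
    exact hfV (ha x hy')
  -- (b) y ∈ D(g)
  have hb : y ∈ Y.basicOpen g := by
    let W' : Y.Opens := ⟨(π.base '' ((X.basicOpen f : Set X)ᶜ))ᶜ,
      (hcl _ (X.basicOpen f).2.isClosed_compl).isOpen_compl⟩
    have hyW' : y ∈ W' := by
      rintro ⟨x, hx, hxy⟩
      exact hx (hFf hxy)
    have hW'f : π ⁻¹ᵁ W' ≤ X.basicOpen f := by
      intro x hx
      by_contra hxf
      exact hx ⟨x, hxf, rfl⟩
    let i : W' ⟶ ⊤ := homOfLE le_top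
    have hunit : IsUnit (X.presheaf.map ((Opens.map π.base).map i).op f') := by
      apply RingedSpace.isUnit_of_isUnit_germ X.toLocallyRingedSpace.toRingedSpace
      intro x hx
      have : x ∈ X.basicOpen f := hW'f hx
      have h := (X.mem_basicOpen f x trivial).mp this
      have e := X.presheaf.germ_res_apply ((Opens.map π.base).map i) x hx f'
      exact e ▸ h
    have hres := N.norm_res i f'
    have hunit2 : IsUnit (Y.presheaf.map i.op g) := by
      rw [show Y.presheaf.map i.op g = _ from hres]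
      exact hunit.map (N.norm W')
    rw [Y.mem_basicOpen g y trivial]
    have e := Y.presheaf.germ_res_apply i y hyW' g
    rw [← e]
    exact hunit2.map _
  refine ⟨g, ?_, hb⟩
  -- (d) D(g) is affine
  have hres : Y.basicOpen (Y.presheaf.map (homOfLE (le_top : V ≤ ⊤)).op g) = Y.basicOpen g := by
    rw [Scheme.basicOpen_res]
    exact inf_eq_right.mpr hc
  rw [← hres]
  exact hV.basicOpen _

theorem isQuasiAffine_of_norm (π : X ⟶ Y) [IsFinite π] {d : ℕ} (N : Nrm.NormOfDegree π d)
    [X.IsQuasiAffine] : Y.IsQuasiAffine := by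
  have hsurj := surjective_of_norm π π.isClosedMap N
  haveI : CompactSpace Y := by
    constructor
    rw [← Set.range_eq_univ.mpr hsurj]
    exact isCompact_range π.continuous
  exact Scheme.IsQuasiAffine.of_forall_exists_mem_basicOpen Y (exists_affine_basicOpen π N)

end Groth.Agent.Lib.T2H3.NormQAff
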