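import Mathlib
import Groth.Prelude.Def_Fitting
import Groth.Prelude.Def_Pi1
import Groth.Agent.Lib.T2H3NormQAff
import Groth.Agent.Lib.T2H3NormNormal
import Groth.Agent.Lib.Helper18Norm2
import Groth.Agent.Lib.Helper11RedCl

/-!
# Quasi-affineness descends along finite surjective morphisms admitting a (degree-free) norm

Library for S8860 (namespace `Groth.Agent.Lib.T2H3.NormQAff2`).

* `PreNorm π`: multiplicative maps `Γ(X, π⁻¹U) → Γ(Y, U)` compatible with restriction and sending functions
  vanishing at `x` to functions vanishing at `π x` (a norm without a degree).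
* `isQuasiAffine_of_preNorm`: if `π` is finite surjective with a `PreNorm` and `X` is quasi-affine then `Y` is.
* `preNorm_of_isFinLocFree`: a finite locally free morphism (possibly of varying rank) has a `PreNorm`.
* `isQuasiAffine_of_normal`: the case of an integral normal target.
-/

set_option autoImplicit false
set_option linter.style.haveILetI false

universe u

open CategoryTheory AlgebraicGeometry TopologicalSpace Opposite

namespace Groth.Agent.Lib.T2H3.NormQAff2

variable {X Y : Scheme.{u}}

/-- A norm without degree. -/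
structure PreNorm (π : X ⟶ Y) where
  /-- the norm maps on sections -/
  norm : ∀ U : Y.Opens, Γ(X, π ⁻¹ᵁ U) →* Γ(Y, U)
  /-- compatibility with restriction -/
  norm_res : ∀ {U V : Y.Opens} (i : V ⟶ U) (s : Γ(X, π ⁻¹ᵁ U)),
    Y.presheaf.map i.op (norm U s) = norm V (X.presheaf.map ((Opens.map π.base).map i).op s)
  /-- functions vanishing at `x` have norm vanishing at `π x` -/
  norm_mem : ∀ (U : Y.Opens) (s : Γ(X, π ⁻¹ᵁ U)) (x : X) (hx : π.base x ∈ U),
    X.presheaf.germ (π ⁻¹ᵁ U) x hx s ∈ IsLocalRing.maximalIdeal (X.presheaf.stalk x) →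
      Y.presheaf.germ U (π.base x) hx (norm U s) ∈ IsLocalRing.maximalIdeal (Y.presheaf.stalk (π.base x))

/-- A norm of degree `d` is in particular a `PreNorm`. -/
def PreNorm.ofNormOfDegree {π : X ⟶ Y} {d : ℕ} (N : Nrm.NormOfDegree π d) : PreNorm π where
  norm := N.norm
  norm_res := N.norm_res
  norm_mem := N.norm_mem

open Groth.Agent.Lib.T2H3.NormQAff in
/-- The key local statement: every point of `Y` has an affine basic open neighbourhood. -/
lemma exists_affine_basicOpen (π : X ⟶ Y) [IsFinite π] [Surjective π] (N : PreNorm π)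
    [X.IsQuasiAffine] (y : Y) :
    ∃ g : Γ(Y, ⊤), IsAffineOpen (Y.basicOpen g) ∧ y ∈ Y.basicOpen g := by
  have hcl : IsClosedMap π.base := π.isClosedMap
  have hsurj : Function.Surjective π.base := π.surjective
  obtain ⟨V, hV, hyV⟩ : ∃ V : Y.Opens, IsAffineOpen V ∧ y ∈ V := by
    obtain ⟨_, ⟨V, hV, rfl⟩, hyV, -⟩ :=
      Y.isBasis_affineOpens.exists_subset_of_mem_open (Set.mem_univ y) isOpen_univ
    exact ⟨V, hV, hyV⟩
  have hfin : (π.base ⁻¹' {y}).Finite := Scheme.Hom.finite_preimage_singleton π y
  obtain ⟨f, hFf, hfV⟩ := exists_basicOpen_of_finite X _ hfin (π ⁻¹ᵁ V) (fun x hx => by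
    change π.base x ∈ V
    rw [show π.base x = y from hx]; exact hyV)
  let f' : Γ(X, π ⁻¹ᵁ ⊤) := f
  let g : Γ(Y, ⊤) := N.norm ⊤ f'
  -- (a) the preimage of D(g) is inside D(f)
  have ha : ∀ x : X, π.base x ∈ Y.basicOpen g → x ∈ X.basicOpen f := by
    intro x hx
    have hx1 : IsUnit (Y.presheaf.germ ⊤ (π.base x) trivial g) :=
      (Y.mem_basicOpen g (π.base x) trivial).mp hx
    by_contra hxf
    have hx2 : ¬ IsUnit (X.presheaf.germ (π ⁻¹ᵁ ⊤) x trivial f') := fun h =>
      hxf ((X.mem_basicOpen f x trivial).mpr h)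
    have := N.norm_mem ⊤ f' x trivial ((IsLocalRing.mem_maximalIdeal _).mpr hx2)
    exact ((IsLocalRing.mem_maximalIdeal _).mp this) hx1
  -- (c) D(g) ⊆ V
  have hc : Y.basicOpen g ≤ V := by
    intro y' hy'
    obtain ⟨x, rfl⟩ := hsurj y'
    exact hfV (ha x hy')
  -- (b) y ∈ D(g)
  have hb : y ∈ Y.basicOpen g := by
    let W' : Y.Opens := ⟨(π.base '' ((X.basicOpen f : Set X)ᶜ))ᶜ,
      (hcl _ (X.basicOpen f).2.isClosed_compl).isOpen_compl⟩
    have hyW' : y ∈ W' := by
      rintro ⟨x, hx, hxy⟩
      exact hx (hFf hxy)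
    have hW'f : π ⁻¹ᵁ W' ≤ X.basicOpen f := by
      intro x hx
      by_contra hxf
      exact hx ⟨x, hxf, rfl⟩
    let i : W' ⟶ ⊤ := homOfLE le_top
    have hunit : IsUnit (X.presheaf.map ((Opens.map π.base).map i).op f') := by
      apply RingedSpace.isUnit_of_isUnit_germ X.toLocallyRingedSpace.toRingedSpace
      intro x hx
      have : x ∈ X.basicOpen f := hW'f hx
      have h := (X.mem_basicOpen f x trivial).mp this
      have e := X.presheaf.germ_res_apply ((Opens.map π.base).map i) x hx f'
      exact e ▸ h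
    have hres := N.norm_res i f'
    have hunit2 : IsUnit (Y.presheaf.map i.op g) := by
      rw [show Y.presheaf.map i.op g = _ from hres]
      exact hunit.map (N.norm W')
    rw [Y.mem_basicOpen g y trivial]
    have e := Y.presheaf.germ_res_apply i y hyW' g
    rw [← e]
    exact hunit2.map _
  refine ⟨g, ?_, hb⟩
  -- (d) D(g) is affine
  have hres : Y.basicOpen (Y.presheaf.map (homOfLE (le_top : V ≤ ⊤)).op g) = Y.basicOpen g := by
    rw [Scheme.basicOpen_res]
    exact inf_eq_right.mpr hc
  rw [← hres]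
  exact hV.basicOpen _

theorem isQuasiAffine_of_preNorm (π : X ⟶ Y) [IsFinite π] [Surjective π] (N : PreNorm π)
    [X.IsQuasiAffine] : Y.IsQuasiAffine := by
  haveI : CompactSpace Y := by
    constructor
    rw [← Set.range_eq_univ.mpr π.surjective]
    exact isCompact_range π.continuous
  exact Scheme.IsQuasiAffine.of_forall_exists_mem_basicOpen Y (exists_affine_basicOpen π N)

section FinLocFree

open Groth.Agent.Helper18Norm Groth.Agent.Helper18Trace Groth.Agent.Helper18FinFlat

variable (π : X ⟶ Y) [IsAffineHom π]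

/-- good opens (free of some finite rank) for the direct image algebra form a basis of the topology. -/
theorem exists_good_directImage
    (h : FlatMod.IsFinLocFree
      ((Scheme.Modules.pushforward π).obj (Coh.structureModule X))) (y : Y) (U : Y.Opens)
    (hy : y ∈ U) :
    ∃ W : Y.Opens, IsAffineOpen W ∧ y ∈ W ∧ W ≤ U ∧ ∃ d : ℕ,
      (letI := alg (RelSpec.QCAlg.directImage π) W
       Nonempty (Module.Basis (Fin d) Γ(Y, W)
        ((RelSpec.QCAlg.directImage π).presheaf.obj (op W)))) := by
  obtain ⟨U₀, d, hy₀, ⟨e⟩⟩ := h y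
  obtain ⟨W₀, hW₀, hyW₀, ⟨b₀⟩⟩ := exists_affine_basis_of_restrict_iso_freeMod' _ U₀.ι e ⟨y, hy₀⟩
  letI := alg (RelSpec.QCAlg.directImage π) W₀
  let b₀' : Module.Basis (Fin d) Γ(Y, W₀) ((RelSpec.QCAlg.directImage π).presheaf.obj (op W₀)) :=
    b₀.map (pushEquiv π W₀)
  obtain ⟨r, hrU, hyr⟩ := hW₀.exists_basicOpen_le (V := U) ⟨y, hy⟩ hyW₀
  exact ⟨Y.basicOpen r, hW₀.basicOpen r, hyr, hrU, d,
    nonempty_basis_basicOpen (RelSpec.QCAlg.directImage π) hW₀ r b₀'⟩

theorem isBasis_good_directImage
    (h : FlatMod.IsFinLocFree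
      ((Scheme.Modules.pushforward π).obj (Coh.structureModule X))) :
    Opens.IsBasis (Set.range (goodB (RelSpec.QCAlg.directImage π))) := by
  rw [Opens.isBasis_iff_nbhd]
  intro U y hy
  obtain ⟨W, hW, hyW, hWU, d, ⟨b⟩⟩ := exists_good_directImage π h y U hy
  exact ⟨W, ⟨⟨W, isGood_of_basis _ hW b⟩, rfl⟩, hyW, hWU⟩

omit [IsAffineHom π] in
/-- A finite locally free morphism has a degree-free norm. -/
theorem preNorm_of_isFinLocFree (hπ : Mor2.IsFinLocFree π) : Nonempty (PreNorm π) := by
  haveI : IsFinite π := hπ.1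
  have h := pushforward_isFinLocFree π hπ
  have hB := isBasis_good_directImage π h
  exact ⟨{ norm := fun U => normHom (RelSpec.QCAlg.directImage π) hB U
           norm_res := fun i s => normSec_res (RelSpec.QCAlg.directImage π) hB (leOfHom i) s
           norm_mem := fun U s x hx hs => normSec_mem π hB U s x hx hs }⟩

end FinLocFree

section Normal

/-- the reduced closed subscheme on the closure of a point is integral. -/
theorem isIntegral_subscheme_closure (x : X) :
    IsIntegral (Scheme.IdealSheafData.vanishingIdeal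
      (Closeds.closure ({x} : Set X))).subscheme := by
  set Z := (Scheme.IdealSheafData.vanishingIdeal (Closeds.closure ({x} : Set X))).subscheme
  set ι := (Scheme.IdealSheafData.vanishingIdeal (Closeds.closure ({x} : Set X))).subschemeι
  have hr : Set.range ι = closure ({x} : Set X) :=
    Groth.Agent.Lib.Helper11RedCl.range_subschemeι_vanishingIdeal _
  obtain ⟨z, hz⟩ : x ∈ Set.range ι := by rw [hr]; exact subset_closure rfl
  have hemb : Topology.IsEmbedding ι := ι.isEmbedding
  have hcl : closure ({z} : Set Z) = Set.univ := by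
    rw [hemb.closure_eq_preimage_closure_image, Set.image_singleton, hz]
    ext w
    simp only [Set.mem_preimage, Set.mem_univ, iff_true]
    rw [← hr]
    exact ⟨w, rfl⟩
  haveI : IrreducibleSpace Z := by
    rw [irreducibleSpace_def]
    change IsIrreducible (Set.univ : Set Z)
    rw [← hcl]
    exact isIrreducible_singleton.closure
  haveI : IsReduced Z := Groth.Agent.Lib.Helper11RedCl.isReduced_subscheme_vanishingIdeal _
  exact isIntegral_of_irreducibleSpace_of_isReduced Z

theorem isQuasiAffine_of_normal (π : X ⟶ Y) [IsFinite π] [Surjective π] [X.IsQuasiAffine]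
    [IsIntegral Y] (hY : Pi1.IsNormalScheme Y) : Y.IsQuasiAffine := by
  obtain ⟨ξ, hξ⟩ := π.surjective (genericPoint Y)
  set I := Scheme.IdealSheafData.vanishingIdeal (Closeds.closure ({ξ} : Set X))
  let Z := I.subscheme
  let ι : Z ⟶ X := I.subschemeι
  haveI : IsIntegral Z := isIntegral_subscheme_closure ξ
  haveI : Z.IsQuasiAffine := Scheme.IsQuasiAffine.of_isAffineHom ι
  have hr : Set.range ι = closure ({ξ} : Set X) :=
    Groth.Agent.Lib.Helper11RedCl.range_subschemeι_vanishingIdeal _
  obtain ⟨z, hz⟩ : ξ ∈ Set.range ι := by rw [hr]; exact subset_closure rfl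
  haveI : Surjective (ι ≫ π) := by
    constructor
    have hclosed : IsClosed (Set.range (ι ≫ π)) := (ι ≫ π).isClosedMap.isClosed_range
    have hmem : genericPoint Y ∈ Set.range (ι ≫ π) := ⟨z, by
      rw [Scheme.Hom.comp_apply, hz, hξ]⟩
    have hsub : closure ({genericPoint Y} : Set Y) ⊆ Set.range (ι ≫ π) :=
      hclosed.closure_subset_iff.mpr (Set.singleton_subset_iff.mpr hmem)
    rw [(genericPoint_spec Y).def] at hsub
    intro y
    exact hsub (Set.mem_univ y)
  obtain ⟨d, ⟨N⟩⟩ := Groth.Agent.Lib.T2H3.NormNormal.hasNorm (ι ≫ π) hY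
  exact isQuasiAffine_of_preNorm (ι ≫ π) (PreNorm.ofNormOfDegree N)

end Normal

/-- **S8860.**  Quasi-affineness descends along a finite surjective morphism which is finite locally free or has
integral normal target. -/
theorem main (π : X ⟶ Y) [IsFinite π] [Surjective π]
    (hX : X.IsQuasiAffine) (h : Mor2.IsFinLocFree π ∨ (IsIntegral Y ∧ Pi1.IsNormalScheme Y)) :
    Y.IsQuasiAffine := by
  haveI := hX
  rcases h with h | ⟨h1, h2⟩
  · obtain ⟨N⟩ := preNorm_of_isFinLocFree π h
    exact isQuasiAffine_of_preNorm π N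
  · haveI := h1
    exact isQuasiAffine_of_normal π h2

end Groth.Agent.Lib.T2H3.NormQAff2
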