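/-
Helper library (helper3): commutative algebra for the relative normalization in a normal source
with locally finitely many irreducible components.  `R ⊆ B` integrally closed, `e ∈ B` an idempotent
with `B e ≅ D` a normal domain, `𝔭` a prime of `R` not containing `e`: then `R_𝔭` is a normal domain.
-/
import Mathlib

set_option autoImplicit false

namespace Groth.Agent.Lib.T2H3.NormSrc

open Polynomial

section Alg

variable {R B D : Type*} [CommRing R] [CommRing B] [CommRing D]

theorem pow_mul_idem {e : B} (he : e * e = e) (n : ℕ) : e ^ n * e = e := by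
  induction n with
  | zero => simp
  | succ n ih => rw [pow_succ, mul_assoc, he, ih]

/-- evaluating at `b * e` and at `b` agree after multiplication by the idempotent `e`. -/
theorem eval₂_mul_idem (φ : R →+* B) {e : B} (he : e * e = e) (b : B) (p : R[X]) :
    p.eval₂ φ (b * e) * e = p.eval₂ φ b * e := by
  induction p using Polynomial.induction_on' with
  | add p q hp hq => rw [eval₂_add, eval₂_add, add_mul, add_mul, hp, hq]
  | monomial n a =>
    rw [eval₂_monomial, eval₂_monomial, mul_pow]
    calc φ a * (b ^ n * e ^ n) * e = φ a * b ^ n * (e ^ n * e) := by ring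
      _ = φ a * b ^ n * e := by rw [pow_mul_idem he]

/-- If `ρ b` is integral over `R` (through `ρ ∘ φ`) and `ker ρ` is killed by the idempotent `e`, then
`b * e` is integral over `R` (through `φ`). -/
theorem isIntegralElem_mul_idem (φ : R →+* B) (ρ : B →+* D) {e : B} (he : e * e = e)
    (hker : ∀ b, ρ b = 0 → b * e = 0) (b : B) (hb : (ρ.comp φ).IsIntegralElem (ρ b)) :
    φ.IsIntegralElem (b * e) := by
  obtain ⟨p, hp, hpb⟩ := hb
  refine ⟨p * X, hp.mul monic_X, ?_⟩
  have h1 : ρ (p.eval₂ φ b) = 0 := by
    rw [← hpb, Polynomial.hom_eval₂]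
  have h2 := hker _ h1
  rw [eval₂_mul, eval₂_X]
  calc p.eval₂ φ (b * e) * (b * e) = (p.eval₂ φ (b * e) * e) * b := by ring
    _ = (p.eval₂ φ b * e) * b := by rw [eval₂_mul_idem φ he]
    _ = 0 := by rw [h2, zero_mul]

variable (φ : R →+* B) (hφ : Function.Injective φ)
  (hcl : ∀ b : B, φ.IsIntegralElem b → b ∈ φ.range)
  (ρ : B →+* D) (hρ : Function.Surjective ρ) [IsDomain D] [IsIntegrallyClosed D]
  (e : B) (he : e * e = e) (hρe : ρ e = 1) (hker : ∀ b, ρ b = 0 → b * e = 0)
  (ebar : R) (hebar : φ ebar = e)

include hφ hker hebar in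
theorem mul_ebar_eq_zero (r : R) (hr : ρ (φ r) = 0) : r * ebar = 0 := by
  apply hφ
  rw [map_mul, hebar, map_zero]
  exact hker _ hr

include hφ hcl hρ he hρe hker hebar in
/-- The localization of `R` at a prime not containing (the preimage of) `e` is a normal domain. -/
theorem isDomain_and_isIntegrallyClosed_of_isLocalization
    (𝔭 : Ideal R) [𝔭.IsPrime] (hp : ebar ∉ 𝔭)
    (S : Type*) [CommRing S] [Algebra R S] [IsLocalization.AtPrime S 𝔭] :
    IsDomain S ∧ IsIntegrallyClosed S := by
  let K := FractionRing D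
  let ψ : R →+* K := (algebraMap D K).comp (ρ.comp φ)
  have hF1 := mul_ebar_eq_zero φ hφ ρ e hker ebar hebar
  have hψ0 : ∀ r : R, ψ r = 0 → r * ebar = 0 := by
    intro r hr
    apply hF1
    exact (IsFractionRing.injective D K) (hr.trans (map_zero _).symm)
  have hF2 : ∀ s : 𝔭.primeCompl, IsUnit (ψ s) := by
    intro s
    apply IsUnit.mk0
    intro h0
    have h1 : (s : R) * ebar ∈ 𝔭 := by rw [hψ0 _ h0]; exact 𝔭.zero_mem
    rcases Ideal.IsPrime.mem_or_mem inferInstance h1 with h | h
    · exact s.2 h
    · exact hp h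
  let g : S →+* K := IsLocalization.lift (M := 𝔭.primeCompl) (g := ψ) hF2
  have hg : ∀ r : R, g (algebraMap R S r) = ψ r := fun r => IsLocalization.lift_eq hF2 r
  have hginj : Function.Injective g := by
    rw [IsLocalization.lift_injective_iff]
    intro x y
    constructor
    · intro h
      rw [← hg, ← hg, h]
    · intro h
      have h1 : ψ (x - y) = 0 := by rw [map_sub, h, sub_self]
      have h2 := hψ0 _ h1
      rw [IsLocalization.eq_iff_exists 𝔭.primeCompl]
      refine ⟨⟨ebar, hp⟩, ?_⟩
      have h3 : ebar * x - ebar * y = 0 := by rw [← mul_sub, mul_comm, h2]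
      exact sub_eq_zero.mp h3
  have hdom : IsDomain S := hginj.isDomain g
  refine ⟨hdom, ?_⟩
  letI : Algebra S K := g.toAlgebra
  letI : Algebra R K := ψ.toAlgebra
  haveI : IsScalarTower R S K := IsScalarTower.of_algebraMap_eq (fun r => (hg r).symm)
  haveI : FaithfulSMul S K := (faithfulSMul_iff_algebraMap_injective S K).mpr hginj
  haveI : IsIntegrallyClosedIn S K := by
    rw [isIntegrallyClosedIn_iff]
    refine ⟨hginj, ?_⟩
    intro k hk
    obtain ⟨m, hm⟩ := IsIntegral.exists_multiple_integral_of_isLocalization 𝔭.primeCompl k hk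
    -- `m • k` is integral over `R`, hence over `D`, hence lies in `D`
    have hmD : IsIntegral D (m • k) := by
      obtain ⟨p, hp1, hp2⟩ := hm
      refine ⟨p.map (ρ.comp φ), hp1.map _, ?_⟩
      rw [Polynomial.eval₂_map]
      exact hp2
    obtain ⟨d, hd⟩ := IsIntegrallyClosed.isIntegral_iff.mp hmD
    obtain ⟨b, rfl⟩ := hρ d
    -- `ρ b` is integral over `R`
    have hbint : (ρ.comp φ).IsIntegralElem (ρ b) := by
      obtain ⟨p, hp1, hp2⟩ := hm
      refine ⟨p, hp1, ?_⟩
      apply IsFractionRing.injective D K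
      rw [map_zero, Polynomial.hom_eval₂, hd]
      exact hp2
    have hbe := isIntegralElem_mul_idem φ ρ he hker b hbint
    obtain ⟨r, hr⟩ := hcl _ hbe
    have hrb : ρ (φ r) = ρ b := by rw [hr, map_mul, hρe, mul_one]
    -- `k = r / m`
    have hmk : algebraMap R K m * k = algebraMap R K r := by
      have h1 : m • k = algebraMap R K (m : R) * k := by
        rw [Submonoid.smul_def, Algebra.smul_def]
      rw [← h1, ← hd, ← hrb]
      rfl
    refine ⟨IsLocalization.mk' S r m, ?_⟩
    have hunit : IsUnit (algebraMap R K m) := hF2 m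
    apply hunit.mul_left_cancel
    rw [hmk, IsScalarTower.algebraMap_apply R S K (m : R), ← map_mul,
      IsLocalization.mk'_spec', ← IsScalarTower.algebraMap_apply]
  exact IsIntegrallyClosed.of_isIntegrallyClosedIn S K

end Alg

end Groth.Agent.Lib.T2H3.NormSrc
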