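import Mathlib
import Groth.Prelude.Def_Pi1

/-!
# Locally integral schemes: clopen integral neighbourhoods, integrality from a cover (helper4)

* `isPreirreducible_sUnion` : a union of pairwise-intersecting open preirreducible sets is preirreducible
* `exists_isClopen_isIrreducible` : in a locally irreducible space every point has a clopen irreducible neighbourhood
* `isIntegral_of_cover` : a reduced scheme covered by pairwise-intersecting irreducible opens is integral
* `exists_isClosed_isIntegral` : in a locally integral scheme every point has a clopen integral open neighbourhood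
* `stalk_normal_of_isOpenImmersion`, `isNormalScheme_Spec`, `isNormalScheme_of_isOpenImmersion`
-/

set_option autoImplicit false
set_option linter.style.haveILetI false
set_option linter.unusedSectionVars false
universe u
open CategoryTheory CategoryTheory.Limits AlgebraicGeometry TopologicalSpace Opposite

namespace Groth.Agent.Lib.T2H4.LocInt

section top

variable {T : Type*} [TopologicalSpace T]

/-- a union of pairwise-intersecting open preirreducible sets is preirreducible -/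
theorem isPreirreducible_sUnion (S : Set (Set T)) (hopen : ∀ U ∈ S, IsOpen U)
    (hirr : ∀ U ∈ S, IsPreirreducible U) (hmeet : ∀ U ∈ S, ∀ U' ∈ S, (U ∩ U').Nonempty) :
    IsPreirreducible (⋃₀ S) := by
  rintro u v hu hv ⟨a, ⟨U₁, hU₁, haU₁⟩, hau⟩ ⟨b, ⟨U₂, hU₂, hbU₂⟩, hbv⟩
  obtain ⟨d, hdU₁, hdu, hdU₂⟩ := hirr U₁ hU₁ u U₂ hu (hopen U₂ hU₂) ⟨a, haU₁, hau⟩ (hmeet U₁ hU₁ U₂ hU₂)
  obtain ⟨e, heU₂, heu, hev⟩ := hirr U₂ hU₂ u v hu hv ⟨d, hdU₂, hdu⟩ ⟨b, hbU₂, hbv⟩
  exact ⟨e, ⟨U₂, hU₂, heU₂⟩, heu, hev⟩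

/-- in a locally irreducible space every point has a clopen irreducible neighbourhood -/
theorem exists_isClopen_isIrreducible
    (h : ∀ t : T, ∃ U : Set T, IsOpen U ∧ t ∈ U ∧ IsIrreducible U) (t : T) :
    ∃ W : Set T, IsClopen W ∧ t ∈ W ∧ IsIrreducible W := by
  obtain ⟨Ut, hUto, htUt, hUti⟩ := h t
  set S : Set (Set T) := {U | IsOpen U ∧ IsIrreducible U ∧ (U ∩ Ut).Nonempty} with hS
  have hUtS : Ut ∈ S := ⟨hUto, hUti, ⟨t, htUt, htUt⟩⟩
  have htW : t ∈ ⋃₀ S := ⟨Ut, hUtS, htUt⟩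
  have hopen : IsOpen (⋃₀ S) := isOpen_sUnion fun U hU => hU.1
  have hmeet : ∀ U ∈ S, ∀ U' ∈ S, (U ∩ U').Nonempty := by
    rintro U ⟨hUo, -, a, haU, haUt⟩ U' ⟨hU'o, -, b, hbU', hbUt⟩
    obtain ⟨d, -, hdU, hdU'⟩ := hUti.2 U U' hUo hU'o ⟨a, haUt, haU⟩ ⟨b, hbUt, hbU'⟩
    exact ⟨d, hdU, hdU'⟩
  have hirr : IsIrreducible (⋃₀ S) :=
    ⟨⟨t, htW⟩, isPreirreducible_sUnion S (fun U hU => hU.1) (fun U hU => hU.2.1.2) hmeet⟩
  refine ⟨⋃₀ S, ⟨?_, hopen⟩, htW, hirr⟩
  apply isClosed_of_closure_subset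
  intro z hz
  obtain ⟨Uz, hUzo, hzUz, hUzi⟩ := h z
  obtain ⟨y, hyUz, U', hU'S, hyU'⟩ := mem_closure_iff.mp hz Uz hUzo hzUz
  obtain ⟨hU'o, hU'i, b, hbU', hbUt⟩ := hU'S
  obtain ⟨d, -, hdUz, hdUt⟩ := hU'i.2 Uz Ut hUzo hUto ⟨y, hyU', hyUz⟩ ⟨b, hbU', hbUt⟩
  exact ⟨Uz, ⟨hUzo, hUzi, ⟨d, hdUz, hdUt⟩⟩, hzUz⟩

end top

section sch

/-- an integral open subscheme is an irreducible subset -/
theorem isIrreducible_of_isIntegral {V : Scheme.{u}} (U : V.Opens) [IsIntegral (U : Scheme.{u})] :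
    IsIrreducible (U : Set V) := by
  have h1 : IsIrreducible (Set.univ : Set (U : Scheme.{u})) := IrreducibleSpace.isIrreducible_univ _
  have h2 := h1.image U.ι.base U.ι.continuous.continuousOn
  rw [Set.image_univ, Scheme.Opens.range_ι] at h2
  exact h2

/-- an irreducible open subset of a reduced scheme is an integral open subscheme -/
theorem isIntegral_of_isIrreducible {V : Scheme.{u}} [IsReduced V] (U : V.Opens)
    (hU : IsIrreducible (U : Set V)) : IsIntegral (U : Scheme.{u}) := by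
  haveI : IrreducibleSpace (U : Scheme.{u}) := Subtype.irreducibleSpace hU
  haveI : IsReduced (U : Scheme.{u}) := isReduced_of_isOpenImmersion U.ι
  exact isIntegral_of_irreducibleSpace_of_isReduced _

/-- a locally integral scheme is reduced -/
theorem isReduced_of_locally_integral {V : Scheme.{u}}
    (h : ∀ v : V, ∃ U : V.Opens, v ∈ U ∧ IsIntegral (U : Scheme.{u})) : IsReduced V := by
  haveI : ∀ v : V, _root_.IsReduced (V.presheaf.stalk v) := by
    intro v
    obtain ⟨U, hvU, hU⟩ := h v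
    haveI : IsIso (U.ι.stalkMap ⟨v, hvU⟩) := inferInstance
    let e : V.presheaf.stalk (U.ι.base ⟨v, hvU⟩) ≃+* (U : Scheme.{u}).presheaf.stalk ⟨v, hvU⟩ :=
      (asIso (U.ι.stalkMap ⟨v, hvU⟩)).commRingCatIsoToRingEquiv
    haveI : _root_.IsReduced ((U : Scheme.{u}).presheaf.stalk ⟨v, hvU⟩) := inferInstance
    exact isReduced_of_injective e.toRingHom e.injective
  exact isReduced_of_isReduced_stalk V

/-- a reduced scheme covered by pairwise-intersecting irreducible opens is integral -/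
theorem isIntegral_of_cover {Z : Scheme.{u}} [IsReduced Z] {ι : Type*} [Nonempty ι] (U : ι → Z.Opens)
    (hcov : ∀ z : Z, ∃ i, z ∈ U i) (hirr : ∀ i, IsIrreducible (U i : Set Z))
    (hmeet : ∀ i j, ((U i : Set Z) ∩ (U j : Set Z)).Nonempty) : IsIntegral Z := by
  have h1 : IsPreirreducible (⋃₀ (Set.range fun i => (U i : Set Z))) := by
    refine isPreirreducible_sUnion _ ?_ ?_ ?_
    · rintro _ ⟨i, rfl⟩
      exact (U i).2
    · rintro _ ⟨i, rfl⟩
      exact (hirr i).2
    · rintro _ ⟨i, rfl⟩ _ ⟨j, rfl⟩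
      exact hmeet i j
  have h2 : ⋃₀ (Set.range fun i => (U i : Set Z)) = Set.univ := by
    ext z
    simp only [Set.sUnion_range, Set.mem_iUnion, SetLike.mem_coe, Set.mem_univ, iff_true]
    exact hcov z
  rw [h2] at h1
  obtain ⟨i⟩ := (inferInstance : Nonempty ι)
  obtain ⟨z, -⟩ := (hirr i).1
  haveI : PreirreducibleSpace Z := ⟨h1⟩
  haveI : IrreducibleSpace Z := { toNonempty := ⟨z⟩ }
  exact isIntegral_of_irreducibleSpace_of_isReduced Z

/-- in a locally integral scheme every point has a clopen integral open neighbourhood -/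
theorem exists_isClosed_isIntegral {V : Scheme.{u}}
    (h : ∀ v : V, ∃ U : V.Opens, v ∈ U ∧ IsIntegral (U : Scheme.{u})) (v : V) :
    ∃ W : V.Opens, v ∈ W ∧ IsClosed (W : Set V) ∧ IsIntegral (W : Scheme.{u}) := by
  haveI := isReduced_of_locally_integral h
  obtain ⟨W, hWc, hvW, hWi⟩ := exists_isClopen_isIrreducible (T := V) (fun t => by
    obtain ⟨U, htU, hU⟩ := h t
    exact ⟨U, U.2, htU, isIrreducible_of_isIntegral U⟩) v
  exact ⟨⟨W, hWc.2⟩, hvW, hWc.1, isIntegral_of_isIrreducible ⟨W, hWc.2⟩ hWi⟩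

/-- normality of a stalk transfers along an open immersion -/
theorem stalk_normal_of_isOpenImmersion {U V : Scheme.{u}} (j : U ⟶ V) [IsOpenImmersion j] (x : U)
    (h : IsDomain (U.presheaf.stalk x) ∧ IsIntegrallyClosed (U.presheaf.stalk x)) :
    IsDomain (V.presheaf.stalk (j.base x)) ∧ IsIntegrallyClosed (V.presheaf.stalk (j.base x)) := by
  obtain ⟨h1, h2⟩ := h
  haveI : IsIso (j.stalkMap x) := inferInstance
  let e : V.presheaf.stalk (j.base x) ≃+* U.presheaf.stalk x :=
    (asIso (j.stalkMap x)).commRingCatIsoToRingEquiv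
  haveI : IsDomain (V.presheaf.stalk (j.base x)) := e.toMulEquiv.isDomain _
  exact ⟨inferInstance, IsIntegrallyClosed.of_equiv e.symm⟩

/-- normality of a stalk transfers back along an open immersion -/
theorem stalk_normal_of_isOpenImmersion' {U V : Scheme.{u}} (j : U ⟶ V) [IsOpenImmersion j] (x : U)
    (h : IsDomain (V.presheaf.stalk (j.base x)) ∧ IsIntegrallyClosed (V.presheaf.stalk (j.base x))) :
    IsDomain (U.presheaf.stalk x) ∧ IsIntegrallyClosed (U.presheaf.stalk x) := by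
  obtain ⟨h1, h2⟩ := h
  haveI : IsIso (j.stalkMap x) := inferInstance
  let e : V.presheaf.stalk (j.base x) ≃+* U.presheaf.stalk x :=
    (asIso (j.stalkMap x)).commRingCatIsoToRingEquiv
  haveI : IsDomain (U.presheaf.stalk x) := e.symm.toMulEquiv.isDomain _
  exact ⟨inferInstance, IsIntegrallyClosed.of_equiv e⟩

/-- open subschemes of normal schemes are normal -/
theorem isNormalScheme_of_isOpenImmersion {U V : Scheme.{u}} (j : U ⟶ V) [IsOpenImmersion j]
    (hV : Pi1.IsNormalScheme V) : Pi1.IsNormalScheme U :=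
  fun x => stalk_normal_of_isOpenImmersion' j x (hV (j.base x))

/-- if sections over an affine open neighbourhood of `y` form an integrally closed domain, the stalk
at `y` is an integrally closed domain. -/
theorem stalk_normal_of_sections {Y : Scheme.{u}} (y : Y) (U : Y.Opens) (hU : IsAffineOpen U)
    (hyU : y ∈ U) [IsDomain Γ(Y, U)] [IsIntegrallyClosed Γ(Y, U)] :
    IsDomain (Y.presheaf.stalk y) ∧ IsIntegrallyClosed (Y.presheaf.stalk y) := by
  letI := TopCat.Presheaf.algebra_section_stalk Y.presheaf ⟨y, hyU⟩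
  haveI hloc := hU.isLocalization_stalk ⟨y, hyU⟩
  haveI := (hU.primeIdealOf ⟨y, hyU⟩).isPrime
  have hle : (hU.primeIdealOf ⟨y, hyU⟩).asIdeal.primeCompl ≤ nonZeroDivisors Γ(Y, U) :=
    Ideal.primeCompl_le_nonZeroDivisors _
  exact ⟨IsLocalization.isDomain_of_le_nonZeroDivisors (Y.presheaf.stalk y) hle,
    isIntegrallyClosed_of_isLocalization (Y.presheaf.stalk y)
      (hU.primeIdealOf ⟨y, hyU⟩).asIdeal.primeCompl hle⟩

/-- the spectrum of an integrally closed domain is normal -/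
theorem isNormalScheme_Spec (R : CommRingCat.{u}) [IsDomain R] [IsIntegrallyClosed R] :
    Pi1.IsNormalScheme (Spec R) := by
  intro x
  let e : Γ(Spec R, ⊤) ≃+* R := (Scheme.ΓSpecIso R).commRingCatIsoToRingEquiv
  haveI : IsDomain Γ(Spec R, ⊤) := e.toMulEquiv.isDomain _
  haveI : IsIntegrallyClosed Γ(Spec R, ⊤) := IsIntegrallyClosed.of_equiv e.symm
  exact stalk_normal_of_sections x ⊤ (isAffineOpen_top (Spec R)) trivial

end sch

end Groth.Agent.Lib.T2H4.LocInt
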