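/-
Helper library (helper3): gluing sections over two disjoint opens, idempotents attached to clopen
subsets, irreducible components of normal schemes with locally finitely many components are open,
sections of a normal scheme over an irreducible open form a normal domain.
-/
import Groth.Agent.Lib.T2H3NormNormal
import Groth.Agent.Lib.Helper4EtNormalSch
import Groth.Agent.Lib.T2H4GrauertQ

set_option autoImplicit false
set_option linter.style.haveILetI false
universe u

open CategoryTheory AlgebraicGeometry TopologicalSpace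

namespace Groth.Agent.Lib.T2H3.NormSrc

section Glue

variable {Y : Scheme.{u}} {V V₁ V₂ : Y.Opens} (h₁ : V₁ ≤ V) (h₂ : V₂ ≤ V)
  (hcov : V ≤ V₁ ⊔ V₂) (hdisj : V₁ ⊓ V₂ = ⊥)

include hcov in
theorem eq_of_res_eq (s t : Γ(Y, V))
    (e₁ : (Y.presheaf.map (homOfLE h₁).op).hom s = (Y.presheaf.map (homOfLE h₁).op).hom t)
    (e₂ : (Y.presheaf.map (homOfLE h₂).op).hom s = (Y.presheaf.map (homOfLE h₂).op).hom t) :
    s = t :=
  Y.sheaf.eq_of_locally_eq₂ (homOfLE h₁) (homOfLE h₂) hcov s t e₁ e₂

include hcov hdisj in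
theorem exists_glue (s₁ : Γ(Y, V₁)) (s₂ : Γ(Y, V₂)) :
    ∃ s : Γ(Y, V), (Y.presheaf.map (homOfLE h₁).op).hom s = s₁ ∧
      (Y.presheaf.map (homOfLE h₂).op).hom s = s₂ := by
  let U : Bool → Y.Opens := fun t => cond t V₁ V₂
  let sf : ∀ t : Bool, Γ(Y, U t) := fun t =>
    match t with
    | true => s₁
    | false => s₂
  have hsub : Subsingleton Γ(Y, V₁ ⊓ V₂) := by rw [hdisj]; infer_instance
  have hsub' : Subsingleton Γ(Y, V₂ ⊓ V₁) := by rw [inf_comm, hdisj]; infer_instance
  have hcompat : TopCat.Presheaf.IsCompatible Y.presheaf U sf := by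
    intro i j
    match i, j with
    | true, true => rfl
    | false, false => rfl
    | true, false => exact Subsingleton.elim (h := hsub) _ _
    | false, true => exact Subsingleton.elim (h := hsub') _ _
  have hcover : V ≤ iSup U := by
    refine hcov.trans (sup_le ?_ ?_)
    · exact le_iSup U true
    · exact le_iSup U false
  let iUV : ∀ t : Bool, U t ⟶ V := fun t =>
    match t with
    | true => homOfLE h₁
    | false => homOfLE h₂
  obtain ⟨s, hs, -⟩ := Y.sheaf.existsUnique_gluing' U V iUV hcover sf hcompat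
  exact ⟨s, hs true, hs false⟩

end Glue

section Clopen

variable {Y : Scheme.{u}}

/-- In a scheme with domain local rings and locally finitely many irreducible components, the
irreducible components are open. -/
theorem isOpen_of_mem_irreducibleComponents (hdom : ∀ y : Y, IsDomain (Y.presheaf.stalk y))
    (hfin : LocallyFinite (fun Z : ↥(irreducibleComponents ↥Y) => (Z : Set ↥Y)))
    {Z : Set Y} (hZ : Z ∈ irreducibleComponents Y) : IsOpen Z := by
  let ι := {Z' : ↥(irreducibleComponents ↥Y) // (Z' : Set Y) ≠ Z}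
  have hcompl : Zᶜ = ⋃ i : ι, (i.1 : Set Y) := by
    ext t
    simp only [Set.mem_compl_iff, Set.mem_iUnion]
    constructor
    · intro ht
      refine ⟨⟨⟨irreducibleComponent t, irreducibleComponent_mem_irreducibleComponents t⟩, ?_⟩,
        mem_irreducibleComponent⟩
      intro h
      apply ht
      rw [← h]
      exact mem_irreducibleComponent
    · rintro ⟨⟨⟨Z', hZ'⟩, hne⟩, htZ'⟩ ht
      haveI := hdom t
      exact hne (Groth.Agent.Lib.Helper4.EtNormalSch.irreducibleComponents_eq_of_mem t hZ' hZ
        htZ' ht)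
  have hlf : LocallyFinite (fun i : ι => (i.1 : Set Y)) :=
    hfin.comp_injective Subtype.val_injective
  have hclosed : IsClosed (Zᶜ) := by
    rw [hcompl]
    exact hlf.isClosed_iUnion (fun i => isClosed_of_mem_irreducibleComponents _ i.1.2)
  exact isClosed_compl_iff.mp hclosed

end Clopen

section NormalSections

/-- Global sections of a normal integral scheme form an integrally closed domain. -/
theorem isIntegrallyClosed_top {Z : Scheme.{u}} [IsIntegral Z] (hZ : Pi1.IsNormalScheme Z) :
    IsIntegrallyClosed Γ(Z, ⊤) := by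
  haveI : Nonempty (⊤ : Z.Opens) := ⟨⟨(inferInstance : Nonempty Z).some, trivial⟩⟩
  haveI : IsDomain Γ(Z, ⊤) := IsIntegral.component_integral ⊤
  letI : Algebra Γ(Z, ⊤) Z.functionField := (Z.germToFunctionField ⊤).hom.toAlgebra
  have hinj : Function.Injective (algebraMap Γ(Z, ⊤) Z.functionField) :=
    Z.germToFunctionField_injective ⊤
  haveI : FaithfulSMul Γ(Z, ⊤) Z.functionField :=
    (faithfulSMul_iff_algebraMap_injective _ _).mpr hinj
  haveI : IsIntegrallyClosedIn Γ(Z, ⊤) Z.functionField := by
    rw [isIntegrallyClosedIn_iff]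
    refine ⟨hinj, ?_⟩
    intro x hx
    refine NormNormal.exists_section_of_forall_affine ⊤ x ?_
    intro W hW _ hWne
    haveI := hWne
    haveI : IsDomain Γ(Z, W) := IsIntegral.component_integral W
    haveI : IsIntegrallyClosed Γ(Z, W) :=
      Groth.Agent.Lib.Helper4.NormIso.isIntegrallyClosed_sections hZ W hW
    haveI := functionField_isFractionRing_of_isAffineOpen Z W hW
    have hxW : IsIntegral Γ(Z, W) x := by
      obtain ⟨p, hp1, hp2⟩ := hx
      refine ⟨p.map (Z.presheaf.map (homOfLE (le_top : W ≤ ⊤)).op).hom, hp1.map _, ?_⟩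
      rw [Polynomial.eval₂_map]
      have hcomp : (algebraMap Γ(Z, W) Z.functionField).comp
          (Z.presheaf.map (homOfLE (le_top : W ≤ ⊤)).op).hom =
          algebraMap Γ(Z, ⊤) Z.functionField := by
        ext s
        exact Z.presheaf.germ_res_apply (homOfLE (le_top : W ≤ ⊤)) _ _ s
      rw [hcomp]
      exact hp2
    obtain ⟨s, hs⟩ := IsIntegrallyClosed.isIntegral_iff.mp hxW
    exact ⟨s, hs⟩
  exact IsIntegrallyClosed.of_isIntegrallyClosedIn Γ(Z, ⊤) Z.functionField

/-- Sections of a normal scheme over an irreducible open subset form a normal domain. -/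
theorem isDomain_and_isIntegrallyClosed_sections {Y : Scheme.{u}} (hY : Pi1.IsNormalScheme Y)
    (V₁ : Y.Opens) (hirr : IsIrreducible (V₁ : Set Y)) :
    IsDomain Γ(Y, V₁) ∧ IsIntegrallyClosed Γ(Y, V₁) := by
  haveI : IrreducibleSpace ↥V₁ := Subtype.irreducibleSpace hirr
  haveI : IrreducibleSpace ↥(V₁ : Scheme.{u}) := ‹_›
  have hnorm : Pi1.IsNormalScheme (V₁ : Scheme.{u}) :=
    Groth.Agent.Lib.T2H4.LocInt.isNormalScheme_of_isOpenImmersion V₁.ι hY
  haveI : IsReduced (V₁ : Scheme.{u}) := by
    haveI : ∀ x : (V₁ : Scheme.{u}), IsReduced ((V₁ : Scheme.{u}).presheaf.stalk x) := fun x => by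
      haveI := (hnorm x).1
      infer_instance
    exact isReduced_of_isReduced_stalk _
  haveI : IsIntegral (V₁ : Scheme.{u}) := isIntegral_of_irreducibleSpace_of_isReduced _
  haveI : Nonempty (⊤ : (V₁ : Scheme.{u}).Opens) :=
    ⟨⟨(inferInstance : Nonempty (V₁ : Scheme.{u})).some, trivial⟩⟩
  haveI : IsDomain Γ((V₁ : Scheme.{u}), ⊤) := IsIntegral.component_integral ⊤
  haveI := isIntegrallyClosed_top hnorm
  let e : Γ((V₁ : Scheme.{u}), ⊤) ≃+* Γ(Y, V₁) := V₁.topIso.commRingCatIsoToRingEquiv
  exact ⟨e.symm.toMulEquiv.isDomain _, IsIntegrallyClosed.of_equiv e⟩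

end NormalSections

end Groth.Agent.Lib.T2H3.NormSrc
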