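/-
Helper library (helper3): the idempotent section attached to a clopen subset, and its lift to the
relative normalization.
-/
import Groth.Agent.Lib.T2H3NormSrcSchA
import Groth.Agent.Lib.T2H3NormSrcAlg

set_option autoImplicit false
set_option linter.style.haveILetI false
universe u

open CategoryTheory AlgebraicGeometry TopologicalSpace

namespace Groth.Agent.Lib.T2H3.NormSrc

section Idem

variable {Y : Scheme.{u}} (V : Y.Opens) {Z : Set Y} (hZ : IsClopen Z)

/-- the part of `V` inside the clopen set `Z` -/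
def inOpen : Y.Opens := V ⊓ ⟨Z, hZ.isOpen⟩

/-- the part of `V` outside the clopen set `Z` -/
def outOpen : Y.Opens := V ⊓ ⟨Zᶜ, hZ.compl.isOpen⟩

theorem inOpen_le : inOpen V hZ ≤ V := inf_le_left

theorem outOpen_le : outOpen V hZ ≤ V := inf_le_left

theorem mem_inOpen_iff (y : Y) : y ∈ inOpen V hZ ↔ y ∈ V ∧ y ∈ Z := Iff.rfl

theorem mem_outOpen_iff (y : Y) : y ∈ outOpen V hZ ↔ y ∈ V ∧ y ∉ Z := Iff.rfl

theorem le_inOpen_sup_outOpen : V ≤ inOpen V hZ ⊔ outOpen V hZ := by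
  intro y hy
  by_cases h : y ∈ Z
  · exact Or.inl ⟨hy, h⟩
  · exact Or.inr ⟨hy, h⟩

theorem inOpen_inf_outOpen : inOpen V hZ ⊓ outOpen V hZ = ⊥ := by
  ext y
  simp only [Opens.coe_inf, Set.mem_inter_iff, SetLike.mem_coe, Opens.coe_bot,
    Set.mem_empty_iff_false, iff_false]
  rintro ⟨⟨-, h1⟩, ⟨-, h2⟩⟩
  exact h2 h1

/-- restriction to the inner part -/
noncomputable def resIn : Γ(Y, V) →+* Γ(Y, inOpen V hZ) :=
  (Y.presheaf.map (homOfLE (inOpen_le V hZ)).op).hom

/-- restriction to the outer part -/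
noncomputable def resOut : Γ(Y, V) →+* Γ(Y, outOpen V hZ) :=
  (Y.presheaf.map (homOfLE (outOpen_le V hZ)).op).hom

theorem eq_of_resIn_resOut (s t : Γ(Y, V)) (h1 : resIn V hZ s = resIn V hZ t)
    (h2 : resOut V hZ s = resOut V hZ t) : s = t :=
  eq_of_res_eq (inOpen_le V hZ) (outOpen_le V hZ) (le_inOpen_sup_outOpen V hZ) s t h1 h2

theorem exists_resIn_resOut (s₁ : Γ(Y, inOpen V hZ)) (s₂ : Γ(Y, outOpen V hZ)) :
    ∃ s : Γ(Y, V), resIn V hZ s = s₁ ∧ resOut V hZ s = s₂ :=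
  exists_glue (inOpen_le V hZ) (outOpen_le V hZ) (le_inOpen_sup_outOpen V hZ)
    (inOpen_inf_outOpen V hZ) s₁ s₂

theorem resIn_surjective : Function.Surjective (resIn V hZ) := fun d => by
  obtain ⟨s, hs, -⟩ := exists_resIn_resOut V hZ d 0
  exact ⟨s, hs⟩

/-- the idempotent which is `1` on `Z` and `0` outside -/
noncomputable def idem : Γ(Y, V) := (exists_resIn_resOut V hZ 1 0).choose

theorem resIn_idem : resIn V hZ (idem V hZ) = 1 := (exists_resIn_resOut V hZ 1 0).choose_spec.1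

theorem resOut_idem : resOut V hZ (idem V hZ) = 0 := (exists_resIn_resOut V hZ 1 0).choose_spec.2

theorem idem_mul_idem : idem V hZ * idem V hZ = idem V hZ := by
  apply eq_of_resIn_resOut V hZ
  · rw [map_mul, resIn_idem, mul_one]
  · rw [map_mul, resOut_idem, mul_zero]

theorem mul_idem_eq_zero (b : Γ(Y, V)) (hb : resIn V hZ b = 0) : b * idem V hZ = 0 := by
  apply eq_of_resIn_resOut V hZ
  · rw [map_mul, hb, zero_mul, map_zero]
  · rw [map_mul, resOut_idem, mul_zero, map_zero]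

theorem inOpen_inf_basicOpen : inOpen V hZ ⊓ Y.basicOpen (1 - idem V hZ) = ⊥ := by
  have h := Y.basicOpen_res (1 - idem V hZ) (homOfLE (inOpen_le V hZ)).op
  have h0 : (Y.presheaf.map (homOfLE (inOpen_le V hZ)).op).hom (1 - idem V hZ) = 0 := by
    change resIn V hZ (1 - idem V hZ) = 0
    rw [map_sub, map_one, resIn_idem, sub_self]
  rw [← h]
  change Y.basicOpen ((Y.presheaf.map (homOfLE (inOpen_le V hZ)).op).hom (1 - idem V hZ)) = ⊥
  rw [h0, Scheme.basicOpen_zero]

theorem outOpen_le_basicOpen : outOpen V hZ ≤ Y.basicOpen (1 - idem V hZ) := by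
  have h := Y.basicOpen_res (1 - idem V hZ) (homOfLE (outOpen_le V hZ)).op
  have h0 : (Y.presheaf.map (homOfLE (outOpen_le V hZ)).op).hom (1 - idem V hZ) = 1 := by
    change resOut V hZ (1 - idem V hZ) = 1
    rw [map_sub, map_one, resOut_idem, sub_zero]
  have h1 : Y.basicOpen ((Y.presheaf.map (homOfLE (outOpen_le V hZ)).op).hom (1 - idem V hZ)) =
      outOpen V hZ := by
    rw [h0]
    exact Y.basicOpen_of_isUnit isUnit_one
  have h2 : outOpen V hZ = outOpen V hZ ⊓ Y.basicOpen (1 - idem V hZ) := h1.symm.trans h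
  rw [h2]
  exact inf_le_right

end Idem

section Normalization

variable {X Y : Scheme.{u}} (f : Y ⟶ X) [QuasiCompact f] [QuasiSeparated f]
  {U : X.Opens} (hU : IsAffineOpen U)

theorem preimage_le : f ⁻¹ᵁ U ≤ f.toNormalization ⁻¹ᵁ (f.fromNormalization ⁻¹ᵁ U) := by
  rw [← Scheme.Hom.comp_preimage, f.toNormalization_fromNormalization]

/-- the map on sections induced by `Y ⟶ X'` over an affine open of `X` -/
noncomputable def phi : Γ(f.normalization, f.fromNormalization ⁻¹ᵁ U) →+* Γ(Y, f ⁻¹ᵁ U) :=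
  (f.toNormalization.appLE (f.fromNormalization ⁻¹ᵁ U) (f ⁻¹ᵁ U) (preimage_le f)).hom

include hU in
theorem phi_eq : letI := (f.app U).hom.toAlgebra
    phi f (U := U) = ((integralClosure Γ(X, U) Γ(Y, f ⁻¹ᵁ U)).val.toRingHom).comp
      (f.normalizationObjIso hU).hom.hom := by
  letI := (f.app U).hom.toAlgebra
  have h := f.normalizationObjIso_hom_val hU
  have h2 := congrArg CommRingCat.Hom.hom h
  exact h2.symm

include hU in
theorem phi_injective : Function.Injective (phi f (U := U)) := by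
  letI := (f.app U).hom.toAlgebra
  rw [phi_eq f hU]
  exact (Subtype.val_injective).comp
    (ConcreteCategory.bijective_of_isIso (f.normalizationObjIso hU).hom).1

include hU in
theorem mem_range_phi (b : Γ(Y, f ⁻¹ᵁ U)) (hb : (phi f (U := U)).IsIntegralElem b) :
    b ∈ (phi f (U := U)).range := by
  letI := (f.app U).hom.toAlgebra
  obtain ⟨p, hp1, hp2⟩ := hb
  rw [phi_eq f hU] at hp2 ⊢
  have h1 : IsIntegral (integralClosure Γ(X, U) Γ(Y, f ⁻¹ᵁ U)) b := by
    refine ⟨p.map (f.normalizationObjIso hU).hom.hom, hp1.map _, ?_⟩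
    rw [Polynomial.eval₂_map]
    exact hp2
  have h2 : IsIntegral Γ(X, U) b := isIntegral_trans b h1
  obtain ⟨r, hr⟩ := (ConcreteCategory.bijective_of_isIso (f.normalizationObjIso hU).hom).2
    ⟨b, h2⟩
  refine ⟨r, ?_⟩
  rw [RingHom.comp_apply]
  exact congrArg Subtype.val hr

variable {Z : Set Y} (hZ : IsClopen Z)

include hU in
theorem exists_ebar : ∃ ebar : Γ(f.normalization, f.fromNormalization ⁻¹ᵁ U),
    phi f ebar = idem (f ⁻¹ᵁ U) hZ := by
  have h := mem_range_phi f hU (idem (f ⁻¹ᵁ U) hZ) ?_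
  · obtain ⟨r, hr⟩ := h
    exact ⟨r, hr⟩
  · refine ⟨Polynomial.X * (Polynomial.X - Polynomial.C 1), ?_, ?_⟩
    · exact Polynomial.monic_X.mul (Polynomial.monic_X_sub_C 1)
    · rw [Polynomial.eval₂_mul, Polynomial.eval₂_sub, Polynomial.eval₂_X, Polynomial.eval₂_C,
        map_one, mul_sub, mul_one, idem_mul_idem, sub_self]

/-- Points inside and outside a clopen subset are separated by the normalization. -/
theorem sep (ebar : Γ(f.normalization, f.fromNormalization ⁻¹ᵁ U))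
    (hebar : phi f ebar = idem (f ⁻¹ᵁ U) hZ) (y : Y) (hy : y ∈ f ⁻¹ᵁ U) :
    (y ∈ Z → f.toNormalization y ∉ f.normalization.basicOpen (1 - ebar)) ∧
    (y ∉ Z → f.toNormalization y ∈ f.normalization.basicOpen (1 - ebar)) := by
  have hb := Scheme.basicOpen_appLE f.toNormalization (f ⁻¹ᵁ U) (f.fromNormalization ⁻¹ᵁ U)
    (preimage_le f) (1 - ebar)
  have hmap : (f.toNormalization.appLE (f.fromNormalization ⁻¹ᵁ U) (f ⁻¹ᵁ U)
      (preimage_le f)).hom (1 - ebar) = 1 - idem (f ⁻¹ᵁ U) hZ := by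
    change phi f (1 - ebar) = _
    rw [map_sub, map_one, hebar]
  rw [hmap] at hb
  constructor
  · intro hyZ hmem
    have h1 : y ∈ inOpen (f ⁻¹ᵁ U) hZ ⊓ Y.basicOpen (1 - idem (f ⁻¹ᵁ U) hZ) := by
      refine ⟨⟨hy, hyZ⟩, ?_⟩
      rw [hb]
      exact ⟨hy, hmem⟩
    rw [inOpen_inf_basicOpen] at h1
    exact h1
  · intro hyZ
    have h1 : y ∈ Y.basicOpen (1 - idem (f ⁻¹ᵁ U) hZ) :=
      outOpen_le_basicOpen (f ⁻¹ᵁ U) hZ ⟨hy, hyZ⟩
    rw [hb] at h1
    exact h1.2

end Normalization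

end Groth.Agent.Lib.T2H3.NormSrc
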