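import Mathlib
import Groth.Agent.Lib.Helper20ZClos17
import Groth.Agent.Lib.Helper6QCohQcqs

/-!
# "Normal" modules: restriction maps across complements inside `Z` (helper3)

* `closedOn_of_affines` : `ClosedOn Z F U` (bijectivity of `F(U) → F(O)` for `U ∖ O ⊆ Z`) for an arbitrary
  open `U` follows from the same on all affine opens inside `U` (sheaf gluing).
* `closedOn_of_isZClosed'`, `isZClosed_of_forall_closedOn`, `isZClosed_iff_forall_closedOn`.
* `isZClosed_iff_depth` : for coherent `F`, `Z`-closed iff depth `≥ 2` at all points of `Z`.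
* `normal_iff_depth` : the "normal" condition for `Z = {dim ≥ 2}` iff depth `≥ 2` at all points of dimension `≥ 2`.
-/

set_option autoImplicit false
set_option linter.style.haveILetI false
set_option linter.unusedSectionVars false
universe u
open CategoryTheory CategoryTheory.Limits AlgebraicGeometry TopologicalSpace Opposite

namespace Groth.Agent.Lib.T2H3.NormalSh

open Groth.Agent.Lib.Helper20.ZClosLib Groth.Agent.Lib.Helper6

variable {X : Scheme.{u}} (Z : Set X) (F : X.Modules)

theorem closedOn_of_affines (U : X.Opens)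
    (h : ∀ W : X.Opens, IsAffineOpen W → W ≤ U → ClosedOn Z F W) : ClosedOn Z F U := by
  intro O hO hOZ
  let F' : TopCat.Sheaf Ab X := ⟨F.presheaf, F.isSheaf⟩
  have hbij : ∀ W : X.Opens, IsAffineOpen W → W ≤ U →
      Function.Bijective (F.presheaf.map (homOfLE (inf_le_left : W ⊓ O ≤ W)).op) := by
    intro W hWa hWU
    refine h W hWa hWU (W ⊓ O) inf_le_left ?_
    rintro y ⟨hyW, hyO⟩
    exact hOZ ⟨hWU hyW, fun hy => hyO ⟨hyW, hy⟩⟩
  constructor
  · intro s t hst
    apply TopCat.Presheaf.section_ext F' U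
    intro x hx
    obtain ⟨_, ⟨W, hW, rfl⟩, hxW, hWU⟩ :=
      X.isBasis_affineOpens.exists_subset_of_mem_open hx U.isOpen
    have hWU' : W ≤ U := hWU
    have h1 : res F hWU' s = res F hWU' t := by
      apply (hbij W hW hWU').1
      change res F inf_le_left (res F hWU' s) = res F inf_le_left (res F hWU' t)
      rw [res_res, res_res]
      have hle : W ⊓ O ≤ O := inf_le_right
      rw [← res_res F hO hle s, ← res_res F hO hle t]
      exact congrArg _ hst
    change F.presheaf.germ U x hx s = F.presheaf.germ U x hx t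
    rw [← TopCat.Presheaf.germ_res_apply F.presheaf (homOfLE hWU') x hxW s,
      ← TopCat.Presheaf.germ_res_apply F.presheaf (homOfLE hWU') x hxW t]
    exact congrArg _ h1
  · intro t
    have hex : ∀ x : U, ∃ W : X.Opens, IsAffineOpen W ∧ x.1 ∈ W ∧ W ≤ U := by
      intro x
      obtain ⟨_, ⟨W, hW, rfl⟩, hxW, hWU⟩ :=
        X.isBasis_affineOpens.exists_subset_of_mem_open x.2 U.isOpen
      exact ⟨W, hW, hxW, hWU⟩
    choose V hVa hxV hVU using hex
    have hsf : ∀ x : U, ∃ m : Γ(F, V x),
        res F (inf_le_left : V x ⊓ O ≤ V x) m = res F (inf_le_right : V x ⊓ O ≤ O) t :=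
      fun x => (hbij (V x) (hVa x) (hVU x)).2 _
    choose m hm using hsf
    have key : ∀ (x : U) (W : X.Opens) (hWV : W ≤ V x),
        res F (inf_le_left : W ⊓ O ≤ W) (res F hWV (m x)) =
          res F (inf_le_right : W ⊓ O ≤ O) t := by
      intro x W hWV
      have hle : W ⊓ O ≤ V x ⊓ O := inf_le_inf_right O hWV
      rw [res_res, ← res_res F (inf_le_left : V x ⊓ O ≤ V x) hle (m x), hm x, res_res]
    have hcov : U ≤ ⨆ x : U, V x := fun y hy => Opens.mem_iSup.2 ⟨⟨y, hy⟩, hxV ⟨y, hy⟩⟩
    have hcompat : TopCat.Presheaf.IsCompatible F.presheaf V m := by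
      intro x x'
      apply TopCat.Presheaf.section_ext F'
      intro z hz
      obtain ⟨_, ⟨W, hW, rfl⟩, hzW, hWV⟩ :=
        X.isBasis_affineOpens.exists_subset_of_mem_open hz (V x ⊓ V x').isOpen
      have hWV' : W ≤ V x ⊓ V x' := hWV
      have hWU : W ≤ U := hWV'.trans (inf_le_left.trans (hVU x))
      have h1 : res F hWV' (res F (inf_le_left : V x ⊓ V x' ≤ V x) (m x)) =
          res F hWV' (res F (inf_le_right : V x ⊓ V x' ≤ V x') (m x')) := by
        apply (hbij W hW hWU).1
        change res F inf_le_left (res F hWV' (res F inf_le_left (m x))) =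
          res F inf_le_left (res F hWV' (res F inf_le_right (m x')))
        rw [res_res F inf_le_left hWV' (m x), res_res F inf_le_right hWV' (m x'), key, key]
      change F.presheaf.germ (V x ⊓ V x') z hz (res F inf_le_left (m x)) =
        F.presheaf.germ (V x ⊓ V x') z hz (res F inf_le_right (m x'))
      rw [← TopCat.Presheaf.germ_res_apply F.presheaf (homOfLE hWV') z hzW
          (res F inf_le_left (m x)),
        ← TopCat.Presheaf.germ_res_apply F.presheaf (homOfLE hWV') z hzW
          (res F inf_le_right (m x'))]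
      exact congrArg _ h1
    obtain ⟨m0, hm0, -⟩ :=
      F'.existsUnique_gluing' V U (fun x => homOfLE (hVU x)) hcov m hcompat
    let m1 : Γ(F, U) := m0
    have hm1 : ∀ i : U, res F (hVU i) m1 = m i := hm0
    refine ⟨m1, ?_⟩
    apply TopCat.Presheaf.section_ext F' O
    intro z hz
    change F.presheaf.germ O z hz (res F hO m1) = F.presheaf.germ O z hz t
    let x : U := ⟨z, hO hz⟩
    have hzW : z ∈ V x ⊓ O := ⟨hxV x, hz⟩
    have hle : V x ⊓ O ≤ O := inf_le_right
    rw [← TopCat.Presheaf.germ_res_apply F.presheaf (homOfLE hle) z hzW (res F hO m1),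
      ← TopCat.Presheaf.germ_res_apply F.presheaf (homOfLE hle) z hzW t]
    refine congrArg _ ?_
    change res F hle (res F hO m1) = res F hle t
    rw [res_res, ← hm x, ← hm1 x, res_res]

theorem closedOn_of_isZClosed' [IsLocallyNoetherian X] (hZ : StableUnderSpecialization Z)
    (h : ZClos.IsZClosed Z F) (U : X.Opens) : ClosedOn Z F U :=
  closedOn_of_affines Z F U fun _ hW _ => closedOn_of_isZClosed Z F hZ h hW

theorem isZClosed_of_forall_closedOn (h : ∀ U : X.Opens, ClosedOn Z F U) :
    ZClos.IsZClosed Z F := by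
  refine isZClosed_of_closedOn Z F (fun U : X.affineOpens => (U.1 : X.Opens)) ?_ fun U => h U.1
  have := X.isBasis_affineOpens
  rwa [← Subtype.range_coe (s := X.affineOpens)] at this

theorem isZClosed_iff_forall_closedOn [IsLocallyNoetherian X] (hZ : StableUnderSpecialization Z) :
    ZClos.IsZClosed Z F ↔ ∀ U : X.Opens, ClosedOn Z F U :=
  ⟨closedOn_of_isZClosed' Z F hZ, isZClosed_of_forall_closedOn Z F⟩

theorem isZClosed_iff_depth [IsLocallyNoetherian X] [F.IsQuasicoherent]
    [SheafOfModules.IsFiniteType (R := X.ringCatSheaf) F] (hZ : StableUnderSpecialization Z) :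
    ZClos.IsZClosed Z F ↔
      ∀ x : X, x ∈ Z → (2 : ℕ∞) ≤ LocCoh.depth (X.presheaf.stalk x) (F.presheaf.stalk x) := by
  constructor
  · intro h x hx
    exact (isZClosedAt_iff_depth_ge_two Z F hZ x).mp (isZClosedAt_of_isZClosed Z F h x) x
      specializes_rfl hx
  · intro h
    refine isZClosed_of_forall_isZClosedAt Z F fun x => ?_
    exact (isZClosedAt_iff_depth_ge_two Z F hZ x).mpr fun x' _ hx' => h x' hx'

/-- the "normal" condition of S16489/S16490 is depth `≥ 2` at all points of dimension `≥ 2`. -/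
theorem normal_iff_depth [IsLocallyNoetherian X] [F.IsQuasicoherent]
    [SheafOfModules.IsFiniteType (R := X.ringCatSheaf) F] :
    (∀ (U V : X.Opens) (hVU : V ≤ U),
        (∀ x : X, x ∈ U → x ∉ V → (2 : WithBot ℕ∞) ≤ ringKrullDim (X.presheaf.stalk x)) →
        Function.Bijective (F.presheaf.map (homOfLE hVU).op)) ↔
      ∀ x : X, (2 : WithBot ℕ∞) ≤ ringKrullDim (X.presheaf.stalk x) →
        (2 : ℕ∞) ≤ LocCoh.depth (X.presheaf.stalk x) (F.presheaf.stalk x) := by
  have hZ := stableUnderSpecialization_dimGe (X := X) 2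
  have hmem : ∀ x : X, x ∈ ZClos.dimGe X 2 ↔
      (2 : WithBot ℕ∞) ≤ ringKrullDim (X.presheaf.stalk x) := fun x => by
    change ((2 : ℕ) : WithBot ℕ∞) ≤ _ ↔ _
    rw [Nat.cast_ofNat]
  rw [← forall_congr' fun x => imp_congr_left (hmem x), ← isZClosed_iff_depth _ F hZ,
    isZClosed_iff_forall_closedOn _ F hZ]
  constructor
  · intro h U O hO hOZ
    exact h U O hO fun x hxU hxO => (hmem x).mp (hOZ ⟨hxU, hxO⟩)
  · intro h U V hVU hx
    exact h U V hVU fun x ⟨hxU, hxV⟩ => (hmem x).mpr (hx x hxU hxV)

end Groth.Agent.Lib.T2H3.NormalSh
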