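import Mathlib

/-!
# Kähler differentials of a one-dimensional smooth local algebra are free on `d s`

Commutative algebra behind `Curves.kaehler_stalk_free_on_d_uniformizer`.
-/

universe u

namespace Groth.Agent.Lib.T2H3.OmegaDVR

open KaehlerDifferential IsLocalRing TensorProduct

theorem bijective_smul_D_of_irreducible (k B : Type u) [Field k] [CommRing B] [Algebra k B]
    [IsLocalRing B] [IsNoetherianRing B] [Algebra.FormallySmooth k B]
    [Algebra.FormallySmooth k (ResidueField B)] [Subsingleton Ω[ResidueField B⁄k]]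
    (e : B ≃ₗ[B] Ω[B⁄k]) (s : B) (hs : Irreducible s) :
    Function.Bijective (fun a : B => a • D k B s) := by
  have hsurj : Function.Surjective (algebraMap B (ResidueField B)) := IsLocalRing.residue_surjective
  have hker : RingHom.ker (algebraMap B (ResidueField B)) = maximalIdeal B :=
    IsLocalRing.ker_residue
  have hφinj : Function.Injective (kerCotangentToTensor k B (ResidueField B)) := by
    obtain ⟨l, hl⟩ := (Algebra.FormallySmooth.iff_split_injection (R := k) (P := B)
      (A := ResidueField B) hsurj).mp inferInstance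
    exact Function.LeftInverse.injective (g := l) (fun x => congr($hl x))
  have hφsurj : Function.Surjective (kerCotangentToTensor k B (ResidueField B)) := by
    intro y
    exact (exact_kerCotangentToTensor_mapBaseChange k B (ResidueField B) hsurj y).mp
      (Subsingleton.elim _ _)
  let ψe : ResidueField B ⊗[B] Ω[B⁄k] ≃ₗ[B] ResidueField B :=
    (LinearEquiv.lTensor (ResidueField B) e.symm) ≪≫ₗ (TensorProduct.rid B (ResidueField B))
  have hψ : ∀ (a : ResidueField B) (w : Ω[B⁄k]), ψe (a ⊗ₜ w) = (e.symm w) • a := by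
    intro a w; simp [ψe]
  let Φ : (RingHom.ker (algebraMap B (ResidueField B))).Cotangent →ₗ[B] ResidueField B :=
    ψe.toLinearMap ∘ₗ (kerCotangentToTensor k B (ResidueField B))
  have hΦbij : Function.Bijective Φ := ψe.bijective.comp ⟨hφinj, hφsurj⟩
  let c : B → B := fun y => e.symm (D k B y)
  have hc : ∀ y, D k B y = c y • e 1 := by
    intro y
    simp only [c]
    rw [← map_smul, smul_eq_mul, mul_one, LinearEquiv.apply_symm_apply]
  have hΦ : ∀ y : RingHom.ker (algebraMap B (ResidueField B)),
      Φ (Ideal.toCotangent _ y) = residue B (c y.1) := by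
    intro y
    simp only [Φ, LinearMap.comp_apply, LinearEquiv.coe_coe]
    rw [kerCotangentToTensor_toCotangent, hψ]
    simp only [c, Algebra.smul_def, mul_one]
    rfl
  -- a generator `t`
  obtain ⟨τ, hτ⟩ := hΦbij.2 1
  obtain ⟨t, rfl⟩ := Ideal.toCotangent_surjective _ τ
  rw [hΦ] at hτ
  have hu : IsUnit (c t.1) := by
    rw [← IsLocalRing.residue_ne_zero_iff_isUnit, hτ]
    exact one_ne_zero
  obtain ⟨u, hu'⟩ := hu
  -- every element of `I` is a multiple of `t` modulo `I²`
  have hmod : ∀ y : RingHom.ker (algebraMap B (ResidueField B)),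
      (y.1 - (c y.1 * (↑u⁻¹ : B)) * t.1) ∈ (RingHom.ker (algebraMap B (ResidueField B))) ^ 2 := by
    intro y
    have h1 : Φ (Ideal.toCotangent _ (y - (c y.1 * (↑u⁻¹ : B)) • t)) = 0 := by
      rw [map_sub, map_smul, map_sub, map_smul, hΦ, hΦ, ← hu', Algebra.smul_def, sub_eq_zero]
      change _ = residue B _ * _
      rw [← map_mul, mul_assoc, Units.inv_mul, mul_one]
    have h2 := hΦbij.1 (h1.trans (map_zero Φ).symm)
    rw [Ideal.toCotangent_eq_zero] at h2
    exact h2
  have hIle : RingHom.ker (algebraMap B (ResidueField B)) ≤ Ideal.span {t.1} := by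
    have hfg : (RingHom.ker (algebraMap B (ResidueField B)) : Submodule B B).FG :=
      IsNoetherian.noetherian _
    refine Submodule.le_of_le_smul_of_le_jacobson_bot
      (I := RingHom.ker (algebraMap B (ResidueField B))) hfg ?_ ?_
    · rw [hker]; exact IsLocalRing.maximalIdeal_le_jacobson _
    · intro y hy
      have := hmod ⟨y, hy⟩
      rw [pow_two] at this
      have hy' : y = (c y * (↑u⁻¹ : B)) * t.1 + (y - (c y * (↑u⁻¹ : B)) * t.1) := by ring
      rw [hy']
      refine Submodule.add_mem_sup ?_ (by simpa using this)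
      exact Ideal.mul_mem_left _ _ (Ideal.subset_span rfl)
  -- `s` is a unit multiple of `t`
  have hsI : s ∈ RingHom.ker (algebraMap B (ResidueField B)) := by
    rw [hker, mem_maximalIdeal, mem_nonunits_iff]
    exact hs.not_isUnit
  have htI : ¬ IsUnit t.1 := by
    have : t.1 ∈ maximalIdeal B := hker ▸ t.2
    rw [mem_maximalIdeal, mem_nonunits_iff] at this
    exact this
  obtain ⟨b, hb⟩ := Ideal.mem_span_singleton'.mp (hIle hsI)
  have hbu : IsUnit b := by
    rcases hs.isUnit_or_isUnit hb.symm with h | h
    · exact h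
    · exact absurd h htI
  -- `D s = v • e 1` with `v` a unit
  have hDs : D k B s = (b * c t.1 + t.1 * c b) • e 1 := by
    rw [← hb, Derivation.leibniz, hc t.1, hc b, add_smul, mul_smul, mul_smul]
  have hv : IsUnit (b * c t.1 + t.1 * c b) := by
    have h1 : IsUnit (b * c t.1) := hbu.mul (hu' ▸ u.isUnit)
    have h2 : t.1 * c b ∈ maximalIdeal B := by
      rw [← hker]; exact Ideal.mul_mem_right _ _ t.2
    by_contra h
    have h3 : b * c t.1 + t.1 * c b ∈ maximalIdeal B := by
      rwa [mem_maximalIdeal, mem_nonunits_iff]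
    have h4 : b * c t.1 ∈ maximalIdeal B := by
      have := (maximalIdeal B).sub_mem h3 h2
      simpa using this
    rw [mem_maximalIdeal, mem_nonunits_iff] at h4
    exact h4 h1
  obtain ⟨v, hv'⟩ := hv
  have heq : (fun a : B => a • D k B s) = fun a => e (a * v) := by
    funext a
    rw [hDs, ← hv', ← mul_smul, ← map_smul, smul_eq_mul, mul_one]
  rw [heq]
  exact e.bijective.comp (Units.mulRight_bijective v)

end Groth.Agent.Lib.T2H3.OmegaDVR
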