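import Mathlib
import Groth.Prelude.Def_W4c5ffgsreadingcourseOT
import Groth.Agent.Lib.Helper25Killed

/-!
# The action of `(ZMod p)ˣ` on a commutative Hopf algebra killed by `p` (helper3, team 2)

`rho`: the monoid hom `(ZMod p)ˣ →* Module.End R A`, `m ↦ [m.val]`; `groupAlgHom`: its extension to the group
algebra; `groupAlgHom_idem`: the image of the averaging idempotent is `OortTate.proj`.
-/

set_option autoImplicit false
universe u

namespace Groth.Agent.Lib.T2H3.OortTate

open WithConv SGA3b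

variable {R : Type u} [CommRing R] {A : Type u} [CommRing A] [HopfAlgebra R A]

theorem powConv_one : powConv R A 1 = AlgHom.id R A := by
  unfold powConv
  rw [pow_one]

theorem powConv_mod {p : ℕ} (hp : (WithConv.toConv (AlgHom.id R A)) ^ p = 1) (a : ℕ) :
    powConv R A (a % p) = powConv R A a := by
  unfold powConv
  rw [← pow_eq_pow_mod a hp]

theorem counit_comp_powConv (n : ℕ) :
    (Bialgebra.counitAlgHom R A).comp (powConv R A n) = Bialgebra.counitAlgHom R A := by
  unfold powConv
  rw [Groth.Agent.Lib.Helper25.Tors.comp_convPow]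
  have h1 : toConv ((Bialgebra.counitAlgHom R A).comp (toConv (AlgHom.id R A)).ofConv) =
      (1 : WithConv (A →ₐ[R] R)) := by
    rw [AlgHom.convOne_def]
    congr 1
  rw [h1, one_pow]
  rw [AlgHom.convOne_def]
  ext a
  simp

theorem counit_powConv (n : ℕ) (a : A) :
    Coalgebra.counit (R := R) (powConv R A n a) = Coalgebra.counit (R := R) a :=
  AlgHom.congr_fun (counit_comp_powConv (R := R) (A := A) n) a

variable (R A) in
/-- The action of the units of `ZMod p` on a commutative Hopf algebra killed by `p`. -/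
noncomputable def rho (p : ℕ) [Fact p.Prime]
    (hp : (WithConv.toConv (AlgHom.id R A)) ^ p = 1) : (ZMod p)ˣ →* Module.End R A where
  toFun m := (powConv R A (m : ZMod p).val).toLinearMap
  map_one' := by
    rw [Units.val_one, ZMod.val_one, powConv_one]
    rfl
  map_mul' m n := by
    rw [Units.val_mul, ZMod.val_mul, powConv_mod hp,
      ← Groth.Agent.Lib.Helper25.Tors.powConv_comp]
    rfl

theorem rho_apply (p : ℕ) [Fact p.Prime]
    (hp : (WithConv.toConv (AlgHom.id R A)) ^ p = 1) (m : (ZMod p)ˣ) :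
    rho R A p hp m = (powConv R A (m : ZMod p).val).toLinearMap := rfl

variable (R A) in
/-- The extension of `rho` to the group algebra. -/
noncomputable def groupAlgHom (p : ℕ) [Fact p.Prime]
    (hp : (WithConv.toConv (AlgHom.id R A)) ^ p = 1) :
    MonoidAlgebra R (ZMod p)ˣ →ₐ[R] Module.End R A :=
  MonoidAlgebra.lift R (Module.End R A) (ZMod p)ˣ (rho R A p hp)

theorem groupAlgHom_idem (p : ℕ) [Fact p.Prime]
    (hp : (WithConv.toConv (AlgHom.id R A)) ^ p = 1) (u : R) (χ : (ZMod p)ˣ →* Rˣ) (i : ℕ) :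
    groupAlgHom R A p hp
      (u • ∑ m : (ZMod p)ˣ, ((χ m⁻¹ : Rˣ) : R) ^ i • MonoidAlgebra.of R (ZMod p)ˣ m) =
      OortTate.proj R A p u χ i := by
  unfold groupAlgHom OortTate.proj
  rw [map_smul, map_sum]
  congr 1
  refine Finset.sum_congr rfl fun m _ => ?_
  rw [map_smul, MonoidAlgebra.lift_of]
  rfl

section Proj

variable (p : ℕ) [Fact p.Prime] (hp : (WithConv.toConv (AlgHom.id R A)) ^ p = 1)
  (u : R) (χ : (ZMod p)ˣ →* Rˣ)

include hp in
theorem proj_apply (i : ℕ) (f : A) : OortTate.proj R A p u χ i f =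
    u • ∑ m : (ZMod p)ˣ, (((χ m⁻¹ : Rˣ) : R) ^ i) • rho R A p hp m f := by
  unfold OortTate.proj
  rw [LinearMap.smul_apply, LinearMap.sum_apply]
  rfl

theorem rho_proj (i : ℕ) (m : (ZMod p)ˣ) (f : A) :
    rho R A p hp m (OortTate.proj R A p u χ i f) =
      ((χ m : Rˣ) : R) ^ i • OortTate.proj R A p u χ i f := by
  rw [proj_apply p hp, LinearMap.map_smul, smul_comm]
  congr 1
  rw [map_sum, Finset.smul_sum, ← Equiv.sum_comp (Equiv.mulLeft m⁻¹)]
  refine Finset.sum_congr rfl fun n _ => ?_
  rw [LinearMap.map_smul, ← Module.End.mul_apply, ← map_mul, Equiv.coe_mulLeft,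
    mul_inv_cancel_left, smul_smul]
  congr 1
  rw [mul_inv_rev, inv_inv, map_mul, Units.val_mul, mul_pow]
  exact mul_comm _ _

theorem rho_comm (m n : (ZMod p)ˣ) (f : A) :
    rho R A p hp m (rho R A p hp n f) = rho R A p hp n (rho R A p hp m f) := by
  rw [← Module.End.mul_apply, ← Module.End.mul_apply, ← map_mul, ← map_mul, mul_comm]

theorem proj_rho (i : ℕ) (m : (ZMod p)ˣ) (f : A) :
    OortTate.proj R A p u χ i (rho R A p hp m f) =
      ((χ m : Rˣ) : R) ^ i • OortTate.proj R A p u χ i f := by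
  rw [← rho_proj p hp u χ i m f, proj_apply p hp, proj_apply p hp, LinearMap.map_smul, map_sum]
  congr 1
  refine Finset.sum_congr rfl fun n _ => ?_
  rw [LinearMap.map_smul, rho_comm]

include hp in
theorem counit_proj (i : ℕ) (f : A) (hf : Coalgebra.counit (R := R) f = 0) :
    Coalgebra.counit (R := R) (OortTate.proj R A p u χ i f) = 0 := by
  rw [proj_apply p hp, map_smul, map_sum]
  rw [Finset.sum_eq_zero, smul_zero]
  intro m _
  rw [map_smul, rho_apply]
  show _ • Coalgebra.counit (R := R) (SGA3b.powConv R A (m : ZMod p).val f) = 0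
  rw [counit_powConv, hf, smul_zero]

theorem mem_eigenAug_iff (i : ℕ) (f : A) : f ∈ OortTate.eigenAug R A p χ i ↔
    Coalgebra.counit (R := R) f = 0 ∧
      ∀ m : (ZMod p)ˣ, powConv R A (m : ZMod p).val f = ((χ m : Rˣ) : R) ^ i • f := by
  unfold OortTate.eigenAug
  rw [Submodule.mem_inf, LinearMap.mem_ker, Submodule.mem_iInf]
  refine and_congr Iff.rfl (forall_congr' fun m => ?_)
  rw [Module.End.mem_eigenspace_iff]
  rfl

include hp in
theorem proj_eq_self (hu : u * ((p - 1 : ℕ) : R) = 1) (i : ℕ) (f : A)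
    (hf : f ∈ OortTate.eigenAug R A p χ i) : OortTate.proj R A p u χ i f = f := by
  have hcard : Fintype.card (ZMod p)ˣ = p - 1 := ZMod.card_units p
  rw [mem_eigenAug_iff] at hf
  rw [proj_apply p hp]
  have : ∀ m : (ZMod p)ˣ, (((χ m⁻¹ : Rˣ) : R) ^ i) • rho R A p hp m f = f := by
    intro m
    rw [rho_apply]
    show _ • powConv R A (m : ZMod p).val f = f
    rw [hf.2 m, smul_smul, ← mul_pow, ← Units.val_mul, ← map_mul, inv_mul_cancel, map_one,
      Units.val_one, one_pow, one_smul]
  rw [Finset.sum_congr rfl fun m _ => this m, Finset.sum_const, Finset.card_univ, hcard,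
    ← Nat.cast_smul_eq_nsmul R, smul_smul, hu, one_smul]

include hp in
theorem proj_mem_eigenAug (i : ℕ) (f : A) (hf : Coalgebra.counit (R := R) f = 0) :
    OortTate.proj R A p u χ i f ∈ OortTate.eigenAug R A p χ i := by
  rw [mem_eigenAug_iff]
  exact ⟨counit_proj p hp u χ i f hf, fun m => rho_proj p hp u χ i m f⟩

end Proj

end Groth.Agent.Lib.T2H3.OortTate
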