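import Mathlib
import Groth.Prelude.Def_W4c5ffgsreadingcourseOT
import Groth.Prelude.Def_CartDual2
import Groth.Agent.Lib.T2H3OortTate

/-!
# Power maps on the dual Hopf algebra are the transposes of the power maps (helper3, team 2)
-/

set_option autoImplicit false
universe u

namespace Groth.Agent.Lib.T2H3.OortTate

open WithConv SGA3b CartDual TensorProduct

section Lin

variable {R : Type u} [CommRing R] {A : Type u} [Ring A] [Bialgebra R A]
  [Module.Finite R A] [Module.Projective R A]

theorem mul_map_transposeLin (f g : A →ₗ[R] A) (y : D R A ⊗[R] D R A) (a : A) :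
    (LinearMap.mul' R (D R A) (TensorProduct.map (transposeLin R f) (transposeLin R g) y)) a =
      ev₂ R A y (TensorProduct.map f g (Coalgebra.comul (R := R) a)) := by
  induction y using TensorProduct.induction_on with
  | zero => simp
  | tmul x z =>
    rw [TensorProduct.map_tmul, LinearMap.mul'_apply, LinearMap.convMul_apply, ev₂_tmul_eq']
    have h1 : (transposeLin R f x).ofConv = x.ofConv ∘ₗ f := rfl
    have h2 : (transposeLin R g z).ofConv = z.ofConv ∘ₗ g := rfl
    rw [h1, h2, TensorProduct.map_comp]
    rfl
  | add y y' hy hy' =>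
    rw [map_add, map_add, map_add, LinearMap.add_apply, ← hy, ← hy']
    rfl

theorem transposeLin_convMul (f g : WithConv (A →ₗ[R] A)) :
    toConv (transposeLin R (f * g).ofConv) =
      toConv (transposeLin R f.ofConv) * toConv (transposeLin R g.ofConv) := by
  apply WithConv.ext
  apply LinearMap.ext
  intro x
  apply WithConv.ext
  apply LinearMap.ext
  intro a
  show x ((f * g) a) = (LinearMap.mul' R (D R A) (TensorProduct.map (transposeLin R f.ofConv)
    (transposeLin R g.ofConv) (Coalgebra.comul (R := R) x))) a
  rw [mul_map_transposeLin, CartDual.comul_def, ev₂_comul, LinearMap.convMul_apply]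
  rfl

theorem transposeLin_convOne :
    toConv (transposeLin R (1 : WithConv (A →ₗ[R] A)).ofConv) = 1 := by
  apply WithConv.ext
  apply LinearMap.ext
  intro x
  apply WithConv.ext
  apply LinearMap.ext
  intro a
  show x ((1 : WithConv (A →ₗ[R] A)) a) = ((1 : WithConv (D R A →ₗ[R] D R A)) x) a
  rw [LinearMap.convOne_apply, LinearMap.convOne_apply, Algebra.algebraMap_eq_smul_one,
    Algebra.algebraMap_eq_smul_one]
  show x.ofConv _ = (Coalgebra.counit (R := R) x • (1 : D R A)).ofConv a
  rw [map_smul, WithConv.ofConv_smul, LinearMap.smul_apply]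
  show _ = _ • (1 : D R A) a
  rw [LinearMap.convOne_apply, CartDual.coalgebra_counit_apply, smul_eq_mul, smul_eq_mul,
    Algebra.algebraMap_self, RingHom.id_apply, mul_comm]

theorem transposeLin_convPow (f : WithConv (A →ₗ[R] A)) (n : ℕ) :
    toConv (transposeLin R (f ^ n).ofConv) = (toConv (transposeLin R f.ofConv)) ^ n := by
  induction n with
  | zero => rw [pow_zero, pow_zero, transposeLin_convOne]
  | succ n ih => rw [pow_succ, pow_succ, transposeLin_convMul, ih]

end Lin

section Hopf

variable {R : Type u} [CommRing R] {A : Type u} [CommRing A] [HopfAlgebra R A]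
  [Coalgebra.IsCocomm R A] [Module.Finite R A] [Module.Projective R A]

theorem toLinearMap_powConv' {B : Type u} [CommRing B] [HopfAlgebra R B] (n : ℕ) :
    (powConv R B n).toLinearMap = ((toConv (LinearMap.id : B →ₗ[R] B)) ^ n).ofConv := by
  unfold powConv
  have := AlgHom.toLinearMap_convPow (toConv (AlgHom.id R B)) n
  exact congrArg WithConv.ofConv this

theorem powConv_dual_apply (n : ℕ) (x : D R A) (a : A) :
    (powConv R (D R A) n x) a = x (powConv R A n a) := by
  have h1 := toLinearMap_powConv' (R := R) (B := D R A) n
  have h2 := toLinearMap_powConv' (R := R) (B := A) n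
  have h3 := transposeLin_convPow (toConv (LinearMap.id : A →ₗ[R] A)) n
  have h4 : toConv (transposeLin R (toConv (LinearMap.id : A →ₗ[R] A)).ofConv) =
      toConv (LinearMap.id : D R A →ₗ[R] D R A) := rfl
  rw [h4] at h3
  have h5 : (powConv R (D R A) n).toLinearMap = transposeLin R (powConv R A n).toLinearMap := by
    rw [h1, h2, ← h3]
  have h6 := LinearMap.congr_fun h5 x
  exact congrArg (fun y : D R A => y a) h6

end Hopf

end Groth.Agent.Lib.T2H3.OortTate
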