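-- helper6 (team 2): finite type ideal sheaves: local nature, inverse images, products.
import Mathlib
import Groth.Prelude.Def_BlowUp2
import Groth.Agent.Lib.Helper20EffCartier

set_option autoImplicit false
set_option backward.isDefEq.respectTransparency false
set_option backward.isDefEq.respectTransparency.types false
open CategoryTheory CategoryTheory.Limits AlgebraicGeometry

universe u

namespace Groth.Agent.Lib.T2H6.BlowUpFT

open Scheme.IdealSheafData

/-- being of finite type can be checked on an affine open cover. -/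
theorem isFiniteTypeIdeal_of_cover {X : Scheme.{u}} (I : X.IdealSheafData) {ι : Type*}
    (U : ι → X.affineOpens) (hU : ⨆ i, (U i).1 = ⊤) (H : ∀ i, (I.ideal (U i)).FG) :
    BlowUp.IsFiniteTypeIdeal I := by
  intro V
  have : ∀ x : V.1, ∃ (i : ι) (r : Γ(X, V.1)) (rU : Γ(X, U i)),
      X.basicOpen r = X.basicOpen rU ∧ x.1 ∈ X.basicOpen r := by
    intro ⟨x, hxV⟩
    obtain ⟨i, hi⟩ := TopologicalSpace.Opens.mem_iSup.mp (hU.ge (Set.mem_univ x))
    exact ⟨i, exists_basicOpen_le_affine_inter V.2 (U i).2 _ ⟨hxV, hi⟩⟩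
  choose i r rU e hxr using this
  have hspan : Ideal.span (Set.range r) = ⊤ := by
    rw [← V.2.self_le_iSup_basicOpen_iff]
    exact fun x hxV ↦ TopologicalSpace.Opens.mem_iSup.mpr ⟨⟨_, _, rfl⟩, hxr ⟨x, hxV⟩⟩
  have inst := V.2.isLocalization_basicOpen
  refine Submodule.of_localizationSpan' (Set.range r) hspan
    (Rₚ := fun g => Γ(X, X.basicOpen g.1)) (Mₚ := fun g => Γ(X, X.basicOpen g.1))
    (fun g ↦ Algebra.linearMap Γ(X, V.1) Γ(X, X.basicOpen g.1)) ?_
  rintro ⟨_, j, rfl⟩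
  simp only [Ideal.localized'_eq_map, RingHom.algebraMap_toAlgebra]
  erw [I.map_ideal (U := ⟨_, V.2.basicOpen _⟩) (X.basicOpen_le (r j))]
  have h1 : (⟨X.basicOpen (r j), V.2.basicOpen _⟩ : X.affineOpens) =
      ⟨X.basicOpen (rU j), (U (i j)).2.basicOpen _⟩ := Subtype.ext (e j)
  have key : ∀ W W' : X.affineOpens, W = W' → (I.ideal W').FG → (I.ideal W).FG := by
    rintro W _ rfl h; exact h
  refine key _ _ h1 ?_
  have h2 := I.map_ideal_basicOpen (U (i j)) (rU j)
  change _ = I.ideal ⟨X.basicOpen (rU j), _⟩ at h2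
  rw [← h2]
  exact (H (i j)).map _

/-- the inverse image of a finite type ideal sheaf is of finite type. -/
theorem isFiniteTypeIdeal_comap {X Y : Scheme.{u}} (f : Y ⟶ X) (𝓛 : X.IdealSheafData)
    (h : BlowUp.IsFiniteTypeIdeal 𝓛) : BlowUp.IsFiniteTypeIdeal (𝓛.comap f) := by
  have : ∀ y : Y, ∃ (W : X.affineOpens) (V : Y.affineOpens), y ∈ V.1 ∧ V.1 ≤ f ⁻¹ᵁ W.1 := by
    intro y
    obtain ⟨W, hW, hyW, -⟩ := TopologicalSpace.Opens.isBasis_iff_nbhd.mp X.isBasis_affineOpens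
      (TopologicalSpace.Opens.mem_top (f y))
    obtain ⟨V, hV, hyV, hVW⟩ := TopologicalSpace.Opens.isBasis_iff_nbhd.mp Y.isBasis_affineOpens
      (show y ∈ f ⁻¹ᵁ W from hyW)
    exact ⟨⟨W, hW⟩, ⟨V, hV⟩, hyV, hVW⟩
  choose W V hyV hVW using this
  apply isFiniteTypeIdeal_of_cover _ V
  · rw [eq_top_iff]
    intro y _
    exact TopologicalSpace.Opens.mem_iSup.mpr ⟨y, hyV y⟩
  · intro y
    rw [Groth.Agent.Lib.Helper20.EffCartier.ideal_comap_eq_map f 𝓛 (V y).2 (W y).2 (hVW y)]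
    exact (h (W y)).map _

theorem isFiniteTypeIdeal_mul {X : Scheme.{u}} (A B : X.IdealSheafData)
    (hA : BlowUp.IsFiniteTypeIdeal A) (hB : BlowUp.IsFiniteTypeIdeal B) :
    BlowUp.IsFiniteTypeIdeal (A * B) := by
  intro U
  rw [ideal_mul]
  exact (hA U).mul (hB U)

theorem isFiniteTypeIdeal_top {X : Scheme.{u}} : BlowUp.IsFiniteTypeIdeal (⊤ : X.IdealSheafData) := by
  intro U
  rw [ideal_top]
  exact ⟨{1}, by simp⟩

theorem isFiniteTypeIdeal_prod {X : Scheme.{u}} {ι : Type*} (s : Finset ι)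
    (𝓘 : ι → X.IdealSheafData) (h : ∀ i ∈ s, BlowUp.IsFiniteTypeIdeal (𝓘 i)) :
    BlowUp.IsFiniteTypeIdeal (∏ i ∈ s, 𝓘 i) := by
  classical
  induction s using Finset.induction_on with
  | empty =>
    rw [Finset.prod_empty, one_eq_top]
    exact isFiniteTypeIdeal_top
  | insert a s ha ih =>
    rw [Finset.prod_insert ha]
    exact isFiniteTypeIdeal_mul _ _ (h a (Finset.mem_insert_self a s))
      (ih fun i hi => h i (Finset.mem_insert_of_mem hi))

theorem disjoint_support_prod {X : Scheme.{u}} {ι : Type*} (s : Finset ι)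
    (𝓘 : ι → X.IdealSheafData) (U : Set X)
    (h : ∀ i ∈ s, Disjoint ((𝓘 i).support : Set X) U) :
    Disjoint ((∏ i ∈ s, 𝓘 i).support : Set X) U := by
  classical
  induction s using Finset.induction_on with
  | empty =>
    rw [Finset.prod_empty, one_eq_top, support_top]
    exact Set.disjoint_left.2 fun x hx => hx.elim
  | insert a s ha ih =>
    rw [Finset.prod_insert ha, support_mul]
    change Disjoint (((𝓘 a).support : Set X) ∪ ((∏ i ∈ s, 𝓘 i).support : Set X)) U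
    rw [Set.disjoint_union_left]
    exact ⟨h a (Finset.mem_insert_self a s), ih fun i hi => h i (Finset.mem_insert_of_mem hi)⟩

theorem isAdmissibleFor_prod {X : Scheme.{u}} {ι : Type*} (s : Finset ι)
    (𝓘 : ι → X.IdealSheafData) (U : X.Opens)
    (h : ∀ i ∈ s, BlowUp.IsAdmissibleFor U (𝓘 i)) :
    BlowUp.IsAdmissibleFor U (∏ i ∈ s, 𝓘 i) :=
  ⟨isFiniteTypeIdeal_prod s 𝓘 fun i hi => (h i hi).1,
   disjoint_support_prod s 𝓘 U fun i hi => (h i hi).2⟩

theorem isAdmissibleFor_comap {X Y : Scheme.{u}} (f : Y ⟶ X) (𝓛 : X.IdealSheafData) (U : X.Opens)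
    (h : BlowUp.IsAdmissibleFor U 𝓛) : BlowUp.IsAdmissibleFor (f ⁻¹ᵁ U) (𝓛.comap f) := by
  refine ⟨isFiniteTypeIdeal_comap f 𝓛 h.1, ?_⟩
  rw [support_comap]
  have h2 := h.2
  rw [Set.disjoint_left] at h2 ⊢
  intro y hy hyU
  exact h2 hy hyU

end Groth.Agent.Lib.T2H6.BlowUpFT
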