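-- helper6 (team 2): a blowing up in a finite type ideal sheaf is proper.
import Mathlib
import Groth.Prelude.Def_BlowUp2
import Groth.Prelude.Def_Rees
import Groth.Agent.Lib.T2H6BlowUpCoprime
import Groth.Agent.Lib.T2H6BlowUpAffine
import Groth.Agent.Lib.T2H6BlowUpGlue
import Groth.Agent.Lib.T2H6BlowUpMul
import Groth.Agent.Lib.T2H6BlowUpFT

set_option autoImplicit false
set_option backward.isDefEq.respectTransparency false
set_option backward.isDefEq.respectTransparency.types false
open CategoryTheory CategoryTheory.Limits AlgebraicGeometry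

universe u

namespace Groth.Agent.Lib.T2H6.BlowUpProper

open Scheme.IdealSheafData Groth.Agent.Lib.T2H6.BlowUpAffine
open Groth.Agent.Lib.T2H6.BlowUpCoprime Groth.Agent.Lib.T2H6.BlowUpGlue

section Affine

variable {A : Type u} [CommRing A] (I : Ideal A)

theorem isProper_toSpecZero (hI : I.FG) :
    IsProper (Proj.toSpecZero (Rees.deg (reesAlgebra I))) := by
  have h1 : Algebra.FiniteType A (reesAlgebra I) :=
    (reesAlgebra I).fg_iff_finiteType.1 (reesAlgebra.fg hI)
  haveI : IsScalarTower A (Rees.deg (reesAlgebra I) 0) (reesAlgebra I) :=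
    IsScalarTower.of_algebraMap_eq (R := A) (S := Rees.deg (reesAlgebra I) 0)
      (A := reesAlgebra I) (fun a => rfl)
  have : Algebra.FiniteType (Rees.deg (reesAlgebra I) 0) (reesAlgebra I) :=
    Algebra.FiniteType.of_restrictScalars_finiteType A _ _
  infer_instance

/-- the degree zero part of the Rees algebra is `A`. -/
theorem bijective_algebraMap_zero :
    Function.Bijective (algebraMap A (Rees.deg (reesAlgebra I) 0)) := by
  constructor
  · intro a a' h
    have h1 := congrArg (fun z : Rees.deg (reesAlgebra I) 0 => ((z : reesAlgebra I) : Polynomial A)) h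
    exact Polynomial.C_injective h1
  · intro z
    obtain ⟨c, hc, hz⟩ := Groth.Agent.Lib.T2H6.ReesChart.exists_eq_mon I 0 z.1 z.2
    refine ⟨c, Subtype.ext ?_⟩
    rw [hz, Groth.Agent.Lib.T2H6.ReesChart.mon_zero_eq]
    rfl

theorem isProper_b (hI : I.FG) : IsProper (b I) := by
  haveI := isProper_toSpecZero I hI
  have h0 : IsIso (CommRingCat.ofHom (algebraMap A (Rees.deg (reesAlgebra I) 0)) :
      CommRingCat.of A ⟶ CommRingCat.of (Rees.deg (reesAlgebra I) 0)) := by
    rw [ConcreteCategory.isIso_iff_bijective]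
    exact bijective_algebraMap_zero I
  unfold b
  infer_instance

theorem isProper_of_isBlowUp_idl (hI : I.FG) {P : Scheme.{u}} (b' : P ⟶ Spec (CommRingCat.of A))
    (hb' : BlowUp.IsBlowUp b' (idl I)) : IsProper b' := by
  obtain ⟨ι, hι, hιb⟩ := exists_isIso_of_isBlowUp (idl I) b' hb' (b I) (isBlowUp_b I)
  haveI := isProper_b I hI
  rw [← hιb]
  infer_instance

end Affine

theorem isProper_of_isBlowUp_of_isAffine {P Z : Scheme.{u}} [IsAffine Z] (b : P ⟶ Z)
    (J : Z.IdealSheafData) (hJ : BlowUp.IsFiniteTypeIdeal J) (hb : BlowUp.IsBlowUp b J) :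
    IsProper b := by
  have hb₁ : BlowUp.IsBlowUp (b ≫ Z.isoSpec.hom) (J.comap Z.isoSpec.inv) :=
    isBlowUp_comp_iso b Z.isoSpec (J.comap Z.isoSpec.inv)
      (by rw [← comap_comp, Iso.hom_inv_id, comap_id]; exact hb)
  rw [Groth.Agent.Lib.T2H6.BlowUpMul.eq_idl Γ(Z, ⊤) (J.comap Z.isoSpec.inv)] at hb₁
  have hFG : (((J.comap Z.isoSpec.inv).ideal ⟨⊤, isAffineOpen_top _⟩).map
      (Scheme.ΓSpecIso Γ(Z, ⊤)).hom.hom).FG :=
    (Groth.Agent.Lib.T2H6.BlowUpFT.isFiniteTypeIdeal_comap Z.isoSpec.inv J hJ _).map _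
  have h1 := isProper_of_isBlowUp_idl (A := Γ(Z, ⊤)) _ hFG _ hb₁
  exact (MorphismProperty.cancel_right_of_respectsIso @IsProper b Z.isoSpec.hom).1 h1

/-- a blowing up in a finite type ideal sheaf is proper. -/
theorem isProper_of_isBlowUp {X X' : Scheme.{u}} (b : X' ⟶ X) (𝓘 : X.IdealSheafData)
    (h𝓘 : BlowUp.IsFiniteTypeIdeal 𝓘) (hb : BlowUp.IsBlowUp b 𝓘) : IsProper b := by
  apply IsZariskiLocalAtTarget.of_openCover (P := @IsProper) X.affineCover
  intro i
  have hpb : IsPullback (pullback.snd b (X.affineCover.f i)) (pullback.fst b (X.affineCover.f i))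
      (X.affineCover.f i) b := (IsPullback.of_hasPullback _ _).flip
  have hb' := isBlowUp_of_isPullback_of_isOpenImmersion b 𝓘 hb (X.affineCover.f i) _ _ hpb
  exact isProper_of_isBlowUp_of_isAffine _ _
    (Groth.Agent.Lib.T2H6.BlowUpFT.isFiniteTypeIdeal_comap _ 𝓘 h𝓘) hb'

end Groth.Agent.Lib.T2H6.BlowUpProper
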