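-- helper6 (team 2): finiteness properties of the ambient product of modulus pairs.
import Mathlib
import Groth.Prelude.Def_BlowUp2
import Groth.Prelude.Def_W4c6modpairsegaMP
import Groth.Agent.Lib.T2H6BlowUpProper
import Groth.Agent.Lib.T2H6BlowUpFT

set_option autoImplicit false
set_option backward.isDefEq.respectTransparency false
set_option backward.isDefEq.respectTransparency.types false
open CategoryTheory CategoryTheory.Limits AlgebraicGeometry

universe u

namespace Groth.Agent.Lib.T2H6.AmbProdProper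

open Scheme.IdealSheafData Groth.Agent.Lib.T2H6.BlowUpFT

theorem isFiniteTypeIdeal_of_isEffCartier {X : Scheme.{u}} (L : X.IdealSheafData)
    (h : BlowUp.IsEffCartierIdeal L) : BlowUp.IsFiniteTypeIdeal L := by
  choose U hyU t _ hLt using h
  apply isFiniteTypeIdeal_of_cover L U
  · rw [eq_top_iff]
    intro y _
    exact TopologicalSpace.Opens.mem_iSup.mpr ⟨y, hyU y⟩
  · intro y
    rw [hLt]
    exact ⟨{t y}, by simp⟩

theorem isFiniteTypeIdeal_sup {X : Scheme.{u}} (A B : X.IdealSheafData)
    (hA : BlowUp.IsFiniteTypeIdeal A) (hB : BlowUp.IsFiniteTypeIdeal B) :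
    BlowUp.IsFiniteTypeIdeal (A ⊔ B) := by
  intro U
  rw [ideal_sup]
  exact Submodule.FG.sup (hA U) (hB U)

theorem isFiniteTypeIdeal_prodCentre {S T X : Scheme.{u}} (J : T.IdealSheafData)
    (I : X.IdealSheafData) (hT : BlowUp.IsEffCartierIdeal J) (hX : BlowUp.IsEffCartierIdeal I)
    (f : X ⟶ S) (g : T ⟶ S) : BlowUp.IsFiniteTypeIdeal (ModPair.prodCentre f g I J) := by
  unfold ModPair.prodCentre
  exact isFiniteTypeIdeal_sup _ _
    (isFiniteTypeIdeal_comap _ I (isFiniteTypeIdeal_of_isEffCartier I hX))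
    (isFiniteTypeIdeal_comap _ J (isFiniteTypeIdeal_of_isEffCartier J hT))

theorem main {S T X Y : Scheme.{u}}
    (J : T.IdealSheafData) (I : X.IdealSheafData)
    (hT : BlowUp.IsEffCartierIdeal J) (hX : BlowUp.IsEffCartierIdeal I)
    (f : X ⟶ S) (g : T ⟶ S)
    (π : Y ⟶ ModPair.mprod f g I J) (K : Y.IdealSheafData) (hY : ModPair.IsAmbProd f g I J π K) :
    ((LocallyOfFiniteType f ∧ QuasiCompact f) →
        LocallyOfFiniteType (π ≫ ModPair.mprodι f g I J ≫ pullback.snd f g) ∧
          QuasiCompact (π ≫ ModPair.mprodι f g I J ≫ pullback.snd f g)) ∧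
      (UniversallyClosed f → UniversallyClosed (π ≫ ModPair.mprodι f g I J ≫ pullback.snd f g)) ∧
      (IsProper f → IsProper (π ≫ ModPair.mprodι f g I J ≫ pullback.snd f g)) := by
  haveI hπ : IsProper π := Groth.Agent.Lib.T2H6.BlowUpProper.isProper_of_isBlowUp π _
    (isFiniteTypeIdeal_prodCentre J I hT hX f g) hY.1
  haveI : IsClosedImmersion (ModPair.mprodι f g I J) := by
    unfold ModPair.mprodι
    infer_instance
  refine ⟨?_, ?_, ?_⟩
  · rintro ⟨h1, h2⟩
    exact ⟨inferInstance, inferInstance⟩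
  · intro h
    infer_instance
  · intro h
    infer_instance

end Groth.Agent.Lib.T2H6.AmbProdProper
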