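-- helper6 (team 2): the colon ideal sheaf `(M : L)` for `L` of finite type, and division of an
-- ideal sheaf by an effective Cartier ideal containing it.
import Mathlib
import Groth.Prelude.Def_BlowUp2
import Groth.Agent.Lib.T2H6AmbProdProper

set_option autoImplicit false
set_option backward.isDefEq.respectTransparency false
set_option backward.isDefEq.respectTransparency.types false
open CategoryTheory CategoryTheory.Limits AlgebraicGeometry

universe u

namespace Groth.Agent.Lib.T2H6.ColonIdeal

open Scheme.IdealSheafData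

section ring

variable {A B : Type*} [CommRing A] [CommRing B] [Algebra A B]

/-- the colon ideal by a finitely generated ideal commutes with localization at an element. -/
theorem colon_map_away (f : A) [IsLocalization.Away f B] (M L : Ideal A) (hL : L.FG) :
    (M.colon (L : Set A)).map (algebraMap A B) =
      (M.map (algebraMap A B)).colon ((L.map (algebraMap A B) : Ideal B) : Set B) := by
  apply le_antisymm
  · rw [Ideal.map_le_iff_le_comap]
    intro r hr
    rw [Ideal.mem_comap, Submodule.mem_colon]
    intro y hy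
    have hy' : y ∈ L.map (algebraMap A B) := hy
    rw [Ideal.map, ] at hy'
    refine Submodule.span_induction (p := fun y _ => algebraMap A B r • y ∈ M.map (algebraMap A B))
      ?_ ?_ ?_ ?_ hy'
    · rintro _ ⟨l, hl, rfl⟩
      rw [smul_eq_mul, ← map_mul]
      exact Ideal.mem_map_of_mem _ (Submodule.mem_colon.1 hr l hl)
    · rw [smul_zero]
      exact Submodule.zero_mem _
    · intro a b _ _ ha hb
      rw [smul_add]
      exact Submodule.add_mem _ ha hb
    · intro a b _ hb
      rw [smul_eq_mul, smul_eq_mul, mul_left_comm]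
      exact Ideal.mul_mem_left _ _ hb
  · intro z hz
    obtain ⟨s, hs⟩ := hL
    obtain ⟨⟨x, ⟨_, n, rfl⟩⟩, hx⟩ := IsLocalization.surj (Submonoid.powers f) z
    have hx' : z * algebraMap A B (f ^ n) = algebraMap A B x := hx
    -- each generator
    have key : ∀ l ∈ s, ∃ N : ℕ, f ^ N * (x * l) ∈ M := by
      intro l hl
      have h1 : algebraMap A B x * algebraMap A B l ∈ M.map (algebraMap A B) := by
        rw [← hx', mul_assoc, mul_comm (algebraMap A B (f ^ n)), ← mul_assoc]
        apply Ideal.mul_mem_right
        have := Submodule.mem_colon.1 hz (algebraMap A B l)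
          (Ideal.mem_map_of_mem _ (by rw [← hs]; exact Ideal.subset_span hl))
        rwa [smul_eq_mul] at this
      rw [← map_mul, IsLocalization.mem_map_algebraMap_iff (Submonoid.powers f)] at h1
      obtain ⟨⟨⟨m, hm⟩, ⟨_, k, rfl⟩⟩, h2⟩ := h1
      have h2' : algebraMap A B (x * l) * algebraMap A B (f ^ k) = algebraMap A B m := h2
      rw [← map_mul, IsLocalization.eq_iff_exists (Submonoid.powers f)] at h2'
      obtain ⟨⟨_, k', rfl⟩, h3⟩ := h2'
      have h3' : f ^ k' * (x * l * f ^ k) = f ^ k' * m := h3
      refine ⟨k' + k, ?_⟩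
      have : f ^ (k' + k) * (x * l) = f ^ k' * (x * l * f ^ k) := by ring
      rw [this, h3']
      exact Ideal.mul_mem_left _ _ hm
    have key' : ∀ l : A, ∃ N : ℕ, l ∈ s → f ^ N * (x * l) ∈ M := by
      intro l
      by_cases hl : l ∈ s
      · obtain ⟨N, hN⟩ := key l hl
        exact ⟨N, fun _ => hN⟩
      · exact ⟨0, fun h => absurd h hl⟩
    choose N hN using key'
    have hmem : f ^ (s.sum N) * x ∈ M.colon (L : Set A) := by
      rw [Submodule.mem_colon]
      intro l hl
      have hl' : l ∈ Ideal.span (s : Set A) := by rw [hs]; exact hl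
      refine Submodule.span_induction
        (p := fun l _ => (f ^ (s.sum N) * x) • l ∈ M) ?_ ?_ ?_ ?_ hl'
      · intro l hl
        have hle : N l ≤ s.sum N := Finset.single_le_sum (fun i _ => Nat.zero_le _) hl
        obtain ⟨d, hd⟩ := Nat.exists_eq_add_of_le hle
        rw [smul_eq_mul, hd, pow_add]
        have : f ^ N l * f ^ d * x * l = f ^ d * (f ^ N l * (x * l)) := by ring
        rw [this]
        exact Ideal.mul_mem_left _ _ (hN l hl)
      · rw [smul_zero]
        exact Submodule.zero_mem _
      · intro a b _ _ ha hb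
        rw [smul_add]
        exact Submodule.add_mem _ ha hb
      · intro a b _ hb
        rw [smul_eq_mul, smul_eq_mul, mul_left_comm]
        exact Ideal.mul_mem_left _ _ hb
    set Ntot := s.sum N with hNtot
    have hunit : IsUnit (algebraMap A B (f ^ (Ntot + n))) :=
      IsLocalization.map_units B (⟨f ^ (Ntot + n), Ntot + n, rfl⟩ : Submonoid.powers f)
    have hz2 : z * algebraMap A B (f ^ (Ntot + n)) = algebraMap A B (f ^ Ntot * x) := by
      rw [pow_add, map_mul, map_mul, mul_comm (algebraMap A B (f ^ Ntot)), ← mul_assoc, hx',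
        mul_comm]
    have hz3 : z = algebraMap A B (f ^ Ntot * x) * ↑hunit.unit⁻¹ := by
      rw [← hz2, mul_assoc]
      have : algebraMap A B (f ^ (Ntot + n)) * ↑hunit.unit⁻¹ = 1 := hunit.mul_val_inv
      rw [this, mul_one]
    rw [hz3]
    exact Ideal.mul_mem_right _ _ (Ideal.mem_map_of_mem _ hmem)

end ring

variable {X : Scheme.{u}}

/-- the colon ideal sheaf `(M : L)` for `L` of finite type. -/
def colonSheaf (M L : X.IdealSheafData) (hL : BlowUp.IsFiniteTypeIdeal L) : X.IdealSheafData where
  ideal U := (M.ideal U).colon (L.ideal U : Set Γ(X, U.1))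
  map_ideal_basicOpen U f := by
    haveI := U.2.isLocalization_basicOpen f
    rw [← M.map_ideal_basicOpen U f, ← L.map_ideal_basicOpen U f]
    exact colon_map_away f (M.ideal U) (L.ideal U) (hL U)

theorem colonSheaf_mul_le (M L : X.IdealSheafData) (hL : BlowUp.IsFiniteTypeIdeal L) :
    colonSheaf M L hL * L ≤ M := by
  intro U
  rw [ideal_mul]
  change (M.ideal U).colon (L.ideal U : Set Γ(X, U.1)) * L.ideal U ≤ M.ideal U
  rw [Ideal.mul_le]
  intro r hr l hl
  exact Submodule.mem_colon.1 hr l hl

/-- division by an effective Cartier ideal. -/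
theorem colonSheaf_mul_eq (M L : X.IdealSheafData) (hL : BlowUp.IsEffCartierIdeal L)
    (hML : M ≤ L) :
    colonSheaf M L (Groth.Agent.Lib.T2H6.AmbProdProper.isFiniteTypeIdeal_of_isEffCartier L hL) * L
      = M := by
  apply le_antisymm (colonSheaf_mul_le M L _)
  have hL' := hL
  choose W hxW t ht hLt using hL'
  refine le_of_iSup_eq_top W ?_ (fun x => ?_)
  · rw [eq_top_iff]
    intro y _
    exact TopologicalSpace.Opens.mem_iSup.2 ⟨y, hxW y⟩
  · intro m hm
    have hm' : m ∈ Ideal.span {t x} := by
      rw [← hLt x]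
      exact hML (W x) hm
    obtain ⟨y, rfl⟩ := Ideal.mem_span_singleton'.1 hm'
    rw [ideal_mul]
    change y * t x ∈ (M.ideal (W x)).colon (L.ideal (W x) : Set Γ(X, (W x).1)) * L.ideal (W x)
    apply Ideal.mul_mem_mul
    · rw [Submodule.mem_colon]
      intro l hl
      have hl' : l ∈ Ideal.span {t x} := by
        rw [← hLt x]
        exact hl
      obtain ⟨a, rfl⟩ := Ideal.mem_span_singleton'.1 hl'
      rw [smul_eq_mul]
      have : y * (a * t x) = a * (y * t x) := by ring
      rw [this]
      exact Ideal.mul_mem_left _ _ hm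
    · rw [hLt x]
      exact Ideal.subset_span (Set.mem_singleton _)

/-- an ideal sheaf contained in an effective Cartier ideal is a multiple of it. -/
theorem exists_mul_eq (M L : X.IdealSheafData) (hL : BlowUp.IsEffCartierIdeal L) (hML : M ≤ L) :
    ∃ K : X.IdealSheafData, K * L = M :=
  ⟨_, colonSheaf_mul_eq M L hL hML⟩

end Groth.Agent.Lib.T2H6.ColonIdeal
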