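-- helper6 (team 2): the modulus `D_X + D_T - E` of an ambient product is effective Cartier.
import Mathlib
import Groth.Prelude.Def_BlowUp2
import Groth.Prelude.Def_W4c6modpairsegaMP
import Groth.Agent.Lib.Helper20BlowUp
import Groth.Agent.Lib.T2H6ModulusClosure
import Groth.Agent.Lib.T2H6ModulusLift

set_option autoImplicit false
set_option backward.isDefEq.respectTransparency false
set_option backward.isDefEq.respectTransparency.types false
open CategoryTheory CategoryTheory.Limits AlgebraicGeometry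

universe u

namespace Groth.Agent.Lib.T2H6.ModulusAmb

open nonZeroDivisors Groth.Agent.Lib.T2H6.ModulusClosure Groth.Agent.Lib.T2H6.ModulusLift
open Groth.Agent.Lib.T2H6.ModulusProd

/-- Three effective Cartier ideals have common local generators. -/
theorem exists_gens₃ {Y : Scheme.{u}} (A B C : Y.IdealSheafData)
    (hA : BlowUp.IsEffCartierIdeal A) (hB : BlowUp.IsEffCartierIdeal B)
    (hC : BlowUp.IsEffCartierIdeal C) (y : Y) :
    ∃ (Y' : Y.affineOpens) (a b c : Γ(Y, Y'.1)), y ∈ Y'.1 ∧ a ∈ Γ(Y, Y'.1)⁰ ∧ b ∈ Γ(Y, Y'.1)⁰ ∧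
      c ∈ Γ(Y, Y'.1)⁰ ∧ A.ideal Y' = Ideal.span {a} ∧ B.ideal Y' = Ideal.span {b} ∧
      C.ideal Y' = Ideal.span {c} := by
  obtain ⟨U₁, hU₁, hy₁, -, a₁, -, hA₁⟩ :=
    Groth.Agent.Lib.Helper20.EffCartier.exists_le_of_isEffCartierIdeal hA y ⊤ trivial
  obtain ⟨U₂, hU₂, hy₂, h₂₁, b₂, -, hB₂⟩ :=
    Groth.Agent.Lib.Helper20.EffCartier.exists_le_of_isEffCartierIdeal hB y U₁ hy₁
  obtain ⟨U₃, hU₃, hy₃, h₃₂, c₃, hc₃, hC₃⟩ :=
    Groth.Agent.Lib.Helper20.EffCartier.exists_le_of_isEffCartierIdeal hC y U₂ hy₂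
  have eA : A.ideal ⟨U₃, hU₃⟩ =
      Ideal.span {(Y.presheaf.map (homOfLE (h₃₂.trans h₂₁)).op).hom a₁} := by
    rw [← A.map_ideal (U := ⟨U₃, hU₃⟩) (V := ⟨U₁, hU₁⟩) (h₃₂.trans h₂₁), hA₁, Ideal.map_span,
      Set.image_singleton]
    rfl
  have eB : B.ideal ⟨U₃, hU₃⟩ = Ideal.span {(Y.presheaf.map (homOfLE h₃₂).op).hom b₂} := by
    rw [← B.map_ideal (U := ⟨U₃, hU₃⟩) (V := ⟨U₂, hU₂⟩) h₃₂, hB₂, Ideal.map_span,
      Set.image_singleton]
    rfl
  exact ⟨⟨U₃, hU₃⟩, _, _, c₃, hy₃, mem_nonZeroDivisors_of_ideal_eq A hA _ _ eA,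
    mem_nonZeroDivisors_of_ideal_eq B hB _ _ eB, hc₃, eA, eB, hC₃⟩

/-- The local algebra: `(e) = (x) ⊔ (t)`, `K (e) = (x)(t)`, with `e` a nonzerodivisor. -/
theorem local_algebra {R : Type*} [CommRing R] (x t e : R) (he : e ∈ R⁰)
    (K : Ideal R) (hsup : Ideal.span {e} = Ideal.span {x} ⊔ Ideal.span {t})
    (hK : K * Ideal.span {e} = Ideal.span {x} * Ideal.span {t}) :
    ∃ k : R, K = Ideal.span {k} ∧ k * e = x * t ∧ k ∈ Ideal.span {x} ∧ k ∈ Ideal.span {t} := by
  have hx : x ∈ Ideal.span {e} := by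
    rw [hsup]
    exact Ideal.mem_sup_left (Ideal.subset_span (Set.mem_singleton _))
  have ht : t ∈ Ideal.span {e} := by
    rw [hsup]
    exact Ideal.mem_sup_right (Ideal.subset_span (Set.mem_singleton _))
  obtain ⟨a, ha⟩ := Ideal.mem_span_singleton'.1 hx
  obtain ⟨b, hb⟩ := Ideal.mem_span_singleton'.1 ht
  have hcancel : ∀ r s : R, r * e = s * e → r = s := by
    intro r s h
    have := (mem_nonZeroDivisors_iff_right.1 he) (r - s) (by rw [sub_mul, h, sub_self])
    exact sub_eq_zero.1 this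
  refine ⟨a * b * e, ?_, ?_, ?_, ?_⟩
  · apply le_antisymm
    · intro k hk
      have h1 : k * e ∈ K * Ideal.span {e} :=
        Ideal.mul_mem_mul hk (Ideal.subset_span (Set.mem_singleton _))
      rw [hK, Ideal.span_singleton_mul_span_singleton, Ideal.mem_span_singleton'] at h1
      obtain ⟨c, hc⟩ := h1
      rw [Ideal.mem_span_singleton']
      refine ⟨c, hcancel _ _ ?_⟩
      rw [← hc, ← ha, ← hb]
      ring
    · rw [Ideal.span_singleton_le_iff_mem]
      have h1 : x * t ∈ K * Ideal.span {e} := by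
        rw [hK, Ideal.span_singleton_mul_span_singleton]
        exact Ideal.subset_span (Set.mem_singleton _)
      rw [Ideal.mem_mul_span_singleton] at h1
      obtain ⟨z, hz, hze⟩ := h1
      have : z = a * b * e := hcancel _ _ (by rw [hze, ← ha, ← hb]; ring)
      rwa [← this]
  · rw [← ha, ← hb]
    ring
  · rw [Ideal.mem_span_singleton', ← ha]
    exact ⟨b, by ring⟩
  · rw [Ideal.mem_span_singleton', ← hb]
    exact ⟨a, by ring⟩

theorem mem_interior_iff {Y : Scheme.{u}} (L : Y.IdealSheafData) (Y' : Y.affineOpens)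
    (l : Γ(Y, Y'.1)) (hL : L.ideal Y' = Ideal.span {l}) (y : Y) (hy : y ∈ Y'.1) :
    y ∈ ModPair.interior L ↔ y ∈ Y.basicOpen l := by
  rw [← interior_inf L Y' l hL]
  exact ⟨fun h => ⟨h, hy⟩, fun h => h.1⟩

theorem isAmbProd_main {S T X Y : Scheme.{u}}
    (J : T.IdealSheafData) (I : X.IdealSheafData)
    (hT : BlowUp.IsEffCartierIdeal J) (hX : BlowUp.IsEffCartierIdeal I)
    (f : X ⟶ S) (g : T ⟶ S)
    (π : Y ⟶ ModPair.mprod f g I J) (K : Y.IdealSheafData) (hY : ModPair.IsAmbProd f g I J π K) :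
    BlowUp.IsEffCartierIdeal K ∧
      ModPair.IsAmbient K I (π ≫ ModPair.mprodι f g I J ≫ pullback.fst f g) ∧
      ModPair.IsAmbient K J (π ≫ ModPair.mprodι f g I J ≫ pullback.snd f g) ∧
      ModPair.interior K = (π ≫ ModPair.mprodι f g I J) ⁻¹ᵁ ModPair.prodInterior f g I J := by
  obtain ⟨hbl, hKE⟩ := hY
  have hI' := (isEffCartierIdeal_comap_mprodι I J hX hT f g).1
  have hJ' := (isEffCartierIdeal_comap_mprodι I J hX hT f g).2
  have hE : BlowUp.IsEffCartierIdeal ((ModPair.prodCentre f g I J).comap π) := hbl.1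
  have hI'' := Groth.Agent.Lib.Helper20.BlowUpBasic.isEffCartierIdeal_comap _ π hbl _ hI'
  have hJ'' := Groth.Agent.Lib.Helper20.BlowUpBasic.isEffCartierIdeal_comap _ π hbl _ hJ'
  have hsupE : (ModPair.prodCentre f g I J).comap π =
      (I.comap (ModPair.mprodι f g I J ≫ pullback.fst f g)).comap π ⊔
        (J.comap (ModPair.mprodι f g I J ≫ pullback.snd f g)).comap π := by
    unfold ModPair.prodCentre
    rw [Scheme.IdealSheafData.comap_sup]
  have key : ∀ y : Y, ∃ (Y' : Y.affineOpens) (x t e k : Γ(Y, Y'.1)), y ∈ Y'.1 ∧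
      e ∈ Γ(Y, Y'.1)⁰ ∧ x ∈ Γ(Y, Y'.1)⁰ ∧ t ∈ Γ(Y, Y'.1)⁰ ∧
      ((I.comap (ModPair.mprodι f g I J ≫ pullback.fst f g)).comap π).ideal Y' = Ideal.span {x} ∧
      ((J.comap (ModPair.mprodι f g I J ≫ pullback.snd f g)).comap π).ideal Y' = Ideal.span {t} ∧
      K.ideal Y' = Ideal.span {k} ∧ k * e = x * t ∧ k ∈ Ideal.span {x} ∧ k ∈ Ideal.span {t} := by
    intro y
    obtain ⟨Y', x, t, e, hy, hx, ht, he, eI, eJ, eE⟩ := exists_gens₃ _ _ _ hI'' hJ'' hE y
    have hsup : Ideal.span {e} = Ideal.span {x} ⊔ Ideal.span {t} := by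
      rw [← eE, hsupE, ← eI, ← eJ]
      rfl
    have hK' : K.ideal Y' * Ideal.span {e} = Ideal.span {x} * Ideal.span {t} := by
      have := congrArg (fun L => L.ideal Y') hKE
      simp only [Scheme.IdealSheafData.ideal_mul, Pi.mul_apply] at this
      rw [← eE, ← eI, ← eJ]
      exact this
    obtain ⟨k, hk1, hk2, hk3, hk4⟩ := local_algebra x t e he _ hsup hK'
    exact ⟨Y', x, t, e, k, hy, he, hx, ht, eI, eJ, hk1, hk2, hk3, hk4⟩
  choose Y' x t e k hy he hx ht eI eJ eK hke hkx hkt using key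
  have hcov : ⨆ y, (Y' y).1 = ⊤ := by
    rw [eq_top_iff]
    intro y _
    exact TopologicalSpace.Opens.mem_iSup.2 ⟨y, hy y⟩
  refine ⟨?_, ?_, ?_, ?_⟩
  · intro y
    refine ⟨Y' y, hy y, k y, ?_, eK y⟩
    have h1 : e y * k y ∈ Γ(Y, (Y' y).1)⁰ := by
      rw [mul_comm, hke]
      exact mul_mem (hx y) (ht y)
    exact mem_nonZeroDivisors_of_mul h1
  · change K ≤ I.comap (π ≫ ModPair.mprodι f g I J ≫ pullback.fst f g)
    rw [Scheme.IdealSheafData.comap_comp]
    refine Scheme.IdealSheafData.le_of_iSup_eq_top Y' hcov (fun y => ?_)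
    rw [eK y, eI y, Ideal.span_singleton_le_iff_mem]
    exact hkx y
  · change K ≤ J.comap (π ≫ ModPair.mprodι f g I J ≫ pullback.snd f g)
    rw [Scheme.IdealSheafData.comap_comp]
    refine Scheme.IdealSheafData.le_of_iSup_eq_top Y' hcov (fun y => ?_)
    rw [eK y, eJ y, Ideal.span_singleton_le_iff_mem]
    exact hkt y
  · ext y
    have h1 : y ∈ ((π ≫ ModPair.mprodι f g I J) ⁻¹ᵁ ModPair.prodInterior f g I J) ↔
        y ∈ ModPair.interior ((I.comap (ModPair.mprodι f g I J ≫ pullback.fst f g)).comap π) ∧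
        y ∈ ModPair.interior ((J.comap (ModPair.mprodι f g I J ≫ pullback.snd f g)).comap π) := by
      rw [interior_comap, interior_comap, interior_comap, interior_comap]
      rfl
    change y ∈ ModPair.interior K ↔
      y ∈ ((π ≫ ModPair.mprodι f g I J) ⁻¹ᵁ ModPair.prodInterior f g I J)
    rw [h1, mem_interior_iff K (Y' y) (k y) (eK y) y (hy y),
      mem_interior_iff _ (Y' y) (x y) (eI y) y (hy y),
      mem_interior_iff _ (Y' y) (t y) (eJ y) y (hy y)]
    constructor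
    · intro hk
      obtain ⟨c, hc⟩ := Ideal.mem_span_singleton'.1 (hkx y)
      obtain ⟨d, hd⟩ := Ideal.mem_span_singleton'.1 (hkt y)
      constructor
      · rw [← hc, Scheme.basicOpen_mul] at hk
        exact hk.2
      · rw [← hd, Scheme.basicOpen_mul] at hk
        exact hk.2
    · rintro ⟨h2, h3⟩
      have h4 : y ∈ Y.basicOpen (x y * t y) := by
        rw [Scheme.basicOpen_mul]
        exact ⟨h2, h3⟩
      rw [← hke y, Scheme.basicOpen_mul] at h4
      exact h4.1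

end Groth.Agent.Lib.T2H6.ModulusAmb
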