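-- helper6 (team 2): functoriality of the ambient product of modulus pairs in the base.
import Mathlib
import Groth.Prelude.Def_BlowUp2
import Groth.Prelude.Def_W4c6modpairsegaMP
import Groth.Agent.Lib.Helper20BlowUp
import Groth.Agent.Lib.T2H6ModulusClosure
import Groth.Agent.Lib.T2H6ModulusLift
import Groth.Agent.Lib.T2H6ModulusAmb

set_option autoImplicit false
set_option backward.isDefEq.respectTransparency false
set_option backward.isDefEq.respectTransparency.types false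
open CategoryTheory CategoryTheory.Limits AlgebraicGeometry

universe u

namespace Groth.Agent.Lib.T2H6.ModulusFun

open nonZeroDivisors Groth.Agent.Lib.T2H6.ModulusClosure Groth.Agent.Lib.T2H6.ModulusLift
open Groth.Agent.Lib.T2H6.ModulusProd Groth.Agent.Lib.T2H6.ModulusAmb

/-- The inverse image of ideal sheaves is multiplicative. -/
theorem comap_mul {Y₁ Y₀ : Scheme.{u}} (φ : Y₁ ⟶ Y₀) (A B : Y₀.IdealSheafData) :
    (A * B).comap φ = A.comap φ * B.comap φ := by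
  have key : ∀ y : Y₁, ∃ (U : Y₁.affineOpens), y ∈ U.1 ∧
      ((A * B).comap φ).ideal U = (A.comap φ * B.comap φ).ideal U := by
    intro y
    obtain ⟨V, hV, hyV, -⟩ := exists_isAffineOpen_mem_and_subset
      (x := φ y) (U := (⊤ : Y₀.Opens)) trivial
    obtain ⟨U, hU, hyU, hUV⟩ := exists_isAffineOpen_mem_and_subset
      (x := y) (U := φ ⁻¹ᵁ V) hyV
    refine ⟨⟨U, hU⟩, hyU, ?_⟩
    have hUV' : U ≤ φ ⁻¹ᵁ V := hUV
    rw [Groth.Agent.Lib.Helper20.EffCartier.ideal_comap_eq_map φ (A * B) hU hV hUV']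
    simp only [Scheme.IdealSheafData.ideal_mul, Pi.mul_apply]
    rw [Groth.Agent.Lib.Helper20.EffCartier.ideal_comap_eq_map φ A hU hV hUV',
      Groth.Agent.Lib.Helper20.EffCartier.ideal_comap_eq_map φ B hU hV hUV', Ideal.map_mul]
  choose U hy hU using key
  refine Scheme.IdealSheafData.ext_of_iSup_eq_top U ?_ hU
  rw [eq_top_iff]
  intro y _
  exact TopologicalSpace.Opens.mem_iSup.2 ⟨y, hy y⟩

/-- Cancellation of an effective Cartier ideal. -/
theorem mul_right_cancel_effCartier {Y : Scheme.{u}} (A B E : Y.IdealSheafData)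
    (hE : BlowUp.IsEffCartierIdeal E) (h : A * E = B * E) : A = B := by
  have key : ∀ y : Y, ∃ (U : Y.affineOpens), y ∈ U.1 ∧ A.ideal U = B.ideal U := by
    intro y
    obtain ⟨U, hyU, e, he, hEe⟩ := hE y
    refine ⟨U, hyU, ?_⟩
    have h1 := congrArg (fun L => L.ideal U) h
    simp only [Scheme.IdealSheafData.ideal_mul, Pi.mul_apply] at h1
    rw [hEe] at h1
    have aux : ∀ A' B' : Ideal Γ(Y, U.1), A' * Ideal.span {e} = B' * Ideal.span {e} →
        A' ≤ B' := by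
      intro A' B' h2 a ha
      have h3 : a * e ∈ B' * Ideal.span {e} := by
        rw [← h2]
        exact Ideal.mul_mem_mul ha (Ideal.subset_span (Set.mem_singleton _))
      rw [Ideal.mem_mul_span_singleton] at h3
      obtain ⟨b, hb, hbe⟩ := h3
      have : b = a := by
        have := (mem_nonZeroDivisors_iff_right.1 he) (b - a) (by rw [sub_mul, hbe, sub_self])
        exact sub_eq_zero.1 this
      rwa [← this]
    exact le_antisymm (aux _ _ h1) (aux _ _ h1.symm)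
  choose U hy hU using key
  refine Scheme.IdealSheafData.ext_of_iSup_eq_top U ?_ hU
  rw [eq_top_iff]
  intro y _
  exact TopologicalSpace.Opens.mem_iSup.2 ⟨y, hy y⟩

theorem ambProd_functorial {S₀ S₁ T X Y₁ Y₀ : Scheme.{u}}
    (J : T.IdealSheafData) (I : X.IdealSheafData)
    (hT : BlowUp.IsEffCartierIdeal J) (hX : BlowUp.IsEffCartierIdeal I)
    (f : X ⟶ S₁) (g : T ⟶ S₁) (σ : S₁ ⟶ S₀)
    (π₁ : Y₁ ⟶ ModPair.mprod f g I J) (K₁ : Y₁.IdealSheafData)
    (hY₁ : ModPair.IsAmbProd f g I J π₁ K₁)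
    (π₀ : Y₀ ⟶ ModPair.mprod (f ≫ σ) (g ≫ σ) I J) (K₀ : Y₀.IdealSheafData)
    (hY₀ : ModPair.IsAmbProd (f ≫ σ) (g ≫ σ) I J π₀ K₀) :
    (∃! φ : Y₁ ⟶ Y₀, φ ≫ π₀ ≫ ModPair.mprodι (f ≫ σ) (g ≫ σ) I J =
        π₁ ≫ ModPair.mprodι f g I J ≫ pullback.mapDesc f g σ) ∧
      ∀ φ : Y₁ ⟶ Y₀, φ ≫ π₀ ≫ ModPair.mprodι (f ≫ σ) (g ≫ σ) I J =
          π₁ ≫ ModPair.mprodι f g I J ≫ pullback.mapDesc f g σ →
        ModPair.IsMinimal K₁ K₀ φ := by
  have hm1 : pullback.mapDesc f g σ ≫ pullback.fst (f ≫ σ) (g ≫ σ) = pullback.fst f g := by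
    simp
  have hm2 : pullback.mapDesc f g σ ≫ pullback.snd (f ≫ σ) (g ≫ σ) = pullback.snd f g := by
    simp
  obtain ⟨hK₁, -, -, hint₁⟩ := isAmbProd_main J I hT hX f g π₁ K₁ hY₁
  have hint : ModPair.interior K₁ ≤
      (π₁ ≫ ModPair.mprodι f g I J ≫ pullback.mapDesc f g σ) ⁻¹ᵁ
        ModPair.prodInterior (f ≫ σ) (g ≫ σ) I J := by
    rw [hint₁]
    intro y hy
    have hy1 : (pullback.fst f g) ((π₁ ≫ ModPair.mprodι f g I J) y) ∈ ModPair.interior I := hy.1
    have hy2 : (pullback.snd f g) ((π₁ ≫ ModPair.mprodι f g I J) y) ∈ ModPair.interior J := hy.2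
    constructor
    · change (pullback.fst (f ≫ σ) (g ≫ σ))
        ((π₁ ≫ ModPair.mprodι f g I J ≫ pullback.mapDesc f g σ) y) ∈ ModPair.interior I
      rw [← Scheme.Hom.comp_apply, Category.assoc, Category.assoc, hm1, ← Category.assoc,
        Scheme.Hom.comp_apply]
      exact hy1
    · change (pullback.snd (f ≫ σ) (g ≫ σ))
        ((π₁ ≫ ModPair.mprodι f g I J ≫ pullback.mapDesc f g σ) y) ∈ ModPair.interior J
      rw [← Scheme.Hom.comp_apply, Category.assoc, Category.assoc, hm2, ← Category.assoc,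
        Scheme.Hom.comp_apply]
      exact hy2
  obtain ⟨c, hc⟩ := exists_lift_imageι K₁ hK₁ (ModPair.prodInterior (f ≫ σ) (g ≫ σ) I J)
    (π₁ ≫ ModPair.mprodι f g I J ≫ pullback.mapDesc f g σ) hint
  have hc' : c ≫ ModPair.mprodι (f ≫ σ) (g ≫ σ) I J =
      π₁ ≫ ModPair.mprodι f g I J ≫ pullback.mapDesc f g σ := hc
  have hcfst : c ≫ ModPair.mprodι (f ≫ σ) (g ≫ σ) I J ≫ pullback.fst (f ≫ σ) (g ≫ σ) =
      π₁ ≫ ModPair.mprodι f g I J ≫ pullback.fst f g := by
    rw [← Category.assoc, hc', Category.assoc, Category.assoc, hm1]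
  have hcsnd : c ≫ ModPair.mprodι (f ≫ σ) (g ≫ σ) I J ≫ pullback.snd (f ≫ σ) (g ≫ σ) =
      π₁ ≫ ModPair.mprodι f g I J ≫ pullback.snd f g := by
    rw [← Category.assoc, hc', Category.assoc, Category.assoc, hm2]
  have hCc : (ModPair.prodCentre (f ≫ σ) (g ≫ σ) I J).comap c =
      (ModPair.prodCentre f g I J).comap π₁ := by
    unfold ModPair.prodCentre
    rw [Scheme.IdealSheafData.comap_sup, Scheme.IdealSheafData.comap_sup,
      ← Scheme.IdealSheafData.comap_comp, ← Scheme.IdealSheafData.comap_comp,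
      ← Scheme.IdealSheafData.comap_comp, ← Scheme.IdealSheafData.comap_comp, hcfst, hcsnd]
  obtain ⟨hbl₁, hKE₁⟩ := hY₁
  obtain ⟨hbl₀, hKE₀⟩ := hY₀
  have hEc : BlowUp.IsEffCartierIdeal ((ModPair.prodCentre (f ≫ σ) (g ≫ σ) I J).comap c) := by
    rw [hCc]
    exact hbl₁.1
  obtain ⟨φ, hφ, hφuniq⟩ := hbl₀.2 Y₁ c hEc
  constructor
  · refine ⟨φ, ?_, ?_⟩
    · change φ ≫ π₀ ≫ ModPair.mprodι (f ≫ σ) (g ≫ σ) I J = _
      rw [← Category.assoc, hφ, hc']
    · intro φ' hφ'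
      apply hφuniq
      rw [← cancel_mono (ModPair.mprodι (f ≫ σ) (g ≫ σ) I J), Category.assoc, hφ', hc']
  · intro φ' hφ'
    have hφ'c : φ' ≫ π₀ = c := by
      rw [← cancel_mono (ModPair.mprodι (f ≫ σ) (g ≫ σ) I J), Category.assoc, hφ', hc']
    change K₁ = K₀.comap φ'
    apply mul_right_cancel_effCartier _ _ ((ModPair.prodCentre f g I J).comap π₁) hbl₁.1
    rw [hKE₁]
    have h1 := congrArg (fun L => L.comap φ') hKE₀
    simp only [comap_mul] at h1
    have eA : ((ModPair.prodCentre (f ≫ σ) (g ≫ σ) I J).comap π₀).comap φ' =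
        (ModPair.prodCentre f g I J).comap π₁ := by
      rw [← Scheme.IdealSheafData.comap_comp, hφ'c, hCc]
    have eB : ((I.comap (ModPair.mprodι (f ≫ σ) (g ≫ σ) I J ≫
        pullback.fst (f ≫ σ) (g ≫ σ))).comap π₀).comap φ' =
        (I.comap (ModPair.mprodι f g I J ≫ pullback.fst f g)).comap π₁ := by
      calc _ = I.comap ((φ' ≫ π₀) ≫ ModPair.mprodι (f ≫ σ) (g ≫ σ) I J ≫
            pullback.fst (f ≫ σ) (g ≫ σ)) := by
            rw [← Scheme.IdealSheafData.comap_comp, ← Scheme.IdealSheafData.comap_comp]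
        _ = I.comap (π₁ ≫ ModPair.mprodι f g I J ≫ pullback.fst f g) := by rw [hφ'c, hcfst]
        _ = _ := Scheme.IdealSheafData.comap_comp I π₁ _
    have eC : ((J.comap (ModPair.mprodι (f ≫ σ) (g ≫ σ) I J ≫
        pullback.snd (f ≫ σ) (g ≫ σ))).comap π₀).comap φ' =
        (J.comap (ModPair.mprodι f g I J ≫ pullback.snd f g)).comap π₁ := by
      calc _ = J.comap ((φ' ≫ π₀) ≫ ModPair.mprodι (f ≫ σ) (g ≫ σ) I J ≫
            pullback.snd (f ≫ σ) (g ≫ σ)) := by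
            rw [← Scheme.IdealSheafData.comap_comp, ← Scheme.IdealSheafData.comap_comp]
        _ = J.comap (π₁ ≫ ModPair.mprodι f g I J ≫ pullback.snd f g) := by rw [hφ'c, hcsnd]
        _ = _ := Scheme.IdealSheafData.comap_comp J π₁ _
    rw [eA, eB, eC] at h1
    exact h1.symm

end Groth.Agent.Lib.T2H6.ModulusFun
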