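-- helper6 (team 2): blowing up separates the closures of two sets (a step of Nagata compactification).
import Mathlib
import Groth.Prelude.Def_BlowUp2
import Groth.Agent.Lib.Helper14FtPts
import Groth.Agent.Lib.T2H6ColonIdeal
import Groth.Agent.Lib.T2H6BlowUpFT
import Groth.Agent.Lib.T2H6ModulusFun

set_option autoImplicit false
set_option backward.isDefEq.respectTransparency false
set_option backward.isDefEq.respectTransparency.types false
open CategoryTheory CategoryTheory.Limits AlgebraicGeometry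

universe u

namespace Groth.Agent.Lib.T2H6.BlowUpSeparate

open Scheme.IdealSheafData

/-- Nakayama: if `A ≤ K * A ⊔ G` with `A` of finite type, then near a point of the support of `K`
the support of `G` lies in the support of `A`. -/
theorem exists_nbhd_support_subset {Y : Scheme.{u}} (A K G : Y.IdealSheafData)
    (hA : BlowUp.IsFiniteTypeIdeal A) (hle : A ≤ K * A ⊔ G) (z : Y) (hz : z ∈ K.support) :
    ∃ N : Y.Opens, z ∈ N ∧ ∀ y ∈ N, y ∈ G.support → y ∈ A.support := by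
  obtain ⟨_, ⟨C, hC, rfl⟩, hzC, -⟩ :=
    Y.isBasis_affineOpens.exists_subset_of_mem_open (Set.mem_univ z) isOpen_univ
  have hle' : A.ideal ⟨C, hC⟩ ≤ K.ideal ⟨C, hC⟩ * A.ideal ⟨C, hC⟩ ⊔ G.ideal ⟨C, hC⟩ := hle ⟨C, hC⟩
  let N : Submodule Γ(Y, C) (Γ(Y, C) ⧸ G.ideal ⟨C, hC⟩) :=
    Submodule.map (Submodule.mkQ (G.ideal ⟨C, hC⟩)) (A.ideal ⟨C, hC⟩)
  have hNfg : N.FG := Submodule.FG.map _ (hA ⟨C, hC⟩)
  have hN : N ≤ K.ideal ⟨C, hC⟩ • N := by
    rintro _ ⟨a, ha, rfl⟩
    obtain ⟨b, hb, g, hg, rfl⟩ := Submodule.mem_sup.1 (hle' ha)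
    rw [map_add]
    have hg0 : (G.ideal ⟨C, hC⟩).mkQ g = 0 := (Submodule.Quotient.mk_eq_zero _).2 hg
    rw [hg0, add_zero]
    refine Submodule.mul_induction_on hb ?_ ?_
    · intro k hk a' ha'
      have : (G.ideal ⟨C, hC⟩).mkQ (k * a') = k • (G.ideal ⟨C, hC⟩).mkQ a' := by
        rw [← smul_eq_mul, map_smul]
      rw [this]
      exact Submodule.smul_mem_smul hk ⟨a', ha', rfl⟩
    · intro x y hx hy
      rw [map_add]
      exact add_mem hx hy
  obtain ⟨r, hr1, hr2⟩ := Submodule.exists_sub_one_mem_and_smul_eq_zero_of_fg_of_le_smul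
    (K.ideal ⟨C, hC⟩) N hNfg hN
  have hrA : ∀ a ∈ A.ideal ⟨C, hC⟩, r * a ∈ G.ideal ⟨C, hC⟩ := by
    intro a ha
    have h1 := hr2 _ ⟨a, ha, rfl⟩
    rw [← map_smul, smul_eq_mul] at h1
    exact (Submodule.Quotient.mk_eq_zero _).1 h1
  have hzK : ∀ k ∈ K.ideal ⟨C, hC⟩, z ∉ Y.basicOpen k := by
    have h1 := (mem_support_iff_of_mem (U := ⟨C, hC⟩) hzC).1 hz
    rw [Scheme.mem_zeroLocus_iff] at h1
    exact h1
  have hrz : z ∈ Y.basicOpen r := by
    rw [Groth.Agent.Lib.Helper14.mem_basicOpen_iff_notMem_primeIdealOf hC z hzC]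
    intro hr
    have h1 : r - 1 ∈ (hC.primeIdealOf ⟨z, hzC⟩).asIdeal := by
      have h2 := hzK _ hr1
      rw [Groth.Agent.Lib.Helper14.mem_basicOpen_iff_notMem_primeIdealOf hC z hzC, not_not] at h2
      exact h2
    have h3 : (1 : Γ(Y, C)) ∈ (hC.primeIdealOf ⟨z, hzC⟩).asIdeal := by
      have h4 := Ideal.sub_mem _ hr h1
      simpa using h4
    exact (hC.primeIdealOf ⟨z, hzC⟩).2.ne_top ((Ideal.eq_top_iff_one _).2 h3)
  refine ⟨Y.basicOpen r, hrz, fun y hy hyG => ?_⟩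
  have hyC : y ∈ C := Y.basicOpen_le r hy
  rw [mem_support_iff_of_mem (U := ⟨C, hC⟩) hyC, Scheme.mem_zeroLocus_iff] at hyG ⊢
  intro a ha hya
  have h5 : y ∈ Y.basicOpen (r * a) := by
    rw [Scheme.basicOpen_mul]
    exact ⟨hy, hya⟩
  exact hyG _ (hrA a ha) h5

theorem mem_support_comap {X Y : Scheme.{u}} (I : Y.IdealSheafData) (f : X ⟶ Y) (x : X) :
    x ∈ (I.comap f).support ↔ f x ∈ I.support := by
  rw [support_comap]
  rfl

theorem main {X Z : Scheme.{u}} (p : Z ⟶ X) (X₀ : X.Opens) (F : TopologicalSpace.Closeds X)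
    (G : TopologicalSpace.Closeds Z)
    (𝔞 : X.IdealSheafData) (h₁ : Disjoint (𝔞.support : Set X) (X₀ : Set X))
    (h₂ : vanishingIdeal F ≤ 𝔞)
    (h₃ : 𝔞 ≤ (((vanishingIdeal F).comap p ⊔ vanishingIdeal G).subschemeι ≫ p).ker)
    {X' : Scheme.{u}} (π : X' ⟶ X) (hπ : BlowUp.IsEffCartierIdeal (𝔞.comap π)) :
    (pullback.snd p π).base ⁻¹' closure (π.base ⁻¹' ((F : Set X) ∩ (X₀ : Set X))) ∩
      closure ((pullback.fst p π).base ⁻¹' ((G : Set Z) ∩ (p ⁻¹ᵁ X₀ : Set Z))) = ∅ := by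
  have hML : (vanishingIdeal F).comap π ≤ 𝔞.comap π := comap_mono π h₂
  obtain ⟨K, hK⟩ := Groth.Agent.Lib.T2H6.ColonIdeal.exists_mul_eq _ _ hπ hML
  have h1 : closure (π.base ⁻¹' ((F : Set X) ∩ (X₀ : Set X))) ⊆ (K.support : Set X') := by
    apply closure_minimal _ K.support.isClosed
    rintro x' ⟨hxF, hx0⟩
    have hxM : x' ∈ ((vanishingIdeal F).comap π).support := by
      rw [mem_support_comap, ← SetLike.mem_coe, coe_support_vanishingIdeal]
      exact hxF
    rw [← hK, support_mul] at hxM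
    rcases hxM with h | h
    · exact h
    · exfalso
      have h' : π x' ∈ 𝔞.support := (mem_support_comap 𝔞 π x').1 h
      exact Set.disjoint_left.1 h₁ h' hx0
  have h2 : 𝔞.comap p ≤ (vanishingIdeal F).comap p ⊔ vanishingIdeal G :=
    le_map_iff_comap_le.1 h₃
  have e1 : (𝔞.comap π).comap (pullback.snd p π) = (𝔞.comap p).comap (pullback.fst p π) := by
    rw [← comap_comp, ← comap_comp, pullback.condition]
  have e2 : K.comap (pullback.snd p π) * (𝔞.comap π).comap (pullback.snd p π) =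
      ((vanishingIdeal F).comap p).comap (pullback.fst p π) := by
    rw [← Groth.Agent.Lib.T2H6.ModulusFun.comap_mul, hK, ← comap_comp, ← comap_comp,
      pullback.condition]
  have h3 : (𝔞.comap π).comap (pullback.snd p π) ≤
      K.comap (pullback.snd p π) * (𝔞.comap π).comap (pullback.snd p π) ⊔
        (vanishingIdeal G).comap (pullback.fst p π) := by
    rw [e2, e1, ← comap_sup]
    exact comap_mono _ h2
  have hA' : BlowUp.IsFiniteTypeIdeal ((𝔞.comap π).comap (pullback.snd p π)) :=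
    Groth.Agent.Lib.T2H6.BlowUpFT.isFiniteTypeIdeal_comap _ _
      (Groth.Agent.Lib.T2H6.AmbProdProper.isFiniteTypeIdeal_of_isEffCartier _ hπ)
  rw [Set.eq_empty_iff_forall_notMem]
  rintro z' ⟨hz1, hz2⟩
  have hzK : z' ∈ (K.comap (pullback.snd p π)).support := by
    rw [mem_support_comap]
    exact h1 hz1
  obtain ⟨N, hzN, hN⟩ := exists_nbhd_support_subset _ _ _ hA' h3 z' hzK
  obtain ⟨y, hyN, hyG⟩ := mem_closure_iff.1 hz2 N N.isOpen hzN
  have hyG' : y ∈ ((vanishingIdeal G).comap (pullback.fst p π)).support := by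
    rw [mem_support_comap, ← SetLike.mem_coe, coe_support_vanishingIdeal]
    exact hyG.1
  have hyA := hN y hyN hyG'
  rw [e1, mem_support_comap, mem_support_comap] at hyA
  exact Set.disjoint_left.1 h₁ hyA hyG.2

end Groth.Agent.Lib.T2H6.BlowUpSeparate
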