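import Mathlib
import Groth.Prelude.Def_CohB1
import Groth.Prelude.Def_BlowUp2
import Groth.Agent.Lib.Helper27AwayLaurent
import Groth.Agent.Lib.Helper13RelProjC
import Groth.Agent.Lib.T2H6BlowUpSeparate

/-!
# Lifting morphisms from the projective line to a blow-up (T2 helper6)

* `isPrincipalIdealRing_away`, `isDomain_away`: the coordinate rings of the two standard charts of
  `P^1_k` are principal ideal domains.
* `isEffCartier_comap_of_pid_cover`: on an irreducible scheme covered by spectra of principal ideal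
  domains, the inverse image of an ideal sheaf is effective Cartier as soon as the image of the
  morphism is not contained in the support of the ideal.
* `exists_pid_cover`: `P^1_k` has such a cover.
-/

set_option autoImplicit false
set_option linter.unusedSectionVars false
set_option linter.style.haveILetI false
universe u

open CategoryTheory CategoryTheory.Limits AlgebraicGeometry HomogeneousLocalization MvPolynomial

namespace Groth.Agent.Lib.T2H6.P1Lift

open Groth.Agent.Lib.Helper27AwayLaurent
open AlgebraicGeometry.Scheme.IdealSheafData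

section Alg

variable (k : Type u) [Field k]

theorem X_mem (i : Fin 2) : (X i : MvPolynomial (Fin 2) k) ∈ CohB1.polyGrading 1 k 1 :=
  isHomogeneous_X k i

theorem dehom_surjective (i : Fin 2) :
    Function.Surjective (dehom (CohB1.polyGrading 1 k) (X_mem k i)) := by
  intro x
  obtain ⟨n, a, ha, rfl⟩ := Away.mk_surjective (CohB1.polyGrading 1 k) (X_mem k i) x
  have ha' : a ∈ CohB1.polyGrading 1 k n := by simpa using ha
  exact ⟨a, dehom_of_mem _ _ ha'⟩

/-- substitute `X i ↦ 1` -/
noncomputable def ρ (i : Fin 2) : MvPolynomial (Fin 2) k →+* MvPolynomial (Fin 2) k :=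
  (MvPolynomial.aeval (R := k) fun j => if j = i then (1 : MvPolynomial (Fin 2) k) else X j).toRingHom

theorem dehom_ρ (i : Fin 2) (a : MvPolynomial (Fin 2) k) :
    dehom (CohB1.polyGrading 1 k) (X_mem k i) (ρ k i a) =
      dehom (CohB1.polyGrading 1 k) (X_mem k i) a := by
  have : (dehom (CohB1.polyGrading 1 k) (X_mem k i)).comp (ρ k i) =
      dehom (CohB1.polyGrading 1 k) (X_mem k i) := by
    apply MvPolynomial.ringHom_ext
    · intro c
      simp [ρ]
    · intro j
      simp only [ρ, RingHom.comp_apply, AlgHom.toRingHom_eq_coe, RingHom.coe_coe, aeval_X]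
      split_ifs with h
      · subst h
        rw [map_one, dehom_self]
      · rfl
  exact congrFun (congrArg DFunLike.coe this) a

/-- the polynomial ring in one variable maps onto the chart ring -/
noncomputable def χ (i j : Fin 2) : Polynomial k →+* Away (CohB1.polyGrading 1 k) (X i : MvPolynomial (Fin 2) k) :=
  (dehom (CohB1.polyGrading 1 k) (X_mem k i)).comp
    (Polynomial.aeval (R := k) (X j : MvPolynomial (Fin 2) k)).toRingHom

theorem ρ_mem_range (i j : Fin 2) (hij : ∀ l : Fin 2, l = i ∨ l = j) (a : MvPolynomial (Fin 2) k) :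
    ρ k i a ∈ (Polynomial.aeval (R := k) (X j : MvPolynomial (Fin 2) k)).toRingHom.range := by
  induction a using MvPolynomial.induction_on with
  | C c =>
    refine ⟨Polynomial.C c, ?_⟩
    simp [ρ]
  | add p q hp hq =>
    rw [map_add]
    exact Subring.add_mem _ hp hq
  | mul_X p l hp =>
    rw [map_mul]
    refine Subring.mul_mem _ hp ?_
    simp only [ρ, AlgHom.toRingHom_eq_coe, RingHom.coe_coe, aeval_X]
    split_ifs with h
    · exact Subring.one_mem _
    · rcases hij l with h' | h'
      · exact absurd h' h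
      · subst h'
        exact ⟨Polynomial.X, by simp⟩

theorem χ_surjective (i j : Fin 2) (hij : ∀ l : Fin 2, l = i ∨ l = j) :
    Function.Surjective (χ k i j) := by
  intro x
  obtain ⟨a, rfl⟩ := dehom_surjective k i x
  obtain ⟨p, hp⟩ := ρ_mem_range k i j hij a
  refine ⟨p, ?_⟩
  rw [χ, RingHom.comp_apply, hp, dehom_ρ]

theorem isPrincipalIdealRing_away (i : Fin 2) :
    IsPrincipalIdealRing (Away (CohB1.polyGrading 1 k) (X i : MvPolynomial (Fin 2) k)) := by
  have hij : ∀ l : Fin 2, l = i ∨ l = (1 - i) := by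
    intro l
    fin_cases i <;> fin_cases l <;> simp
  exact IsPrincipalIdealRing.of_surjective (χ k i (1 - i)) (χ_surjective k i (1 - i) hij)

theorem isDomain_away (i : Fin 2) :
    IsDomain (Away (CohB1.polyGrading 1 k) (X i : MvPolynomial (Fin 2) k)) := by
  haveI : IsDomain (Localization.Away (X i : MvPolynomial (Fin 2) k)) :=
    IsLocalization.isDomain_localization
      (powers_le_nonZeroDivisors_of_noZeroDivisors (X_ne_zero i))
  exact Function.Injective.isDomain
    (algebraMap (Away (CohB1.polyGrading 1 k) (X i : MvPolynomial (Fin 2) k))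
      (Localization.Away (X i : MvPolynomial (Fin 2) k)))
    (HomogeneousLocalization.val_injective _)

end Alg

section Sch

theorem irrelevant_le (n : ℕ) (R : Type u) [CommRing R] :
    (HomogeneousIdeal.irrelevant (CohB1.polyGrading n R)).toIdeal ≤
      Ideal.span (Set.range (fun k : Fin (n + 1) => (MvPolynomial.X k : MvPolynomial (Fin (n + 1)) R))) := by
  intro x hx
  have h0 : GradedRing.proj (CohB1.polyGrading n R) 0 x = 0 :=
    (HomogeneousIdeal.mem_irrelevant_iff _ _).1 hx
  have : Set.range (fun k : Fin (n + 1) => (MvPolynomial.X k : MvPolynomial (Fin (n + 1)) R)) =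
      MvPolynomial.X '' (Set.univ : Set (Fin (n + 1))) := by
    rw [Set.image_univ]
  rw [this, MvPolynomial.mem_ideal_span_X_image]
  intro m hm
  by_contra hcon
  push Not at hcon
  have hm0 : m = 0 := by
    ext i
    simpa using hcon i (Set.mem_univ i)
  subst hm0
  have hc : MvPolynomial.coeff 0 x = 0 := by
    have h1 : MvPolynomial.coeff 0 (GradedRing.proj (CohB1.polyGrading n R) 0 x) = MvPolynomial.coeff 0 x := by
      rw [GradedRing.proj_apply]
      have h2 : ((DirectSum.decompose (CohB1.polyGrading n R) x) 0 : MvPolynomial (Fin (n + 1)) R) =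
          MvPolynomial.homogeneousComponent 0 x := MvPolynomial.decomposition.decompose'_apply x 0
      rw [h2, MvPolynomial.coeff_homogeneousComponent]
      simp
    rw [← h1, h0]
    simp
  exact (MvPolynomial.mem_support_iff.1 hm) hc

theorem isEffCartier_comap_of_pid_cover {P X : Scheme.{u}} [IrreducibleSpace P] (f : P ⟶ X)
    (𝓘 : X.IdealSheafData)
    (hcov : ∀ x : P, ∃ U : P.affineOpens, x ∈ U.1 ∧ IsDomain Γ(P, U.1) ∧
      IsPrincipalIdealRing Γ(P, U.1))
    (hne : ¬ Set.range f ⊆ 𝓘.support) :
    BlowUp.IsEffCartierIdeal (𝓘.comap f) := by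
  intro x
  obtain ⟨U, hxU, hdom, hpid⟩ := hcov x
  refine ⟨U, hxU, ?_⟩
  obtain ⟨g, hg⟩ := (hpid.principal ((𝓘.comap f).ideal U)).principal
  refine ⟨g, ?_, hg⟩
  rw [mem_nonZeroDivisors_iff_ne_zero]
  rintro rfl
  apply hne
  have hbot : (𝓘.comap f).ideal U = ⊥ := by
    rw [hg]
    simp
  have hU : (U.1 : Set P) ⊆ ((𝓘.comap f).support : Set P) := by
    intro y hy
    rw [SetLike.mem_coe, mem_support_iff_of_mem (U := U) hy, Scheme.mem_zeroLocus_iff]
    intro a ha
    rw [hbot] at ha
    have ha0 : a = 0 := ha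
    subst ha0
    simp
  have hd : Dense (U.1 : Set P) := U.1.isOpen.dense ⟨x, hxU⟩
  have huniv : ((𝓘.comap f).support : Set P) = Set.univ := by
    apply Set.eq_univ_of_univ_subset
    rw [← hd.closure_eq]
    exact closure_minimal hU (𝓘.comap f).support.isClosed
  rintro _ ⟨y, rfl⟩
  have hy : y ∈ (𝓘.comap f).support := by
    rw [← SetLike.mem_coe, huniv]
    trivial
  exact (Groth.Agent.Lib.T2H6.BlowUpSeparate.mem_support_comap 𝓘 f y).1 hy

variable (k : Type u) [Field k]

instance irreducibleSpace_P1 : IrreducibleSpace (CohB1.ProjSpace 1 k) := by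
  apply Groth.Agent.Helper13RelProj.irreducibleSpace_proj
  intro h
  have h1 : (X 0 : MvPolynomial (Fin 2) k) ∈ (HomogeneousIdeal.irrelevant (CohB1.polyGrading 1 k)).toIdeal := by
    refine (HomogeneousIdeal.mem_irrelevant_iff _ _).2 ?_
    rw [GradedRing.proj_apply, DirectSum.decompose_of_mem_ne (CohB1.polyGrading 1 k) (X_mem k 0)]
    exact one_ne_zero
  rw [h] at h1
  exact X_ne_zero (0 : Fin 2) h1

theorem exists_pid_cover (x : CohB1.ProjSpace 1 k) :
    ∃ U : (CohB1.ProjSpace 1 k).affineOpens, x ∈ U.1 ∧ IsDomain Γ(CohB1.ProjSpace 1 k, U.1) ∧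
      IsPrincipalIdealRing Γ(CohB1.ProjSpace 1 k, U.1) := by
  have h := Proj.iSup_basicOpen_eq_top (CohB1.polyGrading 1 k)
    (fun l : Fin 2 => (X l : MvPolynomial (Fin 2) k)) (irrelevant_le 1 k)
  have hx : x ∈ (⨆ l : Fin 2, Proj.basicOpen (CohB1.polyGrading 1 k) (X l : MvPolynomial (Fin 2) k)) := by
    rw [h]
    trivial
  obtain ⟨i, hi⟩ := TopologicalSpace.Opens.mem_iSup.1 hx
  have haff : IsAffineOpen (Proj.basicOpen (CohB1.polyGrading 1 k) (X i : MvPolynomial (Fin 2) k)) :=
    Proj.isAffineOpen_basicOpen (CohB1.polyGrading 1 k) _ (X_mem k i) Nat.one_pos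
  let e := (Proj.basicOpenIsoAway (CohB1.polyGrading 1 k) (X i : MvPolynomial (Fin 2) k) (X_mem k i)
    Nat.one_pos).commRingCatIsoToRingEquiv
  refine ⟨⟨_, haff⟩, hi, ?_, ?_⟩
  · haveI := isDomain_away k i
    exact e.symm.injective.isDomain e.symm.toRingHom
  · haveI := isPrincipalIdealRing_away k i
    exact IsPrincipalIdealRing.of_surjective e.toRingHom e.surjective

theorem isEffCartier_comap_P1 {X : Scheme.{u}} (f : CohB1.ProjSpace 1 k ⟶ X) (𝓘 : X.IdealSheafData)
    (hne : ¬ Set.range f ⊆ 𝓘.support) : BlowUp.IsEffCartierIdeal (𝓘.comap f) :=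
  isEffCartier_comap_of_pid_cover f 𝓘 (exists_pid_cover k) hne

end Sch

end Groth.Agent.Lib.T2H6.P1Lift
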