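import Mathlib
import Groth.Prelude
import Groth.Agent.Lib.T2H6P1Lift
import Groth.Agent.Lib.T2H5PnOverB

/-!
# The projective line over a base has geometrically irreducible fibres (helper3)
-/

set_option autoImplicit false
set_option linter.style.haveILetI false
universe u

namespace Groth.Agent.Lib.T2H3.P1Fibres
open AlgebraicGeometry CategoryTheory CategoryTheory.Limits

open Groth.Agent.Lib.T2H5.PnOver in
theorem irreducibleSpace_proj_gA (R₀ K : Type u) [CommRing R₀] [Field K] [Algebra R₀ K] :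
    IrreducibleSpace ↥(Proj (gA R₀ K 1)) := by
  haveI := isIso_map_idTo R₀ (CohB1.polyGrading 1 K)
  have e := (asIso (Proj.map (idTo R₀ (CohB1.polyGrading 1 K))
    (irr_to R₀ (CohB1.polyGrading 1 K)))).hom.homeomorph
  haveI : IrreducibleSpace ↥(Proj (CohB1.polyGrading 1 K)) :=
    Groth.Agent.Lib.T2H6.P1Lift.irreducibleSpace_P1 K
  exact e.irreducibleSpace_iff.mpr inferInstance

instance geometricallyIrreducible_toSpec (R₀ : Type u) [CommRing R₀] :
    GeometricallyIrreducible (CohB1.ProjSpace.toSpec 1 R₀) := by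
  refine ⟨?_⟩
  intro K _ y Z fst snd hpb
  obtain ⟨φ, rfl⟩ := Spec.map_surjective y
  letI : Algebra R₀ K := φ.hom.toAlgebra
  have h1 := Groth.Agent.Lib.T2H5.PnOver.isPullback_phi R₀ K 1
  have h2 : CommRingCat.ofHom (algebraMap R₀ K) = φ := rfl
  rw [h2] at h1
  haveI := irreducibleSpace_proj_gA R₀ K
  let e := (hpb.isoIsPullback _ _ h1).hom.homeomorph
  exact e.irreducibleSpace_iff.mpr inferInstance

instance geometricallyIrreducible_toBase (S : Scheme.{u}) :
    GeometricallyIrreducible (CohB1.ProjSpaceOver.toBase 1 S) := by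
  unfold CohB1.ProjSpaceOver.toBase
  exact MorphismProperty.pullback_snd (P := @GeometricallyIrreducible) _ _
    (geometricallyIrreducible_toSpec _)

/-- the fibres of `P^1_S ⟶ S` are preconnected. -/
theorem isPreconnected_fibre (S : Scheme.{u}) (s : S) :
    _root_.IsPreconnected ((CohB1.ProjSpaceOver.toBase 1 S) ⁻¹' {s}) := by
  rw [← (CohB1.ProjSpaceOver.toBase 1 S).range_fiberι s]
  exact isPreconnected_range ((CohB1.ProjSpaceOver.toBase 1 S).fiberι s).continuous

theorem sect_toBase (S : Scheme.{u}) (i : Fin (1 + 1)) :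
    P1.sect S i ≫ CohB1.ProjSpaceOver.toBase 1 S = 𝟙 S := by
  unfold P1.sect CohB1.ProjSpaceOver.toBase
  exact pullback.lift_snd _ _ _

/-- a clopen subset of `P^1_S` which misses a section is empty. -/
theorem eq_empty_of_isClopen_of_disjoint_sect (S : Scheme.{u}) (i : Fin (1 + 1))
    (V : Set ↥(CohB1.ProjSpaceOver 1 S)) (hV : IsClopen V)
    (hdisj : ∀ s : S, P1.sect S i s ∉ V) : V = ∅ := by
  rw [Set.eq_empty_iff_forall_notMem]
  intro p hp
  set s := CohB1.ProjSpaceOver.toBase 1 S p with hs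
  have h1 : (CohB1.ProjSpaceOver.toBase 1 S) ⁻¹' {s} ⊆ V :=
    (isPreconnected_fibre S s).subset_isClopen hV ⟨p, rfl, hp⟩
  refine hdisj s (h1 ?_)
  change CohB1.ProjSpaceOver.toBase 1 S (P1.sect S i s) = s
  rw [← Scheme.Hom.comp_apply, sect_toBase]
  rfl

/-- **clopen subsets of finite locally free covers of `P^1_S`** containing the preimage of a section
are everything. -/
theorem eq_univ_of_isClopen {S X : Scheme.{u}} (g : X ⟶ CohB1.ProjSpaceOver 1 S) [IsFinite g]
    [Flat g] [LocallyOfFinitePresentation g] (i : Fin (1 + 1)) (W : Set X) (hW : IsClopen W)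
    (h0 : ∀ x : X, g x ∈ Set.range (P1.sect S i) → x ∈ W) : W = Set.univ := by
  have hV : IsClopen (g '' Wᶜ) :=
    ⟨g.isClosedMap _ hW.compl.isClosed, g.isOpenMap _ hW.compl.isOpen⟩
  have hempty := eq_empty_of_isClopen_of_disjoint_sect S i _ hV (by
    rintro s ⟨x, hx, hxs⟩
    exact hx (h0 x ⟨s, hxs.symm⟩))
  rw [Set.image_eq_empty, Set.compl_empty_iff] at hempty
  exact hempty

end Groth.Agent.Lib.T2H3.P1Fibres
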