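import Mathlib

/-!
# Maps from formally unramified algebras into `R[t]/(t^p - u)` (helper3, team 2)

Let `R` be a noetherian domain in which the prime number `p` is not a unit, `u : R` and
`T = R[t]/(t^p - u)`.  Every `R`-algebra map from a formally unramified `R`-algebra into `T` has
image in `R`.
-/

set_option autoImplicit false
universe u
open Polynomial TensorProduct

namespace Groth.Agent.Lib.T2H3.PRoot

section

variable {R : Type*} [CommRing R]

/-- In `T ⊗ T` with `T = R[t]/(g)`, every `x ⊗ 1 - 1 ⊗ x` is a multiple of `t ⊗ 1 - 1 ⊗ t`. -/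
theorem tmul_one_sub_one_tmul_mem (g : R[X]) (x : AdjoinRoot g) :
    (x ⊗ₜ[R] (1 : AdjoinRoot g) - (1 : AdjoinRoot g) ⊗ₜ[R] x) ∈
      Ideal.span {(AdjoinRoot.root g ⊗ₜ[R] (1 : AdjoinRoot g) -
        (1 : AdjoinRoot g) ⊗ₜ[R] AdjoinRoot.root g)} := by
  have hx : x ∈ Algebra.adjoin R ({AdjoinRoot.root g} : Set (AdjoinRoot g)) := by
    rw [AdjoinRoot.adjoinRoot_eq_top]; trivial
  induction hx using Algebra.adjoin_induction with
  | mem y hy =>
    rw [Set.mem_singleton_iff] at hy; subst hy; exact Ideal.subset_span rfl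
  | algebraMap r =>
    have : (algebraMap R (AdjoinRoot g) r) ⊗ₜ[R] (1 : AdjoinRoot g) =
        (1 : AdjoinRoot g) ⊗ₜ[R] (algebraMap R (AdjoinRoot g) r) := by
      rw [Algebra.algebraMap_eq_smul_one, TensorProduct.smul_tmul]
    rw [this, sub_self]; exact zero_mem _
  | add y z _ _ hy hz =>
    have : (y + z) ⊗ₜ[R] (1 : AdjoinRoot g) - (1 : AdjoinRoot g) ⊗ₜ[R] (y + z) =
        (y ⊗ₜ[R] (1 : AdjoinRoot g) - (1 : AdjoinRoot g) ⊗ₜ[R] y) +
          (z ⊗ₜ[R] (1 : AdjoinRoot g) - (1 : AdjoinRoot g) ⊗ₜ[R] z) := by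
      rw [TensorProduct.add_tmul, TensorProduct.tmul_add]; abel
    rw [this]; exact add_mem hy hz
  | mul y z _ _ hy hz =>
    have : (y * z) ⊗ₜ[R] (1 : AdjoinRoot g) - (1 : AdjoinRoot g) ⊗ₜ[R] (y * z) =
        (y ⊗ₜ[R] (1 : AdjoinRoot g)) * (z ⊗ₜ[R] (1 : AdjoinRoot g) - (1 : AdjoinRoot g) ⊗ₜ[R] z) +
          ((1 : AdjoinRoot g) ⊗ₜ[R] z) *
            (y ⊗ₜ[R] (1 : AdjoinRoot g) - (1 : AdjoinRoot g) ⊗ₜ[R] y) := by
      simp only [mul_sub, Algebra.TensorProduct.tmul_mul_tmul, mul_one, one_mul]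
      rw [mul_comm z y]; abel
    rw [this]; exact add_mem (Ideal.mul_mem_left _ _ hz) (Ideal.mul_mem_left _ _ hy)

variable (p : ℕ) (u : R)

theorem root_pow_eq : (AdjoinRoot.root (X ^ p - C u : R[X])) ^ p =
    AdjoinRoot.of (X ^ p - C u : R[X]) u := by
  have := AdjoinRoot.eval₂_root (X ^ p - C u : R[X])
  simpa [sub_eq_zero] using this

/-- In a commutative ring, `p ∣ (a - b)^p` when `a^p = b^p`. -/
theorem natCast_dvd_sub_pow_of_pow_eq {S : Type*} [CommRing S] (hp : p.Prime) (a b : S)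
    (h : a ^ p = b ^ p) : ((p : ℕ) : S) ∣ (a - b) ^ p := by
  obtain ⟨r, hr⟩ := exists_add_pow_prime_eq hp a (-b)
  rw [sub_eq_add_neg, hr]
  rcases hp.eq_two_or_odd' with h2 | hodd
  · have e1 : (-b) ^ p = b ^ p := by rw [h2]; exact neg_sq b
    rw [e1, h]
    refine ⟨b ^ p + a * (-b) * r, ?_⟩
    have e2 : ((p : ℕ) : S) = 2 := by rw [h2]; norm_num
    rw [e2]
    ring
  · rw [hodd.neg_pow, h]
    exact ⟨a * (-b) * r, by ring⟩

/-- `(t ⊗ 1 - 1 ⊗ t)^p` is divisible by `p`. -/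
theorem natCast_dvd_delta_pow (hp : p.Prime) :
    ((p : ℕ) : AdjoinRoot (X ^ p - C u : R[X]) ⊗[R] AdjoinRoot (X ^ p - C u : R[X])) ∣
      (AdjoinRoot.root (X ^ p - C u : R[X]) ⊗ₜ[R] (1 : AdjoinRoot (X ^ p - C u : R[X])) -
        (1 : AdjoinRoot (X ^ p - C u : R[X])) ⊗ₜ[R] AdjoinRoot.root (X ^ p - C u : R[X])) ^ p := by
  apply natCast_dvd_sub_pow_of_pow_eq p hp
  rw [Algebra.TensorProduct.tmul_pow, Algebra.TensorProduct.tmul_pow, one_pow,
    root_pow_eq]
  change (algebraMap R (AdjoinRoot (X ^ p - C u : R[X])) u) ⊗ₜ[R]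
      (1 : AdjoinRoot (X ^ p - C u : R[X])) =
    (1 : AdjoinRoot (X ^ p - C u : R[X])) ⊗ₜ[R] (algebraMap R (AdjoinRoot (X ^ p - C u : R[X])) u)
  rw [Algebra.algebraMap_eq_smul_one, TensorProduct.smul_tmul]

end

section

variable {R : Type*} [CommRing R] [IsDomain R] [IsNoetherianRing R]

theorem sup_pow_le_span_pow_sup {S : Type*} [CommRing S] (δ : S) (J : Ideal S) (n : ℕ) :
    (Ideal.span {δ} ⊔ J) ^ n ≤ Ideal.span {δ ^ n} ⊔ J := by
  induction n with
  | zero =>
    rw [pow_zero, pow_zero, Ideal.span_singleton_one, top_sup_eq]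
    exact le_top
  | succ n ih =>
    rw [pow_succ]
    refine (Ideal.mul_mono ih le_rfl).trans ?_
    rw [Ideal.sup_mul, Ideal.mul_sup, Ideal.mul_sup,
      Ideal.span_singleton_mul_span_singleton, ← pow_succ]
    refine sup_le (sup_le le_sup_left (le_trans Ideal.mul_le_right le_sup_right))
      (sup_le (le_trans Ideal.mul_le_left le_sup_right)
        (le_trans Ideal.mul_le_left le_sup_right))

/-- Krull intersection for the ideal `(δ, p)` of a finite free `R`-algebra when `δ^p ∈ (p)`. -/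
theorem iInf_pow_span_pair_eq_bot (p : ℕ) (hpu : ¬ IsUnit ((p : ℕ) : R))
    {S : Type*} [CommRing S] [Algebra R S] [Module.Finite R S] [Module.IsTorsionFree R S]
    (δ : S) (hδ : ((p : ℕ) : S) ∣ δ ^ p) :
    ⨅ i : ℕ, (Ideal.span {δ, ((p : ℕ) : S)}) ^ i = ⊥ := by
  set I : Ideal S := Ideal.span {δ, ((p : ℕ) : S)} with hI
  set J : Ideal S := Ideal.span {((p : ℕ) : S)} with hJ
  have hIJ : I = Ideal.span {δ} ⊔ J := by
    rw [hI, hJ, ← Ideal.span_union]; rfl
  have hstep : ∀ n : ℕ, I ^ n ≤ Ideal.span {δ ^ n} ⊔ J := by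
    intro n
    rw [hIJ]
    exact sup_pow_le_span_pow_sup δ J n
  have hIp : I ^ p ≤ J := by
    refine (hstep p).trans (sup_le ?_ le_rfl)
    rw [Ideal.span_singleton_le_iff_mem, hJ, Ideal.mem_span_singleton]
    exact hδ
  have hJtop : Ideal.span {((p : ℕ) : R)} ≠ ⊤ := by
    rwa [Ne, Ideal.span_singleton_eq_top]
  have hK := Ideal.iInf_pow_smul_eq_bot_of_isTorsionFree (R := R) (M := S)
    (I := Ideal.span {((p : ℕ) : R)}) hJtop
  rw [eq_bot_iff]
  intro x hx
  rw [Ideal.mem_iInf] at hx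
  have hx' : x ∈ (⨅ i : ℕ, (Ideal.span {((p : ℕ) : R)}) ^ i • ⊤ : Submodule R S) := by
    rw [Submodule.mem_iInf]
    intro n
    have h1 : x ∈ J ^ n := by
      have := hx (p * n)
      rw [pow_mul] at this
      exact Ideal.pow_right_mono hIp n this
    rw [hJ, Ideal.span_singleton_pow, Ideal.mem_span_singleton] at h1
    obtain ⟨y, rfl⟩ := h1
    have : ((p : ℕ) : S) ^ n * y = (((p : ℕ) : R) ^ n) • y := by
      rw [Algebra.smul_def, map_pow, map_natCast]
    rw [this]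
    exact Submodule.smul_mem_smul (Ideal.pow_mem_pow (Ideal.mem_span_singleton_self _) n) trivial
  rw [hK] at hx'
  exact hx'

end

section

variable {R : Type*} [CommRing R]

/-- `y ⊗ 1 = 1 ⊗ y` in `T ⊗ T` implies `y ∈ R`, for `T = R[t]/(g)` with `g` monic of
positive degree. -/
theorem mem_range_of_tmul_one_eq (g : R[X]) (hg : g.Monic) (hdeg : 0 < g.natDegree)
    (y : AdjoinRoot g)
    (h : y ⊗ₜ[R] (1 : AdjoinRoot g) = (1 : AdjoinRoot g) ⊗ₜ[R] y) :
    y ∈ Set.range (algebraMap R (AdjoinRoot g)) := by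
  classical
  let b := (AdjoinRoot.powerBasis' hg).basis
  let i0 : Fin (AdjoinRoot.powerBasis' hg).dim := ⟨0, by rw [AdjoinRoot.powerBasis'_dim]; exact hdeg⟩
  have hb0 : b i0 = 1 := by
    change (AdjoinRoot.powerBasis' hg).basis i0 = 1
    rw [PowerBasis.basis_eq_pow]
    exact pow_zero _
  have hone : ∀ i, b.repr 1 i = if i = i0 then 1 else 0 := by
    intro i
    rw [← hb0, Module.Basis.repr_self, Finsupp.single_apply]
    simp only [eq_comm]
  have hcoord : ∀ i, i ≠ i0 → b.repr y i = 0 := by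
    intro i hi
    have h1 := congrArg (fun z => (b.tensorProduct b).repr z (i, i0)) h
    simp only [Module.Basis.tensorProduct_repr_tmul_apply, hone, if_true, smul_eq_mul,
      one_mul] at h1
    rw [h1, if_neg hi, mul_zero]
  refine ⟨b.repr y i0, ?_⟩
  conv_rhs => rw [← b.sum_repr y]
  rw [Finset.sum_eq_single i0 (fun i _ hi => by rw [hcoord i hi, zero_smul])
    (fun h => absurd (Finset.mem_univ _) h), hb0, Algebra.algebraMap_eq_smul_one]

end

section

variable {R : Type*} [CommRing R] [IsDomain R] [IsNoetherianRing R]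

/-- **Key lemma.** Let `R` be a noetherian domain in which `p` is not a unit and
`T = R[t]/(t^p - u)`.  An `R`-algebra map from a formally unramified `R`-algebra to `T` has image
in `R`. -/
theorem algHom_mem_range (p : ℕ) [hp : Fact p.Prime] (hpu : ¬ IsUnit ((p : ℕ) : R)) (u : R)
    {B : Type*} [CommRing B] [Algebra R B] [Algebra.FormallyUnramified R B]
    (σ : B →ₐ[R] AdjoinRoot (X ^ p - C u : R[X])) (x : B) :
    σ x ∈ Set.range (algebraMap R (AdjoinRoot (X ^ p - C u : R[X]))) := by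
  have hg : (X ^ p - C u : R[X]).Monic := monic_X_pow_sub_C u hp.out.ne_zero
  have hdeg : (X ^ p - C u : R[X]).natDegree = p := natDegree_X_pow_sub_C
  have : Module.Free R (AdjoinRoot (X ^ p - C u : R[X])) := hg.free_adjoinRoot
  have : Module.Finite R (AdjoinRoot (X ^ p - C u : R[X])) := hg.finite_adjoinRoot
  apply mem_range_of_tmul_one_eq _ hg (by rw [hdeg]; exact hp.out.pos)
  have hδ := natCast_dvd_delta_pow p u hp.out
  have hI := iInf_pow_span_pair_eq_bot p hpu _ hδ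
  have key := Algebra.FormallyUnramified.ext_of_iInf (R := R) (A := B) _ hI
    (g₁ := (Algebra.TensorProduct.includeLeft (R := R) (S := R)
      (A := AdjoinRoot (X ^ p - C u : R[X])) (B := AdjoinRoot (X ^ p - C u : R[X]))).comp σ)
    (g₂ := (Algebra.TensorProduct.includeRight (R := R)
      (A := AdjoinRoot (X ^ p - C u : R[X])) (B := AdjoinRoot (X ^ p - C u : R[X]))).comp σ) ?_
  · exact DFunLike.congr_fun key x
  · intro z
    rw [Ideal.Quotient.eq]
    refine Ideal.span_mono ?_ (tmul_one_sub_one_tmul_mem _ (σ z))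
    intro w hw
    rw [Set.mem_singleton_iff] at hw
    rw [hw]
    exact Set.mem_insert _ _

end

end Groth.Agent.Lib.T2H3.PRoot
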