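import Mathlib
import Groth.Agent.Lib.T2H1Olivier
import Groth.Agent.Lib.Helper3HenselC

/-!
# Finite étale algebras over a strictly henselian local ring are totally split (helper3, team 2)
-/

set_option autoImplicit false
universe u
open IsLocalRing

namespace Groth.Agent.Lib.T2H3.PRoot

/-- A finite étale algebra over a noetherian strictly henselian local ring is a finite product of
copies of the base. -/
theorem exists_algEquiv_pi_of_finite_etale (R : Type u) [CommRing R] [HenselianLocalRing R]
    [IsSepClosed (ResidueField R)] [IsNoetherianRing R]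
    (S : Type u) [CommRing S] [Algebra R S] [Module.Finite R S] [Algebra.Etale R S] :
    ∃ (ι : Type u) (_ : Fintype ι), Nonempty (S ≃ₐ[R] (ι → R)) := by
  obtain ⟨ι, hι, A, hA, hloc, ⟨e⟩⟩ :=
    Groth.Agent.Lib.Helper3.Hensel.exists_pi_isLocalRing_of_finite R S
  letI algA : ∀ i, Algebra R (A i) := fun i =>
    (((Pi.evalRingHom A i).comp e.toRingHom).comp (algebraMap R S)).toAlgebra
  let e' : S ≃ₐ[R] (∀ i, A i) := AlgEquiv.ofRingEquiv (f := e) (fun r => by funext i; rfl)
  have hfe : Algebra.FormallyEtale R (∀ i, A i) := Algebra.FormallyEtale.of_equiv e'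
  have hfei : ∀ i, Algebra.FormallyEtale R (A i) := (Algebra.FormallyEtale.pi_iff A).mp hfe
  have hfin : ∀ i, Module.Finite R (A i) := fun i =>
    Module.Finite.of_surjective ((Pi.evalAlgHom R A i).comp e'.toAlgHom).toLinearMap
      ((Function.surjective_eval i).comp e'.surjective)
  have hfp : ∀ i, Algebra.FinitePresentation R (A i) := fun i =>
    Algebra.FinitePresentation.of_finiteType.mp inferInstance
  have het : ∀ i, Algebra.Etale R (A i) := fun i => ⟨hfei i, hfp i⟩
  have hlocal : ∀ i, IsLocalHom (algebraMap R (A i)) := fun i =>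
    haveI : Algebra.IsIntegral R (A i) := Algebra.IsIntegral.of_finite R (A i)
    Groth.Agent.S1964.isLocalHom_of_isIntegral_of_isLocalRing
  have hbij : ∀ i, Function.Bijective (algebraMap R (A i)) := fun i =>
    Groth.Agent.Lib.T2H1.Olivier.olivier R (A i)
  exact ⟨ι, hι, ⟨e'.trans (AlgEquiv.piCongrRight fun i =>
    (AlgEquiv.ofBijective (Algebra.ofId R (A i)) (hbij i)).symm)⟩⟩

end Groth.Agent.Lib.T2H3.PRoot
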