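import Mathlib
import Groth.Agent.S0505

/-!
# `A[t]/(t^p - f)` over a (strictly henselian) local ring, `f` in the maximal ideal
(helper3, team 2)
-/

set_option autoImplicit false
universe u
open IsLocalRing Polynomial

namespace Groth.Agent.Lib.T2H3.PRoot

/-- For `f` in the maximal ideal of a local ring `A` and `p ≠ 0`, the ring `A[t]/(t^p - f)` is
local. -/
theorem isLocalRing_adjoinRoot {A : Type*} [CommRing A] [IsLocalRing A] (p : ℕ) (hp : p ≠ 0)
    (f : A) (hf : f ∈ maximalIdeal A) : IsLocalRing (AdjoinRoot (X ^ p - C f : A[X])) := by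
  have hg : (X ^ p - C f : A[X]).Monic := monic_X_pow_sub_C f hp
  have : Module.Finite A (AdjoinRoot (X ^ p - C f : A[X])) := hg.finite_adjoinRoot
  have : Algebra.IsIntegral A (AdjoinRoot (X ^ p - C f : A[X])) := Algebra.IsIntegral.of_finite _ _
  have hresf : residue A f = 0 := (residue_eq_zero_iff f).mpr hf
  let π : AdjoinRoot (X ^ p - C f : A[X]) →+* ResidueField A :=
    AdjoinRoot.lift (residue A) 0 (by simp [hresf, hp])
  have hπof : ∀ a, π (AdjoinRoot.of _ a) = residue A a := fun a => AdjoinRoot.lift_of _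
  have hπroot : π (AdjoinRoot.root _) = 0 := AdjoinRoot.lift_root _
  have hπsurj : Function.Surjective π := by
    intro x
    obtain ⟨a, rfl⟩ := residue_surjective x
    exact ⟨AdjoinRoot.of _ a, hπof a⟩
  have hkermax : (RingHom.ker π).IsMaximal := RingHom.ker_isMaximal_of_surjective π hπsurj
  refine IsLocalRing.of_unique_max_ideal ⟨RingHom.ker π, hkermax, fun M hM => ?_⟩
  have hMc : M.comap (algebraMap A (AdjoinRoot (X ^ p - C f : A[X]))) = maximalIdeal A :=
    IsLocalRing.eq_maximalIdeal (Ideal.isMaximal_comap_of_isIntegral_of_isMaximal M)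
  have hofM : ∀ a ∈ maximalIdeal A, AdjoinRoot.of (X ^ p - C f : A[X]) a ∈ M := by
    intro a ha
    rw [← hMc] at ha
    exact ha
  have hrootM : AdjoinRoot.root (X ^ p - C f : A[X]) ∈ M := by
    apply hM.isPrime.mem_of_pow_mem p
    have h1 : (AdjoinRoot.root (X ^ p - C f : A[X])) ^ p = AdjoinRoot.of _ f := by
      have := AdjoinRoot.eval₂_root (X ^ p - C f : A[X])
      simpa [sub_eq_zero] using this
    rw [h1]
    exact hofM f hf
  have hle : RingHom.ker π ≤ M := by
    intro x hx
    obtain ⟨P, rfl⟩ := AdjoinRoot.mk_surjective x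
    rw [RingHom.mem_ker] at hx
    have hP : P = P.divX * X + C (P.coeff 0) := (Polynomial.divX_mul_X_add P).symm
    have hmk : AdjoinRoot.mk (X ^ p - C f : A[X]) P =
        AdjoinRoot.mk _ P.divX * AdjoinRoot.root _ + AdjoinRoot.of _ (P.coeff 0) := by
      conv_lhs => rw [hP]
      rw [map_add, map_mul, AdjoinRoot.mk_X, AdjoinRoot.mk_C]
    rw [hmk, map_add, map_mul, hπroot, mul_zero, zero_add, hπof, residue_eq_zero_iff] at hx
    rw [hmk]
    exact add_mem (Ideal.mul_mem_left _ _ hrootM) (hofM _ hx)
  exact (hkermax.eq_of_le hM.ne_top hle).symm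

/-- an integral local algebra over a local ring with separably closed residue field has separably
closed residue field -/
theorem isSepClosed_residueField_of_isIntegral (S : Type*) [CommRing S] [IsLocalRing S]
    (T : Type*) [CommRing T] [IsLocalRing T] [Algebra S T] [Algebra.IsIntegral S T]
    [IsSepClosed (ResidueField S)] : IsSepClosed (ResidueField T) := by
  have hloc : IsLocalHom (algebraMap S T) := by
    have h := IsLocalRing.eq_maximalIdeal
      (Ideal.isMaximal_comap_of_isIntegral_of_isMaximal (R := S) (maximalIdeal T))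
    exact ((IsLocalRing.local_hom_TFAE (algebraMap S T)).out 0 4).mpr h
  have halg : Algebra.IsAlgebraic (ResidueField S) (ResidueField T) := by
    constructor
    intro x
    obtain ⟨t, rfl⟩ := residue_surjective x
    obtain ⟨q, hqm, hq⟩ := Algebra.IsIntegral.isIntegral (R := S) t
    refine ⟨q.map (residue S), (hqm.map _).ne_zero, ?_⟩
    rw [aeval_def, eval₂_map]
    have h1 : (algebraMap (ResidueField S) (ResidueField T)).comp (residue S) =
        (residue T).comp (algebraMap S T) := by
      ext s
      rfl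
    rw [h1, ← hom_eval₂, hq, map_zero]
  exact Algebra.IsAlgebraic.isSepClosed (F := ResidueField S)

/-- `A[t]/(t^p - f)` is strictly henselian when `A` is and `f` is in the maximal ideal. -/
theorem strictHens_adjoinRoot {A : Type u} [CommRing A] [HenselianLocalRing A]
    [IsSepClosed (ResidueField A)] (p : ℕ) (hp : p ≠ 0) (f : A) (hf : f ∈ maximalIdeal A) :
    ∃ _ : HenselianLocalRing (AdjoinRoot (X ^ p - C f : A[X])),
      IsSepClosed (ResidueField (AdjoinRoot (X ^ p - C f : A[X]))) := by
  have hg : (X ^ p - C f : A[X]).Monic := monic_X_pow_sub_C f hp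
  have : Module.Finite A (AdjoinRoot (X ^ p - C f : A[X])) := hg.finite_adjoinRoot
  have : Algebra.IsIntegral A (AdjoinRoot (X ^ p - C f : A[X])) := Algebra.IsIntegral.of_finite _ _
  haveI : IsLocalRing (AdjoinRoot (X ^ p - C f : A[X])) := isLocalRing_adjoinRoot p hp f hf
  have hH : HenselianLocalRing (AdjoinRoot (X ^ p - C f : A[X])) := Groth.Agent.S0505.result A _
  refine ⟨hH, ?_⟩
  convert isSepClosed_residueField_of_isIntegral A (AdjoinRoot (X ^ p - C f : A[X]))

end Groth.Agent.Lib.T2H3.PRoot
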