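import Mathlib
import Groth.Agent.Lib.T2H3PRootA

/-!
# Descending a splitting along `R → R[t]/(t^p - c)` (helper3, team 2)
-/

set_option autoImplicit false
universe u
open Polynomial TensorProduct

namespace Groth.Agent.Lib.T2H3.PRoot

section iota

variable {A S : Type*} [CommRing A] [CommRing S] (φ : A →+* S) (p : ℕ) (f : A)

/-- the natural map `A[t]/(t^p - f) → S[t]/(t^p - φ f)` -/
noncomputable def iotaMap :
    AdjoinRoot (X ^ p - C f : A[X]) →+* AdjoinRoot (X ^ p - C (φ f) : S[X]) :=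
  AdjoinRoot.map φ _ _ (by simp)

@[simp] theorem iotaMap_of (a : A) :
    iotaMap φ p f (AdjoinRoot.of _ a) = AdjoinRoot.of _ (φ a) := by
  simp [iotaMap]

@[simp] theorem iotaMap_root :
    iotaMap φ p f (AdjoinRoot.root _) = AdjoinRoot.root _ := by
  simp [iotaMap]

theorem iotaMap_mk (P : A[X]) :
    iotaMap φ p f (AdjoinRoot.mk _ P) = AdjoinRoot.mk _ (P.map φ) := by
  induction P using Polynomial.induction_on with
  | C a => simp
  | add P Q hP hQ => rw [map_add, map_add, hP, hQ, Polynomial.map_add, map_add]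
  | monomial n a h =>
    simp only [map_mul, map_pow, AdjoinRoot.mk_C, AdjoinRoot.mk_X, iotaMap_of, iotaMap_root,
      Polynomial.map_mul, Polynomial.map_pow, Polynomial.map_C, Polynomial.map_X]

theorem iotaMap_injective (hφ : Function.Injective φ) (hp : p ≠ 0) :
    Function.Injective (iotaMap φ p f) := by
  rw [injective_iff_map_eq_zero]
  intro x hx
  obtain ⟨P, rfl⟩ := AdjoinRoot.mk_surjective x
  rw [iotaMap_mk, AdjoinRoot.mk_eq_zero] at hx
  rw [AdjoinRoot.mk_eq_zero]
  have hmap : (X ^ p - C (φ f) : S[X]) = (X ^ p - C f : A[X]).map φ := by simp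
  rw [hmap] at hx
  exact (Polynomial.map_dvd_map φ hφ (monic_X_pow_sub_C f hp)).mp hx

end iota

/-- the `0`-th coordinate functional on `S[t]/(g)` for the power basis -/
theorem exists_coord_zero {S : Type*} [CommRing S] (g : S[X]) (hg : g.Monic)
    (hdeg : 0 < g.natDegree) :
    ∃ ℓ : AdjoinRoot g →ₗ[S] S, ∀ l < g.natDegree,
      ℓ (AdjoinRoot.root g ^ l) = if l = 0 then 1 else 0 := by
  classical
  let b := (AdjoinRoot.powerBasis' hg).basis
  let i0 : Fin (AdjoinRoot.powerBasis' hg).dim := ⟨0, by rw [AdjoinRoot.powerBasis'_dim]; exact hdeg⟩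
  refine ⟨b.coord i0, fun l hl => ?_⟩
  let il : Fin (AdjoinRoot.powerBasis' hg).dim := ⟨l, by rw [AdjoinRoot.powerBasis'_dim]; exact hl⟩
  have h1 : AdjoinRoot.root g ^ l = b il := by
    change _ = (AdjoinRoot.powerBasis' hg).basis il
    rw [PowerBasis.basis_eq_pow, AdjoinRoot.powerBasis'_gen]
  rw [h1, Module.Basis.coord_apply, Module.Basis.repr_self, Finsupp.single_apply]
  have : (il = i0) ↔ l = 0 := by
    rw [Fin.ext_iff]
  simp only [this]

section core

variable {A : Type u} [CommRing A] (f : A) (p : ℕ) [hp : Fact p.Prime]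
  (R : Type u) [CommRing R] [IsDomain R] [IsNoetherianRing R] [Algebra A R]
  (B : Type u) [CommRing B] [Algebra A B] [Algebra R B] [IsScalarTower A R B]
  [Algebra.FormallyUnramified R B]
  {κ : Type u} [Fintype κ] [DecidableEq κ]

/-- **Core descent step.**  Suppose given ring maps `μ k : A₁ ⊗[A] B → T` (`A₁ = A[t]/(t^p - f)`,
`T = R[t]/(t^p - f)`, `R` a localization of `A`), extending `A₁ → T`, jointly injective, and with
"dual idempotents".  Then `B` is a finite product of copies of `R`. -/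
theorem nonempty_algEquiv_pi_of_maps (M : Submonoid A) [IsLocalization M R]
    (hpu : ¬ IsUnit ((p : ℕ) : R))
    (μ : κ → (AdjoinRoot (X ^ p - C f : A[X]) ⊗[A] B →+*
      AdjoinRoot (X ^ p - C (algebraMap A R f) : R[X])))
    (hμ : ∀ k a, μ k (a ⊗ₜ[A] (1 : B)) = iotaMap (algebraMap A R) p f a)
    (hinj : ∀ x, (∀ k, μ k x = 0) → x = 0)
    (hidem : ∀ j, ∃ x, ∀ k, μ k x = if k = j then 1 else 0) :
    Nonempty (B ≃ₐ[R] (κ → R)) := by
  have hp0 : p ≠ 0 := hp.out.ne_zero
  have hntA : Nontrivial A := (algebraMap A R).domain_nontrivial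
  have hgA : (X ^ p - C f : A[X]).Monic := monic_X_pow_sub_C f hp0
  have hgR : (X ^ p - C (algebraMap A R f) : R[X]).Monic := monic_X_pow_sub_C _ hp0
  have hdegA : (X ^ p - C f : A[X]).natDegree = p := natDegree_X_pow_sub_C
  have hdegR : (X ^ p - C (algebraMap A R f) : R[X]).natDegree = p := natDegree_X_pow_sub_C
  have hdegR' : (X ^ p - C (algebraMap A R f) : R[X]).degree ≠ 0 := by
    rw [degree_X_pow_sub_C hp.out.pos]
    exact_mod_cast hp0
  have hfreeA : Module.Free A (AdjoinRoot (X ^ p - C f : A[X])) := hgA.free_adjoinRoot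
  have hntT : Nontrivial (AdjoinRoot (X ^ p - C (algebraMap A R f) : R[X])) :=
    AdjoinRoot.nontrivial _ hdegR'
  have hntA₁ : Nontrivial (AdjoinRoot (X ^ p - C f : A[X])) :=
    (iotaMap (algebraMap A R) p f).domain_nontrivial
  have hinjT : Function.Injective
      (algebraMap R (AdjoinRoot (X ^ p - C (algebraMap A R f) : R[X]))) :=
    AdjoinRoot.of.injective_of_degree_ne_zero hdegR'
  -- the maps `σ k : B → T`
  have hcomm : ∀ k, ((μ k).comp (Algebra.TensorProduct.includeRight :
      B →ₐ[A] AdjoinRoot (X ^ p - C f : A[X]) ⊗[A] B).toRingHom).comp (algebraMap R B) =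
      algebraMap R (AdjoinRoot (X ^ p - C (algebraMap A R f) : R[X])) := by
    intro k
    apply IsLocalization.ringHom_ext M
    ext a
    simp only [RingHom.comp_apply]
    rw [← IsScalarTower.algebraMap_apply A R B]
    have h1 : (Algebra.TensorProduct.includeRight :
        B →ₐ[A] AdjoinRoot (X ^ p - C f : A[X]) ⊗[A] B).toRingHom (algebraMap A B a) =
        (AdjoinRoot.of (X ^ p - C f : A[X]) a) ⊗ₜ[A] (1 : B) := by
      change (1 : AdjoinRoot (X ^ p - C f : A[X])) ⊗ₜ[A] (algebraMap A B a) = _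
      rw [Algebra.algebraMap_eq_smul_one, ← TensorProduct.smul_tmul,
        ← Algebra.algebraMap_eq_smul_one, AdjoinRoot.algebraMap_eq]
    rw [h1, hμ, iotaMap_of, AdjoinRoot.algebraMap_eq]
  let σ : κ → (B →ₐ[R] AdjoinRoot (X ^ p - C (algebraMap A R f) : R[X])) := fun k =>
    { toRingHom := (μ k).comp (Algebra.TensorProduct.includeRight :
        B →ₐ[A] AdjoinRoot (X ^ p - C f : A[X]) ⊗[A] B).toRingHom
      commutes' := fun r => RingHom.congr_fun (hcomm k) r }
  have hσ : ∀ k b, σ k b = μ k ((1 : AdjoinRoot (X ^ p - C f : A[X])) ⊗ₜ[A] b) := fun k b => rfl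
  have hrange : ∀ k b, σ k b ∈ (⊥ : Subalgebra R (AdjoinRoot (X ^ p - C (algebraMap A R f) : R[X]))) := by
    intro k b
    rw [Algebra.mem_bot]
    exact algHom_mem_range p hpu _ (σ k) b
  let ψk : κ → (B →ₐ[R] R) := fun k =>
    (Algebra.botEquivOfInjective hinjT).toAlgHom.comp ((σ k).codRestrict ⊥ (hrange k))
  have hψk : ∀ k b, algebraMap R (AdjoinRoot (X ^ p - C (algebraMap A R f) : R[X])) (ψk k b) =
      σ k b := by
    intro k b
    have h1 : (Algebra.botEquivOfInjective hinjT).symm (ψk k b) =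
        (σ k).codRestrict ⊥ (hrange k) b := by
      change (Algebra.botEquivOfInjective hinjT).symm
        ((Algebra.botEquivOfInjective hinjT) ((σ k).codRestrict ⊥ (hrange k) b)) = _
      rw [AlgEquiv.symm_apply_apply]
    have h2 := congrArg Subtype.val h1
    rw [AlgHom.coe_codRestrict] at h2
    rw [← h2]
    rfl
  let ψ : B →ₐ[R] (κ → R) := Pi.algHom R (fun _ => R) ψk
  have hψ : ∀ b k, ψ b k = ψk k b := fun b k => rfl
  -- injectivity
  have hψinj : Function.Injective ψ := by
    rw [injective_iff_map_eq_zero]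
    intro b hb
    have h0 : (1 : AdjoinRoot (X ^ p - C f : A[X])) ⊗ₜ[A] b = 0 := by
      apply hinj
      intro k
      rw [← hσ, ← hψk, ← hψ, hb, Pi.zero_apply, map_zero]
    have := Module.FaithfullyFlat.tensorProduct_mk_injective (A := A)
      (B := AdjoinRoot (X ^ p - C f : A[X])) B
    apply this
    rw [map_zero]
    exact h0
  -- surjectivity
  obtain ⟨ℓ, hℓ⟩ := exists_coord_zero (X ^ p - C (algebraMap A R f) : R[X]) hgR
    (by rw [hdegR]; exact hp.out.pos)
  have hdual : ∀ j, ∃ b : B, ∀ k, ψk k b = if k = j then 1 else 0 := by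
    intro j
    obtain ⟨x, hx⟩ := hidem j
    let ℬ := (AdjoinRoot.powerBasis' hgA).basis
    obtain ⟨c, hc⟩ := TensorProduct.eq_repr_basis_left ℬ x
    rw [Finsupp.sum_fintype _ _ (fun i => TensorProduct.tmul_zero _ _)] at hc
    let i0 : Fin (AdjoinRoot.powerBasis' hgA).dim :=
      ⟨0, by rw [AdjoinRoot.powerBasis'_dim, hdegA]; exact hp.out.pos⟩
    refine ⟨c i0, fun k => ?_⟩
    have hμk : μ k x = ∑ i, (ψk k (c i)) • (AdjoinRoot.root _) ^ (i : ℕ) := by
      rw [← hc, map_sum]
      refine Finset.sum_congr rfl fun i _ => ?_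
      have h1 : ℬ i ⊗ₜ[A] c i = (ℬ i ⊗ₜ[A] (1 : B)) * ((1 : AdjoinRoot _) ⊗ₜ[A] c i) := by
        rw [Algebra.TensorProduct.tmul_mul_tmul, mul_one, one_mul]
      have h2 : ℬ i = AdjoinRoot.root _ ^ (i : ℕ) := by
        change (AdjoinRoot.powerBasis' hgA).basis i = _
        rw [PowerBasis.basis_eq_pow, AdjoinRoot.powerBasis'_gen]
      rw [h1, map_mul, hμ, ← hσ, ← hψk, h2, map_pow, iotaMap_root, Algebra.smul_def, mul_comm]
    have h3 := congrArg ℓ hμk
    rw [hx, map_sum] at h3
    have h4 : ∀ i : Fin (AdjoinRoot.powerBasis' hgA).dim,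
        ℓ ((ψk k (c i)) • (AdjoinRoot.root _) ^ (i : ℕ)) = if i = i0 then ψk k (c i) else 0 := by
      intro i
      rw [map_smul, hℓ _ (lt_of_lt_of_eq i.2
        (by rw [AdjoinRoot.powerBasis'_dim, hdegA, hdegR])), smul_eq_mul]
      have : (i = i0) ↔ (i : ℕ) = 0 := by rw [Fin.ext_iff]
      by_cases h : (i : ℕ) = 0
      · rw [if_pos h, if_pos (this.mpr h), mul_one]
      · rw [if_neg h, if_neg (fun h' => h (this.mp h')), mul_zero]
    rw [Finset.sum_congr rfl (fun i _ => h4 i), Finset.sum_ite_eq' Finset.univ i0,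
      if_pos (Finset.mem_univ _)] at h3
    rw [← h3]
    split_ifs
    · have := hℓ 0 (by rw [hdegR]; exact hp.out.pos)
      rw [pow_zero, if_pos rfl] at this
      exact this
    · exact map_zero ℓ
  have hψsurj : Function.Surjective ψ := by
    choose d hd using hdual
    intro v
    refine ⟨∑ j, v j • d j, ?_⟩
    funext k
    rw [hψ, map_sum, Finset.sum_eq_single k]
    · rw [map_smul, hd, if_pos rfl, smul_eq_mul, mul_one]
    · intro j _ hjk
      rw [map_smul, hd, if_neg (Ne.symm hjk), smul_zero]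
    · intro h; exact absurd (Finset.mem_univ k) h
  exact ⟨AlgEquiv.ofBijective ψ ⟨hψinj, hψsurj⟩⟩

end core

end Groth.Agent.Lib.T2H3.PRoot
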