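import Mathlib
import Groth.Agent.Lib.T2H3PRootD

/-!
# Descending a splitting along `A → A[t]/(t^p - f)` away from `f` (helper3, team 2)
-/

set_option autoImplicit false
universe u
open Polynomial TensorProduct

namespace Groth.Agent.Lib.T2H3.PRoot

section split

variable {A : Type u} [CommRing A] [IsDomain A] (f : A) (p : ℕ) [hp : Fact p.Prime]
  (R : Type u) [CommRing R] [IsDomain R] [IsNoetherianRing R] [Algebra A R]
  [IsLocalization.Away f R]
  (B : Type u) [CommRing B] [Algebra A B] [Algebra R B] [IsScalarTower A R B]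
  [Algebra.FormallyUnramified R B]
  (C₁ : Type u) [CommRing C₁] [Algebra (AdjoinRoot (X ^ p - C f : A[X])) C₁]
  (L₁ : Type u) [CommRing L₁] [Algebra C₁ L₁] [Algebra (AdjoinRoot (X ^ p - C f : A[X])) L₁]
  [IsScalarTower (AdjoinRoot (X ^ p - C f : A[X])) C₁ L₁]
  [IsLocalization.Away (algebraMap (AdjoinRoot (X ^ p - C f : A[X])) C₁ (AdjoinRoot.of _ f)) L₁]
  {κ : Type u} [Fintype κ] [DecidableEq κ]

/-- If `C₁` is a split `A₁`-algebra (`A₁ = A[t]/(t^p - f)`) with `C₁[1/f] ≃ A₁ ⊗[A] B`, and `p` is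
not a unit in `R = A[1/f]`, then the formally unramified `R`-algebra `B` is split. -/
theorem nonempty_algEquiv_pi_of_split (hf0 : f ≠ 0) (hpu : ¬ IsUnit ((p : ℕ) : R))
    (e : L₁ ≃ₐ[AdjoinRoot (X ^ p - C f : A[X])] (AdjoinRoot (X ^ p - C f : A[X])) ⊗[A] B)
    (g : C₁ ≃ₐ[AdjoinRoot (X ^ p - C f : A[X])] (κ → AdjoinRoot (X ^ p - C f : A[X]))) :
    Nonempty (B ≃ₐ[R] (κ → R)) := by
  have hp0 : p ≠ 0 := hp.out.ne_zero
  have hφ : Function.Injective (algebraMap A R) :=
    IsLocalization.injective R (M := Submonoid.powers f)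
      (powers_le_nonZeroDivisors_of_noZeroDivisors hf0)
  have hιinj := iotaMap_injective (algebraMap A R) p f hφ hp0
  set x₀ : C₁ := algebraMap (AdjoinRoot (X ^ p - C f : A[X])) C₁ (AdjoinRoot.of _ f) with hx₀
  let s : κ → (C₁ →+* AdjoinRoot (X ^ p - C f : A[X])) := fun k =>
    (Pi.evalRingHom (fun _ : κ => AdjoinRoot (X ^ p - C f : A[X])) k).comp
      (g.toAlgHom.toRingHom)
  have hs : ∀ k a, s k (algebraMap _ C₁ a) = a := by
    intro k a
    change (g (algebraMap _ C₁ a)) k = a
    rw [g.commutes]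
    rfl
  have hsg : ∀ k c, s k c = g c k := fun k c => rfl
  have hunit : ∀ k, IsUnit (((iotaMap (algebraMap A R) p f).comp (s k)) x₀) := by
    intro k
    rw [RingHom.comp_apply, hx₀, hs, iotaMap_of, ← AdjoinRoot.algebraMap_eq]
    exact (IsLocalization.Away.algebraMap_isUnit (S := R) f).map _
  let lam : κ → (L₁ →+* AdjoinRoot (X ^ p - C (algebraMap A R f) : R[X])) := fun k =>
    IsLocalization.Away.lift x₀ (hunit k)
  have hlam : ∀ k c, lam k (algebraMap C₁ L₁ c) = iotaMap (algebraMap A R) p f (s k c) :=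
    fun k c => IsLocalization.Away.lift_eq x₀ (hunit k) c
  let μ : κ → (AdjoinRoot (X ^ p - C f : A[X]) ⊗[A] B →+*
      AdjoinRoot (X ^ p - C (algebraMap A R f) : R[X])) := fun k =>
    (lam k).comp e.symm.toAlgHom.toRingHom
  have hμe : ∀ k y, μ k (e y) = lam k y := by
    intro k y
    change lam k (e.symm (e y)) = _
    rw [AlgEquiv.symm_apply_apply]
  have hμdef : ∀ k x, μ k x = lam k (e.symm x) := fun k x => rfl
  refine nonempty_algEquiv_pi_of_maps f p R B (Submonoid.powers f) hpu μ ?_ ?_ ?_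
  · intro k a
    have h1 : a ⊗ₜ[A] (1 : B) = algebraMap (AdjoinRoot (X ^ p - C f : A[X]))
        (AdjoinRoot (X ^ p - C f : A[X]) ⊗[A] B) a := by
      rw [Algebra.TensorProduct.algebraMap_apply]
      rfl
    rw [hμdef, h1, e.symm.commutes, IsScalarTower.algebraMap_apply _ C₁ L₁, hlam, hs]
  · intro x hx
    have hy : e.symm x = 0 := by
      obtain ⟨n, c, hc⟩ := IsLocalization.Away.surj x₀ (e.symm x)
      have hc0 : c = 0 := by
        apply g.injective
        rw [map_zero]
        funext k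
        rw [← hsg, Pi.zero_apply]
        apply hιinj
        rw [map_zero, ← hlam, ← hc, map_mul, ← hμdef, hx, zero_mul]
      rw [hc0, map_zero] at hc
      exact ((IsLocalization.Away.algebraMap_isUnit (S := L₁) x₀).pow n).mul_left_eq_zero.mp hc
    have := congrArg e hy
    rwa [AlgEquiv.apply_symm_apply, map_zero] at this
  · intro j
    refine ⟨e (algebraMap C₁ L₁ (g.symm (Pi.single j 1))), fun k => ?_⟩
    rw [hμe, hlam, hsg, AlgEquiv.apply_symm_apply, Pi.single_apply]
    split_ifs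
    · exact map_one _
    · exact map_zero _

end split

end Groth.Agent.Lib.T2H3.PRoot
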