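import Mathlib
import Groth.Agent.Lib.T2H3PRootE

/-!
# From a splitting of `B` over `A[1/f]` to a finite étale extension over `A` (helper3, team 2)
-/

set_option autoImplicit false
universe u
open Polynomial TensorProduct

namespace Groth.Agent.Lib.T2H3.PRoot

/-- If `(f)` is prime, `q ∉ (f)` and `q` is not a unit, then `q` divides no power of `f`. -/
theorem not_dvd_pow_of_prime_span {A : Type*} [CommRing A] [IsDomain A] (f q : A) (hf0 : f ≠ 0)
    (hfp : (Ideal.span {f}).IsPrime) (hq : q ∉ Ideal.span {f}) (hqu : ¬ IsUnit q) (n : ℕ) :
    ¬ q ∣ f ^ n := by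
  rintro ⟨a, ha⟩
  induction n generalizing a with
  | zero =>
    rw [pow_zero] at ha
    exact hqu (IsUnit.of_mul_eq_one a ha.symm)
  | succ n ih =>
    have hmem : q * a ∈ Ideal.span {f} := by
      rw [← ha, pow_succ]
      exact Ideal.mul_mem_left _ _ (Ideal.mem_span_singleton_self f)
    rcases hfp.mem_or_mem hmem with h | h
    · exact hq h
    · rw [Ideal.mem_span_singleton] at h
      obtain ⟨a', rfl⟩ := h
      apply ih a'
      have : f ^ n * f = (q * a') * f := by rw [← pow_succ, ha]; ring
      exact mul_right_cancel₀ hf0 this

/-- A split algebra over `A[1/f]` extends to a finite étale (split) algebra over `A`. -/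
theorem exists_extension_of_split {A : Type u} [CommRing A] (f : A) (B : Type u) [CommRing B]
    [Algebra A B] [Algebra (Localization.Away f) B] [IsScalarTower A (Localization.Away f) B]
    {κ : Type u} [Fintype κ]
    (ψ : B ≃ₐ[Localization.Away f] (κ → Localization.Away f)) :
    ∃ (C : Type u) (_ : CommRing C) (_ : Algebra A C), Module.Finite A C ∧ Algebra.Etale A C ∧
      Nonempty (Localization.Away (algebraMap A C f) ≃ₐ[A] B) := by
  refine ⟨κ → A, inferInstance, inferInstance, inferInstance, inferInstance, ?_⟩
  have hloc : IsLocalization (Submonoid.powers (algebraMap A (κ → A) f))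
      (κ → Localization.Away f) := by
    rw [IsLocalization.iff_map_piEvalRingHom (fun _ : κ => A) (κ → Localization.Away f)
      (Submonoid.powers (algebraMap A (κ → A) f))]
    have : ∀ i : κ, IsLocalization ((Submonoid.powers (algebraMap A (κ → A) f)).map
        (Pi.evalRingHom (fun _ : κ => A) i)) (Localization.Away f) := by
      intro i
      have h1 : (Submonoid.powers (algebraMap A (κ → A) f)).map
          (Pi.evalRingHom (fun _ : κ => A) i) = Submonoid.powers f := by
        rw [Submonoid.map_powers]; rfl
      rw [h1]; infer_instance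
    infer_instance
  have : IsScalarTower A (κ → A) (κ → Localization.Away f) :=
    IsScalarTower.of_algebraMap_eq (fun a => rfl)
  let e1 : Localization.Away (algebraMap A (κ → A) f) ≃ₐ[κ → A] (κ → Localization.Away f) :=
    IsLocalization.algEquiv (Submonoid.powers (algebraMap A (κ → A) f)) _ _
  exact ⟨(e1.restrictScalars A).trans (ψ.symm.restrictScalars A)⟩

end Groth.Agent.Lib.T2H3.PRoot
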