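import Mathlib
import Groth.Prelude.Def_FrobAlg
import Groth.Agent.Lib.Helper16TensorPi

/-!
# Tensoring the perfect closure with a submodule of a product

If `R` (characteristic `p`) is projective over itself through Frobenius, then for every family `N i`
of `R`-modules and every submodule `P ≤ Π i, N i`, the map
`PerfectClosure R p ⊗ P → Π i, PerfectClosure R p ⊗ N i` is injective.
Helper library for S16000 (namespace `Groth.Agent.Lib.T2H3.PerfTensorPi`).
-/

set_option autoImplicit false
set_option linter.style.haveILetI false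
set_option linter.unusedSectionVars false

open TensorProduct

namespace Groth.Agent.Lib.T2H3.PerfTensorPi

universe u v w

section Basic

variable (p : ℕ) [Fact p.Prime] (R : Type u) [CommRing R] [CharP R p]

/-- `R` as an `R`-module through the `n`-th iterate of Frobenius. -/
@[nolint unusedArguments]
def T (_p : ℕ) (R : Type u) (_n : ℕ) : Type u := R

instance (n : ℕ) : AddCommGroup (T p R n) := inferInstanceAs (AddCommGroup R)

/-- identity `R ≃+ T p R n` -/
def toT (n : ℕ) : R ≃+ T p R n := AddEquiv.refl R

instance (n : ℕ) : Module R (T p R n) := Module.compHom R (iterateFrobenius R p n)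

theorem smul_T (n : ℕ) (r : R) (x : T p R n) :
    r • x = toT p R n (r ^ p ^ n * (toT p R n).symm x) := rfl

/-- The `R`-algebra structure on the perfect closure. -/
@[reducible] noncomputable def pcAlgebra : Algebra R (PerfectClosure R p) :=
  (PerfectClosure.of R p).toAlgebra

attribute [local instance] pcAlgebra

theorem smul_pc (r : R) (y : PerfectClosure R p) : r • y = PerfectClosure.of R p r * y := rfl

/-- `x ↦ x^{1/p^n}`, linear from `T n`. -/
noncomputable def j (n : ℕ) : T p R n →ₗ[R] PerfectClosure R p where
  toFun x := PerfectClosure.mk R p (n, (toT p R n).symm x)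
  map_add' x y := by
    rw [PerfectClosure.mk_add_mk]
    dsimp only
    rw [PerfectClosure.R.sound R p n n _ _ rfl, map_add, iterate_map_add]
  map_smul' r x := by
    rw [smul_pc, PerfectClosure.of_apply, PerfectClosure.mk_mul_mk, smul_T]
    dsimp only [RingHom.id_apply]
    rw [AddEquiv.symm_apply_apply, Function.iterate_zero_apply, zero_add, iterate_frobenius]

theorem j_apply (n : ℕ) (x : T p R n) :
    j p R n x = PerfectClosure.mk R p (n, (toT p R n).symm x) := rfl

theorem mk_eq_j_add (m k : ℕ) (x : R) :
    PerfectClosure.mk R p (m, x) = j p R (m + k) (toT p R (m + k) (x ^ p ^ k)) := by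
  rw [j_apply, AddEquiv.symm_apply_apply, PerfectClosure.R.sound R p k m x _ rfl, add_comm,
    iterate_frobenius]

end Basic

section Retraction

variable (p : ℕ) [Fact p.Prime] (R : Type u) [CommRing R] [CharP R p]
variable (lam : R →+ R) (hlam : ∀ r y, lam (r ^ p * y) = r * lam y) (h1 : lam 1 = 1)

attribute [local instance] pcAlgebra

include hlam h1 in
theorem lam_pow (x : R) : lam (x ^ p) = x := by
  have := hlam x 1
  rwa [mul_one, h1, mul_one] at this

include hlam in
theorem lam_iter (k : ℕ) (s y : R) : (⇑lam)^[k] (s ^ p ^ k * y) = s * (⇑lam)^[k] y := by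
  induction k generalizing y with
  | zero => simp
  | succ k ih =>
    rw [Function.iterate_succ_apply, Function.iterate_succ_apply, pow_succ, pow_mul, hlam, ih]

/-- the retraction on representatives -/
def rhoFun (n : ℕ) (mx : ℕ × R) : T p R n :=
  toT p R n ((⇑lam)^[mx.1 - n] (mx.2 ^ p ^ (n - mx.1)))

include hlam h1 in
theorem rhoFun_rel (n : ℕ) (a b : ℕ × R) (h : PerfectClosure.R R p a b) :
    rhoFun p R lam n a = rhoFun p R lam n b := by
  obtain ⟨m, x⟩ := h
  simp only [rhoFun]
  congr 1
  rcases le_or_gt n m with hnm | hnm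
  · have e1 : m + 1 - n = (m - n) + 1 := by omega
    have e2 : n - (m + 1) = 0 := by omega
    have e3 : n - m = 0 := by omega
    rw [e1, e2, e3, pow_zero, pow_one, pow_one, Function.iterate_succ_apply, frobenius_def,
      lam_pow p R lam hlam h1]
  · have e1 : m + 1 - n = 0 := by omega
    have e2 : m - n = 0 := by omega
    have e3 : n - m = (n - (m + 1)) + 1 := by omega
    rw [e1, e2, e3, Function.iterate_zero_apply, Function.iterate_zero_apply, frobenius_def,
      ← pow_mul, ← pow_succ']

/-- the retraction as a function -/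
noncomputable def rhoF (n : ℕ) (y : PerfectClosure R p) : T p R n :=
  y.liftOn (rhoFun p R lam n) (rhoFun_rel p R lam hlam h1 n)

theorem rhoF_mk (n : ℕ) (mx : ℕ × R) :
    rhoF p R lam hlam h1 n (PerfectClosure.mk R p mx) = rhoFun p R lam n mx := rfl

theorem rhoFun_add (n m : ℕ) (x y : R) :
    rhoFun p R lam n (m, x + y) = rhoFun p R lam n (m, x) + rhoFun p R lam n (m, y) := by
  simp only [rhoFun]
  rw [add_pow_char_pow, iterate_map_add, map_add]

/-- The retraction `PerfectClosure R p → T n` of `j n`, as a linear map. -/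
noncomputable def rho (n : ℕ) : PerfectClosure R p →ₗ[R] T p R n where
  toFun := rhoF p R lam hlam h1 n
  map_add' a b := by
    induction a using PerfectClosure.induction_on with
    | h a =>
    induction b using PerfectClosure.induction_on with
    | h b =>
    obtain ⟨m, x⟩ := a
    obtain ⟨m', x'⟩ := b
    rw [PerfectClosure.mk_add_mk]
    dsimp only
    rw [rhoF_mk, rhoFun_add, ← rhoF_mk p R lam hlam h1, ← rhoF_mk p R lam hlam h1,
      PerfectClosure.R.sound R p m' m x _ rfl, PerfectClosure.R.sound R p m m' x' _ rfl,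
      add_comm m' m]
  map_smul' r a := by
    induction a using PerfectClosure.induction_on with
    | h a =>
    obtain ⟨m, x⟩ := a
    rw [smul_pc, PerfectClosure.of_apply, PerfectClosure.mk_mul_mk]
    dsimp only [RingHom.id_apply]
    rw [rhoF_mk, rhoF_mk, smul_T, Function.iterate_zero_apply, zero_add, iterate_frobenius]
    simp only [rhoFun, AddEquiv.symm_apply_apply]
    congr 1
    rcases le_or_gt n m with hnm | hnm
    · have e3 : n - m = 0 := by omega
      obtain ⟨d, rfl⟩ : ∃ d, m = n + d := ⟨m - n, by omega⟩
      have e1 : n + d - n = d := by omega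
      rw [e3, e1, pow_zero, pow_one, pow_one, pow_add, pow_mul, lam_iter p R lam hlam]
    · have e2 : m - n = 0 := by omega
      obtain ⟨d, rfl⟩ : ∃ d, n = m + d := ⟨n - m, by omega⟩
      have e1 : m + d - m = d := by omega
      rw [e2, e1, Function.iterate_zero_apply, Function.iterate_zero_apply, mul_pow, ← pow_mul,
        ← pow_add]

theorem rho_j (n : ℕ) (x : T p R n) : rho p R lam hlam h1 n (j p R n x) = x := by
  change rhoF p R lam hlam h1 n (PerfectClosure.mk R p (n, (toT p R n).symm x)) = x
  rw [rhoF_mk]
  simp only [rhoFun, Nat.sub_self, pow_zero, pow_one, Function.iterate_zero_apply]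
  exact AddEquiv.apply_symm_apply _ _


end Retraction

section Proj

variable (p : ℕ) [Fact p.Prime] (R : Type u) [CommRing R] [CharP R p]

theorem projective_finsupp (ι : Type v) (P : Type w) [AddCommGroup P] [Module R P]
    [Module.Projective R P] : Module.Projective R (ι →₀ P) := by
  classical
  exact Module.Projective.of_equiv (finsuppLequivDFinsupp (M := P) (ι := ι) R).symm

theorem smul_twist (r : R) (y : FrobAlg.Twist p R) :
    r • y = FrobAlg.toTwist p R (r ^ p) * y := by
  rw [Algebra.smul_def, FrobAlg.algebraMap_twist]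

/-- identity `T (n+1) → T n` on underlying sets -/
def dn (n : ℕ) : T p R (n + 1) ≃+ T p R n := (toT p R (n + 1)).symm.trans (toT p R n)

theorem dn_smul (n : ℕ) (r : R) (x : T p R (n + 1)) :
    dn p R n (r • x) = (r ^ p) • dn p R n x := by
  rw [smul_T, smul_T]
  simp only [dn, AddEquiv.trans_apply, AddEquiv.symm_apply_apply]
  rw [← pow_mul, ← pow_succ']

theorem dn_symm_smul (n : ℕ) (r : R) (x : T p R n) :
    (dn p R n).symm ((r ^ p) • x) = r • (dn p R n).symm x := by
  apply (dn p R n).injective
  rw [dn_smul, AddEquiv.apply_symm_apply, AddEquiv.apply_symm_apply]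

theorem projective_T_succ (n : ℕ) [Module.Projective R (FrobAlg.Twist p R)]
    (h : Module.Projective R (T p R n)) : Module.Projective R (T p R (n + 1)) := by
  obtain ⟨s, hs⟩ := (Module.projective_def' (R := R) (P := T p R n)).1 h
  haveI := projective_finsupp R (T p R n) (FrobAlg.Twist p R)
  let tw : R →+ FrobAlg.Twist p R := (FrobAlg.toTwist p R : R ≃+* FrobAlg.Twist p R).toAddMonoidHom
  let tws : FrobAlg.Twist p R →+ R :=
    ((FrobAlg.toTwist p R).symm : FrobAlg.Twist p R ≃+* R).toAddMonoidHom
  let s' : T p R (n + 1) →ₗ[R] (T p R n →₀ FrobAlg.Twist p R) :=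
    { toFun := fun x => Finsupp.mapRange.addMonoidHom tw (s (dn p R n x))
      map_add' := fun x y => by rw [map_add, map_add, map_add]
      map_smul' := fun r x => by
        rw [dn_smul, map_smul]
        ext q
        simp only [Finsupp.mapRange.addMonoidHom_apply, Finsupp.mapRange_apply,
          Finsupp.smul_apply, RingHom.id_apply]
        rw [smul_twist, smul_eq_mul]
        exact map_mul (FrobAlg.toTwist p R) _ _ }
  let π' : (T p R n →₀ FrobAlg.Twist p R) →ₗ[R] T p R (n + 1) :=
    { toFun := fun f => (dn p R n).symm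
        (Finsupp.linearCombination R id (Finsupp.mapRange.addMonoidHom tws f))
      map_add' := fun x y => by rw [map_add, map_add, map_add]
      map_smul' := fun r f => by
        rw [RingHom.id_apply, ← dn_symm_smul, ← map_smul]
        congr 2
        ext q
        simp only [Finsupp.mapRange.addMonoidHom_apply, Finsupp.mapRange_apply,
          Finsupp.smul_apply]
        rw [smul_twist, smul_eq_mul]
        change (FrobAlg.toTwist p R).symm (FrobAlg.toTwist p R (r ^ p) * f q) = _
        rw [map_mul, RingEquiv.symm_apply_apply]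
        rfl }
  refine Module.Projective.of_split s' π' ?_
  ext x
  change (dn p R n).symm (Finsupp.linearCombination R id
    (Finsupp.mapRange.addMonoidHom tws (Finsupp.mapRange.addMonoidHom tw (s (dn p R n x))))) = x
  have h2 : Finsupp.mapRange.addMonoidHom tws (Finsupp.mapRange.addMonoidHom tw (s (dn p R n x))) =
      s (dn p R n x) := by
    ext q
    simp only [Finsupp.mapRange.addMonoidHom_apply, Finsupp.mapRange_apply]
    exact RingEquiv.symm_apply_apply (FrobAlg.toTwist p R) _
  rw [h2]
  have h3 := LinearMap.congr_fun hs (dn p R n x)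
  rw [LinearMap.comp_apply, LinearMap.id_apply] at h3
  rw [h3, AddEquiv.symm_apply_apply]

theorem projective_T [Module.Projective R (FrobAlg.Twist p R)] (n : ℕ) :
    Module.Projective R (T p R n) := by
  induction n with
  | zero =>
    let e : R ≃ₗ[R] T p R 0 :=
      { toT p R 0 with
        map_smul' := fun r x => by
          change toT p R 0 (r * x) = r • toT p R 0 x
          rw [smul_T, AddEquiv.symm_apply_apply, pow_zero, pow_one] }
    exact Module.Projective.of_equiv e
  | succ n ih => exact projective_T_succ p R n ih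

end Proj

section Main

variable (p : ℕ) [Fact p.Prime] (R : Type u) [CommRing R] [CharP R p]

attribute [local instance] pcAlgebra

theorem exists_lam [Module.Projective R (FrobAlg.Twist p R)] :
    ∃ lam : R →+ R, (∀ r y, lam (r ^ p * y) = r * lam y) ∧ lam 1 = 1 := by
  obtain ⟨s, hs⟩ := (Module.projective_def' (R := R) (P := FrobAlg.Twist p R)).1 inferInstance
  let c := s 1
  have hc : Finsupp.linearCombination R id c = 1 := by
    have := LinearMap.congr_fun hs 1
    simpa using this
  rw [Finsupp.linearCombination_apply, Finsupp.sum] at hc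
  have hI : (1 : R) ∈ Ideal.span (Set.range fun q : c.support => c q) := by
    have h2 : (FrobAlg.toTwist p R).symm (∑ q ∈ c.support, c q • id q) = 1 := by
      rw [hc]; exact map_one _
    rw [map_sum] at h2
    rw [← h2]
    apply Ideal.sum_mem
    intro q hq
    rw [id, smul_twist, map_mul, RingEquiv.symm_apply_apply]
    apply Ideal.mul_mem_right
    have hq' : c q ∈ Ideal.span (Set.range fun q : c.support => c q) :=
      Ideal.subset_span ⟨⟨q, hq⟩, rfl⟩
    exact Ideal.pow_mem_of_mem _ hq' p (Fact.out : p.Prime).pos
  obtain ⟨a, ha⟩ := Ideal.mem_span_range_iff_exists_fun.mp hI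
  let l : FrobAlg.Twist p R →ₗ[R] R :=
    ∑ q : c.support, a q • ((Finsupp.lapply (q : FrobAlg.Twist p R)) ∘ₗ s)
  have hl1 : l 1 = 1 := by
    simp only [l, LinearMap.sum_apply, LinearMap.smul_apply, LinearMap.comp_apply,
      Finsupp.lapply_apply, smul_eq_mul]
    exact ha
  refine ⟨(l : FrobAlg.Twist p R →+ R).comp
    (FrobAlg.toTwist p R : R ≃+* FrobAlg.Twist p R).toAddMonoidHom, ?_, ?_⟩
  · intro r y
    change l (FrobAlg.toTwist p R (r ^ p * y)) = r * l (FrobAlg.toTwist p R y)
    rw [map_mul, ← smul_twist, map_smul, smul_eq_mul]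
  · exact hl1

/-- transition maps `T n → T m`, `x ↦ x ^ p ^ (m - n)` -/
noncomputable def tr (n m : ℕ) (h : n ≤ m) : T p R n →ₗ[R] T p R m where
  toFun x := toT p R m (((toT p R n).symm x) ^ p ^ (m - n))
  map_add' x y := by
    rw [map_add, add_pow_char_pow, map_add]
  map_smul' r x := by
    rw [smul_T, smul_T, AddEquiv.symm_apply_apply, AddEquiv.symm_apply_apply, RingHom.id_apply,
      mul_pow, ← pow_mul, ← pow_add, Nat.add_sub_cancel' h]

theorem j_tr (n m : ℕ) (h : n ≤ m) (x : T p R n) : j p R m (tr p R n m h x) = j p R n x := by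
  rw [j_apply, j_apply]
  change PerfectClosure.mk R p (m, (toT p R m).symm (toT p R m (((toT p R n).symm x) ^ p ^ (m - n))))
    = _
  rw [AddEquiv.symm_apply_apply, PerfectClosure.R.sound R p (m - n) n ((toT p R n).symm x) _ rfl,
    iterate_frobenius, Nat.sub_add_cancel h]

theorem exists_rTensor_j_eq {P : Type w} [AddCommGroup P] [Module R P]
    (z : PerfectClosure R p ⊗[R] P) :
    ∃ (n : ℕ) (w : T p R n ⊗[R] P), LinearMap.rTensor P (j p R n) w = z := by
  induction z using TensorProduct.induction_on with
  | zero => exact ⟨0, 0, map_zero _⟩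
  | tmul y q =>
    induction y using PerfectClosure.induction_on with
    | h a =>
    obtain ⟨m, x⟩ := a
    refine ⟨m, toT p R m x ⊗ₜ q, ?_⟩
    rw [LinearMap.rTensor_tmul, j_apply, AddEquiv.symm_apply_apply]
  | add z₁ z₂ h₁ h₂ =>
    obtain ⟨n₁, w₁, rfl⟩ := h₁
    obtain ⟨n₂, w₂, rfl⟩ := h₂
    refine ⟨max n₁ n₂, LinearMap.rTensor P (tr p R n₁ _ (le_max_left _ _)) w₁ +
      LinearMap.rTensor P (tr p R n₂ _ (le_max_right _ _)) w₂, ?_⟩
    rw [map_add, ← LinearMap.comp_apply, ← LinearMap.comp_apply, ← LinearMap.rTensor_comp,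
      ← LinearMap.rTensor_comp]
    congr 2
    · congr 1; ext x; exact j_tr p R _ _ _ x
    · congr 1; ext x; exact j_tr p R _ _ _ x

theorem tensorPi_perfectClosure_injective [Module.Projective R (FrobAlg.Twist p R)]
    {ι : Type v} (N : ι → Type w) [∀ i, AddCommGroup (N i)] [∀ i, Module R (N i)]
    (P : Submodule R (Π i, N i)) :
    Function.Injective
      (LinearMap.pi fun i => LinearMap.lTensor (PerfectClosure R p)
          ((LinearMap.proj i).comp P.subtype) :
        PerfectClosure R p ⊗[R] P →ₗ[R] Π i, PerfectClosure R p ⊗[R] N i) := by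
  obtain ⟨lam, hlam, h1⟩ := exists_lam p R
  rw [injective_iff_map_eq_zero]
  intro z hz
  obtain ⟨n, w, rfl⟩ := exists_rTensor_j_eq p R z
  haveI := projective_T p R n
  have hw : w = 0 := by
    apply Groth.Agent.Lib.Helper16.tensorPiMap_submodule_injective R (T p R n) N P
    rw [map_zero]
    funext i
    have hi := congrFun hz i
    simp only [LinearMap.pi_apply, Pi.zero_apply] at hi ⊢
    have h2 : LinearMap.rTensor (N i) (j p R n)
        (LinearMap.lTensor (T p R n) ((LinearMap.proj i).comp P.subtype) w) = 0 := by
      rw [← hi, ← LinearMap.comp_apply, ← LinearMap.comp_apply, LinearMap.rTensor_comp_lTensor,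
        LinearMap.lTensor_comp_rTensor]
    have h3 := congrArg (LinearMap.rTensor (N i) (rho p R lam hlam h1 n)) h2
    rw [map_zero, ← LinearMap.comp_apply, ← LinearMap.rTensor_comp] at h3
    have h4 : (rho p R lam hlam h1 n) ∘ₗ (j p R n) = LinearMap.id := by
      ext x; exact rho_j p R lam hlam h1 n x
    rw [h4, LinearMap.rTensor_id, LinearMap.id_apply] at h3
    exact h3
  rw [hw, map_zero]

end Main

end Groth.Agent.Lib.T2H3.PerfTensorPi
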