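import Mathlib
import Groth.Prelude.Def_W4c1etcurveeff2PicMod
import Groth.Agent.Lib.T2H3LocSymValue

/-!
# The generalised Picard group of a reduced modulus (helper3)

Namespace `Groth.Agent.Lib.T2H3.PicMod`.
-/

set_option autoImplicit false
set_option linter.style.haveILetI false
universe v u
open CategoryTheory CategoryTheory.Limits AlgebraicGeometry TopologicalSpace

namespace Groth.Agent.Lib.T2H3.PicMod

open Groth.Agent.Lib.T1H3.LocSymDVR Groth.Agent.Lib.T1H3.LocSymFin
  Groth.Agent.Lib.T1H3.LocSymApprox Groth.Agent.Lib.T1H3.LocSymUniq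
  Groth.Agent.Lib.T1H3.LocSymExist Groth.Agent.Lib.T1H3.LocSymCrit
  Groth.Agent.Lib.T2H3.LocSymValue W4c1etcurveeff2

variable {k : Type u} [Field k] {X : Scheme.{u}} [IsIntegral X]
  (c : X ⟶ Spec (CommRingCat.of k)) [IsProper c] [Smooth c]
  (hdim : topologicalKrullDim X = 1)

section Approx

include hdim

lemma ord_zpow (x : LocSym.Pt c) {f : X.functionField} (hf : f ≠ 0) (n : ℤ) :
    x.ord (f ^ n) = n * x.ord f := by
  haveI := isDVR_stalk c hdim x
  exact ordZ_zpow _ hf n

/-- Simultaneous approximation of a family of nonzero functions at finitely many rational points. -/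
theorem exists_approx_family (F : Finset (LocSym.Pt c)) (t : LocSym.Pt c → X.functionField)
    (ht : ∀ y ∈ F, t y ≠ 0) (N : ℕ) (hN : 1 ≤ N) :
    ∃ h : X.functionField, h ≠ 0 ∧ ∀ y ∈ F, C1 y N (h / t y) := by
  classical
  have hex : ∀ x ∈ F, ∃ h : X.functionField, h ≠ 0 ∧ C1 x N (h / t x) ∧
      ∀ y ∈ F, y ≠ x → C1 y N h := fun x hx =>
    exists_approx c hdim F x hx (t x) (ht x hx) N
  choose! H hH using hex
  have hH0 : ∀ x ∈ F, H x ≠ 0 := fun x hx => (hH x hx).1
  refine ⟨∏ x ∈ F, H x, Finset.prod_ne_zero_iff.mpr hH0, fun y hy => ?_⟩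
  have hsplit : (∏ x ∈ F, H x) / t y = (H y / t y) * ∏ x ∈ F.erase y, H x := by
    rw [← Finset.mul_prod_erase F H hy]
    field_simp
  rw [hsplit]
  refine C1_mul hdim hN (div_ne_zero (hH0 y hy) (ht y hy))
    (Finset.prod_ne_zero_iff.mpr (fun x hx => hH0 x (Finset.mem_of_mem_erase hx)))
    (hH y hy).2.1 ?_
  apply C1_prod hdim hN
  · intro x hx
    exact hH0 x (Finset.mem_of_mem_erase hx)
  · intro x hx
    exact (hH x (Finset.mem_of_mem_erase hx)).2.2 y hy (Finset.ne_of_mem_erase hx).symm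

lemma ord_eq_of_C1 {x : LocSym.Pt c} {N : ℕ} (hN : 1 ≤ N) {h t : X.functionField} (hh : h ≠ 0)
    (ht : t ≠ 0) (hC : C1 x N (h / t)) : x.ord h = x.ord t := by
  have h0 : x.ord (h / t) = 0 := by
    rcases hC with h1 | h1
    · rw [h1]; exact ord_one c hdim x
    · exact (C1.ne_zero_and hdim hN (div_ne_zero hh ht) h1).2
  rw [ord_div c hdim x hh ht] at h0
  omega

/-- There is a rational function with prescribed orders at finitely many rational points. -/
theorem exists_ord_eq (F : Finset (LocSym.Pt c)) (d : LocSym.Pt c → ℤ) :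
    ∃ g : X.functionField, g ≠ 0 ∧ ∀ y ∈ F, y.ord g = d y := by
  have hunif : ∀ y : LocSym.Pt c, ∃ ϖ : X.functionField, ϖ ≠ 0 ∧ y.ord ϖ = 1 := fun y => by
    haveI := isDVR_stalk c hdim y
    obtain ⟨ϖ, hϖ⟩ := IsDiscreteValuationRing.exists_irreducible (X.presheaf.stalk y.pt)
    refine ⟨algebraMap (X.presheaf.stalk y.pt) X.functionField ϖ, ?_, ordZ_irreducible _ hϖ⟩
    intro h0
    apply hϖ.ne_zero
    exact IsFractionRing.injective (X.presheaf.stalk y.pt) X.functionField (by rw [h0, map_zero])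
  choose ϖ hϖ0 hϖ1 using hunif
  obtain ⟨g, hg0, hg⟩ := exists_approx_family c hdim F (fun y => ϖ y ^ d y)
    (fun y _ => zpow_ne_zero _ (hϖ0 y)) 1 le_rfl
  refine ⟨g, hg0, fun y hy => ?_⟩
  rw [ord_eq_of_C1 c hdim le_rfl hg0 (zpow_ne_zero _ (hϖ0 y)) (hg y hy), ord_zpow c hdim y (hϖ0 y),
    hϖ1, mul_one]

end Approx


section Div

include hdim

/-- The divisor of a nonzero rational function. -/
noncomputable def divFn (g : X.functionField) (hg : g ≠ 0) : LocSym.Pt c →₀ ℤ :=
  Finsupp.ofSupportFinite (fun x : LocSym.Pt c => x.ord g) (finite_ord_support c hdim g hg)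

omit [Smooth c] in
lemma divFn_apply (g : X.functionField) (hg : g ≠ 0) (x : LocSym.Pt c) :
    divFn c hdim g hg x = x.ord g := rfl

omit [Smooth c] in
lemma isDivOf_divFn (g : X.functionField) (hg : g ≠ 0) : IsDivOf c (divFn c hdim g hg) g :=
  ⟨hg, fun _ => rfl⟩

lemma isDivOf_mul {D E : LocSym.Pt c →₀ ℤ} {g h : X.functionField} (hD : IsDivOf c D g)
    (hE : IsDivOf c E h) : IsDivOf c (D + E) (g * h) :=
  ⟨mul_ne_zero hD.1 hE.1, fun x => by
    rw [Finsupp.add_apply, hD.2 x, hE.2 x, ord_mul c hdim x hD.1 hE.1]⟩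

lemma isDivOf_inv {D : LocSym.Pt c →₀ ℤ} {g : X.functionField} (hD : IsDivOf c D g) :
    IsDivOf c (-D) g⁻¹ :=
  ⟨inv_ne_zero hD.1, fun x => by rw [Finsupp.neg_apply, hD.2 x, ord_inv c hdim x hD.1]⟩

lemma isDivOf_one : IsDivOf c (0 : LocSym.Pt c →₀ ℤ) (1 : X.functionField) :=
  ⟨one_ne_zero, fun x => by rw [Finsupp.zero_apply, ord_one c hdim x]⟩

theorem mem_principal_iff (D : LocSym.Pt c →₀ ℤ) :
    D ∈ principal c ↔ ∃ g : X.functionField, IsDivOf c D g := by
  constructor
  · intro h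
    induction h using AddSubgroup.closure_induction with
    | mem D hD => exact hD
    | zero => exact ⟨1, isDivOf_one c hdim⟩
    | add D E _ _ hD hE =>
      obtain ⟨g, hg⟩ := hD
      obtain ⟨h, hh⟩ := hE
      exact ⟨g * h, isDivOf_mul c hdim hg hh⟩
    | neg D _ hD =>
      obtain ⟨g, hg⟩ := hD
      exact ⟨g⁻¹, isDivOf_inv c hdim hg⟩
  · intro h
    exact AddSubgroup.subset_closure h

theorem mem_principalMod_iff (m : LocSym.Pt c →₀ ℕ) (D : divAway c m) :
    D ∈ principalMod c m ↔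
      ∃ g : X.functionField, IsDivOf c (D : LocSym.Pt c →₀ ℤ) g ∧ LocSym.Cong1 m g := by
  constructor
  · intro h
    induction h using AddSubgroup.closure_induction with
    | mem D hD => exact hD
    | zero => exact ⟨1, isDivOf_one c hdim, fun x _ => Or.inl rfl⟩
    | add D E _ _ hD hE =>
      obtain ⟨g, hg, hgc⟩ := hD
      obtain ⟨h, hh, hhc⟩ := hE
      refine ⟨g * h, isDivOf_mul c hdim hg hh, fun x hx => ?_⟩
      exact C1_mul hdim (one_le_of_mem_support c m hx) hg.1 hh.1 (hgc x hx) (hhc x hx)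
    | neg D _ hD =>
      obtain ⟨g, hg, hgc⟩ := hD
      refine ⟨g⁻¹, isDivOf_inv c hdim hg, fun x hx => ?_⟩
      exact C1_inv hdim (one_le_of_mem_support c m hx) hg.1 (hgc x hx)
  · intro h
    exact AddSubgroup.subset_closure h

end Div


section Main

include hdim

lemma hasValueAt_of_C1 {x : LocSym.Pt c} {g : X.functionField} (_hg : g ≠ 0) {a : k} (ha : a ≠ 0)
    (h : C1 x 1 (g / LocSym.constFun c a)) : LocSym.HasValueAt x g a := by
  have hc0 := constFun_ne_zero c ha
  rcases h with h | h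
  · left
    rwa [div_eq_one_iff_eq hc0] at h
  · right
    have h1 : (1 : X.functionField) - g / LocSym.constFun c a =
        -((g - LocSym.constFun c a) / LocSym.constFun c a) := by
      field_simp; ring
    have hne : g - LocSym.constFun c a ≠ 0 := by
      intro h0
      rw [h1, h0, zero_div, neg_zero, ord_zero hdim] at h
      norm_num at h
    rw [h1, ord_neg c hdim, ord_div c hdim x hne hc0, ord_constFun c x ha, sub_zero] at h
    have : (1 : ℤ) ≤ x.ord (g - LocSym.constFun c a) := by exact_mod_cast h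
    omega

omit [IsIntegral X] [IsProper c] [Smooth c] hdim in
lemma m_eq_one (m : LocSym.Pt c →₀ ℕ) (hm : ∀ x : LocSym.Pt c, m x ≤ 1) {x : LocSym.Pt c}
    (hx : x ∈ m.support) : m x = 1 := by
  have := one_le_of_mem_support c m hx
  have := hm x
  omega

theorem picModToPic_surjective (m : LocSym.Pt c →₀ ℕ) :
    Function.Surjective (picModToPic c m) := by
  intro y
  obtain ⟨D, rfl⟩ := QuotientAddGroup.mk_surjective y
  obtain ⟨g, hg0, hg⟩ := exists_ord_eq c hdim m.support (fun x => D x)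
  have hE : D - divFn c hdim g hg0 ∈ divAway c m := by
    intro x hx
    rw [Finsupp.sub_apply, divFn_apply, hg x hx, sub_self]
  refine ⟨QuotientAddGroup.mk ⟨D - divFn c hdim g hg0, hE⟩, ?_⟩
  show (QuotientAddGroup.mk (D - divFn c hdim g hg0) : Pic c) = QuotientAddGroup.mk D
  rw [QuotientAddGroup.eq]
  have : -(D - divFn c hdim g hg0) + D = divFn c hdim g hg0 := by abel
  rw [this]
  exact AddSubgroup.subset_closure ⟨g, isDivOf_divFn c hdim g hg0⟩

theorem picModToPic_eq_zero_iff (m : LocSym.Pt c →₀ ℕ) (y : PicMod c m) :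
    picModToPic c m y = 0 ↔
      ∃ (g : X.functionField) (D : divAway c m) (v : LocSym.Pt c → kˣ),
        IsDivOf c (D : LocSym.Pt c →₀ ℤ) g ∧
        (∀ x ∈ m.support, LocSym.HasValueAt x g (v x : k)) ∧
        y = (QuotientAddGroup.mk D : PicMod c m) := by
  constructor
  · intro hy
    obtain ⟨D₀, rfl⟩ := QuotientAddGroup.mk_surjective y
    have h1 : (QuotientAddGroup.mk (D₀ : LocSym.Pt c →₀ ℤ) : Pic c) = 0 := hy
    rw [QuotientAddGroup.eq_zero_iff, mem_principal_iff c hdim] at h1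
    obtain ⟨g, hg⟩ := h1
    have hval : ∀ x ∈ m.support, ∃ a : kˣ, LocSym.HasValueAt x g (a : k) := by
      intro x hx
      have hord : x.ord g = 0 := by rw [← hg.2 x]; exact D₀.2 x hx
      obtain ⟨a, ha, ha0⟩ := exists_value c hdim x hg.1 hord.ge
      exact ⟨Units.mk0 a (ha0 hord), ha⟩
    choose! v hv using hval
    exact ⟨g, D₀, v, hg, hv, rfl⟩
  · rintro ⟨g, D, v, hg, -, rfl⟩
    show (QuotientAddGroup.mk (D : LocSym.Pt c →₀ ℤ) : Pic c) = 0
    rw [QuotientAddGroup.eq_zero_iff]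
    exact AddSubgroup.subset_closure ⟨g, hg⟩

theorem exists_function_with_values [IsAlgClosed k] (m : LocSym.Pt c →₀ ℕ)
    (hm : ∀ x : LocSym.Pt c, m x ≤ 1) (v : LocSym.Pt c → kˣ) :
    ∃ (g : X.functionField) (D : divAway c m),
      IsDivOf c (D : LocSym.Pt c →₀ ℤ) g ∧
      (∀ x ∈ m.support, LocSym.HasValueAt x g (v x : k)) ∧
      ((QuotientAddGroup.mk D : PicMod c m) = 0 ↔ ∃ a : kˣ, ∀ x ∈ m.support, v x = a) := by
  obtain ⟨g, hg0, hg⟩ := exists_approx_family c hdim m.support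
    (fun x => LocSym.constFun c (v x : k)) (fun x _ => constFun_ne_zero c (v x).ne_zero) 1 le_rfl
  have hordS : ∀ x ∈ m.support, x.ord g = 0 := fun x hx => by
    rw [ord_eq_of_C1 c hdim le_rfl hg0 (constFun_ne_zero c (v x).ne_zero) (hg x hx),
      ord_constFun c x (v x).ne_zero]
  have hD : divFn c hdim g hg0 ∈ divAway c m := fun x hx => by
    rw [divFn_apply]; exact hordS x hx
  have hvalg : ∀ x ∈ m.support, LocSym.HasValueAt x g (v x : k) := fun x hx =>
    hasValueAt_of_C1 c hdim hg0 (v x).ne_zero (hg x hx)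
  refine ⟨g, ⟨divFn c hdim g hg0, hD⟩, isDivOf_divFn c hdim g hg0, hvalg, ?_⟩
  rw [QuotientAddGroup.eq_zero_iff, mem_principalMod_iff c hdim]
  constructor
  · rintro ⟨h, hh, hhc⟩
    by_cases hS : m.support.Nonempty
    · obtain ⟨x₀, hx₀⟩ := hS
      have hu0 : g / h ≠ 0 := div_ne_zero hg0 hh.1
      have hu : ∀ x : LocSym.Pt c, x.ord (g / h) = 0 := fun x => by
        rw [ord_div c hdim x hg0 hh.1, ← hh.2 x]
        show x.ord g - divFn c hdim g hg0 x = 0
        rw [divFn_apply, sub_self]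
      obtain ⟨a, ha, hua⟩ := exists_const_of_ord_eq_zero c hdim x₀ hu0 hu
      have hgah : g = LocSym.constFun c a * h := by
        rw [← hua]; field_simp [hh.1]
      refine ⟨Units.mk0 a ha, fun x hx => ?_⟩
      apply Units.ext
      show (v x : k) = a
      apply value_unique c hdim x (hvalg x hx)
      have hc := hhc x hx
      rw [show LocSym.Cong1At m x h = C1 x (m x) h from rfl, m_eq_one c m hm hx] at hc
      rcases hc with hc | hc
      · left; rw [hgah, hc, mul_one]
      · right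
        obtain ⟨hz, -⟩ := C1.ne_zero_and hdim le_rfl hh.1 hc
        have h1 : g - LocSym.constFun c a = -(LocSym.constFun c a * (1 - h)) := by
          rw [hgah]; ring
        rw [h1, ord_neg c hdim, ord_mul c hdim x (constFun_ne_zero c ha) hz,
          ord_constFun c x ha, zero_add]
        have : (1 : ℤ) ≤ x.ord (1 - h) := by exact_mod_cast hc
        omega
    · refine ⟨1, fun x hx => absurd ⟨x, hx⟩ hS⟩
  · rintro ⟨a, ha⟩
    have hc0 := constFun_ne_zero c a.ne_zero
    refine ⟨g / LocSym.constFun c (a : k), ⟨div_ne_zero hg0 hc0, fun x => ?_⟩, fun x hx => ?_⟩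
    · show divFn c hdim g hg0 x = _
      rw [divFn_apply, ord_div c hdim x hg0 hc0, ord_constFun c x a.ne_zero, sub_zero]
    · rw [show LocSym.Cong1At m x (g / LocSym.constFun c (a : k)) =
        C1 x (m x) (g / LocSym.constFun c (a : k)) from rfl, m_eq_one c m hm hx, ← ha x hx]
      exact hg x hx

theorem main_S14182 [IsAlgClosed k] (m : LocSym.Pt c →₀ ℕ) (hm : ∀ x : LocSym.Pt c, m x ≤ 1) :
    Function.Surjective (picModToPic c m) ∧
    (∀ y : PicMod c m, picModToPic c m y = 0 ↔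
      ∃ (g : X.functionField) (D : divAway c m) (v : LocSym.Pt c → kˣ),
        IsDivOf c (D : LocSym.Pt c →₀ ℤ) g ∧ (∀ x ∈ m.support, LocSym.HasValueAt x g (v x : k)) ∧
        y = (QuotientAddGroup.mk D : PicMod c m)) ∧
    (∀ v : LocSym.Pt c → kˣ, ∃ (g : X.functionField) (D : divAway c m),
        IsDivOf c (D : LocSym.Pt c →₀ ℤ) g ∧ (∀ x ∈ m.support, LocSym.HasValueAt x g (v x : k)) ∧
        ((QuotientAddGroup.mk D : PicMod c m) = 0 ↔ ∃ a : kˣ, ∀ x ∈ m.support, v x = a)) :=
  ⟨picModToPic_surjective c hdim m, picModToPic_eq_zero_iff c hdim m,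
    exists_function_with_values c hdim m hm⟩

end Main

end Groth.Agent.Lib.T2H3.PicMod
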