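import Mathlib
import Groth.Prelude.Def_W4c1etcurveeff2PicMod
import Groth.Agent.Lib.T2H3PicMod

/-!
# Torsion in the generalised Picard group of a reduced modulus (helper3)

Namespace `Groth.Agent.Lib.T2H3.PicModTors`.
-/

set_option autoImplicit false
set_option linter.style.haveILetI false
universe v u
open CategoryTheory CategoryTheory.Limits AlgebraicGeometry TopologicalSpace

namespace Groth.Agent.Lib.T2H3.PicModTors

open Groth.Agent.Lib.T1H3.LocSymDVR Groth.Agent.Lib.T1H3.LocSymFin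
  Groth.Agent.Lib.T1H3.LocSymApprox Groth.Agent.Lib.T1H3.LocSymUniq
  Groth.Agent.Lib.T1H3.LocSymExist Groth.Agent.Lib.T1H3.LocSymCrit
  Groth.Agent.Lib.T2H3.LocSymValue Groth.Agent.Lib.T2H3.PicMod W4c1etcurveeff2

variable {k : Type u} [Field k] {X : Scheme.{u}} [IsIntegral X]
  (c : X ⟶ Spec (CommRingCat.of k)) [IsProper c] [Smooth c]
  (hdim : topologicalKrullDim X = 1) (m : LocSym.Pt c →₀ ℕ)

/-- `g` is nonzero and takes the nonzero value `v x` at every point `x` of the support of `m`. -/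
def IsVal (g : X.functionField) (v : LocSym.Pt c → kˣ) : Prop :=
  g ≠ 0 ∧ ∀ x ∈ m.support, C1 x 1 (g / LocSym.constFun c (v x : k))

section IsVal

variable {c m}

omit [IsProper c] [Smooth c] in
lemma isVal_const (a : kˣ) : IsVal c m (LocSym.constFun c (a : k)) (fun _ => a) :=
  ⟨constFun_ne_zero c a.ne_zero, fun _ _ => Or.inl (div_self (constFun_ne_zero c a.ne_zero))⟩

omit [IsProper c] [Smooth c] in
lemma isVal_one : IsVal c m (1 : X.functionField) (fun _ => 1) := by
  have := isVal_const (c := c) (m := m) (1 : kˣ)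
  simpa using this

include hdim

lemma IsVal.ord_eq_zero {g : X.functionField} {v : LocSym.Pt c → kˣ} (h : IsVal c m g v)
    {x : LocSym.Pt c} (hx : x ∈ m.support) : x.ord g = 0 := by
  rw [ord_eq_of_C1 c hdim le_rfl h.1 (constFun_ne_zero c (v x).ne_zero) (h.2 x hx),
    ord_constFun c x (v x).ne_zero]

lemma IsVal.mul {g g' : X.functionField} {v v' : LocSym.Pt c → kˣ} (h : IsVal c m g v)
    (h' : IsVal c m g' v') : IsVal c m (g * g') (v * v') := by
  refine ⟨mul_ne_zero h.1 h'.1, fun x hx => ?_⟩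
  have hc := constFun_ne_zero c (v x).ne_zero
  have hc' := constFun_ne_zero c (v' x).ne_zero
  have : g * g' / LocSym.constFun c (((v * v') x : kˣ) : k) =
      (g / LocSym.constFun c (v x : k)) * (g' / LocSym.constFun c (v' x : k)) := by
    rw [Pi.mul_apply, Units.val_mul, map_mul]; field_simp
  rw [this]
  exact C1_mul hdim le_rfl (div_ne_zero h.1 hc) (div_ne_zero h'.1 hc') (h.2 x hx) (h'.2 x hx)

lemma IsVal.inv {g : X.functionField} {v : LocSym.Pt c → kˣ} (h : IsVal c m g v) :
    IsVal c m g⁻¹ v⁻¹ := by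
  refine ⟨inv_ne_zero h.1, fun x hx => ?_⟩
  have hc := constFun_ne_zero c (v x).ne_zero
  have : g⁻¹ / LocSym.constFun c (((v⁻¹) x : kˣ) : k) = (g / LocSym.constFun c (v x : k))⁻¹ := by
    rw [Pi.inv_apply, Units.val_inv_eq_inv_val, map_inv₀]; field_simp
  rw [this]
  exact C1_inv hdim le_rfl (div_ne_zero h.1 hc) (h.2 x hx)

lemma IsVal.pow {g : X.functionField} {v : LocSym.Pt c → kˣ} (h : IsVal c m g v) (n : ℕ) :
    IsVal c m (g ^ n) (v ^ n) := by
  induction n with
  | zero =>
    rw [pow_zero, pow_zero]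
    exact isVal_one (c := c) (m := m)
  | succ n ih => rw [pow_succ, pow_succ]; exact IsVal.mul hdim ih h

lemma IsVal.hasValueAt {g : X.functionField} {v : LocSym.Pt c → kˣ} (h : IsVal c m g v)
    {x : LocSym.Pt c} (hx : x ∈ m.support) : LocSym.HasValueAt x g (v x : k) :=
  hasValueAt_of_C1 c hdim h.1 (v x).ne_zero (h.2 x hx)

lemma IsVal.of_hasValueAt {g : X.functionField} (hg : g ≠ 0) {v : LocSym.Pt c → kˣ}
    (h : ∀ x ∈ m.support, LocSym.HasValueAt x g (v x : k)) : IsVal c m g v := by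
  refine ⟨hg, fun x hx => ?_⟩
  have hc0 := constFun_ne_zero c (v x).ne_zero
  rcases h x hx with h1 | h1
  · left; rw [h1, div_self hc0]
  · right
    have hne : g - LocSym.constFun c (v x : k) ≠ 0 := by
      intro h0; rw [h0, ord_zero hdim] at h1; omega
    have h2 : (1 : X.functionField) - g / LocSym.constFun c (v x : k) =
        -((g - LocSym.constFun c (v x : k)) / LocSym.constFun c (v x : k)) := by
      field_simp; ring
    rw [h2, ord_neg c hdim, ord_div c hdim x hne hc0, ord_constFun c x (v x).ne_zero, sub_zero]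
    push_cast
    omega

lemma IsVal.unique {g : X.functionField} {v v' : LocSym.Pt c → kˣ} (h : IsVal c m g v)
    (h' : IsVal c m g v') {x : LocSym.Pt c} (hx : x ∈ m.support) : v x = v' x :=
  Units.ext (value_unique c hdim x (h.hasValueAt hdim hx) (h'.hasValueAt hdim hx))

lemma exists_isVal (v : LocSym.Pt c → kˣ) : ∃ g : X.functionField, IsVal c m g v := by
  obtain ⟨g, hg0, hg⟩ := exists_approx_family c hdim m.support
    (fun x => LocSym.constFun c (v x : k)) (fun x _ => constFun_ne_zero c (v x).ne_zero) 1 le_rfl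
  exact ⟨g, hg0, hg⟩

end IsVal


section Cl

include hdim

/-- The divisor of a function with values on the support of `m`, as a divisor away from `m`. -/
noncomputable def dv (g : X.functionField) (v : LocSym.Pt c → kˣ) (h : IsVal c m g v) :
    divAway c m :=
  ⟨divFn c hdim g h.1, fun x hx => by rw [divFn_apply]; exact h.ord_eq_zero hdim hx⟩

/-- The class in the generalised Picard group of the divisor of such a function. -/
noncomputable def cl (g : X.functionField) (v : LocSym.Pt c → kˣ) (h : IsVal c m g v) :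
    PicMod c m :=
  QuotientAddGroup.mk (dv c hdim m g v h)

lemma divFn_mul {g g' : X.functionField} (hg : g ≠ 0) (hg' : g' ≠ 0) :
    divFn c hdim (g * g') (mul_ne_zero hg hg') = divFn c hdim g hg + divFn c hdim g' hg' := by
  ext x
  rw [Finsupp.add_apply, divFn_apply, divFn_apply, divFn_apply, ord_mul c hdim x hg hg']

lemma divFn_inv {g : X.functionField} (hg : g ≠ 0) :
    divFn c hdim g⁻¹ (inv_ne_zero hg) = - divFn c hdim g hg := by
  ext x
  rw [Finsupp.neg_apply, divFn_apply, divFn_apply, ord_inv c hdim x hg]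

lemma cl_mul {g g' : X.functionField} {v v' : LocSym.Pt c → kˣ} (h : IsVal c m g v)
    (h' : IsVal c m g' v') :
    cl c hdim m (g * g') (v * v') (h.mul hdim h') = cl c hdim m g v h + cl c hdim m g' v' h' := by
  unfold cl
  rw [← QuotientAddGroup.mk_add]
  congr 1
  exact Subtype.ext (divFn_mul c hdim h.1 h'.1)

lemma cl_inv {g : X.functionField} {v : LocSym.Pt c → kˣ} (h : IsVal c m g v) :
    cl c hdim m g⁻¹ v⁻¹ (h.inv hdim) = - cl c hdim m g v h := by
  unfold cl
  rw [← QuotientAddGroup.mk_neg]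
  congr 1
  exact Subtype.ext (divFn_inv c hdim h.1)

lemma cl_one (h : IsVal c m (1 : X.functionField) (fun _ => 1)) :
    cl c hdim m 1 (fun _ => 1) h = 0 := by
  unfold cl
  rw [QuotientAddGroup.eq_zero_iff]
  have : dv c hdim m 1 (fun _ => 1) h = 0 := by
    apply Subtype.ext
    ext x
    show divFn c hdim 1 h.1 x = 0
    rw [divFn_apply, ord_one c hdim x]
  rw [this]
  exact zero_mem _

lemma cl_eq_of_eq {g g' : X.functionField} {v v' : LocSym.Pt c → kˣ} (h : IsVal c m g v)
    (h' : IsVal c m g' v') (hg : g = g') (hv : v = v') :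
    cl c hdim m g v h = cl c hdim m g' v' h' := by
  subst hg; subst hv; rfl

lemma cl_pow {g : X.functionField} {v : LocSym.Pt c → kˣ} (h : IsVal c m g v) (n : ℕ) :
    cl c hdim m (g ^ n) (v ^ n) (h.pow hdim n) = n • cl c hdim m g v h := by
  induction n with
  | zero =>
    have h1 : IsVal c m (1 : X.functionField) (fun _ => 1) := isVal_one
    rw [cl_eq_of_eq c hdim m (h.pow hdim 0) h1 (pow_zero g) (pow_zero v), cl_one c hdim m h1]
    exact (zero_nsmul _).symm
  | succ n ih =>
    rw [cl_eq_of_eq c hdim m (h.pow hdim (n + 1)) ((h.pow hdim n).mul hdim h) (pow_succ g n)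
      (pow_succ v n), cl_mul c hdim m (h.pow hdim n) h, ih, succ_nsmul]

lemma picModToPic_cl {g : X.functionField} {v : LocSym.Pt c → kˣ} (h : IsVal c m g v) :
    picModToPic c m (cl c hdim m g v h) = 0 :=
  (picModToPic_eq_zero_iff c hdim m _).mpr
    ⟨g, dv c hdim m g v h, v, isDivOf_divFn c hdim g h.1, fun _ hx => h.hasValueAt hdim hx, rfl⟩

lemma exists_cl_of_ker (y : PicMod c m) (hy : picModToPic c m y = 0) :
    ∃ (g : X.functionField) (v : LocSym.Pt c → kˣ) (h : IsVal c m g v), y = cl c hdim m g v h := by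
  obtain ⟨g, D, v, hD, hv, rfl⟩ := (picModToPic_eq_zero_iff c hdim m y).mp hy
  have h : IsVal c m g v := IsVal.of_hasValueAt hdim hD.1 hv
  refine ⟨g, v, h, ?_⟩
  unfold cl
  congr 1
  apply Subtype.ext
  ext x
  show (D : LocSym.Pt c →₀ ℤ) x = divFn c hdim g h.1 x
  rw [hD.2 x, divFn_apply]

lemma cl_eq_zero_of_const (hm : ∀ x : LocSym.Pt c, m x ≤ 1) {g : X.functionField}
    {v : LocSym.Pt c → kˣ} (h : IsVal c m g v) (a : kˣ) (ha : ∀ x ∈ m.support, v x = a) :
    cl c hdim m g v h = 0 := by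
  unfold cl
  rw [QuotientAddGroup.eq_zero_iff, mem_principalMod_iff c hdim]
  have hc0 := constFun_ne_zero c a.ne_zero
  refine ⟨g / LocSym.constFun c (a : k), ⟨div_ne_zero h.1 hc0, fun x => ?_⟩, fun x hx => ?_⟩
  · show divFn c hdim g h.1 x = _
    rw [divFn_apply, ord_div c hdim x h.1 hc0, ord_constFun c x a.ne_zero, sub_zero]
  · rw [show LocSym.Cong1At m x (g / LocSym.constFun c (a : k)) =
      C1 x (m x) (g / LocSym.constFun c (a : k)) from rfl, m_eq_one c m hm hx, ← ha x hx]
    exact h.2 x hx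

lemma exists_const_of_cl_eq_zero [IsAlgClosed k] (hm : ∀ x : LocSym.Pt c, m x ≤ 1)
    {g : X.functionField} {v : LocSym.Pt c → kˣ} (h : IsVal c m g v)
    (h0 : cl c hdim m g v h = 0) : ∃ a : kˣ, ∀ x ∈ m.support, v x = a := by
  unfold cl at h0
  rw [QuotientAddGroup.eq_zero_iff, mem_principalMod_iff c hdim] at h0
  obtain ⟨f, hf, hfc⟩ := h0
  by_cases hS : m.support.Nonempty
  · obtain ⟨x₀, hx₀⟩ := hS
    have hu0 : g / f ≠ 0 := div_ne_zero h.1 hf.1
    have hu : ∀ x : LocSym.Pt c, x.ord (g / f) = 0 := fun x => by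
      rw [ord_div c hdim x h.1 hf.1, ← hf.2 x]
      show x.ord g - divFn c hdim g h.1 x = 0
      rw [divFn_apply, sub_self]
    obtain ⟨a, ha, hua⟩ := exists_const_of_ord_eq_zero c hdim x₀ hu0 hu
    have hgaf : g = LocSym.constFun c a * f := by
      rw [← hua]; field_simp [hf.1]
    refine ⟨Units.mk0 a ha, fun x hx => ?_⟩
    apply Units.ext
    show (v x : k) = a
    apply value_unique c hdim x (h.hasValueAt hdim hx)
    have hc := hfc x hx
    rw [show LocSym.Cong1At m x f = C1 x (m x) f from rfl, m_eq_one c m hm hx] at hc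
    rcases hc with hc | hc
    · left; rw [hgaf, hc, mul_one]
    · right
      obtain ⟨hz, -⟩ := C1.ne_zero_and hdim le_rfl hf.1 hc
      have h1 : g - LocSym.constFun c a = -(LocSym.constFun c a * (1 - f)) := by
        rw [hgaf]; ring
      rw [h1, ord_neg c hdim, ord_mul c hdim x (constFun_ne_zero c ha) hz,
        ord_constFun c x ha, zero_add]
      have : (1 : ℤ) ≤ x.ord (1 - f) := by exact_mod_cast hc
      omega
  · exact ⟨1, fun x hx => absurd ⟨x, hx⟩ hS⟩

lemma cl_congr (hm : ∀ x : LocSym.Pt c, m x ≤ 1) {g g' : X.functionField}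
    {v v' : LocSym.Pt c → kˣ} (h : IsVal c m g v) (h' : IsVal c m g' v')
    (hvv : ∀ x ∈ m.support, v x = v' x) : cl c hdim m g v h = cl c hdim m g' v' h' := by
  have h1 := cl_mul c hdim m h (h'.inv hdim)
  have h2 : cl c hdim m (g * g'⁻¹) (v * v'⁻¹) (h.mul hdim (h'.inv hdim)) = 0 := by
    apply cl_eq_zero_of_const c hdim m hm _ 1
    intro x hx
    rw [Pi.mul_apply, Pi.inv_apply, hvv x hx, mul_inv_cancel]
  rw [h2, cl_inv] at h1
  exact (sub_eq_zero.mp (by rw [sub_eq_add_neg]; exact h1.symm))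

end Cl


section Main

include hdim

lemma ord_pow (x : LocSym.Pt c) {f : X.functionField} (hf : f ≠ 0) (n : ℕ) :
    x.ord (f ^ n) = n * x.ord f := by
  have := ord_zpow c hdim x hf (n : ℤ)
  rwa [zpow_natCast] at this

lemma cl_congr_const (hm : ∀ x : LocSym.Pt c, m x ≤ 1) {g g' : X.functionField}
    {v v' : LocSym.Pt c → kˣ} (h : IsVal c m g v) (h' : IsVal c m g' v') (b : kˣ)
    (hvv : ∀ x ∈ m.support, v x = b * v' x) : cl c hdim m g v h = cl c hdim m g' v' h' := by
  have h1 := cl_mul c hdim m h (h'.inv hdim)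
  have h2 : cl c hdim m (g * g'⁻¹) (v * v'⁻¹) (h.mul hdim (h'.inv hdim)) = 0 := by
    apply cl_eq_zero_of_const c hdim m hm _ b
    intro x hx
    rw [Pi.mul_apply, Pi.inv_apply, hvv x hx, mul_inv_cancel_right]
  rw [h2, cl_inv] at h1
  exact (sub_eq_zero.mp (by rw [sub_eq_add_neg]; exact h1.symm))

/-- Every `n`-torsion class of `Pic` lifts to an `n`-torsion class of `Pic_m` (reduced modulus,
algebraically closed base field). -/
theorem torsion_surj [IsAlgClosed k] (hm : ∀ x : LocSym.Pt c, m x ≤ 1) (n : ℕ) (hn : 1 ≤ n)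
    (y : Pic c) (hy : n • y = 0) :
    ∃ x : PicMod c m, n • x = 0 ∧ picModToPic c m x = y := by
  obtain ⟨D, rfl⟩ := QuotientAddGroup.mk_surjective y
  rw [← QuotientAddGroup.mk_nsmul, QuotientAddGroup.eq_zero_iff, mem_principal_iff c hdim] at hy
  obtain ⟨f, hf0, hf⟩ := hy
  obtain ⟨g, hg0, hg⟩ := exists_ord_eq c hdim m.support (fun x => D x)
  have hgn0 : g ^ n ≠ 0 := pow_ne_zero n hg0
  have hf'0 : f / g ^ n ≠ 0 := div_ne_zero hf0 hgn0
  have hord : ∀ x ∈ m.support, x.ord (f / g ^ n) = 0 := fun x hx => by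
    rw [ord_div c hdim x hf0 hgn0, ord_pow c hdim x hg0 n, ← hf x, Finsupp.smul_apply, hg x hx,
      nsmul_eq_mul, sub_self]
  have hval : ∀ x : LocSym.Pt c, ∃ a : kˣ,
      x ∈ m.support → LocSym.HasValueAt x (f / g ^ n) (a : k) := fun x => by
    by_cases hx : x ∈ m.support
    · obtain ⟨a, ha, ha0⟩ := exists_value c hdim x hf'0 (hord x hx).ge
      exact ⟨Units.mk0 a (ha0 (hord x hx)), fun _ => ha⟩
    · exact ⟨1, fun h => absurd h hx⟩
  choose a ha using hval
  have hfa : IsVal c m (f / g ^ n) a := IsVal.of_hasValueAt hdim hf'0 (fun x hx => ha x hx)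
  have hroot : ∀ x : LocSym.Pt c, ∃ w : kˣ, w ^ n = (a x)⁻¹ := fun x => by
    obtain ⟨z, hz⟩ := IsAlgClosed.exists_pow_nat_eq (((a x)⁻¹ : kˣ) : k) (by omega : 0 < n)
    have hz0 : z ≠ 0 := by
      rintro rfl
      rw [zero_pow (by omega)] at hz
      exact (Units.ne_zero _) hz.symm
    refine ⟨Units.mk0 z hz0, Units.ext ?_⟩
    rw [Units.val_pow_eq_pow_val, Units.val_mk0, hz]
  choose w hw using hroot
  obtain ⟨W, hW⟩ := exists_isVal (c := c) (m := m) hdim w
  have hWg0 : W / g ≠ 0 := div_ne_zero hW.1 hg0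
  have hEaway : D + divFn c hdim (W / g) hWg0 ∈ divAway c m := fun x hx => by
    rw [Finsupp.add_apply, divFn_apply, ord_div c hdim x hW.1 hg0, hW.ord_eq_zero hdim hx,
      hg x hx]
    ring
  refine ⟨QuotientAddGroup.mk ⟨D + divFn c hdim (W / g) hWg0, hEaway⟩, ?_, ?_⟩
  · have hV : IsVal c m (f / g ^ n * W ^ n) (a * w ^ n) := hfa.mul hdim (hW.pow hdim n)
    have h0 : cl c hdim m (f / g ^ n * W ^ n) (a * w ^ n) hV = 0 := by
      apply cl_eq_zero_of_const c hdim m hm hV 1
      intro x hx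
      rw [Pi.mul_apply, Pi.pow_apply, hw x, mul_inv_cancel]
    rw [← h0, ← QuotientAddGroup.mk_nsmul]
    unfold cl
    congr 1
    apply Subtype.ext
    ext x
    show (n • (D + divFn c hdim (W / g) hWg0)) x = divFn c hdim (f / g ^ n * W ^ n) hV.1 x
    rw [divFn_apply, Finsupp.smul_apply, Finsupp.add_apply, divFn_apply,
      ord_mul c hdim x hf'0 (pow_ne_zero n hW.1), ord_div c hdim x hf0 hgn0,
      ord_pow c hdim x hg0 n, ord_pow c hdim x hW.1 n, ord_div c hdim x hW.1 hg0, ← hf x,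
      Finsupp.smul_apply, nsmul_eq_mul, nsmul_eq_mul]
    ring
  · show (QuotientAddGroup.mk (D + divFn c hdim (W / g) hWg0) : Pic c) = QuotientAddGroup.mk D
    rw [QuotientAddGroup.eq]
    have : -(D + divFn c hdim (W / g) hWg0) + D = - divFn c hdim (W / g) hWg0 := by abel
    rw [this]
    exact neg_mem (AddSubgroup.subset_closure ⟨W / g, isDivOf_divFn c hdim _ hWg0⟩)

open Classical in
/-- Extend a family of roots of unity on a finite set of points by `1`. -/
noncomputable def vOf (F : Finset (LocSym.Pt c)) (n : ℕ) (ζ : F → rootsOfUnity n k) :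
    LocSym.Pt c → kˣ :=
  fun x => if h : x ∈ F then ((ζ ⟨x, h⟩ : rootsOfUnity n k) : kˣ) else 1

omit hdim [IsIntegral X] [IsProper c] [Smooth c] in
lemma vOf_mem (F : Finset (LocSym.Pt c)) (n : ℕ) (ζ : F → rootsOfUnity n k) {x : LocSym.Pt c}
    (h : x ∈ F) : vOf c F n ζ x = ((ζ ⟨x, h⟩ : rootsOfUnity n k) : kˣ) := by
  unfold vOf; rw [dif_pos h]

omit hdim [IsIntegral X] [IsProper c] [Smooth c] in
lemma vOf_not_mem (F : Finset (LocSym.Pt c)) (n : ℕ) (ζ : F → rootsOfUnity n k) {x : LocSym.Pt c}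
    (h : x ∉ F) : vOf c F n ζ x = 1 := by
  unfold vOf; rw [dif_neg h]

omit hdim [IsIntegral X] [IsProper c] [Smooth c] in
lemma vOf_pow (F : Finset (LocSym.Pt c)) (n : ℕ) (ζ : F → rootsOfUnity n k) (x : LocSym.Pt c) :
    (vOf c F n ζ x) ^ n = 1 := by
  by_cases h : x ∈ F
  · rw [vOf_mem c F n ζ h]
    exact (mem_rootsOfUnity n _).mp (ζ ⟨x, h⟩).2
  · rw [vOf_not_mem c F n ζ h, one_pow]

/-- The `n`-torsion classes of `Pic_m` that die in `Pic` are `n^(s-1)` in number. -/
theorem card_ker [IsAlgClosed k] (hm : ∀ x : LocSym.Pt c, m x ≤ 1) (n : ℕ) (hn : 1 ≤ n)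
    (hnk : (n : k) ≠ 0) :
    Nat.card {x : PicMod c m // n • x = 0 ∧ picModToPic c m x = 0} =
      n ^ (m.support.card - 1) := by
  classical
  haveI : NeZero (n : k) := ⟨hnk⟩
  haveI : NeZero n := ⟨by omega⟩
  by_cases hS : m.support.Nonempty
  · obtain ⟨x₀, hx₀⟩ := hS
    have hx₀F : x₀ ∉ m.support.erase x₀ := Finset.notMem_erase x₀ _
    have hgex : ∀ ζ : ↥(m.support.erase x₀) → rootsOfUnity n k,
        ∃ g : X.functionField, IsVal c m g (vOf c (m.support.erase x₀) n ζ) :=
      fun ζ => exists_isVal hdim _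
    choose G hG using hgex
    have hn0 : ∀ ζ, n • cl c hdim m (G ζ) (vOf c (m.support.erase x₀) n ζ) (hG ζ) = 0 := by
      intro ζ
      rw [← cl_pow]
      apply cl_eq_zero_of_const c hdim m hm _ 1
      intro x _
      rw [Pi.pow_apply, vOf_pow]
    let Ψ : (↥(m.support.erase x₀) → rootsOfUnity n k) →
        {x : PicMod c m // n • x = 0 ∧ picModToPic c m x = 0} :=
      fun ζ => ⟨cl c hdim m (G ζ) (vOf c (m.support.erase x₀) n ζ) (hG ζ), hn0 ζ,
        picModToPic_cl c hdim m (hG ζ)⟩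
    have hinj : Function.Injective Ψ := by
      intro ζ ζ' hζ
      have hcl : cl c hdim m (G ζ) (vOf c (m.support.erase x₀) n ζ) (hG ζ) =
          cl c hdim m (G ζ') (vOf c (m.support.erase x₀) n ζ') (hG ζ') :=
        congrArg Subtype.val hζ
      have h1 := cl_mul c hdim m (hG ζ) ((hG ζ').inv hdim)
      rw [cl_inv c hdim m (hG ζ'), hcl, add_neg_cancel] at h1
      obtain ⟨a, ha⟩ := exists_const_of_cl_eq_zero c hdim m hm _ h1
      have ha1 : a = 1 := by
        rw [← ha x₀ hx₀, Pi.mul_apply, Pi.inv_apply, vOf_not_mem c _ n ζ hx₀F,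
          vOf_not_mem c _ n ζ' hx₀F, inv_one, mul_one]
      funext x
      have hxS : x.1 ∈ m.support := Finset.mem_of_mem_erase x.2
      have := ha x.1 hxS
      rw [ha1, Pi.mul_apply, Pi.inv_apply, vOf_mem c _ n ζ x.2, vOf_mem c _ n ζ' x.2,
        mul_inv_eq_one] at this
      exact Subtype.ext this
    have hsurj : Function.Surjective Ψ := by
      intro t
      obtain ⟨g, v, h, ht⟩ := exists_cl_of_ker c hdim m t.1 t.2.2
      have htn := t.2.1
      rw [ht, ← cl_pow] at htn
      obtain ⟨a, ha⟩ := exists_const_of_cl_eq_zero c hdim m hm _ htn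
      have hroot : ∀ x : ↥(m.support.erase x₀),
          v x.1 / v x₀ ∈ rootsOfUnity n k := fun x => by
        rw [mem_rootsOfUnity, div_pow]
        have h1 := ha x.1 (Finset.mem_of_mem_erase x.2)
        have h2 := ha x₀ hx₀
        rw [Pi.pow_apply] at h1 h2
        rw [h1, h2, div_self']
      refine ⟨fun x => ⟨v x.1 / v x₀, hroot x⟩, ?_⟩
      apply Subtype.ext
      show cl c hdim m (G _) (vOf c (m.support.erase x₀) n _) (hG _) = t.1
      rw [ht]
      apply cl_congr_const c hdim m hm (hG _) h (v x₀)⁻¹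
      intro x hx
      by_cases hxx : x = x₀
      · subst hxx
        rw [vOf_not_mem c _ n _ hx₀F, inv_mul_cancel]
      · have hxF : x ∈ m.support.erase x₀ := Finset.mem_erase.mpr ⟨hxx, hx⟩
        rw [vOf_mem c _ n _ hxF]
        show v x / v x₀ = (v x₀)⁻¹ * v x
        rw [div_eq_mul_inv, mul_comm]
    rw [← Nat.card_congr (Equiv.ofBijective Ψ ⟨hinj, hsurj⟩), Nat.card_fun,
      HasEnoughRootsOfUnity.natCard_rootsOfUnity k n, Nat.card_eq_finsetCard,
      Finset.card_erase_of_mem hx₀]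
  · rw [Finset.not_nonempty_iff_eq_empty] at hS
    have hall : ∀ t : {x : PicMod c m // n • x = 0 ∧ picModToPic c m x = 0}, t.1 = 0 := by
      intro t
      obtain ⟨g, v, h, ht⟩ := exists_cl_of_ker c hdim m t.1 t.2.2
      rw [ht]
      apply cl_eq_zero_of_const c hdim m hm h 1
      intro x hx
      rw [hS] at hx
      exact absurd hx (Finset.notMem_empty x)
    rw [hS, Finset.card_empty, Nat.zero_sub, pow_zero, Nat.card_eq_one_iff_unique]
    refine ⟨⟨fun a b => Subtype.ext ((hall a).trans (hall b).symm)⟩, ⟨⟨0, ?_, map_zero _⟩⟩⟩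
    exact smul_zero n

/-- Statement S14183. -/
theorem main_S14183 [IsAlgClosed k] (hm : ∀ x : LocSym.Pt c, m x ≤ 1)
    (s : ℕ) (hs : m.support.card = s) (n : ℕ) (hn : 1 ≤ n) (hnk : (n : k) ≠ 0) :
    (∀ y : Pic c, n • y = 0 → ∃ x : PicMod c m, n • x = 0 ∧ picModToPic c m x = y) ∧
    Nat.card {x : PicMod c m // n • x = 0 ∧ picModToPic c m x = 0} = n ^ (s - 1) := by
  subst hs
  exact ⟨fun y hy => torsion_surj c hdim m hm n hn y hy, card_ker c hdim m hm n hn hnk⟩

end Main

end Groth.Agent.Lib.T2H3.PicModTors
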