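import Mathlib
import Groth.Prelude.Def_OmegaPn
import Groth.Agent.Lib.Helper18OmLS23

/-!
# Generation of the structure sheaf of the infinitesimal neighbourhoods of the diagonal
-/

set_option autoImplicit false
set_option linter.style.haveILetI false
set_option linter.unusedSectionVars false
universe u
open CategoryTheory CategoryTheory.Limits AlgebraicGeometry TopologicalSpace Opposite
open TensorProduct

namespace Groth.Agent.Lib.T2H3.PnGen

open Groth.Agent.Helper18OmLS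

section chart
variable {X S : Scheme.{u}} (f : X ⟶ S) {U : X.Opens} (hU : IsAffineOpen U) {V : S.Opens}
  (hV : IsAffineOpen V) (h : U ≤ f ⁻¹ᵁ V)

include hU hV h in
/-- G2a: the sections over the chart `pr₁⁻¹U ∩ pr₂⁻¹U` are sums of products `pr₁♯a · pr₂♯b`. -/
theorem mem_closure_pp (y : Γ(pullback f f, OmegaSh.diagNbhd f U)) :
    y ∈ AddSubgroup.closure (Set.range fun ab : Γ(X, U) × Γ(X, U) => pp₁ f U ab.1 * pp₂ f U ab.2) := by
  letI : Algebra Γ(S, V) Γ(X, U) := (f.appLE V U h).hom.toAlgebra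
  have halg : algebraMap Γ(S, V) Γ(X, U) = (f.appLE V U h).hom := rfl
  letI : Algebra Γ(S, V) Γ(pullback f f, OmegaSh.diagNbhd f U) :=
    ((pp₁ f U).comp (f.appLE V U h).hom).toAlgebra
  let a1 : Γ(X, U) →ₐ[Γ(S, V)] Γ(pullback f f, OmegaSh.diagNbhd f U) :=
    { pp₁ f U with commutes' := fun r => rfl }
  let a2 : Γ(X, U) →ₐ[Γ(S, V)] Γ(pullback f f, OmegaSh.diagNbhd f U) :=
    { pp₂ f U with commutes' := fun r => (congr($(pp₁_comp_cc f h) r)).symm }
  let μ : Γ(X, U) ⊗[Γ(S, V)] Γ(X, U) →ₐ[Γ(S, V)] Γ(pullback f f, OmegaSh.diagNbhd f U) :=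
    Algebra.TensorProduct.productMap a1 a2
  obtain ⟨ρ, ⟨hρ1, hρ2⟩, -⟩ := PO_ring f h hU hV (Γ(X, U) ⊗[Γ(S, V)] Γ(X, U))
    (Algebra.TensorProduct.includeLeftRingHom) (Algebra.TensorProduct.includeRight.toRingHom) (by
      ext r
      change (algebraMap Γ(S, V) Γ(X, U) r) ⊗ₜ[Γ(S, V)] (1 : Γ(X, U)) =
        (1 : Γ(X, U)) ⊗ₜ[Γ(S, V)] (algebraMap Γ(S, V) Γ(X, U) r)
      exact Algebra.TensorProduct.tmul_one_eq_one_tmul r)
  obtain ⟨ρ', -, huniq⟩ := PO_ring f h hU hV Γ(pullback f f, OmegaSh.diagNbhd f U)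
    (pp₁ f U) (pp₂ f U) (pp₁_comp_cc f h)
  have h1 : (μ.toRingHom.comp ρ) = ρ' := by
    apply huniq
    constructor
    · rw [RingHom.comp_assoc, hρ1]
      ext a
      change μ (a ⊗ₜ 1) = _
      rw [Algebra.TensorProduct.productMap_apply_tmul, map_one, mul_one]
      rfl
    · rw [RingHom.comp_assoc, hρ2]
      ext a
      change μ (1 ⊗ₜ a) = _
      rw [Algebra.TensorProduct.productMap_apply_tmul, map_one, one_mul]
      rfl
  have h2 : RingHom.id _ = ρ' := huniq _ ⟨rfl, rfl⟩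
  have h3 : y = μ (ρ y) := by
    have := congr($(h2.trans h1.symm) y)
    exact this
  rw [h3]
  induction ρ y using TensorProduct.induction_on with
  | zero => rw [map_zero]; exact zero_mem _
  | tmul a b =>
    rw [Algebra.TensorProduct.productMap_apply_tmul]
    exact AddSubgroup.subset_closure ⟨(a, b), rfl⟩
  | add x y hx hy => rw [map_add]; exact add_mem hx hy

include hU hV h in
/-- G2b: the affine chart `pr₁⁻¹U ∩ pr₂⁻¹U` of the diagonal lies in the open where the diagonal is closed. -/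
theorem diagNbhd_le_coborderRange :
    OmegaSh.diagNbhd f U ≤ (pullback.diagonal f).coborderRange := by
  have hD : IsAffineOpen (OmegaSh.diagNbhd f U) := isAffineOpen_diagNbhd f hU hV h
  have e1 : U ≤ pullback.diagonal f ⁻¹ᵁ (OmegaSh.diagNbhd f U) := OmegaSh.le_preimage_diagNbhd f U
  let ΔU : (U : Scheme.{u}) ⟶ (OmegaSh.diagNbhd f U : Scheme.{u}) :=
    (pullback.diagonal f).resLE (OmegaSh.diagNbhd f U) U e1
  let p1 : (OmegaSh.diagNbhd f U : Scheme.{u}) ⟶ (U : Scheme.{u}) :=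
    (pullback.fst f f).resLE U (OmegaSh.diagNbhd f U) inf_le_left
  have hc : ΔU ≫ p1 = 𝟙 _ := by
    rw [← cancel_mono U.ι]
    simp only [ΔU, p1, Category.assoc, Scheme.Hom.resLE_comp_ι, Scheme.Hom.resLE_comp_ι_assoc,
      pullback.diagonal_fst, Category.comp_id, Category.id_comp]
  haveI : IsAffine (U : Scheme.{u}) := hU
  haveI : IsAffine (OmegaSh.diagNbhd f U : Scheme.{u}) := hD
  haveI : IsClosedImmersion (ΔU ≫ p1) := by rw [hc]; infer_instance
  haveI : IsClosedImmersion ΔU := IsClosedImmersion.of_comp ΔU p1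
  have hcl : IsClosed (Set.range ΔU) := ΔU.isClosedEmbedding.isClosed_range
  intro p hpD
  change p ∈ coborder (Set.range (pullback.diagonal f))
  rw [coborder_eq_union_closure_compl]
  by_cases hpc : p ∈ closure (Set.range (pullback.diagonal f))
  · left
    let p' : (OmegaSh.diagNbhd f U).toScheme := ⟨p, hpD⟩
    have h2 : p' ∈ closure (Set.range ΔU) := by
      rw [mem_closure_iff]
      intro o ho hpo
      have ho' : IsOpen ((OmegaSh.diagNbhd f U).ι '' o) :=
        (OmegaSh.diagNbhd f U).ι.isOpenEmbedding.isOpenMap o ho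
      obtain ⟨q, hq1, ⟨x, rfl⟩⟩ := mem_closure_iff.1 hpc _ ho' ⟨p', hpo, rfl⟩
      obtain ⟨q', hq'o, hq'⟩ := hq1
      have hxD : pullback.diagonal f x ∈ OmegaSh.diagNbhd f U := by
        rw [← hq']
        exact q'.2
      have hxU : x ∈ U := by
        have := hxD.1
        change (pullback.diagonal f ≫ pullback.fst f f) x ∈ U at this
        rwa [pullback.diagonal_fst] at this
      refine ⟨q', hq'o, ⟨⟨x, hxU⟩, ?_⟩⟩
      apply (OmegaSh.diagNbhd f U).ι.isOpenEmbedding.injective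
      rw [hq']
      change (ΔU ≫ (OmegaSh.diagNbhd f U).ι) ⟨x, hxU⟩ = _
      rw [Scheme.Hom.resLE_comp_ι]
      rfl
    rw [hcl.closure_eq] at h2
    obtain ⟨x, hx⟩ := h2
    refine ⟨x.1, ?_⟩
    have h3 := congrArg (fun q : (OmegaSh.diagNbhd f U).toScheme => (OmegaSh.diagNbhd f U).ι q) hx
    change (ΔU ≫ (OmegaSh.diagNbhd f U).ι) x = p at h3
    rw [Scheme.Hom.resLE_comp_ι] at h3
    exact h3
  · right
    exact hpc

include hU hV h in
/-- G2c: sections of the infinitesimal neighbourhood over the chart lift to the product. -/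
theorem nbhdι_app_surjective (n : ℕ) :
    Function.Surjective ((PrinPart.nbhdι f n).app (OmegaSh.diagNbhd f U)) := by
  have hDO : OmegaSh.diagNbhd f U ≤ (pullback.diagonal f).coborderRange :=
    diagNbhd_le_coborderRange f hU hV h
  have hD : IsAffineOpen (OmegaSh.diagNbhd f U) := isAffineOpen_diagNbhd f hU hV h
  have hDr : OmegaSh.diagNbhd f U ≤ (pullback.diagonal f).coborderRange.ι.opensRange := by
    rw [Scheme.Opens.opensRange_ι]
    exact hDO
  have hD' : IsAffineOpen ((pullback.diagonal f).coborderRange.ι ⁻¹ᵁ OmegaSh.diagNbhd f U) :=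
    hD.preimage_of_isOpenImmersion _ hDr
  have h1 : (PrinPart.nbhdι f n).app (OmegaSh.diagNbhd f U) =
      (pullback.diagonal f).coborderRange.ι.app (OmegaSh.diagNbhd f U) ≫
        (PrinPart.infNbhdι (PrinPart.diagCl f) n).app
          ((pullback.diagonal f).coborderRange.ι ⁻¹ᵁ OmegaSh.diagNbhd f U) := rfl
  have h2 : IsIso ((pullback.diagonal f).coborderRange.ι.app (OmegaSh.diagNbhd f U)) :=
    Scheme.Hom.isIso_app _ _ hDr
  have h3 : Function.Surjective ((PrinPart.infNbhdι (PrinPart.diagCl f) n).app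
      ((pullback.diagonal f).coborderRange.ι ⁻¹ᵁ OmegaSh.diagNbhd f U)) :=
    ((PrinPart.diagCl f).ker ^ (n + 1)).subschemeι_app_surjective ⟨_, hD'⟩
  intro c
  obtain ⟨c1, hc1⟩ := h3 c
  obtain ⟨c2, hc2⟩ := (ConcreteCategory.bijective_of_isIso
    ((pullback.diagonal f).coborderRange.ι.app (OmegaSh.diagNbhd f U))).surjective c1
  refine ⟨c2, (congr($h1 c2)).trans ?_⟩
  change ((PrinPart.infNbhdι (PrinPart.diagCl f) n).app _)
    (((pullback.diagonal f).coborderRange.ι.app (OmegaSh.diagNbhd f U)) c2) = c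
  rw [hc2, hc1]

include hU hV h in
/-- G2: over an affine chart, the functions on the infinitesimal neighbourhood of the diagonal are sums
of products `pr₁♯ a · pr₂♯ b`. -/
theorem mem_closure_nbhd (n : ℕ) (c : Γ(PrinPart.nbhd f n, PrinPart.pr1 f n ⁻¹ᵁ U)) :
    c ∈ AddSubgroup.closure (Set.range fun ab : Γ(X, U) × Γ(X, U) =>
      (PrinPart.pr1 f n).app U ab.1 *
        (PrinPart.pr2 f n).appLE U (PrinPart.pr1 f n ⁻¹ᵁ U) (PrinPart.preimage_pr1 f n U).le ab.2) := by
  have e : PrinPart.pr1 f n ⁻¹ᵁ U ≤ PrinPart.nbhdι f n ⁻¹ᵁ OmegaSh.diagNbhd f U := by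
    intro z hz
    refine ⟨hz, ?_⟩
    have h1 : z ∈ PrinPart.pr2 f n ⁻¹ᵁ U := (PrinPart.preimage_pr1 f n U).le hz
    exact h1
  have e' : PrinPart.nbhdι f n ⁻¹ᵁ OmegaSh.diagNbhd f U ≤ PrinPart.pr1 f n ⁻¹ᵁ U := fun z hz => hz.1
  obtain ⟨y, hy⟩ := nbhdι_app_surjective f hU hV h n
    ((PrinPart.nbhd f n).presheaf.map (homOfLE e').op c)
  have hc : c = (PrinPart.nbhdι f n).appLE (OmegaSh.diagNbhd f U) (PrinPart.pr1 f n ⁻¹ᵁ U) e y := by
    change c = (PrinPart.nbhd f n).presheaf.map (homOfLE e).op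
      ((PrinPart.nbhdι f n).app (OmegaSh.diagNbhd f U) y)
    rw [hy, ← ConcreteCategory.comp_apply, ← Functor.map_comp]
    have : (homOfLE e').op ≫ (homOfLE e).op = 𝟙 _ := rfl
    rw [this, CategoryTheory.Functor.map_id]
    rfl
  rw [hc]
  have key : ∀ y' : Γ(pullback f f, OmegaSh.diagNbhd f U),
      y' ∈ AddSubgroup.closure (Set.range fun ab : Γ(X, U) × Γ(X, U) => pp₁ f U ab.1 * pp₂ f U ab.2) →
      (PrinPart.nbhdι f n).appLE (OmegaSh.diagNbhd f U) (PrinPart.pr1 f n ⁻¹ᵁ U) e y' ∈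
        AddSubgroup.closure (Set.range fun ab : Γ(X, U) × Γ(X, U) =>
          (PrinPart.pr1 f n).app U ab.1 *
            (PrinPart.pr2 f n).appLE U (PrinPart.pr1 f n ⁻¹ᵁ U) (PrinPart.preimage_pr1 f n U).le ab.2) := by
    intro y' hy'
    induction hy' using AddSubgroup.closure_induction with
    | mem x hx =>
      obtain ⟨⟨a, b⟩, rfl⟩ := hx
      apply AddSubgroup.subset_closure
      refine ⟨(a, b), ?_⟩
      change (PrinPart.pr1 f n).app U a *
          (PrinPart.pr2 f n).appLE U (PrinPart.pr1 f n ⁻¹ᵁ U) (PrinPart.preimage_pr1 f n U).le b =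
        (PrinPart.nbhdι f n).appLE (OmegaSh.diagNbhd f U) (PrinPart.pr1 f n ⁻¹ᵁ U) e
          (pp₁ f U a * pp₂ f U b)
      rw [map_mul]
      have h1 : (PrinPart.nbhdι f n).appLE (OmegaSh.diagNbhd f U) (PrinPart.pr1 f n ⁻¹ᵁ U) e
          (pp₁ f U a) = (PrinPart.pr1 f n).app U a := by
        change ((pullback.fst f f).appLE U (OmegaSh.diagNbhd f U) inf_le_left ≫
          (PrinPart.nbhdι f n).appLE (OmegaSh.diagNbhd f U) (PrinPart.pr1 f n ⁻¹ᵁ U) e) a = _
        rw [Scheme.Hom.appLE_comp_appLE, Scheme.Hom.app_eq_appLE]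
        rfl
      have h2 : (PrinPart.nbhdι f n).appLE (OmegaSh.diagNbhd f U) (PrinPart.pr1 f n ⁻¹ᵁ U) e
          (pp₂ f U b) = (PrinPart.pr2 f n).appLE U (PrinPart.pr1 f n ⁻¹ᵁ U)
            (PrinPart.preimage_pr1 f n U).le b := by
        change ((pullback.snd f f).appLE U (OmegaSh.diagNbhd f U) inf_le_right ≫
          (PrinPart.nbhdι f n).appLE (OmegaSh.diagNbhd f U) (PrinPart.pr1 f n ⁻¹ᵁ U) e) b = _
        rw [Scheme.Hom.appLE_comp_appLE]
        rfl
      rw [h1, h2]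
    | zero => rw [map_zero]; exact zero_mem _
    | add x y _ _ hx hy => rw [map_add]; exact add_mem hx hy
    | neg x _ hx => rw [map_neg]; exact neg_mem hx
  exact key y (mem_closure_pp f hU hV h y)

end chart

end Groth.Agent.Lib.T2H3.PnGen
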