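import Mathlib
import Groth.Prelude.Def_OmegaPn
import Groth.Agent.Lib.T2H3PnGen
import Groth.Agent.Lib.T2H3PullGen
import Groth.Agent.Lib.T2H2PPOrd1

/-!
# `P^n_{X/S}(F)` is generated by the image of `d^n`
-/

set_option autoImplicit false
set_option linter.style.haveILetI false
set_option linter.unusedSectionVars false
universe u
open CategoryTheory CategoryTheory.Limits AlgebraicGeometry TopologicalSpace Opposite

namespace Groth.Agent.Lib.T2H3.PnHomExt

open Groth.Agent.Lib.T2H2.PPOrd1 Groth.Agent.Lib.T2H3.PnGen Groth.Agent.Lib.T2H3.PullGen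
open Groth.Agent.Lib.Helper6

variable {X S : Scheme.{u}} (f : X ⟶ S) (n : ℕ) (F : X.Modules)

/-- the `O_X(U)`-span of the `d^n t` -/
noncomputable def dSpan (U : X.Opens) : Submodule Γ(X, U) Γ(PrinPart.PMod f n F, U) :=
  Submodule.span Γ(X, U) (Set.range (PrinPart.dP f n F U))

theorem toNbhd_pr1_apply (w : PrinPart.nbhd f n) :
    PrinPart.toNbhd f n (PrinPart.pr1 f n w) = w := by
  obtain ⟨y, rfl⟩ := PrinPart.toInfNbhd_surjective (PrinPart.diagCl f) n w
  have h : (PrinPart.pr1 f n) ((PrinPart.toNbhd f n) y) = y := by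
    rw [← Scheme.Hom.comp_apply, PrinPart.toNbhd_pr1]
    rfl
  exact congrArg _ h

/-- Claim A: restrictions of pulled back sections are of the form `d^n t`. -/
theorem unitSet_subset (U : X.Opens) {s : PSec f n F U}
    (hs : s ∈ unitSet (PrinPart.pr2 f n) F (PrinPart.pr1 f n ⁻¹ᵁ U)) :
    ∃ t : Γ(F, U), s = toPSec f n F U (PrinPart.dP f n F U t) := by
  obtain ⟨V', hV', t, rfl⟩ := hs
  have hUV' : U ≤ V' := by
    intro x hx
    have h1 : PrinPart.toNbhd f n x ∈ PrinPart.pr1 f n ⁻¹ᵁ U := by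
      change PrinPart.pr1 f n (PrinPart.toNbhd f n x) ∈ U
      rw [← Scheme.Hom.comp_apply, PrinPart.toNbhd_pr1]; exact hx
    have h2 := hV' h1
    change PrinPart.pr2 f n (PrinPart.toNbhd f n x) ∈ V' at h2
    rwa [← Scheme.Hom.comp_apply, PrinPart.toNbhd_pr2] at h2
  refine ⟨F.presheaf.map (homOfLE hUV').op t, ?_⟩
  change _ = PrinPart.dP f n F U _
  rw [PrinPart.dP_apply, OmegaSh.pullSect_map, OmegaSh.resM_resM]
  rfl

section chart
variable {U : X.Opens} (hU : IsAffineOpen U) {V : S.Opens} (hV : IsAffineOpen V) (h : U ≤ f ⁻¹ᵁ V)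

include hU hV h in
/-- Claim B for a generator. -/
theorem smul_dP_mem (c : Γ(PrinPart.nbhd f n, PrinPart.pr1 f n ⁻¹ᵁ U)) (t : Γ(F, U)) :
    ∃ s' ∈ dSpan f n F U, toPSec f n F U s' = c • toPSec f n F U (PrinPart.dP f n F U t) := by
  have hc := mem_closure_nbhd f hU hV h n c
  induction hc using AddSubgroup.closure_induction with
  | mem c hc =>
    obtain ⟨⟨a, b⟩, rfl⟩ := hc
    refine ⟨a • PrinPart.dP f n F U (b • t),
      Submodule.smul_mem _ _ (Submodule.subset_span ⟨_, rfl⟩), ?_⟩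
    rw [toPSec_smul, toPSec_dP_smul, ← mul_smul]
  | zero => exact ⟨0, zero_mem _, by rw [zero_smul, map_zero]⟩
  | add c c' _ _ hc hc' =>
    obtain ⟨s1, hs1, h1⟩ := hc
    obtain ⟨s2, hs2, h2⟩ := hc'
    exact ⟨s1 + s2, add_mem hs1 hs2, by rw [map_add, h1, h2, add_smul]⟩
  | neg c _ hc =>
    obtain ⟨s1, hs1, h1⟩ := hc
    exact ⟨-s1, neg_mem hs1, by rw [map_neg, h1, neg_smul]⟩

include hU hV h in
/-- Claim B: the span of the `d^n t` is stable under the functions of the infinitesimal neighbourhood. -/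
theorem smul_mem_dSpan (c : Γ(PrinPart.nbhd f n, PrinPart.pr1 f n ⁻¹ᵁ U))
    {s : Γ(PrinPart.PMod f n F, U)} (hs : s ∈ dSpan f n F U) :
    ∃ s' ∈ dSpan f n F U, toPSec f n F U s' = c • toPSec f n F U s := by
  induction hs using Submodule.span_induction with
  | mem s hs =>
    obtain ⟨t, rfl⟩ := hs
    exact smul_dP_mem f n F hU hV h c t
  | zero => exact ⟨0, zero_mem _, by rw [map_zero, smul_zero]⟩
  | add s1 s2 _ _ h1 h2 =>
    obtain ⟨s1', hs1', e1⟩ := h1
    obtain ⟨s2', hs2', e2⟩ := h2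
    exact ⟨s1' + s2', add_mem hs1' hs2', by rw [map_add, map_add, e1, e2, smul_add]⟩
  | smul r s1 _ h1 =>
    obtain ⟨s1', hs1', e1⟩ := h1
    refine ⟨r • s1', Submodule.smul_mem _ _ hs1', ?_⟩
    rw [toPSec_smul, toPSec_smul, e1, ← mul_smul, ← mul_smul, mul_comm]

include hU hV h in
/-- Claim C: over a chart, combinations of pulled back sections are combinations of the `d^n t`. -/
theorem locSpan_le_dSpan {s : PSec f n F U}
    (hs : s ∈ locSpan (PrinPart.pr2 f n) F (PrinPart.pr1 f n ⁻¹ᵁ U)) :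
    ∃ s' ∈ dSpan f n F U, toPSec f n F U s' = s := by
  induction hs using Submodule.span_induction with
  | mem s hs =>
    obtain ⟨t, rfl⟩ := unitSet_subset f n F U hs
    exact ⟨_, Submodule.subset_span ⟨t, rfl⟩, rfl⟩
  | zero => exact ⟨0, zero_mem _, map_zero _⟩
  | add s1 s2 _ _ h1 h2 =>
    obtain ⟨s1', hs1', rfl⟩ := h1
    obtain ⟨s2', hs2', rfl⟩ := h2
    exact ⟨s1' + s2', add_mem hs1' hs2', map_add _ _ _⟩
  | smul c s1 _ h1 =>
    obtain ⟨s1', hs1', rfl⟩ := h1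
    exact smul_mem_dSpan f n F hU hV h c hs1'

end chart

/-- every section of `P^n(F)` is locally a combination of the `d^n t`. -/
theorem exists_res_mem_dSpan {U : X.Opens} (σ : Γ(PrinPart.PMod f n F, U)) (x : X) (hx : x ∈ U) :
    ∃ (U' : X.Opens) (_ : x ∈ U') (hU' : U' ≤ U),
      res (PrinPart.PMod f n F) hU' σ ∈ dSpan f n F U' := by
  have hz : PrinPart.toNbhd f n x ∈ PrinPart.pr1 f n ⁻¹ᵁ U := by
    change PrinPart.pr1 f n (PrinPart.toNbhd f n x) ∈ U
    rw [← Scheme.Hom.comp_apply, PrinPart.toNbhd_pr1]; exact hx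
  obtain ⟨W', hzW', hW', hmem⟩ := exists_res_mem_locSpan (PrinPart.pr2 f n) F
    (toPSec f n F U σ) (PrinPart.toNbhd f n x) hz
  let U0 : X.Opens := PrinPart.toNbhd f n ⁻¹ᵁ W' ⊓ U
  have hxU0 : x ∈ U0 := ⟨hzW', hx⟩
  have hU0W' : PrinPart.pr1 f n ⁻¹ᵁ U0 ≤ W' := by
    intro w hw
    have h1 : PrinPart.toNbhd f n (PrinPart.pr1 f n w) ∈ W' := hw.1
    rwa [toNbhd_pr1_apply] at h1
  obtain ⟨V, hV, hfxV, -⟩ := exists_isAffineOpen_mem_and_subset (x := f x) (U := ⊤) trivial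
  have hx2 : x ∈ U0 ⊓ f ⁻¹ᵁ V := ⟨hxU0, hfxV⟩
  obtain ⟨U', hU'aff, hxU', hU'le⟩ := exists_isAffineOpen_mem_and_subset hx2
  have hU'U0 : U' ≤ U0 := fun y hy => (hU'le hy).1
  have hU'V : U' ≤ f ⁻¹ᵁ V := fun y hy => (hU'le hy).2
  have hU'U : U' ≤ U := hU'U0.trans inf_le_right
  refine ⟨U', hxU', hU'U, ?_⟩
  have h1 : PrinPart.pr1 f n ⁻¹ᵁ U' ≤ W' :=
    ((PrinPart.pr1 f n).preimage_mono hU'U0).trans hU0W'
  have h2 := res_mem_locSpan (PrinPart.pr2 f n) F h1 hmem
  rw [res_res] at h2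
  obtain ⟨s', hs', e⟩ := locSpan_le_dSpan f n F hU'aff hV hU'V h2
  have h3 : res (PrinPart.PMod f n F) hU'U σ = s' := e.symm
  rw [h3]
  exact hs'

theorem app_map' {A B : X.Modules} (m : A ⟶ B) {W W' : X.Opens} (i : W' ⟶ W) (s : Γ(A, W)) :
    m.app W' (A.presheaf.map i.op s) = B.presheaf.map i.op (m.app W s) := by
  have := m.mapPresheaf.naturality i.op
  exact congrArg (fun φ => φ s) this

/-- S5958 -/
theorem hom_ext_of_dP (G : X.Modules) (a b : PrinPart.PMod f n F ⟶ G)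
    (h : ∀ (U : X.Opens) (t : Γ(F, U)),
      a.app U (PrinPart.dP f n F U t) = b.app U (PrinPart.dP f n F U t)) : a = b := by
  have key : ∀ (U : X.Opens) (s : Γ(PrinPart.PMod f n F, U)), s ∈ dSpan f n F U →
      a.app U s = b.app U s := by
    intro U s hs
    induction hs using Submodule.span_induction with
    | mem s hs =>
      obtain ⟨t, rfl⟩ := hs
      exact h U t
    | zero => rw [map_zero, map_zero]
    | add s1 s2 _ _ h1 h2 => rw [map_add, map_add, h1, h2]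
    | smul r s1 _ h1 => rw [Scheme.Modules.Hom.app_smul, Scheme.Modules.Hom.app_smul, h1]
  apply Scheme.Modules.hom_ext
  intro U
  ext σ
  choose U' hxU' hU'U hmem using fun x : U => exists_res_mem_dSpan f n F σ x.1 x.2
  refine TopCat.Sheaf.eq_of_locally_eq' ⟨G.presheaf, G.isSheaf⟩ U' U (fun x => homOfLE (hU'U x))
    ?_ _ _ (fun x => ?_)
  · intro y hy
    exact Opens.mem_iSup.2 ⟨⟨y, hy⟩, hxU' ⟨y, hy⟩⟩
  · change G.presheaf.map (homOfLE (hU'U x)).op (a.app U σ) =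
      G.presheaf.map (homOfLE (hU'U x)).op (b.app U σ)
    rw [← app_map' a, ← app_map' b]
    exact key (U' x) _ (hmem x)

end Groth.Agent.Lib.T2H3.PnHomExt
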