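import Mathlib
import Groth.Prelude.Def_OmegaPn
import Groth.Agent.Lib.T2H3PnHomExt

/-!
# Epimorphy of the canonical maps of sheaves of principal parts
-/

set_option autoImplicit false
set_option linter.style.haveILetI false
set_option linter.unusedSectionVars false
universe u
open CategoryTheory CategoryTheory.Limits AlgebraicGeometry TopologicalSpace Opposite

namespace Groth.Agent.Lib.T2H3.PnEpi

open Groth.Agent.Lib.T2H3.PnHomExt Groth.Agent.Lib.Helper6

/-- A `P`-map is an epimorphism as soon as the functions on the source are locally pulled back. -/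
theorem epi_of_isPMap {X S X' S' : Scheme.{u}} (f : X ⟶ S) (f' : X' ⟶ S') (u : X' ⟶ X) (n : ℕ)
    (φ : (Scheme.Modules.pullback u).obj (PrinPart.P f n) ⟶ PrinPart.P f' n)
    (hφ : PrinPart.IsPMap f f' u n φ)
    (hloc : ∀ (U' : X'.Opens) (b' : Γ(X', U')) (x' : X'), x' ∈ U' →
      ∃ (U : X.Opens) (b : Γ(X, U)) (U'' : X'.Opens) (_ : x' ∈ U'') (h1 : U'' ≤ U')
        (h2 : U'' ≤ u ⁻¹ᵁ U),
        X'.presheaf.map (homOfLE h1).op b' = X'.presheaf.map (homOfLE h2).op (u.app U b)) :
    Epi φ := by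
  constructor
  intro G α β hαβ
  apply hom_ext_of_dP f' n (Coh.structureModule X') G α β
  intro U' t'
  choose U b U'' hxU'' h1 h2 hb using fun x : U' => hloc U' (OmegaSh.fnSect X' U' t') x.1 x.2
  refine TopCat.Sheaf.eq_of_locally_eq' ⟨G.presheaf, G.isSheaf⟩ U'' U' (fun x => homOfLE (h1 x))
    ?_ _ _ (fun x => ?_)
  · intro y hy
    exact Opens.mem_iSup.2 ⟨⟨y, hy⟩, hxU'' ⟨y, hy⟩⟩
  · change G.presheaf.map (homOfLE (h1 x)).op (α.app U' _) =
      G.presheaf.map (homOfLE (h1 x)).op (β.app U' _)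
    rw [← app_map' α, ← app_map' β, ← PrinPart.dP_map f' n (Coh.structureModule X') (h1 x) t']
    have e1 : (Coh.structureModule X').presheaf.map (homOfLE (h1 x)).op t' =
        (Coh.structureModule X').presheaf.map (homOfLE (h2 x)).op
          (OmegaSh.strSect X' (u ⁻¹ᵁ U x) (u.app (U x) (b x))) := hb x
    rw [e1, PrinPart.dP_map f' n (Coh.structureModule X') (h2 x)]
    have e2 : PrinPart.dP f' n (Coh.structureModule X') (u ⁻¹ᵁ U x)
        (OmegaSh.strSect X' (u ⁻¹ᵁ U x) (u.app (U x) (b x))) =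
        PrinPart.dn f' n (u ⁻¹ᵁ U x) (u.app (U x) (b x)) := rfl
    rw [e2, ← hφ (U x) (b x), app_map' α, app_map' β]
    congr 1
    exact congrArg (fun ψ => Scheme.Modules.Hom.app ψ (u ⁻¹ᵁ U x)
      (OmegaSh.pullSect u (PrinPart.P f n) (U x) (PrinPart.dn f n (U x) (b x)))) hαβ

end Groth.Agent.Lib.T2H3.PnEpi
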