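import Mathlib
import Groth.Prelude.Def_OmegaPn
import Groth.Agent.Lib.T2H4ClosedAdj
import Groth.Agent.S0484

/-!
# The direct image along a morphism which is a homeomorphism preserves colimits (helper5)

Used for the first projection of an infinitesimal neighbourhood of the diagonal.
-/

set_option autoImplicit false
set_option backward.isDefEq.respectTransparency.types false
set_option linter.style.haveILetI false
set_option linter.unusedSectionVars false
universe u

namespace Groth.Agent.Lib.T2H5.PnColim

open CategoryTheory CategoryTheory.Limits Opposite TopologicalSpace AlgebraicGeometry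

variable {Z X : Scheme.{u}} (p : Z ⟶ X)

/-- the direct image of modules along a morphism which is an isomorphism on the underlying
spaces preserves colimits -/
theorem preservesColimitsOfShape_pushforward_of_isIso_base [IsIso p.base]
    (K : Type u) [SmallCategory K] :
    PreservesColimitsOfShape K (Scheme.Modules.pushforward p) := by
  haveI h1 : PreservesColimitsOfShape K (SheafOfModules.toSheaf.{u} Z.ringCatSheaf) :=
    Groth.Agent.S0484.preservesColimitsOfShape_toSheaf (Opens.grothendieckTopology Z)
      Z.ringCatSheaf K
  haveI h2 : PreservesColimitsOfShape K (SheafOfModules.toSheaf.{u} X.ringCatSheaf) :=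
    Groth.Agent.S0484.preservesColimitsOfShape_toSheaf (Opens.grothendieckTopology X)
      X.ringCatSheaf K
  haveI h3 : (CohTop.push p.base).IsLeftAdjoint :=
    Groth.Agent.Lib.T2H4.ClosedAdj.isLeftAdjoint_push_iso (asIso p.base)
  haveI h4 : PreservesColimitsOfShape K (CohTop.push p.base) := inferInstance
  haveI h5 := Groth.Agent.Lib.T2H4.ClosedAdj.toSheaf_reflectsIsomorphisms X
  haveI h6 : ReflectsColimitsOfShape K (SheafOfModules.toSheaf.{u} X.ringCatSheaf) :=
    reflectsColimitsOfShape_of_reflectsIsomorphisms
  haveI h7 : PreservesColimitsOfShape K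
      (Scheme.Modules.pushforward p ⋙ SheafOfModules.toSheaf.{u} X.ringCatSheaf) := by
    change PreservesColimitsOfShape K
      (SheafOfModules.toSheaf.{u} Z.ringCatSheaf ⋙ CohTop.push p.base)
    infer_instance
  exact @preservesColimitsOfShape_of_reflects_of_preserves _ _ _ _ K _ _ _
    (Scheme.Modules.pushforward p) (SheafOfModules.toSheaf.{u} X.ringCatSheaf) h7 h6

theorem preservesColimits_pushforward_of_isIso_base [IsIso p.base] :
    PreservesColimitsOfSize.{u, u} (Scheme.Modules.pushforward p) :=
  ⟨fun {K} _ => preservesColimitsOfShape_pushforward_of_isIso_base p K⟩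

section Pn

variable {S : Scheme.{u}} (f : X ⟶ S) (n : ℕ)

lemma pr1_toNbhd_apply (x : PrinPart.nbhd f n) :
    (PrinPart.toNbhd f n) ((PrinPart.pr1 f n) x) = x := by
  obtain ⟨y, rfl⟩ := PrinPart.toInfNbhd_surjective (PrinPart.diagCl f) n x
  have h : (PrinPart.pr1 f n) ((PrinPart.toNbhd f n) y) = y := by
    rw [← Scheme.Hom.comp_apply, PrinPart.toNbhd_pr1]
    rfl
  exact congrArg _ h

instance isIso_pr1_base : IsIso (PrinPart.pr1 f n).base := by
  refine ⟨(PrinPart.toNbhd f n).base, ?_, ?_⟩
  · ext x
    exact pr1_toNbhd_apply f n x
  · have h := congrArg (fun g => g.base) (PrinPart.toNbhd_pr1 f n)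
    exact h

theorem preservesColimits_PMod :
    PreservesColimitsOfSize.{u, u}
      ((Scheme.Modules.pullback (PrinPart.pr2 f n)) ⋙
        (Scheme.Modules.pushforward (PrinPart.pr1 f n))) := by
  haveI := preservesColimits_pushforward_of_isIso_base (PrinPart.pr1 f n)
  infer_instance

end Pn

end Groth.Agent.Lib.T2H5.PnColim
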