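import Mathlib
import Groth.Prelude.Def_OmegaPn
import Groth.Agent.S5969
import Groth.Agent.Lib.T2H5PnColim
import Groth.Agent.Lib.T2H5FlatPullback
import Groth.Agent.Lib.Helper2FlatOver2
import Groth.Agent.Lib.T2H5FlatCover
import Groth.Agent.Lib.Helper26FlatLimC
import Groth.Agent.Lib.Helper23UnitStalk
import Groth.Agent.Lib.Helper23PB
import Groth.Agent.Lib.Helper2PullbackSec
import Groth.Agent.Lib.Helper20OmegaAff

/-!
# Principal parts: if `P^n_{X/S}` is flat then `F ↦ P^n_{X/S}(F)` is exact (helper3)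

* `isAffineHom_pr1`: the first projection of the `n`-th infinitesimal neighbourhood of the diagonal is affine.
* `flat_of_isFlatOver_structureModule`: a morphism is flat if the structure module of its source is flat over it.
* `flat_pr1_of_isFlat`, `flat_pr2_of_isFlat`: if `P^n_{X/S}` is a flat `O_X`-module then both projections are flat.
* `preservesFiniteLimits_PMod`.
-/

set_option autoImplicit false
set_option linter.style.haveILetI false
universe u
open CategoryTheory CategoryTheory.Limits AlgebraicGeometry TopologicalSpace Opposite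

namespace Groth.Agent.Lib.T2H3.PnFlat

theorem isAffineHom_pr1 {X S : Scheme.{u}} (f : X ⟶ S) (n : ℕ) : IsAffineHom (PrinPart.pr1 f n) := by
  haveI := Groth.Agent.Lib.T2H5.PnColim.isIso_pr1_base f n
  apply isAffineHom_of_isInducing
  · exact (TopCat.homeoOfIso (asIso (PrinPart.pr1 f n).base)).isInducing
  · have h : Set.range (PrinPart.pr1 f n) = Set.univ :=
      (TopCat.homeoOfIso (asIso (PrinPart.pr1 f n).base)).surjective.range_eq
    rw [h]
    exact isClosed_univ

theorem flat_of_isFlatOver_structureModule {Z X : Scheme.{u}} (p : Z ⟶ X)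
    (h : FlatMod.IsFlatOver p (Coh.structureModule Z)) : Flat p := by
  rw [Flat.iff_flat_stalkMap]
  intro z
  have hz := h z
  unfold FlatMod.IsFlatOverAt at hz
  letI : Module (X.presheaf.stalk (p.base z)) ((Coh.structureModule Z).presheaf.stalk z) :=
    FlatMod.moduleStalkOver p _ z
  letI : Algebra (X.presheaf.stalk (p.base z)) (Z.presheaf.stalk z) := (p.stalkMap z).hom.toAlgebra
  let E : Z.presheaf.stalk z ≃ₗ[X.presheaf.stalk (p.base z)]
      (Coh.structureModule Z).presheaf.stalk z :=
    { (Groth.Agent.Lib.Helper23.UnitStalk.unitStalkEquiv z).toAddEquiv with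
      map_smul' := fun r a =>
        (Groth.Agent.Lib.Helper23.UnitStalk.unitStalkEquiv z).map_smul ((p.stalkMap z).hom r) a }
  haveI := hz
  exact Module.Flat.of_linearEquiv E

section

variable {X S : Scheme.{u}} (f : X ⟶ S) (n : ℕ)

open Groth.Agent.Lib.Helper20.OmegaAff in
theorem flat_pr1_of_isFlat (hP : FlatMod.IsFlat (PrinPart.P f n)) : Flat (PrinPart.pr1 f n) := by
  haveI := isAffineHom_pr1 f n
  haveI : ((Scheme.Modules.pullback (PrinPart.pr2 f n)).obj (Coh.structureModule X)).IsQuasicoherent :=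
    Groth.Agent.Lib.Helper2.PullbackSec.isQuasicoherent_pullback _ _
  have h1 : FlatMod.IsFlatOver (𝟙 X) (PrinPart.P f n) :=
    fun x => (Groth.Agent.Lib.T2H5.FlatCover.isFlatOverAt_id_iff _ x).2 (hP x)
  have h2 : FlatMod.IsFlatOver (PrinPart.pr1 f n ≫ 𝟙 X)
      ((Scheme.Modules.pullback (PrinPart.pr2 f n)).obj (Coh.structureModule X)) :=
    (Groth.Agent.Lib.Helper2.FlatOver.isFlatOver_pushforward_iff (PrinPart.pr1 f n) (𝟙 X) _).2 h1
  rw [Category.comp_id] at h2
  exact flat_of_isFlatOver_structureModule _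
    (Groth.Agent.Lib.Helper26.FlatLim.isFlatOver_of_iso _
      (Groth.Agent.Lib.Helper23.PB.pullbackUnitIso (PrinPart.pr2 f n)) h2)

theorem flat_pr2_of_isFlat (hP : FlatMod.IsFlat (PrinPart.P f n)) : Flat (PrinPart.pr2 f n) := by
  obtain ⟨σ, -, hσσ, hσ1, -, -⟩ := Groth.Agent.S5969.result f n
  haveI := flat_pr1_of_isFlat f n hP
  haveI : IsIso σ := ⟨σ, hσσ, hσσ⟩
  rw [← hσ1]
  infer_instance

theorem preservesFiniteLimits_PMod (hP : FlatMod.IsFlat (PrinPart.P f n)) :
    PreservesFiniteLimits
      ((Scheme.Modules.pullback (PrinPart.pr2 f n)) ⋙ (Scheme.Modules.pushforward (PrinPart.pr1 f n))) := by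
  haveI := flat_pr2_of_isFlat f n hP
  haveI := Groth.Agent.Lib.T2H5.FlatPullback.preservesFiniteLimits_pullback (PrinPart.pr2 f n)
  haveI : PreservesLimitsOfSize.{0, 0} (Scheme.Modules.pushforward (PrinPart.pr1 f n)) :=
    (Scheme.Modules.pullbackPushforwardAdjunction (PrinPart.pr1 f n)).rightAdjoint_preservesLimits
  haveI : PreservesFiniteLimits (Scheme.Modules.pushforward (PrinPart.pr1 f n)) :=
    PreservesLimitsOfSize.preservesFiniteLimits _
  infer_instance

end

end Groth.Agent.Lib.T2H3.PnFlat
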