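import Mathlib

/-! Polynomial rings from regular sequences (helper3): if `x_1, …, x_d` is a weakly regular
sequence in an `A`-algebra `R` and `A ∩ (x_1, …, x_d) = 0`, then the evaluation map
`A[T_1, …, T_d] → R`, `T_i ↦ x_i`, is injective. -/

set_option autoImplicit false
set_option linter.unusedSectionVars false
open RingTheory.Sequence
open scoped Pointwise

namespace Groth.Agent.Lib.T2H3.PolyA

universe u v

/-- The tail of a weakly regular sequence of a ring is weakly regular in the quotient ring by the
first element. -/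
theorem isWeaklyRegular_quotient_of_cons {R : Type v} [CommRing R] (r : R) (rs : List R)
    (h : IsWeaklyRegular R (r :: rs)) :
    IsWeaklyRegular (R ⧸ Ideal.span {r}) (rs.map (Ideal.Quotient.mk (Ideal.span {r}))) := by
  obtain ⟨-, h2⟩ := (isWeaklyRegular_cons_iff R r rs).mp h
  have heq : (r • (⊤ : Submodule R R)) = Ideal.span {r} := by
    rw [← Submodule.ideal_span_singleton_smul, smul_eq_mul, Ideal.mul_top]
  have e : QuotSMulTop r R ≃ₗ[R] (R ⧸ Ideal.span {r}) := Submodule.quotEquivOfEq _ _ heq
  have h3 : IsWeaklyRegular (R ⧸ Ideal.span {r}) rs := (e.isWeaklyRegular_congr rs).mp h2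
  exact (isWeaklyRegular_map_algebraMap_iff (R ⧸ Ideal.span {r}) (R ⧸ Ideal.span {r}) rs).mpr h3

/-- Evaluation of `A[T_1..T_d][T_0]` at `x`. -/
noncomputable def evalSucc {A : Type u} [CommRing A] {R : Type v} [CommRing R] [Algebra A R]
    {d : ℕ} (x : Fin (d + 1) → R) : Polynomial (MvPolynomial (Fin d) A) →+* R :=
  Polynomial.eval₂RingHom
    (MvPolynomial.aeval (fun i : Fin d => x i.succ) : MvPolynomial (Fin d) A →ₐ[A] R).toRingHom
    (x 0)

theorem aeval_eq_evalSucc {A : Type u} [CommRing A] {R : Type v} [CommRing R] [Algebra A R]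
    {d : ℕ} (x : Fin (d + 1) → R) (p : MvPolynomial (Fin (d + 1)) A) :
    MvPolynomial.aeval x p = evalSucc x (MvPolynomial.finSuccEquiv A d p) := by
  have : ((MvPolynomial.aeval x : MvPolynomial (Fin (d + 1)) A →ₐ[A] R) : _ →+* R) =
      (evalSucc x).comp (RingHomClass.toRingHom (MvPolynomial.finSuccEquiv A d)) := by
    refine MvPolynomial.ringHom_ext ?_ ?_
    · intro a
      simp [evalSucc, MvPolynomial.finSuccEquiv_apply]
    · intro i
      refine Fin.cases ?_ (fun j => ?_) i
      · simp [evalSucc, MvPolynomial.finSuccEquiv_X_zero]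
      · simp [evalSucc, MvPolynomial.finSuccEquiv_X_succ]
  exact congrArg (fun f : _ →+* R => f p) this

theorem evalSucc_C {A : Type u} [CommRing A] {R : Type v} [CommRing R] [Algebra A R]
    {d : ℕ} (x : Fin (d + 1) → R) (q : MvPolynomial (Fin d) A) :
    evalSucc x (Polynomial.C q) = MvPolynomial.aeval (fun i : Fin d => x i.succ) q := by
  simp [evalSucc]

theorem evalSucc_X {A : Type u} [CommRing A] {R : Type v} [CommRing R] [Algebra A R]
    {d : ℕ} (x : Fin (d + 1) → R) :
    evalSucc (A := A) x Polynomial.X = x 0 := by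
  simp [evalSucc]

/-- The main injectivity statement. -/
theorem aeval_injective : ∀ (d : ℕ) (A : Type u) [CommRing A] (R : Type v) [CommRing R]
    [Algebra A R] (x : Fin d → R), IsWeaklyRegular R (List.ofFn x) →
    (∀ c : A, algebraMap A R c ∈ Ideal.span (Set.range x) → c = 0) →
    Function.Injective (MvPolynomial.aeval x : MvPolynomial (Fin d) A →ₐ[A] R) := by
  intro d
  induction d with
  | zero =>
    intro A _ R _ _ x _ hA
    rw [injective_iff_map_eq_zero]
    intro p hp
    obtain ⟨a, rfl⟩ : ∃ a : A, p = MvPolynomial.C a := ⟨_, MvPolynomial.eq_C_of_isEmpty p⟩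
    rw [MvPolynomial.aeval_C] at hp
    rw [hA a (by rw [hp]; exact zero_mem _), map_zero]
  | succ d ih =>
    intro A _ R _ _ x hreg hA
    rw [List.ofFn_succ] at hreg
    have hx0 : IsSMulRegular R (x 0) := ((isWeaklyRegular_cons_iff R _ _).mp hreg).1
    have hreg' := isWeaklyRegular_quotient_of_cons _ _ hreg
    rw [List.map_ofFn] at hreg'
    -- the induction hypothesis for the quotient ring
    have hA' : ∀ c : A, algebraMap A (R ⧸ Ideal.span {x 0}) c ∈
        Ideal.span (Set.range ((Ideal.Quotient.mk (Ideal.span {x 0})) ∘ fun i : Fin d => x i.succ)) →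
        c = 0 := by
      intro c hc
      apply hA c
      rw [Set.range_comp, ← Ideal.map_span] at hc
      have hc' : Ideal.Quotient.mk (Ideal.span {x 0}) (algebraMap A R c) ∈
          Ideal.map (Ideal.Quotient.mk (Ideal.span {x 0}))
            (Ideal.span (Set.range fun i : Fin d => x i.succ)) := hc
      rw [Ideal.mem_quotient_iff_mem_sup] at hc'
      refine (sup_le (Ideal.span_mono ?_) ?_ :
        Ideal.span (Set.range fun i : Fin d => x i.succ) ⊔ Ideal.span {x 0} ≤
          Ideal.span (Set.range x)) hc'
      · rintro _ ⟨i, rfl⟩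
        exact ⟨i.succ, rfl⟩
      · rw [Ideal.span_le, Set.singleton_subset_iff]
        exact Ideal.subset_span ⟨0, rfl⟩
    have hinj' := ih A (R ⧸ Ideal.span {x 0}) _ hreg' hA'
    -- constant coefficients vanish
    have hcoeff : ∀ P : Polynomial (MvPolynomial (Fin d) A), evalSucc x P = 0 → P.coeff 0 = 0 := by
      intro P hP
      apply hinj'
      rw [map_zero]
      have h1 : evalSucc x P = evalSucc x (Polynomial.divX P) * x 0 +
          MvPolynomial.aeval (fun i : Fin d => x i.succ) (P.coeff 0) := by
        conv_lhs => rw [← Polynomial.divX_mul_X_add P]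
        rw [map_add, map_mul, evalSucc_X, evalSucc_C]
      have h2 : Ideal.Quotient.mk (Ideal.span {x 0})
          (MvPolynomial.aeval (fun i : Fin d => x i.succ) (P.coeff 0)) = 0 := by
        rw [Ideal.Quotient.eq_zero_iff_mem, Ideal.mem_span_singleton']
        refine ⟨-evalSucc x (Polynomial.divX P), ?_⟩
        rw [hP] at h1
        linear_combination h1
      have h3 : (MvPolynomial.aeval
          ((Ideal.Quotient.mk (Ideal.span {x 0})) ∘ fun i : Fin d => x i.succ) :
            MvPolynomial (Fin d) A →ₐ[A] _) (P.coeff 0) =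
          Ideal.Quotient.mk (Ideal.span {x 0})
            (MvPolynomial.aeval (fun i : Fin d => x i.succ) (P.coeff 0)) := by
        have := MvPolynomial.comp_aeval (R := A) (fun i : Fin d => x i.succ)
          (Ideal.Quotient.mkₐ A (Ideal.span {x 0}))
        exact (congrArg (fun f : MvPolynomial (Fin d) A →ₐ[A] _ => f (P.coeff 0)) this).symm
      rw [h3, h2]
    have hall : ∀ (n : ℕ) (P : Polynomial (MvPolynomial (Fin d) A)), P.natDegree ≤ n →
        evalSucc x P = 0 → P = 0 := by
      intro n
      induction n with
      | zero =>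
        intro P hn hP
        rw [Polynomial.eq_C_of_natDegree_le_zero hn, hcoeff P hP, map_zero]
      | succ n ihn =>
        intro P hn hP
        have h0 := hcoeff P hP
        have hPX : P = Polynomial.divX P * Polynomial.X := by
          conv_lhs => rw [← Polynomial.divX_mul_X_add P, h0, map_zero, add_zero]
        have hdiv : evalSucc x (Polynomial.divX P) = 0 := by
          have h5 : x 0 • evalSucc x (Polynomial.divX P) = x 0 • (0 : R) := by
            rw [smul_eq_mul, smul_eq_mul, mul_zero, mul_comm, ← evalSucc_X (A := A) x, ← map_mul,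
              ← hPX, hP]
          exact hx0 h5
        have hdeg : (Polynomial.divX P).natDegree ≤ n := by
          rw [Polynomial.natDegree_divX_eq_natDegree_tsub_one]
          omega
        rw [hPX, ihn _ hdeg hdiv, zero_mul]
    rw [injective_iff_map_eq_zero]
    intro p hp
    rw [aeval_eq_evalSucc] at hp
    have := hall _ _ le_rfl hp
    exact (map_eq_zero_iff _ (MvPolynomial.finSuccEquiv A d).injective).mp this

end Groth.Agent.Lib.T2H3.PolyA
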