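import Groth.Agent.Lib.T2H3SerreB
import Groth.Agent.Lib.T2H3GrArtC
import Groth.Agent.Lib.T2H3GrTorsB
import Groth.Agent.S0325

/-! Serre's formula, part C (helper3): a *local positively graded Noetherian ring with Artinian
degree-zero part: `m^k ≤ R_+`, finite length of the pieces, vanishing above the dimension,
torsion modules. -/

set_option autoImplicit false
set_option linter.unusedSectionVars false
set_option linter.style.haveILetI false
open DirectSum

noncomputable section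

namespace Groth.Agent.Lib.T2H3.Serre

open GrLC Groth.Agent.Lib.T2H3.GrLes Groth.Agent.Lib.T2H5.EulerAlg
  Groth.Agent.Lib.T2H3.GrIrr Groth.Agent.Lib.T2H3.GrArt

universe u

variable {R : Type u} [CommRing R] [IsNoetherianRing R] {𝒜 : ℤ → AddSubgroup R} [GradedRing 𝒜]
variable (hpos : ∀ n : ℤ, n < 0 → 𝒜 n = ⊥) [IsArtinianRing (deg0 𝒜)]
  {m : HomogeneousIdeal 𝒜} (hm : IsStarLocal 𝒜 m)

section Irr

include hpos hm in
/-- Every prime containing the irrelevant ideal is the *maximal ideal. -/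
theorem eq_of_isPrime_of_irr_le (p : Ideal R) [hp : p.IsPrime] (hle : irr 𝒜 ≤ p) :
    p = m.toIdeal := by
  classical
  -- `R ⧸ p` is a quotient of `R_0`
  let φ : deg0 𝒜 →+* R ⧸ p := (Ideal.Quotient.mk p).comp (deg0 𝒜).subtype
  have hφ : Function.Surjective φ := by
    intro y
    obtain ⟨x, rfl⟩ := Ideal.Quotient.mk_surjective y
    refine ⟨⟨((decompose 𝒜 x) 0 : R), SetLike.coe_mem _⟩, ?_⟩
    change Ideal.Quotient.mk p ((decompose 𝒜 x) 0 : R) = Ideal.Quotient.mk p x
    rw [eq_comm, Ideal.Quotient.mk_eq_mk_iff_sub_mem]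
    exact hle (sub_decompose_zero_mem_irr 𝒜 hpos x)
  haveI : IsArtinianRing (R ⧸ p) := hφ.isArtinianRing
  have hmax : p.IsMaximal :=
    Ideal.Quotient.maximal_of_isField p (IsArtinianRing.isField_of_isDomain (R ⧸ p))
  have hhom : p.IsHomogeneous 𝒜 := by
    intro i x hx
    rcases lt_trichotomy i 0 with hi | hi | hi
    · rw [decompose_neg_eq_zero 𝒜 hpos x hi]
      exact zero_mem _
    · subst hi
      have h1 := hle (sub_decompose_zero_mem_irr 𝒜 hpos x)
      have : ((decompose 𝒜 x) 0 : R) = x - (x - ((decompose 𝒜 x) 0 : R)) := by ring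
      rw [this]
      exact Ideal.sub_mem _ hx h1
    · exact hle (mem_irr_of_mem 𝒜 hi (SetLike.coe_mem _))
  have hco : IsCoatom (⟨p, hhom⟩ : HomogeneousIdeal 𝒜) := by
    refine ⟨fun h => hmax.ne_top ?_, fun Q hQ => ?_⟩
    · have := congrArg HomogeneousIdeal.toIdeal h
      exact this
    · have hlt : p < HomogeneousIdeal.toIdeal Q := by
        refine lt_of_le_of_ne (fun x hx => hQ.le hx) ?_
        intro h
        apply hQ.ne
        exact HomogeneousIdeal.toIdeal_injective h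
      have := hmax.1.2 _ hlt
      exact HomogeneousIdeal.toIdeal_injective this
  have := hm.2 _ hco
  exact congrArg HomogeneousIdeal.toIdeal this

include hpos hm in
/-- A power of the *maximal ideal lies in the irrelevant ideal. -/
theorem exists_pow_le_irr : ∃ k : ℕ, m.toIdeal ^ k ≤ irr 𝒜 := by
  refine Ideal.exists_pow_le_of_le_radical_of_fg ?_ (IsNoetherian.noetherian _)
  rw [Ideal.radical_eq_sInf]
  refine le_sInf ?_
  rintro J ⟨hJ, hJp⟩
  haveI := hJp
  rw [eq_of_isPrime_of_irr_le hpos hm J hJ]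

include hpos hm in
/-- The *maximal ideal and the irrelevant ideal have the same torsion functor. -/
theorem gam_eq_gam_irr (X : Type u) [AddCommGroup X] [Module R X] :
    gam m.toIdeal X = gam (irr 𝒜) X := by
  obtain ⟨k, hk⟩ := exists_pow_le_irr hpos hm
  have hle := irr_le_of_isStarLocal hpos hm
  apply le_antisymm
  · rintro x ⟨n, hn⟩
    exact ⟨n, fun r hr => hn r (Ideal.pow_right_mono hle n hr)⟩
  · rintro x ⟨n, hn⟩
    refine ⟨k * n, fun r hr => hn r ?_⟩
    rw [pow_mul] at hr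
    exact Ideal.pow_right_mono hk n hr

end Irr

variable {M : Type u} [AddCommGroup M] [Module R M] {ℳ : ℤ → AddSubgroup M}
  [DirectSum.Decomposition ℳ] [SetLike.GradedSMul 𝒜 ℳ]

section Finite

/-- An Artinian module over an Artinian ring has finite length. -/
theorem isFiniteLength_of_isArtinian (K : Type u) [CommRing K] [IsArtinianRing K] (A : Type u)
    [AddCommGroup A] [Module K A] [IsArtinian K A] : IsFiniteLength K A := by
  rw [isFiniteLength_iff_isNoetherian_isArtinian]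
  exact ⟨IsSemiprimaryRing.isNoetherian_iff_isArtinian.mpr inferInstance, inferInstance⟩

theorem isFiniteLength_comp [Module.Finite R M] (n : ℤ) :
    IsFiniteLength (deg0 𝒜) (comp 𝒜 ℳ n) := by
  haveI : IsNoetherian R M := isNoetherian_of_isNoetherianRing_of_finite R M
  haveI : IsNoetherian (deg0 𝒜) (comp 𝒜 ℳ n) := isNoetherian_comp 𝒜 ℳ n
  rw [isFiniteLength_iff_isNoetherian_isArtinian]
  exact ⟨inferInstance, IsSemiprimaryRing.isNoetherian_iff_isArtinian.mp inferInstance⟩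

include hpos hm in
theorem isFiniteLength_Hcomp [Module.Finite R M] (E : StarInjRes 𝒜 ℳ) (i : ℕ) (n : ℤ) :
    IsFiniteLength (deg0 𝒜) (E.Hcomp m i n) := by
  haveI := isArtinian_Hcomp_of_isStarLocal hpos hm E i n
  exact isFiniteLength_of_isArtinian _ _

end Finite

section Vanish

/-- Vanishing above the dimension. -/
theorem Hcomp_eq_bot_of_lt {d : ℕ} (hd : ringKrullDim R = d) (E : StarInjRes 𝒜 ℳ) {i : ℕ}
    (hi : d < i) (n : ℤ) : E.Hcomp m i n = ⊥ := by
  obtain ⟨e⟩ := Groth.Agent.S13224.result R 𝒜 m M ℳ E i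
  haveI : Subsingleton (LocCoh.H m.toIdeal i M) :=
    Groth.Agent.S0325.result R m.toIdeal d hd.le M i hi
  rw [eq_bot_iff]
  intro y _
  rw [Submodule.mem_bot]
  apply e.injective
  exact Subsingleton.elim _ _

include hpos hm in
/-- The Euler characteristic vanishes in high degrees. -/
theorem exists_chiZ_eq_zero [Module.Finite R M] (E : StarInjRes 𝒜 ℳ) (d : ℕ) :
    ∃ N : ℤ, ∀ n : ℤ, N ≤ n → chiZ E m d n = 0 := by
  classical
  choose Ni hNi using fun i => exists_Hcomp_eq_bot_of_isStarLocal hpos hm E i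
  obtain ⟨N, hN⟩ := Finset.exists_le ((Finset.range (d + 1)).image Ni)
  refine ⟨N, fun n hn => ?_⟩
  unfold chiZ
  refine Finset.sum_eq_zero fun i hi => ?_
  have h1 : Ni i ≤ N := hN _ (Finset.mem_image_of_mem Ni hi)
  rw [lenZ_eq_of_eq (hNi i n (le_trans h1 hn)), lenZ_bot, mul_zero]

end Vanish

section Torsion

variable (E : StarInjRes 𝒜 ℳ) (a : HomogeneousIdeal 𝒜)

/-- For a torsion module, the map `M → H^0_a(M)`. -/
def toH0 (hM : gam a.toIdeal M = ⊤) : M →ₗ[R] E.H a 0 :=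
  E.toH a 0 ∘ₗ LinearMap.codRestrict (E.cocyc a 0) E.ε
    (fun x => ⟨gam_map a.toIdeal E.ε (hM ▸ Submodule.mem_top), res_d_ε E x⟩)

theorem toH0_mem (hM : gam a.toIdeal M = ⊤) (n : ℤ) (x : M) (hx : x ∈ comp 𝒜 ℳ n) :
    toH0 E a hM x ∈ E.Hcomp a 0 n :=
  ⟨_, E.ε_grHom n x hx, rfl⟩

/-- For a torsion module `H^0_a(M)_n ≅ M_n`. -/
theorem lenZ_Hcomp_zero_of_torsion (hM : gam a.toIdeal M = ⊤) (n : ℤ) :
    lenZ (deg0 𝒜) (E.Hcomp a 0 n) = hZ 𝒜 ℳ n := by
  classical
  let ζ : ↥(comp 𝒜 ℳ n) →ₗ[deg0 𝒜] ↥(E.Hcomp a 0 n) :=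
    pieceMap _ _ (toH0 E a hM) (toH0_mem E a hM n)
  have hinj : Function.Injective ζ := by
    rw [← LinearMap.ker_eq_bot, LinearMap.ker_eq_bot']
    intro x hx
    have h1 : toH0 E a hM (x : M) = 0 := congrArg Subtype.val hx
    have h2 := (toH_eq_zero_iff E a 0 _).mp h1
    have h3 : E.ε (x : M) = 0 := (mem_cobdy_zero E a).mp h2
    apply Subtype.ext
    apply E.ε_injective
    rw [h3]
    exact (map_zero E.ε).symm
  have hsurj : Function.Surjective ζ := by
    rintro ⟨y, z, hz, rfl⟩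
    have hzr : (z : (E.X 0).carrier) ∈ LinearMap.range E.ε := by
      rw [← E.exact_zero]
      exact ((mem_cocyc E a 0).mp z.2).2
    obtain ⟨x, hx, hxz⟩ := exists_mem_piece_of_mem_range ℳ (E.X 0).gr E.ε E.ε_grHom hz hzr
    refine ⟨⟨x, hx⟩, ?_⟩
    apply Subtype.ext
    change toH0 E a hM x = E.toH a 0 z
    change E.toH a 0 _ = E.toH a 0 z
    congr 1
    exact Subtype.ext hxz
  exact (lenZ_congr (LinearEquiv.ofBijective ζ ⟨hinj, hsurj⟩)).symm

/-- The Euler characteristic of a torsion module is its Hilbert function. -/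
theorem chiZ_of_torsion (hM : gam a.toIdeal M = ⊤) (d : ℕ) (n : ℤ) :
    chiZ E a d n = hZ 𝒜 ℳ n := by
  unfold chiZ
  rw [Finset.sum_range_succ', pow_zero, one_mul, lenZ_Hcomp_zero_of_torsion E a hM n]
  rw [Finset.sum_eq_zero, zero_add]
  intro i _
  haveI := Groth.Agent.Lib.T2H3.GrTors.H_subsingleton_of_gam_eq_top E a hM i
  haveI : Subsingleton ↥(E.Hcomp a (i + 1) n) :=
    ⟨fun x y => Subtype.ext (Subsingleton.elim _ _)⟩
  rw [lenZ_of_subsingleton, mul_zero]

include hpos hm in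
/-- The Hilbert function of a finitely generated torsion module vanishes in high degrees. -/
theorem exists_hZ_eq_zero_of_torsion [Module.Finite R M] (hM : gam m.toIdeal M = ⊤) :
    ∃ N : ℤ, ∀ n : ℤ, N ≤ n → hZ 𝒜 ℳ n = 0 := by
  obtain ⟨N, hN⟩ := exists_bound_gam 𝒜 ℳ m
    (fun n hn r hr => irr_le_of_isStarLocal hpos hm (mem_irr_of_mem 𝒜 hn hr))
  refine ⟨N, fun n hn => ?_⟩
  haveI : Subsingleton ↥(comp 𝒜 ℳ n) := by
    refine ⟨fun x y => Subtype.ext ?_⟩
    rw [hN n hn x x.2 (hM ▸ Submodule.mem_top), hN n hn y y.2 (hM ▸ Submodule.mem_top)]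
  exact lenZ_of_subsingleton _

end Torsion

end Groth.Agent.Lib.T2H3.Serre
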