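import Groth.Agent.Lib.T2H3GrDimB
import Groth.Agent.Lib.T2H3SerreC

/-! Degree one prime avoidance in a *local standard graded ring with infinite residue field
(helper3): a finitely generated module without `m`-torsion has a regular element of degree one. -/

set_option autoImplicit false
set_option linter.unusedSectionVars false
set_option linter.style.haveILetI false
open DirectSum

namespace Groth.Agent.Lib.T2H3.PolyB

open GrLC Groth.Agent.Lib.T2H3.GrArt Groth.Agent.Lib.T2H3.GrIrr Groth.Agent.Lib.T2H3.GrDim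

universe u

variable {R : Type u} [CommRing R] [IsNoetherianRing R] {𝒜 : ℤ → AddSubgroup R} [GradedRing 𝒜]
variable (hpos : ∀ n : ℤ, n < 0 → 𝒜 n = ⊥) {m : HomogeneousIdeal 𝒜} (hm : IsStarLocal 𝒜 m)

include hm in
/-- A degree zero element outside the *maximal ideal is a unit. -/
theorem isUnit_of_notMem {a : R} (ha : a ∈ 𝒜 0) (ham : a ∉ m.toIdeal) : IsUnit a := by
  rw [← Ideal.span_singleton_eq_top]
  by_contra hne
  have hh : (Ideal.span {a}).IsHomogeneous 𝒜 := Ideal.homogeneous_span 𝒜 _ (by
    intro x hx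
    rw [Set.mem_singleton_iff] at hx
    subst hx
    exact ⟨0, ha⟩)
  have hJ : (⟨Ideal.span {a}, hh⟩ : HomogeneousIdeal 𝒜) ≠ ⊤ := by
    intro h
    apply hne
    exact congrArg HomogeneousIdeal.toIdeal h
  have hle := le_of_isStarLocal hm _ hJ
  exact ham (hle (Ideal.subset_span (Set.mem_singleton a)))

include hpos hm in
/-- An infinite family of degree zero elements with pairwise invertible differences. -/
theorem exists_family (hinf : Infinite (R ⧸ m.toIdeal)) :
    ∃ a : ℕ → R, (∀ n, a n ∈ 𝒜 0) ∧ ∀ i j, i ≠ j → IsUnit (a i - a j) := by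
  classical
  let f := Infinite.natEmbedding (R ⧸ m.toIdeal)
  have hsurj : ∀ y : R ⧸ m.toIdeal, ∃ r ∈ 𝒜 0, Ideal.Quotient.mk m.toIdeal r = y := by
    intro y
    obtain ⟨x, rfl⟩ := Ideal.Quotient.mk_surjective y
    refine ⟨(decompose 𝒜 x 0 : R), SetLike.coe_mem _, ?_⟩
    rw [eq_comm, Ideal.Quotient.mk_eq_mk_iff_sub_mem]
    exact irr_le_of_isStarLocal hpos hm (sub_decompose_zero_mem_irr 𝒜 hpos x)
  choose a ha0 ha using fun n => hsurj (f n)
  refine ⟨a, ha0, fun i j hij => isUnit_of_notMem hm (sub_mem (ha0 i) (ha0 j)) ?_⟩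
  intro hmem
  apply hij
  apply f.injective
  rw [← ha i, ← ha j, Ideal.Quotient.mk_eq_mk_iff_sub_mem]
  exact hmem

include hpos hm in
/-- Degree one avoidance of finitely many ideals. -/
theorem exists_avoid (hinf : Infinite (R ⧸ m.toIdeal)) (S : Finset (Ideal R))
    (hS : ∀ q ∈ S, ∃ w ∈ 𝒜 1, w ∉ q) : ∃ v ∈ 𝒜 1, ∀ q ∈ S, v ∉ q := by
  classical
  obtain ⟨a, ha0, hau⟩ := exists_family hpos hm hinf
  induction S using Finset.induction_on with
  | empty => exact ⟨0, zero_mem _, fun q hq => absurd hq (Finset.notMem_empty q)⟩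
  | insert p S' hp ih =>
    obtain ⟨v, hv1, hv⟩ := ih (fun q hq => hS q (Finset.mem_insert_of_mem hq))
    obtain ⟨w, hw1, hw⟩ := hS p (Finset.mem_insert_self p S')
    have hu1 : ∀ n, v + a n * w ∈ 𝒜 1 := fun n => add_mem hv1 (by
      have := SetLike.GradedMul.mul_mem (ha0 n) hw1
      rwa [zero_add] at this)
    have hnot : ∀ q ∈ insert p S', ¬ (v ∈ q ∧ w ∈ q) := by
      intro q hq
      rcases Finset.mem_insert.mp hq with rfl | hq
      · exact fun h => hw h.2
      · exact fun h => hv q hq h.1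
    have hsub : ∀ q ∈ insert p S', {n : ℕ | v + a n * w ∈ q}.Subsingleton := by
      intro q hq i hi j hj
      by_contra hij
      have h1 : (a i - a j) * w ∈ q := by
        have := q.sub_mem hi hj
        have e : v + a i * w - (v + a j * w) = (a i - a j) * w := by ring
        rwa [e] at this
      have hwq : w ∈ q := by
        obtain ⟨u, hu⟩ := hau i j hij
        have := q.mul_mem_left (↑u⁻¹ : R) h1
        rw [← mul_assoc, ← hu, Units.inv_mul, one_mul] at this
        exact this
      have hvq : v ∈ q := by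
        have := q.sub_mem hi (q.mul_mem_left (a i) hwq)
        rwa [add_sub_cancel_right] at this
      exact hnot q hq ⟨hvq, hwq⟩
    have hfin : (⋃ q ∈ (↑(insert p S') : Set (Ideal R)), {n : ℕ | v + a n * w ∈ q}).Finite :=
      Set.Finite.biUnion (Finset.finite_toSet _) (fun q hq => (hsub q hq).finite)
    obtain ⟨n, hn⟩ := hfin.exists_notMem
    refine ⟨v + a n * w, hu1 n, fun q hq hmem => hn ?_⟩
    exact Set.mem_biUnion (Finset.mem_coe.mpr hq) hmem

variable (hstd : Ideal.span (⋃ n ∈ Set.Ioi (0 : ℤ), (𝒜 n : Set R)) =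
    Ideal.span ((𝒜 1 : AddSubgroup R) : Set R)) [IsArtinianRing (deg0 𝒜)]

include hpos hm hstd in
/-- A finitely generated module without `m`-torsion has a regular element of degree one. -/
theorem exists_regular_deg_one (hinf : Infinite (R ⧸ m.toIdeal))
    (N : Type u) [AddCommGroup N] [Module R N] [Module.Finite R N]
    (hN : gam m.toIdeal N = ⊥) : ∃ x ∈ 𝒜 1, IsSMulRegular N x := by
  classical
  have hfin : (associatedPrimes R N).Finite := associatedPrimes.finite R N
  have hS : ∀ q ∈ hfin.toFinset, ∃ w ∈ 𝒜 1, w ∉ q := by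
    intro q hq
    rw [Set.Finite.mem_toFinset] at hq
    by_contra hcon
    push Not at hcon
    have hirr : irr 𝒜 ≤ q := by
      unfold irr
      rw [hstd, Ideal.span_le]
      exact fun w hw => hcon w hw
    obtain ⟨hqp, n, hn⟩ := isAssociatedPrime_iff.mp hq
    haveI := hqp
    have hqm := Groth.Agent.Lib.T2H3.Serre.eq_of_isPrime_of_irr_le hpos hm q hirr
    have hmem : n ∈ gam m.toIdeal N := by
      refine ⟨1, fun r hr => ?_⟩
      rw [pow_one, ← hqm, hn, Submodule.mem_colon_singleton] at hr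
      exact (Submodule.mem_bot R).mp hr
    rw [hN] at hmem
    have hn0 : n = 0 := (Submodule.mem_bot R).mp hmem
    apply hqp.ne_top
    rw [hn, hn0, Ideal.eq_top_iff_one, Submodule.mem_colon_singleton, smul_zero]
    exact Submodule.zero_mem _
  obtain ⟨x, hx1, hx⟩ := exists_avoid hpos hm hinf hfin.toFinset hS
  refine ⟨x, hx1, ?_⟩
  rw [isSMulRegular_iff_right_eq_zero_of_smul]
  intro z hz
  by_contra hz0
  have hmem : x ∈ ⋃ p ∈ associatedPrimes R N, (p : Set R) := by
    rw [biUnion_associatedPrimes_eq_zero_divisors]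
    exact ⟨z, hz0, hz⟩
  obtain ⟨p, hp, hxp⟩ := Set.mem_iUnion₂.mp hmem
  exact hx p (hfin.mem_toFinset.mpr hp) hxp

end Groth.Agent.Lib.T2H3.PolyB
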