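import Groth.Agent.Lib.T2H3StdGr
import Groth.Agent.Lib.T2H3GrIrrA
import Groth.Prelude.Def_GrLC

/-! Characterisation of polynomial rings, part B (helper3): a standard graded ring over a field
`k = R_0` whose degree one piece is spanned by `dim R` elements is the polynomial ring on them. -/

set_option autoImplicit false
set_option linter.unusedSectionVars false
set_option linter.style.haveILetI false
open DirectSum

noncomputable section

namespace Groth.Agent.Lib.T2H3.PolyRing

open GrLC Groth.Agent.Lib.T2H3.GrIrr Groth.Agent.Lib.T2H3.StdGr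

universe u

theorem ringKrullDim_mvPolynomial_of_isField (K : Type*) [CommRing K] (h : IsField K) (s : ℕ) :
    ringKrullDim (MvPolynomial (Fin s) K) = s := by
  letI := h.toField
  have := MvPolynomial.ringKrullDim_of_isNoetherianRing (R := K) (ι := Fin s)
  rw [ringKrullDim_eq_zero_of_field, zero_add, Nat.card_eq_fintype_card, Fintype.card_fin] at this
  exact this

variable {R : Type u} [CommRing R] {𝒜 : ℤ → AddSubgroup R} [GradedRing 𝒜]

/-- The evaluation map `R_0[X_1..X_s] → R`, `X_i ↦ y_i`. -/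
def evalHom {s : ℕ} (y : Fin s → R) : MvPolynomial (Fin s) (deg0 𝒜) →+* R :=
  MvPolynomial.eval₂Hom (deg0 𝒜).subtype y

@[simp] theorem evalHom_X {s : ℕ} (y : Fin s → R) (i : Fin s) :
    evalHom (𝒜 := 𝒜) y (MvPolynomial.X i) = y i := by
  unfold evalHom
  simp

@[simp] theorem evalHom_C {s : ℕ} (y : Fin s → R) (a : deg0 𝒜) :
    evalHom (𝒜 := 𝒜) y (MvPolynomial.C a) = (a : R) := by
  unfold evalHom
  simp

variable (hpos : ∀ n : ℤ, n < 0 → 𝒜 n = ⊥)
  (hstd : Ideal.span (⋃ n ∈ Set.Ioi (0 : ℤ), (𝒜 n : Set R)) =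
    Ideal.span ((𝒜 1 : AddSubgroup R) : Set R))

include hpos hstd in
theorem evalHom_surjective {s : ℕ} (y : Fin s → R)
    (hspan : ∀ x ∈ 𝒜 1, x ∈ Submodule.span (deg0 𝒜) (Set.range y)) :
    Function.Surjective (evalHom (𝒜 := 𝒜) y) := by
  classical
  rw [← RingHom.range_eq_top]
  set S := (evalHom (𝒜 := 𝒜) y).range with hS
  have h0 : ∀ a ∈ 𝒜 0, a ∈ S := fun a ha => ⟨MvPolynomial.C ⟨a, ha⟩, by simp⟩
  have h1 : ∀ x ∈ 𝒜 1, x ∈ S := by
    intro x hx
    have := hspan x hx
    clear hx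
    induction this using Submodule.span_induction with
    | mem z hz =>
      obtain ⟨i, rfl⟩ := hz
      exact ⟨MvPolynomial.X i, by simp⟩
    | zero => exact zero_mem _
    | add a b _ _ ha hb => exact add_mem ha hb
    | smul c z _ hz =>
      have : c • z = (c : R) * z := rfl
      rw [this]
      exact mul_mem (h0 _ c.2) hz
  have hn : ∀ n : ℕ, ∀ x ∈ 𝒜 (n : ℤ), x ∈ S := by
    intro n
    induction n with
    | zero =>
      intro x hx
      exact h0 x (by simpa using hx)
    | succ n ih =>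
      intro x hx
      have hx' : x ∈ 𝒜 ((n : ℤ) + 1) := by
        have : ((n + 1 : ℕ) : ℤ) = (n : ℤ) + 1 := by push_cast; ring
        rwa [this] at hx
      have h2 := mem_prodGrp_succ 𝒜 hstd (n := (n : ℤ)) (by positivity) hx'
      refine AddSubgroup.closure_induction (p := fun z _ => z ∈ S) ?_ ?_ ?_ ?_ h2
      · rintro z ⟨u, hu, w, hw, rfl⟩
        exact mul_mem (ih u hu) (h1 w hw)
      · exact zero_mem _
      · intro a b _ _ ha hb
        exact add_mem ha hb
      · intro a _ ha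
        exact neg_mem ha
  rw [eq_top_iff]
  intro r _
  rw [← DirectSum.sum_support_decompose 𝒜 r]
  refine sum_mem fun i _ => ?_
  rcases lt_or_ge i 0 with hi | hi
  · have : (decompose 𝒜 r i : R) = 0 := decompose_neg_eq_zero 𝒜 hpos r hi
    rw [this]
    exact zero_mem _
  · obtain ⟨n, rfl⟩ := Int.eq_ofNat_of_zero_le hi
    exact hn n _ (SetLike.coe_mem _)

include hpos hstd in
/-- If `R_0` is a field, `R_1` is spanned by `s = dim R` elements then `R` is the polynomial
ring. -/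
theorem evalHom_bijective (h0 : IsField (deg0 𝒜)) {s : ℕ} (y : Fin s → R)
    (hspan : ∀ x ∈ 𝒜 1, x ∈ Submodule.span (deg0 𝒜) (Set.range y))
    (hdim : ringKrullDim R = s) :
    Function.Bijective (evalHom (𝒜 := 𝒜) y) := by
  classical
  haveI := h0.isDomain
  have hsurj := evalHom_surjective hpos hstd y hspan
  refine ⟨?_, hsurj⟩
  rw [injective_iff_map_eq_zero]
  intro f hf
  by_contra hne
  have hTdim : ringKrullDim (MvPolynomial (Fin s) (deg0 𝒜)) = s :=
    ringKrullDim_mvPolynomial_of_isField _ h0 s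
  have hnzd : f ∈ nonZeroDivisors (MvPolynomial (Fin s) (deg0 𝒜)) :=
    mem_nonZeroDivisors_of_ne_zero hne
  have h1 := ringKrullDim_quotient_succ_le_of_nonZeroDivisor hnzd
  rw [hTdim] at h1
  -- `R` is a quotient of `T/(f)`
  have hle : Ideal.span {f} ≤ RingHom.ker (evalHom (𝒜 := 𝒜) y) := by
    rw [Ideal.span_le]
    intro g hg
    rw [Set.mem_singleton_iff] at hg
    rw [hg]
    exact hf
  obtain ⟨ψ, hψ⟩ : ∃ ψ : MvPolynomial (Fin s) (deg0 𝒜) ⧸ Ideal.span {f} →+* R,
      Function.Surjective ψ := by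
    refine ⟨Ideal.Quotient.lift _ (evalHom (𝒜 := 𝒜) y) (fun a ha => hle ha), ?_⟩
    intro r
    obtain ⟨g, rfl⟩ := hsurj r
    exact ⟨Ideal.Quotient.mk _ g, by simp⟩
  have h2 : ringKrullDim R ≤ ringKrullDim (MvPolynomial (Fin s) (deg0 𝒜) ⧸ Ideal.span {f}) :=
    ringKrullDim_le_of_surjective ψ hψ
  rw [hdim] at h2
  have h3 : ((s : ℕ) : WithBot ℕ∞) + 1 ≤ s := le_trans (add_le_add_left h2 1) h1
  have h4 : ((s + 1 : ℕ) : WithBot ℕ∞) ≤ ((s : ℕ) : WithBot ℕ∞) := by
    push_cast
    exact h3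
  have := Nat.cast_le.mp h4
  omega

include hpos hstd in
theorem exists_ringEquiv (h0 : IsField (deg0 𝒜)) {s : ℕ} (y : Fin s → R)
    (hspan : ∀ x ∈ 𝒜 1, x ∈ Submodule.span (deg0 𝒜) (Set.range y))
    (hdim : ringKrullDim R = s) :
    ∃ e : MvPolynomial (Fin s) (deg0 𝒜) ≃+* R, ∀ i, e (MvPolynomial.X i) = y i :=
  ⟨RingEquiv.ofBijective _ (evalHom_bijective hpos hstd h0 y hspan hdim), fun i => by simp⟩

end Groth.Agent.Lib.T2H3.PolyRing
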