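import Groth.Agent.Lib.T2H3QRegA
import Groth.Agent.Lib.T2H3GrArtA

/-! An Artinian graded module over a ring without negative part is torsion for any ideal inside
the irrelevant ideal (helper3). -/

set_option autoImplicit false
set_option linter.unusedSectionVars false
set_option linter.style.haveILetI false
open DirectSum

noncomputable section

namespace Groth.Agent.Lib.T2H3.QReg

open GrLC Groth.Agent.Lib.T2H3.GrIrr Groth.Agent.Lib.T2H3.GrArt

universe u

variable {R : Type u} [CommRing R] (𝒜 : ℤ → AddSubgroup R) [GradedRing 𝒜]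
variable {H : Type u} [AddCommGroup H] [Module R H] (𝓗 : ℤ → AddSubgroup H)
  [DirectSum.Decomposition 𝓗] [SetLike.GradedSMul 𝒜 𝓗]

theorem irr_pow_le_geSub (N : ℕ) : irr 𝒜 ^ N ≤ geSub (R := R) 𝒜 (N : ℤ) := by
  induction N with
  | zero =>
    intro r _
    have h1 : (1 : R) ∈ geSub (R := R) 𝒜 ((0 : ℕ) : ℤ) := by
      apply Submodule.subset_span
      refine Set.mem_biUnion (show (0 : ℤ) ∈ Set.Ici (((0 : ℕ) : ℤ)) from ?_) ?_
      · simp
      · exact SetLike.GradedOne.one_mem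
    have := Submodule.smul_mem (geSub (R := R) 𝒜 ((0 : ℕ) : ℤ)) r h1
    rwa [smul_eq_mul, mul_one] at this
  | succ N ih =>
    rw [pow_succ]
    refine le_trans (Ideal.mul_mono_left ih) ?_
    change Ideal.span _ * Ideal.span _ ≤ Ideal.span _
    rw [Ideal.span_mul_span']
    apply Ideal.span_mono
    rintro _ ⟨u, hu, v, hv, rfl⟩
    simp only [Set.mem_iUnion, Set.mem_Ici, Set.mem_Ioi, SetLike.mem_coe, exists_prop] at hu hv ⊢
    obtain ⟨p, hp, hup⟩ := hu
    obtain ⟨q, hq, hvq⟩ := hv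
    refine ⟨p + q, ?_, SetLike.GradedMul.mul_mem hup hvq⟩
    push_cast
    omega

theorem smul_eq_zero_of_mem_geSub {N j : ℤ} (hvan : ∀ n : ℤ, N + j ≤ n → 𝓗 n = ⊥) {r : R}
    (hr : r ∈ geSub (R := R) 𝒜 N) {y : H} (hy : y ∈ 𝓗 j) : r • y = 0 := by
  unfold geSub at hr
  induction hr using Submodule.span_induction with
  | mem u hu =>
    simp only [Set.mem_iUnion, Set.mem_Ici, SetLike.mem_coe, exists_prop] at hu
    obtain ⟨n, hn, hun⟩ := hu
    have h1 : u • y ∈ 𝓗 (n + j) := SetLike.GradedSMul.smul_mem hun hy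
    rw [hvan (n + j) (by omega)] at h1
    exact h1
  | zero => exact zero_smul _ _
  | add a b _ _ ha hb => rw [add_smul, ha, hb, add_zero]
  | smul c a _ ha => rw [smul_eq_mul, mul_smul, ha, smul_zero]

/-- A graded module vanishing in high degrees is torsion for ideals inside the irrelevant
ideal. -/
theorem gam_eq_top_of_pieces_vanish (a : Ideal R) (ha : a ≤ irr 𝒜) {N₀ : ℤ}
    (hvan : ∀ n : ℤ, N₀ ≤ n → 𝓗 n = ⊥) : gam a H = ⊤ := by
  classical
  rw [eq_top_iff]
  intro y _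
  rw [← DirectSum.sum_support_decompose 𝓗 y]
  refine Submodule.sum_mem _ fun j _ => ?_
  refine ⟨(N₀ - j).toNat, fun r hr => ?_⟩
  have hr1 : r ∈ irr 𝒜 ^ (N₀ - j).toNat := Ideal.pow_right_mono ha _ hr
  have hr2 := irr_pow_le_geSub 𝒜 _ hr1
  refine smul_eq_zero_of_mem_geSub 𝒜 𝓗 (fun n hn => hvan n ?_) hr2 (SetLike.coe_mem _)
  have := Int.self_le_toNat (N₀ - j)
  omega

include 𝓗 in
/-- An Artinian graded module over a ring without negative part is torsion for ideals inside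
the irrelevant ideal. -/
theorem gam_eq_top_of_isArtinian (hpos : ∀ n : ℤ, n < 0 → 𝒜 n = ⊥) [IsArtinian R H]
    (a : Ideal R) (ha : a ≤ irr 𝒜) : gam a H = ⊤ := by
  obtain ⟨N₀, hN₀⟩ := exists_piece_eq_bot 𝒜 𝓗 hpos
  exact gam_eq_top_of_pieces_vanish 𝒜 𝓗 a ha hN₀

end Groth.Agent.Lib.T2H3.QReg
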