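import Groth.Agent.Lib.T2H3VerR
import Groth.Agent.Lib.LeadSPa
import Groth.Agent.Lib.Helper8GV
import Groth.Agent.Lib.Helper29GrQuot
import Groth.Agent.Lib.T2H3GrAinvB
import Groth.Agent.Lib.T2H3GrLesG
import Groth.Agent.S13224

/-! Veronese subrings of Gorenstein graded rings (helper3), part S: a homogeneous regular pair
`x, y` of high degree in a Cohen–Macaulay graded ring of dimension at least two, with `x` acting
surjectively on the top local cohomology. -/

set_option autoImplicit false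
set_option linter.unusedSectionVars false
set_option linter.style.haveILetI false
set_option maxHeartbeats 1000000
open DirectSum

noncomputable section

namespace Groth.Agent.Lib.T2H3.Ver

open GrLC Groth.Agent.Lib.T2H3.GrIrr Groth.Agent.Lib.T2H3.GrArt Groth.Agent.Lib.T2H3.GrLes
  Groth.Agent.Lib.T2H3.GDual

universe u

section Avoid

variable {K R : Type u} [Field K] [CommRing R] [Algebra K R] (𝒜 : ℤ → Submodule K R)
  [GradedAlgebra 𝒜] [IsNoetherianRing R]

/-- A homogeneous element of positive degree regular on a finite module without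
`R_+`-torsion. -/
theorem exists_homogeneous_regular_on (hpos : ∀ n : ℤ, n < 0 → 𝒜 n = ⊥)
    (hmax : (Groth.Agent.Lib.LeadSeg.irr 𝒜).IsMaximal)
    {N : Type u} [AddCommGroup N] [Module R N] [Module.Finite R N]
    (hN : ∀ z : N, (∀ r ∈ Groth.Agent.Lib.LeadSeg.irr 𝒜, r • z = 0) → z = 0) :
    ∃ (y : R) (d : ℕ), 0 < d ∧ y ∈ 𝒜 (d : ℤ) ∧ ∀ z : N, y • z = 0 → z = 0 := by
  classical
  letI := Groth.Agent.Lib.LeadSP.natGradedAlgebra 𝒜 hpos
  have hfin : (associatedPrimes R N).Finite := associatedPrimes.finite R N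
  have hP : ∀ p ∈ hfin.toFinset, p.IsPrime ∧
      ¬ Groth.Agent.Lib.LeadGCM.irr (Groth.Agent.Lib.LeadSP.natGr 𝒜) ≤ p := by
    intro p hp
    rw [Set.Finite.mem_toFinset] at hp
    have hpp : p.IsPrime := IsAssociatedPrime.isPrime hp
    refine ⟨hpp, fun hle => ?_⟩
    rw [Groth.Agent.Lib.LeadSP.irr_natGr] at hle
    have heq : Groth.Agent.Lib.LeadSeg.irr 𝒜 = p := hmax.eq_of_le hpp.ne_top hle
    obtain ⟨-, z, hz⟩ := (isAssociatedPrime_iff (R := R) (M := N)).1 hp
    have hz0 : z = 0 := by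
      apply hN
      intro r hr
      rw [heq, hz, Submodule.mem_colon_singleton] at hr
      exact (Submodule.mem_bot R).1 hr
    apply hpp.ne_top
    rw [hz, hz0, Ideal.eq_top_iff_one, Submodule.mem_colon_singleton, smul_zero]
    exact zero_mem _
  obtain ⟨y, d, hd, hyd, -, hyP⟩ := Groth.Agent.Lib.Helper22.GrAvoid.exists_homogeneous_avoid
    (Groth.Agent.Lib.LeadSP.natGr 𝒜)
    (Groth.Agent.Lib.LeadGCM.irr (Groth.Agent.Lib.LeadSP.natGr 𝒜))
    (Groth.Agent.Lib.LeadGCM.irr_isHomogeneous _) le_rfl hfin.toFinset hP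
  refine ⟨y, d, hd, hyd, fun z hz => ?_⟩
  by_contra hz0
  have hmem : y ∈ {r : R | ∃ x : N, x ≠ 0 ∧ r • x = 0} := ⟨z, hz0, hz⟩
  rw [← biUnion_associatedPrimes_eq_zero_divisors R N] at hmem
  simp only [Set.mem_iUnion, SetLike.mem_coe, exists_prop] at hmem
  obtain ⟨p, hp, hyp⟩ := hmem
  exact hyP p ((Set.Finite.mem_toFinset hfin).mpr hp) hyp

theorem pow_smul_regular {N : Type u} [AddCommGroup N] [Module R N] (y : R)
    (hy : ∀ z : N, y • z = 0 → z = 0) (k : ℕ) : ∀ z : N, y ^ k • z = 0 → z = 0 := by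
  induction k with
  | zero => intro z hz; rwa [pow_zero, one_smul] at hz
  | succ k ih =>
    intro z hz
    rw [pow_succ, mul_smul] at hz
    exact hy z (ih _ hz)

end Avoid

section Gam

variable {R : Type u} [CommRing R] {𝒜 : ℤ → AddSubgroup R} [GradedRing 𝒜]
  {M : Type u} [AddCommGroup M] [Module R M] {ℳ : ℤ → AddSubgroup M}
  [DirectSum.Decomposition ℳ] [SetLike.GradedSMul 𝒜 ℳ]

theorem eq_zero_of_mem_gam_of_H_zero' (E : StarInjRes 𝒜 ℳ) (m : HomogeneousIdeal 𝒜)
    (hH : ∀ y : E.H m 0, y = 0) (z : M) (hz : z ∈ gam m.toIdeal M) : z = 0 := by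
  have h1 : E.ε z ∈ E.cocyc m 0 := by
    refine Submodule.mem_inf.mpr ⟨gam_map m.toIdeal E.ε hz, ?_⟩
    rw [E.exact_zero]
    exact ⟨z, rfl⟩
  have h2 := hH (E.toH m 0 ⟨E.ε z, h1⟩)
  rw [toH_eq_zero_iff] at h2
  have h3 : E.ε z = 0 := (Submodule.mem_bot R).1 h2
  exact E.ε_injective (h3.trans (map_zero E.ε).symm)

end Gam

end Groth.Agent.Lib.T2H3.Ver
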