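import Groth.Agent.Lib.T2H3PolyA
import Groth.Agent.Lib.T2H3PolyB
import Groth.Agent.Lib.T2H3PolyRingB
import Groth.Agent.Lib.T2H3GrAinvB
import Groth.Agent.Lib.T2H3VerS
import Groth.Agent.Lib.T2H3QRegB
import Groth.Agent.Lib.T2H3SerreC

/-! A standard graded Cohen–Macaulay *local ring with Artinian degree zero part, infinite residue
field and `a(R) = -dim R` is a polynomial ring over `R_0` (helper3). -/

set_option autoImplicit false
set_option linter.unusedSectionVars false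
set_option linter.style.haveILetI false
open DirectSum

noncomputable section

namespace Groth.Agent.Lib.T2H3.PolyC

open GrLC RingTheory.Sequence Groth.Agent.Lib.T2H3.GrArt Groth.Agent.Lib.T2H3.GrDim
  Groth.Agent.Lib.T2H3.GrLes Groth.Agent.Lib.T2H3.GrIrr Groth.Agent.Lib.Helper29GrQuot
  Groth.Agent.Lib.Helper29GrHom Groth.Agent.Lib.T2H3.GrAinv
open scoped Pointwise

universe u

section Dim

/-- Over a Noetherian ring, dividing by a weakly regular sequence drops the dimension of the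
support by at least its length. -/
theorem supportDim_add_length_le {R : Type*} [CommRing R] [IsNoetherianRing R] {M : Type*}
    [AddCommGroup M] [Module R M] [Module.Finite R M] (rs : List R)
    (reg : IsWeaklyRegular M rs) :
    Module.supportDim R (M ⧸ Ideal.ofList rs • (⊤ : Submodule R M)) + rs.length ≤
      Module.supportDim R M := by
  induction rs generalizing M with
  | nil =>
    rw [Ideal.ofList_nil, Submodule.bot_smul]
    simpa using (Module.supportDim_eq_of_equiv (Submodule.quotEquivOfEqBot ⊥ rfl)).le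
  | cons x rs' ih =>
    obtain ⟨h1, h2⟩ := (isWeaklyRegular_cons_iff M _ _).mp reg
    rw [Module.supportDim_eq_of_equiv
      (Submodule.quotOfListConsSMulTopEquivQuotSMulTopInner M x _)]
    have h3 := ih h2
    have h4 : Module.supportDim R (QuotSMulTop x M) + 1 ≤ Module.supportDim R M :=
      Module.supportDim_quotSMulTop_succ_le_of_notMem_minimalPrimes
        (fun _ => h1.notMem_of_mem_minimalPrimes)
    rw [List.length_cons, Nat.cast_add, Nat.cast_one, ← add_assoc]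
    exact le_trans (add_le_add_left h3 1) h4

theorem le_zero_of_add_le (a : WithBot ℕ∞) (d : ℕ) (h : a + (d : WithBot ℕ∞) ≤ d) : a ≤ 0 := by
  induction a using WithBot.recBotCoe with
  | bot => exact bot_le
  | coe e =>
    have h' : ((e + (d : ℕ∞) : ℕ∞) : WithBot ℕ∞) ≤ ((d : ℕ∞) : WithBot ℕ∞) := by
      simpa using h
    rw [WithBot.coe_le_coe] at h'
    have : e ≤ 0 := by
      induction e using ENat.recTopCoe with
      | top => simp at h'
      | coe n =>
        have : n + d ≤ d := by exact_mod_cast h'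
        have : n = 0 := by omega
        simp [this]
    exact_mod_cast this

end Dim

variable {R : Type u} [CommRing R] {𝒜 : ℤ → AddSubgroup R} [GradedRing 𝒜]

section H0

variable [IsNoetherianRing R] [IsArtinianRing (deg0 𝒜)]
  {M : Type u} [AddCommGroup M] [Module R M] {ℳ : ℤ → AddSubgroup M}
  [DirectSum.Decomposition ℳ] [SetLike.GradedSMul 𝒜 ℳ]

/-- For a torsion module, a piece vanishes when the corresponding piece of `H^0` does. -/
theorem eq_zero_of_Hgr_zero (E : StarInjRes 𝒜 ℳ) (a : HomogeneousIdeal 𝒜)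
    (hM : gam a.toIdeal M = ⊤) (n : ℤ) (h : E.Hgr a 0 n = ⊥) (x : M) (hx : x ∈ ℳ n) : x = 0 := by
  have h0 : Groth.Agent.Lib.T2H3.Serre.toH0 E a hM x ∈ E.Hgr a 0 n :=
    Groth.Agent.Lib.T2H3.Serre.toH0_mem E a hM n x hx
  rw [h] at h0
  have h1 : Groth.Agent.Lib.T2H3.Serre.toH0 E a hM x = 0 := AddSubgroup.mem_bot.mp h0
  have h2 := (toH_eq_zero_iff E a 0 _).mp h1
  have h3 : E.ε x = 0 := (mem_cobdy_zero E a).mp h2
  exact E.ε_injective (h3.trans (map_zero E.ε).symm)

end H0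

variable [hCM : LocCoh.IsCohenMacaulayRing R]
variable (hpos : ∀ n : ℤ, n < 0 → 𝒜 n = ⊥) {m : HomogeneousIdeal 𝒜} (hm : IsStarLocal 𝒜 m)

theorem map_pair_fst (l : List R) : (l.map fun r => (r, (1 : ℤ))).map Prod.fst = l := by
  rw [List.map_map]
  exact List.map_id l

theorem map_pair_snd_sum (l : List R) :
    ((l.map fun r => (r, (1 : ℤ))).map Prod.snd).sum = (l.length : ℤ) := by
  induction l with
  | nil => rfl
  | cons a l ih =>
    rw [List.map_cons, List.map_cons, List.sum_cons, ih, List.length_cons]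
    push_cast
    ring

include hpos hm in
theorem mem_m_of_mem_one {r : R} (hr : r ∈ 𝒜 1) : r ∈ m.toIdeal :=
  irr_le_of_isStarLocal hpos hm (mem_irr_of_mem 𝒜 one_pos hr)

include hpos hm in
theorem ofList_le_m (l : List R) (hl1 : ∀ r ∈ l, r ∈ 𝒜 1) : Ideal.ofList l ≤ m.toIdeal := by
  unfold Ideal.ofList
  rw [Ideal.span_le]
  intro r hr
  exact mem_m_of_mem_one hpos hm (hl1 r hr)

theorem ofList_isHomogeneous (l : List R) (hl1 : ∀ r ∈ l, r ∈ 𝒜 1) :
    (Ideal.ofList l • (⊤ : Submodule R R)).IsHomogeneous 𝒜 := by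
  have h : Ideal.ofList l • (⊤ : Submodule R R) = Ideal.span {r | r ∈ l} := by
    rw [smul_eq_mul, Ideal.mul_top]
  rw [h]
  exact Ideal.homogeneous_span 𝒜 _ (fun r hr => ⟨1, hl1 r hr⟩)

include hpos hm in
/-- Local cohomology modulo a regular sequence of forms of degree one. -/
theorem quot_regseq (d : ℕ) (hd : ringKrullDim R = d) (I : StarInjRes 𝒜 𝒜)
    (l : List R) (hl1 : ∀ r ∈ l, r ∈ 𝒜 1) (hw : IsWeaklyRegular R l) (hlen : l.length ≤ d)
    (P : Submodule R R) (hPdef : P = Ideal.ofList l • (⊤ : Submodule R R))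
    [DirectSum.Decomposition (quotGr 𝒜 P)] [SetLike.GradedSMul 𝒜 (quotGr 𝒜 P)]
    (F : StarInjRes 𝒜 (quotGr 𝒜 P)) :
    (∀ j, j < d - l.length → ∀ y : F.H m j, y = 0) ∧
      endDeg (F.Hgr m (d - l.length)) = endDeg (I.Hgr m d) + c (l.length : ℤ) := by
  have hl : ∀ p ∈ (l.map fun r => (r, (1 : ℤ))), p.1 ∈ 𝒜 p.2 ∧ p.1 ∈ m.toIdeal := by
    intro p hp
    rw [List.mem_map] at hp
    obtain ⟨r, hr, rfl⟩ := hp
    exact ⟨hl1 r hr, mem_m_of_mem_one hpos hm (hl1 r hr)⟩
  have hker : LinearMap.ker P.mkQ =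
      Ideal.ofList ((l.map fun r => (r, (1 : ℤ))).map Prod.fst) • (⊤ : Submodule R R) := by
    rw [map_pair_fst, Submodule.ker_mkQ, hPdef]
  have hN : Nontrivial (R ⧸ P) := by
    rw [Submodule.Quotient.nontrivial_iff, hPdef, smul_eq_mul, Ideal.mul_top]
    intro h
    apply one_notMem_of_isStarLocal hm
    exact ofList_le_m hpos hm l hl1 (h ▸ Submodule.mem_top)
  have hw' : IsWeaklyRegular R ((l.map fun r => (r, (1 : ℤ))).map Prod.fst) := by
    rw [map_pair_fst]
    exact hw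
  have hlen' : (l.map fun r => (r, (1 : ℤ))).length = l.length := List.length_map _
  have hvan : ∀ i, i < (d - l.length) + (l.map fun r => (r, (1 : ℤ))).length →
      ∀ y : I.H m i, y = 0 := by
    intro i hi y
    rw [hlen', Nat.sub_add_cancel hlen] at hi
    exact H_eq_zero_of_lt_dim hpos hm d hd I i hi y
  obtain ⟨h1, h2⟩ := regseq_aux hpos m _ hl R 𝒜 I (R ⧸ P) (quotGr 𝒜 P) F P.mkQ
    (fun g z hz => ⟨z, hz, rfl⟩) P.mkQ_surjective hker hw' hN (d - l.length) hvan
  refine ⟨h1, ?_⟩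
  rw [h2, hlen', Nat.sub_add_cancel hlen, map_pair_snd_sum]

variable (hstd : Ideal.span (⋃ n ∈ Set.Ioi (0 : ℤ), (𝒜 n : Set R)) =
    Ideal.span ((𝒜 1 : AddSubgroup R) : Set R)) [IsArtinianRing (deg0 𝒜)]

include hpos hm hstd in
/-- Existence of a regular sequence of `dim R` forms of degree one. -/
theorem exists_regseq (hinf : Infinite (R ⧸ m.toIdeal)) (d : ℕ) (hd : ringKrullDim R = d)
    (I : StarInjRes 𝒜 𝒜) :
    ∀ i, i ≤ d → ∃ l : List R, l.length = i ∧ (∀ r ∈ l, r ∈ 𝒜 1) ∧ IsWeaklyRegular R l := by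
  intro i
  induction i with
  | zero => exact fun _ => ⟨[], rfl, fun r hr => absurd hr List.not_mem_nil, IsWeaklyRegular.nil R R⟩
  | succ i ih =>
    intro hi
    obtain ⟨l, hlen, hl1, hw⟩ := ih (by omega)
    obtain ⟨P, hPdef⟩ : ∃ P : Submodule R R, P = Ideal.ofList l • (⊤ : Submodule R R) := ⟨_, rfl⟩
    have hP : P.IsHomogeneous 𝒜 := by
      rw [hPdef]
      exact ofList_isHomogeneous l hl1
    letI decQ : DirectSum.Decomposition (quotGr 𝒜 P) := quotDecomposition 𝒜 P hP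
    letI gsQ : SetLike.GradedSMul 𝒜 (quotGr 𝒜 P) := quot_gradedSMul 𝒜 P 𝒜
    obtain ⟨F⟩ : Nonempty (StarInjRes 𝒜 (quotGr 𝒜 P)) :=
      ⟨Groth.Agent.Lib.Helper29GrRes.starInjRes 𝒜 (quotGr 𝒜 P)⟩
    obtain ⟨h1, -⟩ := quot_regseq hpos hm d hd I l hl1 hw (by omega) P hPdef F
    have hgam : gam m.toIdeal (R ⧸ P) = ⊥ := by
      rw [eq_bot_iff]
      intro z hz
      rw [Submodule.mem_bot]
      exact Groth.Agent.Lib.T2H3.Ver.eq_zero_of_mem_gam_of_H_zero' F m (h1 0 (by omega)) z hz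
    obtain ⟨x, hx1, hx⟩ := Groth.Agent.Lib.T2H3.PolyB.exists_regular_deg_one hpos hm hstd hinf
      (R ⧸ P) hgam
    refine ⟨l ++ [x], by rw [List.length_append, hlen]; rfl, ?_, ?_⟩
    · intro r hr
      rcases List.mem_append.mp hr with hr | hr
      · exact hl1 r hr
      · rw [List.mem_singleton] at hr
        rw [hr]
        exact hx1
    · rw [isWeaklyRegular_append_iff]
      refine ⟨hw, ?_⟩
      rw [isWeaklyRegular_singleton_iff, ← hPdef]
      exact hx

include hpos hm hstd in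
/-- The quotient by a regular sequence of `dim R` elements is `m`-torsion. -/
theorem gam_quot_eq_top (d : ℕ) (hd : ringKrullDim R = d)
    (l : List R) (hw : IsWeaklyRegular R l) (hlen : l.length = d)
    (P : Submodule R R) (hPdef : P = Ideal.ofList l • (⊤ : Submodule R R))
    [DirectSum.Decomposition (quotGr 𝒜 P)] [SetLike.GradedSMul 𝒜 (quotGr 𝒜 P)] :
    gam m.toIdeal (R ⧸ P) = ⊤ := by
  have h1 := supportDim_add_length_le l hw
  rw [← hPdef, hlen, Module.supportDim_self_eq_ringKrullDim, hd] at h1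
  have h2 := le_zero_of_add_le _ d h1
  have h3 : ringKrullDim (R ⧸ (P : Ideal R)) ≤ 0 := by
    rw [← Module.supportDim_quotient_eq_ringKrullDim]
    exact h2
  haveI : Ring.KrullDimLE 0 (R ⧸ (P : Ideal R)) := Ring.krullDimLE_iff.mpr (by exact_mod_cast h3)
  haveI : IsArtinianRing (R ⧸ (P : Ideal R)) :=
    IsNoetherianRing.isArtinianRing_of_krullDimLE_zero
  haveI : IsArtinian R (R ⧸ P) :=
    isArtinian_of_surjective_algebraMap (R := R ⧸ (P : Ideal R)) (S := R)
      (M := R ⧸ (P : Ideal R)) Ideal.Quotient.mk_surjective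
  rw [Groth.Agent.Lib.T2H3.Serre.gam_eq_gam_irr hpos hm]
  exact Groth.Agent.Lib.T2H3.QReg.gam_eq_top_of_isArtinian 𝒜 (quotGr 𝒜 P) hpos (irr 𝒜) le_rfl

include hpos hm hstd in
/-- The main theorem: `a(R) = -dim R` forces `R` to be a polynomial ring over `R_0` on forms of
degree one. -/
theorem exists_algEquiv (hinf : Infinite (R ⧸ m.toIdeal)) (d : ℕ) (hd : ringKrullDim R = d)
    (I : StarInjRes 𝒜 𝒜) (ha : endDeg (I.Hgr m d) = c (-(d : ℤ))) :
    ∃ e : MvPolynomial (Fin d) (deg0 𝒜) ≃ₐ[deg0 𝒜] R,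
      ∀ t : Fin d, e (MvPolynomial.X t) ∈ 𝒜 1 := by
  classical
  obtain ⟨l, hlen, hl1, hw⟩ := exists_regseq hpos hm hstd hinf d hd I d le_rfl
  subst hlen
  obtain ⟨P, hPdef⟩ : ∃ P : Submodule R R, P = Ideal.ofList l • (⊤ : Submodule R R) := ⟨_, rfl⟩
  have hP : P.IsHomogeneous 𝒜 := by
    rw [hPdef]
    exact ofList_isHomogeneous l hl1
  letI decQ : DirectSum.Decomposition (quotGr 𝒜 P) := quotDecomposition 𝒜 P hP
  letI gsQ : SetLike.GradedSMul 𝒜 (quotGr 𝒜 P) := quot_gradedSMul 𝒜 P 𝒜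
  obtain ⟨F⟩ : Nonempty (StarInjRes 𝒜 (quotGr 𝒜 P)) :=
    ⟨Groth.Agent.Lib.Helper29GrRes.starInjRes 𝒜 (quotGr 𝒜 P)⟩
  obtain ⟨-, h2⟩ := quot_regseq hpos hm l.length hd I l hl1 hw le_rfl P hPdef F
  rw [Nat.sub_self, ha, ← c_add, neg_add_cancel] at h2
  have htors := gam_quot_eq_top hpos hm hstd l.length hd l hw rfl P hPdef
  -- forms of degree one lie in `P`
  have h1P : ∀ r ∈ 𝒜 1, r ∈ P := by
    intro r hr
    have hvan : F.Hgr m 0 1 = ⊥ :=
      (Groth.Agent.Lib.T2H3.EG.endDeg_le_iff' (F.Hgr m 0) 0).mp (le_of_eq h2) 1 one_pos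
    have h3 := eq_zero_of_Hgr_zero F m htors 1 hvan (P.mkQ r) ⟨r, hr, rfl⟩
    exact (Submodule.Quotient.mk_eq_zero P).mp h3
  -- the sequence as a family
  obtain ⟨x, hxdef⟩ : ∃ x : Fin l.length → R, x = fun i => l.get i := ⟨_, rfl⟩
  have hx : List.ofFn x = l := by
    rw [hxdef]
    exact List.ofFn_get l
  have hx1 : ∀ t, x t ∈ 𝒜 1 := by
    intro t
    rw [hxdef]
    exact hl1 _ (List.get_mem l t)
  have hPspan : P = Ideal.span (Set.range x) := by
    rw [hPdef, smul_eq_mul, Ideal.mul_top, hxdef]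
    unfold Ideal.ofList
    congr 1
    ext r
    simp only [Set.mem_range, Set.mem_ofPred_eq]
    exact List.mem_iff_get
  have hPirr : Ideal.span (Set.range x) ≤ irr 𝒜 := by
    rw [Ideal.span_le]
    rintro _ ⟨t, rfl⟩
    exact mem_irr_of_mem 𝒜 one_pos (hx1 t)
  -- the degree one piece is spanned over `R_0`
  have hspan : ∀ r ∈ 𝒜 1, r ∈ Submodule.span (deg0 𝒜) (Set.range x) := by
    intro r hr
    have hrP : r ∈ Ideal.span (Set.range x) := hPspan ▸ h1P r hr
    obtain ⟨cf, hcf⟩ := (Ideal.mem_span_range_iff_exists_fun).mp hrP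
    have h4 : r = ∑ i, ((decompose 𝒜 (cf i) 0 : R)) * x i := by
      have h5 : (decompose 𝒜 r (0 + 1) : R) = r := by
        rw [zero_add]
        exact DirectSum.decompose_of_mem_same 𝒜 hr
      rw [← h5, ← hcf, DirectSum.decompose_sum, DFinsupp.finsetSum_apply,
        AddSubmonoidClass.coe_finsetSum]
      refine Finset.sum_congr rfl fun i _ => ?_
      exact DirectSum.coe_decompose_mul_add_of_right_mem 𝒜 (i := 0) (a := cf i) (hx1 i)
    rw [h4]
    refine Submodule.sum_mem _ fun i _ => ?_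
    have h6 : ((decompose 𝒜 (cf i) 0 : R)) * x i =
        (⟨(decompose 𝒜 (cf i) 0 : R), SetLike.coe_mem _⟩ : deg0 𝒜) • x i := rfl
    rw [h6]
    exact Submodule.smul_mem _ _ (Submodule.subset_span ⟨i, rfl⟩)
  have hsurj := Groth.Agent.Lib.T2H3.PolyRing.evalHom_surjective hpos hstd x hspan
  have hH : ∀ a : deg0 𝒜, algebraMap (deg0 𝒜) R a ∈ Ideal.span (Set.range x) → a = 0 := by
    intro a haP
    have h7 := decompose_zero_eq_zero_of_mem_irr 𝒜 hpos (hPirr haP)
    have h8 : (decompose 𝒜 (algebraMap (deg0 𝒜) R a) 0 : R) = (a : R) :=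
      DirectSum.decompose_of_mem_same 𝒜 a.2
    apply Subtype.ext
    rw [← h8, h7]
    rfl
  have hinj := Groth.Agent.Lib.T2H3.PolyA.aeval_injective l.length (deg0 𝒜) R x (hx.symm ▸ hw) hH
  have hsurj' : Function.Surjective
      (MvPolynomial.aeval x : MvPolynomial (Fin l.length) (deg0 𝒜) →ₐ[deg0 𝒜] R) := by
    intro r
    obtain ⟨p, hp⟩ := hsurj r
    refine ⟨p, ?_⟩
    rw [← hp]
    rfl
  refine ⟨AlgEquiv.ofBijective _ ⟨hinj, hsurj'⟩, fun t => ?_⟩
  rw [AlgEquiv.coe_ofBijective, MvPolynomial.aeval_X]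
  exact hx1 t

end Groth.Agent.Lib.T2H3.PolyC
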