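import Mathlib

/-! The graded algebra map `⊕ I^{nc} → A[T_1, …, T_r]` attached to linear maps `φ_j : I^c → A`
with `x = Σ f_j φ_j(x)` (helper3).  `Φ_0 = C`, `Φ_{n+1}(g) = Σ_j Φ_n(φ_j(g)) T_j`. -/

set_option autoImplicit false
open scoped BigOperators

noncomputable section

namespace Groth.Agent.Lib.T2H3.PolyMap

universe u

variable {A : Type u} [CommRing A] {r : ℕ} (f : Fin r → A) (I : Ideal A) (c : ℕ)
  (φ : Fin r → (↥(I ^ c) →ₗ[A] A))

/-- `φ_j` extended by zero. -/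
def ext (j : Fin r) (g : A) : A := by
  classical
  exact if h : g ∈ I ^ c then φ j ⟨g, h⟩ else 0

theorem ext_of_mem (j : Fin r) {g : A} (hg : g ∈ I ^ c) : ext I c φ j g = φ j ⟨g, hg⟩ := by
  unfold ext
  rw [dif_pos hg]

theorem ext_add (j : Fin r) {g h : A} (hg : g ∈ I ^ c) (hh : h ∈ I ^ c) :
    ext I c φ j (g + h) = ext I c φ j g + ext I c φ j h := by
  rw [ext_of_mem I c φ j hg, ext_of_mem I c φ j hh, ext_of_mem I c φ j (add_mem hg hh), ← map_add]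
  rfl

theorem ext_mul (j : Fin r) (a : A) {h : A} (hh : h ∈ I ^ c) :
    ext I c φ j (a * h) = a * ext I c φ j h := by
  rw [ext_of_mem I c φ j hh, ext_of_mem I c φ j (Ideal.mul_mem_left _ a hh), ← smul_eq_mul a (φ j _),
    ← map_smul]
  rfl

theorem pow_succ_le (n : ℕ) : I ^ ((n + 1) * c) ≤ I ^ c :=
  Ideal.pow_le_pow_right (Nat.le_mul_of_pos_left c (Nat.succ_pos n))

theorem ext_mem (j : Fin r) (n : ℕ) {g : A} (hg : g ∈ I ^ ((n + 1) * c)) :
    ext I c φ j g ∈ I ^ (n * c) := by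
  have e1 : I ^ ((n + 1) * c) = I ^ (n * c) * I ^ c := by rw [Nat.succ_mul, pow_add]
  rw [e1] at hg
  have key : g ∈ I ^ c ∧ ext I c φ j g ∈ I ^ (n * c) := by
    refine Submodule.mul_induction_on hg ?_ ?_
    · intro a ha b hb
      refine ⟨Ideal.mul_mem_left _ a hb, ?_⟩
      rw [ext_mul I c φ j a hb]
      exact Ideal.mul_mem_right _ _ ha
    · rintro x y ⟨hx, hx'⟩ ⟨hy, hy'⟩
      refine ⟨add_mem hx hy, ?_⟩
      rw [ext_add I c φ j hx hy]
      exact add_mem hx' hy'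
  exact key.2

/-- The maps `Φ_n`. -/
def Phi : ℕ → A → MvPolynomial (Fin r) A
  | 0, a => MvPolynomial.C a
  | (n + 1), g => ∑ j, Phi n (ext I c φ j g) * MvPolynomial.X j

theorem Phi_zero (a : A) : Phi I c φ 0 a = MvPolynomial.C a := rfl

theorem Phi_succ (n : ℕ) (g : A) :
    Phi I c φ (n + 1) g = ∑ j, Phi I c φ n (ext I c φ j g) * MvPolynomial.X j := rfl

theorem Phi_add : ∀ (n : ℕ) {g h : A}, g ∈ I ^ (n * c) → h ∈ I ^ (n * c) →
    Phi I c φ n (g + h) = Phi I c φ n g + Phi I c φ n h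
  | 0, g, h, _, _ => by rw [Phi_zero, Phi_zero, Phi_zero, map_add]
  | (n + 1), g, h, hg, hh => by
    rw [Phi_succ, Phi_succ, Phi_succ, ← Finset.sum_add_distrib]
    refine Finset.sum_congr rfl fun j _ => ?_
    rw [ext_add I c φ j (pow_succ_le I c n hg) (pow_succ_le I c n hh),
      Phi_add n (ext_mem I c φ j n hg) (ext_mem I c φ j n hh), add_mul]

theorem Phi_smul : ∀ (n : ℕ) (a : A) {g : A}, g ∈ I ^ (n * c) →
    Phi I c φ n (a * g) = a • Phi I c φ n g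
  | 0, a, g, _ => by
    rw [Phi_zero, Phi_zero, map_mul, MvPolynomial.smul_eq_C_mul]
  | (n + 1), a, g, hg => by
    rw [Phi_succ, Phi_succ, Finset.smul_sum]
    refine Finset.sum_congr rfl fun j _ => ?_
    rw [ext_mul I c φ j a (pow_succ_le I c n hg), Phi_smul n a (ext_mem I c φ j n hg),
      smul_mul_assoc]

theorem Phi_isHomogeneous : ∀ (n : ℕ) {g : A}, g ∈ I ^ (n * c) →
    (Phi I c φ n g).IsHomogeneous n
  | 0, g, _ => MvPolynomial.isHomogeneous_C _ _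
  | (n + 1), g, hg => by
    rw [Phi_succ]
    refine MvPolynomial.IsHomogeneous.sum _ _ _ fun j _ => ?_
    exact (Phi_isHomogeneous n (ext_mem I c φ j n hg)).mul (MvPolynomial.isHomogeneous_X _ j)

theorem Phi_mul (n : ℕ) {g : A} (hg : g ∈ I ^ (n * c)) : ∀ (m : ℕ) {h : A}, h ∈ I ^ (m * c) →
    Phi I c φ (n + m) (g * h) = Phi I c φ n g * Phi I c φ m h
  | 0, h, _ => by
    rw [Nat.add_zero, Phi_zero, mul_comm g h, Phi_smul I c φ n h hg, MvPolynomial.smul_eq_C_mul,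
      mul_comm]
  | (m + 1), h, hh => by
    have e1 : n + (m + 1) = (n + m) + 1 := rfl
    rw [e1, Phi_succ, Phi_succ, Finset.mul_sum]
    refine Finset.sum_congr rfl fun j _ => ?_
    rw [ext_mul I c φ j g (pow_succ_le I c m hh), Phi_mul n hg m (ext_mem I c φ j m hh), mul_assoc]

theorem Phi_one {g : A} (hg : g ∈ I ^ c) :
    Phi I c φ 1 g = ∑ j, MvPolynomial.C (φ j ⟨g, hg⟩) * MvPolynomial.X j := by
  rw [Phi_succ]
  refine Finset.sum_congr rfl fun j _ => ?_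
  rw [Phi_zero, ext_of_mem I c φ j hg]

theorem aeval_Phi (hφ : ∀ x : ↥(I ^ c), (x : A) = ∑ j, f j * φ j x) :
    ∀ (n : ℕ) {g : A}, g ∈ I ^ (n * c) → MvPolynomial.aeval f (Phi I c φ n g) = g
  | 0, g, _ => by
    rw [Phi_zero, MvPolynomial.aeval_C]
    rfl
  | (n + 1), g, hg => by
    rw [Phi_succ, map_sum]
    have hgc : g ∈ I ^ c := pow_succ_le I c n hg
    have h1 := hφ ⟨g, hgc⟩
    change g = _ at h1
    conv_rhs => rw [h1]
    refine Finset.sum_congr rfl fun j _ => ?_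
    rw [map_mul, MvPolynomial.aeval_X, aeval_Phi hφ n (ext_mem I c φ j n hg),
      ext_of_mem I c φ j hgc, mul_comm]

/-- Uniqueness. -/
theorem eq_Phi (Ψ : ℕ → A → MvPolynomial (Fin r) A)
    (hadd : ∀ n : ℕ, ∀ g ∈ I ^ (n * c), ∀ h ∈ I ^ (n * c), Ψ n (g + h) = Ψ n g + Ψ n h)
    (hmul : ∀ n m : ℕ, ∀ g ∈ I ^ (n * c), ∀ h ∈ I ^ (m * c), Ψ (n + m) (g * h) = Ψ n g * Ψ m h)
    (h0 : ∀ a : A, Ψ 0 a = MvPolynomial.C a)
    (h1 : ∀ (g : A) (hg : g ∈ I ^ c),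
      Ψ 1 g = ∑ j, MvPolynomial.C (φ j ⟨g, hg⟩) * MvPolynomial.X j) :
    ∀ (n : ℕ) (g : A), g ∈ I ^ (n * c) → Ψ n g = Phi I c φ n g
  | 0, g, _ => by rw [h0, Phi_zero]
  | (n + 1), g, hg => by
    have e1 : I ^ ((n + 1) * c) = I ^ (n * c) * I ^ c := by rw [Nat.succ_mul, pow_add]
    have hg' := hg
    rw [e1] at hg'
    have key : g ∈ I ^ ((n + 1) * c) ∧ Ψ (n + 1) g = Phi I c φ (n + 1) g := by
      refine Submodule.mul_induction_on hg' ?_ ?_
      · intro a ha b hb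
        have hb1 : b ∈ I ^ (1 * c) := by rw [one_mul]; exact hb
        refine ⟨by rw [e1]; exact Ideal.mul_mem_mul ha hb, ?_⟩
        rw [hmul n 1 a ha b hb1, eq_Phi Ψ hadd hmul h0 h1 n a ha, h1 b hb,
          Phi_mul I c φ n ha 1 hb1, Phi_one I c φ hb]
      · rintro x y ⟨hx, hx'⟩ ⟨hy, hy'⟩
        refine ⟨add_mem hx hy, ?_⟩
        rw [hadd (n + 1) x hx y hy, hx', hy', Phi_add I c φ (n + 1) hx hy]
    exact key.2

end Groth.Agent.Lib.T2H3.PolyMap
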