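import Groth.Agent.Lib.T2H3PolyMapA

/-! The graded module map `⊕ I^{nc'} N → N[T_1, …, T_r]` (helper3): Artin–Rees input and the
factorization lemma. -/

set_option autoImplicit false
set_option linter.unusedSectionVars false
set_option linter.unusedVariables false
open scoped BigOperators TensorProduct

noncomputable section

namespace Groth.Agent.Lib.T2H3.PolyMap

universe u

section Factor

variable {B : Type u} [CommRing B] {P N Q : Type u} [AddCommGroup P] [Module B P]
  [AddCommGroup N] [Module B N] [AddCommGroup Q] [Module B Q]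

/-- A map killing the kernel of `π` factors over the range of `π`. -/
theorem exists_factor_range (π : P →ₗ[B] N) (Λ : P →ₗ[B] Q)
    (h : LinearMap.ker π ≤ LinearMap.ker Λ) (W : Submodule B N) (hW : W ≤ LinearMap.range π) :
    ∃ Ψ : ↥W →ₗ[B] Q, ∀ (z : P) (hz : π z ∈ W), Ψ ⟨π z, hz⟩ = Λ z := by
  let e := π.quotKerEquivRange
  let L : (P ⧸ LinearMap.ker π) →ₗ[B] Q := (LinearMap.ker π).liftQ Λ h
  refine ⟨L ∘ₗ e.symm.toLinearMap ∘ₗ Submodule.inclusion hW, fun z hz => ?_⟩
  have h1 : e.symm ⟨π z, hW hz⟩ = Submodule.Quotient.mk z := by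
    rw [LinearEquiv.symm_apply_eq]
    rfl
  change L (e.symm ⟨π z, hW hz⟩) = Λ z
  rw [h1]
  rfl

end Factor

section AR

variable {A : Type u} [CommRing A] (I : Ideal A)
  (B : Type u) [CommRing B] [Algebra A B] [IsNoetherianRing B]
  (N : Type u) [AddCommGroup N] [Module B N] [Module.Finite B N]

/-- The submodule `I^e N`. -/
def W (e : ℕ) : Submodule B N :=
  Submodule.span B {y : N | ∃ g ∈ I ^ e, ∃ x : N, y = algebraMap A B g • x}

theorem W_anti {e e' : ℕ} (h : e ≤ e') : W I B N e' ≤ W I B N e := by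
  apply Submodule.span_mono
  rintro y ⟨g, hg, x, rfl⟩
  exact ⟨g, Ideal.pow_le_pow_right h hg, x, rfl⟩

theorem W_le_smul (e : ℕ) :
    W I B N e ≤ (I.map (algebraMap A B)) ^ e • (⊤ : Submodule B N) := by
  apply Submodule.span_le.mpr
  rintro y ⟨g, hg, x, rfl⟩
  refine Submodule.smul_mem_smul ?_ Submodule.mem_top
  rw [← Ideal.map_pow]
  exact Ideal.mem_map_of_mem _ hg

/-- Artin–Rees: elements of `I^m N` killed by `I^c` vanish for `m` large. -/
theorem exists_artinRees (c : ℕ) :
    ∃ m₀ : ℕ, ∀ w : N, w ∈ W I B N m₀ → (∀ f ∈ I ^ c, algebraMap A B f • w = 0) → w = 0 := by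
  set J : Ideal B := I.map (algebraMap A B) with hJ
  let N' : Submodule B N :=
    { carrier := {w | ∀ b ∈ J ^ c, b • w = 0}
      add_mem' := fun {a b} ha hb x hx => by rw [smul_add, ha x hx, hb x hx, add_zero]
      zero_mem' := fun x _ => smul_zero x
      smul_mem' := fun t w hw x hx => by rw [smul_comm, hw x hx, smul_zero] }
  obtain ⟨k, hk⟩ := Ideal.exists_pow_inf_eq_pow_smul J N'
  refine ⟨k + c, fun w hw hann => ?_⟩
  have hwN' : w ∈ N' := by
    intro b hb
    rw [hJ, ← Ideal.map_pow] at hb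
    refine Submodule.span_induction (p := fun b _ => b • w = 0) ?_ ?_ ?_ ?_ hb
    · rintro _ ⟨f, hf, rfl⟩
      exact hann f hf
    · exact zero_smul _ _
    · intro x y _ _ hx hy
      rw [add_smul, hx, hy, add_zero]
    · intro a x _ hx
      rw [smul_eq_mul, mul_smul, hx, smul_zero]
  have h1 : w ∈ J ^ (k + c) • (⊤ : Submodule B N) ⊓ N' := ⟨W_le_smul I B N (k + c) hw, hwN'⟩
  rw [hk (k + c) (Nat.le_add_right k c), Nat.add_sub_cancel_left] at h1
  have h2 : J ^ c • (J ^ k • (⊤ : Submodule B N) ⊓ N') ≤ ⊥ := by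
    rw [Submodule.smul_le]
    intro b hb n hn
    rw [Submodule.mem_bot]
    exact hn.2 b hb
  exact (Submodule.mem_bot B).mp (h2 h1)

end AR

end Groth.Agent.Lib.T2H3.PolyMap
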