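import Groth.Agent.Lib.T2H3PolyMapB

/-! The graded module map `⊕ I^{nc'} N → N[T_1, …, T_r]` (helper3): construction. -/

set_option autoImplicit false
set_option linter.unusedSectionVars false
set_option linter.unusedVariables false
open scoped BigOperators TensorProduct

noncomputable section

namespace Groth.Agent.Lib.T2H3.PolyMap

universe u

section Fine

variable {A : Type u} [CommRing A] {r : ℕ} (I : Ideal A) (c : ℕ)
  (φ : Fin r → (↥(I ^ c) →ₗ[A] A))

theorem ext_mem_of_mul (j : Fin r) (d : ℕ) {g : A} (hg : g ∈ I ^ d * I ^ c) :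
    ext I c φ j g ∈ I ^ d := by
  have key : g ∈ I ^ c ∧ ext I c φ j g ∈ I ^ d := by
    refine Submodule.mul_induction_on hg ?_ ?_
    · intro a ha b hb
      refine ⟨Ideal.mul_mem_left _ a hb, ?_⟩
      rw [ext_mul I c φ j a hb]
      exact Ideal.mul_mem_right _ _ ha
    · rintro x y ⟨hx, hx'⟩ ⟨hy, hy'⟩
      refine ⟨add_mem hx hy, ?_⟩
      rw [ext_add I c φ j hx hy]
      exact add_mem hx' hy'
  exact key.2

theorem ext_mem_sub (j : Fin r) {e : ℕ} (hce : c ≤ e) {g : A} (hg : g ∈ I ^ e) :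
    ext I c φ j g ∈ I ^ (e - c) := by
  apply ext_mem_of_mul
  rw [← pow_add, Nat.sub_add_cancel hce]
  exact hg

/-- `f φ_j(g) = g φ_j(f)`. -/
theorem mul_ext_comm (j : Fin r) {f g : A} (hf : f ∈ I ^ c) (hg : g ∈ I ^ c) :
    f * ext I c φ j g = g * ext I c φ j f := by
  rw [← ext_mul I c φ j f hg, ← ext_mul I c φ j g hf, mul_comm]

variable {c' : ℕ} (hcc' : c ≤ c')

/-- The restriction of `φ_j` to `I^{c'}`. -/
def res (j : Fin r) : ↥(I ^ c') →ₗ[A] A :=
  (φ j) ∘ₗ Submodule.inclusion (Ideal.pow_le_pow_right hcc')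

theorem res_apply (j : Fin r) (g : A) (hg : g ∈ I ^ c') :
    res I c φ hcc' j ⟨g, hg⟩ = φ j ⟨g, Ideal.pow_le_pow_right hcc' hg⟩ := rfl

theorem ext_res (j : Fin r) {g : A} (hg : g ∈ I ^ c') :
    ext I c' (res I c φ hcc') j g = ext I c φ j g := by
  rw [ext_of_mem I c' _ j hg, ext_of_mem I c φ j (Ideal.pow_le_pow_right hcc' hg)]
  rfl

end Fine

section Build

variable {A : Type u} [CommRing A] {r : ℕ} (I : Ideal A) (c : ℕ)
  (φ : Fin r → (↥(I ^ c) →ₗ[A] A)) {c' : ℕ} (hcc' : c ≤ c')
  (B : Type u) [CommRing B] [Algebra A B]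
  (N : Type u) [AddCommGroup N] [Module B N]

/-- Formal sums `Σ g_i x_i`. -/
abbrev FS (e : ℕ) : Type u := ↥(I ^ e) →₀ N

/-- Evaluation `Σ g_i x_i`. -/
def piMap (e : ℕ) : FS I N e →ₗ[B] N :=
  Finsupp.lsum B (fun g : ↥(I ^ e) => algebraMap A B (g : A) • (LinearMap.id : N →ₗ[B] N))

theorem piMap_single (e : ℕ) (g : ↥(I ^ e)) (x : N) :
    piMap I B N e (Finsupp.single g x) = algebraMap A B (g : A) • x := by
  unfold piMap
  rw [Finsupp.lsum_single]
  rfl

theorem W_le_range (e : ℕ) : W I B N e ≤ LinearMap.range (piMap I B N e) := by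
  apply Submodule.span_le.mpr
  rintro y ⟨g, hg, x, rfl⟩
  exact ⟨Finsupp.single ⟨g, hg⟩ x, piMap_single I B N e ⟨g, hg⟩ x⟩

theorem piMap_mem (e : ℕ) (z : FS I N e) : piMap I B N e z ∈ W I B N e := by
  induction z using Finsupp.induction_linear with
  | zero => rw [map_zero]; exact zero_mem _
  | add a b ha hb => rw [map_add]; exact add_mem ha hb
  | single g x =>
    rw [piMap_single]
    exact Submodule.subset_span ⟨g, g.2, x, rfl⟩

/-- The target map `Σ g_i x_i ↦ Σ Φ_n(g_i) ⊗ x_i`. -/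
def lamMap (n : ℕ) : FS I N (n * c') →ₗ[B] MvPolynomial (Fin r) B ⊗[B] N :=
  Finsupp.lsum B (fun g : ↥(I ^ (n * c')) =>
    TensorProduct.mk B (MvPolynomial (Fin r) B) N
      (MvPolynomial.map (algebraMap A B) (Phi I c' (res I c φ hcc') n (g : A))))

theorem lamMap_single (n : ℕ) (g : ↥(I ^ (n * c'))) (x : N) :
    lamMap I c φ hcc' B N n (Finsupp.single g x) =
      MvPolynomial.map (algebraMap A B) (Phi I c' (res I c φ hcc') n (g : A)) ⊗ₜ[B] x := by
  unfold lamMap
  rw [Finsupp.lsum_single]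
  rfl

/-- The shift `Σ g_i x_i ↦ Σ φ_j(g_i) x_i`. -/
def thetaMap (j : Fin r) (n : ℕ) : FS I N ((n + 1) * c') →ₗ[B] FS I N (n * c') :=
  Finsupp.lmapDomain N B (fun g : ↥(I ^ ((n + 1) * c')) =>
    (⟨ext I c' (res I c φ hcc') j (g : A), ext_mem I c' (res I c φ hcc') j n g.2⟩ :
      ↥(I ^ (n * c'))))

theorem thetaMap_single (j : Fin r) (n : ℕ) (g : ↥(I ^ ((n + 1) * c'))) (x : N) :
    thetaMap I c φ hcc' B N j n (Finsupp.single g x) =
      Finsupp.single (⟨ext I c' (res I c φ hcc') j (g : A),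
        ext_mem I c' (res I c φ hcc') j n g.2⟩ : ↥(I ^ (n * c'))) x := by
  unfold thetaMap
  rw [Finsupp.lmapDomain_apply, Finsupp.mapDomain_single]

theorem lamMap_succ (n : ℕ) (z : FS I N ((n + 1) * c')) :
    lamMap I c φ hcc' B N (n + 1) z =
      ∑ j, (MvPolynomial.X j : MvPolynomial (Fin r) B) •
        lamMap I c φ hcc' B N n (thetaMap I c φ hcc' B N j n z) := by
  induction z using Finsupp.induction_linear with
  | zero => simp only [map_zero, smul_zero, Finset.sum_const_zero]
  | add a b ha hb =>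
    simp only [map_add, smul_add, Finset.sum_add_distrib, ha, hb]
  | single g x =>
    rw [lamMap_single, Phi_succ, map_sum, TensorProduct.sum_tmul]
    refine Finset.sum_congr rfl fun j _ => ?_
    rw [thetaMap_single, lamMap_single, TensorProduct.smul_tmul', smul_eq_mul, map_mul,
      MvPolynomial.map_X, mul_comm]

theorem smul_piMap_thetaMap (j : Fin r) (n : ℕ) {f : A} (hf : f ∈ I ^ c)
    (z : FS I N ((n + 1) * c')) :
    algebraMap A B f • piMap I B N (n * c') (thetaMap I c φ hcc' B N j n z) =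
      algebraMap A B (ext I c φ j f) • piMap I B N ((n + 1) * c') z := by
  induction z using Finsupp.induction_linear with
  | zero => simp only [map_zero, smul_zero]
  | add a b ha hb => simp only [map_add, smul_add, ha, hb]
  | single g x =>
    have hgc' : (g : A) ∈ I ^ c' := pow_succ_le I c' n g.2
    have hgc : (g : A) ∈ I ^ c := Ideal.pow_le_pow_right hcc' hgc'
    rw [thetaMap_single, piMap_single, piMap_single, ← mul_smul, ← mul_smul, ← map_mul,
      ← map_mul]
    change algebraMap A B (f * ext I c' (res I c φ hcc') j (g : A)) • x = _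
    rw [ext_res I c φ hcc' j hgc', mul_ext_comm I c φ j hf hgc, mul_comm]

theorem piMap_thetaMap_mem (j : Fin r) (n : ℕ) (z : FS I N ((n + 1) * c')) :
    piMap I B N (n * c') (thetaMap I c φ hcc' B N j n z) ∈ W I B N (c' - c) := by
  induction z using Finsupp.induction_linear with
  | zero => simp only [map_zero]; exact zero_mem _
  | add a b ha hb => simp only [map_add]; exact add_mem ha hb
  | single g x =>
    have hgc' : (g : A) ∈ I ^ c' := pow_succ_le I c' n g.2
    rw [thetaMap_single, piMap_single]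
    refine Submodule.subset_span ⟨_, ?_, x, rfl⟩
    change ext I c' (res I c φ hcc') j (g : A) ∈ I ^ (c' - c)
    rw [ext_res I c φ hcc' j hgc']
    exact ext_mem_sub I c φ j hcc' hgc'

variable (hAR : ∀ w : N, w ∈ W I B N (c' - c) → (∀ f ∈ I ^ c, algebraMap A B f • w = 0) → w = 0)

include hAR in
theorem ker_piMap_le (n : ℕ) :
    LinearMap.ker (piMap I B N (n * c')) ≤ LinearMap.ker (lamMap I c φ hcc' B N n) := by
  induction n with
  | zero =>
    intro z hz
    rw [LinearMap.mem_ker] at hz ⊢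
    have h1 : ∀ z : FS I N (0 * c'), lamMap I c φ hcc' B N 0 z =
        (1 : MvPolynomial (Fin r) B) ⊗ₜ[B] piMap I B N (0 * c') z := by
      intro z
      induction z using Finsupp.induction_linear with
      | zero => simp only [map_zero, TensorProduct.tmul_zero]
      | add a b ha hb => simp only [map_add, TensorProduct.tmul_add, ha, hb]
      | single g x =>
        rw [lamMap_single, piMap_single, Phi_zero, MvPolynomial.map_C, TensorProduct.tmul_smul,
          TensorProduct.smul_tmul', MvPolynomial.smul_eq_C_mul, mul_one]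
    rw [h1, hz, TensorProduct.tmul_zero]
  | succ n ih =>
    intro z hz
    rw [LinearMap.mem_ker] at hz ⊢
    rw [lamMap_succ]
    refine Finset.sum_eq_zero fun j _ => ?_
    have h1 : piMap I B N (n * c') (thetaMap I c φ hcc' B N j n z) = 0 := by
      refine hAR _ (piMap_thetaMap_mem I c φ hcc' B N j n z) fun f hf => ?_
      rw [smul_piMap_thetaMap I c φ hcc' B N j n hf z, hz, smul_zero]
    have h2 := ih h1
    rw [LinearMap.mem_ker] at h2
    rw [h2, smul_zero]

include hAR in
/-- The maps `Ψ_n`. -/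
theorem exists_Psi (n : ℕ) :
    ∃ Ψ : ↥(W I B N (n * c')) →ₗ[B] MvPolynomial (Fin r) B ⊗[B] N,
      ∀ (g : A) (hg : g ∈ I ^ (n * c')) (x : N),
        Ψ ⟨algebraMap A B g • x, Submodule.subset_span ⟨g, hg, x, rfl⟩⟩ =
          MvPolynomial.map (algebraMap A B) (Phi I c' (res I c φ hcc') n g) ⊗ₜ[B] x := by
  obtain ⟨Ψ, hΨ⟩ := exists_factor_range (piMap I B N (n * c')) (lamMap I c φ hcc' B N n)
    (ker_piMap_le I c φ hcc' B N hAR n) (W I B N (n * c')) (W_le_range I B N (n * c'))
  refine ⟨Ψ, fun g hg x => ?_⟩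
  have h1 := hΨ (Finsupp.single ⟨g, hg⟩ x) (piMap_mem I B N (n * c') _)
  rw [lamMap_single] at h1
  rw [← h1]
  congr 1
  apply Subtype.ext
  exact (piMap_single I B N (n * c') ⟨g, hg⟩ x).symm

end Build

section Span

variable {B : Type u} [CommRing B] {N Q : Type u} [AddCommGroup N] [Module B N]
  [AddCommGroup Q] [Module B Q]

/-- Linear maps on a span agreeing on the generators are equal. -/
theorem ext_span {S : Set N} (f g : ↥(Submodule.span B S) →ₗ[B] Q)
    (h : ∀ (s : N) (hs : s ∈ S), f ⟨s, Submodule.subset_span hs⟩ = g ⟨s, Submodule.subset_span hs⟩) :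
    f = g := by
  apply LinearMap.ext
  rintro ⟨y, hy⟩
  refine Submodule.span_induction (p := fun y hy => f ⟨y, hy⟩ = g ⟨y, hy⟩) ?_ ?_ ?_ ?_ hy
  · intro s hs
    exact h s hs
  · exact (map_zero f).trans (map_zero g).symm
  · intro x y hx hy h1 h2
    have e1 : (⟨x + y, add_mem hx hy⟩ : ↥(Submodule.span B S)) = ⟨x, hx⟩ + ⟨y, hy⟩ := rfl
    rw [e1, map_add, map_add, h1, h2]
  · intro a x hx h1
    have e1 : (⟨a • x, Submodule.smul_mem _ a hx⟩ : ↥(Submodule.span B S)) = a • ⟨x, hx⟩ := rfl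
    rw [e1, map_smul, map_smul, h1]

end Span

end Groth.Agent.Lib.T2H3.PolyMap
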