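import Groth.Agent.Lib.T2H3SerreH

/-! Characterisation of polynomial rings by the `a`-invariant, part A (helper3): if
`a(R) = -dim R` for a standard graded Cohen–Macaulay ring over a field then `dim_k R_1 = dim R`. -/

set_option autoImplicit false
set_option linter.unusedSectionVars false
set_option linter.style.haveILetI false
open DirectSum Polynomial

noncomputable section

namespace Groth.Agent.Lib.T2H3.PolyRing

open GrLC Groth.Agent.Lib.T2H3.GrLes Groth.Agent.Lib.T2H5.EulerAlg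
  Groth.Agent.Lib.T2H3.GrIrr Groth.Agent.Lib.T2H3.GrArt Groth.Agent.Lib.T2H3.Serre
  Groth.Agent.Lib.T2H3.GrAinv

universe u

theorem isArtinianRing_of_isField (K : Type*) [CommRing K] (h : IsField K) : IsArtinianRing K := by
  letI := h.toField
  infer_instance

theorem length_self_of_isField (K : Type*) [CommRing K] (h : IsField K) :
    Module.length K K = 1 := by
  letI := h.toField
  rw [Module.length_eq_one_iff]
  infer_instance

section Basic

variable {R : Type u} [CommRing R] {𝒜 : ℤ → AddSubgroup R} [GradedRing 𝒜]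

/-- `R_0` as a module over itself is the degree-zero piece. -/
def comp0Equiv : ↥(comp 𝒜 𝒜 0) ≃ₗ[deg0 𝒜] deg0 𝒜 where
  toFun x := ⟨(x : R), x.2⟩
  invFun x := ⟨(x : R), x.2⟩
  map_add' _ _ := rfl
  map_smul' _ _ := rfl
  left_inv _ := rfl
  right_inv _ := rfl

theorem hZ_zero_eq_one (h0 : IsField (deg0 𝒜)) : hZ 𝒜 𝒜 0 = 1 := by
  unfold hZ lenZ
  rw [(comp0Equiv (𝒜 := 𝒜)).length_eq, length_self_of_isField _ h0]
  rfl

end Basic

variable {R : Type u} [CommRing R] [hCM : LocCoh.IsCohenMacaulayRing R]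
  {𝒜 : ℤ → AddSubgroup R} [GradedRing 𝒜]
variable (hpos : ∀ n : ℤ, n < 0 → 𝒜 n = ⊥) (h0 : IsField (deg0 𝒜))
  {m : HomogeneousIdeal 𝒜} (hm : IsStarLocal 𝒜 m) {r : ℕ} (hr : ringKrullDim R = r)
  (hstd : Ideal.span (⋃ n ∈ Set.Ioi (0 : ℤ), (𝒜 n : Set R)) =
    Ideal.span ((𝒜 1 : AddSubgroup R) : Set R))

include hpos h0 hm hr hstd in
/-- If `a(R) = -dim R` then `dim_k R_1 = dim R`. -/
theorem hZ_one_eq_of_endDeg (I : StarInjRes 𝒜 𝒜)
    (ha : endDeg (I.Hgr m r) = c (-(r : ℤ))) : hZ 𝒜 𝒜 1 = r := by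
  classical
  haveI := isArtinianRing_of_isField _ h0
  obtain ⟨P, hP⟩ := exists_hilbPoly (M := R) hstd 𝒜
  have hdeg := degree_hilbPoly_lt hpos hm hstd hr P hP
  have heq : ∀ n : ℤ, -(r : ℤ) < n → P.eval (n : ℚ) = (hZ 𝒜 𝒜 n : ℚ) := by
    intro n hn
    by_contra hne
    have hnb := (Hgr_ne_bot_iff hpos hm hr I P hP n).mpr hne
    have hle : c n ≤ endDeg (I.Hgr m r) := by
      unfold endDeg
      exact le_iSup₂ (f := fun (k : ℤ) (_ : I.Hgr m r k ≠ ⊥) =>
        ((k : WithTop ℤ) : WithBot (WithTop ℤ))) n hnb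
    rw [ha] at hle
    have : n ≤ -(r : ℤ) := WithTop.coe_le_coe.mp (WithBot.coe_le_coe.mp hle)
    omega
  have h1 := heq 1 (by omega)
  rcases Nat.eq_zero_or_pos r with hr0 | hrpos
  · subst hr0
    have hP0 : P = 0 := by
      rw [Nat.cast_zero] at hdeg
      exact degree_eq_bot.mp (by
        by_contra hne
        have := (Nat.WithBot.lt_zero_iff).mp hdeg
        exact hne this)
    rw [hP0, eval_zero] at h1
    exact_mod_cast h1.symm
  · obtain ⟨r', rfl⟩ : ∃ r', r = r' + 1 := ⟨r - 1, by omega⟩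
    have hnat : P.natDegree < r' + 1 := by
      by_cases hP0 : P = 0
      · rw [hP0, natDegree_zero]; omega
      · rw [degree_eq_natDegree hP0] at hdeg
        exact_mod_cast hdeg
    have hfd := congrFun (Polynomial.fwdDiff_iter_eq_zero_of_degree_lt hnat) (-(r' : ℚ))
    rw [fwdDiff_iter_eq_sum_shift, Pi.zero_apply, Finset.sum_range_succ, Finset.sum_range_succ,
      Finset.sum_eq_zero, zero_add] at hfd
    · have e1 : -(r' : ℚ) + (r' : ℕ) • (1 : ℚ) = ((0 : ℤ) : ℚ) := by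
        rw [nsmul_eq_mul]; push_cast; ring
      have e2 : -(r' : ℚ) + (r' + 1 : ℕ) • (1 : ℚ) = ((1 : ℤ) : ℚ) := by
        rw [nsmul_eq_mul]; push_cast; ring
      rw [e1, e2, heq 0 (by omega), heq 1 (by omega), hZ_zero_eq_one h0] at hfd
      have e3 : r' + 1 - r' = 1 := by omega
      rw [e3, Nat.sub_self, Nat.choose_succ_self_right, Nat.choose_self, zsmul_eq_mul,
        zsmul_eq_mul] at hfd
      push_cast at hfd
      have : ((hZ 𝒜 𝒜 1 : ℤ) : ℚ) = ((r' : ℚ) + 1) := by linarith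
      exact_mod_cast this
    · intro k hk
      have hk' : k < r' := Finset.mem_range.mp hk
      have e4 : -(r' : ℚ) + (k : ℕ) • (1 : ℚ) = (((k : ℤ) - r' : ℤ) : ℚ) := by
        rw [nsmul_eq_mul]; push_cast; ring
      rw [e4, heq _ (by omega), hZ_of_neg hpos (by omega), Int.cast_zero, smul_zero]

end Groth.Agent.Lib.T2H3.PolyRing
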