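import Groth.Agent.Lib.T2H3GrArtC
import Groth.Agent.Lib.T2H3GrDimB

/-! Characterisation of polynomial rings, part C (helper3): if a standard graded ring over a field
is a regular ring of dimension `r`, then `R_1` is spanned by `r` elements. -/

set_option autoImplicit false
set_option linter.unusedSectionVars false
set_option linter.style.haveILetI false
open DirectSum

noncomputable section

namespace Groth.Agent.Lib.T2H3.PolyRing

open GrLC Groth.Agent.Lib.T2H3.GrIrr Groth.Agent.Lib.T2H3.GrArt Groth.Agent.Lib.T2H3.GrDim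

universe u

variable {R : Type u} [CommRing R] {𝒜 : ℤ → AddSubgroup R} [GradedRing 𝒜]
variable (hpos : ∀ n : ℤ, n < 0 → 𝒜 n = ⊥)

include hpos in
theorem decompose_one_mul_eq_zero {c y : R} (hc : c ∈ irr 𝒜) (hy : y ∈ irr 𝒜) :
    (decompose 𝒜 (c * y) 1 : R) = 0 := by
  classical
  revert c
  rw [irr] at hy
  induction hy using Submodule.span_induction with
  | mem a ha =>
    intro c hc
    simp only [Set.mem_iUnion, Set.mem_Ioi, SetLike.mem_coe, exists_prop] at ha
    obtain ⟨n, hn, han⟩ := ha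
    have h1 : (decompose 𝒜 (c * a) 1 : R) = (decompose 𝒜 c (1 - n) : R) * a := by
      have := DirectSum.coe_decompose_mul_add_of_right_mem 𝒜 (i := 1 - n) (a := c) han
      rwa [sub_add_cancel] at this
    rw [h1]
    rcases eq_or_lt_of_le (show (1 : ℤ) ≤ n by omega) with h | h
    · rw [← h, sub_self, decompose_zero_eq_zero_of_mem_irr 𝒜 hpos hc, zero_mul]
    · rw [decompose_neg_eq_zero 𝒜 hpos c (by omega), zero_mul]
  | zero =>
    intro c _
    rw [mul_zero, DirectSum.decompose_zero, DirectSum.zero_apply, ZeroMemClass.coe_zero]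
  | add y z _ _ hy hz =>
    intro c hc
    rw [mul_add, DirectSum.decompose_add, DirectSum.add_apply, AddMemClass.coe_add, hy hc, hz hc,
      add_zero]
  | smul s y _ hy =>
    intro c hc
    rw [smul_eq_mul, ← mul_assoc]
    exact hy (Ideal.mul_mem_right s _ hc)

include hpos in
theorem decompose_one_mul_of_mem_irr (b : R) {y : R} (hy : y ∈ irr 𝒜) :
    (decompose 𝒜 (b * y) 1 : R) = (decompose 𝒜 b 0 : R) * (decompose 𝒜 y 1 : R) := by
  classical
  have hb : b = (decompose 𝒜 b 0 : R) + (b - (decompose 𝒜 b 0 : R)) := by ring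
  have h1 : (decompose 𝒜 ((decompose 𝒜 b 0 : R) * y) 1 : R) =
      (decompose 𝒜 b 0 : R) * (decompose 𝒜 y 1 : R) := by
    have := DirectSum.coe_decompose_mul_add_of_left_mem 𝒜 (i := 0) (j := 1) (b := y)
      (SetLike.coe_mem (decompose 𝒜 b 0))
    rwa [zero_add] at this
  have h2 := decompose_one_mul_eq_zero hpos (sub_decompose_zero_mem_irr 𝒜 hpos b) hy
  conv_lhs => rw [hb, add_mul, DirectSum.decompose_add, DirectSum.add_apply, AddMemClass.coe_add,
    h1, h2, add_zero]

include hpos in
theorem mem_span_deg_one (h0 : IsField (deg0 𝒜)) {m : HomogeneousIdeal 𝒜}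
    (hm : IsStarLocal 𝒜 m) (hmsp : m.toIdeal = irr 𝒜) {ι : Type*} [Fintype ι] (y : ι → R)
    (hy : ∀ i, y i ∈ m.toIdeal)
    (hloc : ∀ x ∈ m.toIdeal, ∃ t, t ∉ m.toIdeal ∧ t * x ∈ Ideal.span (Set.range y)) :
    ∀ x ∈ 𝒜 1, x ∈ Submodule.span (deg0 𝒜)
      (Set.range fun i => (decompose 𝒜 (y i) 1 : R)) := by
  classical
  intro x hx
  have hxm : x ∈ m.toIdeal := by
    rw [hmsp]
    exact mem_irr_of_mem 𝒜 (by norm_num) hx
  obtain ⟨t, htm, htx⟩ := hloc x hxm
  obtain ⟨c, hc⟩ := (Ideal.mem_span_range_iff_exists_fun).mp htx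
  -- degree one parts
  have h1 : (decompose 𝒜 (t * x) 1 : R) = (decompose 𝒜 t 0 : R) * x := by
    have := DirectSum.coe_decompose_mul_add_of_right_mem 𝒜 (i := 0) (a := t) hx
    rwa [zero_add] at this
  have h2 : (decompose 𝒜 (t * x) 1 : R) =
      ∑ i, (decompose 𝒜 (c i) 0 : R) * (decompose 𝒜 (y i) 1 : R) := by
    rw [← hc, DirectSum.decompose_sum, DFinsupp.finsetSum_apply, AddSubmonoidClass.coe_finsetSum]
    refine Finset.sum_congr rfl fun i _ => ?_
    exact decompose_one_mul_of_mem_irr hpos (c i) (hmsp ▸ hy i)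
  have ht0 : (⟨(decompose 𝒜 t 0 : R), SetLike.coe_mem _⟩ : deg0 𝒜) ≠ 0 := by
    intro h
    have h' : (decompose 𝒜 t 0 : R) = 0 := congrArg Subtype.val h
    apply htm
    have := sub_decompose_zero_mem_irr 𝒜 hpos t
    rw [h', sub_zero] at this
    rw [hmsp]
    exact this
  obtain ⟨u, hu⟩ := h0.mul_inv_cancel ht0
  have hu' : (decompose 𝒜 t 0 : R) * (u : R) = 1 := congrArg Subtype.val hu
  have hx' : x = u • ∑ i, (⟨(decompose 𝒜 (c i) 0 : R), SetLike.coe_mem _⟩ : deg0 𝒜) •
      (decompose 𝒜 (y i) 1 : R) := by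
    have e1 : ∀ i, ((⟨(decompose 𝒜 (c i) 0 : R), SetLike.coe_mem _⟩ : deg0 𝒜) •
        (decompose 𝒜 (y i) 1 : R) : R) =
        (decompose 𝒜 (c i) 0 : R) * (decompose 𝒜 (y i) 1 : R) := fun i => rfl
    simp_rw [e1]
    rw [← h2, h1]
    change x = (u : R) * _
    rw [← mul_assoc, mul_comm (u : R), hu', one_mul]
  rw [hx']
  refine Submodule.smul_mem _ _ (Submodule.sum_mem _ fun i _ => ?_)
  exact Submodule.smul_mem _ _ (Submodule.subset_span ⟨i, rfl⟩)

include hpos in
/-- A standard graded regular ring of dimension `r` over a field has `R_1` spanned by `r`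
elements. -/
theorem exists_span_of_isRegularRing [IsRegularRing R] (h0 : IsField (deg0 𝒜))
    {m : HomogeneousIdeal 𝒜} (hm : IsStarLocal 𝒜 m) (hmsp : m.toIdeal = irr 𝒜) {r : ℕ}
    (hr : ringKrullDim R = r) :
    ∃ y : Fin r → R, (∀ i, y i ∈ 𝒜 1) ∧
      ∀ x ∈ 𝒜 1, x ∈ Submodule.span (deg0 𝒜) (Set.range y) := by
  classical
  haveI hmax := isMaximal_of_isStarLocal hpos hm
  haveI hprime : m.toIdeal.IsPrime := hmax.isPrime
  let L := Localization.AtPrime m.toIdeal
  haveI hreg : IsRegularLocalRing L := IsRegularRing.isRegularLocalRing_localization m.toIdeal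
  have hdimL : ringKrullDim L = r := by
    rw [IsLocalization.AtPrime.ringKrullDim_eq_height m.toIdeal L,
      ← ringKrullDim_eq_height_of_isStarLocal hpos hm, hr]
  have hsf : (IsLocalRing.maximalIdeal L).spanFinrank = r := by
    have := hreg.spanFinrank_maximalIdeal
    rw [hdimL] at this
    exact_mod_cast this
  have hfg : Submodule.FG (R := L) (M := L) (IsLocalRing.maximalIdeal L) :=
    IsNoetherian.noetherian _
  set G : Set L := (IsLocalRing.maximalIdeal L).generators with hG
  have hfin : G.Finite := Submodule.FG.finite_generators hfg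
  have hncard : G.ncard = r := by rw [hG, Submodule.FG.generators_ncard hfg, hsf]
  have hspanG : Ideal.span G = IsLocalRing.maximalIdeal L :=
    Submodule.span_generators (IsLocalRing.maximalIdeal L)
  haveI : Fintype G := hfin.fintype
  have hcard : Fintype.card G = r := by
    rw [← Nat.card_eq_fintype_card, Nat.card_coe_set_eq, hncard]
  have hsurj : ∀ g : L, ∃ (x : R) (s : m.toIdeal.primeCompl), IsLocalization.mk' L x s = g :=
    fun g => IsLocalization.exists_mk'_eq m.toIdeal.primeCompl g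
  choose y t hyt using hsurj
  have hGm : ∀ g : G, (g : L) ∈ IsLocalRing.maximalIdeal L := by
    intro g
    rw [← hspanG]
    exact Ideal.subset_span g.2
  have hym : ∀ g : G, y g ∈ m.toIdeal := by
    intro g
    have h1 := hGm g
    rw [← hyt g, ← Localization.AtPrime.map_eq_maximalIdeal,
      IsLocalization.mk'_mem_map_algebraMap_iff m.toIdeal.primeCompl] at h1
    obtain ⟨s, hs, hsy⟩ := h1
    exact (hprime.mem_or_mem hsy).resolve_left hs
  have hle : IsLocalRing.maximalIdeal L ≤
      (Ideal.span (Set.range fun g : G => y g)).map (algebraMap R L) := by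
    rw [← hspanG, Ideal.span_le]
    intro g hg
    rw [SetLike.mem_coe, ← hyt g,
      IsLocalization.mk'_mem_map_algebraMap_iff m.toIdeal.primeCompl]
    refine ⟨1, one_mem _, ?_⟩
    rw [one_mul]
    exact Ideal.subset_span ⟨⟨g, hg⟩, rfl⟩
  have hloc : ∀ x ∈ m.toIdeal, ∃ s, s ∉ m.toIdeal ∧
      s * x ∈ Ideal.span (Set.range fun g : G => y g) := by
    intro x hx
    have h1 : algebraMap R L x ∈ IsLocalRing.maximalIdeal L := by
      rw [← Localization.AtPrime.map_eq_maximalIdeal]
      exact Ideal.mem_map_of_mem _ hx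
    have h2 := hle h1
    rw [← IsLocalization.mk'_one (M := m.toIdeal.primeCompl) L x,
      IsLocalization.mk'_mem_map_algebraMap_iff m.toIdeal.primeCompl] at h2
    obtain ⟨s, hs, hsx⟩ := h2
    exact ⟨s, hs, hsx⟩
  have key := mem_span_deg_one hpos h0 hm hmsp (fun g : G => y g) hym hloc
  let e : Fin r ≃ G := (Fintype.equivFinOfCardEq hcard).symm
  refine ⟨fun i => (decompose 𝒜 (y (e i)) 1 : R), fun i => SetLike.coe_mem _, ?_⟩
  intro x hx
  have := key x hx
  have hrange : (Set.range fun i : Fin r => (decompose 𝒜 (y (e i)) 1 : R)) =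
      Set.range fun g : G => (decompose 𝒜 (y g) 1 : R) :=
    e.surjective.range_comp (fun g : G => (decompose 𝒜 (y g) 1 : R))
  rw [hrange]
  exact this

end Groth.Agent.Lib.T2H3.PolyRing
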