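import Groth.Agent.Lib.T2H3WPoly
import Groth.Agent.Lib.T2H3PolyRingA
import Groth.Agent.Lib.T2H3PolyRingB
import Groth.Agent.Lib.T2H3PolyRingC

/-! Characterisation of polynomial rings by the `a`-invariant, part D (helper3): the
`a`-invariant of a *local ring whose *maximal ideal is generated by a homogeneous regular
sequence, and the assembly. -/

set_option autoImplicit false
set_option linter.unusedSectionVars false
set_option linter.style.haveILetI false
open DirectSum

noncomputable section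

namespace Groth.Agent.Lib.T2H3.PolyRing

open GrLC Groth.Agent.Lib.T2H3.GrLes Groth.Agent.Lib.T2H5.EulerAlg
  Groth.Agent.Lib.T2H3.GrIrr Groth.Agent.Lib.T2H3.GrArt Groth.Agent.Lib.T2H3.Serre
  Groth.Agent.Lib.T2H3.GrAinv Groth.Agent.Lib.T2H3.GrDim

universe u

variable {R : Type u} [CommRing R] [hCM : LocCoh.IsCohenMacaulayRing R]
  {𝒜 : ℤ → AddSubgroup R} [GradedRing 𝒜]
variable (hpos : ∀ n : ℤ, n < 0 → 𝒜 n = ⊥)
  {m : HomogeneousIdeal 𝒜} (hm : IsStarLocal 𝒜 m) {r : ℕ} (hr : ringKrullDim R = r)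

include hpos hm hr in
/-- The `a`-invariant when the *maximal ideal is generated by a homogeneous regular sequence. -/
theorem endDeg_of_regseq (f : Fin r → R) (w : Fin r → ℤ) (hfdeg : ∀ i, f i ∈ 𝒜 (w i))
    (hreg : RingTheory.Sequence.IsRegular R (List.ofFn f))
    (hspan : m.toIdeal = Ideal.span (Set.range f)) (I : StarInjRes 𝒜 𝒜) :
    endDeg (I.Hgr m r) = c (-(Finset.univ : Finset (Fin r)).sum w) := by
  classical
  have hmhom : (m.toIdeal : Submodule R R).IsHomogeneous 𝒜 := m.isHomogeneous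
  letI decQ : DirectSum.Decomposition
      (Groth.Agent.Lib.Helper29GrQuot.quotGr 𝒜 (m.toIdeal : Submodule R R)) :=
    Groth.Agent.Lib.Helper29GrQuot.quotDecomposition 𝒜 _ hmhom
  haveI gsQ : SetLike.GradedSMul 𝒜
      (Groth.Agent.Lib.Helper29GrQuot.quotGr 𝒜 (m.toIdeal : Submodule R R)) :=
    Groth.Agent.Lib.Helper29GrQuot.quot_gradedSMul 𝒜 _ 𝒜
  let F : StarInjRes 𝒜
      (Groth.Agent.Lib.Helper29GrQuot.quotGr 𝒜 (m.toIdeal : Submodule R R)) :=
    Groth.Agent.Lib.Helper29GrRes.starInjRes 𝒜 _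
  let π : R →ₗ[R] (R ⧸ m.toIdeal) := (m.toIdeal : Submodule R R).mkQ
  have hπ : IsGrHom 𝒜
      (Groth.Agent.Lib.Helper29GrQuot.quotGr 𝒜 (m.toIdeal : Submodule R R)) π :=
    fun g a ha => ⟨a, ha, rfl⟩
  have hπs : Function.Surjective π := Submodule.mkQ_surjective _
  have hπk : LinearMap.ker π = Ideal.span (Set.range f) := by
    rw [Submodule.ker_mkQ, hspan]
  have hfm : ∀ i : Fin r, f i ∈ m.toIdeal := by
    intro i
    rw [hspan]
    exact Ideal.subset_span ⟨i, rfl⟩
  have key := endDeg_regseq hpos hm r hr I r le_rfl f w hfdeg hfm hreg π hπ hπs hπk F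
  rw [Nat.sub_self] at key
  -- `H^0_m(R/m)` has end `0`
  have hπ1 : π 1 ≠ 0 := by
    intro h
    have h1 : (1 : R) ∈ LinearMap.ker π := h
    rw [Submodule.ker_mkQ] at h1
    exact one_notMem_of_isStarLocal hm h1
  have hconc : ∀ y : R ⧸ m.toIdeal, F.ε y ∈ (F.X 0).gr 0 := by
    intro y
    obtain ⟨s, rfl⟩ := hπs y
    have h1 : s - (DirectSum.decompose 𝒜 s 0 : R) ∈ m.toIdeal :=
      irr_le_of_isStarLocal hpos hm (sub_decompose_zero_mem_irr 𝒜 hpos s)
    have h2 : π s = π (DirectSum.decompose 𝒜 s 0 : R) := by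
      rw [← sub_eq_zero, ← map_sub]
      have : s - (DirectSum.decompose 𝒜 s 0 : R) ∈ LinearMap.ker π := by
        rw [Submodule.ker_mkQ]
        exact h1
      exact this
    rw [h2]
    exact F.ε_grHom 0 _ (hπ 0 _ (SetLike.coe_mem _))
  have hend0 : endDeg (F.Hgr m 0) = c 0 := by
    apply le_antisymm
    · unfold endDeg
      refine iSup₂_le fun j hj => ?_
      apply c_le_c
      obtain ⟨x, hx, hx0⟩ : ∃ x : F.H m 0, x ∈ F.Hgr m 0 j ∧ x ≠ 0 := by
        by_contra hcon
        push Not at hcon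
        apply hj
        rw [AddSubgroup.eq_bot_iff_forall]
        exact hcon
      obtain ⟨z, hz, rfl⟩ := hx
      have hzker : (z : (F.X 0).carrier) ∈ LinearMap.ker (F.d 0) := z.2.2
      rw [F.exact_zero] at hzker
      obtain ⟨y, hy⟩ := hzker
      have hz0 : (z : (F.X 0).carrier) ≠ 0 := by
        intro h0
        apply hx0
        rw [toH_eq_zero_iff]
        rw [h0]
        exact zero_mem _
      have hz00 : (z : (F.X 0).carrier) ∈ (F.X 0).gr 0 := by
        rw [← hy]
        exact hconc y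
      by_contra hne
      apply hz0
      have h1 := DirectSum.decompose_of_mem_same (F.X 0).gr hz
      rw [DirectSum.decompose_of_mem_ne (F.X 0).gr hz00 (by omega)] at h1
      exact h1.symm
    · have hmem : F.ε (π 1) ∈ F.cocyc m 0 := by
        refine ⟨⟨1, fun r hr => ?_⟩, ?_⟩
        · rw [pow_one] at hr
          rw [← map_smul, ← map_smul, smul_eq_mul, mul_one]
          have : π r = 0 := by
            have : r ∈ LinearMap.ker π := by
              rw [Submodule.ker_mkQ]
              exact hr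
            exact this
          rw [this, map_zero]
        · rw [F.exact_zero]
          exact ⟨_, rfl⟩
      have hne : F.toH m 0 ⟨F.ε (π 1), hmem⟩ ≠ 0 := by
        rw [Ne, toH_eq_zero_iff]
        change ¬ (F.ε (π 1) ∈ (⊥ : Submodule _ _))
        rw [Submodule.mem_bot]
        intro h
        exact hπ1 (F.ε_injective (h.trans (map_zero _).symm))
      have hin : F.toH m 0 ⟨F.ε (π 1), hmem⟩ ∈ F.Hgr m 0 0 :=
        ⟨⟨F.ε (π 1), hmem⟩, hconc _, rfl⟩
      have hnb : F.Hgr m 0 0 ≠ ⊥ := by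
        intro hb
        rw [hb, AddSubgroup.mem_bot] at hin
        exact hne hin
      unfold endDeg
      exact le_iSup₂ (f := fun (j : ℤ) (_ : F.Hgr m 0 j ≠ ⊥) =>
        ((j : WithTop ℤ) : WithBot (WithTop ℤ))) 0 hnb
  rw [hend0] at key
  -- arithmetic
  have hS : endDeg (I.Hgr m r) + c ((Finset.univ : Finset (Fin r)).sum w) = c 0 := key.symm
  have h3 : endDeg (I.Hgr m r) = endDeg (I.Hgr m r) + c ((Finset.univ : Finset (Fin r)).sum w) +
      c (-(Finset.univ : Finset (Fin r)).sum w) := by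
    have h4 := add_neg_add (endDeg (I.Hgr m r)) (-(Finset.univ : Finset (Fin r)).sum w)
    rw [neg_neg] at h4
    exact h4.symm
  rw [h3, hS, ← c_add, zero_add]

end Groth.Agent.Lib.T2H3.PolyRing
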