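import Groth.Agent.Lib.T2H3PolyRingD

/-! Characterisation of polynomial rings by the `a`-invariant, part E (helper3): assembly. -/

set_option autoImplicit false
set_option linter.unusedSectionVars false
set_option linter.style.haveILetI false
open DirectSum

noncomputable section

namespace Groth.Agent.Lib.T2H3.PolyRing

open GrLC Groth.Agent.Lib.T2H3.GrLes Groth.Agent.Lib.T2H5.EulerAlg
  Groth.Agent.Lib.T2H3.GrIrr Groth.Agent.Lib.T2H3.GrArt Groth.Agent.Lib.T2H3.Serre
  Groth.Agent.Lib.T2H3.GrAinv Groth.Agent.Lib.T2H3.GrDim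

universe u

section Field

theorem exists_span_eq_top_of_lenZ (K : Type*) [CommRing K] (h : IsField K) (V : Type*)
    [AddCommGroup V] [Module K V] [Module.Finite K V] (r : ℕ) (hl : lenZ K V = r) :
    ∃ y : Fin r → V, Submodule.span K (Set.range y) = ⊤ := by
  letI := h.toField
  have hfin : Module.finrank K V = r := by
    unfold lenZ at hl
    have h1 := Module.length_eq_finrank K V
    rw [h1] at hl
    exact_mod_cast hl
  let b := Module.finBasisOfFinrankEq K V hfin
  exact ⟨b, b.span_eq⟩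

theorem isRegularRing_of_isField (K : Type*) [CommRing K] (h : IsField K) : IsRegularRing K := by
  letI := h.toField
  infer_instance

theorem isWeaklyRegular_X_of_isField (K : Type u) [CommRing K] (h : IsField K) (n : ℕ) :
    RingTheory.Sequence.IsWeaklyRegular (MvPolynomial (Fin n) K)
      (List.ofFn (fun l : Fin n => (MvPolynomial.X l : MvPolynomial (Fin n) K))) := by
  letI := h.toField
  exact Groth.Agent.Helper13RegResidue.isWeaklyRegular_X K n

end Field

variable {R : Type u} [CommRing R] [hCM : LocCoh.IsCohenMacaulayRing R]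
  {𝒜 : ℤ → AddSubgroup R} [GradedRing 𝒜]
variable (hpos : ∀ n : ℤ, n < 0 → 𝒜 n = ⊥) (h0 : IsField (deg0 𝒜))
  {m : HomogeneousIdeal 𝒜} (hm : IsStarLocal 𝒜 m)
  (hmsp : m.toIdeal = Ideal.span (⋃ n ∈ Set.Ioi (0 : ℤ), (𝒜 n : Set R)))
  (hstd : Ideal.span (⋃ n ∈ Set.Ioi (0 : ℤ), (𝒜 n : Set R)) =
    Ideal.span ((𝒜 1 : AddSubgroup R) : Set R))
  {r : ℕ} (hr : ringKrullDim R = r)

include hpos h0 hm hstd hr in
theorem nonempty_ringEquiv_of_endDeg (I : StarInjRes 𝒜 𝒜)
    (ha : endDeg (I.Hgr m r) = c (-(r : ℤ))) :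
    Nonempty (R ≃+* MvPolynomial (Fin r) (deg0 𝒜)) := by
  classical
  have hs := hZ_one_eq_of_endDeg hpos h0 hm hr hstd I ha
  haveI : IsNoetherian (deg0 𝒜) (comp 𝒜 𝒜 1) := isNoetherian_comp 𝒜 𝒜 1
  obtain ⟨y, hy⟩ := exists_span_eq_top_of_lenZ (deg0 𝒜) h0 (comp 𝒜 𝒜 1) r hs
  have hspan : ∀ x ∈ 𝒜 1, x ∈ Submodule.span (deg0 𝒜) (Set.range fun i => ((y i : comp 𝒜 𝒜 1) : R)) := by
    intro x hx
    have h1 : (⟨x, hx⟩ : comp 𝒜 𝒜 1) ∈ Submodule.span (deg0 𝒜) (Set.range y) := by
      rw [hy]; exact Submodule.mem_top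
    have h2 := Submodule.mem_map_of_mem (f := (comp 𝒜 𝒜 1).subtype) h1
    rw [Submodule.map_span, ← Set.range_comp] at h2
    exact h2
  obtain ⟨e, -⟩ := exists_ringEquiv hpos hstd h0 (fun i => ((y i : comp 𝒜 𝒜 1) : R)) hspan hr
  exact ⟨e.symm⟩

include hpos h0 hm hmsp hstd hr in
theorem endDeg_of_ringEquiv (I : StarInjRes 𝒜 𝒜)
    (ψ : R ≃+* MvPolynomial (Fin r) (deg0 𝒜)) :
    endDeg (I.Hgr m r) = c (-(r : ℤ)) := by
  classical
  haveI : IsRegularRing (deg0 𝒜) := isRegularRing_of_isField _ h0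
  haveI : IsRegularRing R := IsRegularRing.of_ringEquiv ψ.symm
  obtain ⟨y, hy1, hyspan⟩ := exists_span_of_isRegularRing hpos h0 hm hmsp hr
  obtain ⟨e, he⟩ := exists_ringEquiv hpos hstd h0 y hyspan hr
  -- the regular sequence
  have hw : RingTheory.Sequence.IsWeaklyRegular R (List.ofFn y) := by
    have h1 := isWeaklyRegular_X_of_isField (deg0 𝒜) h0 r
    have hlist : List.ofFn y = (List.ofFn (fun l : Fin r =>
        (MvPolynomial.X l : MvPolynomial (Fin r) (deg0 𝒜)))).map e := by
      rw [List.map_ofFn]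
      congr 1
      funext i
      exact (he i).symm
    rw [hlist]
    refine (AddEquiv.isWeaklyRegular_congr (e := e.toAddEquiv) ?_).mp h1
    refine List.forall₂_map_right_iff.mpr (List.forall₂_same.mpr fun a _ x => ?_)
    change e (a * x) = e a * e x
    exact map_mul e a x
  have hspan : m.toIdeal = Ideal.span (Set.range y) := by
    rw [hmsp, hstd]
    apply le_antisymm
    · rw [Ideal.span_le]
      intro x hx
      have := hyspan x hx
      clear hx
      induction this using Submodule.span_induction with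
      | mem z hz => exact Ideal.subset_span hz
      | zero => exact zero_mem _
      | add a b _ _ ha hb => exact add_mem ha hb
      | smul c z _ hz => exact Ideal.mul_mem_left _ (c : R) hz
    · rw [Ideal.span_le]
      rintro _ ⟨i, rfl⟩
      exact Ideal.subset_span (hy1 i)
  have hreg : RingTheory.Sequence.IsRegular R (List.ofFn y) := by
    refine ⟨hw, ?_⟩
    intro h
    apply one_notMem_of_isStarLocal hm
    have h1 : (1 : R) ∈ (⊤ : Submodule R R) := Submodule.mem_top
    rw [h, smul_eq_mul, Ideal.mul_top] at h1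
    rw [hspan]
    refine (Ideal.span_mono ?_) h1
    intro p hp
    obtain ⟨i, rfl⟩ := List.mem_ofFn.mp hp
    exact ⟨i, rfl⟩
  have key := endDeg_of_regseq hpos hm hr y (fun _ => 1) hy1 hreg hspan I
  rw [key]
  congr 2
  simp

end Groth.Agent.Lib.T2H3.PolyRing
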