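import Mathlib
import Groth.Prelude.Def_SGA1t
import Groth.Agent.Lib.T2H3GaloisAlg
import Groth.Agent.Lib.Helper26FEtAffine
/-!
# Principal covers of an affine scheme as Galois algebras (helper3)

`exists_galoisAlg`: a principal `G`-cover `P` of `Spec A` (in the sense of `SGA1t.IsPrincipal`) is
`Spec B` for a finite étale faithfully flat `A`-algebra `B` with an anti-action `σ` of `G` which is
geometrically simply transitive (`GaloisAlg.GeomTorsor σ`).
-/
set_option autoImplicit false
set_option linter.style.haveILetI false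
universe u v
open CategoryTheory CategoryTheory.Limits AlgebraicGeometry

namespace Groth.Agent.Lib.T2H3.PrincCover

open Groth.Agent.Lib.T2H3.GaloisAlg

theorem exists_algHom_of_specHom (A : Type u) [CommRing A] {B C : Type u} [CommRing B]
    [Algebra A B] [CommRing C] [Algebra A C]
    (l : Spec (CommRingCat.of B) ⟶ Spec (CommRingCat.of C))
    (hw : l ≫ Spec.map (CommRingCat.ofHom (algebraMap A C)) =
      Spec.map (CommRingCat.ofHom (algebraMap A B))) :
    ∃ g : C →ₐ[A] B, Spec.map (CommRingCat.ofHom g.toRingHom) = l := by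
  let r : CommRingCat.of C ⟶ CommRingCat.of B := Spec.preimage l
  have hr : Spec.map r = l := Spec.map_preimage l
  have hcomm : CommRingCat.ofHom (algebraMap A C) ≫ r = CommRingCat.ofHom (algebraMap A B) := by
    apply Spec.map_injective
    rw [Spec.map_comp, hr, hw]
  let g : C →ₐ[A] B :=
    { r.hom with
      commutes' := fun a => by
        have := congrArg (fun t => t.hom a) hcomm
        exact this }
  exact ⟨g, hr⟩

theorem specMap_algHom_injective {A : Type u} [CommRing A] {B C : Type u} [CommRing B]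
    [Algebra A B] [CommRing C] [Algebra A C] {f g : C →ₐ[A] B}
    (h : Spec.map (CommRingCat.ofHom f.toRingHom) = Spec.map (CommRingCat.ofHom g.toRingHom)) :
    f = g := by
  have h1 := Spec.map_injective h
  ext c
  exact congrArg (fun t => t.hom c) h1

theorem exists_galoisAlg (A : Type u) [CommRing A] {G : Type v} [Group G]
    (P : FEt.Cat (Spec (CommRingCat.of A))) (ρ : G →* Aut P) (hP : SGA1t.IsPrincipal G P ρ) :
    ∃ (B : Type u) (_ : CommRing B) (_ : Algebra A B) (_ : Module.Finite A B)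
      (_ : Algebra.Etale A B) (_ : Module.FaithfullyFlat A B)
      (e₀ : P.left ≅ Spec (CommRingCat.of B)) (σ : G → (B →ₐ[A] B)),
      e₀.hom ≫ Spec.map (CommRingCat.ofHom (algebraMap A B)) = P.hom ∧
      (∀ g, (ρ g).hom.left ≫ e₀.hom = e₀.hom ≫ Spec.map (CommRingCat.ofHom (σ g).toRingHom)) ∧
      σ 1 = AlgHom.id A B ∧ (∀ g h, σ (g * h) = (σ h).comp (σ g)) ∧ GeomTorsor σ := by
  obtain ⟨B, _, _, hfin, het, e₀, he₀⟩ :=
    Groth.Agent.Lib.Helper26.FEtAffine.exists_iso_specMap A P.hom P.prop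
  have he₀' : e₀.inv ≫ P.hom = Spec.map (CommRingCat.ofHom (algebraMap A B)) := by
    rw [← he₀, Iso.inv_hom_id_assoc]
  -- faithfully flat
  haveI : Module.FinitePresentation A B := Module.FinitePresentation.of_finite_of_finitePresentation A B
  haveI : Module.Flat A B := inferInstance
  have hff : Module.FaithfullyFlat A B := by
    apply Module.FaithfullyFlat.of_comap_surjective
    intro x
    obtain ⟨y, hy⟩ := hP.1 x
    refine ⟨e₀.hom.base y, ?_⟩
    have := congrArg (fun f => f.base y) he₀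
    simp only [Scheme.Hom.comp_base, TopCat.hom_comp, ContinuousMap.comp_apply] at this
    exact this.trans hy
  -- the automorphisms
  let τ : G → (Spec (CommRingCat.of B) ⟶ Spec (CommRingCat.of B)) :=
    fun g => e₀.inv ≫ (ρ g).hom.left ≫ e₀.hom
  have hτw : ∀ g, τ g ≫ Spec.map (CommRingCat.ofHom (algebraMap A B)) =
      Spec.map (CommRingCat.ofHom (algebraMap A B)) := by
    intro g
    change (e₀.inv ≫ (ρ g).hom.left ≫ e₀.hom) ≫ _ = _
    rw [Category.assoc, Category.assoc, he₀, MorphismProperty.Over.w (ρ g).hom, he₀']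
  choose σ hσ using fun g => exists_algHom_of_specHom A (τ g) (hτw g)
  have hρσ : ∀ g, (ρ g).hom.left ≫ e₀.hom =
      e₀.hom ≫ Spec.map (CommRingCat.ofHom (σ g).toRingHom) := by
    intro g
    rw [hσ]
    change _ = e₀.hom ≫ e₀.inv ≫ (ρ g).hom.left ≫ e₀.hom
    rw [Iso.hom_inv_id_assoc]
  have hσ1 : σ 1 = AlgHom.id A B := by
    apply specMap_algHom_injective
    rw [hσ]
    change e₀.inv ≫ (ρ 1).hom.left ≫ e₀.hom = Spec.map (𝟙 _)
    rw [map_one, Spec.map_id]
    change e₀.inv ≫ 𝟙 _ ≫ e₀.hom = _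
    rw [Category.id_comp, Iso.inv_hom_id]
  have hσmul : ∀ g h, σ (g * h) = (σ h).comp (σ g) := by
    intro g h
    apply specMap_algHom_injective
    have e1 : Spec.map (CommRingCat.ofHom ((σ h).comp (σ g)).toRingHom) =
        Spec.map (CommRingCat.ofHom (σ h).toRingHom) ≫
          Spec.map (CommRingCat.ofHom (σ g).toRingHom) := by
      rw [← Spec.map_comp]; rfl
    rw [e1, hσ, hσ, hσ]
    change e₀.inv ≫ (ρ (g * h)).hom.left ≫ e₀.hom =
      (e₀.inv ≫ (ρ h).hom.left ≫ e₀.hom) ≫ (e₀.inv ≫ (ρ g).hom.left ≫ e₀.hom)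
    rw [map_mul]
    change e₀.inv ≫ ((ρ h).hom.left ≫ (ρ g).hom.left) ≫ e₀.hom = _
    simp only [Category.assoc, Iso.hom_inv_id_assoc]
  refine ⟨B, inferInstance, inferInstance, hfin, het, hff, e₀, σ, he₀, hρσ, hσ1, hσmul, ?_⟩
  -- geometric simple transitivity
  intro Ω _ _ _ s t
  let ξ : Spec (CommRingCat.of Ω) ⟶ Spec (CommRingCat.of A) :=
    Spec.map (CommRingCat.ofHom (algebraMap A Ω))
  have hpt : ∀ φ : B →ₐ[A] Ω,
      (Spec.map (CommRingCat.ofHom φ.toRingHom) ≫ e₀.inv) ≫ P.hom = ξ := by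
    intro φ
    rw [Category.assoc, he₀', ← Spec.map_comp]
    congr 1
    ext a
    exact φ.commutes a
  let pt : (B →ₐ[A] Ω) → FEt.fiberObj ξ P := fun φ => ⟨_, hpt φ⟩
  have aux : ∀ g, ((Spec.map (CommRingCat.ofHom s.toRingHom) ≫ e₀.inv) ≫ (ρ g).hom.left =
      Spec.map (CommRingCat.ofHom t.toRingHom) ≫ e₀.inv) ↔ s.comp (σ g) = t := by
    intro g
    rw [← cancel_mono e₀.hom]
    simp only [Category.assoc, Iso.inv_hom_id, Category.comp_id]
    rw [hρσ, Iso.inv_hom_id_assoc, ← Spec.map_comp]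
    constructor
    · intro h1
      apply specMap_algHom_injective
      rw [← h1]; rfl
    · intro h1
      rw [← h1]; rfl
  have key : ∀ g, (FEt.fiber ξ).map (ρ g).hom (pt s) = pt t ↔ s.comp (σ g) = t := by
    intro g
    rw [← aux g]
    exact ⟨fun h1 => congrArg Subtype.val h1, fun h1 => Subtype.ext h1⟩
  exact (existsUnique_congr key).mp (hP.2 Ω ξ (pt s) (pt t))

end Groth.Agent.Lib.T2H3.PrincCover
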