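import Mathlib

/-!
# Sections over the punctured spectrum, algebraically (`Sec`)

For a finite family `x : ι → A` and an `A`-module `M`, `Sec x M` is the module of compatible
families in `Π i, A[1/x i] ⊗ M`; this is `Γ(⋃ D(x i), M~)`.
-/

set_option autoImplicit false
set_option linter.unusedSectionVars false
universe u

open TensorProduct

namespace Groth.Agent.Lib.T2H3.Purity

section Sec

variable {A : Type u} [CommRing A] {ι : Type} (x : ι → A)

/-- `A[1/x i]`. -/
abbrev Loc (i : ι) : Type u := Localization.Away (x i)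

/-- `A[1/(x i x j)]`. -/
abbrev Loc2 (i j : ι) : Type u := Localization.Away (x i * x j)

theorem isUnit_left (i j : ι) : IsUnit (algebraMap A (Loc2 x i j) (x i)) := by
  have h := IsLocalization.Away.algebraMap_isUnit (S := Loc2 x i j) (x i * x j)
  rw [map_mul] at h
  exact isUnit_of_mul_isUnit_left h

theorem isUnit_right (i j : ι) : IsUnit (algebraMap A (Loc2 x i j) (x j)) := by
  have h := IsLocalization.Away.algebraMap_isUnit (S := Loc2 x i j) (x i * x j)
  rw [map_mul] at h
  exact isUnit_of_mul_isUnit_right h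

/-- restriction `A[1/x i] → A[1/(x i x j)]`. -/
noncomputable def resL (i j : ι) : Loc x i →ₐ[A] Loc2 x i j :=
  IsLocalization.liftAlgHom (M := Submonoid.powers (x i)) (f := Algebra.ofId A (Loc2 x i j)) (by
    rintro ⟨_, n, rfl⟩
    simpa using (isUnit_left x i j).pow n)

/-- restriction `A[1/x j] → A[1/(x i x j)]`. -/
noncomputable def resR (i j : ι) : Loc x j →ₐ[A] Loc2 x i j :=
  IsLocalization.liftAlgHom (M := Submonoid.powers (x j)) (f := Algebra.ofId A (Loc2 x i j)) (by
    rintro ⟨_, n, rfl⟩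
    simpa using (isUnit_right x i j).pow n)

variable (M : Type u) [AddCommGroup M] [Module A M]

/-- the module of compatible families. -/
noncomputable def Sec : Submodule A (Π i, Loc x i ⊗[A] M) where
  carrier := {σ | ∀ i j, (resL x i j).toLinearMap.rTensor M (σ i) =
    (resR x i j).toLinearMap.rTensor M (σ j)}
  add_mem' := by
    intro σ τ hσ hτ i j
    simp only [Pi.add_apply, map_add, hσ i j, hτ i j]
  zero_mem' := by
    intro i j
    simp
  smul_mem' := by
    intro c σ hσ i j
    simp only [Pi.smul_apply, map_smul, hσ i j]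

theorem mem_Sec (σ : Π i, Loc x i ⊗[A] M) : σ ∈ Sec x M ↔ ∀ i j,
    (resL x i j).toLinearMap.rTensor M (σ i) = (resR x i j).toLinearMap.rTensor M (σ j) := Iff.rfl

/-- the canonical map `M → Sec x M`. -/
noncomputable def toSec : M →ₗ[A] Sec x M where
  toFun m := ⟨fun i => (1 : Loc x i) ⊗ₜ[A] m, by
    intro i j
    simp⟩
  map_add' := by
    intro m m'
    ext i
    simp [tmul_add]
  map_smul' := by
    intro c m
    ext i
    simp

@[simp] theorem toSec_apply (m : M) (i : ι) : (toSec x M m : Π i, Loc x i ⊗[A] M) i = 1 ⊗ₜ m := rfl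

theorem rTensor_lTensor_comm {L L' : Type u} [AddCommGroup L] [Module A L] [AddCommGroup L']
    [Module A L'] {M M' : Type u} [AddCommGroup M] [Module A M] [AddCommGroup M'] [Module A M']
    (r : L →ₗ[A] L') (φ : M →ₗ[A] M') (z : L ⊗[A] M) :
    r.rTensor M' (φ.lTensor L z) = φ.lTensor L' (r.rTensor M z) := by
  induction z using TensorProduct.induction_on with
  | zero => simp
  | tmul a b => simp
  | add a b ha hb => simp only [map_add, ha, hb]

variable {M} {M' : Type u} [AddCommGroup M'] [Module A M']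
  {M'' : Type u} [AddCommGroup M''] [Module A M'']

/-- functoriality of `Sec`. -/
noncomputable def Sec.map (φ : M →ₗ[A] M') : Sec x M →ₗ[A] Sec x M' where
  toFun σ := ⟨fun i => φ.lTensor (Loc x i) (σ.1 i), by
    intro i j
    rw [rTensor_lTensor_comm, rTensor_lTensor_comm, σ.2 i j]⟩
  map_add' := by
    intro σ τ
    ext i
    simp
  map_smul' := by
    intro c σ
    ext i
    simp

@[simp] theorem Sec.map_apply (φ : M →ₗ[A] M') (σ : Sec x M) (i : ι) :
    (Sec.map x φ σ : Π i, Loc x i ⊗[A] M') i = φ.lTensor (Loc x i) (σ.1 i) := rfl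

theorem Sec.map_toSec (φ : M →ₗ[A] M') (m : M) : Sec.map x φ (toSec x M m) = toSec x M' (φ m) := by
  ext i
  simp

theorem Sec.map_id (σ : Sec x M) : Sec.map x (LinearMap.id : M →ₗ[A] M) σ = σ := by
  ext i
  simp

theorem Sec.map_comp (ψ : M' →ₗ[A] M'') (φ : M →ₗ[A] M') (σ : Sec x M) :
    Sec.map x (ψ ∘ₗ φ) σ = Sec.map x ψ (Sec.map x φ σ) := by
  ext i
  simp [LinearMap.lTensor_comp]

theorem Sec.map_add (φ ψ : M →ₗ[A] M') (σ : Sec x M) :
    Sec.map x (φ + ψ) σ = Sec.map x φ σ + Sec.map x ψ σ := by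
  ext i
  simp [LinearMap.lTensor_add]

theorem Sec.map_smul (c : A) (φ : M →ₗ[A] M') (σ : Sec x M) :
    Sec.map x (c • φ) σ = c • Sec.map x φ σ := by
  ext i
  simp [LinearMap.lTensor_smul]

theorem Sec.map_zero (σ : Sec x M) : Sec.map x (0 : M →ₗ[A] M') σ = 0 := by
  ext i
  simp

theorem Sec.map_sum {κ : Type} (s : Finset κ) (φ : κ → (M →ₗ[A] M')) (σ : Sec x M) :
    Sec.map x (∑ k ∈ s, φ k) σ = ∑ k ∈ s, Sec.map x (φ k) σ := by
  classical
  induction s using Finset.induction_on with
  | empty => simp [Sec.map_zero]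
  | insert a s ha ih => rw [Finset.sum_insert ha, Finset.sum_insert ha, Sec.map_add, ih]

end Sec

section Elementwise

variable {A : Type u} [CommRing A] (a : A) (M : Type u) [AddCommGroup M] [Module A M]

local notation "L" => Localization.Away a

instance instIsLocMk : IsLocalizedModule (Submonoid.powers a) (TensorProduct.mk A L M 1) :=
  IsLocalization.tensorProduct_isLocalizedModule (S := Submonoid.powers a) (A := L) (M := M)

theorem exists_rep (z : L ⊗[A] M) : ∃ (n : ℕ) (m : M), a ^ n • z = (1 : L) ⊗ₜ[A] m := by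
  obtain ⟨⟨m, ⟨_, n, rfl⟩⟩, h⟩ :=
    IsLocalizedModule.surj (Submonoid.powers a) (TensorProduct.mk A L M 1) z
  exact ⟨n, m, h⟩

theorem one_tmul_eq_zero_iff (m : M) : (1 : L) ⊗ₜ[A] m = 0 ↔ ∃ n : ℕ, a ^ n • m = 0 := by
  have h := IsLocalizedModule.eq_zero_iff (Submonoid.powers a) (TensorProduct.mk A L M 1) (m := m)
  constructor
  · intro h0
    obtain ⟨⟨_, n, rfl⟩, hn⟩ := h.mp h0
    exact ⟨n, hn⟩
  · rintro ⟨n, hn⟩
    exact h.mpr ⟨⟨_, n, rfl⟩, hn⟩

theorem pow_smul_injective (n : ℕ) : Function.Injective fun z : L ⊗[A] M => a ^ n • z :=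
  IsLocalizedModule.smul_injective (TensorProduct.mk A L M 1)
    (⟨a ^ n, n, rfl⟩ : Submonoid.powers a)

theorem pow_smul_surjective (n : ℕ) : Function.Surjective fun z : L ⊗[A] M => a ^ n • z := by
  have h := IsLocalizedModule.map_units (TensorProduct.mk A L M 1)
    (⟨a ^ n, n, rfl⟩ : Submonoid.powers a)
  exact ((Module.End.isUnit_iff _).mp h).surjective

theorem eq_zero_of_pow_smul {n : ℕ} {z : L ⊗[A] M} (h : a ^ n • z = 0) : z = 0 :=
  pow_smul_injective a M n (by simpa using h)

theorem isSMulRegular_loc {c : A} (h : IsSMulRegular M c) : IsSMulRegular (L ⊗[A] M) c := by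
  intro z z' hzz
  rw [← sub_eq_zero]
  have hz : c • (z - z') = 0 := by
    simpa [smul_sub, sub_eq_zero] using hzz
  generalize z - z' = w at hz
  obtain ⟨n, m, hn⟩ := exists_rep a M w
  have h1 : (1 : L) ⊗ₜ[A] (c • m) = 0 := by
    rw [TensorProduct.tmul_smul, ← hn, smul_comm, hz, smul_zero]
  obtain ⟨q, hq⟩ := (one_tmul_eq_zero_iff a M _).mp h1
  have h2 : a ^ q • m = 0 := by
    apply h
    simpa [smul_comm c] using hq
  have h3 : (1 : L) ⊗ₜ[A] m = 0 := (one_tmul_eq_zero_iff a M m).mpr ⟨q, h2⟩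
  rw [h3] at hn
  exact eq_zero_of_pow_smul a M hn

end Elementwise

section Hartogs

variable {A : Type u} [CommRing A] {ι : Type} (x : ι → A)
  (M : Type u) [AddCommGroup M] [Module A M]

theorem resR_one_tmul (i j : ι) (m : M) :
    (resR x i j).toLinearMap.rTensor M ((1 : Loc x j) ⊗ₜ[A] m) = (1 : Loc2 x i j) ⊗ₜ[A] m := by
  simp

theorem resL_one_tmul (i j : ι) (m : M) :
    (resL x i j).toLinearMap.rTensor M ((1 : Loc x i) ⊗ₜ[A] m) = (1 : Loc2 x i j) ⊗ₜ[A] m := by
  simp

/-- if the restriction of `z ∈ A[1/x j] ⊗ M` to `A[1/(x i x j)] ⊗ M` vanishes, then `z` is killed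
by a power of `x i`. -/
theorem exists_pow_smul_eq_zero_of_resR (i j : ι) (z : Loc x j ⊗[A] M)
    (hz : (resR x i j).toLinearMap.rTensor M z = 0) : ∃ k : ℕ, x i ^ k • z = 0 := by
  obtain ⟨p, t, hp⟩ := exists_rep (x j) M z
  have h1 : (1 : Loc2 x i j) ⊗ₜ[A] t = 0 := by
    rw [← resR_one_tmul, ← hp, map_smul, hz, smul_zero]
  obtain ⟨q, hq⟩ := (one_tmul_eq_zero_iff (x i * x j) M t).mp h1
  refine ⟨q, ?_⟩
  apply pow_smul_injective (x j) M (p + q)
  simp only [smul_zero]
  have : x j ^ (p + q) • x i ^ q • z = (x i * x j) ^ q • (x j ^ p • z) := by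
    simp only [smul_smul]
    congr 1
    ring
  rw [this, hp, ← TensorProduct.tmul_smul, hq, tmul_zero]

variable [Finite ι]

/-- (T): every section becomes global after multiplying by a power of `x i`. -/
theorem exists_pow_smul_eq_toSec (σ : Sec x M) (i : ι) :
    ∃ (l : ℕ) (m : M), x i ^ l • σ = toSec x M m := by
  classical
  have := Fintype.ofFinite ι
  obtain ⟨n, m, hn⟩ := exists_rep (x i) M (σ.1 i)
  set τ : Sec x M := x i ^ n • σ - toSec x M m with hτ
  have hτi : τ.1 i = 0 := by
    simp [hτ, hn]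
  have hj : ∀ j, ∃ k : ℕ, x i ^ k • τ.1 j = 0 := by
    intro j
    apply exists_pow_smul_eq_zero_of_resR
    rw [← τ.2 i j, hτi, map_zero]
  choose k hk using hj
  refine ⟨Finset.univ.sup k + n, (x i) ^ (Finset.univ.sup k) • m, ?_⟩
  ext j
  have hle : k j ≤ Finset.univ.sup k := Finset.le_sup (Finset.mem_univ j)
  obtain ⟨d, hd⟩ := Nat.exists_eq_add_of_le hle
  have h0 : x i ^ (Finset.univ.sup k) • τ.1 j = 0 := by
    rw [hd, add_comm, pow_add, mul_smul, hk j, smul_zero]
  have h1 : τ.1 j = x i ^ n • σ.1 j - (1 : Loc x j) ⊗ₜ[A] m := by simp [hτ]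
  rw [h1, smul_sub, sub_eq_zero] at h0
  simp only [Submodule.coe_smul, Pi.smul_apply, toSec_apply]
  rw [pow_add, mul_smul, h0, TensorProduct.tmul_smul]

/-- (T) for elements of the radical of the ideal generated by the family. -/
theorem exists_pow_smul_eq_toSec' (σ : Sec x M) {a : A}
    (ha : a ∈ (Ideal.span (Set.range x)).radical) :
    ∃ (l : ℕ) (m : M), a ^ l • σ = toSec x M m := by
  let I : Ideal A :=
    (LinearMap.range (toSec x M)).comap (LinearMap.toSpanSingleton A (Sec x M) σ)
  have hI : ∀ r : A, r ∈ I ↔ ∃ m, toSec x M m = r • σ := by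
    intro r
    simp [I, Submodule.mem_comap, LinearMap.toSpanSingleton_apply]
  have h1 : Ideal.span (Set.range x) ≤ I.radical := by
    rw [Ideal.span_le]
    rintro _ ⟨i, rfl⟩
    obtain ⟨l, m, hl⟩ := exists_pow_smul_eq_toSec x M σ i
    exact ⟨l, (hI _).mpr ⟨m, hl.symm⟩⟩
  have h2 : a ∈ I.radical := by
    have := Ideal.radical_mono h1 ha
    rwa [Ideal.radical_idem] at this
  obtain ⟨l, hl⟩ := h2
  obtain ⟨m, hm⟩ := (hI _).mp hl
  exact ⟨l, m, hm.symm⟩

omit [Finite ι] in
theorem toSec_injective_of_regular {a : A} (ha : a ∈ (Ideal.span (Set.range x)).radical)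
    (hreg : IsSMulRegular M a) : Function.Injective (toSec x M) := by
  rw [injective_iff_map_eq_zero]
  intro m hm
  have h1 : Ideal.span (Set.range x) ≤ (Ideal.torsionOf A M m).radical := by
    rw [Ideal.span_le]
    rintro _ ⟨i, rfl⟩
    have : (1 : Loc x i) ⊗ₜ[A] m = 0 := by
      have := congrArg (fun σ : Sec x M => σ.1 i) hm
      simpa using this
    obtain ⟨n, hn⟩ := (one_tmul_eq_zero_iff (x i) M m).mp this
    exact ⟨n, (Ideal.mem_torsionOf_iff _ _).mpr hn⟩
  have h2 : a ∈ (Ideal.torsionOf A M m).radical := by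
    have := Ideal.radical_mono h1 ha
    rwa [Ideal.radical_idem] at this
  obtain ⟨l, hl⟩ := h2
  rw [Ideal.mem_torsionOf_iff] at hl
  exact (hreg.pow l) (by simpa using hl)

omit [Finite ι] in
theorem isSMulRegular_sec {c : A} (h : IsSMulRegular M c) : IsSMulRegular (Sec x M) c := by
  intro σ τ hστ
  ext i
  apply isSMulRegular_loc (x i) M h
  have := congrArg (fun σ : Sec x M => σ.1 i) hστ
  simpa using this

/-- `b` is a nonzerodivisor on `M / a M`, stated elementwise. -/
def RegMod (a b : A) (M : Type u) [AddCommGroup M] [Module A M] : Prop :=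
  ∀ y z : M, b • y = a • z → ∃ w : M, y = a • w

variable {M}

theorem RegMod.pow_left {a b : A} (ha : IsSMulRegular M a) (h : RegMod a b M) (k : ℕ) :
    RegMod (a ^ k) b M := by
  induction k with
  | zero =>
    intro y z _
    exact ⟨y, by simp⟩
  | succ k ih =>
    intro y z hyz
    obtain ⟨w, hw⟩ := ih y (a • z) (by rw [hyz, pow_succ, mul_smul])
    have h1 : b • w = a • z := by
      apply ha.pow k
      show a ^ k • b • w = a ^ k • a • z
      rw [smul_comm, ← hw, hyz, pow_succ, mul_smul]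
    obtain ⟨w', hw'⟩ := h w z h1
    exact ⟨w', by rw [hw, hw', pow_succ, mul_smul]⟩

theorem RegMod.pow_right {a b : A} (h : RegMod a b M) (k : ℕ) : RegMod a (b ^ k) M := by
  induction k with
  | zero =>
    intro y z hyz
    exact ⟨z, by simpa using hyz⟩
  | succ k ih =>
    intro y z hyz
    obtain ⟨w, hw⟩ := h (b ^ k • y) z (by rw [← hyz, pow_succ', mul_smul])
    exact ih y w hw

variable (M)

/-- Hartogs: a module of depth `≥ 2` (w.r.t. the ideal of the family) has all its sections
global. -/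
theorem toSec_surjective {a b : A} (ha : a ∈ (Ideal.span (Set.range x)).radical)
    (hb : b ∈ (Ideal.span (Set.range x)).radical)
    (hreg : IsSMulRegular M a) (hab : RegMod a b M) : Function.Surjective (toSec x M) := by
  intro σ
  obtain ⟨l, u, hu⟩ := exists_pow_smul_eq_toSec' x M σ ha
  obtain ⟨l', v, hv⟩ := exists_pow_smul_eq_toSec' x M σ hb
  have hinj := toSec_injective_of_regular x M ha hreg
  have h1 : b ^ l' • u = a ^ l • v := by
    apply hinj
    rw [map_smul, map_smul, ← hu, ← hv, smul_comm]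
  obtain ⟨w, hw⟩ := ((hab.pow_left hreg l).pow_right l') u v h1
  refine ⟨w, ?_⟩
  apply (isSMulRegular_sec x M hreg).pow l
  show a ^ l • toSec x M w = a ^ l • σ
  rw [hu, hw, map_smul]

theorem toSec_bijective {a b : A} (ha : a ∈ (Ideal.span (Set.range x)).radical)
    (hb : b ∈ (Ideal.span (Set.range x)).radical)
    (hreg : IsSMulRegular M a) (hab : RegMod a b M) : Function.Bijective (toSec x M) :=
  ⟨toSec_injective_of_regular x M ha hreg, toSec_surjective x M ha hb hreg hab⟩

omit [Finite ι] in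
/-- (R'): if `a` is `M`-regular then `Sec x M / a` has no torsion w.r.t. the family. -/
theorem exists_eq_smul_of_forall_pow_smul {a : A} (hreg : IsSMulRegular M a) (r : Sec x M)
    (h : ∀ i, ∃ (l : ℕ) (u : Sec x M), x i ^ l • r = a • u) : ∃ w : Sec x M, r = a • w := by
  choose l u hu using h
  have hcomp : ∀ i j, x j ^ l j • u i = x i ^ l i • u j := by
    intro i j
    apply isSMulRegular_sec x M hreg
    show a • x j ^ l j • u i = a • x i ^ l i • u j
    rw [smul_comm, ← hu i, smul_comm a, ← hu j, smul_comm]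
  choose w hw using fun i => pow_smul_surjective (x i) M (l i) ((u i).1 i)
  have hw' : ∀ i, x i ^ l i • w i = (u i).1 i := hw
  refine ⟨⟨w, ?_⟩, ?_⟩
  · intro i j
    have key : (x i ^ l i * x j ^ l j) • (resL x i j).toLinearMap.rTensor M (w i) =
        (x i ^ l i * x j ^ l j) • (resR x i j).toLinearMap.rTensor M (w j) := by
      have e1 : (x i ^ l i * x j ^ l j) • (resL x i j).toLinearMap.rTensor M (w i) =
          (resR x i j).toLinearMap.rTensor M ((x j ^ l j • u i).1 j) := by
        rw [show x i ^ l i * x j ^ l j = x j ^ l j * x i ^ l i from mul_comm _ _, mul_smul,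
          ← map_smul, hw' i, (u i).2 i j, ← map_smul]
        rfl
      have e2 : (x i ^ l i * x j ^ l j) • (resR x i j).toLinearMap.rTensor M (w j) =
          (resR x i j).toLinearMap.rTensor M ((x i ^ l i • u j).1 j) := by
        rw [mul_smul, ← map_smul, ← map_smul, hw' j]
        rfl
      rw [e1, e2, hcomp i j]
    apply pow_smul_injective (x i * x j) M (l i + l j)
    have hc : (x i * x j) ^ (l i + l j) = (x i ^ l j * x j ^ l i) * (x i ^ l i * x j ^ l j) := by
      rw [mul_pow, pow_add, pow_add]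
      ring
    show (x i * x j) ^ (l i + l j) • _ = (x i * x j) ^ (l i + l j) • _
    have h2 := congrArg (fun z => (x i ^ l j * x j ^ l i) • z) key
    simp only [smul_smul] at h2
    rw [hc]
    exact h2
  · ext i
    apply pow_smul_injective (x i) M (l i)
    show x i ^ l i • r.1 i = x i ^ l i • (a • w i)
    rw [smul_comm, hw' i]
    have := congrArg (fun σ : Sec x M => σ.1 i) (hu i)
    simpa using this

end Hartogs

end Groth.Agent.Lib.T2H3.Purity
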