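import Groth.Agent.Lib.T2H3PurityA

/-!
# `SecAlg`: the ring of sections, and lifting formally étale algebras into it
-/

set_option autoImplicit false
set_option linter.unusedSectionVars false
universe u

open TensorProduct

namespace Groth.Agent.Lib.T2H3.Purity

section SecAlg

variable {A : Type u} [CommRing A] {ι : Type} (x : ι → A)
variable (B : Type u) [CommRing B] [Algebra A B]

/-- algebra version of the restriction maps. -/
noncomputable def resLAlg (i j : ι) : Loc x i ⊗[A] B →ₐ[A] Loc2 x i j ⊗[A] B :=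
  Algebra.TensorProduct.map (resL x i j) (AlgHom.id A B)

noncomputable def resRAlg (i j : ι) : Loc x j ⊗[A] B →ₐ[A] Loc2 x i j ⊗[A] B :=
  Algebra.TensorProduct.map (resR x i j) (AlgHom.id A B)

theorem resLAlg_apply (i j : ι) (z : Loc x i ⊗[A] B) :
    resLAlg x B i j z = (resL x i j).toLinearMap.rTensor B z := by
  induction z using TensorProduct.induction_on with
  | zero => simp
  | tmul a b => simp [resLAlg]
  | add a b ha hb => simp only [map_add, ha, hb]

theorem resRAlg_apply (i j : ι) (z : Loc x j ⊗[A] B) :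
    resRAlg x B i j z = (resR x i j).toLinearMap.rTensor B z := by
  induction z using TensorProduct.induction_on with
  | zero => simp
  | tmul a b => simp [resRAlg]
  | add a b ha hb => simp only [map_add, ha, hb]

/-- the ring of sections. -/
noncomputable def SecAlg : Subalgebra A (Π i, Loc x i ⊗[A] B) where
  carrier := {σ | ∀ i j, resLAlg x B i j (σ i) = resRAlg x B i j (σ j)}
  mul_mem' := by
    intro σ τ hσ hτ i j
    simp only [Pi.mul_apply, map_mul, hσ i j, hτ i j]
  add_mem' := by
    intro σ τ hσ hτ i j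
    simp only [Pi.add_apply, map_add, hσ i j, hτ i j]
  algebraMap_mem' := by
    intro r i j
    simp only [Pi.algebraMap_apply, AlgHom.commutes]

theorem mem_SecAlg (σ : Π i, Loc x i ⊗[A] B) : σ ∈ SecAlg x B ↔
    ∀ i j, resLAlg x B i j (σ i) = resRAlg x B i j (σ j) := Iff.rfl

theorem mem_SecAlg_iff_mem_Sec (σ : Π i, Loc x i ⊗[A] B) : σ ∈ SecAlg x B ↔ σ ∈ Sec x B := by
  rw [mem_SecAlg, mem_Sec]
  simp only [resLAlg_apply, resRAlg_apply]

theorem SecAlg_toSubmodule : Subalgebra.toSubmodule (SecAlg x B) = Sec x B := by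
  ext σ
  exact mem_SecAlg_iff_mem_Sec x B σ

/-- evaluation at an index. -/
noncomputable def SecAlg.eval (i : ι) : SecAlg x B →ₐ[A] Loc x i ⊗[A] B :=
  (Pi.evalAlgHom A (fun i => Loc x i ⊗[A] B) i).comp (SecAlg x B).val

@[simp] theorem SecAlg.eval_apply (i : ι) (σ : SecAlg x B) : SecAlg.eval x B i σ = σ.1 i := rfl

variable {B} {B' : Type u} [CommRing B'] [Algebra A B'] {B'' : Type u} [CommRing B'']
  [Algebra A B'']

theorem resLAlg_natural (φ : B →ₐ[A] B') (i j : ι) (z : Loc x i ⊗[A] B) :
    resLAlg x B' i j (Algebra.TensorProduct.map (AlgHom.id A (Loc x i)) φ z) =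
      Algebra.TensorProduct.map (AlgHom.id A (Loc2 x i j)) φ (resLAlg x B i j z) := by
  induction z using TensorProduct.induction_on with
  | zero => simp
  | tmul a b => simp [resLAlg]
  | add a b ha hb => simp only [map_add, ha, hb]

theorem resRAlg_natural (φ : B →ₐ[A] B') (i j : ι) (z : Loc x j ⊗[A] B) :
    resRAlg x B' i j (Algebra.TensorProduct.map (AlgHom.id A (Loc x j)) φ z) =
      Algebra.TensorProduct.map (AlgHom.id A (Loc2 x i j)) φ (resRAlg x B i j z) := by
  induction z using TensorProduct.induction_on with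
  | zero => simp
  | tmul a b => simp [resRAlg]
  | add a b ha hb => simp only [map_add, ha, hb]

/-- functoriality of `SecAlg`. -/
noncomputable def SecAlg.map (φ : B →ₐ[A] B') : SecAlg x B →ₐ[A] SecAlg x B' :=
  AlgHom.codRestrict
    (AlgHom.pi (fun i =>
      (Algebra.TensorProduct.map (AlgHom.id A (Loc x i)) φ).comp (SecAlg.eval x B i)))
    (SecAlg x B') (by
      intro σ i j
      simp only [AlgHom.pi_apply, AlgHom.comp_apply, SecAlg.eval_apply]
      rw [resLAlg_natural, resRAlg_natural, σ.2 i j])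

@[simp] theorem SecAlg.map_apply (φ : B →ₐ[A] B') (σ : SecAlg x B) (i : ι) :
    (SecAlg.map x φ σ).1 i = Algebra.TensorProduct.map (AlgHom.id A (Loc x i)) φ (σ.1 i) := rfl

theorem SecAlg.map_comp (ψ : B' →ₐ[A] B'') (φ : B →ₐ[A] B') :
    SecAlg.map x (ψ.comp φ) = (SecAlg.map x ψ).comp (SecAlg.map x φ) := by
  ext σ i
  simp only [SecAlg.map_apply, AlgHom.comp_apply]
  generalize σ.1 i = z
  induction z using TensorProduct.induction_on with
  | zero => simp
  | tmul a b => simp
  | add a b ha hb => simp only [map_add, ha, hb]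

end SecAlg

section Lift

variable {A : Type u} [CommRing A] {ι : Type} (x : ι → A)
variable {B : Type u} [CommRing B] [Algebra A B] {B' : Type u} [CommRing B'] [Algebra A B']

theorem isNilpotent_ker_map (L : Type u) [CommRing L] [Algebra A L] (π : B →ₐ[A] B')
    (hπ : Function.Surjective π) (hnil : IsNilpotent (RingHom.ker π)) :
    IsNilpotent (RingHom.ker
      (Algebra.TensorProduct.map (AlgHom.id A L) π : L ⊗[A] B →+* L ⊗[A] B')) := by
  obtain ⟨n, hn⟩ := hnil
  refine ⟨n, ?_⟩
  have h1 : RingHom.ker (Algebra.TensorProduct.map (AlgHom.id A L) π : L ⊗[A] B →+* L ⊗[A] B') =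
      (RingHom.ker π).map (Algebra.TensorProduct.includeRight : B →ₐ[A] L ⊗[A] B) :=
    Algebra.TensorProduct.lTensor_ker (A := L) π hπ
  rw [h1, ← Ideal.map_pow, hn]
  exact Ideal.map_bot

variable (C : Type u) [CommRing C] [Algebra A C] [Algebra.FormallyEtale A C]

/-- a formally étale algebra lifts uniquely along `SecAlg` of a nilpotent surjection. -/
theorem SecAlg.exists_lift (π : B →ₐ[A] B') (hπ : Function.Surjective π)
    (hnil : IsNilpotent (RingHom.ker π)) (φ : C →ₐ[A] SecAlg x B') :
    ∃ ψ : C →ₐ[A] SecAlg x B, (SecAlg.map x π).comp ψ = φ := by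
  have hsurj : ∀ (L : Type u) [CommRing L] [Algebra A L],
      Function.Surjective (Algebra.TensorProduct.map (AlgHom.id A L) π) := fun L _ _ =>
    Algebra.TensorProduct.map_surjective _ _ Function.surjective_id hπ
  let ψi : ∀ i, C →ₐ[A] Loc x i ⊗[A] B := fun i =>
    Algebra.FormallySmooth.liftOfSurjective ((SecAlg.eval x B' i).comp φ)
      (Algebra.TensorProduct.map (AlgHom.id A (Loc x i)) π) (hsurj _)
      (isNilpotent_ker_map (Loc x i) π hπ hnil)
  have hψi : ∀ i c, Algebra.TensorProduct.map (AlgHom.id A (Loc x i)) π (ψi i c) = (φ c).1 i :=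
    fun i c => Algebra.FormallySmooth.liftOfSurjective_apply _ _ _ _ c
  have hcompat : ∀ i j, (resLAlg x B i j).comp (ψi i) = (resRAlg x B i j).comp (ψi j) := by
    intro i j
    apply Algebra.FormallyUnramified.lift_unique'
      (Algebra.TensorProduct.map (AlgHom.id A (Loc2 x i j)) π)
      (isNilpotent_ker_map (Loc2 x i j) π hπ hnil)
    ext c
    simp only [AlgHom.comp_apply]
    rw [← resLAlg_natural, ← resRAlg_natural, hψi, hψi]
    exact (φ c).2 i j
  refine ⟨AlgHom.codRestrict (AlgHom.pi ψi) (SecAlg x B) ?_, ?_⟩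
  · intro c i j
    exact AlgHom.congr_fun (hcompat i j) c
  · ext c i
    exact hψi i c

theorem SecAlg.lift_unique (π : B →ₐ[A] B') (hπ : Function.Surjective π)
    (hnil : IsNilpotent (RingHom.ker π)) (ψ ψ' : C →ₐ[A] SecAlg x B)
    (h : (SecAlg.map x π).comp ψ = (SecAlg.map x π).comp ψ') : ψ = ψ' := by
  have hi : ∀ i, (SecAlg.eval x B i).comp ψ = (SecAlg.eval x B i).comp ψ' := by
    intro i
    apply Algebra.FormallyUnramified.lift_unique'
      (Algebra.TensorProduct.map (AlgHom.id A (Loc x i)) π)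
      (isNilpotent_ker_map (Loc x i) π hπ hnil)
    ext c
    have := congrArg (fun σ : SecAlg x B' => σ.1 i) (AlgHom.congr_fun h c)
    simpa using this
  ext c i
  exact AlgHom.congr_fun (hi i) c

end Lift

end Groth.Agent.Lib.T2H3.Purity
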