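import Groth.Agent.Lib.T2H3PurityB

/-!
# The "different" ideal and the "projectivity" ideal; the free case of purity
-/

set_option autoImplicit false
set_option linter.unusedSectionVars false
universe u

open TensorProduct

namespace Groth.Agent.Lib.T2H3.Purity

section DiffIdeal

variable (A : Type u) [CommRing A] (B : Type u) [CommRing B] [Algebra A B]

/-- `t` is killed by the kernel of the multiplication `B ⊗ B → B`. -/
def IsDiag (t : B ⊗[A] B) : Prop :=
  ∀ y : B, ((1 : B) ⊗ₜ[A] y - y ⊗ₜ[A] (1 : B)) * t = 0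

variable {A B}

theorem IsDiag.mul_eq {t : B ⊗[A] B} (ht : IsDiag A B t) (u : B ⊗[A] B) :
    u * t = (Algebra.TensorProduct.lmul' A u ⊗ₜ[A] (1 : B)) * t := by
  induction u using TensorProduct.induction_on with
  | zero => simp
  | tmul b b' =>
    have h1 : ((1 : B) ⊗ₜ[A] b') * t = (b' ⊗ₜ[A] (1 : B)) * t := by
      have := ht b'
      rwa [sub_mul, sub_eq_zero] at this
    have h2 : b ⊗ₜ[A] b' = (b ⊗ₜ[A] (1 : B)) * ((1 : B) ⊗ₜ[A] b') := by
      simp
    rw [h2, mul_assoc, h1, ← mul_assoc]
    simp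
  | add u v hu hv => simp only [add_mul, map_add, add_tmul, hu, hv]

theorem IsDiag.add {t t' : B ⊗[A] B} (ht : IsDiag A B t) (ht' : IsDiag A B t') :
    IsDiag A B (t + t') := by
  intro y
  rw [mul_add, ht y, ht' y, add_zero]

theorem IsDiag.smul {t : B ⊗[A] B} (ht : IsDiag A B t) (c : A) : IsDiag A B (c • t) := by
  intro y
  rw [mul_smul_comm, ht y, smul_zero]

theorem IsDiag.zero : IsDiag A B (0 : B ⊗[A] B) := by
  intro y
  simp

theorem IsDiag.cross {t t' : B ⊗[A] B} (ht : IsDiag A B t) (ht' : IsDiag A B t') {r r' : A}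
    (hr : Algebra.TensorProduct.lmul' A t = algebraMap A B r)
    (hr' : Algebra.TensorProduct.lmul' A t' = algebraMap A B r') : r • t' = r' • t := by
  have h1 : t * t' = r • t' := by
    rw [ht'.mul_eq t, hr, Algebra.algebraMap_eq_smul_one, ← smul_tmul', smul_mul_assoc,
      ← Algebra.TensorProduct.one_def, one_mul]
  have h2 : t' * t = r' • t := by
    rw [ht.mul_eq t', hr', Algebra.algebraMap_eq_smul_one, ← smul_tmul', smul_mul_assoc,
      ← Algebra.TensorProduct.one_def, one_mul]
  rw [← h1, ← h2, mul_comm]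

variable (A B)

/-- the ideal of `r ∈ A` such that `B` is "unramified up to `r`". -/
def diffIdeal : Ideal A where
  carrier := {r | ∃ t : B ⊗[A] B, IsDiag A B t ∧
    Algebra.TensorProduct.lmul' A t = algebraMap A B r}
  add_mem' := by
    rintro r s ⟨t, ht, hr⟩ ⟨t', ht', hs⟩
    exact ⟨t + t', ht.add ht', by rw [map_add, map_add, hr, hs]⟩
  zero_mem' := ⟨0, IsDiag.zero, by simp⟩
  smul_mem' := by
    rintro c r ⟨t, ht, hr⟩
    exact ⟨c • t, ht.smul c, by rw [map_smul, hr, smul_eq_mul, map_mul, Algebra.smul_def]⟩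

theorem mem_diffIdeal (r : A) : r ∈ diffIdeal A B ↔ ∃ t : B ⊗[A] B, IsDiag A B t ∧
    Algebra.TensorProduct.lmul' A t = algebraMap A B r := Iff.rfl

/-- the ideal of `r ∈ A` such that `r • id` factors through a finite free module. -/
def projIdeal (M : Type u) [AddCommGroup M] [Module A M] : Ideal A where
  carrier := {r | ∃ t : Module.Dual A M ⊗[A] M, dualTensorHom A M M t = r • LinearMap.id}
  add_mem' := by
    rintro r s ⟨t, ht⟩ ⟨t', ht'⟩
    exact ⟨t + t', by rw [map_add, ht, ht', add_smul]⟩
  zero_mem' := ⟨0, by simp⟩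
  smul_mem' := by
    rintro c r ⟨t, ht⟩
    exact ⟨c • t, by rw [map_smul, ht, smul_eq_mul, mul_smul]⟩

theorem mem_projIdeal (M : Type u) [AddCommGroup M] [Module A M] (r : A) :
    r ∈ projIdeal A M ↔ ∃ t : Module.Dual A M ⊗[A] M,
      dualTensorHom A M M t = r • LinearMap.id := Iff.rfl

end DiffIdeal

section Free

variable {A : Type u} [CommRing A]

theorem RegMod.of_linearEquiv {M M' : Type u} [AddCommGroup M] [Module A M] [AddCommGroup M']
    [Module A M'] (e : M ≃ₗ[A] M') {a b : A} (h : RegMod a b M) : RegMod a b M' := by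
  intro y z hyz
  obtain ⟨w, hw⟩ := h (e.symm y) (e.symm z) (by rw [← map_smul, ← map_smul, hyz])
  exact ⟨e w, by rw [← map_smul, ← hw, e.apply_symm_apply]⟩

theorem RegMod.pi {I : Type u} {a b : A} (h : RegMod a b A) : RegMod a b (I → A) := by
  intro y z hyz
  have : ∀ i, ∃ w : A, y i = a • w := fun i => h (y i) (z i) (congrFun hyz i)
  choose w hw using this
  exact ⟨w, funext hw⟩

theorem RegMod.of_free {M : Type u} [AddCommGroup M] [Module A M] [Module.Free A M]
    [Module.Finite A M] {a b : A} (h : RegMod a b A) : RegMod a b M :=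
  RegMod.of_linearEquiv (Module.Free.chooseBasis A M).equivFun.symm h.pi

theorem isSMulRegular_of_flat {M : Type u} [AddCommGroup M] [Module A M] [Module.Flat A M]
    {a : A} (ha : IsSMulRegular A a) : IsSMulRegular M a :=
  Module.Flat.isSMulRegular_of_isRegular
    ((Commute.isRegular_iff (Commute.all a)).mpr (isLeftRegular_iff.mpr ha))

variable (A) (B : Type u) [CommRing B] [Algebra A B]

theorem one_mem_diffIdeal_of_free [Module.Free A B] [Module.Finite A B] {a b : A}
    (ha : IsSMulRegular A a) (hab : RegMod a b A)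
    (hda : a ∈ (diffIdeal A B).radical) (hdb : b ∈ (diffIdeal A B).radical) :
    (1 : A) ∈ diffIdeal A B := by
  obtain ⟨N, ta, hta, hμa⟩ := hda
  obtain ⟨N', tb, htb, hμb⟩ := hdb
  have hcross : a ^ N • tb = b ^ N' • ta := hta.cross htb hμa hμb
  have hregM : IsSMulRegular (B ⊗[A] B) (a ^ N) := (isSMulRegular_of_flat ha).pow N
  have hregB : IsSMulRegular B (a ^ N) := (isSMulRegular_of_flat ha).pow N
  have habM : RegMod (a ^ N) (b ^ N') (B ⊗[A] B) :=
    (RegMod.pow_left (isSMulRegular_of_flat ha) (RegMod.of_free hab) N).pow_right N'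
  obtain ⟨t, ht⟩ := habM ta tb hcross.symm
  refine ⟨t, ?_, ?_⟩
  · intro y
    apply hregM
    show a ^ N • (((1 : B) ⊗ₜ[A] y - y ⊗ₜ[A] (1 : B)) * t) = a ^ N • 0
    rw [← mul_smul_comm, ← ht, hta y, smul_zero]
  · apply hregB
    show a ^ N • Algebra.TensorProduct.lmul' A t = a ^ N • algebraMap A B 1
    rw [← map_smul, ← ht, hμa, map_one, Algebra.algebraMap_eq_smul_one]

/-- a finite free algebra which is unramified "up to" two elements forming a regular sequence
is étale. -/
theorem etale_of_free [Module.Free A B] [Module.Finite A B] {a b : A}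
    (ha : IsSMulRegular A a) (hab : RegMod a b A)
    (hda : a ∈ (diffIdeal A B).radical) (hdb : b ∈ (diffIdeal A B).radical) :
    Algebra.Etale A B := by
  obtain ⟨t, ht, hμ⟩ := one_mem_diffIdeal_of_free A B ha hab hda hdb
  haveI : Module.FinitePresentation A B := Module.finitePresentation_of_projective A B
  haveI : Algebra.FormallyUnramified A B := by
    rw [Algebra.FormallyUnramified.iff_exists_tensorProduct]
    exact ⟨t, ht, by rw [hμ, map_one]⟩
  exact Algebra.Etale.of_formallyUnramified_of_flat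

end Free

end Groth.Agent.Lib.T2H3.Purity
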