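import Groth.Agent.Lib.T2H3PurityC

/-!
# Duality lemmas for modules which are "projective on the punctured spectrum"
-/

set_option autoImplicit false
set_option linter.unusedSectionVars false
universe u

open TensorProduct

namespace Groth.Agent.Lib.T2H3.Purity

section Duality

variable {A : Type u} [CommRing A] (M : Type u) [AddCommGroup M] [Module A M]
  (Q : Type u) [AddCommGroup Q] [Module A Q]

/-- `Q ⊗ M → Q`, `q ⊗ m ↦ g m • q`. -/
noncomputable def evQ (g : Module.Dual A M) : Q ⊗[A] M →ₗ[A] Q :=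
  (TensorProduct.rid A Q).toLinearMap ∘ₗ g.lTensor Q

/-- `Q → Q ⊗ M`, `q ↦ q ⊗ m`. -/
noncomputable def insQ (m : M) : Q →ₗ[A] Q ⊗[A] M :=
  (TensorProduct.mk A Q M).flip m

variable {M Q}

@[simp] theorem evQ_tmul (g : Module.Dual A M) (q : Q) (m : M) :
    evQ M Q g (q ⊗ₜ[A] m) = g m • q := by
  simp [evQ]

@[simp] theorem insQ_apply (m : M) (q : Q) : insQ M Q m q = q ⊗ₜ[A] m := rfl

theorem evQ_add (g g' : Module.Dual A M) : evQ M Q (g + g') = evQ M Q g + evQ M Q g' := by
  ext q m
  simp [add_smul]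

theorem evQ_smul (c : A) (g : Module.Dual A M) : evQ M Q (c • g) = c • evQ M Q g := by
  ext q m
  simp [mul_smul]

theorem lTensor_dualTensorHom_tmul (g : Module.Dual A M) (m : M) :
    (dualTensorHom A M M (g ⊗ₜ[A] m)).lTensor Q = insQ M Q m ∘ₗ evQ M Q g := by
  ext q m'
  simp [TensorProduct.tmul_smul, TensorProduct.smul_tmul']

variable {ι : Type} (x : ι → A)

/-- (D2'): a section of `Q ⊗ M` all of whose "coordinates" vanish is zero. -/
theorem eq_zero_of_forall_evQ (hp : ∀ i, x i ∈ (projIdeal A M).radical) (σ : Sec x (Q ⊗[A] M))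
    (h : ∀ g : Module.Dual A M, Sec.map x (evQ M Q g) σ = 0) : σ = 0 := by
  have key : ∀ t : Module.Dual A M ⊗[A] M,
      Sec.map x ((dualTensorHom A M M t).lTensor Q) σ = 0 := by
    intro t
    induction t using TensorProduct.induction_on with
    | zero => simp [Sec.map_zero]
    | tmul g m =>
      rw [lTensor_dualTensorHom_tmul, Sec.map_comp, h g, map_zero]
    | add t t' ht ht' =>
      rw [map_add, LinearMap.lTensor_add, Sec.map_add, ht, ht', add_zero]
  ext i
  obtain ⟨N, t, ht⟩ := hp i
  have h1 := key t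
  rw [ht, LinearMap.lTensor_smul, LinearMap.lTensor_id, Sec.map_smul, Sec.map_id] at h1
  have h2 := congrArg (fun τ : Sec x (Q ⊗[A] M) => τ.1 i) h1
  simp only [Submodule.coe_smul, Pi.smul_apply, ZeroMemClass.coe_zero, Pi.zero_apply] at h2
  exact eq_zero_of_pow_smul (x i) (Q ⊗[A] M) h2

/-- contraction of `t ∈ M* ⊗ M` against `h ∈ M**`. -/
noncomputable def contr (h : Module.Dual A (Module.Dual A M)) :
    Module.Dual A M ⊗[A] M →ₗ[A] M :=
  (TensorProduct.lid A M).toLinearMap ∘ₗ h.rTensor M

theorem apply_contr (h : Module.Dual A (Module.Dual A M)) (g : Module.Dual A M)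
    (t : Module.Dual A M ⊗[A] M) :
    g (contr h t) = h (g ∘ₗ dualTensorHom A M M t) := by
  induction t using TensorProduct.induction_on with
  | zero => simp
  | tmul g' m =>
    have h1 : g ∘ₗ dualTensorHom A M M (g' ⊗ₜ[A] m) = g m • g' := by
      ext m'
      simp [mul_comm]
    rw [h1, map_smul]
    simp [contr, mul_comm]
  | add t t' ht ht' =>
    rw [map_add, map_add, ht, ht', map_add, LinearMap.comp_add, map_add]

/-- (D1a): the cokernel of `M → M**` is killed by `projIdeal`. -/
theorem exists_eval_eq_smul {r : A} (hr : r ∈ projIdeal A M)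
    (h : Module.Dual A (Module.Dual A M)) : ∃ c : M, Module.Dual.eval A M c = r • h := by
  obtain ⟨t, ht⟩ := hr
  refine ⟨contr h t, ?_⟩
  ext g
  rw [Module.Dual.eval_apply, apply_contr, ht, LinearMap.comp_smul, LinearMap.comp_id, map_smul,
    LinearMap.smul_apply]

theorem smul_eq_zero_of_eval_eq_zero {r : A} (hr : r ∈ projIdeal A M) {m : M}
    (hm : Module.Dual.eval A M m = 0) : r • m = 0 := by
  obtain ⟨t, ht⟩ := hr
  have key : ∀ t : Module.Dual A M ⊗[A] M, dualTensorHom A M M t m = 0 := by
    intro t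
    induction t using TensorProduct.induction_on with
    | zero => simp
    | tmul g m' =>
      have : g m = 0 := by
        have := LinearMap.congr_fun hm g
        simpa using this
      simp [this]
    | add t t' ht ht' => rw [map_add, LinearMap.add_apply, ht, ht', add_zero]
  have := key t
  rwa [ht, LinearMap.smul_apply, LinearMap.id_apply] at this

theorem loc2_cancel (i j : ι) (p q : ℕ) {z z' : Loc2 x i j ⊗[A] M}
    (h : (x i ^ p * x j ^ q) • z = (x i ^ p * x j ^ q) • z') : z = z' := by
  apply pow_smul_injective (x i * x j) M (p + q)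
  have hc : (x i * x j) ^ (p + q) = (x i ^ q * x j ^ p) * (x i ^ p * x j ^ q) := by
    rw [mul_pow, pow_add, pow_add]
    ring
  show (x i * x j) ^ (p + q) • _ = (x i * x j) ^ (p + q) • _
  have h2 := congrArg (fun z => (x i ^ q * x j ^ p) • z) h
  simp only [smul_smul] at h2
  rw [hc]
  exact h2

/-- a function on `M*` killed by powers of all `x i` vanishes. -/
theorem dual_eq_zero_of_forall_pow_smul {G : Type u} [AddCommGroup G] [Module A G]
    {a : A} (ha : a ∈ (Ideal.span (Set.range x)).radical)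
    (hreg : IsSMulRegular A a) (δ : Module.Dual A G) (h : ∀ i, ∃ n : ℕ, x i ^ n • δ = 0) :
    δ = 0 := by
  have h1 : Ideal.span (Set.range x) ≤ (Ideal.torsionOf A _ δ).radical := by
    rw [Ideal.span_le]
    rintro _ ⟨i, rfl⟩
    obtain ⟨n, hn⟩ := h i
    exact ⟨n, (Ideal.mem_torsionOf_iff _ _).mpr hn⟩
  have h2 : a ∈ (Ideal.torsionOf A _ δ).radical := by
    have := Ideal.radical_mono h1 ha
    rwa [Ideal.radical_idem] at this
  obtain ⟨l, hl⟩ := h2
  rw [Ideal.mem_torsionOf_iff] at hl
  ext g
  have := LinearMap.congr_fun hl g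
  simp only [LinearMap.smul_apply, LinearMap.zero_apply, smul_eq_mul] at this
  exact (hreg.pow l) (by simpa using this)

/-- (D1): reflexivity. -/
theorem eval_bijective [Finite ι] (hp : ∀ i, x i ∈ (projIdeal A M).radical)
    (hbij : Function.Bijective (toSec x M)) {a : A}
    (ha : a ∈ (Ideal.span (Set.range x)).radical) (hreg : IsSMulRegular A a) :
    Function.Bijective (Module.Dual.eval A M) := by
  have hinj : Function.Injective (Module.Dual.eval A M) := by
    rw [injective_iff_map_eq_zero]
    intro m hm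
    apply hbij.1
    rw [map_zero]
    ext i
    obtain ⟨N, hN⟩ := hp i
    have := smul_eq_zero_of_eval_eq_zero hN hm
    exact (one_tmul_eq_zero_iff (x i) M m).mpr ⟨N, this⟩
  refine ⟨hinj, ?_⟩
  intro h
  have h1 : ∀ i, ∃ (N : ℕ) (c : M), Module.Dual.eval A M c = x i ^ N • h := by
    intro i
    obtain ⟨N, hN⟩ := hp i
    obtain ⟨c, hc⟩ := exists_eval_eq_smul hN h
    exact ⟨N, c, hc⟩
  choose N c hc using h1
  choose w hw using fun i => pow_smul_surjective (x i) M (N i) ((1 : Loc x i) ⊗ₜ[A] c i)
  have hw' : ∀ i, x i ^ N i • w i = (1 : Loc x i) ⊗ₜ[A] c i := hw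
  have hcc : ∀ i j, x j ^ N j • c i = x i ^ N i • c j := by
    intro i j
    apply hinj
    rw [map_smul, map_smul, hc, hc, smul_comm]
  have hcompat : w ∈ Sec x M := by
    intro i j
    apply loc2_cancel x i j (N i) (N j)
    have e1 : (x i ^ N i * x j ^ N j) • (resL x i j).toLinearMap.rTensor M (w i) =
        (1 : Loc2 x i j) ⊗ₜ[A] (x j ^ N j • c i) := by
      rw [show x i ^ N i * x j ^ N j = x j ^ N j * x i ^ N i from mul_comm _ _, mul_smul,
        ← map_smul, hw' i, resL_one_tmul, TensorProduct.tmul_smul]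
    have e2 : (x i ^ N i * x j ^ N j) • (resR x i j).toLinearMap.rTensor M (w j) =
        (1 : Loc2 x i j) ⊗ₜ[A] (x i ^ N i • c j) := by
      calc (x i ^ N i * x j ^ N j) • (resR x i j).toLinearMap.rTensor M (w j)
          = x i ^ N i • (resR x i j).toLinearMap.rTensor M (x j ^ N j • w j) := by
            rw [mul_smul, map_smul]
        _ = x i ^ N i • ((1 : Loc2 x i j) ⊗ₜ[A] c j) := by rw [hw' j, resR_one_tmul]
        _ = (1 : Loc2 x i j) ⊗ₜ[A] (x i ^ N i • c j) := by rw [TensorProduct.tmul_smul]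
    rw [e1, e2, hcc i j]
  obtain ⟨m, hm⟩ := hbij.2 ⟨w, hcompat⟩
  refine ⟨m, ?_⟩
  rw [← sub_eq_zero]
  apply dual_eq_zero_of_forall_pow_smul x ha hreg
  intro i
  have h2 : (1 : Loc x i) ⊗ₜ[A] (x i ^ N i • m - c i) = 0 := by
    rw [TensorProduct.tmul_sub, TensorProduct.tmul_smul, sub_eq_zero, ← hw' i]
    have := congrArg (fun τ : Sec x M => τ.1 i) hm
    simp only [toSec_apply] at this
    rw [this]
  obtain ⟨q, hq⟩ := (one_tmul_eq_zero_iff (x i) M _).mp h2
  refine ⟨q + N i, ?_⟩
  rw [smul_sub, sub_eq_zero] at hq ⊢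
  rw [pow_add, mul_smul, ← map_smul, ← map_smul, hq, map_smul, hc, smul_smul]

theorem finite_dual [IsNoetherianRing A] [Module.Finite A M] :
    Module.Finite A (Module.Dual A M) := by
  obtain ⟨n, s, hs⟩ := Module.Finite.exists_fin (R := A) (M := M)
  let Ψ : Module.Dual A M →ₗ[A] (Fin n → A) :=
    LinearMap.pi (fun j => LinearMap.applyₗ (s j))
  have hΨ : Function.Injective Ψ := by
    rw [injective_iff_map_eq_zero]
    intro g hg
    apply LinearMap.ext_on_range hs
    intro j
    have := congrFun hg j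
    simpa [Ψ] using this
  exact Module.Finite.of_injective Ψ hΨ

theorem finite_of_injective_pi {S P : Type u} [AddCommGroup S] [Module A S] [AddCommGroup P]
    [Module A P] [IsNoetherianRing A] [Module.Finite A P] (n : ℕ) (Φ : S →ₗ[A] (Fin n → P))
    (hΦ : Function.Injective Φ) : Module.Finite A S := by
  have : IsNoetherian A (Fin n → P) := isNoetherian_of_isNoetherianRing_of_finite A _
  exact Module.Finite.of_injective Φ hΦ

/-- (Fin): finiteness of the module of sections of `Q ⊗ M`. -/
theorem finite_sec_tensor [IsNoetherianRing A] [Module.Finite A M] [Module.Finite A (Sec x Q)]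
    (hp : ∀ i, x i ∈ (projIdeal A M).radical) : Module.Finite A (Sec x (Q ⊗[A] M)) := by
  have := finite_dual (A := A) (M := M)
  obtain ⟨n, s, hs⟩ := Module.Finite.exists_fin (R := A) (M := Module.Dual A M)
  let Φ : Sec x (Q ⊗[A] M) →ₗ[A] (Fin n → Sec x Q) :=
    LinearMap.pi (fun j => Sec.map x (evQ M Q (s j)))
  have hΦ : Function.Injective Φ := by
    rw [injective_iff_map_eq_zero]
    intro σ hσ
    apply eq_zero_of_forall_evQ x hp
    intro g
    have hg : g ∈ Submodule.span A (Set.range s) := by rw [hs]; trivial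
    induction hg using Submodule.span_induction with
    | mem g hg =>
      obtain ⟨j, rfl⟩ := hg
      have := congrFun hσ j
      simpa [Φ] using this
    | zero =>
      have : evQ M Q (0 : Module.Dual A M) = 0 := by
        ext q m
        simp
      rw [this, Sec.map_zero]
    | add g g' _ _ hg hg' => rw [evQ_add, Sec.map_add, hg, hg', add_zero]
    | smul c g _ hg => rw [evQ_smul, Sec.map_smul, hg, smul_zero]
  exact finite_of_injective_pi (S := Sec x (Q ⊗[A] M)) (P := Sec x Q) n Φ hΦ

end Duality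

end Groth.Agent.Lib.T2H3.Purity
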