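import Groth.Agent.Lib.T2H3PurityD

/-!
# Algebraization of compatible systems of sections along `f`-adic thickenings
-/

set_option autoImplicit false
set_option linter.unusedSectionVars false
universe u

open TensorProduct

namespace Groth.Agent.Lib.T2H3.Purity

section Tower

variable {A : Type u} [CommRing A] (f : A)

/-- `A / f^k`. -/
abbrev Ak (k : ℕ) : Type u := A ⧸ Ideal.span {f ^ k}

theorem span_pow_le {k l : ℕ} (h : k ≤ l) :
    Ideal.span {f ^ l} ≤ Ideal.span ({f ^ k} : Set A) := by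
  rw [Ideal.span_singleton_le_span_singleton]
  exact pow_dvd_pow f h

/-- the transition maps `A / f^l → A / f^k`. -/
noncomputable def trans {k l : ℕ} (h : k ≤ l) : Ak f l →ₐ[A] Ak f k :=
  Ideal.Quotient.factorₐ A (span_pow_le f h)

@[simp] theorem trans_mk {k l : ℕ} (h : k ≤ l) (a : A) :
    trans f h (Ideal.Quotient.mk _ a) = Ideal.Quotient.mk _ a := rfl

theorem trans_surjective {k l : ℕ} (h : k ≤ l) : Function.Surjective (trans f h) := by
  intro y
  obtain ⟨a, rfl⟩ := Ideal.Quotient.mk_surjective y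
  exact ⟨Ideal.Quotient.mk _ a, rfl⟩

theorem mk_eq_mk_iff (k : ℕ) (a b : A) :
    (Ideal.Quotient.mk (Ideal.span {f ^ k}) a = Ideal.Quotient.mk (Ideal.span {f ^ k}) b) ↔
      ∃ c, a - b = f ^ k * c := by
  rw [Ideal.Quotient.eq, Ideal.mem_span_singleton']
  constructor
  · rintro ⟨c, hc⟩
    exact ⟨c, by rw [← hc, mul_comm]⟩
  · rintro ⟨c, hc⟩
    exact ⟨c, by rw [hc, mul_comm]⟩

variable (M : Type u) [AddCommGroup M] [Module A M]

theorem trans_comp_evQ {k l : ℕ} (h : k ≤ l) (g : Module.Dual A M) :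
    (trans f h).toLinearMap ∘ₗ evQ M (Ak f l) g =
      evQ M (Ak f k) g ∘ₗ (trans f h).toLinearMap.rTensor M := by
  ext q
  simp

variable {ι : Type} (x : ι → A)

/-- (AL): algebraization. -/
theorem exists_of_compatible [Finite ι]
    (hsep : ∀ y : A, (∀ k : ℕ, ∃ c, y = f ^ k * c) → y = 0)
    (hcompl : ∀ z : ℕ → A, (∀ k, ∃ c, z (k + 1) - z k = f ^ k * c) →
      ∃ y, ∀ k, ∃ c, y - z k = f ^ k * c)
    (hp : ∀ i, x i ∈ (projIdeal A M).radical)
    (hbij : Function.Bijective (toSec x M)) {a : A}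
    (ha : a ∈ (Ideal.span (Set.range x)).radical) (hreg : IsSMulRegular A a)
    (hAk : ∀ k, Function.Bijective (toSec x (Ak f k)))
    (σ : ∀ k, Sec x (Ak f k ⊗[A] M))
    (hσ : ∀ k, Sec.map x ((trans f (Nat.le_succ k)).toLinearMap.rTensor M) (σ (k + 1)) = σ k) :
    ∃ m : M, ∀ k, σ k = toSec x (Ak f k ⊗[A] M) ((1 : Ak f k) ⊗ₜ[A] m) := by
  -- the property characterizing `h g`
  let P : Module.Dual A M → A → Prop := fun g β =>
    ∀ k, toSec x (Ak f k) (Ideal.Quotient.mk _ β) = Sec.map x (evQ M (Ak f k) g) (σ k)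
  have hPuniq : ∀ g β β', P g β → P g β' → β = β' := by
    intro g β β' h1 h2
    rw [← sub_eq_zero]
    apply hsep
    intro k
    have : Ideal.Quotient.mk (Ideal.span {f ^ k}) β = Ideal.Quotient.mk (Ideal.span {f ^ k}) β' :=
      (hAk k).1 ((h1 k).trans (h2 k).symm)
    exact (mk_eq_mk_iff f k β β').mp this
  have hPex : ∀ g, ∃ β, P g β := by
    intro g
    have h1 : ∀ k, ∃ α : A, toSec x (Ak f k) (Ideal.Quotient.mk _ α) =
        Sec.map x (evQ M (Ak f k) g) (σ k) := by
      intro k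
      obtain ⟨q, hq⟩ := (hAk k).2 (Sec.map x (evQ M (Ak f k) g) (σ k))
      obtain ⟨α, rfl⟩ := Ideal.Quotient.mk_surjective q
      exact ⟨α, hq⟩
    choose α hα using h1
    have h2 : ∀ k, ∃ c, α (k + 1) - α k = f ^ k * c := by
      intro k
      rw [← mk_eq_mk_iff]
      apply (hAk k).1
      rw [hα k, ← hσ k, ← Sec.map_comp, ← trans_comp_evQ, Sec.map_comp, ← hα (k + 1),
        Sec.map_toSec]
      rfl
    obtain ⟨y, hy⟩ := hcompl α h2
    refine ⟨y, fun k => ?_⟩
    rw [← hα k]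
    congr 1
    exact (mk_eq_mk_iff f k y (α k)).mpr (hy k)
  choose h hh using hPex
  have hadd : ∀ g g', h (g + g') = h g + h g' := by
    intro g g'
    apply hPuniq (g + g') _ _ (hh _)
    intro k
    rw [map_add, map_add, hh g k, hh g' k, evQ_add, Sec.map_add]
  have hsmul : ∀ (c : A) g, h (c • g) = c • h g := by
    intro c g
    apply hPuniq (c • g) _ _ (hh _)
    intro k
    rw [show Ideal.Quotient.mk (Ideal.span {f ^ k}) (c • h g) =
      c • Ideal.Quotient.mk (Ideal.span {f ^ k}) (h g) from rfl, map_smul, hh g k, evQ_smul,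
      Sec.map_smul]
  let hh' : Module.Dual A (Module.Dual A M) :=
    { toFun := h
      map_add' := hadd
      map_smul' := hsmul }
  obtain ⟨m, hm⟩ := (eval_bijective x hp hbij ha hreg).2 hh'
  have hm' : ∀ g : Module.Dual A M, g m = h g := by
    intro g
    exact LinearMap.congr_fun hm g
  refine ⟨m, fun k => ?_⟩
  rw [← sub_eq_zero]
  apply eq_zero_of_forall_evQ x hp
  intro g
  rw [map_sub, Sec.map_toSec, sub_eq_zero, ← hh g k, evQ_tmul, hm' g]
  congr 1
  rw [Algebra.smul_def, mul_one]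
  rfl

end Tower

end Groth.Agent.Lib.T2H3.Purity
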