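import Groth.Agent.Lib.T2H3PurityE
import Groth.Agent.Lib.Helper13AB

/-!
# Transfer lemmas for `diffIdeal`, `projIdeal`; depth of modules of sections
-/

set_option autoImplicit false
set_option linter.unusedSectionVars false
universe u

open TensorProduct
open scoped Pointwise

namespace Groth.Agent.Lib.T2H3.Purity

section ProjSum

variable {A : Type u} [CommRing A] {M : Type u} [AddCommGroup M] [Module A M]

theorem exists_sum_of_tensor (t : Module.Dual A M ⊗[A] M) :
    ∃ (n : ℕ) (g : Fin n → Module.Dual A M) (m : Fin n → M),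
      ∀ y, dualTensorHom A M M t y = ∑ j, g j y • m j := by
  induction t using TensorProduct.induction_on with
  | zero => exact ⟨0, Fin.elim0, Fin.elim0, fun y => by simp⟩
  | tmul g m => exact ⟨1, fun _ => g, fun _ => m, fun y => by simp⟩
  | add t t' ht ht' =>
    obtain ⟨n, g, m, h⟩ := ht
    obtain ⟨n', g', m', h'⟩ := ht'
    refine ⟨n + n', Fin.append g g', Fin.append m m', fun y => ?_⟩
    rw [map_add, LinearMap.add_apply, h, h', Fin.sum_univ_add]
    simp

theorem mem_projIdeal_iff_exists_sum (r : A) : r ∈ projIdeal A M ↔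
    ∃ (n : ℕ) (g : Fin n → Module.Dual A M) (m : Fin n → M),
      ∀ y, r • y = ∑ j, g j y • m j := by
  constructor
  · rintro ⟨t, ht⟩
    obtain ⟨n, g, m, h⟩ := exists_sum_of_tensor t
    refine ⟨n, g, m, fun y => ?_⟩
    rw [← h, ht, LinearMap.smul_apply, LinearMap.id_apply]
  · rintro ⟨n, g, m, h⟩
    refine ⟨∑ j, g j ⊗ₜ[A] m j, ?_⟩
    ext y
    rw [map_sum, LinearMap.sum_apply, LinearMap.smul_apply, LinearMap.id_apply, h]
    simp

/-- base change of `projIdeal`. -/
theorem projIdeal_baseChange (T : Type u) [CommRing T] [Algebra A T] {r : A}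
    (hr : r ∈ projIdeal A M) : algebraMap A T r ∈ projIdeal T (T ⊗[A] M) := by
  obtain ⟨n, g, m, h⟩ := (mem_projIdeal_iff_exists_sum r).mp hr
  rw [mem_projIdeal_iff_exists_sum]
  refine ⟨n, fun j => (g j).baseChange T, fun j => (1 : T) ⊗ₜ[A] m j, fun y => ?_⟩
  induction y using TensorProduct.induction_on with
  | zero => simp
  | tmul τ y =>
    have e1 : algebraMap A T r • (τ ⊗ₜ[A] y) = τ ⊗ₜ[A] (r • y) := by
      rw [TensorProduct.smul_tmul', smul_eq_mul, ← Algebra.smul_def, TensorProduct.smul_tmul]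
    rw [e1, h, TensorProduct.tmul_sum]
    refine Finset.sum_congr rfl fun j _ => ?_
    rw [Module.Dual.baseChange_apply_tmul, TensorProduct.smul_tmul', smul_eq_mul, mul_one,
      TensorProduct.tmul_smul, TensorProduct.smul_tmul']
  | add y y' hy hy' =>
    rw [smul_add, hy, hy', ← Finset.sum_add_distrib]
    refine Finset.sum_congr rfl fun j _ => ?_
    rw [map_add, add_smul]

/-- transfer of `projIdeal` to an overmodule `R ⊇ N` with `c • R ⊆ N`. -/
theorem projIdeal_of_injective {N R : Type u} [AddCommGroup N] [Module A N] [AddCommGroup R]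
    [Module A R] (θ : N →ₗ[A] R) (hθ : Function.Injective θ) (c : A)
    (hc : ∀ y : R, ∃ n : N, θ n = c • y) {r : A} (hr : r ∈ projIdeal A N) :
    c * r ∈ projIdeal A R := by
  obtain ⟨n, g, m, h⟩ := (mem_projIdeal_iff_exists_sum r).mp hr
  rw [mem_projIdeal_iff_exists_sum]
  let e := LinearEquiv.ofInjective θ hθ
  let ψ : R →ₗ[A] N := e.symm.toLinearMap ∘ₗ
    LinearMap.codRestrict (LinearMap.range θ) (c • LinearMap.id) (fun y => by
      obtain ⟨n, hn⟩ := hc y
      exact ⟨n, hn⟩)
  have hψ : ∀ y, θ (ψ y) = c • y := by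
    intro y
    have h1 : (e (ψ y) : R) = θ (ψ y) := LinearEquiv.ofInjective_apply θ (ψ y)
    rw [← h1]
    simp [ψ]
  refine ⟨n, fun j => g j ∘ₗ ψ, fun j => θ (m j), fun y => ?_⟩
  rw [mul_comm, mul_smul, ← hψ y, ← map_smul, h, map_sum]
  refine Finset.sum_congr rfl fun j _ => ?_
  rw [map_smul]
  rfl

end ProjSum

section DiffTransfer

variable {A : Type u} [CommRing A] {Λ : Type u} [CommRing Λ] [Algebra A Λ]
  {B : Type u} [CommRing B] [Algebra A B] {R : Type u} [CommRing R] [Algebra A R] [Algebra Λ R]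
  [IsScalarTower A Λ R]

/-- the map `B ⊗[A] B → R ⊗[Λ] R` induced by `θ : B → R`. -/
noncomputable def tensorTransfer (θ : B →ₐ[A] R) : B ⊗[A] B →ₐ[A] R ⊗[Λ] R :=
  (Algebra.TensorProduct.mapOfCompatibleSMul Λ A A R R).comp (Algebra.TensorProduct.map θ θ)

@[simp] theorem tensorTransfer_tmul (θ : B →ₐ[A] R) (b b' : B) :
    tensorTransfer (Λ := Λ) θ (b ⊗ₜ[A] b') = θ b ⊗ₜ[Λ] θ b' := rfl

theorem lmul'_tensorTransfer (θ : B →ₐ[A] R) (t : B ⊗[A] B) :
    Algebra.TensorProduct.lmul' Λ (tensorTransfer (Λ := Λ) θ t) =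
      θ (Algebra.TensorProduct.lmul' A t) := by
  induction t using TensorProduct.induction_on with
  | zero => simp
  | tmul b b' => simp
  | add t t' ht ht' => simp only [map_add, ht, ht']

/-- transfer of `diffIdeal`. -/
theorem diffIdeal_transfer (θ : B →ₐ[A] R) (c : Λ)
    (hc : ∀ y : R, c • y ∈ Submodule.span Λ (Set.range θ)) {r : A} (hr : r ∈ diffIdeal A B) :
    c * algebraMap A Λ r ∈ diffIdeal Λ R := by
  obtain ⟨t, ht, hμ⟩ := hr
  set t' : R ⊗[Λ] R := tensorTransfer (Λ := Λ) θ t with ht'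
  let S : Submodule Λ R :=
    { carrier := {z | ((1 : R) ⊗ₜ[Λ] z - z ⊗ₜ[Λ] (1 : R)) * t' = 0}
      add_mem' := by
        intro z z' hz hz'
        change _ = _ at hz hz'
        change _ = _
        rw [TensorProduct.tmul_add, TensorProduct.add_tmul, add_sub_add_comm, add_mul, hz, hz',
          add_zero]
      zero_mem' := by simp
      smul_mem' := by
        intro l z hz
        change _ = _ at hz
        change _ = _
        rw [TensorProduct.tmul_smul, ← TensorProduct.smul_tmul', ← smul_sub, smul_mul_assoc, hz,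
          smul_zero] }
  have hS : Submodule.span Λ (Set.range θ) ≤ S := by
    rw [Submodule.span_le]
    rintro _ ⟨b, rfl⟩
    show ((1 : R) ⊗ₜ[Λ] θ b - θ b ⊗ₜ[Λ] (1 : R)) * t' = 0
    have h1 : (1 : R) ⊗ₜ[Λ] θ b - θ b ⊗ₜ[Λ] (1 : R) =
        tensorTransfer (Λ := Λ) θ ((1 : B) ⊗ₜ[A] b - b ⊗ₜ[A] (1 : B)) := by
      simp
    rw [h1, ht', ← map_mul, ht b, map_zero]
  refine ⟨c • t', ?_, ?_⟩
  · intro y
    have h2 : c • y ∈ S := hS (hc y)
    have h3 : ((1 : R) ⊗ₜ[Λ] (c • y) - (c • y) ⊗ₜ[Λ] (1 : R)) * t' = 0 := h2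
    rw [mul_smul_comm, ← smul_mul_assoc, smul_sub, ← TensorProduct.tmul_smul,
      TensorProduct.smul_tmul']
    exact h3
  · rw [map_smul, lmul'_tensorTransfer, hμ, AlgHom.commutes, map_mul, Algebra.smul_def,
      ← IsScalarTower.algebraMap_apply]

end DiffTransfer

section Depth

variable {A : Type u} [CommRing A] [IsLocalRing A] [IsNoetherianRing A]

/-- prime avoidance: a finite module without `m`-torsion has a regular element in `m`. -/
theorem exists_regular_of_no_torsion (N : Type u) [AddCommGroup N] [Module A N]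
    [Module.Finite A N]
    (h : ∀ y : N, (∀ s ∈ IsLocalRing.maximalIdeal A, s • y = 0) → y = 0) :
    ∃ a ∈ IsLocalRing.maximalIdeal A, IsSMulRegular N a := by
  by_contra hcon
  push Not at hcon
  obtain ⟨φ, hφ⟩ := Groth.Agent.Helper13AB.exists_injective_of_forall_not_regular
    (IsLocalRing.maximalIdeal A) N hcon
  have h1 : φ 1 = 0 := by
    apply h
    intro s hs
    rw [← map_smul]
    have : s • (1 : A ⧸ IsLocalRing.maximalIdeal A) = 0 := by
      rw [Algebra.smul_def, mul_one]
      exact Ideal.Quotient.eq_zero_iff_mem.mpr hs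
    rw [this, map_zero]
  have h2 : (1 : A ⧸ IsLocalRing.maximalIdeal A) = 0 := hφ (by rw [h1, map_zero])
  exact one_ne_zero h2

omit [IsLocalRing A] [IsNoetherianRing A] in
theorem regMod_of_isSMulRegular_quot {N : Type u} [AddCommGroup N] [Module A N] {a b : A}
    (h : IsSMulRegular (N ⧸ (a • (⊤ : Submodule A N))) b) : RegMod a b N := by
  intro y z hyz
  have h1 : b • (Submodule.Quotient.mk y : N ⧸ (a • (⊤ : Submodule A N))) = b • 0 := by
    rw [smul_zero, ← Submodule.Quotient.mk_smul, Submodule.Quotient.mk_eq_zero, hyz]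
    exact Submodule.smul_mem_pointwise_smul z a ⊤ Submodule.mem_top
  have h2 := h h1
  rw [Submodule.Quotient.mk_eq_zero, Submodule.mem_smul_pointwise_iff_exists] at h2
  obtain ⟨w, _, hw⟩ := h2
  exact ⟨w, hw.symm⟩

theorem exists_regMod_of_no_torsion (R : Type u) [AddCommGroup R] [Module A R]
    [Module.Finite A R] (a : A)
    (htors : ∀ r : R, (∀ s ∈ IsLocalRing.maximalIdeal A, ∃ u : R, s • r = a • u) →
      ∃ w : R, r = a • w) :
    ∃ b ∈ IsLocalRing.maximalIdeal A, RegMod a b R := by
  obtain ⟨b, hbm, hb⟩ := exists_regular_of_no_torsion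
    (R ⧸ (a • (⊤ : Submodule A R))) (by
    intro y hy
    obtain ⟨r, rfl⟩ := Submodule.Quotient.mk_surjective _ y
    rw [Submodule.Quotient.mk_eq_zero, Submodule.mem_smul_pointwise_iff_exists]
    obtain ⟨w, hw⟩ := htors r (by
      intro s hs
      have := hy s hs
      rw [← Submodule.Quotient.mk_smul, Submodule.Quotient.mk_eq_zero,
        Submodule.mem_smul_pointwise_iff_exists] at this
      obtain ⟨u, _, hu⟩ := this
      exact ⟨u, hu.symm⟩)
    exact ⟨w, Submodule.mem_top, hw.symm⟩)
  exact ⟨b, hbm, regMod_of_isSMulRegular_quot hb⟩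

variable {ι : Type} [Finite ι] (x : ι → A)

/-- (SC2): the module of sections of a torsion-free finite module has depth `≥ 2`. -/
theorem exists_regular_pair_sec (hx : Ideal.span (Set.range x) = IsLocalRing.maximalIdeal A)
    (N : Type u) [AddCommGroup N] [Module A N] [Module.Finite A N]
    [Module.Finite A (Sec x N)] (hinj : Function.Injective (toSec x N)) :
    ∃ a ∈ IsLocalRing.maximalIdeal A, ∃ b ∈ IsLocalRing.maximalIdeal A,
      IsSMulRegular (Sec x N) a ∧ RegMod a b (Sec x N) := by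
  have hxm : ∀ i, x i ∈ IsLocalRing.maximalIdeal A := fun i => by
    rw [← hx]
    exact Ideal.subset_span ⟨i, rfl⟩
  obtain ⟨a, ham, ha⟩ := exists_regular_of_no_torsion N (by
    intro y hy
    apply hinj
    rw [map_zero]
    ext i
    exact (one_tmul_eq_zero_iff (x i) N y).mpr ⟨1, by rw [pow_one]; exact hy _ (hxm i)⟩)
  have haS : IsSMulRegular (Sec x N) a := isSMulRegular_sec x N ha
  obtain ⟨b, hbm, hb⟩ := exists_regMod_of_no_torsion (R := Sec x N) a (by
    intro r hr
    apply exists_eq_smul_of_forall_pow_smul x N ha r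
    intro i
    obtain ⟨u, hu⟩ := hr _ (hxm i)
    exact ⟨1, u, by rw [pow_one]; exact hu⟩)
  exact ⟨a, ham, b, hbm, haS, hb⟩

end Depth

section RegSeq

variable {A : Type u} [CommRing A] (M : Type u) [AddCommGroup M] [Module A M]

/-- `b` is a nonzerodivisor on `M / (a, f) M`, stated elementwise. -/
def RegMod2 (f a b : A) (M : Type u) [AddCommGroup M] [Module A M] : Prop :=
  ∀ y u v : M, b • y = a • u + f • v → ∃ p q : M, y = a • p + f • q

variable {M}

theorem RegMod2.pow {f a b : A} (hf : IsSMulRegular M f) (hfa : RegMod f a M)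
    (h : RegMod2 f a b M) (k : ℕ) : RegMod2 (f ^ (k + 1)) a b M := by
  induction k with
  | zero => simpa using h
  | succ k ih =>
    intro y z w hy
    -- `b y = a z + f^(k+2) w`
    obtain ⟨u, v, huv⟩ := ih y z (f • w) (by rw [hy, pow_succ (f) (k + 1), mul_smul])
    -- `y = a u + f^(k+1) v`
    have h1 : a • (z - b • u) = f ^ (k + 1) • (b • v - f • w) := by
      have : b • y = a • (b • u) + f ^ (k + 1) • (b • v) := by
        rw [huv, smul_add, smul_comm b a, smul_comm b (f ^ (k + 1))]
      rw [hy, pow_succ f (k + 1), mul_smul] at this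
      rw [smul_sub, smul_sub]
      have h2 : a • z - a • b • u = f ^ (k + 1) • b • v - f ^ (k + 1) • f • w := by
        rw [sub_eq_sub_iff_add_eq_add]
        rw [this]
        abel
      exact h2
    obtain ⟨t, ht⟩ := (hfa.pow_left hf (k + 1)) (z - b • u) (b • v - f • w) h1
    have h3 : b • v - f • w = a • t := by
      apply hf.pow (k + 1)
      show f ^ (k + 1) • (b • v - f • w) = f ^ (k + 1) • a • t
      rw [← h1, ht, smul_comm]
    obtain ⟨p, q, hpq⟩ := h v t w (by rw [← h3]; abel)
    refine ⟨u + f ^ (k + 1) • p, q, ?_⟩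
    rw [huv, hpq, smul_add, smul_add, pow_succ f (k + 1), mul_smul, smul_comm (f ^ (k + 1)) a]
    abel

end RegSeq

end Groth.Agent.Lib.T2H3.Purity
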