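import Groth.Agent.Lib.T2H3PurityF

/-!
# Support lemmas for the inductive step of purity
-/

set_option autoImplicit false
set_option linter.unusedSectionVars false
universe u

open TensorProduct
open scoped Pointwise

namespace Groth.Agent.Lib.T2H3.Purity

section AkTensor

variable {A : Type u} [CommRing A] (f : A) (k : ℕ) (M : Type u) [AddCommGroup M] [Module A M]

theorem exists_one_tmul (z : Ak f k ⊗[A] M) : ∃ m : M, z = (1 : Ak f k) ⊗ₜ[A] m := by
  induction z using TensorProduct.induction_on with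
  | zero => exact ⟨0, by simp⟩
  | tmul q m =>
    obtain ⟨a, rfl⟩ := Ideal.Quotient.mk_surjective q
    refine ⟨a • m, ?_⟩
    rw [TensorProduct.tmul_smul, TensorProduct.smul_tmul', Algebra.smul_def, mul_one]
    rfl
  | add z z' hz hz' =>
    obtain ⟨m, rfl⟩ := hz
    obtain ⟨m', rfl⟩ := hz'
    exact ⟨m + m', by rw [TensorProduct.tmul_add]⟩

theorem one_tmul_eq_zero_iff' (m : M) :
    (1 : Ak f k) ⊗ₜ[A] m = 0 ↔ ∃ w : M, m = f ^ k • w := by
  have h1 : TensorProduct.quotTensorEquivQuotSMul M (Ideal.span {f ^ k})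
      ((1 : Ak f k) ⊗ₜ[A] m) = Submodule.Quotient.mk m := by
    have := TensorProduct.quotTensorEquivQuotSMul_mk_tmul (M := M) (Ideal.span {f ^ k}) 1 m
    rw [one_smul] at this
    exact this
  rw [← (TensorProduct.quotTensorEquivQuotSMul M (Ideal.span {f ^ k})).map_eq_zero_iff, h1,
    Submodule.Quotient.mk_eq_zero, Submodule.ideal_span_singleton_smul,
    Submodule.mem_smul_pointwise_iff_exists]
  constructor
  · rintro ⟨w, _, hw⟩
    exact ⟨w, hw.symm⟩
  · rintro ⟨w, hw⟩
    exact ⟨w, Submodule.mem_top, hw.symm⟩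

end AkTensor

section SecMore

variable {A : Type u} [CommRing A] {ι : Type} (x : ι → A)
  (M : Type u) [AddCommGroup M] [Module A M]

theorem subsingleton_sec [Subsingleton M] : Subsingleton (Sec x M) := by
  constructor
  intro σ τ
  ext i
  have : Subsingleton (Loc x i ⊗[A] M) := by
    constructor
    intro z z'
    have h0 : ∀ w : Loc x i ⊗[A] M, w = 0 := by
      intro w
      induction w using TensorProduct.induction_on with
      | zero => rfl
      | tmul a m => rw [Subsingleton.elim m 0, tmul_zero]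
      | add w w' hw hw' => rw [hw, hw', add_zero]
    rw [h0 z, h0 z']
  exact Subsingleton.elim _ _

variable [Finite ι]

/-- (R'') for a module all of whose sections are global. -/
theorem exists_eq_smul_of_forall_pow_smul' (hbij : Function.Bijective (toSec x M)) {c : A}
    (hreg : IsSMulRegular M c) (y : M)
    (h : ∀ i, ∃ (l : ℕ) (u : M), x i ^ l • y = c • u) : ∃ w : M, y = c • w := by
  obtain ⟨w, hw⟩ := exists_eq_smul_of_forall_pow_smul x M hreg (toSec x M y) (by
    intro i
    obtain ⟨l, u, hu⟩ := h i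
    exact ⟨l, toSec x M u, by rw [← map_smul, hu, map_smul]⟩)
  obtain ⟨w', rfl⟩ := hbij.2 w
  exact ⟨w', hbij.1 (by rw [hw, map_smul])⟩

/-- (T''): a uniform exponent when the module of sections is finite. -/
theorem exists_pow_forall_smul_eq_toSec [Module.Finite A (Sec x M)] {s : A}
    (hs : s ∈ (Ideal.span (Set.range x)).radical) :
    ∃ l : ℕ, ∀ σ : Sec x M, ∃ m : M, toSec x M m = s ^ l • σ := by
  obtain ⟨S, hS⟩ := (Module.Finite.fg_top : (⊤ : Submodule A (Sec x M)).FG)
  have h1 : ∀ σ : Sec x M, ∃ (l : ℕ) (m : M), s ^ l • σ = toSec x M m :=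
    fun σ => exists_pow_smul_eq_toSec' x M σ hs
  choose l m hl using h1
  refine ⟨S.sup l, fun σ => ?_⟩
  have hσ : σ ∈ Submodule.span A (S : Set (Sec x M)) := by rw [hS]; trivial
  induction hσ using Submodule.span_induction with
  | mem τ hτ =>
    have hle : l τ ≤ S.sup l := Finset.le_sup hτ
    obtain ⟨d, hd⟩ := Nat.exists_eq_add_of_le hle
    exact ⟨s ^ d • m τ, by rw [map_smul, ← hl, hd, pow_add, mul_smul, smul_comm]⟩
  | zero => exact ⟨0, by simp⟩
  | add τ τ' _ _ hτ hτ' =>
    obtain ⟨n, hn⟩ := hτ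
    obtain ⟨n', hn'⟩ := hτ'
    exact ⟨n + n', by rw [map_add, hn, hn', smul_add]⟩
  | smul c τ _ hτ =>
    obtain ⟨n, hn⟩ := hτ
    exact ⟨c • n, by rw [map_smul, hn, smul_comm]⟩

end SecMore

section SecAlgMore

variable {A : Type u} [CommRing A] {ι : Type} (x : ι → A)
  (B : Type u) [CommRing B] [Algebra A B]

/-- the canonical algebra map `B → SecAlg x B`. -/
noncomputable def toSecAlg : B →ₐ[A] SecAlg x B :=
  AlgHom.codRestrict
    (AlgHom.pi (fun i => (Algebra.TensorProduct.includeRight : B →ₐ[A] Loc x i ⊗[A] B)))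
    (SecAlg x B) (by
      intro b
      rw [mem_SecAlg_iff_mem_Sec]
      exact (toSec x B b).2)

@[simp] theorem toSecAlg_apply (b : B) (i : ι) : (toSecAlg x B b).1 i = (1 : Loc x i) ⊗ₜ[A] b :=
  rfl

theorem SecAlg.map_id : SecAlg.map x (AlgHom.id A B) = AlgHom.id A (SecAlg x B) := by
  ext σ i
  simp only [SecAlg.map_apply, AlgHom.id_apply]
  rw [Algebra.TensorProduct.map_id]
  rfl

/-- the linear identification of `SecAlg` with `Sec`. -/
noncomputable def secAlgEquivSec : SecAlg x B ≃ₗ[A] Sec x B where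
  toFun σ := ⟨σ.1, (mem_SecAlg_iff_mem_Sec x B σ.1).mp σ.2⟩
  invFun σ := ⟨σ.1, (mem_SecAlg_iff_mem_Sec x B σ.1).mpr σ.2⟩
  map_add' _ _ := rfl
  map_smul' _ _ := rfl
  left_inv _ := rfl
  right_inv _ := rfl

@[simp] theorem secAlgEquivSec_apply (σ : SecAlg x B) (i : ι) :
    (secAlgEquivSec x B σ).1 i = σ.1 i := rfl

theorem secAlgEquivSec_toSecAlg (b : B) : secAlgEquivSec x B (toSecAlg x B b) = toSec x B b := rfl

end SecAlgMore

end Groth.Agent.Lib.T2H3.Purity
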