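import Groth.Agent.Lib.T2H3PurityG
import Groth.Agent.Lib.Helper5RLR
import Groth.Agent.Lib.Helper14FiltAdic
import Groth.Agent.Lib.Helper19Restricted2

/-!
# Facts on regular local rings and completeness needed for purity
-/

set_option autoImplicit false
set_option linter.unusedSectionVars false
universe u

open TensorProduct IsLocalRing
open scoped Pointwise

namespace Groth.Agent.Lib.T2H3.Purity

section RegLocal

variable (A : Type u) [CommRing A] [IsRegularLocalRing A]

theorem regMod2_of_isSMulRegular_quot {f a b : A}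
    (h : IsSMulRegular (QuotSMulTop a (QuotSMulTop f A)) b) : RegMod2 f a b A := by
  intro y u v hy
  have h1 : b • (Submodule.Quotient.mk (Submodule.Quotient.mk y : QuotSMulTop f A) :
      QuotSMulTop a (QuotSMulTop f A)) = b • 0 := by
    rw [smul_zero, ← Submodule.Quotient.mk_smul, ← Submodule.Quotient.mk_smul, hy,
      Submodule.Quotient.mk_eq_zero, Submodule.mem_smul_pointwise_iff_exists]
    refine ⟨Submodule.Quotient.mk u, Submodule.mem_top, ?_⟩
    rw [← Submodule.Quotient.mk_smul, eq_comm, ← sub_eq_zero, ← Submodule.Quotient.mk_sub,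
      Submodule.Quotient.mk_eq_zero, Submodule.mem_smul_pointwise_iff_exists]
    exact ⟨v, Submodule.mem_top, by simp⟩
  have h2 := h h1
  rw [Submodule.Quotient.mk_eq_zero, Submodule.mem_smul_pointwise_iff_exists] at h2
  obtain ⟨p', _, hp'⟩ := h2
  obtain ⟨p, rfl⟩ := Submodule.Quotient.mk_surjective _ p'
  rw [← Submodule.Quotient.mk_smul, ← sub_eq_zero, ← Submodule.Quotient.mk_sub,
    Submodule.Quotient.mk_eq_zero, Submodule.mem_smul_pointwise_iff_exists] at hp'
  obtain ⟨q, _, hq⟩ := hp'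
  refine ⟨p, -q, ?_⟩
  rw [smul_neg, hq]
  abel

/-- a regular system of parameters starts with a regular sequence `f, a, b`. -/
theorem exists_regular_param_triple (h3 : (3 : WithBot ℕ∞) ≤ ringKrullDim A) :
    ∃ f a b : A, f ∈ maximalIdeal A ∧ f ∉ maximalIdeal A ^ 2 ∧ a ∈ maximalIdeal A ∧
      b ∈ maximalIdeal A ∧ IsSMulRegular A f ∧ RegMod f a A ∧ RegMod2 f a b A := by
  classical
  obtain ⟨d, hd⟩ := Groth.Agent.Lib.Helper5.exists_nat_ringKrullDim_eq A
  have hreg : ((maximalIdeal A).spanFinrank : WithBot ℕ∞) = ringKrullDim A :=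
    IsRegularLocalRing.spanFinrank_maximalIdeal
  have hd' : (maximalIdeal A).spanFinrank = d := by
    rw [hd] at hreg
    exact_mod_cast hreg
  have h3d : 3 ≤ d := by
    rw [hd] at h3
    exact_mod_cast h3
  obtain ⟨s, hs, hspan⟩ := Submodule.FG.exists_span_finset_card_eq_spanFinrank
    (maximalIdeal A).fg_of_isNoetherianRing
  rw [hd'] at hs
  obtain ⟨d', rfl⟩ := Nat.exists_eq_add_of_le' h3d
  let e : s ≃ Fin (d' + 3) := s.equivFinOfCardEq hs
  let x : Fin (d' + 3) → A := fun i => ((e.symm i : s) : A)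
  have hrange : Set.range x = (s : Set A) := by
    ext y
    constructor
    · rintro ⟨i, rfl⟩
      exact (e.symm i).2
    · intro hy
      exact ⟨e ⟨y, hy⟩, by simp [x]⟩
  have hx : Ideal.span (Set.range x) = maximalIdeal A := by
    rw [hrange]
    exact hspan
  have hxm : ∀ i, x i ∈ maximalIdeal A := fun i => hx ▸ Ideal.subset_span ⟨i, rfl⟩
  have hseq := Groth.Agent.Lib.Helper5.isRegular_ofFn_of_span_eq_maximalIdeal hd x hx
  have hli := Groth.Agent.Lib.Helper5.linearIndependent_toCotangent_of_span_eq hd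
    (fun i => (⟨x i, hxm i⟩ : maximalIdeal A)) hx
  have hw := hseq.toIsWeaklyRegular
  rw [List.ofFn_succ, List.ofFn_succ, List.ofFn_succ,
    RingTheory.Sequence.isWeaklyRegular_cons_iff, RingTheory.Sequence.isWeaklyRegular_cons_iff,
    RingTheory.Sequence.isWeaklyRegular_cons_iff] at hw
  obtain ⟨hf, ha, hb, -⟩ := hw
  refine ⟨x 0, x (Fin.succ 0), x (Fin.succ (Fin.succ 0)), hxm _, ?_, hxm _, hxm _, hf,
    regMod_of_isSMulRegular_quot ha, regMod2_of_isSMulRegular_quot A hb⟩
  have hne := hli.ne_zero (0 : Fin (d' + 3))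
  intro hcon
  exact hne ((Ideal.toCotangent_eq_zero _ _).mpr hcon)

end RegLocal

section Complete

variable {A : Type u} [CommRing A]

theorem isAdicComplete_elementary (I : Ideal A) [IsAdicComplete I A] :
    (∀ y : A, (∀ n : ℕ, y ∈ I ^ n) → y = 0) ∧
    (∀ z : ℕ → A, (∀ n, z (n + 1) - z n ∈ I ^ n) → ∃ y, ∀ n, y - z n ∈ I ^ n) := by
  have hmem : ∀ (n : ℕ) (y : A), y ∈ (I ^ n • ⊤ : Submodule A A) ↔ y ∈ I ^ n := by
    intro n y
    rw [smul_eq_mul, Ideal.mul_top]
  constructor
  · intro y hy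
    apply IsHausdorff.haus' (I := I) y
    intro n
    rw [SModEq.sub_mem, sub_zero, hmem]
    exact hy n
  · intro z hz
    have hz' : ∀ {m n : ℕ}, m ≤ n → z m ≡ z n [SMOD (I ^ m • ⊤ : Submodule A A)] := by
      intro m n hmn
      rw [SModEq.sub_mem, hmem]
      induction n, hmn using Nat.le_induction with
      | base => simp
      | succ n hmn ih =>
        have h1 : z m - z (n + 1) = (z m - z n) - (z (n + 1) - z n) := by ring
        rw [h1]
        exact (I ^ m).sub_mem ih (Ideal.pow_le_pow_right hmn (hz n))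
    obtain ⟨L, hL⟩ := IsPrecomplete.prec' (I := I) z hz'
    refine ⟨L, fun n => ?_⟩
    have := hL n
    rw [SModEq.sub_mem, hmem] at this
    have h2 : L - z n = -(z n - L) := by ring
    rw [h2]
    exact (I ^ n).neg_mem this

variable [IsLocalRing A] [IsNoetherianRing A] [IsAdicComplete (maximalIdeal A) A]

theorem isAdicComplete_span_of_mem {f : A} (hf : f ∈ maximalIdeal A) :
    IsAdicComplete (Ideal.span {f}) A := by
  obtain ⟨h1, h2⟩ := isAdicComplete_elementary (maximalIdeal A)
  exact Groth.Agent.Lib.Helper14.FiltAdic.isAdicComplete_span_singleton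
    (fun n => maximalIdeal A ^ n) f h1 h2 (fun n => ⟨n, Ideal.pow_mem_pow hf n⟩)

theorem adic_elementary_of_mem {f : A} (hf : f ∈ maximalIdeal A) :
    (∀ y : A, (∀ k : ℕ, ∃ c, y = f ^ k * c) → y = 0) ∧
    (∀ z : ℕ → A, (∀ k, ∃ c, z (k + 1) - z k = f ^ k * c) →
      ∃ y, ∀ k, ∃ c, y - z k = f ^ k * c) := by
  haveI := isAdicComplete_span_of_mem hf
  obtain ⟨h1, h2⟩ := isAdicComplete_elementary (Ideal.span {f})
  have hmem : ∀ (k : ℕ) (y : A), y ∈ Ideal.span {f} ^ k ↔ ∃ c, y = f ^ k * c := by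
    intro k y
    rw [Ideal.span_singleton_pow, Ideal.mem_span_singleton']
    constructor
    · rintro ⟨c, rfl⟩
      exact ⟨c, mul_comm _ _⟩
    · rintro ⟨c, rfl⟩
      exact ⟨c, mul_comm _ _⟩
  constructor
  · intro y hy
    exact h1 y (fun k => (hmem k y).mpr (hy k))
  · intro z hz
    obtain ⟨y, hy⟩ := h2 z (fun k => (hmem k _).mpr (hz k))
    exact ⟨y, fun k => (hmem k _).mp (hy k)⟩

end Complete

section Quot

variable {A : Type u} [CommRing A] [IsRegularLocalRing A]

theorem quotient_facts {f : A} (hf : f ∈ maximalIdeal A) (hf2 : f ∉ maximalIdeal A ^ 2)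
    (I : Ideal A) (hI : I = Ideal.span {f}) :
    ∃ (_ : IsRegularLocalRing (A ⧸ I)), ringKrullDim (A ⧸ I) + 1 = ringKrullDim A := by
  subst hI
  have hne : Ideal.span ({f} : Set A) ≠ ⊤ := by
    intro h
    have : Ideal.span ({f} : Set A) ≤ maximalIdeal A := by
      rw [Ideal.span_le, Set.singleton_subset_iff]
      exact hf
    rw [h] at this
    exact (maximalIdeal.isMaximal A).ne_top (top_le_iff.mp this)
  haveI : IsLocalRing (A ⧸ Ideal.span ({f} : Set A)) :=
    Groth.Agent.Lib.Helper5.isLocalRing_quotient hne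
  obtain ⟨h1, h2⟩ := Groth.Agent.Lib.Helper5.isRegularLocalRing_quotient_span_singleton hf hf2
  exact ⟨h1, h2⟩

theorem isAdicComplete_quotient [IsAdicComplete (maximalIdeal A) A] (I : Ideal A)
    [IsLocalRing (A ⧸ I)] : IsAdicComplete (maximalIdeal (A ⧸ I)) (A ⧸ I) := by
  rw [Groth.Agent.Lib.Helper5.maximalIdeal_quotient_eq_map]
  exact Groth.Agent.Lib.Helper19.isAdicComplete_quotient_of_isNoetherianRing A (maximalIdeal A) I

end Quot

end Groth.Agent.Lib.T2H3.Purity
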