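import Groth.Agent.Lib.T2H3PurityH

/-!
# The hypothesis package `PurityData` and its transfer to rings of sections
-/

set_option autoImplicit false
set_option linter.unusedSectionVars false
universe u

open TensorProduct IsLocalRing
open scoped Pointwise

namespace Groth.Agent.Lib.T2H3.Purity

/-- The hypotheses of the algebraic purity theorem: `R` is a finite `Λ`-algebra of depth `≥ 2`
which is unramified and projective over the punctured spectrum of `Λ` (both expressed through
ideals of definition). -/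
structure PurityData (Λ : Type u) [CommRing Λ] [IsLocalRing Λ] (R : Type u) [CommRing R]
    [Algebra Λ R] : Prop where
  finite : Module.Finite Λ R
  depth : ∃ a ∈ maximalIdeal Λ, ∃ b ∈ maximalIdeal Λ, IsSMulRegular R a ∧ RegMod a b R
  diff : maximalIdeal Λ ≤ (diffIdeal Λ R).radical
  proj : maximalIdeal Λ ≤ (projIdeal Λ R).radical

section Transfer

variable {A : Type u} [CommRing A] [IsLocalRing A]
  {Λ : Type u} [CommRing Λ] [IsLocalRing Λ] [Algebra A Λ]
  {B : Type u} [CommRing B] [Algebra A B]
  {R : Type u} [CommRing R] [Algebra A R] [Algebra Λ R] [IsScalarTower A Λ R]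

theorem algebraMap_mem_maximalIdeal (hsurj : Function.Surjective (algebraMap A Λ)) {a : A}
    (ha : a ∈ maximalIdeal A) : algebraMap A Λ a ∈ maximalIdeal Λ := by
  haveI : IsLocalHom (algebraMap A Λ) := IsLocalHom.of_surjective _ hsurj
  rw [mem_maximalIdeal, mem_nonunits_iff] at ha ⊢
  intro h
  exact ha (isUnit_of_map_unit (algebraMap A Λ) a h)

theorem exists_mem_maximalIdeal_of_surjective (hsurj : Function.Surjective (algebraMap A Λ))
    {s' : Λ} (hs' : s' ∈ maximalIdeal Λ) : ∃ s ∈ maximalIdeal A, algebraMap A Λ s = s' := by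
  obtain ⟨s, rfl⟩ := hsurj s'
  refine ⟨s, ?_, rfl⟩
  rw [mem_maximalIdeal, mem_nonunits_iff] at hs' ⊢
  intro h
  exact hs' (h.map (algebraMap A Λ))

/-- (L3): transfer of the purity hypotheses from `B` to an overring `R` of `Λ ⊗ B`. -/
theorem PurityData.transfer (hsurj : Function.Surjective (algebraMap A Λ))
    (θ : (Λ ⊗[A] B) →ₐ[A] R) (hθ : Function.Injective θ) (hfin : Module.Finite A R)
    (htor : ∀ s ∈ maximalIdeal A, ∃ l : ℕ, ∀ y : R, ∃ n : Λ ⊗[A] B, θ n = s ^ l • y)
    (hdepth : ∃ a ∈ maximalIdeal A, ∃ b ∈ maximalIdeal A, IsSMulRegular R a ∧ RegMod a b R)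
    (hd : maximalIdeal A ≤ (diffIdeal A B).radical)
    (hp : maximalIdeal A ≤ (projIdeal A B).radical) : PurityData Λ R := by
  have hsm : ∀ (a : A) (r : R), algebraMap A Λ a • r = a • r := fun a r => algebraMap_smul Λ a r
  refine ⟨Module.Finite.of_restrictScalars_finite A Λ R, ?_, ?_, ?_⟩
  · obtain ⟨a, ha, b, hb, hreg, hab⟩ := hdepth
    refine ⟨algebraMap A Λ a, algebraMap_mem_maximalIdeal hsurj ha, algebraMap A Λ b,
      algebraMap_mem_maximalIdeal hsurj hb, ?_, ?_⟩
    · intro r r' hrr
      apply hreg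
      simpa only [hsm] using hrr
    · intro y z hyz
      rw [hsm, hsm] at hyz
      obtain ⟨w, hw⟩ := hab y z hyz
      exact ⟨w, by rw [hsm]; exact hw⟩
  · intro s' hs'
    obtain ⟨s, hs, rfl⟩ := exists_mem_maximalIdeal_of_surjective hsurj hs'
    obtain ⟨K, hK⟩ := hd hs
    obtain ⟨l, hl⟩ := htor s hs
    let θB : B →ₐ[A] R := θ.comp Algebra.TensorProduct.includeRight
    have hspan : ∀ n : Λ ⊗[A] B, θ n ∈ Submodule.span Λ (Set.range θB) := by
      intro n
      induction n using TensorProduct.induction_on with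
      | zero => simp
      | tmul q b =>
        obtain ⟨a, rfl⟩ := hsurj q
        have : θ (algebraMap A Λ a ⊗ₜ[A] b) = algebraMap A Λ a • θB b := by
          have h0 : algebraMap A Λ a ⊗ₜ[A] b = a • ((1 : Λ) ⊗ₜ[A] b) := by
            rw [Algebra.algebraMap_eq_smul_one, TensorProduct.smul_tmul']
          rw [hsm, h0, map_smul]
          rfl
        rw [this]
        exact Submodule.smul_mem _ _ (Submodule.subset_span ⟨b, rfl⟩)
      | add n n' hn hn' =>
        rw [map_add]
        exact Submodule.add_mem _ hn hn'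
    have := diffIdeal_transfer (Λ := Λ) θB (algebraMap A Λ (s ^ l)) (by
      intro y
      obtain ⟨n, hn⟩ := hl y
      rw [hsm, ← hn]
      exact hspan n) hK
    refine ⟨l + K, ?_⟩
    rw [pow_add, ← map_pow, ← map_pow]
    exact this
  · intro s' hs'
    obtain ⟨s, hs, rfl⟩ := exists_mem_maximalIdeal_of_surjective hsurj hs'
    obtain ⟨K, hK⟩ := hp hs
    obtain ⟨l, hl⟩ := htor s hs
    have h1 := projIdeal_baseChange Λ hK
    have := projIdeal_of_injective (A := Λ)
      (θ.toLinearMap.extendScalarsOfSurjective hsurj) hθ (algebraMap A Λ (s ^ l)) (by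
      intro y
      obtain ⟨n, hn⟩ := hl y
      exact ⟨n, by rw [hsm]; exact hn⟩) h1
    refine ⟨l + K, ?_⟩
    rw [pow_add, ← map_pow, ← map_pow]
    exact this

end Transfer

end Groth.Agent.Lib.T2H3.Purity
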