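import Groth.Agent.Lib.T2H3PurityI

/-!
# Lifting a formally étale algebra through the tower and algebraizing
-/

set_option autoImplicit false
set_option linter.unusedSectionVars false
universe u

open TensorProduct IsLocalRing
open scoped Pointwise

namespace Groth.Agent.Lib.T2H3.Purity

section TowerAlg

variable {A : Type u} [CommRing A] (f : A) (B : Type u) [CommRing B] [Algebra A B]

/-- transition maps of the tower `A/f^k ⊗ B`. -/
noncomputable def transAlg {k l : ℕ} (h : k ≤ l) : Ak f l ⊗[A] B →ₐ[A] Ak f k ⊗[A] B :=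
  Algebra.TensorProduct.map (trans f h) (AlgHom.id A B)

theorem transAlg_apply {k l : ℕ} (h : k ≤ l) (z : Ak f l ⊗[A] B) :
    transAlg f B h z = (trans f h).toLinearMap.rTensor B z := by
  induction z using TensorProduct.induction_on with
  | zero => simp
  | tmul a b => simp [transAlg]
  | add a b ha hb => simp only [map_add, ha, hb]

theorem transAlg_surjective {k l : ℕ} (h : k ≤ l) : Function.Surjective (transAlg f B h) :=
  Algebra.TensorProduct.map_surjective _ _ (trans_surjective f h) Function.surjective_id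

theorem ker_trans {k l : ℕ} (h : k ≤ l) :
    RingHom.ker (trans f h) = Ideal.span {Ideal.Quotient.mk (Ideal.span {f ^ l}) (f ^ k)} := by
  apply le_antisymm
  · intro q hq
    obtain ⟨a, rfl⟩ := Ideal.Quotient.mk_surjective q
    rw [RingHom.mem_ker, trans_mk, Ideal.Quotient.eq_zero_iff_mem, Ideal.mem_span_singleton'] at hq
    obtain ⟨c, rfl⟩ := hq
    rw [map_mul]
    exact Ideal.mul_mem_left _ _ (Ideal.subset_span rfl)
  · rw [Ideal.span_le, Set.singleton_subset_iff]
    show trans f h (Ideal.Quotient.mk _ (f ^ k)) = 0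
    rw [trans_mk, Ideal.Quotient.eq_zero_iff_mem]
    exact Ideal.subset_span rfl

theorem isNilpotent_ker_transAlg {l : ℕ} (h : 1 ≤ l) :
    IsNilpotent (RingHom.ker (transAlg f B h)) := by
  refine ⟨l, ?_⟩
  have h1 : RingHom.ker (transAlg f B h) =
      (RingHom.ker (trans f h)).map
        (Algebra.TensorProduct.includeLeft : Ak f l →ₐ[A] Ak f l ⊗[A] B) :=
    Algebra.TensorProduct.rTensor_ker (trans f h) (trans_surjective f h)
  rw [h1, ← Ideal.map_pow, ker_trans, Ideal.span_singleton_pow, ← map_pow, ← pow_mul, one_mul]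
  have : Ideal.Quotient.mk (Ideal.span {f ^ l}) (f ^ l) = 0 :=
    Ideal.Quotient.eq_zero_iff_mem.mpr (Ideal.subset_span rfl)
  rw [this, Ideal.span_singleton_zero]
  exact Ideal.map_bot

theorem transAlg_comp {k l p : ℕ} (h : k ≤ l) (h' : l ≤ p) :
    (transAlg f B h).comp (transAlg f B h') = transAlg f B (h.trans h') := by
  apply Algebra.TensorProduct.ext
  · ext q
    obtain ⟨a, rfl⟩ := Ideal.Quotient.mk_surjective q
    simp [transAlg]
  · ext b
    simp [transAlg]

theorem transAlg_refl (k : ℕ) : transAlg f B (le_refl k) = AlgHom.id A (Ak f k ⊗[A] B) := by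
  apply Algebra.TensorProduct.ext
  · ext q
    obtain ⟨a, rfl⟩ := Ideal.Quotient.mk_surjective q
    simp [transAlg]
  · ext b
    simp [transAlg]

theorem subsingleton_Ak_zero_tensor : Subsingleton (Ak f 0 ⊗[A] B) := by
  have h0 : Subsingleton (Ak f 0) := by
    rw [Ideal.Quotient.subsingleton_iff, pow_zero, Ideal.span_singleton_one]
  constructor
  intro z z'
  have hz : ∀ w : Ak f 0 ⊗[A] B, w = 0 := by
    intro w
    induction w using TensorProduct.induction_on with
    | zero => rfl
    | tmul q b => rw [Subsingleton.elim q 0, zero_tmul]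
    | add w w' hw hw' => rw [hw, hw', add_zero]
  rw [hz z, hz z']

end TowerAlg

section Lifting

variable {A : Type u} [CommRing A] (f : A) {ι : Type} [Finite ι] (x : ι → A)
  (B : Type u) [CommRing B] [Algebra A B]
  (C : Type u) [CommRing C] [Algebra A C] [Algebra.FormallyEtale A C]

omit [Finite ι] in
theorem sec_map_transAlg {k l : ℕ} (h : k ≤ l) (σ : SecAlg x (Ak f l ⊗[A] B)) :
    Sec.map x ((trans f h).toLinearMap.rTensor B) (secAlgEquivSec x _ σ) =
      secAlgEquivSec x _ (SecAlg.map x (transAlg f B h) σ) := by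
  ext i
  simp only [Sec.map_apply, secAlgEquivSec_apply, SecAlg.map_apply]
  generalize σ.1 i = z
  induction z using TensorProduct.induction_on with
  | zero => simp
  | tmul a n => simp [transAlg_apply]
  | add z z' hz hz' => simp only [map_add, hz, hz']

/-- (L1): every section in the image of a formally étale algebra is global. -/
theorem exists_eq_toSecAlg_of_formallyEtale
    (hsep : ∀ y : A, (∀ k : ℕ, ∃ c, y = f ^ k * c) → y = 0)
    (hcompl : ∀ z : ℕ → A, (∀ k, ∃ c, z (k + 1) - z k = f ^ k * c) →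
      ∃ y, ∀ k, ∃ c, y - z k = f ^ k * c)
    (hp : ∀ i, x i ∈ (projIdeal A B).radical)
    (hbij : Function.Bijective (toSec x B)) {a : A}
    (ha : a ∈ (Ideal.span (Set.range x)).radical) (hreg : IsSMulRegular A a)
    (hAk : ∀ k, Function.Bijective (toSec x (Ak f k)))
    (φ : C →ₐ[A] SecAlg x (Ak f 1 ⊗[A] B)) (c : C) :
    ∃ b : B, φ c = toSecAlg x _ ((1 : Ak f 1) ⊗ₜ[A] b) := by
  have h1k : ∀ k : ℕ, 1 ≤ k + 1 := fun k => Nat.succ_le_succ (Nat.zero_le k)
  have hex : ∀ k : ℕ, ∃ ψ : C →ₐ[A] SecAlg x (Ak f (k + 1) ⊗[A] B),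
      (SecAlg.map x (transAlg f B (h1k k))).comp ψ = φ := fun k =>
    SecAlg.exists_lift x C (transAlg f B (h1k k)) (transAlg_surjective f B _)
      (isNilpotent_ker_transAlg f B _) φ
  choose ψ hψ using hex
  have hcompat : ∀ k, (SecAlg.map x (transAlg f B (Nat.le_succ (k + 1)))).comp (ψ (k + 1)) =
      ψ k := by
    intro k
    apply SecAlg.lift_unique x C (transAlg f B (h1k k)) (transAlg_surjective f B _)
      (isNilpotent_ker_transAlg f B _)
    rw [hψ k, ← AlgHom.comp_assoc, ← SecAlg.map_comp, transAlg_comp]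
    exact hψ (k + 1)
  let σ : ∀ k, Sec x (Ak f k ⊗[A] B) := fun k =>
    match k with
    | 0 => 0
    | k + 1 => secAlgEquivSec x _ (ψ k c)
  have hσ : ∀ k, Sec.map x ((trans f (Nat.le_succ k)).toLinearMap.rTensor B) (σ (k + 1)) =
      σ k := by
    intro k
    cases k with
    | zero =>
      haveI := subsingleton_Ak_zero_tensor f B
      haveI := subsingleton_sec x (Ak f 0 ⊗[A] B)
      exact Subsingleton.elim _ _
    | succ k =>
      show Sec.map x _ (secAlgEquivSec x _ (ψ (k + 1) c)) = secAlgEquivSec x _ (ψ k c)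
      rw [sec_map_transAlg, ← hcompat k]
      rfl
  obtain ⟨b, hb⟩ := exists_of_compatible f B x hsep hcompl hp hbij ha hreg hAk σ hσ
  refine ⟨b, ?_⟩
  have h1 : ψ 0 = φ := by
    have := hψ 0
    rw [transAlg_refl, SecAlg.map_id] at this
    exact this
  have h2 := hb 1
  apply (secAlgEquivSec x _).injective
  rw [secAlgEquivSec_toSecAlg, ← h2, ← h1]

end Lifting

end Groth.Agent.Lib.T2H3.Purity
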