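import Groth.Agent.Lib.T2H3PurityJ
import Groth.Agent.S0532

/-!
# The inductive step of the algebraic purity theorem
-/

set_option autoImplicit false
set_option linter.unusedSectionVars false
universe u

open TensorProduct IsLocalRing
open scoped Pointwise

namespace Groth.Agent.Lib.T2H3.Purity

section Prep

variable {A : Type u} [CommRing A]

theorem RegMod2.pow' {M : Type u} [AddCommGroup M] [Module A M] {f a b : A}
    (hf : IsSMulRegular M f) (hfa : RegMod f a M) (h : RegMod2 f a b M) (k : ℕ) :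
    RegMod2 (f ^ k) a b M := by
  cases k with
  | zero =>
    intro y u v _
    exact ⟨0, y, by simp⟩
  | succ k => exact h.pow hf hfa k

theorem isSMulRegular_Ak {f a : A} {k : ℕ} (h : RegMod (f ^ k) a A) :
    IsSMulRegular (Ak f k) a := by
  intro q q' hqq
  obtain ⟨y, rfl⟩ := Ideal.Quotient.mk_surjective q
  obtain ⟨y', rfl⟩ := Ideal.Quotient.mk_surjective q'
  have h1 : Ideal.Quotient.mk (Ideal.span {f ^ k}) (a * y) =
      Ideal.Quotient.mk (Ideal.span {f ^ k}) (a * y') := by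
    simpa [Algebra.smul_def] using hqq
  rw [mk_eq_mk_iff] at h1 ⊢
  obtain ⟨c, hc⟩ := h1
  obtain ⟨w, hw⟩ := h (y - y') c (by rw [smul_eq_mul, smul_eq_mul, mul_sub, hc])
  exact ⟨w, hw⟩

theorem regMod_Ak {f a b : A} {k : ℕ} (h : RegMod2 (f ^ k) a b A) : RegMod a b (Ak f k) := by
  intro q q' hqq
  obtain ⟨y, rfl⟩ := Ideal.Quotient.mk_surjective q
  obtain ⟨z, rfl⟩ := Ideal.Quotient.mk_surjective q'
  have h1 : Ideal.Quotient.mk (Ideal.span {f ^ k}) (b * y) =
      Ideal.Quotient.mk (Ideal.span {f ^ k}) (a * z) := by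
    simpa [Algebra.smul_def] using hqq
  rw [mk_eq_mk_iff] at h1
  obtain ⟨c, hc⟩ := h1
  obtain ⟨p, r, hpr⟩ := h y z c (by
    rw [smul_eq_mul, smul_eq_mul, smul_eq_mul, ← hc]
    ring)
  refine ⟨Ideal.Quotient.mk _ p, ?_⟩
  have h2 : a • Ideal.Quotient.mk (Ideal.span {f ^ k}) p =
      Ideal.Quotient.mk (Ideal.span {f ^ k}) (a * p) := by
    rw [Algebra.smul_def, map_mul]
    rfl
  rw [h2, mk_eq_mk_iff]
  exact ⟨r, by rw [hpr, smul_eq_mul, smul_eq_mul]; ring⟩

variable [IsLocalRing A] [IsNoetherianRing A]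

theorem free_of_free_quot (I : Ideal A) {f : A} (hI : I = Ideal.span {f})
    (hf : f ∈ maximalIdeal A) (B : Type u) [AddCommGroup B] [Module A B] [Module.Finite A B]
    (hreg : IsSMulRegular B f) (R : Type u) [CommRing R] [Algebra A R] [Algebra (A ⧸ I) R]
    [IsScalarTower A (A ⧸ I) R] [Module.Free (A ⧸ I) R] (β : B →ₗ[A] R)
    (hsurj : Function.Surjective β) (hker : ∀ b, β b = 0 ↔ ∃ w, b = f • w) :
    Module.Free A B := by
  subst hI
  have hk : LinearMap.ker β = f • (⊤ : Submodule A B) := by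
    ext b
    rw [LinearMap.mem_ker, hker, Submodule.mem_smul_pointwise_iff_exists]
    constructor
    · rintro ⟨w, rfl⟩
      exact ⟨w, Submodule.mem_top, rfl⟩
    · rintro ⟨w, _, rfl⟩
      exact ⟨w, rfl⟩
  let e : QuotSMulTop f B ≃ₗ[A] R :=
    (Submodule.quotEquivOfEq _ _ hk.symm).trans (β.quotKerEquivOfSurjective hsurj)
  let e' : QuotSMulTop f B ≃ₗ[A ⧸ Ideal.span {f}] R :=
    e.extendScalarsOfSurjective Ideal.Quotient.mk_surjective
  haveI : Module.Free (A ⧸ Ideal.span {f}) (QuotSMulTop f B) := Module.Free.of_equiv e'.symm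
  have hjac : f ∈ (⊥ : Ideal A).jacobson := by
    rw [IsLocalRing.jacobson_eq_maximalIdeal ⊥ bot_ne_top]
    exact hf
  haveI : Module.FinitePresentation A B := Module.finitePresentation_of_finite A B
  exact (Module.free_quotSMulTop_iff_free A B hjac hreg).mp inferInstance

theorem free_of_etale_finite (Λ : Type u) [CommRing Λ] [IsLocalRing Λ] (R : Type u) [CommRing R]
    [Algebra Λ R] [Module.Finite Λ R] [Algebra.Etale Λ R] : Module.Free Λ R :=
  Module.free_of_flat_of_isLocalRing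

end Prep

section Step

variable (A : Type u) [CommRing A] [IsRegularLocalRing A] [IsAdicComplete (maximalIdeal A) A]

/-- The inductive step: purity in dimension `≥ 3` from purity in one dimension less. -/
theorem purity_step (h3 : (3 : WithBot ℕ∞) ≤ ringKrullDim A)
    (IH : ∀ (Λ : Type u) [CommRing Λ] [IsRegularLocalRing Λ]
      [IsAdicComplete (maximalIdeal Λ) Λ], ringKrullDim Λ + 1 = ringKrullDim A →
      ∀ (R : Type u) [CommRing R] [Algebra Λ R], PurityData Λ R → Algebra.Etale Λ R)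
    (B : Type u) [CommRing B] [Algebra A B] (hB : PurityData A B) : Algebra.Etale A B := by
  classical
  haveI := hB.finite
  obtain ⟨n, x, hx⟩ := Submodule.fg_iff_exists_fin_generating_family.mp
    (maximalIdeal A).fg_of_isNoetherianRing
  have hx' : Ideal.span (Set.range x) = maximalIdeal A := hx
  have hrad : ∀ {a : A}, a ∈ maximalIdeal A → a ∈ (Ideal.span (Set.range x)).radical :=
    fun ha => Ideal.le_radical (hx'.symm ▸ ha)
  have hxm : ∀ i, x i ∈ maximalIdeal A := fun i => hx' ▸ Ideal.subset_span ⟨i, rfl⟩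
  obtain ⟨f, a', b', hf, hf2, ha', hb', hfreg, hfa, hfab⟩ := exists_regular_param_triple A h3
  obtain ⟨hsep, hcompl⟩ := adic_elementary_of_mem hf
  obtain ⟨a, ha, b, hb, haB, habB⟩ := hB.depth
  have hbijB : Function.Bijective (toSec x B) :=
    toSec_bijective x B (hrad ha) (hrad hb) haB habB
  have hpB : ∀ i, x i ∈ (projIdeal A B).radical := fun i => hB.proj (hxm i)
  have hAk : ∀ k, Function.Bijective (toSec x (Ak f k)) := fun k =>
    toSec_bijective x (Ak f k) (hrad ha') (hrad hb')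
      (isSMulRegular_Ak (hfa.pow_left hfreg k)) (regMod_Ak (hfab.pow' hfreg hfa k))
  -- `f` is regular on `B`
  have hfB : IsSMulRegular B f := by
    have hev := eval_bijective x hpB hbijB (hrad hf) hfreg
    intro b₁ b₂ hbb
    apply hev.1
    ext g
    apply hfreg
    show f • g b₁ = f • g b₂
    rw [← map_smul, ← map_smul]
    exact congrArg g hbb
  -- the reduction `N₁ = A/f ⊗ B` has no torsion
  have hinjN : Function.Injective (toSec x (Ak f 1 ⊗[A] B)) := by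
    rw [injective_iff_map_eq_zero]
    intro z hz
    obtain ⟨b₀, rfl⟩ := exists_one_tmul f 1 B z
    rw [one_tmul_eq_zero_iff', pow_one]
    apply exists_eq_smul_of_forall_pow_smul' x B hbijB hfB
    intro i
    have h1 : (1 : Loc x i) ⊗ₜ[A] ((1 : Ak f 1) ⊗ₜ[A] b₀) = 0 := by
      have := congrArg (fun σ : Sec x (Ak f 1 ⊗[A] B) => σ.1 i) hz
      simpa using this
    obtain ⟨l, hl⟩ := (one_tmul_eq_zero_iff (x i) _ _).mp h1
    rw [← TensorProduct.tmul_smul, one_tmul_eq_zero_iff', pow_one] at hl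
    obtain ⟨w, hw⟩ := hl
    exact ⟨l, w, hw⟩
  haveI : Module.Finite A (Sec x (Ak f 1)) :=
    Module.Finite.of_surjective (toSec x (Ak f 1)) (hAk 1).2
  haveI hfinSec : Module.Finite A (Sec x (Ak f 1 ⊗[A] B)) :=
    finite_sec_tensor (M := B) (Q := Ak f 1) x hpB
  haveI hfinR : Module.Finite A (SecAlg x (Ak f 1 ⊗[A] B)) :=
    Module.Finite.equiv (secAlgEquivSec x (Ak f 1 ⊗[A] B)).symm
  have hinjAlg : Function.Injective (toSecAlg x (Ak f 1 ⊗[A] B)) := by
    intro z z' hzz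
    apply hinjN
    rw [← secAlgEquivSec_toSecAlg, ← secAlgEquivSec_toSecAlg, hzz]
  have htor : ∀ s ∈ maximalIdeal A, ∃ l : ℕ, ∀ y : SecAlg x (Ak f 1 ⊗[A] B),
      ∃ n : Ak f 1 ⊗[A] B, toSecAlg x (Ak f 1 ⊗[A] B) n = s ^ l • y := by
    intro s hs
    obtain ⟨l, hl⟩ := exists_pow_forall_smul_eq_toSec x (Ak f 1 ⊗[A] B) (hrad hs)
    refine ⟨l, fun y => ?_⟩
    obtain ⟨n, hn⟩ := hl (secAlgEquivSec x _ y)
    refine ⟨n, ?_⟩
    apply (secAlgEquivSec x _).injective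
    rw [secAlgEquivSec_toSecAlg, hn, map_smul]
  have hdepth : ∃ a ∈ maximalIdeal A, ∃ b ∈ maximalIdeal A,
      IsSMulRegular (SecAlg x (Ak f 1 ⊗[A] B)) a ∧ RegMod a b (SecAlg x (Ak f 1 ⊗[A] B)) := by
    obtain ⟨a₁, ha₁, b₁, hb₁, hreg₁, hab₁⟩ :=
      exists_regular_pair_sec x hx' (Ak f 1 ⊗[A] B) hinjN
    refine ⟨a₁, ha₁, b₁, hb₁, ?_, RegMod.of_linearEquiv (secAlgEquivSec x _).symm hab₁⟩
    intro y y' hyy
    apply (secAlgEquivSec x _).injective
    apply hreg₁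
    show a₁ • secAlgEquivSec x _ y = a₁ • secAlgEquivSec x _ y'
    rw [← map_smul, ← map_smul]
    exact congrArg _ hyy
  -- the quotient ring `Λ = A / f`
  have hI : Ideal.span {f ^ 1} = Ideal.span ({f} : Set A) := by rw [pow_one]
  obtain ⟨hΛreg, hΛdim⟩ := quotient_facts hf hf2 (Ideal.span {f ^ 1}) hI
  haveI := hΛreg
  haveI : IsAdicComplete (maximalIdeal (Ak f 1)) (Ak f 1) :=
    isAdicComplete_quotient (Ideal.span {f ^ 1})
  have hkill : ∀ a₀ ∈ Ideal.span {f ^ 1},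
      algebraMap A (SecAlg x (Ak f 1 ⊗[A] B)) a₀ = 0 := by
    intro a₀ ha₀
    obtain ⟨c, rfl⟩ := Ideal.mem_span_singleton'.mp ha₀
    have h0 : Ideal.Quotient.mk (Ideal.span {f ^ 1}) (c * f ^ 1) = 0 :=
      Ideal.Quotient.eq_zero_iff_mem.mpr ha₀
    rw [Algebra.algebraMap_eq_smul_one]
    ext i
    show (c * f ^ 1) • ((1 : Loc x i) ⊗ₜ[A] ((1 : Ak f 1) ⊗ₜ[A] (1 : B))) = 0
    rw [← TensorProduct.tmul_smul, TensorProduct.smul_tmul', Algebra.smul_def, mul_one]
    have : algebraMap A (Ak f 1) (c * f ^ 1) = 0 := h0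
    rw [this, zero_tmul, tmul_zero]
  letI algΛ : Algebra (Ak f 1) (SecAlg x (Ak f 1 ⊗[A] B)) :=
    (Ideal.Quotient.lift (Ideal.span {f ^ 1})
      (algebraMap A (SecAlg x (Ak f 1 ⊗[A] B))) hkill).toAlgebra
  haveI : IsScalarTower A (Ak f 1) (SecAlg x (Ak f 1 ⊗[A] B)) :=
    IsScalarTower.of_algebraMap_eq (fun a₀ => rfl)
  have hPD : PurityData (Ak f 1) (SecAlg x (Ak f 1 ⊗[A] B)) :=
    PurityData.transfer (A := A) (Λ := Ak f 1) (B := B) Ideal.Quotient.mk_surjective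
      (toSecAlg x (Ak f 1 ⊗[A] B)) hinjAlg hfinR htor hdepth hB.diff hB.proj
  haveI hEt : Algebra.Etale (Ak f 1) (SecAlg x (Ak f 1 ⊗[A] B)) := IH (Ak f 1) hΛdim _ hPD
  haveI : Module.Finite (Ak f 1) (SecAlg x (Ak f 1 ⊗[A] B)) := hPD.finite
  -- lift `R₁` to a finite étale `A`-algebra `C`
  haveI : IsAdicComplete (Ideal.span {f ^ 1}) A := by
    rw [hI]
    exact isAdicComplete_span_of_mem hf
  obtain ⟨C, _, _, hCfin, hCet, ⟨e⟩⟩ :=
    Groth.Agent.S0532.result A (Ideal.span {f ^ 1}) (SecAlg x (Ak f 1 ⊗[A] B))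
  let φ : C →ₐ[A] SecAlg x (Ak f 1 ⊗[A] B) :=
    (e.toAlgHom.restrictScalars A).comp Algebra.TensorProduct.includeRight
  have hφsurj : Function.Surjective φ := by
    intro r
    obtain ⟨c, hc⟩ := exists_one_tmul f 1 C (e.symm r)
    refine ⟨c, ?_⟩
    show e ((1 : Ak f 1) ⊗ₜ[A] c) = r
    rw [← hc, e.apply_symm_apply]
  have hglob : ∀ r : SecAlg x (Ak f 1 ⊗[A] B), ∃ b₀ : B,
      r = toSecAlg x (Ak f 1 ⊗[A] B) ((1 : Ak f 1) ⊗ₜ[A] b₀) := by
    intro r
    obtain ⟨c, rfl⟩ := hφsurj r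
    exact exists_eq_toSecAlg_of_formallyEtale f x B C hsep hcompl hpB hbijB (hrad hf) hfreg hAk
      φ c
  -- `B / f B ≃ R₁`
  let β : B →ₗ[A] SecAlg x (Ak f 1 ⊗[A] B) :=
    (toSecAlg x (Ak f 1 ⊗[A] B)).toLinearMap ∘ₗ (TensorProduct.mk A (Ak f 1) B 1)
  have hβ : ∀ b₀ : B, β b₀ = toSecAlg x (Ak f 1 ⊗[A] B) ((1 : Ak f 1) ⊗ₜ[A] b₀) := fun _ => rfl
  have hβsurj : Function.Surjective β := by
    intro r
    obtain ⟨b₀, rfl⟩ := hglob r
    exact ⟨b₀, rfl⟩
  have hβker : ∀ b₀ : B, β b₀ = 0 ↔ ∃ w, b₀ = f • w := by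
    intro b₀
    rw [hβ, ← map_zero (toSecAlg x (Ak f 1 ⊗[A] B)), hinjAlg.eq_iff, one_tmul_eq_zero_iff',
      pow_one]
  haveI : Module.Free (Ak f 1) (SecAlg x (Ak f 1 ⊗[A] B)) :=
    free_of_etale_finite (Ak f 1) (SecAlg x (Ak f 1 ⊗[A] B))
  haveI : Module.Free A B :=
    free_of_free_quot (Ideal.span {f ^ 1}) hI hf B hfB (SecAlg x (Ak f 1 ⊗[A] B)) β hβsurj hβker
  exact etale_of_free A B hfreg hfa (hB.diff hf) (hB.diff ha')

end Step

end Groth.Agent.Lib.T2H3.Purity
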