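import Groth.Agent.Lib.T2H3PurityL

/-!
# From étaleness on a basic open set to membership in `diffIdeal` and `projIdeal`
-/

set_option autoImplicit false
set_option linter.unusedSectionVars false
set_option linter.style.haveILetI false
universe u

open TensorProduct IsLocalRing
open scoped Pointwise

namespace Groth.Agent.Lib.T2H3.Purity

section Uniform

variable {A : Type u} [CommRing A]

/-- (UE): a uniform exponent killing the image of a linear map from a finite module. -/
theorem exists_pow_smul_eq_zero_of_finite {M N : Type u} [AddCommGroup M] [Module A M]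
    [Module.Finite A M] [AddCommGroup N] [Module A N] (D : M →ₗ[A] N) (s : A)
    (h : ∀ y, ∃ k : ℕ, s ^ k • D y = 0) : ∃ k : ℕ, ∀ y, s ^ k • D y = 0 := by
  classical
  obtain ⟨S, hS⟩ := (Module.Finite.fg_top : (⊤ : Submodule A M).FG)
  choose k hk using h
  refine ⟨S.sup k, fun y => ?_⟩
  have hy : y ∈ Submodule.span A (S : Set M) := by rw [hS]; trivial
  induction hy using Submodule.span_induction with
  | mem z hz =>
    have hle : k z ≤ S.sup k := Finset.le_sup hz
    obtain ⟨d, hd⟩ := Nat.exists_eq_add_of_le hle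
    rw [hd, add_comm, pow_add, mul_smul, hk z, smul_zero]
  | zero => simp
  | add z z' _ _ hz hz' => rw [map_add, smul_add, hz, hz', add_zero]
  | smul c z _ hz => rw [map_smul, smul_comm, hz, smul_zero]

end Uniform

section Locus

variable {A : Type u} [CommRing A] {B : Type u} [CommRing B] [Algebra A B] [Module.Finite A B]
  (s : A)

local notation "Bs" => Localization.Away (algebraMap A B s)

theorem isLocalizedModule_toAlgHom : IsLocalizedModule (Submonoid.powers s)
    (IsScalarTower.toAlgHom A B Bs).toLinearMap := by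
  haveI : IsLocalization (Algebra.algebraMapSubmonoid B (Submonoid.powers s)) Bs := by
    rw [Algebra.algebraMapSubmonoid_powers]
    infer_instance
  infer_instance

theorem isLocalizedModule_map_toAlgHom : IsLocalizedModule (Submonoid.powers s)
    (Algebra.TensorProduct.map (IsScalarTower.toAlgHom A B Bs)
      (IsScalarTower.toAlgHom A B Bs)).toLinearMap := by
  haveI := isLocalizedModule_toAlgHom (B := B) s
  exact inferInstanceAs (IsLocalizedModule (Submonoid.powers s) (TensorProduct.map
    (IsScalarTower.toAlgHom A B Bs).toLinearMap (IsScalarTower.toAlgHom A B Bs).toLinearMap))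

/-- (W1-diff): if `B[1/s]` is unramified over `A` then a power of `s` lies in `diffIdeal`. -/
theorem mem_radical_diffIdeal_of_formallyUnramified [Algebra.FormallyUnramified A Bs] :
    s ∈ (diffIdeal A B).radical := by
  haveI h1 := isLocalizedModule_toAlgHom (B := B) s
  haveI h2 := isLocalizedModule_map_toAlgHom (B := B) s
  let φ : B →ₐ[A] Bs := IsScalarTower.toAlgHom A B Bs
  let Φ : B ⊗[A] B →ₐ[A] Bs ⊗[A] Bs := Algebra.TensorProduct.map φ φ
  obtain ⟨ts, hts, hμs⟩ := (Algebra.FormallyUnramified.iff_exists_tensorProduct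
    (R := A) (S := Bs)).mp inferInstance
  obtain ⟨⟨t₀, ⟨_, n, rfl⟩⟩, hn⟩ := IsLocalizedModule.surj (Submonoid.powers s) Φ.toLinearMap ts
  have hn' : s ^ n • ts = Φ t₀ := hn
  -- the annihilation condition up to a power of `s`
  let D : B →ₗ[A] B ⊗[A] B :=
    (LinearMap.mulRight A t₀) ∘ₗ
      ((TensorProduct.mk A B B 1) - (TensorProduct.mk A B B).flip 1)
  have hD : ∀ y, D y = ((1 : B) ⊗ₜ[A] y - y ⊗ₜ[A] (1 : B)) * t₀ := fun y => rfl
  obtain ⟨k, hk⟩ := exists_pow_smul_eq_zero_of_finite D s (by
    intro y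
    have h0 : Φ.toLinearMap (D y) = 0 := by
      show Φ (D y) = 0
      rw [hD, map_mul, ← hn', mul_smul_comm]
      have : Φ ((1 : B) ⊗ₜ[A] y - y ⊗ₜ[A] (1 : B)) =
          (1 : Bs) ⊗ₜ[A] φ y - φ y ⊗ₜ[A] (1 : Bs) := by
        simp [Φ]
      rw [this, hts (φ y), smul_zero]
    obtain ⟨⟨_, k, rfl⟩, hk⟩ := (IsLocalizedModule.eq_zero_iff (Submonoid.powers s)
      Φ.toLinearMap).mp h0
    exact ⟨k, hk⟩)
  -- the trace condition up to a power of `s`
  have hμ0 : φ.toLinearMap (Algebra.TensorProduct.lmul' A t₀ - s ^ n • (1 : B)) = 0 := by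
    show φ (Algebra.TensorProduct.lmul' A t₀ - s ^ n • (1 : B)) = 0
    have hcomm : ∀ t : B ⊗[A] B, φ (Algebra.TensorProduct.lmul' A t) =
        Algebra.TensorProduct.lmul' A (Φ t) := by
      intro t
      induction t using TensorProduct.induction_on with
      | zero => simp
      | tmul b b' => simp [Φ]
      | add t t' ht ht' => simp only [map_add, ht, ht']
    rw [map_sub, hcomm, ← hn', map_smul, map_smul, hμs, map_one, sub_self]
  obtain ⟨⟨_, k', rfl⟩, hk'⟩ := (IsLocalizedModule.eq_zero_iff (Submonoid.powers s)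
    φ.toLinearMap).mp hμ0
  have hk'' : s ^ k' • Algebra.TensorProduct.lmul' A t₀ = s ^ k' • s ^ n • (1 : B) := by
    have : s ^ k' • (Algebra.TensorProduct.lmul' A t₀ - s ^ n • (1 : B)) = 0 := hk'
    rwa [smul_sub, sub_eq_zero] at this
  refine ⟨k + k' + n, s ^ (k + k') • t₀, ?_, ?_⟩
  · intro y
    rw [mul_smul_comm, ← hD, pow_add, mul_comm, mul_smul, hk y, smul_zero]
  · rw [map_smul, pow_add s k k', mul_smul, hk'', Algebra.algebraMap_eq_smul_one, pow_add,
      pow_add, mul_smul, mul_smul]

/-- (W1-proj): if `B[1/s]` is flat over `A` then a power of `s` lies in `projIdeal`. -/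
theorem mem_radical_projIdeal_of_flat [Module.FinitePresentation A B] [Module.Flat A Bs] :
    s ∈ (projIdeal A B).radical := by
  classical
  haveI h1 := isLocalizedModule_toAlgHom (B := B) s
  let φ : B →ₗ[A] Bs := (IsScalarTower.toAlgHom A B Bs).toLinearMap
  obtain ⟨k, h₂, h₃, hfac⟩ := Module.Flat.exists_factorization_of_finitePresentation φ
  have hsurj : ∀ j : Fin k, ∃ (n : ℕ) (b : B), s ^ n • h₃ (Finsupp.single j 1) = φ b := by
    intro j
    obtain ⟨⟨b, ⟨_, n, rfl⟩⟩, hb⟩ := IsLocalizedModule.surj (Submonoid.powers s) φ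
      (h₃ (Finsupp.single j 1))
    exact ⟨n, b, hb⟩
  choose n b hb using hsurj
  set N := Finset.univ.sup n with hN
  have hb' : ∀ j, s ^ N • h₃ (Finsupp.single j 1) = φ (s ^ (N - n j) • b j) := by
    intro j
    have hle : n j ≤ N := Finset.le_sup (Finset.mem_univ j)
    rw [map_smul, ← hb j, smul_smul, ← pow_add, Nat.sub_add_cancel hle]
  let g : Fin k → Module.Dual A B := fun j => (Finsupp.lapply j) ∘ₗ h₂
  have hφ : ∀ y, φ y = ∑ j, g j y • h₃ (Finsupp.single j 1) := by
    intro y
    have h0 : h₂ y = ∑ j, g j y • Finsupp.single j (1 : A) := by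
      conv_lhs => rw [← Finsupp.univ_sum_single (h₂ y)]
      refine Finset.sum_congr rfl fun j _ => ?_
      rw [Finsupp.smul_single, smul_eq_mul, mul_one]
      rfl
    rw [hfac, LinearMap.comp_apply, h0, map_sum]
    refine Finset.sum_congr rfl fun j _ => ?_
    rw [map_smul]
  let D : B →ₗ[A] B := s ^ N • LinearMap.id -
    ∑ j, (LinearMap.toSpanSingleton A B (s ^ (N - n j) • b j)) ∘ₗ (g j)
  have hD : ∀ y, D y = s ^ N • y - ∑ j, g j y • (s ^ (N - n j) • b j) := by
    intro y
    simp [D, LinearMap.sum_apply]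
  obtain ⟨K, hK⟩ := exists_pow_smul_eq_zero_of_finite D s (by
    intro y
    have h0 : φ (D y) = 0 := by
      rw [hD, map_sub, map_smul, hφ y, Finset.smul_sum, map_sum, sub_eq_zero]
      refine Finset.sum_congr rfl fun j _ => ?_
      rw [map_smul, ← hb' j, smul_comm]
    obtain ⟨⟨_, k', rfl⟩, hk'⟩ := (IsLocalizedModule.eq_zero_iff (Submonoid.powers s) φ).mp h0
    exact ⟨k', hk'⟩)
  refine ⟨K + N, ?_⟩
  rw [mem_projIdeal_iff_exists_sum]
  refine ⟨k, g, fun j => s ^ K • (s ^ (N - n j) • b j), fun y => ?_⟩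
  have := hK y
  rw [hD, smul_sub, sub_eq_zero, Finset.smul_sum] at this
  rw [pow_add, mul_smul, this]
  refine Finset.sum_congr rfl fun j _ => ?_
  rw [smul_comm]

end Locus

end Groth.Agent.Lib.T2H3.Purity
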