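import Groth.Agent.Lib.T2H3PurityN

/-!
# From a ring of sections to a finite étale algebra

`R` is an `A`-algebra which "is its own ring of sections over the punctured spectrum"
(`toSec x R` bijective) and which is finite étale over each `A[1/x i]`. Then `R` is finite, and
finite étale when `A` is regular local of dimension `≥ 2`.
-/

set_option autoImplicit false
set_option linter.unusedSectionVars false
set_option linter.style.haveILetI false
universe u

open TensorProduct IsLocalRing
open scoped Pointwise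

namespace Groth.Agent.Lib.T2H3.Purity

section SheafToSec

variable {A : Type u} [CommRing A] {ι : Type} (x : ι → A)
  (M : Type u) [AddCommGroup M] [Module A M]

/-- locality: `M → Sec x M` is injective. -/
theorem toSec_injective_of_local
    (hinj : ∀ r : M, (∀ i, ∃ N : ℕ, x i ^ N • r = 0) → r = 0) :
    Function.Injective (toSec x M) := by
  rw [injective_iff_map_eq_zero]
  intro r hr
  apply hinj
  intro i
  have h1 : (1 : Loc x i) ⊗ₜ[A] r = 0 := by
    have := congrArg (fun σ : Sec x M => (σ : Π i, Loc x i ⊗[A] M) i) hr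
    simpa using this
  exact (one_tmul_eq_zero_iff (x i) M r).mp h1

/-- gluing: `M → Sec x M` is surjective. -/
theorem toSec_surjective_of_glue
    (hglue : ∀ (k : ι → ℕ) (r : ι → M),
      (∀ i j, ∃ N : ℕ, (x i * x j) ^ N • (x j ^ k j • r i - x i ^ k i • r j) = 0) →
      ∃ m : M, ∀ i, ∃ N : ℕ, x i ^ N • (x i ^ k i • m - r i) = 0) :
    Function.Surjective (toSec x M) := by
  intro σ
  have hrep : ∀ i, ∃ (n : ℕ) (m : M), x i ^ n • σ.1 i = (1 : Loc x i) ⊗ₜ[A] m :=
    fun i => exists_rep (x i) M (σ.1 i)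
  choose k r hr using hrep
  obtain ⟨m, hm⟩ := hglue k r (by
    intro i j
    apply (one_tmul_eq_zero_iff (x i * x j) M _).mp
    rw [tmul_sub, sub_eq_zero, tmul_smul, tmul_smul, ← resL_one_tmul x M i j (r i),
      ← resR_one_tmul x M i j (r j), ← hr i, ← hr j, map_smul, map_smul, σ.2 i j, smul_smul,
      smul_smul, show x j ^ k j * x i ^ k i = x i ^ k i * x j ^ k j from mul_comm _ _])
  refine ⟨m, ?_⟩
  ext i
  apply pow_smul_injective (x i) M (k i)
  show x i ^ k i • ((1 : Loc x i) ⊗ₜ[A] m) = x i ^ k i • σ.1 i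
  rw [hr i, ← tmul_smul, ← sub_eq_zero, ← tmul_sub]
  exact (one_tmul_eq_zero_iff (x i) M _).mpr (hm i)

end SheafToSec

section SubSec

variable {A : Type u} [CommRing A] {ι : Type} (x : ι → A)
  {M : Type u} [AddCommGroup M] [Module A M] {R : Type u} [AddCommGroup R] [Module A R]

theorem lTensor_loc_injective (a : A) (φ : M →ₗ[A] R) (hφ : Function.Injective φ) :
    Function.Injective (φ.lTensor (Localization.Away a)) :=
  Module.Flat.lTensor_preserves_injective_linearMap φ hφ

/-- a submodule which is locally everything has the same sections. -/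
theorem Sec.map_bijective_of_local (φ : M →ₗ[A] R) (hφ : Function.Injective φ)
    (hloc : ∀ (i : ι) (r : R), ∃ (N : ℕ) (m : M), x i ^ N • r = φ m) :
    Function.Bijective (Sec.map x φ) := by
  constructor
  · rw [injective_iff_map_eq_zero]
    intro σ hσ
    ext i
    apply lTensor_loc_injective (x i) φ hφ
    have := congrArg (fun τ : Sec x R => (τ : Π i, Loc x i ⊗[A] R) i) hσ
    simpa using this
  · intro τ
    have h1 : ∀ i, ∃ s : Loc x i ⊗[A] M, φ.lTensor (Loc x i) s = τ.1 i := by
      intro i
      obtain ⟨k, r, hk⟩ := exists_rep (x i) R (τ.1 i)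
      obtain ⟨N, m, hN⟩ := hloc i r
      obtain ⟨s, hs⟩ := pow_smul_surjective (x i) M (k + N) ((1 : Loc x i) ⊗ₜ[A] m)
      refine ⟨s, ?_⟩
      apply pow_smul_injective (x i) R (k + N)
      show x i ^ (k + N) • φ.lTensor (Loc x i) s = x i ^ (k + N) • τ.1 i
      have hs' : x i ^ (k + N) • s = (1 : Loc x i) ⊗ₜ[A] m := hs
      rw [← LinearMap.map_smul, hs', LinearMap.lTensor_tmul, ← hN, tmul_smul, ← hk, smul_smul, pow_add,
        show x i ^ N * x i ^ k = x i ^ k * x i ^ N from mul_comm _ _]
    choose s hs using h1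
    refine ⟨⟨s, ?_⟩, ?_⟩
    · intro i j
      apply lTensor_loc_injective (x i * x j) φ hφ
      rw [← rTensor_lTensor_comm, ← rTensor_lTensor_comm, hs i, hs j]
      exact τ.2 i j
    · ext i
      exact hs i

end SubSec

section LocusGen

variable {A : Type u} [CommRing A] (s : A)

/-- (W1-proj), module form: if a localisation of the finitely presented module `M` at `s` is flat
then a power of `s` lies in `projIdeal A M`. -/
theorem mem_radical_projIdeal_of_isLocalizedModule {M N : Type u} [AddCommGroup M] [Module A M]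
    [Module.FinitePresentation A M] [AddCommGroup N] [Module A N] (φ : M →ₗ[A] N)
    [IsLocalizedModule (Submonoid.powers s) φ] [Module.Flat A N] :
    s ∈ (projIdeal A M).radical := by
  classical
  haveI : Module.Finite A M := inferInstance
  obtain ⟨k, h₂, h₃, hfac⟩ := Module.Flat.exists_factorization_of_finitePresentation φ
  have hsurj : ∀ j : Fin k, ∃ (n : ℕ) (b : M), s ^ n • h₃ (Finsupp.single j 1) = φ b := by
    intro j
    obtain ⟨⟨b, ⟨_, n, rfl⟩⟩, hb⟩ := IsLocalizedModule.surj (Submonoid.powers s) φ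
      (h₃ (Finsupp.single j 1))
    exact ⟨n, b, hb⟩
  choose n b hb using hsurj
  set N' := Finset.univ.sup n with hN
  have hb' : ∀ j, s ^ N' • h₃ (Finsupp.single j 1) = φ (s ^ (N' - n j) • b j) := by
    intro j
    have hle : n j ≤ N' := Finset.le_sup (Finset.mem_univ j)
    rw [map_smul, ← hb j, smul_smul, ← pow_add, Nat.sub_add_cancel hle]
  let g : Fin k → Module.Dual A M := fun j => (Finsupp.lapply j) ∘ₗ h₂
  have hφ : ∀ y, φ y = ∑ j, g j y • h₃ (Finsupp.single j 1) := by
    intro y
    have h0 : h₂ y = ∑ j, g j y • Finsupp.single j (1 : A) := by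
      conv_lhs => rw [← Finsupp.univ_sum_single (h₂ y)]
      refine Finset.sum_congr rfl fun j _ => ?_
      rw [Finsupp.smul_single, smul_eq_mul, mul_one]
      rfl
    rw [hfac, LinearMap.comp_apply, h0, map_sum]
    refine Finset.sum_congr rfl fun j _ => ?_
    rw [map_smul]
  let D : M →ₗ[A] M := s ^ N' • LinearMap.id -
    ∑ j, (LinearMap.toSpanSingleton A M (s ^ (N' - n j) • b j)) ∘ₗ (g j)
  have hD : ∀ y, D y = s ^ N' • y - ∑ j, g j y • (s ^ (N' - n j) • b j) := by
    intro y
    simp [D, LinearMap.sum_apply]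
  obtain ⟨K, hK⟩ := exists_pow_smul_eq_zero_of_finite D s (by
    intro y
    have h0 : φ (D y) = 0 := by
      rw [hD, map_sub, map_smul, hφ y, Finset.smul_sum, map_sum, sub_eq_zero]
      refine Finset.sum_congr rfl fun j _ => ?_
      rw [map_smul, ← hb' j, smul_comm]
    obtain ⟨⟨_, k', rfl⟩, hk'⟩ := (IsLocalizedModule.eq_zero_iff (Submonoid.powers s) φ).mp h0
    exact ⟨k', hk'⟩)
  refine ⟨K + N', ?_⟩
  rw [mem_projIdeal_iff_exists_sum]
  refine ⟨k, g, fun j => s ^ K • (s ^ (N' - n j) • b j), fun y => ?_⟩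
  have := hK y
  rw [hD, smul_sub, sub_eq_zero, Finset.smul_sum] at this
  rw [pow_add, mul_smul, this]
  refine Finset.sum_congr rfl fun j _ => ?_
  rw [smul_comm]

variable {B : Type u} [CommRing B] [Algebra A B] [Module.Finite A B]
  {B' : Type u} [CommRing B'] [Algebra A B'] (φ : B →ₐ[A] B')

/-- (W1-diff), general localisation. -/
theorem mem_radical_diffIdeal_of_isLocalizedModule
    [h1 : IsLocalizedModule (Submonoid.powers s) φ.toLinearMap]
    [Algebra.FormallyUnramified A B'] [Algebra.EssFiniteType A B'] :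
    s ∈ (diffIdeal A B).radical := by
  let Φ : B ⊗[A] B →ₐ[A] B' ⊗[A] B' := Algebra.TensorProduct.map φ φ
  haveI h2 : IsLocalizedModule (Submonoid.powers s) Φ.toLinearMap :=
    inferInstanceAs (IsLocalizedModule (Submonoid.powers s) (TensorProduct.map
      φ.toLinearMap φ.toLinearMap))
  obtain ⟨ts, hts, hμs⟩ := (Algebra.FormallyUnramified.iff_exists_tensorProduct
    (R := A) (S := B')).mp inferInstance
  obtain ⟨⟨t₀, ⟨_, n, rfl⟩⟩, hn⟩ := IsLocalizedModule.surj (Submonoid.powers s) Φ.toLinearMap ts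
  have hn' : s ^ n • ts = Φ t₀ := hn
  let D : B →ₗ[A] B ⊗[A] B :=
    (LinearMap.mulRight A t₀) ∘ₗ
      ((TensorProduct.mk A B B 1) - (TensorProduct.mk A B B).flip 1)
  have hD : ∀ y, D y = ((1 : B) ⊗ₜ[A] y - y ⊗ₜ[A] (1 : B)) * t₀ := fun y => rfl
  obtain ⟨k, hk⟩ := exists_pow_smul_eq_zero_of_finite D s (by
    intro y
    have h0 : Φ.toLinearMap (D y) = 0 := by
      show Φ (D y) = 0
      rw [hD, map_mul, ← hn', mul_smul_comm]
      have : Φ ((1 : B) ⊗ₜ[A] y - y ⊗ₜ[A] (1 : B)) =
          (1 : B') ⊗ₜ[A] φ y - φ y ⊗ₜ[A] (1 : B') := by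
        simp [Φ]
      rw [this, hts (φ y), smul_zero]
    obtain ⟨⟨_, k, rfl⟩, hk⟩ := (IsLocalizedModule.eq_zero_iff (Submonoid.powers s)
      Φ.toLinearMap).mp h0
    exact ⟨k, hk⟩)
  have hμ0 : φ.toLinearMap (Algebra.TensorProduct.lmul' A t₀ - s ^ n • (1 : B)) = 0 := by
    show φ (Algebra.TensorProduct.lmul' A t₀ - s ^ n • (1 : B)) = 0
    have hcomm : ∀ t : B ⊗[A] B, φ (Algebra.TensorProduct.lmul' A t) =
        Algebra.TensorProduct.lmul' A (Φ t) := by
      intro t
      induction t using TensorProduct.induction_on with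
      | zero => simp
      | tmul b b' => simp [Φ]
      | add t t' ht ht' => simp only [map_add, ht, ht']
    rw [map_sub, hcomm, ← hn', map_smul, map_smul, hμs, map_one, sub_self]
  obtain ⟨⟨_, k', rfl⟩, hk'⟩ := (IsLocalizedModule.eq_zero_iff (Submonoid.powers s)
    φ.toLinearMap).mp hμ0
  have hk'' : s ^ k' • Algebra.TensorProduct.lmul' A t₀ = s ^ k' • s ^ n • (1 : B) := by
    have : s ^ k' • (Algebra.TensorProduct.lmul' A t₀ - s ^ n • (1 : B)) = 0 := hk'
    rwa [smul_sub, sub_eq_zero] at this
  refine ⟨k + k' + n, s ^ (k + k') • t₀, ?_, ?_⟩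
  · intro y
    rw [mul_smul_comm, ← hD, pow_add, mul_comm, mul_smul, hk y, smul_zero]
  · rw [map_smul, pow_add s k k', mul_smul, hk'', Algebra.algebraMap_eq_smul_one, pow_add,
      pow_add, mul_smul, mul_smul]

end LocusGen

section FiniteLoc

variable {A : Type u} [CommRing A] (a : A) (R : Type u) [AddCommGroup R] [Module A R]

local notation "L" => Localization.Away a

/-- if `A[1/a] ⊗ R` is a finite `A[1/a]`-module then `R` is finitely generated up to
`a`-power torsion. -/
theorem exists_finset_of_finite_loc [Module.Finite L (L ⊗[A] R)] :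
    ∃ T : Finset R, ∀ r : R, ∃ N : ℕ, a ^ N • r ∈ Submodule.span A (T : Set R) := by
  classical
  obtain ⟨S, hS⟩ := (Module.Finite.fg_top : (⊤ : Submodule L (L ⊗[A] R)).FG)
  have hrep : ∀ g : L ⊗[A] R, ∃ (n : ℕ) (m : R), a ^ n • g = (1 : L) ⊗ₜ[A] m :=
    fun g => exists_rep a R g
  choose n m hnm using hrep
  refine ⟨S.image m, ?_⟩
  have key : ∀ z : L ⊗[A] R, ∃ (N : ℕ) (t : R), t ∈ Submodule.span A ((S.image m : Finset R) : Set R) ∧
      a ^ N • z = (1 : L) ⊗ₜ[A] t := by
    intro z
    have hz : z ∈ Submodule.span L (S : Set (L ⊗[A] R)) := by rw [hS]; trivial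
    induction hz using Submodule.span_induction with
    | mem g hg =>
      exact ⟨n g, m g, Submodule.subset_span (by
        rw [Finset.coe_image]
        exact ⟨g, hg, rfl⟩), hnm g⟩
    | zero => exact ⟨0, 0, Submodule.zero_mem _, by simp⟩
    | add z z' _ _ hz hz' =>
      obtain ⟨N, t, ht, h⟩ := hz
      obtain ⟨N', t', ht', h'⟩ := hz'
      refine ⟨N + N', a ^ N' • t + a ^ N • t', Submodule.add_mem _ (Submodule.smul_mem _ _ ht)
        (Submodule.smul_mem _ _ ht'), ?_⟩
      rw [smul_add, tmul_add, tmul_smul, tmul_smul, ← h, ← h', smul_smul, smul_smul, pow_add,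
        show a ^ N' * a ^ N = a ^ N * a ^ N' from mul_comm _ _]
    | smul l z _ hz =>
      obtain ⟨N, t, ht, h⟩ := hz
      obtain ⟨⟨a', ⟨_, k, rfl⟩⟩, hk⟩ := IsLocalization.surj (Submonoid.powers a) l
      have hk' : l * algebraMap A L (a ^ k) = algebraMap A L a' := hk
      refine ⟨k + N, a' • t, Submodule.smul_mem _ _ ht, ?_⟩
      rw [tmul_smul, ← h, pow_add, mul_smul, ← algebraMap_smul L (a ^ k) (a ^ N • l • z),
        ← algebraMap_smul L a' (a ^ N • z), ← hk', smul_comm (a ^ N) l z, smul_smul,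
        mul_comm]
  intro r
  obtain ⟨N, t, ht, h⟩ := key ((1 : L) ⊗ₜ[A] r)
  have h0 : (1 : L) ⊗ₜ[A] (a ^ N • r - t) = 0 := by
    rw [tmul_sub, tmul_smul, h, sub_self]
  obtain ⟨N', hN'⟩ := (one_tmul_eq_zero_iff a R _).mp h0
  refine ⟨N' + N, ?_⟩
  rw [smul_sub, sub_eq_zero] at hN'
  rw [pow_add, mul_smul, hN']
  exact Submodule.smul_mem _ _ ht

end FiniteLoc

section FiniteSections

variable {A : Type u} [CommRing A] {ι : Type} (x : ι → A)
  (R : Type u) [AddCommGroup R] [Module A R]

theorem isLocalizedModule_of_local (i : ι) (M : Submodule A R)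
    (hM : ∀ r : R, ∃ N : ℕ, x i ^ N • r ∈ M) :
    IsLocalizedModule (Submonoid.powers (x i))
      ((TensorProduct.mk A (Loc x i) R 1) ∘ₗ M.subtype) := by
  refine ⟨?_, ?_, ?_⟩
  · exact IsLocalizedModule.map_units (TensorProduct.mk A (Loc x i) R 1)
  · intro z
    obtain ⟨k, r, hk⟩ := exists_rep (x i) R z
    obtain ⟨N, hN⟩ := hM r
    refine ⟨⟨⟨x i ^ N • r, hN⟩, ⟨x i ^ (k + N), k + N, rfl⟩⟩, ?_⟩
    show x i ^ (k + N) • z = (1 : Loc x i) ⊗ₜ[A] (x i ^ N • r)
    rw [tmul_smul, ← hk, smul_smul, pow_add,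
      show x i ^ N * x i ^ k = x i ^ k * x i ^ N from mul_comm _ _]
  · intro m m' h
    have h0 : (1 : Loc x i) ⊗ₜ[A] ((m : R) - (m' : R)) = 0 := by
      rw [tmul_sub, sub_eq_zero]
      exact h
    obtain ⟨N, hN⟩ := (one_tmul_eq_zero_iff (x i) R _).mp h0
    refine ⟨⟨x i ^ N, N, rfl⟩, Subtype.ext ?_⟩
    rw [smul_sub, sub_eq_zero] at hN
    exact hN

variable [IsNoetherianRing A] [Finite ι]

/-- finiteness of a module of sections which is locally finite and flat. -/
theorem finite_of_sections [Module.Finite A (Sec x A)]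
    (hbij : Function.Bijective (toSec x R))
    (hfin : ∀ i, ∃ T : Finset R, ∀ r : R, ∃ N : ℕ, x i ^ N • r ∈ Submodule.span A (T : Set R))
    (hflat : ∀ i, Module.Flat A (Loc x i ⊗[A] R)) : Module.Finite A R := by
  classical
  choose T hT using hfin
  let M : Submodule A R := ⨆ i, Submodule.span A (T i : Set R)
  have hMfg : M.FG := Submodule.fg_iSup _ (fun i => Submodule.fg_span (T i).finite_toSet)
  haveI : Module.Finite A M := Module.Finite.iff_fg.mpr hMfg
  haveI : Module.FinitePresentation A M := Module.finitePresentation_of_finite A M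
  have hM : ∀ i (r : R), ∃ N : ℕ, x i ^ N • r ∈ M := fun i r => by
    obtain ⟨N, hN⟩ := hT i r
    exact ⟨N, (le_iSup (fun i => Submodule.span A (T i : Set R)) i) hN⟩
  have hp : ∀ i, x i ∈ (projIdeal A M).radical := by
    intro i
    haveI := isLocalizedModule_of_local x R i M (hM i)
    haveI := hflat i
    exact mem_radical_projIdeal_of_isLocalizedModule (x i)
      ((TensorProduct.mk A (Loc x i) R 1) ∘ₗ M.subtype)
  haveI : Module.Finite A (Sec x (A ⊗[A] M)) := finite_sec_tensor (M := M) (Q := A) x hp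
  haveI : Module.Finite A (Sec x M) := Module.Finite.equiv (Sec.congr x (TensorProduct.lid A M))
  have hb : Function.Bijective (Sec.map x M.subtype) :=
    Sec.map_bijective_of_local x M.subtype Subtype.val_injective (fun i r => by
      obtain ⟨N, hN⟩ := hM i r
      exact ⟨N, ⟨_, hN⟩, rfl⟩)
  haveI : Module.Finite A (Sec x R) := Module.Finite.of_surjective (Sec.map x M.subtype) hb.2
  exact Module.Finite.equiv (LinearEquiv.ofBijective (toSec x R) hbij).symm

end FiniteSections

section EtaleSections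

/-- finiteness, when `A` has a regular pair in the ideal generated by the family. -/
theorem finite_of_sections_of_regular_pair {A : Type u} [CommRing A] [IsNoetherianRing A]
    {ι : Type} [Finite ι] (x : ι → A) {a b : A}
    (ha : a ∈ (Ideal.span (Set.range x)).radical) (hb : b ∈ (Ideal.span (Set.range x)).radical)
    (hreg : IsSMulRegular A a) (hab : RegMod a b A)
    (R : Type u) [AddCommGroup R] [Module A R]
    (hbij : Function.Bijective (toSec x R))
    (hfin : ∀ i, Module.Finite (Loc x i) (Loc x i ⊗[A] R))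
    (hflat : ∀ i, Module.Flat A (Loc x i ⊗[A] R)) : Module.Finite A R := by
  have hbijA : Function.Bijective (toSec x A) := toSec_bijective x A ha hb hreg hab
  haveI : Module.Finite A (Sec x A) := Module.Finite.of_surjective (toSec x A) hbijA.2
  exact finite_of_sections x R hbij
    (fun i => by
      haveI := hfin i
      exact exists_finset_of_finite_loc (x i) R) hflat

theorem isLocalizedModule_includeRight {A : Type u} [CommRing A] (a : A) (R : Type u) [CommRing R]
    [Algebra A R] : IsLocalizedModule (Submonoid.powers a)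
      (Algebra.TensorProduct.includeRight : R →ₐ[A] Localization.Away a ⊗[A] R).toLinearMap :=
  instIsLocMk a R

variable (A : Type u) [CommRing A] [IsRegularLocalRing A] {ι : Type} [Finite ι] (x : ι → A)
  (R : Type u) [CommRing R] [Algebra A R]

/-- **Purity for rings of sections**: over a regular local ring of dimension `≥ 2`, an algebra
which is its own ring of sections over the punctured spectrum and is finite étale there is finite
étale. -/
theorem finite_etale_of_sections (h2 : (2 : WithBot ℕ∞) ≤ ringKrullDim A)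
    (hx : Ideal.span (Set.range x) = maximalIdeal A)
    (hbij : Function.Bijective (toSec x R))
    (hfin : ∀ i, Module.Finite (Loc x i) (Loc x i ⊗[A] R))
    (het : ∀ i, Algebra.Etale A (Loc x i ⊗[A] R)) :
    Module.Finite A R ∧ Algebra.Etale A R := by
  have hrad : ∀ {a : A}, a ∈ maximalIdeal A → a ∈ (Ideal.span (Set.range x)).radical :=
    fun ha => Ideal.le_radical (hx.symm ▸ ha)
  obtain ⟨f, a, hf, ha, hfreg, hfa⟩ := exists_regular_param_pair A h2
  haveI hfinR : Module.Finite A R :=
    finite_of_sections_of_regular_pair x (hrad hf) (hrad ha) hfreg hfa R hbij hfin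
      (fun i => by haveI := het i; infer_instance)
  haveI : Module.FinitePresentation A R := Module.finitePresentation_of_finite A R
  refine ⟨hfinR, ?_⟩
  have hbijA : Function.Bijective (toSec x A) :=
    toSec_bijective x A (hrad hf) (hrad ha) hfreg hfa
  let e : R ≃ₗ[A] Sec x R := LinearEquiv.ofBijective (toSec x R) hbij
  haveI : Module.Finite A (Sec x R) := Module.Finite.equiv e
  have hPD : PurityData A R := by
    refine ⟨hfinR, ?_, ?_, ?_⟩
    · obtain ⟨a₁, ha₁, b₁, hb₁, hreg₁, hab₁⟩ := exists_regular_pair_sec x hx R hbij.1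
      refine ⟨a₁, ha₁, b₁, hb₁, ?_, RegMod.of_linearEquiv e.symm hab₁⟩
      intro y y' hyy
      apply e.injective
      apply hreg₁
      show a₁ • e y = a₁ • e y'
      rw [← map_smul, ← map_smul]
      exact congrArg _ hyy
    · rw [← hx, Ideal.span_le]
      rintro _ ⟨i, rfl⟩
      haveI := het i
      haveI := isLocalizedModule_includeRight (x i) R
      exact mem_radical_diffIdeal_of_isLocalizedModule (x i)
        (Algebra.TensorProduct.includeRight : R →ₐ[A] Loc x i ⊗[A] R)
    · rw [← hx, Ideal.span_le]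
      rintro _ ⟨i, rfl⟩
      haveI := het i
      haveI := isLocalizedModule_includeRight (x i) R
      exact mem_radical_projIdeal_of_isLocalizedModule (x i)
        (Algebra.TensorProduct.includeRight : R →ₐ[A] Loc x i ⊗[A] R).toLinearMap
  exact purity_algebraic A h2 R hPD

end EtaleSections

end Groth.Agent.Lib.T2H3.Purity
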