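import Groth.Agent.Lib.T2H3PurityO
import Groth.Agent.Lib.Helper28DepthMore

/-!
# Purity for rings of sections over a non-local regular base

`C` Noetherian, `x : ι → C` generating an ideal `I` such that `C_p` is regular local of dimension
`≥ 2` for every prime `p ⊇ I`; an algebra `R` which is its own module of sections over
`Spec C ∖ V(I)` and finite étale there is finite étale.
-/

set_option autoImplicit false
set_option linter.unusedSectionVars false
set_option linter.style.haveILetI false
universe u

open TensorProduct IsLocalRing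
open scoped Pointwise

namespace Groth.Agent.Lib.T2H3.Purity

section DepthIdeal

variable {C : Type u} [CommRing C] [IsNoetherianRing C]

/-- prime avoidance: a finite module without `I`-torsion has a regular element in `I`. -/
theorem exists_regular_of_no_torsion_ideal (I : Ideal C) (N : Type u) [AddCommGroup N]
    [Module C N] [Module.Finite C N]
    (h : ∀ y : N, (∀ s ∈ I, s • y = 0) → y = 0) : ∃ a ∈ I, IsSMulRegular N a := by
  classical
  by_contra hcon
  push Not at hcon
  have hfin := associatedPrimes.finite C N
  have hsub : (I : Set C) ⊆ ⋃ p ∈ (↑hfin.toFinset : Set (Ideal C)), (id p : Ideal C) := by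
    intro c hc
    have hc' : c ∈ ⋃ p ∈ associatedPrimes C N, (p : Set C) := by
      rw [biUnion_associatedPrimes_eq_compl_regular]
      exact hcon c hc
    simpa using hc'
  rw [Ideal.subset_union_prime (⊥ : Ideal C) ⊥] at hsub
  · obtain ⟨P, hP, hle⟩ := hsub
    rw [Set.Finite.mem_toFinset] at hP
    have hP' : IsAssociatedPrime P N := hP
    rw [isAssociatedPrime_iff] at hP'
    obtain ⟨hprime, y, hy⟩ := hP'
    have hy0 : y = 0 := by
      apply h
      intro s hs
      have : s ∈ P := hle hs
      rw [hy, Submodule.mem_colon_singleton, Submodule.mem_bot] at this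
      exact this
    apply hprime.ne_top
    rw [hy, hy0]
    ext r
    simp [Submodule.mem_colon_singleton]
  · intro P hP _ _
    rw [Set.Finite.mem_toFinset] at hP
    exact hP.1

theorem exists_regMod_of_no_torsion_ideal (I : Ideal C) (R : Type u) [AddCommGroup R]
    [Module C R] [Module.Finite C R] (a : C)
    (htors : ∀ r : R, (∀ s ∈ I, ∃ u : R, s • r = a • u) → ∃ w : R, r = a • w) :
    ∃ b ∈ I, RegMod a b R := by
  obtain ⟨b, hbm, hb⟩ := exists_regular_of_no_torsion_ideal I
    (R ⧸ (a • (⊤ : Submodule C R))) (by
    intro y hy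
    obtain ⟨r, rfl⟩ := Submodule.Quotient.mk_surjective _ y
    rw [Submodule.Quotient.mk_eq_zero, Submodule.mem_smul_pointwise_iff_exists]
    obtain ⟨w, hw⟩ := htors r (by
      intro s hs
      have := hy s hs
      rw [← Submodule.Quotient.mk_smul, Submodule.Quotient.mk_eq_zero,
        Submodule.mem_smul_pointwise_iff_exists] at this
      obtain ⟨u, _, hu⟩ := this
      exact ⟨u, hu.symm⟩)
    exact ⟨w, Submodule.mem_top, hw.symm⟩)
  exact ⟨b, hbm, regMod_of_isSMulRegular_quot hb⟩

variable {ι : Type} [Finite ι] (x : ι → C)

/-- (SC2), general ideal: the module of sections of a torsion-free finite module has depth `≥ 2`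
along the ideal generated by the family. -/
theorem exists_regular_pair_sec_ideal
    (N : Type u) [AddCommGroup N] [Module C N] [Module.Finite C N]
    [Module.Finite C (Sec x N)] (hinj : Function.Injective (toSec x N)) :
    ∃ a ∈ Ideal.span (Set.range x), ∃ b ∈ Ideal.span (Set.range x),
      IsSMulRegular (Sec x N) a ∧ RegMod a b (Sec x N) := by
  have hxm : ∀ i, x i ∈ Ideal.span (Set.range x) := fun i => Ideal.subset_span ⟨i, rfl⟩
  obtain ⟨a, ham, ha⟩ := exists_regular_of_no_torsion_ideal (Ideal.span (Set.range x)) N (by
    intro y hy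
    apply hinj
    rw [map_zero]
    ext i
    exact (one_tmul_eq_zero_iff (x i) N y).mpr ⟨1, by rw [pow_one]; exact hy _ (hxm i)⟩)
  have haS : IsSMulRegular (Sec x N) a := isSMulRegular_sec x N ha
  obtain ⟨b, hbm, hb⟩ := exists_regMod_of_no_torsion_ideal (Ideal.span (Set.range x))
    (R := Sec x N) a (by
    intro r hr
    apply exists_eq_smul_of_forall_pow_smul x N ha r
    intro i
    obtain ⟨u, hu⟩ := hr _ (hxm i)
    exact ⟨1, u, by rw [pow_one]; exact hu⟩)
  exact ⟨a, ham, b, hbm, haS, hb⟩

/-- a regular pair in `I` when the localizations at primes containing `I` are regular of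
dimension `≥ 2`. -/
theorem exists_regular_pair_of_regular_loc (I : Ideal C)
    (h : ∀ (p : Ideal C) [p.IsPrime], I ≤ p → IsRegularLocalRing (Localization.AtPrime p) ∧
      (2 : WithBot ℕ∞) ≤ ringKrullDim (Localization.AtPrime p)) :
    ∃ a ∈ I, ∃ b ∈ I, IsSMulRegular C a ∧ RegMod a b C := by
  have key : ∀ (p : Ideal C) [p.IsPrime], I ≤ p →
      ((2 : ℕ) : ℕ∞) ≤ LocCoh.depth (Localization.AtPrime p)
        (LocalizedModule p.primeCompl C) := by
    intro p hp hIp
    obtain ⟨hreg, hdim⟩ := h p hIp
    rw [Groth.Agent.Lib.Helper28.depth_localizedModule_self]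
    obtain ⟨f, a, hf, ha, hfreg, hfa⟩ := exists_regular_param_pair (Localization.AtPrime p) hdim
    exact two_le_depth hf ha hfreg hfa
  obtain ⟨fs, hlen, hmem, hreg⟩ :=
    (Groth.Agent.Lib.Helper28.forall_le_depth_localization_iff_exists_isWeaklyRegular
      (R := C) (I := I) (M := C) 2).mp key
  match fs, hlen with
  | [a, b], _ =>
    rw [RingTheory.Sequence.isWeaklyRegular_cons_iff] at hreg
    obtain ⟨ha, h2⟩ := hreg
    rw [RingTheory.Sequence.isWeaklyRegular_cons_iff] at h2
    obtain ⟨hb, -⟩ := h2
    exact ⟨a, hmem a (by simp), b, hmem b (by simp), ha, regMod_of_isSMulRegular_quot hb⟩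

end DepthIdeal

section EtaleLocus

variable {C : Type u} [CommRing C] {R : Type u} [CommRing R] [Algebra C R]

theorem formallyEtale_localization_congr {M M' : Submonoid R} (h : M = M')
    (H : Algebra.FormallyEtale C (Localization M)) : Algebra.FormallyEtale C (Localization M') := by
  subst h
  exact H

/-- (Case A) étaleness over a basic open set of the base. -/
theorem basicOpen_subset_etaleLocus_of_tensor (c : C)
    (h : Algebra.FormallyEtale C (Localization.Away c ⊗[C] R)) :
    (PrimeSpectrum.basicOpen (algebraMap C R c) : Set (PrimeSpectrum R)) ⊆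
      Algebra.etaleLocus C R := by
  rw [Algebra.basicOpen_subset_etaleLocus_iff]
  have e := (Localization.tensorRightAlgEquiv (Submonoid.powers c) R).restrictScalars C
  have h1 : Algebra.FormallyEtale C
      (Localization (Algebra.algebraMapSubmonoid R (Submonoid.powers c))) :=
    Algebra.FormallyEtale.of_equiv e
  exact formallyEtale_localization_congr (Algebra.algebraMapSubmonoid_powers (S := R) c) h1

/-- étaleness at a prime of a localization of `R`, over the localized base. -/
theorem isEtaleAt_localization_iff (p : Ideal C) [p.IsPrime]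
    (Q : Ideal (Localization (Algebra.algebraMapSubmonoid R p.primeCompl))) [Q.IsPrime] :
    Algebra.IsEtaleAt (Localization.AtPrime p) Q ↔
      Algebra.IsEtaleAt C (Q.comap (algebraMap R
        (Localization (Algebra.algebraMapSubmonoid R p.primeCompl)))) := by
  let B := Localization (Algebra.algebraMapSubmonoid R p.primeCompl)
  let T := Localization.AtPrime Q
  haveI : IsLocalization.AtPrime T (Q.comap (algebraMap R B)) :=
    IsLocalization.isLocalization_isLocalization_atPrime_isLocalization
      (Algebra.algebraMapSubmonoid R p.primeCompl) T Q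
  let e : Localization.AtPrime (Q.comap (algebraMap R B)) ≃ₐ[C] T :=
    (IsLocalization.algEquiv (Q.comap (algebraMap R B)).primeCompl _ _).restrictScalars C
  show Algebra.FormallyEtale (Localization.AtPrime p) T ↔
    Algebra.FormallyEtale C (Localization.AtPrime (Q.comap (algebraMap R B)))
  rw [Algebra.FormallyEtale.iff_of_equiv e]
  constructor
  · intro h
    haveI : Algebra.FormallyEtale C (Localization.AtPrime p) :=
      Algebra.FormallyEtale.of_isLocalization p.primeCompl
    exact Algebra.FormallyEtale.comp C (Localization.AtPrime p) T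
  · intro h
    exact Algebra.FormallyEtale.localization_base p.primeCompl

theorem regular_pair_tensor_of_flat (T : Type u) [CommRing T] [Algebra C T] [Module.Flat C T]
    {M : Type u} [AddCommGroup M] [Module C M] {a b : C}
    (hreg : IsSMulRegular M a) (hab : RegMod a b M) :
    IsSMulRegular (T ⊗[C] M) a ∧ RegMod a b (T ⊗[C] M) := by
  refine ⟨isSMulRegular_tensor_of_flat T hreg, ?_⟩
  have h1 : IsSMulRegular (T ⊗[C] QuotSMulTop a M) b :=
    isSMulRegular_tensor_of_flat T (isSMulRegular_quot_of_regMod hab)
  have h2 : IsSMulRegular (QuotSMulTop a (T ⊗[C] M)) b := by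
    let e := QuotSMulTop.tensorQuotSMulTopEquivQuotSMulTop a T M
    intro q q' hqq
    apply e.symm.injective
    apply h1
    show b • e.symm q = b • e.symm q'
    rw [← map_smul, ← map_smul]
    exact congrArg _ hqq
  exact regMod_of_isSMulRegular_quot h2

end EtaleLocus

section Main

variable {C : Type u} [CommRing C] [IsNoetherianRing C] {R : Type u} [CommRing R] [Algebra C R]
  [Module.Finite C R]

/-- the local step: étaleness at the primes over `p`, given étaleness over all smaller primes. -/
theorem isEtaleAt_of_forall_lt (p : Ideal C) [p.IsPrime]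
    (hreg : IsRegularLocalRing (Localization.AtPrime p))
    (hdim : (2 : WithBot ℕ∞) ≤ ringKrullDim (Localization.AtPrime p))
    {a b : C} (ha : a ∈ p) (hb : b ∈ p) (hregR : IsSMulRegular R a) (hab : RegMod a b R)
    (IH : ∀ q' : Ideal R, ∀ _ : q'.IsPrime, q'.comap (algebraMap C R) < p →
      Algebra.IsEtaleAt C q')
    (q : Ideal R) [q.IsPrime] (hq : q.comap (algebraMap C R) = p) : Algebra.IsEtaleAt C q := by
  let A := Localization.AtPrime p
  let M' := Algebra.algebraMapSubmonoid R p.primeCompl
  let B := Localization M'
  haveI : Module.Finite A B := Module.Finite.of_isLocalization C R p.primeCompl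
  haveI : IsNoetherianRing A := IsLocalization.isNoetherianRing p.primeCompl A inferInstance
  haveI : Module.FinitePresentation A B := Module.finitePresentation_of_finite A B
  haveI : Algebra.FinitePresentation A B :=
    Algebra.FinitePresentation.of_finiteType.mp inferInstance
  have hmap : ∀ {c : C}, c ∈ p → algebraMap C A c ∈ maximalIdeal A := fun hc =>
    (IsLocalization.AtPrime.to_map_mem_maximal_iff A p _).mpr hc
  -- étaleness on the punctured spectrum
  have hEt : ∀ s₀ ∈ p, Algebra.Etale A
      (Localization.Away (algebraMap A B (algebraMap C A s₀))) := by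
    intro s₀ hs₀
    rw [← Algebra.basicOpen_subset_etaleLocus_iff_etale]
    intro Q hQ
    rw [Algebra.mem_etaleLocus_iff, isEtaleAt_localization_iff]
    apply IH _ inferInstance
    have hcomap : (Q.asIdeal.comap (algebraMap R B)).comap (algebraMap C R) =
        (Q.asIdeal.comap (algebraMap A B)).comap (algebraMap C A) := by
      rw [Ideal.comap_comap, Ideal.comap_comap, ← IsScalarTower.algebraMap_eq,
        ← IsScalarTower.algebraMap_eq]
    rw [hcomap]
    refine lt_of_le_of_ne ?_ ?_
    · intro c hc
      by_contra hcp
      have hu : IsUnit (algebraMap C A c) :=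
        IsLocalization.map_units A (⟨c, hcp⟩ : p.primeCompl)
      exact (Ideal.IsPrime.comap (algebraMap A B) (hK := Q.isPrime)).ne_top
        (Ideal.eq_top_of_isUnit_mem _ hc hu)
    · intro heq
      have h1 : s₀ ∈ (Q.asIdeal.comap (algebraMap A B)).comap (algebraMap C A) := by
        rw [heq]; exact hs₀
      exact hQ h1
  -- the purity data
  have hPD : PurityData A B := by
    refine ⟨inferInstance, ?_, ?_, ?_⟩
    · obtain ⟨h1, h2⟩ := regular_pair_tensor_of_flat A hregR hab
      let ε : (A ⊗[C] R) ≃ₗ[A] B := (Localization.tensorRightAlgEquiv p.primeCompl R).toLinearEquiv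
      have hsm : ∀ (c : C) (y : B), algebraMap C A c • y = c • y := fun c y => algebraMap_smul A c y
      have hsm' : ∀ (c : C) (z : A ⊗[C] R), algebraMap C A c • z = c • z :=
        fun c z => algebraMap_smul A c z
      refine ⟨algebraMap C A a, hmap ha, algebraMap C A b, hmap hb, ?_, ?_⟩
      · intro y y' hyy
        apply ε.symm.injective
        apply h1
        show a • ε.symm y = a • ε.symm y'
        rw [← hsm', ← hsm', ← map_smul, ← map_smul]
        exact congrArg _ hyy
      · intro y z hyz
        obtain ⟨w, hw⟩ := h2 (ε.symm y) (ε.symm z) (by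
          rw [← hsm', ← hsm', ← map_smul, ← map_smul, hyz])
        refine ⟨ε w, ?_⟩
        rw [← map_smul, hsm', ← hw, ε.apply_symm_apply]
    · rw [← Localization.AtPrime.map_eq_maximalIdeal, Ideal.map_le_iff_le_comap]
      intro s₀ hs₀
      haveI := hEt s₀ hs₀
      exact mem_radical_diffIdeal_of_formallyUnramified (algebraMap C A s₀)
    · rw [← Localization.AtPrime.map_eq_maximalIdeal, Ideal.map_le_iff_le_comap]
      intro s₀ hs₀
      haveI := hEt s₀ hs₀
      exact mem_radical_projIdeal_of_flat (algebraMap C A s₀)
  haveI hBet : Algebra.Etale A B := purity_algebraic A hdim B hPD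
  -- the prime of `B` over `q`
  have hdisj : Disjoint (M' : Set R) (q : Set R) := by
    rw [Set.disjoint_left]
    rintro _ ⟨c, hc, rfl⟩ hcq
    have : c ∈ q.comap (algebraMap C R) := hcq
    rw [hq] at this
    exact hc this
  haveI hQprime : (Ideal.map (algebraMap R B) q).IsPrime :=
    IsLocalization.isPrime_of_isPrime_disjoint M' B q inferInstance hdisj
  have hQcomap : (Ideal.map (algebraMap R B) q).comap (algebraMap R B) = q :=
    IsLocalization.comap_map_of_isPrime_disjoint M' B inferInstance hdisj
  have h3 : Algebra.IsEtaleAt A (Ideal.map (algebraMap R B) q) :=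
    inferInstanceAs (Algebra.FormallyEtale A (Localization.AtPrime (Ideal.map (algebraMap R B) q)))
  rw [isEtaleAt_localization_iff] at h3
  have h4 : ∀ (q₁ q₂ : Ideal R) [q₁.IsPrime] [q₂.IsPrime], q₁ = q₂ →
      Algebra.IsEtaleAt C q₁ → Algebra.IsEtaleAt C q₂ := by
    intro q₁ q₂ _ _ h12 h
    subst h12
    exact h
  exact h4 _ q hQcomap h3

end Main

section Global

variable {C : Type u} [CommRing C] [IsNoetherianRing C] {ι : Type} [Finite ι] (x : ι → C)

/-- **Purity for rings of sections, global form.** -/
theorem finite_etale_of_sections_of_regular_loc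
    (hregloc : ∀ (p : Ideal C) [p.IsPrime], Ideal.span (Set.range x) ≤ p →
      IsRegularLocalRing (Localization.AtPrime p) ∧
        (2 : WithBot ℕ∞) ≤ ringKrullDim (Localization.AtPrime p))
    (R : Type u) [CommRing R] [Algebra C R]
    (hbij : Function.Bijective (toSec x R))
    (hfin : ∀ i, Module.Finite (Loc x i) (Loc x i ⊗[C] R))
    (het : ∀ i, Algebra.Etale C (Loc x i ⊗[C] R)) :
    Module.Finite C R ∧ Algebra.Etale C R := by
  obtain ⟨a, ha, b, hb, hreg, hab⟩ :=
    exists_regular_pair_of_regular_loc (Ideal.span (Set.range x)) hregloc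
  haveI hfinR : Module.Finite C R :=
    finite_of_sections_of_regular_pair x (Ideal.le_radical ha) (Ideal.le_radical hb) hreg hab R
      hbij hfin (fun i => by haveI := het i; infer_instance)
  refine ⟨hfinR, ?_⟩
  haveI : Module.FinitePresentation C R := Module.finitePresentation_of_finite C R
  haveI : Algebra.FinitePresentation C R :=
    Algebra.FinitePresentation.of_finiteType.mp inferInstance
  let e : R ≃ₗ[C] Sec x R := LinearEquiv.ofBijective (toSec x R) hbij
  haveI : Module.Finite C (Sec x R) := Module.Finite.equiv e
  -- depth of `R` along the ideal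
  obtain ⟨a₁, ha₁, b₁, hb₁, hreg₁, hab₁⟩ := exists_regular_pair_sec_ideal x R hbij.1
  have hregR : IsSMulRegular R a₁ := by
    intro y y' hyy
    apply e.injective
    apply hreg₁
    show a₁ • e y = a₁ • e y'
    rw [← map_smul, ← map_smul]
    exact congrArg _ hyy
  have habR : RegMod a₁ b₁ R := RegMod.of_linearEquiv e.symm hab₁
  -- induction on the height
  have key : ∀ n : ℕ, ∀ (q : Ideal R) [q.IsPrime],
      (q.comap (algebraMap C R)).height = n → Algebra.IsEtaleAt C q := by
    intro n
    induction n using Nat.strong_induction_on with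
    | _ n IH =>
      intro q hq hn
      by_cases hI : Ideal.span (Set.range x) ≤ q.comap (algebraMap C R)
      · obtain ⟨hr, hd⟩ := hregloc (q.comap (algebraMap C R)) hI
        refine isEtaleAt_of_forall_lt (q.comap (algebraMap C R)) hr hd (hI ha₁) (hI hb₁)
          hregR habR ?_ q rfl
        intro q' hq' hlt
        haveI := hq'
        have h1 : (q'.comap (algebraMap C R)).height < (q.comap (algebraMap C R)).height :=
          Ideal.height_strict_mono_of_isPrime hlt
        have h2 : (q'.comap (algebraMap C R)).height ≠ ⊤ := Ideal.height_ne_top_of_isPrime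
        obtain ⟨m, hm⟩ := ENat.ne_top_iff_exists.mp h2
        rw [hn, ← hm] at h1
        exact IH m (by exact_mod_cast h1) q' hm.symm
      · rw [Ideal.span_le, Set.not_subset] at hI
        obtain ⟨_, ⟨i, rfl⟩, hi⟩ := hI
        have h1 := basicOpen_subset_etaleLocus_of_tensor (R := R) (x i)
          (by haveI := het i; infer_instance)
        exact h1 (show (⟨q, hq⟩ : PrimeSpectrum R) ∈ PrimeSpectrum.basicOpen _ from hi)
  rw [← Algebra.etaleLocus_eq_univ_iff_etale, Set.eq_univ_iff_forall]
  intro q
  have h2 : (q.asIdeal.comap (algebraMap C R)).height ≠ ⊤ := Ideal.height_ne_top_of_isPrime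
  obtain ⟨m, hm⟩ := ENat.ne_top_iff_exists.mp h2
  exact key m q.asIdeal hm.symm

end Global

end Groth.Agent.Lib.T2H3.Purity
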