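import Mathlib

/-!
# The sheaf condition for a cover by basic open sets of global sections, in elementary form
-/

set_option autoImplicit false
set_option linter.unusedSectionVars false
set_option linter.style.haveILetI false
universe u

open AlgebraicGeometry CategoryTheory CategoryTheory.Limits TopologicalSpace Opposite

namespace Groth.Agent.Lib.T2H3.PuritySch

theorem glue_aux {S : Type*} [CommRing S] (Yi Yj Wi Wj a b : S) (ki kj N : ℕ)
    (hi : Yi * Wi = 1) (hj : Yj * Wj = 1)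
    (h : (Yi * Yj) ^ N * (Yj ^ kj * a - Yi ^ ki * b) = 0) : a * Wi ^ ki = b * Wj ^ kj := by
  have hiK : Yi ^ ki * Wi ^ ki = 1 := by rw [← mul_pow, hi, one_pow]
  have hjK : Yj ^ kj * Wj ^ kj = 1 := by rw [← mul_pow, hj, one_pow]
  have hN : (Yi * Yj) ^ N * (Wi * Wj) ^ N = 1 := by
    rw [← mul_pow]
    have : Yi * Yj * (Wi * Wj) = 1 := by linear_combination (Yj * Wj) * hi + hj
    rw [this, one_pow]
  have h1 : Yj ^ kj * a = Yi ^ ki * b := by
    linear_combination (Wi * Wj) ^ N * h - (Yj ^ kj * a - Yi ^ ki * b) * hN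
  linear_combination (-(a * Wi ^ ki)) * hjK + (Wi ^ ki * Wj ^ kj) * h1 + (b * Wj ^ kj) * hiK

section Sheaf

variable {Z : Scheme.{u}} {ι : Type*} (y : ι → Γ(Z, ⊤))

/-- restriction from global sections to a basic open. -/
noncomputable abbrev res (f : Γ(Z, ⊤)) : Γ(Z, ⊤) →+* Γ(Z, Z.basicOpen f) :=
  (Z.presheaf.map (homOfLE (le_top : Z.basicOpen f ≤ ⊤)).op).hom

theorem isUnit_res (f : Γ(Z, ⊤)) : IsUnit (res f f) :=
  RingedSpace.isUnit_res_basicOpen _ f

theorem res_eq_zero_of_pow_mul {f r : Γ(Z, ⊤)} {N : ℕ} (h : f ^ N * r = 0) : res f r = 0 := by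
  have h1 : res f f ^ N * res f r = 0 := by rw [← map_pow, ← map_mul, h, map_zero]
  exact ((isUnit_res f).pow N).mul_right_eq_zero.mp h1

/-- locality. -/
theorem eq_zero_of_forall_pow_mul (hcov : (⊤ : Z.Opens) ≤ ⨆ i, Z.basicOpen (y i))
    (r : Γ(Z, ⊤)) (h : ∀ i, ∃ N : ℕ, y i ^ N * r = 0) : r = 0 := by
  refine Z.sheaf.eq_of_locally_eq' (fun i => Z.basicOpen (y i)) ⊤ (fun i => homOfLE le_top) hcov
    r 0 ?_
  intro i
  obtain ⟨N, hN⟩ := h i
  have := res_eq_zero_of_pow_mul hN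
  change res (y i) r = res (y i) 0
  rw [this, map_zero]

/-- gluing. -/
theorem exists_glue [CompactSpace Z] (hcov : (⊤ : Z.Opens) ≤ ⨆ i, Z.basicOpen (y i))
    (k : ι → ℕ) (r : ι → Γ(Z, ⊤))
    (h : ∀ i j, ∃ N : ℕ, (y i * y j) ^ N * (y j ^ k j * r i - y i ^ k i * r j) = 0) :
    ∃ m : Γ(Z, ⊤), ∀ i, ∃ N : ℕ, y i ^ N * (y i ^ k i * m - r i) = 0 := by
  let W : ∀ i, Γ(Z, Z.basicOpen (y i)) := fun i => ↑((isUnit_res (y i)).unit⁻¹)
  have hW : ∀ i, res (y i) (y i) * W i = 1 := fun i => (isUnit_res (y i)).mul_val_inv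
  let sf : ∀ i, Γ(Z, Z.basicOpen (y i)) := fun i => res (y i) (r i) * W i ^ k i
  have hcompat : TopCat.Presheaf.IsCompatible Z.presheaf (fun i => Z.basicOpen (y i)) sf := by
    intro i j
    obtain ⟨N, hN⟩ := h i j
    let ρL : Γ(Z, Z.basicOpen (y i)) →+* Γ(Z, Z.basicOpen (y i) ⊓ Z.basicOpen (y j)) :=
      (Z.presheaf.map (Opens.infLELeft (Z.basicOpen (y i)) (Z.basicOpen (y j))).op).hom
    let ρR : Γ(Z, Z.basicOpen (y j)) →+* Γ(Z, Z.basicOpen (y i) ⊓ Z.basicOpen (y j)) :=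
      (Z.presheaf.map (Opens.infLERight (Z.basicOpen (y i)) (Z.basicOpen (y j))).op).hom
    let ρ : Γ(Z, ⊤) →+* Γ(Z, Z.basicOpen (y i) ⊓ Z.basicOpen (y j)) :=
      (Z.presheaf.map (homOfLE (le_top : Z.basicOpen (y i) ⊓ Z.basicOpen (y j) ≤ ⊤)).op).hom
    have hL : ∀ s, ρL (res (y i) s) = ρ s := by
      intro s
      change (Z.presheaf.map _ ≫ Z.presheaf.map _) s = _
      rw [← Z.presheaf.map_comp]
      rfl
    have hR : ∀ s, ρR (res (y j) s) = ρ s := by
      intro s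
      change (Z.presheaf.map _ ≫ Z.presheaf.map _) s = _
      rw [← Z.presheaf.map_comp]
      rfl
    change ρL (sf i) = ρR (sf j)
    simp only [sf, map_mul, map_pow, hL, hR]
    apply glue_aux (ρ (y i)) (ρ (y j)) (ρL (W i)) (ρR (W j)) (ρ (r i)) (ρ (r j)) (k i) (k j) N
    · rw [← hL, ← map_mul, hW, map_one]
    · rw [← hR, ← map_mul, hW, map_one]
    · have := congrArg ρ hN
      simpa only [map_mul, map_pow, map_sub, map_zero] using this
  have hex : ∃ m : Γ(Z, ⊤), ∀ i, res (y i) m = sf i := by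
    obtain ⟨m, hm, -⟩ := Z.sheaf.existsUnique_gluing' (fun i => Z.basicOpen (y i)) ⊤
      (fun i => homOfLE le_top) hcov sf hcompat
    exact ⟨m, hm⟩
  obtain ⟨m, hm⟩ := hex
  refine ⟨m, fun i => ?_⟩
  have hmi : res (y i) m = sf i := hm i
  have H : res (y i) (y i ^ k i * m - r i) = 0 := by
    have hK : res (y i) (y i) ^ k i * W i ^ k i = 1 := by rw [← mul_pow, hW, one_pow]
    rw [map_sub, map_mul, map_pow, hmi]
    simp only [sf]
    linear_combination (res (y i) (r i)) * hK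
  exact exists_pow_mul_eq_zero_of_res_basicOpen_eq_zero_of_isCompact Z (U := ⊤) isCompact_univ
    (y i ^ k i * m - r i) (y i) H

end Sheaf

end Groth.Agent.Lib.T2H3.PuritySch
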