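import Mathlib
import Groth.Prelude.Def_FEt
import Groth.Agent.Lib.Helper26FEtAffine

/-!
# Finite étale covers of the punctured spectrum: the ring of global sections

For a finite étale cover `V` of the punctured spectrum `U` of a Noetherian local ring `A` with
`Γ(Spec A, ⊤) → Γ(U, ⊤)` bijective, `V` is the pullback of `Spec Γ(V, ⊤) → Spec A`.
-/

set_option autoImplicit false
set_option linter.unusedSectionVars false
set_option linter.style.haveILetI false
universe u

open AlgebraicGeometry CategoryTheory CategoryTheory.Limits TopologicalSpace Opposite TensorProduct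

namespace Groth.Agent.Lib.T2H3.PuritySch

section Punct

variable (A : Type u) [CommRing A] [IsLocalRing A]

theorem compactSpace_punctured [IsNoetherianRing A] :
    CompactSpace ((FEt.puncturedSpec A : Scheme.{u})) := by
  have : IsCompact ((FEt.puncturedSpec A : (Spec (CommRingCat.of A)).Opens) :
      Set (Spec (CommRingCat.of A))) := TopologicalSpace.NoetherianSpace.isCompact _
  exact isCompact_iff_compactSpace.mp this

theorem isQuasiAffine_punctured [IsNoetherianRing A] :
    ((FEt.puncturedSpec A : Scheme.{u})).IsQuasiAffine := by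
  haveI := compactSpace_punctured A
  exact .of_isImmersion (FEt.puncturedSpec A).ι

variable (V : FEt.Cat (FEt.puncturedSpec A : Scheme.{u}))

/-- the structure morphism `V → U`. -/
noncomputable abbrev str : V.left ⟶ (FEt.puncturedSpec A : Scheme.{u}) := V.hom

/-- the structure map on global sections `A → Γ(V, ⊤)`. -/
noncomputable def secHom : A →+* Γ(V.left, ⊤) :=
  ((V.hom ≫ (FEt.puncturedSpec A).ι).appTop).hom.comp
    (Scheme.ΓSpecIso (CommRingCat.of A)).inv.hom

/-- the ring of global sections of `V`, as an `A`-algebra. -/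
def SecRing : Type u := Γ(V.left, ⊤)

noncomputable instance : CommRing (SecRing A V) := inferInstanceAs (CommRing Γ(V.left, ⊤))

noncomputable instance : Algebra A (SecRing A V) := (secHom A V).toAlgebra

theorem algebraMap_secRing : algebraMap A (SecRing A V) = secHom A V := rfl

/-- `Spec Γ(V, ⊤) → Spec A`. -/
noncomputable abbrev specSec : Spec (CommRingCat.of (SecRing A V)) ⟶ Spec (CommRingCat.of A) :=
  Spec.map (CommRingCat.ofHom (algebraMap A (SecRing A V)))

/-- `V → Spec Γ(V, ⊤)`. -/
noncomputable abbrev toSpecSec : V.left ⟶ Spec (CommRingCat.of (SecRing A V)) :=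
  V.left.toSpecΓ

/-- `V` is the pullback of `Spec Γ(V, ⊤) → Spec A` to the punctured spectrum. -/
theorem isPullback_specSec [IsNoetherianRing A]
    (hH : Function.Bijective ((FEt.puncturedSpec A).ι.appTop)) :
    IsPullback (toSpecSec A V) (str A V) (specSec A V) (FEt.puncturedSpec A).ι := by
  haveI := isQuasiAffine_punctured A
  haveI : IsFinite (str A V) := V.prop.1
  have sq1 := Scheme.isPullback_toSpecΓ_toSpecΓ (str A V)
  haveI : IsIso ((FEt.puncturedSpec A).ι.appTop) :=
    (ConcreteCategory.isIso_iff_bijective _).mpr hH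
  let α : Spec Γ((FEt.puncturedSpec A : Scheme.{u}), ⊤) ⟶ Spec (CommRingCat.of A) :=
    Spec.map ((FEt.puncturedSpec A).ι.appTop) ≫
      Spec.map (Scheme.ΓSpecIso (CommRingCat.of A)).inv
  have hcomm : (FEt.puncturedSpec A : Scheme.{u}).toSpecΓ ≫ α = (FEt.puncturedSpec A).ι := by
    simp only [α]
    rw [← Category.assoc, ← Scheme.toSpecΓ_naturality, Category.assoc,
      toSpecΓ_SpecMap_ΓSpecIso_inv, Category.comp_id]
  have sq2 : IsPullback (𝟙 (FEt.puncturedSpec A : Scheme.{u}))
      (FEt.puncturedSpec A : Scheme.{u}).toSpecΓ (FEt.puncturedSpec A).ι α :=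
    IsPullback.of_horiz_isIso ⟨by rw [Category.id_comp, hcomm]⟩
  have sq3 := sq1.paste_horiz sq2
  rw [Category.comp_id] at sq3
  have hΦ : Spec.map (str A V).appTop ≫ α = specSec A V := by
    simp only [α, specSec]
    rw [← Spec.map_comp, ← Spec.map_comp]
    congr 1
  rw [hΦ] at sq3
  exact sq3.flip

open Groth.Agent.Lib.Helper26.FEtAffine in
/-- over `D(a)`, `a ∈ 𝔪`, the map `Spec Γ(V, ⊤) → Spec A` is finite étale. -/
theorem prop_specMap_loc [IsNoetherianRing A]
    (hH : Function.Bijective ((FEt.puncturedSpec A).ι.appTop))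
    (a : A) (ha : a ∈ IsLocalRing.maximalIdeal A) :
    FEt.prop (Spec.map (CommRingCat.ofHom (algebraMap (Localization.Away a)
      (Localization.Away a ⊗[A] SecRing A V)))) := by
  have hPB := isPullback_specSec A V hH
  -- `D(a) → Spec A` factors through the punctured spectrum
  have hrange : Set.range (bc A (Localization.Away a)) ⊆ Set.range (FEt.puncturedSpec A).ι := by
    rw [Scheme.Opens.range_ι]
    rintro _ ⟨p, rfl⟩
    change _ ∈ ({IsLocalRing.closedPoint A}ᶜ : Set (PrimeSpectrum A))
    intro hp
    have h1 : (bc A (Localization.Away a)) p ∈ Set.range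
        (PrimeSpectrum.comap (algebraMap A (Localization.Away a))) := ⟨p, rfl⟩
    rw [PrimeSpectrum.localization_away_comap_range (Localization.Away a) a] at h1
    rw [Set.mem_singleton_iff.mp hp] at h1
    exact h1 ha
  let j : Spec (CommRingCat.of (Localization.Away a)) ⟶ (FEt.puncturedSpec A : Scheme.{u}) :=
    IsOpenImmersion.lift (FEt.puncturedSpec A).ι (bc A (Localization.Away a)) hrange
  have hj : j ≫ (FEt.puncturedSpec A).ι = bc A (Localization.Away a) :=
    IsOpenImmersion.lift_fac _ _ hrange
  have big : IsPullback (pullback.fst (specSec A V) (bc A (Localization.Away a)))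
      (pullback.snd (specSec A V) (bc A (Localization.Away a))) (specSec A V)
      (j ≫ (FEt.puncturedSpec A).ι) := by
    rw [hj]
    exact IsPullback.of_hasPullback _ _
  have left := IsPullback.of_right' big hPB
  have h1 : FEt.prop (pullback.snd (specSec A V) (bc A (Localization.Away a))) :=
    MorphismProperty.of_isPullback left V.prop
  have h2 := pbIso_inv_snd A (Localization.Away a) (SecRing A V)
  rw [← h2]
  exact (MorphismProperty.cancel_left_of_respectsIso FEt.prop _ _).mpr h1

theorem finite_loc [IsNoetherianRing A]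
    (hH : Function.Bijective ((FEt.puncturedSpec A).ι.appTop))
    (a : A) (ha : a ∈ IsLocalRing.maximalIdeal A) :
    Module.Finite (Localization.Away a) (Localization.Away a ⊗[A] SecRing A V) := by
  have := (prop_specMap_loc A V hH a ha).1
  rw [IsFinite.SpecMap_iff] at this
  exact RingHom.finite_algebraMap.mp this

theorem etale_loc [IsNoetherianRing A]
    (hH : Function.Bijective ((FEt.puncturedSpec A).ι.appTop))
    (a : A) (ha : a ∈ IsLocalRing.maximalIdeal A) :
    Algebra.Etale (Localization.Away a) (Localization.Away a ⊗[A] SecRing A V) := by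
  have := (prop_specMap_loc A V hH a ha).2
  rw [HasRingHomProperty.Spec_iff (P := @Etale)] at this
  exact RingHom.etale_algebraMap.mp this

theorem etale_loc' [IsNoetherianRing A]
    (hH : Function.Bijective ((FEt.puncturedSpec A).ι.appTop))
    (a : A) (ha : a ∈ IsLocalRing.maximalIdeal A) :
    Algebra.Etale A (Localization.Away a ⊗[A] SecRing A V) := by
  haveI := etale_loc A V hH a ha
  haveI : Algebra.Etale A (Localization.Away a) := Algebra.Etale.of_isLocalizationAway a
  exact Algebra.Etale.comp A (Localization.Away a) _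

end Punct

end Groth.Agent.Lib.T2H3.PuritySch
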