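import Groth.Agent.Lib.T2H3PurityO
import Groth.Agent.Lib.T2H3PuritySchA
import Groth.Agent.Lib.T2H3PuritySchB
import Groth.Agent.S0258

/-!
# Purity for finite étale covers of the punctured spectrum of a regular local ring
-/

set_option autoImplicit false
set_option linter.unusedSectionVars false
set_option linter.style.haveILetI false
universe u

open AlgebraicGeometry CategoryTheory CategoryTheory.Limits TopologicalSpace Opposite TensorProduct
open IsLocalRing

namespace Groth.Agent.Lib.T2H3.PuritySch

open Groth.Agent.Lib.T2H3.Purity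

section Punct

variable (A : Type u) [CommRing A] [IsLocalRing A]
  (V : FEt.Cat (FEt.puncturedSpec A : Scheme.{u}))

theorem le_iSup_basicOpen {n : ℕ} (x : Fin n → A)
    (hx : Ideal.span (Set.range x) = maximalIdeal A) :
    (⊤ : V.left.Opens) ≤ ⨆ i, V.left.basicOpen (algebraMap A (SecRing A V) (x i)) := by
  intro v _
  let f : V.left ⟶ Spec (CommRingCat.of A) := str A V ≫ (FEt.puncturedSpec A).ι
  have hp : f v ∈ (FEt.puncturedSpec A) := by
    have : f v = ((FEt.puncturedSpec A).ι) ((str A V) v) := rfl
    rw [this]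
    exact ((str A V) v).2
  have hp' : f v ≠ closedPoint A := hp
  have hex : ∃ i, x i ∉ (f v : PrimeSpectrum A).asIdeal := by
    by_contra hcon
    push Not at hcon
    apply hp'
    have h1 : maximalIdeal A ≤ (f v : PrimeSpectrum A).asIdeal := by
      rw [← hx, Ideal.span_le]
      rintro _ ⟨i, rfl⟩
      exact hcon i
    have h2 : (f v : PrimeSpectrum A).asIdeal = maximalIdeal A :=
      ((maximalIdeal.isMaximal A).eq_of_le (f v : PrimeSpectrum A).isPrime.ne_top h1).symm
    exact PrimeSpectrum.ext h2
  obtain ⟨i, hi⟩ := hex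
  refine Opens.mem_iSup.mpr ⟨i, ?_⟩
  have h3 : f v ∈ (Spec (CommRingCat.of A)).basicOpen
      ((Scheme.ΓSpecIso (CommRingCat.of A)).inv (x i)) := by
    rw [basicOpen_eq_of_affine]
    exact hi
  have h4 : v ∈ f ⁻¹ᵁ (Spec (CommRingCat.of A)).basicOpen
      ((Scheme.ΓSpecIso (CommRingCat.of A)).inv (x i)) := h3
  rw [Scheme.preimage_basicOpen_top] at h4
  exact h4

theorem toSec_bijective_secRing [IsNoetherianRing A] {n : ℕ} (x : Fin n → A)
    (hx : Ideal.span (Set.range x) = maximalIdeal A) :
    Function.Bijective (toSec x (SecRing A V)) := by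
  haveI := compactSpace_punctured A
  haveI : IsFinite (str A V) := V.prop.1
  haveI : CompactSpace V.left := QuasiCompact.compactSpace_of_compactSpace (str A V)
  let y : Fin n → Γ(V.left, ⊤) := fun i => algebraMap A (SecRing A V) (x i)
  have hcov := le_iSup_basicOpen A V x hx
  have hsm : ∀ (c : A) (r : SecRing A V), c • r = (algebraMap A (SecRing A V) c) * r :=
    fun c r => Algebra.smul_def c r
  constructor
  · apply toSec_injective_of_local
    intro r hr
    refine eq_zero_of_forall_pow_mul y hcov r (fun i => ?_)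
    obtain ⟨N, hN⟩ := hr i
    refine ⟨N, ?_⟩
    rw [hsm, map_pow] at hN
    exact hN
  · apply toSec_surjective_of_glue
    intro k r h
    obtain ⟨m, hm⟩ := exists_glue y hcov k r (fun i j => by
      obtain ⟨N, hN⟩ := h i j
      refine ⟨N, ?_⟩
      rw [hsm, hsm, hsm, map_pow, map_pow, map_pow, map_mul] at hN
      exact hN)
    refine ⟨m, fun i => ?_⟩
    obtain ⟨N, hN⟩ := hm i
    refine ⟨N, ?_⟩
    rw [hsm, hsm, map_pow, map_pow]
    exact hN

end Punct

open Groth.Agent.Lib.Helper26.FEtAffine in
/-- **Purity** (Zariski–Nagata, scheme form): every finite étale cover of the punctured spectrum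
of a regular local ring of dimension `≥ 2` extends to a finite étale cover of the spectrum. -/
theorem purityHolds_of_regular (A : Type u) [CommRing A] [IsRegularLocalRing A]
    (h : (2 : WithBot ℕ∞) ≤ ringKrullDim A) : FEt.PurityHolds A := by
  obtain ⟨f, a, hf, ha, hfreg, hfa⟩ := exists_regular_param_pair A h
  have hdepth : (2 : ℕ∞) ≤ LocCoh.depth A A := two_le_depth hf ha hfreg hfa
  have hH : Function.Bijective ((FEt.puncturedSpec A).ι.appTop) :=
    Groth.Agent.S0258.bijective_app_punctured A hdepth ⊤
  obtain ⟨n, x, hx⟩ := Submodule.fg_iff_exists_fin_generating_family.mp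
    (maximalIdeal A).fg_of_isNoetherianRing
  have hx' : Ideal.span (Set.range x) = maximalIdeal A := hx
  have hxm : ∀ i, x i ∈ maximalIdeal A := fun i => hx' ▸ Ideal.subset_span ⟨i, rfl⟩
  constructor
  intro V
  obtain ⟨hfin, het⟩ := finite_etale_of_sections A x (SecRing A V) h hx'
    (toSec_bijective_secRing A V x hx')
    (fun i => finite_loc A V hH (x i) (hxm i)) (fun i => etale_loc' A V hH (x i) (hxm i))
  haveI := hfin
  haveI := het
  refine ⟨std A (SecRing A V), ⟨?_⟩⟩
  have hPB := isPullback_specSec A V hH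
  exact MorphismProperty.Over.isoMk hPB.isoPullback.symm (hPB.isoPullback_inv_snd)

end Groth.Agent.Lib.T2H3.PuritySch
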