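import Groth.Agent.Lib.T2H3PuritySchC
import Groth.Agent.Lib.Helper28Normal

/-!
# Finite étale covers of the punctured spectrum of a normal local domain
-/

set_option autoImplicit false
set_option linter.unusedSectionVars false
set_option linter.style.haveILetI false
universe u

open AlgebraicGeometry CategoryTheory CategoryTheory.Limits TopologicalSpace Opposite TensorProduct
open IsLocalRing

namespace Groth.Agent.Lib.T2H3.PuritySch

open Groth.Agent.Lib.T2H3.Purity Groth.Agent.Lib.Helper26.FEtAffine

section Hartogs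

variable (A : Type u) [CommRing A] [IsLocalRing A]

/-- Hartogs on a finite free cover of `Spec A`: functions extend uniquely from the preimage of the
punctured spectrum. -/
theorem bijective_appTop_pullback_fst {a b : A} (ha : a ∈ maximalIdeal A)
    (hb : b ∈ maximalIdeal A) (hreg : IsSMulRegular A a) (hab : RegMod a b A)
    (B : Type u) [CommRing B] [Algebra A B] [Module.Finite A B] [Module.Free A B] :
    Function.Bijective ((pullback.fst (Spec.map (CommRingCat.ofHom (algebraMap A B)))
      (FEt.puncturedSpec A).ι).appTop) := by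
  let g := pullback.fst (Spec.map (CommRingCat.ofHom (algebraMap A B))) (FEt.puncturedSpec A).ι
  let e : B ≃+* Γ(Spec (CommRingCat.of B), ⊤) :=
    (Scheme.ΓSpecIso (CommRingCat.of B)).symm.commRingCatIsoToRingEquiv
  have hregB : IsSMulRegular B a := isSMulRegular_of_flat hreg
  have habB : RegMod a b B := RegMod.of_free hab
  have ha' : IsSMulRegular Γ(Spec (CommRingCat.of B), ⊤) (e (algebraMap A B a)) := by
    intro x y hxy
    have h1 : a • e.symm x = a • e.symm y := by
      have := congrArg e.symm hxy
      simpa [smul_eq_mul, Algebra.smul_def] using this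
    exact e.symm.injective (hregB h1)
  have hb' : ∀ u : Γ(Spec (CommRingCat.of B), ⊤),
      (∃ v, e (algebraMap A B b) * u = e (algebraMap A B a) * v) →
        ∃ w, u = e (algebraMap A B a) * w := by
    rintro u ⟨v, huv⟩
    obtain ⟨w, hw⟩ := habB (e.symm u) (e.symm v) (by
      have := congrArg e.symm huv
      simpa [smul_eq_mul, Algebra.smul_def] using this)
    refine ⟨e w, ?_⟩
    have := congrArg e hw
    simpa [smul_eq_mul, Algebra.smul_def] using this
  have hD : ∀ c ∈ maximalIdeal A,
      (Spec (CommRingCat.of B)).basicOpen (e (algebraMap A B c)) ≤ g.opensRange ⊓ ⊤ := by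
    intro c hc
    have h1 : (Spec (CommRingCat.of B)).basicOpen (e (algebraMap A B c)) =
        PrimeSpectrum.basicOpen (algebraMap A B c) :=
      basicOpen_eq_of_affine (R := CommRingCat.of B) (algebraMap A B c)
    rw [h1, inf_top_eq, Scheme.Hom.opensRange_pullbackFst, Scheme.Opens.opensRange_ι]
    intro p hp
    change (Spec.map (CommRingCat.ofHom (algebraMap A B))) p ∈
      ({closedPoint A}ᶜ : Set (PrimeSpectrum A))
    intro hcon
    have h2 : c ∈ ((Spec.map (CommRingCat.ofHom (algebraMap A B))) p : PrimeSpectrum A).asIdeal := by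
      rw [Set.mem_singleton_iff.mp hcon]
      exact hc
    exact hp h2
  have hres := Groth.Agent.Lib.Helper22.Hartogs.bijective_res (e (algebraMap A B a))
    (e (algebraMap A B b)) ha' hb' (g.opensRange ⊓ ⊤) (hD a ha) (hD b hb)
  have hfac := IsOpenImmersion.map_ΓIso_inv g ⊤
  have : (g.appTop : Γ(Spec (CommRingCat.of B), ⊤) ⟶ _) = g.app ⊤ := rfl
  rw [this, ← hfac]
  exact ((ConcreteCategory.isIso_iff_bijective _).mp
    (inferInstance : IsIso (IsOpenImmersion.ΓIso g ⊤).inv)).comp hres

end Hartogs

section Normal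

variable (A : Type u) [CommRing A] [IsLocalRing A] [IsNoetherianRing A]
  (V : FEt.Cat (FEt.puncturedSpec A : Scheme.{u}))

/-- if `V` is the restriction of `Spec B`, then `Γ(V, ⊤) ≅ B`. -/
theorem nonempty_algEquiv_of_iso {a b : A} (ha : a ∈ maximalIdeal A)
    (hb : b ∈ maximalIdeal A) (hreg : IsSMulRegular A a) (hab : RegMod a b A)
    (B : Type u) [CommRing B] [Algebra A B] [Module.Finite A B] [Algebra.Etale A B]
    (e : (FEt.restrict (FEt.puncturedSpec A).ι).obj (std A B) ≅ V) :
    Nonempty (B ≃ₐ[A] SecRing A V) := by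
  haveI : Module.Free A B := Module.free_of_flat_of_isLocalRing
  have hB := bijective_appTop_pullback_fst A ha hb hreg hab B
  let φ := Spec.map (CommRingCat.ofHom (algebraMap A B))
  let g := pullback.fst φ (FEt.puncturedSpec A).ι
  have hi1 : e.inv.left ≫ e.hom.left = 𝟙 _ := by
    rw [← MorphismProperty.Comma.comp_left, e.inv_hom_id]; rfl
  have hi2 : e.hom.left ≫ e.inv.left = 𝟙 _ := by
    rw [← MorphismProperty.Comma.comp_left, e.hom_inv_id]; rfl
  let l : V.left ⟶ pullback φ (FEt.puncturedSpec A).ι := e.inv.left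
  haveI : IsIso l := ⟨⟨e.hom.left, hi1, hi2⟩⟩
  have hl : l ≫ pullback.snd φ (FEt.puncturedSpec A).ι = str A V :=
    MorphismProperty.Over.w e.inv
  let ψ : CommRingCat.of B ⟶ Γ(V.left, ⊤) :=
    (Scheme.ΓSpecIso (CommRingCat.of B)).inv ≫ g.appTop ≫ l.appTop
  have hψ : Function.Bijective ψ := by
    have h1 : Function.Bijective (Scheme.ΓSpecIso (CommRingCat.of B)).inv :=
      (ConcreteCategory.isIso_iff_bijective _).mp inferInstance
    have h3' : IsIso l.appTop := inferInstanceAs (IsIso (l.app ⊤))
    have h3 : Function.Bijective l.appTop :=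
      (ConcreteCategory.isIso_iff_bijective _).mp h3'
    exact h3.comp (hB.comp h1)
  have hcomm : CommRingCat.ofHom (algebraMap A B) ≫ ψ = CommRingCat.ofHom (secHom A V) := by
    simp only [ψ]
    rw [← Category.assoc, Scheme.ΓSpecIso_inv_naturality, Category.assoc,
      ← Scheme.Hom.comp_appTop, ← Scheme.Hom.comp_appTop]
    have h4 : (l ≫ g) ≫ φ = str A V ≫ (FEt.puncturedSpec A).ι := by
      rw [← hl, Category.assoc, Category.assoc, pullback.condition]
    rw [h4]
    rfl
  let ψ' : B →ₐ[A] SecRing A V :=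
    { ψ.hom with
      commutes' := fun c => by
        have := congrArg (fun t => t.hom c) hcomm
        exact this }
  exact ⟨AlgEquiv.ofBijective ψ' hψ⟩

open Groth.Agent.Lib.Helper28 in
/-- finiteness of the sections and the extension criterion. -/
theorem finite_and_extends_iff [IsDomain A] [IsIntegrallyClosed A]
    (hdim : (2 : WithBot ℕ∞) ≤ ringKrullDim A) :
    (secHom A V).Finite ∧
      ((∃ Y : FEt.Cat (Spec (CommRingCat.of A)),
        Nonempty ((FEt.restrict (FEt.puncturedSpec A).ι).obj Y ≅ V)) ↔ (secHom A V).Etale) := by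
  have hdepth : (2 : ℕ∞) ≤ LocCoh.depth A A :=
    two_le_depth_of_isIntegrallyClosed_of_two_le_dim hdim
  obtain ⟨a, ha, b, hb, hreg, hab'⟩ :=
    Groth.Agent.Lib.Helper20.IsoDepth.exists_regular_pair (O := A) (M' := A) hdepth
  have hab : RegMod a b A := fun y z h => hab' y ⟨z, h⟩
  have hH : Function.Bijective ((FEt.puncturedSpec A).ι.appTop) :=
    Groth.Agent.S0258.bijective_app_punctured A hdepth ⊤
  obtain ⟨n, x, hx⟩ := Submodule.fg_iff_exists_fin_generating_family.mp
    (maximalIdeal A).fg_of_isNoetherianRing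
  have hx' : Ideal.span (Set.range x) = maximalIdeal A := hx
  have hxm : ∀ i, x i ∈ maximalIdeal A := fun i => hx' ▸ Ideal.subset_span ⟨i, rfl⟩
  have hrad : ∀ {c : A}, c ∈ maximalIdeal A → c ∈ (Ideal.span (Set.range x)).radical :=
    fun hc => Ideal.le_radical (hx'.symm ▸ hc)
  haveI hfin : Module.Finite A (SecRing A V) :=
    finite_of_sections_of_regular_pair x (hrad ha) (hrad hb) hreg hab (SecRing A V)
      (toSec_bijective_secRing A V x hx') (fun i => finite_loc A V hH (x i) (hxm i))
      (fun i => by haveI := etale_loc' A V hH (x i) (hxm i); infer_instance)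
  refine ⟨RingHom.finite_algebraMap.mpr hfin, ⟨?_, ?_⟩⟩
  · rintro ⟨Y, ⟨e⟩⟩
    obtain ⟨B, _, _, _, _, ⟨α⟩⟩ := exists_iso_std A Y
    obtain ⟨ε⟩ := nonempty_algEquiv_of_iso A V ha hb hreg hab B
      ((FEt.restrict (FEt.puncturedSpec A).ι).mapIso α.symm ≪≫ e)
    haveI : Algebra.Etale A (SecRing A V) := Algebra.Etale.of_equiv ε
    exact (RingHom.etale_algebraMap (R := A) (S := SecRing A V)).mpr inferInstance
  · intro het
    haveI : Algebra.Etale A (SecRing A V) := RingHom.etale_algebraMap.mp het
    refine ⟨std A (SecRing A V), ⟨?_⟩⟩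
    have hPB := isPullback_specSec A V hH
    exact MorphismProperty.Over.isoMk hPB.isoPullback.symm (hPB.isoPullback_inv_snd)

end Normal

end Groth.Agent.Lib.T2H3.PuritySch
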