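import Groth.Agent.Lib.T2H3PurityP
import Groth.Agent.Lib.T2H3PuritySchA
import Groth.Agent.Lib.Helper26FEtAffine
import Groth.Agent.Lib.Helper22Hartogs

/-!
# Finite étale covers of a quasi-compact open of an affine scheme: the ring of global sections

General-open versions of `T2H3PuritySchB/C`: `C` a Noetherian ring, `U` an open of `Spec C` which
is the union of the basic opens `D(x i)`, `V` a finite étale cover of `U`.
-/

set_option autoImplicit false
set_option linter.unusedSectionVars false
set_option linter.style.haveILetI false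
universe u

open AlgebraicGeometry CategoryTheory CategoryTheory.Limits TopologicalSpace Opposite TensorProduct

namespace Groth.Agent.Lib.T2H3.PuritySchG

open Groth.Agent.Lib.T2H3.Purity Groth.Agent.Lib.T2H3.PuritySch

section Open

variable (C : Type u) [CommRing C] (U : (Spec (CommRingCat.of C)).Opens)

theorem compactSpace_open [IsNoetherianRing C] : CompactSpace ((U : Scheme.{u})) := by
  have : IsCompact ((U : (Spec (CommRingCat.of C)).Opens) :
      Set (Spec (CommRingCat.of C))) := TopologicalSpace.NoetherianSpace.isCompact _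
  exact isCompact_iff_compactSpace.mp this

theorem isQuasiAffine_open [IsNoetherianRing C] : ((U : Scheme.{u})).IsQuasiAffine := by
  haveI := compactSpace_open C U
  exact .of_isImmersion U.ι

variable (V : FEt.Cat (U : Scheme.{u}))

/-- the structure morphism `V → U`. -/
noncomputable abbrev str : V.left ⟶ (U : Scheme.{u}) := V.hom

/-- the structure map on global sections `C → Γ(V, ⊤)`. -/
noncomputable def secHom : C →+* Γ(V.left, ⊤) :=
  ((V.hom ≫ U.ι).appTop).hom.comp (Scheme.ΓSpecIso (CommRingCat.of C)).inv.hom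

/-- the ring of global sections of `V`, as a `C`-algebra. -/
def SecRing : Type u := Γ(V.left, ⊤)

noncomputable instance : CommRing (SecRing C U V) := inferInstanceAs (CommRing Γ(V.left, ⊤))

noncomputable instance : Algebra C (SecRing C U V) := (secHom C U V).toAlgebra

theorem algebraMap_secRing : algebraMap C (SecRing C U V) = secHom C U V := rfl

/-- `Spec Γ(V, ⊤) → Spec C`. -/
noncomputable abbrev specSec : Spec (CommRingCat.of (SecRing C U V)) ⟶ Spec (CommRingCat.of C) :=
  Spec.map (CommRingCat.ofHom (algebraMap C (SecRing C U V)))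

/-- `V → Spec Γ(V, ⊤)`. -/
noncomputable abbrev toSpecSec : V.left ⟶ Spec (CommRingCat.of (SecRing C U V)) :=
  V.left.toSpecΓ

/-- `V` is the pullback of `Spec Γ(V, ⊤) → Spec C` to `U`. -/
theorem isPullback_specSec [IsNoetherianRing C]
    (hH : Function.Bijective (U.ι.appTop)) :
    IsPullback (toSpecSec C U V) (str C U V) (specSec C U V) U.ι := by
  haveI := isQuasiAffine_open C U
  haveI : IsFinite (str C U V) := V.prop.1
  have sq1 := Scheme.isPullback_toSpecΓ_toSpecΓ (str C U V)
  haveI : IsIso (U.ι.appTop) := (ConcreteCategory.isIso_iff_bijective _).mpr hH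
  let α : Spec Γ((U : Scheme.{u}), ⊤) ⟶ Spec (CommRingCat.of C) :=
    Spec.map (U.ι.appTop) ≫ Spec.map (Scheme.ΓSpecIso (CommRingCat.of C)).inv
  have hcomm : (U : Scheme.{u}).toSpecΓ ≫ α = U.ι := by
    simp only [α]
    rw [← Category.assoc, ← Scheme.toSpecΓ_naturality, Category.assoc,
      toSpecΓ_SpecMap_ΓSpecIso_inv, Category.comp_id]
  have sq2 : IsPullback (𝟙 (U : Scheme.{u})) (U : Scheme.{u}).toSpecΓ U.ι α :=
    IsPullback.of_horiz_isIso ⟨by rw [Category.id_comp, hcomm]⟩
  have sq3 := sq1.paste_horiz sq2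
  rw [Category.comp_id] at sq3
  have hΦ : Spec.map (str C U V).appTop ≫ α = specSec C U V := by
    simp only [α, specSec]
    rw [← Spec.map_comp, ← Spec.map_comp]
    congr 1
  rw [hΦ] at sq3
  exact sq3.flip

open Groth.Agent.Lib.Helper26.FEtAffine in
/-- over `D(a) ⊆ U`, the map `Spec Γ(V, ⊤) → Spec C` is finite étale. -/
theorem prop_specMap_loc [IsNoetherianRing C]
    (hH : Function.Bijective (U.ι.appTop))
    (a : C) (ha : ∀ p : PrimeSpectrum C, a ∉ p.asIdeal → p ∈ U) :
    FEt.prop (Spec.map (CommRingCat.ofHom (algebraMap (Localization.Away a)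
      (Localization.Away a ⊗[C] SecRing C U V)))) := by
  have hPB := isPullback_specSec C U V hH
  have hrange : Set.range (bc C (Localization.Away a)) ⊆ Set.range U.ι := by
    rw [Scheme.Opens.range_ι]
    rintro _ ⟨p, rfl⟩
    apply ha
    have h1 : (bc C (Localization.Away a)) p ∈ Set.range
        (PrimeSpectrum.comap (algebraMap C (Localization.Away a))) := ⟨p, rfl⟩
    rw [PrimeSpectrum.localization_away_comap_range (Localization.Away a) a] at h1
    exact h1
  let j : Spec (CommRingCat.of (Localization.Away a)) ⟶ (U : Scheme.{u}) :=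
    IsOpenImmersion.lift U.ι (bc C (Localization.Away a)) hrange
  have hj : j ≫ U.ι = bc C (Localization.Away a) := IsOpenImmersion.lift_fac _ _ hrange
  have big : IsPullback (pullback.fst (specSec C U V) (bc C (Localization.Away a)))
      (pullback.snd (specSec C U V) (bc C (Localization.Away a))) (specSec C U V)
      (j ≫ U.ι) := by
    rw [hj]
    exact IsPullback.of_hasPullback _ _
  have left := IsPullback.of_right' big hPB
  have h1 : FEt.prop (pullback.snd (specSec C U V) (bc C (Localization.Away a))) :=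
    MorphismProperty.of_isPullback left V.prop
  have h2 := pbIso_inv_snd C (Localization.Away a) (SecRing C U V)
  rw [← h2]
  exact (MorphismProperty.cancel_left_of_respectsIso FEt.prop _ _).mpr h1

theorem finite_loc [IsNoetherianRing C] (hH : Function.Bijective (U.ι.appTop))
    (a : C) (ha : ∀ p : PrimeSpectrum C, a ∉ p.asIdeal → p ∈ U) :
    Module.Finite (Localization.Away a) (Localization.Away a ⊗[C] SecRing C U V) := by
  have := (prop_specMap_loc C U V hH a ha).1
  rw [IsFinite.SpecMap_iff] at this
  exact RingHom.finite_algebraMap.mp this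

theorem etale_loc' [IsNoetherianRing C] (hH : Function.Bijective (U.ι.appTop))
    (a : C) (ha : ∀ p : PrimeSpectrum C, a ∉ p.asIdeal → p ∈ U) :
    Algebra.Etale C (Localization.Away a ⊗[C] SecRing C U V) := by
  have := (prop_specMap_loc C U V hH a ha).2
  rw [HasRingHomProperty.Spec_iff (P := @Etale)] at this
  haveI : Algebra.Etale (Localization.Away a) (Localization.Away a ⊗[C] SecRing C U V) :=
    RingHom.etale_algebraMap.mp this
  haveI : Algebra.Etale C (Localization.Away a) := Algebra.Etale.of_isLocalizationAway a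
  exact Algebra.Etale.comp C (Localization.Away a) _

theorem le_iSup_basicOpen {n : ℕ} (x : Fin n → C)
    (hx : ∀ p : PrimeSpectrum C, p ∈ U → ∃ i, x i ∉ p.asIdeal) :
    (⊤ : V.left.Opens) ≤ ⨆ i, V.left.basicOpen (algebraMap C (SecRing C U V) (x i)) := by
  intro v _
  let f : V.left ⟶ Spec (CommRingCat.of C) := str C U V ≫ U.ι
  have hp : f v ∈ U := by
    have : f v = (U.ι) ((str C U V) v) := rfl
    rw [this]
    exact ((str C U V) v).2
  obtain ⟨i, hi⟩ := hx (f v) hp
  refine Opens.mem_iSup.mpr ⟨i, ?_⟩
  have h3 : f v ∈ (Spec (CommRingCat.of C)).basicOpen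
      ((Scheme.ΓSpecIso (CommRingCat.of C)).inv (x i)) := by
    rw [basicOpen_eq_of_affine]
    exact hi
  have h4 : v ∈ f ⁻¹ᵁ (Spec (CommRingCat.of C)).basicOpen
      ((Scheme.ΓSpecIso (CommRingCat.of C)).inv (x i)) := h3
  rw [Scheme.preimage_basicOpen_top] at h4
  exact h4

theorem toSec_bijective_secRing [IsNoetherianRing C] {n : ℕ} (x : Fin n → C)
    (hx : ∀ p : PrimeSpectrum C, p ∈ U → ∃ i, x i ∉ p.asIdeal) :
    Function.Bijective (toSec x (SecRing C U V)) := by
  haveI := compactSpace_open C U
  haveI : IsFinite (str C U V) := V.prop.1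
  haveI : CompactSpace V.left := QuasiCompact.compactSpace_of_compactSpace (str C U V)
  let y : Fin n → Γ(V.left, ⊤) := fun i => algebraMap C (SecRing C U V) (x i)
  have hcov := le_iSup_basicOpen C U V x hx
  have hsm : ∀ (c : C) (r : SecRing C U V), c • r = (algebraMap C (SecRing C U V) c) * r :=
    fun c r => Algebra.smul_def c r
  constructor
  · apply toSec_injective_of_local
    intro r hr
    refine eq_zero_of_forall_pow_mul y hcov r (fun i => ?_)
    obtain ⟨N, hN⟩ := hr i
    refine ⟨N, ?_⟩
    rw [hsm, map_pow] at hN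
    exact hN
  · apply toSec_surjective_of_glue
    intro k r h
    obtain ⟨m, hm⟩ := exists_glue y hcov k r (fun i j => by
      obtain ⟨N, hN⟩ := h i j
      refine ⟨N, ?_⟩
      rw [hsm, hsm, hsm, map_pow, map_pow, map_pow, map_mul] at hN
      exact hN)
    refine ⟨m, fun i => ?_⟩
    obtain ⟨N, hN⟩ := hm i
    refine ⟨N, ?_⟩
    rw [hsm, hsm, map_pow, map_pow]
    exact hN

/-- Hartogs from a regular pair. -/
theorem bijective_appTop_of_regular_pair {a b : C}
    (ha : ∀ p : PrimeSpectrum C, a ∉ p.asIdeal → p ∈ U)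
    (hb : ∀ p : PrimeSpectrum C, b ∉ p.asIdeal → p ∈ U)
    (hreg : IsSMulRegular C a) (hab : RegMod a b C) :
    Function.Bijective (U.ι.appTop) := by
  let e : C ≃+* Γ(Spec (CommRingCat.of C), ⊤) :=
    (Scheme.ΓSpecIso (CommRingCat.of C)).symm.commRingCatIsoToRingEquiv
  have ha' : IsSMulRegular Γ(Spec (CommRingCat.of C), ⊤) (e a) := by
    intro y z hyz
    have h1 : a • e.symm y = a • e.symm z := by
      have := congrArg e.symm hyz
      simpa [smul_eq_mul] using this
    exact e.symm.injective (hreg h1)
  have hb' : ∀ u : Γ(Spec (CommRingCat.of C), ⊤), (∃ v, e b * u = e a * v) →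
      ∃ w, u = e a * w := by
    rintro u ⟨v, huv⟩
    obtain ⟨w, hw⟩ := hab (e.symm u) (e.symm v) (by
      have := congrArg e.symm huv
      simpa [smul_eq_mul] using this)
    refine ⟨e w, ?_⟩
    have := congrArg e hw
    simpa [smul_eq_mul] using this
  have hD : ∀ c : C, (∀ p : PrimeSpectrum C, c ∉ p.asIdeal → p ∈ U) →
      (Spec (CommRingCat.of C)).basicOpen (e c) ≤ U.ι ''ᵁ (U.ι ⁻¹ᵁ ⊤) := by
    intro c hc
    have h1 : (Spec (CommRingCat.of C)).basicOpen (e c) = PrimeSpectrum.basicOpen c :=
      basicOpen_eq_of_affine (R := CommRingCat.of C) c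
    rw [h1]
    intro p hp
    have hp' : p ∈ U := hc p hp
    simpa using hp'
  have : (U.ι.appTop : Γ(Spec (CommRingCat.of C), ⊤) ⟶ _) = U.ι.app ⊤ := rfl
  rw [this, Scheme.Opens.ι_app]
  exact Groth.Agent.Lib.Helper22.Hartogs.bijective_res (e a) (e b) ha' hb' _ (hD a ha) (hD b hb)

/-- **Purity over an affine base**: if the local rings of `Spec C` at the points outside `U` are
regular of dimension `≥ 2`, the ring of sections of a finite étale cover of `U` is finite étale
over `C`, and functions on `U` extend. -/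
theorem finite_etale_secRing [IsNoetherianRing C] {n : ℕ} (x : Fin n → C)
    (hx1 : ∀ i, ∀ p : PrimeSpectrum C, x i ∉ p.asIdeal → p ∈ U)
    (hx2 : ∀ p : PrimeSpectrum C, p ∈ U → ∃ i, x i ∉ p.asIdeal)
    (hregloc : ∀ (p : Ideal C) [hp : p.IsPrime], (⟨p, hp⟩ : PrimeSpectrum C) ∉ U →
      IsRegularLocalRing (Localization.AtPrime p) ∧
        (2 : WithBot ℕ∞) ≤ ringKrullDim (Localization.AtPrime p)) :
    Function.Bijective (U.ι.appTop) ∧ Module.Finite C (SecRing C U V) ∧
      Algebra.Etale C (SecRing C U V) := by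
  have hregloc' : ∀ (p : Ideal C) [p.IsPrime], Ideal.span (Set.range x) ≤ p →
      IsRegularLocalRing (Localization.AtPrime p) ∧
        (2 : WithBot ℕ∞) ≤ ringKrullDim (Localization.AtPrime p) := by
    intro p hp hle
    apply hregloc p
    intro hpU
    obtain ⟨i, hi⟩ := hx2 _ hpU
    exact hi (hle (Ideal.subset_span ⟨i, rfl⟩))
  have hmem : ∀ c ∈ Ideal.span (Set.range x), ∀ p : PrimeSpectrum C, c ∉ p.asIdeal → p ∈ U := by
    intro c hc p hcp
    by_contra hpU
    apply hcp
    have hle : Ideal.span (Set.range x) ≤ p.asIdeal := by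
      rw [Ideal.span_le]
      rintro _ ⟨i, rfl⟩
      by_contra hi
      exact hpU (hx1 i p hi)
    exact hle hc
  obtain ⟨a, ha, b, hb, hreg, hab⟩ :=
    exists_regular_pair_of_regular_loc (Ideal.span (Set.range x)) hregloc'
  have hH : Function.Bijective (U.ι.appTop) :=
    bijective_appTop_of_regular_pair C U (hmem a ha) (hmem b hb) hreg hab
  refine ⟨hH, ?_⟩
  exact finite_etale_of_sections_of_regular_loc x hregloc' (SecRing C U V)
    (toSec_bijective_secRing C U V x hx2)
    (fun i => finite_loc C U V hH (x i) (hx1 i)) (fun i => etale_loc' C U V hH (x i) (hx1 i))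

end Open

end Groth.Agent.Lib.T2H3.PuritySchG
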