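import Groth.Agent.Lib.T2H3PuritySchE

/-!
# Global purity: extension of finite étale covers across a closed subset of codimension `≥ 2`
of a regular Noetherian scheme, via the relative normalization
-/

set_option autoImplicit false
set_option linter.unusedSectionVars false
set_option linter.style.haveILetI false
universe u

open AlgebraicGeometry CategoryTheory CategoryTheory.Limits TopologicalSpace Opposite TensorProduct

namespace Groth.Agent.Lib.T2H3.PuritySchG

open Groth.Agent.Lib.T2H3.Purity Groth.Agent.Lib.T2H3.PuritySch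
open Groth.Agent.Lib.Helper26.FEtAffine

section AffineNormalization

variable (C : Type u) [CommRing C] (U : (Spec (CommRingCat.of C)).Opens)
  (V : FEt.Cat (U : Scheme.{u}))

/-- over an affine base, the relative normalization in `V` is `Spec Γ(V, ⊤)` when the latter is
finite étale. -/
theorem prop_fromNormalization_of_finite_etale
    [Module.Finite C (SecRing C U V)] [Algebra.Etale C (SecRing C U V)]
    [QuasiCompact (str C U V ≫ U.ι)] [QuasiSeparated (str C U V ≫ U.ι)] :
    FEt.prop (str C U V ≫ U.ι).fromNormalization := by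
  let S := Spec (CommRingCat.of C)
  let g : V.left ⟶ S := str C U V ≫ U.ι
  let W₀ : S.affineOpens := ⟨⊤, isAffineOpen_top S⟩
  have h1 := g.ι_fromNormalization W₀
  let c := g.normalizationOpenCover.f W₀
  have hc : c.opensRange = ⊤ := by
    rw [← g.fromNormalization_preimage W₀]
    rfl
  haveI : IsIso c := isIso_of_isOpenImmersion_of_opensRange_eq_top c hc
  haveI : IsIso (⊤ : S.Opens).ι := ⟨⟨S.topIso.inv, S.ι_toIso_inv, S.toIso_inv_ι⟩⟩
  haveI : IsIso ((isAffineOpen_top S).fromSpec) := by
    rw [← IsAffineOpen.isoSpec_inv_ι]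
    infer_instance
  letI : Algebra Γ(S, ⊤) Γ(V.left, g ⁻¹ᵁ ⊤) := (g.app ⊤).hom.toAlgebra
  let φ₀ : Γ(S, ⊤) ⟶ CommRingCat.of (integralClosure Γ(S, ⊤) Γ(V.left, g ⁻¹ᵁ ⊤)) :=
    g.normalizationDiagramMap.app (op (⊤ : S.Opens))
  have h2 : g.fromNormalization = inv c ≫ Spec.map φ₀ ≫ (isAffineOpen_top S).fromSpec := by
    rw [IsIso.eq_inv_comp]
    exact h1
  rw [h2, MorphismProperty.cancel_left_of_respectsIso FEt.prop,
    MorphismProperty.cancel_right_of_respectsIso FEt.prop]
  -- the ring level
  show FEt.prop (Spec.map φ₀)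
  let ε : Γ(S, ⊤) ≅ CommRingCat.of C := Scheme.ΓSpecIso (CommRingCat.of C)
  have hfac : (g.app ⊤).hom = (secHom C U V).comp ε.hom.hom := by
    ext t
    show (g.app ⊤).hom t = (g.appTop).hom (ε.inv.hom (ε.hom.hom t))
    have : ε.inv.hom (ε.hom.hom t) = t := by
      have := congrArg (fun m => m.hom t) ε.hom_inv_id
      exact this
    rw [this]
    rfl
  have hsecfin : (secHom C U V).Finite :=
    (RingHom.finite_algebraMap (A := C) (B := SecRing C U V)).mpr inferInstance
  have hfin : (g.app ⊤).hom.Finite := by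
    rw [hfac]
    refine RingHom.Finite.comp hsecfin (RingHom.Finite.of_surjective _ ?_)
    exact ((ConcreteCategory.isIso_iff_bijective ε.hom).mp inferInstance).2
  have hint : Algebra.IsIntegral Γ(S, ⊤) Γ(V.left, g ⁻¹ᵁ ⊤) := ⟨hfin.to_isIntegral⟩
  let κ : CommRingCat.of (integralClosure Γ(S, ⊤) Γ(V.left, g ⁻¹ᵁ ⊤)) ⟶ Γ(V.left, g ⁻¹ᵁ ⊤) :=
    CommRingCat.ofHom (integralClosure Γ(S, ⊤) Γ(V.left, g ⁻¹ᵁ ⊤)).val.toRingHom
  haveI : IsIso κ := by
    rw [ConcreteCategory.isIso_iff_bijective]
    refine ⟨Subtype.val_injective, fun t => ⟨⟨t, ?_⟩, rfl⟩⟩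
    exact Algebra.IsIntegral.isIntegral t
  have hκ : φ₀ ≫ κ = ε.hom ≫ CommRingCat.ofHom (secHom C U V) := by
    ext t
    show (g.app ⊤).hom t = (secHom C U V) (ε.hom.hom t)
    rw [hfac]
    rfl
  have h3 : Spec.map κ ≫ Spec.map φ₀ =
      Spec.map (CommRingCat.ofHom (algebraMap C (SecRing C U V))) ≫ Spec.map ε.hom := by
    rw [← Spec.map_comp, ← Spec.map_comp, hκ]
    rfl
  rw [← MorphismProperty.cancel_left_of_respectsIso FEt.prop (Spec.map κ), h3]
  exact (MorphismProperty.cancel_right_of_respectsIso FEt.prop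
    (Spec.map (CommRingCat.ofHom (algebraMap C (SecRing C U V)))) (Spec.map ε.hom)).mpr
    (prop_specMap C (SecRing C U V))

/-- a variant with the morphism given up to equality. -/
theorem prop_fromNormalization_of_finite_etale'
    [Module.Finite C (SecRing C U V)] [Algebra.Etale C (SecRing C U V)]
    (g : V.left ⟶ Spec (CommRingCat.of C)) (hg : g = str C U V ≫ U.ι)
    [QuasiCompact g] [QuasiSeparated g] : FEt.prop g.fromNormalization := by
  subst hg
  exact prop_fromNormalization_of_finite_etale C U V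

/-- a quasi-compact open of `Spec C` is a finite union of basic opens. -/
theorem exists_family [IsNoetherianRing C] :
    ∃ (n : ℕ) (x : Fin n → C), (∀ i, ∀ p : PrimeSpectrum C, x i ∉ p.asIdeal → p ∈ U) ∧
      (∀ p : PrimeSpectrum C, p ∈ U → ∃ i, x i ∉ p.asIdeal) := by
  have hcl : IsClosed ((U : Set (Spec (CommRingCat.of C)))ᶜ : Set (PrimeSpectrum C)) :=
    U.2.isClosed_compl
  obtain ⟨I, hI⟩ := (PrimeSpectrum.isClosed_iff_zeroLocus_ideal _).mp hcl
  obtain ⟨n, x, hx⟩ := Submodule.fg_iff_exists_fin_generating_family.mp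
    (IsNoetherian.noetherian I)
  have hx' : Ideal.span (Set.range x) = I := hx
  have hmem : ∀ p : PrimeSpectrum C, p ∈ U ↔ ¬ I ≤ p.asIdeal := by
    intro p
    have h1 : p ∈ ((U : Set (Spec (CommRingCat.of C)))ᶜ : Set (PrimeSpectrum C)) ↔
        p ∈ PrimeSpectrum.zeroLocus (I : Set C) := by rw [hI]
    rw [PrimeSpectrum.mem_zeroLocus, Set.mem_compl_iff] at h1
    constructor
    · intro hp hle
      exact (h1.mpr hle) hp
    · intro hle
      by_contra hp
      exact hle (h1.mp hp)
  refine ⟨n, x, ?_, ?_⟩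
  · intro i p hi
    rw [hmem]
    intro hle
    exact hi (hle (hx' ▸ Ideal.subset_span ⟨i, rfl⟩))
  · intro p hp
    rw [hmem, ← hx', Ideal.span_le, Set.not_subset] at hp
    obtain ⟨_, ⟨i, rfl⟩, hi⟩ := hp
    exact ⟨i, hi⟩

end AffineNormalization

section BaseChange

variable {X : Scheme.{u}} (U : X.Opens) (V : FEt.Cat (U : Scheme.{u}))

/-- the composite `V → U → X`. -/
noncomputable abbrev total : V.left ⟶ X := V.hom ≫ U.ι

variable {S : Scheme.{u}} (j : S ⟶ X)

/-- the base change of `V → U` to `j⁻¹ U`. -/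
noncomputable def bcHom : pullback (total U V) j ⟶ ((j ⁻¹ᵁ U : S.Opens) : Scheme.{u}) :=
  (isPullback_morphismRestrict j U).lift (pullback.fst (total U V) j ≫ V.hom)
    (pullback.snd (total U V) j) (by rw [Category.assoc, pullback.condition])

theorem bcHom_ι : bcHom U V j ≫ (j ⁻¹ᵁ U).ι = pullback.snd (total U V) j :=
  IsPullback.lift_snd _ _ _ _

theorem isPullback_bcHom :
    IsPullback (pullback.fst (total U V) j) (bcHom U V j) V.hom (j ∣_ U) :=
  IsPullback.of_bot' (IsPullback.of_hasPullback (total U V) j) (isPullback_morphismRestrict j U)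

/-- the base change of `V`, as a finite étale cover of `j⁻¹ U`. -/
noncomputable def bcObj : FEt.Cat ((j ⁻¹ᵁ U : S.Opens) : Scheme.{u}) :=
  MorphismProperty.Over.mk ⊤ (bcHom U V j)
    (MorphismProperty.of_isPullback (isPullback_bcHom U V j) V.prop)

end BaseChange

section Global

/-- the local ring of `Spec C` at `p`, as a localization, is isomorphic to the local ring of `X`
at the image of `p` under an open immersion. -/
theorem nonempty_ringEquiv_stalk {X : Scheme.{u}} (C : Type u) [CommRing C]
    (j : Spec (CommRingCat.of C) ⟶ X) [IsOpenImmersion j] (p : Spec (CommRingCat.of C)) :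
    Nonempty (X.presheaf.stalk (j p) ≃+* Localization.AtPrime p.asIdeal) := by
  let k : Algebra C ↑((Spec (CommRingCat.of C)).presheaf.stalk p) :=
    StructureSheaf.stalkAlgebra C p
  have : IsLocalization.AtPrime (↑((Spec (CommRingCat.of C)).presheaf.stalk p)) p.asIdeal :=
    StructureSheaf.IsLocalization.to_stalk C p
  let e1 : X.presheaf.stalk (j p) ≃+* (Spec (CommRingCat.of C)).presheaf.stalk p :=
    (asIso (j.stalkMap p)).commRingCatIsoToRingEquiv
  let e2 : ((Spec (CommRingCat.of C)).presheaf.stalk p) ≃ₐ[C] Localization.AtPrime p.asIdeal :=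
    IsLocalization.algEquiv p.asIdeal.primeCompl _ _
  exact ⟨e1.trans e2.toRingEquiv⟩

variable {X : Scheme.{u}} [IsNoetherian X] (U : X.Opens) (V : FEt.Cat (U : Scheme.{u}))

theorem quasiCompact_total : QuasiCompact (total U V) := by
  haveI : IsFinite V.hom := V.prop.1
  infer_instance

theorem quasiSeparated_total : QuasiSeparated (total U V) := by
  haveI : IsFinite V.hom := V.prop.1
  infer_instance

/-- over an affine open `Spec C → X`, the relative normalization of `X` in `V` is finite étale. -/
theorem prop_pullback_snd_fromNormalization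
    (hreg : ∀ x : X, IsRegularLocalRing (X.presheaf.stalk x))
    (hU : ∀ x : X, x ∉ U → (2 : WithBot ℕ∞) ≤ ringKrullDim (X.presheaf.stalk x))
    (C : Type u) [CommRing C] (j : Spec (CommRingCat.of C) ⟶ X) [IsOpenImmersion j]
    [QuasiCompact (total U V)] [QuasiSeparated (total U V)] :
    FEt.prop (pullback.snd (total U V).fromNormalization j) := by
  haveI : IsNoetherianRing C := by
    have : IsLocallyNoetherian (Spec (CommRingCat.of C)) :=
      isLocallyNoetherian_of_isOpenImmersion j
    exact isLocallyNoetherian_Spec.mp this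
  let Us : (Spec (CommRingCat.of C)).Opens := j ⁻¹ᵁ U
  let Vs : FEt.Cat (Us : Scheme.{u}) := bcObj U V j
  obtain ⟨n, x, hx1, hx2⟩ := exists_family C Us
  have hregloc : ∀ (p : Ideal C) [hp : p.IsPrime], (⟨p, hp⟩ : PrimeSpectrum C) ∉ Us →
      IsRegularLocalRing (Localization.AtPrime p) ∧
        (2 : WithBot ℕ∞) ≤ ringKrullDim (Localization.AtPrime p) := by
    intro p hp hpU
    let P : Spec (CommRingCat.of C) := ⟨p, hp⟩
    obtain ⟨e⟩ := nonempty_ringEquiv_stalk C j P
    haveI := hreg (j P)
    refine ⟨IsRegularLocalRing.of_ringEquiv e, ?_⟩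
    rw [← ringKrullDim_eq_of_ringEquiv e]
    exact hU (j P) hpU
  obtain ⟨hH, hfin, het⟩ := finite_etale_secRing C Us Vs x hx1 hx2 hregloc
  have h1 : FEt.prop (pullback.snd (total U V) j).fromNormalization :=
    @prop_fromNormalization_of_finite_etale' C _ Us Vs hfin het (pullback.snd (total U V) j)
      (bcHom_ι U V j).symm (inferInstanceAs (QuasiCompact (pullback.snd (total U V) j)))
      (inferInstanceAs (QuasiSeparated (pullback.snd (total U V) j)))
  rw [← Scheme.Hom.normalizationPullback_snd] at h1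
  exact (MorphismProperty.cancel_left_of_respectsIso FEt.prop _ _).mp h1

/-- the relative normalization of `X` in a finite étale cover of `U` is finite étale over `X`. -/
theorem prop_fromNormalization
    (hreg : ∀ x : X, IsRegularLocalRing (X.presheaf.stalk x))
    (hU : ∀ x : X, x ∉ U → (2 : WithBot ℕ∞) ≤ ringKrullDim (X.presheaf.stalk x))
    [QuasiCompact (total U V)] [QuasiSeparated (total U V)] :
    FEt.prop (total U V).fromNormalization := by
  let 𝒰 := X.affineOpenCover
  have key : ∀ i, FEt.prop (pullback.snd (total U V).fromNormalization (𝒰.f i)) := fun i =>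
    @prop_pullback_snd_fromNormalization X _ U V hreg hU (𝒰.X i) _ (𝒰.f i)
      (inferInstanceAs (IsOpenImmersion (𝒰.f i))) _ _
  constructor
  · rw [IsZariskiLocalAtTarget.iff_of_openCover (P := @IsFinite) 𝒰.openCover]
    intro i
    exact (key i).1
  · rw [IsZariskiLocalAtTarget.iff_of_openCover (P := @Etale) 𝒰.openCover]
    intro i
    exact (key i).2

/-- the restriction to `U` of the relative normalization is the original cover. -/
theorem exists_iso_pullback_fromNormalization
    [QuasiCompact (total U V)] [QuasiSeparated (total U V)] :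
    ∃ Θ : V.left ≅ pullback (total U V).fromNormalization U.ι,
      Θ.hom ≫ pullback.snd (total U V).fromNormalization U.ι = V.hom := by
  let f := total U V
  have hV : IsPullback (𝟙 V.left) V.hom f U.ι :=
    IsPullback.of_horiz_isIso_mono ⟨by rw [Category.id_comp]⟩
  haveI : IsFinite V.hom := V.prop.1
  haveI : IsFinite (pullback.snd f U.ι) := by
    rw [← hV.isoPullback_inv_snd]
    infer_instance
  let t := (pullback.snd f U.ι).toNormalization
  let e₃ := f.normalizationPullback U.ι
  refine ⟨hV.isoPullback ≪≫ asIso t ≪≫ asIso e₃, ?_⟩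
  simp only [Iso.trans_hom, asIso_hom, Category.assoc]
  rw [Scheme.Hom.normalizationPullback_snd, Scheme.Hom.toNormalization_fromNormalization,
    hV.isoPullback_hom_snd]

/-- **Purity, essential surjectivity**: every finite étale cover of `U` extends to `X`. -/
theorem essSurj_restrict
    (hreg : ∀ x : X, IsRegularLocalRing (X.presheaf.stalk x))
    (hU : ∀ x : X, x ∉ U → (2 : WithBot ℕ∞) ≤ ringKrullDim (X.presheaf.stalk x)) :
    (FEt.restrict U.ι).EssSurj := by
  constructor
  intro V
  haveI := quasiCompact_total U V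
  haveI := quasiSeparated_total U V
  let W : FEt.Cat X := MorphismProperty.Over.mk ⊤ (total U V).fromNormalization
    (prop_fromNormalization U V hreg hU)
  obtain ⟨Θ, hΘ⟩ := exists_iso_pullback_fromNormalization U V
  refine ⟨W, ⟨MorphismProperty.Over.isoMk Θ.symm ?_⟩⟩
  rw [Iso.symm_hom, Iso.inv_comp_eq]
  exact hΘ.symm

end Global

end Groth.Agent.Lib.T2H3.PuritySchG
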