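import Groth.Agent.Lib.T2H3PuritySchF
import Groth.Agent.Lib.Helper28Normal
import Groth.Agent.Lib.Helper28DepthMore

/-!
# Finite `(S₂)`-extensions of finite étale covers across a closed subset of depth `≥ 2`

For a locally Noetherian scheme `X`, an open `U` with `depth 𝒪_{X,x} ≥ 2` outside `U` and a finite
étale cover `V → U`, the relative normalization of `X` in `V` is finite over `X`, restricts to `V`
and has depth `≥ 2` at the points over `X ∖ U`.
-/

set_option autoImplicit false
set_option linter.unusedSectionVars false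
set_option linter.style.haveILetI false
universe u
open AlgebraicGeometry CategoryTheory CategoryTheory.Limits TopologicalSpace Opposite TensorProduct

namespace Groth.Agent.Lib.T2H3.PuritySchG

open Groth.Agent.Lib.T2H3.Purity Groth.Agent.Lib.T2H3.PuritySch
open Groth.Agent.Lib.Helper26.FEtAffine

section AffineFinite

variable (C : Type u) [CommRing C] (U : (Spec (CommRingCat.of C)).Opens)
  (V : FEt.Cat (U : Scheme.{u}))

theorem specMap_ΓSpecIso_fromSpec_top :
    Spec.map (Scheme.ΓSpecIso (CommRingCat.of C)).hom ≫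
      (isAffineOpen_top (Spec (CommRingCat.of C))).fromSpec = 𝟙 _ := by
  rw [IsAffineOpen.fromSpec_top, Scheme.isoSpec_Spec_inv, ← Spec.map_comp, Iso.inv_hom_id,
    Spec.map_id]

/-- over an affine base, the relative normalization in `V` is `Spec Γ(V, ⊤)` when the latter is
finite. -/
theorem exists_iso_normalization_of_finite
    [Module.Finite C (SecRing C U V)]
    [QuasiCompact (str C U V ≫ U.ι)] [QuasiSeparated (str C U V ≫ U.ι)] :
    ∃ ι : Spec (CommRingCat.of (SecRing C U V)) ≅ (str C U V ≫ U.ι).normalization,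
      ι.hom ≫ (str C U V ≫ U.ι).fromNormalization = specSec C U V := by
  let S := Spec (CommRingCat.of C)
  let g : V.left ⟶ S := str C U V ≫ U.ι
  let W₀ : S.affineOpens := ⟨⊤, isAffineOpen_top S⟩
  have h1 := g.ι_fromNormalization W₀
  letI : Algebra Γ(S, ⊤) Γ(V.left, g ⁻¹ᵁ ⊤) := (g.app ⊤).hom.toAlgebra
  let c₀ := g.normalizationOpenCover.f W₀
  have hc : c₀.opensRange = ⊤ := by
    rw [← g.fromNormalization_preimage W₀]
    rfl
  haveI : IsIso c₀ := isIso_of_isOpenImmersion_of_opensRange_eq_top c₀ hc
  let c : Spec (CommRingCat.of (integralClosure Γ(S, ⊤) Γ(V.left, g ⁻¹ᵁ ⊤))) ⟶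
    g.normalization := c₀
  haveI : IsIso c := ‹IsIso c₀›
  let φ₀ : Γ(S, ⊤) ⟶ CommRingCat.of (integralClosure Γ(S, ⊤) Γ(V.left, g ⁻¹ᵁ ⊤)) :=
    g.normalizationDiagramMap.app (op (⊤ : S.Opens))
  let ε : Γ(S, ⊤) ≅ CommRingCat.of C := Scheme.ΓSpecIso (CommRingCat.of C)
  have hfac : (g.app ⊤).hom = (secHom C U V).comp ε.hom.hom := by
    ext t
    show (g.app ⊤).hom t = (g.appTop).hom (ε.inv.hom (ε.hom.hom t))
    have : ε.inv.hom (ε.hom.hom t) = t := by
      have := congrArg (fun m => m.hom t) ε.hom_inv_id
      exact this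
    rw [this]
    rfl
  have hsecfin : (secHom C U V).Finite :=
    (RingHom.finite_algebraMap (A := C) (B := SecRing C U V)).mpr inferInstance
  have hfin : (g.app ⊤).hom.Finite := by
    rw [hfac]
    refine RingHom.Finite.comp hsecfin (RingHom.Finite.of_surjective _ ?_)
    exact ((ConcreteCategory.isIso_iff_bijective ε.hom).mp inferInstance).2
  have hint : Algebra.IsIntegral Γ(S, ⊤) Γ(V.left, g ⁻¹ᵁ ⊤) := ⟨hfin.to_isIntegral⟩
  let κ : CommRingCat.of (integralClosure Γ(S, ⊤) Γ(V.left, g ⁻¹ᵁ ⊤)) ⟶ Γ(V.left, g ⁻¹ᵁ ⊤) :=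
    CommRingCat.ofHom (integralClosure Γ(S, ⊤) Γ(V.left, g ⁻¹ᵁ ⊤)).val.toRingHom
  haveI : IsIso κ := by
    rw [ConcreteCategory.isIso_iff_bijective]
    refine ⟨Subtype.val_injective, fun t => ⟨⟨t, ?_⟩, rfl⟩⟩
    exact Algebra.IsIntegral.isIntegral t
  have hκ : φ₀ ≫ κ = ε.hom ≫ CommRingCat.ofHom (secHom C U V) := by
    ext t
    show (g.app ⊤).hom t = (secHom C U V) (ε.hom.hom t)
    rw [hfac]
    rfl
  have h3 : Spec.map κ ≫ Spec.map φ₀ =
      Spec.map (CommRingCat.ofHom (algebraMap C (SecRing C U V))) ≫ Spec.map ε.hom := by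
    rw [← Spec.map_comp, ← Spec.map_comp, hκ]
    rfl
  let i1 := asIso (Spec.map κ)
  let i2 := asIso c
  let i : Spec (CommRingCat.of (SecRing C U V)) ≅ g.normalization := i1 ≪≫ i2
  refine ⟨i, ?_⟩
  have e1 : c ≫ g.fromNormalization = Spec.map φ₀ ≫ (isAffineOpen_top S).fromSpec := h1
  calc (Spec.map κ ≫ c) ≫ g.fromNormalization
      = Spec.map κ ≫ (c ≫ g.fromNormalization) := Category.assoc _ _ _
    _ = Spec.map κ ≫ (Spec.map φ₀ ≫ (isAffineOpen_top S).fromSpec) := by rw [e1]
    _ = (Spec.map κ ≫ Spec.map φ₀) ≫ (isAffineOpen_top S).fromSpec :=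
        (Category.assoc _ _ _).symm
    _ = (Spec.map (CommRingCat.ofHom (algebraMap C (SecRing C U V))) ≫ Spec.map ε.hom) ≫
          (isAffineOpen_top S).fromSpec := by
        rw [h3]
        rfl
    _ = specSec C U V := by
        rw [Category.assoc, specMap_ΓSpecIso_fromSpec_top, Category.comp_id]

/-- a variant with the morphism given up to equality. -/
theorem exists_iso_normalization_of_finite'
    [Module.Finite C (SecRing C U V)]
    (g : V.left ⟶ Spec (CommRingCat.of C)) (hg : g = str C U V ≫ U.ι)
    [QuasiCompact g] [QuasiSeparated g] :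
    ∃ ι : Spec (CommRingCat.of (SecRing C U V)) ≅ g.normalization,
      ι.hom ≫ g.fromNormalization = specSec C U V := by
  subst hg
  exact exists_iso_normalization_of_finite C U V

end AffineFinite

section RingLevel

variable {C : Type u} [CommRing C] [IsNoetherianRing C]

open RingTheory.Sequence in
/-- a regular pair in `I` when the localizations at the primes containing `I` have depth `≥ 2`. -/
theorem exists_regular_pair_of_depth_loc (I : Ideal C)
    (h : ∀ (p : Ideal C) [p.IsPrime], I ≤ p →
      (2 : ℕ∞) ≤ LocCoh.depth (Localization.AtPrime p) (Localization.AtPrime p)) :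
    ∃ a ∈ I, ∃ b ∈ I, IsSMulRegular C a ∧ RegMod a b C := by
  have key : ∀ (p : Ideal C) [p.IsPrime], I ≤ p →
      ((2 : ℕ) : ℕ∞) ≤ LocCoh.depth (Localization.AtPrime p)
        (LocalizedModule p.primeCompl C) := by
    intro p hp hIp
    rw [Groth.Agent.Lib.Helper28.depth_localizedModule_self]
    exact h p hIp
  obtain ⟨fs, hlen, hmem, hreg⟩ :=
    (Groth.Agent.Lib.Helper28.forall_le_depth_localization_iff_exists_isWeaklyRegular
      (R := C) (I := I) (M := C) 2).mp key
  match fs, hlen with
  | [a, b], _ =>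
    rw [isWeaklyRegular_cons_iff] at hreg
    obtain ⟨ha, h2⟩ := hreg
    rw [isWeaklyRegular_cons_iff] at h2
    obtain ⟨hb, -⟩ := h2
    exact ⟨a, hmem a (by simp), b, hmem b (by simp), ha, regMod_of_isSMulRegular_quot hb⟩

open RingTheory.Sequence in
/-- a finite algebra whose elements are the compatible families of sections over the `D(x i)`
has depth `≥ 2` at all primes containing the `x i`. -/
theorem two_le_depth_localization_of_toSec_bijective {n : ℕ} (x : Fin n → C)
    (R : Type u) [CommRing R] [Algebra C R] [Module.Finite C R]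
    (hbij : Function.Bijective (toSec x R)) (q : Ideal R) [q.IsPrime]
    (hq : ∀ i, algebraMap C R (x i) ∈ q) :
    (2 : ℕ∞) ≤ LocCoh.depth (Localization.AtPrime q) (Localization.AtPrime q) := by
  let e : R ≃ₗ[C] Sec x R := LinearEquiv.ofBijective (toSec x R) hbij
  haveI : Module.Finite C (Sec x R) := Module.Finite.equiv e
  obtain ⟨a₁, ha₁, b₁, hb₁, hreg₁, hab₁⟩ := exists_regular_pair_sec_ideal x R hbij.1
  have hregR : IsSMulRegular R a₁ := by
    intro y y' hyy
    apply e.injective
    apply hreg₁
    show a₁ • e y = a₁ • e y'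
    rw [← LinearEquiv.map_smul, ← LinearEquiv.map_smul]
    exact congrArg _ hyy
  have habR : RegMod a₁ b₁ R := RegMod.of_linearEquiv e.symm hab₁
  haveI : IsNoetherianRing R := Algebra.FiniteType.isNoetherianRing C R
  let φ := algebraMap C R
  have hregR' : IsSMulRegular R (φ a₁) := by
    intro y y' hyy
    apply hregR
    simpa [Algebra.smul_def] using hyy
  have habR' : RegMod (φ a₁) (φ b₁) R := by
    intro y z hyz
    obtain ⟨w, hw⟩ := habR y z (by simpa [Algebra.smul_def] using hyz)
    exact ⟨w, by simpa [Algebra.smul_def] using hw⟩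
  have hw : IsWeaklyRegular R [φ a₁, φ b₁] := by
    rw [isWeaklyRegular_cons_iff, isWeaklyRegular_cons_iff]
    exact ⟨hregR', isSMulRegular_quot_of_regMod habR', IsWeaklyRegular.nil _ _⟩
  have hle : Ideal.span (Set.range x) ≤ q.comap φ := by
    rw [Ideal.span_le]
    rintro _ ⟨i, rfl⟩
    exact hq i
  have := (Groth.Agent.Lib.Helper28.forall_le_depth_localization_iff_exists_isWeaklyRegular
      (R := R) (I := q) (M := R) 2).mpr ⟨[φ a₁, φ b₁], rfl, (by
        intro f hf
        simp only [List.mem_cons, List.not_mem_nil, or_false] at hf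
        rcases hf with rfl | rfl
        · exact hle ha₁
        · exact hle hb₁), hw⟩ q le_rfl
  rw [Groth.Agent.Lib.Helper28.depth_localizedModule_self] at this
  exact_mod_cast this

end RingLevel

section AffineDepth

variable (C : Type u) [CommRing C] [IsNoetherianRing C] (U : (Spec (CommRingCat.of C)).Opens)
  (V : FEt.Cat (U : Scheme.{u}))

/-- over an affine Noetherian base with depth `≥ 2` at the points outside `U`, the ring of
sections of a finite étale cover of `U` is finite over the base, and functions on `U` extend. -/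
theorem finite_secRing {n : ℕ} (x : Fin n → C)
    (hx1 : ∀ i, ∀ p : PrimeSpectrum C, x i ∉ p.asIdeal → p ∈ U)
    (hx2 : ∀ p : PrimeSpectrum C, p ∈ U → ∃ i, x i ∉ p.asIdeal)
    (hdepth : ∀ (p : Ideal C) [hp : p.IsPrime], (⟨p, hp⟩ : PrimeSpectrum C) ∉ U →
      (2 : ℕ∞) ≤ LocCoh.depth (Localization.AtPrime p) (Localization.AtPrime p)) :
    Function.Bijective (U.ι.appTop) ∧ Module.Finite C (SecRing C U V) := by
  have hdepth' : ∀ (p : Ideal C) [p.IsPrime], Ideal.span (Set.range x) ≤ p →
      (2 : ℕ∞) ≤ LocCoh.depth (Localization.AtPrime p) (Localization.AtPrime p) := by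
    intro p hp hle
    apply hdepth p
    intro hpU
    obtain ⟨i, hi⟩ := hx2 _ hpU
    exact hi (hle (Ideal.subset_span ⟨i, rfl⟩))
  have hmem : ∀ c ∈ Ideal.span (Set.range x), ∀ p : PrimeSpectrum C, c ∉ p.asIdeal → p ∈ U := by
    intro c hc p hcp
    by_contra hpU
    apply hcp
    have hle : Ideal.span (Set.range x) ≤ p.asIdeal := by
      rw [Ideal.span_le]
      rintro _ ⟨i, rfl⟩
      by_contra hi
      exact hpU (hx1 i p hi)
    exact hle hc
  obtain ⟨a, ha, b, hb, hreg, hab⟩ :=
    exists_regular_pair_of_depth_loc (Ideal.span (Set.range x)) hdepth'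
  have hH : Function.Bijective (U.ι.appTop) :=
    bijective_appTop_of_regular_pair C U (hmem a ha) (hmem b hb) hreg hab
  refine ⟨hH, ?_⟩
  exact finite_of_sections_of_regular_pair x (Ideal.le_radical ha) (Ideal.le_radical hb) hreg hab
    (SecRing C U V) (toSec_bijective_secRing C U V x hx2)
    (fun i => finite_loc C U V hH (x i) (hx1 i))
    (fun i => by haveI := etale_loc' C U V hH (x i) (hx1 i); infer_instance)

end AffineDepth

section Global2

variable {X : Scheme.{u}} [IsLocallyNoetherian X] (U : X.Opens) (V : FEt.Cat (U : Scheme.{u}))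

theorem quasiCompact_total' : QuasiCompact (total U V) := by
  haveI : IsFinite V.hom := V.prop.1
  infer_instance

theorem quasiSeparated_total' : QuasiSeparated (total U V) := by
  haveI : IsFinite V.hom := V.prop.1
  infer_instance

/-- over an affine chart `Spec C → X`, the relative normalization of `X` in `V` is finite, and
its local rings over points outside `U` have depth `≥ 2`. -/
theorem chart_finite_depth
    (hU : ∀ x : X, x ∉ U → (2 : ℕ∞) ≤ LocCoh.depth (X.presheaf.stalk x) (X.presheaf.stalk x))
    (C : Type u) [CommRing C] (j : Spec (CommRingCat.of C) ⟶ X) [IsOpenImmersion j]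
    [QuasiCompact (total U V)] [QuasiSeparated (total U V)] :
    IsFinite (pullback.snd (total U V).fromNormalization j) ∧
      ∀ y : (total U V).normalization, (total U V).fromNormalization y ∈ Set.range j →
        (total U V).fromNormalization y ∉ U →
        (2 : ℕ∞) ≤ LocCoh.depth ((total U V).normalization.presheaf.stalk y)
          ((total U V).normalization.presheaf.stalk y) := by
  haveI : IsNoetherianRing C := by
    have : IsLocallyNoetherian (Spec (CommRingCat.of C)) :=
      isLocallyNoetherian_of_isOpenImmersion j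
    exact isLocallyNoetherian_Spec.mp this
  let Us : (Spec (CommRingCat.of C)).Opens := j ⁻¹ᵁ U
  let Vs : FEt.Cat (Us : Scheme.{u}) := bcObj U V j
  obtain ⟨n, x, hx1, hx2⟩ := exists_family C Us
  have hdepth : ∀ (p : Ideal C) [hp : p.IsPrime], (⟨p, hp⟩ : PrimeSpectrum C) ∉ Us →
      (2 : ℕ∞) ≤ LocCoh.depth (Localization.AtPrime p) (Localization.AtPrime p) := by
    intro p hp hpU
    let P : Spec (CommRingCat.of C) := ⟨p, hp⟩
    obtain ⟨e⟩ := nonempty_ringEquiv_stalk C j P
    rw [← Groth.Agent.Lib.Helper28.depth_self_eq_of_ringEquiv e]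
    exact hU (j P) hpU
  obtain ⟨hH, hfin⟩ := finite_secRing C Us Vs x hx1 hx2 hdepth
  haveI := hfin
  let f := total U V
  obtain ⟨ι, hι⟩ : ∃ ι : Spec (CommRingCat.of (SecRing C Us Vs)) ≅
      (pullback.snd f j).normalization,
      ι.hom ≫ (pullback.snd f j).fromNormalization = specSec C Us Vs :=
    @exists_iso_normalization_of_finite' C _ Us Vs hfin (pullback.snd f j)
      (bcHom_ι U V j).symm (inferInstanceAs (QuasiCompact (pullback.snd f j)))
      (inferInstanceAs (QuasiSeparated (pullback.snd f j)))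
  let e₃ := f.normalizationPullback j
  have h3 : e₃ ≫ pullback.snd f.fromNormalization j = (pullback.snd f j).fromNormalization :=
    Scheme.Hom.normalizationPullback_snd f j
  constructor
  · have : pullback.snd f.fromNormalization j = inv e₃ ≫ ι.inv ≫ specSec C Us Vs := by
      rw [IsIso.eq_inv_comp, h3, ← hι, Iso.inv_hom_id_assoc]
    rw [this]
    haveI : IsFinite (specSec C Us Vs) := by
      rw [IsFinite.SpecMap_iff]
      exact RingHom.finite_algebraMap.mpr hfin
    infer_instance
  · intro y hy1 hy2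
    let j'' : Spec (CommRingCat.of (SecRing C Us Vs)) ⟶ f.normalization :=
      ι.hom ≫ e₃ ≫ pullback.fst f.fromNormalization j
    haveI : IsOpenImmersion j'' := inferInstance
    have hj'' : j'' ≫ f.fromNormalization = specSec C Us Vs ≫ j := by
      simp only [j'', Category.assoc]
      rw [pullback.condition, ← Category.assoc e₃, h3, ← Category.assoc, hι]
    have hrange : y ∈ Set.range j'' := by
      have h1 : y ∈ Set.range (pullback.fst f.fromNormalization j) := by
        rw [Scheme.Pullback.range_fst]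
        exact hy1
      obtain ⟨z, rfl⟩ := h1
      obtain ⟨z', rfl⟩ := e₃.surjective z
      obtain ⟨z'', rfl⟩ := ι.hom.surjective z'
      exact ⟨z'', rfl⟩
    obtain ⟨q, rfl⟩ := hrange
    obtain ⟨e⟩ := nonempty_ringEquiv_stalk (SecRing C Us Vs) j'' q
    haveI : IsNoetherianRing (SecRing C Us Vs) := Algebra.FiniteType.isNoetherianRing C _
    haveI : IsNoetherianRing (f.normalization.presheaf.stalk (j'' q)) :=
      isNoetherianRing_of_ringEquiv _ e.symm
    rw [Groth.Agent.Lib.Helper28.depth_self_eq_of_ringEquiv e]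
    apply two_le_depth_localization_of_toSec_bijective x (SecRing C Us Vs)
      (toSec_bijective_secRing C Us Vs x hx2)
    intro i
    by_contra hi
    have hp : (specSec C Us Vs) q ∈ Us := hx1 i _ hi
    apply hy2
    have : f.fromNormalization (j'' q) = j ((specSec C Us Vs) q) := by
      rw [← Scheme.Hom.comp_apply, hj'', Scheme.Hom.comp_apply]
    rw [this]
    exact hp

/-- the restriction to `U` of the relative normalization is the original cover
(locally Noetherian version). -/
theorem exists_iso_pullback_fromNormalization'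
    [QuasiCompact (total U V)] [QuasiSeparated (total U V)] :
    ∃ Θ : V.left ≅ pullback (total U V).fromNormalization U.ι,
      Θ.hom ≫ pullback.snd (total U V).fromNormalization U.ι = V.hom := by
  let f := total U V
  have hV : IsPullback (𝟙 V.left) V.hom f U.ι :=
    IsPullback.of_horiz_isIso_mono ⟨by rw [Category.id_comp]⟩
  haveI : IsFinite V.hom := V.prop.1
  haveI : IsFinite (pullback.snd f U.ι) := by
    rw [← hV.isoPullback_inv_snd]
    infer_instance
  let t := (pullback.snd f U.ι).toNormalization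
  let e₃ := f.normalizationPullback U.ι
  refine ⟨hV.isoPullback ≪≫ asIso t ≪≫ asIso e₃, ?_⟩
  simp only [Iso.trans_hom, asIso_hom, Category.assoc]
  rw [Scheme.Hom.normalizationPullback_snd, Scheme.Hom.toNormalization_fromNormalization,
    hV.isoPullback_hom_snd]

/-- **Finite `(S₂)`-extension of a finite étale cover**: the relative normalization. -/
theorem exists_finite_S2_extension
    (hU : ∀ x : X, x ∉ U →
      (2 : ℕ∞) ≤ LocCoh.depth (X.presheaf.stalk x) (X.presheaf.stalk x)) :
    ∃ (Y : Scheme.{u}) (π : Y ⟶ X) (e : pullback π U.ι ≅ V.left), IsFinite π ∧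
      e.hom ≫ V.hom = pullback.snd π U.ι ∧
      ∀ y : Y, π.base y ∉ U →
        (2 : ℕ∞) ≤ LocCoh.depth (Y.presheaf.stalk y) (Y.presheaf.stalk y) := by
  haveI := quasiCompact_total' U V
  haveI := quasiSeparated_total' U V
  let f := total U V
  obtain ⟨Θ, hΘ⟩ := exists_iso_pullback_fromNormalization' U V
  let 𝒰 := X.affineOpenCover
  have key := fun i => @chart_finite_depth X _ U V hU (𝒰.X i) _ (𝒰.f i)
      (inferInstanceAs (IsOpenImmersion (𝒰.f i))) _ _
  refine ⟨f.normalization, f.fromNormalization, Θ.symm, ?_, ?_, ?_⟩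
  · rw [IsZariskiLocalAtTarget.iff_of_openCover (P := @IsFinite) 𝒰.openCover]
    intro i
    exact (key i).1
  · rw [Iso.symm_hom, Iso.inv_comp_eq]
    exact hΘ.symm
  · intro y hy
    obtain ⟨p, hp⟩ := 𝒰.covers (f.fromNormalization y)
    exact (key (𝒰.idx (f.fromNormalization y))).2 y ⟨p, hp⟩ hy

end Global2


end Groth.Agent.Lib.T2H3.PuritySchG
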