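import Groth.Agent.Lib.T2H3PuritySchG

/-!
# Hartogs for flat algebras over an open of an affine scheme, and the extension criterion

General-open versions of `T2H3PuritySchD`: `C` a ring, `U` an open of `Spec C` containing `D(a)` and
`D(b)` for a regular pair `(a, b)`.  If a finite étale cover `V` of `U` extends to `Spec C`, its
ring of sections is finite étale over `C`.
-/

set_option autoImplicit false
set_option linter.unusedSectionVars false
set_option linter.style.haveILetI false
universe u

open AlgebraicGeometry CategoryTheory CategoryTheory.Limits TopologicalSpace Opposite TensorProduct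

namespace Groth.Agent.Lib.T2H3.PuritySchG

open Groth.Agent.Lib.T2H3.Purity Groth.Agent.Lib.T2H3.PuritySch
open Groth.Agent.Lib.Helper26.FEtAffine

section HartogsOpen

variable (C : Type u) [CommRing C] (U : (Spec (CommRingCat.of C)).Opens)

theorem regMod_of_flat {a b : C} (hab : RegMod a b C) (hreg : IsSMulRegular C a)
    (B : Type u) [CommRing B] [Algebra C B] [Module.Flat C B] : RegMod a b B :=
  RegMod.of_linearEquiv (TensorProduct.rid C B) (regular_pair_tensor_of_flat B hreg hab).2

/-- Hartogs on a flat affine scheme over `Spec C`: functions extend uniquely from the preimage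
of `U`. -/
theorem bijective_appTop_pullback_fst_open {a b : C}
    (ha : ∀ p : PrimeSpectrum C, a ∉ p.asIdeal → p ∈ U)
    (hb : ∀ p : PrimeSpectrum C, b ∉ p.asIdeal → p ∈ U)
    (hreg : IsSMulRegular C a) (hab : RegMod a b C)
    (B : Type u) [CommRing B] [Algebra C B] [Module.Flat C B] :
    Function.Bijective ((pullback.fst (Spec.map (CommRingCat.ofHom (algebraMap C B)))
      U.ι).appTop) := by
  let g := pullback.fst (Spec.map (CommRingCat.ofHom (algebraMap C B))) U.ι
  let e : B ≃+* Γ(Spec (CommRingCat.of B), ⊤) :=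
    (Scheme.ΓSpecIso (CommRingCat.of B)).symm.commRingCatIsoToRingEquiv
  have hregB : IsSMulRegular B a := isSMulRegular_of_flat hreg
  have habB : RegMod a b B := regMod_of_flat C hab hreg B
  have ha' : IsSMulRegular Γ(Spec (CommRingCat.of B), ⊤) (e (algebraMap C B a)) := by
    intro x y hxy
    have h1 : a • e.symm x = a • e.symm y := by
      have := congrArg e.symm hxy
      simpa [smul_eq_mul, Algebra.smul_def] using this
    exact e.symm.injective (hregB h1)
  have hb' : ∀ u : Γ(Spec (CommRingCat.of B), ⊤),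
      (∃ v, e (algebraMap C B b) * u = e (algebraMap C B a) * v) →
        ∃ w, u = e (algebraMap C B a) * w := by
    rintro u ⟨v, huv⟩
    obtain ⟨w, hw⟩ := habB (e.symm u) (e.symm v) (by
      have := congrArg e.symm huv
      simpa [smul_eq_mul, Algebra.smul_def] using this)
    refine ⟨e w, ?_⟩
    have := congrArg e hw
    simpa [smul_eq_mul, Algebra.smul_def] using this
  have hD : ∀ c : C, (∀ p : PrimeSpectrum C, c ∉ p.asIdeal → p ∈ U) →
      (Spec (CommRingCat.of B)).basicOpen (e (algebraMap C B c)) ≤ g.opensRange ⊓ ⊤ := by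
    intro c hc
    have h1 : (Spec (CommRingCat.of B)).basicOpen (e (algebraMap C B c)) =
        PrimeSpectrum.basicOpen (algebraMap C B c) :=
      basicOpen_eq_of_affine (R := CommRingCat.of B) (algebraMap C B c)
    rw [h1, inf_top_eq, Scheme.Hom.opensRange_pullbackFst, Scheme.Opens.opensRange_ι]
    intro p hp
    change (Spec.map (CommRingCat.ofHom (algebraMap C B))) p ∈ U
    apply hc
    exact hp
  have hres := Groth.Agent.Lib.Helper22.Hartogs.bijective_res (e (algebraMap C B a))
    (e (algebraMap C B b)) ha' hb' (g.opensRange ⊓ ⊤) (hD a ha) (hD b hb)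
  have hfac := IsOpenImmersion.map_ΓIso_inv g ⊤
  have : (g.appTop : Γ(Spec (CommRingCat.of B), ⊤) ⟶ _) = g.app ⊤ := rfl
  rw [this, ← hfac]
  exact ((ConcreteCategory.isIso_iff_bijective _).mp
    (inferInstance : IsIso (IsOpenImmersion.ΓIso g ⊤).inv)).comp hres

variable (V : FEt.Cat (U : Scheme.{u}))

/-- if `V` is the restriction of `Spec B`, then `Γ(V, ⊤) ≅ B`. -/
theorem nonempty_algEquiv_of_iso_open {a b : C}
    (ha : ∀ p : PrimeSpectrum C, a ∉ p.asIdeal → p ∈ U)
    (hb : ∀ p : PrimeSpectrum C, b ∉ p.asIdeal → p ∈ U)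
    (hreg : IsSMulRegular C a) (hab : RegMod a b C)
    (B : Type u) [CommRing B] [Algebra C B] [Module.Finite C B] [Algebra.Etale C B]
    (e : (FEt.restrict U.ι).obj (std C B) ≅ V) :
    Nonempty (B ≃ₐ[C] SecRing C U V) := by
  have hB := bijective_appTop_pullback_fst_open C U ha hb hreg hab B
  let φ := Spec.map (CommRingCat.ofHom (algebraMap C B))
  let g := pullback.fst φ U.ι
  have hi1 : e.inv.left ≫ e.hom.left = 𝟙 _ := by
    rw [← MorphismProperty.Comma.comp_left, e.inv_hom_id]; rfl
  have hi2 : e.hom.left ≫ e.inv.left = 𝟙 _ := by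
    rw [← MorphismProperty.Comma.comp_left, e.hom_inv_id]; rfl
  let l : V.left ⟶ pullback φ U.ι := e.inv.left
  haveI : IsIso l := ⟨⟨e.hom.left, hi1, hi2⟩⟩
  have hl : l ≫ pullback.snd φ U.ι = str C U V :=
    MorphismProperty.Over.w e.inv
  let ψ : CommRingCat.of B ⟶ Γ(V.left, ⊤) :=
    (Scheme.ΓSpecIso (CommRingCat.of B)).inv ≫ g.appTop ≫ l.appTop
  have hψ : Function.Bijective ψ := by
    have h1 : Function.Bijective (Scheme.ΓSpecIso (CommRingCat.of B)).inv :=
      (ConcreteCategory.isIso_iff_bijective _).mp inferInstance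
    have h3' : IsIso l.appTop := inferInstanceAs (IsIso (l.app ⊤))
    have h3 : Function.Bijective l.appTop :=
      (ConcreteCategory.isIso_iff_bijective _).mp h3'
    exact h3.comp (hB.comp h1)
  have hcomm : CommRingCat.ofHom (algebraMap C B) ≫ ψ = CommRingCat.ofHom (secHom C U V) := by
    simp only [ψ]
    rw [← Category.assoc, Scheme.ΓSpecIso_inv_naturality, Category.assoc,
      ← Scheme.Hom.comp_appTop, ← Scheme.Hom.comp_appTop]
    have h4 : (l ≫ g) ≫ φ = str C U V ≫ U.ι := by
      rw [← hl, Category.assoc, Category.assoc, pullback.condition]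
    rw [h4]
    rfl
  let ψ' : B →ₐ[C] SecRing C U V :=
    { ψ.hom with
      commutes' := fun c => by
        have := congrArg (fun t => t.hom c) hcomm
        exact this }
  exact ⟨AlgEquiv.ofBijective ψ' hψ⟩

/-- **Extension criterion**: if `V` extends to a finite étale cover of `Spec C`, its ring of
sections is finite étale over `C`. -/
theorem finite_etale_secRing_of_extends {a b : C}
    (ha : ∀ p : PrimeSpectrum C, a ∉ p.asIdeal → p ∈ U)
    (hb : ∀ p : PrimeSpectrum C, b ∉ p.asIdeal → p ∈ U)
    (hreg : IsSMulRegular C a) (hab : RegMod a b C)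
    (Y : FEt.Cat (Spec (CommRingCat.of C))) (e : (FEt.restrict U.ι).obj Y ≅ V) :
    Module.Finite C (SecRing C U V) ∧ Algebra.Etale C (SecRing C U V) := by
  obtain ⟨B, i1, i2, i3, i4, ⟨ε⟩⟩ := exists_iso_std C Y
  obtain ⟨κ⟩ := nonempty_algEquiv_of_iso_open C U V ha hb hreg hab B
    (((FEt.restrict U.ι).mapIso ε).symm ≪≫ e)
  exact ⟨Module.Finite.equiv κ.toLinearEquiv, Algebra.Etale.of_equiv κ⟩

end HartogsOpen

end Groth.Agent.Lib.T2H3.PuritySchG
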