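import Groth.Agent.Lib.T2H3PurityP

/-!
# Pointwise flat descent of étaleness for finite algebras

If `R` is a finite algebra over a Noetherian ring `C` and for every prime `p` of `C` there is a
flat `C`-algebra `C₁` with a prime over `p` such that `C₁ ⊗ R` is étale over `C₁`, then `R` is
étale over `C`.
-/

set_option autoImplicit false
set_option linter.unusedSectionVars false
set_option linter.style.haveILetI false
universe u

open TensorProduct

namespace Groth.Agent.Lib.T2H3.Purity

section PointwiseDescent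

variable {C : Type u} [CommRing C] {R : Type u} [CommRing R] [Algebra C R]

/-- étaleness of the localization at `p` gives étaleness at every prime over `p`. -/
theorem isEtaleAt_of_etale_tensor (p : Ideal C) [p.IsPrime]
    (hEt : Algebra.Etale (Localization.AtPrime p) (Localization.AtPrime p ⊗[C] R))
    (q : Ideal R) [q.IsPrime] (hq : q.comap (algebraMap C R) = p) : Algebra.IsEtaleAt C q := by
  let A := Localization.AtPrime p
  let M' := Algebra.algebraMapSubmonoid R p.primeCompl
  let B := Localization M'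
  haveI hBet : Algebra.Etale A B :=
    Algebra.Etale.of_equiv (Localization.tensorRightAlgEquiv p.primeCompl R)
  have hdisj : Disjoint (M' : Set R) (q : Set R) := by
    rw [Set.disjoint_left]
    rintro _ ⟨c, hc, rfl⟩ hcq
    have : c ∈ q.comap (algebraMap C R) := hcq
    rw [hq] at this
    exact hc this
  haveI hQprime : (Ideal.map (algebraMap R B) q).IsPrime :=
    IsLocalization.isPrime_of_isPrime_disjoint M' B q inferInstance hdisj
  have hQcomap : (Ideal.map (algebraMap R B) q).comap (algebraMap R B) = q :=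
    IsLocalization.comap_map_of_isPrime_disjoint M' B inferInstance hdisj
  have h3 : Algebra.IsEtaleAt A (Ideal.map (algebraMap R B) q) :=
    inferInstanceAs (Algebra.FormallyEtale A (Localization.AtPrime (Ideal.map (algebraMap R B) q)))
  rw [isEtaleAt_localization_iff] at h3
  have h4 : ∀ (q₁ q₂ : Ideal R) [q₁.IsPrime] [q₂.IsPrime], q₁ = q₂ →
      Algebra.IsEtaleAt C q₁ → Algebra.IsEtaleAt C q₂ := by
    intro q₁ q₂ _ _ h12 h
    subst h12
    exact h
  exact h4 _ q hQcomap h3

/-- descent of étaleness along a flat algebra with a prime over `p`. -/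
theorem etale_localization_tensor_of_flat (p : Ideal C) [p.IsPrime]
    (C₁ : Type u) [CommRing C₁] [Algebra C C₁] [Module.Flat C C₁]
    (p₁ : Ideal C₁) [p₁.IsPrime] (hp₁ : p₁.comap (algebraMap C C₁) = p)
    [Algebra.Etale C₁ (C₁ ⊗[C] R)] :
    Algebra.Etale (Localization.AtPrime p) (Localization.AtPrime p ⊗[C] R) := by
  let A := Localization.AtPrime p
  let A₁ := Localization.AtPrime p₁
  let ψ : A →+* A₁ := Localization.localRingHom p p₁ (algebraMap C C₁) hp₁.symm
  letI : Algebra A A₁ := ψ.toAlgebra
  haveI : IsScalarTower C A A₁ := IsScalarTower.of_algebraMap_eq' (by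
    ext c
    show algebraMap C A₁ c = ψ (algebraMap C A c)
    rw [Localization.localRingHom_to_map, IsScalarTower.algebraMap_apply C C₁ A₁])
  haveI : Module.Flat C A₁ := Module.Flat.trans C C₁ A₁
  haveI : Module.Flat A A₁ := (Module.flat_iff_of_isLocalization A p.primeCompl A₁).mpr inferInstance
  haveI : IsLocalHom (algebraMap A A₁) := Localization.isLocalHom_localRingHom p p₁ _ hp₁.symm
  haveI : Module.FaithfullyFlat A A₁ := Module.FaithfullyFlat.of_flat_of_isLocalHom
  -- étaleness after base change to `A₁`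
  haveI h1 : Algebra.Etale A₁ (A₁ ⊗[C₁] (C₁ ⊗[C] R)) := inferInstance
  let e1 : A₁ ⊗[C₁] (C₁ ⊗[C] R) ≃ₐ[A₁] A₁ ⊗[C] R :=
    Algebra.TensorProduct.cancelBaseChange C C₁ A₁ A₁ R
  let e2 : A₁ ⊗[A] (A ⊗[C] R) ≃ₐ[A₁] A₁ ⊗[C] R :=
    Algebra.TensorProduct.cancelBaseChange C A A₁ A₁ R
  haveI h2 : Algebra.Etale A₁ (A₁ ⊗[A] (A ⊗[C] R)) :=
    Algebra.Etale.of_equiv (e1.trans e2.symm)
  exact Algebra.Etale.of_etale_tensorProduct_of_faithfullyFlat A₁

variable [IsNoetherianRing C] [Module.Finite C R]

/-- **Pointwise flat descent of étaleness.** -/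
theorem etale_of_forall_exists_flat
    (h : ∀ (p : Ideal C) [p.IsPrime], ∃ (C₁ : Type u) (_ : CommRing C₁) (_ : Algebra C C₁)
      (_ : Module.Flat C C₁) (p₁ : Ideal C₁) (_ : p₁.IsPrime),
      p₁.comap (algebraMap C C₁) = p ∧ Algebra.Etale C₁ (C₁ ⊗[C] R)) :
    Algebra.Etale C R := by
  haveI : Module.FinitePresentation C R := Module.finitePresentation_of_finite C R
  haveI : Algebra.FinitePresentation C R :=
    Algebra.FinitePresentation.of_finiteType.mp inferInstance
  rw [← Algebra.etaleLocus_eq_univ_iff_etale, Set.eq_univ_iff_forall]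
  intro q
  obtain ⟨C₁, i1, i2, i3, p₁, i4, hp₁, hEt⟩ := h (q.asIdeal.comap (algebraMap C R))
  have hA := etale_localization_tensor_of_flat (R := R) (q.asIdeal.comap (algebraMap C R))
    C₁ p₁ hp₁
  exact isEtaleAt_of_etale_tensor _ hA q.asIdeal rfl

end PointwiseDescent

end Groth.Agent.Lib.T2H3.Purity
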