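import Groth.Agent.Lib.T2H3PuritySchI
import Groth.Agent.Lib.T2H3PuritySchJ
import Groth.Agent.S7757
import Groth.Prelude.Def_SGA2
import Groth.Agent.Lib.Helper22Hartogs2

/-!
# Faithfully flat descent of purity for finite étale covers

`X` locally Noetherian, `U` open with `depth 𝒪_{X,x} ≥ 2` outside `U`, `f : X₁ → X` flat and
surjective.  If finite étale covers extend from `f⁻¹ U` over the affine opens of `X₁`, restriction
of finite étale covers from `X` to `U` is an equivalence.  The extension is the relative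
normalization; its étaleness is checked after the flat base change, where it is identified with
the given extension by Hartogs and flat base change of sections.
-/

set_option autoImplicit false
set_option linter.unusedSectionVars false
set_option linter.style.haveILetI false
universe u
open AlgebraicGeometry CategoryTheory CategoryTheory.Limits TopologicalSpace Opposite TensorProduct

namespace Groth.Agent.Lib.T2H3.PuritySchG

open Groth.Agent.Lib.T2H3.Purity Groth.Agent.Lib.T2H3.PuritySch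
open Groth.Agent.Lib.Helper26.FEtAffine

section Transport

/-- restriction of finite étale covers along an isomorphism is an equivalence. -/
theorem isEquivalence_restrict_of_isIso {A B : Scheme.{u}} (a : A ⟶ B) [IsIso a] :
    (FEt.restrict a).IsEquivalence := by
  obtain ⟨hfull, hfaith⟩ : (FEt.restrict a).Full ∧ (FEt.restrict a).Faithful := by
    apply Groth.Agent.S7757.result
    intro W
    exact (ConcreteCategory.isIso_iff_bijective _).mp inferInstance
  haveI := hfull
  haveI := hfaith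
  haveI : (FEt.restrict a).EssSurj := by
    constructor
    intro V
    let Y : FEt.Cat B := MorphismProperty.Over.mk ⊤ (V.hom ≫ a)
      ((MorphismProperty.cancel_right_of_respectsIso FEt.prop V.hom a).mpr V.prop)
    have hPB : IsPullback (𝟙 V.left) V.hom (V.hom ≫ a) a :=
      IsPullback.of_horiz_isIso_mono ⟨by rw [Category.id_comp]⟩
    exact ⟨Y, ⟨MorphismProperty.Over.isoMk hPB.isoPullback.symm hPB.isoPullback_inv_snd⟩⟩
  exact { }

/-- restriction functors along isomorphic arrows are equivalences simultaneously. -/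
theorem isEquivalence_restrict_of_arrow_iso {A B A' B' : Scheme.{u}} (j : A ⟶ B) (j' : A' ⟶ B')
    (a : A' ≅ A) (b : B' ≅ B) (h : a.hom ≫ j = j' ≫ b.hom)
    (hj : (FEt.restrict j).IsEquivalence) : (FEt.restrict j').IsEquivalence := by
  haveI := hj
  haveI := isEquivalence_restrict_of_isIso a.hom
  haveI := isEquivalence_restrict_of_isIso b.hom
  let e1 : FEt.restrict (a.hom ≫ j) ≅ FEt.restrict j ⋙ FEt.restrict a.hom :=
    MorphismProperty.Over.pullbackComp a.hom j
  let e2 : FEt.restrict (j' ≫ b.hom) ≅ FEt.restrict b.hom ⋙ FEt.restrict j' :=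
    MorphismProperty.Over.pullbackComp j' b.hom
  let e3 : FEt.restrict (a.hom ≫ j) ≅ FEt.restrict (j' ≫ b.hom) :=
    MorphismProperty.Over.pullbackCongr h
  haveI : (FEt.restrict b.hom ⋙ FEt.restrict j').IsEquivalence :=
    Functor.isEquivalence_of_iso (e1.symm ≪≫ e3 ≪≫ e2)
  exact Functor.isEquivalence_of_comp_left (FEt.restrict b.hom) (FEt.restrict j')

end Transport

section Descent

variable {X X₁ : Scheme.{u}} [IsLocallyNoetherian X] (U : X.Opens) (V : FEt.Cat (U : Scheme.{u}))
  (f : X₁ ⟶ X) [Flat f] [Surjective f]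

/-- over an affine chart, the relative normalization of `X` in `V` is étale, provided finite étale
covers extend over the affine opens of a flat cover of `X`. -/
theorem chart_etale
    (hU : ∀ x : X, x ∉ U → (2 : ℕ∞) ≤ LocCoh.depth (X.presheaf.stalk x) (X.presheaf.stalk x))
    (h : ∀ (C₁ : Type u) [CommRing C₁] (g₁ : Spec (CommRingCat.of C₁) ⟶ X₁) [IsOpenImmersion g₁],
      (FEt.restrict (g₁ ⁻¹ᵁ (f ⁻¹ᵁ U)).ι).EssSurj)
    (C : Type u) [CommRing C] (j : Spec (CommRingCat.of C) ⟶ X) [IsOpenImmersion j]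
    [QuasiCompact (total U V)] [QuasiSeparated (total U V)] :
    Etale (pullback.snd (total U V).fromNormalization j) := by
  haveI : IsNoetherianRing C := by
    have : IsLocallyNoetherian (Spec (CommRingCat.of C)) :=
      isLocallyNoetherian_of_isOpenImmersion j
    exact isLocallyNoetherian_Spec.mp this
  let Us : (Spec (CommRingCat.of C)).Opens := j ⁻¹ᵁ U
  let Vs : FEt.Cat (Us : Scheme.{u}) := bcObj U V j
  obtain ⟨n, x, hx1, hx2⟩ := exists_family C Us
  have hdepth : ∀ (p : Ideal C) [hp : p.IsPrime], (⟨p, hp⟩ : PrimeSpectrum C) ∉ Us →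
      (2 : ℕ∞) ≤ LocCoh.depth (Localization.AtPrime p) (Localization.AtPrime p) := by
    intro p hp hpU
    let P : Spec (CommRingCat.of C) := ⟨p, hp⟩
    obtain ⟨e⟩ := nonempty_ringEquiv_stalk C j P
    rw [← Groth.Agent.Lib.Helper28.depth_self_eq_of_ringEquiv e]
    exact hU (j P) hpU
  obtain ⟨hH, hfin⟩ := finite_secRing C Us Vs x hx1 hx2 hdepth
  haveI := hfin
  -- the regular pair
  have hdepth' : ∀ (p : Ideal C) [p.IsPrime], Ideal.span (Set.range x) ≤ p →
      (2 : ℕ∞) ≤ LocCoh.depth (Localization.AtPrime p) (Localization.AtPrime p) := by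
    intro p hp hle
    apply hdepth p
    intro hpU
    obtain ⟨i, hi⟩ := hx2 _ hpU
    exact hi (hle (Ideal.subset_span ⟨i, rfl⟩))
  have hmem : ∀ c ∈ Ideal.span (Set.range x), ∀ p : PrimeSpectrum C, c ∉ p.asIdeal → p ∈ Us := by
    intro c hc p hcp
    by_contra hpU
    apply hcp
    have hle : Ideal.span (Set.range x) ≤ p.asIdeal := by
      rw [Ideal.span_le]
      rintro _ ⟨i, rfl⟩
      by_contra hi
      exact hpU (hx1 i p hi)
    exact hle hc
  obtain ⟨a, ha, b, hb, hreg, hab⟩ :=
    exists_regular_pair_of_depth_loc (Ideal.span (Set.range x)) hdepth'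
  haveI : CompactSpace (Us : Scheme.{u}) := compactSpace_open C Us
  -- étaleness of the ring of sections
  have hEt : Algebra.Etale C (SecRing C Us Vs) := by
    apply etale_of_forall_exists_flat
    intro p hp
    let P : Spec (CommRingCat.of C) := ⟨p, hp⟩
    obtain ⟨x₁, hx₁⟩ := f.surjective (j P)
    have hx₁U : x₁ ∈ f ⁻¹ᵁ j.opensRange := by
      show f x₁ ∈ Set.range j
      rw [hx₁]
      exact ⟨P, rfl⟩
    obtain ⟨C₁, g₁, hg₁, ⟨p₁, hp₁⟩, hsub⟩ :=
      Scheme.exists_affine_mem_range_and_range_subset hx₁U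
    haveI := hg₁
    have hrange : Set.range (g₁ ≫ f) ⊆ Set.range j := by
      rintro _ ⟨z, rfl⟩
      exact hsub ⟨z, rfl⟩
    let φs : Spec C₁ ⟶ Spec (CommRingCat.of C) := IsOpenImmersion.lift j (g₁ ≫ f) hrange
    have hφs : φs ≫ j = g₁ ≫ f := IsOpenImmersion.lift_fac _ _ _
    let φ : CommRingCat.of C ⟶ C₁ := Spec.preimage φs
    have hφ : Spec.map φ = φs := Spec.map_preimage φs
    letI : Algebra C C₁ := φ.hom.toAlgebra
    have hbc : bc C C₁ = φs := hφ
    have hflat : Flat φs := by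
      have hPB : IsPullback (𝟙 (Spec C₁)) φs (g₁ ≫ f) j :=
        IsPullback.of_horiz_isIso_mono ⟨by rw [Category.id_comp, hφs]⟩
      exact MorphismProperty.of_isPullback (P := @Flat) hPB inferInstance
    haveI : Module.Flat C C₁ := by
      rw [← hφ, HasRingHomProperty.Spec_iff (P := @Flat)] at hflat
      exact hflat
    -- the base-changed cover extends
    let U₁ : (Spec (CommRingCat.of C₁)).Opens := (bc C C₁) ⁻¹ᵁ Us
    let V₁ : FEt.Cat (U₁ : Scheme.{u}) := bcObj Us Vs (bc C C₁)
    have hopen : g₁ ⁻¹ᵁ (f ⁻¹ᵁ U) = U₁ := by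
      show g₁ ⁻¹ᵁ (f ⁻¹ᵁ U) = (bc C C₁) ⁻¹ᵁ (j ⁻¹ᵁ U)
      rw [← Scheme.Hom.comp_preimage, ← Scheme.Hom.comp_preimage, hbc, hφs]
    have hess : (FEt.restrict U₁.ι).EssSurj := by
      have := @h C₁ _ g₁ hg₁
      rw [hopen] at this
      exact this
    obtain ⟨M, ⟨e⟩⟩ := hess.mem_essImage V₁
    -- the regular pair upstairs
    have hsm : ∀ (c : C) (t : C₁), c • t = algebraMap C C₁ c * t := fun c t => Algebra.smul_def c t
    have hreg₁ : IsSMulRegular C₁ (algebraMap C C₁ a) := by
      have h0 : IsSMulRegular C₁ a := isSMulRegular_of_flat hreg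
      intro y y' hyy
      apply h0
      show a • y = a • y'
      rw [hsm, hsm]
      exact hyy
    have hab₁ : RegMod (algebraMap C C₁ a) (algebraMap C C₁ b) C₁ := by
      have h0 : RegMod a b C₁ := regMod_of_flat C hab hreg C₁
      intro y z hyz
      obtain ⟨w, hw⟩ := h0 y z (by rw [hsm, hsm]; exact hyz)
      exact ⟨w, by rw [hw, hsm]; rfl⟩
    have hD : ∀ c ∈ Ideal.span (Set.range x), ∀ q : PrimeSpectrum C₁,
        algebraMap C C₁ c ∉ q.asIdeal → q ∈ U₁ := by
      intro c hc q hq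
      exact hmem c hc ((bc C C₁) q) hq
    obtain ⟨hfin₁, hEt₁⟩ := finite_etale_secRing_of_extends C₁ U₁ V₁ (hD a ha) (hD b hb)
      hreg₁ hab₁ M e
    obtain ⟨κ⟩ := nonempty_algEquiv_tensor_secRing C C₁ Us Vs
    haveI := hEt₁
    have hEt₂ : Algebra.Etale C₁ (C₁ ⊗[C] SecRing C Us Vs) := Algebra.Etale.of_equiv κ.symm
    -- the prime over `p`
    have hpt : (bc C C₁) p₁ = P := by
      apply j.isOpenEmbedding.injective
      rw [hbc, ← Scheme.Hom.comp_apply, hφs, Scheme.Hom.comp_apply, hp₁, hx₁]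
    refine ⟨C₁, inferInstance, inferInstance, inferInstance, p₁.asIdeal, p₁.isPrime, ?_, hEt₂⟩
    exact congrArg PrimeSpectrum.asIdeal hpt
  -- conclusion
  haveI := hEt
  let fT := total U V
  obtain ⟨ι, hι⟩ : ∃ ι : Spec (CommRingCat.of (SecRing C Us Vs)) ≅
      (pullback.snd fT j).normalization,
      ι.hom ≫ (pullback.snd fT j).fromNormalization = specSec C Us Vs :=
    @exists_iso_normalization_of_finite' C _ Us Vs hfin (pullback.snd fT j)
      (bcHom_ι U V j).symm (inferInstanceAs (QuasiCompact (pullback.snd fT j)))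
      (inferInstanceAs (QuasiSeparated (pullback.snd fT j)))
  let e₃ := fT.normalizationPullback j
  have h3 : e₃ ≫ pullback.snd fT.fromNormalization j = (pullback.snd fT j).fromNormalization :=
    Scheme.Hom.normalizationPullback_snd fT j
  have : pullback.snd fT.fromNormalization j = inv e₃ ≫ ι.inv ≫ specSec C Us Vs := by
    rw [IsIso.eq_inv_comp, h3, ← hι, Iso.inv_hom_id_assoc]
  rw [this]
  haveI : Etale (specSec C Us Vs) := by
    rw [HasRingHomProperty.Spec_iff (P := @Etale)]
    exact RingHom.etale_algebraMap.mpr hEt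
  infer_instance

/-- **Descent of purity along a flat cover.** -/
theorem isEquivalence_restrict_of_flat_cover
    (hU : ∀ x : X, x ∉ U → (2 : ℕ∞) ≤ LocCoh.depth (X.presheaf.stalk x) (X.presheaf.stalk x))
    (h : ∀ (C₁ : Type u) [CommRing C₁] (g₁ : Spec (CommRingCat.of C₁) ⟶ X₁) [IsOpenImmersion g₁],
      (FEt.restrict (g₁ ⁻¹ᵁ (f ⁻¹ᵁ U)).ι).EssSurj) :
    (FEt.restrict U.ι).IsEquivalence := by
  obtain ⟨hfull, hfaith⟩ : (FEt.restrict U.ι).Full ∧ (FEt.restrict U.ι).Faithful := by
    apply Groth.Agent.S7757.result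
    intro W
    rw [Scheme.Opens.ι_app]
    refine Groth.Agent.Lib.Helper22.Hartogs.bijective_res_of_depth U hU W _ _ ?_ ?_
    · rintro x ⟨hxV, hxU⟩
      exact ⟨⟨x, hxU⟩, hxV, rfl⟩
    · rintro _ ⟨x, -, rfl⟩
      exact x.2
  haveI := hfull
  haveI := hfaith
  haveI : (FEt.restrict U.ι).EssSurj := by
    constructor
    intro V
    haveI := quasiCompact_total' U V
    haveI := quasiSeparated_total' U V
    let 𝒰 := X.affineOpenCover
    have key1 := fun i => @chart_finite_depth X _ U V hU (𝒰.X i) _ (𝒰.f i)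
      (inferInstanceAs (IsOpenImmersion (𝒰.f i))) _ _
    have key2 := fun i => @chart_etale X X₁ _ U V f _ _ hU h (𝒰.X i) _ (𝒰.f i)
      (inferInstanceAs (IsOpenImmersion (𝒰.f i))) _ _
    have hprop : FEt.prop (total U V).fromNormalization := by
      constructor
      · rw [IsZariskiLocalAtTarget.iff_of_openCover (P := @IsFinite) 𝒰.openCover]
        intro i
        exact (key1 i).1
      · rw [IsZariskiLocalAtTarget.iff_of_openCover (P := @Etale) 𝒰.openCover]
        intro i
        exact key2 i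
    let W : FEt.Cat X := MorphismProperty.Over.mk ⊤ (total U V).fromNormalization hprop
    obtain ⟨Θ, hΘ⟩ := exists_iso_pullback_fromNormalization' U V
    refine ⟨W, ⟨MorphismProperty.Over.isoMk Θ.symm ?_⟩⟩
    rw [Iso.symm_hom, Iso.inv_comp_eq]
    exact hΘ.symm
  exact { }

end Descent

section PurePair

/-- from purity on the affine open `g.opensRange` of `X₁` to purity on `Spec`. -/
theorem isEquivalence_restrict_preimage_of_homOfLE {X₁ S : Scheme.{u}} (g : S ⟶ X₁)
    [IsOpenImmersion g] (T : X₁.Opens)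
    (h : (FEt.restrict (X₁.homOfLE (inf_le_left : g.opensRange ⊓ T ≤ g.opensRange))).IsEquivalence) :
    (FEt.restrict (g ⁻¹ᵁ T).ι).IsEquivalence := by
  let W := g.opensRange
  have hrange : Set.range ((g ⁻¹ᵁ T).ι ≫ g) = Set.range (W ⊓ T).ι := by
    rw [Scheme.Opens.range_ι, Scheme.Hom.comp_base, TopCat.coe_comp, Set.range_comp,
      Scheme.Opens.range_ι]
    ext y
    constructor
    · rintro ⟨z, hz, rfl⟩
      exact ⟨⟨z, rfl⟩, hz⟩
    · rintro ⟨⟨z, rfl⟩, hz⟩
      exact ⟨z, hz, rfl⟩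
  let a : ((g ⁻¹ᵁ T : S.Opens) : Scheme.{u}) ≅ ((W ⊓ T : X₁.Opens) : Scheme.{u}) :=
    IsOpenImmersion.isoOfRangeEq ((g ⁻¹ᵁ T).ι ≫ g) (W ⊓ T).ι hrange
  have ha : a.hom ≫ (W ⊓ T).ι = (g ⁻¹ᵁ T).ι ≫ g := IsOpenImmersion.isoOfRangeEq_hom_fac _ _ _
  let b : S ≅ (W : Scheme.{u}) := g.isoOpensRange
  have hb : b.hom ≫ W.ι = g := g.isoOpensRange_hom_ι
  refine isEquivalence_restrict_of_arrow_iso
    (X₁.homOfLE (inf_le_left : W ⊓ T ≤ W)) (g ⁻¹ᵁ T).ι a b ?_ h
  rw [← cancel_mono W.ι, Category.assoc, Category.assoc, Scheme.homOfLE_ι, ha, hb]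

/-- **Faithfully flat descent of pure pairs.** -/
theorem isPurePair_of_flat_cover (X X₁ : Scheme.{u}) [IsLocallyNoetherian X] (U : X.Opens)
    (hU : ∀ x : X, x ∉ U → (2 : ℕ∞) ≤ LocCoh.depth (X.presheaf.stalk x) (X.presheaf.stalk x))
    (f : X₁ ⟶ X) [Flat f] [Surjective f] (h : SGA2.IsPurePair X₁ (f ⁻¹ᵁ U)) :
    SGA2.IsPurePair X U := by
  intro V
  let j₀ := X.homOfLE (inf_le_left : V ⊓ U ≤ V)
  let U' : (V : Scheme.{u}).Opens := j₀.opensRange
  have hU'mem : ∀ x : (V : Scheme.{u}), x ∈ U' ↔ V.ι x ∈ U := by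
    intro x
    constructor
    · rintro ⟨z, rfl⟩
      have : V.ι (j₀ z) = (V ⊓ U).ι z := by
        rw [← Scheme.Hom.comp_apply, Scheme.homOfLE_ι]
      rw [this]
      exact z.2.2
    · intro hx
      refine ⟨⟨V.ι x, x.2, hx⟩, ?_⟩
      apply V.ι.isOpenEmbedding.injective
      rw [← Scheme.Hom.comp_apply, Scheme.homOfLE_ι]
      rfl
  let f' := f ∣_ V
  haveI : Surjective f' :=
    MorphismProperty.of_isPullback (P := @Surjective) (isPullback_morphismRestrict f V).flip
      inferInstance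
  have key : (FEt.restrict U'.ι).IsEquivalence := by
    apply isEquivalence_restrict_of_flat_cover U' f'
    · intro x hx
      let e : X.presheaf.stalk (V.ι x) ≃+* (V : Scheme.{u}).presheaf.stalk x :=
        (asIso (V.ι.stalkMap x)).commRingCatIsoToRingEquiv
      rw [← Groth.Agent.Lib.Helper28.depth_self_eq_of_ringEquiv e]
      apply hU
      intro hxU
      exact hx ((hU'mem x).mpr hxU)
    · intro C₁ _ g₁ _
      let g : Spec (CommRingCat.of C₁) ⟶ X₁ := g₁ ≫ (f ⁻¹ᵁ V).ι
      have h1 := isEquivalence_restrict_preimage_of_homOfLE g (f ⁻¹ᵁ U) (h g.opensRange)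
      have hopen : g ⁻¹ᵁ (f ⁻¹ᵁ U) = g₁ ⁻¹ᵁ (f' ⁻¹ᵁ U') := by
        ext z
        show f (g z) ∈ U ↔ f' (g₁ z) ∈ U'
        rw [hU'mem]
        have : V.ι (f' (g₁ z)) = f (g z) := by
          rw [← Scheme.Hom.comp_apply, ← Scheme.Hom.comp_apply, morphismRestrict_ι]
          rfl
        rw [this]
      rw [hopen] at h1
      haveI := h1
      infer_instance
  exact isEquivalence_restrict_of_arrow_iso U'.ι j₀ j₀.isoOpensRange (Iso.refl _)
    (by rw [Iso.refl_hom, Category.comp_id]; exact j₀.isoOpensRange_hom_ι) key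

end PurePair

end Groth.Agent.Lib.T2H3.PuritySchG
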