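import Groth.Agent.Lib.T2H3HilbA
import Groth.Agent.Lib.T2H3GrTorsB

/-! Weak regularity passes to `M/xM` for a quasi-regular homogeneous element (helper3): the
general statement for graded rings with pieces additive subgroups. -/

set_option autoImplicit false
set_option linter.unusedSectionVars false
set_option linter.style.haveILetI false
open DirectSum

noncomputable section

namespace Groth.Agent.Lib.T2H3.QReg

open GrLC Groth.Agent.Lib.T2H3.GrLes Groth.Agent.Lib.T2H3.Serre Groth.Agent.Lib.T2H3.MinRes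
  Groth.Agent.Lib.T2H3.GrTors Groth.Agent.Lib.Helper29GrShift

universe u

variable {R : Type u} [CommRing R] {𝒜 : ℤ → AddSubgroup R} [GradedRing 𝒜]

section Gen

variable {M' M M'' : Type u} [AddCommGroup M'] [Module R M'] [AddCommGroup M] [Module R M]
  [AddCommGroup M''] [Module R M'']
  {ℳ' : ℤ → AddSubgroup M'} {ℳ : ℤ → AddSubgroup M} {ℳ'' : ℤ → AddSubgroup M''}
  [DirectSum.Decomposition ℳ'] [DirectSum.Decomposition ℳ] [DirectSum.Decomposition ℳ'']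
  [SetLike.GradedSMul 𝒜 ℳ'] [SetLike.GradedSMul 𝒜 ℳ] [SetLike.GradedSMul 𝒜 ℳ'']

/-- In a short exact sequence `0 → M' → M → M'' → 0`: if `H^i(M)_j = 0` and
`H^{i+1}(M')_j = 0` then `H^i(M'')_j = 0`. -/
theorem Hcomp_eq_bot_of_ses {f : M' →ₗ[R] M} {g : M →ₗ[R] M''} (S : GrSES ℳ' ℳ ℳ'' f g)
    (E' : StarInjRes 𝒜 ℳ') (E : StarInjRes 𝒜 ℳ) (E'' : StarInjRes 𝒜 ℳ'')
    (a : HomogeneousIdeal 𝒜) (i : ℕ) (j : ℤ)
    (h1 : E.Hcomp a i j = ⊥) (h2 : E'.Hcomp a (i + 1) j = ⊥) : E''.Hcomp a i j = ⊥ := by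
  classical
  obtain ⟨φ, hφ, hφf⟩ := exists_lift E' E f S.f_gr
  obtain ⟨ψ, hψ, hψg⟩ := exists_lift E E'' g S.g_gr
  obtain ⟨δ, hδ, -, -, hex, -⟩ := exists_les S hφ hφf hψ hψg a
  rw [Submodule.eq_bot_iff]
  intro y hy
  have hδy : δ i y ∈ E'.Hcomp a (i + 1) j := hδ i j y hy
  rw [h2] at hδy
  have hyr : y ∈ LinearMap.range (ψ.H a i) := by
    have h : y ∈ LinearMap.ker (δ i) := hδy
    rw [hex i] at h
    exact h
  letI := HgrDecomposition E a i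
  letI := HgrDecomposition E'' a i
  obtain ⟨y', hy', rfl⟩ := exists_mem_piece_of_mem_range (E.Hgr a i) (E''.Hgr a i)
    (ψ.H a i) (fun g m hm => CMap.H_mem_Hcomp ψ a hψ i g hm) hy hyr
  have : y' = 0 := by
    have : y' ∈ E.Hcomp a i j := hy'
    rw [h1] at this
    exact this
  rw [this, map_zero]

end Gen


variable [IsNoetherianRing R]

theorem Hcomp_coim_eq_bot (X : GMod.{u} 𝒜) {x : R} {e : ℤ} (hx : x ∈ 𝒜 e)
    (a : HomogeneousIdeal 𝒜) (hK : gam a.toIdeal (kerG X hx).carrier = ⊤)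
    (E : StarInjRes 𝒜 X.gr) (i : ℕ) (j : ℤ)
    (h2 : E.Hcomp a (i + 1) j = ⊥) (EC : StarInjRes 𝒜 (coimG X hx).gr) :
    EC.Hcomp a (i + 1) j = ⊥ := by
  classical
  obtain ⟨EK, -⟩ : ∃ EK : StarInjRes 𝒜 (kerG X hx).gr, True := ⟨minRes 𝒜 (kerG X hx).gr, trivial⟩
  have S1 := grSES_sub_quot 𝒜 X.gr (LinearMap.ker (LinearMap.lsmul R X.carrier x))
      (ker_lsmul_isHomogeneous X hx)
  have hKbot : EK.Hcomp a (i + 1 + 1) j = ⊥ := by
    rw [Submodule.eq_bot_iff]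
    intro z _
    exact (H_subsingleton_of_gam_eq_top EK a hK (i + 1)).elim _ _
  exact Hcomp_eq_bot_of_ses S1 EK E EC a (i + 1) j h2 hKbot

theorem Hcomp_quot_eq_bot_aux (X : GMod.{u} 𝒜) {x : R} {e : ℤ} (hx : x ∈ 𝒜 e)
    (a : HomogeneousIdeal 𝒜)
    {N : Type u} [AddCommGroup N] [Module R N] (𝒩 : ℤ → AddSubgroup N)
    [DirectSum.Decomposition 𝒩] [SetLike.GradedSMul 𝒜 𝒩]
    (π : X.carrier →ₗ[R] N) (hπ : IsGrHom X.gr 𝒩 π) (hπs : Function.Surjective π)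
    (hker : LinearMap.ker π = LinearMap.range (LinearMap.lsmul R X.carrier x))
    (E : StarInjRes 𝒜 X.gr) (F : StarInjRes 𝒜 𝒩) (i : ℕ) (j : ℤ)
    (h1 : E.Hcomp a i j = ⊥) (EC : StarInjRes 𝒜 (coimG X hx).gr)
    (hC : EC.Hcomp a (i + 1) (j + -e) = ⊥) :
    F.Hcomp a i j = ⊥ := by
  classical
  have S2 : GrSES (shiftGr (coimG X hx).gr (-e)) X.gr 𝒩 (coimMap X hx) π := by
    have S := grSES_coim_coker X hx
    refine ⟨S.f_gr, hπ, S.f_inj, hπs, ?_⟩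
    rw [hker]
    change _ = LinearMap.range ((LinearMap.ker (LinearMap.lsmul R X.carrier x)).liftQ
        (LinearMap.lsmul R X.carrier x) le_rfl)
    rw [Submodule.range_liftQ]
  have hCs : (shiftRes EC (-e)).Hcomp a (i + 1) j = ⊥ := by
    rw [Submodule.eq_bot_iff]
    intro z hz
    have hz' : z ∈ EC.Hcomp a (i + 1) (j + -e) := hz
    rw [hC] at hz'
    exact hz'
  exact Hcomp_eq_bot_of_ses S2 (shiftRes EC (-e)) E F a i j h1 hCs

/-- If the kernel `K` of `x` on `M` is `a`-torsion, `H^i_a(M)_j = 0` and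
`H^{i+1}_a(M)_{j-e} = 0` then `H^i_a(M/xM)_j = 0`. -/
theorem Hcomp_quot_eq_bot (X : GMod.{u} 𝒜) {x : R} {e : ℤ} (hx : x ∈ 𝒜 e)
    (a : HomogeneousIdeal 𝒜) (hK : gam a.toIdeal (kerG X hx).carrier = ⊤)
    {N : Type u} [AddCommGroup N] [Module R N] (𝒩 : ℤ → AddSubgroup N)
    [DirectSum.Decomposition 𝒩] [SetLike.GradedSMul 𝒜 𝒩]
    (π : X.carrier →ₗ[R] N) (hπ : IsGrHom X.gr 𝒩 π) (hπs : Function.Surjective π)
    (hker : LinearMap.ker π = LinearMap.range (LinearMap.lsmul R X.carrier x))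
    (E : StarInjRes 𝒜 X.gr) (F : StarInjRes 𝒜 𝒩) (i : ℕ) (j : ℤ)
    (h1 : E.Hcomp a i j = ⊥) (h2 : E.Hcomp a (i + 1) (j + -e) = ⊥) :
    F.Hcomp a i j = ⊥ :=
  Hcomp_quot_eq_bot_aux X hx a 𝒩 π hπ hπs hker E F i j h1 (minRes 𝒜 (coimG X hx).gr)
    (Hcomp_coim_eq_bot X hx a hK E i (j + -e) h2 _)

end Groth.Agent.Lib.T2H3.QReg
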