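import Groth.Agent.Lib.T2H3QRegB
import Groth.Agent.Lib.T2H3WPoly
import Groth.Prelude.Def_GrSyz

/-! Weak regularity passes to `M/xM` for a quasi-regular linear form over the standard graded
polynomial ring (helper3). -/

set_option autoImplicit false
set_option linter.unusedSectionVars false
set_option linter.style.haveILetI false
open DirectSum

noncomputable section

namespace Groth.Agent.Lib.T2H3.QReg

open GrLC Groth.Agent.Lib.T2H3.GrIrr Groth.Agent.Lib.T2H3.GrArt Groth.Agent.Lib.T2H3.GrTr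
  Groth.Agent.Lib.T2H3.Serre

universe u

variable (k : Type u) [Field k] (r : ℕ)


theorem stdGr_pos (n : ℤ) (hn : n < 0) : asGr (GrSyz.stdGr k (Fin (r + 1))) n = ⊥ :=
  Groth.Agent.Lib.T2H3.WPoly.wpos k (r + 1) (w := fun _ => (1 : ℤ)) (fun _ => one_pos) n hn

theorem irrel_le_irr : (hiTo (GrSyz.stdGr k (Fin (r + 1))) (GrSyz.irrel (GrSyz.stdGr k (Fin (r + 1))))).toIdeal ≤ irr (asGr (GrSyz.stdGr k (Fin (r + 1)))) := by
  change Ideal.span _ ≤ Ideal.span _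
  apply Ideal.span_mono
  rintro p ⟨n, hn, hp⟩
  exact Set.mem_biUnion (show n ∈ Set.Ioi (0 : ℤ) from hn) hp

variable {M : Type u} [AddCommGroup M] [Module k M] [Module (MvPolynomial (Fin (r + 1)) k) M] [IsScalarTower k (MvPolynomial (Fin (r + 1)) k) M]
  [Module.Finite (MvPolynomial (Fin (r + 1)) k) M] (ℳ : ℤ → Submodule k M) [DirectSum.Decomposition ℳ]
  [SetLike.GradedSMul (GrSyz.stdGr k (Fin (r + 1))) ℳ]
  {N : Type u} [AddCommGroup N] [Module k N] [Module (MvPolynomial (Fin (r + 1)) k) N] [IsScalarTower k (MvPolynomial (Fin (r + 1)) k) N]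
  (𝒩 : ℤ → Submodule k N) [DirectSum.Decomposition 𝒩] [SetLike.GradedSMul (GrSyz.stdGr k (Fin (r + 1))) 𝒩]

theorem Hcomp_quot_eq_bot_poly (x : (MvPolynomial (Fin (r + 1)) k)) (hx : x ∈ (GrSyz.stdGr k (Fin (r + 1))) 1)
    (hq : IsFiniteLength (MvPolynomial (Fin (r + 1)) k) ↥(Submodule.torsionBy (MvPolynomial (Fin (r + 1)) k) M x))
    (π : M →ₗ[(MvPolynomial (Fin (r + 1)) k)] N) (hπ : Function.Surjective π) (hπg : IsGrHom ℳ 𝒩 π)
    (hker : LinearMap.ker π = LinearMap.range (x • (LinearMap.id : M →ₗ[(MvPolynomial (Fin (r + 1)) k)] M)))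
    (E : StarInjRes (GrSyz.stdGr k (Fin (r + 1))) ℳ) (E' : StarInjRes (GrSyz.stdGr k (Fin (r + 1))) 𝒩) (i : ℕ) (j : ℤ)
    (h1 : E.Hcomp (GrSyz.irrel (GrSyz.stdGr k (Fin (r + 1)))) i j = ⊥) (h2 : E.Hcomp (GrSyz.irrel (GrSyz.stdGr k (Fin (r + 1)))) (i + 1) (j + -1) = ⊥) :
    E'.Hcomp (GrSyz.irrel (GrSyz.stdGr k (Fin (r + 1)))) i j = ⊥ := by
  classical
  let X : GMod.{u} (asGr (GrSyz.stdGr k (Fin (r + 1)))) := GMod.of (asGr (GrSyz.stdGr k (Fin (r + 1)))) M (asGr ℳ)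
  have hx' : x ∈ asGr (GrSyz.stdGr k (Fin (r + 1))) 1 := hx
  have hKeq : LinearMap.ker (LinearMap.lsmul (MvPolynomial (Fin (r + 1)) k) M x) = Submodule.torsionBy (MvPolynomial (Fin (r + 1)) k) M x := by
    ext y
    rw [LinearMap.mem_ker, Submodule.mem_torsionBy_iff]
    rfl
  haveI hart : IsArtinian (MvPolynomial (Fin (r + 1)) k) (kerG X hx').carrier := by
    have h1 : IsArtinian (MvPolynomial (Fin (r + 1)) k) ↥(Submodule.torsionBy (MvPolynomial (Fin (r + 1)) k) M x) :=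
      (isFiniteLength_iff_isNoetherian_isArtinian.mp hq).2
    rw [← hKeq] at h1
    exact h1
  have hK : gam (hiTo (GrSyz.stdGr k (Fin (r + 1))) (GrSyz.irrel (GrSyz.stdGr k (Fin (r + 1))))).toIdeal (kerG X hx').carrier = ⊤ :=
    gam_eq_top_of_isArtinian (asGr (GrSyz.stdGr k (Fin (r + 1)))) (kerG X hx').gr (stdGr_pos k r) _ (irrel_le_irr k r)
  have hker' : LinearMap.ker π = LinearMap.range (LinearMap.lsmul (MvPolynomial (Fin (r + 1)) k) X.carrier x) := by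
    rw [hker]
    rfl
  have key := Hcomp_quot_eq_bot X hx' (hiTo (GrSyz.stdGr k (Fin (r + 1))) (GrSyz.irrel (GrSyz.stdGr k (Fin (r + 1))))) hK (asGr 𝒩) π
    (fun g m hm => hπg g m hm) hπ hker' (resTo (GrSyz.stdGr k (Fin (r + 1))) ℳ E) (resTo (GrSyz.stdGr k (Fin (r + 1))) 𝒩 E') i j
    (by
      rw [Submodule.eq_bot_iff]
      intro y hy
      have hy' : y ∈ E.Hcomp (GrSyz.irrel (GrSyz.stdGr k (Fin (r + 1)))) i j := hy
      rw [h1] at hy'
      exact hy')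
    (by
      rw [Submodule.eq_bot_iff]
      intro y hy
      have hy' : y ∈ E.Hcomp (GrSyz.irrel (GrSyz.stdGr k (Fin (r + 1)))) (i + 1) (j + -1) := hy
      rw [h2] at hy'
      exact hy')
  rw [Submodule.eq_bot_iff]
  intro y hy
  have hy' : y ∈ (resTo (GrSyz.stdGr k (Fin (r + 1))) 𝒩 E').Hcomp (hiTo (GrSyz.stdGr k (Fin (r + 1))) (GrSyz.irrel (GrSyz.stdGr k (Fin (r + 1))))) i j := hy
  rw [key] at hy'
  exact hy'

end Groth.Agent.Lib.T2H3.QReg
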