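import Mathlib

/-!
# Quasi-finite local structure: auxiliary lemmas (helper3)

Auxiliary ring-theoretic lemmas used for the purity-type statements S0255 / S0257:
* `CP P e`: the finite local algebra obtained from the étale-local structure of quasi-finite
  algebras, and the fact that it is the localization at the distinguished prime;
* base change of unramifiedness at a point;
* heights under flat quasi-finite maps;
* pointwise "flat + unramified ⇒ étale";
* existence of height one primes containing a given element.
-/

open TensorProduct IsLocalRing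
universe u
set_option linter.style.haveILetI false
set_option linter.unusedSectionVars false
noncomputable section
namespace Groth.Agent.Lib.T2H3.QfLoc

section LocalStructure
variable {R' T : Type u} [CommRing R'] [CommRing T] [Algebra R' T]
  (P : Ideal R') [P.IsPrime] (P' : Ideal T) [P'.IsPrime] [P'.LiesOver P]
  (e : T)

/-- the finite local algebra -/
abbrev CP : Type u :=
  Localization (Algebra.algebraMapSubmonoid (Localization.Away e) P.primeCompl)

instance finite_CP [Module.Finite R' (Localization.Away e)] :
    Module.Finite (Localization.AtPrime P) (CP P e) :=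
  Module.Finite.of_isLocalization R' (Localization.Away e) P.primeCompl

/-- the submonoid of `T` at which `CP` is the localization -/
abbrev N0 : Submonoid T :=
  IsLocalization.localizationLocalizationSubmodule (Submonoid.powers e)
    (Algebra.algebraMapSubmonoid (Localization.Away e) P.primeCompl)

instance isLocalization_N0 : IsLocalization (N0 P e) (CP P e) :=
  IsLocalization.localization_localization_isLocalization (Submonoid.powers e)
    (Algebra.algebraMapSubmonoid (Localization.Away e) P.primeCompl) (CP P e)

theorem isUnit_e : IsUnit (algebraMap T (CP P e) e) := by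
  rw [IsScalarTower.algebraMap_apply T (Localization.Away e) (CP P e)]
  exact (IsLocalization.Away.algebraMap_isUnit e).map _

theorem isUnit_of_notMem (r : R') (hr : r ∉ P) : IsUnit (algebraMap R' (CP P e) r) := by
  rw [IsScalarTower.algebraMap_apply R' (Localization.AtPrime P) (CP P e)]
  exact (IsLocalization.map_units (M := P.primeCompl) _ ⟨r, hr⟩).map _

variable [Module.Finite R' (Localization.Away e)]

/-- every maximal ideal of `CP` contracts to a prime of `T` over `P` avoiding `e`. -/
theorem comap_maximal (n : Ideal (CP P e)) [hn : n.IsMaximal] :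
    (n.comap (algebraMap T (CP P e))).LiesOver P ∧ e ∉ n.comap (algebraMap T (CP P e)) := by
  have : Algebra.IsIntegral (Localization.AtPrime P) (CP P e) := Algebra.IsIntegral.of_finite _ _
  have h1 : (n.comap (algebraMap (Localization.AtPrime P) (CP P e))).IsMaximal :=
    Ideal.isMaximal_comap_of_isIntegral_of_isMaximal n
  have h2 : n.comap (algebraMap (Localization.AtPrime P) (CP P e)) =
      maximalIdeal (Localization.AtPrime P) := IsLocalRing.eq_maximalIdeal h1
  refine ⟨⟨?_⟩, ?_⟩
  · rw [Ideal.under_def, Ideal.comap_comap, ← IsScalarTower.algebraMap_eq,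
      IsScalarTower.algebraMap_eq R' (Localization.AtPrime P) (CP P e), ← Ideal.comap_comap, h2]
    exact (Localization.AtPrime.under_maximalIdeal (I := P)).symm
  · intro he
    exact hn.ne_top (Ideal.eq_top_of_isUnit_mem _ he (isUnit_e P e))

variable (heP' : e ∉ P')
  (huniq : ∀ P'' : Ideal T, P''.IsPrime → P''.LiesOver P → e ∉ P'' → P'' = P')

include heP' in
theorem N0_le : N0 P e ≤ P'.primeCompl := by
  intro t ht htP'
  rw [IsLocalization.mem_localizationLocalizationSubmodule] at ht
  obtain ⟨⟨_, r, hr, rfl⟩, ⟨_, k, rfl⟩, h⟩ := ht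
  simp only at h
  rw [IsScalarTower.algebraMap_apply R' T (Localization.Away e),
    ← map_mul, IsLocalization.eq_iff_exists (Submonoid.powers e)] at h
  obtain ⟨⟨_, j, rfl⟩, hj⟩ := h
  simp only at hj
  have h1 : e ^ j * (algebraMap R' T r * e ^ k) ∈ P' := by
    rw [← hj]; exact P'.mul_mem_left _ htP'
  have h2 : algebraMap R' T r ∈ P' := by
    rcases Ideal.IsPrime.mem_or_mem inferInstance h1 with h | h
    · exact absurd (Ideal.IsPrime.mem_of_pow_mem inferInstance _ h) heP'
    · rcases Ideal.IsPrime.mem_or_mem inferInstance h with h | h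
      · exact h
      · exact absurd (Ideal.IsPrime.mem_of_pow_mem inferInstance _ h) heP'
  have h3 : r ∈ P := by
    rw [P'.over_def P]; exact h2
  exact hr h3

include heP' in
theorem nontrivial_CP : Nontrivial (CP P e) := by
  let φ : CP P e →+* Localization.AtPrime P' :=
    IsLocalization.lift (M := N0 P e) (g := algebraMap T (Localization.AtPrime P'))
      (fun y => IsLocalization.map_units (M := P'.primeCompl) _ ⟨y.1, N0_le P P' e heP' y.2⟩)
  exact φ.domain_nontrivial

include heP' huniq in
theorem comap_maximal_eq (n : Ideal (CP P e)) [n.IsMaximal] :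
    n.comap (algebraMap T (CP P e)) = P' := by
  obtain ⟨h1, h2⟩ := comap_maximal P e n
  exact huniq _ (Ideal.IsPrime.comap _) h1 h2

include heP' huniq in
theorem isLocalRing_CP : IsLocalRing (CP P e) := by
  haveI := nontrivial_CP P P' e heP'
  obtain ⟨m, hm⟩ := Ideal.exists_maximal (CP P e)
  refine IsLocalRing.of_unique_max_ideal ⟨m, hm, fun n hn => ?_⟩
  have h1 := comap_maximal_eq P P' e heP' huniq m
  have h2 := comap_maximal_eq P P' e heP' huniq n
  have e1 := IsLocalization.map_under (N0 P e) (CP P e) n
  have e2 := IsLocalization.map_under (N0 P e) (CP P e) m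
  rw [Ideal.under_def, h2] at e1
  rw [Ideal.under_def, h1] at e2
  exact e1.symm.trans e2

include heP' huniq in
theorem isLocalization_atPrime_CP : IsLocalization.AtPrime (CP P e) P' := by
  haveI := isLocalRing_CP P P' e heP' huniq
  have h1 := comap_maximal_eq P P' e heP' huniq (maximalIdeal (CP P e))
  refine IsLocalization.of_le (N0 P e) P'.primeCompl (N0_le P P' e heP') fun r hr => ?_
  by_contra hu
  have : algebraMap T (CP P e) r ∈ maximalIdeal (CP P e) := (IsLocalRing.mem_maximalIdeal _).mpr hu
  have h2 : r ∈ (maximalIdeal (CP P e)).comap (algebraMap T (CP P e)) := this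
  rw [h1] at h2
  exact hr h2

end LocalStructure

/-- unramifiedness at a point is stable under base change. -/
theorem isUnramifiedAt_tensor {R S R' : Type u} [CommRing R] [CommRing S] [CommRing R'] [Algebra R S]
    [Algebra R R'] (Q : Ideal S) [Q.IsPrime] [hQ : Algebra.IsUnramifiedAt R Q]
    (Q1 : Ideal (R' ⊗[R] S)) [Q1.IsPrime]
    (h : Q1.comap Algebra.TensorProduct.includeRight.toRingHom = Q) :
    Algebra.IsUnramifiedAt R' Q1 := by
  let T := R' ⊗[R] S
  let B := Localization.AtPrime Q1
  let L := Localization.AtPrime Q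
  let g0 : S →ₐ[R] B := (IsScalarTower.toAlgHom R T B).comp Algebra.TensorProduct.includeRight
  have hg0 : ∀ y : Q.primeCompl, IsUnit (g0 y) := by
    intro y
    apply IsLocalization.map_units (M := Q1.primeCompl) B
      ⟨(Algebra.TensorProduct.includeRight (R := R) (A := R') (B := S)) y.1, ?_⟩
    intro hy
    apply y.2
    have : y.1 ∈ Q1.comap Algebra.TensorProduct.includeRight.toRingHom := hy
    rwa [h] at this
  let g : L →ₐ[R] B := IsLocalization.liftAlgHom (M := Q.primeCompl) hg0
  have hg : ∀ s : S, g (algebraMap S L s) = algebraMap T B (1 ⊗ₜ s) := by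
    intro s
    simp only [g, IsLocalization.liftAlgHom_apply, IsLocalization.lift_eq]
    rfl
  show Algebra.FormallyUnramified R' B
  rw [Algebra.FormallyUnramified.iff_comp_injective]
  intro C _ _ I hI f1 f2 hf
  letI : Algebra R C := Algebra.compHom C (algebraMap R R')
  haveI : IsScalarTower R R' C := IsScalarTower.of_algebraMap_eq (fun _ => rfl)
  have h1 : ((f1.restrictScalars R).comp g) = ((f2.restrictScalars R).comp g) := by
    apply Algebra.FormallyUnramified.comp_injective (R := R) (A := L) I hI
    apply AlgHom.ext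
    intro x
    exact congr($hf (g x))
  apply IsLocalization.algHom_ext Q1.primeCompl
  apply Algebra.TensorProduct.ext
  · ext
  · ext s
    have := congr($h1 (algebraMap S L s))
    simp only [AlgHom.coe_comp, AlgHom.coe_restrictScalars', Function.comp_apply, hg] at this
    exact this

/-- flat with incomparable fibres: heights are preserved under contraction. -/
theorem height_eq_of_flat_of_quasiFinite {S T : Type*} [CommRing S] [CommRing T] [Algebra S T]
    [IsNoetherianRing S] [IsNoetherianRing T] [Module.Flat S T] [Algebra.QuasiFinite S T] (Q1 : Ideal T) [Q1.IsPrime] :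
    Q1.height = (Q1.under S).height := by
  haveI : Q1.LiesOver (Q1.under S) := ⟨rfl⟩
  rw [Ideal.height_eq_height_add_of_liesOver_of_hasGoingDown (Q1.under S) Q1]
  set J := (Q1.under S).map (algebraMap S T) with hJ
  have hJle : J ≤ Q1 := Ideal.map_le_iff_le_comap.mpr le_rfl
  haveI : (Q1.map (Ideal.Quotient.mk J)).IsPrime :=
    Ideal.map_isPrime_of_surjective Ideal.Quotient.mk_surjective (by rwa [Ideal.mk_ker])
  have h0 : (Q1.map (Ideal.Quotient.mk J)).height = 0 := by
    rw [Ideal.height_eq_zero_iff]
    refine ⟨⟨inferInstance, bot_le⟩, fun 𝔞 ⟨h𝔞, _⟩ hle => ?_⟩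
    haveI := h𝔞
    -- pull back
    let Q2 : Ideal T := 𝔞.comap (Ideal.Quotient.mk J)
    haveI : Q2.IsPrime := Ideal.IsPrime.comap _
    have h2le : Q2 ≤ Q1 := by
      intro t ht
      have : Ideal.Quotient.mk J t ∈ Q1.map (Ideal.Quotient.mk J) := hle ht
      rw [Ideal.mem_map_iff_of_surjective _ Ideal.Quotient.mk_surjective] at this
      obtain ⟨t', ht', he⟩ := this
      have : t - t' ∈ J := by
        rw [← Ideal.Quotient.eq]; exact he.symm
      have : t = t' + (t - t') := by ring
      rw [this]
      exact Q1.add_mem ht' (hJle ‹_›)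
    have hJ2 : J ≤ Q2 := by
      intro t ht
      show Ideal.Quotient.mk J t ∈ 𝔞
      rw [Ideal.Quotient.eq_zero_iff_mem.mpr ht]
      exact 𝔞.zero_mem
    have hunder : Q2.under S = Q1.under S := by
      apply le_antisymm (Ideal.comap_mono h2le)
      intro s hs
      exact hJ2 (Ideal.mem_map_of_mem _ hs)
    have heq : Q2 = Q1 := Algebra.QuasiFinite.eq_of_le_of_under_eq (R := S) Q2 Q1 h2le hunder
    rw [← heq]
    exact Ideal.map_comap_le
  rw [h0, add_zero]

open Algebra in
/-- pointwise: flat and unramified at `q` implies étale at `q`. -/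
theorem isEtaleAt_of_flat_of_isUnramifiedAt {R S : Type u} [CommRing R] [CommRing S] [Algebra R S]
    [Algebra.FinitePresentation R S] (q : Ideal S) [q.IsPrime]
    (hflat : Module.Flat R (Localization.AtPrime q)) [hunr : Algebra.IsUnramifiedAt R q] :
    Algebra.IsEtaleAt R q := by
  let p : Ideal R := q.under R
  haveI : q.LiesOver p := ⟨rfl⟩
  let Rp := Localization.AtPrime p
  let Sp := Localization (algebraMapSubmonoid S p.primeCompl)
  let Sq := Localization.AtPrime q
  let := Localization.AtPrime.algebraOfLiesOver p q
  let f : Sp →ₐ[S] Sq := IsLocalization.liftAlgHom (M := algebraMapSubmonoid S p.primeCompl)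
        (f := Algebra.ofId _ _) (by
      rintro ⟨_, x, hx, rfl⟩
      simpa using! IsLocalization.map_units (M := q.primeCompl) Sq ⟨algebraMap _ _ x,
        by simp_all [q.over_def p]⟩)
  algebraize [f.toRingHom]
  have : IsScalarTower R Sp Sq := .to₁₃₄ _ S _ _
  have : IsScalarTower Rp Sp Sq := .of_algebraMap_eq' <| by
    apply IsLocalization.ringHom_ext p.primeCompl
    simp only [RingHom.comp_assoc, ← IsScalarTower.algebraMap_eq]
  have : IsLocalization (algebraMapSubmonoid Sp q.primeCompl) Sq :=
    .isLocalization_of_submonoid_le _ _ (algebraMapSubmonoid S p.primeCompl) _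
    (by rintro _ ⟨x, hx, rfl⟩; simp_all [q.over_def p])
  have : FinitePresentation Rp Sp := by
    have : Algebra.IsPushout R Rp S Sp :=
      .symm <| Algebra.isPushout_of_isLocalization p.primeCompl _ _ _
    exact .equiv (Algebra.IsPushout.equiv R Rp S Sp)
  haveI : Module.Flat Rp Sq := (Module.flat_iff_of_isLocalization Rp p.primeCompl Sq).mpr hflat
  haveI : FormallyUnramified R Sq := hunr
  haveI : FormallyUnramified Rp Sq := FormallyUnramified.of_restrictScalars R Rp Sq
  haveI : EssFiniteType Rp Sq := EssFiniteType.of_comp R Rp Sq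
  haveI : FormallyEtale (ResidueField Rp) (ResidueField Rp ⊗[Rp] Sq) :=
    FormallyEtale.of_formallyUnramified_of_field _ _
  haveI : IsLocalHom (algebraMap Rp Sq) := inferInstance
  have hsm : FormallySmooth Rp Sq := FormallySmooth.of_formallySmooth_residueField_tensor
    (R := Rp) (S := Sq) (P := Sp) (algebraMapSubmonoid _ q.primeCompl)
  haveI : FormallySmooth R Sq := .comp R Rp Sq
  exact FormallyEtale.of_formallyUnramified_and_formallySmooth

theorem exists_lt_lt_of_two_le_height {A : Type*} [CommRing A] (m : Ideal A) [m.IsPrime]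
    (h : (2 : ℕ∞) ≤ m.height) :
    ∃ q0 q1 : Ideal A, q0.IsPrime ∧ q1.IsPrime ∧ q0 < q1 ∧ q1 < m := by
  have h1 : ¬ m.height ≤ (1 : ℕ) := by
    intro h'
    have := h.trans h'
    exact absurd this (by decide)
  rw [Ideal.height_le_iff] at h1
  push Not at h1
  obtain ⟨q1, hq1, hlt1, hh1⟩ := h1
  haveI := hq1
  have h0 : ¬ q1.height ≤ (0 : ℕ) := by
    intro h'
    have : (1 : ℕ∞) ≤ 0 := by exact_mod_cast hh1.trans h'
    exact absurd this (by decide)
  rw [Ideal.height_le_iff] at h0
  push Not at h0
  obtain ⟨q0, hq0, hlt0, -⟩ := h0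
  exact ⟨q0, q1, hq0, hq1, hlt0, hlt1⟩

/-- In a Noetherian ring, every element of a prime of positive height lies in a prime of height one
contained in it. -/
theorem exists_height_one_mem {A : Type*} [CommRing A] [IsNoetherianRing A] (f : A) :
    ∀ (n : ℕ) (m : Ideal A) [m.IsPrime], m.height = n → 1 ≤ n → f ∈ m →
      ∃ p : Ideal A, p.IsPrime ∧ p ≤ m ∧ f ∈ p ∧ p.height = 1 := by
  intro n
  induction n using Nat.strong_induction_on with
  | _ n ih =>
    intro m _ hmn hn hf
    by_cases h1 : n = 1
    · exact ⟨m, inferInstance, le_rfl, hf, by rw [hmn, h1]; rfl⟩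
    have h2 : (2 : ℕ∞) ≤ m.height := by
      rw [hmn]; exact_mod_cast (by omega : 2 ≤ n)
    obtain ⟨q0, q1, hq0, hq1, h01, h1m⟩ := exists_lt_lt_of_two_le_height m h2
    haveI := hq0; haveI := hq1
    -- a helper: apply the induction hypothesis to a prime strictly inside `m` of positive height
    have key : ∀ (p' : Ideal A) [p'.IsPrime], p' < m → (∃ q : Ideal A, q.IsPrime ∧ q < p') →
        f ∈ p' → ∃ p : Ideal A, p.IsPrime ∧ p ≤ m ∧ f ∈ p ∧ p.height = 1 := by
      intro p' _ hlt ⟨q, hq, hqlt⟩ hfp'
      haveI := hq
      have hfin : p'.height ≠ ⊤ := Ideal.height_ne_top (Ideal.IsPrime.ne_top inferInstance)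
      obtain ⟨k, hk⟩ := ENat.ne_top_iff_exists.mp hfin
      have hklt : k < n := by
        have := Ideal.height_strict_mono_of_isPrime_of_isPrime hlt
        rw [hmn, ← hk] at this
        exact_mod_cast this
      have hk1 : 1 ≤ k := by
        have := Ideal.height_strict_mono_of_isPrime_of_isPrime hqlt
        rw [← hk] at this
        have h0 : (0 : ℕ∞) < k := lt_of_le_of_lt zero_le this
        have : 0 < k := by exact_mod_cast h0
        omega
      obtain ⟨p, hp, hpp', hfp, hph⟩ := ih k hklt p' hk.symm hk1 hfp'
      exact ⟨p, hp, hpp'.trans hlt.le, hfp, hph⟩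
    by_cases hfq1 : f ∈ q1
    · exact key q1 h1m ⟨q0, hq0, h01⟩ hfq1
    · have hle : q0 ⊔ Ideal.span {f} ≤ m :=
        sup_le (h01.le.trans h1m.le) ((Ideal.span_singleton_le_iff_mem _).mpr hf)
      obtain ⟨p', hp'min, hp'm⟩ := Ideal.exists_minimalPrimes_le hle
      haveI : p'.IsPrime := hp'min.1.1
      have hfp' : f ∈ p' := hp'min.1.2 (le_sup_right (a := q0) (Ideal.subset_span rfl))
      have hq0p' : q0 < p' := by
        refine lt_of_le_of_ne (le_sup_left.trans hp'min.1.2) ?_
        intro heq
        exact hfq1 (h01.le (heq ▸ hfp'))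
      have hne : p' ≠ m := by
        intro heq
        rw [heq] at hp'min
        have hK := Ideal.map_height_le_one_of_mem_minimalPrimes hp'min
        haveI : (m.map (Ideal.Quotient.mk q0)).IsPrime :=
          Ideal.map_isPrime_of_surjective Ideal.Quotient.mk_surjective
            (by rw [Ideal.mk_ker]; exact h01.le.trans h1m.le)
        haveI : (q1.map (Ideal.Quotient.mk q0)).IsPrime :=
          Ideal.map_isPrime_of_surjective Ideal.Quotient.mk_surjective
            (by rw [Ideal.mk_ker]; exact h01.le)
        have hlt : q1.map (Ideal.Quotient.mk q0) < m.map (Ideal.Quotient.mk q0) := by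
          refine lt_of_le_of_ne (Ideal.map_mono h1m.le) fun he => ?_
          have h3 := congrArg (Ideal.comap (Ideal.Quotient.mk q0)) he
          rw [Ideal.comap_map_of_surjective _ Ideal.Quotient.mk_surjective,
            Ideal.comap_map_of_surjective _ Ideal.Quotient.mk_surjective,
            ← RingHom.ker_eq_comap_bot, Ideal.mk_ker, sup_eq_left.mpr h01.le,
            sup_eq_left.mpr (h01.le.trans h1m.le)] at h3
          exact h1m.ne h3
        have h4 := (Ideal.height_le_iff (n := 1)).mp (by exact_mod_cast hK) _ inferInstance hlt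
        have h5 : (q1.map (Ideal.Quotient.mk q0)).height = 0 := by
          have : (q1.map (Ideal.Quotient.mk q0)).height < (1 : ℕ∞) := by exact_mod_cast h4
          exact Order.lt_one_iff.mp this
        rw [Ideal.height_eq_zero_iff_eq_bot, Ideal.map_eq_bot_iff_le_ker, Ideal.mk_ker] at h5
        exact absurd h5 (not_le_of_gt h01)
      exact key p' (lt_of_le_of_ne hp'm hne) ⟨q0, hq0, hq0p'⟩ hfp'

end Groth.Agent.Lib.T2H3.QfLoc
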