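-- helper6 (team 2): flatness of the second map of a composite which is flat, the first map being
-- flat and surjective (rings: faithfully flat; schemes: stalkwise).
import Mathlib

set_option autoImplicit false
open CategoryTheory AlgebraicGeometry TensorProduct

universe u

namespace Groth.Agent.Lib.T2H6.FlatCancel

section Alg

variable (A B C : Type u) [CommRing A] [CommRing B] [CommRing C] [Algebra A B] [Algebra B C]
  [Algebra A C] [IsScalarTower A B C]

/-- If `C` is flat over `A` and faithfully flat over `B`, then `B` is flat over `A`. -/
theorem flat_of_faithfullyFlat_tower [Module.Flat A C] [Module.FaithfullyFlat B C] :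
    Module.Flat A B := by
  rw [Module.Flat.iff_lTensor_preserves_injective_linearMap]
  intro N N' _ _ _ _ f hf
  have h0 : Function.Injective (f.baseChange C) := by
    rw [LinearMap.baseChange_eq_ltensor]
    exact Module.Flat.lTensor_preserves_injective_linearMap f hf
  have h1 : Function.Injective ((f.baseChange B).baseChange C) := by
    rw [LinearMap.baseChange_baseChange]
    simp only [LinearMap.coe_comp, LinearEquiv.coe_coe]
    exact (LinearEquiv.injective _).comp (h0.comp (LinearEquiv.injective _))
  have h2 : Function.Injective ((f.baseChange B).lTensor C) := h1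
  have h3 : Function.Injective (f.baseChange B) :=
    (Module.FaithfullyFlat.lTensor_injective_iff_injective B C (f.baseChange B)).1 h2
  exact h3

end Alg

section Ring

variable {A B C : Type u} [CommRing A] [CommRing B] [CommRing C]

/-- Ring homomorphism version: `g` flat and local between local rings, `g ∘ f` flat, then `f` is
flat. -/
theorem ringHom_flat_of_comp (f : A →+* B) (g : B →+* C) [IsLocalRing B] [IsLocalRing C]
    [IsLocalHom g] (hg : g.Flat) (hgf : (g.comp f).Flat) : f.Flat := by
  algebraize [f, g, g.comp f]
  have : IsLocalHom (algebraMap B C) := ‹IsLocalHom g›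
  have : Module.FaithfullyFlat B C := Module.FaithfullyFlat.of_flat_of_isLocalHom
  exact flat_of_faithfullyFlat_tower A B C

end Ring

section Sch

variable {X Y Z : Scheme.{u}}

/-- If `f` is flat and surjective and `f ≫ g` is flat, then `g` is flat. -/
theorem flat_of_flat_comp_of_surjective (f : X ⟶ Y) (g : Y ⟶ Z) [Flat f] [Surjective f]
    [Flat (f ≫ g)] : Flat g := by
  rw [Flat.iff_flat_stalkMap]
  intro y
  obtain ⟨x, rfl⟩ := f.surjective y
  have h1 : (f.stalkMap x).hom.Flat := Flat.stalkMap f x
  have h2 : ((f ≫ g).stalkMap x).hom.Flat := Flat.stalkMap (f ≫ g) x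
  rw [Scheme.Hom.stalkMap_comp] at h2
  exact ringHom_flat_of_comp (g.stalkMap (f x)).hom (f.stalkMap x).hom h1 h2

end Sch

end Groth.Agent.Lib.T2H6.FlatCancel
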