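import Mathlib
import Groth.Agent.Lib.T2H3QfLocA
import Groth.Agent.Lib.T2H6FlatCancel
import Groth.Agent.Lib.Helper20TraceEt

/-!
# Quasi-finite local structure: descent along étale base change and discriminant purity (helper3)
-/

open TensorProduct IsLocalRing
universe u
set_option linter.style.haveILetI false
set_option linter.unusedSectionVars false
noncomputable section
namespace Groth.Agent.Lib.T2H3.QfLoc

section Right
variable {R S R' : Type u} [CommRing R] [CommRing S] [CommRing R'] [Algebra R S] [Algebra R R']
attribute [local instance] Algebra.TensorProduct.rightAlgebra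

def commS : S ⊗[R] R' ≃ₐ[S] R' ⊗[R] S :=
  { Algebra.TensorProduct.comm R S R' with
    commutes' := fun s => by
      show (Algebra.TensorProduct.comm R S R') (s ⊗ₜ 1) = _
      rw [Algebra.TensorProduct.comm_tmul]
      rfl }

theorem flat_right [Module.Flat R R'] : Module.Flat S (R' ⊗[R] S) :=
  Module.Flat.of_linearEquiv (commS (R := R) (S := S) (R' := R')).symm.toLinearEquiv
theorem etale_right [Algebra.Etale R R'] : Algebra.Etale S (R' ⊗[R] S) :=
  Algebra.Etale.of_equiv (commS (R := R) (S := S) (R' := R'))

/-- descent of flatness and unramifiedness at a point along an étale base change. -/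
theorem flat_and_isUnramifiedAt_of_tensor [Algebra.Etale R R']
    (Q1 : Ideal (R' ⊗[R] S)) [Q1.IsPrime] (q : Ideal S) [q.IsPrime]
    (h : Q1.comap Algebra.TensorProduct.includeRight.toRingHom = q)
    (hflat : Module.Flat R' (Localization.AtPrime Q1))
    (hunr : Algebra.FormallyUnramified R' (Localization.AtPrime Q1)) :
    Module.Flat R (Localization.AtPrime q) ∧ Algebra.IsUnramifiedAt R q := by
  let T := R' ⊗[R] S
  let B := Localization.AtPrime Q1
  let L := Localization.AtPrime q
  have hcomap : q = Q1.comap (algebraMap S T) := h.symm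
  let ψ : L →+* B := Localization.localRingHom q Q1 (algebraMap S T) hcomap
  letI : Algebra L B := ψ.toAlgebra
  haveI : IsScalarTower S L B := IsScalarTower.of_algebraMap_eq' (by
    ext s
    show algebraMap S B s = ψ (algebraMap S L s)
    rw [Localization.localRingHom_to_map, IsScalarTower.algebraMap_apply S T B])
  haveI : IsScalarTower R L B := IsScalarTower.to₁₃₄ R S L B
  haveI : IsScalarTower R R' B := IsScalarTower.to₁₂₄ R R' T B
  haveI := flat_right (R := R) (S := S) (R' := R')
  haveI := etale_right (R := R) (S := S) (R' := R')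
  haveI : Module.Flat R B := Module.Flat.trans R R' B
  haveI : Module.Flat S B := Module.Flat.trans S T B
  haveI : Module.Flat L B := (Module.flat_iff_of_isLocalization L q.primeCompl B).mpr inferInstance
  haveI : IsLocalHom (algebraMap L B) := Localization.isLocalHom_localRingHom q Q1 _ hcomap
  haveI : Module.FaithfullyFlat L B := Module.FaithfullyFlat.of_flat_of_isLocalHom
  refine ⟨Groth.Agent.Lib.T2H6.FlatCancel.flat_of_faithfullyFlat_tower R L B, ?_⟩
  haveI : Algebra.FormallyUnramified R B := Algebra.FormallyUnramified.comp R R' B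
  haveI : Algebra.FormallyEtale T B := Algebra.FormallyEtale.of_isLocalization Q1.primeCompl
  haveI : Algebra.FormallyEtale S B := Algebra.FormallyEtale.comp S T B
  haveI : Algebra.FormallyEtale L B := Algebra.FormallyEtale.localization_base q.primeCompl
  have e := KaehlerDifferential.tensorKaehlerEquivOfFormallyEtale R L B
  haveI : Subsingleton Ω[B⁄R] := (Algebra.formallyUnramified_iff R B).mp inferInstance
  haveI : Subsingleton (B ⊗[L] Ω[L⁄R]) := e.toEquiv.subsingleton
  haveI : Subsingleton Ω[L⁄R] := Module.FaithfullyFlat.lTensor_reflects_triviality L B Ω[L⁄R]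
  exact (Algebra.formallyUnramified_iff R L).mpr inferInstance

end Right

/-- unramifiedness at a prime of a localization of `B`, over the localized base. -/
theorem isUnramifiedAt_localization {A B : Type u} [CommRing A] [CommRing B] [Algebra A B]
    (p1 : Ideal A) [p1.IsPrime]
    (M : Ideal (Localization (Algebra.algebraMapSubmonoid B p1.primeCompl))) [M.IsPrime]
    (h : Algebra.IsUnramifiedAt A (M.comap (algebraMap B
      (Localization (Algebra.algebraMapSubmonoid B p1.primeCompl))))) :
    Algebra.IsUnramifiedAt (Localization.AtPrime p1) M := by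
  let B2 := Localization (Algebra.algebraMapSubmonoid B p1.primeCompl)
  let T := Localization.AtPrime M
  haveI : IsLocalization.AtPrime T (M.comap (algebraMap B B2)) :=
    IsLocalization.isLocalization_isLocalization_atPrime_isLocalization
      (Algebra.algebraMapSubmonoid B p1.primeCompl) T M
  let e : Localization.AtPrime (M.comap (algebraMap B B2)) ≃ₐ[A] T :=
    (IsLocalization.algEquiv (M.comap (algebraMap B B2)).primeCompl _ _).restrictScalars A
  haveI : Algebra.FormallyUnramified A (Localization.AtPrime (M.comap (algebraMap B B2))) := h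
  haveI : Algebra.FormallyUnramified A T := Algebra.FormallyUnramified.of_equiv e
  exact Algebra.FormallyUnramified.of_restrictScalars A (Localization.AtPrime p1) T

/-- **Discriminant purity.** -/
theorem etale_of_free_of_isUnramifiedAt {A B : Type u} [CommRing A] [CommRing B] [Algebra A B]
    [IsNoetherianRing A] [IsLocalRing A] [Module.Finite A B] [Module.Free A B]
    (hdim : 1 ≤ (maximalIdeal A).height)
    (h : ∀ (𝔔 : Ideal B) [𝔔.IsPrime], (𝔔.under A).height = 1 → Algebra.IsUnramifiedAt A 𝔔) :
    Algebra.Etale A B := by
  classical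
  let b := Module.Free.chooseBasis A B
  rw [Groth.Agent.Lib.Helper20.TraceEt.etale_iff_isUnit_discr b]
  by_contra hd
  have hdm : Algebra.discr A b ∈ maximalIdeal A := (IsLocalRing.mem_maximalIdeal _).mpr hd
  have hfin : (maximalIdeal A).height ≠ ⊤ :=
    Ideal.height_ne_top (Ideal.IsPrime.ne_top inferInstance)
  obtain ⟨n, hn⟩ := ENat.ne_top_iff_exists.mp hfin
  have hn1 : 1 ≤ n := by
    rw [← hn] at hdim; exact_mod_cast hdim
  obtain ⟨p1, hp1, -, hdp1, hht⟩ :=
    exists_height_one_mem (Algebra.discr A b) n (maximalIdeal A) hn.symm hn1 hdm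
  haveI := hp1
  let A2 := Localization.AtPrime p1
  let B2 := Localization (Algebra.algebraMapSubmonoid B p1.primeCompl)
  let b2 := b.localizationLocalization A2 p1.primeCompl B2
  have hdisc : Algebra.discr A2 b2 = algebraMap A A2 (Algebra.discr A b) :=
    Algebra.discr_localizationLocalization A p1.primeCompl B2 b
  haveI : Module.Finite A2 B2 := Module.Finite.of_isLocalization A B p1.primeCompl
  haveI : Algebra.FormallyUnramified A2 B2 := by
    rw [← Algebra.unramifiedLocus_eq_univ_iff, Set.eq_univ_iff_forall]
    intro x
    by_contra hx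
    obtain ⟨M, hM, hxM⟩ := Ideal.exists_le_maximal x.asIdeal x.2.ne_top
    haveI := hM
    have hclosed : IsClosed (Algebra.unramifiedLocus A2 B2)ᶜ :=
      (Algebra.isOpen_unramifiedLocus).isClosed_compl
    have hspec : x ⤳ (⟨M, hM.isPrime⟩ : PrimeSpectrum B2) :=
      (PrimeSpectrum.le_iff_specializes _ _).mp hxM
    have hMmem : (⟨M, hM.isPrime⟩ : PrimeSpectrum B2) ∈ (Algebra.unramifiedLocus A2 B2)ᶜ :=
      hclosed.stableUnderSpecialization hspec hx
    apply hMmem
    show Algebra.IsUnramifiedAt A2 M
    apply isUnramifiedAt_localization p1 M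
    apply h
    -- the contraction of `M` to `A` is `p1`
    have : Algebra.IsIntegral A2 B2 := Algebra.IsIntegral.of_finite _ _
    have h1 : (M.comap (algebraMap A2 B2)).IsMaximal :=
      Ideal.isMaximal_comap_of_isIntegral_of_isMaximal M
    have h2 : M.comap (algebraMap A2 B2) = maximalIdeal A2 := IsLocalRing.eq_maximalIdeal h1
    have h3 : (M.comap (algebraMap B B2)).under A = p1 := by
      rw [Ideal.under_def, Ideal.comap_comap, ← IsScalarTower.algebraMap_eq,
        IsScalarTower.algebraMap_eq A A2 B2, ← Ideal.comap_comap, h2]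
      exact Localization.AtPrime.under_maximalIdeal (I := p1)
    rw [h3]
    exact hht
  have hu : IsUnit (Algebra.discr A2 b2) :=
    Groth.Agent.Lib.Helper20.TraceEt.isUnit_discr_of_formallyUnramified b2
  rw [hdisc, IsLocalization.AtPrime.isUnit_to_map_iff A2 p1] at hu
  exact hu hdp1

end Groth.Agent.Lib.T2H3.QfLoc
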