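import Mathlib
import Groth.Agent.Lib.T2H3QfLocB

/-!
# Quasi-finite local structure: ring-level purity in the flat case (helper3)
-/
open TensorProduct IsLocalRing
universe u
set_option linter.style.haveILetI false
set_option linter.unusedSectionVars false
noncomputable section
namespace Groth.Agent.Lib.T2H3.QfLoc

section Data
attribute [local instance] Algebra.TensorProduct.rightAlgebra

variable {R S : Type u} [CommRing R] [CommRing S] [Algebra R S]
  {R' : Type u} [CommRing R'] [Algebra R R']
  (P : Ideal R') [P.IsPrime] (e : R' ⊗[R] S) (P' : Ideal (R' ⊗[R] S)) [P'.IsPrime] [P'.LiesOver P]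

/-- the prime of `R' ⊗ S` below a prime of `CP P e` -/
abbrev Q1 (𝔔 : Ideal (CP P e)) : Ideal (R' ⊗[R] S) := 𝔔.comap (algebraMap (R' ⊗[R] S) (CP P e))

/-- the prime of `S` below a prime of `CP P e` -/
abbrev Q0 (𝔔 : Ideal (CP P e)) : Ideal S :=
  (Q1 P e 𝔔).comap (Algebra.TensorProduct.includeRight (R := R) (A := R') (B := S)).toRingHom

instance (𝔔 : Ideal (CP P e)) [𝔔.IsPrime] : (Q1 P e 𝔔).IsPrime := Ideal.IsPrime.comap _
instance (𝔔 : Ideal (CP P e)) [𝔔.IsPrime] : (Q0 P e 𝔔).IsPrime := Ideal.IsPrime.comap _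

theorem noeth_S [IsNoetherianRing R] [Algebra.FiniteType R S] : IsNoetherianRing S :=
  Algebra.FiniteType.isNoetherianRing R S

theorem noeth_T [IsNoetherianRing R] [Algebra.FiniteType R S] [Algebra.Etale R R'] :
    IsNoetherianRing (R' ⊗[R] S) := by
  haveI : IsNoetherianRing R' := Algebra.FiniteType.isNoetherianRing R R'
  exact Algebra.FiniteType.isNoetherianRing R' (R' ⊗[R] S)

theorem noeth_CP [IsNoetherianRing R] [Algebra.FiniteType R S] [Algebra.Etale R R'] :
    IsNoetherianRing (CP P e) := by
  haveI := noeth_T (R := R) (S := S) (R' := R')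
  haveI : IsNoetherianRing (Localization.Away e) :=
    IsLocalization.isNoetherianRing (Submonoid.powers e) _ inferInstance
  exact IsLocalization.isNoetherianRing
    (Algebra.algebraMapSubmonoid (Localization.Away e) P.primeCompl) _ inferInstance


variable [Module.Finite R' (Localization.Away e)] (heP' : e ∉ P')
  (huniq : ∀ P'' : Ideal (R' ⊗[R] S), P''.IsPrime → P''.LiesOver P → e ∉ P'' → P'' = P')

include heP' huniq in
theorem Q1_le (𝔔 : Ideal (CP P e)) [h𝔔 : 𝔔.IsPrime] : Q1 P e 𝔔 ≤ P' := by
  haveI := isLocalization_atPrime_CP P P' e heP' huniq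
  intro t ht
  by_contra htP'
  have hu : IsUnit (algebraMap (R' ⊗[R] S) (CP P e) t) :=
    IsLocalization.map_units (M := P'.primeCompl) (CP P e) ⟨t, htP'⟩
  exact h𝔔.ne_top (Ideal.eq_top_of_isUnit_mem _ ht hu)

include heP' huniq in
theorem Q0_le (q : Ideal S)
    (hP'q : P'.comap (Algebra.TensorProduct.includeRight (R := R) (A := R') (B := S)).toRingHom = q)
    (𝔔 : Ideal (CP P e)) [h𝔔 : 𝔔.IsPrime] : Q0 P e 𝔔 ≤ q := by
  rw [← hP'q]
  exact Ideal.comap_mono (Q1_le P e P' heP' huniq 𝔔)

include heP' huniq in
theorem height_Q1 (𝔔 : Ideal (CP P e)) [h𝔔 : 𝔔.IsPrime] : (Q1 P e 𝔔).height = 𝔔.height := by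
  haveI := isLocalization_atPrime_CP P P' e heP' huniq
  exact IsLocalization.height_under P'.primeCompl 𝔔

theorem height_comap_includeRight [IsNoetherianRing R] [Algebra.FiniteType R S] [Algebra.Etale R R']
    (Q : Ideal (R' ⊗[R] S)) [Q.IsPrime] :
    (Q.comap (Algebra.TensorProduct.includeRight (R := R) (A := R') (B := S)).toRingHom).height
      = Q.height := by
  haveI := noeth_S (R := R) (S := S)
  haveI := noeth_T (R := R) (S := S) (R' := R')
  haveI := flat_right (R := R) (S := S) (R' := R')
  haveI := etale_right (R := R) (S := S) (R' := R')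
  exact (height_eq_of_flat_of_quasiFinite (S := S) (T := R' ⊗[R] S) Q).symm

include heP' huniq in
theorem height_Q0 [IsNoetherianRing R] [Algebra.FiniteType R S] [Algebra.Etale R R']
    (𝔔 : Ideal (CP P e)) [h𝔔 : 𝔔.IsPrime] : (Q0 P e 𝔔).height = 𝔔.height := by
  rw [← height_Q1 P e P' heP' huniq 𝔔]
  exact height_comap_includeRight (Q1 P e 𝔔)


include heP' huniq in
/-- transfer of unramifiedness from a prime of `S` to the prime of `CP P e` above it. -/
theorem isUnramifiedAt_CP (𝔔 : Ideal (CP P e)) [h𝔔 : 𝔔.IsPrime]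
    (h : Algebra.IsUnramifiedAt R (Q0 P e 𝔔)) :
    Algebra.IsUnramifiedAt (Localization.AtPrime P) 𝔔 := by
  haveI := isLocalization_atPrime_CP P P' e heP' huniq
  haveI h1 : Algebra.IsUnramifiedAt R' (Q1 P e 𝔔) :=
    isUnramifiedAt_tensor (Q0 P e 𝔔) (Q1 P e 𝔔) rfl
  haveI : IsLocalization.AtPrime (Localization.AtPrime 𝔔) (Q1 P e 𝔔) :=
    IsLocalization.isLocalization_isLocalization_atPrime_isLocalization
      (M := P'.primeCompl) (Localization.AtPrime 𝔔) 𝔔
  let ε : Localization.AtPrime (Q1 P e 𝔔) ≃ₐ[R'] Localization.AtPrime 𝔔 :=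
    (IsLocalization.algEquiv (Q1 P e 𝔔).primeCompl _ _).restrictScalars R'
  haveI : Algebra.FormallyUnramified R' (Localization.AtPrime (Q1 P e 𝔔)) := h1
  haveI : Algebra.FormallyUnramified R' (Localization.AtPrime 𝔔) :=
    Algebra.FormallyUnramified.of_equiv ε
  exact Algebra.FormallyUnramified.of_restrictScalars R' (Localization.AtPrime P)
    (Localization.AtPrime 𝔔)


include heP' huniq in
/-- if `CP P e` is étale over `R'_P` then `R' ⊗ S` is flat and unramified over `R'` at `P'`. -/
theorem flat_and_unramified_of_etale_CP [Algebra.Etale (Localization.AtPrime P) (CP P e)] :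
    Module.Flat R' (Localization.AtPrime P') ∧
      Algebra.FormallyUnramified R' (Localization.AtPrime P') := by
  haveI := isLocalization_atPrime_CP P P' e heP' huniq
  let ε : CP P e ≃ₐ[R'] Localization.AtPrime P' :=
    (IsLocalization.algEquiv P'.primeCompl _ _).restrictScalars R'
  haveI : Module.Flat R' (Localization.AtPrime P) := IsLocalization.flat _ P.primeCompl
  haveI : Module.Flat R' (CP P e) := Module.Flat.trans R' (Localization.AtPrime P) (CP P e)
  haveI : Algebra.FormallyEtale R' (Localization.AtPrime P) :=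
    Algebra.FormallyEtale.of_isLocalization P.primeCompl
  haveI : Algebra.FormallyUnramified R' (CP P e) :=
    Algebra.FormallyUnramified.comp R' (Localization.AtPrime P) (CP P e)
  exact ⟨Module.Flat.of_linearEquiv ε.symm.toLinearEquiv, Algebra.FormallyUnramified.of_equiv ε⟩

end Data

section FlatCase

/-- **Ring-level purity, flat case.** A flat finite type algebra over a Noetherian ring which is
quasi-finite at a prime `q` of positive height and unramified at all height one primes below `q`
is étale at `q`. -/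
theorem isEtaleAt_of_flat_of_codim_one {R S : Type u} [CommRing R] [CommRing S] [Algebra R S]
    [IsNoetherianRing R] [Algebra.FiniteType R S] [Module.Flat R S] (q : Ideal S) [q.IsPrime]
    [Algebra.QuasiFiniteAt R q] (hdim : 1 ≤ q.height)
    (hunr : ∀ (Q : Ideal S) [Q.IsPrime], Q ≤ q → Q.height = 1 → Algebra.IsUnramifiedAt R Q) :
    Algebra.IsEtaleAt R q := by
  let p := q.under R
  haveI : q.LiesOver p := ⟨rfl⟩
  obtain ⟨R', _, _, _, P, _, _, e, he, P', _, _, hP'q, heP', hres, hfin, huniq⟩ :=
    Algebra.exists_etale_isIdempotentElem_forall_liesOver_eq p q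
  haveI := hfin
  haveI := noeth_S (R := R) (S := S)
  haveI := noeth_T (R := R) (S := S) (R' := R')
  haveI := noeth_CP (R := R) (S := S) P e
  haveI : IsNoetherianRing R' := Algebra.FiniteType.isNoetherianRing R R'
  haveI : IsNoetherianRing (Localization.AtPrime P) :=
    IsLocalization.isNoetherianRing P.primeCompl _ inferInstance
  haveI := isLocalRing_CP P P' e heP' huniq
  haveI hloc := isLocalization_atPrime_CP P P' e heP' huniq
  -- flatness
  haveI : Module.Flat R' (R' ⊗[R] S) := inferInstance
  haveI : Module.Flat (R' ⊗[R] S) (CP P e) := IsLocalization.flat _ P'.primeCompl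
  haveI : Module.Flat R' (CP P e) := Module.Flat.trans R' (R' ⊗[R] S) (CP P e)
  haveI : Module.Flat (Localization.AtPrime P) (CP P e) :=
    (Module.flat_iff_of_isLocalization (Localization.AtPrime P) P.primeCompl (CP P e)).mpr
      inferInstance
  haveI : Module.Free (Localization.AtPrime P) (CP P e) := Module.free_of_flat_of_isLocalRing
  have hht : ∀ (𝔔 : Ideal (CP P e)) [𝔔.IsPrime],
      𝔔.height = (𝔔.under (Localization.AtPrime P)).height :=
    fun 𝔔 _ => height_eq_of_flat_of_quasiFinite 𝔔
  have hEt : Algebra.Etale (Localization.AtPrime P) (CP P e) := by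
    apply etale_of_free_of_isUnramifiedAt
    · have h1 := hht (maximalIdeal (CP P e))
      have : Algebra.IsIntegral (Localization.AtPrime P) (CP P e) :=
        Algebra.IsIntegral.of_finite _ _
      have h2 : (maximalIdeal (CP P e)).under (Localization.AtPrime P) =
          maximalIdeal (Localization.AtPrime P) :=
        IsLocalRing.eq_maximalIdeal
          (Ideal.isMaximal_comap_of_isIntegral_of_isMaximal (maximalIdeal (CP P e)))
      have h3 : (maximalIdeal (CP P e)).height = q.height := by
        rw [← height_Q0 P e P' heP' huniq (maximalIdeal (CP P e))]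
        congr 1
        show (Q1 P e (maximalIdeal (CP P e))).comap _ = q
        rw [show Q1 P e (maximalIdeal (CP P e)) = P' from
          comap_maximal_eq P P' e heP' huniq (maximalIdeal (CP P e)), hP'q]
      rw [← h2, ← h1, h3]
      exact hdim
    · intro 𝔔 _ h1
      apply isUnramifiedAt_CP P e P' heP' huniq 𝔔
      apply hunr _ (Q0_le P e P' heP' huniq q hP'q 𝔔)
      rw [height_Q0 P e P' heP' huniq 𝔔, hht 𝔔, h1]
  obtain ⟨hflat, hunr'⟩ := flat_and_unramified_of_etale_CP P e P' heP' huniq
  obtain ⟨-, hu⟩ := flat_and_isUnramifiedAt_of_tensor P' q hP'q hflat hunr'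
  haveI := hu
  haveI : Algebra.FinitePresentation R S :=
    Algebra.FinitePresentation.of_finiteType.mp inferInstance
  exact isEtaleAt_of_flat_of_isUnramifiedAt q (Module.Flat.trans R S (Localization.AtPrime q))

end FlatCase
end Groth.Agent.Lib.T2H3.QfLoc
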