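import Mathlib
import Groth.Agent.Lib.T2H3QfLocC
import Groth.Agent.Lib.Helper3EtNormal
import Groth.Agent.Lib.Helper4UnramNormal
import Groth.Agent.Lib.LeadInrC
import Groth.Agent.Lib.Helper19CKEtale

/-!
# Quasi-finite local structure: ring-level purity in the normal case (helper3)
-/
open TensorProduct IsLocalRing
universe u
set_option linter.style.haveILetI false
set_option linter.unusedSectionVars false
noncomputable section
namespace Groth.Agent.Lib.T2H3.QfLoc

section Normal
attribute [local instance] Algebra.TensorProduct.rightAlgebra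

variable {R S : Type u} [CommRing R] [CommRing S] [Algebra R S]
  {R' : Type u} [CommRing R'] [Algebra R R']
  (P : Ideal R') [P.IsPrime] (e : R' ⊗[R] S) (P' : Ideal (R' ⊗[R] S)) [P'.IsPrime] [P'.LiesOver P]
  [Module.Finite R' (Localization.Away e)] (heP' : e ∉ P')
  (huniq : ∀ P'' : Ideal (R' ⊗[R] S), P''.IsPrime → P''.LiesOver P → e ∉ P'' → P'' = P')

include heP' huniq in
/-- `CP P e` is a normal domain if `S_q` is. -/
theorem isDomain_and_isIntegrallyClosed_CP [Algebra.Etale R R'] (q : Ideal S) [q.IsPrime]
    (hP'q : P'.comap (Algebra.TensorProduct.includeRight (R := R) (A := R') (B := S)).toRingHom = q)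
    [IsDomain (Localization.AtPrime q)] [IsIntegrallyClosed (Localization.AtPrime q)] :
    IsDomain (CP P e) ∧ IsIntegrallyClosed (CP P e) := by
  haveI := isLocalization_atPrime_CP P P' e heP' huniq
  haveI := etale_right (R := R) (S := S) (R' := R')
  let Sq := Localization.AtPrime q
  let T := R' ⊗[R] S
  let C := Sq ⊗[S] T
  let M := Algebra.algebraMapSubmonoid T q.primeCompl
  haveI hM : IsLocalization M C := IsLocalization.tensorRight Sq q.primeCompl
  have hdisj : Disjoint (M : Set T) (P' : Set T) := by
    rw [Set.disjoint_left]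
    rintro _ ⟨s, hs, rfl⟩ hP
    apply hs
    rw [← hP'q]; exact hP
  let QC : Ideal C := P'.map (algebraMap T C)
  haveI : QC.IsPrime := IsLocalization.isPrime_of_isPrime_disjoint M C P' ‹_› hdisj
  have hcomap : QC.comap (algebraMap T C) = P' :=
    IsLocalization.under_map_of_isPrime_disjoint M C ‹_› hdisj
  have h1 : IsLocalization.AtPrime (Localization.AtPrime QC) (QC.comap (algebraMap T C)) :=
    IsLocalization.isLocalization_isLocalization_atPrime_isLocalization M
      (Localization.AtPrime QC) QC
  have key : ∀ (I : Ideal T) [I.IsPrime], I = P' →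
      IsLocalization.AtPrime (Localization.AtPrime QC) I →
      IsLocalization.AtPrime (Localization.AtPrime QC) P' := by
    intro I _ h
    subst h
    exact id
  haveI h2 := key _ hcomap h1
  let ε : CP P e ≃ₐ[T] Localization.AtPrime QC := IsLocalization.algEquiv P'.primeCompl _ _
  obtain ⟨hd, hn⟩ :=
    Groth.Agent.Lib.Helper3.EtNormal.isDomain_and_isIntegrallyClosed_localization Sq C QC
  exact ⟨ε.toRingEquiv.toMulEquiv.isDomain (Localization.AtPrime QC),
    IsIntegrallyClosed.of_equiv (R := Localization.AtPrime QC) (S := CP P e) ε.symm.toRingEquiv⟩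

end Normal

section Regular

/-- local rings of étale algebras over a regular local ring are regular. -/
theorem isRegularLocalRing_atPrime_of_etale {R R' : Type u} [CommRing R] [CommRing R']
    [Algebra R R'] [IsNoetherianRing R] [Algebra.Etale R R']
    (p : Ideal R) [p.IsPrime] (P : Ideal R') [P.IsPrime] [P.LiesOver p]
    [IsRegularLocalRing (Localization.AtPrime p)] :
    IsRegularLocalRing (Localization.AtPrime P) := by
  haveI : IsNoetherianRing R' := Algebra.FiniteType.isNoetherianRing R R'
  let Rp := Localization.AtPrime p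
  let A1 := Localization.AtPrime P
  letI := Localization.AtPrime.algebraOfLiesOver p P
  haveI : IsNoetherianRing A1 := IsLocalization.isNoetherianRing P.primeCompl _ inferInstance
  haveI : Algebra.FormallyEtale R' A1 := .of_isLocalization P.primeCompl
  haveI : Algebra.FormallyUnramified R A1 := .comp R R' A1
  haveI : Algebra.FormallyUnramified Rp A1 := .of_restrictScalars R Rp A1
  haveI : Algebra.EssFiniteType R A1 := .comp R R' A1
  haveI : Algebra.EssFiniteType Rp A1 := .of_comp R Rp A1
  have hdim : ringKrullDim A1 = ringKrullDim Rp := by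
    rw [IsLocalization.AtPrime.ringKrullDim_eq_height P A1,
      IsLocalization.AtPrime.ringKrullDim_eq_height p Rp]
    congr 1
    rw [height_eq_of_flat_of_quasiFinite (S := R) (T := R') P, ← P.over_def p]
  exact Groth.Agent.Lib.Helper19.CKEtale.isRegularLocalRing_of_formallyUnramified_of_dim_eq
    Rp A1 hdim

/-- a finite algebra over a regular local ring of at least the same dimension dominates it. -/
theorem injective_algebraMap_of_dim_le (A B : Type u) [CommRing A] [CommRing B] [Algebra A B]
    [IsRegularLocalRing A] [Module.Finite A B] (h : ringKrullDim A ≤ ringKrullDim B) :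
    Function.Injective (algebraMap A B) := by
  haveI : IsDomain A := Groth.Agent.Lib.Helper5.isDomain_of_isRegularLocalRing A
  haveI : IsNoetherianRing A := inferInstance
  have hint : (algebraMap A B).IsIntegral := (Algebra.IsIntegral.of_finite A B).isIntegral
  have h1 := Groth.Agent.Lib.Helper5.ringKrullDim_eq_ringKrullDim_quotient_ker_of_isIntegral _ hint
  have h2 := Groth.Agent.Lib.Helper19.injective_of_surjective_of_ringKrullDim_le
    (Ideal.Quotient.mk (RingHom.ker (algebraMap A B))) Ideal.Quotient.mk_surjective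
    (h.trans h1.le)
  rw [RingHom.injective_iff_ker_eq_bot, Ideal.mk_ker] at h2
  exact (RingHom.injective_iff_ker_eq_bot _).2 h2

/-- pointwise: over a Noetherian normal domain, a finite type domain extension is étale at every
prime where it is unramified. -/
theorem isEtaleAt_of_isUnramifiedAt_of_normal (A C : Type u) [CommRing A] [IsDomain A]
    [IsIntegrallyClosed A] [IsNoetherianRing A] [CommRing C] [IsDomain C] [Algebra A C]
    (hinj : Function.Injective (algebraMap A C)) [Algebra.FiniteType A C]
    (Q : Ideal C) [Q.IsPrime] [Algebra.IsUnramifiedAt A Q] : Algebra.IsEtaleAt A Q := by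
  obtain ⟨g, hg, hun⟩ := Algebra.exists_formallyUnramified_of_isUnramifiedAt (R := A) Q
  have hg0 : g ≠ 0 := fun h => hg (h ▸ Q.zero_mem)
  haveI : IsDomain (Localization.Away g) :=
    IsLocalization.isDomain_of_le_nonZeroDivisors (Localization.Away g) (M := Submonoid.powers g)
      (powers_le_nonZeroDivisors_of_noZeroDivisors hg0)
  have hCinj : Function.Injective (algebraMap C (Localization.Away g)) :=
    IsLocalization.injective _ (powers_le_nonZeroDivisors_of_noZeroDivisors hg0)
  have hinj' : Function.Injective (algebraMap A (Localization.Away g)) := by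
    rw [IsScalarTower.algebraMap_eq A C (Localization.Away g)]
    exact hCinj.comp hinj
  haveI : Algebra.FiniteType A (Localization.Away g) :=
    .trans (inferInstance : Algebra.FiniteType A C)
      (IsLocalization.finiteType_of_monoid_fg (.powers g) _)
  haveI : Algebra.Etale A (Localization.Away g) :=
    Groth.Agent.Lib.Helper4.UnramNormal.etale_of_unramified A _ hinj'
  haveI : Algebra.FinitePresentation A C :=
    Algebra.FinitePresentation.of_finiteType.mp inferInstance
  have hsub := (Algebra.basicOpen_subset_etaleLocus_iff_etale (R := A) (A := C) (f := g)).mpr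
    inferInstance
  exact hsub (show (⟨Q, inferInstance⟩ : PrimeSpectrum C) ∈ PrimeSpectrum.basicOpen g from hg)

end Regular

section NormalCase

/-- **Ring-level purity, normal case.** -/
theorem isEtaleAt_of_normal_of_codim_one {R S : Type u} [CommRing R] [CommRing S] [Algebra R S]
    [IsNoetherianRing R] [Algebra.FiniteType R S] (q : Ideal S) [q.IsPrime]
    [Algebra.QuasiFiniteAt R q]
    [IsDomain (Localization.AtPrime q)] [IsIntegrallyClosed (Localization.AtPrime q)]
    [IsRegularLocalRing (Localization.AtPrime (q.under R))]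
    (hdimeq : q.height = (q.under R).height) (hdim : 1 ≤ q.height)
    (hunr : ∀ (Q : Ideal S) [Q.IsPrime], Q ≤ q → Q.height = 1 → Algebra.IsUnramifiedAt R Q) :
    Algebra.IsEtaleAt R q := by
  let p := q.under R
  haveI : q.LiesOver p := ⟨rfl⟩
  obtain ⟨R', _, _, _, P, _, _, e, he, P', _, _, hP'q, heP', hres, hfin, huniq⟩ :=
    Algebra.exists_etale_isIdempotentElem_forall_liesOver_eq p q
  haveI := hfin
  haveI := noeth_S (R := R) (S := S)
  haveI := noeth_T (R := R) (S := S) (R' := R')
  haveI := noeth_CP (R := R) (S := S) P e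
  haveI : IsNoetherianRing R' := Algebra.FiniteType.isNoetherianRing R R'
  haveI : IsNoetherianRing (Localization.AtPrime P) :=
    IsLocalization.isNoetherianRing P.primeCompl _ inferInstance
  haveI := isLocalRing_CP P P' e heP' huniq
  haveI hloc := isLocalization_atPrime_CP P P' e heP' huniq
  haveI hregA : IsRegularLocalRing (Localization.AtPrime P) :=
    isRegularLocalRing_atPrime_of_etale p P
  obtain ⟨hdomB, hnormB⟩ := isDomain_and_isIntegrallyClosed_CP P e P' heP' huniq q hP'q
  haveI := hdomB
  haveI := hnormB
  haveI : IsDomain (Localization.AtPrime P) :=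
    Groth.Agent.Lib.Helper5.isDomain_of_isRegularLocalRing _
  haveI : IsIntegrallyClosed (Localization.AtPrime P) :=
    Groth.Agent.Lib.Helper28.isIntegrallyClosed_of_isRegularLocalRing _
  -- dimensions
  have hdimA : ringKrullDim (Localization.AtPrime P) = P.height :=
    IsLocalization.AtPrime.ringKrullDim_eq_height P _
  have hdimB : ringKrullDim (CP P e) = P'.height :=
    IsLocalization.AtPrime.ringKrullDim_eq_height P' _
  have hP : P.height = p.height := by
    rw [height_eq_of_flat_of_quasiFinite (S := R) (T := R') P, ← P.over_def p]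
  have hP' : P'.height = q.height := by
    rw [← hP'q]; exact (height_comap_includeRight P').symm
  have hinj : Function.Injective (algebraMap (Localization.AtPrime P) (CP P e)) := by
    apply injective_algebraMap_of_dim_le
    rw [hdimA, hdimB, hP, hP', hdimeq]
  haveI : Algebra.IsIntegral (Localization.AtPrime P) (CP P e) := Algebra.IsIntegral.of_finite _ _
  -- a height one prime of `CP P e`
  obtain ⟨𝔔₁, h𝔔₁, -, -, h𝔔₁ht⟩ : ∃ 𝔭 : Ideal (CP P e), 𝔭.IsPrime ∧
      𝔭 ≤ maximalIdeal (CP P e) ∧ (0 : CP P e) ∈ 𝔭 ∧ 𝔭.height = 1 := by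
    have hfinh : (maximalIdeal (CP P e)).height ≠ ⊤ :=
      Ideal.height_ne_top (Ideal.IsPrime.ne_top inferInstance)
    obtain ⟨n, hn⟩ := ENat.ne_top_iff_exists.mp hfinh
    have hmq : (maximalIdeal (CP P e)).height = q.height := by
      have := IsLocalRing.maximalIdeal_height_eq_ringKrullDim (R := CP P e)
      rw [hdimB, hP'] at this
      exact_mod_cast this
    have hn1 : 1 ≤ n := by
      have h1n : (1 : ℕ∞) ≤ n := by
        rw [hn, hmq]; exact hdim
      exact_mod_cast h1n
    exact exists_height_one_mem (0 : CP P e) n (maximalIdeal _) hn.symm hn1 (Ideal.zero_mem _)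
  -- unramified at every prime of height `≤ 1`
  have hunrB : ∀ (𝔔 : Ideal (CP P e)) [𝔔.IsPrime], 𝔔.height ≤ 1 →
      Algebra.IsUnramifiedAt (Localization.AtPrime P) 𝔔 := by
    have h1 : ∀ (𝔔 : Ideal (CP P e)) [𝔔.IsPrime], 𝔔.height = 1 →
        Algebra.IsUnramifiedAt (Localization.AtPrime P) 𝔔 := by
      intro 𝔔 _ h
      apply isUnramifiedAt_CP P e P' heP' huniq 𝔔
      apply hunr _ (Q0_le P e P' heP' huniq q hP'q 𝔔)
      rw [height_Q0 P e P' heP' huniq 𝔔, h]
    intro 𝔔 _ hle
    rcases (le_iff_lt_or_eq.mp hle) with hlt | heq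
    · have h0 : 𝔔.height = 0 := Order.lt_one_iff.mp hlt
      have hbot : 𝔔 = ⊥ := Ideal.height_eq_zero_iff_eq_bot.mp h0
      haveI := h𝔔₁
      have hopen : IsOpen (Algebra.unramifiedLocus (Localization.AtPrime P) (CP P e)) :=
        Algebra.isOpen_unramifiedLocus
      have hspec : (⟨𝔔, inferInstance⟩ : PrimeSpectrum (CP P e)) ⤳ ⟨𝔔₁, h𝔔₁⟩ :=
        (PrimeSpectrum.le_iff_specializes _ _).mp (hbot ▸ bot_le)
      exact hopen.stableUnderGeneralization hspec (h1 𝔔₁ h𝔔₁ht)
    · exact h1 𝔔 heq
  have hEt : Algebra.Etale (Localization.AtPrime P) (CP P e) := by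
    apply Groth.Agent.Lib.LeadInr.etale_of_codim_one _ _ hinj
    intro 𝔔 h𝔔 hle
    haveI := h𝔔
    haveI := hunrB 𝔔
      ((Groth.Agent.Lib.Helper5.height_le_height_under_of_isIntegral 𝔔).trans hle)
    exact isEtaleAt_of_isUnramifiedAt_of_normal _ _ hinj 𝔔
  obtain ⟨hflat, hunr'⟩ := flat_and_unramified_of_etale_CP P e P' heP' huniq
  obtain ⟨hfl, hu⟩ := flat_and_isUnramifiedAt_of_tensor P' q hP'q hflat hunr'
  haveI := hu
  haveI : Algebra.FinitePresentation R S :=
    Algebra.FinitePresentation.of_finiteType.mp inferInstance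
  exact isEtaleAt_of_flat_of_isUnramifiedAt q hfl

end NormalCase
end Groth.Agent.Lib.T2H3.QfLoc
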