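import Mathlib
import Groth.Agent.Lib.T2H3QfLocD
import Groth.Agent.Lib.Helper3EtGUSchC

/-!
# Purity-type statements for quasi-finite morphisms: scheme level (helper3)
-/

set_option autoImplicit false
set_option linter.style.haveILetI false
set_option linter.unusedSectionVars false
universe u
open CategoryTheory AlgebraicGeometry
open Groth.Agent.Lib.Helper3.EtGUSch

namespace Groth.Agent.Lib.T2H3.QfLoc

section Dict

variable {X : Scheme.{u}} {U : X.Opens} (hU : IsAffineOpen U)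

theorem primeIdealOf_fromSpec' (q : PrimeSpectrum Γ(X, U)) (hq : hU.fromSpec q ∈ U) :
    hU.primeIdealOf ⟨hU.fromSpec q, hq⟩ = q :=
  hU.fromSpec.isOpenEmbedding.injective (hU.fromSpec_primeIdealOf ⟨hU.fromSpec q, hq⟩)

theorem fromSpec_mem' (q : PrimeSpectrum Γ(X, U)) : hU.fromSpec q ∈ U := by
  have : hU.fromSpec q ∈ Set.range hU.fromSpec := ⟨q, rfl⟩
  rwa [hU.range_fromSpec] at this

theorem primeIdealOf_le_iff' (x y : X) (hx : x ∈ U) (hy : y ∈ U) :
    (hU.primeIdealOf ⟨x, hx⟩).asIdeal ≤ (hU.primeIdealOf ⟨y, hy⟩).asIdeal ↔ x ⤳ y := by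
  have h1 : (hU.primeIdealOf ⟨x, hx⟩).asIdeal ≤ (hU.primeIdealOf ⟨y, hy⟩).asIdeal ↔
      hU.primeIdealOf ⟨x, hx⟩ ⤳ hU.primeIdealOf ⟨y, hy⟩ :=
    PrimeSpectrum.le_iff_specializes _ _
  have h2 := hU.fromSpec.isOpenEmbedding.isInducing.specializes_iff
    (x := hU.primeIdealOf ⟨x, hx⟩) (y := hU.primeIdealOf ⟨y, hy⟩)
  rw [hU.fromSpec_primeIdealOf ⟨x, hx⟩, hU.fromSpec_primeIdealOf ⟨y, hy⟩] at h2
  exact h1.trans h2.symm

theorem ringKrullDim_stalk_eq_height (x : X) (hx : x ∈ U) :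
    ringKrullDim (X.presheaf.stalk x) = ((hU.primeIdealOf ⟨x, hx⟩).asIdeal.height : WithBot ℕ∞) := by
  letI := X.presheaf.algebra_section_stalk ⟨x, hx⟩
  haveI := hU.isLocalization_stalk ⟨x, hx⟩
  exact IsLocalization.AtPrime.ringKrullDim_eq_height (hU.primeIdealOf ⟨x, hx⟩).asIdeal
    (X.presheaf.stalk x)

/-- the stalk as the localization at the prime ideal of the point -/
noncomputable def stalkEquiv (x : X) (hx : x ∈ U) :
    Localization.AtPrime (hU.primeIdealOf ⟨x, hx⟩).asIdeal ≃+* X.presheaf.stalk x := by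
  letI := X.presheaf.algebra_section_stalk ⟨x, hx⟩
  haveI := hU.isLocalization_stalk ⟨x, hx⟩
  exact (IsLocalization.algEquiv (hU.primeIdealOf ⟨x, hx⟩).asIdeal.primeCompl
    (Localization.AtPrime (hU.primeIdealOf ⟨x, hx⟩).asIdeal) (X.presheaf.stalk x)).toRingEquiv

end Dict

section Data

variable {X Y : Scheme.{u}} (f : X ⟶ Y) {V : Y.Opens} (hV : IsAffineOpen V) {U : X.Opens}
  (hU : IsAffineOpen U) (e : U ≤ f ⁻¹ᵁ V) {x : X} (hx : x ∈ U)

include hV in
theorem isUnramifiedAt_of_stalkMap (hunr : (f.stalkMap x).hom.FormallyUnramified) :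
    letI := (f.appLE V U e).hom.toAlgebra
    Algebra.IsUnramifiedAt Γ(Y, V) (hU.primeIdealOf ⟨x, hx⟩).asIdeal := by
  letI algAB : Algebra Γ(Y, V) Γ(X, U) := (f.appLE V U e).hom.toAlgebra
  letI algBS : Algebra Γ(X, U) (X.presheaf.stalk x) := X.presheaf.algebra_section_stalk ⟨x, hx⟩
  letI algAT : Algebra Γ(Y, V) (Y.presheaf.stalk (f x)) :=
    Y.presheaf.algebra_section_stalk ⟨f x, e hx⟩
  letI algTS : Algebra (Y.presheaf.stalk (f x)) (X.presheaf.stalk x) :=
    (f.stalkMap x).hom.toAlgebra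
  letI algAS : Algebra Γ(Y, V) (X.presheaf.stalk x) :=
    ((algebraMap Γ(X, U) (X.presheaf.stalk x)).comp (algebraMap Γ(Y, V) Γ(X, U))).toAlgebra
  haveI : IsScalarTower Γ(Y, V) Γ(X, U) (X.presheaf.stalk x) :=
    IsScalarTower.of_algebraMap_eq (fun _ => rfl)
  haveI : IsScalarTower Γ(Y, V) (Y.presheaf.stalk (f x)) (X.presheaf.stalk x) :=
    IsScalarTower.of_algebraMap_eq (fun a => germ_appLE f e hx a)
  haveI := hV.isLocalization_stalk ⟨f x, e hx⟩
  haveI := hU.isLocalization_stalk ⟨x, hx⟩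
  haveI : Algebra.FormallyUnramified (Y.presheaf.stalk (f x)) (X.presheaf.stalk x) := hunr
  haveI : Algebra.FormallyEtale Γ(Y, V) (Y.presheaf.stalk (f x)) :=
    Algebra.FormallyEtale.of_isLocalization (hV.primeIdealOf ⟨f x, e hx⟩).asIdeal.primeCompl
  haveI : Algebra.FormallyUnramified Γ(Y, V) (X.presheaf.stalk x) :=
    Algebra.FormallyUnramified.comp Γ(Y, V) (Y.presheaf.stalk (f x)) (X.presheaf.stalk x)
  let ε : Localization.AtPrime (hU.primeIdealOf ⟨x, hx⟩).asIdeal ≃ₐ[Γ(X, U)] X.presheaf.stalk x :=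
    IsLocalization.algEquiv (hU.primeIdealOf ⟨x, hx⟩).asIdeal.primeCompl _ _
  exact Algebra.FormallyUnramified.of_equiv (ε.restrictScalars Γ(Y, V)).symm

end Data

section Main

variable {X Y : Scheme.{u}} (f : X ⟶ Y) [LocallyOfFiniteType f] [IsLocallyNoetherian X]
  [IsLocallyNoetherian Y] (x : X)

/-- the common reduction: the hypothesis on points of dimension one gives unramifiedness at the
height one primes below the prime of `x`. -/
theorem isUnramifiedAt_of_height_one {V : Y.Opens} (hV : IsAffineOpen V) {U : X.Opens}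
    (hU : IsAffineOpen U) (e : U ≤ f ⁻¹ᵁ V) (hxU : x ∈ U)
    (hunr : ∀ x' : X, x' ⤳ x → ringKrullDim (X.presheaf.stalk x') = 1 →
      (f.stalkMap x').hom.FormallyUnramified)
    (Q : Ideal Γ(X, U)) [hQ : Q.IsPrime] (hQq : Q ≤ (hU.primeIdealOf ⟨x, hxU⟩).asIdeal)
    (hQ1 : Q.height = 1) :
    letI := (f.appLE V U e).hom.toAlgebra
    Algebra.IsUnramifiedAt Γ(Y, V) Q := by
  letI algAB : Algebra Γ(Y, V) Γ(X, U) := (f.appLE V U e).hom.toAlgebra
  let x' : X := hU.fromSpec ⟨Q, hQ⟩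
  have hx'U : x' ∈ U := fromSpec_mem' hU _
  have hprime : hU.primeIdealOf ⟨x', hx'U⟩ = ⟨Q, hQ⟩ := primeIdealOf_fromSpec' hU _ hx'U
  have hspec : x' ⤳ x := by
    rw [← primeIdealOf_le_iff' hU x' x hx'U hxU, hprime]
    exact hQq
  have hd : ringKrullDim (X.presheaf.stalk x') = 1 := by
    rw [ringKrullDim_stalk_eq_height hU x' hx'U, hprime]
    show ((Q.height : ℕ∞) : WithBot ℕ∞) = 1
    rw [hQ1]; rfl
  have h1 := isUnramifiedAt_of_stalkMap f hV hU e hx'U (hunr x' hspec hd)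
  have key : ∀ (y : PrimeSpectrum Γ(X, U)), y = ⟨Q, hQ⟩ →
      (haveI := y.2; Algebra.IsUnramifiedAt Γ(Y, V) y.asIdeal) →
      Algebra.IsUnramifiedAt Γ(Y, V) Q := by
    intro y hy
    subst hy
    exact id
  exact key _ hprime h1

/-- **S0257.** -/
theorem exists_etale_nhd_of_flat [Flat f] (hq : f.QuasiFiniteAt x)
    (hdim1 : (1 : WithBot ℕ∞) ≤ ringKrullDim (X.presheaf.stalk x))
    (hunr : ∀ x' : X, x' ⤳ x → ringKrullDim (X.presheaf.stalk x') = 1 →
      (f.stalkMap x').hom.FormallyUnramified) :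
    ∃ U : X.Opens, x ∈ U ∧ Etale (U.ι ≫ f) := by
  obtain ⟨V, hV, U, hU, e, hxU, -⟩ := exists_affine_nhds f x ⊤ trivial
  letI algAB : Algebra Γ(Y, V) Γ(X, U) := (f.appLE V U e).hom.toAlgebra
  haveI : IsNoetherianRing Γ(Y, V) := IsLocallyNoetherian.component_noetherian ⟨V, hV⟩
  haveI : Algebra.FiniteType Γ(Y, V) Γ(X, U) :=
    HasRingHomProperty.appLE (P := @LocallyOfFiniteType) f inferInstance ⟨V, hV⟩ ⟨U, hU⟩ e
  haveI : Module.Flat Γ(Y, V) Γ(X, U) :=
    HasRingHomProperty.appLE (P := @Flat) f inferInstance ⟨V, hV⟩ ⟨U, hU⟩ e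
  let q : Ideal Γ(X, U) := (hU.primeIdealOf ⟨x, hxU⟩).asIdeal
  haveI : Algebra.QuasiFiniteAt Γ(Y, V) q := hq.quasiFiniteAt hU hV e hxU
  have hdimq : 1 ≤ q.height := by
    rw [ringKrullDim_stalk_eq_height hU x hxU] at hdim1
    exact_mod_cast hdim1
  haveI : Algebra.IsEtaleAt Γ(Y, V) q :=
    isEtaleAt_of_flat_of_codim_one q hdimq
      (fun Q _ hQq hQ1 => isUnramifiedAt_of_height_one f x hV hU e hxU hunr Q hQq hQ1)
  haveI : Algebra.FinitePresentation Γ(Y, V) Γ(X, U) :=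
    Algebra.FinitePresentation.of_finiteType.mp inferInstance
  obtain ⟨g, hgq, hg⟩ := Algebra.exists_etale_of_isEtaleAt (R := Γ(Y, V)) q
  exact ⟨X.basicOpen g, (mem_basicOpen_iff_notMem_primeIdealOf hU hxU g).mpr hgq,
    etale_ι_comp_of_etale_away f hV hU e g hg⟩

/-- **S0255.** -/
theorem exists_etale_nhd_of_normal
    (hx : IsDomain (X.presheaf.stalk x) ∧ IsIntegrallyClosed (X.presheaf.stalk x))
    (hy : IsRegularLocalRing (Y.presheaf.stalk (f.base x)))
    (hq : f.QuasiFiniteAt x)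
    (hdim : ringKrullDim (X.presheaf.stalk x) = ringKrullDim (Y.presheaf.stalk (f.base x)))
    (hdim1 : (1 : WithBot ℕ∞) ≤ ringKrullDim (X.presheaf.stalk x))
    (hunr : ∀ x' : X, x' ⤳ x → ringKrullDim (X.presheaf.stalk x') = 1 →
      (f.stalkMap x').hom.FormallyUnramified) :
    ∃ U : X.Opens, x ∈ U ∧ Etale (U.ι ≫ f) := by
  obtain ⟨V, hV, U, hU, e, hxU, -⟩ := exists_affine_nhds f x ⊤ trivial
  letI algAB : Algebra Γ(Y, V) Γ(X, U) := (f.appLE V U e).hom.toAlgebra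
  haveI : IsNoetherianRing Γ(Y, V) := IsLocallyNoetherian.component_noetherian ⟨V, hV⟩
  haveI : Algebra.FiniteType Γ(Y, V) Γ(X, U) :=
    HasRingHomProperty.appLE (P := @LocallyOfFiniteType) f inferInstance ⟨V, hV⟩ ⟨U, hU⟩ e
  let q : Ideal Γ(X, U) := (hU.primeIdealOf ⟨x, hxU⟩).asIdeal
  let p : Ideal Γ(Y, V) := (hV.primeIdealOf ⟨f x, e hxU⟩).asIdeal
  have hqp : q.under Γ(Y, V) = p := comap_primeIdealOf f hV hU e hxU
  haveI : Algebra.QuasiFiniteAt Γ(Y, V) q := hq.quasiFiniteAt hU hV e hxU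
  have hdimq : 1 ≤ q.height := by
    rw [ringKrullDim_stalk_eq_height hU x hxU] at hdim1
    exact_mod_cast hdim1
  obtain ⟨hdom, hnorm⟩ := hx
  haveI : IsDomain (Localization.AtPrime q) :=
    (stalkEquiv hU x hxU).toMulEquiv.isDomain (X.presheaf.stalk x)
  haveI : IsIntegrallyClosed (Localization.AtPrime q) :=
    IsIntegrallyClosed.of_equiv (R := X.presheaf.stalk x) (S := Localization.AtPrime q)
      (stalkEquiv hU x hxU).symm
  have hregp : IsRegularLocalRing (Localization.AtPrime p) :=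
    IsRegularLocalRing.of_ringEquiv (R := Y.presheaf.stalk (f x)) (stalkEquiv hV (f x) (e hxU)).symm
  have key : ∀ (I : Ideal Γ(Y, V)) [I.IsPrime], I = p →
      IsRegularLocalRing (Localization.AtPrime I) ∧ q.height = I.height := by
    intro I _ hI
    subst hI
    refine ⟨hregp, ?_⟩
    rw [ringKrullDim_stalk_eq_height hU x hxU, ringKrullDim_stalk_eq_height hV (f x) (e hxU)]
      at hdim
    exact_mod_cast hdim
  obtain ⟨hreg, hdimeq⟩ := key (q.under Γ(Y, V)) hqp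
  haveI := hreg
  haveI : Algebra.IsEtaleAt Γ(Y, V) q :=
    isEtaleAt_of_normal_of_codim_one q hdimeq hdimq
      (fun Q _ hQq hQ1 => isUnramifiedAt_of_height_one f x hV hU e hxU hunr Q hQq hQ1)
  haveI : Algebra.FinitePresentation Γ(Y, V) Γ(X, U) :=
    Algebra.FinitePresentation.of_finiteType.mp inferInstance
  obtain ⟨g, hgq, hg⟩ := Algebra.exists_etale_of_isEtaleAt (R := Γ(Y, V)) q
  exact ⟨X.basicOpen g, (mem_basicOpen_iff_notMem_primeIdealOf hU hxU g).mpr hgq,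
    etale_ι_comp_of_etale_away f hV hU e g hg⟩

end Main

end Groth.Agent.Lib.T2H3.QfLoc
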