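/-
Helper library (helper3): étale quasi-sections of affine space through points with finite
separable residue field (ring level).
-/
import Mathlib
import Groth.Agent.Lib.Helper20EtResExt

set_option autoImplicit false
universe u

namespace Groth.Agent.Lib.T2H3.QuasiSec

open Groth.Agent.Lib.Helper20.EtResExt

/-- common denominators in the residue field of a prime. -/
theorem exists_common_denominator {A : Type u} [CommRing A] (p : Ideal A) [p.IsPrime] {n : ℕ}
    (c : Fin n → p.ResidueField) :
    ∃ (d : A) (a : Fin n → A), d ∉ p ∧
      ∀ i, algebraMap A p.ResidueField (a i) = algebraMap A p.ResidueField d * c i := by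
  obtain ⟨b, hb⟩ := IsLocalization.exist_integer_multiples_of_finite (nonZeroDivisors (A ⧸ p)) c
  obtain ⟨d, hd⟩ := Ideal.Quotient.mk_surjective (b : A ⧸ p)
  choose a' ha' using hb
  choose a ha using fun i => Ideal.Quotient.mk_surjective (a' i)
  refine ⟨d, a, ?_, fun i => ?_⟩
  · intro hdp
    have h0 : (b : A ⧸ p) = 0 := by rw [← hd]; exact Ideal.Quotient.eq_zero_iff_mem.mpr hdp
    exact nonZeroDivisors.coe_ne_zero b h0
  · have h1 := ha' i
    rw [← ha i, Algebra.smul_def, ← hd, Ideal.algebraMap_quotient_residueField_mk,
      Ideal.algebraMap_quotient_residueField_mk] at h1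
    exact h1

/-- **Quasi-sections of affine space.** Given a prime `p` of `A`, a finite separable extension `L`
of `κ(p)` and an `L`-valued point `ψ` of `𝔸ⁿ_A` over `p`, there are an étale `A`-algebra `A'`, a
prime `p'` of `A'` and a section `σ : A[x] → A'` with `σ⁻¹(p') = ker ψ`. -/
theorem exists_etale_section_comap_eq_ker {A : Type u} [CommRing A] (p : Ideal A) [p.IsPrime]
    (L : Type u) [Field L] [Algebra p.ResidueField L] [FiniteDimensional p.ResidueField L]
    [Algebra.IsSeparable p.ResidueField L] {n : ℕ}
    (ψ : MvPolynomial (Fin n) A →+* L)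
    (hψ : ψ.comp MvPolynomial.C =
      (algebraMap p.ResidueField L).comp (algebraMap A p.ResidueField)) :
    ∃ (A' : Type u) (_ : CommRing A') (α : A →+* A') (_ : α.Etale) (p' : Ideal A')
      (_ : p'.IsPrime) (σ : MvPolynomial (Fin n) A →+* A'),
      σ.comp MvPolynomial.C = α ∧ p'.comap σ = RingHom.ker ψ := by
  obtain ⟨A₁, _, _, _, p₁, _, hp₁, e, he⟩ := exists_etale_residueField_equiv p L
  let c : Fin n → p₁.ResidueField := fun i => e.symm (ψ (MvPolynomial.X i))
  obtain ⟨d, a, hd, ha⟩ := exists_common_denominator p₁ c
  have hdu : IsUnit (algebraMap A₁ p₁.ResidueField d) := by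
    rw [isUnit_iff_ne_zero, Ne, Ideal.algebraMap_residueField_eq_zero]
    exact hd
  let χ : Localization.Away d →+* p₁.ResidueField := IsLocalization.Away.lift d hdu
  have hχ : ∀ x, χ (algebraMap A₁ (Localization.Away d) x) = algebraMap A₁ p₁.ResidueField x :=
    IsLocalization.Away.lift_eq d hdu
  let α : A →+* Localization.Away d := (algebraMap A₁ (Localization.Away d)).comp (algebraMap A A₁)
  have hα : α.Etale := by
    have h1 : (algebraMap A A₁).Etale := RingHom.etale_algebraMap.mpr inferInstance
    have h2 : (algebraMap A₁ (Localization.Away d)).Etale :=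
      RingHom.etale_algebraMap.mpr (Algebra.Etale.of_isLocalizationAway d)
    exact RingHom.Etale.stableUnderComposition _ _ h1 h2
  let dinv : Localization.Away d := IsLocalization.Away.invSelf d
  have hdinv : algebraMap A₁ (Localization.Away d) d * dinv = 1 := IsLocalization.Away.mul_invSelf d
  let σ : MvPolynomial (Fin n) A →+* Localization.Away d :=
    MvPolynomial.eval₂Hom α (fun i => algebraMap A₁ (Localization.Away d) (a i) * dinv)
  refine ⟨Localization.Away d, inferInstance, α, hα, RingHom.ker χ, RingHom.ker_isPrime χ, σ, ?_, ?_⟩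
  · ext x
    simp [σ]
  · have hcomp : (e : p₁.ResidueField →+* L).comp (χ.comp σ) = ψ := by
      apply MvPolynomial.ringHom_ext
      · intro x
        have h1 : σ (MvPolynomial.C x) = algebraMap A₁ (Localization.Away d) (algebraMap A A₁ x) := by
          simp [σ, α]
        have h2 := congr($he (algebraMap A p.ResidueField x))
        have h3 := congr($hψ x)
        simp only [RingHom.comp_apply] at h2 h3
        simp only [RingHom.comp_apply, h1, hχ]
        rw [h3, ← h2]
        congr 1
        simp
      · intro i
        have h1 : σ (MvPolynomial.X i) = algebraMap A₁ (Localization.Away d) (a i) * dinv := by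
          simp [σ]
        have h4 : χ dinv * algebraMap A₁ p₁.ResidueField d = 1 := by
          rw [← hχ d, ← map_mul, mul_comm, hdinv, map_one]
        have h5 : χ (σ (MvPolynomial.X i)) = c i := by
          rw [h1, map_mul, hχ, ha i, mul_comm, ← mul_assoc, h4, one_mul]
        simp only [RingHom.comp_apply, h5]
        exact e.apply_symm_apply _
    ext x
    rw [Ideal.mem_comap, RingHom.mem_ker, RingHom.mem_ker, ← hcomp]
    simp only [RingHom.comp_apply]
    exact (map_eq_zero_iff (e : p₁.ResidueField →+* L) e.injective).symm

end Groth.Agent.Lib.T2H3.QuasiSec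

namespace Groth.Agent.Lib.T2H3.QuasiSec

/-- **Quasi-sections through closed points.** Let `A → A[x₁,…,xₙ] → B` with `B` of finite type
over `A`, and `q'` a maximal ideal of `B`. If the residue fields of `A` have characteristic zero,
there are an étale `A`-algebra `A'`, a prime `p'` of `A'` and a section `σ : A[x] → A'` such that
`σ⁻¹(p') = g⁻¹(q')`. -/
theorem exists_etale_section_of_isMaximal {A B : Type u} [CommRing A] [CommRing B] (φ : A →+* B)
    (hφ : φ.FiniteType) {n : ℕ} (g : MvPolynomial (Fin n) A →+* B)
    (hg : g.comp MvPolynomial.C = φ) (q' : Ideal B) [q'.IsMaximal]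
    (hchar : ∀ (P : Ideal A) [P.IsPrime], CharZero P.ResidueField) :
    ∃ (A' : Type u) (_ : CommRing A') (α : A →+* A') (_ : α.Etale) (p' : Ideal A')
      (_ : p'.IsPrime) (σ : MvPolynomial (Fin n) A →+* A'),
      σ.comp MvPolynomial.C = α ∧ p'.comap σ = q'.comap g := by
  algebraize [φ]
  let p : Ideal A := q'.comap (algebraMap A B)
  haveI : p.IsPrime := Ideal.IsPrime.comap _
  have hpq : p = q'.comap (algebraMap A B) := rfl
  let _ : Algebra p.ResidueField q'.ResidueField :=
    (Ideal.ResidueField.map p q' (algebraMap A B) hpq).toAlgebra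
  have hmap : ∀ r : A, algebraMap p.ResidueField q'.ResidueField (algebraMap A p.ResidueField r) =
      algebraMap B q'.ResidueField (algebraMap A B r) := fun r =>
    Ideal.ResidueField.map_algebraMap p q' (algebraMap A B) hpq r
  haveI : IsScalarTower A p.ResidueField q'.ResidueField := by
    refine .of_algebraMap_eq fun r => ?_
    rw [hmap r]
    exact IsScalarTower.algebraMap_apply A B q'.ResidueField r
  haveI : CharZero p.ResidueField := hchar p
  haveI : Algebra.FiniteType A q'.ResidueField := Algebra.FiniteType.trans ‹_›
    (inferInstance : Algebra.FiniteType B q'.ResidueField)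
  haveI hft : Algebra.FiniteType p.ResidueField q'.ResidueField :=
    Algebra.FiniteType.of_restrictScalars_finiteType A p.ResidueField q'.ResidueField
  haveI hfin : Module.Finite p.ResidueField q'.ResidueField :=
    finite_of_finite_type_of_isJacobsonRing p.ResidueField q'.ResidueField
  haveI hsep : Algebra.IsSeparable p.ResidueField q'.ResidueField := inferInstance
  obtain ⟨A', _, α, hα, p', hp', σ, h1, h2⟩ := exists_etale_section_comap_eq_ker p q'.ResidueField
    ((algebraMap B q'.ResidueField).comp g) (by
      rw [RingHom.comp_assoc, hg]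
      ext r
      exact (hmap r).symm)
  refine ⟨A', _, α, hα, p', hp', σ, h1, ?_⟩
  rw [h2]
  ext x
  rw [RingHom.mem_ker, Ideal.mem_comap, RingHom.comp_apply, Ideal.algebraMap_residueField_eq_zero]

end Groth.Agent.Lib.T2H3.QuasiSec
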