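/-
Helper library (helper3): étale quasi-sections of smooth morphisms in characteristic zero:
for `f : Z ⟶ S` smooth over a field of characteristic zero and `z : Z`, there is an étale
`g : U ⟶ S`, an `S`-morphism `h : U ⟶ Z` and a point `u : U` with `h u` a specialization of `z`.
-/
import Mathlib
import Groth.Agent.Lib.T2H3QuasiSecA

set_option autoImplicit false
universe u

open CategoryTheory CategoryTheory.Limits AlgebraicGeometry

namespace Groth.Agent.Lib.T2H3.QuasiSec

/-- residue fields of an algebra over a field of characteristic zero have characteristic zero. -/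
theorem charZero_residueField_of_ringHom {k A : Type u} [Field k] [CharZero k] [CommRing A]
    (ψ : k →+* A) (P : Ideal A) [P.IsPrime] : CharZero P.ResidueField :=
  charZero_of_injective_ringHom (f := (algebraMap A P.ResidueField).comp ψ) (RingHom.injective _)

set_option backward.isDefEq.respectTransparency false in
/-- **Étale quasi-sections in characteristic zero.** -/
theorem exists_etale_quasiSection {k : Type u} [Field k] [CharZero k] {Z S : Scheme.{u}}
    (f : Z ⟶ S) [Smooth f] (σ : S ⟶ Spec (CommRingCat.of k)) (z : Z) :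
    ∃ (U : Scheme.{u}) (g : U ⟶ S) (h : U ⟶ Z) (u : U), Etale g ∧ h ≫ f = g ∧ z ⤳ h u := by
  obtain ⟨W, hW, V, hV, hzV, e, hsm⟩ := Smooth.exists_isStandardSmooth f z
  obtain ⟨n, g, hgC, hg⟩ := hsm.exists_etale_mvPolynomial
  let q : PrimeSpectrum Γ(Z, V) := hV.primeIdealOf ⟨z, hzV⟩
  have hq : hV.fromSpec q = z := hV.fromSpec_primeIdealOf ⟨z, hzV⟩
  obtain ⟨q', hq'max, hqq'⟩ := Ideal.exists_le_maximal q.asIdeal q.2.ne_top
  have hft : (f.appLE W V e).hom.FiniteType := f.finiteType_appLE hW hV e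
  let ψ : k →+* Γ(S, W) := ((Scheme.ΓSpecIso (CommRingCat.of k)).inv ≫ σ.appLE ⊤ W le_top).hom
  obtain ⟨A', _, α, hα, p', hp', s, hs1, hs2⟩ := exists_etale_section_of_isMaximal
    (f.appLE W V e).hom hft g hgC q' (fun P _ => charZero_residueField_of_ringHom ψ P)
  let gS : Spec Γ(Z, V) ⟶ Spec (CommRingCat.of (MvPolynomial (Fin n) Γ(S, W))) :=
    Spec.map (CommRingCat.ofHom g)
  let sS : Spec (CommRingCat.of A') ⟶ Spec (CommRingCat.of (MvPolynomial (Fin n) Γ(S, W))) :=
    Spec.map (CommRingCat.ofHom s)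
  let cS : Spec (CommRingCat.of (MvPolynomial (Fin n) Γ(S, W))) ⟶ Spec Γ(S, W) :=
    Spec.map (CommRingCat.ofHom MvPolynomial.C)
  let aS : Spec (CommRingCat.of A') ⟶ Spec Γ(S, W) := Spec.map (CommRingCat.ofHom α)
  haveI : Etale gS := (HasRingHomProperty.Spec_iff (P := @Etale)).mpr hg
  haveI : Etale aS := (HasRingHomProperty.Spec_iff (P := @Etale)).mpr hα
  have h1 : gS ≫ cS = Spec.map (f.appLE W V e) := by
    rw [← Spec.map_comp]
    congr 1
    ext x
    exact congr($hgC x)
  have h2 : sS ≫ cS = aS := by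
    rw [← Spec.map_comp]
    congr 1
    ext x
    exact congr($hs1 x)
  let gU : pullback gS sS ⟶ S := pullback.snd gS sS ≫ aS ≫ hW.fromSpec
  let h : pullback gS sS ⟶ Z := pullback.fst gS sS ≫ hV.fromSpec
  have hpt : gS ⟨q', hq'max.isPrime⟩ = sS ⟨p', hp'⟩ := by
    apply PrimeSpectrum.ext
    exact hs2.symm
  obtain ⟨u, hu1, hu2⟩ := Scheme.Pullback.exists_preimage_pullback (f := gS) (g := sS)
    ⟨q', hq'max.isPrime⟩ ⟨p', hp'⟩ hpt
  refine ⟨pullback gS sS, gU, h, u, inferInstance, ?_, ?_⟩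
  · change (pullback.fst gS sS ≫ hV.fromSpec) ≫ f = pullback.snd gS sS ≫ aS ≫ hW.fromSpec
    rw [Category.assoc, ← hW.SpecMap_appLE_fromSpec f hV e, ← h1, ← h2, Category.assoc,
      pullback.condition_assoc, Category.assoc]
  · change z ⤳ (pullback.fst gS sS ≫ hV.fromSpec) u
    rw [Scheme.Hom.comp_apply, hu1, ← hq]
    apply Specializes.map _ hV.fromSpec.continuous
    rw [← PrimeSpectrum.le_iff_specializes]
    exact hqq'

end Groth.Agent.Lib.T2H3.QuasiSec
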