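import Mathlib
import Groth.Agent.Lib.Helper4Unibranch
import Groth.Agent.Lib.Helper3GURed
import Groth.Agent.Lib.Helper6UniB

/-!
# Geometric unibranchness along integral birational extensions: algebra, part A (helper3)

General lemmas: locality along integral extensions, extension of homomorphisms to
algebraically closed fields, `PowMem` along composites.
-/

set_option autoImplicit false
set_option linter.style.haveILetI false
universe u
open IsLocalRing

namespace Groth.Agent.Lib.T2H3.RadUniAlg

open Groth.Agent.Lib.Helper4.Unibranch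

/-- If `S` is local and integral over `R` with `R → S` injective, then `R` is local. -/
theorem isLocalRing_of_isIntegral_of_injective (R S : Type*) [CommRing R] [CommRing S]
    [Algebra R S] [Algebra.IsIntegral R S] [IsLocalRing S]
    (hinj : Function.Injective (algebraMap R S)) : IsLocalRing R := by
  haveI : Nontrivial R := (algebraMap R S).domain_nontrivial
  apply IsLocalRing.of_unique_max_ideal
  have hmax : ((maximalIdeal S).comap (algebraMap R S)).IsMaximal :=
    Ideal.isMaximal_comap_of_isIntegral_of_isMaximal (maximalIdeal S)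
  refine ⟨_, hmax, fun M hM => ?_⟩
  have hker : RingHom.ker (algebraMap R S) ≤ M := by
    rw [(RingHom.injective_iff_ker_eq_bot _).mp hinj]
    exact bot_le
  obtain ⟨Q, hQ, hQM⟩ := Ideal.exists_ideal_over_maximal_of_isIntegral (S := S) M hker
  rw [← hQM, eq_maximalIdeal hQ]

/-- If `B / nil(B)` is local then `B` is local. -/
theorem isLocalRing_of_isLocalRing_red (B : Type*) [CommRing B]
    [IsLocalRing (B ⧸ nilradical B)] : IsLocalRing B := by
  haveI : IsLocalHom (Ideal.Quotient.mk (nilradical B)) :=
    isLocalHom_of_le_jacobson_bot _ (Ideal.jacobson_bot (R := B) ▸ nilradical_le_jacobson B)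
  exact RingHom.domain_isLocalRing (Ideal.Quotient.mk (nilradical B))

/-- Extending a homomorphism to an algebraically closed field along an integral extension of a
local ring, when its kernel is the maximal ideal. -/
theorem exists_extension (R S : Type*) [CommRing R] [IsLocalRing R] [CommRing S] [Nontrivial S]
    [Algebra R S] [Algebra.IsIntegral R S] (Ω : Type*) [Field Ω] [IsAlgClosed Ω]
    (σ : R →+* Ω) (hσ : RingHom.ker σ = maximalIdeal R) :
    ∃ τ : S →+* Ω, τ.comp (algebraMap R S) = σ := by
  obtain ⟨M, hM⟩ := Ideal.exists_maximal S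
  haveI := hM
  haveI : M.LiesOver (maximalIdeal R) := liesOver_of_isMaximal (R := R) M
  letI : Field (R ⧸ maximalIdeal R) := Ideal.Quotient.field _
  letI : Field (S ⧸ M) := Ideal.Quotient.field _
  let σ' : R ⧸ maximalIdeal R →+* Ω := Ideal.Quotient.lift _ σ (fun a ha => by
    rw [← hσ] at ha; exact ha)
  letI : Algebra (R ⧸ maximalIdeal R) Ω := σ'.toAlgebra
  haveI : Algebra.IsAlgebraic (R ⧸ maximalIdeal R) (S ⧸ M) := by
    haveI : Algebra.IsIntegral (R ⧸ maximalIdeal R) (S ⧸ M) :=
      Ideal.Quotient.algebra_isIntegral_of_liesOver M (maximalIdeal R)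
    exact Algebra.IsIntegral.isAlgebraic
  let ψ : (S ⧸ M) →ₐ[R ⧸ maximalIdeal R] Ω := IsAlgClosed.lift
  refine ⟨ψ.toRingHom.comp (Ideal.Quotient.mk M), ?_⟩
  ext b
  simp only [RingHom.comp_apply]
  rw [← Ideal.Quotient.algebraMap_mk_of_liesOver M (maximalIdeal R)]
  exact (ψ.commutes _).trans rfl

/-- `PowMem` for a composite implies `PowMem` for the second map. -/
theorem powMem_of_comp {A B C : Type*} [CommRing A] [CommRing B] [CommRing C] (f : A →+* B)
    (g : B →+* C) (h : PowMem (g.comp f)) : PowMem g := by
  intro M hM x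
  obtain ⟨n, a, ha⟩ := h M x
  exact ⟨n, f a, ha⟩

end Groth.Agent.Lib.T2H3.RadUniAlg
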