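import Mathlib
import Groth.Agent.Lib.T2H3RadUniAlgA

/-!
# Geometric unibranchness along integral birational extensions: algebra, part B (helper3)

Domains `A₀ ⊆ B₀ ⊆ K` with `B₀` integral over `A₀` and `K` the common fraction field.
-/

set_option autoImplicit false
set_option linter.style.haveILetI false
universe u
open IsLocalRing

namespace Groth.Agent.Lib.T2H3.RadUniAlg

open Groth.Agent.Lib.Helper4.Unibranch

attribute [local instance] fieldQuotMax

/-- injectivity on field-valued points over the closed point. -/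
def Rad2 (A₀ B₀ : Type u) [CommRing A₀] [IsLocalRing A₀] [CommRing B₀] [Algebra A₀ B₀] : Prop :=
  ∀ (K' : Type u) [Field K'] (σ₁ σ₂ : B₀ →+* K'),
    σ₁.comp (algebraMap A₀ B₀) = σ₂.comp (algebraMap A₀ B₀) →
    RingHom.ker (σ₁.comp (algebraMap A₀ B₀)) = maximalIdeal A₀ → σ₁ = σ₂

section Dom

variable (A₀ B₀ : Type u) [CommRing A₀] [IsDomain A₀] [CommRing B₀] [IsDomain B₀]
  [Algebra A₀ B₀] [Algebra.IsIntegral A₀ B₀] (K : Type u) [Field K] [Algebra A₀ K] [Algebra B₀ K]
  [IsScalarTower A₀ B₀ K] [IsFractionRing A₀ K] [IsFractionRing B₀ K]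

/-- the two integral closures in `K` coincide. -/
noncomputable def Psi : integralClosure A₀ K ≃+* integralClosure B₀ K where
  toFun x := ⟨x.1, IsIntegral.tower_top x.2⟩
  invFun x := ⟨x.1, isIntegral_trans (A := B₀) x.1 x.2⟩
  left_inv _ := rfl
  right_inv _ := rfl
  map_mul' _ _ := rfl
  map_add' _ _ := rfl

theorem Psi_algebraMap (a : A₀) :
    Psi A₀ B₀ K (algebraMap A₀ (integralClosure A₀ K) a) =
      algebraMap B₀ (integralClosure B₀ K) (algebraMap A₀ B₀ a) := by
  apply Subtype.ext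
  change algebraMap A₀ K a = algebraMap B₀ K (algebraMap A₀ B₀ a)
  rw [← IsScalarTower.algebraMap_apply]

theorem algebraMap_integralClosure_injective :
    Function.Injective (algebraMap B₀ (integralClosure B₀ K)) := by
  intro x y hxy
  apply IsFractionRing.injective B₀ K
  exact congrArg Subtype.val hxy

theorem ker_toAlgClosure (R : Type u) [CommRing R] [IsLocalRing R] :
    RingHom.ker (toAlgClosure R) = maximalIdeal R := by
  ext x
  rw [RingHom.mem_ker]
  unfold toAlgClosure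
  rw [RingHom.comp_apply, map_eq_zero_iff _ (algebraMap (R ⧸ maximalIdeal R) _).injective,
    Ideal.Quotient.eq_zero_iff_mem]

variable [IsLocalRing A₀]

theorem ker_eq_maximalIdeal_of_comp [IsLocalRing B₀] {Ω : Type*} [Field Ω] (ρ : B₀ →+* Ω)
    (h : RingHom.ker (ρ.comp (algebraMap A₀ B₀)) = maximalIdeal A₀) :
    RingHom.ker ρ = maximalIdeal B₀ := by
  haveI : (RingHom.ker ρ).IsPrime := RingHom.ker_isPrime ρ
  have : ((RingHom.ker ρ).comap (algebraMap A₀ B₀)).IsMaximal := by
    rw [RingHom.comap_ker, h]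
    exact maximalIdeal.isMaximal A₀
  exact eq_maximalIdeal (Ideal.isMaximal_of_isIntegral_of_isMaximal_comap _ this)

include K in
theorem forward (h : CAlg2.IsGeomUnibranch A₀) :
    ∃ _ : IsLocalRing B₀, CAlg2.IsGeomUnibranch B₀ ∧ Rad2 A₀ B₀ := by
  obtain ⟨hlocA', hpowA'⟩ := (isGeomUnibranch_iff_of_isDomain A₀ K).mp h
  haveI : IsLocalRing (integralClosure B₀ K) := (Psi A₀ B₀ K).isLocalRing
  haveI hlocB : IsLocalRing B₀ :=
    isLocalRing_of_isIntegral_of_injective B₀ (integralClosure B₀ K)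
      (algebraMap_integralClosure_injective B₀ K)
  have hpow2 : PowMem ((algebraMap B₀ (integralClosure B₀ K)).comp (algebraMap A₀ B₀)) :=
    powMem_of_ringEquiv (algebraMap A₀ (integralClosure A₀ K)) _ (Psi A₀ B₀ K)
      (fun a => Psi_algebraMap A₀ B₀ K a) hpowA'
  refine ⟨hlocB, ?_, ?_⟩
  · exact (isGeomUnibranch_iff_of_isDomain B₀ K).mpr ⟨inferInstance, powMem_of_comp _ _ hpow2⟩
  · intro K' _ σ₁ σ₂ hσ hk
    let Ω := AlgebraicClosure K'
    let ι : K' →+* Ω := algebraMap K' Ω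
    have hι : Function.Injective ι := (algebraMap K' Ω).injective
    have hker : ∀ σ : B₀ →+* K', RingHom.ker (σ.comp (algebraMap A₀ B₀)) = maximalIdeal A₀ →
        RingHom.ker (ι.comp σ) = maximalIdeal B₀ := by
      intro σ hσk
      apply ker_eq_maximalIdeal_of_comp A₀ B₀
      rw [RingHom.comp_assoc]
      ext a
      rw [RingHom.mem_ker, RingHom.comp_apply, map_eq_zero_iff _ hι, ← RingHom.mem_ker, hσk]
    obtain ⟨τ₁, hτ₁⟩ := exists_extension B₀ (integralClosure B₀ K) Ω (ι.comp σ₁) (hker σ₁ hk)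
    obtain ⟨τ₂, hτ₂⟩ := exists_extension B₀ (integralClosure B₀ K) Ω (ι.comp σ₂)
      (hker σ₂ (hσ ▸ hk))
    have key : ∀ (τ : integralClosure B₀ K →+* Ω) (σ : B₀ →+* K'),
        τ.comp (algebraMap B₀ (integralClosure B₀ K)) = ι.comp σ →
        (τ.comp (Psi A₀ B₀ K : integralClosure A₀ K →+* integralClosure B₀ K)).comp
          (algebraMap A₀ (integralClosure A₀ K)) = ι.comp (σ.comp (algebraMap A₀ B₀)) := by
      intro τ σ hτ
      ext a
      simp only [RingHom.comp_apply, RingHom.coe_coe]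
      rw [Psi_algebraMap]
      exact congrArg (fun f : B₀ →+* Ω => f (algebraMap A₀ B₀ a)) hτ
    have e := ringHom_ext_of_powMem (R := A₀) (S := integralClosure A₀ K) hpowA'
      (τ₁.comp (Psi A₀ B₀ K : integralClosure A₀ K →+* integralClosure B₀ K))
      (τ₂.comp (Psi A₀ B₀ K : integralClosure A₀ K →+* integralClosure B₀ K))
      (by rw [key τ₁ σ₁ hτ₁, key τ₂ σ₂ hτ₂, hσ])
      (by
        rw [key τ₁ σ₁ hτ₁]
        ext a
        rw [RingHom.mem_ker, RingHom.comp_apply, map_eq_zero_iff _ hι, ← RingHom.mem_ker, hk])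
    have e' : τ₁ = τ₂ := by
      ext x
      have := congrArg (fun f : integralClosure A₀ K →+* Ω => f ((Psi A₀ B₀ K).symm x)) e
      simpa using this
    have e'' : ι.comp σ₁ = ι.comp σ₂ := by rw [← hτ₁, ← hτ₂, e']
    ext b
    exact hι (congrArg (fun f : B₀ →+* Ω => f b) e'')

include K in
theorem backward [IsLocalRing B₀] (h : CAlg2.IsGeomUnibranch B₀) (hr : Rad2 A₀ B₀) :
    CAlg2.IsGeomUnibranch A₀ := by
  obtain ⟨hlocB', hpowB'⟩ := (isGeomUnibranch_iff_of_isDomain B₀ K).mp h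
  apply (isGeomUnibranch_iff_of_isDomain A₀ K).mpr
  apply isLocalRing_and_powMem_of_unique
  intro τ₁ τ₂ h₁ h₂
  let Ω := AlgebraicClosure (A₀ ⧸ maximalIdeal A₀)
  let ψ : integralClosure B₀ K →+* integralClosure A₀ K := ((Psi A₀ B₀ K).symm : _ →+* _)
  have hψ : ∀ a : A₀, ψ (algebraMap B₀ (integralClosure B₀ K) (algebraMap A₀ B₀ a)) =
      algebraMap A₀ (integralClosure A₀ K) a := by
    intro a
    rw [← Psi_algebraMap]
    exact (Psi A₀ B₀ K).symm_apply_apply _
  have hcomp : ∀ τ : integralClosure A₀ K →+* Ω,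
      τ.comp (algebraMap A₀ (integralClosure A₀ K)) = toAlgClosure A₀ →
      (((τ.comp ψ).comp (algebraMap B₀ (integralClosure B₀ K))).comp (algebraMap A₀ B₀)) =
        toAlgClosure A₀ := by
    intro τ hτ
    rw [← hτ]
    ext a
    simp only [RingHom.comp_apply]
    rw [hψ]
  have hρ : (τ₁.comp ψ).comp (algebraMap B₀ (integralClosure B₀ K)) =
      (τ₂.comp ψ).comp (algebraMap B₀ (integralClosure B₀ K)) := by
    apply hr Ω
    · rw [hcomp τ₁ h₁, hcomp τ₂ h₂]
    · rw [hcomp τ₁ h₁, ker_toAlgClosure]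
  have hk : RingHom.ker ((τ₁.comp ψ).comp (algebraMap B₀ (integralClosure B₀ K))) =
      maximalIdeal B₀ := by
    apply ker_eq_maximalIdeal_of_comp A₀ B₀
    rw [hcomp τ₁ h₁, ker_toAlgClosure]
  have e := ringHom_ext_of_powMem (R := B₀) (S := integralClosure B₀ K) hpowB'
    (τ₁.comp ψ) (τ₂.comp ψ) hρ hk
  ext x
  have := congrArg (fun f : integralClosure B₀ K →+* Ω => f (Psi A₀ B₀ K x)) e
  simpa [ψ] using this

end Dom

end Groth.Agent.Lib.T2H3.RadUniAlg
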