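import Mathlib
import Groth.Agent.Lib.T2H3RadUniAlgB

/-!
# Geometric unibranchness along integral birational extensions: algebra, part C (helper3)

`main`: `A` local, `B` a nontrivial integral `A`-algebra which is "birational" over `A`
(ring-level hypotheses `hAB`, `hσ`). Then `A` is geometrically unibranch iff `A → B` is radicial at
the closed point and `B` is geometrically unibranch at the primes over the closed point.
-/

set_option autoImplicit false
set_option linter.style.haveILetI false
universe u
open IsLocalRing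

namespace Groth.Agent.Lib.T2H3.RadUniAlg

open Groth.Agent.Lib.Helper4.Unibranch

variable (A B : Type u) [CommRing A] [IsLocalRing A] [CommRing B] [Algebra A B]

/-- injectivity on field-valued points over the closed point. -/
def Rad1 : Prop :=
  ∀ (K' : Type u) [Field K'] (σ₁ σ₂ : B →+* K'),
    σ₁.comp (algebraMap A B) = σ₂.comp (algebraMap A B) →
    RingHom.ker (σ₁.comp (algebraMap A B)) = maximalIdeal A → σ₁ = σ₂

/-- ring-level radiciality at the closed point. -/
def RadRing : Prop :=
  (∀ q q' : Ideal B, q.IsPrime → q'.IsPrime → q.comap (algebraMap A B) = maximalIdeal A →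
      q'.comap (algebraMap A B) = maximalIdeal A → q = q') ∧ Rad1 A B

/-- the canonical map `A → Frac(A_red)`. -/
noncomputable def toFrac : A →+* FractionRing (A ⧸ nilradical A) :=
  (algebraMap (A ⧸ nilradical A) (FractionRing (A ⧸ nilradical A))).comp (Ideal.Quotient.mk _)

theorem ker_toFrac [hA : (nilradical A).IsPrime] : RingHom.ker (toFrac A) = nilradical A := by
  haveI : IsDomain (A ⧸ nilradical A) := Ideal.Quotient.isDomain _
  ext a
  rw [RingHom.mem_ker]
  unfold toFrac
  rw [RingHom.comp_apply, map_eq_zero_iff _ (IsFractionRing.injective (A ⧸ nilradical A) _),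
    Ideal.Quotient.eq_zero_iff_mem]

variable [Algebra.IsIntegral A B]

set_option maxHeartbeats 1000000 in
theorem core (hA : (nilradical A).IsPrime) (hB : (nilradical B).IsPrime)
    (σ : B →+* FractionRing (A ⧸ nilradical A)) (hσ : σ.comp (algebraMap A B) = toFrac A) :
    (CAlg2.IsGeomUnibranch A → ∃ _ : IsLocalRing B, CAlg2.IsGeomUnibranch B ∧ Rad1 A B) ∧
    (∀ [IsLocalRing B], CAlg2.IsGeomUnibranch B → Rad1 A B → CAlg2.IsGeomUnibranch A) := by
  haveI := hA
  haveI := hB
  haveI : IsDomain (A ⧸ nilradical A) := Ideal.Quotient.isDomain _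
  haveI : IsDomain (B ⧸ nilradical B) := Ideal.Quotient.isDomain _
  have hcomap : (nilradical B).comap (algebraMap A B) = nilradical A := by
    ext a
    rw [Ideal.mem_comap, mem_nilradical, mem_nilradical]
    constructor
    · intro h
      have h1 : IsNilpotent (σ (algebraMap A B a)) := h.map σ
      have h2 : (σ.comp (algebraMap A B)) a = 0 := h1.eq_zero
      rw [hσ, ← RingHom.mem_ker, ker_toFrac] at h2
      exact mem_nilradical.mp h2
    · intro h
      exact h.map _
  haveI hlo : (nilradical B).LiesOver (nilradical A) := ⟨hcomap.symm⟩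
  let K := FractionRing (A ⧸ nilradical A)
  let σ' : B ⧸ nilradical B →+* K := Ideal.Quotient.lift _ σ
    (fun b hb => ((mem_nilradical.mp hb).map σ).eq_zero)
  have hσ' : ∀ b, σ' (Ideal.Quotient.mk _ b) = σ b := fun b => rfl
  letI : Algebra (B ⧸ nilradical B) K := σ'.toAlgebra
  haveI : IsScalarTower (A ⧸ nilradical A) (B ⧸ nilradical B) K := by
    refine IsScalarTower.of_algebraMap_eq (fun x => ?_)
    obtain ⟨a, rfl⟩ := Ideal.Quotient.mk_surjective x
    rw [Ideal.Quotient.algebraMap_mk_of_liesOver]
    change _ = σ' (Ideal.Quotient.mk _ (algebraMap A B a))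
    rw [hσ']
    have := congrArg (fun f : A →+* K => f a) hσ
    exact this.symm
  have hkerσ : RingHom.ker σ = nilradical B := by
    haveI : (RingHom.ker σ).IsPrime := RingHom.ker_isPrime σ
    have hle : nilradical B ≤ RingHom.ker σ := fun b hb =>
      RingHom.mem_ker.mpr ((mem_nilradical.mp hb).map σ).eq_zero
    by_contra hne
    have hlt : nilradical B < RingHom.ker σ := lt_of_le_of_ne hle (Ne.symm hne)
    have := Ideal.IsIntegral.comap_lt_comap (R := A) hlt
    rw [hcomap, RingHom.comap_ker, hσ, ker_toFrac] at this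
    exact lt_irrefl _ this
  have hinj : Function.Injective σ' := by
    rw [injective_iff_map_eq_zero]
    intro x hx
    obtain ⟨b, rfl⟩ := Ideal.Quotient.mk_surjective x
    rw [hσ', ← RingHom.mem_ker, hkerσ] at hx
    exact Ideal.Quotient.eq_zero_iff_mem.mpr hx
  haveI : FaithfulSMul (B ⧸ nilradical B) K :=
    (faithfulSMul_iff_algebraMap_injective _ _).mpr hinj
  haveI : IsFractionRing (B ⧸ nilradical B) K := by
    refine IsFractionRing.of_field _ _ (fun z => ?_)
    obtain ⟨x, y, -, rfl⟩ := IsFractionRing.div_surjective (A := A ⧸ nilradical A) z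
    refine ⟨algebraMap _ _ x, algebraMap _ _ y, ?_⟩
    rw [← IsScalarTower.algebraMap_apply, ← IsScalarTower.algebraMap_apply]
  haveI : Algebra.IsIntegral (A ⧸ nilradical A) (B ⧸ nilradical B) :=
    Ideal.Quotient.algebra_isIntegral_of_liesOver _ _
  -- Rad1 ↔ Rad2
  have hmkA : ∀ a : A, algebraMap (A ⧸ nilradical A) (B ⧸ nilradical B) (Ideal.Quotient.mk _ a) =
      Ideal.Quotient.mk _ (algebraMap A B a) := fun a =>
    Ideal.Quotient.algebraMap_mk_of_liesOver _ _ a
  have hmax : (maximalIdeal (A ⧸ nilradical A)).comap (Ideal.Quotient.mk (nilradical A)) =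
      maximalIdeal A := by
    haveI : ((maximalIdeal (A ⧸ nilradical A)).comap (Ideal.Quotient.mk (nilradical A))).IsMaximal :=
      Ideal.comap_isMaximal_of_surjective _ Ideal.Quotient.mk_surjective
    exact eq_maximalIdeal inferInstance
  have h12 : Rad1 A B → Rad2 (A ⧸ nilradical A) (B ⧸ nilradical B) := by
    intro h K' _ τ₁ τ₂ hτ hk
    have hc : ∀ τ : B ⧸ nilradical B →+* K',
        (τ.comp (Ideal.Quotient.mk _)).comp (algebraMap A B) =
          (τ.comp (algebraMap (A ⧸ nilradical A) (B ⧸ nilradical B))).comp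
            (Ideal.Quotient.mk _) := by
      intro τ
      ext a
      simp only [RingHom.comp_apply]
      rw [hmkA]
    have := h K' (τ₁.comp (Ideal.Quotient.mk _)) (τ₂.comp (Ideal.Quotient.mk _))
      (by rw [hc, hc, hτ])
      (by rw [hc, ← RingHom.comap_ker, hk, hmax])
    ext b
    exact congrArg (fun f : B →+* K' => f b) this
  have h21 : Rad2 (A ⧸ nilradical A) (B ⧸ nilradical B) → Rad1 A B := by
    intro h K' _ σ₁ σ₂ hσ12 hk
    have hnil : ∀ σ : B →+* K', ∀ b ∈ nilradical B, σ b = 0 := fun σ b hb =>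
      ((mem_nilradical.mp hb).map σ).eq_zero
    let τ₁ : B ⧸ nilradical B →+* K' := Ideal.Quotient.lift _ σ₁ (hnil σ₁)
    let τ₂ : B ⧸ nilradical B →+* K' := Ideal.Quotient.lift _ σ₂ (hnil σ₂)
    have hc : ∀ (σ : B →+* K') (a : A),
        (Ideal.Quotient.lift _ σ (hnil σ)) (algebraMap (A ⧸ nilradical A) (B ⧸ nilradical B)
          (Ideal.Quotient.mk _ a)) = σ (algebraMap A B a) := by
      intro σ a
      rw [hmkA]
      rfl
    have e : τ₁ = τ₂ := by
      apply h K' τ₁ τ₂
      · ext a
        simp only [RingHom.comp_apply]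
        rw [hc σ₁ a, hc σ₂ a]
        exact congrArg (fun f : A →+* K' => f a) hσ12
      · ext x
        obtain ⟨a, rfl⟩ := Ideal.Quotient.mk_surjective x
        rw [RingHom.mem_ker, RingHom.comp_apply, hc σ₁ a]
        have : Ideal.Quotient.mk (nilradical A) a ∈ maximalIdeal (A ⧸ nilradical A) ↔
            a ∈ maximalIdeal A := by
          rw [← hmax, Ideal.mem_comap]
        rw [this, ← hk, RingHom.mem_ker, RingHom.comp_apply]
    ext b
    exact congrArg (fun f : B ⧸ nilradical B →+* K' => f (Ideal.Quotient.mk _ b)) e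
  constructor
  · intro h
    have h₀ : CAlg2.IsGeomUnibranch (A ⧸ nilradical A) :=
      Groth.Agent.Lib.Helper3.GURed.isGeomUnibranch_red A h
    obtain ⟨hlocB₀, hGUB₀, hrad2⟩ := forward (A ⧸ nilradical A) (B ⧸ nilradical B) K h₀
    haveI := hlocB₀
    haveI hlocB : IsLocalRing B := isLocalRing_of_isLocalRing_red B
    exact ⟨hlocB, Groth.Agent.Lib.Helper6.Uni.isGeomUnibranch_of_red B hGUB₀, h21 hrad2⟩
  · intro hlocB h hrad
    have h₀ : CAlg2.IsGeomUnibranch (B ⧸ nilradical B) :=
      Groth.Agent.Lib.Helper3.GURed.isGeomUnibranch_red B h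
    have := backward (A ⧸ nilradical A) (B ⧸ nilradical B) K h₀ (h12 hrad)
    exact Groth.Agent.Lib.Helper6.Uni.isGeomUnibranch_of_red A this

end Groth.Agent.Lib.T2H3.RadUniAlg
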