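import Mathlib
import Groth.Agent.Lib.T2H3RadUniAlgC

/-!
# Geometric unibranchness along integral birational extensions: algebra, part D (helper3)
-/

set_option autoImplicit false
set_option linter.style.haveILetI false
universe u
open IsLocalRing

namespace Groth.Agent.Lib.T2H3.RadUniAlg

open Groth.Agent.Lib.Helper4.Unibranch

variable (A B : Type u) [CommRing A] [IsLocalRing A] [CommRing B] [Algebra A B]
  [Algebra.IsIntegral A B]

theorem isMaximal_of_comap_eq (q : Ideal B) [q.IsPrime]
    (hq : q.comap (algebraMap A B) = maximalIdeal A) : q.IsMaximal :=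
  Ideal.isMaximal_of_isIntegral_of_isMaximal_comap (R := A) q (hq ▸ maximalIdeal.isMaximal A)

/-- for local `B`, the localization at the maximal ideal is `B`. -/
noncomputable def atMaxEquiv [IsLocalRing B] (q : Ideal B) [q.IsPrime]
    (hq : q = maximalIdeal B) : B ≃+* Localization.AtPrime q :=
  (IsLocalization.atUnits B q.primeCompl (S := Localization.AtPrime q) (by
    intro x hx
    have hx' : x ∉ maximalIdeal B := hq ▸ hx
    rw [mem_maximalIdeal, mem_nonunits_iff, not_not] at hx'
    exact hx')).toRingEquiv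

theorem main [Nontrivial B]
    (hAB : (nilradical A).IsPrime ↔ (nilradical B).IsPrime)
    (hσ : (nilradical A).IsPrime → (nilradical B).IsPrime →
      ∃ σ : B →+* FractionRing (A ⧸ nilradical A), σ.comp (algebraMap A B) = toFrac A) :
    CAlg2.IsGeomUnibranch A ↔
      RadRing A B ∧ ∀ (q : Ideal B) [q.IsPrime], q.comap (algebraMap A B) = maximalIdeal A →
        CAlg2.IsGeomUnibranch (Localization.AtPrime q) := by
  constructor
  · intro h
    have hA : (nilradical A).IsPrime := (Ideal.Quotient.isDomain_iff_prime _).mp h.1.1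
    have hB := hAB.mp hA
    obtain ⟨σ, hσ'⟩ := hσ hA hB
    obtain ⟨hlocB, hGUB, hrad⟩ := (core A B hA hB σ hσ').1 h
    haveI := hlocB
    have hmax : ∀ (q : Ideal B) [q.IsPrime], q.comap (algebraMap A B) = maximalIdeal A →
        q = maximalIdeal B := fun q _ hq => eq_maximalIdeal (isMaximal_of_comap_eq A B q hq)
    refine ⟨⟨fun q q' hq hq' h1 h2 => ?_, hrad⟩, fun q _ hq => ?_⟩
    · haveI := hq
      haveI := hq'
      rw [hmax q h1, hmax q' h2]
    · exact isGeomUnibranch_of_ringEquiv (atMaxEquiv B q (hmax q hq)) hGUB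
  · rintro ⟨⟨hr1, hrad⟩, hGU⟩
    have hker : RingHom.ker (algebraMap A B) ≤ maximalIdeal A :=
      le_maximalIdeal (RingHom.ker_ne_top _)
    obtain ⟨q, hqmax, hq⟩ := Ideal.exists_ideal_over_maximal_of_isIntegral (S := B)
      (maximalIdeal A) hker
    haveI := hqmax
    haveI hlocB : IsLocalRing B := by
      apply IsLocalRing.of_unique_max_ideal
      refine ⟨q, hqmax, fun M hM => ?_⟩
      haveI := hM
      have : (M.comap (algebraMap A B)).IsMaximal :=
        Ideal.isMaximal_comap_of_isIntegral_of_isMaximal M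
      exact hr1 M q hM.isPrime hqmax.isPrime (eq_maximalIdeal this) hq
    have hGUB : CAlg2.IsGeomUnibranch B :=
      isGeomUnibranch_of_ringEquiv (atMaxEquiv B q (eq_maximalIdeal hqmax)).symm (hGU q hq)
    have hB : (nilradical B).IsPrime := (Ideal.Quotient.isDomain_iff_prime _).mp hGUB.1.1
    have hA := hAB.mpr hB
    obtain ⟨σ, hσ'⟩ := hσ hA hB
    exact (core A B hA hB σ hσ').2 hGUB hrad

end Groth.Agent.Lib.T2H3.RadUniAlg
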