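import Mathlib
import Groth.Prelude.Def_EGA4Misc

/-!
# Radicial at a point via field-valued points; lifting points over birational points (helper3)
-/

set_option autoImplicit false
set_option linter.style.haveILetI false
universe u
open AlgebraicGeometry CategoryTheory IsLocalRing

namespace Groth.Agent.Lib.T2H3.RadUniSch

set_option backward.isDefEq.respectTransparency.types false in
set_option backward.defeqAttrib.useBackward true in
/-- radicial at `y` implies injectivity on field-valued points over `y`. -/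
theorem points_injective_of_isRadicialAt {X Y : Scheme.{u}} (f : X ⟶ Y) (y : Y)
    (hf : RadPt.IsRadicialAt f y) (K : Type u) [Field K] (g₁ g₂ : Spec (.of K) ⟶ X)
    (hg : g₁ ≫ f = g₂ ≫ f) (hy : f (g₁ (closedPoint K)) = y) : g₁ = g₂ := by
  obtain ⟨e, h⟩ := Scheme.SpecToEquivOfField_eq_iff.mp congr((Y.SpecToEquivOfField K) $(hg))
  apply (X.SpecToEquivOfField K).injective
  dsimp at e h
  have hy2 : f (g₂ (closedPoint K)) = y := e ▸ hy
  have hpt : g₁ (closedPoint K) = g₂ (closedPoint K) := hf.1 _ _ hy hy2
  simp only [Scheme.descResidueField_stalkClosedPointTo_comp] at e h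
  rw [← f.residueFieldMap_congr'_assoc hpt, CommRingCat.hom_ext_iff] at h
  rw [Scheme.SpecToEquivOfField_eq_iff]
  let x := g₁ (IsLocalRing.closedPoint K)
  have hfx := hf.2 x hy
  algebraize [(f.residueFieldMap (g₁ (IsLocalRing.closedPoint K))).hom]
  refine ⟨hpt, CommRingCat.hom_ext ?_⟩
  exact IsPurelyInseparable.injective_comp_algebraMap
    (Y.residueField (f x)) (X.residueField x) _ h

set_option backward.isDefEq.respectTransparency.types false in
set_option backward.defeqAttrib.useBackward true in
/-- injectivity on field-valued points over `y` implies purely inseparable residue extensions. -/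
theorem isPurelyInseparable_of_points_injective {X Y : Scheme.{u}} (f : X ⟶ Y) (x : X)
    (hpts : ∀ (K : Type u) [Field K] (g₁ g₂ : Spec (.of K) ⟶ X), g₁ ≫ f = g₂ ≫ f →
      f (g₁ (closedPoint K)) = f x → g₁ = g₂) :
    (f.residueFieldMap x).hom.IsPurelyInseparable := by
  algebraize [(f.residueFieldMap x).hom]
  rw [RingHom.IsPurelyInseparable, isPurelyInseparable_iff_subsingleton_emb, subsingleton_iff]
  intro σ₁ σ₂
  apply AlgHom.coe_ringHom_injective
  let g₁ := (X.SpecToEquivOfField _).symm ⟨_, CommRingCat.ofHom σ₁.toRingHom⟩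
  let g₂ := (X.SpecToEquivOfField _).symm ⟨_, CommRingCat.ofHom σ₂.toRingHom⟩
  suffices X.SpecToEquivOfField _ g₁ = X.SpecToEquivOfField _ g₂ by
    rw [Equiv.apply_symm_apply, Equiv.apply_symm_apply] at this
    exact congr($(this).2.hom)
  have h12 : g₁ ≫ f = g₂ ≫ f := by
    simp only [g₁, g₂, Scheme.SpecToEquivOfField_symm_apply, AlgHom.toRingHom_eq_coe,
      Category.assoc, ← f.SpecMap_residueFieldMap_fromSpecResidueField x, ← Spec.map_comp_assoc]
    congr 2
    ext a
    simp only [CommRingCat.hom_comp, RingHom.comp_apply]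
    exact (AlgHom.commutes σ₁ a).trans (AlgHom.commutes σ₂ a).symm
  have hpt : f (g₁ (closedPoint _)) = f x := by
    congr 1
    simp [g₁, Scheme.SpecToEquivOfField_symm_apply]
  rw [hpts _ g₁ g₂ h12 hpt]

/-- characterization of radiciality at a point through field-valued points. -/
theorem isRadicialAt_iff_points {X Y : Scheme.{u}} (f : X ⟶ Y) (y : Y) :
    RadPt.IsRadicialAt f y ↔
      (∀ x x' : X, f x = y → f x' = y → x = x') ∧
      ∀ (K : Type u) [Field K] (g₁ g₂ : Spec (.of K) ⟶ X), g₁ ≫ f = g₂ ≫ f →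
        f (g₁ (closedPoint K)) = y → g₁ = g₂ := by
  constructor
  · intro hf
    exact ⟨hf.1, fun K _ g₁ g₂ hg hy => points_injective_of_isRadicialAt f y hf K g₁ g₂ hg hy⟩
  · rintro ⟨h1, h2⟩
    refine ⟨h1, fun x hx => ?_⟩
    apply isPurelyInseparable_of_points_injective
    intro K _ g₁ g₂ hg hy
    exact h2 K g₁ g₂ hg (hy.trans hx)

/-- lifting a field-valued point through a point with trivial residue field extension. -/
theorem exists_lift_of_bijective {X Y : Scheme.{u}} (f : X ⟶ Y) (x : X)
    (hbij : Function.Bijective (f.residueFieldMap x).hom)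
    (K : Type u) [Field K] (t : Spec (.of K) ⟶ Y) (ht : t (closedPoint K) = f x) :
    ∃ s : Spec (.of K) ⟶ X, s ≫ f = t := by
  obtain ⟨⟨y', t₂⟩, rfl⟩ := (Y.SpecToEquivOfField K).symm.surjective t
  rw [Scheme.SpecToEquivOfField_symm_apply] at ht ⊢
  have hy' : y' = f x := by
    rw [← ht, Scheme.Hom.comp_apply, Scheme.fromSpecResidueField_apply]
  subst hy'
  haveI : IsIso (f.residueFieldMap x) := (ConcreteCategory.isIso_iff_bijective _).mpr hbij
  refine ⟨Spec.map (inv (f.residueFieldMap x) ≫ t₂) ≫ X.fromSpecResidueField x, ?_⟩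
  rw [Category.assoc, ← f.SpecMap_residueFieldMap_fromSpecResidueField x, ← Spec.map_comp_assoc,
    IsIso.hom_inv_id_assoc]

end Groth.Agent.Lib.T2H3.RadUniSch
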