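import Mathlib
import Groth.Agent.Lib.T2H3RadUniSchA
import Groth.Agent.Lib.T2H3RadUniAlgD
import Groth.Agent.Lib.T2H3Birat

/-!
# Affine translation of birationality and radiciality (helper3)
-/

set_option autoImplicit false
set_option linter.style.haveILetI false
universe u
open AlgebraicGeometry CategoryTheory IsLocalRing

namespace Groth.Agent.Lib.T2H3.RadUniSch

open Groth.Agent.Lib.T2H3.Birat Groth.Agent.Lib.T2H3.RadUniAlg

section Generic

variable (R : Type u) [CommRing R]

theorem genericPoints_eq_of_isPrime_nilradical (h : (nilradical R).IsPrime) :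
    genericPoints (PrimeSpectrum R) = {⟨nilradical R, h⟩} := by
  ext x
  rw [mem_genericPoints_iff, Set.mem_singleton_iff]
  constructor
  · intro hx
    have h1 : (⟨nilradical R, h⟩ : PrimeSpectrum R) ≤ x := by
      change nilradical R ≤ x.asIdeal
      exact nilradical_le_prime x.asIdeal
    exact (hx _ ((PrimeSpectrum.le_iff_specializes _ _).mp h1)).symm
  · rintro rfl x' hx'
    have h1 : x'.asIdeal ≤ nilradical R := (PrimeSpectrum.le_iff_specializes _ _).mpr hx'
    exact PrimeSpectrum.ext (le_antisymm h1 (nilradical_le_prime x'.asIdeal))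

theorem isPrime_nilradical_of_genericPoints_eq {x : PrimeSpectrum R}
    (h : genericPoints (PrimeSpectrum R) = {x}) :
    (nilradical R).IsPrime ∧ x.asIdeal = nilradical R := by
  have hle : x.asIdeal ≤ nilradical R := by
    rw [nilradical_eq_sInf]
    refine le_sInf (fun p hp => ?_)
    haveI : p.IsPrime := hp
    obtain ⟨q, hq, hqp⟩ := Ideal.exists_minimalPrimes_le (I := ⊥) (J := p) bot_le
    haveI : q.IsPrime := hq.1.1
    have hgen : (⟨q, hq.1.1⟩ : PrimeSpectrum R) ∈ genericPoints (PrimeSpectrum R) := by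
      rw [mem_genericPoints_iff]
      intro x' hx'
      have h1 : x'.asIdeal ≤ q := (PrimeSpectrum.le_iff_specializes _ _).mpr hx'
      have h2 : q ≤ x'.asIdeal := hq.2 ⟨x'.2, bot_le⟩ h1
      exact PrimeSpectrum.ext (le_antisymm h1 h2)
    rw [h, Set.mem_singleton_iff] at hgen
    rw [← hgen]
    exact hqp
  have heq : x.asIdeal = nilradical R := le_antisymm hle (nilradical_le_prime x.asIdeal)
  exact ⟨heq ▸ x.2, heq⟩

end Generic

section Bir

theorem ker_toFrac' (A : Type u) [CommRing A] [hA : (nilradical A).IsPrime] :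
    RingHom.ker (toFrac A) = nilradical A := by
  haveI : IsDomain (A ⧸ nilradical A) := Ideal.Quotient.isDomain _
  ext a
  rw [RingHom.mem_ker]
  unfold toFrac
  rw [RingHom.comp_apply, map_eq_zero_iff _ (IsFractionRing.injective (A ⧸ nilradical A) _),
    Ideal.Quotient.eq_zero_iff_mem]

variable (A B : Type u) [CommRing A] [CommRing B] [Algebra A B]

theorem hAB_of_isBirational
    (hbir : RadPt.IsBirational (Spec.map (CommRingCat.ofHom (algebraMap A B)))) :
    (nilradical A).IsPrime ↔ (nilradical B).IsPrime := by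
  obtain ⟨hbij0, -⟩ := hbir
  have hbij : Set.BijOn (fun x : PrimeSpectrum B => PrimeSpectrum.comap (algebraMap A B) x)
      (genericPoints (PrimeSpectrum B)) (genericPoints (PrimeSpectrum A)) := hbij0
  constructor
  · intro hA
    have hgA := genericPoints_eq_of_isPrime_nilradical A hA
    obtain ⟨ξ, hξ, -⟩ := hbij.surjOn (show (⟨nilradical A, hA⟩ : PrimeSpectrum A) ∈
      genericPoints (PrimeSpectrum A) by rw [hgA]; rfl)
    have hgB : genericPoints (PrimeSpectrum B) = {ξ} := by
      ext ξ'
      rw [Set.mem_singleton_iff]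
      constructor
      · intro hξ'
        apply hbij.injOn hξ' hξ
        have h1 := hbij.mapsTo hξ'
        have h2 := hbij.mapsTo hξ
        rw [hgA, Set.mem_singleton_iff] at h1 h2
        exact h1.trans h2.symm
      · rintro rfl
        exact hξ
    exact (isPrime_nilradical_of_genericPoints_eq B hgB).1
  · intro hB
    have hgB := genericPoints_eq_of_isPrime_nilradical B hB
    have himg := hbij.image_eq
    rw [hgB, Set.image_singleton] at himg
    exact (isPrime_nilradical_of_genericPoints_eq A himg.symm).1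

theorem nontrivial_of_isBirational [Nontrivial A]
    (hbir : RadPt.IsBirational (Spec.map (CommRingCat.ofHom (algebraMap A B)))) :
    Nontrivial B := by
  obtain ⟨hbij0, -⟩ := hbir
  have hbij : Set.BijOn (fun x : PrimeSpectrum B => PrimeSpectrum.comap (algebraMap A B) x)
      (genericPoints (PrimeSpectrum B)) (genericPoints (PrimeSpectrum A)) := hbij0
  obtain ⟨p, hp⟩ := Ideal.exists_maximal A
  haveI : p.IsPrime := hp.isPrime
  obtain ⟨q, hq, -⟩ := Ideal.exists_minimalPrimes_le (I := ⊥) (J := p) bot_le
  have hgen : (⟨q, hq.1.1⟩ : PrimeSpectrum A) ∈ genericPoints (PrimeSpectrum A) := by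
    rw [mem_genericPoints_iff]
    intro x' hx'
    have h1 : x'.asIdeal ≤ q := (PrimeSpectrum.le_iff_specializes _ _).mpr hx'
    have h2 : q ≤ x'.asIdeal := hq.2 ⟨x'.2, bot_le⟩ h1
    exact PrimeSpectrum.ext (le_antisymm h1 h2)
  obtain ⟨ξ, -, -⟩ := hbij.surjOn hgen
  have : Nonempty (PrimeSpectrum B) := ⟨ξ⟩
  exact (PrimeSpectrum.nonempty_iff_nontrivial).mp this

theorem exists_sigma_of_isBirational
    (hbir : RadPt.IsBirational (Spec.map (CommRingCat.ofHom (algebraMap A B))))
    (hA : (nilradical A).IsPrime) (hB : (nilradical B).IsPrime) :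
    ∃ σ : B →+* FractionRing (A ⧸ nilradical A), σ.comp (algebraMap A B) = toFrac A := by
  obtain ⟨hbij0, hfib⟩ := hbir
  have hbij : Set.BijOn (fun x : PrimeSpectrum B => PrimeSpectrum.comap (algebraMap A B) x)
      (genericPoints (PrimeSpectrum B)) (genericPoints (PrimeSpectrum A)) := hbij0
  haveI := hA
  haveI : IsDomain (A ⧸ nilradical A) := Ideal.Quotient.isDomain _
  have hgA := genericPoints_eq_of_isPrime_nilradical A hA
  have hgB := genericPoints_eq_of_isPrime_nilradical B hB
  let η : PrimeSpectrum A := ⟨nilradical A, hA⟩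
  let ξ : PrimeSpectrum B := ⟨nilradical B, hB⟩
  have hη : η ∈ genericPoints (PrimeSpectrum A) := by rw [hgA]; rfl
  have hξ : ξ ∈ genericPoints (PrimeSpectrum B) := by rw [hgB]; rfl
  have hgξ : (Spec.map (CommRingCat.ofHom (algebraMap A B))) ξ = η := by
    have h1 := hbij.mapsTo hξ
    rw [hgA, Set.mem_singleton_iff] at h1
    exact h1
  have hbijres := (hfib η hη).2 ξ hgξ
  let t : Spec (CommRingCat.of (FractionRing (A ⧸ nilradical A))) ⟶ Spec (CommRingCat.of A) :=
    Spec.map (CommRingCat.ofHom (toFrac A))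
  have ht : t (closedPoint (FractionRing (A ⧸ nilradical A))) = (Spec.map (CommRingCat.ofHom (algebraMap A B))) ξ := by
    rw [hgξ]
    apply PrimeSpectrum.ext
    change Ideal.comap (toFrac A) (maximalIdeal (FractionRing (A ⧸ nilradical A))) = nilradical A
    rw [IsLocalRing.maximalIdeal_eq_bot, ← RingHom.ker_eq_comap_bot, ker_toFrac']
  obtain ⟨s, hs⟩ := exists_lift_of_bijective (Spec.map (CommRingCat.ofHom (algebraMap A B))) ξ
    hbijres (FractionRing (A ⧸ nilradical A)) t ht
  let r : CommRingCat.of B ⟶ CommRingCat.of (FractionRing (A ⧸ nilradical A)) := Spec.preimage s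
  have hr : Spec.map r = s := Spec.map_preimage s
  have hcomm : CommRingCat.ofHom (algebraMap A B) ≫ r = CommRingCat.ofHom (toFrac A) := by
    apply Spec.map_injective
    rw [Spec.map_comp, hr]
    exact hs
  refine ⟨r.hom, ?_⟩
  apply RingHom.ext
  intro a
  have := congrArg (fun t => t.hom a) hcomm
  exact this

end Bir

end Groth.Agent.Lib.T2H3.RadUniSch
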