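import Mathlib
import Groth.Agent.Lib.T2H3RadUniSchB

/-!
# Geometric unibranchness along integral birational morphisms: the affine local case (helper3)
-/

set_option autoImplicit false
set_option linter.style.haveILetI false
universe u
open AlgebraicGeometry CategoryTheory IsLocalRing

namespace Groth.Agent.Lib.T2H3.RadUniSch

open Groth.Agent.Lib.T2H3.Birat Groth.Agent.Lib.T2H3.RadUniAlg Groth.Agent.Lib.Helper4.Unibranch

section Rad

variable (A B : Type u) [CommRing A] [IsLocalRing A] [CommRing B] [Algebra A B]

theorem specMap_comp_eq {K : Type u} [Field K] (σ : B →+* K) :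
    Spec.map (CommRingCat.ofHom σ) ≫ Spec.map (CommRingCat.ofHom (algebraMap A B)) =
      Spec.map (CommRingCat.ofHom (σ.comp (algebraMap A B))) := by
  rw [← Spec.map_comp]
  rfl

theorem specMap_closedPoint_eq_iff {K : Type u} [Field K] (τ : A →+* K) :
    (Spec.map (CommRingCat.ofHom τ)) (closedPoint K) = closedPoint A ↔
      RingHom.ker τ = maximalIdeal A := by
  have h1 : ((Spec.map (CommRingCat.ofHom τ)) (closedPoint K)).asIdeal = RingHom.ker τ := by
    change Ideal.comap τ (maximalIdeal K) = RingHom.ker τ
    rw [IsLocalRing.maximalIdeal_eq_bot, ← RingHom.ker_eq_comap_bot]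
  constructor
  · intro h
    rw [← h1, h]
    rfl
  · intro h
    apply PrimeSpectrum.ext
    rw [h1, h]
    rfl

theorem isRadicialAt_iff_radRing :
    RadPt.IsRadicialAt (Spec.map (CommRingCat.ofHom (algebraMap A B))) (closedPoint A) ↔
      RadRing A B := by
  rw [isRadicialAt_iff_points]
  refine and_congr ?_ ?_
  · constructor
    · intro h q q' hq hq' h1 h2
      have := h ⟨q, hq⟩ ⟨q', hq'⟩ (PrimeSpectrum.ext h1) (PrimeSpectrum.ext h2)
      exact congrArg PrimeSpectrum.asIdeal this
    · intro h x x' h1 h2
      apply PrimeSpectrum.ext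
      exact h x.asIdeal x'.asIdeal x.2 x'.2 (congrArg PrimeSpectrum.asIdeal h1)
        (congrArg PrimeSpectrum.asIdeal h2)
  · constructor
    · intro h K _ σ₁ σ₂ hσ hk
      have h1 := h K (Spec.map (CommRingCat.ofHom σ₁)) (Spec.map (CommRingCat.ofHom σ₂))
        (by rw [specMap_comp_eq, specMap_comp_eq, hσ])
        (by
          rw [← Scheme.Hom.comp_apply, specMap_comp_eq]
          exact (specMap_closedPoint_eq_iff A _).mpr hk)
      have h2 := Spec.map_injective h1
      apply RingHom.ext
      intro b
      exact congrArg (fun t => t.hom b) h2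
    · intro h K _ g₁ g₂ hg hy
      have e₁ : Spec.map (CommRingCat.ofHom (Spec.preimage g₁).hom) = g₁ := Spec.map_preimage g₁
      have e₂ : Spec.map (CommRingCat.ofHom (Spec.preimage g₂).hom) = g₂ := Spec.map_preimage g₂
      rw [← e₁, ← e₂] at hg
      rw [← e₁] at hy
      rw [specMap_comp_eq, specMap_comp_eq] at hg
      rw [← Scheme.Hom.comp_apply, specMap_comp_eq] at hy
      have h1 := Spec.map_injective hg
      have h2 : (Spec.preimage g₁).hom.comp (algebraMap A B) =
          (Spec.preimage g₂).hom.comp (algebraMap A B) := by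
        apply RingHom.ext
        intro a
        exact congrArg (fun t => t.hom a) h1
      rw [← e₁, ← e₂, h _ _ _ h2 ((specMap_closedPoint_eq_iff A _).mp hy)]

end Rad

section Stalk

/-- the stalk of `Spec B` at a prime is the localization. -/
noncomputable def stalkEquiv (B : Type u) [CommRing B] (x : PrimeSpectrum B) :
    Localization.AtPrime x.asIdeal ≃+* (Spec (CommRingCat.of B)).presheaf.stalk x :=
  (IsLocalization.algEquiv x.asIdeal.primeCompl (Localization.AtPrime x.asIdeal)
    ((Spec.structureSheaf B).presheaf.stalk x)).toRingEquiv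

theorem isGeomUnibranch_stalk_iff (B : Type u) [CommRing B] (x : PrimeSpectrum B) :
    CAlg2.IsGeomUnibranch ((Spec (CommRingCat.of B)).presheaf.stalk x) ↔
      CAlg2.IsGeomUnibranch (Localization.AtPrime x.asIdeal) :=
  ⟨fun h => isGeomUnibranch_of_ringEquiv (stalkEquiv B x).symm h,
    fun h => isGeomUnibranch_of_ringEquiv (stalkEquiv B x) h⟩

end Stalk

/-- **The affine local case.** -/
theorem main_affine (A B : Type u) [CommRing A] [IsLocalRing A] [CommRing B] [Algebra A B]
    [Algebra.IsIntegral A B]
    (hbir : RadPt.IsBirational (Spec.map (CommRingCat.ofHom (algebraMap A B)))) :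
    CAlg2.IsGeomUnibranch A ↔
      RadPt.IsRadicialAt (Spec.map (CommRingCat.ofHom (algebraMap A B))) (closedPoint A) ∧
      ∀ x : Spec (CommRingCat.of B),
        (Spec.map (CommRingCat.ofHom (algebraMap A B))) x = closedPoint A →
        CAlg2.IsGeomUnibranch ((Spec (CommRingCat.of B)).presheaf.stalk x) := by
  haveI := nontrivial_of_isBirational A B hbir
  rw [RadUniAlg.main A B (hAB_of_isBirational A B hbir)
    (fun hA hB => exists_sigma_of_isBirational A B hbir hA hB), isRadicialAt_iff_radRing]
  refine and_congr Iff.rfl ?_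
  constructor
  · intro h x hx
    have hx' : (x : PrimeSpectrum B).asIdeal.comap (algebraMap A B) = maximalIdeal A :=
      congrArg PrimeSpectrum.asIdeal hx
    haveI : (x : PrimeSpectrum B).asIdeal.IsPrime := (x : PrimeSpectrum B).2
    exact (isGeomUnibranch_stalk_iff B x).mpr (h (x : PrimeSpectrum B).asIdeal hx')
  · intro h q hq hq'
    have := h ⟨q, hq⟩ (PrimeSpectrum.ext hq')
    exact (isGeomUnibranch_stalk_iff B ⟨q, hq⟩).mp this

end Groth.Agent.Lib.T2H3.RadUniSch
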