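import Mathlib
import Groth.Agent.Lib.T2H3RadUniSchC
import Groth.Agent.Lib.Helper6StalkIso
import Groth.Agent.S5863

/-!
# Geometric unibranchness along integral birational morphisms: the general case (helper3)
-/

set_option autoImplicit false
set_option linter.style.haveILetI false
universe u
open AlgebraicGeometry CategoryTheory CategoryTheory.Limits IsLocalRing

namespace Groth.Agent.Lib.T2H3.RadUniSch

open Groth.Agent.Lib.T2H3.Birat Groth.Agent.Lib.Helper4.Unibranch

/-- transport of geometric unibranchness along an isomorphism on stalks. -/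
theorem isGeomUnibranch_stalk_iff_of_isIso {X Y : Scheme.{u}} (h : X ⟶ Y) (x : X)
    [IsIso (h.stalkMap x)] :
    CAlg2.IsGeomUnibranch (Y.presheaf.stalk (h x)) ↔ CAlg2.IsGeomUnibranch (X.presheaf.stalk x) :=
  ⟨fun H => isGeomUnibranch_of_ringEquiv (asIso (h.stalkMap x)).commRingCatIsoToRingEquiv H,
    fun H => isGeomUnibranch_of_ringEquiv (asIso (h.stalkMap x)).commRingCatIsoToRingEquiv.symm H⟩

set_option maxHeartbeats 1000000 in
theorem main_general {X Y : Scheme.{u}} (f : X ⟶ Y) [IsIntegralHom f]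
    (hf : RadPt.IsBirational f) (y : Y) :
    CAlg2.IsGeomUnibranch (Y.presheaf.stalk y) ↔
      (RadPt.IsRadicialAt f y ∧
        ∀ x : X, f x = y → CAlg2.IsGeomUnibranch (X.presheaf.stalk x)) := by
  let A := Y.presheaf.stalk y
  let X' := pullback f (Y.fromSpecStalk y)
  let f' : X' ⟶ Spec A := pullback.snd f (Y.fromSpecStalk y)
  haveI : IsIntegralHom f' := by dsimp only [f']; infer_instance
  haveI : IsAffine X' := isAffine_of_isAffineHom f'
  let ρ : A ⟶ Γ(X', ⊤) := (Scheme.ΓSpecIso A).inv ≫ f'.appTop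
  have hhom : X'.isoSpec.hom ≫ Spec.map ρ = f' := by
    have h1 := Scheme.isoSpec_hom_naturality f'
    rw [Scheme.isoSpec_Spec_hom] at h1
    simp only [ρ, Spec.map_comp]
    rw [reassoc_of% h1, ← Spec.map_comp, Iso.inv_hom_id, Spec.map_id, Category.comp_id]
  letI : Algebra A Γ(X', ⊤) := ρ.hom.toAlgebra
  have hρ : Spec.map (CommRingCat.ofHom (algebraMap A Γ(X', ⊤))) = Spec.map ρ := rfl
  have hint : IsIntegralHom (Spec.map ρ) := by
    have : IsIntegralHom (X'.isoSpec.hom ≫ Spec.map ρ) := by rw [hhom]; infer_instance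
    exact (MorphismProperty.cancel_left_of_respectsIso @IsIntegralHom _ _).mp this
  haveI : Algebra.IsIntegral A Γ(X', ⊤) := by
    rw [← algebraMap_isIntegral_iff]
    exact IsIntegralHom.SpecMap_iff.mp hint
  let h' : Spec Γ(X', ⊤) ⟶ X := X'.isoSpec.inv ≫ pullback.fst f (Y.fromSpecStalk y)
  have sq' : IsPullback h' (Spec.map ρ) f (Y.fromSpecStalk y) := by
    refine IsPullback.of_iso (IsPullback.of_hasPullback f (Y.fromSpecStalk y)) X'.isoSpec
      (Iso.refl _) (Iso.refl _) (Iso.refl _) ?_ ?_ ?_ ?_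
    · simp [h']
    · simp only [Iso.refl_hom, Category.comp_id]
      exact hhom.symm
    · simp
    · simp
  have hbir' : RadPt.IsBirational (Spec.map (CommRingCat.ofHom (algebraMap A Γ(X', ⊤)))) := by
    rw [hρ]
    exact isBirational_baseChange sq' hf
  have hmain := main_affine A Γ(X', ⊤) hbir'
  rw [hρ] at hmain
  have hcp : (Y.fromSpecStalk y) (closedPoint A) = y := Scheme.fromSpecStalk_closedPoint
  have hrad : RadPt.IsRadicialAt f y ↔ RadPt.IsRadicialAt (Spec.map ρ) (closedPoint A) := by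
    have := Groth.Agent.S5863.result sq' (closedPoint A)
    rw [hcp] at this
    exact this
  haveI : Flat h' := by dsimp only [h']; infer_instance
  haveI : IsPreimmersion h' := by dsimp only [h']; infer_instance
  have hiso : ∀ x' : Spec Γ(X', ⊤), IsIso (h'.stalkMap x') := fun x' =>
    Groth.Agent.Lib.Helper6.isIso_stalkMap_of_flat_of_isPreimmersion h' x'
  have hw : ∀ x' : Spec Γ(X', ⊤), f (h' x') = (Y.fromSpecStalk y) ((Spec.map ρ) x') := by
    intro x'
    rw [← Scheme.Hom.comp_apply, ← Scheme.Hom.comp_apply, sq'.w]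
  change CAlg2.IsGeomUnibranch A ↔ _
  rw [hmain, hrad]
  refine and_congr Iff.rfl ?_
  constructor
  · intro H x hx
    obtain ⟨x', rfl, hx'2⟩ := exists_preimage_of_isPullback sq' x (closedPoint A)
      (hx.trans hcp.symm)
    haveI := hiso x'
    exact (isGeomUnibranch_stalk_iff_of_isIso h' x').mpr (H x' hx'2)
  · intro H x' hx'
    haveI := hiso x'
    refine (isGeomUnibranch_stalk_iff_of_isIso h' x').mp (H (h' x') ?_)
    rw [hw, hx', hcp]

end Groth.Agent.Lib.T2H3.RadUniSch
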