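import Mathlib
import Groth.Prelude.Def_RefHull
import Groth.Agent.Lib.Helper2QCoh
import Groth.Agent.Lib.Helper23Restr2

/-!
# Generically invertible quasi-coherent modules on integral schemes have rank one (helper3)

For `F` quasi-coherent on an integral scheme `X` with `RefHull.GenInvertible F`:
* `sections_data` : over a nonempty affine open `W`, `Γ(F, W)` contains a torsion-free element and
  any two sections are linearly dependent over `Γ(X, W)`;
* `stalk_data` : every stalk `F_x` is nontrivial and any two of its elements are linearly dependent.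
-/

set_option autoImplicit false
set_option linter.style.haveILetI false
universe u
open CategoryTheory CategoryTheory.Limits AlgebraicGeometry TopologicalSpace Opposite

namespace Groth.Agent.Lib.T2H3.RankOneGeom

open Groth.Agent.Lib.Helper2.QCoh Groth.Agent.Lib.Helper23.SecTw Groth.Agent.Lib.Helper6

variable {X : Scheme.{u}} [IsIntegral X]

theorem genericPoint_mem_of_nonempty (W : X.Opens) (h : (W : Set X).Nonempty) :
    genericPoint X ∈ W := by
  rw [← SetLike.mem_coe, (genericPoint_spec X).mem_open_set_iff W.isOpen]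
  simpa using h

theorem sections_data (F : X.Modules) [F.IsQuasicoherent] (hrk : RefHull.GenInvertible F)
    {W : X.Opens} (hW : IsAffineOpen W) (hWne : (W : Set X).Nonempty) :
    (∃ μ₀ : Γ(F, W), ∀ a : Γ(X, W), a • μ₀ = 0 → a = 0) ∧
      ∀ μ μ' : Γ(F, W), ∃ a b : Γ(X, W), (a ≠ 0 ∨ b ≠ 0) ∧ a • μ + b • μ' = 0 := by
  obtain ⟨U, hUd, hinv⟩ := hrk
  have hηU : genericPoint X ∈ U := genericPoint_mem_of_nonempty U hUd.nonempty
  have hηW : genericPoint X ∈ W := genericPoint_mem_of_nonempty W hWne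
  obtain ⟨V, e, hηV, he⟩ := exists_gen _ hinv (⟨genericPoint X, hηU⟩ : (↑U : Scheme.{u}))
  have hgen : IsGen F (U.ι ''ᵁ V) e := isGen_of_isGen_restrict F U V e he
  have hηV₀ : genericPoint X ∈ U.ι ''ᵁ V := ⟨⟨genericPoint X, hηU⟩, hηV, rfl⟩
  obtain ⟨a₀, ha₀V, hηa₀⟩ := hW.exists_basicOpen_le ⟨genericPoint X, hηV₀⟩ hηW
  have hDW : X.basicOpen a₀ ≤ W := X.basicOpen_le a₀
  haveI : Nonempty W := ⟨⟨genericPoint X, hηW⟩⟩
  haveI : Nonempty (X.basicOpen a₀) := ⟨⟨genericPoint X, hηa₀⟩⟩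
  haveI : IsDomain Γ(X, W) := inferInstance
  have ha₀ : a₀ ≠ 0 := by
    rintro rfl
    rw [Scheme.basicOpen_zero] at hηa₀
    exact hηa₀
  have hresinj : Function.Injective (resf hDW : Γ(X, W) → Γ(X, X.basicOpen a₀)) :=
    map_injective_of_isIntegral X (homOfLE hDW)
  have hbij := hgen (X.basicOpen a₀) ha₀V
  set eD : Γ(F, X.basicOpen a₀) := res F ha₀V e with heD
  -- every section over `W`, times a power of `a₀`, restricts to a multiple of `eD`
  have key : ∀ μ : Γ(F, W), ∃ (n : ℕ) (c : Γ(X, W)), res F hDW (a₀ ^ n • μ) = resf hDW c • eD := by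
    intro μ
    obtain ⟨r, hr⟩ := hbij.2 (res F hDW μ)
    haveI := hW.isLocalization_basicOpen a₀
    obtain ⟨n, c, hc⟩ := IsLocalization.Away.surj a₀ r
    refine ⟨n, c, ?_⟩
    have hc' : r * resf hDW a₀ ^ n = resf hDW c := hc
    rw [res_smul, resf_pow, ← hc', ← hr, mul_comm, mul_smul]
  have hkill : ∀ ν : Γ(F, W), res F hDW ν = 0 → ∃ N : ℕ, a₀ ^ N • ν = 0 := fun ν hν =>
    exists_pow_smul_eq_zero hW F a₀ ν hν
  constructor
  · obtain ⟨n, μ₀, hμ₀⟩ := exists_extension hW F a₀ eD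
    refine ⟨μ₀, fun a ha => ?_⟩
    have h1 : res F hDW (a • μ₀) = 0 := by rw [ha, res_zero]
    have hμ₀' : res F hDW μ₀ = resf hDW a₀ ^ n • eD := hμ₀
    rw [res_smul, hμ₀', ← mul_smul] at h1
    have h2 : resf hDW a * resf hDW a₀ ^ n = 0 := by
      apply hbij.1
      change (resf hDW a * resf hDW a₀ ^ n) • eD = (0 : Γ(X, X.basicOpen a₀)) • eD
      rw [h1, zero_smul]
    have h3 : resf hDW (a * a₀ ^ n) = resf hDW 0 :=
      ((map_mul (X.presheaf.map (homOfLE hDW).op).hom a (a₀ ^ n)).trans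
        ((congrArg (resf hDW a * ·) (resf_pow hDW a₀ n)).trans h2)).trans
          (map_zero (X.presheaf.map (homOfLE hDW).op).hom).symm
    have h4 := hresinj h3
    exact (mul_eq_zero.mp h4).resolve_right (pow_ne_zero n ha₀)
  · intro μ μ'
    obtain ⟨n, c, hc⟩ := key μ
    obtain ⟨n', c', hc'⟩ := key μ'
    by_cases hcc : c = 0 ∧ c' = 0
    · have hz : resf hDW (0 : Γ(X, W)) = 0 := map_zero (X.presheaf.map (homOfLE hDW).op).hom
      have h0 : res F hDW (a₀ ^ n • μ) = 0 := by rw [hc, hcc.1, hz, zero_smul]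
      obtain ⟨N, hN⟩ := hkill _ h0
      refine ⟨a₀ ^ N * a₀ ^ n, 0, Or.inl (mul_ne_zero (pow_ne_zero N ha₀) (pow_ne_zero n ha₀)), ?_⟩
      rw [zero_smul, add_zero, mul_smul, hN]
    · have h0 : res F hDW (c' • a₀ ^ n • μ - c • a₀ ^ n' • μ') = 0 := by
        rw [res_sub, res_smul F hDW c', res_smul F hDW c, hc, hc', ← mul_smul, ← mul_smul,
          mul_comm, sub_self]
      obtain ⟨N, hN⟩ := hkill _ h0
      refine ⟨a₀ ^ N * (c' * a₀ ^ n), -(a₀ ^ N * (c * a₀ ^ n')), ?_, ?_⟩
      · by_cases hc0 : c' = 0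
        · right
          have : c ≠ 0 := fun h => hcc ⟨h, hc0⟩
          exact neg_ne_zero.mpr
            (mul_ne_zero (pow_ne_zero N ha₀) (mul_ne_zero this (pow_ne_zero n' ha₀)))
        · left
          exact mul_ne_zero (pow_ne_zero N ha₀) (mul_ne_zero hc0 (pow_ne_zero n ha₀))
      · rw [← hN, smul_sub, neg_smul, mul_smul, mul_smul, mul_smul, mul_smul, sub_eq_add_neg]

theorem stalk_data (F : X.Modules) [F.IsQuasicoherent] (hrk : RefHull.GenInvertible F) (x : X) :
    Nontrivial (F.presheaf.stalk x) ∧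
      ∀ m m' : F.presheaf.stalk x, ∃ a b : X.presheaf.stalk x,
        (a ≠ 0 ∨ b ≠ 0) ∧ a • m + b • m' = 0 := by
  obtain ⟨_, ⟨W, hW, rfl⟩, hxW, -⟩ :=
    X.isBasis_affineOpens.exists_subset_of_mem_open (Set.mem_univ x) isOpen_univ
  obtain ⟨⟨μ₀, hμ₀⟩, hdep⟩ := sections_data F hrk hW ⟨x, hxW⟩
  have hginj : Function.Injective (X.presheaf.germ W x hxW) := germ_injective_of_isIntegral X x hxW
  have hne0 : ∀ a : Γ(X, W), a ≠ 0 → X.presheaf.germ W x hxW a ≠ 0 := fun a ha h =>
    ha (hginj (h.trans (map_zero _).symm))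
  constructor
  · have h : F.presheaf.germ W x hxW μ₀ ≠ 0 := by
      intro h0
      obtain ⟨s, hs, hsm⟩ := exists_smul_eq_zero_of_germ_eq_zero hW F x hxW μ₀ h0
      rw [hμ₀ s hsm, Scheme.basicOpen_zero] at hs
      exact hs
    exact nontrivial_of_ne _ _ h
  · intro m m'
    obtain ⟨s, μ, hs, hsμ⟩ := exists_smul_eq_germ hW F x hxW m
    obtain ⟨s', μ', hs', hsμ'⟩ := exists_smul_eq_germ hW F x hxW m'
    have hsu : IsUnit (X.presheaf.germ W x hxW s) := (Scheme.mem_basicOpen X s x hxW).mp hs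
    have hsu' : IsUnit (X.presheaf.germ W x hxW s') := (Scheme.mem_basicOpen X s' x hxW).mp hs'
    obtain ⟨a, b, hab, h⟩ := hdep μ μ'
    refine ⟨X.presheaf.germ W x hxW a * X.presheaf.germ W x hxW s,
      X.presheaf.germ W x hxW b * X.presheaf.germ W x hxW s', ?_, ?_⟩
    · rcases hab with ha | hb
      · left
        rw [Ne, hsu.mul_left_eq_zero]
        exact hne0 a ha
      · right
        rw [Ne, hsu'.mul_left_eq_zero]
        exact hne0 b hb
    · have h2 := congrArg (F.presheaf.germ W x hxW) h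
      rw [map_add, germ_smul, germ_smul, map_zero, ← hsμ, ← hsμ', ← mul_smul, ← mul_smul] at h2
      exact h2

end Groth.Agent.Lib.T2H3.RankOneGeom
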