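import Mathlib

/-!
# Rank one reflexive modules over a factorial domain are free (helper3)

* `exists_forall_eq_mul` : an ideal `J` of a factorial domain whose elements have no common
  non-unit divisor has only the multiplications as linear forms.
* `eq_top_of_isReflexive` : such a `J`, if reflexive, is the unit ideal.
* `nonempty_linearEquiv_of_isReflexive_ideal` : a nonzero finitely generated reflexive ideal is
  principal (isomorphic to `R`).
* `nonempty_linearEquiv_of_isReflexive` : a nontrivial finite reflexive module in which any two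
  elements are linearly dependent is free of rank one.
-/

set_option autoImplicit false
set_option linter.style.haveILetI false
universe u

namespace Groth.Agent.Lib.T2H3.RankOneUFD

variable {R : Type u} [CommRing R] [IsDomain R] [UniqueFactorizationMonoid R]

theorem exists_forall_eq_mul (J : Ideal R) (hJ0 : J ≠ ⊥)
    (hJ : ∀ q : R, (∀ b ∈ J, q ∣ b) → IsUnit q) (φ : J →ₗ[R] R) :
    ∃ r : R, ∀ b : J, φ b = r * (b : R) := by
  classical
  obtain ⟨a₀, ha₀J, ha₀⟩ := Submodule.exists_mem_ne_zero_of_ne_bot hJ0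
  have key : ∀ b : J, a₀ * φ b = (b : R) * φ ⟨a₀, ha₀J⟩ := by
    intro b
    have h1 : a₀ • b = (b : R) • (⟨a₀, ha₀J⟩ : J) := by
      ext
      simp [mul_comm]
    have h2 := congrArg φ h1
    rw [map_smul, map_smul] at h2
    simpa [smul_eq_mul] using h2
  letI := UniqueFactorizationMonoid.toGCDMonoid R
  obtain ⟨g, a', c', ha', hc', hu⟩ : ∃ g a' c', a₀ = g * a' ∧ φ ⟨a₀, ha₀J⟩ = g * c' ∧
      IsUnit (gcd a' c') := ⟨_, extract_gcd a₀ (φ ⟨a₀, ha₀J⟩)⟩
  have hg : g ≠ 0 := by
    rintro rfl
    rw [zero_mul] at ha'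
    exact ha₀ ha'
  have key2 : ∀ b : J, a' * φ b = (b : R) * c' := by
    intro b
    have h := key b
    rw [hc', ha'] at h
    apply mul_left_cancel₀ hg
    rw [← mul_assoc, h]
    ring
  have hrel : IsRelPrime a' c' := gcd_isUnit_iff_isRelPrime.mp hu
  have hunit : IsUnit a' := by
    apply hJ
    intro b hb
    exact hrel.dvd_of_dvd_mul_right ⟨φ ⟨b, hb⟩, (key2 ⟨b, hb⟩).symm⟩
  obtain ⟨u, rfl⟩ := hunit
  refine ⟨↑u⁻¹ * c', fun b => ?_⟩
  have h := key2 b
  calc φ b = ↑u⁻¹ * (↑u * φ b) := by rw [← mul_assoc, Units.inv_mul, one_mul]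
    _ = ↑u⁻¹ * c' * (b : R) := by rw [h]; ring

theorem eq_top_of_isReflexive (J : Ideal R) (hJ0 : J ≠ ⊥)
    (hJ : ∀ q : R, (∀ b ∈ J, q ∣ b) → IsUnit q) [Module.IsReflexive R J] : J = ⊤ := by
  obtain ⟨a₀, ha₀J, ha₀⟩ := Submodule.exists_mem_ne_zero_of_ne_bot hJ0
  let f : R →ₗ[R] Module.Dual R J := LinearMap.toSpanSingleton R (Module.Dual R J) J.subtype
  have hf_apply : ∀ (r : R) (b : J), f r b = r * (b : R) := fun r b => rfl
  have hf : Function.Bijective f := by
    constructor
    · rw [injective_iff_map_eq_zero]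
      intro r hr
      have h := LinearMap.congr_fun hr ⟨a₀, ha₀J⟩
      rw [hf_apply] at h
      exact (mul_eq_zero.mp h).resolve_right ha₀
    · intro φ
      obtain ⟨r, hr⟩ := exists_forall_eq_mul J hJ0 hJ φ
      refine ⟨r, ?_⟩
      ext b
      rw [hf_apply, hr]
  let e : R ≃ₗ[R] Module.Dual R J := LinearEquiv.ofBijective f hf
  obtain ⟨j, hj⟩ := (Module.bijective_dual_eval R J).2 e.symm.toLinearMap
  have h1 := LinearMap.congr_fun hj (e 1)
  have h2 : Module.Dual.eval R J j (e 1) = (j : R) := by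
    rw [Module.Dual.eval_apply]
    change f 1 j = _
    rw [hf_apply, one_mul]
  have h3 : e.symm.toLinearMap (e 1) = 1 := e.symm_apply_apply 1
  rw [h2, h3] at h1
  exact (Ideal.eq_top_iff_one J).mpr (h1 ▸ j.2)

theorem nonempty_linearEquiv_of_isReflexive_ideal (I : Ideal R) (hfg : I.FG) (hI0 : I ≠ ⊥)
    [Module.IsReflexive R I] : Nonempty (I ≃ₗ[R] R) := by
  classical
  letI : StrongNormalizationMonoid R := UniqueFactorizationMonoid.strongNormalizationMonoid
  letI : NormalizedGCDMonoid R := UniqueFactorizationMonoid.toNormalizedGCDMonoid R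
  obtain ⟨s, hs⟩ := hfg
  have hsne : s.Nonempty := by
    rw [Finset.nonempty_iff_ne_empty]
    rintro rfl
    apply hI0
    rw [← hs]
    simp
  obtain ⟨g, hg, hg1⟩ := Finset.extract_gcd (id : R → R) hsne
  have hd : s.gcd id ≠ 0 := by
    intro h
    apply hI0
    rw [Finset.gcd_eq_zero_iff] at h
    rw [← hs, Submodule.span_eq_bot]
    exact fun x hx => h x hx
  let J : Ideal R := Submodule.span R (g '' (s : Set R))
  have hmap : Submodule.map (LinearMap.mulLeft R (s.gcd id)) J = I := by
    rw [← hs, Submodule.map_span]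
    congr 1
    ext x
    constructor
    · rintro ⟨_, ⟨b, hb, rfl⟩, rfl⟩
      rw [LinearMap.mulLeft_apply, ← hg b hb]
      exact hb
    · intro hx
      exact ⟨g x, ⟨x, hx, rfl⟩, by rw [LinearMap.mulLeft_apply, ← hg x hx]; rfl⟩
  have hinj : Function.Injective (LinearMap.mulLeft R (s.gcd id)) := mul_right_injective₀ hd
  let e1 : J ≃ₗ[R] I :=
    (Submodule.equivMapOfInjective _ hinj J).trans (LinearEquiv.ofEq _ _ hmap)
  haveI : Module.IsReflexive R J := Module.equiv e1.symm
  have hJ0 : J ≠ ⊥ := by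
    intro h
    apply hI0
    rw [← hmap, h, Submodule.map_bot]
  have hJ : ∀ q : R, (∀ b ∈ J, q ∣ b) → IsUnit q := by
    intro q hq
    have h : q ∣ s.gcd g :=
      Finset.dvd_gcd (fun b hb => hq _ (Submodule.subset_span ⟨b, hb, rfl⟩))
    rw [hg1] at h
    exact isUnit_of_dvd_one h
  have hJtop := eq_top_of_isReflexive J hJ0 hJ
  exact ⟨e1.symm.trans ((LinearEquiv.ofEq _ _ hJtop).trans Submodule.topEquiv)⟩

theorem nonempty_linearEquiv_of_isReflexive (M : Type u) [AddCommGroup M] [Module R M]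
    [Module.Finite R M] [Module.IsReflexive R M] [Nontrivial M]
    (H1 : ∀ m m' : M, ∃ a b : R, (a ≠ 0 ∨ b ≠ 0) ∧ a • m + b • m' = 0) :
    Nonempty (M ≃ₗ[R] R) := by
  have hev : Function.Injective (Module.Dual.eval R M) := (Module.bijective_dual_eval R M).1
  have htf : ∀ (a : R) (m : M), a ≠ 0 → a • m = 0 → m = 0 := by
    intro a m ha h
    apply hev
    rw [map_zero]
    ext φ
    have h2 : a * φ m = 0 := by rw [← smul_eq_mul, ← map_smul, h, map_zero]
    rw [Module.Dual.eval_apply, LinearMap.zero_apply]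
    exact (mul_eq_zero.mp h2).resolve_left ha
  obtain ⟨m₀, hm₀⟩ := exists_ne (0 : M)
  have hex : ∃ φ : Module.Dual R M, φ m₀ ≠ 0 := by
    by_contra hcon
    push Not at hcon
    apply hm₀
    apply hev
    rw [map_zero]
    ext φ
    rw [Module.Dual.eval_apply, LinearMap.zero_apply]
    exact hcon φ
  obtain ⟨φ, hφ⟩ := hex
  have hinj : Function.Injective φ := by
    rw [injective_iff_map_eq_zero]
    intro m hm
    obtain ⟨a, b, hab, h⟩ := H1 m m₀
    have h2 := congrArg φ h
    rw [map_add, map_smul, map_smul, hm, smul_zero, zero_add, map_zero, smul_eq_mul] at h2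
    have hb : b = 0 := (mul_eq_zero.mp h2).resolve_right hφ
    have ha : a ≠ 0 := hab.resolve_right (not_not.mpr hb)
    rw [hb, zero_smul, add_zero] at h
    exact htf a m ha h
  let I : Ideal R := LinearMap.range φ
  let e : M ≃ₗ[R] I := LinearEquiv.ofInjective φ hinj
  haveI : Module.IsReflexive R I := Module.equiv e
  have hfg : I.FG := by
    change (LinearMap.range φ).FG
    rw [LinearMap.range_eq_map]
    exact Submodule.FG.map _ Module.Finite.fg_top
  have hI0 : I ≠ ⊥ := by
    intro h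
    have h1 : φ m₀ ∈ I := LinearMap.mem_range_self φ m₀
    rw [h, Submodule.mem_bot] at h1
    exact hφ h1
  obtain ⟨e2⟩ := nonempty_linearEquiv_of_isReflexive_ideal I hfg hI0
  exact ⟨e.trans e2⟩

end Groth.Agent.Lib.T2H3.RankOneUFD
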