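import Mathlib

/-!
# Rational approximation of real solutions of rational linear relations

`exists_rat_linear_approx`: for finitely many reals `w j` and `ε > 0` there is a `ℚ`-linear map
`π : ℝ → ℚ` with `|π (w j) - w j| < ε` for all `j` (Hamel basis argument).  Since `π` is
`ℚ`-linear, it preserves all rational linear relations among the `w j`.
-/

namespace Groth.Agent.Lib.T2H3.RatMax

open Module

theorem exists_rat_linear_approx {ι : Type*} [Fintype ι] (w : ι → ℝ) (ε : ℝ) (hε : 0 < ε) :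
    ∃ π : ℝ →ₗ[ℚ] ℚ, ∀ j, |((π (w j) : ℚ) : ℝ) - w j| < ε := by
  classical
  set 𝔅 := Basis.ofVectorSpace ℚ ℝ with h𝔅
  -- total weight
  set A : ι → ℝ := fun j => ∑ i ∈ (𝔅.repr (w j)).support, |((𝔅.repr (w j) i : ℚ) : ℝ)| with hA
  have hA0 : ∀ j, 0 ≤ A j := fun j => Finset.sum_nonneg (fun i _ => abs_nonneg _)
  set C : ℝ := 1 + ∑ j, A j with hC
  have hCpos : 0 < C := by
    have : 0 ≤ ∑ j, A j := Finset.sum_nonneg (fun j _ => hA0 j)
    linarith
  set δ : ℝ := ε / C with hδ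
  have hδpos : 0 < δ := div_pos hε hCpos
  -- rational approximations of the basis vectors
  choose r hr using fun i : Basis.ofVectorSpaceIndex ℚ ℝ => exists_rat_near (𝔅 i) hδpos
  refine ⟨𝔅.constr ℚ r, fun j => ?_⟩
  have h1 : ((𝔅.constr ℚ r (w j) : ℚ) : ℝ) =
      ∑ i ∈ (𝔅.repr (w j)).support, ((𝔅.repr (w j) i : ℚ) : ℝ) * ((r i : ℚ) : ℝ) := by
    rw [Basis.constr_apply, Finsupp.sum, Rat.cast_sum]
    refine Finset.sum_congr rfl (fun i _ => ?_)
    rw [smul_eq_mul, Rat.cast_mul]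
  have h2 : w j = ∑ i ∈ (𝔅.repr (w j)).support, ((𝔅.repr (w j) i : ℚ) : ℝ) * 𝔅 i := by
    conv_lhs => rw [← 𝔅.linearCombination_repr (w j), Finsupp.linearCombination_apply, Finsupp.sum]
    refine Finset.sum_congr rfl (fun i _ => ?_)
    rw [Rat.smul_def]
  have h3 : ((𝔅.constr ℚ r (w j) : ℚ) : ℝ) - w j =
      ∑ i ∈ (𝔅.repr (w j)).support, ((𝔅.repr (w j) i : ℚ) : ℝ) * (((r i : ℚ) : ℝ) - 𝔅 i) := by
    rw [h1]
    conv_lhs => rhs; rw [h2]
    rw [← Finset.sum_sub_distrib]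
    refine Finset.sum_congr rfl (fun i _ => ?_)
    ring
  rw [h3]
  calc |∑ i ∈ (𝔅.repr (w j)).support, ((𝔅.repr (w j) i : ℚ) : ℝ) * (((r i : ℚ) : ℝ) - 𝔅 i)|
      ≤ ∑ i ∈ (𝔅.repr (w j)).support, |((𝔅.repr (w j) i : ℚ) : ℝ) * (((r i : ℚ) : ℝ) - 𝔅 i)| :=
        Finset.abs_sum_le_sum_abs _ _
    _ ≤ ∑ i ∈ (𝔅.repr (w j)).support, |((𝔅.repr (w j) i : ℚ) : ℝ)| * δ := by
        refine Finset.sum_le_sum (fun i _ => ?_)
        rw [abs_mul]
        refine mul_le_mul_of_nonneg_left ?_ (abs_nonneg _)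
        rw [abs_sub_comm]
        exact (hr i).le
    _ = A j * δ := by rw [hA, Finset.sum_mul]
    _ ≤ (∑ j, A j) * δ := by
        refine mul_le_mul_of_nonneg_right ?_ hδpos.le
        exact Finset.single_le_sum (fun j _ => hA0 j) (Finset.mem_univ j)
    _ < C * δ := by
        refine mul_lt_mul_of_pos_right ?_ hδpos
        rw [hC]; linarith
    _ = ε := by rw [hδ]; field_simp

end Groth.Agent.Lib.T2H3.RatMax
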