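import Mathlib

/-!
# Quadratic forms `q y = y ⬝ᵥ M *ᵥ y`: polar form, Cauchy–Schwarz, first-order condition
-/

namespace Groth.Agent.Lib.T2H3.RatMax

open Matrix

variable {n : ℕ} (M : Matrix (Fin n) (Fin n) ℝ)

/-- the quadratic form -/
noncomputable def q (y : Fin n → ℝ) : ℝ := y ⬝ᵥ M *ᵥ y

/-- half the gradient of `q` -/
noncomputable def g (x : Fin n → ℝ) : Fin n → ℝ := fun i => ((x ᵥ* M) i + (M *ᵥ x) i) / 2

lemma g_dot (x y : Fin n → ℝ) : g M x ⬝ᵥ y = (x ⬝ᵥ M *ᵥ y + y ⬝ᵥ M *ᵥ x) / 2 := by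
  have h1 : x ⬝ᵥ M *ᵥ y = (x ᵥ* M) ⬝ᵥ y := Matrix.dotProduct_mulVec x M y
  have h2 : y ⬝ᵥ M *ᵥ x = (M *ᵥ x) ⬝ᵥ y := dotProduct_comm _ _
  rw [h1, h2]
  simp only [g, dotProduct, ← Finset.sum_add_distrib, Finset.sum_div]
  refine Finset.sum_congr rfl (fun i _ => ?_)
  ring

lemma g_dot_comm (x y : Fin n → ℝ) : g M x ⬝ᵥ y = g M y ⬝ᵥ x := by
  rw [g_dot, g_dot, add_comm]

lemma g_dot_self (y : Fin n → ℝ) : g M y ⬝ᵥ y = q M y := by
  rw [g_dot, q]; ring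

lemma q_add_smul (y z : Fin n → ℝ) (t : ℝ) :
    q M (y + t • z) = q M y + 2 * t * (g M y ⬝ᵥ z) + t ^ 2 * q M z := by
  rw [g_dot]
  simp only [q, Matrix.mulVec_add, Matrix.mulVec_smul, dotProduct_add, add_dotProduct,
    smul_dotProduct, dotProduct_smul, smul_eq_mul]
  ring

lemma q_smul (t : ℝ) (y : Fin n → ℝ) : q M (t • y) = t ^ 2 * q M y := by
  simp only [q, Matrix.mulVec_smul, smul_dotProduct, dotProduct_smul, smul_eq_mul]
  ring

/-- Cauchy–Schwarz for a positive semidefinite form. -/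
lemma g_dot_sq_le (hnn : ∀ y, 0 ≤ q M y) (x y : Fin n → ℝ) :
    (g M x ⬝ᵥ y) ^ 2 ≤ q M x * q M y := by
  have h : ∀ t : ℝ, 0 ≤ q M y * (t * t) + 2 * (g M x ⬝ᵥ y) * t + q M x := by
    intro t
    have := hnn (x + t • y)
    rw [q_add_smul] at this
    nlinarith [this]
  have hd := discrim_le_zero h
  rw [discrim] at hd
  nlinarith [hd]

lemma g_dot_le (hnn : ∀ y, 0 ≤ q M y) (x y : Fin n → ℝ) :
    g M x ⬝ᵥ y ≤ Real.sqrt (q M x) * Real.sqrt (q M y) := by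
  rw [← Real.sqrt_mul (hnn x)]
  exact Real.le_sqrt_of_sq_le (g_dot_sq_le M hnn x y)

/-- If `0 ≤ 2 t a + t² b` for all small `t`, then `a = 0`. -/
lemma linear_coeff_zero {a b δ : ℝ} (hδ : 0 < δ)
    (h : ∀ t, |t| < δ → 0 ≤ 2 * t * a + t ^ 2 * b) : a = 0 := by
  by_contra ha
  have ha' : 0 < |a| := abs_pos.mpr ha
  set τ : ℝ := min (δ / 2) (|a| / (1 + |b|)) with hτ
  have hb1 : 0 < 1 + |b| := by positivity
  have hτpos : 0 < τ := lt_min (by linarith) (div_pos ha' hb1)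
  have hτδ : τ < δ := lt_of_le_of_lt (min_le_left _ _) (by linarith)
  have hτa : τ * (1 + |b|) ≤ |a| := by
    have : τ ≤ |a| / (1 + |b|) := min_le_right _ _
    rwa [le_div_iff₀ hb1] at this
  have hτb : τ * |b| < |a| := by nlinarith [abs_nonneg b]
  rcases lt_or_gt_of_ne ha with hneg | hpos
  · -- a < 0: take t = τ
    have := h τ (by rw [abs_of_pos hτpos]; exact hτδ)
    have hab : |a| = -a := abs_of_neg hneg
    have hb : b ≤ |b| := le_abs_self b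
    nlinarith [mul_pos hτpos hτpos]
  · -- a > 0: take t = -τ
    have := h (-τ) (by rw [abs_neg, abs_of_pos hτpos]; exact hτδ)
    have hab : |a| = a := abs_of_pos hpos
    have hb : b ≤ |b| := le_abs_self b
    nlinarith [mul_pos hτpos hτpos]

end Groth.Agent.Lib.T2H3.RatMax
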