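import Groth.Agent.Lib.T2H3RatMaxB

/-!
# Maximising `L ⬝ᵥ y / √(q y)` on the orthant: existence, first-order condition, comparison
-/

namespace Groth.Agent.Lib.T2H3.RatMax

open Matrix

variable {n : ℕ} (M : Matrix (Fin n) (Fin n) ℝ)

lemma g_smul (c : ℝ) (y : Fin n → ℝ) (i : Fin n) : g M (c • y) i = c * g M y i := by
  simp only [g, Matrix.smul_vecMul, Matrix.mulVec_smul, Pi.smul_apply, smul_eq_mul]
  ring

lemma g_dot_single (y : Fin n → ℝ) (i : Fin n) : g M y ⬝ᵥ Pi.single i 1 = g M y i := by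
  rw [dotProduct_single, mul_one]

/-- First-order condition at a maximiser, in the coordinate directions of its support. -/
lemma first_order (L : Fin n → ℝ)
    (hpos : ∀ y : Fin n → ℝ, (∀ i, 0 ≤ y i) → y ≠ 0 → 0 < q M y)
    (ys : Fin n → ℝ) (hys : ∀ i, 0 ≤ ys i) (hLv : 0 < L ⬝ᵥ ys)
    (hmax : ∀ y : Fin n → ℝ, (∀ i, 0 ≤ y i) → y ≠ 0 →
      L ⬝ᵥ y / Real.sqrt (q M y) ≤ L ⬝ᵥ ys / Real.sqrt (q M ys))
    (i : Fin n) (hi : 0 < ys i) :
    (L ⬝ᵥ ys) * g M ys i = q M ys * L i := by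
  have hysne : ys ≠ 0 := by
    rintro rfl
    simp at hLv
  set Lv := L ⬝ᵥ ys with hLvdef
  set Q := q M ys with hQdef
  have hQ : 0 < Q := hpos ys hys hysne
  set e : Fin n → ℝ := Pi.single i 1 with he
  set qe := q M e with hqe
  have hLe : L ⬝ᵥ e = L i := by rw [he, dotProduct_single, mul_one]
  set δ : ℝ := min (ys i) (Lv / (1 + |L i|)) with hδ
  have h1 : 0 < 1 + |L i| := by positivity
  have hδpos : 0 < δ := lt_min hi (div_pos hLv h1)
  have key : ∀ t : ℝ, |t| < δ →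
      0 ≤ 2 * t * (Lv ^ 2 * g M ys i - Q * Lv * L i) + t ^ 2 * (Lv ^ 2 * qe - Q * L i ^ 2) := by
    intro t ht
    have ht1 : |t| < ys i := lt_of_lt_of_le ht (min_le_left _ _)
    have ht2 : |t| * (1 + |L i|) < Lv := by
      have : |t| < Lv / (1 + |L i|) := lt_of_lt_of_le ht (min_le_right _ _)
      rwa [lt_div_iff₀ h1] at this
    set yt : Fin n → ℝ := ys + t • e with hyt
    have hyt0 : ∀ j, 0 ≤ yt j := by
      intro j
      simp only [hyt, he, Pi.add_apply, Pi.smul_apply, smul_eq_mul, Pi.single_apply]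
      by_cases hj : j = i
      · subst hj
        rw [if_pos rfl, mul_one]
        have := neg_abs_le t
        linarith
      · rw [if_neg hj, mul_zero, add_zero]
        exact hys j
    have hLt : L ⬝ᵥ yt = Lv + t * L i := by
      rw [hyt, dotProduct_add, dotProduct_smul, hLe, smul_eq_mul]
    have hLtpos : 0 < Lv + t * L i := by
      have h3 : |t * L i| ≤ |t| * (1 + |L i|) := by
        rw [abs_mul]
        nlinarith [abs_nonneg t, abs_nonneg (L i)]
      have h4 := neg_abs_le (t * L i)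
      linarith
    have hytne : yt ≠ 0 := by
      intro h0
      rw [h0] at hLt
      simp only [dotProduct_zero] at hLt
      linarith
    have hqt : 0 < q M yt := hpos yt hyt0 hytne
    have hm := hmax yt hyt0 hytne
    rw [hLt] at hm
    have hsQ : 0 < Real.sqrt Q := Real.sqrt_pos.mpr hQ
    have hsqt : 0 < Real.sqrt (q M yt) := Real.sqrt_pos.mpr hqt
    rw [div_le_div_iff₀ hsqt hsQ] at hm
    have hsq : ((Lv + t * L i) * Real.sqrt Q) ^ 2 ≤ (Lv * Real.sqrt (q M yt)) ^ 2 :=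
      pow_le_pow_left₀ (mul_nonneg hLtpos.le hsQ.le) hm 2
    rw [mul_pow, mul_pow, Real.sq_sqrt hQ.le, Real.sq_sqrt hqt.le, hyt, q_add_smul,
      g_dot_single] at hsq
    nlinarith [hsq]
  have ha := linear_coeff_zero hδpos key
  have : Lv * (Lv * g M ys i - Q * L i) = 0 := by
    rw [← ha]; ring
  rcases mul_eq_zero.mp this with h | h
  · exact absurd h hLv.ne'
  · linarith

/-- Existence of a maximiser on the nonzero points of the orthant. -/
lemma exists_max (L : Fin n → ℝ) (hn : 0 < n)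
    (hpos : ∀ y : Fin n → ℝ, (∀ i, 0 ≤ y i) → y ≠ 0 → 0 < q M y) :
    ∃ ys : Fin n → ℝ, (∀ i, 0 ≤ ys i) ∧ ys ≠ 0 ∧
      ∀ y : Fin n → ℝ, (∀ i, 0 ≤ y i) → y ≠ 0 →
        L ⬝ᵥ y / Real.sqrt (q M y) ≤ L ⬝ᵥ ys / Real.sqrt (q M ys) := by
  have hcomp : IsCompact (stdSimplex ℝ (Fin n)) := isCompact_stdSimplex ℝ (Fin n)
  have hne : (stdSimplex ℝ (Fin n)).Nonempty :=
    ⟨Pi.single ⟨0, hn⟩ 1, single_mem_stdSimplex ℝ _⟩
  have hne0 : ∀ y ∈ stdSimplex ℝ (Fin n), y ≠ 0 := by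
    rintro y hy rfl
    have := hy.2
    simp at this
  have hcont : ContinuousOn (fun y : Fin n → ℝ => L ⬝ᵥ y / Real.sqrt (q M y))
      (stdSimplex ℝ (Fin n)) := by
    apply ContinuousOn.div
    · exact (Continuous.dotProduct continuous_const continuous_id).continuousOn
    · apply Continuous.continuousOn
      apply Real.continuous_sqrt.comp
      unfold q
      exact Continuous.dotProduct continuous_id (Continuous.matrix_mulVec continuous_const
        continuous_id)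
    · intro y hy
      exact (Real.sqrt_pos.mpr (hpos y hy.1 (hne0 y hy))).ne'
  obtain ⟨ys, hys, hmax⟩ := hcomp.exists_isMaxOn hne hcont
  refine ⟨ys, hys.1, hne0 ys hys, fun y hy hyne => ?_⟩
  -- rescale `y` into the simplex
  set s : ℝ := ∑ i, y i with hs
  have hspos : 0 < s := by
    obtain ⟨i, hi⟩ : ∃ i, y i ≠ 0 := by
      by_contra h
      push Not at h
      exact hyne (funext h)
    have hi' : 0 < y i := lt_of_le_of_ne (hy i) (Ne.symm hi)
    exact lt_of_lt_of_le hi' (Finset.single_le_sum (fun j _ => hy j) (Finset.mem_univ i))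
  have hy' : s⁻¹ • y ∈ stdSimplex ℝ (Fin n) := by
    refine ⟨fun i => ?_, ?_⟩
    · simp only [Pi.smul_apply, smul_eq_mul]
      exact mul_nonneg (inv_nonneg.mpr hspos.le) (hy i)
    · simp only [Pi.smul_apply, smul_eq_mul, ← Finset.mul_sum]
      rw [← hs]
      exact inv_mul_cancel₀ hspos.ne'
  have hsc : L ⬝ᵥ (s⁻¹ • y) / Real.sqrt (q M (s⁻¹ • y)) = L ⬝ᵥ y / Real.sqrt (q M y) := by
    rw [dotProduct_smul, q_smul, Real.sqrt_mul (sq_nonneg _), Real.sqrt_sq (inv_nonneg.mpr hspos.le),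
      smul_eq_mul, mul_div_mul_left _ _ (inv_pos.mpr hspos).ne']
  rw [isMaxOn_iff] at hmax
  have h2 := hmax _ hy'
  rw [hsc] at h2
  exact h2

/-- Comparison: a point `x` satisfying the (scaled) stationarity equations on a set of coordinates
containing the supports of `x` and `ys` is at least as good as `ys`. -/
lemma F_le_of_eqs (hnn : ∀ y, 0 ≤ q M y)
    (hpos : ∀ y : Fin n → ℝ, (∀ i, 0 ≤ y i) → y ≠ 0 → 0 < q M y)
    (L : Fin n → ℝ) (ys x : Fin n → ℝ) (s : ℝ) (hs : 0 < s)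
    (hx0 : ∀ i, 0 ≤ x i) (hxne : x ≠ 0) (hys0 : ∀ i, 0 ≤ ys i) (hysne : ys ≠ 0)
    (hsy : ∀ i, g M x i ≠ s * L i → ys i = 0) (hsx : ∀ i, g M x i ≠ s * L i → x i = 0) :
    L ⬝ᵥ ys / Real.sqrt (q M ys) ≤ L ⬝ᵥ x / Real.sqrt (q M x) := by
  have hqx : 0 < q M x := hpos x hx0 hxne
  have hqy : 0 < q M ys := hpos ys hys0 hysne
  have hsqx : 0 < Real.sqrt (q M x) := Real.sqrt_pos.mpr hqx
  have hsqy : 0 < Real.sqrt (q M ys) := Real.sqrt_pos.mpr hqy
  have e1 : s * (L ⬝ᵥ ys) = g M x ⬝ᵥ ys := by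
    simp only [dotProduct, Finset.mul_sum]
    refine Finset.sum_congr rfl (fun i _ => ?_)
    by_cases h : g M x i = s * L i
    · rw [h]; ring
    · rw [hsy i h]; ring
  have e2 : s * (L ⬝ᵥ x) = q M x := by
    rw [← g_dot_self]
    simp only [dotProduct, Finset.mul_sum]
    refine Finset.sum_congr rfl (fun i _ => ?_)
    by_cases h : g M x i = s * L i
    · rw [h]; ring
    · rw [hsx i h]; ring
  have h1 : s * (L ⬝ᵥ ys) ≤ Real.sqrt (q M x) * Real.sqrt (q M ys) := by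
    rw [e1]; exact g_dot_le M hnn x ys
  have h2 : L ⬝ᵥ x = q M x / s := by
    rw [← e2]; field_simp
  rw [h2, div_le_div_iff₀ hsqy hsqx]
  have h3 : q M x = Real.sqrt (q M x) * Real.sqrt (q M x) := (Real.mul_self_sqrt hqx.le).symm
  calc L ⬝ᵥ ys * Real.sqrt (q M x)
      = (s * (L ⬝ᵥ ys)) * Real.sqrt (q M x) / s := by field_simp
    _ ≤ (Real.sqrt (q M x) * Real.sqrt (q M ys)) * Real.sqrt (q M x) / s := by
        apply div_le_div_of_nonneg_right _ hs.le
        exact mul_le_mul_of_nonneg_right h1 hsqx.le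
    _ = (Real.sqrt (q M x) * Real.sqrt (q M x)) / s * Real.sqrt (q M ys) := by ring
    _ = q M x / s * Real.sqrt (q M ys) := by rw [← h3]

end Groth.Agent.Lib.T2H3.RatMax
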