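import Groth.Agent.Lib.T2H3RatMaxA
import Groth.Agent.Lib.T2H3RatMaxC

/-!
# A rational maximiser of `ℓ ⬝ᵥ y / √(q y)` on the orthant
-/

namespace Groth.Agent.Lib.T2H3.RatMax

open Matrix

/-- explicit formula for the half-gradient of the form of a rational matrix -/
lemma g_map_apply {n : ℕ} (B : Matrix (Fin n) (Fin n) ℚ) (z : Fin n → ℝ) (i : Fin n) :
    g (B.map (fun r : ℚ => (r : ℝ))) z i =
      ∑ j, ((((B j i + B i j) / 2 : ℚ) : ℚ) : ℝ) * z j := by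
  simp only [g, Matrix.vecMul, Matrix.mulVec, dotProduct, Matrix.map_apply]
  rw [← Finset.sum_add_distrib, Finset.sum_div]
  refine Finset.sum_congr rfl (fun j _ => ?_)
  push_cast
  ring

theorem main (n : ℕ) (ℓ : Fin n → ℚ) (B : Matrix (Fin n) (Fin n) ℚ)
    (hnn : ∀ y : Fin n → ℝ, 0 ≤ y ⬝ᵥ (B.map (fun r : ℚ => (r : ℝ))) *ᵥ y)
    (hpos : ∀ y : Fin n → ℝ, (∀ i, 0 ≤ y i) → y ≠ 0 →
      0 < y ⬝ᵥ (B.map (fun r : ℚ => (r : ℝ))) *ᵥ y)
    (hℓ : ∃ y : Fin n → ℝ, (∀ i, 0 ≤ y i) ∧ 0 < (fun i => (ℓ i : ℝ)) ⬝ᵥ y) :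
    ∃ x : Fin n → ℚ, (∀ i, 0 ≤ x i) ∧ x ≠ 0 ∧
      ∀ y : Fin n → ℝ, (∀ i, 0 ≤ y i) → y ≠ 0 →
        (fun i => (ℓ i : ℝ)) ⬝ᵥ y / Real.sqrt (y ⬝ᵥ (B.map (fun r : ℚ => (r : ℝ))) *ᵥ y) ≤
          (fun i => (ℓ i : ℝ)) ⬝ᵥ (fun i => (x i : ℝ)) /
            Real.sqrt ((fun i => (x i : ℝ)) ⬝ᵥ (B.map (fun r : ℚ => (r : ℝ))) *ᵥ
              (fun i => (x i : ℝ))) := by
  classical
  set M : Matrix (Fin n) (Fin n) ℝ := B.map (fun r : ℚ => (r : ℝ)) with hM
  set L : Fin n → ℝ := fun i => (ℓ i : ℝ) with hL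
  have hnn' : ∀ y, 0 ≤ q M y := hnn
  have hpos' : ∀ y : Fin n → ℝ, (∀ i, 0 ≤ y i) → y ≠ 0 → 0 < q M y := hpos
  obtain ⟨y₀, hy₀, hLy₀⟩ := hℓ
  have hn : 0 < n := by
    rcases Nat.eq_zero_or_pos n with h | h
    · subst h
      simp at hLy₀
    · exact h
  have hy₀ne : y₀ ≠ 0 := by
    rintro rfl
    simp at hLy₀
  obtain ⟨ys, hys0, hysne, hmax⟩ := exists_max M L hn hpos'
  set Q := q M ys with hQdef
  have hQ : 0 < Q := hpos' ys hys0 hysne
  have hLv : 0 < L ⬝ᵥ ys := by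
    have h1 := hmax y₀ hy₀ hy₀ne
    have h2 : 0 < L ⬝ᵥ y₀ / Real.sqrt (q M y₀) :=
      div_pos hLy₀ (Real.sqrt_pos.mpr (hpos' y₀ hy₀ hy₀ne))
    have h3 : 0 < L ⬝ᵥ ys / Real.sqrt (q M ys) := lt_of_lt_of_le h2 h1
    have h4 : 0 < Real.sqrt (q M ys) := Real.sqrt_pos.mpr hQ
    exact (div_pos_iff_of_pos_right h4).mp h3
  set Lv := L ⬝ᵥ ys with hLvdef
  have hfo : ∀ i, 0 < ys i → Lv * g M ys i = Q * L i :=
    fun i hi => first_order M L hpos' ys hys0 hLv hmax i hi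
  -- the rescaled maximiser satisfies `g z₀ = L` on its support
  set c : ℝ := Lv / Q with hc
  have hcpos : 0 < c := div_pos hLv hQ
  set z₀ : Fin n → ℝ := c • ys with hz₀
  have hz₀i : ∀ i, z₀ i = c * ys i := fun i => rfl
  have hz₀nn : ∀ i, 0 ≤ z₀ i := fun i => by rw [hz₀i]; exact mul_nonneg hcpos.le (hys0 i)
  have hgz : ∀ i, 0 < ys i → g M z₀ i = L i := by
    intro i hi
    rw [hz₀, g_smul, hc]
    have := hfo i hi
    field_simp
    linarith
  -- choose the precision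
  set S : Finset (Fin n) := Finset.univ.filter (fun i => 0 < ys i) with hS
  have hSne : S.Nonempty := by
    obtain ⟨i, hi⟩ : ∃ i, ys i ≠ 0 := by
      by_contra h
      push Not at h
      exact hysne (funext h)
    exact ⟨i, Finset.mem_filter.mpr ⟨Finset.mem_univ i, lt_of_le_of_ne (hys0 i) (Ne.symm hi)⟩⟩
  set m : ℝ := S.inf' hSne z₀ with hm
  have hmpos : 0 < m := by
    rw [hm, Finset.lt_inf'_iff]
    intro i hi
    rw [hz₀i]
    exact mul_pos hcpos (Finset.mem_filter.mp hi).2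
  have hmle : ∀ i, 0 < ys i → m ≤ z₀ i := fun i hi =>
    Finset.inf'_le _ (Finset.mem_filter.mpr ⟨Finset.mem_univ i, hi⟩)
  set ε : ℝ := min (1 / 2) (m / 2) with hε
  have hεpos : 0 < ε := lt_min (by norm_num) (by linarith)
  -- rational approximation preserving rational relations
  obtain ⟨π, hπ⟩ := exists_rat_linear_approx
    (fun o : Option (Fin n) => o.elim (1 : ℝ) z₀) ε hεpos
  have hπ1 : |((π 1 : ℚ) : ℝ) - 1| < ε := hπ none
  have hπz : ∀ j, |((π (z₀ j) : ℚ) : ℝ) - z₀ j| < ε := fun j => hπ (some j)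
  set x : Fin n → ℚ := fun j => π (z₀ j) with hx
  set s : ℚ := π 1 with hs
  have hspos : (0 : ℝ) < (s : ℝ) := by
    have h1 := (abs_lt.mp hπ1).1
    have h2 : ε ≤ 1 / 2 := min_le_left _ _
    linarith
  have hx_of_zero : ∀ j, ys j = 0 → x j = 0 := by
    intro j hj
    simp only [hx, hz₀i, hj, mul_zero, map_zero]
  have hx_pos : ∀ j, 0 < ys j → (0 : ℝ) < (x j : ℝ) := by
    intro j hj
    have h1 := (abs_lt.mp (hπz j)).1
    have h2 : ε ≤ m / 2 := min_le_right _ _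
    have h3 := hmle j hj
    simp only [hx]
    linarith
  have hx0 : ∀ j, 0 ≤ x j := by
    intro j
    rcases (hys0 j).lt_or_eq with h | h
    · exact_mod_cast (hx_pos j h).le
    · rw [hx_of_zero j h.symm]
  have hxne : x ≠ 0 := by
    obtain ⟨i, hi⟩ := hSne
    have hi' := (Finset.mem_filter.mp hi).2
    intro h0
    have := hx_pos i hi'
    rw [h0] at this
    simp at this
  -- the rational stationarity equations
  have hrat : ∀ i, 0 < ys i → ∑ j, ((B j i + B i j) / 2 : ℚ) * x j = s * ℓ i := by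
    intro i hi
    have h1 := hgz i hi
    rw [g_map_apply] at h1
    have h2 : π (∑ j, ((B j i + B i j) / 2 : ℚ) • z₀ j) = π ((ℓ i : ℚ) • (1 : ℝ)) := by
      congr 1
      rw [Rat.smul_def, mul_one]
      have h1' : L i = ((ℓ i : ℚ) : ℝ) := rfl
      rw [← h1', ← h1]
      refine Finset.sum_congr rfl (fun j _ => ?_)
      rw [Rat.smul_def]
    rw [map_sum, map_smul] at h2
    simp only [map_smul, smul_eq_mul] at h2
    rw [h2, mul_comm]
  set xR : Fin n → ℝ := fun i => (x i : ℝ) with hxR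
  have hgx : ∀ i, 0 < ys i → g M xR i = (s : ℝ) * L i := by
    intro i hi
    rw [g_map_apply]
    have := hrat i hi
    have h3 : ((∑ j, ((B j i + B i j) / 2 : ℚ) * x j : ℚ) : ℝ) = ((s * ℓ i : ℚ) : ℝ) := by
      rw [this]
    rw [Rat.cast_sum, Rat.cast_mul] at h3
    rw [← h3]
    refine Finset.sum_congr rfl (fun j _ => ?_)
    rw [Rat.cast_mul]
  refine ⟨x, hx0, hxne, fun y hy hyne => ?_⟩
  refine (hmax y hy hyne).trans ?_
  have hxR0 : ∀ i, 0 ≤ xR i := fun i => by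
    simp only [hxR]
    exact_mod_cast hx0 i
  have hxRne : xR ≠ 0 := by
    intro h0
    apply hxne
    funext i
    have := congrFun h0 i
    simp only [hxR, Pi.zero_apply] at this
    exact_mod_cast this
  refine F_le_of_eqs M hnn' hpos' L ys xR (s : ℝ) hspos hxR0 hxRne hys0 hysne ?_ ?_
  · intro i hi
    by_contra h
    exact hi (hgx i (lt_of_le_of_ne (hys0 i) (Ne.symm h)))
  · intro i hi
    have hyi : ys i = 0 := by
      by_contra h
      exact hi (hgx i (lt_of_le_of_ne (hys0 i) (Ne.symm h)))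
    simp only [hxR]
    rw [hx_of_zero i hyi]
    simp

end Groth.Agent.Lib.T2H3.RatMax
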