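import Mathlib
import Groth.Prelude.Def_Pi1
import Groth.Agent.Lib.Helper4RatExt
import Groth.Agent.Lib.Helper4RatMapExt

/-!
# Extending rational sections over normal locally Noetherian bases
-/

set_option autoImplicit false
set_option linter.style.haveILetI false
universe u

open AlgebraicGeometry CategoryTheory

namespace Groth.Agent.Lib.T2H3.RatSection

open Groth.Agent.Lib.Helper4.RatExt Groth.Agent.Lib.Helper4.RatMapExt

/-- Extension of a morphism from a dense open of a reduced scheme with domain stalks, given lifts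
over the spectra of all local rings (compatible at the generic points). -/
theorem exists_extension_of_stalk_lifts' {X Y S : Scheme.{u}} (p : X ⟶ S) (q : Y ⟶ S)
    [IsSeparated q] [LocallyOfFiniteType q] [X.IsGermInjective] [IsReduced X]
    (hdom : ∀ x : X, IsDomain (X.presheaf.stalk x))
    (U : X.Opens) (hUd : Dense (U : Set X)) (f : U.toScheme ⟶ Y) (hf : f ≫ q = U.ι ≫ p)
    (hlift : ∀ (x : X)
      (jU : Spec (CommRingCat.of (FractionRing (X.presheaf.stalk x))) ⟶ U.toScheme),
      jU ≫ U.ι = genericHom X x →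
      ∃ l : Spec (X.presheaf.stalk x) ⟶ Y, l ≫ q = X.fromSpecStalk x ≫ p ∧
        Spec.map (CommRingCat.ofHom (algebraMap (X.presheaf.stalk x)
          (FractionRing (X.presheaf.stalk x)))) ≫ l = jU ≫ f) :
    ∃ f' : X ⟶ Y, f' ≫ q = p ∧ U.ι ≫ f' = f := by
  have key : ∀ x : X, ∃ (U' : X.Opens) (hUU' : U ≤ U') (_ : x ∈ U') (f' : U'.toScheme ⟶ Y),
      f' ≫ q = U'.ι ≫ p ∧ X.homOfLE hUU' ≫ f' = f := by
    intro x
    haveI := hdom x
    have hξ := genericHom_mem x U (hUd.closure_eq ▸ Set.mem_univ x)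
    let jU : Spec (CommRingCat.of (FractionRing (X.presheaf.stalk x))) ⟶ U.toScheme :=
      IsOpenImmersion.lift U.ι (genericHom X x) (range_genericHom_subset x U hξ)
    have hjU : jU ≫ U.ι = genericHom X x := IsOpenImmersion.lift_fac _ _ _
    obtain ⟨l, hl2, hl1⟩ := hlift x jU hjU
    obtain ⟨U', hUU', hxU', f', hf', hres, -⟩ :=
      exists_extension_of_stalk_lift p q x U f hf jU hjU l hl2 hl1
    exact ⟨U', hUU', hxU', f', hf', hres⟩
  choose U' hUU' hxU' f' hf' hres using key
  have hcov : TopologicalSpace.IsOpenCover U' := by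
    apply TopologicalSpace.IsOpenCover.mk
    rw [eq_top_iff]
    intro x _
    exact TopologicalSpace.Opens.mem_iSup.mpr ⟨x, hxU' x⟩
  have hagree : ∀ i j, X.homOfLE (inf_le_left : U' i ⊓ U' j ≤ U' i) ≫ f' i =
      X.homOfLE (inf_le_right : U' i ⊓ U' j ≤ U' j) ≫ f' j := by
    intro i j
    have hle : U ≤ U' i ⊓ U' j := le_inf (hUU' i) (hUU' j)
    haveI : IsDominant (X.homOfLE hle) := by
      constructor
      rw [DenseRange, dense_iff_inter_open]
      rintro O hO ⟨⟨z, hz⟩, hzO⟩
      -- the image of `O` in `X` is a nonempty open, so meets `U`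
      have hO' : IsOpen ((U' i ⊓ U' j).ι '' O) := (U' i ⊓ U' j).ι.isOpenEmbedding.isOpenMap O hO
      obtain ⟨_, ⟨⟨w, hw⟩, hwO, rfl⟩, hwU⟩ :=
        hUd.inter_open_nonempty _ hO' ⟨_, ⟨⟨z, hz⟩, hzO, rfl⟩⟩
      refine ⟨⟨w, hw⟩, hwO, ⟨⟨w, hwU⟩, ?_⟩⟩
      apply (U' i ⊓ U' j).ι.injective
      rw [← Scheme.Hom.comp_apply, X.homOfLE_ι]
      rfl
    apply ext_of_isDominant_of_isSeparated q ?_ (X.homOfLE hle)
    · rw [← Category.assoc, X.homOfLE_homOfLE, hres, ← Category.assoc, X.homOfLE_homOfLE, hres]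
    · rw [Category.assoc, Category.assoc, hf', hf', X.homOfLE_ι_assoc, X.homOfLE_ι_assoc]
  obtain ⟨k, hk⟩ := exists_glue_family U' hcov f' hagree
  refine ⟨k, ?_, ?_⟩
  · apply (X.openCoverOfIsOpenCover U' hcov).hom_ext
    intro i
    change (U' i).ι ≫ k ≫ q = (U' i).ι ≫ p
    rw [← Category.assoc, hk, hf']
  · rcases isEmpty_or_nonempty U.toScheme with hE | hN
    · exact (isInitialOfIsEmpty (X := U.toScheme)).hom_ext _ _
    · obtain ⟨⟨z, hz⟩⟩ := hN
      rw [← X.homOfLE_ι (hUU' z), Category.assoc, hk, hres]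


/-- an unramified morphism is locally quasi-finite. -/
theorem locallyQuasiFinite_of_unramified {X S : Scheme.{u}} (f : X ⟶ S) [FormallyUnramified f]
    [LocallyOfFiniteType f] : LocallyQuasiFinite f := by
  constructor
  intro U hU V hV e
  have h1 : (f.appLE U V e).hom.FormallyUnramified := f.formallyUnramified_appLE hU hV e
  have h2 : (f.appLE U V e).hom.FiniteType := f.finiteType_appLE hU hV e
  algebraize [(f.appLE U V e).hom]
  haveI : Algebra.FormallyUnramified Γ(S, U) Γ(X, V) := h1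
  haveI : Algebra.FiniteType Γ(S, U) Γ(X, V) := h2
  exact RingHom.quasiFinite_algebraMap.mpr inferInstance

/-- **S7849.** rational sections of a separated unramified formally proper morphism to a normal
locally Noetherian scheme are everywhere defined. -/
theorem exists_section_extending {Z S : Scheme.{u}} (f : Z ⟶ S)
    [IsLocallyNoetherian S] (hS : Pi1.IsNormalScheme S) [IsSeparated f] [FormallyUnramified f]
    [LocallyOfFiniteType f]
    (hfp : ValuativeCriterion.Existence f) (U : S.Opens) (hU : Dense (U : Set S))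
    (v : U.toScheme ⟶ Z) (hv : v ≫ f = U.ι) :
    ∃ w : S ⟶ Z, w ≫ f = 𝟙 S ∧ U.ι ≫ w = v := by
  haveI : LocallyQuasiFinite f := locallyQuasiFinite_of_unramified f
  haveI : IsReduced S := by
    haveI : ∀ x : S, _root_.IsReduced (S.presheaf.stalk x) := fun x => by
      haveI := (hS x).1
      infer_instance
    exact isReduced_of_isReduced_stalk S
  have hsp0 : SpecializingMap f := ValuativeCriterion.Existence.specializingMap f hfp
  refine exists_extension_of_stalk_lifts' (𝟙 S) f (fun x => (hS x).1) U hU v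
    (by rw [hv, Category.comp_id]) ?_
  intro x₀ jU hjU
  haveI : IsDomain (S.presheaf.stalk x₀) := (hS x₀).1
  have ht : (jU ≫ v) ≫ f = genericHom S x₀ := by rw [Category.assoc, hv, hjU]
  have h1 : f ((jU ≫ v) (IsLocalRing.closedPoint (FractionRing (S.presheaf.stalk x₀)))) ⤳ x₀ := by
    rw [← Scheme.Hom.comp_apply, ht]
    exact genericHom_specializes x₀ x₀ specializes_rfl
  obtain ⟨y₁, hy₁sp, hy₁⟩ := hsp0 h1
  subst hy₁
  haveI : IsIntegrallyClosed (S.presheaf.stalk (f y₁)) := (hS (f y₁)).2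
  obtain ⟨l, hl1, hl2⟩ := exists_stalk_lift f y₁ (f.quasiFiniteAt y₁) (jU ≫ v) ht hy₁sp
  exact ⟨l, by rw [hl1, Category.comp_id], hl2⟩

end Groth.Agent.Lib.T2H3.RatSection
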