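import Mathlib
import Groth.Prelude.Def_GSzCSA
import Groth.Agent.Lib.Helper29RedNorm

/-!
# Prime-to-`p` order of torsion classes with `p`-power reduced norm

Helper library for S15185 (namespace `Groth.Agent.Lib.T2H3.RedNormPow`).
-/

set_option autoImplicit false
set_option linter.style.haveILetI false

open scoped TensorProduct

namespace Groth.Agent.Lib.T2H3.RedNormPow

universe u v

/-- The algebra norm of a central simple algebra of degree `n` is the `n`-th power of the reduced norm. -/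
theorem norm_eq_redNorm_pow (k : Type u) [Field k] (A : Type v) [Ring A] [Algebra k A]
    [FiniteDimensional k A] (n : ℕ) (hn : Module.finrank k A = n ^ 2)
    (N : A →* k) (hN : CSAGal.IsRedNorm k A N) (a : A) :
    Algebra.norm k a = N a ^ n := by
  obtain ⟨K, _, _, _, m, φ, hφ⟩ := hN
  have hm : m = n := by
    have h1 : Module.finrank K (K ⊗[k] A) = m * m := by
      rw [φ.toLinearEquiv.finrank_eq, Module.finrank_matrix]; simp
    rw [Module.finrank_baseChange, hn] at h1
    exact Nat.mul_self_inj.mp (by rw [← h1]; ring)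
  subst hm
  apply (algebraMap k K).injective
  rw [map_pow, hφ, ← Groth.Agent.Lib.Helper29.RedNorm.det_mulLeft_of_algEquiv φ,
    ← Groth.Agent.Lib.Helper29.RedNorm.baseChange_mulLeft, LinearMap.det_baseChange]
  rfl

/-- In characteristic `p`, `a ^ p ^ k = 1` forces `a = 1` in a field. -/
theorem eq_one_of_pow_char_pow_eq_one {K : Type u} [Field K] (p : ℕ) [Fact p.Prime] [CharP K p]
    (k : ℕ) (a : K) (h : a ^ p ^ k = 1) : a = 1 := by
  have h2 : (a - 1) ^ p ^ k = 0 := by
    rw [sub_pow_char_pow, h, one_pow, sub_self]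
  exact sub_eq_zero.mp (pow_eq_zero_iff (pow_ne_zero _ (Fact.out : p.Prime).ne_zero) |>.mp h2)

/-- If `ζ ^ e = 1` with `e` prime to `p`, then `ζ` is a `p`-th power. -/
theorem exists_pow_p_eq_of_pow_coprime_eq_one {K : Type u} [Field K] (p : ℕ) [Fact p.Prime]
    (e : ℕ) (he : Nat.Coprime e p) (ζ : K) (h : ζ ^ e = 1) : ∃ w : K, w ^ p = ζ := by
  have hp : p.Prime := Fact.out
  have hζ : ζ ≠ 0 := by
    rintro rfl
    rcases Nat.eq_zero_or_pos e with rfl | hepos
    · simp [Nat.coprime_zero_left] at he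
      exact hp.one_lt.ne' he
    · rw [zero_pow hepos.ne'] at h
      exact zero_ne_one h
  obtain ⟨u, -, hu⟩ := Nat.exists_mul_mod_eq_one_of_coprime he hp.one_lt
  -- e * u = p * q + 1
  have hdiv := Nat.div_add_mod (e * u) p
  rw [hu] at hdiv
  refine ⟨(ζ⁻¹) ^ (e * u / p), ?_⟩
  have h3 : ζ ^ (p * (e * u / p) + 1) = 1 := by
    rw [hdiv, pow_mul, h, one_pow]
  rw [pow_succ] at h3
  rw [← pow_mul, inv_pow, mul_comm (e * u / p) p]
  exact inv_eq_of_mul_eq_one_right h3

section Main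

variable (K : Type u) [Field K] (p : ℕ) [Fact p.Prime] [CharP K p]
  (A : Type v) [DivisionRing A] [Algebra K A] [FiniteDimensional K A]
  (n n' m : ℕ) (hA : Module.finrank K A = n ^ 2) (hn : n = n' * p ^ m) (hn' : ¬ p ∣ n')
  (N : A →* K) (hN : CSAGal.IsRedNorm K A N)
  (x : A) (b : K) (hb : b ≠ 0) (hNx : N x = b ^ (p ^ m))

include hA hn hn' hN hb hNx in
theorem step (t : ℕ) (c : K) (hc : x ^ (n' * p ^ (t + 1)) = algebraMap K A c) :
    x ^ (n' * p ^ t) ∈ (algebraMap K A).range := by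
  have hp : p.Prime := Fact.out
  haveI : CharP A p := charP_of_injective_algebraMap (algebraMap K A).injective p
  set z := x ^ (n' * p ^ t) with hz
  have hzp : z ^ p = algebraMap K A c := by
    rw [hz, ← pow_mul, mul_assoc, ← pow_succ, hc]
  have hnorm1 : Algebra.norm K z ^ p = c ^ (n ^ 2) := by
    rw [← map_pow, hzp, Algebra.norm_algebraMap, hA]
  have hnorm2 : Algebra.norm K z = ((b ^ p ^ m) ^ (n' * p ^ t)) ^ n := by
    rw [norm_eq_redNorm_pow K A n hA N hN z, hz, map_pow, hNx]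
  rw [hnorm2] at hnorm1
  set ζ := c / b ^ p ^ (t + 1) with hζ
  have hbne : b ^ p ^ (t + 1) ≠ 0 := pow_ne_zero _ hb
  have hζ1 : ζ ^ (n ^ 2) = 1 := by
    rw [hζ, div_pow, ← hnorm1, ← pow_mul, ← pow_mul, ← pow_mul, ← pow_mul]
    have e : p ^ m * (n' * p ^ t * (n * p)) = p ^ (t + 1) * n ^ 2 := by
      rw [hn]; ring
    rw [e]
    exact div_self (pow_ne_zero _ hb)
  have hζ2 : ζ ^ (n' ^ 2) = 1 := by
    apply eq_one_of_pow_char_pow_eq_one p (2 * m)
    rw [← pow_mul]
    have e : n' ^ 2 * p ^ (2 * m) = n ^ 2 := by rw [hn]; ring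
    rw [e, hζ1]
  have hcop : Nat.Coprime (n' ^ 2) p :=
    Nat.Coprime.pow_left 2 ((Nat.Prime.coprime_iff_not_dvd hp).mpr hn').symm
  obtain ⟨w₀, hw₀⟩ := exists_pow_p_eq_of_pow_coprime_eq_one p (n' ^ 2) hcop ζ hζ2
  have hw : (w₀ * b ^ p ^ t) ^ p = c := by
    rw [mul_pow, hw₀, ← pow_mul, ← pow_succ, hζ, div_mul_cancel₀ _ hbne]
  have hcomm : Commute z (algebraMap K A (w₀ * b ^ p ^ t)) := (Algebra.commutes _ _).symm
  have h0 : (z - algebraMap K A (w₀ * b ^ p ^ t)) ^ p = 0 := by
    rw [sub_pow_char_of_commute p hcomm, hzp, ← map_pow, hw, sub_self]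
  have h1 : z - algebraMap K A (w₀ * b ^ p ^ t) = 0 := pow_eq_zero_iff hp.ne_zero |>.mp h0
  exact ⟨w₀ * b ^ p ^ t, (sub_eq_zero.mp h1).symm⟩

include hA hn hn' hN hb hNx in
theorem pow_coprimePart_mem_range (hxn : x ^ n ∈ (algebraMap K A).range) :
    x ^ n' ∈ (algebraMap K A).range := by
  have key : ∀ d, d ≤ m → x ^ (n' * p ^ (m - d)) ∈ (algebraMap K A).range := by
    intro d
    induction d with
    | zero =>
      intro _
      rw [Nat.sub_zero, ← hn]
      exact hxn
    | succ d ih =>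
      intro hd
      obtain ⟨c, hc⟩ := ih (by omega)
      have e : m - d = (m - (d + 1)) + 1 := by omega
      rw [e] at hc
      exact step K p A n n' m hA hn hn' N hN x b hb hNx (m - (d + 1)) c hc.symm
  have := key m le_rfl
  rwa [Nat.sub_self, pow_zero, mul_one] at this

end Main

end Groth.Agent.Lib.T2H3.RedNormPow
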