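import Mathlib
import Groth.Agent.Lib.Helper10PunctJacSch
import Groth.Agent.Lib.Helper5StalkSpec
import Groth.Agent.Lib.Helper28RegLoc
import Groth.Agent.Lib.Helper28CMFib1

set_option autoImplicit false
universe u
open CategoryTheory AlgebraicGeometry Topology

/-! helper9: closed points of locally Noetherian schemes; regular/CM stalks pass to generizations (S9807, S9808). -/

namespace Groth.Agent.Lib.T2H9.ClosedPt


open Groth.Agent.Lib.Helper10.PunctJac in
/-- In a locally Noetherian scheme every point specializes to a closed point (Stacks 02IL). -/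
theorem exists_isClosed_singleton_specializes (X : Scheme.{u}) [IsLocallyNoetherian X] (x : X) :
    ∃ z : X, IsClosed ({z} : Set X) ∧ x ⤳ z := by
  obtain ⟨R, f, hopen, x', rfl, hnoeth⟩ := exists_affine_chart X x
  have hf : IsOpenEmbedding f := f.isOpenEmbedding
  obtain ⟨u', hu'mem, hu'cl⟩ := IsClosed.exists_closed_singleton
    (isClosed_closure (s := ({x'} : Set (Spec R)))) ⟨x', subset_closure rfl⟩
  have hxu' : x' ⤳ u' := specializes_iff_mem_closure.mpr hu'mem
  have hxu : f x' ⤳ f u' := hxu'.map hf.continuous
  have hlc : IsLocallyClosed ({f u'} : Set X) := by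
    have := hu'cl.isLocallyClosed.image hf.isInducing hf.isOpen_range.isLocallyClosed
    rwa [Set.image_singleton] at this
  by_cases hcl : IsClosed ({f u'} : Set X)
  · exact ⟨f u', hcl, hxu⟩
  · rw [← closure_subset_iff_isClosed, Set.not_subset] at hcl
    obtain ⟨y, hy, hyne⟩ := hcl
    have huy : f u' ⤳ y := specializes_iff_mem_closure.mpr hy
    exact ⟨y, isClosed_singleton_of_specializes_of_isLocallyClosed_scheme X hlc huy hyne,
      hxu.trans huy⟩



/-- A local ring which is a localization of `R` at some submonoid is the localization of `R` at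
the contraction of its maximal ideal. -/
theorem exists_ringEquiv_atPrime {R S : Type u} [CommRing R] [CommRing S] [IsLocalRing S]
    [Algebra R S] (M : Submonoid R) [IsLocalization M S] :
    ∃ (p : Ideal R) (_ : p.IsPrime), Nonempty (S ≃+* Localization.AtPrime p) := by
  have hp : ((IsLocalRing.maximalIdeal S).comap (algebraMap R S)).IsPrime :=
    Ideal.comap_isPrime _ _
  refine ⟨(IsLocalRing.maximalIdeal S).comap (algebraMap R S), hp, ?_⟩
  have hloc : IsLocalization ((IsLocalRing.maximalIdeal S).comap (algebraMap R S)).primeCompl S := by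
    refine IsLocalization.of_le M _ ?_ ?_
    · intro m hm hmem
      have hu : IsUnit (algebraMap R S m) := IsLocalization.map_units S ⟨m, hm⟩
      exact (IsLocalRing.mem_maximalIdeal _).mp (Ideal.mem_comap.mp hmem) hu
    · intro r hr
      by_contra hu
      exact hr (Ideal.mem_comap.mpr ((IsLocalRing.mem_maximalIdeal _).mpr hu))
  exact ⟨(IsLocalization.algEquiv
    ((IsLocalRing.maximalIdeal S).comap (algebraMap R S)).primeCompl S
    (Localization.AtPrime ((IsLocalRing.maximalIdeal S).comap (algebraMap R S)))).toRingEquiv⟩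

theorem exists_ringEquiv_atPrime_of_specializes (X : Scheme.{u}) {x z : X} (h : x ⤳ z) :
    ∃ (p : Ideal (X.presheaf.stalk z)) (_ : p.IsPrime),
      Nonempty (X.presheaf.stalk x ≃+* Localization.AtPrime p) := by
  let _ := (X.presheaf.stalkSpecializes h).hom.toAlgebra
  obtain ⟨M, hM⟩ := Groth.Agent.Lib.Helper5.StalkSpec.exists_isLocalization_stalkSpecializes X h
  exact exists_ringEquiv_atPrime M

theorem isRegularLocalRing_stalk_of_specializes (X : Scheme.{u}) {x z : X} (h : x ⤳ z)
    (hz : IsRegularLocalRing (X.presheaf.stalk z)) : IsRegularLocalRing (X.presheaf.stalk x) := by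
  obtain ⟨p, hp, ⟨e⟩⟩ := exists_ringEquiv_atPrime_of_specializes X h
  have := Groth.Agent.Lib.Helper28.isRegularLocalRing_localization_of_isRegularLocalRing
    (X.presheaf.stalk z) p
  exact IsRegularLocalRing.of_ringEquiv e.symm

theorem isCohenMacaulayLocalRing_stalk_of_specializes (X : Scheme.{u}) {x z : X} (h : x ⤳ z)
    (hz : LocCoh.IsCohenMacaulayLocalRing (X.presheaf.stalk z)) :
    LocCoh.IsCohenMacaulayLocalRing (X.presheaf.stalk x) := by
  obtain ⟨p, hp, ⟨e⟩⟩ := exists_ringEquiv_atPrime_of_specializes X h
  have h1 : LocCoh.IsCohenMacaulayRing (X.presheaf.stalk z) :=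
    Groth.Agent.Lib.Helper28.CMFib.isCohenMacaulayRing_of_isCohenMacaulayLocalRing _
  have h2 := h1.isCohenMacaulayLocalRing_localization p
  exact Groth.Agent.Lib.Helper28.isCohenMacaulayLocalRing_of_ringEquiv e.symm

end Groth.Agent.Lib.T2H9.ClosedPt
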