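import Mathlib
import Groth.Prelude.Def_RefHull
import Groth.Agent.Lib.T2H3HomShQCoh
import Groth.Agent.Lib.Helper23UnitStalk
import Groth.Agent.Lib.T2H5GenIsoF
import Groth.Agent.Lib.Helper20ZClos9
import Groth.Agent.Lib.T2H9ClosedPt

/-!
# Reflexive coherent modules: the sheaf condition and the stalk condition

Library for S16080 (namespace `Groth.Agent.Lib.T2H3.Reflexive`).
-/

set_option autoImplicit false
set_option linter.style.haveILetI false

universe u

open CategoryTheory AlgebraicGeometry TopologicalSpace Opposite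

namespace Groth.Agent.Lib.T2H3.Reflexive

open Groth.Agent.Lib.T2H3.HomShQCoh Groth.Agent.Lib.T2H3.HomShStalk

section Alg

variable {R M N : Type*} [CommRing R] [AddCommGroup M] [Module R M] [AddCommGroup N] [Module R N]

/-- evaluation into the `N`-valued double dual, `N ≅ R` -/
theorem bijective_applyₗ_iff (u : R ≃ₗ[R] N) :
    Function.Bijective (fun v : M => (LinearMap.applyₗ v : (M →ₗ[R] N) →ₗ[R] N)) ↔
      Module.IsReflexive R M := by
  let E₁ : (M →ₗ[R] R) ≃ₗ[R] (M →ₗ[R] N) := LinearEquiv.arrowCongr (LinearEquiv.refl R M) u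
  let E₂ : ((M →ₗ[R] R) →ₗ[R] R) ≃ₗ[R] ((M →ₗ[R] N) →ₗ[R] N) := LinearEquiv.arrowCongr E₁ u
  have hcomp : (fun v : M => (LinearMap.applyₗ v : (M →ₗ[R] N) →ₗ[R] N)) =
      E₂ ∘ (Module.Dual.eval R M) := by
    funext v
    apply LinearMap.ext
    intro ψ
    change ψ v = u ((E₁.symm ψ) v)
    change ψ v = u (u.symm (ψ v))
    rw [LinearEquiv.apply_symm_apply]
  rw [hcomp]
  constructor
  · intro h
    exact ⟨(E₂.bijective.of_comp_iff' _).mp h⟩
  · intro h
    exact E₂.bijective.comp h.bijective_dual_eval'

end Alg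

variable {X : Scheme.{u}}

/-- the stalk map of the biduality map, followed by evaluation, is evaluation of forms -/
theorem evalStalk_stalkMap_bidualMap (F : X.Modules) (x : X) (v : F.presheaf.stalk x) :
    RefHull.evalStalk (RefHull.dual F) (Coh.structureModule X) x
      (RefHull.stalkMapₗ (RefHull.bidualMap F) x v) = RefHull.bidualAt F x v := by
  obtain ⟨U, hxU, s, rfl⟩ := TopCat.Presheaf.exists_germ_eq F.presheaf v
  rw [RefHull.stalkMapₗ_germ, RefHull.evalStalk_germ]
  rfl

/-- for a coherent module on a locally Noetherian scheme, the stalk of the biduality map at `x` is bijective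
iff the stalk is a reflexive module -/
theorem bijective_stalkMap_bidualMap_iff [IsLocallyNoetherian X] (F : X.Modules) (hF : Coh.IsCoh F)
    (x : X) :
    Function.Bijective (RefHull.stalkMapₗ (RefHull.bidualMap F) x) ↔ RefHull.IsReflexiveAt F x := by
  have hO : Coh.IsCoh (Coh.structureModule X) := Groth.Agent.Lib.T2H5.GenIsoF.isCoh_structureModule
  have hFP : CohB1.IsFP F := isFP_of_isCoh F hF
  have hdFP : CohB1.IsFP (RefHull.dual F) := isFP_homSh F _ hF hO
  have h₁ := evalStalk_bijective F (Coh.structureModule X) hFP x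
  have h₂ := evalStalk_bijective (RefHull.dual F) (Coh.structureModule X) hdFP x
  let E₁ := LinearEquiv.ofBijective (RefHull.evalStalk F (Coh.structureModule X) x) h₁
  -- reduce to `bidualAt`
  have step1 : Function.Bijective (RefHull.stalkMapₗ (RefHull.bidualMap F) x) ↔
      Function.Bijective (RefHull.bidualAt F x) := by
    have hcomp : (RefHull.bidualAt F x : _ → _) =
        (RefHull.evalStalk (RefHull.dual F) (Coh.structureModule X) x) ∘
          (RefHull.stalkMapₗ (RefHull.bidualMap F) x) := by
      funext v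
      exact (evalStalk_stalkMap_bidualMap F x v).symm
    rw [hcomp]
    exact (h₂.of_comp_iff' _).symm
  -- `bidualAt` is evaluation followed by precomposition with `E₁`
  let P : ((RefHull.StalkHom F (Coh.structureModule X) x) →ₗ[X.presheaf.stalk x]
        (Coh.structureModule X).presheaf.stalk x) ≃ₗ[X.presheaf.stalk x]
      (((RefHull.dual F).presheaf.stalk x) →ₗ[X.presheaf.stalk x]
        (Coh.structureModule X).presheaf.stalk x) :=
    LinearEquiv.arrowCongr E₁.symm (LinearEquiv.refl _ _)
  have step2 : (RefHull.bidualAt F x : _ → _) =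
      P ∘ (fun v : F.presheaf.stalk x => (LinearMap.applyₗ v :
        (RefHull.StalkHom F (Coh.structureModule X) x) →ₗ[X.presheaf.stalk x]
          (Coh.structureModule X).presheaf.stalk x)) := by
    funext v
    apply LinearMap.ext
    intro θ
    rfl
  rw [step1, step2, P.bijective.of_comp_iff',
    bijective_applyₗ_iff (Groth.Agent.Lib.Helper23.UnitStalk.unitStalkEquiv x)]
  rfl

theorem isCoh_dual [IsLocallyNoetherian X] (F : X.Modules) (hF : Coh.IsCoh F) :
    Coh.IsCoh (RefHull.dual F) :=
  isCoh_homSh F _ hF Groth.Agent.Lib.T2H5.GenIsoF.isCoh_structureModule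

theorem isCoh_ddual [IsLocallyNoetherian X] (F : X.Modules) (hF : Coh.IsCoh F) :
    Coh.IsCoh (RefHull.ddual F) :=
  isCoh_dual _ (isCoh_dual F hF)

/-- reflexivity of the sheaf is reflexivity of all stalks -/
theorem isReflexive_iff_forall_isReflexiveAt [IsLocallyNoetherian X] (F : X.Modules)
    (hF : Coh.IsCoh F) : RefHull.IsReflexive F ↔ ∀ x : X, RefHull.IsReflexiveAt F x := by
  unfold RefHull.IsReflexive
  rw [Groth.Agent.Lib.Helper20.ZClosLib.isIso_iff_stalk_bijective]
  refine forall_congr' fun x => ?_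
  exact bijective_stalkMap_bidualMap_iff F hF x

/-- reflexivity of a stalk passes to generizations -/
theorem isReflexiveAt_of_specializes [IsLocallyNoetherian X] (F : X.Modules) (hF : Coh.IsCoh F)
    {x z : X} (h : x ⤳ z) (hz : RefHull.IsReflexiveAt F z) : RefHull.IsReflexiveAt F x := by
  haveI : F.IsQuasicoherent := hF.1
  haveI : (RefHull.ddual F).IsQuasicoherent := (isCoh_ddual F hF).1
  rw [← bijective_stalkMap_bidualMap_iff F hF] at hz ⊢
  exact Groth.Agent.Lib.Helper20.ZClosLib.bijective_ψ_of_specializes (RefHull.bidualMap F) z x h hz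

/-- **S16080.** -/
theorem tfae_reflexive [IsLocallyNoetherian X] (F : X.Modules) (hF : Coh.IsCoh F) :
    [RefHull.IsReflexive F, ∀ x : ↥X, RefHull.IsReflexiveAt F x,
      ∀ x : ↥X, IsClosed ({x} : Set ↥X) → RefHull.IsReflexiveAt F x].TFAE := by
  tfae_have 1 ↔ 2 := isReflexive_iff_forall_isReflexiveAt F hF
  tfae_have 2 → 3 := fun h x _ => h x
  tfae_have 3 → 2 := by
    intro h x
    obtain ⟨z, hz, hxz⟩ := Groth.Agent.Lib.T2H9.ClosedPt.exists_isClosed_singleton_specializes X x
    exact isReflexiveAt_of_specializes F hF hxz (h z hz)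
  tfae_finish

end Groth.Agent.Lib.T2H3.Reflexive
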