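import Mathlib
import Groth.Agent.Lib.Helper10Reflexive

/-!
# Reflexive modules over Noetherian domains: duals and Hom modules

Library (namespace `Groth.Agent.Lib.T2H3.ReflexiveAlg`).
* `exists_smul_mem_range_eval`: over a Noetherian domain the cokernel of `M → M**` is torsion (`M` finite).
* `isReflexive_dual`: the dual of a finite module over a Noetherian domain is reflexive.
* `isReflexive_hom`: `Hom(M, N)` is reflexive for `M` finite and `N` finite reflexive.
-/

set_option autoImplicit false
set_option linter.style.haveILetI false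

universe u

namespace Groth.Agent.Lib.T2H3.ReflexiveAlg

open Module Groth.Agent.Lib.Helper10.Reflexive

section Gen

variable {R : Type*} [CommRing R] (S : Submonoid R) (Rs : Type*) [CommRing Rs] [Algebra R Rs]
  [IsLocalization S Rs]
variable {M Ms : Type*} [AddCommGroup M] [Module R M] [AddCommGroup Ms] [Module R Ms] [Module Rs Ms]
  [IsScalarTower R Rs Ms] (l : M →ₗ[R] Ms) [IsLocalizedModule S l]
  [Module.FinitePresentation R M] [Module.FinitePresentation R (Dual R M)]

include l in
/-- if the localization is reflexive, the cokernel of `eval` is `S`-torsion -/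
theorem exists_smul_mem_range_eval_gen [Module.IsReflexive Rs Ms] (y : Dual R (Dual R M)) :
    ∃ s ∈ S, s • y ∈ LinearMap.range (Dual.eval R M) := by
  obtain ⟨z, hz⟩ := (Module.bijective_dual_eval Rs Ms).2 (DD S Rs l y)
  obtain ⟨⟨x, s⟩, hxs⟩ := IsLocalizedModule.surj S l z
  have h1 : DD S Rs l (s.1 • y - Dual.eval R M x) = 0 := by
    rw [map_sub, map_smul, DD_eval, ← hz, ← hxs, sub_eq_zero]
    change _ = (Dual.eval Rs Ms) (s.1 • z)
    rw [← algebraMap_smul Rs s.1 z, map_smul, algebraMap_smul]
  obtain ⟨t, ht⟩ := (IsLocalizedModule.eq_zero_iff S (DD S Rs l)).mp h1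
  refine ⟨t.1 * s.1, S.mul_mem t.2 s.2, t.1 • x, ?_⟩
  rw [map_smul, mul_smul]
  have : t.1 • (s.1 • y - Dual.eval R M x) = 0 := ht
  rw [smul_sub, sub_eq_zero] at this
  exact this.symm

end Gen

section Domain

variable {R : Type u} [CommRing R] [IsDomain R] [IsNoetherianRing R]

/-- over a Noetherian domain, the cokernel of `M → M**` is torsion -/
theorem exists_smul_mem_range_eval (M : Type u) [AddCommGroup M] [Module R M] [Module.Finite R M]
    (y : Dual R (Dual R M)) :
    ∃ s : R, s ≠ 0 ∧ s • y ∈ LinearMap.range (Dual.eval R M) := by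
  haveI : Module.FinitePresentation R M := Module.finitePresentation_of_finite R M
  haveI : Module.Finite R (Dual R M) := inferInstance
  haveI : Module.FinitePresentation R (Dual R M) := Module.finitePresentation_of_finite R _
  haveI : Module.Finite (FractionRing R) (LocalizedModule (nonZeroDivisors R) M) :=
    Module.Finite.of_isLocalizedModule (nonZeroDivisors R)
      (LocalizedModule.mkLinearMap (nonZeroDivisors R) M)
  obtain ⟨s, hs, h⟩ := exists_smul_mem_range_eval_gen (nonZeroDivisors R) (FractionRing R)
    (LocalizedModule.mkLinearMap (nonZeroDivisors R) M) y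
  exact ⟨s, nonZeroDivisors.ne_zero hs, h⟩

/-- the dual of a finite module over a Noetherian domain is reflexive -/
theorem isReflexive_dual (P : Type u) [AddCommGroup P] [Module R P] [Module.Finite R P] :
    Module.IsReflexive R (Dual R P) := by
  let T : Dual R (Dual R (Dual R P)) →ₗ[R] Dual R P := (Dual.eval R P).dualMap
  have hTE : ∀ ψ : Dual R P, T (Dual.eval R (Dual R P) ψ) = ψ := by
    intro ψ
    apply LinearMap.ext
    intro p
    rfl
  refine ⟨⟨fun a b hab => ?_, fun ξ => ⟨T ξ, ?_⟩⟩⟩
  · rw [← hTE a, ← hTE b, hab]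
  · apply LinearMap.ext
    intro Φ
    obtain ⟨s, hs, x, hx⟩ := exists_smul_mem_range_eval P Φ
    have h1 : s • (Dual.eval R (Dual R P) (T ξ)) Φ = s • ξ Φ := by
      rw [← map_smul, ← map_smul ξ, ← hx]
      rfl
    exact smul_right_injective _ hs h1

/-- `Hom(M, N)` is reflexive for finite `M` and finite reflexive `N` over a Noetherian domain -/
theorem isReflexive_hom (M N : Type u) [AddCommGroup M] [Module R M] [Module.Finite R M]
    [AddCommGroup N] [Module R N] [Module.Finite R N] [Module.IsReflexive R N] :
    Module.IsReflexive R (M →ₗ[R] N) := by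
  haveI : Module.Finite R (Dual R N) := inferInstance
  haveI : Module.Finite R (TensorProduct R M (Dual R N)) := inferInstance
  haveI := isReflexive_dual (R := R) (TensorProduct R M (Dual R N))
  let e₁ : (M →ₗ[R] N) ≃ₗ[R] (M →ₗ[R] Dual R (Dual R N)) :=
    LinearEquiv.congrRight (Module.evalEquiv R N)
  let e₂ : (M →ₗ[R] Dual R (Dual R N)) ≃ₗ[R] Dual R (TensorProduct R M (Dual R N)) :=
    TensorProduct.lift.equiv (RingHom.id R) M (Dual R N) R
  exact Module.equiv (e₁.trans e₂).symm

end Domain

end Groth.Agent.Lib.T2H3.ReflexiveAlg
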