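import Mathlib
import Groth.Agent.Lib.T2H3Reflexive
import Groth.Agent.Lib.T2H3ReflexiveAlg
import Groth.Agent.Lib.Helper2FibreCrit2

/-!
# The sheaf Hom into a reflexive coherent module is reflexive (S16081)
-/

set_option autoImplicit false
set_option linter.style.haveILetI false

universe u

open CategoryTheory AlgebraicGeometry TopologicalSpace Opposite

namespace Groth.Agent.Lib.T2H3.ReflexiveHom

open Groth.Agent.Lib.T2H3.HomShQCoh Groth.Agent.Lib.T2H3.HomShStalk Groth.Agent.Lib.T2H3.Reflexive
  Groth.Agent.Lib.T2H3.ReflexiveAlg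

variable {X : Scheme.{u}}

theorem finite_stalk_of_isCoh (F : X.Modules) (hF : Coh.IsCoh F) (x : X) :
    Module.Finite (X.presheaf.stalk x) (F.presheaf.stalk x) := by
  haveI : F.IsQuasicoherent := hF.1
  haveI : SheafOfModules.IsFiniteType (R := X.ringCatSheaf) F := hF.2
  exact Groth.Agent.Lib.Helper2.FibreCrit.finite_stalk F x

/-- **S16081.** -/
theorem isReflexive_homSh [IsIntegral X] [IsLocallyNoetherian X] (F G : X.Modules)
    (hF : Coh.IsCoh F) (hG : Coh.IsCoh G) (hGr : RefHull.IsReflexive G) :
    RefHull.IsReflexive (RefHull.homSh F G) := by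
  rw [isReflexive_iff_forall_isReflexiveAt _ (isCoh_homSh F G hF hG)]
  intro x
  have hGx : Module.IsReflexive (X.presheaf.stalk x) (G.presheaf.stalk x) :=
    (isReflexive_iff_forall_isReflexiveAt G hG).mp hGr x
  haveI := hGx
  haveI := finite_stalk_of_isCoh F hF x
  haveI := finite_stalk_of_isCoh G hG x
  have hbij := evalStalk_bijective F G (isFP_of_isCoh F hF) x
  let e := LinearEquiv.ofBijective (RefHull.evalStalk F G x) hbij
  haveI : Module.IsReflexive (X.presheaf.stalk x) (RefHull.StalkHom F G x) :=
    isReflexive_hom (R := X.presheaf.stalk x) (F.presheaf.stalk x) (G.presheaf.stalk x)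
  exact Module.equiv e.symm

end Groth.Agent.Lib.T2H3.ReflexiveHom
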