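import Groth.Agent.Lib.T2H4Ref1Local

/-!
# Rank one reflexive modules are isomorphic iff their divisors are linearly equivalent (helper4)

Namespace `Groth.Agent.Lib.T2H4.Ref1Iso`.
-/

set_option autoImplicit false
set_option linter.style.haveILetI false
universe u
open CategoryTheory Limits AlgebraicGeometry TopologicalSpace Opposite

namespace Groth.Agent.Lib.T2H4.Ref1Iso

open Groth.Agent.Lib.T2H4.Ref1Alg Groth.Agent.Lib.T2H4.ExtDdual Groth.Agent.Lib.T2H4.HomShGlobal
  Groth.Agent.Lib.T2H4.Ref1Local Groth.Agent.Lib.T2H3.Reflexive Groth.Agent.Lib.T2H4.GenRank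
  Groth.Agent.Lib.T2H3.HomShQCoh

variable {X : Scheme.{u}}

section General

theorem stalkMapₗ_comp {A B C : X.Modules} (φ : A ⟶ B) (ψ : B ⟶ C) (x : X) (v : A.presheaf.stalk x) :
    RefHull.stalkMapₗ (φ ≫ ψ) x v = RefHull.stalkMapₗ ψ x (RefHull.stalkMapₗ φ x v) := by
  obtain ⟨U, hxU, m, rfl⟩ := TopCat.Presheaf.exists_germ_eq A.presheaf v
  rw [RefHull.stalkMapₗ_germ, RefHull.stalkMapₗ_germ, RefHull.stalkMapₗ_germ]
  rfl

theorem stalkMapₗ_id (A : X.Modules) (x : X) (v : A.presheaf.stalk x) :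
    RefHull.stalkMapₗ (𝟙 A) x v = v := by
  obtain ⟨U, hxU, m, rfl⟩ := TopCat.Presheaf.exists_germ_eq A.presheaf v
  rw [RefHull.stalkMapₗ_germ]
  rfl

theorem stalkMapₗ_inv_hom {A B : X.Modules} (φ : A ⟶ B) [IsIso φ] (x : X) (v : A.presheaf.stalk x) :
    RefHull.stalkMapₗ (inv φ) x (RefHull.stalkMapₗ φ x v) = v := by
  rw [← stalkMapₗ_comp, IsIso.hom_inv_id, stalkMapₗ_id]

theorem stalkMapₗ_hom_inv {A B : X.Modules} (φ : A ⟶ B) [IsIso φ] (x : X) (v : B.presheaf.stalk x) :
    RefHull.stalkMapₗ φ x (RefHull.stalkMapₗ (inv φ) x v) = v := by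
  rw [← stalkMapₗ_comp, IsIso.inv_hom_id, stalkMapₗ_id]

variable [IsIntegral X]

/-- morphisms into a torsion-free quasi-coherent module are determined by their generic stalk map -/
theorem hom_ext_generic {A B : X.Modules} [B.IsQuasicoherent] (hB : TorSh.IsTorsionFree B) (φ φ' : A ⟶ B)
    (h : ∀ v, RefHull.stalkMapₗ φ (genericPoint X) v = RefHull.stalkMapₗ φ' (genericPoint X) v) :
    φ = φ' := by
  refine Scheme.Modules.hom_ext _ _ fun U => ?_
  ext m
  apply sec_ext
  intro y hy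
  have hη : genericPoint X ∈ U := (genericPoint_specializes y).mem_open U.isOpen hy
  have h1 : φ.app U m = φ'.app U m := by
    apply Groth.Agent.Lib.T2H2.RatFun.germ_genericPoint_injective B hB hη
    rw [← RefHull.stalkMapₗ_germ, ← RefHull.stalkMapₗ_germ, h]
  exact congrArg _ h1

end General

section Main

variable [IsIntegral X] [IsLocallyNoetherian X]

/-- a rank one reflexive coherent module is torsion-free with one-dimensional generic stalk -/
theorem ref1_facts (F : X.Modules) (hF : RefHull.IsRef1 F) :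
    TorSh.IsTorsionFree F ∧
      Module.finrank X.functionField (F.presheaf.stalk (genericPoint X)) = 1 := by
  refine ⟨fun x => ?_, finrank_generic_stalk F hF.2.2⟩
  haveI : Module.IsReflexive (X.presheaf.stalk x) (F.presheaf.stalk x) :=
    (isReflexive_iff_forall_isReflexiveAt F hF.1).1 hF.2.1 x
  infer_instance

theorem exists_hom (hX : Pi1.IsNormalScheme X) (F G : X.Modules) (hF : RefHull.IsRef1 F)
    (hG : RefHull.IsRef1 G)
    (s₀ : F.presheaf.stalk (genericPoint X)) (hs₀ : s₀ ≠ 0)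
    (t₀ : G.presheaf.stalk (genericPoint X)) (ht₀ : t₀ ≠ 0)
    (f : X.functionField) (hf : f ≠ 0)
    (hord : ∀ (x : X), Order.coheight x = 1 →
      Cyc.secOrdAt F (genericPoint X) x (genericPoint_specializes x)
          (Submodule.Quotient.mk s₀ : Cyc.secFibre F (genericPoint X)) =
        Cyc.secOrdAt G (genericPoint X) x (genericPoint_specializes x)
          (Submodule.Quotient.mk t₀ : Cyc.secFibre G (genericPoint X)) + Scheme.ord f x) :
    ∃ ψ : F ⟶ G, RefHull.stalkMapₗ ψ (genericPoint X) s₀ = f • t₀ := by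
  obtain ⟨hFtf, hFrk⟩ := ref1_facts F hF
  obtain ⟨hGtf, hGrk⟩ := ref1_facts G hG
  haveI : F.IsQuasicoherent := hF.1.1
  haveI : G.IsQuasicoherent := hG.1.1
  have hbij : Function.Bijective (LinearMap.toSpanSingleton X.functionField
      (F.presheaf.stalk (genericPoint X)) s₀) :=
    ⟨smul_left_injective _ hs₀, surjective_smul_generic F hF.2.2 s₀ hs₀⟩
  let E := LinearEquiv.ofBijective _ hbij
  let T : F.presheaf.stalk (genericPoint X) →ₗ[X.presheaf.stalk (genericPoint X)]
      G.presheaf.stalk (genericPoint X) :=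
    (LinearMap.toSpanSingleton X.functionField (G.presheaf.stalk (genericPoint X)) (f • t₀)) ∘ₗ
      E.symm.toLinearMap
  have hT : ∀ c : X.functionField, T (c • s₀) = c • (f • t₀) := by
    intro c
    have h1 : E.symm (c • s₀) = c := by
      apply E.injective
      rw [E.apply_symm_apply]
      rfl
    change (E.symm (c • s₀)) • (f • t₀) = _
    rw [h1]
  have hmaps : ∀ x : X, ringKrullDim (X.presheaf.stalk x) = 1 →
      Set.MapsTo ⇑T (Set.range ⇑(F.presheaf.stalkSpecializes (genericPoint_specializes x)).hom)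
        (Set.range ⇑(G.presheaf.stalkSpecializes (genericPoint_specializes x)).hom) := by
    intro x hdim
    have hx : Order.coheight x = 1 := by
      rw [ringKrullDim_stalk_eq_coheight] at hdim
      exact_mod_cast hdim
    have h := genericPoint_specializes x
    haveI := isDVR hX x hx
    obtain ⟨a, ha⟩ := exists_generator_stalk F hX hF.1 hFtf hFrk x hx h
    obtain ⟨b, hb⟩ := exists_generator_stalk G hX hG.1 hGtf hGrk x hx h
    have hsa := spec_generator_ne_zero F hFrk x h a ha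
    have hsb := spec_generator_ne_zero G hGrk x h b hb
    obtain ⟨α, hα⟩ := surjective_smul_generic F hF.2.2 _ hsa s₀
    obtain ⟨β, hβ⟩ := surjective_smul_generic G hG.2.2 _ hsb t₀
    have hα' : α • spec F x h a = s₀ := hα
    have hβ' : β • spec G x h b = t₀ := hβ
    have hα0 : α ≠ 0 := by
      rintro rfl
      exact hs₀ (by rw [← hα', zero_smul])
    have hβ0 : β ≠ 0 := by
      rintro rfl
      exact ht₀ (by rw [← hβ', zero_smul])
    have hA := secOrdAt_eq F hX hFrk x hx h a ha α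
    have hB := secOrdAt_eq G hX hGrk x hx h b hb β
    rw [hα'] at hA
    rw [hβ'] at hB
    have hO := hord x hx
    rw [hA, hB, ord_eq_ordAt hX x hx h f hf] at hO
    have ho := isOrd_cycOrd hX x hx h
    set γ := α⁻¹ * (f * β) with hγ
    have hγ0 : γ ≠ 0 := mul_ne_zero (inv_ne_zero hα0) (mul_ne_zero hf hβ0)
    have hγα : γ * α = f * β := by
      rw [hγ, mul_comm, ← mul_assoc, mul_inv_cancel₀ hα0, one_mul]
    have h1 := ho.mul γ α hγ0 hα0
    rw [hγα, ho.mul f β hf hβ0] at h1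
    have hγnn : 0 ≤ Cyc.ordAt x (genericPoint X) h (X.residue (genericPoint X) γ) := by omega
    obtain ⟨r', hr'⟩ := (ho.nonneg_iff γ hγ0).1 hγnn
    have hTa : T (spec F x h a) = γ • spec G x h b := by
      have h2 : spec F x h a = α⁻¹ • s₀ := by
        rw [← hα', smul_smul, inv_mul_cancel₀ hα0, one_smul]
      rw [h2, hT, ← hβ', smul_smul, smul_smul, hγ, mul_assoc]
    rintro _ ⟨m, rfl⟩
    have hmem : m ∈ Submodule.span (X.presheaf.stalk x) {a} := by rw [ha]; trivial
    obtain ⟨r, rfl⟩ := Submodule.mem_span_singleton.1 hmem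
    refine ⟨(r * r') • b, ?_⟩
    change spec G x h ((r * r') • b) = T (spec F x h (r • a))
    rw [spec_smul, spec_smul, map_smul, hTa, ← hr', smul_smul, map_mul]
  obtain ⟨ψ, hψ⟩ := exists_of_mapsTo hX G F hG.1 hF.1 T hmaps
  haveI : IsIso (RefHull.bidualMap G) := hG.2.1
  refine ⟨ψ ≫ inv (RefHull.bidualMap G), ?_⟩
  rw [stalkMapₗ_comp, hψ]
  change RefHull.stalkMapₗ (inv (RefHull.bidualMap G)) (genericPoint X)
    (RefHull.stalkMapₗ (RefHull.bidualMap G) (genericPoint X) (T s₀)) = _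
  rw [stalkMapₗ_inv_hom]
  have h3 := hT 1
  rwa [one_smul, one_smul] at h3

/-- **(⇐)** -/
theorem nonempty_iso_of_ord (hX : Pi1.IsNormalScheme X) (F G : X.Modules) (hF : RefHull.IsRef1 F)
    (hG : RefHull.IsRef1 G)
    (s₀ : F.presheaf.stalk (genericPoint X)) (hs₀ : s₀ ≠ 0)
    (t₀ : G.presheaf.stalk (genericPoint X)) (ht₀ : t₀ ≠ 0)
    (f : X.functionField) (hf : f ≠ 0)
    (hord : ∀ (x : X), Order.coheight x = 1 →
      Cyc.secOrdAt F (genericPoint X) x (genericPoint_specializes x)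
          (Submodule.Quotient.mk s₀ : Cyc.secFibre F (genericPoint X)) =
        Cyc.secOrdAt G (genericPoint X) x (genericPoint_specializes x)
          (Submodule.Quotient.mk t₀ : Cyc.secFibre G (genericPoint X)) + Scheme.ord f x) :
    Nonempty (F ≅ G) := by
  obtain ⟨hFtf, hFrk⟩ := ref1_facts F hF
  obtain ⟨hGtf, hGrk⟩ := ref1_facts G hG
  haveI : F.IsQuasicoherent := hF.1.1
  haveI : G.IsQuasicoherent := hG.1.1
  have hf' : f⁻¹ ≠ 0 := inv_ne_zero hf
  have hord' : ∀ (x : X), Order.coheight x = 1 →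
      Cyc.secOrdAt G (genericPoint X) x (genericPoint_specializes x)
          (Submodule.Quotient.mk t₀ : Cyc.secFibre G (genericPoint X)) =
        Cyc.secOrdAt F (genericPoint X) x (genericPoint_specializes x)
          (Submodule.Quotient.mk s₀ : Cyc.secFibre F (genericPoint X)) + Scheme.ord f⁻¹ x := by
    intro x hx
    haveI := isDVR hX x hx
    have ho := isOrd_schemeOrd hX x hx
    have h1 := ho.mul f f⁻¹ hf hf'
    rw [mul_inv_cancel₀ hf] at h1
    have h2 := ho.unit 1 isUnit_one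
    rw [map_one] at h2
    have h3 := hord x hx
    change Scheme.ord 1 x = Scheme.ord f x + Scheme.ord f⁻¹ x at h1
    change Scheme.ord 1 x = 0 at h2
    omega
  obtain ⟨ψ₁, hψ₁⟩ := exists_hom hX F G hF hG s₀ hs₀ t₀ ht₀ f hf hord
  obtain ⟨ψ₂, hψ₂⟩ := exists_hom hX G F hG hF t₀ ht₀ s₀ hs₀ f⁻¹ hf' hord'
  refine ⟨⟨ψ₁, ψ₂, ?_, ?_⟩⟩
  · apply hom_ext_generic hFtf
    intro v
    obtain ⟨c, rfl⟩ := surjective_smul_generic F hF.2.2 s₀ hs₀ v
    change RefHull.stalkMapₗ (ψ₁ ≫ ψ₂) (genericPoint X) (c • s₀) =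
      RefHull.stalkMapₗ (𝟙 F) (genericPoint X) (c • s₀)
    rw [stalkMapₗ_id, stalkMapₗ_comp, map_smul, map_smul, hψ₁, map_smul, hψ₂, smul_smul f,
      mul_inv_cancel₀ hf, one_smul]
  · apply hom_ext_generic hGtf
    intro v
    obtain ⟨c, rfl⟩ := surjective_smul_generic G hG.2.2 t₀ ht₀ v
    change RefHull.stalkMapₗ (ψ₂ ≫ ψ₁) (genericPoint X) (c • t₀) =
      RefHull.stalkMapₗ (𝟙 G) (genericPoint X) (c • t₀)
    rw [stalkMapₗ_id, stalkMapₗ_comp, map_smul, map_smul, hψ₂, map_smul, hψ₁, smul_smul f⁻¹,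
      inv_mul_cancel₀ hf, one_smul]

/-- **(⇒)** -/
theorem exists_ord_of_iso (hX : Pi1.IsNormalScheme X) (F G : X.Modules) (hF : RefHull.IsRef1 F)
    (hG : RefHull.IsRef1 G) (e : F ≅ G)
    (s₀ : F.presheaf.stalk (genericPoint X)) (hs₀ : s₀ ≠ 0)
    (t₀ : G.presheaf.stalk (genericPoint X)) (ht₀ : t₀ ≠ 0) :
    ∃ f : X.functionField, f ≠ 0 ∧ ∀ (x : X), Order.coheight x = 1 →
      Cyc.secOrdAt F (genericPoint X) x (genericPoint_specializes x)
          (Submodule.Quotient.mk s₀ : Cyc.secFibre F (genericPoint X)) =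
        Cyc.secOrdAt G (genericPoint X) x (genericPoint_specializes x)
          (Submodule.Quotient.mk t₀ : Cyc.secFibre G (genericPoint X)) + Scheme.ord f x := by
  obtain ⟨hFtf, hFrk⟩ := ref1_facts F hF
  obtain ⟨hGtf, hGrk⟩ := ref1_facts G hG
  haveI : F.IsQuasicoherent := hF.1.1
  haveI : G.IsQuasicoherent := hG.1.1
  obtain ⟨c, hc⟩ := surjective_smul_generic G hG.2.2 t₀ ht₀
    (RefHull.stalkMapₗ e.hom (genericPoint X) s₀)
  have hc' : c • t₀ = RefHull.stalkMapₗ e.hom (genericPoint X) s₀ := hc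
  have hc0 : c ≠ 0 := by
    rintro rfl
    rw [zero_smul] at hc'
    have h1 := stalkMapₗ_inv_hom e.hom (genericPoint X) s₀
    rw [← hc', map_zero] at h1
    exact hs₀ h1.symm
  refine ⟨c, hc0, fun x hx => ?_⟩
  have h := genericPoint_specializes x
  haveI := isDVR hX x hx
  obtain ⟨a, ha⟩ := exists_generator_stalk F hX hF.1 hFtf hFrk x hx h
  set b := RefHull.stalkMapₗ e.hom x a with hbdef
  have hb : Submodule.span (X.presheaf.stalk x) {b} = ⊤ := by
    rw [eq_top_iff]
    intro g _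
    have hg : g = RefHull.stalkMapₗ e.hom x (RefHull.stalkMapₗ (inv e.hom) x g) :=
      (stalkMapₗ_hom_inv e.hom x g).symm
    have hmem : RefHull.stalkMapₗ (inv e.hom) x g ∈ Submodule.span (X.presheaf.stalk x) {a} := by
      rw [ha]; trivial
    obtain ⟨r, hr⟩ := Submodule.mem_span_singleton.1 hmem
    rw [hg, ← hr, map_smul]
    exact Submodule.smul_mem _ _ (Submodule.mem_span_singleton_self _)
  have hsa := spec_generator_ne_zero F hFrk x h a ha
  have hsb := spec_generator_ne_zero G hGrk x h b hb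
  obtain ⟨α, hα⟩ := surjective_smul_generic F hF.2.2 _ hsa s₀
  have hα' : α • spec F x h a = s₀ := hα
  have hα0 : α ≠ 0 := by
    rintro rfl
    exact hs₀ (by rw [← hα', zero_smul])
  -- `t₀ = (c⁻¹ * α) • spec b`
  have hspb : spec G x h b = RefHull.stalkMapₗ e.hom (genericPoint X) (spec F x h a) :=
    stalkSpecializes_stalkMapₗ e.hom h a
  have ht : (c⁻¹ * α) • spec G x h b = t₀ := by
    rw [hspb, ← map_smul, mul_smul, hα', map_smul, ← hc', smul_smul, inv_mul_cancel₀ hc0, one_smul]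
  have hA := secOrdAt_eq F hX hFrk x hx h a ha α
  have hB := secOrdAt_eq G hX hGrk x hx h b hb (c⁻¹ * α)
  rw [hα'] at hA
  rw [ht] at hB
  rw [hA, hB, ord_eq_ordAt hX x hx h c hc0]
  have ho := isOrd_cycOrd hX x hx h
  have h1 := ho.mul (c⁻¹ * α) c (mul_ne_zero (inv_ne_zero hc0) hα0) hc0
  have h2 : c⁻¹ * α * c = α := by
    rw [mul_comm, ← mul_assoc, mul_inv_cancel₀ hc0, one_mul]
  rw [h2] at h1
  exact h1

end Main

end Groth.Agent.Lib.T2H4.Ref1Iso
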