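import Groth.Agent.Lib.T2H9FibSec2

/-!
# T2H9PicInj (helper9): over a Noetherian local base, `Pic(X) → Pic(X₀)` is injective when `H^1(X₀, O) = 0`

`A` Noetherian local with residue field `k`, `f : X ⟶ Spec A` proper and flat, `X₀ = X ×_A k` with `H^1(X₀, O_{X₀}) = 0`:
an invertible `O_X`-module whose pullback to `X₀` is trivial is trivial (`nonempty_iso_structureModule`).  (No completeness
of `A` is needed.)  Also `nonempty_iso_of_isGen_top`: a global generator trivialises a module.
-/

set_option autoImplicit false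
set_option linter.style.haveILetI false
set_option linter.unusedSectionVars false
set_option linter.unusedVariables false
universe u
open CategoryTheory AlgebraicGeometry Limits TopologicalSpace Opposite

namespace Groth.Agent.Lib.T2H9.PicInj

open Groth.Agent.Lib.T2H9.FibQuot Groth.Agent.Lib.T2H9.FlatFib Groth.Agent.Lib.T2H9.FFGeom
  Groth.Agent.Lib.T2H9.FBCZero Groth.Agent.Lib.T2H9.FibFree Groth.Agent.Lib.T2H9.FibSec
open Groth.Agent.Lib.Helper23.SecTw Groth.Agent.Lib.Helper6 Groth.Agent.Lib.Helper23.GenLocus
  Groth.Agent.Lib.Helper23.PB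

section gen
variable {X : Scheme.{u}}

/-- a global generator trivialises a module -/
theorem nonempty_iso_of_isGen_top (M : X.Modules) (e : Γ(M, ⊤)) (he : IsGen M ⊤ e) :
    Nonempty (M ≅ Coh.structureModule X) := by
  let φ : Coh.structureModule X ⟶ M := secHom M e
  have hiso : IsIso φ := by
    rw [Scheme.Modules.Hom.isIso_iff_isIso_app]
    intro V
    rw [ConcreteCategory.isIso_iff_bijective]
    have hfun : ⇑(φ.app V) = (fun r : Γ(X, V) => r • res M (le_top : V ≤ ⊤) e) ∘ (ofS V) := by
      funext b
      have h1 := app_toS φ V (ofS V b)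
      rw [toS_ofS] at h1
      rw [h1, sv_secHom]
      rfl
    rw [hfun]
    exact (he _ le_top).comp ⟨fun a b h => h, fun b => ⟨b, rfl⟩⟩
  exact ⟨(asIso φ).symm⟩

end gen

section main
variable (A : Type u) [CommRing A] [IsLocalRing A] [IsNoetherianRing A]
  {X : Scheme.{u}} (f : X ⟶ Spec (CommRingCat.of A)) [IsProper f] [Flat f]

theorem nonempty_iso_structureModule
    (h1 : Subsingleton (Coh.HH (pullback f (Spec.map (CommRingCat.ofHom (IsLocalRing.residue A))))
      (Coh.structureModule _) 1))
    (L : X.Modules) (hL : PicF.IsInvertible L)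
    (ψ : (Scheme.Modules.pullback (pullback.fst f (Spec.map (CommRingCat.ofHom (IsLocalRing.residue A))))).obj L ≅
      Coh.structureModule _) :
    Nonempty (L ≅ Coh.structureModule X) := by
  letI hO : X.Over (Spec (CommRingCat.of A)) := ⟨f⟩
  haveI : IsProper (X ↘ Spec (CommRingCat.of A)) := ‹IsProper f›
  haveI : Flat (X ↘ Spec (CommRingCat.of A)) := ‹Flat f›
  have hpb : IsPullback (pullback.fst f (Spec.map (CommRingCat.ofHom (IsLocalRing.residue A))))
      (pullback.snd f (Spec.map (CommRingCat.ofHom (IsLocalRing.residue A))))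
      (X ↘ Spec (CommRingCat.of A)) (Spec.map (CommRingCat.ofHom (IsLocalRing.residue A))) :=
    IsPullback.of_hasPullback _ _
  haveI : IsClosedImmersion (Spec.map (CommRingCat.ofHom (IsLocalRing.residue A))) :=
    IsClosedImmersion.spec_of_surjective _ IsLocalRing.residue_surjective
  haveI : IsClosedImmersion (pullback.fst f (Spec.map (CommRingCat.ofHom (IsLocalRing.residue A)))) :=
    isClosedImmersion_of_isPullback _ _ _ _ hpb
  have hk : RingHom.ker (φT (A := A) (Spec.map (CommRingCat.ofHom (IsLocalRing.residue A)))) =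
      IsLocalRing.maximalIdeal A := by
    rw [Groth.Agent.Lib.T2H9.FibVan.ker_φT_SpecMap]
    exact IsLocalRing.ker_residue
  have hcoh : Coh.IsCoh L := Groth.Agent.Lib.T2H6.RankAdd.isCoh_of_isFinLocFreeOfRank L 1
    (isFinLocFreeOfRank_one_of_isInvertible L hL)
  haveI := hcoh.1
  have hfl := Groth.Agent.Lib.T2H9.InvFlat.isFlatOver_of_isInvertible (X ↘ Spec (CommRingCat.of A)) L hL
  letI hOZ : (pullback f (Spec.map (CommRingCat.ofHom (IsLocalRing.residue A)))).Over
      (Spec (CommRingCat.of A)) :=
    ⟨pullback.fst f (Spec.map (CommRingCat.ofHom (IsLocalRing.residue A))) ≫ f⟩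
  obtain ⟨e3⟩ := @nonempty_linearEquiv_fibre A _ X hO L _ _
    (pullback.fst f (Spec.map (CommRingCat.ofHom (IsLocalRing.residue A))))
    (pullback.snd f (Spec.map (CommRingCat.ofHom (IsLocalRing.residue A))))
    (Spec.map (CommRingCat.ofHom (IsLocalRing.residue A))) hpb inferInstance inferInstance inferInstance hOZ rfl
    (IsLocalRing.maximalIdeal A) hk (Coh.structureModule _) ψ.symm 1
  have hvan : Subsingleton (Coh.HH X (cokernel (Formal.smulFamily (IsLocalRing.maximalIdeal A) L)) 1) :=
    e3.toEquiv.subsingleton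
  have hrange : ∀ x : X, (X ↘ Spec (CommRingCat.of A)) x = IsLocalRing.closedPoint A →
      x ∈ Set.range (pullback.fst f (Spec.map (CommRingCat.ofHom (IsLocalRing.residue A)))) := by
    intro x hx
    haveI : Nonempty ↥(Spec (CommRingCat.of (IsLocalRing.ResidueField A))) := inferInstance
    obtain ⟨s⟩ := ‹Nonempty ↥(Spec (CommRingCat.of (IsLocalRing.ResidueField A)))›
    have hs : f x = (Spec.map (CommRingCat.ofHom (IsLocalRing.residue A))) s := by
      have h2 : (Spec.map (CommRingCat.ofHom (IsLocalRing.residue A))) s = IsLocalRing.closedPoint A := by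
        have h3 : s = IsLocalRing.closedPoint (IsLocalRing.ResidueField A) :=
          @Subsingleton.elim (PrimeSpectrum (IsLocalRing.ResidueField A)) _ _ _
        rw [h3]
        exact IsLocalRing.comap_closedPoint (IsLocalRing.residue A)
      rw [h2]
      exact hx
    obtain ⟨z, hz1, -⟩ := Scheme.Pullback.exists_preimage_pullback x s hs
    exact ⟨z, hz1⟩
  obtain ⟨t, ht⟩ := exists_isGen_top X _ _ _ hpb L hL hfl hk hrange ψ hvan
  exact nonempty_iso_of_isGen_top L t ht

end main

end Groth.Agent.Lib.T2H9.PicInj
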