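import Mathlib
import Groth.Agent.Lib.T2H9PicInj
import Groth.Agent.Lib.T2H3ReflexiveHom
import Groth.Agent.Lib.T2H3RankOneUFD
import Groth.Agent.Lib.T2H3RankOneGeom
import Groth.Agent.Lib.Helper2RankLoc
import Groth.Agent.Lib.T2H4Ref1Iso
import Groth.Agent.Lib.Helper23TensorQCoh
import Groth.Agent.Lib.Helper23UnitStalk

/-!
# Local triviality of modules and closure properties of rank one reflexive modules (helper3)

* `TrivAt A x` : `A` has a local generator (frame, `Helper23.SecTw.IsGen`) on a neighbourhood of `x`.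
* `trivAt_tensor`, `trivAt_structureModule`, `trivAt_of_iso`, `trivAt_dual`, `trivAt_ddual`.
* `bijective_smul_germ` : a frame freely generates every stalk.
* `trivAt_of_free` : a coherent module with a free stalk of rank one at `x` is trivial near `x`.
* `genInvertible_of_trivAt`, `trivAt_of_ref1` (at points of codimension `≤ 1` on a normal scheme).
* `isRef1_structureModule`, `isRef1_dual`, `isRef1_refTensor`.
-/

set_option autoImplicit false
set_option linter.style.haveILetI false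
set_option linter.unusedSectionVars false
universe u
open CategoryTheory CategoryTheory.Limits AlgebraicGeometry TopologicalSpace Opposite

namespace Groth.Agent.Lib.T2H3.Ref1Closure

open Groth.Agent.Lib.Helper23.SecTw Groth.Agent.Lib.Helper6 Groth.Agent.Lib.Helper23.GenLocus
  Groth.Agent.Lib.Helper2.QCoh

variable {X : Scheme.{u}}

/-- `A` has a frame near `x`. -/
def TrivAt (A : X.Modules) (x : X) : Prop :=
  ∃ (W : X.Opens) (e : Γ(A, W)), x ∈ W ∧ IsGen A W e

theorem trivAt_structureModule (x : X) : TrivAt (Coh.structureModule X) x :=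
  ⟨⊤, toS ⊤ 1, trivial, isGen_one ⊤⟩

theorem trivAt_tensor {A B : X.Modules} {x : X} (hA : TrivAt A x) (hB : TrivAt B x) :
    TrivAt (CohB1.tensorMod A B) x := by
  obtain ⟨W, a, hxW, ha⟩ := hA
  obtain ⟨W', b, hxW', hb⟩ := hB
  exact ⟨W ⊓ W', tm A B (W ⊓ W') (res A inf_le_left a) (res B inf_le_right b), ⟨hxW, hxW'⟩,
    isGen_tm A B _ _ _ (ha.mono inf_le_left) (hb.mono inf_le_right)⟩

theorem isGen_of_iso {A B : X.Modules} (φ : A ≅ B) {W : X.Opens} {e : Γ(A, W)} (h : IsGen A W e) :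
    IsGen B W (φ.hom.app W e) := by
  intro W' hW'
  have h1 : (fun r : Γ(X, W') => r • res B hW' (φ.hom.app W e)) =
      (φ.hom.app W') ∘ (fun r : Γ(X, W') => r • res A hW' e) := by
    funext r
    change _ = φ.hom.app W' (r • res A hW' e)
    rw [Scheme.Modules.Hom.app_smul]
    congr 1
    exact (Groth.Agent.Lib.Helper23.Extend.app_map φ.hom (homOfLE hW') e).symm
  rw [h1]
  have hiso : IsIso (φ.hom.app W') := Scheme.Modules.Hom.isIso_iff_isIso_app.1 inferInstance _
  have hb : Function.Bijective (φ.hom.app W') := ConcreteCategory.bijective_of_isIso _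
  exact hb.comp (h W' hW')

theorem trivAt_of_iso {A B : X.Modules} (φ : A ≅ B) {x : X} (h : TrivAt A x) : TrivAt B x := by
  obtain ⟨W, e, hxW, he⟩ := h
  exact ⟨W, φ.hom.app W e, hxW, isGen_of_iso φ he⟩

/-- a frame freely generates every stalk -/
theorem bijective_smul_germ {A : X.Modules} {W : X.Opens} {e : Γ(A, W)} (h : IsGen A W e) (x : X)
    (hx : x ∈ W) :
    Function.Bijective (fun c : X.presheaf.stalk x => c • A.presheaf.germ W x hx e) := by
  constructor
  · change Function.Injective (LinearMap.toSpanSingleton (X.presheaf.stalk x) _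
      (A.presheaf.germ W x hx e))
    rw [injective_iff_map_eq_zero]
    intro c hc
    change c • A.presheaf.germ W x hx e = 0 at hc
    obtain ⟨V, hxV, r, rfl⟩ := TopCat.Presheaf.exists_germ_eq X.presheaf c
    have h1 : A.presheaf.germ (V ⊓ W) x ⟨hxV, hx⟩
        (resf (inf_le_left : V ⊓ W ≤ V) r • res A (inf_le_right : V ⊓ W ≤ W) e) = 0 := by
      rw [germ_smul]
      rw [TopCat.Presheaf.germ_res_apply X.presheaf (homOfLE (inf_le_left : V ⊓ W ≤ V)) x ⟨hxV, hx⟩,
        TopCat.Presheaf.germ_res_apply A.presheaf (homOfLE (inf_le_right : V ⊓ W ≤ W)) x ⟨hxV, hx⟩]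
      exact hc
    have hmem : x ∈ V ⊓ W := ⟨hxV, hx⟩
    obtain ⟨V', hxV', i, i', hi'⟩ := TopCat.Presheaf.germ_eq A.presheaf (U := V ⊓ W) (V := V ⊓ W)
      x hmem hmem
      (resf (inf_le_left : V ⊓ W ≤ V) r • res A (inf_le_right : V ⊓ W ≤ W) e) 0
      (by rw [h1, map_zero])
    have hi : A.presheaf.map i.op
        (resf (inf_le_left : V ⊓ W ≤ V) r • res A (inf_le_right : V ⊓ W ≤ W) e) = 0 := by
      rw [hi', map_zero]
    have hle : V' ≤ V ⊓ W := i.le
    have h2 : resf hle (resf (inf_le_left : V ⊓ W ≤ V) r) • res A (hle.trans inf_le_right) e = 0 := by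
      have h3 : res A hle (resf (inf_le_left : V ⊓ W ≤ V) r • res A (inf_le_right : V ⊓ W ≤ W) e) = 0 :=
        hi
      rw [res_smul, res_res] at h3
      exact h3
    have h4 : resf hle (resf (inf_le_left : V ⊓ W ≤ V) r) = 0 := by
      apply (h V' (hle.trans inf_le_right)).1
      change _ • _ = (0 : Γ(X, V')) • _
      rw [h2, zero_smul]
    have h5 : X.presheaf.germ V x hxV r =
        X.presheaf.germ V' x hxV' (resf hle (resf (inf_le_left : V ⊓ W ≤ V) r)) := by
      rw [TopCat.Presheaf.germ_res_apply X.presheaf (homOfLE hle) x hxV',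
        TopCat.Presheaf.germ_res_apply X.presheaf (homOfLE (inf_le_left : V ⊓ W ≤ V)) x ⟨hxV, hx⟩]
    rw [h5, h4, map_zero]
  · intro v
    obtain ⟨V, hxV, m, rfl⟩ := TopCat.Presheaf.exists_germ_eq A.presheaf v
    obtain ⟨r, hr⟩ := (h (V ⊓ W) inf_le_right).2 (res A (inf_le_left : V ⊓ W ≤ V) m)
    refine ⟨X.presheaf.germ (V ⊓ W) x ⟨hxV, hx⟩ r, ?_⟩
    change X.presheaf.germ (V ⊓ W) x ⟨hxV, hx⟩ r • A.presheaf.germ W x hx e = _
    have h1 : A.presheaf.germ W x hx e =
        A.presheaf.germ (V ⊓ W) x ⟨hxV, hx⟩ (res A (inf_le_right : V ⊓ W ≤ W) e) :=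
      (TopCat.Presheaf.germ_res_apply A.presheaf (homOfLE (inf_le_right : V ⊓ W ≤ W)) x
        ⟨hxV, hx⟩ e).symm
    rw [h1, ← germ_smul]
    have hr' : r • res A (inf_le_right : V ⊓ W ≤ W) e = res A (inf_le_left : V ⊓ W ≤ V) m := hr
    rw [hr']
    exact TopCat.Presheaf.germ_res_apply A.presheaf (homOfLE (inf_le_left : V ⊓ W ≤ V)) x
      ⟨hxV, hx⟩ m

/-- the stalk at a point of a frame is free of rank one -/
theorem nonempty_stalk_equiv {A : X.Modules} {x : X} (h : TrivAt A x) :
    Nonempty (X.presheaf.stalk x ≃ₗ[X.presheaf.stalk x] A.presheaf.stalk x) := by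
  obtain ⟨W, e, hxW, he⟩ := h
  exact ⟨LinearEquiv.ofBijective
    (LinearMap.toSpanSingleton (X.presheaf.stalk x) _ (A.presheaf.germ W x hxW e))
    (bijective_smul_germ he x hxW)⟩

section Coherent

variable [IsLocallyNoetherian X]

/-- a coherent module whose stalk at `x` is free of rank one is trivial near `x` -/
theorem trivAt_of_free (A : X.Modules) (hA : Coh.IsCoh A) (x : X)
    (hfree : Nonempty (A.presheaf.stalk x ≃ₗ[X.presheaf.stalk x] X.presheaf.stalk x)) :
    TrivAt A x := by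
  haveI : A.IsQuasicoherent := hA.1
  haveI : SheafOfModules.IsFiniteType (R := X.ringCatSheaf) A := hA.2
  haveI : SheafOfModules.IsFinitePresentation (R := X.ringCatSheaf) A :=
    Groth.Agent.Lib.T2H3.HomShQCoh.isFP_of_isCoh A hA
  obtain ⟨e⟩ := hfree
  haveI hfr : Module.Free (X.presheaf.stalk x) (A.presheaf.stalk x) := Module.Free.of_equiv e.symm
  have hflat : FlatMod.IsFlatAt A x := Module.Flat.of_free
  obtain ⟨D, m, hxD, ⟨ε⟩⟩ :=
    Groth.Agent.Lib.Helper2.LocFree.exists_restrict_iso_freeMod_of_isFlatAt A x hflat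
  obtain ⟨-, hrk'⟩ :=
    Groth.Agent.Lib.Helper2.RankLoc.fibreRank_eq_of_restrict_iso_freeMod D.ι A ε ⟨x, hxD⟩
  have h1 : Module.finrank (X.presheaf.stalk x) (A.presheaf.stalk x) = 1 := by
    rw [e.finrank_eq, Module.finrank_self]
  have hm : m = 1 := by
    rw [← hrk', ← h1]
    exact Module.finrank_baseChange (R := IsLocalRing.ResidueField (X.presheaf.stalk x))
      (S := X.presheaf.stalk x) (M' := A.presheaf.stalk x)
  subst hm
  let ε' : A.restrict D.ι ≅ Coh.structureModule (↑D : Scheme.{u}) :=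
    ε ≪≫ (Limits.coproductUniqueIso (fun _ : Fin 1 => Coh.structureModule (↑D : Scheme.{u})))
  refine ⟨D.ι ''ᵁ ⊤, frameE A D ε' ⊤, ?_, isGen_frameE A D ε' ⊤⟩
  rw [Scheme.Hom.image_top_eq_opensRange, Scheme.Opens.opensRange_ι]
  exact hxD

theorem isReflexiveAt_of_trivAt {A : X.Modules} {x : X} (h : TrivAt A x) :
    Module.IsReflexive (X.presheaf.stalk x) (A.presheaf.stalk x) := by
  obtain ⟨e⟩ := nonempty_stalk_equiv h
  haveI : Module.Free (X.presheaf.stalk x) (A.presheaf.stalk x) := Module.Free.of_equiv e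
  haveI : Module.Finite (X.presheaf.stalk x) (A.presheaf.stalk x) := Module.Finite.equiv e
  infer_instance

theorem trivAt_dual (A : X.Modules) (hA : Coh.IsCoh A) {x : X} (h : TrivAt A x) :
    TrivAt (RefHull.dual A) x := by
  refine trivAt_of_free _ (Groth.Agent.Lib.T2H3.Reflexive.isCoh_dual A hA) x ?_
  obtain ⟨e⟩ := nonempty_stalk_equiv h
  have hbij := Groth.Agent.Lib.T2H3.HomShStalk.evalStalk_bijective A (Coh.structureModule X)
    (Groth.Agent.Lib.T2H3.HomShQCoh.isFP_of_isCoh A hA) x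
  let e₁ := LinearEquiv.ofBijective (RefHull.evalStalk A (Coh.structureModule X) x) hbij
  let e₂ : (A.presheaf.stalk x →ₗ[X.presheaf.stalk x] (Coh.structureModule X).presheaf.stalk x) ≃ₗ[X.presheaf.stalk x]
      (X.presheaf.stalk x →ₗ[X.presheaf.stalk x] X.presheaf.stalk x) :=
    LinearEquiv.arrowCongr e.symm (Groth.Agent.Lib.Helper23.UnitStalk.unitStalkEquiv x).symm
  exact ⟨e₁.trans (e₂.trans (LinearMap.ringLmapEquivSelf (X.presheaf.stalk x)
    (X.presheaf.stalk x) (X.presheaf.stalk x)))⟩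

theorem trivAt_ddual (A : X.Modules) (hA : Coh.IsCoh A) {x : X} (h : TrivAt A x) :
    TrivAt (RefHull.ddual A) x :=
  trivAt_dual _ (Groth.Agent.Lib.T2H3.Reflexive.isCoh_dual A hA) (trivAt_dual A hA h)

end Coherent

section Gen

/-- a frame on `W` trivialises the restriction to `W` -/
theorem nonempty_restrict_iso_of_isGen {A : X.Modules} {W : X.Opens} {e : Γ(A, W)}
    (h : IsGen A W e) : Nonempty (A.restrict W.ι ≅ Coh.structureModule (↑W : Scheme.{u})) := by
  have hle : W.ι ''ᵁ ⊤ ≤ W := by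
    rw [Scheme.Hom.image_top_eq_opensRange, Scheme.Opens.opensRange_ι]
  have h1 : IsGen A (W.ι ''ᵁ ⊤) (res A hle e) := h.mono hle
  have h2 := Groth.Agent.Lib.Helper23.SecTw.isGen_restrict_of_isGen A W ⊤ (res A hle e) h1
  exact Groth.Agent.Lib.T2H9.PicInj.nonempty_iso_of_isGen_top _ _ h2

theorem trivAt_of_mem_of_isInvertible_restrict (A : X.Modules) (U : X.Opens)
    (hinv : PicF.IsInvertible (A.restrict U.ι)) (x : X) (hx : x ∈ U) : TrivAt A x := by
  obtain ⟨V, e, hxV, he⟩ := exists_gen _ hinv (⟨x, hx⟩ : (↑U : Scheme.{u}))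
  exact ⟨U.ι ''ᵁ V, e, ⟨⟨x, hx⟩, hxV, rfl⟩, isGen_of_isGen_restrict A U V e he⟩

variable [IsIntegral X]

theorem trivAt_genericPoint_of_genInvertible (A : X.Modules) (h : RefHull.GenInvertible A) :
    TrivAt A (genericPoint X) := by
  obtain ⟨U, hUd, hinv⟩ := h
  exact trivAt_of_mem_of_isInvertible_restrict A U hinv _
    (Groth.Agent.Lib.T2H3.RankOneGeom.genericPoint_mem_of_nonempty U hUd.nonempty)

theorem genInvertible_of_trivAt (A : X.Modules) (h : TrivAt A (genericPoint X)) :
    RefHull.GenInvertible A := by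
  obtain ⟨W, e, hη, he⟩ := h
  obtain ⟨φ⟩ := nonempty_restrict_iso_of_isGen he
  refine ⟨W, W.isOpen.dense ⟨_, hη⟩, ?_⟩
  exact Groth.Agent.Lib.Helper23.AmpleIso.isInvertible_of_iso φ.symm
    (Groth.Agent.Lib.Helper23.TensorUnit.isInvertible_structureModule _)

end Gen

section Ref1

variable [IsIntegral X] [IsLocallyNoetherian X]

theorem isReflexive_of_forall_trivAt (A : X.Modules) (hA : Coh.IsCoh A) (h : ∀ x, TrivAt A x) :
    RefHull.IsReflexive A := by
  rw [Groth.Agent.Lib.T2H3.Reflexive.isReflexive_iff_forall_isReflexiveAt A hA]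
  exact fun x => isReflexiveAt_of_trivAt (h x)

theorem isRef1_structureModule : RefHull.IsRef1 (Coh.structureModule X) :=
  ⟨Groth.Agent.Lib.T2H5.GenIsoF.isCoh_structureModule,
    isReflexive_of_forall_trivAt _ Groth.Agent.Lib.T2H5.GenIsoF.isCoh_structureModule
      trivAt_structureModule,
    genInvertible_of_trivAt _ (trivAt_structureModule _)⟩

theorem isReflexive_dual (A : X.Modules) (hA : Coh.IsCoh A) : RefHull.IsReflexive (RefHull.dual A) :=
  Groth.Agent.Lib.T2H3.ReflexiveHom.isReflexive_homSh A (Coh.structureModule X) hA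
    Groth.Agent.Lib.T2H5.GenIsoF.isCoh_structureModule isRef1_structureModule.2.1

theorem isRef1_dual (F : X.Modules) (hF : RefHull.IsRef1 F) : RefHull.IsRef1 (RefHull.dual F) :=
  ⟨Groth.Agent.Lib.T2H3.Reflexive.isCoh_dual F hF.1, isReflexive_dual F hF.1,
    genInvertible_of_trivAt _ (trivAt_dual F hF.1 (trivAt_genericPoint_of_genInvertible F hF.2.2))⟩

theorem isCoh_tensorMod (A B : X.Modules) (hA : Coh.IsCoh A) (hB : Coh.IsCoh B) :
    Coh.IsCoh (CohB1.tensorMod A B) := by
  haveI : A.IsQuasicoherent := hA.1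
  haveI : B.IsQuasicoherent := hB.1
  haveI : SheafOfModules.IsFiniteType (R := X.ringCatSheaf) A := hA.2
  haveI : SheafOfModules.IsFiniteType (R := X.ringCatSheaf) B := hB.2
  exact ⟨Groth.Agent.Lib.Helper23.TensorQCoh.isQuasicoherent_tensorMod A B,
    Groth.Agent.Lib.Helper23.TensorQCoh.isFiniteType_tensorMod A B⟩

theorem isRef1_ddual_of_trivAt (A : X.Modules) (hA : Coh.IsCoh A) (h : TrivAt A (genericPoint X)) :
    RefHull.IsRef1 (RefHull.ddual A) :=
  ⟨Groth.Agent.Lib.T2H3.Reflexive.isCoh_ddual A hA,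
    isReflexive_dual _ (Groth.Agent.Lib.T2H3.Reflexive.isCoh_dual A hA),
    genInvertible_of_trivAt _ (trivAt_ddual A hA h)⟩

theorem isRef1_refTensor (F G : X.Modules) (hF : RefHull.IsRef1 F) (hG : RefHull.IsRef1 G) :
    RefHull.IsRef1 (RefHull.ddual (CohB1.tensorMod F G)) :=
  isRef1_ddual_of_trivAt _ (isCoh_tensorMod F G hF.1 hG.1)
    (trivAt_tensor (trivAt_genericPoint_of_genInvertible F hF.2.2)
      (trivAt_genericPoint_of_genInvertible G hG.2.2))

/-- a rank one reflexive module on a normal scheme is trivial near every point of codimension `≤ 1` -/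
theorem trivAt_of_ref1 (hX : Pi1.IsNormalScheme X) (F : X.Modules) (hF : RefHull.IsRef1 F) (x : X)
    (hx : ringKrullDim (X.presheaf.stalk x) ≤ 1) : TrivAt F x := by
  haveI : F.IsQuasicoherent := hF.1.1
  refine trivAt_of_free F hF.1 x ?_
  haveI := (hX x).2
  haveI : IsPrincipalIdealRing (X.presheaf.stalk x) :=
    Groth.Agent.Lib.Helper28.isPrincipalIdealRing_of_isIntegrallyClosed_of_dim_le_one hx
  haveI hreflx : Module.IsReflexive (X.presheaf.stalk x) (F.presheaf.stalk x) :=
    (Groth.Agent.Lib.T2H3.Reflexive.isReflexive_iff_forall_isReflexiveAt F hF.1).mp hF.2.1 x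
  haveI : Module.Finite (X.presheaf.stalk x) (F.presheaf.stalk x) :=
    Groth.Agent.Lib.T2H3.ReflexiveHom.finite_stalk_of_isCoh F hF.1 x
  obtain ⟨hnt, H1⟩ := Groth.Agent.Lib.T2H3.RankOneGeom.stalk_data F hF.2.2 x
  haveI := hnt
  exact Groth.Agent.Lib.T2H3.RankOneUFD.nonempty_linearEquiv_of_isReflexive
    (R := X.presheaf.stalk x) (F.presheaf.stalk x) H1

end Ref1

end Groth.Agent.Lib.T2H3.Ref1Closure
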