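import Mathlib
import Groth.Agent.Lib.T2H4SecOrdAdd
import Groth.Agent.Lib.T2H4Ref1Iso
import Groth.Agent.Lib.T2H4ReflBigOpen
import Groth.Agent.Lib.Helper23Restr
import Groth.Agent.Lib.Helper23UnitStalk
import Groth.Agent.Lib.Helper23TensorUnit
set_option backward.isDefEq.respectTransparency.types false

/-!
# Invertible modules are rank one reflexive; an invertible module with principal divisor is trivial (helper4)
-/

set_option autoImplicit false
set_option linter.style.haveILetI false
universe u
open CategoryTheory AlgebraicGeometry TopologicalSpace TensorProduct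

namespace Groth.Agent.Lib.T2H4.InvRef1

open Groth.Agent.Lib.T2H4.SecOrdAdd Groth.Agent.Lib.T2H4.Ref1Local Groth.Agent.Lib.T2H4.Ref1Iso
  Groth.Agent.Lib.T2H3.Reflexive Groth.Agent.Lib.Helper23.UnitStalk

variable {X : Scheme.{u}}

theorem isFinLocFree_of_isInvertible (L : X.Modules) (hL : PicF.IsInvertible L) :
    FlatMod.IsFinLocFree L := fun x => by
  obtain ⟨U, hxU, ⟨ε⟩⟩ := hL x
  exact ⟨U, 1, hxU, ⟨ε ≪≫
    (Limits.coproductUniqueIso (fun _ : Fin 1 => Coh.structureModule (↑U : Scheme.{u}))).symm⟩⟩

theorem isRef1_of_isInvertible [IsLocallyNoetherian X] (L : X.Modules) (hL : PicF.IsInvertible L) :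
    RefHull.IsRef1 L := by
  have hlf := isFinLocFree_of_isInvertible L hL
  have hcoh : Coh.IsCoh L := Groth.Agent.Lib.T2H4.HZshLF.isCoh_of_isFinLocFree L hlf
  refine ⟨hcoh, (isReflexive_iff_forall_isReflexiveAt L hcoh).2 fun x =>
    Groth.Agent.Lib.T2H4.ReflBigOpen.isReflexive_stalk_of_isFinLocFree L hlf x, ⊤, ?_,
    Groth.Agent.Lib.Helper23.SecTw.isInvertible_restrict L hL ⊤⟩
  simp

variable [IsIntegral X]

theorem spec_one (x : X) (h : genericPoint X ⤳ x) :
    spec (Coh.structureModule X) x h (one x) = one (genericPoint X) :=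
  TopCat.Presheaf.germ_stalkSpecializes_apply (Coh.structureModule X).presheaf
    (U := (⊤ : X.Opens)) (show x ∈ (⊤ : X.Opens) from trivial) h _

omit [IsIntegral X] in
theorem one_ne_zero' (y : X) : one y ≠ 0 := by
  intro h0
  have h1 : toUnitStalk y 1 = toUnitStalk y 0 := by
    rw [map_zero]
    change (1 : X.presheaf.stalk y) • one y = 0
    rw [one_smul, h0]
  exact one_ne_zero (toUnitStalk_injective y h1)

/-- the unit rational section of the structure sheaf has order zero everywhere -/
theorem secOrdAt_one (x : X) (h : genericPoint X ⤳ x) :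
    Cyc.secOrdAt (Coh.structureModule X) (genericPoint X) x h
      (Submodule.Quotient.mk (one (genericPoint X)) :
        Cyc.secFibre (Coh.structureModule X) (genericPoint X)) = 0 := by
  have ha : Submodule.span (X.presheaf.stalk x) {one x} = ⊤ :=
    span_eq_top_of_bijective_smul _ ⟨toUnitStalk_injective x, toUnitStalk_surjective x⟩
  have hsa : spec (Coh.structureModule X) x h (one x) ≠ 0 := by
    rw [spec_one]
    exact one_ne_zero' _
  have h1 := secOrdAt_eq' (Coh.structureModule X) x h (one x) ha hsa 1
  rw [one_smul, spec_one] at h1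
  rw [h1]
  have h2 := Groth.Agent.S8923.ordAt_unit x (genericPoint X) h 1 isUnit_one
  rw [map_one] at h2
  exact h2

/-- **an invertible module whose divisor is principal is trivial** -/
theorem main [IsLocallyNoetherian X] (hX : Pi1.IsNormalScheme X) (L : X.Modules)
    (hL : PicF.IsInvertible L)
    (s : Cyc.secFibre L (genericPoint X)) (hs : s ≠ 0) (f : X.functionField) (hf : f ≠ 0)
    (h : ∀ x : X, Order.coheight x = 1 →
      Cyc.secOrdAt L (genericPoint X) x (genericPoint_specializes x) s = Scheme.ord f x) :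
    Nonempty (L ≅ Coh.structureModule X) := by
  obtain ⟨s₀, rfl⟩ := Submodule.Quotient.mk_surjective _ s
  have hs₀ : s₀ ≠ 0 := by
    rintro rfl
    exact hs (Submodule.Quotient.mk_zero _)
  refine nonempty_iso_of_ord hX L (Coh.structureModule X) (isRef1_of_isInvertible L hL)
    (isRef1_of_isInvertible _ (Groth.Agent.Lib.Helper23.TensorUnit.isInvertible_structureModule X))
    s₀ hs₀ (one (genericPoint X)) (one_ne_zero' _) f hf (fun x hx => ?_)
  rw [h x hx, secOrdAt_one, zero_add]

end Groth.Agent.Lib.T2H4.InvRef1
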