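import Mathlib
import Groth.Agent.Lib.T2H4SecOrdAdd
import Groth.Agent.Lib.T2H4Ref1Iso
import Groth.Agent.Lib.Helper23TensorQCoh
set_option backward.isDefEq.respectTransparency.types false

/-!
# Additivity of the order of rational sections for the reflexive tensor product (helper4)
-/

set_option autoImplicit false
set_option linter.style.haveILetI false
universe u
open CategoryTheory AlgebraicGeometry TopologicalSpace TensorProduct

namespace Groth.Agent.Lib.T2H4.SecOrdAddRef

open Groth.Agent.Lib.T2H4.SecOrdAdd Groth.Agent.Lib.T2H4.Ref1Local Groth.Agent.Lib.T2H4.StalkTensorMod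
  Groth.Agent.Lib.T2H4.Ref1Iso Groth.Agent.Lib.T2H4.Ref1Alg Groth.Agent.Lib.T2H4.ExtDdual
  Groth.Agent.Lib.T2H4.HomShGlobal Groth.Agent.Lib.T2H4.GenRank Groth.Agent.Lib.T2H3.Reflexive

variable {X : Scheme.{u}} [IsIntegral X] [IsLocallyNoetherian X]

theorem main (hX : Pi1.IsNormalScheme X) (F G : X.Modules) (hF : RefHull.IsRef1 F)
    (hG : RefHull.IsRef1 G)
    (s : Cyc.secFibre F (genericPoint X)) (hs : s ≠ 0) (t : Cyc.secFibre G (genericPoint X)) (ht : t ≠ 0) :
    ∃ w : Cyc.secFibre (RefHull.ddual (CohB1.tensorMod F G)) (genericPoint X), w ≠ 0 ∧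
      ∀ (x : X), Order.coheight x = 1 → ∀ h : genericPoint X ⤳ x,
        Cyc.secOrdAt (RefHull.ddual (CohB1.tensorMod F G)) (genericPoint X) x h w =
          Cyc.secOrdAt F (genericPoint X) x h s + Cyc.secOrdAt G (genericPoint X) x h t := by
  obtain ⟨s₀, rfl⟩ := Submodule.Quotient.mk_surjective _ s
  obtain ⟨t₀, rfl⟩ := Submodule.Quotient.mk_surjective _ t
  have hs₀ : s₀ ≠ 0 := by
    rintro rfl
    exact hs (Submodule.Quotient.mk_zero _)
  have ht₀ : t₀ ≠ 0 := by
    rintro rfl
    exact ht (Submodule.Quotient.mk_zero _)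
  obtain ⟨hFtf, hFrk⟩ := ref1_facts F hF
  obtain ⟨hGtf, hGrk⟩ := ref1_facts G hG
  haveI : F.IsQuasicoherent := hF.1.1
  haveI : G.IsQuasicoherent := hG.1.1
  haveI : SheafOfModules.IsFiniteType (R := X.ringCatSheaf) F := hF.1.2
  haveI : SheafOfModules.IsFiniteType (R := X.ringCatSheaf) G := hG.1.2
  have hT0 : Coh.IsCoh (CohB1.tensorMod F G) :=
    ⟨Groth.Agent.Lib.Helper23.TensorQCoh.isQuasicoherent_tensorMod F G,
      Groth.Agent.Lib.Helper23.TensorQCoh.isFiniteType_tensorMod F G⟩
  have hT : Coh.IsCoh (RefHull.ddual (CohB1.tensorMod F G)) := isCoh_ddual _ hT0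
  haveI : (RefHull.ddual (CohB1.tensorMod F G)).IsQuasicoherent := hT.1
  have hbidη : Function.Bijective
      (RefHull.stalkMapₗ (RefHull.bidualMap (CohB1.tensorMod F G)) (genericPoint X)) :=
    (bijective_stalkMap_bidualMap_iff _ hT0 (genericPoint X)).2 (isReflexiveAt_genericPoint _ hT0)
  have hbs : Function.Bijective (fun c : X.presheaf.stalk (genericPoint X) => c • s₀) :=
    ⟨smul_left_injective (M := F.presheaf.stalk (genericPoint X)) X.functionField hs₀,
      surjective_smul_generic F hF.2.2 s₀ hs₀⟩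
  have hbt : Function.Bijective (fun c : X.presheaf.stalk (genericPoint X) => c • t₀) :=
    ⟨smul_left_injective (M := G.presheaf.stalk (genericPoint X)) X.functionField ht₀,
      surjective_smul_generic G hG.2.2 t₀ ht₀⟩
  have hbst := bijective_smul_tmul s₀ t₀ hbs hbt
  set w₀ := RefHull.stalkMapₗ (RefHull.bidualMap (CohB1.tensorMod F G)) (genericPoint X)
    (τ F G (genericPoint X) (s₀ ⊗ₜ t₀)) with hw₀def
  have hbw : Function.Bijective (fun c : X.presheaf.stalk (genericPoint X) => c • w₀) := by
    have : (fun c : X.presheaf.stalk (genericPoint X) => c • w₀) =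
        (RefHull.stalkMapₗ (RefHull.bidualMap (CohB1.tensorMod F G)) (genericPoint X)) ∘
          (τ F G (genericPoint X)) ∘ (fun c : X.presheaf.stalk (genericPoint X) => c • (s₀ ⊗ₜ t₀)) := by
      funext c
      simp only [Function.comp_apply, map_smul, hw₀def]
    rw [this]
    exact hbidη.comp ((τ F G (genericPoint X)).bijective.comp hbst)
  have hw₀ : w₀ ≠ 0 := ne_zero_of_bijective_smul _ hbw
  have hTrk : Module.finrank X.functionField
      ((RefHull.ddual (CohB1.tensorMod F G)).presheaf.stalk (genericPoint X)) = 1 := by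
    let e : X.functionField ≃ₗ[X.functionField]
        (RefHull.ddual (CohB1.tensorMod F G)).presheaf.stalk (genericPoint X) :=
      LinearEquiv.ofBijective (LinearMap.toSpanSingleton X.functionField _ w₀) hbw
    rw [← e.finrank_eq]
    exact Module.finrank_self _
  refine ⟨Submodule.Quotient.mk w₀, ?_, ?_⟩
  · intro h0
    exact hw₀ (mk_secFibre_injective _ (h0.trans (Submodule.Quotient.mk_zero _).symm))
  · intro x hx h
    haveI := isDVR hX x hx
    obtain ⟨a, ha⟩ := exists_generator_stalk F hX hF.1 hFtf hFrk x hx h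
    obtain ⟨b, hb⟩ := exists_generator_stalk G hX hG.1 hGtf hGrk x hx h
    have hsa := spec_generator_ne_zero F hFrk x h a ha
    have hsb := spec_generator_ne_zero G hGrk x h b hb
    obtain ⟨α, hα⟩ := surjective_smul_generic F hF.2.2 (spec F x h a) hsa s₀
    obtain ⟨β, hβ⟩ := surjective_smul_generic G hG.2.2 (spec G x h b) hsb t₀
    have hα' : α • spec F x h a = s₀ := hα
    have hβ' : β • spec G x h b = t₀ := hβ
    have hα0 : α ≠ 0 := by
      rintro rfl
      exact hs₀ (by rw [← hα', zero_smul])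
    have hβ0 : β ≠ 0 := by
      rintro rfl
      exact ht₀ (by rw [← hβ', zero_smul])
    set c := RefHull.stalkMapₗ (RefHull.bidualMap (CohB1.tensorMod F G)) x (τ F G x (a ⊗ₜ b)) with hcdef
    have hc : Submodule.span (X.presheaf.stalk x) {c} = ⊤ := by
      have h1 := span_tmul_eq_top a b ha hb
      have hsurj : Function.Surjective
          ((RefHull.stalkMapₗ (RefHull.bidualMap (CohB1.tensorMod F G)) x) ∘ₗ (τ F G x).toLinearMap) :=
        (surjective_stalkMap_bidualMap _ hT0 x).comp (τ F G x).surjective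
      have h2 : Submodule.map
          ((RefHull.stalkMapₗ (RefHull.bidualMap (CohB1.tensorMod F G)) x) ∘ₗ (τ F G x).toLinearMap)
          (Submodule.span (X.presheaf.stalk x) {a ⊗ₜ b}) = ⊤ := by
        rw [h1, Submodule.map_top, LinearMap.range_eq_top.2 hsurj]
      rw [Submodule.map_span, Set.image_singleton] at h2
      exact h2
    have hspc : spec (RefHull.ddual (CohB1.tensorMod F G)) x h c =
        RefHull.stalkMapₗ (RefHull.bidualMap (CohB1.tensorMod F G)) (genericPoint X)
          (τ F G (genericPoint X) (spec F x h a ⊗ₜ spec G x h b)) := by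
      change ((RefHull.ddual (CohB1.tensorMod F G)).presheaf.stalkSpecializes h).hom
        (RefHull.stalkMapₗ (RefHull.bidualMap (CohB1.tensorMod F G)) x (τ F G x (a ⊗ₜ b))) = _
      rw [stalkSpecializes_stalkMapₗ]
      congr 1
      exact stalkSpecializes_τ F G h a b
    have hw : w₀ = (α * β) • spec (RefHull.ddual (CohB1.tensorMod F G)) x h c := by
      rw [hspc, ← map_smul, ← map_smul, ← TensorProduct.smul_tmul_smul, hα', hβ']
    rw [hw, secOrdAt_eq hX (L := RefHull.ddual (CohB1.tensorMod F G)) hTrk x hx h c hc (α * β), ← hα', ← hβ',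
      secOrdAt_eq hX (L := F) hFrk x hx h a ha α, secOrdAt_eq hX (L := G) hGrk x hx h b hb β,
      ordAt_mul x h α β hα0 hβ0]

end Groth.Agent.Lib.T2H4.SecOrdAddRef
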