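import Mathlib
import Groth.Agent.Lib.T2H3Ref1Closure
import Groth.Agent.Lib.T2H4SecOrdAddRef
import Groth.Agent.Lib.T2H4InvRef1

/-!
# The order of the dual rational section of the dual of a rank one reflexive module (helper3)

* `evalStalk_spec` : evaluation of germs of the sheaf Hom commutes with specialization.
* `exists_dual_generator` : the dual generator of the stalk of `F^* = 𝓗om(F, O_X)` at a point where the
  stalk of `F` is free of rank one.
* `exists_dual_section` : for `F` rank one reflexive on a normal scheme and `s ≠ 0` a rational section,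
  there is a rational section `s'` of `F^*` with `ord_x(s') = - ord_x(s)` at every point `x` of
  codimension one.
-/

set_option autoImplicit false
set_option linter.style.haveILetI false
set_option linter.unusedSectionVars false
universe u
open CategoryTheory CategoryTheory.Limits AlgebraicGeometry TopologicalSpace Opposite

namespace Groth.Agent.Lib.T2H3.Ref1Dual

open Groth.Agent.Lib.T2H3.Ref1Closure Groth.Agent.Lib.T2H4.Ref1Local Groth.Agent.Lib.T2H4.SecOrdAdd
  Groth.Agent.Lib.T2H4.Ref1Iso Groth.Agent.Lib.T2H4.GenRank Groth.Agent.Lib.T2H4.ExtDdual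
  Groth.Agent.Lib.T2H4.HomShGlobal Groth.Agent.Lib.Helper23.UnitStalk Groth.Agent.Lib.T2H4.InvRef1

variable {X : Scheme.{u}}

/-- evaluation of germs of the sheaf Hom commutes with specialization -/
theorem evalStalk_spec (F G : X.Modules) {x y : X} (h : y ⤳ x) (θ : (RefHull.homSh F G).presheaf.stalk x)
    (v : F.presheaf.stalk x) :
    RefHull.evalStalk F G y (((RefHull.homSh F G).presheaf.stalkSpecializes h).hom θ)
        ((F.presheaf.stalkSpecializes h).hom v) =
      (G.presheaf.stalkSpecializes h).hom (RefHull.evalStalk F G x θ v) := by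
  obtain ⟨W, hxW, g, rfl⟩ := TopCat.Presheaf.exists_germ_eq (RefHull.homSh F G).presheaf θ
  rw [stalkSpecializes_germ, RefHull.evalStalk_germ, RefHull.evalStalk_germ]
  exact (stalkSpecializes_sec g h hxW v).symm

section Dual

variable [IsLocallyNoetherian X]

/-- the dual generator -/
theorem exists_dual_generator (F : X.Modules) (hF : Coh.IsCoh F) (x : X) (a : F.presheaf.stalk x)
    (ha : Function.Bijective (fun c : X.presheaf.stalk x => c • a)) :
    ∃ b : (RefHull.dual F).presheaf.stalk x,
      RefHull.evalStalk F (Coh.structureModule X) x b a = one x ∧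
        Submodule.span (X.presheaf.stalk x) {b} = ⊤ := by
  have hbij := Groth.Agent.Lib.T2H3.HomShStalk.evalStalk_bijective F (Coh.structureModule X)
    (Groth.Agent.Lib.T2H3.HomShQCoh.isFP_of_isCoh F hF) x
  let E : X.presheaf.stalk x ≃ₗ[X.presheaf.stalk x] F.presheaf.stalk x :=
    LinearEquiv.ofBijective (LinearMap.toSpanSingleton (X.presheaf.stalk x) _ a) ha
  have hE1 : E 1 = a := by
    change (1 : X.presheaf.stalk x) • a = a
    rw [one_smul]
  let φ : F.presheaf.stalk x →ₗ[X.presheaf.stalk x] (Coh.structureModule X).presheaf.stalk x :=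
    (toUnitStalk x).comp E.symm.toLinearMap
  have hφa : φ a = one x := by
    change toUnitStalk x (E.symm a) = one x
    rw [← hE1, E.symm_apply_apply]
    change (1 : X.presheaf.stalk x) • one x = one x
    rw [one_smul]
  obtain ⟨b, hb⟩ := hbij.2 φ
  refine ⟨b, by rw [hb, hφa], ?_⟩
  rw [eq_top_iff]
  rintro θ -
  obtain ⟨r, hr⟩ := toUnitStalk_surjective x (RefHull.evalStalk F (Coh.structureModule X) x θ a)
  have hθ : θ = r • b := by
    apply hbij.1
    rw [map_smul, hb]
    apply LinearMap.ext
    intro v
    obtain ⟨c, rfl⟩ := ha.2 v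
    change RefHull.evalStalk F (Coh.structureModule X) x θ (c • a) = r • φ (c • a)
    rw [map_smul, map_smul, hφa, ← hr]
    change c • (r • one x) = r • (c • one x)
    rw [smul_comm]
  rw [hθ]
  exact Submodule.smul_mem _ _ (Submodule.mem_span_singleton_self _)

end Dual

section Main

variable [IsIntegral X] [IsLocallyNoetherian X]

theorem ordAt_inv (x : X) (h : genericPoint X ⤳ x) (α : X.functionField) (hα : α ≠ 0) :
    Cyc.ordAt x (genericPoint X) h (X.residue (genericPoint X) α⁻¹) =
      - Cyc.ordAt x (genericPoint X) h (X.residue (genericPoint X) α) := by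
  have h1 := ordAt_mul x h α α⁻¹ hα (inv_ne_zero hα)
  rw [mul_inv_cancel₀ hα] at h1
  have h2 := Groth.Agent.S8923.ordAt_unit x (genericPoint X) h 1 isUnit_one
  rw [map_one] at h2
  have h3 : Cyc.ordAt x (genericPoint X) h (X.residue (genericPoint X) (1 : X.functionField)) = 0 := h2
  rw [h3] at h1
  omega

/-- **the dual rational section** -/
theorem exists_dual_section (hX : Pi1.IsNormalScheme X) (F : X.Modules) (hF : RefHull.IsRef1 F)
    (s₀ : F.presheaf.stalk (genericPoint X)) (hs₀ : s₀ ≠ 0) :
    ∃ s' : (RefHull.dual F).presheaf.stalk (genericPoint X), s' ≠ 0 ∧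
      ∀ (x : X), Order.coheight x = 1 → ∀ h : genericPoint X ⤳ x,
        Cyc.secOrdAt (RefHull.dual F) (genericPoint X) x h
            (Submodule.Quotient.mk s' : Cyc.secFibre (RefHull.dual F) (genericPoint X)) =
          - Cyc.secOrdAt F (genericPoint X) x h
            (Submodule.Quotient.mk s₀ : Cyc.secFibre F (genericPoint X)) := by
  obtain ⟨hFtf, hFrk⟩ := ref1_facts F hF
  haveI : F.IsQuasicoherent := hF.1.1
  have hbs : Function.Bijective (fun c : X.presheaf.stalk (genericPoint X) => c • s₀) :=
    ⟨smul_left_injective (M := F.presheaf.stalk (genericPoint X)) X.functionField hs₀,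
      surjective_smul_generic F hF.2.2 s₀ hs₀⟩
  obtain ⟨s', hs's, -⟩ := exists_dual_generator F hF.1 (genericPoint X) s₀ hbs
  have hbijη := Groth.Agent.Lib.T2H3.HomShStalk.evalStalk_bijective F (Coh.structureModule X)
    (Groth.Agent.Lib.T2H3.HomShQCoh.isFP_of_isCoh F hF.1) (genericPoint X)
  have hs'0 : s' ≠ 0 := by
    rintro rfl
    rw [map_zero, LinearMap.zero_apply] at hs's
    exact one_ne_zero' _ hs's.symm
  refine ⟨s', hs'0, fun x hx h => ?_⟩
  have hdim : ringKrullDim (X.presheaf.stalk x) ≤ 1 := (ringKrullDim_eq_one x hx).le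
  obtain ⟨W, e, hxW, he⟩ := trivAt_of_ref1 hX F hF x hdim
  have ha := bijective_smul_germ he x hxW
  set a := F.presheaf.germ W x hxW e with hadef
  have ha0 : a ≠ 0 := ne_zero_of_bijective_smul a ha
  have hsa : spec F x h a ≠ 0 := by
    intro h0
    exact ha0 (stalkSpecializes_injective F hFtf x h (h0.trans (map_zero _).symm))
  obtain ⟨α, hα⟩ := surjective_smul_generic F hF.2.2 (spec F x h a) hsa s₀
  have hα' : α • spec F x h a = s₀ := hα
  have hα0 : α ≠ 0 := by
    rintro rfl
    rw [zero_smul] at hα'
    exact hs₀ hα'.symm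
  obtain ⟨b, hba, hbspan⟩ := exists_dual_generator F hF.1 x a ha
  -- the key identity `s' = α⁻¹ • spec b`
  have hkey : s' = α⁻¹ • spec (RefHull.dual F) x h b := by
    apply hbijη.1
    apply LinearMap.ext
    intro v
    obtain ⟨c, rfl⟩ := surjective_smul_generic F hF.2.2 (spec F x h a) hsa v
    change RefHull.evalStalk F (Coh.structureModule X) (genericPoint X) s' (c • spec F x h a) =
      RefHull.evalStalk F (Coh.structureModule X) (genericPoint X)
        (α⁻¹ • spec (RefHull.dual F) x h b) (c • spec F x h a)
    have h1 : RefHull.evalStalk F (Coh.structureModule X) (genericPoint X) s' (spec F x h a) =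
        α⁻¹ • one (genericPoint X) := by
      have h2 : α • RefHull.evalStalk F (Coh.structureModule X) (genericPoint X) s' (spec F x h a) =
          one (genericPoint X) := by
        rw [← map_smul, hα', hs's]
      rw [← h2, smul_smul, inv_mul_cancel₀ hα0, one_smul]
    have h3 : RefHull.evalStalk F (Coh.structureModule X) (genericPoint X)
        (spec (RefHull.dual F) x h b) (spec F x h a) = one (genericPoint X) := by
      have := evalStalk_spec F (Coh.structureModule X) h b a
      rw [hba] at this
      exact this.trans (spec_one x h)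
    have h4 : RefHull.evalStalk F (Coh.structureModule X) (genericPoint X)
        (α⁻¹ • spec (RefHull.dual F) x h b) =
        α⁻¹ • RefHull.evalStalk F (Coh.structureModule X) (genericPoint X)
          (spec (RefHull.dual F) x h b) := map_smul _ _ _
    rw [map_smul, h1, map_smul, h4, LinearMap.smul_apply, h3]
  have hsb : spec (RefHull.dual F) x h b ≠ 0 := by
    intro h0
    rw [h0, smul_zero] at hkey
    exact hs'0 hkey
  have hord1 := secOrdAt_eq' F x h a (span_eq_top_of_bijective_smul a ha) hsa α
  have hord2 := secOrdAt_eq' (RefHull.dual F) x h b hbspan hsb α⁻¹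
  rw [hα'] at hord1
  rw [← hkey] at hord2
  rw [hord1, hord2]
  exact ordAt_inv x h α hα0

end Main

end Groth.Agent.Lib.T2H3.Ref1Dual
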