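import Mathlib
import Groth.Agent.Lib.T2H3Ref1Dual
import Groth.Prelude.Def_Ref1Cl

/-!
# The group law on rank one reflexive modules, via Weil divisors of rational sections (helper3)

On an integral locally Noetherian normal scheme, for rank one coherent reflexive modules `F, G, H`
(`refTensor F G = (F ⊗ G)^**`):
`refTensor_comm`, `refTensor_assoc`, `refTensor_unit`, `refTensor_dual`.
All proved through helper4's criterion (isomorphic iff the divisors of rational sections agree) and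
additivity of orders.
-/

set_option autoImplicit false
set_option linter.style.haveILetI false
set_option linter.unusedSectionVars false
universe u
open CategoryTheory CategoryTheory.Limits AlgebraicGeometry TopologicalSpace Opposite

namespace Groth.Agent.Lib.T2H3.Ref1Group

open Groth.Agent.Lib.T2H3.Ref1Closure Groth.Agent.Lib.T2H3.Ref1Dual Groth.Agent.Lib.T2H4.Ref1Local
  Groth.Agent.Lib.T2H4.Ref1Iso Groth.Agent.Lib.Helper23.UnitStalk Groth.Agent.Lib.T2H4.InvRef1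

variable {X : Scheme.{u}} [IsIntegral X] [IsLocallyNoetherian X]

theorem exists_ne_zero (F : X.Modules) (hF : RefHull.IsRef1 F) :
    ∃ s₀ : F.presheaf.stalk (genericPoint X), s₀ ≠ 0 := by
  obtain ⟨-, hrk⟩ := ref1_facts F hF
  obtain ⟨v, hv, -⟩ := finrank_eq_one_iff'.1 hrk
  exact ⟨v, hv⟩

theorem mk_ne_zero (F : X.Modules) (s₀ : F.presheaf.stalk (genericPoint X)) (hs₀ : s₀ ≠ 0) :
    (Submodule.Quotient.mk s₀ : Cyc.secFibre F (genericPoint X)) ≠ 0 := by
  intro h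
  apply hs₀
  apply mk_secFibre_injective F
  rw [h]
  rfl

theorem ord_one (x : X) : Scheme.ord (1 : X.functionField) x = 0 := by
  have h := Scheme.ord_mul (x := x) (one_ne_zero : (1 : X.functionField) ≠ 0)
    (one_ne_zero : (1 : X.functionField) ≠ 0)
  rw [one_mul] at h
  omega

/-- two rank one reflexive modules with rational sections of the same divisor are isomorphic -/
theorem nonempty_iso_of_ord_eq (hX : Pi1.IsNormalScheme X) (A B : X.Modules) (hA : RefHull.IsRef1 A)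
    (hB : RefHull.IsRef1 B) (wA : Cyc.secFibre A (genericPoint X)) (hwA : wA ≠ 0)
    (wB : Cyc.secFibre B (genericPoint X)) (hwB : wB ≠ 0)
    (h : ∀ (x : X), Order.coheight x = 1 → ∀ h' : genericPoint X ⤳ x,
      Cyc.secOrdAt A (genericPoint X) x h' wA = Cyc.secOrdAt B (genericPoint X) x h' wB) :
    Nonempty (A ≅ B) := by
  obtain ⟨a₀, rfl⟩ := Submodule.Quotient.mk_surjective _ wA
  obtain ⟨b₀, rfl⟩ := Submodule.Quotient.mk_surjective _ wB
  have ha₀ : a₀ ≠ 0 := by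
    rintro rfl
    exact hwA (Submodule.Quotient.mk_zero _)
  have hb₀ : b₀ ≠ 0 := by
    rintro rfl
    exact hwB (Submodule.Quotient.mk_zero _)
  refine nonempty_iso_of_ord hX A B hA hB a₀ ha₀ b₀ hb₀ 1 one_ne_zero fun x hx => ?_
  rw [h x hx, ord_one, add_zero]

section Laws

variable (hX : Pi1.IsNormalScheme X)
include hX

theorem refTensor_comm (F G : X.Modules) (hF : RefHull.IsRef1 F) (hG : RefHull.IsRef1 G) :
    Nonempty (RefHull.ddual (CohB1.tensorMod F G) ≅ RefHull.ddual (CohB1.tensorMod G F)) := by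
  obtain ⟨s₀, hs₀⟩ := exists_ne_zero F hF
  obtain ⟨t₀, ht₀⟩ := exists_ne_zero G hG
  obtain ⟨w, hw, hwo⟩ := Groth.Agent.Lib.T2H4.SecOrdAddRef.main hX F G hF hG _ (mk_ne_zero F s₀ hs₀)
    _ (mk_ne_zero G t₀ ht₀)
  obtain ⟨w', hw', hwo'⟩ := Groth.Agent.Lib.T2H4.SecOrdAddRef.main hX G F hG hF _
    (mk_ne_zero G t₀ ht₀) _ (mk_ne_zero F s₀ hs₀)
  refine nonempty_iso_of_ord_eq hX _ _ (isRef1_refTensor F G hF hG) (isRef1_refTensor G F hG hF)
    w hw w' hw' fun x hx h' => ?_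
  rw [hwo x hx h', hwo' x hx h', add_comm]

theorem refTensor_assoc (F G H : X.Modules) (hF : RefHull.IsRef1 F) (hG : RefHull.IsRef1 G)
    (hH : RefHull.IsRef1 H) :
    Nonempty (RefHull.ddual (CohB1.tensorMod (RefHull.ddual (CohB1.tensorMod F G)) H) ≅
      RefHull.ddual (CohB1.tensorMod F (RefHull.ddual (CohB1.tensorMod G H)))) := by
  obtain ⟨s₀, hs₀⟩ := exists_ne_zero F hF
  obtain ⟨t₀, ht₀⟩ := exists_ne_zero G hG
  obtain ⟨u₀, hu₀⟩ := exists_ne_zero H hH
  have hFG := isRef1_refTensor F G hF hG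
  have hGH := isRef1_refTensor G H hG hH
  obtain ⟨w₁, hw₁, ho₁⟩ := Groth.Agent.Lib.T2H4.SecOrdAddRef.main hX F G hF hG _
    (mk_ne_zero F s₀ hs₀) _ (mk_ne_zero G t₀ ht₀)
  obtain ⟨w₂, hw₂, ho₂⟩ := Groth.Agent.Lib.T2H4.SecOrdAddRef.main hX _ H hFG hH w₁ hw₁ _
    (mk_ne_zero H u₀ hu₀)
  obtain ⟨v₁, hv₁, hp₁⟩ := Groth.Agent.Lib.T2H4.SecOrdAddRef.main hX G H hG hH _
    (mk_ne_zero G t₀ ht₀) _ (mk_ne_zero H u₀ hu₀)
  obtain ⟨v₂, hv₂, hp₂⟩ := Groth.Agent.Lib.T2H4.SecOrdAddRef.main hX F _ hF hGH _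
    (mk_ne_zero F s₀ hs₀) v₁ hv₁
  refine nonempty_iso_of_ord_eq hX _ _ (isRef1_refTensor _ H hFG hH) (isRef1_refTensor F _ hF hGH)
    w₂ hw₂ v₂ hv₂ fun x hx h' => ?_
  rw [ho₂ x hx h', ho₁ x hx h', hp₂ x hx h', hp₁ x hx h', add_assoc]

theorem refTensor_unit (F : X.Modules) (hF : RefHull.IsRef1 F) :
    Nonempty (RefHull.ddual (CohB1.tensorMod (Coh.structureModule X) F) ≅ F) := by
  obtain ⟨s₀, hs₀⟩ := exists_ne_zero F hF
  have hO : RefHull.IsRef1 (Coh.structureModule X) := isRef1_structureModule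
  obtain ⟨w, hw, hwo⟩ := Groth.Agent.Lib.T2H4.SecOrdAddRef.main hX _ F hO hF _
    (mk_ne_zero (Coh.structureModule X) (one (genericPoint X)) (one_ne_zero' _)) _
    (mk_ne_zero F s₀ hs₀)
  refine nonempty_iso_of_ord_eq hX _ _ (isRef1_refTensor _ F hO hF) hF
    w hw _ (mk_ne_zero F s₀ hs₀) fun x hx h' => ?_
  rw [hwo x hx h', secOrdAt_one x h', zero_add]

theorem refTensor_dual (F : X.Modules) (hF : RefHull.IsRef1 F) :
    Nonempty (RefHull.ddual (CohB1.tensorMod (RefHull.dual F) F) ≅ Coh.structureModule X) := by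
  obtain ⟨s₀, hs₀⟩ := exists_ne_zero F hF
  have hO : RefHull.IsRef1 (Coh.structureModule X) := isRef1_structureModule
  have hD := isRef1_dual F hF
  obtain ⟨s', hs', hso⟩ := exists_dual_section hX F hF s₀ hs₀
  obtain ⟨w, hw, hwo⟩ := Groth.Agent.Lib.T2H4.SecOrdAddRef.main hX _ F hD hF _
    (mk_ne_zero _ s' hs') _ (mk_ne_zero F s₀ hs₀)
  refine nonempty_iso_of_ord_eq hX _ _ (isRef1_refTensor _ F hD hF) hO
    w hw _ (mk_ne_zero (Coh.structureModule X) (one (genericPoint X)) (one_ne_zero' _))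
    fun x hx h' => ?_
  rw [hwo x hx h', hso x hx h', secOrdAt_one x h', neg_add_cancel]

end Laws

end Groth.Agent.Lib.T2H3.Ref1Group
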