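import Mathlib
import Groth.Agent.Lib.T2H4SecOrdAdd
import Groth.Agent.Lib.T2H4Ref1Iso
import Groth.Agent.Lib.Helper20AbsCurve
import Groth.Agent.Lib.Helper23FinType2
import Groth.Agent.Lib.Helper2FlatOver
set_option backward.isDefEq.respectTransparency.types false

/-!
# The Weil divisor of a rational section of a rank one reflexive module is locally finite (helper4)
-/

set_option autoImplicit false
set_option linter.style.haveILetI false
universe u
open CategoryTheory AlgebraicGeometry TopologicalSpace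

namespace Groth.Agent.Lib.T2H4.WeilDivFin

open Groth.Agent.Lib.T2H4.SecOrdAdd Groth.Agent.Lib.T2H4.Ref1Local Groth.Agent.Lib.T2H4.Ref1Iso
  Groth.Agent.Lib.T2H4.GenRank Groth.Agent.Lib.Helper20.AbsCurve Groth.Agent.Lib.Helper2
  Groth.Agent.Lib.Helper2.FlatOver

variable {X : Scheme.{u}} [IsIntegral X]

/-- a rational function which is a quotient of two sections invertible at `x` has order zero at `x` -/
theorem ordAt_eq_zero_of_isUnit {U : X.Opens} (x : X) (hxU : x ∈ U) (h : genericPoint X ⤳ x)
    (p q : Γ(X, U)) (hp : IsUnit (X.presheaf.germ U x hxU p)) (hq : IsUnit (X.presheaf.germ U x hxU q))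
    (c : X.functionField)
    (hc : c * X.presheaf.germ U (genericPoint X) (h.mem_open U.isOpen hxU) q =
      X.presheaf.germ U (genericPoint X) (h.mem_open U.isOpen hxU) p) :
    Cyc.ordAt x (genericPoint X) h (X.residue (genericPoint X) c) = 0 := by
  have hsp : ∀ z : Γ(X, U), X.presheaf.germ U (genericPoint X) (h.mem_open U.isOpen hxU) z =
      X.presheaf.stalkSpecializes h (X.presheaf.germ U x hxU z) := fun z =>
    (TopCat.Presheaf.germ_stalkSpecializes_apply X.presheaf hxU h z).symm
  rw [hsp, hsp] at hc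
  have hinj : Function.Injective (algebraMap (X.presheaf.stalk x) X.functionField) :=
    IsFractionRing.injective _ _
  have hq0 : (X.presheaf.stalkSpecializes h (X.presheaf.germ U x hxU q) : X.functionField) ≠ 0 := by
    intro h0
    exact hq.ne_zero (hinj (h0.trans (map_zero _).symm))
  have hp0 : (X.presheaf.stalkSpecializes h (X.presheaf.germ U x hxU p) : X.functionField) ≠ 0 := by
    intro h0
    exact hp.ne_zero (hinj (h0.trans (map_zero _).symm))
  have hc0 : c ≠ 0 := by
    rintro rfl
    rw [zero_mul] at hc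
    exact hp0 hc.symm
  have h1 := ordAt_mul x h c _ hc0 hq0
  rw [hc, Groth.Agent.S8923.ordAt_unit x (genericPoint X) h _ hp,
    Groth.Agent.S8923.ordAt_unit x (genericPoint X) h _ hq, add_zero] at h1
  exact h1.symm

variable [IsLocallyNoetherian X]

set_option maxHeartbeats 800000 in
theorem finite_support (hX : Pi1.IsNormalScheme X) (F : X.Modules) (hF : RefHull.IsRef1 F)
    (s₀ : F.presheaf.stalk (genericPoint X)) (hs₀ : s₀ ≠ 0) {U : X.Opens} (hU : IsAffineOpen U)
    [Nonempty U] :
    {x : X | x ∈ U ∧ Order.coheight x = 1 ∧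
      Cyc.secOrdAt F (genericPoint X) x (genericPoint_specializes x)
        (Submodule.Quotient.mk s₀ : Cyc.secFibre F (genericPoint X)) ≠ 0}.Finite := by
  classical
  obtain ⟨hFtf, hFrk⟩ := ref1_facts F hF
  haveI : F.IsQuasicoherent := hF.1.1
  haveI : SheafOfModules.IsFiniteType (R := X.ringCatSheaf) F := hF.1.2
  haveI : IsNoetherianRing Γ(X, U) := IsLocallyNoetherian.component_noetherian ⟨U, hU⟩
  haveI := functionField_isFractionRing_of_isAffineOpen X U hU
  haveI : Module.Finite Γ(X, U) Γ(F, U) :=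
    Groth.Agent.Lib.Helper23.FinType.finite_of_isFiniteType F hU
  obtain ⟨S, hS⟩ := (Module.Finite.fg_top : (⊤ : Submodule Γ(X, U) Γ(F, U)).FG)
  have hηU : genericPoint X ∈ U := by
    obtain ⟨⟨y, hy⟩⟩ := (inferInstance : Nonempty U)
    exact (genericPoint_specializes y).mem_open U.isOpen hy
  -- coefficients of the generators
  have hc : ∀ m : Γ(F, U), ∃ (p q : Γ(X, U)) (c : X.functionField), q ∈ nonZeroDivisors Γ(X, U) ∧
      c • s₀ = F.presheaf.germ U (genericPoint X) hηU m ∧
      c * X.presheaf.germ U (genericPoint X) hηU q = X.presheaf.germ U (genericPoint X) hηU p := by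
    intro m
    obtain ⟨c, hc⟩ := surjective_smul_generic F hF.2.2 s₀ hs₀ (F.presheaf.germ U (genericPoint X) hηU m)
    obtain ⟨p, q, hq, hpq⟩ := IsFractionRing.div_surjective (A := Γ(X, U)) (c : X.functionField)
    have hq0 : algebraMap Γ(X, U) X.functionField q ≠ 0 :=
      IsFractionRing.to_map_ne_zero_of_mem_nonZeroDivisors hq
    refine ⟨p, q, c, hq, hc, ?_⟩
    change c * algebraMap Γ(X, U) X.functionField q = algebraMap Γ(X, U) X.functionField p
    rw [← hpq, div_mul_cancel₀ _ hq0]
  choose P Q C hQ hC hPQ using hc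
  -- the finite set of bad points
  let bad : Γ(X, U) → Set X := fun a => {y : X | ∃ hy : y ∈ U, ringKrullDim (X.presheaf.stalk y) = 1 ∧
      ¬ IsUnit (X.presheaf.germ U y hy a)}
  have hbad : ∀ a : Γ(X, U), a ∈ nonZeroDivisors Γ(X, U) → (bad a).Finite := fun a ha =>
    finite_setOf_not_isUnit_germ hU a ha
  let T : Set X := ⋃ m ∈ S, (if C m = 0 then ∅ else bad (P m) ∪ bad (Q m))
  have hT : T.Finite := by
    refine Set.Finite.biUnion S.finite_toSet (fun m _ => ?_)
    split_ifs with h0
    · exact Set.finite_empty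
    · refine (hbad _ ?_).union (hbad _ (hQ m))
      rw [mem_nonZeroDivisors_iff_ne_zero]
      rintro hp0
      have h1 := hPQ m
      rw [hp0, map_zero] at h1
      have hq0 : (X.presheaf.germ U (genericPoint X) hηU (Q m) : X.functionField) ≠ 0 :=
        IsFractionRing.to_map_ne_zero_of_mem_nonZeroDivisors (hQ m)
      exact h0 ((mul_eq_zero.1 h1).resolve_right hq0)
  refine hT.subset ?_
  rintro x ⟨hxU, hx, hord⟩
  by_contra hxT
  apply hord
  set h := genericPoint_specializes x with hdef
  haveI := isDVR hX x hx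
  obtain ⟨a, ha⟩ := exists_generator_stalk F hX hF.1 hFtf hFrk x hx h
  have hsa := spec_generator_ne_zero F hFrk x h a ha
  obtain ⟨α, hα⟩ := surjective_smul_generic F hF.2.2 (spec F x h a) hsa s₀
  have hα' : α • spec F x h a = s₀ := hα
  have hα0 : α ≠ 0 := by
    rintro rfl
    exact hs₀ (by rw [← hα', zero_smul])
  rw [← hα', secOrdAt_eq hX (L := F) hFrk x hx h a ha α]
  -- some generator has unit coefficient
  letI := moduleStalkSections F U x hxU
  haveI := isLocalizedModule_germ hU F x hxU
  let J : Submodule Γ(X, U) Γ(F, U) :=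
    { carrier := {m | ∃ r : X.presheaf.stalk x, r ∈ IsLocalRing.maximalIdeal (X.presheaf.stalk x) ∧
        F.presheaf.germ U x hxU m = r • a}
      add_mem' := by
        rintro m m' ⟨r, hr, hm⟩ ⟨r', hr', hm'⟩
        exact ⟨r + r', Ideal.add_mem _ hr hr', by rw [map_add, hm, hm', add_smul]⟩
      zero_mem' := ⟨0, Ideal.zero_mem _, by rw [map_zero, zero_smul]⟩
      smul_mem' := by
        rintro b m ⟨r, hr, hm⟩
        refine ⟨X.presheaf.germ U x hxU b * r, Ideal.mul_mem_left _ _ hr, ?_⟩
        rw [QCoh.germ_smul, hm, mul_smul] }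
  have hJ : ¬ (∀ m ∈ S, m ∈ J) := by
    intro hall
    have htop : (⊤ : Submodule Γ(X, U) Γ(F, U)) ≤ J := by
      rw [← hS]
      exact Submodule.span_le.2 hall
    obtain ⟨⟨m, t⟩, hmt⟩ := IsLocalizedModule.surj (hU.primeIdealOf ⟨x, hxU⟩).asIdeal.primeCompl
      (germₗ F U x hxU) a
    have hmt' : X.presheaf.germ U x hxU (t : Γ(X, U)) • a = F.presheaf.germ U x hxU m := hmt
    obtain ⟨r, hr, hm⟩ := htop (Submodule.mem_top : m ∈ ⊤)
    have htu : IsUnit (X.presheaf.germ U x hxU (t : Γ(X, U))) := by
      rw [← Scheme.mem_basicOpen X _ x hxU,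
        Groth.Agent.Lib.Helper2.mem_basicOpen_iff_notMem_primeIdealOf hU x hxU]
      exact t.2
    have h1 : spec F x h ((X.presheaf.germ U x hxU (t : Γ(X, U)) - r) • a) = 0 := by
      rw [sub_smul, hmt', hm, sub_self]
      exact map_zero _
    rw [spec_smul] at h1
    rcases smul_eq_zero.1 h1 with h2 | h2
    · have h3 : X.presheaf.germ U x hxU (t : Γ(X, U)) - r = 0 :=
        (IsFractionRing.injective (X.presheaf.stalk x) X.functionField) (h2.trans (map_zero _).symm)
      have h4 : X.presheaf.germ U x hxU (t : Γ(X, U)) = r := sub_eq_zero.1 h3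
      rw [h4] at htu
      exact (IsLocalRing.mem_maximalIdeal _).1 hr htu
    · exact hsa h2
  push Not at hJ
  obtain ⟨m, hmS, hmJ⟩ := hJ
  -- coefficient of `m`
  have hmem : F.presheaf.germ U x hxU m ∈ Submodule.span (X.presheaf.stalk x) {a} := by rw [ha]; trivial
  obtain ⟨r, hr⟩ := Submodule.mem_span_singleton.1 hmem
  have hru : IsUnit r := by
    by_contra hnu
    exact hmJ ⟨r, (IsLocalRing.mem_maximalIdeal _).2 hnu, hr.symm⟩
  have hspm : spec F x h (F.presheaf.germ U x hxU m) = F.presheaf.germ U (genericPoint X) hηU m :=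
    TopCat.Presheaf.germ_stalkSpecializes_apply F.presheaf hxU h m
  have h5 : (C m * α) • spec F x h a =
      algebraMap (X.presheaf.stalk x) X.functionField r • spec F x h a := by
    rw [mul_smul, hα', hC m, ← hspm, ← hr, spec_smul]
  have h6 : C m * α = algebraMap (X.presheaf.stalk x) X.functionField r :=
    smul_left_injective _ hsa h5
  have hr0 : algebraMap (X.presheaf.stalk x) X.functionField r ≠ 0 := by
    intro h0
    exact hru.ne_zero ((IsFractionRing.injective (X.presheaf.stalk x) X.functionField)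
      (h0.trans (map_zero _).symm))
  have hCm : C m ≠ 0 := by
    intro h0
    rw [h0, zero_mul] at h6
    exact hr0 h6.symm
  have h7 := ordAt_mul x h (C m) α hCm hα0
  rw [h6] at h7
  have h8 : Cyc.ordAt x (genericPoint X) h
      (X.residue (genericPoint X) (algebraMap (X.presheaf.stalk x) X.functionField r)) = 0 :=
    Groth.Agent.S8923.ordAt_unit x (genericPoint X) h r hru
  -- `C m` has order zero since `x ∉ T`
  have hdim := ringKrullDim_eq_one x hx
  have hPu : IsUnit (X.presheaf.germ U x hxU (P m)) := by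
    by_contra hnu
    apply hxT
    simp only [T, Set.mem_iUnion]
    refine ⟨m, hmS, ?_⟩
    rw [if_neg hCm]
    exact Or.inl ⟨hxU, hdim, hnu⟩
  have hQu : IsUnit (X.presheaf.germ U x hxU (Q m)) := by
    by_contra hnu
    apply hxT
    simp only [T, Set.mem_iUnion]
    refine ⟨m, hmS, ?_⟩
    rw [if_neg hCm]
    exact Or.inr ⟨hxU, hdim, hnu⟩
  have h9 := ordAt_eq_zero_of_isUnit x hxU h (P m) (Q m) hPu hQu (C m) (hPQ m)
  rw [h8, h9, zero_add] at h7
  exact h7.symm

/-- **the Weil divisor of a rational section** -/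
theorem exists_cycle (hX : Pi1.IsNormalScheme X) (F : X.Modules) (hF : RefHull.IsRef1 F)
    (s : Cyc.secFibre F (genericPoint X)) (hs : s ≠ 0) :
    ∃ D : AlgebraicCycle X ℤ, (∀ x : X, Order.coheight x ≠ 1 → D x = 0) ∧
      ∀ (x : X), Order.coheight x = 1 →
        D x = Cyc.secOrdAt F (genericPoint X) x (genericPoint_specializes x) s := by
  classical
  obtain ⟨s₀, rfl⟩ := Submodule.Quotient.mk_surjective _ s
  have hs₀ : s₀ ≠ 0 := by
    rintro rfl
    exact hs (Submodule.Quotient.mk_zero _)
  let f : X → ℤ := fun x => if Order.coheight x = 1 then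
    Cyc.secOrdAt F (genericPoint X) x (genericPoint_specializes x)
      (Submodule.Quotient.mk s₀ : Cyc.secFibre F (genericPoint X)) else 0
  refine ⟨⟨f, fun _ _ => trivial, ?_⟩, ?_, ?_⟩
  · intro z _
    obtain ⟨U, hU, hzU, -⟩ := exists_isAffineOpen_mem_and_subset (x := z) (U := ⊤) trivial
    haveI : Nonempty U := ⟨⟨z, hzU⟩⟩
    refine ⟨U, U.isOpen.mem_nhds hzU, (finite_support hX F hF s₀ hs₀ hU).subset ?_⟩
    rintro x ⟨hxU, hx⟩
    rw [Function.mem_support] at hx
    by_cases hc : Order.coheight x = 1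
    · refine ⟨hxU, hc, ?_⟩
      simpa [f, hc] using hx
    · exact absurd (by simp [f, hc]) hx
  · intro x hx
    change f x = 0
    simp [f, hx]
  · intro x hx
    change f x = _
    simp [f, hx]

end Groth.Agent.Lib.T2H4.WeilDivFin
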