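import Mathlib
import Groth.Prelude.Def_RefHull
import Groth.Prelude.Def_ClSub2
set_option backward.isDefEq.respectTransparency.types false

/-!
# The ideal sheaf `O(-E)` of an effective Weil divisor (helper4)

For `E : X → ℕ` with locally finite support, the ideal sheaf whose sections over an affine open `U` are the functions `f`
with `f_x ∈ m_x ^ (E x)` for all `x ∈ U`.
-/

set_option autoImplicit false
set_option linter.style.haveILetI false
universe u
open CategoryTheory CategoryTheory.Limits AlgebraicGeometry TopologicalSpace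

namespace Groth.Agent.Lib.T2H4.DivIdeal

variable {X : Scheme.{u}}

/-- the family of ideals `{f | ∀ x ∈ U, f_x ∈ m_x ^ E x}` -/
noncomputable def idealFam (E : X → ℕ) (U : X.affineOpens) : Ideal Γ(X, U) :=
  ⨅ x : U.1, Ideal.comap (X.presheaf.germ U.1 x.1 x.2).hom
    (IsLocalRing.maximalIdeal (X.presheaf.stalk x.1) ^ E x.1)

theorem mem_idealFam (E : X → ℕ) (U : X.affineOpens) (f : Γ(X, U)) :
    f ∈ idealFam E U ↔ ∀ (x : X) (hx : x ∈ U.1),
      X.presheaf.germ U.1 x hx f ∈ IsLocalRing.maximalIdeal (X.presheaf.stalk x) ^ E x := by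
  unfold idealFam
  rw [Ideal.mem_iInf]
  constructor
  · intro h x hx
    exact h ⟨x, hx⟩
  · intro h x
    exact h x.1 x.2

theorem exists_bound (E : X → ℕ) (hE : LocallyFiniteSupport E) (U : X.affineOpens) :
    ∃ N : ℕ, ∀ x ∈ U.1, E x ≤ N := by
  have hfin : ((U.1 : Set X) ∩ Function.support E).Finite :=
    hE.finite_inter_support_of_isCompact U.2.isCompact
  refine ⟨hfin.toFinset.sup E, fun x hx => ?_⟩
  by_cases h0 : E x = 0
  · rw [h0]
    exact Nat.zero_le _
  · exact Finset.le_sup (f := E) (hfin.mem_toFinset.2 ⟨hx, h0⟩)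

theorem map_idealFam (E : X → ℕ) (hE : LocallyFiniteSupport E) (U : X.affineOpens) (f : Γ(X, U)) :
    (idealFam E U).map (X.presheaf.map (homOfLE (X.basicOpen_le f)).op).hom =
      idealFam E (X.affineBasicOpen f) := by
  apply le_antisymm
  · rw [Ideal.map_le_iff_le_comap]
    intro a ha
    rw [Ideal.mem_comap]
    refine (mem_idealFam E (X.affineBasicOpen f) _).2 ?_
    intro x hx
    rw [mem_idealFam] at ha
    have := ha x (X.basicOpen_le f hx)
    rwa [← TopCat.Presheaf.germ_res_apply X.presheaf (homOfLE (X.basicOpen_le f)) x hx a] at this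
  · intro b hb
    haveI := U.2.isLocalization_basicOpen f
    obtain ⟨⟨a, ⟨_, n, rfl⟩⟩, hab⟩ := IsLocalization.surj (Submonoid.powers f) b
    obtain ⟨N, hN⟩ := exists_bound E hE U
    have hab' : b * (X.presheaf.map (homOfLE (X.basicOpen_le f)).op).hom (f ^ n) =
        (X.presheaf.map (homOfLE (X.basicOpen_le f)).op).hom a := hab
    have hmem : f ^ N * a ∈ idealFam E U := by
      rw [mem_idealFam]
      intro x hx
      rw [map_mul, map_pow]
      by_cases hxf : x ∈ X.basicOpen f
      · apply Ideal.mul_mem_left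
        rw [← TopCat.Presheaf.germ_res_apply X.presheaf (homOfLE (X.basicOpen_le f)) x hxf a]
        change X.presheaf.germ (X.basicOpen f) x hxf ((X.presheaf.map (homOfLE (X.basicOpen_le f)).op).hom a) ∈ _
        rw [← hab', map_mul]
        apply Ideal.mul_mem_right
        exact (mem_idealFam E (X.affineBasicOpen f) b).1 hb x hxf
      · apply Ideal.mul_mem_right
        have h1 : X.presheaf.germ U.1 x hx f ∈ IsLocalRing.maximalIdeal (X.presheaf.stalk x) := by
          rw [IsLocalRing.mem_maximalIdeal, mem_nonunits_iff]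
          intro hu
          exact hxf ((X.mem_basicOpen f x hx).2 hu)
        exact Ideal.pow_le_pow_right (hN x hx) (Ideal.pow_mem_pow h1 N)
    have hu : IsUnit ((X.presheaf.map (homOfLE (X.basicOpen_le f)).op).hom f) :=
      IsLocalization.map_units (M := Submonoid.powers f) Γ(X, X.basicOpen f) ⟨f, 1, pow_one f⟩
    obtain ⟨v, hv⟩ := hu
    have hw : (↑v : Γ(X, X.basicOpen f)) * (↑v⁻¹ : Γ(X, X.basicOpen f)) = 1 := Units.mul_inv v
    have hb' : b = (X.presheaf.map (homOfLE (X.basicOpen_le f)).op).hom (f ^ N * a) *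
        (↑v⁻¹ : Γ(X, X.basicOpen f)) ^ (N + n) := by
      rw [map_mul, ← hab', map_pow, map_pow, ← hv]
      have : (↑v : Γ(X, X.basicOpen f)) ^ N * (b * ↑v ^ n) * (↑v⁻¹ : Γ(X, X.basicOpen f)) ^ (N + n) =
          b * ((↑v : Γ(X, X.basicOpen f)) * (↑v⁻¹ : Γ(X, X.basicOpen f))) ^ (N + n) := by
        rw [mul_pow, pow_add]
        ring
      rw [this, hw, one_pow, mul_one]
    rw [hb']
    exact Ideal.mul_mem_right _ _ (Ideal.mem_map_of_mem _ hmem)

/-- the ideal sheaf `O(-E)` -/
noncomputable def divIdeal (E : X → ℕ) (hE : LocallyFiniteSupport E) : X.IdealSheafData where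
  ideal := idealFam E
  map_ideal_basicOpen := map_idealFam E hE

theorem mem_divIdeal (E : X → ℕ) (hE : LocallyFiniteSupport E) (U : X.affineOpens) (f : Γ(X, U)) :
    f ∈ (divIdeal E hE).ideal U ↔ ∀ (x : X) (hx : x ∈ U.1),
      X.presheaf.germ U.1 x hx f ∈ IsLocalRing.maximalIdeal (X.presheaf.stalk x) ^ E x :=
  mem_idealFam E U f

end Groth.Agent.Lib.T2H4.DivIdeal
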