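import Mathlib
import Groth.Agent.Lib.T2H4DivIdeal
import Groth.Agent.Lib.Helper23IdealSec
import Groth.Agent.Lib.Helper23UnitStalk
import Groth.Agent.Lib.Helper23QCohAbelian
import Groth.Agent.Lib.Helper23Serre
import Groth.Agent.Lib.T2H5GenIsoD
import Groth.Agent.Lib.T2H5GenIsoF
import Groth.Agent.Lib.T2H5Devissage
import Groth.Agent.Lib.T2H4HomShGlobal
import Groth.Agent.Lib.T2H4Ref1Local
import Groth.Agent.Lib.T2H4SecOrdAdd
set_option backward.isDefEq.respectTransparency.types false

/-!
# The ideal module `O(-E)` of an effective Weil divisor: stalks, rank and the order of the section `1` (helper4)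
-/

set_option autoImplicit false
set_option linter.style.haveILetI false
universe u
open CategoryTheory CategoryTheory.Limits AlgebraicGeometry TopologicalSpace

namespace Groth.Agent.Lib.T2H4.DivIdealMod

open Groth.Agent.Lib.T2H4.DivIdeal Groth.Agent.Lib.Helper23.UnitStalk Groth.Agent.Lib.Helper23.GenLocus
  Groth.Agent.Lib.Helper23.IdealSec Groth.Agent.Lib.Helper20.IdealModSec Groth.Agent.Lib.Helper20.StalkExact
  Groth.Agent.Lib.T2H4.HomShGlobal Groth.Agent.Lib.T2H4.Ref1Local Groth.Agent.Lib.T2H4.Ref1Alg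
  Groth.Agent.Lib.T2H4.SecOrdAdd

variable {X : Scheme.{u}}

section General

variable (J : X.IdealSheafData)

theorem isQuasicoherent_idealMod : (ClSub.idealMod J).IsQuasicoherent := by
  haveI : (Coh.structureModule X).IsQuasicoherent :=
    Groth.Agent.Lib.Helper23.Serre.isQuasicoherent_structureModule' X
  haveI : (ClSub.quotMod J).IsQuasicoherent :=
    (Groth.Agent.Lib.T2H5.GenIsoD.isCoh_pushforward J.subschemeι _
      Groth.Agent.Lib.T2H5.GenIsoF.isCoh_structureModule).1
  exact Groth.Agent.Lib.Helper23.QCohLocal.isQuasicoherent_kernel (ClSub.toSubscheme J)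

theorem isCoh_idealMod [IsLocallyNoetherian X] : Coh.IsCoh (ClSub.idealMod J) :=
  Groth.Agent.Lib.T2H5.Devissage.isCoh_of_mono (ClSub.idealModι J)
    Groth.Agent.Lib.T2H5.GenIsoF.isCoh_structureModule (isQuasicoherent_idealMod J)

theorem stalkMapₗ_injective {F G : X.Modules} (φ : F ⟶ G) [Mono φ] (x : X) :
    Function.Injective (RefHull.stalkMapₗ φ x) := by
  rw [injective_iff_map_eq_zero]
  intro y hy
  obtain ⟨V, hxV, t, rfl⟩ := F.presheaf.exists_germ_eq y
  rw [RefHull.stalkMapₗ_germ] at hy
  have h0 : G.presheaf.germ V x hxV (Scheme.Modules.Hom.app φ V t) = G.presheaf.germ V x hxV 0 := by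
    rw [hy, map_zero]
  obtain ⟨W, hxW, i₁, i₂, hW⟩ := G.presheaf.germ_eq x hxV hxV _ 0 h0
  rw [map_zero, ← Groth.Agent.Lib.Helper23.Extend.app_map] at hW
  have h1 : F.presheaf.map i₁.op t = 0 := injective_app_of_mono φ W (hW.trans (map_zero _).symm)
  rw [← TopCat.Presheaf.germ_res_apply F.presheaf i₁ x hxW t, h1, map_zero]

/-- the inclusion of the stalk of the ideal module into the local ring -/
noncomputable def ρ (x : X) :
    (ClSub.idealMod J).presheaf.stalk x →ₗ[X.presheaf.stalk x] X.presheaf.stalk x :=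
  (unitStalkEquiv x).symm.toLinearMap ∘ₗ RefHull.stalkMapₗ (ClSub.idealModι J) x

theorem ρ_injective (x : X) : Function.Injective (ρ J x) :=
  (unitStalkEquiv x).symm.injective.comp (stalkMapₗ_injective (ClSub.idealModι J) x)

theorem ρ_germ (x : X) (W : X.Opens) (hx : x ∈ W) (j : Γ(ClSub.idealMod J, W)) :
    ρ J x ((ClSub.idealMod J).presheaf.germ W x hx j) =
      X.presheaf.germ W x hx (ofS W ((ClSub.idealModι J).app W j)) := by
  change (unitStalkEquiv x).symm (RefHull.stalkMapₗ (ClSub.idealModι J) x _) = _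
  rw [LinearEquiv.symm_apply_eq, RefHull.stalkMapₗ_germ]
  change _ = toUnitStalk x _
  rw [toUnitStalk_germ, toS_ofS]

theorem ρ_spec {x y : X} (h : y ⤳ x) (a : (ClSub.idealMod J).presheaf.stalk x) :
    ρ J y (((ClSub.idealMod J).presheaf.stalkSpecializes h).hom a) =
      (X.presheaf.stalkSpecializes h).hom (ρ J x a) := by
  obtain ⟨W, hxW, j, rfl⟩ := (ClSub.idealMod J).presheaf.exists_germ_eq a
  rw [stalkSpecializes_germ, ρ_germ, ρ_germ]
  exact (TopCat.Presheaf.germ_stalkSpecializes_apply X.presheaf hxW h _).symm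

theorem isTorsionFree_idealMod [IsIntegral X] : TorSh.IsTorsionFree (ClSub.idealMod J) := fun x =>
  Function.Injective.moduleIsTorsionFree (ρ J x) (ρ_injective J x) (fun r m => map_smul _ r m)

end General

section Div

variable (E : X → ℕ) (hE : LocallyFiniteSupport E)

/-- the stalk of `O(-E)` at `x` lies in `m_x ^ E x` -/
theorem ρ_mem (x : X) (a : (ClSub.idealMod (divIdeal E hE)).presheaf.stalk x) :
    ρ (divIdeal E hE) x a ∈ IsLocalRing.maximalIdeal (X.presheaf.stalk x) ^ E x := by
  obtain ⟨W', hxW', j, rfl⟩ := (ClSub.idealMod (divIdeal E hE)).presheaf.exists_germ_eq a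
  obtain ⟨_, ⟨W, hW, rfl⟩, hxW, hle⟩ :=
    X.isBasis_affineOpens.exists_subset_of_mem_open hxW' W'.isOpen
  have hle' : W ≤ W' := hle
  rw [← TopCat.Presheaf.germ_res_apply (ClSub.idealMod (divIdeal E hE)).presheaf (homOfLE hle') x hxW j,
    ρ_germ]
  exact (mem_divIdeal E hE ⟨W, hW⟩ _).1 (ι_mem_ideal (divIdeal E hE) ⟨W, hW⟩ _) x hxW

/-- at a point `x` to which no other point of the support of `E` specializes, the stalk of `O(-E)` is `m_x ^ E x` -/
theorem exists_ρ_eq (x : X) (hx : ∀ y, E y ≠ 0 → y ⤳ x → y = x) (q : X.presheaf.stalk x)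
    (hq : q ∈ IsLocalRing.maximalIdeal (X.presheaf.stalk x) ^ E x) :
    ∃ a : (ClSub.idealMod (divIdeal E hE)).presheaf.stalk x, ρ (divIdeal E hE) x a = q := by
  obtain ⟨t, ht, hfin⟩ := hE x
  set S : Set X := (t ∩ Function.support E) \ {x} with hS
  have hSfin : S.Finite := hfin.subset Set.sdiff_subset
  set C : Set X := ⋃ y ∈ S, closure {y} with hC
  have hCclosed : IsClosed C := hSfin.isClosed_biUnion fun y _ => isClosed_closure
  have hxC : x ∉ C := by
    intro hxC
    rw [hC, Set.mem_iUnion₂] at hxC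
    obtain ⟨y, hyS, hxy⟩ := hxC
    have hyx : y ⤳ x := specializes_iff_mem_closure.2 hxy
    exact hyS.2 (hx y hyS.1.2 hyx)
  obtain ⟨W₀, hxW₀, f₀, rfl⟩ := X.presheaf.exists_germ_eq (x := x) q
  have hopen : IsOpen (interior t ∩ Cᶜ ∩ (W₀ : Set X)) :=
    (isOpen_interior.inter hCclosed.isOpen_compl).inter W₀.isOpen
  have hxmem : x ∈ interior t ∩ Cᶜ ∩ (W₀ : Set X) := ⟨⟨mem_interior_iff_mem_nhds.2 ht, hxC⟩, hxW₀⟩
  obtain ⟨_, ⟨W, hW, rfl⟩, hxW, hle⟩ := X.isBasis_affineOpens.exists_subset_of_mem_open hxmem hopen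
  have hle' : W ≤ W₀ := fun z hz => (hle hz).2
  set f : Γ(X, W) := X.presheaf.map (homOfLE hle').op f₀ with hf
  have hfmem : f ∈ (divIdeal E hE).ideal ⟨W, hW⟩ := by
    rw [mem_divIdeal]
    intro y hyW
    by_cases hyx : y = x
    · subst hyx
      rw [hf, TopCat.Presheaf.germ_res_apply]
      exact hq
    · have hEy : E y = 0 := by
        by_contra hne
        have hyS : y ∈ S := ⟨⟨interior_subset (hle hyW).1.1, hne⟩, hyx⟩
        exact (hle hyW).1.2 (Set.mem_iUnion₂.2 ⟨y, hyS, subset_closure rfl⟩)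
      rw [hEy, pow_zero, Ideal.one_eq_top]
      trivial
  obtain ⟨j, hj⟩ := exists_ι_eq (divIdeal E hE) ⟨W, hW⟩ f hfmem
  refine ⟨(ClSub.idealMod (divIdeal E hE)).presheaf.germ W x hxW j, ?_⟩
  rw [ρ_germ, hj, ofS_toS, hf, TopCat.Presheaf.germ_res_apply]

end Div

section Main

variable [IsIntegral X] [IsLocallyNoetherian X] (E : X → ℕ) (hE : LocallyFiniteSupport E)

omit [IsIntegral X] [IsLocallyNoetherian X] in
theorem eq_of_coheight_eq_one {x y : X} (hx : Order.coheight x = 1) (hy : Order.coheight y = 1)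
    (h : y ⤳ x) : y = x := by
  have hle : x ≤ y := Scheme.le_iff_specializes.2 h
  by_cases hyx : y ≤ x
  · exact ((Scheme.le_iff_specializes.1 hyx).antisymm h).symm.eq
  · have hlt : x < y := lt_of_le_not_ge hle hyx
    have := Order.coheight_add_one_le hlt
    rw [hx, hy] at this
    exact absurd this (by decide)

omit [IsLocallyNoetherian X] in
theorem exists_unit_generic (hE0 : ∀ x, Order.coheight x ≠ 1 → E x = 0) :
    ∃ u : (ClSub.idealMod (divIdeal E hE)).presheaf.stalk (genericPoint X),
      ρ (divIdeal E hE) (genericPoint X) u = 1 := by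
  apply exists_ρ_eq E hE (genericPoint X)
  · intro y _ hy
    exact (hy.antisymm (genericPoint_specializes y)).eq
  · have h0 : E (genericPoint X) = 0 := by
      apply hE0
      have : Order.coheight (genericPoint X) = 0 := by
        rw [Order.coheight_eq_zero]
        intro b hb
        exact Scheme.le_iff_specializes.2 (genericPoint_specializes b)
      rw [this]
      exact zero_ne_one
    rw [h0, pow_zero, Ideal.one_eq_top]
    trivial

omit [IsLocallyNoetherian X] in
theorem finrank_generic (hE0 : ∀ x, Order.coheight x ≠ 1 → E x = 0) :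
    Module.finrank X.functionField
      ((ClSub.idealMod (divIdeal E hE)).presheaf.stalk (genericPoint X)) = 1 := by
  obtain ⟨u, hu⟩ := exists_unit_generic E hE hE0
  have hsurj : Function.Surjective (ρ (divIdeal E hE) (genericPoint X)) := by
    intro c
    refine ⟨c • u, ?_⟩
    rw [map_smul, hu, smul_eq_mul, mul_one]
  let e : (ClSub.idealMod (divIdeal E hE)).presheaf.stalk (genericPoint X) ≃ₗ[X.functionField]
      X.functionField :=
    LinearEquiv.ofBijective (ρ (divIdeal E hE) (genericPoint X)) ⟨ρ_injective _ _, hsurj⟩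
  rw [e.finrank_eq]
  exact Module.finrank_self _

/-- **the rational section `1` of `O(-E)` has order `-E x` at the points of codimension one** -/
theorem exists_section (hX : Pi1.IsNormalScheme X) (hE0 : ∀ x, Order.coheight x ≠ 1 → E x = 0) :
    ∃ s : Cyc.secFibre (ClSub.idealMod (divIdeal E hE)) (genericPoint X), s ≠ 0 ∧
      ∀ (x : X), Order.coheight x = 1 → ∀ h : genericPoint X ⤳ x,
        Cyc.secOrdAt (ClSub.idealMod (divIdeal E hE)) (genericPoint X) x h s = -(E x : ℤ) := by
  obtain ⟨u, hu⟩ := exists_unit_generic E hE hE0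
  have hu0 : u ≠ 0 := by
    rintro rfl
    rw [map_zero] at hu
    exact zero_ne_one hu
  refine ⟨Submodule.Quotient.mk u, ?_, ?_⟩
  · intro h0
    exact hu0 (mk_secFibre_injective _ (h0.trans (Submodule.Quotient.mk_zero _).symm))
  · intro x hx h
    haveI := isDVR hX x hx
    obtain ⟨π, hπ⟩ := IsDiscreteValuationRing.exists_irreducible (X.presheaf.stalk x)
    have hmax : IsLocalRing.maximalIdeal (X.presheaf.stalk x) ^ E x = Ideal.span {π ^ E x} := by
      rw [hπ.maximalIdeal_eq, Ideal.span_singleton_pow]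
    have hiso : ∀ y, E y ≠ 0 → y ⤳ x → y = x := by
      intro y hy hyx
      have hy1 : Order.coheight y = 1 := by
        by_contra hne
        exact hy (hE0 y hne)
      exact eq_of_coheight_eq_one hx hy1 hyx
    obtain ⟨a₀, ha₀⟩ := exists_ρ_eq E hE x hiso (π ^ E x)
      (by rw [hmax]; exact Ideal.mem_span_singleton_self _)
    have hspan : Submodule.span (X.presheaf.stalk x) {a₀} = ⊤ := by
      rw [eq_top_iff]
      intro a' _
      have h1 := ρ_mem E hE x a'
      rw [hmax, Ideal.mem_span_singleton'] at h1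
      obtain ⟨r, hr⟩ := h1
      have h2 : a' = r • a₀ := by
        apply ρ_injective (divIdeal E hE) x
        rw [map_smul, ha₀, smul_eq_mul, hr]
      rw [h2]
      exact Submodule.smul_mem _ _ (Submodule.mem_span_singleton_self _)
    have hπK : algebraMap (X.presheaf.stalk x) X.functionField (π ^ E x) ≠ 0 :=
      IsOrd.map_ne_zero (pow_ne_zero _ hπ.ne_zero)
    have hρs : ρ (divIdeal E hE) (genericPoint X) (spec (ClSub.idealMod (divIdeal E hE)) x h a₀) =
        algebraMap (X.presheaf.stalk x) X.functionField (π ^ E x) := by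
      change ρ (divIdeal E hE) (genericPoint X)
        (((ClSub.idealMod (divIdeal E hE)).presheaf.stalkSpecializes h).hom a₀) = _
      rw [ρ_spec, ha₀]
      rfl
    have hsa : spec (ClSub.idealMod (divIdeal E hE)) x h a₀ ≠ 0 := by
      intro h0
      rw [h0, map_zero] at hρs
      exact hπK hρs.symm
    set α : X.functionField := (algebraMap (X.presheaf.stalk x) X.functionField (π ^ E x))⁻¹ with hα
    have huα : u = α • spec (ClSub.idealMod (divIdeal E hE)) x h a₀ := by
      apply ρ_injective (divIdeal E hE) (genericPoint X)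
      rw [map_smul, hρs, hu, smul_eq_mul, hα, inv_mul_cancel₀ hπK]
    rw [huα, secOrdAt_eq' (ClSub.idealMod (divIdeal E hE)) x h a₀ hspan hsa α]
    have hord := isOrd_cycOrd hX x hx h
    have hα0 : α ≠ 0 := inv_ne_zero hπK
    have h1 := hord.mul α (algebraMap (X.presheaf.stalk x) X.functionField (π ^ E x)) hα0 hπK
    rw [hα, inv_mul_cancel₀ hπK, hord.pow hπ (E x)] at h1
    have h2 := hord.unit 1 isUnit_one
    rw [map_one] at h2
    rw [h2] at h1
    rw [← hα] at h1
    linarith

end Main

end Groth.Agent.Lib.T2H4.DivIdealMod
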