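import Mathlib
import Groth.Prelude.Def_RefHull
import Groth.Agent.Lib.Helper2RankLoc
import Groth.Agent.Lib.Helper2LocFree
import Groth.Agent.Lib.Helper23AmpleIso
import Groth.Agent.Lib.Helper23TensorUnit
import Groth.Agent.Lib.T2H3HomShQCoh
set_option backward.isDefEq.respectTransparency.types false

/-!
# A coherent module of generic rank one is generically invertible (helper4)
-/

set_option autoImplicit false
set_option linter.style.haveILetI false
universe u
open CategoryTheory CategoryTheory.Limits AlgebraicGeometry TopologicalSpace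

namespace Groth.Agent.Lib.T2H4.GenInv

open Groth.Agent.Lib.Helper2.RankLoc Groth.Agent.Lib.Helper2.LocFree

variable {X : Scheme.{u}} [IsIntegral X] [IsLocallyNoetherian X]

theorem genInvertible_of_finrank_eq_one (F : X.Modules) (hF : Coh.IsCoh F)
    (hrk : Module.finrank X.functionField (F.presheaf.stalk (genericPoint X)) = 1) :
    RefHull.GenInvertible F := by
  haveI : F.IsQuasicoherent := hF.1
  haveI : SheafOfModules.IsFinitePresentation (R := X.ringCatSheaf) F :=
    Groth.Agent.Lib.T2H3.HomShQCoh.isFP_of_isCoh F hF
  haveI : Module.Free (X.presheaf.stalk (genericPoint X)) (F.presheaf.stalk (genericPoint X)) :=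
    Module.Free.of_divisionRing (K := X.functionField) _
  have hflat : FlatMod.IsFlatAt F (genericPoint X) :=
    (inferInstance : Module.Flat (X.presheaf.stalk (genericPoint X))
      (F.presheaf.stalk (genericPoint X)))
  obtain ⟨D, m, hηD, ⟨e⟩⟩ := exists_restrict_iso_freeMod_of_isFlatAt F (genericPoint X) hflat
  have h1 := (fibreRank_eq_of_restrict_iso_freeMod D.ι F e ⟨genericPoint X, hηD⟩).2
  have h2 : fibreRank F (genericPoint X) = 1 :=
    (Module.finrank_baseChange
      (R := IsLocalRing.ResidueField (X.presheaf.stalk (genericPoint X)))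
      (S := X.presheaf.stalk (genericPoint X))
      (M' := F.presheaf.stalk (genericPoint X))).trans hrk
  have hm : m = 1 := h1.symm.trans h2
  subst hm
  refine ⟨D, ?_, ?_⟩
  · exact D.isOpen.dense ⟨genericPoint X, hηD⟩
  · have e' : F.restrict D.ι ≅ Coh.structureModule (↑D : Scheme.{u}) :=
      e ≪≫ Limits.coproductUniqueIso (fun _ : Fin 1 => Coh.structureModule (↑D : Scheme.{u}))
    exact Groth.Agent.Lib.Helper23.AmpleIso.isInvertible_of_iso e'.symm
      (Groth.Agent.Lib.Helper23.TensorUnit.isInvertible_structureModule _)

end Groth.Agent.Lib.T2H4.GenInv
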