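import Mathlib
import Groth.Agent.Lib.T2H4GenInv
import Groth.Agent.Lib.T2H4InvRef1
import Groth.Agent.Lib.T2H3ReflexiveHom
import Groth.Agent.Lib.T2H3HomShStalk
import Groth.Agent.Lib.T2H3HomShQCoh
import Groth.Agent.Lib.T2H4HomShGlobal
import Groth.Agent.Lib.T2H4SecOrdAdd
import Groth.Agent.Lib.T2H4Ref1Local
set_option backward.isDefEq.respectTransparency.types false

/-!
# The dual of a rank one module: closure and the order of the dual rational section (helper4)
-/

set_option autoImplicit false
set_option linter.style.haveILetI false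
universe u
open CategoryTheory CategoryTheory.Limits AlgebraicGeometry TopologicalSpace

namespace Groth.Agent.Lib.T2H4.DualOrd

open Groth.Agent.Lib.Helper23.UnitStalk Groth.Agent.Lib.T2H4.HomShGlobal Groth.Agent.Lib.T2H4.Ref1Local
  Groth.Agent.Lib.T2H4.Ref1Alg Groth.Agent.Lib.T2H4.SecOrdAdd Groth.Agent.Lib.T2H3.Reflexive
  Groth.Agent.Lib.T2H3.ReflexiveHom Groth.Agent.Lib.T2H3.HomShStalk Groth.Agent.Lib.T2H3.HomShQCoh
  Groth.Agent.Lib.T2H4.InvRef1

variable {X : Scheme.{u}}

/-- `evalStalk` commutes with specialization -/
theorem evalStalk_spec (F G : X.Modules) {x y : X} (h : y ⤳ x)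
    (c : (RefHull.homSh F G).presheaf.stalk x) (a : F.presheaf.stalk x) :
    RefHull.evalStalk F G y (((RefHull.homSh F G).presheaf.stalkSpecializes h).hom c)
        ((F.presheaf.stalkSpecializes h).hom a) =
      (G.presheaf.stalkSpecializes h).hom (RefHull.evalStalk F G x c a) := by
  obtain ⟨W, hxW, θ, rfl⟩ := (RefHull.homSh F G).presheaf.exists_germ_eq c
  rw [stalkSpecializes_germ, RefHull.evalStalk_germ, RefHull.evalStalk_germ]
  exact (stalkSpecializes_sec θ h hxW a).symm

variable [IsIntegral X] [IsLocallyNoetherian X]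

/-- the generic stalk of the dual of a module of generic rank one has rank one -/
theorem finrank_dual (F : X.Modules) (hF : Coh.IsCoh F)
    (hrk : Module.finrank X.functionField (F.presheaf.stalk (genericPoint X)) = 1) :
    Module.finrank X.functionField ((RefHull.dual F).presheaf.stalk (genericPoint X)) = 1 := by
  have hbij := evalStalk_bijective F (Coh.structureModule X) (isFP_of_isCoh F hF) (genericPoint X)
  let e : (RefHull.dual F).presheaf.stalk (genericPoint X) ≃ₗ[X.functionField]
      (F.presheaf.stalk (genericPoint X) →ₗ[X.functionField]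
        (Coh.structureModule X).presheaf.stalk (genericPoint X)) :=
    LinearEquiv.ofBijective (RefHull.evalStalk F (Coh.structureModule X) (genericPoint X)) hbij
  haveI : Module.Finite X.functionField (F.presheaf.stalk (genericPoint X)) :=
    Module.finite_of_finrank_pos (by rw [hrk]; exact one_pos)
  rw [e.finrank_eq, Module.finrank_linearMap, hrk, one_mul,
    ← (unitStalkEquiv (genericPoint X)).finrank_eq]
  exact Module.finrank_self _

/-- the dual of a coherent module of generic rank one is a rank one reflexive module -/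
theorem isRef1_dual (F : X.Modules) (hF : Coh.IsCoh F)
    (hrk : Module.finrank X.functionField (F.presheaf.stalk (genericPoint X)) = 1) :
    RefHull.IsRef1 (RefHull.dual F) := by
  have hO : RefHull.IsRef1 (Coh.structureModule X) :=
    isRef1_of_isInvertible _ (Groth.Agent.Lib.Helper23.TensorUnit.isInvertible_structureModule X)
  exact ⟨isCoh_dual F hF, isReflexive_homSh F _ hF hO.1 hO.2.1,
    Groth.Agent.Lib.T2H4.GenInv.genInvertible_of_finrank_eq_one _ (isCoh_dual F hF) (finrank_dual F hF hrk)⟩

/-- a linear map out of a module on which `c ↦ c • a` is bijective, with prescribed value at `a` -/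
theorem exists_linearMap_of_bijective_smul {R M N : Type*} [CommRing R] [AddCommGroup M] [Module R M]
    [AddCommGroup N] [Module R N] (a : M) (ha : Function.Bijective (fun c : R => c • a)) (n : N) :
    ∃ θ : M →ₗ[R] N, θ a = n := by
  let e : R ≃ₗ[R] M := LinearEquiv.ofBijective (LinearMap.toSpanSingleton R M a) ha
  refine ⟨(LinearMap.toSpanSingleton R N n) ∘ₗ e.symm.toLinearMap, ?_⟩
  have h1 : e 1 = a := by
    change (1 : R) • a = a
    exact one_smul _ _
  have h2 : e.symm a = 1 := by rw [← h1, LinearEquiv.symm_apply_apply]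
  change LinearMap.toSpanSingleton R N n (e.symm a) = n
  rw [h2, LinearMap.toSpanSingleton_apply, one_smul]

/-- two linear maps agreeing at a generator are equal -/
theorem linearMap_ext_of_span {R M N : Type*} [CommRing R] [AddCommGroup M] [Module R M]
    [AddCommGroup N] [Module R N] (a : M) (ha : Submodule.span R {a} = ⊤) (θ θ' : M →ₗ[R] N)
    (h : θ a = θ' a) : θ = θ' := by
  apply LinearMap.ext
  intro m
  have hm : m ∈ Submodule.span R {a} := by rw [ha]; trivial
  obtain ⟨t, rfl⟩ := Submodule.mem_span_singleton.1 hm
  rw [map_smul, map_smul, h]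

/-- **the dual rational section has the opposite order** -/
theorem dualOrd (hX : Pi1.IsNormalScheme X) (F : X.Modules) (hF : Coh.IsCoh F)
    (htf : TorSh.IsTorsionFree F)
    (hrk : Module.finrank X.functionField (F.presheaf.stalk (genericPoint X)) = 1)
    (s : Cyc.secFibre F (genericPoint X)) (hs : s ≠ 0) :
    ∃ s' : Cyc.secFibre (RefHull.dual F) (genericPoint X), s' ≠ 0 ∧
      ∀ (x : X), Order.coheight x = 1 → ∀ h : genericPoint X ⤳ x,
        Cyc.secOrdAt (RefHull.dual F) (genericPoint X) x h s' =
          - Cyc.secOrdAt F (genericPoint X) x h s := by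
  obtain ⟨v, rfl⟩ := Submodule.Quotient.mk_surjective _ s
  have hv : v ≠ 0 := by
    rintro rfl
    exact hs (Submodule.Quotient.mk_zero _)
  haveI : F.IsQuasicoherent := hF.1
  have hFP := isFP_of_isCoh F hF
  have hbijη := evalStalk_bijective F (Coh.structureModule X) hFP (genericPoint X)
  have hvsurj : Function.Surjective (fun c : X.functionField => c • v) :=
    (finrank_eq_one_iff_of_nonzero' v hv).1 hrk
  have hvbij : Function.Bijective (fun c : X.presheaf.stalk (genericPoint X) => c • v) :=
    ⟨smul_left_injective (M := F.presheaf.stalk (genericPoint X)) X.functionField hv, hvsurj⟩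
  have hvspan : Submodule.span (X.presheaf.stalk (genericPoint X)) {v} = ⊤ :=
    span_eq_top_of_bijective_smul v hvbij
  obtain ⟨θ, hθ⟩ := exists_linearMap_of_bijective_smul
    (N := (Coh.structureModule X).presheaf.stalk (genericPoint X)) v hvbij (one (genericPoint X))
  obtain ⟨s'₀, hs'₀⟩ := hbijη.2 θ
  have hs'₀ne : s'₀ ≠ 0 := by
    rintro rfl
    rw [map_zero] at hs'₀
    rw [← hs'₀] at hθ
    exact one_ne_zero' (genericPoint X) hθ.symm
  refine ⟨Submodule.Quotient.mk s'₀, ?_, ?_⟩
  · intro h0
    exact hs'₀ne (mk_secFibre_injective _ (h0.trans (Submodule.Quotient.mk_zero _).symm))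
  · intro x hx h
    haveI := isDVR hX x hx
    obtain ⟨a, ha⟩ := exists_generator_stalk F hX hF htf hrk x hx h
    have hsa := spec_generator_ne_zero F hrk x h a ha
    obtain ⟨α, hα⟩ := (finrank_eq_one_iff_of_nonzero' (spec F x h a) hsa).1 hrk v
    have hα' : α • spec F x h a = v := hα
    have hα0 : α ≠ 0 := by
      rintro rfl
      exact hv (by rw [← hα', zero_smul])
    have ha0 : a ≠ 0 := by
      rintro rfl
      exact hsa (map_zero _)
    haveI := htf x
    have habij : Function.Bijective (fun c : X.presheaf.stalk x => c • a) := by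
      refine ⟨smul_left_injective (M := F.presheaf.stalk x) (X.presheaf.stalk x) ha0, fun m => ?_⟩
      have hm : m ∈ Submodule.span (X.presheaf.stalk x) {a} := by rw [ha]; trivial
      exact Submodule.mem_span_singleton.1 hm
    obtain ⟨θ₀, hθ₀⟩ := exists_linearMap_of_bijective_smul
      (N := (Coh.structureModule X).presheaf.stalk x) a habij (one x)
    have hbijx := evalStalk_bijective F (Coh.structureModule X) hFP x
    obtain ⟨c, hc⟩ := hbijx.2 θ₀
    have hcspan : Submodule.span (X.presheaf.stalk x) {c} = ⊤ := by
      rw [eq_top_iff]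
      intro c' _
      obtain ⟨r, hr⟩ := toUnitStalk_surjective x (RefHull.evalStalk F (Coh.structureModule X) x c' a)
      have h1 : RefHull.evalStalk F (Coh.structureModule X) x c' =
          RefHull.evalStalk F (Coh.structureModule X) x (r • c) := by
        apply linearMap_ext_of_span a ha
        rw [map_smul, hc, LinearMap.smul_apply, hθ₀, ← hr]
        rfl
      rw [hbijx.1 h1]
      exact Submodule.smul_mem _ _ (Submodule.mem_span_singleton_self _)
    have hθ' : RefHull.evalStalk F (Coh.structureModule X) (genericPoint X)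
        (spec (RefHull.dual F) x h c) (spec F x h a) = one (genericPoint X) := by
      have := evalStalk_spec F (Coh.structureModule X) h c a
      rw [hc, hθ₀] at this
      exact this.trans (spec_one x h)
    have hspc : spec (RefHull.dual F) x h c ≠ 0 := by
      intro h0
      rw [h0, map_zero] at hθ'
      exact one_ne_zero' (genericPoint X) hθ'.symm
    have hs'eq : s'₀ = α⁻¹ • spec (RefHull.dual F) x h c := by
      apply hbijη.1
      rw [hs'₀, map_smul]
      apply linearMap_ext_of_span v hvspan
      rw [hθ, LinearMap.smul_apply, ← hα', map_smul, hθ', smul_smul, inv_mul_cancel₀ hα0, one_smul]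
    rw [hs'eq, secOrdAt_eq' (RefHull.dual F) x h c hcspan hspc α⁻¹, ← hα',
      secOrdAt_eq' F x h a ha hsa α]
    have hord := isOrd_cycOrd hX x hx h
    have h1 := hord.mul α α⁻¹ hα0 (inv_ne_zero hα0)
    rw [mul_inv_cancel₀ hα0] at h1
    have h2 := hord.unit 1 isUnit_one
    rw [map_one] at h2
    rw [h2] at h1
    linarith

end Groth.Agent.Lib.T2H4.DualOrd
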