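import Mathlib
import Groth.Agent.Lib.T2H4DivIdealMod
import Groth.Agent.Lib.T2H4DualOrd
import Groth.Agent.Lib.T2H4SecOrdAddRef
set_option backward.isDefEq.respectTransparency.types false

/-!
# Every Weil divisor is the divisor of a rational section of a rank one reflexive module (helper4)
-/

set_option autoImplicit false
set_option linter.style.haveILetI false
universe u
open CategoryTheory CategoryTheory.Limits AlgebraicGeometry TopologicalSpace TensorProduct

namespace Groth.Agent.Lib.T2H4.WeilDivSurj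

open Groth.Agent.Lib.T2H4.DivIdeal Groth.Agent.Lib.T2H4.DivIdealMod Groth.Agent.Lib.T2H4.DualOrd
  Groth.Agent.Lib.T2H4.Ref1Iso Groth.Agent.Lib.T2H4.StalkTensorMod Groth.Agent.Lib.T2H3.Reflexive

variable {X : Scheme.{u}} [IsIntegral X] [IsLocallyNoetherian X]

omit [IsLocallyNoetherian X] in
/-- the generic rank of a tensor product of two modules of generic rank one is one -/
theorem finrank_tensorMod (F G : X.Modules)
    (hF : Module.finrank X.functionField (F.presheaf.stalk (genericPoint X)) = 1)
    (hG : Module.finrank X.functionField (G.presheaf.stalk (genericPoint X)) = 1) :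
    Module.finrank X.functionField ((CohB1.tensorMod F G).presheaf.stalk (genericPoint X)) = 1 := by
  haveI : Module.Finite X.functionField (F.presheaf.stalk (genericPoint X)) :=
    Module.finite_of_finrank_pos (by rw [hF]; exact one_pos)
  haveI : Module.Finite X.functionField (G.presheaf.stalk (genericPoint X)) :=
    Module.finite_of_finrank_pos (by rw [hG]; exact one_pos)
  have h := (τ F G (genericPoint X)).finrank_eq
  have h2 : Module.finrank X.functionField
      ((F.presheaf.stalk (genericPoint X)) ⊗[X.functionField] (G.presheaf.stalk (genericPoint X))) = 1 := by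
    rw [Module.finrank_tensorProduct, hF, hG]
  exact h.symm.trans h2

/-- the reflexive tensor product of two rank one reflexive modules is a rank one reflexive module -/
theorem isRef1_ddual_tensorMod (F G : X.Modules) (hF : RefHull.IsRef1 F) (hG : RefHull.IsRef1 G) :
    RefHull.IsRef1 (RefHull.ddual (CohB1.tensorMod F G)) := by
  obtain ⟨-, hFrk⟩ := ref1_facts F hF
  obtain ⟨-, hGrk⟩ := ref1_facts G hG
  haveI : F.IsQuasicoherent := hF.1.1
  haveI : G.IsQuasicoherent := hG.1.1
  haveI : SheafOfModules.IsFiniteType (R := X.ringCatSheaf) F := hF.1.2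
  haveI : SheafOfModules.IsFiniteType (R := X.ringCatSheaf) G := hG.1.2
  have hT0 : Coh.IsCoh (CohB1.tensorMod F G) :=
    ⟨Groth.Agent.Lib.Helper23.TensorQCoh.isQuasicoherent_tensorMod F G,
      Groth.Agent.Lib.Helper23.TensorQCoh.isFiniteType_tensorMod F G⟩
  have hTrk := finrank_tensorMod F G hFrk hGrk
  exact isRef1_dual (RefHull.dual (CohB1.tensorMod F G)) (isCoh_dual _ hT0) (finrank_dual _ hT0 hTrk)

omit [IsIntegral X] [IsLocallyNoetherian X] in
theorem locallyFiniteSupport_toNat (D : AlgebraicCycle X ℤ) :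
    LocallyFiniteSupport (fun x => (D x).toNat) := by
  intro z
  obtain ⟨t, ht, hfin⟩ := D.supportLocallyFiniteWithinDomain' z (Set.mem_univ z)
  refine ⟨t, ht, hfin.subset ?_⟩
  rintro y ⟨hyt, hy⟩
  refine ⟨hyt, ?_⟩
  intro h0
  apply hy
  change (D y).toNat = 0
  have : D y = 0 := h0
  rw [this]
  rfl

omit [IsIntegral X] [IsLocallyNoetherian X] in
theorem locallyFiniteSupport_neg_toNat (D : AlgebraicCycle X ℤ) :
    LocallyFiniteSupport (fun x => (-D x).toNat) := by
  intro z
  obtain ⟨t, ht, hfin⟩ := D.supportLocallyFiniteWithinDomain' z (Set.mem_univ z)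
  refine ⟨t, ht, hfin.subset ?_⟩
  rintro y ⟨hyt, hy⟩
  refine ⟨hyt, ?_⟩
  intro h0
  apply hy
  change (-D y).toNat = 0
  have : D y = 0 := h0
  rw [this]
  rfl

/-- **every Weil divisor is the divisor of a rational section of a rank one reflexive module** -/
theorem main (hX : Pi1.IsNormalScheme X) (D : AlgebraicCycle X ℤ)
    (hD : ∀ x : X, Order.coheight x ≠ 1 → D x = 0) :
    ∃ (F : X.Modules) (_ : RefHull.IsRef1 F) (s : Cyc.secFibre F (genericPoint X)), s ≠ 0 ∧
      ∀ (x : X), Order.coheight x = 1 → ∀ h : genericPoint X ⤳ x,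
        D x = Cyc.secOrdAt F (genericPoint X) x h s := by
  set Ep : X → ℕ := fun x => (D x).toNat with hEp
  set En : X → ℕ := fun x => (-D x).toNat with hEn
  have hEpf := locallyFiniteSupport_toNat D
  have hEnf := locallyFiniteSupport_neg_toNat D
  have hEp0 : ∀ x, Order.coheight x ≠ 1 → Ep x = 0 := fun x hx => by
    change (D x).toNat = 0
    rw [hD x hx]
    rfl
  have hEn0 : ∀ x, Order.coheight x ≠ 1 → En x = 0 := fun x hx => by
    change (-D x).toNat = 0
    rw [hD x hx]
    rfl
  -- the two ideal modules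
  have hIp := isCoh_idealMod (divIdeal Ep hEpf)
  have hIn := isCoh_idealMod (divIdeal En hEnf)
  have hIptf := isTorsionFree_idealMod (divIdeal Ep hEpf)
  have hIntf := isTorsionFree_idealMod (divIdeal En hEnf)
  have hIprk := finrank_generic Ep hEpf hEp0
  have hInrk := finrank_generic En hEnf hEn0
  obtain ⟨sp, hsp0, hsp⟩ := exists_section Ep hEpf hX hEp0
  obtain ⟨sn, hsn0, hsn⟩ := exists_section En hEnf hX hEn0
  -- the positive part: the dual of `O(-E₊)`
  obtain ⟨tp, htp0, htp⟩ := dualOrd hX _ hIp hIptf hIprk sp hsp0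
  have hB := isRef1_dual _ hIp hIprk
  -- the negative part: the double dual of `O(-E₋)`
  obtain ⟨tn, htn0, htn⟩ := dualOrd hX _ hIn hIntf hInrk sn hsn0
  have hA' := isRef1_dual _ hIn hInrk
  obtain ⟨hA'tf, hA'rk⟩ := ref1_facts _ hA'
  obtain ⟨tn', htn'0, htn'⟩ := dualOrd hX _ hA'.1 hA'tf hA'rk tn htn0
  have hA := isRef1_dual _ hA'.1 hA'rk
  obtain ⟨w, hw0, hw⟩ := Groth.Agent.Lib.T2H4.SecOrdAddRef.main hX _ _ hB hA tp htp0 tn' htn'0
  refine ⟨_, isRef1_ddual_tensorMod _ _ hB hA, w, hw0, ?_⟩
  intro x hx h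
  rw [hw x hx h, htp x hx h, hsp x hx h, htn' x hx h, htn x hx h, hsn x hx h]
  change D x = - -((D x).toNat : ℤ) + - - -((-D x).toNat : ℤ)
  omega

end Groth.Agent.Lib.T2H4.WeilDivSurj
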