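import Mathlib
import Groth.Prelude.Def_ChowK
import Groth.Agent.Lib.T2H4Ref1Iso
import Groth.Agent.Lib.T2H4WeilDivSurj
import Groth.Agent.Lib.T2H4WeilDivFin
import Groth.Agent.Lib.T2H4InvRef1
import Groth.Agent.Lib.Helper17K0a
import Groth.Agent.Lib.T2H5GenIsoB
import Groth.Agent.Lib.Helper20ZClos
import Groth.Agent.Lib.Helper4ModEpi

/-!
# The class of a rank one reflexive module in `K_0(Coh X) / K_{n-1}` (helper3)

* `exists_hom_of_le` : homomorphisms of rank one reflexive modules from an inequality of divisors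
  (inequality version of helper4's `Ref1Iso.exists_hom`).
* `mono_of_generic`, `subsingleton_cokernel_generic` : a generically nonzero morphism of rank one reflexive
  modules is a monomorphism with generically trivial cokernel.
* `exists_common_sub` : for a rank one reflexive `L` there is a rank one reflexive `M` with such morphisms to
  `O_X` and to `L`.
* `toK0CohQuot_eq` : `[O_X] = [L]` modulo the classes of modules with smaller support.
-/

set_option autoImplicit false
set_option linter.style.haveILetI false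
set_option linter.unusedSectionVars false
universe u
open CategoryTheory Limits AlgebraicGeometry TopologicalSpace Opposite

namespace Groth.Agent.Lib.T2H3.Ref1K0

open Groth.Agent.Lib.T2H4.Ref1Alg Groth.Agent.Lib.T2H4.ExtDdual Groth.Agent.Lib.T2H4.HomShGlobal
  Groth.Agent.Lib.T2H4.Ref1Local Groth.Agent.Lib.T2H3.Reflexive Groth.Agent.Lib.T2H4.GenRank
  Groth.Agent.Lib.T2H3.HomShQCoh Groth.Agent.Lib.T2H4.Ref1Iso

variable {X : Scheme.{u}} [IsIntegral X] [IsLocallyNoetherian X]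

theorem exists_hom_of_le (hX : Pi1.IsNormalScheme X) (F G : X.Modules) (hF : RefHull.IsRef1 F)
    (hG : RefHull.IsRef1 G)
    (s₀ : F.presheaf.stalk (genericPoint X)) (hs₀ : s₀ ≠ 0)
    (t₀ : G.presheaf.stalk (genericPoint X)) (ht₀ : t₀ ≠ 0)
    (f : X.functionField) (hf : f ≠ 0)
    (hord : ∀ (x : X), Order.coheight x = 1 →
      Cyc.secOrdAt F (genericPoint X) x (genericPoint_specializes x)
          (Submodule.Quotient.mk s₀ : Cyc.secFibre F (genericPoint X)) ≤
        Cyc.secOrdAt G (genericPoint X) x (genericPoint_specializes x)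
          (Submodule.Quotient.mk t₀ : Cyc.secFibre G (genericPoint X)) + Scheme.ord f x) :
    ∃ ψ : F ⟶ G, RefHull.stalkMapₗ ψ (genericPoint X) s₀ = f • t₀ := by
  obtain ⟨hFtf, hFrk⟩ := ref1_facts F hF
  obtain ⟨hGtf, hGrk⟩ := ref1_facts G hG
  haveI : F.IsQuasicoherent := hF.1.1
  haveI : G.IsQuasicoherent := hG.1.1
  have hbij : Function.Bijective (LinearMap.toSpanSingleton X.functionField
      (F.presheaf.stalk (genericPoint X)) s₀) :=
    ⟨smul_left_injective _ hs₀, surjective_smul_generic F hF.2.2 s₀ hs₀⟩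
  let E := LinearEquiv.ofBijective _ hbij
  let T : F.presheaf.stalk (genericPoint X) →ₗ[X.presheaf.stalk (genericPoint X)]
      G.presheaf.stalk (genericPoint X) :=
    (LinearMap.toSpanSingleton X.functionField (G.presheaf.stalk (genericPoint X)) (f • t₀)) ∘ₗ
      E.symm.toLinearMap
  have hT : ∀ c : X.functionField, T (c • s₀) = c • (f • t₀) := by
    intro c
    have h1 : E.symm (c • s₀) = c := by
      apply E.injective
      rw [E.apply_symm_apply]
      rfl
    change (E.symm (c • s₀)) • (f • t₀) = _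
    rw [h1]
  have hmaps : ∀ x : X, ringKrullDim (X.presheaf.stalk x) = 1 →
      Set.MapsTo ⇑T (Set.range ⇑(F.presheaf.stalkSpecializes (genericPoint_specializes x)).hom)
        (Set.range ⇑(G.presheaf.stalkSpecializes (genericPoint_specializes x)).hom) := by
    intro x hdim
    have hx : Order.coheight x = 1 := by
      rw [ringKrullDim_stalk_eq_coheight] at hdim
      exact_mod_cast hdim
    have h := genericPoint_specializes x
    haveI := isDVR hX x hx
    obtain ⟨a, ha⟩ := exists_generator_stalk F hX hF.1 hFtf hFrk x hx h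
    obtain ⟨b, hb⟩ := exists_generator_stalk G hX hG.1 hGtf hGrk x hx h
    have hsa := spec_generator_ne_zero F hFrk x h a ha
    have hsb := spec_generator_ne_zero G hGrk x h b hb
    obtain ⟨α, hα⟩ := surjective_smul_generic F hF.2.2 _ hsa s₀
    obtain ⟨β, hβ⟩ := surjective_smul_generic G hG.2.2 _ hsb t₀
    have hα' : α • spec F x h a = s₀ := hα
    have hβ' : β • spec G x h b = t₀ := hβ
    have hα0 : α ≠ 0 := by
      rintro rfl
      exact hs₀ (by rw [← hα', zero_smul])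
    have hβ0 : β ≠ 0 := by
      rintro rfl
      exact ht₀ (by rw [← hβ', zero_smul])
    have hA := secOrdAt_eq F hX hFrk x hx h a ha α
    have hB := secOrdAt_eq G hX hGrk x hx h b hb β
    rw [hα'] at hA
    rw [hβ'] at hB
    have hO := hord x hx
    rw [hA, hB, ord_eq_ordAt hX x hx h f hf] at hO
    have ho := isOrd_cycOrd hX x hx h
    set γ := α⁻¹ * (f * β) with hγ
    have hγ0 : γ ≠ 0 := mul_ne_zero (inv_ne_zero hα0) (mul_ne_zero hf hβ0)
    have hγα : γ * α = f * β := by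
      rw [hγ, mul_comm, ← mul_assoc, mul_inv_cancel₀ hα0, one_mul]
    have h1 := ho.mul γ α hγ0 hα0
    rw [hγα, ho.mul f β hf hβ0] at h1
    have hγnn : 0 ≤ Cyc.ordAt x (genericPoint X) h (X.residue (genericPoint X) γ) := by omega
    obtain ⟨r', hr'⟩ := (ho.nonneg_iff γ hγ0).1 hγnn
    have hTa : T (spec F x h a) = γ • spec G x h b := by
      have h2 : spec F x h a = α⁻¹ • s₀ := by
        rw [← hα', smul_smul, inv_mul_cancel₀ hα0, one_smul]
      rw [h2, hT, ← hβ', smul_smul, smul_smul, hγ, mul_assoc]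
    rintro _ ⟨m, rfl⟩
    have hmem : m ∈ Submodule.span (X.presheaf.stalk x) {a} := by rw [ha]; trivial
    obtain ⟨r, rfl⟩ := Submodule.mem_span_singleton.1 hmem
    refine ⟨(r * r') • b, ?_⟩
    change spec G x h ((r * r') • b) = T (spec F x h (r • a))
    rw [spec_smul, spec_smul, map_smul, hTa, ← hr', smul_smul, map_mul]
  obtain ⟨ψ, hψ⟩ := exists_of_mapsTo hX G F hG.1 hF.1 T hmaps
  haveI : IsIso (RefHull.bidualMap G) := hG.2.1
  refine ⟨ψ ≫ inv (RefHull.bidualMap G), ?_⟩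
  rw [stalkMapₗ_comp, hψ]
  change RefHull.stalkMapₗ (inv (RefHull.bidualMap G)) (genericPoint X)
    (RefHull.stalkMapₗ (RefHull.bidualMap G) (genericPoint X) (T s₀)) = _
  rw [stalkMapₗ_inv_hom]
  have h3 := hT 1
  rwa [one_smul, one_smul] at h3

/-- a generically nonzero morphism out of a rank one reflexive module is injective on the generic stalk -/
theorem injective_generic (F G : X.Modules) (hF : RefHull.IsRef1 F) (ψ : F ⟶ G)
    (s₀ : F.presheaf.stalk (genericPoint X)) (hs₀ : s₀ ≠ 0)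
    (h : RefHull.stalkMapₗ ψ (genericPoint X) s₀ ≠ 0) :
    Function.Injective (RefHull.stalkMapₗ ψ (genericPoint X)) := by
  rw [injective_iff_map_eq_zero]
  intro v hv
  obtain ⟨c, rfl⟩ := surjective_smul_generic F hF.2.2 s₀ hs₀ v
  change RefHull.stalkMapₗ ψ (genericPoint X) (c • s₀) = 0 at hv
  rw [map_smul] at hv
  rcases smul_eq_zero.1 hv with hc | hc
  · change c • s₀ = 0
    rw [hc, zero_smul]
  · exact absurd hc h

theorem mono_of_generic (F G : X.Modules) (hF : RefHull.IsRef1 F) (ψ : F ⟶ G)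
    (s₀ : F.presheaf.stalk (genericPoint X)) (hs₀ : s₀ ≠ 0)
    (h : RefHull.stalkMapₗ ψ (genericPoint X) s₀ ≠ 0) : Mono ψ := by
  obtain ⟨hFtf, -⟩ := ref1_facts F hF
  haveI : F.IsQuasicoherent := hF.1.1
  rw [Groth.Agent.Lib.Helper20.ZClosLib.mono_iff_stalk_injective]
  intro x
  have hinj := injective_generic F G hF ψ s₀ hs₀ h
  change Function.Injective (RefHull.stalkMapₗ ψ x)
  intro v w hvw
  apply stalkSpecializes_injective F hFtf x (genericPoint_specializes x)
  apply hinj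
  rw [← stalkSpecializes_stalkMapₗ, ← stalkSpecializes_stalkMapₗ, hvw]

theorem subsingleton_cokernel_generic (F G : X.Modules) (hG : RefHull.IsRef1 G) (ψ : F ⟶ G)
    (s₀ : F.presheaf.stalk (genericPoint X))
    (h : RefHull.stalkMapₗ ψ (genericPoint X) s₀ ≠ 0) :
    Subsingleton ((cokernel ψ).presheaf.stalk (genericPoint X)) := by
  suffices hz : ∀ c : (cokernel ψ).presheaf.stalk (genericPoint X), c = 0 from
    ⟨fun a b => by rw [hz a, hz b]⟩
  intro c
  obtain ⟨g, rfl⟩ := Groth.Agent.Lib.Helper4.ModEpi.exists_germ_eq_of_epi (cokernel.π ψ)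
    (genericPoint X) c
  obtain ⟨a, ha⟩ := surjective_smul_generic G hG.2.2 _ h g
  have ha' : a • RefHull.stalkMapₗ ψ (genericPoint X) s₀ = g := ha
  change RefHull.stalkMapₗ (cokernel.π ψ) (genericPoint X) g = 0
  rw [← ha', ← map_smul, ← stalkMapₗ_comp, cokernel.condition]
  obtain ⟨U, hxU, m, hm⟩ := TopCat.Presheaf.exists_germ_eq F.presheaf (a • s₀)
  rw [← hm, RefHull.stalkMapₗ_germ]
  change (cokernel ψ).presheaf.germ U _ hxU 0 = 0
  rw [map_zero]

theorem ord_one (x : X) : Scheme.ord (1 : X.functionField) x = 0 := by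
  have h := Scheme.ord_mul (x := x) (one_ne_zero : (1 : X.functionField) ≠ 0)
    (one_ne_zero : (1 : X.functionField) ≠ 0)
  rw [one_mul] at h
  omega

open Groth.Agent.Lib.Helper23.UnitStalk in
/-- a rank one reflexive module contained (generically isomorphically) in both `O_X` and `L` -/
theorem exists_common_sub (hX : Pi1.IsNormalScheme X) (L : X.Modules) (hL : RefHull.IsRef1 L) :
    ∃ (M : X.Modules) (_ : RefHull.IsRef1 M) (ψ₁ : M ⟶ Coh.structureModule X) (ψ₂ : M ⟶ L),
      Mono ψ₁ ∧ Mono ψ₂ ∧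
      Subsingleton ((cokernel ψ₁).presheaf.stalk (genericPoint X)) ∧
      Subsingleton ((cokernel ψ₂).presheaf.stalk (genericPoint X)) := by
  have hO : RefHull.IsRef1 (Coh.structureModule X) :=
    Groth.Agent.Lib.T2H4.InvRef1.isRef1_of_isInvertible _
      (Groth.Agent.Lib.Helper23.TensorUnit.isInvertible_structureModule X)
  obtain ⟨-, hrk⟩ := ref1_facts L hL
  obtain ⟨s₀, hs₀, -⟩ := finrank_eq_one_iff'.1 hrk
  have hs : (Submodule.Quotient.mk s₀ : Cyc.secFibre L (genericPoint X)) ≠ 0 := by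
    intro h0
    exact hs₀ (mk_secFibre_injective (X := X) _ (h0.trans (Submodule.Quotient.mk_zero _).symm))
  obtain ⟨D, hD0, hD⟩ := Groth.Agent.Lib.T2H4.WeilDivFin.exists_cycle hX L hL _ hs
  set E : AlgebraicCycle X ℤ := D ⊓ 0 with hEdef
  have hEx : ∀ x, E x = min (D x) 0 := fun x => Function.locallyFinsuppWithin.min_apply
  have hE0 : ∀ x : X, Order.coheight x ≠ 1 → E x = 0 := by
    intro x hx
    rw [hEx, hD0 x hx]
    rfl
  obtain ⟨M, hM, w, hw, hwE⟩ := Groth.Agent.Lib.T2H4.WeilDivSurj.main hX E hE0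
  obtain ⟨w₀, rfl⟩ := Submodule.Quotient.mk_surjective _ w
  have hw₀ : w₀ ≠ 0 := by
    rintro rfl
    exact hw (Submodule.Quotient.mk_zero _)
  have h1ne := Groth.Agent.Lib.T2H4.InvRef1.one_ne_zero' (genericPoint X)
  obtain ⟨ψ₁, hψ₁⟩ := exists_hom_of_le hX M (Coh.structureModule X) hM hO w₀ hw₀
    (one (genericPoint X)) h1ne 1 one_ne_zero (fun x hx => by
      rw [← hwE x hx, Groth.Agent.Lib.T2H4.InvRef1.secOrdAt_one, ord_one, hEx]
      simp)
  obtain ⟨ψ₂, hψ₂⟩ := exists_hom_of_le hX M L hM hL w₀ hw₀ s₀ hs₀ 1 one_ne_zero (fun x hx => by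
      rw [← hwE x hx, ← hD x hx, ord_one, hEx, add_zero]
      exact min_le_left _ _)
  have hn₁ : RefHull.stalkMapₗ ψ₁ (genericPoint X) w₀ ≠ 0 := by
    rw [hψ₁, one_smul]
    exact h1ne
  have hn₂ : RefHull.stalkMapₗ ψ₂ (genericPoint X) w₀ ≠ 0 := by
    rw [hψ₂, one_smul]
    exact hs₀
  exact ⟨M, hM, ψ₁, ψ₂, mono_of_generic M _ hM ψ₁ w₀ hw₀ hn₁, mono_of_generic M _ hM ψ₂ w₀ hw₀ hn₂,
    subsingleton_cokernel_generic M _ hO ψ₁ w₀ hn₁, subsingleton_cokernel_generic M _ hL ψ₂ w₀ hn₂⟩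

/-- `[O_X] = [L]` modulo modules with smaller support -/
theorem toK0CohQuot_eq (hX : Pi1.IsNormalScheme X) (δ : X → ℤ) (hδ : Cyc.IsDimFun X δ) (a b : ℤ)
    (hδη : δ (genericPoint X) = a) (hab : a ≤ b + 1) (L : X.Modules) (hL : RefHull.IsRef1 L) :
    Cyc.toK0CohQuot δ a b (Coh.structureModule X) = Cyc.toK0CohQuot δ a b L := by
  have hO : RefHull.IsRef1 (Coh.structureModule X) :=
    Groth.Agent.Lib.T2H4.InvRef1.isRef1_of_isInvertible _
      (Groth.Agent.Lib.Helper23.TensorUnit.isInvertible_structureModule X)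
  obtain ⟨M, hM, ψ₁, ψ₂, m₁, m₂, c₁, c₂⟩ := exists_common_sub hX L hL
  have hlt : ∀ x : X, x ≠ genericPoint X → δ x ≤ b := by
    intro x hx
    have h1 := (hδ (genericPoint X) x (genericPoint_specializes x) (Ne.symm hx)).1
    omega
  have hle : ∀ x : X, δ x ≤ a := by
    intro x
    by_cases hx : x = genericPoint X
    · rw [hx, hδη]
    · have := hlt x hx
      have h1 := (hδ (genericPoint X) x (genericPoint_specializes x) (Ne.symm hx)).1
      omega
  have hPa : ∀ F : X.Modules, Coh.IsCoh F → Cyc.CohLe δ a F := fun F hF => ⟨hF, fun x _ => hle x⟩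
  have hPb : ∀ C : X.Modules, Coh.IsCoh C → Subsingleton (C.presheaf.stalk (genericPoint X)) →
      Cyc.CohLe δ b C := fun C hC hsub => ⟨hC, fun x hnt => hlt x (by
        rintro rfl
        exact not_subsingleton _ hsub)⟩
  have hC₁ : Coh.IsCoh (cokernel ψ₁) := Groth.Agent.Lib.T2H5.GenIsoB.isCoh_cokernel ψ₁ hM.1 hO.1
  have hC₂ : Coh.IsCoh (cokernel ψ₂) := Groth.Agent.Lib.T2H5.GenIsoB.isCoh_cokernel ψ₂ hM.1 hL.1
  have hS₁ : (ShortComplex.mk ψ₁ (cokernel.π ψ₁) (cokernel.condition ψ₁)).ShortExact :=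
    ShortComplex.ShortExact.mk (ShortComplex.exact_cokernel ψ₁)
  have hS₂ : (ShortComplex.mk ψ₂ (cokernel.π ψ₂) (cokernel.condition ψ₂)).ShortExact :=
    ShortComplex.ShortExact.mk (ShortComplex.exact_cokernel ψ₂)
  have e₁ := Groth.Agent.Lib.Helper17.K0a.clSub_shortExact (Cyc.CohLe δ a) _ hS₁ (hPa _ hM.1)
    (hPa _ hO.1) (hPa _ hC₁)
  have e₂ := Groth.Agent.Lib.Helper17.K0a.clSub_shortExact (Cyc.CohLe δ a) _ hS₂ (hPa _ hM.1)
    (hPa _ hL.1) (hPa _ hC₂)
  unfold Cyc.toK0CohQuot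
  rw [QuotientAddGroup.eq]
  change -KZero.clSub (Cyc.CohLe δ a) (Coh.structureModule X) + KZero.clSub (Cyc.CohLe δ a) L ∈ _
  have e₁' : KZero.clSub (Cyc.CohLe δ a) (Coh.structureModule X) =
      KZero.clSub (Cyc.CohLe δ a) M + KZero.clSub (Cyc.CohLe δ a) (cokernel ψ₁) := e₁
  have e₂' : KZero.clSub (Cyc.CohLe δ a) L =
      KZero.clSub (Cyc.CohLe δ a) M + KZero.clSub (Cyc.CohLe δ a) (cokernel ψ₂) := e₂
  rw [e₁', e₂']
  have h3 : -(KZero.clSub (Cyc.CohLe δ a) M + KZero.clSub (Cyc.CohLe δ a) (cokernel ψ₁)) +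
      (KZero.clSub (Cyc.CohLe δ a) M + KZero.clSub (Cyc.CohLe δ a) (cokernel ψ₂)) =
      KZero.clSub (Cyc.CohLe δ a) (cokernel ψ₂) - KZero.clSub (Cyc.CohLe δ a) (cokernel ψ₁) := by
    abel
  rw [h3]
  exact AddSubgroup.sub_mem _
    (AddSubgroup.subset_closure ⟨cokernel ψ₂, hPb _ hC₂ c₂, rfl⟩)
    (AddSubgroup.subset_closure ⟨cokernel ψ₁, hPb _ hC₁ c₁, rfl⟩)

end Groth.Agent.Lib.T2H3.Ref1K0
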