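import Mathlib
import Groth.Agent.Lib.T2H3NormalSh
import Groth.Agent.Lib.T2H3ReflexiveHom
import Groth.Agent.Lib.Helper5RLR3
import Groth.Agent.Lib.Helper28DepthSk
import Groth.Agent.Lib.Helper28DepthLoc
import Groth.Agent.S16082

/-!
# Reflexive = torsion-free + normal on a regular scheme (helper3)

Algebra:
* `two_le_depth_of_isReflexive` : a finite reflexive module over a Noetherian local ring of depth `≥ 2` has
  depth `≥ 2`.
* `two_le_depth_self_of_regular` : a regular local ring of dimension `≥ 2` has depth `≥ 2`.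
* `not_isAssociatedPrime_maximalIdeal`, `one_le_depth_of_isTorsionFree` : torsion-free modules over a local
  domain which is not a field.
* `isPrincipalIdealRing_of_regular_dim_le_one`.

Geometry (`X` integral locally Noetherian with regular local rings):
* `depth_ge_two_of_isReflexive`, `isReflexive_of_isTorsionFree_of_depth`,
  `isReflexive_iff_isTorsionFree_and_depth`.
-/

set_option autoImplicit false
set_option linter.style.haveILetI false
set_option linter.unusedSectionVars false
universe u
open CategoryTheory CategoryTheory.Limits AlgebraicGeometry TopologicalSpace Opposite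

namespace Groth.Agent.Lib.T2H3.ReflNormal

section Alg

open IsLocalRing

theorem two_le_depth_of_isReflexive (R : Type u) [CommRing R] [IsLocalRing R] [IsNoetherianRing R]
    (M : Type u) [AddCommGroup M] [Module R M] [Module.Finite R M] [Module.IsReflexive R M]
    (h : 2 ≤ LocCoh.depth R R) : 2 ≤ LocCoh.depth R M := by
  unfold LocCoh.depth at h ⊢
  rw [Groth.Agent.Lib.Helper28.idealDepth_congr (Module.evalEquiv R M) _]
  exact Groth.Agent.Lib.Helper28.two_le_idealDepth_hom _ (Module.Dual R M) R h

theorem two_le_depth_self_of_regular (R : Type u) [CommRing R] [IsRegularLocalRing R]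
    (h : (2 : WithBot ℕ∞) ≤ ringKrullDim R) : (2 : ℕ∞) ≤ LocCoh.depth R R := by
  have h1 := (Groth.Agent.Lib.Helper5.isCohenMacaulayLocalRing_of_isRegularLocalRing R).supportDim_eq_depth
  rw [Module.supportDim_self_eq_ringKrullDim] at h1
  rw [h1] at h
  exact WithBot.coe_le_coe.mp h

theorem maximalIdeal_ne_bot_of_one_le_dim (R : Type u) [CommRing R] [IsLocalRing R]
    (h : (1 : WithBot ℕ∞) ≤ ringKrullDim R) : maximalIdeal R ≠ ⊥ := by
  intro hbot
  have hf : IsField R := isField_iff_maximalIdeal_eq.mpr hbot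
  have h0 := ringKrullDim_eq_zero_of_isField hf
  rw [h0] at h
  exact absurd h (by norm_num)

theorem not_isAssociatedPrime_maximalIdeal (R : Type u) [CommRing R] [IsLocalRing R] [IsDomain R]
    [IsNoetherianRing R] (hm : maximalIdeal R ≠ ⊥) (M : Type u) [AddCommGroup M] [Module R M]
    [Module.IsTorsionFree R M] : ¬ IsAssociatedPrime (maximalIdeal R) M := by
  intro h
  obtain ⟨hp, v, hv⟩ := isAssociatedPrime_iff.mp h
  obtain ⟨r, hr, hr0⟩ := Submodule.exists_mem_ne_zero_of_ne_bot hm
  have h1 : r • v = 0 := by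
    rw [hv, Submodule.mem_colon_singleton, Submodule.mem_bot] at hr
    exact hr
  have hv0 : v = 0 := (smul_eq_zero.mp h1).resolve_left hr0
  apply hp.ne_top
  rw [hv, hv0, eq_top_iff]
  intro a _
  rw [Submodule.mem_colon_singleton, smul_zero]
  exact Submodule.zero_mem _

theorem one_le_depth_of_isTorsionFree (R : Type u) [CommRing R] [IsLocalRing R] [IsDomain R]
    [IsNoetherianRing R] (hm : maximalIdeal R ≠ ⊥) (M : Type u) [AddCommGroup M] [Module R M]
    [Module.Finite R M] [Module.IsTorsionFree R M] : 1 ≤ LocCoh.depth R M := by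
  rw [Order.one_le_iff_ne_zero]
  intro h0
  rw [Groth.Agent.Lib.Helper28.depth_eq_zero_iff] at h0
  exact not_isAssociatedPrime_maximalIdeal R hm M h0

theorem isPrincipalIdealRing_of_regular_dim_le_one (R : Type u) [CommRing R]
    [IsRegularLocalRing R] [IsDomain R] (h : ringKrullDim R ≤ 1) : IsPrincipalIdealRing R := by
  have h1 := (IsRegularLocalRing.iff_finrank_cotangentSpace R).mp inferInstance
  have h2 : Module.finrank (ResidueField R) (CotangentSpace R) ≤ 1 := by
    rw [← h1] at h
    exact_mod_cast h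
  exact ((tfae_of_isNoetherianRing_of_isLocalRing_of_isDomain R).out 0 5).mpr h2

end Alg

section Geom

open Groth.Agent.Lib.T2H3.Reflexive Groth.Agent.Lib.T2H3.ReflexiveHom
  Groth.Agent.Lib.T2H3.HomShQCoh Groth.Agent.Lib.Helper20.ZClosLib

variable {X : Scheme.{u}} [IsLocallyNoetherian X]

theorem depth_ge_two_of_isReflexiveAt
    (hreg : ∀ x : X, IsRegularLocalRing (X.presheaf.stalk x)) (F : X.Modules) (hF : Coh.IsCoh F)
    (x : X) (hx : RefHull.IsReflexiveAt F x)
    (hdim : (2 : WithBot ℕ∞) ≤ ringKrullDim (X.presheaf.stalk x)) :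
    (2 : ℕ∞) ≤ LocCoh.depth (X.presheaf.stalk x) (F.presheaf.stalk x) := by
  haveI := hreg x
  haveI : Module.IsReflexive (X.presheaf.stalk x) (F.presheaf.stalk x) := hx
  haveI : Module.Finite (X.presheaf.stalk x) (F.presheaf.stalk x) := finite_stalk_of_isCoh F hF x
  exact two_le_depth_of_isReflexive _ _ (two_le_depth_self_of_regular _ hdim)

theorem isTorsionFree_structureModule [IsIntegral X] :
    TorSh.IsTorsionFree (Coh.structureModule X) := by
  intro x
  exact Function.Injective.moduleIsTorsionFree
    (Groth.Agent.Lib.Helper23.UnitStalk.unitStalkEquiv x).symm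
    (Groth.Agent.Lib.Helper23.UnitStalk.unitStalkEquiv x).symm.injective
    (fun r m => map_smul _ r m)

theorem isTorsionFree_ddual [IsIntegral X] (F : X.Modules) (hF : Coh.IsCoh F) :
    TorSh.IsTorsionFree (RefHull.ddual F) := by
  have hd := isCoh_dual F hF
  exact Groth.Agent.S16082.result X (RefHull.dual F) (Coh.structureModule X) hd.1
    (isFP_of_isCoh _ hd) Groth.Agent.Lib.T2H5.GenIsoF.isCoh_structureModule.1
    isTorsionFree_structureModule

theorem isReflexive_of_isTorsionFree_of_depth [IsIntegral X]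
    (hreg : ∀ x : X, IsRegularLocalRing (X.presheaf.stalk x)) (F : X.Modules) (hF : Coh.IsCoh F)
    (htf : TorSh.IsTorsionFree F)
    (hd : ∀ x : X, (2 : WithBot ℕ∞) ≤ ringKrullDim (X.presheaf.stalk x) →
      (2 : ℕ∞) ≤ LocCoh.depth (X.presheaf.stalk x) (F.presheaf.stalk x)) :
    RefHull.IsReflexive F := by
  rw [isReflexive_iff_forall_isReflexiveAt F hF]
  intro x
  rw [← bijective_stalkMap_bidualMap_iff F hF x]
  haveI : F.IsQuasicoherent := hF.1
  haveI : SheafOfModules.IsFiniteType (R := X.ringCatSheaf) F := hF.2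
  have hdd : Coh.IsCoh (RefHull.ddual F) := isCoh_ddual F hF
  haveI : (RefHull.ddual F).IsQuasicoherent := hdd.1
  refine bijective_ψ_local (RefHull.bidualMap F) x fun x' _ => ?_
  haveI := hreg x'
  by_cases hx' : (2 : WithBot ℕ∞) ≤ ringKrullDim (X.presheaf.stalk x')
  · right
    refine ⟨hd x' hx', ?_⟩
    haveI : Module.IsTorsionFree (X.presheaf.stalk x') ((RefHull.ddual F).presheaf.stalk x') :=
      isTorsionFree_ddual F hF x'
    exact not_isAssociatedPrime_maximalIdeal _
      (maximalIdeal_ne_bot_of_one_le_dim _ (le_trans (by norm_num) hx')) _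
  · left
    have hle : ringKrullDim (X.presheaf.stalk x') ≤ 1 := le_one_of_not_two_le _ hx'
    haveI := isPrincipalIdealRing_of_regular_dim_le_one (X.presheaf.stalk x') hle
    haveI : Module.IsTorsionFree (X.presheaf.stalk x') (F.presheaf.stalk x') := htf x'
    haveI : Module.Finite (X.presheaf.stalk x') (F.presheaf.stalk x') :=
      finite_stalk_of_isCoh F hF x'
    have hr : RefHull.IsReflexiveAt F x' :=
      (inferInstance : Module.IsReflexive (X.presheaf.stalk x') (F.presheaf.stalk x'))
    exact (bijective_stalkMap_bidualMap_iff F hF x').mpr hr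

theorem isReflexive_iff_isTorsionFree_and_depth [IsIntegral X]
    (hreg : ∀ x : X, IsRegularLocalRing (X.presheaf.stalk x)) (F : X.Modules) (hF : Coh.IsCoh F) :
    RefHull.IsReflexive F ↔ TorSh.IsTorsionFree F ∧
      ∀ x : X, (2 : WithBot ℕ∞) ≤ ringKrullDim (X.presheaf.stalk x) →
        (2 : ℕ∞) ≤ LocCoh.depth (X.presheaf.stalk x) (F.presheaf.stalk x) := by
  constructor
  · intro h
    have hx := (isReflexive_iff_forall_isReflexiveAt F hF).mp h
    refine ⟨fun x => ?_, fun x hdim => depth_ge_two_of_isReflexiveAt hreg F hF x (hx x) hdim⟩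
    haveI : Module.IsReflexive (X.presheaf.stalk x) (F.presheaf.stalk x) := hx x
    infer_instance
  · rintro ⟨htf, hd⟩
    exact isReflexive_of_isTorsionFree_of_depth hreg F hF htf hd

end Geom

end Groth.Agent.Lib.T2H3.ReflNormal
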