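import Groth.Agent.Lib.T2H3RegE
import Groth.Agent.Lib.T2H3EGI

/-! Weak `d`-regularity (vanishing of `H^i_m(M)` in the single degree `d - i + 1`) is equivalent
to `reg M ≤ d` over the standard graded polynomial ring: Mumford's lemma combined with the
Eisenbud–Goto theorem (helper3). -/

set_option autoImplicit false
set_option linter.unusedSectionVars false
set_option linter.style.haveILetI false
open DirectSum

noncomputable section

namespace Groth.Agent.Lib.T2H3.Reg

open GrLC Groth.Agent.Lib.T2H3.GrLes Groth.Agent.Lib.T2H3.EG Groth.Agent.Lib.T2H3.GrTr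

universe u

variable (k : Type u) [Field k] (r : ℕ)

/-- The irrelevant ideal of the standard graded polynomial ring is generated in degree one. -/
theorem Pm_eq_span_one :
    (Pm k r).toIdeal = Ideal.span ((PA k r 1 : AddSubgroup (MvPolynomial (Fin (r + 1)) k)) :
      Set (MvPolynomial (Fin (r + 1)) k)) := by
  apply le_antisymm
  · change (GrSyz.irrel (GrSyz.stdGr k (Fin (r + 1)))).toIdeal ≤ _
    rw [Groth.Agent.Helper13RegCount.irrel_eq_span_X k (r + 1), Ideal.span_le]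
    rintro _ ⟨l, rfl⟩
    apply Ideal.subset_span
    change (MvPolynomial.X l : MvPolynomial (Fin (r + 1)) k) ∈ GrSyz.stdGr k (Fin (r + 1)) 1
    rw [GrSyz.mem_stdGr_iff]
    exact MvPolynomial.isWeightedHomogeneous_X k _ l
  · change Ideal.span _ ≤ Ideal.span _
    apply Ideal.span_mono
    intro p hp
    exact ⟨1, one_pos, hp⟩

variable {M : Type u} [AddCommGroup M] [Module k M] [Module (MvPolynomial (Fin (r + 1)) k) M]
  [IsScalarTower k (MvPolynomial (Fin (r + 1)) k) M]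
  (ℳ : ℤ → Submodule k M) [DirectSum.Decomposition ℳ]
  [SetLike.GradedSMul (GrSyz.stdGr k (Fin (r + 1))) ℳ]

variable {ℳ} in
/-- Weak `d`-regularity gives the vanishing `H^i_m(M)_j = 0` for all `j > d - i`. -/
theorem van_of_weak (E : StarInjRes (GrSyz.stdGr k (Fin (r + 1))) ℳ) (d : ℤ)
    (h0 : endDeg (E.Hgr (GrSyz.irrel (GrSyz.stdGr k (Fin (r + 1)))) 0) ≤
      ((d : WithTop ℤ) : WithBot (WithTop ℤ)))
    (h : ∀ i : ℕ, 0 < i →
      E.Hcomp (GrSyz.irrel (GrSyz.stdGr k (Fin (r + 1)))) i (d - (i : ℤ) + 1) = ⊥)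
    (i : ℕ) (j : ℤ) (hj : d - i < j) : Van k r ℳ i j := by
  cases i with
  | zero =>
    rw [van_iff_Hgr k r E]
    exact (endDeg_le_iff' _ d).mp h0 j (by simpa using hj)
  | succ i =>
    apply van_of k r (resTo (GrSyz.stdGr k (Fin (r + 1))) ℳ E)
    obtain ⟨t, ht⟩ : ∃ t : ℕ, j = d + 1 + (t : ℤ) - ((i + 1 : ℕ) : ℤ) :=
      ⟨(j - (d - ((i + 1 : ℕ) : ℤ)) - 1).toNat, by omega⟩
    rw [ht]
    refine mumford (Pm k r) (Pm_eq_span_one k r) (resTo (GrSyz.stdGr k (Fin (r + 1))) ℳ E) d 1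
      le_rfl (fun i' hi' => ?_) t (i + 1) (by omega)
    have h1 := h i' (by omega)
    rw [Submodule.eq_bot_iff]
    intro y hy
    have hy' : y ∈ E.Hcomp (GrSyz.irrel (GrSyz.stdGr k (Fin (r + 1)))) i' (d - (i' : ℤ) + 1) := by
      rw [show d - (i' : ℤ) + 1 = d + 1 - (i' : ℤ) by ring]
      exact hy
    rw [h1] at hy'
    exact hy'

variable [Module.Finite (MvPolynomial (Fin (r + 1)) k) M]

variable {ℳ} in
/-- Weak `d`-regularity is equivalent to `reg M ≤ d`. -/
theorem weak_iff_reg_le (E : StarInjRes (GrSyz.stdGr k (Fin (r + 1))) ℳ) (d : ℤ) :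
    (endDeg (E.Hgr (GrSyz.irrel (GrSyz.stdGr k (Fin (r + 1)))) 0) ≤
        ((d : WithTop ℤ) : WithBot (WithTop ℤ)) ∧
      ∀ i : ℕ, 0 < i →
        E.Hcomp (GrSyz.irrel (GrSyz.stdGr k (Fin (r + 1)))) i (d - (i : ℤ) + 1) = ⊥) ↔
    GrSyz.IsRegLE (GrSyz.stdGr k (Fin (r + 1))) ℳ
      (GrSyz.irrel (GrSyz.stdGr k (Fin (r + 1)))).toIdeal d := by
  rw [isRegLE_iff_van]
  constructor
  · rintro ⟨h0, h⟩ i j hj
    exact van_of_weak k r E d h0 h i j hj
  · intro h
    refine ⟨(endDeg_le_iff' _ d).mpr (fun j hj => ?_), fun i hi => ?_⟩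
    · exact (van_iff_Hgr k r E 0 j).mp (h 0 j (by simpa using hj))
    · have h1 := (van_iff_Hgr k r E i (d - (i : ℤ) + 1)).mp (h i _ (by omega))
      apply Submodule.toAddSubgroup_injective
      rw [Submodule.bot_toAddSubgroup]
      exact h1

end Groth.Agent.Lib.T2H3.Reg
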