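import Mathlib
import Groth.Prelude.Def_CAlg
import Groth.Agent.Lib.Helper28Depth

/-!
# Minimal generating sequences with a regular prefix (helper3)

For a Noetherian local ring `T` and a proper ideal `J` of grade `j` (no Cohen–Macaulay hypothesis needed):
`j ≤ μ(J)` and `J` has a generating sequence of length `μ(J)` whose first `j` members form a regular sequence.
(`exists_exchange`: exchange lemma for generators modulo `𝔪 J`; prime avoidance with one non-prime ideal.)
-/

set_option autoImplicit false
set_option linter.style.haveILetI false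
set_option linter.unusedSectionVars false
universe u
open RingTheory.Sequence IsLocalRing

namespace Groth.Agent.Lib.T2H3.RegPrefix

open Groth.Agent.Lib.Helper28

variable {T : Type u} [CommRing T] [IsLocalRing T]

/-- exchange lemma: an element of `K + (us)` not in `K + 𝔪 (K + (us))` can replace one of the `us`. -/
theorem exists_exchange (K : Ideal T) (us : List T) (t : T) (ht : t ∈ K ⊔ Ideal.ofList us)
    (hnt : t ∉ K ⊔ maximalIdeal T * (K ⊔ Ideal.ofList us)) :
    ∃ us' : List T, us'.length + 1 = us.length ∧
      K ⊔ Ideal.span {t} ⊔ Ideal.ofList us' = K ⊔ Ideal.ofList us := by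
  induction us generalizing t with
  | nil =>
    exfalso
    apply hnt
    rw [Ideal.ofList_nil, sup_bot_eq] at ht
    exact Ideal.mem_sup_left ht
  | cons u rest ih =>
    rw [Ideal.ofList_cons] at ht hnt ⊢
    have ht0 := ht
    rw [← sup_assoc] at ht
    obtain ⟨y, hy, w, hw, hyw⟩ := Submodule.mem_sup.1 ht
    obtain ⟨k, hk, z, hz, hkz⟩ := Submodule.mem_sup.1 hy
    obtain ⟨b, hb⟩ := Ideal.mem_span_singleton'.1 hz
    have htdef : t = k + b * u + w := by rw [hb, hkz, hyw]
    have huJ : u ∈ K ⊔ (Ideal.span {u} ⊔ Ideal.ofList rest) :=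
      Ideal.mem_sup_right (Ideal.mem_sup_left (Ideal.mem_span_singleton_self u))
    by_cases hbu : IsUnit b
    · refine ⟨rest, rfl, ?_⟩
      apply le_antisymm
      · refine sup_le (sup_le le_sup_left ?_) ((le_sup_right : _ ≤ Ideal.span {u} ⊔ _).trans le_sup_right)
        rw [Ideal.span_singleton_le_iff_mem]
        exact ht0
      · refine sup_le (le_sup_left.trans le_sup_left) (sup_le ?_ le_sup_right)
        rw [Ideal.span_singleton_le_iff_mem]
        obtain ⟨b', rfl⟩ := hbu
        have hu : u = (b'⁻¹ : Tˣ) * (t - k - w) := by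
          rw [htdef]
          have : k + (b' : T) * u + w - k - w = (b' : T) * u := by ring
          rw [this, ← mul_assoc, Units.inv_mul, one_mul]
        rw [hu]
        refine Ideal.mul_mem_left _ _ (Ideal.sub_mem _ (Ideal.sub_mem _ ?_ ?_) ?_)
        · exact Ideal.mem_sup_left (Ideal.mem_sup_right (Ideal.mem_span_singleton_self t))
        · exact Ideal.mem_sup_left (Ideal.mem_sup_left hk)
        · exact Ideal.mem_sup_right hw
    · have hbm : b ∈ maximalIdeal T := (mem_maximalIdeal b).2 hbu
      have ht' : k + w ∈ K ⊔ Ideal.ofList rest :=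
        Ideal.add_mem _ (Ideal.mem_sup_left hk) (Ideal.mem_sup_right hw)
      have hnt' : k + w ∉ K ⊔ maximalIdeal T * (K ⊔ Ideal.ofList rest) := by
        intro hmem
        apply hnt
        have h1 : K ⊔ maximalIdeal T * (K ⊔ Ideal.ofList rest) ≤
            K ⊔ maximalIdeal T * (K ⊔ (Ideal.span {u} ⊔ Ideal.ofList rest)) :=
          sup_le_sup_left (Ideal.mul_mono_right (sup_le_sup_left le_sup_right K)) K
        have h2 : b * u ∈ K ⊔ maximalIdeal T * (K ⊔ (Ideal.span {u} ⊔ Ideal.ofList rest)) :=
          Ideal.mem_sup_right (Ideal.mul_mem_mul hbm huJ)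
        have h3 : t = (k + w) + b * u := by rw [htdef]; ring
        rw [h3]
        exact Ideal.add_mem _ (h1 hmem) h2
      obtain ⟨rest', hlen, heq⟩ := ih (k + w) ht' hnt'
      refine ⟨u :: rest', by simp [hlen], ?_⟩
      rw [Ideal.ofList_cons]
      have hbuS : b * u ∈ Ideal.span {u} := Ideal.mul_mem_left _ _ (Ideal.mem_span_singleton_self u)
      apply le_antisymm
      · refine sup_le (sup_le le_sup_left ?_) (sup_le ((le_sup_left : _ ≤ _ ⊔ Ideal.ofList rest).trans le_sup_right) ?_)
        · rw [Ideal.span_singleton_le_iff_mem]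
          exact ht0
        · have h1 : Ideal.ofList rest' ≤ K ⊔ Ideal.ofList rest := heq ▸ le_sup_right
          exact h1.trans (sup_le_sup_left le_sup_right K)
      · have hkw : k + w ∈ K ⊔ Ideal.span {t} ⊔ (Ideal.span {u} ⊔ Ideal.ofList rest') := by
          have h3 : k + w = t - b * u := by rw [htdef]; ring
          rw [h3]
          exact Ideal.sub_mem _ (Ideal.mem_sup_left (Ideal.mem_sup_right (Ideal.mem_span_singleton_self t)))
            (Ideal.mem_sup_right (Ideal.mem_sup_left hbuS))
        have h4 : K ⊔ Ideal.ofList rest ≤ K ⊔ Ideal.span {t} ⊔ (Ideal.span {u} ⊔ Ideal.ofList rest') := by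
          rw [← heq]
          refine sup_le (sup_le (le_sup_left.trans le_sup_left) ?_) ((le_sup_right : _ ≤ Ideal.span {u} ⊔ _).trans le_sup_right)
          rw [Ideal.span_singleton_le_iff_mem]
          exact hkw
        refine sup_le (le_sup_left.trans le_sup_left) (sup_le ?_ (le_sup_right.trans h4))
        exact (le_sup_left : _ ≤ _ ⊔ Ideal.ofList rest').trans le_sup_right

theorem ofList_toList (s : Finset T) : Ideal.ofList s.toList = Ideal.span (s : Set T) := by
  unfold Ideal.ofList
  congr 1
  ext x
  simp

theorem spanFinrank_ofList_le (ts : List T) : Submodule.spanFinrank (Ideal.ofList ts) ≤ ts.length := by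
  classical
  have h1 : {r | r ∈ ts} = ((ts.toFinset : Finset T) : Set T) := by ext; simp
  unfold Ideal.ofList
  calc Submodule.spanFinrank (Ideal.span {r | r ∈ ts}) ≤ {r | r ∈ ts}.ncard :=
        Submodule.spanFinrank_span_le_ncard_of_finite (List.finite_toSet ts)
    _ = ts.toFinset.card := by rw [h1, Set.ncard_coe_finset]
    _ ≤ ts.length := List.toFinset_card_le ts

variable [IsNoetherianRing T]

theorem main (J : Ideal T) (hJ : J ≠ ⊤) (j : ℕ) (hj : LocCoh.idealDepth J T = j) :
    j ≤ Submodule.spanFinrank J ∧
      ∃ ts : List T, ts.length = Submodule.spanFinrank J ∧ Ideal.ofList ts = J ∧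
        RingTheory.Sequence.IsRegular T (ts.take j) := by
  classical
  have hIM : J • (⊤ : Submodule T T) ≠ ⊤ := by
    rw [smul_eq_mul, Ideal.mul_top]
    exact hJ
  have key : ∀ i : ℕ, i ≤ j → ∃ ts us : List T, ts.length = i ∧
      ts.length + us.length = Submodule.spanFinrank J ∧ Ideal.ofList (ts ++ us) = J ∧
      IsWeaklyRegular T ts := by
    intro i
    induction i with
    | zero =>
      intro _
      obtain ⟨s, hs1, hs2⟩ := Submodule.FG.exists_span_finset_card_eq_spanFinrank
        (IsNoetherian.noetherian J)
      refine ⟨[], s.toList, rfl, by simp [hs1], ?_, IsWeaklyRegular.nil T T⟩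
      rw [List.nil_append, ofList_toList]
      exact hs2
    | succ i ih =>
      intro hi
      obtain ⟨ts, us, hlen, hsum, hgen, hreg⟩ := ih (by omega)
      have hmem : ∀ r ∈ ts, r ∈ J := by
        intro r hr
        rw [← hgen]
        exact Ideal.subset_span (by simp [hr])
      have hdep := idealDepth_quot_ofList_add_length J T hIM ts hmem hreg
      have h1 : 1 ≤ LocCoh.idealDepth J (T ⧸ (Ideal.ofList ts • ⊤ : Submodule T T)) := by
        rw [hj, hlen] at hdep
        by_contra hlt
        rw [not_le, Order.lt_one_iff] at hlt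
        rw [hlt, zero_add] at hdep
        have : i = j := by exact_mod_cast hdep
        omega
      have hIM' : J • (⊤ : Submodule T (T ⧸ (Ideal.ofList ts • ⊤ : Submodule T T))) ≠ ⊤ :=
        smul_top_quot_ofList_ne_top J hmem hIM
      obtain ⟨r, hrJ, hrreg⟩ := (one_le_idealDepth_iff hIM').1 h1
      have hle : Ideal.ofList ts ≤ J := ofList_le_of_forall_mem hmem
      have hne : (Ideal.ofList ts • ⊤ : Submodule T T) ≠ ⊤ := by
        intro h
        apply hIM
        exact top_le_iff.1 (h.ge.trans (Submodule.smul_mono_left hle))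
      haveI : Nontrivial (T ⧸ (Ideal.ofList ts • ⊤ : Submodule T T)) :=
        Submodule.Quotient.nontrivial_iff.2 hne
      -- `us` is not empty
      have hus : us ≠ [] := by
        rintro rfl
        rw [List.append_nil] at hgen
        have hz : ∀ m : T ⧸ (Ideal.ofList ts • ⊤ : Submodule T T), r • m = 0 := by
          intro m
          obtain ⟨x, rfl⟩ := Submodule.Quotient.mk_surjective _ m
          rw [← Submodule.Quotient.mk_smul, Submodule.Quotient.mk_eq_zero]
          exact Submodule.smul_mem_smul (hgen ▸ hrJ) trivial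
        obtain ⟨m, hm⟩ := exists_ne (0 : T ⧸ (Ideal.ofList ts • ⊤ : Submodule T T))
        exact hm (hrreg (by change r • m = r • 0; rw [hz, smul_zero]))
      have huslen : us.length ≠ 0 := fun h => hus (List.length_eq_zero_iff.1 h)
      -- prime avoidance
      set Q : Ideal T := Ideal.ofList ts ⊔ maximalIdeal T * J with hQ
      have hJQ : ¬ J ≤ Q := by
        intro hJQ
        have h2 : J ≤ Ideal.ofList ts :=
          Submodule.le_of_le_smul_of_le_jacobson_bot (I := maximalIdeal T) (IsNoetherian.noetherian J)
            (maximalIdeal_le_jacobson ⊥) hJQ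
        have h3 := spanFinrank_ofList_le ts
        rw [le_antisymm hle h2] at h3
        omega
      have hfin : (associatedPrimes T (T ⧸ (Ideal.ofList ts • ⊤ : Submodule T T))).Finite :=
        associatedPrimes.finite T _
      have hzd := biUnion_associatedPrimes_eq_zero_divisors T (T ⧸ (Ideal.ofList ts • ⊤ : Submodule T T))
      have hav := Ideal.subset_union_prime (R := T) (s := insert Q hfin.toFinset) (f := id) Q Q
        (by
          intro P hP hPa _
          rw [Finset.mem_insert] at hP
          rcases hP with rfl | hP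
          · exact absurd rfl hPa
          · exact ((Set.Finite.mem_toFinset hfin).1 hP).isPrime) (I := J)
      have hnot : ¬ ∃ P ∈ insert Q hfin.toFinset, J ≤ id P := by
        rintro ⟨P, hP, hJP⟩
        rw [Finset.mem_insert] at hP
        rcases hP with rfl | hP
        · exact hJQ hJP
        · have hP' := (Set.Finite.mem_toFinset hfin).1 hP
          have hrP : r ∈ ⋃ p ∈ associatedPrimes T (T ⧸ (Ideal.ofList ts • ⊤ : Submodule T T)), (p : Set T) :=
            Set.mem_biUnion hP' (hJP hrJ)
          rw [hzd] at hrP
          obtain ⟨x, hx0, hx⟩ := hrP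
          exact hx0 (hrreg (by change r • x = r • 0; rw [hx, smul_zero]))
      rw [← hav] at hnot
      obtain ⟨t, htJ, htn⟩ := Set.not_subset.1 hnot
      have htQ : t ∉ Q := fun h => htn (Set.mem_biUnion (Finset.mem_coe.2 (Finset.mem_insert_self _ _)) h)
      have htreg : IsSMulRegular (T ⧸ (Ideal.ofList ts • ⊤ : Submodule T T)) t := by
        rw [isSMulRegular_iff_right_eq_zero_of_smul]
        intro x hx
        by_contra hx0
        have h5 : t ∈ ⋃ p ∈ associatedPrimes T (T ⧸ (Ideal.ofList ts • ⊤ : Submodule T T)), (p : Set T) := by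
          rw [hzd]
          exact ⟨x, hx0, hx⟩
        obtain ⟨P, hP, htP⟩ := Set.mem_iUnion₂.1 h5
        exact htn (Set.mem_biUnion (Finset.mem_coe.2 (Finset.mem_insert_of_mem
          ((Set.Finite.mem_toFinset hfin).2 hP))) htP)
      -- exchange
      obtain ⟨us', hlen', heq⟩ := exists_exchange (Ideal.ofList ts) us t
        (by rw [← Ideal.ofList_append, hgen]; exact htJ)
        (by rw [← Ideal.ofList_append, hgen]; exact htQ)
      refine ⟨ts ++ [t], us', by simp [hlen], ?_, ?_, ?_⟩
      · simp only [List.length_append, List.length_singleton]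
        omega
      · rw [Ideal.ofList_append, Ideal.ofList_append, Ideal.ofList_singleton, heq,
          ← Ideal.ofList_append, hgen]
      · exact (isWeaklyRegular_append_iff T ts [t]).2
          ⟨hreg, (isWeaklyRegular_singleton_iff _ t).2 htreg⟩
  obtain ⟨ts, us, hlen, hsum, hgen, hreg⟩ := key j le_rfl
  have hmem : ∀ r ∈ ts, r ∈ J := by
    intro r hr
    rw [← hgen]
    exact Ideal.subset_span (by simp [hr])
  refine ⟨by omega, ts ++ us, by simp [hsum], hgen, ?_⟩
  rw [← hlen, List.take_left']
  · exact isRegular_of_isWeaklyRegular_of_mem hreg hmem hIM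
  · rfl

end Groth.Agent.Lib.T2H3.RegPrefix
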