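import Mathlib
import Groth.Agent.Lib.T2H7FPFlatF
import Groth.Agent.Lib.T2H3FibSchDense
import Groth.Agent.Lib.Helper20EffCartier
import Groth.Agent.Lib.Helper20RelCartier
import Groth.Agent.Lib.T2H6BlowUpFlatBC
import Groth.Agent.Lib.Helper3FibEtSch

/-!
# Relative effective Cartier divisors from the fibres (helper3)

Algebraic core: `B` flat and finitely presented over `A`, `f : B` such that `f ⊗ 1` is a
nonzerodivisor on every fibre ring `B ⊗[A] κ(p)`.  Then `f` is a nonzerodivisor of `B` and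
`B ⧸ (f)` is flat over `A` (EGA IV 11.3.8, via helper7's engine `T2H7.FPFlat`).
-/

set_option autoImplicit false
set_option linter.unusedVariables false
set_option linter.unusedSectionVars false
set_option linter.style.haveILetI false
universe u
open TensorProduct CategoryTheory CategoryTheory.Limits AlgebraicGeometry

namespace Groth.Agent.Lib.T2H3.RelCartier

section AlgCore

variable {A B : Type u} [CommRing A] [CommRing B] [Algebra A B]

/-- localization preserves regularity of an element. -/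
theorem isSMulRegular_localizedModule {M : Type u} [AddCommGroup M] [Module B M]
    (S : Submonoid B) (f : B) (h : IsSMulRegular M f) :
    IsSMulRegular (LocalizedModule S M) f := by
  rw [isSMulRegular_iff_right_eq_zero_of_smul] at h ⊢
  intro x hx
  induction x using LocalizedModule.induction_on with
  | h m s =>
    rw [LocalizedModule.smul'_mk, ← LocalizedModule.zero_mk s, LocalizedModule.mk_eq] at hx
    obtain ⟨t, ht⟩ := hx
    rw [smul_zero, smul_zero] at ht
    have h1 : f • ((t : B) • (s : B) • m) = 0 := by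
      rw [smul_comm f, smul_comm f]
      exact ht
    have h2 := h _ h1
    rw [← LocalizedModule.zero_mk s, LocalizedModule.mk_eq]
    exact ⟨t, by rw [smul_zero, smul_zero]; exact h2⟩

/-- regularity of an element can be checked on the localizations at maximal ideals. -/
theorem isSMulRegular_of_forall_localizedModule {M : Type u} [AddCommGroup M] [Module B M] (f : B)
    (h : ∀ (q : Ideal B) [q.IsMaximal], IsSMulRegular (LocalizedModule q.primeCompl M) f) :
    IsSMulRegular M f := by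
  rw [isSMulRegular_iff_right_eq_zero_of_smul]
  intro m hm
  refine Module.eq_zero_of_localization_maximal _
    (fun (P : Ideal B) _ => LocalizedModule.mkLinearMap P.primeCompl M) m ?_
  intro P _
  have h1 := (isSMulRegular_iff_right_eq_zero_of_smul.mp (h P))
    (LocalizedModule.mkLinearMap P.primeCompl M m)
  apply h1
  rw [← map_smul, hm, map_zero]

open Groth.Agent.Lib.T2H7.FPFlat in
/-- local form of the core: at a prime `q` of `B`. -/
theorem regular_and_flat_at [Module.Flat A B] [Algebra.FinitePresentation A B] (f : B)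
    (q : Ideal B) [q.IsPrime]
    (H : IsSMulRegular (B ⊗[A] (q.under A).ResidueField) f) :
    IsSMulRegular (LocalizedModule q.primeCompl B) f ∧
      Module.Flat A (LocalizedModule q.primeCompl (B ⧸ (Ideal.span {f} • ⊤ : Submodule B B))) := by
  haveI : q.LiesOver (q.under A) := ⟨rfl⟩
  have hflat : Module.Flat A (LocalizedModule q.primeCompl B) := by
    haveI : Module.Flat B (LocalizedModule q.primeCompl B) := inferInstance
    exact Module.Flat.trans A B _
  have hreg : RingTheory.Sequence.IsWeaklyRegular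
      (LocalizedModule q.primeCompl (B ⊗[A] (q.under A).ResidueField)) [f] :=
    (RingTheory.Sequence.isWeaklyRegular_singleton_iff _ f).mpr
      (isSMulRegular_localizedModule _ f H)
  have hΦ := flat_quotients_of_isWeaklyRegular_fibre (q.under A) q [f] hflat hreg
  constructor
  · have hw : RingTheory.Sequence.IsWeaklyRegular (LocalizedModule q.primeCompl B) [f] :=
      ⟨fun i hi => (regular_and_flat_step (q.under A) q (Ideal.ofList ([f].take i))
        (ofList_fg _) [f][i] (hΦ i hi.le) (hreg.regular_mod_prev i hi)).1⟩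
    exact (RingTheory.Sequence.isWeaklyRegular_singleton_iff _ f).mp hw
  · have h1 := hΦ 1 (by simp)
    have e : Ideal.ofList ([f].take 1) = Ideal.span {f} := by
      rw [show [f].take 1 = [f] from rfl, Ideal.ofList_singleton]
    rw [e] at h1
    exact h1

/-- **Core**: fibrewise regularity of `f` gives regularity of `f` and flatness of `B ⧸ (f)`. -/
theorem nzd_and_flat_of_fibrewise_regular [Module.Flat A B] [Algebra.FinitePresentation A B]
    (f : B) (H : ∀ (p : Ideal A) [p.IsPrime], IsSMulRegular (B ⊗[A] p.ResidueField) f) :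
    f ∈ nonZeroDivisors B ∧ Module.Flat A (B ⧸ Ideal.span {f}) := by
  have key : ∀ (q : Ideal B) [q.IsPrime],
      IsSMulRegular (LocalizedModule q.primeCompl B) f ∧
      Module.Flat A (LocalizedModule q.primeCompl (B ⧸ (Ideal.span {f} • ⊤ : Submodule B B))) :=
    fun q _ => regular_and_flat_at (A := A) f q (H (q.under A))
  constructor
  · have h1 : IsSMulRegular B f :=
      isSMulRegular_of_forall_localizedModule f (fun q hq => (key q).1)
    rw [mem_nonZeroDivisors_iff_right]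
    intro b hb
    apply (isSMulRegular_iff_right_eq_zero_of_smul.mp h1) b
    rw [smul_eq_mul, mul_comm]
    exact hb
  · have h2 : Module.Flat A (B ⧸ (Ideal.span {f} • ⊤ : Submodule B B)) :=
      Module.flat_of_isLocalized_maximal B (B ⧸ (Ideal.span {f} • ⊤ : Submodule B B))
        (fun P _ => LocalizedModule P.primeCompl (B ⧸ (Ideal.span {f} • ⊤ : Submodule B B)))
        (fun P _ => LocalizedModule.mkLinearMap P.primeCompl _)
        (fun P hP => (key P).2)
    have e : (Ideal.span {f} • ⊤ : Submodule B B) = Ideal.span {f} := by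
      rw [smul_eq_mul, Ideal.mul_top]
    exact Module.Flat.of_linearEquiv
      ((Submodule.quotEquivOfEq _ _ e).symm.restrictScalars A)

end AlgCore

section Sch

/-- if `(a) = (g)` with `g` a nonzerodivisor then `a` is a nonzerodivisor. -/
theorem mem_nonZeroDivisors_of_span_eq {R : Type u} [CommRing R] {a g : R}
    (hg : g ∈ nonZeroDivisors R) (h : Ideal.span {a} = Ideal.span {g}) :
    a ∈ nonZeroDivisors R := by
  have h1 : a ∈ Ideal.span {g} := h ▸ Ideal.mem_span_singleton_self a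
  have h2 : g ∈ Ideal.span {a} := h.symm ▸ Ideal.mem_span_singleton_self g
  obtain ⟨u, hu⟩ := Ideal.mem_span_singleton'.mp h1
  obtain ⟨v, hv⟩ := Ideal.mem_span_singleton'.mp h2
  rw [mem_nonZeroDivisors_iff_right]
  intro x hx
  apply (mem_nonZeroDivisors_iff_right.mp hg) x
  rw [← hv]
  calc x * (v * a) = v * (x * a) := by ring
    _ = 0 := by rw [hx, mul_zero]

open Groth.Agent.Lib.Helper20.EffCartier in
/-- a generator over an affine open of an effective Cartier ideal is a nonzerodivisor. -/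
theorem mem_nonZeroDivisors_of_isEffCartierIdeal {X : Scheme.{u}} {I : X.IdealSheafData}
    (h : BlowUp.IsEffCartierIdeal I) {U : X.Opens} (hU : IsAffineOpen U) (F : Γ(X, U))
    (hF : I.ideal ⟨U, hU⟩ = Ideal.span {F}) : F ∈ nonZeroDivisors Γ(X, U) := by
  rw [mem_nonZeroDivisors_iff_right]
  intro r hr
  refine TopCat.Presheaf.section_ext X.sheaf U r 0 ?_
  intro y hy
  obtain ⟨V, hV, hyV, hVU, g, hg, hIg⟩ := exists_le_of_isEffCartierIdeal h y U hy
  have hVU' : V ≤ (𝟙 X) ⁻¹ᵁ U := hVU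
  have h1 := ideal_comap_eq_map (𝟙 X) I hV hU hVU'
  rw [Scheme.IdealSheafData.comap_id, hF, Ideal.map_span, Set.image_singleton, hIg] at h1
  have h2 : ((𝟙 X : X ⟶ X).appLE U V hVU').hom F ∈ nonZeroDivisors Γ(X, V) :=
    mem_nonZeroDivisors_of_span_eq hg h1.symm
  have h3 : ((𝟙 X : X ⟶ X).appLE U V hVU').hom r = 0 := by
    apply (mem_nonZeroDivisors_iff_right.mp h2)
    rw [← map_mul, hr, map_zero]
  have h4 : (𝟙 X : X ⟶ X).appLE U V hVU' = X.presheaf.map (homOfLE hVU).op := by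
    rw [Scheme.Hom.appLE]
    simp only [Scheme.Hom.id_app]
    exact Category.id_comp (X.presheaf.map (homOfLE hVU).op)
  rw [h4] at h3
  have h5 := TopCat.Presheaf.germ_res_apply X.presheaf (homOfLE hVU) y hyV r
  have h6 : X.presheaf.germ U y hy r = 0 := by
    rw [← h5, h3]
    exact map_zero _
  show X.presheaf.germ U y hy r = X.presheaf.germ U y hy 0
  rw [h6]
  exact (map_zero _).symm

/-- the map on global sections of `Spec.map ι ≫ hU.fromSpec`. -/
theorem appLE_SpecMap_fromSpec {X : Scheme.{u}} {U : X.Opens} (hU : IsAffineOpen U)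
    {R : CommRingCat.{u}} (ι : Γ(X, U) ⟶ R)
    (hle : (⊤ : (Spec R).Opens) ≤ (Spec.map ι ≫ hU.fromSpec) ⁻¹ᵁ U) :
    (Spec.map ι ≫ hU.fromSpec).appLE U ⊤ hle = ι ≫ (Scheme.ΓSpecIso R).inv := by
  haveI : IsOpenImmersion hU.fromSpec := hU.isOpenImmersion_fromSpec
  apply Spec.map_injective
  rw [← cancel_mono hU.fromSpec,
    IsAffineOpen.SpecMap_appLE_fromSpec (Spec.map ι ≫ hU.fromSpec) hU (isAffineOpen_top _) hle,
    IsAffineOpen.fromSpec_top, Scheme.isoSpec_Spec_inv, Spec.map_comp, Category.assoc]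

open Groth.Agent.Lib.Helper20.EffCartier in
/-- if the inverse image of `𝓘` along `Spec R ⟶ U ⊆ X` is effective Cartier and `𝓘(U) = (f)`, then
the image of `f` in `R` is a nonzerodivisor. -/
theorem mem_nonZeroDivisors_of_chart {X : Scheme.{u}} (𝓘 : X.IdealSheafData) {U : X.Opens}
    (hU : IsAffineOpen U) (f : Γ(X, U)) (hf : 𝓘.ideal ⟨U, hU⟩ = Ideal.span {f})
    {R : CommRingCat.{u}} (ι : Γ(X, U) ⟶ R)
    (hJ : BlowUp.IsEffCartierIdeal (𝓘.comap (Spec.map ι ≫ hU.fromSpec))) :
    ι.hom f ∈ nonZeroDivisors R := by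
  have hle : (⊤ : (Spec R).Opens) ≤ (Spec.map ι ≫ hU.fromSpec) ⁻¹ᵁ U := by
    intro y _
    show (Spec.map ι ≫ hU.fromSpec) y ∈ U
    rw [Scheme.Hom.comp_apply]
    have h0 : hU.fromSpec ((Spec.map ι) y) ∈ Set.range hU.fromSpec := Set.mem_range_self _
    rw [hU.range_fromSpec] at h0
    exact h0
  have htop := ideal_comap_eq_map (Spec.map ι ≫ hU.fromSpec) 𝓘 (isAffineOpen_top (Spec R)) hU hle
  rw [hf, Ideal.map_span, Set.image_singleton, appLE_SpecMap_fromSpec hU ι hle] at htop
  have hF := mem_nonZeroDivisors_of_isEffCartierIdeal hJ (isAffineOpen_top (Spec R)) _ htop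
  rw [mem_nonZeroDivisors_iff_right]
  intro z hz
  have h1 : (Scheme.ΓSpecIso R).inv.hom z = 0 := by
    apply (mem_nonZeroDivisors_iff_right.mp hF)
    have h2 : (Scheme.ΓSpecIso R).inv.hom z * (ι ≫ (Scheme.ΓSpecIso R).inv).hom f =
        (Scheme.ΓSpecIso R).inv.hom (z * ι.hom f) := by
      rw [CommRingCat.hom_comp, RingHom.comp_apply, map_mul]
    rw [h2, hz, map_zero]
  have h4 := congrArg (Scheme.ΓSpecIso R).hom.hom h1
  rw [map_zero] at h4
  have h5 : (Scheme.ΓSpecIso R).hom.hom ((Scheme.ΓSpecIso R).inv.hom z) = z := by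
    rw [← RingHom.comp_apply, ← CommRingCat.hom_comp, Iso.inv_hom_id]
    rfl
  rw [h5] at h4
  exact h4

open Groth.Agent.Lib.Helper3.FibEtSch Groth.Agent.Lib.T2H3.FibSchDense in
/-- **Step A**: a local generator of `𝓘` is regular on the fibre ring when the inverse image of `𝓘`
on the fibre is effective Cartier. -/
theorem isSMulRegular_fibre {X S : Scheme.{u}} (φ : X ⟶ S) (𝓘 : X.IdealSheafData)
    {W : S.Opens} (hW : IsAffineOpen W) {U : X.Opens} (hU : IsAffineOpen U) (hUW : U ≤ φ ⁻¹ᵁ W)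
    (f : Γ(X, U)) (hf : 𝓘.ideal ⟨U, hU⟩ = Ideal.span {f})
    (P : Spec Γ(S, W))
    (hfib : BlowUp.IsEffCartierIdeal (𝓘.comap (φ.fiberι (hW.fromSpec P)))) :
    letI := (φ.appLE W U hUW).hom.toAlgebra
    IsSMulRegular (Γ(X, U) ⊗[Γ(S, W)] P.asIdeal.ResidueField) f := by
  letI := (φ.appLE W U hUW).hom.toAlgebra
  obtain ⟨θ, hθiso, hθ⟩ := exists_residueField_iso hW P _ rfl
  obtain ⟨j, hjo, hj1, -⟩ := exists_fibre_chart_range φ hW hU hUW P _ θ hθ
  haveI : IsOpenImmersion j := hjo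
  haveI : Flat j := inferInstance
  have hJ0 := Groth.Agent.Lib.T2H6.BlowUpFlatBC.isEffCartier_comap_of_flat j _ hfib
  rw [← Scheme.IdealSheafData.comap_comp, hj1] at hJ0
  have hnzd := mem_nonZeroDivisors_of_chart 𝓘 hU f hf _ hJ0
  rw [isSMulRegular_iff_right_eq_zero_of_smul]
  intro z hz
  apply (mem_nonZeroDivisors_iff_right.mp hnzd) z
  rw [mul_comm]
  rw [Algebra.smul_def] at hz
  exact hz

/-- the ideal of `I` on an affine open disjoint from the support is the unit ideal. -/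
theorem ideal_eq_top_of_disjoint {X : Scheme.{u}} (I : X.IdealSheafData) (U : X.affineOpens)
    (h : Disjoint (I.support : Set X) (U.1 : Set X)) : I.ideal U = ⊤ := by
  have h1 := I.coe_support_inter U
  rw [Set.disjoint_iff_inter_eq_empty.mp h] at h1
  have h2 := U.2.fromSpec_image_zeroLocus (I.ideal U : Set Γ(X, U.1))
  rw [← h1, Set.image_eq_empty] at h2
  exact PrimeSpectrum.zeroLocus_empty_iff_eq_top.mp h2

/-- **Step B–D**: on an affine chart where `𝓘` is principal, the generator is a nonzerodivisor and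
the quotient is flat over the base. -/
theorem nzd_and_flat_of_principal {X S : Scheme.{u}} (φ : X ⟶ S) [Flat φ]
    [LocallyOfFinitePresentation φ] (𝓘 : X.IdealSheafData)
    (hfib : ∀ s : S, BlowUp.IsEffCartierIdeal (𝓘.comap (φ.fiberι s)))
    {W : S.Opens} (hW : IsAffineOpen W) {U : X.Opens} (hU : IsAffineOpen U) (hUW : U ≤ φ ⁻¹ᵁ W)
    (f : Γ(X, U)) (hf : 𝓘.ideal ⟨U, hU⟩ = Ideal.span {f}) :
    f ∈ nonZeroDivisors Γ(X, U) ∧
      (letI := (φ.appLE W U hUW).hom.toAlgebra
       Module.Flat Γ(S, W) (Γ(X, U) ⧸ 𝓘.ideal ⟨U, hU⟩)) := by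
  letI := (φ.appLE W U hUW).hom.toAlgebra
  haveI : Module.Flat Γ(S, W) Γ(X, U) :=
    HasRingHomProperty.appLE (P := @Flat) φ inferInstance ⟨W, hW⟩ ⟨U, hU⟩ hUW
  haveI : Algebra.FinitePresentation Γ(S, W) Γ(X, U) :=
    HasRingHomProperty.appLE (P := @LocallyOfFinitePresentation) φ inferInstance ⟨W, hW⟩ ⟨U, hU⟩ hUW
  have H : ∀ (p : Ideal Γ(S, W)) [p.IsPrime],
      IsSMulRegular (Γ(X, U) ⊗[Γ(S, W)] p.ResidueField) f :=
    fun p hp => isSMulRegular_fibre φ 𝓘 hW hU hUW f hf ⟨p, hp⟩ (hfib _)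
  obtain ⟨h1, h2⟩ := nzd_and_flat_of_fibrewise_regular f H
  rw [hf]
  exact ⟨h1, h2⟩

/-- **Relative effective Cartier divisors from the fibres** (locally principal case). -/
theorem isEffCartier_and_flat_of_locPrincipal {X S : Scheme.{u}} (φ : X ⟶ S) [Flat φ]
    [LocallyOfFinitePresentation φ] (𝓘 : X.IdealSheafData) (hZ : Curv2.IsLocPrincipal 𝓘)
    (hfib : ∀ s : S, BlowUp.IsEffCartierIdeal (𝓘.comap (φ.fiberι s))) :
    BlowUp.IsEffCartierIdeal 𝓘 ∧ Flat (𝓘.subschemeι ≫ φ) := by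
  have key : ∀ x : X, ∃ (W : S.Opens) (_ : IsAffineOpen W) (U : X.Opens) (hU : IsAffineOpen U)
      (_ : x ∈ U) (hUW : U ≤ φ ⁻¹ᵁ W) (f : Γ(X, U)), f ∈ nonZeroDivisors Γ(X, U) ∧
        𝓘.ideal ⟨U, hU⟩ = Ideal.span {f} ∧
      (letI := (φ.appLE W U hUW).hom.toAlgebra
       Module.Flat Γ(S, W) (Γ(X, U) ⧸ 𝓘.ideal ⟨U, hU⟩)) := by
    intro x
    obtain ⟨_, ⟨W, hW, rfl⟩, hxW, -⟩ := S.isBasis_affineOpens.exists_subset_of_mem_open
      (Set.mem_univ (φ x)) isOpen_univ
    by_cases hx : x ∈ 𝓘.support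
    · obtain ⟨U₀, hxU₀, f₀, hf₀⟩ := hZ x hx
      obtain ⟨r, hrW, hxr⟩ := U₀.2.exists_basicOpen_le (V := φ ⁻¹ᵁ W) ⟨x, hxW⟩ hxU₀
      have hf : 𝓘.ideal ⟨X.basicOpen r, U₀.2.basicOpen r⟩ =
          Ideal.span {(X.presheaf.map (homOfLE (X.basicOpen_le r)).op).hom f₀} := by
        have h2 := 𝓘.map_ideal_basicOpen U₀ r
        rw [hf₀, Ideal.map_span, Set.image_singleton] at h2
        exact h2.symm
      obtain ⟨h1, h2⟩ := nzd_and_flat_of_principal φ 𝓘 hfib hW (U₀.2.basicOpen r) hrW _ hf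
      exact ⟨W, hW, X.basicOpen r, U₀.2.basicOpen r, hxr, hrW, _, h1, hf, h2⟩
    · have hopen : IsOpen ((φ ⁻¹ᵁ W : Set X) ∩ (𝓘.support : Set X)ᶜ) :=
        (φ ⁻¹ᵁ W).isOpen.inter 𝓘.support.isClosed.isOpen_compl
      obtain ⟨_, ⟨U, hU, rfl⟩, hxU, hUO⟩ := X.isBasis_affineOpens.exists_subset_of_mem_open
        (show x ∈ (φ ⁻¹ᵁ W : Set X) ∩ (𝓘.support : Set X)ᶜ from ⟨hxW, hx⟩) hopen
      have hUW : U ≤ φ ⁻¹ᵁ W := fun y hy => (hUO hy).1
      have htop : 𝓘.ideal ⟨U, hU⟩ = ⊤ := ideal_eq_top_of_disjoint 𝓘 ⟨U, hU⟩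
        (Set.disjoint_left.mpr fun y hy hyU => (hUO hyU).2 hy)
      refine ⟨W, hW, U, hU, hxU, hUW, 1, one_mem _, ?_, ?_⟩
      · rw [htop, Ideal.span_singleton_one]
      · letI := (φ.appLE W U hUW).hom.toAlgebra
        rw [htop]
        haveI : Subsingleton (Γ(X, U) ⧸ (⊤ : Ideal Γ(X, U))) :=
          Ideal.Quotient.subsingleton_iff.mpr rfl
        infer_instance
  constructor
  · intro x
    obtain ⟨W, hW, U, hU, hxU, hUW, f, hf1, hf2, -⟩ := key x
    exact ⟨⟨U, hU⟩, hxU, f, hf1, hf2⟩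
  · refine Groth.Agent.Lib.Helper20.RelCartier.flat_of_local φ 𝓘 ?_
    intro x
    obtain ⟨W, hW, U, hU, hxU, hUW, f, -, -, hfl⟩ := key x
    exact ⟨W, hW, U, hU, hxU, hUW, hfl⟩

end Sch

end Groth.Agent.Lib.T2H3.RelCartier
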