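import Mathlib
import Groth.Agent.Lib.T2H3RelCartier
import Groth.Agent.Lib.Helper13Fiber

/-!
# Relative effective Cartier divisors from the fibres: local principality (helper3)

`B` flat over `A`, `I ⊆ B` a finitely generated ideal with `B ⧸ I` flat over `A`.  If the extension of
`I` to the fibre ring `B ⊗ κ(p)` is, near a prime `Q`, generated by the image of `f ∈ I`, then `I` is
generated by `f` near the prime `Q ∩ B` (Nakayama).
-/

set_option autoImplicit false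
set_option linter.unusedVariables false
set_option linter.unusedSectionVars false
set_option linter.style.haveILetI false
universe u
open TensorProduct CategoryTheory CategoryTheory.Limits AlgebraicGeometry

namespace Groth.Agent.Lib.T2H3.RelCartierB

section AlgCore

variable {A B : Type u} [CommRing A] [CommRing B] [Algebra A B]

/-- `B ⧸ I` flat over `A`: `I ∩ pB ⊆ pI` (up to an element outside `p`). -/
theorem exists_smul_mem_mul_of_flat_quotient (I : Ideal B) [Module.Flat A (B ⧸ I)]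
    (p : Ideal A) [p.IsPrime] {z : B} (hzI : z ∈ I) (hzp : z ∈ p.map (algebraMap A B)) :
    ∃ a ∉ p, algebraMap A B a * z ∈ p.map (algebraMap A B) * I := by
  let g : I →ₗ[A] B := (Submodule.subtype I).restrictScalars A
  let π : B →ₗ[A] B ⧸ I := (Submodule.mkQ I).restrictScalars A
  have hinj : Function.Injective (g.lTensor p.ResidueField) :=
    LinearMap.lTensor_injective_of_exact_of_flat π (Submodule.mkQ_surjective I) g
      (Submodule.injective_subtype I) (LinearMap.exact_subtype_mkQ I) p.ResidueField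
  have h0 : (1 : p.ResidueField) ⊗ₜ[A] z = 0 := by
    have hz' : z ∈ (p • ⊤ : Submodule A B) := by
      rw [Ideal.smul_top_eq_map]
      exact hzp
    refine Submodule.smul_induction_on hz' ?_ ?_
    · intro a ha b _
      have h1 : algebraMap A p.ResidueField a = 0 := by
        rw [Ideal.algebraMap_residueField_eq_zero]
        exact ha
      rw [← TensorProduct.smul_tmul, Algebra.smul_def, mul_one, h1, zero_tmul]
    · intro x y hx hy
      rw [tmul_add, hx, hy, add_zero]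
  have h1 : (1 : p.ResidueField) ⊗ₜ[A] (⟨z, hzI⟩ : I) = 0 := by
    apply hinj
    rw [map_zero, LinearMap.lTensor_tmul]
    exact h0
  obtain ⟨t, ht, htz⟩ := Groth.Agent.Helper13Fiber.exists_smul_mem_of_tmul_eq_zero p
    (⟨z, hzI⟩ : I) h1
  refine ⟨t, ht, ?_⟩
  have key : ∀ n : I, n ∈ (p • ⊤ : Submodule A I) → (n : B) ∈ p.map (algebraMap A B) * I := by
    intro n hn
    refine Submodule.smul_induction_on hn ?_ ?_
    · intro a ha m _
      have : ((a • m : I) : B) = algebraMap A B a * (m : B) := by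
        rw [Submodule.coe_smul_of_tower, Algebra.smul_def]
      rw [this]
      exact Ideal.mul_mem_mul (Ideal.mem_map_of_mem _ ha) m.2
    · intro x y hx hy
      rw [Submodule.coe_add]
      exact add_mem hx hy
  have h2 := key _ htz
  rw [Submodule.coe_smul_of_tower, Algebra.smul_def] at h2
  exact h2

/-- Nakayama: if `I` is finitely generated and `I ⊆ (f) + J I` near the prime `q ⊇ J`, then `I` is
generated by `f` near `q`. -/
theorem exists_mul_mem_span_of_le_sup_mul {B : Type u} [CommRing B] (I : Ideal B) (hI : I.FG)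
    (q : Ideal B) [q.IsPrime] (J : Ideal B) (hJ : J ≤ q) (f : B)
    (H : ∀ y ∈ I, ∃ u ∉ q, u * y ∈ Ideal.span {f} ⊔ J * I) :
    ∃ w ∉ q, ∀ y ∈ I, w * y ∈ Ideal.span {f} := by
  let Bq := Localization.AtPrime q
  set I' : Ideal Bq := I.map (algebraMap B Bq) with hI'def
  have hI' : I'.FG := hI.map _
  have hJm : J.map (algebraMap B Bq) ≤ IsLocalRing.maximalIdeal Bq := by
    rw [← Localization.AtPrime.map_eq_maximalIdeal]
    exact Ideal.map_mono hJ
  have hle : I' ≤ Ideal.span {algebraMap B Bq f} ⊔ IsLocalRing.maximalIdeal Bq • I' := by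
    rw [hI'def, Ideal.map_le_iff_le_comap]
    intro y hy
    obtain ⟨u, hu, huy⟩ := H y hy
    rw [Ideal.mem_comap]
    have hunit : IsUnit (algebraMap B Bq u) := IsLocalization.map_units Bq (⟨u, hu⟩ : q.primeCompl)
    obtain ⟨v, hv⟩ := hunit.exists_left_inv
    have h1 : algebraMap B Bq (u * y) ∈
        Ideal.span {algebraMap B Bq f} ⊔ IsLocalRing.maximalIdeal Bq • I' := by
      have h2 := Ideal.mem_map_of_mem (algebraMap B Bq) huy
      rw [Ideal.map_sup, Ideal.map_span, Set.image_singleton, Ideal.map_mul] at h2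
      have h4 : Ideal.map (algebraMap B Bq) J * Ideal.map (algebraMap B Bq) I ≤
          IsLocalRing.maximalIdeal Bq • I' := by
        rw [smul_eq_mul]
        exact Ideal.mul_mono_left hJm
      exact (sup_le_sup_left h4 _) h2
    have h3 : algebraMap B Bq y = v * algebraMap B Bq (u * y) := by
      rw [map_mul, ← mul_assoc, hv, one_mul]
    rw [h3]
    exact Ideal.mul_mem_left _ _ h1
  have hfin : I' ≤ Ideal.span {algebraMap B Bq f} :=
    Submodule.le_of_le_smul_of_le_jacobson_bot hI' (IsLocalRing.maximalIdeal_le_jacobson ⊥) hle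
  have hone : ∀ y ∈ I, ∃ w ∉ q, w * y ∈ Ideal.span {f} := by
    intro y hy
    have h1 : algebraMap B Bq y ∈ Ideal.span {algebraMap B Bq f} :=
      hfin (Ideal.mem_map_of_mem _ hy)
    obtain ⟨c, hc⟩ := Ideal.mem_span_singleton'.mp h1
    obtain ⟨⟨b, s⟩, hbs⟩ := IsLocalization.surj q.primeCompl c
    have h2 : algebraMap B Bq (s * y) = algebraMap B Bq (b * f) := by
      rw [map_mul, map_mul, ← hc, ← hbs]
      ring
    obtain ⟨c', hc'⟩ := (IsLocalization.eq_iff_exists q.primeCompl Bq).mp h2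
    refine ⟨c' * s, ?_, ?_⟩
    · exact (c' * s).2
    · rw [Ideal.mem_span_singleton']
      refine ⟨c' * b, ?_⟩
      rw [mul_assoc, mul_assoc, hc']
  obtain ⟨S, hS⟩ := hI
  choose! w hw hwy using hone
  refine ⟨∏ y ∈ S, w y, ?_, ?_⟩
  · intro hmem
    obtain ⟨y, hyS, hy⟩ := (Ideal.IsPrime.prod_mem_iff).mp hmem
    exact hw y (hS ▸ Ideal.subset_span hyS) hy
  · intro y hy
    rw [← hS] at hy
    refine Submodule.span_induction ?_ ?_ ?_ ?_ hy
    · intro x hx
      obtain ⟨c, hc⟩ := Finset.dvd_prod_of_mem w hx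
      rw [hc, mul_comm (w x) c, mul_assoc]
      exact Ideal.mul_mem_left _ _ (hwy x (hS ▸ Ideal.subset_span hx))
    · rw [mul_zero]
      exact zero_mem _
    · intro x y _ _ hx hy
      rw [mul_add]
      exact add_mem hx hy
    · intro a x _ hx
      rw [smul_eq_mul, mul_left_comm]
      exact Ideal.mul_mem_left _ _ hx

/-- **Algebraic core**: `I ⊆ B` finitely generated with `B ⧸ I` flat over `A`; if the extension of `I`
to the fibre ring `B ⊗ κ(p)` is generated by `f ⊗ 1` near the prime `Q`, then `I` is generated by `f`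
near `Q ∩ B`. -/
theorem exists_mul_mem_span_of_fibre (I : Ideal B) (hI : I.FG) [Module.Flat A (B ⧸ I)]
    (p : Ideal A) [p.IsPrime] (Q : Ideal (B ⊗[A] p.ResidueField)) [Q.IsPrime]
    (f : B) (hf : f ∈ I)
    (H : ∀ y ∈ I, ∃ r : B ⊗[A] p.ResidueField, r ∉ Q ∧
      r * (y ⊗ₜ[A] (1 : p.ResidueField)) ∈ Ideal.span {f ⊗ₜ[A] (1 : p.ResidueField)}) :
    ∃ w : B, w ⊗ₜ[A] (1 : p.ResidueField) ∉ Q ∧ ∀ y ∈ I, w * y ∈ Ideal.span {f} := by
  let incl : B →+* B ⊗[A] p.ResidueField :=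
    (Algebra.TensorProduct.includeLeft : B →ₐ[A] B ⊗[A] p.ResidueField).toRingHom
  let q : Ideal B := Q.comap incl
  haveI : q.IsPrime := Ideal.comap_isPrime incl Q
  have hq : ∀ b : B, b ∈ q ↔ b ⊗ₜ[A] (1 : p.ResidueField) ∈ Q := fun b => Iff.rfl
  have F1 : ∀ a : A, a ∉ p → ∀ r : B ⊗[A] p.ResidueField, r ∉ Q → a • r ∉ Q := by
    intro a ha r hr hmem
    have hunit : IsUnit ((1 : B) ⊗ₜ[A] (algebraMap A p.ResidueField a)) := by
      have h0 : IsUnit (algebraMap A p.ResidueField a) := by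
        rw [isUnit_iff_ne_zero, Ne, Ideal.algebraMap_residueField_eq_zero]
        exact ha
      exact h0.map (Algebra.TensorProduct.includeRight :
        p.ResidueField →ₐ[A] B ⊗[A] p.ResidueField)
    have h1 : a • r = ((1 : B) ⊗ₜ[A] (algebraMap A p.ResidueField a)) * r := by
      rw [Algebra.smul_def, Algebra.TensorProduct.algebraMap_apply,
        Algebra.TensorProduct.tmul_one_eq_one_tmul]
    rw [h1] at hmem
    rcases Ideal.IsPrime.mem_or_mem inferInstance hmem with h | h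
    · exact Ideal.IsPrime.ne_top inferInstance (Ideal.eq_top_of_isUnit_mem _ h hunit)
    · exact hr h
  have hone : (1 : B ⊗[A] p.ResidueField) ∉ Q := fun h =>
    Ideal.IsPrime.ne_top inferInstance ((Ideal.eq_top_iff_one Q).mpr h)
  have F1' : ∀ a : A, a ∉ p → algebraMap A B a ∉ q := by
    intro a ha hmem
    rw [hq] at hmem
    refine F1 a ha 1 hone ?_
    have h2 : a • (1 : B ⊗[A] p.ResidueField) = algebraMap A B a ⊗ₜ[A] (1 : p.ResidueField) := by
      rw [Algebra.smul_def, mul_one, Algebra.TensorProduct.algebraMap_apply]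
    rw [h2]
    exact hmem
  have F2 : p.map (algebraMap A B) ≤ q := by
    rw [Ideal.map_le_iff_le_comap]
    intro a ha
    rw [Ideal.mem_comap, hq]
    have h0 : algebraMap A B a ⊗ₜ[A] (1 : p.ResidueField) = 0 := by
      rw [Algebra.algebraMap_eq_smul_one, TensorProduct.smul_tmul, Algebra.smul_def, mul_one,
        (Ideal.algebraMap_residueField_eq_zero).2 ha, tmul_zero]
    rw [h0]
    exact zero_mem _
  have H1 : ∀ y ∈ I, ∃ u ∉ q, u * y ∈ Ideal.span {f} ⊔ p.map (algebraMap A B) := by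
    intro y hy
    obtain ⟨r₀, hr₀, hmem⟩ := H y hy
    obtain ⟨c, hc⟩ := Ideal.mem_span_singleton'.mp hmem
    obtain ⟨s, hs, b₀, hb₀⟩ :=
      Groth.Agent.Lib.T2H7.FPFlat.exists_smul_eq_tmul_one_module p B r₀
    obtain ⟨s', hs', b₁, hb₁⟩ :=
      Groth.Agent.Lib.T2H7.FPFlat.exists_smul_eq_tmul_one_module p B c
    have e1 : (b₀ * algebraMap A B s' * y) ⊗ₜ[A] (1 : p.ResidueField) =
        (s * s') • (r₀ * (y ⊗ₜ[A] (1 : p.ResidueField))) := by
      calc (b₀ * algebraMap A B s' * y) ⊗ₜ[A] (1 : p.ResidueField)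
          = (b₀ ⊗ₜ[A] (1 : p.ResidueField)) * (s' • (y ⊗ₜ[A] (1 : p.ResidueField))) := by
            rw [TensorProduct.smul_tmul', Algebra.TensorProduct.tmul_mul_tmul, mul_one,
              Algebra.smul_def, mul_assoc]
        _ = (s * s') • (r₀ * (y ⊗ₜ[A] (1 : p.ResidueField))) := by
            rw [← hb₀, smul_mul_smul_comm]
    have e2 : (b₁ * algebraMap A B s * f) ⊗ₜ[A] (1 : p.ResidueField) =
        (s * s') • (c * (f ⊗ₜ[A] (1 : p.ResidueField))) := by
      calc (b₁ * algebraMap A B s * f) ⊗ₜ[A] (1 : p.ResidueField)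
          = (b₁ ⊗ₜ[A] (1 : p.ResidueField)) * (s • (f ⊗ₜ[A] (1 : p.ResidueField))) := by
            rw [TensorProduct.smul_tmul', Algebra.TensorProduct.tmul_mul_tmul, mul_one,
              Algebra.smul_def, mul_assoc]
        _ = (s * s') • (c * (f ⊗ₜ[A] (1 : p.ResidueField))) := by
            rw [← hb₁, smul_mul_smul_comm, mul_comm s' s]
    have hzero : (b₀ * algebraMap A B s' * y - b₁ * algebraMap A B s * f) ⊗ₜ[A]
        (1 : p.ResidueField) = 0 := by
      rw [sub_tmul, e1, e2, hc, sub_self]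
    have hx : (b₀ * algebraMap A B s' * y - b₁ * algebraMap A B s * f) ⊗ₜ[A]
        (1 : p.ResidueField) ∈ ((⊥ : Ideal B) • ⊤ : Submodule B (B ⊗[A] p.ResidueField)) := by
      rw [hzero]
      exact zero_mem _
    obtain ⟨a, ha, hax⟩ :=
      Groth.Agent.Lib.T2H7.FPFlat.exists_smul_mem_of_tmul_one_mem_smul_top p (M := B) ⊥ hx
    have hsimp : (p.map (algebraMap A B) • ⊤ ⊔ (⊥ : Ideal B) • ⊤ : Submodule B B) =
        p.map (algebraMap A B) := by
      rw [Submodule.bot_smul, sup_bot_eq, Ideal.smul_eq_mul, Ideal.mul_top]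
    rw [hsimp, smul_eq_mul] at hax
    have hb₀q : b₀ ∉ q := by
      rw [hq, ← hb₀]
      exact F1 s hs r₀ hr₀
    refine ⟨algebraMap A B a * (b₀ * algebraMap A B s'),
      Ideal.IsPrime.mul_notMem inferInstance (F1' a ha)
        (Ideal.IsPrime.mul_notMem inferInstance hb₀q (F1' s' hs')), ?_⟩
    have hsplit : algebraMap A B a * (b₀ * algebraMap A B s') * y =
        (algebraMap A B a * b₁ * algebraMap A B s) * f +
          algebraMap A B a * (b₀ * algebraMap A B s' * y - b₁ * algebraMap A B s * f) := by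
      ring
    rw [hsplit]
    exact Submodule.add_mem_sup (Ideal.mul_mem_left _ _ (Ideal.mem_span_singleton_self f)) hax
  have H2 : ∀ y ∈ I, ∃ u ∉ q, u * y ∈ Ideal.span {f} ⊔ p.map (algebraMap A B) * I := by
    intro y hy
    obtain ⟨u, hu, huy⟩ := H1 y hy
    obtain ⟨x, hx, z, hz, hxz⟩ := Submodule.mem_sup.mp huy
    have hfI : Ideal.span {f} ≤ I := (Ideal.span_singleton_le_iff_mem I).mpr hf
    have hzI : z ∈ I := by
      have h0 : z = u * y - x := by rw [← hxz]; ring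
      rw [h0]
      exact sub_mem (Ideal.mul_mem_left _ _ hy) (hfI hx)
    obtain ⟨a, ha, haz⟩ := exists_smul_mem_mul_of_flat_quotient I p hzI hz
    refine ⟨algebraMap A B a * u, Ideal.IsPrime.mul_notMem inferInstance (F1' a ha) hu, ?_⟩
    rw [mul_assoc, ← hxz, mul_add]
    exact Submodule.add_mem_sup (Ideal.mul_mem_left _ _ hx) haz
  obtain ⟨w, hw, hwy⟩ := exists_mul_mem_span_of_le_sup_mul I hI q _ F2 f H2
  exact ⟨w, fun h => hw ((hq w).mpr h), hwy⟩

end AlgCore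

section Sch

open Groth.Agent.Lib.Helper3.FibEtSch Groth.Agent.Lib.T2H3.FibSchDense
  Groth.Agent.Lib.Helper20.EffCartier

/-- (algebra) an ideal generated by a nonzerodivisor `g` and by a set `Sg`: near any prime one of the
elements of `Sg` generates. -/
theorem exists_mem_generator {C : Type u} [CommRing C] {g : C} (hg : g ∈ nonZeroDivisors C)
    (Sg : Set C) (hSg : Ideal.span Sg = Ideal.span {g}) (𝔮 : Ideal C) [𝔮.IsPrime] :
    ∃ y₀ ∈ Sg, ∃ d ∉ 𝔮, ∀ y ∈ Ideal.span Sg, d * y ∈ Ideal.span {y₀} := by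
  by_contra hcon
  push Not at hcon
  have h1 : Ideal.span Sg ≤ 𝔮 * Ideal.span {g} := by
    rw [Ideal.span_le]
    intro y₀ hy₀
    have h2 : y₀ ∈ Ideal.span {g} := hSg ▸ Ideal.subset_span hy₀
    obtain ⟨d, hd⟩ := Ideal.mem_span_singleton'.mp h2
    by_cases hdq : d ∈ 𝔮
    · rw [← hd]
      exact Ideal.mul_mem_mul hdq (Ideal.mem_span_singleton_self g)
    · exfalso
      obtain ⟨y, hy, hny⟩ := hcon y₀ hy₀ d hdq
      apply hny
      rw [hSg] at hy
      obtain ⟨e, he⟩ := Ideal.mem_span_singleton'.mp hy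
      rw [Ideal.mem_span_singleton']
      exact ⟨e, by rw [← hd, ← he]; ring⟩
  have h3 : g ∈ 𝔮 * Ideal.span {g} := h1 (hSg ▸ Ideal.mem_span_singleton_self g)
  obtain ⟨c, hc, hcg⟩ := Ideal.mem_mul_span_singleton.mp h3
  have h4 : (c - 1) * g = 0 := by rw [sub_mul, hcg, one_mul, sub_self]
  have h5 : c - 1 = 0 := (mem_nonZeroDivisors_iff_right.mp hg) _ h4
  have h6 : c = 1 := sub_eq_zero.mp h5
  exact Ideal.IsPrime.ne_top inferInstance ((Ideal.eq_top_iff_one 𝔮).mpr (h6 ▸ hc))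

/-- an effective Cartier ideal sheaf generated on an affine open `D` by a set `Sg` of sections is,
near any point `Q ∈ D`, generated by one element of `Sg`. -/
theorem exists_generator_near {T : Scheme.{u}} {𝒥 : T.IdealSheafData}
    (h𝒥 : BlowUp.IsEffCartierIdeal 𝒥) (Q : T) {D : T.Opens} (hD : IsAffineOpen D) (hQD : Q ∈ D)
    (Sg : Set Γ(T, D)) (hSg : 𝒥.ideal ⟨D, hD⟩ = Ideal.span Sg) :
    ∃ f ∈ Sg, ∀ y : Γ(T, D), y ∈ 𝒥.ideal ⟨D, hD⟩ → ∃ r₀ : Γ(T, D), Q ∈ T.basicOpen r₀ ∧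
      ∃ c : Γ(T, D), c * f = r₀ * y := by
  obtain ⟨V', hV', hQV', hV'D, g', hg', hIg'⟩ := exists_le_of_isEffCartierIdeal h𝒥 Q D hQD
  obtain ⟨r, hrV', hQr⟩ := hD.exists_basicOpen_le ⟨Q, hQV'⟩ hQD
  have hDr : IsAffineOpen (T.basicOpen r) := hD.basicOpen r
  obtain ⟨hg'', hIg''⟩ :=
    Groth.Agent.Lib.Helper20.RelCartier.restrict_span 𝒥 hDr hV' hrV' g' hg' hIg'
  haveI := hD.isLocalization_basicOpen r
  have hmap : (𝒥.ideal ⟨D, hD⟩).map (algebraMap Γ(T, D) Γ(T, T.basicOpen r)) =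
      𝒥.ideal ⟨T.basicOpen r, hDr⟩ := 𝒥.map_ideal_basicOpen ⟨D, hD⟩ r
  have hspan : Ideal.span ((algebraMap Γ(T, D) Γ(T, T.basicOpen r)) '' Sg) =
      Ideal.span {(T.presheaf.map (homOfLE hrV').op).hom g'} := by
    rw [← Ideal.map_span, ← hSg, hmap, hIg'']
  let γr : Γ(T, T.basicOpen r) →+* T.presheaf.stalk Q :=
    (T.presheaf.germ (T.basicOpen r) Q hQr).hom
  let γ : Γ(T, D) →+* T.presheaf.stalk Q := (T.presheaf.germ D Q hQD).hom
  have hγ : ∀ z : Γ(T, D), γr (algebraMap Γ(T, D) Γ(T, T.basicOpen r) z) = γ z := fun z =>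
    TopCat.Presheaf.germ_res_apply T.presheaf (homOfLE (T.basicOpen_le r)) Q hQr z
  let 𝔮 : Ideal Γ(T, T.basicOpen r) := (IsLocalRing.maximalIdeal (T.presheaf.stalk Q)).comap γr
  haveI : 𝔮.IsPrime := Ideal.comap_isPrime _ _
  obtain ⟨y₀, hy₀, d, hd, hdy⟩ := exists_mem_generator hg'' _ hspan 𝔮
  obtain ⟨f, hfS, rfl⟩ := hy₀
  have hdunit : IsUnit (γr d) := by
    by_contra hnu
    exact hd ((IsLocalRing.mem_maximalIdeal _).mpr hnu)
  have hrunit : IsUnit (γ r) := (T.mem_basicOpen r Q hQD).mp hQr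
  refine ⟨f, hfS, ?_⟩
  intro y hy
  have h1 : d * algebraMap Γ(T, D) Γ(T, T.basicOpen r) y ∈
      Ideal.span {algebraMap Γ(T, D) Γ(T, T.basicOpen r) f} := by
    apply hdy
    rw [← Ideal.map_span, ← hSg]
    exact Ideal.mem_map_of_mem _ hy
  obtain ⟨e, he⟩ := Ideal.mem_span_singleton'.mp h1
  obtain ⟨k, d', hd'⟩ := IsLocalization.Away.surj r d
  obtain ⟨l, e', he'⟩ := IsLocalization.Away.surj r e
  have h2 : algebraMap Γ(T, D) Γ(T, T.basicOpen r) (d' * r ^ l * y) =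
      algebraMap Γ(T, D) Γ(T, T.basicOpen r) (e' * r ^ k * f) := by
    rw [map_mul, map_mul, map_mul, map_mul, ← hd', ← he', map_pow, map_pow]
    linear_combination (algebraMap Γ(T, D) Γ(T, T.basicOpen r) r) ^ k *
      (algebraMap Γ(T, D) Γ(T, T.basicOpen r) r) ^ l * (-he)
  obtain ⟨m, hm⟩ := IsLocalization.Away.exists_of_eq r h2
  have hd'unit : IsUnit (γ d') := by
    rw [← hγ, ← hd', map_mul, map_pow, hγ]
    exact hdunit.mul (hrunit.pow k)
  refine ⟨r ^ m * (d' * r ^ l), ?_, ?_⟩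
  · rw [T.mem_basicOpen _ Q hQD]
    show IsUnit (γ (r ^ m * (d' * r ^ l)))
    rw [map_mul, map_mul, map_pow, map_pow]
    exact (hrunit.pow m).mul (hd'unit.mul (hrunit.pow l))
  · refine ⟨r ^ m * (e' * r ^ k), ?_⟩
    have h3 : r ^ m * (e' * r ^ k) * f = r ^ m * (e' * r ^ k * f) := by ring
    have h4 : r ^ m * (d' * r ^ l) * y = r ^ m * (d' * r ^ l * y) := by ring
    rw [h3, h4, hm]

/-- the ideal of a closed subscheme of finite presentation over the base (inside a scheme locally of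
finite presentation over the base) is of finite type. -/
theorem ideal_fg_of_lfp {X S : Scheme.{u}} (φ : X ⟶ S) [LocallyOfFinitePresentation φ]
    (𝓘 : X.IdealSheafData) [LocallyOfFinitePresentation (𝓘.subschemeι ≫ φ)]
    {W : S.Opens} (hW : IsAffineOpen W) {U : X.Opens} (hU : IsAffineOpen U) (hUW : U ≤ φ ⁻¹ᵁ W) :
    (𝓘.ideal ⟨U, hU⟩).FG := by
  have hT : IsAffineOpen (𝓘.subschemeι ⁻¹ᵁ U) := hU.preimage 𝓘.subschemeι
  have hTW : 𝓘.subschemeι ⁻¹ᵁ U ≤ (𝓘.subschemeι ≫ φ) ⁻¹ᵁ W := fun t ht => hUW ht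
  have hfac : (𝓘.subschemeι ≫ φ).appLE W (𝓘.subschemeι ⁻¹ᵁ U) hTW =
      φ.appLE W U hUW ≫ 𝓘.subschemeι.app U := by
    rw [← Scheme.Hom.appLE_eq_app, Scheme.Hom.appLE_comp_appLE]
  have h1 : (φ.appLE W U hUW).hom.FinitePresentation :=
    HasRingHomProperty.appLE (P := @LocallyOfFinitePresentation) φ inferInstance ⟨W, hW⟩ ⟨U, hU⟩ hUW
  have h2 : ((𝓘.subschemeι ≫ φ).appLE W (𝓘.subschemeι ⁻¹ᵁ U) hTW).hom.FinitePresentation :=
    HasRingHomProperty.appLE (P := @LocallyOfFinitePresentation) (𝓘.subschemeι ≫ φ) inferInstance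
      ⟨W, hW⟩ ⟨_, hT⟩ hTW
  rw [hfac] at h2
  letI := (φ.appLE W U hUW).hom.toAlgebra
  letI : Algebra Γ(S, W) Γ(𝓘.subscheme, 𝓘.subschemeι ⁻¹ᵁ U) :=
    ((𝓘.subschemeι.app U).hom.comp (algebraMap Γ(S, W) Γ(X, U))).toAlgebra
  haveI : Algebra.FinitePresentation Γ(S, W) Γ(X, U) := h1
  haveI : Algebra.FinitePresentation Γ(S, W) Γ(𝓘.subscheme, 𝓘.subschemeι ⁻¹ᵁ U) := h2
  let πA : Γ(X, U) →ₐ[Γ(S, W)] Γ(𝓘.subscheme, 𝓘.subschemeι ⁻¹ᵁ U) :=
    { (𝓘.subschemeι.app U).hom with commutes' := fun r => rfl }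
  have h3 := Algebra.FinitePresentation.ker_fG_of_surjective πA
    (𝓘.subschemeι_app_surjective ⟨U, hU⟩)
  rw [← 𝓘.ker_subschemeι_app ⟨U, hU⟩]
  exact h3

/-- if the inverse image of `𝓘` along `Spec R' ⟶ U ⊆ X` is effective Cartier, then near any point
`Q` of `Spec R'` the extension of `𝓘(U)` to `R'` is generated by the image of one element of
`𝓘(U)`. -/
theorem exists_generator_chart {X : Scheme.{u}} (𝓘 : X.IdealSheafData) {U : X.Opens}
    (hU : IsAffineOpen U) {R' : CommRingCat.{u}} (ι : Γ(X, U) ⟶ R')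
    (hJ : BlowUp.IsEffCartierIdeal (𝓘.comap (Spec.map ι ≫ hU.fromSpec))) (Q : Spec R') :
    ∃ f ∈ 𝓘.ideal ⟨U, hU⟩, ∀ y ∈ 𝓘.ideal ⟨U, hU⟩, ∃ r : R', r ∉ Q.asIdeal ∧
      ∃ c : R', c * ι.hom f = r * ι.hom y := by
  have hle : (⊤ : (Spec R').Opens) ≤ (Spec.map ι ≫ hU.fromSpec) ⁻¹ᵁ U := by
    intro y _
    show (Spec.map ι ≫ hU.fromSpec) y ∈ U
    rw [Scheme.Hom.comp_apply]
    have h0 : hU.fromSpec ((Spec.map ι) y) ∈ Set.range hU.fromSpec := Set.mem_range_self _
    rw [hU.range_fromSpec] at h0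
    exact h0
  have htop := ideal_comap_eq_map (Spec.map ι ≫ hU.fromSpec) 𝓘 (isAffineOpen_top (Spec R')) hU hle
  rw [Groth.Agent.Lib.T2H3.RelCartier.appLE_SpecMap_fromSpec hU ι hle] at htop
  obtain ⟨f', ⟨f, hfI, rfl⟩, hf'⟩ := exists_generator_near hJ Q (isAffineOpen_top (Spec R')) trivial
    ((ι ≫ (Scheme.ΓSpecIso R').inv).hom '' (𝓘.ideal ⟨U, hU⟩ : Set Γ(X, U)))
    (by rw [htop]; rfl)
  refine ⟨f, hfI, ?_⟩
  intro y hy
  have h9 : (ι ≫ (Scheme.ΓSpecIso R').inv).hom y ∈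
      (𝓘.ideal ⟨U, hU⟩).map (ι ≫ (Scheme.ΓSpecIso R').inv).hom := Ideal.mem_map_of_mem _ hy
  obtain ⟨r₀, hr₀, c, hc⟩ := hf' ((ι ≫ (Scheme.ΓSpecIso R').inv).hom y) (htop.ge h9)
  have he : ∀ b : Γ(X, U), (Scheme.ΓSpecIso R').hom.hom ((ι ≫ (Scheme.ΓSpecIso R').inv).hom b) =
      ι.hom b := by
    intro b
    show ((ι ≫ (Scheme.ΓSpecIso R').inv) ≫ (Scheme.ΓSpecIso R').hom).hom b = _
    rw [Category.assoc, Iso.inv_hom_id, Category.comp_id]
  refine ⟨(Scheme.ΓSpecIso R').hom.hom r₀, ?_, (Scheme.ΓSpecIso R').hom.hom c, ?_⟩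
  · rw [basicOpen_eq_of_affine'] at hr₀
    exact hr₀
  · have h1 := congrArg (Scheme.ΓSpecIso R').hom.hom hc
    rw [RingHom.map_mul, RingHom.map_mul, he, he] at h1
    exact h1

/-- **Local principality from the fibres**: `X` flat and locally of finite presentation over `S`, `Z`
a closed subscheme flat and locally of finite presentation over `S` whose fibres are effective
Cartier divisors; then the ideal of `Z` is locally principal. -/
theorem isLocPrincipal_of_fibres {X S : Scheme.{u}} (φ : X ⟶ S) [Flat φ]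
    [LocallyOfFinitePresentation φ] (𝓘 : X.IdealSheafData) [Flat (𝓘.subschemeι ≫ φ)]
    [LocallyOfFinitePresentation (𝓘.subschemeι ≫ φ)]
    (hfib : ∀ s : S, BlowUp.IsEffCartierIdeal (𝓘.comap (φ.fiberι s))) :
    Curv2.IsLocPrincipal 𝓘 := by
  intro x hx
  obtain ⟨_, ⟨W, hW, rfl⟩, hxW, -⟩ := S.isBasis_affineOpens.exists_subset_of_mem_open
    (Set.mem_univ (φ x)) isOpen_univ
  obtain ⟨_, ⟨U, hU, rfl⟩, hxU, hUW'⟩ := X.isBasis_affineOpens.exists_subset_of_mem_open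
    (show x ∈ ((φ ⁻¹ᵁ W : X.Opens) : Set X) from hxW) (φ ⁻¹ᵁ W).isOpen
  have hUW : U ≤ φ ⁻¹ᵁ W := hUW'
  letI := (φ.appLE W U hUW).hom.toAlgebra
  haveI : Module.Flat Γ(S, W) (Γ(X, U) ⧸ 𝓘.ideal ⟨U, hU⟩) :=
    Groth.Agent.Lib.Helper20.RelCartier.flat_quotient_of_flat φ 𝓘 hW hU hUW
  have hfg := ideal_fg_of_lfp φ 𝓘 hW hU hUW
  obtain ⟨P, hP⟩ : ∃ P : Spec Γ(S, W), hW.fromSpec P = φ x :=
    ⟨hW.primeIdealOf ⟨φ x, hxW⟩, hW.fromSpec_primeIdealOf ⟨φ x, hxW⟩⟩
  obtain ⟨θ, hθiso, hθ⟩ := exists_residueField_iso hW P (φ x) hP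
  haveI := hθiso
  obtain ⟨j, hjo, hj1, hj2⟩ := exists_fibre_chart_range φ hW hU hUW P (φ x) θ hθ
  haveI : IsOpenImmersion j := hjo
  haveI : Flat j := inferInstance
  have hxr : x ∈ Set.range (φ.fiberι (φ x)) := by
    rw [Scheme.Hom.range_fiberι]
    rfl
  obtain ⟨x', hx'⟩ := hxr
  have hx'U : x' ∈ Set.range j := by
    rw [hj2]
    show φ.fiberι (φ x) x' ∈ U
    rw [hx']
    exact hxU
  obtain ⟨Q, hQ⟩ := hx'U
  have hJ0 := Groth.Agent.Lib.T2H6.BlowUpFlatBC.isEffCartier_comap_of_flat j _ (hfib (φ x))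
  rw [← Scheme.IdealSheafData.comap_comp, hj1] at hJ0
  have hgQ : (Spec.map (CommRingCat.ofHom (algebraMap Γ(X, U)
      (Γ(X, U) ⊗[Γ(S, W)] P.asIdeal.ResidueField))) ≫ hU.fromSpec) Q = x := by
    rw [← hj1, Scheme.Hom.comp_apply, hQ, hx']
  obtain ⟨f, hfI, hf'⟩ := exists_generator_chart 𝓘 hU _ hJ0 Q
  haveI : Q.asIdeal.IsPrime := Q.isPrime
  have Hcore : ∀ y ∈ 𝓘.ideal ⟨U, hU⟩, ∃ r : Γ(X, U) ⊗[Γ(S, W)] P.asIdeal.ResidueField,
      r ∉ Q.asIdeal ∧ r * (y ⊗ₜ[Γ(S, W)] (1 : P.asIdeal.ResidueField)) ∈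
        Ideal.span {f ⊗ₜ[Γ(S, W)] (1 : P.asIdeal.ResidueField)} := by
    intro y hy
    obtain ⟨r, hr, c, hc⟩ := hf' y hy
    refine ⟨r, hr, ?_⟩
    rw [Ideal.mem_span_singleton']
    exact ⟨c, hc⟩
  obtain ⟨w, hw, hwy⟩ := exists_mul_mem_span_of_fibre (𝓘.ideal ⟨U, hU⟩) hfg P.asIdeal Q.asIdeal f hfI
    Hcore
  refine ⟨⟨X.basicOpen w, hU.basicOpen w⟩, ?_,
    (X.presheaf.map (homOfLE (X.basicOpen_le w)).op).hom f, ?_⟩
  · have h1 : (Spec.map (CommRingCat.ofHom (algebraMap Γ(X, U)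
        (Γ(X, U) ⊗[Γ(S, W)] P.asIdeal.ResidueField)))) Q ∈ hU.fromSpec ⁻¹ᵁ X.basicOpen w := by
      rw [hU.fromSpec_preimage_basicOpen]
      exact hw
    rw [Scheme.Hom.comp_apply] at hgQ
    rw [← hgQ]
    exact h1
  · have h2 := 𝓘.map_ideal_basicOpen ⟨U, hU⟩ w
    show 𝓘.ideal (X.affineBasicOpen w) = _
    rw [← h2]
    apply le_antisymm
    · refine Ideal.map_le_iff_le_comap.mpr (fun y hy => ?_)
      rw [Ideal.mem_comap]
      obtain ⟨b, hb⟩ := Ideal.mem_span_singleton'.mp (hwy y hy)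
      haveI := hU.isLocalization_basicOpen w
      have hunit : IsUnit (algebraMap Γ(X, U) Γ(X, X.basicOpen w) w) :=
        IsLocalization.Away.algebraMap_isUnit w
      obtain ⟨v, hv⟩ := hunit.exists_left_inv
      have h3 : algebraMap Γ(X, U) Γ(X, X.basicOpen w) y =
          (v * algebraMap Γ(X, U) Γ(X, X.basicOpen w) b) *
            algebraMap Γ(X, U) Γ(X, X.basicOpen w) f := by
        rw [mul_assoc, ← map_mul, hb, map_mul, ← mul_assoc, hv, one_mul]
      show algebraMap Γ(X, U) Γ(X, X.basicOpen w) y ∈ _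
      rw [h3]
      exact Ideal.mul_mem_left _ _ (Ideal.mem_span_singleton_self _)
    · exact (Ideal.span_singleton_le_iff_mem _).mpr (Ideal.mem_map_of_mem _ hfI)

/-- **Relative effective Cartier divisors from the fibres** (EGA IV 19.2.4 / 21.15.3.3 in
codimension one). -/
theorem isEffCartier_of_fibres {X S : Scheme.{u}} (φ : X ⟶ S) [Flat φ]
    [LocallyOfFinitePresentation φ] (𝓘 : X.IdealSheafData) [Flat (𝓘.subschemeι ≫ φ)]
    [LocallyOfFinitePresentation (𝓘.subschemeι ≫ φ)]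
    (hfib : ∀ s : S, BlowUp.IsEffCartierIdeal (𝓘.comap (φ.fiberι s))) :
    BlowUp.IsEffCartierIdeal 𝓘 :=
  (Groth.Agent.Lib.T2H3.RelCartier.isEffCartier_and_flat_of_locPrincipal φ 𝓘
    (isLocPrincipal_of_fibres φ 𝓘 hfib) hfib).1

end Sch

end Groth.Agent.Lib.T2H3.RelCartierB
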