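import Mathlib
import Groth.Agent.Lib.T2H3RelCartierB

/-!
# Containment of relative effective Cartier divisors from the fibres (helper3)

Over a reduced Noetherian base ring `A`: if `B ⧸ (g)` is flat over `A` and `h` lies in the extension
of `(g)` to every fibre ring `B ⊗ κ(p)`, then `h ∈ (g)`.
-/

set_option autoImplicit false
set_option linter.unusedVariables false
set_option linter.unusedSectionVars false
set_option linter.style.haveILetI false
universe u
open TensorProduct CategoryTheory CategoryTheory.Limits AlgebraicGeometry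

namespace Groth.Agent.Lib.T2H3.RelCartierC

section AlgCore

variable {A B : Type u} [CommRing A] [CommRing B] [Algebra A B]

/-- elements of a minimal prime of a reduced ring are killed by an element outside the prime. -/
theorem exists_mul_eq_zero_of_mem_minimalPrimes [IsReduced A] {p : Ideal A}
    (hp : p ∈ minimalPrimes A) {a : A} (ha : a ∈ p) : ∃ t ∉ p, t * a = 0 := by
  haveI := hp.1.1
  have hrad := IsLocalization.AtPrime.radical_map_of_mem_minimalPrimes
    (A := Localization.AtPrime p) p ⊥ hp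
  rw [Ideal.map_bot] at hrad
  have h0 : (⊥ : Ideal (Localization.AtPrime p)).radical = ⊥ := by
    have : (⊥ : Ideal (Localization.AtPrime p)).radical = nilradical (Localization.AtPrime p) := rfl
    rw [this, nilradical_eq_zero]
    rfl
  have h1 : algebraMap A (Localization.AtPrime p) a ∈
      p.map (algebraMap A (Localization.AtPrime p)) := Ideal.mem_map_of_mem _ ha
  rw [← hrad, h0, Ideal.mem_bot] at h1
  obtain ⟨m, hm⟩ := (IsLocalization.map_eq_zero_iff p.primeCompl _ a).mp h1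
  exact ⟨m.1, m.2, hm⟩

theorem exists_mul_eq_zero_of_mem_map [IsReduced A] {p : Ideal A}
    (hp : p ∈ minimalPrimes A) {z : B} (hz : z ∈ p.map (algebraMap A B)) :
    ∃ t ∉ p, algebraMap A B t * z = 0 := by
  haveI := hp.1.1
  refine Submodule.span_induction ?_ ?_ ?_ ?_ hz
  · rintro _ ⟨a, ha, rfl⟩
    obtain ⟨t, ht, hta⟩ := exists_mul_eq_zero_of_mem_minimalPrimes hp ha
    exact ⟨t, ht, by rw [← map_mul, hta, map_zero]⟩
  · exact ⟨1, fun h => (Ideal.IsPrime.ne_top inferInstance) ((Ideal.eq_top_iff_one p).mpr h),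
      mul_zero _⟩
  · rintro x y _ _ ⟨t₁, ht₁, h₁⟩ ⟨t₂, ht₂, h₂⟩
    refine ⟨t₁ * t₂, Ideal.IsPrime.mul_notMem inferInstance ht₁ ht₂, ?_⟩
    rw [map_mul, mul_add]
    have e1 : algebraMap A B t₁ * algebraMap A B t₂ * x =
        algebraMap A B t₂ * (algebraMap A B t₁ * x) := by ring
    have e2 : algebraMap A B t₁ * algebraMap A B t₂ * y =
        algebraMap A B t₁ * (algebraMap A B t₂ * y) := by ring
    rw [e1, e2, h₁, h₂, mul_zero, mul_zero, add_zero]
  · rintro b x _ ⟨t, ht, h⟩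
    refine ⟨t, ht, ?_⟩
    rw [smul_eq_mul, mul_left_comm, h, mul_zero]

/-- **Algebraic core**: `A` reduced Noetherian, `B ⧸ (g)` flat over `A`; if `h ∈ (g) + pB` up to an
element outside `p`, for every (minimal) prime `p` of `A`, then `h ∈ (g)`. -/
theorem mem_span_of_forall_prime [IsNoetherianRing A] [IsReduced A] (g h : B)
    [Module.Flat A (B ⧸ Ideal.span {g})]
    (H : ∀ p : Ideal A, p.IsPrime → ∃ s ∉ p,
      algebraMap A B s * h ∈ Ideal.span {g} ⊔ p.map (algebraMap A B)) :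
    h ∈ Ideal.span {g} := by
  classical
  let K : Ideal A := Submodule.comap (LinearMap.toSpanSingleton A B h)
    ((Ideal.span {g}).restrictScalars A)
  have hK : ∀ a : A, a ∈ K ↔ algebraMap A B a * h ∈ Ideal.span {g} := by
    intro a
    show a • h ∈ Ideal.span {g} ↔ _
    rw [Algebra.smul_def]
  have step1 : ∀ p ∈ minimalPrimes A, ¬ K ≤ p := by
    intro p hp hKp
    haveI := hp.1.1
    obtain ⟨s, hs, hsh⟩ := H p hp.1.1
    obtain ⟨y, hy, z, hz, hyz⟩ := Submodule.mem_sup.mp hsh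
    obtain ⟨t, ht, htz⟩ := exists_mul_eq_zero_of_mem_map hp hz
    have hmem : t * s ∈ K := by
      rw [hK, map_mul, mul_assoc, ← hyz, mul_add, htz, add_zero]
      exact Ideal.mul_mem_left _ _ hy
    exact Ideal.IsPrime.mul_notMem inferInstance ht hs (hKp hmem)
  have step2 : ∃ v ∈ K, ∀ p ∈ minimalPrimes A, v ∉ p := by
    by_contra hcon
    push Not at hcon
    have hfin : (minimalPrimes A).Finite := minimalPrimes.finite_of_isNoetherianRing A
    have hsub : (K : Set A) ⊆ ⋃ p ∈ (↑hfin.toFinset : Set (Ideal A)), (p : Set A) := by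
      intro v hv
      obtain ⟨p, hp, hvp⟩ := hcon v hv
      exact Set.mem_biUnion (by simpa using hp) hvp
    have := (Ideal.subset_union_prime (R := A) (s := hfin.toFinset) (f := fun p => p) ⊥ ⊥
      (fun p hp _ _ => ((Set.Finite.mem_toFinset hfin).mp hp).1.1) (I := K)).mp hsub
    obtain ⟨p, hp, hKp⟩ := this
    exact step1 p ((Set.Finite.mem_toFinset hfin).mp hp) hKp
  obtain ⟨v, hvK, hv⟩ := step2
  have hvnzd : v ∈ nonZeroDivisors A := by
    rw [mem_nonZeroDivisors_iff_right]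
    intro x hx
    have h1 : x ∈ sInf (minimalPrimes A) := by
      rw [Submodule.mem_sInf]
      intro p hp
      haveI := hp.1.1
      have h2 : x * v ∈ p := by rw [hx]; exact zero_mem _
      exact (Ideal.IsPrime.mem_or_mem inferInstance h2).resolve_right (hv p hp)
    have h3 : sInf (minimalPrimes A) = ⊥ := by
      show sInf (⊥ : Ideal A).minimalPrimes = ⊥
      rw [Ideal.sInf_minimalPrimes]
      have : (⊥ : Ideal A).radical = nilradical A := rfl
      rw [this, nilradical_eq_zero]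
      rfl
    rw [h3] at h1
    exact h1
  have hreg : IsSMulRegular (B ⧸ Ideal.span {g}) v :=
    Module.Flat.isSMulRegular_of_nonZeroDivisors hvnzd
  have h4 : v • (Ideal.Quotient.mk (Ideal.span {g}) h) = v • 0 := by
    rw [smul_zero]
    have h6 : v • (Ideal.Quotient.mk (Ideal.span {g}) h) =
        Ideal.Quotient.mk (Ideal.span {g}) (algebraMap A B v * h) := by
      rw [← Algebra.smul_def]
      rfl
    rw [h6, Ideal.Quotient.eq_zero_iff_mem]
    exact (hK v).mp hvK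
  have h5 := hreg h4
  exact Ideal.Quotient.eq_zero_iff_mem.mp h5

end AlgCore

section Sch

open Groth.Agent.Lib.Helper3.FibEtSch Groth.Agent.Lib.T2H3.FibSchDense
  Groth.Agent.Lib.Helper20.EffCartier

/-- containment of inverse images on `Spec R'` gives containment of the extended ideals. -/
theorem map_le_map_of_comap_le {X : Scheme.{u}} (D D' : X.IdealSheafData) {U : X.Opens}
    (hU : IsAffineOpen U) {R' : CommRingCat.{u}} (ι : Γ(X, U) ⟶ R')
    (h : D.comap (Spec.map ι ≫ hU.fromSpec) ≤ D'.comap (Spec.map ι ≫ hU.fromSpec)) :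
    (D.ideal ⟨U, hU⟩).map ι.hom ≤ (D'.ideal ⟨U, hU⟩).map ι.hom := by
  have hle : (⊤ : (Spec R').Opens) ≤ (Spec.map ι ≫ hU.fromSpec) ⁻¹ᵁ U := by
    intro y _
    show (Spec.map ι ≫ hU.fromSpec) y ∈ U
    rw [Scheme.Hom.comp_apply]
    have h0 : hU.fromSpec ((Spec.map ι) y) ∈ Set.range hU.fromSpec := Set.mem_range_self _
    rw [hU.range_fromSpec] at h0
    exact h0
  have h1 := ideal_comap_eq_map (Spec.map ι ≫ hU.fromSpec) D (isAffineOpen_top (Spec R')) hU hle
  have h2 := ideal_comap_eq_map (Spec.map ι ≫ hU.fromSpec) D' (isAffineOpen_top (Spec R')) hU hle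
  rw [Groth.Agent.Lib.T2H3.RelCartier.appLE_SpecMap_fromSpec hU ι hle] at h1 h2
  have h3 : (D.ideal ⟨U, hU⟩).map (ι ≫ (Scheme.ΓSpecIso R').inv).hom ≤
      (D'.ideal ⟨U, hU⟩).map (ι ≫ (Scheme.ΓSpecIso R').inv).hom :=
    h1.symm.le.trans ((h ⟨⊤, isAffineOpen_top _⟩).trans h2.le)
  have h4 := Ideal.map_mono (f := (Scheme.ΓSpecIso R').hom.hom) h3
  rw [Ideal.map_map, Ideal.map_map] at h4
  have h5 : (Scheme.ΓSpecIso R').hom.hom.comp (ι ≫ (Scheme.ΓSpecIso R').inv).hom = ι.hom := by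
    rw [← CommRingCat.hom_comp, Category.assoc, Iso.inv_hom_id, Category.comp_id]
  rw [h5] at h4
  exact h4

/-- the chart statement: on an affine chart where `D'` is principal, `D ⊆ D'` if this holds on all
fibres. -/
theorem ideal_le_of_fibres_chart {𝒞 T : Scheme.{u}} (π : 𝒞 ⟶ T) (D D' : 𝒞.IdealSheafData)
    [Flat (D'.subschemeι ≫ π)]
    (hfib : ∀ t : T, D.comap (π.fiberι t) ≤ D'.comap (π.fiberι t))
    {W : T.Opens} (hW : IsAffineOpen W) [IsNoetherianRing Γ(T, W)] [_root_.IsReduced Γ(T, W)]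
    {U : 𝒞.Opens} (hU : IsAffineOpen U) (hUW : U ≤ π ⁻¹ᵁ W) (g : Γ(𝒞, U))
    (hg : D'.ideal ⟨U, hU⟩ = Ideal.span {g}) : D.ideal ⟨U, hU⟩ ≤ D'.ideal ⟨U, hU⟩ := by
  letI := (π.appLE W U hUW).hom.toAlgebra
  haveI : Module.Flat Γ(T, W) (Γ(𝒞, U) ⧸ Ideal.span {g}) := by
    rw [← hg]
    exact Groth.Agent.Lib.Helper20.RelCartier.flat_quotient_of_flat π D' hW hU hUW
  intro h hh
  rw [hg]
  refine mem_span_of_forall_prime (A := Γ(T, W)) g h ?_
  intro p hp
  obtain ⟨P, rfl⟩ : ∃ P : Spec Γ(T, W), P.asIdeal = p := ⟨⟨p, hp⟩, rfl⟩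
  obtain ⟨θ, hθiso, hθ⟩ := exists_residueField_iso hW P _ rfl
  haveI := hθiso
  obtain ⟨j, hjo, hj1, -⟩ := exists_fibre_chart_range π hW hU hUW P _ θ hθ
  have h1 := Scheme.IdealSheafData.comap_mono j (hfib (hW.fromSpec P))
  have h1' : D.comap (j ≫ π.fiberι (hW.fromSpec P)) ≤ D'.comap (j ≫ π.fiberι (hW.fromSpec P)) := by
    rw [Scheme.IdealSheafData.comap_comp, Scheme.IdealSheafData.comap_comp]
    exact h1
  rw [hj1] at h1'
  have h2 := map_le_map_of_comap_le D D' hU _ h1'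
  rw [hg, Ideal.map_span, Set.image_singleton] at h2
  have h3 := h2 (Ideal.mem_map_of_mem _ hh)
  obtain ⟨r, hr⟩ := Ideal.mem_span_singleton'.mp h3
  have hx : h ⊗ₜ[Γ(T, W)] (1 : P.asIdeal.ResidueField) ∈ (Ideal.span {g} • ⊤ :
      Submodule Γ(𝒞, U) (Γ(𝒞, U) ⊗[Γ(T, W)] P.asIdeal.ResidueField)) := by
    have h4 : h ⊗ₜ[Γ(T, W)] (1 : P.asIdeal.ResidueField) = g • r := by
      rw [Algebra.smul_def, mul_comm]
      exact hr.symm
    rw [h4]
    exact Submodule.smul_mem_smul (Ideal.mem_span_singleton_self g) Submodule.mem_top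
  obtain ⟨a, ha, hax⟩ := Groth.Agent.Lib.T2H7.FPFlat.exists_smul_mem_of_tmul_one_mem_smul_top
    P.asIdeal (M := Γ(𝒞, U)) (Ideal.span {g}) hx
  refine ⟨a, ha, ?_⟩
  have hsimp : (P.asIdeal.map (algebraMap Γ(T, W) Γ(𝒞, U)) • ⊤ ⊔ Ideal.span {g} • ⊤ :
      Submodule Γ(𝒞, U) Γ(𝒞, U)) = Ideal.span {g} ⊔ P.asIdeal.map (algebraMap Γ(T, W) Γ(𝒞, U)) := by
    rw [Ideal.smul_eq_mul, Ideal.mul_top, Ideal.smul_eq_mul, Ideal.mul_top, sup_comm]
  rw [hsimp, smul_eq_mul] at hax
  exact hax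

/-- **Containment of relative effective Cartier divisors from the fibres**, over a reduced locally
Noetherian base. -/
theorem le_of_forall_fibre_le {𝒞 T : Scheme.{u}} [IsLocallyNoetherian T]
    [AlgebraicGeometry.IsReduced T] (π : 𝒞 ⟶ T) (D D' : 𝒞.IdealSheafData)
    (hD' : BlowUp.IsEffCartierIdeal D') [Flat (D'.subschemeι ≫ π)]
    (hfib : ∀ t : T, D.comap (π.fiberι t) ≤ D'.comap (π.fiberι t)) : D ≤ D' := by
  have key : ∀ x : 𝒞, ∃ (U : 𝒞.affineOpens), x ∈ U.1 ∧ D.ideal U ≤ D'.ideal U := by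
    intro x
    obtain ⟨_, ⟨W, hW, rfl⟩, hxW, -⟩ := T.isBasis_affineOpens.exists_subset_of_mem_open
      (Set.mem_univ (π x)) isOpen_univ
    obtain ⟨U, hU, hxU, hUW, g, -, hg⟩ := exists_le_of_isEffCartierIdeal hD' x (π ⁻¹ᵁ W) hxW
    haveI : IsNoetherianRing Γ(T, W) := IsLocallyNoetherian.component_noetherian ⟨W, hW⟩
    exact ⟨⟨U, hU⟩, hxU, ideal_le_of_fibres_chart π D D' hfib hW hU hUW g hg⟩
  choose U hxU hU using key
  refine Scheme.IdealSheafData.le_of_iSup_eq_top U ?_ hU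
  rw [eq_top_iff]
  intro x _
  exact TopologicalSpace.Opens.mem_iSup.mpr ⟨x, hxU x⟩

end Sch

end Groth.Agent.Lib.T2H3.RelCartierC
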