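import Mathlib
import Groth.Prelude.Def_CInt
import Groth.Agent.Lib.Helper12SchDenseExt

/-!
# Morphisms agreeing on a relatively schematically dense open
-/

set_option autoImplicit false
set_option linter.style.haveILetI false
universe u

open CategoryTheory CategoryTheory.Limits AlgebraicGeometry

namespace Groth.Agent.Lib.T2H3.RelDense

open Groth.Agent.Lib.Helper12.SchDense

/-- transport of schematic density along an isomorphism. -/
theorem isSchematicallyDense_of_isIso {X X' : Scheme.{u}} (j : X' ⟶ X) [IsIso j] (U : X.Opens)
    (h : CInt.IsSchematicallyDense (j ⁻¹ᵁ U)) : CInt.IsSchematicallyDense U := by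
  intro V
  rw [injective_iff_map_eq_zero]
  intro a ha
  have hinj : Function.Injective (j.app V) :=
    (ConcreteCategory.bijective_of_isIso (j.app V)).1
  apply hinj
  rw [map_zero]
  apply h (j ⁻¹ᵁ V)
  rw [map_zero]
  have hnat := j.naturality (homOfLE (inf_le_left : V ⊓ U ≤ V)).op
  have h2 := congrArg (fun φ => φ a) hnat
  simp only [CommRingCat.comp_apply] at h2
  rw [ha, map_zero] at h2
  exact h2.symm


/-- **S5434.** two `S`-morphisms to an `S`-scheme with separated fibres which agree on an open
that is schematically dense relative to `S` are equal. -/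
theorem eq_of_eq_on_relSchDense (S : Scheme.{u}) (X Y : Over S) (U : X.left.Opens)
    (hU : ∀ (S' : Scheme.{u}) (g : S' ⟶ S),
      CInt.IsSchematicallyDense ((pullback.fst X.hom g) ⁻¹ᵁ U))
    (hY : ∀ s : S, IsSeparated (pullback.snd Y.hom (S.fromSpecResidueField s)))
    (f g : X ⟶ Y) (h : U.ι ≫ f.left = U.ι ≫ g.left) : f = g := by
  -- density of `U` in `X`
  have hUX : CInt.IsSchematicallyDense U :=
    isSchematicallyDense_of_isIso (pullback.fst X.hom (𝟙 S)) U (hU S (𝟙 S))
  -- the equalizer
  let e := equalizer.ι f.left g.left
  -- `e` is surjective, by the fibrewise argument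
  have hsurj : Function.Surjective e := by
    intro x
    set s := X.hom x with hs
    set φ := S.fromSpecResidueField s with hφ
    haveI := hY s
    let a := ((Over.pullback φ).map f).left
    let b := ((Over.pullback φ).map g).left
    have ha1 : a ≫ pullback.fst Y.hom φ = pullback.fst X.hom φ ≫ f.left := by
      simp only [a, Over.pullback_map_left]; exact pullback.lift_fst _ _ _
    have hb1 : b ≫ pullback.fst Y.hom φ = pullback.fst X.hom φ ≫ g.left := by
      simp only [b, Over.pullback_map_left]; exact pullback.lift_fst _ _ _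
    have ha2 : a ≫ pullback.snd Y.hom φ = pullback.snd X.hom φ := by
      simp only [a, Over.pullback_map_left]; exact pullback.lift_snd _ _ _
    have hb2 : b ≫ pullback.snd Y.hom φ = pullback.snd X.hom φ := by
      simp only [b, Over.pullback_map_left]; exact pullback.lift_snd _ _ _
    have hab : a = b := by
      refine ext_of_isSchematicallyDense (pullback.snd Y.hom φ) (ha2.trans hb2.symm)
        ((pullback.fst X.hom φ) ⁻¹ᵁ U) (hU _ φ) ?_
      apply pullback.hom_ext
      · rw [Category.assoc, Category.assoc, ha1, hb1]
        have hr : ((pullback.fst X.hom φ) ⁻¹ᵁ U).ι ≫ pullback.fst X.hom φ =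
            (pullback.fst X.hom φ).resLE U ((pullback.fst X.hom φ) ⁻¹ᵁ U) le_rfl ≫ U.ι :=
          (Scheme.Hom.resLE_comp_ι _ _).symm
        rw [← Category.assoc, hr, Category.assoc, h, ← Category.assoc, ← hr, Category.assoc]
      · rw [Category.assoc, Category.assoc, ha2, hb2]
    have heq : pullback.fst X.hom φ ≫ f.left = pullback.fst X.hom φ ≫ g.left := by
      rw [← ha1, ← hb1, hab]
    obtain ⟨x', hx'1, -⟩ := Scheme.Pullback.exists_preimage_pullback (f := X.hom) (g := φ) x
      (IsLocalRing.closedPoint _) (by
        rw [hφ, Scheme.fromSpecResidueField_apply])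
    refine ⟨equalizer.lift (pullback.fst X.hom φ) heq x', ?_⟩
    rw [← Scheme.Hom.comp_apply, equalizer.lift_ι]
    exact hx'1
  haveI : IsClosedImmersion e :=
    IsClosedImmersion.of_isPreimmersion e (by
      rw [hsurj.range_eq]; exact isClosed_univ)
  have hl : equalizer.lift U.ι h ≫ e = U.ι := equalizer.lift_ι _ _
  haveI : IsIso e := isIso_of_isSchematicallyDense_factors e U hUX _ hl
  ext1
  rw [← cancel_epi e]
  exact equalizer.condition _ _

end Groth.Agent.Lib.T2H3.RelDense
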