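import Mathlib
import Groth.Prelude.Def_CInt
import Groth.Agent.Lib.T2H3RelDense
import Groth.Agent.Lib.Helper20SchDense

/-!
# Homomorphisms agreeing on a relatively schematically dense open of a group scheme
-/

set_option autoImplicit false
set_option linter.style.haveILetI false
universe u

open CategoryTheory CategoryTheory.Limits AlgebraicGeometry MonoidalCategory
  CartesianMonoidalCategory MonObj GrpObj

namespace Groth.Agent.Lib.T2H3.RelDenseGrp

open Groth.Agent.Lib.Helper12.SchDense Groth.Agent.Lib.Helper20.SchDense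
open Groth.Agent.Lib.T2H3.RelDense

variable {S : Scheme.{u}} {G : Over S} [GrpObj G]

/-- the automorphism `(z, t) ↦ (z⁻¹ x(t), t)` of `G × T`. -/
noncomputable def psi (T : Over S) (x : T ⟶ G) : G ⊗ T ⟶ G ⊗ T :=
  lift ((fst G T)⁻¹ * (snd G T ≫ x)) (snd G T)

/-- its inverse `(z, t) ↦ (x(t) z⁻¹, t)`. -/
noncomputable def psi' (T : Over S) (x : T ⟶ G) : G ⊗ T ⟶ G ⊗ T :=
  lift ((snd G T ≫ x) * (fst G T)⁻¹) (snd G T)

theorem psi_fst (T : Over S) (x : T ⟶ G) :
    psi T x ≫ fst G T = (fst G T)⁻¹ * (snd G T ≫ x) := by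
  unfold psi; rw [lift_fst]

theorem psi_snd (T : Over S) (x : T ⟶ G) : psi T x ≫ snd G T = snd G T := by
  unfold psi; rw [lift_snd]

theorem psi'_fst (T : Over S) (x : T ⟶ G) :
    psi' T x ≫ fst G T = (snd G T ≫ x) * (fst G T)⁻¹ := by
  unfold psi'; rw [lift_fst]

theorem psi'_snd (T : Over S) (x : T ⟶ G) : psi' T x ≫ snd G T = snd G T := by
  unfold psi'; rw [lift_snd]

theorem psi_psi' (T : Over S) (x : T ⟶ G) : psi T x ≫ psi' T x = 𝟙 _ := by
  apply CartesianMonoidalCategory.hom_ext
  · rw [Category.assoc, psi'_fst, MonObj.comp_mul, GrpObj.comp_inv, ← Category.assoc, psi_snd,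
      psi_fst, Category.id_comp]
    simp [_root_.mul_inv_rev]
  · rw [Category.assoc, psi'_snd, psi_snd, Category.id_comp]

theorem psi'_psi (T : Over S) (x : T ⟶ G) : psi' T x ≫ psi T x = 𝟙 _ := by
  apply CartesianMonoidalCategory.hom_ext
  · rw [Category.assoc, psi_fst, MonObj.comp_mul, GrpObj.comp_inv, ← Category.assoc, psi'_snd,
      psi'_fst, Category.id_comp]
    simp [_root_.mul_inv_rev]
  · rw [Category.assoc, psi_snd, psi'_snd, Category.id_comp]


theorem id_apply' {X : Scheme.{u}} (x : X) : (𝟙 X : X ⟶ X) x = x := rfl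

theorem psi_psi'_apply (T : Over S) (xt : T ⟶ G) (u : (G ⊗ T).left) :
    (psi T xt).left ((psi' T xt).left u) = u := by
  rw [← Scheme.Hom.comp_apply, ← Over.comp_left, psi'_psi, Over.id_left, id_apply']

/-- a point of `G × T` both of whose coordinates `z`, `z⁻¹ x` lie in a dense open. -/
theorem exists_point (T : Over S) (xt : T ⟶ G) (U : G.left.Opens)
    (hdense : Dense ((fst G T).left ⁻¹' (U : Set G.left)))
    [Nonempty (G ⊗ T).left] :
    ∃ w : (G ⊗ T).left, (fst G T).left w ∈ U ∧ (fst G T).left ((psi T xt).left w) ∈ U := by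
  obtain ⟨u, hu⟩ := hdense.nonempty
  have hopen : IsOpen ((psi T xt).left ⁻¹' ((fst G T).left ⁻¹' (U : Set G.left))) :=
    (U.2.preimage (fst G T).left.continuous).preimage (psi T xt).left.continuous
  have hVne : ((psi T xt).left ⁻¹' ((fst G T).left ⁻¹' (U : Set G.left))).Nonempty := by
    refine ⟨(psi' T xt).left u, ?_⟩
    rw [Set.mem_preimage, psi_psi'_apply]
    exact hu
  obtain ⟨w, hwV, hwU⟩ := hdense.inter_open_nonempty _ hopen hVne
  exact ⟨w, hwU, hwV⟩

theorem mul_psi_eq (T T' : Over S) (xt : T ⟶ G) (wt : T' ⟶ G ⊗ T) :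
    (wt ≫ fst G T) * (wt ≫ psi T xt ≫ fst G T) = wt ≫ snd G T ≫ xt := by
  rw [psi_fst, MonObj.comp_mul, GrpObj.comp_inv, mul_inv_cancel_left]

/-- a morphism from the spectrum of a field landing in an open factors through it. -/
theorem comp_eq_of_mem {X Y : Scheme.{u}} (U : X.Opens) {f g : X ⟶ Y} (h : U.ι ≫ f = U.ι ≫ g)
    {W : Scheme.{u}} (a : W ⟶ X) (ha : Set.range a ⊆ (U : Set X)) : a ≫ f = a ≫ g := by
  have hr : Set.range a ⊆ Set.range U.ι := by rw [Scheme.Opens.range_ι]; exact ha
  rw [← IsOpenImmersion.lift_fac U.ι a hr, Category.assoc, h, Category.assoc]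

/-- the key step: a field-valued point of `T` at which the two homomorphisms agree. -/
theorem exists_field_point {H : Over S} [GrpObj H] (T : Over S) (xt : T ⟶ G) (U : G.left.Opens)
    (w : (G ⊗ T).left) (hwU : (fst G T).left w ∈ U)
    (hwV : (fst G T).left ((psi T xt).left w) ∈ U)
    (f g : G ⟶ H) [hf : IsMonHom f] [hg : IsMonHom g] (h : U.ι ≫ f.left = U.ι ≫ g.left) :
    ((G ⊗ T).left.fromSpecResidueField w ≫ (snd G T).left ≫ xt.left) ≫ f.left =
      ((G ⊗ T).left.fromSpecResidueField w ≫ (snd G T).left ≫ xt.left) ≫ g.left := by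
  let T' : Over S := Over.mk ((G ⊗ T).left.fromSpecResidueField w ≫ (G ⊗ T).hom)
  let wt : T' ⟶ G ⊗ T := Over.homMk ((G ⊗ T).left.fromSpecResidueField w) rfl
  have hwt : wt.left = (G ⊗ T).left.fromSpecResidueField w := rfl
  have haf : (wt ≫ fst G T) ≫ f = (wt ≫ fst G T) ≫ g := by
    ext1
    rw [Over.comp_left, Over.comp_left]
    refine comp_eq_of_mem U h _ ?_
    rintro _ ⟨pt, rfl⟩
    rw [Scheme.Hom.comp_apply, hwt, Scheme.fromSpecResidueField_apply]
    exact hwU
  have hbf : (wt ≫ psi T xt ≫ fst G T) ≫ f = (wt ≫ psi T xt ≫ fst G T) ≫ g := by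
    ext1
    rw [Over.comp_left, Over.comp_left]
    refine comp_eq_of_mem U h _ ?_
    rintro _ ⟨pt, rfl⟩
    rw [Scheme.Hom.comp_apply, Over.comp_left, Scheme.Hom.comp_apply, hwt,
      Scheme.fromSpecResidueField_apply]
    exact hwV
  have hcf : (wt ≫ snd G T ≫ xt) ≫ f = (wt ≫ snd G T ≫ xt) ≫ g := by
    rw [← mul_psi_eq T T' xt wt, MonObj.mul_comp _ _ f, MonObj.mul_comp _ _ g, haf, hbf]
  have := congrArg (fun m => m.left) hcf
  simp only [Over.comp_left] at this
  rw [hwt] at this
  exact this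

/-- **S5435.** two homomorphisms from a group scheme which agree on an open schematically dense
relative to the base are equal. -/
theorem hom_eq_of_eq_on_relSchDense (S : Scheme.{u}) (G H : Over S) [GrpObj G] [GrpObj H]
    (U : G.left.Opens)
    (hU : ∀ (S' : Scheme.{u}) (g : S' ⟶ S),
      CInt.IsSchematicallyDense ((pullback.fst G.hom g) ⁻¹ᵁ U))
    (f g : G ⟶ H) [hf : IsMonHom f] [hg : IsMonHom g] (h : U.ι ≫ f.left = U.ι ≫ g.left) :
    f = g := by
  have hUG : CInt.IsSchematicallyDense U :=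
    isSchematicallyDense_of_isIso (pullback.fst G.hom (𝟙 S)) U (hU S (𝟙 S))
  let e := equalizer.ι f.left g.left
  have hsurj : Function.Surjective e := by
    intro x
    let T : Over S := Over.mk (G.left.fromSpecResidueField x ≫ G.hom)
    let xt : T ⟶ G := Over.homMk (G.left.fromSpecResidueField x) rfl
    have hxt : xt.left = G.left.fromSpecResidueField x := rfl
    have hdense : Dense ((fst G T).left ⁻¹' (U : Set G.left)) :=
      dense_of_isSchematicallyDense ((fst G T).left ⁻¹ᵁ U) (hU _ T.hom)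
    haveI : Nonempty (G ⊗ T).left :=
      ⟨(lift xt (𝟙 T)).left (IsLocalRing.closedPoint (G.left.residueField x))⟩
    obtain ⟨w, hwU, hwV⟩ := exists_point T xt U hdense
    have hcf := exists_field_point T xt U w hwU hwV f g h
    refine ⟨equalizer.lift _ hcf (IsLocalRing.closedPoint _), ?_⟩
    rw [← Scheme.Hom.comp_apply, equalizer.lift_ι, Scheme.Hom.comp_apply, Scheme.Hom.comp_apply,
      hxt, Scheme.fromSpecResidueField_apply]
  haveI : IsClosedImmersion e :=
    IsClosedImmersion.of_isPreimmersion e (by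
      rw [hsurj.range_eq]; exact isClosed_univ)
  have hl : equalizer.lift U.ι h ≫ e = U.ι := equalizer.lift_ι _ _
  haveI : IsIso e := isIso_of_isSchematicallyDense_factors e U hUG _ hl
  ext1
  rw [← cancel_epi e]
  exact equalizer.condition _ _

end Groth.Agent.Lib.T2H3.RelDenseGrp
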