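import Groth.Agent.Lib.T2H9KoszulComp
import Groth.Agent.S2104
import Groth.Agent.S2105

/-!
# Composition of `H_1`-regular and quasi-regular immersions (T2 helper9)

* `h1_append_of_surjective`, `quasi_append_of_surjective`: ring-level appending along a surjection (from S2105, S2104).
* `atLen_comp`: generic pointwise composition of regular immersions given the ring-level statement.
* `isRegularImmersion_h1_comp`, `isRegularImmersion_quasi_comp`, `isRegularImmersion_koszul_comp`,
  `isRegularImmersion_iso_comp`.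
-/

set_option autoImplicit false
set_option linter.style.haveILetI false
set_option linter.unusedSectionVars false
universe u
open CategoryTheory AlgebraicGeometry Limits

namespace Groth.Agent.Lib.T2H9.RegComp

open Groth.Agent.Lib.T2H9.RegImmBC Groth.Agent.Lib.T2H9.KoszulComp

variable {R S : Type u} [CommRing R] [CommRing S]

theorem span_range_get (fs : List R) : Ideal.span (Set.range fs.get) = Ideal.ofList fs := by
  unfold Ideal.ofList
  congr 1
  ext x
  simp [List.mem_iff_get]

/-- transporting `H_1`-regularity of the image sequence to the quotient form used by S2104/S2105 -/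
theorem h1_quot_of_surjective (π : R →+* S) (hπ : Function.Surjective π) (fs gs : List R)
    (hker : RingHom.ker π = Ideal.ofList fs) (hgs : CAlgX.IsH1Regular (gs.map π).get) :
    CAlgX.IsH1Regular
      (fun j => Ideal.Quotient.mk (Ideal.span (Set.range fs.get)) (gs.get j)) := by
  have hI : RingHom.ker π = Ideal.span (Set.range fs.get) := by rw [hker, span_range_get]
  let e : S ≃+* R ⧸ Ideal.span (Set.range fs.get) :=
    (RingHom.quotientKerEquivOfSurjective hπ).symm.trans (Ideal.quotEquivOfEq hI)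
  have he : ∀ r : R, e (π r) = Ideal.Quotient.mk _ r := by
    intro r
    have h1 : (RingHom.quotientKerEquivOfSurjective hπ).symm (π r) =
        Ideal.Quotient.mk (RingHom.ker π) r := by
      rw [RingEquiv.symm_apply_eq]
      rfl
    show Ideal.quotEquivOfEq hI ((RingHom.quotientKerEquivOfSurjective hπ).symm (π r)) = _
    rw [h1, Ideal.quotEquivOfEq_mk]
  have hflat : (e : S →+* R ⧸ Ideal.span (Set.range fs.get)).Flat :=
    RingHom.Flat.of_bijective e.bijective
  have h2 := isH1Regular_map_of_flat (e : S →+* R ⧸ Ideal.span (Set.range fs.get)) hflat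
    (gs.map π) hgs
  refine h1_congr (by simp) _ _ ?_ h2
  intro i
  simp only [List.get_eq_getElem, List.getElem_map, RingHom.coe_coe, he]
  rfl

theorem append_get (fs gs : List R) (i : Fin (fs.length + gs.length)) :
    Fin.append fs.get gs.get i = (fs ++ gs).get (Fin.cast (List.length_append).symm i) := by
  refine Fin.addCases (fun a => ?_) (fun b => ?_) i
  · rw [Fin.append_left]
    simp only [List.get_eq_getElem, Fin.val_cast, Fin.val_castAdd]
    rw [List.getElem_append_left]
  · rw [Fin.append_right]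
    simp only [List.get_eq_getElem, Fin.val_cast, Fin.val_natAdd]
    rw [List.getElem_append_right (by omega)]
    congr 1
    omega

theorem h1_append_of_surjective (π : R →+* S) (hπ : Function.Surjective π) (fs gs : List R)
    (hker : RingHom.ker π = Ideal.ofList fs) (hfs : CAlgX.IsH1Regular fs.get)
    (hgs : CAlgX.IsH1Regular (gs.map π).get) : CAlgX.IsH1Regular (fs ++ gs).get := by
  have h := Groth.Agent.S2105.result fs.get gs.get hfs (h1_quot_of_surjective π hπ fs gs hker hgs)
  exact h1_congr (List.length_append).symm _ _ (append_get fs gs) h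

theorem quasi_append_of_surjective (π : R →+* S) (hπ : Function.Surjective π) (fs gs : List R)
    (hker : RingHom.ker π = Ideal.ofList fs) (hfs : CAlgX.IsQuasiRegular fs.get)
    (hgs : CAlgX.IsH1Regular (gs.map π).get) : CAlgX.IsQuasiRegular (fs ++ gs).get := by
  have h := Groth.Agent.S2104.result fs.get gs.get hfs (h1_quot_of_surjective π hπ fs gs hker hgs)
  exact quasi_congr (List.length_append).symm _ _ (append_get fs gs) h

/-- generic composition of regular immersions at a point, given the ring-level statement -/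
theorem atLen_comp (kf kg kr : RegImm.Kind)
    (H : ∀ {R S : Type u} [CommRing R] [CommRing S] (π : R →+* S), Function.Surjective π →
      ∀ fs gs : List R, RingHom.ker π = Ideal.ofList fs → kf.Seq R fs → kg.Seq S (gs.map π) →
        ∃ rs : List R, rs.length = gs.length + fs.length ∧
          Ideal.ofList rs = Ideal.ofList (gs ++ fs) ∧ kr.Seq R rs)
    {X Y Z : Scheme.{u}} (n m : ℕ) (i : Y ⟶ X) (j : Z ⟶ Y)
    [IsImmersion i] (z : Z) (hi : AtLen kf n i (j z)) (hj : AtLen kg m j z) :
    AtLen kr (m + n) (j ≫ i) z := by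
  obtain ⟨U, hyU, hclU, fs, hfl, hfseq, hfker⟩ := hi
  obtain ⟨V, hzV, hclV, gs, hgl, hgseq, hgker⟩ := hj
  haveI := hclU
  haveI := hclV
  obtain ⟨O, hO, hOV⟩ := (i.isEmbedding.isInducing.isOpen_iff).mp V.1.2
  have hxO : i (j z) ∈ (⟨O, hO⟩ : X.Opens) ⊓ U.1 := by
    refine ⟨?_, hyU⟩
    show j z ∈ i ⁻¹' O
    rw [hOV]
    exact hzV
  obtain ⟨U', hU', hxU', hle⟩ :=
    TopologicalSpace.Opens.isBasis_iff_nbhd.mp X.isBasis_affineOpens hxO
  have hleU : U' ≤ U.1 := hle.trans inf_le_right
  obtain ⟨hclU', fs', hfl', hfseq', hfker'⟩ :=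
    restrict_data kf i U.2 fs hfseq hfker hU' hleU (j z) hxU'
  haveI := hclU'
  have hW : IsAffineOpen (i ⁻¹ᵁ U') := isAffineOpen_preimage_of_restrict i hU'
  have hWV : i ⁻¹ᵁ U' ≤ V.1 := by
    intro y hy
    have h1 : i y ∈ O := (hle hy).1
    have h2 : y ∈ i ⁻¹' O := h1
    rw [hOV] at h2
    exact h2
  have hzW : j z ∈ i ⁻¹ᵁ U' := hxU'
  obtain ⟨hclW, gs', hgl', hgseq', hgker'⟩ :=
    restrict_data kg j V.2 gs hgseq hgker hW hWV z hzW
  haveI := hclW
  have hπ : Function.Surjective (i.app U').hom := app_surjective_of_restrict i hU'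
  obtain ⟨gs'', hgs'', hkk⟩ := exists_ker_comp_eq_ofList (i.app U').hom (j.app (i ⁻¹ᵁ U')).hom hπ
    fs' gs' hfker' hgker'
  rw [← hgs''] at hgseq'
  obtain ⟨rs, hrl, hrI, hrseq⟩ := H (i.app U').hom hπ fs' gs'' hfker' hfseq' hgseq'
  refine ⟨⟨U', hU'⟩, hxU', ?_, rs, ?_, hrseq, ?_⟩
  · show IsClosedImmersion ((j ≫ i) ∣_ U')
    rw [morphismRestrict_comp]
    exact @IsClosedImmersion.comp _ _ _ _ _ hclW hclU'
  · rw [hrl, hfl', hfl, ← hgl, ← hgl', ← hgs'', List.length_map]
  · rw [hrI]
    exact hkk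

/-- composition of `H_1`-regular immersions, pointwise with lengths -/
theorem atLen_h1_comp {X Y Z : Scheme.{u}} (n m : ℕ) (i : Y ⟶ X) (j : Z ⟶ Y)
    [IsImmersion i] (z : Z) (hi : AtLen .h1 n i (j z)) (hj : AtLen .h1 m j z) :
    AtLen .h1 (m + n) (j ≫ i) z := by
  refine atLen_comp .h1 .h1 .h1 ?_ n m i j z hi hj
  intro R S _ _ π hπ fs gs hker hfs hgs
  refine ⟨fs ++ gs, by rw [List.length_append, add_comm], ?_, ?_⟩
  · rw [Ideal.ofList_append, Ideal.ofList_append, sup_comm]
  · exact h1_append_of_surjective π hπ fs gs hker hfs hgs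

/-- composition of an `H_1`-regular immersion `j` with a quasi-regular immersion `i` -/
theorem atLen_quasi_comp {X Y Z : Scheme.{u}} (n m : ℕ) (i : Y ⟶ X) (j : Z ⟶ Y)
    [IsImmersion i] (z : Z) (hi : AtLen .quasi n i (j z)) (hj : AtLen .h1 m j z) :
    AtLen .quasi (m + n) (j ≫ i) z := by
  refine atLen_comp .quasi .h1 .quasi ?_ n m i j z hi hj
  intro R S _ _ π hπ fs gs hker hfs hgs
  refine ⟨fs ++ gs, by rw [List.length_append, add_comm], ?_, ?_⟩
  · rw [Ideal.ofList_append, Ideal.ofList_append, sup_comm]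
  · exact quasi_append_of_surjective π hπ fs gs hker hfs hgs

/-- from `IsRegularImmersion` to `AtLen` and back -/
theorem isRegularImmersion_comp_of_atLen (kf kg kr : RegImm.Kind)
    (H : ∀ {X Y Z : Scheme.{u}} (n m : ℕ) (i : Y ⟶ X) (j : Z ⟶ Y) [IsImmersion i] (z : Z),
      AtLen kf n i (j z) → AtLen kg m j z → AtLen kr (m + n) (j ≫ i) z)
    {X Y Z : Scheme.{u}} (i : Y ⟶ X) (j : Z ⟶ Y)
    (hi : RegImm.IsRegularImmersion kf i) (hj : RegImm.IsRegularImmersion kg j) :
    RegImm.IsRegularImmersion kr (j ≫ i) := by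
  obtain ⟨himm, hat⟩ := hi
  obtain ⟨hjmm, hjat⟩ := hj
  haveI := himm
  haveI := hjmm
  refine ⟨inferInstance, fun z => ?_⟩
  obtain ⟨U, h1, h2, fs, h3, h4⟩ := hat (j z)
  obtain ⟨V, g1, g2, gs, g3, g4⟩ := hjat z
  obtain ⟨U', k1, k2, rs, -, k3, k4⟩ :=
    H fs.length gs.length i j z ⟨U, h1, h2, fs, rfl, h3, h4⟩ ⟨V, g1, g2, gs, rfl, g3, g4⟩
  exact ⟨U', k1, k2, rs, k3, k4⟩

theorem isRegularImmersion_h1_comp {X Y Z : Scheme.{u}} (i : Y ⟶ X) (j : Z ⟶ Y)
    (hi : RegImm.IsRegularImmersion .h1 i) (hj : RegImm.IsRegularImmersion .h1 j) :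
    RegImm.IsRegularImmersion .h1 (j ≫ i) :=
  isRegularImmersion_comp_of_atLen .h1 .h1 .h1 atLen_h1_comp i j hi hj

theorem isRegularImmersion_quasi_comp {X Y Z : Scheme.{u}} (i : Y ⟶ X) (j : Z ⟶ Y)
    (hi : RegImm.IsRegularImmersion .quasi i) (hj : RegImm.IsRegularImmersion .h1 j) :
    RegImm.IsRegularImmersion .quasi (j ≫ i) :=
  isRegularImmersion_comp_of_atLen .quasi .h1 .quasi atLen_quasi_comp i j hi hj

theorem isRegularImmersion_koszul_comp {X Y Z : Scheme.{u}} (i : Y ⟶ X) (j : Z ⟶ Y)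
    (hi : RegImm.IsRegularImmersion .koszul i) (hj : RegImm.IsRegularImmersion .koszul j) :
    RegImm.IsRegularImmersion .koszul (j ≫ i) :=
  isRegularImmersion_comp_of_atLen .koszul .koszul .koszul atLen_koszul_comp i j hi hj

/-- precomposition with an isomorphism -/
theorem isRegularImmersion_iso_comp (k : RegImm.Kind) {X Z Z' : Scheme.{u}} (e : Z' ⟶ Z) [IsIso e]
    (i : Z ⟶ X) (hi : RegImm.IsRegularImmersion k i) : RegImm.IsRegularImmersion k (e ≫ i) := by
  obtain ⟨himm, hat⟩ := hi
  haveI := himm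
  refine ⟨inferInstance, fun z => ?_⟩
  obtain ⟨U, h1, h2, rs, h3, h4⟩ := hat (e z)
  haveI := h2
  refine ⟨U, h1, ?_, rs, h3, ?_⟩
  · rw [morphismRestrict_comp]
    haveI : IsIso (e ∣_ i ⁻¹ᵁ U.1) := inferInstance
    haveI : IsClosedImmersion (e ∣_ i ⁻¹ᵁ U.1) := inferInstance
    exact @IsClosedImmersion.comp _ _ _ _ _ this h2
  · rw [← h4]
    have hinj : Function.Injective (e.app (i ⁻¹ᵁ U.1)).hom :=
      ((ConcreteCategory.isIso_iff_bijective (e.app (i ⁻¹ᵁ U.1))).mp inferInstance).1
    ext x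
    rw [RingHom.mem_ker, RingHom.mem_ker]
    show (e.app (i ⁻¹ᵁ U.1)).hom ((i.app U.1).hom x) = 0 ↔ (i.app U.1).hom x = 0
    constructor
    · intro h
      exact hinj (by rw [h, map_zero])
    · intro h
      rw [h, map_zero]

end Groth.Agent.Lib.T2H9.RegComp
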