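import Mathlib
import Groth.Prelude.Def_CAlgX
import Groth.Agent.Lib.Helper5OrdVal
import Groth.Agent.Lib.Helper22FlatExact

/-!
# Quasi-regular sequences: `gr` is polynomial, flatness of `B ⧸ J ^ n` (helper9)

For a quasi-regular sequence `f` in an `A`-algebra `B` with `B ⧸ J` flat over `A` (`J = (f)`),
all the quotients `B ⧸ J ^ n` are flat over `A`.
-/

set_option autoImplicit false
universe u

namespace Groth.Agent.Lib.T2H9.QRegGr

open MvPolynomial

section

variable (B S : Type u) [CommRing B] [CommRing S] [Algebra B S] (c : ℕ)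

/-- Coefficientwise reduction to `S` (a model of `B ⧸ J`) on homogeneous polynomials of
degree `n`. -/
noncomputable def red (n : ℕ) : ↥(homogeneousSubmodule (Fin c) B n) →ₗ[B]
    MvPolynomial (Fin c) S :=
  (MvPolynomial.mapAlgHom (Algebra.ofId B S)).toLinearMap ∘ₗ
      (homogeneousSubmodule (Fin c) B n).subtype

theorem red_apply (n : ℕ) (P : ↥(homogeneousSubmodule (Fin c) B n)) :
    red B S c n P = MvPolynomial.map (algebraMap B S) (P : MvPolynomial (Fin c) B) :=
  rfl

variable {B S c} (f : Fin c → B)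

theorem red_eq_zero_iff (hker : RingHom.ker (algebraMap B S) = Ideal.span (Set.range f))
    (n : ℕ) (P : ↥(homogeneousSubmodule (Fin c) B n)) :
    red B S c n P = 0 ↔ ∀ d, coeff d (P : MvPolynomial (Fin c) B) ∈ Ideal.span (Set.range f) := by
  rw [red_apply, MvPolynomial.ext_iff]
  simp only [coeff_map, coeff_zero, ← hker, RingHom.mem_ker]

theorem mem_range_red (hS : Function.Surjective (algebraMap B S)) (n : ℕ)
    (Q : MvPolynomial (Fin c) S) : Q ∈ LinearMap.range (red B S c n) ↔ Q.IsHomogeneous n := by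
  constructor
  · rintro ⟨P, rfl⟩
    rw [red_apply]
    exact ((mem_homogeneousSubmodule _ _).mp P.2).map _
  · intro hQ
    obtain ⟨P, hP⟩ := MvPolynomial.map_surjective (algebraMap B S) hS Q
    refine ⟨⟨homogeneousComponent n P, homogeneousComponent_mem n P⟩, ?_⟩
    rw [red_apply]
    ext d
    rw [coeff_map, coeff_homogeneousComponent]
    split_ifs with h
    · rw [← coeff_map, hP]
    · rw [map_zero]
      by_contra hne
      exact h ((Finsupp.degree_eq_weight_one (R := ℕ)) ▸ (hQ (Ne.symm hne)))

/-- Evaluation at `f` of homogeneous polynomials of degree `n`, modulo `J ^ (n + 1)`. -/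
noncomputable def ev (n : ℕ) : ↥(homogeneousSubmodule (Fin c) B n) →ₗ[B]
    B ⧸ Ideal.span (Set.range f) ^ (n + 1) :=
  (Submodule.mkQ (Ideal.span (Set.range f) ^ (n + 1))) ∘ₗ (MvPolynomial.aeval f).toLinearMap ∘ₗ
    (homogeneousSubmodule (Fin c) B n).subtype

theorem ev_apply (n : ℕ) (P : ↥(homogeneousSubmodule (Fin c) B n)) :
    ev f n P = Ideal.Quotient.mk (Ideal.span (Set.range f) ^ (n + 1))
      (eval f (P : MvPolynomial (Fin c) B)) := by
  rfl

theorem ev_eq_zero_iff (n : ℕ) (P : ↥(homogeneousSubmodule (Fin c) B n)) :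
    ev f n P = 0 ↔ eval f (P : MvPolynomial (Fin c) B) ∈ Ideal.span (Set.range f) ^ (n + 1) := by
  rw [ev_apply, Ideal.Quotient.eq_zero_iff_mem]

theorem ker_red_le_ker_ev (hker : RingHom.ker (algebraMap B S) = Ideal.span (Set.range f))
    (n : ℕ) : LinearMap.ker (red B S c n) ≤ LinearMap.ker (ev f n) := by
  intro P hP
  rw [LinearMap.mem_ker, red_eq_zero_iff f hker] at hP
  rw [LinearMap.mem_ker, ev_eq_zero_iff]
  exact Helper5.OrdVal.eval_mem_pow_succ_of_coeff_mem f _ ((mem_homogeneousSubmodule _ _).mp P.2) hP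

theorem ker_ev_le_ker_red (hker : RingHom.ker (algebraMap B S) = Ideal.span (Set.range f))
    (hq : CAlgX.IsQuasiRegular f) (n : ℕ) :
    LinearMap.ker (ev f n) ≤ LinearMap.ker (red B S c n) := by
  intro P hP
  rw [LinearMap.mem_ker, ev_eq_zero_iff] at hP
  rw [LinearMap.mem_ker, red_eq_zero_iff f hker]
  exact hq n _ ((mem_homogeneousSubmodule _ _).mp P.2) hP

/-- The injection `H_n(B) ⧸ ker red → B ⧸ J ^ (n + 1)`. -/
noncomputable def iota (hker : RingHom.ker (algebraMap B S) = Ideal.span (Set.range f)) (n : ℕ) :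
    (↥(homogeneousSubmodule (Fin c) B n) ⧸ LinearMap.ker (red B S c n)) →ₗ[B]
      B ⧸ Ideal.span (Set.range f) ^ (n + 1) :=
  (LinearMap.ker (red B S c n)).liftQ (ev f n) (ker_red_le_ker_ev f hker n)

theorem iota_mk (hker : RingHom.ker (algebraMap B S) = Ideal.span (Set.range f)) (n : ℕ)
    (P : ↥(homogeneousSubmodule (Fin c) B n)) :
    iota f hker n (Submodule.Quotient.mk P) = ev f n P := rfl

theorem iota_injective (hker : RingHom.ker (algebraMap B S) = Ideal.span (Set.range f))
    (hq : CAlgX.IsQuasiRegular f) (n : ℕ) : Function.Injective (iota f hker n) := by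
  rw [← LinearMap.ker_eq_bot]
  exact Submodule.ker_liftQ_eq_bot _ _ _ (ker_ev_le_ker_red f hker hq n)

/-- The projection `B ⧸ J ^ (n + 1) → B ⧸ J ^ n`. -/
noncomputable def proj (n : ℕ) : (B ⧸ Ideal.span (Set.range f) ^ (n + 1)) →ₗ[B]
    B ⧸ Ideal.span (Set.range f) ^ n :=
  Submodule.mapQ (Ideal.span (Set.range f) ^ (n + 1)) (Ideal.span (Set.range f) ^ n) LinearMap.id
    (fun x hx => Ideal.pow_le_pow_right (Nat.le_succ n) hx)

theorem proj_surjective (n : ℕ) : Function.Surjective (proj f n) := by
  intro y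
  obtain ⟨b, rfl⟩ := Submodule.Quotient.mk_surjective _ y
  exact ⟨Submodule.Quotient.mk b, rfl⟩

theorem exact_iota_proj (hker : RingHom.ker (algebraMap B S) = Ideal.span (Set.range f)) (n : ℕ) :
    Function.Exact (iota f hker n) (proj f n) := by
  intro y
  obtain ⟨b, rfl⟩ := Submodule.Quotient.mk_surjective _ y
  have h1 : proj f n (Submodule.Quotient.mk b) = 0 ↔ b ∈ Ideal.span (Set.range f) ^ n := by
    change (Submodule.Quotient.mk b : B ⧸ Ideal.span (Set.range f) ^ n) = 0 ↔ _
    rw [Submodule.Quotient.mk_eq_zero]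
  rw [h1, Ideal.mem_span_pow_iff_exists_isHomogeneous]
  constructor
  · rintro ⟨P, hP, rfl⟩
    refine ⟨Submodule.Quotient.mk ⟨P, (mem_homogeneousSubmodule _ _).mpr hP⟩, ?_⟩
    rw [iota_mk, ev_apply]
    rfl
  · rintro ⟨x, hx⟩
    obtain ⟨P, rfl⟩ := Submodule.Quotient.mk_surjective _ x
    rw [iota_mk, ev_apply] at hx
    have hx' := (Ideal.Quotient.eq.mp hx)
    have hmem : eval f (P : MvPolynomial (Fin c) B) ∈ Ideal.span (Set.range f) ^ n :=
      (Ideal.mem_span_pow_iff_exists_isHomogeneous f _).mpr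
        ⟨P, (mem_homogeneousSubmodule _ _).mp P.2, rfl⟩
    have hb : b ∈ Ideal.span (Set.range f) ^ n := by
      have := Ideal.sub_mem _ hmem (Ideal.pow_le_pow_right (Nat.le_succ n) hx')
      simpa using this
    exact (Ideal.mem_span_pow_iff_exists_isHomogeneous f b).mp hb

end

section Flat

variable {A B S : Type u} [CommRing A] [CommRing B] [CommRing S] [Algebra A B] [Algebra B S]
  [Algebra A S] [IsScalarTower A B S] {c : ℕ} (f : Fin c → B)

theorem flat_range_red [Module.Flat A S] (hS : Function.Surjective (algebraMap B S)) (n : ℕ) :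
    Module.Flat A ↥(LinearMap.range (red B S c n)) := by
  have h1 : Module.Flat A (MvPolynomial (Fin c) S) := Module.Flat.trans A S _
  refine Module.Flat.of_retract
    ((LinearMap.range (red B S c n)).subtype.restrictScalars A)
    ((LinearMap.codRestrict (LinearMap.range (red B S c n))
      ((homogeneousComponent n : MvPolynomial (Fin c) S →ₗ[S] _).restrictScalars B)
      (fun P => (mem_range_red hS n _).mpr
        (homogeneousComponent_isHomogeneous n P))).restrictScalars A) ?_
  refine LinearMap.ext fun P => Subtype.ext ?_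
  exact homogeneousComponent_eq_self ((mem_range_red hS n _).mp P.2)

theorem flat_quot_ker_red [Module.Flat A S] (hS : Function.Surjective (algebraMap B S)) (n : ℕ) :
    Module.Flat A (↥(homogeneousSubmodule (Fin c) B n) ⧸ LinearMap.ker (red B S c n)) := by
  have := flat_range_red (A := A) (B := B) (S := S) (c := c) hS n
  exact Module.Flat.of_linearEquiv
    ((LinearMap.quotKerEquivRange (red B S c n)).restrictScalars A)

/-- **All `B ⧸ J ^ n` are `A`-flat** for `J` generated by a quasi-regular sequence with `B ⧸ J`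
flat over `A` (`S` is a model of `B ⧸ J`). -/
theorem flat_quot_pow_aux [Module.Flat A S] (hS : Function.Surjective (algebraMap B S))
    (hker : RingHom.ker (algebraMap B S) = Ideal.span (Set.range f))
    (hq : CAlgX.IsQuasiRegular f) (n : ℕ) :
    Module.Flat A (B ⧸ Ideal.span (Set.range f) ^ n) := by
  induction n with
  | zero =>
    have : Subsingleton (B ⧸ Ideal.span (Set.range f) ^ 0) := by
      rw [pow_zero, Ideal.one_eq_top]
      exact Ideal.Quotient.subsingleton_iff.mpr rfl
    infer_instance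
  | succ n ih =>
    have := flat_quot_ker_red (A := A) (B := B) (S := S) (c := c) hS n
    exact Helper22.flat_of_exact_of_flat_flat' ((iota f hker n).restrictScalars A)
      ((proj f n).restrictScalars A) (iota_injective f hker hq n) (proj_surjective f n)
      (exact_iota_proj f hker n)

theorem flat_quot_pow (hq : CAlgX.IsQuasiRegular f)
    [Module.Flat A (B ⧸ Ideal.span (Set.range f))] (n : ℕ) :
    Module.Flat A (B ⧸ Ideal.span (Set.range f) ^ n) :=
  flat_quot_pow_aux (S := B ⧸ Ideal.span (Set.range f)) f Ideal.Quotient.mk_surjective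
    (by rw [Ideal.Quotient.algebraMap_eq, Ideal.mk_ker]) hq n

end Flat

end Groth.Agent.Lib.T2H9.QRegGr
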