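import Mathlib
import Groth.Agent.Lib.T2H9QRegGr

/-!
# Base change of a quasi-regular sequence with flat quotient (helper9)
-/

set_option autoImplicit false
universe u

namespace Groth.Agent.Lib.T2H9.QRegBC

open MvPolynomial TensorProduct Groth.Agent.Lib.T2H9.QRegGr

section

variable {A B : Type u} (A' : Type u) [CommRing A] [CommRing B] [CommRing A'] [Algebra A B]
  [Algebra A A'] {r : ℕ} (f : Fin r → B)

theorem span_range_tmul :
    Ideal.span (Set.range (fun i => ((1 : A') ⊗ₜ[A] f i : A' ⊗[A] B))) =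
      Ideal.map (Algebra.TensorProduct.includeRight : B →ₐ[A] A' ⊗[A] B)
        (Ideal.span (Set.range f)) := by
  rw [Ideal.map_span, ← Set.range_comp]
  rfl

/-- `A' ⊗ H_n(B) → (A' ⊗ B)[X]`. -/
noncomputable def theta (n : ℕ) : A' ⊗[A] ↥(homogeneousSubmodule (Fin r) B n) →ₗ[A']
    MvPolynomial (Fin r) (A' ⊗[A] B) :=
  LinearMap.liftBaseChange A'
    ((MvPolynomial.mapAlgHom (Algebra.TensorProduct.includeRight : B →ₐ[A] A' ⊗[A] B)).toLinearMap ∘ₗ
      ((homogeneousSubmodule (Fin r) B n).subtype.restrictScalars A))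

theorem theta_tmul (n : ℕ) (a' : A') (Q : ↥(homogeneousSubmodule (Fin r) B n)) :
    theta A' (r := r) n (a' ⊗ₜ[A] Q) = a' • MvPolynomial.map
      ((Algebra.TensorProduct.includeRight : B →ₐ[A] A' ⊗[A] B) : B →+* A' ⊗[A] B)
      (Q : MvPolynomial (Fin r) B) := by
  rw [theta, LinearMap.liftBaseChange_tmul]
  rfl

theorem monomial_mem_range_theta (n : ℕ) (d : Fin r →₀ ℕ) (hd : d.degree = n) (t : A' ⊗[A] B) :
    monomial d t ∈ LinearMap.range (theta (A := A) (B := B) A' (r := r) n) := by
  induction t with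
  | zero => rw [map_zero]; exact Submodule.zero_mem _
  | add x y hx hy => rw [map_add]; exact Submodule.add_mem _ hx hy
  | tmul a' b =>
    refine ⟨a' ⊗ₜ[A] ⟨monomial d b, ?_⟩, ?_⟩
    · rw [mem_homogeneousSubmodule]
      exact isHomogeneous_monomial b (by rw [← hd, Finsupp.degree_eq_weight_one])
    · rw [theta_tmul, map_monomial, smul_monomial]
      congr 1
      change a' • ((1 : A') ⊗ₜ[A] b) = _
      rw [TensorProduct.smul_tmul', smul_eq_mul, mul_one]

theorem mem_range_theta (n : ℕ) (P : MvPolynomial (Fin r) (A' ⊗[A] B)) (hP : P.IsHomogeneous n) :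
    P ∈ LinearMap.range (theta (A := A) (B := B) A' (r := r) n) := by
  rw [P.as_sum]
  refine Submodule.sum_mem _ fun d hd => ?_
  refine monomial_mem_range_theta A' n d ?_ _
  rw [Finsupp.degree_eq_weight_one]
  exact hP (mem_support_iff.mp hd)

/-- Key identity: reducing `eval f' (θ z)` modulo `J ^ (n + 1)` is `A' ⊗ ev`. -/
theorem lTensor_mkQ_eval_theta (n : ℕ) (z : A' ⊗[A] ↥(homogeneousSubmodule (Fin r) B n)) :
    (LinearMap.lTensor A' ((Submodule.mkQ (Ideal.span (Set.range f) ^ (n + 1))).restrictScalars A))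
      (eval (fun i => ((1 : A') ⊗ₜ[A] f i : A' ⊗[A] B)) (theta A' n z)) =
    (LinearMap.lTensor A' ((ev f n).restrictScalars A)) z := by
  induction z with
  | zero => simp
  | add x y hx hy => rw [map_add, map_add, map_add, map_add, hx, hy]
  | tmul a' Q =>
    rw [theta_tmul, LinearMap.lTensor_tmul]
    have h1 : eval (fun i => ((1 : A') ⊗ₜ[A] f i : A' ⊗[A] B))
        (a' • MvPolynomial.map
          ((Algebra.TensorProduct.includeRight : B →ₐ[A] A' ⊗[A] B) : B →+* A' ⊗[A] B)
          (Q : MvPolynomial (Fin r) B)) = a' ⊗ₜ[A] (eval f (Q : MvPolynomial (Fin r) B)) := by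
      rw [← algebraMap_smul (A' ⊗[A] B) a', smul_eval, eval_map]
      have h2 := eval₂_comp_left
        ((Algebra.TensorProduct.includeRight : B →ₐ[A] A' ⊗[A] B) : B →+* A' ⊗[A] B)
        (RingHom.id B) f (Q : MvPolynomial (Fin r) B)
      rw [RingHom.comp_id] at h2
      have h3 : eval₂ (RingHom.id B) f (Q : MvPolynomial (Fin r) B) = eval f Q := rfl
      rw [h3] at h2
      have h4 : (((Algebra.TensorProduct.includeRight : B →ₐ[A] A' ⊗[A] B) : B →+* A' ⊗[A] B) ∘ f) =
          fun i => ((1 : A') ⊗ₜ[A] f i : A' ⊗[A] B) := rfl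
      rw [h4] at h2
      rw [← h2, Algebra.TensorProduct.algebraMap_apply]
      change (algebraMap A' A' a' ⊗ₜ[A] (1 : B)) * ((1 : A') ⊗ₜ[A] _) = _
      rw [Algebra.TensorProduct.tmul_mul_tmul, one_mul, Algebra.algebraMap_self_apply, mul_one]
    rw [h1, LinearMap.lTensor_tmul]
    rfl

theorem lTensor_mkQ_eq_zero_of_mem_map (I : Ideal B) (y : A' ⊗[A] B)
    (hy : y ∈ Ideal.map (Algebra.TensorProduct.includeRight : B →ₐ[A] A' ⊗[A] B) I) :
    (LinearMap.lTensor A' ((Submodule.mkQ I).restrictScalars A)) y = 0 := by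
  have h := Ideal.map_includeRight_eq (R := A) (A := A') I
  have hy' : y ∈ (Ideal.map (Algebra.TensorProduct.includeRight : B →ₐ[A] A' ⊗[A] B)
      I).restrictScalars A := hy
  rw [h] at hy'
  obtain ⟨w, rfl⟩ := hy'
  rw [← LinearMap.comp_apply, ← LinearMap.lTensor_comp]
  have : ((Submodule.mkQ I).restrictScalars A) ∘ₗ (Submodule.subtype (I.restrictScalars A)) = 0 := by
    ext x
    exact (Submodule.Quotient.mk_eq_zero I).mpr x.2
  rw [this, LinearMap.lTensor_zero, LinearMap.zero_apply]

theorem coeff_theta_mem (n : ℕ) (K : Submodule B ↥(homogeneousSubmodule (Fin r) B n))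
    (hK : ∀ Q ∈ K, ∀ d, coeff d (Q : MvPolynomial (Fin r) B) ∈ Ideal.span (Set.range f))
    (w : A' ⊗[A] ↥K) (d : Fin r →₀ ℕ) :
    coeff d (theta A' n (LinearMap.lTensor A' (K.subtype.restrictScalars A) w)) ∈
      Ideal.map (Algebra.TensorProduct.includeRight : B →ₐ[A] A' ⊗[A] B)
        (Ideal.span (Set.range f)) := by
  induction w with
  | zero => simp
  | add x y hx hy =>
    rw [map_add, map_add, coeff_add]
    exact Ideal.add_mem _ hx hy
  | tmul a' Q =>
    rw [LinearMap.lTensor_tmul, theta_tmul, ← algebraMap_smul (A' ⊗[A] B) a', coeff_smul,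
      coeff_map, smul_eq_mul]
    exact Ideal.mul_mem_left _ _ (Ideal.mem_map_of_mem _ (hK Q Q.2 d))

end

section Main

variable {A B : Type u} (A' : Type u) [CommRing A] [CommRing B] [CommRing A'] [Algebra A B]
  [Algebra A A'] {r : ℕ} (f : Fin r → B)

theorem core (n : ℕ) (K : Submodule B ↥(homogeneousSubmodule (Fin r) B n))
    (hK : ∀ Q ∈ K, ∀ d, coeff d (Q : MvPolynomial (Fin r) B) ∈ Ideal.span (Set.range f))
    (z : A' ⊗[A] ↥(homogeneousSubmodule (Fin r) B n))
    (h2 : (LinearMap.lTensor A' (K.mkQ.restrictScalars A)) z = 0) (d : Fin r →₀ ℕ) :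
    coeff d (theta A' n z) ∈
      Ideal.map (Algebra.TensorProduct.includeRight : B →ₐ[A] A' ⊗[A] B)
        (Ideal.span (Set.range f)) := by
  have hex : Function.Exact (K.subtype.restrictScalars A) (K.mkQ.restrictScalars A) :=
    LinearMap.exact_subtype_mkQ K
  have hsurj : Function.Surjective (K.mkQ.restrictScalars A) := Submodule.mkQ_surjective K
  have h3 :=
    lTensor_exact (R := A) (M := ↥K) (f := K.subtype.restrictScalars A) A' hex hsurj
  obtain ⟨w, hw⟩ := (h3 z).mp h2
  rw [← hw]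
  exact coeff_theta_mem A' f n K hK w d

theorem main_aux (S : Type u) [CommRing S] [Algebra B S] [Algebra A S] [IsScalarTower A B S]
    [Module.Flat A S] (hS : Function.Surjective (algebraMap B S))
    (hker : RingHom.ker (algebraMap B S) = Ideal.span (Set.range f))
    (hq : CAlgX.IsQuasiRegular f) :
    CAlgX.IsQuasiRegular (fun i => ((1 : A') ⊗ₜ[A] f i : A' ⊗[A] B)) := by
  intro n P hP hev d
  obtain ⟨z, rfl⟩ := mem_range_theta A' n P hP
  rw [span_range_tmul, ← Ideal.map_pow] at hev
  have h1 := lTensor_mkQ_eq_zero_of_mem_map A' _ _ hev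
  rw [lTensor_mkQ_eval_theta] at h1
  have hfac : (ev f n).restrictScalars A =
      ((iota f hker n).restrictScalars A) ∘ₗ
        ((LinearMap.ker (red B S r n)).mkQ.restrictScalars A) := by
    ext Q
    rfl
  rw [hfac, LinearMap.lTensor_comp, LinearMap.comp_apply] at h1
  have hflatn : Module.Flat A (B ⧸ Ideal.span (Set.range f) ^ n) :=
    flat_quot_pow_aux f hS hker hq n
  have hinj : Function.Injective (LinearMap.lTensor A' ((iota f hker n).restrictScalars A)) :=
    LinearMap.lTensor_injective_of_exact_of_flat ((proj f n).restrictScalars A)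
      (proj_surjective f n) ((iota f hker n).restrictScalars A) (iota_injective f hker hq n)
      (exact_iota_proj f hker n) A'
  have h2 : (LinearMap.lTensor A' ((LinearMap.ker (red B S r n)).mkQ.restrictScalars A)) z = 0 := by
    apply hinj
    rw [h1, map_zero]
  rw [span_range_tmul]
  exact core A' f n _ (fun Q hQ => (red_eq_zero_iff f hker n Q).mp hQ) z h2 d

/-- **Base change of a quasi-regular sequence with `A`-flat quotient is quasi-regular.** -/
theorem main (hflat : Module.Flat A (B ⧸ Ideal.span (Set.range f)))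
    (hq : CAlgX.IsQuasiRegular f) :
    CAlgX.IsQuasiRegular (fun i => ((1 : A') ⊗ₜ[A] f i : A' ⊗[A] B)) :=
  main_aux A' f (B ⧸ Ideal.span (Set.range f)) Ideal.Quotient.mk_surjective
    (by rw [Ideal.Quotient.algebraMap_eq, Ideal.mk_ker]) hq

end Main

end Groth.Agent.Lib.T2H9.QRegBC
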