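import Groth.Agent.Lib.T2H9RegImmBC
import Groth.Agent.Lib.T2H9RegComp
import Groth.Agent.S9272
import Groth.Agent.S9273

/-!
# Base change of relative `H_1`-regular / quasi-regular immersions (T2 helper3)

* `isRegularImmersionAt_of_isPullback`: pointwise flat base change with the affine neighbourhood
  inside a prescribed open; `exists_affine_le`: shrinking the affine chart of a regular immersion.
* `seq_map_of_isPushout`: ring-level base change (S9272 / S9273) in pushout form.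
* `main`: base change of relative `H_1`-regular / quasi-regular immersions.
-/

set_option autoImplicit false
set_option linter.style.haveILetI false
set_option linter.unusedSectionVars false
universe u
open CategoryTheory AlgebraicGeometry Limits

namespace Groth.Agent.Lib.T2H3.RelRegBC

open Groth.Agent.Lib.T2H9.RegImmBC
open scoped TensorProduct

section Ring

theorem isH1Regular_ringEquiv {R R' : Type u} [CommRing R] [CommRing R'] (e : R ≃+* R') {c : ℕ}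
    (f : Fin c → R) (h : CAlgX.IsH1Regular f) : CAlgX.IsH1Regular (fun i => e (f i)) := by
  letI := e.toRingHom.toAlgebra
  haveI : Module.Flat R R' := RingHom.Flat.of_bijective (f := e.toRingHom) e.bijective
  exact isH1Regular_comp_of_flat f h

theorem isQuasiRegular_ringEquiv {R R' : Type u} [CommRing R] [CommRing R'] (e : R ≃+* R') {c : ℕ}
    (f : Fin c → R) (h : CAlgX.IsQuasiRegular f) : CAlgX.IsQuasiRegular (fun i => e (f i)) := by
  letI := e.toRingHom.toAlgebra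
  haveI : Module.Flat R R' := RingHom.Flat.of_bijective (f := e.toRingHom) e.bijective
  exact isQuasiRegular_comp_of_flat f h

theorem flat_quotient_of_surjective {A B C : Type u} [CommRing A] [CommRing B] [CommRing C]
    [Algebra A B] (π : B →+* C) (hπ : Function.Surjective π)
    (hflat : (π.comp (algebraMap A B)).Flat) (I : Ideal B) (hI : RingHom.ker π = I) :
    Module.Flat A (B ⧸ I) := by
  subst hI
  letI : Algebra A C := (π.comp (algebraMap A B)).toAlgebra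
  haveI : Module.Flat A C := hflat
  let e : (B ⧸ RingHom.ker π) ≃ₗ[A] C :=
    { (RingHom.quotientKerEquivOfSurjective hπ).toAddEquiv with
      map_smul' := fun a x => by
        obtain ⟨b, rfl⟩ := Ideal.Quotient.mk_surjective x
        show RingHom.quotientKerEquivOfSurjective hπ (a • Ideal.Quotient.mk _ b) =
          a • RingHom.quotientKerEquivOfSurjective hπ (Ideal.Quotient.mk _ b)
        rw [Algebra.smul_def, Algebra.smul_def, map_mul]
        rfl }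
  exact Module.Flat.of_linearEquiv e

/-- ring-level base change of `H_1`-regular / quasi-regular sequences with flat quotient, in pushout form -/
theorem seq_map_of_isPushout (k : RegImm.Kind) (hk : k = .h1 ∨ k = .quasi)
    (A A' B B' : Type u) [CommRing A] [CommRing A'] [CommRing B] [CommRing B']
    [Algebra A A'] [Algebra A B] [Algebra A' B'] [Algebra B B'] [Algebra A B']
    [IsScalarTower A A' B'] [IsScalarTower A B B'] [Algebra.IsPushout A A' B B']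
    (rs : List B) (hflat : Module.Flat A (B ⧸ Ideal.ofList rs)) (h : k.Seq B rs) :
    k.Seq B' (rs.map (algebraMap B B')) := by
  have hflat' : Module.Flat A (B ⧸ Ideal.span (Set.range rs.get)) := by
    rw [Groth.Agent.Lib.T2H9.RegComp.span_range_get]; exact hflat
  let e : A' ⊗[A] B ≃+* B' := (Algebra.IsPushout.equiv A A' B B').toRingEquiv
  have he : ∀ b : B, e (1 ⊗ₜ b) = algebraMap B B' b := fun b => by
    show Algebra.IsPushout.equiv A A' B B' (1 ⊗ₜ b) = _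
    rw [Algebra.IsPushout.equiv_tmul, map_one, one_mul]
  rcases hk with rfl | rfl
  · have h1 := Groth.Agent.S9273.result A B A' rs.length rs.get hflat' h
    have h2 := isH1Regular_ringEquiv e _ h1
    refine h1_congr (List.length_map _).symm _ _ ?_ h2
    intro i
    simp [he]
  · have h1 := Groth.Agent.S9272.result A B A' rs.length rs.get hflat' h
    have h2 := isQuasiRegular_ringEquiv e _ h1
    refine quasi_congr (List.length_map _).symm _ _ ?_ h2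
    intro i
    simp [he]

end Ring

section Shrink

variable {X Y X₀ Y₀ : Scheme.{u}} {g : X ⟶ Y} {i : Y₀ ⟶ Y} {i' : X₀ ⟶ X} {g₀ : X₀ ⟶ Y₀}

/-- pointwise flat base change of regular immersions, with the affine neighbourhood inside a
prescribed open -/
theorem isRegularImmersionAt_of_isPullback (sq : IsPullback i' g₀ g i) [Flat g] (k : RegImm.Kind)
    (z' : X₀) (hat : RegImm.IsRegularImmersionAt k i (g₀ z')) (N : X.Opens) (hN : i' z' ∈ N) :
    ∃ V : X.affineOpens, i' z' ∈ V.1 ∧ V.1 ≤ N ∧ IsClosedImmersion (i' ∣_ V.1) ∧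
      ∃ rs : List Γ(X, V.1), k.Seq Γ(X, V.1) rs ∧
        RingHom.ker (i'.app V.1).hom = Ideal.ofList rs := by
  obtain ⟨U, hzU, hcl, rs, hseq, hker⟩ := hat
  haveI := hcl
  have hx' : i' z' ∈ g ⁻¹ᵁ U.1 ⊓ N := by
    refine ⟨?_, hN⟩
    show g (i' z') ∈ U.1
    have h := congrArg (fun φ : X₀ ⟶ Y => φ z') sq.w
    have h' : g (i' z') = i (g₀ z') := h
    rw [h']
    exact hzU
  obtain ⟨V, hV, hxV, hle0⟩ := TopologicalSpace.Opens.isBasis_iff_nbhd.mp X.isBasis_affineOpens hx'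
  have hle : V ≤ g ⁻¹ᵁ U.1 := hle0.trans inf_le_left
  haveI hcl' : IsClosedImmersion (i' ∣_ V) :=
    isClosedImmersion_morphismRestrict_of_isPullback sq U.1 V hle
  have hk : RingHom.ker (i'.app V).hom = Ideal.ofList (rs.map (g.appLE U.1 V hle).hom) := by
    rw [ker_app_eq sq U.2 hV hle, hker, Ideal.map_ofList]
  refine ⟨⟨V, hV⟩, hxV, hle0.trans inf_le_right, hcl', rs.map (g.appLE U.1 V hle).hom, ?_, hk⟩
  refine seq_map_of_flat k _ (Flat.flat_appLE g U.2 hV hle) rs hseq ?_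
  haveI : Nonempty ↥(i' ⁻¹ᵁ V) := ⟨⟨z', hxV⟩⟩
  rw [← hk]
  exact RingHom.ker_ne_top _

/-- the affine chart of a regular immersion at a point can be taken inside any open neighbourhood -/
theorem exists_affine_le (k : RegImm.Kind) (z : Y₀) (hat : RegImm.IsRegularImmersionAt k i z)
    (N : Y.Opens) (hN : i z ∈ N) :
    ∃ V : Y.affineOpens, i z ∈ V.1 ∧ V.1 ≤ N ∧ IsClosedImmersion (i ∣_ V.1) ∧
      ∃ rs : List Γ(Y, V.1), k.Seq Γ(Y, V.1) rs ∧
        RingHom.ker (i.app V.1).hom = Ideal.ofList rs := by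
  have sqid : IsPullback i (𝟙 Y₀) (𝟙 Y) i := IsPullback.of_vert_isIso ⟨by simp⟩
  exact isRegularImmersionAt_of_isPullback sqid k z hat N hN

end Shrink

section Main

theorem main {Z X S S' X' Z' : Scheme.{u}} (f : X ⟶ S) (i : Z ⟶ X) (g : S' ⟶ S)
    (p : X' ⟶ X) (q : X' ⟶ S') (sq1 : IsPullback p q f g)
    (i' : Z' ⟶ X') (r : Z' ⟶ Z) (sq2 : IsPullback i' r p i)
    (k : RegImm.Kind) (hk : k = .h1 ∨ k = .quasi) (hi : RegImm.IsRelRegularImmersion k f i) :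
    RegImm.IsRelRegularImmersion k q i' := by
  obtain ⟨⟨himm, hat⟩, hflat⟩ := hi
  haveI := himm
  haveI := hflat
  refine ⟨⟨MorphismProperty.of_isPullback sq2.flip himm, fun z' => ?_⟩, ?_⟩
  · have hw2 : p (i' z') = i (r z') := congrArg (fun φ : Z' ⟶ X => φ z') sq2.w
    have hw1 : f (p (i' z')) = g (q (i' z')) := congrArg (fun φ : X' ⟶ S => φ (i' z')) sq1.w
    obtain ⟨V, hV, hxV, -⟩ := exists_isAffineOpen_mem_and_subset (X := S) (x := f (i (r z')))
      (U := ⊤) trivial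
    have hW0 : q (i' z') ∈ g ⁻¹ᵁ V := by
      show g (q (i' z')) ∈ V
      rw [← hw1, hw2]
      exact hxV
    obtain ⟨W, hW, hxW, hWle⟩ := exists_isAffineOpen_mem_and_subset hW0
    obtain ⟨U₁, hxU₁, hU₁le, hcl, rs, hseq, hker⟩ :=
      exists_affine_le k (r z') (hat (r z')) (f ⁻¹ᵁ V) hxV
    haveI := hcl
    have hU₁ : IsAffineOpen U₁.1 := U₁.2
    have hOle : p ⁻¹ᵁ U₁.1 ⊓ q ⁻¹ᵁ W ≤ p ⁻¹ᵁ U₁.1 := inf_le_left
    have hO : IsAffineOpen (p ⁻¹ᵁ U₁.1 ⊓ q ⁻¹ᵁ W) := by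
      have : IsAffine _ := hV
      have : IsAffine _ := hW
      have : IsAffine _ := hU₁
      exact .of_isIso (Scheme.Hom.isPullback_resLE sq1 hWle hU₁le rfl).isoPullback.hom
    have hzO : i' z' ∈ p ⁻¹ᵁ U₁.1 ⊓ q ⁻¹ᵁ W := by
      refine ⟨?_, hxW⟩
      show p (i' z') ∈ U₁.1
      rw [hw2]
      exact hxU₁
    haveI hcl' : IsClosedImmersion (i' ∣_ (p ⁻¹ᵁ U₁.1 ⊓ q ⁻¹ᵁ W)) :=
      isClosedImmersion_morphismRestrict_of_isPullback sq2 U₁.1 _ hOle
    have hk' : RingHom.ker (i'.app (p ⁻¹ᵁ U₁.1 ⊓ q ⁻¹ᵁ W)).hom =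
        Ideal.ofList (rs.map (p.appLE U₁.1 (p ⁻¹ᵁ U₁.1 ⊓ q ⁻¹ᵁ W) hOle).hom) := by
      rw [ker_app_eq sq2 hU₁ hO hOle, hker, Ideal.map_ofList]
    refine ⟨⟨_, hO⟩, hzO, hcl', rs.map (p.appLE U₁.1 (p ⁻¹ᵁ U₁.1 ⊓ q ⁻¹ᵁ W) hOle).hom, ?_, hk'⟩
    -- the ring-level input
    letI aAB : Algebra Γ(S, V) Γ(X, U₁.1) := (f.appLE V U₁.1 hU₁le).hom.toAlgebra
    letI aAA' : Algebra Γ(S, V) Γ(S', W) := (g.appLE V W hWle).hom.toAlgebra
    letI aBB' : Algebra Γ(X, U₁.1) Γ(X', p ⁻¹ᵁ U₁.1 ⊓ q ⁻¹ᵁ W) :=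
      (p.appLE U₁.1 (p ⁻¹ᵁ U₁.1 ⊓ q ⁻¹ᵁ W) hOle).hom.toAlgebra
    letI aA'B' : Algebra Γ(S', W) Γ(X', p ⁻¹ᵁ U₁.1 ⊓ q ⁻¹ᵁ W) :=
      (q.appLE W (p ⁻¹ᵁ U₁.1 ⊓ q ⁻¹ᵁ W) inf_le_right).hom.toAlgebra
    letI aAB' : Algebra Γ(S, V) Γ(X', p ⁻¹ᵁ U₁.1 ⊓ q ⁻¹ᵁ W) :=
      ((algebraMap Γ(X, U₁.1) Γ(X', p ⁻¹ᵁ U₁.1 ⊓ q ⁻¹ᵁ W)).comp
        (algebraMap Γ(S, V) Γ(X, U₁.1))).toAlgebra
    haveI : IsScalarTower Γ(S, V) Γ(X, U₁.1) Γ(X', p ⁻¹ᵁ U₁.1 ⊓ q ⁻¹ᵁ W) :=
      IsScalarTower.of_algebraMap_eq fun _ => rfl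
    have hPO : IsPushout (f.appLE V U₁.1 hU₁le) (g.appLE V W hWle)
        (p.appLE U₁.1 (p ⁻¹ᵁ U₁.1 ⊓ q ⁻¹ᵁ W) hOle)
        (q.appLE W (p ⁻¹ᵁ U₁.1 ⊓ q ⁻¹ᵁ W) inf_le_right) := by
      have := isIso_pushoutSection_of_isAffineOpen sq1 hWle hU₁le rfl hV hW hU₁
      exact (isIso_pushoutSection_iff sq1 _ _ rfl).mp this
    haveI : IsScalarTower Γ(S, V) Γ(S', W) Γ(X', p ⁻¹ᵁ U₁.1 ⊓ q ⁻¹ᵁ W) :=
      IsScalarTower.of_algebraMap_eq fun a => congr($(hPO.w) a)
    haveI : Algebra.IsPushout Γ(S, V) Γ(S', W) Γ(X, U₁.1) Γ(X', p ⁻¹ᵁ U₁.1 ⊓ q ⁻¹ᵁ W) :=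
      CommRingCat.isPushout_iff_isPushout.mp hPO.flip
    -- flatness of the quotient
    have hZaff : IsAffineOpen (i ⁻¹ᵁ U₁.1) := isAffineOpen_preimage_of_restrict i hU₁
    have hle' : i ⁻¹ᵁ U₁.1 ≤ (i ≫ f) ⁻¹ᵁ V := by
      rw [Scheme.Hom.comp_preimage]
      exact i.preimage_mono hU₁le
    have hcomp : f.appLE V U₁.1 hU₁le ≫ i.app U₁.1 = (i ≫ f).appLE V (i ⁻¹ᵁ U₁.1) hle' := by
      rw [Scheme.Hom.app_eq_appLE, Scheme.Hom.appLE_comp_appLE]
    have hfl : ((i.app U₁.1).hom.comp (algebraMap Γ(S, V) Γ(X, U₁.1))).Flat := by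
      have h1 : (i.app U₁.1).hom.comp (algebraMap Γ(S, V) Γ(X, U₁.1)) =
          ((i ≫ f).appLE V (i ⁻¹ᵁ U₁.1) hle').hom := by
        rw [← hcomp]; rfl
      rw [h1]
      exact Flat.flat_appLE (i ≫ f) hV hZaff hle'
    have hquot : Module.Flat Γ(S, V) (Γ(X, U₁.1) ⧸ Ideal.ofList rs) :=
      flat_quotient_of_surjective (i.app U₁.1).hom (app_surjective_of_restrict i hU₁) hfl _ hker
    exact seq_map_of_isPushout k hk Γ(S, V) Γ(S', W) Γ(X, U₁.1) Γ(X', p ⁻¹ᵁ U₁.1 ⊓ q ⁻¹ᵁ W)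
      rs hquot hseq
  · have big : IsPullback (i' ≫ q) r g (i ≫ f) := sq2.paste_horiz sq1.flip
    exact MorphismProperty.of_isPullback (P := @Flat) big.flip hflat

end Main

end Groth.Agent.Lib.T2H3.RelRegBC
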