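import Mathlib

/-!
# The residue field of a point of a cofiltered limit of schemes

For `Y = lim Y_i` (affine transition maps) and `y : Y` with images `y_i`, the residue field `κ(y)`
is the directed union of the images `K_i` of the `κ(y_i)`.  We set up the system `Spec K_i`, its
limit `Spec (⨆ K_i)`, and the maps to `Y_i`.
-/

set_option autoImplicit false
set_option linter.style.haveILetI false
universe u
open CategoryTheory CategoryTheory.Limits AlgebraicGeometry

namespace Groth.Agent.Lib.T2H3.ResFieldSys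

variable {J : Type u} [SmallCategory J] (DY : J ⥤ Scheme.{u}) (cY : Cone DY) (y : cY.pt)

/-- the residue field map at stage `i`. -/
noncomputable abbrev r (i : J) :
    (DY.obj i).residueField (cY.π.app i y) ⟶ cY.pt.residueField y :=
  (cY.π.app i).residueFieldMap y

/-- the image of `κ(y_i)` in `κ(y)`. -/
noncomputable def K (i : J) : Subfield (cY.pt.residueField y) := (r DY cY y i).hom.fieldRange

theorem K_mono {i j : J} (a : i ⟶ j) : K DY cY y j ≤ K DY cY y i := by
  rintro _ ⟨z, rfl⟩
  have h1 := Scheme.Hom.residueFieldMap_congr (cY.w a).symm y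
  rw [Scheme.residueFieldMap_comp] at h1
  have h2 := congrArg (fun q : (DY.obj j).residueField (cY.π.app j y) ⟶ cY.pt.residueField y =>
    q z) h1
  simp only [CommRingCat.comp_apply] at h2
  exact ⟨_, h2.symm⟩

/-- the union of the `K i`. -/
noncomputable def Kinf : Subfield (cY.pt.residueField y) := ⨆ i, K DY cY y i

theorem K_le_Kinf (i : J) : K DY cY y i ≤ Kinf DY cY y := le_iSup (K DY cY y) i

/-- the ring diagram `i ↦ K i`. -/
noncomputable def ringDiagram : Jᵒᵖ ⥤ CommRingCat.{u} where
  obj i := CommRingCat.of (K DY cY y i.unop)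
  map {i j} f := CommRingCat.ofHom (Subfield.inclusion (K_mono DY cY y f.unop))
  map_id i := by
    ext x
    rfl
  map_comp f g := by
    ext x
    rfl

/-- the cocone with point `⨆ K i`. -/
noncomputable def ringCocone : Cocone (ringDiagram DY cY y) where
  pt := CommRingCat.of (Kinf DY cY y)
  ι :=
    { app := fun i => CommRingCat.ofHom (Subfield.inclusion (K_le_Kinf DY cY y i.unop))
      naturality := by
        intro i j f
        ext x
        rfl }

variable [IsCofiltered J]

theorem directed_K : Directed (· ≤ ·) (K DY cY y) := by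
  intro i j
  exact ⟨IsCofiltered.min i j, K_mono DY cY y (IsCofiltered.minToLeft i j),
    K_mono DY cY y (IsCofiltered.minToRight i j)⟩

/-- `⨆ K i` is the colimit of the `K i`. -/
noncomputable def ringIsColimit : IsColimit (ringCocone DY cY y) := by
  have : ReflectsColimitsOfShape Jᵒᵖ (forget CommRingCat.{u}) :=
    reflectsColimitsOfShape_of_reflectsIsomorphisms
  refine isColimitOfReflects (forget CommRingCat.{u}) ?_
  refine Types.FilteredColimit.isColimitOf' _ _ ?_ ?_
  · intro a
    change Kinf DY cY y at a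
    haveI : Nonempty J := IsCofiltered.nonempty
    obtain ⟨i, hi⟩ := (Subfield.mem_iSup_of_directed (directed_K DY cY y)).mp a.2
    exact ⟨Opposite.op i, ⟨a.1, hi⟩, Subtype.ext rfl⟩
  · intro i x x' h
    refine ⟨i, 𝟙 i, ?_⟩
    change K DY cY y i.unop at x
    change K DY cY y i.unop at x'
    have h' : (x : cY.pt.residueField y) = x' :=
      congrArg (fun q : Kinf DY cY y => (q : cY.pt.residueField y)) h
    exact congrArg _ (Subtype.ext h')

/-- the diagram `i ↦ Spec (K i)`. -/
noncomputable def Z : J ⥤ Scheme.{u} := (ringDiagram DY cY y).rightOp ⋙ Scheme.Spec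

/-- the cone with point `Spec (⨆ K i)`. -/
noncomputable def cZ : Cone (Z DY cY y) :=
  Scheme.Spec.mapCone (coneRightOpOfCocone (ringCocone DY cY y))

/-- it is a limit cone. -/
noncomputable def hcZ : IsLimit (cZ DY cY y) :=
  isLimitOfPreserves Scheme.Spec (isLimitConeRightOpOfCocone _ (ringIsColimit DY cY y))

omit [IsCofiltered J] in
theorem Z_obj (i : J) : (Z DY cY y).obj i = Spec (CommRingCat.of (K DY cY y i)) := rfl

omit [IsCofiltered J] in
theorem Z_map {i j : J} (a : i ⟶ j) : (Z DY cY y).map a =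
    Spec.map (CommRingCat.ofHom (Subfield.inclusion (K_mono DY cY y a))) := rfl

omit [IsCofiltered J] in
theorem cZ_pt : (cZ DY cY y).pt = Spec (CommRingCat.of (Kinf DY cY y)) := rfl

omit [IsCofiltered J] in
theorem cZ_π_app (i : J) : (cZ DY cY y).π.app i =
    Spec.map (CommRingCat.ofHom (Subfield.inclusion (K_le_Kinf DY cY y i))) := rfl

omit [IsCofiltered J] in
instance (i j : J) (a : i ⟶ j) : IsAffineHom ((Z DY cY y).map a) := by
  show IsAffineHom (Spec.map _)
  infer_instance

omit [IsCofiltered J] in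
instance (i : J) : IsAffine ((Z DY cY y).obj i) := by
  show IsAffine (Spec _)
  infer_instance

omit [IsCofiltered J] in
/-- `κ(y_i) → K i`. -/
noncomputable def rr (i : J) :
    (DY.obj i).residueField (cY.π.app i y) ⟶ CommRingCat.of (K DY cY y i) :=
  CommRingCat.ofHom (r DY cY y i).hom.rangeRestrictField

omit [IsCofiltered J] in
/-- `K i → κ(y)`. -/
noncomputable def sub (i : J) : CommRingCat.of (K DY cY y i) ⟶ cY.pt.residueField y :=
  CommRingCat.ofHom (K DY cY y i).subtype

omit [IsCofiltered J] in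
/-- `K j → K i`. -/
noncomputable def inc {i j : J} (a : i ⟶ j) :
    CommRingCat.of (K DY cY y j) ⟶ CommRingCat.of (K DY cY y i) :=
  CommRingCat.ofHom (Subfield.inclusion (K_mono DY cY y a))

omit [IsCofiltered J] in
theorem rr_sub (i : J) : rr DY cY y i ≫ sub DY cY y i = r DY cY y i := by
  ext x
  rfl

omit [IsCofiltered J] in
theorem inc_sub {i j : J} (a : i ⟶ j) : inc DY cY y a ≫ sub DY cY y i = sub DY cY y j := by
  ext x
  rfl

omit [IsCofiltered J] in
instance (i : J) : Mono (sub DY cY y i) :=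
  ConcreteCategory.mono_of_injective _ Subtype.val_injective

omit [IsCofiltered J] in
theorem bijective_rr (i : J) : Function.Bijective (rr DY cY y i) := by
  refine ⟨(rr DY cY y i).hom.injective, ?_⟩
  rintro ⟨_, z, rfl⟩
  exact ⟨z, rfl⟩

/-- the structure map `Spec (K i) ⟶ Y_i`. -/
noncomputable def ζ (i : J) : Spec (CommRingCat.of (K DY cY y i)) ⟶ DY.obj i :=
  Spec.map (rr DY cY y i) ≫ (DY.obj i).fromSpecResidueField (cY.π.app i y)

/-- `Spec κ(y) ⟶ Spec (K i)`. -/
noncomputable def ι (i : J) :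
    Spec (cY.pt.residueField y) ⟶ Spec (CommRingCat.of (K DY cY y i)) :=
  Spec.map (sub DY cY y i)

omit [IsCofiltered J] in
theorem ι_ζ (i : J) :
    ι DY cY y i ≫ ζ DY cY y i = cY.pt.fromSpecResidueField y ≫ cY.π.app i := by
  unfold ι ζ
  rw [← Category.assoc, ← Spec.map_comp, rr_sub,
    Scheme.Hom.SpecMap_residueFieldMap_fromSpecResidueField]
  rfl

omit [IsCofiltered J] in
theorem map_ζ {i j : J} (a : i ⟶ j) :
    Spec.map (inc DY cY y a) ≫ ζ DY cY y j = ζ DY cY y i ≫ DY.map a := by
  have e : (DY.map a) (cY.π.app i y) = cY.π.app j y :=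
    congrArg (fun q : cY.pt ⟶ DY.obj j => q y) (cY.w a)
  have key : ((DY.obj j).residueFieldCongr e).hom ≫ rr DY cY y j ≫ inc DY cY y a =
      (DY.map a).residueFieldMap (cY.π.app i y) ≫ rr DY cY y i := by
    rw [← cancel_mono (sub DY cY y i)]
    rw [Category.assoc, Category.assoc, inc_sub, rr_sub, Category.assoc, rr_sub,
      ← Scheme.residueFieldMap_comp]
    exact (Scheme.Hom.residueFieldMap_congr (cY.w a) y).symm
  unfold ζ
  rw [Category.assoc, ← Scheme.Hom.SpecMap_residueFieldMap_fromSpecResidueField,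
    ← Scheme.residueFieldCongr_fromSpecResidueField e, ← Category.assoc, ← Category.assoc,
    ← Category.assoc, ← Spec.map_comp, ← Spec.map_comp, ← Spec.map_comp, ← key]

omit [IsCofiltered J] in
/-- the maps `ζ i` as a natural transformation. -/
noncomputable def ζNat : Z DY cY y ⟶ DY where
  app i := ζ DY cY y i
  naturality _ _ a := map_ζ DY cY y a

omit [IsCofiltered J] in
theorem ζNat_app (i : J) : (ζNat DY cY y).app i = ζ DY cY y i := rfl

/-- `K∞ → κ(y)`. -/
noncomputable def subInf : CommRingCat.of (Kinf DY cY y) ⟶ cY.pt.residueField y :=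
  CommRingCat.ofHom (Kinf DY cY y).subtype

/-- `K i → K∞`. -/
noncomputable def incInf (i : J) : CommRingCat.of (K DY cY y i) ⟶ CommRingCat.of (Kinf DY cY y) :=
  CommRingCat.ofHom (Subfield.inclusion (K_le_Kinf DY cY y i))

omit [IsCofiltered J] in
theorem incInf_subInf (i : J) : incInf DY cY y i ≫ subInf DY cY y = sub DY cY y i := by
  ext x
  rfl

/-- `Spec κ(y) ⟶ Spec K∞`. -/
noncomputable def n : Spec (cY.pt.residueField y) ⟶ Spec (CommRingCat.of (Kinf DY cY y)) :=
  Spec.map (subInf DY cY y)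

omit [IsCofiltered J] in
theorem cZ_π_app' (i : J) : (cZ DY cY y).π.app i = Spec.map (incInf DY cY y i) := rfl

omit [IsCofiltered J] in
theorem n_π (i : J) : n DY cY y ≫ Spec.map (incInf DY cY y i) = ι DY cY y i := by
  unfold n ι
  rw [← Spec.map_comp, incInf_subInf]

variable (hcY : IsLimit cY)

/-- the induced map `Spec K∞ ⟶ Y`. -/
noncomputable def m : Spec (CommRingCat.of (Kinf DY cY y)) ⟶ cY.pt :=
  hcY.lift ⟨(cZ DY cY y).pt, (cZ DY cY y).π ≫ ζNat DY cY y⟩

omit [IsCofiltered J] in
theorem m_π (i : J) :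
    m DY cY y hcY ≫ cY.π.app i = Spec.map (incInf DY cY y i) ≫ ζ DY cY y i :=
  hcY.fac ⟨(cZ DY cY y).pt, (cZ DY cY y).π ≫ ζNat DY cY y⟩ i

omit [IsCofiltered J] in
theorem n_m : n DY cY y ≫ m DY cY y hcY = cY.pt.fromSpecResidueField y := by
  refine hcY.hom_ext fun i => ?_
  rw [Category.assoc, m_π, ← Category.assoc, n_π, ι_ζ]

omit [IsCofiltered J] in
theorem m_closedPoint : m DY cY y hcY (IsLocalRing.closedPoint (Kinf DY cY y)) = y := by
  have h1 := congrArg (fun q : Spec (cY.pt.residueField y) ⟶ cY.pt =>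
    q (IsLocalRing.closedPoint (cY.pt.residueField y))) (n_m DY cY y hcY)
  simp only [Scheme.Hom.comp_apply, Scheme.fromSpecResidueField_apply] at h1
  haveI : Subsingleton (Spec (CommRingCat.of (Kinf DY cY y))) :=
    inferInstanceAs (Subsingleton (PrimeSpectrum (Kinf DY cY y)))
  have h2 : IsLocalRing.closedPoint (Kinf DY cY y) =
      n DY cY y (IsLocalRing.closedPoint (cY.pt.residueField y)) := Subsingleton.elim _ _
  rw [h2]
  exact h1

omit [IsCofiltered J] in
/-- `Spec K∞ ⟶ Y` factors through `Spec κ(y)`. -/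
theorem exists_ρ : ∃ ρ : Spec (CommRingCat.of (Kinf DY cY y)) ⟶ Spec (cY.pt.residueField y),
    ρ ≫ cY.pt.fromSpecResidueField y = m DY cY y hcY := by
  have h := m_closedPoint DY cY y hcY
  let ψ : cY.pt.residueField (m DY cY y hcY (IsLocalRing.closedPoint (Kinf DY cY y))) ⟶
      CommRingCat.of (Kinf DY cY y) :=
    Scheme.descResidueField (Scheme.stalkClosedPointTo (m DY cY y hcY))
  have h1 : Spec.map ψ ≫ cY.pt.fromSpecResidueField _ = m DY cY y hcY :=
    Scheme.descResidueField_stalkClosedPointTo_fromSpecResidueField _ cY.pt (m DY cY y hcY)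
  refine ⟨Spec.map ((cY.pt.residueFieldCongr h.symm).hom ≫ ψ), ?_⟩
  rw [Spec.map_comp, Category.assoc, Scheme.residueFieldCongr_fromSpecResidueField, h1]

include hcY in
/-- **Descending a point with values in the residue field**: for `f0 : X0 ⟶ Y0` locally of finite
presentation and `Y = lim Y_i` over `Y0`, a `Y0`-morphism `Spec κ(y) ⟶ X0` comes from a
`Y0`-morphism `Spec κ(y_i) ⟶ X0` for some `i`. -/
theorem exists_stage_hom {X0 Y0 : Scheme.{u}} (f0 : X0 ⟶ Y0) [LocallyOfFinitePresentation f0]
    (t : DY ⟶ (Functor.const J).obj Y0) (a : Spec (cY.pt.residueField y) ⟶ X0)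
    (ha : ∀ i, a ≫ f0 = cY.pt.fromSpecResidueField y ≫ cY.π.app i ≫ t.app i) :
    ∃ (i : J) (g : Spec ((DY.obj i).residueField (cY.π.app i y)) ⟶ X0),
      g ≫ f0 = (DY.obj i).fromSpecResidueField (cY.π.app i y) ≫ t.app i := by
  obtain ⟨ρ, hρ⟩ := exists_ρ DY cY y hcY
  haveI : ∀ {i j : J} (a : i ⟶ j), IsAffineHom ((Z DY cY y).map a) := fun a => inferInstance
  have haZ : (cZ DY cY y).π ≫ (ζNat DY cY y ≫ t) = (Functor.const J).map ((ρ ≫ a) ≫ f0) := by
    ext i : 2
    simp only [NatTrans.comp_app, Functor.const_map_app]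
    rw [Category.assoc, ha i, ← Category.assoc ρ, hρ, ← Category.assoc (m DY cY y hcY), m_π,
      Category.assoc]
    rfl
  obtain ⟨i, g'', -, hg''⟩ := Scheme.exists_π_app_comp_eq_of_locallyOfFinitePresentation
    (Z DY cY y) (ζNat DY cY y ≫ t) f0 (cZ DY cY y) (hcZ DY cY y) (ρ ≫ a) haZ
  let g' : Spec (CommRingCat.of (K DY cY y i)) ⟶ X0 := g''
  have hg' : g' ≫ f0 = ζ DY cY y i ≫ t.app i := hg''
  haveI : IsIso (rr DY cY y i) :=
    (ConcreteCategory.isIso_iff_bijective _).mpr (bijective_rr DY cY y i)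
  refine ⟨i, Spec.map (inv (rr DY cY y i)) ≫ g', ?_⟩
  rw [Category.assoc, hg']
  unfold ζ
  rw [← Category.assoc, ← Category.assoc, ← Spec.map_comp, IsIso.hom_inv_id, Spec.map_id,
    Category.id_comp]

end Groth.Agent.Lib.T2H3.ResFieldSys
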