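import Mathlib

/-!
# Formal smoothness of a residue field from a coefficient field mod `m²` (T2H3)
-/

set_option autoImplicit false
set_option linter.style.haveILetI false
universe u
open IsLocalRing

namespace Groth.Agent.Lib.T2H3.ResSep

/-- Let `A → B` be a local homomorphism of local `k`-algebras with `m_A B ⊆ m_B²`, `B` formally
smooth over `k` and `κ(B)` formally smooth over `κ(A)`. Then `κ(B)` is formally smooth over `k`. -/
theorem formallySmooth_residueField_of_map_le_sq (k A B : Type u) [Field k] [CommRing A]
    [CommRing B] [IsLocalRing A] [IsLocalRing B] [Algebra k A] [Algebra k B] [Algebra A B]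
    [IsScalarTower k A B] [IsLocalHom (algebraMap A B)] [Algebra.FormallySmooth k B]
    (hle : (maximalIdeal A).map (algebraMap A B) ≤ maximalIdeal B ^ 2)
    [Algebra.FormallySmooth (ResidueField A) (ResidueField B)] :
    Algebra.FormallySmooth k (ResidueField B) := by
  let f : B →ₐ[k] ResidueField B := IsScalarTower.toAlgHom k B (ResidueField B)
  have hkerf : RingHom.ker f.toRingHom = maximalIdeal B := by
    ext b
    rw [RingHom.mem_ker]
    exact residue_eq_zero_iff b
  let B₂ := B ⧸ (RingHom.ker f.toRingHom ^ 2)
  let φ : ResidueField A →+* B₂ :=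
    Ideal.Quotient.lift (maximalIdeal A)
      ((Ideal.Quotient.mk (RingHom.ker f.toRingHom ^ 2)).comp (algebraMap A B)) (by
        intro a ha
        rw [RingHom.comp_apply, Ideal.Quotient.eq_zero_iff_mem, hkerf]
        exact hle (Ideal.mem_map_of_mem _ ha))
  letI algκB₂ : Algebra (ResidueField A) B₂ := φ.toAlgebra
  let p : B₂ →ₐ[ResidueField A] ResidueField B :=
    { f.kerSquareLift.toRingHom with
      commutes' := by
        intro z
        obtain ⟨a, rfl⟩ := Ideal.Quotient.mk_surjective z
        rfl }
  have hp : ∀ z : B₂, p z = f.kerSquareLift z := fun _ => rfl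
  have hpsurj : Function.Surjective p := by
    intro z
    obtain ⟨b, rfl⟩ := residue_surjective z
    exact ⟨Ideal.Quotient.mk _ b, rfl⟩
  have hpker : IsNilpotent (RingHom.ker (p : B₂ →+* ResidueField B)) := by
    refine ⟨2, ?_⟩
    have h1 : RingHom.ker (p : B₂ →+* ResidueField B) = RingHom.ker f.kerSquareLift.toRingHom := by
      ext z; rfl
    rw [h1, AlgHom.ker_kerSquareLift, Ideal.cotangentIdeal_square]
    rfl
  let σ₀ : ResidueField B →ₐ[ResidueField A] B₂ :=
    Algebra.FormallySmooth.liftOfSurjective (AlgHom.id (ResidueField A) (ResidueField B)) p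
      hpsurj hpker
  have hσ₀ : ∀ z, p (σ₀ z) = z := fun z =>
    Algebra.FormallySmooth.liftOfSurjective_apply _ p hpsurj hpker z
  let g : ResidueField B →ₐ[k] B₂ :=
    { σ₀.toRingHom with
      commutes' := by
        intro c
        have h1 : algebraMap k (ResidueField B) c =
            algebraMap (ResidueField A) (ResidueField B) (algebraMap k (ResidueField A) c) := by
          show residue B (algebraMap k B c) = ResidueField.map (algebraMap A B)
            (residue A (algebraMap k A c))
          rw [ResidueField.map_residue, ← IsScalarTower.algebraMap_apply]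
        show σ₀ (algebraMap k (ResidueField B) c) = _
        rw [h1, σ₀.commutes]
        show φ (residue A (algebraMap k A c)) = _
        show (Ideal.Quotient.mk _) (algebraMap A B (algebraMap k A c)) = _
        rw [← IsScalarTower.algebraMap_apply]
        rfl }
  have hg : f.kerSquareLift.comp g = AlgHom.id k (ResidueField B) := by
    ext z
    exact hσ₀ z
  exact Algebra.FormallySmooth.of_split f g hg

end Groth.Agent.Lib.T2H3.ResSep
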