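import Mathlib
import Groth.Agent.Lib.T2H3SepNilp
import Groth.Agent.Lib.T2H3SepFGSch

/-!
# Schematic density over a nilpotent thickening of an affine base (helper3)

SGA 3 / EGA IV 11.10: `p : X ⟶ Spec A` flat, `(v_i : Z_i ⟶ X)` with `Z_i` flat over `A`,
`J ⊆ A` nilpotent with free graded pieces. If the reductions modulo `J` are schematically dense in
`X ×_A A/J`, then `(v_i)` is schematically dense in `X`.
-/

set_option autoImplicit false
set_option linter.style.haveILetI false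
universe u
open CategoryTheory CategoryTheory.Limits AlgebraicGeometry TopologicalSpace Opposite TensorProduct
open Groth.Agent.Lib.T2H3.SepFGSch

namespace Groth.Agent.Lib.T2H3.SchDenseNilp

theorem appLE_of_eq {X Y : Scheme.{u}} {f g : X ⟶ Y} (h : f = g) (U : Y.Opens) (V : X.Opens)
    (e : V ≤ f ⁻¹ᵁ U) : f.appLE U V e = g.appLE U V (h ▸ e) := by
  subst h; rfl

section Base

variable {X Z : Scheme.{u}} (A : CommRingCat.{u}) (p : X ⟶ Spec A) {C : CommRingCat.{u}}
  (φ : A ⟶ C) (v : Z ⟶ X)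

/-- the map induced by `v` on base changes along `Spec C ⟶ Spec A`. -/
noncomputable abbrev wMap : pullback (v ≫ p) (Spec.map φ) ⟶ pullback p (Spec.map φ) :=
  pullback.map (v ≫ p) (Spec.map φ) p (Spec.map φ) v (𝟙 _) (𝟙 _) (Category.comp_id _)
    ((Category.comp_id _).trans (Category.id_comp _).symm)

theorem wMap_fst :
    wMap A p φ v ≫ pullback.fst p (Spec.map φ) = pullback.fst (v ≫ p) (Spec.map φ) ≫ v :=
  pullback.lift_fst _ _ _

theorem wMap_snd :
    wMap A p φ v ≫ pullback.snd p (Spec.map φ) = pullback.snd (v ≫ p) (Spec.map φ) :=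
  (pullback.lift_snd _ _ _).trans (Category.comp_id _)

theorem WC_le {V : X.Opens} {W : Z.Opens} (h : W ≤ v ⁻¹ᵁ V) :
    WC A (v ≫ p) φ W ≤ (wMap A p φ v) ⁻¹ᵁ (WC A p φ V) := by
  intro x hx
  refine ⟨?_, trivial⟩
  change (pullback.fst p (Spec.map φ)) ((wMap A p φ v) x) ∈ V
  rw [← Scheme.Hom.comp_apply, wMap_fst, Scheme.Hom.comp_apply]
  exact h hx.1

theorem fst_appLE_wMap {V : X.Opens} {W : Z.Opens} (h : W ≤ v ⁻¹ᵁ V) :
    (pullback.fst p (Spec.map φ)).appLE V (WC A p φ V) inf_le_left ≫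
        (wMap A p φ v).appLE (WC A p φ V) (WC A (v ≫ p) φ W) (WC_le A p φ v h) =
      v.appLE V W h ≫
        (pullback.fst (v ≫ p) (Spec.map φ)).appLE W (WC A (v ≫ p) φ W) inf_le_left := by
  rw [Scheme.Hom.appLE_comp_appLE, Scheme.Hom.appLE_comp_appLE]
  exact appLE_of_eq (wMap_fst A p φ v) _ _ _

theorem snd_appLE_wMap {V : X.Opens} {W : Z.Opens} (h : W ≤ v ⁻¹ᵁ V) :
    (pullback.snd p (Spec.map φ)).appLE ⊤ (WC A p φ V) inf_le_right ≫
        (wMap A p φ v).appLE (WC A p φ V) (WC A (v ≫ p) φ W) (WC_le A p φ v h) =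
      (pullback.snd (v ≫ p) (Spec.map φ)).appLE ⊤ (WC A (v ≫ p) φ W) inf_le_right := by
  rw [Scheme.Hom.appLE_comp_appLE]
  exact appLE_of_eq (wMap_snd A p φ v) _ _ _

theorem base_appLE_v {V : X.Opens} {W : Z.Opens} (h : W ≤ v ⁻¹ᵁ V) :
    p.appLE ⊤ V le_top ≫ v.appLE V W h = (v ≫ p).appLE ⊤ W le_top := by
  rw [Scheme.Hom.appLE_comp_appLE]

/-- `v♯ : Γ(X, V) → Γ(Z, W)` as an `A`-linear map. -/
noncomputable def uLin {V : X.Opens} {W : Z.Opens} (h : W ≤ v ⁻¹ᵁ V) :
    letI := algBase A p V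
    letI := algBase A (v ≫ p) W
    Γ(X, V) →ₗ[↑A] Γ(Z, W) :=
  letI := algBase A p V
  letI := algBase A (v ≫ p) W
  { toFun := (v.appLE V W h).hom
    map_add' := map_add _
    map_smul' := fun a r => by
      change (v.appLE V W h).hom (algebraMap ↑A Γ(X, V) a * r) =
        algebraMap ↑A Γ(Z, W) a * (v.appLE V W h).hom r
      rw [map_mul]
      congr 1
      have := congrArg (fun k => k.hom ((Scheme.ΓSpecIso A).inv.hom a)) (base_appLE_v A p v h)
      exact this }

/-- Compatibility of the base-change identifications with `v♯`. -/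
theorem wMap_appLE_equiv [Algebra ↑A ↑C] (hφ : algebraMap ↑A ↑C = φ.hom) {V : X.Opens}
    (hV : IsAffineOpen V) {W : Z.Opens} (hW : IsAffineOpen W) (h : W ≤ v ⁻¹ᵁ V) :
    letI := algBase A p V
    letI := algC A p φ V
    letI := algR A p φ V
    letI := algA A p φ V
    haveI := tower_R A p φ V
    haveI := tower_C A p φ hφ hV
    letI := algBase A (v ≫ p) W
    letI := algC A (v ≫ p) φ W
    letI := algR A (v ≫ p) φ W
    letI := algA A (v ≫ p) φ W
    haveI := tower_R A (v ≫ p) φ W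
    haveI := tower_C A (v ≫ p) φ hφ hW
    ∀ z : ↑C ⊗[↑A] Γ(X, V),
    ((wMap A p φ v).appLE (WC A p φ V) (WC A (v ≫ p) φ W) (WC_le A p φ v h)).hom
        ((algebra_isPushout_sections A p φ hφ hV).out.equiv z) =
      (algebra_isPushout_sections A (v ≫ p) φ hφ hW).out.equiv
        ((uLin A p v h).lTensor ↑C z) := by
  letI := algBase A p V
  letI := algC A p φ V
  letI := algR A p φ V
  letI := algA A p φ V
  haveI := tower_R A p φ V
  haveI := tower_C A p φ hφ hV
  letI := algBase A (v ≫ p) W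
  letI := algC A (v ≫ p) φ W
  letI := algR A (v ≫ p) φ W
  letI := algA A (v ≫ p) φ W
  haveI := tower_R A (v ≫ p) φ W
  haveI := tower_C A (v ≫ p) φ hφ hW
  intro z
  induction z with
  | zero => simp
  | add x y hx hy => rw [map_add, map_add, map_add, map_add, hx, hy]
  | tmul c r =>
    rw [LinearMap.lTensor_tmul, IsBaseChange.equiv_tmul, IsBaseChange.equiv_tmul]
    change ((wMap A p φ v).appLE (WC A p φ V) (WC A (v ≫ p) φ W) (WC_le A p φ v h)).hom
        (algebraMap ↑C Γ(pullback p (Spec.map φ), WC A p φ V) c *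
          ((pullback.fst p (Spec.map φ)).appLE V (WC A p φ V) inf_le_left).hom r) =
      algebraMap ↑C Γ(pullback (v ≫ p) (Spec.map φ), WC A (v ≫ p) φ W) c *
        ((pullback.fst (v ≫ p) (Spec.map φ)).appLE W (WC A (v ≫ p) φ W) inf_le_left).hom
          ((v.appLE V W h).hom r)
    rw [map_mul]
    congr 1
    · have := congrArg (fun k => k.hom ((Scheme.ΓSpecIso C).inv.hom c))
        (snd_appLE_wMap A p φ v h)
      exact this
    · have := congrArg (fun k => k.hom r) (fst_appLE_wMap A p φ v h)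
      exact this

end Base

section Main

variable {X : Scheme.{u}} (A : CommRingCat.{u}) (p : X ⟶ Spec A) (J : Ideal ↑A)

/-- the quotient map `A ⟶ A/J` in `CommRingCat`. -/
noncomputable abbrev φJ : A ⟶ CommRingCat.of (↑A ⧸ J) := CommRingCat.ofHom (Ideal.Quotient.mk J)

/-- sections over an affine open of a scheme flat over `Spec A` are flat over `A`. -/
theorem flat_sections_ring {Z : Scheme.{u}} (q : Z ⟶ Spec A) [Flat q] {W : Z.Opens}
    (hW : IsAffineOpen W) :
    letI := algBase A q W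
    Module.Flat ↑A Γ(Z, W) := by
  letI := algBase A q W
  letI algR : Algebra ↑A Γ(Spec A, ⊤) := (Scheme.ΓSpecIso A).inv.hom.toAlgebra
  letI algS : Algebra Γ(Spec A, ⊤) Γ(Z, W) := (q.appLE ⊤ W le_top).hom.toAlgebra
  haveI : IsScalarTower ↑A Γ(Spec A, ⊤) Γ(Z, W) := .of_algebraMap_eq (fun x => rfl)
  haveI : Module.Flat ↑A Γ(Spec A, ⊤) := by
    have hbij : Function.Bijective (Algebra.linearMap ↑A Γ(Spec A, ⊤)) :=
      ConcreteCategory.bijective_of_isIso (Scheme.ΓSpecIso A).inv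
    exact Module.Flat.of_linearEquiv (LinearEquiv.ofBijective _ hbij).symm
  haveI : Module.Flat Γ(Spec A, ⊤) Γ(Z, W) := q.flat_appLE (isAffineOpen_top _) hW le_top
  exact Module.Flat.trans ↑A Γ(Spec A, ⊤) Γ(Z, W)

variable {A p J} in
/-- affine-local form. -/
theorem eq_zero_of_affine (hJ : IsNilpotent J)
    (hfree : ∀ k : ℕ, Module.Free (↑A ⧸ J) ((↑A ⧸ J) ⊗[↑A] ↥(J ^ k)))
    {ι : Type u} (Z : ι → Scheme.{u}) (v : ∀ i, Z i ⟶ X) [∀ i, Flat (v i ≫ p)]
    (h0 : ∀ (V' : (pullback p (Spec.map (φJ A J))).Opens)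
      (t : Γ(pullback p (Spec.map (φJ A J)), V')),
      (∀ i, (wMap A p (φJ A J) (v i)).app V' t = 0) → t = 0)
    {V : X.Opens} (hV : IsAffineOpen V) (t : Γ(X, V)) (ht : ∀ i, (v i).app V t = 0) : t = 0 := by
  letI algJ : Algebra ↑A ↑(CommRingCat.of (↑A ⧸ J)) := inferInstanceAs (Algebra ↑A (↑A ⧸ J))
  have hφ : algebraMap ↑A ↑(CommRingCat.of (↑A ⧸ J)) = (φJ A J).hom := rfl
  letI := algBase A p V
  letI := algC A p (φJ A J) V
  letI := algR A p (φJ A J) V
  letI := algA A p (φJ A J) V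
  haveI := tower_R A p (φJ A J) V
  haveI := tower_C A p (φJ A J) hφ hV
  have hpo := algebra_isPushout_sections A p (φJ A J) hφ hV
  let K := Σ i : ι, {W : (Z i).affineOpens // (W : (Z i).Opens) ≤ (v i) ⁻¹ᵁ V}
  letI algN : ∀ k : K, Algebra ↑A Γ(Z k.1, k.2.1.1) := fun k => algBase A (v k.1 ≫ p) k.2.1.1
  haveI flN : ∀ k : K, Module.Flat ↑A Γ(Z k.1, k.2.1.1) := fun k =>
    flat_sections_ring A (v k.1 ≫ p) k.2.1.2
  refine Groth.Agent.Lib.T2H3.SepNilp.eq_zero_of_reduction J (fun k : K => Γ(Z k.1, k.2.1.1))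
    (fun k => uLin A p (v k.1) k.2.2) hJ hfree ?_ t ?_
  · intro z hz
    have ht₀ : hpo.out.equiv z = 0 := by
      refine h0 (WC A p (φJ A J) V) _ (fun i => ?_)
      refine TopCat.Sheaf.eq_of_locally_eq' (pullback (v i ≫ p) (Spec.map (φJ A J))).sheaf
        (fun W : {W : (Z i).affineOpens // (W : (Z i).Opens) ≤ (v i) ⁻¹ᵁ V} =>
          WC A (v i ≫ p) (φJ A J) W.1.1)
        ((wMap A p (φJ A J) (v i)) ⁻¹ᵁ (WC A p (φJ A J) V))
        (fun W => homOfLE (WC_le A p (φJ A J) (v i) W.2)) ?_ _ 0 (fun W => ?_)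
      · intro x hx
        have h1 : (pullback.fst p (Spec.map (φJ A J))) ((wMap A p (φJ A J) (v i)) x) ∈ V := hx.1
        rw [← Scheme.Hom.comp_apply, wMap_fst, Scheme.Hom.comp_apply] at h1
        obtain ⟨_, ⟨W, hW, rfl⟩, hxW, hWV⟩ := (Z i).isBasis_affineOpens.exists_subset_of_mem_open
          (show (pullback.fst (v i ≫ p) (Spec.map (φJ A J))) x ∈ ((v i) ⁻¹ᵁ V : Set (Z i)) from h1)
          ((v i) ⁻¹ᵁ V).2
        exact Opens.mem_iSup.mpr ⟨⟨⟨W, hW⟩, hWV⟩, ⟨hxW, trivial⟩⟩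
      · refine Eq.trans ?_ (map_zero _).symm
        letI := algBase A (v i ≫ p) W.1.1
        have key := wMap_appLE_equiv A p (φJ A J) (v i) hφ hV W.1.2 W.2 z
        have hzW := hz ⟨i, W⟩
        change ((wMap A p (φJ A J) (v i)).appLE (WC A p (φJ A J) V)
          (WC A (v i ≫ p) (φJ A J) W.1.1) (WC_le A p (φJ A J) (v i) W.2)).hom
            (hpo.out.equiv z) = 0
        rw [key]
        have hzW' : (uLin A p (v i) W.2).lTensor ↑(CommRingCat.of (↑A ⧸ J)) z = 0 := hzW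
        rw [hzW', map_zero]
    have := hpo.out.equiv.injective (ht₀.trans (map_zero _).symm)
    exact this
  · intro k
    change ((v k.1).appLE V k.2.1.1 k.2.2).hom t = 0
    have h1 : ((v k.1).appLE V k.2.1.1 k.2.2).hom t =
        (Z k.1).presheaf.map (homOfLE k.2.2).op ((v k.1).app V t) := rfl
    rw [h1, ht k.1, map_zero]

variable {A p J} in
/-- **Schematic density lifts along a nilpotent thickening with free graded pieces.** -/
theorem schDense_of_reduction (hJ : IsNilpotent J)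
    (hfree : ∀ k : ℕ, Module.Free (↑A ⧸ J) ((↑A ⧸ J) ⊗[↑A] ↥(J ^ k)))
    {ι : Type u} (Z : ι → Scheme.{u}) (v : ∀ i, Z i ⟶ X) [∀ i, Flat (v i ≫ p)]
    (h0 : ∀ (V' : (pullback p (Spec.map (φJ A J))).Opens)
      (t : Γ(pullback p (Spec.map (φJ A J)), V')),
      (∀ i, (wMap A p (φJ A J) (v i)).app V' t = 0) → t = 0)
    (V₀ : X.Opens) (t : Γ(X, V₀)) (ht : ∀ i, (v i).app V₀ t = 0) : t = 0 := by
  refine TopCat.Sheaf.eq_of_locally_eq' X.sheaf
    (fun W : {W : X.affineOpens // (W : X.Opens) ≤ V₀} => (W.1 : X.Opens)) V₀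
    (fun W => homOfLE W.2) ?_ t 0 (fun W => ?_)
  · intro x hx
    obtain ⟨_, ⟨W, hW, rfl⟩, hxW, hWU⟩ := X.isBasis_affineOpens.exists_subset_of_mem_open hx V₀.2
    exact Opens.mem_iSup.mpr ⟨⟨⟨W, hW⟩, hWU⟩, hxW⟩
  · refine Eq.trans ?_ (map_zero _).symm
    refine eq_zero_of_affine hJ hfree Z v h0 W.1.2 _ (fun i => ?_)
    have hn := congrArg (fun k => k.hom t) ((v i).naturality (homOfLE W.2).op)
    have h1 : ((v i).app W.1.1).hom (X.presheaf.map (homOfLE W.2).op t) =
        ((Z i).presheaf.map ((Opens.map (v i).base).map (homOfLE W.2)).op).hom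
          (((v i).app V₀).hom t) := hn
    exact h1.trans (by rw [ht i, map_zero])

end Main

end Groth.Agent.Lib.T2H3.SchDenseNilp
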