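import Mathlib

/-!
# Limits with scheme-theoretically dominant transition maps

* `isSchemeTheoreticallyDominant_π`: the projections of a cofiltered limit of schemes with affine,
  scheme-theoretically dominant transition maps are scheme-theoretically dominant.
* `exists_lift_of_comp`: a morphism whose precomposition with a scheme-theoretically dominant
  morphism factors through a closed immersion factors through it.
-/

set_option autoImplicit false
set_option linter.style.haveILetI false
universe u
open CategoryTheory CategoryTheory.Limits AlgebraicGeometry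

namespace Groth.Agent.Lib.T2H3.SchDomLim

theorem isSchemeTheoreticallyDominant_π {I : Type u} [SmallCategory I] [IsCofiltered I]
    (D : I ⥤ Scheme.{u}) (c : Cone D) (hc : IsLimit c)
    [∀ {i j : I} (f : i ⟶ j), IsAffineHom (D.map f)]
    [∀ {i j : I} (f : i ⟶ j), IsSchemeTheoreticallyDominant (D.map f)] (i : I) :
    IsSchemeTheoreticallyDominant (c.π.app i) := by
  haveI : IsAffineHom (c.π.app i) := isAffineHom_π_app D c hc i
  rw [isSchemeTheoreticallyDominant_iff]
  ext U : 2
  rw [Scheme.Hom.ker_apply]
  ext s
  simp only [RingHom.mem_ker, Scheme.IdealSheafData.ideal_bot, Pi.bot_apply, Ideal.mem_bot]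
  constructor
  · intro hs
    obtain ⟨j, f, hj⟩ := exists_app_map_eq_zero_of_isLimit D c hc U.2.isCompact s hs
    exact (D.map f).app_injective U.1 (hj.trans (map_zero _).symm)
  · rintro rfl
    exact map_zero _

/-- If `p ≫ g` factors through the closed immersion `ι` and `p` is scheme-theoretically dominant,
then `g` factors through `ι`. -/
theorem exists_lift_of_comp {X X' Y Y' : Scheme.{u}} (p : X ⟶ X') [IsSchemeTheoreticallyDominant p]
    (g : X' ⟶ Y') (ι : Y ⟶ Y') [IsClosedImmersion ι] (φ : X ⟶ Y) (h : φ ≫ ι = p ≫ g) :
    ∃ g' : X' ⟶ Y, g' ≫ ι = g := by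
  have h1 : ι.ker ≤ g.ker := by
    have h2 : (p ≫ g).ker = g.ker := by
      rw [Scheme.Hom.ker_comp, p.ker_eq_bot, Scheme.IdealSheafData.map_bot]
    rw [← h2, ← h, Scheme.Hom.ker_comp, ← Scheme.IdealSheafData.map_bot]
    exact Scheme.IdealSheafData.map_mono ι bot_le
  exact ⟨IsClosedImmersion.lift ι g h1, IsClosedImmersion.lift_fac ι g h1⟩

end Groth.Agent.Lib.T2H3.SchDomLim
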