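import Mathlib
import Groth.Prelude.Def_CInt

/-!
# Sections of a morphism which is an isomorphism over a schematically dense open (helper3, team 2)
-/

set_option autoImplicit false
set_option linter.style.haveILetI false
universe u

open AlgebraicGeometry CategoryTheory CategoryTheory.Limits TopologicalSpace

namespace Groth.Agent.Lib.T2H3.SecOpenImm

variable {E S : Scheme.{u}}

/-- if `f` is an isomorphism over `U` and `σ` is a section of `f`, then `σ ∘ f` is the identity on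
`f⁻¹(U)`. -/
theorem ι_comp_comp_eq (f : E ⟶ S) (U : S.Opens) [IsIso (f ∣_ U)] (σ : S ⟶ E)
    (hσ : σ ≫ f = 𝟙 S) : (f ⁻¹ᵁ U).ι ≫ f ≫ σ = (f ⁻¹ᵁ U).ι := by
  -- `σ` maps `U` into `f⁻¹(U)`
  have hrange : Set.range ((f ⁻¹ᵁ U).ι ≫ f ≫ σ) ⊆ Set.range (f ⁻¹ᵁ U).ι := by
    rintro _ ⟨z, rfl⟩
    rw [Scheme.Opens.range_ι]
    change f (σ (f ((f ⁻¹ᵁ U).ι z))) ∈ U
    have h1 : f (σ (f ((f ⁻¹ᵁ U).ι z))) = f ((f ⁻¹ᵁ U).ι z) := by
      have := congrArg (fun g : S ⟶ S => g (f ((f ⁻¹ᵁ U).ι z))) hσ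
      exact this
    rw [h1]
    exact z.2
  let k := IsOpenImmersion.lift (f ⁻¹ᵁ U).ι ((f ⁻¹ᵁ U).ι ≫ f ≫ σ) hrange
  have hk : k ≫ (f ⁻¹ᵁ U).ι = (f ⁻¹ᵁ U).ι ≫ f ≫ σ := IsOpenImmersion.lift_fac _ _ _
  have h2 : k ≫ (f ∣_ U) = f ∣_ U := by
    rw [← cancel_mono U.ι, Category.assoc, morphismRestrict_ι, ← Category.assoc, hk,
      Category.assoc, Category.assoc, hσ, Category.comp_id]
  have h3 : k = 𝟙 _ := by
    rw [← cancel_mono (f ∣_ U), h2, Category.id_comp]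
  rw [← hk, h3, Category.id_comp]

theorem exists_isOpenImmersion_nhd (f : E ⟶ S) (U : S.Opens) [IsIso (f ∣_ U)]
    (hdense : CInt.IsSchematicallyDense (f ⁻¹ᵁ U)) (σ : S ⟶ E) (hσ : σ ≫ f = 𝟙 S) (s : S) :
    ∃ W : E.Opens, σ s ∈ W ∧ IsOpenImmersion (W.ι ≫ f) := by
  have hfσ : ∀ t : S, f (σ t) = t := fun t => by
    have := congrArg (fun g : S ⟶ S => g t) hσ
    exact this
  -- charts
  obtain ⟨S', hS', hsS', -⟩ := exists_isAffineOpen_mem_and_subset (X := S) (x := s) (U := ⊤) trivial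
  obtain ⟨W', hW', hsW', hW'S'⟩ := exists_isAffineOpen_mem_and_subset (X := E) (x := σ s)
    (U := f ⁻¹ᵁ S') (by change f (σ s) ∈ S'; rw [hfσ]; exact hsS')
  obtain ⟨r, hr1, hr2⟩ := hS'.exists_basicOpen_le (V := σ ⁻¹ᵁ W') ⟨s, hsW'⟩ hsS'
  set S'' := S.basicOpen r with hS''
  have hS''aff : IsAffineOpen S'' := hS'.basicOpen r
  set W : E.Opens := E.basicOpen (f.appLE S' W' hW'S' r) with hW
  have hWaff : IsAffineOpen W := hW'.basicOpen _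
  have hWeq : W = W' ⊓ f ⁻¹ᵁ S'' := Scheme.basicOpen_appLE f W' S' hW'S' r
  have e'' : W ≤ f ⁻¹ᵁ S'' := by rw [hWeq]; exact inf_le_right
  have eσ : S'' ≤ σ ⁻¹ᵁ W := by
    intro t ht
    change σ t ∈ W
    rw [hWeq]
    refine ⟨hr1 ht, ?_⟩
    change f (σ t) ∈ S''
    rw [hfσ]
    exact ht
  have hsW : σ s ∈ W := eσ hr2
  refine ⟨W, hsW, ?_⟩
  -- the ring maps
  set φ := f.appLE S'' W e'' with hφ
  set ψ := σ.appLE W S'' eσ with hψ
  have hφψ : φ ≫ ψ = 𝟙 _ := by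
    rw [hφ, hψ, Scheme.Hom.appLE_comp_appLE]
    have : ∀ (g : S ⟶ S) (hg : g = 𝟙 S) (e : S'' ≤ g ⁻¹ᵁ S''), g.appLE S'' S'' e = 𝟙 _ := by
      intro g hg e
      subst hg
      change (𝟙 S : S ⟶ S).app S'' ≫ S.presheaf.map (homOfLE e).op = 𝟙 _
      rw [Scheme.Hom.id_app]
      exact (Category.id_comp _).trans (S.presheaf.map_id _)
    exact this _ hσ _
  have hψφ : ∀ b : Γ(E, W), φ (ψ b) = b := by
    intro b
    -- compare on `W ⊓ f⁻¹ U`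
    have e1 : W ≤ (f ≫ σ) ⁻¹ᵁ W := by
      intro z hz
      exact eσ (e'' hz)
    have hθ : (f ≫ σ).appLE W W e1 = ψ ≫ φ := by
      rw [hψ, hφ, Scheme.Hom.appLE_comp_appLE]
    let j := (f ⁻¹ᵁ U).ι
    have hjθ : j ≫ f ≫ σ = j := ι_comp_comp_eq f U σ hσ
    have e2 : j ⁻¹ᵁ W ≤ j ⁻¹ᵁ W := le_rfl
    have h1 : (f ≫ σ).appLE W W e1 ≫ j.appLE W (j ⁻¹ᵁ W) e2 = j.appLE W (j ⁻¹ᵁ W) e2 := by
      rw [Scheme.Hom.appLE_comp_appLE]
      have : ∀ (g : (f ⁻¹ᵁ U).toScheme ⟶ E) (hg : g = j) (e : j ⁻¹ᵁ W ≤ g ⁻¹ᵁ W),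
          g.appLE W (j ⁻¹ᵁ W) e = j.appLE W (j ⁻¹ᵁ W) e2 := by
        intro g hg e
        subst hg
        rfl
      exact this _ hjθ _
    have h2 : (j.appLE W (j ⁻¹ᵁ W) e2).hom (φ (ψ b)) = (j.appLE W (j ⁻¹ᵁ W) e2).hom b := by
      have := congrArg (fun g => g.hom b) h1
      rw [hθ] at this
      exact this
    -- restrict to `W ⊓ f⁻¹ U`
    have hle : W ⊓ f ⁻¹ᵁ U ≤ j ''ᵁ (j ⁻¹ᵁ W) := by
      intro z hz
      exact ⟨⟨z, hz.2⟩, hz.1, rfl⟩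
    have hle' : j ''ᵁ (j ⁻¹ᵁ W) ≤ W := by
      rintro _ ⟨z, hz, rfl⟩
      exact hz
    have h3 : ∀ c : Γ(E, W), (j.appLE W (j ⁻¹ᵁ W) e2).hom c =
        (E.presheaf.map (homOfLE hle').op).hom c := by
      intro c
      exact congrArg (fun g : Γ(E, W) ⟶ Γ((f ⁻¹ᵁ U).toScheme, (f ⁻¹ᵁ U).ι ⁻¹ᵁ W) => g.hom c)
        (Scheme.Opens.ι_appLE (f ⁻¹ᵁ U) W ((f ⁻¹ᵁ U).ι ⁻¹ᵁ W) e2)
    apply hdense W
    have h4 : (homOfLE (inf_le_left : W ⊓ f ⁻¹ᵁ U ≤ W)).op =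
        (homOfLE hle').op ≫ (homOfLE hle).op := rfl
    rw [h4, Functor.map_comp, CommRingCat.comp_apply, CommRingCat.comp_apply]
    have h5 := h2
    rw [h3, h3] at h5
    exact congrArg _ h5
  haveI : IsIso φ := by
    refine ⟨ψ, hφψ, ?_⟩
    ext b
    exact hψφ b
  -- conclude
  have hres : IsIso (f.resLE S'' W e'') := by
    haveI : IsAffine (S'' : Scheme.{u}) := hS''aff
    haveI : IsAffine (W : Scheme.{u}) := hWaff
    have := (HasAffineProperty.iff_of_isAffine (P := MorphismProperty.isomorphisms Scheme.{u})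
      (f := f.resLE S'' W e'')).mpr ⟨inferInstance, by
        have h5 : (MorphismProperty.isomorphisms CommRingCat.{u}) ((f.resLE S'' W e'').appTop) :=
          ((MorphismProperty.isomorphisms CommRingCat.{u}).arrow_mk_iso_iff
            (arrowResLEAppIso f S'' W e'')).mpr (inferInstanceAs (IsIso φ))
        exact h5⟩
    exact this
  rw [← Scheme.Hom.resLE_comp_ι f e'']
  infer_instance

end Groth.Agent.Lib.T2H3.SecOpenImm
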