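import Groth.Prelude.Def_GrSeg
import Groth.Prelude.Def_GrLC
import Groth.Agent.Lib.T2H3GrTransferB
import Groth.Agent.Lib.Helper29GrEss
import Mathlib.RingTheory.Flat.Basic
import Mathlib.LinearAlgebra.TensorProduct.RightExactness
import Mathlib.RingTheory.TensorProduct.Maps

/-! Segre products of graded modules (helper3), part A: the action of `T` on `A ⊗[k] B` through
`ψ : T → R ⊗[k] S` as a module structure on a type synonym, its naturality, and the projections
of `A ⊗[k] B` onto the diagonal pieces `A_d ⊗ B_d`. -/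

set_option autoImplicit false
set_option linter.unusedSectionVars false
open DirectSum
open scoped TensorProduct

noncomputable section

namespace Groth.Agent.Lib.T2H3.Seg

universe u

section Act

variable {k : Type u} [CommRing k] {R S : Type u} [CommRing R] [CommRing S] [Algebra k R]
  [Algebra k S]
variable (A : Type u) [AddCommGroup A] [Module R A] [Module k A] [IsScalarTower k R A]
variable (B : Type u) [AddCommGroup B] [Module S B] [Module k B] [IsScalarTower k S B]

theorem act_one : GrSeg.act k R S A B (1 ⊗ₜ[k] 1) = 1 := by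
  apply TensorProduct.ext'
  intro a b
  rw [GrSeg.act_tmul, one_smul, one_smul]
  rfl

theorem act_mul_tmul (r r' : R) (s s' : S) :
    GrSeg.act k R S A B ((r * r') ⊗ₜ[k] (s * s')) =
      GrSeg.act k R S A B (r ⊗ₜ[k] s) * GrSeg.act k R S A B (r' ⊗ₜ[k] s') := by
  apply TensorProduct.ext'
  intro a b
  rw [Module.End.mul_apply, GrSeg.act_tmul, GrSeg.act_tmul, GrSeg.act_tmul, mul_smul, mul_smul]

/-- The action of `R ⊗[k] S` on `A ⊗[k] B` as an algebra homomorphism. -/
def actAlg : R ⊗[k] S →ₐ[k] Module.End k (A ⊗[k] B) :=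
  Algebra.TensorProduct.algHomOfLinearMapTensorProduct (GrSeg.act k R S A B)
    (fun r r' s s' => act_mul_tmul A B r r' s s') (act_one A B)

theorem actAlg_apply (u : R ⊗[k] S) (w : A ⊗[k] B) :
    actAlg A B u w = GrSeg.act k R S A B u w := rfl

variable {A B}
variable {A' : Type u} [AddCommGroup A'] [Module R A'] [Module k A'] [IsScalarTower k R A']
variable {B' : Type u} [AddCommGroup B'] [Module S B'] [Module k B'] [IsScalarTower k S B']

/-- Naturality of the action. -/
theorem map_act (f : A →ₗ[R] A') (g : B →ₗ[S] B') (u : R ⊗[k] S) (w : A ⊗[k] B) :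
    TensorProduct.map (f.restrictScalars k) (g.restrictScalars k) (GrSeg.act k R S A B u w) =
      GrSeg.act k R S A' B' u (TensorProduct.map (f.restrictScalars k) (g.restrictScalars k) w) := by
  induction u using TensorProduct.induction_on with
  | zero => simp
  | add x y hx hy => rw [map_add, LinearMap.add_apply, map_add, hx, hy, map_add, LinearMap.add_apply]
  | tmul r s =>
    induction w using TensorProduct.induction_on with
    | zero => simp
    | add x y hx hy => rw [map_add, map_add, hx, hy, map_add, map_add]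
    | tmul a b =>
      rw [GrSeg.act_tmul, TensorProduct.map_tmul, TensorProduct.map_tmul, GrSeg.act_tmul]
      simp

end Act

section TW

variable {k : Type u} [CommRing k] {R S T : Type u} [CommRing R] [CommRing S] [CommRing T]
  [Algebra k R] [Algebra k S] [Algebra k T]

/-- `A ⊗[k] B` as a `T`-module through `ψ : T → R ⊗[k] S`. -/
def TW (_ψ : T →ₐ[k] R ⊗[k] S) (A B : Type u) [AddCommGroup A] [Module k A] [AddCommGroup B]
    [Module k B] : Type u := A ⊗[k] B

variable (ψ : T →ₐ[k] R ⊗[k] S)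
variable (A : Type u) [AddCommGroup A] [Module R A] [Module k A] [IsScalarTower k R A]
variable (B : Type u) [AddCommGroup B] [Module S B] [Module k B] [IsScalarTower k S B]

instance instAddCommGroupTW : AddCommGroup (TW ψ A B) := inferInstanceAs (AddCommGroup (A ⊗[k] B))
instance instModuleKTW : Module k (TW ψ A B) := inferInstanceAs (Module k (A ⊗[k] B))

instance instModuleTTW : Module T (TW ψ A B) :=
  Module.compHom (A ⊗[k] B) ((actAlg A B).comp ψ).toRingHom

/-- The identity map `A ⊗[k] B → TW ψ A B`. -/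
def toTW : A ⊗[k] B ≃ₗ[k] TW ψ A B := LinearEquiv.refl k _

theorem smul_def (t : T) (w : TW ψ A B) :
    t • w = toTW ψ A B (GrSeg.act k R S A B (ψ t) ((toTW ψ A B).symm w)) := rfl

instance : IsScalarTower k T (TW ψ A B) := ⟨fun c t w => by
  rw [smul_def, smul_def, map_smul, map_smul, LinearMap.smul_apply, map_smul]⟩

end TW

section AddHom

variable {A : Type u} [AddCommGroup A] (𝓐 : ℤ → AddSubgroup A) [DirectSum.Decomposition 𝓐]
variable {A' : Type u} [AddCommGroup A'] (𝓐' : ℤ → AddSubgroup A') [DirectSum.Decomposition 𝓐']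

/-- An additive map homogeneous of degree `c` commutes with taking components. -/
theorem decompose_addHom_deg (β : A →+ A') (c : ℤ)
    (hβ : ∀ (g : ℤ) (m : A), m ∈ 𝓐 g → β m ∈ 𝓐' (g + c)) (x : A) (i : ℤ) :
    ((decompose 𝓐' (β x)) (i + c) : A') = β ((decompose 𝓐 x) i) := by
  classical
  induction x using DirectSum.Decomposition.inductionOn 𝓐 with
  | zero => simp
  | homogeneous m =>
    rename_i j
    have hm : β (m : A) ∈ 𝓐' (j + c) := hβ j m m.2
    by_cases h : j = i
    · subst h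
      rw [DirectSum.decompose_of_mem_same _ hm, DirectSum.decompose_of_mem_same _ m.2]
    · have h' : j + c ≠ i + c := fun h2 => h (by omega)
      rw [DirectSum.decompose_of_mem_ne _ hm h', DirectSum.decompose_of_mem_ne _ m.2 h, map_zero]
  | add m m' hm hm' =>
    rw [map_add, DirectSum.decompose_add, DirectSum.decompose_add, DirectSum.add_apply,
      DirectSum.add_apply, AddSubgroup.coe_add, AddSubgroup.coe_add, map_add, hm, hm']

theorem decompose_addHom (β : A →+ A') (hβ : ∀ (g : ℤ) (m : A), m ∈ 𝓐 g → β m ∈ 𝓐' g) (x : A)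
    (i : ℤ) : ((decompose 𝓐' (β x)) i : A') = β ((decompose 𝓐 x) i) := by
  have h := decompose_addHom_deg 𝓐 𝓐' β 0 (fun g m hm => by rw [add_zero]; exact hβ g m hm) x i
  rwa [add_zero] at h

end AddHom

section KPieces

variable {k : Type u} [CommRing k] {R : Type u} [CommRing R] [Algebra k R]
  (𝒜 : ℤ → Submodule k R) [GradedAlgebra 𝒜]
variable {A : Type u} [AddCommGroup A] [Module R A] [Module k A] [IsScalarTower k R A]
  (𝓐 : ℤ → AddSubgroup A) [DirectSum.Decomposition 𝓐] [SetLike.GradedSMul 𝒜 𝓐]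

include 𝒜 in
theorem ksmul_mem (c : k) {d : ℤ} {x : A} (hx : x ∈ 𝓐 d) : c • x ∈ 𝓐 d := by
  have h1 : algebraMap k R c ∈ 𝒜 0 := by
    rw [Algebra.algebraMap_eq_smul_one]
    exact Submodule.smul_mem _ c SetLike.GradedOne.one_mem
  have h2 := SetLike.GradedSMul.smul_mem (A := 𝒜) (B := 𝓐) h1 hx
  rw [vadd_eq_add, zero_add, algebraMap_smul] at h2
  exact h2

/-- The piece of degree `d` as a `k`-subspace. -/
def pcK (d : ℤ) : Submodule k A where
  carrier := 𝓐 d
  add_mem' ha hb := add_mem ha hb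
  zero_mem' := zero_mem _
  smul_mem' c _ hx := ksmul_mem 𝒜 𝓐 c hx

theorem mem_pcK {d : ℤ} {x : A} : x ∈ pcK 𝒜 𝓐 d ↔ x ∈ 𝓐 d := Iff.rfl

/-- The projection onto the piece of degree `d`, a `k`-linear map. -/
def prK (d : ℤ) : A →ₗ[k] A where
  toFun x := ((decompose 𝓐 x) d : A)
  map_add' x y := by
    rw [DirectSum.decompose_add, DirectSum.add_apply, AddSubgroup.coe_add]
  map_smul' c x := by
    have h := decompose_addHom 𝓐 𝓐 (DistribSMul.toAddMonoidHom A c)
      (fun g m hm => ksmul_mem 𝒜 𝓐 c hm) x d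
    exact h

theorem prK_apply (d : ℤ) (x : A) : prK 𝒜 𝓐 d x = ((decompose 𝓐 x) d : A) := rfl

theorem prK_mem (d : ℤ) (x : A) : prK 𝒜 𝓐 d x ∈ 𝓐 d := SetLike.coe_mem _

theorem prK_of_mem_same {d : ℤ} {x : A} (hx : x ∈ 𝓐 d) : prK 𝒜 𝓐 d x = x :=
  DirectSum.decompose_of_mem_same 𝓐 hx

theorem prK_of_mem_ne {d e : ℤ} {x : A} (hx : x ∈ 𝓐 e) (h : e ≠ d) : prK 𝒜 𝓐 d x = 0 :=
  DirectSum.decompose_of_mem_ne 𝓐 hx h

end KPieces

section Diag

variable {k : Type u} [CommRing k] {R S : Type u} [CommRing R] [CommRing S] [Algebra k R]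
  [Algebra k S] (𝒜 : ℤ → Submodule k R) [GradedAlgebra 𝒜] (ℬ : ℤ → Submodule k S)
  [GradedAlgebra ℬ]
variable {A : Type u} [AddCommGroup A] [Module R A] [Module k A] [IsScalarTower k R A]
  (𝓐 : ℤ → AddSubgroup A) [DirectSum.Decomposition 𝓐] [SetLike.GradedSMul 𝒜 𝓐]
variable {B : Type u} [AddCommGroup B] [Module S B] [Module k B] [IsScalarTower k S B]
  (𝓑 : ℤ → AddSubgroup B) [DirectSum.Decomposition 𝓑] [SetLike.GradedSMul ℬ 𝓑]

/-- The projection of `A ⊗[k] B` onto `A_d ⊗ B_d`. -/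
def pd (d : ℤ) : A ⊗[k] B →ₗ[k] A ⊗[k] B := TensorProduct.map (prK 𝒜 𝓐 d) (prK ℬ 𝓑 d)

omit [DirectSum.Decomposition 𝓐] [DirectSum.Decomposition 𝓑] in
theorem tmul_mem_piece {d : ℤ} {a : A} (ha : a ∈ 𝓐 d) {b : B} (hb : b ∈ 𝓑 d) :
    a ⊗ₜ[k] b ∈ GrSeg.segrePiece k 𝓐 𝓑 d :=
  Submodule.subset_span ⟨a, ha, b, hb, rfl⟩

theorem pd_mem (d : ℤ) (w : A ⊗[k] B) : pd 𝒜 ℬ 𝓐 𝓑 d w ∈ GrSeg.segrePiece k 𝓐 𝓑 d := by
  induction w using TensorProduct.induction_on with
  | zero => rw [map_zero]; exact zero_mem _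
  | tmul a b =>
    rw [pd, TensorProduct.map_tmul]
    exact tmul_mem_piece 𝓐 𝓑 (prK_mem 𝒜 𝓐 d a) (prK_mem ℬ 𝓑 d b)
  | add x y hx hy => rw [map_add]; exact add_mem hx hy

theorem pd_of_mem_same {d : ℤ} {w : A ⊗[k] B} (hw : w ∈ GrSeg.segrePiece k 𝓐 𝓑 d) :
    pd 𝒜 ℬ 𝓐 𝓑 d w = w := by
  induction hw using Submodule.span_induction with
  | mem x hx =>
    obtain ⟨a, ha, b, hb, rfl⟩ := hx
    rw [pd, TensorProduct.map_tmul, prK_of_mem_same 𝒜 𝓐 ha, prK_of_mem_same ℬ 𝓑 hb]
  | zero => rw [map_zero]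
  | add x y _ _ hx hy => rw [map_add, hx, hy]
  | smul c x _ hx => rw [map_smul, hx]

theorem pd_of_mem_ne {d e : ℤ} {w : A ⊗[k] B} (hw : w ∈ GrSeg.segrePiece k 𝓐 𝓑 e) (h : e ≠ d) :
    pd 𝒜 ℬ 𝓐 𝓑 d w = 0 := by
  induction hw using Submodule.span_induction with
  | mem x hx =>
    obtain ⟨a, ha, b, hb, rfl⟩ := hx
    rw [pd, TensorProduct.map_tmul, prK_of_mem_ne 𝒜 𝓐 ha h, TensorProduct.zero_tmul]
  | zero => rw [map_zero]
  | add x y _ _ hx hy => rw [map_add, hx, hy, add_zero]
  | smul c x _ hx => rw [map_smul, hx, smul_zero]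

end Diag

end Groth.Agent.Lib.T2H3.Seg
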