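import Groth.Agent.Lib.T2H3SegB

/-! Segre products of graded modules (helper3), part C: exactness of the Segre product in each
variable, and the comparison of an abstractly presented Segre product `P` (`GrSeg.IsSegreMod`)
with the concrete one. -/

set_option autoImplicit false
set_option linter.unusedSectionVars false
set_option linter.style.haveILetI false
open DirectSum
open scoped TensorProduct

noncomputable section

namespace Groth.Agent.Lib.T2H3.Seg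

open Groth.Agent.Lib.T2H3.GrTr

universe u

variable {k : Type u} [Field k] {R S T : Type u} [CommRing R] [CommRing S] [CommRing T]
  [Algebra k R] [Algebra k S] [Algebra k T]
  {𝒜 : ℤ → Submodule k R} [GradedAlgebra 𝒜] {ℬ : ℤ → Submodule k S} [GradedAlgebra ℬ]
  {𝒯 : ℤ → Submodule k T} [GradedAlgebra 𝒯] {ψ : T →ₐ[k] R ⊗[k] S}
variable {A : Type u} [AddCommGroup A] [Module R A] [Module k A] [IsScalarTower k R A]
  (𝓐 : ℤ → AddSubgroup A) [DirectSum.Decomposition 𝓐] [SetLike.GradedSMul 𝒜 𝓐]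
variable {B : Type u} [AddCommGroup B] [Module S B] [Module k B] [IsScalarTower k S B]
  (𝓑 : ℤ → AddSubgroup B) [DirectSum.Decomposition 𝓑] [SetLike.GradedSMul ℬ 𝓑]
variable {A' : Type u} [AddCommGroup A'] [Module R A'] [Module k A'] [IsScalarTower k R A']
  (𝓐' : ℤ → AddSubgroup A') [DirectSum.Decomposition 𝓐'] [SetLike.GradedSMul 𝒜 𝓐']
variable {B' : Type u} [AddCommGroup B'] [Module S B'] [Module k B'] [IsScalarTower k S B']
  (𝓑' : ℤ → AddSubgroup B') [DirectSum.Decomposition 𝓑'] [SetLike.GradedSMul ℬ 𝓑']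
variable (hT : GrSeg.IsSegreRing 𝒜 ℬ 𝒯 ψ)

/-- Homogeneous `k`-linear maps commute with the projections onto the pieces. -/
theorem prK_map (f : A →ₗ[k] A') (hf : ∀ d a, a ∈ 𝓐 d → f a ∈ 𝓐' d) (d : ℤ) (a : A) :
    prK 𝒜 𝓐' d (f a) = f (prK 𝒜 𝓐 d a) :=
  decompose_addHom 𝓐 𝓐' f.toAddMonoidHom hf a d

theorem pd_map (f : A →ₗ[k] A') (g : B →ₗ[k] B') (hf : ∀ d a, a ∈ 𝓐 d → f a ∈ 𝓐' d)
    (hg : ∀ d b, b ∈ 𝓑 d → g b ∈ 𝓑' d) (d : ℤ) (w : A ⊗[k] B) :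
    pd 𝒜 ℬ 𝓐' 𝓑' d (TensorProduct.map f g w) = TensorProduct.map f g (pd 𝒜 ℬ 𝓐 𝓑 d w) := by
  induction w using TensorProduct.induction_on with
  | zero => simp
  | tmul a b =>
    rw [TensorProduct.map_tmul, pd, pd, TensorProduct.map_tmul, TensorProduct.map_tmul,
      TensorProduct.map_tmul, prK_map 𝓐 𝓐' f hf, prK_map 𝓑 𝓑' g hg]
  | add x y hx hy => rw [map_add, map_add, hx, hy, map_add, map_add]

/-- Every element of the Segre product is the sum of finitely many of its diagonal components. -/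
theorem exists_finset_sum_pd (z : ↥(seg 𝓐 𝓑 hT)) :
    ∃ s : Finset ℤ, sval 𝓐 𝓑 hT z = ∑ d ∈ s, pd 𝒜 ℬ 𝓐 𝓑 d (sval 𝓐 𝓑 hT z) := by
  classical
  letI := segDecomposition 𝓐 𝓑 hT
  refine ⟨(decompose (segGr 𝓐 𝓑 hT) z).support, ?_⟩
  have h := DirectSum.sum_support_decompose (segGr 𝓐 𝓑 hT) z
  conv_lhs => rw [← h]
  rw [map_sum]
  refine Finset.sum_congr rfl fun d _ => ?_
  exact sval_decompose 𝓐 𝓑 hT z d

/-- A preimage of an element of the Segre product under `f ⊗ g` (`f`, `g` homogeneous) can be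
chosen in the Segre product. -/
theorem exists_seg_preimage (f : A →ₗ[k] A') (g : B →ₗ[k] B')
    (hf : ∀ d a, a ∈ 𝓐 d → f a ∈ 𝓐' d) (hg : ∀ d b, b ∈ 𝓑 d → g b ∈ 𝓑' d)
    (z : ↥(seg 𝓐' 𝓑' hT)) (v : A ⊗[k] B) (hv : TensorProduct.map f g v = sval 𝓐' 𝓑' hT z) :
    ∃ y : ↥(seg 𝓐 𝓑 hT), TensorProduct.map f g (sval 𝓐 𝓑 hT y) = sval 𝓐' 𝓑' hT z := by
  classical
  obtain ⟨s, hs⟩ := exists_finset_sum_pd 𝓐' 𝓑' hT z
  have hmem : ∑ d ∈ s, pd 𝒜 ℬ 𝓐 𝓑 d v ∈ segK 𝓐 𝓑 :=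
    Submodule.sum_mem _ fun d _ => piece_le_segK 𝓐 𝓑 d (pd_mem 𝒜 ℬ 𝓐 𝓑 d v)
  refine ⟨smk 𝓐 𝓑 hT _ hmem, ?_⟩
  rw [sval_smk, map_sum, hs]
  refine Finset.sum_congr rfl fun d _ => ?_
  rw [← pd_map 𝓐 𝓑 𝓐' 𝓑' f g hf hg, hv]

section Exact

variable {A'' : Type u} [AddCommGroup A''] [Module R A''] [Module k A''] [IsScalarTower k R A'']
  (𝓐'' : ℤ → AddSubgroup A'') [DirectSum.Decomposition 𝓐''] [SetLike.GradedSMul 𝒜 𝓐'']
variable {B'' : Type u} [AddCommGroup B''] [Module S B''] [Module k B''] [IsScalarTower k S B'']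
  (𝓑'' : ℤ → AddSubgroup B'') [DirectSum.Decomposition 𝓑''] [SetLike.GradedSMul ℬ 𝓑'']

theorem isGrHom_id : GrLC.IsGrHom 𝓑 𝓑 (LinearMap.id : B →ₗ[S] B) := fun _ _ h => h

/-- Exactness of the Segre product in the first variable. -/
theorem segMap_exact_left (f : A →ₗ[R] A') (f' : A' →ₗ[R] A'') (hf : GrLC.IsGrHom 𝓐 𝓐' f)
    (hf' : GrLC.IsGrHom 𝓐' 𝓐'' f') (hex : LinearMap.ker f' = LinearMap.range f) :
    LinearMap.ker (segMap 𝓐' 𝓑 hT 𝓐'' 𝓑 f' LinearMap.id hf' (isGrHom_id 𝓑)) =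
      LinearMap.range (segMap 𝓐 𝓑 hT 𝓐' 𝓑 f LinearMap.id hf (isGrHom_id 𝓑)) := by
  have hE : Function.Exact (f.restrictScalars k) (f'.restrictScalars k) := by
    intro y
    change f' y = 0 ↔ y ∈ Set.range f
    rw [← LinearMap.mem_ker, hex]
    rfl
  have hE' := Module.Flat.rTensor_exact B hE
  apply le_antisymm
  · intro z hz
    have h1 : (LinearMap.rTensor B (f'.restrictScalars k)) (sval 𝓐' 𝓑 hT z) = 0 :=
      congrArg (sval 𝓐'' 𝓑 hT) (LinearMap.mem_ker.mp hz)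
    obtain ⟨v, hv⟩ := (hE' _).mp h1
    obtain ⟨y, hy⟩ := exists_seg_preimage 𝓐 𝓑 𝓐' 𝓑 hT (f.restrictScalars k) LinearMap.id
      (fun d a ha => hf d a ha) (fun _ _ h => h) z v hv
    exact ⟨y, sval_injective 𝓐' 𝓑 hT hy⟩
  · rintro _ ⟨y, rfl⟩
    rw [LinearMap.mem_ker]
    apply sval_injective 𝓐'' 𝓑 hT
    have h2 : (LinearMap.rTensor B (f'.restrictScalars k))
        ((LinearMap.rTensor B (f.restrictScalars k)) (sval 𝓐 𝓑 hT y)) = 0 :=
      hE'.apply_apply_eq_zero _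
    rw [map_zero]
    exact h2

/-- Exactness of the Segre product in the second variable. -/
theorem segMap_exact_right (g : B →ₗ[S] B') (g' : B' →ₗ[S] B'') (hg : GrLC.IsGrHom 𝓑 𝓑' g)
    (hg' : GrLC.IsGrHom 𝓑' 𝓑'' g') (hex : LinearMap.ker g' = LinearMap.range g) :
    LinearMap.ker (segMap 𝓐 𝓑' hT 𝓐 𝓑'' LinearMap.id g' (isGrHom_id 𝓐) hg') =
      LinearMap.range (segMap 𝓐 𝓑 hT 𝓐 𝓑' LinearMap.id g (isGrHom_id 𝓐) hg) := by
  have hE : Function.Exact (g.restrictScalars k) (g'.restrictScalars k) := by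
    intro y
    change g' y = 0 ↔ y ∈ Set.range g
    rw [← LinearMap.mem_ker, hex]
    rfl
  have hE' := Module.Flat.lTensor_exact A hE
  apply le_antisymm
  · intro z hz
    have h1 : (LinearMap.lTensor A (g'.restrictScalars k)) (sval 𝓐 𝓑' hT z) = 0 :=
      congrArg (sval 𝓐 𝓑'' hT) (LinearMap.mem_ker.mp hz)
    obtain ⟨v, hv⟩ := (hE' _).mp h1
    obtain ⟨y, hy⟩ := exists_seg_preimage 𝓐 𝓑 𝓐 𝓑' hT LinearMap.id (g.restrictScalars k)
      (fun _ _ h => h) (fun d b hb => hg d b hb) z v hv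
    exact ⟨y, sval_injective 𝓐 𝓑' hT hy⟩
  · rintro _ ⟨y, rfl⟩
    rw [LinearMap.mem_ker]
    apply sval_injective 𝓐 𝓑'' hT
    have h2 : (LinearMap.lTensor A (g'.restrictScalars k))
        ((LinearMap.lTensor A (g.restrictScalars k)) (sval 𝓐 𝓑 hT y)) = 0 :=
      hE'.apply_apply_eq_zero _
    rw [map_zero]
    exact h2

theorem segMap_injective (f : A →ₗ[R] A') (g : B →ₗ[S] B') (hf : GrLC.IsGrHom 𝓐 𝓐' f)
    (hg : GrLC.IsGrHom 𝓑 𝓑' g) (hfi : Function.Injective f) (hgi : Function.Injective g) :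
    Function.Injective (segMap 𝓐 𝓑 hT 𝓐' 𝓑' f g hf hg) := by
  intro x y hxy
  apply sval_injective 𝓐 𝓑 hT
  have h1 : Function.Injective (TensorProduct.map (f.restrictScalars k) (g.restrictScalars k)) := by
    have e : TensorProduct.map (f.restrictScalars k) (g.restrictScalars k) =
        (LinearMap.rTensor B' (f.restrictScalars k)) ∘ₗ (LinearMap.lTensor A (g.restrictScalars k)) := by
      rw [LinearMap.rTensor_comp_lTensor]
    rw [e]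
    have h2 : Function.Injective (LinearMap.rTensor B' (f.restrictScalars k)) :=
      Module.Flat.rTensor_preserves_injective_linearMap (f.restrictScalars k) hfi
    have h3 : Function.Injective (LinearMap.lTensor A (g.restrictScalars k)) :=
      Module.Flat.lTensor_preserves_injective_linearMap (g.restrictScalars k) hgi
    exact h2.comp h3
  apply h1
  exact congrArg (sval 𝓐' 𝓑' hT) hxy

end Exact

section Abstract

variable {P : Type u} [AddCommGroup P] [Module T P] [Module k P] [IsScalarTower k T P]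
  (𝒬 : ℤ → AddSubgroup P) [DirectSum.Decomposition 𝒬] [SetLike.GradedSMul 𝒯 𝒬]
  (φ : P →ₗ[k] A ⊗[k] B) (hP : GrSeg.IsSegreMod ψ 𝓐 𝓑 𝒬 φ)

include hP in
theorem phi_mem_piece {d : ℤ} {p : P} (hp : p ∈ 𝒬 d) : φ p ∈ GrSeg.segrePiece k 𝓐 𝓑 d := by
  have h := hP.image_piece d
  rw [← SetLike.mem_coe, ← h]
  exact ⟨p, hp, rfl⟩

include hP in
theorem phi_mem_segK (p : P) : φ p ∈ segK 𝓐 𝓑 := by
  classical
  rw [← DirectSum.sum_support_decompose 𝒬 p, map_sum]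
  exact Submodule.sum_mem _ fun d _ =>
    piece_le_segK 𝓐 𝓑 d (phi_mem_piece 𝓐 𝓑 𝒬 φ hP (SetLike.coe_mem _))

/-- The comparison of an abstractly presented Segre product with the concrete one. -/
def pIso : P →ₗ[T] ↥(seg 𝓐 𝓑 hT) where
  toFun p := smk 𝓐 𝓑 hT (φ p) (phi_mem_segK 𝓐 𝓑 𝒬 φ hP p)
  map_add' x y := by
    apply sval_injective 𝓐 𝓑 hT
    change φ (x + y) = φ x + φ y
    rw [map_add]
  map_smul' t x := by
    apply sval_injective 𝓐 𝓑 hT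
    change φ (t • x) = GrSeg.act k R S A B (ψ t) (φ x)
    exact hP.map_smul t x

@[simp] theorem sval_pIso (p : P) : sval 𝓐 𝓑 hT (pIso 𝓐 𝓑 hT 𝒬 φ hP p) = φ p := rfl

theorem pIso_injective : Function.Injective (pIso 𝓐 𝓑 hT 𝒬 φ hP) := by
  intro x y hxy
  apply hP.injective
  exact congrArg (sval 𝓐 𝓑 hT) hxy

theorem pIso_mem {d : ℤ} {p : P} (hp : p ∈ 𝒬 d) : pIso 𝓐 𝓑 hT 𝒬 φ hP p ∈ segGr 𝓐 𝓑 hT d :=
  phi_mem_piece 𝓐 𝓑 𝒬 φ hP hp

theorem exists_pIso_eq_of_mem {d : ℤ} {z : ↥(seg 𝓐 𝓑 hT)} (hz : z ∈ segGr 𝓐 𝓑 hT d) :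
    ∃ p ∈ 𝒬 d, pIso 𝓐 𝓑 hT 𝒬 φ hP p = z := by
  have h := hP.image_piece d
  have h1 : sval 𝓐 𝓑 hT z ∈ φ '' (𝒬 d : Set P) := by
    rw [h]
    exact hz
  obtain ⟨p, hp, hpz⟩ := h1
  exact ⟨p, hp, sval_injective 𝓐 𝓑 hT hpz⟩

theorem pIso_surjective : Function.Surjective (pIso 𝓐 𝓑 hT 𝒬 φ hP) := by
  classical
  intro z
  letI := segDecomposition 𝓐 𝓑 hT
  rw [← DirectSum.sum_support_decompose (segGr 𝓐 𝓑 hT) z]
  have key : ∀ d, ∃ p, pIso 𝓐 𝓑 hT 𝒬 φ hP p =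
      ((decompose (segGr 𝓐 𝓑 hT) z) d : ↥(seg 𝓐 𝓑 hT)) := by
    intro d
    obtain ⟨p, -, hp⟩ := exists_pIso_eq_of_mem 𝓐 𝓑 hT 𝒬 φ hP
      (SetLike.coe_mem ((decompose (segGr 𝓐 𝓑 hT) z) d))
    exact ⟨p, hp⟩
  choose q hq using key
  refine ⟨∑ d ∈ (decompose (segGr 𝓐 𝓑 hT) z).support, q d, ?_⟩
  rw [map_sum]
  exact Finset.sum_congr rfl fun d _ => hq d

theorem mem_of_pIso_mem {d : ℤ} {p : P} (hp : pIso 𝓐 𝓑 hT 𝒬 φ hP p ∈ segGr 𝓐 𝓑 hT d) :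
    p ∈ 𝒬 d := by
  obtain ⟨p', hp', h⟩ := exists_pIso_eq_of_mem 𝓐 𝓑 hT 𝒬 φ hP hp
  rw [← pIso_injective 𝓐 𝓑 hT 𝒬 φ hP h]
  exact hp'

end Abstract

end Groth.Agent.Lib.T2H3.Seg
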