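import Groth.Agent.Lib.T2H3SegC
import Groth.Agent.Lib.LeadSPc
import Groth.Agent.Lib.T2H3GrIrrB
import Groth.Agent.Lib.Helper8LCAdd
import Groth.Agent.Lib.Helper29LCAcyclic
import Groth.Agent.Lib.Helper8LC2

/-! Segre products of graded modules (helper3), part D: torsion. Tensors `a ⊗ b` with `a` killed
by a power of `R_+` are killed by a power of `T_+`. -/

set_option autoImplicit false
set_option linter.unusedSectionVars false
set_option linter.style.haveILetI false
open DirectSum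
open scoped TensorProduct

noncomputable section

namespace Groth.Agent.Lib.T2H3.Seg

open Groth.Agent.Lib.T2H3.GrTr Groth.Agent.Lib Groth.Agent.Lib.LeadSP

universe u

variable {k : Type u} [Field k] {R S T : Type u} [CommRing R] [CommRing S] [CommRing T]
  [Algebra k R] [Algebra k S] [Algebra k T]
  {𝒜 : ℤ → Submodule k R} [GradedAlgebra 𝒜] {ℬ : ℤ → Submodule k S} [GradedAlgebra ℬ]
  {𝒯 : ℤ → Submodule k T} [GradedAlgebra 𝒯] {ψ : T →ₐ[k] R ⊗[k] S}
variable {A : Type u} [AddCommGroup A] [Module R A] [Module k A] [IsScalarTower k R A]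
variable {B : Type u} [AddCommGroup B] [Module S B] [Module k B] [IsScalarTower k S B]
variable (hT : GrSeg.IsSegreRing 𝒜 ℬ 𝒯 ψ)

section Torsion

variable (hposT : ∀ n : ℤ, n < 0 → 𝒯 n = ⊥)
  (mT : HomogeneousIdeal 𝒯) (hmT : mT.toIdeal = LeadSeg.irr 𝒯)

include hT hposT hmT in
/-- An element of `A ⊗ B` killed by `r ⊗ s` for all `r ∈ R_n`, `s ∈ S_n`, `n ≥ N`, is killed by
`T_+ ^ N`. -/
theorem smul_eq_zero_of_forall (N : ℕ) (w : A ⊗[k] B)
    (hw : ∀ n : ℤ, (N : ℤ) ≤ n → ∀ r ∈ 𝒜 n, ∀ s ∈ ℬ n,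
      GrSeg.act k R S A B (r ⊗ₜ[k] s) w = 0) (t : T) (ht : t ∈ mT.toIdeal ^ N) :
    t • toTW ψ A B w = 0 := by
  classical
  rw [smul_def]
  have h0 : GrSeg.act k R S A B (ψ t) w = 0 := by
    rw [hmT] at ht
    have ht' : t ∈ geI 𝒯 (N : ℤ) := irr_pow_le 𝒯 N ht
    rw [← DirectSum.sum_support_decompose 𝒯 t, map_sum, map_sum, LinearMap.sum_apply]
    refine Finset.sum_eq_zero fun n _ => ?_
    rcases lt_or_ge n (N : ℤ) with hn | hn
    · rw [decompose_eq_zero_of_mem_geI 𝒯 hposT ht' hn, map_zero, map_zero, LinearMap.zero_apply]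
    · have key : ∀ u ∈ GrSeg.segrePiece k 𝒜 ℬ n, GrSeg.act k R S A B u w = 0 := by
        intro u hu
        induction hu using Submodule.span_induction with
        | mem x hx =>
          obtain ⟨r, hr, s, hs, rfl⟩ := hx
          exact hw n hn r hr s hs
        | zero => rw [map_zero, LinearMap.zero_apply]
        | add x y _ _ hx hy => rw [map_add, LinearMap.add_apply, hx, hy, add_zero]
        | smul c x _ hx => rw [map_smul, LinearMap.smul_apply, hx, smul_zero]
      exact key _ (psi_mem hT (SetLike.coe_mem ((decompose 𝒯 t) n)))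
  change toTW ψ A B (GrSeg.act k R S A B (ψ t) w) = 0
  rw [h0, map_zero]

variable [IsNoetherianRing R] (mR : HomogeneousIdeal 𝒜)
  (hirrR : ∀ n : ℤ, 0 < n → ∀ r ∈ 𝒜 n, r ∈ mR.toIdeal)

include hT hposT hmT hirrR in
theorem tmul_mem_gam_left {a : A} (ha : a ∈ GrLC.gam mR.toIdeal A) (b : B) :
    toTW ψ A B (a ⊗ₜ[k] b) ∈ GrLC.gam mT.toIdeal (TW ψ A B) := by
  obtain ⟨j, hj⟩ := ha
  obtain ⟨k₀, hk₀⟩ := GrIrr.exists_piece_le_pow (asGr 𝒜) (hiTo 𝒜 mR)
    (fun n hn r hr => hirrR n hn r hr) j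
  refine ⟨k₀.toNat, fun t ht => ?_⟩
  refine smul_eq_zero_of_forall hT hposT mT hmT k₀.toNat (a ⊗ₜ[k] b) ?_ t ht
  intro n hn r hr s _
  rw [GrSeg.act_tmul]
  have h1 : r ∈ mR.toIdeal ^ j := hk₀ n (le_trans (Int.self_le_toNat k₀) hn) r hr
  rw [hj r h1, TensorProduct.zero_tmul]

variable [IsNoetherianRing S] (mS : HomogeneousIdeal ℬ)
  (hirrS : ∀ n : ℤ, 0 < n → ∀ s ∈ ℬ n, s ∈ mS.toIdeal)

include hT hposT hmT hirrS in
theorem tmul_mem_gam_right (a : A) {b : B} (hb : b ∈ GrLC.gam mS.toIdeal B) :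
    toTW ψ A B (a ⊗ₜ[k] b) ∈ GrLC.gam mT.toIdeal (TW ψ A B) := by
  obtain ⟨j, hj⟩ := hb
  obtain ⟨k₀, hk₀⟩ := GrIrr.exists_piece_le_pow (asGr ℬ) (hiTo ℬ mS)
    (fun n hn r hr => hirrS n hn r hr) j
  refine ⟨k₀.toNat, fun t ht => ?_⟩
  refine smul_eq_zero_of_forall hT hposT mT hmT k₀.toNat (a ⊗ₜ[k] b) ?_ t ht
  intro n hn r _ s hs
  rw [GrSeg.act_tmul]
  have h1 : s ∈ mS.toIdeal ^ j := hk₀ n (le_trans (Int.self_le_toNat k₀) hn) s hs
  rw [hj s h1, TensorProduct.tmul_zero]

end Torsion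

section LCgen

open CategoryTheory Groth.Agent.Lib.Helper29LCAcyclic Groth.Agent.Lib.Helper8.LC

variable {T' : Type u} [CommRing T'] (I : Ideal T')
variable {W : Type u} [AddCommGroup W] [Module T' W]

/-- Local cohomology of a module on which an element of the ideal acts bijectively vanishes. -/
theorem LC_eq_zero_of_bijective (i : ℕ) (f : T') (hf : f ∈ I)
    (hbij : Function.Bijective (fun w : W => f • w)) (y : LC I i W) : y = 0 := by
  let μ : W ≃ₗ[T'] W := LinearEquiv.ofBijective (LinearMap.lsmul T' W f) hbij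
  apply H_eq_zero_of_smul_injective I i (ModuleCat.of T' W) f hf
  intro y hy
  rw [← H_map_lsmul] at hy
  have h1 : (localCohomology I i).map (ModuleCat.ofHom (LinearMap.lsmul T' W f)) ≫
      (localCohomology I i).map (ModuleCat.ofHom μ.symm.toLinearMap) = 𝟙 _ := by
    rw [← Functor.map_comp, ← ModuleCat.ofHom_comp]
    have h0 : μ.symm.toLinearMap ∘ₗ LinearMap.lsmul T' W f = LinearMap.id := by
      ext w
      exact μ.symm_apply_apply w
    rw [h0]
    exact CategoryTheory.Functor.map_id _ _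
  have h2 := congrArg (fun g => g.hom y) h1
  simp only [ModuleCat.hom_comp, LinearMap.comp_apply, ModuleCat.hom_id, LinearMap.id_apply] at h2
  rw [hy, map_zero] at h2
  exact h2.symm

/-- If the identity of `W` is a finite sum of endomorphisms whose images have vanishing local
cohomology then so has `W`. -/
theorem LC_eq_zero_of_sum (i : ℕ) {Λ : Type} (s : Finset Λ) (E : Λ → W →ₗ[T'] W)
    (hsum : ∑ l ∈ s, E l = LinearMap.id)
    (h : ∀ l ∈ s, ∀ y : LC I i ↥(LinearMap.range (E l)), y = 0) (x : LC I i W) : x = 0 := by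
  have h1 : 𝟙 (ModuleCat.of T' W) = ∑ l ∈ s, ModuleCat.ofHom (E l) := by
    apply ModuleCat.hom_ext
    rw [ModuleCat.hom_sum]
    simp only [ModuleCat.hom_ofHom]
    rw [hsum]
    rfl
  have h2 : x = (localCohomology I i).map (𝟙 (ModuleCat.of T' W)) x := by
    rw [CategoryTheory.Functor.map_id]
    rfl
  rw [h2, h1, H_map_sum]
  refine Finset.sum_eq_zero fun l hl => ?_
  have h3 : ModuleCat.ofHom (E l) = ModuleCat.ofHom (E l).rangeRestrict ≫
      ModuleCat.ofHom (LinearMap.range (E l)).subtype := by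
    rw [← ModuleCat.ofHom_comp]
    rfl
  rw [h3, Functor.map_comp]
  change ((localCohomology I i).map (ModuleCat.ofHom (LinearMap.range (E l)).subtype)).hom
    (((localCohomology I i).map (ModuleCat.ofHom (E l).rangeRestrict)).hom x) = 0
  rw [h l hl (((localCohomology I i).map (ModuleCat.ofHom (E l).rangeRestrict)).hom x), map_zero]

end LCgen

end Groth.Agent.Lib.T2H3.Seg
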