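import Groth.Agent.Lib.T2H3SegD
import Groth.Agent.Lib.T2H3GrIrrC

/-! Segre products of graded modules (helper3), part E: graded modules split into an `R_+`-torsion
part and finitely many parts on which homogeneous elements of a fixed positive degree act
bijectively (`Good`); for two such modules the Segre product has vanishing higher local cohomology
with respect to `T_+`, and its `T_+`-torsion is computed. -/

set_option autoImplicit false
set_option linter.unusedSectionVars false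
set_option linter.style.haveILetI false
open DirectSum
open scoped TensorProduct

noncomputable section

namespace Groth.Agent.Lib.T2H3.Seg

open Groth.Agent.Lib.T2H3.GrTr Groth.Agent.Lib Groth.Agent.Lib.LeadSP
  Groth.Agent.Lib.Helper29LCAcyclic

universe u

variable {k : Type u} [Field k] {R S T : Type u} [CommRing R] [CommRing S] [CommRing T]
  [Algebra k R] [Algebra k S] [Algebra k T]
  {𝒜 : ℤ → Submodule k R} [GradedAlgebra 𝒜] {ℬ : ℤ → Submodule k S} [GradedAlgebra ℬ]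
  {𝒯 : ℤ → Submodule k T} [GradedAlgebra 𝒯] {ψ : T →ₐ[k] R ⊗[k] S}

/-- Splitting data of a graded module: idempotents `e i` summing to the identity, the image of
`e 0` is torsion, and for `i ≠ 0` the element `x i`, homogeneous of degree `δ`, acts bijectively
on the image of `e i`, with inverse `ν i`. -/
structure Good (𝒜 : ℤ → Submodule k R) [GradedAlgebra 𝒜] (mR : HomogeneousIdeal 𝒜)
    {A : Type u} [AddCommGroup A] [Module R A] [Module k A] (𝓐 : ℤ → AddSubgroup A) (δ : ℤ) where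
  n : ℕ
  e : Fin (n + 1) → A →ₗ[R] A
  x : Fin (n + 1) → R
  ν : Fin (n + 1) → A →ₗ[k] A
  e_gr : ∀ i, GrLC.IsGrHom 𝓐 𝓐 (e i)
  sum_e : ∀ a, ∑ i, e i a = a
  e_e : ∀ i a, e i (e i a) = e i a
  e_tors : ∀ a, e 0 a ∈ GrLC.gam mR.toIdeal A
  x_mem : ∀ i, i ≠ 0 → x i ∈ 𝒜 δ
  ν_gr : ∀ i, i ≠ 0 → ∀ d a, a ∈ 𝓐 d → ν i a ∈ 𝓐 (d + -δ)
  x_ν : ∀ i, i ≠ 0 → ∀ a, x i • ν i a = e i a
  ν_x : ∀ i, i ≠ 0 → ∀ a, ν i (x i • a) = e i a
  e_ν : ∀ i, i ≠ 0 → ∀ a, e i (ν i a) = ν i a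

variable {A : Type u} [AddCommGroup A] [Module R A] [Module k A] [IsScalarTower k R A]
  {𝓐 : ℤ → AddSubgroup A} [DirectSum.Decomposition 𝓐] [SetLike.GradedSMul 𝒜 𝓐]
variable {B : Type u} [AddCommGroup B] [Module S B] [Module k B] [IsScalarTower k S B]
  {𝓑 : ℤ → AddSubgroup B} [DirectSum.Decomposition 𝓑] [SetLike.GradedSMul ℬ 𝓑]
variable (hT : GrSeg.IsSegreRing 𝒜 ℬ 𝒯 ψ)
variable {mR : HomogeneousIdeal 𝒜} {mS : HomogeneousIdeal ℬ} {δ : ℤ}
  (GA : Good 𝒜 mR 𝓐 δ) (GB : Good ℬ mS 𝓑 δ)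

/-- The endomorphisms `e i # e' j` of the Segre product. -/
def Eij (i : Fin (GA.n + 1)) (j : Fin (GB.n + 1)) : ↥(seg 𝓐 𝓑 hT) →ₗ[T] ↥(seg 𝓐 𝓑 hT) :=
  segMap 𝓐 𝓑 hT 𝓐 𝓑 (GA.e i) (GB.e j) (GA.e_gr i) (GB.e_gr j)

theorem sval_Eij (i : Fin (GA.n + 1)) (j : Fin (GB.n + 1)) (z : ↥(seg 𝓐 𝓑 hT)) :
    sval 𝓐 𝓑 hT (Eij hT GA GB i j z) =
      TensorProduct.map ((GA.e i).restrictScalars k) ((GB.e j).restrictScalars k)
        (sval 𝓐 𝓑 hT z) := rfl

theorem sum_map_e (w : A ⊗[k] B) :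
    ∑ p ∈ (Finset.univ : Finset (Fin (GA.n + 1) × Fin (GB.n + 1))),
      TensorProduct.map ((GA.e p.1).restrictScalars k) ((GB.e p.2).restrictScalars k) w = w := by
  induction w using TensorProduct.induction_on with
  | zero => simp
  | tmul a b =>
    simp only [TensorProduct.map_tmul, LinearMap.coe_restrictScalars]
    rw [← Finset.univ_product_univ, Finset.sum_product]
    simp_rw [← TensorProduct.tmul_sum, ← TensorProduct.sum_tmul]
    rw [GA.sum_e, GB.sum_e]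
  | add x y hx hy =>
    simp_rw [map_add]
    rw [Finset.sum_add_distrib, hx, hy]

theorem sum_Eij :
    ∑ p ∈ (Finset.univ : Finset (Fin (GA.n + 1) × Fin (GB.n + 1))), Eij hT GA GB p.1 p.2 =
      LinearMap.id := by
  apply LinearMap.ext
  intro z
  apply sval_injective 𝓐 𝓑 hT
  rw [LinearMap.sum_apply, map_sum, LinearMap.id_apply]
  exact sum_map_e GA GB (sval 𝓐 𝓑 hT z)

theorem Eij_Eij (i : Fin (GA.n + 1)) (j : Fin (GB.n + 1)) (z : ↥(seg 𝓐 𝓑 hT)) :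
    Eij hT GA GB i j (Eij hT GA GB i j z) = Eij hT GA GB i j z := by
  apply sval_injective 𝓐 𝓑 hT
  rw [sval_Eij, sval_Eij]
  generalize sval 𝓐 𝓑 hT z = w
  induction w using TensorProduct.induction_on with
  | zero => simp
  | tmul a b =>
    simp only [TensorProduct.map_tmul, LinearMap.coe_restrictScalars]
    rw [GA.e_e, GB.e_e]
  | add x y hx hy => rw [map_add, map_add, hx, hy]

include hT in
theorem exists_tij (i : Fin (GA.n + 1)) (hi : i ≠ 0) (j : Fin (GB.n + 1)) (hj : j ≠ 0) :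
    ∃ t ∈ 𝒯 δ, ψ t = GA.x i ⊗ₜ[k] GB.x j := by
  have h : GA.x i ⊗ₜ[k] GB.x j ∈ GrSeg.segrePiece k 𝒜 ℬ δ :=
    Submodule.subset_span ⟨GA.x i, GA.x_mem i hi, GB.x j, GB.x_mem j hj, rfl⟩
  rw [← hT.2 δ] at h
  obtain ⟨t, ht, htψ⟩ := h
  exact ⟨t, ht, htψ⟩

/-- The inverse of multiplication by `x i ⊗ y j` on the image of `e i # e' j`. -/
def Nij (i : Fin (GA.n + 1)) (hi : i ≠ 0) (j : Fin (GB.n + 1)) (hj : j ≠ 0) :
    ↥(seg 𝓐 𝓑 hT) →ₗ[k] ↥(seg 𝓐 𝓑 hT) :=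
  segMapK 𝓐 𝓑 hT 𝓐 𝓑 (GA.ν i) (GB.ν j) (-δ) (GA.ν_gr i hi) (GB.ν_gr j hj)

theorem Nij_smul (i : Fin (GA.n + 1)) (hi : i ≠ 0) (j : Fin (GB.n + 1)) (hj : j ≠ 0) {t : T}
    (ht : ψ t = GA.x i ⊗ₜ[k] GB.x j) (z : ↥(seg 𝓐 𝓑 hT)) :
    Nij hT GA GB i hi j hj (t • z) = Eij hT GA GB i j z := by
  apply sval_injective 𝓐 𝓑 hT
  rw [Nij, sval_segMapK, sval_smul, ht, sval_Eij]
  generalize sval 𝓐 𝓑 hT z = w
  induction w using TensorProduct.induction_on with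
  | zero => simp
  | tmul a b =>
    rw [GrSeg.act_tmul, TensorProduct.map_tmul, TensorProduct.map_tmul, GA.ν_x i hi, GB.ν_x j hj]
    rfl
  | add x y hx hy => rw [map_add, map_add, hx, hy, map_add]

theorem smul_Nij (i : Fin (GA.n + 1)) (hi : i ≠ 0) (j : Fin (GB.n + 1)) (hj : j ≠ 0) {t : T}
    (ht : ψ t = GA.x i ⊗ₜ[k] GB.x j) (z : ↥(seg 𝓐 𝓑 hT)) :
    t • Nij hT GA GB i hi j hj z = Eij hT GA GB i j z := by
  apply sval_injective 𝓐 𝓑 hT
  rw [sval_smul, Nij, sval_segMapK, ht, sval_Eij]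
  generalize sval 𝓐 𝓑 hT z = w
  induction w using TensorProduct.induction_on with
  | zero => simp
  | tmul a b =>
    rw [TensorProduct.map_tmul, GrSeg.act_tmul, TensorProduct.map_tmul, GA.x_ν i hi, GB.x_ν j hj]
    rfl
  | add x y hx hy => rw [map_add, map_add, hx, hy, map_add]

theorem Eij_Nij (i : Fin (GA.n + 1)) (hi : i ≠ 0) (j : Fin (GB.n + 1)) (hj : j ≠ 0)
    (z : ↥(seg 𝓐 𝓑 hT)) :
    Eij hT GA GB i j (Nij hT GA GB i hi j hj z) = Nij hT GA GB i hi j hj z := by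
  apply sval_injective 𝓐 𝓑 hT
  rw [sval_Eij, Nij, sval_segMapK]
  generalize sval 𝓐 𝓑 hT z = w
  induction w using TensorProduct.induction_on with
  | zero => simp
  | tmul a b =>
    rw [TensorProduct.map_tmul, TensorProduct.map_tmul]
    simp only [LinearMap.coe_restrictScalars]
    rw [GA.e_ν i hi, GB.e_ν j hj]
  | add x y hx hy => rw [map_add, map_add, hx, hy]

/-- Multiplication by `t` with `ψ t = x i ⊗ y j` is bijective on the image of `e i # e' j`. -/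
theorem smul_bijective_range (i : Fin (GA.n + 1)) (hi : i ≠ 0) (j : Fin (GB.n + 1)) (hj : j ≠ 0)
    {t : T} (ht : ψ t = GA.x i ⊗ₜ[k] GB.x j) :
    Function.Bijective (fun u : ↥(LinearMap.range (Eij hT GA GB i j)) => t • u) := by
  constructor
  · intro u v huv
    have h1 : t • (u : ↥(seg 𝓐 𝓑 hT)) = t • (v : ↥(seg 𝓐 𝓑 hT)) := congrArg Subtype.val huv
    obtain ⟨zu, hzu⟩ := u.2
    obtain ⟨zv, hzv⟩ := v.2
    have hu : Eij hT GA GB i j (u : ↥(seg 𝓐 𝓑 hT)) = u := by rw [← hzu, Eij_Eij]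
    have hv : Eij hT GA GB i j (v : ↥(seg 𝓐 𝓑 hT)) = v := by rw [← hzv, Eij_Eij]
    apply Subtype.ext
    rw [← hu, ← hv, ← Nij_smul hT GA GB i hi j hj ht, ← Nij_smul hT GA GB i hi j hj ht, h1]
  · intro u
    obtain ⟨zu, hzu⟩ := u.2
    have hu : Eij hT GA GB i j (u : ↥(seg 𝓐 𝓑 hT)) = u := by rw [← hzu, Eij_Eij]
    refine ⟨⟨Nij hT GA GB i hi j hj u, ⟨_, Eij_Nij hT GA GB i hi j hj u⟩⟩, ?_⟩
    apply Subtype.ext
    change t • Nij hT GA GB i hi j hj (u : ↥(seg 𝓐 𝓑 hT)) = u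
    rw [smul_Nij hT GA GB i hi j hj ht, hu]

section Vanish

variable [IsNoetherianRing R] [IsNoetherianRing S] [IsNoetherianRing T]
  (hposT : ∀ n : ℤ, n < 0 → 𝒯 n = ⊥)
  (mT : HomogeneousIdeal 𝒯) (hmT : mT.toIdeal = LeadSeg.irr 𝒯)
  (hirrR : ∀ n : ℤ, 0 < n → ∀ r ∈ 𝒜 n, r ∈ mR.toIdeal)
  (hirrS : ∀ n : ℤ, 0 < n → ∀ s ∈ ℬ n, s ∈ mS.toIdeal)

theorem mem_gam_subtype {T' : Type u} [CommRing T'] (I : Ideal T') {M : Type u} [AddCommGroup M]
    [Module T' M] (Q : Submodule T' M) (q : ↥Q) (h : (q : M) ∈ GrLC.gam I M) :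
    q ∈ GrLC.gam I ↥Q := by
  obtain ⟨n, hn⟩ := h
  exact ⟨n, fun r hr => Subtype.ext (hn r hr)⟩

theorem coe_mem_gam_of_mem {T' : Type u} [CommRing T'] (I : Ideal T') {M : Type u}
    [AddCommGroup M] [Module T' M] (Q : Submodule T' M) (q : ↥Q) (h : q ∈ GrLC.gam I ↥Q) :
    (q : M) ∈ GrLC.gam I M := by
  obtain ⟨n, hn⟩ := h
  exact ⟨n, fun r hr => congrArg Subtype.val (hn r hr)⟩

include hT hposT hmT hirrR in
theorem map_mem_gam_left (f : A →ₗ[k] A) (hf : ∀ a, f a ∈ GrLC.gam mR.toIdeal A) (g : B →ₗ[k] B)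
    (w : A ⊗[k] B) : toTW ψ A B (TensorProduct.map f g w) ∈ GrLC.gam mT.toIdeal (TW ψ A B) := by
  induction w using TensorProduct.induction_on with
  | zero => rw [map_zero, map_zero]; exact zero_mem _
  | tmul a b =>
    rw [TensorProduct.map_tmul]
    exact tmul_mem_gam_left hT hposT mT hmT mR hirrR (hf a) (g b)
  | add x y hx hy => rw [map_add, map_add]; exact add_mem hx hy

include hT hposT hmT hirrS in
theorem map_mem_gam_right (f : A →ₗ[k] A) (g : B →ₗ[k] B) (hg : ∀ b, g b ∈ GrLC.gam mS.toIdeal B)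
    (w : A ⊗[k] B) : toTW ψ A B (TensorProduct.map f g w) ∈ GrLC.gam mT.toIdeal (TW ψ A B) := by
  induction w using TensorProduct.induction_on with
  | zero => rw [map_zero, map_zero]; exact zero_mem _
  | tmul a b =>
    rw [TensorProduct.map_tmul]
    exact tmul_mem_gam_right hT hposT mT hmT mS hirrS (f a) (hg b)
  | add x y hx hy => rw [map_add, map_add]; exact add_mem hx hy

include hposT hmT hirrR in
theorem Eij_zero_left_mem_gam (j : Fin (GB.n + 1)) (z : ↥(seg 𝓐 𝓑 hT)) :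
    Eij hT GA GB 0 j z ∈ GrLC.gam mT.toIdeal ↥(seg 𝓐 𝓑 hT) := by
  apply mem_gam_subtype
  exact map_mem_gam_left hT hposT mT hmT hirrR ((GA.e 0).restrictScalars k) GA.e_tors
    ((GB.e j).restrictScalars k) (sval 𝓐 𝓑 hT z)

include hposT hmT hirrS in
theorem Eij_zero_right_mem_gam (i : Fin (GA.n + 1)) (z : ↥(seg 𝓐 𝓑 hT)) :
    Eij hT GA GB i 0 z ∈ GrLC.gam mT.toIdeal ↥(seg 𝓐 𝓑 hT) := by
  apply mem_gam_subtype
  exact map_mem_gam_right hT hposT mT hmT hirrS ((GA.e i).restrictScalars k)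
    ((GB.e 0).restrictScalars k) GB.e_tors (sval 𝓐 𝓑 hT z)

include hT GA GB hposT hmT hirrR hirrS in
/-- The Segre product of two split modules is acyclic for `Γ_{T_+}`. -/
theorem LC_seg_eq_zero (hδ : 0 < δ) (n : ℕ) (x : LC mT.toIdeal (n + 1) ↥(seg 𝓐 𝓑 hT)) : x = 0 := by
  refine LC_eq_zero_of_sum mT.toIdeal (n + 1)
    (Finset.univ : Finset (Fin (GA.n + 1) × Fin (GB.n + 1)))
    (fun p => Eij hT GA GB p.1 p.2) (sum_Eij hT GA GB) (fun p _ y => ?_) x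
  by_cases h1 : p.1 = 0
  · refine Groth.Agent.Lib.Helper8.LC.H_succ_eq_zero_of_torsion mT.toIdeal n _ ?_ y
    rw [eq_top_iff]
    rintro ⟨u, z, rfl⟩ -
    apply mem_gam_subtype
    rw [h1]
    exact Eij_zero_left_mem_gam hT GA GB hposT mT hmT hirrR p.2 z
  by_cases h2 : p.2 = 0
  · refine Groth.Agent.Lib.Helper8.LC.H_succ_eq_zero_of_torsion mT.toIdeal n _ ?_ y
    rw [eq_top_iff]
    rintro ⟨u, z, rfl⟩ -
    apply mem_gam_subtype
    rw [h2]
    exact Eij_zero_right_mem_gam hT GA GB hposT mT hmT hirrS p.1 z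
  · obtain ⟨t, ht, htψ⟩ := exists_tij hT GA GB p.1 h1 p.2 h2
    refine LC_eq_zero_of_bijective mT.toIdeal (n + 1) t ?_
      (smul_bijective_range hT GA GB p.1 h1 p.2 h2 htψ) y
    rw [hmT]
    exact mem_irr_of_mem 𝒯 hδ ht

end Vanish

end Groth.Agent.Lib.T2H3.Seg
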