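import Groth.Agent.Lib.T2H3SegG
import Groth.Agent.Lib.T2H3SegC
import Groth.Agent.Lib.Helper29Cone
import Groth.Agent.Lib.Helper29GrCompare
import Groth.Agent.Lib.T2H3GrTransferB
import Groth.Agent.S13217

/-! Segre products of graded modules (helper3), part H: the Segre product of a *injective
resolution of `M` with a module `N` on which an element of positive degree acts bijectively is an
acyclic resolution of `M # N`; comparison with a *injective resolution over `T`. -/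

set_option autoImplicit false
set_option linter.unusedSectionVars false
set_option linter.style.haveILetI false
open DirectSum
open scoped TensorProduct

noncomputable section

namespace Groth.Agent.Lib.T2H3.Seg

open Groth.Agent.Lib.T2H3.GrTr Groth.Agent.Lib Groth.Agent.Lib.LeadSP
  Groth.Agent.Lib.Helper29LCAcyclic GrLC

universe u

variable {k : Type u} [Field k] {R S T : Type u} [CommRing R] [CommRing S] [CommRing T]
  [Algebra k R] [Algebra k S] [Algebra k T]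
  {𝒜 : ℤ → Submodule k R} [GradedAlgebra 𝒜] {ℬ : ℤ → Submodule k S} [GradedAlgebra ℬ]
  {𝒯 : ℤ → Submodule k T} [GradedAlgebra 𝒯] {ψ : T →ₐ[k] R ⊗[k] S}
  [IsNoetherianRing R] [IsNoetherianRing S] [IsNoetherianRing T]
variable {M : Type u} [AddCommGroup M] [Module R M] [Module k M] [IsScalarTower k R M]
  {ℳ : ℤ → AddSubgroup M} [DirectSum.Decomposition ℳ] [SetLike.GradedSMul 𝒜 ℳ]
variable {N : Type u} [AddCommGroup N] [Module S N] [Module k N] [IsScalarTower k S N]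
  (𝒩 : ℤ → AddSubgroup N) [DirectSum.Decomposition 𝒩] [SetLike.GradedSMul ℬ 𝒩]
variable {P : Type u} [AddCommGroup P] [Module T P] [Module k P] [IsScalarTower k T P]
  {𝒬 : ℤ → AddSubgroup P} [DirectSum.Decomposition 𝒬] [SetLike.GradedSMul 𝒯 𝒬]
variable (EM : StarInjRes 𝒜 ℳ) [∀ n, Module k (EM.X n).carrier]
  [∀ n, IsScalarTower k R (EM.X n).carrier]
variable (EP : StarInjRes 𝒯 𝒬)
variable (φ : P →ₗ[k] M ⊗[k] N) (mR : HomogeneousIdeal 𝒜) (mS : HomogeneousIdeal ℬ)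
  (mT : HomogeneousIdeal 𝒯) (δ : ℤ)

/-- The data of the comparison `H_{T_+}(M # N) = H_{R_+}(M) # N`. -/
structure KSetup where
  hT : GrSeg.IsSegreRing 𝒜 ℬ 𝒯 ψ
  hP : GrSeg.IsSegreMod ψ ℳ 𝒩 𝒬 φ
  hposT : ∀ n : ℤ, n < 0 → 𝒯 n = ⊥
  hmT : mT.toIdeal = LeadSeg.irr 𝒯
  hirrR : ∀ n : ℤ, 0 < n → ∀ r ∈ 𝒜 n, r ∈ mR.toIdeal
  hirrS : ∀ n : ℤ, 0 < n → ∀ s ∈ ℬ n, s ∈ mS.toIdeal
  hδ : 0 < δ
  GA : ∀ n, Good 𝒜 mR (EM.X n).gr δ
  GB : Good ℬ mS 𝒩 δ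
  hΓN : ∀ b ∈ gam mS.toIdeal N, b = 0

namespace KSetup

variable {𝒩 EM EP φ mR mS mT δ} (K : KSetup (ψ := ψ) (𝒬 := 𝒬) 𝒩 EM φ mR mS mT δ)

/-- The terms `E^n # N`. -/
abbrev X (n : ℕ) : Type u := ↥(seg (EM.X n).gr 𝒩 K.hT)

/-- The same, bundled. -/
abbrev XG (n : ℕ) : GMod.{u} (asGr 𝒯) := segG (EM.X n).gr 𝒩 K.hT

/-- The differentials. -/
abbrev dX (n : ℕ) : K.X n →ₗ[T] K.X (n + 1) :=
  segMap (EM.X n).gr 𝒩 K.hT (EM.X (n + 1)).gr 𝒩 (EM.d n) LinearMap.id (EM.d_grHom n)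
    (isGrHom_id 𝒩)

/-- The augmentation. -/
def εX : P →ₗ[T] K.X 0 :=
  segMap ℳ 𝒩 K.hT (EM.X 0).gr 𝒩 EM.ε LinearMap.id EM.ε_grHom (isGrHom_id 𝒩) ∘ₗ
    pIso ℳ 𝒩 K.hT 𝒬 φ K.hP

theorem dX_isGrHom (n : ℕ) : IsGrHom (K.XG n).gr (K.XG (n + 1)).gr (K.dX n) :=
  segMap_isGrHom (EM.X n).gr 𝒩 K.hT (EM.X (n + 1)).gr 𝒩 (EM.d n) LinearMap.id (EM.d_grHom n)
    (isGrHom_id 𝒩)

theorem εX_isGrHom : IsGrHom (asGr 𝒬) (K.XG 0).gr K.εX := by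
  intro d p hp
  exact segMap_isGrHom ℳ 𝒩 K.hT (EM.X 0).gr 𝒩 EM.ε LinearMap.id EM.ε_grHom (isGrHom_id 𝒩) d _
    (pIso_mem ℳ 𝒩 K.hT 𝒬 φ K.hP hp)

theorem εX_injective : Function.Injective K.εX :=
  (segMap_injective ℳ 𝒩 (EM.X 0).gr 𝒩 K.hT EM.ε LinearMap.id EM.ε_grHom (isGrHom_id 𝒩)
    EM.ε_injective (fun _ _ h => h)).comp (pIso_injective ℳ 𝒩 K.hT 𝒬 φ K.hP)

theorem exact_succ (n : ℕ) : LinearMap.ker (K.dX (n + 1)) = LinearMap.range (K.dX n) :=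
  segMap_exact_left (EM.X n).gr 𝒩 (EM.X (n + 1)).gr K.hT (EM.X (n + 1 + 1)).gr (EM.d n)
    (EM.d (n + 1)) (EM.d_grHom n) (EM.d_grHom (n + 1)) (EM.exact_succ n)

theorem exact_zero : LinearMap.ker (K.dX 0) = LinearMap.range K.εX := by
  have h1 := segMap_exact_left ℳ 𝒩 (EM.X 0).gr K.hT (EM.X 1).gr EM.ε (EM.d 0) EM.ε_grHom
    (EM.d_grHom 0) EM.exact_zero
  rw [h1]
  apply le_antisymm
  · rintro _ ⟨y, rfl⟩
    obtain ⟨p, rfl⟩ := pIso_surjective ℳ 𝒩 K.hT 𝒬 φ K.hP y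
    exact ⟨p, rfl⟩
  · rintro _ ⟨p, rfl⟩
    exact ⟨_, rfl⟩

theorem hacycX (n j : ℕ) (x : LC mT.toIdeal (j + 1) (K.X n)) : x = 0 :=
  LC_seg_eq_zero K.hT (K.GA n) K.GB K.hposT mT K.hmT K.hirrR K.hirrS K.hδ j x

theorem hacycF (n j : ℕ) (x : LC mT.toIdeal (j + 1) (EP.X n).carrier) : x = 0 := by
  have h := Groth.Agent.S13217.result T (asGr 𝒯) (hiTo 𝒯 mT) (EP.X n).carrier (EP.X n).gr
    (isStarInj_asGr 𝒯 (EP.X n).gr (EP.starInj n)) (j + 1) (Nat.le_add_left 1 j)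
  exact @Subsingleton.elim _ h _ _

theorem exists_theta : ∃ θ : ∀ n, K.X n →ₗ[T] (EP.X n).carrier,
    (∀ n, IsGrHom (K.XG n).gr (EP.X n).gr (θ n)) ∧ (∀ y : P, θ 0 (K.εX y) = EP.ε y) ∧
    ∀ (n : ℕ) (x : K.X n), θ (n + 1) (K.dX n x) = EP.d n (θ n x) :=
  Groth.Agent.Lib.Helper29GrCompare.exists_comparison (asGr 𝒯) (asGr 𝒬) K.XG K.dX K.εX
    K.dX_isGrHom K.εX_isGrHom K.exact_zero K.exact_succ (resTo 𝒯 𝒬 EP) K.εX_injective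

end KSetup

end Groth.Agent.Lib.T2H3.Seg
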