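import Groth.Agent.Lib.T2H3SegH

/-! Segre products of graded modules (helper3), part I: linear algebra over a field used in the
computation of the cohomology of `Γ_{T_+}(E^• # N)`, and refinements of earlier lemmas. -/

set_option autoImplicit false
set_option linter.unusedSectionVars false
set_option linter.style.haveILetI false
open DirectSum
open scoped TensorProduct

noncomputable section

namespace Groth.Agent.Lib.T2H3.Seg

open Groth.Agent.Lib.T2H3.GrTr Groth.Agent.Lib Groth.Agent.Lib.LeadSP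
  Groth.Agent.Lib.Helper29LCAcyclic GrLC

universe u

section Lin

variable {k : Type u} [Field k]
variable {V W U : Type u} [AddCommGroup V] [Module k V] [AddCommGroup W] [Module k W]
  [AddCommGroup U] [Module k U]

/-- Over a field, a map killing the kernel of `f` factors through `f`. -/
theorem exists_factor (f : V →ₗ[k] W) (g : V →ₗ[k] U)
    (h : LinearMap.ker f ≤ LinearMap.ker g) : ∃ l : W →ₗ[k] U, l ∘ₗ f = g := by
  let g' : ↥(LinearMap.range f) →ₗ[k] U :=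
    (LinearMap.ker f).liftQ g h ∘ₗ f.quotKerEquivRange.symm.toLinearMap
  obtain ⟨l, hl⟩ := LinearMap.exists_extend g'
  refine ⟨l, LinearMap.ext fun v => ?_⟩
  have h1 := LinearMap.congr_fun hl ⟨f v, LinearMap.mem_range_self f v⟩
  rw [LinearMap.comp_apply]
  change l (f v) = g' ⟨f v, _⟩ at h1
  rw [h1]
  change (LinearMap.ker f).liftQ g h (f.quotKerEquivRange.symm ⟨f v, _⟩) = g v
  rw [LinearMap.quotKerEquivRange_symm_apply_image]
  rfl

/-- Over a field, a map whose range lies in the range of `f` lifts through `f`. -/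
theorem exists_lift_of_range_le (f : U →ₗ[k] W) (g : V →ₗ[k] W)
    (h : LinearMap.range g ≤ LinearMap.range f) : ∃ σ : V →ₗ[k] U, f ∘ₗ σ = g := by
  let g' : V →ₗ[k] ↥(LinearMap.range f) :=
    LinearMap.codRestrict (LinearMap.range f) g (fun v => h (LinearMap.mem_range_self g v))
  obtain ⟨σ, hσ⟩ := Module.projective_lifting_property f.rangeRestrict g'
    f.surjective_rangeRestrict
  refine ⟨σ, LinearMap.ext fun v => ?_⟩
  have h1 := LinearMap.congr_fun hσ v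
  exact congrArg Subtype.val h1

variable {N : Type u} [AddCommGroup N] [Module k N]

/-- An element of `V ⊗ N` killed by `f ⊗ 1` comes from `ker f ⊗ N`. -/
theorem mem_range_of_rTensor_eq_zero (f : V →ₗ[k] W) (u : V ⊗[k] N)
    (hu : LinearMap.rTensor N f u = 0) :
    u ∈ LinearMap.range (LinearMap.rTensor N (LinearMap.ker f).subtype) := by
  have h := Module.Flat.rTensor_exact N (LinearMap.exact_subtype_ker_map f)
  exact (h u).mp hu

variable {C W₁ W₂ : Type u} [AddCommGroup C] [Module k C] [AddCommGroup W₁] [Module k W₁]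
  [AddCommGroup W₂] [Module k W₂]

/-- If `u ∈ V ⊗ N` is killed by `f₁ ⊗ 1` and `f₂ ⊗ 1` and `ker f₁ ∩ ker f₂` is contained in the
image of `ι : C → V`, which has the retraction `ρ`, then `u` is fixed by `ιρ ⊗ 1`. -/
theorem rTensor_retract_eq (ι : C →ₗ[k] V) (ρ : V →ₗ[k] C) (hρ : ∀ c, ρ (ι c) = c)
    (f₁ : V →ₗ[k] W₁) (f₂ : V →ₗ[k] W₂)
    (hker : ∀ a, f₁ a = 0 → f₂ a = 0 → a ∈ LinearMap.range ι) (u : V ⊗[k] N)
    (h₁ : LinearMap.rTensor N f₁ u = 0) (h₂ : LinearMap.rTensor N f₂ u = 0) :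
    LinearMap.rTensor N (ι ∘ₗ ρ) u = u := by
  let f : V →ₗ[k] W₁ × W₂ := LinearMap.prod f₁ f₂
  let g : V →ₗ[k] V := LinearMap.id - ι ∘ₗ ρ
  have hkg : LinearMap.ker f ≤ LinearMap.ker g := by
    intro a ha
    have ha' : (f₁ a, f₂ a) = (0, 0) := ha
    rw [Prod.mk.injEq] at ha'
    obtain ⟨c, rfl⟩ := hker a ha'.1 ha'.2
    change ι c - ι (ρ (ι c)) = 0
    rw [hρ, sub_self]
  obtain ⟨l, hl⟩ := exists_factor f g hkg
  have hf : f = LinearMap.inl k W₁ W₂ ∘ₗ f₁ + LinearMap.inr k W₁ W₂ ∘ₗ f₂ := by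
    apply LinearMap.ext
    intro a
    simp [f]
  have h3 : LinearMap.rTensor N g u = 0 := by
    rw [← hl, LinearMap.rTensor_comp_apply, hf, LinearMap.rTensor_add, LinearMap.add_apply,
      LinearMap.rTensor_comp_apply, LinearMap.rTensor_comp_apply, h₁, h₂, map_zero, map_zero,
      add_zero, map_zero]
  have h4 : LinearMap.rTensor N g u = u - LinearMap.rTensor N (ι ∘ₗ ρ) u := by
    change LinearMap.rTensor N (LinearMap.id - ι ∘ₗ ρ) u = _
    rw [LinearMap.rTensor_sub, LinearMap.sub_apply, LinearMap.rTensor_id, LinearMap.id_apply]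
  rw [h4, sub_eq_zero] at h3
  exact h3.symm

end Lin

section Refine

variable {k : Type u} [Field k] {R S T : Type u} [CommRing R] [CommRing S] [CommRing T]
  [Algebra k R] [Algebra k S] [Algebra k T]
  {𝒜 : ℤ → Submodule k R} [GradedAlgebra 𝒜] {ℬ : ℤ → Submodule k S} [GradedAlgebra ℬ]
  {𝒯 : ℤ → Submodule k T} [GradedAlgebra 𝒯] {ψ : T →ₐ[k] R ⊗[k] S}
variable {A : Type u} [AddCommGroup A] [Module R A] [Module k A] [IsScalarTower k R A]
  (𝓐 : ℤ → AddSubgroup A) [DirectSum.Decomposition 𝓐] [SetLike.GradedSMul 𝒜 𝓐]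
variable {B : Type u} [AddCommGroup B] [Module S B] [Module k B] [IsScalarTower k S B]
  (𝓑 : ℤ → AddSubgroup B) [DirectSum.Decomposition 𝓑] [SetLike.GradedSMul ℬ 𝓑]
variable {A' : Type u} [AddCommGroup A'] [Module R A'] [Module k A'] [IsScalarTower k R A']
  (𝓐' : ℤ → AddSubgroup A') [DirectSum.Decomposition 𝓐'] [SetLike.GradedSMul 𝒜 𝓐']
variable {B' : Type u} [AddCommGroup B'] [Module S B'] [Module k B'] [IsScalarTower k S B']
  (𝓑' : ℤ → AddSubgroup B') [DirectSum.Decomposition 𝓑'] [SetLike.GradedSMul ℬ 𝓑']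
variable (hT : GrSeg.IsSegreRing 𝒜 ℬ 𝒯 ψ)

/-- A preimage in the Segre product, with its explicit form. -/
theorem exists_seg_preimage' (f : A →ₗ[k] A') (g : B →ₗ[k] B')
    (hf : ∀ d a, a ∈ 𝓐 d → f a ∈ 𝓐' d) (hg : ∀ d b, b ∈ 𝓑 d → g b ∈ 𝓑' d)
    (z : ↥(seg 𝓐' 𝓑' hT)) (v : A ⊗[k] B) (hv : TensorProduct.map f g v = sval 𝓐' 𝓑' hT z) :
    ∃ (y : ↥(seg 𝓐 𝓑 hT)) (s : Finset ℤ),
      TensorProduct.map f g (sval 𝓐 𝓑 hT y) = sval 𝓐' 𝓑' hT z ∧
        sval 𝓐 𝓑 hT y = ∑ d ∈ s, pd 𝒜 ℬ 𝓐 𝓑 d v := by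
  classical
  obtain ⟨s, hs⟩ := exists_finset_sum_pd 𝓐' 𝓑' hT z
  have hmem : ∑ d ∈ s, pd 𝒜 ℬ 𝓐 𝓑 d v ∈ segK 𝓐 𝓑 :=
    Submodule.sum_mem _ fun d _ => piece_le_segK 𝓐 𝓑 d (pd_mem 𝒜 ℬ 𝓐 𝓑 d v)
  refine ⟨smk 𝓐 𝓑 hT _ hmem, s, ?_, sval_smk 𝓐 𝓑 hT _ hmem⟩
  rw [sval_smk, map_sum, hs]
  refine Finset.sum_congr rfl fun d _ => ?_
  rw [← pd_map 𝓐 𝓑 𝓐' 𝓑' f g hf hg, hv]

variable {mR : HomogeneousIdeal 𝒜} [IsNoetherianRing R] [IsNoetherianRing T]
  (hposT : ∀ n : ℤ, n < 0 → 𝒯 n = ⊥)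
  (mT : HomogeneousIdeal 𝒯) (hmT : mT.toIdeal = LeadSeg.irr 𝒯)
  (hirrR : ∀ n : ℤ, 0 < n → ∀ r ∈ 𝒜 n, r ∈ mR.toIdeal)

include hT hposT hmT hirrR in
theorem map_mem_gam_left' {A₀ B₀ : Type u} [AddCommGroup A₀] [Module k A₀] [AddCommGroup B₀]
    [Module k B₀] (f : A₀ →ₗ[k] A) (hf : ∀ a, f a ∈ gam mR.toIdeal A) (g : B₀ →ₗ[k] B)
    (w : A₀ ⊗[k] B₀) : toTW ψ A B (TensorProduct.map f g w) ∈ gam mT.toIdeal (TW ψ A B) := by
  induction w using TensorProduct.induction_on with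
  | zero => rw [map_zero, map_zero]; exact zero_mem _
  | tmul a b =>
    rw [TensorProduct.map_tmul]
    exact tmul_mem_gam_left hT hposT mT hmT mR hirrR (hf a) (g b)
  | add x y hx hy => rw [map_add, map_add]; exact add_mem hx hy

end Refine

end Groth.Agent.Lib.T2H3.Seg
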