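import Groth.Agent.Lib.T2H3SegI
import Groth.Agent.Lib.T2H3GrLesF

/-! Segre products of graded modules (helper3), part J: the comparison maps from the cocycles of
`Γ_{T_+}(E^• # N)` to `H_{T_+}(M # N)` and to `H_{R_+}(M) ⊗ N`. -/

set_option autoImplicit false
set_option linter.unusedSectionVars false
set_option linter.style.haveILetI false
open DirectSum
open scoped TensorProduct

noncomputable section

namespace Groth.Agent.Lib.T2H3.Seg

open Groth.Agent.Lib.T2H3.GrTr Groth.Agent.Lib Groth.Agent.Lib.LeadSP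
  Groth.Agent.Lib.Helper29LCAcyclic GrLC Groth.Agent.Lib.Helper29GrHom
  Groth.Agent.Lib.Helper29GrGam Groth.Agent.Lib.T2H3.GrLes

universe u

variable {k : Type u} [Field k] {R S T : Type u} [CommRing R] [CommRing S] [CommRing T]
  [Algebra k R] [Algebra k S] [Algebra k T]
  {𝒜 : ℤ → Submodule k R} [GradedAlgebra 𝒜] {ℬ : ℤ → Submodule k S} [GradedAlgebra ℬ]
  {𝒯 : ℤ → Submodule k T} [GradedAlgebra 𝒯] {ψ : T →ₐ[k] R ⊗[k] S}
  [IsNoetherianRing R] [IsNoetherianRing S] [IsNoetherianRing T]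
variable {M : Type u} [AddCommGroup M] [Module R M] [Module k M] [IsScalarTower k R M]
  {ℳ : ℤ → AddSubgroup M} [DirectSum.Decomposition ℳ] [SetLike.GradedSMul 𝒜 ℳ]
variable {N : Type u} [AddCommGroup N] [Module S N] [Module k N] [IsScalarTower k S N]
  {𝒩 : ℤ → AddSubgroup N} [DirectSum.Decomposition 𝒩] [SetLike.GradedSMul ℬ 𝒩]
variable {P : Type u} [AddCommGroup P] [Module T P] [Module k P] [IsScalarTower k T P]
  {𝒬 : ℤ → AddSubgroup P} [DirectSum.Decomposition 𝒬] [SetLike.GradedSMul 𝒯 𝒬]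
variable {EM : StarInjRes 𝒜 ℳ} [∀ n, Module k (EM.X n).carrier]
  [∀ n, IsScalarTower k R (EM.X n).carrier]
variable (EP : StarInjRes 𝒯 𝒬)
variable {φ : P →ₗ[k] M ⊗[k] N} {mR : HomogeneousIdeal 𝒜} {mS : HomogeneousIdeal ℬ}
  {mT : HomogeneousIdeal 𝒯} {δ : ℤ}

section General

variable {σ : Type u} {R' : Type u} [CommRing R'] [SetLike σ R'] [AddSubgroupClass σ R']
  {𝒜' : ℤ → σ} [GradedRing 𝒜'] {M' : Type u} [AddCommGroup M'] [Module R' M']
  {ℳ' : ℤ → AddSubgroup M'} [DirectSum.Decomposition ℳ'] [SetLike.GradedSMul 𝒜' ℳ']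
  (E : StarInjRes 𝒜' ℳ') (a : HomogeneousIdeal 𝒜') (i : ℕ)

theorem toH_eq_zero_iff' (z : ↥(E.cocyc a i)) :
    E.toH a i z = 0 ↔ (z : (E.X i).carrier) ∈ E.cobdy a i := by
  change Submodule.Quotient.mk z = 0 ↔ _
  rw [Submodule.Quotient.mk_eq_zero, Submodule.mem_comap]
  rfl

theorem hcob (q : ℕ) : Groth.Agent.Lib.Helper29Cone.cobdy a.toIdeal
    (fun n => (E.X n).carrier) E.d q = E.cobdy a q := by
  cases q <;> rfl

end General

namespace KSetup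

variable (K : KSetup (ψ := ψ) (𝒬 := 𝒬) 𝒩 EM φ mR mS mT δ)

/-- The cocycles of `Γ_{T_+}(E^• # N)`. -/
def ZX (q : ℕ) : Submodule T (K.X q) := gam mT.toIdeal (K.X q) ⊓ LinearMap.ker (K.dX q)

theorem mem_ZX {q : ℕ} {z : K.X q} :
    z ∈ K.ZX q ↔ z ∈ gam mT.toIdeal (K.X q) ∧ K.dX q z = 0 := Iff.rfl

/-- The coboundaries of `Γ_{T_+}(E^• # N)`. -/
abbrev cobX (q : ℕ) : Submodule T (K.X q) :=
  Groth.Agent.Lib.Helper29Cone.cobdy mT.toIdeal K.X K.dX q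

/-- The homogeneous component of degree `j`. -/
def compX (q : ℕ) (j : ℤ) (x : K.X q) : K.X q :=
  ((decompose (K.XG q).gr x) j : (K.XG q).carrier)

theorem compX_mem_gr (q : ℕ) (j : ℤ) (x : K.X q) : K.compX q j x ∈ (K.XG q).gr j :=
  SetLike.coe_mem ((decompose (K.XG q).gr x) j)

theorem compX_mem_gam (q : ℕ) (j : ℤ) {x : K.X q} (hx : x ∈ gam mT.toIdeal (K.X q)) :
    K.compX q j x ∈ gam mT.toIdeal (K.X q) :=
  gam_isHomogeneous (asGr 𝒯) (K.XG q).gr (hiTo 𝒯 mT) j hx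

theorem dX_compX (q : ℕ) (j : ℤ) (x : K.X q) :
    K.dX q (K.compX q j x) = K.compX (q + 1) j (K.dX q x) :=
  (decompose_map (K.XG (q + 1)).gr (K.XG q).gr (K.dX q) (K.dX_isGrHom q) x j).symm

theorem compX_zero (q : ℕ) (j : ℤ) : K.compX q j 0 = 0 := by
  have h : decompose (K.XG q).gr (0 : (K.XG q).carrier) = 0 := DirectSum.decompose_zero _
  change ((decompose (K.XG q).gr (0 : (K.XG q).carrier)) j : (K.XG q).carrier) = 0
  rw [h]
  rfl

theorem compX_mem_ZX (q : ℕ) (j : ℤ) {x : K.X q} (hx : x ∈ K.ZX q) : K.compX q j x ∈ K.ZX q := by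
  refine ⟨K.compX_mem_gam q j hx.1, ?_⟩
  change K.dX q (K.compX q j x) = 0
  rw [K.dX_compX, LinearMap.mem_ker.mp hx.2, K.compX_zero]

variable (θ : ∀ n, K.X n →ₗ[T] (EP.X n).carrier)
  (hθgr : ∀ n, IsGrHom (K.XG n).gr (EP.X n).gr (θ n))
  (hθ0 : ∀ y : P, θ 0 (K.εX y) = EP.ε y)
  (hθ : ∀ (n : ℕ) (x : K.X n), θ (n + 1) (K.dX n x) = EP.d n (θ n x))

include hθgr in
theorem theta_compX (q : ℕ) (j : ℤ) (x : K.X q) :
    θ q (K.compX q j x) = ((decompose (EP.X q).gr (θ q x)) j : (EP.X q).carrier) :=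
  (decompose_map (EP.X q).gr (K.XG q).gr (θ q) (hθgr q) x j).symm

include hθ in
theorem theta_cocyc {q : ℕ} {z : K.X q} (hz : z ∈ K.ZX q) : θ q z ∈ EP.cocyc mT q := by
  refine Submodule.mem_inf.mpr ⟨gam_map mT.toIdeal (θ q) hz.1, ?_⟩
  rw [LinearMap.mem_ker, ← hθ q z, LinearMap.mem_ker.mp hz.2, map_zero]

/-- The class map to `H^q_{T_+}(M # N)`. -/
def c1 (q : ℕ) : ↥(K.ZX q) →ₗ[T] EP.H mT q :=
  EP.toH mT q ∘ₗ LinearMap.codRestrict (EP.cocyc mT q) (θ q ∘ₗ (K.ZX q).subtype)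
    (fun z => K.theta_cocyc EP θ hθ z.2)

theorem c1_apply (q : ℕ) (z : ↥(K.ZX q)) :
    K.c1 EP θ hθ q z = EP.toH mT q ⟨θ q z, K.theta_cocyc EP θ hθ z.2⟩ := rfl

include hθ0 hθ in
theorem exists_c1_eq (q : ℕ) (w : ↥(EP.cocyc mT q)) :
    ∃ x : ↥(K.ZX q), (w : (EP.X q).carrier) - θ q x ∈ EP.cobdy mT q := by
  obtain ⟨x, hx1, hx2, hx3⟩ := Groth.Agent.Lib.Helper29Cone.comparison_surj mT.toIdeal K.X K.dX
    K.εX K.exact_succ K.exact_zero K.hacycX (fun n => (EP.X n).carrier) EP.d EP.ε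
    EP.exact_succ EP.ε_injective EP.exact_zero (fun n j x => KSetup.hacycF (EP := EP) (mT := mT) n j x) θ hθ0 hθ q
    (w : (EP.X q).carrier) (Submodule.mem_inf.mp w.2).1 (Submodule.mem_inf.mp w.2).2
  rw [hcob] at hx3
  exact ⟨⟨x, hx1, hx2⟩, hx3⟩

include hθ0 in
theorem c1_surjective (q : ℕ) : Function.Surjective (K.c1 EP θ hθ q) := by
  intro h
  obtain ⟨w, rfl⟩ := Submodule.mkQ_surjective _ h
  obtain ⟨x, hx⟩ := K.exists_c1_eq EP θ hθ0 hθ q w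
  refine ⟨x, ?_⟩
  rw [c1_apply]
  symm
  rw [← sub_eq_zero, ← map_sub]
  change EP.toH mT q _ = 0
  rw [toH_eq_zero_iff']
  exact hx

include hθ in
theorem theta_mem_of_mem_cobX (q : ℕ) {z : K.X q} (h : z ∈ K.cobX q) :
    θ q z ∈ EP.cobdy mT q := by
  cases q with
  | zero =>
    have h0 : z = 0 := (Submodule.mem_bot T).mp h
    rw [h0, map_zero]
    exact zero_mem _
  | succ n =>
    obtain ⟨w, hw, rfl⟩ := h
    exact ⟨θ n w, gam_map mT.toIdeal (θ n) hw, (hθ n w).symm⟩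

include hθ0 in
theorem c1_eq_zero_iff (q : ℕ) (z : ↥(K.ZX q)) :
    K.c1 EP θ hθ q z = 0 ↔ (z : K.X q) ∈ K.cobX q := by
  rw [c1_apply, toH_eq_zero_iff']
  constructor
  · intro h1
    rw [← hcob] at h1
    exact Groth.Agent.Lib.Helper29Cone.comparison_inj mT.toIdeal K.X K.dX
      K.εX K.exact_succ K.exact_zero K.hacycX (fun n => (EP.X n).carrier) EP.d EP.ε
      EP.exact_succ EP.ε_injective EP.exact_zero (fun n j x => KSetup.hacycF (EP := EP) (mT := mT) n j x) θ hθ0 hθ q z z.2.1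
      (LinearMap.mem_ker.mp z.2.2) h1
  · intro h
    exact K.theta_mem_of_mem_cobX EP θ hθ q h

include hθgr hθ0 in
/-- Homogeneous classes are represented by homogeneous cocycles. -/
theorem exists_homog_preimage (q : ℕ) (n : ℤ) (h : EP.H mT q) (hh : h ∈ EP.Hgr mT q n) :
    ∃ z : ↥(K.ZX q), (z : K.X q) ∈ (K.XG q).gr n ∧ K.c1 EP θ hθ q z = h := by
  obtain ⟨w, hw, rfl⟩ := hh
  obtain ⟨x, hx⟩ := K.exists_c1_eq EP θ hθ0 hθ q w
  refine ⟨⟨K.compX q n x, K.compX_mem_ZX q n x.2⟩, K.compX_mem_gr q n x, ?_⟩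
  rw [c1_apply]
  symm
  rw [← sub_eq_zero, ← map_sub]
  change EP.toH mT q _ = 0
  rw [toH_eq_zero_iff']
  change (w : (EP.X q).carrier) - θ q (K.compX q n x) ∈ EP.cobdy mT q
  have h5 : ((decompose (EP.X q).gr ((w : (EP.X q).carrier) - θ q x)) n : (EP.X q).carrier) ∈
      EP.cobdy mT q :=
    cobdy_isHomogeneous (resTo 𝒯 𝒬 EP) (hiTo 𝒯 mT) q n hx
  rw [DirectSum.decompose_sub, DirectSum.sub_apply, AddSubgroup.coe_sub,
    DirectSum.decompose_of_mem_same (EP.X q).gr hw, ← K.theta_compX EP θ hθgr q n x] at h5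
  exact h5

end KSetup

end Groth.Agent.Lib.T2H3.Seg
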