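import Groth.Agent.Lib.T2H3SegJ

/-! Segre products of graded modules (helper3), part K: the map from the cocycles of
`Γ_{T_+}(E^• # N)` to `H_{R_+}(M) ⊗ N`. -/

set_option autoImplicit false
set_option linter.unusedSectionVars false
set_option linter.style.haveILetI false
open DirectSum
open scoped TensorProduct

noncomputable section

namespace Groth.Agent.Lib.T2H3.Seg

open Groth.Agent.Lib.T2H3.GrTr Groth.Agent.Lib Groth.Agent.Lib.LeadSP
  Groth.Agent.Lib.Helper29LCAcyclic GrLC Groth.Agent.Lib.Helper29GrHom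
  Groth.Agent.Lib.Helper29GrGam Groth.Agent.Lib.T2H3.GrLes

universe u

variable {k : Type u} [Field k] {R S T : Type u} [CommRing R] [CommRing S] [CommRing T]
  [Algebra k R] [Algebra k S] [Algebra k T]
  {𝒜 : ℤ → Submodule k R} [GradedAlgebra 𝒜] {ℬ : ℤ → Submodule k S} [GradedAlgebra ℬ]
  {𝒯 : ℤ → Submodule k T} [GradedAlgebra 𝒯] {ψ : T →ₐ[k] R ⊗[k] S}
  [IsNoetherianRing R] [IsNoetherianRing S] [IsNoetherianRing T]
variable {M : Type u} [AddCommGroup M] [Module R M] [Module k M] [IsScalarTower k R M]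
  {ℳ : ℤ → AddSubgroup M} [DirectSum.Decomposition ℳ] [SetLike.GradedSMul 𝒜 ℳ]
variable {N : Type u} [AddCommGroup N] [Module S N] [Module k N] [IsScalarTower k S N]
  {𝒩 : ℤ → AddSubgroup N} [DirectSum.Decomposition 𝒩] [SetLike.GradedSMul ℬ 𝒩]
variable {P : Type u} [AddCommGroup P] [Module T P] [Module k P] [IsScalarTower k T P]
  {𝒬 : ℤ → AddSubgroup P} [DirectSum.Decomposition 𝒬] [SetLike.GradedSMul 𝒯 𝒬]
variable {EM : StarInjRes 𝒜 ℳ} [∀ n, Module k (EM.X n).carrier]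
  [∀ n, IsScalarTower k R (EM.X n).carrier]
variable {φ : P →ₗ[k] M ⊗[k] N} {mR : HomogeneousIdeal 𝒜} {mS : HomogeneousIdeal ℬ}
  {mT : HomogeneousIdeal 𝒯} {δ : ℤ}

theorem id_restrict : ((LinearMap.id : N →ₗ[S] N).restrictScalars k) = LinearMap.id := rfl

namespace KSetup

variable (K : KSetup (ψ := ψ) (𝒬 := 𝒬) 𝒩 EM φ mR mS mT δ) (q : ℕ)

/-- The inclusion of the cocycles, over `k`. -/
abbrev incl : ↥(EM.cocyc mR q) →ₗ[k] (EM.X q).carrier :=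
  (EM.cocyc mR q).subtype.restrictScalars k

/-- The class map, over `k`. -/
abbrev toHk : ↥(EM.cocyc mR q) →ₗ[k] EM.H mR q := (EM.toH mR q).restrictScalars k

/-- The differential, over `k`. -/
abbrev dk : (EM.X q).carrier →ₗ[k] (EM.X (q + 1)).carrier := (EM.d q).restrictScalars k

theorem sval_dX (z : K.X q) :
    sval (EM.X (q + 1)).gr 𝒩 K.hT (K.dX q z) =
      LinearMap.rTensor N (dk (EM := EM) (k := k) q) (sval (EM.X q).gr 𝒩 K.hT z) := rfl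

variable (ρ : (EM.X q).carrier →ₗ[k] ↥(EM.cocyc mR q))
  (hρ : ∀ c : ↥(EM.cocyc mR q), ρ (c : (EM.X q).carrier) = c)

include hρ in
/-- Cocycles of `Γ_{T_+}(E^q # N)` lie in `Z^q ⊗ N`. -/
theorem sval_retract (z : K.X q) (hz : z ∈ K.ZX q) :
    LinearMap.rTensor N (incl (k := k) (EM := EM) (mR := mR) q ∘ₗ ρ)
      (sval (EM.X q).gr 𝒩 K.hT z) = sval (EM.X q).gr 𝒩 K.hT z := by
  refine rTensor_retract_eq (incl (k := k) (EM := EM) (mR := mR) q) ρ hρ (dk (EM := EM) (k := k) q)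
    ((gam mR.toIdeal (EM.X q).carrier).mkQ.restrictScalars k) ?_ _ ?_ ?_
  · intro a h1 h2
    have h3 : a ∈ gam mR.toIdeal (EM.X q).carrier :=
      (Submodule.Quotient.mk_eq_zero _).mp h2
    exact ⟨⟨a, Submodule.mem_inf.mpr ⟨h3, h1⟩⟩, rfl⟩
  · rw [← K.sval_dX q z, LinearMap.mem_ker.mp hz.2, map_zero]
  · exact map_sval_eq_zero_of_mem_gam K.hT (K.GA q) K.GB mT K.hmT K.hδ
      ((gam mR.toIdeal (EM.X q).carrier).mkQ.restrictScalars k) LinearMap.id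
      (fun a ha => (Submodule.Quotient.mk_eq_zero _).mpr ha) (fun b hb => K.hΓN b hb) z hz.1

/-- The class map to `H^q_{R_+}(M) ⊗ N`. -/
def c2 : ↥(K.ZX q) →ₗ[k] (EM.H mR q) ⊗[k] N :=
  LinearMap.rTensor N (toHk (k := k) (EM := EM) (mR := mR) q ∘ₗ ρ) ∘ₗ
    sval (EM.X q).gr 𝒩 K.hT ∘ₗ (K.ZX q).subtype.restrictScalars k

theorem c2_apply (z : ↥(K.ZX q)) :
    K.c2 q ρ z = LinearMap.rTensor N (toHk (k := k) (EM := EM) (mR := mR) q ∘ₗ ρ)
      (sval (EM.X q).gr 𝒩 K.hT (z : K.X q)) := rfl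

include hρ in
/-- Compatibility of `c2` with the actions of `T`. -/
theorem c2_smul (t : T) (z : ↥(K.ZX q)) :
    K.c2 q ρ (t • z) = GrSeg.act k R S (EM.H mR q) N (ψ t) (K.c2 q ρ z) := by
  rw [c2_apply, c2_apply]
  have h0 : sval (EM.X q).gr 𝒩 K.hT ((t • z : ↥(K.ZX q)) : K.X q) =
      GrSeg.act k R S (EM.X q).carrier N (ψ t) (sval (EM.X q).gr 𝒩 K.hT (z : K.X q)) :=
    sval_smul (EM.X q).gr 𝒩 K.hT t (z : K.X q)
  rw [h0]
  have hu := K.sval_retract q ρ hρ (z : K.X q) z.2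
  set u := sval (EM.X q).gr 𝒩 K.hT (z : K.X q) with hu_def
  set ũ := LinearMap.rTensor N ρ u with hũ
  have h1 : u = LinearMap.rTensor N (incl (k := k) (EM := EM) (mR := mR) q) ũ := by
    rw [hũ, ← LinearMap.rTensor_comp_apply]
    exact hu.symm
  have h2 : GrSeg.act k R S (EM.X q).carrier N (ψ t) u =
      LinearMap.rTensor N (incl (k := k) (EM := EM) (mR := mR) q)
        (GrSeg.act k R S ↥(EM.cocyc mR q) N (ψ t) ũ) := by
    rw [h1]
    exact (map_act (EM.cocyc mR q).subtype (LinearMap.id : N →ₗ[S] N) (ψ t) ũ).symm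
  have h3 : ρ ∘ₗ incl (k := k) (EM := EM) (mR := mR) q = LinearMap.id := by
    apply LinearMap.ext
    intro c
    exact hρ c
  rw [h2, ← LinearMap.rTensor_comp_apply, LinearMap.comp_assoc, h3, LinearMap.comp_id]
  have h4 : LinearMap.rTensor N (toHk (k := k) (EM := EM) (mR := mR) q ∘ₗ ρ) u =
      LinearMap.rTensor N (toHk (k := k) (EM := EM) (mR := mR) q) ũ := by
    rw [hũ, ← LinearMap.rTensor_comp_apply]
  rw [h4]
  exact map_act (EM.toH mR q) (LinearMap.id : N →ₗ[S] N) (ψ t) ũ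

/-- The degree-`n` component of a cocycle is a cocycle of degree `n`. -/
theorem prK_cocyc_mem (n : ℤ) (c : ↥(EM.cocyc mR q)) :
    prK 𝒜 (EM.X q).gr n (c : (EM.X q).carrier) ∈ EM.cocyc mR q :=
  cocyc_isHomogeneous (resTo 𝒜 ℳ EM) (hiTo 𝒜 mR) q n c.2

include hρ in
theorem c2_mem_piece_aux (n : ℤ) (w : (EM.X q).carrier ⊗[k] N) :
    LinearMap.rTensor N (toHk (k := k) (EM := EM) (mR := mR) q ∘ₗ ρ)
      (pd 𝒜 ℬ (EM.X q).gr 𝒩 n
        (LinearMap.rTensor N (incl (k := k) (EM := EM) (mR := mR) q ∘ₗ ρ) w)) ∈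
      GrSeg.segrePiece k (EM.Hgr mR q) 𝒩 n := by
  induction w using TensorProduct.induction_on with
  | zero => simp only [map_zero]; exact zero_mem _
  | tmul a b =>
    rw [LinearMap.rTensor_tmul, pd, TensorProduct.map_tmul, LinearMap.rTensor_tmul]
    refine Submodule.subset_span ⟨_, ?_, _, prK_mem ℬ 𝒩 n b, rfl⟩
    have hmem := prK_cocyc_mem q n (ρ a)
    refine ⟨⟨_, hmem⟩, prK_mem 𝒜 (EM.X q).gr n _, ?_⟩
    change EM.toH mR q ⟨_, hmem⟩ = EM.toH mR q (ρ _)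
    congr 1
    exact (hρ ⟨_, hmem⟩).symm
  | add x y hx hy =>
    simp only [map_add]
    exact add_mem hx hy

include hρ in
/-- `c2` sends homogeneous cocycles of degree `n` into `H_n ⊗ N_n`. -/
theorem c2_mem_piece (n : ℤ) (z : ↥(K.ZX q)) (hz : (z : K.X q) ∈ (K.XG q).gr n) :
    K.c2 q ρ z ∈ GrSeg.segrePiece k (EM.Hgr mR q) 𝒩 n := by
  have h := c2_mem_piece_aux (ℬ := ℬ) (𝒩 := 𝒩) q ρ hρ n (sval (EM.X q).gr 𝒩 K.hT (z : K.X q))
  have hz' : sval (EM.X q).gr 𝒩 K.hT (z : K.X q) ∈ GrSeg.segrePiece k (EM.X q).gr 𝒩 n := hz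
  rw [K.sval_retract q ρ hρ (z : K.X q) z.2, pd_of_mem_same 𝒜 ℬ (EM.X q).gr 𝒩 hz'] at h
  exact h

include hρ in
/-- Elementary tensors of homogeneous cocycles are in the image of `c2`. -/
theorem exists_c2_eq_tmul (n : ℤ) (c : ↥(EM.cocyc mR q))
    (hc : (c : (EM.X q).carrier) ∈ (EM.X q).gr n) (b : N) (hb : b ∈ 𝒩 n) :
    ∃ z : ↥(K.ZX q), (z : K.X q) ∈ (K.XG q).gr n ∧ K.c2 q ρ z = EM.toH mR q c ⊗ₜ[k] b := by
  have hpc : (c : (EM.X q).carrier) ⊗ₜ[k] b ∈ GrSeg.segrePiece k (EM.X q).gr 𝒩 n :=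
    tmul_mem_piece (EM.X q).gr 𝒩 hc hb
  have hw : (c : (EM.X q).carrier) ⊗ₜ[k] b ∈ segK (EM.X q).gr 𝒩 :=
    piece_le_segK (EM.X q).gr 𝒩 n hpc
  let z₀ : K.X q := smk (EM.X q).gr 𝒩 K.hT _ hw
  have hz₀ : sval (EM.X q).gr 𝒩 K.hT z₀ = (c : (EM.X q).carrier) ⊗ₜ[k] b := sval_smk _ _ _ _ hw
  have hzZ : z₀ ∈ K.ZX q := by
    refine ⟨?_, ?_⟩
    · apply mem_gam_subtype
      exact tmul_mem_gam_left K.hT K.hposT mT K.hmT mR K.hirrR (Submodule.mem_inf.mp c.2).1 b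
    · change K.dX q z₀ = 0
      apply sval_injective (EM.X (q + 1)).gr 𝒩 K.hT
      rw [K.sval_dX, hz₀, LinearMap.rTensor_tmul, map_zero]
      have hd : EM.d q (c : (EM.X q).carrier) = 0 := (Submodule.mem_inf.mp c.2).2
      change (EM.d q (c : (EM.X q).carrier)) ⊗ₜ[k] b = 0
      rw [hd, TensorProduct.zero_tmul]
  refine ⟨⟨z₀, hzZ⟩, ?_, ?_⟩
  · refine (mem_segGr (EM.X q).gr 𝒩 K.hT (z := z₀)).mpr ?_
    rw [hz₀]
    exact hpc
  · rw [c2_apply]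
    change LinearMap.rTensor N _ (sval (EM.X q).gr 𝒩 K.hT z₀) = _
    rw [hz₀, LinearMap.rTensor_tmul]
    change EM.toH mR q (ρ (c : (EM.X q).carrier)) ⊗ₜ[k] b = _
    rw [hρ c]

end KSetup

end Groth.Agent.Lib.T2H3.Seg
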