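import Groth.Agent.Lib.T2H3SegK

/-! Segre products of graded modules (helper3), part L: the kernel of the map from the cocycles of
`Γ_{T_+}(E^• # N)` to `H_{R_+}(M) ⊗ N` is the module of coboundaries. -/

set_option autoImplicit false
set_option linter.unusedSectionVars false
set_option linter.style.haveILetI false
open DirectSum
open scoped TensorProduct

noncomputable section

namespace Groth.Agent.Lib.T2H3.Seg

open Groth.Agent.Lib.T2H3.GrTr Groth.Agent.Lib Groth.Agent.Lib.LeadSP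
  Groth.Agent.Lib.Helper29LCAcyclic GrLC Groth.Agent.Lib.Helper29GrHom
  Groth.Agent.Lib.Helper29GrGam Groth.Agent.Lib.T2H3.GrLes

universe u

variable {k : Type u} [Field k] {R S T : Type u} [CommRing R] [CommRing S] [CommRing T]
  [Algebra k R] [Algebra k S] [Algebra k T]
  {𝒜 : ℤ → Submodule k R} [GradedAlgebra 𝒜] {ℬ : ℤ → Submodule k S} [GradedAlgebra ℬ]
  {𝒯 : ℤ → Submodule k T} [GradedAlgebra 𝒯] {ψ : T →ₐ[k] R ⊗[k] S}
  [IsNoetherianRing R] [IsNoetherianRing S] [IsNoetherianRing T]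
variable {M : Type u} [AddCommGroup M] [Module R M] [Module k M] [IsScalarTower k R M]
  {ℳ : ℤ → AddSubgroup M} [DirectSum.Decomposition ℳ] [SetLike.GradedSMul 𝒜 ℳ]
variable {N : Type u} [AddCommGroup N] [Module S N] [Module k N] [IsScalarTower k S N]
  {𝒩 : ℤ → AddSubgroup N} [DirectSum.Decomposition 𝒩] [SetLike.GradedSMul ℬ 𝒩]
variable {P : Type u} [AddCommGroup P] [Module T P] [Module k P] [IsScalarTower k T P]
  {𝒬 : ℤ → AddSubgroup P} [DirectSum.Decomposition 𝒬] [SetLike.GradedSMul 𝒯 𝒬]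
variable {EM : StarInjRes 𝒜 ℳ} [∀ n, Module k (EM.X n).carrier]
  [∀ n, IsScalarTower k R (EM.X n).carrier]
variable {φ : P →ₗ[k] M ⊗[k] N} {mR : HomogeneousIdeal 𝒜} {mS : HomogeneousIdeal ℬ}
  {mT : HomogeneousIdeal 𝒯} {δ : ℤ}

namespace KSetup

variable (K : KSetup (ψ := ψ) (𝒬 := 𝒬) 𝒩 EM φ mR mS mT δ) (q : ℕ)
variable (ρ : (EM.X q).carrier →ₗ[k] ↥(EM.cocyc mR q))
  (hρ : ∀ c : ↥(EM.cocyc mR q), ρ (c : (EM.X q).carrier) = c)

include hρ in
/-- Coboundaries are killed by `c2`. -/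
theorem c2_eq_zero_of_mem_cobX (z : ↥(K.ZX q)) (hz : (z : K.X q) ∈ K.cobX q) :
    K.c2 q ρ z = 0 := by
  rw [c2_apply]
  cases q with
  | zero =>
    have h0 : (z : K.X 0) = 0 := (Submodule.mem_bot T).mp hz
    rw [h0, map_zero, map_zero]
  | succ n =>
    obtain ⟨w, hw, hwz⟩ := hz
    rw [← hwz, K.sval_dX, ← LinearMap.rTensor_comp_apply]
    refine map_sval_eq_zero_of_mem_gam K.hT (K.GA n) K.GB mT K.hmT K.hδ
      ((toHk (k := k) (EM := EM) (mR := mR) (n + 1) ∘ₗ ρ) ∘ₗ dk (EM := EM) (k := k) n)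
      LinearMap.id ?_ (fun b hb => K.hΓN b hb) w hw
    intro a ha
    have hda : EM.d n a ∈ EM.cocyc mR (n + 1) := by
      refine Submodule.mem_inf.mpr ⟨gam_map mR.toIdeal (EM.d n) ha, ?_⟩
      rw [LinearMap.mem_ker]
      have : EM.d n a ∈ LinearMap.ker (EM.d (n + 1)) := by
        rw [EM.exact_succ n]
        exact LinearMap.mem_range_self _ a
      exact this
    change EM.toH mR (n + 1) (ρ (EM.d n a)) = 0
    have h1 : ρ (EM.d n a) = ⟨EM.d n a, hda⟩ := hρ ⟨EM.d n a, hda⟩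
    rw [h1, toH_eq_zero_iff']
    exact ⟨a, ha, rfl⟩

include hρ in
/-- Cocycles killed by `c2` are coboundaries. -/
theorem mem_cobX_of_c2_eq_zero (z : ↥(K.ZX q)) (hz : K.c2 q ρ z = 0) :
    (z : K.X q) ∈ K.cobX q := by
  rw [c2_apply] at hz
  have hu := K.sval_retract q ρ hρ (z : K.X q) z.2
  set u := sval (EM.X q).gr 𝒩 K.hT (z : K.X q) with hu_def
  set ũ := LinearMap.rTensor N ρ u with hũ
  have h1 : u = LinearMap.rTensor N (incl (k := k) (EM := EM) (mR := mR) q) ũ := by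
    rw [hũ, ← LinearMap.rTensor_comp_apply]
    exact hu.symm
  have h2 : LinearMap.rTensor N (toHk (k := k) (EM := EM) (mR := mR) q) ũ = 0 := by
    rw [hũ, ← LinearMap.rTensor_comp_apply]
    exact hz
  cases q with
  | zero =>
    have hinj : Function.Injective (toHk (k := k) (EM := EM) (mR := mR) 0) := by
      rw [injective_iff_map_eq_zero]
      intro c hc
      have hc' : EM.toH mR 0 c = 0 := hc
      rw [toH_eq_zero_iff'] at hc'
      exact Subtype.ext ((Submodule.mem_bot R).mp hc')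
    have hinj' := Module.Flat.rTensor_preserves_injective_linearMap (M := N)
      (toHk (k := k) (EM := EM) (mR := mR) 0) hinj
    have hũ0 : ũ = 0 := hinj' (by rw [h2, map_zero])
    have hu0 : u = 0 := by rw [h1, hũ0, map_zero]
    have hz0 : (z : K.X 0) = 0 := by
      apply sval_injective (EM.X 0).gr 𝒩 K.hT
      rw [map_zero]
      exact hu0
    rw [hz0]
    exact zero_mem _
  | succ n =>
    obtain ⟨w', hw'⟩ := mem_range_of_rTensor_eq_zero
      (toHk (k := k) (EM := EM) (mR := mR) (n + 1)) ũ h2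
    let Kt : Submodule k ↥(EM.cocyc mR (n + 1)) :=
      LinearMap.ker (toHk (k := k) (EM := EM) (mR := mR) (n + 1))
    let j : ↥Kt →ₗ[k] (EM.X (n + 1)).carrier :=
      incl (k := k) (EM := EM) (mR := mR) (n + 1) ∘ₗ Kt.subtype
    let Γs : ↥(gam mR.toIdeal (EM.X n).carrier) →ₗ[k] (EM.X n).carrier :=
      (gam mR.toIdeal (EM.X n).carrier).subtype.restrictScalars k
    let D : ↥(gam mR.toIdeal (EM.X n).carrier) →ₗ[k] (EM.X (n + 1)).carrier :=
      dk (EM := EM) (k := k) n ∘ₗ Γs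
    have hle : LinearMap.range j ≤ LinearMap.range D := by
      rintro _ ⟨b, rfl⟩
      have hb : EM.toH mR (n + 1) (b : ↥(EM.cocyc mR (n + 1))) = 0 := b.2
      rw [toH_eq_zero_iff'] at hb
      obtain ⟨a, ha, hab⟩ := hb
      exact ⟨⟨a, ha⟩, hab⟩
    obtain ⟨σ, hσ⟩ := exists_lift_of_range_le D j hle
    let v : (EM.X n).carrier ⊗[k] N := LinearMap.rTensor N (Γs ∘ₗ σ) w'
    have hv : LinearMap.rTensor N (dk (EM := EM) (k := k) n) v = u := by
      change LinearMap.rTensor N (dk (EM := EM) (k := k) n) (LinearMap.rTensor N (Γs ∘ₗ σ) w') = u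
      rw [← LinearMap.rTensor_comp_apply, ← LinearMap.comp_assoc]
      change LinearMap.rTensor N (D ∘ₗ σ) w' = u
      rw [hσ, h1, ← hw', ← LinearMap.rTensor_comp_apply]
    obtain ⟨y, s, hy1, hy2⟩ := exists_seg_preimage' (EM.X n).gr 𝒩 (EM.X (n + 1)).gr 𝒩 K.hT
      (dk (EM := EM) (k := k) n) LinearMap.id (fun d a ha => EM.d_grHom n d a ha)
      (fun _ _ h => h) (z : K.X (n + 1)) v hv
    refine ⟨y, ?_, ?_⟩
    · apply mem_gam_subtype
      change toTW ψ (EM.X n).carrier N (sval (EM.X n).gr 𝒩 K.hT y) ∈ _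
      rw [hy2, map_sum]
      refine Submodule.sum_mem _ fun d _ => ?_
      have h3 : pd 𝒜 ℬ (EM.X n).gr 𝒩 d v =
          TensorProduct.map (prK 𝒜 (EM.X n).gr d ∘ₗ (Γs ∘ₗ σ)) (prK ℬ 𝒩 d) w' := by
        change TensorProduct.map (prK 𝒜 (EM.X n).gr d) (prK ℬ 𝒩 d)
          (TensorProduct.map (Γs ∘ₗ σ) LinearMap.id w') = _
        rw [← LinearMap.comp_apply, ← TensorProduct.map_comp, LinearMap.comp_id]
      rw [h3]
      refine map_mem_gam_left' K.hT K.hposT mT K.hmT K.hirrR _ ?_ _ w'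
      intro b
      exact gam_isHomogeneous (asGr 𝒜) (EM.X n).gr (hiTo 𝒜 mR) d (σ b).2
    · apply sval_injective (EM.X (n + 1)).gr 𝒩 K.hT
      rw [K.sval_dX]
      exact hy1

end KSetup

end Groth.Agent.Lib.T2H3.Seg
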