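import Groth.Agent.Lib.T2H3SegL

/-! Segre products of graded modules (helper3), part M: `H_{T_+}(M # N) = H_{R_+}(M) # N` when an
element of positive degree acts bijectively on `N`. -/

set_option autoImplicit false
set_option linter.unusedSectionVars false
set_option linter.style.haveILetI false
open DirectSum
open scoped TensorProduct

noncomputable section

namespace Groth.Agent.Lib.T2H3.Seg

open Groth.Agent.Lib.T2H3.GrTr Groth.Agent.Lib Groth.Agent.Lib.LeadSP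
  Groth.Agent.Lib.Helper29LCAcyclic GrLC Groth.Agent.Lib.Helper29GrHom
  Groth.Agent.Lib.Helper29GrGam Groth.Agent.Lib.T2H3.GrLes

universe u

variable {k : Type u} [Field k] {R S T : Type u} [CommRing R] [CommRing S] [CommRing T]
  [Algebra k R] [Algebra k S] [Algebra k T]
  {𝒜 : ℤ → Submodule k R} [GradedAlgebra 𝒜] {ℬ : ℤ → Submodule k S} [GradedAlgebra ℬ]
  {𝒯 : ℤ → Submodule k T} [GradedAlgebra 𝒯] {ψ : T →ₐ[k] R ⊗[k] S}
  [IsNoetherianRing R] [IsNoetherianRing S] [IsNoetherianRing T]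
variable {M : Type u} [AddCommGroup M] [Module R M] [Module k M] [IsScalarTower k R M]
  {ℳ : ℤ → AddSubgroup M} [DirectSum.Decomposition ℳ] [SetLike.GradedSMul 𝒜 ℳ]
variable {N : Type u} [AddCommGroup N] [Module S N] [Module k N] [IsScalarTower k S N]
  {𝒩 : ℤ → AddSubgroup N} [DirectSum.Decomposition 𝒩] [SetLike.GradedSMul ℬ 𝒩]
variable {P : Type u} [AddCommGroup P] [Module T P] [Module k P] [IsScalarTower k T P]
  {𝒬 : ℤ → AddSubgroup P} [DirectSum.Decomposition 𝒬] [SetLike.GradedSMul 𝒯 𝒬]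
variable {EM : StarInjRes 𝒜 ℳ} [∀ n, Module k (EM.X n).carrier]
  [∀ n, IsScalarTower k R (EM.X n).carrier]
variable (EP : StarInjRes 𝒯 𝒬)
variable {φ : P →ₗ[k] M ⊗[k] N} {mR : HomogeneousIdeal 𝒜} {mS : HomogeneousIdeal ℬ}
  {mT : HomogeneousIdeal 𝒯} {δ : ℤ}

/-- The pieces of graded local cohomology are stable under the base field. -/
theorem ksmul_mem_Hgr (q : ℕ) [Module k (EP.H mT q)] [IsScalarTower k T (EP.H mT q)] (n : ℤ)
    (c : k) {h : EP.H mT q} (hh : h ∈ EP.Hgr mT q n) : c • h ∈ EP.Hgr mT q n := by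
  obtain ⟨w, hw, rfl⟩ := hh
  refine ⟨algebraMap k T c • w, ?_, ?_⟩
  · have h1 : algebraMap k T c ∈ 𝒯 0 := by
      rw [Algebra.algebraMap_eq_smul_one]
      exact Submodule.smul_mem _ c SetLike.GradedOne.one_mem
    have h2 := SetLike.GradedSMul.smul_mem (A := 𝒯) (B := (EP.X q).gr) h1 hw
    rw [vadd_eq_add, zero_add] at h2
    exact h2
  · rw [map_smul, algebraMap_smul]

/-- A module structure over the base ring compatible with the structure over an algebra is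
unique. -/
theorem module_ext_of_tower {k₀ R₀ M₀ : Type u} [CommSemiring k₀] [Semiring R₀] [Algebra k₀ R₀]
    [AddCommMonoid M₀] [Module R₀ M₀] (I J : Module k₀ M₀)
    (hI : @IsScalarTower k₀ R₀ M₀ _ _ I.toSMul) (hJ : @IsScalarTower k₀ R₀ M₀ _ _ J.toSMul) :
    I = J := by
  apply Module.ext'
  intro c m
  have h1 := @algebraMap_smul k₀ _ R₀ _ _ M₀ _ _ I hI c m
  have h2 := @algebraMap_smul k₀ _ R₀ _ _ M₀ _ _ J hJ c m
  exact h1.symm.trans h2

/-- The `k`-module structure on `H^q_{R_+}(M)` induced by those of the terms of the resolution. -/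
abbrev HMod (EM : StarInjRes 𝒜 ℳ) [∀ n, Module k (EM.X n).carrier]
    [∀ n, IsScalarTower k R (EM.X n).carrier] (mR : HomogeneousIdeal 𝒜) (q : ℕ) :
    Module k (EM.H mR q) := inferInstance

theorem HMod_tower (EM : StarInjRes 𝒜 ℳ) [∀ n, Module k (EM.X n).carrier]
    [∀ n, IsScalarTower k R (EM.X n).carrier] (mR : HomogeneousIdeal 𝒜) (q : ℕ) :
    @IsScalarTower k R (EM.H mR q) _ _ (HMod EM mR q).toSMul := inferInstance

namespace KSetup

variable (K : KSetup (ψ := ψ) (𝒬 := 𝒬) 𝒩 EM φ mR mS mT δ) (q : ℕ)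

include K in
/-- `H^q_{T_+}(M # N)` is the Segre product of `H^q_{R_+}(M)` and `N`. -/
theorem exists_isSegreMod [Module k (EP.H mT q)] [IsScalarTower k T (EP.H mT q)]
    [DirectSum.Decomposition (EP.Hgr mT q)] :
    ∃ φ' : EP.H mT q →ₗ[k] (EM.H mR q) ⊗[k] N,
      GrSeg.IsSegreMod ψ (EM.Hgr mR q) 𝒩 (EP.Hgr mT q) φ' := by
  obtain ⟨θ, hθgr, hθ0, hθ⟩ := K.exists_theta (EP := EP)
  obtain ⟨ρ, hρ'⟩ := LinearMap.exists_leftInverse_of_injective
    (incl (k := k) (EM := EM) (mR := mR) q) (LinearMap.ker_eq_bot.mpr Subtype.val_injective)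
  have hρ : ∀ c : ↥(EM.cocyc mR q), ρ (c : (EM.X q).carrier) = c :=
    fun c => LinearMap.congr_fun hρ' c
  let c1k : ↥(K.ZX q) →ₗ[k] EP.H mT q := (K.c1 EP θ hθ q).restrictScalars k
  have hsurj : Function.Surjective c1k := K.c1_surjective EP θ hθ0 hθ q
  obtain ⟨s, hs⟩ := c1k.exists_rightInverse_of_surjective (LinearMap.range_eq_top.mpr hsurj)
  have hs' : ∀ h, K.c1 EP θ hθ q (s h) = h := fun h => LinearMap.congr_fun hs h
  let φ' : EP.H mT q →ₗ[k] (EM.H mR q) ⊗[k] N := K.c2 q ρ ∘ₗ s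
  have key : ∀ z, φ' (K.c1 EP θ hθ q z) = K.c2 q ρ z := by
    intro z
    have h1 : K.c1 EP θ hθ q (s (K.c1 EP θ hθ q z) - z) = 0 := by
      rw [map_sub, hs', sub_self]
    have h2 := (K.c1_eq_zero_iff EP θ hθ0 hθ q _).mp h1
    have h3 := K.c2_eq_zero_of_mem_cobX q ρ hρ _ h2
    rw [map_sub, sub_eq_zero] at h3
    exact h3
  refine ⟨φ', ⟨?_, ?_, ?_⟩⟩
  · rw [injective_iff_map_eq_zero]
    intro h hh
    obtain ⟨z, rfl⟩ := K.c1_surjective EP θ hθ0 hθ q h
    rw [key] at hh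
    exact (K.c1_eq_zero_iff EP θ hθ0 hθ q z).mpr (K.mem_cobX_of_c2_eq_zero q ρ hρ z hh)
  · intro n
    apply Set.Subset.antisymm
    · rintro _ ⟨h, hh, rfl⟩
      obtain ⟨z, hz, rfl⟩ := K.exists_homog_preimage EP θ hθgr hθ0 hθ q n h hh
      rw [key]
      exact K.c2_mem_piece q ρ hρ n z hz
    · have hspan : ∀ x ∈ GrSeg.segrePiece k (EM.Hgr mR q) 𝒩 n,
          x ∈ φ' '' (EP.Hgr mT q n : Set (EP.H mT q)) := by
        intro x hx'
        induction hx' using Submodule.span_induction with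
        | mem x hxg =>
          obtain ⟨h, hh, b, hb, rfl⟩ := hxg
          obtain ⟨c, hc, rfl⟩ := hh
          obtain ⟨z, hz, hzc⟩ := K.exists_c2_eq_tmul q ρ hρ n c hc b hb
          refine ⟨K.c1 EP θ hθ q z, ?_, ?_⟩
          · exact ⟨⟨θ q z, K.theta_cocyc EP θ hθ z.2⟩, hθgr q n _ hz, rfl⟩
          · rw [key, hzc]
        | zero => exact ⟨0, zero_mem _, map_zero _⟩
        | add x y _ _ hx hy =>
          obtain ⟨h₁, hh₁, rfl⟩ := hx
          obtain ⟨h₂, hh₂, rfl⟩ := hy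
          exact ⟨h₁ + h₂, add_mem hh₁ hh₂, map_add _ _ _⟩
        | smul c x _ hx =>
          obtain ⟨h₁, hh₁, rfl⟩ := hx
          exact ⟨c • h₁, ksmul_mem_Hgr EP q n c hh₁, map_smul _ _ _⟩
      exact fun x hx => hspan x hx
  · intro t h
    obtain ⟨z, rfl⟩ := K.c1_surjective EP θ hθ0 hθ q h
    rw [← map_smul, key, key]
    exact K.c2_smul q ρ hρ t z

end KSetup

end Groth.Agent.Lib.T2H3.Seg
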