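import Mathlib
import Groth.Prelude.Def_SekSuwa2

/-!
# Algebra of the Sekiguchi–Suwa group `G_{λ,N}`

* `AKfinite`: the coordinate ring `AK R lam N h` is a finite `R`-module (`R` a domain, `N > 0`).
* `existsUnique_algHom`: if `λ` is invertible in the `R`-algebra `B`, composition with the comorphism of
  `α^{λ,N}` is a bijection `Hom_R(AK, B) → Hom_R(R[ℤ/N], B)`.
-/

set_option autoImplicit false
universe u v

open Polynomial

namespace Groth.Agent.Lib.T2H3.SekSuwaAlg

open SekSuwa

variable {R : Type u} [CommRing R] {lam : R} {N : ℕ}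

/-- `P_{λ,N}` is monic. -/
theorem monic_psiPoly [IsDomain R] (h : DivCond lam N) (hN : 0 < N) : (psiPoly lam N h).Monic := by
  have hlam : lam ≠ 0 := nonZeroDivisors.ne_zero h.nzd
  have hlamN : lam ^ N ≠ 0 := pow_ne_zero _ hlam
  have hspec := psiPoly_spec h
  have hq : (1 + C lam * X : R[X]) = C lam * X + C 1 := by rw [C_1]; ring
  have hdeg1 : (1 + C lam * X : R[X]).natDegree = 1 := by
    rw [hq]; exact natDegree_linear hlam
  have hlc1 : (1 + C lam * X : R[X]).leadingCoeff = lam := by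
    rw [hq]; exact leadingCoeff_linear hlam
  have hdegN : ((1 + C lam * X : R[X]) ^ N).natDegree = N := by
    rw [natDegree_pow, hdeg1, mul_one]
  have hlcN : ((1 + C lam * X : R[X]) ^ N).leadingCoeff = lam ^ N := by
    rw [leadingCoeff_pow, hlc1]
  have hlt : (1 : R[X]).degree < ((1 + C lam * X : R[X]) ^ N).degree := by
    rw [degree_one, degree_eq_natDegree (pow_ne_zero _ (by
      intro h0; rw [h0, natDegree_zero] at hdeg1; exact zero_ne_one hdeg1)), hdegN]
    exact_mod_cast hN
  have hlc : ((1 + C lam * X : R[X]) ^ N - 1).leadingCoeff = lam ^ N := by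
    rw [leadingCoeff_sub_of_degree_lt hlt, hlcN]
  have h2 : (C (lam ^ N) * psiPoly lam N h).leadingCoeff = lam ^ N := by rw [hspec, hlc]
  rw [leadingCoeff_mul, leadingCoeff_C] at h2
  have : lam ^ N * (psiPoly lam N h).leadingCoeff = lam ^ N * 1 := by rw [h2, mul_one]
  exact mul_left_cancel₀ hlamN this

variable (h : DivCond lam N)

theorem u_mul_inv : (1 + lam • (AK.t : AK R lam N h)) * AK.inv = 1 := by
  have := congrArg (AK.mkHom R lam N h) (A.u_mul_inv (R := R) (lam := lam))
  rw [map_mul, map_one, A.u, map_add, map_one, map_smul] at this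
  exact this

theorem isIntegral_t [IsDomain R] (hN : 0 < N) : IsIntegral R (AK.t : AK R lam N h) :=
  ⟨psiPoly lam N h, monic_psiPoly h hN, by
    rw [← Polynomial.aeval_def]; exact AK.aeval_t⟩

theorem inv_eq (hN : 0 < N) : (AK.inv : AK R lam N h) = (1 + lam • AK.t) ^ (N - 1) := by
  have h1 : (1 + lam • (AK.t : AK R lam N h)) ^ N = 1 := AK.u_pow
  obtain ⟨M, rfl⟩ : ∃ M, N = M + 1 := Nat.exists_eq_succ_of_ne_zero hN.ne'
  rw [Nat.add_sub_cancel]
  calc (AK.inv : AK R lam (M + 1) h) = (1 + lam • AK.t) ^ (M + 1) * AK.inv := by rw [h1, one_mul]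
    _ = (1 + lam • AK.t) ^ M * ((1 + lam • AK.t) * AK.inv) := by rw [pow_succ, mul_assoc]
    _ = (1 + lam • AK.t) ^ M := by rw [u_mul_inv, mul_one]

theorem isIntegral_inv [IsDomain R] (hN : 0 < N) : IsIntegral R (AK.inv : AK R lam N h) := by
  rw [inv_eq h hN]
  exact (isIntegral_one.add ((isIntegral_t h hN).smul lam)).pow _

/-- The coordinate ring of `G_{λ,N}` is a finite `R`-module. -/
theorem AKfinite [IsDomain R] (hN : 0 < N) : Module.Finite R (AK R lam N h) := by
  let ρ : Poly R lam →ₐ[R] AK R lam N h :=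
    ((AK.mkHom R lam N h : A R lam →ₐ[R] AK R lam N h)).comp (A.mk R lam)
  have hρ : Function.Surjective ρ := by
    intro z
    obtain ⟨a, rfl⟩ := Ideal.Quotient.mk_surjective z
    obtain ⟨q, rfl⟩ := Ideal.Quotient.mk_surjective a
    exact ⟨q, rfl⟩
  let g : Fin 2 → AK R lam N h := fun i => ρ (MvPolynomial.X i)
  have hρ' : ρ = MvPolynomial.aeval g := by
    apply MvPolynomial.algHom_ext
    intro i
    rw [MvPolynomial.aeval_X]
    rfl
  have htop : Algebra.adjoin R (Set.range g) = ⊤ := by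
    rw [Algebra.adjoin_range_eq_range_aeval, ← hρ', AlgHom.range_eq_top]
    exact hρ
  have hint : ∀ x ∈ Set.range g, IsIntegral R x := by
    rintro _ ⟨i, rfl⟩
    fin_cases i
    · exact isIntegral_t h hN
    · exact isIntegral_inv h hN
  have hfg := fg_adjoin_of_finite (Set.finite_range g) hint
  rw [htop] at hfg
  exact ⟨hfg⟩


section Points

variable {B : Type v} [CommRing B] [Algebra R B]

/-- the generator of `R[ℤ/N]`. -/
noncomputable abbrev e₁ (R : Type u) [CommRing R] (N : ℕ) : MonoidAlgebra R (Multiplicative (ZMod N)) :=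
  MonoidAlgebra.single (Multiplicative.ofAdd (1 : ZMod N)) 1

theorem single_eq_pow [NeZero N] (g : Multiplicative (ZMod N)) :
    (MonoidAlgebra.single g 1 : MonoidAlgebra R (Multiplicative (ZMod N))) =
      e₁ R N ^ (Multiplicative.toAdd g).val := by
  rw [e₁, MonoidAlgebra.single_pow, one_pow]
  congr 1
  rw [← ofAdd_nsmul, nsmul_eq_mul, mul_one, ZMod.natCast_zmod_val]
  rfl

theorem algHom_ext_e₁ [NeZero N] {φ ψ : MonoidAlgebra R (Multiplicative (ZMod N)) →ₐ[R] B}
    (hφψ : φ (e₁ R N) = ψ (e₁ R N)) : φ = ψ := by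
  apply MonoidAlgebra.algHom_ext
  · intro g
    rw [single_eq_pow, map_pow, map_pow, hφψ]
  · exact Subsingleton.elim _ _

theorem alphaNHom_e₁ : alphaNHom R lam N h (e₁ R N) = 1 + lam • AK.t :=
  alphaNHom_single_one R lam N h

/-- If `λ` is invertible in `B`, composition with the comorphism of `α^{λ,N}` is a bijection from
`R`-algebra maps `AK → B` onto `R`-algebra maps `R[ℤ/N] → B`. -/
theorem existsUnique_algHom [NeZero N] (hlam : IsUnit (algebraMap R B lam))
    (ψ : MonoidAlgebra R (Multiplicative (ZMod N)) →ₐ[R] B) :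
    ∃! χ : AK R lam N h →ₐ[R] B,
      χ.comp (alphaNHom R lam N h : MonoidAlgebra R (Multiplicative (ZMod N)) →ₐ[R] AK R lam N h) =
        ψ := by
  set ζ : B := ψ (e₁ R N) with hζ
  set c : B := ψ (MonoidAlgebra.single (Multiplicative.ofAdd (-1 : ZMod N)) 1) with hc
  have hζc : ζ * c = 1 := by
    rw [hζ, hc, ← map_mul, e₁, MonoidAlgebra.single_mul_single, ← ofAdd_add, add_neg_cancel, one_mul,
      ofAdd_zero, ← MonoidAlgebra.one_def, map_one]
  have hζN : ζ ^ N = 1 := by
    rw [hζ, ← map_pow, e₁, MonoidAlgebra.single_pow, one_pow, ← ofAdd_nsmul, nsmul_eq_mul, mul_one,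
      ZMod.natCast_self, ofAdd_zero, ← MonoidAlgebra.one_def, map_one]
  obtain ⟨l, hl⟩ := hlam
  set b : B := ↑l⁻¹ * (ζ - 1) with hb
  have hlb : algebraMap R B lam * b = ζ - 1 := by
    rw [hb, ← hl, ← mul_assoc, Units.mul_inv, one_mul]
  have hub : 1 + lam • b = ζ := by rw [Algebra.smul_def, hlb]; ring
  have hrel : (1 + lam • b) * c = 1 := by rw [hub, hζc]
  let χ₀ : A R lam →ₐ[R] B := A.lift R lam b c hrel
  have hker : ∀ a ∈ kerIdeal lam N h, χ₀ a = 0 := by
    intro a ha
    obtain ⟨d, rfl⟩ := Ideal.mem_span_singleton'.mp ha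
    rw [map_mul]
    have h1 : χ₀ (kerGen lam N h) = Polynomial.aeval b (psiPoly lam N h) := by
      rw [kerGen, ← Polynomial.aeval_algHom_apply, A.lift_t]
    have h2 := aeval_psiPoly h b
    rw [← Algebra.smul_def lam b, hub, hζN, sub_self] at h2
    have h3 : IsUnit (algebraMap R B (lam ^ N)) := by
      rw [map_pow]; exact (hl ▸ l.isUnit).pow N
    rw [h1, (h3.mul_right_eq_zero).mp h2, mul_zero]
  let χ : AK R lam N h →ₐ[R] B := Ideal.Quotient.liftₐ (kerIdeal lam N h) χ₀ hker
  have hχt : χ AK.t = b := by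
    change χ₀ A.t = b
    exact A.lift_t _ _ _
  have hχinv : χ AK.inv = c := by
    change χ₀ A.inv = c
    exact A.lift_inv _ _ _
  refine ⟨χ, ?_, ?_⟩
  · apply algHom_ext_e₁
    rw [AlgHom.comp_apply]
    change χ (alphaNHom R lam N h (e₁ R N)) = ζ
    rw [alphaNHom_e₁, map_add, map_one, map_smul, hχt, hub]
  · intro χ' hχ'
    have h1 : χ' (1 + lam • AK.t) = ζ := by
      rw [← alphaNHom_e₁ h, hζ, ← hχ']
      rfl
    have h2 : χ' AK.t = b := by
      rw [map_add, map_one, map_smul, Algebra.smul_def] at h1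
      have : algebraMap R B lam * χ' AK.t = algebraMap R B lam * b := by
        rw [hlb, ← h1]; ring
      rw [← hl] at this
      exact (Units.mul_right_inj l).mp this
    have h3 : χ' AK.inv = c := by
      have h4 : ζ * χ' AK.inv = 1 := by
        rw [← h1, ← map_mul, u_mul_inv, map_one]
      calc χ' AK.inv = (ζ * c) * χ' AK.inv := by rw [hζc, one_mul]
        _ = c * (ζ * χ' AK.inv) := by ring
        _ = c := by rw [h4, mul_one]
    apply AK.algHom_ext
    · rw [h2, hχt]
    · rw [h3, hχinv]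

end Points

end Groth.Agent.Lib.T2H3.SekSuwaAlg
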