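import Mathlib
import Groth.Prelude.Def_SekSuwa2
import Groth.Agent.Lib.T2H3SekSuwaAlg

/-!
# The coordinate ring of `G_{λ,N}` is `R[X]/(P_{λ,N})`

* `akEquiv`: `AdjoinRoot (psiPoly lam N h) ≃ₐ[R] AK R lam N h` for `N > 0` (`R` a domain).
* `free_AK`, `flat_AK`: hence `AK` is a free `R`-module.
* `exists_aeval_t`: every element of `AK` is a polynomial in `t`.
* `smul_deriv_t`: `N λ · D(φ t) = 0` for every `R`-derivation `D` of an `R`-algebra receiving `AK`.
-/

set_option autoImplicit false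
universe u v

open Polynomial

namespace Groth.Agent.Lib.T2H3.SekSuwaFree

open SekSuwa Groth.Agent.Lib.T2H3.SekSuwaAlg

variable {R : Type u} [CommRing R] {lam : R} {N : ℕ} (h : DivCond lam N)

/-- in `R[X]/(P)`, `(1 + λ root)^N = 1`. -/
lemma root_pow : (1 + lam • AdjoinRoot.root (psiPoly lam N h)) ^ N = 1 := by
  have := aeval_psiPoly h (AdjoinRoot.root (psiPoly lam N h))
  rw [AdjoinRoot.aeval_eq, AdjoinRoot.mk_self, mul_zero] at this
  rw [Algebra.smul_def]
  exact (sub_eq_zero.mp this.symm)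

lemma root_rel (hN : 0 < N) :
    (1 + lam • AdjoinRoot.root (psiPoly lam N h)) *
      (1 + lam • AdjoinRoot.root (psiPoly lam N h)) ^ (N - 1) = 1 := by
  rw [← pow_succ', Nat.sub_add_cancel hN, root_pow]

/-- the map `A → R[X]/(P)`. -/
noncomputable def toAdjA (hN : 0 < N) : A R lam →ₐ[R] AdjoinRoot (psiPoly lam N h) :=
  A.lift R lam (AdjoinRoot.root (psiPoly lam N h))
    ((1 + lam • AdjoinRoot.root (psiPoly lam N h)) ^ (N - 1)) (root_rel h hN)

lemma toAdjA_kerGen (hN : 0 < N) : toAdjA h hN (kerGen lam N h) = 0 := by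
  rw [kerGen, ← Polynomial.aeval_algHom_apply, toAdjA, A.lift_t, AdjoinRoot.aeval_eq,
    AdjoinRoot.mk_self]

/-- the map `AK → R[X]/(P)`. -/
noncomputable def toAdj (hN : 0 < N) : AK R lam N h →ₐ[R] AdjoinRoot (psiPoly lam N h) :=
  Ideal.Quotient.liftₐ (kerIdeal lam N h) (toAdjA h hN) (by
    intro a ha
    obtain ⟨d, rfl⟩ := Ideal.mem_span_singleton'.mp ha
    rw [map_mul, toAdjA_kerGen, mul_zero])

lemma toAdj_mk (hN : 0 < N) (z : A R lam) : toAdj h hN (AK.mkHom R lam N h z) = toAdjA h hN z :=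
  rfl

lemma toAdj_t (hN : 0 < N) : toAdj h hN AK.t = AdjoinRoot.root (psiPoly lam N h) := by
  rw [AK.t, toAdj_mk, toAdjA, A.lift_t]

lemma toAdj_inv (hN : 0 < N) :
    toAdj h hN AK.inv = (1 + lam • AdjoinRoot.root (psiPoly lam N h)) ^ (N - 1) := by
  rw [AK.inv, toAdj_mk, toAdjA, A.lift_inv]

/-- the map `R[X]/(P) → AK`. -/
noncomputable def fromAdj : AdjoinRoot (psiPoly lam N h) →ₐ[R] AK R lam N h :=
  AdjoinRoot.liftAlgHom (psiPoly lam N h) (Algebra.ofId R (AK R lam N h)) AK.t (by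
    have := AK.aeval_t (R := R) (lam := lam) (N := N) (h := h)
    rw [Polynomial.aeval_def] at this
    exact this)

lemma fromAdj_root : fromAdj h (AdjoinRoot.root (psiPoly lam N h)) = AK.t :=
  AdjoinRoot.liftAlgHom_root _ _ _ _

/-- `R[X]/(P_{λ,N}) ≃ AK`. -/
noncomputable def akEquiv (hN : 0 < N) : AdjoinRoot (psiPoly lam N h) ≃ₐ[R] AK R lam N h :=
  AlgEquiv.ofAlgHom (fromAdj h) (toAdj h hN)
    (by
      apply AK.algHom_ext
      · rw [AlgHom.comp_apply, toAdj_t, fromAdj_root, AlgHom.id_apply]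
      · rw [AlgHom.comp_apply, toAdj_inv, map_pow, map_add, map_one, map_smul, fromAdj_root,
          AlgHom.id_apply, inv_eq h hN])
    (by
      apply AdjoinRoot.algHom_ext
      rw [AlgHom.comp_apply, fromAdj_root, toAdj_t, AlgHom.id_apply])

lemma akEquiv_root (hN : 0 < N) : akEquiv h hN (AdjoinRoot.root _) = AK.t := fromAdj_root h

theorem free_AK [IsDomain R] (hN : 0 < N) : Module.Free R (AK R lam N h) :=
  haveI := (monic_psiPoly h hN).free_adjoinRoot
  Module.Free.of_equiv (akEquiv h hN).toLinearEquiv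

theorem flat_AK [IsDomain R] (hN : 0 < N) : Module.Flat R (AK R lam N h) :=
  haveI := free_AK h hN
  inferInstance

/-- every element of `AK` is a polynomial in `t`. -/
theorem exists_aeval_t (hN : 0 < N) (a : AK R lam N h) : ∃ q : R[X], aeval AK.t q = a := by
  obtain ⟨b, rfl⟩ := (akEquiv h hN).surjective a
  obtain ⟨q, rfl⟩ := AdjoinRoot.mk_surjective b
  refine ⟨q, ?_⟩
  rw [← AdjoinRoot.aeval_eq, ← akEquiv_root h hN]
  exact (Polynomial.aeval_algHom_apply (akEquiv h hN).toAlgHom _ q)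

section Deriv

variable {S' : Type v} [CommRing S'] [Algebra R S'] {M : Type*} [AddCommGroup M] [Module R M]
  [Module S' M]

/-- `N λ · D(φ t) = 0`. -/
theorem smul_deriv_t (φ : AK R lam N h →ₐ[R] S') (D : Derivation R S' M) :
    ((N : R) * lam) • D (φ AK.t) = 0 := by
  set τ := φ AK.t with hτ
  have hu : (1 + lam • τ) ^ N = 1 := by
    have := congrArg φ (AK.u_pow (R := R) (lam := lam) (N := N) (h := h))
    rw [map_pow, map_add, map_one, map_smul] at this
    exact this
  have hD : D ((1 + lam • τ) ^ N) = 0 := by rw [hu]; exact D.map_one_eq_zero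
  rw [Derivation.leibniz_pow, map_add, D.map_one_eq_zero, zero_add, D.map_smul] at hD
  have h2 : (1 + lam • τ) • (N • (1 + lam • τ) ^ (N - 1) • lam • D τ) = 0 := by rw [hD, smul_zero]
  rcases Nat.eq_zero_or_pos N with hN | hN
  · subst hN; simp
  rw [smul_comm, smul_smul, ← pow_succ', Nat.sub_add_cancel hN, hu, one_smul] at h2
  rw [mul_smul, Nat.cast_smul_eq_nsmul]
  exact h2

/-- a derivation killing `φ t` kills the image of `φ`. -/
theorem deriv_eq_zero_of_t (hN : 0 < N) (φ : AK R lam N h →ₐ[R] S') (D : Derivation R S' M)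
    (hD : D (φ AK.t) = 0) (a : AK R lam N h) : D (φ a) = 0 := by
  obtain ⟨q, rfl⟩ := exists_aeval_t h hN a
  rw [← Polynomial.aeval_algHom_apply, Derivation.map_aeval, hD, smul_zero]

end Deriv

end Groth.Agent.Lib.T2H3.SekSuwaFree
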