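import Mathlib
import Groth.Prelude.Def_SekSuwa2
import Groth.Agent.Lib.T2H3SekSuwaFree

/-!
# Functions on `G_{μ,N} × G_{λ,N}` are detected on points in fields of characteristic prime to `N`

* `isReduced_tensor`: `K ⊗ (AK_μ ⊗ AK_λ)` is reduced for a field `K ⊇ R` in which `N ≠ 0`.
* `eq_zero_of_fields`: an element of `AK_μ ⊗ AK_λ` killed by all ring maps to fields which are injective
  on `R` is zero.
-/

set_option autoImplicit false
universe u

open TensorProduct

namespace Groth.Agent.Lib.T2H3.SekSuwaRed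

open SekSuwa Groth.Agent.Lib.T2H3.SekSuwaAlg Groth.Agent.Lib.T2H3.SekSuwaFree

variable {R : Type u} [CommRing R] [IsDomain R] {lam mu : R} {N : ℕ}
  (h₁ : DivCond lam N) (h₂ : DivCond mu N)
  (K : Type u) [Field K] [Algebra R K]

theorem subsingleton_kaehler (hK : Function.Injective (algebraMap R K)) (hN : 0 < N)
    (hNR : (N : R) ≠ 0) :
    Subsingleton (Ω[(K ⊗[R] (AK R mu N h₂ ⊗[R] AK R lam N h₁))⁄K]) := by
  let D : Derivation R (K ⊗[R] (AK R mu N h₂ ⊗[R] AK R lam N h₁))
      (Ω[(K ⊗[R] (AK R mu N h₂ ⊗[R] AK R lam N h₁))⁄K]) :=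
    (KaehlerDifferential.D K (K ⊗[R] (AK R mu N h₂ ⊗[R] AK R lam N h₁))).restrictScalars R
  let φμ : AK R mu N h₂ →ₐ[R] K ⊗[R] (AK R mu N h₂ ⊗[R] AK R lam N h₁) :=
    (Algebra.TensorProduct.includeRight).comp Algebra.TensorProduct.includeLeft
  let φl : AK R lam N h₁ →ₐ[R] K ⊗[R] (AK R mu N h₂ ⊗[R] AK R lam N h₁) :=
    (Algebra.TensorProduct.includeRight).comp Algebra.TensorProduct.includeRight
  have hlam : lam ≠ 0 := nonZeroDivisors.ne_zero h₁.nzd
  have hmu : mu ≠ 0 := nonZeroDivisors.ne_zero h₂.nzd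
  have key : ∀ (r : R), r ≠ 0 → ∀ m : Ω[(K ⊗[R] (AK R mu N h₂ ⊗[R] AK R lam N h₁))⁄K],
      r • m = 0 → m = 0 := by
    intro r hr m hm
    rw [← algebraMap_smul K r m] at hm
    rcases smul_eq_zero.mp hm with h0 | h0
    · exact absurd (hK (h0.trans (map_zero _).symm)) hr
    · exact h0
  have hμt : D (φμ AK.t) = 0 :=
    key _ (mul_ne_zero hNR hmu) _ (smul_deriv_t h₂ φμ D)
  have hlt : D (φl AK.t) = 0 :=
    key _ (mul_ne_zero hNR hlam) _ (smul_deriv_t h₁ φl D)
  have hμ : ∀ a, D (φμ a) = 0 := deriv_eq_zero_of_t h₂ hN φμ D hμt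
  have hl : ∀ b, D (φl b) = 0 := deriv_eq_zero_of_t h₁ hN φl D hlt
  have hD : ∀ c, KaehlerDifferential.D K (K ⊗[R] (AK R mu N h₂ ⊗[R] AK R lam N h₁)) c = 0 := by
    intro c
    induction c using TensorProduct.induction_on with
    | zero => exact map_zero _
    | add x y hx hy => rw [map_add, hx, hy, add_zero]
    | tmul k x =>
      induction x using TensorProduct.induction_on with
      | zero => rw [tmul_zero]; exact map_zero _
      | add x y hx hy => rw [tmul_add, map_add, hx, hy, add_zero]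
      | tmul a b =>
        have e : (k ⊗ₜ[R] (a ⊗ₜ[R] b) : K ⊗[R] (AK R mu N h₂ ⊗[R] AK R lam N h₁)) =
            k • (φμ a * φl b) := by
          simp [φμ, φl, TensorProduct.smul_tmul']
        rw [e, Derivation.map_smul, Derivation.leibniz]
        have e1 : KaehlerDifferential.D K _ (φμ a) = 0 := hμ a
        have e2 : KaehlerDifferential.D K _ (φl b) = 0 := hl b
        rw [e1, e2, smul_zero, smul_zero, add_zero, smul_zero]
  have htop : (⊤ : Submodule (K ⊗[R] (AK R mu N h₂ ⊗[R] AK R lam N h₁))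
      (Ω[(K ⊗[R] (AK R mu N h₂ ⊗[R] AK R lam N h₁))⁄K])) = ⊥ := by
    rw [← KaehlerDifferential.span_range_derivation, Submodule.span_eq_bot]
    rintro _ ⟨c, rfl⟩
    exact hD c
  refine subsingleton_of_forall_eq 0 (fun x => ?_)
  have hx : x ∈ (⊤ : Submodule (K ⊗[R] (AK R mu N h₂ ⊗[R] AK R lam N h₁))
      (Ω[(K ⊗[R] (AK R mu N h₂ ⊗[R] AK R lam N h₁))⁄K])) := trivial
  rw [htop] at hx
  exact hx

theorem isReduced_tensor (hK : Function.Injective (algebraMap R K)) (hN : 0 < N)
    (hNR : (N : R) ≠ 0) :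
    IsReduced (K ⊗[R] (AK R mu N h₂ ⊗[R] AK R lam N h₁)) := by
  have : Algebra.FormallyUnramified K (K ⊗[R] (AK R mu N h₂ ⊗[R] AK R lam N h₁)) :=
    ⟨subsingleton_kaehler h₁ h₂ K hK hN hNR⟩
  have : Module.Finite R (AK R mu N h₂) := AKfinite h₂ hN
  have : Module.Finite R (AK R lam N h₁) := AKfinite h₁ hN
  exact Algebra.FormallyUnramified.isReduced_of_field K _

/-- an element of `AK_μ ⊗ AK_λ` killed by every ring map to a field that is injective on `R`
vanishes. -/
theorem eq_zero_of_fields (hN : 0 < N) (hNR : (N : R) ≠ 0)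
    (c : AK R mu N h₂ ⊗[R] AK R lam N h₁)
    (H : ∀ (L : Type u) [Field L] (θ : AK R mu N h₂ ⊗[R] AK R lam N h₁ →+* L),
      Function.Injective (θ.comp (algebraMap R (AK R mu N h₂ ⊗[R] AK R lam N h₁))) → θ c = 0) :
    c = 0 := by
  have := flat_AK h₁ hN
  have := flat_AK h₂ hN
  have hK : Function.Injective (algebraMap R (FractionRing R)) := IsFractionRing.injective R _
  have := isReduced_tensor h₁ h₂ (FractionRing R) hK hN hNR
  have hinjB : Function.Injective (Algebra.TensorProduct.includeRight :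
      AK R mu N h₂ ⊗[R] AK R lam N h₁ →ₐ[R]
        FractionRing R ⊗[R] (AK R mu N h₂ ⊗[R] AK R lam N h₁)) :=
    Algebra.TensorProduct.includeRight_injective hK
  apply hinjB
  rw [map_zero]
  have hnil : (Algebra.TensorProduct.includeRight :
      AK R mu N h₂ ⊗[R] AK R lam N h₁ →ₐ[R]
        FractionRing R ⊗[R] (AK R mu N h₂ ⊗[R] AK R lam N h₁)) c ∈
      nilradical (FractionRing R ⊗[R] (AK R mu N h₂ ⊗[R] AK R lam N h₁)) := by
    rw [nilradical_eq_sInf, Ideal.mem_sInf]
    intro q hq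
    have : q.IsPrime := hq
    let θ : AK R mu N h₂ ⊗[R] AK R lam N h₁ →+* q.ResidueField :=
      (algebraMap _ q.ResidueField).comp
        (Algebra.TensorProduct.includeRight :
          AK R mu N h₂ ⊗[R] AK R lam N h₁ →ₐ[R]
            FractionRing R ⊗[R] (AK R mu N h₂ ⊗[R] AK R lam N h₁)).toRingHom
    have hθ : Function.Injective (θ.comp (algebraMap R (AK R mu N h₂ ⊗[R] AK R lam N h₁))) := by
      have e : θ.comp (algebraMap R (AK R mu N h₂ ⊗[R] AK R lam N h₁)) =
          ((algebraMap _ q.ResidueField).comp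
            (algebraMap (FractionRing R)
              (FractionRing R ⊗[R] (AK R mu N h₂ ⊗[R] AK R lam N h₁)))).comp
            (algebraMap R (FractionRing R)) := by
        ext r
        simp only [θ, RingHom.comp_apply]
        congr 1
        change Algebra.TensorProduct.includeRight (algebraMap R _ r) = _
        rw [AlgHom.commutes]
        exact IsScalarTower.algebraMap_apply R (FractionRing R) _ r
      rw [e, RingHom.coe_comp]
      exact (RingHom.injective _).comp hK
    have := H q.ResidueField θ hθ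
    exact (Ideal.algebraMap_residueField_eq_zero).mp this
  rw [nilradical_eq_zero] at hnil
  exact hnil

end Groth.Agent.Lib.T2H3.SekSuwaRed
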