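import Groth.Agent.Lib.T2H3SekSuwaAlg
import Groth.Agent.Lib.Helper27GaGm

/-!
# Points of affine `R`-schemes and the homomorphism `α^{λ,N}` over a locus where `λ` is invertible
-/

set_option autoImplicit false
set_option linter.style.haveILetI false
universe u

open CategoryTheory MonoidalCategory CartesianMonoidalCategory MonObj GrpObj AlgebraicGeometry Limits

namespace Groth.Agent.Lib.T2H3.SekSuwaSch

open Groth.Agent.Lib.Helper27.GaGm SekSuwa

section General

variable {R : Type u} [CommRing R] {A₁ A₂ : Type u} [CommRing A₁] [CommRing A₂]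
  [Algebra R A₁] [Algebra R A₂]

/-- the underlying morphism to `Spec A'`, with a clean type. -/
noncomputable def pt (A' : Type u) [CommRing A'] [Algebra R A']
    {T' : Over (Spec (CommRingCat.of R))}
    (c : T' ⟶ (Spec (CommRingCat.of A')).asOver (Spec (CommRingCat.of R))) :
    T'.left ⟶ Spec (CommRingCat.of A') := c.left

lemma pt_w (A' : Type u) [CommRing A'] [Algebra R A'] {T' : Over (Spec (CommRingCat.of R))}
    (c : T' ⟶ (Spec (CommRingCat.of A')).asOver (Spec (CommRingCat.of R))) :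
    pt A' c ≫ Spec.map (CommRingCat.ofHom (algebraMap R A')) = T'.hom := Over.w c

/-- build a point from a morphism to `Spec A'`. -/
noncomputable def mkPt (A' : Type u) [CommRing A'] [Algebra R A']
    {T' : Over (Spec (CommRingCat.of R))} (y : T'.left ⟶ Spec (CommRingCat.of A'))
    (hy : y ≫ Spec.map (CommRingCat.ofHom (algebraMap R A')) = T'.hom) :
    T' ⟶ (Spec (CommRingCat.of A')).asOver (Spec (CommRingCat.of R)) := Over.homMk y hy

lemma pt_mkPt (A' : Type u) [CommRing A'] [Algebra R A']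
    {T' : Over (Spec (CommRingCat.of R))} (y : T'.left ⟶ Spec (CommRingCat.of A'))
    (hy : y ≫ Spec.map (CommRingCat.ofHom (algebraMap R A')) = T'.hom) :
    pt A' (mkPt A' y hy) = y := rfl

lemma pt_injective (A' : Type u) [CommRing A'] [Algebra R A']
    {T' : Over (Spec (CommRingCat.of R))}
    {c c' : T' ⟶ (Spec (CommRingCat.of A')).asOver (Spec (CommRingCat.of R))}
    (hcc : pt A' c = pt A' c') : c = c' := Over.OverMorphism.ext hcc

lemma pt_comp {T' : Over (Spec (CommRingCat.of R))} (φ : A₂ →+* A₁)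
    (α : (Spec (CommRingCat.of A₁)).asOver (Spec (CommRingCat.of R)) ⟶
      (Spec (CommRingCat.of A₂)).asOver (Spec (CommRingCat.of R)))
    (hα : α.left = Spec.map (CommRingCat.ofHom φ))
    (c : T' ⟶ (Spec (CommRingCat.of A₁)).asOver (Spec (CommRingCat.of R))) :
    pt A₂ (c ≫ α) = pt A₁ c ≫ Spec.map (CommRingCat.ofHom φ) := by
  rw [← hα]
  rfl

lemma fnHom_comp_algebraMap (A' : Type u) [CommRing A'] [Algebra R A']
    {T' : Over (Spec (CommRingCat.of R))}
    (c : T' ⟶ (Spec (CommRingCat.of A')).asOver (Spec (CommRingCat.of R))) :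
    (fnHom (pt A' c)).comp (algebraMap R A') = fnHom T'.hom := by
  ext r
  rw [RingHom.comp_apply, ← fn_eq, ← fn_eq, ← fn_specMap, pt_w]

/-- `T'`-points: a morphism `α` of affine `R`-schemes given by a ring map `φ` induces a bijection on
`T'`-points as soon as composition with `φ` is a bijection on ring maps to `Γ(T')` over `R`. -/
theorem existsUnique_over_hom (T' : Over (Spec (CommRingCat.of R))) (φ : A₂ →+* A₁)
    (α : (Spec (CommRingCat.of A₁)).asOver (Spec (CommRingCat.of R)) ⟶
      (Spec (CommRingCat.of A₂)).asOver (Spec (CommRingCat.of R)))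
    (hα : α.left = Spec.map (CommRingCat.ofHom φ))
    (H : ∀ ψ : A₂ →+* Γ(T'.left, ⊤), ψ.comp (algebraMap R A₂) = fnHom T'.hom →
      ∃! χ : A₁ →+* Γ(T'.left, ⊤), χ.comp (algebraMap R A₁) = fnHom T'.hom ∧ χ.comp φ = ψ)
    (d : T' ⟶ (Spec (CommRingCat.of A₂)).asOver (Spec (CommRingCat.of R))) :
    ∃! c : T' ⟶ (Spec (CommRingCat.of A₁)).asOver (Spec (CommRingCat.of R)), c ≫ α = d := by
  obtain ⟨χ, ⟨hχ1, hχ2⟩, huniq⟩ := H (fnHom (pt A₂ d)) (fnHom_comp_algebraMap A₂ d)
  obtain ⟨y, hy⟩ := fn_surj (Y := T'.left) χ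
  have hyw : y ≫ Spec.map (CommRingCat.ofHom (algebraMap R A₁)) = T'.hom := by
    apply fn_ext
    intro r
    rw [fn_specMap, hy, fn_eq, ← hχ1]
    rfl
  refine ⟨mkPt A₁ y hyw, ?_, ?_⟩
  · apply pt_injective A₂
    rw [pt_comp φ α hα, pt_mkPt]
    apply fn_ext
    intro a
    rw [fn_specMap, hy, fn_eq, ← hχ2]
    rfl
  · intro c' hc'
    apply pt_injective A₁
    rw [pt_mkPt]
    apply fn_ext
    intro a
    rw [hy]
    have h1 : fnHom (pt A₁ c') = χ := by
      apply huniq
      refine ⟨fnHom_comp_algebraMap A₁ c', ?_⟩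
      ext a'
      rw [RingHom.comp_apply, ← fn_eq, ← fn_eq, ← fn_specMap, ← pt_comp φ α hα, hc']
    rw [fn_eq, h1]

end General

section AlphaN

variable (R : Type u) [CommRing R] (lam : R) (N : ℕ) [NeZero N] (h : DivCond lam N)

/-- `α^{λ,N}` is bijective on `T'`-points whenever `λ` is invertible on `T'`. -/
theorem existsUnique_alphaN (T' : Over (Spec (CommRingCat.of R)))
    (hlam : IsUnit (fnHom T'.hom lam)) (d : T' ⟶ Red.diag R (ZMod N)) :
    ∃! c : T' ⟶ GK R lam N h, c ≫ alphaN R lam N h = d := by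
  refine existsUnique_over_hom T' (alphaNHom R lam N h : _ →+* _) (alphaN R lam N h) rfl ?_ d
  intro ψ hψ
  letI : Algebra R Γ(T'.left, ⊤) := (fnHom T'.hom).toAlgebra
  have halg : ∀ r : R, algebraMap R Γ(T'.left, ⊤) r = fnHom T'.hom r := fun r => rfl
  have hcomm : ∀ r : R, ψ (algebraMap R _ r) = algebraMap R Γ(T'.left, ⊤) r := by
    intro r
    rw [halg, ← hψ]; rfl
  let ψ' : MonoidAlgebra R (Multiplicative (ZMod N)) →ₐ[R] Γ(T'.left, ⊤) :=
    { toRingHom := ψ, commutes' := hcomm }
  obtain ⟨χ, hχ, huniq⟩ := SekSuwaAlg.existsUnique_algHom h (B := Γ(T'.left, ⊤)) hlam ψ'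
  refine ⟨(χ : AK R lam N h →+* Γ(T'.left, ⊤)), ⟨?_, ?_⟩, ?_⟩
  · ext r
    exact χ.commutes r
  · exact RingHom.ext fun a => congrArg (fun k => k a) hχ
  · rintro χ' ⟨hχ'1, hχ'2⟩
    have hcomm' : ∀ r : R, χ' (algebraMap R _ r) = algebraMap R Γ(T'.left, ⊤) r := by
      intro r
      rw [halg, ← hχ'1]; rfl
    let χ'' : AK R lam N h →ₐ[R] Γ(T'.left, ⊤) :=
      { toRingHom := χ', commutes' := hcomm' }
    have : χ'' = χ := by
      apply huniq
      exact AlgHom.ext fun a => congrArg (fun k => k a) hχ'2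
    rw [← this]
    rfl

/-- the same after base change along `f : X ⟶ Spec R`. -/
theorem existsUnique_bc_alphaN {X : Scheme.{u}} (f : X ⟶ Spec (CommRingCat.of R)) (T : Over X)
    (hlam : IsUnit (fnHom (T.hom ≫ f) lam))
    (d : T ⟶ Red.bc f (Red.diag R (ZMod N))) :
    ∃! c : T ⟶ Red.bc f (GK R lam N h), c ≫ (Over.pullback f).map (alphaN R lam N h) = d := by
  have hnat : ∀ c : T ⟶ Red.bc f (GK R lam N h),
      adjEquiv f (Red.diag R (ZMod N)) T (c ≫ (Over.pullback f).map (alphaN R lam N h)) =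
        adjEquiv f (GK R lam N h) T c ≫ alphaN R lam N h := by
    intro c
    exact Adjunction.homEquiv_naturality_right_symm _ _ _
  obtain ⟨c₀, hc₀, huniq⟩ := existsUnique_alphaN R lam N h ((Over.map f).obj T) hlam
    (adjEquiv f (Red.diag R (ZMod N)) T d)
  refine ⟨(adjEquiv f (GK R lam N h) T).symm c₀, ?_, ?_⟩
  · apply (adjEquiv f (Red.diag R (ZMod N)) T).injective
    rw [hnat, Equiv.apply_symm_apply, hc₀]
  · intro c hc
    apply (adjEquiv f (GK R lam N h) T).injective
    rw [Equiv.apply_symm_apply]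
    apply huniq
    rw [← hnat, hc]

end AlphaN


section Unit

variable {R : Type u} [CommRing R] [IsDomain R]

/-- Over the generic point of an integral scheme dominating `Spec R`, every nonzero element of `R`
becomes invertible. -/
theorem isUnit_fnHom_of_over_generic {X : Scheme.{u}} [IsIntegral X]
    (f : X ⟶ Spec (CommRingCat.of R)) [Surjective f] (lam : R) (hlam : lam ≠ 0) (T : Over X)
    (τ : T ⟶ Over.mk (X.fromSpecStalk (genericPoint X))) :
    IsUnit (fnHom (T.hom ≫ f) lam) := by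
  have hT : T.hom = τ.left ≫ X.fromSpecStalk (genericPoint X) := (Over.w τ).symm
  rw [← fn_eq, hT, Category.assoc, fn_comp, fn_comp]
  apply IsUnit.map τ.left.appTop.hom
  have hmem : genericPoint X ∈ X.basicOpen (fn f lam) := by
    have h1 : X.basicOpen (fn f lam) = f ⁻¹ᵁ (Spec (CommRingCat.of R)).basicOpen
        ((Scheme.ΓSpecIso (CommRingCat.of R)).inv lam) := by
      rw [Scheme.preimage_basicOpen_top]; rfl
    rw [h1, basicOpen_eq_of_affine]
    have hopen : IsOpen ((f ⁻¹ᵁ PrimeSpectrum.basicOpen lam : X.Opens) : Set X) :=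
      (f ⁻¹ᵁ PrimeSpectrum.basicOpen lam).2
    change genericPoint X ∈ ((f ⁻¹ᵁ PrimeSpectrum.basicOpen lam : X.Opens) : Set X)
    rw [(genericPoint_spec X).mem_open_set_iff hopen]
    obtain ⟨x, hx⟩ := f.surjective (⊥ : PrimeSpectrum R)
    refine ⟨x, trivial, ?_⟩
    change f x ∈ PrimeSpectrum.basicOpen lam
    rw [hx]
    change lam ∉ (⊥ : PrimeSpectrum R).asIdeal
    intro hmem'
    exact hlam hmem'
  rw [Scheme.mem_basicOpen_top] at hmem
  rw [Scheme.fromSpecStalk_appTop]
  simp only [CommRingCat.comp_apply]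
  apply IsUnit.map (CommRingCat.Hom.hom _)
  apply IsUnit.map (CommRingCat.Hom.hom _)
  exact hmem

end Unit

section Finite

variable (R : Type u) [CommRing R] [IsDomain R] (lam : R) (N : ℕ) (h : DivCond lam N)

theorem isFinite_bc_GK (hN : 0 < N) {X : Scheme.{u}} (f : X ⟶ Spec (CommRingCat.of R)) :
    IsFinite (Red.bc f (GK R lam N h)).hom := by
  have h1 : IsFinite (GK R lam N h).hom := by
    change IsFinite (Spec.map (CommRingCat.ofHom (algebraMap R (AK R lam N h))))
    rw [IsFinite.SpecMap_iff]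
    change (algebraMap R (AK R lam N h)).Finite
    rw [RingHom.finite_algebraMap]
    exact SekSuwaAlg.AKfinite h hN
  exact MorphismProperty.pullback_snd (P := @IsFinite) _ _ h1

end Finite

end Groth.Agent.Lib.T2H3.SekSuwaSch
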