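import Mathlib
import Groth.Prelude.Def_SekSuwa2
import Groth.Prelude.Def_AlgGrp
import Groth.Agent.Lib.T2H3SekSuwaFree
import Groth.Agent.Lib.T2H3SekSuwaSch
import Groth.Agent.Lib.Helper12Act
import Groth.Agent.Lib.T2H3SekSuwaRed

/-!
# Points of `G_{λ,N}` with values in a domain, and actions by automorphisms on them
-/

set_option autoImplicit false
universe u

open CategoryTheory MonoidalCategory CartesianMonoidalCategory MonObj GrpObj AlgebraicGeometry Limits
open Polynomial

namespace Groth.Agent.Lib.T2H3.SekSuwaAct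

open Groth.Agent.Lib.Helper27.GaGm SekSuwa Groth.Agent.Lib.T2H3.SekSuwaAlg
  Groth.Agent.Lib.T2H3.SekSuwaFree Groth.Agent.Lib.T2H3.SekSuwaSch

section Orbit

/-- a self-map of period dividing a prime `p` of a set with at most `p` elements, having a fixed
point, is the identity. -/
theorem eq_self_of_iterate_prime {X : Type*} [Finite X] {p : ℕ} (hp : p.Prime)
    (hcard : Nat.card X ≤ p) (σ : X → X) (hσ : ∀ x, σ^[p] x = x) (x₀ : X) (h₀ : σ x₀ = x₀)
    (x : X) : σ x = x := by
  have hdvd : Function.minimalPeriod σ x ∣ p :=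
    Function.IsPeriodicPt.minimalPeriod_dvd (hσ x)
  rcases (Nat.dvd_prime hp).mp hdvd with h1 | hpp
  · exact Function.minimalPeriod_eq_one_iff_isFixedPt.mp h1
  · exfalso
    have hfix : ∀ k : ℕ, σ^[k] x₀ = x₀ := fun k => Function.iterate_fixed h₀ k
    let f : Option (Fin p) → X := fun o => match o with
      | none => x₀
      | some i => σ^[i.1] x
    have hne : ∀ i : Fin p, σ^[i.1] x ≠ x₀ := by
      intro i hi
      have h2 : σ^[p - i.1] (σ^[i.1] x) = x := by
        rw [← Function.iterate_add_apply, Nat.sub_add_cancel i.2.le]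
        exact hσ x
      rw [hi, hfix] at h2
      have h3 : Function.minimalPeriod σ x = 1 := by
        rw [Function.minimalPeriod_eq_one_iff_isFixedPt, ← h2]
        exact h₀
      rw [hpp] at h3
      exact hp.one_lt.ne' h3
    have hf : Function.Injective f := by
      intro o o' hoo
      match o, o' with
      | none, none => rfl
      | none, some i => exact absurd hoo.symm (hne i)
      | some i, none => exact absurd hoo (hne i)
      | some i, some j =>
        have hi : i.1 ∈ Set.Iio (Function.minimalPeriod σ x) := by rw [hpp]; exact i.2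
        have hj : j.1 ∈ Set.Iio (Function.minimalPeriod σ x) := by rw [hpp]; exact j.2
        have := Function.iterate_injOn_Iio_minimalPeriod hi hj hoo
        exact congrArg some (Fin.ext this)
    have hc := Nat.card_le_card_of_injective f hf
    rw [Nat.card_eq_fintype_card, Fintype.card_option, Fintype.card_fin] at hc
    omega

end Orbit

variable {R : Type u} [CommRing R] {lam : R} {N : ℕ} (h : DivCond lam N)

section Points

variable {T : Over (Spec (CommRingCat.of R))}

/-- the value of the coordinate `t` at a point. -/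
noncomputable def tval (x : T ⟶ GK R lam N h) : Γ(T.left, ⊤) :=
  fnHom (pt (AK R lam N h) x) AK.t

lemma fnHom_algebraMap (x : T ⟶ GK R lam N h) (r : R) :
    fnHom (pt (AK R lam N h) x) (algebraMap R _ r) = fnHom T.hom r := by
  have := fnHom_comp_algebraMap (AK R lam N h) x
  exact congrArg (fun k : _ →+* _ => k r) this

lemma fnHom_aeval (x : T ⟶ GK R lam N h) (q : R[X]) :
    fnHom (pt (AK R lam N h) x) (aeval AK.t q) = eval₂ (fnHom T.hom) (tval h x) q := by
  rw [aeval_def, Polynomial.hom_eval₂, fnHom_comp_algebraMap]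
  rfl

lemma tval_injective (hN : 0 < N) {x x' : T ⟶ GK R lam N h} (hxx : tval h x = tval h x') :
    x = x' := by
  apply pt_injective
  apply fn_ext
  intro a
  obtain ⟨q, rfl⟩ := exists_aeval_t h hN a
  rw [fn_eq, fn_eq, fnHom_aeval, fnHom_aeval, hxx]

lemma eval₂_tval (x : T ⟶ GK R lam N h) :
    eval₂ (fnHom T.hom) (tval h x) (psiPoly lam N h) = 0 := by
  rw [← fnHom_aeval, AK.aeval_t, map_zero]

theorem natDegree_psiPoly [IsDomain R] : (psiPoly lam N h).natDegree = N := by
  have hlam : lam ≠ 0 := nonZeroDivisors.ne_zero h.nzd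
  have hlamN : lam ^ N ≠ 0 := pow_ne_zero _ hlam
  have hspec := psiPoly_spec h
  have hq : (1 + C lam * X : R[X]) = C lam * X + C 1 := by rw [C_1]; ring
  have hdeg1 : (1 + C lam * X : R[X]).natDegree = 1 := by
    rw [hq]; exact natDegree_linear hlam
  have hdegN : ((1 + C lam * X : R[X]) ^ N).natDegree = N := by
    rw [natDegree_pow, hdeg1, _root_.mul_one]
  have h1 : (C (lam ^ N) * psiPoly lam N h).natDegree = (psiPoly lam N h).natDegree :=
    natDegree_C_mul hlamN
  rw [← h1, hspec]
  rcases Nat.eq_zero_or_pos N with h0 | hN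
  · subst h0; simp
  · rw [natDegree_sub_eq_left_of_natDegree_lt, hdegN]
    rw [hdegN, natDegree_one]; exact hN

/-- points with values in a domain: there are at most `N` of them. -/
theorem finite_points [IsDomain R] [IsDomain Γ(T.left, ⊤)] (hN : 0 < N) :
    Finite (T ⟶ GK R lam N h) ∧ Nat.card (T ⟶ GK R lam N h) ≤ N := by
  classical
  have hmonic : ((psiPoly lam N h).map (fnHom T.hom)).Monic := (monic_psiPoly h hN).map _
  have hne : (psiPoly lam N h).map (fnHom T.hom) ≠ 0 := hmonic.ne_zero
  let F : (T ⟶ GK R lam N h) → {z // z ∈ ((psiPoly lam N h).map (fnHom T.hom)).roots.toFinset} :=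
    fun x => ⟨tval h x, by
      rw [Multiset.mem_toFinset, mem_roots hne, IsRoot.def, Polynomial.eval_map]
      exact eval₂_tval h x⟩
  have hF : Function.Injective F := by
    intro x x' hxx
    exact tval_injective h hN (congrArg Subtype.val hxx)
  have : Finite (T ⟶ GK R lam N h) := Finite.of_injective F hF
  refine ⟨inferInstance, ?_⟩
  calc Nat.card (T ⟶ GK R lam N h)
      ≤ Nat.card {z // z ∈ ((psiPoly lam N h).map (fnHom T.hom)).roots.toFinset} :=
        Nat.card_le_card_of_injective F hF
    _ = ((psiPoly lam N h).map (fnHom T.hom)).roots.toFinset.card := by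
        rw [Nat.card_eq_fintype_card, Fintype.card_coe]
    _ ≤ Multiset.card ((psiPoly lam N h).map (fnHom T.hom)).roots := Multiset.toFinset_card_le _
    _ ≤ ((psiPoly lam N h).map (fnHom T.hom)).natDegree := card_roots' _
    _ = N := by rw [(monic_psiPoly h hN).natDegree_map]; exact natDegree_psiPoly h

section Pow

/-- value of the unit `1 + λ t` at a point. -/
noncomputable def uval (x : T ⟶ GK R lam N h) : Γ(T.left, ⊤) :=
  fnHom (pt (AK R lam N h) x) (1 + lam • AK.t)

lemma uval_eq (x : T ⟶ GK R lam N h) : uval h x = 1 + fnHom T.hom lam * tval h x := by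
  unfold uval tval
  rw [map_add, map_one, Algebra.smul_def, map_mul, fnHom_algebraMap]

lemma uval_mul (x y : T ⟶ GK R lam N h) : uval h (x * y) = uval h x * uval h y :=
  fn_mul_left_of_grouplike x y (1 + lam • AK.t) (AK.uGL R lam N h).2.comul_eq_tmul_self

lemma isUnit_uval (x : T ⟶ GK R lam N h) : IsUnit (uval h x) := by
  have := congrArg (fnHom (pt (AK R lam N h) x)) (u_mul_inv h)
  rw [map_mul, map_one] at this
  exact IsUnit.of_mul_eq_one _ this

lemma uval_one : uval h (1 : T ⟶ GK R lam N h) = 1 := by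
  have := uval_mul h (1 : T ⟶ GK R lam N h) 1
  rw [_root_.mul_one] at this
  exact (isUnit_uval h 1).mul_left_cancel (by rw [← this, _root_.mul_one])

lemma uval_pow (x : T ⟶ GK R lam N h) (n : ℕ) : uval h (x ^ n) = uval h x ^ n := by
  induction n with
  | zero => rw [pow_zero, pow_zero, uval_one]
  | succ n ih => rw [pow_succ, pow_succ, uval_mul, ih]

/-- every point of `G_{λ,N}` with values in a domain containing `R` is killed by `N`. -/
theorem pow_eq_one [Nontrivial R] [IsDomain Γ(T.left, ⊤)] (hinj : Function.Injective (fnHom T.hom))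
    (hN : 0 < N) (g : T ⟶ GK R lam N h) : g ^ N = 1 := by
  have hlam : fnHom T.hom lam ≠ 0 := fun h0 =>
    (nonZeroDivisors.ne_zero h.nzd) (hinj (h0.trans (map_zero _).symm))
  apply tval_injective h hN
  have h1 : uval h (g ^ N) = uval h 1 := by
    rw [uval_pow, uval_one]
    unfold uval
    rw [← map_pow, AK.u_pow, map_one]
  rw [uval_eq, uval_eq] at h1
  exact mul_left_cancel₀ hlam (add_left_cancel h1)

end Pow

end Points

section Action

variable [IsDomain R] {mu : R} {p : ℕ}

/-- an action of `G_{μ,p}` on `G_{λ,p}` by automorphisms is trivial on points with values in a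
domain containing `R`. -/
theorem act_eq_of_domain (hp : p.Prime) (h₁ : DivCond lam p) (h₂ : DivCond mu p)
    (a : AlgGrp.Action (GK R mu p h₂) (GK R lam p h₁))
    (T : Over (Spec (CommRingCat.of R))) [IsDomain Γ(T.left, ⊤)]
    (hinj : Function.Injective (fnHom T.hom))
    (hmul : ∀ (g : T ⟶ GK R mu p h₂) (x y : T ⟶ GK R lam p h₁),
      lift g (x * y) ≫ a.act = (lift g x ≫ a.act) * (lift g y ≫ a.act))
    (g : T ⟶ GK R mu p h₂) (x : T ⟶ GK R lam p h₁) : lift g x ≫ a.act = x := by
  obtain ⟨hfin, hcard⟩ := finite_points (T := T) h₁ hp.pos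
  have hiter : ∀ (n : ℕ) (y : T ⟶ GK R lam p h₁),
      (fun z => lift g z ≫ a.act)^[n] y = lift (g ^ n) y ≫ a.act := by
    intro n
    induction n with
    | zero =>
      intro y
      rw [Function.iterate_zero, id, pow_zero, Groth.Agent.Lib.Helper12.act_one]
    | succ n ih =>
      intro y
      rw [Function.iterate_succ_apply', ih, pow_succ', Groth.Agent.Lib.Helper12.act_mul]
  have hper : ∀ y : T ⟶ GK R lam p h₁, (fun z => lift g z ≫ a.act)^[p] y = y := by
    intro y
    rw [hiter, pow_eq_one h₂ hinj hp.pos, Groth.Agent.Lib.Helper12.act_one]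
  have hone : (fun z => lift g z ≫ a.act) (1 : T ⟶ GK R lam p h₁) = 1 := by
    have := hmul g 1 1
    rw [_root_.mul_one] at this
    exact (mul_eq_left.mp this.symm)
  exact eq_self_of_iterate_prime hp hcard (fun z => lift g z ≫ a.act) hper 1 hone x

end Action

section Glue

open TensorProduct

variable [IsDomain R] {mu : R} {p : ℕ}

set_option maxHeartbeats 800000 in
/-- an action of `G_{μ,p}` on `G_{λ,p}` by automorphisms is trivial. -/
theorem act_eq_snd (hp : p.Prime) (hpR : (p : R) ≠ 0) (h₁ : DivCond lam p) (h₂ : DivCond mu p)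
    (a : AlgGrp.Action (GK R mu p h₂) (GK R lam p h₁))
    (hmul : ∀ (T : Over (Spec (CommRingCat.of R))) (g : T ⟶ GK R mu p h₂)
      (x y : T ⟶ GK R lam p h₁),
      lift g (x * y) ≫ a.act = (lift g x ≫ a.act) * (lift g y ≫ a.act)) :
    a.act = snd (GK R mu p h₂) (GK R lam p h₁) := by
  apply Over.OverMorphism.ext
  let e := pullbackSpecIso R (AK R mu p h₂) (AK R lam p h₁)
  let m₁ : pullback (Spec.map (CommRingCat.ofHom (algebraMap R (AK R mu p h₂))))
      (Spec.map (CommRingCat.ofHom (algebraMap R (AK R lam p h₁)))) ⟶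
        Spec (CommRingCat.of (AK R lam p h₁)) := a.act.left
  let m₂ : pullback (Spec.map (CommRingCat.ofHom (algebraMap R (AK R mu p h₂))))
      (Spec.map (CommRingCat.ofHom (algebraMap R (AK R lam p h₁)))) ⟶
        Spec (CommRingCat.of (AK R lam p h₁)) := (snd (GK R mu p h₂) (GK R lam p h₁)).left
  change m₁ = m₂
  rw [← cancel_epi e.inv]
  apply fn_ext
  intro z
  have hΓinj : Function.Injective
      (Scheme.ΓSpecIso (CommRingCat.of (AK R mu p h₂ ⊗[R] AK R lam p h₁))).hom.hom :=
    (ConcreteCategory.bijective_of_isIso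
      (Scheme.ΓSpecIso (CommRingCat.of (AK R mu p h₂ ⊗[R] AK R lam p h₁))).hom).1
  rw [← sub_eq_zero]
  apply hΓinj
  rw [map_zero]
  apply Groth.Agent.Lib.T2H3.SekSuwaRed.eq_zero_of_fields h₁ h₂ hp.pos hpR
  intro L _ θ hθ
  -- the point of `G_μ ⊗ G_λ` given by `θ`
  let T : Over (Spec (CommRingCat.of R)) := Over.mk (Spec.map (CommRingCat.ofHom
    (θ.comp (algebraMap R (AK R mu p h₂ ⊗[R] AK R lam p h₁)))))
  have hw : (Spec.map (CommRingCat.ofHom θ) ≫ e.inv) ≫
      (GK R mu p h₂ ⊗ GK R lam p h₁).hom = T.hom := by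
    rw [Over.tensorObj_hom]
    change (Spec.map (CommRingCat.ofHom θ) ≫ e.inv) ≫ pullback.fst _ _ ≫
      Spec.map (CommRingCat.ofHom (algebraMap R (AK R mu p h₂))) = _
    rw [Category.assoc, pullbackSpecIso_inv_fst_assoc, ← Spec.map_comp, ← Spec.map_comp]
    rfl
  let ptY : T ⟶ GK R mu p h₂ ⊗ GK R lam p h₁ :=
    Over.homMk (Spec.map (CommRingCat.ofHom θ) ≫ e.inv) hw
  have : IsDomain Γ(T.left, ⊤) :=
    MulEquiv.isDomain (B := L)
      (Scheme.ΓSpecIso (CommRingCat.of L)).commRingCatIsoToRingEquiv.toMulEquiv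
  have hinj : Function.Injective (fnHom T.hom) := by
    intro r r' hrr
    apply hθ
    have h1 : ∀ r : R, fnHom T.hom r = (Scheme.ΓSpecIso (CommRingCat.of L)).inv.hom
        ((θ.comp (algebraMap R (AK R mu p h₂ ⊗[R] AK R lam p h₁))) r) := by
      intro r
      have := fn_specMap (𝟙 (Spec (CommRingCat.of L)))
        (θ.comp (algebraMap R (AK R mu p h₂ ⊗[R] AK R lam p h₁))) r
      rw [Category.id_comp] at this
      rw [← fn_eq]
      refine this.trans ?_
      unfold fn
      simp
    rw [h1, h1] at hrr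
    exact (ConcreteCategory.bijective_of_isIso
      (Scheme.ΓSpecIso (CommRingCat.of L)).inv).1 hrr
  have key := act_eq_of_domain hp h₁ h₂ a T hinj (hmul T)
    (ptY ≫ fst _ _) (ptY ≫ snd _ _)
  rw [lift_comp_fst_snd] at key
  have key2 : (Spec.map (CommRingCat.ofHom θ) ≫ e.inv) ≫ m₁ =
      (Spec.map (CommRingCat.ofHom θ) ≫ e.inv) ≫ m₂ := congrArg CommaMorphism.left key
  have hnat : ∀ w : Γ(Spec (CommRingCat.of (AK R mu p h₂ ⊗[R] AK R lam p h₁)), ⊤),
      θ ((Scheme.ΓSpecIso (CommRingCat.of (AK R mu p h₂ ⊗[R] AK R lam p h₁))).hom.hom w) =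
        (Scheme.ΓSpecIso (CommRingCat.of L)).hom.hom
          ((Spec.map (CommRingCat.ofHom θ)).appTop.hom w) := by
    intro w
    have := Scheme.ΓSpecIso_naturality (CommRingCat.ofHom θ)
    exact (congrArg (fun k => k.hom w) this).symm
  rw [hnat, map_sub]
  have e1 : ∀ m : pullback (Spec.map (CommRingCat.ofHom (algebraMap R (AK R mu p h₂))))
      (Spec.map (CommRingCat.ofHom (algebraMap R (AK R lam p h₁)))) ⟶
        Spec (CommRingCat.of (AK R lam p h₁)),
      (Spec.map (CommRingCat.ofHom θ)).appTop.hom (fn (e.inv ≫ m) z) =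
        fn ((Spec.map (CommRingCat.ofHom θ) ≫ e.inv) ≫ m) z := by
    intro m
    rw [Category.assoc, fn_comp]
    rfl
  rw [e1, e1, key2, sub_self, map_zero]

end Glue

end Groth.Agent.Lib.T2H3.SekSuwaAct
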