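import Mathlib
import Groth.Prelude.Def_SekSuwa2
import Groth.Prelude.Def_NonAbH2
import Groth.Agent.Lib.T2H3H90
import Groth.Agent.Lib.T2H3SekSuwaSch
import Groth.Agent.Lib.T2H3GenericTorsor
import Groth.Agent.Lib.Helper12Torsor

/-!
# Hilbert 90 for the Sekiguchi–Suwa group `G^(λ)`

fpqc torsors under (a base change of) `G^(λ) = Spec R[t, 1/(1+λt)]` over a base flat over a domain `R`
(with `λ ≠ 0`) are Zariski locally trivial.
-/

set_option autoImplicit false
set_option linter.style.haveILetI false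
universe u

open CategoryTheory MonoidalCategory CartesianMonoidalCategory MonObj GrpObj AlgebraicGeometry Limits
open TensorProduct

namespace Groth.Agent.Lib.T2H3.SekSuwaH90

open Groth.Agent.Lib.T2H3.H90Alg Groth.Agent.Lib.T2H3.H90Geom Groth.Agent.Lib.Helper27.GaGm
  Groth.Agent.Lib.T2H3.SekSuwaSch Groth.Agent.Lib.T2H3.H90 SekSuwa

/-! ### The algebraic descent lemma -/

section Alg

variable {K K' : Type*} [CommRing K] [CommRing K'] [Algebra K K']
variable {B C B' C' : Type*} [CommRing B] [CommRing C] [CommRing B'] [CommRing C']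
  [Algebra K B] [Algebra K C]
variable (α β : B →+* C) (hα : ∀ k, α (algebraMap K B k) = algebraMap K C k)
  (hβ : ∀ k, β (algebraMap K B k) = algebraMap K C k)
  (α' β' : B' →+* C') (eB : B ⊗[K] K' ≃+* B') (eC : C ⊗[K] K' ≃+* C')
  (hα' : ∀ b k, α' (eB (b ⊗ₜ k)) = eC (α b ⊗ₜ k))
  (hβ' : ∀ b k, β' (eB (b ⊗ₜ k)) = eC (β b ⊗ₜ k))

include hα hβ hα' hβ' in
/-- multiplicative descent with a congruence modulo `λ`. -/
theorem exists_of_baseChange_mul_lam [Module.FaithfullyFlat K K'] (τ : C) (b' c' : B')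
    (hbc : b' * c' = 1) (hb' : α' b' = eC (τ ⊗ₜ 1) * β' b')
    (hinv : ∀ u : B', α' u = β' u → ∃ k' : K', u = eB (1 ⊗ₜ k'))
    (hinj : ∀ k' : K', eB (1 ⊗ₜ k') = 0 → k' = 0)
    (σ' : B' →+* K') (hσ : ∀ k' : K', σ' (eB (1 ⊗ₜ k')) = k')
    (lam : K) (t' : B') (hbt : b' = 1 + eB (algebraMap K B lam ⊗ₜ 1) * t')
    (𝔭 : Ideal K) (h𝔭 : 𝔭 ≠ ⊤) :
    ∃ (ℓ m b₁ : B) (k c : K), k ∉ 𝔭 ∧ α ℓ = τ * β ℓ ∧ ℓ * m = algebraMap K B k ∧
      ℓ = algebraMap K B c + algebraMap K B lam * b₁ ∧ ¬ (c ∈ 𝔭 ∧ lam ∈ 𝔭) := by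
  obtain ⟨ℓ, m, k, hk, hℓ, hℓm⟩ := exists_of_baseChange_mul α β hα hβ α' β' eB eC hα' hβ' τ b' c'
    hbc hb' hinv hinj 𝔭 h𝔭
  set τ' := eC (τ ⊗ₜ 1) with hτ'
  have hc' : τ' * α' c' = β' c' := by
    have e1 : α' b' * α' c' = 1 := by rw [← map_mul, hbc, map_one]
    have e2 : β' b' * β' c' = 1 := by rw [← map_mul, hbc, map_one]
    calc τ' * α' c' = τ' * α' c' * (β' b' * β' c') := by rw [e2, _root_.mul_one]
      _ = (τ' * β' b') * α' c' * β' c' := by ring
      _ = β' c' := by rw [← hb', e1, _root_.one_mul]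
  -- `ℓ ⊗ 1` is a constant multiple of `b'`
  have hℓ' : α' (eB (ℓ ⊗ₜ 1)) = τ' * β' (eB (ℓ ⊗ₜ 1)) := by
    rw [hα', hβ', hℓ, hτ', ← map_mul, Algebra.TensorProduct.tmul_mul_tmul, _root_.one_mul]
  have hu : α' (eB (ℓ ⊗ₜ 1) * c') = β' (eB (ℓ ⊗ₜ 1) * c') := by
    rw [map_mul, map_mul, hℓ', ← hc']; ring
  obtain ⟨κ', hκ'⟩ := hinv _ hu
  have hℓb : eB (ℓ ⊗ₜ 1) = eB (1 ⊗ₜ κ') * b' := by
    rw [← hκ', _root_.mul_assoc, _root_.mul_comm c' b', hbc, _root_.mul_one]
  -- the submodule `K·1 + λ B`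
  set g : K × B →ₗ[K] B :=
    (LinearMap.toSpanSingleton K B 1).coprod (lam • LinearMap.id) with hg
  have hrange : ∀ y : B ⊗[K] K', (algebraMap K B lam ⊗ₜ[K] (1 : K')) * y ∈
      LinearMap.range (LinearMap.rTensor K' g) := by
    intro y
    induction y using TensorProduct.induction_on with
    | zero => simp
    | tmul b k'' =>
      refine ⟨((0 : K), b) ⊗ₜ k'', ?_⟩
      simp [hg, Algebra.TensorProduct.tmul_mul_tmul, Algebra.smul_def]
    | add x y hx hy => rw [mul_add]; exact add_mem hx hy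
  have h1 : ℓ ⊗ₜ[K] (1 : K') = (1 : B) ⊗ₜ κ' +
      (algebraMap K B lam ⊗ₜ[K] (1 : K')) * eB.symm (eB (1 ⊗ₜ κ') * t') := by
    apply eB.injective
    rw [hℓb, hbt, map_add, map_mul, RingEquiv.apply_symm_apply]
    ring
  have h2 : ℓ ⊗ₜ[K] (1 : K') ∈ LinearMap.range (LinearMap.rTensor K' g) := by
    rw [h1]
    refine add_mem ⟨((1 : K), (0 : B)) ⊗ₜ κ', ?_⟩ (hrange _)
    simp [hg]
  have h3 : ℓ ⊗ₜ[K] (1 : K') ∈
      LinearMap.range (LinearMap.rTensor K' (LinearMap.range g).subtype) := by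
    have e : LinearMap.rTensor K' g = LinearMap.rTensor K' (LinearMap.range g).subtype ∘ₗ
        LinearMap.rTensor K' g.rangeRestrict := by
      rw [← LinearMap.rTensor_comp]
      rfl
    rw [e] at h2
    obtain ⟨z, hz⟩ := h2
    exact ⟨_, hz⟩
  obtain ⟨⟨c, b₁⟩, hcb⟩ := mem_of_tmul_one_mem_range (K' := K') _ ℓ h3
  have hcb' : ℓ = algebraMap K B c + algebraMap K B lam * b₁ := by
    rw [← hcb]
    simp [hg, Algebra.smul_def]
  refine ⟨ℓ, m, b₁, k, c, hk, hℓ, hℓm, hcb', ?_⟩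
  rintro ⟨hc, hl⟩
  apply hk
  -- evaluate at the section
  have hσK : ∀ x : K, σ' (eB (algebraMap K B x ⊗ₜ 1)) = algebraMap K K' x := by
    intro x
    have : algebraMap K B x ⊗ₜ[K] (1 : K') = (1 : B) ⊗ₜ algebraMap K K' x := by
      rw [Algebra.algebraMap_eq_smul_one, Algebra.algebraMap_eq_smul_one, smul_tmul]
    rw [this, hσ]
  have h4 : algebraMap K K' k = σ' (eB (ℓ ⊗ₜ 1)) * σ' (eB (m ⊗ₜ 1)) := by
    rw [← hσK, ← hℓm, ← map_mul, ← map_mul, Algebra.TensorProduct.tmul_mul_tmul, _root_.one_mul]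
  have h5 : σ' (eB (ℓ ⊗ₜ 1)) = algebraMap K K' c + algebraMap K K' lam * σ' (eB (b₁ ⊗ₜ 1)) := by
    rw [hcb', add_tmul, map_add, map_add, hσK]
    congr 1
    rw [← hσK, ← map_mul, ← map_mul, Algebra.TensorProduct.tmul_mul_tmul, _root_.one_mul]
  have h6 : algebraMap K K' k ∈ 𝔭.map (algebraMap K K') := by
    rw [h4, h5]
    apply Ideal.mul_mem_right
    apply add_mem
    · exact Ideal.mem_map_of_mem _ hc
    · exact Ideal.mul_mem_right _ _ (Ideal.mem_map_of_mem _ hl)
  have h7 : k ∈ (𝔭.map (algebraMap K K')).comap (algebraMap K K') := h6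
  rwa [Ideal.comap_map_eq_self_of_faithfullyFlat] at h7

end Alg

/-! ### Points of the base change of `G^(λ)` -/

section Points

variable {R : Type u} [CommRing R] (lam : R) {S : Scheme.{u}} (f : S ⟶ Spec (CommRingCat.of R))

/-- `λ` as a function on `T`. -/
noncomputable def lamOf (T : Over S) : Γ(T.left, ⊤) := fnHom (T.hom ≫ f) lam

/-- the underlying morphism to `Spec A` of a point of the base change of `G^(λ)`. -/
noncomputable def gPt {T : Over S} (x : T ⟶ Red.bc f (G R lam)) :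
    T.left ⟶ Spec (CommRingCat.of (A R lam)) :=
  (adjEquiv f (G R lam) T x).left

/-- the coordinate `t` of a point. -/
noncomputable def tFn {T : Over S} (x : T ⟶ Red.bc f (G R lam)) : Γ(T.left, ⊤) :=
  fnHom (gPt lam f x) A.t

/-- the unit `1 + λ t` of a point. -/
noncomputable def uFn {T : Over S} (x : T ⟶ Red.bc f (G R lam)) : Γ(T.left, ⊤) :=
  fnHom (gPt lam f x) A.u

variable {lam f}

lemma gPt_w {T : Over S} (x : T ⟶ Red.bc f (G R lam)) :
    gPt lam f x ≫ Spec.map (CommRingCat.ofHom (algebraMap R (A R lam))) = T.hom ≫ f :=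
  Over.w (adjEquiv f (G R lam) T x)

lemma fnHom_gPt_algebraMap {T : Over S} (x : T ⟶ Red.bc f (G R lam)) (r : R) :
    fnHom (gPt lam f x) (algebraMap R (A R lam) r) = fnHom (T.hom ≫ f) r := by
  rw [← fn_eq, ← fn_eq, ← fn_specMap, gPt_w]

lemma uFn_eq {T : Over S} (x : T ⟶ Red.bc f (G R lam)) :
    uFn lam f x = 1 + lamOf lam f T * tFn lam f x := by
  unfold uFn tFn lamOf
  rw [A.u_def, map_add, map_one, map_mul, fnHom_gPt_algebraMap]

lemma uFn_mul {T : Over S} (x y : T ⟶ Red.bc f (G R lam)) :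
    uFn lam f (x * y) = uFn lam f x * uFn lam f y := by
  unfold uFn gPt
  rw [adjEquiv_mul]
  exact fn_mul_left_of_grouplike _ _ A.u A.comul_u

lemma isUnit_uFn {T : Over S} (x : T ⟶ Red.bc f (G R lam)) : IsUnit (uFn lam f x) :=
  A.isUnit_u.map (fnHom (gPt lam f x))

lemma uFn_one {T : Over S} : uFn lam f (1 : T ⟶ Red.bc f (G R lam)) = 1 := by
  have := uFn_mul (lam := lam) (f := f) (1 : T ⟶ Red.bc f (G R lam)) 1
  rw [_root_.mul_one] at this
  exact (isUnit_uFn (1 : T ⟶ Red.bc f (G R lam))).mul_left_cancel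
    (by rw [← this, _root_.mul_one])

lemma gPt_comp {T T' : Over S} (g : T' ⟶ T) (x : T ⟶ Red.bc f (G R lam)) :
    gPt lam f (g ≫ x) = g.left ≫ gPt lam f x := by
  unfold gPt
  rw [adjEquiv_left, adjEquiv_left, Over.comp_left, Category.assoc]
  rfl

lemma uFn_comp {T T' : Over S} (g : T' ⟶ T) (x : T ⟶ Red.bc f (G R lam)) :
    uFn lam f (g ≫ x) = g.left.appTop (uFn lam f x) := by
  unfold uFn
  rw [gPt_comp, ← fn_eq, ← fn_eq, fn_comp]

lemma tFn_comp {T T' : Over S} (g : T' ⟶ T) (x : T ⟶ Red.bc f (G R lam)) :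
    tFn lam f (g ≫ x) = g.left.appTop (tFn lam f x) := by
  unfold tFn
  rw [gPt_comp, ← fn_eq, ← fn_eq, fn_comp]

lemma lamOf_comp {T T' : Over S} (g : T' ⟶ T) :
    lamOf lam f T' = g.left.appTop (lamOf lam f T) := by
  unfold lamOf
  rw [← fn_eq, ← fn_eq, ← fn_comp, ← Category.assoc, Over.w g]

lemma tFn_injective {T : Over S} {x y : T ⟶ Red.bc f (G R lam)}
    (h : tFn lam f x = tFn lam f y) : x = y := by
  apply (adjEquiv f (G R lam) T).injective
  apply Over.OverMorphism.ext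
  change gPt lam f x = gPt lam f y
  apply fn_ext
  -- the two ring maps agree as `R`-algebra maps
  letI : Algebra R Γ(T.left, ⊤) := (fnHom (T.hom ≫ f)).toAlgebra
  let φx : A R lam →ₐ[R] Γ(T.left, ⊤) :=
    { toRingHom := fnHom (gPt lam f x), commutes' := fun r => fnHom_gPt_algebraMap x r }
  let φy : A R lam →ₐ[R] Γ(T.left, ⊤) :=
    { toRingHom := fnHom (gPt lam f y), commutes' := fun r => fnHom_gPt_algebraMap y r }
  have hu : φx A.u = φy A.u := by
    change uFn lam f x = uFn lam f y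
    rw [uFn_eq, uFn_eq, h]
  have hxy : φx = φy := by
    apply A.algHom_ext
    · exact h
    · have h1 : φx A.inv * φx A.u = 1 := by rw [← map_mul, A.inv_mul_u, map_one]
      have h2 : φy A.u * φy A.inv = 1 := by rw [← map_mul, A.u_mul_inv, map_one]
      calc φx A.inv = φx A.inv * (φy A.u * φy A.inv) := by rw [h2, _root_.mul_one]
        _ = (φx A.inv * φx A.u) * φy A.inv := by rw [hu]; ring
        _ = φy A.inv := by rw [h1, _root_.one_mul]
  intro a
  exact congrArg (fun k : A R lam →ₐ[R] Γ(T.left, ⊤) => k a) hxy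

lemma exists_of_tFn {T : Over S} (t : Γ(T.left, ⊤)) (ht : IsUnit (1 + lamOf lam f T * t)) :
    ∃ x : T ⟶ Red.bc f (G R lam), tFn lam f x = t := by
  letI : Algebra R Γ(T.left, ⊤) := (fnHom (T.hom ≫ f)).toAlgebra
  obtain ⟨c, hc⟩ := ht.exists_right_inv
  have hc' : (1 + lam • t) * c = 1 := by
    rw [Algebra.smul_def]
    exact hc
  let φ : A R lam →ₐ[R] Γ(T.left, ⊤) := A.lift R lam t c hc'
  obtain ⟨y, hy⟩ := fn_surj (Y := T.left) (φ : A R lam →+* Γ(T.left, ⊤))
  have hyw : y ≫ Spec.map (CommRingCat.ofHom (algebraMap R (A R lam))) = T.hom ≫ f := by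
    apply fn_ext
    intro r
    rw [fn_specMap, hy]
    exact φ.commutes r
  refine ⟨(adjEquiv f (G R lam) T).symm (Over.homMk y hyw), ?_⟩
  unfold tFn gPt
  rw [Equiv.apply_symm_apply]
  exact (hy A.t).trans (A.lift_t t c hc')

end Points

/-! ### Flatness of `G^(λ)` -/

section Flat

open Polynomial

variable (R : Type u) [CommRing R] (lam : R)

/-- the element `1 + λ X` of `R[X]`. -/
noncomputable def uPoly : R[X] := 1 + C lam * X

/-- `A R lam → R[X]_{1+λX}`. -/
noncomputable def toLoc : A R lam →ₐ[R] Localization.Away (uPoly R lam) :=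
  A.lift R lam (algebraMap R[X] _ X)
    (IsLocalization.Away.invSelf (uPoly R lam))
    (by
      have h1 : (1 : Localization.Away (uPoly R lam)) + lam • algebraMap R[X] _ X =
          algebraMap R[X] _ (uPoly R lam) := by
        rw [uPoly, map_add, map_one, map_mul, Algebra.smul_def, ← Polynomial.algebraMap_eq,
          ← IsScalarTower.algebraMap_apply]
      rw [h1]
      exact IsLocalization.Away.mul_invSelf (uPoly R lam))

/-- `R[X]_{1+λX} → A R lam`. -/
noncomputable def ofLoc : Localization.Away (uPoly R lam) →+* A R lam :=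
  IsLocalization.Away.lift (uPoly R lam) (g := ((aeval (A.t : A R lam) : R[X] →ₐ[R] A R lam) : R[X] →+* A R lam))
    (by
      have : (aeval (A.t : A R lam) : R[X] →ₐ[R] A R lam) (uPoly R lam) = A.u := by
        rw [uPoly, map_add, map_one, map_mul, aeval_C, aeval_X, A.u_def]
      change IsUnit ((aeval (A.t : A R lam) : R[X] →ₐ[R] A R lam) (uPoly R lam))
      rw [this]
      exact A.isUnit_u)

lemma ofLoc_algebraMap (q : R[X]) :
    ofLoc R lam (algebraMap R[X] _ q) = aeval (A.t : A R lam) q :=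
  IsLocalization.Away.lift_eq _ _ q

lemma toLoc_injective : Function.Injective (toLoc R lam) := by
  have hcomp : ∀ a : A R lam, ofLoc R lam (toLoc R lam a) = a := by
    intro a
    have hR : ∀ r : R, ofLoc R lam (algebraMap R _ r) = algebraMap R (A R lam) r := by
      intro r
      rw [IsScalarTower.algebraMap_apply R R[X] (Localization.Away (uPoly R lam)), ofLoc_algebraMap,
        Polynomial.algebraMap_eq, aeval_C]
    let ψ : A R lam →ₐ[R] A R lam :=
      { toRingHom := (ofLoc R lam).comp (toLoc R lam : A R lam →+* _)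
        commutes' := fun r => by
          change ofLoc R lam (toLoc R lam (algebraMap R _ r)) = _
          rw [AlgHom.commutes, hR] }
    have ht : ψ A.t = A.t := by
      change ofLoc R lam (toLoc R lam A.t) = A.t
      rw [toLoc, A.lift_t, ofLoc_algebraMap, aeval_X]
    have hu : ψ A.u = A.u := by
      rw [A.u_def, map_add, map_one, map_mul, AlgHom.commutes, ht]
    have hψ : ψ = AlgHom.id R (A R lam) := by
      apply A.algHom_ext
      · exact ht
      · have h1 : ψ A.inv * ψ A.u = 1 := by rw [← map_mul, A.inv_mul_u, map_one]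
        change ψ A.inv = A.inv
        calc ψ A.inv = ψ A.inv * (A.u * A.inv) := by rw [A.u_mul_inv, _root_.mul_one]
          _ = (ψ A.inv * ψ A.u) * A.inv := by rw [hu]; ring
          _ = A.inv := by rw [h1, _root_.one_mul]
    exact congrArg (fun k : A R lam →ₐ[R] A R lam => k a) hψ
  intro a b hab
  rw [← hcomp a, ← hcomp b, hab]

lemma toLoc_aeval (q : R[X]) :
    toLoc R lam (aeval (A.t : A R lam) q) = algebraMap R[X] _ q := by
  rw [← Polynomial.aeval_algHom_apply, toLoc, A.lift_t, Polynomial.aeval_algebraMap_apply,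
    Polynomial.aeval_X_left_apply]

lemma toLoc_surjective : Function.Surjective (toLoc R lam) := by
  intro z
  obtain ⟨q, ⟨_, n, rfl⟩, rfl⟩ := IsLocalization.exists_mk'_eq (Submonoid.powers (uPoly R lam)) z
  refine ⟨aeval (A.t : A R lam) q * A.inv ^ n, ?_⟩
  rw [map_mul, map_pow, toLoc_aeval]
  have hinv : toLoc R lam A.inv = IsLocalization.Away.invSelf (uPoly R lam) := by
    rw [toLoc, A.lift_inv]
  rw [hinv, IsLocalization.eq_mk'_iff_mul_eq]
  change _ * algebraMap R[X] _ (uPoly R lam ^ n) = _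
  rw [map_pow, _root_.mul_assoc, ← mul_pow, mul_comm (IsLocalization.Away.invSelf (uPoly R lam)),
    IsLocalization.Away.mul_invSelf, one_pow, _root_.mul_one]

instance flat_A : Module.Flat R (A R lam) := by
  let e : A R lam ≃ₐ[R] Localization.Away (uPoly R lam) :=
    AlgEquiv.ofBijective (toLoc R lam) ⟨toLoc_injective R lam, toLoc_surjective R lam⟩
  haveI : Module.Flat R[X] (Localization.Away (uPoly R lam)) :=
    IsLocalization.flat _ (Submonoid.powers (uPoly R lam))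
  haveI : Module.Flat R (Localization.Away (uPoly R lam)) :=
    Module.Flat.trans R R[X] _
  exact Module.Flat.of_linearEquiv e.toLinearEquiv

end Flat

/-! ### The main theorem -/

section Main

variable {R : Type u} [CommRing R] {lam : R} {S : Scheme.{u}} {f : S ⟶ Spec (CommRingCat.of R)}

instance isAffineHom_bcG : IsAffineHom (Red.bc f (G R lam)).hom := by
  haveI : IsAffine (G R lam).left := inferInstanceAs (IsAffine (Spec _))
  haveI : IsAffineHom (G R lam).hom := inferInstance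
  exact MorphismProperty.pullback_snd (P := @IsAffineHom) _ _ inferInstance

instance flat_G : Flat (G R lam).hom := by
  change Flat (Spec.map (CommRingCat.ofHom (algebraMap R (A R lam))))
  rw [HasRingHomProperty.Spec_iff (P := @Flat)]
  exact RingHom.flat_algebraMap_iff.mpr (flat_A R lam)

instance flat_bcG : Flat (Red.bc f (G R lam)).hom :=
  MorphismProperty.pullback_snd (P := @Flat) _ _ inferInstance

lemma flat_tensor_hom (A B : Over S) (hA : Flat A.hom) (hB : Flat B.hom) : Flat (A ⊗ B).hom := by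
  haveI := hA
  haveI : Flat (pullback.fst A.hom B.hom) :=
    MorphismProperty.pullback_fst (P := @Flat) _ _ hB
  change Flat (pullback.fst A.hom B.hom ≫ A.hom)
  infer_instance

/-- `λ ≠ 0` is a nonzerodivisor on the functions of an affine scheme flat over a domain. -/
lemma lam_regular [IsDomain R] (hlam : lam ≠ 0) {Y : Scheme.{u}} [IsAffine Y]
    (q : Y ⟶ Spec (CommRingCat.of R)) [Flat q] (y : Γ(Y, ⊤)) (h : fnHom q lam * y = 0) : y = 0 := by
  have h1 : q.appTop.hom.Flat := (HasRingHomProperty.iff_of_isAffine (P := @Flat)).mp inferInstance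
  have h2 : (fnHom q : R →+* Γ(Y, ⊤)).Flat := by
    change ((Scheme.ΓSpecIso (CommRingCat.of R)).inv ≫ q.appTop).hom.Flat
    rw [CommRingCat.hom_comp]
    refine RingHom.Flat.comp ?_ h1
    exact RingHom.Flat.of_bijective (ConcreteCategory.bijective_of_isIso (Scheme.ΓSpecIso (CommRingCat.of R)).inv)
  letI : Algebra R Γ(Y, ⊤) := (fnHom q).toAlgebra
  haveI : Module.Flat R Γ(Y, ⊤) := h2
  have h3 : IsSMulRegular Γ(Y, ⊤) lam :=
    Module.Flat.isSMulRegular_of_nonZeroDivisors (mem_nonZeroDivisors_of_ne_zero hlam)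
  apply h3
  change lam • y = lam • (0 : Γ(Y, ⊤))
  rw [smul_zero, Algebra.smul_def]
  exact h

lemma eq_of_uFn_eq {T : Over S} (hreg : ∀ y : Γ(T.left, ⊤), lamOf lam f T * y = 0 → y = 0)
    {x y : T ⟶ Red.bc f (G R lam)} (h : uFn lam f x = uFn lam f y) : x = y := by
  apply tFn_injective
  rw [uFn_eq, uFn_eq] at h
  have h1 : lamOf lam f T * (tFn lam f x - tFn lam f y) = 0 := by
    rw [mul_sub, sub_eq_zero]
    exact add_left_cancel h
  exact sub_eq_zero.mp (hreg _ h1)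

/-- an fpqc torsor under `G^(λ)` (over a base flat over the domain `R`, `λ ≠ 0`) has sections
Zariski locally on every affine `Z` flat over the base. -/
theorem exists_section_G [IsDomain R] (hlam : lam ≠ 0) [Flat f] (X : Over S)
    (a : AlgGrp.Action (Red.bc f (G R lam)) X)
    (h : NonAbH1.IsTorsorFor Scheme.fpqcPrecoverage a) (hXfl : Flat X.hom)
    (Z : Over S) [IsAffine Z.left] (hZfl : Flat Z.hom) (x : Z.left) :
    ∃ W : Z.left.Opens, x ∈ W ∧ NonAbH1.HasSectionOver X (W.ι ≫ Z.hom) := by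
  have hH : IsAffineHom (Red.bc f (G R lam)).hom := inferInstance
  have hHfl : Flat (Red.bc f (G R lam)).hom := inferInstance
  have hX : IsAffineHom X.hom := isAffineHom_of_isTorsorFor a hH h
  obtain ⟨Z', w, s', hZ', hw1, hw2⟩ := exists_cover_section X h.2 Z
  haveI : IsAffine (X ⊗ Z).left := isAffine_tensor_left X Z hX
  haveI : IsAffine ((Red.bc f (G R lam) ⊗ X) ⊗ Z).left :=
    isAffine_tensor_left (Red.bc f (G R lam) ⊗ X) Z (isAffineHom_tensor_hom _ _ hH hX)
  letI algK' : Algebra Γ(Z.left, ⊤) Γ(Z'.left, ⊤) := w.left.appTop.hom.toAlgebra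
  letI algB : Algebra Γ(Z.left, ⊤) Γ((X ⊗ Z).left, ⊤) := (snd X Z).left.appTop.hom.toAlgebra
  letI algC : Algebra Γ(Z.left, ⊤) Γ(((Red.bc f (G R lam) ⊗ X) ⊗ Z).left, ⊤) :=
    (snd (Red.bc f (G R lam) ⊗ X) Z).left.appTop.hom.toAlgebra
  haveI FF : Module.FaithfullyFlat Γ(Z.left, ⊤) Γ(Z'.left, ⊤) :=
    (Flat.flat_and_surjective_iff_faithfullyFlat_of_isAffine w.left).mp ⟨hw1, hw2⟩
  obtain ⟨eB, eB1, eB2⟩ := exists_baseChange_equiv X w
  obtain ⟨eC, eC1, eC2⟩ := exists_baseChange_equiv (Red.bc f (G R lam) ⊗ X) w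
  -- the solution over `Z'`
  set d := relDiff a h.1 s' with hd
  have hdeq := (equivariant_iff a Z' d).mp (relDiff_pt a h.1 s')
  set τ := uFn lam f (fst (Red.bc f (G R lam) ⊗ X) Z ≫ fst (Red.bc f (G R lam)) X) with hτ
  have hb' : (a.act ▷ Z').left.appTop (uFn lam f d) =
      eC (τ ⊗ₜ 1) * (snd (Red.bc f (G R lam)) X ▷ Z').left.appTop (uFn lam f d) := by
    rw [← uFn_comp (a.act ▷ Z') d, hdeq, uFn_mul, eC1, hτ,
      ← uFn_comp ((Red.bc f (G R lam) ⊗ X) ◁ w),
      ← Category.assoc, whiskerLeft_fst, uFn_comp (snd (Red.bc f (G R lam)) X ▷ Z') d]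
  have hbc : uFn lam f d * uFn lam f d⁻¹ = 1 := by
    rw [← uFn_mul, mul_inv_cancel, uFn_one]
  have hbt : uFn lam f d = 1 + eB (algebraMap Γ(Z.left, ⊤) Γ((X ⊗ Z).left, ⊤) (lamOf lam f Z) ⊗ₜ 1) *
      tFn lam f d := by
    rw [uFn_eq, eB1]
    congr 2
    rw [lamOf_comp (X ◁ w), lamOf_comp (snd X Z)]
    rfl
  -- the prime at `x`
  let ρ : Γ(Z.left, ⊤) →+* Z.left.presheaf.stalk x := (Z.left.presheaf.germ ⊤ x trivial).hom
  let 𝔭 : Ideal Γ(Z.left, ⊤) := (IsLocalRing.maximalIdeal (Z.left.presheaf.stalk x)).comap ρ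
  have h𝔭 : 𝔭 ≠ ⊤ := Ideal.comap_ne_top _ (IsLocalRing.maximalIdeal.isMaximal _).ne_top
  have h𝔭' : 𝔭.IsPrime := Ideal.comap_isPrime ρ _
  obtain ⟨ℓ, m, b₁, k, c, hk, hℓ, hℓm, hcb, hnot⟩ := exists_of_baseChange_mul_lam
    (K := Γ(Z.left, ⊤)) (K' := Γ(Z'.left, ⊤))
    (a.act ▷ Z).left.appTop.hom (snd (Red.bc f (G R lam)) X ▷ Z).left.appTop.hom
    (fun k => whiskerRight_appTop_snd a.act Z k)
    (fun k => whiskerRight_appTop_snd (snd (Red.bc f (G R lam)) X) Z k)
    (a.act ▷ Z').left.appTop.hom (snd (Red.bc f (G R lam)) X ▷ Z').left.appTop.hom eB eC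
    (fun b k => baseChange_equiv_natural a.act w eC eB eC1 eC2 eB1 eB2 b k)
    (fun b k => baseChange_equiv_natural (snd (Red.bc f (G R lam)) X) w eC eB eC1 eC2 eB1 eB2 b k)
    τ (uFn lam f d) (uFn lam f d⁻¹) hbc hb'
    (fun u hu => ⟨(lift s' (𝟙 Z')).left.appTop u, by
      rw [eB2]; exact invariant_eq a h.1 s' u hu⟩)
    (fun k' hk' => by
      rw [eB2] at hk'
      have := congrArg (lift s' (𝟙 Z')).left.appTop hk'
      rw [← comp_left_appTop, lift_snd, map_zero] at this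
      simpa using this)
    (lift s' (𝟙 Z')).left.appTop.hom
    (fun k' => by
      rw [eB2]
      change (lift s' (𝟙 Z')).left.appTop ((snd X Z').left.appTop k') = k'
      rw [← comp_left_appTop, lift_snd]
      simp)
    (lamOf lam f Z) (tFn lam f d) hbt 𝔭 h𝔭
  -- the element to invert
  obtain ⟨e, he𝔭, hcase⟩ : ∃ e : Γ(Z.left, ⊤), e ∉ 𝔭 ∧ (e = c ∨ e = lamOf lam f Z) := by
    by_cases hc : c ∈ 𝔭
    · exact ⟨lamOf lam f Z, fun hl => hnot ⟨hc, hl⟩, Or.inr rfl⟩
    · exact ⟨c, hc, Or.inl rfl⟩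
  have hke : k * e ∉ 𝔭 := fun hmem => (h𝔭'.mem_or_mem hmem).elim hk he𝔭
  have hxk : x ∈ Z.left.basicOpen (k * e) := by
    rw [Scheme.mem_basicOpen_top]
    exact (IsLocalRing.notMem_maximalIdeal.mp hke)
  refine ⟨Z.left.basicOpen (k * e), hxk, ?_⟩
  set W := Z.left.basicOpen (k * e) with hW
  let ZV : Over S := Over.mk (W.ι ≫ Z.hom)
  let v : ZV ⟶ Z := Over.homMk W.ι rfl
  haveI : IsAffine ZV.left := (isAffineOpen_top Z.left).basicOpen (k * e)
  have hunitke : IsUnit (v.left.appTop (k * e)) := isUnit_ι_appTop_basicOpen Z.left (k * e)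
  have hunitk : IsUnit (v.left.appTop k) := by
    rw [map_mul] at hunitke
    exact isUnit_of_mul_isUnit_left hunitke
  have hunite : IsUnit (v.left.appTop e) := by
    rw [map_mul] at hunitke
    exact isUnit_of_mul_isUnit_right hunitke
  -- restriction to `ZV`
  have hsndv : ∀ k₀ : Γ(Z.left, ⊤), (X ◁ v).left.appTop ((snd X Z).left.appTop k₀) =
      (snd X ZV).left.appTop (v.left.appTop k₀) := by
    intro k₀
    rw [← comp_left_appTop, ← comp_left_appTop, whiskerLeft_snd]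
  have hlamV : (X ◁ v).left.appTop ((snd X Z).left.appTop (lamOf lam f Z)) =
      lamOf lam f (X ⊗ ZV) := by
    rw [lamOf_comp (X ◁ v), lamOf_comp (snd X Z)]
  have hℓV : (X ◁ v).left.appTop ℓ = (snd X ZV).left.appTop (v.left.appTop c) +
      lamOf lam f (X ⊗ ZV) * (X ◁ v).left.appTop b₁ := by
    rw [hcb, map_add, map_mul]
    congr 1
    · exact hsndv c
    · rw [← hlamV]; rfl
  have hℓm' : (X ◁ v).left.appTop ℓ * (X ◁ v).left.appTop m =
      (snd X ZV).left.appTop (v.left.appTop k) := by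
    rw [← map_mul, hℓm]
    exact hsndv k
  have hℓunit : IsUnit ((X ◁ v).left.appTop ℓ) := by
    apply isUnit_of_mul_isUnit_left (y := (X ◁ v).left.appTop m)
    rw [hℓm']
    exact hunitk.map _
  -- the normalised semi-invariant
  obtain ⟨ε, hε, t'', ht''⟩ : ∃ ε : Γ(ZV.left, ⊤), IsUnit ε ∧ ∃ t'' : Γ((X ⊗ ZV).left, ⊤),
      (snd X ZV).left.appTop ε * (X ◁ v).left.appTop ℓ = 1 + lamOf lam f (X ⊗ ZV) * t'' := by
    rcases hcase with rfl | rfl
    · obtain ⟨ε, hε1⟩ := hunite.exists_left_inv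
      refine ⟨ε, IsUnit.of_mul_eq_one _ hε1, (snd X ZV).left.appTop ε * (X ◁ v).left.appTop b₁, ?_⟩
      rw [hℓV, mul_add, ← map_mul, hε1, map_one]
      ring
    · obtain ⟨ε, hε1⟩ := hunite.exists_left_inv
      refine ⟨1, isUnit_one, (snd X ZV).left.appTop ε * ((X ◁ v).left.appTop ℓ - 1), ?_⟩
      have hl : lamOf lam f (X ⊗ ZV) = (snd X ZV).left.appTop (v.left.appTop (lamOf lam f Z)) := by
        rw [← hlamV]
        exact hsndv _
      rw [map_one, _root_.one_mul, hl, ← _root_.mul_assoc, ← map_mul, mul_comm _ ε, hε1, map_one]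
      ring
  set ℓ'' := (snd X ZV).left.appTop ε * (X ◁ v).left.appTop ℓ with hℓ''
  have hℓ''unit : IsUnit ℓ'' := (hε.map _).mul hℓunit
  obtain ⟨φ, hφ⟩ := exists_of_tFn (lam := lam) (f := f) (T := X ⊗ ZV) t'' (by rw [← ht'']; exact hℓ''unit)
  have hφu : uFn lam f φ = ℓ'' := by rw [uFn_eq, hφ, ht'']
  -- regularity of `λ`
  haveI : IsAffine ((Red.bc f (G R lam) ⊗ X) ⊗ ZV).left :=
    isAffine_tensor_left (Red.bc f (G R lam) ⊗ X) ZV (isAffineHom_tensor_hom _ _ hH hX)
  have hZVfl : Flat ZV.hom := by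
    change Flat (W.ι ≫ Z.hom)
    infer_instance
  have hTfl : Flat (((Red.bc f (G R lam) ⊗ X) ⊗ ZV).hom ≫ f) := by
    haveI := flat_tensor_hom (Red.bc f (G R lam) ⊗ X) ZV (flat_tensor_hom _ _ hHfl hXfl) hZVfl
    infer_instance
  have hreg : ∀ y : Γ(((Red.bc f (G R lam) ⊗ X) ⊗ ZV).left, ⊤),
      lamOf lam f ((Red.bc f (G R lam) ⊗ X) ⊗ ZV) * y = 0 → y = 0 :=
    fun y hy => lam_regular hlam _ y hy
  obtain ⟨σ⟩ := exists_section_of_equivariant a h ZV φ ((equivariant_iff a ZV φ).mpr (by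
    apply eq_of_uFn_eq hreg
    rw [uFn_mul, uFn_comp (a.act ▷ ZV) φ, uFn_comp (snd (Red.bc f (G R lam)) X ▷ ZV) φ, hφu, hℓ'',
      map_mul, map_mul, whiskerRight_appTop_snd, whiskerRight_appTop_snd,
      ← comp_left_appTop, ← comp_left_appTop, ← whisker_exchange, ← whisker_exchange,
      comp_left_appTop, comp_left_appTop]
    have hℓ' : (a.act ▷ Z).left.appTop ℓ =
        τ * (snd (Red.bc f (G R lam)) X ▷ Z).left.appTop ℓ := hℓ
    rw [hℓ', map_mul, hτ, ← uFn_comp ((Red.bc f (G R lam) ⊗ X) ◁ v), ← Category.assoc,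
      whiskerLeft_fst]
    ring))
  exact ⟨σ.left, Over.w σ⟩

/-- fppf torsors under `G^(λ)` over a base flat over the domain `R` (`λ ≠ 0`) are Zariski locally
trivial. -/
theorem isTorsorFor_zariski [IsDomain R] (hlam : lam ≠ 0) [Flat f] (X : Over S)
    (a : AlgGrp.Action (Red.bc f (G R lam)) X)
    (h : NonAbH1.IsTorsorFor Scheme.fppfPrecoverage a) :
    NonAbH1.IsTorsorFor Scheme.zariskiPrecoverage a := by
  have hXfl : Flat X.hom :=
    Groth.Agent.Lib.T2H3.GenericTorsor.torsor_prop a Groth.Agent.Lib.Helper12.descendsAlong_flat h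
      inferInstance
  have h' : NonAbH1.IsTorsorFor Scheme.fpqcPrecoverage a := by
    obtain ⟨hps, Rc, hRc, hsec⟩ := h
    exact ⟨hps, Rc, Scheme.fppfPrecoverage_le_fpqcPrecoverage _ hRc, hsec⟩
  refine ⟨h.1, isLocallyTrivialFor_zariski_of_forall' X ?_⟩
  intro x
  obtain ⟨_, ⟨U', hU' : IsAffineOpen U', rfl⟩, hxU', -⟩ :=
    S.isBasis_affineOpens.exists_subset_of_mem_open (Set.mem_univ x) isOpen_univ
  let U : S.Opens := U'
  have hU : IsAffineOpen U := hU'
  have hxU : x ∈ U := hxU'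
  let Z : Over S := Over.mk U.ι
  haveI : IsAffine Z.left := hU
  have hZfl : Flat Z.hom := by
    change Flat U.ι
    infer_instance
  obtain ⟨W, hxW, hsec⟩ := exists_section_G hlam X a h' hXfl Z hZfl ⟨x, hxU⟩
  refine ⟨W, W.ι ≫ U.ι, inferInstance, ?_, hsec⟩
  refine ⟨⟨⟨x, hxU⟩, hxW⟩, rfl⟩

end Main

end Groth.Agent.Lib.T2H3.SekSuwaH90
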