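import Mathlib
import Groth.Agent.Lib.Helper7GeomInt
import Groth.Agent.Lib.Helper3HenselInt
import Groth.Agent.Lib.Helper3EtNormal
import Groth.Agent.Lib.Helper6GeomBC
import Groth.Agent.Lib.Helper6SepNorm
import Groth.Agent.Lib.Helper5IntDim

/-!
# Base change of a henselian normal local `k`-algebra along a separable algebraic extension (helper3)

`main`: `k` a field, `R₀` a henselian local normal domain over `k` with `k → κ(R₀)` surjective,
`K / k` separable algebraic with `R₀ ⊗[k] K` a domain. Then `R₀ ⊗[k] K` is henselian local,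
integrally closed, of the same Krull dimension, and `K → κ(R₀ ⊗[k] K)` is surjective.
-/

set_option autoImplicit false
set_option linter.style.haveILetI false
universe u
open scoped TensorProduct

namespace Groth.Agent.Lib.T2H3.SepBCHens

variable (k : Type u) [Field k] (R₀ : Type u) [CommRing R₀] [Algebra k R₀]
  (K : Type u) [Field K] [Algebra k K]

theorem algebraMap_injective : Function.Injective (algebraMap R₀ (R₀ ⊗[k] K)) := by
  intro a b hab
  exact Algebra.TensorProduct.includeLeft_injective (S := R₀) (A := R₀)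
    (B := K) (algebraMap k K).injective hab

/-- `R₀ ⊗[k] K` is a normal ring when `R₀` is a normal domain and `K / k` is separable algebraic. -/
theorem isNormalRing_tensor [IsDomain R₀] [IsIntegrallyClosed R₀] [Algebra.IsSeparable k K] :
    EGA4.IsNormalRing (R₀ ⊗[k] K) := by
  classical
  haveI : Algebra.IsIntegral k K := Algebra.IsAlgebraic.isIntegral
  have hN : EGA4.IsNormalRing (K ⊗[k] R₀) := by
    refine Groth.Agent.Lib.Helper6.NormCrit.isNormalRing_of_directed_union
      (ι := Finset K)
      (fun s => (IntermediateField.adjoin k (s : Set K)) ⊗[k] R₀)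
      (fun s => (Groth.Agent.Lib.Helper6.GeomBC.incl k R₀ K
        (IntermediateField.adjoin k (s : Set K))).toRingHom)
      (fun s => Groth.Agent.Lib.Helper6.GeomBC.incl_injective k R₀ K _)
      (fun s t => ⟨s ∪ t, ?_, ?_⟩) (fun x => ?_) (fun s => ?_)
    · exact Groth.Agent.Lib.Helper6.GeomBC.range_incl_mono k R₀ K
        (IntermediateField.adjoin.mono k _ _ (by simp))
    · exact Groth.Agent.Lib.Helper6.GeomBC.range_incl_mono k R₀ K
        (IntermediateField.adjoin.mono k _ _ (by simp))
    · exact Groth.Agent.Lib.Helper6.GeomBC.exists_mem_range_incl k R₀ K x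
    · haveI : FiniteDimensional k (IntermediateField.adjoin k (s : Set K)) :=
        IntermediateField.finiteDimensional_adjoin
          (fun x _ => Algebra.IsIntegral.isIntegral x)
      haveI : Algebra.IsSeparable k (IntermediateField.adjoin k (s : Set K)) :=
        inferInstance
      haveI : Algebra.FormallyEtale k (IntermediateField.adjoin k (s : Set K)) :=
        Algebra.FormallyEtale.of_isSeparable k _
      haveI : Algebra.FinitePresentation k (IntermediateField.adjoin k (s : Set K)) :=
        Algebra.FinitePresentation.of_finiteType.mp inferInstance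
      haveI : Algebra.Etale k (IntermediateField.adjoin k (s : Set K)) :=
        ⟨inferInstance, inferInstance⟩
      haveI : Algebra.Etale R₀ (R₀ ⊗[k] (IntermediateField.adjoin k (s : Set K))) :=
        inferInstance
      have h1 : EGA4.IsNormalRing (R₀ ⊗[k] (IntermediateField.adjoin k (s : Set K))) :=
        fun Q _ =>
          Groth.Agent.Lib.Helper3.EtNormal.isDomain_and_isIntegrallyClosed_localization R₀ _ Q
      exact Groth.Agent.Lib.Helper6.SepNorm.isNormalRing_of_ringEquiv
        (Algebra.TensorProduct.comm k R₀ (IntermediateField.adjoin k (s : Set K))).toRingEquiv h1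
  exact Groth.Agent.Lib.Helper6.SepNorm.isNormalRing_of_ringEquiv
    (Algebra.TensorProduct.comm k K R₀).toRingEquiv hN

theorem main [IsDomain R₀] [HenselianLocalRing R₀] [IsIntegrallyClosed R₀]
    [Algebra.IsSeparable k K]
    (hres : Function.Surjective (fun a : k => IsLocalRing.residue R₀ (algebraMap k R₀ a)))
    [IsDomain (R₀ ⊗[k] K)] :
    ∃ _ : HenselianLocalRing (R₀ ⊗[k] K),
      IsIntegrallyClosed (R₀ ⊗[k] K) ∧
      ringKrullDim (R₀ ⊗[k] K) = ringKrullDim R₀ ∧
      Function.Surjective (fun a : K =>
        IsLocalRing.residue (R₀ ⊗[k] K)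
          ((Algebra.TensorProduct.includeRight : K →ₐ[k] R₀ ⊗[k] K) a)) := by
  classical
  haveI : Algebra.IsIntegral k K := Algebra.IsAlgebraic.isIntegral
  haveI hint : Algebra.IsIntegral R₀ (R₀ ⊗[k] K) := inferInstance
  have hinj : Function.Injective (algebraMap R₀ (R₀ ⊗[k] K)) := algebraMap_injective k R₀ K
  haveI hloc : IsLocalRing (R₀ ⊗[k] K) :=
    Groth.Agent.Lib.Helper7.GeomInt.isLocalRing_of_isIntegral_of_isDomain R₀ _
  haveI hhens : HenselianLocalRing (R₀ ⊗[k] K) :=
    Groth.Agent.Lib.Helper3.HenselInt.henselian_of_isIntegral R₀ _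
  haveI hlh : IsLocalHom (algebraMap R₀ (R₀ ⊗[k] K)) :=
    RingHom.IsIntegral.isLocalHom (algebraMap_isIntegral_iff.mpr hint) hinj
  refine ⟨hhens, ?_, ?_, ?_⟩
  · exact IsIntegrallyClosed.of_localization_maximal
      (fun p _ _ => (isNormalRing_tensor k R₀ K p).2)
  · exact Groth.Agent.Lib.Helper5.ringKrullDim_eq_of_isIntegral_of_injective R₀ _ hinj
  · intro y
    obtain ⟨x, rfl⟩ := IsLocalRing.residue_surjective y
    induction x using TensorProduct.induction_on with
    | zero => exact ⟨0, by simp⟩
    | tmul r a =>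
      obtain ⟨c, hc⟩ := hres (IsLocalRing.residue R₀ r)
      refine ⟨c • a, ?_⟩
      have hm : r - algebraMap k R₀ c ∈ IsLocalRing.maximalIdeal R₀ := by
        rw [← IsLocalRing.residue_eq_zero_iff, map_sub, sub_eq_zero]
        exact hc.symm
      have hm' : algebraMap R₀ (R₀ ⊗[k] K) (r - algebraMap k R₀ c) ∈
          IsLocalRing.maximalIdeal (R₀ ⊗[k] K) := by
        rw [IsLocalRing.mem_maximalIdeal, mem_nonunits_iff] at hm ⊢
        exact fun h => hm (isUnit_of_map_unit _ _ h)
      have hprod : (r ⊗ₜ[k] a : R₀ ⊗[k] K) - (1 : R₀) ⊗ₜ[k] (c • a) =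
          algebraMap R₀ (R₀ ⊗[k] K) (r - algebraMap k R₀ c) * ((1 : R₀) ⊗ₜ[k] a) := by
        rw [Algebra.TensorProduct.algebraMap_apply, Algebra.TensorProduct.tmul_mul_tmul]
        simp only [Algebra.algebraMap_self, RingHom.id_apply, mul_one, one_mul,
          TensorProduct.sub_tmul]
        rw [TensorProduct.tmul_smul, TensorProduct.smul_tmul', Algebra.smul_def, mul_one]
      change IsLocalRing.residue _ ((1 : R₀) ⊗ₜ[k] (c • a)) = IsLocalRing.residue _ (r ⊗ₜ[k] a)
      symm
      rw [← sub_eq_zero, ← map_sub, IsLocalRing.residue_eq_zero_iff, hprod]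
      exact Ideal.mul_mem_right _ _ hm'
    | add x y hx hy =>
      obtain ⟨a, ha⟩ := hx
      obtain ⟨b, hb⟩ := hy
      refine ⟨a + b, ?_⟩
      simp only [map_add] at ha hb ⊢
      rw [ha, hb]

end Groth.Agent.Lib.T2H3.SepBCHens
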