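import Groth.Agent.Lib.T2H5EulerAlg

/-! Serre's formula, part A (helper3): polynomial functions on the integers and the Euler
characteristic of a long exact sequence of modules of finite length. -/

set_option autoImplicit false
set_option linter.unusedSectionVars false
set_option linter.style.haveILetI false

namespace Groth.Agent.Lib.T2H3.Serre

open Polynomial Groth.Agent.Lib.T2H5.EulerAlg

universe u

/-- Functions `ℤ → ℚ` given by a rational polynomial. -/
def IsPolyFun (f : ℤ → ℚ) : Prop := ∃ Q : ℚ[X], ∀ n : ℤ, f n = Q.eval (n : ℚ)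

theorem IsPolyFun.zero : IsPolyFun (fun _ => 0) := ⟨0, fun _ => by rw [eval_zero]⟩

theorem IsPolyFun.add {f g : ℤ → ℚ} (hf : IsPolyFun f) (hg : IsPolyFun g) :
    IsPolyFun (fun n => f n + g n) := by
  obtain ⟨P, hP⟩ := hf
  obtain ⟨Q, hQ⟩ := hg
  exact ⟨P + Q, fun n => by
    change f n + g n = _
    rw [eval_add, hP, hQ]⟩

theorem IsPolyFun.sub {f g : ℤ → ℚ} (hf : IsPolyFun f) (hg : IsPolyFun g) :
    IsPolyFun (fun n => f n - g n) := by
  obtain ⟨P, hP⟩ := hf
  obtain ⟨Q, hQ⟩ := hg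
  exact ⟨P - Q, fun n => by
    change f n - g n = _
    rw [eval_sub, hP, hQ]⟩

theorem IsPolyFun.congr {f g : ℤ → ℚ} (hf : IsPolyFun f) (h : ∀ n, g n = f n) : IsPolyFun g := by
  obtain ⟨P, hP⟩ := hf
  exact ⟨P, fun n => by rw [h, hP]⟩

/-- A function whose backward difference is polynomial is polynomial. -/
theorem IsPolyFun.of_diff {f g : ℤ → ℚ} (hg : IsPolyFun g) (h : ∀ n, f n - f (n - 1) = g n) :
    IsPolyFun f := by
  obtain ⟨Q, hQ⟩ := hg
  -- forward difference of f at n is g (n+1) = (Q.comp (X+1)) (n)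
  obtain ⟨P, hP⟩ := exists_antidifference (Q.comp (X + 1))
  have hstep : ∀ n : ℤ, f (n + 1) - P.eval ((n + 1 : ℤ) : ℚ) = f n - P.eval (n : ℚ) := by
    intro n
    have h1 := h (n + 1)
    rw [add_sub_cancel_right, hQ] at h1
    have h2 := hP (n : ℚ)
    rw [eval_comp, eval_add, eval_X, eval_one] at h2
    push_cast at h1 ⊢
    rw [add_comm (n : ℚ) 1, h2]
    linarith
  have hconst : ∀ n : ℤ, f n - P.eval (n : ℚ) = f 0 - P.eval ((0 : ℤ) : ℚ) := by
    intro n
    induction n using Int.induction_on with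
    | zero => rfl
    | succ i hi => rw [hstep, hi]
    | pred i hi =>
      have := hstep (-(i : ℤ) - 1)
      rw [sub_add_cancel] at this
      rw [← this, hi]
  refine ⟨P + C (f 0 - P.eval ((0 : ℤ) : ℚ)), fun n => ?_⟩
  rw [eval_add, eval_C]
  have := hconst n
  linarith

/-- A polynomial function agreeing with a polynomial for large arguments is given by it. -/
theorem IsPolyFun.eq_of_eventually_eq {f : ℤ → ℚ} (hf : IsPolyFun f) (P : ℚ[X])
    (h : ∃ N : ℤ, ∀ n : ℤ, N ≤ n → f n = P.eval (n : ℚ)) (n : ℤ) : f n = P.eval (n : ℚ) := by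
  obtain ⟨Q, hQ⟩ := hf
  obtain ⟨N, hN⟩ := h
  have hQP : Q = P := by
    apply Polynomial.eq_of_infinite_eval_eq
    have hsub : Set.range (fun k : ℕ => ((N + k : ℤ) : ℚ)) ⊆ {x | eval x Q = eval x P} := by
      rintro _ ⟨k, rfl⟩
      change eval ((N + k : ℤ) : ℚ) Q = eval ((N + k : ℤ) : ℚ) P
      rw [← hQ, hN (N + k) (by omega)]
    refine Set.Infinite.mono hsub (Set.infinite_range_of_injective ?_)
    intro a b hab
    have h1 : ((N + a : ℤ) : ℚ) = ((N + b : ℤ) : ℚ) := hab
    have h2 : (N + a : ℤ) = N + b := by exact_mod_cast h1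
    omega
  rw [hQ, hQP]

section Euler

variable {K : Type u} [Ring K]
variable (A B C : ℕ → Type u) [∀ i, AddCommGroup (A i)] [∀ i, Module K (A i)]
  [∀ i, AddCommGroup (B i)] [∀ i, Module K (B i)] [∀ i, AddCommGroup (C i)] [∀ i, Module K (C i)]
variable (α : ∀ i, A i →ₗ[K] B i) (β : ∀ i, B i →ₗ[K] C i) (γ : ∀ i, C i →ₗ[K] A (i + 1))

/-- The Euler characteristic of a long exact sequence of modules of finite length vanishes. -/
theorem euler_les (hfA : ∀ i, IsFiniteLength K (A i)) (hfB : ∀ i, IsFiniteLength K (B i))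
    (hfC : ∀ i, IsFiniteLength K (C i)) (h0 : Function.Injective (α 0))
    (h1 : ∀ i, LinearMap.ker (β i) = LinearMap.range (α i))
    (h2 : ∀ i, LinearMap.ker (γ i) = LinearMap.range (β i))
    (h3 : ∀ i, LinearMap.ker (α (i + 1)) = LinearMap.range (γ i))
    (N : ℕ) (hN : ∀ x : A (N + 1), x = 0) :
    ∑ i ∈ Finset.range (N + 1), (-1 : ℤ) ^ i * (lenZ K (A i) - lenZ K (B i) + lenZ K (C i)) = 0 := by
  have hB : ∀ i, lenZ K (B i) = lenZ K (LinearMap.range (α i)) + lenZ K (LinearMap.range (β i)) := by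
    intro i
    rw [lenZ_eq_ker_add_range (hfB i) (β i), h1 i]
  have hC : ∀ i, lenZ K (C i) = lenZ K (LinearMap.range (β i)) + lenZ K (LinearMap.range (γ i)) := by
    intro i
    rw [lenZ_eq_ker_add_range (hfC i) (γ i), h2 i]
  have hA0 : lenZ K (A 0) = lenZ K (LinearMap.range (α 0)) := by
    rw [lenZ_eq_ker_add_range (hfA 0) (α 0), LinearMap.ker_eq_bot.mpr h0, lenZ_bot, zero_add]
  have hA : ∀ i, lenZ K (A (i + 1)) =
      lenZ K (LinearMap.range (γ i)) + lenZ K (LinearMap.range (α (i + 1))) := by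
    intro i
    rw [lenZ_eq_ker_add_range (hfA (i + 1)) (α (i + 1)), h3 i]
  have hcN : lenZ K (LinearMap.range (γ N)) = 0 := by
    haveI : Subsingleton (A (N + 1)) := ⟨fun x y => (hN x).trans (hN y).symm⟩
    exact lenZ_of_subsingleton _
  have ht := telescope (fun i => lenZ K (LinearMap.range (α i)))
    (fun i => lenZ K (LinearMap.range (β i))) (fun i => lenZ K (LinearMap.range (γ i)))
    (fun i => lenZ K (A i)) hA0 hA N
  rw [hcN, mul_zero, neg_zero] at ht
  have h4 : ∑ i ∈ Finset.range (N + 1),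
      (-1 : ℤ) ^ i * (lenZ K (A i) - lenZ K (B i) + lenZ K (C i)) =
      -∑ i ∈ Finset.range (N + 1), (-1 : ℤ) ^ i *
        ((lenZ K (LinearMap.range (α i)) + lenZ K (LinearMap.range (β i))) - lenZ K (A i) -
          (lenZ K (LinearMap.range (β i)) + lenZ K (LinearMap.range (γ i)))) := by
    rw [← Finset.sum_neg_distrib]
    refine Finset.sum_congr rfl fun i _ => ?_
    rw [hB i, hC i]
    ring
  rw [h4, ht, neg_zero]

end Euler

end Groth.Agent.Lib.T2H3.Serre
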