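import Groth.Agent.Lib.T2H3SerreA
import Groth.Agent.Lib.T2H3GrLesG

/-! Serre's formula, part B (helper3): additivity of the Hilbert function and of the Euler
characteristic of graded local cohomology along a short exact sequence of graded modules,
degree by degree. -/

set_option autoImplicit false
set_option linter.unusedSectionVars false
set_option linter.style.haveILetI false
open DirectSum

noncomputable section

namespace Groth.Agent.Lib.T2H3.Serre

open GrLC Groth.Agent.Lib.T2H3.GrLes Groth.Agent.Lib.T2H5.EulerAlg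
  Groth.Agent.Lib.Helper29GrHom

universe u

variable {ι : Type} [AddCommGroup ι] [DecidableEq ι]
variable {R : Type u} [CommRing R] {𝒜 : ι → AddSubgroup R} [GradedRing 𝒜]
variable {M' : Type u} [AddCommGroup M'] [Module R M'] {ℳ' : ι → AddSubgroup M'}
  [DirectSum.Decomposition ℳ'] [SetLike.GradedSMul 𝒜 ℳ']
variable {M : Type u} [AddCommGroup M] [Module R M] {ℳ : ι → AddSubgroup M}
  [DirectSum.Decomposition ℳ] [SetLike.GradedSMul 𝒜 ℳ]
variable {M'' : Type u} [AddCommGroup M''] [Module R M''] {ℳ'' : ι → AddSubgroup M''}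
  [DirectSum.Decomposition ℳ''] [SetLike.GradedSMul 𝒜 ℳ'']

/-- Restriction of an `R`-linear map to `R_0`-submodules. -/
def pieceMap {A B : Type u} [AddCommGroup A] [Module R A] [AddCommGroup B] [Module R B]
    (P : Submodule (deg0 𝒜) A) (Q : Submodule (deg0 𝒜) B) (α : A →ₗ[R] B)
    (h : ∀ x ∈ P, α x ∈ Q) : ↥P →ₗ[deg0 𝒜] ↥Q :=
  (α.restrictScalars (deg0 𝒜)).restrict h

theorem pieceMap_apply {A B : Type u} [AddCommGroup A] [Module R A] [AddCommGroup B] [Module R B]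
    (P : Submodule (deg0 𝒜) A) (Q : Submodule (deg0 𝒜) B) (α : A →ₗ[R] B)
    (h : ∀ x ∈ P, α x ∈ Q) (x : ↥P) : ((pieceMap P Q α h x : ↥Q) : B) = α (x : A) := rfl

/-- Exactness of piece maps. -/
theorem pieceMap_ker_eq_range {A B C : Type u} [AddCommGroup A] [Module R A] [AddCommGroup B]
    [Module R B] [AddCommGroup C] [Module R C]
    (P : Submodule (deg0 𝒜) A) (Q : Submodule (deg0 𝒜) B) (T : Submodule (deg0 𝒜) C)
    (α : A →ₗ[R] B) (hα : ∀ x ∈ P, α x ∈ Q) (β : B →ₗ[R] C) (hβ : ∀ x ∈ Q, β x ∈ T)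
    (h1 : ∀ x, β (α x) = 0) (h2 : ∀ y ∈ Q, β y = 0 → ∃ x ∈ P, α x = y) :
    LinearMap.ker (pieceMap Q T β hβ) = LinearMap.range (pieceMap P Q α hα) := by
  ext y
  constructor
  · intro hy
    have hy' : β (y : B) = 0 := congrArg Subtype.val (LinearMap.mem_ker.mp hy)
    obtain ⟨x, hx, hxy⟩ := h2 y y.2 hy'
    exact ⟨⟨x, hx⟩, Subtype.ext hxy⟩
  · rintro ⟨x, rfl⟩
    rw [LinearMap.mem_ker]
    apply Subtype.ext
    exact h1 _

/-- The Hilbert function of a graded module. -/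
def hZ (𝒜 : ι → AddSubgroup R) [GradedRing 𝒜] (ℳ : ι → AddSubgroup M) [SetLike.GradedSMul 𝒜 ℳ]
    (n : ι) : ℤ :=
  lenZ (deg0 𝒜) (comp 𝒜 ℳ n)

/-- The Euler characteristic of graded local cohomology in a given degree. -/
def chiZ (E : StarInjRes 𝒜 ℳ) (a : HomogeneousIdeal 𝒜) (N : ℕ) (n : ι) : ℤ :=
  ∑ i ∈ Finset.range (N + 1), (-1 : ℤ) ^ i * lenZ (deg0 𝒜) (E.Hcomp a i n)

section SES

variable {f : M' →ₗ[R] M} {g : M →ₗ[R] M''}

/-- The Hilbert function is additive on short exact sequences. -/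
theorem hZ_ses (S : GrSES ℳ' ℳ ℳ'' f g) (n : ι)
    (hfin : IsFiniteLength (deg0 𝒜) (comp 𝒜 ℳ n)) :
    hZ 𝒜 ℳ n = hZ 𝒜 ℳ' n + hZ 𝒜 ℳ'' n := by
  let fn : ↥(comp 𝒜 ℳ' n) →ₗ[deg0 𝒜] ↥(comp 𝒜 ℳ n) :=
    pieceMap _ _ f (fun x hx => S.f_gr n x hx)
  let gn : ↥(comp 𝒜 ℳ n) →ₗ[deg0 𝒜] ↥(comp 𝒜 ℳ'' n) :=
    pieceMap _ _ g (fun x hx => S.g_gr n x hx)
  have hfn : Function.Injective fn := fun x y h => by
    apply Subtype.ext
    apply S.f_inj
    exact congrArg Subtype.val h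
  have hgn : Function.Surjective gn := by
    rintro ⟨y, hy⟩
    obtain ⟨x, hx, hxy⟩ := exists_mem_piece_of_mem_range ℳ ℳ'' g S.g_gr (g := n) hy
      (LinearMap.range_eq_top.mpr S.g_surj ▸ Submodule.mem_top)
    exact ⟨⟨x, hx⟩, Subtype.ext hxy⟩
  have hex : Function.Exact fn gn := by
    intro y
    constructor
    · intro hy
      have hy' : g (y : M) = 0 := congrArg Subtype.val hy
      have hr : (y : M) ∈ LinearMap.range f := by rw [← S.exact]; exact hy'
      obtain ⟨x, hx, hxy⟩ := exists_mem_piece_of_mem_range ℳ' ℳ f S.f_gr (g := n) y.2 hr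
      exact ⟨⟨x, hx⟩, Subtype.ext hxy⟩
    · rintro ⟨x, rfl⟩
      apply Subtype.ext
      exact S.g_f _
  have hlen := Module.length_eq_add_of_exact fn gn hfn hgn hex
  have hne : Module.length (deg0 𝒜) ↥(comp 𝒜 ℳ n) ≠ ⊤ := Module.length_ne_top_iff.mpr hfin
  have h1 : Module.length (deg0 𝒜) ↥(comp 𝒜 ℳ' n) ≠ ⊤ := by
    intro h; apply hne; rw [hlen, h, top_add]
  have h2 : Module.length (deg0 𝒜) ↥(comp 𝒜 ℳ'' n) ≠ ⊤ := by
    intro h; apply hne; rw [hlen, h, add_top]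
  unfold hZ lenZ
  rw [hlen, ENat.toNat_add h1 h2]
  push_cast
  rfl

/-- The Euler characteristic of graded local cohomology is additive on short exact
sequences, degree by degree. -/
theorem euler_ses (S : GrSES ℳ' ℳ ℳ'' f g) (E' : StarInjRes 𝒜 ℳ') (E : StarInjRes 𝒜 ℳ)
    (E'' : StarInjRes 𝒜 ℳ'') (a : HomogeneousIdeal 𝒜) (n : ι)
    (hf' : ∀ i, IsFiniteLength (deg0 𝒜) (E'.Hcomp a i n))
    (hf : ∀ i, IsFiniteLength (deg0 𝒜) (E.Hcomp a i n))
    (hf'' : ∀ i, IsFiniteLength (deg0 𝒜) (E''.Hcomp a i n))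
    (N : ℕ) (hN : E'.Hcomp a (N + 1) n = ⊥) :
    chiZ E a N n = chiZ E' a N n + chiZ E'' a N n := by
  obtain ⟨φ, hφ, hφf⟩ := exists_lift E' E f S.f_gr
  obtain ⟨ψ, hψ, hψg⟩ := exists_lift E E'' g S.g_gr
  obtain ⟨δ, hδ, hinj, hex1, hex2, hex3⟩ := exists_les S hφ hφf hψ hψg a
  let decE : ∀ i, DirectSum.Decomposition (E.Hgr a i) := fun i => HgrDecomposition E a i
  let decE' : ∀ i, DirectSum.Decomposition (E'.Hgr a i) := fun i => HgrDecomposition E' a i
  let decE'' : ∀ i, DirectSum.Decomposition (E''.Hgr a i) := fun i => HgrDecomposition E'' a i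
  have hφm : ∀ i, ∀ x ∈ E'.Hcomp a i n, φ.H a i x ∈ E.Hcomp a i n :=
    fun i x hx => CMap.H_mem_Hcomp φ a hφ i n hx
  have hψm : ∀ i, ∀ x ∈ E.Hcomp a i n, ψ.H a i x ∈ E''.Hcomp a i n :=
    fun i x hx => CMap.H_mem_Hcomp ψ a hψ i n hx
  have hδm : ∀ i, ∀ x ∈ E''.Hcomp a i n, δ i x ∈ E'.Hcomp a (i + 1) n :=
    fun i x hx => hδ i n x hx
  have key := euler_les (K := deg0 𝒜) (fun i => ↥(E'.Hcomp a i n)) (fun i => ↥(E.Hcomp a i n))
    (fun i => ↥(E''.Hcomp a i n))
    (fun i => pieceMap _ _ (φ.H a i) (hφm i)) (fun i => pieceMap _ _ (ψ.H a i) (hψm i))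
    (fun i => pieceMap _ _ (δ i) (hδm i)) hf' hf hf''
    (fun x y h => Subtype.ext (hinj (congrArg Subtype.val h)))
    (fun i => pieceMap_ker_eq_range _ _ _ _ _ _ _
      (fun x => by
        have : φ.H a i x ∈ LinearMap.ker (ψ.H a i) := by
          rw [hex1 i]; exact LinearMap.mem_range_self _ _
        exact this)
      (fun y hy hy0 => by
        have hr : y ∈ LinearMap.range (φ.H a i) := by rw [← hex1 i]; exact hy0
        exact exists_mem_piece_of_mem_range (E'.Hgr a i) (E.Hgr a i) (φ.H a i)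
          (fun g m hm => CMap.H_mem_Hcomp φ a hφ i g hm) hy hr))
    (fun i => pieceMap_ker_eq_range _ _ _ _ _ _ _
      (fun x => by
        have : ψ.H a i x ∈ LinearMap.ker (δ i) := by
          rw [hex2 i]; exact LinearMap.mem_range_self _ _
        exact this)
      (fun y hy hy0 => by
        have hr : y ∈ LinearMap.range (ψ.H a i) := by rw [← hex2 i]; exact hy0
        exact exists_mem_piece_of_mem_range (E.Hgr a i) (E''.Hgr a i) (ψ.H a i)
          (fun g m hm => CMap.H_mem_Hcomp ψ a hψ i g hm) hy hr))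
    (fun i => pieceMap_ker_eq_range _ _ _ _ _ _ _
      (fun x => by
        have : δ i x ∈ LinearMap.ker (φ.H a (i + 1)) := by
          rw [hex3 i]; exact LinearMap.mem_range_self _ _
        exact this)
      (fun y hy hy0 => by
        have hr : y ∈ LinearMap.range (δ i) := by rw [← hex3 i]; exact hy0
        exact exists_mem_piece_of_mem_range (E''.Hgr a i) (E'.Hgr a (i + 1)) (δ i)
          (fun g m hm => hδ i g m hm) hy hr))
    N (fun x => by
      have hx : (x : E'.H a (N + 1)) ∈ (⊥ : Submodule (deg0 𝒜) (E'.H a (N + 1))) := hN ▸ x.2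
      exact Subtype.ext ((Submodule.mem_bot _).mp hx))
  unfold chiZ
  rw [← Finset.sum_add_distrib, ← sub_eq_zero, ← Finset.sum_sub_distrib]
  rw [← neg_eq_zero, ← Finset.sum_neg_distrib]
  rw [← key]
  refine Finset.sum_congr rfl fun i _ => ?_
  ring

end SES

end Groth.Agent.Lib.T2H3.Serre
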