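import Groth.Agent.Lib.T2H3SerreC
import Groth.Agent.Lib.T2H3GrIrrC

/-! Serre's formula, part D (helper3): the defect `H_M(n) - χ(n)` is additive on short exact
sequences; sub- and quotient graded modules; the torsion and regular-element steps. -/

set_option autoImplicit false
set_option linter.unusedSectionVars false
set_option linter.style.haveILetI false
open DirectSum Polynomial

noncomputable section

namespace Groth.Agent.Lib.T2H3.Serre

open GrLC Groth.Agent.Lib.T2H3.GrLes Groth.Agent.Lib.T2H5.EulerAlg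
  Groth.Agent.Lib.T2H3.GrIrr Groth.Agent.Lib.T2H3.GrArt Groth.Agent.Lib.Helper29GrShift
  Groth.Agent.Lib.Helper29GrQuot Groth.Agent.Lib.Helper29GrSub Groth.Agent.Lib.T2H3.MinRes

universe u

section SubQuot

variable {ι : Type} [AddCommGroup ι] [DecidableEq ι]
variable {R : Type u} [CommRing R] (𝒜 : ι → AddSubgroup R) [GradedRing 𝒜]
variable {M : Type u} [AddCommGroup M] [Module R M] (ℳ : ι → AddSubgroup M)
  [DirectSum.Decomposition ℳ] [SetLike.GradedSMul 𝒜 ℳ]

/-- A homogeneous submodule as a bundled graded module. -/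
def subG (P : Submodule R M) (hP : P.IsHomogeneous ℳ) : GMod.{u} 𝒜 :=
  { carrier := ↥P
    gr := subGr ℳ P
    dec := subDecomposition ℳ P hP
    gsmul := sub_gradedSMul ℳ P 𝒜 }

/-- The quotient by a homogeneous submodule as a bundled graded module. -/
def quotG (P : Submodule R M) (hP : P.IsHomogeneous ℳ) : GMod.{u} 𝒜 :=
  { carrier := M ⧸ P
    gr := quotGr ℳ P
    dec := quotDecomposition ℳ P hP
    gsmul := quot_gradedSMul ℳ P 𝒜 }

variable (P : Submodule R M) (hP : P.IsHomogeneous ℳ)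

/-- The inclusion. -/
def subVal : (subG 𝒜 ℳ P hP).carrier →ₗ[R] M := P.subtype

/-- The projection. -/
def quotMk : M →ₗ[R] (quotG 𝒜 ℳ P hP).carrier := P.mkQ

theorem grSES_sub_quot :
    GrSES (subG 𝒜 ℳ P hP).gr ℳ (quotG 𝒜 ℳ P hP).gr (subVal 𝒜 ℳ P hP) (quotMk 𝒜 ℳ P hP) where
  f_gr := fun _ _ hx => hx
  g_gr := fun _ x hx => ⟨x, hx, rfl⟩
  f_inj := Subtype.val_injective
  g_surj := Submodule.mkQ_surjective P
  exact := by
    change LinearMap.ker P.mkQ = LinearMap.range P.subtype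
    rw [Submodule.ker_mkQ, Submodule.range_subtype]

instance finite_subG [IsNoetherianRing R] [Module.Finite R M] :
    Module.Finite R (subG 𝒜 ℳ P hP).carrier := by
  haveI : IsNoetherian R M := isNoetherian_of_isNoetherianRing_of_finite R M
  change Module.Finite R ↥P
  infer_instance

instance finite_quotG [Module.Finite R M] : Module.Finite R (quotG 𝒜 ℳ P hP).carrier := by
  change Module.Finite R (M ⧸ P)
  infer_instance

end SubQuot

variable {R : Type u} [CommRing R] [IsNoetherianRing R] {𝒜 : ℤ → AddSubgroup R} [GradedRing 𝒜]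
variable (hpos : ∀ n : ℤ, n < 0 → 𝒜 n = ⊥) [IsArtinianRing (deg0 𝒜)]
  {m : HomogeneousIdeal 𝒜} (hm : IsStarLocal 𝒜 m) {d : ℕ} (hd : ringKrullDim R = d)

section Defect

variable {M : Type u} [AddCommGroup M] [Module R M] {ℳ : ℤ → AddSubgroup M}
  [DirectSum.Decomposition ℳ] [SetLike.GradedSMul 𝒜 ℳ]

/-- The defect `H_M(n) - χ(n)`. -/
def defect (E : StarInjRes 𝒜 ℳ) (m : HomogeneousIdeal 𝒜) (d : ℕ) (n : ℤ) : ℤ :=
  hZ 𝒜 ℳ n - chiZ E m d n

variable {M' : Type u} [AddCommGroup M'] [Module R M'] {ℳ' : ℤ → AddSubgroup M'}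
  [DirectSum.Decomposition ℳ'] [SetLike.GradedSMul 𝒜 ℳ']
variable {M'' : Type u} [AddCommGroup M''] [Module R M''] {ℳ'' : ℤ → AddSubgroup M''}
  [DirectSum.Decomposition ℳ''] [SetLike.GradedSMul 𝒜 ℳ'']

include hpos hm hd in
/-- The defect is additive on short exact sequences. -/
theorem defect_ses [Module.Finite R M'] [Module.Finite R M] [Module.Finite R M'']
    {f : M' →ₗ[R] M} {g : M →ₗ[R] M''} (S : GrSES ℳ' ℳ ℳ'' f g)
    (E' : StarInjRes 𝒜 ℳ') (E : StarInjRes 𝒜 ℳ) (E'' : StarInjRes 𝒜 ℳ'') (n : ℤ) :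
    defect E m d n = defect E' m d n + defect E'' m d n := by
  unfold defect
  rw [hZ_ses S n (isFiniteLength_comp n),
    euler_ses S E' E E'' m n (fun i => isFiniteLength_Hcomp hpos hm E' i n)
      (fun i => isFiniteLength_Hcomp hpos hm E i n)
      (fun i => isFiniteLength_Hcomp hpos hm E'' i n) d
      (Hcomp_eq_bot_of_lt hd E' (Nat.lt_succ_self d) n)]
  omega

/-- The defect of a torsion module vanishes. -/
theorem defect_of_torsion (E : StarInjRes 𝒜 ℳ) (hM : gam m.toIdeal M = ⊤) (n : ℤ) :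
    defect E m d n = 0 := by
  unfold defect
  rw [chiZ_of_torsion E m hM d n, sub_self]

theorem hZ_shift (e n : ℤ) : hZ 𝒜 (shiftGr ℳ e) n = hZ 𝒜 ℳ (n + e) := by
  unfold hZ
  exact lenZ_eq_of_eq (Submodule.ext fun _ => Iff.rfl)

theorem chiZ_shift (E : StarInjRes 𝒜 ℳ) (e n : ℤ) :
    chiZ (shiftRes E e) m d n = chiZ E m d (n + e) := by
  unfold chiZ
  refine Finset.sum_congr rfl fun i _ => ?_
  rfl

theorem defect_shift (E : StarInjRes 𝒜 ℳ) (e n : ℤ) :
    defect (shiftRes E e) m d n = defect E m d (n + e) := by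
  unfold defect
  rw [hZ_shift, chiZ_shift]

end Defect

end Groth.Agent.Lib.T2H3.Serre
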