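import Groth.Agent.Lib.T2H3SerreD

/-! Serre's formula, part E (helper3): the induction. -/

set_option autoImplicit false
set_option linter.unusedSectionVars false
set_option linter.style.haveILetI false
open DirectSum Polynomial

noncomputable section

namespace Groth.Agent.Lib.T2H3.Serre

open GrLC Groth.Agent.Lib.T2H3.GrLes Groth.Agent.Lib.T2H5.EulerAlg
  Groth.Agent.Lib.T2H3.GrIrr Groth.Agent.Lib.T2H3.GrArt Groth.Agent.Lib.Helper29GrShift
  Groth.Agent.Lib.Helper29GrQuot Groth.Agent.Lib.Helper29GrSub Groth.Agent.Lib.T2H3.MinRes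
  Groth.Agent.Lib.Helper29GrGam

universe u

variable {R : Type u} [CommRing R] [IsNoetherianRing R] {𝒜 : ℤ → AddSubgroup R} [GradedRing 𝒜]
variable (hpos : ∀ n : ℤ, n < 0 → 𝒜 n = ⊥) [IsArtinianRing (deg0 𝒜)]
  {m : HomogeneousIdeal 𝒜} (hm : IsStarLocal 𝒜 m) {d : ℕ} (hd : ringKrullDim R = d)

/-- `P` is a Hilbert polynomial of the graded module. -/
def EvHilb (𝒜 : ℤ → AddSubgroup R) [GradedRing 𝒜] {M : Type u} [AddCommGroup M] [Module R M]
    (ℳ : ℤ → AddSubgroup M) [SetLike.GradedSMul 𝒜 ℳ] (P : ℚ[X]) : Prop :=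
  ∃ N : ℤ, ∀ n : ℤ, N ≤ n → P.eval (n : ℚ) = (hZ 𝒜 ℳ n : ℚ)

/-- Serre's formula for the graded module `X`. -/
def Holds (m : HomogeneousIdeal 𝒜) (d : ℕ) (X : GMod.{u} 𝒜) : Prop :=
  ∀ (E : StarInjRes 𝒜 X.gr) (P : ℚ[X]), EvHilb 𝒜 X.gr P →
    ∀ n : ℤ, (defect E m d n : ℚ) = P.eval (n : ℚ)

include hpos hm in
theorem holds_of_torsion (X : GMod.{u} 𝒜) [Module.Finite R X.carrier]
    (hX : gam m.toIdeal X.carrier = ⊤) : Holds m d X := by
  rintro E P ⟨N, hN⟩ n
  rw [defect_of_torsion E hX n]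
  obtain ⟨N', hN'⟩ := exists_hZ_eq_zero_of_torsion hpos hm (ℳ := X.gr) hX
  have := (IsPolyFun.zero).eq_of_eventually_eq P ⟨max N N', fun k hk => by
    rw [hN k (le_trans (le_max_left _ _) hk), hN' k (le_trans (le_max_right _ _) hk)]
    simp⟩ n
  rw [← this]
  simp

include hpos hm hd in
theorem holds_of_quot_gam (X : GMod.{u} 𝒜) [Module.Finite R X.carrier]
    (h : Holds m d (quotG 𝒜 X.gr (gam m.toIdeal X.carrier) (gam_isHomogeneous 𝒜 X.gr m))) :
    Holds m d X := by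
  rintro E P ⟨N, hN⟩ n
  have hNg := gam_isHomogeneous 𝒜 X.gr m
  have S := grSES_sub_quot 𝒜 X.gr (gam m.toIdeal X.carrier) hNg
  let E' := minRes 𝒜 (subG 𝒜 X.gr (gam m.toIdeal X.carrier) hNg).gr
  let E'' := minRes 𝒜 (quotG 𝒜 X.gr (gam m.toIdeal X.carrier) hNg).gr
  have hadd := defect_ses hpos hm hd S E' E E''
  have htors : gam m.toIdeal (subG 𝒜 X.gr (gam m.toIdeal X.carrier) hNg).carrier = ⊤ := by
    rw [eq_top_iff]
    rintro ⟨y, k, hk⟩ -
    exact ⟨k, fun r hr => Subtype.ext (hk r hr)⟩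
  have h0 := defect_of_torsion (d := d) E' htors
  have hZs : ∀ k, hZ 𝒜 X.gr k = hZ 𝒜 (subG 𝒜 X.gr (gam m.toIdeal X.carrier) hNg).gr k +
      hZ 𝒜 (quotG 𝒜 X.gr (gam m.toIdeal X.carrier) hNg).gr k :=
    fun k => hZ_ses S k (isFiniteLength_comp k)
  obtain ⟨N', hN'⟩ := exists_hZ_eq_zero_of_torsion hpos hm
    (ℳ := (subG 𝒜 X.gr (gam m.toIdeal X.carrier) hNg).gr) htors
  have hev : EvHilb 𝒜 (quotG 𝒜 X.gr (gam m.toIdeal X.carrier) hNg).gr P :=
    ⟨max N N', fun k hk => by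
      rw [hN k (le_trans (le_max_left _ _) hk), hZs k, hN' k (le_trans (le_max_right _ _) hk),
        zero_add]⟩
  have := h E'' P hev n
  rw [hadd, h0, zero_add]
  exact this

include hpos hm hd in
theorem holds_of_quot_regular (X : GMod.{u} 𝒜) [Module.Finite R X.carrier] {x : R} {e : ℤ}
    (he : 0 < e) (hx : x ∈ 𝒜 e) (hreg : Function.Injective (fun y : X.carrier => x • y))
    (h : Holds m d (quotG 𝒜 X.gr (LinearMap.range (LinearMap.lsmul R X.carrier x))
      (range_lsmul_isHomogeneous hx))) : Holds m d X := by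
  rintro E P ⟨N, hN⟩ n
  have hQh := range_lsmul_isHomogeneous (ℳ := X.gr) hx
  let F := minRes 𝒜 (quotG 𝒜 X.gr (LinearMap.range (LinearMap.lsmul R X.carrier x)) hQh).gr
  have S0 := grSES_sub_quot 𝒜 X.gr (LinearMap.range (LinearMap.lsmul R X.carrier x)) hQh
  have S : GrSES (shiftGr X.gr (-e)) X.gr
      (quotG 𝒜 X.gr (LinearMap.range (LinearMap.lsmul R X.carrier x)) hQh).gr
      (LinearMap.lsmul R X.carrier x)
      (quotMk 𝒜 X.gr (LinearMap.range (LinearMap.lsmul R X.carrier x)) hQh) := by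
    refine ⟨fun k y hy => smul_mem_of_shift hx hy, S0.g_gr, hreg, S0.g_surj, ?_⟩
    change LinearMap.ker (LinearMap.range (LinearMap.lsmul R X.carrier x)).mkQ = _
    rw [Submodule.ker_mkQ]
  have hadd : ∀ k, defect E m d k = defect E m d (k + -e) + defect F m d k := by
    intro k
    rw [← defect_shift]
    exact defect_ses hpos hm hd S (shiftRes E (-e)) E F k
  have hZQ : ∀ k, hZ 𝒜 X.gr k = hZ 𝒜 X.gr (k + -e) +
      hZ 𝒜 (quotG 𝒜 X.gr (LinearMap.range (LinearMap.lsmul R X.carrier x)) hQh).gr k := by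
    intro k
    rw [← hZ_shift]
    exact hZ_ses S k (isFiniteLength_comp k)
  have hev : EvHilb 𝒜 (quotG 𝒜 X.gr (LinearMap.range (LinearMap.lsmul R X.carrier x)) hQh).gr
      (P - P.comp (Polynomial.X - C (e : ℚ))) := by
    refine ⟨N + e, fun k hk => ?_⟩
    rw [eval_sub, eval_comp, eval_sub, eval_X, eval_C]
    have h1 := hN k (by omega)
    have h2 := hN (k + -e) (by omega)
    have h3 : ((k + -e : ℤ) : ℚ) = (k : ℚ) - (e : ℚ) := by push_cast; ring
    rw [h3] at h2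
    rw [h1, h2, hZQ k]
    push_cast
    ring
  have hF := h F _ hev
  have hstep : ∀ k : ℤ, (defect E m d k : ℚ) - P.eval (k : ℚ) =
      (defect E m d (k + -e) : ℚ) - P.eval ((k + -e : ℤ) : ℚ) := by
    intro k
    have h1 := hF k
    rw [eval_sub, eval_comp, eval_sub, eval_X, eval_C] at h1
    have h3 : ((k + -e : ℤ) : ℚ) = (k : ℚ) - (e : ℚ) := by push_cast; ring
    rw [hadd k, h3]
    push_cast
    rw [h1]
    ring
  obtain ⟨N₁, hN₁⟩ := exists_chiZ_eq_zero hpos hm E d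
  have hev0 : ∀ k : ℤ, max N N₁ ≤ k → (defect E m d k : ℚ) - P.eval (k : ℚ) = 0 := by
    intro k hk
    unfold defect
    rw [hN₁ k (le_trans (le_max_right _ _) hk), hN k (le_trans (le_max_left _ _) hk)]
    push_cast
    ring
  have hiter : ∀ j : ℕ, (defect E m d n : ℚ) - P.eval (n : ℚ) =
      (defect E m d (n + j * e) : ℚ) - P.eval ((n + j * e : ℤ) : ℚ) := by
    intro j
    induction j with
    | zero => simp
    | succ j ih =>
      rw [ih]
      have := hstep (n + (j + 1 : ℕ) * e)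
      have h4 : n + ((j + 1 : ℕ) : ℤ) * e + -e = n + (j : ℤ) * e := by push_cast; ring
      rw [h4] at this
      exact this.symm
  have hbig : max N N₁ ≤ n + ((max N N₁ - n).toNat : ℤ) * e := by
    have h5 : max N N₁ - n ≤ ((max N N₁ - n).toNat : ℤ) := Int.self_le_toNat _
    have h6 : ((max N N₁ - n).toNat : ℤ) ≤ ((max N N₁ - n).toNat : ℤ) * e :=
      le_mul_of_one_le_right (Int.natCast_nonneg _) (by omega)
    omega
  have := hiter (max N N₁ - n).toNat
  rw [hev0 _ hbig] at this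
  linarith

end Groth.Agent.Lib.T2H3.Serre
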