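import Groth.Agent.Lib.T2H3SerreE

/-! Serre's formula, part F (helper3): Noetherian induction on the annihilator and the final
statement `H_M(n) - P_M(n) = Σ (-1)^i ℓ(H^i_m(M)_n)`. -/

set_option autoImplicit false
set_option linter.unusedSectionVars false
set_option linter.style.haveILetI false
open DirectSum Polynomial

noncomputable section

namespace Groth.Agent.Lib.T2H3.Serre

open GrLC Groth.Agent.Lib.T2H3.GrLes Groth.Agent.Lib.T2H5.EulerAlg
  Groth.Agent.Lib.T2H3.GrIrr Groth.Agent.Lib.T2H3.GrArt Groth.Agent.Lib.Helper29GrShift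
  Groth.Agent.Lib.Helper29GrQuot Groth.Agent.Lib.Helper29GrSub Groth.Agent.Lib.T2H3.MinRes
  Groth.Agent.Lib.Helper29GrGam

universe u

variable {R : Type u} [CommRing R] [IsNoetherianRing R] {𝒜 : ℤ → AddSubgroup R} [GradedRing 𝒜]
variable (hpos : ∀ n : ℤ, n < 0 → 𝒜 n = ⊥) [IsArtinianRing (deg0 𝒜)]
  {m : HomogeneousIdeal 𝒜} (hm : IsStarLocal 𝒜 m) {d : ℕ} (hd : ringKrullDim R = d)

theorem annihilator_le_quotG (X : GMod.{u} 𝒜) (P : Submodule R X.carrier)
    (hP : P.IsHomogeneous X.gr) :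
    Module.annihilator R X.carrier ≤ Module.annihilator R (quotG 𝒜 X.gr P hP).carrier := by
  intro r hr
  rw [Module.mem_annihilator] at hr ⊢
  intro y
  obtain ⟨x, rfl⟩ := Submodule.mkQ_surjective P y
  change r • P.mkQ x = 0
  rw [← map_smul, hr x, map_zero]

include hpos hm hd in
theorem holds_aux (J : Ideal R) : ∀ (X : GMod.{u} 𝒜) [Module.Finite R X.carrier],
    J ≤ Module.annihilator R X.carrier → Holds m d X := by
  induction J using WellFoundedGT.induction with
  | ind J IH =>
    intro X _ hJ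
    apply holds_of_quot_gam hpos hm hd
    have hNg := gam_isHomogeneous 𝒜 X.gr m
    obtain ⟨Xb, hXb⟩ : ∃ Xb : GMod.{u} 𝒜,
        Xb = quotG 𝒜 X.gr (gam m.toIdeal X.carrier) hNg := ⟨_, rfl⟩
    rw [← hXb]
    haveI : Module.Finite R Xb.carrier := by rw [hXb]; infer_instance
    have hJb : J ≤ Module.annihilator R Xb.carrier := by
      rw [hXb]; exact hJ.trans (annihilator_le_quotG X _ hNg)
    have htf : gam m.toIdeal Xb.carrier = ⊥ := by
      rw [hXb]; exact gam_quotient_eq_bot m.toIdeal X.carrier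
    by_cases hsub : Subsingleton Xb.carrier
    · apply holds_of_torsion hpos hm
      rw [eq_top_iff]
      intro y _
      rw [Subsingleton.elim y 0]
      exact zero_mem _
    · obtain ⟨x, e, he, hxe, -, hreg⟩ := exists_regular_homogeneous 𝒜 (M := Xb.carrier) hpos
        (irr 𝒜) (irr_isHomogeneous 𝒜) le_rfl
        (by rw [← gam_eq_gam_irr hpos hm]; exact htf)
      apply holds_of_quot_regular hpos hm hd Xb he hxe hreg
      have hQh := range_lsmul_isHomogeneous (ℳ := Xb.gr) hxe
      have hxJ : x ∉ J := by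
        intro hxJ
        apply hsub
        have hx0 := Module.mem_annihilator.mp (hJb hxJ)
        refine ⟨fun y z => hreg ?_⟩
        change x • y = x • z
        rw [hx0 y, hx0 z]
      have hlt : J < J ⊔ Ideal.span {x} := by
        refine lt_of_le_of_ne le_sup_left fun h => hxJ ?_
        rw [h]
        exact Ideal.mem_sup_right (Ideal.subset_span rfl)
      refine IH (J ⊔ Ideal.span {x}) hlt _ ?_
      refine sup_le (hJb.trans (annihilator_le_quotG Xb _ hQh)) ?_
      rw [Ideal.span_le]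
      intro r hr
      rw [Set.mem_singleton_iff] at hr
      subst hr
      rw [SetLike.mem_coe, Module.mem_annihilator]
      intro y
      obtain ⟨z, rfl⟩ := Submodule.mkQ_surjective
        (LinearMap.range (LinearMap.lsmul R Xb.carrier r)) y
      change r • (LinearMap.range (LinearMap.lsmul R Xb.carrier r)).mkQ z = 0
      rw [← map_smul]
      exact (Submodule.Quotient.mk_eq_zero _).mpr ⟨z, rfl⟩

variable {M : Type u} [AddCommGroup M] [Module R M] [Module.Finite R M] {ℳ : ℤ → AddSubgroup M}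
  [DirectSum.Decomposition ℳ] [SetLike.GradedSMul 𝒜 ℳ]

include hpos hm hd in
/-- Serre's formula. -/
theorem serre_formula (E : StarInjRes 𝒜 ℳ) (P : ℚ[X])
    (hP : ∃ N : ℤ, ∀ n : ℤ, N ≤ n → P.eval (n : ℚ) = (hZ 𝒜 ℳ n : ℚ)) (n : ℤ) :
    (hZ 𝒜 ℳ n : ℚ) - P.eval (n : ℚ) = (chiZ E m d n : ℚ) := by
  haveI : Module.Finite R (GMod.of 𝒜 M ℳ).carrier := ‹Module.Finite R M›
  have h := holds_aux hpos hm hd ⊥ (GMod.of 𝒜 M ℳ) bot_le E P hP n
  have h' : ((hZ 𝒜 ℳ n - chiZ E m d n : ℤ) : ℚ) = P.eval (n : ℚ) := h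
  push_cast at h'
  linarith

end Groth.Agent.Lib.T2H3.Serre
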