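import Groth.Agent.Lib.T2H3SerreG
import Groth.Agent.Lib.T2H3HilbD

/-! The `a`-invariant of a standard graded Cohen–Macaulay ring is at least `-dim` (helper3). -/

set_option autoImplicit false
set_option linter.unusedSectionVars false
set_option linter.style.haveILetI false
open DirectSum Polynomial

noncomputable section

namespace Groth.Agent.Lib.T2H3.Serre

open GrLC Groth.Agent.Lib.T2H3.GrLes Groth.Agent.Lib.T2H5.EulerAlg
  Groth.Agent.Lib.T2H3.GrIrr Groth.Agent.Lib.T2H3.GrArt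

universe u

section Basic

variable {R : Type u} [CommRing R] {𝒜 : ℤ → AddSubgroup R} [GradedRing 𝒜]

theorem hZ_of_neg (hpos : ∀ n : ℤ, n < 0 → 𝒜 n = ⊥) {n : ℤ} (hn : n < 0) : hZ 𝒜 𝒜 n = 0 := by
  haveI : Subsingleton ↥(comp 𝒜 𝒜 n) := by
    refine ⟨fun y z => Subtype.ext ?_⟩
    have hy : (y : R) ∈ 𝒜 n := y.2
    have hz : (z : R) ∈ 𝒜 n := z.2
    rw [hpos n hn, AddSubgroup.mem_bot] at hy hz
    rw [hy, hz]
  exact lenZ_of_subsingleton _

theorem hZ_zero_ne_zero [IsNoetherianRing R] [IsArtinianRing (deg0 𝒜)] [Nontrivial R] :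
    hZ 𝒜 𝒜 0 ≠ 0 := by
  have hfin : IsFiniteLength (deg0 𝒜) (comp 𝒜 𝒜 0) := isFiniteLength_comp 0
  have hne : Module.length (deg0 𝒜) ↥(comp 𝒜 𝒜 0) ≠ ⊤ := Module.length_ne_top_iff.mpr hfin
  unfold hZ lenZ
  rw [Ne, Int.natCast_eq_zero, ENat.toNat_eq_zero, not_or]
  refine ⟨?_, hne⟩
  rw [Module.length_eq_zero_iff]
  intro hsub
  have hone : (1 : R) ∈ 𝒜 0 := SetLike.GradedOne.one_mem
  have h1 : (⟨1, hone⟩ : ↥(comp 𝒜 𝒜 0)) = 0 := Subsingleton.elim _ _
  exact one_ne_zero (congrArg Subtype.val h1)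

end Basic

variable {R : Type u} [CommRing R] [hCM : LocCoh.IsCohenMacaulayRing R]
  {𝒜 : ℤ → AddSubgroup R} [GradedRing 𝒜]
variable (hpos : ∀ n : ℤ, n < 0 → 𝒜 n = ⊥) [IsArtinianRing (deg0 𝒜)]
  {m : HomogeneousIdeal 𝒜} (hm : IsStarLocal 𝒜 m) {d : ℕ} (hd : ringKrullDim R = d)
  (hstd : Ideal.span (⋃ n ∈ Set.Ioi (0 : ℤ), (𝒜 n : Set R)) =
    Ideal.span ((𝒜 1 : AddSubgroup R) : Set R))

include hm in
theorem nontrivial_of_isStarLocal : Nontrivial R := by
  by_contra h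
  rw [not_nontrivial_iff_subsingleton] at h
  apply one_notMem_of_isStarLocal hm
  rw [Subsingleton.elim (1 : R) 0]
  exact zero_mem _

include hpos hm hd hstd in
/-- Some piece of `H^d_m(R)` in degree `≥ -d` is nonzero. -/
theorem exists_Hgr_ne_bot (I : StarInjRes 𝒜 𝒜) : ∃ n : ℤ, -(d : ℤ) ≤ n ∧ I.Hgr m d n ≠ ⊥ := by
  classical
  haveI := nontrivial_of_isStarLocal hm
  obtain ⟨P, hP⟩ := exists_hilbPoly (M := R) hstd 𝒜
  have hdeg := degree_hilbPoly_lt hpos hm hstd hd P hP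
  by_contra hcon
  push Not at hcon
  have heq : ∀ n : ℤ, -(d : ℤ) ≤ n → P.eval (n : ℚ) = (hZ 𝒜 𝒜 n : ℚ) := by
    intro n hn
    by_contra hne
    exact (Hgr_ne_bot_iff hpos hm hd I P hP n).mpr hne (hcon n hn)
  have hP0 : P = 0 := by
    by_contra hPne
    have hnat : P.natDegree < d := by
      rw [degree_eq_natDegree hPne] at hdeg
      exact_mod_cast hdeg
    apply hPne
    refine Polynomial.eq_zero_of_natDegree_lt_card_of_eval_eq_zero' P
      ((Finset.range d).image (fun j : ℕ => -((j : ℚ) + 1))) ?_ ?_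
    · intro x hx
      obtain ⟨j, hj, rfl⟩ := Finset.mem_image.mp hx
      have hjd : j < d := Finset.mem_range.mp hj
      have h1 := heq (-((j : ℤ) + 1)) (by omega)
      rw [hZ_of_neg hpos (by omega)] at h1
      have h2 : ((-((j : ℤ) + 1) : ℤ) : ℚ) = -((j : ℚ) + 1) := by push_cast; ring
      rw [h2] at h1
      rw [h1, Int.cast_zero]
    · rw [Finset.card_image_of_injective, Finset.card_range]
      · exact hnat
      · intro a b hab
        have : (a : ℚ) = b := by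
          have h3 : -((a : ℚ) + 1) = -((b : ℚ) + 1) := hab
          linarith
        exact_mod_cast this
  have h0 := heq 0 (by omega)
  rw [hP0, eval_zero] at h0
  exact hZ_zero_ne_zero (𝒜 := 𝒜) (by exact_mod_cast h0.symm)

end Groth.Agent.Lib.T2H3.Serre
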