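import Mathlib
import Groth.Agent.Lib.Helper18IndSmoothIC
import Groth.Agent.Lib.T2H3FpFactor
import Groth.Agent.Lib.Helper3HzNormal

/-!
# Strict henselization commutes with integral closure
(helper3, team 2)

`S ⊗[A] integralClosure A B ≃ integralClosure S (S ⊗[A] B)` for a strict henselization `S` of a
local ring `A`, by the ind-(essentially étale) presentation of `S`.
-/

set_option autoImplicit false
universe u

namespace Groth.Agent.Lib.T2H3.ShIntClos
open TensorProduct IsLocalRing
open Groth.Agent.Lib.Helper18IndSmoothIC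
open Groth.Agent.Lib.Helper3

/-- Variant of `Helper18IndSmoothIC.main`: factorizations through algebras for which the comparison
map is surjective suffice. -/
theorem bijective_of_factor (R : Type u) [CommRing R] (S : Type u) [CommRing S] [Algebra R S]
    [Module.Flat R S] (B : Type u) [CommRing B] [Algebra R B]
    (H : ∀ (A₁ : Type u) [CommRing A₁] [Algebra R A₁], Algebra.FinitePresentation R A₁ →
      ∀ χ : A₁ →ₐ[R] S, ∃ (C : Type u) (_ : CommRing C) (_ : Algebra R C),
        Function.Surjective (TensorProduct.toIntegralClosure R C B) ∧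
        ∃ (g : A₁ →ₐ[R] C) (h : C →ₐ[R] S), h.comp g = χ) :
    Function.Bijective (TensorProduct.toIntegralClosure R S B) := by
  refine ⟨TensorProduct.toIntegralClosure_injective_of_flat, ?_⟩
  rintro ⟨y, hy⟩
  obtain ⟨A, _, _, hfp, χ, yA, hyA, rfl⟩ := descend_integral R S B y hy
  obtain ⟨C, _, _, hsurj, g, h, hgh⟩ := H A hfp χ
  have hyC := isIntegral_map_tensor R A C B g yA hyA
  obtain ⟨z, hz⟩ := hsurj ⟨_, hyC⟩
  have key : ∀ z : C ⊗[R] integralClosure R B,
      ((TensorProduct.toIntegralClosure R S B)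
        (Algebra.TensorProduct.map h (AlgHom.id R _) z)).1 =
      Algebra.TensorProduct.map h (AlgHom.id R B) ((TensorProduct.toIntegralClosure R C B z).1) := by
    intro z
    induction z with
    | zero => simp
    | tmul c t => rfl
    | add a b ha hb =>
      simp only [map_add, Subalgebra.coe_add]
      rw [ha, hb]
  refine ⟨Algebra.TensorProduct.map h (AlgHom.id R _) z, ?_⟩
  apply Subtype.ext
  rw [key z, hz]
  change Algebra.TensorProduct.map h (AlgHom.id R B)
    (Algebra.TensorProduct.map g (AlgHom.id R B) yA) = Algebra.TensorProduct.map χ (AlgHom.id R B) yA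
  rw [map_map_tensor, hgh]

section Sh

variable {R : Type u} [CommRing R] [IsLocalRing R] {Ω : Type u} [Field Ω] [Algebra R Ω]

/-- the comparison map is bijective for the stages (localizations of étale algebras) -/
theorem bijective_L (i : Sh.Idx R Ω) (B : Type u) [CommRing B] [Algebra R B] :
    Function.Bijective (TensorProduct.toIntegralClosure R i.L B) := by
  haveI : Algebra.Smooth R i.C := inferInstance
  exact TensorProduct.toIntegralClosure_bijective_of_tower (S := i.C) (T := i.L)
    TensorProduct.toIntegralClosure_bijective_of_smooth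
    (TensorProduct.toIntegralClosure_bijective_of_isLocalization i.Q.primeCompl)

variable [Algebra (ResidueField R) Ω] [IsScalarTower R (ResidueField R) Ω]

/-- f.p. algebras mapping to the standard strict henselization factor through a stage -/
theorem exists_factor_Rsh (P : Type u) [CommRing P] [Algebra R P] [Algebra.FinitePresentation R P]
    (φ : P →ₐ[R] Sh.Rsh R Ω) :
    ∃ (j : Sh.Idx R Ω) (ψ : P →ₐ[R] j.L), (Sh.ofLₐ j).comp ψ = φ := by
  refine FpFactor.exists_factor (T := fun i : Sh.Idx R Ω => i.L) (ι := fun i => Sh.ofLₐ i)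
    ?_ ?_ ?_ P φ
  · intro j₁ j₂
    obtain ⟨j, h1, h2⟩ := exists_ge_ge j₁ j₂
    refine ⟨j, Sh.fmap j₁ j h1, Sh.fmap j₂ j h2, ?_, ?_⟩
    · ext x
      exact Sh.ofL_fmap h1 x
    · ext x
      exact Sh.ofL_fmap h2 x
  · intro x
    obtain ⟨i, y, hy⟩ := Sh.exists_ofL x
    exact ⟨i, y, hy⟩
  · intro j x hx
    obtain ⟨j', hjj', hj'⟩ := Sh.ofL_eq_zero hx
    refine ⟨j', Sh.fmap j j' hjj', ?_, hj'⟩
    ext z
    exact Sh.ofL_fmap hjj' z

end Sh

/-- **Strict henselization commutes with integral closure.** -/
theorem bijective_sh (A : Type u) [CommRing A] [IsLocalRing A] (S : Type u) [CommRing S]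
    [IsLocalRing S] [Algebra A S] [IsLocalHom (algebraMap A S)] [Hensel.IsStrictHenselization A S]
    (B : Type u) [CommRing B] [Algebra A B] :
    Function.Bijective (TensorProduct.toIntegralClosure A S B) := by
  obtain ⟨Ω, _, _, _, _, _, ⟨e⟩⟩ := HzP.sh_exists_model A S
  haveI : Module.Flat A S := (HzP.sh_faithfullyFlat A S).toFlat
  apply bijective_of_factor
  intro A₁ _ _ hfp χ
  haveI := hfp
  obtain ⟨j, ψ, hψ⟩ := exists_factor_Rsh A₁ ((e : S →ₐ[A] Sh.Rsh A Ω).comp χ)
  refine ⟨j.L, inferInstance, inferInstance, (bijective_L j B).2, ψ,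
    (e.symm : Sh.Rsh A Ω →ₐ[A] S).comp (Sh.ofLₐ j), ?_⟩
  rw [AlgHom.comp_assoc, hψ]
  ext x
  simp

end Groth.Agent.Lib.T2H3.ShIntClos
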