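import Mathlib
import Groth.Agent.Lib.Helper6UniB
import Groth.Agent.Lib.Helper3UnramEtB
import Groth.Agent.Lib.Helper4Unibranch
import Groth.Agent.S2135

/-!
# Localizations of smooth algebras over strictly henselian domains are geometrically unibranch domains
(helper3, team 2; the proof of S13199 without the Noetherian hypothesis)
-/

set_option autoImplicit false
set_option linter.unusedSectionVars false
set_option linter.style.haveILetI false
universe u

namespace Groth.Agent.Lib.T2H3.SmoothGU

open IsLocalRing in
/-- a strictly henselian local ring is its own strict henselization. -/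
theorem isStrictHenselization_self (R : Type u) [CommRing R] [HenselianLocalRing R]
    [IsSepClosed (IsLocalRing.ResidueField R)] [IsLocalHom (algebraMap R R)] :
    Hensel.IsStrictHenselization R R := by
  have hmap : ∀ x, IsLocalRing.ResidueField.map (algebraMap R R) x = x := by
    intro x
    obtain ⟨r, rfl⟩ := IsLocalRing.residue_surjective x
    rfl
  refine { henselian := inferInstance, isSepClosure := ?_, universal := ?_ }
  · refine @IsSepClosure.mk _ _ _ _ IsLocalRing.ResidueField.instAlgebra inferInstance
      (@Algebra.IsSeparable.mk _ _ _ _ IsLocalRing.ResidueField.instAlgebra (fun x => ?_))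
    have h1 := @isSeparable_algebraMap (ResidueField R) _ (ResidueField R) _
      IsLocalRing.ResidueField.instAlgebra x
    have h2 : @algebraMap (ResidueField R) (ResidueField R) _ _
      IsLocalRing.ResidueField.instAlgebra x = x := hmap x
    rwa [h2] at h1
  · intro T _ _ f _ τ hτ
    refine ⟨f, ⟨rfl, fun x => ?_⟩, fun g hg => ?_⟩
    · have := congrArg (fun φ : ResidueField R →+* ResidueField T => φ (residue R x)) hτ
      simp only [RingHom.comp_apply, hmap] at this
      rw [this]
      rfl
    · exact hg.1

/-- non-Noetherian version of S13199 -/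
theorem isDomain_and_isGeomUnibranch_of_smooth
    (R R' : Type u) [CommRing R] [IsDomain R] [HenselianLocalRing R]
    [IsSepClosed (IsLocalRing.ResidueField R)]
    [CommRing R'] [Algebra R R'] [Algebra.Smooth R R']
    (p : Ideal R') [p.IsPrime] (hp : (IsLocalRing.maximalIdeal R).map (algebraMap R R') ≤ p) :
    IsDomain (Localization.AtPrime p) ∧ CAlg2.IsGeomUnibranch (Localization.AtPrime p) := by
  classical
  haveI : IsLocalHom (algebraMap R R) := ⟨fun a ha => ha⟩
  haveI := isStrictHenselization_self R
  -- Step 1: `R` is geometrically unibranch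
  have hGUR : CAlg2.IsGeomUnibranch R := by
    refine (Groth.Agent.S2135.result (A := R) (Ash := R)).2 ?_
    have hbot : (⊥ : Ideal R) ∈ minimalPrimes R := by
      rw [minimalPrimes_eq_minimals]
      exact ⟨Ideal.isPrime_bot, fun q _ _ => bot_le⟩
    refine ⟨⊥, hbot, fun q hq => ?_⟩
    exact le_antisymm (hq.2 ⟨Ideal.isPrime_bot, bot_le⟩ bot_le) bot_le
  -- Step 2: local structure of smooth algebras
  haveI : Algebra.FormallySmooth R' (Localization.AtPrime p) :=
    Algebra.FormallySmooth.of_isLocalization p.primeCompl
  haveI hsm : Algebra.IsSmoothAt R p := Algebra.FormallySmooth.comp R R' (Localization.AtPrime p)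
  obtain ⟨f, hfp, n, algP, htower, hse⟩ :=
    Algebra.IsSmoothAt.exists_isStandardEtale_mvPolynomial (R := R) (S := R') (p := p)
  let P := MvPolynomial (Fin n) R
  let Sf := Localization.Away f
  have hdisj : Disjoint ((Submonoid.powers f : Submonoid R') : Set R') (p : Set R') :=
    (Ideal.disjoint_powers_iff_notMem_of_isPrime _).mpr hfp
  let pf : Ideal Sf := p.map (algebraMap R' Sf)
  haveI hpf : pf.IsPrime :=
    IsLocalization.isPrime_of_isPrime_disjoint (Submonoid.powers f) Sf p inferInstance hdisj
  have hpfc : pf.comap (algebraMap R' Sf) = p :=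
    IsLocalization.under_map_of_isPrime_disjoint (Submonoid.powers f) Sf inferInstance hdisj
  let Q₀ : Ideal P := pf.comap (algebraMap P Sf)
  haveI : Q₀.IsPrime := inferInstance
  have hQ₀ : Q₀.comap (MvPolynomial.C : R →+* P) = IsLocalRing.maximalIdeal R := by
    have h1 : Q₀.comap (MvPolynomial.C : R →+* P) = p.comap (algebraMap R R') := by
      rw [← hpfc, Ideal.comap_comap, Ideal.comap_comap]
      congr 1
      rw [← IsScalarTower.algebraMap_eq R R' Sf]
      exact (IsScalarTower.algebraMap_eq R P Sf).symm
    rw [h1]
    have hle : IsLocalRing.maximalIdeal R ≤ p.comap (algebraMap R R') :=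
      Ideal.map_le_iff_le_comap.mp hp
    exact ((IsLocalRing.maximalIdeal.isMaximal R).eq_of_le
      (Ideal.IsPrime.ne_top inferInstance) hle).symm
  let e : R ≃ₐ[R] Localization.AtPrime (IsLocalRing.maximalIdeal R) :=
    IsLocalization.atUnits R (IsLocalRing.maximalIdeal R).primeCompl
      (fun x hx => IsLocalRing.notMem_maximalIdeal.mp hx)
  have hGUm : CAlg2.IsGeomUnibranch (Localization.AtPrime (IsLocalRing.maximalIdeal R)) :=
    Groth.Agent.Lib.Helper4.Unibranch.isGeomUnibranch_of_ringEquiv e.toRingEquiv hGUR
  have hGUP : CAlg2.IsGeomUnibranch (Localization.AtPrime Q₀) :=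
    Groth.Agent.Lib.Helper6.Uni.isGeomUnibranch_mvPolynomial_localization' Q₀
      (IsLocalRing.maximalIdeal R) hQ₀ hGUm
  haveI : IsDomain (Localization.AtPrime Q₀) :=
    IsLocalization.isDomain_localization
      (le_nonZeroDivisors_of_noZeroDivisors (fun h => h (zero_mem Q₀)))
  obtain ⟨hdom, hgu⟩ := Groth.Agent.Lib.Helper3.UnramEt.isDomain_and_isGeomUnibranch_of_etale
    P Sf pf Q₀ rfl hGUP
  -- Step 3: transport to `R'_p`
  haveI : IsLocalization.AtPrime (Localization.AtPrime pf) (pf.comap (algebraMap R' Sf)) :=
    IsLocalization.isLocalization_isLocalization_atPrime_isLocalization (Submonoid.powers f)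
      (Localization.AtPrime pf) pf
  have hsub : (pf.comap (algebraMap R' Sf)).primeCompl = p.primeCompl :=
    Submonoid.ext (fun x => by
      show x ∉ pf.comap (algebraMap R' Sf) ↔ x ∉ p
      rw [hpfc])
  have hloc2 : IsLocalization p.primeCompl (Localization.AtPrime pf) :=
    hsub ▸ ‹IsLocalization.AtPrime (Localization.AtPrime pf) (pf.comap (algebraMap R' Sf))›
  haveI := hloc2
  let e2 : Localization.AtPrime p ≃ₐ[R'] Localization.AtPrime pf :=
    IsLocalization.algEquiv p.primeCompl _ _
  exact ⟨e2.toRingEquiv.toMulEquiv.isDomain (Localization.AtPrime pf),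
    Groth.Agent.Lib.Helper4.Unibranch.isGeomUnibranch_of_ringEquiv e2.symm.toRingEquiv hgu⟩

end Groth.Agent.Lib.T2H3.SmoothGU
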