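import Mathlib
import Groth.Agent.Lib.T2H3EtUnivPrimeA
import Groth.Agent.Lib.T2H3SmoothGU
import Groth.Agent.Lib.Helper3Branch

/-!
# Prime ideals of a strictly henselian local ring extend to primes in strict henselizations of
smooth algebras; count of minimal primes
(helper3, team 2)
-/

set_option autoImplicit false
set_option linter.unusedSectionVars false
set_option linter.style.haveILetI false
universe u

namespace Groth.Agent.Lib.T2H3.ShMinPrimes
open IsLocalRing TensorProduct
open Groth.Agent.Lib.Helper3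
open Groth.Agent.Lib.T2H3.EtUnivPrime

/-- **Prime ideals stay prime.** `D₀` strictly henselian local, `I ⊂ D₀` prime, `C` smooth over
`D₀`, `Q` a prime of `C` over the closed point, `T` a strict henselization of `C_Q`: the extension
of `I` to `T` is prime. -/
theorem map_isPrime_in_sh_of_smooth (D₀ : Type u) [CommRing D₀]
    [HenselianLocalRing D₀] [IsSepClosed (ResidueField D₀)] (I : Ideal D₀) [hIprime : I.IsPrime]
    (C : Type u) [CommRing C] [Algebra D₀ C] [Algebra.Smooth D₀ C] (Q : Ideal C) [Q.IsPrime]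
    (hQ : (maximalIdeal D₀).map (algebraMap D₀ C) ≤ Q)
    (T : Type u) [CommRing T] [IsLocalRing T] [Algebra (Localization.AtPrime Q) T]
    [IsLocalHom (algebraMap (Localization.AtPrime Q) T)]
    [Hensel.IsStrictHenselization (Localization.AtPrime Q) T] :
    (((I.map (algebraMap D₀ C)).map (algebraMap C (Localization.AtPrime Q))).map
      (algebraMap (Localization.AtPrime Q) T)).IsPrime := by
  classical
  let L := Localization.AtPrime Q
  have hItop : I ≠ ⊤ := hIprime.ne_top
  have hIle : I ≤ maximalIdeal D₀ := le_maximalIdeal hItop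
  let J : Ideal C := I.map (algebraMap D₀ C)
  have hJQ : J ≤ Q := (Ideal.map_mono hIle).trans hQ
  -- the base `D = D₀ ⧸ I`
  haveI : IsDomain (D₀ ⧸ I) := Ideal.Quotient.isDomain I
  haveI hDloc : IsLocalRing (D₀ ⧸ I) := isLocalRing_quotient I hItop
  haveI : HenselianLocalRing (D₀ ⧸ I) := Groth.Agent.S13598.henselian_quotient I
  haveI hmkloc := ShQuot.isLocalHom_mk I
  haveI : IsSepClosed (ResidueField (D₀ ⧸ I)) :=
    ShQuot.isSepClosed_of_ringEquiv (RingEquiv.ofBijective _ (ShQuot.residue_map_mk_bijective I))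
  haveI : Algebra.Smooth (D₀ ⧸ I) (C ⧸ J) := smooth_quotient I
  let Qb : Ideal (C ⧸ J) := Q.map (Ideal.Quotient.mk J)
  haveI hQb : Qb.IsPrime :=
    Ideal.map_isPrime_of_surjective Ideal.Quotient.mk_surjective (by rw [Ideal.mk_ker]; exact hJQ)
  have hQb_le : (maximalIdeal (D₀ ⧸ I)).map (algebraMap (D₀ ⧸ I) (C ⧸ J)) ≤ Qb := by
    rw [Ideal.map_le_iff_le_comap]
    intro x hx
    obtain ⟨d, rfl⟩ := Ideal.Quotient.mk_surjective x
    have hd : d ∈ maximalIdeal D₀ := by
      by_contra hd
      have hu : IsUnit d := by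
        by_contra hnu
        exact hd ((mem_maximalIdeal d).mpr hnu)
      exact ((mem_maximalIdeal _).mp hx) (hu.map _)
    have h1 : algebraMap D₀ C d ∈ Q := hQ (Ideal.mem_map_of_mem _ hd)
    exact Ideal.mem_map_of_mem (Ideal.Quotient.mk J) h1
  obtain ⟨hdom, hgu⟩ :=
    SmoothGU.isDomain_and_isGeomUnibranch_of_smooth (D₀ ⧸ I) (C ⧸ J) Qb hQb_le
  -- `L̄ = L ⧸ IL`
  let IL : Ideal L := J.map (algebraMap C L)
  haveI : IsLocalization.AtPrime (L ⧸ IL) Qb := isLocalization_atPrime_quotient Q J hJQ L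
  let e : Localization.AtPrime Qb ≃ₐ[C ⧸ J] (L ⧸ IL) := IsLocalization.algEquiv Qb.primeCompl _ _
  have hILle : IL ≤ maximalIdeal L := by
    rw [Ideal.map_le_iff_le_comap]
    intro c hc
    exact (IsLocalization.AtPrime.to_map_mem_maximal_iff L Q c).mpr (hJQ hc)
  have hILtop : IL ≠ ⊤ := by
    intro h
    rw [h] at hILle
    exact (maximalIdeal.isMaximal L).ne_top (top_le_iff.mp hILle)
  haveI hLbloc : IsLocalRing (L ⧸ IL) := isLocalRing_quotient IL hILtop
  haveI : IsDomain (L ⧸ IL) :=
    e.symm.toRingEquiv.toMulEquiv.isDomain (Localization.AtPrime Qb)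
  have hguL : CAlg2.IsGeomUnibranch (L ⧸ IL) :=
    Groth.Agent.Lib.Helper4.Unibranch.isGeomUnibranch_of_ringEquiv e.toRingEquiv hgu
  -- `T̄`
  let IT : Ideal T := IL.map (algebraMap L T)
  have hITle : IT ≤ maximalIdeal T := by
    rw [Ideal.map_le_iff_le_comap]
    intro x hx
    have hxm : x ∈ maximalIdeal L := hILle hx
    exact (mem_maximalIdeal _).mpr
      (fun hu => ((mem_maximalIdeal x).mp hxm) (isUnit_of_map_unit (algebraMap L T) x hu))
  have hITtop : IT ≠ ⊤ := by
    intro h
    rw [h] at hITle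
    exact (maximalIdeal.isMaximal T).ne_top (top_le_iff.mp hITle)
  haveI hTbloc : IsLocalRing (T ⧸ IT) := isLocalRing_quotient IT hITtop
  haveI : IsLocalHom (algebraMap (L ⧸ IL) (T ⧸ IT)) := isLocalHom_quotient IL
  haveI : Hensel.IsStrictHenselization (L ⧸ IL) (T ⧸ IT) :=
    ShQuot.isStrictHenselization_quotient IL
  have hTdom : IsDomain (T ⧸ IT) :=
    (Groth.Agent.S2750.result (L ⧸ IL) (T ⧸ IT)).mp ⟨inferInstance, hguL⟩
  exact (Ideal.Quotient.isDomain_iff_prime IT).mp hTdom

/-- counting minimal primes along a faithfully flat map under which minimal primes extend to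
primes -/
theorem encard_minimalPrimes_eq (S T : Type*) [CommRing S] [CommRing T] [Algebra S T]
    [Module.FaithfullyFlat S T]
    (h : ∀ q ∈ minimalPrimes S, (q.map (algebraMap S T)).IsPrime) :
    (minimalPrimes S).encard = (minimalPrimes T).encard := by
  classical
  let c : minimalPrimes T → minimalPrimes S := fun P =>
    ⟨P.1.comap (algebraMap S T), Branch.mapsTo_comap_minimalPrimes_of_flat S T P.2⟩
  have hc : Function.Surjective c := by
    rintro ⟨q, hq⟩
    obtain ⟨Q, hQ, hQq⟩ := Branch.exists_minimalPrimes_comap_eq (S := T) q hq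
    exact ⟨⟨Q, hQ⟩, Subtype.ext hQq⟩
  have hinj : Function.Injective c := by
    rintro ⟨P₁, h₁⟩ ⟨P₂, h₂⟩ e
    have e' : P₁.comap (algebraMap S T) = P₂.comap (algebraMap S T) := congrArg Subtype.val e
    have hq : P₁.comap (algebraMap S T) ∈ minimalPrimes S :=
      Branch.mapsTo_comap_minimalPrimes_of_flat S T h₁
    have hprime := h _ hq
    have key : ∀ P ∈ minimalPrimes T, P.comap (algebraMap S T) = P₁.comap (algebraMap S T) →
        P = (P₁.comap (algebraMap S T)).map (algebraMap S T) := by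
      intro P hP hPc
      have hle : (P₁.comap (algebraMap S T)).map (algebraMap S T) ≤ P := by
        rw [Ideal.map_le_iff_le_comap, hPc]
      exact le_antisymm (hP.2 ⟨hprime, bot_le⟩ hle) hle
    apply Subtype.ext
    change P₁ = P₂
    rw [key P₁ h₁ rfl, key P₂ h₂ e'.symm]
  exact (Set.encard_congr (Equiv.ofBijective c ⟨hinj, hc⟩)).symm

end Groth.Agent.Lib.T2H3.ShMinPrimes
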