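import Mathlib
import Groth.Agent.Lib.T2H3ShMinPrimesA
import Groth.Agent.Lib.Helper3ShTensor2

/-!
# Strict henselizations along a smooth map have the same number of minimal primes
(helper3, team 2)
-/

set_option autoImplicit false
set_option linter.unusedSectionVars false
set_option linter.style.haveILetI false
universe u

namespace Groth.Agent.Lib.T2H3.ShMinPrimes
open IsLocalRing TensorProduct
open Groth.Agent.Lib.Helper3

theorem encard_minimalPrimes_sh_of_smooth {R S Ash Bsh : Type u} [CommRing R] [CommRing S]
    [Algebra R S] [Algebra.Smooth R S] (q : Ideal S) [q.IsPrime] (p : Ideal R) [p.IsPrime]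
    [q.LiesOver p]
    [CommRing Ash] [IsLocalRing Ash] [Algebra (Localization.AtPrime p) Ash]
    [IsLocalHom (algebraMap (Localization.AtPrime p) Ash)]
    [Hensel.IsStrictHenselization (Localization.AtPrime p) Ash]
    [CommRing Bsh] [IsLocalRing Bsh] [Algebra (Localization.AtPrime q) Bsh]
    [IsLocalHom (algebraMap (Localization.AtPrime q) Bsh)]
    [Hensel.IsStrictHenselization (Localization.AtPrime q) Bsh] :
    (minimalPrimes Ash).encard = (minimalPrimes Bsh).encard := by
  classical
  let Rp := Localization.AtPrime p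
  let Sq := Localization.AtPrime q
  -- algebra structures
  letI : Algebra R Ash := ((algebraMap Rp Ash).comp (algebraMap R Rp)).toAlgebra
  haveI : IsScalarTower R Rp Ash := IsScalarTower.of_algebraMap_eq (fun _ => rfl)
  letI : Algebra S Bsh := ((algebraMap Sq Bsh).comp (algebraMap S Sq)).toAlgebra
  haveI : IsScalarTower S Sq Bsh := IsScalarTower.of_algebraMap_eq (fun _ => rfl)
  letI : Algebra R Bsh := ((algebraMap S Bsh).comp (algebraMap R S)).toAlgebra
  haveI : IsScalarTower R S Bsh := IsScalarTower.of_algebraMap_eq (fun _ => rfl)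
  letI : Algebra Rp Sq :=
    (Localization.localRingHom p q (algebraMap R S) (q.over_def p)).toAlgebra
  haveI : IsLocalHom (algebraMap Rp Sq) :=
    Localization.isLocalHom_localRingHom p q (algebraMap R S) (q.over_def p)
  letI : Algebra Rp Bsh := ((algebraMap Sq Bsh).comp (algebraMap Rp Sq)).toAlgebra
  haveI : IsScalarTower Rp Sq Bsh := IsScalarTower.of_algebraMap_eq (fun _ => rfl)
  obtain ⟨g, hg⟩ := ShTensor.exists_map (A := Rp) (B := Sq) (S := Ash) (T := Bsh)
  letI : Algebra Ash Bsh := g.toRingHom.toAlgebra
  haveI : IsLocalHom (algebraMap Ash Bsh) := hg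
  have hRT : ∀ r : R, algebraMap R Bsh r = algebraMap Ash Bsh (algebraMap R Ash r) := by
    intro r
    change algebraMap Sq Bsh (algebraMap S Sq (algebraMap R S r)) =
      g (algebraMap Rp Ash (algebraMap R Rp r))
    rw [g.commutes]
    change _ = algebraMap Sq Bsh (Localization.localRingHom p q (algebraMap R S) (q.over_def p)
      (algebraMap R Rp r))
    rw [Localization.localRingHom_to_map]
  haveI : IsScalarTower R Ash Bsh := IsScalarTower.of_algebraMap_eq hRT
  -- `Bsh` is a strict henselization of `(Ash ⊗[R] S)_Q`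
  have hsh := ShTensor2.isStrictHenselization R p Ash S q Bsh
  let C := Ash ⊗[R] S
  let Q := HzTensor.Q R S Ash Bsh
  let L := Localization.AtPrime Q
  letI : Algebra L Bsh := (HzTensor.phiL R S Ash Bsh).toAlgebra
  haveI : IsLocalHom (algebraMap L Bsh) := HzTensor.isLocalHom_phiL
  haveI : Hensel.IsStrictHenselization L Bsh := hsh
  haveI : HenselianLocalRing Ash := Hensel.IsStrictHenselization.henselian (R := Rp)
  haveI : IsSepClosed (ResidueField Ash) :=
    (Hensel.IsStrictHenselization.isSepClosure (R := Rp) (S := Ash)).sep_closed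
  have hphi : ∀ x : Ash, HzTensor.phi R S Ash Bsh (algebraMap Ash C x) = algebraMap Ash Bsh x := by
    intro x
    simp [C, HzTensor.phi, Algebra.TensorProduct.algebraMap_apply]
  have hQ : (maximalIdeal Ash).map (algebraMap Ash C) ≤ Q := by
    rw [Ideal.map_le_iff_le_comap]
    intro x hx
    change HzTensor.phi R S Ash Bsh (algebraMap Ash C x) ∈ maximalIdeal Bsh
    rw [hphi]
    exact (mem_maximalIdeal _).mpr
      (fun hu => ((mem_maximalIdeal x).mp hx) (isUnit_of_map_unit (algebraMap Ash Bsh) x hu))
  have htower : ∀ x : Ash, algebraMap Ash Bsh x = algebraMap L Bsh (algebraMap Ash L x) := by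
    intro x
    rw [IsScalarTower.algebraMap_apply Ash C L]
    change _ = HzTensor.phiL R S Ash Bsh (algebraMap C L (algebraMap Ash C x))
    rw [HzTensor.phiL_algebraMap, hphi]
  haveI : IsScalarTower Ash L Bsh := IsScalarTower.of_algebraMap_eq htower
  -- faithful flatness
  haveI : Module.Flat C L := IsLocalization.flat L Q.primeCompl
  haveI : Module.Flat Ash L := Module.Flat.trans Ash C L
  haveI : Module.FaithfullyFlat L Bsh := HzP.sh_faithfullyFlat L Bsh
  haveI : Module.Flat Ash Bsh := Module.Flat.trans Ash L Bsh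
  haveI : Module.FaithfullyFlat Ash Bsh := Module.FaithfullyFlat.of_flat_of_isLocalHom
  apply encard_minimalPrimes_eq Ash Bsh
  intro P hP
  haveI : P.IsPrime := hP.1.1
  have h1 := map_isPrime_in_sh_of_smooth Ash P C Q hQ Bsh
  have h2 : ((P.map (algebraMap Ash C)).map (algebraMap C L)).map (algebraMap L Bsh) =
      P.map (algebraMap Ash Bsh) := by
    rw [Ideal.map_map, Ideal.map_map]
    congr 1
    ext x
    simp only [RingHom.comp_apply]
    rw [htower, IsScalarTower.algebraMap_apply Ash C L]
  rw [h2] at h1
  exact h1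

end Groth.Agent.Lib.T2H3.ShMinPrimes
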