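import Mathlib

/-!
# Splitting over the fraction field of a normal overring: algebra, part A
(helper3, team 2)

`A ⊆ K = Frac A`, `R` a normal domain over `A` with `L = Frac R ⊇ K`, `E` a smooth `K`-algebra.
The canonical map `ψ : R ⊗[A] E → L ⊗[K] E` is injective and every idempotent of `L ⊗[K] E` is in
its image.
-/

set_option autoImplicit false
set_option linter.unusedSectionVars false
set_option linter.style.haveILetI false
universe u

namespace Groth.Agent.Lib.T2H3.ShSplit
open TensorProduct

theorem isIntegral_of_isIdempotentElem {R B : Type*} [CommRing R] [CommRing B] [Algebra R B] {t : B}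
    (ht : IsIdempotentElem t) : IsIntegral R t := by
  refine ⟨Polynomial.X ^ 2 - Polynomial.X, ?_, ?_⟩
  · exact Polynomial.monic_X_pow_sub (lt_of_le_of_lt Polynomial.degree_X_le (by norm_num))
  · simp [pow_two, ht.eq]

variable {A R K L E : Type u} [CommRing A] [IsDomain A] [CommRing R] [IsDomain R]
  [IsIntegrallyClosed R]
  [Algebra A R] [Field K] [Field L] [Algebra A K] [IsFractionRing A K] [Algebra R L]
  [IsFractionRing R L]
  [Algebra K L] [Algebra A L] [IsScalarTower A K L] [IsScalarTower A R L]
  [CommRing E] [Algebra K E] [Algebra A E] [IsScalarTower A K E]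

variable (A R K L E) in
/-- the canonical map `R ⊗[A] E → L ⊗[K] E` -/
noncomputable def psi : R ⊗[A] E →ₐ[R] L ⊗[K] E :=
  Algebra.TensorProduct.lift (Algebra.ofId R (L ⊗[K] E))
    ((Algebra.TensorProduct.includeRight : E →ₐ[K] L ⊗[K] E).restrictScalars A)
    (fun _ _ => Commute.all _ _)

theorem psi_tmul (r : R) (x : E) :
    psi A R K L E (r ⊗ₜ[A] x) = (algebraMap R L r) ⊗ₜ[K] x := by
  simp [psi, Algebra.ofId_apply, Algebra.TensorProduct.algebraMap_apply]

variable (A K E) in
include K in
theorem flat_E : Module.Flat A E := by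
  have : Module.Flat A K := IsLocalization.flat K (nonZeroDivisors A)
  exact Module.Flat.trans A K E

theorem psi_injective : Function.Injective (psi A R K L E) := by
  have : Module.Flat A E := flat_E A K E
  let f : R →ₗ[A] L := (IsScalarTower.toAlgHom A R L).toLinearMap
  have hf : Function.Injective f := IsFractionRing.injective R L
  have h1 : Function.Injective (LinearMap.rTensor E f) :=
    Module.Flat.rTensor_preserves_injective_linearMap f hf
  let ε : L ⊗[K] E ≃ₗ[K] L ⊗[A] E := IsLocalization.moduleTensorEquiv (nonZeroDivisors A) K L E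
  have h2 : ∀ y : R ⊗[A] E, ε (psi A R K L E y) = LinearMap.rTensor E f y := by
    intro y
    induction y with
    | zero => simp
    | tmul r x =>
      rw [psi_tmul, LinearMap.rTensor_tmul]
      rfl
    | add a b ha hb => simp only [map_add, ha, hb]
  intro y y' h
  apply h1
  rw [← h2, ← h2, h]

theorem exists_psi_eq_tmul [Algebra.Smooth K E] (l : L) (hl : IsIntegral K l) (x : E) :
    ∃ y : R ⊗[A] E, psi A R K L E y = l ⊗ₜ[K] x := by
  have halg : IsAlgebraic A l := by
    have h1 : IsAlgebraic K l := hl.isAlgebraic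
    exact (IsFractionRing.isAlgebraic_iff A K L).mpr h1
  obtain ⟨a, ha, hal⟩ := halg.exists_integral_multiple
  have hal' : IsIntegral R (a • l) := hal.tower_top
  obtain ⟨r, hr⟩ := IsIntegrallyClosed.isIntegral_iff.mp hal'
  have haK : algebraMap A K a ≠ 0 := by
    intro h0
    exact ha ((map_eq_zero_iff _ (IsFractionRing.injective A K)).mp h0)
  refine ⟨r ⊗ₜ[A] ((algebraMap A K a)⁻¹ • x), ?_⟩
  rw [psi_tmul, hr, ← algebraMap_smul K a l, TensorProduct.smul_tmul, smul_smul,
    mul_inv_cancel₀ haK, one_smul]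

theorem exists_psi_eq_of_isIdempotentElem [Algebra.Smooth K E] (t : L ⊗[K] E)
    (ht : IsIdempotentElem t) : ∃ y : R ⊗[A] E, psi A R K L E y = t := by
  let c := Algebra.TensorProduct.comm K L E
  have ht' : IsIntegral E (c t) := isIntegral_of_isIdempotentElem (ht.map c)
  obtain ⟨w, hw⟩ := (TensorProduct.toIntegralClosure_bijective_of_smooth
    (R := K) (S := E) (B := L)).2 ⟨c t, ht'⟩
  have key : ∀ w : E ⊗[K] integralClosure K L, ∃ y : R ⊗[A] E,
      c (psi A R K L E y) = ((TensorProduct.toIntegralClosure K E L w).1 : E ⊗[K] L) := by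
    intro w
    induction w with
    | zero => exact ⟨0, by simp⟩
    | tmul x l =>
      obtain ⟨l, hl⟩ := l
      obtain ⟨y, hy⟩ := exists_psi_eq_tmul (A := A) (R := R) l hl x
      refine ⟨y, ?_⟩
      rw [hy]
      rfl
    | add a b ha hb =>
      obtain ⟨y₁, h₁⟩ := ha
      obtain ⟨y₂, h₂⟩ := hb
      refine ⟨y₁ + y₂, ?_⟩
      simp only [map_add, Subalgebra.coe_add]
      rw [h₁, h₂]
  obtain ⟨y, hy⟩ := key w
  refine ⟨y, ?_⟩
  apply c.injective
  rw [hy, hw]

end Groth.Agent.Lib.T2H3.ShSplit
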