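import Mathlib
import Groth.Agent.Lib.T2H3ShSplitA

/-!
# Splitting over the fraction field of a normal overring: algebra, part B
(helper3, team 2)

If `L ⊗[K] E ≃ Lᶥ` then the integral closure of `R` in `R ⊗[A] E` is `Rᶥ`.
-/

set_option autoImplicit false
set_option linter.unusedSectionVars false
set_option linter.style.haveILetI false
universe u

namespace Groth.Agent.Lib.T2H3.ShSplit
open TensorProduct

variable {A R K L E : Type u} [CommRing A] [IsDomain A] [CommRing R] [IsDomain R]
  [IsIntegrallyClosed R]
  [Algebra A R] [Field K] [Field L] [Algebra A K] [IsFractionRing A K] [Algebra R L]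
  [IsFractionRing R L]
  [Algebra K L] [Algebra A L] [IsScalarTower A K L] [IsScalarTower A R L]
  [CommRing E] [Algebra K E] [Algebra A E] [IsScalarTower A K E]
  {ι : Type u} [Finite ι] (e : L ⊗[K] E ≃ₐ[L] (ι → L))

/-- the composite `R ⊗[A] E → L ⊗[K] E ≃ Lᶥ` -/
noncomputable def phi : R ⊗[A] E →ₐ[R] (ι → L) :=
  (e.toAlgHom.restrictScalars R).comp (psi A R K L E)

theorem phi_apply (y : R ⊗[A] E) : phi (A := A) (R := R) e y = e (psi A R K L E y) := rfl

theorem phi_injective : Function.Injective (phi (A := A) (R := R) e) := by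
  intro y y' h
  apply psi_injective (A := A) (R := R) (K := K) (L := L) (E := E)
  exact e.injective h

theorem phi_mem_of_isIntegral (x : R ⊗[A] E) (hx : IsIntegral R x) (i : ι) :
    ∃ r : R, algebraMap R L r = phi (A := A) (R := R) e x i := by
  have h1 : IsIntegral R (phi (A := A) (R := R) e x) := hx.map _
  have h2 : IsIntegral R (Pi.evalAlgHom R (fun _ : ι => L) i (phi (A := A) (R := R) e x)) :=
    h1.map _
  exact IsIntegrallyClosed.isIntegral_iff.mp h2

theorem exists_phi_eq [Algebra.Smooth K E] (f : ι → R) :
    ∃ x : R ⊗[A] E, IsIntegral R x ∧ phi (A := A) (R := R) e x = fun i => algebraMap R L (f i) := by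
  classical
  cases nonempty_fintype ι
  have hidem : ∀ i : ι, IsIdempotentElem (e.symm (Pi.single i (1 : L))) := by
    intro i
    have : IsIdempotentElem (Pi.single i (1 : L) : ι → L) := by
      unfold IsIdempotentElem
      rw [← Pi.single_mul, one_mul]
    exact this.map e.symm
  choose y hy using fun i => exists_psi_eq_of_isIdempotentElem (A := A) (R := R) _ (hidem i)
  have hphiy : ∀ i, phi (A := A) (R := R) e (y i) = Pi.single i (1 : L) := by
    intro i
    rw [phi_apply, hy i, AlgEquiv.apply_symm_apply]
  have hyidem : ∀ i, IsIdempotentElem (y i) := by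
    intro i
    apply phi_injective (A := A) (R := R) e
    rw [map_mul, hphiy i, ← Pi.single_mul, one_mul]
  refine ⟨∑ i, f i • y i, ?_, ?_⟩
  · refine IsIntegral.sum _ (fun i _ => ?_)
    exact IsIntegral.smul _ (isIntegral_of_isIdempotentElem (hyidem i))
  · rw [map_sum]
    simp only [map_smul, hphiy]
    funext j
    rw [Finset.sum_apply]
    rw [Finset.sum_eq_single j]
    · rw [Pi.smul_apply, Pi.single_eq_same, Algebra.smul_def, mul_one]
    · intro i _ hij
      rw [Pi.smul_apply, Pi.single_eq_of_ne' hij, smul_zero]
    · intro hj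
      exact absurd (Finset.mem_univ j) hj

include e in
theorem nonempty_algEquiv_integralClosure [Algebra.Smooth K E] :
    Nonempty (integralClosure R (R ⊗[A] E) ≃ₐ[R] (ι → R)) := by
  let C := integralClosure R (R ⊗[A] E)
  let phiC : C →ₐ[R] (ι → L) := (phi (A := A) (R := R) e).comp C.val
  let j : (ι → R) →ₐ[R] (ι → L) := AlgHom.compLeft (Algebra.ofId R L) ι
  have hphiC : Function.Injective phiC := by
    intro x x' h
    apply Subtype.ext
    exact phi_injective (A := A) (R := R) e h
  have hj : Function.Injective j := by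
    intro f g h
    funext i
    have := congrFun h i
    exact IsFractionRing.injective R L this
  have hrange : phiC.range = j.range := by
    apply le_antisymm
    · rintro _ ⟨x, rfl⟩
      choose r hr using fun i => phi_mem_of_isIntegral (A := A) (R := R) e x.1 x.2 i
      refine ⟨r, ?_⟩
      funext i
      exact hr i
    · rintro _ ⟨f, rfl⟩
      obtain ⟨x, hx, hxf⟩ := exists_phi_eq (A := A) (R := R) e f
      refine ⟨⟨x, hx⟩, ?_⟩
      change phi (A := A) (R := R) e x = _
      rw [hxf]
      rfl
  exact ⟨(AlgEquiv.ofInjective phiC hphiC).trans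
    ((Subalgebra.equivOfEq _ _ hrange).trans (AlgEquiv.ofInjective j hj).symm)⟩

end Groth.Agent.Lib.T2H3.ShSplit
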