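import Mathlib
import Groth.Agent.Lib.T2H3ShSplitB
import Groth.Agent.Lib.T2H3ShIntClos

/-!
# Finite étale algebras over `Frac A` split over `Frac Aˢʰ` extend over `A` (algebra)
(helper3, team 2)
-/

set_option autoImplicit false
set_option linter.unusedSectionVars false
set_option linter.style.haveILetI false
universe u

namespace Groth.Agent.Lib.T2H3.ShSplit
open TensorProduct
open Groth.Agent.Lib.Helper3

theorem exists_finiteEtale_model (A : Type u) [CommRing A] [IsDomain A] [IsLocalRing A]
    [IsIntegrallyClosed A] (R : Type u) [CommRing R] [IsLocalRing R] [Algebra A R]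
    [IsLocalHom (algebraMap A R)] [Hensel.IsStrictHenselization A R]
    (K L : Type u) [Field K] [Field L] [Algebra A K] [IsFractionRing A K] [Algebra R L]
    [IsFractionRing R L] [Algebra K L] [Algebra A L] [IsScalarTower A K L] [IsScalarTower A R L]
    (E : Type u) [CommRing E] [Algebra K E] [Module.Finite K E] [Algebra.Etale K E]
    (ι : Type u) [Finite ι] (e : L ⊗[K] E ≃ₐ[L] (ι → L)) :
    ∃ (B : Type u) (_ : CommRing B) (_ : Algebra A B) (_ : Module.Finite A B)
      (_ : Algebra.Etale A B), Nonempty (K ⊗[A] B ≃ₐ[K] E) := by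
  letI : Algebra A E := ((algebraMap K E).comp (algebraMap A K)).toAlgebra
  haveI : IsScalarTower A K E := IsScalarTower.of_algebraMap_eq (fun _ => rfl)
  obtain ⟨hRdom, hRic⟩ := (HzP.sh_normal_iff A R).mp ⟨inferInstance, inferInstance⟩
  haveI := hRdom
  haveI := hRic
  haveI : Module.FaithfullyFlat A R := HzP.sh_faithfullyFlat A R
  let B := integralClosure A E
  let e1 : R ⊗[A] B ≃ₐ[R] integralClosure R (R ⊗[A] E) :=
    AlgEquiv.ofBijective _ (ShIntClos.bijective_sh A R E)
  obtain ⟨e2⟩ := nonempty_algEquiv_integralClosure (A := A) (R := R) e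
  let e3 : R ⊗[A] B ≃ₐ[R] (ι → R) := e1.trans e2
  haveI : Module.Finite R (R ⊗[A] B) := Module.Finite.equiv e3.symm.toLinearEquiv
  haveI : Algebra.Etale R (R ⊗[A] B) := Algebra.Etale.of_equiv e3.symm
  haveI : Module.Finite A B := Module.Finite.of_finite_tensorProduct_of_faithfullyFlat R
  haveI : Algebra.Etale A B := Algebra.Etale.of_etale_tensorProduct_of_faithfullyFlat R
  refine ⟨B, inferInstance, inferInstance, inferInstance, inferInstance, ?_⟩
  let f1 : K ⊗[A] B ≃ₐ[K] integralClosure K (K ⊗[A] E) :=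
    AlgEquiv.ofBijective _
      (TensorProduct.toIntegralClosure_bijective_of_isLocalization (nonZeroDivisors A))
  let f3 : K ⊗[A] E ≃ₐ[K] E := IsLocalization.algebraLid (nonZeroDivisors A) K E
  haveI : Module.Finite K (K ⊗[A] E) := Module.Finite.equiv f3.symm.toLinearEquiv
  haveI : Algebra.IsIntegral K (K ⊗[A] E) := Algebra.IsIntegral.of_finite K _
  have htop : integralClosure K (K ⊗[A] E) = ⊤ := integralClosure_eq_top_iff.mpr inferInstance
  let f2 : integralClosure K (K ⊗[A] E) ≃ₐ[K] K ⊗[A] E :=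
    (Subalgebra.equivOfEq _ _ htop).trans Subalgebra.topEquiv
  exact ⟨f1.trans (f2.trans f3)⟩

end Groth.Agent.Lib.T2H3.ShSplit
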