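import Mathlib
import Groth.Prelude.Def_FEt
import Groth.Prelude.Def_Pi1
import Groth.Agent.Lib.Helper26FEtAffine

/-!
# Split finite étale covers of affine schemes: scheme/algebra dictionary
(helper3, team 2)
-/

set_option autoImplicit false
set_option linter.unusedSectionVars false
set_option linter.style.haveILetI false
universe u

namespace Groth.Agent.Lib.T2H3.ShSplit
open CategoryTheory CategoryTheory.Limits AlgebraicGeometry TensorProduct
open Groth.Agent.Lib.Helper26.FEtAffine

/-- being split is invariant under isomorphism -/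
theorem isSplit_of_iso {X : Scheme.{u}} {Y Y' : FEt.Cat X} (i : Y ≅ Y') (h : Pi1.IsSplit Y) :
    Pi1.IsSplit Y' := by
  obtain ⟨ι, hfin, e, he⟩ := h
  let il : Y'.left ≅ Y.left :=
    (MorphismProperty.Over.forget _ _ _ ⋙ Over.forget _).mapIso i.symm
  refine ⟨ι, hfin, il ≪≫ e, fun k => ?_⟩
  have hw : i.hom.left ≫ Y'.hom = Y.hom := MorphismProperty.Over.w i.hom
  have hinv : (il ≪≫ e).inv = e.inv ≫ i.hom.left := rfl
  rw [hinv, Category.assoc, hw]
  exact he k

/-- a split standard cover `Spec F → Spec L` comes from a split algebra -/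
theorem exists_algEquiv_of_isSplit (L : Type u) [CommRing L] (F : Type u) [CommRing F]
    [Algebra L F] [Module.Finite L F] [Algebra.Etale L F] (h : Pi1.IsSplit (std L F)) :
    ∃ (ι : Type u) (_ : Finite ι), Nonempty (F ≃ₐ[L] (ι → L)) := by
  obtain ⟨ι, hfin, e, he⟩ := h
  haveI := hfin
  let Rs : ι → CommRingCat.{u} := fun _ => CommRingCat.of L
  let θ : (∐ fun i : ι => Spec (Rs i)) ≅ Spec (CommRingCat.of (Π i, Rs i)) :=
    asIso (sigmaSpec Rs)
  let e' : Spec (CommRingCat.of F) ≅ ∐ fun i : ι => Spec (Rs i) := e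
  let g : Spec (CommRingCat.of F) ≅ Spec (CommRingCat.of (Π i, Rs i)) := e' ≪≫ θ
  let r1 : CommRingCat.of (Π i, Rs i) ⟶ CommRingCat.of F := Spec.preimage g.hom
  let r2 : CommRingCat.of F ⟶ CommRingCat.of (Π i, Rs i) := Spec.preimage g.inv
  have h1 : Spec.map r1 = g.hom := Spec.map_preimage _
  have h2 : Spec.map r2 = g.inv := Spec.map_preimage _
  have h21 : r2 ≫ r1 = 𝟙 _ := by
    apply Spec.map_injective
    rw [Spec.map_comp, h1, h2, Iso.hom_inv_id, Spec.map_id]
  have h12 : r1 ≫ r2 = 𝟙 _ := by
    apply Spec.map_injective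
    rw [Spec.map_comp, h1, h2, Iso.inv_hom_id, Spec.map_id]
  -- compatibility with the structure maps
  have hstr : CommRingCat.ofHom (algebraMap L F) ≫ r2 =
      CommRingCat.ofHom (algebraMap L (ι → L)) := by
    apply Spec.map_injective
    rw [Spec.map_comp, h2]
    change (θ.inv ≫ e.inv) ≫ (std L F).hom = _
    rw [Category.assoc, Iso.inv_comp_eq]
    apply Limits.Sigma.hom_ext
    intro k
    have hk : Sigma.ι (fun i : ι => Spec (Rs i)) k ≫ θ.hom =
        Spec.map (CommRingCat.ofHom (Pi.evalRingHom _ k)) := ι_sigmaSpec Rs k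
    have hid : CommRingCat.ofHom (algebraMap L (ι → L)) ≫
        CommRingCat.ofHom (Pi.evalRingHom (fun i => (Rs i : Type u)) k) = 𝟙 (CommRingCat.of L) := by
      ext l
      rfl
    have hR : Sigma.ι (fun i : ι => Spec (Rs i)) k ≫ θ.hom ≫
        Spec.map (CommRingCat.ofHom (algebraMap L (ι → L))) = 𝟙 _ := by
      rw [← Category.assoc, hk, ← Spec.map_comp, hid, Spec.map_id]
    rw [hR]
    exact he k
  let ρ : F ≃+* (ι → L) :=
    { toFun := r2.hom
      invFun := r1.hom
      left_inv := fun x => by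
        have := congrArg (fun t => t.hom x) h21
        exact this
      right_inv := fun x => by
        have := congrArg (fun t => t.hom x) h12
        exact this
      map_mul' := map_mul _
      map_add' := map_add _ }
  refine ⟨ι, hfin, ⟨AlgEquiv.ofRingEquiv (f := ρ) (fun l => ?_)⟩⟩
  have := congrArg (fun t => t.hom l) hstr
  exact this

end Groth.Agent.Lib.T2H3.ShSplit
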