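import Mathlib
import Groth.Agent.Lib.Helper3SmDim
import Groth.Agent.Lib.Helper6Tower
import Groth.Agent.Lib.Helper20SmoothDescSch
import Groth.Agent.Lib.T2H3FibFlatCons
import Groth.Agent.Lib.T2H6LfpCancel

set_option autoImplicit false
set_option linter.style.haveILetI false
universe u

open AlgebraicGeometry CategoryTheory CategoryTheory.Limits TopologicalSpace Topology TensorProduct

namespace Groth.Agent.Lib.T2H3.SmEtale

open KaehlerDifferential

section Alg

/-- differentials of an étale algebra `T` over a standard smooth `A`-algebra `C` of relative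
dimension `n`, taken relative to an unramified `A`-algebra `A'` (e.g. a localisation of `A`),
are finite free of rank `n`. -/
theorem free_finrank_kaehler_of_chart (n : ℕ) (A C A' T : Type u) [CommRing A] [CommRing C]
    [CommRing A'] [CommRing T]
    [Algebra A C] [Algebra A A'] [Algebra C T] [Algebra A' T] [Algebra A T]
    [IsScalarTower A C T] [IsScalarTower A A' T]
    [Algebra.IsStandardSmoothOfRelativeDimension n A C]
    [Algebra.FormallyUnramified A A'] [Algebra.FormallyEtale C T] [Nontrivial T] :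
    Module.Free T Ω[T⁄A'] ∧ Module.Finite T Ω[T⁄A'] ∧ Module.finrank T Ω[T⁄A'] = n := by
  haveI : Nontrivial C := (algebraMap C T).domain_nontrivial
  haveI : Algebra.IsStandardSmooth A C :=
    Algebra.IsStandardSmoothOfRelativeDimension.isStandardSmooth n
  have hr : Module.finrank C Ω[C⁄A] = n :=
    Module.finrank_eq_of_rank_eq
      (Algebra.IsStandardSmoothOfRelativeDimension.rank_kaehlerDifferential (R := A) (S := C) n)
  let e1 : T ⊗[C] Ω[C⁄A] ≃ₗ[T] Ω[T⁄A] := tensorKaehlerEquivOfFormallyEtale A C T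
  have hsurj : Function.Surjective (KaehlerDifferential.map A A' T T) :=
    KaehlerDifferential.map_surjective A A' T
  have hex := KaehlerDifferential.exact_mapBaseChange_map A A' T
  have hinj : Function.Injective (KaehlerDifferential.map A A' T T) := by
    rw [injective_iff_map_eq_zero]
    intro x hx
    obtain ⟨y, rfl⟩ := (hex x).mp hx
    rw [Subsingleton.elim y 0, map_zero]
  let e2 : Ω[T⁄A] ≃ₗ[T] Ω[T⁄A'] := LinearEquiv.ofBijective _ ⟨hinj, hsurj⟩
  let e := e1.trans e2
  refine ⟨Module.Free.of_equiv e, Module.Finite.equiv e, ?_⟩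
  rw [← e.finrank_eq, Module.finrank_baseChange, hr]

/-- For `A → B → T` with `T` formally smooth over `A`, formally unramified over `B`, and the
differentials of `B/A` and `T/A` finite free of the same rank: `T` is formally étale over `B`. -/
theorem formallyEtale_of_finrank_eq (A B T : Type u) [CommRing A] [CommRing B] [CommRing T]
    [Algebra A B] [Algebra B T] [Algebra A T] [IsScalarTower A B T]
    [Algebra.FormallySmooth A T] [Algebra.FormallyUnramified B T]
    [Module.Free B Ω[B⁄A]] [Module.Finite B Ω[B⁄A]] [Module.Free T Ω[T⁄A]]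
    [Module.Finite T Ω[T⁄A]]
    (h : Module.finrank B Ω[B⁄A] = Module.finrank T Ω[T⁄A]) :
    Algebra.FormallyEtale B T := by
  rw [Groth.Agent.Lib.Helper6.Tower.formallyEtale_iff_bijective A B T]
  have hex := KaehlerDifferential.exact_mapBaseChange_map A B T
  have hsurj : Function.Surjective (mapBaseChange A B T) := by
    intro y
    exact (hex y).mp (Subsingleton.elim _ _)
  refine ⟨?_, hsurj⟩
  rcases subsingleton_or_nontrivial T with hT | hT
  · haveI : Subsingleton (T ⊗[B] Ω[B⁄A]) := Module.subsingleton T _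
    exact Function.injective_of_subsingleton _
  haveI : Nontrivial B := (algebraMap B T).domain_nontrivial
  have hfr : Module.finrank T Ω[T⁄A] = Module.finrank T (T ⊗[B] Ω[B⁄A]) := by
    rw [Module.finrank_baseChange, h]
  let e : Ω[T⁄A] ≃ₗ[T] T ⊗[B] Ω[B⁄A] := LinearEquiv.ofFinrankEq _ _ hfr
  have h1 : Function.Surjective ((mapBaseChange A B T) ∘ₗ e.toLinearMap) :=
    hsurj.comp e.surjective
  have h2 := OrzechProperty.injective_of_surjective_endomorphism _ h1
  intro a b hab
  have := @h2 (e.symm a) (e.symm b) (by simpa using hab)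
  exact e.symm.injective this

end Alg

section Sch

variable {X Y S : Scheme.{u}}

/-- the stalk of a smooth morphism at `x` has finite free differentials of rank the local fibre
dimension at `x`. -/
theorem exists_finrank_kaehler_stalk (h : X ⟶ S) [Smooth h] (x : X) :
    letI := (h.stalkMap x).hom.toAlgebra
    ∃ n : ℕ, FlatMor.fibreDimAt h x = (n : WithBot ℕ∞) ∧
      Module.Free (X.presheaf.stalk x) Ω[X.presheaf.stalk x⁄S.presheaf.stalk (h x)] ∧
      Module.Finite (X.presheaf.stalk x) Ω[X.presheaf.stalk x⁄S.presheaf.stalk (h x)] ∧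
      Module.finrank (X.presheaf.stalk x) Ω[X.presheaf.stalk x⁄S.presheaf.stalk (h x)] = n := by
  obtain ⟨U, hU, V, hV, hx, e, hf⟩ := Smooth.exists_isStandardSmooth h x
  obtain ⟨n, hn⟩ := Groth.Agent.Lib.Helper3.SmDim.exists_relDim_of_isStandardSmooth _ hf
  refine ⟨n, Groth.Agent.Lib.Helper3.SmDim.fibreDimAt_eq_of_chart h n x hU hV hx e hn, ?_⟩
  letI := (h.stalkMap x).hom.toAlgebra
  letI : Algebra Γ(S, U) Γ(X, V) := (h.appLE U V e).hom.toAlgebra
  letI := S.presheaf.algebra_section_stalk ⟨h x, e hx⟩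
  letI := X.presheaf.algebra_section_stalk ⟨x, hx⟩
  letI : Algebra Γ(S, U) (X.presheaf.stalk x) :=
    ((h.appLE U V e) ≫ X.presheaf.germ V x hx).hom.toAlgebra
  haveI : IsScalarTower Γ(S, U) Γ(X, V) (X.presheaf.stalk x) :=
    IsScalarTower.of_algebraMap_eq' rfl
  haveI : IsScalarTower Γ(S, U) (S.presheaf.stalk (h x)) (X.presheaf.stalk x) := by
    refine IsScalarTower.of_algebraMap_eq' ?_
    change ((h.appLE U V e) ≫ X.presheaf.germ V x hx).hom =
      (S.presheaf.germ U (h x) (e hx) ≫ h.stalkMap x).hom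
    rw [Scheme.Hom.germ_stalkMap, Scheme.Hom.appLE, Category.assoc, X.presheaf.germ_res]
  haveI := hU.isLocalization_stalk ⟨h x, e hx⟩
  haveI := hV.isLocalization_stalk ⟨x, hx⟩
  haveI : Algebra.FormallyEtale Γ(S, U) (S.presheaf.stalk (h x)) :=
    Algebra.FormallyEtale.of_isLocalization (hU.primeIdealOf ⟨h x, e hx⟩).asIdeal.primeCompl
  haveI : Algebra.FormallyEtale Γ(X, V) (X.presheaf.stalk x) :=
    Algebra.FormallyEtale.of_isLocalization (hV.primeIdealOf ⟨x, hx⟩).asIdeal.primeCompl
  haveI : Algebra.IsStandardSmoothOfRelativeDimension n Γ(S, U) Γ(X, V) := hn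
  exact free_finrank_kaehler_of_chart n Γ(S, U) Γ(X, V) (S.presheaf.stalk (h x))
    (X.presheaf.stalk x)

/-- a monomorphism between smooth `S`-schemes with equal local fibre dimensions has formally
smooth stalk maps. -/
theorem formallySmooth_stalkMap_of_mono (f : Y ⟶ S) (g : X ⟶ Y) [Smooth f] [Smooth (g ≫ f)]
    [Mono g] (x : X)
    (hd : FlatMor.fibreDimAt f (g x) = FlatMor.fibreDimAt (g ≫ f) x) :
    (g.stalkMap x).hom.FormallySmooth := by
  obtain ⟨n, hn, hfree, hfin, hrk⟩ := exists_finrank_kaehler_stalk f (g x)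
  obtain ⟨m, hm, hfree', hfin', hrk'⟩ := exists_finrank_kaehler_stalk (g ≫ f) x
  have hnm : n = m := by
    rw [hn, hm] at hd
    exact_mod_cast hd
  haveI : IsIso (pullback.diagonal g) := (pullback.isIso_diagonal_iff g).mpr inferInstance
  haveI : FormallyUnramified g := inferInstance
  have hunr := FormallyUnramified.stalkMap g x
  have hsm : (((g ≫ f).stalkMap x).hom).FormallySmooth := by
    have : x ∈ (g ≫ f).smoothLocus := by
      rw [Scheme.Hom.smoothLocus_eq_top]; trivial
    exact this
  letI : Algebra (S.presheaf.stalk (f (g x))) (Y.presheaf.stalk (g x)) :=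
    (f.stalkMap (g x)).hom.toAlgebra
  letI : Algebra (Y.presheaf.stalk (g x)) (X.presheaf.stalk x) := (g.stalkMap x).hom.toAlgebra
  letI : Algebra (S.presheaf.stalk (f (g x))) (X.presheaf.stalk x) :=
    ((g ≫ f).stalkMap x).hom.toAlgebra
  haveI : IsScalarTower (S.presheaf.stalk (f (g x))) (Y.presheaf.stalk (g x))
      (X.presheaf.stalk x) := by
    refine IsScalarTower.of_algebraMap_eq' ?_
    change ((g ≫ f).stalkMap x).hom = (g.stalkMap x).hom.comp (f.stalkMap (g x)).hom
    rw [Scheme.Hom.stalkMap_comp]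
    rfl
  haveI : Algebra.FormallySmooth (S.presheaf.stalk (f (g x))) (X.presheaf.stalk x) := hsm
  haveI : Algebra.FormallyUnramified (Y.presheaf.stalk (g x)) (X.presheaf.stalk x) := hunr
  haveI : Module.Free (Y.presheaf.stalk (g x))
    Ω[Y.presheaf.stalk (g x)⁄S.presheaf.stalk (f (g x))] := hfree
  haveI : Module.Finite (Y.presheaf.stalk (g x))
    Ω[Y.presheaf.stalk (g x)⁄S.presheaf.stalk (f (g x))] := hfin
  haveI : Module.Free (X.presheaf.stalk x)
    Ω[X.presheaf.stalk x⁄S.presheaf.stalk (f (g x))] := hfree'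
  haveI : Module.Finite (X.presheaf.stalk x)
    Ω[X.presheaf.stalk x⁄S.presheaf.stalk (f (g x))] := hfin'
  haveI : Algebra.FormallyEtale (Y.presheaf.stalk (g x)) (X.presheaf.stalk x) :=
    formallyEtale_of_finrank_eq (S.presheaf.stalk (f (g x))) (Y.presheaf.stalk (g x))
      (X.presheaf.stalk x) ((hrk.trans hnm).trans hrk'.symm)
  exact (inferInstance : Algebra.FormallySmooth (Y.presheaf.stalk (g x)) (X.presheaf.stalk x))

/-- a monomorphism between smooth `S`-schemes with equal local fibre dimensions is an open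
immersion. -/
theorem isOpenImmersion_of_mono_of_fibreDimAt_eq (f : Y ⟶ S) (g : X ⟶ Y) [Smooth f]
    [Smooth (g ≫ f)] [Mono g]
    (hd : ∀ x : X, FlatMor.fibreDimAt f (g x) = FlatMor.fibreDimAt (g ≫ f) x) :
    IsOpenImmersion g := by
  haveI : LocallyOfFinitePresentation g :=
    Groth.Agent.Lib.T2H6.LfpCancel.locallyOfFinitePresentation_of_comp g f inferInstance
      inferInstance
  haveI : Smooth g := by
    rw [← Scheme.Hom.smoothLocus_eq_top_iff, eq_top_iff]
    intro x _
    exact formallySmooth_stalkMap_of_mono f g x (hd x)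
  haveI : Flat g := inferInstance
  exact Groth.Agent.Lib.T2H3.FibFlatCons.isOpenImmersion_of_flat_of_mono g

/-- an open immersion into a smooth `S`-scheme preserves local fibre dimensions. -/
theorem fibreDimAt_eq_of_isOpenImmersion (f : Y ⟶ S) (g : X ⟶ Y) [Smooth f]
    [IsOpenImmersion g] (x : X) :
    FlatMor.fibreDimAt f (g x) = FlatMor.fibreDimAt (g ≫ f) x := by
  haveI : SmoothOfRelativeDimension 0 g := inferInstance
  rw [Groth.Agent.Lib.Helper3.SmDim.fibreDimAt_comp_of_smooth g f x,
    Groth.Agent.Lib.Helper3.SmDim.fibreDimAt_eq_of_smoothOfRelativeDimension 0 g x]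
  simp

end Sch

end Groth.Agent.Lib.T2H3.SmEtale
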