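import Mathlib
import Groth.Agent.S0536
import Groth.Agent.Lib.Helper26PairHzTransport
import Groth.Agent.Lib.T2H3SmoothLift4
/-!
# Smooth models over Henselian pairs (helper3)

* `exists_smooth_model`: `B` Henselian along `K B` with `B ⧸ K B` smooth over `A ⧸ K`: there is a
  smooth `A`-algebra `R` with an `A`-algebra map `ρ : R → B` inducing `R ⧸ K R ≃ B ⧸ K B`.
* `ker_le_pow_of_flat`: a surjection `φ : H → B` with f.g. kernel inside `I H` and `B ⧸ Iⁿ B` flat
  over `A ⧸ Iⁿ` has kernel inside `Iⁿ H`.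
-/
set_option autoImplicit false
set_option linter.style.haveILetI false
universe u
open Hensel

namespace Groth.Agent.Lib.T2H3.SmoothHens

variable {A : Type u} [CommRing A]

theorem exists_smooth_model (K : Ideal A) (B : Type u) [CommRing B] [Algebra A B]
    [HenselianRing B (K.map (algebraMap A B))]
    [Algebra.Smooth (A ⧸ K) (B ⧸ K.map (algebraMap A B))] :
    ∃ (R : Type u) (_ : CommRing R) (_ : Algebra A R) (_ : Algebra.Smooth A R) (ρ : R →ₐ[A] B)
      (e : (R ⧸ K.map (algebraMap A R)) ≃ₐ[A] (B ⧸ K.map (algebraMap A B))),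
      ∀ r, e (Ideal.Quotient.mk _ r) = Ideal.Quotient.mk _ (ρ r) := by
  obtain ⟨R, _, _, hR, π, hπ, hker⟩ :=
    Groth.Agent.Lib.T2H3.SmoothLift.exists_smooth_lift (A₀ := B ⧸ K.map (algebraMap A B)) K
  obtain ⟨ρ, hρ⟩ := Groth.Agent.S0536.result A R B (K.map (algebraMap A B)) π
  let e : (R ⧸ K.map (algebraMap A R)) ≃ₐ[A] (B ⧸ K.map (algebraMap A B)) :=
    (Ideal.quotientEquivAlgOfEq A hker.symm).trans (Ideal.quotientKerAlgEquivOfSurjective hπ)
  refine ⟨R, _, _, hR, ρ, e, fun r => ?_⟩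
  have h1 : Ideal.Quotient.mk _ (ρ r) = π r := congr($hρ r)
  rw [h1]
  rfl

theorem ker_le_pow_of_flat {H B : Type u} [CommRing H] [CommRing B] [Algebra A H]
    [Algebra A B] (φ : H →ₐ[A] B) (hφ : Function.Surjective φ) (I : Ideal A) (n : ℕ)
    [Module.Flat (A ⧸ I ^ n) (B ⧸ (I ^ n).map (algebraMap A B))]
    (hfg : (RingHom.ker φ).FG) (hker : RingHom.ker φ ≤ I.map (algebraMap A H)) :
    RingHom.ker φ ≤ (I ^ n).map (algebraMap A H) := by
  set N := I ^ n with hN
  have hle : N.map (algebraMap A H) ≤ (N.map (algebraMap A B)).comap (φ : H →+* B) := by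
    rw [← Ideal.map_le_iff_le_comap, Ideal.map_map]
    exact le_of_eq (congrArg (fun f => Ideal.map f N) φ.comp_algebraMap)
  let φr : (H ⧸ N.map (algebraMap A H)) →+* (B ⧸ N.map (algebraMap A B)) :=
    Ideal.quotientMap _ (φ : H →+* B) hle
  have hφr : ∀ x, φr (Ideal.Quotient.mk _ x) = Ideal.Quotient.mk _ (φ x) := fun x => rfl
  let φₙ : (H ⧸ N.map (algebraMap A H)) →ₐ[A ⧸ N] (B ⧸ N.map (algebraMap A B)) :=
    { φr with
      commutes' := fun a => by
        obtain ⟨a, rfl⟩ := Ideal.Quotient.mk_surjective a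
        change φr (Ideal.Quotient.mk _ (algebraMap A H a)) = Ideal.Quotient.mk _ (algebraMap A B a)
        rw [hφr, φ.commutes] }
  have hφₙ : ∀ x, φₙ (Ideal.Quotient.mk _ x) = Ideal.Quotient.mk _ (φ x) := fun x => rfl
  have hsurj : Function.Surjective φₙ := by
    intro y
    obtain ⟨b, rfl⟩ := Ideal.Quotient.mk_surjective y
    obtain ⟨h, rfl⟩ := hφ b
    exact ⟨Ideal.Quotient.mk _ h, hφₙ h⟩
  have hkerₙ_eq : RingHom.ker φₙ =
      (RingHom.ker φ).map (Ideal.Quotient.mk (N.map (algebraMap A H))) := by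
    apply le_antisymm
    · intro x hx
      obtain ⟨h, rfl⟩ := Ideal.Quotient.mk_surjective x
      have h1 : φ h ∈ N.map (algebraMap A B) := by
        have : φₙ (Ideal.Quotient.mk _ h) = 0 := hx
        rwa [hφₙ, Ideal.Quotient.eq_zero_iff_mem] at this
      have h2 : N.map (algebraMap A B) = (N.map (algebraMap A H)).map (φ : H →+* B) := by
        rw [Ideal.map_map]
        exact (congrArg (fun f => Ideal.map f N) φ.comp_algebraMap).symm
      rw [h2] at h1
      obtain ⟨h', hh', e⟩ := (Ideal.mem_map_iff_of_surjective (φ : H →+* B) hφ).mp h1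
      have h3 : h - h' ∈ RingHom.ker φ := by
        rw [RingHom.mem_ker, map_sub, sub_eq_zero]
        exact e.symm
      have h4 : Ideal.Quotient.mk (N.map (algebraMap A H)) h =
          Ideal.Quotient.mk (N.map (algebraMap A H)) (h - h') := by
        rw [Ideal.Quotient.eq]
        simpa using hh'
      rw [h4]
      exact Ideal.mem_map_of_mem _ h3
    · rw [Ideal.map_le_iff_le_comap]
      intro x hx
      rw [Ideal.mem_comap, RingHom.mem_ker, hφₙ, show φ x = 0 from hx, map_zero]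
  set Ibar : Ideal (A ⧸ N) := I.map (Ideal.Quotient.mk N) with hIbar
  have hIbarmap : Ibar.map (algebraMap (A ⧸ N) (H ⧸ N.map (algebraMap A H))) =
      (I.map (algebraMap A H)).map (Ideal.Quotient.mk (N.map (algebraMap A H))) := by
    rw [hIbar, Ideal.map_map, Ideal.map_map]
    rfl
  have hjac : Ibar.map (algebraMap (A ⧸ N) (H ⧸ N.map (algebraMap A H))) ≤ Ideal.jacobson ⊥ := by
    have hpow : (Ibar.map (algebraMap (A ⧸ N) (H ⧸ N.map (algebraMap A H)))) ^ n = ⊥ := by
      rw [← Ideal.map_pow, hIbar, ← Ideal.map_pow, ← hN, Ideal.map_quotient_self, Ideal.map_bot]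
    refine le_trans ?_ (Ideal.radical_le_jacobson)
    intro x hx
    refine ⟨n, ?_⟩
    rw [← hpow]
    exact Ideal.pow_mem_pow hx n
  have hinj : Function.Injective φₙ :=
    Groth.Agent.Lib.Helper26.PairHz.injective_of_flat_of_ker_le φₙ hsurj Ibar hjac
      (by rw [hkerₙ_eq]; exact hfg.map _)
      (by rw [hkerₙ_eq, hIbarmap]; exact Ideal.map_mono hker)
  intro x hx
  have h1 : φₙ (Ideal.Quotient.mk _ x) = 0 := by
    rw [hφₙ, show φ x = 0 from hx, map_zero]
  have h2 := hinj (h1.trans (map_zero φₙ).symm)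
  exact Ideal.Quotient.eq_zero_iff_mem.mp h2

end Groth.Agent.Lib.T2H3.SmoothHens
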