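import Mathlib
import Groth.Agent.Lib.Helper3IndCons
import Groth.Agent.Lib.Helper3BaseMap
import Groth.Agent.Lib.Helper26StalkLim

/-!
# Spreading out a property of morphisms from the local ring at a point to an open neighbourhood

If `P` descends to a stage of cofiltered limits (`LimDescends`), `f : X ⟶ Y` is a morphism of
`S`-schemes of finite presentation and the base change of `f` to `Spec 𝒪_{S,s}` has `P`, then the
restriction of `f` over some affine open neighbourhood of `s` has `P`.
-/

set_option autoImplicit false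
set_option linter.style.haveILetI false
universe u
open CategoryTheory CategoryTheory.Limits AlgebraicGeometry Opposite

namespace Groth.Agent.Lib.T2H3.StalkSpread

open Groth.Agent.Lib.Helper3.BaseMap Groth.Agent.Lib.Helper3.IndCons
  Groth.Agent.Lib.Helper26.StalkLim

variable (P : MorphismProperty Scheme.{u}) [P.RespectsIso]
  {X Y S : Scheme.{u}} (f : X ⟶ Y) (g : Y ⟶ S)

/-- the restriction of `f` over an affine open `W` of the base has `P` iff the base change of `f`
along `Spec Γ(S, W) ⟶ S` has `P`. -/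
theorem restrict_iff_baseMap_fromSpec {W : S.Opens} (hW : IsAffineOpen W) :
    P (f ∣_ (g ⁻¹ᵁ W)) ↔ P (baseMap f g hW.fromSpec) := by
  have hY₀ : IsPullback (g ⁻¹ᵁ W).ι (g ∣_ W) g W.ι := (isPullback_morphismRestrict g W).flip
  have hsq : IsPullback W.ι hW.isoSpec.hom (𝟙 S) hW.fromSpec :=
    IsPullback.of_vert_isIso ⟨by rw [Category.comp_id, hW.isoSpec_hom_fromSpec]⟩
  have hY := hY₀.paste_vert hsq
  rw [Category.comp_id] at hY
  have hX : IsPullback (f ⁻¹ᵁ (g ⁻¹ᵁ W)).ι (f ∣_ (g ⁻¹ᵁ W)) f (g ⁻¹ᵁ W).ι :=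
    (isPullback_morphismRestrict f (g ⁻¹ᵁ W)).flip
  exact iff_of_isPullback f g P hW.fromSpec hY hX

variable [LocallyOfFinitePresentation g] [QuasiCompact g] [QuasiSeparated g]
  [LocallyOfFinitePresentation (f ≫ g)] [QuasiCompact (f ≫ g)] [QuasiSeparated (f ≫ g)]

/-- spreading out from the local ring to a stage. -/
theorem exists_stage (hP : LimDescends P) (s : S)
    (h : P (baseMap f g (S.fromSpecStalk s))) :
    ∃ i : (AffNhd s)ᵒᵖ, P (baseMap f g (toX s i)) := by
  obtain ⟨a₀⟩ : Nonempty (AffNhd s) := inferInstance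
  let i₀ : (AffNhd s)ᵒᵖ := op a₀
  let t₀ := toX s i₀
  let π := (specCone s).π.app i₀
  have hπ : π ≫ t₀ = S.fromSpecStalk s := π_toX s i₀
  haveI : LocallyOfFinitePresentation (baseMap f g t₀ ≫ pullback.snd g t₀) := by
    rw [baseMap_snd]; infer_instance
  haveI : QuasiCompact (baseMap f g t₀ ≫ pullback.snd g t₀) := by
    rw [baseMap_snd]; infer_instance
  haveI : QuasiSeparated (baseMap f g t₀ ≫ pullback.snd g t₀) := by
    rw [baseMap_snd]; infer_instance
  obtain ⟨i, φ', Xi, Yi, fi, gi, pY, pX, h1, h2, h3⟩ := hP (specDiagram s) (specCone s)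
    (specIsLimit s) i₀ (baseMap f g t₀) (pullback.snd g t₀) (baseMap f g (π ≫ t₀))
    (pullback.snd g (π ≫ t₀)) (baseMapY g t₀ π) (baseMapY (f ≫ g) t₀ π)
    (isPullback_baseMapY g t₀ π) (isPullback_baseMap_comp f g t₀ π)
    (congr_map f g P hπ.symm h)
  refine ⟨i, ?_⟩
  have hY' := h1.paste_horiz (IsPullback.of_hasPullback g t₀)
  have hX' := h2.paste_horiz (isPullback_baseMap f g t₀)
  have h4 := (iff_of_isPullback f g P _ hY' hX').mp h3
  have h5 : (specDiagram s).map φ' ≫ t₀ = toX s i := map_toX s φ'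
  exact congr_map f g P h5 h4

/-- **Spreading out from the local ring**: if the base change of `f` to `Spec 𝒪_{S,s}` has `P`,
so does the restriction of `f` over some affine open neighbourhood of `s`. -/
theorem exists_nhd (hP : LimDescends P) (s : S)
    (h : P (baseMap f g (S.fromSpecStalk s))) :
    ∃ W : S.Opens, s ∈ W ∧ IsAffineOpen W ∧ P (f ∣_ (g ⁻¹ᵁ W)) := by
  obtain ⟨i, hi⟩ := exists_stage P f g hP s h
  refine ⟨i.unop.U, i.unop.mem, i.unop.isAffine, ?_⟩
  exact (restrict_iff_baseMap_fromSpec P f g i.unop.isAffine).mpr hi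

end Groth.Agent.Lib.T2H3.StalkSpread
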