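import Mathlib

/-! Standard graded rings: `R_{s+t} = R_s · R_t` for `s, t ≥ 0` when the irrelevant ideal is
generated in degree one (helper3). -/

set_option autoImplicit false
set_option linter.unusedSectionVars false
open DirectSum

namespace Groth.Agent.Lib.T2H3.StdGr

universe u

variable {R : Type u} [CommRing R] (𝒜 : ℤ → AddSubgroup R) [GradedRing 𝒜]

/-- The additive group generated by the products `u * w`, `u ∈ R_s`, `w ∈ R_t`. -/
def prodGrp (s t : ℤ) : AddSubgroup R :=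
  AddSubgroup.closure {z | ∃ u ∈ 𝒜 s, ∃ w ∈ 𝒜 t, z = u * w}

theorem mul_mem_prodGrp {s t : ℤ} {u w : R} (hu : u ∈ 𝒜 s) (hw : w ∈ 𝒜 t) :
    u * w ∈ prodGrp 𝒜 s t :=
  AddSubgroup.subset_closure ⟨u, hu, w, hw, rfl⟩

theorem mem_prodGrp_succ
    (hstd : Ideal.span (⋃ n ∈ Set.Ioi (0 : ℤ), (𝒜 n : Set R)) =
      Ideal.span ((𝒜 1 : AddSubgroup R) : Set R))
    {n : ℤ} (hn : 0 ≤ n) {y : R} (hy : y ∈ 𝒜 (n + 1)) : y ∈ prodGrp 𝒜 n 1 := by
  classical
  have hy1 : y ∈ Ideal.span ((𝒜 1 : AddSubgroup R) : Set R) := by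
    rw [← hstd]
    apply Ideal.subset_span
    exact Set.mem_iUnion₂.mpr ⟨n + 1, by simp only [Set.mem_Ioi]; omega, hy⟩
  have key : ∀ z ∈ Ideal.span ((𝒜 1 : AddSubgroup R) : Set R),
      ((decompose 𝒜 z) (n + 1) : R) ∈ prodGrp 𝒜 n 1 := by
    intro z hz
    have hz' : z ∈ (Submodule.span R ((𝒜 1 : AddSubgroup R) : Set R)).toAddSubmonoid := hz
    rw [Submodule.span_eq_closure] at hz'
    refine AddSubmonoid.closure_induction
      (motive := fun z _ => ((decompose 𝒜 z) (n + 1) : R) ∈ prodGrp 𝒜 n 1) ?_ ?_ ?_ hz'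
    · intro z' hz'
      obtain ⟨r, -, x, hx, rfl⟩ := Set.mem_smul.mp hz'
      rw [smul_eq_mul, DirectSum.coe_decompose_mul_add_of_right_mem 𝒜 hx]
      exact mul_mem_prodGrp 𝒜 (SetLike.coe_mem _) hx
    · rw [DirectSum.decompose_zero]; exact zero_mem _
    · intro a b _ _ ha hb
      rw [DirectSum.decompose_add, DirectSum.add_apply, AddSubgroup.coe_add]
      exact add_mem ha hb
  have := key y hy1
  rwa [DirectSum.decompose_of_mem_same 𝒜 hy] at this

theorem mem_prodGrp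
    (hstd : Ideal.span (⋃ n ∈ Set.Ioi (0 : ℤ), (𝒜 n : Set R)) =
      Ideal.span ((𝒜 1 : AddSubgroup R) : Set R))
    {s : ℤ} (hs : 0 ≤ s) (t : ℕ) {y : R} (hy : y ∈ 𝒜 (s + t)) : y ∈ prodGrp 𝒜 s t := by
  induction t generalizing y with
  | zero =>
    have h1 : (1 : R) ∈ 𝒜 ((0 : ℕ) : ℤ) := by
      rw [Nat.cast_zero]; exact SetLike.GradedOne.one_mem
    have hy' : y ∈ 𝒜 s := by simpa using hy
    have := mul_mem_prodGrp 𝒜 hy' h1
    rwa [mul_one] at this
  | succ t ih =>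
    have hy' : y ∈ 𝒜 ((s + t) + 1) := by
      have : s + ((t + 1 : ℕ) : ℤ) = (s + t) + 1 := by push_cast; ring
      rwa [this] at hy
    have h1 := mem_prodGrp_succ 𝒜 hstd (n := s + t) (by positivity) hy'
    refine AddSubgroup.closure_induction (p := fun z _ => z ∈ prodGrp 𝒜 s ((t + 1 : ℕ) : ℤ))
      ?_ ?_ ?_ ?_ h1
    · rintro z ⟨v, hv, x, hx, rfl⟩
      have hv' := ih hv
      refine AddSubgroup.closure_induction
        (p := fun v _ => v * x ∈ prodGrp 𝒜 s ((t + 1 : ℕ) : ℤ)) ?_ ?_ ?_ ?_ hv'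
      · rintro _ ⟨u, hu, w, hw, rfl⟩
        rw [mul_assoc]
        refine mul_mem_prodGrp 𝒜 hu ?_
        have := SetLike.GradedMul.mul_mem hw hx
        rwa [show ((t : ℤ) + 1) = ((t + 1 : ℕ) : ℤ) by push_cast; ring] at this
      · rw [zero_mul]; exact zero_mem _
      · intro a b _ _ ha hb
        rw [add_mul]; exact add_mem ha hb
      · intro a _ ha
        rw [neg_mul]; exact neg_mem ha
    · exact zero_mem _
    · intro a b _ _ ha hb
      exact add_mem ha hb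
    · intro a _ ha
      exact neg_mem ha

end Groth.Agent.Lib.T2H3.StdGr
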