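import Mathlib
import Groth.Prelude.Def_W4c2submetdescSubtr
import Groth.Agent.Lib.Helper10SubtrVal3

/-!
# Lifting chains of three points along universally S-subtrusive morphisms

* `exists_valuationRing_of_chain`: a chain `y₀ ⤳ y₁ ⤳ y₂` in a scheme is the image of a chain of
  points of the spectrum of a valuation ring (a composite valuation ring).
* `exists_chain_lift`: a universally S-subtrusive morphism lifts chains of three points.
-/

set_option autoImplicit false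
set_option linter.style.haveILetI false
universe u
open CategoryTheory CategoryTheory.Limits AlgebraicGeometry IsLocalRing

namespace Groth.Agent.Lib.T2H3.SubtrChain

section Composite

variable {K : Type u} [Field K]

/-- The composite of a valuation subring `A₁` of `K` with a valuation subring `A₂` of the residue
field of `A₁`. -/
def composite (A₁ : ValuationSubring K) (A₂ : ValuationSubring (ResidueField ↥A₁)) :
    ValuationSubring K where
  carrier := {x | ∃ hx : x ∈ A₁, residue ↥A₁ ⟨x, hx⟩ ∈ A₂}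
  mul_mem' := by
    rintro a b ⟨ha, ha'⟩ ⟨hb, hb'⟩
    refine ⟨A₁.mul_mem _ _ ha hb, ?_⟩
    have : (⟨a * b, A₁.mul_mem _ _ ha hb⟩ : ↥A₁) = ⟨a, ha⟩ * ⟨b, hb⟩ := rfl
    rw [this, map_mul]
    exact A₂.mul_mem _ _ ha' hb'
  one_mem' := by
    refine ⟨A₁.one_mem, ?_⟩
    have : (⟨1, A₁.one_mem⟩ : ↥A₁) = 1 := rfl
    rw [this, map_one]
    exact A₂.one_mem
  add_mem' := by
    rintro a b ⟨ha, ha'⟩ ⟨hb, hb'⟩
    refine ⟨A₁.add_mem _ _ ha hb, ?_⟩
    have : (⟨a + b, A₁.add_mem _ _ ha hb⟩ : ↥A₁) = ⟨a, ha⟩ + ⟨b, hb⟩ := rfl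
    rw [this, map_add]
    exact A₂.add_mem _ _ ha' hb'
  zero_mem' := by
    refine ⟨A₁.zero_mem, ?_⟩
    have : (⟨0, A₁.zero_mem⟩ : ↥A₁) = 0 := rfl
    rw [this, map_zero]
    exact A₂.zero_mem
  neg_mem' := by
    rintro a ⟨ha, ha'⟩
    refine ⟨A₁.neg_mem _ ha, ?_⟩
    have : (⟨-a, A₁.neg_mem _ ha⟩ : ↥A₁) = -⟨a, ha⟩ := rfl
    rw [this, map_neg]
    exact A₂.neg_mem _ ha'
  mem_or_inv_mem' := by
    intro x
    -- key: for `x ∈ A₁`, either `x` or `x⁻¹` is in the composite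
    have key : ∀ y : K, y ∈ A₁ →
        (∃ hy : y ∈ A₁, residue ↥A₁ ⟨y, hy⟩ ∈ A₂) ∨
        (∃ hy : y⁻¹ ∈ A₁, residue ↥A₁ ⟨y⁻¹, hy⟩ ∈ A₂) := by
      intro y hy
      rcases A₂.mem_or_inv_mem (residue ↥A₁ ⟨y, hy⟩) with h | h
      · exact Or.inl ⟨hy, h⟩
      · by_cases h0 : residue ↥A₁ ⟨y, hy⟩ = 0
        · left
          refine ⟨hy, ?_⟩
          rw [h0]
          exact A₂.zero_mem
        · right
          have hunit : IsUnit (⟨y, hy⟩ : ↥A₁) := by
            by_contra hnu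
            exact h0 ((residue_eq_zero_iff _).mpr ((mem_maximalIdeal _).mpr hnu))
          obtain ⟨⟨z, hz⟩, hzmul⟩ := isUnit_iff_exists_inv.mp hunit
          have hyz : y * z = 1 := congrArg Subtype.val hzmul
          have hy0 : y ≠ 0 := by
            rintro rfl
            rw [zero_mul] at hyz
            exact zero_ne_one hyz
          have hzy : z = y⁻¹ := eq_inv_of_mul_eq_one_right hyz
          have hyinv : y⁻¹ ∈ A₁ := hzy ▸ hz
          refine ⟨hyinv, ?_⟩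
          have h1 : residue ↥A₁ ⟨y, hy⟩ * residue ↥A₁ ⟨y⁻¹, hyinv⟩ = 1 := by
            rw [← map_mul]
            have : (⟨y, hy⟩ : ↥A₁) * ⟨y⁻¹, hyinv⟩ = 1 := Subtype.ext (mul_inv_cancel₀ hy0)
            rw [this, map_one]
          have h2 : residue ↥A₁ ⟨y⁻¹, hyinv⟩ = (residue ↥A₁ ⟨y, hy⟩)⁻¹ :=
            eq_inv_of_mul_eq_one_right h1
          rw [h2]
          exact h
    rcases A₁.mem_or_inv_mem x with hx | hx
    · exact key x hx
    · rcases key x⁻¹ hx with h | h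
      · exact Or.inr h
      · left
        rw [inv_inv] at h
        exact h

lemma mem_composite {A₁ : ValuationSubring K} {A₂ : ValuationSubring (ResidueField ↥A₁)} {x : K} :
    x ∈ composite A₁ A₂ ↔ ∃ hx : x ∈ A₁, residue ↥A₁ ⟨x, hx⟩ ∈ A₂ := Iff.rfl

lemma composite_le (A₁ : ValuationSubring K) (A₂ : ValuationSubring (ResidueField ↥A₁)) :
    composite A₁ A₂ ≤ A₁ := fun _ hx => hx.1

end Composite

/-- A chain `y₀ ⤳ y₁ ⤳ y₂` of points of a scheme is the image of a chain of points of the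
spectrum of a valuation ring. -/
lemma exists_valuationRing_of_chain {Y : Scheme.{u}} {y₀ y₁ y₂ : Y} (h₀₁ : y₀ ⤳ y₁)
    (h₁₂ : y₁ ⤳ y₂) :
    ∃ (V : Type u) (_ : CommRing V) (_ : IsDomain V) (_ : ValuationRing V)
      (g : Spec (CommRingCat.of V) ⟶ Y) (p₀ p₁ p₂ : Spec (CommRingCat.of V)),
      p₀ ⤳ p₁ ∧ p₁ ⤳ p₂ ∧ g p₀ = y₀ ∧ g p₁ = y₁ ∧ g p₂ = y₂ := by
  have h₀₂ : y₀ ⤳ y₂ := h₀₁.trans h₁₂
  let φ₁ : Y.presheaf.stalk y₁ ⟶ Y.residueField y₀ :=
    Y.presheaf.stalkSpecializes h₀₁ ≫ Y.residue y₀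
  let φ₂ : Y.presheaf.stalk y₂ ⟶ Y.residueField y₀ :=
    Y.presheaf.stalkSpecializes h₀₂ ≫ Y.residue y₀
  have hφ : Y.presheaf.stalkSpecializes h₁₂ ≫ φ₁ = φ₂ := by
    change Y.presheaf.stalkSpecializes h₁₂ ≫ Y.presheaf.stalkSpecializes h₀₁ ≫ Y.residue y₀ = _
    rw [← Category.assoc, TopCat.Presheaf.stalkSpecializes_comp]
  obtain ⟨A₁, hA₁, hA₁_local⟩ := exists_factor_valuationRing φ₁.hom
  let t₁ : Y.presheaf.stalk y₁ →+* ↥A₁ := φ₁.hom.codRestrict _ hA₁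
  have hA₁' : ∀ a, φ₂.hom a ∈ A₁ := by
    intro a
    have : φ₂.hom a = φ₁.hom ((Y.presheaf.stalkSpecializes h₁₂).hom a) := by
      rw [← hφ]; rfl
    rw [this]
    exact hA₁ _
  let t₂' : Y.presheaf.stalk y₂ →+* ↥A₁ := φ₂.hom.codRestrict A₁.toSubring hA₁'
  let ψ : Y.presheaf.stalk y₂ →+* ResidueField ↥A₁ := (residue ↥A₁).comp t₂'
  obtain ⟨A₂, hA₂, hA₂_local⟩ := exists_factor_valuationRing ψ
  let V : ValuationSubring (Y.residueField y₀) := composite A₁ A₂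
  have hV : ∀ a, φ₂.hom a ∈ V := fun a => ⟨hA₁' a, hA₂ a⟩
  let t₂ : Y.presheaf.stalk y₂ →+* ↥V := φ₂.hom.codRestrict V.toSubring hV
  have hVA : V ≤ A₁ := composite_le A₁ A₂
  let ι : ↥V →+* ↥A₁ := ValuationSubring.inclusion V A₁ hVA
  -- `t₂` is local
  have ht₂_local : IsLocalHom t₂ := by
    refine ⟨fun a ha => ?_⟩
    obtain ⟨⟨v, hv⟩, hmul⟩ := isUnit_iff_exists_inv.mp ha
    obtain ⟨hv₁, hv₂⟩ := hv
    have hmul' : φ₂.hom a * v = 1 := congrArg Subtype.val hmul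
    apply hA₂_local.map_nonunit a
    refine isUnit_iff_exists_inv.mpr ⟨⟨residue ↥A₁ ⟨v, hv₁⟩, hv₂⟩, Subtype.ext ?_⟩
    change ψ a * residue ↥A₁ ⟨v, hv₁⟩ = 1
    change residue ↥A₁ (t₂' a) * residue ↥A₁ ⟨v, hv₁⟩ = 1
    rw [← map_mul]
    have : t₂' a * ⟨v, hv₁⟩ = 1 := Subtype.ext hmul'
    rw [this, map_one]
  let g : Spec (CommRingCat.of ↥V) ⟶ Y := Spec.map (CommRingCat.ofHom t₂) ≫ Y.fromSpecStalk y₂
  let pt : Spec (Y.residueField y₀) := closedPoint (Y.residueField y₀)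
  let q₀ : Spec (CommRingCat.of ↥A₁) := Spec.map (CommRingCat.ofHom A₁.subtype) pt
  let p₀ : Spec (CommRingCat.of ↥V) := Spec.map (CommRingCat.ofHom ι) q₀
  let p₁ : Spec (CommRingCat.of ↥V) := Spec.map (CommRingCat.ofHom ι) (closedPoint ↥A₁)
  let p₂ : Spec (CommRingCat.of ↥V) := closedPoint ↥V
  refine ⟨↥V, inferInstance, inferInstance, inferInstance, g, p₀, p₁, p₂, ?_, ?_, ?_, ?_, ?_⟩
  · exact (specializes_closedPoint (R := ↥A₁) q₀).map (Spec.map (CommRingCat.ofHom ι)).continuous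
  · exact specializes_closedPoint (R := ↥V) p₁
  · -- generic point
    have h1 : Spec.map (CommRingCat.ofHom A₁.subtype) ≫ Spec.map (CommRingCat.ofHom ι) ≫ g =
        Y.fromSpecResidueField y₀ := by
      change Spec.map (CommRingCat.ofHom A₁.subtype) ≫ Spec.map (CommRingCat.ofHom ι) ≫
        Spec.map (CommRingCat.ofHom t₂) ≫ Y.fromSpecStalk y₂ = _
      rw [← Spec.map_comp_assoc, ← Spec.map_comp_assoc]
      have : CommRingCat.ofHom t₂ ≫ CommRingCat.ofHom ι ≫ CommRingCat.ofHom A₁.subtype = φ₂ := by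
        ext a; rfl
      rw [this, Spec.map_comp, Category.assoc, Scheme.SpecMap_stalkSpecializes_fromSpecStalk]
      rfl
    have h2 := congrArg (fun m : Spec (Y.residueField y₀) ⟶ Y => m pt) h1
    change g p₀ = _ at h2
    rw [h2]
    exact Scheme.fromSpecResidueField_apply y₀ _
  · -- middle point
    have h1 : Spec.map (CommRingCat.ofHom ι) ≫ g =
        Spec.map (CommRingCat.ofHom t₁) ≫ Y.fromSpecStalk y₁ := by
      change Spec.map (CommRingCat.ofHom ι) ≫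
        Spec.map (CommRingCat.ofHom t₂) ≫ Y.fromSpecStalk y₂ = _
      rw [← Spec.map_comp_assoc]
      have : CommRingCat.ofHom t₂ ≫ CommRingCat.ofHom ι =
          Y.presheaf.stalkSpecializes h₁₂ ≫ CommRingCat.ofHom t₁ := by
        ext a
        change φ₂.hom a = φ₁.hom ((Y.presheaf.stalkSpecializes h₁₂).hom a)
        rw [← hφ]; rfl
      rw [this, Spec.map_comp, Category.assoc, Scheme.SpecMap_stalkSpecializes_fromSpecStalk]
      rfl
    have h2 := congrArg (fun m : Spec (CommRingCat.of ↥A₁) ⟶ Y => m (closedPoint ↥A₁)) h1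
    change g p₁ = Y.fromSpecStalk y₁ (Spec.map (CommRingCat.ofHom t₁) (closedPoint ↥A₁)) at h2
    rw [h2]
    have : Spec.map (CommRingCat.ofHom t₁) (closedPoint ↥A₁) =
        closedPoint (Y.presheaf.stalk y₁) :=
      comap_closedPoint (S := A₁) (φ₁.hom.codRestrict A₁.toSubring hA₁)
    rw [this, Y.fromSpecStalk_closedPoint]
  · -- closed point
    have : Spec.map (CommRingCat.ofHom t₂) (closedPoint ↥V) =
        closedPoint (Y.presheaf.stalk y₂) :=
      comap_closedPoint (S := V) t₂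
    change Y.fromSpecStalk y₂ (Spec.map (CommRingCat.ofHom t₂) (closedPoint ↥V)) = y₂
    rw [this, Y.fromSpecStalk_closedPoint]

instance : (Subtr.UnivSSubtrusive.{u}).IsStableUnderBaseChange :=
  MorphismProperty.universally_isStableUnderBaseChange _

/-- Base change of a universally S-subtrusive morphism. -/
lemma univSSubtrusive_of_isPullback {X Y X' Y' : Scheme.{u}} {f : X ⟶ Y} {f' : X' ⟶ Y'}
    {i₁ : X' ⟶ X} {i₂ : Y' ⟶ Y} (h : IsPullback i₁ f' f i₂) (hf : Subtr.UnivSSubtrusive f) :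
    Subtr.UnivSSubtrusive f' :=
  MorphismProperty.of_isPullback (P := Subtr.UnivSSubtrusive) h hf

/-- A universally S-subtrusive morphism is S-subtrusive. -/
lemma isSSubtrusive_of_univ {X Y : Scheme.{u}} {f : X ⟶ Y} (hf : Subtr.UnivSSubtrusive f) :
    Subtr.IsSSubtrusive f :=
  hf (𝟙 X) (𝟙 _) f IsPullback.of_id_snd

/-- A universally S-subtrusive morphism lifts chains of three points. -/
theorem exists_chain_lift {X Y : Scheme.{u}} (f : X ⟶ Y) (hf : Subtr.UnivSSubtrusive f)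
    {y₀ y₁ y₂ : Y} (h₀₁ : y₀ ⤳ y₁) (h₁₂ : y₁ ⤳ y₂) :
    ∃ x₀ x₁ x₂ : X, x₀ ⤳ x₁ ∧ x₁ ⤳ x₂ ∧ f x₀ = y₀ ∧ f x₁ = y₁ ∧ f x₂ = y₂ := by
  obtain ⟨V, _, _, _, g, p₀, p₁, p₂, hp₀₁, hp₁₂, hg₀, hg₁, hg₂⟩ :=
    exists_valuationRing_of_chain h₀₁ h₁₂
  have hfV : Subtr.UnivSSubtrusive (pullback.snd f g) :=
    univSSubtrusive_of_isPullback (IsPullback.of_hasPullback f g) hf
  obtain ⟨Z, i, -, hflat, hsurj⟩ :=
    ((Groth.Agent.Lib.Helper10.SubtrVal.tfae V (pullback.snd f g)).out 0 5).mp hfV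
  obtain ⟨z₂, hz₂⟩ := hsurj.surj p₂
  obtain ⟨z₁, hz₁₂, hz₁⟩ := (Flat.generalizingMap (i ≫ pullback.snd f g)) (hz₂ ▸ hp₁₂)
  obtain ⟨z₀, hz₀₁, hz₀⟩ := (Flat.generalizingMap (i ≫ pullback.snd f g)) (hz₁ ▸ hp₀₁)
  have hcomm : ∀ z : Z, f ((i ≫ pullback.fst f g) z) = g ((i ≫ pullback.snd f g) z) := by
    intro z
    have h1 := congrArg (fun m : pullback f g ⟶ Y => m (i z))
      (pullback.condition (f := f) (g := g))
    exact h1
  refine ⟨(i ≫ pullback.fst f g) z₀, (i ≫ pullback.fst f g) z₁, (i ≫ pullback.fst f g) z₂,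
    hz₀₁.map (i ≫ pullback.fst f g).continuous, hz₁₂.map (i ≫ pullback.fst f g).continuous,
    ?_, ?_, ?_⟩
  · rw [hcomm, hz₀, hg₀]
  · rw [hcomm, hz₁, hg₁]
  · rw [hcomm, hz₂, hg₂]

end Groth.Agent.Lib.T2H3.SubtrChain
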