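import Mathlib
import Groth.Prelude.Def_W4c2submetdescSubtr
import Groth.Agent.Lib.T2H3SubtrLimit
import Groth.Agent.Lib.Helper22LimBC

/-!
# Limits of S-subtrusive morphisms: base changes of a fixed morphism along a limit
-/

set_option autoImplicit false
set_option linter.style.haveILetI false
universe u
open CategoryTheory CategoryTheory.Limits AlgebraicGeometry Topology

namespace Groth.Agent.Lib.T2H3.SubtrLimitBC

open Groth.Agent.Lib.Helper22.LimBC Groth.Agent.Lib.T2H3.SubtrLimit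

/-- S-subtrusiveness is invariant under precomposition with an isomorphism. -/
lemma isSSubtrusive_iso_comp {X X' Y : Scheme.{u}} (e : X' ≅ X) (g : X ⟶ Y)
    (hg : Subtr.IsSSubtrusive g) : Subtr.IsSSubtrusive (e.hom ≫ g) := by
  intro y y' hyy
  obtain ⟨x, x', hxx, hx, hx'⟩ := hg hyy
  have h1 : ∀ z : X, (e.hom ≫ g) (e.inv z) = g z := by
    intro z
    have := congrArg (fun m : X ⟶ Y => m z) (e.inv_hom_id_assoc g)
    exact this
  exact ⟨e.inv x, e.inv x', hxx.map e.inv.continuous, (h1 x).trans hx, (h1 x').trans hx'⟩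

section

variable {I : Type u} [SmallCategory I] (D : I ⥤ Scheme.{u}) (i₀ : I)
  {X₀ Y₀ : Scheme.{u}} (f₀ : X₀ ⟶ Y₀) (g₀ : Y₀ ⟶ D.obj i₀)

/-- The morphism `X₀ ×_{S_{i₀}} S_j ⟶ Y₀ ×_{S_{i₀}} S_j` induced by `f₀`. -/
noncomputable def α (j : Over i₀) :
    (bcDiagram D i₀ (f₀ ≫ g₀)).obj j ⟶ (bcDiagram D i₀ g₀).obj j :=
  dLift j (dFst D i₀ (f₀ ≫ g₀) j ≫ f₀) (dSnd D i₀ (f₀ ≫ g₀) j)
    (by rw [Category.assoc, d_condition])

@[reassoc]
lemma α_fst (j : Over i₀) : α D i₀ f₀ g₀ j ≫ dFst D i₀ g₀ j = dFst D i₀ (f₀ ≫ g₀) j ≫ f₀ :=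
  dLift_fst _ _ _ _

@[reassoc]
lemma α_snd (j : Over i₀) : α D i₀ f₀ g₀ j ≫ dSnd D i₀ g₀ j = dSnd D i₀ (f₀ ≫ g₀) j :=
  dLift_snd _ _ _ _

lemma α_naturality {j k : Over i₀} (a : j ⟶ k) :
    (bcDiagram D i₀ (f₀ ≫ g₀)).map a ≫ α D i₀ f₀ g₀ k =
      α D i₀ f₀ g₀ j ≫ (bcDiagram D i₀ g₀).map a := by
  apply d_hom_ext
  · rw [Category.assoc, α_fst, map_dFst_assoc, Category.assoc, map_dFst, α_fst]
  · rw [Category.assoc, α_snd, map_dSnd, Category.assoc, map_dSnd, α_snd_assoc]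

lemma isPullback_α (j : Over i₀) :
    IsPullback (dFst D i₀ (f₀ ≫ g₀) j) (α D i₀ f₀ g₀ j) f₀ (dFst D i₀ g₀ j) := by
  have big : IsPullback (α D i₀ f₀ g₀ j ≫ dSnd D i₀ g₀ j) (dFst D i₀ (f₀ ≫ g₀) j)
      (D.map j.hom) (f₀ ≫ g₀) := by
    rw [α_snd]
    exact (isPullback_d D i₀ (f₀ ≫ g₀) j).flip
  exact (IsPullback.of_right big (α_fst D i₀ f₀ g₀ j) (isPullback_d D i₀ g₀ j).flip).flip

instance [QuasiCompact f₀] (j : Over i₀) : QuasiCompact (α D i₀ f₀ g₀ j) :=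
  MorphismProperty.of_isPullback (P := @QuasiCompact) (isPullback_α D i₀ f₀ g₀ j) inferInstance

/-- `α j` is, up to an isomorphism of the source, the base change of `f₀` as written with iterated
fibre products. -/
lemma isSSubtrusive_α (j : Over i₀)
    (h : Subtr.IsSSubtrusive (pullback.snd f₀ (pullback.fst g₀ (D.map j.hom)))) :
    Subtr.IsSSubtrusive (α D i₀ f₀ g₀ j) := by
  have e : α D i₀ f₀ g₀ j = (pullbackRightPullbackFstIso g₀ (D.map j.hom) f₀).symm.hom ≫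
      pullback.snd f₀ (pullback.fst g₀ (D.map j.hom)) := by
    apply d_hom_ext
    · rw [α_fst]
      change _ = ((pullbackRightPullbackFstIso g₀ (D.map j.hom) f₀).inv ≫
        pullback.snd f₀ (pullback.fst g₀ (D.map j.hom))) ≫ pullback.fst g₀ (D.map j.hom)
      rw [Category.assoc, pullbackRightPullbackFstIso_inv_snd_fst]
      rfl
    · rw [α_snd]
      change _ = ((pullbackRightPullbackFstIso g₀ (D.map j.hom) f₀).inv ≫
        pullback.snd f₀ (pullback.fst g₀ (D.map j.hom))) ≫ pullback.snd g₀ (D.map j.hom)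
      rw [Category.assoc, pullbackRightPullbackFstIso_inv_snd_snd]
      rfl
  rw [e]
  exact isSSubtrusive_iso_comp _ _ h

variable [IsCofiltered I] (c : Cone D) (hc : IsLimit c)
  [∀ {i j} (f : i ⟶ j), IsAffineHom (D.map f)]

include hc in
/-- If the base changes of the quasi-compact morphism `f₀` to the stages `S_j` over `S_{i₁}` are
S-subtrusive, so is the base change to the limit. -/
theorem isSSubtrusive_limit [QuasiCompact f₀] (j₁ : Over i₀)
    (h : ∀ (j : Over i₀) (_ : j ⟶ j₁),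
      Subtr.IsSSubtrusive (pullback.snd f₀ (pullback.fst g₀ (D.map j.hom)))) :
    Subtr.IsSSubtrusive (pullback.snd f₀ (pullback.fst g₀ (c.π.app i₀))) := by
  have hPY : IsPullback (pullback.fst g₀ (c.π.app i₀)) (pullback.snd g₀ (c.π.app i₀)) g₀
      (c.π.app i₀) := IsPullback.of_hasPullback _ _
  have hPX : IsPullback (pullback.fst f₀ (pullback.fst g₀ (c.π.app i₀)))
      (pullback.snd f₀ (pullback.fst g₀ (c.π.app i₀)) ≫ pullback.snd g₀ (c.π.app i₀))
      (f₀ ≫ g₀) (c.π.app i₀) :=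
    ((IsPullback.of_hasPullback f₀ (pullback.fst g₀ (c.π.app i₀))).flip.paste_horiz
      hPY.flip).flip
  refine isSSubtrusive_of_isLimit (bcDiagram D i₀ (f₀ ≫ g₀)) (bcDiagram D i₀ g₀)
    (bcCone i₀ hPX) (isLimitBcCone i₀ hPX hc) (bcCone i₀ hPY) (isLimitBcCone i₀ hPY hc)
    (α D i₀ f₀ g₀) (fun j k a => α_naturality D i₀ f₀ g₀ a)
    (pullback.snd f₀ (pullback.fst g₀ (c.π.app i₀))) ?_ j₁
    (fun j a => isSSubtrusive_α D i₀ f₀ g₀ j (h j a))
  intro j
  apply d_hom_ext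
  · rw [Category.assoc, Category.assoc, α_fst]
    change _ ≫ bcπ i₀ hPY j ≫ _ = bcπ i₀ hPX j ≫ _
    rw [bcπ_fst, bcπ_fst_assoc, pullback.condition]
  · rw [Category.assoc, Category.assoc, α_snd]
    change _ ≫ bcπ i₀ hPY j ≫ _ = bcπ i₀ hPX j ≫ _
    rw [bcπ_snd, bcπ_snd, Category.assoc]

end

end Groth.Agent.Lib.T2H3.SubtrLimitBC
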