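import Mathlib
import Groth.Prelude.Def_W4c2submetdescSubtr
import Groth.Agent.Lib.T2H3SubtrChain
import Groth.Agent.Lib.T2H3ProConsBasic
import Groth.Agent.S3398

/-!
# Descent of locally closed subsets along universally S-subtrusive quasi-compact morphisms
-/

set_option autoImplicit false
set_option linter.style.haveILetI false
universe u
open CategoryTheory CategoryTheory.Limits AlgebraicGeometry Topology

namespace Groth.Agent.Lib.T2H3.SubtrLocClosed

open Groth.Agent.Lib.T2H3.ProConsBasic Groth.Agent.Lib.T2H3.SubtrChain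

/-- For a locally closed retrocompact subset `E` of a scheme and a compact open `U`, the trace
`E ∩ U` is the intersection of the closure of `E` with a compact open subset of `U`. -/
lemma exists_compact_open_of_isLocallyClosed_of_isRetrocompact {X : Scheme.{u}} {E : Set X}
    (hlc : IsLocallyClosed E) (hrc : IsRetrocompact E) {U : Set X} (hUo : IsOpen U)
    (hUc : IsCompact U) :
    ∃ D : Set X, IsOpen D ∧ IsCompact D ∧ D ⊆ U ∧ E ∩ U = closure E ∩ D := by
  have hK : IsCompact (E ∩ U) := hrc hUc hUo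
  have hO : IsOpen (coborder E ∩ U) := hlc.isOpen_coborder.inter hUo
  have hbasis : ∀ x : X, x ∈ E ∩ U → ∃ D : Set X, IsOpen D ∧ IsCompact D ∧ x ∈ D ∧
      D ⊆ coborder E ∩ U := by
    intro x hx
    have hxO : x ∈ coborder E ∩ U := ⟨subset_coborder hx.1, hx.2⟩
    obtain ⟨D, ⟨hD₁, hD₂⟩, hxD, hDO⟩ :=
      (PrespectralSpace.isTopologicalBasis (X := X)).mem_nhds_iff.mp (hO.mem_nhds hxO)
    exact ⟨D, hD₁, hD₂, hxD, hDO⟩
  classical
  let Dx : X → Set X := fun x => if hx : x ∈ E ∩ U then (hbasis x hx).choose else Set.univ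
  have hDx : ∀ x (hx : x ∈ E ∩ U), IsOpen (Dx x) ∧ IsCompact (Dx x) ∧ x ∈ Dx x ∧
      Dx x ⊆ coborder E ∩ U := by
    intro x hx
    simp only [Dx, dif_pos hx]
    exact (hbasis x hx).choose_spec
  obtain ⟨t, ht, htcover⟩ := hK.elim_nhds_subcover Dx
    (fun x hx => (hDx x hx).1.mem_nhds (hDx x hx).2.2.1)
  refine ⟨⋃ x ∈ t, Dx x, ?_, ?_, ?_, ?_⟩
  · exact isOpen_biUnion fun x hx => (hDx x (ht x hx)).1
  · exact t.isCompact_biUnion fun x hx => (hDx x (ht x hx)).2.1
  · intro y hy
    simp only [Set.mem_iUnion] at hy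
    obtain ⟨x, hx, hy⟩ := hy
    exact ((hDx x (ht x hx)).2.2.2 hy).2
  · apply subset_antisymm
    · intro y hy
      exact ⟨subset_closure hy.1, htcover hy⟩
    · rintro y ⟨hy1, hy2⟩
      simp only [Set.mem_iUnion] at hy2
      obtain ⟨x, hx, hy2⟩ := hy2
      have hy3 := (hDx x (ht x hx)).2.2.2 hy2
      refine ⟨?_, hy3.2⟩
      rw [← closure_inter_coborder (s := E)]
      exact ⟨hy1, hy3.1⟩

/-- A locally closed retrocompact subset of a scheme is pro-constructible. -/
theorem isProConstructible_of_isLocallyClosed_of_isRetrocompact {X : Scheme.{u}} {E : Set X}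
    (hlc : IsLocallyClosed E) (hrc : IsRetrocompact E) : ProCons.IsProConstructible E := by
  apply isProConstructible_of_affine
  intro x
  obtain ⟨W, hW, hxW⟩ := exists_affine_nhd X x
  have : IsAffine (W : Scheme.{u}) := hW
  obtain ⟨D, hDo, hDc, hDW, hED⟩ :=
    exists_compact_open_of_isLocallyClosed_of_isRetrocompact hlc hrc W.isOpen hW.isCompact
  obtain ⟨𝒟, h𝒟, hcl⟩ := exists_eq_sInter_of_isAffineOpen
    (isProConstructible_of_isClosed (isClosed_closure (s := E))) hW
  have hDcons : IsConstructible (Subtype.val ⁻¹' D : Set W) := by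
    have h1 : IsCompact (Subtype.val ⁻¹' D : Set W) := by
      apply (Topology.IsInducing.subtypeVal).isCompact_preimage_iff ?_ |>.mpr hDc
      rw [Subtype.range_coe]
      exact hDW
    have h2 : IsOpen (Subtype.val ⁻¹' D : Set W) := hDo.preimage continuous_subtype_val
    exact IsCompact.isConstructible (X := (W : Scheme.{u})) h1 h2
  refine ⟨W, hxW, 𝒟 ∪ {Subtype.val ⁻¹' D}, ?_, ?_⟩
  · rintro T (hT | rfl)
    · exact h𝒟 T hT
    · exact hDcons
  · ext ⟨y, hy⟩
    constructor
    · rintro (h : y ∈ E) T (hT | rfl)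
      · have h1 : (⟨y, hy⟩ : W) ∈ (Subtype.val ⁻¹' closure E : Set W) := subset_closure h
        rw [hcl] at h1
        exact h1 T hT
      · have h2 : y ∈ closure E ∩ D := hED ▸ (⟨h, hy⟩ : y ∈ E ∩ (W : Set X))
        exact h2.2
    · intro h
      have h1 : (⟨y, hy⟩ : W) ∈ (Subtype.val ⁻¹' closure E : Set W) := by
        rw [hcl]
        exact fun T hT => h T (Or.inl hT)
      have h2 : y ∈ D := h _ (Or.inr rfl)
      have h3 : y ∈ E ∩ (W : Set X) := hED ▸ (⟨h1, h2⟩ : y ∈ closure E ∩ D)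
      exact h3.1

/-- Core descent statement: let `f` be quasi-compact and universally S-subtrusive, `E` a subset of
the target with locally closed preimage, and `P₁` a pro-constructible set with
`E ⊆ P₁ ⊆ closure E` such that the fibres over `P₁ \ E` avoid the coborder of the preimage of `E`.
Then `E` is locally closed. -/
theorem isLocallyClosed_of_preimage {S' S : Scheme.{u}} (f : S' ⟶ S) [QuasiCompact f]
    (hf : Subtr.UnivSSubtrusive f) (E : Set S) (hE' : IsLocallyClosed (f ⁻¹' E))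
    (P₁ : Set S) (hP₁ : ProCons.IsProConstructible P₁) (hEP : E ⊆ P₁) (hPcl : P₁ ⊆ closure E)
    (hfib : ∀ p ∈ P₁, p ∉ E → ∀ x : S', f x = p → x ∉ coborder (f ⁻¹' E)) :
    IsLocallyClosed E := by
  have hS : Subtr.IsSSubtrusive f := isSSubtrusive_of_univ hf
  have hsurj : ∀ s : S, ∃ x : S', f x = s := by
    intro s
    obtain ⟨x, -, -, hx, -⟩ := hS (specializes_rfl (x := s))
    exact ⟨x, hx⟩
  set E' : Set S' := f ⁻¹' E with hE'def
  set O : Set S' := coborder E' with hOdef
  have hOopen : IsOpen O := hE'.isOpen_coborder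
  have hE'O : closure E' ∩ O = E' := closure_inter_coborder
  set B : Set S := f '' Oᶜ with hBdef
  have hB : ProCons.IsProConstructible B :=
    Groth.Agent.S3398.result f _ (isProConstructible_of_isClosed hOopen.isClosed_compl)
  have hBE : ∀ b ∈ B, b ∉ E := by
    rintro _ ⟨x, hx, rfl⟩ hb
    exact hx (subset_coborder (show x ∈ E' from hb))
  set B₁ : Set S := B ∩ closure E with hB₁def
  have hB₁ : ProCons.IsProConstructible B₁ :=
    isProConstructible_inter hB (isProConstructible_of_isClosed isClosed_closure)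
  have hclP : closure E ⊆ closure P₁ := closure_mono hEP
  have hclaim : closure E \ E = closure E ∩ closure B₁ := by
    apply subset_antisymm
    · rintro s ⟨hs, hsE⟩
      refine ⟨hs, ?_⟩
      obtain ⟨p, hpP, hps⟩ := Groth.Agent.Lib.Helper5.exists_specializes_of_mem_closure S P₁ hP₁ s
        (hclP hs)
      by_cases hpE : p ∈ E
      · obtain ⟨x, x', hxx, hx, hx'⟩ := hS hps
        have hx'E : x' ∈ E' := by
          show f x' ∈ E
          rw [hx']; exact hpE
        have hxcl : x ∈ closure E' :=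
          closure_mono (Set.singleton_subset_iff.mpr hx'E) hxx.mem_closure
        have hxE : x ∉ E' := by
          intro h
          apply hsE
          rw [← hx]; exact h
        have hxO : x ∉ O := fun h => hxE (hE'O ▸ ⟨hxcl, h⟩)
        exact subset_closure ⟨⟨x, hxO, hx⟩, hs⟩
      · obtain ⟨x', hx'⟩ := hsurj p
        have hx'O : x' ∉ O := hfib p hpP hpE x' hx'
        have hpB₁ : p ∈ B₁ := ⟨⟨x', hx'O, hx'⟩, hPcl hpP⟩
        exact closure_mono (Set.singleton_subset_iff.mpr hpB₁) hps.mem_closure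
    · rintro s ⟨hs, hsB⟩
      refine ⟨hs, fun hsE => ?_⟩
      obtain ⟨b, hbB₁, hbs⟩ := Groth.Agent.Lib.Helper5.exists_specializes_of_mem_closure S B₁ hB₁ s
        hsB
      have hbE : b ∉ E := hBE b hbB₁.1
      obtain ⟨p, hpP, hpb⟩ := Groth.Agent.Lib.Helper5.exists_specializes_of_mem_closure S P₁ hP₁ b
        (hclP hbB₁.2)
      by_cases hpE : p ∈ E
      · obtain ⟨x₀, x₁, x₂, h₀₁, h₁₂, hx₀, hx₁, hx₂⟩ := exists_chain_lift f hf hpb hbs
        have hx₂E : x₂ ∈ E' := by
          show f x₂ ∈ E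
          rw [hx₂]; exact hsE
        have hx₁O : x₁ ∈ O := h₁₂.mem_open hOopen (subset_coborder hx₂E)
        have hx₀E : x₀ ∈ E' := by
          show f x₀ ∈ E
          rw [hx₀]; exact hpE
        have hx₁cl : x₁ ∈ closure E' :=
          closure_mono (Set.singleton_subset_iff.mpr hx₀E) h₀₁.mem_closure
        have hx₁E : x₁ ∈ E' := hE'O ▸ ⟨hx₁cl, hx₁O⟩
        apply hbE
        rw [← hx₁]; exact hx₁E
      · obtain ⟨x, x', hxx, hx, hx'⟩ := hS (hpb.trans hbs)
        have hxE : x ∈ E' := by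
          show f x ∈ E
          rw [hx]; exact hsE
        have hx'O : x' ∈ O := hxx.mem_open hOopen (subset_coborder hxE)
        exact hfib p hpP hpE x' hx' hx'O
  rw [isLocallyClosed_iff_isOpen_coborder, coborder, isOpen_compl_iff, hclaim]
  exact isClosed_closure.inter isClosed_closure

/-- For affine opens `W ≤ f ⁻¹ U`, the preimage in `W` of a compact open subset of `U` is
compact. -/
lemma isCompact_preimage_inter_of_isAffineOpen {S' S : Scheme.{u}} (f : S' ⟶ S) {U : S.Opens}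
    (hU : IsAffineOpen U) {W : S'.Opens} (hW : IsAffineOpen W) (hWU : W ≤ f ⁻¹ᵁ U) {D : Set S}
    (hDo : IsOpen D) (hDc : IsCompact D) (hDU : D ⊆ U) : IsCompact (f ⁻¹' D ∩ (W : Set S')) := by
  have : IsAffine (W : Scheme.{u}) := hW
  have : IsAffine (U : Scheme.{u}) := hU
  let g : (W : Scheme.{u}) ⟶ (U : Scheme.{u}) := f.resLE U W hWU
  have h1 : IsCompact (Subtype.val ⁻¹' D : Set U) := by
    apply (Topology.IsInducing.subtypeVal).isCompact_preimage_iff ?_ |>.mpr hDc
    rw [Subtype.range_coe]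
    exact hDU
  have h2 : IsOpen (Subtype.val ⁻¹' D : Set U) := hDo.preimage continuous_subtype_val
  have h3 : IsCompact (g ⁻¹' (Subtype.val ⁻¹' D : Set U)) :=
    QuasiCompact.isCompact_preimage (f := g) _ h2 h1
  have h4 : IsCompact ((Subtype.val : W → S') '' (g ⁻¹' (Subtype.val ⁻¹' D : Set U))) :=
    h3.image continuous_subtype_val
  convert h4 using 1
  ext y
  constructor
  · rintro ⟨hyD, hyW⟩
    refine ⟨⟨y, hyW⟩, ?_, rfl⟩
    show (g ⟨y, hyW⟩).1 ∈ D
    rw [Scheme.Hom.coe_resLE_apply]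
    exact hyD
  · rintro ⟨⟨z, hz⟩, hzD, rfl⟩
    refine ⟨?_, hz⟩
    have : (g ⟨z, hz⟩).1 ∈ D := hzD
    rw [Scheme.Hom.coe_resLE_apply] at this
    exact this

/-- The preimage of a locally closed retrocompact subset under any morphism of schemes is
retrocompact. -/
theorem isRetrocompact_preimage {S' S : Scheme.{u}} (f : S' ⟶ S) {E : Set S}
    (hlc : IsLocallyClosed E) (hrc : IsRetrocompact E) : IsRetrocompact (f ⁻¹' E) := by
  intro W'' hc ho
  have key : ∀ x : S', x ∈ W'' → ∃ W : S'.Opens, x ∈ W ∧ (W : Set S') ⊆ W'' ∧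
      IsCompact (f ⁻¹' E ∩ (W : Set S')) := by
    intro x hx
    obtain ⟨U, hU, hfxU⟩ := exists_affine_nhd S (f x)
    obtain ⟨D, hDo, hDc, hDU, hED⟩ :=
      exists_compact_open_of_isLocallyClosed_of_isRetrocompact hlc hrc U.isOpen hU.isCompact
    let O' : S'.Opens := ⟨W'', ho⟩ ⊓ f ⁻¹ᵁ U
    have hxO' : x ∈ O' := ⟨hx, hfxU⟩
    obtain ⟨W, hW, hxW, hWO'⟩ :=
      TopologicalSpace.Opens.isBasis_iff_nbhd.mp S'.isBasis_affineOpens hxO'
    have hWU : W ≤ f ⁻¹ᵁ U := fun y hy => (hWO' hy).2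
    refine ⟨W, hxW, fun y hy => (hWO' hy).1, ?_⟩
    have h1 := isCompact_preimage_inter_of_isAffineOpen f hU hW hWU hDo hDc hDU
    have h2 : IsCompact (f ⁻¹' closure E ∩ (f ⁻¹' D ∩ (W : Set S'))) :=
      h1.inter_left (isClosed_closure.preimage f.continuous)
    convert h2 using 1
    ext y
    constructor
    · rintro ⟨hyE, hyW⟩
      have h3 : f y ∈ closure E ∩ D := hED ▸ (⟨hyE, hWU hyW⟩ : f y ∈ E ∩ (U : Set S))
      exact ⟨h3.1, h3.2, hyW⟩
    · rintro ⟨hy1, hy2, hyW⟩
      have h3 : f y ∈ E ∩ (U : Set S) := hED ▸ (⟨hy1, hy2⟩ : f y ∈ closure E ∩ D)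
      exact ⟨h3.1, hyW⟩
  classical
  let Wx : S' → Set S' := fun x => if hx : x ∈ W'' then ((key x hx).choose : Set S') else Set.univ
  have hWx : ∀ x (hx : x ∈ W''), IsOpen (Wx x) ∧ x ∈ Wx x ∧ Wx x ⊆ W'' ∧
      IsCompact (f ⁻¹' E ∩ Wx x) := by
    intro x hx
    simp only [Wx, dif_pos hx]
    exact ⟨(key x hx).choose.isOpen, (key x hx).choose_spec⟩
  obtain ⟨t, ht, htcover⟩ := hc.elim_nhds_subcover Wx
    (fun x hx => (hWx x hx).1.mem_nhds (hWx x hx).2.1)
  have h5 : IsCompact (⋃ x ∈ t, f ⁻¹' E ∩ Wx x) :=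
    t.isCompact_biUnion fun x hx => (hWx x (ht x hx)).2.2.2
  convert h5 using 1
  ext y
  simp only [Set.mem_inter_iff, Set.mem_iUnion, Set.mem_preimage]
  constructor
  · rintro ⟨hyE, hyW⟩
    have := htcover hyW
    simp only [Set.mem_iUnion] at this
    obtain ⟨x, hx, hyx⟩ := this
    exact ⟨x, hx, hyE, hyx⟩
  · rintro ⟨x, hx, hyE, hyx⟩
    exact ⟨hyE, (hWx x (ht x hx)).2.2.1 hyx⟩

end Groth.Agent.Lib.T2H3.SubtrLocClosed
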