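import Mathlib
import Groth.Prelude.Def_HTop

/-!
# Valuation-ring liftings along proper surjective and flat surjective morphisms (helper8)
-/

set_option autoImplicit false
set_option linter.style.haveILetI false

universe w v u

namespace Groth.Agent.Lib.T2H8.ValLift

open CategoryTheory Limits AlgebraicGeometry Opposite HTop IsLocalRing

/-- Valuation-ring lifting along a proper surjective morphism, after an extension of valuation
rings. -/
theorem exists_lift_of_proper_surjective {T U : Scheme.{u}} (f : U ⟶ T) [IsProper f] [Surjective f]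
    (V : CommRingCat.{u}) [IsDomain V] [ValuationRing V] (g : Spec V ⟶ T) :
    ∃ (W : CommRingCat.{u}) (_ : IsDomain W) (_ : ValuationRing W) (φ : V ⟶ W),
      IsExtVal V W φ ∧ ∃ g' : Spec W ⟶ U, g' ≫ f = Spec.map φ ≫ g := by
  let η : Spec V := (⟨⊥, Ideal.isPrime_bot⟩ : PrimeSpectrum V)
  obtain ⟨p, hp⟩ := (pullback.fst g f).surjective η
  let P := pullback g f
  let L := P.residueField p
  let h : Spec L ⟶ Spec V := P.fromSpecResidueField p ≫ pullback.fst g f
  let ψ : V ⟶ L := Spec.preimage h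
  have hψ : Spec.map ψ = h := Spec.map_preimage h
  have hinj : Function.Injective ψ.hom := by
    rw [RingHom.injective_iff_ker_eq_bot]
    let x : PrimeSpectrum L := IsLocalRing.closedPoint L
    have hx : x.asIdeal = ⊥ := (Ideal.eq_bot_or_top _).resolve_right x.2.ne_top
    have h1 : (Spec.map ψ) x = η := by
      rw [hψ]
      show (pullback.fst g f) ((P.fromSpecResidueField p) x) = η
      rw [Scheme.fromSpecResidueField_apply, hp]
    have h2 : ((Spec.map ψ) x : PrimeSpectrum V).asIdeal = ⊥ := by rw [h1]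
    have h3 : ((Spec.map ψ) x : PrimeSpectrum V).asIdeal = Ideal.comap ψ.hom x.asIdeal := rfl
    rw [h3, hx] at h2
    exact h2
  obtain ⟨A, hA, hloc⟩ := IsLocalRing.exists_factor_valuationRing ψ.hom
  let W : CommRingCat.{u} := CommRingCat.of A
  let φ : V ⟶ W := CommRingCat.ofHom (ψ.hom.codRestrict A.toSubring hA)
  have hφψ : φ ≫ CommRingCat.ofHom (algebraMap A L) = ψ := by
    ext x
    rfl
  have hE : ValuativeCriterion.Existence f := by
    have := (inferInstance : UniversallyClosed f)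
    rw [UniversallyClosed.eq_valuativeCriterion] at this
    exact this.1
  have w : (P.fromSpecResidueField p ≫ pullback.snd g f) ≫ f =
      Spec.map (CommRingCat.ofHom (algebraMap A L)) ≫ (Spec.map φ ≫ g) := by
    rw [Category.assoc, ← pullback.condition, ← Category.assoc, ← Category.assoc, ← Spec.map_comp,
      hφψ, hψ]
  let Sq : ValuativeCommSq f :=
    { R := A
      K := L
      i₁ := P.fromSpecResidueField p ≫ pullback.snd g f
      i₂ := Spec.map φ ≫ g
      commSq := ⟨w⟩ }
  obtain ⟨l, -, hl₂⟩ := (hE Sq).exists_lift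
  refine ⟨W, inferInstanceAs (IsDomain A), inferInstanceAs (ValuationRing A), φ, ⟨?_, hloc⟩, l, hl₂⟩
  intro a b hab
  apply hinj
  exact congrArg Subtype.val hab

/-- A morphism from the spectrum of a local ring factors through any open immersion whose image
contains the image of the closed point. -/
theorem exists_lift_of_closedPoint_mem_range {W : CommRingCat.{u}} [IsLocalRing W]
    {U Y : Scheme.{u}} (ι : Y ⟶ U) [IsOpenImmersion ι] (k : Spec W ⟶ U)
    (hc : k.base (IsLocalRing.closedPoint W) ∈ Set.range ι.base) :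
    ∃ l : Spec W ⟶ Y, l ≫ ι = k := by
  have hrange : Set.range k.base ⊆ Set.range ι.base := by
    rintro _ ⟨y, rfl⟩
    have hy : y ⤳ IsLocalRing.closedPoint W := IsLocalRing.specializes_closedPoint (R := W) y
    exact (hy.map k.base.hom.2).mem_open ι.isOpenEmbedding.isOpen_range hc
  exact ⟨IsOpenImmersion.lift ι k hrange, IsOpenImmersion.lift_fac _ _ _⟩

/-- A standard ph covering is a standard V covering. -/
theorem isStandardV_of_isStandardPh {T : Scheme.{u}} (E : PreZeroHypercover.{w} T)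
    (hE : IsStandardPh E) : IsStandardV E := by
  refine ⟨hE.isAffine, hE.finite_index, hE.isAffine_obj, ?_⟩
  obtain ⟨U, f, ι, hf, hs, hι, hιf, hcov⟩ := hE.exists_proper
  intro V _ _ g
  obtain ⟨W, hWd, hWv, φ, hφ, g', hg'⟩ := exists_lift_of_proper_surjective f V g
  obtain ⟨j, hj⟩ := hcov (g'.base (IsLocalRing.closedPoint W))
  haveI := hι j
  obtain ⟨l, hl⟩ := exists_lift_of_closedPoint_mem_range (ι j) g' hj
  refine ⟨W, hWd, hWv, φ, hφ, j, l, ?_⟩
  rw [← hιf j, ← Category.assoc, hl, hg']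

/-- A proper surjective morphism to an affine scheme gives a standard ph covering by the members of
a finite affine open cover of the source. -/
theorem exists_isStandardPh_of_proper_surjective {T Z : Scheme.{u}} [IsAffine T] (f : Z ⟶ T)
    [IsProper f] [Surjective f] :
    ∃ F : PreZeroHypercover.{0} T, IsStandardPh F ∧ ∀ j, ∃ h : F.X j ⟶ Z, h ≫ f = F.f j := by
  classical
  haveI : CompactSpace Z := QuasiCompact.compactSpace_of_compactSpace f
  have hW : ∀ z : Z, ∃ W : Z.affineOpens, z ∈ (W : Z.Opens) := by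
    intro z
    obtain ⟨_, ⟨W, hW, rfl⟩, hzW, -⟩ :=
      Z.isBasis_affineOpens.exists_subset_of_mem_open (Set.mem_univ z) isOpen_univ
    exact ⟨⟨W, hW⟩, hzW⟩
  choose W hzW using hW
  obtain ⟨t, ht⟩ := isCompact_univ.elim_finite_subcover (fun z : Z => ((W z : Z.Opens) : Set Z))
    (fun z => (W z).1.2) (fun y _ => Set.mem_iUnion.2 ⟨y, hzW y⟩)
  let m := t.card
  let e : Fin m ≃ t := t.equivFin.symm
  let F : PreZeroHypercover.{0} T :=
    { I₀ := Fin m
      X := fun k => ((W (e k).1 : Z.Opens) : Scheme.{u})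
      f := fun k => (W (e k).1 : Z.Opens).ι ≫ f }
  refine ⟨F, ⟨inferInstance, (inferInstance : Finite (Fin m)), fun k => (W (e k).1).2, ?_⟩,
    fun k => ⟨(W (e k).1 : Z.Opens).ι, rfl⟩⟩
  refine ⟨Z, f, fun k => (W (e k).1 : Z.Opens).ι, inferInstance, inferInstance,
    fun k => inferInstance, fun k => rfl, fun x => ?_⟩
  have hx := ht (Set.mem_univ x)
  simp only [Set.mem_iUnion] at hx
  obtain ⟨z, hzt, hxz⟩ := hx
  refine ⟨e.symm ⟨z, hzt⟩, ?_⟩
  show x ∈ Set.range (W (e (e.symm ⟨z, hzt⟩)).1 : Z.Opens).ι.base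
  rw [Equiv.apply_symm_apply, Scheme.Opens.range_ι]
  exact hxz

/-- A proper surjective morphism, as a one-member family, is a ph covering. -/
theorem isPhCover_singleton_of_proper_surjective {X Y : Scheme.{u}} (f : Y ⟶ X) [IsProper f]
    [Surjective f] : IsPhCover (PreZeroHypercover.singleton.{w} f) := by
  refine ⟨fun _ => (inferInstance : LocallyOfFiniteType f), fun U => ?_⟩
  haveI : IsProper (f ∣_ (U : X.Opens)) :=
    MorphismProperty.of_isPullback (P := @IsProper) (isPullback_morphismRestrict f U).flip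
      inferInstance
  haveI : Surjective (f ∣_ (U : X.Opens)) :=
    MorphismProperty.of_isPullback (P := @Surjective) (isPullback_morphismRestrict f U).flip
      inferInstance
  haveI : IsAffine ((U : X.Opens) : Scheme.{u}) := U.2
  obtain ⟨F, hF, hFf⟩ := exists_isStandardPh_of_proper_surjective (f ∣_ (U : X.Opens))
  refine ⟨F, hF, fun j => ?_⟩
  obtain ⟨h, hh⟩ := hFf j
  refine ⟨⟨⟩, h ≫ (f ⁻¹ᵁ (U : X.Opens)).ι, ?_⟩
  show (h ≫ (f ⁻¹ᵁ (U : X.Opens)).ι) ≫ f = F.f j ≫ (U : X.Opens).ι
  rw [Category.assoc, ← morphismRestrict_ι, ← Category.assoc, hh]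

/-- A proper surjective morphism, as a one-member family, is a V covering. -/
theorem isVCover_singleton_of_proper_surjective {X Y : Scheme.{u}} (f : Y ⟶ X) [IsProper f]
    [Surjective f] : IsVCover (PreZeroHypercover.singleton.{w} f) := by
  intro U
  obtain ⟨F, hF, hFE⟩ := (isPhCover_singleton_of_proper_surjective.{w} f).2 U
  exact ⟨F, isStandardV_of_isStandardPh F hF, hFE⟩

/-- Valuation-ring lifting along a flat morphism whose image contains the image of the closed
point, after an extension of valuation rings. -/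
theorem exists_lift_of_flat {T Z : Scheme.{u}} (f : Z ⟶ T) [Flat f]
    (V : CommRingCat.{u}) [IsDomain V] [ValuationRing V] (g : Spec V ⟶ T)
    (hmem : g.base (IsLocalRing.closedPoint V) ∈ Set.range f.base) :
    ∃ (W : CommRingCat.{u}) (_ : IsDomain W) (_ : ValuationRing W) (φ : V ⟶ W),
      IsExtVal V W φ ∧ ∃ g' : Spec W ⟶ Z, g' ≫ f = Spec.map φ ≫ g := by
  obtain ⟨z, hz⟩ := hmem
  obtain ⟨p₀, hp₀, -⟩ := Scheme.Pullback.exists_preimage_pullback (f := g) (g := f)
    (IsLocalRing.closedPoint V) z hz.symm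
  let P := pullback g f
  let η : Spec V := (⟨⊥, Ideal.isPrime_bot⟩ : PrimeSpectrum V)
  have hη : η ⤳ (pullback.fst g f) p₀ := by
    rw [hp₀]
    exact IsLocalRing.specializes_closedPoint (R := V) η
  obtain ⟨p₁, hp₁, hp₁η⟩ := (Flat.generalizingMap (f := pullback.fst g f)) hη
  let L := P.residueField p₁
  let O := P.presheaf.stalk p₀
  let θ : O ⟶ L := P.presheaf.stalkSpecializes hp₁ ≫ P.residue p₁
  obtain ⟨A, hA, hloc⟩ := IsLocalRing.exists_factor_valuationRing θ.hom
  let W : CommRingCat.{u} := CommRingCat.of A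
  let θA : O ⟶ W := CommRingCat.ofHom (θ.hom.codRestrict A.toSubring hA)
  have hθA : θA ≫ CommRingCat.ofHom (algebraMap A L) = θ := by
    ext x
    rfl
  let k : Spec W ⟶ P := Spec.map θA ≫ P.fromSpecStalk p₀
  let ψ : V ⟶ W := Spec.preimage (k ≫ pullback.fst g f)
  have hψ : Spec.map ψ = k ≫ pullback.fst g f := Spec.map_preimage _
  -- the closed point goes to the closed point
  have hcl : (Spec.map ψ) (IsLocalRing.closedPoint W) = IsLocalRing.closedPoint V := by
    rw [hψ]
    show (pullback.fst g f) ((P.fromSpecStalk p₀) ((Spec.map θA) (IsLocalRing.closedPoint W))) = _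
    have h1 : (Spec.map θA) (IsLocalRing.closedPoint W) = IsLocalRing.closedPoint O :=
      IsLocalRing.comap_closedPoint (S := A) (θ.hom.codRestrict A.toSubring hA)
    rw [h1, Scheme.fromSpecStalk_closedPoint, hp₀]
  -- the generic point goes to the generic point
  have hgen : (Spec.map ψ) (⟨⊥, Ideal.isPrime_bot⟩ : PrimeSpectrum A) = η := by
    let x : PrimeSpectrum L := IsLocalRing.closedPoint L
    have hx : x.asIdeal = ⊥ := (Ideal.eq_bot_or_top _).resolve_right x.2.ne_top
    have h1 : (Spec.map (CommRingCat.ofHom (algebraMap A L))) x =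
        (⟨⊥, Ideal.isPrime_bot⟩ : PrimeSpectrum A) := by
      apply PrimeSpectrum.ext
      show Ideal.comap (algebraMap A L) x.asIdeal = ⊥
      rw [hx]
      exact (RingHom.injective_iff_ker_eq_bot _).mp (FaithfulSMul.algebraMap_injective A L)
    rw [← h1, hψ]
    show (pullback.fst g f) ((Spec.map (CommRingCat.ofHom (algebraMap A L)) ≫ Spec.map θA ≫
      P.fromSpecStalk p₀) x) = η
    rw [← Category.assoc, ← Spec.map_comp, hθA, Spec.map_comp, Category.assoc,
      Scheme.SpecMap_stalkSpecializes_fromSpecStalk]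
    show (pullback.fst g f) ((P.fromSpecResidueField p₁) x) = η
    rw [Scheme.fromSpecResidueField_apply, hp₁η]
  have hinj : Function.Injective ψ.hom := by
    rw [RingHom.injective_iff_ker_eq_bot]
    have h2 : ((Spec.map ψ) (⟨⊥, Ideal.isPrime_bot⟩ : PrimeSpectrum A) : PrimeSpectrum V).asIdeal
        = ⊥ := by rw [hgen]
    exact h2
  have hlocal : IsLocalHom ψ.hom := (IsLocalRing.isLocalHom_iff_comap_closedPoint ψ.hom).mpr hcl
  refine ⟨W, inferInstanceAs (IsDomain A), inferInstanceAs (ValuationRing A), ψ, ⟨hinj, hlocal⟩,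
    k ≫ pullback.snd g f, ?_⟩
  rw [Category.assoc, ← pullback.condition, ← Category.assoc, hψ]

/-- A finite jointly surjective family of flat morphisms of affine schemes is a standard V
covering. -/
theorem isStandardV_of_flat {T : Scheme.{u}} [IsAffine T] (E : PreZeroHypercover.{w} T)
    (hfin : Finite E.I₀) (haff : ∀ j, IsAffine (E.X j)) (hflat : ∀ j, Flat (E.f j))
    (hsurj : ∀ t : T, ∃ (j : E.I₀) (x : E.X j), E.f j x = t) : IsStandardV E := by
  refine ⟨inferInstance, hfin, haff, ?_⟩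
  intro V _ _ g
  obtain ⟨j, x, hx⟩ := hsurj (g.base (IsLocalRing.closedPoint V))
  haveI := hflat j
  obtain ⟨W, hWd, hWv, φ, hφ, g', hg'⟩ := exists_lift_of_flat (E.f j) V g ⟨x, hx⟩
  exact ⟨W, hWd, hWv, φ, hφ, j, g', hg'⟩

/-- An fpqc covering is a V covering. -/
theorem isVCover_of_fpqc {T : Scheme.{u}} (𝒰 : Scheme.Cover Scheme.fpqcPrecoverage T) :
    IsVCover 𝒰.toPreZeroHypercover := by
  let 𝒰' : Scheme.Cover (Scheme.propQCPrecoverage @Flat) T := 𝒰
  have hflat : ∀ i, Flat (𝒰.f i) := fun i => 𝒰'.forgetQc.map_prop i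
  haveI : QuasiCompactCover 𝒰.toPreZeroHypercover :=
    (inferInstance : QuasiCompactCover 𝒰'.toPreZeroHypercover)
  intro U
  obtain ⟨n, a, V, hV, hcov⟩ :=
    QuasiCompactCover.exists_isAffineOpen_of_isCompact 𝒰.toPreZeroHypercover U.2.isCompact
  have hle : ∀ i, V i ≤ (𝒰.f (a i)) ⁻¹ᵁ (U : T.Opens) := by
    intro i x hx
    have : (𝒰.f (a i)) x ∈ ⋃ i, (𝒰.f (a i)) '' (V i : Set (𝒰.X (a i))) :=
      Set.mem_iUnion.2 ⟨i, x, hx, rfl⟩
    rw [hcov] at this
    exact this
  let F : PreZeroHypercover.{0} ((U : T.Opens) : Scheme.{u}) :=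
    { I₀ := Fin n
      X := fun i => ((V i : (𝒰.X (a i)).Opens) : Scheme.{u})
      f := fun i => (𝒰.f (a i)).resLE (U : T.Opens) (V i) (hle i) }
  haveI : IsAffine ((U : T.Opens) : Scheme.{u}) := U.2
  refine ⟨F, isStandardV_of_flat F (inferInstance : Finite (Fin n)) (fun i => hV i) (fun i => ?_) ?_,
    fun i => ⟨a i, (V i).ι, ((𝒰.f (a i)).resLE_comp_ι (hle i)).symm⟩⟩
  · haveI := hflat (a i)
    exact (inferInstance : Flat ((𝒰.f (a i)).resLE (U : T.Opens) (V i) (hle i)))
  · intro t
    have ht : (U : T.Opens).ι t ∈ ⋃ i, (𝒰.f (a i)) '' (V i : Set (𝒰.X (a i))) := by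
      rw [hcov]
      exact t.2
    obtain ⟨i, x, hx, hxt⟩ := Set.mem_iUnion.1 ht
    refine ⟨i, ⟨x, hx⟩, ?_⟩
    apply (U : T.Opens).ι.injective
    show ((𝒰.f (a i)).resLE (U : T.Opens) (V i) (hle i) ≫ (U : T.Opens).ι) ⟨x, hx⟩ = _
    rw [Scheme.Hom.resLE_comp_ι]
    exact hxt

/-- A specialization in a scheme is realized by a morphism from the spectrum of a valuation ring of
the residue field of the generic point. -/
theorem exists_valuationRing_of_specializes {P : Scheme.{u}} {p₁ p₀ : P} (h : p₁ ⤳ p₀) :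
    ∃ (W : CommRingCat.{u}) (_ : IsDomain W) (_ : ValuationRing W) (k : Spec W ⟶ P),
      k.base (IsLocalRing.closedPoint W) = p₀ ∧
        k.base (⟨⊥, Ideal.isPrime_bot⟩ : PrimeSpectrum W) = p₁ := by
  let L := P.residueField p₁
  let O := P.presheaf.stalk p₀
  let θ : O ⟶ L := P.presheaf.stalkSpecializes h ≫ P.residue p₁
  obtain ⟨A, hA, hloc⟩ := IsLocalRing.exists_factor_valuationRing θ.hom
  let W : CommRingCat.{u} := CommRingCat.of A
  let θA : O ⟶ W := CommRingCat.ofHom (θ.hom.codRestrict A.toSubring hA)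
  have hθA : θA ≫ CommRingCat.ofHom (algebraMap A L) = θ := by
    ext x
    rfl
  let k : Spec W ⟶ P := Spec.map θA ≫ P.fromSpecStalk p₀
  refine ⟨W, inferInstanceAs (IsDomain A), inferInstanceAs (ValuationRing A), k, ?_, ?_⟩
  · show (P.fromSpecStalk p₀) ((Spec.map θA) (IsLocalRing.closedPoint W)) = _
    have h1 : (Spec.map θA) (IsLocalRing.closedPoint W) = IsLocalRing.closedPoint O :=
      IsLocalRing.comap_closedPoint (S := A) (θ.hom.codRestrict A.toSubring hA)
    rw [h1, Scheme.fromSpecStalk_closedPoint]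
  · let x : PrimeSpectrum L := IsLocalRing.closedPoint L
    have hx : x.asIdeal = ⊥ := (Ideal.eq_bot_or_top _).resolve_right x.2.ne_top
    have h1 : (Spec.map (CommRingCat.ofHom (algebraMap A L))) x =
        (⟨⊥, Ideal.isPrime_bot⟩ : PrimeSpectrum A) := by
      apply PrimeSpectrum.ext
      show Ideal.comap (algebraMap A L) x.asIdeal = ⊥
      rw [hx]
      exact (RingHom.injective_iff_ker_eq_bot _).mp (FaithfulSMul.algebraMap_injective A L)
    rw [← h1]
    show ((Spec.map (CommRingCat.ofHom (algebraMap A L)) ≫ Spec.map θA ≫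
      P.fromSpecStalk p₀) x) = p₁
    rw [← Category.assoc, ← Spec.map_comp, hθA, Spec.map_comp, Category.assoc,
      Scheme.SpecMap_stalkSpecializes_fromSpecStalk]
    show (P.fromSpecResidueField p₁) x = p₁
    rw [Scheme.fromSpecResidueField_apply]

/-- A morphism `Spec W ⟶ Spec V` of spectra of valuation rings sending the closed point to the
closed point and the generic point to the generic point is `Spec` of an extension of valuation
rings. -/
theorem isExtVal_of_points {V W : CommRingCat.{u}} [IsDomain V] [ValuationRing V] [IsDomain W]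
    [ValuationRing W] (ψ : V ⟶ W)
    (hcl : (Spec.map ψ).base (IsLocalRing.closedPoint W) = IsLocalRing.closedPoint V)
    (hgen : (Spec.map ψ).base (⟨⊥, Ideal.isPrime_bot⟩ : PrimeSpectrum W) =
      (⟨⊥, Ideal.isPrime_bot⟩ : PrimeSpectrum V)) : IsExtVal V W ψ := by
  refine ⟨?_, (IsLocalRing.isLocalHom_iff_comap_closedPoint ψ.hom).mpr hcl⟩
  rw [RingHom.injective_iff_ker_eq_bot]
  have h2 : ((Spec.map ψ).base (⟨⊥, Ideal.isPrime_bot⟩ : PrimeSpectrum W) : PrimeSpectrum V).asIdeal
      = ⊥ := by rw [hgen]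
  exact h2

/-- The images of the closed and generic points under `Spec` of an extension of valuation rings. -/
theorem points_of_isExtVal {V W : CommRingCat.{u}} [IsDomain V] [ValuationRing V] [IsDomain W]
    [ValuationRing W] (φ : V ⟶ W) (hφ : IsExtVal V W φ) :
    (Spec.map φ).base (IsLocalRing.closedPoint W) = IsLocalRing.closedPoint V ∧
    (Spec.map φ).base (⟨⊥, Ideal.isPrime_bot⟩ : PrimeSpectrum W) =
      (⟨⊥, Ideal.isPrime_bot⟩ : PrimeSpectrum V) := by
  haveI := hφ.2
  refine ⟨IsLocalRing.comap_closedPoint φ.hom, ?_⟩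
  apply PrimeSpectrum.ext
  show Ideal.comap φ.hom ⊥ = ⊥
  exact (RingHom.injective_iff_ker_eq_bot _).mp hφ.1

/-- Valuation-ring lifting from a specialization in the base change lying over the specialization
of the generic point to the closed point. -/
theorem exists_lift_of_specializes {T Z : Scheme.{u}} (f : Z ⟶ T)
    (V : CommRingCat.{u}) [IsDomain V] [ValuationRing V] (g : Spec V ⟶ T)
    (p₁ p₀ : ↑(pullback g f)) (h : p₁ ⤳ p₀)
    (h₀ : (pullback.fst g f).base p₀ = IsLocalRing.closedPoint V)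
    (h₁ : (pullback.fst g f).base p₁ = (⟨⊥, Ideal.isPrime_bot⟩ : PrimeSpectrum V)) :
    ∃ (W : CommRingCat.{u}) (_ : IsDomain W) (_ : ValuationRing W) (φ : V ⟶ W),
      IsExtVal V W φ ∧ ∃ g' : Spec W ⟶ Z, g' ≫ f = Spec.map φ ≫ g := by
  obtain ⟨W, hWd, hWv, k, hk₀, hk₁⟩ := exists_valuationRing_of_specializes h
  let ψ : V ⟶ W := Spec.preimage (k ≫ pullback.fst g f)
  have hψ : Spec.map ψ = k ≫ pullback.fst g f := Spec.map_preimage _
  refine ⟨W, hWd, hWv, ψ, isExtVal_of_points ψ ?_ ?_, k ≫ pullback.snd g f, ?_⟩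
  · rw [hψ]
    show (pullback.fst g f).base (k.base _) = _
    rw [hk₀, h₀]
  · rw [hψ]
    show (pullback.fst g f).base (k.base _) = _
    rw [hk₁, h₁]
  · rw [Category.assoc, ← pullback.condition, ← Category.assoc, hψ]

section Singleton


/-- A compact open subset of a scheme is a union of a `Fin m`-indexed family of affine opens. -/
theorem exists_finite_affine_cover {X : Scheme.{u}} (O : X.Opens) (hO : IsCompact (O : Set X)) :
    ∃ (m : ℕ) (W : Fin m → X.Opens), (∀ j, IsAffineOpen (W j)) ∧ (∀ j, W j ≤ O) ∧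
      ∀ x ∈ O, ∃ j, x ∈ W j := by
  obtain ⟨s, hs, hsO⟩ := isCompact_iff_finite_and_eq_biUnion_affineOpens.mp hO
  haveI := hs.fintype
  let e := Fintype.equivFin s
  refine ⟨Fintype.card s, fun j => ((e.symm j : s) : X.affineOpens).1, fun j => (e.symm j).1.2,
    fun j => ?_, fun x hx => ?_⟩
  · rw [hsO]
    exact le_iSup₂ (f := fun (i : X.affineOpens) (_ : i ∈ s) => (i : X.Opens)) (e.symm j).1
      (e.symm j).2
  · rw [hsO] at hx
    simp only [TopologicalSpace.Opens.mem_iSup] at hx
    obtain ⟨i, hi, hxi⟩ := hx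
    refine ⟨e ⟨i, hi⟩, ?_⟩
    simpa using hxi

/-- A morphism from a local scheme `Spec W` factors through any open containing the image of the
closed point. -/
theorem range_subset_of_closedPoint_mem {P : Scheme.{u}} {W : CommRingCat.{u}} [IsLocalRing W]
    (g : Spec W ⟶ P) (U : P.Opens) (h : g.base (IsLocalRing.closedPoint W) ∈ U) :
    Set.range g.base ⊆ (U : Set P) := by
  rintro _ ⟨x, rfl⟩
  have hx : x ⤳ IsLocalRing.closedPoint W := IsLocalRing.specializes_closedPoint x
  exact (hx.map g.continuous).mem_open U.2 h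

/-- A V covering has the valuation-ring lifting property. -/
theorem hasValLift_of_isVCover {T : Scheme.{u}} (E : PreZeroHypercover.{w} T) (h : IsVCover E) :
    HasValLift E := by
  intro V _ _ g
  obtain ⟨U, hU, htU⟩ : ∃ U : T.Opens, IsAffineOpen U ∧ g.base (IsLocalRing.closedPoint V) ∈ U := by
    obtain ⟨_, ⟨U, hU, rfl⟩, htU, -⟩ := (T.isBasis_affineOpens).exists_subset_of_mem_open
      (Set.mem_univ (g.base (IsLocalRing.closedPoint V))) isOpen_univ
    exact ⟨U, hU, htU⟩
  have hrange : Set.range g.base ⊆ Set.range (U.ι).base := by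
    rw [Scheme.Opens.range_ι]
    exact range_subset_of_closedPoint_mem g U htU
  let g₀ : Spec V ⟶ (U : Scheme.{u}) := IsOpenImmersion.lift U.ι g hrange
  have hg₀ : g₀ ≫ U.ι = g := IsOpenImmersion.lift_fac _ _ _
  obtain ⟨F, hF, href⟩ := h ⟨U, hU⟩
  obtain ⟨W, hWd, hWv, φ, hφ, j, g', hg'⟩ := hF.lift V g₀
  obtain ⟨i, k, hk⟩ := href j
  refine ⟨W, hWd, hWv, φ, hφ, i, g' ≫ k, ?_⟩
  rw [Category.assoc, hk, ← Category.assoc, hg', Category.assoc, hg₀]

/-- For a quasi-compact morphism, the valuation-ring lifting property of the one-member family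
implies that it is a V covering. -/
theorem isVCover_singleton_of_hasValLift {X Y : Scheme.{u}} (f : X ⟶ Y) [QuasiCompact f]
    (h : HasValLift (PreZeroHypercover.singleton.{w} f)) :
    IsVCover (PreZeroHypercover.singleton.{w} f) := by
  intro U
  have hUaff : IsAffineOpen (U : Y.Opens) := U.2
  obtain ⟨m, W, hWaff, hWle, hWcov⟩ := exists_finite_affine_cover (f ⁻¹ᵁ (U : Y.Opens))
    (QuasiCompact.isCompact_preimage (f := f) _ (U : Y.Opens).2 hUaff.isCompact)
  let F : PreZeroHypercover.{0} ((U : Y.Opens) : Scheme.{u}) :=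
    { I₀ := Fin m
      X := fun j => ((W j : X.Opens) : Scheme.{u})
      f := fun j => f.resLE (U : Y.Opens) (W j) (hWle j) }
  refine ⟨F, ⟨hUaff, inferInstanceAs (Finite (Fin m)), fun j => hWaff j, ?_⟩, ?_⟩
  · intro V _ _ g
    obtain ⟨R, hRd, hRv, φ, hφ, _j, g', hg'⟩ := h V (g ≫ (U : Y.Opens).ι)
    have hg'' : (g' : Spec R ⟶ X) ≫ f = Spec.map φ ≫ g ≫ (U : Y.Opens).ι := hg'
    let g₁ : Spec R ⟶ X := g'
    have hmem : g₁.base (IsLocalRing.closedPoint R) ∈ f ⁻¹ᵁ (U : Y.Opens) := by
      show f.base (g₁.base (IsLocalRing.closedPoint R)) ∈ (U : Y.Opens)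
      have : f.base (g₁.base (IsLocalRing.closedPoint R)) =
          ((Spec.map φ ≫ g ≫ (U : Y.Opens).ι)).base (IsLocalRing.closedPoint R) := by
        rw [← hg'']
        rfl
      rw [this]
      exact ((Spec.map φ ≫ g).base (IsLocalRing.closedPoint R)).2
    obtain ⟨j, hj⟩ := hWcov _ hmem
    have hrange : Set.range g₁.base ⊆ Set.range ((W j).ι).base := by
      rw [Scheme.Opens.range_ι]
      exact range_subset_of_closedPoint_mem g₁ (W j) hj
    let g₂ : Spec R ⟶ ((W j : X.Opens) : Scheme.{u}) := IsOpenImmersion.lift (W j).ι g₁ hrange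
    have hg₂ : g₂ ≫ (W j).ι = g₁ := IsOpenImmersion.lift_fac _ _ _
    refine ⟨R, hRd, hRv, φ, hφ, j, g₂, ?_⟩
    rw [← cancel_mono (U : Y.Opens).ι]
    show (g₂ ≫ f.resLE (U : Y.Opens) (W j) (hWle j)) ≫ (U : Y.Opens).ι = _
    rw [Category.assoc, Scheme.Hom.resLE_comp_ι, ← Category.assoc, hg₂, Category.assoc]
    exact hg''
  · intro j
    refine ⟨PUnit.unit, (W j).ι, ?_⟩
    show (W j).ι ≫ f = f.resLE (U : Y.Opens) (W j) (hWle j) ≫ (U : Y.Opens).ι
    rw [Scheme.Hom.resLE_comp_ι]

/-- The valuation-ring lifting property of the one-member family of `f` implies that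
specializations lift along every base change of `f`. -/
theorem specializes_lift_of_hasValLift {X Y : Scheme.{u}} (f : X ⟶ Y)
    (h : HasValLift (PreZeroHypercover.singleton.{w} f)) (Z : Scheme.{u}) (g : Z ⟶ Y) (z' z : Z)
    (hz : z' ⤳ z) :
    ∃ w' w : ↑(pullback g f), w' ⤳ w ∧ (pullback.fst g f).base w' = z' ∧
      (pullback.fst g f).base w = z := by
  obtain ⟨V, hVd, hVv, k, hk₀, hk₁⟩ := exists_valuationRing_of_specializes hz
  obtain ⟨R, hRd, hRv, φ, hφ, _j, g', hg'⟩ := h V (k ≫ g)
  have hg'' : (g' : Spec R ⟶ X) ≫ f = Spec.map φ ≫ k ≫ g := hg'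
  let g₁ : Spec R ⟶ X := g'
  let l : Spec R ⟶ pullback g f := pullback.lift (Spec.map φ ≫ k) g₁ (by
    rw [Category.assoc]; exact hg''.symm)
  have hl : l ≫ pullback.fst g f = Spec.map φ ≫ k := pullback.lift_fst _ _ _
  obtain ⟨hcl, hgen⟩ := points_of_isExtVal φ hφ
  refine ⟨l.base (⟨⊥, Ideal.isPrime_bot⟩ : PrimeSpectrum R), l.base (IsLocalRing.closedPoint R),
    (IsLocalRing.specializes_closedPoint _).map l.continuous, ?_, ?_⟩
  · show (l ≫ pullback.fst g f).base _ = _
    rw [hl]
    show k.base ((Spec.map φ).base _) = _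
    rw [hgen, hk₁]
  · show (l ≫ pullback.fst g f).base _ = _
    rw [hl]
    show k.base ((Spec.map φ).base _) = _
    rw [hcl, hk₀]

/-- If specializations lift along every base change of `f`, the one-member family of `f` has the
valuation-ring lifting property. -/
theorem hasValLift_of_specializes_lift {X Y : Scheme.{u}} (f : X ⟶ Y)
    (h : ∀ (Z : Scheme.{u}) (g : Z ⟶ Y) (z' z : Z), z' ⤳ z →
      ∃ w' w : ↑(pullback g f), w' ⤳ w ∧ (pullback.fst g f).base w' = z' ∧
        (pullback.fst g f).base w = z) :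
    HasValLift (PreZeroHypercover.singleton.{w} f) := by
  intro V _ _ g
  obtain ⟨w', w₀, hw, h₁, h₀⟩ := h (Spec V) g (⟨⊥, Ideal.isPrime_bot⟩ : PrimeSpectrum V)
    (IsLocalRing.closedPoint V) (IsLocalRing.specializes_closedPoint _)
  obtain ⟨R, hRd, hRv, φ, hφ, g', hg'⟩ := exists_lift_of_specializes f V g w' w₀ hw h₀ h₁
  exact ⟨R, hRd, hRv, φ, hφ, PUnit.unit, g', hg'⟩

/-- The valuation-ring lifting property of a one-member family does not depend on the universe of
the index type. -/
theorem hasValLift_singleton_univ.{w₁, w₂} {X Y : Scheme.{u}} (f : X ⟶ Y)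
    (h : HasValLift (PreZeroHypercover.singleton.{w₁} f)) :
    HasValLift (PreZeroHypercover.singleton.{w₂} f) := by
  intro V _ _ g
  obtain ⟨W, hWd, hWv, φ, hφ, _, g', hg'⟩ := h V g
  exact ⟨W, hWd, hWv, φ, hφ, PUnit.unit, g', hg'⟩

end Singleton

end Groth.Agent.Lib.T2H8.ValLift
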