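import Mathlib
import Groth.Prelude.Def_HTop
import Groth.Agent.S7469
import Groth.Agent.S7473

/-!
# The sheaf property for V coverings (helper8)
-/

set_option autoImplicit false
set_option linter.style.haveILetI false

universe w v u

namespace Groth.Agent.Lib.T2H8.VSheaf

open CategoryTheory Limits AlgebraicGeometry Opposite HTop

/-- For a Zariski sheaf, the sheaf property for a presieve on `T` can be checked on the affine opens
of `T`, using sub-sieves of the restricted sieve for which `F` is a sheaf and universally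
separated. -/
theorem isSheafFor_of_affine_local {F : Scheme.{u}ᵒᵖ ⥤ Type w}
    (hF : Presieve.IsSheaf Scheme.zariskiTopology F) {T : Scheme.{u}} (R : Presieve T)
    (h : ∀ U : T.affineOpens, ∃ S : Sieve ((U : T.Opens) : Scheme.{u}),
      S ≤ (Sieve.generate R).pullback (U : T.Opens).ι ∧ Presieve.IsSheafFor F S.arrows ∧
        ∀ (Y : Scheme.{u}) (a : Y ⟶ ((U : T.Opens) : Scheme.{u})) (S' : Sieve Y),
          S.pullback a ≤ S' → Presieve.IsSeparatedFor F S'.arrows) :
    Presieve.IsSheafFor F R := by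
  let 𝒰 : T.OpenCover := T.openCoverOfIsOpenCover (fun U : T.affineOpens => (U : T.Opens))
    (iSup_affineOpens_eq_top T)
  let 𝒪 : Scheme.zariskiTopology.OneHypercover T := Precoverage.ZeroHypercover.toOneHypercover 𝒰
  refine 𝒪.isSheafFor_of_pullback hF (fun U => ?_) (fun U U' k => ?_)
  · obtain ⟨S, hle, hS, hsep⟩ := h U
    exact Presieve.isSheafFor_subsieve_aux F hle hS (fun Y f _ => hsep Y f _ le_rfl)
  · obtain ⟨S, hle, hS, hsep⟩ := h U
    apply hsep _ (𝒪.p₁ k)
    rw [Sieve.pullback_comp]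
    exact Sieve.pullback_monotone _ hle

section Reindex

variable {T : Scheme.{u}}

/-- Reindex a family along a bijection. -/
@[simps]
def reindex (E : PreZeroHypercover.{w} T) {J : Type v} (e : J ≃ E.I₀) : PreZeroHypercover.{v} T where
  I₀ := J
  X j := E.X (e j)
  f j := E.f (e j)

theorem presieve₀_reindex (E : PreZeroHypercover.{w} T) {J : Type v} (e : J ≃ E.I₀) :
    (reindex E e).presieve₀ = E.presieve₀ := by
  apply le_antisymm
  · rintro Y g ⟨j⟩
    exact ⟨e j⟩
  · rintro Y g ⟨i⟩
    obtain ⟨j, rfl⟩ := e.surjective i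
    exact Presieve.ofArrows.mk (ι := J) (Y := fun j => E.X (e j)) (f := fun j => E.f (e j)) j

theorem hasValLift_reindex (E : PreZeroHypercover.{w} T) {J : Type v} (e : J ≃ E.I₀)
    (h : HasValLift E) : HasValLift (reindex E e) := by
  intro V _ _ g
  obtain ⟨W, hWd, hWv, φ, hφ, i, g', hg'⟩ := h V g
  refine ⟨W, hWd, hWv, φ, hφ, e.symm i, ?_⟩
  have hi : e (e.symm i) = i := e.apply_symm_apply i
  show ∃ g'' : Spec W ⟶ E.X (e (e.symm i)), g'' ≫ E.f (e (e.symm i)) = Spec.map φ ≫ g
  rw [hi]
  exact ⟨g', hg'⟩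

theorem isStandardV_reindex (E : PreZeroHypercover.{w} T) {J : Type v} (e : J ≃ E.I₀)
    (h : IsStandardV E) : IsStandardV (reindex E e) where
  isAffine := h.isAffine
  finite_index := by
    haveI := h.finite_index
    exact Finite.of_equiv _ e.symm
  isAffine_obj j := h.isAffine_obj (e j)
  lift := hasValLift_reindex E e h.lift

theorem refinesOver_reindex {U : Scheme.{u}} (g : U ⟶ T) (F : PreZeroHypercover.{w} U)
    {J : Type v} (e : J ≃ F.I₀) (E : PreZeroHypercover.{v} T) (h : RefinesOver g F E) :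
    RefinesOver g (reindex F e) E := fun j => h (e j)

end Reindex

variable {T : Scheme.{u}}

/-- A standard V covering is a V covering. -/
theorem isVCover_of_isStandardV (E : PreZeroHypercover.{w} T) (hE : IsStandardV E) :
    IsVCover E := by
  intro U
  haveI : IsAffine ((U : T.Opens) : Scheme.{u}) := U.2
  have h1 : IsStandardV (E.pullback₁ (U : T.Opens).ι) :=
    Groth.Agent.S7469.result (U : T.Opens).ι E hE
  haveI := h1.finite_index
  let e : Fin (Nat.card (E.pullback₁ (U : T.Opens).ι).I₀) ≃ (E.pullback₁ (U : T.Opens).ι).I₀ :=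
    (Finite.equivFin _).symm
  refine ⟨reindex (E.pullback₁ (U : T.Opens).ι) e, isStandardV_reindex _ e h1, fun j => ?_⟩
  exact ⟨e j, pullback.snd _ _, pullback.condition.symm⟩

/-- Separatedness of a presheaf, which is a Zariski sheaf and separated for standard V coverings,
for every sieve containing a base change of a standard V covering. -/
theorem isSeparatedFor_of_standardV {F : Scheme.{u}ᵒᵖ ⥤ Type w}
    (hF : Presieve.IsSheaf Scheme.zariskiTopology F)
    (hstd : ∀ (T : Scheme.{u}) (E : PreZeroHypercover.{u} T), IsStandardV E →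
      Presieve.IsSheafFor F E.presieve₀)
    {U : Scheme.{u}} (F₀ : PreZeroHypercover.{0} U) (hF₀ : IsStandardV F₀) {Y : Scheme.{u}}
    (a : Y ⟶ U) (S' : Sieve Y) (hle : (Sieve.generate F₀.presieve₀).pullback a ≤ S') :
    Presieve.IsSeparatedFor F S'.arrows := by
  intro x t₁ t₂ h₁ h₂
  have hZ : Sieve.ofArrows Y.affineCover.X Y.affineCover.f ∈
      Scheme.zariskiTopology Y := Scheme.Cover.mem_grothendieckTopology Y.affineCover
  refine (hF.isSeparated _ hZ).ext ?_
  intro Z f hf
  obtain ⟨i, g, rfl⟩ := (Sieve.mem_ofArrows_iff _ _ _).mp hf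
  rw [op_comp, F.map_comp]
  show F.map g.op (F.map (Y.affineCover.f i).op t₁) = F.map g.op (F.map (Y.affineCover.f i).op t₂)
  congr 1
  -- on the affine piece
  let j := Y.affineCover.f i
  have hG : IsStandardV (F₀.pullback₁ (j ≫ a)) := Groth.Agent.S7469.result (j ≫ a) F₀ hF₀
  let G := reindex (F₀.pullback₁ (j ≫ a)) (Equiv.ulift.{u, 0})
  have hG' : IsStandardV G := isStandardV_reindex _ _ hG
  have hsep := (hstd _ G hG').isSeparatedFor
  refine hsep.ext ?_
  rintro Z' f' ⟨k⟩
  have hmem : S'.arrows (G.f k ≫ j) := by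
    apply hle
    show (Sieve.generate F₀.presieve₀).arrows ((G.f k ≫ j) ≫ a)
    refine ⟨_, pullback.snd (j ≫ a) (F₀.f k.down), F₀.f k.down, ⟨k.down⟩, ?_⟩
    rw [Category.assoc]
    exact pullback.condition.symm
  have e₁ := h₁ (G.f k ≫ j) hmem
  have e₂ := h₂ (G.f k ≫ j) hmem
  rw [op_comp, F.map_comp] at e₁ e₂
  exact e₁.trans e₂.symm

/-- A Zariski sheaf with the sheaf property for standard V coverings has the sheaf property for all
V coverings. -/
theorem isVSheaf_of_zariski_of_standardV {F : Scheme.{u}ᵒᵖ ⥤ Type w}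
    (hF : Presieve.IsSheaf Scheme.zariskiTopology F)
    (hstd : ∀ (T : Scheme.{u}) (E : PreZeroHypercover.{u} T), IsStandardV E →
      Presieve.IsSheafFor F E.presieve₀) : IsVSheaf F := by
  intro X R hR
  obtain ⟨E, hE, rfl⟩ := PreZeroHypercoverFamily.mem_precoverage_iff.mp hR
  have hE' : IsVCover E := hE
  apply isSheafFor_of_affine_local hF
  intro U
  obtain ⟨F₀, hF₀, href⟩ := hE' U
  refine ⟨Sieve.generate F₀.presieve₀, ?_, ?_, ?_⟩
  · rw [Sieve.generate_le_iff]
    rintro Y g ⟨j⟩
    obtain ⟨i, h, hh⟩ := href j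
    exact ⟨_, h, E.f i, ⟨i⟩, hh⟩
  · rw [← Presieve.isSheafFor_iff_generate, ← presieve₀_reindex F₀ Equiv.ulift.{u, 0}]
    exact hstd _ _ (isStandardV_reindex _ _ hF₀)
  · intro Y a S' hle
    exact isSeparatedFor_of_standardV hF hstd F₀ hF₀ a S' hle

/-- A presheaf with the sheaf property for V coverings is a Zariski sheaf. -/
theorem isSheaf_zariski_of_isVSheaf {F : Scheme.{u}ᵒᵖ ⥤ Type w} (hF : IsVSheaf F) :
    Presieve.IsSheaf Scheme.zariskiTopology F := by
  rw [Precoverage.isSheaf_toGrothendieck_iff_of_isStableUnderBaseChange]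
  intro X R hR
  apply hF
  obtain ⟨E₀, rfl⟩ := R.exists_eq_preZeroHypercover
  rw [presieve₀_mem_vPrecoverage_iff]
  let 𝒰 : Scheme.Cover (Scheme.precoverage @IsOpenImmersion) X := ⟨E₀, hR⟩
  exact Groth.Agent.S7473.result (𝒰.weaken Scheme.zariskiPrecoverage_le_fpqcPrecoverage)

theorem isVSheaf_iff {F : Scheme.{u}ᵒᵖ ⥤ Type w} :
    IsVSheaf F ↔ (Presieve.IsSheaf Scheme.zariskiTopology F ∧
      ∀ (T : Scheme.{u}) (E : PreZeroHypercover.{u} T), IsStandardV E →
        Presieve.IsSheafFor F E.presieve₀) := by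
  refine ⟨fun h => ⟨isSheaf_zariski_of_isVSheaf h, fun T E hE => ?_⟩,
    fun h => isVSheaf_of_zariski_of_standardV h.1 h.2⟩
  apply h
  rw [presieve₀_mem_vPrecoverage_iff]
  exact isVCover_of_isStandardV E hE

/-- The morphism from the coproduct of the members of a standard V covering is a standard V
covering on its own. -/
theorem isStandardV_singleton_sigmaDesc {T : Scheme.{u}} (E : PreZeroHypercover.{u} T)
    (hE : IsStandardV E) : IsStandardV (PreZeroHypercover.singleton.{w} (Sigma.desc E.f)) := by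
  haveI := hE.finite_index
  haveI := hE.isAffine_obj
  refine ⟨hE.isAffine, inferInstanceAs (Finite PUnit), fun _ => ?_, ?_⟩
  · show IsAffine (∐ E.X)
    infer_instance
  · intro V _ _ g
    obtain ⟨W, hWd, hWv, φ, hφ, j, g', hg'⟩ := hE.lift V g
    refine ⟨W, hWd, hWv, φ, hφ, PUnit.unit, g' ≫ Sigma.ι E.X j, ?_⟩
    show (g' ≫ Sigma.ι E.X j) ≫ Sigma.desc E.f = _
    rw [Category.assoc, Sigma.ι_desc, hg']

/-- For a Zariski sheaf, the sheaf property for a finite family is equivalent to that for the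
morphism from the coproduct. -/
theorem isSheafFor_sigmaDesc_iff {F : Scheme.{u}ᵒᵖ ⥤ Type w}
    (hF : Presieve.IsSheaf Scheme.zariskiTopology F) {T : Scheme.{u}}
    (E : PreZeroHypercover.{u} T) [Finite E.I₀] :
    Presieve.IsSheafFor F (Presieve.singleton (Sigma.desc E.f)) ↔
      Presieve.IsSheafFor F E.presieve₀ := by
  have : PreservesLimitsOfShape (Discrete (E.I₀ × E.I₀)) F :=
    preservesLimitsOfShape_discrete_of_isSheaf_zariskiTopology hF
  have : PreservesLimitsOfShape (Discrete E.I₀) F :=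
    preservesLimitsOfShape_discrete_of_isSheaf_zariskiTopology hF
  rw [PreZeroHypercover.presieve₀, ← Presieve.isSheafFor_sigmaDesc_iff E.f (coproductIsCoproduct _)
    (FinitaryExtensive.isVanKampen_finiteCoproducts (coproductIsCoproduct _)).isUniversal]
  rfl

/-- Variant of `isVSheaf_iff` with one-member standard V coverings. -/
theorem isVSheaf_iff_singleton.{w'} {F : Scheme.{u}ᵒᵖ ⥤ Type w} :
    IsVSheaf F ↔ (Presieve.IsSheaf Scheme.zariskiTopology F ∧
      ∀ (U V : Scheme.{u}) (f : V ⟶ U), IsStandardV (PreZeroHypercover.singleton.{w'} f) →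
        Presieve.IsSheafFor F (Presieve.singleton f)) := by
  constructor
  · intro h
    refine ⟨isSheaf_zariski_of_isVSheaf h, fun U V f hf => ?_⟩
    rw [← PreZeroHypercover.presieve₀_singleton.{_, _, w'} f]
    apply h
    rw [presieve₀_mem_vPrecoverage_iff]
    exact isVCover_of_isStandardV _ hf
  · rintro ⟨hzar, hs⟩
    refine isVSheaf_of_zariski_of_standardV hzar (fun T E hE => ?_)
    haveI := hE.finite_index
    rw [← isSheafFor_sigmaDesc_iff hzar E]
    exact hs _ _ _ (isStandardV_singleton_sigmaDesc E hE)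

section Ph

variable {F : Scheme.{u}ᵒᵖ ⥤ Type w}

/-- Data of a family obtained by restricting a morphism `f : P ⟶ U` to an open cover of `P`. -/
structure PhData {U : Scheme.{u}} (F₀ : PreZeroHypercover.{v} U) where
  P : Scheme.{u}
  f : P ⟶ U
  ι : ∀ j, F₀.X j ⟶ P
  proper : IsProper f
  surj : Surjective f
  open_ι : ∀ j, IsOpenImmersion (ι j)
  fac : ∀ j, ι j ≫ f = F₀.f j
  cover : ∀ x : P, ∃ j, x ∈ Set.range (ι j).base

/-- The open cover of `P` underlying `PhData`. -/
def PhData.openCover {U : Scheme.{u}} {F₀ : PreZeroHypercover.{v} U} (D : PhData F₀) :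
    D.P.OpenCover where
  I₀ := F₀.I₀
  X := F₀.X
  f := D.ι
  mem₀ := by
    rw [Scheme.presieve₀_mem_precoverage_iff]
    exact ⟨D.cover, D.open_ι⟩

/-- The key membership: the pulled back open cover lies in the pulled back sieve. -/
theorem PhData.mem_pullback {U : Scheme.{u}} {F₀ : PreZeroHypercover.{v} U} (D : PhData F₀)
    {Y : Scheme.{u}} (k : Y ⟶ D.P) (j : F₀.I₀) :
    ((Sieve.generate F₀.presieve₀).pullback (k ≫ D.f)).arrows (pullback.fst k (D.ι j)) := by
  show (Sieve.generate F₀.presieve₀).arrows (pullback.fst k (D.ι j) ≫ k ≫ D.f)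
  refine ⟨_, pullback.snd k (D.ι j), F₀.f j, ⟨j⟩, ?_⟩
  rw [← D.fac j, ← Category.assoc, ← pullback.condition, Category.assoc]

/-- The pulled back open cover generates a Zariski covering sieve contained in the pulled back
sieve. -/
theorem PhData.pullback_mem_zariski {U : Scheme.{u}} {F₀ : PreZeroHypercover.{v} U}
    (D : PhData F₀) {Y : Scheme.{u}} (k : Y ⟶ D.P) (S' : Sieve Y)
    (hle : (Sieve.generate F₀.presieve₀).pullback (k ≫ D.f) ≤ S') :
    S' ∈ Scheme.zariskiTopology Y := by
  let 𝒱 : Y.OpenCover := D.openCover.pullback₁ k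
  refine Scheme.zariskiTopology.superset_covering ?_ (Scheme.Cover.mem_grothendieckTopology 𝒱)
  rw [Sieve.ofArrows, Sieve.generate_le_iff]
  rintro Z g ⟨j⟩
  exact hle _ (D.mem_pullback k j)

/-- Separatedness for sieves containing a base change of the family of `PhData`. -/
theorem PhData.isSeparatedFor (hF : Presieve.IsSheaf Scheme.zariskiTopology F)
    (h₂ : ∀ (U V : Scheme.{u}) (f : V ⟶ U), IsProper f → Surjective f →
      Presieve.IsSheafFor F (Presieve.singleton f))
    {U : Scheme.{u}} {F₀ : PreZeroHypercover.{v} U} (D : PhData F₀) {Y : Scheme.{u}}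
    (a : Y ⟶ U) (S' : Sieve Y) (hle : (Sieve.generate F₀.presieve₀).pullback a ≤ S') :
    Presieve.IsSeparatedFor F S'.arrows := by
  haveI := D.proper
  haveI := D.surj
  intro x t₁ t₂ h₁ h₂'
  let p : pullback a D.f ⟶ Y := pullback.fst a D.f
  let k : pullback a D.f ⟶ D.P := pullback.snd a D.f
  have hp := (h₂ _ _ p inferInstance inferInstance).isSeparatedFor
  refine hp.ext ?_
  rintro Z g ⟨⟩
  -- now on `pullback a D.f`
  have hS'' : (Sieve.generate F₀.presieve₀).pullback (k ≫ D.f) ≤ S'.pullback p := by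
    intro Z g hg
    apply hle
    show (Sieve.generate F₀.presieve₀).arrows ((g ≫ p) ≫ a)
    have : (g ≫ p) ≫ a = g ≫ k ≫ D.f := by
      rw [Category.assoc, pullback.condition]
    rw [this]
    exact hg
  have hZ := D.pullback_mem_zariski k (S'.pullback p) hS''
  refine (hF.isSeparated _ hZ).ext ?_
  intro Z g hg
  have e₁ := h₁ (g ≫ p) hg
  have e₂ := h₂' (g ≫ p) hg
  rw [op_comp, F.map_comp] at e₁ e₂
  exact e₁.trans e₂.symm

/-- The sheaf property for the sieve generated by the family of `PhData`. -/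
theorem PhData.isSheafFor (hF : Presieve.IsSheaf Scheme.zariskiTopology F)
    (h₂ : ∀ (U V : Scheme.{u}) (f : V ⟶ U), IsProper f → Surjective f →
      Presieve.IsSheafFor F (Presieve.singleton f))
    {U : Scheme.{u}} {F₀ : PreZeroHypercover.{v} U} (D : PhData F₀) :
    Presieve.IsSheafFor F (Sieve.generate F₀.presieve₀).arrows := by
  haveI := D.proper
  haveI := D.surj
  refine Presieve.isSheafFor_trans F (Sieve.generate (Presieve.singleton D.f)) _ ?_ ?_ ?_
  · rw [← Presieve.isSheafFor_iff_generate]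
    exact h₂ _ _ D.f inferInstance inferInstance
  · intro Y g _ x t₁ t₂ h₁ h₂'
    refine (h₂ _ _ (pullback.fst g D.f) inferInstance inferInstance).isSeparatedFor.ext ?_
    rintro Z q ⟨⟩
    have hmem : ((Sieve.generate (Presieve.singleton D.f)).pullback g).arrows
        (pullback.fst g D.f) := by
      show (Sieve.generate (Presieve.singleton D.f)).arrows (pullback.fst g D.f ≫ g)
      exact ⟨_, pullback.snd g D.f, D.f, ⟨⟩, pullback.condition.symm⟩
    exact (h₁ _ hmem).trans (h₂' _ hmem).symm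
  · intro Y g hg
    obtain ⟨P', k, f', ⟨⟩, rfl⟩ := hg
    exact hF _ (D.pullback_mem_zariski k _ le_rfl)

/-- A Zariski sheaf with the sheaf property for proper surjective morphisms has the sheaf property
for ph coverings. -/
theorem isPhSheaf_of_zariski_of_proper_surjective
    (hF : Presieve.IsSheaf Scheme.zariskiTopology F)
    (h₂ : ∀ (U V : Scheme.{u}) (f : V ⟶ U), IsProper f → Surjective f →
      Presieve.IsSheafFor F (Presieve.singleton f)) : IsPhSheaf F := by
  intro X R hR
  obtain ⟨E, hE, rfl⟩ := PreZeroHypercoverFamily.mem_precoverage_iff.mp hR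
  have hE' : IsPhCover E := hE
  apply isSheafFor_of_affine_local hF
  intro U
  obtain ⟨F₀, hF₀, href⟩ := hE'.2 U
  obtain ⟨P, f, ι, hp, hs, ho, hfac, hcov⟩ := hF₀.exists_proper
  let D : PhData F₀ := ⟨P, f, ι, hp, hs, ho, hfac, hcov⟩
  refine ⟨Sieve.generate F₀.presieve₀, ?_, D.isSheafFor hF h₂, ?_⟩
  · rw [Sieve.generate_le_iff]
    rintro Y g ⟨j⟩
    obtain ⟨i, h, hh⟩ := href j
    exact ⟨_, h, E.f i, ⟨i⟩, hh⟩
  · intro Y a S' hle
    exact D.isSeparatedFor hF h₂ a S' hle

end Ph

end Groth.Agent.Lib.T2H8.VSheaf
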