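import Mathlib
import Groth.Prelude.Def_HTop
import Groth.Prelude.Def_HTop3
import Groth.Agent.Lib.T2H8ValLift
import Groth.Agent.Lib.T2H8VSheaf
import Groth.Agent.Lib.Helper6LfpComp

set_option autoImplicit false
set_option linter.style.haveILetI false

universe w v u u₁ v₁

namespace Groth.Agent.Lib.T2H8.HSquare

open CategoryTheory Limits AlgebraicGeometry Opposite HTop IsLocalRing
open Groth.Agent.Lib.T2H8.ValLift

/-- Valuation-ring lifting along a proper morphism whose image contains the image of the generic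
point, after an extension of valuation rings. -/
theorem exists_lift_of_proper_of_mem_range {T U : Scheme.{u}} (f : U ⟶ T) [IsProper f]
    (V : CommRingCat.{u}) [IsDomain V] [ValuationRing V] (g : Spec V ⟶ T)
    (hη : g.base (⟨⊥, Ideal.isPrime_bot⟩ : PrimeSpectrum V) ∈ Set.range f.base) :
    ∃ (W : CommRingCat.{u}) (_ : IsDomain W) (_ : ValuationRing W) (φ : V ⟶ W),
      IsExtVal V W φ ∧ ∃ g' : Spec W ⟶ U, g' ≫ f = Spec.map φ ≫ g := by
  let η : Spec V := (⟨⊥, Ideal.isPrime_bot⟩ : PrimeSpectrum V)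
  obtain ⟨u₀, hu₀⟩ := hη
  obtain ⟨p, hp, -⟩ := Scheme.Pullback.exists_preimage_pullback (f := g) (g := f) η u₀ hu₀.symm
  let P := pullback g f
  let L := P.residueField p
  let h : Spec L ⟶ Spec V := P.fromSpecResidueField p ≫ pullback.fst g f
  let ψ : V ⟶ L := Spec.preimage h
  have hψ : Spec.map ψ = h := Spec.map_preimage h
  have hinj : Function.Injective ψ.hom := by
    rw [RingHom.injective_iff_ker_eq_bot]
    let x : PrimeSpectrum L := IsLocalRing.closedPoint L
    have hx : x.asIdeal = ⊥ := (Ideal.eq_bot_or_top _).resolve_right x.2.ne_top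
    have h1 : (Spec.map ψ) x = η := by
      rw [hψ]
      show (pullback.fst g f) ((P.fromSpecResidueField p) x) = η
      rw [Scheme.fromSpecResidueField_apply, hp]
    have h2 : ((Spec.map ψ) x : PrimeSpectrum V).asIdeal = ⊥ := by rw [h1]
    have h3 : ((Spec.map ψ) x : PrimeSpectrum V).asIdeal = Ideal.comap ψ.hom x.asIdeal := rfl
    rw [h3, hx] at h2
    exact h2
  obtain ⟨A, hA, hloc⟩ := IsLocalRing.exists_factor_valuationRing ψ.hom
  let W : CommRingCat.{u} := CommRingCat.of A
  let φ : V ⟶ W := CommRingCat.ofHom (ψ.hom.codRestrict A.toSubring hA)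
  have hφψ : φ ≫ CommRingCat.ofHom (algebraMap A L) = ψ := by
    ext x
    rfl
  have hE : ValuativeCriterion.Existence f := by
    have := (inferInstance : UniversallyClosed f)
    rw [UniversallyClosed.eq_valuativeCriterion] at this
    exact this.1
  have w : (P.fromSpecResidueField p ≫ pullback.snd g f) ≫ f =
      Spec.map (CommRingCat.ofHom (algebraMap A L)) ≫ (Spec.map φ ≫ g) := by
    rw [Category.assoc, ← pullback.condition, ← Category.assoc, ← Category.assoc, ← Spec.map_comp,
      hφψ, hψ]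
  let Sq : ValuativeCommSq f :=
    { R := A
      K := L
      i₁ := P.fromSpecResidueField p ≫ pullback.snd g f
      i₂ := Spec.map φ ≫ g
      commSq := ⟨w⟩ }
  obtain ⟨l, -, hl₂⟩ := (hE Sq).exists_lift
  refine ⟨W, inferInstanceAs (IsDomain A), inferInstanceAs (ValuationRing A), φ, ⟨?_, hloc⟩, l, hl₂⟩
  intro a b hab
  apply hinj
  exact congrArg Subtype.val hab

/-- A finite family of quasi-compact morphisms with the valuation-ring lifting property is a
V covering. -/
theorem isVCover_of_hasValLift {T : Scheme.{u}} (E : PreZeroHypercover.{w} T) [Finite E.I₀]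
    (hqc : ∀ i, QuasiCompact (E.f i)) (h : HasValLift E) : IsVCover E := by
  intro U
  have hUaff : IsAffineOpen (U : T.Opens) := U.2
  obtain ⟨n, ⟨e⟩⟩ := Finite.exists_equiv_fin E.I₀
  have hc : ∀ i, ∃ (m : ℕ) (W : Fin m → (E.X i).Opens), (∀ j, IsAffineOpen (W j)) ∧
      (∀ j, W j ≤ E.f i ⁻¹ᵁ (U : T.Opens)) ∧ ∀ x ∈ E.f i ⁻¹ᵁ (U : T.Opens), ∃ j, x ∈ W j :=
    fun i => exists_finite_affine_cover (E.f i ⁻¹ᵁ (U : T.Opens))
      (QuasiCompact.isCompact_preimage (f := E.f i) _ (U : T.Opens).2 hUaff.isCompact)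
  choose m W hWaff hWle hWcov using hc
  let F : PreZeroHypercover.{0} ((U : T.Opens) : Scheme.{u}) :=
    { I₀ := Σ k : Fin n, Fin (m (e.symm k))
      X := fun p => ((W (e.symm p.1) p.2 : (E.X (e.symm p.1)).Opens) : Scheme.{u})
      f := fun p => (E.f (e.symm p.1)).resLE (U : T.Opens) (W (e.symm p.1) p.2) (hWle _ _) }
  refine ⟨F, ⟨hUaff, inferInstanceAs (Finite (Σ k : Fin n, Fin (m (e.symm k)))),
    fun p => hWaff _ _, ?_⟩, ?_⟩
  · intro V _ _ g
    obtain ⟨R, hRd, hRv, φ, hφ, i, g', hg'⟩ := h V (g ≫ (U : T.Opens).ι)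
    obtain ⟨k, rfl⟩ : ∃ k, i = e.symm k := ⟨e i, (e.symm_apply_apply i).symm⟩
    have hmem : g'.base (IsLocalRing.closedPoint R) ∈ E.f (e.symm k) ⁻¹ᵁ (U : T.Opens) := by
      show (E.f (e.symm k)).base (g'.base (IsLocalRing.closedPoint R)) ∈ (U : T.Opens)
      have : (E.f (e.symm k)).base (g'.base (IsLocalRing.closedPoint R)) =
          ((Spec.map φ ≫ g ≫ (U : T.Opens).ι)).base (IsLocalRing.closedPoint R) := by
        rw [← hg']
        rfl
      rw [this]
      exact ((Spec.map φ ≫ g).base (IsLocalRing.closedPoint R)).2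
    obtain ⟨j, hj⟩ := hWcov _ _ hmem
    have hrange : Set.range g'.base ⊆ Set.range ((W (e.symm k) j).ι).base := by
      rw [Scheme.Opens.range_ι]
      exact range_subset_of_closedPoint_mem g' (W (e.symm k) j) hj
    let g₂ : Spec R ⟶ ((W (e.symm k) j : (E.X (e.symm k)).Opens) : Scheme.{u}) :=
      IsOpenImmersion.lift (W (e.symm k) j).ι g' hrange
    have hg₂ : g₂ ≫ (W (e.symm k) j).ι = g' := IsOpenImmersion.lift_fac _ _ _
    refine ⟨R, hRd, hRv, φ, hφ, ⟨k, j⟩, g₂, ?_⟩
    rw [← cancel_mono (U : T.Opens).ι]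
    show (g₂ ≫ (E.f (e.symm k)).resLE (U : T.Opens) (W (e.symm k) j) (hWle _ j)) ≫
      (U : T.Opens).ι = _
    rw [Category.assoc, Scheme.Hom.resLE_comp_ι, ← Category.assoc, hg₂, Category.assoc]
    exact hg'
  · intro p
    refine ⟨e.symm p.1, (W (e.symm p.1) p.2).ι, ?_⟩
    show (W (e.symm p.1) p.2).ι ≫ E.f (e.symm p.1) =
      (E.f (e.symm p.1)).resLE (U : T.Opens) (W (e.symm p.1) p.2) (hWle _ _) ≫ (U : T.Opens).ι
    rw [Scheme.Hom.resLE_comp_ι]

/-- A jointly surjective family of proper morphisms has the valuation-ring lifting property. -/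
theorem hasValLift_of_proper {T : Scheme.{u}} (E : PreZeroHypercover.{w} T)
    (hp : ∀ i, IsProper (E.f i)) (hs : ∀ t : T, ∃ i, t ∈ Set.range (E.f i).base) :
    HasValLift E := by
  intro V _ _ g
  obtain ⟨i, hi⟩ := hs (g.base (⟨⊥, Ideal.isPrime_bot⟩ : PrimeSpectrum V))
  haveI := hp i
  obtain ⟨W, hWd, hWv, φ, hφ, g', hg'⟩ := exists_lift_of_proper_of_mem_range (E.f i) V g hi
  exact ⟨W, hWd, hWv, φ, hφ, i, g', hg'⟩

/-- A finite jointly surjective family of proper morphisms is a V covering. -/
theorem isVCover_of_finite_proper {T : Scheme.{u}} (E : PreZeroHypercover.{w} T) [Finite E.I₀]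
    (hp : ∀ i, IsProper (E.f i)) (hs : ∀ t : T, ∃ i, t ∈ Set.range (E.f i).base) :
    IsVCover E :=
  isVCover_of_hasValLift E (fun i => by haveI := hp i; infer_instance) (hasValLift_of_proper E hp hs)

/-- In an over category, a family generates a covering sieve as soon as the underlying family
does. -/
theorem generate_ofArrows_mem_over {C : Type u₁} [Category.{v₁} C] (J : GrothendieckTopology C)
    {S : C} {Y : Over S} {ι : Type w} (X : ι → Over S) (f : ∀ i, X i ⟶ Y)
    (hf : Sieve.generate (Presieve.ofArrows (fun i => (X i).left) (fun i => (f i).left)) ∈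
      J Y.left) :
    Sieve.generate (Presieve.ofArrows X f) ∈ (J.over S) Y := by
  rw [GrothendieckTopology.mem_over_iff]
  refine J.superset_covering ?_ hf
  rw [Sieve.generate_le_iff]
  rintro Z g ⟨i⟩
  rw [Sieve.overEquiv_iff]
  refine ⟨X i, Over.homMk (𝟙 _) (by simp), f i, Presieve.ofArrows.mk i, ?_⟩
  ext
  simp

/-- An h sheaf on `Over S` satisfies the sheaf condition for every family whose underlying family
of schemes is an h covering. -/
theorem isSheafFor_ofArrows_of_isHCover {S : Scheme.{u}} (F : ShH S) {Y : Over S} {ι : Type w}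
    (X : ι → Over S) (f : ∀ i, X i ⟶ Y)
    (h : IsHCover ({ I₀ := ι, X := fun i => (X i).left, f := fun i => (f i).left } :
      PreZeroHypercover.{w} Y.left)) :
    Presieve.IsSheafFor F.obj (Presieve.ofArrows X f) := by
  refine (Presieve.isSheafFor_iff_generate _).mpr
    ((isSheaf_iff_isSheaf_of_type _ _).mp F.property _ ?_)
  apply generate_ofArrows_mem_over
  exact Precoverage.generate_mem_toGrothendieck ((presieve₀_mem_hPrecoverage_iff _).mpr h)

/-- The two-member family on `Bool`. -/
def pairX {C : Type u₁} (A B : C) : Bool → C := fun b => cond b A B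

/-- The two-member family of arrows on `Bool`. -/
def pairF {C : Type u₁} [Category.{v₁} C] {A B Y : C} (f : A ⟶ Y) (g : B ⟶ Y) :
    ∀ b, pairX A B b ⟶ Y
  | true => f
  | false => g

/-- The two-member family of schemes underlying a two-member family in `Over S`. -/
def pairCover {S : Scheme.{u}} {A B Y : Over S} (f : A ⟶ Y) (g : B ⟶ Y) :
    PreZeroHypercover.{0} Y.left where
  I₀ := Bool
  X := fun b => (pairX A B b).left
  f := fun b => (pairF f g b).left

/-- A two-member jointly surjective family of proper morphisms of finite presentation is an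
h covering (in the form used for `Over S`). -/
theorem isHCover_pair {S : Scheme.{u}} {A B Y : Over S} (f : A ⟶ Y) (g : B ⟶ Y)
    [IsProper f.left] [IsProper g.left]
    [LocallyOfFinitePresentation f.left] [LocallyOfFinitePresentation g.left]
    (hs : ∀ y : Y.left, y ∈ Set.range f.left.base ∨ y ∈ Set.range g.left.base) :
    IsHCover (pairCover f g) := by
  refine ⟨?_, ?_⟩
  · rintro (_ | _)
    · exact (inferInstance : LocallyOfFinitePresentation g.left)
    · exact (inferInstance : LocallyOfFinitePresentation f.left)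
  · haveI : Finite (pairCover f g).I₀ := inferInstanceAs (Finite Bool)
    refine isVCover_of_finite_proper _ ?_ ?_
    · rintro (_ | _)
      · exact (inferInstance : IsProper g.left)
      · exact (inferInstance : IsProper f.left)
    · intro y
      rcases hs y with h | h
      · exact ⟨true, h⟩
      · exact ⟨false, h⟩

/-- An h sheaf satisfies the sheaf condition for a two-member jointly surjective family of proper
morphisms of finite presentation. -/
theorem isSheafFor_pair {S : Scheme.{u}} (F : ShH S) {A B Y : Over S} (f : A ⟶ Y) (g : B ⟶ Y)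
    [IsProper f.left] [IsProper g.left]
    [LocallyOfFinitePresentation f.left] [LocallyOfFinitePresentation g.left]
    (hs : ∀ y : Y.left, y ∈ Set.range f.left.base ∨ y ∈ Set.range g.left.base) :
    Presieve.IsSheafFor F.obj (Presieve.ofArrows (pairX A B) (pairF f g)) :=
  isSheafFor_ofArrows_of_isHCover F _ _ (isHCover_pair f g hs)

/-- Two sections of an h sheaf agree as soon as they agree on the two members of a jointly
surjective family of proper morphisms of finite presentation. -/
theorem ext_of_pair {S : Scheme.{u}} (F : ShH S) {A B Y : Over S} (f : A ⟶ Y) (g : B ⟶ Y)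
    [IsProper f.left] [IsProper g.left]
    [LocallyOfFinitePresentation f.left] [LocallyOfFinitePresentation g.left]
    (hs : ∀ y : Y.left, y ∈ Set.range f.left.base ∨ y ∈ Set.range g.left.base)
    (x₁ x₂ : F.obj.obj (op Y)) (hf : F.obj.map f.op x₁ = F.obj.map f.op x₂)
    (hg : F.obj.map g.op x₁ = F.obj.map g.op x₂) : x₁ = x₂ := by
  refine (isSheafFor_pair F f g hs).isSeparatedFor.ext ?_
  rintro _ _ ⟨b⟩
  cases b
  · exact hg
  · exact hf

/-- Gluing for an h sheaf along a two-member jointly surjective family of proper morphisms of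
finite presentation. -/
theorem exists_unique_of_pair {S : Scheme.{u}} (F : ShH S) {A B Y : Over S} (f : A ⟶ Y) (g : B ⟶ Y)
    [IsProper f.left] [IsProper g.left]
    [LocallyOfFinitePresentation f.left] [LocallyOfFinitePresentation g.left]
    (hs : ∀ y : Y.left, y ∈ Set.range f.left.base ∨ y ∈ Set.range g.left.base)
    (a : F.obj.obj (op A)) (b : F.obj.obj (op B))
    (haa : ∀ (W : Over S) (g₁ g₂ : W ⟶ A), g₁ ≫ f = g₂ ≫ f → F.obj.map g₁.op a = F.obj.map g₂.op a)
    (hab : ∀ (W : Over S) (g₁ : W ⟶ A) (g₂ : W ⟶ B), g₁ ≫ f = g₂ ≫ g →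
      F.obj.map g₁.op a = F.obj.map g₂.op b)
    (hbb : ∀ (W : Over S) (g₁ g₂ : W ⟶ B), g₁ ≫ g = g₂ ≫ g → F.obj.map g₁.op b = F.obj.map g₂.op b) :
    ∃! s : F.obj.obj (op Y), F.obj.map g.op s = b ∧ F.obj.map f.op s = a := by
  have hsh := isSheafFor_pair F f g hs
  rw [Presieve.isSheafFor_arrows_iff] at hsh
  let xx : ∀ c : Bool, F.obj.obj (op (pairX A B c)) := fun c =>
    match c with
    | true => a
    | false => b
  obtain ⟨s, hs1, hs2⟩ := hsh xx (by
    intro c₁ c₂ W g₁ g₂ hg
    cases c₁ <;> cases c₂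
    · exact hbb W g₁ g₂ hg
    · exact (hab W g₂ g₁ hg.symm).symm
    · exact hab W g₁ g₂ hg
    · exact haa W g₁ g₂ hg)
  refine ⟨s, ⟨hs1 false, hs1 true⟩, fun s₂ h₂ => hs2 s₂ ?_⟩
  intro c
  cases c
  · exact h₂.1
  · exact h₂.2

/-- **Abstract blow-up squares and h sheaves.** Let `f : X ⟶ Y` be proper of finite presentation,
`i : Z ⟶ Y` a closed immersion of finite presentation, `E = X ×_Y Z`, and assume that `f` and `i`
are jointly surjective and that `f` is a monomorphism away from `Z`.  Then an h sheaf turns the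
square into a cartesian square of sets of sections. -/
theorem sections_cartesian {S : Scheme.{u}} (F : ShH S)
    {E Z X Y : Over S} (e : E ⟶ X) (π : E ⟶ Z) (f : X ⟶ Y) (i : Z ⟶ Y)
    [IsProper f.left] [LocallyOfFinitePresentation f.left]
    [IsClosedImmersion i.left] [LocallyOfFinitePresentation i.left]
    (hsq : IsPullback e.left π.left f.left i.left)
    (hsurj : ∀ y : Y.left, y ∈ Set.range f.left.base ∨ y ∈ Set.range i.left.base)
    (hmono : ∀ (W : Scheme.{u}) (a b : W ⟶ X.left), a ≫ f.left = b ≫ f.left →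
      (∀ w : W, (a ≫ f.left).base w ∉ Set.range i.left.base) → a = b)
    (t : F.obj.obj (op Z)) (s' : F.obj.obj (op X)) (hts : F.obj.map π.op t = F.obj.map e.op s') :
    ∃! s : F.obj.obj (op Y), F.obj.map i.op s = t ∧ F.obj.map f.op s = s' := by
  have hcomp : ∀ {A B C : Over S} (g : A ⟶ B) (h : B ⟶ C) (x : F.obj.obj (op C)),
      F.obj.map g.op (F.obj.map h.op x) = F.obj.map (g ≫ h).op x := by
    intro A B C g h x
    rw [op_comp, Functor.map_comp_apply]
  haveI : Mono i := by
    haveI : Mono i.left := inferInstance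
    exact Over.mono_of_mono_left i
  -- the fibre product `X ×_Y X` over `S`
  let P : Over S := Over.mk (pullback.fst f.left f.left ≫ X.hom)
  let p₁ : P ⟶ X := Over.homMk (pullback.fst f.left f.left) rfl
  let p₂ : P ⟶ X := Over.homMk (pullback.snd f.left f.left) (by
    show pullback.snd f.left f.left ≫ X.hom = pullback.fst f.left f.left ≫ X.hom
    rw [← Over.w f, ← Category.assoc, ← Category.assoc, pullback.condition])
  let Δ : X ⟶ P := Over.homMk (pullback.diagonal f.left) (by
    show pullback.diagonal f.left ≫ pullback.fst f.left f.left ≫ X.hom = X.hom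
    rw [← Category.assoc, pullback.diagonal_fst, Category.id_comp])
  -- the closed subscheme of `X ×_Y X` over `Z`
  let Q : Over S := Over.mk (pullback.fst (pullback.fst f.left f.left ≫ f.left) i.left ≫ P.hom)
  let j : Q ⟶ P := Over.homMk (pullback.fst (pullback.fst f.left f.left ≫ f.left) i.left) rfl
  have key : F.obj.map p₁.op s' = F.obj.map p₂.op s' := by
    haveI : IsClosedImmersion Δ.left :=
      (inferInstance : IsClosedImmersion (pullback.diagonal f.left))
    haveI : LocallyOfFinitePresentation Δ.left :=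
      Groth.Agent.Lib.Helper6.locallyOfFinitePresentation_diagonal f.left
    haveI : IsClosedImmersion j.left :=
      (inferInstance : IsClosedImmersion
        (pullback.fst (pullback.fst f.left f.left ≫ f.left) i.left))
    haveI : LocallyOfFinitePresentation j.left :=
      (inferInstance : LocallyOfFinitePresentation
        (pullback.fst (pullback.fst f.left f.left ≫ f.left) i.left))
    refine ext_of_pair F Δ j ?_ _ _ ?_ ?_
    · -- joint surjectivity
      intro p
      by_cases hp : (pullback.fst f.left f.left ≫ f.left).base p ∈ Set.range i.left.base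
      · right
        obtain ⟨z, hz⟩ := hp
        obtain ⟨q, hq, -⟩ := Scheme.Pullback.exists_preimage_pullback
          (f := pullback.fst f.left f.left ≫ f.left) (g := i.left) p z hz.symm
        exact ⟨q, hq⟩
      · left
        let O : (pullback f.left f.left).Opens :=
          (pullback.fst f.left f.left ≫ f.left) ⁻¹ᵁ
            ⟨(Set.range i.left.base)ᶜ, i.left.isClosedEmbedding.isClosed_range.isOpen_compl⟩
        have hab : O.ι ≫ pullback.fst f.left f.left = O.ι ≫ pullback.snd f.left f.left := by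
          refine hmono _ _ _ ?_ ?_
          · rw [Category.assoc, Category.assoc, pullback.condition]
          · intro w
            exact w.2
        have hι : O.ι = (O.ι ≫ pullback.fst f.left f.left) ≫ pullback.diagonal f.left := by
          apply pullback.hom_ext
          · rw [Category.assoc, pullback.diagonal_fst, Category.comp_id]
          · rw [Category.assoc, pullback.diagonal_snd, Category.comp_id, hab]
        have hpO : p ∈ O := hp
        refine ⟨(O.ι ≫ pullback.fst f.left f.left).base ⟨p, hpO⟩, ?_⟩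
        show (pullback.diagonal f.left).base ((O.ι ≫ pullback.fst f.left f.left).base ⟨p, hpO⟩) = p
        rw [← Scheme.Hom.comp_apply, ← hι]
        rfl
    · -- agreement on the diagonal
      rw [hcomp, hcomp]
      have h1 : Δ ≫ p₁ = 𝟙 X := by
        ext
        exact pullback.diagonal_fst f.left
      have h2 : Δ ≫ p₂ = 𝟙 X := by
        ext
        exact pullback.diagonal_snd f.left
      rw [h1, h2]
    · -- agreement over `Z`
      rw [hcomp, hcomp]
      have hc1 : (j.left ≫ p₁.left) ≫ f.left =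
          pullback.snd (pullback.fst f.left f.left ≫ f.left) i.left ≫ i.left := by
        rw [Category.assoc]
        exact pullback.condition
      have hc2 : (j.left ≫ p₂.left) ≫ f.left =
          pullback.snd (pullback.fst f.left f.left ≫ f.left) i.left ≫ i.left := by
        rw [← hc1, Category.assoc, Category.assoc]
        congr 1
        exact pullback.condition.symm
      let r : Q ⟶ Z := Over.homMk
        (pullback.snd (pullback.fst f.left f.left ≫ f.left) i.left) (by
          show pullback.snd (pullback.fst f.left f.left ≫ f.left) i.left ≫ Z.hom = Q.hom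
          rw [← Over.w i, ← Category.assoc, ← pullback.condition, Category.assoc, Category.assoc,
            Over.w f]
          rfl)
      let l₁ : Q ⟶ E := Over.homMk (hsq.lift (j.left ≫ p₁.left) _ hc1) (by
        rw [← Over.w e, ← Category.assoc, hsq.lift_fst, Category.assoc, Over.w p₁, Over.w j])
      let l₂ : Q ⟶ E := Over.homMk (hsq.lift (j.left ≫ p₂.left) _ hc2) (by
        rw [← Over.w e, ← Category.assoc, hsq.lift_fst, Category.assoc, Over.w p₂, Over.w j])
      have e1 : j ≫ p₁ = l₁ ≫ e := by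
        ext
        exact (hsq.lift_fst _ _ hc1).symm
      have e2 : j ≫ p₂ = l₂ ≫ e := by
        ext
        exact (hsq.lift_fst _ _ hc2).symm
      have r1 : l₁ ≫ π = r := by
        ext
        exact hsq.lift_snd _ _ hc1
      have r2 : l₂ ≫ π = r := by
        ext
        exact hsq.lift_snd _ _ hc2
      rw [e1, e2, ← hcomp, ← hcomp, ← hts, hcomp, hcomp, r1, r2]
  refine exists_unique_of_pair F f i hsurj s' t ?_ ?_ ?_
  · intro W g₁ g₂ hg
    let q : W ⟶ P := Over.homMk (pullback.lift g₁.left g₂.left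
      (congrArg CommaMorphism.left hg)) (by
        show pullback.lift g₁.left g₂.left _ ≫ pullback.fst f.left f.left ≫ X.hom = W.hom
        rw [← Category.assoc, pullback.lift_fst, Over.w g₁])
    have q1 : q ≫ p₁ = g₁ := by
      ext
      exact pullback.lift_fst _ _ _
    have q2 : q ≫ p₂ = g₂ := by
      ext
      exact pullback.lift_snd _ _ _
    rw [← q1, ← q2, ← hcomp, ← hcomp, key]
  · intro W g₁ g₂ hg
    let l : W ⟶ E := Over.homMk (hsq.lift g₁.left g₂.left (congrArg CommaMorphism.left hg)) (by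
      rw [← Over.w e, ← Category.assoc, hsq.lift_fst, Over.w g₁])
    have l1 : l ≫ e = g₁ := by
      ext
      exact hsq.lift_fst _ _ _
    have l2 : l ≫ π = g₂ := by
      ext
      exact hsq.lift_snd _ _ _
    rw [← l1, ← l2, ← hcomp, ← hcomp, hts]
  · intro W g₁ g₂ hg
    rw [(cancel_mono i).mp hg]

/-- If `f` is a monomorphism over the open `U`, two morphisms into the source which agree after
composing with `f` and land over `U` are equal. -/
theorem eq_of_comp_eq_of_mono_restrict {X Y : Scheme.{u}} (f : X ⟶ Y) (U : Y.Opens)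
    [Mono (f ∣_ U)] {W : Scheme.{u}} (a b : W ⟶ X) (hab : a ≫ f = b ≫ f)
    (hU : ∀ w : W, (a ≫ f).base w ∈ U) : a = b := by
  have ha : Set.range a.base ⊆ Set.range (f ⁻¹ᵁ U).ι.base := by
    rw [Scheme.Opens.range_ι]
    rintro _ ⟨w, rfl⟩
    exact hU w
  have hb : Set.range b.base ⊆ Set.range (f ⁻¹ᵁ U).ι.base := by
    rw [Scheme.Opens.range_ι]
    rintro _ ⟨w, rfl⟩
    have := hU w
    rw [hab] at this
    exact this
  have h : IsOpenImmersion.lift (f ⁻¹ᵁ U).ι a ha ≫ (f ∣_ U) =
      IsOpenImmersion.lift (f ⁻¹ᵁ U).ι b hb ≫ (f ∣_ U) := by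
    rw [← cancel_mono U.ι, Category.assoc, Category.assoc, morphismRestrict_ι, ← Category.assoc,
      ← Category.assoc, IsOpenImmersion.lift_fac, IsOpenImmersion.lift_fac, hab]
  rw [← IsOpenImmersion.lift_fac (f ⁻¹ᵁ U).ι a ha, ← IsOpenImmersion.lift_fac (f ⁻¹ᵁ U).ι b hb,
    (cancel_mono (f ∣_ U)).mp h]

section BlowUp

open Scheme.IdealSheafData

theorem isEffCartierIdeal_top {X : Scheme.{u}} :
    BlowUp.IsEffCartierIdeal (⊤ : X.IdealSheafData) := by
  intro x
  obtain ⟨U, hU, hxU, -⟩ := exists_isAffineOpen_mem_and_subset (x := x) (U := (⊤ : X.Opens)) trivial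
  refine ⟨⟨U, hU⟩, hxU, 1, one_mem _, ?_⟩
  rw [Ideal.span_singleton_one]
  rfl

theorem comap_ι_awayFrom {X : Scheme.{u}} (𝓘 : X.IdealSheafData) :
    𝓘.comap (awayFrom 𝓘).ι = ⊤ := by
  rw [← support_eq_bot_iff]
  ext x
  simp only [support_comap, TopologicalSpace.Closeds.coe_preimage, Set.mem_preimage, SetLike.mem_coe,
    TopologicalSpace.Closeds.coe_bot, Set.mem_empty_iff_false, iff_false]
  exact x.2

/-- A blowing up is an isomorphism over the complement of the centre. -/
theorem isIso_morphismRestrict_of_isBlowUp {X X' : Scheme.{u}} (𝓘 : X.IdealSheafData)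
    (b : X' ⟶ X) (hb : BlowUp.IsBlowUp b 𝓘) : IsIso (b ∣_ awayFrom 𝓘) := by
  set W := awayFrom 𝓘 with hW
  obtain ⟨s, hs, -⟩ := hb.2 W W.ι (by rw [comap_ι_awayFrom]; exact isEffCartierIdeal_top)
  have hrange : Set.range s ⊆ Set.range (b ⁻¹ᵁ W).ι := by
    rintro _ ⟨w, rfl⟩
    rw [Scheme.Opens.range_ι]
    change b (s w) ∈ W
    rw [← Scheme.Hom.comp_apply, hs]
    exact w.2
  let sW : W.toScheme ⟶ (b ⁻¹ᵁ W).toScheme := IsOpenImmersion.lift (b ⁻¹ᵁ W).ι s hrange
  have hsW : sW ≫ (b ⁻¹ᵁ W).ι = s := IsOpenImmersion.lift_fac _ _ _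
  have h1 : sW ≫ (b ∣_ W) = 𝟙 _ := by
    rw [← cancel_mono W.ι, Category.assoc, morphismRestrict_ι, ← Category.assoc, hsW, hs,
      Category.id_comp]
  have h2 : (b ∣_ W) ≫ sW = 𝟙 _ := by
    rw [← cancel_mono (b ⁻¹ᵁ W).ι, Category.assoc, hsW, Category.id_comp]
    have hE : BlowUp.IsEffCartierIdeal (𝓘.comap ((b ∣_ W) ≫ W.ι)) := by
      rw [comap_comp, comap_ι_awayFrom, comap_top]
      exact isEffCartierIdeal_top
    obtain ⟨k, -, hk⟩ := hb.2 _ ((b ∣_ W) ≫ W.ι) hE
    rw [hk ((b ∣_ W) ≫ s) (by change ((b ∣_ W) ≫ s) ≫ b = _; rw [Category.assoc, hs]),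
      hk (b ⁻¹ᵁ W).ι (by change (b ⁻¹ᵁ W).ι ≫ b = _; rw [morphismRestrict_ι])]
  exact ⟨sW, h2, h1⟩

/-- In an almost blow up square, `b` and `i` are jointly surjective and `b` is a monomorphism away
from the centre. -/
theorem surj_and_mono_of_isAlmostBlowUpSquare {E Z X' X : Scheme.{u}} {e : E ⟶ X'} {π : E ⟶ Z}
    {b : X' ⟶ X} {i : Z ⟶ X} (h : IsAlmostBlowUpSquare e π b i) :
    (∀ y : X, y ∈ Set.range b.base ∨ y ∈ Set.range i.base) ∧
    (∀ (W : Scheme.{u}) (a a' : W ⟶ X'), a ≫ b = a' ≫ b →
      (∀ w : W, (a ≫ b).base w ∉ Set.range i.base) → a = a') := by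
  haveI := h.isClosedImmersion
  have hsupp : (i.ker.support : Set X) = Set.range i.base := by
    rw [Scheme.Hom.support_ker]
    exact i.isClosedEmbedding.isClosed_range.closure_eq
  set 𝓔 := i.ker.comap b with h𝓔
  set β := (awayFrom 𝓔).ι.imageι ≫ b with hβ
  have hblow : BlowUp.IsBlowUp β i.ker := h.isBlowUp
  haveI hiso : IsIso (β ∣_ awayFrom i.ker) := isIso_morphismRestrict_of_isBlowUp i.ker β hblow
  have hmem : ∀ y : X, y ∉ Set.range i.base → y ∈ awayFrom i.ker := by
    intro y hy
    show y ∈ ((i.ker.support : Set X))ᶜ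
    rw [hsupp]
    exact hy
  refine ⟨fun y => ?_, fun W a a' haa hw => ?_⟩
  · by_cases hy : y ∈ Set.range i.base
    · exact Or.inr hy
    · left
      have hsurj : Function.Surjective (β ∣_ awayFrom i.ker).base :=
        (ConcreteCategory.bijective_of_isIso (β ∣_ awayFrom i.ker).base).2
      obtain ⟨x, hx⟩ := hsurj ⟨y, hmem y hy⟩
      refine ⟨((awayFrom 𝓔).ι.imageι).base ((β ⁻¹ᵁ awayFrom i.ker).ι.base x), ?_⟩
      have h1 : ((β ⁻¹ᵁ awayFrom i.ker).ι ≫ β).base x = y := by
        have h2 : (β ⁻¹ᵁ awayFrom i.ker).ι ≫ β = (β ∣_ awayFrom i.ker) ≫ (awayFrom i.ker).ι :=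
          (morphismRestrict_ι β _).symm
        rw [h2, Scheme.Hom.comp_apply, hx]
        rfl
      exact h1
  · -- factor `a`, `a'` through the complement of the exceptional locus
    have hO : ∀ (c : W ⟶ X'), (∀ w : W, (c ≫ b).base w ∉ Set.range i.base) →
        Set.range c.base ⊆ Set.range (awayFrom 𝓔).ι.base := by
      intro c hc
      rw [Scheme.Opens.range_ι]
      rintro _ ⟨w, rfl⟩
      show c.base w ∈ ((𝓔.support : Set X'))ᶜ
      rw [h𝓔, support_comap]
      intro hcon
      apply hc w
      rw [← hsupp]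
      exact hcon
    have hw' : ∀ w : W, (a' ≫ b).base w ∉ Set.range i.base := by
      rw [← haa]
      exact hw
    have ha := hO a hw
    have ha' := hO a' hw'
    have hfac : (awayFrom 𝓔).ι.toImage ≫ (awayFrom 𝓔).ι.imageι = (awayFrom 𝓔).ι :=
      (awayFrom 𝓔).ι.toImage_imageι
    have key : IsOpenImmersion.lift (awayFrom 𝓔).ι a ha ≫ (awayFrom 𝓔).ι.toImage =
        IsOpenImmersion.lift (awayFrom 𝓔).ι a' ha' ≫ (awayFrom 𝓔).ι.toImage := by
      refine eq_of_comp_eq_of_mono_restrict β (awayFrom i.ker) _ _ ?_ ?_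
      · rw [hβ, Category.assoc, Category.assoc, ← Category.assoc (awayFrom 𝓔).ι.toImage, hfac,
          ← Category.assoc, ← Category.assoc, IsOpenImmersion.lift_fac, IsOpenImmersion.lift_fac,
          haa]
      · intro w
        apply hmem
        have : (IsOpenImmersion.lift (awayFrom 𝓔).ι a ha ≫ (awayFrom 𝓔).ι.toImage) ≫ β = a ≫ b := by
          rw [hβ, Category.assoc, ← Category.assoc (awayFrom 𝓔).ι.toImage, hfac,
            ← Category.assoc, IsOpenImmersion.lift_fac]
        rw [this]
        exact hw w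
    calc a = IsOpenImmersion.lift (awayFrom 𝓔).ι a ha ≫ (awayFrom 𝓔).ι :=
          (IsOpenImmersion.lift_fac _ _ _).symm
      _ = (IsOpenImmersion.lift (awayFrom 𝓔).ι a ha ≫ (awayFrom 𝓔).ι.toImage) ≫
            (awayFrom 𝓔).ι.imageι := by rw [Category.assoc, hfac]
      _ = (IsOpenImmersion.lift (awayFrom 𝓔).ι a' ha' ≫ (awayFrom 𝓔).ι.toImage) ≫
            (awayFrom 𝓔).ι.imageι := by rw [key]
      _ = IsOpenImmersion.lift (awayFrom 𝓔).ι a' ha' ≫ (awayFrom 𝓔).ι := by
          rw [Category.assoc, hfac]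
      _ = a' := IsOpenImmersion.lift_fac _ _ _

end BlowUp

end Groth.Agent.Lib.T2H8.HSquare
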