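import Mathlib

/-!
# Noetherian approximation of local domains: the algebraic core (helper8)
-/

set_option autoImplicit false
set_option linter.style.haveILetI false
set_option linter.unusedSectionVars false

universe u

namespace Groth.Agent.Lib.T2H8.NoethApprox

open IsLocalRing TensorProduct

section AC1

variable {V D : Type u} [CommRing V] [IsDomain V] [IsLocalRing V] [CommRing D] [Algebra V D]

/-- The multiplicative set `(V \ {0}) · (1 + 𝔪 D)`. -/
def certMonoid (V D : Type u) [CommRing V] [IsDomain V] [IsLocalRing V] [CommRing D]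
    [Algebra V D] : Submonoid D where
  carrier := {d | ∃ c : V, c ≠ 0 ∧ ∃ n ∈ Ideal.map (algebraMap V D) (maximalIdeal V),
    d = algebraMap V D c * (1 + n)}
  one_mem' := ⟨1, one_ne_zero, 0, zero_mem _, by simp⟩
  mul_mem' := by
    rintro _ _ ⟨c₁, hc₁, n₁, hn₁, rfl⟩ ⟨c₂, hc₂, n₂, hn₂, rfl⟩
    refine ⟨c₁ * c₂, mul_ne_zero hc₁ hc₂, n₁ + n₂ + n₁ * n₂, ?_, ?_⟩
    · exact add_mem (add_mem hn₁ hn₂) (Ideal.mul_mem_left _ _ hn₂)
    · rw [map_mul]; ring

/-- Either a specialization of primes of `D` lies over the specialization `(0) ⤳ 𝔪` of `V`, or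
there is a certificate `c (1 + n) = 0` with `c ≠ 0` and `n ∈ 𝔪 D`. -/
theorem exists_primes_or_certificate :
    (∃ q' q : PrimeSpectrum D, q'.asIdeal ≤ q.asIdeal ∧
      q'.asIdeal.comap (algebraMap V D) = ⊥ ∧
      q.asIdeal.comap (algebraMap V D) = maximalIdeal V) ∨
    (∃ c : V, c ≠ 0 ∧ ∃ n ∈ Ideal.map (algebraMap V D) (maximalIdeal V),
      algebraMap V D c * (1 + n) = 0) := by
  by_cases h0 : (0 : D) ∈ certMonoid V D
  · right
    obtain ⟨c, hc, n, hn, h⟩ := h0
    exact ⟨c, hc, n, hn, h.symm⟩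
  left
  have hdisj : Disjoint ((⊥ : Ideal D) : Set D) (certMonoid V D : Set D) := by
    rw [Set.disjoint_left]
    intro d hd hd'
    have : d = 0 := hd
    exact h0 (this ▸ hd')
  obtain ⟨q', hq', -, hq'M⟩ := Ideal.exists_le_prime_disjoint (⊥ : Ideal D) (certMonoid V D) hdisj
  have hq'V : q'.comap (algebraMap V D) = ⊥ := by
    rw [eq_bot_iff]
    intro c hc
    by_contra hne
    have hc0 : c ≠ 0 := hne
    have h1 : algebraMap V D c ∈ (certMonoid V D : Set D) :=
      ⟨c, hc0, 0, zero_mem _, by simp⟩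
    exact Set.disjoint_left.mp hq'M hc h1
  have hne : q' ⊔ Ideal.map (algebraMap V D) (maximalIdeal V) ≠ ⊤ := by
    intro htop
    have h1 : (1 : D) ∈ q' ⊔ Ideal.map (algebraMap V D) (maximalIdeal V) := htop ▸ Submodule.mem_top
    obtain ⟨a, ha, n, hn, han⟩ := Submodule.mem_sup.mp h1
    have h2 : a ∈ (certMonoid V D : Set D) :=
      ⟨1, one_ne_zero, -n, neg_mem hn, by rw [map_one, one_mul, ← han]; ring⟩
    exact Set.disjoint_left.mp hq'M ha h2
  obtain ⟨q, hq, hle⟩ := Ideal.exists_le_maximal _ hne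
  haveI := hq.isPrime
  refine ⟨⟨q', hq'⟩, ⟨q, hq.isPrime⟩, le_sup_left.trans hle, hq'V, ?_⟩
  apply le_antisymm
  · apply IsLocalRing.le_maximalIdeal
    exact Ideal.comap_ne_top _ hq.ne_top
  · intro c hc
    exact hle (Submodule.mem_sup_right (Ideal.mem_map_of_mem _ hc))

end AC1


section Cert

variable {B V C : Type u} [CommRing B] [CommRing V] [IsLocalRing V] [CommRing C]
  [Algebra B V] [Algebra B C]

/-- The ideal `(𝔪 ∩ A₀) (A₀ ⊗ C)`. -/
def mIdeal (C : Type u) [CommRing C] [Algebra B C] (A₀ : Subalgebra B V) : Ideal (A₀ ⊗[B] C) :=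
  Ideal.map (Algebra.TensorProduct.includeLeft : A₀ →ₐ[B] A₀ ⊗[B] C).toRingHom
    ((maximalIdeal V).comap A₀.val.toRingHom)

/-- The certificate over a subalgebra `A₀ ⊆ V`: `c (1 + n) = 0` in `A₀ ⊗ C` with `c ≠ 0` in `A₀` and
`n ∈ (𝔪 ∩ A₀) (A₀ ⊗ C)`. -/
def Cert (C : Type u) [CommRing C] [Algebra B C] (A₀ : Subalgebra B V) : Prop :=
  ∃ c : A₀, c ≠ 0 ∧ ∃ n ∈ mIdeal C A₀, (c ⊗ₜ[B] (1 : C)) * (1 + n) = 0

/-- A certificate over `A₀` is incompatible with a pair of compatible maps from `A₀` and `C` to a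
local domain, the first injective and sending `𝔪 ∩ A₀` into the maximal ideal. -/
theorem Cert.false {A₀ : Subalgebra B V} (h : Cert C A₀) {W : Type u} [CommRing W] [IsDomain W]
    [IsLocalRing W] (α : A₀ →+* W) (γ : C →+* W) (hα : Function.Injective α)
    (hloc : ∀ a : A₀, (a : V) ∈ maximalIdeal V → α a ∈ maximalIdeal W)
    (hcomp : ∀ b : B, γ (algebraMap B C b) = α (algebraMap B A₀ b)) : False := by
  obtain ⟨c, hc, n, hn, hcn⟩ := h
  letI : Algebra B W := (α.comp (algebraMap B A₀)).toAlgebra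
  let α' : A₀ →ₐ[B] W := { α with commutes' := fun b => rfl }
  let γ' : C →ₐ[B] W := { γ with commutes' := fun b => hcomp b }
  let θ : A₀ ⊗[B] C →ₐ[B] W := Algebra.TensorProduct.productMap α' γ'
  have hθ : ∀ a : A₀, θ (a ⊗ₜ[B] (1 : C)) = α a := by
    intro a
    rw [Algebra.TensorProduct.productMap_apply_tmul, map_one, mul_one]
    rfl
  have hθn : θ n ∈ maximalIdeal W := by
    have hle : mIdeal C A₀ ≤ (maximalIdeal W).comap θ.toRingHom := by
      refine Ideal.map_le_iff_le_comap.mpr ?_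
      intro a ha
      show θ (a ⊗ₜ[B] (1 : C)) ∈ maximalIdeal W
      rw [hθ]
      exact hloc a ha
    exact hle hn
  have h2 := congrArg θ hcn
  rw [map_mul, map_zero, hθ, map_add, map_one] at h2
  rcases mul_eq_zero.mp h2 with h3 | h3
  · exact hc (hα (by rw [h3, map_zero]))
  · have h4 : (1 : W) ∈ maximalIdeal W := by
      have : (1 : W) = -θ n := by rw [eq_neg_iff_add_eq_zero]; exact h3
      rw [this]
      exact neg_mem hθn
    exact (Ideal.ne_top_iff_one _).mp (IsLocalRing.maximalIdeal.isMaximal W).ne_top h4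

end Cert


section Transport

variable {B V C : Type u} [CommRing B] [CommRing V] [IsLocalRing V] [CommRing C]
  [Algebra B V] [Algebra B C]

/-- The transition map `A ⊗ C → A' ⊗ C` for `A ≤ A'`. -/
def tmap (C : Type u) [CommRing C] [Algebra B C] {A A' : Subalgebra B V} (h : A ≤ A') :
    A ⊗[B] C →ₐ[B] A' ⊗[B] C :=
  Algebra.TensorProduct.map (Subalgebra.inclusion h) (AlgHom.id B C)

/-- The map `A ⊗ C → V ⊗ C`. -/
def tval (C : Type u) [CommRing C] [Algebra B C] (A : Subalgebra B V) :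
    A ⊗[B] C →ₐ[B] V ⊗[B] C :=
  Algebra.TensorProduct.map A.val (AlgHom.id B C)

@[simp] theorem tmap_tmul {A A' : Subalgebra B V} (h : A ≤ A') (a : A) (c : C) :
    tmap C h (a ⊗ₜ[B] c) = (Subalgebra.inclusion h a) ⊗ₜ[B] c := by
  simp [tmap]

@[simp] theorem tval_tmul (A : Subalgebra B V) (a : A) (c : C) :
    tval C A (a ⊗ₜ[B] c) = (a : V) ⊗ₜ[B] c := by
  simp [tval]

theorem tval_tmap {A A' : Subalgebra B V} (h : A ≤ A') (x : A ⊗[B] C) :
    tval C A' (tmap C h x) = tval C A x := by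
  induction x using TensorProduct.induction_on with
  | zero => simp
  | tmul a c => simp
  | add x y hx hy => rw [map_add, map_add, map_add, hx, hy]

theorem tmap_eq_rTensor {A A' : Subalgebra B V} (h : A ≤ A') (x : A ⊗[B] C) :
    tmap C h x = LinearMap.rTensor C (Subalgebra.inclusion h).toLinearMap x := by
  induction x using TensorProduct.induction_on with
  | zero => simp
  | tmul a c => simp
  | add x y hx hy => rw [map_add, map_add, hx, hy]

theorem tval_eq_rTensor (A : Subalgebra B V) (x : A ⊗[B] C) :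
    tval C A x = LinearMap.rTensor C A.val.toLinearMap x := by
  induction x using TensorProduct.induction_on with
  | zero => simp
  | tmul a c => simp
  | add x y hx hy => rw [map_add, map_add, hx, hy]

theorem tmap_mem {A A' : Subalgebra B V} (h : A ≤ A') {x : A ⊗[B] C} (hx : x ∈ mIdeal C A) :
    tmap C h x ∈ mIdeal C A' := by
  have hle : mIdeal C A ≤ (mIdeal C A').comap (tmap C h).toRingHom := by
    refine Ideal.map_le_iff_le_comap.mpr ?_
    intro a ha
    show tmap C h (a ⊗ₜ[B] (1 : C)) ∈ mIdeal C A'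
    rw [tmap_tmul]
    exact Ideal.mem_map_of_mem
      (Algebra.TensorProduct.includeLeft : A' →ₐ[B] A' ⊗[B] C).toRingHom
      (show Subalgebra.inclusion h a ∈ (maximalIdeal V).comap A'.val.toRingHom from ha)
  exact hle hx

theorem tval_mem {A : Subalgebra B V} {x : A ⊗[B] C} (hx : x ∈ mIdeal C A) :
    tval C A x ∈ Ideal.map (algebraMap V (V ⊗[B] C)) (maximalIdeal V) := by
  have hle : mIdeal C A ≤
      (Ideal.map (algebraMap V (V ⊗[B] C)) (maximalIdeal V)).comap (tval C A).toRingHom := by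
    refine Ideal.map_le_iff_le_comap.mpr ?_
    intro a ha
    show tval C A (a ⊗ₜ[B] (1 : C)) ∈ Ideal.map (algebraMap V (V ⊗[B] C)) (maximalIdeal V)
    rw [tval_tmul]
    exact Ideal.mem_map_of_mem (algebraMap V (V ⊗[B] C)) (show (a : V) ∈ maximalIdeal V from ha)
  exact hle hx

/-- Certificates are inherited by larger subalgebras. -/
theorem Cert.mono {A A' : Subalgebra B V} (h : A ≤ A') (hc : Cert C A) : Cert C A' := by
  obtain ⟨c, hc0, n, hn, hcn⟩ := hc
  refine ⟨Subalgebra.inclusion h c, ?_, tmap C h n, tmap_mem h hn, ?_⟩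
  · intro h0
    apply hc0
    exact Subalgebra.inclusion_injective h (by rw [h0, map_zero])
  · have := congrArg (tmap C h) hcn
    rw [map_mul, map_zero, map_add, map_one, tmap_tmul] at this
    exact this

/-- Elements of `𝔪 (V ⊗ C)` descend to a finitely generated subalgebra. -/
theorem exists_fg_mem_mIdeal {n : V ⊗[B] C}
    (hn : n ∈ Ideal.map (algebraMap V (V ⊗[B] C)) (maximalIdeal V)) :
    ∃ A : Subalgebra B V, A.FG ∧ ∃ n₀ ∈ mIdeal C A, tval C A n₀ = n := by
  unfold Ideal.map at hn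
  induction hn using Submodule.span_induction with
  | mem x hx =>
    obtain ⟨m, hm, rfl⟩ := hx
    refine ⟨Algebra.adjoin B {m},
      (by simpa using Subalgebra.fg_adjoin_finset (R := B) ({m} : Finset V)), ?_⟩
    have hmA : m ∈ Algebra.adjoin B ({m} : Set V) := Algebra.subset_adjoin rfl
    refine ⟨(⟨m, hmA⟩ : Algebra.adjoin B ({m} : Set V)) ⊗ₜ[B] (1 : C),
      Ideal.mem_map_of_mem
        (Algebra.TensorProduct.includeLeft :
          Algebra.adjoin B ({m} : Set V) →ₐ[B] Algebra.adjoin B ({m} : Set V) ⊗[B] C).toRingHom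
        (show (⟨m, hmA⟩ : Algebra.adjoin B ({m} : Set V)) ∈
          (maximalIdeal V).comap (Algebra.adjoin B ({m} : Set V)).val.toRingHom from hm), ?_⟩
    rw [tval_tmul]
    rfl
  | zero => exact ⟨⊥, Subalgebra.fg_bot, 0, zero_mem _, map_zero _⟩
  | add x y _ _ hx hy =>
    obtain ⟨A, hA, x₀, hx₀, rfl⟩ := hx
    obtain ⟨A', hA', y₀, hy₀, rfl⟩ := hy
    refine ⟨A ⊔ A', hA.sup hA', tmap C (le_sup_left : A ≤ A ⊔ A') x₀ +
      tmap C (le_sup_right : A' ≤ A ⊔ A') y₀,
      add_mem (tmap_mem _ hx₀) (tmap_mem _ hy₀), ?_⟩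
    rw [map_add, tval_tmap, tval_tmap]
  | smul d x _ hx =>
    obtain ⟨A, hA, x₀, hx₀, rfl⟩ := hx
    obtain ⟨A', hA', d₀, hd₀⟩ := TensorProduct.Algebra.exists_of_fg d
    refine ⟨A ⊔ A', hA.sup hA', tmap C (le_sup_right : A' ≤ A ⊔ A') d₀ *
      tmap C (le_sup_left : A ≤ A ⊔ A') x₀,
      Ideal.mul_mem_left _ _ (tmap_mem _ hx₀), ?_⟩
    rw [map_mul, tval_tmap, tval_tmap, tval_eq_rTensor A' d₀, hd₀]
    rfl

/-- A certificate over `V` descends to a finitely generated subalgebra. -/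
theorem exists_fg_cert {c : V} (hc : c ≠ 0) {n : V ⊗[B] C}
    (hn : n ∈ Ideal.map (algebraMap V (V ⊗[B] C)) (maximalIdeal V))
    (h : algebraMap V (V ⊗[B] C) c * (1 + n) = 0) :
    ∃ A : Subalgebra B V, A.FG ∧ Cert C A := by
  obtain ⟨A₁, hA₁, n₁, hn₁, rfl⟩ := exists_fg_mem_mIdeal hn
  let A₂ : Subalgebra B V := A₁ ⊔ Algebra.adjoin B {c}
  have hA₂ : A₂.FG := hA₁.sup (by simpa using Subalgebra.fg_adjoin_finset ({c} : Finset V))
  have hcA : c ∈ A₂ := (le_sup_right : Algebra.adjoin B {c} ≤ A₂) (Algebra.subset_adjoin rfl)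
  let c₂ : A₂ := ⟨c, hcA⟩
  let n₂ : A₂ ⊗[B] C := tmap C (le_sup_left : A₁ ≤ A₂) n₁
  have hn₂ : n₂ ∈ mIdeal C A₂ := tmap_mem _ hn₁
  let t : A₂ ⊗[B] C := (c₂ ⊗ₜ[B] (1 : C)) * (1 + n₂)
  have ht : LinearMap.rTensor C A₂.val.toLinearMap t = LinearMap.rTensor C A₂.val.toLinearMap 0 := by
    rw [← tval_eq_rTensor, ← tval_eq_rTensor, map_zero, map_mul, map_add, map_one, tval_tmul,
      tval_tmap]
    exact h
  obtain ⟨A₃, h₂₃, hA₃, h3⟩ := TensorProduct.Algebra.eq_of_fg_of_subtype_eq hA₂ ht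
  refine ⟨A₃, hA₃, Subalgebra.inclusion h₂₃ c₂, ?_, tmap C h₂₃ n₂, tmap_mem _ hn₂, ?_⟩
  · intro h0
    apply hc
    have := congrArg (fun a : A₃ => (a : V)) h0
    exact this
  · rw [← tmap_eq_rTensor, ← tmap_eq_rTensor, map_zero, map_mul, map_add, map_one, tmap_tmul] at h3
    exact h3

end Transport

section Core

/-- **Algebraic core of the Noetherian approximation.** Let `V` be a local domain over `B` and
`C k` finitely many `B`-algebras.  If for every finitely generated `B`-subalgebra `A₀ ⊆ V` some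
`C k` admits a map to a local domain `W`, compatible over `B` with an injective map `A₀ → W`
sending `𝔪 ∩ A₀` into the maximal ideal, then for some `k` there are primes `q' ≤ q` of
`V ⊗ C k` over `(0) ⊆ 𝔪`. -/
theorem exists_primes_of_approx {B V : Type u} [CommRing B] [CommRing V] [IsDomain V]
    [IsLocalRing V] [Algebra B V] {m : ℕ} (C : Fin m → Type u) [∀ k, CommRing (C k)]
    [∀ k, Algebra B (C k)]
    (H : ∀ A₀ : Subalgebra B V, A₀.FG → ∃ (k : Fin m) (W : Type u) (_ : CommRing W)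
      (_ : IsDomain W) (_ : IsLocalRing W) (α : A₀ →+* W) (γ : C k →+* W), Function.Injective α ∧
        (∀ a : A₀, (a : V) ∈ maximalIdeal V → α a ∈ maximalIdeal W) ∧
        ∀ b : B, γ (algebraMap B (C k) b) = α (algebraMap B A₀ b)) :
    ∃ (k : Fin m) (q' q : PrimeSpectrum (V ⊗[B] C k)), q'.asIdeal ≤ q.asIdeal ∧
      q'.asIdeal.comap (algebraMap V (V ⊗[B] C k)) = ⊥ ∧
      q.asIdeal.comap (algebraMap V (V ⊗[B] C k)) = maximalIdeal V := by
  by_contra hno
  have hcert : ∀ k : Fin m, ∃ A : Subalgebra B V, A.FG ∧ Cert (C k) A := by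
    intro k
    rcases exists_primes_or_certificate (V := V) (D := V ⊗[B] C k) with ⟨q', q, h1, h2, h3⟩ | h
    · exact absurd ⟨k, q', q, h1, h2, h3⟩ hno
    · obtain ⟨c, hc, n, hn, hcn⟩ := h
      exact exists_fg_cert hc hn hcn
  choose A hA hC using hcert
  have hfg : (Finset.univ.sup A).FG :=
    Finset.sup_induction Subalgebra.fg_bot (fun a₁ h₁ a₂ h₂ => h₁.sup h₂) (fun k _ => hA k)
  obtain ⟨k, W, _, _, _, α, γ, hα, hloc, hcomp⟩ := H _ hfg
  exact ((hC k).mono (Finset.le_sup (Finset.mem_univ k))).false α γ hα hloc hcomp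

end Core

end Groth.Agent.Lib.T2H8.NoethApprox
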