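import Mathlib
import Groth.Prelude.Def_HTop
import Groth.Agent.Lib.T2H8ValLift
import Groth.Agent.Lib.T2H8NoethApprox

/-!
# Noetherian approximation of valuation rings: the valuation-ring lifting property can be tested
on Noetherian base changes (helper8)
-/

set_option autoImplicit false
set_option linter.style.haveILetI false

universe w v u

namespace Groth.Agent.Lib.T2H8.NoethApprox

open CategoryTheory Limits AlgebraicGeometry Opposite HTop IsLocalRing TensorProduct
open Groth.Agent.Lib.T2H8.ValLift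

/-- From a specialization of primes of `V ⊗ C` over `(0) ⤳ 𝔪` to an extension of valuation rings
`V → W` with a compatible map `C → W`. -/
theorem exists_valuationRing_of_primes {B V C : Type u} [CommRing B] [CommRing V] [IsDomain V]
    [ValuationRing V] [CommRing C] [Algebra B V] [Algebra B C] (q' q : PrimeSpectrum (V ⊗[B] C))
    (hle : q'.asIdeal ≤ q.asIdeal)
    (h1 : q'.asIdeal.comap (algebraMap V (V ⊗[B] C)) = ⊥)
    (h2 : q.asIdeal.comap (algebraMap V (V ⊗[B] C)) = maximalIdeal V) :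
    ∃ (W : CommRingCat.{u}) (_ : IsDomain W) (_ : ValuationRing W) (ψ : V →+* W) (γ : C →+* W),
      Function.Injective ψ ∧ IsLocalHom ψ ∧ ∀ b : B, γ (algebraMap B C b) = ψ (algebraMap B V b) := by
  let D : CommRingCat.{u} := CommRingCat.of (V ⊗[B] C)
  have hspec : q' ⤳ q := (PrimeSpectrum.le_iff_specializes q' q).mp hle
  obtain ⟨W, hWd, hWv, k, hk₀, hk₁⟩ :=
    exists_valuationRing_of_specializes (P := Spec D) (p₁ := q') (p₀ := q) hspec
  let ρ : D ⟶ W := Spec.preimage k
  have hρ : Spec.map ρ = k := Spec.map_preimage k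
  have hq' : Ideal.comap ρ.hom ⊥ = q'.asIdeal := by
    have := congrArg PrimeSpectrum.asIdeal hk₁
    rw [← hρ] at this
    exact this
  have hq : Ideal.comap ρ.hom (maximalIdeal W) = q.asIdeal := by
    have := congrArg PrimeSpectrum.asIdeal hk₀
    rw [← hρ] at this
    exact this
  refine ⟨W, hWd, hWv, ρ.hom.comp (algebraMap V (V ⊗[B] C)),
    ρ.hom.comp (Algebra.TensorProduct.includeRight : C →ₐ[B] V ⊗[B] C).toRingHom, ?_, ?_, ?_⟩
  · rw [RingHom.injective_iff_ker_eq_bot, RingHom.ker_eq_comap_bot, ← Ideal.comap_comap, hq', h1]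
  · constructor
    intro a ha
    by_contra hna
    have h3 : a ∈ maximalIdeal V := (IsLocalRing.mem_maximalIdeal a).mpr hna
    rw [← h2] at h3
    have h4 : algebraMap V (V ⊗[B] C) a ∈ Ideal.comap ρ.hom (maximalIdeal W) := by
      rw [hq]
      exact h3
    exact (IsLocalRing.mem_maximalIdeal _).mp h4 ha
  · intro b
    show ρ.hom ((1 : V) ⊗ₜ[B] algebraMap B C b) = ρ.hom (algebraMap B V b ⊗ₜ[B] (1 : C))
    congr 1
    rw [Algebra.algebraMap_eq_smul_one, Algebra.algebraMap_eq_smul_one, TensorProduct.tmul_smul,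
      TensorProduct.smul_tmul']

/-- **Noetherian approximation.** For a quasi-compact morphism to a locally Noetherian scheme, the
valuation-ring lifting property follows from the lifting of specializations along the base changes
to spectra of Noetherian rings. -/
theorem hasValLift_of_specializes_lift_noetherian {X S : Scheme.{u}} (f : X ⟶ S) [QuasiCompact f]
    [IsLocallyNoetherian S]
    (H : ∀ (A₀ : CommRingCat.{u}) [IsNoetherianRing A₀] (g : Spec A₀ ⟶ S) (z' z : Spec A₀),
      z' ⤳ z → ∃ w' w : ↑(pullback g f), w' ⤳ w ∧ (pullback.fst g f).base w' = z' ∧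
        (pullback.fst g f).base w = z) :
    HasValLift (PreZeroHypercover.singleton.{w} f) := by
  intro V _ _ g
  obtain ⟨Sp, hSp, hmem⟩ : ∃ Sp : S.Opens, IsAffineOpen Sp ∧
      g.base (IsLocalRing.closedPoint V) ∈ Sp := by
    obtain ⟨_, ⟨U, hU, rfl⟩, htU, -⟩ := (S.isBasis_affineOpens).exists_subset_of_mem_open
      (Set.mem_univ (g.base (IsLocalRing.closedPoint V))) isOpen_univ
    exact ⟨U, hU, htU⟩
  have hrange : Set.range g.base ⊆ Set.range hSp.fromSpec.base := by
    rw [hSp.range_fromSpec]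
    exact range_subset_of_closedPoint_mem g Sp hmem
  let g₀ : Spec V ⟶ Spec Γ(S, Sp) := IsOpenImmersion.lift hSp.fromSpec g hrange
  have hg₀ : g₀ ≫ hSp.fromSpec = g := IsOpenImmersion.lift_fac _ _ _
  let φ : Γ(S, Sp) ⟶ V := Spec.preimage g₀
  have hφ : Spec.map φ = g₀ := Spec.map_preimage _
  obtain ⟨m, Wc, hWaff, hWle, hWcov⟩ := exists_finite_affine_cover (f ⁻¹ᵁ Sp)
    (QuasiCompact.isCompact_preimage (f := f) _ Sp.2 hSp.isCompact)
  letI : Algebra Γ(S, Sp) V := φ.hom.toAlgebra
  letI : ∀ k, Algebra Γ(S, Sp) Γ(X, Wc k) := fun k => (f.appLE Sp (Wc k) (hWle k)).hom.toAlgebra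
  haveI : IsNoetherianRing Γ(S, Sp) := IsLocallyNoetherian.component_noetherian ⟨Sp, hSp⟩
  have Hcore : ∀ A₀ : Subalgebra Γ(S, Sp) V, A₀.FG → ∃ (k : Fin m) (W : Type u) (_ : CommRing W)
      (_ : IsDomain W) (_ : IsLocalRing W) (α : A₀ →+* W) (γ : Γ(X, Wc k) →+* W),
      Function.Injective α ∧ (∀ a : A₀, (a : V) ∈ maximalIdeal V → α a ∈ maximalIdeal W) ∧
        ∀ b : Γ(S, Sp), γ (algebraMap Γ(S, Sp) Γ(X, Wc k) b) = α (algebraMap Γ(S, Sp) A₀ b) := by
    intro A₀ hfg
    haveI : Algebra.FiniteType Γ(S, Sp) A₀ := (Subalgebra.fg_iff_finiteType A₀).mp hfg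
    haveI : IsNoetherianRing A₀ := Algebra.FiniteType.isNoetherianRing Γ(S, Sp) A₀
    let A₀c : CommRingCat.{u} := CommRingCat.of A₀
    let ι₀ : Γ(S, Sp) ⟶ A₀c := CommRingCat.ofHom (algebraMap Γ(S, Sp) A₀)
    let gZ : Spec A₀c ⟶ S := Spec.map ι₀ ≫ hSp.fromSpec
    let z' : PrimeSpectrum A₀ := ⟨⊥, Ideal.isPrime_bot⟩
    let z : PrimeSpectrum A₀ := ⟨(maximalIdeal V).comap A₀.val.toRingHom, inferInstance⟩
    have hzz : z' ⤳ z := (PrimeSpectrum.le_iff_specializes z' z).mp bot_le
    obtain ⟨w', w, hw, hw', hw0⟩ := H A₀c gZ z' z hzz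
    obtain ⟨W, hWd, hWv, r, hr₀, hr₁⟩ := exists_valuationRing_of_specializes hw
    let α : A₀c ⟶ W := Spec.preimage (r ≫ pullback.fst gZ f)
    have hα : Spec.map α = r ≫ pullback.fst gZ f := Spec.map_preimage _
    have hmemX : (r ≫ pullback.snd gZ f).base (IsLocalRing.closedPoint W) ∈ f ⁻¹ᵁ Sp := by
      show f.base ((r ≫ pullback.snd gZ f).base (IsLocalRing.closedPoint W)) ∈ Sp
      rw [← Scheme.Hom.comp_apply, Category.assoc, ← pullback.condition]
      have : ((r ≫ pullback.fst gZ f ≫ gZ)).base (IsLocalRing.closedPoint W) ∈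
          Set.range hSp.fromSpec.base :=
        ⟨(r ≫ pullback.fst gZ f ≫ Spec.map ι₀).base (IsLocalRing.closedPoint W), rfl⟩
      rw [hSp.range_fromSpec] at this
      exact this
    obtain ⟨k, hk⟩ := hWcov _ hmemX
    obtain ⟨l, hl⟩ := exists_lift_of_closedPoint_mem_range (hWaff k).fromSpec
      (r ≫ pullback.snd gZ f) (by rw [(hWaff k).range_fromSpec]; exact hk)
    let γ : Γ(X, Wc k) ⟶ W := Spec.preimage l
    have hγ : Spec.map γ = l := Spec.map_preimage _
    refine ⟨k, W, inferInstance, hWd, inferInstance, α.hom, γ.hom, ?_, ?_, ?_⟩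
    · rw [RingHom.injective_iff_ker_eq_bot]
      have h1 : (Spec.map α).base (⟨⊥, Ideal.isPrime_bot⟩ : PrimeSpectrum W) = z' := by
        rw [hα]
        show (pullback.fst gZ f).base (r.base _) = z'
        rw [hr₁, hw']
      exact congrArg PrimeSpectrum.asIdeal h1
    · intro a ha
      have h1 : (Spec.map α).base (IsLocalRing.closedPoint W) = z := by
        rw [hα]
        show (pullback.fst gZ f).base (r.base _) = z
        rw [hr₀, hw0]
      have h2 : Ideal.comap α.hom (maximalIdeal W) = (maximalIdeal V).comap A₀.val.toRingHom :=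
        congrArg PrimeSpectrum.asIdeal h1
      have h3 : a ∈ Ideal.comap α.hom (maximalIdeal W) := by
        rw [h2]
        exact ha
      exact h3
    · have hring : f.appLE Sp (Wc k) (hWle k) ≫ γ = ι₀ ≫ α := by
        apply Spec.map_injective
        rw [← cancel_mono hSp.fromSpec, Spec.map_comp, Spec.map_comp, Category.assoc, Category.assoc,
          IsAffineOpen.SpecMap_appLE_fromSpec f hSp (hWaff k) (hWle k), hγ, ← Category.assoc, hl, hα,
          Category.assoc, Category.assoc, pullback.condition]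
      intro b
      exact congrArg (fun h => h.hom b) hring
  obtain ⟨k, q', q, hq, hq', hqm⟩ := exists_primes_of_approx (B := Γ(S, Sp)) (V := V)
    (fun k => Γ(X, Wc k)) Hcore
  obtain ⟨W, hWd, hWv, ψ, γ, hinj, hloc, hcomp⟩ := exists_valuationRing_of_primes q' q hq hq' hqm
  refine ⟨W, hWd, hWv, CommRingCat.ofHom ψ, ⟨hinj, hloc⟩, PUnit.unit,
    Spec.map (CommRingCat.ofHom γ) ≫ (hWaff k).fromSpec, ?_⟩
  show (Spec.map (CommRingCat.ofHom γ) ≫ (hWaff k).fromSpec) ≫ f =
    Spec.map (CommRingCat.ofHom ψ) ≫ g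
  have hring : f.appLE Sp (Wc k) (hWle k) ≫ CommRingCat.ofHom γ = φ ≫ CommRingCat.ofHom ψ := by
    ext b
    exact hcomp b
  rw [Category.assoc, ← IsAffineOpen.SpecMap_appLE_fromSpec f hSp (hWaff k) (hWle k), ← hg₀, ← hφ,
    ← Category.assoc, ← Category.assoc, ← Spec.map_comp, ← Spec.map_comp, hring]

end Groth.Agent.Lib.T2H8.NoethApprox
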