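import Mathlib
import Groth.Prelude.Def_HTop
import Groth.Prelude.Def_SGA1
import Groth.Agent.Lib.Helper4DVRSch

/-!
# Universally submersive morphisms of finite type over Noetherian schemes lift specializations
(helper8)
-/

set_option autoImplicit false
set_option linter.style.haveILetI false

universe w w' v u

namespace Groth.Agent.Lib.T2H8.SubmLift

open CategoryTheory Limits AlgebraicGeometry Opposite IsLocalRing

/-- The spectrum of a discrete valuation ring has exactly two points. -/
theorem eq_bot_or_eq_closedPoint_of_dvr {R : Type u} [CommRing R] [IsDomain R]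
    [IsDiscreteValuationRing R] (p : PrimeSpectrum R) :
    p = ⟨⊥, Ideal.isPrime_bot⟩ ∨ p = IsLocalRing.closedPoint R := by
  by_cases h : p.asIdeal = ⊥
  · left
    exact PrimeSpectrum.ext h
  · right
    apply PrimeSpectrum.ext
    have : p.asIdeal.IsMaximal := Ring.DimensionLEOne.maximalOfPrime h p.2
    exact IsLocalRing.eq_maximalIdeal this

/-- A submersive morphism to the spectrum of a discrete valuation ring `V ⊆ K` whose generic fibre
is locally Noetherian: some point of the closed fibre is a specialization of a point of the generic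
fibre. -/
theorem exists_specializes_over_dvr {K : Type u} [Field K] (V : ValuationSubring K)
    [IsDiscreteValuationRing V] {P : Scheme.{u}} (p : P ⟶ Spec (CommRingCat.of V))
    [LocallyOfFiniteType p] (hp : Topology.IsQuotientMap p.base) :
    ∃ ξ u : P, ξ ⤳ u ∧ p.base ξ = (⟨⊥, Ideal.isPrime_bot⟩ : PrimeSpectrum V) ∧
      p.base u = IsLocalRing.closedPoint V := by
  let o : PrimeSpectrum V := ⟨⊥, Ideal.isPrime_bot⟩
  let s : PrimeSpectrum V := IsLocalRing.closedPoint V
  have hos : o ≠ s := by
    intro h
    have h1 : (⊥ : Ideal V) = IsLocalRing.maximalIdeal V := congrArg PrimeSpectrum.asIdeal h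
    exact IsDiscreteValuationRing.not_a_field V h1.symm
  let j : Spec (CommRingCat.of K) ⟶ Spec (CommRingCat.of V) :=
    Spec.map (CommRingCat.ofHom V.subtype)
  have hj : Set.range j.base = {o} := by
    ext q
    simp only [Set.mem_range]
    constructor
    · rintro ⟨z, rfl⟩
      apply PrimeSpectrum.ext
      show Ideal.comap V.subtype z.asIdeal = ⊥
      have hz : z.asIdeal = ⊥ := (Ideal.eq_bot_or_top _).resolve_right z.2.ne_top
      rw [hz]
      exact (RingHom.injective_iff_ker_eq_bot _).mp V.subtype_injective
    · rintro rfl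
      refine ⟨IsLocalRing.closedPoint K, ?_⟩
      apply PrimeSpectrum.ext
      show Ideal.comap V.subtype (IsLocalRing.closedPoint K).asIdeal = ⊥
      have hz : (IsLocalRing.closedPoint K).asIdeal = ⊥ :=
        (Ideal.eq_bot_or_top _).resolve_right (IsLocalRing.closedPoint K).2.ne_top
      rw [hz]
      exact (RingHom.injective_iff_ker_eq_bot _).mp V.subtype_injective
  -- the generic fibre
  let PK := pullback p j
  let i : PK ⟶ P := pullback.fst p j
  have hi : Set.range i.base = p.base ⁻¹' {o} := by
    rw [← hj]
    exact Scheme.Pullback.range_fst p j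
  haveI : IsLocallyNoetherian PK :=
    LocallyOfFiniteType.isLocallyNoetherian (pullback.snd p j)
  -- the generic fibre is not closed
  have hnc : ¬ IsClosed (p.base ⁻¹' {o}) := by
    intro hcl
    have : IsClosed ({o} : Set (PrimeSpectrum V)) := hp.isClosed_preimage.mp hcl
    have hso : s ∈ ({o} : Set (PrimeSpectrum V)) :=
      this.stableUnderSpecialization (IsLocalRing.specializes_closedPoint o) rfl
    exact hos hso.symm
  have : ∃ y ∈ closure (Set.range i.base), y ∉ Set.range i.base := by
    by_contra hcon
    push Not at hcon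
    apply hnc
    rw [← hi]
    exact closure_subset_iff_isClosed.mp hcon
  obtain ⟨y, hy, hy'⟩ := this
  obtain ⟨v, hv⟩ := Groth.Agent.Lib.Helper4.DVRSch.exists_specializes_of_mem_closure_range i hy
  refine ⟨i.base v, y, hv, ?_, ?_⟩
  · have : i.base v ∈ p.base ⁻¹' {o} := hi ▸ ⟨v, rfl⟩
    exact this
  · rcases eq_bot_or_eq_closedPoint_of_dvr (p.base y) with h | h
    · exfalso
      apply hy'
      rw [hi]
      exact h
    · exact h

/-- Universally submersive morphisms locally of finite type over a locally Noetherian base lift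
specializations. -/
theorem exists_specializes_lift {Y X : Scheme.{u}} [IsLocallyNoetherian X] (f : Y ⟶ X)
    [LocallyOfFiniteType f] (hf : SGA1.UnivSubmersive f) {η x : X} (h : η ⤳ x) :
    ∃ ξ u : Y, ξ ⤳ u ∧ f.base ξ = η ∧ f.base u = x := by
  have hsurj : Function.Surjective f.base := (hf (𝟙 Y) (𝟙 X) f (IsPullback.id_vert f)).surjective
  by_cases hne : η = x
  · subst hne
    obtain ⟨u, hu⟩ := hsurj η
    exact ⟨u, u, specializes_rfl, hu, hu⟩
  obtain ⟨V, hV, g, hg₁, hg₀⟩ := Groth.Agent.Lib.Helper4.DVRSch.exists_dvr_hom h hne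
    (L := X.residueField η) (𝟙 (X.residueField η)) (RingHom.FiniteType.id _).essFiniteType
  haveI := hV
  have hq := hf (pullback.snd g f) g (pullback.fst g f) (IsPullback.of_hasPullback g f)
  obtain ⟨ξ, u, hξu, hξ, hu⟩ := exists_specializes_over_dvr V (pullback.fst g f) hq
  refine ⟨(pullback.snd g f).base ξ, (pullback.snd g f).base u,
    hξu.map (pullback.snd g f).continuous, ?_, ?_⟩
  · show (pullback.snd g f ≫ f).base ξ = η
    rw [← pullback.condition]
    show g.base ((pullback.fst g f).base ξ) = η
    rw [hξ]
    have h1 : (Spec.map (CommRingCat.ofHom V.subtype)).base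
        (IsLocalRing.closedPoint (X.residueField η)) =
        (⟨⊥, Ideal.isPrime_bot⟩ : PrimeSpectrum V) := by
      apply PrimeSpectrum.ext
      show Ideal.comap V.subtype (IsLocalRing.closedPoint (X.residueField η)).asIdeal = ⊥
      have hz : (IsLocalRing.closedPoint (X.residueField η)).asIdeal = ⊥ :=
        (Ideal.eq_bot_or_top _).resolve_right (IsLocalRing.closedPoint _).2.ne_top
      rw [hz]
      exact (RingHom.injective_iff_ker_eq_bot _).mp V.subtype_injective
    rw [← h1]
    show (Spec.map (CommRingCat.ofHom V.subtype) ≫ g).base _ = η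
    have hg₂ : Spec.map (CommRingCat.ofHom V.subtype) ≫ g = X.fromSpecResidueField η := by
      rw [hg₁, Spec.map_id]
      exact Category.id_comp _
    rw [hg₂]
    exact Scheme.fromSpecResidueField_apply _ _
  · show (pullback.snd g f ≫ f).base u = x
    rw [← pullback.condition]
    show g.base ((pullback.fst g f).base u) = x
    rw [hu]
    exact hg₀

/-- For a universally submersive family of morphisms locally of finite type over a locally
Noetherian scheme, every point is the image of a point with a generization lying over a maximal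
point of the base. -/
theorem exists_specializes_over_maximal_point {X : Scheme.{u}} [IsLocallyNoetherian X]
    (E : PreZeroHypercover.{u} X) [∀ i, LocallyOfFiniteType (E.f i)]
    (hE : SGA1.UnivSubmersive (Sigma.desc E.f)) (x : X) :
    ∃ (i : E.I₀) (ξ u : E.X i), ξ ⤳ u ∧ (E.f i).base u = x ∧
      closure {(E.f i).base ξ} ∈ irreducibleComponents ↥X := by
  obtain ⟨η, hη⟩ := QuasiSober.sober (isIrreducible_irreducibleComponent (x := x))
    isClosed_irreducibleComponent
  have hηx : η ⤳ x := specializes_iff_mem_closure.mpr (hη.def ▸ mem_irreducibleComponent)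
  haveI : LocallyOfFiniteType (Sigma.desc E.f) :=
    IsZariskiLocalAtSource.sigmaDesc (fun i => inferInstance)
  obtain ⟨ξ', u', h', hξ', hu'⟩ := exists_specializes_lift (Sigma.desc E.f) hE hηx
  obtain ⟨i, u, rfl⟩ := (sigmaOpenCover E.X).exists_eq u'
  have hmem : ξ' ∈ (Sigma.ι E.X i).opensRange :=
    h'.mem_open (Sigma.ι E.X i).opensRange.2 ⟨u, rfl⟩
  obtain ⟨ξ, rfl⟩ := hmem
  refine ⟨i, ξ, u, ?_, ?_, ?_⟩
  · exact ((Sigma.ι E.X i).isOpenEmbedding.isInducing.specializes_iff).mp h'
  · rw [← hu']
    show _ = (Sigma.ι E.X i ≫ Sigma.desc E.f).base u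
    rw [Sigma.ι_desc]
  · have h1 : (E.f i).base ξ = η := by
      rw [← hξ']
      show _ = (Sigma.ι E.X i ≫ Sigma.desc E.f).base ξ
      rw [Sigma.ι_desc]
    rw [h1, hη.def]
    exact irreducibleComponent_mem_irreducibleComponents x

end Groth.Agent.Lib.T2H8.SubmLift
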