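import Mathlib
import Groth.Prelude.Def_HTop
import Groth.Prelude.Def_SGA1
import Groth.Agent.Lib.T2H8ValLift
import Groth.Agent.Lib.Helper10VCover

/-!
# V coverings are universally submersive (helper8)
-/

set_option autoImplicit false
set_option linter.style.haveILetI false

universe w w' v u

namespace Groth.Agent.Lib.T2H8.VSubm

open CategoryTheory Limits AlgebraicGeometry Opposite HTop IsLocalRing

/-- A point in the closure of the image of a closed subset under `Spec` of a ring map is a
specialization of a point of that image. -/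
theorem exists_specializes_of_mem_closure_image_comap {R S : Type*} [CommRing R] [CommRing S]
    (f : R →+* S) (C : Set (PrimeSpectrum S)) (hC : IsClosed C) (p : PrimeSpectrum R)
    (hp : p ∈ closure (PrimeSpectrum.comap f '' C)) :
    ∃ q ∈ C, PrimeSpectrum.comap f q ⤳ p := by
  obtain ⟨I, rfl⟩ := (PrimeSpectrum.isClosed_iff_zeroLocus_ideal C).mp hC
  rw [PrimeSpectrum.closure_image_comap_zeroLocus] at hp
  obtain ⟨q, hqI, hq, hqle⟩ := p.asIdeal.exists_ideal_comap_le_prime I hp
  exact ⟨⟨q, hq⟩, hqI, (PrimeSpectrum.le_iff_specializes ⟨q.comap f, inferInstance⟩ p).mp hqle⟩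

/-- A point in the closure of the image of a closed subset under a morphism of affine schemes is a
specialization of a point of that image. -/
theorem exists_specializes_of_mem_closure_image {Y U : Scheme.{u}} [IsAffine Y] [IsAffine U]
    (g : Y ⟶ U) (C : Set Y) (hC : IsClosed C) (p : U) (hp : p ∈ closure (g.base '' C)) :
    ∃ y ∈ C, g.base y ⤳ p := by
  let a := Y.isoSpec.hom
  let b := U.isoSpec.hom
  have hnat : g ≫ b = a ≫ Spec.map g.appTop := (Scheme.isoSpec_hom_naturality g).symm ▸ rfl
  have hbp : b.base p ∈ closure ((Spec.map g.appTop).base '' (a.base '' C)) := by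
    have h1 : b.base p ∈ b.base '' closure (g.base '' C) := ⟨p, hp, rfl⟩
    have h2 := image_closure_subset_closure_image b.continuous h1
    have h3 : b.base '' (g.base '' C) = (Spec.map g.appTop).base '' (a.base '' C) := by
      rw [Set.image_image, Set.image_image]
      congr 1
      ext y
      show (g ≫ b).base y = (a ≫ Spec.map g.appTop).base y
      rw [hnat]
    rwa [h3] at h2
  have haC : IsClosed (a.base '' C) := a.homeomorph.isClosedMap _ hC
  obtain ⟨q, ⟨y, hy, rfl⟩, hq⟩ := exists_specializes_of_mem_closure_image_comap g.appTop.hom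
    (a.base '' C) haC (b.base p) hbp
  refine ⟨y, hy, ?_⟩
  have h4 : (Spec.map g.appTop).base (a.base y) = b.base (g.base y) := by
    show (a ≫ Spec.map g.appTop).base y = (g ≫ b).base y
    rw [hnat]
  have h5 : b.base (g.base y) ⤳ b.base p := h4 ▸ hq
  exact (b.homeomorph.isInducing.specializes_iff).mp h5

/-- A subset of an affine scheme which is stable under specialization, is covered by the images of
a finite family of morphisms from affine schemes, and whose preimages under these morphisms are
closed, is closed. -/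
theorem isClosed_of_finite_affine_family {U : Scheme.{u}} [IsAffine U] {ι : Type*} [Finite ι]
    (Y : ι → Scheme.{u}) [∀ j, IsAffine (Y j)] (g : ∀ j, Y j ⟶ U) (S : Set U)
    (hS : StableUnderSpecialization S) (hcl : ∀ j, IsClosed ((g j).base ⁻¹' S))
    (hcov : ∀ s ∈ S, ∃ j, s ∈ Set.range (g j).base) : IsClosed S := by
  have hSeq : S = ⋃ j, (g j).base '' ((g j).base ⁻¹' S) := by
    ext s
    simp only [Set.mem_iUnion, Set.mem_image, Set.mem_preimage]
    constructor
    · intro hs
      obtain ⟨j, y, rfl⟩ := hcov s hs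
      exact ⟨j, y, hs, rfl⟩
    · rintro ⟨j, y, hy, rfl⟩
      exact hy
  rw [← closure_subset_iff_isClosed]
  intro p hp
  rw [hSeq, closure_iUnion_of_finite] at hp
  obtain ⟨j, hpj⟩ := Set.mem_iUnion.mp hp
  obtain ⟨y, hy, hyp⟩ := exists_specializes_of_mem_closure_image (g j) _ (hcl j) p hpj
  exact hS hyp hy

/-- If a V covering refines a family, the family is a V covering. -/
theorem isVCover_of_refines {T : Scheme.{u}} (E : PreZeroHypercover.{w} T)
    (G : PreZeroHypercover.{w'} T) (hE : IsVCover E)
    (h : ∀ i : E.I₀, ∃ (k : G.I₀) (c : E.X i ⟶ G.X k), c ≫ G.f k = E.f i) : IsVCover G := by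
  intro U
  obtain ⟨F, hF, href⟩ := hE U
  refine ⟨F, hF, fun j => ?_⟩
  obtain ⟨i, l, hl⟩ := href j
  obtain ⟨k, c, hc⟩ := h i
  exact ⟨k, l ≫ c, by rw [Category.assoc, hc, hl]⟩

/-- A morphism whose one-member family is a V covering is surjective. -/
theorem surjective_of_hasValLift_singleton {P T : Scheme.{u}} (f : P ⟶ T)
    (h : HasValLift (PreZeroHypercover.singleton.{w} f)) : Function.Surjective f.base := by
  intro t
  obtain ⟨w', w₀, -, -, h₀⟩ := ValLift.specializes_lift_of_hasValLift f h T (𝟙 T) t t specializes_rfl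
  refine ⟨(pullback.snd (𝟙 T) f).base w₀, ?_⟩
  show (pullback.snd (𝟙 T) f ≫ f).base w₀ = t
  rw [← pullback.condition]
  simpa using h₀

/-- In a standard V covering, specializations lift along some member. -/
theorem exists_specializes_of_isStandardV {U : Scheme.{u}} (F : PreZeroHypercover.{w} U)
    (hF : HasValLift F) {s' s : U} (hs : s' ⤳ s) :
    ∃ (j : F.I₀) (y' y : F.X j), y' ⤳ y ∧ (F.f j).base y' = s' ∧ (F.f j).base y = s := by
  obtain ⟨V, hVd, hVv, k, hk₀, hk₁⟩ := ValLift.exists_valuationRing_of_specializes hs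
  obtain ⟨R, hRd, hRv, φ, hφ, j, g', hg'⟩ := hF V k
  obtain ⟨hcl, hgen⟩ := ValLift.points_of_isExtVal φ hφ
  refine ⟨j, g'.base (⟨⊥, Ideal.isPrime_bot⟩ : PrimeSpectrum R),
    g'.base (IsLocalRing.closedPoint R),
    (IsLocalRing.specializes_closedPoint _).map g'.continuous, ?_, ?_⟩
  · show (g' ≫ F.f j).base _ = _
    rw [hg']
    show k.base ((Spec.map φ).base _) = _
    rw [hgen, hk₁]
  · show (g' ≫ F.f j).base _ = _
    rw [hg']
    show k.base ((Spec.map φ).base _) = _
    rw [hcl, hk₀]

/-- A morphism whose one-member family is a V covering is a topological quotient map. -/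
theorem isQuotientMap_of_isVCover_singleton {P T : Scheme.{u}} (f : P ⟶ T)
    (h : IsVCover (PreZeroHypercover.singleton.{w} f)) : Topology.IsQuotientMap f.base := by
  rw [Topology.isQuotientMap_iff_isClosed]
  refine ⟨surjective_of_hasValLift_singleton f (ValLift.hasValLift_of_isVCover _ h),
    fun Z => ⟨fun hZ => hZ.preimage f.continuous, fun hZ => ?_⟩⟩
  rw [TopologicalSpace.IsOpenCover.isClosed_iff_coe_preimage (iSup_affineOpens_eq_top T)]
  intro U
  obtain ⟨F, hF, href⟩ := h U
  haveI : IsAffine ((U : T.Opens) : Scheme.{u}) := hF.isAffine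
  haveI := hF.finite_index
  haveI := hF.isAffine_obj
  have hpre : ∀ j, IsClosed ((F.f j).base ⁻¹' ((U : T.Opens).ι.base ⁻¹' Z)) := by
    intro j
    obtain ⟨_, l, hl⟩ := href j
    let l₁ : F.X j ⟶ P := l
    have hl' : l₁ ≫ f = F.f j ≫ (U : T.Opens).ι := hl
    have : (F.f j).base ⁻¹' ((U : T.Opens).ι.base ⁻¹' Z) = l₁.base ⁻¹' (f.base ⁻¹' Z) := by
      ext y
      show (F.f j ≫ (U : T.Opens).ι).base y ∈ Z ↔ (l₁ ≫ f).base y ∈ Z
      rw [hl']
    rw [this]
    exact hZ.preimage l₁.continuous
  refine isClosed_of_finite_affine_family F.X F.f ((U : T.Opens).ι.base ⁻¹' Z) ?_ hpre ?_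
  · intro s' s hs hs'
    obtain ⟨j, y', y, hy, hy', hy0⟩ := exists_specializes_of_isStandardV F hF.lift hs
    have h1 : y' ∈ (F.f j).base ⁻¹' ((U : T.Opens).ι.base ⁻¹' Z) := by
      show (U : T.Opens).ι.base ((F.f j).base y') ∈ Z
      rw [hy']
      exact hs'
    have h2 := (hpre j).stableUnderSpecialization hy h1
    rw [← hy0]
    exact h2
  · intro s _
    obtain ⟨j, y', y, -, -, hy0⟩ := exists_specializes_of_isStandardV F hF.lift
      (specializes_rfl (x := s))
    exact ⟨j, y, hy0⟩

/-- The morphism from the coproduct of the members of a V covering is universally submersive. -/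
theorem univSubmersive_sigmaDesc_of_isVCover {X : Scheme.{u}} (E : PreZeroHypercover.{u} X)
    (hE : IsVCover E) : SGA1.UnivSubmersive (Sigma.desc E.f) := by
  intro P T' i₁ i₂ f' hpb
  refine isQuotientMap_of_isVCover_singleton.{0} f'
    (isVCover_of_refines (E.pullback₁ i₂) (PreZeroHypercover.singleton.{0} f')
      (Groth.Agent.Lib.Helper10.isVCover_pullback i₂ E hE) (fun i' => ?_))
  let i : E.I₀ := i'
  refine ⟨PUnit.unit, hpb.lift (pullback.fst i₂ (E.f i)) (pullback.snd i₂ (E.f i) ≫ Sigma.ι E.X i)
    (by rw [Category.assoc, Sigma.ι_desc]; exact pullback.condition), ?_⟩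
  exact hpb.lift_fst _ _ _

end Groth.Agent.Lib.T2H8.VSubm
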