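import Mathlib
import Groth.Prelude.Def_HTop
import Groth.Prelude.Def_SGA1
import Groth.Agent.Lib.T2H8ValLift
import Groth.Agent.Lib.T2H8VSubm
import Groth.Agent.Lib.T2H8SubmLift
import Groth.Agent.Lib.T2H8HSquare
import Groth.Agent.Lib.T2H8NoethApproxSch

set_option autoImplicit false
set_option linter.style.haveILetI false

universe w v u

namespace Groth.Agent.Lib.T2H8.HNoeth

open CategoryTheory Limits AlgebraicGeometry Opposite HTop IsLocalRing
open Groth.Agent.Lib.T2H8.ValLift Groth.Agent.Lib.T2H8.NoethApprox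

/-- The morphism from a finite coproduct of quasi-compact morphisms is quasi-compact. -/
theorem quasiCompact_sigmaDesc {T : Scheme.{u}} (E : PreZeroHypercover.{u} T) [Finite E.I₀]
    [∀ i, QuasiCompact (E.f i)] : QuasiCompact (Sigma.desc E.f) := by
  constructor
  intro U hU hUc
  have hpre : (Sigma.desc E.f).base ⁻¹' U =
      ⋃ i, (Sigma.ι E.X i).base '' ((E.f i).base ⁻¹' U) := by
    ext x
    constructor
    · intro hx
      obtain ⟨i, y, rfl⟩ := (sigmaOpenCover E.X).exists_eq x
      refine Set.mem_iUnion.2 ⟨i, y, ?_, rfl⟩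
      show (E.f i).base y ∈ U
      rw [← Sigma.ι_desc E.f i]
      exact hx
    · intro hx
      obtain ⟨i, y, hy, rfl⟩ := Set.mem_iUnion.1 hx
      show (Sigma.desc E.f).base ((Sigma.ι E.X i).base y) ∈ U
      rw [← Scheme.Hom.comp_apply, Sigma.ι_desc]
      exact hy
  rw [hpre]
  exact isCompact_iUnion (fun i =>
    (QuasiCompact.isCompact_preimage (f := E.f i) U hU hUc).image (Sigma.ι E.X i).continuous)

/-- The valuation-ring lifting property of the morphism from the coproduct gives that of the
family. -/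
theorem hasValLift_of_sigmaDesc {T : Scheme.{u}} (E : PreZeroHypercover.{u} T)
    (h : HasValLift (PreZeroHypercover.singleton.{0} (Sigma.desc E.f))) : HasValLift E := by
  intro V _ _ g
  obtain ⟨W, hWd, hWv, φ, hφ, _, g', hg'⟩ := h V g
  let g₁ : Spec W ⟶ ∐ E.X := g'
  have hg'' : g₁ ≫ Sigma.desc E.f = Spec.map φ ≫ g := hg'
  obtain ⟨i, y, hy⟩ := (sigmaOpenCover E.X).exists_eq (g₁.base (IsLocalRing.closedPoint W))
  obtain ⟨l, hl⟩ := exists_lift_of_closedPoint_mem_range (Sigma.ι E.X i) g₁ ⟨y, hy⟩
  refine ⟨W, hWd, hWv, φ, hφ, i, l, ?_⟩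
  rw [← Sigma.ι_desc E.f i, ← Category.assoc, hl]
  exact hg''

/-- A universally submersive quasi-compact morphism locally of finite type over a locally
Noetherian scheme has the valuation-ring lifting property. -/
theorem hasValLift_of_univSubmersive {X S : Scheme.{u}} (f : X ⟶ S) [QuasiCompact f]
    [LocallyOfFiniteType f] [IsLocallyNoetherian S] (hf : SGA1.UnivSubmersive f) :
    HasValLift (PreZeroHypercover.singleton.{w} f) := by
  refine hasValLift_of_specializes_lift_noetherian f (fun A₀ _ g z' z hz => ?_)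
  haveI : (SGA1.UnivSubmersive : MorphismProperty Scheme.{u}).IsStableUnderBaseChange := by
    unfold SGA1.UnivSubmersive
    infer_instance
  have hbc : SGA1.UnivSubmersive (pullback.fst g f) :=
    MorphismProperty.pullback_fst (P := SGA1.UnivSubmersive) g f hf
  obtain ⟨ξ, u, h, h1, h2⟩ := Groth.Agent.Lib.T2H8.SubmLift.exists_specializes_lift
    (pullback.fst g f) hbc hz
  exact ⟨ξ, u, h, h1, h2⟩

end Groth.Agent.Lib.T2H8.HNoeth
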