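import Mathlib
import Groth.Prelude.Def_W4c2submetdescSubtr
import Groth.Prelude.Def_SGA1
import Groth.Agent.Lib.T2H3SubtrChain
import Groth.Agent.Lib.T2H3SubtrLimitBC
import Groth.Agent.Lib.T2H8DVRLift
import Groth.Agent.Lib.Helper10SubtrDVR
import Groth.Agent.Lib.Helper10QCClosed

/-!
# Universally submersive versus universally S-subtrusive morphisms
-/

set_option autoImplicit false
set_option linter.style.haveILetI false
universe u
open CategoryTheory CategoryTheory.Limits AlgebraicGeometry Topology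

namespace Groth.Agent.Lib.T2H3.SubtrSubm

open Groth.Agent.Lib.T2H3.SubtrChain Groth.Agent.Lib.T2H3.SubtrLimitBC

/-- A quasi-compact S-subtrusive morphism is a quotient map. -/
lemma isQuotientMap_of_isSSubtrusive {X Y : Scheme.{u}} (f : X ⟶ Y) [QuasiCompact f]
    (hf : Subtr.IsSSubtrusive f) : Topology.IsQuotientMap f := by
  have hsurj : Function.Surjective f := by
    intro s
    obtain ⟨x, -, -, hx, -⟩ := hf (specializes_rfl (x := s))
    exact ⟨x, hx⟩
  rw [Topology.isQuotientMap_iff_isClosed]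
  refine ⟨hsurj, fun C => ⟨fun hC => hC.preimage f.continuous, fun hC => ?_⟩⟩
  have himg : f '' (f ⁻¹' C) = C := Set.image_preimage_eq C hsurj
  rw [← himg]
  apply Groth.Agent.Lib.Helper10.QCClosed.isClosed_image_of_stableUnderSpecialization f _ hC
  rw [himg]
  intro y' y hyy hy'
  obtain ⟨x, x', hxx, hx, hx'⟩ := hf hyy
  have hx'C : x' ∈ f ⁻¹' C := by
    show f x' ∈ C
    rw [hx']; exact hy'
  have hxC : x ∈ f ⁻¹' C := hxx.mem_closed hC hx'C
  rw [← hx]
  exact hxC

/-- A quasi-compact universally S-subtrusive morphism is universally submersive. -/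
theorem univSubmersive_of_univSSubtrusive {X Y : Scheme.{u}} (f : X ⟶ Y) [QuasiCompact f]
    (hf : Subtr.UnivSSubtrusive f) : SGA1.UnivSubmersive f := by
  intro X' Y' i₁ i₂ f' hpb
  have hqc : QuasiCompact f' := MorphismProperty.of_isPullback hpb.flip inferInstance
  exact isQuotientMap_of_isSSubtrusive f' (hf i₁ i₂ f' hpb)

/-- Over a locally Noetherian base, a quasi-compact universally submersive morphism is universally
S-subtrusive. -/
theorem univSSubtrusive_of_univSubmersive {X Y : Scheme.{u}} [IsLocallyNoetherian Y] (f : X ⟶ Y)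
    [QuasiCompact f] (hf : SGA1.UnivSubmersive f) : Subtr.UnivSSubtrusive f := by
  have hVL : HTop.HasValLift (PreZeroHypercover.singleton.{0} f) := by
    refine Groth.Agent.Lib.T2H8.NoethApprox.hasValLift_of_specializes_lift_noetherian f
      (fun A₀ _ g z' z hz => ?_)
    obtain ⟨R, hRc, hRd, hRv, r, hr₁, hr₀⟩ :=
      Groth.Agent.Lib.T2H8.DVRLift.exists_dvr_of_specializes hz
    -- base change to the discrete valuation ring
    have hq : Topology.IsQuotientMap (pullback.fst (r ≫ g) f) :=
      hf (pullback.snd (r ≫ g) f) (r ≫ g) (pullback.fst (r ≫ g) f)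
        (IsPullback.of_hasPullback (r ≫ g) f)
    have hS : Subtr.IsSSubtrusive (pullback.fst (r ≫ g) f) :=
      (Groth.Agent.Lib.Helper10.SubtrDVR.main R (pullback.fst (r ≫ g) f)).mp hq
    have hos : (⟨⊥, Ideal.isPrime_bot⟩ : PrimeSpectrum R) ⤳ IsLocalRing.closedPoint R :=
      (PrimeSpectrum.le_iff_specializes _ _).mp bot_le
    obtain ⟨w, w', hww, hw, hw'⟩ := hS hos
    let l : pullback (r ≫ g) f ⟶ pullback g f :=
      pullback.lift (pullback.fst (r ≫ g) f ≫ r) (pullback.snd (r ≫ g) f)
        (by rw [Category.assoc, pullback.condition])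
    have hl : l ≫ pullback.fst g f = pullback.fst (r ≫ g) f ≫ r := pullback.lift_fst _ _ _
    have hl' : ∀ v, (pullback.fst g f) (l v) = r ((pullback.fst (r ≫ g) f) v) := fun v =>
      congrArg (fun m : pullback (r ≫ g) f ⟶ Spec A₀ => m v) hl
    refine ⟨l w', l w, hww.map l.continuous, ?_, ?_⟩
    · exact (hl' w').trans ((congrArg r hw').trans hr₁)
    · exact (hl' w).trans ((congrArg r hw).trans hr₀)
  rw [Groth.Agent.Lib.Helper10.SubtrVal.main]
  intro V _ _ _ g y y' hyy
  obtain ⟨w', w, hww, hw', hw⟩ :=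
    Groth.Agent.Lib.T2H8.ValLift.specializes_lift_of_hasValLift f hVL _ g y' y hyy
  let e := pullbackSymmetry g f
  have he : ∀ v, (pullback.snd f g) (e.hom v) = (pullback.fst g f) v := fun v =>
    congrArg (fun m : pullback g f ⟶ Spec (CommRingCat.of V) => m v) (pullbackSymmetry_hom_comp_snd g f)
  exact ⟨e.hom w, e.hom w', hww.map e.hom.continuous, (he w).trans hw, (he w').trans hw'⟩

end Groth.Agent.Lib.T2H3.SubtrSubm
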