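import Mathlib
import Groth.Agent.Lib.T2H7PdFibB
import Groth.Agent.Lib.Helper28RegLoc

/-!
# Higher syzygies over rings of finite global dimension (helper3)

* `hasPDLT_range_of_coker`, `hasPDLT_ker_of_range` : dimension shifting along
  `0 → range g → Z → Z/range g → 0` and `0 → ker g → F → range g → 0`.
* `projective_of_syzygy` : if every module has projective dimension `≤ k` and
  `0 → M₀ → M₁ → ⋯ → M_k` is exact with `M₁, …, M_k` projective, then `M₀` is projective.
* `free_localization_of_syzygy` : the localized version over a regular local ring.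
-/

set_option autoImplicit false
universe u

namespace Groth.Agent.Lib.T2H3.Syz

open CategoryTheory

section General

variable {R : Type u} [CommRing R]

theorem hasPDLT_range_of_coker {F Z : Type u} [AddCommGroup F] [Module R F] [AddCommGroup Z]
    [Module R Z] [Module.Projective R Z] (g : F →ₗ[R] Z) (n : ℕ)
    (h : HasProjectiveDimensionLT (ModuleCat.of R (Z ⧸ LinearMap.range g)) (n + 2)) :
    HasProjectiveDimensionLT (ModuleCat.of R (LinearMap.range g)) (n + 1) := by
  have hS1 := Groth.Agent.Lib.T2H7.PdFibB.mkSC_shortExact (LinearMap.range g).subtype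
    (LinearMap.range g).mkQ Subtype.val_injective (Submodule.mkQ_surjective _)
    (LinearMap.exact_subtype_mkQ _)
  have hproj2 : Projective (ModuleCat.of R Z) := Groth.Agent.Lib.T2H7.PdTorC.projective_of_module_projective _
  have pdF2 : HasProjectiveDimensionLT (ModuleCat.of R Z) (n + 1) :=
    hasProjectiveDimensionLT_of_ge _ 1 (n + 1) (by omega)
  exact hS1.hasProjectiveDimensionLT_X₁ (n + 1) pdF2 h

theorem hasPDLT_ker_of_range {F Z : Type u} [AddCommGroup F] [Module R F] [AddCommGroup Z]
    [Module R Z] [Module.Projective R F] (g : F →ₗ[R] Z) (n : ℕ)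
    (h : HasProjectiveDimensionLT (ModuleCat.of R (LinearMap.range g)) (n + 2)) :
    HasProjectiveDimensionLT (ModuleCat.of R (LinearMap.ker g)) (n + 1) := by
  have hS2 := Groth.Agent.Lib.T2H7.PdFibB.mkSC_shortExact (LinearMap.ker g).subtype
    g.rangeRestrict Subtype.val_injective g.surjective_rangeRestrict
    (by
      intro x
      constructor
      · intro hx
        refine ⟨⟨x, ?_⟩, rfl⟩
        rw [LinearMap.mem_ker]
        exact congrArg Subtype.val hx
      · rintro ⟨y, rfl⟩
        apply Subtype.ext
        exact y.2)
  have hproj1 : Projective (ModuleCat.of R F) := Groth.Agent.Lib.T2H7.PdTorC.projective_of_module_projective _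
  have pdF1 : HasProjectiveDimensionLT (ModuleCat.of R F) (n + 1) :=
    hasProjectiveDimensionLT_of_ge _ 1 (n + 1) (by omega)
  exact hS2.hasProjectiveDimensionLT_X₁ (n + 1) pdF1 h

/-- If every `R`-module has projective dimension `≤ k` and `0 → M₀ → M₁ → ⋯ → M_k` is exact with
`M₁, …, M_k` projective, then `M₀` is projective. -/
theorem projective_of_syzygy (k : ℕ)
    (hgl : ∀ (M : Type u) [AddCommGroup M] [Module R M],
      HasProjectiveDimensionLT (ModuleCat.of R M) (k + 1))
    (M : ℕ → Type u) [∀ i, AddCommGroup (M i)] [∀ i, Module R (M i)]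
    (hproj : ∀ i, 1 ≤ i → i ≤ k → Module.Projective R (M i))
    (D : ∀ i, M i →ₗ[R] M (i + 1)) (hinj : Function.Injective (D 0))
    (hex : ∀ i, i + 1 < k → LinearMap.range (D i) = LinearMap.ker (D (i + 1))) :
    Module.Projective R (M 0) := by
  rcases k with _ | k
  · have h := hgl (M 0)
    have hp : Projective (ModuleCat.of R (M 0)) :=
      projective_iff_hasProjectiveDimensionLT_one.mpr h
    exact (IsProjective.iff_projective (ModuleCat.of R (M 0))).mpr hp
  · have key : ∀ t j : ℕ, j + t = k →
        HasProjectiveDimensionLT (ModuleCat.of R (LinearMap.range (D j))) (j + 1) := by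
      intro t
      induction t with
      | zero =>
        intro j hj
        have hjk : j = k := by omega
        subst hjk
        have := hproj (j + 1) (by omega) (by omega)
        exact hasPDLT_range_of_coker (D j) j (hgl _)
      | succ t ih =>
        intro j hj
        have h1 := ih (j + 1) (by omega)
        have := hproj (j + 1) (by omega) (by omega)
        have h2 := hasPDLT_ker_of_range (D (j + 1)) j h1
        have he := hex j (by omega)
        exact hasProjectiveDimensionLT_of_iso (LinearEquiv.ofEq _ _ he.symm).toModuleIso (j + 1)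
    have h0 := key k 0 (by omega)
    have hp : Projective (ModuleCat.of R (LinearMap.range (D 0))) :=
      projective_iff_hasProjectiveDimensionLT_one.mpr h0
    have hp' : Module.Projective R (LinearMap.range (D 0)) :=
      (IsProjective.iff_projective (ModuleCat.of R (LinearMap.range (D 0)))).mpr hp
    exact Module.Projective.of_equiv (LinearEquiv.ofInjective (D 0) hinj).symm

end General

section Regular

/-- Over a regular local ring `A`, if `0 → N₀ → N₁ → ⋯ → N_k` is exact with `N₁, …, N_k` finite
free and `N₀` finite, then `N₀` is free at every prime of height `≤ k`. -/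
theorem free_localization_of_syzygy (A : Type u) [CommRing A] [IsRegularLocalRing A]
    (k : ℕ) (N : ℕ → Type u) [∀ i, AddCommGroup (N i)] [∀ i, Module A (N i)] [Module.Finite A (N 0)]
    (hfree : ∀ i, 1 ≤ i → i ≤ k → Module.Free A (N i) ∧ Module.Finite A (N i))
    (d : ∀ i, N i →ₗ[A] N (i + 1)) (hinj : Function.Injective (d 0))
    (hex : ∀ i, i + 1 < k → LinearMap.range (d i) = LinearMap.ker (d (i + 1)))
    (p : Ideal A) [p.IsPrime] (hp : p.height ≤ k) :
    Module.Free (Localization.AtPrime p) (LocalizedModule p.primeCompl (N 0)) := by
  have hreg : IsRegularLocalRing (Localization.AtPrime p) :=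
    Groth.Agent.Lib.Helper28.isRegularLocalRing_localization_of_isRegularLocalRing A p
  obtain ⟨e, he⟩ := Groth.Agent.Lib.Helper5.exists_nat_ringKrullDim_eq (Localization.AtPrime p)
  have hek : e ≤ k := by
    have h1 := IsLocalization.AtPrime.ringKrullDim_eq_height p (Localization.AtPrime p)
    rw [he] at h1
    have h2 : ((e : ℕ∞) : WithBot ℕ∞) = (p.height : WithBot ℕ∞) := by exact_mod_cast h1
    have h3 : (e : ℕ∞) = p.height := WithBot.coe_injective h2
    rw [← h3] at hp
    exact_mod_cast hp
  have hgl : ∀ (M : Type u) [AddCommGroup M] [Module (Localization.AtPrime p) M],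
      HasProjectiveDimensionLT (ModuleCat.of (Localization.AtPrime p) M) (k + 1) := by
    intro M _ _
    have := Groth.Agent.S0563.result (Localization.AtPrime p) e he M
    exact hasProjectiveDimensionLT_of_ge _ (e + 1) (k + 1) (by omega)
  have hproj : Module.Projective (Localization.AtPrime p) (LocalizedModule p.primeCompl (N 0)) := by
    refine projective_of_syzygy (R := Localization.AtPrime p) k hgl
      (fun i => LocalizedModule p.primeCompl (N i)) ?_
      (fun i => LocalizedModule.map p.primeCompl (d i))
      (LocalizedModule.map_injective _ _ hinj) ?_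
    · intro i h1 h2
      obtain ⟨hf, -⟩ := hfree i h1 h2
      have : Module.Free (Localization.AtPrime p) (LocalizedModule p.primeCompl (N i)) :=
        Module.free_of_isLocalizedModule p.primeCompl
          (LocalizedModule.mkLinearMap p.primeCompl (N i))
      infer_instance
    · intro i hi
      have hE : Function.Exact (d i) (d (i + 1)) := LinearMap.exact_iff.mpr (hex i hi).symm
      have hE' := LocalizedModule.map_exact p.primeCompl (d i) (d (i + 1)) hE
      have hE'' : Function.Exact (LocalizedModule.map p.primeCompl (d i))
          (LocalizedModule.map p.primeCompl (d (i + 1))) := hE'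
      exact (LinearMap.exact_iff.mp hE'').symm
  have hfin : Module.Finite (Localization.AtPrime p) (LocalizedModule p.primeCompl (N 0)) :=
    Module.Finite.of_isLocalizedModule p.primeCompl
      (LocalizedModule.mkLinearMap p.primeCompl (N 0))
  exact Module.free_of_flat_of_isLocalRing

end Regular

end Groth.Agent.Lib.T2H3.Syz
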