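import Mathlib
import Groth.Prelude.Def_TorSh
import Groth.Prelude.Def_CurvBase
import Groth.Agent.Lib.Helper2Ass
import Groth.Agent.Lib.Helper23Extend

/-!
# Torsion-free quasi-coherent modules on reduced locally Noetherian schemes (helper3)

* `exists_ne_zero_annihilated` : a Noetherian local ring whose maximal ideal consists of zero divisors has a nonzero
  element killed by the maximal ideal.
* `isField_stalk_of_isWeakAssPoint` : a weakly associated point of a torsion-free module on a reduced locally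
  Noetherian scheme has a field as local ring.
* `exists_field_point_germ_ne_zero` : a nonzero section of a torsion-free quasi-coherent module has a nonzero germ
  at a point whose local ring is a field.
* `mem_of_dense_of_isField` : such points lie in every dense open.
* `eq_zero_of_res_eq_zero` : sections of torsion-free modules vanishing on a dense open vanish.
-/

set_option autoImplicit false
set_option linter.style.haveILetI false
set_option linter.unusedSectionVars false
universe u
open CategoryTheory CategoryTheory.Limits AlgebraicGeometry TopologicalSpace Opposite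

namespace Groth.Agent.Lib.T2H3.TFReduced

open Groth.Agent.Lib.Helper2.QCoh Groth.Agent.Lib.Helper2.Ass

/-- in a reduced local ring, a nonzero element killed by the maximal ideal forces the ring to be a field -/
theorem maximalIdeal_eq_bot_of_annihilated {R : Type*} [CommRing R] [IsLocalRing R] [IsReduced R]
    (a : R) (ha : a ≠ 0) (h : ∀ r ∈ IsLocalRing.maximalIdeal R, r * a = 0) :
    IsLocalRing.maximalIdeal R = ⊥ := by
  have hu : IsUnit a := by
    by_contra hna
    have hm : a ∈ IsLocalRing.maximalIdeal R := (IsLocalRing.mem_maximalIdeal a).2 hna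
    have h2 := h a hm
    exact ha (IsReduced.eq_zero a ⟨2, by rw [pow_two]; exact h2⟩)
  rw [eq_bot_iff]
  intro r hr
  have h3 := h r hr
  exact (hu.mul_left_eq_zero).1 h3

theorem exists_ne_zero_annihilated {R : Type*} [CommRing R] [IsNoetherianRing R] [IsLocalRing R]
    (h : ∀ r ∈ IsLocalRing.maximalIdeal R, ¬ IsRegular r) :
    ∃ a : R, a ≠ 0 ∧ ∀ r ∈ IsLocalRing.maximalIdeal R, r * a = 0 := by
  classical
  have hfin : (associatedPrimes R R).Finite := associatedPrimes.finite R R
  have hzd := biUnion_associatedPrimes_eq_zero_divisors R R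
  have hsub : ((IsLocalRing.maximalIdeal R : Ideal R) : Set R) ⊆
      ⋃ P ∈ ((hfin.toFinset : Finset (Ideal R)) : Set (Ideal R)), ((id P : Ideal R) : Set R) := by
    intro r hr
    have h1 : r ∈ ⋃ p ∈ associatedPrimes R R, (p : Set R) := by
      rw [hzd]
      have h2 : ¬ IsRegular r := h r hr
      by_contra hno
      apply h2
      rw [isRegular_iff_mem_nonZeroDivisors, mem_nonZeroDivisors_iff_right]
      intro x hx
      by_contra hx0
      exact hno ⟨x, hx0, by rw [smul_eq_mul, mul_comm]; exact hx⟩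
    obtain ⟨P, hP, hrP⟩ := Set.mem_iUnion₂.1 h1
    exact Set.mem_biUnion (Finset.mem_coe.2 ((Set.Finite.mem_toFinset hfin).2 hP)) hrP
  obtain ⟨P, hP, hle⟩ := (Ideal.subset_union_prime (R := R) (s := hfin.toFinset) (f := id)
    (⊥ : Ideal R) ⊥ (fun P hP _ _ => ((Set.Finite.mem_toFinset hfin).1 hP).isPrime)).1 hsub
  have hP' : IsAssociatedPrime P R := (Set.Finite.mem_toFinset hfin).1 hP
  obtain ⟨hprime, a, ha⟩ := isAssociatedPrime_iff.1 hP'
  refine ⟨a, ?_, fun r hr => ?_⟩
  · rintro rfl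
    apply hprime.ne_top
    rw [ha, Ideal.eq_top_iff_one, Submodule.mem_colon_singleton, smul_zero]
    exact Submodule.zero_mem _
  · have h1 : r ∈ P := hle hr
    rw [ha, Submodule.mem_colon_singleton, Submodule.mem_bot, smul_eq_mul] at h1
    exact h1

variable {X : Scheme.{u}} [IsLocallyNoetherian X] [IsReduced X]

theorem isField_stalk_of_isWeakAssPoint (F : X.Modules) (htF : TorSh.IsTorsionFree F) (z : X)
    (hz : Curv2.IsWeakAssPoint F z) : IsField (X.presheaf.stalk z) := by
  obtain ⟨v, hv⟩ := hz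
  have hv0 : v ≠ 0 := by
    rintro rfl
    have h1 : (1 : X.presheaf.stalk z) ∈ IsLocalRing.maximalIdeal (X.presheaf.stalk z) := by
      rw [← hv]
      apply Ideal.le_radical
      rw [LinearMap.mem_ker, LinearMap.toSpanSingleton_apply, smul_zero]
    exact (IsLocalRing.maximalIdeal.isMaximal _).ne_top ((Ideal.eq_top_iff_one _).2 h1)
  have hnr : ∀ r ∈ IsLocalRing.maximalIdeal (X.presheaf.stalk z), ¬ IsRegular r := by
    intro r hr hreg
    rw [← hv] at hr
    obtain ⟨k, hk⟩ := hr
    rw [LinearMap.mem_ker, LinearMap.toSpanSingleton_apply] at hk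
    have h1 : IsSMulRegular (F.presheaf.stalk z) (r ^ k) :=
      (htF z).isSMulRegular (hreg.pow k)
    exact hv0 (h1 (by change r ^ k • v = r ^ k • 0; rw [hk, smul_zero]))
  obtain ⟨a, ha, hkill⟩ := exists_ne_zero_annihilated hnr
  rw [IsLocalRing.isField_iff_maximalIdeal_eq]
  exact maximalIdeal_eq_bot_of_annihilated a ha hkill

/-- a nonzero section of a torsion-free quasi-coherent module is nonzero at a point whose local ring is a field -/
theorem exists_field_point_germ_ne_zero (F : X.Modules) [F.IsQuasicoherent] (htF : TorSh.IsTorsionFree F)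
    (W : X.Opens) (m : Γ(F, W)) (hm : m ≠ 0) :
    ∃ (z : X) (hzW : z ∈ W), IsField (X.presheaf.stalk z) ∧ F.presheaf.germ W z hzW m ≠ 0 := by
  obtain ⟨z, hzW, hwa, hne⟩ := exists_isWeakAssPoint_of_ne_zero_open F W m hm
  exact ⟨z, hzW, isField_stalk_of_isWeakAssPoint F htF z hwa, hne⟩

/-- a section of a torsion-free module whose germ at `x` vanishes is zero as soon as all points of `U` with
a field as local ring specialize to `x` -/
theorem germ_injective (F : X.Modules) [F.IsQuasicoherent] (htF : TorSh.IsTorsionFree F)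
    (x : X) (U : X.Opens) (hxU : x ∈ U)
    (hU : ∀ y : X, y ∈ U → IsField (X.presheaf.stalk y) → x ∈ closure ({y} : Set X)) :
    Function.Injective (F.presheaf.germ U x hxU) := by
  rw [injective_iff_map_eq_zero]
  intro s hs
  by_contra hs0
  obtain ⟨z, hzU, hfield, hne⟩ := exists_field_point_germ_ne_zero F htF U s hs0
  have hzx : z ⤳ x := specializes_iff_mem_closure.2 (hU z hzU hfield)
  have h0 : F.presheaf.germ U x hxU s = F.presheaf.germ U x hxU 0 := by rw [hs, map_zero]
  obtain ⟨V, hxV, i₁, i₂, hV⟩ := F.presheaf.germ_eq x hxU hxU s 0 h0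
  rw [map_zero] at hV
  have hzV : z ∈ V := hzx.mem_open V.isOpen hxV
  apply hne
  rw [← TopCat.Presheaf.germ_res_apply F.presheaf i₁ z hzV s, hV, map_zero]

omit [IsReduced X] in
/-- points whose local ring is a field lie in every dense open -/
theorem mem_of_dense_of_isField (z : X) (hz : IsField (X.presheaf.stalk z)) (U : X.Opens)
    (hUd : Dense (U : Set X)) : z ∈ U := by
  have hm : IsLocalRing.maximalIdeal (X.presheaf.stalk z) = ⊥ :=
    IsLocalRing.isField_iff_maximalIdeal_eq.1 hz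
  obtain ⟨_, ⟨W, hW', rfl⟩, hzW, -⟩ :=
    X.isBasis_affineOpens.exists_subset_of_mem_open (Set.mem_univ z) isOpen_univ
  have hW : IsAffineOpen W := hW'
  haveI : IsNoetherianRing Γ(X, W) := IsLocallyNoetherian.component_noetherian ⟨W, hW⟩
  set p := hW.primeIdealOf ⟨z, hzW⟩ with hp
  have hpz : hW.fromSpec p = z := hW.fromSpec_primeIdealOf ⟨z, hzW⟩
  letI := X.presheaf.algebra_section_stalk ⟨z, hzW⟩
  haveI := hW.isLocalization_stalk ⟨z, hzW⟩
  have key : ∀ t ∈ p.asIdeal, ∃ s : Γ(X, W), s ∉ p.asIdeal ∧ s * t = 0 := by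
    intro t ht
    have h1 : algebraMap Γ(X, W) (X.presheaf.stalk z) t ∈
        IsLocalRing.maximalIdeal (X.presheaf.stalk z) :=
      (IsLocalization.AtPrime.to_map_mem_maximal_iff (X.presheaf.stalk z) p.asIdeal t).2 ht
    rw [hm, Ideal.mem_bot] at h1
    obtain ⟨m, hm'⟩ := (IsLocalization.map_eq_zero_iff p.asIdeal.primeCompl
      (X.presheaf.stalk z) t).1 h1
    exact ⟨m.1, m.2, hm'⟩
  obtain ⟨T, hT⟩ := (IsNoetherian.noetherian p.asIdeal : p.asIdeal.FG)
  choose! s hs1 hs2 using key
  let h : Γ(X, W) := ∏ t ∈ T, s t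
  have hh : h ∉ p.asIdeal := by
    intro hmem
    obtain ⟨t, ht, hst⟩ := (Ideal.IsPrime.prod_mem_iff (hp := p.isPrime)).1 hmem
    exact hs1 t (hT ▸ Submodule.subset_span ht) hst
  have hkill : ∀ t ∈ p.asIdeal, h * t = 0 := by
    intro t ht
    rw [← hT] at ht
    induction ht using Submodule.span_induction with
    | mem t ht =>
      obtain ⟨c, hc⟩ := Finset.dvd_prod_of_mem s ht
      have e : h = s t * c := hc
      rw [e, mul_comm (s t) c, mul_assoc, hs2 t (hT ▸ Submodule.subset_span ht), mul_zero]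
    | zero => rw [mul_zero]
    | add a b _ _ ha hb => rw [mul_add, ha, hb, add_zero]
    | smul r a _ ha =>
      rw [smul_eq_mul, mul_left_comm, ha, mul_zero]
  have hzh : z ∈ X.basicOpen h :=
    (Groth.Agent.Lib.Helper2.mem_basicOpen_iff_notMem_primeIdealOf hW z hzW h).2 hh
  obtain ⟨w, hwh, hwU⟩ := hUd.inter_open_nonempty _ (X.basicOpen h).isOpen ⟨z, hzh⟩
  have hwW : w ∈ W := X.basicOpen_le h hwh
  have hhq : h ∉ (hW.primeIdealOf ⟨w, hwW⟩).asIdeal :=
    (Groth.Agent.Lib.Helper2.mem_basicOpen_iff_notMem_primeIdealOf hW w hwW h).1 hwh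
  have hle : p.asIdeal ≤ (hW.primeIdealOf ⟨w, hwW⟩).asIdeal := fun t ht =>
    ((hW.primeIdealOf ⟨w, hwW⟩).isPrime.mem_or_mem (by rw [hkill t ht]; exact zero_mem _ :
      h * t ∈ (hW.primeIdealOf ⟨w, hwW⟩).asIdeal)).resolve_left hhq
  have hsp : z ⤳ w := hpz ▸ fromSpec_specializes hW p w hwW hle
  exact hsp.mem_open U.isOpen hwU

/-- a section of a torsion-free module vanishing on a dense open vanishes -/
theorem eq_zero_of_res_eq_zero (F : X.Modules) [F.IsQuasicoherent] (htF : TorSh.IsTorsionFree F)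
    (U : X.Opens) (hUd : Dense (U : Set X)) (V A : X.Opens) (hAV : A ≤ V)
    (hUA : ∀ z, z ∈ V → z ∈ U → z ∈ A) (s : Γ(F, V))
    (hs : F.presheaf.map (homOfLE hAV).op s = 0) : s = 0 := by
  by_contra hs0
  obtain ⟨z, hzV, hfield, hne⟩ := exists_field_point_germ_ne_zero F htF V s hs0
  have hzA : z ∈ A := hUA z hzV (mem_of_dense_of_isField z hfield U hUd)
  apply hne
  rw [← TopCat.Presheaf.germ_res_apply F.presheaf (homOfLE hAV) z hzA s, hs, map_zero]

/-- a morphism into a torsion-free module vanishing on a dense open vanishes -/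
theorem hom_eq_zero_of_restrict_eq_zero {K F : X.Modules} [F.IsQuasicoherent]
    (htF : TorSh.IsTorsionFree F) (U : X.Opens) (hUd : Dense (U : Set X)) (g : K ⟶ F)
    (hg : (Scheme.Modules.restrictFunctor U.ι).map g = 0) : g = 0 := by
  apply Scheme.Modules.hom_ext
  intro V
  refine ConcreteCategory.hom_ext _ _ (fun t => ?_)
  have hAV : U.ι ''ᵁ (U.ι ⁻¹ᵁ V) ≤ V := by
    rintro _ ⟨y, hy, rfl⟩
    exact hy
  have h1 : g.app (U.ι ''ᵁ (U.ι ⁻¹ᵁ V)) = 0 := by
    have h2 : ((Scheme.Modules.restrictFunctor U.ι).map g).app (U.ι ⁻¹ᵁ V) =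
        g.app (U.ι ''ᵁ (U.ι ⁻¹ᵁ V)) := rfl
    rw [← h2, hg]
    rfl
  have h3 := Groth.Agent.Lib.Helper23.Extend.app_map g (homOfLE hAV) t
  rw [h1] at h3
  have h4 : F.presheaf.map (homOfLE hAV).op (g.app V t) = 0 := h3.symm
  have h5 := eq_zero_of_res_eq_zero F htF U hUd V _ hAV
    (fun z hzV hzU => ⟨⟨z, hzU⟩, hzV, rfl⟩) (g.app V t) h4
  rw [h5]
  rfl

/-- two torsion-free quotients of `E` that agree on a dense open are isomorphic as quotients -/
theorem exists_iso_quotients {E F₁ F₂ : X.Modules} [F₁.IsQuasicoherent] [F₂.IsQuasicoherent]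
    (ht₁ : TorSh.IsTorsionFree F₁) (ht₂ : TorSh.IsTorsionFree F₂)
    (q₁ : E ⟶ F₁) (q₂ : E ⟶ F₂) [Epi q₁] [Epi q₂]
    (U : X.Opens) (hU : Dense (U : Set X))
    (φ : F₁.restrict U.ι ≅ F₂.restrict U.ι)
    (hφ : (Scheme.Modules.restrictFunctor U.ι).map q₁ ≫ φ.hom = (Scheme.Modules.restrictFunctor U.ι).map q₂) :
    ∃ ψ : F₁ ≅ F₂, q₁ ≫ ψ.hom = q₂ ∧ (Scheme.Modules.restrictFunctor U.ι).map ψ.hom = φ.hom := by
  have hφ' : (Scheme.Modules.restrictFunctor U.ι).map q₂ ≫ φ.inv =
      (Scheme.Modules.restrictFunctor U.ι).map q₁ := by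
    rw [← hφ, Category.assoc, Iso.hom_inv_id, Category.comp_id]
  have h12 : kernel.ι q₁ ≫ q₂ = 0 := by
    apply hom_eq_zero_of_restrict_eq_zero ht₂ U hU
    rw [Functor.map_comp, ← hφ, ← Category.assoc, ← Functor.map_comp, kernel.condition,
      Functor.map_zero, zero_comp]
  have h21 : kernel.ι q₂ ≫ q₁ = 0 := by
    apply hom_eq_zero_of_restrict_eq_zero ht₁ U hU
    rw [Functor.map_comp, ← hφ', ← Category.assoc, ← Functor.map_comp, kernel.condition,
      Functor.map_zero, zero_comp]
  let a : F₁ ⟶ F₂ := Abelian.epiDesc q₁ q₂ h12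
  let b : F₂ ⟶ F₁ := Abelian.epiDesc q₂ q₁ h21
  have ha : q₁ ≫ a = q₂ := Abelian.comp_epiDesc q₁ q₂ h12
  have hb : q₂ ≫ b = q₁ := Abelian.comp_epiDesc q₂ q₁ h21
  have hab : a ≫ b = 𝟙 F₁ := by
    rw [← cancel_epi q₁, ← Category.assoc, ha, hb, Category.comp_id]
  have hba : b ≫ a = 𝟙 F₂ := by
    rw [← cancel_epi q₂, ← Category.assoc, hb, ha, Category.comp_id]
  refine ⟨⟨a, b, hab, hba⟩, ha, ?_⟩
  haveI : Epi ((Scheme.Modules.restrictFunctor U.ι).map q₁) := inferInstance
  rw [← cancel_epi ((Scheme.Modules.restrictFunctor U.ι).map q₁), hφ, ← Functor.map_comp, ha]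

end Groth.Agent.Lib.T2H3.TFReduced
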