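import Mathlib
import Groth.Agent.Lib.T2H3FiltTrace2

/-!
# The trace of a finite extension of discrete valuation rings modulo the maximal ideal (helper3, team 2)
-/

set_option autoImplicit false
universe u

namespace Groth.Agent.Lib.T2H3.TameDiff

open IsLocalRing Groth.Agent.Lib.T2H3.FiltTrace

variable (A B : Type u) [CommRing A] [IsDomain A] [IsDiscreteValuationRing A]
    [CommRing B] [IsDomain B] [IsDiscreteValuationRing B] [Algebra A B] [Module.Finite A B]
    [Module.IsTorsionFree A B] [IsLocalHom (algebraMap A B)]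

theorem algebraMap_injective : Function.Injective (algebraMap A B) :=
  FaithfulSMul.algebraMap_injective A B

theorem map_maximalIdeal_ne_bot : (maximalIdeal A).map (algebraMap A B) ≠ ⊥ := by
  intro h
  have h1 := (Ideal.map_eq_bot_iff_of_injective (algebraMap_injective A B)).mp h
  exact IsDiscreteValuationRing.not_a_field A h1

/-- the exponent `n` with `𝔪_A B = 𝔪_B ^ n` -/
theorem exists_map_eq_pow (ϖ : B) (hϖ : Irreducible ϖ) :
    ∃ n : ℕ, (maximalIdeal A).map (algebraMap A B) = Ideal.span {ϖ ^ n} :=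
  IsDiscreteValuationRing.ideal_eq_span_pow_irreducible (map_maximalIdeal_ne_bot A B) hϖ

attribute [local instance] Ideal.Quotient.field in
/-- The trace formula modulo the maximal ideal. -/
theorem trace_quotient_eq (ϖ : B) (hϖ : Irreducible ϖ) (n : ℕ)
    (hn : (maximalIdeal A).map (algebraMap A B) = Ideal.span {ϖ ^ n}) (x : B) :
    Algebra.trace (A ⧸ maximalIdeal A) (B ⧸ (maximalIdeal A).map (algebraMap A B))
        (Ideal.Quotient.mk _ x) =
      n • Algebra.trace (A ⧸ maximalIdeal A)
        ((B ⧸ (maximalIdeal A).map (algebraMap A B)) ⧸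
          Ideal.span {(Ideal.Quotient.mk ((maximalIdeal A).map (algebraMap A B)) ϖ) ^ 1})
        (Ideal.Quotient.mk _ (Ideal.Quotient.mk _ x)) := by
  have hfin : FiniteDimensional (A ⧸ maximalIdeal A)
      (B ⧸ (maximalIdeal A).map (algebraMap A B)) := inferInstance
  have hϖ0 : ϖ ≠ 0 := hϖ.ne_zero
  apply trace_eq_smul_of_pow_eq_zero
  · rw [← map_pow, Ideal.Quotient.eq_zero_iff_mem, hn]
    exact Ideal.mem_span_singleton_self _
  · intro j hj r hr
    obtain ⟨b, rfl⟩ := Ideal.Quotient.mk_surjective r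
    obtain ⟨s, hs⟩ := Ideal.mem_span_singleton'.mp hr
    obtain ⟨c, rfl⟩ := Ideal.Quotient.mk_surjective s
    rw [← map_pow, ← map_mul, ← map_mul, Ideal.Quotient.eq, hn] at hs
    obtain ⟨d, hd⟩ := Ideal.mem_span_singleton'.mp hs
    -- `ϖ * b = c * ϖ ^ (j + 1) - d * ϖ ^ n`
    obtain ⟨m, rfl⟩ : ∃ m, n = j + 1 + m := ⟨n - (j + 1), by omega⟩
    have hb : b = ϖ ^ j * (c - d * ϖ ^ m) := by
      apply mul_left_cancel₀ hϖ0
      have : ϖ * b = c * ϖ ^ (j + 1) - d * ϖ ^ (j + 1 + m) := by rw [hd]; ring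
      rw [this]
      ring
    rw [hb, map_mul, map_pow]
    exact Ideal.mul_mem_right _ _ (Ideal.mem_span_singleton_self _)

attribute [local instance] Ideal.Quotient.field in
/-- The double quotient is the residue field of `B`. -/
noncomputable def dblQuotEquiv (ϖ : B) (hϖ : Irreducible ϖ) (n : ℕ) (hn0 : n ≠ 0)
    (hn : (maximalIdeal A).map (algebraMap A B) = Ideal.span {ϖ ^ n}) :
    ((B ⧸ (maximalIdeal A).map (algebraMap A B)) ⧸
      Ideal.span {(Ideal.Quotient.mk ((maximalIdeal A).map (algebraMap A B)) ϖ) ^ 1}) ≃+*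
        ResidueField B :=
  have h1 : Ideal.span {(Ideal.Quotient.mk ((maximalIdeal A).map (algebraMap A B)) ϖ) ^ 1} =
      (maximalIdeal B).map (Ideal.Quotient.mk ((maximalIdeal A).map (algebraMap A B))) := by
    rw [pow_one, hϖ.maximalIdeal_eq, Ideal.map_span, Set.image_singleton]
  have h2 : (maximalIdeal A).map (algebraMap A B) ⊔ maximalIdeal B = maximalIdeal B := by
    rw [sup_eq_right, hn, hϖ.maximalIdeal_eq, Ideal.span_singleton_le_span_singleton]
    exact dvd_pow_self ϖ hn0
  (Ideal.quotEquivOfEq h1).trans ((DoubleQuot.quotQuotEquivQuotSup _ _).trans (Ideal.quotEquivOfEq h2))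

theorem dblQuotEquiv_mk (ϖ : B) (hϖ : Irreducible ϖ) (n : ℕ) (hn0 : n ≠ 0)
    (hn : (maximalIdeal A).map (algebraMap A B) = Ideal.span {ϖ ^ n}) (x : B) :
    dblQuotEquiv A B ϖ hϖ n hn0 hn (Ideal.Quotient.mk _ (Ideal.Quotient.mk _ x)) = residue B x := rfl

attribute [local instance] Ideal.Quotient.field in
/-- The trace formula modulo the maximal ideal, in terms of the residue fields. -/
theorem residue_trace_eq (ϖ : B) (hϖ : Irreducible ϖ) (n : ℕ) (hn0 : n ≠ 0)
    (hn : (maximalIdeal A).map (algebraMap A B) = Ideal.span {ϖ ^ n}) (x : B) :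
    residue A (Algebra.trace A B x) =
      (n : ResidueField A) * Algebra.trace (ResidueField A) (ResidueField B) (residue B x) := by
  have hfree : Module.Free A B := inferInstance
  have h1 := Algebra.trace_quotient_mk (R := A) (S := B) x
  have h2 := trace_quotient_eq A B ϖ hϖ n hn x
  let e₁ : (A ⧸ maximalIdeal A) ≃+* ResidueField A := RingEquiv.refl (ResidueField A)
  let e₂ := dblQuotEquiv A B ϖ hϖ n hn0 hn
  have he : RingHom.comp (algebraMap (ResidueField A) (ResidueField B))
      (e₁ : (A ⧸ maximalIdeal A) →+* ResidueField A) =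
      RingHom.comp e₂.toRingHom (algebraMap (A ⧸ maximalIdeal A) _) := by
    apply Ideal.Quotient.ringHom_ext
    ext a
    rfl
  have h3 := Algebra.trace_eq_of_equiv_equiv e₁ e₂ he
    (Ideal.Quotient.mk _ (Ideal.Quotient.mk _ x))
  have h5 : e₂ (Ideal.Quotient.mk _ (Ideal.Quotient.mk _ x)) = residue B x := rfl
  rw [h5] at h3
  have h4 : residue A (Algebra.trace A B x) = Ideal.Quotient.mk (maximalIdeal A) (Algebra.trace A B x) :=
    rfl
  rw [h4, ← h1, h2, h3, nsmul_eq_mul]
  rfl

end Groth.Agent.Lib.T2H3.TameDiff
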