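import Mathlib
import Groth.Agent.Lib.T2H3TameDiff

/-!
# The different of a finite extension of discrete valuation rings and tameness (helper3, team 2)
-/

set_option autoImplicit false
universe u

attribute [local instance] FractionRing.liftAlgebra FractionRing.isScalarTower_liftAlgebra
  Ideal.Quotient.field

namespace Groth.Agent.Lib.T2H3.TameDiff

open IsLocalRing nonZeroDivisors Algebra

variable (A B : Type u) [CommRing A] [IsDomain A] [IsDiscreteValuationRing A]
    [CommRing B] [IsDomain B] [IsDiscreteValuationRing B] [Algebra A B] [Module.Finite A B]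
    [Module.IsTorsionFree A B] [IsLocalHom (algebraMap A B)]
    [Algebra.IsSeparable (FractionRing A) (FractionRing B)]

set_option linter.overlappingInstances false

theorem differentIdeal_le_map_of_forall_intTrace_mem
    (h : ∀ x : B, Algebra.intTrace A B x ∈ maximalIdeal A) :
    differentIdeal A B ≤ (maximalIdeal A).map (algebraMap A B) := by
  let K := FractionRing A
  let L := FractionRing B
  have hp : maximalIdeal A ≠ ⊥ := IsDiscreteValuationRing.not_a_field A
  have hp' : (maximalIdeal A).map (algebraMap A B) ≠ ⊥ := map_maximalIdeal_ne_bot A B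
  have : IsLocalization (algebraMapSubmonoid B A⁰) (FractionRing B) :=
    IsIntegralClosure.isLocalization _ (FractionRing A) _ _
  have : FiniteDimensional (FractionRing A) (FractionRing B) := .of_isLocalization A B A⁰
  have hP : ((((maximalIdeal A).map (algebraMap A B) : Ideal B) : FractionalIdeal B⁰ L))⁻¹ =
      ((⊤ : Ideal B) : FractionalIdeal B⁰ L) / ((maximalIdeal A).map (algebraMap A B) : Ideal B) := by
    rw [FractionalIdeal.coeIdeal_top, FractionalIdeal.inv_eq]
  rw [differentialIdeal_le_iff (K := K) (L := L) hp', hP, Submodule.map_le_iff_le_comap]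
  intro x hx
  rw [Submodule.restrictScalars_mem, FractionalIdeal.mem_coe,
    FractionalIdeal.mem_div_iff_of_ne_zero (by simpa using hp')] at hx
  rw [Submodule.mem_comap, LinearMap.coe_restrictScalars, ← FractionalIdeal.coe_one,
    ← div_self (G₀ := FractionalIdeal A⁰ K) (a := (maximalIdeal A : Ideal A)) (by simpa using hp),
    FractionalIdeal.mem_coe, FractionalIdeal.mem_div_iff_of_ne_zero (by simpa using hp)]
  simp only [FractionalIdeal.mem_coeIdeal, forall_exists_index, and_imp,
    forall_apply_eq_imp_iff₂] at hx
  intro y hy'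
  obtain ⟨y, hy, rfl : algebraMap A K _ = _⟩ := (FractionalIdeal.mem_coeIdeal _).mp hy'
  obtain ⟨z, hz, hz'⟩ := hx _ (Ideal.mem_map_of_mem _ hy)
  have : Algebra.trace K L (algebraMap B L z) ∈ ((maximalIdeal A : Ideal A) : FractionalIdeal A⁰ K) := by
    rw [← algebraMap_intTrace (A := A)]
    exact ⟨intTrace A B z, h z, rfl⟩
  rwa [mul_comm, ← smul_eq_mul, ← map_smul, Algebra.smul_def, mul_comm,
    ← IsScalarTower.algebraMap_apply, IsScalarTower.algebraMap_apply A B L, ← hz']

theorem differentIdeal_le_map_iff :
    differentIdeal A B ≤ (maximalIdeal A).map (algebraMap A B) ↔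
      ∀ x : B, Algebra.intTrace A B x ∈ maximalIdeal A := by
  constructor
  · intro h x
    by_contra hx
    have := not_dvd_differentIdeal_of_intTrace_not_mem A
      ((maximalIdeal A).map (algebraMap A B)) ⊤ (Ideal.mul_top _) x trivial hx
    exact this (Ideal.dvd_iff_le.mpr h)
  · exact differentIdeal_le_map_of_forall_intTrace_mem A B

end Groth.Agent.Lib.T2H3.TameDiff
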