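import Groth.Agent.Lib.T2H5GrSyzMain
import Groth.Agent.Lib.T2H5GrFreeSect
import Groth.Agent.Lib.T2H5GrSerreVan
import Groth.Agent.Lib.T2H5KosSurj3
import Groth.Agent.Lib.T2H5RegRes2
import Groth.Agent.Lib.T2H5MulTrick
import Groth.Agent.Lib.T2H5RegRes
import Groth.Agent.Lib.Helper2RelTildeMonoEpi

/-! Sheaf-side lemmas on the modules `M(n)~` on projective space (helper3), towards the comparison
of module regularity and sheaf regularity: short exact sequences of graded modules give short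
exact sequences of the attached modules. -/

set_option autoImplicit false
set_option linter.unusedSectionVars false
set_option linter.style.haveILetI false
universe u

open CategoryTheory CategoryTheory.Limits AlgebraicGeometry TopologicalSpace Opposite

namespace Groth.Agent.Lib.T2H3.Til

open Groth.Agent.Lib.Helper2GrModSect Groth.Agent.Lib.T2H5.GrSyzLoc

section Map

variable {A σ : Type u} [CommRing A] [SetLike σ A] [AddSubgroupClass σ A] (𝒜 : ℕ → σ)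
  [GradedRing 𝒜]
variable {M₁ τ₁ : Type u} [AddCommGroup M₁] [Module A M₁] [SetLike τ₁ M₁] [AddSubgroupClass τ₁ M₁]
  (ℳ₁ : ℕ → τ₁) [SetLike.GradedSMul 𝒜 ℳ₁]
variable {M₂ τ₂ : Type u} [AddCommGroup M₂] [Module A M₂] [SetLike τ₂ M₂] [AddSubgroupClass τ₂ M₂]
  (ℳ₂ : ℕ → τ₂) [SetLike.GradedSMul 𝒜 ℳ₂]
variable {M₃ τ₃ : Type u} [AddCommGroup M₃] [Module A M₃] [SetLike τ₃ M₃] [AddSubgroupClass τ₃ M₃]
  (ℳ₃ : ℕ → τ₃) [SetLike.GradedSMul 𝒜 ℳ₃]

/-- an injective homogeneous map is injective on sections of the attached modules -/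
theorem app_injective_map (u : M₁ →ₗ[A] M₂) (hu : ∀ (i : ℕ) (m : M₁), m ∈ ℳ₁ i → u m ∈ ℳ₂ i)
    (hinj : Function.Injective u) (n : ℤ) (W : (Proj 𝒜).Opens) :
    Function.Injective ((GrMod.map 𝒜 u hu n).app W) := by
  intro s s' h
  apply sec_ext'
  intro y hy
  have h1 := congrArg (fun t => secVal 𝒜 ℳ₂ n W t y hy) h
  simp only [secVal_map_app] at h1
  exact LocalizedModule.map_injective _ u hinj h1

theorem mono_map (u : M₁ →ₗ[A] M₂) (hu : ∀ (i : ℕ) (m : M₁), m ∈ ℳ₁ i → u m ∈ ℳ₂ i)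
    (hinj : Function.Injective u) (n : ℤ) : Mono (GrMod.map 𝒜 u hu n) :=
  Groth.Agent.Lib.Helper2.RelTildeMonoEpi.mono_of_app_injective _
    (fun W => app_injective_map 𝒜 ℳ₁ ℳ₂ u hu hinj n W)

/-- a short exact sequence of graded modules gives a short exact sequence of modules on `Proj` -/
theorem shortExact_map (u : M₁ →ₗ[A] M₂) (hu : ∀ (i : ℕ) (m : M₁), m ∈ ℳ₁ i → u m ∈ ℳ₂ i)
    (v : M₂ →ₗ[A] M₃) (hv : ∀ (i : ℕ) (m : M₂), m ∈ ℳ₂ i → v m ∈ ℳ₃ i)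
    (hinj : Function.Injective u)
    (hex : Function.Exact u v)
    (H1 : ∀ (i : ℕ) (m : M₁), u m ∈ ℳ₂ i → ∃ m' ∈ ℳ₁ i, u m' = u m)
    (H3 : ∀ (y : ProjectiveSpectrum 𝒜) (i : ℕ) (m : M₂), m ∈ ℳ₂ i → ∀ c : A,
      c ∉ y.asHomogeneousIdeal → c • v m = 0 →
        ∃ (e : ℕ) (c' : A), c' ∈ 𝒜 e ∧ c' ∉ y.asHomogeneousIdeal ∧ c' • v m = 0)
    (hsurj : ∀ (i : ℕ) (m : M₃), m ∈ ℳ₃ i → ∃ m' ∈ ℳ₂ i, v m' = m)
    (n : ℤ) :
    (ShortComplex.mk (GrMod.map 𝒜 u hu n) (GrMod.map 𝒜 v hv n)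
      (map_comp_eq_zero 𝒜 ℳ₁ ℳ₂ ℳ₃ u hu v hv (by
        ext m
        exact hex.apply_apply_eq_zero m) n)).ShortExact := by
  haveI := mono_map 𝒜 ℳ₁ ℳ₂ u hu hinj n
  haveI := epi_map 𝒜 ℳ₂ ℳ₃ v hv hsurj n
  exact { exact := exact_map 𝒜 ℳ₁ ℳ₂ ℳ₃ u hu v hv hex H1 H3 n _ }

end Map




section NatDec

variable {k : Type u} [Field k] {M : Type u} [AddCommGroup M] [Module k M]
  (ℳ : ℤ → Submodule k M) [DirectSum.Decomposition ℳ]

/-- a `ℤ`-grading without negative pieces restricts to an `ℕ`-grading -/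
theorem isInternal_nat (hneg : ∀ j : ℤ, j < 0 → ℳ j = ⊥) :
    DirectSum.IsInternal (fun n : ℕ => ℳ (n : ℤ)) := by
  have hint := DirectSum.Decomposition.isInternal ℳ
  rw [DirectSum.isInternal_submodule_iff_iSupIndep_and_iSup_eq_top] at hint ⊢
  refine ⟨hint.1.comp Nat.cast_injective, ?_⟩
  rw [eq_top_iff, ← hint.2]
  apply iSup_le
  intro j
  by_cases hj : 0 ≤ j
  · obtain ⟨n, rfl⟩ := Int.eq_ofNat_of_zero_le hj
    exact le_iSup (fun n : ℕ => ℳ (n : ℤ)) n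
  · rw [hneg j (by omega)]
    exact bot_le

/-- the induced `ℕ`-decomposition -/
@[instance_reducible]
noncomputable def natDec (hneg : ∀ j : ℤ, j < 0 → ℳ j = ⊥) :
    DirectSum.Decomposition (fun n : ℕ => ℳ (n : ℤ)) :=
  (isInternal_nat ℳ hneg).chooseDecomposition

end NatDec

end Groth.Agent.Lib.T2H3.Til
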