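import Groth.Agent.Lib.T2H3TilA

/-! Sheaf-side lemmas on the modules `M(n)~` on projective space, part 2 (helper3):
compatibility of the multiplication maps and Mumford's generation lemma for the twists `M(e)~`. -/

set_option autoImplicit false
set_option linter.unusedSectionVars false
set_option linter.style.haveILetI false
universe u

open CategoryTheory CategoryTheory.Limits AlgebraicGeometry TopologicalSpace Opposite

namespace Groth.Agent.Lib.T2H3.Til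

open Groth.Agent.Lib.Helper27GrTildeSect Groth.Agent.Lib.Helper23.SecTw
  Groth.Agent.Lib.T2H5.KosNu

section Compat

variable {R A : Type u} [CommRing R] [CommRing A] [Algebra R A] (𝒜 : ℕ → Submodule R A)
  [GradedAlgebra 𝒜]
variable {M : Type u} [AddCommGroup M] [Module R M] [Module A M] [IsScalarTower R A M]
  (ℳ : ℕ → Submodule R M) [DirectSum.Decomposition ℳ] [SetLike.GradedSMul 𝒜 ℳ]

/-- multiplying the `O(k)`-factor by a form of degree one and then multiplying into `M`, or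
multiplying into `M` first: the same -/
theorem map_nu_mulHom {b : A} (hb : b ∈ 𝒜 1) {p k k' q q' : ℤ} (h : p + k = q) (h' : p + k' = q')
    (hk : k + 1 = k') (hq : q + 1 = q') :
    (DCoh.tensorBi.obj (GrTilde.tilde 𝒜 ℳ p)).map (nu 𝒜 𝒜 hb hk) ≫ mulHom 𝒜 ℳ h' =
      mulHom 𝒜 ℳ h ≫ nu 𝒜 ℳ hb hq := by
  apply Groth.Agent.Lib.T2H5.MulTrick.hom_ext_tm
  intro W m s
  change (mulHom 𝒜 ℳ h').app W (((DCoh.tensorBi.obj (GrTilde.tilde 𝒜 ℳ p)).map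
      (nu 𝒜 𝒜 hb hk)).app W (tm _ _ W m s)) =
    (nu 𝒜 ℳ hb hq).app W ((mulHom 𝒜 ℳ h).app W (tm _ _ W m s))
  rw [Groth.Agent.Lib.T2H5.GlobGenQ.tensorBi_map_tm, mulHom_tm, mulHom_tm, nu_app, nu_app]
  apply sec_ext
  intro y hy
  unfold nuSec
  rw [secVal_mulSec, secVal_mulSec, secVal_mulSec, secVal_mulSec]
  exact @mul_smul (Twist.Loc 𝒜 y) (GrTilde.LocMod 𝒜 (M := M) y) _ _
    (show Twist.Loc 𝒜 y from secVal 𝒜 𝒜 1 W (oneSec 𝒜 W hb) y hy)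
    (show Twist.Loc 𝒜 y from secVal 𝒜 𝒜 k W s y hy) (secVal 𝒜 ℳ p W m y hy)

end Compat

section Gen

variable (r : ℕ) (k : Type u) [CommRing k]

local notation "SS" => MvPolynomial (Fin (r + 1)) k
local notation "𝒢" => CohB1.polyGrading r k

variable {M : Type u} [AddCommGroup M] [Module k M] [Module (MvPolynomial (Fin (r + 1)) k) M]
  [IsScalarTower k (MvPolynomial (Fin (r + 1)) k) M]
  (𝒩 : ℕ → Submodule k M) [DirectSum.Decomposition 𝒩]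
  [SetLike.GradedSMul (CohB1.polyGrading r k) 𝒩]

open Groth.Agent.Lib.T2H5.KosPn in
/-- Mumford's generation lemma for the twists `M(e)~`: if `H^j(M~(e - j)) = 0` for `1 ≤ j ≤ r`
then every global section of `M(e+1)~` is a sum of multiples `x_j · u` of global sections of
`M(e)~`. -/
theorem gen_succ (e : ℕ) (hq : (e : ℤ) + 1 = ((e + 1 : ℕ) : ℤ))
    (hv : ∀ j : ℕ, 1 ≤ j → j ≤ r → Subsingleton (Coh.HH (CohB1.ProjSpace r k)
      (CohB1.tensorMod (GrTilde.tilde 𝒢 𝒩 0) (Twist.twistProjSpace r k ((e : ℤ) - j))) j))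
    (t : Γ(GrTilde.tilde 𝒢 𝒩 ((e + 1 : ℕ) : ℤ), ⊤)) :
    t ∈ AddSubgroup.closure {w : Γ(GrTilde.tilde 𝒢 𝒩 ((e + 1 : ℕ) : ℤ), ⊤) |
      ∃ (j : Fin (r + 1)) (u : Γ(GrTilde.tilde 𝒢 𝒩 (e : ℤ), ⊤)),
        w = nuSec 𝒢 𝒩 (Groth.Agent.Lib.Helper27ProjGamma.hX r k j) hq ⊤ u} := by
  have h0 : (0 : ℤ) + (e : ℤ) = (e : ℤ) := zero_add _
  have h0' : (0 : ℤ) + ((e + 1 : ℕ) : ℤ) = ((e + 1 : ℕ) : ℤ) := zero_add _
  haveI hiso := Groth.Agent.Lib.T2H5.GrSerreVan.isIso_mulHom r k 𝒩 (e + 1) h0'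
  have hv' : ∀ j : ℕ, 1 ≤ j → j ≤ r → Subsingleton (Coh.HH (CohB1.ProjSpace r k)
      (GF r k (GrTilde.tilde 𝒢 𝒩 0) ((e : ℤ) - j)) j) := fun j h1 h2 => hv j h1 h2
  have hcl := Groth.Agent.Lib.T2H5.KosSurj.mem_closure_mul r k (GrTilde.tilde 𝒢 𝒩 0) (e : ℤ) hv'
    ((inv (mulHom 𝒢 𝒩 h0')).app ⊤ t)
  have hback : (mulHom 𝒢 𝒩 h0').app ⊤ ((inv (mulHom 𝒢 𝒩 h0')).app ⊤ t) = t := by
    have h1 : (inv (mulHom 𝒢 𝒩 h0') ≫ mulHom 𝒢 𝒩 h0').app ⊤ t = t := by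
      rw [IsIso.inv_hom_id]
      rfl
    exact h1
  rw [← hback]
  refine AddSubgroup.closure_induction
    (p := fun w _ => (mulHom 𝒢 𝒩 h0').app ⊤ w ∈ AddSubgroup.closure
      {w : Γ(GrTilde.tilde 𝒢 𝒩 ((e + 1 : ℕ) : ℤ), ⊤) |
        ∃ (j : Fin (r + 1)) (u : Γ(GrTilde.tilde 𝒢 𝒩 (e : ℤ), ⊤)),
          w = nuSec 𝒢 𝒩 (Groth.Agent.Lib.Helper27ProjGamma.hX r k j) hq ⊤ u})
    ?_ ?_ ?_ ?_ hcl
  · rintro w ⟨j, u, rfl⟩
    apply AddSubgroup.subset_closure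
    refine ⟨j, (mulHom 𝒢 𝒩 h0).app ⊤ u, ?_⟩
    have hcomp := map_nu_mulHom 𝒢 𝒩 (Groth.Agent.Lib.Helper27ProjGamma.hX r k j) h0 h0' hq hq
    have h2 := congrArg (fun φ => φ.app ⊤ u) hcomp
    rw [← nu_app]
    exact h2
  · rw [map_zero]
    exact zero_mem _
  · intro x y _ _ hx hy
    rw [map_add]
    exact add_mem hx hy
  · intro x _ hx
    rw [map_neg]
    exact neg_mem hx

/-- `M~ ⊗ O(e) ≅ M(e)~` for `e ≥ 0` -/
noncomputable def twIso (e : ℕ) :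
    CohB1.tensorMod (GrTilde.tilde 𝒢 𝒩 0) (GrTilde.tilde 𝒢 𝒢 (e : ℤ)) ≅
      GrTilde.tilde 𝒢 𝒩 (e : ℤ) :=
  haveI := Groth.Agent.Lib.T2H5.GrSerreVan.isIso_mulHom r k 𝒩 e (zero_add _)
  asIso (mulHom 𝒢 𝒩 (zero_add _ : (0 : ℤ) + (e : ℤ) = (e : ℤ)))

open Groth.Agent.Lib.T2H5.GrAlpha in
/-- the value of `x_j · α(m)` -/
theorem nuSec_alpha (e : ℕ) (hq : (e : ℤ) + 1 = ((e + 1 : ℕ) : ℤ)) (j : Fin (r + 1)) (m : 𝒩 e)
    (hm : (MvPolynomial.X j : MvPolynomial (Fin (r + 1)) k) • (m : M) ∈ 𝒩 (e + 1)) :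
    nuSec 𝒢 𝒩 (Groth.Agent.Lib.Helper27ProjGamma.hX r k j) hq ⊤ (alpha 𝒢 𝒩 e m) =
      alpha 𝒢 𝒩 (e + 1) ⟨_, hm⟩ := by
  apply sec_ext
  intro y hy
  unfold nuSec
  rw [secVal_mulSec]
  unfold oneSec
  rw [secVal_fracSec]
  change (Localization.mk (MvPolynomial.X j) (⟨1, _⟩ : y.asHomogeneousIdeal.toIdeal.primeCompl) :
      Twist.Loc 𝒢 y) • (LocalizedModule.mk (m : M) 1 : GrTilde.LocMod 𝒢 (M := M) y) =
    LocalizedModule.mk ((MvPolynomial.X j : MvPolynomial (Fin (r + 1)) k) • (m : M)) 1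
  rw [LocalizedModule.mk_smul_mk, mul_one]
  rfl

open Groth.Agent.Lib.T2H5.GrAlpha in
/-- under the regularity hypothesis at `e`, if `M_e → Γ(M(e)~)` is onto then every global section
of `M(e+1)~` comes from an element of `M_{e+1}` lying in `S_1 · M_e` -/
theorem exists_alpha_of_gen (e : ℕ)
    (hv : ∀ j : ℕ, 1 ≤ j → j ≤ r → Subsingleton (Coh.HH (CohB1.ProjSpace r k)
      (CohB1.tensorMod (GrTilde.tilde 𝒢 𝒩 0) (Twist.twistProjSpace r k ((e : ℤ) - j))) j))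
    (hsurj : Function.Surjective (alpha 𝒢 𝒩 e))
    (t : Γ(GrTilde.tilde 𝒢 𝒩 ((e + 1 : ℕ) : ℤ), ⊤)) :
    ∃ m' : 𝒩 (e + 1), (m' : M) ∈ AddSubgroup.closure {z : M | ∃ (j : Fin (r + 1)) (m : 𝒩 e),
      z = (MvPolynomial.X j : MvPolynomial (Fin (r + 1)) k) • (m : M)} ∧
      t = alpha 𝒢 𝒩 (e + 1) m' := by
  have hq : (e : ℤ) + 1 = ((e + 1 : ℕ) : ℤ) := by push_cast; rfl
  have hcl := gen_succ r k 𝒩 e hq hv t
  refine AddSubgroup.closure_induction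
    (p := fun t _ => ∃ m' : 𝒩 (e + 1), (m' : M) ∈ AddSubgroup.closure
      {z : M | ∃ (j : Fin (r + 1)) (m : 𝒩 e),
        z = (MvPolynomial.X j : MvPolynomial (Fin (r + 1)) k) • (m : M)} ∧
      t = alpha 𝒢 𝒩 (e + 1) m') ?_ ?_ ?_ ?_ hcl
  · rintro w ⟨j, u, rfl⟩
    obtain ⟨m, rfl⟩ := hsurj u
    have hm : (MvPolynomial.X j : MvPolynomial (Fin (r + 1)) k) • (m : M) ∈ 𝒩 (e + 1) := by
      have := SetLike.GradedSMul.smul_mem (A := 𝒢) (B := 𝒩)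
        (Groth.Agent.Lib.Helper27ProjGamma.hX r k j) m.2
      rw [vadd_eq_add, add_comm] at this
      exact this
    exact ⟨⟨_, hm⟩, AddSubgroup.subset_closure ⟨j, m, rfl⟩, nuSec_alpha r k 𝒩 e hq j m hm⟩
  · exact ⟨0, zero_mem _, (alpha_zero 𝒢 𝒩 (e + 1)).symm⟩
  · rintro x y _ _ ⟨m₁, h₁, rfl⟩ ⟨m₂, h₂, rfl⟩
    exact ⟨m₁ + m₂, add_mem h₁ h₂, (alpha_add 𝒢 𝒩 (e + 1) m₁ m₂).symm⟩
  · rintro x _ ⟨m₁, h₁, rfl⟩
    refine ⟨-m₁, neg_mem h₁, ?_⟩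
    exact ((alphaHom 𝒢 𝒩 (e + 1)).map_neg m₁).symm

end Gen

end Groth.Agent.Lib.T2H3.Til
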