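import Groth.Agent.Lib.T2H3TilB
import Groth.Agent.Lib.T2H3EGE

/-! Sheaf-side lemmas on the modules `M(n)~` on projective space, part 3 (helper3):
graded free modules with their `ℤ`-grading by strands, truncated to `ℕ`. -/

set_option autoImplicit false
set_option linter.unusedSectionVars false
set_option linter.style.haveILetI false
universe u

open CategoryTheory CategoryTheory.Limits AlgebraicGeometry TopologicalSpace Opposite

namespace Groth.Agent.Lib.T2H3.Til

open Groth.Agent.Helper13Hilb Groth.Agent.Lib.T2H5.GrSyzAlg Groth.Agent.Lib.T2H5.GrFree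
  Groth.Agent.Lib.T2H5.GrAlpha

variable (k : Type u) [Field k] (r : ℕ)

local notation "SS" => MvPolynomial (Fin (r + 1)) k
local notation "𝒢" => CohB1.polyGrading r k
local notation "𝒵" => GrSyz.stdGr k (Fin (r + 1))

section Trunc

variable {M : Type u} [AddCommGroup M] [Module k M] [Module (MvPolynomial (Fin (r + 1)) k) M]
  [IsScalarTower k (MvPolynomial (Fin (r + 1)) k) M]
  (ℳ : ℤ → Submodule k M) [SetLike.GradedSMul (GrSyz.stdGr k (Fin (r + 1))) ℳ]

/-- the truncation to `ℕ` of a `ℤ`-graded module over the polynomial ring is graded over the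
`ℕ`-graded polynomial ring -/
theorem truncGSMul : SetLike.GradedSMul (CohB1.polyGrading r k) (fun n : ℕ => ℳ (n : ℤ)) where
  smul_mem := by
    intro i j a m ha hm
    have h := SetLike.GradedSMul.smul_mem (A := 𝒵) (B := ℳ) (mem_stdGr_of_mem k r ha) hm
    rw [vadd_eq_add] at h ⊢
    push_cast
    exact h

end Trunc

section Free

variable {s : ℕ} (c : Fin s → ℤ)

theorem strandNat_eq_shiftFam :
    (fun n : ℕ => strand 𝒵 c (n : ℤ)) = shiftFam k r c := by
  funext n
  ext v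
  rw [mem_strand, mem_shiftFam]

theorem shiftFam_eq_freeFam (a : Fin s → ℕ) :
    shiftFam k r (fun b => (a b : ℤ)) = freeFam 𝒢 a := by
  funext n
  ext v
  rw [mem_shiftFam, mem_freeFam]
  refine forall_congr' (fun b => ?_)
  by_cases h : a b ≤ n
  · rw [mem_piece_of_le 𝒢 h]
    have e : ((n : ℤ) - (a b : ℤ)) = ((n - a b : ℕ) : ℤ) := by omega
    rw [e, stdGr_natCast]
  · rw [mem_piece_of_lt 𝒢 (by omega), stdGr_neg k r _ (by omega), Submodule.mem_bot]

instance strandNat_gsmul :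
    SetLike.GradedSMul (CohB1.polyGrading r k) (fun n : ℕ => strand 𝒵 c (n : ℤ)) := by
  rw [strandNat_eq_shiftFam]
  infer_instance

section Transfer

variable (𝒳 : ℕ → Submodule k (Fin s → MvPolynomial (Fin (r + 1)) k))
  [SetLike.GradedSMul (CohB1.polyGrading r k) 𝒳]

theorem alpha_surjective_of_eq (a : Fin s → ℕ) (h : 𝒳 = freeFam 𝒢 a) (n : ℕ)
    (hn : ∀ b, a b ≤ n) : Function.Surjective (alpha 𝒢 𝒳 n) := by
  subst h
  exact fun σ => Groth.Agent.Lib.T2H5.GrFreeSect.alpha_free_surjective r k a n hn σ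

theorem alpha_injective_of_eq (a : Fin s → ℕ) (h : 𝒳 = freeFam 𝒢 a) (n : ℕ) (f : 𝒳 n)
    (hf : alpha 𝒢 𝒳 n f = 0) : f = 0 := by
  subst h
  exact Groth.Agent.Lib.T2H5.GrFreeSect.alpha_free_injective r k a n f hf

theorem subsingleton_HH_tw_of_eq (h : 𝒳 = shiftFam k r c) (d : ℤ) (i : ℕ) (hi : 1 ≤ i)
    (hc : ∀ b, c b ≤ d) :
    Subsingleton (Coh.HH (CohB1.ProjSpace r k)
      (CohB1.tensorMod (GrTilde.tilde 𝒢 𝒳 0) (Twist.twistProjSpace r k (d - i))) i) := by
  subst h
  have := Groth.Agent.Lib.T2H5.GrSyzMain.subsingleton_HH_EE k r c d 0 i hi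
    (fun b => by simpa using hc b)
  exact this

theorem subsingleton_HH_one_of_eq (a : Fin s → ℕ) (h : 𝒳 = freeFam 𝒢 a) (d : ℕ)
    (ha : ∀ b, a b ≤ d + 1) :
    Subsingleton (Coh.HH (CohB1.ProjSpace r k) (GrTilde.tilde 𝒢 𝒳 (d : ℤ)) 1) := by
  have h1 : Subsingleton (Coh.HH (CohB1.ProjSpace r k)
      (CohB1.tensorMod (GrTilde.tilde 𝒢 𝒳 0)
        (Twist.twistProjSpace r k (((d : ℤ) + 1) - (1 : ℕ)))) 1) :=
    subsingleton_HH_tw_of_eq k r (fun b => (a b : ℤ)) 𝒳
      (h.trans (shiftFam_eq_freeFam k r a).symm) ((d : ℤ) + 1) 1 le_rfl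
      (fun b => by exact_mod_cast ha b)
  have e : ((d : ℤ) + 1) - ((1 : ℕ) : ℤ) = (d : ℤ) := by push_cast; ring
  rw [e] at h1
  subst h
  exact Groth.Agent.Lib.T2H5.PnStruct.subsingleton_HH_of_iso (twIso r k (freeFam 𝒢 a) d) 1 h1

end Transfer

end Free

end Groth.Agent.Lib.T2H3.Til
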