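import Groth.Agent.Lib.T2H3TilC

/-! Sheaf-side lemmas on the modules `M(n)~` on projective space, part 4 (helper3):
the property `PP` (sheaf regularity + comparison map conditions) and its consequences by
Mumford's lemma: generation in degrees `≤ d`. -/

set_option autoImplicit false
set_option linter.unusedSectionVars false
set_option linter.style.haveILetI false
universe u

open CategoryTheory CategoryTheory.Limits AlgebraicGeometry TopologicalSpace Opposite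

namespace Groth.Agent.Lib.T2H3.Til

open Groth.Agent.Helper13Hilb Groth.Agent.Lib.T2H5.GrSyzAlg Groth.Agent.Lib.T2H5.GrFree
  Groth.Agent.Lib.T2H5.GrAlpha

variable (k : Type u) [Field k] (r : ℕ)

local notation "SS" => MvPolynomial (Fin (r + 1)) k
local notation "𝒢" => CohB1.polyGrading r k
local notation "𝒵" => GrSyz.stdGr k (Fin (r + 1))

variable {N : Type u} [AddCommGroup N] [Module k N] [Module (MvPolynomial (Fin (r + 1)) k) N]
  [IsScalarTower k (MvPolynomial (Fin (r + 1)) k) N]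
  (𝒩 : ℤ → Submodule k N) [DirectSum.Decomposition 𝒩]
  [SetLike.GradedSMul (GrSyz.stdGr k (Fin (r + 1))) 𝒩]
  [SetLike.GradedSMul (CohB1.polyGrading r k) (fun n : ℕ => 𝒩 (n : ℤ))]

omit [DirectSum.Decomposition 𝒩] [SetLike.GradedSMul (GrSyz.stdGr k (Fin (r + 1))) 𝒩] in
/-- the sheaf-side regularity package: the sheaf `N~` is `d`-regular (in all cohomological
degrees), the comparison maps `N_e → Γ(N(e)~)` are injective for `e > d`, and
`N_d → Γ(N(d)~)` is surjective -/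
def PP (d : ℕ) : Prop :=
  (∀ i : ℕ, 1 ≤ i → Subsingleton (Coh.HH (CohB1.ProjSpace r k)
    (CohB1.tensorMod (GrTilde.tilde 𝒢 (fun n : ℕ => 𝒩 (n : ℤ)) 0)
      (Twist.twistProjSpace r k ((d : ℤ) - i))) i)) ∧
  (∀ e : ℕ, d < e → ∀ m : (fun n : ℕ => 𝒩 (n : ℤ)) e,
    alpha 𝒢 (fun n : ℕ => 𝒩 (n : ℤ)) e m = 0 → m = 0) ∧
  Function.Surjective (alpha 𝒢 (fun n : ℕ => 𝒩 (n : ℤ)) d)

variable {𝒩}

open Groth.Agent.Lib.T2H5.KosPn in
/-- the regularity hypothesis of Mumford's generation lemma in every degree `d + t` -/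
theorem PP.reg_add {d : ℕ} (hP : PP k r 𝒩 d) (t : ℕ) (j : ℕ) (hj : 1 ≤ j) :
    Subsingleton (Coh.HH (CohB1.ProjSpace r k)
      (CohB1.tensorMod (GrTilde.tilde 𝒢 (fun n : ℕ => 𝒩 (n : ℤ)) 0)
        (Twist.twistProjSpace r k (((d + t : ℕ) : ℤ) - j))) j) := by
  have h1 : ∀ i : ℕ, 1 ≤ i → Subsingleton (Coh.HH (CohB1.ProjSpace r k)
      (GF r k (GrTilde.tilde 𝒢 (fun n : ℕ => 𝒩 (n : ℤ)) 0) ((d : ℤ) - i)) i) :=
    fun i hi => hP.1 i hi
  have h2 := regular_add r k (GrTilde.tilde 𝒢 (fun n : ℕ => 𝒩 (n : ℤ)) 0) (d : ℤ) h1 t j hj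
  have e : ((d + t : ℕ) : ℤ) - j = (d : ℤ) + (t : ℤ) - j := by push_cast; ring
  rw [e]
  exact h2

variable (hneg : ∀ j : ℤ, j < 0 → 𝒩 j = ⊥)

include hneg in
/-- Mumford: the comparison maps are onto in all degrees `≥ d`, and `N_{e+1} = S_1 N_e` for
`e ≥ d` -/
theorem PP.surj_and_gen {d : ℕ} (hP : PP k r 𝒩 d) (t : ℕ) :
    Function.Surjective (alpha 𝒢 (fun n : ℕ => 𝒩 (n : ℤ)) (d + t)) ∧
    ∀ m : N, m ∈ 𝒩 ((d + t + 1 : ℕ) : ℤ) → m ∈ AddSubgroup.closure
      {z : N | ∃ (j : Fin (r + 1)) (m' : N), m' ∈ 𝒩 ((d + t : ℕ) : ℤ) ∧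
        z = (MvPolynomial.X j : MvPolynomial (Fin (r + 1)) k) • m'} := by
  letI := natDec 𝒩 hneg
  induction t with
  | zero =>
    refine ⟨hP.2.2, fun m hm => ?_⟩
    obtain ⟨m', hm'cl, hm'⟩ := exists_alpha_of_gen r k (fun n : ℕ => 𝒩 (n : ℤ)) (d + 0)
      (fun j h1 _ => hP.reg_add k r 0 j h1) hP.2.2
      (alpha 𝒢 (fun n : ℕ => 𝒩 (n : ℤ)) (d + 0 + 1) ⟨m, hm⟩)
    have h0 : alpha 𝒢 (fun n : ℕ => 𝒩 (n : ℤ)) (d + 0 + 1) (⟨m, hm⟩ - m') = 0 := by
      have := (alphaHom 𝒢 (fun n : ℕ => 𝒩 (n : ℤ)) (d + 0 + 1)).map_sub ⟨m, hm⟩ m'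
      rw [alphaHom_apply, alphaHom_apply, alphaHom_apply, ← hm', sub_self] at this
      exact this
    have h1 := hP.2.1 (d + 0 + 1) (by omega) _ h0
    have h2 : m = (m' : N) := by
      have := congrArg Subtype.val h1
      simpa [sub_eq_zero] using this
    rw [h2]
    refine AddSubgroup.closure_mono ?_ hm'cl
    rintro z ⟨j, m'', rfl⟩
    exact ⟨j, m'', m''.2, rfl⟩
  | succ t ih =>
    obtain ⟨hs, -⟩ := ih
    have hsurj : Function.Surjective (alpha 𝒢 (fun n : ℕ => 𝒩 (n : ℤ)) (d + (t + 1))) := by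
      intro σ
      obtain ⟨m', -, hm'⟩ := exists_alpha_of_gen r k (fun n : ℕ => 𝒩 (n : ℤ)) (d + t)
        (fun j h1 _ => hP.reg_add k r t j h1) hs σ
      exact ⟨m', hm'.symm⟩
    refine ⟨hsurj, fun m hm => ?_⟩
    obtain ⟨m', hm'cl, hm'⟩ := exists_alpha_of_gen r k (fun n : ℕ => 𝒩 (n : ℤ)) (d + (t + 1))
      (fun j h1 _ => hP.reg_add k r (t + 1) j h1) hsurj
      (alpha 𝒢 (fun n : ℕ => 𝒩 (n : ℤ)) (d + (t + 1) + 1) ⟨m, hm⟩)
    have h0 : alpha 𝒢 (fun n : ℕ => 𝒩 (n : ℤ)) (d + (t + 1) + 1) (⟨m, hm⟩ - m') = 0 := by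
      have := (alphaHom 𝒢 (fun n : ℕ => 𝒩 (n : ℤ)) (d + (t + 1) + 1)).map_sub ⟨m, hm⟩ m'
      rw [alphaHom_apply, alphaHom_apply, alphaHom_apply, ← hm', sub_self] at this
      exact this
    have h1 := hP.2.1 (d + (t + 1) + 1) (by omega) _ h0
    have h2 : m = (m' : N) := by
      have := congrArg Subtype.val h1
      simpa [sub_eq_zero] using this
    rw [h2]
    refine AddSubgroup.closure_mono ?_ hm'cl
    rintro z ⟨j, m'', rfl⟩
    exact ⟨j, m'', m''.2, rfl⟩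

include hneg in
/-- under `PP`, the module is generated in degrees `≤ d` -/
theorem PP.span_eq_top {d : ℕ} (hP : PP k r 𝒩 d) :
    Submodule.span (MvPolynomial (Fin (r + 1)) k)
      (⋃ n ∈ {n : ℕ | n ≤ d}, (𝒩 (n : ℤ) : Set N)) = ⊤ := by
  classical
  have key : ∀ n : ℕ, ∀ m : N, m ∈ 𝒩 (n : ℤ) → m ∈ Submodule.span (MvPolynomial (Fin (r + 1)) k)
      (⋃ n ∈ {n : ℕ | n ≤ d}, (𝒩 (n : ℤ) : Set N)) := by
    intro n
    induction n with
    | zero =>
      intro m hm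
      apply Submodule.subset_span
      simp only [Set.mem_iUnion, Set.mem_ofPred_eq]
      exact ⟨0, Nat.zero_le d, hm⟩
    | succ n ih =>
      intro m hm
      by_cases hnd : n + 1 ≤ d
      · apply Submodule.subset_span
        simp only [Set.mem_iUnion, Set.mem_ofPred_eq]
        exact ⟨n + 1, hnd, hm⟩
      · obtain ⟨t, rfl⟩ : ∃ t, n = d + t := ⟨n - d, by omega⟩
        have hcl := (hP.surj_and_gen k r hneg t).2 m hm
        have hle : AddSubgroup.closure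
            {z : N | ∃ (j : Fin (r + 1)) (m' : N), m' ∈ 𝒩 ((d + t : ℕ) : ℤ) ∧
              z = (MvPolynomial.X j : MvPolynomial (Fin (r + 1)) k) • m'} ≤
            (Submodule.span (MvPolynomial (Fin (r + 1)) k)
              (⋃ n ∈ {n : ℕ | n ≤ d}, (𝒩 (n : ℤ) : Set N))).toAddSubgroup := by
          rw [AddSubgroup.closure_le]
          rintro z ⟨j, m', hm', rfl⟩
          exact Submodule.smul_mem _ _ (ih m' hm')
        exact hle hcl
  rw [eq_top_iff]
  intro m _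
  rw [← DirectSum.sum_support_decompose 𝒩 m]
  refine Submodule.sum_mem _ (fun j _ => ?_)
  by_cases hj : 0 ≤ j
  · obtain ⟨n, rfl⟩ := Int.eq_ofNat_of_zero_le hj
    exact key n _ (SetLike.coe_mem _)
  · have h0 : ((DirectSum.decompose 𝒩 m j : 𝒩 j) : N) = 0 := by
      have h1 : ∀ x : N, x ∈ 𝒩 j → x = 0 := by
        intro x hx
        rw [hneg j (by omega)] at hx
        exact (Submodule.mem_bot k).mp hx
      exact h1 _ (DirectSum.decompose 𝒩 m j).2
    rw [h0]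
    exact zero_mem _

include hneg in
/-- under `PP`, the module is the image of a graded free module with generators in degrees
`0 ≤ a_b ≤ d` -/
theorem PP.exists_cover [Module.Finite (MvPolynomial (Fin (r + 1)) k) N] {d : ℕ}
    (hP : PP k r 𝒩 d) :
    ∃ (s : ℕ) (a : Fin s → ℕ) (g : Fin s → N), (∀ b, g b ∈ 𝒩 (a b : ℤ)) ∧ (∀ b, a b ≤ d) ∧
      Function.Surjective (Fintype.linearCombination (MvPolynomial (Fin (r + 1)) k) g) := by
  classical
  have htop := hP.span_eq_top k r hneg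
  have hfg : (Submodule.span (MvPolynomial (Fin (r + 1)) k)
      (⋃ n ∈ {n : ℕ | n ≤ d}, (𝒩 (n : ℤ) : Set N))).FG := by
    rw [htop]
    exact Module.Finite.fg_top
  obtain ⟨T, hTS, hT⟩ := (Submodule.fg_span_iff_fg_span_finset_subset _).mp hfg
  have hmem : ∀ x : T, ∃ n : ℕ, n ≤ d ∧ (x : N) ∈ 𝒩 (n : ℤ) := by
    intro x
    have := hTS x.2
    simp only [Set.mem_iUnion, Set.mem_ofPred_eq] at this
    obtain ⟨n, hn, hx⟩ := this
    exact ⟨n, hn, hx⟩
  choose a ha using hmem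
  refine ⟨T.card, fun b => a (T.equivFin.symm b), fun b => (T.equivFin.symm b : N),
    fun b => (ha _).2, fun b => (ha _).1, ?_⟩
  rw [← LinearMap.range_eq_top, Fintype.range_linearCombination, ← htop, hT]
  congr 1
  ext x
  constructor
  · rintro ⟨b, rfl⟩
    exact (T.equivFin.symm b).2
  · intro hx
    exact ⟨T.equivFin ⟨x, hx⟩, by simp⟩

end Groth.Agent.Lib.T2H3.Til
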