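import Groth.Agent.Lib.T2H3TilD

/-! Sheaf-side lemmas on the modules `M(n)~` on projective space, part 5 (helper3):
the syzygy step: if `N` satisfies `PP` in degree `d` and `G → N` is a graded free cover with
generators in degrees `0 ≤ a_b ≤ d`, then the kernel satisfies `PP` in degree `d + 1`. -/

set_option autoImplicit false
set_option linter.unusedSectionVars false
set_option linter.style.haveILetI false
universe u

open CategoryTheory CategoryTheory.Limits AlgebraicGeometry TopologicalSpace Opposite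

namespace Groth.Agent.Lib.T2H3.Til

open Groth.Agent.Helper13Hilb Groth.Agent.Lib.T2H5.GrSyzAlg Groth.Agent.Lib.T2H5.GrFree
  Groth.Agent.Lib.T2H5.GrAlpha Groth.Agent.Lib.T2H3.EG Groth.Agent.Lib.T2H5.GrSyzLoc

variable (k : Type u) [Field k] (r : ℕ)

local notation "SS" => MvPolynomial (Fin (r + 1)) k
local notation "𝒢" => CohB1.polyGrading r k
local notation "𝒵" => GrSyz.stdGr k (Fin (r + 1))

section TwIso

variable {M : Type u} [AddCommGroup M] [Module k M] [Module (MvPolynomial (Fin (r + 1)) k) M]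
  [IsScalarTower k (MvPolynomial (Fin (r + 1)) k) M]
  (𝒯 : ℕ → Submodule k M) [DirectSum.Decomposition 𝒯]
  [SetLike.GradedSMul (CohB1.polyGrading r k) 𝒯]

theorem HH_tw_of_HH_tilde (e : ℕ) (i : ℕ)
    (h : Subsingleton (Coh.HH (CohB1.ProjSpace r k) (GrTilde.tilde 𝒢 𝒯 (e : ℤ)) i)) :
    Subsingleton (Coh.HH (CohB1.ProjSpace r k)
      (CohB1.tensorMod (GrTilde.tilde 𝒢 𝒯 0) (Twist.twistProjSpace r k (e : ℤ))) i) := by
  rw [Groth.Agent.Lib.T2H5.PnTop.twist_eq]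
  exact Groth.Agent.Lib.T2H5.PnStruct.subsingleton_HH_of_iso (twIso r k 𝒯 e).symm i h

theorem HH_tilde_of_HH_tw (e : ℕ) (i : ℕ)
    (h : Subsingleton (Coh.HH (CohB1.ProjSpace r k)
      (CohB1.tensorMod (GrTilde.tilde 𝒢 𝒯 0) (Twist.twistProjSpace r k (e : ℤ))) i)) :
    Subsingleton (Coh.HH (CohB1.ProjSpace r k) (GrTilde.tilde 𝒢 𝒯 (e : ℤ)) i) := by
  rw [Groth.Agent.Lib.T2H5.PnTop.twist_eq] at h
  exact Groth.Agent.Lib.T2H5.PnStruct.subsingleton_HH_of_iso (twIso r k 𝒯 e) i h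

end TwIso

variable {N : Type u} [AddCommGroup N] [Module k N] [Module (MvPolynomial (Fin (r + 1)) k) N]
  [IsScalarTower k (MvPolynomial (Fin (r + 1)) k) N]
  (𝒩 : ℤ → Submodule k N) [DirectSum.Decomposition 𝒩]
  [SetLike.GradedSMul (GrSyz.stdGr k (Fin (r + 1))) 𝒩]
  [SetLike.GradedSMul (CohB1.polyGrading r k) (fun n : ℕ => 𝒩 (n : ℤ))]

variable {s : ℕ} (a : Fin s → ℕ) (g : Fin s → N)

/-- the strands of a free module with generators in non-negative degrees vanish in negative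
degrees -/
theorem strand_neg (j : ℤ) (hj : j < 0) : strand 𝒵 (fun b => (a b : ℤ)) j = ⊥ := by
  rw [eq_bot_iff]
  intro v hv
  rw [mem_strand] at hv
  rw [Submodule.mem_bot]
  funext b
  have h1 := hv b
  rw [stdGr_neg k r _ (by omega)] at h1
  exact (Submodule.mem_bot k).mp h1

theorem subGrK_neg {P : Submodule (MvPolynomial (Fin (r + 1)) k) (Fin s → MvPolynomial (Fin (r + 1)) k)}
    (j : ℤ) (hj : j < 0) : subGrK (strand 𝒵 (fun b => (a b : ℤ))) P j = ⊥ := by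
  rw [eq_bot_iff]
  intro v hv
  rw [mem_subGrK, strand_neg k r a j hj] at hv
  rw [Submodule.mem_bot]
  exact Subtype.ext ((Submodule.mem_bot k).mp hv)

variable {𝒩}

theorem linComb_isGrHom (hg : ∀ b, g b ∈ 𝒩 (a b : ℤ)) :
    GrLC.IsGrHom (strand 𝒵 (fun b => (a b : ℤ))) 𝒩
      (Fintype.linearCombination (MvPolynomial (Fin (r + 1)) k) g) := by
  intro j v hv
  rw [mem_strand] at hv
  rw [Fintype.linearCombination_apply]
  refine Submodule.sum_mem _ (fun b _ => ?_)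
  exact smul_mem_int k r 𝒩 (hv b) (hg b) (by ring)

theorem ker_linComb_isHomogeneous (hg : ∀ b, g b ∈ 𝒩 (a b : ℤ)) :
    (LinearMap.ker (Fintype.linearCombination (MvPolynomial (Fin (r + 1)) k) g)).IsHomogeneous
      (strand 𝒵 (fun b => (a b : ℤ))) := by
  intro j v hv
  rw [LinearMap.mem_ker] at hv ⊢
  have h1 := Groth.Agent.Helper13Horseshoe.map_decompose
    (g := Fintype.linearCombination (MvPolynomial (Fin (r + 1)) k) g)
    (linComb_isGrHom k r a g hg) v j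
  rw [h1, hv, DirectSum.decompose_zero]
  rfl

set_option maxHeartbeats 1600000 in
/-- the syzygy step on the sheaf side -/
theorem PP.kernel {d : ℕ} (hP : PP k r 𝒩 d) (hg : ∀ b, g b ∈ 𝒩 (a b : ℤ))
    (ha : ∀ b, a b ≤ d)
    (hsurj : Function.Surjective (Fintype.linearCombination (MvPolynomial (Fin (r + 1)) k) g))
    [SetLike.GradedSMul (CohB1.polyGrading r k) (fun n : ℕ =>
      subGrK (strand 𝒵 (fun b => (a b : ℤ)))
        (LinearMap.ker (Fintype.linearCombination (MvPolynomial (Fin (r + 1)) k) g)) (n : ℤ))] :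
    PP k r (subGrK (strand 𝒵 (fun b => (a b : ℤ)))
      (LinearMap.ker (Fintype.linearCombination (MvPolynomial (Fin (r + 1)) k) g))) (d + 1) := by
  classical
  -- notation
  have hZ : (LinearMap.ker (Fintype.linearCombination (MvPolynomial (Fin (r + 1)) k) g)).IsHomogeneous
      (strand 𝒵 (fun b => (a b : ℤ))) := ker_linComb_isHomogeneous k r a g hg
  have hπg : GrLC.IsGrHom (strand 𝒵 (fun b => (a b : ℤ))) 𝒩
      (Fintype.linearCombination (MvPolynomial (Fin (r + 1)) k) g) := linComb_isGrHom k r a g hg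
  have hnegK : ∀ j : ℤ, j < 0 → subGrK (strand 𝒵 (fun b => (a b : ℤ)))
      (LinearMap.ker (Fintype.linearCombination (MvPolynomial (Fin (r + 1)) k) g)) j = ⊥ :=
    fun j hj => subGrK_neg k r a j hj
  have h𝒳 : (fun n : ℕ => strand 𝒵 (fun b => (a b : ℤ)) (n : ℤ)) = freeFam 𝒢 a := by
    rw [strandNat_eq_shiftFam]
    exact shiftFam_eq_freeFam k r a
  have hcd : ∀ b, (fun b => (a b : ℤ)) b ≤ (d : ℤ) := fun b => by
    change (a b : ℤ) ≤ (d : ℤ)
    exact_mod_cast ha b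
  set c : Fin s → ℤ := fun b => (a b : ℤ) with hc
  set π : (Fin s → MvPolynomial (Fin (r + 1)) k) →ₗ[MvPolynomial (Fin (r + 1)) k] N :=
    Fintype.linearCombination (MvPolynomial (Fin (r + 1)) k) g with hπdef
  letI decZ := subDecK (strand 𝒵 c) hZ
  haveI gsZ := sub_gradedSMulK 𝒵 (strand 𝒵 c) (LinearMap.ker π)
  letI natK := natDec (subGrK (strand 𝒵 c) (LinearMap.ker π)) hnegK
  -- the three `ℕ`-families
  have hι : ∀ (i : ℕ) (m : ↥(LinearMap.ker π)),
      m ∈ (fun n : ℕ => subGrK (strand 𝒵 c) (LinearMap.ker π) (n : ℤ)) i →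
      (LinearMap.ker π).subtype m ∈ (fun n : ℕ => strand 𝒵 c (n : ℤ)) i := fun _ _ h => h
  have hπ : ∀ (i : ℕ) (v : Fin s → MvPolynomial (Fin (r + 1)) k),
      v ∈ (fun n : ℕ => strand 𝒵 c (n : ℤ)) i → π v ∈ (fun n : ℕ => 𝒩 (n : ℤ)) i :=
    fun i v hv => hπg (i : ℤ) v hv
  have hsurj' : ∀ (i : ℕ) (m : N), m ∈ (fun n : ℕ => 𝒩 (n : ℤ)) i →
      ∃ v ∈ (fun n : ℕ => strand 𝒵 c (n : ℤ)) i, π v = m := by
    intro i m hm
    obtain ⟨v, rfl⟩ := hsurj m
    refine ⟨(DirectSum.decompose (strand 𝒵 c) v (i : ℤ) : Fin s → MvPolynomial (Fin (r + 1)) k),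
      SetLike.coe_mem _, ?_⟩
    rw [Groth.Agent.Helper13Horseshoe.map_decompose (g := π) hπg v (i : ℤ)]
    exact DirectSum.decompose_of_mem_same 𝒩 hm
  have hSES := fun n : ℤ => shortExact_map 𝒢
    (fun n : ℕ => subGrK (strand 𝒵 c) (LinearMap.ker π) (n : ℤ))
    (fun n : ℕ => strand 𝒵 c (n : ℤ)) (fun n : ℕ => 𝒩 (n : ℤ))
    (LinearMap.ker π).subtype hι π hπ Subtype.val_injective (LinearMap.exact_subtype_ker_map π)
    (fun i m h => ⟨m, h, rfl⟩)
    (fun y i m hm c' hc' h0 => exists_homogeneous_smul_eq_zero k r 𝒩 y (hπ i m hm) c' hc' h0)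
    hsurj' n
  refine ⟨?_, ?_, ?_⟩
  · -- P1
    intro i hi
    rcases Nat.lt_or_ge 1 i with hi2 | hi1
    · -- `i ≥ 2`
      obtain ⟨i', rfl⟩ : ∃ i', i = i' + 1 := ⟨i - 1, by omega⟩
      have e : (((d + 1 : ℕ) : ℤ) - ((i' + 1 : ℕ) : ℤ)) = (d : ℤ) - (i' : ℤ) := by
        push_cast; ring
      rw [e]
      have hS' := Groth.Agent.Lib.T2H5.Twist.shortExact_map_tw r k ((d : ℤ) - i') _ (hSES 0)
      have h3 : Subsingleton (Coh.HH (CohB1.ProjSpace r k)
          ((Groth.Agent.Lib.T2H5.Twist.tw r k ((d : ℤ) - i')).obj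
            (GrMod.tilde 𝒢 (fun n : ℕ => 𝒩 (n : ℤ)) 0)) i') := hP.1 i' (by omega)
      have h2 : Subsingleton (Coh.HH (CohB1.ProjSpace r k)
          ((Groth.Agent.Lib.T2H5.Twist.tw r k ((d : ℤ) - i')).obj
            (GrMod.tilde 𝒢 (fun n : ℕ => strand 𝒵 c (n : ℤ)) 0)) (i' + 1)) := by
        have h2' := subsingleton_HH_tw_of_eq k r c (fun n : ℕ => strand 𝒵 c (n : ℤ))
          (strandNat_eq_shiftFam k r c) ((d : ℤ) + 1) (i' + 1) (by omega)
          (fun b => by have := hcd b; omega)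
        have e2 : ((d : ℤ) + 1) - ((i' + 1 : ℕ) : ℤ) = (d : ℤ) - i' := by push_cast; ring
        rw [e2] at h2'
        exact h2'
      have h1 := Groth.Agent.Lib.T2H5.HHSub.subsingleton_X₁ _ hS' i' h3 h2
      exact h1
    · -- `i = 1`
      obtain rfl : i = 1 := by omega
      have e : (((d + 1 : ℕ) : ℤ) - ((1 : ℕ) : ℤ)) = (d : ℤ) := by push_cast; ring
      rw [e]
      have hΓ : Function.Surjective ((GrMod.map 𝒢 π hπ (d : ℤ)).app ⊤) := by
        intro t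
        obtain ⟨m, rfl⟩ := hP.2.2 t
        obtain ⟨v, hv, hvm⟩ := hsurj' d m.1 m.2
        refine ⟨alpha 𝒢 (fun n : ℕ => strand 𝒵 c (n : ℤ)) d ⟨v, hv⟩, ?_⟩
        have h3 := map_alpha 𝒢 (fun n : ℕ => strand 𝒵 c (n : ℤ)) (fun n : ℕ => 𝒩 (n : ℤ))
          π hπ d ⟨v, hv⟩
        refine h3.trans ?_
        congr 1
        exact Subtype.ext hvm
      have hG1 : Subsingleton (Coh.HH (CohB1.ProjSpace r k)
          (GrMod.tilde 𝒢 (fun n : ℕ => strand 𝒵 c (n : ℤ)) (d : ℤ)) 1) :=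
        subsingleton_HH_one_of_eq k r (fun n : ℕ => strand 𝒵 c (n : ℤ)) a h𝒳 d
          (fun b => (ha b).trans (Nat.le_succ d))
      have hS := hSES (d : ℤ)
      have hK1 := Groth.Agent.Lib.T2H5.RegRes.subsingleton_H1_of_surjective _ hS hΓ hG1
      have hK2 : Subsingleton (Coh.HH (CohB1.ProjSpace r k) (GrTilde.tilde 𝒢
          (fun n : ℕ => subGrK (strand 𝒵 c) (LinearMap.ker π) (n : ℤ)) (d : ℤ)) 1) := hK1
      exact HH_tw_of_HH_tilde k r
        (fun n : ℕ => subGrK (strand 𝒵 c) (LinearMap.ker π) (n : ℤ)) d 1 hK2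
  · -- P2
    intro e _ m hm
    have h1 := map_alpha 𝒢 (fun n : ℕ => subGrK (strand 𝒵 c) (LinearMap.ker π) (n : ℤ))
      (fun n : ℕ => strand 𝒵 c (n : ℤ)) (LinearMap.ker π).subtype hι e m
    rw [hm, map_zero] at h1
    have h2 := alpha_injective_of_eq k r (fun n : ℕ => strand 𝒵 c (n : ℤ)) a h𝒳 e _ h1.symm
    have h3 : (LinearMap.ker π).subtype m.1 = 0 := congrArg Subtype.val h2
    apply Subtype.ext
    apply Subtype.ext
    exact h3
  · -- P3
    intro σ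
    obtain ⟨v, hv⟩ := alpha_surjective_of_eq k r (fun n : ℕ => strand 𝒵 c (n : ℤ)) a h𝒳 (d + 1)
      (fun b => (ha b).trans (Nat.le_succ d))
      ((GrMod.map 𝒢 (LinearMap.ker π).subtype hι ((d + 1 : ℕ) : ℤ)).app ⊤ σ)
    have hcomp := map_comp_eq_zero 𝒢
      (fun n : ℕ => subGrK (strand 𝒵 c) (LinearMap.ker π) (n : ℤ))
      (fun n : ℕ => strand 𝒵 c (n : ℤ)) (fun n : ℕ => 𝒩 (n : ℤ))
      (LinearMap.ker π).subtype hι π hπ
      (LinearMap.ext fun m => LinearMap.mem_ker.mp m.2) ((d + 1 : ℕ) : ℤ)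
    have h0 : alpha 𝒢 (fun n : ℕ => 𝒩 (n : ℤ)) (d + 1) ⟨π v.1, hπ _ _ v.2⟩ = 0 := by
      rw [← map_alpha 𝒢 (fun n : ℕ => strand 𝒵 c (n : ℤ)) (fun n : ℕ => 𝒩 (n : ℤ)) π hπ
        (d + 1) v, hv]
      exact congrArg (fun φ => φ.app ⊤ σ) hcomp
    have h1 := hP.2.1 (d + 1) (Nat.lt_succ_self d) _ h0
    have hker : v.1 ∈ LinearMap.ker π := LinearMap.mem_ker.mpr (congrArg Subtype.val h1)
    refine ⟨⟨⟨v.1, hker⟩, v.2⟩, ?_⟩
    apply app_injective_map 𝒢 (fun n : ℕ => subGrK (strand 𝒵 c) (LinearMap.ker π) (n : ℤ))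
      (fun n : ℕ => strand 𝒵 c (n : ℤ)) (LinearMap.ker π).subtype hι Subtype.val_injective
      ((d + 1 : ℕ) : ℤ) ⊤
    rw [map_alpha]
    exact hv

end Groth.Agent.Lib.T2H3.Til
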