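import Groth.Agent.Lib.T2H3TilE

/-! Module regularity from sheaf regularity (helper3): the syzygy induction.  If a finitely
generated graded module `N` over the polynomial ring, without negative degrees, satisfies the
sheaf-side package `PP` in degree `d`, then `H^i_m(N)_{d - i + 1} = 0` for all `i ≥ 1`. -/

set_option autoImplicit false
set_option linter.unusedSectionVars false
set_option linter.style.haveILetI false
universe u

open CategoryTheory CategoryTheory.Limits AlgebraicGeometry TopologicalSpace Opposite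

namespace Groth.Agent.Lib.T2H3.Til

open GrLC Groth.Agent.Lib.T2H3.GrIrr Groth.Agent.Lib.T2H3.GrArt Groth.Agent.Lib.T2H3.GrTr
  Groth.Agent.Lib.T2H3.Serre Groth.Agent.Lib.T2H3.GrLes Groth.Agent.Lib.T2H3.MinRes
  Groth.Agent.Helper13Hilb Groth.Agent.Lib.Helper29GrShift Groth.Agent.Lib.Helper29GrSub
  Groth.Agent.Lib.T2H3.EG

variable (k : Type u) [Field k] (r : ℕ)

local notation "SS" => MvPolynomial (Fin (r + 1)) k
local notation "𝒢" => CohB1.polyGrading r k
local notation "𝒵" => GrSyz.stdGr k (Fin (r + 1))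

set_option maxHeartbeats 1600000 in
/-- the syzygy induction -/
theorem van_of_PP_aux : ∀ (t i : ℕ), i + t = r + 2 → 1 ≤ i →
    ∀ (N : Type u) [AddCommGroup N] [Module k N] [Module (MvPolynomial (Fin (r + 1)) k) N]
      [IsScalarTower k (MvPolynomial (Fin (r + 1)) k) N]
      [Module.Finite (MvPolynomial (Fin (r + 1)) k) N]
      (𝒩 : ℤ → Submodule k N) [DirectSum.Decomposition 𝒩]
      [SetLike.GradedSMul (GrSyz.stdGr k (Fin (r + 1))) 𝒩]
      [SetLike.GradedSMul (CohB1.polyGrading r k) (fun n : ℕ => 𝒩 (n : ℤ))]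
      (_ : ∀ j : ℤ, j < 0 → 𝒩 j = ⊥) (d : ℕ), PP k r 𝒩 d →
      Van k r 𝒩 i ((d : ℤ) - i + 1) := by
  intro t
  induction t with
  | zero =>
    intro i hi _ N _ _ _ _ _ 𝒩 _ _ _ _ d _ E
    exact Hcomp_eq_bot_of_lt (ringKrullDim_poly k r) E (by omega) _
  | succ t ih =>
    intro i hi hi1 N _ _ _ _ _ 𝒩 _ _ _ hneg d hP E''
    classical
    obtain ⟨s, a, g, hg, ha, hsurj⟩ := hP.exists_cover k r hneg
    have hZ := ker_linComb_isHomogeneous k r a g hg
    have hπg := linComb_isGrHom k r a g hg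
    have hnegK : ∀ j : ℤ, j < 0 → subGrK (strand 𝒵 (fun b => (a b : ℤ)))
        (LinearMap.ker (Fintype.linearCombination (MvPolynomial (Fin (r + 1)) k) g)) j = ⊥ :=
      fun j hj => subGrK_neg k r a j hj
    letI decZ := subDecK (strand 𝒵 (fun b => (a b : ℤ))) hZ
    haveI gsZ := sub_gradedSMulK 𝒵 (strand 𝒵 (fun b => (a b : ℤ)))
      (LinearMap.ker (Fintype.linearCombination (MvPolynomial (Fin (r + 1)) k) g))
    haveI gsN := truncGSMul k r (subGrK (strand 𝒵 (fun b => (a b : ℤ)))
      (LinearMap.ker (Fintype.linearCombination (MvPolynomial (Fin (r + 1)) k) g)))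
    have hPK := hP.kernel k r a g hg ha hsurj
    have hvK := ih (i + 1) (by omega) (by omega) _ _ hnegK (d + 1) hPK
    have ej : (((d + 1 : ℕ) : ℤ) - ((i + 1 : ℕ) : ℤ) + 1) = (d : ℤ) - i + 1 := by
      push_cast; ring
    rw [ej] at hvK
    obtain ⟨E', -⟩ : ∃ E' : StarInjRes (PA k r)
        (asGr (subGrK (strand 𝒵 (fun b => (a b : ℤ)))
          (LinearMap.ker (Fintype.linearCombination (MvPolynomial (Fin (r + 1)) k) g)))),
        True := ⟨minRes _ _, trivial⟩
    obtain ⟨E, -⟩ : ∃ E : StarInjRes (PA k r) (FA k r (fun b => (a b : ℤ))), True :=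
      ⟨minRes _ _, trivial⟩
    have hS : GrSES (asGr (subGrK (strand 𝒵 (fun b => (a b : ℤ)))
        (LinearMap.ker (Fintype.linearCombination (MvPolynomial (Fin (r + 1)) k) g))))
        (FA k r (fun b => (a b : ℤ))) (asGr 𝒩)
        (LinearMap.ker (Fintype.linearCombination (MvPolynomial (Fin (r + 1)) k) g)).subtype
        (Fintype.linearCombination (MvPolynomial (Fin (r + 1)) k) g) :=
      ⟨fun g z hz => hz, fun g v hv => hπg g v hv, Submodule.injective_subtype _, hsurj,
        (Submodule.range_subtype _).symm⟩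
    refine Groth.Agent.Lib.T2H3.QReg.Hcomp_eq_bot_of_ses hS E' E E'' (Pm k r) i _ ?_ (hvK E')
    refine Hcomp_strand_eq_bot k r s (fun b => (a b : ℤ)) i _ (fun b hi' => ?_) E
    have := ha b
    change -((r : ℤ) + 1) < (d : ℤ) - i + 1 - (a b : ℤ)
    omega

end Groth.Agent.Lib.T2H3.Til
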