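import Groth.Agent.Lib.T2H3TilF
import Groth.Agent.Lib.T2H5GrSerre

/-! Sheaf consequences of module regularity (helper3): if a finitely generated graded module `N`
over the polynomial ring, without negative degrees, has regularity `≤ d`, then the comparison map
`N_d → Γ(N(d)~)` is surjective. -/

set_option autoImplicit false
set_option linter.unusedSectionVars false
set_option linter.style.haveILetI false
universe u

open CategoryTheory CategoryTheory.Limits AlgebraicGeometry TopologicalSpace Opposite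

namespace Groth.Agent.Lib.T2H3.Til

open GrLC Groth.Agent.Lib.T2H3.GrLes
  Groth.Agent.Helper13Hilb Groth.Agent.Lib.T2H5.GrSyzAlg Groth.Agent.Lib.T2H5.GrFree
  Groth.Agent.Lib.T2H5.GrAlpha Groth.Agent.Lib.T2H3.EG Groth.Agent.Lib.T2H5.GrSyzLoc

variable (k : Type u) [Field k] (r : ℕ)

local notation "SS" => MvPolynomial (Fin (r + 1)) k
local notation "𝒢" => CohB1.polyGrading r k
local notation "𝒵" => GrSyz.stdGr k (Fin (r + 1))

variable {N : Type u} [AddCommGroup N] [Module k N] [Module (MvPolynomial (Fin (r + 1)) k) N]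
  [IsScalarTower k (MvPolynomial (Fin (r + 1)) k) N]
  [Module.Finite (MvPolynomial (Fin (r + 1)) k) N]
  (𝒩 : ℤ → Submodule k N) [DirectSum.Decomposition 𝒩]
  [SetLike.GradedSMul (GrSyz.stdGr k (Fin (r + 1))) 𝒩]
  [SetLike.GradedSMul (CohB1.polyGrading r k) (fun n : ℕ => 𝒩 (n : ℤ))]

set_option maxHeartbeats 1600000 in
/-- regularity `≤ d` forces `N_d → Γ(N(d)~)` to be onto -/
theorem alpha_surjective_of_isRegLE (hneg : ∀ j : ℤ, j < 0 → 𝒩 j = ⊥) (d : ℕ)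
    (hreg : GrSyz.IsRegLE (GrSyz.stdGr k (Fin (r + 1))) 𝒩
      (GrSyz.irrel (GrSyz.stdGr k (Fin (r + 1)))).toIdeal (d : ℤ)) :
    Function.Surjective (alpha 𝒢 (fun n : ℕ => 𝒩 (n : ℤ)) d) := by
  classical
  obtain ⟨F, hFmin, hFgen⟩ := id hreg
  -- the cover
  obtain ⟨a, had⟩ : ∃ a : Fin (F.rk 0) → ℕ, a = fun b => (F.deg 0 b).toNat := ⟨_, rfl⟩
  have hg : ∀ b, F.aug b ∈ 𝒩 (a b : ℤ) := by
    intro b
    by_cases h : 0 ≤ F.deg 0 b
    · have e : ((a b : ℕ) : ℤ) = F.deg 0 b := by rw [had]; exact Int.toNat_of_nonneg h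
      rw [e]
      exact F.aug_mem b
    · have h0 : F.aug b = 0 := by
        have := F.aug_mem b
        rw [hneg _ (by omega)] at this
        exact (Submodule.mem_bot k).mp this
      rw [h0]
      exact zero_mem _
  have ha : ∀ b, a b ≤ d := by
    intro b
    have := hFgen 0 b
    rw [had]
    change (F.deg 0 b).toNat ≤ d
    push_cast at this
    omega
  have hsurj : Function.Surjective
      (Fintype.linearCombination (MvPolynomial (Fin (r + 1)) k) F.aug) := F.aug_surjective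
  obtain ⟨g, hgdef⟩ : ∃ g : Fin (F.rk 0) → N, g = F.aug := ⟨_, rfl⟩
  rw [← hgdef] at hg hsurj
  have hZ := ker_linComb_isHomogeneous k r a g hg
  have hπg := linComb_isGrHom k r a g hg
  have hnegK : ∀ j : ℤ, j < 0 → subGrK (strand 𝒵 (fun b => (a b : ℤ)))
      (LinearMap.ker (Fintype.linearCombination (MvPolynomial (Fin (r + 1)) k) g)) j = ⊥ :=
    fun j hj => subGrK_neg k r a j hj
  have h𝒳 : (fun n : ℕ => strand 𝒵 (fun b => (a b : ℤ)) (n : ℤ)) = freeFam 𝒢 a := by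
    rw [strandNat_eq_shiftFam]
    exact shiftFam_eq_freeFam k r a
  set c : Fin (F.rk 0) → ℤ := fun b => (a b : ℤ) with hc
  set π : (Fin (F.rk 0) → MvPolynomial (Fin (r + 1)) k) →ₗ[MvPolynomial (Fin (r + 1)) k] N :=
    Fintype.linearCombination (MvPolynomial (Fin (r + 1)) k) g with hπdef
  letI decZ := subDecK (strand 𝒵 c) hZ
  haveI gsZ := sub_gradedSMulK 𝒵 (strand 𝒵 c) (LinearMap.ker π)
  haveI gsN := truncGSMul k r (subGrK (strand 𝒵 c) (LinearMap.ker π))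
  letI natK := natDec (subGrK (strand 𝒵 c) (LinearMap.ker π)) hnegK
  -- regularity of the kernel
  have hregG : GrSyz.IsRegLE 𝒵 (strand 𝒵 c) (GrSyz.irrel 𝒵).toIdeal ((d : ℤ) + 1) :=
    isRegLE_strand 𝒵 c _ ((d : ℤ) + 1) (fun b => by
      have := ha b
      change (a b : ℤ) ≤ (d : ℤ) + 1
      omega)
  have hregK : GrSyz.IsRegLE 𝒵 (subGrK (strand 𝒵 c) (LinearMap.ker π))
      (GrSyz.irrel 𝒵).toIdeal ((d : ℤ) + 1) := by
    have h := Groth.Agent.Helper13RegSES.ses_sub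
      (ℳ₁ := subGrK (strand 𝒵 c) (LinearMap.ker π))
      (LinearMap.ker π).subtype π
      (Submodule.injective_subtype _) hsurj (Submodule.range_subtype _) 0
      (fun g z hz => by rw [add_zero]; exact hz) hπg ((d : ℤ) + 1) hregG
      (by rw [add_sub_cancel_right]; exact hreg)
    rwa [sub_zero] at h
  obtain ⟨FK, -, hgenK⟩ := hregK
  have hMR := Groth.Agent.Lib.T2H5.GrSyzMain.isMRegular_tilde k r
    (subGrK (strand 𝒵 c) (LinearMap.ker π)) FK ((d : ℤ) + 1) hgenK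
  have hcoh : Coh.IsCoh (GrTilde.tilde 𝒢
      (fun n : ℕ => subGrK (strand 𝒵 c) (LinearMap.ker π) (n : ℤ)) 0) :=
    Groth.Agent.Lib.T2H5.GrSerreVan.isCoh_tilde_zero r k
      (fun n : ℕ => subGrK (strand 𝒵 c) (LinearMap.ker π) (n : ℤ))
  have h1 := Groth.Agent.Lib.T2H5.RegRes.regular_all r k _ hcoh ((d : ℤ) + 1) hMR 1 le_rfl
  have e1 : ((d : ℤ) + 1) - ((1 : ℕ) : ℤ) = (d : ℤ) := by push_cast; ring
  rw [e1] at h1
  have hK1 := HH_tilde_of_HH_tw k r
    (fun n : ℕ => subGrK (strand 𝒵 c) (LinearMap.ker π) (n : ℤ)) d 1 h1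
  -- the short exact sequence of sheaves in twist `d`
  have hι : ∀ (i : ℕ) (m : ↥(LinearMap.ker π)),
      m ∈ (fun n : ℕ => subGrK (strand 𝒵 c) (LinearMap.ker π) (n : ℤ)) i →
      (LinearMap.ker π).subtype m ∈ (fun n : ℕ => strand 𝒵 c (n : ℤ)) i := fun _ _ h => h
  have hπ : ∀ (i : ℕ) (v : Fin (F.rk 0) → MvPolynomial (Fin (r + 1)) k),
      v ∈ (fun n : ℕ => strand 𝒵 c (n : ℤ)) i → π v ∈ (fun n : ℕ => 𝒩 (n : ℤ)) i :=
    fun i v hv => hπg (i : ℤ) v hv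
  have hsurj' : ∀ (i : ℕ) (m : N), m ∈ (fun n : ℕ => 𝒩 (n : ℤ)) i →
      ∃ v ∈ (fun n : ℕ => strand 𝒵 c (n : ℤ)) i, π v = m := by
    intro i m hm
    obtain ⟨v, rfl⟩ := hsurj m
    refine ⟨(DirectSum.decompose (strand 𝒵 c) v (i : ℤ) :
      Fin (F.rk 0) → MvPolynomial (Fin (r + 1)) k), SetLike.coe_mem _, ?_⟩
    rw [Groth.Agent.Helper13Horseshoe.map_decompose (g := π) hπg v (i : ℤ)]
    exact DirectSum.decompose_of_mem_same 𝒩 hm
  have hSES := shortExact_map 𝒢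
    (fun n : ℕ => subGrK (strand 𝒵 c) (LinearMap.ker π) (n : ℤ))
    (fun n : ℕ => strand 𝒵 c (n : ℤ)) (fun n : ℕ => 𝒩 (n : ℤ))
    (LinearMap.ker π).subtype hι π hπ Subtype.val_injective (LinearMap.exact_subtype_ker_map π)
    (fun i m h => ⟨m, h, rfl⟩)
    (fun y i m hm c' hc' h0 => exists_homogeneous_smul_eq_zero k r 𝒩 y (hπ i m hm) c' hc' h0)
    hsurj' (d : ℤ)
  have hK1' : Subsingleton (Coh.HH (CohB1.ProjSpace r k) (GrMod.tilde 𝒢
      (fun n : ℕ => subGrK (strand 𝒵 c) (LinearMap.ker π) (n : ℤ)) (d : ℤ)) 1) := hK1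
  have hΓ := Groth.Agent.Lib.T2H5.GrSerre.surjective_app_top_of_subsingleton k _ hSES hK1'
  intro t
  obtain ⟨σ, hσ⟩ := hΓ t
  obtain ⟨v, hv⟩ := alpha_surjective_of_eq k r (fun n : ℕ => strand 𝒵 c (n : ℤ)) a h𝒳 d ha σ
  refine ⟨⟨π v.1, hπ d v.1 v.2⟩, ?_⟩
  have h3 := map_alpha 𝒢 (fun n : ℕ => strand 𝒵 c (n : ℤ)) (fun n : ℕ => 𝒩 (n : ℤ))
    π hπ d v
  rw [← h3, hv]
  exact hσ

end Groth.Agent.Lib.T2H3.Til
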