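import Groth.Agent.Lib.T2H3TilG
import Groth.Agent.Lib.T2H3RegG

/-! Truncation of a graded module over the polynomial ring to nonnegative degrees (helper3):
`M_{≥0} ⊆ M` is a homogeneous submodule with torsion cokernel; transfer of local cohomology
vanishing between `M_{≥0}` and `M`. -/

set_option autoImplicit false
set_option linter.unusedSectionVars false
set_option linter.style.haveILetI false
universe u

open CategoryTheory CategoryTheory.Limits AlgebraicGeometry TopologicalSpace Opposite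

namespace Groth.Agent.Lib.T2H3.Til

open GrLC Groth.Agent.Lib.T2H3.GrIrr Groth.Agent.Lib.T2H3.GrArt Groth.Agent.Lib.T2H3.GrTr
  Groth.Agent.Lib.T2H3.Serre Groth.Agent.Lib.T2H3.GrLes Groth.Agent.Lib.T2H3.MinRes
  Groth.Agent.Helper13Hilb Groth.Agent.Lib.Helper29GrShift Groth.Agent.Lib.Helper29GrSub
  Groth.Agent.Lib.T2H3.EG Groth.Agent.Helper13GrQuotMod Groth.Agent.Lib.T2H3.GrTors

variable (k : Type u) [Field k] (r : ℕ)

local notation "SS" => MvPolynomial (Fin (r + 1)) k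
local notation "𝒢" => CohB1.polyGrading r k
local notation "𝒵" => GrSyz.stdGr k (Fin (r + 1))

section Gen

variable {R : Type u} [CommRing R] {𝒜 : ℤ → AddSubgroup R} [GradedRing 𝒜]
  {M : Type u} [AddCommGroup M] [Module R M] {ℳ : ℤ → AddSubgroup M}
  [DirectSum.Decomposition ℳ] [SetLike.GradedSMul 𝒜 ℳ]

/-- `H^0_a(M)_n = 0` when `M_n = 0` -/
theorem Hcomp_zero_eq_bot_of_piece (E : StarInjRes 𝒜 ℳ) (a : HomogeneousIdeal 𝒜) (n : ℤ)
    (h : ℳ n = ⊥) : E.Hcomp a 0 n = ⊥ := by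
  classical
  rw [Submodule.eq_bot_iff]
  rintro y ⟨z, hz, rfl⟩
  have hzr : (z : (E.X 0).carrier) ∈ LinearMap.range E.ε := by
    rw [← E.exact_zero]
    exact ((mem_cocyc E a 0).mp z.2).2
  obtain ⟨x, hx, hxz⟩ := exists_mem_piece_of_mem_range ℳ (E.X 0).gr E.ε E.ε_grHom hz hzr
  rw [h] at hx
  have hx0 : x = 0 := AddSubgroup.mem_bot.mp hx
  have hz0 : z = 0 := by
    apply Subtype.ext
    rw [← hxz, hx0, map_zero]
    rfl
  rw [hz0, map_zero]

end Gen

section Alg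

variable {M : Type u} [AddCommGroup M] [Module k M] [Module (MvPolynomial (Fin (r + 1)) k) M]
  [IsScalarTower k (MvPolynomial (Fin (r + 1)) k) M]
  (ℳ : ℤ → Submodule k M) [DirectSum.Decomposition ℳ]
  [SetLike.GradedSMul (GrSyz.stdGr k (Fin (r + 1))) ℳ]

/-- the submodule `M_{≥0}` -/
noncomputable def posSub : Submodule (MvPolynomial (Fin (r + 1)) k) M :=
  Groth.Agent.Lib.T2H3.Reg.geSub (PA_pos k r) (asGr ℳ) 0

theorem mem_posSub {m : M} :
    m ∈ posSub k r ℳ ↔ ∀ j : ℤ, j < 0 → ((DirectSum.decompose ℳ m) j : M) = 0 := by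
  constructor
  · intro h j hj
    have h1 : ((DirectSum.decompose (asGr ℳ) m) j : M) = 0 := h j hj
    rwa [decompose_asGr] at h1
  · intro h j hj
    change ((DirectSum.decompose (asGr ℳ) m) j : M) = 0
    rw [decompose_asGr]
    exact h j hj

theorem mem_posSub_of_mem {n : ℤ} (hn : 0 ≤ n) {m : M} (hm : m ∈ ℳ n) : m ∈ posSub k r ℳ := by
  rw [mem_posSub]
  intro j hj
  exact DirectSum.decompose_of_mem_ne ℳ hm (by omega)

theorem posSub_isHomogeneous : (posSub k r ℳ).IsHomogeneous ℳ := by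
  intro i x hx
  rw [mem_posSub] at hx ⊢
  intro j hj
  by_cases hij : i = j
  · subst hij
    rw [DirectSum.decompose_of_mem_same ℳ (SetLike.coe_mem _)]
    exact hx i hj
  · exact DirectSum.decompose_of_mem_ne ℳ (SetLike.coe_mem _) hij

theorem posSub_neg (j : ℤ) (hj : j < 0) : subGrK ℳ (posSub k r ℳ) j = ⊥ := by
  rw [Submodule.eq_bot_iff]
  intro x hx
  have h1 : (x : M) ∈ ℳ j := hx
  have h2 := (mem_posSub k r ℳ).mp x.2 j hj
  rw [DirectSum.decompose_of_mem_same ℳ h1] at h2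
  exact Subtype.ext h2

theorem quotGr_posSub_eq_bot (n : ℤ) (hn : 0 ≤ n) : quotGr ℳ (posSub k r ℳ) n = ⊥ := by
  rw [Submodule.eq_bot_iff]
  rintro y ⟨a, ha, rfl⟩
  rw [mkK_apply, Submodule.Quotient.mk_eq_zero]
  exact mem_posSub_of_mem k r ℳ hn ha

end Alg

section Ses

variable {T' : Type u} [AddCommGroup T'] [Module k T'] [Module (MvPolynomial (Fin (r + 1)) k) T']
  [IsScalarTower k (MvPolynomial (Fin (r + 1)) k) T']
  (𝒯 : ℤ → Submodule k T') [DirectSum.Decomposition 𝒯]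
  [SetLike.GradedSMul (GrSyz.stdGr k (Fin (r + 1))) 𝒯]
  {N : Type u} [AddCommGroup N] [Module k N] [Module (MvPolynomial (Fin (r + 1)) k) N]
  [IsScalarTower k (MvPolynomial (Fin (r + 1)) k) N]
  (𝒩 : ℤ → Submodule k N) [DirectSum.Decomposition 𝒩]
  [SetLike.GradedSMul (GrSyz.stdGr k (Fin (r + 1))) 𝒩]
  {N' : Type u} [AddCommGroup N'] [Module k N'] [Module (MvPolynomial (Fin (r + 1)) k) N']
  [IsScalarTower k (MvPolynomial (Fin (r + 1)) k) N']
  (𝒩' : ℤ → Submodule k N') [DirectSum.Decomposition 𝒩']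
  [SetLike.GradedSMul (GrSyz.stdGr k (Fin (r + 1))) 𝒩']

/-- a submodule with torsion cokernel: `H^{i+1}_m(T)_j = 0 ⇒ H^{i+1}_m(N)_j = 0` -/
theorem van_mid_of_tors (f : T' →ₗ[MvPolynomial (Fin (r + 1)) k] N)
    (g : N →ₗ[MvPolynomial (Fin (r + 1)) k] N') (hfg : IsGrHom 𝒯 𝒩 f) (hgg : IsGrHom 𝒩 𝒩' g)
    (hf : Function.Injective f) (hg : Function.Surjective g)
    (hex : LinearMap.ker g = LinearMap.range f)
    (htors : gam (Pm k r).toIdeal N' = ⊤) (i : ℕ) (j : ℤ) (h : Van k r 𝒯 (i + 1) j) :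
    Van k r 𝒩 (i + 1) j := by
  intro E
  obtain ⟨E', -⟩ : ∃ E' : StarInjRes (PA k r) (asGr 𝒯), True := ⟨minRes _ _, trivial⟩
  have hS : GrSES (asGr 𝒯) (asGr 𝒩) (asGr 𝒩') f g :=
    ⟨fun g m hm => hfg g m hm, fun g m hm => hgg g m hm, hf, hg, hex⟩
  exact Groth.Agent.Lib.T2H3.Reg.Hcomp_mid_eq_bot_of_torsion hS E' E (Pm k r) htors i j (h E')

/-- a submodule with torsion cokernel `N'`: `H^i_m(N)_j = 0 ⇒ H^i_m(T)_j = 0`, provided
`N'_j = 0` when `i = 1` -/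
theorem van_sub_of_tors (f : T' →ₗ[MvPolynomial (Fin (r + 1)) k] N)
    (g : N →ₗ[MvPolynomial (Fin (r + 1)) k] N') (hfg : IsGrHom 𝒯 𝒩 f) (hgg : IsGrHom 𝒩 𝒩' g)
    (hf : Function.Injective f) (hg : Function.Surjective g)
    (hex : LinearMap.ker g = LinearMap.range f)
    (htors : gam (Pm k r).toIdeal N' = ⊤) (i : ℕ) (j : ℤ) (hj : i = 1 → 𝒩' j = ⊥)
    (h : Van k r 𝒩 i j) : Van k r 𝒯 i j := by
  intro E'
  obtain ⟨E, -⟩ : ∃ E : StarInjRes (PA k r) (asGr 𝒩), True := ⟨minRes _ _, trivial⟩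
  obtain ⟨E'', -⟩ : ∃ E'' : StarInjRes (PA k r) (asGr 𝒩'), True := ⟨minRes _ _, trivial⟩
  have hS : GrSES (asGr 𝒯) (asGr 𝒩) (asGr 𝒩') f g :=
    ⟨fun g m hm => hfg g m hm, fun g m hm => hgg g m hm, hf, hg, hex⟩
  cases i with
  | zero => exact Hcomp_eq_bot_sub_zero hS E' E E'' (Pm k r) j (h E)
  | succ i =>
    refine Hcomp_eq_bot_sub hS E' E E'' (Pm k r) i j (h E) ?_
    cases i with
    | zero =>
      apply Hcomp_zero_eq_bot_of_piece
      rw [AddSubgroup.eq_bot_iff_forall]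
      intro x hx
      have hx' : x ∈ 𝒩' j := hx
      rw [hj rfl] at hx'
      exact (Submodule.mem_bot k).mp hx'
    | succ i => exact Groth.Agent.Lib.T2H3.Reg.Hcomp_succ_eq_bot_of_torsion E'' (Pm k r) htors i j

end Ses

section Tors

open Groth.Agent.Lib.T2H5.GrAlpha

variable {N : Type u} [AddCommGroup N] [Module k N] [Module (MvPolynomial (Fin (r + 1)) k) N]
  [IsScalarTower k (MvPolynomial (Fin (r + 1)) k) N]
  (𝒯 : ℕ → Submodule k N) [DirectSum.Decomposition 𝒯]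
  [SetLike.GradedSMul (CohB1.polyGrading r k) 𝒯]

/-- an element killed by the comparison map is `m`-torsion -/
theorem mem_gam_of_alpha_eq_zero (n : ℕ) (m : 𝒯 n) (h : alpha 𝒢 𝒯 n m = 0) :
    (m : N) ∈ gam (Pm k r).toIdeal N := by
  have hX : ∀ l : Fin (r + 1), (MvPolynomial.X l : MvPolynomial (Fin (r + 1)) k) ∈
      (Ideal.torsionOf (MvPolynomial (Fin (r + 1)) k) N (m : N)).radical := by
    intro l
    obtain ⟨K, hK⟩ := exists_pow_smul_eq_zero_of_alpha_eq_zero 𝒢 𝒯 one_pos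
      (MvPolynomial.isHomogeneous_X k l) n m h
    exact ⟨K, (Ideal.mem_torsionOf_iff _ _).mpr (hK K le_rfl)⟩
  have hle : (Pm k r).toIdeal ≤
      (Ideal.torsionOf (MvPolynomial (Fin (r + 1)) k) N (m : N)).radical := by
    change (GrSyz.irrel (GrSyz.stdGr k (Fin (r + 1)))).toIdeal ≤ _
    rw [Groth.Agent.Helper13RegCount.irrel_eq_span_X k (r + 1), Ideal.span_le]
    rintro _ ⟨l, rfl⟩
    exact hX l
  obtain ⟨K, hK⟩ := Ideal.exists_pow_le_of_le_radical_of_fg hle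
    ((inferInstance : IsNoetherianRing (MvPolynomial (Fin (r + 1)) k)).noetherian _)
  exact ⟨K, fun s hs => (Ideal.mem_torsionOf_iff _ _).mp (hK hs)⟩

end Tors

section Pos

variable {M : Type u} [AddCommGroup M] [Module k M] [Module (MvPolynomial (Fin (r + 1)) k) M]
  [IsScalarTower k (MvPolynomial (Fin (r + 1)) k) M]
  (ℳ : ℤ → Submodule k M) [DirectSum.Decomposition ℳ]
  [SetLike.GradedSMul (GrSyz.stdGr k (Fin (r + 1))) ℳ]

theorem gam_quot_posSub : gam (Pm k r).toIdeal (M ⧸ posSub k r ℳ) = ⊤ := by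
  have hP := posSub_isHomogeneous k r ℳ
  have hP' : IsHomog ℳ (posSub k r ℳ) := fun d y hy => hP d hy
  letI decQ := quotDecomposition hP'
  haveI gsQ := quot_gradedSMul (𝒜 := GrSyz.stdGr k (Fin (r + 1))) ℳ (posSub k r ℳ)
  refine Groth.Agent.Lib.T2H3.QReg.gam_eq_top_of_pieces_vanish (PA k r)
    (asGr (quotGr ℳ (posSub k r ℳ))) _ (Groth.Agent.Lib.T2H3.QReg.irrel_le_irr k r) (N₀ := 0)
    (fun n hn => ?_)
  rw [AddSubgroup.eq_bot_iff_forall]
  intro x hx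
  have hx' : x ∈ quotGr ℳ (posSub k r ℳ) n := hx
  rw [quotGr_posSub_eq_bot k r ℳ n hn] at hx'
  exact (Submodule.mem_bot k).mp hx'

variable [DirectSum.Decomposition (subGrK ℳ (posSub k r ℳ))]
  [SetLike.GradedSMul (GrSyz.stdGr k (Fin (r + 1))) (subGrK ℳ (posSub k r ℳ))]

/-- `H^{i+1}_m(M_{≥0})_j = 0 ⇒ H^{i+1}_m(M)_j = 0` -/
theorem van_of_van_posSub (i : ℕ) (j : ℤ) (h : Van k r (subGrK ℳ (posSub k r ℳ)) (i + 1) j) :
    Van k r ℳ (i + 1) j := by
  have hP := posSub_isHomogeneous k r ℳ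
  have hP' : IsHomog ℳ (posSub k r ℳ) := fun d y hy => hP d hy
  letI decQ := quotDecomposition hP'
  haveI gsQ := quot_gradedSMul (𝒜 := GrSyz.stdGr k (Fin (r + 1))) ℳ (posSub k r ℳ)
  exact van_mid_of_tors k r (subGrK ℳ (posSub k r ℳ)) ℳ (quotGr ℳ (posSub k r ℳ))
    (posSub k r ℳ).subtype (posSub k r ℳ).mkQ (fun g z hz => hz) (mkQ_isGrHom ℳ _)
    (Submodule.injective_subtype _) (Submodule.mkQ_surjective _)
    (by rw [Submodule.ker_mkQ, Submodule.range_subtype]) (gam_quot_posSub k r ℳ) i j h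

/-- `H^i_m(M)_j = 0 ⇒ H^i_m(M_{≥0})_j = 0`, provided `j ≥ 0` when `i = 1` -/
theorem van_posSub_of_van (i : ℕ) (j : ℤ) (hj : i = 1 → 0 ≤ j) (h : Van k r ℳ i j) :
    Van k r (subGrK ℳ (posSub k r ℳ)) i j := by
  have hP := posSub_isHomogeneous k r ℳ
  have hP' : IsHomog ℳ (posSub k r ℳ) := fun d y hy => hP d hy
  letI decQ := quotDecomposition hP'
  haveI gsQ := quot_gradedSMul (𝒜 := GrSyz.stdGr k (Fin (r + 1))) ℳ (posSub k r ℳ)
  exact van_sub_of_tors k r (subGrK ℳ (posSub k r ℳ)) ℳ (quotGr ℳ (posSub k r ℳ))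
    (posSub k r ℳ).subtype (posSub k r ℳ).mkQ (fun g z hz => hz) (mkQ_isGrHom ℳ _)
    (Submodule.injective_subtype _) (Submodule.mkQ_surjective _)
    (by rw [Submodule.ker_mkQ, Submodule.range_subtype]) (gam_quot_posSub k r ℳ) i j
    (fun hi => quotGr_posSub_eq_bot k r ℳ j (hj hi)) h

variable [Module.Finite (MvPolynomial (Fin (r + 1)) k) M]

/-- regularity passes to `M_{≥0}` for `d ≥ 0` -/
theorem isRegLE_posSub (d : ℤ) (hd : 0 ≤ d)
    (hreg : GrSyz.IsRegLE (GrSyz.stdGr k (Fin (r + 1))) ℳ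
      (GrSyz.irrel (GrSyz.stdGr k (Fin (r + 1)))).toIdeal d) :
    GrSyz.IsRegLE (GrSyz.stdGr k (Fin (r + 1))) (subGrK ℳ (posSub k r ℳ))
      (GrSyz.irrel (GrSyz.stdGr k (Fin (r + 1)))).toIdeal d := by
  haveI : IsNoetherian (MvPolynomial (Fin (r + 1)) k) M :=
    isNoetherian_of_isNoetherianRing_of_finite _ _
  rw [isRegLE_iff_van] at hreg ⊢
  intro i j hj
  exact van_posSub_of_van k r ℳ i j (fun hi => by subst hi; push_cast at hj; omega) (hreg i j hj)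

end Pos

end Groth.Agent.Lib.T2H3.Til
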