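import Groth.Agent.Lib.T2H3TilH

/-! Module regularity versus sheaf regularity on projective space (helper3): passing from a
graded module `M` to `M_{≥0}` does not change the attached sheaves; the final comparison. -/

set_option autoImplicit false
set_option linter.unusedSectionVars false
set_option linter.style.haveILetI false
universe u

open CategoryTheory CategoryTheory.Limits AlgebraicGeometry TopologicalSpace Opposite

namespace Groth.Agent.Lib.T2H3.Til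

open GrLC Groth.Agent.Lib.T2H3.GrIrr Groth.Agent.Lib.T2H3.GrArt Groth.Agent.Lib.T2H3.GrTr
  Groth.Agent.Lib.T2H3.Serre Groth.Agent.Lib.T2H3.GrLes Groth.Agent.Lib.T2H3.MinRes
  Groth.Agent.Helper13Hilb Groth.Agent.Lib.Helper29GrShift Groth.Agent.Lib.Helper29GrSub
  Groth.Agent.Lib.T2H3.EG Groth.Agent.Helper13GrQuotMod Groth.Agent.Lib.T2H3.GrTors
  Groth.Agent.Lib.T2H5.GrAlpha Groth.Agent.Lib.T2H5.GrSyzLoc

variable (k : Type u) [Field k] (r : ℕ)

local notation "SS" => MvPolynomial (Fin (r + 1)) k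
local notation "𝒢" => CohB1.polyGrading r k
local notation "𝒵" => GrSyz.stdGr k (Fin (r + 1))

/-- `m`-regularity only depends on the isomorphism class -/
theorem isMRegular_of_iso {F G : (CohB1.ProjSpace r k).Modules} (e : F ≅ G) (m : ℤ)
    (h : Curv2.IsMRegular k r F m) : Curv2.IsMRegular k r G m := by
  intro i hi hir
  exact Groth.Agent.Lib.T2H5.PnStruct.subsingleton_HH_of_iso
    (PicGrp.tensorModIso e (Iso.refl _)) i (h i hi hir)

section Trunc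

variable {M : Type u} [AddCommGroup M] [Module k M] [Module (MvPolynomial (Fin (r + 1)) k) M]
  [IsScalarTower k (MvPolynomial (Fin (r + 1)) k) M]
  (ℳ : ℤ → Submodule k M) [DirectSum.Decomposition ℳ]
  [SetLike.GradedSMul (GrSyz.stdGr k (Fin (r + 1))) ℳ]
  [SetLike.GradedSMul (CohB1.polyGrading r k) (fun n : ℕ => ℳ (n : ℤ))]
  [SetLike.GradedSMul (CohB1.polyGrading r k)
    (fun n : ℕ => subGrK ℳ (posSub k r ℳ) (n : ℤ))]

theorem posIncl_mem (i : ℕ) (m : ↥(posSub k r ℳ))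
    (h : m ∈ (fun n : ℕ => subGrK ℳ (posSub k r ℳ) (n : ℤ)) i) :
    (posSub k r ℳ).subtype m ∈ (fun n : ℕ => ℳ (n : ℤ)) i := h

/-- the comparison `(M_{≥0})(n)~ ⟶ M(n)~` -/
noncomputable def posMap (n : ℤ) :
    GrMod.tilde 𝒢 (fun n : ℕ => subGrK ℳ (posSub k r ℳ) (n : ℤ)) n ⟶
      GrMod.tilde 𝒢 (fun n : ℕ => ℳ (n : ℤ)) n :=
  GrMod.map 𝒢 (posSub k r ℳ).subtype (posIncl_mem k r ℳ) n

theorem isIso_posMap (n : ℤ) : IsIso (posMap k r ℳ n) := by
  haveI : Mono (posMap k r ℳ n) :=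
    mono_map 𝒢 (fun n : ℕ => subGrK ℳ (posSub k r ℳ) (n : ℤ)) (fun n : ℕ => ℳ (n : ℤ))
      (posSub k r ℳ).subtype (posIncl_mem k r ℳ) Subtype.val_injective n
  haveI : Epi (posMap k r ℳ n) :=
    epi_map 𝒢 (fun n : ℕ => subGrK ℳ (posSub k r ℳ) (n : ℤ)) (fun n : ℕ => ℳ (n : ℤ))
      (posSub k r ℳ).subtype (posIncl_mem k r ℳ)
      (fun i m hm => ⟨⟨m, mem_posSub_of_mem k r ℳ (Int.natCast_nonneg i) hm⟩, hm, rfl⟩) n
  exact isIso_of_mono_of_epi _

theorem app_injective_posMap (n : ℤ) (W : (Proj 𝒢).Opens) :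
    Function.Injective ((posMap k r ℳ n).app W) :=
  app_injective_map 𝒢 (fun n : ℕ => subGrK ℳ (posSub k r ℳ) (n : ℤ)) (fun n : ℕ => ℳ (n : ℤ))
    (posSub k r ℳ).subtype (posIncl_mem k r ℳ) Subtype.val_injective n W

theorem app_surjective_posMap (n : ℤ) (W : (Proj 𝒢).Opens) :
    Function.Surjective ((posMap k r ℳ n).app W) := by
  haveI := isIso_posMap k r ℳ n
  have h1 : IsIso ((posMap k r ℳ n).app W) :=
    Scheme.Modules.Hom.isIso_iff_isIso_app.mp inferInstance W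
  exact ((ConcreteCategory.isIso_iff_bijective _).mp h1).2

theorem posMap_alpha (n : ℕ) (m : (fun n : ℕ => subGrK ℳ (posSub k r ℳ) (n : ℤ)) n) :
    (posMap k r ℳ (n : ℤ)).app ⊤
        (alpha 𝒢 (fun n : ℕ => subGrK ℳ (posSub k r ℳ) (n : ℤ)) n m) =
      alpha 𝒢 (fun n : ℕ => ℳ (n : ℤ)) n ⟨(m.1 : M), m.2⟩ :=
  map_alpha 𝒢 (fun n : ℕ => subGrK ℳ (posSub k r ℳ) (n : ℤ)) (fun n : ℕ => ℳ (n : ℤ))
    (posSub k r ℳ).subtype (posIncl_mem k r ℳ) n m

theorem alpha_surjective_iff (d : ℕ) :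
    Function.Surjective (alpha 𝒢 (fun n : ℕ => subGrK ℳ (posSub k r ℳ) (n : ℤ)) d) ↔
      Function.Surjective (alpha 𝒢 (fun n : ℕ => ℳ (n : ℤ)) d) := by
  constructor
  · intro h t
    obtain ⟨t', rfl⟩ := app_surjective_posMap k r ℳ (d : ℤ) ⊤ t
    obtain ⟨m', rfl⟩ := h t'
    exact ⟨⟨(m'.1 : M), m'.2⟩, (posMap_alpha k r ℳ d m').symm⟩
  · intro h t'
    obtain ⟨m, hm⟩ := h ((posMap k r ℳ (d : ℤ)).app ⊤ t')
    refine ⟨⟨⟨m.1, mem_posSub_of_mem k r ℳ (Int.natCast_nonneg d) m.2⟩, m.2⟩, ?_⟩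
    apply app_injective_posMap k r ℳ (d : ℤ) ⊤
    rw [posMap_alpha]
    exact hm

theorem alpha_injective_posSub
    [DirectSum.Decomposition (fun n : ℕ => subGrK ℳ (posSub k r ℳ) (n : ℤ))]
    (e : ℕ) (hv : Van k r ℳ 0 (e : ℤ))
    (m : (fun n : ℕ => subGrK ℳ (posSub k r ℳ) (n : ℤ)) e)
    (h : alpha 𝒢 (fun n : ℕ => subGrK ℳ (posSub k r ℳ) (n : ℤ)) e m = 0) : m = 0 := by
  obtain ⟨K, hK⟩ := mem_gam_of_alpha_eq_zero k r
    (fun n : ℕ => subGrK ℳ (posSub k r ℳ) (n : ℤ)) e m h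
  have hgM : ((m : ↥(posSub k r ℳ)) : M) ∈ gam (Pm k r).toIdeal M :=
    ⟨K, fun s hs => congrArg Subtype.val (hK s hs)⟩
  obtain ⟨E, -⟩ : ∃ E : StarInjRes (PA k r) (asGr ℳ), True := ⟨minRes _ _, trivial⟩
  have hx : ((m : ↥(posSub k r ℳ)) : M) ∈ asGr ℳ (e : ℤ) := m.2
  have h0 := eq_zero_of_mem_gam E (Pm k r) (e : ℤ) (hv E) hx hgM
  exact Subtype.ext (Subtype.ext h0)

end Trunc

section Main

variable {M : Type u} [AddCommGroup M] [Module k M] [Module (MvPolynomial (Fin (r + 1)) k) M]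
  [IsScalarTower k (MvPolynomial (Fin (r + 1)) k) M]
  [Module.Finite (MvPolynomial (Fin (r + 1)) k) M]
  (ℳ : ℤ → Submodule k M) [DirectSum.Decomposition ℳ]
  [SetLike.GradedSMul (GrSyz.stdGr k (Fin (r + 1))) ℳ]
  [SetLike.GradedSMul (CohB1.polyGrading r k) (fun n : ℕ => ℳ (n : ℤ))]

set_option maxHeartbeats 1600000 in
/-- sheaf regularity, vanishing of `H^0_m(M)` above `d` and surjectivity of `M_d → Γ(M(d)~)` give
`H^i_m(M)_{d-i+1} = 0` for all `i ≥ 1` -/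
theorem van_of_sheaf (d : ℕ)
    (h1 : Curv2.IsMRegular k r (GrTilde.tilde 𝒢 (fun n : ℕ => ℳ (n : ℤ)) 0) (d : ℤ))
    (h2 : ∀ e : ℤ, (d : ℤ) < e → Van k r ℳ 0 e)
    (h3 : Function.Surjective (alpha 𝒢 (fun n : ℕ => ℳ (n : ℤ)) d)) :
    ∀ i : ℕ, 1 ≤ i → Van k r ℳ i ((d : ℤ) - i + 1) := by
  classical
  intro i hi
  by_cases hir : r + 2 < i
  · intro E
    exact Hcomp_eq_bot_of_lt (ringKrullDim_poly k r) E (by omega) _
  · have hP := posSub_isHomogeneous k r ℳ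
    letI decP := subDecK ℳ hP
    haveI gsP := sub_gradedSMulK 𝒵 ℳ (posSub k r ℳ)
    haveI gsPn := truncGSMul k r (subGrK ℳ (posSub k r ℳ))
    have hnegP := posSub_neg k r ℳ
    letI natP := natDec (subGrK ℳ (posSub k r ℳ)) hnegP
    haveI : IsNoetherian (MvPolynomial (Fin (r + 1)) k) M :=
      isNoetherian_of_isNoetherianRing_of_finite _ _
    haveI : Module.Finite (MvPolynomial (Fin (r + 1)) k) ↥(posSub k r ℳ) := inferInstance
    have hPP : PP k r (subGrK ℳ (posSub k r ℳ)) d := by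
      refine ⟨?_, ?_, ?_⟩
      · have hreg' : Curv2.IsMRegular k r
            (GrTilde.tilde 𝒢 (fun n : ℕ => subGrK ℳ (posSub k r ℳ) (n : ℤ)) 0) (d : ℤ) := by
          haveI := isIso_posMap k r ℳ 0
          exact isMRegular_of_iso k r (asIso (posMap k r ℳ 0)).symm (d : ℤ) h1
        have hcoh : Coh.IsCoh (GrTilde.tilde 𝒢
            (fun n : ℕ => subGrK ℳ (posSub k r ℳ) (n : ℤ)) 0) :=
          Groth.Agent.Lib.T2H5.GrSerreVan.isCoh_tilde_zero r k
            (fun n : ℕ => subGrK ℳ (posSub k r ℳ) (n : ℤ))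
        exact Groth.Agent.Lib.T2H5.RegRes.regular_all r k _ hcoh (d : ℤ) hreg'
      · intro e he m hm
        exact alpha_injective_posSub k r ℳ e (h2 (e : ℤ) (by exact_mod_cast he)) m hm
      · exact (alpha_surjective_iff k r ℳ d).mpr h3
    obtain ⟨i', rfl⟩ : ∃ i', i = i' + 1 := ⟨i - 1, by omega⟩
    have hv := van_of_PP_aux k r (r + 2 - (i' + 1)) (i' + 1) (by omega) (by omega)
      ↥(posSub k r ℳ) (subGrK ℳ (posSub k r ℳ)) hnegP d hPP
    exact van_of_van_posSub k r ℳ i' _ hv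

set_option maxHeartbeats 1600000 in
/-- regularity `≤ d` gives sheaf regularity and surjectivity of `M_d → Γ(M(d)~)` -/
theorem sheaf_of_isRegLE (d : ℕ)
    (hreg : GrSyz.IsRegLE (GrSyz.stdGr k (Fin (r + 1))) ℳ
      (GrSyz.irrel (GrSyz.stdGr k (Fin (r + 1)))).toIdeal (d : ℤ)) :
    Curv2.IsMRegular k r (GrTilde.tilde 𝒢 (fun n : ℕ => ℳ (n : ℤ)) 0) (d : ℤ) ∧
      Function.Surjective (alpha 𝒢 (fun n : ℕ => ℳ (n : ℤ)) d) := by
  classical
  constructor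
  · obtain ⟨F, -, hgen⟩ := id hreg
    exact Groth.Agent.Lib.T2H5.GrSyzMain.isMRegular_tilde k r ℳ F (d : ℤ) hgen
  · have hP := posSub_isHomogeneous k r ℳ
    letI decP := subDecK ℳ hP
    haveI gsP := sub_gradedSMulK 𝒵 ℳ (posSub k r ℳ)
    haveI gsPn := truncGSMul k r (subGrK ℳ (posSub k r ℳ))
    have hnegP := posSub_neg k r ℳ
    haveI : IsNoetherian (MvPolynomial (Fin (r + 1)) k) M :=
      isNoetherian_of_isNoetherianRing_of_finite _ _
    haveI : Module.Finite (MvPolynomial (Fin (r + 1)) k) ↥(posSub k r ℳ) := inferInstance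
    have hregP := isRegLE_posSub k r ℳ (d : ℤ) (Int.natCast_nonneg d) hreg
    have hs := alpha_surjective_of_isRegLE k r (subGrK ℳ (posSub k r ℳ)) hnegP d hregP
    exact (alpha_surjective_iff k r ℳ d).mp hs

end Main

end Groth.Agent.Lib.T2H3.Til
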