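import Mathlib
import Groth.Prelude.Def_ActBC
import Groth.Agent.Lib.Helper12Torsor
import Groth.Agent.Lib.Helper12PseudoTorsor
import Groth.Agent.Lib.Helper12TorsorDescent2

/-!
# Basic facts on actions, torsors and equivariant isomorphisms

* `actionOfPoints`: an action from its point form.
* `isIso_of_equivariant`: an equivariant morphism from a torsor to a pseudo-torsor is an isomorphism.
* `EquivIso` is an equivalence relation; `nonempty_equivIso_of_cl_eq`.
-/

set_option autoImplicit false
set_option linter.style.haveILetI false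
set_option linter.unusedSectionVars false
universe u
open CategoryTheory CategoryTheory.Limits AlgebraicGeometry MonoidalCategory CartesianMonoidalCategory
  MonObj GrpObj

namespace Groth.Agent.Lib.T2H3.TorsorBasics

open Groth.Agent.Lib.Helper12 Groth.Agent.Lib.Helper12.PseudoTorsor
  Groth.Agent.Lib.Helper12.TorsorDescent

variable {S : Scheme.{u}} {G : Over S} [GrpObj G]

/-- an action from its point form. -/
noncomputable def actionOfPoints {X : Over S} (act : G ⊗ X ⟶ X)
    (h1 : ∀ (T : Over S) (x : T ⟶ X), lift (1 : T ⟶ G) x ≫ act = x)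
    (h2 : ∀ (T : Over S) (g h : T ⟶ G) (x : T ⟶ X),
      lift (g * h) x ≫ act = lift g (lift h x ≫ act) ≫ act) : AlgGrp.Action G X where
  act := act
  one_act := by
    have e1 : (η[G] ▷ X) = lift (1 : 𝟙_ (Over S) ⊗ X ⟶ G) (snd _ _) := by
      apply CartesianMonoidalCategory.hom_ext
      · simp only [whiskerRight_fst, lift_fst, Hom.one_def]
        congr 1
      · simp
    rw [e1, h1, leftUnitor_hom]
  mul_act := by
    have e1 : (μ[G] ▷ X) = lift ((fst (G ⊗ G) X ≫ fst G G) * (fst (G ⊗ G) X ≫ snd G G))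
        (snd (G ⊗ G) X) := by
      apply CartesianMonoidalCategory.hom_ext
      · simp only [whiskerRight_fst, lift_fst, Hom.mul_def]
        congr 1
        apply CartesianMonoidalCategory.hom_ext <;> simp
      · simp
    have e2 : (α_ G G X).hom ≫ (G ◁ act) = lift (fst (G ⊗ G) X ≫ fst G G)
        (lift (fst (G ⊗ G) X ≫ snd G G) (snd (G ⊗ G) X) ≫ act) := by
      apply CartesianMonoidalCategory.hom_ext
      · simp
      · simp only [Category.assoc, whiskerLeft_snd, lift_snd]
        rw [← Category.assoc]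
        congr 1
        apply CartesianMonoidalCategory.hom_ext <;> simp
    rw [e1, h2, ← Category.assoc ((α_ G G X).hom), e2]

@[simp] lemma actionOfPoints_act {X : Over S} (act : G ⊗ X ⟶ X) (h1) (h2) :
    (actionOfPoints (G := G) act h1 h2).act = act := rfl

/-- point form of equivariance. -/
lemma equivariant_pt {X X' : Over S} {a : AlgGrp.Action G X} {a' : AlgGrp.Action G X'}
    {φ : X ⟶ X'} (hφ : a.act ≫ φ = (G ◁ φ) ≫ a'.act) {T : Over S} (g : T ⟶ G) (x : T ⟶ X) :
    (lift g x ≫ a.act) ≫ φ = lift g (x ≫ φ) ≫ a'.act := by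
  rw [Category.assoc, hφ, ← Category.assoc]
  congr 1
  apply CartesianMonoidalCategory.hom_ext <;> simp

/-- an equivariant morphism from a torsor to a pseudo-torsor is an isomorphism. -/
theorem isIso_of_equivariant {X X' : Over S} (a : AlgGrp.Action G X) (a' : AlgGrp.Action G X')
    (hps : NonAbH1.IsPseudoTorsorSch a) (hps' : NonAbH1.IsPseudoTorsorSch a')
    (R : Presieve S) (hR : R ∈ Scheme.fpqcPrecoverage S)
    (hsec : ∀ ⦃S' : Scheme.{u}⦄ (f : S' ⟶ S), R f → NonAbH1.HasSectionOver X f)
    (φ : X ⟶ X') (hφ : a.act ≫ φ = (G ◁ φ) ≫ a'.act) : IsIso φ := by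
  refine isIso_of_forall_isIso_whiskerRight φ R hR ?_
  intro T f hf
  obtain ⟨s, hs⟩ := hsec f hf
  let s' : Over.mk f ⟶ X := Over.homMk s hs
  haveI hA := isIso_lift_of_section a hps s'
  haveI hB := isIso_lift_of_section a' hps' (s' ≫ φ)
  have hAB : lift ((G ◁ s') ≫ a.act) (snd G (Over.mk f)) ≫ (φ ▷ Over.mk f) =
      lift ((G ◁ (s' ≫ φ)) ≫ a'.act) (snd G (Over.mk f)) := by
    apply CartesianMonoidalCategory.hom_ext
    · simp only [Category.assoc, whiskerRight_fst, lift_fst_assoc, lift_fst]
      rw [hφ, MonoidalCategory.whiskerLeft_comp, Category.assoc]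
    · simp
  have : φ ▷ Over.mk f = inv (lift ((G ◁ s') ≫ a.act) (snd G (Over.mk f))) ≫
      lift ((G ◁ (s' ≫ φ)) ≫ a'.act) (snd G (Over.mk f)) := by
    rw [← hAB, IsIso.inv_hom_id_assoc]
  rw [this]
  infer_instance

section EquivIso

variable {X X' X'' : Over S}

/-- reflexivity -/
noncomputable def equivIsoRefl (a : AlgGrp.Action G X) : NonAbH1.EquivIso a a where
  iso := Iso.refl X
  comm := by simp

/-- symmetry -/
noncomputable def equivIsoSymm {a : AlgGrp.Action G X} {a' : AlgGrp.Action G X'}
    (e : NonAbH1.EquivIso a a') : NonAbH1.EquivIso a' a where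
  iso := e.iso.symm
  comm := by
    have h := e.comm
    rw [Iso.symm_hom, Iso.comp_inv_eq, Category.assoc, h, ← Category.assoc,
      ← MonoidalCategory.whiskerLeft_comp, Iso.inv_hom_id, MonoidalCategory.whiskerLeft_id,
      Category.id_comp]

/-- transitivity -/
noncomputable def equivIsoTrans {a : AlgGrp.Action G X} {a' : AlgGrp.Action G X'}
    {a'' : AlgGrp.Action G X''} (e : NonAbH1.EquivIso a a') (e' : NonAbH1.EquivIso a' a'') :
    NonAbH1.EquivIso a a'' where
  iso := e.iso ≪≫ e'.iso
  comm := by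
    rw [Iso.trans_hom, ← Category.assoc, e.comm, Category.assoc, e'.comm,
      MonoidalCategory.whiskerLeft_comp, Category.assoc]

theorem nonempty_equivIso_of_cl_eq {K : Precoverage Scheme.{u}} (P Q : NonAbH1.TorsorSch G K)
    (h : P.cl = Q.cl) : Nonempty (NonAbH1.EquivIso P.act Q.act) := by
  have h' := Quot.eqvGen_exact h
  clear h
  induction h' with
  | rel x y hxy => exact hxy
  | refl x => exact ⟨equivIsoRefl x.act⟩
  | symm x y _ ih => exact ⟨equivIsoSymm ih.some⟩
  | trans x y z _ _ ih1 ih2 => exact ⟨equivIsoTrans ih1.some ih2.some⟩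

end EquivIso

end Groth.Agent.Lib.T2H3.TorsorBasics
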