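import Mathlib
import Groth.Agent.Lib.T2H3SchClosure
import Groth.Agent.Lib.T2H3TorsorBasics

/-!
# Extending an equivariant isomorphism of torsors from the generic fibre (graph closure)

`f : S' ⟶ S` is a flat quasi-compact scheme-theoretically dominant monomorphism, `G` a flat `S`-group,
`X₁`, `X₂` pseudo-torsors under `G`, flat over `S`, `X₂` separated, and `e` an equivariant isomorphism
of their base changes along `f`.  The schematic closure `Γ` of the graph of `e` in `X₁ ×_S X₂`, if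
flat over `S`, is a `G`-stable pseudo-torsor.
-/

set_option autoImplicit false
set_option linter.style.haveILetI false
set_option linter.unusedSectionVars false
universe u
open CategoryTheory CategoryTheory.Limits AlgebraicGeometry MonoidalCategory CartesianMonoidalCategory
  MonObj GrpObj

namespace Groth.Agent.Lib.T2H3.TorsorClosure

open Groth.Agent.Lib.Helper27.GaGm Groth.Agent.Lib.T2H3.DensityExt Groth.Agent.Lib.T2H3.SchClosure
  Groth.Agent.Lib.T2H3.TorsorBasics Groth.Agent.Lib.Helper12 Groth.Agent.Lib.Helper12.PseudoTorsor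

section Adj

variable {S' S : Scheme.{u}} (f : S' ⟶ S)

/-- the adjunction bijection `Hom_{S'}(T', X ×_S S') ≃ Hom_S(T', X)`. -/
noncomputable def adj (X : Over S) (T' : Over S') :
    (T' ⟶ Red.bc f X) ≃ ((Over.map f).obj T' ⟶ X) :=
  ((Over.mapPullbackAdj f).homEquiv T' X).symm

lemma adj_comp_left {X : Over S} {T' T'' : Over S'} (t : T'' ⟶ T') (x : T' ⟶ Red.bc f X) :
    adj f X T'' (t ≫ x) = (Over.map f).map t ≫ adj f X T' x :=
  Adjunction.homEquiv_naturality_left_symm _ _ _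

lemma adj_comp_right {X Y : Over S} {T' : Over S'} (x : T' ⟶ Red.bc f X) (φ : X ⟶ Y) :
    adj f Y T' (x ≫ (Over.pullback f).map φ) = adj f X T' x ≫ φ :=
  Adjunction.homEquiv_naturality_right_symm _ _ _

lemma adj_left {X : Over S} {T' : Over S'} (x : T' ⟶ Red.bc f X) :
    (adj f X T' x).left = x.left ≫ pullback.fst X.hom f := rfl

lemma adj_lift {X Y : Over S} {T' : Over S'} (x : T' ⟶ Red.bc f X) (y : T' ⟶ Red.bc f Y) :
    adj f (X ⊗ Y) T' (lift x y ≫ Functor.LaxMonoidal.μ (Over.pullback f) X Y) =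
      lift (adj f X T' x) (adj f Y T' y) := by
  apply CartesianMonoidalCategory.hom_ext
  · rw [lift_fst, ← adj_comp_right, Category.assoc, Functor.Monoidal.μ_fst, lift_fst]
  · rw [lift_snd, ← adj_comp_right, Category.assoc, Functor.Monoidal.μ_snd, lift_snd]

variable {G : Over S} [GrpObj G]

lemma adj_act {X : Over S} (a : AlgGrp.Action G X) {T' : Over S'} (g : T' ⟶ Red.bc f G)
    (x : T' ⟶ Red.bc f X) :
    adj f X T' (lift g x ≫ (a.bc f).act) = lift (adj f G T' g) (adj f X T' x) ≫ a.act := by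
  rw [AlgGrp.Action.bc_act, ← Category.assoc, adj_comp_right, adj_lift]

end Adj

section Main

variable {S' S : Scheme.{u}} (f : S' ⟶ S) [Mono f] [Flat f] [QuasiCompact f]
  [IsSchemeTheoreticallyDominant f]
  {G : Over S} [GrpObj G] [Flat G.hom]
  {X₁ X₂ : Over S} (a₁ : AlgGrp.Action G X₁) (a₂ : AlgGrp.Action G X₂)
  [Flat X₁.hom] [IsSeparated X₂.hom]
  (e : NonAbH1.EquivIso (a₁.bc f) (a₂.bc f))

/-- the generic fibre of `X₁` as an `S`-scheme -/
noncomputable abbrev XK (X₁ : Over S) : Over S := (Over.map f).obj (Red.bc f X₁)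

/-- the inclusion of the generic fibre. -/
noncomputable def eps (X : Over S) : XK f X ⟶ X := adj f X (Red.bc f X) (𝟙 _)

lemma adj_eq {X : Over S} {T' : Over S'} (x : T' ⟶ Red.bc f X) :
    adj f X T' x = (Over.map f).map x ≫ eps f X := by
  rw [eps, ← adj_comp_left, Category.comp_id]

lemma eps_left (X : Over S) : (eps f X).left = pullback.fst X.hom f := by
  rw [eps, adj_left]
  exact Category.id_comp _

instance (X : Over S) : QuasiCompact (eps f X).left := by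
  rw [eps_left]; infer_instance

instance (X : Over S) [Flat X.hom] : IsSchemeTheoreticallyDominant (eps f X).left := by
  rw [eps_left]; infer_instance

instance (X : Over S) [Flat X.hom] : Flat (XK f X).hom := by
  change Flat (pullback.snd X.hom f ≫ f)
  infer_instance

/-- the generic morphism `X₁ ⟶ X₂`. -/
noncomputable def psi : XK f X₁ ⟶ X₂ := adj f X₂ (Red.bc f X₁) e.iso.hom

/-- the graph of the generic isomorphism. -/
noncomputable def gam : XK f X₁ ⟶ X₁ ⊗ X₂ := lift (eps f X₁) (psi f a₁ a₂ e)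

instance : QuasiCompact (gam f a₁ a₂ e).left := by
  haveI : QuasiSeparated (fst X₁ X₂).left := by
    rw [Over.fst_left]; infer_instance
  haveI : QuasiCompact ((gam f a₁ a₂ e).left ≫ (fst X₁ X₂).left) := by
    rw [← Over.comp_left, gam, lift_fst]; infer_instance
  exact QuasiCompact.of_comp (gam f a₁ a₂ e).left (fst X₁ X₂).left

/-- the closure of the graph, as an `S`-scheme. -/
noncomputable def clo : Over S := Over.mk ((gam f a₁ a₂ e).left.imageι ≫ (X₁ ⊗ X₂).hom)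

/-- the closed immersion `Γ ⟶ X₁ ×_S X₂`. -/
noncomputable def cloι : clo f a₁ a₂ e ⟶ X₁ ⊗ X₂ := Over.homMk (gam f a₁ a₂ e).left.imageι rfl

instance : IsClosedImmersion (cloι f a₁ a₂ e).left := by
  change IsClosedImmersion (gam f a₁ a₂ e).left.imageι
  infer_instance

instance : Mono (cloι f a₁ a₂ e) := by
  haveI : Mono ((Over.forget S).map (cloι f a₁ a₂ e)) :=
    inferInstanceAs (Mono (cloι f a₁ a₂ e).left)
  exact (Over.forget S).mono_of_mono_map ‹_›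

lemma gam_w : (gam f a₁ a₂ e).left.toImage ≫ (clo f a₁ a₂ e).hom = (XK f X₁).hom := by
  change (gam f a₁ a₂ e).left.toImage ≫ (gam f a₁ a₂ e).left.imageι ≫ (X₁ ⊗ X₂).hom = _
  rw [← Category.assoc, (gam f a₁ a₂ e).left.toImage_imageι]
  exact Over.w (gam f a₁ a₂ e)

/-- the dense morphism from the generic fibre of `X₁` to the closure of the graph. -/
noncomputable def toClo : XK f X₁ ⟶ clo f a₁ a₂ e :=
  Over.homMk (gam f a₁ a₂ e).left.toImage (gam_w f a₁ a₂ e)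

instance : QuasiCompact (toClo f a₁ a₂ e).left := by
  change QuasiCompact (gam f a₁ a₂ e).left.toImage
  infer_instance

instance : IsSchemeTheoreticallyDominant (toClo f a₁ a₂ e).left := by
  change IsSchemeTheoreticallyDominant (gam f a₁ a₂ e).left.toImage
  infer_instance

lemma toClo_cloι : toClo f a₁ a₂ e ≫ cloι f a₁ a₂ e = gam f a₁ a₂ e := by
  apply Over.OverMorphism.ext
  exact (gam f a₁ a₂ e).left.toImage_imageι

/-- the two projections of the closure. -/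
noncomputable def pr₁ : clo f a₁ a₂ e ⟶ X₁ := cloι f a₁ a₂ e ≫ fst X₁ X₂
noncomputable def pr₂ : clo f a₁ a₂ e ⟶ X₂ := cloι f a₁ a₂ e ≫ snd X₁ X₂

lemma toClo_pr₁ : toClo f a₁ a₂ e ≫ pr₁ f a₁ a₂ e = eps f X₁ := by
  rw [pr₁, ← Category.assoc, toClo_cloι, gam, lift_fst]

lemma toClo_pr₂ : toClo f a₁ a₂ e ≫ pr₂ f a₁ a₂ e = psi f a₁ a₂ e := by
  rw [pr₂, ← Category.assoc, toClo_cloι, gam, lift_snd]

/-- the diagonal action on `X₁ ×_S X₂`. -/
noncomputable def alphaQ : G ⊗ (X₁ ⊗ X₂) ⟶ X₁ ⊗ X₂ :=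
  lift ((G ◁ fst X₁ X₂) ≫ a₁.act) ((G ◁ snd X₁ X₂) ≫ a₂.act)

omit [Flat G.hom] [Flat X₁.hom] [IsSeparated X₂.hom] in
lemma lift_alphaQ {T : Over S} (g : T ⟶ G) (q : T ⟶ X₁ ⊗ X₂) :
    lift g q ≫ alphaQ a₁ a₂ =
      lift (lift g (q ≫ fst X₁ X₂) ≫ a₁.act) (lift g (q ≫ snd X₁ X₂) ≫ a₂.act) := by
  unfold alphaQ
  apply CartesianMonoidalCategory.hom_ext
  · rw [Category.assoc, lift_fst, lift_fst, ← Category.assoc]
    congr 1
    apply CartesianMonoidalCategory.hom_ext <;> simp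
  · rw [Category.assoc, lift_snd, lift_snd, ← Category.assoc]
    congr 1
    apply CartesianMonoidalCategory.hom_ext <;> simp

/-- points form of the equivariance of `e`. -/
lemma psi_act {T' : Over S'} (g : T' ⟶ Red.bc f G) (x : T' ⟶ Red.bc f X₁) :
    (Over.map f).map (lift g x ≫ (a₁.bc f).act) ≫ psi f a₁ a₂ e =
      lift (adj f G T' g) ((Over.map f).map x ≫ psi f a₁ a₂ e) ≫ a₂.act := by
  have h1 : (lift g x ≫ (a₁.bc f).act) ≫ e.iso.hom = lift g (x ≫ e.iso.hom) ≫ (a₂.bc f).act :=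
    equivariant_pt e.comm g x
  rw [psi, ← adj_comp_left, h1, adj_act, adj_comp_left]

lemma eps_act {T' : Over S'} (g : T' ⟶ Red.bc f G) (x : T' ⟶ Red.bc f X₁) :
    (Over.map f).map (lift g x ≫ (a₁.bc f).act) ≫ eps f X₁ =
      lift (adj f G T' g) ((Over.map f).map x ≫ eps f X₁) ≫ a₁.act := by
  rw [← adj_eq, adj_act, adj_eq f x]

/-- the graph is stable under the diagonal action (on generic points). -/
lemma gam_act {T' : Over S'} (g : T' ⟶ Red.bc f G) (x : T' ⟶ Red.bc f X₁) :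
    (Over.map f).map (lift g x ≫ (a₁.bc f).act) ≫ gam f a₁ a₂ e =
      lift (adj f G T' g) ((Over.map f).map x ≫ gam f a₁ a₂ e) ≫ alphaQ a₁ a₂ := by
  rw [lift_alphaQ]
  unfold gam
  rw [comp_lift, eps_act, psi_act]
  congr 1
  · rw [Category.assoc, lift_fst]
  · rw [Category.assoc, lift_snd]

/-- the dense morphism `G_K ×_K X₁_K ⟶ G ×_S Γ`. -/
noncomputable def toG₂ : (Over.map f).obj (Red.bc f G ⊗ Red.bc f X₁) ⟶ G ⊗ clo f a₁ a₂ e :=
  cmp f (Red.bc f G) (Red.bc f X₁) ≫ (eps f G ⊗ₘ toClo f a₁ a₂ e)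

instance : IsSchemeTheoreticallyDominant (toG₂ f a₁ a₂ e).left := by
  unfold toG₂
  rw [Over.comp_left]
  haveI : IsIso (cmp f (Red.bc f G) (Red.bc f X₁)).left :=
    inferInstanceAs (IsIso ((Over.forget S).map (cmp f (Red.bc f G) (Red.bc f X₁))))
  haveI := dominant_tensorHom (eps f G) (toClo f a₁ a₂ e)
  infer_instance

lemma toG₂_eq : toG₂ f a₁ a₂ e ≫ (G ◁ cloι f a₁ a₂ e) =
    lift (adj f G _ (fst (Red.bc f G) (Red.bc f X₁)))
      ((Over.map f).map (snd (Red.bc f G) (Red.bc f X₁)) ≫ gam f a₁ a₂ e) := by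
  unfold toG₂
  apply CartesianMonoidalCategory.hom_ext
  · simp only [Category.assoc, whiskerLeft_fst, tensorHom_fst, cmp_fst_assoc, lift_fst]
    rw [adj_eq]
  · simp only [Category.assoc, whiskerLeft_snd, tensorHom_snd_assoc, cmp_snd_assoc, lift_snd]
    rw [toClo_cloι]

/-- the closure of the graph is stable under the diagonal action. -/
theorem exists_act : ∃ b : G ⊗ clo f a₁ a₂ e ⟶ clo f a₁ a₂ e,
    b ≫ cloι f a₁ a₂ e = (G ◁ cloι f a₁ a₂ e) ≫ alphaQ a₁ a₂ := by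
  have key : ((Over.map f).map (a₁.bc f).act ≫ toClo f a₁ a₂ e) ≫ cloι f a₁ a₂ e =
      toG₂ f a₁ a₂ e ≫ (G ◁ cloι f a₁ a₂ e) ≫ alphaQ a₁ a₂ := by
    rw [Category.assoc, toClo_cloι, ← Category.assoc (toG₂ f a₁ a₂ e), toG₂_eq, ← gam_act,
      lift_fst_snd, Category.id_comp]
  obtain ⟨v, hv, -⟩ := exists_factor_of_dominant (cloι f a₁ a₂ e).left
    ((G ◁ cloι f a₁ a₂ e) ≫ alphaQ a₁ a₂).left (toG₂ f a₁ a₂ e).left
    ((Over.map f).map (a₁.bc f).act ≫ toClo f a₁ a₂ e).left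
    (by
      have := congrArg CommaMorphism.left key
      simpa only [Over.comp_left, Category.assoc] using this)
  refine ⟨Over.homMk v ?_, ?_⟩
  · have h1 : (clo f a₁ a₂ e).hom = (cloι f a₁ a₂ e).left ≫ (X₁ ⊗ X₂).hom :=
      (Over.w (cloι f a₁ a₂ e)).symm
    rw [h1, ← Category.assoc, hv]
    exact Over.w _
  · apply Over.OverMorphism.ext
    exact hv

section Act

variable (b : G ⊗ clo f a₁ a₂ e ⟶ clo f a₁ a₂ e)
  (hb : b ≫ cloι f a₁ a₂ e = (G ◁ cloι f a₁ a₂ e) ≫ alphaQ a₁ a₂)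

include hb in
lemma lift_b {T : Over S} (g : T ⟶ G) (c : T ⟶ clo f a₁ a₂ e) :
    (lift g c ≫ b) ≫ cloι f a₁ a₂ e = lift g (c ≫ cloι f a₁ a₂ e) ≫ alphaQ a₁ a₂ := by
  rw [Category.assoc, hb, ← Category.assoc]
  congr 1
  apply CartesianMonoidalCategory.hom_ext <;> simp

include hb in
lemma b_pr₁ : b ≫ pr₁ f a₁ a₂ e = (G ◁ pr₁ f a₁ a₂ e) ≫ a₁.act := by
  rw [pr₁, ← Category.assoc, hb, Category.assoc, alphaQ, lift_fst, ← Category.assoc,
    ← MonoidalCategory.whiskerLeft_comp]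

include hb in
lemma b_pr₂ : b ≫ pr₂ f a₁ a₂ e = (G ◁ pr₂ f a₁ a₂ e) ≫ a₂.act := by
  rw [pr₂, ← Category.assoc, hb, Category.assoc, alphaQ, lift_snd, ← Category.assoc,
    ← MonoidalCategory.whiskerLeft_comp]

include hb in
lemma lift_b_pr₁ {T : Over S} (g : T ⟶ G) (c : T ⟶ clo f a₁ a₂ e) :
    (lift g c ≫ b) ≫ pr₁ f a₁ a₂ e = lift g (c ≫ pr₁ f a₁ a₂ e) ≫ a₁.act := by
  rw [Category.assoc, b_pr₁ f a₁ a₂ e b hb, ← Category.assoc]
  congr 1
  apply CartesianMonoidalCategory.hom_ext <;> simp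

include hb in
lemma lift_b_pr₂ {T : Over S} (g : T ⟶ G) (c : T ⟶ clo f a₁ a₂ e) :
    (lift g c ≫ b) ≫ pr₂ f a₁ a₂ e = lift g (c ≫ pr₂ f a₁ a₂ e) ≫ a₂.act := by
  rw [Category.assoc, b_pr₂ f a₁ a₂ e b hb, ← Category.assoc]
  congr 1
  apply CartesianMonoidalCategory.hom_ext <;> simp

omit [Mono f] [Flat f] [QuasiCompact f] [IsSchemeTheoreticallyDominant f] [Flat G.hom] [Flat X₁.hom]
  [IsSeparated X₂.hom] in
lemma cloι_ext {T : Over S} {c c' : T ⟶ clo f a₁ a₂ e}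
    (h1 : c ≫ pr₁ f a₁ a₂ e = c' ≫ pr₁ f a₁ a₂ e) (h2 : c ≫ pr₂ f a₁ a₂ e = c' ≫ pr₂ f a₁ a₂ e) :
    c = c' := by
  rw [← cancel_mono (cloι f a₁ a₂ e)]
  apply CartesianMonoidalCategory.hom_ext
  · simpa only [pr₁, Category.assoc] using h1
  · simpa only [pr₂, Category.assoc] using h2

/-- the induced action on the closure of the graph. -/
noncomputable def bAct : AlgGrp.Action G (clo f a₁ a₂ e) :=
  actionOfPoints b
    (by
      intro T c
      apply cloι_ext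
      · rw [lift_b_pr₁ f a₁ a₂ e b hb, act_one]
      · rw [lift_b_pr₂ f a₁ a₂ e b hb, act_one])
    (by
      intro T g h c
      apply cloι_ext
      · rw [lift_b_pr₁ f a₁ a₂ e b hb, lift_b_pr₁ f a₁ a₂ e b hb, lift_b_pr₁ f a₁ a₂ e b hb, act_mul]
      · rw [lift_b_pr₂ f a₁ a₂ e b hb, lift_b_pr₂ f a₁ a₂ e b hb, lift_b_pr₂ f a₁ a₂ e b hb, act_mul])

lemma bAct_act : (bAct f a₁ a₂ e b hb).act = b := rfl

end Act

section PseudoTorsor

variable [hfl : Flat (clo f a₁ a₂ e).hom] (hps₁ : NonAbH1.IsPseudoTorsorSch a₁)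
  (b : G ⊗ clo f a₁ a₂ e ⟶ clo f a₁ a₂ e)
  (hb : b ≫ cloι f a₁ a₂ e = (G ◁ cloι f a₁ a₂ e) ≫ alphaQ a₁ a₂)

/-- the dense morphism `X₁_K ×_K X₁_K ⟶ Γ ×_S Γ`. -/
noncomputable def toΓ₂ : (Over.map f).obj (Red.bc f X₁ ⊗ Red.bc f X₁) ⟶
    clo f a₁ a₂ e ⊗ clo f a₁ a₂ e :=
  cmp f (Red.bc f X₁) (Red.bc f X₁) ≫ (toClo f a₁ a₂ e ⊗ₘ toClo f a₁ a₂ e)

instance : IsSchemeTheoreticallyDominant (toΓ₂ f a₁ a₂ e).left := by
  unfold toΓ₂
  rw [Over.comp_left]
  haveI : IsIso (cmp f (Red.bc f X₁) (Red.bc f X₁)).left :=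
    inferInstanceAs (IsIso ((Over.forget S).map (cmp f (Red.bc f X₁) (Red.bc f X₁))))
  haveI := dominant_tensorHom (toClo f a₁ a₂ e) (toClo f a₁ a₂ e)
  infer_instance

/-- the difference of the first components. -/
noncomputable def del : clo f a₁ a₂ e ⊗ clo f a₁ a₂ e ⟶ G :=
  lift (fst _ _ ≫ pr₁ f a₁ a₂ e) (snd _ _ ≫ pr₁ f a₁ a₂ e) ≫ diff a₁ hps₁

include hps₁ in
/-- the key identity, checked on the dense generic fibre. -/
lemma del_act_pr₂ :
    lift (del f a₁ a₂ e hps₁) (snd _ _ ≫ pr₂ f a₁ a₂ e) ≫ a₂.act = fst _ _ ≫ pr₂ f a₁ a₂ e := by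
  have hsep : ∀ z : clo f a₁ a₂ e ⊗ clo f a₁ a₂ e ⟶ X₂,
      z.left ≫ X₂.hom = (clo f a₁ a₂ e ⊗ clo f a₁ a₂ e).hom := fun z => Over.w z
  apply Over.OverMorphism.ext
  refine ext_of_dominant (toΓ₂ f a₁ a₂ e).left X₂.hom ((hsep _).trans (hsep _).symm) ?_
  rw [← Over.comp_left, ← Over.comp_left]
  congr 1
  -- the generic computation
  set T' := Red.bc f X₁ ⊗ Red.bc f X₁ with hT'
  have e1 : toΓ₂ f a₁ a₂ e ≫ fst _ _ = (Over.map f).map (fst _ _) ≫ toClo f a₁ a₂ e := by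
    unfold toΓ₂; simp
  have e2 : toΓ₂ f a₁ a₂ e ≫ snd _ _ = (Over.map f).map (snd _ _) ≫ toClo f a₁ a₂ e := by
    unfold toΓ₂; simp
  set g₀ : (Over.map f).obj T' ⟶ G := toΓ₂ f a₁ a₂ e ≫ del f a₁ a₂ e hps₁ with hg₀
  have hg₀' : g₀ = lift ((Over.map f).map (fst _ _) ≫ eps f X₁)
      ((Over.map f).map (snd _ _) ≫ eps f X₁) ≫ diff a₁ hps₁ := by
    rw [hg₀, del, ← Category.assoc, comp_lift, ← Category.assoc, ← Category.assoc, e1, e2,
      Category.assoc, Category.assoc, toClo_pr₁]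
  -- `g₀` acts on the second generic point to give the first
  have h1 : lift g₀ ((Over.map f).map (snd _ _) ≫ eps f X₁) ≫ a₁.act =
      (Over.map f).map (fst _ _) ≫ eps f X₁ := by
    rw [hg₀']
    exact diff_act a₁ hps₁ _ _
  set g' : T' ⟶ Red.bc f G := (adj f G T').symm g₀ with hg'
  have hg'' : adj f G T' g' = g₀ := Equiv.apply_symm_apply _ _
  have h2 : lift g' (snd _ _) ≫ (a₁.bc f).act = fst (Red.bc f X₁) (Red.bc f X₁) := by
    apply (adj f X₁ T').injective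
    rw [adj_act, hg'', adj_eq, adj_eq f (fst _ _)]
    exact h1
  have h3 := psi_act f a₁ a₂ e g' (snd (Red.bc f X₁) (Red.bc f X₁))
  rw [h2, hg''] at h3
  calc toΓ₂ f a₁ a₂ e ≫ lift (del f a₁ a₂ e hps₁) (snd _ _ ≫ pr₂ f a₁ a₂ e) ≫ a₂.act
      = lift g₀ ((Over.map f).map (snd _ _) ≫ psi f a₁ a₂ e) ≫ a₂.act := by
        rw [← Category.assoc, comp_lift, ← Category.assoc (toΓ₂ f a₁ a₂ e), e2, Category.assoc,
          toClo_pr₂]
    _ = (Over.map f).map (fst _ _) ≫ psi f a₁ a₂ e := h3.symm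
    _ = toΓ₂ f a₁ a₂ e ≫ fst _ _ ≫ pr₂ f a₁ a₂ e := by
        rw [← Category.assoc, e1, Category.assoc, toClo_pr₂]

include hb hps₁ in
/-- the closure of the graph is a pseudo-torsor. -/
theorem isPseudoTorsorSch_bAct : NonAbH1.IsPseudoTorsorSch (bAct f a₁ a₂ e b hb) := by
  change IsIso (lift b (snd G (clo f a₁ a₂ e)))
  refine ⟨lift (del f a₁ a₂ e hps₁) (snd _ _), ?_, ?_⟩
  · apply CartesianMonoidalCategory.hom_ext
    · rw [Category.assoc, lift_fst, Category.id_comp, del, ← Category.assoc, comp_lift,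
        ← Category.assoc, ← Category.assoc, lift_fst, lift_snd]
      have h1 : b ≫ pr₁ f a₁ a₂ e = lift (fst G _) (snd G _ ≫ pr₁ f a₁ a₂ e) ≫ a₁.act := by
        rw [b_pr₁ f a₁ a₂ e b hb]
        congr 1
      rw [h1, diff_act_left, diff_self, _root_.mul_one]
    · rw [Category.assoc, lift_snd, lift_snd, Category.id_comp]
  · apply CartesianMonoidalCategory.hom_ext
    · rw [Category.assoc, lift_fst, Category.id_comp]
      apply cloι_ext
      · rw [lift_b_pr₁ f a₁ a₂ e b hb, del]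
        exact diff_act a₁ hps₁ _ _
      · rw [lift_b_pr₂ f a₁ a₂ e b hb]
        exact del_act_pr₂ f a₁ a₂ e hps₁
    · rw [Category.assoc, lift_snd, lift_snd, Category.id_comp]

end PseudoTorsor

section Final

variable [hfl : Flat (clo f a₁ a₂ e).hom] (hps₁ : NonAbH1.IsPseudoTorsorSch a₁)
  (hps₂ : NonAbH1.IsPseudoTorsorSch a₂)

include hps₁ hps₂ in
/-- If the closure of the graph of a generic equivariant isomorphism is flat and covers `S`, the
isomorphism extends. -/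
theorem exists_equivIso
    (hcov : Presieve.singleton (clo f a₁ a₂ e).hom ∈ Scheme.fpqcPrecoverage S) :
    Nonempty (NonAbH1.EquivIso a₁ a₂) := by
  obtain ⟨b, hb⟩ := exists_act f a₁ a₂ e
  have hpsΓ := isPseudoTorsorSch_bAct f a₁ a₂ e hps₁ b hb
  have hsec : ∀ ⦃T : Scheme.{u}⦄ (g : T ⟶ S), Presieve.singleton (clo f a₁ a₂ e).hom g →
      NonAbH1.HasSectionOver (clo f a₁ a₂ e) g := by
    rintro T g ⟨⟩
    exact ⟨𝟙 _, Category.id_comp _⟩
  haveI h1 : IsIso (pr₁ f a₁ a₂ e) :=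
    isIso_of_equivariant (bAct f a₁ a₂ e b hb) a₁ hpsΓ hps₁ _ hcov hsec (pr₁ f a₁ a₂ e)
      (b_pr₁ f a₁ a₂ e b hb)
  haveI h2 : IsIso (pr₂ f a₁ a₂ e) :=
    isIso_of_equivariant (bAct f a₁ a₂ e b hb) a₂ hpsΓ hps₂ _ hcov hsec (pr₂ f a₁ a₂ e)
      (b_pr₂ f a₁ a₂ e b hb)
  refine ⟨⟨(asIso (pr₁ f a₁ a₂ e)).symm ≪≫ asIso (pr₂ f a₁ a₂ e), ?_⟩⟩
  simp only [Iso.trans_hom, Iso.symm_hom, asIso_inv, asIso_hom]
  have e1 : a₁.act ≫ inv (pr₁ f a₁ a₂ e) = (G ◁ inv (pr₁ f a₁ a₂ e)) ≫ b := by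
    rw [IsIso.comp_inv_eq, Category.assoc, b_pr₁ f a₁ a₂ e b hb, ← Category.assoc,
      ← MonoidalCategory.whiskerLeft_comp, IsIso.inv_hom_id, MonoidalCategory.whiskerLeft_id,
      Category.id_comp]
  rw [← Category.assoc, e1, Category.assoc, b_pr₂ f a₁ a₂ e b hb,
    MonoidalCategory.whiskerLeft_comp, Category.assoc]

end Final

end Main

end Groth.Agent.Lib.T2H3.TorsorClosure
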