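import Mathlib
import Groth.Prelude.Def_NonAbH2
import Groth.Agent.Lib.T2H3ExactDescent
import Groth.Agent.Lib.Helper12PseudoTorsor

/-!
# Exactness of the cohomology sequence at `H¹(S, G')`: torsors which become trivial under `u`
-/

set_option autoImplicit false
set_option linter.style.haveILetI false
set_option linter.unusedSectionVars false
universe u

namespace Groth.Agent.Lib.T2H3.TorsorSeq

open CategoryTheory MonoidalCategory CartesianMonoidalCategory MonObj GrpObj AlgebraicGeometry Limits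
open Groth.Agent.Lib.T2H3.ExactDescent Groth.Agent.Lib.T2H3.ExactGrp
open Groth.Agent.Lib.Helper12 Groth.Agent.Lib.Helper12.PseudoTorsor

variable {S : Scheme.{u}} {J : GrothendieckTopology Scheme.{u}}

theorem isCov_fst {K : Precoverage Scheme.{u}} (hK : K.toGrothendieck ≤ J) (T Q : Over S)
    (h : NonAbH1.IsLocallyTrivialFor K Q) : IsCov J (fst T Q) := by
  obtain ⟨R, hR, hsec⟩ := h
  refine J.superset_covering ?_
    (J.pullback_stable T.hom (hK _ (Precoverage.generate_mem_toGrothendieck hR)))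
  rintro T' m ⟨Y, k, g, hg, hkg⟩
  obtain ⟨s, hs⟩ := hsec g hg
  let T₀ : Over S := Over.mk (m ≫ T.hom)
  let mO : T₀ ⟶ T := Over.homMk m rfl
  let kO : T₀ ⟶ Q := Over.homMk (k ≫ s) (by
    simp only [T₀, Over.mk_hom]
    rw [Category.assoc, hs, hkg])
  refine ⟨_, (lift mO kO).left, (fst T Q).left, ⟨⟩, ?_⟩
  rw [← Over.comp_left, lift_fst]
  rfl

theorem isCov_toUnit {K : Precoverage Scheme.{u}} (hK : K.toGrothendieck ≤ J) (Q : Over S)
    (h : NonAbH1.IsLocallyTrivialFor K Q) : IsCov J (toUnit Q) := by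
  obtain ⟨R, hR, hsec⟩ := h
  refine J.superset_covering ?_ (hK _ (Precoverage.generate_mem_toGrothendieck hR))
  rintro T' m ⟨Y, k, g, hg, rfl⟩
  obtain ⟨s, hs⟩ := hsec g hg
  refine ⟨_, k ≫ s, (toUnit Q).left, ⟨⟩, ?_⟩
  have : (toUnit Q).left = Q.hom := by
    simp
  rw [this, Category.assoc, hs]

variable [J.Subcanonical]
  {G G' G'' : Over S} [GrpObj G] [GrpObj G'] [GrpObj G'']
  {u : G' ⟶ G} {v : G ⟶ G''} [IsMonHom u] [IsMonHom v]

theorem exists_isPullbackTorsor_of_push {K : Precoverage Scheme.{u}} (hK : K.toGrothendieck ≤ J)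
    (huv : u ≫ v = 1) (hpb : IsPullback (fst G G') ((G ◁ u) ≫ μ[G]) v v)
    {Q : Over S} (a : AlgGrp.Action G' Q) (hps : NonAbH1.IsPseudoTorsorSch a)
    (hloc : NonAbH1.IsLocallyTrivialFor K Q)
    (φ : Q ⟶ G) (hφ : a.act ≫ φ = lift (fst G' Q ≫ u) (snd G' Q ≫ φ) ≫ μ[G]) :
    ∃ (f : 𝟙_ (Over S) ⟶ G'') (i : Q ⟶ G), NonAbH1.IsPullbackTorsor u v f i a := by
  haveI := mono_u hpb
  have hφ_pt : ∀ (T : Over S) (g' : T ⟶ G') (q : T ⟶ Q),
      (lift g' q ≫ a.act) ≫ φ = (g' ≫ u) * (q ≫ φ) := by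
    intro T g' q
    rw [Category.assoc, hφ, ← Category.assoc, comp_lift, lift_fst_assoc, lift_snd_assoc,
      ← Hom.mul_def]
  let i : Q ⟶ G := φ⁻¹
  have hi_pt : ∀ (T : Over S) (q : T ⟶ Q), q ≫ i = (q ≫ φ)⁻¹ := fun T q => GrpObj.comp_inv q φ
  have hi_act : ∀ (T : Over S) (g' : T ⟶ G') (q : T ⟶ Q),
      (lift g' q ≫ a.act) ≫ i = (q ≫ i) * (g' ≫ u)⁻¹ := by
    intro T g' q
    rw [hi_pt, hi_pt, hφ_pt, _root_.mul_inv_rev]
  have huv_pt : ∀ (T : Over S) (g' : T ⟶ G'), (g' ≫ u) ≫ v = 1 := by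
    intro T g'
    rw [Category.assoc, huv, MonObj.comp_one]
  -- `i` is injective on points
  have hi_inj : ∀ (T : Over S) (q q' : T ⟶ Q), q ≫ i = q' ≫ i → q = q' := by
    intro T q q' h
    have h1 := diff_act a hps q' q
    set d := lift q' q ≫ diff a hps with hd
    have h2 := hi_act T d q
    rw [h1, ← h] at h2
    have h3 : d ≫ u = 1 := by
      have : (d ≫ u)⁻¹ = 1 := by
        have h4 : (q ≫ i) * (d ≫ u)⁻¹ = (q ≫ i) * 1 := by rw [← h2, _root_.mul_one]
        exact mul_left_cancel h4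
      rwa [inv_eq_one] at this
    have h4 : d = 1 := by
      rw [← cancel_mono u, h3, MonObj.one_comp]
    rw [h4, act_one] at h1
    exact h1
  -- descend `i ≫ v` to a section of `G''`
  have hcovQ := isCov_toUnit (J := J) hK Q hloc
  obtain ⟨f, hf⟩ := hcovQ.exists_desc (i ≫ v) (by
    intro T x y _
    have h1 := diff_act a hps y x
    set d := lift y x ≫ diff a hps with hd
    rw [← h1, ← Category.assoc, ← Category.assoc, hi_act, MonObj.mul_comp, GrpObj.inv_comp,
      huv_pt, inv_one, _root_.mul_one])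
  refine ⟨f, i, inferInstance, inferInstance, ?_, ?_⟩
  · have hw : i ≫ v = toUnit Q ≫ f := hf.symm
    have key : ∀ (T : Over S) (x : T ⟶ G), x ≫ v = toUnit T ≫ f → ∃ q : T ⟶ Q, q ≫ i = x := by
      intro T x hx
      have hcovT := isCov_fst (J := J) hK T Q hloc
      haveI := hcovT.epi
      have e1 : (snd T Q ≫ i) ≫ v = (fst T Q ≫ x) ≫ v := by
        rw [Category.assoc, hw, Category.assoc, hx, ← Category.assoc, ← Category.assoc]
        congr 1
        exact toUnit_unique _ _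
      obtain ⟨g', hg'⟩ := exists_translate hpb _ _ e1
      let q₁ : T ⊗ Q ⟶ Q := lift g'⁻¹ (snd T Q) ≫ a.act
      have hq₁ : q₁ ≫ i = fst T Q ≫ x := by
        rw [hi_act, GrpObj.inv_comp, _root_.inv_inv, ← hg']
      obtain ⟨q, hq⟩ := hcovT.exists_desc q₁ (by
        intro T' y z hyz
        apply hi_inj
        have e2 : ∀ w : T' ⟶ T ⊗ Q, (w ≫ q₁) ≫ i = (w ≫ fst T Q) ≫ x := by
          intro w
          rw [Category.assoc, hq₁, Category.assoc]
        rw [e2, e2, hyz])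
      refine ⟨q, ?_⟩
      rw [← cancel_epi (fst T Q), ← Category.assoc, hq, hq₁]
    have hs : ∀ s : PullbackCone v f, s.fst ≫ v = toUnit s.pt ≫ f := fun s => by
      rw [s.condition]; congr 1; exact toUnit_unique _ _
    refine ⟨⟨hw⟩, ⟨PullbackCone.IsLimit.mk hw
      (fun s => Classical.choose (key s.pt s.fst (hs s))) ?_ ?_ ?_⟩⟩
    · intro s
      exact Classical.choose_spec (key s.pt s.fst (hs s))
    · intro s
      exact toUnit_unique _ _
    · intro s m h1 _
      apply hi_inj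
      rw [h1]
      exact (Classical.choose_spec (key s.pt s.fst (hs s))).symm
  · intro T g' p
    rw [← Category.assoc]
    exact hi_act T g' p

theorem push_of_isPullbackTorsor {Q : Over S} (a : AlgGrp.Action G' Q)
    (f : 𝟙_ (Over S) ⟶ G'') (i : Q ⟶ G) (h : NonAbH1.IsPullbackTorsor u v f i a) :
    NonAbH1.IsPushforwardAlongSch u a (NonAbH1.trivialAction G) := by
  obtain ⟨-, -, -, hi⟩ := h
  refine ⟨i⁻¹, ?_⟩
  have h1 := hi (G' ⊗ Q) (fst G' Q) (snd G' Q)
  rw [lift_fst_snd, Category.id_comp] at h1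
  change a.act ≫ i⁻¹ = lift (fst G' Q ≫ u) (snd G' Q ≫ i⁻¹) ≫ μ[G]
  rw [← Hom.mul_def, GrpObj.comp_inv, h1, _root_.mul_inv_rev, _root_.inv_inv, GrpObj.comp_inv]

end Groth.Agent.Lib.T2H3.TorsorSeq
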