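import Mathlib
import Groth.Prelude.Def_NonAbH2
import Groth.Agent.Lib.T2H3TorsorSeq
import Groth.Agent.Lib.T2H3LocTrivTrans

/-!
# Exactness of the cohomology sequence at `H¹(S, G)`: torsors which become trivial under `v`
-/

set_option autoImplicit false
set_option linter.style.haveILetI false
set_option linter.unusedSectionVars false
universe u

namespace Groth.Agent.Lib.T2H3.TorsorSeq

open CategoryTheory MonoidalCategory CartesianMonoidalCategory MonObj GrpObj AlgebraicGeometry Limits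
open Groth.Agent.Lib.T2H3.ExactDescent Groth.Agent.Lib.T2H3.ExactGrp
open Groth.Agent.Lib.Helper12 Groth.Agent.Lib.Helper12.PseudoTorsor

variable {S : Scheme.{u}}

theorem isPseudoTorsorSch_of_diff {G X : Over S} [GrpObj G] (a : AlgGrp.Action G X)
    (d : X ⊗ X ⟶ G)
    (h1 : ∀ (T : Over S) (y z : T ⟶ X), lift (lift y z ≫ d) z ≫ a.act = y)
    (h2 : ∀ (T : Over S) (g : T ⟶ G) (z : T ⟶ X), lift (lift g z ≫ a.act) z ≫ d = g) :
    NonAbH1.IsPseudoTorsorSch a := by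
  unfold NonAbH1.IsPseudoTorsorSch
  refine ⟨lift d (snd X X), ?_, ?_⟩
  · apply CartesianMonoidalCategory.hom_ext
    · have := h2 (G ⊗ X) (fst G X) (snd G X)
      rw [lift_fst_snd, Category.id_comp] at this
      rw [Category.assoc, lift_fst, Category.id_comp]
      exact this
    · simp
  · apply CartesianMonoidalCategory.hom_ext
    · have := h1 (X ⊗ X) (fst X X) (snd X X)
      rw [lift_fst_snd, Category.id_comp] at this
      rw [Category.assoc, lift_fst, Category.id_comp]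
      exact this
    · simp

variable {J : GrothendieckTopology Scheme.{u}} [J.Subcanonical]
  {G G' G'' : Over S} [GrpObj G] [GrpObj G'] [GrpObj G'']
  {u : G' ⟶ G} {v : G ⟶ G''} [IsMonHom u] [IsMonHom v]

/-- `⟸`: a torsor coming from `G'` becomes trivial under `v`. -/
theorem push_v_of_push_u {K : Precoverage Scheme.{u}} (hK : K.toGrothendieck ≤ J)
    (huv : u ≫ v = 1)
    {P : Over S} (a : AlgGrp.Action G P) (hps : NonAbH1.IsPseudoTorsorSch a)
    {Q : Over S} (b : AlgGrp.Action G' Q) (hpsQ : NonAbH1.IsPseudoTorsorSch b)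
    (hlocQ : NonAbH1.IsLocallyTrivialFor K Q)
    (h : NonAbH1.IsPushforwardAlongSch u b a) :
    NonAbH1.IsPushforwardAlongSch v a (NonAbH1.trivialAction G'') := by
  obtain ⟨j, hj⟩ := h
  have hj_pt : ∀ (T : Over S) (g' : T ⟶ G') (q : T ⟶ Q),
      (lift g' q ≫ b.act) ≫ j = lift (g' ≫ u) (q ≫ j) ≫ a.act := by
    intro T g' q
    rw [Category.assoc, hj, ← Category.assoc, comp_lift, lift_fst_assoc, lift_snd_assoc]
  have huv_pt : ∀ (T : Over S) (g' : T ⟶ G'), (g' ≫ u) ≫ v = 1 := by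
    intro T g'
    rw [Category.assoc, huv, MonObj.comp_one]
  let ψ₀ : P ⊗ Q ⟶ G'' := lift (fst P Q) (snd P Q ≫ j) ≫ diff a hps ≫ v
  have hψ₀_pt : ∀ (T : Over S) (p : T ⟶ P) (q : T ⟶ Q),
      lift p q ≫ ψ₀ = (lift p (q ≫ j) ≫ diff a hps) ≫ v := by
    intro T p q
    simp only [ψ₀, ← Category.assoc, comp_lift, lift_fst, lift_snd]
  have hcov := isCov_fst (J := J) hK P Q hlocQ
  obtain ⟨ψ, hψ⟩ := hcov.exists_desc ψ₀ (by
    intro T x y hxy
    obtain ⟨p, q, rfl⟩ : ∃ p q, x = lift p q := ⟨x ≫ fst P Q, x ≫ snd P Q, by ext <;> simp⟩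
    obtain ⟨p', q', rfl⟩ : ∃ p' q', y = lift p' q' := ⟨y ≫ fst P Q, y ≫ snd P Q, by ext <;> simp⟩
    rw [lift_fst, lift_fst] at hxy
    subst hxy
    have h1 := diff_act b hpsQ q' q
    set d := lift q' q ≫ diff b hpsQ with hd
    rw [hψ₀_pt, hψ₀_pt, ← h1, hj_pt, diff_act_right, MonObj.mul_comp, GrpObj.inv_comp, huv_pt,
      inv_one, _root_.mul_one])
  have hψ_pt : ∀ (T : Over S) (p : T ⟶ P) (q : T ⟶ Q),
      p ≫ ψ = (lift p (q ≫ j) ≫ diff a hps) ≫ v := by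
    intro T p q
    rw [← hψ₀_pt, ← hψ, ← Category.assoc, lift_fst]
  refine ⟨ψ, ?_⟩
  change a.act ≫ ψ = lift (fst G P ≫ v) (snd G P ≫ ψ) ≫ μ[G'']
  have hcov2 := isCov_fst (J := J) hK (G ⊗ P) Q hlocQ
  haveI := hcov2.epi
  rw [← cancel_epi (fst (G ⊗ P) Q)]
  set g : (G ⊗ P) ⊗ Q ⟶ G := fst (G ⊗ P) Q ≫ fst G P with hg
  set p : (G ⊗ P) ⊗ Q ⟶ P := fst (G ⊗ P) Q ≫ snd G P with hp
  set q : (G ⊗ P) ⊗ Q ⟶ Q := snd (G ⊗ P) Q with hq
  have e : fst (G ⊗ P) Q = lift g p := by ext <;> simp [g, p]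
  rw [e, ← Category.assoc, hψ_pt _ _ q, diff_act_left, MonObj.mul_comp, ← hψ_pt, ← Category.assoc,
    comp_lift, lift_fst_assoc, lift_snd_assoc, ← Hom.mul_def]

section Fibre

variable {P : Over S} (a : AlgGrp.Action G P) (ψ : P ⟶ G'')

/-- the fibre of `ψ` over the unit section -/
noncomputable abbrev Fib : Over S := pullback ψ η[G'']

/-- the inclusion of the fibre -/
noncomputable abbrev fibι : Fib ψ ⟶ P := pullback.fst ψ η[G'']

theorem fibι_ψ : fibι ψ ≫ ψ = 1 := by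
  rw [pullback.condition, Hom.one_def]
  congr 1
  exact toUnit_unique _ _

/-- lifting a point of `P` killed by `ψ` to the fibre -/
noncomputable def fibLift {T : Over S} (p : T ⟶ P) (hp : p ≫ ψ = 1) : T ⟶ Fib ψ :=
  pullback.lift p (toUnit T) (by rw [hp, Hom.one_def])

@[simp]
theorem fibLift_ι {T : Over S} (p : T ⟶ P) (hp : p ≫ ψ = 1) : fibLift ψ p hp ≫ fibι ψ = p :=
  pullback.lift_fst _ _ _

theorem fibι_inj {T : Over S} (q q' : T ⟶ Fib ψ) (h : q ≫ fibι ψ = q' ≫ fibι ψ) : q = q' :=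
  pullback.hom_ext h (toUnit_unique _ _)

variable (hψ : a.act ≫ ψ = lift (fst G P ≫ v) (snd G P ≫ ψ) ≫ μ[G''])

include hψ in
theorem ψ_act_pt (T : Over S) (g : T ⟶ G) (p : T ⟶ P) :
    (lift g p ≫ a.act) ≫ ψ = (g ≫ v) * (p ≫ ψ) := by
  rw [Category.assoc, hψ, ← Category.assoc, comp_lift, lift_fst_assoc, lift_snd_assoc,
    ← Hom.mul_def]

variable (huv : u ≫ v = 1)

/-- the action morphism of `G'` on the fibre -/
noncomputable def fibActMor : G' ⊗ Fib ψ ⟶ Fib ψ :=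
  fibLift ψ (lift (fst G' (Fib ψ) ≫ u) (snd G' (Fib ψ) ≫ fibι ψ) ≫ a.act) (by
    rw [ψ_act_pt a ψ hψ, Category.assoc, huv, MonObj.comp_one, Category.assoc, fibι_ψ,
      MonObj.comp_one, _root_.mul_one])

theorem fibActMor_pt (T : Over S) (g' : T ⟶ G') (q : T ⟶ Fib ψ) :
    (lift g' q ≫ fibActMor a ψ hψ huv) ≫ fibι ψ = lift (g' ≫ u) (q ≫ fibι ψ) ≫ a.act := by
  rw [Category.assoc, fibActMor, fibLift_ι, ← Category.assoc, comp_lift, lift_fst_assoc,
    lift_snd_assoc]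

/-- the action of `G'` on the fibre -/
noncomputable def fibAct : AlgGrp.Action G' (Fib ψ) where
  act := fibActMor a ψ hψ huv
  one_act := by
    apply fibι_inj
    have e : η[G'] ▷ Fib ψ = lift (1 : 𝟙_ (Over S) ⊗ Fib ψ ⟶ G') (snd _ (Fib ψ)) := by
      apply CartesianMonoidalCategory.hom_ext
      · rw [whiskerRight_fst, lift_fst, Hom.one_def]
        congr 1
      · rw [whiskerRight_snd, lift_snd]
    rw [e, fibActMor_pt, MonObj.one_comp, act_one, leftUnitor_hom]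
  mul_act := by
    apply fibι_inj
    set g₁ : (G' ⊗ G') ⊗ Fib ψ ⟶ G' := fst _ _ ≫ fst _ _ with hg₁
    set g₂ : (G' ⊗ G') ⊗ Fib ψ ⟶ G' := fst _ _ ≫ snd _ _ with hg₂
    set q : (G' ⊗ G') ⊗ Fib ψ ⟶ Fib ψ := snd _ _ with hq
    have e1 : μ[G'] ▷ Fib ψ = lift (g₁ * g₂) q := by
      apply CartesianMonoidalCategory.hom_ext
      · rw [whiskerRight_fst, lift_fst, Hom.mul_def, hg₁, hg₂, ← comp_lift, lift_fst_snd,
          Category.comp_id]
      · rw [whiskerRight_snd, lift_snd]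
    have e2 : (α_ G' G' (Fib ψ)).hom ≫ (G' ◁ fibActMor a ψ hψ huv) =
        lift g₁ (lift g₂ q ≫ fibActMor a ψ hψ huv) := by
      apply CartesianMonoidalCategory.hom_ext
      · simp [g₁]
      · rw [Category.assoc, whiskerLeft_snd, lift_snd, ← Category.assoc]
        congr 1
        apply CartesianMonoidalCategory.hom_ext
        · simp [g₂]
        · simp [q]
    rw [e1, fibActMor_pt, ← Category.assoc ((α_ G' G' (Fib ψ)).hom), e2, fibActMor_pt,
      fibActMor_pt, MonObj.mul_comp, act_mul]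

theorem fibAct_act : (fibAct a ψ hψ huv).act = fibActMor a ψ hψ huv := rfl

variable (hpb : IsPullback (fst G G') ((G ◁ u) ≫ μ[G]) v v) (hps : NonAbH1.IsPseudoTorsorSch a)

include hpb hps in
theorem fib_isPseudoTorsorSch : NonAbH1.IsPseudoTorsorSch (fibAct a ψ hψ huv) := by
  haveI := mono_u hpb
  have hker : (lift (fst (Fib ψ) (Fib ψ) ≫ fibι ψ) (snd (Fib ψ) (Fib ψ) ≫ fibι ψ) ≫ diff a hps) ≫ v
      = 1 := by
    have e1 : ∀ w : Fib ψ ⊗ Fib ψ ⟶ Fib ψ, (w ≫ fibι ψ) ≫ ψ = 1 := fun w => by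
      rw [Category.assoc, fibι_ψ, MonObj.comp_one]
    have h1 := diff_act a hps (fst (Fib ψ) (Fib ψ) ≫ fibι ψ) (snd (Fib ψ) (Fib ψ) ≫ fibι ψ)
    have h2 : (lift (lift (fst (Fib ψ) (Fib ψ) ≫ fibι ψ) (snd (Fib ψ) (Fib ψ) ≫ fibι ψ) ≫
        diff a hps) (snd (Fib ψ) (Fib ψ) ≫ fibι ψ) ≫ a.act) ≫ ψ =
        (fst (Fib ψ) (Fib ψ) ≫ fibι ψ) ≫ ψ := by rw [h1]
    rw [ψ_act_pt a ψ hψ, e1, e1, _root_.mul_one] at h2
    exact h2
  obtain ⟨d, hd⟩ := exists_kernel_lift hpb _ hker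
  have hd_pt : ∀ (T : Over S) (y z : T ⟶ Fib ψ),
      (lift y z ≫ d) ≫ u = lift (y ≫ fibι ψ) (z ≫ fibι ψ) ≫ diff a hps := by
    intro T y z
    rw [Category.assoc, hd, ← Category.assoc, comp_lift, lift_fst_assoc, lift_snd_assoc]
  apply isPseudoTorsorSch_of_diff _ d
  · intro T y z
    apply fibι_inj
    rw [fibAct_act, fibActMor_pt, hd_pt, diff_act]
  · intro T g' z
    rw [← cancel_mono u, hd_pt, fibAct_act, fibActMor_pt, diff_act_left, diff_self,
      _root_.mul_one]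

include hψ in
theorem fib_isLocallyTrivialFor {K : Precoverage Scheme.{u}} [K.IsStableUnderComposition]
    [K.IsStableUnderBaseChange]
    (hP : NonAbH1.IsLocallyTrivialFor K P)
    (hv : NonAbH1.IsLocallyTrivialFor K (Over.mk v.left : Over G''.left)) :
    NonAbH1.IsLocallyTrivialFor K (Fib ψ) := by
  refine Groth.Agent.Lib.T2H3.LocTrivTrans.isLocallyTrivialFor_of_lift P (Fib ψ) v.left ψ.left
    hP hv ?_
  intro S' f' s hs t ht
  let T : Over S := Over.mk f'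
  let sO : T ⟶ P := Over.homMk s hs
  let tO : T ⟶ G := Over.homMk t (by
    change t ≫ G.hom = f'
    rw [← Over.w v, ← Category.assoc, ht, Category.assoc, Over.w ψ, hs])
  have hts : tO ≫ v = sO ≫ ψ := by
    ext1
    exact ht
  let q : T ⟶ Fib ψ := fibLift ψ (lift tO⁻¹ sO ≫ a.act) (by
    rw [ψ_act_pt a ψ hψ, GrpObj.inv_comp, hts, inv_mul_cancel])
  exact ⟨q.left, Over.w q⟩

end Fibre

/-- `⟹`: a torsor which becomes trivial under `v` comes from `G'`. -/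
theorem exists_push_u_of_push_v {K : Precoverage Scheme.{u}} [K.IsStableUnderComposition]
    [K.IsStableUnderBaseChange]
    (huv : u ≫ v = 1) (hpb : IsPullback (fst G G') ((G ◁ u) ≫ μ[G]) v v)
    (hv : NonAbH1.IsLocallyTrivialFor K (Over.mk v.left : Over G''.left))
    (P : NonAbH1.TorsorSch G K)
    (h : NonAbH1.IsPushforwardAlongSch v P.act (NonAbH1.trivialAction G'')) :
    ∃ Q : NonAbH1.TorsorSch G' K, NonAbH1.IsPushforwardAlongSch u Q.act P.act := by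
  obtain ⟨ψ, hψ⟩ := h
  have hψ' : P.act.act ≫ ψ = lift (fst G P.X ≫ v) (snd G P.X ≫ ψ) ≫ μ[G''] := hψ
  refine ⟨⟨Fib ψ, fibAct P.act ψ hψ' huv,
    fib_isPseudoTorsorSch P.act ψ hψ' huv hpb P.isTorsor.1,
    fib_isLocallyTrivialFor P.act ψ hψ' P.isTorsor.2 hv⟩, fibι ψ, ?_⟩
  change fibActMor P.act ψ hψ' huv ≫ fibι ψ = _
  rw [fibActMor, fibLift_ι]

end Groth.Agent.Lib.T2H3.TorsorSeq
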