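import Mathlib
import Groth.Prelude.Def_Red
import Groth.Prelude.Def_NonAbH2
import Groth.Prelude.Def_ActBC
import Groth.Agent.Lib.T2H3TorsorBasics

/-!
# A torsor is trivial if and only if it has a section
-/

set_option autoImplicit false
set_option linter.style.haveILetI false
universe u

open CategoryTheory MonoidalCategory CartesianMonoidalCategory MonObj GrpObj AlgebraicGeometry Limits

namespace Groth.Agent.Lib.T2H3.TorsorTriv

open Groth.Agent.Lib.Helper12 Groth.Agent.Lib.T2H3.TorsorBasics

variable {S : Scheme.{u}} {G : Over S} [GrpObj G]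

/-- the orbit map of a section, on points. -/
lemma comp_orbitMap {X : Over S} (a : AlgGrp.Action G X) (o : 𝟙_ (Over S) ⟶ X) {T : Over S}
    (g : T ⟶ G) : g ≫ a.orbitMap o = lift g (toUnit T ≫ o) ≫ a.act := by
  unfold AlgGrp.Action.orbitMap
  rw [← Category.assoc, comp_lift, Category.comp_id, ← Category.assoc]
  congr 3
  exact toUnit_unique _ _

/-- the orbit map of a section is equivariant. -/
lemma orbitMap_equivariant {X : Over S} (a : AlgGrp.Action G X) (o : 𝟙_ (Over S) ⟶ X) :
    (NonAbH1.trivialAction G).act ≫ a.orbitMap o = (G ◁ a.orbitMap o) ≫ a.act := by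
  have hμ : (NonAbH1.trivialAction G).act = fst G G * snd G G := by
    change μ[G] = _
    rw [Hom.mul_def, lift_fst_snd, Category.id_comp]
  have h2 : (G ◁ a.orbitMap o) = lift (fst G G) (snd G G ≫ a.orbitMap o) := by
    apply CartesianMonoidalCategory.hom_ext <;> simp
  rw [hμ, comp_orbitMap, h2, comp_orbitMap, act_mul]

/-- a torsor with a section is trivial. -/
theorem cl_eq_one_of_section (P : NonAbH1.TorsorSch G Scheme.fppfPrecoverage)
    (o : 𝟙_ (Over S) ⟶ P.X) : P.cl = 1 := by
  obtain ⟨hps, R, hR, -⟩ := P.isTorsor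
  have hiso : IsIso (P.act.orbitMap o) :=
    isIso_of_equivariant (NonAbH1.trivialAction G) P.act
      (NonAbH1.isPseudoTorsorSch_trivialAction G) hps R
      (Scheme.fppfPrecoverage_le_fpqcPrecoverage _ hR)
      (fun S' f _ => ⟨f ≫ η[G].left, by
        rw [Category.assoc]
        have : η[G].left ≫ G.hom = 𝟙 S := Over.w η[G]
        rw [this, Category.comp_id]⟩)
      (P.act.orbitMap o) (orbitMap_equivariant P.act o)
  have e : NonAbH1.EquivIso (NonAbH1.trivialAction G) P.act :=
    { iso := asIso (P.act.orbitMap o)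
      comm := orbitMap_equivariant P.act o }
  exact (Quot.sound ⟨equivIsoSymm e⟩ : P.cl = NonAbH1.TorsorSch.cl
    ⟨G, NonAbH1.trivialAction G, NonAbH1.isTorsorFor_trivialAction G _⟩)

/-- a trivial torsor has a section. -/
theorem nonempty_section_of_cl_eq_one (P : NonAbH1.TorsorSch G Scheme.fppfPrecoverage)
    (h : P.cl = 1) : Nonempty (𝟙_ (Over S) ⟶ P.X) := by
  have h' : P.cl = NonAbH1.TorsorSch.cl
      ⟨G, NonAbH1.trivialAction G, NonAbH1.isTorsorFor_trivialAction G _⟩ := h
  obtain ⟨e⟩ := nonempty_equivIso_of_cl_eq _ _ h'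
  exact ⟨η[G] ≫ e.iso.inv⟩

end Groth.Agent.Lib.T2H3.TorsorTriv
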