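import Mathlib
import Groth.Agent.Lib.T2H3GrpAlgUnits

/-!
# A pushout of a ring along `ℤ → ℤ[G]` is the group algebra
-/

set_option autoImplicit false
set_option linter.style.haveILetI false
universe u

open CategoryTheory CategoryTheory.Limits

namespace Groth.Agent.Lib.T2H3.TorusPushout

variable {G : Type} [AddCommGroup G]

/-- the monomial `t^e` in `ULift ℤ[G]`. -/
noncomputable def mono (e : G) : ULift.{u} (AddMonoidAlgebra ℤ G) :=
  ULift.up (AddMonoidAlgebra.single e 1)

theorem mono_add (e e' : G) : (mono.{u} (e + e') : ULift.{u} (AddMonoidAlgebra ℤ G)) =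
    mono e * mono e' := by
  apply ULift.ext
  change AddMonoidAlgebra.single (e + e') (1 : ℤ) = AddMonoidAlgebra.single e 1 *
    AddMonoidAlgebra.single e' 1
  rw [AddMonoidAlgebra.single_mul_single, one_mul]

theorem mono_zero : (mono.{u} (0 : G) : ULift.{u} (AddMonoidAlgebra ℤ G)) = 1 := rfl

variable {Z₀ A B C : CommRingCat.{u}} {a : Z₀ ⟶ A} {b : Z₀ ⟶ B} {α : A ⟶ C} {β : B ⟶ C}

theorem exists_ringEquiv (H : IsPushout a b α β)
    (hZ : ∀ (D : CommRingCat.{u}) (f g : Z₀ ⟶ D), f = g)
    (ι : CommRingCat.of (ULift.{u} (AddMonoidAlgebra ℤ G)) ≅ B) :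
    ∃ Φ : C ≃+* AddMonoidAlgebra A G,
      (∀ x : A, Φ (α.hom x) = AddMonoidAlgebra.single 0 x) ∧
      (∀ e : G, Φ (β.hom (ι.hom.hom (mono e))) = AddMonoidAlgebra.single e 1) := by
  let φA : A ⟶ CommRingCat.of (AddMonoidAlgebra A G) :=
    CommRingCat.ofHom AddMonoidAlgebra.singleZeroRingHom
  let φB : B ⟶ CommRingCat.of (AddMonoidAlgebra A G) :=
    ι.inv ≫ CommRingCat.ofHom ((AddMonoidAlgebra.mapRingHom G (Int.castRingHom A)).comp
      (ULift.ringEquiv : ULift.{u} (AddMonoidAlgebra ℤ G) ≃+* _).toRingHom)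
  let Φ : C ⟶ CommRingCat.of (AddMonoidAlgebra A G) := H.desc φA φB (hZ _ _ _)
  have hΦα : α ≫ Φ = φA := H.inl_desc _ _ _
  have hΦβ : β ≫ Φ = φB := H.inr_desc _ _ _
  have hφB : ∀ e : G, φB.hom (ι.hom.hom (mono e)) = AddMonoidAlgebra.single e 1 := by
    intro e
    change (AddMonoidAlgebra.mapRingHom G (Int.castRingHom A))
      (ULift.ringEquiv (ι.inv.hom (ι.hom.hom (mono e)))) = _
    have : ι.inv.hom (ι.hom.hom (mono e)) = mono e := by
      rw [← CommRingCat.comp_apply, ι.hom_inv_id]; rfl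
    rw [this]
    change (AddMonoidAlgebra.mapRingHom G (Int.castRingHom A)) (AddMonoidAlgebra.single e 1) = _
    rw [AddMonoidAlgebra.mapRingHom_single, map_one]
  let gm : Multiplicative G →* C :=
    { toFun := fun e => β.hom (ι.hom.hom (mono (Multiplicative.toAdd e)))
      map_one' := by
        change β.hom (ι.hom.hom (mono 0)) = 1
        rw [mono_zero, map_one, map_one]
      map_mul' := fun x y => by
        change β.hom (ι.hom.hom (mono (Multiplicative.toAdd x + Multiplicative.toAdd y))) = _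
        rw [mono_add, map_mul, map_mul] }
  let Ψ : AddMonoidAlgebra A G →+* C :=
    AddMonoidAlgebra.liftNCRingHom α.hom gm (fun _ _ => Commute.all _ _)
  have hΨ : ∀ (e : G) (x : A), Ψ (AddMonoidAlgebra.single e x) =
      α.hom x * β.hom (ι.hom.hom (mono e)) := by
    intro e x
    exact AddMonoidAlgebra.liftNCRingHom_single _ _ _ _ _
  have h1 : Φ.hom.comp Ψ = RingHom.id _ := by
    apply AddMonoidAlgebra.ringHom_ext
    · intro x
      rw [RingHom.comp_apply, hΨ, mono_zero, map_one, map_one, mul_one, RingHom.id_apply]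
      exact congrArg (fun f => f.hom x) hΦα
    · intro e
      rw [RingHom.comp_apply, hΨ, map_one, one_mul, RingHom.id_apply]
      have := congrArg (fun f => f.hom (ι.hom.hom (mono e))) hΦβ
      exact this.trans (hφB e)
  have h2 : Φ ≫ CommRingCat.ofHom Ψ = 𝟙 C := by
    apply H.hom_ext
    · rw [← Category.assoc, hΦα, Category.comp_id]
      ext x
      change Ψ (AddMonoidAlgebra.single 0 x) = α.hom x
      rw [hΨ, mono_zero, map_one, map_one, mul_one]
    · rw [← Category.assoc, hΦβ, Category.comp_id]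
      rw [← cancel_epi ι.hom]
      ext x
      obtain ⟨x, rfl⟩ := (ULift.ringEquiv : ULift.{u} (AddMonoidAlgebra ℤ G) ≃+* _).symm.surjective x
      change ((Ψ.comp (φB.hom.comp ι.hom.hom)).comp (ULift.ringEquiv :
        ULift.{u} (AddMonoidAlgebra ℤ G) ≃+* _).symm.toRingHom) x =
        ((β.hom.comp ι.hom.hom).comp (ULift.ringEquiv :
        ULift.{u} (AddMonoidAlgebra ℤ G) ≃+* _).symm.toRingHom) x
      congr 1
      apply AddMonoidAlgebra.ringHom_ext
      · intro r
        have : (AddMonoidAlgebra.single (0 : G) r : AddMonoidAlgebra ℤ G) = (r : AddMonoidAlgebra ℤ G) := by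
          rw [AddMonoidAlgebra.intCast_def, Int.cast_id]
        rw [this, map_intCast, map_intCast]
      · intro e
        change Ψ (φB.hom (ι.hom.hom (mono e))) = β.hom (ι.hom.hom (mono e))
        rw [hφB, hΨ, map_one, one_mul]
  refine ⟨RingEquiv.ofRingHom Φ.hom Ψ h1 ?_, ?_, ?_⟩
  · have := congrArg CommRingCat.Hom.hom h2
    exact this
  · intro x
    exact congrArg (fun f => f.hom x) hΦα
  · intro e
    have := congrArg (fun f => f.hom (ι.hom.hom (mono e))) hΦβ
    exact this.trans (hφB e)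

end Groth.Agent.Lib.T2H3.TorusPushout
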