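import Mathlib
import Groth.Agent.Lib.T2H3TorusPushout

/-!
# Functions on `U × 𝔾_mⁿ` for an affine open `U`
-/

set_option autoImplicit false
set_option linter.style.haveILetI false
universe u

open CategoryTheory CategoryTheory.Limits AlgebraicGeometry

namespace Groth.Agent.Lib.T2H3.TorusLocal

open Groth.Agent.Lib.T2H3.TorusPushout

variable (X : Scheme.{u}) (n : ℕ)

/-- the torus -/
noncomputable abbrev Tor : Scheme.{u} :=
  Spec (CommRingCat.of (ULift.{u} (AddMonoidAlgebra ℤ (Fin n → ℤ))))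

/-- the monomial function `t^e` on the torus -/
noncomputable def τ (e : Fin n → ℤ) : Γ(Tor.{u} n, ⊤) :=
  (Scheme.ΓSpecIso (CommRingCat.of (ULift.{u} (AddMonoidAlgebra ℤ (Fin n → ℤ))))).inv
    (ULift.up (AddMonoidAlgebra.single e 1))

theorem local_structure (U : X.Opens) (hU : IsAffineOpen U) :
    ∃ Φ : Γ(X ⨯ Tor.{u} n, (prod.fst : X ⨯ Tor.{u} n ⟶ X) ⁻¹ᵁ U) ≃+*
        AddMonoidAlgebra Γ(X, U) (Fin n → ℤ),
      (∀ x : Γ(X, U), Φ (((prod.fst : X ⨯ Tor.{u} n ⟶ X).app U).hom x) =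
        AddMonoidAlgebra.single 0 x) ∧
      (∀ e : Fin n → ℤ, Φ (((prod.snd : X ⨯ Tor.{u} n ⟶ Tor.{u} n).appLE ⊤
        ((prod.fst : X ⨯ Tor.{u} n ⟶ X) ⁻¹ᵁ U) le_top).hom (τ n e)) =
        AddMonoidAlgebra.single e 1) := by
  have H : IsPullback (prod.fst : X ⨯ Tor.{u} n ⟶ X) (prod.snd : X ⨯ Tor.{u} n ⟶ Tor.{u} n)
      (specULiftZIsTerminal.from X) (specULiftZIsTerminal.from (Tor.{u} n)) :=
    IsPullback.of_is_product (limit.isLimit (pair X (Tor.{u} n))) specULiftZIsTerminal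
  have hUY : (prod.fst : X ⨯ Tor.{u} n ⟶ X) ⁻¹ᵁ U =
      (prod.fst : X ⨯ Tor.{u} n ⟶ X) ⁻¹ᵁ U ⊓
        (prod.snd : X ⨯ Tor.{u} n ⟶ Tor.{u} n) ⁻¹ᵁ ⊤ := by simp
  have hiso := isIso_pushoutSection_of_isAffineOpen H (US := ⊤) (UT := ⊤) (UX := U)
    le_top le_top hUY (isAffineOpen_top _) (isAffineOpen_top _) hU
  have hpo := (isIso_pushoutSection_iff H (US := ⊤) (UT := ⊤) (UX := U) le_top le_top hUY).mp hiso
  have hZ : ∀ (D : CommRingCat.{u}) (f g : Γ(Spec (CommRingCat.of (ULift.{u} ℤ)), ⊤) ⟶ D),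
      f = g := by
    intro D f g
    rw [← cancel_epi (Scheme.ΓSpecIso (CommRingCat.of (ULift.{u} ℤ))).inv]
    exact CommRingCat.isInitial.hom_ext _ _
  obtain ⟨Φ, h1, h2⟩ := exists_ringEquiv (G := Fin n → ℤ) hpo hZ
    (Scheme.ΓSpecIso (CommRingCat.of (ULift.{u} (AddMonoidAlgebra ℤ (Fin n → ℤ))))).symm
  refine ⟨Φ, ?_, ?_⟩
  · intro x
    rw [Scheme.Hom.app_eq_appLE]
    exact h1 x
  · intro e
    exact h2 e

/-- `pr₁^*` on `U` -/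
noncomputable abbrev αU (U : X.Opens) :
    Γ(X, U) →+* Γ(X ⨯ Tor.{u} n, (prod.fst : X ⨯ Tor.{u} n ⟶ X) ⁻¹ᵁ U) :=
  ((prod.fst : X ⨯ Tor.{u} n ⟶ X).app U).hom

/-- `pr₂^*` restricted to `U × T` -/
noncomputable abbrev βU (U : X.Opens) :
    Γ(Tor.{u} n, ⊤) →+* Γ(X ⨯ Tor.{u} n, (prod.fst : X ⨯ Tor.{u} n ⟶ X) ⁻¹ᵁ U) :=
  ((prod.snd : X ⨯ Tor.{u} n ⟶ Tor.{u} n).appLE ⊤
    ((prod.fst : X ⨯ Tor.{u} n ⟶ X) ⁻¹ᵁ U) le_top).hom

theorem local_units [IsIntegral X] (U : X.Opens) (hU : IsAffineOpen U) [Nonempty U]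
    (v : Γ(X ⨯ Tor.{u} n, (prod.fst : X ⨯ Tor.{u} n ⟶ X) ⁻¹ᵁ U)) (hv : IsUnit v) :
    ∃ (c : Γ(X, U)ˣ) (e : Fin n → ℤ), v = αU X n U c * βU X n U (τ n e) := by
  obtain ⟨Φ, h1, h2⟩ := local_structure X n U hU
  obtain ⟨c, e, hce⟩ := Groth.Agent.Lib.T2H3.GrpAlgUnits.exists_unit_single_of_isUnit (Φ v)
    (hv.map Φ)
  refine ⟨c, e, Φ.injective ?_⟩
  rw [hce, map_mul, h1, h2, AddMonoidAlgebra.single_mul_single, zero_add, mul_one]

theorem local_unique [IsIntegral X] (U : X.Opens) (hU : IsAffineOpen U) [Nonempty U]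
    (c c' : Γ(X, U)) (e e' : Fin n → ℤ) (hc : c ≠ 0)
    (h : αU X n U c * βU X n U (τ n e) = αU X n U c' * βU X n U (τ n e')) :
    c = c' ∧ e = e' := by
  obtain ⟨Φ, h1, h2⟩ := local_structure X n U hU
  have := congrArg Φ h
  rw [map_mul, map_mul, h1, h2, h1, h2, AddMonoidAlgebra.single_mul_single,
    AddMonoidAlgebra.single_mul_single, zero_add, mul_one, zero_add, mul_one] at this
  have := Groth.Agent.Lib.T2H3.GrpAlgUnits.single_unit_inj hc this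
  exact ⟨this.2, this.1⟩

end Groth.Agent.Lib.T2H3.TorusLocal
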