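import Mathlib
import Groth.Agent.Lib.T2H3TorusLocal

/-!
# Units on `X × 𝔾_mⁿ` for an integral scheme `X`
-/

set_option autoImplicit false
set_option linter.style.haveILetI false
universe u

open CategoryTheory CategoryTheory.Limits AlgebraicGeometry Opposite

namespace Groth.Agent.Lib.T2H3.TorusLocal

variable (X : Scheme.{u}) (n : ℕ)

/-- the product -/
noncomputable abbrev PT : Scheme.{u} := X ⨯ Tor.{u} n

/-- first projection -/
noncomputable abbrev p1 : PT X n ⟶ X := prod.fst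

/-- second projection -/
noncomputable abbrev p2 : PT X n ⟶ Tor.{u} n := prod.snd

theorem res_α {U W : X.Opens} (h : W ≤ U) (c : Γ(X, U)) :
    (PT X n).presheaf.map (homOfLE ((p1 X n).preimage_mono h)).op (αU X n U c) =
      αU X n W (X.presheaf.map (homOfLE h).op c) := by
  change ((p1 X n).app U ≫ (PT X n).presheaf.map (homOfLE ((p1 X n).preimage_mono h)).op).hom c =
    (X.presheaf.map (homOfLE h).op ≫ (p1 X n).app W).hom c
  congr 2
  exact ((p1 X n).naturality (homOfLE h).op).symm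

theorem res_β {U W : X.Opens} (h : W ≤ U) (t : Γ(Tor.{u} n, ⊤)) :
    (PT X n).presheaf.map (homOfLE ((p1 X n).preimage_mono h)).op (βU X n U t) =
      βU X n W t := by
  change ((p2 X n).appLE ⊤ ((p1 X n) ⁻¹ᵁ U) le_top ≫
    (PT X n).presheaf.map (homOfLE ((p1 X n).preimage_mono h)).op).hom t = _
  rw [Scheme.Hom.appLE_map]

theorem top_α (U : X.Opens) (c : Γ(X, ⊤)) :
    (PT X n).presheaf.map (homOfLE (le_top : (p1 X n) ⁻¹ᵁ U ≤ ⊤)).op ((p1 X n).appTop.hom c) =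
      αU X n U (X.presheaf.map (homOfLE (le_top : U ≤ ⊤)).op c) :=
  res_α X n (le_top : U ≤ ⊤) c

theorem top_β (U : X.Opens) (t : Γ(Tor.{u} n, ⊤)) :
    (PT X n).presheaf.map (homOfLE (le_top : (p1 X n) ⁻¹ᵁ U ≤ ⊤)).op ((p2 X n).appTop.hom t) =
      βU X n U t := rfl

/-- nonempty affine opens -/
def I : Type u := {U : X.Opens // IsAffineOpen U ∧ Nonempty U}

theorem iSup_I : (⊤ : X.Opens) ≤ ⨆ U : I X, U.1 := by
  intro x _
  obtain ⟨_, ⟨W, hW, rfl⟩, hxW, -⟩ :=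
    X.isBasis_affineOpens.exists_subset_of_mem_open (Set.mem_univ x) isOpen_univ
  exact TopologicalSpace.Opens.mem_iSup.mpr ⟨⟨W, hW, ⟨⟨x, hxW⟩⟩⟩, hxW⟩

theorem main [IsIntegral X] (v : Γ(PT X n, ⊤)) (hv : IsUnit v) :
    ∃! p : (Γ(X, ⊤))ˣ × (Fin n → ℤ),
      v = (p1 X n).appTop.hom (p.1 : Γ(X, ⊤)) * (p2 X n).appTop.hom (τ n p.2) := by
  classical
  let vU : ∀ U : X.Opens, Γ(PT X n, (p1 X n) ⁻¹ᵁ U) := fun U =>
    (PT X n).presheaf.map (homOfLE (le_top : (p1 X n) ⁻¹ᵁ U ≤ ⊤)).op v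
  have hvU : ∀ U, IsUnit (vU U) := fun U => hv.map _
  have hloc : ∀ U : I X, ∃ (c : Γ(X, U.1)ˣ) (e : Fin n → ℤ),
      vU U.1 = αU X n U.1 c * βU X n U.1 (τ n e) := fun U => by
    haveI := U.2.2
    exact local_units X n U.1 U.2.1 (vU U.1) (hvU U.1)
  choose c e hce using hloc
  have hres : ∀ (U W : I X) (h : W.1 ≤ U.1),
      X.presheaf.map (homOfLE h).op (c U : Γ(X, U.1)) = (c W : Γ(X, W.1)) ∧ e U = e W := by
    intro U W h
    haveI := W.2.2
    have h1 : vU W.1 =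
        (PT X n).presheaf.map (homOfLE ((p1 X n).preimage_mono h)).op (vU U.1) := by
      simp only [vU]
      rw [← ConcreteCategory.comp_apply, ← Functor.map_comp]
      rfl
    rw [hce U, map_mul, res_α X n h, res_β X n h, hce W] at h1
    have := local_unique X n W.1 W.2.1 _ _ _ _ (c W).ne_zero h1
    exact ⟨this.1.symm, this.2.symm⟩
  have hrefine : ∀ U U' : I X, ∃ W : I X, W.1 ≤ U.1 ⊓ U'.1 := by
    intro U U'
    obtain ⟨⟨y, hy⟩⟩ := U.2.2
    obtain ⟨⟨y', hy'⟩⟩ := U'.2.2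
    obtain ⟨x, hx⟩ : ((U.1 : Set X) ∩ (U'.1 : Set X)).Nonempty :=
      nonempty_preirreducible_inter U.1.2 U'.1.2 ⟨y, hy⟩ ⟨y', hy'⟩
    obtain ⟨_, ⟨W, hW, rfl⟩, hxW, hWU⟩ :=
      X.isBasis_affineOpens.exists_subset_of_mem_open hx (U.1 ⊓ U'.1).isOpen
    exact ⟨⟨W, hW, ⟨⟨x, hxW⟩⟩⟩, hWU⟩
  have he : ∀ U U' : I X, e U = e U' := by
    intro U U'
    obtain ⟨W, hW⟩ := hrefine U U'
    rw [(hres U W (hW.trans inf_le_left)).2, (hres U' W (hW.trans inf_le_right)).2]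
  obtain ⟨U₀⟩ : Nonempty (I X) := by
    obtain ⟨x⟩ : Nonempty X := inferInstance
    obtain ⟨_, ⟨W, hW, rfl⟩, hxW, -⟩ :=
      X.isBasis_affineOpens.exists_subset_of_mem_open (Set.mem_univ x) isOpen_univ
    exact ⟨⟨W, hW, ⟨⟨x, hxW⟩⟩⟩⟩
  have hcompat : TopCat.Presheaf.IsCompatible X.presheaf (fun U : I X => U.1)
      (fun U => (c U : Γ(X, U.1))) := by
    intro U U'
    obtain ⟨W, hW⟩ := hrefine U U'
    haveI := W.2.2
    apply map_injective_of_isIntegral X (homOfLE hW)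
    change (X.presheaf.map (TopologicalSpace.Opens.infLELeft U.1 U'.1).op ≫
        X.presheaf.map (homOfLE hW).op).hom _ =
      (X.presheaf.map (TopologicalSpace.Opens.infLERight U.1 U'.1).op ≫
        X.presheaf.map (homOfLE hW).op).hom _
    rw [← Functor.map_comp, ← Functor.map_comp]
    exact (hres U W (hW.trans inf_le_left)).1.trans (hres U' W (hW.trans inf_le_right)).1.symm
  obtain ⟨u, hu, hu_uniq⟩ := X.sheaf.existsUnique_gluing' (fun U : I X => U.1) ⊤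
    (fun U => homOfLE le_top) (iSup_I X) (fun U => (c U : Γ(X, U.1))) hcompat
  have hu' : ∀ U : I X, X.presheaf.map (homOfLE (le_top : U.1 ≤ ⊤)).op u = (c U : Γ(X, U.1)) := hu
  have hunit : IsUnit u := by
    apply AlgebraicGeometry.RingedSpace.isUnit_of_isUnit_germ X.toRingedSpace ⊤ u
    intro x _
    obtain ⟨_, ⟨W, hW, rfl⟩, hxW, -⟩ :=
      X.isBasis_affineOpens.exists_subset_of_mem_open (Set.mem_univ x) isOpen_univ
    have h1 := X.presheaf.germ_res_apply (homOfLE (le_top : W ≤ ⊤)) x hxW u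
    have h2 := hu' ⟨W, hW, ⟨⟨x, hxW⟩⟩⟩
    rw [h2] at h1
    change IsUnit ((X.presheaf.germ ⊤ x trivial).hom u)
    rw [← h1]
    exact (c ⟨W, hW, ⟨⟨x, hxW⟩⟩⟩).isUnit.map _
  have hloc_eq : ∀ (u' : Γ(X, ⊤)) (e' : Fin n → ℤ) (U : I X),
      (PT X n).presheaf.map (homOfLE (le_top : (p1 X n) ⁻¹ᵁ U.1 ≤ ⊤)).op
        ((p1 X n).appTop.hom u' * (p2 X n).appTop.hom (τ n e')) =
      αU X n U.1 (X.presheaf.map (homOfLE (le_top : U.1 ≤ ⊤)).op u') * βU X n U.1 (τ n e') := by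
    intro u' e' U
    rw [map_mul, top_α, top_β]
  have hcoverP : (⊤ : (PT X n).Opens) ≤ ⨆ U : I X, (p1 X n) ⁻¹ᵁ U.1 := by
    intro x _
    have := iSup_I X (x := (p1 X n) x) trivial
    obtain ⟨U, hU⟩ := TopologicalSpace.Opens.mem_iSup.mp this
    exact TopologicalSpace.Opens.mem_iSup.mpr ⟨U, hU⟩
  refine ⟨(hunit.unit, e U₀), ?_, ?_⟩
  · apply (PT X n).sheaf.eq_of_locally_eq' (fun U : I X => (p1 X n) ⁻¹ᵁ U.1) ⊤
      (fun U => homOfLE le_top) hcoverP
    intro U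
    have := hloc_eq u (e U₀) U
    refine Eq.trans ?_ this.symm
    rw [hu' U, he U₀ U]
    exact hce U
  · rintro ⟨u', e'⟩ h
    have key : ∀ U : I X, X.presheaf.map (homOfLE (le_top : U.1 ≤ ⊤)).op (u' : Γ(X, ⊤)) =
        (c U : Γ(X, U.1)) ∧ e' = e U := by
      intro U
      haveI := U.2.2
      have h1 := congrArg
        ((PT X n).presheaf.map (homOfLE (le_top : (p1 X n) ⁻¹ᵁ U.1 ≤ ⊤)).op) h
      rw [hloc_eq] at h1
      have h2 : vU U.1 = _ := h1
      rw [hce U] at h2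
      have := local_unique X n U.1 U.2.1 _ _ _ _ (c U).ne_zero h2
      exact ⟨this.1.symm, this.2.symm⟩
    have h3 : (u' : Γ(X, ⊤)) = u := hu_uniq _ (fun U => (key U).1)
    refine Prod.ext (Units.ext ?_) ?_
    · exact h3
    · exact (key U₀).2

end Groth.Agent.Lib.T2H3.TorusLocal
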