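import Groth.Agent.Lib.T2H3TraceLocal

/-!
# Trace of a Dedekind extension modulo a prime: `Tr(y) mod p = Σ e(Q|p) Tr_{(B/Q)/(A/p)}(y mod Q)`
-/

set_option autoImplicit false
set_option linter.style.haveILetI false
set_option linter.deprecated false
universe u

namespace Groth.Agent.Lib.T2H3.TraceDedekind

open Module Ideal

theorem isLocalRing_quot_pow {B : Type*} [CommRing B] (P : Ideal B) [hPm : P.IsMaximal] {e : ℕ}
    (he : e ≠ 0) : IsLocalRing (B ⧸ P ^ e) := by
  have hne : P ^ e ≠ ⊤ := by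
    intro h
    exact hPm.ne_top ((Ideal.pow_eq_top_iff.mp h).resolve_right he)
  haveI : Nontrivial (B ⧸ P ^ e) := Ideal.Quotient.nontrivial_iff.mpr hne
  have key : ∀ M : Ideal (B ⧸ P ^ e), M.IsMaximal → M = P.map (Ideal.Quotient.mk (P ^ e)) := by
    intro M hM
    have h1 : (M.comap (Ideal.Quotient.mk (P ^ e))).IsMaximal :=
      Ideal.comap_isMaximal_of_surjective _ Ideal.Quotient.mk_surjective
    have h2 : P ^ e ≤ M.comap (Ideal.Quotient.mk (P ^ e)) := by
      intro x hx
      rw [Ideal.mem_comap, Ideal.Quotient.eq_zero_iff_mem.mpr hx]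
      exact M.zero_mem
    have h3 : P ≤ M.comap (Ideal.Quotient.mk (P ^ e)) := h1.isPrime.le_of_pow_le h2
    have h4 : P = M.comap (Ideal.Quotient.mk (P ^ e)) := hPm.eq_of_le h1.ne_top h3
    have h5 := Ideal.map_comap_of_surjective (Ideal.Quotient.mk (P ^ e))
      Ideal.Quotient.mk_surjective M
    rw [← h5]
    exact congrArg (Ideal.map (Ideal.Quotient.mk (P ^ e))) h4.symm
  obtain ⟨M, hM⟩ := Ideal.exists_maximal (B ⧸ P ^ e)
  exact IsLocalRing.of_unique_max_ideal ⟨M, hM, fun M' hM' => by rw [key M hM, key M' hM']⟩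

variable {A B : Type u} [CommRing A] [CommRing B] [IsDedekindDomain A] [IsDedekindDomain B]
  [Algebra A B] [Module.Finite A B] [Module.IsTorsionFree A B]
  (p : Ideal A) [p.IsMaximal] (hp : p ≠ ⊥)

include hp in
theorem trace_pow_quot (P : Ideal B) [P.IsPrime] [P.LiesOver p] (y : B) :
    Algebra.trace (A ⧸ p) (B ⧸ P ^ (p.ramificationIdx' P)) (Ideal.Quotient.mk _ y) =
      (P.ramificationIdx A) • Algebra.trace (A ⧸ p) (B ⧸ P) (Ideal.Quotient.mk P y) := by
  have he : p.ramificationIdx' P = P.ramificationIdx A :=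
    ramificationIdx'_eq_ramificationIdx p P hp
  have he0 : p.ramificationIdx' P ≠ 0 := by
    rw [he]; exact (ramificationIdx_pos P A).ne'
  have hP0 : P ≠ ⊥ := Ideal.ne_bot_of_liesOver_of_ne_bot hp P
  haveI hPm : P.IsMaximal := IsPrime.isMaximal inferInstance hP0
  rw [← he]
  set e := p.ramificationIdx' P with hedef
  haveI : IsLocalRing (B ⧸ P ^ e) := isLocalRing_quot_pow P he0
  haveI : IsScalarTower A (A ⧸ p) (B ⧸ P ^ e) := IsScalarTower.of_algebraMap_eq' rfl
  haveI : Module.Finite (A ⧸ p) (B ⧸ P ^ e) := Module.Finite.of_restrictScalars_finite A _ _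
  letI : Field (A ⧸ p) := Ideal.Quotient.field p
  letI : Field (B ⧸ P) := Ideal.Quotient.field P
  have hle : P ^ e ≤ P := Ideal.pow_le_self he0
  let φ : (B ⧸ P ^ e) →ₐ[A ⧸ p] (B ⧸ P) :=
    { Ideal.Quotient.factor hle with
      commutes' := by rintro ⟨a⟩; rfl }
  have hφ : Function.Surjective φ := Ideal.Quotient.factor_surjective hle
  have h1 := Groth.Agent.Lib.T2H3.TraceLocal.trace_eq_length_smul φ hφ (Ideal.Quotient.mk _ y)
  have h2 := Groth.Agent.Lib.T2H3.TraceLocal.finrank_eq_length_mul φ hφ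
  have h3 := finrank_prime_pow_ramificationIdx p P hP0 he0
  rw [h1]
  congr 1
  have hpos : 0 < finrank (A ⧸ p) (B ⧸ P) := Module.finrank_pos
  have h4 : finrank (A ⧸ p) (B ⧸ P ^ e) = e * finrank (A ⧸ p) (B ⧸ P) := by
    convert h3 using 2
  rw [h4] at h2
  exact (Nat.eq_of_mul_eq_mul_right hpos h2).symm

end Groth.Agent.Lib.T2H3.TraceDedekind
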