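import Groth.Agent.Lib.T2H3FiltTrace

/-!
# Trace on a finite local algebra over a field: `Tr_{C/k}(c) = ℓ(C) · Tr_{k'/k}(c̄)`
-/

set_option autoImplicit false
set_option linter.style.haveILetI false
universe u

namespace Groth.Agent.Lib.T2H3.TraceLength

open Module IsLocalRing

variable (k C : Type u) [Field k] [CommRing C] [Algebra k C] [IsLocalRing C] [Module.Finite k C]

/-- multiplication by `c` as a `k`-linear endomorphism of a `C`-module. -/
def mulC (c : C) (M : Type u) [AddCommGroup M] [Module C M] [Module k M] [IsScalarTower k C M] :
    M →ₗ[k] M where
  toFun x := c • x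
  map_add' := smul_add c
  map_smul' a x := by
    haveI : SMulCommClass C k M := IsScalarTower.to_smulCommClass'
    exact smul_comm c a x

theorem aux (c : C) (n : ℕ) : ∀ (M : Type u) [AddCommGroup M] [Module C M] [Module k M]
    [IsScalarTower k C M] [Module.Finite k M], finrank k M = n →
    LinearMap.trace k M (mulC k C c M) =
      (Module.length C M).toNat • Algebra.trace k (ResidueField C) (residue C c) := by
  induction n using Nat.strong_induction_on with
  | _ n ih =>
    intro M _ _ _ _ _ hn
    haveI : IsArtinianRing C := IsArtinianRing.of_finite k C
    haveI : Module.Finite C M := Module.Finite.of_restrictScalars_finite k C M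
    haveI : IsArtinian C M := inferInstance
    haveI : IsNoetherian C M := inferInstance
    by_cases hM : Subsingleton M
    · have h1 : mulC k C c M = 0 := LinearMap.ext fun x => Subsingleton.elim _ _
      rw [h1, map_zero, Module.length_eq_zero, ENat.toNat_zero, zero_smul]
    · haveI : Nontrivial M := not_subsingleton_iff_nontrivial.mp hM
      obtain ⟨N, hN⟩ := IsAtomic.exists_atom (Submodule C M)
      haveI hNs : IsSimpleModule C N := isSimpleModule_iff_isAtom.mpr hN
      obtain ⟨I, hI, ⟨e⟩⟩ := isSimpleModule_iff_quot_maximal.mp hNs
      obtain rfl : I = maximalIdeal C := IsLocalRing.eq_maximalIdeal hI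
      -- the exact sequence `N → M → M ⧸ N`
      let i : N →ₗ[k] M := N.subtype.restrictScalars k
      let q : M →ₗ[k] M ⧸ N := N.mkQ.restrictScalars k
      have hi : Function.Injective i := N.subtype_injective
      have hq : Function.Surjective q := N.mkQ_surjective
      have hex : Function.Exact N.subtype N.mkQ := by
        intro x
        rw [Submodule.mkQ_apply, Submodule.Quotient.mk_eq_zero]
        constructor
        · intro hx; exact ⟨⟨x, hx⟩, rfl⟩
        · rintro ⟨y, rfl⟩; exact y.2
      haveI : Module.Finite k N := Module.Finite.of_injective i hi
      haveI : Module.Finite k (M ⧸ N) := Module.Finite.of_surjective q hq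
      have hadd := Groth.Agent.Lib.T2H3.FiltTrace.trace_eq_add_of_exact i q hi hq hex
        (mulC k C c N) (mulC k C c M) (mulC k C c (M ⧸ N)) (fun v => rfl) (fun v => rfl)
      have hlen := Module.length_eq_add_of_exact N.subtype N.mkQ N.subtype_injective
        N.mkQ_surjective hex
      -- the quotient has smaller dimension
      have hlt : finrank k (M ⧸ N) < n := by
        have h1 := LinearMap.finrank_range_add_finrank_ker q
        have h2 : finrank k (LinearMap.range q) = finrank k (M ⧸ N) := by
          rw [LinearMap.range_eq_top.mpr hq, finrank_top]
        have h3 : 0 < finrank k (LinearMap.ker q) := by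
          obtain ⟨x, hxN, hx0⟩ := N.exists_mem_ne_zero_of_ne_bot hN.1
          rw [Module.finrank_pos_iff_exists_ne_zero]
          refine ⟨⟨x, ?_⟩, ?_⟩
          · rw [LinearMap.mem_ker]
            exact (Submodule.Quotient.mk_eq_zero N).mpr hxN
          · intro h
            exact hx0 (congrArg Subtype.val h)
        omega
      have hQ := ih _ hlt (M ⧸ N) rfl
      -- the simple piece
      have hNlen : Module.length C N = 1 := Module.length_eq_one C N
      have hNtr : LinearMap.trace k N (mulC k C c N) =
          Algebra.trace k (ResidueField C) (residue C c) := by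
        let e' : N ≃ₗ[k] ResidueField C := e.restrictScalars k
        have h1 : mulC k C c N = e'.symm.conj (Algebra.lmul k (ResidueField C) (residue C c)) := by
          apply LinearMap.ext
          intro x
          rw [LinearEquiv.conj_apply]
          simp only [LinearMap.comp_apply, LinearEquiv.coe_coe, LinearEquiv.symm_symm]
          apply e'.injective
          rw [LinearEquiv.apply_symm_apply]
          have h2 : e (c • x) = c • e x := map_smul e c x
          obtain ⟨y, hy⟩ := Ideal.Quotient.mk_surjective (e x)
          have h3 : (e' (mulC k C c N x) : ResidueField C) = e (c • x) := rfl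
          have h4 : (e' x : ResidueField C) = e x := rfl
          rw [h3, h4, h2, ← hy]
          rfl
        rw [h1, LinearMap.trace_conj', Algebra.trace_apply]
      rw [hadd, hNtr, hQ, hlen, hNlen]
      have hne : Module.length C (M ⧸ N) ≠ ⊤ := Module.length_ne_top
      obtain ⟨l, hl⟩ := ENat.ne_top_iff_exists.mp hne
      rw [← hl]
      have : ((1 : ℕ∞) + (l : ℕ∞)).toNat = 1 + l := by
        rw [← Nat.cast_one, ← Nat.cast_add, ENat.toNat_natCast]
      rw [this, ENat.toNat_natCast, add_smul, one_smul]

end Groth.Agent.Lib.T2H3.TraceLength
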