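import Mathlib

/-!
# Traces of a localized finite projective algebra are integral-valued
-/

universe u

set_option linter.style.haveILetI false

namespace Groth.Agent.Lib.T2H3.TraceLoc

open scoped BigOperators

theorem trace_mem_range (A K B L : Type u) [CommRing A] [CommRing K] [CommRing B] [CommRing L]
    [Algebra A K] [Algebra A B] [Algebra B L] [Algebra K L] [Algebra A L]
    [IsScalarTower A K L] [IsScalarTower A B L]
    (S : Submonoid A) [IsLocalization S K]
    [IsLocalization (Algebra.algebraMapSubmonoid B S) L]
    [Module.Finite A B] [Module.Projective A B] [Module.Free K L] [Module.Finite K L] (b : B) :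
    Algebra.trace K L (algebraMap B L b) ∈ (algebraMap A K).range := by
  classical
  -- a finite presentation of `B` as a direct summand of `A^n`
  obtain ⟨n, s, hs⟩ := Module.Finite.exists_fin' A B
  obtain ⟨g, hg⟩ := Module.projective_lifting_property s LinearMap.id hs
  let ι : B →ₗ[A] L := (IsScalarTower.toAlgHom A B L).toLinearMap
  haveI hloc : IsLocalizedModule S ι := isLocalizedModule_iff_isLocalization.mpr inferInstance
  have hunit : ∀ x : S, IsUnit ((algebraMap A (Module.End A K)) x) := by
    intro x
    rw [Module.End.isUnit_iff]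
    have hx : IsUnit (algebraMap A K x) := IsLocalization.map_units K x
    constructor
    · intro a c hac
      have : algebraMap A K x * a = algebraMap A K x * c := by
        simpa [Algebra.smul_def] using hac
      exact hx.mul_left_cancel this
    · intro a
      obtain ⟨u, hu⟩ := hx
      refine ⟨(↑u⁻¹ : K) * a, ?_⟩
      simp only [Module.algebraMap_end_apply, Algebra.smul_def, ← hu]
      rw [← mul_assoc, Units.mul_inv, one_mul]
  -- coordinates
  let gA : Fin n → (B →ₗ[A] K) := fun i =>
    (Algebra.linearMap A K) ∘ₗ (LinearMap.proj i) ∘ₗ g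
  let gK' : Fin n → (L →ₗ[A] K) := fun i => IsLocalizedModule.lift S ι (gA i) hunit
  have hgK' : ∀ i y, gK' i (ι y) = algebraMap A K (g y i) := by
    intro i y
    simp only [gK', IsLocalizedModule.lift_apply]
    rfl
  let gK : L →ₗ[K] (Fin n → K) :=
    LinearMap.pi fun i => (gK' i).extendScalarsOfIsLocalization S K
  have hgK : ∀ i y, gK (ι y) i = algebraMap A K (g y i) := by
    intro i y
    simp only [gK, LinearMap.pi_apply, LinearMap.extendScalarsOfIsLocalization_apply']
    exact hgK' i y
  let e : Fin n → (Fin n → A) := fun i j => if i = j then 1 else 0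
  let eK : Fin n → (Fin n → K) := fun i j => if i = j then 1 else 0
  let sK : (Fin n → K) →ₗ[K] L :=
    (Pi.basisFun K (Fin n)).constr K (fun i => ι (s (e i)))
  have hsK : ∀ v, sK v = ∑ i, v i • ι (s (e i)) := by
    intro v
    simp only [sK, Module.Basis.constr_apply_fintype, Pi.basisFun_equivFun,
      LinearEquiv.refl_apply]
  have hsKe : ∀ i, sK (eK i) = ι (s (e i)) := by
    intro i
    rw [hsK]
    simp [eK]
  -- `sK ∘ gK = id` on the image of `B`
  have hid0 : ∀ y : B, sK (gK (ι y)) = ι y := by
    intro y
    rw [hsK]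
    have h1 : ∀ i, gK (ι y) i • ι (s (e i)) = ι ((g y i) • s (e i)) := by
      intro i
      rw [hgK, map_smul, algebraMap_smul]
    rw [Finset.sum_congr rfl (fun i _ => h1 i), ← map_sum]
    congr 1
    have h2 := LinearMap.pi_apply_eq_sum_univ s (g y)
    have h3 : s (g y) = y := by
      have := congrArg (fun φ => φ y) hg
      simpa using this
    exact h2.symm.trans h3
  have hid : ∀ x : L, sK (gK x) = x := by
    intro x
    obtain ⟨⟨y, t⟩, hyt⟩ := IsLocalizedModule.surj S ι x
    have ht : IsUnit (algebraMap A K t) := IsLocalization.map_units K t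
    have h1 : (algebraMap A K t) • sK (gK x) = (algebraMap A K t) • x := by
      rw [← map_smul, ← map_smul, algebraMap_smul]
      have : (t : A) • x = ι y := hyt
      rw [this, hid0]
    exact ht.smul_left_cancel.mp h1
  have hcomp : sK ∘ₗ gK = LinearMap.id := LinearMap.ext hid
  -- the trace
  rw [Algebra.trace_apply]
  set m : L →ₗ[K] L := Algebra.lmul K L (algebraMap B L b) with hm
  have h1 : m = (m ∘ₗ sK) ∘ₗ gK := by
    rw [LinearMap.comp_assoc, hcomp, LinearMap.comp_id]
  rw [h1, LinearMap.trace_comp_comm', LinearMap.trace_eq_matrix_trace K (Pi.basisFun K (Fin n)),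
    Matrix.trace]
  refine Subring.sum_mem _ fun i _ => ?_
  rw [Matrix.diag_apply, LinearMap.toMatrix_apply, Pi.basisFun_repr, Pi.basisFun_apply]
  have h2 : (Pi.single i 1 : Fin n → K) = eK i := by
    funext j
    simp only [eK, Pi.single_apply]
    by_cases h : i = j
    · subst h; simp
    · rw [if_neg h, if_neg (Ne.symm h)]
  rw [h2]
  change gK (m (sK (eK i))) i ∈ _
  rw [hsKe]
  have h3 : m (ι (s (e i))) = ι (b * s (e i)) := by
    simp only [hm, ι]
    simp
  rw [h3, hgK]
  exact ⟨_, rfl⟩

end Groth.Agent.Lib.T2H3.TraceLoc
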