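import Mathlib
import Groth.Prelude.Def_TwC
import Groth.Agent.Lib.T2H3ConstSch
import Groth.Agent.Lib.Helper12Torsor

/-!
# Constant schemes: separatedness, étaleness, base change, specialization
-/

set_option autoImplicit false
set_option linter.style.haveILetI false
set_option linter.unusedSectionVars false
universe u

namespace Groth.Agent.Lib.T2H3.TwConst

open CategoryTheory MonoidalCategory CartesianMonoidalCategory AlgebraicGeometry Limits
open Groth.Agent.Lib.T2H3.ConstSch

variable {S : Scheme.{u}} (M : Type u)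

/-- a constant scheme is étale over its base. -/
theorem etale_const : Etale (TwC.const S M).hom :=
  IsZariskiLocalAtSource.sigmaDesc (P := @Etale) (fun _ => inferInstance)

/-- a constant scheme is separated over its base. -/
theorem isSeparated_const : IsSeparated (TwC.const S M).hom := by
  constructor
  refine IsClosedImmersion.of_isPreimmersion _ ?_
  set c := (TwC.const S M).hom with hc
  have hcc : ∀ m, comp (S := S) M m ≫ c = 𝟙 S := fun m => comp_hom M m
  rw [← isOpen_compl_iff, isOpen_iff_forall_mem_open]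
  intro z hz
  obtain ⟨m, y, hy⟩ := (sigmaOpenCover (fun _ : M => S)).exists_eq (pullback.fst c c z)
  obtain ⟨m', y', hy'⟩ := (sigmaOpenCover (fun _ : M => S)).exists_eq (pullback.snd c c z)
  by_cases hmm : m = m'
  · subst hmm
    exfalso
    apply hz
    -- the open `W` on which both projections land in the component `m`
    let W : (pullback c c).Opens :=
      (pullback.fst c c) ⁻¹ᵁ (comp (S := S) M m).opensRange ⊓
        (pullback.snd c c) ⁻¹ᵁ (comp (S := S) M m).opensRange
    have hzW : z ∈ W := ⟨⟨y, hy⟩, ⟨y', hy'⟩⟩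
    have hr1 : Set.range (W.ι ≫ pullback.fst c c) ⊆ Set.range (comp (S := S) M m) := by
      rintro _ ⟨x, rfl⟩
      exact x.2.1
    have hr2 : Set.range (W.ι ≫ pullback.snd c c) ⊆ Set.range (comp (S := S) M m) := by
      rintro _ ⟨x, rfl⟩
      exact x.2.2
    obtain ⟨l1, h1⟩ : ∃ l, l ≫ comp (S := S) M m = W.ι ≫ pullback.fst c c :=
      ⟨_, IsOpenImmersion.lift_fac (comp (S := S) M m) (W.ι ≫ pullback.fst c c) hr1⟩
    obtain ⟨l2, h2⟩ : ∃ l, l ≫ comp (S := S) M m = W.ι ≫ pullback.snd c c :=
      ⟨_, IsOpenImmersion.lift_fac (comp (S := S) M m) (W.ι ≫ pullback.snd c c) hr2⟩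
    have h3 : l1 = l2 := by
      have e1 : l1 = (W.ι ≫ pullback.fst c c) ≫ c := by
        rw [← h1, Category.assoc, hcc, Category.comp_id]
      have e2 : l2 = (W.ι ≫ pullback.snd c c) ≫ c := by
        rw [← h2, Category.assoc, hcc, Category.comp_id]
      rw [e1, e2, Category.assoc, Category.assoc, pullback.condition]
    have h4 : W.ι ≫ pullback.fst c c = W.ι ≫ pullback.snd c c := by
      rw [← h1, ← h2, h3]
    have h5 : W.ι = (W.ι ≫ pullback.fst c c) ≫ pullback.diagonal c := by
      apply pullback.hom_ext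
      · rw [Category.assoc, pullback.diagonal_fst, Category.comp_id]
      · rw [Category.assoc, pullback.diagonal_snd, Category.comp_id, h4]
    refine ⟨(W.ι ≫ pullback.fst c c) ⟨z, hzW⟩, ?_⟩
    rw [← Scheme.Hom.comp_apply, ← h5]
    rfl
  · refine ⟨(pullback.fst c c) ⁻¹' (Set.range (comp (S := S) M m)) ∩
      (pullback.snd c c) ⁻¹' (Set.range (comp (S := S) M m')), ?_, ?_, ⟨⟨y, hy⟩, ⟨y', hy'⟩⟩⟩
    · rintro _ ⟨h1, h2⟩ ⟨x, rfl⟩
      have e1 : pullback.fst c c (pullback.diagonal c x) = x := by
        rw [← Scheme.Hom.comp_apply, pullback.diagonal_fst]; rfl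
      have e2 : pullback.snd c c (pullback.diagonal c x) = x := by
        rw [← Scheme.Hom.comp_apply, pullback.diagonal_snd]; rfl
      have h1' : x ∈ Set.range (comp (S := S) M m) := by simpa [e1] using h1
      have h2' : x ∈ Set.range (comp (S := S) M m') := by simpa [e2] using h2
      have hd := disjoint_opensRange_sigmaι (fun _ : M => S) m m' hmm
      exact (Set.disjoint_left.mp
        (by simpa [disjoint_iff, TopologicalSpace.Opens.ext_iff, Set.disjoint_iff_inter_eq_empty]
          using hd) h1' h2')
    · exact ((comp (S := S) M m).opensRange.2.preimage (pullback.fst c c).continuous).inter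
        ((comp (S := S) M m').opensRange.2.preimage (pullback.snd c c).continuous)


/-- the section of the base change of the constant scheme given by the component `m`. -/
noncomputable def bcSec {T : Scheme.{u}} (q : T ⟶ S) (m : M) :
    T ⟶ pullback (TwC.const S M).hom q :=
  pullback.lift (q ≫ comp (S := S) M m) (𝟙 T) (by rw [Category.assoc, comp_hom]; simp)

theorem bcSec_snd {T : Scheme.{u}} (q : T ⟶ S) (m : M) :
    bcSec M q m ≫ pullback.snd (TwC.const S M).hom q = 𝟙 T :=
  pullback.lift_snd _ _ _

theorem bcSec_fst {T : Scheme.{u}} (q : T ⟶ S) (m : M) :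
    bcSec M q m ≫ pullback.fst (TwC.const S M).hom q = q ≫ comp (S := S) M m :=
  pullback.lift_fst _ _ _

theorem isPullback_bcSec {T : Scheme.{u}} (q : T ⟶ S) (m : M) :
    IsPullback (bcSec M q m) q (pullback.fst (TwC.const S M).hom q) (comp (S := S) M m) := by
  refine IsPullback.of_right ?_ (bcSec_fst M q m)
    (IsPullback.of_hasPullback (TwC.const S M).hom q).flip
  rw [bcSec_snd, comp_hom]
  exact IsPullback.id_horiz q

instance {T : Scheme.{u}} (q : T ⟶ S) (m : M) : IsOpenImmersion (bcSec M q m) :=
  MorphismProperty.of_isPullback (P := @IsOpenImmersion) (isPullback_bcSec M q m).flip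
    inferInstance

theorem range_bcSec {T : Scheme.{u}} (q : T ⟶ S) (m : M) :
    Set.range (bcSec M q m) =
      (pullback.fst (TwC.const S M).hom q) ⁻¹' Set.range (comp (S := S) M m) := by
  have := Scheme.image_preimage_eq_of_isPullback (isPullback_bcSec M q m).flip Set.univ
  simpa [Set.image_univ] using this

/-- the base change of a constant scheme is constant. -/
theorem nonempty_bc_const_iso {T : Scheme.{u}} (q : T ⟶ S) :
    Nonempty (Red.bc q (TwC.const S M) ≅ TwC.const T M) := by
  have hcov : ⨆ m, (bcSec M q m).opensRange = ⊤ := by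
    rw [eq_top_iff]
    intro z _
    obtain ⟨m, y, hy⟩ := (sigmaOpenCover (fun _ : M => S)).exists_eq
      (pullback.fst (TwC.const S M).hom q z)
    rw [TopologicalSpace.Opens.mem_iSup]
    refine ⟨m, ?_⟩
    change z ∈ Set.range (bcSec M q m)
    rw [range_bcSec]
    exact ⟨y, hy⟩
  have hdisj : Pairwise (Function.onFun Disjoint (fun m => (bcSec M q m).opensRange)) := by
    intro m m' hmm
    have hd := disjoint_opensRange_sigmaι (fun _ : M => S) m m' hmm
    simp only [Function.onFun]
    rw [disjoint_iff] at hd ⊢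
    ext z
    simp only [TopologicalSpace.Opens.coe_inf, Scheme.Hom.coe_opensRange, Set.mem_inter_iff,
      TopologicalSpace.Opens.coe_bot, Set.mem_empty_iff_false, iff_false, not_and]
    intro h1 h2
    rw [range_bcSec] at h1 h2
    have : pullback.fst (TwC.const S M).hom q z ∈
        ((Sigma.ι (fun _ : M => S) m).opensRange ⊓ (Sigma.ι (fun _ : M => S) m').opensRange :
          (∐ fun _ : M => S).Opens) := ⟨h1, h2⟩
    rw [hd] at this
    exact this
  obtain ⟨hcolim⟩ := nonempty_isColimit_cofanMk_of (fun m => bcSec M q m) hcov hdisj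
  have hiso : IsIso (Limits.Sigma.desc fun m => bcSec M q m) := by
    have := (Cofan.nonempty_isColimit_iff_isIso_sigmaDesc
      (Cofan.mk (pullback (TwC.const S M).hom q) fun m => bcSec M q m)).mp ⟨hcolim⟩
    simpa using this
  refine ⟨(Over.isoMk (asIso (Limits.Sigma.desc fun m => bcSec M q m)) ?_).symm⟩
  apply Sigma.hom_ext
  intro m
  simp only [asIso_hom, Over.mk_left, Over.mk_hom]
  change Sigma.ι _ m ≫ Limits.Sigma.desc _ ≫ pullback.snd _ _ = _
  rw [← Category.assoc, Sigma.ι_desc, bcSec_snd, Sigma.ι_desc]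


/-- the structure map of a constant scheme lifts specializations. -/
theorem specializingMap_const : SpecializingMap (TwC.const S M).hom := by
  intro w s₁ hs
  obtain ⟨m, y, hy⟩ := (sigmaOpenCover (fun _ : M => S)).exists_eq w
  change (comp (S := S) M m) y = w at hy
  have hyw : (TwC.const S M).hom w = y := by
    rw [← hy, ← Scheme.Hom.comp_apply, comp_hom]; rfl
  refine ⟨(comp (S := S) M m) s₁, ?_, ?_⟩
  · change w ⤳ _
    rw [← hy]
    refine Specializes.map ?_ (comp (S := S) M m).continuous
    rw [← hyw]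
    exact hs
  · rw [← Scheme.Hom.comp_apply, comp_hom]; rfl

variable {M}

/-- twisted constant schemes for the étale topology are stable under base change. -/
theorem isTwConst_bc {T : Scheme.{u}} (g : T ⟶ S) (X : Over S)
    (hX : TwC.IsTwConst TwC.Topology.etale X) :
    TwC.IsTwConst TwC.Topology.etale (Red.bc g X) := by
  intro t
  obtain ⟨S', f, hf, ⟨s', hs'⟩, I, ⟨e⟩⟩ := hX (g t)
  haveI := hf
  obtain ⟨t', ht'1, ht'2⟩ := Scheme.Pullback.exists_preimage_pullback (f := g) (g := f) t s' hs'.symm
  refine ⟨pullback g f, pullback.fst g f, inferInstance, ⟨t', ht'1⟩, I, ?_⟩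
  obtain ⟨e3⟩ := nonempty_bc_const_iso I (pullback.snd g f)
  have e0 : Red.bc (pullback.fst g f) (Red.bc g X) ≅ (Over.pullback (pullback.fst g f ≫ g)).obj X :=
    ((Over.pullbackComp (pullback.fst g f) g).app X).symm
  have e1 : (Over.pullback (pullback.fst g f ≫ g)).obj X ≅
      (Over.pullback (pullback.snd g f ≫ f)).obj X :=
    eqToIso (congrArg (fun h => (Over.pullback h).obj X) pullback.condition)
  have e2 : (Over.pullback (pullback.snd g f ≫ f)).obj X ≅
      Red.bc (pullback.snd g f) (Red.bc f X) :=
    (Over.pullbackComp (pullback.snd g f) f).app X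
  exact ⟨e0 ≪≫ e1 ≪≫ e2 ≪≫ (Over.pullback (pullback.snd g f)).mapIso e ≪≫ e3⟩

/-- the structure map of a twisted constant scheme lifts specializations. -/
theorem specializingMap_of_isTwConst (X : Over S)
    (hX : TwC.IsTwConst TwC.Topology.etale X) : SpecializingMap X.hom := by
  intro x s₁ hs
  obtain ⟨S', f, hf, ⟨s', hs'⟩, I, ⟨e⟩⟩ := hX s₁
  haveI := hf
  have hgen : GeneralizingMap f := Flat.generalizingMap f
  obtain ⟨s'', hs''1, hs''2⟩ := hgen (a := s') (b := X.hom x) (by rw [hs']; exact hs)
  obtain ⟨z, hz1, hz2⟩ := Scheme.Pullback.exists_preimage_pullback (f := X.hom) (g := f) x s''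
    hs''2.symm
  have hew : (TwC.const S' I).hom (e.hom.left z) = s'' := by
    rw [← Scheme.Hom.comp_apply, Over.w e.hom]
    exact hz2
  obtain ⟨w₁, hw₁1, hw₁2⟩ := specializingMap_const I (S := S') (a := e.hom.left z) (b := s')
    (by rw [hew]; exact hs''1)
  refine ⟨pullback.fst X.hom f (e.inv.left w₁), ?_, ?_⟩
  · change x ⤳ _
    rw [← hz1]
    refine Specializes.map ?_ (pullback.fst X.hom f).continuous
    have h1 : e.inv.left (e.hom.left z) = z := by
      rw [← Scheme.Hom.comp_apply, ← Over.comp_left, e.hom_inv_id]; rfl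
    rw [← h1]
    exact Specializes.map hw₁1 e.inv.left.continuous
  · rw [← Scheme.Hom.comp_apply, pullback.condition, Scheme.Hom.comp_apply]
    have h2 : pullback.snd X.hom f (e.inv.left w₁) = (TwC.const S' I).hom w₁ := by
      rw [← Scheme.Hom.comp_apply]
      exact congrArg (fun h => h w₁) (Over.w e.inv)
    rw [h2, hw₁2, hs']

/-- the structure map of a twisted constant scheme is universally specializing, so satisfies the
existence part of the valuative criterion. -/
theorem existence_of_isTwConst (X : Over S)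
    (hX : TwC.IsTwConst TwC.Topology.etale X) : ValuativeCriterion.Existence X.hom := by
  apply ValuativeCriterion.Existence.of_specializingMap
  intro X' T i₁ g f' hpb
  have hsp := specializingMap_of_isTwConst (Red.bc g X) (isTwConst_bc g X hX)
  obtain ⟨ι, hι⟩ : ∃ ι : X' ≅ pullback X.hom g, ι.hom ≫ pullback.snd X.hom g = f' :=
    ⟨hpb.flip.isoPullback, hpb.flip.isoPullback_hom_snd⟩
  intro x' t₁ ht
  have hfx : ∀ x, f' x = pullback.snd X.hom g (ι.hom x) := by
    intro x; rw [← hι]; rfl
  obtain ⟨z₁, hz1, hz2⟩ := hsp (a := ι.hom x') (b := t₁) (by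
    change pullback.snd X.hom g (ι.hom x') ⤳ t₁
    rw [← hfx]; exact ht)
  refine ⟨ι.inv z₁, ?_, ?_⟩
  · have h1 : ι.inv (ι.hom x') = x' := by
      rw [← Scheme.Hom.comp_apply, Iso.hom_inv_id]; rfl
    change x' ⤳ _
    rw [← h1]
    exact Specializes.map hz1 ι.inv.continuous
  · change f' (ι.inv z₁) = t₁
    rw [hfx, ← Scheme.Hom.comp_apply ι.inv ι.hom, Iso.inv_hom_id]
    exact hz2


open Groth.Agent.Lib.Helper12 in
/-- an fpqc-local property of constant schemes holds for twisted constant schemes. -/
theorem prop_of_isTwConst {P : MorphismProperty Scheme.{u}} [IsZariskiLocalAtTarget P]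
    (hP : P.DescendsAlong (@Surjective ⊓ @Flat ⊓ @QuasiCompact : MorphismProperty Scheme.{u}))
    (hc : ∀ (S' : Scheme.{u}) (I : Type u), P (TwC.const S' I).hom)
    (X : Over S) (hX : TwC.IsTwConst TwC.Topology.etale X) : P X.hom := by
  choose S' f hf hs I e using hX
  refine of_mem_fpqcPrecoverage hP X.hom (Presieve.ofArrows S' f) ?_ ?_
  · apply Scheme.proetalePrecoverage_le_fpqcPrecoverage
    apply Scheme.etalePrecoverage_le_proetalePrecoverage
    rw [Scheme.etalePrecoverage, Scheme.ofArrows_mem_precoverage_iff]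
    exact ⟨fun x => ⟨x, hs x⟩, hf⟩
  · rintro Y' _ ⟨s⟩
    obtain ⟨e'⟩ := e s
    have h1 : pullback.snd X.hom (f s) = e'.hom.left ≫ (TwC.const (S' s) (I s)).hom :=
      (Over.w e'.hom).symm
    rw [h1]
    exact (MorphismProperty.cancel_left_of_respectsIso P e'.hom.left _).mpr (hc _ _)

theorem etale_of_isTwConst (X : Over S) (hX : TwC.IsTwConst TwC.Topology.etale X) :
    Etale X.hom :=
  prop_of_isTwConst inferInstance (fun _ I => etale_const I) X hX

open Groth.Agent.Lib.Helper12 in
theorem isSeparated_of_isTwConst (X : Over S) (hX : TwC.IsTwConst TwC.Topology.etale X) :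
    IsSeparated X.hom :=
  prop_of_isTwConst descendsAlong_isSeparated (fun _ I => isSeparated_const I) X hX

/-- a twisted constant scheme for the étale topology is separated, étale and satisfies the
valuative criterion. -/
theorem main (X : Over S) (hX : TwC.IsTwConst TwC.Topology.etale X) :
    IsSeparated X.hom ∧ Etale X.hom ∧ ValuativeCriterion X.hom := by
  have hsep := isSeparated_of_isTwConst X hX
  refine ⟨hsep, etale_of_isTwConst X hX, ?_⟩
  rw [ValuativeCriterion.iff]
  exact ⟨existence_of_isTwConst X hX, IsSeparated.valuativeCriterion X.hom⟩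

end Groth.Agent.Lib.T2H3.TwConst
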