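import Mathlib
import Groth.Prelude.Def_TwC
import Groth.Agent.Lib.T2H3TwConst
import Groth.Agent.Lib.T2H3GenericTorsor
import Groth.Agent.Lib.Helper12QuotGrp
import Groth.Agent.Lib.Helper12FpqcCover
import Groth.Agent.Lib.Helper12Descent

/-!
# Finiteness of quasi-compact closed subschemes of twisted constant schemes
-/

set_option autoImplicit false
set_option linter.style.haveILetI false
set_option linter.unusedSectionVars false
universe u

namespace Groth.Agent.Lib.T2H3.TwConstFin

open CategoryTheory MonoidalCategory CartesianMonoidalCategory AlgebraicGeometry Limits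
open Groth.Agent.Lib.T2H3.ConstSch Groth.Agent.Lib.T2H3.TwConst

/-- the existence part of the valuative criterion is stable under composition. -/
theorem existence_comp {X Y Z : Scheme.{u}} (f : X ⟶ Y) (g : Y ⟶ Z)
    (hf : ValuativeCriterion.Existence f) (hg : ValuativeCriterion.Existence g) :
    ValuativeCriterion.Existence (f ≫ g) := by
  intro sq
  have w1 : (sq.i₁ ≫ f) ≫ g =
      Spec.map (CommRingCat.ofHom (algebraMap sq.R sq.K)) ≫ sq.i₂ := by
    rw [Category.assoc]; exact sq.commSq.w
  have hc1 : CommSq (sq.i₁ ≫ f) (Spec.map (CommRingCat.ofHom (algebraMap sq.R sq.K))) g sq.i₂ :=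
    ⟨w1⟩
  obtain ⟨la, hla1, hla2⟩ := (hg ⟨sq.R, sq.K, sq.i₁ ≫ f, sq.i₂, hc1⟩).exists_lift
  dsimp only at hla1 hla2
  have hc2 : CommSq sq.i₁ (Spec.map (CommRingCat.ofHom (algebraMap sq.R sq.K))) f la :=
    ⟨hla1.symm⟩
  obtain ⟨l, hl1, hl2⟩ := (hf ⟨sq.R, sq.K, sq.i₁, la, hc2⟩).exists_lift
  dsimp only at hl1 hl2
  exact ⟨⟨⟨l, hl1, by rw [← Category.assoc, hl2, hla2]⟩⟩⟩

variable {S : Scheme.{u}}

/-- a constant scheme is trivially a twisted constant scheme. -/
theorem isTwConst_const (I : Type u) :
    TwC.IsTwConst TwC.Topology.etale (TwC.const S I) := by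
  intro s
  exact ⟨S, 𝟙 S, inferInstance, ⟨s, rfl⟩, I, nonempty_bc_const_iso I (𝟙 S)⟩

/-- a closed subscheme of a constant scheme which is quasi-compact over the base is finite. -/
theorem isFinite_of_closedImmersion_const (I : Type u) {Z : Scheme.{u}}
    (w : Z ⟶ (TwC.const S I).left) [IsClosedImmersion w]
    [QuasiCompact (w ≫ (TwC.const S I).hom)] : IsFinite (w ≫ (TwC.const S I).hom) := by
  haveI := etale_const (S := S) I
  haveI := isSeparated_const (S := S) I
  haveI : LocallyQuasiFinite (TwC.const S I).hom :=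
    Groth.Agent.Lib.T2H3.GenericTorsor.locallyQuasiFinite_of_etale _
  have hex : ValuativeCriterion.Existence (w ≫ (TwC.const S I).hom) := by
    refine existence_comp _ _ ?_ (existence_of_isTwConst _ (isTwConst_const I))
    have : UniversallyClosed w := inferInstance
    rw [UniversallyClosed.eq_valuativeCriterion] at this
    exact this.1
  haveI : UniversallyClosed (w ≫ (TwC.const S I).hom) :=
    UniversallyClosed.of_valuativeCriterion _ hex
  haveI : IsProper (w ≫ (TwC.const S I).hom) := {}
  exact IsFinite.of_isProper_of_locallyQuasiFinite _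

open Groth.Agent.Lib.Helper12 in
/-- a closed subscheme of an fpqc twisted constant scheme which is quasi-compact over the base
is finite. -/
theorem isFinite_of_closed_quasiCompact (R : Over S)
    (hR : TwC.IsTwConst TwC.Topology.fpqc R)
    {Z : Scheme.{u}} (z : Z ⟶ R.left) [IsClosedImmersion z] [QuasiCompact (z ≫ R.hom)] :
    IsFinite (z ≫ R.hom) := by
  obtain ⟨S', f, hfl, hsurj, hqc, hloc⟩ := hR
  choose U hU I e using hloc
  haveI := hfl
  haveI := hsurj
  refine of_mem_fpqcPrecoverage descendsAlong_isFinite (z ≫ R.hom) (Presieve.singleton f)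
    (Groth.Agent.Lib.Helper12.QuotGrp.singleton_mem_fpqcPrecoverage f hqc) ?_
  rintro Y' _ ⟨⟩
  have hcov : TopologicalSpace.IsOpenCover U := by
    rw [TopologicalSpace.IsOpenCover, eq_top_iff]
    intro x _
    rw [TopologicalSpace.Opens.mem_iSup]
    exact ⟨x, hU x⟩
  refine IsZariskiLocalAtTarget.of_openCover (S'.openCoverOfIsOpenCover U hcov) ?_
  intro s'
  change IsFinite (pullback.snd (pullback.snd (z ≫ R.hom) f) (U s').ι)
  apply pullback_snd_pullback_snd
  obtain ⟨e'⟩ := e s'
  set g := (U s').ι ≫ f with hg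
  -- rewrite through the base change of the closed immersion
  have h1 := pullbackRightPullbackFstIso_hom_snd R.hom g z
  have h2 : pullback.snd (z ≫ R.hom) g = (pullbackRightPullbackFstIso R.hom g z).inv ≫
      pullback.snd z (pullback.fst R.hom g) ≫ pullback.snd R.hom g := by
    rw [← h1, Iso.inv_hom_id_assoc]
  have h3 : pullback.snd R.hom g = e'.hom.left ≫ (TwC.const (U s' : Scheme.{u}) (I s')).hom :=
    (Over.w e'.hom).symm
  haveI hqc' : QuasiCompact (pullback.snd (z ≫ R.hom) g) :=
    MorphismProperty.pullback_snd (P := @QuasiCompact) _ _ inferInstance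
  rw [h2, MorphismProperty.cancel_left_of_respectsIso (P := @IsFinite), h3, ← Category.assoc]
  haveI : QuasiCompact ((pullback.snd z (pullback.fst R.hom g) ≫ e'.hom.left) ≫
      (TwC.const (U s' : Scheme.{u}) (I s')).hom) := by
    rw [h2, MorphismProperty.cancel_left_of_respectsIso (P := @QuasiCompact), h3,
      ← Category.assoc] at hqc'
    exact hqc'
  exact isFinite_of_closedImmersion_const (I s') _

end Groth.Agent.Lib.T2H3.TwConstFin
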