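import Mathlib
import Groth.Prelude.Def_TwC
import Groth.Agent.Lib.T2H3TwConstFin

/-!
# Isotrivial twisted constant schemes are unions of clopen finite subschemes
-/

set_option autoImplicit false
set_option linter.style.haveILetI false
set_option linter.unusedSectionVars false
universe u

namespace Groth.Agent.Lib.T2H3.TwConstIso

open CategoryTheory MonoidalCategory CartesianMonoidalCategory AlgebraicGeometry Limits
open Groth.Agent.Lib.T2H3.ConstSch Groth.Agent.Lib.T2H3.TwConst Groth.Agent.Lib.T2H3.TwConstFin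

variable {S : Scheme.{u}}

open Groth.Agent.Lib.Helper12 in
/-- an fpqc-local property of constant schemes holds for schemes which become constant
Zariski-locally on one fpqc covering. -/
theorem prop_of_locally_const {P : MorphismProperty Scheme.{u}} [IsZariskiLocalAtTarget P]
    (hP : P.DescendsAlong (@Surjective ⊓ @Flat ⊓ @QuasiCompact : MorphismProperty Scheme.{u}))
    (hc : ∀ (S' : Scheme.{u}) (I : Type u), P (TwC.const S' I).hom)
    (X : Over S) {S' : Scheme.{u}} (f : S' ⟶ S)
    (hf : Presieve.singleton f ∈ Scheme.fpqcPrecoverage S)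
    (h : ∀ s' : S', ∃ U : S'.Opens, s' ∈ U ∧
      ∃ I : Type u, Nonempty (Red.bc (U.ι ≫ f) X ≅ TwC.const U I)) : P X.hom := by
  choose U hU I e using h
  refine of_mem_fpqcPrecoverage hP X.hom (Presieve.singleton f) hf ?_
  rintro Y' _ ⟨⟩
  have hcov : TopologicalSpace.IsOpenCover U := by
    rw [TopologicalSpace.IsOpenCover, eq_top_iff]
    intro x _
    rw [TopologicalSpace.Opens.mem_iSup]
    exact ⟨x, hU x⟩
  refine IsZariskiLocalAtTarget.of_openCover (S'.openCoverOfIsOpenCover U hcov) ?_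
  intro s'
  change P (pullback.snd (pullback.snd X.hom f) (U s').ι)
  apply pullback_snd_pullback_snd
  obtain ⟨e'⟩ := e s'
  have h3 : pullback.snd X.hom ((U s').ι ≫ f) =
      e'.hom.left ≫ (TwC.const (U s' : Scheme.{u}) (I s')).hom :=
    (Over.w e'.hom).symm
  rw [h3]
  exact (MorphismProperty.cancel_left_of_respectsIso P e'.hom.left _).mpr (hc _ _)

/-- a clopen subscheme is a closed subscheme. -/
theorem isClosedImmersion_ι_of_isClosed {X : Scheme.{u}} (U : X.Opens) (hU : IsClosed (U : Set X)) :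
    IsClosedImmersion U.ι :=
  IsClosedImmersion.of_isPreimmersion _ (by rw [Scheme.Opens.range_ι]; exact hU)

/-- every point of a scheme which becomes constant over the clopen pieces of a finite étale
covering has a clopen neighbourhood finite over the base. -/
theorem exists_clopen_finite (R : Over S) {S' : Scheme.{u}} (f : S' ⟶ S) [IsFinite f] [Etale f]
    [Surjective f]
    (h : ∀ s' : S', ∃ U : S'.Opens, s' ∈ U ∧ IsClosed (U : Set S') ∧
      ∃ I : Type u, Nonempty (Red.bc (U.ι ≫ f) R ≅ TwC.const U I)) (x : R.left) :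
    ∃ V : R.left.Opens, x ∈ V ∧ IsClosed (V : Set R.left) ∧ IsFinite (V.ι ≫ R.hom) := by
  have hf : Presieve.singleton f ∈ Scheme.fpqcPrecoverage S :=
    Scheme.fppfPrecoverage_le_fpqcPrecoverage _ (Scheme.Hom.singleton_mem_fppfPrecoverage f)
  have h' : ∀ s' : S', ∃ U : S'.Opens, s' ∈ U ∧
      ∃ I : Type u, Nonempty (Red.bc (U.ι ≫ f) R ≅ TwC.const U I) := by
    intro s'
    obtain ⟨U, h1, -, h2⟩ := h s'
    exact ⟨U, h1, h2⟩
  haveI hsep : IsSeparated R.hom :=
    prop_of_locally_const Groth.Agent.Lib.Helper12.descendsAlong_isSeparated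
      (fun _ I => isSeparated_const I) R f hf h'
  haveI het : Etale R.hom :=
    prop_of_locally_const inferInstance (fun _ I => etale_const I) R f hf h'
  haveI : LocallyQuasiFinite R.hom :=
    Groth.Agent.Lib.T2H3.GenericTorsor.locallyQuasiFinite_of_etale _
  obtain ⟨s', hs'⟩ := ‹Surjective f›.surj (R.hom x)
  obtain ⟨U, hs'U, hUc, I, ⟨e⟩⟩ := h s'
  haveI : IsClosedImmersion U.ι := isClosedImmersion_ι_of_isClosed U hUc
  obtain ⟨x'', hx''1, hx''2⟩ := Scheme.Pullback.exists_preimage_pullback (f := R.hom)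
    (g := U.ι ≫ f) x ⟨s', hs'U⟩ (by rw [Scheme.Hom.comp_apply]; exact hs'.symm)
  obtain ⟨m, y, hy⟩ := (sigmaOpenCover (fun _ : I => (U : Scheme.{u}))).exists_eq (e.hom.left x'')
  change (comp (S := (U : Scheme.{u})) I m) y = e.hom.left x'' at hy
  -- the finite étale map `k'`
  obtain ⟨k', hk'⟩ : ∃ k' : (U : Scheme.{u}) ⟶ R.left,
      k' = comp (S := (U : Scheme.{u})) I m ≫ e.inv.left ≫ pullback.fst R.hom (U.ι ≫ f) :=
    ⟨_, rfl⟩
  have hk'R : k' ≫ R.hom = U.ι ≫ f := by
    rw [hk', Category.assoc, Category.assoc, pullback.condition, ← Category.assoc e.inv.left]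
    have h1 : e.inv.left ≫ pullback.snd R.hom (U.ι ≫ f) = (TwC.const (U : Scheme.{u}) I).hom :=
      Over.w e.inv
    rw [h1, ← Category.assoc, comp_hom, Category.id_comp]
  haveI : IsFinite (k' ≫ R.hom) := by rw [hk'R]; infer_instance
  haveI : Etale (k' ≫ R.hom) := by rw [hk'R]; infer_instance
  haveI : IsFinite k' := IsFinite.of_comp k' R.hom
  haveI : Etale k' := MorphismProperty.of_postcomp (W := @Etale) (W' := @Etale) k' R.hom het ‹_›
  have hk'x : k' y = x := by
    rw [hk', Scheme.Hom.comp_apply, Scheme.Hom.comp_apply, hy, ← Scheme.Hom.comp_apply e.hom.left,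
      ← Over.comp_left, e.hom_inv_id]
    exact hx''1
  have hopen : IsOpen (Set.range k') := k'.isOpenMap.isOpen_range
  refine ⟨⟨Set.range k', hopen⟩, ⟨y, hk'x⟩, k'.isClosedMap.isClosed_range, ?_⟩
  set V : R.left.Opens := ⟨Set.range k', hopen⟩ with hV
  -- factor `k'` through `V`
  have hr : Set.range k' ⊆ Set.range V.ι := by
    rw [Scheme.Opens.range_ι]; exact subset_rfl
  obtain ⟨k₀, hk₀⟩ : ∃ k₀ : (U : Scheme.{u}) ⟶ V, k₀ ≫ V.ι = k' :=
    ⟨_, IsOpenImmersion.lift_fac V.ι k' hr⟩
  haveI : Surjective k₀ := by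
    constructor
    rintro ⟨v, u, hu⟩
    refine ⟨u, ?_⟩
    apply V.ι.injective
    rw [← Scheme.Hom.comp_apply, hk₀, hu]
    rfl
  haveI : IsFinite (k₀ ≫ V.ι ≫ R.hom) := by
    rw [← Category.assoc, hk₀]; infer_instance
  haveI : UniversallyClosed (V.ι ≫ R.hom) := UniversallyClosed.of_comp_surjective k₀ _
  haveI : IsProper (V.ι ≫ R.hom) := {}
  exact IsFinite.of_isProper_of_locallyQuasiFinite _

end Groth.Agent.Lib.T2H3.TwConstIso
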