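import Mathlib
import Groth.Prelude.Def_TwC
import Groth.Agent.Lib.T2H3TwConstIso
import Groth.Agent.Lib.Helper14LocNoeth

/-!
# Clopen subschemes of twisted constant schemes over a connected locally Noetherian base
-/

set_option autoImplicit false
set_option linter.style.haveILetI false
set_option linter.unusedSectionVars false
universe u

namespace Groth.Agent.Lib.T2H3.TwConstConn

open CategoryTheory MonoidalCategory CartesianMonoidalCategory AlgebraicGeometry Limits
open Groth.Agent.Lib.T2H3.ConstSch Groth.Agent.Lib.T2H3.TwConst Groth.Agent.Lib.T2H3.TwConstFin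
open Groth.Agent.Lib.T2H3.TwConstIso
open TopologicalSpace

/-- the index of the component of a point of a constant scheme. -/
theorem exists_comp_eq {A : Scheme.{u}} (I : Type u) (p : (TwC.const A I).left) :
    ∃ (i : I) (y : A), comp (S := A) I i y = p :=
  (sigmaOpenCover (fun _ : I => A)).exists_eq p

theorem comp_injective_index {A : Scheme.{u}} (I : Type u) {i i' : I} {y y' : A}
    (h : comp (S := A) I i y = comp (S := A) I i' y') : i = i' := by
  by_contra hne
  have hd := disjoint_opensRange_sigmaι (fun _ : I => A) i i' hne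
  rw [disjoint_iff] at hd
  have : comp (S := A) I i y ∈ ((Sigma.ι (fun _ : I => A) i).opensRange ⊓
      (Sigma.ι (fun _ : I => A) i').opensRange : (∐ fun _ : I => A).Opens) :=
    ⟨⟨y, rfl⟩, ⟨y', h.symm⟩⟩
  rw [hd] at this
  exact this

theorem const_hom_comp_apply {A : Scheme.{u}} (I : Type u) (i : I) (y : A) :
    (TwC.const A I).hom (comp (S := A) I i y) = y := by
  rw [← Scheme.Hom.comp_apply, comp_hom]; rfl

/-- **Lemma B.** A clopen subscheme of a constant scheme over a connected base, one of whose fibres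
is finite, is finite over the base. -/
theorem isFinite_of_clopen_const {A : Scheme.{u}} [ConnectedSpace A] (I : Type u)
    {Z' : Scheme.{u}} (w : Z' ⟶ (TwC.const A I).left) [IsOpenImmersion w] [IsClosedImmersion w]
    (a : A) (hfin : ((w ≫ (TwC.const A I).hom) ⁻¹' {a}).Finite) :
    IsFinite (w ≫ (TwC.const A I).hom) := by
  classical
  set c := (TwC.const A I).hom with hc
  have hcc : ∀ i y, c (comp (S := A) I i y) = y := fun i y => const_hom_comp_apply I i y
  let J : Set I := {i | (Set.range (comp (S := A) I i) ∩ Set.range w).Nonempty}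
  have hclopen : IsClopen (Set.range w) :=
    ⟨w.isClosedEmbedding.isClosed_range, w.isOpenEmbedding.isOpen_range⟩
  have claim1 : ∀ i ∈ J, ∀ y : A, comp (S := A) I i y ∈ Set.range w := by
    intro i hi y
    have hT : IsClopen ((comp (S := A) I i) ⁻¹' (Set.range w)) :=
      hclopen.preimage (comp (S := A) I i).continuous
    obtain ⟨_, ⟨y₀, rfl⟩, hy₀⟩ := hi
    have := hT.eq_univ ⟨y₀, hy₀⟩
    have hy : y ∈ (comp (S := A) I i) ⁻¹' (Set.range w) := by rw [this]; trivial
    exact hy
  have claim3 : ∀ z : Z', ∃ i ∈ J, ∃ y : A, comp (S := A) I i y = w z := by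
    intro z
    obtain ⟨i, y, hy⟩ := exists_comp_eq I (w z)
    exact ⟨i, ⟨_, ⟨y, rfl⟩, ⟨z, hy.symm⟩⟩, y, hy⟩
  have claim2 : J.Finite := by
    choose idx hidxJ yy hyy using claim3
    refine (hfin.image idx).subset ?_
    intro i hi
    obtain ⟨z, hz⟩ := claim1 i hi a
    refine ⟨z, ?_, ?_⟩
    · change (w ≫ c) z = a
      rw [Scheme.Hom.comp_apply, hz, hcc]
    · exact comp_injective_index I ((hyy z).trans hz)
  haveI : QuasiCompact (w ≫ c) := by
    constructor
    intro U hUo hUc
    have hK : IsCompact (⋃ i ∈ J, (comp (S := A) I i) '' U) :=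
      claim2.isCompact_biUnion (fun i _ => hUc.image (comp (S := A) I i).continuous)
    have heq : (w ≫ c) ⁻¹' U = w ⁻¹' (⋃ i ∈ J, (comp (S := A) I i) '' U) := by
      ext z
      simp only [Set.mem_preimage, Set.mem_iUnion, Set.mem_image, exists_prop]
      constructor
      · intro hz
        obtain ⟨i, hiJ, y, hy⟩ := claim3 z
        refine ⟨i, hiJ, y, ?_, hy⟩
        have : (w ≫ c) z = y := by rw [Scheme.Hom.comp_apply, ← hy, hcc]
        rw [← this]; exact hz
      · rintro ⟨i, -, y, hyU, hy⟩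
        have : (w ≫ c) z = y := by rw [Scheme.Hom.comp_apply, ← hy, hcc]
        rw [this]; exact hyU
    rw [heq]
    exact w.isClosedEmbedding.isCompact_preimage hK
  exact isFinite_of_closedImmersion_const I w

/-- **Lemma C.** finiteness of a fibre passes to an étale quasi-compact base change. -/
theorem finite_fibre_pullback {Z S A : Scheme.{u}} (v : Z ⟶ S) (g : A ⟶ S) [Etale g]
    [QuasiCompact g] (a : A) (h : (v ⁻¹' {g a}).Finite) :
    ((pullback.snd v g) ⁻¹' {a}).Finite := by
  haveI : Etale (pullback.fst v g) := MorphismProperty.pullback_fst (P := @Etale) _ _ inferInstance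
  haveI : LocallyQuasiFinite (pullback.fst v g) :=
    Groth.Agent.Lib.T2H3.GenericTorsor.locallyQuasiFinite_of_etale _
  haveI : QuasiCompact (pullback.fst v g) :=
    MorphismProperty.pullback_fst (P := @QuasiCompact) _ _ inferInstance
  refine ((pullback.fst v g).finite_preimage h).subset ?_
  intro q hq
  change v (pullback.fst v g q) = g a
  rw [← Scheme.Hom.comp_apply, pullback.condition, Scheme.Hom.comp_apply, hq]

/-- **Lemma E.** a morphism which is finite over an open has finite fibres there. -/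
theorem finite_fibre_of_isFinite_restrict {Z S : Scheme.{u}} (v : Z ⟶ S) (O : S.Opens)
    [IsFinite (pullback.snd v O.ι)] (t : S) (ht : t ∈ O) : (v ⁻¹' {t}).Finite := by
  refine (((pullback.snd v O.ι).finite_preimage_singleton ⟨t, ht⟩).image
    (pullback.fst v O.ι)).subset ?_
  intro z hz
  obtain ⟨q, hq1, hq2⟩ := Scheme.Pullback.exists_preimage_pullback (f := v) (g := O.ι) z ⟨t, ht⟩ hz
  exact ⟨q, hq2, hq1⟩


/-- **Lemma A.** local data: connected Noetherian étale neighbourhoods over which a twisted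
constant scheme is constant. -/
theorem exists_connected_nhd {S : Scheme.{u}} [IsLocallyNoetherian S] (P : Over S)
    (hP : TwC.IsTwConst TwC.Topology.etale P) (s : S) :
    ∃ (A : Scheme.{u}) (g : A ⟶ S), Etale g ∧ NoetherianSpace A ∧ ConnectedSpace A ∧
      (∃ a : A, g a = s) ∧ ∃ I : Type u, Nonempty (Red.bc g P ≅ TwC.const A I) := by
  obtain ⟨S', f, hf, ⟨s', hs'⟩, I, ⟨e⟩⟩ := hP s
  haveI := hf
  haveI : IsLocallyNoetherian S' := LocallyOfFiniteType.isLocallyNoetherian f
  obtain ⟨B, hB, hsB⟩ : ∃ B : S'.Opens, IsAffineOpen B ∧ s' ∈ B := by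
    obtain ⟨_, ⟨B, hB, rfl⟩, hsB, -⟩ := S'.isBasis_affineOpens.exists_subset_of_mem_open
      (Set.mem_univ s') isOpen_univ
    exact ⟨B, hB, hsB⟩
  haveI : IsNoetherianRing Γ(S', B) := IsLocallyNoetherian.component_noetherian ⟨B, hB⟩
  haveI hBN : NoetherianSpace B := noetherianSpace_of_isAffineOpen B hB
  let C : (B : Scheme.{u}).Opens := ⟨connectedComponent (⟨s', hsB⟩ : B),
    Groth.Agent.Lib.Helper14.isOpen_connectedComponent_of_noetherianSpace _⟩
  haveI hCN : NoetherianSpace C :=
    @NoetherianSpace.set _ _ hBN (connectedComponent (⟨s', hsB⟩ : B))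
  haveI hCC : ConnectedSpace C :=
    isConnected_iff_connectedSpace.mp (isConnected_connectedComponent (x := (⟨s', hsB⟩ : B)))
  let j : (C : Scheme.{u}) ⟶ S' := C.ι ≫ B.ι
  haveI : Etale (j ≫ f) := by
    haveI : Etale j := inferInstanceAs (Etale (C.ι ≫ B.ι))
    infer_instance
  refine ⟨C, j ≫ f, inferInstance, hCN, hCC, ⟨⟨⟨s', hsB⟩, mem_connectedComponent⟩, ?_⟩, I, ?_⟩
  · rw [Scheme.Hom.comp_apply]
    exact hs'
  obtain ⟨e3⟩ := nonempty_bc_const_iso I j
  exact ⟨(Over.pullbackComp j f).app P ≪≫ (Over.pullback j).mapIso e ≪≫ e3⟩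


section Main

variable {S : Scheme.{u}} (P : Over S) {Z : Scheme.{u}} (z : Z ⟶ P.left)
  [IsOpenImmersion z] [IsClosedImmersion z]

open Groth.Agent.Lib.Helper12 in
/-- **Key claim.** over the image of a connected étale neighbourhood on which `P` is constant,
`Z` is finite as soon as one fibre over that image is finite. -/
theorem isFinite_over_range {A : Scheme.{u}} (g : A ⟶ S) [Etale g] [NoetherianSpace A]
    [ConnectedSpace A] (I : Type u) (e : Red.bc g P ≅ TwC.const A I) (a' : A)
    (hfin : ((z ≫ P.hom) ⁻¹' {g a'}).Finite) (O : S.Opens) (hO : (O : Set S) = Set.range g) :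
    IsFinite (pullback.snd (z ≫ P.hom) O.ι) := by
  -- the fibre over `a'` of the base change is finite
  have h1 := finite_fibre_pullback (z ≫ P.hom) g a' hfin
  -- transport to the constant scheme
  obtain ⟨ι, hι⟩ : ∃ ι : pullback z (pullback.fst P.hom g) ≅ pullback (z ≫ P.hom) g,
      ι.hom ≫ pullback.snd (z ≫ P.hom) g =
        pullback.snd z (pullback.fst P.hom g) ≫ pullback.snd P.hom g :=
    ⟨pullbackRightPullbackFstIso P.hom g z, pullbackRightPullbackFstIso_hom_snd P.hom g z⟩
  have h3 : pullback.snd P.hom g = e.hom.left ≫ (TwC.const A I).hom := (Over.w e.hom).symm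
  obtain ⟨w, hw⟩ : ∃ w : pullback z (pullback.fst P.hom g) ⟶ (TwC.const A I).left,
      w = pullback.snd z (pullback.fst P.hom g) ≫ e.hom.left := ⟨_, rfl⟩
  haveI : IsOpenImmersion w := by rw [hw]; infer_instance
  haveI : IsClosedImmersion w := by rw [hw]; infer_instance
  have h4 : ι.hom ≫ pullback.snd (z ≫ P.hom) g = w ≫ (TwC.const A I).hom := by
    rw [hι, h3, hw, Category.assoc]
  have h5 : ((w ≫ (TwC.const A I).hom) ⁻¹' {a'}).Finite := by
    refine (h1.image ι.inv).subset ?_
    intro y hy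
    refine ⟨ι.hom y, ?_, ?_⟩
    · change pullback.snd (z ≫ P.hom) g (ι.hom y) = a'
      rw [← Scheme.Hom.comp_apply, h4]
      exact hy
    · rw [← Scheme.Hom.comp_apply, Iso.hom_inv_id]; rfl
  haveI h6 : IsFinite (w ≫ (TwC.const A I).hom) := isFinite_of_clopen_const I w a' h5
  have h7 : IsFinite (pullback.snd (z ≫ P.hom) g) := by
    have : pullback.snd (z ≫ P.hom) g = ι.inv ≫ w ≫ (TwC.const A I).hom := by
      rw [← h4, Iso.inv_hom_id_assoc]
    rw [this]
    infer_instance
  -- descend along `A ⟶ range g`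
  obtain ⟨g₀, hg₀⟩ : ∃ g₀ : A ⟶ (O : Scheme.{u}), g₀ ≫ O.ι = g :=
    ⟨_, IsOpenImmersion.lift_fac O.ι g (by rw [Scheme.Opens.range_ι, hO])⟩
  haveI : Etale (g₀ ≫ O.ι) := by rw [hg₀]; infer_instance
  haveI : Etale g₀ :=
    MorphismProperty.of_postcomp (W := @Etale) (W' := @Etale) g₀ O.ι inferInstance ‹_›
  haveI : Surjective g₀ := by
    constructor
    rintro ⟨t, ht⟩
    have ht' : t ∈ Set.range g := by rw [← hO]; exact ht
    obtain ⟨a, rfl⟩ := ht'
    refine ⟨a, ?_⟩
    apply O.ι.injective
    rw [← Scheme.Hom.comp_apply, hg₀]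
    rfl
  have hcov : Presieve.singleton g₀ ∈ Scheme.fpqcPrecoverage (O : Scheme.{u}) :=
    Scheme.fppfPrecoverage_le_fpqcPrecoverage _ (Scheme.Hom.singleton_mem_fppfPrecoverage g₀)
  refine of_mem_fpqcPrecoverage descendsAlong_isFinite _ (Presieve.singleton g₀) hcov ?_
  rintro Y' _ ⟨⟩
  apply pullback_snd_pullback_snd
  exact pullback_snd_congr (z ≫ P.hom) hg₀.symm h7

/-- **S5267.** a clopen subscheme of an étale-locally constant scheme over a connected locally
Noetherian base is finite over the base as soon as one of its fibres is finite. -/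
theorem isFinite_of_clopen [IsLocallyNoetherian S] [ConnectedSpace S]
    (hP : TwC.IsTwConst TwC.Topology.etale P)
    (hs : ∃ s : S, Set.Finite ((z ≫ P.hom) ⁻¹' {s})) : IsFinite (z ≫ P.hom) := by
  set v := z ≫ P.hom with hv
  let F : Set S := {s | ∃ O : S.Opens, s ∈ O ∧ IsFinite (pullback.snd v O.ι)}
  have hFopen : IsOpen F := by
    rw [isOpen_iff_forall_mem_open]
    rintro s ⟨O, hsO, hO⟩
    exact ⟨O, fun t ht => ⟨O, ht, hO⟩, O.2, hsO⟩
  have hFclosed : IsClosed F := by
    rw [← closure_subset_iff_isClosed]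
    intro s hs
    obtain ⟨A, g, hg, hAN, hAC, ⟨a, ha⟩, I, ⟨e⟩⟩ := exists_connected_nhd P hP s
    haveI := hg
    have hopen : IsOpen (Set.range g) := g.isOpenMap.isOpen_range
    obtain ⟨t, ⟨a', rfl⟩, htF⟩ := mem_closure_iff.mp hs (Set.range g) hopen ⟨a, ha⟩
    obtain ⟨O', htO', hO'⟩ := htF
    haveI := hO'
    have hfin : (v ⁻¹' {g a'}).Finite := finite_fibre_of_isFinite_restrict v O' (g a') htO'
    exact ⟨⟨Set.range g, hopen⟩, ⟨a, ha⟩, isFinite_over_range P z g I e a' hfin _ rfl⟩
  have hFne : F.Nonempty := by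
    obtain ⟨s₀, hs₀⟩ := hs
    obtain ⟨A, g, hg, hAN, hAC, ⟨a, ha⟩, I, ⟨e⟩⟩ := exists_connected_nhd P hP s₀
    haveI := hg
    subst ha
    exact ⟨g a, ⟨Set.range g, g.isOpenMap.isOpen_range⟩, ⟨a, rfl⟩,
      isFinite_over_range P z g I e a hs₀ _ rfl⟩
  have hFuniv : F = Set.univ := IsClopen.eq_univ ⟨hFclosed, hFopen⟩ hFne
  have hall : ∀ s : S, ∃ O : S.Opens, s ∈ O ∧ IsFinite (pullback.snd v O.ι) := by
    intro s
    have : s ∈ F := by rw [hFuniv]; trivial
    exact this
  choose O hO hOfin using hall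
  have hcov : TopologicalSpace.IsOpenCover O := by
    rw [TopologicalSpace.IsOpenCover, eq_top_iff]
    intro x _
    rw [TopologicalSpace.Opens.mem_iSup]
    exact ⟨x, hO x⟩
  refine IsZariskiLocalAtTarget.of_openCover (S.openCoverOfIsOpenCover O hcov) ?_
  intro s
  exact hOfin s

end Main

end Groth.Agent.Lib.T2H3.TwConstConn
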