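import Mathlib
import Groth.Prelude.Def_TwC
import Groth.Agent.Lib.T2H3TwConst
import Groth.Agent.Lib.T2H3TwConstConn
import Groth.Agent.Lib.Helper20FinHom
import Groth.Agent.Lib.Helper12QuotGrp
import Groth.Agent.Lib.Helper12Torsor

/-!
# fppf-twisted constant schemes over a locally noetherian base are étale-locally constant

Part 1: descent of a trivialisation along a finite locally free cover near a point where the cover
is radicial.
-/

set_option autoImplicit false
set_option linter.style.haveILetI false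
set_option linter.unusedSectionVars false
universe u

namespace Groth.Agent.Lib.T2H3.TwConstFppf

open CategoryTheory MonoidalCategory CartesianMonoidalCategory AlgebraicGeometry Limits
open Groth.Agent.Lib.T2H3.ConstSch Groth.Agent.Lib.T2H3.TwConst Groth.Agent.Lib.T2H3.TwConstConn

/-! ### generalities -/

/-- transport of constancy along a commutative square. -/
theorem nonempty_bc_bc_iso_const {S S' U V : Scheme.{u}} (f : S' ⟶ S) (g : U ⟶ S) (π : V ⟶ U)
    (h : V ⟶ S') (comm : h ≫ f = π ≫ g) (X : Over S) (I : Type u)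
    (e : Red.bc f X ≅ TwC.const S' I) :
    Nonempty (Red.bc π (Red.bc g X) ≅ TwC.const V I) := by
  obtain ⟨e3⟩ := nonempty_bc_const_iso I h
  have e0 : Red.bc π (Red.bc g X) ≅ (Over.pullback (π ≫ g)).obj X :=
    ((Over.pullbackComp π g).app X).symm
  have e1 : (Over.pullback (π ≫ g)).obj X ≅ (Over.pullback (h ≫ f)).obj X :=
    eqToIso (congrArg (fun k => (Over.pullback k).obj X) comm.symm)
  have e2 : (Over.pullback (h ≫ f)).obj X ≅ Red.bc h (Red.bc f X) :=
    (Over.pullbackComp h f).app X
  exact ⟨e0 ≪≫ e1 ≪≫ e2 ≪≫ (Over.pullback h).mapIso e ≪≫ e3⟩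

open Groth.Agent.Lib.Helper12 in
/-- an fpqc-local property of constant schemes holds for fppf-twisted constant schemes. -/
theorem prop_of_isTwConst_fppf {S : Scheme.{u}} {P : MorphismProperty Scheme.{u}}
    [IsZariskiLocalAtTarget P]
    (hP : P.DescendsAlong (@Surjective ⊓ @Flat ⊓ @QuasiCompact : MorphismProperty Scheme.{u}))
    (hc : ∀ (S' : Scheme.{u}) (I : Type u), P (TwC.const S' I).hom)
    (X : Over S) (hX : TwC.IsTwConst TwC.Topology.fppf X) : P X.hom := by
  choose S' f hf1 hf2 hs I e using hX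
  refine of_mem_fpqcPrecoverage hP X.hom (Presieve.ofArrows S' f) ?_ ?_
  · apply Scheme.fppfPrecoverage_le_fpqcPrecoverage
    rw [Scheme.fppfPrecoverage, Scheme.ofArrows_mem_precoverage_iff]
    exact ⟨fun x => ⟨x, hs x⟩, fun x => ⟨hf1 x, hf2 x⟩⟩
  · rintro Y' _ ⟨s⟩
    obtain ⟨e'⟩ := e s
    have h1 : pullback.snd X.hom (f s) = e'.hom.left ≫ (TwC.const (S' s) (I s)).hom :=
      (Over.w e'.hom).symm
    rw [h1]
    exact (MorphismProperty.cancel_left_of_respectsIso P e'.hom.left _).mpr (hc _ _)

theorem etale_of_isTwConst_fppf {S : Scheme.{u}} (X : Over S)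
    (hX : TwC.IsTwConst TwC.Topology.fppf X) : Etale X.hom :=
  prop_of_isTwConst_fppf inferInstance (fun _ I => etale_const I) X hX

open Groth.Agent.Lib.Helper12 in
theorem isSeparated_of_isTwConst_fppf {S : Scheme.{u}} (X : Over S)
    (hX : TwC.IsTwConst TwC.Topology.fppf X) : IsSeparated X.hom :=
  prop_of_isTwConst_fppf descendsAlong_isSeparated (fun _ I => isSeparated_const I) X hX

set_option backward.isDefEq.respectTransparency.types false in
set_option backward.defeqAttrib.useBackward true in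
/-- two field-valued points with the same image point, at which the residue field extension is
purely inseparable, agree as soon as their images agree. -/
theorem eq_of_comp_eq_of_isPurelyInseparable {X Y : Scheme.{u}} (f : X ⟶ Y) (K : Type u) [Field K]
    (g₁ g₂ : Spec (.of K) ⟶ X)
    (h₂ : g₁ (IsLocalRing.closedPoint K) = g₂ (IsLocalRing.closedPoint K))
    (hpi : (f.residueFieldMap (g₁ (IsLocalRing.closedPoint K))).hom.IsPurelyInseparable)
    (hg : g₁ ≫ f = g₂ ≫ f) : g₁ = g₂ := by
  obtain ⟨e, h⟩ := Scheme.SpecToEquivOfField_eq_iff.mp congr((Y.SpecToEquivOfField K) $(hg))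
  apply (X.SpecToEquivOfField K).injective
  dsimp at e h
  simp only [Scheme.descResidueField_stalkClosedPointTo_comp] at e h
  rw [← f.residueFieldMap_congr'_assoc h₂, CommRingCat.hom_ext_iff] at h
  rw [Scheme.SpecToEquivOfField_eq_iff]
  let x := g₁ (IsLocalRing.closedPoint K)
  have hfx := hpi
  algebraize [(f.residueFieldMap (g₁ (IsLocalRing.closedPoint K))).hom]
  refine ⟨h₂, CommRingCat.hom_ext ?_⟩
  exact IsPurelyInseparable.injective_comp_algebraMap
    (Y.residueField (f x)) (X.residueField x) _ h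

/-- in a locally noetherian scheme a union of open and closed subsets is closed. -/
theorem isClosed_iUnion_of_isClopen {W : Scheme.{u}} [IsLocallyNoetherian W] {ι : Type*}
    (E : ι → Set W) (hE : ∀ i, IsClopen (E i)) : IsClosed (⋃ i, E i) := by
  rw [← isOpen_compl_iff, isOpen_iff_forall_mem_open]
  intro x hx
  obtain ⟨_, ⟨N, hN, rfl⟩, hxN, -⟩ := W.isBasis_affineOpens.exists_subset_of_mem_open
    (Set.mem_univ x) isOpen_univ
  have hNoeth : TopologicalSpace.NoetherianSpace ↥N := by
    have h1 : IsNoetherianRing Γ(W, N) := IsLocallyNoetherian.component_noetherian ⟨N, hN⟩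
    have h2 : TopologicalSpace.NoetherianSpace (Spec Γ(W, N)) := inferInstance
    exact (TopologicalSpace.noetherianSpace_iff_of_homeomorph hN.isoSpec.hom.homeomorph).mpr h2
  -- the union is compact inside `N`
  have hc : IsCompact ((⋃ i, E i) ∩ (N : Set W)) := by
    have h1 : IsCompact ((Subtype.val : ↥N → W) ⁻¹' (⋃ i, E i)) :=
      TopologicalSpace.NoetherianSpace.isCompact _
    have h2 := h1.image continuous_subtype_val
    have h3 : (Subtype.val : ↥N → W) '' ((Subtype.val : ↥N → W) ⁻¹' ⋃ i, E i) =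
        (⋃ i, E i) ∩ (N : Set W) := by
      ext y
      constructor
      · rintro ⟨⟨z, hz⟩, hzE, rfl⟩
        exact ⟨hzE, hz⟩
      · rintro ⟨h1, h2⟩
        exact ⟨⟨y, h2⟩, h1, rfl⟩
    rwa [h3] at h2
  obtain ⟨t, ht⟩ := hc.elim_finite_subcover E (fun i => (hE i).isOpen) Set.inter_subset_left
  refine ⟨(N : Set W) ∩ (⋃ i ∈ t, E i)ᶜ, ?_, ?_, hxN, ?_⟩
  · rintro y ⟨hyN, hy⟩ hyE
    exact hy (ht ⟨hyE, hyN⟩)
  · exact N.2.inter (isClosed_biUnion_finset fun i _ => (hE i).isClosed).isOpen_compl
  · intro hxt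
    simp only [Set.mem_iUnion, exists_prop] at hxt
    obtain ⟨i, -, hi⟩ := hxt
    exact hx (Set.mem_iUnion.mpr ⟨i, hi⟩)

end Groth.Agent.Lib.T2H3.TwConstFppf
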