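import Mathlib
import Groth.Prelude.Def_TwC
import Groth.Agent.Lib.T2H3TwConstFppf

/-!
# fppf-twisted constant schemes over a locally noetherian base, part 2

Descent of a trivialisation along a finite locally free cover which is radicial over a point:
the trivialisation descends over a neighbourhood of the point.
-/

set_option autoImplicit false
set_option linter.style.haveILetI false
set_option linter.unusedSectionVars false
universe u

namespace Groth.Agent.Lib.T2H3.TwConstFppf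

open CategoryTheory MonoidalCategory CartesianMonoidalCategory AlgebraicGeometry Limits
open Groth.Agent.Lib.T2H3.ConstSch Groth.Agent.Lib.T2H3.TwConst Groth.Agent.Lib.T2H3.TwConstConn

/-- the equaliser of two morphisms to an étale separated scheme is open and closed. -/
theorem exists_eqLocus {W Y' U : Scheme.{u}} (p : Y' ⟶ U) [Etale p] [IsSeparated p]
    (a b : W ⟶ Y') (hab : a ≫ p = b ≫ p) :
    ∃ (Z : Scheme.{u}) (j : Z ⟶ W), IsOpenImmersion j ∧ IsClosedImmersion j ∧ j ≫ a = j ≫ b ∧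
      ∀ (T : Scheme.{u}) (t : T ⟶ W), t ≫ a = t ≫ b → ∃ l : T ⟶ Z, l ≫ j = t := by
  let c : W ⟶ pullback p p := pullback.lift a b hab
  have hc1 : c ≫ pullback.fst p p = a := pullback.lift_fst _ _ _
  have hc2 : c ≫ pullback.snd p p = b := pullback.lift_snd _ _ _
  have hdo : IsOpenImmersion (pullback.diagonal p) := inferInstance
  have hdc : IsClosedImmersion (pullback.diagonal p) := IsSeparated.isClosedImmersion_diagonal
  refine ⟨pullback (pullback.diagonal p) c, pullback.snd _ _, inferInstance, inferInstance, ?_, ?_⟩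
  · have h1 : pullback.snd (pullback.diagonal p) c ≫ c =
        pullback.fst _ _ ≫ pullback.diagonal p := pullback.condition.symm
    rw [← hc1, ← hc2, ← Category.assoc, ← Category.assoc, h1, Category.assoc, Category.assoc,
      pullback.diagonal_fst, pullback.diagonal_snd]
  · intro T t ht
    refine ⟨pullback.lift (t ≫ a) t ?_, pullback.lift_snd _ _ _⟩
    apply pullback.hom_ext
    · rw [Category.assoc, pullback.diagonal_fst, Category.comp_id, Category.assoc, hc1]
    · rw [Category.assoc, pullback.diagonal_snd, Category.comp_id, Category.assoc, hc2, ht]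

/-- an étale scheme with a family of jointly surjective, pairwise disjoint sections is constant. -/
theorem nonempty_iso_const_of_sections {A : Scheme.{u}} (Y : Over A) [Etale Y.hom] (I : Type u)
    (s : I → (A ⟶ Y.left)) (hs : ∀ i, s i ≫ Y.hom = 𝟙 A)
    (hcov : ∀ y : Y.left, ∃ i, y ∈ Set.range (s i))
    (hdisj : ∀ i j, i ≠ j → Disjoint (Set.range (s i)) (Set.range (s j))) :
    Nonempty (Y ≅ TwC.const A I) := by
  have hoi : ∀ i, IsOpenImmersion (s i) := fun i =>
    Groth.Agent.Lib.Helper20.FinHom.isOpenImmersion_of_section Y.hom (s i) (hs i)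
  have hcov' : ⨆ i, (s i).opensRange = ⊤ := by
    rw [eq_top_iff]
    intro y _
    obtain ⟨i, hi⟩ := hcov y
    rw [TopologicalSpace.Opens.mem_iSup]
    exact ⟨i, hi⟩
  have hdisj' : Pairwise (Function.onFun Disjoint (fun i => (s i).opensRange)) := by
    intro i j hij
    simp only [Function.onFun]
    rw [disjoint_iff]
    ext z
    simp only [TopologicalSpace.Opens.coe_inf, Scheme.Hom.coe_opensRange, Set.mem_inter_iff,
      TopologicalSpace.Opens.coe_bot, Set.mem_empty_iff_false, iff_false, not_and]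
    intro h1 h2
    exact Set.disjoint_left.mp (hdisj i j hij) h1 h2
  obtain ⟨hcolim⟩ := nonempty_isColimit_cofanMk_of (fun i => s i) hcov' hdisj'
  have hiso : IsIso (Limits.Sigma.desc fun i => s i) := by
    have := (Cofan.nonempty_isColimit_iff_isIso_sigmaDesc
      (Cofan.mk Y.left fun i => s i)).mp ⟨hcolim⟩
    simpa using this
  refine ⟨(Over.isoMk (asIso (Limits.Sigma.desc fun i => s i)) ?_).symm⟩
  apply Sigma.hom_ext
  intro i
  simp only [asIso_hom, Over.mk_left, Over.mk_hom]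
  rw [← Category.assoc, Sigma.ι_desc, hs, Sigma.ι_desc]

/-- the sections of `Y` over `V` given by a trivialisation of the base change of `Y` to `V`. -/
theorem exists_sections_of_triv {U V : Scheme.{u}} (Y : Over U) (π : V ⟶ U) (I : Type u)
    (θ : Red.bc π Y ≅ TwC.const V I) :
    ∃ τ : I → (V ⟶ Y.left), (∀ i, τ i ≫ Y.hom = π) ∧
      (∀ (y : Y.left) (v : V), Y.hom y = π v → ∃ i, τ i v = y) ∧
      (∀ (T : Scheme.{u}) (k : T ⟶ V) (i j : I), Nonempty T → k ≫ τ i = k ≫ τ j → i = j) := by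
  let σ : I → (V ⟶ pullback Y.hom π) := fun i => comp (S := V) I i ≫ θ.inv.left
  have hσ : ∀ i, σ i ≫ pullback.snd Y.hom π = 𝟙 V := by
    intro i
    have h1 : θ.inv.left ≫ pullback.snd Y.hom π = (TwC.const V I).hom := Over.w θ.inv
    change (comp (S := V) I i ≫ θ.inv.left) ≫ pullback.snd Y.hom π = 𝟙 V
    rw [Category.assoc, h1, comp_hom]
  refine ⟨fun i => σ i ≫ pullback.fst Y.hom π, ?_, ?_, ?_⟩
  · intro i
    rw [Category.assoc, pullback.condition, ← Category.assoc, hσ, Category.id_comp]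
  · intro y v hyv
    obtain ⟨q, hq1, hq2⟩ := Scheme.Pullback.exists_preimage_pullback y v hyv
    obtain ⟨i, v', hv'⟩ := exists_comp_eq I (θ.hom.left q)
    have h1 : σ i v' = q := by
      change (comp (S := V) I i ≫ θ.inv.left) v' = q
      rw [Scheme.Hom.comp_apply, hv', ← Scheme.Hom.comp_apply, ← Over.comp_left, θ.hom_inv_id]
      rfl
    have h2 : v' = v := by
      have := congrArg (pullback.snd Y.hom π) h1
      rw [← Scheme.Hom.comp_apply, hσ, hq2] at this
      exact this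
    refine ⟨i, ?_⟩
    rw [Scheme.Hom.comp_apply, ← h2, h1, hq1]
  · intro T k i j hT h
    obtain ⟨t⟩ := hT
    have h1 : k ≫ σ i = k ≫ σ j := by
      apply pullback.hom_ext
      · simpa [Category.assoc] using h
      · rw [Category.assoc, hσ, Category.assoc, hσ]
    have h2 : k ≫ comp (S := V) I i = k ≫ comp (S := V) I j := by
      rw [← cancel_mono θ.inv.left]
      simpa [Category.assoc] using h1
    have h3 := congrArg (fun m : T ⟶ _ => m t) h2
    simp only [Scheme.Hom.comp_apply] at h3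
    exact comp_injective_index I h3

open Groth.Agent.Lib.Helper12.QuotGrp in
/-- **Descent of a trivialisation.** Let `π : V ⟶ U` be finite locally free, radicial over the
point `u₀` of its image, and let `Y` be étale and separated over the locally noetherian scheme `U`.
A trivialisation of `Y` over `V` descends to a trivialisation over a neighbourhood of `u₀`. -/
theorem exists_nhd_const {U V : Scheme.{u}} [IsLocallyNoetherian U] (Y : Over U) [Etale Y.hom]
    [IsSeparated Y.hom] (π : V ⟶ U) [IsFinite π] [Flat π] [LocallyOfFinitePresentation π]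
    (u₀ : U) (hu : u₀ ∈ Set.range π)
    (hdiag : ∀ z : ↥(pullback π π), π (pullback.fst π π z) = u₀ →
      z ∈ Set.range (pullback.diagonal π))
    (I : Type u) (θ : Red.bc π Y ≅ TwC.const V I) :
    ∃ U₃ : U.Opens, u₀ ∈ U₃ ∧ Nonempty (Red.bc U₃.ι Y ≅ TwC.const U₃ I) := by
  classical
  obtain ⟨τ, hτ, hτcov, hτinj⟩ := exists_sections_of_triv Y π I θ
  -- the loci where the two pull-backs of `τ i` agree
  have hab : ∀ i, (pullback.fst π π ≫ τ i) ≫ Y.hom = (pullback.snd π π ≫ τ i) ≫ Y.hom := by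
    intro i
    rw [Category.assoc, Category.assoc, hτ, pullback.condition]
  choose Z j hjo hjc hjeq hjuniv using fun i =>
    exists_eqLocus Y.hom (pullback.fst π π ≫ τ i) (pullback.snd π π ≫ τ i) (hab i)
  have hE : ∀ i, IsClopen (Set.range (j i)) := fun i =>
    ⟨(j i).isClosedEmbedding.isClosed_range, (j i).isOpenEmbedding.isOpen_range⟩
  have hdE : ∀ i, Set.range (pullback.diagonal π) ⊆ Set.range (j i) := by
    intro i
    obtain ⟨l, hl⟩ := hjuniv i V (pullback.diagonal π) (by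
      rw [← Category.assoc, ← Category.assoc, pullback.diagonal_fst, pullback.diagonal_snd])
    rintro _ ⟨v, rfl⟩
    exact ⟨l v, by rw [← Scheme.Hom.comp_apply, hl]⟩
  have hWn : IsLocallyNoetherian (pullback π π) :=
    LocallyOfFiniteType.isLocallyNoetherian (pullback.fst π π ≫ π)
  let F : Set ↥(pullback π π) := ⋃ i, (Set.range (j i))ᶜ
  have hF : IsClosed F := isClosed_iUnion_of_isClopen _ fun i => (hE i).compl
  have hcl : IsClosedMap (pullback.fst π π ≫ π) := (pullback.fst π π ≫ π).isClosedMap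
  let C : Set U := (pullback.fst π π ≫ π) '' F
  have hC : IsClosed C := hcl _ hF
  have hu₀C : u₀ ∉ C := by
    rintro ⟨z, hzF, hz⟩
    obtain ⟨i, hi⟩ := Set.mem_iUnion.mp hzF
    rw [Scheme.Hom.comp_apply] at hz
    exact hi (hdE i (hdiag z hz))
  have hop : IsOpen (Set.range π) := π.isOpenMap.isOpen_range
  let U₃ : U.Opens := ⟨Cᶜ ∩ Set.range π, hC.isOpen_compl.inter hop⟩
  refine ⟨U₃, ⟨hu₀C, hu⟩, ?_⟩
  -- the restriction of `π` over `U₃`
  let π₃ : (π ⁻¹ᵁ U₃ : Scheme.{u}) ⟶ U₃ := π ∣_ U₃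
  have hπ₃ι : π₃ ≫ U₃.ι = (π ⁻¹ᵁ U₃).ι ≫ π := morphismRestrict_ι π U₃
  have hπ₃surj : Surjective π₃ := by
    constructor
    intro x
    obtain ⟨v, hv⟩ := x.2.2
    have hvmem : v ∈ π ⁻¹ᵁ U₃ := by
      change π v ∈ U₃
      rw [hv]
      exact x.2
    refine ⟨⟨v, hvmem⟩, ?_⟩
    apply U₃.ι.isOpenEmbedding.injective
    rw [← Scheme.Hom.comp_apply, hπ₃ι]
    exact hv
  have hπ₃flat : Flat π₃ := IsZariskiLocalAtTarget.restrict ‹_› U₃
  have hπ₃lfp : LocallyOfFinitePresentation π₃ := IsZariskiLocalAtTarget.restrict ‹_› U₃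
  have hEE : EffectiveEpi π₃ := effectiveEpi_of_factor π₃ π₃ (𝟙 _) (Category.id_comp _)
    (Scheme.fppfPrecoverage_le_fpqcPrecoverage _ (Scheme.Hom.singleton_mem_fppfPrecoverage π₃))
  -- the sections descend
  have hdesc : ∀ i, ∀ {T : Scheme.{u}} (g₁ g₂ : T ⟶ (π ⁻¹ᵁ U₃ : Scheme.{u})),
      g₁ ≫ π₃ = g₂ ≫ π₃ → g₁ ≫ (π ⁻¹ᵁ U₃).ι ≫ τ i = g₂ ≫ (π ⁻¹ᵁ U₃).ι ≫ τ i := by
    intro i T g₁ g₂ hg
    have hg' : (g₁ ≫ (π ⁻¹ᵁ U₃).ι) ≫ π = (g₂ ≫ (π ⁻¹ᵁ U₃).ι) ≫ π := by
      rw [Category.assoc, Category.assoc, ← hπ₃ι, ← Category.assoc, hg, Category.assoc]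
    let t : T ⟶ pullback π π := pullback.lift _ _ hg'
    have ht1 : t ≫ pullback.fst π π = g₁ ≫ (π ⁻¹ᵁ U₃).ι := pullback.lift_fst _ _ _
    have ht2 : t ≫ pullback.snd π π = g₂ ≫ (π ⁻¹ᵁ U₃).ι := pullback.lift_snd _ _ _
    have ht : Set.range t ⊆ Set.range (j i) := by
      rintro _ ⟨x, rfl⟩
      by_contra hx
      have hxF : t x ∈ F := Set.mem_iUnion.mpr ⟨i, hx⟩
      have h1 : (pullback.fst π π ≫ π) (t x) ∈ C := ⟨_, hxF, rfl⟩
      have h2 : (pullback.fst π π ≫ π) (t x) = π ((π ⁻¹ᵁ U₃).ι (g₁ x)) := by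
        rw [← Scheme.Hom.comp_apply, ← Category.assoc, ht1]
        rfl
      have h3 : π ((π ⁻¹ᵁ U₃).ι (g₁ x)) ∈ U₃ := (g₁ x).2
      rw [← h2] at h3
      exact h3.1 h1
    have hl := IsOpenImmersion.lift_fac (j i) t ht
    have h4 : t ≫ (pullback.fst π π ≫ τ i) = t ≫ (pullback.snd π π ≫ τ i) := by
      rw [← hl, Category.assoc, Category.assoc, hjeq i]
    rw [← Category.assoc, ← Category.assoc, ht1, ht2] at h4
    simpa [Category.assoc] using h4
  let s : I → ((U₃ : Scheme.{u}) ⟶ Y.left) := fun i =>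
    EffectiveEpi.desc π₃ ((π ⁻¹ᵁ U₃).ι ≫ τ i) (fun g₁ g₂ hg => hdesc i g₁ g₂ hg)
  have hs : ∀ i, π₃ ≫ s i = (π ⁻¹ᵁ U₃).ι ≫ τ i := fun i => EffectiveEpi.fac _ _ _
  have hsY : ∀ i, s i ≫ Y.hom = U₃.ι := by
    intro i
    have : Epi π₃ := inferInstance
    rw [← cancel_epi π₃, ← Category.assoc, hs, Category.assoc, hτ, hπ₃ι]
  let ŝ : I → ((U₃ : Scheme.{u}) ⟶ pullback Y.hom U₃.ι) := fun i =>
    pullback.lift (s i) (𝟙 _) (by rw [hsY, Category.id_comp])
  have hŝ1 : ∀ i, ŝ i ≫ pullback.fst Y.hom U₃.ι = s i := fun i => pullback.lift_fst _ _ _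
  have hŝ2 : ∀ i, ŝ i ≫ pullback.snd Y.hom U₃.ι = 𝟙 _ := fun i => pullback.lift_snd _ _ _
  have hYet : Etale (Red.bc U₃.ι Y).hom := by
    change Etale (pullback.snd Y.hom U₃.ι)
    infer_instance
  refine nonempty_iso_const_of_sections (Red.bc U₃.ι Y) I ŝ hŝ2 ?_ ?_
  · -- covering
    intro y
    have hfstinj : Function.Injective (pullback.fst Y.hom U₃.ι) :=
      (pullback.fst Y.hom U₃.ι).isOpenEmbedding.injective
    have hy : Y.hom (pullback.fst Y.hom U₃.ι y) = U₃.ι (pullback.snd Y.hom U₃.ι y) := by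
      rw [← Scheme.Hom.comp_apply, ← Scheme.Hom.comp_apply, pullback.condition]
    obtain ⟨v₃, hv₃⟩ := hπ₃surj.surj (pullback.snd Y.hom U₃.ι y)
    have hv : π ((π ⁻¹ᵁ U₃).ι v₃) = U₃.ι (pullback.snd Y.hom U₃.ι y) := by
      rw [← Scheme.Hom.comp_apply, ← hπ₃ι, Scheme.Hom.comp_apply, hv₃]
    obtain ⟨i, hi⟩ := hτcov (pullback.fst Y.hom U₃.ι y) _ (hy.trans hv.symm)
    refine ⟨i, pullback.snd Y.hom U₃.ι y, hfstinj ?_⟩
    rw [← Scheme.Hom.comp_apply, hŝ1, ← hv₃, ← Scheme.Hom.comp_apply, hs, Scheme.Hom.comp_apply]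
    exact hi
  · -- disjointness
    intro i k hik
    rw [Set.disjoint_left]
    rintro _ ⟨u₁, rfl⟩ ⟨u₂, hu₂⟩
    apply hik
    have h12 : u₂ = u₁ := by
      have := congrArg (pullback.snd Y.hom U₃.ι) hu₂
      rwa [← Scheme.Hom.comp_apply, ← Scheme.Hom.comp_apply, hŝ2, hŝ2] at this
    subst h12
    obtain ⟨t, ht1, ht2⟩ := Scheme.Pullback.exists_preimage_pullback (f := ŝ i) (g := ŝ k)
      u₂ u₂ hu₂.symm
    have hp : pullback.fst (ŝ i) (ŝ k) = pullback.snd (ŝ i) (ŝ k) := by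
      have h1 := pullback.condition (f := ŝ i) (g := ŝ k)
      have h2 := congrArg (· ≫ pullback.snd Y.hom U₃.ι) h1
      simpa [Category.assoc, hŝ2] using h2
    have hp2 : pullback.fst (ŝ i) (ŝ k) ≫ s i = pullback.fst (ŝ i) (ŝ k) ≫ s k := by
      have h1 := pullback.condition (f := ŝ i) (g := ŝ k)
      have h2 := congrArg (· ≫ pullback.fst Y.hom U₃.ι) h1
      simp only [Category.assoc, hŝ1] at h2
      rw [h2, hp]
    obtain ⟨v₃, hv₃⟩ := hπ₃surj.surj u₂
    obtain ⟨t', ht'1, ht'2⟩ := Scheme.Pullback.exists_preimage_pullback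
      (f := pullback.fst (ŝ i) (ŝ k)) (g := π₃) t v₃ (ht1.trans hv₃.symm)
    refine hτinj _ (pullback.snd (pullback.fst (ŝ i) (ŝ k)) π₃ ≫ (π ⁻¹ᵁ U₃).ι) i k ⟨t'⟩ ?_
    rw [Category.assoc, Category.assoc, ← hs, ← hs, ← Category.assoc, ← Category.assoc,
      ← pullback.condition, Category.assoc, Category.assoc, hp2]

end Groth.Agent.Lib.T2H3.TwConstFppf
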