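import Mathlib
import Groth.Agent.Lib.Helper28DepthFlat
import Groth.Agent.Lib.Helper3FlatOpenFP

/-!
# Quasi-finite flat slices (part A): fibres and the one-step cutting lemma
-/

set_option autoImplicit false
universe u

namespace Groth.Agent.Lib.T2H7.QFSlice

open TensorProduct

section Fibre
variable {A : Type u} [CommRing A] (p : Ideal A) [p.IsPrime] {B : Type u} [CommRing B] [Algebra A B]

theorem map_le_ker_includeRight :
    p.map (algebraMap A B) ≤ RingHom.ker
      (Algebra.TensorProduct.includeRight : B →ₐ[A] p.ResidueField ⊗[A] B).toRingHom := by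
  rw [Ideal.map_le_iff_le_comap]
  intro a ha
  rw [Ideal.mem_comap, RingHom.mem_ker]
  show (1 : p.ResidueField) ⊗ₜ[A] (algebraMap A B a) = 0
  rw [Algebra.algebraMap_eq_smul_one, ← TensorProduct.smul_tmul, ← Algebra.algebraMap_eq_smul_one,
    Ideal.algebraMap_residueField_eq_zero.2 ha, TensorProduct.zero_tmul]

theorem smul_one_tmul (b : A) (s : B) :
    (algebraMap A p.ResidueField b) • ((1 : p.ResidueField) ⊗ₜ[A] s) = (1 : p.ResidueField) ⊗ₜ[A] (b • s) := by
  rw [TensorProduct.smul_tmul', smul_eq_mul, mul_one, Algebra.algebraMap_eq_smul_one,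
    TensorProduct.smul_tmul]

/-- `1 ⊗ s = 0` in the fibre iff `b s ∈ pB` for some `b ∉ p`. -/
theorem one_tmul_eq_zero_iff (s : B) :
    (1 : p.ResidueField) ⊗ₜ[A] s = 0 ↔ ∃ b ∉ p, b • s ∈ p.map (algebraMap A B) := by
  constructor
  · intro h
    let _ : Algebra B (p.Fiber B) := Algebra.TensorProduct.rightAlgebra
    have e := Ideal.Fiber.algEquivAux₁ p (S := B)
    have h1 : e (algebraMap B (p.Fiber B) s) = 0 := by
      have : algebraMap B (p.Fiber B) s = (1 : p.ResidueField) ⊗ₜ[A] s := rfl
      rw [this, h, map_zero]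
    rw [e.commutes, IsScalarTower.algebraMap_apply B
        (Localization (Algebra.algebraMapSubmonoid B p.primeCompl)), Ideal.Quotient.algebraMap_eq,
      Ideal.Quotient.eq_zero_iff_mem,
      IsLocalization.mem_map_algebraMap_iff (Algebra.algebraMapSubmonoid B p.primeCompl)] at h1
    obtain ⟨⟨x, m⟩, hxm⟩ := h1
    rw [← map_mul, IsLocalization.eq_iff_exists (Algebra.algebraMapSubmonoid B p.primeCompl)] at hxm
    obtain ⟨c, hc⟩ := hxm
    obtain ⟨b1, hb1, hb1'⟩ := m.2
    obtain ⟨b2, hb2, hb2'⟩ := c.2
    refine ⟨b2 * b1, p.primeCompl.mul_mem hb2 hb1, ?_⟩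
    have : (b2 * b1) • s = (c : B) * (x : B) := by
      rw [← hc, Algebra.smul_def, map_mul, hb1', hb2']
      ring
    rw [this]
    exact Ideal.mul_mem_left _ _ x.2
  · rintro ⟨b, hb, hbs⟩
    have h1 : (1 : p.ResidueField) ⊗ₜ[A] (b • s) = 0 := map_le_ker_includeRight p hbs
    rw [← smul_one_tmul] at h1
    have hunit : algebraMap A p.ResidueField b ≠ 0 := by
      rw [Ne, Ideal.algebraMap_residueField_eq_zero]
      exact hb
    exact (smul_eq_zero.1 h1).resolve_left hunit

end Fibre

section Cut
variable {A : Type u} [CommRing A] (p : Ideal A) [p.IsPrime] {B : Type u} [CommRing B] [Algebra A B]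

open IsLocalRing
open scoped Pointwise

/-- regularity of `f` on `B_Q / p B_Q` from regularity of `1 ⊗ f` on the fibre. -/
theorem isSMulRegular_quotient_atPrime (Q : Ideal B) [Q.IsPrime] [Q.LiesOver p] (f : B)
    (hreg : IsSMulRegular (p.Fiber B) ((1 : p.ResidueField) ⊗ₜ[A] f)) :
    IsSMulRegular (Localization.AtPrime Q ⧸
      ((p.map (algebraMap A B)).map (algebraMap B (Localization.AtPrime Q))))
      (algebraMap B (Localization.AtPrime Q) f) := by
  rw [isSMulRegular_iff_right_eq_zero_of_smul]
  intro x hx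
  obtain ⟨n, rfl⟩ := Ideal.Quotient.mk_surjective x
  obtain ⟨s, t, rfl⟩ := IsLocalization.exists_mk'_eq Q.primeCompl n
  have hx' : Ideal.Quotient.mk ((p.map (algebraMap A B)).map (algebraMap B (Localization.AtPrime Q)))
      (algebraMap B (Localization.AtPrime Q) f * IsLocalization.mk' (Localization.AtPrime Q) s t) = 0 := hx
  rw [Ideal.Quotient.eq_zero_iff_mem, ← IsLocalization.mk'_one (M := Q.primeCompl)
    (Localization.AtPrime Q) f, ← IsLocalization.mk'_mul, one_mul,
    IsLocalization.mk'_mem_map_algebraMap_iff] at hx'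
  obtain ⟨t', ht', hmem⟩ := hx'
  rw [Ideal.Quotient.eq_zero_iff_mem, IsLocalization.mk'_mem_map_algebraMap_iff]
  have h1 : (1 : p.ResidueField) ⊗ₜ[A] (t' * (f * s)) = 0 := map_le_ker_includeRight p hmem
  have h2 : ((1 : p.ResidueField) ⊗ₜ[A] f) • ((1 : p.ResidueField) ⊗ₜ[A] (t' * s)) = 0 := by
    rw [smul_eq_mul, Algebra.TensorProduct.tmul_mul_tmul, one_mul, ← h1]
    congr 1
    ring
  have h3 := hreg.right_eq_zero_of_smul h2
  obtain ⟨b, hb, hbs⟩ := (one_tmul_eq_zero_iff p _).1 h3
  refine ⟨algebraMap A B b * t', Q.primeCompl.mul_mem ?_ ht', ?_⟩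
  · intro hbQ
    apply hb
    have : b ∈ Q.under A := hbQ
    rwa [← Ideal.LiesOver.over (p := p) (P := Q)] at this
  · rw [Algebra.smul_def] at hbs
    rwa [mul_assoc]

/-- The local criterion: cutting a flat local ring by an element regular on the fibre. -/
theorem flat_quotient_atPrime [IsNoetherianRing A] [Algebra.FiniteType A B] (Q : Ideal B) [Q.IsPrime]
    [Q.LiesOver p] (hflat : Module.Flat A (Localization.AtPrime Q)) (f : B)
    (hreg : IsSMulRegular (p.Fiber B) ((1 : p.ResidueField) ⊗ₜ[A] f)) :
    Module.Flat A (Localization.AtPrime Q ⧸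
      Ideal.span {algebraMap B (Localization.AtPrime Q) f}) := by
  let _ : Algebra (Localization.AtPrime p) (Localization.AtPrime Q) :=
    Localization.AtPrime.algebraOfLiesOver p Q
  have hB : IsNoetherianRing B := Algebra.FiniteType.isNoetherianRing A B
  have hloc : IsLocalHom (algebraMap (Localization.AtPrime p) (Localization.AtPrime Q)) := by
    rw [Localization.AtPrime.IsLiesOverAlgebra.algebraMap_eq (p := p) (P := Q)]
    exact Localization.isLocalHom_localRingHom p Q (algebraMap A B) Ideal.LiesOver.over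
  have hflat' : Module.Flat (Localization.AtPrime p) (Localization.AtPrime Q) :=
    (Module.flat_iff_of_isLocalization (Localization.AtPrime p) p.primeCompl _).2 hflat
  have hideal : ((maximalIdeal (Localization.AtPrime p)).map
      (algebraMap (Localization.AtPrime p) (Localization.AtPrime Q)) • ⊤ :
        Submodule (Localization.AtPrime Q) (Localization.AtPrime Q))
      = (p.map (algebraMap A B)).map (algebraMap B (Localization.AtPrime Q)) := by
    rw [smul_eq_mul, Ideal.mul_top, ← Localization.AtPrime.map_eq_maximalIdeal, Ideal.map_map,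
      Ideal.map_map, ← IsScalarTower.algebraMap_eq, ← IsScalarTower.algebraMap_eq]
  have hy : IsSMulRegular (Localization.AtPrime Q ⧸
      ((maximalIdeal (Localization.AtPrime p)).map
        (algebraMap (Localization.AtPrime p) (Localization.AtPrime Q)) • ⊤ :
          Submodule (Localization.AtPrime Q) (Localization.AtPrime Q)))
      (algebraMap B (Localization.AtPrime Q) f) := by
    rw [hideal]
    exact isSMulRegular_quotient_atPrime p Q f hreg
  have h1 : Module.Flat (Localization.AtPrime p)
      (QuotSMulTop (algebraMap B (Localization.AtPrime Q) f) (Localization.AtPrime Q)) :=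
    Groth.Agent.Lib.Helper28.flat_quotSMulTop_of_isSMulRegular_quotient
      (R := Localization.AtPrime p) (S := Localization.AtPrime Q) (N := Localization.AtPrime Q)
      (algebraMap B (Localization.AtPrime Q) f) hy
  have h2 : Module.Flat A
      (QuotSMulTop (algebraMap B (Localization.AtPrime Q) f) (Localization.AtPrime Q)) :=
    (Module.flat_iff_of_isLocalization (Localization.AtPrime p) p.primeCompl _).1 h1
  have heq : ((algebraMap B (Localization.AtPrime Q) f) • ⊤ :
      Submodule (Localization.AtPrime Q) (Localization.AtPrime Q))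
      = Ideal.span {algebraMap B (Localization.AtPrime Q) f} := by
    rw [← Submodule.ideal_span_singleton_smul, smul_eq_mul, Ideal.mul_top]
  exact Module.Flat.of_linearEquiv
    ((Submodule.quotEquivOfEq _ _ heq).restrictScalars A).symm

/-- `B` is flat over `A` at all primes over `p`. -/
def FlatOver (B : Type u) [CommRing B] [Algebra A B] : Prop :=
  ∀ (Q : Ideal B) [Q.IsPrime], Q.LiesOver p → Module.Flat A (Localization.AtPrime Q)

theorem flatOver_quotient [IsNoetherianRing A] [Algebra.FiniteType A B] (hB : FlatOver p B) (f : B)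
    (hreg : IsSMulRegular (p.Fiber B) ((1 : p.ResidueField) ⊗ₜ[A] f)) :
    FlatOver p (B ⧸ Ideal.span {f}) := by
  intro Q' _ hQ'
  let Q : Ideal B := Q'.comap (Ideal.Quotient.mk (Ideal.span {f}))
  have hQp : Q.IsPrime := Ideal.comap_isPrime _ _
  have hQover : Q.LiesOver p := by
    constructor
    have h1 := hQ'.over
    rw [h1]
    ext a
    simp only [Ideal.under, Ideal.mem_comap, Q]
    rfl
  have hflat := flat_quotient_atPrime p Q (hB Q hQover) f hreg
  have hmap : (Ideal.span {f}).map (algebraMap B (Localization.AtPrime Q))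
      = Ideal.span {algebraMap B (Localization.AtPrime Q) f} := by
    rw [Ideal.map_span, Set.image_singleton]
  have hloc : IsLocalization (Algebra.algebraMapSubmonoid (B ⧸ Ideal.span {f}) Q.primeCompl)
      (Localization.AtPrime Q ⧸ (Ideal.span {f}).map (algebraMap B (Localization.AtPrime Q))) :=
    inferInstance
  have hsub : Algebra.algebraMapSubmonoid (B ⧸ Ideal.span {f}) Q.primeCompl = Q'.primeCompl := by
    ext x
    constructor
    · rintro ⟨b, hb, rfl⟩
      exact hb
    · intro hx
      obtain ⟨b, rfl⟩ := Ideal.Quotient.mk_surjective x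
      exact ⟨b, hx, rfl⟩
  rw [hsub] at hloc
  let e := IsLocalization.algEquiv Q'.primeCompl
    (Localization.AtPrime Q ⧸ (Ideal.span {f}).map (algebraMap B (Localization.AtPrime Q)))
    (Localization.AtPrime Q')
  have hflat' : Module.Flat A
      (Localization.AtPrime Q ⧸ (Ideal.span {f}).map (algebraMap B (Localization.AtPrime Q))) := by
    rw [hmap]
    exact hflat
  have hst : IsScalarTower A (B ⧸ Ideal.span {f})
      (Localization.AtPrime Q ⧸ (Ideal.span {f}).map (algebraMap B (Localization.AtPrime Q))) :=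
    IsScalarTower.of_algebraMap_eq fun a => rfl
  exact Module.Flat.of_linearEquiv (e.toLinearEquiv.restrictScalars A).symm

end Cut

section Choose

theorem exists_maximal_notMem_associatedPrimes (κ G : Type u) [Field κ] [CommRing G] [Algebra κ G]
    [Algebra.FiniteType κ G] (hnf : ¬ Module.Finite κ G) :
    ∃ m : Ideal G, m.IsMaximal ∧ m ∉ associatedPrimes G G := by
  classical
  by_contra hcon
  have hall : ∀ m : Ideal G, m.IsMaximal → m ∈ associatedPrimes G G := by
    intro m hm
    by_contra h
    exact hcon ⟨m, hm, h⟩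
  apply hnf
  have hN : IsNoetherianRing G := Algebra.FiniteType.isNoetherianRing κ G
  have hJ : IsJacobsonRing G := isJacobsonRing_of_finiteType (A := κ)
  rw [Module.finite_iff_isArtinianRing, isArtinianRing_iff_isNoetherianRing_krullDimLE_zero]
  refine ⟨hN, Ring.krullDimLE_zero_iff.2 fun P hP => ?_⟩
  have hfin := associatedPrimes.finite G G
  let s : Finset (Ideal G) := hfin.toFinset.filter fun J => P ≤ J ∧ J.IsMaximal
  have hs : (↑s : Set (Ideal G)) = {J : Ideal G | P ≤ J ∧ J.IsMaximal} := by
    ext J
    simp only [s, Finset.coe_filter, Set.Finite.mem_toFinset, Set.mem_ofPred_eq]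
    constructor
    · rintro ⟨_, h⟩
      exact h
    · intro h
      exact ⟨hall J h.2, h⟩
  have hjac : P.jacobson = P := hJ.out' P hP.isRadical
  have hinf : s.inf id ≤ P := by
    rw [Finset.inf_id_eq_sInf, hs]
    exact le_of_eq hjac
  obtain ⟨J, hJs, hJP⟩ := hP.inf_le'.1 hinf
  have hJ' : P ≤ J ∧ J.IsMaximal := by
    have : J ∈ (↑s : Set (Ideal G)) := hJs
    rw [hs] at this
    exact this
  have : J = P := le_antisymm hJP hJ'.1
  rw [← this]
  exact hJ'.2

variable {A : Type u} [CommRing A] (p : Ideal A) [p.IsPrime] {B : Type u} [CommRing B] [Algebra A B]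

theorem exists_regular [Algebra.FiniteType A B]
    (hnf : ¬ Module.Finite p.ResidueField (p.Fiber B)) :
    ∃ f : B, IsSMulRegular (p.Fiber B) ((1 : p.ResidueField) ⊗ₜ[A] f) ∧
      ∃ Q : Ideal B, Q.IsPrime ∧ Q.LiesOver p ∧ f ∈ Q := by
  classical
  have hN : IsNoetherianRing (p.Fiber B) := Algebra.FiniteType.isNoetherianRing p.ResidueField _
  obtain ⟨m, hm, hmass⟩ := exists_maximal_notMem_associatedPrimes p.ResidueField (p.Fiber B) hnf
  have hfin := associatedPrimes.finite (p.Fiber B) (p.Fiber B)
  have havoid : ¬ ((m : Set (p.Fiber B)) ⊆ ⋃ P ∈ (↑hfin.toFinset : Set (Ideal (p.Fiber B))), (id P : Ideal (p.Fiber B))) := by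
    rw [Ideal.subset_union_prime ⊥ ⊥ (fun P hP _ _ => by
      have : P ∈ associatedPrimes (p.Fiber B) (p.Fiber B) := hfin.mem_toFinset.1 hP
      exact this.isPrime)]
    rintro ⟨P, hP, hmP⟩
    have hPass : P ∈ associatedPrimes (p.Fiber B) (p.Fiber B) := hfin.mem_toFinset.1 hP
    have : m = P := hm.eq_of_le hPass.isPrime.ne_top hmP
    exact hmass (this ▸ hPass)
  obtain ⟨x, hxm, hx⟩ := Set.not_subset.1 havoid
  have hxreg : x ∈ nonZeroDivisors (p.Fiber B) := by
    by_contra hxn
    apply hx
    have h1 : x ∈ ((nonZeroDivisors (p.Fiber B) : Set (p.Fiber B)))ᶜ := hxn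
    rw [← biUnion_associatedPrimes_eq_compl_nonZeroDivisors] at h1
    simpa using h1
  obtain ⟨r, hr, f, hf⟩ := Ideal.Fiber.exists_smul_eq_one_tmul p x
  have hrunit : IsUnit (algebraMap A (p.Fiber B) r) := by
    rw [IsScalarTower.algebraMap_apply A p.ResidueField (p.Fiber B)]
    refine IsUnit.map _ (isUnit_iff_ne_zero.2 ?_)
    rw [Ne, Ideal.algebraMap_residueField_eq_zero]
    exact hr
  have hf' : (1 : p.ResidueField) ⊗ₜ[A] f = algebraMap A (p.Fiber B) r * x := by
    rw [← hf, Algebra.smul_def]
  refine ⟨f, ?_, m.comap (Algebra.TensorProduct.includeRight : B →ₐ[A] p.Fiber B).toRingHom,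
    Ideal.comap_isPrime _ _, ?_, ?_⟩
  · rw [hf']
    refine IsSMulRegular.mul (hrunit.isSMulRegular _) ?_
    rw [isSMulRegular_iff_right_eq_zero_of_smul]
    intro z hz
    rw [smul_eq_mul, mul_comm] at hz
    exact (mem_nonZeroDivisors_iff_right.1 hxreg) z hz
  · constructor
    have h1 : m.LiesOver p := inferInstance
    refine h1.over.trans ?_
    ext a
    simp only [Ideal.under, Ideal.mem_comap]
    rw [AlgHom.toRingHom_eq_coe, RingHom.coe_coe, AlgHom.commutes]
  · rw [Ideal.mem_comap]
    show (1 : p.ResidueField) ⊗ₜ[A] f ∈ m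
    rw [hf']
    exact Ideal.mul_mem_left _ _ hxm

theorem exists_finite_fibre_quotient [IsNoetherianRing A] (S : Type u) [CommRing S] [Algebra A S]
    [Algebra.FiniteType A S] :
    ∀ (J : Ideal S) (B : Type u) [CommRing B] [Algebra A B] (π : S →ₐ[A] B),
      Function.Surjective π → RingHom.ker π.toRingHom = J → FlatOver p B →
      (∃ Q : Ideal B, Q.IsPrime ∧ Q.LiesOver p) →
      ∃ (B' : Type u) (_ : CommRing B') (_ : Algebra A B') (π' : S →ₐ[A] B'),
        Function.Surjective π' ∧ FlatOver p B' ∧ (∃ Q : Ideal B', Q.IsPrime ∧ Q.LiesOver p) ∧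
        Module.Finite p.ResidueField (p.Fiber B') := by
  have hS : IsNoetherianRing S := Algebra.FiniteType.isNoetherianRing A S
  intro J
  induction J using IsNoetherian.induction with
  | hgt J ih =>
    intro B _ _ π hπ hker hflat hQ
    by_cases hfin : Module.Finite p.ResidueField (p.Fiber B)
    · exact ⟨B, inferInstance, inferInstance, π, hπ, hflat, hQ, hfin⟩
    have hBft : Algebra.FiniteType A B := Algebra.FiniteType.of_surjective π hπ
    have hnt : Nontrivial (p.Fiber B) := by
      by_contra hcon
      rw [not_nontrivial_iff_subsingleton] at hcon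
      exact hfin inferInstance
    obtain ⟨f, hreg, Q, hQp, hQover, hfQ⟩ := exists_regular p hfin
    let π₁ : S →ₐ[A] (B ⧸ Ideal.span {f}) := (Ideal.Quotient.mkₐ A (Ideal.span {f})).comp π
    have hπ₁ : Function.Surjective π₁ := (Ideal.Quotient.mkₐ_surjective A _).comp hπ
    have hlt : J < RingHom.ker π₁.toRingHom := by
      refine lt_of_le_of_ne ?_ ?_
      · intro x hx
        rw [← hker, RingHom.mem_ker] at hx
        rw [RingHom.mem_ker]
        show Ideal.Quotient.mk _ (π x) = 0
        have : π x = 0 := hx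
        rw [this, map_zero]
      · intro heq
        obtain ⟨f', rfl⟩ := hπ f
        have h1 : f' ∈ RingHom.ker π₁.toRingHom := by
          rw [RingHom.mem_ker]
          show Ideal.Quotient.mk _ (π f') = 0
          rw [Ideal.Quotient.eq_zero_iff_mem]
          exact Ideal.subset_span rfl
        rw [← heq, ← hker, RingHom.mem_ker] at h1
        have h2 : π f' = 0 := h1
        rw [h2, TensorProduct.tmul_zero] at hreg
        have := hreg.right_eq_zero_of_smul (x := (1 : p.Fiber B)) (zero_smul _ _)
        exact one_ne_zero this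
    refine ih (RingHom.ker π₁.toRingHom) hlt (B ⧸ Ideal.span {f}) π₁ hπ₁ rfl
      (flatOver_quotient p hflat f hreg) ?_
    have hle : Ideal.span {f} ≤ Q := by
      rw [Ideal.span_le]
      intro x hx
      rw [Set.mem_singleton_iff] at hx
      rw [hx]
      exact hfQ
    refine ⟨Q.map (Ideal.Quotient.mk (Ideal.span {f})), ?_, ?_⟩
    · refine Ideal.map_isPrime_of_surjective Ideal.Quotient.mk_surjective ?_
      rw [Ideal.mk_ker]
      exact hle
    · constructor
      refine hQover.over.trans ?_
      ext a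
      simp only [Ideal.under, Ideal.mem_comap]
      rw [IsScalarTower.algebraMap_apply A B (B ⧸ Ideal.span {f}), Ideal.Quotient.algebraMap_eq,
        Ideal.mem_quotient_iff_mem hle]

end Choose

end Groth.Agent.Lib.T2H7.QFSlice
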