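import Mathlib
import Groth.Agent.Lib.T2H7QFSliceA

/-!
# Quasi-finite flat slices (part B): the ending step and the Noetherian theorem
-/

set_option autoImplicit false
universe u

namespace Groth.Agent.Lib.T2H7.QFSlice

open TensorProduct

section Ending
variable {A : Type u} [CommRing A] (p : Ideal A) [p.IsPrime] {B : Type u} [CommRing B] [Algebra A B]

theorem flat_localizedModule_iff (Q : Ideal B) [Q.IsPrime] :
    Module.Flat A (LocalizedModule Q.primeCompl B) ↔ Module.Flat A (Localization.AtPrime Q) := by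
  have hloc : IsLocalizedModule Q.primeCompl (Algebra.linearMap B (Localization.AtPrime Q)) :=
    (isLocalizedModule_iff_isLocalization).2 inferInstance
  let e : LocalizedModule Q.primeCompl B ≃ₗ[A] Localization.AtPrime Q :=
    (IsLocalizedModule.iso Q.primeCompl (Algebra.linearMap B (Localization.AtPrime Q))).restrictScalars A
  exact ⟨fun h => Module.Flat.of_linearEquiv e.symm, fun h => Module.Flat.of_linearEquiv e⟩

/-- flatness of a basic open inside the flat locus -/
theorem flat_away_of_forall (g : B)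
    (h : ∀ (Q : Ideal B) [Q.IsPrime], g ∉ Q → Module.Flat A (Localization.AtPrime Q)) :
    Module.Flat A (Localization.Away g) := by
  have hloc : ∀ (P : Ideal (Localization.Away g)) [P.IsMaximal],
      IsLocalizedModule.AtPrime P
        (Algebra.linearMap (Localization.Away g) (Localization.AtPrime P)) := fun P _ =>
    (isLocalizedModule_iff_isLocalization).2 inferInstance
  refine Module.flat_of_isLocalized_maximal (Localization.Away g) (Localization.Away g)
    (fun P _ => Localization.AtPrime P)
    (fun P _ => Algebra.linearMap (Localization.Away g) (Localization.AtPrime P)) ?_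
  intro P hP
  have hgP : g ∉ P.comap (algebraMap B (Localization.Away g)) := by
    intro hg
    rw [Ideal.mem_comap] at hg
    exact hP.ne_top (Ideal.eq_top_of_isUnit_mem _ hg (IsLocalization.Away.algebraMap_isUnit g))
  have h1 := h (P.comap (algebraMap B (Localization.Away g))) hgP
  let e := IsLocalization.localizationLocalizationAtPrimeIsoLocalization (Submonoid.powers g) P
  exact Module.Flat.of_linearEquiv (e.toLinearEquiv.restrictScalars A).symm

theorem quasiFiniteAt_of_finite_fibre [Algebra.FiniteType A B]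
    (hfin : Module.Finite p.ResidueField (p.Fiber B)) (Q : Ideal B) [Q.IsPrime] [hQ : Q.LiesOver p] :
    Algebra.QuasiFiniteAt A Q := by
  let e := PrimeSpectrum.primesOverOrderIsoFiber A B p
  let Qb : PrimeSpectrum (p.Fiber B) := e ⟨Q, ⟨inferInstance, hQ⟩⟩
  have hQb : Qb.asIdeal.comap
      (Algebra.TensorProduct.includeRight : B →ₐ[A] p.Fiber B).toRingHom = Q := by
    have h1 := PrimeSpectrum.coe_primesOverOrderIsoFiber_symm_apply (R := A) (S := B) (p := p) Qb
    have h2 : e.symm Qb = ⟨Q, ⟨inferInstance, hQ⟩⟩ := e.symm_apply_apply _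
    rw [h2] at h1
    exact h1.symm
  have : Algebra.QuasiFiniteAt p.ResidueField Qb.asIdeal := inferInstance
  exact Algebra.QuasiFiniteAt.of_quasiFiniteAt_residueField p Q Qb.asIdeal hQb

set_option backward.isDefEq.respectTransparency false in
theorem exists_quasiFinite_flat_localization [IsNoetherianRing A] [Algebra.FiniteType A B]
    (hflat : FlatOver p B) (hfin : Module.Finite p.ResidueField (p.Fiber B))
    (Q : Ideal B) [Q.IsPrime] [hQ : Q.LiesOver p] :
    ∃ (T : Type u) (_ : CommRing T) (_ : Algebra A T) (_ : B →ₐ[A] T),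
      Algebra.QuasiFinite A T ∧ Algebra.FiniteType A T ∧ Module.Flat A T ∧
      ∃ Q' : Ideal T, Q'.IsPrime ∧ Q'.LiesOver p := by
  have hFP : Algebra.FinitePresentation A B := Algebra.FinitePresentation.of_finiteType.1 inferInstance
  -- the flat locus
  have hopen := Groth.Agent.Lib.Helper3.FlatOpen.isOpen_flatLocus_of_finitePresentation
    (R := A) (S := B) (M := B)
  have hQU : (⟨Q, inferInstance⟩ : PrimeSpectrum B) ∈
      {q : PrimeSpectrum B | Module.Flat A (LocalizedModule q.asIdeal.primeCompl B)} :=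
    (flat_localizedModule_iff Q).2 (hflat Q hQ)
  obtain ⟨_, ⟨g, rfl⟩, hQg, hgU⟩ :=
    PrimeSpectrum.isTopologicalBasis_basic_opens.exists_subset_of_mem_open hQU hopen
  have hgQ : g ∉ Q := hQg
  have hflat₁ : Module.Flat A (Localization.Away g) := by
    refine flat_away_of_forall g fun Q₀ _ hg => ?_
    exact (flat_localizedModule_iff Q₀).1 (hgU (show (⟨Q₀, inferInstance⟩ : PrimeSpectrum B) ∈ _ from hg))
  -- the prime of the localization
  have hdisj : Disjoint (Submonoid.powers g : Set B) (Q : Set B) := by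
    rw [Set.disjoint_left]
    rintro _ ⟨n, rfl⟩ hn
    exact hgQ (Ideal.IsPrime.mem_of_pow_mem inferInstance n hn)
  let Q₁ : Ideal (Localization.Away g) := Q.map (algebraMap B (Localization.Away g))
  have hQ₁p : Q₁.IsPrime :=
    IsLocalization.isPrime_of_isPrime_disjoint (Submonoid.powers g) _ Q inferInstance hdisj
  have hQ₁c : Q₁.comap (algebraMap B (Localization.Away g)) = Q :=
    IsLocalization.under_map_of_isPrime_disjoint (Submonoid.powers g) _ inferInstance hdisj
  have hQ₁Q : Q₁.LiesOver Q := ⟨hQ₁c.symm⟩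
  have hQF : Algebra.QuasiFiniteAt A Q := quasiFiniteAt_of_finite_fibre p hfin Q
  have hQF₁ : Algebra.QuasiFiniteAt A Q₁ :=
    Algebra.QuasiFiniteAt.of_surjectiveOnStalks_of_liesOver Q
      (RingHom.surjectiveOnStalks_of_isLocalization (Submonoid.powers g) _) Q₁
  obtain ⟨S', hS', r, hrp, H⟩ :=
    Algebra.QuasiFiniteAt.exists_fg_and_exists_notMem_and_awayMap_bijective (R := A) Q₁
  have hfinS' : Module.Finite A S' := ⟨(Submodule.fg_top _).mpr hS'⟩
  have hqf1 : Algebra.QuasiFinite A (Localization.Away r) := .trans _ S' _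
  let φ : Localization.Away r →ₐ[A] Localization.Away r.1 := Localization.awayMapₐ S'.val r
  have hφ : Function.Surjective φ := H.2
  have hqf2 : Algebra.QuasiFinite A (Localization.Away r.1) :=
    Algebra.QuasiFinite.of_surjective_algHom φ hφ
  have hflat₂ : Module.Flat (Localization.Away g) (Localization.Away r.1) :=
    IsLocalization.flat _ (Submonoid.powers r.1)
  have hflat₃ : Module.Flat A (Localization.Away r.1) :=
    Module.Flat.trans A (Localization.Away g) (Localization.Away r.1)
  have hdisj₂ : Disjoint (Submonoid.powers r.1 : Set (Localization.Away g)) (Q₁ : Set _) := by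
    rw [Set.disjoint_left]
    rintro _ ⟨n, rfl⟩ hn
    exact hrp (Ideal.IsPrime.mem_of_pow_mem hQ₁p n hn)
  let Q₂ : Ideal (Localization.Away r.1) := Q₁.map (algebraMap _ (Localization.Away r.1))
  have hQ₂p : Q₂.IsPrime :=
    IsLocalization.isPrime_of_isPrime_disjoint (Submonoid.powers r.1) _ Q₁ hQ₁p hdisj₂
  have hQ₂c : Q₂.comap (algebraMap (Localization.Away g) (Localization.Away r.1)) = Q₁ :=
    IsLocalization.under_map_of_isPrime_disjoint (Submonoid.powers r.1) _ hQ₁p hdisj₂
  refine ⟨Localization.Away r.1, inferInstance, inferInstance,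
    (IsScalarTower.toAlgHom A (Localization.Away g) (Localization.Away r.1)).comp
      (IsScalarTower.toAlgHom A B (Localization.Away g)), hqf2, ?_, hflat₃, Q₂, hQ₂p, ?_⟩
  · have h1 : Algebra.FiniteType A (Localization.Away g) :=
      Algebra.FiniteType.trans (S := B) inferInstance (IsLocalization.finiteType_of_monoid_fg (Submonoid.powers g) _)
    exact Algebra.FiniteType.trans (S := Localization.Away g) h1
      (IsLocalization.finiteType_of_monoid_fg (Submonoid.powers r.1) _)
  · constructor
    refine hQ.over.trans ?_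
    rw [← hQ₁c, ← hQ₂c]
    ext a
    simp only [Ideal.under, Ideal.mem_comap]
    rw [← IsScalarTower.algebraMap_apply, ← IsScalarTower.algebraMap_apply]

end Ending

section Prod

theorem flat_prod (R : Type u) [CommRing R] (M N : Type u) [AddCommGroup M] [Module R M]
    [AddCommGroup N] [Module R N] [Module.Flat R M] [Module.Flat R N] : Module.Flat R (M × N) := by
  rw [Module.Flat.iff_lTensor_injectiveₛ]
  intro P _ _ Q
  have hM := Module.Flat.lTensor_preserves_injective_linearMap (M := M) Q.subtype
    Subtype.val_injective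
  have hN := Module.Flat.lTensor_preserves_injective_linearMap (M := N) Q.subtype
    Subtype.val_injective
  have hcomm : (TensorProduct.prodLeft R R M N P).toLinearMap ∘ₗ (Q.subtype.lTensor (M × N))
      = (LinearMap.prodMap (Q.subtype.lTensor M) (Q.subtype.lTensor N)) ∘ₗ
        (TensorProduct.prodLeft R R M N Q).toLinearMap := by
    apply TensorProduct.ext'
    rintro ⟨m, n⟩ q
    simp
  intro x y hxy
  have h1 := LinearMap.congr_fun hcomm x
  have h2 := LinearMap.congr_fun hcomm y
  simp only [LinearMap.comp_apply, LinearEquiv.coe_coe] at h1 h2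
  rw [hxy] at h1
  have h3 := h1.symm.trans h2
  apply (TensorProduct.prodLeft R R M N Q).injective
  exact Prod.ext (hM (congrArg Prod.fst h3)) (hN (congrArg Prod.snd h3))

theorem quasiFinite_prod (A : Type u) [CommRing A] (T₁ T₂ : Type u) [CommRing T₁] [CommRing T₂]
    [Algebra A T₁] [Algebra A T₂] [Algebra.QuasiFinite A T₁] [Algebra.QuasiFinite A T₂] :
    Algebra.QuasiFinite A (T₁ × T₂) := by
  constructor
  intro P _
  exact Module.Finite.equiv (TensorProduct.prodRight A P.ResidueField P.ResidueField T₁ T₂).symm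

end Prod

section Noeth
variable {A : Type u} [CommRing A] [IsNoetherianRing A] (S : Type u) [CommRing S] [Algebra A S]
  [Algebra.FiniteType A S] [Module.Flat A S]

theorem exists_slice_at (p : Ideal A) [p.IsPrime] (Q : Ideal S) [Q.IsPrime] [hQ : Q.LiesOver p] :
    ∃ (T : Type u) (_ : CommRing T) (_ : Algebra A T) (_ : S →ₐ[A] T),
      Algebra.QuasiFinite A T ∧ Algebra.FiniteType A T ∧ Module.Flat A T ∧
      ∃ Q' : Ideal T, Q'.IsPrime ∧ Q'.LiesOver p := by
  have hflat : FlatOver p S := fun Q' _ _ => Module.Flat.trans A S (Localization.AtPrime Q')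
  obtain ⟨B', _, _, π', hπ', hflat', ⟨Q₁, hQ₁p, hQ₁⟩, hfin⟩ :=
    exists_finite_fibre_quotient p S ⊥ S (AlgHom.id A S) Function.surjective_id
      (by ext x; simp [RingHom.mem_ker]) hflat ⟨Q, inferInstance, hQ⟩
  have hft : Algebra.FiniteType A B' := Algebra.FiniteType.of_surjective π' hπ'
  obtain ⟨T, _, _, φ, h1, h2, h3, h4⟩ := exists_quasiFinite_flat_localization p hflat' hfin Q₁
  exact ⟨T, inferInstance, inferInstance, φ.comp π', h1, h2, h3, h4⟩

/-- `W` is dominated by a quasi-finite flat `A`-algebra under `S`. -/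
def Good (W : Set (PrimeSpectrum A)) : Prop :=
  ∃ (T : Type u) (_ : CommRing T) (_ : Algebra A T) (_ : S →ₐ[A] T),
    Algebra.QuasiFinite A T ∧ Algebra.FiniteType A T ∧ Module.Flat A T ∧
    W ⊆ Set.range (PrimeSpectrum.comap (algebraMap A T))

omit [IsNoetherianRing A] [Algebra.FiniteType A S] [Module.Flat A S] in
theorem good_mono {U V : Set (PrimeSpectrum A)} (hU : Good S U) (hVU : V ⊆ U) : Good S V := by
  obtain ⟨T, i1, i2, φ, h1, h2, h3, h4⟩ := hU
  exact ⟨T, i1, i2, φ, h1, h2, h3, hVU.trans h4⟩

omit [IsNoetherianRing A] [Algebra.FiniteType A S] [Module.Flat A S] in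
theorem good_empty : Good S (∅ : Set (PrimeSpectrum A)) := by
  have hsub : Subsingleton (S ⧸ (⊤ : Ideal S)) := Ideal.Quotient.subsingleton_iff.2 rfl
  refine ⟨S ⧸ (⊤ : Ideal S), inferInstance, inferInstance, Ideal.Quotient.mkₐ A ⊤, ?_, ?_, ?_,
    Set.empty_subset _⟩
  · constructor
    intro P _
    have : Subsingleton (P.Fiber (S ⧸ (⊤ : Ideal S))) := inferInstance
    infer_instance
  · exact Algebra.FiniteType.of_surjective (Algebra.ofId A _) (fun x => ⟨0, Subsingleton.elim _ _⟩)
  · infer_instance

omit [IsNoetherianRing A] [Algebra.FiniteType A S] [Module.Flat A S] in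
theorem good_union {U V : Set (PrimeSpectrum A)} (hU : Good S U) (hV : Good S V) :
    Good S (U ∪ V) := by
  obtain ⟨T₁, _, _, φ₁, h1, h2, h3, h4⟩ := hU
  obtain ⟨T₂, _, _, φ₂, k1, k2, k3, k4⟩ := hV
  refine ⟨T₁ × T₂, inferInstance, inferInstance, φ₁.prod φ₂, quasiFinite_prod A T₁ T₂,
    inferInstance, flat_prod A T₁ T₂, ?_⟩
  rintro P (hP | hP)
  · obtain ⟨q, rfl⟩ := h4 hP
    refine ⟨q.comap (RingHom.fst T₁ T₂), ?_⟩
    rw [← PrimeSpectrum.comap_comp_apply]
    rfl
  · obtain ⟨q, rfl⟩ := k4 hP
    refine ⟨q.comap (RingHom.snd T₁ T₂), ?_⟩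
    rw [← PrimeSpectrum.comap_comp_apply]
    rfl

theorem exists_slice_cover :
    Good S (Set.range (PrimeSpectrum.comap (algebraMap A S))) := by
  classical
  have hpt : ∀ P : PrimeSpectrum A, P ∈ Set.range (PrimeSpectrum.comap (algebraMap A S)) →
      ∃ U : Set (PrimeSpectrum A), IsOpen U ∧ P ∈ U ∧ Good S U := by
    rintro _ ⟨Q, rfl⟩
    have hover : Q.asIdeal.LiesOver (Q.asIdeal.comap (algebraMap A S)) := ⟨rfl⟩
    obtain ⟨T, _, _, φ, h1, h2, h3, Q', hQ'p, hQ'⟩ :=
      exists_slice_at S (Q.asIdeal.comap (algebraMap A S)) Q.asIdeal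
    have hfp : Algebra.FinitePresentation A T := Algebra.FinitePresentation.of_finiteType.1 h2
    refine ⟨Set.range (PrimeSpectrum.comap (algebraMap A T)),
      (PrimeSpectrum.isOpenMap_comap_of_hasGoingDown_of_finitePresentation).isOpen_range,
      ⟨⟨Q', hQ'p⟩, ?_⟩, T, inferInstance, inferInstance, φ, h1, h2, h3, le_rfl⟩
    ext1
    exact hQ'.over.symm
  choose! U hUo hPU hUgood using hpt
  have hcompact : IsCompact (Set.range (PrimeSpectrum.comap (algebraMap A S))) :=
    TopologicalSpace.NoetherianSpace.isCompact _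
  obtain ⟨t, ht⟩ := hcompact.elim_finite_subcover
    (fun P : Set.range (PrimeSpectrum.comap (algebraMap A S)) => U P.1)
    (fun P => hUo P.1 P.2) (fun P hP => Set.mem_iUnion.2 ⟨⟨P, hP⟩, hPU P hP⟩)
  have hall : ∀ t : Finset (Set.range (PrimeSpectrum.comap (algebraMap A S))),
      Good S (⋃ i ∈ t, U i.1) := by
    intro t
    induction t using Finset.induction_on with
    | empty => simpa using good_empty S
    | insert a t _ ih =>
      rw [Finset.set_biUnion_insert]
      exact good_union S (hUgood a.1 a.2) ih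
  exact good_mono S (hall t) ht

end Noeth

end Groth.Agent.Lib.T2H7.QFSlice
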