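import Mathlib
import Groth.Prelude.Def_TwC
import Groth.Agent.Lib.T2H3TwConstFppfB
import Groth.Agent.Lib.Helper20EtSplitPI
import Groth.Agent.Lib.T2H7QFSliceB

/-!
# fppf-twisted constant schemes over a locally noetherian base, part 3

The geometric reduction: an fppf covering of a locally noetherian scheme is refined, étale-locally
around a point, by a finite locally free morphism which is radicial over the point.
-/

set_option autoImplicit false
set_option linter.style.haveILetI false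
set_option linter.unusedSectionVars false
universe u

namespace Groth.Agent.Lib.T2H3.TwConstFppf

open CategoryTheory MonoidalCategory CartesianMonoidalCategory AlgebraicGeometry Limits
open Groth.Agent.Lib.T2H3.ConstSch Groth.Agent.Lib.T2H3.TwConst Groth.Agent.Lib.T2H3.TwConstConn

theorem exists_affine_nhd (S : Scheme.{u}) (s : S) :
    ∃ (R : CommRingCat.{u}) (ι : Spec R ⟶ S), IsOpenImmersion ι ∧ s ∈ Set.range ι :=
  ⟨_, S.affineOpenCover.f (S.affineOpenCover.openCover.idx s), inferInstance,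
    S.affineOpenCover.openCover.covers s⟩

/-- a flat locally finitely presented morphism to a locally noetherian scheme admits, through any
point, a quasi-finite flat slice. -/
theorem exists_qf_slice {S S' : Scheme.{u}} [IsLocallyNoetherian S] (f : S' ⟶ S) [Flat f]
    [LocallyOfFinitePresentation f] (s' : S') :
    ∃ (T : Scheme.{u}) (h₁ : T ⟶ S') (t : T), Flat (h₁ ≫ f) ∧ LocallyOfFiniteType (h₁ ≫ f) ∧
      (h₁ ≫ f) t = f s' ∧ (h₁ ≫ f).QuasiFiniteAt t := by
  obtain ⟨R, ι, hι, s₀, hs₀⟩ := exists_affine_nhd S (f s')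
  have hRn : IsNoetherianRing R :=
    isLocallyNoetherian_Spec.mp (isLocallyNoetherian_of_isOpenImmersion ι)
  obtain ⟨p, hp1, hp2⟩ := Scheme.Pullback.exists_preimage_pullback (f := f) (g := ι) s' s₀
    hs₀.symm
  obtain ⟨B, κ, hκ, b₀, hb₀⟩ := exists_affine_nhd (pullback f ι) p
  obtain ⟨φ, hφ⟩ : ∃ φ : R ⟶ B, Spec.map φ = κ ≫ pullback.snd f ι :=
    ⟨Spec.preimage _, Spec.map_preimage _⟩
  have hφflat : Flat (Spec.map φ) := by rw [hφ]; infer_instance
  have hφlft : LocallyOfFiniteType (Spec.map φ) := by rw [hφ]; infer_instance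
  algebraize [φ.hom]
  have hflat : Module.Flat R B :=
    RingHom.flat_algebraMap_iff.mp ((HasRingHomProperty.Spec_iff (P := @Flat)).mp hφflat)
  have hft : Algebra.FiniteType R B :=
    RingHom.finiteType_algebraMap.mp
      ((HasRingHomProperty.Spec_iff (P := @LocallyOfFiniteType)).mp hφlft)
  let P : Ideal R := (Spec.map φ b₀).asIdeal
  have hPQ : b₀.asIdeal.LiesOver P := ⟨rfl⟩
  obtain ⟨T', _, _, α, hqf, hft', hflat', Q', hQ', hQ'P⟩ :=
    Groth.Agent.Lib.T2H7.QFSlice.exists_slice_at (A := R) B P b₀.asIdeal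
  let ρ : Spec (.of T') ⟶ Spec R := Spec.map (CommRingCat.ofHom (algebraMap R T'))
  let h₁ : Spec (.of T') ⟶ S' :=
    Spec.map (CommRingCat.ofHom α.toRingHom) ≫ κ ≫ pullback.fst f ι
  have hcomm : h₁ ≫ f = ρ ≫ ι := by
    have h1 : Spec.map (CommRingCat.ofHom α.toRingHom) ≫ Spec.map φ = ρ := by
      rw [← Spec.map_comp]
      congr 1
      ext x
      exact α.commutes x
    change (Spec.map (CommRingCat.ofHom α.toRingHom) ≫ κ ≫ pullback.fst f ι) ≫ f = ρ ≫ ι
    rw [← h1, hφ]
    simp only [Category.assoc, pullback.condition]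
  have hρflat : Flat ρ :=
    (HasRingHomProperty.Spec_iff (P := @Flat)).mpr (RingHom.flat_algebraMap_iff.mpr hflat')
  have hρlft : LocallyOfFiniteType ρ :=
    (HasRingHomProperty.Spec_iff (P := @LocallyOfFiniteType)).mpr
      (RingHom.finiteType_algebraMap.mpr hft')
  have hρqf : LocallyQuasiFinite ρ :=
    (HasRingHomProperty.Spec_iff (P := @LocallyQuasiFinite)).mpr
      (RingHom.quasiFinite_algebraMap.mpr hqf)
  let t : Spec (.of T') := ⟨Q', hQ'⟩
  have hρt : ρ t = Spec.map φ b₀ := by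
    apply PrimeSpectrum.ext
    exact hQ'P.over.symm
  refine ⟨Spec (.of T'), h₁, t, ?_, ?_, ?_, ?_⟩
  · rw [hcomm]; infer_instance
  · rw [hcomm]; infer_instance
  · rw [hcomm, Scheme.Hom.comp_apply, hρt, hφ, Scheme.Hom.comp_apply, hb₀, hp2, hs₀]
  · rw [hcomm]
    exact Scheme.Hom.quasiFiniteAt _ _

theorem isPurelyInseparable_of_bijective {K L : Type*} [Field K] [Field L] (φ : K →+* L)
    (hφ : Function.Bijective φ) : φ.IsPurelyInseparable := by
  have h : Groth.Agent.Lib.Helper20.ResFld.PInsep φ := by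
    intro y
    obtain ⟨x, rfl⟩ := hφ.2 y
    exact ⟨0, x, by simp⟩
  exact (Groth.Agent.Lib.Helper20.ResFld.pInsep_iff φ).mp h

/-- **fppf-twisted constant schemes over a locally noetherian base are quasi-isotrivial.** -/
theorem isTwConst_etale_of_fppf {S : Scheme.{u}} [IsLocallyNoetherian S] (X : Over S)
    (hX : TwC.IsTwConst TwC.Topology.fppf X) : TwC.IsTwConst TwC.Topology.etale X := by
  intro s
  obtain ⟨S', f, hfflat, hflfp, ⟨s', hs'⟩, I, ⟨e⟩⟩ := hX s
  obtain ⟨T, h₁, t, hrflat, hrlft, hrt, hrqf⟩ := exists_qf_slice f s'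
  have hrt' : (h₁ ≫ f) t = s := hrt.trans hs'
  obtain ⟨U, g, u₀, hg, hgu, -, H⟩ :=
    Groth.Agent.Lib.Helper20.EtSections.exists_etale_split (h₁ ≫ f) s {t}
      (Set.finite_singleton t) (by rintro _ rfl; exact ⟨hrt', hrqf⟩)
  obtain ⟨w, hw1, hw2⟩ := Scheme.Pullback.exists_preimage_pullback (f := h₁ ≫ f) (g := g) t u₀
    (hrt'.trans hgu.symm)
  obtain ⟨⟨V, hwV, hVfin, hVuniq⟩, hpi, -⟩ := H w hw2 (by rw [hw1]; rfl)
  have hUn : IsLocallyNoetherian U := LocallyOfFiniteType.isLocallyNoetherian g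
  let π : (V : Scheme.{u}) ⟶ U := V.ι ≫ pullback.snd (h₁ ≫ f) g
  have hπfin : IsFinite π := hVfin
  have hπflat : Flat π := inferInstance
  have hπlft : LocallyOfFiniteType π := inferInstance
  have hπlfp : LocallyOfFinitePresentation π := inferInstance
  let h : (V : Scheme.{u}) ⟶ S' := V.ι ≫ pullback.fst (h₁ ≫ f) g ≫ h₁
  have comm : h ≫ f = π ≫ g := by
    change (V.ι ≫ pullback.fst (h₁ ≫ f) g ≫ h₁) ≫ f = (V.ι ≫ pullback.snd (h₁ ≫ f) g) ≫ g
    simp only [Category.assoc]
    rw [← pullback.condition]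
  obtain ⟨θ⟩ := nonempty_bc_bc_iso_const f g π h comm X I e
  have hXet : Etale X.hom := etale_of_isTwConst_fppf X hX
  have hXsep : IsSeparated X.hom := isSeparated_of_isTwConst_fppf X hX
  have hYet : Etale (Red.bc g X).hom := by
    change Etale (pullback.snd X.hom g)
    infer_instance
  have hYsep : IsSeparated (Red.bc g X).hom := by
    change IsSeparated (pullback.snd X.hom g)
    infer_instance
  have hu : u₀ ∈ Set.range π := ⟨⟨w, hwV⟩, hw2⟩
  have huniq : ∀ v : (V : Scheme.{u}), π v = u₀ → v = ⟨w, hwV⟩ := by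
    intro v hv
    apply Subtype.ext
    exact hVuniq v.1 v.2 hv
  have hpiV : ∀ v : (V : Scheme.{u}), π v = u₀ →
      (π.residueFieldMap v).hom.IsPurelyInseparable := by
    intro v hv
    obtain rfl := huniq v hv
    have h1 : π.residueFieldMap ⟨w, hwV⟩ =
        (pullback.snd (h₁ ≫ f) g).residueFieldMap w ≫ V.ι.residueFieldMap ⟨w, hwV⟩ :=
      Scheme.residueFieldMap_comp V.ι (pullback.snd (h₁ ≫ f) g) ⟨w, hwV⟩
    rw [h1]
    change ((V.ι.residueFieldMap ⟨w, hwV⟩).hom.comp
      ((pullback.snd (h₁ ≫ f) g).residueFieldMap w).hom).IsPurelyInseparable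
    refine RingHom.IsPurelyInseparable.comp
      ((Groth.Agent.Lib.Helper20.ResFld.pInsep_iff _).mp hpi) ?_
    refine isPurelyInseparable_of_bijective _ ?_
    exact ConcreteCategory.bijective_of_isIso (V.ι.residueFieldMap ⟨w, hwV⟩)
  have hdiag : ∀ z : ↥(pullback π π), π (pullback.fst π π z) = u₀ →
      z ∈ Set.range (pullback.diagonal π) := by
    intro z hz
    let K : Type u := (pullback π π).residueField z
    let ζ : Spec (.of K) ⟶ pullback π π := (pullback π π).fromSpecResidueField z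
    have hζ : ζ (IsLocalRing.closedPoint K) = z := Scheme.fromSpecResidueField_apply _ _
    have hz2 : π (pullback.snd π π z) = u₀ := by
      rw [← hz, ← Scheme.Hom.comp_apply, ← Scheme.Hom.comp_apply, pullback.condition]
    have h12 : pullback.fst π π z = pullback.snd π π z := (huniq _ hz).trans (huniq _ hz2).symm
    have key : ζ ≫ pullback.fst π π = ζ ≫ pullback.snd π π := by
      refine eq_of_comp_eq_of_isPurelyInseparable π K _ _ ?_ ?_ ?_
      · rw [Scheme.Hom.comp_apply, Scheme.Hom.comp_apply, hζ, h12]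
      · apply hpiV
        have h3 : (ζ ≫ pullback.fst π π) (IsLocalRing.closedPoint K) = pullback.fst π π z := by
          rw [Scheme.Hom.comp_apply, hζ]
        rw [h3]
        exact hz
      · rw [Category.assoc, Category.assoc, pullback.condition]
    have h5 : ζ = (ζ ≫ pullback.fst π π) ≫ pullback.diagonal π := by
      apply pullback.hom_ext
      · rw [Category.assoc, pullback.diagonal_fst, Category.comp_id]
      · rw [Category.assoc, pullback.diagonal_snd, Category.comp_id, key]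
    refine ⟨(ζ ≫ pullback.fst π π) (IsLocalRing.closedPoint K), ?_⟩
    rw [← Scheme.Hom.comp_apply, ← h5, hζ]
  obtain ⟨U₃, hu₃, ⟨θ₃⟩⟩ := exists_nhd_const (Red.bc g X) π u₀ hu hdiag I θ
  refine ⟨U₃, U₃.ι ≫ g, inferInstance, ⟨⟨u₀, hu₃⟩, hgu⟩, I, ⟨?_⟩⟩
  exact ((Over.pullbackComp U₃.ι g).app X) ≪≫ θ₃

end Groth.Agent.Lib.T2H3.TwConstFppf
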