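import Mathlib
import Groth.Prelude.Def_TwC
import Groth.Agent.Lib.T2H3TwConst
import Groth.Agent.Lib.T2H3TwConstFppfB
import Groth.Agent.Lib.T2H3GenericTorsor
import Groth.Agent.Lib.Helper26FinPartSch
import Groth.Agent.Lib.Helper26HenselEtale
import Groth.Agent.S17447

/-!
# Quasi-isotrivial twisted constant schemes over a henselian local ring
-/

set_option autoImplicit false
set_option linter.style.haveILetI false
set_option linter.unusedSectionVars false
universe u

namespace Groth.Agent.Lib.T2H3.TwConstHens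

open CategoryTheory MonoidalCategory CartesianMonoidalCategory AlgebraicGeometry Limits
open Groth.Agent.Lib.T2H3.ConstSch Groth.Agent.Lib.T2H3.TwConst

/-! ### algebra: the local factor of a finite algebra over a henselian local ring -/

section Alg

variable (R : Type u) [CommRing R] [HenselianLocalRing R] (B : Type u) [CommRing B] [Algebra R B]
  [Module.Finite R B]

theorem map_maximalIdeal_le_of_isMaximal (n : Ideal B) [n.IsMaximal] :
    (IsLocalRing.maximalIdeal R).map (algebraMap R B) ≤ n := by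
  rw [Ideal.map_le_iff_le_comap]
  have h := Ideal.isMaximal_comap_of_isIntegral_of_isMaximal (R := R) n
  rw [IsLocalRing.eq_maximalIdeal h]

theorem isMaximal_of_map_maximalIdeal_le (n : Ideal B) [n.IsPrime]
    (h : (IsLocalRing.maximalIdeal R).map (algebraMap R B) ≤ n) : n.IsMaximal := by
  apply Ideal.isMaximal_of_isIntegral_of_isMaximal_comap (R := R)
  rw [Ideal.map_le_iff_le_comap] at h
  have hne : n.comap (algebraMap R B) ≠ ⊤ := (Ideal.comap_isPrime _ n).ne_top
  have := le_antisymm (IsLocalRing.le_maximalIdeal hne) h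
  rw [this]
  infer_instance

theorem finite_zeroLocus_map_maximalIdeal :
    (PrimeSpectrum.zeroLocus
      ((IsLocalRing.maximalIdeal R).map (algebraMap R B) : Set B)).Finite := by
  refine (Algebra.QuasiFinite.finite_comap_preimage_singleton (R := R) (S := B)
    (IsLocalRing.closedPoint R)).subset ?_
  intro n hn
  rw [PrimeSpectrum.mem_zeroLocus, SetLike.coe_subset_coe] at hn
  haveI := isMaximal_of_map_maximalIdeal_le R B n.asIdeal hn
  rw [Set.mem_preimage, Set.mem_singleton_iff]
  apply PrimeSpectrum.ext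
  change n.asIdeal.comap (algebraMap R B) = IsLocalRing.maximalIdeal R
  exact IsLocalRing.eq_maximalIdeal
    (Ideal.isMaximal_comap_of_isIntegral_of_isMaximal (R := R) n.asIdeal)

end Alg

/-- the idempotent cutting out the local factor at a maximal ideal. -/
theorem exists_idem_local (R : Type u) [CommRing R] [HenselianLocalRing R] (B : Type u)
    [CommRing B] [Algebra R B] [Module.Finite R B] (q : Ideal B) [hq : q.IsMaximal] :
    ∃ e : B, IsIdempotentElem e ∧ e ∉ q ∧ ∀ n : Ideal B, n.IsMaximal → e ∉ n → n = q := by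
  classical
  set IB := (IsLocalRing.maximalIdeal R).map (algebraMap R B) with hIB
  let qp : PrimeSpectrum B := ⟨q, hq.isPrime⟩
  let T : Set (PrimeSpectrum B) := PrimeSpectrum.zeroLocus (IB : Set B) \ {qp}
  have hTfin : T.Finite := (finite_zeroLocus_map_maximalIdeal R B).subset Set.diff_subset
  have hTcl : IsClosed T := by
    have : T = ⋃ n ∈ T, {n} := by ext n; simp
    rw [this]
    refine hTfin.isClosed_biUnion fun n hn => ?_
    rw [PrimeSpectrum.isClosed_singleton_iff_isMaximal]
    refine isMaximal_of_map_maximalIdeal_le R B n.asIdeal ?_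
    have := hn.1
    rwa [PrimeSpectrum.mem_zeroLocus, SetLike.coe_subset_coe] at this
  have hqIB : qp ∈ PrimeSpectrum.zeroLocus (IB : Set B) := by
    rw [PrimeSpectrum.mem_zeroLocus, SetLike.coe_subset_coe]
    exact map_maximalIdeal_le_of_isMaximal R B q
  have hOT : Tᶜ ∩ PrimeSpectrum.zeroLocus (IB : Set B) = {qp} := by
    ext n
    simp only [Set.mem_inter_iff, Set.mem_compl_iff, Set.mem_diff, Set.mem_singleton_iff, T]
    constructor
    · rintro ⟨h1, h2⟩
      by_contra hne
      exact h1 ⟨h2, hne⟩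
    · rintro rfl
      exact ⟨fun h => h.2 rfl, hqIB⟩
  haveI : HenselianRing R (IsLocalRing.maximalIdeal R) := inferInstance
  obtain ⟨e, he, heO, hOe⟩ := Groth.Agent.Lib.Helper26.FinPartSch.exists_idem_basicOpen
    (IsLocalRing.maximalIdeal R) B Tᶜ hTcl.isOpen_compl (by
      rw [hOT, PrimeSpectrum.isClosed_singleton_iff_isMaximal]
      exact hq)
  refine ⟨e, he, ?_, ?_⟩
  · have : qp ∈ (PrimeSpectrum.basicOpen e : Set (PrimeSpectrum B)) := hOe (by rw [hOT]; rfl)
    exact this
  · intro n hn hen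
    let np : PrimeSpectrum B := ⟨n, hn.isPrime⟩
    have h1 : np ∈ Tᶜ := heO hen
    have h2 : np ∈ PrimeSpectrum.zeroLocus (IB : Set B) := by
      rw [PrimeSpectrum.mem_zeroLocus, SetLike.coe_subset_coe]
      exact map_maximalIdeal_le_of_isMaximal R B n
    have h3 : np ∈ ({qp} : Set (PrimeSpectrum B)) := by rw [← hOT]; exact ⟨h1, h2⟩
    exact congrArg PrimeSpectrum.asIdeal h3

section Quot

variable (B : Type u) [CommRing B] (q : Ideal B) [hq : q.IsMaximal] (e : B)

theorem comap_eq_of_isMaximal_quotient (heq : e ∉ q)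
    (huniq : ∀ n : Ideal B, n.IsMaximal → e ∉ n → n = q)
    (M : Ideal (B ⧸ Ideal.span {1 - e})) [hM : M.IsMaximal] :
    M.comap (Ideal.Quotient.mk (Ideal.span {1 - e})) = q := by
  have hn : (M.comap (Ideal.Quotient.mk (Ideal.span {1 - e}))).IsMaximal :=
    Ideal.comap_isMaximal_of_surjective _ Ideal.Quotient.mk_surjective
  apply huniq _ hn
  intro hen
  have h1 : (1 - e) ∈ M.comap (Ideal.Quotient.mk (Ideal.span {1 - e})) := by
    rw [Ideal.mem_comap]
    have : Ideal.Quotient.mk (Ideal.span {1 - e}) (1 - e) = 0 :=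
      Ideal.Quotient.eq_zero_iff_mem.mpr (Ideal.mem_span_singleton_self _)
    rw [this]
    exact M.zero_mem
  have h2 := Ideal.add_mem _ hen h1
  rw [add_sub_cancel] at h2
  exact hn.ne_top ((Ideal.eq_top_iff_one _).mpr h2)

theorem isLocalRing_quotient_of_idem (he : IsIdempotentElem e) (heq : e ∉ q)
    (huniq : ∀ n : Ideal B, n.IsMaximal → e ∉ n → n = q) :
    IsLocalRing (B ⧸ Ideal.span {1 - e}) := by
  have h1e : 1 - e ∈ q := by
    have : e * (1 - e) ∈ q := by
      have : e * (1 - e) = 0 := by rw [mul_sub, mul_one, he.eq, sub_self]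
      rw [this]; exact q.zero_mem
    exact (hq.isPrime.mem_or_mem this).resolve_left heq
  have hle : Ideal.span {1 - e} ≤ q := (Ideal.span_singleton_le_iff_mem _).mpr h1e
  haveI : Nontrivial (B ⧸ Ideal.span {1 - e}) :=
    Ideal.Quotient.nontrivial_iff.mpr (fun h => hq.ne_top (top_le_iff.mp (h ▸ hle)))
  obtain ⟨M₀, hM₀⟩ := Ideal.exists_maximal (B ⧸ Ideal.span {1 - e})
  refine IsLocalRing.of_unique_max_ideal ⟨M₀, hM₀, fun M' hM' => ?_⟩
  apply Ideal.comap_injective_of_surjective _ Ideal.Quotient.mk_surjective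
  rw [comap_eq_of_isMaximal_quotient B q e heq huniq M',
    comap_eq_of_isMaximal_quotient B q e heq huniq M₀]

end Quot

/-- the local factor of a finite algebra over a henselian local ring at a prime over the closed
point, as an open and closed subscheme of its spectrum. -/
theorem exists_local_factor (R : Type u) [CommRing R] [HenselianLocalRing R] (B : Type u)
    [CommRing B] [Algebra R B] [Module.Finite R B] (qp : PrimeSpectrum B)
    (hqp : (IsLocalRing.maximalIdeal R).map (algebraMap R B) ≤ qp.asIdeal) :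
    ∃ (C : Type u) (_ : CommRing C) (_ : IsLocalRing C) (ψ : B →+* C), Function.Surjective ψ ∧
      IsOpenImmersion (Spec.map (CommRingCat.ofHom ψ)) ∧
      PrimeSpectrum.comap ψ (IsLocalRing.closedPoint C) = qp := by
  haveI hqmax : qp.asIdeal.IsMaximal := isMaximal_of_map_maximalIdeal_le R B qp.asIdeal hqp
  obtain ⟨e, he, heq, huniq⟩ := exists_idem_local R B qp.asIdeal
  haveI hCloc := isLocalRing_quotient_of_idem B qp.asIdeal e he heq huniq
  refine ⟨B ⧸ Ideal.span {1 - e}, inferInstance, hCloc, Ideal.Quotient.mk _,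
    Ideal.Quotient.mk_surjective, ?_, ?_⟩
  · exact (isOpenImmersion_SpecMap_iff_of_surjective
      (CommRingCat.ofHom (Ideal.Quotient.mk (Ideal.span {1 - e})))
      Ideal.Quotient.mk_surjective).mpr ⟨1 - e, he.one_sub, Ideal.mk_ker⟩
  · apply PrimeSpectrum.ext
    exact comap_eq_of_isMaximal_quotient B qp.asIdeal e heq huniq (IsLocalRing.maximalIdeal _)

/-! ### the local clopen piece through a point of the closed fibre -/

theorem exists_affine_nhd' (X : Scheme.{u}) (x : X) : ∃ V : X.Opens, IsAffineOpen V ∧ x ∈ V := by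
  obtain ⟨_, ⟨V, hV, rfl⟩, hxV, -⟩ := X.isBasis_affineOpens.exists_subset_of_mem_open
    (Set.mem_univ x) isOpen_univ
  exact ⟨V, hV, hxV⟩

/-- an étale separated scheme over a henselian local ring contains, through every point of the
closed fibre, an open and closed local subscheme finite over the base. -/
theorem exists_local_clopen (R : Type u) [CommRing R] [HenselianLocalRing R] {X : Scheme.{u}}
    (p : X ⟶ Spec (CommRingCat.of R)) [Etale p] [IsSeparated p] (x : X)
    (hx : p x = IsLocalRing.closedPoint R) :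
    ∃ (C : CommRingCat.{u}) (_ : IsLocalRing C) (ι : Spec C ⟶ X), IsOpenImmersion ι ∧
      IsClosedImmersion ι ∧ ι (IsLocalRing.closedPoint C) = x ∧ IsFinite (ι ≫ p) := by
  obtain ⟨V, hV, hxV⟩ := exists_affine_nhd' X x
  haveI : IsAffine (V : Scheme.{u}) := hV
  haveI : LocallyQuasiFinite (V.ι ≫ p) :=
    Groth.Agent.Lib.T2H3.GenericTorsor.locallyQuasiFinite_of_etale (V.ι ≫ p)
  haveI : IsAffineHom (V.ι ≫ p) := inferInstance
  obtain ⟨W, ⟨hWcl, hWfin, hWs⟩, -⟩ := Groth.Agent.S17447.result R (V.ι ≫ p)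
  have hxW : (⟨x, hxV⟩ : (V : Scheme.{u})) ∈ W := hWs _ hx
  haveI : IsAffineHom (W.ι ≫ V.ι ≫ p) := inferInstance
  haveI : IsAffine (W : Scheme.{u}) := isAffine_of_isAffineHom (W.ι ≫ V.ι ≫ p)
  let B : CommRingCat.{u} := Γ((W : Scheme.{u}), ⊤)
  let ε : (W : Scheme.{u}) ≅ Spec B := (W : Scheme.{u}).isoSpec
  obtain ⟨φ, hφ⟩ : ∃ φ : CommRingCat.of R ⟶ B, Spec.map φ = ε.inv ≫ W.ι ≫ V.ι ≫ p :=
    ⟨Spec.preimage _, Spec.map_preimage _⟩
  have hφfin : IsFinite (Spec.map φ) := by rw [hφ]; infer_instance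
  have hφf : φ.hom.Finite := (IsFinite.SpecMap_iff φ).mp hφfin
  algebraize [φ.hom]
  let xW : (W : Scheme.{u}) := ⟨⟨x, hxV⟩, hxW⟩
  let qp : PrimeSpectrum B := ε.hom xW
  have hqp : (Spec.map φ) qp = IsLocalRing.closedPoint R := by
    rw [hφ]
    change (ε.inv ≫ W.ι ≫ V.ι ≫ p) (ε.hom xW) = _
    rw [← Scheme.Hom.comp_apply, Iso.hom_inv_id_assoc]
    exact hx
  obtain ⟨C₀, _, hCloc, ψ₀, hψs, hψo, hψq⟩ := exists_local_factor R B qp (by
    rw [Ideal.map_le_iff_le_comap]
    have := congrArg PrimeSpectrum.asIdeal hqp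
    exact this.ge)
  let C : CommRingCat.{u} := CommRingCat.of C₀
  haveI : IsLocalRing C := hCloc
  let ψ : B ⟶ C := CommRingCat.ofHom ψ₀
  have hψc : IsClosedImmersion (Spec.map ψ) := IsClosedImmersion.spec_of_surjective ψ hψs
  let ι : Spec C ⟶ X := Spec.map ψ ≫ ε.inv ≫ W.ι ≫ V.ι
  have hιp : ι ≫ p = Spec.map ψ ≫ Spec.map φ := by
    rw [hφ]
    simp only [ι, Category.assoc]
  have hιfin : IsFinite (ι ≫ p) := by rw [hιp]; infer_instance
  have hψo' : IsOpenImmersion (Spec.map ψ) := hψo
  have hιo : IsOpenImmersion ι := by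
    change IsOpenImmersion (Spec.map ψ ≫ ε.inv ≫ W.ι ≫ V.ι)
    infer_instance
  have hιc : IsClosedImmersion ι := by
    have hfin : IsFinite ι :=
      MorphismProperty.of_postcomp (W := @IsFinite) (W' := @IsSeparated) ι p ‹_› hιfin
    exact IsClosedImmersion.of_isPreimmersion _ (ι.isClosedMap.isClosed_range)
  have hιx : ι (IsLocalRing.closedPoint C) = x := by
    have h1 : Spec.map ψ (IsLocalRing.closedPoint C) = qp := hψq
    change (ε.inv ≫ W.ι ≫ V.ι) (Spec.map ψ (IsLocalRing.closedPoint C)) = x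
    rw [h1]
    change (ε.inv ≫ W.ι ≫ V.ι) (ε.hom xW) = x
    rw [← Scheme.Hom.comp_apply, Iso.hom_inv_id_assoc]
    rfl
  exact ⟨C, inferInstance, ι, hιo, hιc, hιx, hιfin⟩

/-- a flat locally finitely presented morphism to a local scheme hitting the closed point is
surjective. -/
theorem surjective_of_closedPoint_mem (R : Type u) [CommRing R] [IsLocalRing R] {Z : Scheme.{u}}
    (g : Z ⟶ Spec (CommRingCat.of R)) [Etale g]
    (h : IsLocalRing.closedPoint R ∈ Set.range g) : Surjective g := by
  have hopen : IsOpen (Set.range g) := g.isOpenMap.isOpen_range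
  constructor
  intro y
  exact (IsLocalRing.specializes_closedPoint y).mem_open hopen h

theorem fromSpecStalk_props (R : Type u) [CommRing R] [HenselianLocalRing R] {X : Scheme.{u}}
    (p : X ⟶ Spec (CommRingCat.of R)) [Etale p] [IsSeparated p] (x : X)
    (hx : p x = IsLocalRing.closedPoint R) :
    IsOpenImmersion (X.fromSpecStalk x) ∧ IsClosedImmersion (X.fromSpecStalk x) ∧
      IsFinite (X.fromSpecStalk x ≫ p) ∧ Etale (X.fromSpecStalk x ≫ p) ∧
      Surjective (X.fromSpecStalk x ≫ p) := by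
  obtain ⟨C, _, ι, hιo, hιc, rfl, hιfin⟩ := exists_local_clopen R p x hx
  have key := Scheme.Spec_stalkClosedPointTo_fromSpecStalk ι
  haveI : IsIso (Scheme.stalkClosedPointTo ι) := by
    unfold Scheme.stalkClosedPointTo
    infer_instance
  have key' : X.fromSpecStalk (ι (IsLocalRing.closedPoint C)) =
      inv (Spec.map (Scheme.stalkClosedPointTo ι)) ≫ ι := by
    rw [IsIso.eq_inv_comp]
    exact key
  have h1 : IsOpenImmersion (X.fromSpecStalk (ι (IsLocalRing.closedPoint C))) := by
    rw [key']; infer_instance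
  have h2 : IsClosedImmersion (X.fromSpecStalk (ι (IsLocalRing.closedPoint C))) := by
    rw [key']; infer_instance
  have h3 : IsFinite (X.fromSpecStalk (ι (IsLocalRing.closedPoint C)) ≫ p) := by
    rw [key', Category.assoc]; infer_instance
  have h4 : Etale (X.fromSpecStalk (ι (IsLocalRing.closedPoint C)) ≫ p) := inferInstance
  refine ⟨h1, h2, h3, h4, ?_⟩
  refine surjective_of_closedPoint_mem R _ ?_
  have hmem : ι (IsLocalRing.closedPoint C) ∈
      Set.range (X.fromSpecStalk (ι (IsLocalRing.closedPoint C))) := by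
    rw [Scheme.range_fromSpecStalk]
    exact specializes_rfl
  obtain ⟨z, hz⟩ := hmem
  exact ⟨z, by rw [Scheme.Hom.comp_apply, hz, hx]⟩

/-- every point generises a unique point of the closed fibre. -/
theorem existsUnique_closedFibre_point (R : Type u) [CommRing R] [HenselianLocalRing R]
    {X : Scheme.{u}} (p : X ⟶ Spec (CommRingCat.of R)) [Etale p] [IsSeparated p]
    (hsp : SpecializingMap p) (y : X) :
    ∃! x : X, p x = IsLocalRing.closedPoint R ∧ y ∈ Set.range (X.fromSpecStalk x) := by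
  obtain ⟨x, hyx, hx⟩ := hsp (IsLocalRing.specializes_closedPoint (p y))
  refine ⟨x, ⟨hx, by rw [Scheme.range_fromSpecStalk]; exact hyx⟩, ?_⟩
  rintro x' ⟨hx', hyx'⟩
  rw [Scheme.range_fromSpecStalk] at hyx'
  have hyx'' : y ⤳ x' := hyx'
  have key : ∀ a b : X, p a = IsLocalRing.closedPoint R → y ⤳ a → y ⤳ b → b ⤳ a := by
    intro a b ha hya hyb
    have hcl : IsClosed (Set.range (X.fromSpecStalk a)) :=
      haveI := (fromSpecStalk_props R p a ha).2.1
      (X.fromSpecStalk a).isClosedEmbedding.isClosed_range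
    have hy : y ∈ Set.range (X.fromSpecStalk a) := by
      rw [Scheme.range_fromSpecStalk]; exact hya
    have hb : b ∈ Set.range (X.fromSpecStalk a) := hyb.mem_closed hcl hy
    rw [Scheme.range_fromSpecStalk] at hb
    exact hb
  exact ((key x x' hx hyx hyx'').antisymm (key x' x hx' hyx'' hyx)).eq

/-- sections of an étale separated scheme over a local scheme are determined by their value at the
closed point. -/
theorem section_ext (R : Type u) [CommRing R] [IsLocalRing R] {X : Scheme.{u}}
    (p : X ⟶ Spec (CommRingCat.of R)) [Etale p] [IsSeparated p]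
    (σ₁ σ₂ : Spec (CommRingCat.of R) ⟶ X) (h₁ : σ₁ ≫ p = 𝟙 _) (h₂ : σ₂ ≫ p = 𝟙 _)
    (h : Spec.map (CommRingCat.ofHom (IsLocalRing.residue R)) ≫ σ₁ =
      Spec.map (CommRingCat.ofHom (IsLocalRing.residue R)) ≫ σ₂) : σ₁ = σ₂ := by
  obtain ⟨Z, j, hjo, hjc, hjeq, hjuniv⟩ :=
    Groth.Agent.Lib.T2H3.TwConstFppf.exists_eqLocus p σ₁ σ₂ (by rw [h₁, h₂])
  obtain ⟨l, hl⟩ := hjuniv _ (Spec.map (CommRingCat.ofHom (IsLocalRing.residue R))) h
  have hmem : IsLocalRing.closedPoint R ∈ Set.range j := by
    let pt : Spec (CommRingCat.of (IsLocalRing.ResidueField R)) :=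
      IsLocalRing.closedPoint (IsLocalRing.ResidueField R)
    refine ⟨l pt, ?_⟩
    rw [← Scheme.Hom.comp_apply, hl]
    exact IsLocalRing.PrimeSpectrum.comap_residue R pt
  haveI : Surjective j := surjective_of_closedPoint_mem R j hmem
  haveI : Epi j.base := (TopCat.epi_iff_surjective _).mpr j.surjective
  haveI : IsIso j := IsOpenImmersion.isIso j
  exact (cancel_epi j).mp hjeq

/-- a point of the closed fibre of an étale scheme over a henselian local ring, rational over the
residue field, lifts to a section. -/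
theorem exists_section_lift (R : Type u) [CommRing R] [HenselianLocalRing R] {X : Scheme.{u}}
    (p : X ⟶ Spec (CommRingCat.of R)) [Etale p]
    (τ : Spec (CommRingCat.of (IsLocalRing.ResidueField R)) ⟶ X)
    (hτ : τ ≫ p = Spec.map (CommRingCat.ofHom (IsLocalRing.residue R))) :
    ∃ σ : Spec (CommRingCat.of R) ⟶ X, σ ≫ p = 𝟙 _ ∧
      Spec.map (CommRingCat.ofHom (IsLocalRing.residue R)) ≫ σ = τ := by
  let pt : Spec (CommRingCat.of (IsLocalRing.ResidueField R)) :=
    IsLocalRing.closedPoint (IsLocalRing.ResidueField R)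
  obtain ⟨V, hV, hxV⟩ := exists_affine_nhd' X (τ pt)
  have hrange : Set.range τ ⊆ Set.range hV.fromSpec := by
    rw [hV.range_fromSpec]
    rintro _ ⟨z, rfl⟩
    have : z = pt := Subsingleton.elim _ _
    rw [this]
    exact hxV
  have hτ₀ := IsOpenImmersion.lift_fac hV.fromSpec τ hrange
  obtain ⟨σ₀, hσ₀⟩ : ∃ σ₀ : Γ(X, V) ⟶ CommRingCat.of (IsLocalRing.ResidueField R),
      Spec.map σ₀ = IsOpenImmersion.lift hV.fromSpec τ hrange :=
    ⟨Spec.preimage _, Spec.map_preimage _⟩
  obtain ⟨φ, hφ⟩ : ∃ φ : CommRingCat.of R ⟶ Γ(X, V), Spec.map φ = hV.fromSpec ≫ p :=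
    ⟨Spec.preimage _, Spec.map_preimage _⟩
  have hφet : Etale (Spec.map φ) := by rw [hφ]; infer_instance
  have hφe : φ.hom.Etale := (HasRingHomProperty.Spec_iff (P := @Etale)).mp hφet
  algebraize [φ.hom]
  have hcomp : φ ≫ σ₀ = CommRingCat.ofHom (IsLocalRing.residue R) := by
    apply Spec.map_injective
    rw [Spec.map_comp, hσ₀, hφ, ← Category.assoc, hτ₀, hτ]
  let σa : Γ(X, V) →ₐ[R] R ⧸ IsLocalRing.maximalIdeal R :=
    { σ₀.hom with
      commutes' := fun r => by
        have := congrArg (fun f => f.hom r) hcomp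
        exact this }
  obtain ⟨τa, hτa⟩ := Groth.Agent.Lib.Helper26.HenselEtale.etale_lift R
    (IsLocalRing.maximalIdeal R) Γ(X, V) σa
  refine ⟨Spec.map (CommRingCat.ofHom τa.toRingHom) ≫ hV.fromSpec, ?_, ?_⟩
  · rw [Category.assoc, ← hφ, ← Spec.map_comp, ← Spec.map_id]
    congr 1
    ext r
    exact τa.commutes r
  · rw [← Category.assoc, ← Spec.map_comp, ← hτ₀, ← hσ₀]
    congr 2
    ext a
    have := congrArg (fun f => f a) hτa
    exact this

end Groth.Agent.Lib.T2H3.TwConstHens
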