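import Mathlib
import Groth.Prelude.Def_TwC
import Groth.Prelude.Def_CAlg2
import Groth.Agent.Lib.T2H3TwConstConn
import Groth.Agent.Lib.Helper3EtGUSchF
import Groth.Agent.S2280

/-!
# Connected components of quasi-isotrivial twisted constant schemes over a geometrically unibranch
locally noetherian base are open and finite over the base.
-/

set_option autoImplicit false
set_option linter.style.haveILetI false
set_option linter.unusedSectionVars false
universe u

namespace Groth.Agent.Lib.T2H3.TwConstUni

open CategoryTheory MonoidalCategory CartesianMonoidalCategory AlgebraicGeometry Limits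
open Groth.Agent.Lib.T2H3.ConstSch Groth.Agent.Lib.T2H3.TwConst Groth.Agent.Lib.T2H3.TwConstConn
open TopologicalSpace

section Main

variable {S : Scheme.{u}} (P : Over S) {Z : Scheme.{u}} (z : Z ⟶ P.left)
  [IsOpenImmersion z] [IsClosedImmersion z]

/-- a variant of `isFinite_of_clopen` without connectedness of the base: it is enough that the
image of `Z` lies in the connected component of a point with finite fibre. -/
theorem isFinite_of_clopen_of_range [IsLocallyNoetherian S]
    (hP : TwC.IsTwConst TwC.Topology.etale P) (s₀ : S)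
    (hfin : Set.Finite ((z ≫ P.hom) ⁻¹' {s₀}))
    (hrange : Set.range (z ≫ P.hom) ⊆ connectedComponent s₀) : IsFinite (z ≫ P.hom) := by
  set v := z ≫ P.hom with hv
  let F : Set S := {s | ∃ O : S.Opens, s ∈ O ∧ IsFinite (pullback.snd v O.ι)}
  have hFopen : IsOpen F := by
    rw [isOpen_iff_forall_mem_open]
    rintro s ⟨O, hsO, hO⟩
    exact ⟨O, fun t ht => ⟨O, ht, hO⟩, O.2, hsO⟩
  have hFclosed : IsClosed F := by
    rw [← closure_subset_iff_isClosed]
    intro s hs
    obtain ⟨A, g, hg, hAN, hAC, ⟨a, ha⟩, I, ⟨e⟩⟩ := exists_connected_nhd P hP s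
    haveI := hg
    have hopen : IsOpen (Set.range g) := g.isOpenMap.isOpen_range
    obtain ⟨t, ⟨a', rfl⟩, htF⟩ := mem_closure_iff.mp hs (Set.range g) hopen ⟨a, ha⟩
    obtain ⟨O', htO', hO'⟩ := htF
    haveI := hO'
    have hfin : (v ⁻¹' {g a'}).Finite := finite_fibre_of_isFinite_restrict v O' (g a') htO'
    exact ⟨⟨Set.range g, hopen⟩, ⟨a, ha⟩, isFinite_over_range P z g I e a' hfin _ rfl⟩
  have hs₀F : s₀ ∈ F := by
    obtain ⟨A, g, hg, hAN, hAC, ⟨a, ha⟩, I, ⟨e⟩⟩ := exists_connected_nhd P hP s₀
    haveI := hg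
    subst ha
    exact ⟨⟨Set.range g, g.isOpenMap.isOpen_range⟩, ⟨a, rfl⟩,
      isFinite_over_range P z g I e a hfin _ rfl⟩
  have hsub : connectedComponent s₀ ⊆ F :=
    IsClopen.connectedComponent_subset ⟨hFclosed, hFopen⟩ hs₀F
  have hall : ∀ s : S, ∃ O : S.Opens, s ∈ O ∧ IsFinite (pullback.snd v O.ι) := by
    intro s
    by_cases hs : s ∈ connectedComponent s₀
    · exact hsub hs
    · let O : S.Opens := ⟨(connectedComponent s₀)ᶜ, isClosed_connectedComponent.isOpen_compl⟩
      refine ⟨O, hs, ?_⟩
      have hemp : IsEmpty ↥(pullback v O.ι) := by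
        constructor
        intro q
        have h1 : v (pullback.fst v O.ι q) = O.ι (pullback.snd v O.ι q) := by
          rw [← Scheme.Hom.comp_apply, ← Scheme.Hom.comp_apply, pullback.condition]
        have h2 : O.ι (pullback.snd v O.ι q) ∈ (connectedComponent s₀)ᶜ :=
          (pullback.snd v O.ι q).2
        rw [← h1] at h2
        exact h2 (hrange ⟨_, rfl⟩)
      infer_instance
  choose O hO hOfin using hall
  have hcov : TopologicalSpace.IsOpenCover O := by
    rw [TopologicalSpace.IsOpenCover, eq_top_iff]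
    intro x _
    rw [TopologicalSpace.Opens.mem_iSup]
    exact ⟨x, hO x⟩
  refine IsZariskiLocalAtTarget.of_openCover (S.openCoverOfIsOpenCover O hcov) ?_
  intro s
  exact hOfin s

end Main

/-- in a discrete subspace there are no non-trivial specialisations. -/
theorem eq_of_specializes_of_isDiscrete {X : Type*} [TopologicalSpace X] {s : Set X}
    (hs : IsDiscrete s) {a b : X} (ha : a ∈ s) (hb : b ∈ s) (h : a ⤳ b) : a = b := by
  haveI : DiscreteTopology s := hs.to_subtype
  have h' : (⟨a, ha⟩ : s) ⤳ ⟨b, hb⟩ := (subtype_specializes_iff _ _).mpr h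
  have := h'.eq
  exact congrArg Subtype.val this

/-- **S5268.** -/
theorem connectedComponent_finite {S : Scheme.{u}} [IsLocallyNoetherian S]
    (hS : ∀ s : S, CAlg2.IsGeomUnibranch (S.presheaf.stalk s))
    (P : Over S) (hP : TwC.IsTwConst TwC.Topology.etale P) (x : P.left) :
    ∃ U : P.left.Opens, (U : Set P.left) = connectedComponent x ∧ IsFinite (U.ι ≫ P.hom) := by
  haveI hPet : Etale P.hom := etale_of_isTwConst P hP
  haveI hPn : IsLocallyNoetherian P.left := LocallyOfFiniteType.isLocallyNoetherian P.hom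
  haveI hqf : LocallyQuasiFinite P.hom :=
    Groth.Agent.Lib.T2H3.GenericTorsor.locallyQuasiFinite_of_etale P.hom
  have hnil : ∀ y : P.left, (nilradical (P.left.presheaf.stalk y)).IsPrime := by
    intro y
    refine Groth.Agent.Lib.Helper3.EtGUSch.nilradical_isPrime_stalk_of_etale_nhd P.hom y (hS _)
      ⟨⊤, trivial, ?_⟩
    infer_instance
  have hd := (Groth.Agent.S2279.result P.left).mpr hnil
  have htfae := Groth.Agent.Lib.Helper14.irreducibleComponents_tfae P.left
    (Groth.Agent.S2280.locNoeth P.left)
  have hirr : ∀ y : P.left, IsIrreducible (connectedComponent y) := (htfae.out 3 2).mp hd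
  have hopen : ∀ Z ∈ irreducibleComponents P.left, IsOpen Z := (htfae.out 3 0).mp hd
  have heq : irreducibleComponents P.left = Set.range (connectedComponent : P.left → Set P.left) :=
    (htfae.out 3 1).mp hd
  have hCopen : IsOpen (connectedComponent x) := by
    apply hopen
    rw [heq]
    exact ⟨x, rfl⟩
  let U : P.left.Opens := ⟨connectedComponent x, hCopen⟩
  refine ⟨U, rfl, ?_⟩
  haveI : IsClosedImmersion U.ι := by
    refine IsClosedImmersion.of_isPreimmersion _ ?_
    rw [Scheme.Opens.range_ι]
    exact isClosed_connectedComponent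
  -- the generic point of `U`
  haveI hUirr : IrreducibleSpace ↥(U : Scheme.{u}) := Subtype.irreducibleSpace (hirr x)
  let η : ↥(U : Scheme.{u}) := genericPoint ↥(U : Scheme.{u})
  have hη : ∀ y : ↥(U : Scheme.{u}), η ⤳ y := fun y => genericPoint_specializes y
  let s₀ : S := (U.ι ≫ P.hom) η
  have hfib : ((U.ι ≫ P.hom) ⁻¹' {s₀}) ⊆ {η} := by
    intro y hy
    have hy' : P.hom (U.ι y) = P.hom (U.ι η) := by
      rw [← Scheme.Hom.comp_apply, ← Scheme.Hom.comp_apply]
      exact hy
    have hdisc := Scheme.Hom.isDiscrete_preimage_singleton P.hom (P.hom (U.ι η))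
    have hsp : U.ι η ⤳ U.ι y := (hη y).map U.ι.continuous
    have := eq_of_specializes_of_isDiscrete hdisc (a := U.ι η) (b := U.ι y) rfl hy' hsp
    exact (U.ι.isOpenEmbedding.injective this).symm
  have hfin : ((U.ι ≫ P.hom) ⁻¹' {s₀}).Finite := (Set.finite_singleton η).subset hfib
  haveI : ConnectedSpace ↥(U : Scheme.{u}) :=
    isConnected_iff_connectedSpace.mp (isConnected_connectedComponent (x := x))
  have hrange : Set.range (U.ι ≫ P.hom) ⊆ connectedComponent s₀ := by
    apply IsPreconnected.subset_connectedComponent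
    · exact isPreconnected_range (U.ι ≫ P.hom).continuous
    · exact ⟨η, rfl⟩
  exact isFinite_of_clopen_of_range P U.ι hP s₀ hfin hrange

end Groth.Agent.Lib.T2H3.TwConstUni
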