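import Mathlib
import Groth.Prelude.Def_TwC
import Groth.Prelude.Def_CAlg2
import Groth.Agent.Lib.T2H3TwConstUni
import Groth.Agent.Lib.T2H3TwConstFppfC
import Groth.Agent.Lib.T2H3TwConstHens
import Groth.Agent.Lib.Helper4Unibranch

/-!
# Quasi-isotrivial twisted constant schemes over an irreducible geometrically unibranch base
-/

set_option autoImplicit false
set_option linter.style.haveILetI false
set_option linter.unusedSectionVars false
universe u

namespace Groth.Agent.Lib.T2H3.TwConstIrr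

open CategoryTheory MonoidalCategory CartesianMonoidalCategory AlgebraicGeometry Limits
open Groth.Agent.Lib.T2H3.ConstSch Groth.Agent.Lib.T2H3.TwConst Groth.Agent.Lib.T2H3.TwConstConn
open Groth.Agent.Lib.T2H3.TwConstUni Groth.Agent.Lib.T2H3.TwConstHens
open TopologicalSpace

/-! ### Part A: the topology of an étale scheme over an irreducible geometrically unibranch base -/

section PartA

variable {S X : Scheme.{u}} [IrreducibleSpace S] (p : X ⟶ S) [Etale p]

theorem eq_of_specializes_generic (l z : X) (hl : p l = genericPoint S) (h : z ⤳ l) : z = l := by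
  haveI : LocallyQuasiFinite p :=
    Groth.Agent.Lib.T2H3.GenericTorsor.locallyQuasiFinite_of_etale p
  have hz : p z = genericPoint S := by
    have h1 : p z ⤳ p l := h.map p.continuous
    rw [hl] at h1
    exact (h1.antisymm (genericPoint_specializes _)).eq
  have hdisc := Scheme.Hom.isDiscrete_preimage_singleton p (genericPoint S)
  exact eq_of_specializes_of_isDiscrete hdisc hz hl h

theorem exists_generic_specializes (x : X) : ∃ l : X, p l = genericPoint S ∧ l ⤳ x := by
  obtain ⟨l, hl, hpl⟩ := Flat.generalizingMap p (genericPoint_specializes (p x))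
  exact ⟨l, hpl, hl⟩

theorem closure_mem_irreducibleComponents (l : X) (hl : p l = genericPoint S) :
    closure ({l} : Set X) ∈ irreducibleComponents X :=
  (Groth.Agent.Lib.Helper14.closure_mem_irreducibleComponents_iff l).mpr
    fun y' hy' => eq_of_specializes_generic p l y' hl hy'

theorem generic_unique (hS : ∀ s : S, CAlg2.IsGeomUnibranch (S.presheaf.stalk s))
    (l l' x : X) (hl : p l = genericPoint S) (hl' : p l' = genericPoint S)
    (h : l ⤳ x) (h' : l' ⤳ x) : l = l' := by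
  have hnil : ∀ y : X, (nilradical (X.presheaf.stalk y)).IsPrime := by
    intro y
    refine Groth.Agent.Lib.Helper3.EtGUSch.nilradical_isPrime_stalk_of_etale_nhd p y (hS _)
      ⟨⊤, trivial, ?_⟩
    infer_instance
  have hd := (Groth.Agent.S2279.result X).mpr hnil
  by_contra hne
  have hcl : closure ({l} : Set X) ≠ closure {l'} := by
    intro heq
    apply hne
    have : l ⤳ l' := by
      rw [specializes_iff_mem_closure, heq]
      exact subset_closure rfl
    exact eq_of_specializes_generic p l' l hl' this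
  have hdj := hd (closure_mem_irreducibleComponents p l hl)
    (closure_mem_irreducibleComponents p l' hl') hcl
  exact Set.disjoint_iff.mp hdj
    ⟨specializes_iff_mem_closure.mp h, specializes_iff_mem_closure.mp h'⟩

theorem finite_generic_inter_affine (V : X.Opens) (hV : IsAffineOpen V) (S₀ : S.Opens)
    (hS₀ : IsAffineOpen S₀) (hVS₀ : V ≤ p ⁻¹ᵁ S₀) :
    {l' : X | l' ∈ V ∧ p l' = genericPoint S}.Finite := by
  haveI : IsAffine (V : Scheme.{u}) := hV
  haveI : IsAffine (S₀ : Scheme.{u}) := hS₀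
  have hr : Set.range (V.ι ≫ p) ⊆ Set.range S₀.ι := by
    rw [Scheme.Opens.range_ι]
    rintro _ ⟨v, rfl⟩
    exact hVS₀ v.2
  obtain ⟨g₀, hg₀⟩ : ∃ g₀ : (V : Scheme.{u}) ⟶ S₀, g₀ ≫ S₀.ι = V.ι ≫ p :=
    ⟨_, IsOpenImmersion.lift_fac S₀.ι (V.ι ≫ p) hr⟩
  haveI : Etale (g₀ ≫ S₀.ι) := by rw [hg₀]; infer_instance
  haveI : Etale g₀ :=
    MorphismProperty.of_postcomp (W := @Etale) (W' := @Etale) g₀ S₀.ι inferInstance ‹_›
  haveI : LocallyQuasiFinite g₀ :=
    Groth.Agent.Lib.T2H3.GenericTorsor.locallyQuasiFinite_of_etale g₀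
  haveI : IsAffineHom g₀ := inferInstance
  by_cases hη : genericPoint S ∈ S₀
  · have hfin := g₀.finite_preimage_singleton ⟨genericPoint S, hη⟩
    refine (hfin.image V.ι).subset ?_
    rintro l' ⟨hl'V, hl'⟩
    refine ⟨⟨l', hl'V⟩, ?_, rfl⟩
    apply S₀.ι.isOpenEmbedding.injective
    rw [← Scheme.Hom.comp_apply, hg₀]
    exact hl'
  · refine Set.Finite.subset Set.finite_empty ?_
    rintro l' ⟨hl'V, hl'⟩
    exact hη (hl' ▸ hVS₀ hl'V)

theorem isOpen_closure_generic (hS : ∀ s : S, CAlg2.IsGeomUnibranch (S.presheaf.stalk s))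
    (l : X) (hl : p l = genericPoint S) : IsOpen (closure ({l} : Set X)) := by
  rw [isOpen_iff_forall_mem_open]
  intro x hx
  obtain ⟨S₀, hS₀, hxS₀⟩ := exists_affine_nhd' S (p x)
  obtain ⟨V, hV, hxV, hVS₀⟩ : ∃ V : X.Opens, IsAffineOpen V ∧ x ∈ V ∧ V ≤ p ⁻¹ᵁ S₀ := by
    obtain ⟨_, ⟨V, hV, rfl⟩, hxV, hsub⟩ := X.isBasis_affineOpens.exists_subset_of_mem_open
      (show x ∈ ((p ⁻¹ᵁ S₀ : X.Opens) : Set X) from hxS₀) (p ⁻¹ᵁ S₀).2
    exact ⟨V, hV, hxV, hsub⟩
  have hfin := finite_generic_inter_affine p V hV S₀ hS₀ hVS₀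
  let G' : Set X := {l' : X | (l' ∈ V ∧ p l' = genericPoint S) ∧ l' ≠ l}
  have hG'fin : G'.Finite := hfin.subset fun _ h => h.1
  let T : Set X := ⋃ l' ∈ G', closure {l'}
  have hT : IsClosed T := hG'fin.isClosed_biUnion fun _ _ => isClosed_closure
  refine ⟨(V : Set X) ∩ Tᶜ, ?_, V.2.inter hT.isOpen_compl, ⟨hxV, ?_⟩⟩
  · rintro w ⟨hwV, hwT⟩
    obtain ⟨l'', hl'', hlw⟩ := exists_generic_specializes p w
    have hl''V : l'' ∈ V := hlw.mem_open V.2 hwV
    by_cases h : l'' = l
    · subst h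
      exact specializes_iff_mem_closure.mp hlw
    · exfalso
      apply hwT
      exact Set.mem_biUnion (show l'' ∈ G' from ⟨⟨hl''V, hl''⟩, h⟩)
        (specializes_iff_mem_closure.mp hlw)
  · intro hxT
    obtain ⟨l', ⟨⟨hl'V, hl'⟩, hne⟩, hxl'⟩ := Set.mem_iUnion₂.mp hxT
    exact hne (generic_unique p hS l' l x hl' hl (specializes_iff_mem_closure.mpr hxl')
      (specializes_iff_mem_closure.mpr hx))

/-- the points of `closure {l}` over the generic point. -/
theorem generic_fibre_closure (l u : X) (_hl : p l = genericPoint S) (hu : p u = genericPoint S)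
    (hul : u ∈ closure ({l} : Set X)) : u = l :=
  (eq_of_specializes_generic p u l hu (specializes_iff_mem_closure.mpr hul)).symm

end PartA

/-! ### Part B: finiteness of clopen subschemes -/

section PartB

/-- **Lemma C'.** finiteness of a fibre passes to an étale base change which factors through a
quasi-compact morphism to an open subscheme. -/
theorem finite_fibre_pullback' {Z S A : Scheme.{u}} (v : Z ⟶ S) (S₀ : S.Opens)
    (g₀ : A ⟶ (S₀ : Scheme.{u})) [Etale g₀] [QuasiCompact g₀] (a : A)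
    (h : (v ⁻¹' {S₀.ι (g₀ a)}).Finite) :
    ((pullback.snd v (g₀ ≫ S₀.ι)) ⁻¹' {a}).Finite := by
  have h0 : ((pullback.snd v S₀.ι) ⁻¹' {g₀ a}).Finite := by
    refine Set.Finite.of_finite_image (f := pullback.fst v S₀.ι) (h.subset ?_)
      ((pullback.fst v S₀.ι).isOpenEmbedding.injective.injOn)
    rintro _ ⟨q, hq, rfl⟩
    change v (pullback.fst v S₀.ι q) = S₀.ι (g₀ a)
    rw [← Scheme.Hom.comp_apply, pullback.condition, Scheme.Hom.comp_apply, hq]
  have h1 := finite_fibre_pullback (pullback.snd v S₀.ι) g₀ a h0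
  let ι := pullbackLeftPullbackSndIso v S₀.ι g₀
  have hι : ι.hom ≫ pullback.snd v (g₀ ≫ S₀.ι) = pullback.snd (pullback.snd v S₀.ι) g₀ :=
    pullbackLeftPullbackSndIso_hom_snd v S₀.ι g₀
  refine (h1.image ι.hom).subset ?_
  intro y hy
  refine ⟨ι.inv y, ?_, ?_⟩
  · change pullback.snd (pullback.snd v S₀.ι) g₀ (ι.inv y) = a
    rw [← hι, ← Scheme.Hom.comp_apply, Iso.inv_hom_id_assoc]
    exact hy
  · rw [← Scheme.Hom.comp_apply, Iso.inv_hom_id]; rfl

variable {S : Scheme.{u}} (P : Over S) {Z : Scheme.{u}} (z : Z ⟶ P.left)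
  [IsOpenImmersion z] [IsClosedImmersion z]

open Groth.Agent.Lib.Helper12 in
/-- **Key claim.** a variant of `isFinite_over_range` where the finiteness of the fibre of the base
change is a hypothesis. -/
theorem isFinite_over_range' {A : Scheme.{u}} (g : A ⟶ S) [Etale g]
    [ConnectedSpace A] (I : Type u) (e : Red.bc g P ≅ TwC.const A I) (a' : A)
    (h1 : ((pullback.snd (z ≫ P.hom) g) ⁻¹' {a'}).Finite) (O : S.Opens)
    (hO : (O : Set S) = Set.range g) :
    IsFinite (pullback.snd (z ≫ P.hom) O.ι) := by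
  obtain ⟨ι, hι⟩ : ∃ ι : pullback z (pullback.fst P.hom g) ≅ pullback (z ≫ P.hom) g,
      ι.hom ≫ pullback.snd (z ≫ P.hom) g =
        pullback.snd z (pullback.fst P.hom g) ≫ pullback.snd P.hom g :=
    ⟨pullbackRightPullbackFstIso P.hom g z, pullbackRightPullbackFstIso_hom_snd P.hom g z⟩
  have h3 : pullback.snd P.hom g = e.hom.left ≫ (TwC.const A I).hom := (Over.w e.hom).symm
  obtain ⟨w, hw⟩ : ∃ w : pullback z (pullback.fst P.hom g) ⟶ (TwC.const A I).left,
      w = pullback.snd z (pullback.fst P.hom g) ≫ e.hom.left := ⟨_, rfl⟩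
  haveI : IsOpenImmersion w := by rw [hw]; infer_instance
  haveI : IsClosedImmersion w := by rw [hw]; infer_instance
  have h4 : ι.hom ≫ pullback.snd (z ≫ P.hom) g = w ≫ (TwC.const A I).hom := by
    rw [hι, h3, hw, Category.assoc]
  have h5 : ((w ≫ (TwC.const A I).hom) ⁻¹' {a'}).Finite := by
    refine (h1.image ι.inv).subset ?_
    intro y hy
    refine ⟨ι.hom y, ?_, ?_⟩
    · change pullback.snd (z ≫ P.hom) g (ι.hom y) = a'
      rw [← Scheme.Hom.comp_apply, h4]
      exact hy
    · rw [← Scheme.Hom.comp_apply, Iso.hom_inv_id]; rfl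
  haveI h6 : IsFinite (w ≫ (TwC.const A I).hom) := isFinite_of_clopen_const I w a' h5
  have h7 : IsFinite (pullback.snd (z ≫ P.hom) g) := by
    have : pullback.snd (z ≫ P.hom) g = ι.inv ≫ w ≫ (TwC.const A I).hom := by
      rw [← h4, Iso.inv_hom_id_assoc]
    rw [this]
    infer_instance
  -- descend along `A ⟶ range g`
  obtain ⟨g₀, hg₀⟩ : ∃ g₀ : A ⟶ (O : Scheme.{u}), g₀ ≫ O.ι = g :=
    ⟨_, IsOpenImmersion.lift_fac O.ι g (by rw [Scheme.Opens.range_ι, hO])⟩
  haveI : Etale (g₀ ≫ O.ι) := by rw [hg₀]; infer_instance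
  haveI : Etale g₀ :=
    MorphismProperty.of_postcomp (W := @Etale) (W' := @Etale) g₀ O.ι inferInstance ‹_›
  haveI : Surjective g₀ := by
    constructor
    rintro ⟨t, ht⟩
    have ht' : t ∈ Set.range g := by rw [← hO]; exact ht
    obtain ⟨a, rfl⟩ := ht'
    refine ⟨a, ?_⟩
    apply O.ι.injective
    rw [← Scheme.Hom.comp_apply, hg₀]
    rfl
  have hcov : Presieve.singleton g₀ ∈ Scheme.fpqcPrecoverage (O : Scheme.{u}) :=
    Scheme.fppfPrecoverage_le_fpqcPrecoverage _ (Scheme.Hom.singleton_mem_fppfPrecoverage g₀)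
  refine of_mem_fpqcPrecoverage descendsAlong_isFinite _ (Presieve.singleton g₀) hcov ?_
  rintro Y' _ ⟨⟩
  apply pullback_snd_pullback_snd
  exact pullback_snd_congr (z ≫ P.hom) hg₀.symm h7

/-- **Lemma A'.** local data over an irreducible geometrically unibranch base: connected étale
neighbourhoods, quasi-compact over an open of the base, over which a twisted constant scheme is
constant. -/
theorem exists_connected_nhd_irr [IrreducibleSpace S]
    (hS : ∀ s : S, CAlg2.IsGeomUnibranch (S.presheaf.stalk s))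
    (hP : TwC.IsTwConst TwC.Topology.etale P) (s : S) :
    ∃ (A : Scheme.{u}) (S₀ : S.Opens) (g₀ : A ⟶ (S₀ : Scheme.{u})), Etale g₀ ∧ QuasiCompact g₀ ∧
      ConnectedSpace A ∧ (∃ a : A, S₀.ι (g₀ a) = s) ∧
      ∃ I : Type u, Nonempty (Red.bc (g₀ ≫ S₀.ι) P ≅ TwC.const A I) := by
  obtain ⟨S', f, hf, ⟨s', hs'⟩, I, ⟨e⟩⟩ := hP s
  haveI := hf
  obtain ⟨S₀, hS₀, hsS₀⟩ := exists_affine_nhd' S s
  obtain ⟨B, hB, hsB, hBS₀⟩ : ∃ B : S'.Opens, IsAffineOpen B ∧ s' ∈ B ∧ B ≤ f ⁻¹ᵁ S₀ := by
    obtain ⟨_, ⟨B, hB, rfl⟩, hsB, hsub⟩ := S'.isBasis_affineOpens.exists_subset_of_mem_open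
      (show s' ∈ ((f ⁻¹ᵁ S₀ : S'.Opens) : Set S') from by
        change f s' ∈ S₀
        rw [hs']; exact hsS₀) (f ⁻¹ᵁ S₀).2
    exact ⟨B, hB, hsB, hsub⟩
  haveI : IsAffine (B : Scheme.{u}) := hB
  haveI : IsAffine (S₀ : Scheme.{u}) := hS₀
  let pB : (B : Scheme.{u}) ⟶ S := B.ι ≫ f
  haveI : Etale pB := inferInstanceAs (Etale (B.ι ≫ f))
  obtain ⟨l, hl, hls⟩ := exists_generic_specializes pB (⟨s', hsB⟩ : ↥(B : Scheme.{u}))
  let C : (B : Scheme.{u}).Opens := ⟨closure {l}, isOpen_closure_generic pB hS l hl⟩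
  haveI hCirr : IrreducibleSpace ↥(C : Scheme.{u}) :=
    Subtype.irreducibleSpace isIrreducible_singleton.closure
  haveI hCC : ConnectedSpace ↥(C : Scheme.{u}) := inferInstance
  haveI hCcomp : CompactSpace ↥(C : Scheme.{u}) :=
    isCompact_iff_compactSpace.mp (isClosed_closure (s := ({l} : Set ↥(B : Scheme.{u})))).isCompact
  let j : (C : Scheme.{u}) ⟶ S' := C.ι ≫ B.ι
  haveI : Etale j := inferInstanceAs (Etale (C.ι ≫ B.ι))
  haveI : Etale (j ≫ f) := inferInstance
  have hr : Set.range (j ≫ f) ⊆ Set.range S₀.ι := by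
    rw [Scheme.Opens.range_ι]
    rintro _ ⟨c, rfl⟩
    exact hBS₀ (C.ι c).2
  obtain ⟨g₀, hg₀⟩ : ∃ g₀ : (C : Scheme.{u}) ⟶ S₀, g₀ ≫ S₀.ι = j ≫ f :=
    ⟨_, IsOpenImmersion.lift_fac S₀.ι (j ≫ f) hr⟩
  haveI : Etale (g₀ ≫ S₀.ι) := by rw [hg₀]; infer_instance
  haveI : Etale g₀ :=
    MorphismProperty.of_postcomp (W := @Etale) (W' := @Etale) g₀ S₀.ι inferInstance ‹_›
  have hsC : (⟨s', hsB⟩ : ↥(B : Scheme.{u})) ∈ C := specializes_iff_mem_closure.mp hls
  refine ⟨C, S₀, g₀, inferInstance, inferInstance, hCC, ⟨⟨⟨s', hsB⟩, hsC⟩, ?_⟩, I, ?_⟩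
  · rw [← Scheme.Hom.comp_apply, hg₀]
    exact hs'
  rw [hg₀]
  obtain ⟨e3⟩ := nonempty_bc_const_iso I j
  exact ⟨(Over.pullbackComp j f).app P ≪≫ (Over.pullback j).mapIso e ≪≫ e3⟩

/-- a clopen subscheme of an étale-locally constant scheme over an irreducible geometrically
unibranch base is finite over the base as soon as one of its fibres is finite. -/
theorem isFinite_of_clopen_irr [IrreducibleSpace S]
    (hS : ∀ s : S, CAlg2.IsGeomUnibranch (S.presheaf.stalk s))
    (hP : TwC.IsTwConst TwC.Topology.etale P)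
    (hs : ∃ s : S, Set.Finite ((z ≫ P.hom) ⁻¹' {s})) : IsFinite (z ≫ P.hom) := by
  set v := z ≫ P.hom with hv
  let F : Set S := {s | ∃ O : S.Opens, s ∈ O ∧ IsFinite (pullback.snd v O.ι)}
  have hFopen : IsOpen F := by
    rw [isOpen_iff_forall_mem_open]
    rintro s ⟨O, hsO, hO⟩
    exact ⟨O, fun t ht => ⟨O, ht, hO⟩, O.2, hsO⟩
  have hFclosed : IsClosed F := by
    rw [← closure_subset_iff_isClosed]
    intro s hs
    obtain ⟨A, S₀, g₀, hg₀, hqc, hAC, ⟨a, ha⟩, I, ⟨e⟩⟩ := exists_connected_nhd_irr P hS hP s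
    haveI := hg₀
    haveI := hqc
    haveI : Etale (g₀ ≫ S₀.ι) := inferInstance
    have hopen : IsOpen (Set.range (g₀ ≫ S₀.ι)) := (g₀ ≫ S₀.ι).isOpenMap.isOpen_range
    obtain ⟨t, ⟨a', rfl⟩, htF⟩ := mem_closure_iff.mp hs (Set.range (g₀ ≫ S₀.ι)) hopen
      ⟨a, by rw [Scheme.Hom.comp_apply]; exact ha⟩
    obtain ⟨O', htO', hO'⟩ := htF
    haveI := hO'
    have hfin : (v ⁻¹' {(g₀ ≫ S₀.ι) a'}).Finite :=
      finite_fibre_of_isFinite_restrict v O' _ htO'
    have h1 := finite_fibre_pullback' v S₀ g₀ a' (by rwa [Scheme.Hom.comp_apply] at hfin)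
    exact ⟨⟨Set.range (g₀ ≫ S₀.ι), hopen⟩, ⟨a, by rw [Scheme.Hom.comp_apply]; exact ha⟩,
      isFinite_over_range' P z (g₀ ≫ S₀.ι) I e a' h1 _ rfl⟩
  have hFne : F.Nonempty := by
    obtain ⟨s₀, hs₀⟩ := hs
    obtain ⟨A, S₀, g₀, hg₀, hqc, hAC, ⟨a, ha⟩, I, ⟨e⟩⟩ := exists_connected_nhd_irr P hS hP s₀
    haveI := hg₀
    haveI := hqc
    haveI : Etale (g₀ ≫ S₀.ι) := inferInstance
    subst ha
    have h1 := finite_fibre_pullback' v S₀ g₀ a hs₀
    exact ⟨S₀.ι (g₀ a), ⟨Set.range (g₀ ≫ S₀.ι), (g₀ ≫ S₀.ι).isOpenMap.isOpen_range⟩,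
      ⟨a, by rw [Scheme.Hom.comp_apply]⟩,
      isFinite_over_range' P z (g₀ ≫ S₀.ι) I e a h1 _ rfl⟩
  have hFuniv : F = Set.univ := IsClopen.eq_univ ⟨hFclosed, hFopen⟩ hFne
  have hall : ∀ s : S, ∃ O : S.Opens, s ∈ O ∧ IsFinite (pullback.snd v O.ι) := by
    intro s
    have : s ∈ F := by rw [hFuniv]; trivial
    exact this
  choose O hO hOfin using hall
  have hcov : TopologicalSpace.IsOpenCover O := by
    rw [TopologicalSpace.IsOpenCover, eq_top_iff]
    intro x _
    rw [TopologicalSpace.Opens.mem_iSup]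
    exact ⟨x, hO x⟩
  refine IsZariskiLocalAtTarget.of_openCover (S.openCoverOfIsOpenCover O hcov) ?_
  intro s
  exact hOfin s

end PartB

/-! ### Part C: the decomposition and the sections -/

section PartC

set_option backward.isDefEq.respectTransparency.types false in
set_option backward.defeqAttrib.useBackward true in
/-- a point of the fibre over `s` which is rational over `κ(s)` has residue field `κ(s)`. -/
theorem residueFieldMap_bijective_of_lift {X S : Scheme.{u}} (p : X ⟶ S) (s : S)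
    (τ : Spec (S.residueField s) ⟶ X) (hτ : τ ≫ p = S.fromSpecResidueField s) :
    Function.Bijective
      (p.residueFieldMap (τ (IsLocalRing.closedPoint (S.residueField s)))).hom := by
  let K : Type u := S.residueField s
  obtain ⟨τ₀, hτ₀⟩ : ∃ τ₀ : Spec (.of K) ⟶ X, τ₀ = τ := ⟨τ, rfl⟩
  have hτ' : τ₀ ≫ p = S.fromSpecResidueField s := by rw [hτ₀]; exact hτ
  change Function.Bijective (p.residueFieldMap (τ (IsLocalRing.closedPoint K))).hom
  rw [← hτ₀]
  have h0 : (S.SpecToEquivOfField K).symm ⟨s, 𝟙 _⟩ = S.fromSpecResidueField s := by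
    change Spec.map (𝟙 _) ≫ S.fromSpecResidueField s = _
    rw [Spec.map_id, Category.id_comp]
  have h1 : (S.SpecToEquivOfField K) (τ₀ ≫ p) = ⟨s, 𝟙 _⟩ := by
    rw [hτ', ← h0, Equiv.apply_symm_apply]
  obtain ⟨e, h⟩ := Scheme.SpecToEquivOfField_eq_iff.mp h1
  dsimp at e h
  simp only [Scheme.descResidueField_stalkClosedPointTo_comp] at h
  rw [Category.comp_id] at h
  have hbij : Function.Bijective
      (p.residueFieldMap (τ₀ (IsLocalRing.closedPoint K)) ≫
        Scheme.descResidueField (Scheme.stalkClosedPointTo τ₀)).hom := by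
    rw [h]
    exact ConcreteCategory.bijective_of_isIso (S.residueFieldCongr e).hom
  have hinj : Function.Injective (Scheme.descResidueField (Scheme.stalkClosedPointTo τ₀)).hom :=
    RingHom.injective _
  have hcomp : (p.residueFieldMap (τ₀ (IsLocalRing.closedPoint K)) ≫
        Scheme.descResidueField (Scheme.stalkClosedPointTo τ₀)).hom =
      (Scheme.descResidueField (Scheme.stalkClosedPointTo τ₀)).hom.comp
        (p.residueFieldMap (τ₀ (IsLocalRing.closedPoint K))).hom := rfl
  rw [hcomp] at hbij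
  refine ⟨RingHom.injective _, ?_⟩
  intro y
  obtain ⟨x, hx⟩ := hbij.2 ((Scheme.descResidueField (Scheme.stalkClosedPointTo τ₀)).hom y)
  exact ⟨x, hinj hx⟩

variable {S : Scheme.{u}} [IrreducibleSpace S]
  (hS : ∀ s : S, CAlg2.IsGeomUnibranch (S.presheaf.stalk s))
  (X : Over S) (hX : TwC.IsTwConst TwC.Topology.etale X)

include hS hX

theorem part1 (x : X.left) :
    ∃! l : X.left, X.hom l = genericPoint S ∧ x ∈ closure ({l} : Set X.left) := by
  haveI : Etale X.hom := etale_of_isTwConst X hX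
  obtain ⟨l, hl, hlx⟩ := exists_generic_specializes X.hom x
  refine ⟨l, ⟨hl, specializes_iff_mem_closure.mp hlx⟩, ?_⟩
  rintro l' ⟨hl', hl'x⟩
  exact generic_unique X.hom hS l' l x hl' hl (specializes_iff_mem_closure.mpr hl'x) hlx

theorem part2 (l : X.left) (hl : X.hom l = genericPoint S) :
    ∃ U : X.left.Opens, (U : Set X.left) = closure ({l} : Set X.left) ∧
      IsClosed (U : Set X.left) ∧ IsFinite (U.ι ≫ X.hom) ∧ Etale (U.ι ≫ X.hom) ∧
      Surjective (U.ι ≫ X.hom) := by
  haveI : Etale X.hom := etale_of_isTwConst X hX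
  let U : X.left.Opens := ⟨closure {l}, isOpen_closure_generic X.hom hS l hl⟩
  haveI : IsClosedImmersion U.ι := by
    refine IsClosedImmersion.of_isPreimmersion _ ?_
    rw [Scheme.Opens.range_ι]
    exact isClosed_closure
  have hfib : (U.ι ≫ X.hom) ⁻¹' {genericPoint S} ⊆ {(⟨l, subset_closure rfl⟩ : U)} := by
    intro u hu
    apply Subtype.ext
    exact generic_fibre_closure X.hom l u.1 hl hu u.2
  haveI hfin : IsFinite (U.ι ≫ X.hom) := isFinite_of_clopen_irr X U.ι hS hX
    ⟨genericPoint S, (Set.finite_singleton _).subset hfib⟩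
  refine ⟨U, rfl, isClosed_closure, hfin, inferInstance, ?_⟩
  constructor
  intro s
  have hcl : IsClosed (Set.range (U.ι ≫ X.hom)) := (U.ι ≫ X.hom).isClosedMap.isClosed_range
  have hη : genericPoint S ∈ Set.range (U.ι ≫ X.hom) := ⟨⟨l, subset_closure rfl⟩, hl⟩
  have hs : s ∈ closure ({genericPoint S} : Set S) :=
    specializes_iff_mem_closure.mp (genericPoint_specializes s)
  exact (hcl.closure_subset_iff.mpr (Set.singleton_subset_iff.mpr hη)) hs

theorem part3 (σ₁ σ₂ : S ⟶ X.left) (h₁ : σ₁ ≫ X.hom = 𝟙 S) (h₂ : σ₂ ≫ X.hom = 𝟙 S)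
    (h : S.fromSpecResidueField (genericPoint S) ≫ σ₁ =
      S.fromSpecResidueField (genericPoint S) ≫ σ₂) : σ₁ = σ₂ := by
  haveI : Etale X.hom := etale_of_isTwConst X hX
  haveI : IsSeparated X.hom := isSeparated_of_isTwConst X hX
  obtain ⟨Z, j, hjo, hjc, hjeq, hjuniv⟩ :=
    Groth.Agent.Lib.T2H3.TwConstFppf.exists_eqLocus X.hom σ₁ σ₂ (by rw [h₁, h₂])
  obtain ⟨t, ht⟩ := hjuniv _ (S.fromSpecResidueField (genericPoint S)) h
  have hη : genericPoint S ∈ Set.range j := by
    let pt : Spec (S.residueField (genericPoint S)) :=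
      IsLocalRing.closedPoint (S.residueField (genericPoint S))
    refine ⟨t pt, ?_⟩
    rw [← Scheme.Hom.comp_apply, ht]
    exact Scheme.fromSpecResidueField_apply _ _
  have hcl : IsClosed (Set.range j) := j.isClosedEmbedding.isClosed_range
  haveI : Surjective j := by
    constructor
    intro s
    have hs : s ∈ closure ({genericPoint S} : Set S) :=
      specializes_iff_mem_closure.mp (genericPoint_specializes s)
    exact (hcl.closure_subset_iff.mpr (Set.singleton_subset_iff.mpr hη)) hs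
  haveI : Epi j.base := (TopCat.epi_iff_surjective _).mpr j.surjective
  haveI : IsIso j := IsOpenImmersion.isIso j
  exact (cancel_epi j).mp hjeq

open Groth.Agent.Lib.Helper12.QuotGrp in
theorem part4 (τ : Spec (S.residueField (genericPoint S)) ⟶ X.left)
    (hτ : τ ≫ X.hom = S.fromSpecResidueField (genericPoint S)) :
    ∃ σ : S ⟶ X.left, σ ≫ X.hom = 𝟙 S ∧ S.fromSpecResidueField (genericPoint S) ≫ σ = τ := by
  haveI hXet : Etale X.hom := etale_of_isTwConst X hX
  let K : Type u := S.residueField (genericPoint S)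
  let pt : Spec (S.residueField (genericPoint S)) := IsLocalRing.closedPoint K
  let l : X.left := τ pt
  have hl : X.hom l = genericPoint S := by
    change X.hom (τ pt) = _
    rw [← Scheme.Hom.comp_apply, hτ]
    exact Scheme.fromSpecResidueField_apply _ _
  obtain ⟨U, hU, hUcl, hfin, het, hsurj⟩ := part2 hS X hX l hl
  haveI := hfin
  haveI := het
  haveI := hsurj
  obtain ⟨π, hπ⟩ : ∃ π : (U : Scheme.{u}) ⟶ S, π = U.ι ≫ X.hom := ⟨_, rfl⟩
  haveI : IsFinite π := by rw [hπ]; infer_instance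
  haveI : Etale π := by rw [hπ]; infer_instance
  haveI : Surjective π := by rw [hπ]; infer_instance
  have hlU : l ∈ U := by
    change l ∈ (U : Set X.left)
    rw [hU]
    exact subset_closure rfl
  -- `τ` factors through `U`
  have hrange : Set.range τ ⊆ Set.range U.ι := by
    rw [Scheme.Opens.range_ι]
    rintro _ ⟨y, rfl⟩
    have : y = pt := Subsingleton.elim _ _
    rw [this]
    exact hlU
  obtain ⟨τ', hτ'⟩ : ∃ τ' : Spec (S.residueField (genericPoint S)) ⟶ (U : Scheme.{u}),
      τ' ≫ U.ι = τ := ⟨_, IsOpenImmersion.lift_fac U.ι τ hrange⟩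
  have hτ'π : τ' ≫ π = S.fromSpecResidueField (genericPoint S) := by
    rw [hπ, ← Category.assoc, hτ', hτ]
  have hτ'pt : τ' pt = ⟨l, hlU⟩ := by
    apply Subtype.ext
    change U.ι (τ' pt) = l
    rw [← Scheme.Hom.comp_apply, hτ']
  -- uniqueness of the point over the generic point
  have huniq : ∀ v : (U : Scheme.{u}), π v = genericPoint S → v = ⟨l, hlU⟩ := by
    intro v hv
    apply Subtype.ext
    refine generic_fibre_closure X.hom l v.1 hl ?_ ?_
    · rw [hπ] at hv
      exact hv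
    · rw [← hU]
      exact v.2
  have hpiV : ∀ v : (U : Scheme.{u}), π v = genericPoint S →
      (π.residueFieldMap v).hom.IsPurelyInseparable := by
    intro v hv
    obtain rfl := (huniq v hv).trans hτ'pt.symm
    exact Groth.Agent.Lib.T2H3.TwConstFppf.isPurelyInseparable_of_bijective _
      (residueFieldMap_bijective_of_lift π (genericPoint S) τ' hτ'π)
  have hdiag : ∀ z : ↥(pullback π π), π (pullback.fst π π z) = genericPoint S →
      z ∈ Set.range (pullback.diagonal π) := by
    intro z hz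
    let K' : Type u := (pullback π π).residueField z
    let ζ : Spec (.of K') ⟶ pullback π π := (pullback π π).fromSpecResidueField z
    have hζ : ζ (IsLocalRing.closedPoint K') = z := Scheme.fromSpecResidueField_apply _ _
    have hz2 : π (pullback.snd π π z) = genericPoint S := by
      rw [← hz, ← Scheme.Hom.comp_apply, ← Scheme.Hom.comp_apply, pullback.condition]
    have h12 : pullback.fst π π z = pullback.snd π π z := (huniq _ hz).trans (huniq _ hz2).symm
    have key : ζ ≫ pullback.fst π π = ζ ≫ pullback.snd π π := by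
      refine Groth.Agent.Lib.T2H3.TwConstFppf.eq_of_comp_eq_of_isPurelyInseparable π K' _ _
        ?_ ?_ ?_
      · rw [Scheme.Hom.comp_apply, Scheme.Hom.comp_apply, hζ, h12]
      · apply hpiV
        have h3 : (ζ ≫ pullback.fst π π) (IsLocalRing.closedPoint K') = pullback.fst π π z := by
          rw [Scheme.Hom.comp_apply, hζ]
        rw [h3]
        exact hz
      · rw [Category.assoc, Category.assoc, pullback.condition]
    have h5 : ζ = (ζ ≫ pullback.fst π π) ≫ pullback.diagonal π := by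
      apply pullback.hom_ext
      · rw [Category.assoc, pullback.diagonal_fst, Category.comp_id]
      · rw [Category.assoc, pullback.diagonal_snd, Category.comp_id, key]
    refine ⟨(ζ ≫ pullback.fst π π) (IsLocalRing.closedPoint K'), ?_⟩
    rw [← Scheme.Hom.comp_apply, ← h5, hζ]
  -- the diagonal is surjective
  haveI : IsSeparated π := inferInstance
  have hdo : IsOpenImmersion (pullback.diagonal π) := inferInstance
  have hdc : IsClosedImmersion (pullback.diagonal π) := IsSeparated.isClosedImmersion_diagonal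
  have hdcl : IsClosed (Set.range (pullback.diagonal π)) :=
    (pullback.diagonal π).isClosedEmbedding.isClosed_range
  haveI : Etale (pullback.fst π π ≫ π) := inferInstance
  have hdsurj : ∀ z : ↥(pullback π π), z ∈ Set.range (pullback.diagonal π) := by
    intro z
    obtain ⟨l', hl', hl'z⟩ := exists_generic_specializes (pullback.fst π π ≫ π) z
    have h1 : l' ∈ Set.range (pullback.diagonal π) := hdiag l' hl'
    exact hl'z.mem_closed hdcl h1
  -- `π` is a monomorphism
  have hmono : ∀ {T : Scheme.{u}} (g₁ g₂ : T ⟶ (U : Scheme.{u})), g₁ ≫ π = g₂ ≫ π → g₁ = g₂ := by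
    intro T g₁ g₂ hg
    let t : T ⟶ pullback π π := pullback.lift g₁ g₂ hg
    have ht1 : t ≫ pullback.fst π π = g₁ := pullback.lift_fst _ _ _
    have ht2 : t ≫ pullback.snd π π = g₂ := pullback.lift_snd _ _ _
    have ht : Set.range t ⊆ Set.range (pullback.diagonal π) := fun y _ => hdsurj y
    have hl := IsOpenImmersion.lift_fac (pullback.diagonal π) t ht
    rw [← ht1, ← ht2, ← hl, Category.assoc, Category.assoc, pullback.diagonal_fst,
      pullback.diagonal_snd]
  have hEE : EffectiveEpi π := effectiveEpi_of_factor π π (𝟙 _) (Category.id_comp _)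
    (Scheme.fppfPrecoverage_le_fpqcPrecoverage _ (Scheme.Hom.singleton_mem_fppfPrecoverage π))
  let σ : S ⟶ X.left := EffectiveEpi.desc π U.ι (fun g₁ g₂ hg => by rw [hmono g₁ g₂ hg])
  have hσ : π ≫ σ = U.ι := EffectiveEpi.fac _ _ _
  refine ⟨σ, ?_, ?_⟩
  · have : Epi π := inferInstance
    rw [← cancel_epi π, ← Category.assoc, hσ, Category.comp_id, hπ]
  · rw [← hτ'π, Category.assoc, hσ, hτ']

omit hS hX

end PartC

end Groth.Agent.Lib.T2H3.TwConstIrr
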