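import Mathlib
import Groth.Agent.Lib.Helper19EtPoly
import Groth.Agent.Lib.Helper5IntDim
import Groth.Agent.Lib.Helper28Catenary

/-!
# Counting the points of a fibre of a finite unramified extension of a regular domain
-/

set_option autoImplicit false
set_option linter.style.haveILetI false
universe u

namespace Groth.Agent.Lib.T2H3.UnramCount

open IsLocalRing

variable (A B : Type u) [CommRing A] [CommRing B] [IsDomain A] [IsDomain B] [Algebra A B]
  [Module.Finite A B] [FaithfulSMul A B] [Algebra.FormallyUnramified A B] [IsNoetherianRing A]
  (hreg : ∀ (𝔮 : Ideal A) [𝔮.IsPrime], IsRegularLocalRing (Localization.AtPrime 𝔮))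

include hreg

theorem isIntegrallyClosed_of_regular : IsIntegrallyClosed A := by
  apply IsIntegrallyClosed.of_localization_maximal
  intro P _ hP
  haveI := hP
  haveI : P.IsPrime := hP.isPrime
  haveI := hreg P
  exact Groth.Agent.Lib.Helper28.isIntegrallyClosed_of_isRegularLocalRing _

theorem flat_of_unramified_regular : Module.Flat A B := by
  haveI : IsIntegrallyClosed A := isIntegrallyClosed_of_regular A hreg
  haveI : IsNoetherianRing B := IsNoetherianRing.of_finite A B
  refine Module.flat_of_isLocalized_maximal B B (fun P _ => Localization.AtPrime P)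
    (fun P _ => Algebra.linearMap B (Localization.AtPrime P)) ?_
  intro P hP
  haveI : P.IsPrime := hP.isPrime
  haveI : (P.under A).IsPrime := inferInstance
  haveI : P.LiesOver (P.under A) := ⟨rfl⟩
  letI := Localization.AtPrime.algebraOfLiesOver (P.under A) P
  haveI : IsLocalHom (algebraMap (Localization.AtPrime (P.under A)) (Localization.AtPrime P)) :=
    Localization.isLocalHom_localRingHom _ _ _ Ideal.LiesOver.over
  haveI : IsRegularLocalRing (Localization.AtPrime (P.under A)) := hreg (P.under A)
  haveI : Algebra.EssFiniteType A (Localization.AtPrime P) := Algebra.EssFiniteType.comp A B _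
  haveI : Algebra.EssFiniteType (Localization.AtPrime (P.under A)) (Localization.AtPrime P) :=
    Algebra.EssFiniteType.of_comp A _ _
  haveI : Algebra.FormallyUnramified A (Localization.AtPrime P) :=
    Algebra.FormallyUnramified.comp A B _
  haveI : Algebra.FormallyUnramified (Localization.AtPrime (P.under A)) (Localization.AtPrime P) :=
    .of_restrictScalars A _ _
  have hht : P.height = (P.under A).height :=
    le_antisymm (Groth.Agent.Lib.Helper5.height_le_height_under_of_isIntegral P)
      (Groth.Agent.Lib.Helper5.height_le_height_of_liesOver_of_hasGoingDown (P.under A) P)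
  have hdim : ringKrullDim (Localization.AtPrime P) =
      ringKrullDim (Localization.AtPrime (P.under A)) := by
    rw [IsLocalization.AtPrime.ringKrullDim_eq_height P,
      IsLocalization.AtPrime.ringKrullDim_eq_height (P.under A), hht]
  haveI := Groth.Agent.Lib.Helper19.EtPoly.flat_of_formallyUnramified_of_dim_eq
    (Localization.AtPrime (P.under A)) (Localization.AtPrime P) hdim
  exact Module.Flat.trans A (Localization.AtPrime (P.under A)) (Localization.AtPrime P)

theorem card_primesOver (𝔭 : Ideal A) [𝔭.IsPrime]
    (hf : ∀ q : 𝔭.primesOver B, q.1.inertiaDeg A = 1) :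
    Nat.card (𝔭.primesOver B) = Module.finrank A B := by
  haveI : Module.Flat A B := flat_of_unramified_regular A B hreg
  haveI : Finite (𝔭.primesOver B) := Algebra.QuasiFinite.finite_primesOver 𝔭
  letI : Fintype (𝔭.primesOver B) := Fintype.ofFinite _
  rw [← Ideal.sum_ramification_inertia_eq_finrank 𝔭 B, Nat.card_eq_fintype_card,
    ← Finset.card_univ, Finset.card_eq_sum_ones]
  refine Finset.sum_congr rfl fun q _ => ?_
  haveI : q.1.IsPrime := q.2.1
  rw [hf q, Ideal.ramificationIdx_eq_one q.1 A]

end Groth.Agent.Lib.T2H3.UnramCount
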