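import Mathlib

/-!
# Unramified morphisms over a field: reduced and discrete (helper3, team 2)

* `isReduced_and_discrete_of_formallyUnramified`: a formally unramified morphism locally of finite
  type to the spectrum of a field has reduced, discrete source.
* `formallyUnramified_of_isReduced_of_discrete`: over an algebraically closed field, a scheme locally
  of finite type which is reduced with discrete underlying space is (formally) unramified.
-/

set_option autoImplicit false
set_option linter.style.haveILetI false
universe u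

namespace Groth.Agent.Lib.T2H3.UnramGeomFib

open CategoryTheory CategoryTheory.Limits AlgebraicGeometry

/-- Ring-level consequence of formal unramifiedness of `Spec R ⟶ Spec K`. -/
theorem isReduced_and_isArtinianRing {K : Type u} [Field K] (R : CommRingCat.{u})
    (h : Spec R ⟶ Spec (CommRingCat.of K)) [FormallyUnramified h] [hft : LocallyOfFiniteType h] :
    _root_.IsReduced R ∧ IsArtinianRing R := by
  obtain ⟨ψ, hψ⟩ : ∃ ψ : CommRingCat.of K ⟶ R, Spec.map ψ = h :=
    ⟨Spec.preimage h, Spec.map_preimage h⟩
  have hfu : FormallyUnramified (Spec.map ψ) := hψ ▸ inferInstance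
  rw [HasRingHomProperty.Spec_iff (P := @FormallyUnramified)] at hfu
  letI : Algebra K R := ψ.hom.toAlgebra
  haveI : Algebra.FormallyUnramified K R := hfu
  have hft' : LocallyOfFiniteType (Spec.map ψ) := hψ ▸ hft
  rw [HasRingHomProperty.Spec_iff (P := @LocallyOfFiniteType)] at hft'
  haveI : Algebra.FiniteType K R := hft'
  haveI := Algebra.FormallyUnramified.finite_of_free K R
  exact ⟨Algebra.FormallyUnramified.isReduced_of_field K R, isArtinian_of_tower K inferInstance⟩

theorem isReduced_and_isLocallyArtinian_of_isAffine {K : Type u} [Field K] {W : Scheme.{u}}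
    [IsAffine W] (h : W ⟶ Spec (CommRingCat.of K)) [FormallyUnramified h]
    [LocallyOfFiniteType h] : IsReduced W ∧ IsLocallyArtinian W := by
  haveI : FormallyUnramified (W.isoSpec.inv ≫ h) :=
    MorphismProperty.comp_mem _ _ _ inferInstance inferInstance
  haveI : LocallyOfFiniteType (W.isoSpec.inv ≫ h) := inferInstance
  obtain ⟨h1, h2⟩ := isReduced_and_isArtinianRing (K := K) Γ(W, ⊤) (W.isoSpec.inv ≫ h)
  haveI := h1
  haveI := h2
  haveI : IsLocallyArtinian (Spec Γ(W, ⊤)) := Scheme.isLocallyArtinianScheme_Spec.mpr inferInstance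
  exact ⟨isReduced_of_isOpenImmersion W.isoSpec.hom, .of_isImmersion W.isoSpec.hom⟩

theorem isReduced_and_discrete_of_formallyUnramified {K : Type u} [Field K] {Z : Scheme.{u}}
    (g : Z ⟶ Spec (CommRingCat.of K)) [LocallyOfFiniteType g] [FormallyUnramified g] :
    IsReduced Z ∧ DiscreteTopology Z := by
  have key : ∀ i : Z.affineCover.I₀, IsReduced (Z.affineCover.X i) ∧
      IsLocallyArtinian (Z.affineCover.X i) := by
    intro i
    haveI : FormallyUnramified (Z.affineCover.f i ≫ g) :=
      MorphismProperty.comp_mem _ _ _ inferInstance inferInstance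
    exact isReduced_and_isLocallyArtinian_of_isAffine (Z.affineCover.f i ≫ g)
  haveI : ∀ i, IsReduced (Z.affineCover.X i) := fun i => (key i).1
  haveI : IsLocallyArtinian Z := (isLocallyArtinian_iff_openCover Z.affineCover).mpr
    fun i => (key i).2
  exact ⟨IsReduced.of_openCover Z Z.affineCover, inferInstance⟩

/-- A reduced one-point scheme locally of finite type over an algebraically closed field is
unramified over it. -/
theorem formallyUnramified_of_subsingleton {K : Type u} [Field K] [IsAlgClosed K] {W : Scheme.{u}}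
    (h : W ⟶ Spec (CommRingCat.of K)) [LocallyOfFiniteType h] [IsReduced W] [Subsingleton W]
    [Nonempty W] : FormallyUnramified h := by
  haveI : IsIntegral W := (isIntegral_iff_irreducibleSpace_and_isReduced _).mpr
    ⟨⟨inferInstance⟩, inferInstance⟩
  have hL := isField_of_isIntegral_of_subsingleton W
  -- pass to `Spec Γ(W, ⊤)`
  have hiff : FormallyUnramified h ↔ FormallyUnramified (W.isoSpec.inv ≫ h) :=
    (MorphismProperty.cancel_left_of_respectsIso (P := @FormallyUnramified) W.isoSpec.inv h).symm
  rw [hiff]
  haveI : LocallyOfFiniteType (W.isoSpec.inv ≫ h) := inferInstance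
  obtain ⟨ψ, hψ⟩ : ∃ ψ : CommRingCat.of K ⟶ Γ(W, ⊤), Spec.map ψ = W.isoSpec.inv ≫ h :=
    ⟨Spec.preimage _, Spec.map_preimage _⟩
  rw [← hψ, HasRingHomProperty.Spec_iff (P := @FormallyUnramified)]
  have hft : LocallyOfFiniteType (Spec.map ψ) := hψ ▸ inferInstance
  rw [HasRingHomProperty.Spec_iff (P := @LocallyOfFiniteType)] at hft
  letI : Field Γ(W, ⊤) := hL.toField
  letI : Algebra K Γ(W, ⊤) := ψ.hom.toAlgebra
  haveI : Algebra.FiniteType K Γ(W, ⊤) := hft
  haveI : Module.Finite K Γ(W, ⊤) := finite_of_finite_type_of_isJacobsonRing K Γ(W, ⊤)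
  have hbij : Function.Bijective (algebraMap K Γ(W, ⊤)) :=
    IsAlgClosed.algebraMap_bijective_of_isIntegral
  exact RingHom.FormallyUnramified.of_surjective hbij.2

theorem formallyUnramified_of_isReduced_of_discrete {K : Type u} [Field K] [IsAlgClosed K]
    {Z : Scheme.{u}} (g : Z ⟶ Spec (CommRingCat.of K)) [LocallyOfFiniteType g] [IsReduced Z]
    [DiscreteTopology Z] : FormallyUnramified g := by
  let 𝒰 : Z.OpenCover := Z.openCoverOfIsOpenCover
    (fun x : Z ↦ ⟨{x}, isOpen_discrete _⟩) (.mk (by ext; simp))
  rw [IsZariskiLocalAtSource.iff_of_openCover (P := @FormallyUnramified) 𝒰]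
  intro i
  haveI : IsReduced (𝒰.X i) := isReduced_of_isOpenImmersion (𝒰.f i)
  haveI : Subsingleton (𝒰.X i) := inferInstanceAs (Subsingleton ({i} : Set Z))
  haveI : Nonempty (𝒰.X i) := inferInstanceAs (Nonempty ({i} : Set Z))
  exact formallyUnramified_of_subsingleton (𝒰.f i ≫ g)

end Groth.Agent.Lib.T2H3.UnramGeomFib
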