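import Mathlib
import Groth.Agent.Lib.T2H3UnramCount
import Groth.Agent.Lib.T2H3FibrePrimes
import Groth.Agent.Lib.T2H3InertiaOne
import Groth.Agent.Lib.Helper4VarDim4
import Groth.Agent.Lib.Helper4RectDepthB

/-!
# Fibres of finite unramified morphisms of smooth varieties over an algebraically closed field
-/

set_option autoImplicit false
set_option linter.style.haveILetI false
universe u

open CategoryTheory CategoryTheory.Limits AlgebraicGeometry

namespace Groth.Agent.Lib.T2H3.UnramSch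

attribute [local instance] Groth.Agent.Lib.Helper4.VarDim.sectionsAlgebra

theorem isMaximal_primeIdealOf {X : Scheme.{u}} {U : X.Opens} (hU : IsAffineOpen U) (p : X)
    (hpU : p ∈ U) (hp : IsClosed ({p} : Set X)) :
    (hU.primeIdealOf ⟨p, hpU⟩).asIdeal.IsMaximal := by
  rw [← PrimeSpectrum.isClosed_singleton_iff_isMaximal]
  have h1 : ({hU.primeIdealOf ⟨p, hpU⟩} : Set (PrimeSpectrum Γ(X, U))) =
      hU.fromSpec ⁻¹' {p} := by
    ext q
    simp only [Set.mem_singleton_iff]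
    show q = _ ↔ hU.fromSpec q = p
    constructor
    · rintro rfl
      exact hU.fromSpec_primeIdealOf ⟨p, hpU⟩
    · intro hq
      apply hU.fromSpec.isOpenEmbedding.injective
      rw [hq, hU.fromSpec_primeIdealOf ⟨p, hpU⟩]
  rw [h1]
  exact hp.preimage hU.fromSpec.continuous

theorem natCard_fibre (k : Type u) [Field k] [IsAlgClosed k]
    (X Y : Scheme.{u}) [X.Over (Spec (CommRingCat.of k))] [Y.Over (Spec (CommRingCat.of k))]
    [IsIntegral X] [IsIntegral Y]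
    [LocallyOfFiniteType (X ↘ (Spec (CommRingCat.of k)))]
    [LocallyOfFiniteType (Y ↘ (Spec (CommRingCat.of k)))]
    (hregX : ∀ x : X, IsRegularLocalRing (X.presheaf.stalk x))
    (π : Y ⟶ X) (hπ : π ≫ (X ↘ (Spec (CommRingCat.of k))) = (Y ↘ (Spec (CommRingCat.of k))))
    [AlgebraicGeometry.IsFinite π] [AlgebraicGeometry.Surjective π]
    [AlgebraicGeometry.FormallyUnramified π]
    (p : X) (hp : IsClosed ({p} : Set X)) (U : X.Opens) (hU : IsAffineOpen U) (hpU : p ∈ U) :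
    letI : Algebra Γ(X, U) Γ(Y, π ⁻¹ᵁ U) := (π.app U).hom.toAlgebra
    Nat.card {q : Y // π.base q = p} = Module.finrank Γ(X, U) Γ(Y, π ⁻¹ᵁ U) := by
  have hV : IsAffineOpen (π ⁻¹ᵁ U) := hU.preimage π
  letI : Algebra Γ(X, U) Γ(Y, π ⁻¹ᵁ U) := (π.app U).hom.toAlgebra
  have hfib := Groth.Agent.Lib.T2H3.FibrePrimes.natCard_fibre_eq π p U hU hpU
  rw [hfib]
  haveI : Nonempty U := ⟨⟨p, hpU⟩⟩
  obtain ⟨q₀, hq₀⟩ := π.surjective p
  haveI : Nonempty (π ⁻¹ᵁ U) := ⟨⟨q₀, by change π q₀ ∈ U; rw [hq₀]; exact hpU⟩⟩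
  haveI : Module.Finite Γ(X, U) Γ(Y, π ⁻¹ᵁ U) := π.finite_app U hU
  haveI : IsSchemeTheoreticallyDominant π := .of_isDominant π
  haveI : FaithfulSMul Γ(X, U) Γ(Y, π ⁻¹ᵁ U) :=
    (faithfulSMul_iff_algebraMap_injective _ _).mpr (π.app_injective U)
  haveI : Algebra.FormallyUnramified Γ(X, U) Γ(Y, π ⁻¹ᵁ U) := by
    have := HasRingHomProperty.appLE (P := @FormallyUnramified) π inferInstance ⟨U, hU⟩
      ⟨π ⁻¹ᵁ U, hV⟩ le_rfl
    rw [← Scheme.Hom.app_eq_appLE] at this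
    exact this
  haveI : IsLocallyNoetherian X :=
    LocallyOfFiniteType.isLocallyNoetherian (X ↘ (Spec (CommRingCat.of k)))
  haveI : IsNoetherianRing Γ(X, U) := IsLocallyNoetherian.component_noetherian ⟨U, hU⟩
  have hregA := Groth.Agent.Lib.Helper4.RectDepth.isRegularRing_sections hregX hU
  rw [isRegularRing_iff] at hregA
  haveI hmax := isMaximal_primeIdealOf hU p hpU hp
  refine Groth.Agent.Lib.T2H3.UnramCount.card_primesOver Γ(X, U) Γ(Y, π ⁻¹ᵁ U)
    (fun 𝔮 h𝔮 => hregA 𝔮) _ ?_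
  rintro ⟨P, hP, hPo⟩
  haveI := hPo
  haveI := hP
  haveI : P.IsMaximal := Ideal.IsMaximal.of_liesOver_isMaximal P (hU.primeIdealOf ⟨p, hpU⟩).asIdeal
  haveI : Algebra.FiniteType k Γ(Y, π ⁻¹ᵁ U) :=
    Groth.Agent.Lib.Helper4.VarDim.finiteType_sections k Y hV
  haveI : IsScalarTower k Γ(X, U) Γ(Y, π ⁻¹ᵁ U) := by
    refine IsScalarTower.of_algebraMap_eq' ?_
    change ((Scheme.ΓSpecIso (CommRingCat.of k)).inv ≫
        (Y ↘ Spec (CommRingCat.of k)).appLE ⊤ (π ⁻¹ᵁ U) le_top).hom =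
      (π.app U).hom.comp ((Scheme.ΓSpecIso (CommRingCat.of k)).inv ≫
        (X ↘ Spec (CommRingCat.of k)).appLE ⊤ U le_top).hom
    rw [← CommRingCat.hom_comp]
    congr 1
    rw [Category.assoc]
    congr 1
    rw [π.app_eq_appLE, Scheme.Hom.appLE_comp_appLE]
    simp only [hπ]
  exact Groth.Agent.Lib.T2H3.InertiaOne.inertiaDeg_eq_one_of_isAlgClosed k Γ(X, U) Γ(Y, π ⁻¹ᵁ U)
    (hU.primeIdealOf ⟨p, hpU⟩).asIdeal P

theorem finrank_eq_homDegree (X Y : Scheme.{u}) [IsIntegral X] [IsIntegral Y] (π : Y ⟶ X)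
    [IsAffineHom π]
    (e : π.base (genericPoint Y) = genericPoint X) (U : X.Opens) (hU : IsAffineOpen U)
    [Nonempty U] [Nonempty (π ⁻¹ᵁ U)] :
    letI : Algebra Γ(X, U) Γ(Y, π ⁻¹ᵁ U) := (π.app U).hom.toAlgebra
    letI : Algebra (X.presheaf.stalk (genericPoint X)) (Y.presheaf.stalk (genericPoint Y)) :=
      (X.presheaf.stalkSpecializes (specializes_of_eq e) ≫ π.stalkMap (genericPoint Y)).hom.toAlgebra
    Module.finrank Γ(X, U) Γ(Y, π ⁻¹ᵁ U) =
      Module.finrank (X.presheaf.stalk (genericPoint X)) (Y.presheaf.stalk (genericPoint Y)) := by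
  have hV : IsAffineOpen (π ⁻¹ᵁ U) := hU.preimage π
  letI : Algebra Γ(X, U) Γ(Y, π ⁻¹ᵁ U) := (π.app U).hom.toAlgebra
  letI : Algebra (X.presheaf.stalk (genericPoint X)) (Y.presheaf.stalk (genericPoint Y)) :=
    (X.presheaf.stalkSpecializes (specializes_of_eq e) ≫ π.stalkMap (genericPoint Y)).hom.toAlgebra
  haveI : IsFractionRing Γ(X, U) X.functionField := functionField_isFractionRing_of_isAffineOpen X U hU
  haveI : IsFractionRing Γ(Y, π ⁻¹ᵁ U) Y.functionField :=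
    functionField_isFractionRing_of_isAffineOpen Y _ hV
  letI : Algebra Γ(X, U) Y.functionField :=
    ((algebraMap Γ(Y, π ⁻¹ᵁ U) Y.functionField).comp (algebraMap Γ(X, U) Γ(Y, π ⁻¹ᵁ U))).toAlgebra
  haveI : IsScalarTower Γ(X, U) Γ(Y, π ⁻¹ᵁ U) Y.functionField :=
    IsScalarTower.of_algebraMap_eq' rfl
  haveI : IsScalarTower Γ(X, U) X.functionField Y.functionField := by
    refine IsScalarTower.of_algebraMap_eq' ?_
    change (π.app U ≫ Y.germToFunctionField (π ⁻¹ᵁ U)).hom =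
      (X.germToFunctionField U ≫ X.presheaf.stalkSpecializes (specializes_of_eq e) ≫
        π.stalkMap (genericPoint Y)).hom
    congr 1
    unfold Scheme.germToFunctionField
    rw [TopCat.Presheaf.germ_stalkSpecializes_assoc, Scheme.Hom.germ_stalkMap]
  exact (IsFractionRing.finrank_eq Γ(X, U) X.functionField Γ(Y, π ⁻¹ᵁ U) Y.functionField).symm

end Groth.Agent.Lib.T2H3.UnramSch
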