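import Mathlib
import Groth.Prelude.Def_CAlg2
import Groth.Agent.Lib.Helper3IrrTopE
import Groth.Agent.Lib.T2H3TwConstIrr
import Groth.Agent.Lib.Helper20FinHom

/-!
# Sections of unramified separated morphisms over geometrically unibranch points
-/

set_option autoImplicit false
set_option linter.style.haveILetI false
set_option linter.unusedSectionVars false
universe u

namespace Groth.Agent.Lib.T2H3.UnramSec

open CategoryTheory AlgebraicGeometry Limits TopologicalSpace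
open Groth.Agent.Lib.Helper3.IrrTop Groth.Agent.Lib.Helper3.EtGUSch
open Groth.Agent.Lib.T2H3.TwConstIrr

/-- pointwise uniqueness of the generic point specialising to a point whose local ring has prime
nilradical. -/
theorem generic_unique_at {X Y : Scheme.{u}} (f : X ⟶ Y) [IrreducibleSpace Y]
    [LocallyQuasiFinite f] (x : X) (hmin : (nilradical (X.presheaf.stalk x)).IsPrime)
    (ξ ξ' : X) (hξ : f ξ = genericPoint Y) (hξ' : f ξ' = genericPoint Y)
    (h : ξ ⤳ x) (h' : ξ' ⤳ x) : ξ = ξ' := by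
  let K : PrimeSpectrum (X.presheaf.stalk x) := ⟨nilradical _, hmin⟩
  suffices key : ∀ ζ : X, f ζ = genericPoint Y → ζ ⤳ x → ζ = X.fromSpecStalk x K by
    rw [key ξ hξ h, key ξ' hξ' h']
  intro ζ hζ hs
  obtain ⟨P, rfl⟩ : ζ ∈ Set.range (X.fromSpecStalk x) := by
    rw [Scheme.range_fromSpecStalk]; exact hs
  have hKP : K ⤳ P := by
    rw [← PrimeSpectrum.le_iff_specializes]
    show nilradical _ ≤ P.asIdeal
    exact nilradical_le_prime P.asIdeal
  have h2 : X.fromSpecStalk x K ⤳ X.fromSpecStalk x P := hKP.map (X.fromSpecStalk x).continuous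
  have h3 : f (X.fromSpecStalk x K) = f (X.fromSpecStalk x P) := by
    have h4 : f (X.fromSpecStalk x K) ⤳ f (X.fromSpecStalk x P) := h2.map f.continuous
    rw [hζ] at h4 ⊢
    exact (h4.antisymm ((genericPoint_spec Y).specializes (Set.mem_univ _))).eq
  exact (eq_of_specializes_of_fiber f h2 h3).symm

/-- the equaliser of two morphisms to a separated scheme with open diagonal is open and closed. -/
theorem exists_eqLocus' {W Y' U : Scheme.{u}} (p : Y' ⟶ U) [IsSeparated p]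
    [IsOpenImmersion (pullback.diagonal p)]
    (a b : W ⟶ Y') (hab : a ≫ p = b ≫ p) :
    ∃ (Z : Scheme.{u}) (j : Z ⟶ W), IsOpenImmersion j ∧ IsClosedImmersion j ∧ j ≫ a = j ≫ b ∧
      ∀ (T : Scheme.{u}) (t : T ⟶ W), t ≫ a = t ≫ b → ∃ l : T ⟶ Z, l ≫ j = t := by
  let c : W ⟶ pullback p p := pullback.lift a b hab
  have hc1 : c ≫ pullback.fst p p = a := pullback.lift_fst _ _ _
  have hc2 : c ≫ pullback.snd p p = b := pullback.lift_snd _ _ _
  have hdo : IsOpenImmersion (pullback.diagonal p) := inferInstance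
  have hdc : IsClosedImmersion (pullback.diagonal p) := IsSeparated.isClosedImmersion_diagonal
  refine ⟨pullback (pullback.diagonal p) c, pullback.snd _ _, inferInstance, inferInstance, ?_, ?_⟩
  · have h1 : pullback.snd (pullback.diagonal p) c ≫ c =
        pullback.fst _ _ ≫ pullback.diagonal p := pullback.condition.symm
    rw [← hc1, ← hc2, ← Category.assoc, ← Category.assoc, h1, Category.assoc, Category.assoc,
      pullback.diagonal_fst, pullback.diagonal_snd]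
  · intro T t ht
    refine ⟨pullback.lift (t ≫ a) t ?_, pullback.lift_snd _ _ _⟩
    apply pullback.hom_ext
    · rw [Category.assoc, pullback.diagonal_fst, Category.comp_id, Category.assoc, hc1]
    · rw [Category.assoc, pullback.diagonal_snd, Category.comp_id, Category.assoc, hc2, ht]

/-- two sections of a separated morphism with open diagonal over a scheme with a "generic" point
agree as soon as they agree at that point. -/
theorem section_ext_generic {X Y O : Scheme.{u}} (f : X ⟶ Y) [IsSeparated f]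
    [IsOpenImmersion (pullback.diagonal f)] (s₁ s₂ : O ⟶ X) (h : s₁ ≫ f = s₂ ≫ f)
    (g : O) (hg : ∀ w : O, g ⤳ w) {T : Scheme.{u}} (t : T ⟶ O) (ht : g ∈ Set.range t)
    (hts : t ≫ s₁ = t ≫ s₂) : s₁ = s₂ := by
  obtain ⟨Z, j, hjo, hjc, hjeq, hjuniv⟩ := exists_eqLocus' f s₁ s₂ h
  obtain ⟨l, hl⟩ := hjuniv _ t hts
  have hgj : g ∈ Set.range j := by
    obtain ⟨a, ha⟩ := ht
    exact ⟨l a, by rw [← Scheme.Hom.comp_apply, hl, ha]⟩
  have hcl : IsClosed (Set.range j) := j.isClosedEmbedding.isClosed_range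
  haveI : Surjective j := ⟨fun w => (hg w).mem_closed hcl hgj⟩
  haveI : Epi j.base := (TopCat.epi_iff_surjective _).mpr j.surjective
  haveI : IsIso j := IsOpenImmersion.isIso j
  exact (cancel_epi j).mp hjeq

/-- an étale separated morphism to an irreducible scheme whose generic fibre is a single point
with purely inseparable residue field extension is a monomorphism. -/
theorem mono_of_generic_degree_one {U S : Scheme.{u}} [IrreducibleSpace S] (π : U ⟶ S) [Etale π]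
    [IsSeparated π] (l : U) (huniq : ∀ v : U, π v = genericPoint S → v = l)
    (hpi : (π.residueFieldMap l).hom.IsPurelyInseparable)
    {T : Scheme.{u}} (g₁ g₂ : T ⟶ U) (hg : g₁ ≫ π = g₂ ≫ π) : g₁ = g₂ := by
  have hpiV : ∀ v : U, π v = genericPoint S →
      (π.residueFieldMap v).hom.IsPurelyInseparable := by
    intro v hv
    obtain rfl := huniq v hv
    exact hpi
  have hdiag : ∀ z : ↥(pullback π π), π (pullback.fst π π z) = genericPoint S →
      z ∈ Set.range (pullback.diagonal π) := by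
    intro z hz
    let K' : Type u := (pullback π π).residueField z
    let ζ : Spec (.of K') ⟶ pullback π π := (pullback π π).fromSpecResidueField z
    have hζ : ζ (IsLocalRing.closedPoint K') = z := Scheme.fromSpecResidueField_apply _ _
    have hz2 : π (pullback.snd π π z) = genericPoint S := by
      rw [← hz, ← Scheme.Hom.comp_apply, ← Scheme.Hom.comp_apply, pullback.condition]
    have h12 : pullback.fst π π z = pullback.snd π π z := (huniq _ hz).trans (huniq _ hz2).symm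
    have key : ζ ≫ pullback.fst π π = ζ ≫ pullback.snd π π := by
      refine Groth.Agent.Lib.T2H3.TwConstFppf.eq_of_comp_eq_of_isPurelyInseparable π K' _ _
        ?_ ?_ ?_
      · rw [Scheme.Hom.comp_apply, Scheme.Hom.comp_apply, hζ, h12]
      · apply hpiV
        have h3 : (ζ ≫ pullback.fst π π) (IsLocalRing.closedPoint K') = pullback.fst π π z := by
          rw [Scheme.Hom.comp_apply, hζ]
        rw [h3]
        exact hz
      · rw [Category.assoc, Category.assoc, pullback.condition]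
    have h5 : ζ = (ζ ≫ pullback.fst π π) ≫ pullback.diagonal π := by
      apply pullback.hom_ext
      · rw [Category.assoc, pullback.diagonal_fst, Category.comp_id]
      · rw [Category.assoc, pullback.diagonal_snd, Category.comp_id, key]
    refine ⟨(ζ ≫ pullback.fst π π) (IsLocalRing.closedPoint K'), ?_⟩
    rw [← Scheme.Hom.comp_apply, ← h5, hζ]
  have hdo : IsOpenImmersion (pullback.diagonal π) := inferInstance
  have hdc : IsClosedImmersion (pullback.diagonal π) := IsSeparated.isClosedImmersion_diagonal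
  have hdcl : IsClosed (Set.range (pullback.diagonal π)) :=
    (pullback.diagonal π).isClosedEmbedding.isClosed_range
  haveI : Etale (pullback.fst π π ≫ π) := inferInstance
  have hdsurj : ∀ z : ↥(pullback π π), z ∈ Set.range (pullback.diagonal π) := by
    intro z
    obtain ⟨l', hl', hl'z⟩ := exists_generic_specializes (pullback.fst π π ≫ π) z
    have h1 : l' ∈ Set.range (pullback.diagonal π) := hdiag l' hl'
    exact hl'z.mem_closed hdcl h1
  let t : T ⟶ pullback π π := pullback.lift g₁ g₂ hg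
  have ht1 : t ≫ pullback.fst π π = g₁ := pullback.lift_fst _ _ _
  have ht2 : t ≫ pullback.snd π π = g₂ := pullback.lift_snd _ _ _
  have ht : Set.range t ⊆ Set.range (pullback.diagonal π) := fun y _ => hdsurj y
  have hl := IsOpenImmersion.lift_fac (pullback.diagonal π) t ht
  rw [← ht1, ← ht2, ← hl, Category.assoc, Category.assoc, pullback.diagonal_fst,
    pullback.diagonal_snd]

open Groth.Agent.Lib.Helper12.QuotGrp in
/-- **Lemma A.** Over an integral base, a rational point of the generic fibre of a separated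
unramified morphism whose closure meets the fibre over a geometrically unibranch point extends
to a section over a neighbourhood of that point. -/
theorem exists_section_of_integral {X Y : Scheme.{u}} [IsIntegral Y] (f : X ⟶ Y) [IsSeparated f]
    [LocallyOfFiniteType f] [FormallyUnramified f]
    (τ : Spec (Y.residueField (genericPoint Y)) ⟶ X)
    (hτ : τ ≫ f = Y.fromSpecResidueField (genericPoint Y))
    (x : X) (hy : CAlg2.IsGeomUnibranch (Y.presheaf.stalk (f x)))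
    (hξx : τ (IsLocalRing.closedPoint (Y.residueField (genericPoint Y))) ⤳ x) :
    ∃ (V : Y.Opens) (v : (V : Scheme.{u}) ⟶ X), f x ∈ V ∧ v ≫ f = V.ι ∧
      ∀ t : Spec (Y.residueField (genericPoint Y)) ⟶ (V : Scheme.{u}),
        t ≫ V.ι = Y.fromSpecResidueField (genericPoint Y) → t ≫ v = τ := by
  let K : Type u := Y.residueField (genericPoint Y)
  let pt : Spec (Y.residueField (genericPoint Y)) := IsLocalRing.closedPoint K
  obtain ⟨ξ, hξdef⟩ : ∃ ξ : X, ξ = τ pt := ⟨_, rfl⟩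
  have hξx' : ξ ⤳ x := by rw [hξdef]; exact hξx
  have hξ : f ξ = genericPoint Y := by
    rw [hξdef, ← Scheme.Hom.comp_apply, hτ]
    exact Scheme.fromSpecResidueField_apply _ _
  have hinj := stalkMap_injective_of_specializes f x ξ hξx' hξ
  obtain ⟨W, hxW, hWet⟩ := exists_etale_nhd_of_integral f x hy hinj ⟨⊤, trivial,
    HasRingHomProperty.comp_of_isOpenImmersion (P := @FormallyUnramified) _ _ inferInstance⟩
  obtain ⟨S₀, hS₀, W₀, hW₀, hW₀S₀, hxW₀, hW₀W⟩ := exists_affine_nhds f x W hxW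
  haveI : IsAffine (W₀ : Scheme.{u}) := hW₀
  obtain ⟨p, hp⟩ : ∃ p : (W₀ : Scheme.{u}) ⟶ Y, p = W₀.ι ≫ f := ⟨_, rfl⟩
  haveI : Etale p := by
    rw [hp]
    have h1 : W₀.ι = X.homOfLE hW₀W ≫ W.ι := (X.homOfLE_ι hW₀W).symm
    rw [h1, Category.assoc]
    haveI := hWet
    infer_instance
  haveI : LocallyQuasiFinite p :=
    Groth.Agent.Lib.T2H3.GenericTorsor.locallyQuasiFinite_of_etale p
  have hpapp : ∀ w : ↥(W₀ : Scheme.{u}), p w = f w.1 := by
    intro w; rw [hp]; rfl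
  let x₀ : ↥(W₀ : Scheme.{u}) := ⟨x, hxW₀⟩
  let ξ₀ : ↥(W₀ : Scheme.{u}) := ⟨ξ, hξx'.mem_open W₀.2 hxW₀⟩
  have hξ₀ : p ξ₀ = genericPoint Y := by rw [hpapp]; exact hξ
  have hspec₀ : ξ₀ ⤳ x₀ := (subtype_specializes_iff _ _).mpr hξx'
  have hGU₀ : CAlg2.IsGeomUnibranch (Y.presheaf.stalk (p x₀)) := by
    have e : p x₀ = f x := hpapp x₀
    rw [e]; exact hy
  have hmin₀ : (nilradical ((W₀ : Scheme.{u}).presheaf.stalk x₀)).IsPrime := by
    refine nilradical_isPrime_stalk_of_etale_nhd p x₀ hGU₀ ⟨⊤, trivial, ?_⟩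
    infer_instance
  have hfin : {l : ↥(W₀ : Scheme.{u}) | p l = genericPoint Y}.Finite := by
    have h1 := finite_generic_inter_affine p (⊤ : (W₀ : Scheme.{u}).Opens)
      (isAffineOpen_top _) S₀ hS₀ (by
        intro w _
        change p w ∈ S₀
        rw [hpapp]
        exact hW₀S₀ w.2)
    refine h1.subset ?_
    intro l hl
    exact ⟨trivial, hl⟩
  let G' : Set ↥(W₀ : Scheme.{u}) := {l | p l = genericPoint Y ∧ l ≠ ξ₀}
  have hG'fin : G'.Finite := hfin.subset fun _ h => h.1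
  let T : Set ↥(W₀ : Scheme.{u}) := ⋃ l ∈ G', closure {l}
  have hT : IsClosed T := hG'fin.isClosed_biUnion fun _ _ => isClosed_closure
  let W₁ : (W₀ : Scheme.{u}).Opens := ⟨Tᶜ, hT.isOpen_compl⟩
  have hx₀W₁ : x₀ ∈ W₁ := by
    intro hxT
    obtain ⟨l, ⟨hl, hne⟩, hxl⟩ := Set.mem_iUnion₂.mp hxT
    exact hne (generic_unique_at p x₀ hmin₀ l ξ₀ hl hξ₀
      (specializes_iff_mem_closure.mpr hxl) hspec₀)
  have hξ₀W₁ : ξ₀ ∈ W₁ := hspec₀.mem_open W₁.2 hx₀W₁
  obtain ⟨j, hj⟩ : ∃ j : (W₁ : Scheme.{u}) ⟶ X, j = W₁.ι ≫ W₀.ι := ⟨_, rfl⟩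
  haveI : IsOpenImmersion j := by rw [hj]; infer_instance
  obtain ⟨π, hπ⟩ : ∃ π : (W₁ : Scheme.{u}) ⟶ Y, π = W₁.ι ≫ p := ⟨_, rfl⟩
  have hπj : π = j ≫ f := by rw [hπ, hj, hp, Category.assoc]
  haveI : Etale π := by rw [hπ]; infer_instance
  haveI : IsSeparated π := by rw [hπj]; infer_instance
  have hπapp : ∀ w : ↥(W₁ : Scheme.{u}), π w = p w.1 := by
    intro w; rw [hπ]; rfl
  let ξ₁ : ↥(W₁ : Scheme.{u}) := ⟨ξ₀, hξ₀W₁⟩
  have hjξ₁ : j ξ₁ = ξ := by rw [hj]; rfl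
  have huniq : ∀ v : ↥(W₁ : Scheme.{u}), π v = genericPoint Y → v = ξ₁ := by
    intro v hv
    rw [hπapp] at hv
    apply Subtype.ext
    by_contra hne
    exact v.2 (Set.mem_biUnion (show v.1 ∈ G' from ⟨hv, hne⟩) (subset_closure rfl))
  -- `τ` factors through `W₁`
  have hrange : Set.range τ ⊆ Set.range j := by
    rintro _ ⟨a, rfl⟩
    have : a = pt := Subsingleton.elim _ _
    rw [this, ← hξdef, ← hjξ₁]
    exact ⟨ξ₁, rfl⟩
  obtain ⟨τ₁, hτ₁⟩ : ∃ τ₁ : Spec (Y.residueField (genericPoint Y)) ⟶ (W₁ : Scheme.{u}),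
      τ₁ ≫ j = τ := ⟨_, IsOpenImmersion.lift_fac j τ hrange⟩
  have hτ₁π : τ₁ ≫ π = Y.fromSpecResidueField (genericPoint Y) := by
    rw [hπj, ← Category.assoc, hτ₁, hτ]
  have hτ₁pt : τ₁ pt = ξ₁ := by
    apply j.isOpenEmbedding.injective
    rw [← Scheme.Hom.comp_apply, hτ₁, hjξ₁, hξdef]
  have hpi : (π.residueFieldMap ξ₁).hom.IsPurelyInseparable := by
    rw [← hτ₁pt]
    exact Groth.Agent.Lib.T2H3.TwConstFppf.isPurelyInseparable_of_bijective _
      (residueFieldMap_bijective_of_lift π (genericPoint Y) τ₁ hτ₁π)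
  have hmono : ∀ {T' : Scheme.{u}} (g₁ g₂ : T' ⟶ (W₁ : Scheme.{u})),
      g₁ ≫ π = g₂ ≫ π → g₁ = g₂ :=
    fun g₁ g₂ hg => mono_of_generic_degree_one π ξ₁ huniq hpi g₁ g₂ hg
  -- the image of `π`
  let V : Y.Opens := ⟨Set.range π, π.isOpenMap.isOpen_range⟩
  obtain ⟨π₀, hπ₀⟩ : ∃ π₀ : (W₁ : Scheme.{u}) ⟶ (V : Scheme.{u}), π₀ ≫ V.ι = π :=
    ⟨_, IsOpenImmersion.lift_fac V.ι π (by rw [Scheme.Opens.range_ι]; rfl)⟩
  haveI : Etale (π₀ ≫ V.ι) := by rw [hπ₀]; infer_instance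
  haveI : Etale π₀ :=
    MorphismProperty.of_postcomp (W := @Etale) (W' := @Etale) π₀ V.ι inferInstance ‹_›
  haveI : Surjective π₀ := by
    constructor
    rintro ⟨t, a, rfl⟩
    refine ⟨a, ?_⟩
    apply V.ι.isOpenEmbedding.injective
    rw [← Scheme.Hom.comp_apply, hπ₀]
    rfl
  have hEE : EffectiveEpi π₀ := effectiveEpi_of_factor π₀ π₀ (𝟙 _) (Category.id_comp _)
    (Scheme.fppfPrecoverage_le_fpqcPrecoverage _ (Scheme.Hom.singleton_mem_fppfPrecoverage π₀))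
  let σ : (V : Scheme.{u}) ⟶ X := EffectiveEpi.desc π₀ j (fun g₁ g₂ hg => by
    have hg' : g₁ ≫ π = g₂ ≫ π := by
      rw [← hπ₀, ← Category.assoc, hg, Category.assoc]
    rw [hmono g₁ g₂ hg'])
  have hσ : π₀ ≫ σ = j := EffectiveEpi.fac _ _ _
  refine ⟨V, σ, ?_, ?_, ?_⟩
  · refine ⟨⟨x₀, hx₀W₁⟩, ?_⟩
    rw [hπapp]
    exact hpapp x₀
  · have : Epi π₀ := inferInstance
    rw [← cancel_epi π₀, ← Category.assoc, hσ, hπ₀, hπj]
  · intro t ht
    have h1 : t = τ₁ ≫ π₀ := by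
      rw [← cancel_mono V.ι, Category.assoc, hπ₀, hτ₁π, ht]
    rw [h1, Category.assoc, hσ, hτ₁]

/-! ### Reduction to an integral base -/

theorem isGeomUnibranch_stalk_congr {Y : Scheme.{u}} {y y' : Y} (e : y = y')
    (h : CAlg2.IsGeomUnibranch (Y.presheaf.stalk y)) :
    CAlg2.IsGeomUnibranch (Y.presheaf.stalk y') := by
  subst e; exact h

/-- geometric unibranchness passes to open subschemes. -/
theorem isGeomUnibranch_stalk_opens {Y : Scheme.{u}} (Y₁ : Y.Opens) (w : ↥(Y₁ : Scheme.{u}))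
    (h : CAlg2.IsGeomUnibranch (Y.presheaf.stalk (Y₁.ι w))) :
    CAlg2.IsGeomUnibranch ((Y₁ : Scheme.{u}).presheaf.stalk w) := by
  have hiso : IsIso (Y₁.ι.stalkMap w) := inferInstance
  exact Groth.Agent.Lib.Helper4.Unibranch.isGeomUnibranch_of_ringEquiv
    (asIso (Y₁.ι.stalkMap w)).commRingCatIsoToRingEquiv h

/-- a point whose local ring has prime nilradical lies on exactly one irreducible component. -/
theorem component_unique_at (Y : Scheme.{u}) (y : Y)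
    (hmin : (nilradical (Y.presheaf.stalk y)).IsPrime) {Z Z' : Set Y}
    (hZ : Z ∈ irreducibleComponents Y) (hZ' : Z' ∈ irreducibleComponents Y) (hy : y ∈ Z)
    (hy' : y ∈ Z') : Z = Z' := by
  let K : PrimeSpectrum (Y.presheaf.stalk y) := ⟨nilradical _, hmin⟩
  suffices key : ∀ Z ∈ irreducibleComponents Y, y ∈ Z → Z = closure {Y.fromSpecStalk y K} by
    rw [key Z hZ hy, key Z' hZ' hy']
  intro Z hZ hy
  have hZc : IsClosed Z := isClosed_of_mem_irreducibleComponents Z hZ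
  have hgen := hZ.1.isGenericPoint_genericPoint hZc
  set ζ := hZ.1.genericPoint with hζ
  have hζy : ζ ⤳ y := by
    rw [specializes_iff_mem_closure, hgen.def]; exact hy
  obtain ⟨P, hP⟩ : ζ ∈ Set.range (Y.fromSpecStalk y) := by
    rw [Scheme.range_fromSpecStalk]; exact hζy
  have hKP : K ⤳ P := by
    rw [← PrimeSpectrum.le_iff_specializes]
    show nilradical _ ≤ P.asIdeal
    exact nilradical_le_prime P.asIdeal
  have h2 : Y.fromSpecStalk y K ⤳ ζ := by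
    rw [← hP]; exact hKP.map (Y.fromSpecStalk y).continuous
  have h3 : Z ⊆ closure {Y.fromSpecStalk y K} := by
    rw [← hgen.def]
    exact closure_minimal (Set.singleton_subset_iff.mpr (specializes_iff_mem_closure.mp h2))
      isClosed_closure
  exact (hZ.2 isIrreducible_singleton.closure h3).antisymm h3 |>.symm

/-- an irreducible open neighbourhood of a point with prime nilradical, when the irreducible
components are locally finite. -/
theorem exists_irreducible_open_nhd (Y : Scheme.{u})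
    (hcomp : LocallyFinite (fun Z : ↥(irreducibleComponents ↥Y) => (Z : Set ↥Y))) (y : Y)
    (hmin : (nilradical (Y.presheaf.stalk y)).IsPrime) :
    ∃ Y₁ : Y.Opens, y ∈ Y₁ ∧ IsIrreducible (Y₁ : Set Y) := by
  obtain ⟨N, hN, hfin⟩ := hcomp y
  obtain ⟨Z₁, hZ₁, hyZ₁⟩ := exists_mem_irreducibleComponents_subset_of_isIrreducible
    ({y} : Set Y) isIrreducible_singleton
  have hyZ₁' : y ∈ Z₁ := hyZ₁ rfl
  let I : Set ↥(irreducibleComponents ↥Y) := {Z | ((Z : Set Y) ∩ N).Nonempty ∧ (Z : Set Y) ≠ Z₁}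
  have hIfin : I.Finite := hfin.subset fun Z hZ => hZ.1
  let T : Set Y := ⋃ Z ∈ I, (Z : Set Y)
  have hT : IsClosed T :=
    hIfin.isClosed_biUnion fun Z _ => isClosed_of_mem_irreducibleComponents _ Z.2
  have hyT : y ∉ T := by
    intro h
    obtain ⟨Z, ⟨-, hne⟩, hyZ⟩ := Set.mem_iUnion₂.mp h
    exact hne (component_unique_at Y y hmin Z.2 hZ₁ hyZ hyZ₁')
  let Y₁ : Y.Opens := ⟨interior N ∩ Tᶜ, isOpen_interior.inter hT.isOpen_compl⟩
  have hyY₁ : y ∈ Y₁ := ⟨mem_interior_iff_mem_nhds.mpr hN, hyT⟩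
  have hsub : (Y₁ : Set Y) ⊆ Z₁ := by
    rintro w ⟨hwN, hwT⟩
    obtain ⟨Z, hZ, hwZ⟩ := exists_mem_irreducibleComponents_subset_of_isIrreducible
      ({w} : Set Y) isIrreducible_singleton
    have hwZ' : w ∈ Z := hwZ rfl
    by_cases hZZ₁ : Z = Z₁
    · rw [← hZZ₁]; exact hwZ'
    · exfalso
      apply hwT
      exact Set.mem_biUnion (show (⟨Z, hZ⟩ : ↥(irreducibleComponents ↥Y)) ∈ I from
        ⟨⟨w, hwZ', interior_subset hwN⟩, hZZ₁⟩) hwZ'
  refine ⟨Y₁, hyY₁, ⟨y, hyY₁⟩, ?_⟩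
  intro A B hA hB ⟨a, haY, haA⟩ ⟨b, hbY, hbB⟩
  obtain ⟨c, hcZ, hcA, hcB⟩ := hZ₁.1.2 ((Y₁ : Set Y) ∩ A) ((Y₁ : Set Y) ∩ B)
    (Y₁.2.inter hA) (Y₁.2.inter hB) ⟨a, hsub haY, haY, haA⟩ ⟨b, hsub hbY, hbY, hbB⟩
  exact ⟨c, hcA.1, hcA.2, hcB.2⟩

/-- **EGA IV 18.10.17-type statement.** a rational section of a separated unramified morphism
extends over a geometrically unibranch point as soon as the closure of its image meets the fibre. -/
theorem exists_section_extension {X Y : Scheme.{u}} [IsReduced Y]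
    (hcomp : LocallyFinite (fun Z : ↥(irreducibleComponents ↥Y) => (Z : Set ↥Y)))
    (f : X ⟶ Y) [IsSeparated f] [LocallyOfFiniteType f] [FormallyUnramified f]
    (U : Y.Opens) (hU : Dense (U : Set ↥Y)) (u : (U : Scheme.{u}) ⟶ X) (hu : u ≫ f = U.ι)
    (y : Y) (hy : CAlg2.IsGeomUnibranch (Y.presheaf.stalk y))
    (hZ : (closure (Set.range u) ∩ f ⁻¹' {y}).Nonempty) :
    ∃ (V : Y.Opens) (v : (V : Scheme.{u}) ⟶ X), y ∈ V ∧ v ≫ f = V.ι ∧
      Y.homOfLE (inf_le_left : U ⊓ V ≤ U) ≫ u = Y.homOfLE (inf_le_right : U ⊓ V ≤ V) ≫ v := by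
  have hmin : (nilradical (Y.presheaf.stalk y)).IsPrime :=
    (Ideal.Quotient.isDomain_iff_prime _).mp hy.1.1
  obtain ⟨Y₁, hyY₁, hirr⟩ := exists_irreducible_open_nhd Y hcomp y hmin
  haveI : IrreducibleSpace ↥(Y₁ : Scheme.{u}) := Subtype.irreducibleSpace hirr
  haveI : IsReduced (Y₁ : Scheme.{u}) := inferInstance
  haveI : IsIntegral (Y₁ : Scheme.{u}) := isIntegral_of_irreducibleSpace_of_isReduced _
  obtain ⟨x, hxcl, hxy⟩ := hZ
  have hxy' : f x = y := hxy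
  -- the restriction of `f`
  obtain ⟨f₁, hf₁, hsep₁, hlft₁, hunr₁⟩ :
      ∃ f₁ : ((f ⁻¹ᵁ Y₁ : X.Opens) : Scheme.{u}) ⟶ (Y₁ : Scheme.{u}),
      f₁ ≫ Y₁.ι = (f ⁻¹ᵁ Y₁).ι ≫ f ∧ IsSeparated f₁ ∧ LocallyOfFiniteType f₁ ∧
        FormallyUnramified f₁ :=
    ⟨f ∣_ Y₁, morphismRestrict_ι f Y₁, IsZariskiLocalAtTarget.restrict ‹_› Y₁,
      IsZariskiLocalAtTarget.restrict ‹_› Y₁, IsZariskiLocalAtTarget.restrict ‹_› Y₁⟩
  haveI := hsep₁
  haveI := hlft₁
  haveI := hunr₁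
  let η₁ : ↥(Y₁ : Scheme.{u}) := genericPoint ↥(Y₁ : Scheme.{u})
  have hη₁ : ∀ w : ↥(Y₁ : Scheme.{u}), η₁ ⤳ w := fun w => genericPoint_specializes w
  have hηU : η₁.1 ∈ U := by
    have hop : IsOpen (Y₁.ι ⁻¹' (U : Set Y)) := U.2.preimage Y₁.ι.continuous
    obtain ⟨w, hwU, hwY₁⟩ := hU.inter_open_nonempty _ Y₁.2 ⟨y, hyY₁⟩
    have hne : (Y₁.ι ⁻¹' (U : Set Y)).Nonempty := ⟨⟨w, hwU⟩, hwY₁⟩
    exact (hη₁ ⟨w, hwU⟩).mem_open hop hwY₁
  let K : Type u := (Y₁ : Scheme.{u}).residueField η₁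
  let pt : Spec ((Y₁ : Scheme.{u}).residueField η₁) := IsLocalRing.closedPoint K
  obtain ⟨a, ha⟩ : ∃ a : Spec ((Y₁ : Scheme.{u}).residueField η₁) ⟶ Y,
      a = (Y₁ : Scheme.{u}).fromSpecResidueField η₁ ≫ Y₁.ι := ⟨_, rfl⟩
  have hapt : ∀ b, a b = η₁.1 := by
    intro b
    rw [ha, Scheme.Hom.comp_apply, Scheme.fromSpecResidueField_apply]
    rfl
  obtain ⟨a', ha'⟩ : ∃ a' : Spec ((Y₁ : Scheme.{u}).residueField η₁) ⟶ (U : Scheme.{u}),
      a' ≫ U.ι = a := ⟨_, IsOpenImmersion.lift_fac U.ι a (by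
        rw [Scheme.Opens.range_ι]; rintro _ ⟨b, rfl⟩; rw [hapt]; exact hηU)⟩
  have ha'pt : ∀ b, a' b = ⟨η₁.1, hηU⟩ := by
    intro b
    apply Subtype.ext
    change U.ι (a' b) = _
    rw [← Scheme.Hom.comp_apply, ha', hapt]
  obtain ⟨τ₀, hτ₀⟩ : ∃ τ₀ : Spec ((Y₁ : Scheme.{u}).residueField η₁) ⟶ X, τ₀ = a' ≫ u := ⟨_, rfl⟩
  have hτ₀f : τ₀ ≫ f = a := by rw [hτ₀, Category.assoc, hu, ha']
  obtain ⟨τ, hτ⟩ : ∃ τ : Spec ((Y₁ : Scheme.{u}).residueField η₁) ⟶
      ((f ⁻¹ᵁ Y₁ : X.Opens) : Scheme.{u}), τ ≫ (f ⁻¹ᵁ Y₁).ι = τ₀ :=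
    ⟨_, IsOpenImmersion.lift_fac (f ⁻¹ᵁ Y₁).ι τ₀ (by
      rw [Scheme.Opens.range_ι]
      rintro _ ⟨b, rfl⟩
      change f (τ₀ b) ∈ Y₁
      rw [← Scheme.Hom.comp_apply, hτ₀f, hapt]
      exact η₁.2)⟩
  have hτf₁ : τ ≫ f₁ = (Y₁ : Scheme.{u}).fromSpecResidueField (genericPoint ↥(Y₁ : Scheme.{u})) := by
    rw [← cancel_mono Y₁.ι, Category.assoc, hf₁, ← Category.assoc, hτ, hτ₀f, ha]
  -- the point `x`
  have hxY₁ : x ∈ f ⁻¹ᵁ Y₁ := by
    change f x ∈ Y₁
    rw [hxy']; exact hyY₁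
  let x₁ : ↥((f ⁻¹ᵁ Y₁ : X.Opens) : Scheme.{u}) := ⟨x, hxY₁⟩
  have hf₁x₁ : Y₁.ι (f₁ x₁) = y := by
    rw [← Scheme.Hom.comp_apply, hf₁, Scheme.Hom.comp_apply]
    exact hxy'
  have hGU₁ : CAlg2.IsGeomUnibranch ((Y₁ : Scheme.{u}).presheaf.stalk (f₁ x₁)) :=
    isGeomUnibranch_stalk_opens Y₁ (f₁ x₁) (isGeomUnibranch_stalk_congr hf₁x₁.symm hy)
  have hξx : τ (IsLocalRing.closedPoint ((Y₁ : Scheme.{u}).residueField
      (genericPoint ↥(Y₁ : Scheme.{u})))) ⤳ x₁ := by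
    refine (subtype_specializes_iff _ _).mpr ?_
    have h1 : (τ pt).1 = u ⟨η₁.1, hηU⟩ := by
      change (f ⁻¹ᵁ Y₁).ι (τ pt) = _
      rw [← Scheme.Hom.comp_apply, hτ, hτ₀, Scheme.Hom.comp_apply, ha'pt]
    change (τ pt).1 ⤳ x
    rw [h1, specializes_iff_forall_open]
    intro O hO hxO
    obtain ⟨_, ⟨hbO, hbY₁⟩, b, rfl⟩ := mem_closure_iff.mp hxcl (O ∩ (f ⁻¹ᵁ Y₁ : X.Opens))
      (hO.inter (f ⁻¹ᵁ Y₁).2) ⟨hxO, hxY₁⟩
    have hfb : f (u b) = b.1 := by
      rw [← Scheme.Hom.comp_apply, hu]; rfl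
    have hbY₁' : b.1 ∈ Y₁ := by
      rw [← hfb]; exact hbY₁
    have h2 : η₁.1 ⤳ b.1 :=
      (subtype_specializes_iff _ _).mp (hη₁ ⟨b.1, hbY₁'⟩)
    have h3 : (⟨η₁.1, hηU⟩ : ↥(U : Scheme.{u})) ⤳ b := (subtype_specializes_iff _ _).mpr h2
    exact (h3.map u.continuous).mem_open hO hbO
  obtain ⟨V₁, v₁, hV₁, hv₁, hv₁t⟩ := exists_section_of_integral f₁ τ hτf₁ x₁ hGU₁ hξx
  -- transport to `Y`
  let V : Y.Opens := Y₁.ι ''ᵁ V₁
  let e := Y₁.ι.isoImage V₁
  have he : e.inv ≫ V₁.ι ≫ Y₁.ι = V.ι := Scheme.Hom.isoImage_inv_ι Y₁.ι V₁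
  obtain ⟨v, hv⟩ : ∃ v : (V : Scheme.{u}) ⟶ X, v = e.inv ≫ v₁ ≫ (f ⁻¹ᵁ Y₁).ι := ⟨_, rfl⟩
  have hvf : v ≫ f = V.ι := by
    rw [hv, Category.assoc, Category.assoc, ← hf₁, ← Category.assoc v₁, hv₁, he]
  have hyV : y ∈ V := ⟨f₁ x₁, hV₁, hf₁x₁⟩
  have hVY₁ : ∀ w ∈ V, w ∈ Y₁ := by
    rintro _ ⟨w₁, -, rfl⟩
    exact w₁.2
  have hη₁V₁ : η₁ ∈ V₁ := (hη₁ (f₁ x₁)).mem_open V₁.2 hV₁
  have hηV : η₁.1 ∈ V := ⟨η₁, hη₁V₁, rfl⟩
  refine ⟨V, v, hyV, hvf, ?_⟩
  -- agreement on `U ⊓ V`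
  let g : ↥((U ⊓ V : Y.Opens) : Scheme.{u}) := ⟨η₁.1, hηU, hηV⟩
  have hg : ∀ w : ↥((U ⊓ V : Y.Opens) : Scheme.{u}), g ⤳ w := by
    intro w
    refine (subtype_specializes_iff _ _).mpr ?_
    have h := (subtype_specializes_iff η₁ ⟨w.1, hVY₁ _ w.2.2⟩).mp (hη₁ _)
    exact h
  obtain ⟨t, ht⟩ : ∃ t : Spec ((Y₁ : Scheme.{u}).residueField η₁) ⟶
      ((U ⊓ V : Y.Opens) : Scheme.{u}), t ≫ (U ⊓ V).ι = a :=
    ⟨_, IsOpenImmersion.lift_fac (U ⊓ V).ι a (by
      rw [Scheme.Opens.range_ι]; rintro _ ⟨b, rfl⟩; rw [hapt]; exact ⟨hηU, hηV⟩)⟩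
  have htg : g ∈ Set.range t := by
    refine ⟨pt, ?_⟩
    apply Subtype.ext
    change (U ⊓ V).ι (t pt) = _
    rw [← Scheme.Hom.comp_apply, ht, hapt]
  refine section_ext_generic f _ _ ?_ g hg t htg ?_
  · rw [Category.assoc, Category.assoc, hu, hvf, Scheme.homOfLE_ι, Scheme.homOfLE_ι]
  · have h1 : t ≫ Y.homOfLE (inf_le_left : U ⊓ V ≤ U) = a' := by
      rw [← cancel_mono U.ι, Category.assoc, Scheme.homOfLE_ι, ht, ha']
    have h2 : (t ≫ Y.homOfLE (inf_le_right : U ⊓ V ≤ V) ≫ e.inv) ≫ V₁.ι =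
        (Y₁ : Scheme.{u}).fromSpecResidueField (genericPoint ↥(Y₁ : Scheme.{u})) := by
      rw [← cancel_mono Y₁.ι]
      simp only [Category.assoc]
      rw [he, Scheme.homOfLE_ι, ht, ha]
    have h3 := hv₁t _ h2
    have hL : t ≫ Y.homOfLE (inf_le_left : U ⊓ V ≤ U) ≫ u = τ₀ := by
      rw [← Category.assoc, h1, hτ₀]
    have hR : t ≫ Y.homOfLE (inf_le_right : U ⊓ V ≤ V) ≫ v = τ₀ := by
      have h4 : t ≫ Y.homOfLE (inf_le_right : U ⊓ V ≤ V) ≫ v =
          ((t ≫ Y.homOfLE (inf_le_right : U ⊓ V ≤ V) ≫ e.inv) ≫ v₁) ≫ (f ⁻¹ᵁ Y₁).ι := by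
        rw [hv]; simp only [Category.assoc]
      rw [h4, h3, hτ]
    rw [hL, hR]

/-- a maximal rational section of a separated unramified morphism over a geometrically
unibranch base has open and closed image. -/
theorem isClopen_range_of_maximal {X Y : Scheme.{u}} [IsReduced Y]
    (hcomp : LocallyFinite (fun Z : ↥(irreducibleComponents ↥Y) => (Z : Set ↥Y)))
    (f : X ⟶ Y) [IsSeparated f] [LocallyOfFiniteType f] [FormallyUnramified f]
    (U : Y.Opens) (hU : Dense (U : Set ↥Y)) (u : (U : Scheme.{u}) ⟶ X) (hu : u ≫ f = U.ι)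
    (hY : ∀ y : Y, CAlg2.IsGeomUnibranch (Y.presheaf.stalk y))
    (hmax : ∀ (V : Y.Opens) (v : (V : Scheme.{u}) ⟶ X), v ≫ f = V.ι →
      Y.homOfLE (inf_le_left : U ⊓ V ≤ U) ≫ u = Y.homOfLE (inf_le_right : U ⊓ V ≤ V) ≫ v → V ≤ U) :
    IsOpen (Set.range u) ∧ IsClosed (Set.range u) := by
  have hr : Set.range u ⊆ Set.range (f ⁻¹ᵁ U).ι := by
    rw [Scheme.Opens.range_ι]
    rintro _ ⟨b, rfl⟩
    change f (u b) ∈ U
    rw [← Scheme.Hom.comp_apply, hu]
    exact b.2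
  obtain ⟨u', hu'⟩ : ∃ u' : (U : Scheme.{u}) ⟶ ((f ⁻¹ᵁ U : X.Opens) : Scheme.{u}),
      u' ≫ (f ⁻¹ᵁ U).ι = u := ⟨_, IsOpenImmersion.lift_fac (f ⁻¹ᵁ U).ι u hr⟩
  obtain ⟨p, hp, hsep, hlft, hunr⟩ :
      ∃ p : ((f ⁻¹ᵁ U : X.Opens) : Scheme.{u}) ⟶ (U : Scheme.{u}),
      p ≫ U.ι = (f ⁻¹ᵁ U).ι ≫ f ∧ IsSeparated p ∧ LocallyOfFiniteType p ∧
        FormallyUnramified p :=
    ⟨f ∣_ U, morphismRestrict_ι f U, IsZariskiLocalAtTarget.restrict ‹_› U,
      IsZariskiLocalAtTarget.restrict ‹_› U, IsZariskiLocalAtTarget.restrict ‹_› U⟩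
  haveI := hsep
  haveI := hlft
  haveI := hunr
  have hsec : u' ≫ p = 𝟙 _ := by
    rw [← cancel_mono U.ι, Category.assoc, hp, ← Category.assoc, hu', hu, Category.id_comp]
  haveI hoi : IsOpenImmersion u' :=
    Groth.Agent.Lib.Helper20.FinHom.isOpenImmersion_of_section p u' hsec
  haveI hci : IsClosedImmersion u' :=
    Groth.Agent.Lib.Helper20.FinHom.isClosedImmersion_of_section p u' hsec
  have hrange : Set.range u = (f ⁻¹ᵁ U).ι '' Set.range u' := by
    rw [← Set.range_comp, ← hu']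
    rfl
  refine ⟨?_, ?_⟩
  · rw [hrange]
    exact (f ⁻¹ᵁ U).ι.isOpenEmbedding.isOpenMap _ u'.isOpenEmbedding.isOpen_range
  · rw [← closure_subset_iff_isClosed]
    intro x hx
    obtain ⟨V, v, hyV, hvf, hagree⟩ := exists_section_extension hcomp f U hU u hu (f x) (hY _)
      ⟨x, hx, rfl⟩
    have hVU : V ≤ U := hmax V v hvf hagree
    have hxU : x ∈ f ⁻¹ᵁ U := hVU hyV
    let x' : ↥((f ⁻¹ᵁ U : X.Opens) : Scheme.{u}) := ⟨x, hxU⟩
    have hcl : IsClosed (Set.range u') := u'.isClosedEmbedding.isClosed_range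
    have h1 : x' ∈ closure (Set.range u') := by
      rw [(f ⁻¹ᵁ U).ι.isOpenEmbedding.isInducing.closure_eq_preimage_closure_image]
      change (f ⁻¹ᵁ U).ι x' ∈ closure ((f ⁻¹ᵁ U).ι '' Set.range u')
      rw [← hrange]
      exact hx
    rw [hcl.closure_eq] at h1
    rw [hrange]
    exact ⟨x', h1, rfl⟩

/-- a rational section of a separated unramified morphism mapping closed irreducible sets to
closed sets is defined at every geometrically unibranch point. -/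
theorem exists_section_extension_of_closed {X Y : Scheme.{u}} [IsReduced Y]
    (hcomp : LocallyFinite (fun Z : ↥(irreducibleComponents ↥Y) => (Z : Set ↥Y)))
    (f : X ⟶ Y) [IsSeparated f] [LocallyOfFiniteType f] [FormallyUnramified f]
    (U : Y.Opens) (hU : Dense (U : Set ↥Y)) (u : (U : Scheme.{u}) ⟶ X) (hu : u ≫ f = U.ι)
    (hcl : ∀ T : Set ↥X, IsClosed T → IsIrreducible T → IsClosed (f '' T))
    (y : Y) (hy : CAlg2.IsGeomUnibranch (Y.presheaf.stalk y)) :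
    ∃ (V : Y.Opens) (v : (V : Scheme.{u}) ⟶ X), y ∈ V ∧ v ≫ f = V.ι ∧
      Y.homOfLE (inf_le_left : U ⊓ V ≤ U) ≫ u = Y.homOfLE (inf_le_right : U ⊓ V ≤ V) ≫ v := by
  refine exists_section_extension hcomp f U hU u hu y hy ?_
  obtain ⟨Z₁, hZ₁, hyZ₁⟩ := exists_mem_irreducibleComponents_subset_of_isIrreducible
    ({y} : Set Y) isIrreducible_singleton
  have hyZ₁' : y ∈ Z₁ := hyZ₁ rfl
  have hZ₁c : IsClosed Z₁ := isClosed_of_mem_irreducibleComponents Z₁ hZ₁
  have hgen := hZ₁.1.isGenericPoint_genericPoint hZ₁c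
  set ζ := hZ₁.1.genericPoint with hζdef
  -- the complement of the other components
  let g : ↥(irreducibleComponents ↥Y) → Set Y := fun Z => if (Z : Set Y) = Z₁ then ∅ else Z
  have hg : LocallyFinite g := hcomp.subset fun Z => by
    simp only [g]
    split_ifs
    · exact Set.empty_subset _
    · exact subset_rfl
  have hC : IsClosed (⋃ Z, g Z) := hg.isClosed_iUnion fun Z => by
    simp only [g]
    split_ifs
    · exact isClosed_empty
    · exact isClosed_of_mem_irreducibleComponents _ Z.2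
  have hζC : ζ ∉ ⋃ Z, g Z := by
    intro h
    obtain ⟨Z, hZ⟩ := Set.mem_iUnion.mp h
    simp only [g] at hZ
    split_ifs at hZ with hZZ₁
    · exact hZ
    · apply hZZ₁
      have h1 : Z₁ ⊆ (Z : Set Y) := by
        rw [← hgen.def]
        exact closure_minimal (Set.singleton_subset_iff.mpr hZ)
          (isClosed_of_mem_irreducibleComponents _ Z.2)
      exact (hZ₁.2 Z.2.1 h1).antisymm h1
  have hOsub : (⋃ Z, g Z)ᶜ ⊆ Z₁ := by
    intro w hw
    obtain ⟨Z, hZ, hwZ⟩ := exists_mem_irreducibleComponents_subset_of_isIrreducible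
      ({w} : Set Y) isIrreducible_singleton
    by_contra hwZ₁
    apply hw
    refine Set.mem_iUnion.mpr ⟨⟨Z, hZ⟩, ?_⟩
    simp only [g]
    split_ifs with hZZ₁
    · exact hwZ₁ (hZZ₁ ▸ hwZ rfl)
    · exact hwZ rfl
  obtain ⟨w, hwO, hwU⟩ := hU.inter_open_nonempty _ hC.isOpen_compl ⟨ζ, hζC⟩
  have hζw : ζ ⤳ w := by
    rw [specializes_iff_mem_closure, hgen.def]
    exact hOsub hwO
  have hζU : ζ ∈ U := hζw.mem_open U.2 hwU
  let ζ' : ↥(U : Scheme.{u}) := ⟨ζ, hζU⟩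
  have hfu : f (u ζ') = ζ := by
    rw [← Scheme.Hom.comp_apply, hu]; rfl
  have hT := hcl (closure {u ζ'}) isClosed_closure isIrreducible_singleton.closure
  have hyT : y ∈ f '' closure {u ζ'} := by
    have h1 : ζ ∈ f '' closure {u ζ'} := ⟨u ζ', subset_closure rfl, hfu⟩
    have h2 : closure {ζ} ⊆ f '' closure {u ζ'} :=
      closure_minimal (Set.singleton_subset_iff.mpr h1) hT
    rw [hgen.def] at h2
    exact h2 hyZ₁'
  obtain ⟨x, hxT, hxy⟩ := hyT
  exact ⟨x, closure_mono (Set.singleton_subset_iff.mpr (Set.mem_range_self ζ')) hxT, hxy⟩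

end Groth.Agent.Lib.T2H3.UnramSec
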