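import Groth.Agent.Lib.Helper29GrEss
import Groth.Prelude.Def_GrLC

/-! Veronese-type projections (helper3): for a subgroup `H` of the grading group, the projection of a
graded module `N` onto `⊕_{i ∈ H} N_i`, its compatibility with homogeneous maps and with
multiplication by elements of `⊕_{i ∈ H} R_i`. -/

set_option autoImplicit false
set_option linter.unusedSectionVars false
open DirectSum

namespace Groth.Agent.Lib.T2H3.Ver

open GrLC Groth.Agent.Lib.Helper29GrHom Groth.Agent.Lib.Helper29GrEss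

universe u

variable {ι : Type} [AddCommGroup ι] [DecidableEq ι] (H : AddSubgroup ι) [DecidablePred (· ∈ H)]
variable {R : Type u} [CommRing R] (𝒜 : ι → AddSubgroup R) [GradedRing 𝒜]
variable {N : Type u} [AddCommGroup N] [Module R N] (𝒩 : ι → AddSubgroup N)
  [DirectSum.Decomposition 𝒩] [SetLike.GradedSMul 𝒜 𝒩]

theorem ext_decompose {x y : N}
    (h : ∀ i, ((decompose 𝒩 x) i : N) = ((decompose 𝒩 y) i : N)) : x = y := by
  apply (decompose 𝒩).injective
  apply DFinsupp.ext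
  intro i
  exact Subtype.ext (h i)

/-- The projection onto the sum of the pieces of degrees in `H`. -/
noncomputable def vproj : N →+ N :=
  (decomposeAddEquiv 𝒩).symm.toAddMonoidHom.comp
    ((DFinsupp.filterAddMonoidHom (fun i => ↥(𝒩 i)) (· ∈ H)).comp
      (decomposeAddEquiv 𝒩).toAddMonoidHom)

theorem decompose_vproj (x : N) (i : ι) :
    ((decompose 𝒩 (vproj H 𝒩 x)) i : N) = if i ∈ H then ((decompose 𝒩 x) i : N) else 0 := by
  have h1 : decompose 𝒩 (vproj H 𝒩 x) = (decompose 𝒩 x).filter (· ∈ H) :=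
    (decomposeAddEquiv 𝒩).apply_symm_apply _
  rw [h1, DFinsupp.filter_apply]
  split_ifs <;> rfl

/-- The sum of the pieces of degrees in `H`. -/
def Vadd : AddSubgroup N where
  carrier := {x | ∀ i, i ∉ H → ((decompose 𝒩 x) i : N) = 0}
  zero_mem' := fun i _ => by rw [DirectSum.decompose_zero]; rfl
  add_mem' := by
    intro x y hx hy i hi
    rw [DirectSum.decompose_add, DirectSum.add_apply, AddSubgroup.coe_add, hx i hi, hy i hi,
      add_zero]
  neg_mem' := by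
    intro x hx i hi
    rw [DirectSum.decompose_neg]
    change ((-((decompose 𝒩 x) i) : ↥(𝒩 i)) : N) = 0
    rw [AddSubgroup.coe_neg, hx i hi, neg_zero]

theorem mem_Vadd {x : N} : x ∈ Vadd H 𝒩 ↔ ∀ i, i ∉ H → ((decompose 𝒩 x) i : N) = 0 := Iff.rfl

theorem vproj_mem (x : N) : vproj H 𝒩 x ∈ Vadd H 𝒩 := by
  intro i hi
  rw [decompose_vproj, if_neg hi]

theorem vproj_eq_self {x : N} (hx : x ∈ Vadd H 𝒩) : vproj H 𝒩 x = x := by
  apply ext_decompose 𝒩
  intro i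
  rw [decompose_vproj]
  split_ifs with hi
  · rfl
  · exact (hx i hi).symm

theorem mem_Vadd_of_mem {i : ι} (hi : i ∈ H) {x : N} (hx : x ∈ 𝒩 i) : x ∈ Vadd H 𝒩 := by
  intro k hk
  have hne : i ≠ k := fun h => hk (h ▸ hi)
  rw [DirectSum.decompose_of_mem_ne 𝒩 hx hne]

theorem decompose_mem_Vadd {x : N} (hx : x ∈ Vadd H 𝒩) (i : ι) :
    ((decompose 𝒩 x) i : N) ∈ Vadd H 𝒩 := by
  by_cases hi : i ∈ H
  · exact mem_Vadd_of_mem H 𝒩 hi (SetLike.coe_mem _)
  · rw [hx i hi]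
    exact zero_mem _

theorem smul_mem_Vadd_of_mem {h : ι} (hh : h ∈ H) {r : R} (hr : r ∈ 𝒜 h) {x : N}
    (hx : x ∈ Vadd H 𝒩) : r • x ∈ Vadd H 𝒩 := by
  intro i hi
  rw [decompose_smul_of_mem 𝒜 𝒩 hr x i]
  have h1 : i - h ∉ H := fun h2 => hi (by simpa using H.add_mem h2 hh)
  rw [hx _ h1, smul_zero]

theorem smul_mem_Vadd {r : R} (hr : r ∈ Vadd H 𝒜) {x : N} (hx : x ∈ Vadd H 𝒩) :
    r • x ∈ Vadd H 𝒩 := by
  classical
  rw [← DirectSum.sum_support_decompose 𝒜 r, Finset.sum_smul]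
  refine AddSubgroup.sum_mem _ fun h _ => ?_
  by_cases hh : h ∈ H
  · exact smul_mem_Vadd_of_mem H 𝒜 𝒩 hh (SetLike.coe_mem _) hx
  · rw [hr h hh, zero_smul]
    exact zero_mem _

theorem vproj_smul_of_mem {h : ι} (hh : h ∈ H) {r : R} (hr : r ∈ 𝒜 h) (x : N) :
    vproj H 𝒩 (r • x) = r • vproj H 𝒩 x := by
  apply ext_decompose 𝒩
  intro i
  rw [decompose_vproj, decompose_smul_of_mem 𝒜 𝒩 hr x i, decompose_smul_of_mem 𝒜 𝒩 hr _ i,
    decompose_vproj]
  have h1 : i ∈ H ↔ i - h ∈ H :=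
    ⟨fun h2 => H.sub_mem h2 hh, fun h2 => by simpa using H.add_mem h2 hh⟩
  by_cases hi : i ∈ H
  · rw [if_pos hi, if_pos (h1.mp hi)]
  · rw [if_neg hi, if_neg (fun h2 => hi (h1.mpr h2)), smul_zero]

theorem vproj_smul {r : R} (hr : r ∈ Vadd H 𝒜) (x : N) :
    vproj H 𝒩 (r • x) = r • vproj H 𝒩 x := by
  classical
  conv_lhs => rw [← DirectSum.sum_support_decompose 𝒜 r]
  conv_rhs => rw [← DirectSum.sum_support_decompose 𝒜 r]
  rw [Finset.sum_smul, map_sum, Finset.sum_smul]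
  refine Finset.sum_congr rfl fun h _ => ?_
  by_cases hh : h ∈ H
  · exact vproj_smul_of_mem H 𝒜 𝒩 hh (SetLike.coe_mem _) x
  · rw [hr h hh, zero_smul, zero_smul, map_zero]

variable {P : Type u} [AddCommGroup P] [Module R P] (𝓟 : ι → AddSubgroup P)
  [DirectSum.Decomposition 𝓟] [SetLike.GradedSMul 𝒜 𝓟]

theorem vproj_map (f : N →ₗ[R] P) (hf : IsGrHom 𝒩 𝓟 f) (x : N) :
    f (vproj H 𝒩 x) = vproj H 𝓟 (f x) := by
  apply ext_decompose 𝓟
  intro i
  rw [decompose_map 𝓟 𝒩 f hf, decompose_vproj, decompose_vproj, decompose_map 𝓟 𝒩 f hf]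
  split_ifs
  · rfl
  · exact map_zero f

theorem map_mem_Vadd (f : N →ₗ[R] P) (hf : IsGrHom 𝒩 𝓟 f) {x : N} (hx : x ∈ Vadd H 𝒩) :
    f x ∈ Vadd H 𝓟 := by
  intro i hi
  rw [decompose_map 𝓟 𝒩 f hf, hx i hi, map_zero]

end Groth.Agent.Lib.T2H3.Ver
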