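import Groth.Agent.Lib.T2H3VerB
import Groth.Agent.Lib.Helper29LCAcyclic
import Groth.Agent.Lib.Helper8Acyc
import Groth.Agent.S11614
import Groth.Agent.S13217

/-! Veronese submodules of *injective modules are acyclic for the torsion functor of the Veronese
subring (helper3). -/

set_option autoImplicit false
set_option linter.unusedSectionVars false
set_option linter.style.haveILetI false
open DirectSum CategoryTheory

noncomputable section

namespace Groth.Agent.Lib.T2H3.Ver

open GrLC Groth.Agent.Lib.Helper29GrHom Groth.Agent.Lib.Helper29GrEss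
  Groth.Agent.Lib.Helper29LCAcyclic

universe u

variable {R R' : Type u} [CommRing R] [CommRing R']
variable {𝒜 : ℤ → AddSubgroup R} [GradedRing 𝒜] {𝒜' : ℤ → AddSubgroup R'} [GradedRing 𝒜']
variable {φ : R' →+* R} {q : ℕ}
variable {N : Type u} [AddCommGroup N] [Module R N] (𝒩 : ℤ → AddSubgroup N)
  [DirectSum.Decomposition 𝒩] [SetLike.GradedSMul 𝒜 𝒩]

theorem LC_Vsub_eq_zero [IsNoetherianRing R] (hV : VerHyp 𝒜 𝒜' φ q) (m : HomogeneousIdeal 𝒜)
    (J : Ideal R') (hrad : (J.map φ).radical = m.toIdeal.radical) (hI : IsStarInj 𝒜 𝒩) (j : ℕ)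
    (x : LC J (j + 1) ↥(Vsub 𝒩 hV)) : x = 0 := by
  haveI : IsNoetherianRing R' := isNoetherianRing_of_verHyp hV
  letI : Algebra R' R := φ.toAlgebra
  haveI : IsScalarTower R' R (Rs φ N) := ⟨fun r' r y => by
    change (φ r' * r) • (show N from y) = φ r' • (r • (show N from y))
    rw [mul_smul]⟩
  obtain ⟨ψ, -⟩ := Groth.Agent.S11614.result R' R J (Rs φ N) (j + 1)
  haveI h0 : Subsingleton (LocCoh.H m.toIdeal (j + 1) N) :=
    Groth.Agent.S13217.result R 𝒜 m N 𝒩 hI (j + 1) (Nat.le_add_left 1 j)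
  haveI h1 : Subsingleton (LocCoh.H (Ideal.map (algebraMap R' R) J) (j + 1) (Rs φ N)) :=
    Groth.Agent.Lib.Helper8.Acyc.subsingleton_of_radical_eq (K := m.toIdeal) hrad (j + 1) N h0
  haveI h2 : Subsingleton (LocCoh.H J (j + 1) (Rs φ N)) := ψ.symm.injective.subsingleton
  have h3 : (localCohomology J (j + 1)).map (ModuleCat.ofHom (Vsub 𝒩 hV).subtype) ≫
      (localCohomology J (j + 1)).map (ModuleCat.ofHom (Vproj 𝒩 hV)) = 𝟙 _ := by
    rw [← Functor.map_comp, ← ModuleCat.ofHom_comp, Vproj_comp_subtype]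
    exact CategoryTheory.Functor.map_id _ _
  have h4 := congrArg (fun f => f.hom x) h3
  simp only [ModuleCat.hom_comp, LinearMap.comp_apply, ModuleCat.hom_id, LinearMap.id_apply] at h4
  rw [← h4]
  have h5 : ((localCohomology J (j + 1)).map (ModuleCat.ofHom (Vsub 𝒩 hV).subtype)).hom x = 0 :=
    Subsingleton.elim _ _
  rw [h5, map_zero]

end Groth.Agent.Lib.T2H3.Ver
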