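import Groth.Agent.Lib.T2H3VerC
import Groth.Agent.Lib.Helper29Cone
import Groth.Agent.Lib.Helper29GrCompare
import Groth.Agent.Lib.T2H3GrLesF

/-! Local cohomology of Veronese modules (helper3): the pieces of `H^p_{m'}(M^(q))` are the pieces
`H^p_m(M)_{jq}`, compared through the Veronese of a *injective resolution of `M`. -/

set_option autoImplicit false
set_option linter.unusedSectionVars false
set_option linter.style.haveILetI false
open DirectSum CategoryTheory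

noncomputable section

namespace Groth.Agent.Lib.T2H3.Ver

open GrLC Groth.Agent.Lib.Helper29GrHom Groth.Agent.Lib.Helper29GrEss
  Groth.Agent.Lib.Helper29GrGam Groth.Agent.Lib.Helper29LCAcyclic Groth.Agent.Lib.T2H3.GrLes

universe u

section Rank

/-- Two surjections from the same group with the same kernel have targets of the same rank. -/
theorem rank_eq_of_two_surjections {K K' : Type u} {T A B : Type u} [Ring K] [Ring K']
    [AddCommGroup T] [AddCommGroup A] [AddCommGroup B] [Module K T] [Module K A] [Module K' B]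
    (i : K → K') (hi : Function.Bijective i) (f₁ : T →+ A) (f₂ : T →+ B)
    (h₁ : Function.Surjective f₁) (h₂ : Function.Surjective f₂)
    (hker : ∀ z, f₁ z = 0 ↔ f₂ z = 0) (hs₁ : ∀ (r : K) (z : T), f₁ (r • z) = r • f₁ z)
    (hs₂ : ∀ (r : K) (z : T), f₂ (r • z) = i r • f₂ z) :
    Module.rank K A = Module.rank K' B := by
  have hk : f₁.ker = f₂.ker := by
    ext z
    rw [AddMonoidHom.mem_ker, AddMonoidHom.mem_ker]
    exact hker z
  let e₁ := QuotientAddGroup.quotientKerEquivOfSurjective f₁ h₁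
  let e₂ := QuotientAddGroup.quotientKerEquivOfSurjective f₂ h₂
  let e₀ := QuotientAddGroup.quotientAddEquivOfEq hk
  let j : A ≃+ B := e₁.symm.trans (e₀.trans e₂)
  have hj : ∀ z, j (f₁ z) = f₂ z := by
    intro z
    have h3 : e₁.symm (f₁ z) = QuotientAddGroup.mk z := by
      rw [AddEquiv.symm_apply_eq]
      rfl
    change e₂ (e₀ (e₁.symm (f₁ z))) = f₂ z
    rw [h3]
    rfl
  refine rank_eq_of_equiv_equiv i j hi ?_
  intro r a
  obtain ⟨z, rfl⟩ := h₁ a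
  rw [← hs₁, hj, hj, hs₂]

end Rank

variable {R R' : Type u} [CommRing R] [CommRing R']
variable {𝒜 : ℤ → AddSubgroup R} [GradedRing 𝒜] {𝒜' : ℤ → AddSubgroup R'} [GradedRing 𝒜']
variable {φ : R' →+* R} {q : ℕ}

theorem radical_map_eq (hV : VerHyp 𝒜 𝒜' φ q) (m : HomogeneousIdeal 𝒜)
    (m' : HomogeneousIdeal 𝒜')
    (hmsp : m.toIdeal = Ideal.span (⋃ n ∈ Set.Ioi (0 : ℤ), (𝒜 n : Set R)))
    (hm'sp : m'.toIdeal = Ideal.span (⋃ j ∈ Set.Ioi (0 : ℤ), (𝒜' j : Set R'))) :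
    (m'.toIdeal.map φ).radical = m.toIdeal.radical := by
  apply le_antisymm
  · apply Ideal.radical_mono
    rw [hm'sp, Ideal.map_span, Ideal.span_le]
    rintro _ ⟨r, hr, rfl⟩
    simp only [Set.mem_iUnion, Set.mem_Ioi] at hr
    obtain ⟨j, hj, hrj⟩ := hr
    rw [hmsp]
    apply Ideal.subset_span
    simp only [Set.mem_iUnion, Set.mem_Ioi]
    have hq : (0 : ℤ) < q := by exact_mod_cast hV.hq
    exact ⟨j * q, mul_pos hj hq, phi_mem hV hrj⟩
  · rw [Ideal.radical_le_radical_iff, hmsp, Ideal.span_le]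
    intro x hx
    simp only [Set.mem_iUnion, Set.mem_Ioi] at hx
    obtain ⟨n, hn, hxn⟩ := hx
    refine ⟨q, ?_⟩
    have h1 : x ^ q ∈ 𝒜 (q • n) := SetLike.pow_mem_graded q hxn
    have h2 : (q • n : ℤ) = n * q := by rw [nsmul_eq_mul, mul_comm]
    rw [h2, ← hV.hdeg n] at h1
    obtain ⟨r, hr, hrx⟩ := h1
    have hrx' : φ r = x ^ q := hrx
    rw [← hrx']
    apply Ideal.mem_map_of_mem
    rw [hm'sp]
    apply Ideal.subset_span
    simp only [Set.mem_iUnion, Set.mem_Ioi]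
    exact ⟨n, hn, hr⟩

variable {N : Type u} [AddCommGroup N] [Module R N] (𝒩 : ℤ → AddSubgroup N)
  [DirectSum.Decomposition 𝒩] [SetLike.GradedSMul 𝒜 𝒩]

theorem smul_eq_zero_of_mem_map_pow (hV : VerHyp 𝒜 𝒜' φ q) (J : Ideal R') (k : ℕ)
    (x : ↥(Vsub 𝒩 hV)) (hk : ∀ r ∈ J ^ k, r • x = 0) {r : R} (hr : r ∈ (J.map φ) ^ k) :
    r • Vval 𝒩 hV x = 0 := by
  rw [← Ideal.map_pow] at hr
  refine Submodule.span_induction (p := fun r _ => r • Vval 𝒩 hV x = 0) ?_ ?_ ?_ ?_ hr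
  · rintro _ ⟨s, hs, rfl⟩
    have h1 := congrArg (Vval 𝒩 hV) (hk s hs)
    rw [Vval_smul, map_zero] at h1
    exact h1
  · exact zero_smul _ _
  · intro r s _ _ hr hs
    rw [add_smul, hr, hs, add_zero]
  · intro c r _ hr
    rw [smul_eq_mul, mul_smul, hr, smul_zero]

theorem mem_gam_Vsub_iff [IsNoetherianRing R] (hV : VerHyp 𝒜 𝒜' φ q) (m : HomogeneousIdeal 𝒜)
    (J : Ideal R') (hrad : (J.map φ).radical = m.toIdeal.radical) (x : ↥(Vsub 𝒩 hV)) :
    x ∈ gam J ↥(Vsub 𝒩 hV) ↔ Vval 𝒩 hV x ∈ gam m.toIdeal N := by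
  constructor
  · rintro ⟨k, hk⟩
    have hle : m.toIdeal ≤ (J.map φ).radical := by
      rw [hrad]
      exact Ideal.le_radical
    obtain ⟨t, ht⟩ := Ideal.exists_pow_le_of_le_radical_of_fg hle (IsNoetherian.noetherian _)
    refine ⟨t * k, fun r hr => ?_⟩
    rw [pow_mul] at hr
    exact smul_eq_zero_of_mem_map_pow 𝒩 hV J k x hk (Ideal.pow_right_mono ht k hr)
  · rintro ⟨k, hk⟩
    have hle : J.map φ ≤ m.toIdeal.radical := by
      rw [← hrad]
      exact Ideal.le_radical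
    obtain ⟨t, ht⟩ := Ideal.exists_pow_le_of_le_radical_of_fg hle (IsNoetherian.noetherian _)
    refine ⟨t * k, fun r hr => ?_⟩
    apply Vval_injective 𝒩 hV
    rw [Vval_smul, map_zero]
    apply hk
    have h1 : φ r ∈ (J.map φ) ^ (t * k) := by
      rw [← Ideal.map_pow]
      exact Ideal.mem_map_of_mem φ hr
    rw [pow_mul] at h1
    exact Ideal.pow_right_mono ht k h1

section Main

variable [IsNoetherianRing R]
variable {M : Type u} [AddCommGroup M] [Module R M] {ℳ : ℤ → AddSubgroup M}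
  [DirectSum.Decomposition ℳ] [SetLike.GradedSMul 𝒜 ℳ]
variable {M' : Type u} [AddCommGroup M'] [Module R' M'] {ℳ' : ℤ → AddSubgroup M'}
  [DirectSum.Decomposition ℳ'] [SetLike.GradedSMul 𝒜' ℳ']

variable (𝒜 𝒜' φ q ℳ ℳ') in
/-- The data of the Veronese comparison. -/
structure Setup where
  hV : VerHyp 𝒜 𝒜' φ q
  g : M' →ₛₗ[φ] M
  hg : Function.Injective g
  hgdeg : ∀ j : ℤ, (ℳ' j).map (g : M' →+ M) = ℳ (j * q)
  E : StarInjRes 𝒜 ℳ
  F : StarInjRes 𝒜' ℳ'
  m : HomogeneousIdeal 𝒜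
  m' : HomogeneousIdeal 𝒜'
  hrad : (m'.toIdeal.map φ).radical = m.toIdeal.radical

namespace Setup

variable (S : Setup 𝒜 𝒜' φ q ℳ ℳ')

theorem g_mem {j : ℤ} {x : M'} (hx : x ∈ ℳ' j) : S.g x ∈ ℳ (j * q) := by
  rw [← S.hgdeg j]
  exact ⟨x, hx, rfl⟩

theorem g_mem_Vadd (x : M') : S.g x ∈ Vadd (Hq q) ℳ := by
  classical
  rw [← DirectSum.sum_support_decompose ℳ' x, map_sum]
  refine AddSubgroup.sum_mem _ fun j _ => ?_
  exact mem_Vadd_of_mem (Hq q) ℳ (mul_mem_Hq q j) (S.g_mem (SetLike.coe_mem _))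

theorem exists_g_eq {x : M} (hx : x ∈ Vadd (Hq q) ℳ) : ∃ y : M', S.g y = x := by
  classical
  have h1 : x ∈ (S.g : M' →+ M).range := by
    rw [← DirectSum.sum_support_decompose ℳ x]
    refine AddSubgroup.sum_mem _ fun i _ => ?_
    by_cases hi : i ∈ Hq q
    · obtain ⟨j, rfl⟩ := exists_of_mem_Hq hi
      have h2 : ((decompose ℳ x) (j * q) : M) ∈ (ℳ' j).map (S.g : M' →+ M) := by
        rw [S.hgdeg j]
        exact SetLike.coe_mem _
      obtain ⟨r, -, hr⟩ := h2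
      exact ⟨r, hr⟩
    · rw [hx i hi]
      exact zero_mem _
  exact h1

/-- The Veronese of the terms of the resolution. -/
abbrev X (n : ℕ) : Type u := ↥(Vsub (S.E.X n).gr S.hV)

/-- The same, bundled. -/
abbrev XG (n : ℕ) : GMod.{u} 𝒜' := VG (S.E.X n).gr S.hV

/-- The differentials. -/
abbrev dX (n : ℕ) : S.X n →ₗ[R'] S.X (n + 1) :=
  Vmap (S.E.X n).gr (S.E.X (n + 1)).gr S.hV (S.E.d n) (S.E.d_grHom n)

/-- The augmentation. -/
def εX : M' →ₗ[R'] S.X 0 where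
  toFun y := Vmk (S.E.X 0).gr S.hV (S.E.ε (S.g y))
    (map_mem_Vadd (Hq q) ℳ (S.E.X 0).gr S.E.ε S.E.ε_grHom (S.g_mem_Vadd y))
  map_add' a b := by
    apply Subtype.ext
    change S.E.ε (S.g (a + b)) = S.E.ε (S.g a) + S.E.ε (S.g b)
    rw [map_add, map_add]
  map_smul' r a := by
    apply Subtype.ext
    change S.E.ε (S.g (r • a)) = φ r • S.E.ε (S.g a)
    rw [S.g.map_smulₛₗ, map_smul]

theorem Vval_εX (y : M') : Vval (S.E.X 0).gr S.hV (S.εX y) = S.E.ε (S.g y) := rfl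

theorem dX_isGrHom (n : ℕ) : IsGrHom (S.XG n).gr (S.XG (n + 1)).gr (S.dX n) :=
  Vmap_isGrHom (S.E.X n).gr (S.E.X (n + 1)).gr S.hV (S.E.d n) (S.E.d_grHom n)

theorem εX_isGrHom : IsGrHom ℳ' (S.XG 0).gr S.εX :=
  fun j y hy => S.E.ε_grHom (j * q) (S.g y) (S.g_mem hy)

theorem εX_injective : Function.Injective S.εX := by
  intro a b hab
  apply S.hg
  apply S.E.ε_injective
  exact congrArg (Vval (S.E.X 0).gr S.hV) hab

theorem exact_succ (n : ℕ) : LinearMap.ker (S.dX (n + 1)) = LinearMap.range (S.dX n) :=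
  Vmap_ker_eq_range (S.E.X n).gr (S.E.X (n + 1)).gr (S.E.X (n + 1 + 1)).gr S.hV (S.E.d n)
    (S.E.d_grHom n) (S.E.d (n + 1)) (S.E.d_grHom (n + 1)) (S.E.exact_succ n)

theorem exact_zero : LinearMap.ker (S.dX 0) = LinearMap.range S.εX := by
  apply le_antisymm
  · intro y hy
    have hy0 : S.E.d 0 (Vval (S.E.X 0).gr S.hV y) = 0 :=
      congrArg (Vval (S.E.X 1).gr S.hV) (LinearMap.mem_ker.mp hy)
    have hy1 : Vval (S.E.X 0).gr S.hV y ∈ LinearMap.range S.E.ε := by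
      rw [← S.E.exact_zero]
      exact hy0
    obtain ⟨x, hx⟩ := hy1
    have hxV : x ∈ Vadd (Hq q) ℳ := by
      intro i hi
      apply S.E.ε_injective
      rw [← decompose_map (S.E.X 0).gr ℳ S.E.ε S.E.ε_grHom x i, hx, map_zero]
      exact Vval_mem (S.E.X 0).gr S.hV y i hi
    obtain ⟨z, hz⟩ := S.exists_g_eq hxV
    refine ⟨z, ?_⟩
    apply Vval_injective (S.E.X 0).gr S.hV
    rw [Vval_εX, hz, hx]
  · rintro _ ⟨z, rfl⟩
    rw [LinearMap.mem_ker]
    apply Vval_injective (S.E.X 1).gr S.hV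
    rw [Vval_Vmap, Vval_εX, map_zero]
    exact res_d_ε S.E _

theorem hacycX (n j : ℕ) (x : LC S.m'.toIdeal (j + 1) (S.X n)) : x = 0 :=
  LC_Vsub_eq_zero (S.E.X n).gr S.hV S.m S.m'.toIdeal S.hrad (S.E.starInj n) j x

theorem hacycF (n j : ℕ) (x : LC S.m'.toIdeal (j + 1) (S.F.X n).carrier) : x = 0 := by
  haveI : IsNoetherianRing R' := isNoetherianRing_of_verHyp S.hV
  haveI := Groth.Agent.S13217.result R' 𝒜' S.m' (S.F.X n).carrier (S.F.X n).gr (S.F.starInj n)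
    (j + 1) (Nat.le_add_left 1 j)
  exact Subsingleton.elim _ _

end Setup

end Main

end Groth.Agent.Lib.T2H3.Ver
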