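import Groth.Agent.Lib.T2H3VerD

/-! Local cohomology of Veronese modules, conclusion (helper3): equality of the ranks of the pieces
`H^p_{m'}(M^(q))_j` and `H^p_m(M)_{jq}`. -/

set_option autoImplicit false
set_option linter.unusedSectionVars false
set_option linter.style.haveILetI false
open DirectSum CategoryTheory

noncomputable section

namespace Groth.Agent.Lib.T2H3.Ver

open GrLC Groth.Agent.Lib.Helper29GrHom Groth.Agent.Lib.Helper29GrEss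
  Groth.Agent.Lib.Helper29GrGam Groth.Agent.Lib.Helper29LCAcyclic Groth.Agent.Lib.T2H3.GrLes

universe u

variable {R R' : Type u} [CommRing R] [CommRing R']
variable {𝒜 : ℤ → AddSubgroup R} [GradedRing 𝒜] {𝒜' : ℤ → AddSubgroup R'} [GradedRing 𝒜']
variable {φ : R' →+* R} {q : ℕ}
variable [IsNoetherianRing R]
variable {M : Type u} [AddCommGroup M] [Module R M] {ℳ : ℤ → AddSubgroup M}
  [DirectSum.Decomposition ℳ] [SetLike.GradedSMul 𝒜 ℳ]
variable {M' : Type u} [AddCommGroup M'] [Module R' M'] {ℳ' : ℤ → AddSubgroup M'}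
  [DirectSum.Decomposition ℳ'] [SetLike.GradedSMul 𝒜' ℳ']

namespace Setup

variable (S : Setup 𝒜 𝒜' φ q ℳ ℳ')

theorem exists_theta : ∃ θ : ∀ n, S.X n →ₗ[R'] (S.F.X n).carrier,
    (∀ n, IsGrHom (S.XG n).gr (S.F.X n).gr (θ n)) ∧ (∀ y : M', θ 0 (S.εX y) = S.F.ε y) ∧
    ∀ (n : ℕ) (x : S.X n), θ (n + 1) (S.dX n x) = S.F.d n (θ n x) :=
  Groth.Agent.Lib.Helper29GrCompare.exists_comparison 𝒜' ℳ' S.XG S.dX S.εX S.dX_isGrHom
    S.εX_isGrHom S.exact_zero S.exact_succ S.F S.εX_injective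

/-- The ring bijection `R'_0 → R_0`. -/
def i0 : deg0 𝒜' → deg0 𝒜 := fun r => ⟨φ r, by
  have h := phi_mem S.hV (show (r : R') ∈ 𝒜' 0 from r.2)
  rw [zero_mul] at h
  exact h⟩

theorem i0_bijective : Function.Bijective S.i0 := by
  constructor
  · intro a b hab
    apply Subtype.ext
    apply S.hV.hφ
    exact congrArg Subtype.val hab
  · rintro ⟨y, hy⟩
    have h1 : y ∈ (𝒜' 0).map (φ : R' →+ R) := by
      rw [S.hV.hdeg 0, zero_mul]
      exact hy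
    obtain ⟨r, hr, hry⟩ := h1
    exact ⟨⟨r, hr⟩, Subtype.ext hry⟩

theorem hcobF (p : ℕ) : Groth.Agent.Lib.Helper29Cone.cobdy S.m'.toIdeal
    (fun n => (S.F.X n).carrier) S.F.d p = S.F.cobdy S.m' p := by
  cases p <;> rfl

/-- The coboundaries of `Γ_{m'}` of the Veronese complex. -/
abbrev cobX (p : ℕ) : Submodule R' (S.X p) :=
  Groth.Agent.Lib.Helper29Cone.cobdy S.m'.toIdeal S.X S.dX p

/-- The cocycles of degree `j` of `Γ_{m'}` of the Veronese complex. -/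
def T (p : ℕ) (j : ℤ) : Submodule (deg0 𝒜') (S.X p) where
  carrier := {z | z ∈ gam S.m'.toIdeal (S.X p) ∧ S.dX p z = 0 ∧ z ∈ (S.XG p).gr j}
  add_mem' := by
    rintro a b ⟨ha1, ha2, ha3⟩ ⟨hb1, hb2, hb3⟩
    exact ⟨add_mem ha1 hb1, by rw [map_add, ha2, hb2, add_zero], add_mem ha3 hb3⟩
  zero_mem' := ⟨zero_mem _, map_zero _, zero_mem _⟩
  smul_mem' := by
    rintro r a ⟨ha1, ha2, ha3⟩
    refine ⟨Submodule.smul_mem _ (r : R') ha1, ?_, ?_⟩
    · change S.dX p ((r : R') • a) = 0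
      rw [map_smul, ha2, smul_zero]
    · have h := (VGS (S.E.X p).gr S.hV).smul_mem (show (r : R') ∈ 𝒜' 0 from r.2) ha3
      rw [vadd_eq_add, zero_add] at h
      exact h

variable (θ : ∀ n, S.X n →ₗ[R'] (S.F.X n).carrier)
  (hθgr : ∀ n, IsGrHom (S.XG n).gr (S.F.X n).gr (θ n))
  (hθ0 : ∀ y : M', θ 0 (S.εX y) = S.F.ε y)
  (hθ : ∀ (n : ℕ) (x : S.X n), θ (n + 1) (S.dX n x) = S.F.d n (θ n x))

include hθ in
theorem T_F_cocyc {p : ℕ} {j : ℤ} {z : S.X p} (hz : z ∈ S.T p j) :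
    θ p z ∈ S.F.cocyc S.m' p := by
  refine Submodule.mem_inf.mpr ⟨gam_map S.m'.toIdeal (θ p) hz.1, ?_⟩
  rw [LinearMap.mem_ker, ← hθ p z, hz.2.1, map_zero]

theorem T_E_cocyc {p : ℕ} {j : ℤ} {z : S.X p} (hz : z ∈ S.T p j) :
    Vval (S.E.X p).gr S.hV z ∈ S.E.cocyc S.m p := by
  refine Submodule.mem_inf.mpr ⟨?_, ?_⟩
  · exact (mem_gam_Vsub_iff (S.E.X p).gr S.hV S.m S.m'.toIdeal S.hrad z).mp hz.1
  · exact congrArg (Vval (S.E.X (p + 1)).gr S.hV) hz.2.1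

/-- The class map to `H^p_{m'}(M')_j`. -/
def f₁ (p : ℕ) (j : ℤ) : S.T p j →+ S.F.Hcomp S.m' p j :=
  AddMonoidHom.mk' (fun z => ⟨S.F.toH S.m' p ⟨θ p z, S.T_F_cocyc θ hθ z.2⟩,
    ⟨⟨θ p z, S.T_F_cocyc θ hθ z.2⟩, hθgr p j z z.2.2.2, rfl⟩⟩) (by
    intro a b
    apply Subtype.ext
    change S.F.toH S.m' p ⟨θ p (a + b : S.X p), _⟩ =
      S.F.toH S.m' p ⟨θ p a, _⟩ + S.F.toH S.m' p ⟨θ p b, _⟩
    rw [← map_add]
    congr 1
    exact Subtype.ext (map_add (θ p) _ _))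

/-- The class map to `H^p_m(M)_{jq}`. -/
def f₂ (p : ℕ) (j : ℤ) : S.T p j →+ S.E.Hcomp S.m p (j * q) :=
  AddMonoidHom.mk' (fun z => ⟨S.E.toH S.m p ⟨Vval (S.E.X p).gr S.hV z, S.T_E_cocyc z.2⟩,
    ⟨⟨Vval (S.E.X p).gr S.hV z, S.T_E_cocyc z.2⟩, z.2.2.2, rfl⟩⟩) (by
    intro a b
    apply Subtype.ext
    change S.E.toH S.m p ⟨Vval (S.E.X p).gr S.hV (a + b : S.X p), _⟩ =
      S.E.toH S.m p ⟨Vval (S.E.X p).gr S.hV a, _⟩ + S.E.toH S.m p ⟨Vval (S.E.X p).gr S.hV b, _⟩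
    rw [← map_add]
    congr 1)

theorem f₂_surjective (p : ℕ) (j : ℤ) : Function.Surjective (S.f₂ p j) := by
  rintro ⟨y, w, hw, rfl⟩
  have hwV : (w : (S.E.X p).carrier) ∈ Vadd (Hq q) (S.E.X p).gr :=
    mem_Vadd_of_mem (Hq q) (S.E.X p).gr (mul_mem_Hq q j) hw
  have hz : Vmk (S.E.X p).gr S.hV (w : (S.E.X p).carrier) hwV ∈ S.T p j := by
    refine ⟨?_, ?_, hw⟩
    · exact (mem_gam_Vsub_iff (S.E.X p).gr S.hV S.m S.m'.toIdeal S.hrad _).mpr
        (Submodule.mem_inf.mp w.2).1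
    · apply Vval_injective (S.E.X (p + 1)).gr S.hV
      rw [Vval_Vmap, Vval_Vmk, map_zero]
      exact (Submodule.mem_inf.mp w.2).2
  exact ⟨⟨_, hz⟩, Subtype.ext rfl⟩

/-- The homogeneous component of degree `j` in the Veronese complex. -/
def compX (p : ℕ) (j : ℤ) (x : S.X p) : S.X p :=
  ((decompose (S.XG p).gr x) j : (S.XG p).carrier)

theorem compX_mem_gr (p : ℕ) (j : ℤ) (x : S.X p) : S.compX p j x ∈ (S.XG p).gr j :=
  SetLike.coe_mem ((decompose (S.XG p).gr x) j)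

theorem compX_mem_gam (p : ℕ) (j : ℤ) {x : S.X p} (hx : x ∈ gam S.m'.toIdeal (S.X p)) :
    S.compX p j x ∈ gam S.m'.toIdeal (S.X p) :=
  gam_isHomogeneous 𝒜' (S.XG p).gr S.m' j hx

theorem dX_compX (p : ℕ) (j : ℤ) (x : S.X p) :
    S.dX p (S.compX p j x) = S.compX (p + 1) j (S.dX p x) :=
  (decompose_map (S.XG (p + 1)).gr (S.XG p).gr (S.dX p) (S.dX_isGrHom p) x j).symm

include hθgr in
theorem theta_compX (p : ℕ) (j : ℤ) (x : S.X p) :
    θ p (S.compX p j x) = ((decompose (S.F.X p).gr (θ p x)) j : (S.F.X p).carrier) :=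
  (decompose_map (S.F.X p).gr (S.XG p).gr (θ p) (hθgr p) x j).symm

theorem compX_zero (p : ℕ) (j : ℤ) : S.compX p j 0 = 0 := by
  have h : decompose (S.XG p).gr (0 : (S.XG p).carrier) = 0 := DirectSum.decompose_zero _
  change ((decompose (S.XG p).gr (0 : (S.XG p).carrier)) j : (S.XG p).carrier) = 0
  rw [h]
  rfl

include hθ0 in
theorem f₁_surjective (p : ℕ) (j : ℤ) : Function.Surjective (S.f₁ θ hθgr hθ p j) := by
  rintro ⟨y, w, hw, rfl⟩
  obtain ⟨x, hx1, hx2, hx3⟩ := Groth.Agent.Lib.Helper29Cone.comparison_surj S.m'.toIdeal S.X S.dX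
    S.εX S.exact_succ S.exact_zero S.hacycX (fun n => (S.F.X n).carrier) S.F.d S.F.ε
    S.F.exact_succ S.F.ε_injective S.F.exact_zero S.hacycF θ hθ0 hθ p
    (w : (S.F.X p).carrier) (Submodule.mem_inf.mp w.2).1 (Submodule.mem_inf.mp w.2).2
  rw [S.hcobF] at hx3
  have hxj : S.compX p j x ∈ S.T p j := by
    refine ⟨S.compX_mem_gam p j hx1, ?_, S.compX_mem_gr p j x⟩
    rw [S.dX_compX, hx2, S.compX_zero]
  refine ⟨⟨_, hxj⟩, ?_⟩
  apply Subtype.ext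
  change S.F.toH S.m' p ⟨θ p (S.compX p j x), _⟩ = S.F.toH S.m' p w
  rw [toH_eq_toH_iff]
  have h5 : ((decompose (S.F.X p).gr ((w : (S.F.X p).carrier) - θ p x)) j : (S.F.X p).carrier) ∈
      S.F.cobdy S.m' p := cobdy_isHomogeneous S.F S.m' p j hx3
  rw [DirectSum.decompose_sub, DirectSum.sub_apply, AddSubgroup.coe_sub,
    DirectSum.decompose_of_mem_same (S.F.X p).gr hw, ← S.theta_compX θ hθgr p j x] at h5
  have h6 := neg_mem h5
  rw [neg_sub] at h6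
  exact h6

theorem mem_cobX_of_Vval_mem (p : ℕ) (j : ℤ) {z : S.X p} (hz : z ∈ S.T p j)
    (h : Vval (S.E.X p).gr S.hV z ∈ S.E.cobdy S.m p) : z ∈ S.cobX p := by
  cases p with
  | zero =>
    have h0 : Vval (S.E.X 0).gr S.hV z = 0 := (Submodule.mem_bot R).mp h
    have hz0 : z = 0 := by
      apply Vval_injective (S.E.X 0).gr S.hV
      rw [h0, map_zero]
    rw [hz0]
    exact zero_mem _
  | succ n =>
    obtain ⟨w, hw, hwz⟩ := h
    have hwj : ((decompose (S.E.X n).gr w) (j * q) : (S.E.X n).carrier) ∈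
        Vadd (Hq q) (S.E.X n).gr :=
      mem_Vadd_of_mem (Hq q) (S.E.X n).gr (mul_mem_Hq q j) (SetLike.coe_mem _)
    refine ⟨Vmk (S.E.X n).gr S.hV _ hwj, ?_, ?_⟩
    · rw [SetLike.mem_coe, mem_gam_Vsub_iff (S.E.X n).gr S.hV S.m S.m'.toIdeal S.hrad, Vval_Vmk]
      exact gam_isHomogeneous 𝒜 (S.E.X n).gr S.m (j * q) hw
    · apply Vval_injective (S.E.X (n + 1)).gr S.hV
      rw [Vval_Vmap, Vval_Vmk, ← decompose_map (S.E.X (n + 1)).gr (S.E.X n).gr (S.E.d n)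
        (S.E.d_grHom n) w (j * q), hwz]
      exact DirectSum.decompose_of_mem_same (S.E.X (n + 1)).gr hz.2.2

theorem Vval_mem_of_mem_cobX (p : ℕ) {z : S.X p} (h : z ∈ S.cobX p) :
    Vval (S.E.X p).gr S.hV z ∈ S.E.cobdy S.m p := by
  cases p with
  | zero =>
    have h0 : z = 0 := (Submodule.mem_bot R').mp h
    rw [h0, map_zero]
    exact zero_mem _
  | succ n =>
    obtain ⟨w, hw, rfl⟩ := h
    refine ⟨Vval (S.E.X n).gr S.hV w, ?_, rfl⟩
    exact (mem_gam_Vsub_iff (S.E.X n).gr S.hV S.m S.m'.toIdeal S.hrad w).mp hw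

include hθ in
theorem theta_mem_of_mem_cobX (p : ℕ) {z : S.X p} (h : z ∈ S.cobX p) :
    θ p z ∈ S.F.cobdy S.m' p := by
  cases p with
  | zero =>
    have h0 : z = 0 := (Submodule.mem_bot R').mp h
    rw [h0, map_zero]
    exact zero_mem _
  | succ n =>
    obtain ⟨w, hw, rfl⟩ := h
    exact ⟨θ n w, gam_map S.m'.toIdeal (θ n) hw, (hθ n w).symm⟩

theorem f₂_eq_zero_iff (p : ℕ) (j : ℤ) (z : S.T p j) :
    S.f₂ p j z = 0 ↔ (z : S.X p) ∈ S.cobX p := by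
  constructor
  · intro h
    have h1 : S.E.toH S.m p ⟨Vval (S.E.X p).gr S.hV z, S.T_E_cocyc z.2⟩ = 0 :=
      congrArg Subtype.val h
    rw [toH_eq_zero_iff] at h1
    exact S.mem_cobX_of_Vval_mem p j z.2 h1
  · intro h
    apply Subtype.ext
    change S.E.toH S.m p ⟨Vval (S.E.X p).gr S.hV z, S.T_E_cocyc z.2⟩ = 0
    rw [toH_eq_zero_iff]
    exact S.Vval_mem_of_mem_cobX p h

include hθ0 in
theorem f₁_eq_zero_iff (p : ℕ) (j : ℤ) (z : S.T p j) :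
    S.f₁ θ hθgr hθ p j z = 0 ↔ (z : S.X p) ∈ S.cobX p := by
  constructor
  · intro h
    have h1 : S.F.toH S.m' p ⟨θ p z, S.T_F_cocyc θ hθ z.2⟩ = 0 := congrArg Subtype.val h
    rw [toH_eq_zero_iff, ← S.hcobF] at h1
    exact Groth.Agent.Lib.Helper29Cone.comparison_inj S.m'.toIdeal S.X S.dX
      S.εX S.exact_succ S.exact_zero S.hacycX (fun n => (S.F.X n).carrier) S.F.d S.F.ε
      S.F.exact_succ S.F.ε_injective S.F.exact_zero S.hacycF θ hθ0 hθ p z z.2.1 z.2.2.1 h1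
  · intro h
    apply Subtype.ext
    change S.F.toH S.m' p ⟨θ p z, S.T_F_cocyc θ hθ z.2⟩ = 0
    rw [toH_eq_zero_iff]
    exact S.theta_mem_of_mem_cobX θ hθ p h

include hθgr hθ0 hθ in
theorem rank_eq_aux (p : ℕ) (j : ℤ) :
    Module.rank (deg0 𝒜') (S.F.Hcomp S.m' p j) = Module.rank (deg0 𝒜) (S.E.Hcomp S.m p (j * q)) := by
  refine rank_eq_of_two_surjections S.i0 S.i0_bijective (S.f₁ θ hθgr hθ p j) (S.f₂ p j)
    (S.f₁_surjective θ hθgr hθ0 hθ p j) (S.f₂_surjective p j) ?_ ?_ ?_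
  · intro z
    rw [S.f₁_eq_zero_iff θ hθgr hθ0 hθ p j z, S.f₂_eq_zero_iff p j z]
  · intro r z
    apply Subtype.ext
    change S.F.toH S.m' p ⟨θ p ((r : R') • (z : S.X p)), _⟩ =
      (r : R') • S.F.toH S.m' p ⟨θ p z, _⟩
    rw [← map_smul]
    congr 1
    exact Subtype.ext (map_smul (θ p) _ _)
  · intro r z
    apply Subtype.ext
    change S.E.toH S.m p ⟨Vval (S.E.X p).gr S.hV ((r : R') • (z : S.X p)), _⟩ =
      (φ (r : R')) • S.E.toH S.m p ⟨Vval (S.E.X p).gr S.hV z, _⟩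
    rw [← map_smul]
    congr 1

/-- The pieces of the local cohomology of the Veronese module have the ranks of the corresponding
pieces of the local cohomology of the module. -/
theorem finrank_eq (p : ℕ) (j : ℤ) :
    Module.finrank (deg0 𝒜') (S.F.Hcomp S.m' p j) =
      Module.finrank (deg0 𝒜) (S.E.Hcomp S.m p (j * q)) := by
  obtain ⟨θ, hθgr, hθ0, hθ⟩ := S.exists_theta
  exact congrArg Cardinal.toNat (S.rank_eq_aux θ hθgr hθ0 hθ p j)

end Setup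

end Groth.Agent.Lib.T2H3.Ver
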