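import Groth.Agent.Lib.T2H3VerE
import Groth.Agent.Lib.T2H3GorCanon

/-! Local cohomology of Veronese modules, module level (helper3): if `H^p_m(M)` is isomorphic, by
a homogeneous isomorphism of degree divisible by `q`, to a graded `R`-module `Y`, then
`H^p_{m'}(M^(q))` is isomorphic as an `R'`-module to the Veronese module `V(Y)`. -/

set_option autoImplicit false
set_option linter.unusedSectionVars false
set_option linter.style.haveILetI false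
open DirectSum CategoryTheory

noncomputable section

namespace Groth.Agent.Lib.T2H3.Ver

open GrLC Groth.Agent.Lib.Helper29GrHom Groth.Agent.Lib.Helper29GrEss
  Groth.Agent.Lib.Helper29GrGam Groth.Agent.Lib.Helper29LCAcyclic Groth.Agent.Lib.T2H3.GrLes

universe u

section Vproj

variable {ι : Type} [AddCommGroup ι] [DecidableEq ι] (H : AddSubgroup ι) [DecidablePred (· ∈ H)]
variable {R : Type u} [CommRing R] {N : Type u} [AddCommGroup N] [Module R N]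
  (𝒩 : ι → AddSubgroup N) [DirectSum.Decomposition 𝒩]

theorem vproj_mem_of_isHomogeneous (P : Submodule R N) (hP : P.IsHomogeneous 𝒩) {x : N}
    (hx : x ∈ P) : vproj H 𝒩 x ∈ P := by
  classical
  rw [← DirectSum.sum_support_decompose 𝒩 (vproj H 𝒩 x)]
  refine Submodule.sum_mem _ fun i _ => ?_
  rw [decompose_vproj]
  split_ifs
  · exact hP i hx
  · exact zero_mem _

end Vproj

variable {R R' : Type u} [CommRing R] [CommRing R']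
variable {𝒜 : ℤ → AddSubgroup R} [GradedRing 𝒜] {𝒜' : ℤ → AddSubgroup R'} [GradedRing 𝒜']
variable {φ : R' →+* R} {q : ℕ}
variable [IsNoetherianRing R]
variable {M : Type u} [AddCommGroup M] [Module R M] {ℳ : ℤ → AddSubgroup M}
  [DirectSum.Decomposition ℳ] [SetLike.GradedSMul 𝒜 ℳ]
variable {M' : Type u} [AddCommGroup M'] [Module R' M'] {ℳ' : ℤ → AddSubgroup M'}
  [DirectSum.Decomposition ℳ'] [SetLike.GradedSMul 𝒜' ℳ']

namespace Setup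

variable (S : Setup 𝒜 𝒜' φ q ℳ ℳ')

/-- The cocycles of `Γ_{m'}` of the Veronese complex. -/
def Zc (p : ℕ) : Submodule R' (S.X p) := gam S.m'.toIdeal (S.X p) ⊓ LinearMap.ker (S.dX p)

theorem mem_Zc {p : ℕ} {z : S.X p} :
    z ∈ S.Zc p ↔ z ∈ gam S.m'.toIdeal (S.X p) ∧ S.dX p z = 0 := by
  unfold Zc
  rw [Submodule.mem_inf, LinearMap.mem_ker]

theorem Zc_E_cocyc {p : ℕ} {z : S.X p} (hz : z ∈ S.Zc p) :
    Vval (S.E.X p).gr S.hV z ∈ S.E.cocyc S.m p := by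
  rw [mem_Zc] at hz
  refine Submodule.mem_inf.mpr ⟨?_, ?_⟩
  · exact (mem_gam_Vsub_iff (S.E.X p).gr S.hV S.m S.m'.toIdeal S.hrad z).mp hz.1
  · exact congrArg (Vval (S.E.X (p + 1)).gr S.hV) hz.2

/-- General form of `mem_cobX_of_Vval_mem`. -/
theorem mem_cobX_of_Vval_mem' (p : ℕ) {z : S.X p}
    (h : Vval (S.E.X p).gr S.hV z ∈ S.E.cobdy S.m p) : z ∈ S.cobX p := by
  cases p with
  | zero =>
    have h0 : Vval (S.E.X 0).gr S.hV z = 0 := (Submodule.mem_bot R).mp h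
    have hz0 : z = 0 := by
      apply Vval_injective (S.E.X 0).gr S.hV
      rw [h0, map_zero]
    rw [hz0]
    exact zero_mem _
  | succ n =>
    obtain ⟨w, hw, hwz⟩ := h
    refine ⟨Vmk (S.E.X n).gr S.hV (vproj (Hq q) (S.E.X n).gr w) (vproj_mem (Hq q) _ w), ?_, ?_⟩
    · rw [SetLike.mem_coe, mem_gam_Vsub_iff (S.E.X n).gr S.hV S.m S.m'.toIdeal S.hrad, Vval_Vmk]
      exact vproj_mem_of_isHomogeneous (Hq q) (S.E.X n).gr _
        (gam_isHomogeneous 𝒜 (S.E.X n).gr S.m) hw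
    · apply Vval_injective (S.E.X (n + 1)).gr S.hV
      rw [Vval_Vmap, Vval_Vmk, vproj_map (Hq q) (S.E.X n).gr (S.E.X (n + 1)).gr (S.E.d n)
        (S.E.d_grHom n), hwz]
      exact vproj_eq_self (Hq q) (S.E.X (n + 1)).gr (Vval_mem (S.E.X (n + 1)).gr S.hV z)

variable (θ : ∀ n, S.X n →ₗ[R'] (S.F.X n).carrier)
  (hθgr : ∀ n, IsGrHom (S.XG n).gr (S.F.X n).gr (θ n))
  (hθ0 : ∀ y : M', θ 0 (S.εX y) = S.F.ε y)
  (hθ : ∀ (n : ℕ) (x : S.X n), θ (n + 1) (S.dX n x) = S.F.d n (θ n x))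

include hθ in
theorem Zc_F_cocyc {p : ℕ} {z : S.X p} (hz : z ∈ S.Zc p) : θ p z ∈ S.F.cocyc S.m' p := by
  rw [mem_Zc] at hz
  refine Submodule.mem_inf.mpr ⟨gam_map S.m'.toIdeal (θ p) hz.1, ?_⟩
  rw [LinearMap.mem_ker, ← hθ p z, hz.2, map_zero]

/-- The class map to `H^p_{m'}(M')`. -/
def toF (p : ℕ) : ↥(S.Zc p) →ₗ[R'] S.F.H S.m' p :=
  (S.F.toH S.m' p) ∘ₗ ((θ p).restrict (fun _ hz => S.Zc_F_cocyc θ hθ hz) :
    ↥(S.Zc p) →ₗ[R'] ↥(S.F.cocyc S.m' p))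

theorem toF_apply (p : ℕ) (z : ↥(S.Zc p)) :
    S.toF θ hθ p z = S.F.toH S.m' p ⟨θ p z, S.Zc_F_cocyc θ hθ z.2⟩ := rfl

include hθ0 in
theorem toF_surjective (p : ℕ) : Function.Surjective (S.toF θ hθ p) := by
  intro y
  obtain ⟨w, rfl⟩ := toH_surjective S.F S.m' p y
  obtain ⟨x, hx1, hx2, hx3⟩ := Groth.Agent.Lib.Helper29Cone.comparison_surj S.m'.toIdeal S.X S.dX
    S.εX S.exact_succ S.exact_zero S.hacycX (fun n => (S.F.X n).carrier) S.F.d S.F.ε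
    S.F.exact_succ S.F.ε_injective S.F.exact_zero S.hacycF θ hθ0 hθ p
    (w : (S.F.X p).carrier) (Submodule.mem_inf.mp w.2).1 (Submodule.mem_inf.mp w.2).2
  rw [S.hcobF] at hx3
  refine ⟨⟨x, S.mem_Zc.mpr ⟨hx1, hx2⟩⟩, ?_⟩
  rw [toF_apply, toH_eq_toH_iff]
  have h6 := neg_mem hx3
  rw [neg_sub] at h6
  exact h6

include hθ0 in
theorem toF_eq_zero_iff (p : ℕ) (z : ↥(S.Zc p)) :
    S.toF θ hθ p z = 0 ↔ (z : S.X p) ∈ S.cobX p := by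
  rw [toF_apply, toH_eq_zero_iff]
  constructor
  · intro h1
    rw [← S.hcobF] at h1
    exact Groth.Agent.Lib.Helper29Cone.comparison_inj S.m'.toIdeal S.X S.dX
      S.εX S.exact_succ S.exact_zero S.hacycX (fun n => (S.F.X n).carrier) S.F.d S.F.ε
      S.F.exact_succ S.F.ε_injective S.F.exact_zero S.hacycF θ hθ0 hθ p z
      (S.mem_Zc.mp z.2).1 (S.mem_Zc.mp z.2).2 h1
  · intro h
    exact S.theta_mem_of_mem_cobX θ hθ p h

/-- The class map to `H^p_m(M)`. -/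
def cE (p : ℕ) : ↥(S.Zc p) →+ S.E.H S.m p :=
  AddMonoidHom.mk' (fun z => S.E.toH S.m p ⟨Vval (S.E.X p).gr S.hV z, S.Zc_E_cocyc z.2⟩) (by
    intro a b
    change S.E.toH S.m p ⟨Vval (S.E.X p).gr S.hV (a + b : S.X p), _⟩ =
      S.E.toH S.m p ⟨Vval (S.E.X p).gr S.hV a, _⟩ + S.E.toH S.m p ⟨Vval (S.E.X p).gr S.hV b, _⟩
    rw [← map_add]
    congr 1)

theorem cE_apply (p : ℕ) (z : ↥(S.Zc p)) :
    S.cE p z = S.E.toH S.m p ⟨Vval (S.E.X p).gr S.hV z, S.Zc_E_cocyc z.2⟩ := rfl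

theorem cE_smul (p : ℕ) (r : R') (z : ↥(S.Zc p)) : S.cE p (r • z) = φ r • S.cE p z := by
  rw [cE_apply, cE_apply, ← map_smul]
  congr 1

theorem cE_eq_zero_iff (p : ℕ) (z : ↥(S.Zc p)) : S.cE p z = 0 ↔ (z : S.X p) ∈ S.cobX p := by
  rw [cE_apply, toH_eq_zero_iff]
  exact ⟨fun h => S.mem_cobX_of_Vval_mem' p h, fun h => S.Vval_mem_of_mem_cobX p h⟩

theorem compX_mem_Zc (p : ℕ) (j : ℤ) {z : S.X p} (hz : z ∈ S.Zc p) : S.compX p j z ∈ S.Zc p := by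
  rw [mem_Zc] at hz ⊢
  refine ⟨S.compX_mem_gam p j hz.1, ?_⟩
  rw [S.dX_compX, hz.2, S.compX_zero]

theorem compX_mem_T (p : ℕ) (j : ℤ) {z : S.X p} (hz : z ∈ S.Zc p) : S.compX p j z ∈ S.T p j := by
  have h := S.mem_Zc.mp (S.compX_mem_Zc p j hz)
  exact ⟨h.1, h.2, S.compX_mem_gr p j z⟩

theorem cE_mem_Hgr (p : ℕ) (j : ℤ) (z : ↥(S.Zc p)) (hz : (z : S.X p) ∈ (S.XG p).gr j) :
    S.cE p z ∈ S.E.Hgr S.m p (j * q) :=
  ⟨⟨Vval (S.E.X p).gr S.hV z, S.Zc_E_cocyc z.2⟩, hz, rfl⟩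

/-- Every cocycle is the sum of its homogeneous components. -/
theorem sum_compX (p : ℕ) (z : ↥(S.Zc p)) : ∃ T : Finset ℤ,
    z = ∑ j ∈ T, (⟨S.compX p j z, S.compX_mem_Zc p j z.2⟩ : ↥(S.Zc p)) := by
  classical
  refine ⟨(decompose (S.XG p).gr ((z : S.X p) : (S.XG p).carrier)).support, ?_⟩
  apply Subtype.ext
  rw [AddSubmonoidClass.coe_finsetSum]
  have h := DirectSum.sum_support_decompose (M := (S.XG p).carrier) (S.XG p).gr (z : S.X p)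
  exact h.symm

variable {Y : Type u} [AddCommGroup Y] [Module R Y] (𝒴 : ℤ → AddSubgroup Y)
  [DirectSum.Decomposition 𝒴] [SetLike.GradedSMul 𝒜 𝒴]

section ToY

variable (p : ℕ) (ψ : S.E.H S.m p ≃ₗ[R] Y) (g : ℤ)
  (hψ : IsGrHomDeg (S.E.Hgr S.m p) 𝒴 ψ.toLinearMap g) (hg : (q : ℤ) ∣ g)

include hψ hg in
theorem psi_cE_mem_Vadd (z : ↥(S.Zc p)) : ψ (S.cE p z) ∈ Vadd (Hq q) 𝒴 := by
  classical
  obtain ⟨T, hT⟩ := S.sum_compX p z
  rw [hT, map_sum, map_sum]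
  refine AddSubgroup.sum_mem _ fun j _ => ?_
  have h1 := S.cE_mem_Hgr p j ⟨S.compX p j z, S.compX_mem_Zc p j z.2⟩ (S.compX_mem_gr p j z)
  have h2 := hψ (j * q) _ h1
  refine mem_Vadd_of_mem (Hq q) 𝒴 ?_ h2
  obtain ⟨c, hc⟩ := hg
  exact Int.mem_zmultiples_iff.mpr ⟨j + c, by rw [hc]; ring⟩

/-- The map to `V(Y)`. -/
def toY : ↥(S.Zc p) →ₗ[R'] ↥(Vsub 𝒴 S.hV) where
  toFun z := Vmk 𝒴 S.hV (ψ (S.cE p z)) (S.psi_cE_mem_Vadd 𝒴 p ψ g hψ hg z)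
  map_add' a b := by
    apply Subtype.ext
    change ψ (S.cE p (a + b)) = ψ (S.cE p a) + ψ (S.cE p b)
    rw [map_add, map_add]
  map_smul' r a := by
    apply Subtype.ext
    change ψ (S.cE p (r • a)) = φ r • ψ (S.cE p a)
    rw [S.cE_smul, map_smul]

theorem Vval_toY (z : ↥(S.Zc p)) :
    Vval 𝒴 S.hV (S.toY 𝒴 p ψ g hψ hg z) = ψ (S.cE p z) := rfl

theorem toY_eq_zero_iff (z : ↥(S.Zc p)) :
    S.toY 𝒴 p ψ g hψ hg z = 0 ↔ (z : S.X p) ∈ S.cobX p := by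
  rw [← S.cE_eq_zero_iff p z]
  constructor
  · intro h
    have h1 : ψ (S.cE p z) = 0 := congrArg (Vval 𝒴 S.hV) h
    exact ψ.injective (h1.trans (map_zero ψ).symm)
  · intro h
    apply Vval_injective 𝒴 S.hV
    rw [Vval_toY, h, map_zero, map_zero]

theorem toY_surjective : Function.Surjective (S.toY 𝒴 p ψ g hψ hg) := by
  classical
  letI := HgrDecomposition S.E S.m p
  intro y
  have hq0 : (q : ℤ) ≠ 0 := by exact_mod_cast S.hV.hq.ne'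
  -- it suffices to reach the homogeneous elements
  have key : ∀ (i : ℤ) (y₀ : Y), y₀ ∈ 𝒴 i → i ∈ Hq q → ∀ hy₀ : y₀ ∈ Vadd (Hq q) 𝒴,
      Vmk 𝒴 S.hV y₀ hy₀ ∈ LinearMap.range (S.toY 𝒴 p ψ g hψ hg) := by
    intro i y₀ hy₀ hi hy₀V
    obtain ⟨j, rfl⟩ := exists_of_mem_Hq hi
    obtain ⟨c, hc⟩ := hg
    have h1 : ψ.symm y₀ ∈ S.E.Hgr S.m p (j * q - g) :=
      Groth.Agent.Lib.T2H3.GorCanon.symm_deg (S.E.Hgr S.m p) 𝒴 ψ g hψ hy₀
    have e1 : j * q - g = (j - c) * q := by rw [hc]; ring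
    rw [e1] at h1
    obtain ⟨z, hz⟩ := S.f₂_surjective p (j - c) ⟨ψ.symm y₀, h1⟩
    have hzZ : (z : S.X p) ∈ S.Zc p := S.mem_Zc.mpr ⟨z.2.1, z.2.2.1⟩
    refine ⟨⟨z, hzZ⟩, ?_⟩
    apply Vval_injective 𝒴 S.hV
    rw [Vval_toY, Vval_Vmk]
    have h2 : S.cE p ⟨z, hzZ⟩ = ψ.symm y₀ := congrArg Subtype.val hz
    rw [h2, LinearEquiv.apply_symm_apply]
  have h3 : y = ∑ i ∈ (decompose 𝒴 (Vval 𝒴 S.hV y)).support,
      Vmk 𝒴 S.hV ((decompose 𝒴 (Vval 𝒴 S.hV y)) i : Y)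
        (decompose_mem_Vadd (Hq q) 𝒴 (Vval_mem 𝒴 S.hV y) i) := by
    apply Vval_injective 𝒴 S.hV
    rw [map_sum]
    simp only [Vval_Vmk]
    exact (DirectSum.sum_support_decompose 𝒴 (Vval 𝒴 S.hV y)).symm
  rw [← LinearMap.mem_range, h3]
  refine Submodule.sum_mem _ fun i _ => ?_
  by_cases hi : i ∈ Hq q
  · exact key i _ (SetLike.coe_mem _) hi _
  · have h4 : ((decompose 𝒴 (Vval 𝒴 S.hV y)) i : Y) = 0 := Vval_mem 𝒴 S.hV y i hi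
    have h5 : Vmk 𝒴 S.hV ((decompose 𝒴 (Vval 𝒴 S.hV y)) i : Y)
        (decompose_mem_Vadd (Hq q) 𝒴 (Vval_mem 𝒴 S.hV y) i) = 0 := by
      apply Vval_injective 𝒴 S.hV
      rw [Vval_Vmk, h4, map_zero]
    rw [h5]
    exact zero_mem _

end ToY

/-- `H^p_{m'}(M^(q)) ≅ V(Y)` as `R'`-modules when `H^p_m(M) ≅ Y` by a homogeneous isomorphism of
degree divisible by `q`. -/
theorem nonempty_H_equiv_Vsub (p : ℕ) (ψ : S.E.H S.m p ≃ₗ[R] Y) (g : ℤ)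
    (hψ : IsGrHomDeg (S.E.Hgr S.m p) 𝒴 ψ.toLinearMap g) (hg : (q : ℤ) ∣ g) :
    Nonempty (S.F.H S.m' p ≃ₗ[R'] ↥(Vsub 𝒴 S.hV)) := by
  obtain ⟨θ, hθgr, hθ0, hθ⟩ := S.exists_theta
  have hker : LinearMap.ker (S.toF θ hθ p) = LinearMap.ker (S.toY 𝒴 p ψ g hψ hg) := by
    ext z
    rw [LinearMap.mem_ker, LinearMap.mem_ker, S.toF_eq_zero_iff θ hθ0 hθ p z,
      S.toY_eq_zero_iff 𝒴 p ψ g hψ hg z]
  let e₁ := (S.toF θ hθ p).quotKerEquivOfSurjective (S.toF_surjective θ hθ0 hθ p)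
  let e₂ := (S.toY 𝒴 p ψ g hψ hg).quotKerEquivOfSurjective (S.toY_surjective 𝒴 p ψ g hψ hg)
  exact ⟨e₁.symm ≪≫ₗ (Submodule.quotEquivOfEq _ _ hker) ≪≫ₗ e₂⟩

/-- Vanishing of `H^p_{m'}(M^(q))` from vanishing of `H^p_m(M)`. -/
theorem F_H_eq_zero (p : ℕ) (h : ∀ y : S.E.H S.m p, y = 0) (y : S.F.H S.m' p) : y = 0 := by
  obtain ⟨θ, hθgr, hθ0, hθ⟩ := S.exists_theta
  obtain ⟨z, rfl⟩ := S.toF_surjective θ hθ0 hθ p y
  rw [S.toF_eq_zero_iff θ hθ0 hθ p z, ← S.cE_eq_zero_iff p z]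
  exact h _

end Setup

end Groth.Agent.Lib.T2H3.Ver
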