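import Groth.Agent.Lib.T2H3EGC
import Groth.Agent.Lib.T2H3GrTransfer
import Groth.Agent.Lib.Helper24GrDual2

/-! Veronese subrings of Gorenstein graded rings (helper3), part G: construction of the graded
`K`-dual `R^* = ⊕_n Hom_K(R_{-n}, K)` of a graded `K`-algebra, as a graded `R`-module with its
pairing; it satisfies `GrSeg.IsGDual`. -/

set_option autoImplicit false
set_option linter.unusedSectionVars false
set_option linter.style.haveILetI false
open DirectSum

noncomputable section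

namespace Groth.Agent.Lib.T2H3.GDual

open Groth.Agent.Lib.T2H3.GrTr

universe u

variable {K : Type u} [Field K] {R : Type u} [CommRing R] [Algebra K R]
  (𝒜 : ℤ → Submodule K R) [GradedAlgebra 𝒜]

/-- Functionals vanishing on all but finitely many pieces. -/
def finSupp : Submodule K (R →ₗ[K] K) where
  carrier := {f | ∃ s : Finset ℤ, ∀ n, n ∉ s → ∀ x ∈ 𝒜 n, f x = 0}
  add_mem' := by
    classical
    rintro f g ⟨s, hs⟩ ⟨t, ht⟩
    refine ⟨s ∪ t, fun n hn x hx => ?_⟩
    rw [Finset.mem_union, not_or] at hn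
    rw [LinearMap.add_apply, hs n hn.1 x hx, ht n hn.2 x hx, add_zero]
  zero_mem' := ⟨∅, fun _ _ _ _ => rfl⟩
  smul_mem' := by
    rintro c f ⟨s, hs⟩
    exact ⟨s, fun n hn x hx => by rw [LinearMap.smul_apply, hs n hn x hx, smul_zero]⟩

/-- The graded dual `R^*`. -/
def GD : Type u := ↥(finSupp 𝒜)

instance : AddCommGroup (GD 𝒜) := inferInstanceAs (AddCommGroup ↥(finSupp 𝒜))
instance : Module K (GD 𝒜) := inferInstanceAs (Module K ↥(finSupp 𝒜))

/-- The underlying functional. -/
def ev : GD 𝒜 →ₗ[K] R →ₗ[K] K := (finSupp 𝒜).subtype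

variable {𝒜}

theorem ev_injective : Function.Injective (ev 𝒜) := Subtype.val_injective

theorem GD.ext {f g : GD 𝒜} (h : ∀ x, ev 𝒜 f x = ev 𝒜 g x) : f = g :=
  ev_injective (LinearMap.ext h)

variable (𝒜)

/-- `f ↦ f(r ·)`. -/
def smulFun (r : R) (f : R →ₗ[K] K) : R →ₗ[K] K := f ∘ₗ (LinearMap.mulLeft K r)

theorem smulFun_apply (r : R) (f : R →ₗ[K] K) (x : R) : smulFun r f x = f (r * x) := rfl

theorem smulFun_mem (r : R) {f : R →ₗ[K] K} (hf : f ∈ finSupp 𝒜) : smulFun r f ∈ finSupp 𝒜 := by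
  classical
  obtain ⟨s, hs⟩ := hf
  refine ⟨(s ×ˢ (DirectSum.decompose 𝒜 r).support).image (fun p => p.1 - p.2),
    fun n hn x hx => ?_⟩
  rw [smulFun_apply]
  conv_lhs => rw [← DirectSum.sum_support_decompose 𝒜 r]
  rw [Finset.sum_mul, map_sum]
  refine Finset.sum_eq_zero fun i hi => ?_
  apply hs (i + n) _ _ (SetLike.GradedMul.mul_mem (SetLike.coe_mem _) hx)
  intro hin
  apply hn
  rw [Finset.mem_image]
  exact ⟨(i + n, i), Finset.mem_product.2 ⟨hin, hi⟩, by simp⟩

instance : SMul R (GD 𝒜) := ⟨fun r f => ⟨smulFun r f.1, smulFun_mem 𝒜 r f.2⟩⟩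

theorem ev_smul (r : R) (f : GD 𝒜) (x : R) : ev 𝒜 (r • f) x = ev 𝒜 f (r * x) := rfl

instance : Module R (GD 𝒜) where
  one_smul f := GD.ext fun x => by rw [ev_smul, one_mul]
  mul_smul r s f := GD.ext fun x => by
    rw [ev_smul, ev_smul, ev_smul, mul_assoc, mul_left_comm]
  smul_zero r := GD.ext fun x => by simp only [ev_smul, map_zero, LinearMap.zero_apply]
  smul_add r f g := GD.ext fun x => by
    rw [ev_smul, map_add, map_add, LinearMap.add_apply, LinearMap.add_apply, ev_smul, ev_smul]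
  add_smul r s f := GD.ext fun x => by
    rw [ev_smul, map_add, LinearMap.add_apply, ev_smul, ev_smul, add_mul, map_add]
  zero_smul f := GD.ext fun x => by
    rw [ev_smul, zero_mul, map_zero, map_zero, LinearMap.zero_apply]

instance : IsScalarTower K R (GD 𝒜) where
  smul_assoc c r f := GD.ext fun x => by
    rw [ev_smul, map_smul, LinearMap.smul_apply, ev_smul, Algebra.smul_mul_assoc, map_smul]

/-- The pieces, as `K`-subspaces. -/
def pieceK (n : ℤ) : Submodule K (GD 𝒜) where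
  carrier := {f | ∀ m, m ≠ -n → ∀ x ∈ 𝒜 m, ev 𝒜 f x = 0}
  add_mem' := by
    intro f g hf hg m hm x hx
    rw [map_add, LinearMap.add_apply, hf m hm x hx, hg m hm x hx, add_zero]
  zero_mem' := fun _ _ _ _ => by rw [map_zero, LinearMap.zero_apply]
  smul_mem' := by
    intro c f hf m hm x hx
    rw [map_smul, LinearMap.smul_apply, hf m hm x hx, smul_zero]

theorem mem_pieceK {n : ℤ} {f : GD 𝒜} :
    f ∈ pieceK 𝒜 n ↔ ∀ m, m ≠ -n → ∀ x ∈ 𝒜 m, ev 𝒜 f x = 0 := Iff.rfl

/-- The value of a functional is the sum of the values on the components, over any finite set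
containing the support. -/
theorem apply_eq_sum (g : R →ₗ[K] K) (x : R) (U : Finset ℤ)
    (hU : ∀ m, m ∉ U → ((DirectSum.decompose 𝒜 x) m : R) = 0) :
    g x = ∑ m ∈ U, g ((DirectSum.decompose 𝒜 x) m : R) := by
  classical
  rw [← map_sum]
  congr 1
  conv_lhs => rw [← DirectSum.sum_support_decompose 𝒜 x]
  apply Finset.sum_subset
  · intro m hm
    by_contra hmU
    rw [DFinsupp.mem_support_toFun] at hm
    exact hm (Subtype.ext (hU m hmU))
  · intro m _ hm
    rw [DFinsupp.notMem_support_iff] at hm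
    rw [hm]
    rfl

/-- The projection to the piece of degree `n`. -/
def projD (n : ℤ) : GD 𝒜 →ₗ[K] GD 𝒜 where
  toFun f := ⟨(ev 𝒜 f) ∘ₗ GradedAlgebra.proj 𝒜 (-n), by
    classical
    refine ⟨{-n}, fun m hm x hx => ?_⟩
    rw [Finset.mem_singleton] at hm
    rw [LinearMap.comp_apply, GradedAlgebra.proj_apply, DirectSum.decompose_of_mem_ne 𝒜 hx hm,
      map_zero]⟩
  map_add' f g := GD.ext fun x => by
    change (ev 𝒜 (f + g)) (GradedAlgebra.proj 𝒜 (-n) x) =
      ev 𝒜 f (GradedAlgebra.proj 𝒜 (-n) x) + ev 𝒜 g (GradedAlgebra.proj 𝒜 (-n) x)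
    rw [map_add, LinearMap.add_apply]
  map_smul' c f := GD.ext fun x => by
    change (ev 𝒜 (c • f)) (GradedAlgebra.proj 𝒜 (-n) x) =
      c • ev 𝒜 f (GradedAlgebra.proj 𝒜 (-n) x)
    rw [map_smul, LinearMap.smul_apply]

theorem ev_projD (n : ℤ) (f : GD 𝒜) (x : R) :
    ev 𝒜 (projD 𝒜 n f) x = ev 𝒜 f ((DirectSum.decompose 𝒜 x) (-n) : R) := rfl

theorem isInternal_pieceK : DirectSum.IsInternal (pieceK 𝒜) := by
  classical
  refine Groth.Agent.Lib.T2H3.EG.isInternal_of_proj (pieceK 𝒜) (projD 𝒜) ?_ ?_ ?_ ?_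
  · intro n f m hm x hx
    rw [ev_projD, DirectSum.decompose_of_mem_ne 𝒜 hx hm, map_zero]
  · intro n f hf
    apply GD.ext
    intro x
    rw [ev_projD, apply_eq_sum 𝒜 (ev 𝒜 f) x ((DirectSum.decompose 𝒜 x).support ∪ {-n})
      (fun m hm => by
        rw [Finset.mem_union, not_or, DFinsupp.notMem_support_iff] at hm
        rw [hm.1]
        rfl)]
    rw [Finset.sum_eq_single (-n)]
    · intro m _ hm
      exact hf m hm _ (SetLike.coe_mem _)
    · intro h
      exact absurd (Finset.mem_union_right _ (Finset.mem_singleton_self _)) h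
  · intro i j f hij hf
    apply GD.ext
    intro x
    rw [ev_projD, map_zero, LinearMap.zero_apply]
    exact hf (-i) (by omega) _ (SetLike.coe_mem _)
  · intro f
    obtain ⟨s, hs⟩ := f.2
    refine ⟨s.image Neg.neg, ?_⟩
    apply GD.ext
    intro x
    rw [map_sum, LinearMap.sum_apply, Finset.sum_image (fun a _ b _ h => neg_injective h)]
    have hneg : ∀ a ∈ s, ev 𝒜 (projD 𝒜 (-a) f) x = ev 𝒜 f ((DirectSum.decompose 𝒜 x) a : R) := by
      intro a _
      rw [ev_projD, neg_neg]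
    rw [Finset.sum_congr rfl hneg]
    rw [apply_eq_sum 𝒜 (ev 𝒜 f) x ((DirectSum.decompose 𝒜 x).support ∪ s)
      (fun m hm => by
        rw [Finset.mem_union, not_or, DFinsupp.notMem_support_iff] at hm
        rw [hm.1]
        rfl)]
    symm
    apply Finset.sum_subset Finset.subset_union_right
    intro m _ hm
    exact hs m hm _ (SetLike.coe_mem _)

instance pieceKDecomposition : DirectSum.Decomposition (pieceK 𝒜) :=
  (isInternal_pieceK 𝒜).chooseDecomposition

/-- The pieces, as additive subgroups. -/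
abbrev piece : ℤ → AddSubgroup (GD 𝒜) := asGr (pieceK 𝒜)

theorem mem_piece {n : ℤ} {f : GD 𝒜} :
    f ∈ piece 𝒜 n ↔ ∀ m, m ≠ -n → ∀ x ∈ 𝒜 m, ev 𝒜 f x = 0 := Iff.rfl

instance piece_gradedSMul : SetLike.GradedSMul 𝒜 (piece 𝒜) where
  smul_mem := by
    intro i n r f hr hf
    rw [vadd_eq_add, mem_piece]
    intro m hm x hx
    rw [ev_smul]
    exact hf (i + m) (by omega) _ (SetLike.GradedMul.mul_mem hr hx)

/-- `R^*` is the graded dual of `R`. -/
theorem isGDual : GrSeg.IsGDual R 𝒜 (piece 𝒜) (ev 𝒜) where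
  map_smul r d x := by rw [ev_smul, smul_eq_mul]
  vanish n d hd m hm x hx := hd m hm x hx
  eq_zero n d hd h := by
    classical
    apply GD.ext
    intro x
    rw [map_zero, LinearMap.zero_apply, apply_eq_sum 𝒜 (ev 𝒜 d) x (DirectSum.decompose 𝒜 x).support
      (fun m hm => by
        rw [DFinsupp.notMem_support_iff] at hm
        rw [hm]
        rfl)]
    refine Finset.sum_eq_zero fun m _ => ?_
    by_cases hm : m = -n
    · subst hm
      exact h _ (SetLike.coe_mem _)
    · exact hd m hm _ (SetLike.coe_mem _)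
  exists_eq n g := by
    classical
    refine ⟨⟨g ∘ₗ GradedAlgebra.proj 𝒜 (-n), ⟨{-n}, fun m hm x hx => ?_⟩⟩, ?_, ?_⟩
    · rw [Finset.mem_singleton] at hm
      rw [LinearMap.comp_apply, GradedAlgebra.proj_apply, DirectSum.decompose_of_mem_ne 𝒜 hx hm,
        map_zero]
    · intro m hm x hx
      change g (GradedAlgebra.proj 𝒜 (-n) x) = 0
      rw [GradedAlgebra.proj_apply, DirectSum.decompose_of_mem_ne 𝒜 hx hm, map_zero]
    · intro x hx
      change g (GradedAlgebra.proj 𝒜 (-n) x) = g x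
      rw [GradedAlgebra.proj_apply, DirectSum.decompose_of_mem_same 𝒜 hx]

end Groth.Agent.Lib.T2H3.GDual
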