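import Groth.Agent.Lib.T2H3VerG

/-! Veronese subrings of Gorenstein graded rings (helper3), part H: the graded dual `R^*` of a
connected graded `K`-algebra is a *injective envelope of `R/R_+` (in the `K`-algebra framework). -/

set_option autoImplicit false
set_option linter.unusedSectionVars false
set_option linter.style.haveILetI false
open DirectSum

noncomputable section

namespace Groth.Agent.Lib.T2H3.GDual

open Groth.Agent.Lib.T2H3.GrTr Groth.Agent.Lib.Helper24GrDual Groth.Agent.Lib.Helper24GrDual2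

universe u

section General

variable {K : Type u} [Field K] {R : Type u} [CommRing R] [Algebra K R]
  (𝒜 : ℤ → Submodule K R) [GradedAlgebra 𝒜]
  {D : Type u} [AddCommGroup D] [Module R D] [Module K D] [IsScalarTower K R D]
  (𝒟 : ℤ → AddSubgroup D) [DirectSum.Decomposition 𝒟] [SetLike.GradedSMul 𝒜 𝒟]
  (β : D →ₗ[K] R →ₗ[K] K)

/-- A graded dual of `R` is *injective. -/
theorem isStarInj_of_isGDual (hD : GrSeg.IsGDual R 𝒜 𝒟 β) : GrLC.IsStarInj 𝒜 𝒟 := by
  intro A B f hf hinj g hg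
  letI : Module K A.carrier := Module.compHom A.carrier (algebraMap K R)
  haveI : IsScalarTower K R A.carrier := IsScalarTower.of_algebraMap_smul (fun _ _ => rfl)
  letI : Module K B.carrier := Module.compHom B.carrier (algebraMap K R)
  haveI : IsScalarTower K R B.carrier := IsScalarTower.of_algebraMap_smul (fun _ _ => rfl)
  exact starInj_aux 𝒜 𝒟 β hD A.gr B.gr f hf hinj g hg

/-- The graded dual of `R` is a *injective envelope of `R/R_+` (no finiteness needed). -/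
theorem isStarInjHull_of_isGDual (hposR : ∀ n : ℤ, n < 0 → 𝒜 n = ⊥)
    (h0R : 𝒜 0 = Submodule.span K {(1 : R)}) (mR : HomogeneousIdeal 𝒜)
    (hmR : mR.toIdeal = Ideal.span (⋃ n ∈ Set.Ioi (0 : ℤ), (𝒜 n : Set R)))
    (hD : GrSeg.IsGDual R 𝒜 𝒟 β) (e : (R ⧸ mR.toIdeal) →ₗ[R] D) (he : Function.Injective e)
    (hegr : GrLC.IsGrHom (GrLC.quotGr 𝒜 mR) 𝒟 e) :
    GrLC.IsStarInjHull 𝒜 (GrLC.quotGr 𝒜 mR) 𝒟 e := by
  classical
  have one0 : (1 : R) ∈ 𝒜 0 := SetLike.one_mem_graded 𝒜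
  refine ⟨⟨he, hegr, ?_⟩, isStarInj_of_isGDual 𝒜 𝒟 β hD⟩
  intro Psub hPhom hPne
  obtain ⟨d, hdP, hdne⟩ := Submodule.exists_mem_ne_zero_of_ne_bot hPne
  obtain ⟨n, hn⟩ : ∃ n, P 𝒟 n d ≠ 0 := by
    by_contra hcon
    push Not at hcon
    apply hdne
    calc d = ∑ i ∈ (DirectSum.decompose 𝒟 d).support, ((DirectSum.decompose 𝒟 d) i : D) :=
          (DirectSum.sum_support_decompose 𝒟 d).symm
      _ = 0 := Finset.sum_eq_zero (fun n _ => hcon n)
  have hdnP : P 𝒟 n d ∈ Psub := hPhom n hdP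
  have hdn : P 𝒟 n d ∈ 𝒟 n := P_mem 𝒟 n d
  obtain ⟨x, hx, hxne⟩ : ∃ x ∈ 𝒜 (-n), β (P 𝒟 n d) x ≠ 0 := by
    by_contra hcon
    push Not at hcon
    exact hn (hD.eq_zero n _ hdn hcon)
  obtain ⟨δ, hδdef⟩ : ∃ δ : D, δ = x • P 𝒟 n d := ⟨_, rfl⟩
  have hδP : δ ∈ Psub := by rw [hδdef]; exact Psub.smul_mem x hdnP
  have hδ0 : δ ∈ 𝒟 0 := by
    have h := SetLike.GradedSMul.smul_mem (A := 𝒜) (B := 𝒟) hx hdn
    rw [vadd_eq_add, neg_add_cancel] at h
    rw [hδdef]; exact h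
  have hδ1 : β δ 1 ≠ 0 := by
    rw [hδdef, hD.map_smul, smul_eq_mul, mul_one]; exact hxne
  have hδne : δ ≠ 0 := fun h => hδ1 (by rw [h, map_zero, LinearMap.zero_apply])
  have h1mR : (1 : R) ∉ mR.toIdeal := fun h1 =>
    hδ1 (mR_pair_zero 𝒜 𝒟 β hposR hD mR hmR hδ0 h1)
  have hε0 : e (Ideal.Quotient.mk mR.toIdeal 1) ∈ 𝒟 0 :=
    hegr 0 _ (show _ ∈ (AddSubgroup.ofClass (𝒜 0)).map
      (Ideal.Quotient.mk mR.toIdeal).toAddMonoidHom from AddSubgroup.mem_map.2 ⟨1, one0, rfl⟩)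
  have hεne : e (Ideal.Quotient.mk mR.toIdeal 1) ≠ 0 := by
    intro h
    have : Ideal.Quotient.mk mR.toIdeal 1 = 0 := he (by rw [h, map_zero])
    exact h1mR (Ideal.Quotient.eq_zero_iff_mem.1 this)
  have hε1 : β (e (Ideal.Quotient.mk mR.toIdeal 1)) 1 ≠ 0 := by
    intro h
    apply hεne
    apply hD.eq_zero 0 _ hε0
    intro y hy
    rw [neg_zero, h0R] at hy
    obtain ⟨t, rfl⟩ := Submodule.mem_span_singleton.1 hy
    rw [map_smul, h, smul_zero]
  have hδε := D0_eq_smul 𝒜 𝒟 β h0R hD hδ0 hε0 hε1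
  have hδrange : δ ∈ LinearMap.range e := by
    refine LinearMap.mem_range.2 ⟨algebraMap K R
      (β δ 1 / β (e (Ideal.Quotient.mk mR.toIdeal 1)) 1) • Ideal.Quotient.mk mR.toIdeal 1, ?_⟩
    rw [map_smul, algebraMap_smul]
    exact hδε.symm
  intro hbot
  have hmem : δ ∈ Psub ⊓ LinearMap.range e := ⟨hδP, hδrange⟩
  rw [hbot] at hmem
  exact hδne ((Submodule.mem_bot R).1 hmem)

end General

section Hull

variable {K : Type u} [Field K] {R : Type u} [CommRing R] [Algebra K R] [Nontrivial R]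
  (𝒜 : ℤ → Submodule K R) [GradedAlgebra 𝒜]

theorem exists_functional_one : ∃ g : R →ₗ[K] K, g 1 = 1 := by
  have h1 : (1 : R) ≠ 0 := one_ne_zero
  obtain ⟨g, hg⟩ := LinearMap.exists_extend
    ((LinearEquiv.toSpanNonzeroSingleton K R 1 h1).symm.toLinearMap)
  refine ⟨g, ?_⟩
  have h2 := LinearMap.congr_fun hg ⟨1, Submodule.mem_span_singleton_self 1⟩
  rw [LinearMap.comp_apply] at h2
  change g 1 = _ at h2
  rw [h2]
  change (LinearEquiv.toSpanNonzeroSingleton K R 1 h1).symm _ = 1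
  rw [LinearEquiv.symm_apply_eq, LinearEquiv.toSpanNonzeroSingleton_one]

/-- The counit `ε₀ ∈ (R^*)_0`. -/
theorem exists_counit : ∃ ε₀ : GD 𝒜, ε₀ ∈ piece 𝒜 0 ∧ ev 𝒜 ε₀ 1 = 1 := by
  obtain ⟨g, hg⟩ := exists_functional_one (K := K) (R := R)
  obtain ⟨d, hd, hdg⟩ := (isGDual 𝒜).exists_eq 0 g
  refine ⟨d, hd, ?_⟩
  rw [hdg 1 (by rw [neg_zero]; exact SetLike.one_mem_graded 𝒜), hg]

variable (hposR : ∀ n : ℤ, n < 0 → 𝒜 n = ⊥)
  (h0R : 𝒜 0 = Submodule.span K {(1 : R)}) (mR : HomogeneousIdeal 𝒜)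
  (hmR : mR.toIdeal = Ideal.span (⋃ n ∈ Set.Ioi (0 : ℤ), (𝒜 n : Set R)))

include hposR hmR in
theorem sub_decompose_zero_mem (r : R) :
    r - ((DirectSum.decompose 𝒜 r) 0 : R) ∈ mR.toIdeal := by
  classical
  have h1 : r - ((DirectSum.decompose 𝒜 r) 0 : R) =
      ∑ n ∈ (DirectSum.decompose 𝒜 r).support.erase 0, ((DirectSum.decompose 𝒜 r) n : R) := by
    by_cases h0 : (0 : ℤ) ∈ (DirectSum.decompose 𝒜 r).support
    · have h2 := Finset.add_sum_erase (DirectSum.decompose 𝒜 r).support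
        (fun n => ((DirectSum.decompose 𝒜 r) n : R)) h0
      rw [DirectSum.sum_support_decompose] at h2
      rw [sub_eq_iff_eq_add']
      exact h2.symm
    · rw [Finset.erase_eq_of_notMem h0, DirectSum.sum_support_decompose]
      rw [DFinsupp.notMem_support_iff] at h0
      rw [h0]
      change r - 0 = r
      rw [sub_zero]
  rw [h1]
  refine Ideal.sum_mem _ fun n hn => ?_
  rw [Finset.mem_erase] at hn
  rcases lt_or_gt_of_ne hn.1 with hlt | hgt
  · have h5 : ((DirectSum.decompose 𝒜 r) n : R) ∈ (⊥ : Submodule K R) := by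
      rw [← hposR n hlt]
      exact SetLike.coe_mem _
    rw [Submodule.mem_bot] at h5
    rw [h5]
    exact Ideal.zero_mem _
  · rw [hmR]
    apply Ideal.subset_span
    exact Set.mem_iUnion₂.2 ⟨n, hgt, SetLike.coe_mem _⟩

include hposR h0R hmR in
/-- `R^*` is a *injective envelope of `R/R_+`. -/
theorem exists_hull : ∃ e : (R ⧸ mR.toIdeal) →ₗ[R] GD 𝒜,
    GrLC.IsStarInjHull 𝒜 (GrLC.quotGr 𝒜 mR) (piece 𝒜) e := by
  classical
  obtain ⟨ε₀, hε0, hε1⟩ := exists_counit 𝒜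
  have hD := isGDual 𝒜
  have hker : mR.toIdeal ≤ LinearMap.ker (LinearMap.toSpanSingleton R (GD 𝒜) ε₀) := by
    intro r hr
    rw [LinearMap.mem_ker, LinearMap.toSpanSingleton_apply]
    apply GD.ext
    intro x
    rw [ev_smul, map_zero, LinearMap.zero_apply]
    exact mR_pair_zero 𝒜 (piece 𝒜) (ev 𝒜) hposR hD mR hmR hε0 (Ideal.mul_mem_right x _ hr)
  refine ⟨Submodule.liftQ mR.toIdeal (LinearMap.toSpanSingleton R (GD 𝒜) ε₀) hker, ?_⟩
  apply isStarInjHull_of_isGDual 𝒜 (piece 𝒜) (ev 𝒜) hposR h0R mR hmR hD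
  · rw [← LinearMap.ker_eq_bot, Submodule.ker_liftQ_eq_bot']
    · apply le_antisymm hker
      intro r hr
      rw [LinearMap.mem_ker, LinearMap.toSpanSingleton_apply] at hr
      have h1 : ev 𝒜 ε₀ r = 0 := by
        have := congrArg (fun d => ev 𝒜 d 1) hr
        simp only [ev_smul, mul_one, map_zero, LinearMap.zero_apply] at this
        exact this
      have h2 := sub_decompose_zero_mem 𝒜 hposR mR hmR r
      have h3 : ((DirectSum.decompose 𝒜 r) 0 : R) ∈ Submodule.span K {(1 : R)} := by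
        rw [← h0R]
        exact SetLike.coe_mem _
      obtain ⟨c, hc⟩ := Submodule.mem_span_singleton.1 h3
      have h4 : ev 𝒜 ε₀ (r - ((DirectSum.decompose 𝒜 r) 0 : R)) = 0 :=
        mR_pair_zero 𝒜 (piece 𝒜) (ev 𝒜) hposR hD mR hmR hε0 h2
      rw [map_sub, h1, zero_sub, neg_eq_zero, ← hc, map_smul, hε1, smul_eq_mul, mul_one] at h4
      rw [h4, zero_smul] at hc
      rw [← hc, sub_zero] at h2
      exact h2
  · intro n y hy
    obtain ⟨x, hx, rfl⟩ := AddSubgroup.mem_map.1 hy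
    change (LinearMap.toSpanSingleton R (GD 𝒜) ε₀) x ∈ piece 𝒜 n
    rw [LinearMap.toSpanSingleton_apply]
    have h := SetLike.GradedSMul.smul_mem (A := 𝒜) (B := piece 𝒜) hx hε0
    rw [vadd_eq_add, add_zero] at h
    exact h

end Hull

end Groth.Agent.Lib.T2H3.GDual
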