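import Groth.Agent.Lib.T2H3VerJ
import Groth.Agent.Lib.T2H3MinRes
import Groth.Agent.Lib.T2H3GrAinvA
import Groth.Agent.S0325

/-! Veronese subrings of Gorenstein graded rings (helper3), part K: if `R` is Gorenstein, graded
over a field, and `q` divides the `a`-invariant then `R^(q)` is Gorenstein (version over an
auxiliary field `K` mapping onto `R_0`). -/

set_option autoImplicit false
set_option linter.unusedSectionVars false
set_option linter.style.haveILetI false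
set_option maxHeartbeats 1000000
open DirectSum

noncomputable section

namespace Groth.Agent.Lib.T2H3.Ver

open GrLC Groth.Agent.Lib.T2H3.GrIrr Groth.Agent.Lib.T2H3.GrArt Groth.Agent.Lib.T2H3.GrLes
  Groth.Agent.Lib.T2H3.GDual

universe u

theorem subK_eq_bot (K : Type u) [Field K] {R : Type u} [CommRing R] [Algebra K R]
    (𝒜 : ℤ → AddSubgroup R) [GradedRing 𝒜] [KGraded K 𝒜]
    (hpos : ∀ n : ℤ, n < 0 → 𝒜 n = ⊥) (n : ℤ) (hn : n < 0) : subK K 𝒜 n = ⊥ := by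
  rw [Submodule.eq_bot_iff]
  intro x hx
  have hx' : x ∈ 𝒜 n := hx
  rw [hpos n hn, AddSubgroup.mem_bot] at hx'
  exact hx'

theorem isGorensteinRing_veronese_aux
    (K : Type u) [Field K]
    (R : Type u) [CommRing R] [LocCoh.IsGorensteinRing R] [Algebra K R]
    (𝒜 : ℤ → AddSubgroup R) [GradedRing 𝒜] [KGraded K 𝒜]
    (hpos : ∀ n : ℤ, n < 0 → 𝒜 n = ⊥) (h0 : IsField (deg0 𝒜))
    (h0K : ∀ x ∈ 𝒜 0, ∃ c : K, algebraMap K R c = x)
    (m : HomogeneousIdeal 𝒜) (hm : IsStarLocal 𝒜 m)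
    (hmsp : m.toIdeal = Ideal.span (⋃ n ∈ Set.Ioi (0 : ℤ), (𝒜 n : Set R)))
    (n : ℕ) (hn : ringKrullDim R = n) (I : StarInjRes 𝒜 𝒜) (a : ℤ)
    (ha : endDeg (I.Hgr m n) = ((a : WithTop ℤ) : WithBot (WithTop ℤ)))
    (q : ℕ) (R' : Type u) [CommRing R'] [Algebra K R'] (𝒜' : ℤ → AddSubgroup R')
    [GradedRing 𝒜'] [KGraded K 𝒜']
    (φ : R' →+* R) (hV : VerHyp 𝒜 𝒜' φ q)
    (hφK : ∀ c : K, φ (algebraMap K R' c) = algebraMap K R c)
    (hdvd : (q : ℤ) ∣ a) : LocCoh.IsGorensteinRing R' := by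
  classical
  haveI : IsNoetherianRing R' := isNoetherianRing_of_verHyp hV
  haveI hntR : Nontrivial R :=
    ⟨⟨0, 1, fun h => one_notMem_of_isStarLocal hm (by rw [← h]; exact zero_mem _)⟩⟩
  haveI hntR' : Nontrivial R' := ⟨⟨0, 1, fun h => by
    have h1 := congrArg φ h
    rw [map_zero, map_one] at h1
    exact zero_ne_one h1⟩⟩
  have hpos' := hpos_of_verHyp hV hpos
  have h0' := isField_deg0_of_verHyp hV h0
  -- the *maximal ideal of `R'`
  obtain ⟨m', hm'def⟩ : ∃ m' : HomogeneousIdeal 𝒜', m' = irrH 𝒜' := ⟨_, rfl⟩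
  have hm'sp : m'.toIdeal = Ideal.span (⋃ j ∈ Set.Ioi (0 : ℤ), (𝒜' j : Set R')) := by
    rw [hm'def]; rfl
  have hm'ne : m'.toIdeal ≠ ⊤ := by rw [hm'def]; exact irr_ne_top hpos'
  have hm' : IsStarLocal 𝒜' m' :=
    Groth.Agent.Lib.T2H3.EG.isStarLocal_of_isField 𝒜' hpos' h0' m' hm'ne (by rw [hm'def]; rfl)
  haveI hmax' : m'.toIdeal.IsMaximal := isMaximal_of_isStarLocal hpos' hm'
  haveI hprime' : m'.toIdeal.IsPrime := hmax'.isPrime
  -- the comparison set-up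
  let gφ : R' →ₛₗ[φ] R :=
    { toFun := φ
      map_add' := map_add φ
      map_smul' := fun r x => by rw [smul_eq_mul, map_mul, smul_eq_mul] }
  have hgdeg : ∀ j : ℤ, (𝒜' j).map (gφ : R' →+ R) = 𝒜 (j * q) := by
    intro j
    rw [← hV.hdeg j]
    rfl
  obtain ⟨F, -⟩ : ∃ F : StarInjRes 𝒜' 𝒜', True :=
    ⟨Groth.Agent.Lib.T2H3.MinRes.minRes 𝒜' 𝒜', trivial⟩
  obtain ⟨S, hSF, hSm, hSm', hSE⟩ : ∃ S : Setup 𝒜 𝒜' φ q 𝒜 𝒜',
      S.F = F ∧ S.m = m ∧ S.m' = m' ∧ S.E = I :=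
    ⟨⟨hV, gφ, hV.hφ, hgdeg, I, F, m, m', radical_map_eq hV m m' hmsp hm'sp⟩, rfl, rfl, rfl, rfl⟩
  subst hSF hSm hSm' hSE
  -- the height of `m`
  have hht : S.m.toIdeal.height = n := by
    have h1 := Groth.Agent.Lib.T2H3.GrDim.ringKrullDim_eq_height_of_isStarLocal hpos hm
    rw [hn] at h1
    exact_mod_cast h1.symm
  -- the hull and the isomorphism `H^n_m(R) ≅ R^*(-a)`
  obtain ⟨e, he⟩ := exists_hullA K 𝒜 hpos h0K S.m hmsp
  obtain ⟨g, ψ, hψ⟩ := Groth.Agent.S13244.result R 𝒜 S.m hm n hht S.E (GDK K 𝒜) (pieceA K 𝒜) e he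
  obtain ⟨ε₀, hε0, hε1⟩ := exists_counit (subK K 𝒜)
  have hε0ne : ε₀ ≠ 0 := by
    intro h
    rw [h, map_zero, LinearMap.zero_apply] at hε1
    exact zero_ne_one hε1
  have hg : (q : ℤ) ∣ g := by
    letI := HgrDecomposition S.E S.m n
    have hA1 : ∀ j, a < j → S.E.Hgr S.m n j = ⊥ :=
      (Groth.Agent.Lib.T2H3.EG.endDeg_le_iff' _ a).1 (le_of_eq ha)
    have hA2 : S.E.Hgr S.m n a ≠ ⊥ := by
      intro hbot
      have h2 : endDeg (S.E.Hgr S.m n) ≤ (((a - 1 : ℤ) : WithTop ℤ) : WithBot (WithTop ℤ)) := by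
        rw [Groth.Agent.Lib.T2H3.EG.endDeg_le_iff']
        intro j hj
        rcases eq_or_lt_of_le (show a ≤ j by omega) with h | h
        · rw [← h]; exact hbot
        · exact hA1 j h
      rw [ha] at h2
      have h3 : a ≤ a - 1 := by exact_mod_cast h2
      omega
    have hB1 : ∀ i : ℤ, 0 < i → ∀ d ∈ pieceA K 𝒜 i, d = 0 := fun i hi d hd =>
      Groth.Agent.Lib.Helper24GrDual2.D_pos_eq_zero (subK K 𝒜) (piece (subK K 𝒜))
        (ev (subK K 𝒜)) (subK_eq_bot K 𝒜 hpos) (isGDual _) hi hd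
    obtain ⟨h, hh, hhne⟩ : ∃ h ∈ S.E.Hgr S.m n a, h ≠ 0 := by
      by_contra hcon
      push Not at hcon
      exact hA2 ((AddSubgroup.eq_bot_iff_forall _).2 hcon)
    have h4 : a + g ≤ 0 := by
      by_contra hcon
      push Not at hcon
      have h5 := hB1 (a + g) hcon (ψ h) (hψ a h hh)
      exact hhne (ψ.injective (h5.trans (map_zero ψ).symm))
    have h5 : -g ≤ a := by
      by_contra hcon
      push Not at hcon
      have h6 := Groth.Agent.Lib.T2H3.GorCanon.symm_deg (S.E.Hgr S.m n) (pieceA K 𝒜) ψ g hψ hε0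
      rw [hA1 (0 - g) (by omega), AddSubgroup.mem_bot] at h6
      exact hε0ne (ψ.symm.injective (h6.trans (map_zero ψ.symm).symm))
    have h6 : g = -a := by omega
    rw [h6]
    exact (dvd_neg).2 hdvd
  obtain ⟨Φ⟩ := S.nonempty_H_equiv_Vsub (pieceA K 𝒜) n ψ g hψ hg
  have hX := isStarInj_VD K 𝒜 𝒜' hV hφK
  -- vanishing
  haveI hCMR : LocCoh.IsCohenMacaulayRing R :=
    Groth.Agent.Lib.Helper5.GorUnmixed.isCohenMacaulayRing_of_isGorensteinRing R
  have hvanR : ∀ i : ℕ, i ≠ n → ∀ y : S.E.H S.m i, y = 0 := by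
    intro i hi y
    rcases lt_or_gt_of_ne hi with h | h
    · obtain ⟨d', rfl⟩ : ∃ d', n = d' + 1 := ⟨n - 1, by omega⟩
      exact Groth.Agent.Lib.T2H3.GrAinv.H_eq_zero_of_lt hpos hm d' hn S.E i h y
    · obtain ⟨e1⟩ := Groth.Agent.S13224.result R 𝒜 S.m R 𝒜 S.E i
      haveI : Subsingleton (LocCoh.H S.m.toIdeal i R) :=
        Groth.Agent.S0325.result R S.m.toIdeal n hn.le R i h
      exact e1.injective (Subsingleton.elim _ _)
  have hvanR' : ∀ i : ℕ, i ≠ n → ∀ y : LocCoh.H S.m'.toIdeal i R', y = 0 := by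
    intro i hi y
    obtain ⟨e1⟩ := Groth.Agent.S13224.result R' 𝒜' S.m' R' 𝒜' S.F i
    have h1 := S.F_H_eq_zero i (hvanR i hi) (e1.symm y)
    exact e1.symm.injective (h1.trans (map_zero e1.symm).symm)
  have hnvan : ∃ y : LocCoh.H S.m'.toIdeal n R', y ≠ 0 := by
    obtain ⟨e1⟩ := Groth.Agent.S13224.result R' 𝒜' S.m' R' 𝒜' S.F n
    have hε0V : ε₀ ∈ Vadd (Hq q) (pieceA K 𝒜) :=
      mem_Vadd_of_mem (Hq q) (pieceA K 𝒜) (zero_mem (Hq q)) hε0
    refine ⟨e1 (Φ.symm (Vmk (pieceA K 𝒜) S.hV ε₀ hε0V)), fun h => ?_⟩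
    have h2 : Φ.symm (Vmk (pieceA K 𝒜) S.hV ε₀ hε0V) = 0 :=
      e1.injective (h.trans (map_zero e1).symm)
    have h3 : Vmk (pieceA K 𝒜) S.hV ε₀ hε0V = 0 :=
      Φ.symm.injective (h2.trans (map_zero Φ.symm).symm)
    exact hε0ne (congrArg (Vval (pieceA K 𝒜) S.hV) h3)
  have hJ : S.m'.toIdeal • (⊤ : Submodule R' R') ≠ ⊤ := by
    rw [smul_eq_mul, Ideal.mul_top]
    exact hm'ne
  have hdepth : LocCoh.idealDepth S.m'.toIdeal R' = n :=
    idealDepth_eq_of_H S.m'.toIdeal R' n hJ hvanR' hnvan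
  -- dimension and depth of the localization
  have hdimR' : ringKrullDim R' = n := (ringKrullDim_eq_of_verHyp hV).trans hn
  have hht' : ((S.m'.toIdeal.height : ℕ∞) : WithBot ℕ∞) = n := by
    rw [← Groth.Agent.Lib.T2H3.GrDim.ringKrullDim_eq_height_of_isStarLocal hpos' hm']
    exact hdimR'
  have hdimA : ringKrullDim (Localization.AtPrime S.m'.toIdeal) = n := by
    rw [IsLocalization.AtPrime.ringKrullDim_eq_height S.m'.toIdeal
      (Localization.AtPrime S.m'.toIdeal)]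
    exact hht'
  haveI hCMA : LocCoh.IsCohenMacaulayLocalRing (Localization.AtPrime S.m'.toIdeal) := by
    refine { supportDim_eq_depth := ?_ }
    rw [Module.supportDim_self_eq_ringKrullDim, hdimA]
    have h1 : (n : ℕ∞) ≤ LocCoh.depth (Localization.AtPrime S.m'.toIdeal)
        (Localization.AtPrime S.m'.toIdeal) := by
      rw [← hdepth, ← Groth.Agent.Lib.Helper28.depth_localizedModule_self]
      exact Groth.Agent.Lib.Helper28.idealDepth_le_depth_localization S.m'.toIdeal R' le_rfl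
    have h2 : ((LocCoh.depth (Localization.AtPrime S.m'.toIdeal)
        (Localization.AtPrime S.m'.toIdeal) : ℕ∞) : WithBot ℕ∞) ≤ n := by
      have h3 := Groth.Agent.Lib.Helper28.depth_le_supportDim
        (R := Localization.AtPrime S.m'.toIdeal) (M := Localization.AtPrime S.m'.toIdeal)
      rwa [Module.supportDim_self_eq_ringKrullDim, hdimA] at h3
    apply le_antisymm
    · exact_mod_cast h1
    · exact h2
  have hG := Groth.Agent.Lib.LeadCan.isGorensteinLocalRing_localization_of_isStarInj 𝒜' S.m'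
    (VD K 𝒜 𝒜' hV).gr hX n S.F Φ hdimA
  exact Groth.Agent.Lib.LeadCan.isGorensteinRing_of_isGorensteinLocalRing_localization 𝒜' S.m'
    hm' hG

end Groth.Agent.Lib.T2H3.Ver
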