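import Groth.Agent.Lib.T2H3VerK
import Groth.Agent.Lib.Helper24Segre2

/-! Veronese subrings of Gorenstein graded rings (helper3), part L: algebra of standard graded
rings needed for the converse (`R^(q)` Gorenstein implies `q ∣ a(R)`). -/

set_option autoImplicit false
set_option linter.unusedSectionVars false
set_option linter.style.haveILetI false
open DirectSum

noncomputable section

namespace Groth.Agent.Lib.T2H3.Ver

open GrLC Groth.Agent.Lib.T2H3.GDual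

universe u

section Functional

variable {K V : Type u} [Field K] [AddCommGroup V] [Module K V]

theorem exists_functional_eq_one (x : V) (hx : x ≠ 0) : ∃ g : V →ₗ[K] K, g x = 1 := by
  have h1 : ¬ ∀ φ : Module.Dual K V, φ x = 0 := fun h =>
    hx ((Module.forall_dual_apply_eq_zero_iff K x).1 h)
  push Not at h1
  obtain ⟨φ, hφ⟩ := h1
  refine ⟨(φ x)⁻¹ • φ, ?_⟩
  rw [LinearMap.smul_apply, smul_eq_mul, inv_mul_cancel₀ hφ]

end Functional

section Sub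

variable {K R : Type u} [Field K] [CommRing R] [Algebra K R] (𝒜 : ℤ → Submodule K R)
  [GradedAlgebra 𝒜]

/-- If a piece of the graded dual is spanned by one element then so is the corresponding piece
of the ring. -/
theorem exists_gen_of_piece_cyclic (d : ℤ) (δ : GD 𝒜) (hδ : δ ∈ piece 𝒜 d) (hδ0 : δ ≠ 0)
    (hcyc : ∀ η ∈ piece 𝒜 d, ∃ c : K, η = c • δ) :
    ∃ u ∈ 𝒜 (-d), u ≠ 0 ∧ ∀ x ∈ 𝒜 (-d), ∃ c : K, x = c • u := by
  classical
  have hD := isGDual 𝒜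
  obtain ⟨u, hu, hδu⟩ : ∃ u ∈ 𝒜 (-d), ev 𝒜 δ u ≠ 0 := by
    by_contra hcon
    push Not at hcon
    exact hδ0 (hD.eq_zero d δ hδ hcon)
  refine ⟨u, hu, fun h => hδu (by rw [h, map_zero]), fun x hx => ?_⟩
  refine ⟨ev 𝒜 δ x / ev 𝒜 δ u, ?_⟩
  by_contra hne
  have hx' : x - (ev 𝒜 δ x / ev 𝒜 δ u) • u ≠ 0 := fun h => hne (sub_eq_zero.1 h)
  have hx'mem : x - (ev 𝒜 δ x / ev 𝒜 δ u) • u ∈ 𝒜 (-d) :=
    sub_mem hx (Submodule.smul_mem _ _ hu)
  obtain ⟨g, hg⟩ := exists_functional_eq_one (K := K) _ hx'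
  obtain ⟨η, hη, hηg⟩ := hD.exists_eq d g
  obtain ⟨c, hc⟩ := hcyc η hη
  have h1 := hηg _ hx'mem
  rw [hg, hc, map_smul, LinearMap.smul_apply, map_sub, map_smul, smul_eq_mul, smul_eq_mul,
    div_mul_cancel₀ _ hδu, sub_self, mul_zero] at h1
  exact zero_ne_one h1

variable (hstd : Ideal.span (⋃ n ∈ Set.Ioi (0 : ℤ), (𝒜 n : Set R)) =
  Ideal.span ((𝒜 1 : Submodule K R) : Set R))

include hstd in
/-- In a standard graded algebra with `dim R_1 ≥ 2`, if `R_e` (`e ≥ 1`) is spanned by one element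
then some nonzero linear form kills `R_e`. -/
theorem exists_kill_piece (e : ℤ) (he : 1 ≤ e) (u : R) (hu0 : u ∈ 𝒜 e)
    (hu : ∀ x ∈ 𝒜 e, ∃ c : K, x = c • u) (x₁ x₂ : R) (hx₁ : x₁ ∈ 𝒜 1) (hx₂ : x₂ ∈ 𝒜 1)
    (hli : ∀ c₁ c₂ : K, c₁ • x₁ + c₂ • x₂ = 0 → c₁ = 0 ∧ c₂ = 0) :
    ∃ z ∈ 𝒜 1, z ≠ 0 ∧ ∀ y ∈ 𝒜 e, z * y = 0 := by
  classical
  have hx₁0 : x₁ ≠ 0 := by
    intro h
    have h1 := (hli 1 0 (by rw [h, smul_zero, zero_smul, add_zero])).1
    exact one_ne_zero h1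
  -- it suffices to kill `u`
  suffices hsuff : ∃ z ∈ 𝒜 1, z ≠ 0 ∧ z * u = 0 by
    obtain ⟨z, hz, hz0, hzu⟩ := hsuff
    refine ⟨z, hz, hz0, fun y hy => ?_⟩
    obtain ⟨c, rfl⟩ := hu y hy
    rw [mul_smul_comm, hzu, smul_zero]
  by_cases hu00 : u = 0
  · exact ⟨x₁, hx₁, hx₁0, by rw [hu00, mul_zero]⟩
  -- `u` is a multiple of a product `x * w`
  have hmul : 𝒜 e ≤ 𝒜 1 * 𝒜 (e - 1) := by
    have h := Groth.Agent.Lib.Helper24Segre2.piece_le_mul 𝒜 hstd (e - 1) (by omega)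
    rwa [sub_add_cancel] at h
  obtain ⟨x, hx, w, hw, hxw⟩ : ∃ x ∈ 𝒜 1, ∃ w ∈ 𝒜 (e - 1), x * w ≠ 0 := by
    by_contra hcon
    push Not at hcon
    have h1 : 𝒜 1 * 𝒜 (e - 1) ≤ ⊥ := by
      rw [Submodule.mul_le]
      intro a ha b hb
      rw [Submodule.mem_bot]
      exact hcon a ha b hb
    exact hu00 ((Submodule.mem_bot K).1 (h1 (hmul hu0)))
  have hxwmem : x * w ∈ 𝒜 e := by
    have h := SetLike.GradedMul.mul_mem (A := 𝒜) hx hw
    rwa [show (1 : ℤ) + (e - 1) = e by ring] at h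
  obtain ⟨c, hc⟩ := hu _ hxwmem
  have hc0 : c ≠ 0 := by
    intro h
    rw [h, zero_smul] at hc
    exact hxw hc
  -- multiplication by linear forms on `u`
  have key : ∀ y ∈ 𝒜 1, ∃ d : K, y * u = d • (x * u) := by
    intro y hy
    have hyw : y * w ∈ 𝒜 e := by
      have h := SetLike.GradedMul.mul_mem (A := 𝒜) hy hw
      rwa [show (1 : ℤ) + (e - 1) = e by ring] at h
    obtain ⟨cy, hcy⟩ := hu _ hyw
    refine ⟨cy / c, ?_⟩
    have h1 : c • (y * u) = cy • (x * u) := by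
      rw [← mul_smul_comm, ← hc, ← mul_smul_comm, ← mul_assoc, mul_comm y x, mul_assoc, hcy,
        mul_smul_comm]
    calc y * u = c⁻¹ • (c • (y * u)) := by rw [smul_smul, inv_mul_cancel₀ hc0, one_smul]
      _ = (cy / c) • (x * u) := by rw [h1, smul_smul, div_eq_inv_mul]
  obtain ⟨d₁, hd₁⟩ := key x₁ hx₁
  obtain ⟨d₂, hd₂⟩ := key x₂ hx₂
  by_cases hd₁0 : d₁ = 0
  · refine ⟨x₁, hx₁, hx₁0, ?_⟩
    rw [hd₁, hd₁0, zero_smul]
  · refine ⟨d₂ • x₁ - d₁ • x₂, sub_mem (Submodule.smul_mem _ _ hx₁) (Submodule.smul_mem _ _ hx₂),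
      ?_, ?_⟩
    · intro h
      have h1 : d₂ • x₁ + (-d₁) • x₂ = 0 := by rw [neg_smul, ← sub_eq_add_neg]; exact h
      exact hd₁0 (neg_eq_zero.1 (hli _ _ h1).2)
    · rw [sub_mul, smul_mul_assoc, smul_mul_assoc, hd₁, hd₂, smul_smul, smul_smul, mul_comm,
        sub_self]

include hstd in
theorem kill_piece_of_le (e : ℤ) (he : 0 ≤ e) (z : R) (hz : ∀ y ∈ 𝒜 e, z * y = 0) :
    ∀ j, e ≤ j → ∀ y ∈ 𝒜 j, z * y = 0 := by
  intro j hj
  induction j, hj using Int.leInduction with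
  | base => exact hz
  | succ j hj ih =>
    intro y hy
    have h := Groth.Agent.Lib.Helper24Segre2.piece_le_mul 𝒜 hstd j (by omega) hy
    refine Submodule.mul_induction_on h ?_ ?_
    · intro a _ b hb
      rw [mul_left_comm, ih b hb, mul_zero]
    · intro a b ha hb
      rw [mul_add, ha, hb, add_zero]

/-- Powers of the irrelevant ideal live in high degrees. -/
theorem pow_le_span_ge (m : Ideal R)
    (hmsp : m = Ideal.span (⋃ n ∈ Set.Ioi (0 : ℤ), (𝒜 n : Set R))) (N : ℕ) :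
    m ^ N ≤ Ideal.span (⋃ n ∈ Set.Ici (N : ℤ), (𝒜 n : Set R)) := by
  induction N with
  | zero =>
    intro r _
    have h1 : (1 : R) ∈ Ideal.span (⋃ n ∈ Set.Ici ((0 : ℕ) : ℤ), (𝒜 n : Set R)) :=
      Ideal.subset_span (Set.mem_iUnion₂.2 ⟨0, by simp, SetLike.one_mem_graded 𝒜⟩)
    rw [(Ideal.eq_top_iff_one _).2 h1]
    exact Submodule.mem_top
  | succ N ih =>
    rw [pow_succ]
    refine (Ideal.mul_mono ih (le_of_eq hmsp)).trans ?_
    rw [Ideal.span_mul_span']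
    apply Ideal.span_mono
    rintro _ ⟨a, ha, b, hb, rfl⟩
    obtain ⟨i, hi, hai⟩ := Set.mem_iUnion₂.1 ha
    obtain ⟨j, hj, hbj⟩ := Set.mem_iUnion₂.1 hb
    refine Set.mem_iUnion₂.2 ⟨i + j, ?_, SetLike.GradedMul.mul_mem (A := 𝒜) hai hbj⟩
    have hi' : (N : ℤ) ≤ i := hi
    have hj' : (0 : ℤ) < j := hj
    change ((N + 1 : ℕ) : ℤ) ≤ i + j
    push_cast
    omega

theorem kill_pow (m : Ideal R)
    (hmsp : m = Ideal.span (⋃ n ∈ Set.Ioi (0 : ℤ), (𝒜 n : Set R))) (N : ℕ) (z : R)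
    (hz : ∀ j, (N : ℤ) ≤ j → ∀ y ∈ 𝒜 j, z * y = 0) : ∀ r ∈ m ^ N, r * z = 0 := by
  intro r hr
  have h1 := pow_le_span_ge 𝒜 m hmsp N hr
  refine Submodule.span_induction (p := fun r _ => r * z = 0) ?_ ?_ ?_ ?_ h1
  · intro y hy
    obtain ⟨j, hj, hyj⟩ := Set.mem_iUnion₂.1 hy
    rw [mul_comm]
    exact hz j hj y hyj
  · exact zero_mul z
  · intro a b _ _ ha hb
    rw [add_mul, ha, hb, add_zero]
  · intro a b _ hb
    rw [smul_eq_mul, mul_assoc, hb, mul_zero]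

end Sub

end Groth.Agent.Lib.T2H3.Ver
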