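import Groth.Agent.Lib.T2H3VerL

/-! Veronese subrings of Gorenstein graded rings (helper3), part M: the converse. If `R` is a
standard graded Gorenstein ring over a field with `dim R ≥ 1`, `dim R_1 ≥ 2`, and `R^(q)` is
Gorenstein then `q ∣ a(R)`. -/

set_option autoImplicit false
set_option linter.unusedSectionVars false
set_option linter.style.haveILetI false
set_option maxHeartbeats 1000000
open DirectSum

noncomputable section

namespace Groth.Agent.Lib.T2H3.Ver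

open GrLC Groth.Agent.Lib.T2H3.GrIrr Groth.Agent.Lib.T2H3.GrArt Groth.Agent.Lib.T2H3.GrLes
  Groth.Agent.Lib.T2H3.GDual

universe u

section Transfer

variable {R R' : Type u} [CommRing R] [CommRing R']
variable {𝒜 : ℤ → AddSubgroup R} [GradedRing 𝒜] {𝒜' : ℤ → AddSubgroup R'} [GradedRing 𝒜']
variable {φ : R' →+* R} {q : ℕ}
variable [IsNoetherianRing R]
variable {M : Type u} [AddCommGroup M] [Module R M] {ℳ : ℤ → AddSubgroup M}
  [DirectSum.Decomposition ℳ] [SetLike.GradedSMul 𝒜 ℳ]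
variable {M' : Type u} [AddCommGroup M'] [Module R' M'] {ℳ' : ℤ → AddSubgroup M'}
  [DirectSum.Decomposition ℳ'] [SetLike.GradedSMul 𝒜' ℳ']

namespace Setup

variable (S : Setup 𝒜 𝒜' φ q ℳ ℳ')

variable (θ : ∀ n, S.X n →ₗ[R'] (S.F.X n).carrier)
  (hθgr : ∀ n, IsGrHom (S.XG n).gr (S.F.X n).gr (θ n))
  (hθ0 : ∀ y : M', θ 0 (S.εX y) = S.F.ε y)
  (hθ : ∀ (n : ℕ) (x : S.X n), θ (n + 1) (S.dX n x) = S.F.d n (θ n x))

theorem f₁_smul (p : ℕ) (j : ℤ) (r : deg0 𝒜') (z : S.T p j) :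
    ((S.f₁ θ hθgr hθ p j (r • z) : S.F.Hcomp S.m' p j) : S.F.H S.m' p) =
      (r : R') • ((S.f₁ θ hθgr hθ p j z : S.F.Hcomp S.m' p j) : S.F.H S.m' p) := by
  change S.F.toH S.m' p ⟨θ p ((r : R') • (z : S.X p)), _⟩ =
    (r : R') • S.F.toH S.m' p ⟨θ p z, _⟩
  rw [← map_smul]
  congr 1
  exact Subtype.ext (map_smul (θ p) _ _)

theorem f₂_smul (p : ℕ) (j : ℤ) (r : deg0 𝒜') (z : S.T p j) :
    ((S.f₂ p j (r • z) : S.E.Hcomp S.m p (j * q)) : S.E.H S.m p) =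
      φ (r : R') • ((S.f₂ p j z : S.E.Hcomp S.m p (j * q)) : S.E.H S.m p) := by
  change S.E.toH S.m p ⟨Vval (S.E.X p).gr S.hV ((r : R') • (z : S.X p)), _⟩ =
    (φ (r : R')) • S.E.toH S.m p ⟨Vval (S.E.X p).gr S.hV z, _⟩
  rw [← map_smul]
  congr 1

/-- If `H^p_{m'}(M^(q))_j` is generated by one nonzero element over `R'_0`, then so is
`H^p_m(M)_{jq}`. -/
theorem cyclic_transfer (p : ℕ) (j : ℤ) (h₀ : S.F.H S.m' p) (hh₀ : h₀ ∈ S.F.Hgr S.m' p j)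
    (hne : h₀ ≠ 0) (hcyc : ∀ y ∈ S.F.Hgr S.m' p j, ∃ r ∈ 𝒜' 0, y = r • h₀) :
    ∃ u₀ ∈ S.E.Hgr S.m p (j * q), u₀ ≠ 0 ∧
      ∀ y ∈ S.E.Hgr S.m p (j * q), ∃ r ∈ 𝒜' 0, y = φ r • u₀ := by
  obtain ⟨θ, hθgr, hθ0, hθ⟩ := S.exists_theta
  obtain ⟨t, ht⟩ := S.f₁_surjective θ hθgr hθ0 hθ p j ⟨h₀, hh₀⟩
  have ht' : ((S.f₁ θ hθgr hθ p j t : S.F.Hcomp S.m' p j) : S.F.H S.m' p) = h₀ :=
    congrArg Subtype.val ht
  refine ⟨((S.f₂ p j t : S.E.Hcomp S.m p (j * q)) : S.E.H S.m p), (S.f₂ p j t).2, ?_, ?_⟩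
  · intro h
    have h1 : S.f₂ p j t = 0 := Subtype.ext h
    rw [S.f₂_eq_zero_iff p j t, ← S.f₁_eq_zero_iff θ hθgr hθ0 hθ p j t] at h1
    rw [h1] at ht'
    exact hne ht'.symm
  · intro y hy
    obtain ⟨ty, hty⟩ := S.f₂_surjective p j ⟨y, hy⟩
    have hty' : ((S.f₂ p j ty : S.E.Hcomp S.m p (j * q)) : S.E.H S.m p) = y :=
      congrArg Subtype.val hty
    obtain ⟨r, hr, hry⟩ := hcyc _ (S.f₁ θ hθgr hθ p j ty).2
    refine ⟨r, hr, ?_⟩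
    have h1 : S.f₁ θ hθgr hθ p j (ty - (⟨r, hr⟩ : deg0 𝒜') • t) = 0 := by
      apply Subtype.ext
      rw [map_sub, AddSubgroupClass.coe_sub, S.f₁_smul θ hθgr hθ p j ⟨r, hr⟩ t, ht', ← hry,
        sub_self]
      rfl
    rw [S.f₁_eq_zero_iff θ hθgr hθ0 hθ p j, ← S.f₂_eq_zero_iff p j] at h1
    have h2 := congrArg Subtype.val h1
    rw [map_sub, AddSubgroupClass.coe_sub, S.f₂_smul p j ⟨r, hr⟩ t, hty'] at h2
    exact sub_eq_zero.1 h2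

end Setup

end Transfer

section Depth

variable {R : Type u} [CommRing R] {𝒜 : ℤ → AddSubgroup R} [GradedRing 𝒜]

theorem eq_zero_of_mem_gam_of_H_zero (I : StarInjRes 𝒜 𝒜) (m : HomogeneousIdeal 𝒜)
    (hH : ∀ y : I.H m 0, y = 0) (z : R) (hz : z ∈ gam m.toIdeal R) : z = 0 := by
  have h1 : I.ε z ∈ I.cocyc m 0 := by
    refine Submodule.mem_inf.mpr ⟨gam_map m.toIdeal I.ε hz, ?_⟩
    rw [I.exact_zero]
    exact ⟨z, rfl⟩
  have h2 := hH (I.toH m 0 ⟨I.ε z, h1⟩)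
  rw [toH_eq_zero_iff] at h2
  have h3 : I.ε z = 0 := (Submodule.mem_bot R).1 h2
  exact I.ε_injective (h3.trans (map_zero I.ε).symm)

end Depth

section Shift

variable (K : Type u) [Field K] {R : Type u} [CommRing R] [Algebra K R]
  (𝒜 : ℤ → AddSubgroup R) [GradedRing 𝒜] [KGraded K 𝒜] [Nontrivial R]

/-- The degree of an isomorphism `H^n_m(R) ≅ R^*` is `-a(R)`. -/
theorem shift_eq_neg (hpos : ∀ n : ℤ, n < 0 → 𝒜 n = ⊥) (m : HomogeneousIdeal 𝒜) (n : ℕ)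
    (I : StarInjRes 𝒜 𝒜) (a : ℤ)
    (ha : endDeg (I.Hgr m n) = ((a : WithTop ℤ) : WithBot (WithTop ℤ)))
    (ψ : I.H m n ≃ₗ[R] GDK K 𝒜) (g : ℤ)
    (hψ : IsGrHomDeg (I.Hgr m n) (pieceA K 𝒜) ψ.toLinearMap g) : g = -a := by
  classical
  obtain ⟨ε₀, hε0, hε1⟩ := exists_counit (subK K 𝒜)
  have hε0ne : ε₀ ≠ 0 := by
    intro h
    rw [h, map_zero, LinearMap.zero_apply] at hε1
    exact zero_ne_one hε1
  letI := HgrDecomposition I m n
  have hA1 : ∀ j, a < j → I.Hgr m n j = ⊥ :=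
    (Groth.Agent.Lib.T2H3.EG.endDeg_le_iff' _ a).1 (le_of_eq ha)
  have hA2 : I.Hgr m n a ≠ ⊥ := by
    intro hbot
    have h2 : endDeg (I.Hgr m n) ≤ (((a - 1 : ℤ) : WithTop ℤ) : WithBot (WithTop ℤ)) := by
      rw [Groth.Agent.Lib.T2H3.EG.endDeg_le_iff']
      intro j hj
      rcases eq_or_lt_of_le (show a ≤ j by omega) with h | h
      · rw [← h]; exact hbot
      · exact hA1 j h
    rw [ha] at h2
    have h3 : a ≤ a - 1 := by exact_mod_cast h2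
    omega
  have hB1 : ∀ i : ℤ, 0 < i → ∀ d ∈ pieceA K 𝒜 i, d = 0 := fun i hi d hd =>
    Groth.Agent.Lib.Helper24GrDual2.D_pos_eq_zero (subK K 𝒜) (piece (subK K 𝒜))
      (ev (subK K 𝒜)) (subK_eq_bot K 𝒜 hpos) (isGDual _) hi hd
  obtain ⟨h, hh, hhne⟩ : ∃ h ∈ I.Hgr m n a, h ≠ 0 := by
    by_contra hcon
    push Not at hcon
    exact hA2 ((AddSubgroup.eq_bot_iff_forall _).2 hcon)
  have h4 : a + g ≤ 0 := by
    by_contra hcon
    push Not at hcon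
    have h5 := hB1 (a + g) hcon (ψ h) (hψ a h hh)
    exact hhne (ψ.injective (h5.trans (map_zero ψ).symm))
  have h5 : -g ≤ a := by
    by_contra hcon
    push Not at hcon
    have h6 := Groth.Agent.Lib.T2H3.GorCanon.symm_deg (I.Hgr m n) (pieceA K 𝒜) ψ g hψ hε0
    rw [hA1 (0 - g) (by omega), AddSubgroup.mem_bot] at h6
    exact hε0ne (ψ.symm.injective (h6.trans (map_zero ψ.symm).symm))
  omega

end Shift

end Groth.Agent.Lib.T2H3.Ver
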