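import Groth.Agent.Lib.T2H3VerM

/-! Veronese subrings of Gorenstein graded rings (helper3), part N: the converse. If `R` is a
standard graded Gorenstein ring over a field with `dim R ≥ 1`, `dim R_1 ≥ 2`, and `R^(q)` is
Gorenstein then `q ∣ a(R)` (version over an auxiliary field `K` mapping onto `R_0`). -/

set_option autoImplicit false
set_option linter.unusedSectionVars false
set_option linter.style.haveILetI false
set_option maxHeartbeats 1000000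
open DirectSum

noncomputable section

namespace Groth.Agent.Lib.T2H3.Ver

open GrLC Groth.Agent.Lib.T2H3.GrIrr Groth.Agent.Lib.T2H3.GrArt Groth.Agent.Lib.T2H3.GrLes
  Groth.Agent.Lib.T2H3.GDual

universe u

theorem subK_zero_eq (K : Type u) [Field K] {R : Type u} [CommRing R] [Algebra K R]
    (𝒜 : ℤ → AddSubgroup R) [GradedRing 𝒜] [KGraded K 𝒜]
    (h0 : ∀ x ∈ 𝒜 0, ∃ c : K, algebraMap K R c = x) :
    subK K 𝒜 0 = Submodule.span K {(1 : R)} := by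
  apply le_antisymm
  · intro x hx
    obtain ⟨c, rfl⟩ := h0 x hx
    rw [Submodule.mem_span_singleton]
    exact ⟨c, (Algebra.algebraMap_eq_smul_one c).symm⟩
  · rw [Submodule.span_le]
    intro x hx
    rw [Set.mem_singleton_iff] at hx
    rw [hx]
    exact SetLike.GradedOne.one_mem (A := 𝒜)

theorem dvd_aInvariant_of_veronese_aux
    (K : Type u) [Field K]
    (R : Type u) [CommRing R] [LocCoh.IsGorensteinRing R] [Algebra K R]
    (𝒜 : ℤ → AddSubgroup R) [GradedRing 𝒜] [KGraded K 𝒜]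
    (hpos : ∀ n : ℤ, n < 0 → 𝒜 n = ⊥) (h0 : IsField (deg0 𝒜))
    (h0K : ∀ x ∈ 𝒜 0, ∃ c : K, algebraMap K R c = x)
    (m : HomogeneousIdeal 𝒜) (hm : IsStarLocal 𝒜 m)
    (hmsp : m.toIdeal = Ideal.span (⋃ n ∈ Set.Ioi (0 : ℤ), (𝒜 n : Set R)))
    (hstd : Ideal.span (⋃ n ∈ Set.Ioi (0 : ℤ), (𝒜 n : Set R)) =
      Ideal.span ((𝒜 1 : AddSubgroup R) : Set R))
    (x₁ x₂ : R) (hx₁ : x₁ ∈ 𝒜 1) (hx₂ : x₂ ∈ 𝒜 1)
    (hli : ∀ c₁ c₂ : K, c₁ • x₁ + c₂ • x₂ = 0 → c₁ = 0 ∧ c₂ = 0)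
    (n : ℕ) (hn : ringKrullDim R = n) (h1 : 1 ≤ n) (I : StarInjRes 𝒜 𝒜) (a : ℤ)
    (ha : endDeg (I.Hgr m n) = ((a : WithTop ℤ) : WithBot (WithTop ℤ)))
    (q : ℕ) (R' : Type u) [CommRing R'] [LocCoh.IsGorensteinRing R'] [Algebra K R']
    (𝒜' : ℤ → AddSubgroup R') [GradedRing 𝒜'] [KGraded K 𝒜']
    (φ : R' →+* R) (hV : VerHyp 𝒜 𝒜' φ q)
    (hφK : ∀ c : K, φ (algebraMap K R' c) = algebraMap K R c) : (q : ℤ) ∣ a := by
  classical
  haveI : IsNoetherianRing R' := isNoetherianRing_of_verHyp hV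
  haveI hntR : Nontrivial R :=
    ⟨⟨0, 1, fun h => one_notMem_of_isStarLocal hm (by rw [← h]; exact zero_mem _)⟩⟩
  haveI hntR' : Nontrivial R' := ⟨⟨0, 1, fun h => by
    have h1 := congrArg φ h
    rw [map_zero, map_one] at h1
    exact zero_ne_one h1⟩⟩
  have hpos' := hpos_of_verHyp hV hpos
  have h0' := isField_deg0_of_verHyp hV h0
  -- the *maximal ideal of `R'`
  obtain ⟨m', hm'def⟩ : ∃ m' : HomogeneousIdeal 𝒜', m' = irrH 𝒜' := ⟨_, rfl⟩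
  have hm'sp : m'.toIdeal = Ideal.span (⋃ j ∈ Set.Ioi (0 : ℤ), (𝒜' j : Set R')) := by
    rw [hm'def]; rfl
  have hm'ne : m'.toIdeal ≠ ⊤ := by rw [hm'def]; exact irr_ne_top hpos'
  have hm' : IsStarLocal 𝒜' m' :=
    Groth.Agent.Lib.T2H3.EG.isStarLocal_of_isField 𝒜' hpos' h0' m' hm'ne (by rw [hm'def]; rfl)
  -- the comparison set-up
  let gφ : R' →ₛₗ[φ] R :=
    { toFun := φ
      map_add' := map_add φ
      map_smul' := fun r x => by rw [smul_eq_mul, map_mul, smul_eq_mul] }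
  have hgdeg : ∀ j : ℤ, (𝒜' j).map (gφ : R' →+ R) = 𝒜 (j * q) := by
    intro j
    rw [← hV.hdeg j]
    rfl
  obtain ⟨F, -⟩ : ∃ F : StarInjRes 𝒜' 𝒜', True :=
    ⟨Groth.Agent.Lib.T2H3.MinRes.minRes 𝒜' 𝒜', trivial⟩
  obtain ⟨S, hSF, hSm, hSm', hSE⟩ : ∃ S : Setup 𝒜 𝒜' φ q 𝒜 𝒜',
      S.F = F ∧ S.m = m ∧ S.m' = m' ∧ S.E = I :=
    ⟨⟨hV, gφ, hV.hφ, hgdeg, I, F, m, m', radical_map_eq hV m m' hmsp hm'sp⟩, rfl, rfl, rfl, rfl⟩
  subst hSF hSm hSm' hSE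
  -- heights
  have hht : S.m.toIdeal.height = n := by
    have h1 := Groth.Agent.Lib.T2H3.GrDim.ringKrullDim_eq_height_of_isStarLocal hpos hm
    rw [hn] at h1
    exact_mod_cast h1.symm
  have hdimR' : ringKrullDim R' = n := (ringKrullDim_eq_of_verHyp hV).trans hn
  have hht' : S.m'.toIdeal.height = n := by
    have h1 := Groth.Agent.Lib.T2H3.GrDim.ringKrullDim_eq_height_of_isStarLocal hpos' hm'
    rw [hdimR'] at h1
    exact_mod_cast h1.symm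
  -- the hull of `R` and the isomorphism `H^n_m(R) ≅ R^*(-a)`
  obtain ⟨e, he⟩ := exists_hullA K 𝒜 hpos h0K S.m hmsp
  obtain ⟨g, ψ, hψ⟩ := Groth.Agent.S13244.result R 𝒜 S.m hm n hht S.E (GDK K 𝒜) (pieceA K 𝒜) e he
  have hg : g = -a := shift_eq_neg K 𝒜 hpos S.m n S.E a ha ψ g hψ
  -- the hull of `R'` and the isomorphism `H^n_{m'}(R') ≅ R'^*(g')`
  have h0K' : ∀ x ∈ 𝒜' 0, ∃ c : K, algebraMap K R' c = x := by
    intro x hx
    have h1 := phi_mem hV hx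
    rw [zero_mul] at h1
    obtain ⟨c, hc⟩ := h0K _ h1
    exact ⟨c, hV.hφ (by rw [hφK, hc])⟩
  obtain ⟨e', he'⟩ := exists_hullA K 𝒜' hpos' h0K' S.m' hm'sp
  obtain ⟨g', ψ', hψ'⟩ := Groth.Agent.S13244.result R' 𝒜' S.m' hm' n hht' S.F (GDK K 𝒜')
    (pieceA K 𝒜') e' he'
  obtain ⟨ε₀, hε0, hε1⟩ := exists_counit (subK K 𝒜')
  have hε0ne : ε₀ ≠ 0 := by
    intro h
    rw [h, map_zero, LinearMap.zero_apply] at hε1
    exact zero_ne_one hε1
  -- the top piece of `H^n_{m'}(R')` is cyclic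
  have hh₀ : ψ'.symm ε₀ ∈ S.F.Hgr S.m' n (0 - g') := by
    letI := HgrDecomposition S.F S.m' n
    exact Groth.Agent.Lib.T2H3.GorCanon.symm_deg (S.F.Hgr S.m' n) (pieceA K 𝒜') ψ' g' hψ' hε0
  have hh₀ne : ψ'.symm ε₀ ≠ 0 := fun h =>
    hε0ne (ψ'.symm.injective (h.trans (map_zero ψ'.symm).symm))
  have hcyc : ∀ y ∈ S.F.Hgr S.m' n (0 - g'), ∃ r ∈ 𝒜' 0, y = r • ψ'.symm ε₀ := by
    intro y hy
    have h1 : ψ' y ∈ pieceA K 𝒜' (0 - g' + g') := hψ' _ y hy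
    rw [sub_add_cancel] at h1
    have h2 := Groth.Agent.Lib.Helper24GrDual2.D0_eq_smul (subK K 𝒜') (piece (subK K 𝒜'))
      (ev (subK K 𝒜')) (subK_zero_eq K 𝒜' h0K') (isGDual _) h1 hε0
      (by rw [hε1]; exact one_ne_zero)
    refine ⟨algebraMap K R' (ev (subK K 𝒜') (ψ' y) 1 / ev (subK K 𝒜') ε₀ 1),
      KGraded.mem _, ?_⟩
    apply ψ'.injective
    rw [map_smul, LinearEquiv.apply_symm_apply, algebraMap_smul]
    exact h2
  obtain ⟨u₀, hu₀, hu₀ne, hu₀cyc⟩ := S.cyclic_transfer n (0 - g') _ hh₀ hh₀ne hcyc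
  -- transfer to the graded dual of `R`
  have hδ : ψ u₀ ∈ pieceA K 𝒜 ((0 - g') * q + g) := hψ _ u₀ hu₀
  have hδne : ψ u₀ ≠ 0 := fun h => hu₀ne (ψ.injective (h.trans (map_zero ψ).symm))
  have hδcyc : ∀ η ∈ pieceA K 𝒜 ((0 - g') * q + g), ∃ c : K, η = c • ψ u₀ := by
    intro η hη
    letI := HgrDecomposition S.E S.m n
    have h1 := Groth.Agent.Lib.T2H3.GorCanon.symm_deg (S.E.Hgr S.m n) (pieceA K 𝒜) ψ g hψ hη
    rw [add_sub_cancel_right] at h1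
    obtain ⟨r, hr, hry⟩ := hu₀cyc _ h1
    obtain ⟨c, rfl⟩ := h0K' r hr
    refine ⟨c, ?_⟩
    have h2 := congrArg ψ hry
    rw [LinearEquiv.apply_symm_apply, map_smul, hφK, algebraMap_smul] at h2
    exact h2
  obtain ⟨u, hu, hune, hucyc⟩ :=
    exists_gen_of_piece_cyclic (subK K 𝒜) ((0 - g') * q + g) (ψ u₀) hδ hδne hδcyc
  -- the degree of `u`
  obtain ⟨d, hd⟩ : ∃ d : ℤ, d = -((0 - g') * q + g) := ⟨_, rfl⟩
  rw [← hd] at hu hucyc
  have hd0 : 0 ≤ d := by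
    by_contra hcon
    push Not at hcon
    have h2 : u ∈ 𝒜 d := hu
    rw [hpos d hcon, AddSubgroup.mem_bot] at h2
    exact hune h2
  have hd1 : ¬ 1 ≤ d := by
    intro hd1
    obtain ⟨z, hz, hz0, hzk⟩ := exists_kill_piece (subK K 𝒜) hstd d hd1 u hu hucyc x₁ x₂ hx₁ hx₂ hli
    have hzk' := kill_piece_of_le (subK K 𝒜) hstd d hd0 z hzk
    have hzgam : z ∈ gam S.m.toIdeal R := by
      refine ⟨d.toNat, fun r hr => ?_⟩
      rw [smul_eq_mul]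
      exact kill_pow (subK K 𝒜) S.m.toIdeal hmsp d.toNat z
        (fun j hj => hzk' j (by omega)) r hr
    haveI hCMR : LocCoh.IsCohenMacaulayRing R :=
      Groth.Agent.Lib.Helper5.GorUnmixed.isCohenMacaulayRing_of_isGorensteinRing R
    have hH0 : ∀ y : S.E.H S.m 0, y = 0 := by
      intro y
      obtain ⟨d', rfl⟩ : ∃ d', n = d' + 1 := ⟨n - 1, by omega⟩
      exact Groth.Agent.Lib.T2H3.GrAinv.H_eq_zero_of_lt hpos hm d' hn S.E 0 (by omega) y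
    exact hz0 (eq_zero_of_mem_gam_of_H_zero S.E S.m hH0 z hzgam)
  have hd00 : d = 0 := by omega
  rw [hg, hd00] at hd
  refine ⟨-g', ?_⟩
  have h3 : a = (0 - g') * q := by omega
  rw [h3]
  ring

end Groth.Agent.Lib.T2H3.Ver
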