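import Groth.Agent.Lib.T2H3VerN

/-! Veronese subrings of Gorenstein graded rings (helper3), part O: two independent linear forms
from `dim R_1 ≥ 2`. -/

set_option autoImplicit false
set_option linter.unusedSectionVars false
set_option linter.style.haveILetI false
open DirectSum

noncomputable section

namespace Groth.Agent.Lib.T2H3.Ver

open GrLC Groth.Agent.Lib.T2H3.GDual

universe u

theorem exists_indep_of_finrank (K : Type u) [Field K] {R : Type u} [CommRing R] [Algebra K R]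
    (𝒜 : ℤ → AddSubgroup R) [GradedRing 𝒜] [KGraded K 𝒜] [Nontrivial R]
    (hR1 : 2 ≤ Module.finrank (deg0 𝒜) (comp 𝒜 𝒜 1)) :
    ∃ x₁ ∈ 𝒜 1, ∃ x₂ ∈ 𝒜 1, ∀ c₁ c₂ : K, c₁ • x₁ + c₂ • x₂ = 0 → c₁ = 0 ∧ c₂ = 0 := by
  classical
  by_contra hcon
  push Not at hcon
  have hle : Module.finrank (deg0 𝒜) (comp 𝒜 𝒜 1) ≤ 1 := by
    by_cases hall : ∀ x ∈ 𝒜 1, x = 0
    · refine finrank_le_one (0 : comp 𝒜 𝒜 1) (fun w => ⟨0, ?_⟩)
      apply Subtype.ext
      rw [smul_zero]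
      exact (hall w w.2).symm
    · push Not at hall
      obtain ⟨x₁, hx₁, hx₁0⟩ := hall
      refine finrank_le_one (⟨x₁, hx₁⟩ : comp 𝒜 𝒜 1) (fun w => ?_)
      obtain ⟨c₁, c₂, hc, hne⟩ := hcon x₁ hx₁ w w.2
      have hc₂ : c₂ ≠ 0 := by
        intro h
        rw [h, zero_smul, add_zero] at hc
        have hc₁ : c₁ ≠ 0 := fun h1 => hne h1 h
        apply hx₁0
        calc x₁ = c₁⁻¹ • (c₁ • x₁) := by rw [smul_smul, inv_mul_cancel₀ hc₁, one_smul]
          _ = 0 := by rw [hc, smul_zero]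
      refine ⟨⟨algebraMap K R (-(c₁ / c₂)), KGraded.mem _⟩, ?_⟩
      apply Subtype.ext
      change algebraMap K R (-(c₁ / c₂)) * x₁ = (w : R)
      rw [← Algebra.smul_def]
      have h1 : c₂ • (w : R) = -(c₁ • x₁) := eq_neg_of_add_eq_zero_right hc
      calc (-(c₁ / c₂)) • x₁ = c₂⁻¹ • (-(c₁ • x₁)) := by
            rw [smul_neg, smul_smul, neg_smul, div_eq_inv_mul]
        _ = (w : R) := by rw [← h1, smul_smul, inv_mul_cancel₀ hc₂, one_smul]
  omega

end Groth.Agent.Lib.T2H3.Ver
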