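import Groth.Agent.Lib.T2H3VerO

/-! Veronese subrings of Gorenstein graded rings (helper3), part P: the isomorphism
`H^p_{m'}(M^(q)) ≅ V(Y)` is homogeneous. -/

set_option autoImplicit false
set_option linter.unusedSectionVars false
set_option linter.style.haveILetI false
open DirectSum CategoryTheory

noncomputable section

namespace Groth.Agent.Lib.T2H3.Ver

open GrLC Groth.Agent.Lib.Helper29GrHom Groth.Agent.Lib.Helper29GrEss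
  Groth.Agent.Lib.Helper29GrGam Groth.Agent.Lib.Helper29LCAcyclic Groth.Agent.Lib.T2H3.GrLes

universe u

variable {R R' : Type u} [CommRing R] [CommRing R']
variable {𝒜 : ℤ → AddSubgroup R} [GradedRing 𝒜] {𝒜' : ℤ → AddSubgroup R'} [GradedRing 𝒜']
variable {φ : R' →+* R} {q : ℕ}
variable [IsNoetherianRing R]
variable {M : Type u} [AddCommGroup M] [Module R M] {ℳ : ℤ → AddSubgroup M}
  [DirectSum.Decomposition ℳ] [SetLike.GradedSMul 𝒜 ℳ]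
variable {M' : Type u} [AddCommGroup M'] [Module R' M'] {ℳ' : ℤ → AddSubgroup M'}
  [DirectSum.Decomposition ℳ'] [SetLike.GradedSMul 𝒜' ℳ']

namespace Setup

variable (S : Setup 𝒜 𝒜' φ q ℳ ℳ')

variable {Y : Type u} [AddCommGroup Y] [Module R Y] (𝒴 : ℤ → AddSubgroup Y)
  [DirectSum.Decomposition 𝒴] [SetLike.GradedSMul 𝒜 𝒴]

/-- `H^p_{m'}(M^(q)) ≅ V(Y)` as graded `R'`-modules when `H^p_m(M) ≅ Y` by a homogeneous
isomorphism of degree `c q`. -/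
theorem exists_H_equiv_Vsub_graded (p : ℕ) (ψ : S.E.H S.m p ≃ₗ[R] Y) (g : ℤ)
    (hψ : IsGrHomDeg (S.E.Hgr S.m p) 𝒴 ψ.toLinearMap g) (c : ℤ) (hc : g = c * q) :
    ∃ Φ : S.F.H S.m' p ≃ₗ[R'] ↥(Vsub 𝒴 S.hV),
      IsGrHomDeg (S.F.Hgr S.m' p) (Vgr 𝒴 S.hV) Φ.toLinearMap c := by
  have hg : (q : ℤ) ∣ g := ⟨c, by rw [hc]; ring⟩
  obtain ⟨θ, hθgr, hθ0, hθ⟩ := S.exists_theta
  have hker : LinearMap.ker (S.toF θ hθ p) = LinearMap.ker (S.toY 𝒴 p ψ g hψ hg) := by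
    ext z
    rw [LinearMap.mem_ker, LinearMap.mem_ker, S.toF_eq_zero_iff θ hθ0 hθ p z,
      S.toY_eq_zero_iff 𝒴 p ψ g hψ hg z]
  obtain ⟨e₁, he₁⟩ : ∃ e₁ : (↥(S.Zc p) ⧸ LinearMap.ker (S.toF θ hθ p)) ≃ₗ[R'] S.F.H S.m' p,
      ∀ z, e₁ (Submodule.Quotient.mk z) = S.toF θ hθ p z :=
    ⟨(S.toF θ hθ p).quotKerEquivOfSurjective (S.toF_surjective θ hθ0 hθ p), fun z => rfl⟩
  obtain ⟨e₂, he₂⟩ : ∃ e₂ : (↥(S.Zc p) ⧸ LinearMap.ker (S.toY 𝒴 p ψ g hψ hg)) ≃ₗ[R']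
      ↥(Vsub 𝒴 S.hV), ∀ z, e₂ (Submodule.Quotient.mk z) = S.toY 𝒴 p ψ g hψ hg z :=
    ⟨(S.toY 𝒴 p ψ g hψ hg).quotKerEquivOfSurjective (S.toY_surjective 𝒴 p ψ g hψ hg),
      fun z => rfl⟩
  refine ⟨e₁.symm ≪≫ₗ (Submodule.quotEquivOfEq _ _ hker) ≪≫ₗ e₂, ?_⟩
  intro j y hy
  obtain ⟨t, ht⟩ := S.f₁_surjective θ hθgr hθ0 hθ p j ⟨y, hy⟩
  have htZ : (t : S.X p) ∈ S.Zc p := S.mem_Zc.mpr ⟨t.2.1, t.2.2.1⟩
  have h1 : S.toF θ hθ p ⟨t, htZ⟩ = y := congrArg Subtype.val ht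
  have h2 : e₁.symm y = Submodule.Quotient.mk ⟨t, htZ⟩ := by
    rw [LinearEquiv.symm_apply_eq, he₁, h1]
  change (e₂ ((Submodule.quotEquivOfEq _ _ hker) (e₁.symm y))) ∈ Vgr 𝒴 S.hV (j + c)
  rw [h2, Submodule.quotEquivOfEq_mk, he₂, mem_Vgr, S.Vval_toY]
  have h3 := S.cE_mem_Hgr p j ⟨t, htZ⟩ t.2.2.2
  have h4 := hψ (j * q) _ h3
  have e1 : (j + c) * (q : ℤ) = j * q + g := by rw [hc]; ring
  rw [e1]
  exact h4

end Setup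

end Groth.Agent.Lib.T2H3.Ver
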