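import Groth.Agent.Lib.T2H3VerZ
import Groth.Agent.Lib.T2H3EGB
import Groth.Agent.Lib.Helper24CIHilb

/-! Veronese subrings (helper3): an abstract ring `R'` with an injective map `φ : R' → R` whose
image is `⊕_j R_{jq}` carries a grading making it the `q`-th Veronese subring; the standard graded
polynomial ring: components, degree zero, dimension of the pieces. -/

set_option autoImplicit false
set_option linter.unusedSectionVars false
set_option linter.unusedVariables false
set_option linter.style.haveILetI false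
set_option maxHeartbeats 1000000
open DirectSum

noncomputable section

namespace Groth.Agent.Lib.T2H3.Ver

open GrLC Groth.Agent.Lib.T2H3.GrLes Groth.Agent.Lib.T2H3.GDual

universe u

section Abstract

variable {R R' : Type u} [CommRing R] [CommRing R'] (𝒜 : ℤ → AddSubgroup R) [GradedRing 𝒜]
  (φ : R' →+* R) (hφ : Function.Injective φ) (q : ℕ) (hq : 0 < q)
  (hrange : ∀ p : R, p ∈ φ.range ↔ p ∈ Vadd (Hq q) 𝒜)

/-- The pieces of the Veronese grading on `R'`. -/
def verGr : ℤ → AddSubgroup R' := fun j => (𝒜 (j * q)).comap (φ : R' →+ R)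

theorem mem_verGr {j : ℤ} {x : R'} : x ∈ verGr 𝒜 φ q j ↔ φ x ∈ 𝒜 (j * q) := Iff.rfl

include hφ hq hrange in
theorem isInternal_verGr : DirectSum.IsInternal (verGr 𝒜 φ q) := by
  classical
  constructor
  · have h1 : iSupIndep 𝒜 := (DirectSum.Decomposition.isInternal 𝒜).addSubgroup_iSupIndep
    have hq0 : (q : ℤ) ≠ 0 := by exact_mod_cast hq.ne'
    have hσ : Function.Injective (fun j : ℤ => j * (q : ℤ)) := mul_left_injective₀ hq0
    have h2 : iSupIndep (fun j : ℤ => 𝒜 (j * q)) := h1.comp hσ
    have h3 : iSupIndep (verGr 𝒜 φ q) := iSupIndep_comap (φ : R' →+ R) hφ _ h2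
    exact h3.dfinsuppSumAddHom_injective
  · intro x
    have hx : φ x ∈ Vadd (Hq q) 𝒜 := (hrange _).1 ⟨x, rfl⟩
    have hy : ∀ i : ℤ, ∃ y : R', φ y = ((decompose 𝒜 (φ x)) i : R) := fun i =>
      (hrange _).2 (decompose_mem_Vadd (Hq q) 𝒜 hx i)
    choose y hy using hy
    have h1 : x = ∑ i ∈ (decompose 𝒜 (φ x)).support, y i := by
      apply hφ
      rw [map_sum]
      simp only [hy]
      exact (DirectSum.sum_support_decompose 𝒜 (φ x)).symm
    have h2 : x ∈ (DirectSum.coeAddMonoidHom (verGr 𝒜 φ q)).range := by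
      rw [h1]
      refine AddSubgroup.sum_mem _ fun i _ => ?_
      by_cases hi : i ∈ Hq q
      · obtain ⟨j, rfl⟩ := exists_of_mem_Hq hi
        refine ⟨DirectSum.of (fun j => ↥(verGr 𝒜 φ q j)) j ⟨y (j * q), ?_⟩, ?_⟩
        · rw [mem_verGr, hy]
          exact SetLike.coe_mem _
        · rw [DirectSum.coeAddMonoidHom_of]
      · have h3 : y i = 0 := by
          apply hφ
          rw [hy, map_zero]
          exact hx i hi
        rw [h3]
        exact zero_mem _
    exact h2

include hφ hq hrange in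
/-- `R'` is the `q`-th Veronese subring of `R`. -/
theorem exists_veronese_grading : ∃ (𝒜' : ℤ → AddSubgroup R') (_ : GradedRing 𝒜'),
    ∀ j : ℤ, (𝒜' j).map (φ : R' →+ R) = 𝒜 (j * q) := by
  classical
  refine ⟨verGr 𝒜 φ q,
    { one_mem := by
        rw [mem_verGr, map_one, zero_mul]
        exact SetLike.GradedOne.one_mem (A := 𝒜)
      mul_mem := by
        intro i j a b ha hb
        rw [mem_verGr, map_mul, add_mul]
        exact SetLike.GradedMul.mul_mem (A := 𝒜) ha hb
      toDecomposition := (isInternal_verGr 𝒜 φ hφ q hq hrange).chooseDecomposition }, ?_⟩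
  intro j
  apply le_antisymm
  · rintro _ ⟨x, hx, rfl⟩
    exact hx
  · intro z hz
    have h1 : z ∈ Vadd (Hq q) 𝒜 := mem_Vadd_of_mem (Hq q) 𝒜 (mul_mem_Hq q j) hz
    obtain ⟨x, rfl⟩ := (hrange z).2 h1
    exact ⟨x, hz, rfl⟩

end Abstract

section Poly

open MvPolynomial Groth.Agent.Lib.T2H3.EG Groth.Agent.Lib.T2H3.GrTr

variable (k : Type u) [Field k] (r : ℕ)

theorem weight_one_eq (e : Fin (r + 1) →₀ ℕ) :
    Finsupp.weight (fun _ : Fin (r + 1) => (1 : ℤ)) e = ((Finsupp.degree e : ℕ) : ℤ) := by
  rw [Finsupp.weight_apply, Finsupp.degree_apply, Finsupp.sum, Nat.cast_sum]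
  refine Finset.sum_congr rfl fun i _ => ?_
  rw [nsmul_eq_mul, mul_one]

theorem weight_one_nat (e : Fin (r + 1) →₀ ℕ) :
    Finsupp.weight (1 : Fin (r + 1) → ℕ) e = Finsupp.degree e := by
  rw [Finsupp.degree_eq_weight_one]
  rfl

/-- The components of the standard grading. -/
theorem decompose_PA (p : MvPolynomial (Fin (r + 1)) k) (i : ℤ) :
    ((decompose (PA k r) p) i : MvPolynomial (Fin (r + 1)) k) =
      weightedHomogeneousComponent (fun _ : Fin (r + 1) => (1 : ℤ)) i p := by
  rw [decompose_asGr]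
  exact MvPolynomial.weightedDecomposition.decompose'_apply k (fun _ : Fin (r + 1) => (1 : ℤ)) p i

theorem weightedHomogeneousComponent_natCast (p : MvPolynomial (Fin (r + 1)) k) (j : ℕ) :
    weightedHomogeneousComponent (fun _ : Fin (r + 1) => (1 : ℤ)) (j : ℤ) p =
      homogeneousComponent j p := by
  classical
  ext e
  rw [coeff_weightedHomogeneousComponent, coeff_homogeneousComponent, weight_one_eq]
  by_cases h : Finsupp.degree e = j
  · rw [if_pos h, if_pos (by rw [h])]
  · rw [if_neg h, if_neg (fun h' => h (by exact_mod_cast h'))]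

theorem decompose_PA_natCast (p : MvPolynomial (Fin (r + 1)) k) (j : ℕ) :
    ((decompose (PA k r) p) (j : ℤ) : MvPolynomial (Fin (r + 1)) k) = homogeneousComponent j p := by
  rw [decompose_PA, weightedHomogeneousComponent_natCast]

/-- Membership in `⊕_j R_{jd}` in terms of homogeneous components. -/
theorem mem_Vadd_PA_iff (d : ℕ) (p : MvPolynomial (Fin (r + 1)) k) :
    p ∈ Vadd (Hq d) (PA k r) ↔ ∀ j : ℕ, ¬ d ∣ j → homogeneousComponent j p = 0 := by
  constructor
  · intro h j hj
    rw [← decompose_PA_natCast]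
    apply h
    intro hmem
    apply hj
    have := Int.mem_zmultiples_iff.mp hmem
    exact_mod_cast this
  · intro h i hi
    rcases lt_or_ge i 0 with hneg | hnn
    · exact eq_zero_of_mem_of_eq_bot (PA_pos k r i hneg) (SetLike.coe_mem _)
    · obtain ⟨j, rfl⟩ := Int.eq_ofNat_of_zero_le hnn
      rw [decompose_PA_natCast]
      apply h
      intro hdj
      apply hi
      exact Int.mem_zmultiples_iff.mpr (by exact_mod_cast hdj)

theorem decompose_PA_zero (p : MvPolynomial (Fin (r + 1)) k) :
    ((decompose (PA k r) p) 0 : MvPolynomial (Fin (r + 1)) k) = C (constantCoeff p) := by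
  have h := decompose_PA_natCast k r p 0
  rw [Nat.cast_zero] at h
  rw [h, homogeneousComponent_zero]
  rfl

/-- The standard grading is generated in degree one. -/
theorem PA_std : Ideal.span (⋃ n ∈ Set.Ioi (0 : ℤ), (PA k r n : Set (MvPolynomial (Fin (r + 1)) k))) =
    Ideal.span ((PA k r 1 : AddSubgroup (MvPolynomial (Fin (r + 1)) k)) : Set _) := by
  apply le_antisymm
  · have h1 := Groth.Agent.Lib.T2H3.WPoly.irr_eq_span_X k (r + 1)
      (w := fun _ : Fin (r + 1) => (1 : ℤ)) (fun _ => one_pos)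
    change Groth.Agent.Lib.T2H3.GrIrr.irr (PA k r) ≤ _
    rw [show Groth.Agent.Lib.T2H3.GrIrr.irr (PA k r) =
      Ideal.span (Set.range (X : Fin (r + 1) → MvPolynomial (Fin (r + 1)) k)) from h1]
    apply Ideal.span_mono
    rintro _ ⟨i, rfl⟩
    exact Groth.Agent.Lib.T2H3.WPoly.X_mem k (r + 1) (w := fun _ : Fin (r + 1) => (1 : ℤ)) i
  · apply Ideal.span_mono
    intro p hp
    exact Set.mem_iUnion₂.2 ⟨1, Set.mem_Ioi.2 one_pos, hp⟩

/-- The dimension of the pieces of the polynomial ring. -/
theorem finrank_comp_PA (j : ℕ) :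
    Module.finrank (deg0 (PA k r)) (comp (PA k r) (PA k r) (j : ℤ)) =
      Nat.choose (r + 1 + j - 1) j := by
  classical
  rw [← Groth.Agent.Lib.Helper24CIHilb.finrank_homog k (r + 1) j]
  have hmem : ∀ p : MvPolynomial (Fin (r + 1)) k,
      p ∈ homogeneousSubmodule (Fin (r + 1)) k j ↔ p ∈ PA k r (j : ℤ) := by
    intro p
    rw [mem_homogeneousSubmodule]
    constructor
    · intro h e he
      rw [weight_one_eq]
      have h1 := h he
      rw [weight_one_nat] at h1
      rw [h1]
    · intro h e he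
      have h1 := h he
      rw [weight_one_eq] at h1
      rw [weight_one_nat]
      exact_mod_cast h1
  let i : k → deg0 (PA k r) := fun c =>
    ⟨C c, (show (C c : MvPolynomial (Fin (r + 1)) k) ∈ PA k r 0 from
      (GrSyz.mem_stdGr_iff k _ _ _).2 (isWeightedHomogeneous_C _ _))⟩
  have hi : Function.Bijective i := by
    constructor
    · intro c c' h
      exact C_injective _ _ (congrArg Subtype.val h)
    · rintro ⟨p, hp⟩
      have hp' : p ∈ GrSyz.stdGr k (Fin (r + 1)) 0 := hp
      refine ⟨constantCoeff p, Subtype.ext ?_⟩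
      exact (Groth.Agent.Helper13RegCount.eq_C_of_mem_stdGr_zero hp').symm
  let jj : ↥(homogeneousSubmodule (Fin (r + 1)) k j) ≃+ ↥(comp (PA k r) (PA k r) (j : ℤ)) :=
    { toFun := fun p => ⟨p.1, (hmem p.1).1 p.2⟩
      invFun := fun p => ⟨p.1, (hmem p.1).2 p.2⟩
      left_inv := fun p => rfl
      right_inv := fun p => rfl
      map_add' := fun p p' => rfl }
  have hrank := rank_eq_of_equiv_equiv i jj hi (fun c p => Subtype.ext (by
    change ((c • p : ↥(homogeneousSubmodule (Fin (r + 1)) k j)) : MvPolynomial (Fin (r + 1)) k) =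
      (C c) * (p : MvPolynomial (Fin (r + 1)) k)
    rw [Submodule.coe_smul, MvPolynomial.smul_eq_C_mul]))
  unfold Module.finrank
  rw [hrank]

end Poly

end Groth.Agent.Lib.T2H3.Ver
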