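import Groth.Agent.Lib.T2H3VerPolyA
import Groth.Agent.S18655

/-! The type of the Veronese subring `k[X_1..X_s]^(d)` of the polynomial ring (helper3). -/

set_option autoImplicit false
set_option linter.unusedSectionVars false
set_option linter.unusedVariables false
set_option linter.style.haveILetI false
set_option maxHeartbeats 1000000
open DirectSum

noncomputable section

namespace Groth.Agent.Lib.T2H3.Ver

open GrLC Groth.Agent.Lib.T2H3.GrLes Groth.Agent.Lib.T2H3.GDual MvPolynomial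
  Groth.Agent.Lib.T2H3.EG Groth.Agent.Lib.T2H3.GrArt Groth.Agent.Lib.T2H3.GrIrr

universe u

theorem bassNum_veronese_poly (k : Type u) [Field k] (r d : ℕ) (hd : 1 ≤ d) (R' : Type u)
    [CommRing R'] (φ : R' →+* MvPolynomial (Fin (r + 1)) k) (hφ : Function.Injective φ)
    (hrange : ∀ p : MvPolynomial (Fin (r + 1)) k, p ∈ φ.range ↔
      ∀ j : ℕ, ¬ d ∣ j → MvPolynomial.homogeneousComponent j p = 0)
    (m' : Ideal R') [hmax : m'.IsMaximal]
    (hm' : m' = Ideal.comap φ (RingHom.ker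
      (MvPolynomial.constantCoeff : MvPolynomial (Fin (r + 1)) k →+* k)))
    (n : ℕ) (hsn : r + 1 ≤ n) (hdn : d ∣ n) (hmin : ∀ n' : ℕ, r + 1 ≤ n' → d ∣ n' → n ≤ n') :
    GrLC.bassNum m' R' (r + 1) = (Nat.choose (n - 1) r : ℕ∞) := by
  classical
  have hrange' : ∀ p : MvPolynomial (Fin (r + 1)) k, p ∈ φ.range ↔ p ∈ Vadd (Hq d) (PA k r) :=
    fun p => by rw [hrange, mem_Vadd_PA_iff]
  obtain ⟨𝒜', inst, hdeg⟩ := exists_veronese_grading (PA k r) φ hφ d hd hrange'
  letI := inst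
  have hV : VerHyp (PA k r) 𝒜' φ d := ⟨hd, hφ, hdeg⟩
  -- the maximal ideal
  have hm'eq : m' = (irrH 𝒜').toIdeal := by
    ext x
    rw [hm', Ideal.mem_comap, RingHom.mem_ker]
    constructor
    · intro h
      apply mem_of_decompose_phi_zero (PA k r) 𝒜' hV (PA_pos k r) (irrH 𝒜') rfl
      rw [decompose_PA_zero, h, map_zero]
    · intro h
      have h1 := decompose_phi_zero_of_mem (PA k r) 𝒜' hV (PA_pos k r) (irrH 𝒜') rfl h
      rw [decompose_PA_zero] at h1
      exact C_injective _ _ (h1.trans (map_zero C).symm)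
  subst hm'eq
  haveI := Groth.Agent.Lib.T2H3.WPoly.gor k (r + 1)
  -- the a-invariant
  obtain ⟨I, -⟩ : ∃ I : StarInjRes (PA k r) (PA k r), True :=
    ⟨Groth.Agent.Lib.T2H3.MinRes.minRes (PA k r) (PA k r), trivial⟩
  have hsum : (Finset.univ : Finset (Fin (r + 1))).sum (fun _ => (1 : ℤ)) = (r : ℤ) + 1 := by
    simp
  have ha : endDeg (I.Hgr (Pm k r) (r + 1)) =
      (((-((r : ℤ) + 1) : ℤ) : WithTop ℤ) : WithBot (WithTop ℤ)) := by
    have h1 := Groth.Agent.Lib.T2H3.WPoly.endDeg_H_top k (r + 1)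
      (w := fun _ : Fin (r + 1) => (1 : ℤ)) (fun _ => one_pos) (m := Pm k r)
      (Pm_isStarLocal k r) (Pm_eq_irr k r) I
    rw [hsum] at h1
    exact h1
  -- the remainder
  have hρq : n - (r + 1) < d := by
    by_contra h
    push Not at h
    have h1 : r + 1 ≤ n - d := by omega
    have h2 : d ∣ n - d := Nat.dvd_sub hdn (dvd_refl d)
    have h3 := hmin (n - d) h1 h2
    omega
  have hρa : (d : ℤ) ∣ -((r : ℤ) + 1) - ((n - (r + 1) : ℕ) : ℤ) := by
    have e1 : -((r : ℤ) + 1) - ((n - (r + 1) : ℕ) : ℤ) = -(n : ℤ) := by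
      rw [Nat.cast_sub hsn]
      push_cast
      ring
    rw [e1]
    exact (dvd_neg).2 (Int.natCast_dvd_natCast.2 hdn)
  have key := Groth.Agent.S18655.result (MvPolynomial (Fin (r + 1)) k) (PA k r) (PA_pos k r)
    (isField_deg0 k r) (Pm k r) (Pm_isStarLocal k r) (Pm_eq_irr k r) (PA_std k r) (r + 1)
    (ringKrullDim_poly k r) I (-((r : ℤ) + 1)) ha d hd R' 𝒜' φ hφ hdeg (irrH 𝒜') rfl
    ((n - (r + 1) : ℕ) : ℤ) (Int.natCast_nonneg _) (by exact_mod_cast hρq) hρa
  rw [key, finrank_comp_PA]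
  have e2 : r + 1 + (n - (r + 1)) - 1 = n - 1 := by omega
  rw [e2]
  have e3 : n - 1 = (n - (r + 1)) + r := by omega
  rw [Nat.choose_symm_of_eq_add e3]

end Groth.Agent.Lib.T2H3.Ver
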