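import Groth.Agent.Lib.T2H3VerP
import Groth.Agent.Lib.LeadGDe

/-! Veronese subrings of Gorenstein graded rings (helper3), part Q: general lemmas on graded
modules and graded duals (decomposition of homogeneous maps, standard graded annihilation,
division in the graded dual by a regular sequence). -/

set_option autoImplicit false
set_option linter.unusedSectionVars false
set_option linter.style.haveILetI false
open DirectSum

noncomputable section

namespace Groth.Agent.Lib.T2H3.Ver

open GrLC Groth.Agent.Lib.T2H3.GDual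

universe u

section Dec

variable {A B : Type u} [AddCommGroup A] [AddCommGroup B] (𝓐 : ℤ → AddSubgroup A)
  (𝓑 : ℤ → AddSubgroup B) [DirectSum.Decomposition 𝓐] [DirectSum.Decomposition 𝓑]

theorem decompose_map_deg' (u : A →+ B) (d : ℤ) (hu : ∀ j, ∀ a ∈ 𝓐 j, u a ∈ 𝓑 (j + d)) (x : A)
    (i : ℤ) : ((decompose 𝓑 (u x)) (i + d) : B) = u ((decompose 𝓐 x) i) := by
  classical
  induction x using DirectSum.Decomposition.inductionOn 𝓐 with
  | zero => simp
  | homogeneous y =>
    rename_i j
    by_cases hij : j = i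
    · subst hij
      rw [DirectSum.decompose_of_mem_same 𝓑 (hu j y y.2), DirectSum.decompose_coe,
        DirectSum.of_eq_same]
    · have hne : j + d ≠ i + d := fun h => hij (add_right_cancel h)
      rw [DirectSum.decompose_of_mem_ne 𝓑 (hu j y y.2) hne, DirectSum.decompose_coe,
        DirectSum.of_eq_of_ne _ _ _ (Ne.symm hij)]
      simp
  | add a b ha hb =>
    rw [map_add, DirectSum.decompose_add, DirectSum.add_apply, AddSubgroup.coe_add, ha, hb,
      DirectSum.decompose_add, DirectSum.add_apply, AddSubgroup.coe_add, map_add]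

/-- A homogeneous additive map injective on homogeneous elements is injective. -/
theorem injective_of_homogeneous (u : A →+ B) (d : ℤ) (hu : ∀ j, ∀ a ∈ 𝓐 j, u a ∈ 𝓑 (j + d))
    (hinj : ∀ j, ∀ a ∈ 𝓐 j, u a = 0 → a = 0) : Function.Injective u := by
  classical
  rw [injective_iff_map_eq_zero]
  intro x hx
  rw [← DirectSum.sum_support_decompose 𝓐 x]
  refine Finset.sum_eq_zero fun i _ => ?_
  apply hinj i _ (SetLike.coe_mem _)
  rw [← decompose_map_deg' 𝓐 𝓑 u d hu x i, hx, DirectSum.decompose_zero, DirectSum.zero_apply,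
    ZeroMemClass.coe_zero]

/-- A homogeneous additive map surjective on homogeneous elements is surjective. -/
theorem surjective_of_homogeneous (u : A →+ B) (hsurj : ∀ j, ∀ b ∈ 𝓑 j, ∃ a, u a = b) :
    Function.Surjective u := by
  classical
  intro b
  rw [← DirectSum.sum_support_decompose 𝓑 b]
  choose! a ha using fun j => hsurj j ((decompose 𝓑 b) j) (SetLike.coe_mem _)
  refine ⟨∑ j ∈ (decompose 𝓑 b).support, a j, ?_⟩
  rw [map_sum]
  exact Finset.sum_congr rfl (fun j _ => ha j)

end Dec

section Std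

variable {K R : Type u} [Field K] [CommRing R] [Algebra K R] (𝒜 : ℤ → Submodule K R)
  [GradedAlgebra 𝒜]
  (hstd : Ideal.span (⋃ n ∈ Set.Ioi (0 : ℤ), (𝒜 n : Set R)) =
    Ideal.span ((𝒜 1 : Submodule K R) : Set R))
  {H : Type u} [AddCommGroup H] [Module R H]

include hstd in
theorem kill_piece_of_le_smul (e : ℤ) (he : 0 ≤ e) (h : H) (hz : ∀ y ∈ 𝒜 e, y • h = 0) :
    ∀ j, e ≤ j → ∀ y ∈ 𝒜 j, y • h = 0 := by
  intro j hj
  induction j, hj using Int.leInduction with
  | base => exact hz
  | succ j hj ih =>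
    intro y hy
    have h1 := Groth.Agent.Lib.Helper24Segre2.piece_le_mul 𝒜 hstd j (by omega) hy
    refine Submodule.mul_induction_on h1 ?_ ?_
    · intro a _ b hb
      rw [mul_smul, ih b hb, smul_zero]
    · intro a b ha hb
      rw [add_smul, ha, hb, add_zero]

end Std

section Div

variable {K R : Type u} [Field K] [CommRing R] [Algebra K R] (𝒜 : ℤ → Submodule K R)
  [GradedAlgebra 𝒜]

/-- Division by `y` inside the `x`-torsion of the graded dual, for `y` regular modulo `x`. -/
theorem exists_div (x y : R) {dx dy : ℤ} (hx : x ∈ 𝒜 dx) (hy : y ∈ 𝒜 dy)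
    (hreg : ∀ r : R, (∃ s, y * r = x * s) → ∃ s, r = x * s) (d : ℤ) (δ : GD 𝒜)
    (hδ : δ ∈ piece 𝒜 d) (hxδ : x • δ = 0) :
    ∃ δ' ∈ piece 𝒜 (d - dy), x • δ' = 0 ∧ y • δ' = δ := by
  classical
  -- the functional on `xR + yR`
  let T : (R × R) →ₗ[K] R :=
    (LinearMap.mulLeft K x).comp (LinearMap.fst K R R) +
      (LinearMap.mulLeft K y).comp (LinearMap.snd K R R)
  have hT : ∀ p : R × R, T p = x * p.1 + y * p.2 := fun p => rfl
  let g₀ : (R × R) →ₗ[K] K := (ev 𝒜 δ).comp (LinearMap.snd K R R)
  have hg₀ : ∀ p : R × R, g₀ p = ev 𝒜 δ p.2 := fun p => rfl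
  have hker : ∀ p : R × R, T p = 0 → g₀ p = 0 := by
    intro p hp
    rw [hT] at hp
    have h1 : y * p.2 = x * (-p.1) := by
      rw [mul_neg]
      exact eq_neg_of_add_eq_zero_right hp
    obtain ⟨s, hs⟩ := hreg p.2 ⟨-p.1, h1⟩
    rw [hg₀, hs, ← ev_smul, hxδ, map_zero, LinearMap.zero_apply]
  obtain ⟨σ, hσ⟩ := T.rangeRestrict.exists_rightInverse_of_surjective
    (LinearMap.range_rangeRestrict T)
  obtain ⟨g₁, hg₁⟩ := LinearMap.exists_extend (g₀.comp σ)
  have hg₁T : ∀ p : R × R, g₁ (T p) = g₀ p := by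
    intro p
    have h1 := LinearMap.congr_fun hg₁ (T.rangeRestrict p)
    rw [LinearMap.comp_apply, LinearMap.comp_apply] at h1
    have h2 : g₁ (T p) = g₀ (σ (T.rangeRestrict p)) := h1
    rw [h2]
    have h3 : T (σ (T.rangeRestrict p) - p) = 0 := by
      rw [map_sub]
      have h4 := LinearMap.congr_fun hσ (T.rangeRestrict p)
      rw [LinearMap.comp_apply, LinearMap.id_apply] at h4
      have h5 : T (σ (T.rangeRestrict p)) = T p := congrArg Subtype.val h4
      rw [h5, sub_self]
    have h6 := hker _ h3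
    rw [map_sub, sub_eq_zero] at h6
    exact h6
  obtain ⟨δ', hδ', hδ'g⟩ := (isGDual 𝒜).exists_eq (d - dy) g₁
  refine ⟨δ', hδ', ?_, ?_⟩
  · apply GD.ext
    intro r
    rw [map_zero, LinearMap.zero_apply, ev_smul]
    induction r using DirectSum.Decomposition.inductionOn 𝒜 with
    | zero => rw [mul_zero, map_zero]
    | homogeneous r =>
      rename_i j
      by_cases hj : dx + j = -(d - dy)
      · have hmem : x * (r : R) ∈ 𝒜 (-(d - dy)) := by
          rw [← hj]
          exact SetLike.GradedMul.mul_mem hx r.2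
        rw [hδ'g _ hmem]
        have h1 := hg₁T ((r : R), 0)
        rw [hT, hg₀, mul_zero, add_zero, map_zero] at h1
        exact h1
      · exact (mem_piece 𝒜).1 hδ' (dx + j) hj _ (SetLike.GradedMul.mul_mem hx r.2)
    | add a b ha hb => rw [mul_add, map_add, ha, hb, add_zero]
  · apply GD.ext
    intro r
    rw [ev_smul]
    induction r using DirectSum.Decomposition.inductionOn 𝒜 with
    | zero => rw [mul_zero, map_zero, map_zero]
    | homogeneous r =>
      rename_i j
      by_cases hj : dy + j = -(d - dy)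
      · have hmem : y * (r : R) ∈ 𝒜 (-(d - dy)) := by
          rw [← hj]
          exact SetLike.GradedMul.mul_mem hy r.2
        rw [hδ'g _ hmem]
        have h1 := hg₁T (0, (r : R))
        rw [hT, hg₀, mul_zero, zero_add] at h1
        exact h1
      · rw [(mem_piece 𝒜).1 hδ' (dy + j) hj _ (SetLike.GradedMul.mul_mem hy r.2)]
        have hj' : j ≠ -d := fun h => hj (by rw [h]; ring)
        exact ((mem_piece 𝒜).1 hδ j hj' _ r.2).symm
    | add a b ha hb => rw [mul_add, map_add, map_add, ha, hb]

end Div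

end Groth.Agent.Lib.T2H3.Ver
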