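import Groth.Agent.Lib.T2H3VerQ

/-! Veronese subrings of Gorenstein graded rings (helper3), part R: the core algebraic statement
for the converse. A graded `R`-module `H` whose Veronese submodule is the graded dual of `R^(q)`
is the graded dual of `R` (shifted), for `R` standard graded of depth at least two. -/

set_option autoImplicit false
set_option linter.unusedSectionVars false
set_option linter.style.haveILetI false
set_option maxHeartbeats 1000000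
open DirectSum

noncomputable section

namespace Groth.Agent.Lib.T2H3.Ver

open GrLC Groth.Agent.Lib.T2H3.GDual

universe u

theorem exists_equiv_gdual_core {K : Type u} [Field K] {R R' : Type u} [CommRing R] [CommRing R']
    [Algebra K R] [Algebra K R']
    (𝒜 : ℤ → Submodule K R) [GradedAlgebra 𝒜] (𝒜' : ℤ → Submodule K R') [GradedAlgebra 𝒜']
    [IsNoetherianRing R] [Nontrivial R']
    (φ : R' →ₐ[K] R) (q : ℕ) (hq : 0 < q)
    (hdeg : ∀ j : ℤ, (𝒜' j).map φ.toLinearMap = 𝒜 (j * q))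
    (hpos : ∀ n : ℤ, n < 0 → 𝒜 n = ⊥) (h0 : 𝒜 0 = Submodule.span K {(1 : R)})
    (h0' : 𝒜' 0 = Submodule.span K {(1 : R')})
    (hstd : Ideal.span (⋃ n ∈ Set.Ioi (0 : ℤ), (𝒜 n : Set R)) =
      Ideal.span ((𝒜 1 : Submodule K R) : Set R))
    {H : Type u} [AddCommGroup H] [Module R H] [Module K H] [IsScalarTower K R H]
    (𝓗 : ℤ → AddSubgroup H) [DirectSum.Decomposition 𝓗] [SetLike.GradedSMul 𝒜 𝓗]
    (Ξ : GD 𝒜' →+ H) (s : ℤ)
    (hΞ1 : ∀ (r' : R') (δ : GD 𝒜'), Ξ (r' • δ) = φ r' • Ξ δ)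
    (hΞ2 : ∀ (j : ℤ) (δ : GD 𝒜'), δ ∈ piece 𝒜' j → Ξ δ ∈ 𝓗 ((j + s) * q))
    (hΞ3 : Function.Injective Ξ)
    (hΞ4 : ∀ (j : ℤ) (h : H), h ∈ 𝓗 (j * q) → ∃ δ ∈ piece 𝒜' (j - s), Ξ δ = h)
    (htors : ∀ (z : R) (e : ℤ), 0 ≤ e → (∀ j, e ≤ j → ∀ y ∈ 𝒜 j, z * y = 0) → z = 0)
    (x y : R) (dx dy : ℤ) (hx : x ∈ 𝒜 dx) (hy : y ∈ 𝒜 dy) (hdx : (q : ℤ) ≤ dx)
    (hdy : (q : ℤ) ≤ dy)
    (hxH : ∀ (i : ℤ) (h : H), h ∈ 𝓗 i → ∃ h₁ ∈ 𝓗 (i - dx), x • h₁ = h)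
    (hreg : ∀ r : R, (∃ s, y * r = x * s) → ∃ s, r = x * s) :
    ∃ f : H ≃ₗ[R] GD 𝒜, IsGrHomDeg 𝓗 (piece 𝒜) f.toLinearMap (-(s * q)) := by
  classical
  have hq0 : (q : ℤ) ≠ 0 := by exact_mod_cast hq.ne'
  have hqpos : (0 : ℤ) < q := by exact_mod_cast hq
  have hD := isGDual 𝒜
  have hD' := isGDual 𝒜'
  -- `K`-linearity of `Ξ`
  have hΞK : ∀ (c : K) (δ : GD 𝒜'), Ξ (c • δ) = c • Ξ δ := by
    intro c δ
    rw [← algebraMap_smul R' c δ, hΞ1, AlgHom.commutes, algebraMap_smul]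
  -- the counit
  obtain ⟨ε₀, hε0, hε1⟩ := exists_counit 𝒜'
  have hε0ne : ε₀ ≠ 0 := by
    intro h
    rw [h, map_zero, LinearMap.zero_apply] at hε1
    exact zero_ne_one hε1
  have hu₀ : Ξ ε₀ ∈ 𝓗 (s * q) := by
    have h1 := hΞ2 0 ε₀ hε0
    rwa [zero_add] at h1
  have hu₀ne : Ξ ε₀ ≠ 0 := fun h => hε0ne (hΞ3 (h.trans (map_zero Ξ).symm))
  -- the functional
  obtain ⟨lam₀, hlam₀⟩ := exists_functional_eq_one (K := K) (Ξ ε₀) hu₀ne
  obtain ⟨lam, hlamdef⟩ : ∃ lam : H →ₗ[K] K,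
      lam = lam₀.comp (Groth.Agent.Lib.LeadGD.compL 𝒜 𝓗 (s * q)) := ⟨_, rfl⟩
  have hlam : Groth.Agent.Lib.LeadGD.IsHomFun 𝓗 lam (s * q) := by
    intro m hm x hx
    rw [hlamdef, LinearMap.comp_apply, Groth.Agent.Lib.LeadGD.compL_of_mem_ne 𝒜 𝓗 hx hm, map_zero]
  have hlamu : lam (Ξ ε₀) = 1 := by
    rw [hlamdef, LinearMap.comp_apply, Groth.Agent.Lib.LeadGD.compL_of_mem 𝒜 𝓗 hu₀, hlam₀]
  -- the map
  obtain ⟨f, hfdef⟩ : ∃ f : H →ₗ[R] GD 𝒜,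
      f = Groth.Agent.Lib.LeadGD.homMap 𝒜 𝓗 (piece 𝒜) hD hlam := ⟨_, rfl⟩
  have hfev : ∀ (h : H) (r : R), ev 𝒜 (f h) r = lam (r • h) := by
    intro h r
    rw [hfdef]
    exact Groth.Agent.Lib.LeadGD.pair_homMap 𝒜 𝓗 (piece 𝒜) hD hlam h r
  have hfgr : ∀ (a : ℤ) (h : H), h ∈ 𝓗 a → f h ∈ piece 𝒜 (a - s * q) := by
    intro a h hh
    rw [hfdef]
    exact Groth.Agent.Lib.LeadGD.homMap_mem 𝒜 𝓗 (piece 𝒜) hD hlam hh
  -- the key identity
  have hlamΞ : ∀ δ : GD 𝒜', lam (Ξ δ) = ev 𝒜' δ 1 := by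
    intro δ
    induction δ using DirectSum.Decomposition.inductionOn (piece 𝒜') with
    | zero => rw [map_zero, map_zero, map_zero, LinearMap.zero_apply]
    | homogeneous δ =>
      rename_i j
      by_cases hj : j = 0
      · subst hj
        have h2 := Groth.Agent.Lib.Helper24GrDual2.D0_eq_smul 𝒜' (piece 𝒜') (ev 𝒜') h0' hD' δ.2 hε0
          (by rw [hε1]; exact one_ne_zero)
        rw [hε1, div_one] at h2
        conv_lhs => rw [h2]
        rw [hΞK, map_smul, hlamu, smul_eq_mul, mul_one]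
      · have h1 := hΞ2 j δ δ.2
        have hne : (j + s) * (q : ℤ) ≠ s * q := by
          intro h
          apply hj
          have h3 : j * (q : ℤ) = 0 := by linarith
          rcases mul_eq_zero.1 h3 with h4 | h4
          · exact h4
          · exact absurd h4 hq0
        rw [hlam _ hne _ h1]
        have hj' : (0 : ℤ) ≠ -j := fun h => hj (by omega)
        exact ((mem_piece 𝒜').1 δ.2 0 hj' 1 (SetLike.one_mem_graded 𝒜')).symm
    | add a b ha hb => rw [map_add, map_add, ha, hb, map_add, LinearMap.add_apply]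
  have hkey : ∀ (δ : GD 𝒜') (r' : R'), ev 𝒜 (f (Ξ δ)) (φ r') = ev 𝒜' δ r' := by
    intro δ r'
    rw [hfev, ← hΞ1, hlamΞ, ev_smul, mul_one]
  -- injectivity in degrees divisible by `q`
  have hinjq : ∀ (j : ℤ) (h : H), h ∈ 𝓗 (j * q) → f h = 0 → h = 0 := by
    intro j h hh hfh
    obtain ⟨δ, -, rfl⟩ := hΞ4 j h hh
    have hδ0 : δ = 0 := by
      apply GD.ext
      intro r'
      rw [← hkey, hfh, map_zero, LinearMap.zero_apply, map_zero, LinearMap.zero_apply]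
    rw [hδ0, map_zero]
  -- surjectivity in degrees divisible by `q`
  have hsurjq : ∀ (j : ℤ) (η : GD 𝒜), η ∈ piece 𝒜 (j * q) →
      ∃ h ∈ 𝓗 ((j + s) * q), f h = η := by
    intro j η hη
    obtain ⟨δ, hδ, hδg⟩ := hD'.exists_eq j ((ev 𝒜 η).comp φ.toLinearMap)
    refine ⟨Ξ δ, hΞ2 j δ hδ, ?_⟩
    have hmem : f (Ξ δ) ∈ piece 𝒜 (j * q) := by
      have h1 := hfgr _ _ (hΞ2 j δ hδ)
      have e1 : (j + s) * (q : ℤ) - s * q = j * q := by ring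
      rwa [e1] at h1
    have h2 : f (Ξ δ) - η = 0 := by
      refine hD.eq_zero (j * q) _ (sub_mem hmem hη) ?_
      intro r hr
      have hr' : r ∈ (𝒜' (-j)).map φ.toLinearMap := by
        rw [hdeg (-j), neg_mul]
        exact hr
      obtain ⟨r', hr'mem, rfl⟩ := hr'
      rw [map_sub, LinearMap.sub_apply]
      change ev 𝒜 (f (Ξ δ)) (φ r') - ev 𝒜 η (φ r') = 0
      rw [hkey, hδg r' hr'mem]
      exact sub_self _
    exact sub_eq_zero.1 h2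
  -- the kernel is killed by high degrees
  have hkill : ∀ (i : ℤ) (h : H), h ∈ 𝓗 i → f h = 0 →
      ∀ k, (q : ℤ) ≤ k → ∀ r ∈ 𝒜 k, r • h = 0 := by
    intro i h hh hfh k hk r hr
    have hk₀0 : 0 ≤ (-i) % (q : ℤ) := Int.emod_nonneg _ hq0
    have hk₀q : (-i) % (q : ℤ) < q := Int.emod_lt_of_pos _ hqpos
    obtain ⟨j, hj⟩ : ∃ j : ℤ, (-i) % (q : ℤ) + i = j * q := by
      refine ⟨-((-i) / (q : ℤ)), ?_⟩
      have h1 := Int.emod_add_mul_ediv (-i) (q : ℤ)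
      linarith
    have h1 : ∀ r₀ ∈ 𝒜 ((-i) % (q : ℤ)), r₀ • h = 0 := by
      intro r₀ hr₀
      have hmem : r₀ • h ∈ 𝓗 (j * q) := by
        rw [← hj]
        exact SetLike.GradedSMul.smul_mem hr₀ hh
      exact hinjq j _ hmem (by rw [map_smul, hfh, smul_zero])
    exact kill_piece_of_le_smul 𝒜 hstd _ hk₀0 h h1 k (by omega) r hr
  -- surjectivity on homogeneous elements
  have hfin : ∀ n : ℤ, FiniteDimensional K (Groth.Agent.Lib.LeadGD.pc 𝒜 𝒜 n) := fun n =>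
    Groth.Agent.Lib.LeadGD.finiteDimensional_pc_of_finite 𝒜 𝒜 hpos h0 n
  have hsurj : ∀ (d : ℤ) (η : GD 𝒜), η ∈ piece 𝒜 d → ∃ h ∈ 𝓗 (d + s * q), f h = η := by
    intro d η hη
    obtain ⟨W, hWdef⟩ : ∃ W : Submodule K (GD 𝒜),
        W = (Groth.Agent.Lib.LeadGD.pc 𝒜 𝓗 (d + s * q)).map (f.restrictScalars K) := ⟨_, rfl⟩
    by_cases hηW : η ∈ W
    · rw [hWdef] at hηW
      obtain ⟨h, hh, hfh⟩ := hηW
      exact ⟨h, hh, hfh⟩
    exfalso
    have hWpiece : ∀ w ∈ W, w ∈ piece 𝒜 d := by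
      intro w hw
      rw [hWdef] at hw
      obtain ⟨h, hh, rfl⟩ := hw
      have h1 := hfgr _ h hh
      rwa [add_sub_cancel_right] at h1
    obtain ⟨r₀, hr₀, hr₀W, hr₀η⟩ := Groth.Agent.Lib.LeadGD.exists_sep 𝒜 𝒜 (piece 𝒜) hD (e := d)
      (hfin (-d)) W hη hWpiece hηW
    have hr₀ne : r₀ ≠ 0 := fun h => hr₀η (by rw [h, map_zero])
    apply hr₀ne
    have hk₀0 : 0 ≤ d % (q : ℤ) := Int.emod_nonneg _ hq0
    obtain ⟨j, hj⟩ : ∃ j : ℤ, d - d % (q : ℤ) = j * q := by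
      refine ⟨d / (q : ℤ), ?_⟩
      have h1 := Int.emod_add_mul_ediv d (q : ℤ)
      linarith
    apply htors r₀ (d % (q : ℤ)) hk₀0
    apply kill_piece_of_le 𝒜 hstd _ hk₀0 r₀
    intro y hy
    by_contra hne
    have hzmem : r₀ * y ∈ 𝒜 (-(j * q)) := by
      have h1 := SetLike.GradedMul.mul_mem (A := 𝒜) hr₀ hy
      have e1 : -(j * (q : ℤ)) = -d + d % (q : ℤ) := by rw [← hj]; ring
      rw [e1]
      exact h1
    obtain ⟨g, hg⟩ := exists_functional_eq_one (K := K) _ hne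
    obtain ⟨η', hη', hη'g⟩ := hD.exists_eq (j * q) g
    have h1 : ev 𝒜 η' (r₀ * y) = 1 := by rw [hη'g _ hzmem, hg]
    obtain ⟨h', hh', hfh'⟩ := hsurjq j η' hη'
    have h2 : y • η' ∈ W := by
      rw [hWdef]
      refine ⟨y • h', ?_, ?_⟩
      · have h3 := SetLike.GradedSMul.smul_mem (A := 𝒜) (B := 𝓗) hy hh'
        rw [vadd_eq_add] at h3
        have e1 : d % (q : ℤ) + (j + s) * q = d + s * q := by rw [add_mul, ← hj]; ring
        rw [e1] at h3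
        exact h3
      · change f (y • h') = y • η'
        rw [map_smul, hfh']
    have h3 := hr₀W _ h2
    rw [ev_smul, mul_comm] at h3
    rw [h3] at h1
    exact zero_ne_one h1
  -- injectivity on homogeneous elements
  have hinj : ∀ (i : ℤ) (n₀ : H), n₀ ∈ 𝓗 i → f n₀ = 0 → n₀ = 0 := by
    intro i n₀ hn₀ hfn₀
    obtain ⟨h₁, hh₁, hxh₁⟩ := hxH i n₀ hn₀
    have he₁ : f h₁ ∈ piece 𝒜 (i - dx - s * q) := hfgr _ h₁ hh₁
    have hxe₁ : x • f h₁ = 0 := by rw [← map_smul, hxh₁, hfn₀]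
    obtain ⟨e₂, he₂, hxe₂, hye₂⟩ := exists_div 𝒜 x y hx hy hreg _ (f h₁) he₁ hxe₁
    obtain ⟨h₂, hh₂, hfh₂⟩ := hsurj _ e₂ he₂
    have hyh₂ : y • h₂ ∈ 𝓗 (i - dx) := by
      have h3 := SetLike.GradedSMul.smul_mem (A := 𝒜) (B := 𝓗) hy hh₂
      rw [vadd_eq_add] at h3
      have e1 : dy + (i - dx - s * q - dy + s * q) = i - dx := by ring
      rwa [e1] at h3
    have hz : h₁ - y • h₂ ∈ 𝓗 (i - dx) := sub_mem hh₁ hyh₂
    have hfz : f (h₁ - y • h₂) = 0 := by rw [map_sub, map_smul, hfh₂, hye₂, sub_self]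
    have h3 : x • (h₁ - y • h₂) = 0 := hkill _ _ hz hfz dx hdx x hx
    have hxh₂ : x • h₂ ∈ 𝓗 (dx + (i - dx - s * q - dy + s * q)) := by
      have h5 := SetLike.GradedSMul.smul_mem (A := 𝒜) (B := 𝓗) hx hh₂
      rwa [vadd_eq_add] at h5
    have hfxh₂ : f (x • h₂) = 0 := by rw [map_smul, hfh₂, hxe₂]
    have h4 : y • (x • h₂) = 0 := hkill _ _ hxh₂ hfxh₂ dy hdy y hy
    rw [smul_sub, sub_eq_zero, hxh₁] at h3
    rw [h3, smul_comm, h4]
  have hgrdeg : ∀ j, ∀ a ∈ 𝓗 j, f a ∈ piece 𝒜 (j + -(s * q)) := by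
    intro j a ha
    have h1 := hfgr j a ha
    rwa [sub_eq_add_neg] at h1
  have hfinj : Function.Injective f :=
    injective_of_homogeneous 𝓗 (piece 𝒜) f.toAddMonoidHom (-(s * q)) hgrdeg hinj
  have hfsurj : Function.Surjective f :=
    surjective_of_homogeneous (piece 𝒜) f.toAddMonoidHom (fun j b hb => by
      obtain ⟨h, -, hh⟩ := hsurj j b hb
      exact ⟨h, hh⟩)
  exact ⟨LinearEquiv.ofBijective f ⟨hfinj, hfsurj⟩, hgrdeg⟩

end Groth.Agent.Lib.T2H3.Ver
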