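import Groth.Agent.Lib.T2H3VerU

/-! Veronese subrings of Gorenstein graded rings (helper3), part V: algebra for the type of a
Veronese subring. Standard graded algebras: `R_{a+b} = R_a R_b`; shifted gradings and the Veronese
projection; restriction of functionals from `R` to `R'`. -/

set_option autoImplicit false
set_option linter.unusedSectionVars false
set_option linter.style.haveILetI false
set_option maxHeartbeats 1000000
open DirectSum

noncomputable section

namespace Groth.Agent.Lib.T2H3.Ver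

open GrLC Groth.Agent.Lib.T2H3.GrLes Groth.Agent.Lib.T2H3.GDual
  Groth.Agent.Lib.Helper29GrShift

universe u

section Std

variable {K R : Type u} [Field K] [CommRing R] [Algebra K R] (𝒜 : ℤ → Submodule K R)
  [GradedAlgebra 𝒜]
  (hstd : Ideal.span (⋃ n ∈ Set.Ioi (0 : ℤ), (𝒜 n : Set R)) =
    Ideal.span ((𝒜 1 : Submodule K R) : Set R))

include hstd in
/-- In a standard graded algebra `R_{a+b} = R_a R_b` for `a, b ≥ 0`. -/
theorem piece_add_le_mul (a b : ℤ) (ha : 0 ≤ a) (hb : 0 ≤ b) : 𝒜 (a + b) ≤ 𝒜 a * 𝒜 b := by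
  induction a, ha using Int.leInduction with
  | base =>
    intro x hx
    rw [zero_add] at hx
    have h1 := Submodule.mul_mem_mul (SetLike.one_mem_graded 𝒜) hx
    rwa [one_mul] at h1
  | succ a ha ih =>
    intro x hx
    have e1 : a + 1 + b = (a + b) + 1 := by ring
    rw [e1] at hx
    have h1 := Groth.Agent.Lib.Helper24Segre2.piece_le_mul 𝒜 hstd (a + b) (by omega) hx
    refine Submodule.mul_induction_on h1 ?_ ?_
    · intro y hy z hz
      refine Submodule.mul_induction_on (ih hz) ?_ ?_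
      · intro v hv w hw
        rw [← mul_assoc]
        refine Submodule.mul_mem_mul ?_ hw
        have h2 := SetLike.GradedMul.mul_mem (A := 𝒜) hy hv
        rwa [add_comm] at h2
      · intro v w hv hw
        rw [mul_add]
        exact add_mem hv hw
    · intro y z hy hz
      exact add_mem hy hz

end Std

section Shift

variable {N : Type u} [AddCommGroup N] (𝒩 : ℤ → AddSubgroup N) [DirectSum.Decomposition 𝒩]

theorem decompose_shiftGr (d : ℤ) (x : N) (i : ℤ) :
    ((decompose (shiftGr 𝒩 d) x) i : N) = ((decompose 𝒩 x) (i + d) : N) := by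
  classical
  induction x using DirectSum.Decomposition.inductionOn 𝒩 with
  | zero => rw [DirectSum.decompose_zero, DirectSum.decompose_zero]; rfl
  | homogeneous x =>
    rename_i k
    have hx : (x : N) ∈ shiftGr 𝒩 d (k - d) := by
      change (x : N) ∈ 𝒩 (k - d + d)
      rw [sub_add_cancel]
      exact x.2
    by_cases hik : i = k - d
    · subst hik
      rw [DirectSum.decompose_of_mem_same (shiftGr 𝒩 d) hx]
      have e1 : k - d + d = k := by ring
      rw [e1, DirectSum.decompose_of_mem_same 𝒩 x.2]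
    · rw [DirectSum.decompose_of_mem_ne (shiftGr 𝒩 d) hx (fun h => hik h.symm),
        DirectSum.decompose_of_mem_ne 𝒩 x.2 (fun h => hik (by omega))]
  | add x y hx hy =>
    rw [DirectSum.decompose_add, DirectSum.decompose_add, DirectSum.add_apply,
      DirectSum.add_apply, AddSubgroup.coe_add, AddSubgroup.coe_add, hx, hy]

variable (H : AddSubgroup ℤ) [DecidablePred (· ∈ H)]

theorem vproj_eq_zero_of_mem {i : ℤ} (hi : i ∉ H) {x : N} (hx : x ∈ 𝒩 i) :
    vproj H 𝒩 x = 0 := by
  apply ext_decompose 𝒩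
  intro k
  rw [decompose_vproj, DirectSum.decompose_zero]
  split_ifs with hk
  · have hne : i ≠ k := fun h => hi (h ▸ hk)
    rw [DirectSum.decompose_of_mem_ne 𝒩 hx hne]
    rfl
  · rfl

end Shift

section Res

variable (K : Type u) [Field K] {R R' : Type u} [CommRing R] [CommRing R'] [Algebra K R]
  [Algebra K R']
  (𝒜 : ℤ → AddSubgroup R) [GradedRing 𝒜] [KGraded K 𝒜]
  (𝒜' : ℤ → AddSubgroup R') [GradedRing 𝒜'] [KGraded K 𝒜']
  {φ : R' →+* R} {q : ℕ} (hV : VerHyp 𝒜 𝒜' φ q)
  (hφK : ∀ c : K, φ (algebraMap K R' c) = algebraMap K R c)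

/-- Restriction of functionals along `φ`. -/
def resGD : GDK K 𝒜 →+ GDK K 𝒜' where
  toFun δ := ⟨(ev (subK K 𝒜) δ) ∘ₗ phiK K hφK, by
    classical
    have hq0 : (q : ℤ) ≠ 0 := by exact_mod_cast hV.hq.ne'
    obtain ⟨s, hs⟩ := δ.2
    refine ⟨s.image (fun n => n / (q : ℤ)), fun j hj x hx => ?_⟩
    rw [LinearMap.comp_apply, phiK_apply]
    refine hs (j * q) ?_ (φ x) (phi_mem hV ((mem_subK K 𝒜').1 hx))
    intro hmem
    apply hj
    rw [Finset.mem_image]
    exact ⟨j * q, hmem, Int.mul_ediv_cancel j hq0⟩⟩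
  map_zero' := GD.ext fun x => by
    change ev (subK K 𝒜) 0 (φ x) = ev (subK K 𝒜') 0 x
    rw [map_zero, map_zero, LinearMap.zero_apply, LinearMap.zero_apply]
  map_add' δ δ' := GD.ext fun x => by
    change ev (subK K 𝒜) (δ + δ') (φ x) =
      ev (subK K 𝒜') (⟨(ev (subK K 𝒜) δ) ∘ₗ phiK K hφK, _⟩ +
        ⟨(ev (subK K 𝒜) δ') ∘ₗ phiK K hφK, _⟩) x
    rw [map_add, map_add, LinearMap.add_apply, LinearMap.add_apply]
    rfl

theorem ev_resGD (δ : GDK K 𝒜) (x : R') :
    ev (subK K 𝒜') (resGD K 𝒜 𝒜' hV hφK δ) x = ev (subK K 𝒜) δ (φ x) := rfl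

theorem resGD_smul (r' : R') (δ : GDK K 𝒜) :
    resGD K 𝒜 𝒜' hV hφK (φ r' • δ) = r' • resGD K 𝒜 𝒜' hV hφK δ := by
  apply GD.ext
  intro x
  rw [ev_resGD, ev_smul, ev_smul, ev_resGD, map_mul φ]

end Res

end Groth.Agent.Lib.T2H3.Ver
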