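import Groth.Agent.Lib.T2H3VerV

/-! Veronese subrings of Gorenstein graded rings (helper3), part W: for a standard graded
`K`-algebra `R` and its Veronese subring `R'`, the `R'`-module `C' = V(R(a))` is finitely generated
and `Hom_{R'}(C', R'^*) ≅ V(R^*(-a))`. -/

set_option autoImplicit false
set_option linter.unusedSectionVars false
set_option linter.style.haveILetI false
set_option maxHeartbeats 1000000
open DirectSum

noncomputable section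

namespace Groth.Agent.Lib.T2H3.Ver

open GrLC Groth.Agent.Lib.T2H3.GrLes Groth.Agent.Lib.T2H3.GDual
  Groth.Agent.Lib.Helper29GrShift

universe u

section Main

variable (K : Type u) [Field K] {R R' : Type u} [CommRing R] [CommRing R'] [Algebra K R]
  [Algebra K R']
  (𝒜 : ℤ → AddSubgroup R) [GradedRing 𝒜] [KGraded K 𝒜]
  (𝒜' : ℤ → AddSubgroup R') [GradedRing 𝒜'] [KGraded K 𝒜']
  {φ : R' →+* R} {q : ℕ} (hV : VerHyp 𝒜 𝒜' φ q)
  (hφK : ∀ c : K, φ (algebraMap K R' c) = algebraMap K R c)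
  (a : ℤ)

/-- The grading of `R(a)`. -/
abbrev CGr : ℤ → AddSubgroup R := shiftGr 𝒜 a

/-- The grading of `R^*(-a)`. -/
abbrev YGr : ℤ → AddSubgroup (GDK K 𝒜) := shiftGr (pieceA K 𝒜) (-a)

theorem mem_Vadd_CGr {n : ℤ} (hn : n - a ∈ Hq q) {x : R} (hx : x ∈ 𝒜 n) :
    x ∈ Vadd (Hq q) (CGr 𝒜 a) :=
  mem_Vadd_of_mem (Hq q) (CGr 𝒜 a) hn
    (show x ∈ 𝒜 (n - a + a) by rw [sub_add_cancel]; exact hx)

theorem vproj_CGr_eq_zero {n : ℤ} (hn : n - a ∉ Hq q) {x : R} (hx : x ∈ 𝒜 n) :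
    vproj (Hq q) (CGr 𝒜 a) x = 0 :=
  vproj_eq_zero_of_mem (CGr 𝒜 a) (Hq q) hn
    (show x ∈ 𝒜 (n - a + a) by rw [sub_add_cancel]; exact hx)

/-- The Veronese projection `R → V(R(a))`. -/
def VprojC : R →+ ↥(Vsub (CGr 𝒜 a) hV) where
  toFun x := Vmk (CGr 𝒜 a) hV (vproj (Hq q) (CGr 𝒜 a) x) (vproj_mem (Hq q) (CGr 𝒜 a) x)
  map_zero' := Subtype.ext (map_zero (vproj (Hq q) (CGr 𝒜 a)))
  map_add' x y := Subtype.ext (map_add (vproj (Hq q) (CGr 𝒜 a)) x y)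

theorem Vval_VprojC (x : R) :
    Vval (CGr 𝒜 a) hV (VprojC 𝒜 𝒜' hV a x) = vproj (Hq q) (CGr 𝒜 a) x := rfl

theorem VprojC_mul (r' : R') (x : R) :
    VprojC 𝒜 𝒜' hV a (φ r' * x) = r' • VprojC 𝒜 𝒜' hV a x :=
  Subtype.ext (vproj_smul (Hq q) 𝒜 (CGr 𝒜 a) (phi_mem_Vadd hV r') x)

theorem VprojC_Vval (c : ↥(Vsub (CGr 𝒜 a) hV)) :
    VprojC 𝒜 𝒜' hV a (Vval (CGr 𝒜 a) hV c) = c :=
  Subtype.ext (vproj_eq_self (Hq q) (CGr 𝒜 a) (Vval_mem (CGr 𝒜 a) hV c))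

include hφK in
theorem VprojC_ksmul (k : K) (x : R) :
    VprojC 𝒜 𝒜' hV a (k • x) = algebraMap K R' k • VprojC 𝒜 𝒜' hV a x := by
  rw [Algebra.smul_def, ← hφK, VprojC_mul]

theorem VprojC_eq_zero {n : ℤ} (hn : n - a ∉ Hq q) {x : R} (hx : x ∈ 𝒜 n) :
    VprojC 𝒜 𝒜' hV a x = 0 :=
  Subtype.ext (vproj_CGr_eq_zero 𝒜 a hn hx)

include K hV in
/-- Case analysis on a homogeneous element of a standard graded algebra, relative to the residue
class of `a` modulo `q`. -/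
theorem piece_cases (hpos : ∀ n : ℤ, n < 0 → 𝒜 n = ⊥)
    (hstd : Ideal.span (⋃ n ∈ Set.Ioi (0 : ℤ), (𝒜 n : Set R)) =
      Ideal.span ((𝒜 1 : AddSubgroup R) : Set R))
    (ρ : ℤ) (hρ0 : 0 ≤ ρ) (hρq : ρ < q) (hρa : (q : ℤ) ∣ a - ρ)
    (P : R → Prop) (h0 : P 0) (hadd : ∀ x y, P x → P y → P (x + y)) (n : ℤ) (x : R)
    (hx : x ∈ 𝒜 n) (hnot : n - a ∉ Hq q → P x)
    (hmul : ∀ l : ℤ, 0 ≤ l → n = l * q + ρ → ∀ r' ∈ 𝒜' l, ∀ b ∈ 𝒜 ρ, P (φ r' * b)) : P x := by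
  by_cases hn : n - a ∈ Hq q
  · obtain ⟨l, hl⟩ : ∃ l : ℤ, n = l * q + ρ := by
      obtain ⟨c, hc⟩ := Int.mem_zmultiples_iff.mp hn
      obtain ⟨d, hd⟩ := hρa
      exact ⟨c + d, by linarith⟩
    by_cases hl0 : 0 ≤ l
    · have h1 : x ∈ subK K 𝒜 (l * q + ρ) := by rw [← hl]; exact hx
      have hlq : (0 : ℤ) ≤ l * q := mul_nonneg hl0 (Int.natCast_nonneg q)
      have h2 := piece_add_le_mul (subK K 𝒜) hstd (l * q) ρ hlq hρ0 h1
      refine Submodule.mul_induction_on h2 ?_ (fun x y hx hy => hadd x y hx hy)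
      intro y hy b hb
      have hy' : y ∈ (𝒜' l).map (φ : R' →+ R) := by rw [hV.hdeg l]; exact hy
      obtain ⟨r', hr', rfl⟩ := hy'
      exact hmul l hl0 hl r' hr' b hb
    · have hq1 : (1 : ℤ) ≤ q := by exact_mod_cast hV.hq
      have hneg : n < 0 := by nlinarith
      rw [hpos n hneg, AddSubgroup.mem_bot] at hx
      rw [hx]
      exact h0
  · exact hnot hn

/-- The `R'`-linear map `C' → R'^*` attached to a functional on `R`. -/
def pairHom (δ : GDK K 𝒜) : ↥(Vsub (CGr 𝒜 a) hV) →ₗ[R'] GDK K 𝒜' where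
  toFun c := resGD K 𝒜 𝒜' hV hφK (Vval (CGr 𝒜 a) hV c • δ)
  map_add' c c' := by rw [map_add, add_smul, map_add]
  map_smul' r' c := by rw [Vval_smul, smul_eq_mul, mul_smul, resGD_smul, RingHom.id_apply]

theorem ev_pairHom (δ : GDK K 𝒜) (c : ↥(Vsub (CGr 𝒜 a) hV)) (x : R') :
    ev (subK K 𝒜') (pairHom K 𝒜 𝒜' hV hφK a δ c) x =
      ev (subK K 𝒜) δ (Vval (CGr 𝒜 a) hV c * φ x) := rfl

/-- The comparison map `V(R^*(-a)) → Hom_{R'}(C', R'^*)`. -/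
def Theta : ↥(Vsub (YGr K 𝒜 a) hV) →ₗ[R'] (↥(Vsub (CGr 𝒜 a) hV) →ₗ[R'] GDK K 𝒜') where
  toFun δ := pairHom K 𝒜 𝒜' hV hφK a (Vval (YGr K 𝒜 a) hV δ)
  map_add' δ δ' := LinearMap.ext fun c => GD.ext fun x => by
    change ev (subK K 𝒜) (Vval (YGr K 𝒜 a) hV δ + Vval (YGr K 𝒜 a) hV δ')
        (Vval (CGr 𝒜 a) hV c * φ x) =
      ev (subK K 𝒜) (Vval (YGr K 𝒜 a) hV δ) (Vval (CGr 𝒜 a) hV c * φ x) +
        ev (subK K 𝒜) (Vval (YGr K 𝒜 a) hV δ') (Vval (CGr 𝒜 a) hV c * φ x)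
    rw [map_add, LinearMap.add_apply]
  map_smul' r' δ := LinearMap.ext fun c => GD.ext fun x => by
    rw [RingHom.id_apply, LinearMap.smul_apply, ev_smul, ev_pairHom, ev_pairHom, Vval_smul,
      ev_smul, map_mul φ]
    congr 1
    ring

theorem ev_Theta (δ : ↥(Vsub (YGr K 𝒜 a) hV)) (c : ↥(Vsub (CGr 𝒜 a) hV)) (x : R') :
    ev (subK K 𝒜') (Theta K 𝒜 𝒜' hV hφK a δ c) x =
      ev (subK K 𝒜) (Vval (YGr K 𝒜 a) hV δ) (Vval (CGr 𝒜 a) hV c * φ x) := rfl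

theorem ev_eq_zero_of_mem_Vadd {δ : GDK K 𝒜} (hδ : δ ∈ Vadd (Hq q) (YGr K 𝒜 a)) {n : ℤ}
    (hn : n - a ∉ Hq q) {x : R} (hx : x ∈ 𝒜 n) : ev (subK K 𝒜) δ x = 0 := by
  classical
  rw [← DirectSum.sum_support_decompose (YGr K 𝒜 a) δ, map_sum, LinearMap.sum_apply]
  refine Finset.sum_eq_zero fun i _ => ?_
  by_cases hi : i ∈ Hq q
  · have h1 : ((decompose (YGr K 𝒜 a) δ) i : GDK K 𝒜) ∈ pieceA K 𝒜 (i + -a) :=
      SetLike.coe_mem _
    refine (mem_piece (subK K 𝒜)).1 h1 n ?_ x hx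
    intro h
    apply hn
    have e1 : n - a = -i := by omega
    rw [e1]
    exact neg_mem hi
  · rw [hδ i hi, map_zero, LinearMap.zero_apply]

theorem ev_vproj {δ : GDK K 𝒜} (hδ : δ ∈ Vadd (Hq q) (YGr K 𝒜 a)) (x : R) :
    ev (subK K 𝒜) δ x = ev (subK K 𝒜) δ (vproj (Hq q) (CGr 𝒜 a) x) := by
  classical
  induction x using DirectSum.Decomposition.inductionOn 𝒜 with
  | zero => simp only [map_zero]
  | homogeneous x =>
    rename_i n
    by_cases hn : n - a ∈ Hq q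
    · rw [vproj_eq_self (Hq q) (CGr 𝒜 a) (mem_Vadd_CGr 𝒜 a hn x.2)]
    · rw [vproj_CGr_eq_zero 𝒜 a hn x.2, map_zero, ev_eq_zero_of_mem_Vadd K 𝒜 a hδ hn x.2]
  | add x y hx hy => rw [map_add, map_add, map_add, hx, hy]

theorem Theta_injective : Function.Injective (Theta K 𝒜 𝒜' hV hφK a) := by
  rw [← LinearMap.ker_eq_bot, LinearMap.ker_eq_bot']
  intro δ hδ
  apply Vval_injective (YGr K 𝒜 a) hV
  rw [map_zero]
  apply GD.ext
  intro x
  rw [map_zero, LinearMap.zero_apply, ev_vproj K 𝒜 a (Vval_mem (YGr K 𝒜 a) hV δ) x]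
  have h1 : ev (subK K 𝒜') (Theta K 𝒜 𝒜' hV hφK a δ (VprojC 𝒜 𝒜' hV a x)) 1 = 0 := by
    rw [hδ, LinearMap.zero_apply, map_zero, LinearMap.zero_apply]
  rw [ev_Theta, Vval_VprojC, map_one, mul_one] at h1
  exact h1

/-- The functional on `R` attached to an `R'`-linear map `u : C' → R'^*`. -/
def funL (u : ↥(Vsub (CGr 𝒜 a) hV) →ₗ[R'] GDK K 𝒜') : R →ₗ[K] K where
  toFun x := ev (subK K 𝒜') (u (VprojC 𝒜 𝒜' hV a x)) 1
  map_add' x y := by rw [map_add, map_add, map_add, LinearMap.add_apply]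
  map_smul' k x := by
    rw [VprojC_ksmul K 𝒜 𝒜' hV hφK, map_smul, ev_smul, mul_one,
      Algebra.algebraMap_eq_smul_one, map_smul, RingHom.id_apply]

theorem funL_apply (u : ↥(Vsub (CGr 𝒜 a) hV) →ₗ[R'] GDK K 𝒜') (x : R) :
    funL K 𝒜 𝒜' hV hφK a u x = ev (subK K 𝒜') (u (VprojC 𝒜 𝒜' hV a x)) 1 := rfl

variable (hpos : ∀ n : ℤ, n < 0 → 𝒜 n = ⊥)
  (hstd : Ideal.span (⋃ n ∈ Set.Ioi (0 : ℤ), (𝒜 n : Set R)) =
    Ideal.span ((𝒜 1 : AddSubgroup R) : Set R))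
  (ρ : ℤ) (hρ0 : 0 ≤ ρ) (hρq : ρ < q) (hρa : (q : ℤ) ∣ a - ρ)
  (S : Finset R) (hS : Submodule.span K (S : Set R) = subK K 𝒜 ρ)

include hpos hstd hρ0 hρq hρa hS in
theorem funL_mem (u : ↥(Vsub (CGr 𝒜 a) hV) →ₗ[R'] GDK K 𝒜') :
    funL K 𝒜 𝒜' hV hφK a u ∈ finSupp (subK K 𝒜) := by
  classical
  have hsup : ∀ b : R, ∃ s : Finset ℤ, ∀ n, n ∉ s → ∀ x ∈ subK K 𝒜' n,
      ev (subK K 𝒜') (u (VprojC 𝒜 𝒜' hV a b)) x = 0 := fun b => (u (VprojC 𝒜 𝒜' hV a b)).2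
  choose sb hsb using hsup
  refine ⟨S.biUnion (fun b => (sb b).image (fun l => l * (q : ℤ) + ρ)), fun n hn x hx => ?_⟩
  refine piece_cases K 𝒜 𝒜' hV a hpos hstd ρ hρ0 hρq hρa
    (fun x => funL K 𝒜 𝒜' hV hφK a u x = 0) (map_zero _)
    (fun x y hx hy => by rw [map_add, hx, hy, add_zero]) n x hx ?_ ?_
  · intro hnot
    rw [funL_apply, VprojC_eq_zero 𝒜 𝒜' hV a hnot hx, map_zero, map_zero, LinearMap.zero_apply]
  · intro l hl0 hnl r' hr' b hb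
    have hb' : b ∈ Submodule.span K (S : Set R) := by rw [hS]; exact hb
    refine Submodule.span_induction
      (p := fun b _ => funL K 𝒜 𝒜' hV hφK a u (φ r' * b) = 0) ?_ ?_ ?_ ?_ hb'
    · intro b hbS
      rw [funL_apply, VprojC_mul, map_smul, ev_smul, mul_one]
      refine hsb b l ?_ r' hr'
      intro hl
      apply hn
      rw [Finset.mem_biUnion]
      exact ⟨b, hbS, Finset.mem_image.2 ⟨l, hl, hnl.symm⟩⟩
    · rw [mul_zero, map_zero]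
    · intro x y _ _ hx hy
      rw [mul_add, map_add, hx, hy, add_zero]
    · intro k x _ hx
      rw [mul_smul_comm, map_smul, hx, smul_zero]

include hpos hstd hρ0 hρq hρa hS in
theorem Theta_surjective : Function.Surjective (Theta K 𝒜 𝒜' hV hφK a) := by
  classical
  intro u
  obtain ⟨δ₀, hδ₀⟩ : ∃ δ₀ : GDK K 𝒜, ∀ x, ev (subK K 𝒜) δ₀ x = funL K 𝒜 𝒜' hV hφK a u x :=
    ⟨⟨funL K 𝒜 𝒜' hV hφK a u, funL_mem K 𝒜 𝒜' hV hφK a hpos hstd ρ hρ0 hρq hρa S hS u⟩,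
      fun x => rfl⟩
  have hδV : δ₀ ∈ Vadd (Hq q) (YGr K 𝒜 a) := by
    intro i hi
    rw [decompose_shiftGr]
    refine (isGDual (subK K 𝒜)).eq_zero (i + -a) _ (SetLike.coe_mem _) (fun x hx => ?_)
    have h1 := Groth.Agent.Lib.LeadGD.pair_eq_comp' (subK K 𝒜) (piece (subK K 𝒜))
      (isGDual (subK K 𝒜)) hx δ₀
    rw [neg_neg] at h1
    rw [← h1, hδ₀, funL_apply]
    have hnot : -(i + -a) - a ∉ Hq q := by
      intro h
      apply hi
      have e1 : -(i + -a) - a = -i := by ring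
      rw [e1] at h
      have := neg_mem h
      rwa [neg_neg] at this
    rw [VprojC_eq_zero 𝒜 𝒜' hV a hnot hx, map_zero, map_zero, LinearMap.zero_apply]
  refine ⟨Vmk (YGr K 𝒜 a) hV δ₀ hδV, ?_⟩
  apply LinearMap.ext
  intro c
  apply GD.ext
  intro r'
  rw [ev_Theta, Vval_Vmk, hδ₀, funL_apply, mul_comm, VprojC_mul, VprojC_Vval, map_smul, ev_smul,
    mul_one]

include hφK hpos hstd hρ0 hρq hρa hS in
/-- `C' = V(R(a))` is a finitely generated `R'`-module. -/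
theorem finite_CMod : Module.Finite R' ↥(Vsub (CGr 𝒜 a) hV) := by
  classical
  refine ⟨⟨S.image (VprojC 𝒜 𝒜' hV a), ?_⟩⟩
  rw [eq_top_iff]
  intro c _
  have key : ∀ x : R, VprojC 𝒜 𝒜' hV a x ∈
      Submodule.span R' ((S.image (VprojC 𝒜 𝒜' hV a) : Finset _) : Set _) := by
    intro x
    induction x using DirectSum.Decomposition.inductionOn 𝒜 with
    | zero => rw [map_zero]; exact zero_mem _
    | homogeneous x =>
      rename_i n
      refine piece_cases K 𝒜 𝒜' hV a hpos hstd ρ hρ0 hρq hρa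
        (fun x => VprojC 𝒜 𝒜' hV a x ∈
          Submodule.span R' ((S.image (VprojC 𝒜 𝒜' hV a) : Finset _) : Set _))
        (by rw [map_zero]; exact zero_mem _)
        (fun x y hx hy => by rw [map_add]; exact add_mem hx hy) n x x.2 ?_ ?_
      · intro hnot
        rw [VprojC_eq_zero 𝒜 𝒜' hV a hnot x.2]
        exact zero_mem _
      · intro l hl0 hnl r' hr' b hb
        rw [VprojC_mul]
        apply Submodule.smul_mem
        have hb' : b ∈ Submodule.span K (S : Set R) := by rw [hS]; exact hb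
        refine Submodule.span_induction
          (p := fun b _ => VprojC 𝒜 𝒜' hV a b ∈
            Submodule.span R' ((S.image (VprojC 𝒜 𝒜' hV a) : Finset _) : Set _)) ?_ ?_ ?_ ?_ hb'
        · intro b hbS
          exact Submodule.subset_span (Finset.mem_coe.2 (Finset.mem_image_of_mem _ hbS))
        · rw [map_zero]; exact zero_mem _
        · intro x y _ _ hx hy
          rw [map_add]
          exact add_mem hx hy
        · intro k x _ hx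
          rw [VprojC_ksmul K 𝒜 𝒜' hV hφK]
          exact Submodule.smul_mem _ _ hx
    | add x y hx hy => rw [map_add]; exact add_mem hx hy
  have h1 := key (Vval (CGr 𝒜 a) hV c)
  rwa [VprojC_Vval] at h1

include hφK hpos hstd hρ0 hρq hρa hS in
/-- `Hom_{R'}(C', R'^*) ≅ V(R^*(-a))`. -/
theorem nonempty_hom_equiv_Vsub :
    Nonempty ((↥(Vsub (CGr 𝒜 a) hV) →ₗ[R'] GDK K 𝒜') ≃ₗ[R'] ↥(Vsub (YGr K 𝒜 a) hV)) :=
  ⟨(LinearEquiv.ofBijective (Theta K 𝒜 𝒜' hV hφK a)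
    ⟨Theta_injective K 𝒜 𝒜' hV hφK a,
      Theta_surjective K 𝒜 𝒜' hV hφK a hpos hstd ρ hρ0 hρq hρa S hS⟩).symm⟩

end Main

end Groth.Agent.Lib.T2H3.Ver
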