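import Groth.Agent.Lib.T2H3VerX
import Groth.Agent.Lib.LeadCanI

/-! Veronese subrings of Gorenstein graded rings (helper3), part Y: the type of the Veronese
subring `R^(q)` of a standard graded Gorenstein ring `R` over a field is `dim R_ρ`, `ρ` the
remainder of `a(R)` modulo `q` (version over an auxiliary field `K` mapping onto `R_0`). -/

set_option autoImplicit false
set_option linter.unusedSectionVars false
set_option linter.unusedVariables false
set_option linter.style.haveILetI false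
set_option maxHeartbeats 2000000
open DirectSum TensorProduct

noncomputable section

namespace Groth.Agent.Lib.T2H3.Ver

open GrLC Groth.Agent.Lib.T2H3.GrIrr Groth.Agent.Lib.T2H3.GrArt Groth.Agent.Lib.T2H3.GrLes
  Groth.Agent.Lib.T2H3.GDual Groth.Agent.Lib.Helper29GrShift
open CategoryTheory CategoryTheory.Abelian IsLocalRing

universe u

section Depth

variable {A : Type u} [CommRing A] [IsNoetherianRing A] (J : Ideal A)
  (M : Type u) [AddCommGroup M] [Module A M] [Module.Finite A M]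

/-- Vanishing of local cohomology below `n` bounds the depth from below. -/
theorem le_idealDepth_of_H (n : ℕ) (hJ : J • (⊤ : Submodule A M) ≠ ⊤)
    (h0 : ∀ i : ℕ, i < n → ∀ y : LocCoh.H J i M, y = 0) :
    (n : ℕ∞) ≤ LocCoh.idealDepth J M := by
  by_contra h
  rw [not_le] at h
  obtain ⟨k, hk⟩ := ENat.ne_top_iff_exists.mp (ne_top_of_lt h)
  obtain ⟨y, hy⟩ := Groth.Agent.Lib.Helper8.LC.H_ne_zero_of_depth_eq J k M hJ hk.symm
  have hkn : k < n := by
    rw [← hk] at h
    exact_mod_cast h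
  exact hy (h0 k hkn y)

end Depth

section Local

variable {R : Type u} [CommRing R] [IsNoetherianRing R] (𝒜 : ℤ → AddSubgroup R) [GradedRing 𝒜]
  (m : HomogeneousIdeal 𝒜) [hmp : m.toIdeal.IsPrime]
  {E' : Type u} [AddCommGroup E'] [Module R E'] (𝓔 : ℤ → AddSubgroup E')
  [DirectSum.Decomposition 𝓔] [SetLike.GradedSMul 𝒜 𝓔] (e : (R ⧸ m.toIdeal) →ₗ[R] E')
  (he : GrLC.IsStarInjHull 𝒜 (GrLC.quotGr 𝒜 m) 𝓔 e)

open Groth.Agent.Lib.LeadCan in
include he in
/-- Ungraded version of `LeadCan.nonempty_hom_equiv`: only the isomorphism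
`Hom_R(C, E) ≅ H^n_m(R)` is used. -/
theorem nonempty_hom_equiv' (n : ℕ) (I : GrLC.StarInjRes 𝒜 𝒜) {C : Type u} [AddCommGroup C]
    [Module R C] [Module.Finite R C] (φ : (C →ₗ[R] E') ≃ₗ[R] I.H m n) (E₀ : Type u)
    [AddCommGroup E₀] [Module (Localization.AtPrime m.toIdeal) E₀]
    (f : IsLocalRing.ResidueField (Localization.AtPrime m.toIdeal)
      →ₗ[Localization.AtPrime m.toIdeal] E₀) (hf : InjHull.IsInjectiveHull f) :
    Nonempty ((LocalizedModule m.toIdeal.primeCompl C →ₗ[Localization.AtPrime m.toIdeal] E₀)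
      ≃ₗ[Localization.AtPrime m.toIdeal]
      LocCoh.H (IsLocalRing.maximalIdeal (Localization.AtPrime m.toIdeal)) n
        (Localization.AtPrime m.toIdeal)) := by
  obtain ⟨ε, -⟩ := Groth.Agent.S0302.result (Localization.AtPrime m.toIdeal)
    (ResidueField (Localization.AtPrime m.toIdeal)) E₀
    (LocalizedModule m.toIdeal.primeCompl E') f hf (hullMap 𝒜 m e)
    (hullMap_isInjectiveHull 𝒜 m 𝓔 e he)
  haveI : Module.FinitePresentation R C := Module.finitePresentation_of_finite R C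
  let e1 : (LocalizedModule m.toIdeal.primeCompl C →ₗ[Localization.AtPrime m.toIdeal] E₀)
      ≃ₗ[Localization.AtPrime m.toIdeal]
      (LocalizedModule m.toIdeal.primeCompl C →ₗ[Localization.AtPrime m.toIdeal]
        LocalizedModule m.toIdeal.primeCompl E') := LinearEquiv.congrRight ε
  let e2R : LocalizedModule m.toIdeal.primeCompl (C →ₗ[R] E') ≃ₗ[R]
      (LocalizedModule m.toIdeal.primeCompl C →ₗ[Localization.AtPrime m.toIdeal]
        LocalizedModule m.toIdeal.primeCompl E') :=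
    IsLocalizedModule.iso m.toIdeal.primeCompl (LocalizedModule.map m.toIdeal.primeCompl)
  let e2 : LocalizedModule m.toIdeal.primeCompl (C →ₗ[R] E')
      ≃ₗ[Localization.AtPrime m.toIdeal]
      (LocalizedModule m.toIdeal.primeCompl C →ₗ[Localization.AtPrime m.toIdeal]
        LocalizedModule m.toIdeal.primeCompl E') :=
    e2R.extendScalarsOfIsLocalization m.toIdeal.primeCompl (Localization.AtPrime m.toIdeal)
  let e3 : LocalizedModule m.toIdeal.primeCompl (C →ₗ[R] E')
      ≃ₗ[Localization.AtPrime m.toIdeal] LocalizedModule m.toIdeal.primeCompl (I.H m n) :=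
    IsLocalizedModule.mapEquiv m.toIdeal.primeCompl
      (LocalizedModule.mkLinearMap m.toIdeal.primeCompl _)
      (LocalizedModule.mkLinearMap m.toIdeal.primeCompl _) (Localization.AtPrime m.toIdeal) φ
  obtain ⟨ψ⟩ := Groth.Agent.S13224.result R 𝒜 m R 𝒜 I n
  let e4 : LocalizedModule m.toIdeal.primeCompl (I.H m n)
      ≃ₗ[Localization.AtPrime m.toIdeal]
      LocalizedModule m.toIdeal.primeCompl (LocCoh.H m.toIdeal n R) :=
    IsLocalizedModule.mapEquiv m.toIdeal.primeCompl
      (LocalizedModule.mkLinearMap m.toIdeal.primeCompl _)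
      (LocalizedModule.mkLinearMap m.toIdeal.primeCompl _) (Localization.AtPrime m.toIdeal) ψ
  obtain ⟨e5⟩ := Groth.Agent.S11618.result R m.toIdeal m.toIdeal.primeCompl R n
  let ρR : LocalizedModule m.toIdeal.primeCompl R ≃ₗ[R] Localization.AtPrime m.toIdeal :=
    IsLocalizedModule.iso m.toIdeal.primeCompl
      (Algebra.linearMap R (Localization.AtPrime m.toIdeal))
  let ρ : LocalizedModule m.toIdeal.primeCompl R ≃ₗ[Localization.AtPrime m.toIdeal]
      Localization.AtPrime m.toIdeal :=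
    ρR.extendScalarsOfIsLocalization m.toIdeal.primeCompl (Localization.AtPrime m.toIdeal)
  obtain ⟨e6⟩ := nonempty_H_congr _ _
    (Localization.AtPrime.map_eq_maximalIdeal (I := m.toIdeal)) n _ _ ρ
  exact ⟨e1 ≪≫ₗ e2.symm ≪≫ₗ e3 ≪≫ₗ e4 ≪≫ₗ e5 ≪≫ₗ e6⟩

end Local

section TypeSec

variable {R : Type u} [CommRing R] [IsNoetherianRing R] (𝒜 : ℤ → AddSubgroup R) [GradedRing 𝒜]
  (m : HomogeneousIdeal 𝒜) [hmax : m.toIdeal.IsMaximal]
  (hCMA : LocCoh.IsCohenMacaulayLocalRing (Localization.AtPrime m.toIdeal))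
  (n : ℕ) (hdimA : ringKrullDim (Localization.AtPrime m.toIdeal) = n)
  (I : GrLC.StarInjRes 𝒜 𝒜)
  {E' : Type u} [AddCommGroup E'] [Module R E'] (𝓔 : ℤ → AddSubgroup E')
  [DirectSum.Decomposition 𝓔] [SetLike.GradedSMul 𝒜 𝓔] (e : (R ⧸ m.toIdeal) →ₗ[R] E')
  (he : GrLC.IsStarInjHull 𝒜 (GrLC.quotGr 𝒜 m) 𝓔 e)
  {C : Type u} [AddCommGroup C] [Module R C] [Module.Finite R C]
  (φ : (C →ₗ[R] E') ≃ₗ[R] I.H m n)

open Groth.Agent.Lib.LeadCan in
include hCMA hdimA he φ in
/-- The type of `R` is the minimal number of generators of a module `C` with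
`Hom_R(C, E) ≅ H^n_m(R)`. -/
theorem type_of_hom_equiv :
    GrLC.bassNum m.toIdeal R n =
      (Module.finrank (R ⧸ m.toIdeal) ((R ⧸ m.toIdeal) ⊗[R] C) : ℕ∞) := by
  haveI := hmax.isPrime
  haveI := hCMA
  obtain ⟨eK⟩ := nonempty_hom_equiv' 𝒜 m 𝓔 e he n I φ _ (hullMap 𝒜 m e)
    (hullMap_isInjectiveHull 𝒜 m 𝓔 e he)
  haveI hfin : Module.Finite (Localization.AtPrime m.toIdeal)
      (LocalizedModule m.toIdeal.primeCompl C) :=
    Module.Finite.of_isLocalizedModule m.toIdeal.primeCompl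
      (LocalizedModule.mkLinearMap m.toIdeal.primeCompl C)
  unfold GrLC.bassNum
  rw [LeadBass.bassNumLocal_congr (Localization.AtPrime m.toIdeal)
    (Groth.Agent.Lib.Helper28.localizedModuleSelfEquiv m.toIdeal) n,
    bassNumLocal_self n hdimA (LocalizedModule m.toIdeal.primeCompl E')
    (hullMap 𝒜 m e) (hullMap_isInjectiveHull 𝒜 m 𝓔 e he)
    (LocalizedModule m.toIdeal.primeCompl C) eK,
    spanFinrank_localizedModule_eq_finrank]

end TypeSec

end Groth.Agent.Lib.T2H3.Ver
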