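import Groth.Agent.Lib.T2H3NLRank
import Groth.Agent.Lib.T2H3ConormalInter
import Groth.Agent.Lib.T2H8FreeLoc
import Groth.Agent.Lib.Helper18OmLS6

set_option autoImplicit false
set_option linter.style.haveILetI false
set_option linter.unusedSectionVars false
universe u
open CategoryTheory CategoryTheory.Limits AlgebraicGeometry TopologicalSpace Opposite TensorProduct
open KaehlerDifferential

namespace Groth.Agent.Lib.T2H3.VirtDim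

open Groth.Agent.Helper18OmLS Groth.Agent.Helper13PullbackUnit Groth.Agent.Lib.T2H3.ConormalInter
  Groth.Agent.Lib.T2H3.NLRank

section charts
variable {X V V' : Scheme.{u}} (i : X ⟶ V) [IsClosedImmersion i] (i' : X ⟶ V') [IsClosedImmersion i']

/-- a basic open of an affine chart of the target whose preimage under a closed immersion is a given small
neighbourhood. -/
theorem exists_basicOpen_preimage_le {V₀ : V.Opens} (hV₀ : IsAffineOpen V₀) (x : X) (hx : i x ∈ V₀)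
    (O : X.Opens) (hxO : x ∈ O) :
    ∃ h : Γ(V, V₀), x ∈ i ⁻¹ᵁ (V.basicOpen h) ∧ i ⁻¹ᵁ (V.basicOpen h) ≤ O := by
  have hT₀ : IsAffineOpen (i ⁻¹ᵁ V₀) :=
    Groth.Agent.Lib.Helper20.ConormalStalk.isAffineOpen_preimage i hV₀ (le_coborderRange i V₀)
  obtain ⟨f, hf1, hf2⟩ := hT₀.exists_basicOpen_le (V := O) ⟨x, hxO⟩ hx
  obtain ⟨h, hh⟩ := Groth.Agent.Lib.Helper20.ConormalStalk.app_surjective i hV₀
    (le_coborderRange i V₀) f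
  refine ⟨h, ?_, ?_⟩
  · rw [Scheme.preimage_basicOpen, hh]
    exact hf2
  · rw [Scheme.preimage_basicOpen, hh]
    exact hf1

/-- common affine charts for two closed immersions of the same scheme. -/
theorem exists_common_chart {V₀ : V.Opens} (hV₀ : IsAffineOpen V₀) {V'₀ : V'.Opens}
    (hV'₀ : IsAffineOpen V'₀) (x : X) (hx : i x ∈ V₀) (hx' : i' x ∈ V'₀) (O : X.Opens)
    (hxO : x ∈ O) :
    ∃ (V₂ : V.Opens) (V'₁ : V'.Opens), IsAffineOpen V₂ ∧ IsAffineOpen V'₁ ∧ V₂ ≤ V₀ ∧ V'₁ ≤ V'₀ ∧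
      i ⁻¹ᵁ V₂ = i' ⁻¹ᵁ V'₁ ∧ x ∈ i ⁻¹ᵁ V₂ ∧ i ⁻¹ᵁ V₂ ≤ O := by
  obtain ⟨h₁, hx₁, hle₁⟩ := exists_basicOpen_preimage_le i hV₀ x hx (O ⊓ i' ⁻¹ᵁ V'₀) ⟨hxO, hx'⟩
  have hV₁ : IsAffineOpen (V.basicOpen h₁) := hV₀.basicOpen h₁
  obtain ⟨h', hx₂, hle₂⟩ := exists_basicOpen_preimage_le i' hV'₀ x hx' (i ⁻¹ᵁ (V.basicOpen h₁)) hx₁
  have hV'₁ : IsAffineOpen (V'.basicOpen h') := hV'₀.basicOpen h'
  have hle₃ : i ⁻¹ᵁ (V.basicOpen h₁) ≤ i' ⁻¹ᵁ V'₀ := hle₁.trans inf_le_right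
  let t : Γ(X, i ⁻¹ᵁ (V.basicOpen h₁)) := X.presheaf.map (homOfLE hle₃).op (i'.app V'₀ h')
  have ht : X.basicOpen t = i' ⁻¹ᵁ (V'.basicOpen h') := by
    rw [Scheme.basicOpen_res, ← Scheme.preimage_basicOpen]
    exact inf_eq_right.2 hle₂
  obtain ⟨s, hs⟩ := Groth.Agent.Lib.Helper20.ConormalStalk.app_surjective i hV₁
    (le_coborderRange i _) t
  have hpre : i ⁻¹ᵁ (V.basicOpen s) = i' ⁻¹ᵁ (V'.basicOpen h') := by
    rw [Scheme.preimage_basicOpen, hs, ht]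
  refine ⟨V.basicOpen s, V'.basicOpen h', hV₁.basicOpen s, hV'₁, ?_, V'.basicOpen_le h', hpre, ?_, ?_⟩
  · exact (V.basicOpen_le s).trans (V.basicOpen_le h₁)
  · rw [hpre]
    exact hx₂
  · rw [hpre]
    exact hle₂.trans (hle₁.trans inf_le_left)

end charts

section ranked
variable {X : Scheme.{u}}

open Groth.Agent.Lib.T2H8.PerfLocal in
/-- a module whose restriction to an open is locally free of rank `n` is free of rank `n` on all small opens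
around a point of that open. -/
theorem exists_opens_of_restrict (M : X.Modules) (U : X.Opens) (n : ℕ)
    (h : FlatMod.IsFinLocFreeOfRank n ((Scheme.Modules.restrictFunctor U.ι).obj M)) (x : X)
    (hx : x ∈ U) :
    ∃ W : X.Opens, x ∈ W ∧ ∀ W' : X.Opens, W' ≤ W →
      Nonempty (M.restrict W'.ι ≅ FlatMod.freeMod (W' : Scheme.{u}) n) := by
  obtain ⟨W₀, hxW₀, ⟨e⟩⟩ := h ⟨x, hx⟩
  let j : (W₀ : Scheme.{u}) ⟶ X := W₀.ι ≫ U.ι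
  have e' : M.restrict j ≅ FlatMod.freeMod (W₀ : Scheme.{u}) n :=
    (Scheme.Modules.restrictFunctorComp W₀.ι U.ι).app M ≪≫ e
  refine ⟨j.opensRange, ⟨⟨⟨x, hx⟩, hxW₀⟩, rfl⟩, fun W' hW' => ?_⟩
  have hr : Set.range W'.ι ⊆ Set.range j := by
    rw [Scheme.Opens.range_ι]
    exact hW'
  haveI : IsOpenImmersion (IsOpenImmersion.lift j W'.ι hr ≫ j) := by
    rw [IsOpenImmersion.lift_fac]
    infer_instance
  haveI : IsOpenImmersion (IsOpenImmersion.lift j W'.ι hr) := IsOpenImmersion.of_comp _ j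
  exact nonempty_restrict_iso_freeMod_comp M j (IsOpenImmersion.lift j W'.ι hr) W'.ι
    (IsOpenImmersion.lift_fac j W'.ι hr) n e'

/-- a basis of sections over a small affine open. -/
theorem nonempty_basis_of_opens (M : X.Modules) [M.IsQuasicoherent] {T : X.Opens} (hT : IsAffineOpen T)
    (n : ℕ) (e : Nonempty (M.restrict T.ι ≅ FlatMod.freeMod (T : Scheme.{u}) n)) :
    Nonempty (Module.Basis (Fin n) Γ(X, T) Γ(M, T)) := by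
  obtain ⟨e⟩ := e
  obtain ⟨b⟩ := Groth.Agent.Lib.Helper26.ModRank.nonempty_basis_of_restrict_iso M e hT le_rfl
  exact ⟨b.map (Groth.Agent.Lib.Helper20.PullbackAff.ΓUEquiv hT M).symm⟩

end ranked

section translate
variable {X V : Scheme.{u}} (i : X ⟶ V) [IsClosedImmersion i] {V₂ : V.Opens} (hV₂ : IsAffineOpen V₂)
  (T : X.Opens) (hT : T = i ⁻¹ᵁ V₂) [Algebra Γ(V, V₂) Γ(X, T)]
  (halg : algebraMap Γ(V, V₂) Γ(X, T) = (i.appLE V₂ T hT.le).hom)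

include hV₂ hT in
theorem isAffineOpen_T : IsAffineOpen T := by
  subst hT
  exact Groth.Agent.Lib.Helper20.ConormalStalk.isAffineOpen_preimage i hV₂ (le_coborderRange i V₂)

include halg in
theorem algebraMap_eq_app (hT' : T = i ⁻¹ᵁ V₂) (a : Γ(V, V₂)) :
    algebraMap Γ(V, V₂) Γ(X, T) a = X.presheaf.map (homOfLE hT'.le).op (i.app V₂ a) := by
  rw [halg]
  rfl

include hV₂ halg in
theorem surjective_algebraMap : Function.Surjective (algebraMap Γ(V, V₂) Γ(X, T)) := by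
  subst hT
  rw [halg, ← Scheme.Hom.app_eq_appLE]
  exact Groth.Agent.Lib.Helper20.ConormalStalk.app_surjective i hV₂ (le_coborderRange i V₂)

include halg in
theorem algebraMap_eq_zero_iff (a : Γ(V, V₂)) :
    algebraMap Γ(V, V₂) Γ(X, T) a = 0 ↔ i.app V₂ a = 0 := by
  subst hT
  rw [halg, ← Scheme.Hom.app_eq_appLE]

/-- sections of the ideal sheaf over an affine chart, as the kernel ideal. -/
noncomputable def idealSectEquiv :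
    Γ(ClSub.idealMod i.ker, V₂) ≃ₗ[Γ(V, V₂)] RingHom.ker (algebraMap Γ(V, V₂) Γ(X, T)) :=
  LinearEquiv.ofBijective
    { toFun := fun s => ⟨OmegaSh.idealSect i.ker V₂ s, by
        change algebraMap Γ(V, V₂) Γ(X, T) _ = 0
        rw [algebraMap_eq_zero_iff i T hT halg]
        exact app_idealSect_eq_zero i V₂ s⟩
      map_add' := fun s t => Subtype.ext (map_add (OmegaSh.idealSect i.ker V₂) s t)
      map_smul' := fun a s => Subtype.ext (idealSect_smul i.ker V₂ a s) }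
    ⟨fun s t h => idealSect_injective i.ker V₂ (congrArg Subtype.val h), fun w => by
      have hw : i.app V₂ w.1 = 0 := (algebraMap_eq_zero_iff i T hT halg w.1).1 w.2
      obtain ⟨s, hs'⟩ := exists_idealSect_eq i V₂ w.1 hw
      exact ⟨s, Subtype.ext hs'⟩⟩

include hV₂ halg in
theorem exists_cotangentEquiv (hs : Function.Surjective (algebraMap Γ(V, V₂) Γ(X, T))) :
    Nonempty (Γ(Omega.conormal i, T) ≃ₗ[Γ(X, T)]
      (extOf Γ(V, V₂) Γ(V, V₂) Γ(X, T) hs).Cotangent) := by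
  have hTa := isAffineOpen_T i hV₂ T hT
  obtain ⟨e₁, -⟩ := exists_pullback_equiv i (ClSub.idealMod i.ker) hT.le hV₂ hTa halg
  let e₂ : Γ(X, T) ⊗[Γ(V, V₂)] Γ(ClSub.idealMod i.ker, V₂) ≃ₗ[Γ(X, T)]
      Γ(X, T) ⊗[Γ(V, V₂)] RingHom.ker (algebraMap Γ(V, V₂) Γ(X, T)) :=
    AlgebraTensorModule.congr (LinearEquiv.refl Γ(X, T) Γ(X, T)) (idealSectEquiv i T hT halg)
  let e₃ : Γ(X, T) ⊗[Γ(V, V₂)] RingHom.ker (algebraMap Γ(V, V₂) Γ(X, T)) ≃ₗ[Γ(X, T)]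
      (extOf Γ(V, V₂) Γ(V, V₂) Γ(X, T) hs).Cotangent :=
    (extOf Γ(V, V₂) Γ(V, V₂) Γ(X, T) hs).cotangentEquiv
  exact ⟨e₁.symm ≪≫ₗ e₂ ≪≫ₗ e₃⟩

variable {Y : Scheme.{u}} (g : V ⟶ Y) {Ω : V.Modules} (d : OmegaSh.Der g Ω)
  (hd : OmegaSh.IsUniversal d) {Y₀ : Y.Opens} (hY₀ : IsAffineOpen Y₀) (hVY : V₂ ≤ g ⁻¹ᵁ Y₀)
  [Algebra Γ(Y, Y₀) Γ(V, V₂)] (halgR : algebraMap Γ(Y, Y₀) Γ(V, V₂) = (g.appLE Y₀ V₂ hVY).hom)

include hV₂ halg hd hY₀ halgR in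
theorem exists_cotangentSpaceEquiv :
    Nonempty (Γ((Scheme.Modules.pullback i).obj Ω, T) ≃ₗ[Γ(X, T)]
      Γ(X, T) ⊗[Γ(V, V₂)] Ω[Γ(V, V₂)⁄Γ(Y, Y₀)]) := by
  haveI := isQuasicoherent_of_isUniversal g d hd
  have hTa := isAffineOpen_T i hV₂ T hT
  obtain ⟨e₁, -⟩ := exists_pullback_equiv i Ω hT.le hV₂ hTa halg
  let e₂ : Γ(X, T) ⊗[Γ(V, V₂)] Γ(Ω, V₂) ≃ₗ[Γ(X, T)] Γ(X, T) ⊗[Γ(V, V₂)] Ω[Γ(V, V₂)⁄Γ(Y, Y₀)] :=
    AlgebraTensorModule.congr (LinearEquiv.refl Γ(X, T) Γ(X, T))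
      (sectionsEquiv g d hd hV₂ hY₀ hVY halgR)
  exact ⟨e₁.symm ≪≫ₗ e₂⟩

end translate

section main

theorem appLE_congr {X Y : Scheme.{u}} {p q : X ⟶ Y} (h : p = q) (U : Y.Opens) (T : X.Opens)
    (e : T ≤ p ⁻¹ᵁ U) (e' : T ≤ q ⁻¹ᵁ U) : p.appLE U T e = q.appLE U T e' := by
  subst h
  rfl

/-- **S8681** -/
theorem main_S8681 {X Y V V' : Scheme.{u}} (f : X ⟶ Y)
    (g : V ⟶ Y) [Smooth g] (i : X ⟶ V) [IsClosedImmersion i] (hi : i ≫ g = f)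
    (g' : V' ⟶ Y) [Smooth g'] (i' : X ⟶ V') [IsClosedImmersion i'] (hi' : i' ≫ g' = f)
    (Ω : V.Modules) (d : OmegaSh.Der g Ω) (hd : OmegaSh.IsUniversal d)
    (Ω' : V'.Modules) (d' : OmegaSh.Der g' Ω') (hd' : OmegaSh.IsUniversal d')
    (x : X) (a b a' b' : ℕ) (U₁ U₂ U₃ U₄ : X.Opens) (h₁ : x ∈ U₁) (h₂ : x ∈ U₂) (h₃ : x ∈ U₃)
    (h₄ : x ∈ U₄)
    (ha : FlatMod.IsFinLocFreeOfRank a ((Scheme.Modules.restrictFunctor U₁.ι).obj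
      ((Scheme.Modules.pullback i).obj Ω)))
    (hb : FlatMod.IsFinLocFreeOfRank b ((Scheme.Modules.restrictFunctor U₂.ι).obj
      (Omega.conormal i)))
    (ha' : FlatMod.IsFinLocFreeOfRank a' ((Scheme.Modules.restrictFunctor U₃.ι).obj
      ((Scheme.Modules.pullback i').obj Ω')))
    (hb' : FlatMod.IsFinLocFreeOfRank b' ((Scheme.Modules.restrictFunctor U₄.ι).obj
      (Omega.conormal i'))) :
    (a : ℤ) - b = (a' : ℤ) - b' := by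
  subst hi
  haveI := isQuasicoherent_of_isUniversal g d hd
  haveI := isQuasicoherent_of_isUniversal g' d' hd'
  haveI : (Omega.conormal i).IsQuasicoherent :=
    inferInstanceAs ((Scheme.Modules.pullback i).obj (ClSub.idealMod i.ker)).IsQuasicoherent
  haveI : (Omega.conormal i').IsQuasicoherent :=
    inferInstanceAs ((Scheme.Modules.pullback i').obj (ClSub.idealMod i'.ker)).IsQuasicoherent
  obtain ⟨W₁, hx₁, H₁⟩ := exists_opens_of_restrict _ U₁ a ha x h₁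
  obtain ⟨W₂, hx₂, H₂⟩ := exists_opens_of_restrict _ U₂ b hb x h₂
  obtain ⟨W₃, hx₃, H₃⟩ := exists_opens_of_restrict _ U₃ a' ha' x h₃
  obtain ⟨W₄, hx₄, H₄⟩ := exists_opens_of_restrict _ U₄ b' hb' x h₄
  obtain ⟨Y₀, hY₀, hfY₀, -⟩ := exists_isAffineOpen_mem_and_subset (x := (i ≫ g) x) (U := ⊤) trivial
  have hgY₀ : i x ∈ g ⁻¹ᵁ Y₀ := hfY₀
  have hg'Y₀ : i' x ∈ g' ⁻¹ᵁ Y₀ := by
    change (i' ≫ g') x ∈ Y₀
    rw [hi']
    exact hfY₀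
  obtain ⟨V₀, hV₀, hxV₀, hV₀le⟩ := exists_isAffineOpen_mem_and_subset (x := i x) hgY₀
  obtain ⟨V'₀, hV'₀, hxV'₀, hV'₀le⟩ := exists_isAffineOpen_mem_and_subset (x := i' x) hg'Y₀
  obtain ⟨V₂, V'₁, hV₂, hV'₁, hV₂le, hV'₁le, hpre, hxT, hTO⟩ :=
    exists_common_chart i i' hV₀ hV'₀ x hxV₀ hxV'₀ (W₁ ⊓ W₂ ⊓ W₃ ⊓ W₄) ⟨⟨⟨hx₁, hx₂⟩, hx₃⟩, hx₄⟩
  have hTa : IsAffineOpen (i ⁻¹ᵁ V₂) :=
    Groth.Agent.Lib.Helper20.ConormalStalk.isAffineOpen_preimage i hV₂ (le_coborderRange i V₂)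
  obtain ⟨ba⟩ := nonempty_basis_of_opens ((Scheme.Modules.pullback i).obj Ω) hTa a
    (H₁ _ (hTO.trans (inf_le_left.trans (inf_le_left.trans inf_le_left))))
  obtain ⟨bb⟩ := nonempty_basis_of_opens (Omega.conormal i) hTa b
    (H₂ _ (hTO.trans (inf_le_left.trans (inf_le_left.trans inf_le_right))))
  obtain ⟨ba'⟩ := nonempty_basis_of_opens ((Scheme.Modules.pullback i').obj Ω') hTa a'
    (H₃ _ (hTO.trans (inf_le_left.trans inf_le_right)))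
  obtain ⟨bb'⟩ := nonempty_basis_of_opens (Omega.conormal i') hTa b'
    (H₄ _ (hTO.trans inf_le_right))
  have hVY : V₂ ≤ g ⁻¹ᵁ Y₀ := hV₂le.trans hV₀le
  have hVY' : V'₁ ≤ g' ⁻¹ᵁ Y₀ := hV'₁le.trans hV'₀le
  have hTY : i ⁻¹ᵁ V₂ ≤ (i ≫ g) ⁻¹ᵁ Y₀ := fun y hy => hVY hy
  have hTY' : i ⁻¹ᵁ V₂ ≤ (i' ≫ g') ⁻¹ᵁ Y₀ := by rw [hi']; exact hTY
  letI algRA : Algebra Γ(Y, Y₀) Γ(V, V₂) := (g.appLE Y₀ V₂ hVY).hom.toAlgebra
  letI algRA' : Algebra Γ(Y, Y₀) Γ(V', V'₁) := (g'.appLE Y₀ V'₁ hVY').hom.toAlgebra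
  letI algAB : Algebra Γ(V, V₂) Γ(X, i ⁻¹ᵁ V₂) := (i.appLE V₂ (i ⁻¹ᵁ V₂) le_rfl).hom.toAlgebra
  letI algA'B : Algebra Γ(V', V'₁) Γ(X, i ⁻¹ᵁ V₂) :=
    (i'.appLE V'₁ (i ⁻¹ᵁ V₂) hpre.le).hom.toAlgebra
  letI algRB : Algebra Γ(Y, Y₀) Γ(X, i ⁻¹ᵁ V₂) := ((i ≫ g).appLE Y₀ (i ⁻¹ᵁ V₂) hTY).hom.toAlgebra
  haveI : IsScalarTower Γ(Y, Y₀) Γ(V, V₂) Γ(X, i ⁻¹ᵁ V₂) := by
    refine IsScalarTower.of_algebraMap_eq fun r => ?_
    have h1 : g.appLE Y₀ V₂ hVY ≫ i.appLE V₂ (i ⁻¹ᵁ V₂) le_rfl =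
        (i ≫ g).appLE Y₀ (i ⁻¹ᵁ V₂) hTY := Scheme.Hom.appLE_comp_appLE _ _ _ _ _ _ _
    exact congr($h1.symm r)
  haveI : IsScalarTower Γ(Y, Y₀) Γ(V', V'₁) Γ(X, i ⁻¹ᵁ V₂) := by
    refine IsScalarTower.of_algebraMap_eq fun r => ?_
    have h1 : g'.appLE Y₀ V'₁ hVY' ≫ i'.appLE V'₁ (i ⁻¹ᵁ V₂) hpre.le =
        (i' ≫ g').appLE Y₀ (i ⁻¹ᵁ V₂) hTY' := Scheme.Hom.appLE_comp_appLE _ _ _ _ _ _ _
    have h2 : (i' ≫ g').appLE Y₀ (i ⁻¹ᵁ V₂) hTY' = (i ≫ g).appLE Y₀ (i ⁻¹ᵁ V₂) hTY :=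
      appLE_congr hi' _ _ _ _
    have h3 := (h1.trans h2).symm
    exact congr($h3 r)
  haveI : Algebra.FormallySmooth Γ(Y, Y₀) Γ(V, V₂) := by
    have h := g.smooth_appLE hY₀ hV₂ hVY
    have h' : Algebra.Smooth Γ(Y, Y₀) Γ(V, V₂) := h
    exact h'.formallySmooth
  haveI : Algebra.FormallySmooth Γ(Y, Y₀) Γ(V', V'₁) := by
    have h := g'.smooth_appLE hY₀ hV'₁ hVY'
    have h' : Algebra.Smooth Γ(Y, Y₀) Γ(V', V'₁) := h
    exact h'.formallySmooth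
  haveI : Nonempty ↥(i ⁻¹ᵁ V₂) := ⟨⟨x, hxT⟩⟩
  haveI : Nontrivial Γ(X, i ⁻¹ᵁ V₂) := inferInstance
  have hsA := surjective_algebraMap i hV₂ (i ⁻¹ᵁ V₂) rfl rfl
  have hsA' := surjective_algebraMap i' hV'₁ (i ⁻¹ᵁ V₂) hpre rfl
  obtain ⟨eb⟩ := exists_cotangentEquiv i hV₂ (i ⁻¹ᵁ V₂) rfl rfl hsA
  obtain ⟨ea⟩ := exists_cotangentSpaceEquiv i hV₂ (i ⁻¹ᵁ V₂) rfl rfl g d hd hY₀ hVY rfl
  obtain ⟨eb'⟩ := exists_cotangentEquiv i' hV'₁ (i ⁻¹ᵁ V₂) hpre rfl hsA'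
  obtain ⟨ea'⟩ := exists_cotangentSpaceEquiv i' hV'₁ (i ⁻¹ᵁ V₂) hpre rfl g' d' hd' hY₀ hVY' rfl
  haveI := Module.Free.of_basis (bb.map eb)
  haveI := Module.Finite.of_basis (bb.map eb)
  haveI := Module.Free.of_basis (ba.map ea)
  haveI := Module.Finite.of_basis (ba.map ea)
  haveI := Module.Free.of_basis (bb'.map eb')
  haveI := Module.Finite.of_basis (bb'.map eb')
  haveI := Module.Free.of_basis (ba'.map ea')
  haveI := Module.Finite.of_basis (ba'.map ea')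
  have key := finrank_add_eq Γ(Y, Y₀) Γ(V, V₂) Γ(V', V'₁) Γ(X, i ⁻¹ᵁ V₂) hsA hsA'
  rw [Module.finrank_eq_card_basis (ba.map ea), Module.finrank_eq_card_basis (bb.map eb),
    Module.finrank_eq_card_basis (ba'.map ea'), Module.finrank_eq_card_basis (bb'.map eb')] at key
  simp only [Fintype.card_fin] at key
  omega

end main

end Groth.Agent.Lib.T2H3.VirtDim
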