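import Mathlib
import Groth.Prelude.Def_CInt
import Groth.Prelude.Def_Red
import Groth.Agent.Lib.T2H3RelDenseGrp
import Groth.Agent.Lib.Helper8Grp
import Groth.Agent.Lib.Helper11HomogA
import Groth.Agent.Lib.Helper12QuotGrp

/-!
# Weil's extension theorem for homomorphisms defined on a relatively schematically dense open

Tools: open subschemes as objects over `S`, relative schematic density (restriction to opens,
preimage under a projection), equality of maps into a group scheme agreeing on a relatively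
schematically dense open.
-/

set_option autoImplicit false
set_option linter.style.haveILetI false
universe u

open CategoryTheory CategoryTheory.Limits AlgebraicGeometry MonoidalCategory
  CartesianMonoidalCategory MonObj GrpObj Opposite

namespace Groth.Agent.Lib.T2H3.WeilExt

open Groth.Agent.Lib.Helper12.SchDense Groth.Agent.Lib.Helper20.SchDense
open Groth.Agent.Lib.T2H3.RelDense Groth.Agent.Lib.T2H3.RelDenseGrp

variable {S : Scheme.{u}}

/-! ### open subschemes as objects over `S` -/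

/-- an open subscheme of an `S`-scheme, as an `S`-scheme. -/
noncomputable abbrev sub (X : Over S) (O : X.left.Opens) : Over S := Over.mk (O.ι ≫ X.hom)

/-- the inclusion. -/
noncomputable def subι (X : Over S) (O : X.left.Opens) : sub X O ⟶ X := Over.homMk O.ι rfl

@[simp] theorem subι_left (X : Over S) (O : X.left.Opens) : (subι X O).left = O.ι := rfl

instance (X : Over S) (O : X.left.Opens) : IsOpenImmersion (subι X O).left :=
  inferInstanceAs (IsOpenImmersion O.ι)

instance (X : Over S) (O : X.left.Opens) : Mono (subι X O) := by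
  haveI : Mono ((Over.forget S).map (subι X O)) := inferInstanceAs (Mono O.ι)
  exact (Over.forget S).mono_of_mono_map inferInstance

/-- factor a morphism through an open. -/
noncomputable def liftSub {X T : Over S} (O : X.left.Opens) (a : T ⟶ X)
    (h : Set.range a.left ⊆ (O : Set X.left)) : T ⟶ sub X O :=
  Over.homMk (IsOpenImmersion.lift O.ι a.left (by rw [Scheme.Opens.range_ι]; exact h)) (by
    change IsOpenImmersion.lift O.ι a.left _ ≫ O.ι ≫ X.hom = T.hom
    rw [IsOpenImmersion.lift_fac_assoc, Over.w a])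

@[reassoc (attr := simp)]
theorem liftSub_ι {X T : Over S} (O : X.left.Opens) (a : T ⟶ X)
    (h : Set.range a.left ⊆ (O : Set X.left)) : liftSub O a h ≫ subι X O = a := by
  ext1
  exact IsOpenImmersion.lift_fac _ _ _

/-- a morphism whose composite with `p` factors through `O` has range in `p⁻¹ O`. -/
theorem range_subset_of_fac {T X Y : Over S} (t : T ⟶ X) (p : X ⟶ Y) (O : Y.left.Opens)
    (q : T ⟶ sub Y O) (h : t ≫ p = q ≫ subι Y O) :
    Set.range t.left ⊆ ((p.left ⁻¹ᵁ O : X.left.Opens) : Set X.left) := by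
  rintro _ ⟨x, rfl⟩
  change p.left (t.left x) ∈ O
  rw [← Scheme.Hom.comp_apply, ← Over.comp_left, h, Over.comp_left, Scheme.Hom.comp_apply]
  exact (q.left x).2

theorem range_subι (X : Over S) (O : X.left.Opens) :
    Set.range (subι X O).left = (O : Set X.left) := by
  rw [subι_left]; exact Scheme.Opens.range_ι O

/-! ### relative schematic density -/

/-- `A` is schematically dense in `X` relative to `S`. -/
def RelDense (X : Over S) (A : X.left.Opens) : Prop :=
  ∀ (S' : Scheme.{u}) (g : S' ⟶ S), CInt.IsSchematicallyDense ((pullback.fst X.hom g) ⁻¹ᵁ A)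

/-- schematic density pulls back along open immersions. -/
theorem isSchematicallyDense_preimage_of_isOpenImmersion {X' X : Scheme.{u}} (k : X' ⟶ X)
    [IsOpenImmersion k] (D : X.Opens) (hD : CInt.IsSchematicallyDense D) :
    CInt.IsSchematicallyDense (k ⁻¹ᵁ D) := by
  intro V'
  have himg : k ''ᵁ (V' ⊓ k ⁻¹ᵁ D) = k ''ᵁ V' ⊓ D := by
    ext x
    simp only [Scheme.Hom.coe_image, TopologicalSpace.Opens.coe_inf, Scheme.Hom.coe_preimage,
      Set.image_inter_preimage]
  let i : op V' ⟶ op (V' ⊓ k ⁻¹ᵁ D) := (homOfLE inf_le_left).op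
  have hnat := k.appIso_inv_naturality i
  have h2 : X.presheaf.map (k.opensFunctor.op.map i) =
      X.presheaf.map (homOfLE (inf_le_left : k ''ᵁ V' ⊓ D ≤ k ''ᵁ V')).op ≫
        X.presheaf.map (eqToHom himg).op := by
    rw [← Functor.map_comp]; rfl
  have hiso : Function.Injective (X.presheaf.map (eqToHom himg).op) :=
    ((ConcreteCategory.isIso_iff_bijective _).mp inferInstance).1
  have hinj : Function.Injective (X.presheaf.map (k.opensFunctor.op.map i)) := by
    rw [h2]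
    exact hiso.comp (hD _)
  have hiso2 : Function.Injective (k.appIso V').inv :=
    ((ConcreteCategory.isIso_iff_bijective _).mp inferInstance).1
  have h3 : Function.Injective (X'.presheaf.map i ≫ (k.appIso (V' ⊓ k ⁻¹ᵁ D)).inv) := by
    rw [hnat]
    exact hinj.comp hiso2
  have h4 : (⇑(ConcreteCategory.hom (X'.presheaf.map i ≫ (k.appIso (V' ⊓ k ⁻¹ᵁ D)).inv))) =
      ⇑(ConcreteCategory.hom (k.appIso (V' ⊓ k ⁻¹ᵁ D)).inv) ∘
        ⇑(ConcreteCategory.hom (X'.presheaf.map i)) := rfl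
  rw [h4] at h3
  exact Function.Injective.of_comp h3

theorem RelDense.restrict {X : Over S} {A : X.left.Opens} (hA : RelDense X A)
    (O : X.left.Opens) : RelDense (sub X O) (O.ι ⁻¹ᵁ A) := by
  intro S' g
  let k : pullback (O.ι ≫ X.hom) g ⟶ pullback X.hom g :=
    pullback.map _ _ _ _ O.ι (𝟙 _) (𝟙 _) (by simp) (by simp)
  have h := isSchematicallyDense_preimage_of_isOpenImmersion k _ (hA S' g)
  have e : k ⁻¹ᵁ (pullback.fst X.hom g ⁻¹ᵁ A) =
      pullback.fst (sub X O).hom g ⁻¹ᵁ (O.ι ⁻¹ᵁ A) := by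
    have hk : k ≫ pullback.fst X.hom g = pullback.fst (sub X O).hom g ≫ O.ι :=
      pullback.lift_fst (f := X.hom) (g := g) _ _ _
    rw [← Scheme.Hom.comp_preimage, ← Scheme.Hom.comp_preimage, hk]
  rw [← e]
  exact h

theorem RelDense.preimage_fst {X : Over S} {A : X.left.Opens} (hA : RelDense X A) (Y : Over S) :
    RelDense (X ⊗ Y) ((fst X Y).left ⁻¹ᵁ A) := by
  intro S' g
  let g'' : pullback Y.hom g ⟶ S := pullback.fst Y.hom g ≫ Y.hom
  have hXY : (X ⊗ Y).hom = (fst X Y).left ≫ X.hom := (Over.w (fst X Y)).symm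
  have hXY' : (X ⊗ Y).hom = (snd X Y).left ≫ Y.hom := (Over.w (snd X Y)).symm
  have c1 : pullback.fst X.hom g'' ≫ X.hom =
      (pullback.snd X.hom g'' ≫ pullback.fst Y.hom g) ≫ Y.hom := by
    rw [pullback.condition, Category.assoc]
  let inner : pullback X.hom g'' ⟶ (X ⊗ Y).left :=
    (lift (Over.homMk (pullback.fst X.hom g'') rfl : Over.mk (pullback.fst X.hom g'' ≫ X.hom) ⟶ X)
      (Over.homMk (pullback.snd X.hom g'' ≫ pullback.fst Y.hom g) c1.symm)).left
  have inner_fst : inner ≫ (fst X Y).left = pullback.fst X.hom g'' := by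
    simp only [inner, ← Over.comp_left, lift_fst, Over.homMk_left]
  have inner_snd : inner ≫ (snd X Y).left = pullback.snd X.hom g'' ≫ pullback.fst Y.hom g := by
    simp only [inner, ← Over.comp_left, lift_snd, Over.homMk_left]
  have c2 : inner ≫ (X ⊗ Y).hom = (pullback.snd X.hom g'' ≫ pullback.snd Y.hom g) ≫ g := by
    rw [hXY', ← Category.assoc, inner_snd, Category.assoc, Category.assoc, pullback.condition]
  let j : pullback X.hom g'' ⟶ pullback (X ⊗ Y).hom g :=
    pullback.lift inner (pullback.snd X.hom g'' ≫ pullback.snd Y.hom g) c2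
  have c3 : (pullback.fst (X ⊗ Y).hom g ≫ (snd X Y).left) ≫ Y.hom =
      pullback.snd (X ⊗ Y).hom g ≫ g := by
    rw [Category.assoc, ← hXY', pullback.condition]
  have c4 : (pullback.fst (X ⊗ Y).hom g ≫ (fst X Y).left) ≫ X.hom =
      pullback.lift (pullback.fst (X ⊗ Y).hom g ≫ (snd X Y).left) (pullback.snd (X ⊗ Y).hom g) c3 ≫
        g'' := by
    rw [← Category.assoc, pullback.lift_fst, Category.assoc, Category.assoc, Over.w, Over.w]
  let j' : pullback (X ⊗ Y).hom g ⟶ pullback X.hom g'' :=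
    pullback.lift (pullback.fst (X ⊗ Y).hom g ≫ (fst X Y).left)
      (pullback.lift (pullback.fst (X ⊗ Y).hom g ≫ (snd X Y).left) (pullback.snd (X ⊗ Y).hom g) c3)
      c4
  have hj_fst : j ≫ pullback.fst (X ⊗ Y).hom g = inner := pullback.lift_fst _ _ _
  have hj_snd : j ≫ pullback.snd (X ⊗ Y).hom g =
      pullback.snd X.hom g'' ≫ pullback.snd Y.hom g := pullback.lift_snd _ _ _
  have hj'_fst : j' ≫ pullback.fst X.hom g'' = pullback.fst (X ⊗ Y).hom g ≫ (fst X Y).left :=
    pullback.lift_fst _ _ _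
  have hj'_snd : j' ≫ pullback.snd X.hom g'' =
      pullback.lift (pullback.fst (X ⊗ Y).hom g ≫ (snd X Y).left) (pullback.snd (X ⊗ Y).hom g) c3 :=
    pullback.lift_snd _ _ _
  have e1 : j ≫ j' = 𝟙 _ := by
    apply pullback.hom_ext
    · rw [Category.assoc, hj'_fst, ← Category.assoc, hj_fst, inner_fst, Category.id_comp]
    · rw [Category.assoc, hj'_snd, Category.id_comp]
      apply pullback.hom_ext
      · rw [Category.assoc, pullback.lift_fst, ← Category.assoc, hj_fst, inner_snd]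
      · rw [Category.assoc, pullback.lift_snd, hj_snd]
  have e2 : j' ≫ j = 𝟙 _ := by
    apply pullback.hom_ext
    · rw [Category.assoc, hj_fst, Category.id_comp]
      have h1 : (j' ≫ inner) ≫ (fst X Y).left = pullback.fst (X ⊗ Y).hom g ≫ (fst X Y).left := by
        rw [Category.assoc, inner_fst, hj'_fst]
      have h2 : (j' ≫ inner) ≫ (snd X Y).left = pullback.fst (X ⊗ Y).hom g ≫ (snd X Y).left := by
        rw [Category.assoc, inner_snd, ← Category.assoc, hj'_snd, pullback.lift_fst]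
      rw [Over.fst_left] at h1
      rw [Over.snd_left] at h2
      exact pullback.hom_ext h1 h2
    · rw [Category.assoc, hj_snd, ← Category.assoc, hj'_snd, pullback.lift_snd, Category.id_comp]
  haveI : IsIso j := ⟨j', e1, e2⟩
  apply isSchematicallyDense_of_isIso j
  have e : j ⁻¹ᵁ (pullback.fst (X ⊗ Y).hom g ⁻¹ᵁ ((fst X Y).left ⁻¹ᵁ A)) =
      pullback.fst X.hom g'' ⁻¹ᵁ A := by
    rw [← Scheme.Hom.comp_preimage, ← Scheme.Hom.comp_preimage, hj_fst, inner_fst]
  rw [e]
  exact hA _ g''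

/-! ### maps into a group scheme agreeing on a relatively schematically dense open -/

theorem isSeparated_fibre (H : Over S) [GrpObj H] (s : S) :
    IsSeparated (pullback.snd H.hom (S.fromSpecResidueField s)) := by
  haveI : DiscreteTopology (Spec (S.residueField s)) :=
    inferInstanceAs (DiscreteTopology (PrimeSpectrum (S.residueField s)))
  exact Groth.Agent.Lib.Helper8.isSeparated_of_discrete (Red.bc (S.fromSpecResidueField s) H)

theorem eq_of_eq_on {X : Over S} {A : X.left.Opens} (hA : RelDense X A) (H : Over S) [GrpObj H]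
    (f g : X ⟶ H) (h : subι X A ≫ f = subι X A ≫ g) : f = g :=
  eq_of_eq_on_relSchDense S X H A hA (isSeparated_fibre H) f g (congrArg (fun m => m.left) h)

theorem eq_of_eq_on_open {X : Over S} {A : X.left.Opens} (hA : RelDense X A) (O : X.left.Opens)
    (H : Over S) [GrpObj H] (f g : sub X O ⟶ H)
    (h : subι (sub X O) (O.ι ⁻¹ᵁ A) ≫ f = subι (sub X O) (O.ι ⁻¹ᵁ A) ≫ g) : f = g :=
  eq_of_eq_on (hA.restrict O) H f g h

/-! ### the setting of Weil's theorem -/

section Weil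

variable {G H : Over S} [GrpObj G] [GrpObj H] {U : G.left.Opens} {fbar : sub G U ⟶ H}
  {V : (G ⊗ G).left.Opens}

/-- the hypotheses of Weil's extension theorem. -/
structure Data (G H : Over S) [GrpObj G] [GrpObj H] (U : G.left.Opens) (fbar : sub G U ⟶ H)
    (V : (G ⊗ G).left.Opens) : Prop where
  hU : RelDense G U
  hV : RelDense (G ⊗ G) V
  hV1 : V ≤ (fst G G).left ⁻¹ᵁ U
  hV2 : V ≤ (snd G G).left ⁻¹ᵁ U
  hmul : ∀ (X : Over S) (a b : X ⟶ sub G U),
    Set.range (lift (a ≫ subι G U) (b ≫ subι G U)).left.base ⊆ (V : Set ↥(G ⊗ G).left) →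
    ∃ c : X ⟶ sub G U, c ≫ subι G U = (a ≫ subι G U) * (b ≫ subι G U) ∧
      c ≫ fbar = (a ≫ fbar) * (b ≫ fbar)

variable (G U) in
/-- the open of `G × G` of pairs `(a, b)` with `a`, `b`, `ab` in `U`. -/
noncomputable def W2 : (G ⊗ G).left.Opens :=
  (fst G G).left ⁻¹ᵁ U ⊓ (snd G G).left ⁻¹ᵁ U ⊓ μ[G].left ⁻¹ᵁ U

variable (G U) in
noncomputable def a₀ : sub (G ⊗ G) (W2 G U) ⟶ sub G U :=
  liftSub U (subι _ _ ≫ fst G G) (by rintro _ ⟨x, rfl⟩; exact x.2.1.1)

variable (G U) in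
noncomputable def b₀ : sub (G ⊗ G) (W2 G U) ⟶ sub G U :=
  liftSub U (subι _ _ ≫ snd G G) (by rintro _ ⟨x, rfl⟩; exact x.2.1.2)

variable (G U) in
noncomputable def c₀ : sub (G ⊗ G) (W2 G U) ⟶ sub G U :=
  liftSub U (subι _ _ ≫ μ[G]) (by rintro _ ⟨x, rfl⟩; exact x.2.2)

@[reassoc] theorem a₀_ι : a₀ G U ≫ subι G U = subι _ _ ≫ fst G G := liftSub_ι _ _ _
@[reassoc] theorem b₀_ι : b₀ G U ≫ subι G U = subι _ _ ≫ snd G G := liftSub_ι _ _ _
@[reassoc] theorem c₀_ι : c₀ G U ≫ subι G U = subι _ _ ≫ μ[G] := liftSub_ι _ _ _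

theorem lift_a₀_b₀ : lift (a₀ G U ≫ subι G U) (b₀ G U ≫ subι G U) = subι _ (W2 G U) := by
  apply CartesianMonoidalCategory.hom_ext
  · rw [lift_fst, a₀_ι]
  · rw [lift_snd, b₀_ι]

theorem mul_a₀_b₀ : (a₀ G U ≫ subι G U) * (b₀ G U ≫ subι G U) = c₀ G U ≫ subι G U := by
  rw [c₀_ι, MonObj.mul_eq_mul, MonObj.comp_mul, a₀_ι, b₀_ι]

/-- `f̄` is multiplicative on the universal triple. -/
theorem key1 (D : Data G H U fbar V) :
    c₀ G U ≫ fbar = (a₀ G U ≫ fbar) * (b₀ G U ≫ fbar) := by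
  refine eq_of_eq_on_open D.hV (W2 G U) H _ _ ?_
  set ι₁ := subι (sub (G ⊗ G) (W2 G U)) ((W2 G U).ι ⁻¹ᵁ V) with hι₁
  obtain ⟨c, hc1, hc2⟩ := D.hmul _ (ι₁ ≫ a₀ G U) (ι₁ ≫ b₀ G U) (by
    rintro _ ⟨x, rfl⟩
    have : lift ((ι₁ ≫ a₀ G U) ≫ subι G U) ((ι₁ ≫ b₀ G U) ≫ subι G U) = ι₁ ≫ subι _ (W2 G U) := by
      rw [Category.assoc, Category.assoc, ← comp_lift, lift_a₀_b₀]
    rw [this]
    exact x.2)
  have hc : c = ι₁ ≫ c₀ G U := by
    rw [← cancel_mono (subι G U), hc1, Category.assoc, Category.assoc, Category.assoc,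
      ← MonObj.comp_mul, mul_a₀_b₀]
  rw [MonObj.comp_mul, ← Category.assoc, ← Category.assoc, ← Category.assoc, ← hc2, hc]

/-- the universal property of `W2`. -/
theorem exists_lift_W2 (X : Over S) (a b c : X ⟶ sub G U)
    (h : c ≫ subι G U = (a ≫ subι G U) * (b ≫ subι G U)) :
    ∃ t : X ⟶ sub (G ⊗ G) (W2 G U), t ≫ a₀ G U = a ∧ t ≫ b₀ G U = b ∧ t ≫ c₀ G U = c := by
  have hr : Set.range (lift (a ≫ subι G U) (b ≫ subι G U)).left ⊆ (W2 G U : Set _) := by
    intro y hy
    exact ⟨⟨range_subset_of_fac _ (fst G G) U a (by rw [lift_fst]) hy,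
      range_subset_of_fac _ (snd G G) U b (by rw [lift_snd]) hy⟩,
      range_subset_of_fac _ μ[G] U c (by rw [h, Hom.mul_def]) hy⟩
  let t := liftSub (W2 G U) (lift (a ≫ subι G U) (b ≫ subι G U)) hr
  have ht : t ≫ subι _ _ = lift (a ≫ subι G U) (b ≫ subι G U) := liftSub_ι _ _ _
  have ha : t ≫ a₀ G U = a := by
    rw [← cancel_mono (subι G U), Category.assoc, a₀_ι, ← Category.assoc, ht, lift_fst]
  have hb : t ≫ b₀ G U = b := by
    rw [← cancel_mono (subι G U), Category.assoc, b₀_ι, ← Category.assoc, ht, lift_snd]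
  have hc : t ≫ c₀ G U = c := by
    rw [← cancel_mono (subι G U), Category.assoc, c₀_ι, ← Category.assoc, ht, h, Hom.mul_def]
  exact ⟨t, ha, hb, hc⟩

/-- `f̄` is multiplicative whenever `a`, `b` and `ab` lie in `U`. -/
theorem hmul' (D : Data G H U fbar V) (X : Over S) (a b c : X ⟶ sub G U)
    (h : c ≫ subι G U = (a ≫ subι G U) * (b ≫ subι G U)) :
    c ≫ fbar = (a ≫ fbar) * (b ≫ fbar) := by
  obtain ⟨t, ha, hb, hc⟩ := exists_lift_W2 X a b c h
  rw [← ha, ← hb, ← hc, Category.assoc, key1 D, MonObj.comp_mul, Category.assoc, Category.assoc]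

/-! ### the covering `U × U ⟶ G` -/

variable (G U) in
/-- the multiplication `U × U ⟶ G`. -/
noncomputable def m : sub G U ⊗ sub G U ⟶ G :=
  (fst _ _ ≫ subι G U) * (snd _ _ ≫ subι G U)

variable (fbar) in
/-- `(x, a) ↦ f̄(x) f̄(a)`. -/
noncomputable def ψ : sub G U ⊗ sub G U ⟶ H := (fst _ _ ≫ fbar) * (snd _ _ ≫ fbar)

theorem comp_m {T : Over S} (p : T ⟶ sub G U ⊗ sub G U) :
    p ≫ m G U = ((p ≫ fst _ _) ≫ subι G U) * ((p ≫ snd _ _) ≫ subι G U) := by
  unfold m
  rw [MonObj.comp_mul, Category.assoc, Category.assoc]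

omit [GrpObj G] in
theorem comp_ψ {T : Over S} (p : T ⟶ sub G U ⊗ sub G U) :
    p ≫ ψ fbar = ((p ≫ fst _ _) ≫ fbar) * ((p ≫ snd _ _) ≫ fbar) := by
  unfold ψ
  rw [MonObj.comp_mul, Category.assoc, Category.assoc]

theorem m_eq : m G U = (subι G U ⊗ₘ subι G U) ≫ μ[G] := by
  unfold m
  rw [Hom.mul_def, lift_fst_comp_snd_comp]

theorem prop_mul_left (P : MorphismProperty Scheme.{u}) [P.IsStableUnderBaseChange]
    [P.IsStableUnderComposition] (G : Over S) [GrpObj G] (hG : P G.hom) : P μ[G].left := by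
  let a : G ⊗ G ⟶ G := fst G G * snd G G
  let b : G ⊗ G ⟶ G := (fst G G)⁻¹ * snd G G
  have h1 : lift (fst G G) a ≫ b = snd G G := by
    simp only [a, b]
    rw [MonObj.comp_mul, GrpObj.comp_inv, lift_fst, lift_snd]
    group
  have h2 : lift (fst G G) b ≫ a = snd G G := by
    simp only [a, b]
    rw [MonObj.comp_mul, lift_fst, lift_snd]
    group
  have e1 : lift (fst G G) a ≫ lift (fst G G) b = 𝟙 _ := by
    apply CartesianMonoidalCategory.hom_ext
    · rw [Category.assoc, lift_fst, lift_fst, Category.id_comp]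
    · rw [Category.assoc, lift_snd, h1, Category.id_comp]
  have e2 : lift (fst G G) b ≫ lift (fst G G) a = 𝟙 _ := by
    apply CartesianMonoidalCategory.hom_ext
    · rw [Category.assoc, lift_fst, lift_fst, Category.id_comp]
    · rw [Category.assoc, lift_snd, h2, Category.id_comp]
  have hiso : IsIso (lift (fst G G) a) := ⟨lift (fst G G) b, e1, e2⟩
  have hiso' : IsIso (lift (fst G G) a).left :=
    inferInstanceAs (IsIso ((Over.forget _).map (lift (fst G G) a)))
  have hsnd : P (snd G G).left := by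
    rw [Over.snd_left]
    exact MorphismProperty.pullback_snd _ _ hG
  have : μ[G] = lift (fst G G) a ≫ snd G G := by rw [lift_snd, MonObj.mul_eq_mul]
  rw [this, Over.comp_left, P.cancel_left_of_respectsIso]
  exact hsnd

instance isOpenImmersion_tensorHom_subι :
    IsOpenImmersion (subι G U ⊗ₘ subι G U).left := by
  rw [Over.tensorHom_left]
  infer_instance

instance flat_m [Flat G.hom] : Flat (m G U).left := by
  rw [m_eq, Over.comp_left]
  haveI : Flat μ[G].left := prop_mul_left @Flat G inferInstance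
  infer_instance

instance lfp_m [LocallyOfFinitePresentation G.hom] :
    LocallyOfFinitePresentation (m G U).left := by
  rw [m_eq, Over.comp_left]
  haveI : LocallyOfFinitePresentation μ[G].left :=
    prop_mul_left @LocallyOfFinitePresentation G inferInstance
  infer_instance

/-- every point of `G` is a product of two points of `U` (after a field extension). -/
theorem exists_factor (hU : RelDense G U) (x : G.left) :
    ∃ (T' : Over S) (z z' : T' ⟶ sub G U), Nonempty T'.left ∧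
      ∀ pt : T'.left, ((z ≫ subι G U) * (z' ≫ subι G U)).left pt = x := by
  let T : Over S := Over.mk (G.left.fromSpecResidueField x ≫ G.hom)
  let xt : T ⟶ G := Over.homMk (G.left.fromSpecResidueField x) rfl
  have hxt : xt.left = G.left.fromSpecResidueField x := rfl
  have hdense : Dense ((fst G T).left ⁻¹' (U : Set G.left)) :=
    dense_of_isSchematicallyDense ((fst G T).left ⁻¹ᵁ U) (hU _ T.hom)
  haveI : Nonempty (G ⊗ T).left :=
    ⟨(lift xt (𝟙 T)).left (IsLocalRing.closedPoint (G.left.residueField x))⟩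
  obtain ⟨w, hwU, hwV⟩ := exists_point T xt U hdense
  let T' : Over S := Over.mk ((G ⊗ T).left.fromSpecResidueField w ≫ (G ⊗ T).hom)
  let wt : T' ⟶ G ⊗ T := Over.homMk ((G ⊗ T).left.fromSpecResidueField w) rfl
  have hwt : wt.left = (G ⊗ T).left.fromSpecResidueField w := rfl
  have h1 : Set.range (wt ≫ fst G T).left ⊆ (U : Set G.left) := by
    rintro _ ⟨pt, rfl⟩
    rw [Over.comp_left, Scheme.Hom.comp_apply, hwt, Scheme.fromSpecResidueField_apply]
    exact hwU
  have h2 : Set.range (wt ≫ psi T xt ≫ fst G T).left ⊆ (U : Set G.left) := by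
    rintro _ ⟨pt, rfl⟩
    rw [Over.comp_left, Scheme.Hom.comp_apply, Over.comp_left, Scheme.Hom.comp_apply, hwt,
      Scheme.fromSpecResidueField_apply]
    exact hwV
  refine ⟨T', liftSub U _ h1, liftSub U _ h2,
    ⟨IsLocalRing.closedPoint ((G ⊗ T).left.residueField w)⟩, ?_⟩
  intro pt
  rw [liftSub_ι, liftSub_ι, mul_psi_eq, Over.comp_left, Over.comp_left, Scheme.Hom.comp_apply,
    Scheme.Hom.comp_apply, hxt, Scheme.fromSpecResidueField_apply]

theorem surjective_m (hU : RelDense G U) : Surjective (m G U).left := by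
  constructor
  intro x
  obtain ⟨T', z, z', ⟨pt⟩, h⟩ := exists_factor hU x
  refine ⟨(lift z z').left pt, ?_⟩
  rw [← Scheme.Hom.comp_apply, ← Over.comp_left, comp_m, lift_fst, lift_snd]
  exact h pt

/-! ### the descent condition -/

variable (G) in
noncomputable def πc : G ⊗ (G ⊗ G) ⟶ G := fst G (G ⊗ G)
variable (G) in
noncomputable def πx : G ⊗ (G ⊗ G) ⟶ G := snd G (G ⊗ G) ≫ fst G G
variable (G) in
noncomputable def πb : G ⊗ (G ⊗ G) ⟶ G := snd G (G ⊗ G) ≫ snd G G

variable (G U) in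
/-- the open of `G × (G × G)` of triples `(c, (x, b))` with `x`, `b`, `xc`, `cb` in `U`. -/
noncomputable def W3 : (G ⊗ (G ⊗ G)).left.Opens :=
  (πx G).left ⁻¹ᵁ U ⊓ (πb G).left ⁻¹ᵁ U ⊓ (πx G * πc G).left ⁻¹ᵁ U ⊓ (πc G * πb G).left ⁻¹ᵁ U

variable (G U) in
noncomputable def x₁ : sub _ (W3 G U) ⟶ sub G U :=
  liftSub U (subι _ _ ≫ πx G) (by rintro _ ⟨x, rfl⟩; exact x.2.1.1.1)
variable (G U) in
noncomputable def b₁ : sub _ (W3 G U) ⟶ sub G U :=
  liftSub U (subι _ _ ≫ πb G) (by rintro _ ⟨x, rfl⟩; exact x.2.1.1.2)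
variable (G U) in
noncomputable def y₁ : sub _ (W3 G U) ⟶ sub G U :=
  liftSub U (subι _ _ ≫ (πx G * πc G)) (by rintro _ ⟨x, rfl⟩; exact x.2.1.2)
variable (G U) in
noncomputable def a₁ : sub _ (W3 G U) ⟶ sub G U :=
  liftSub U (subι _ _ ≫ (πc G * πb G)) (by rintro _ ⟨x, rfl⟩; exact x.2.2)

@[reassoc] theorem x₁_ι : x₁ G U ≫ subι G U = subι _ _ ≫ πx G := liftSub_ι _ _ _
@[reassoc] theorem b₁_ι : b₁ G U ≫ subι G U = subι _ _ ≫ πb G := liftSub_ι _ _ _
@[reassoc] theorem y₁_ι : y₁ G U ≫ subι G U = subι _ _ ≫ (πx G * πc G) := liftSub_ι _ _ _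
@[reassoc] theorem a₁_ι : a₁ G U ≫ subι G U = subι _ _ ≫ (πc G * πb G) := liftSub_ι _ _ _

theorem key2 (D : Data G H U fbar V) :
    (x₁ G U ≫ fbar) * (a₁ G U ≫ fbar) = (y₁ G U ≫ fbar) * (b₁ G U ≫ fbar) := by
  refine eq_of_eq_on_open (D.hU.preimage_fst (G ⊗ G)) (W3 G U) H _ _ ?_
  set ι₂ := subι (sub _ (W3 G U)) ((W3 G U).ι ⁻¹ᵁ ((fst G (G ⊗ G)).left ⁻¹ᵁ U)) with hι₂
  let c₂ : _ ⟶ sub G U := liftSub U (ι₂ ≫ subι _ _ ≫ πc G) (by rintro _ ⟨x, rfl⟩; exact x.2)
  have hc₂ : c₂ ≫ subι G U = ι₂ ≫ subι _ _ ≫ πc G := liftSub_ι _ _ _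
  have hy : (ι₂ ≫ y₁ G U) ≫ fbar = ((ι₂ ≫ x₁ G U) ≫ fbar) * (c₂ ≫ fbar) :=
    hmul' D _ _ _ _ (by
      rw [Category.assoc, y₁_ι, hc₂, Category.assoc, x₁_ι, MonObj.comp_mul, MonObj.comp_mul])
  have ha : (ι₂ ≫ a₁ G U) ≫ fbar = (c₂ ≫ fbar) * ((ι₂ ≫ b₁ G U) ≫ fbar) :=
    hmul' D _ _ _ _ (by
      rw [Category.assoc, a₁_ι, hc₂, Category.assoc, b₁_ι, MonObj.comp_mul, MonObj.comp_mul])
  rw [MonObj.comp_mul, MonObj.comp_mul, ← Category.assoc, ← Category.assoc, ← Category.assoc,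
    ← Category.assoc, hy, ha, _root_.mul_assoc]

theorem desc_cond' (D : Data G H U fbar V) (T : Over S) (x a y b : T ⟶ sub G U)
    (h : (x ≫ subι G U) * (a ≫ subι G U) = (y ≫ subι G U) * (b ≫ subι G U)) :
    (x ≫ fbar) * (a ≫ fbar) = (y ≫ fbar) * (b ≫ fbar) := by
  let j := subι G U
  let t₀ : T ⟶ G ⊗ (G ⊗ G) := lift ((x ≫ j)⁻¹ * (y ≫ j)) (lift (x ≫ j) (b ≫ j))
  have h1 : t₀ ≫ πx G = x ≫ j := by
    simp only [t₀, πx]; rw [lift_snd_assoc, lift_fst]
  have h2 : t₀ ≫ πb G = b ≫ j := by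
    simp only [t₀, πb]; rw [lift_snd_assoc, lift_snd]
  have h0 : t₀ ≫ πc G = (x ≫ j)⁻¹ * (y ≫ j) := by
    simp only [t₀, πc]; rw [lift_fst]
  have h3 : t₀ ≫ (πx G * πc G) = y ≫ j := by
    rw [MonObj.comp_mul, h1, h0, mul_inv_cancel_left]
  have h4 : t₀ ≫ (πc G * πb G) = a ≫ j := by
    rw [MonObj.comp_mul, h2, h0, _root_.mul_assoc, ← h, inv_mul_cancel_left]
  have hr : Set.range t₀.left ⊆ (W3 G U : Set _) := by
    intro z hz
    exact ⟨⟨⟨range_subset_of_fac _ (πx G) U x h1 hz, range_subset_of_fac _ (πb G) U b h2 hz⟩,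
      range_subset_of_fac _ (πx G * πc G) U y h3 hz⟩,
      range_subset_of_fac _ (πc G * πb G) U a h4 hz⟩
  let t := liftSub (W3 G U) t₀ hr
  have ht : t ≫ subι _ _ = t₀ := liftSub_ι _ _ _
  have e1 : t ≫ x₁ G U = x := by
    rw [← cancel_mono (subι G U), Category.assoc, x₁_ι, ← Category.assoc, ht, h1]
  have e2 : t ≫ b₁ G U = b := by
    rw [← cancel_mono (subι G U), Category.assoc, b₁_ι, ← Category.assoc, ht, h2]
  have e3 : t ≫ y₁ G U = y := by
    rw [← cancel_mono (subι G U), Category.assoc, y₁_ι, ← Category.assoc, ht, h3]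
  have e4 : t ≫ a₁ G U = a := by
    rw [← cancel_mono (subι G U), Category.assoc, a₁_ι, ← Category.assoc, ht, h4]
  have := congrArg (fun φ => t ≫ φ) (key2 D)
  simp only [MonObj.comp_mul, ← Category.assoc] at this
  rw [e1, e2, e3, e4] at this
  exact this

theorem desc_cond (D : Data G H U fbar V) (T : Over S) (p q : T ⟶ sub G U ⊗ sub G U)
    (h : p ≫ m G U = q ≫ m G U) : p ≫ ψ fbar = q ≫ ψ fbar := by
  have h' := (comp_m p).symm.trans (h.trans (comp_m q))
  exact (comp_ψ p).trans ((desc_cond' D T _ _ _ _ h').trans (comp_ψ q).symm)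

open Groth.Agent.Lib.Helper12.QuotGrp in
/-- the descended morphism. -/
theorem exists_desc [Flat G.hom] [LocallyOfFinitePresentation G.hom] (D : Data G H U fbar V) :
    ∃ f : G ⟶ H, m G U ≫ f = ψ fbar := by
  haveI := surjective_m D.hU
  haveI : EffectiveEpi (m G U).left := (IsCov.of_fppf (m G U)).effectiveEpi
  have h' : ∀ {T' : Scheme.{u}} (a b : T' ⟶ (sub G U ⊗ sub G U).left),
      a ≫ (m G U).left = b ≫ (m G U).left → a ≫ (ψ fbar).left = b ≫ (ψ fbar).left := by
    intro T' a b hab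
    have hb : b ≫ (sub G U ⊗ sub G U).hom = a ≫ (sub G U ⊗ sub G U).hom := by
      rw [← Over.w (m G U), ← Category.assoc, ← hab, Category.assoc]
    have := desc_cond D (Over.mk (a ≫ (sub G U ⊗ sub G U).hom)) (Over.homMk a rfl)
      (Over.homMk b hb) (by ext1; exact hab)
    exact congrArg (fun m => m.left) this
  refine ⟨Over.homMk (EffectiveEpi.desc (m G U).left (ψ fbar).left h') ?_, ?_⟩
  · rw [← cancel_epi (m G U).left, EffectiveEpi.fac_assoc, Over.w (ψ fbar), Over.w (m G U)]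
  · ext1
    exact EffectiveEpi.fac (m G U).left (ψ fbar).left h'

/-! ### the descended morphism extends `f̄` -/

theorem flat_c₀ [Flat G.hom] : Flat (c₀ G U).left := by
  have h : Flat ((c₀ G U).left ≫ U.ι) := by
    have e : (c₀ G U).left ≫ U.ι = (W2 G U).ι ≫ μ[G].left :=
      congrArg (fun m => m.left) (c₀_ι (G := G) (U := U))
    rw [e]
    haveI : Flat μ[G].left := prop_mul_left @Flat G inferInstance
    infer_instance
  exact MorphismProperty.of_postcomp (W := @Flat) (W' := @IsOpenImmersion) (c₀ G U).left U.ι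
    inferInstance h

theorem surjective_c₀ (hU : RelDense G U) : Surjective (c₀ G U).left := by
  constructor
  intro u
  obtain ⟨T', z, z', ⟨pt⟩, h⟩ := exists_factor hU (U.ι u)
  have hr : Set.range ((z ≫ subι G U) * (z' ≫ subι G U)).left ⊆ (U : Set G.left) := by
    rintro _ ⟨pt', rfl⟩
    rw [h pt']
    exact u.2
  obtain ⟨t, -, -, ht⟩ := exists_lift_W2 T' z z' (liftSub U _ hr) (liftSub_ι _ _ _)
  refine ⟨t.left pt, ?_⟩
  apply U.ι.isOpenEmbedding.injective
  have e : (t ≫ c₀ G U ≫ subι G U).left pt = U.ι u := by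
    rw [← Category.assoc, ht, liftSub_ι]
    exact h pt
  exact e

theorem epi_c₀ [Flat G.hom] (hU : RelDense G U) : Epi (c₀ G U) := by
  haveI := flat_c₀ (G := G) (U := U)
  haveI := surjective_c₀ hU
  haveI : Epi (c₀ G U).left := Flat.epi_of_flat_of_surjective _
  exact Over.epi_of_epi_left _

theorem restrict_eq [Flat G.hom] (D : Data G H U fbar V) (f : G ⟶ H)
    (hf : m G U ≫ f = ψ fbar) : subι G U ≫ f = fbar := by
  haveI := epi_c₀ D.hU
  rw [← cancel_epi (c₀ G U)]
  have h1 : lift (a₀ G U) (b₀ G U) ≫ m G U = c₀ G U ≫ subι G U := by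
    rw [comp_m, lift_fst, lift_snd, mul_a₀_b₀]
  rw [← Category.assoc, ← h1, Category.assoc, hf, comp_ψ, lift_fst, lift_snd, key1 D]

/-! ### the extension is a homomorphism -/

theorem mul_hom_of (D : Data G H U fbar V) (f : G ⟶ H) (hf : subι G U ≫ f = fbar) :
    μ[G] ≫ f = (f ⊗ₘ f) ≫ μ[H] := by
  refine eq_of_eq_on D.hV H _ _ ?_
  set ιV := subι (G ⊗ G) V with hιV
  let aV : sub (G ⊗ G) V ⟶ sub G U :=
    liftSub U (ιV ≫ fst G G) (by rintro _ ⟨x, rfl⟩; exact D.hV1 x.2)
  let bV : sub (G ⊗ G) V ⟶ sub G U :=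
    liftSub U (ιV ≫ snd G G) (by rintro _ ⟨x, rfl⟩; exact D.hV2 x.2)
  have haV : aV ≫ subι G U = ιV ≫ fst G G := liftSub_ι _ _ _
  have hbV : bV ≫ subι G U = ιV ≫ snd G G := liftSub_ι _ _ _
  have hl : lift (aV ≫ subι G U) (bV ≫ subι G U) = ιV := by
    apply CartesianMonoidalCategory.hom_ext
    · rw [lift_fst, haV]
    · rw [lift_snd, hbV]
  obtain ⟨c, hc1, hc2⟩ := D.hmul _ aV bV (by
    rw [hl]
    rintro _ ⟨x, rfl⟩
    exact x.2)
  have e1 : ιV ≫ μ[G] = c ≫ subι G U := by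
    rw [hc1, haV, hbV, MonObj.mul_eq_mul, MonObj.comp_mul]
  have e2 : (f ⊗ₘ f) ≫ μ[H] = (fst G G ≫ f) * (snd G G ≫ f) := by
    rw [Hom.mul_def, lift_fst_comp_snd_comp]
  rw [← Category.assoc, e1, Category.assoc, hf, hc2, e2, MonObj.comp_mul, ← hf,
    ← Category.assoc, ← Category.assoc, haV, hbV, Category.assoc, Category.assoc]

theorem isMonHom_of (D : Data G H U fbar V) (f : G ⟶ H) (hf : subι G U ≫ f = fbar) :
    IsMonHom f := by
  have hmulf := mul_hom_of D f hf
  have hm : ∀ {X : Over S} (a b : X ⟶ G), (a * b) ≫ f = (a ≫ f) * (b ≫ f) := by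
    intro X a b
    rw [Hom.mul_def, Category.assoc, hmulf, ← Category.assoc, lift_map, Hom.mul_def]
  refine ⟨?_, hmulf⟩
  have e : (η[G] : 𝟙_ (Over S) ⟶ G) = 1 := by
    rw [Hom.one_def, toUnit_unit, Category.id_comp]
  have e' : (η[H] : 𝟙_ (Over S) ⟶ H) = 1 := by
    rw [Hom.one_def, toUnit_unit, Category.id_comp]
  have h1 : (η[G] ≫ f) * (η[G] ≫ f) = η[G] ≫ f := by
    rw [← hm, e, _root_.one_mul]
  rw [e']
  exact mul_eq_left.mp h1

/-- **Weil's extension theorem.** -/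
theorem weil_extension [Flat G.hom] [LocallyOfFinitePresentation G.hom]
    (D : Data G H U fbar V) :
    ∃! f : G ⟶ H, IsMonHom f ∧ subι G U ≫ f = fbar := by
  obtain ⟨f, hf⟩ := exists_desc D
  have hf' := restrict_eq D f hf
  refine ⟨f, ⟨isMonHom_of D f hf', hf'⟩, ?_⟩
  rintro f' ⟨hf'1, hf'2⟩
  haveI := hf'1
  haveI := isMonHom_of D f hf'
  refine hom_eq_of_eq_on_relSchDense S G H U D.hU f' f ?_
  have := congrArg (fun m => m.left) (hf'2.trans hf'.symm)
  exact this

end Weil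

end Groth.Agent.Lib.T2H3.WeilExt
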