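import Mathlib
import Groth.Prelude.Def_WittGrp
import Groth.Prelude.Def_AlgGrp

/-!
# The Witt group schemes `W_n`: coordinates, the splitting `W_{n+m} ≅ W_n × W_m` of schemes, exactness

Coordinate calculus for points of `W_n` (`ofCoeffs`, `hom_ext_coeff`, `coeff_pts_R`, `coeff_pts_V`),
the morphism `L : W_{n+m} ⟶ W_m` (last `m` coordinates), the isomorphism of `S`-schemes
`splitIso : W_{n+m} ≅ W_n ⊗ W_m`, and the strict exactness of `0 ⟶ W_m ⟶ W_{n+m} ⟶ W_n ⟶ 0`.
-/

set_option autoImplicit false
set_option linter.style.haveILetI false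
universe u

open CategoryTheory CategoryTheory.Limits MonoidalCategory CartesianMonoidalCategory MonObj GrpObj
  AlgebraicGeometry

namespace Groth.Agent.Lib.T2H3.WittSplit

open WittGrp

variable (p : ℕ) [hp : Fact p.Prime] {S : Scheme.{u}}

section Coords

variable {n N : ℕ}

/-- the `i`-th coordinate of a point of `W_n`. -/
noncomputable def cf {T : Over S} (x : T ⟶ W p n S) (i : Fin n) : Γ(T.left, ⊤) :=
  (pts p T (Additive.ofMul x)).coeff i

lemma cf_eq {T : Over S} (x : T ⟶ W p n S) (i : Fin n) : cf p x i = x.left.appTop (coord p i) :=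
  coeff_pts p T x i

lemma hom_ext_cf {T : Over S} {x y : T ⟶ W p n S} (h : ∀ i, cf p x i = cf p y i) : x = y :=
  pts_injective p T (TruncatedWittVector.ext h)

lemma cf_comp {T T' : Over S} (g : T' ⟶ T) (x : T ⟶ W p n S) (i : Fin n) :
    cf p (g ≫ x) i = g.left.appTop (cf p x i) := by
  unfold cf
  rw [pts_comp, coeff_truncMap]

/-- the point of `W_n` with given coordinates. -/
noncomputable def ofCoeffs {T : Over S} (v : Fin n → Γ(T.left, ⊤)) : T ⟶ W p n S :=
  (ptsEquiv p T).symm (Multiplicative.ofAdd (TruncatedWittVector.mk p v))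

lemma cf_ofCoeffs {T : Over S} (v : Fin n → Γ(T.left, ⊤)) (i : Fin n) :
    cf p (ofCoeffs p v) i = v i := by
  unfold cf ofCoeffs
  change (Multiplicative.toAdd ((ptsEquiv p T) ((ptsEquiv p T).symm _))).coeff i = _
  rw [Equiv.apply_symm_apply, toAdd_ofAdd, TruncatedWittVector.coeff_mk]

lemma cf_one {T : Over S} (i : Fin n) : cf p (1 : T ⟶ W p n S) i = 0 := by
  unfold cf
  rw [pts_one]
  exact TruncatedWittVector.coeff_zero p _ _ i

lemma cf_R (h : n ≤ N) {T : Over S} (x : T ⟶ W p N S) (i : Fin n) :
    cf p (x ≫ R p S h) i = cf p x (Fin.castLE h i) := by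
  unfold cf
  rw [pts_R, TruncatedWittVector.coeff_truncate]

lemma cf_V (h : n ≤ N) {T : Over S} (x : T ⟶ W p n S) (i : Fin N) :
    cf p (x ≫ V p S h) i =
      if hi : N - n ≤ (i : ℕ) then cf p x ⟨i - (N - n), by omega⟩ else 0 := by
  unfold cf
  rw [pts_V, coeff_shift]

end Coords

section Split

variable (n m : ℕ)

/-- the last `m` coordinates `W_{n+m} ⟶ W_m` (a morphism of schemes over `S`, not of groups). -/
noncomputable def L : W p (n + m) S ⟶ W p m S :=
  ofCoeffs p fun i : Fin m => coord p (Fin.natAdd n i)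

lemma cf_L {T : Over S} (x : T ⟶ W p (n + m) S) (i : Fin m) :
    cf p (x ≫ L p n m) i = cf p x (Fin.natAdd n i) := by
  rw [cf_comp, L, cf_ofCoeffs, cf_eq]

/-- concatenation `W_n × W_m ⟶ W_{n+m}`. -/
noncomputable def tau : W p n S ⊗ W p m S ⟶ W p (n + m) S :=
  ofCoeffs p (Fin.addCases (fun i : Fin n => cf p (fst (W p n S) (W p m S)) i)
    (fun j : Fin m => cf p (snd (W p n S) (W p m S)) j))

lemma cf_tau_castAdd {T : Over S} (x : T ⟶ W p n S ⊗ W p m S) (i : Fin n) :
    cf p (x ≫ tau p n m) (Fin.castAdd m i) = cf p (x ≫ fst _ _) i := by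
  rw [cf_comp, tau, cf_ofCoeffs, Fin.addCases_left, cf_comp]

lemma cf_tau_natAdd {T : Over S} (x : T ⟶ W p n S ⊗ W p m S) (j : Fin m) :
    cf p (x ≫ tau p n m) (Fin.natAdd n j) = cf p (x ≫ snd _ _) j := by
  rw [cf_comp, tau, cf_ofCoeffs, Fin.addCases_right, cf_comp]

/-- `W_{n+m} ⟶ W_n × W_m`, first `n` and last `m` coordinates. -/
noncomputable def sigma : W p (n + m) S ⟶ W p n S ⊗ W p m S :=
  lift (R p S (Nat.le_add_right n m)) (L p n m)

lemma sigma_tau : sigma p n m ≫ tau p n m = 𝟙 (W p (n + m) S) := by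
  apply hom_ext_cf p
  intro i
  induction i using Fin.addCases with
  | left i =>
    rw [cf_tau_castAdd, sigma, lift_fst]
    have := cf_R p (Nat.le_add_right n m) (𝟙 (W p (n + m) S)) i
    rw [Category.id_comp] at this
    rw [this]
    rfl
  | right j =>
    rw [cf_tau_natAdd, sigma, lift_snd]
    have := cf_L p n m (𝟙 (W p (n + m) S)) j
    rw [Category.id_comp] at this
    exact this

lemma tau_sigma : tau p n m ≫ sigma p n m = 𝟙 (W p n S ⊗ W p m S) := by
  apply CartesianMonoidalCategory.hom_ext
  · rw [Category.assoc, sigma, lift_fst, Category.id_comp]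
    apply hom_ext_cf p
    intro i
    rw [cf_R]
    have := cf_tau_castAdd p n m (𝟙 (W p n S ⊗ W p m S)) i
    rw [Category.id_comp, Category.id_comp] at this
    exact this
  · rw [Category.assoc, sigma, lift_snd, Category.id_comp]
    apply hom_ext_cf p
    intro j
    rw [cf_L]
    have := cf_tau_natAdd p n m (𝟙 (W p n S ⊗ W p m S)) j
    rw [Category.id_comp, Category.id_comp] at this
    exact this

/-- `W_{n+m} ≅ W_n × W_m` as schemes over `S`. -/
noncomputable def splitIso : W p (n + m) S ≅ W p n S ⊗ W p m S where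
  hom := sigma p n m
  inv := tau p n m
  hom_inv_id := sigma_tau p n m
  inv_hom_id := tau_sigma p n m

lemma splitIso_hom_fst : (splitIso p n m).hom ≫ fst _ _ = R p S (Nat.le_add_right n m) :=
  lift_fst _ _

lemma splitIso_hom_snd : (splitIso p n m).hom ≫ snd _ _ = L p n m (S := S) :=
  lift_snd _ _

end Split


section Exact

variable (n m : ℕ)

lemma V_L : V p S (Nat.le_add_left m n) ≫ L p n m = 𝟙 (W p m S) := by
  apply hom_ext_cf p
  intro j
  rw [cf_L]
  have h := cf_V p (Nat.le_add_left m n) (𝟙 (W p m S)) (Fin.natAdd n j)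
  rw [Category.id_comp] at h
  rw [h, dif_pos (by simp)]
  congr 1
  ext
  simp

lemma V_R : V p S (Nat.le_add_left m n) ≫ R p S (Nat.le_add_right n m) = 1 := by
  apply hom_ext_cf p
  intro i
  rw [cf_R, cf_one]
  have h := cf_V p (Nat.le_add_left m n) (𝟙 (W p m S)) (Fin.castLE (Nat.le_add_right n m) i)
  rw [Category.id_comp] at h
  rw [h, dif_neg (by simp)]

/-- a point of `W_{n+m}` with trivial restriction to `W_n` is the shift of its last coordinates. -/
lemma comp_L_V {T : Over S} (x : T ⟶ W p (n + m) S) (hx : x ≫ R p S (Nat.le_add_right n m) = 1) :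
    (x ≫ L p n m) ≫ V p S (Nat.le_add_left m n) = x := by
  apply hom_ext_cf p
  intro i
  rw [cf_V]
  by_cases hi : n + m - m ≤ (i : ℕ)
  · rw [dif_pos hi, cf_L]
    congr 1
    ext
    simp only [Fin.natAdd_mk]
    omega
  · rw [dif_neg hi]
    have hi' : (i : ℕ) < n := by omega
    have h1 := cf_R p (Nat.le_add_right n m) x ⟨i, hi'⟩
    rw [hx, cf_one] at h1
    rw [h1]
    rfl

instance mono_V : Mono (V p S (Nat.le_add_left m n)) :=
  mono_of_mono_fac (V_L p n m)

set_option backward.isDefEq.respectTransparency.types false in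
instance flat_affineSpace_over (I : Type u) (S : Scheme.{u}) : Flat (𝔸(I; S) ↘ S) :=
  MorphismProperty.pullback_fst _ _ <| by
  have := isIso_of_isTerminal specULiftZIsTerminal.{u} terminalIsTerminal (terminal.from _)
  rw [← terminal.comp_from (Spec.map (CommRingCat.ofHom
      (MvPolynomial.C : ULift.{u} ℤ →+* MvPolynomial I (ULift.{u} ℤ)))),
    MorphismProperty.cancel_right_of_respectsIso (P := @Flat),
    HasRingHomProperty.Spec_iff (P := @Flat)]
  change RingHom.Flat (algebraMap (ULift.{u} ℤ) (MvPolynomial I (ULift.{u} ℤ)))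
  exact RingHom.flat_algebraMap_iff.mpr inferInstance

instance flat_W_hom : Flat (W p n S).hom := by
  change Flat (𝔸(ULift.{u} (Fin n); S) ↘ S)
  infer_instance

instance surjective_W_hom : Surjective (W p n S).hom := by
  change Surjective (𝔸(ULift.{u} (Fin n); S) ↘ S)
  infer_instance

instance isAffineHom_W_hom : IsAffineHom (W p n S).hom := by
  change IsAffineHom (𝔸(ULift.{u} (Fin n); S) ↘ S)
  infer_instance

lemma R_eq : R p S (Nat.le_add_right n m) = (splitIso p n m).hom ≫ fst _ _ :=
  (splitIso_hom_fst p n m).symm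

instance flat_R : Flat (R p S (Nat.le_add_right n m)).left := by
  haveI h2 : IsIso (splitIso p n m (S := S)).hom.left :=
    inferInstanceAs (IsIso ((Over.forget _).map (splitIso p n m (S := S)).hom))
  haveI h3 : Flat (fst (W p n S) (W p m S)).left := by
    rw [Over.fst_left]
    exact MorphismProperty.pullback_fst (P := @Flat) _ _ inferInstance
  rw [R_eq, Over.comp_left]
  infer_instance

instance surjective_R : Surjective (R p S (Nat.le_add_right n m)).left := by
  haveI h2 : IsIso (splitIso p n m (S := S)).hom.left :=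
    inferInstanceAs (IsIso ((Over.forget _).map (splitIso p n m (S := S)).hom))
  haveI h3 : Surjective (fst (W p n S) (W p m S)).left := by
    rw [Over.fst_left]
    exact MorphismProperty.pullback_fst (P := @Surjective) _ _ inferInstance
  rw [R_eq, Over.comp_left]
  infer_instance

instance isClosedImmersion_V : IsClosedImmersion (V p S (Nat.le_add_left m n)).left := by
  have h1 : (V p S (Nat.le_add_left m n)).left ≫ (L p n m).left = 𝟙 _ := by
    rw [← Over.comp_left, V_L]
    rfl
  haveI : IsSeparated (L p n m (S := S)).left := by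
    haveI : IsSeparated ((L p n m (S := S)).left ≫ (W p m S).hom) := by
      rw [Over.w]
      infer_instance
    exact IsSeparated.of_comp (L p n m (S := S)).left (W p m S).hom
  haveI : IsClosedImmersion ((V p S (Nat.le_add_left m n)).left ≫ (L p n m).left) := by
    rw [h1]
    infer_instance
  exact IsClosedImmersion.of_comp (V p S (Nat.le_add_left m n)).left (L p n m).left

theorem isKernel_V_R :
    AlgGrp.IsKernel (V p S (Nat.le_add_left m n)) (R p S (Nat.le_add_right n m)) := by
  unfold AlgGrp.IsKernel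
  have hcomm : V p S (Nat.le_add_left m n) ≫ R p S (Nat.le_add_right n m) =
      toUnit (W p m S) ≫ η[W p n S] := by
    rw [V_R, Hom.one_def]
  refine ⟨⟨hcomm⟩, ⟨PullbackCone.IsLimit.mk _ (fun s => s.fst ≫ L p n m) ?_ ?_ ?_⟩⟩
  · intro s
    apply comp_L_V
    rw [s.condition, Hom.one_def]
    congr 1
    exact toUnit_unique _ _
  · intro s
    exact toUnit_unique _ _
  · intro s x hx _
    rw [← hx, Category.assoc, V_L, Category.comp_id]

end Exact

end Groth.Agent.Lib.T2H3.WittSplit
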