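import Mathlib
import Groth.Agent.Lib.T2H3ZeroScheme
import Groth.Agent.Lib.T2H3IntInv

/-!
# Equality of zero schemes of sections of an invertible module on an integral scheme
-/

set_option autoImplicit false
set_option linter.style.haveILetI false
universe u
open CategoryTheory CategoryTheory.Limits AlgebraicGeometry TopologicalSpace Opposite

namespace Groth.Agent.Lib.T2H3.ZeroSchemeEq

open Groth.Agent.Lib.Helper23.SecTw Groth.Agent.Lib.Helper6 Groth.Agent.Lib.Helper23.GenLocus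
open Groth.Agent.Lib.T2H3.ZeroScheme Groth.Agent.Lib.T2H3.IntInv

variable {X : Scheme.{u}}

theorem resf_one' {U V : X.Opens} (h : V ≤ U) : resf h (1 : Γ(X, U)) = 1 :=
  map_one (X.presheaf.map (homOfLE h).op).hom

theorem resf_sub' {U V : X.Opens} (h : V ≤ U) (a b : Γ(X, U)) :
    resf h (a - b) = resf h a - resf h b :=
  map_sub (X.presheaf.map (homOfLE h).op).hom a b

/-- gluing functions over an open cover of `X`. -/
theorem exists_glue_fun {ι : Type u} (W : ι → X.Opens) (hcov : ∀ x : X, ∃ i, x ∈ W i)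
    (u : ∀ i, Γ(X, W i))
    (hcompat : ∀ i j, resf (inf_le_left : W i ⊓ W j ≤ W i) (u i) =
      resf (inf_le_right : W i ⊓ W j ≤ W j) (u j)) :
    ∃ h : Γ(X, ⊤), ∀ i, resf (le_top : W i ≤ ⊤) h = u i := by
  have hcov' : (⊤ : X.Opens) ≤ ⨆ i, W i := fun x _ => by
    obtain ⟨i, hi⟩ := hcov x
    exact Opens.mem_iSup.2 ⟨i, hi⟩
  have hc : TopCat.Presheaf.IsCompatible X.presheaf W u := fun i j => hcompat i j
  obtain ⟨r0, hr0, -⟩ := X.sheaf.existsUnique_gluing' W ⊤ (fun i => homOfLE le_top) hcov' u hc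
  exact ⟨r0, hr0⟩

theorem eq_of_cover_fun {ι : Type u} (W : ι → X.Opens) (hcov : ∀ x : X, ∃ i, x ∈ W i)
    (a b : Γ(X, ⊤)) (h : ∀ i, resf (le_top : W i ≤ ⊤) a = resf (le_top : W i ≤ ⊤) b) : a = b := by
  have hcov' : (⊤ : X.Opens) ≤ ⨆ i, W i := fun x _ => by
    obtain ⟨i, hi⟩ := hcov x
    exact Opens.mem_iSup.2 ⟨i, hi⟩
  exact X.sheaf.eq_of_locally_eq' W ⊤ (fun i => homOfLE le_top) hcov' a b h

variable {L : X.Modules}

/-- the easy direction: unit multiples have the same zero scheme. -/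
theorem zeroScheme_eq_of_unit (s s' : Coh.structureModule X ⟶ L) (h : Γ(X, ⊤)) (hh : IsUnit h)
    (hsv : sv s' ⊤ = h • sv s ⊤) : PicF2.zeroScheme L s' = PicF2.zeroScheme L s := by
  obtain ⟨w, rfl⟩ := hh
  have hU : ∀ U : X.Opens, sv s' U = resf le_top (w : Γ(X, ⊤)) • sv s U := fun U => by
    rw [← res_sv s' (le_top : U ≤ ⊤), ← res_sv s (le_top : U ≤ ⊤), ← res_smul, hsv]
  have hU' : ∀ U : X.Opens, sv s U = resf le_top ((w⁻¹ : (Γ(X, ⊤))ˣ) : Γ(X, ⊤)) • sv s' U := fun U => by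
    rw [hU, smul_smul, ← resf_mul, Units.inv_mul, resf_one', one_smul]
  have hz : ∀ U : X.Opens, zI L s' U = zI L s U := by
    intro U
    ext a
    rw [mem_zI, mem_zI]
    constructor
    · intro ha m
      obtain ⟨b, hb⟩ := ha m
      exact ⟨b * resf le_top (w : Γ(X, ⊤)), by rw [hb, hU, smul_smul]⟩
    · intro ha m
      obtain ⟨b, hb⟩ := ha m
      exact ⟨b * resf le_top ((w⁻¹ : (Γ(X, ⊤))ˣ) : Γ(X, ⊤)), by rw [hb, hU' U, smul_smul]⟩
  unfold PicF2.zeroScheme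
  congr 1
  funext U
  exact hz U.1

section Integral

variable [IsIntegral X] (hL : PicF.IsInvertible L) (s s' : Coh.structureModule X ⟶ L)

include hL in
theorem exists_local_unit (h : PicF2.zeroScheme L s' = PicF2.zeroScheme L s) (x : X) :
    ∃ (W : X.Opens) (_ : x ∈ W) (u : (Γ(X, W))ˣ), sv s' W = (u : Γ(X, W)) • sv s W := by
  obtain ⟨W, e, hxW, hWaff, he⟩ := Groth.Agent.Lib.Helper23.PB.exists_affine_gen L hL x
  haveI : Nonempty W := ⟨⟨x, hxW⟩⟩
  have h1 : zI L s W = Ideal.span {coef he le_rfl (sv s W)} := zI_eq_span L s he (sv_eq_coef_smul s he)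
  have h2 : zI L s' W = Ideal.span {coef he le_rfl (sv s' W)} :=
    zI_eq_span L s' he (sv_eq_coef_smul s' he)
  have h3 : zI L s' W = zI L s W := by
    rw [← zeroScheme_ideal L s' hL ⟨W, hWaff⟩, ← zeroScheme_ideal L s hL ⟨W, hWaff⟩, h]
  rw [h1, h2, Ideal.span_singleton_eq_span_singleton] at h3
  obtain ⟨u, hu⟩ := h3.symm
  refine ⟨W, hxW, u, ?_⟩
  rw [sv_eq_coef_smul s' he, ← hu, mul_comm, mul_smul, ← sv_eq_coef_smul s he]

include hL in
theorem exists_unit_of_zeroScheme_eq (hs : s ≠ 0)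
    (h : PicF2.zeroScheme L s' = PicF2.zeroScheme L s) :
    ∃ g : Γ(X, ⊤), IsUnit g ∧ sv s' ⊤ = g • sv s ⊤ := by
  choose W hxW u hu using exists_local_unit hL s s' h
  have hcov : ∀ x : X, ∃ i, x ∈ W i := fun x => ⟨x, hxW x⟩
  have hc1 : ∀ i j, resf (inf_le_left : W i ⊓ W j ≤ W i) (u i : Γ(X, W i)) =
      resf (inf_le_right : W i ⊓ W j ≤ W j) (u j : Γ(X, W j)) := by
    intro i j
    rw [← sub_eq_zero]
    apply eq_zero_of_smul_sv_eq_zero hL s hs
    have h1 : resf (inf_le_left : W i ⊓ W j ≤ W i) (u i : Γ(X, W i)) • sv s (W i ⊓ W j) =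
        sv s' (W i ⊓ W j) := by
      rw [← res_sv s (inf_le_left : W i ⊓ W j ≤ W i), ← res_smul, ← hu i, res_sv]
    have h2 : resf (inf_le_right : W i ⊓ W j ≤ W j) (u j : Γ(X, W j)) • sv s (W i ⊓ W j) =
        sv s' (W i ⊓ W j) := by
      rw [← res_sv s (inf_le_right : W i ⊓ W j ≤ W j), ← res_smul, ← hu j, res_sv]
    rw [sub_smul, h1, h2, sub_self]
  have hc2 : ∀ i j, resf (inf_le_left : W i ⊓ W j ≤ W i) (((u i)⁻¹ : (Γ(X, W i))ˣ) : Γ(X, W i)) =
      resf (inf_le_right : W i ⊓ W j ≤ W j) (((u j)⁻¹ : (Γ(X, W j))ˣ) : Γ(X, W j)) := by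
    intro i j
    have ha : resf (inf_le_left : W i ⊓ W j ≤ W i) (((u i)⁻¹ : (Γ(X, W i))ˣ) : Γ(X, W i)) *
        resf (inf_le_left : W i ⊓ W j ≤ W i) (u i : Γ(X, W i)) = 1 := by
      rw [← resf_mul, Units.inv_mul, resf_one']
    have hb : resf (inf_le_right : W i ⊓ W j ≤ W j) (u j : Γ(X, W j)) *
        resf (inf_le_right : W i ⊓ W j ≤ W j) (((u j)⁻¹ : (Γ(X, W j))ˣ) : Γ(X, W j)) = 1 := by
      rw [← resf_mul, Units.mul_inv, resf_one']
    calc _ = resf (inf_le_left : W i ⊓ W j ≤ W i) (((u i)⁻¹ : (Γ(X, W i))ˣ) : Γ(X, W i)) *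
          (resf (inf_le_right : W i ⊓ W j ≤ W j) (u j : Γ(X, W j)) *
            resf (inf_le_right : W i ⊓ W j ≤ W j) (((u j)⁻¹ : (Γ(X, W j))ˣ) : Γ(X, W j))) := by
          rw [hb, mul_one]
      _ = _ := by rw [← hc1 i j, ← mul_assoc, ha, one_mul]
  obtain ⟨g, hg⟩ := exists_glue_fun W hcov (fun i => (u i : Γ(X, W i))) hc1
  obtain ⟨g', hg'⟩ := exists_glue_fun W hcov (fun i => (((u i)⁻¹ : (Γ(X, W i))ˣ) : Γ(X, W i))) hc2
  have hgg' : g * g' = 1 := by
    apply eq_of_cover_fun W hcov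
    intro i
    rw [resf_mul, hg i, hg' i, Units.mul_inv, resf_one']
  refine ⟨g, IsUnit.of_mul_eq_one g' hgg', ?_⟩
  rw [← sub_eq_zero]
  apply eq_zero_of_cover L
  intro x _
  refine ⟨W x, le_top, hxW x, ?_⟩
  rw [res_sub, res_smul, res_sv, res_sv, hg x, hu x, sub_self]

end Integral

end Groth.Agent.Lib.T2H3.ZeroSchemeEq
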