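import Groth.Agent.Lib.T2H4TorsionBC3
import Groth.Agent.Lib.Helper10DerComplete6
import Groth.Agent.S7048

/-!
# Derived completion over a Noetherian ring via `K ↦ (Â ⊗_A K)|_A` (helper4, T2H4)

* `exists_homology_unit_iso`: for flat `A → B`, `H^n` of the derived unit `K ⟶ (B ⊗_A K)|_A` is the
  unit of the module `H^n(K)` up to an isomorphism of the target.
* `adic_hs`, `adic_hk`: `A/I ≅ Â/IÂ` for finitely generated `I`.
* `isUniv_uΦ`: the unit `K ⟶ (Â ⊗_A K)|_A` is universal among maps to derived complete complexes.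
* `isDerivedComplete_Φ`: its target is derived complete when `K` has finite cohomology modules.
* `exists_homology_derivedCompletion_equiv` (S7060): `H^n(K^∧) ≃ H^n(K)^`.
-/

set_option autoImplicit false
universe u v w
open CategoryTheory CategoryTheory.Limits DerivedCategory Pretriangulated
attribute [local instance] HasDerivedCategory.standard

namespace Groth.Agent.Lib.T2H4.AdicDC

open Groth.Agent.Lib.Helper17.KInj Groth.Agent.Lib.T2H4.DComp Groth.Agent.Lib.T2H4.RGam
open Groth.Agent.Lib.Helper1.Extend Groth.Agent.Lib.Helper1.LDer Groth.Agent.Lib.T2H4.GNoeth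
open Groth.Agent.Lib.Helper17 Groth.Agent.Lib.T2H4.TorsBC Groth.Agent.Lib.T2H4.FrobRG
  Groth.Agent.Lib.T2H4.TorsBC3 TensorProduct ChangeOfRings

section HomologyUnit

variable {A B : Type u} [CommRing A] [CommRing B] [Algebra A B] [Module.Flat A B]

/-- `M ↦ (B ⊗_A M)|_A` -/
noncomputable abbrev ER (A B : Type u) [CommRing A] [CommRing B] [Algebra A B] :
    ModuleCat.{u} A ⥤ ModuleCat.{u} A :=
  ModuleCat.extendScalars.{u, u, u} (algebraMap A B) ⋙
    ModuleCat.restrictScalars.{u} (algebraMap A B)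

/-- the unit `M ⟶ (B ⊗_A M)|_A` -/
noncomputable abbrev ηM (A B : Type u) [CommRing A] [CommRing B] [Algebra A B] :
    𝟭 (ModuleCat.{u} A) ⟶ ER A B :=
  (ModuleCat.extendRestrictScalarsAdj.{u, u, u} (algebraMap A B)).unit

/-- the termwise unit induces on cohomology the unit of the cohomology module, up to an
isomorphism of the target. -/
lemma homologyMap_unitHC (X : CochainComplex (ModuleCat.{u} A) ℤ) (n : ℤ) :
    ∃ κ : (ER A B).obj (X.homology n) ≅
        (((ModuleCat.restrictScalars.{u} (algebraMap A B)).mapHomologicalComplex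
          (ComplexShape.up ℤ)).obj (((ext A B).mapHomologicalComplex
            (ComplexShape.up ℤ)).obj X)).homology n,
      HomologicalComplex.homologyMap
        ((SerreLoc.unitHC (ModuleCat.extendRestrictScalarsAdj.{u, u, u} (algebraMap A B))
          (ComplexShape.up ℤ)).app X) n = (ηM A B).app (X.homology n) ≫ κ.hom := by
  have h1 := NatTrans.app_homology (ηM A B) (X.sc n)
  let θ := (X.sc n).mapHomologyIso (𝟭 (ModuleCat.{u} A))
  let a₄ := (X.sc n).mapHomologyIso (ER A B)
  refine ⟨(ER A B).mapIso θ ≪≫ a₄.symm, ?_⟩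
  have h3 : ShortComplex.homologyMap ((X.sc n).mapNatTrans (ηM A B)) =
      θ.hom ≫ (ηM A B).app (X.sc n).homology ≫ a₄.inv := by
    rw [h1]
    simp only [Category.assoc, Iso.hom_inv_id_assoc, Iso.hom_inv_id, Category.comp_id, θ, a₄]
  have h4 : θ.hom ≫ (ηM A B).app (X.sc n).homology =
      (ηM A B).app _ ≫ (ER A B).map θ.hom := ((ηM A B).naturality θ.hom)
  show ShortComplex.homologyMap ((X.sc n).mapNatTrans (ηM A B)) = _
  rw [h3, ← Category.assoc, h4]
  simp only [Category.assoc]
  rfl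

/-- `H^n` of the derived unit at `Q X`. -/
lemma exists_homology_unit_iso_Q (X : CochainComplex (ModuleCat.{u} A) ℤ) (n : ℤ) :
    ∃ ψ : (homologyFunctor (ModuleCat.{u} A) n).obj
          ((DRing.restrictD (algebraMap A B)).obj ((extD A B).obj (Q.obj X))) ≅
        (ER A B).obj ((homologyFunctor (ModuleCat.{u} A) n).obj (Q.obj X)),
      (homologyFunctor (ModuleCat.{u} A) n).map ((adjExtFlat A B).unit.app (Q.obj X)) ≫ ψ.hom =
        (ηM A B).app ((homologyFunctor (ModuleCat.{u} A) n).obj (Q.obj X)) := by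
  obtain ⟨κ, hκ⟩ := homologyMap_unitHC (B := B) X n
  let Y := ((ext A B).mapHomologicalComplex (ComplexShape.up ℤ)).obj X
  let Z := ((ModuleCat.restrictScalars.{u} (algebraMap A B)).mapHomologicalComplex
    (ComplexShape.up ℤ)).obj Y
  let u : X ⟶ Z := (SerreLoc.unitHC (ModuleCat.extendRestrictScalarsAdj.{u, u, u}
    (algebraMap A B)) (ComplexShape.up ℤ)).app X
  let a₁ : (DRing.restrictD (algebraMap A B)).obj ((extD A B).obj (Q.obj X)) ≅
      (DRing.restrictD (algebraMap A B)).obj (Q.obj Y) :=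
    (DRing.restrictD (algebraMap A B)).mapIso ((ext A B).mapDerivedCategoryFactors.app X)
  let a₂ : (DRing.restrictD (algebraMap A B)).obj (Q.obj Y) ≅ Q.obj Z :=
    (ModuleCat.restrictScalars.{u} (algebraMap A B)).mapDerivedCategoryFactors.app Y
  have fac : (adjExtFlat A B).unit.app (Q.obj X) ≫ a₁.hom = Q.map u ≫ a₂.inv :=
    adjExtFlat_unit_fac A B X
  have fac' : (adjExtFlat A B).unit.app (Q.obj X) ≫ a₁.hom ≫ a₂.hom = Q.map u := by
    rw [← Category.assoc, fac, Category.assoc, Iso.inv_hom_id, Category.comp_id]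
  let a₃ := (homologyFunctorFactors (ModuleCat.{u} A) n).app Z
  let a₀ := (homologyFunctorFactors (ModuleCat.{u} A) n).app X
  let a₅ : (ER A B).obj (X.homology n) ≅
      (ER A B).obj ((homologyFunctor (ModuleCat.{u} A) n).obj (Q.obj X)) :=
    (ER A B).mapIso a₀.symm
  refine ⟨(homologyFunctor (ModuleCat.{u} A) n).mapIso (a₁ ≪≫ a₂) ≪≫ a₃ ≪≫ κ.symm ≪≫ a₅, ?_⟩
  have n1 : (homologyFunctor (ModuleCat.{u} A) n).map (Q.map u) ≫ a₃.hom =
      a₀.hom ≫ HomologicalComplex.homologyMap u n :=
    (homologyFunctorFactors (ModuleCat.{u} A) n).hom.naturality u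
  have n2 : (ηM A B).app (X.homology n) ≫ a₅.hom =
      a₀.inv ≫ (ηM A B).app ((homologyFunctor (ModuleCat.{u} A) n).obj (Q.obj X)) :=
    ((ηM A B).naturality a₀.inv).symm
  let H := homologyFunctor (ModuleCat.{u} A) n
  show H.map ((adjExtFlat A B).unit.app (Q.obj X)) ≫
      (H.map (a₁.hom ≫ a₂.hom) ≫ a₃.hom ≫ κ.inv ≫ a₅.hom) = _
  have s1 : H.map ((adjExtFlat A B).unit.app (Q.obj X)) ≫ H.map (a₁.hom ≫ a₂.hom) =
      H.map (Q.map u) := by
    rw [← Functor.map_comp, fac']
  have s2 : H.map (Q.map u) ≫ a₃.hom ≫ κ.inv ≫ a₅.hom =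
      a₀.hom ≫ HomologicalComplex.homologyMap u n ≫ κ.inv ≫ a₅.hom :=
    (Category.assoc _ _ _).symm.trans
      ((congrArg (· ≫ (κ.inv ≫ a₅.hom)) n1).trans (Category.assoc _ _ _))
  have s3 : HomologicalComplex.homologyMap u n ≫ κ.inv ≫ a₅.hom =
      (ηM A B).app (X.homology n) ≫ a₅.hom := by
    rw [hκ, Category.assoc, Iso.hom_inv_id_assoc]
  have s4 : a₀.hom ≫ (ηM A B).app (X.homology n) ≫ a₅.hom =
      (ηM A B).app ((homologyFunctor (ModuleCat.{u} A) n).obj (Q.obj X)) := by
    exact (congrArg (a₀.hom ≫ ·) n2).trans (Iso.hom_inv_id_assoc a₀ _)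
  exact ((Category.assoc _ _ _).symm.trans (congrArg (· ≫ (a₃.hom ≫ κ.inv ≫ a₅.hom)) s1)).trans
    (s2.trans ((congrArg (a₀.hom ≫ ·) s3).trans s4))

/-- `H^n` of the derived unit `K ⟶ (B ⊗_A K)|_A` is the unit of `H^n(K)`, up to an isomorphism
of the target. -/
theorem exists_homology_unit_iso (K : Dual.D A) (n : ℤ) :
    ∃ ψ : (homologyFunctor (ModuleCat.{u} A) n).obj
          ((DRing.restrictD (algebraMap A B)).obj ((extD A B).obj K)) ≅
        (ER A B).obj ((homologyFunctor (ModuleCat.{u} A) n).obj K),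
      (homologyFunctor (ModuleCat.{u} A) n).map ((adjExtFlat A B).unit.app K) ≫ ψ.hom =
        (ηM A B).app ((homologyFunctor (ModuleCat.{u} A) n).obj K) := by
  let X := (Q : _ ⥤ Dual.D A).objPreimage K
  let e : (Q : _ ⥤ Dual.D A).obj X ≅ K := Q.objObjPreimageIso K
  obtain ⟨ψ, hψ⟩ := exists_homology_unit_iso_Q (B := B) X n
  let Φ : Dual.D A ⥤ Dual.D A := extD A B ⋙ DRing.restrictD (algebraMap A B)
  let H := homologyFunctor (ModuleCat.{u} A) n
  refine ⟨H.mapIso (Φ.mapIso e.symm) ≪≫ ψ ≪≫ (ER A B).mapIso (H.mapIso e), ?_⟩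
  have n1 : (adjExtFlat A B).unit.app K ≫ Φ.map e.inv =
      e.inv ≫ (adjExtFlat A B).unit.app (Q.obj X) :=
    ((adjExtFlat A B).unit.naturality e.inv).symm
  have n2 : (ηM A B).app (H.obj (Q.obj X)) ≫ (ER A B).map (H.map e.hom) =
      H.map e.hom ≫ (ηM A B).app (H.obj K) :=
    ((ηM A B).naturality (H.map e.hom)).symm
  show H.map ((adjExtFlat A B).unit.app K) ≫
      (H.map (Φ.map e.inv) ≫ ψ.hom ≫ (ER A B).map (H.map e.hom)) = _
  have s1 : H.map ((adjExtFlat A B).unit.app K) ≫ H.map (Φ.map e.inv) =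
      H.map e.inv ≫ H.map ((adjExtFlat A B).unit.app (Q.obj X)) := by
    rw [← Functor.map_comp, n1, Functor.map_comp]
  have s2 : H.map ((adjExtFlat A B).unit.app (Q.obj X)) ≫ ψ.hom ≫ (ER A B).map (H.map e.hom) =
      H.map e.hom ≫ (ηM A B).app (H.obj K) := by
    rw [← Category.assoc, hψ, n2]
  have s3 : H.map e.inv ≫ H.map e.hom ≫ (ηM A B).app (H.obj K) = (ηM A B).app (H.obj K) := by
    rw [← Category.assoc, ← Functor.map_comp, e.inv_hom_id, CategoryTheory.Functor.map_id,
      Category.id_comp]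
  exact ((Category.assoc _ _ _).symm.trans
    ((congrArg (· ≫ (ψ.hom ≫ (ER A B).map (H.map e.hom))) s1).trans (Category.assoc _ _ _))).trans
    ((congrArg (H.map e.inv ≫ ·) s2).trans s3)

end HomologyUnit

section Adic

variable {A : Type u} [CommRing A] (I : Ideal A)

lemma adic_hs (hI : I.FG) : Function.Surjective
    ((Ideal.Quotient.mk (I.map (algebraMap A (AdicCompletion I A)))).comp
      (algebraMap A (AdicCompletion I A))) := by
  intro y
  obtain ⟨x, rfl⟩ := Ideal.Quotient.mk_surjective y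
  obtain ⟨a, ha⟩ := Ideal.Quotient.mk_surjective (AdicCompletion.evalOneₐ I x)
  refine ⟨a, ?_⟩
  rw [RingHom.comp_apply, Ideal.Quotient.eq, ← AdicCompletion.ker_evalOneₐ_eq_map I hI,
    RingHom.mem_ker, map_sub, sub_eq_zero]
  have h1 := RingHom.congr_fun (AdicCompletion.evalOneₐ_comp_algebraMap_eq_mk I) a
  rw [RingHom.comp_apply] at h1
  rw [h1, ha]
  rfl

lemma adic_hk (hI : I.FG) : RingHom.ker
    ((Ideal.Quotient.mk (I.map (algebraMap A (AdicCompletion I A)))).comp
      (algebraMap A (AdicCompletion I A))) = I := by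
  ext a
  rw [RingHom.mem_ker, RingHom.comp_apply, Ideal.Quotient.eq_zero_iff_mem,
    ← AdicCompletion.ker_evalOneₐ_eq_map I hI, RingHom.mem_ker]
  have h1 := RingHom.congr_fun (AdicCompletion.evalOneₐ_comp_algebraMap_eq_mk I) a
  rw [RingHom.comp_apply] at h1
  rw [h1, Ideal.Quotient.eq_zero_iff_mem]

variable [IsNoetherianRing A]

/-- the `Â`-linear identification `Â ⊗_A M ≃ M^` for a finite module `M`. -/
noncomputable def extAdicEquiv (M : Type u) [AddCommGroup M] [Module A M] [Module.Finite A M] :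
    ((ext A (AdicCompletion I A)).obj (ModuleCat.of A M)) ≃ₗ[AdicCompletion I A]
      AdicCompletion I M :=
  (extEquiv M).trans (AdicCompletion.ofTensorProductEquivOfFiniteNoetherian I M)

/-- the `A`-linear identification `(Â ⊗_A M)|_A ≃ M^` for a finite module `M`. -/
noncomputable def erEquiv (M : Type u) [AddCommGroup M] [Module A M] [Module.Finite A M] :
    ((ER A (AdicCompletion I A)).obj (ModuleCat.of A M)) ≃ₗ[A] AdicCompletion I M where
  toFun x := extAdicEquiv I M (show ((ext A (AdicCompletion I A)).obj (ModuleCat.of A M)) from x)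
  invFun y := (extAdicEquiv I M).symm y
  left_inv x := (extAdicEquiv I M).symm_apply_apply _
  right_inv y := (extAdicEquiv I M).apply_symm_apply y
  map_add' x y := (extAdicEquiv I M).map_add _ _
  map_smul' a x := by
    show extAdicEquiv I M ((algebraMap A (AdicCompletion I A) a) •
      (show ((ext A (AdicCompletion I A)).obj (ModuleCat.of A M)) from x)) = _
    rw [map_smul, algebraMap_smul]
    rfl

lemma erEquiv_unit (M : Type u) [AddCommGroup M] [Module A M] [Module.Finite A M] (x : M) :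
    erEquiv I M (((ηM A (AdicCompletion I A)).app (ModuleCat.of A M)).hom x) =
      AdicCompletion.of I M x := by
  show AdicCompletion.ofTensorProductEquivOfFiniteNoetherian I M
    ((1 : AdicCompletion I A) ⊗ₜ[A] x) = _
  rw [AdicCompletion.ofTensorProductEquivOfFiniteNoetherian_apply,
    AdicCompletion.ofTensorProduct_tmul, one_smul]

end Adic

section Completion

open Groth.Agent.Lib.Helper10.DerComplete Groth.Agent.Lib.T2H4.Bousfield

variable {A : Type u} [CommRing A] [IsNoetherianRing A] (I : Ideal A)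

/-- `K ↦ (Â ⊗_A K)|_A`. -/
noncomputable abbrev Φ : Dual.D A ⥤ Dual.D A :=
  extD A (AdicCompletion I A) ⋙ DRing.restrictD (algebraMap A (AdicCompletion I A))

/-- the unit `K ⟶ (Â ⊗_A K)|_A`. -/
noncomputable abbrev uΦ (K : Dual.D A) : K ⟶ (Φ I).obj K :=
  (adjExtFlat A (AdicCompletion I A)).unit.app K

/-- `H^n(Â ⊗_A K) ≃ H^n(K)^` for finite `H^n(K)`, compatibly with the unit. -/
theorem exists_homology_Φ_equiv (K : Dual.D A) (n : ℤ) [Module.Finite A (Dual.HD A K n)] :
    ∃ e : Dual.HD A ((Φ I).obj K) n ≃ₗ[A] AdicCompletion I (Dual.HD A K n),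
      ∀ x : Dual.HD A K n,
        e (((homologyFunctor (ModuleCat.{u} A) n).map (uΦ I K)).hom x) =
          AdicCompletion.of I (Dual.HD A K n) x := by
  obtain ⟨ψ, hψ⟩ := exists_homology_unit_iso (B := AdicCompletion I A) K n
  refine ⟨ψ.toLinearEquiv.trans (erEquiv I (Dual.HD A K n)), fun x => ?_⟩
  have h1 := congrArg (fun t => t.hom x) hψ
  rw [← erEquiv_unit I (Dual.HD A K n) x]
  exact congrArg (erEquiv I (Dual.HD A K n)) h1

/-- `(Â ⊗_A K)|_A` is derived complete when `K` has finite cohomology modules. -/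
theorem isDerivedComplete_Φ (K : Dual.D A) (hK : ∀ n : ℤ, Module.Finite A (Dual.HD A K n)) :
    DRing.IsDerivedComplete I ((Φ I).obj K) := by
  have hI : I.FG := (isNoetherianRing_iff_ideal_fg A).1 inferInstance I
  rw [isDerivedComplete_iff_forall_crit]
  intro f hf i
  haveI := hK i
  obtain ⟨e, -⟩ := exists_homology_Φ_equiv I K i
  haveI : IsAdicComplete I (AdicCompletion I (Dual.HD A K i)) := AdicCompletion.isAdicComplete hI
  have h1 := Groth.Agent.S7048.result I (AdicCompletion I (Dual.HD A K i))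
  have h2 := (isDerivedComplete_iff_crit I _).1 h1 f hf
  exact Crit.of_linearEquiv e.symm h2

/-- the unit `K ⟶ (Â ⊗_A K)|_A` is universal among maps to derived complete complexes. -/
theorem isUniv_uΦ (K : Dual.D A) : IsUniv (DRing.IsDerivedComplete I) (uΦ I K) := by
  obtain ⟨s, hs⟩ := (isNoetherianRing_iff_ideal_fg A).1 inferInstance I
  exact isUniv_of_PTBij I s hs (uΦ I K)
    (ptBij_unit I ⟨s, hs⟩ (adic_hs I ⟨s, hs⟩) (adic_hk I ⟨s, hs⟩) K)

/-- **S7060**. -/
theorem exists_homology_derivedCompletion_equiv [DRing.HasDerivedCompletion I] (K : Dual.D A)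
    (hK : ∀ n : ℤ, Module.Finite A (Dual.HD A K n)) (n : ℤ) :
    ∃ e : Dual.HD A ((DRing.derivedCompletion I).obj K).obj n ≃ₗ[A]
        AdicCompletion I (Dual.HD A K n),
      ∀ x : Dual.HD A K n,
        e (((homologyFunctor (ModuleCat.{u} A) n).map (DRing.toDerivedCompletion I K)).hom x) =
          AdicCompletion.of I (Dual.HD A K n) x := by
  obtain ⟨ε, hε⟩ := IsUniv.exists_iso (isUniv_unit I K) (isUniv_uΦ I K)
    ((DRing.derivedCompletion I).obj K).property (isDerivedComplete_Φ I K hK)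
  haveI := hK n
  obtain ⟨e, he⟩ := exists_homology_Φ_equiv I K n
  refine ⟨((homologyFunctor (ModuleCat.{u} A) n).mapIso ε).toLinearEquiv.trans e, fun x => ?_⟩
  rw [← he x, ← hε, Functor.map_comp]
  rfl

end Completion

end Groth.Agent.Lib.T2H4.AdicDC
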