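import Groth.Agent.Lib.T2H4AdicDC
import Groth.Agent.S7049
import Groth.Agent.S7051
import Groth.Agent.S7053
import Groth.Agent.Lib.Helper19ComplNoeth
import Groth.Agent.Lib.Helper22SigmaComplete
import Groth.Agent.Lib.Helper14ComplLoc

/-!
# Derived complete modules with finite `M/IM` over a Noetherian ring (helper4, T2H4)

* `eq_zero_of_comp_of_eq_zero`: an `A`-linear map `N^ → E` to a derived complete module which kills
  `N` vanishes.
* `exists_extension`: for `N` finite over Noetherian `A`, every map `N → E` to a derived complete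
  module extends to `N^`.
* `isAdicComplete_and_finite` (S7059): a derived complete module `M` with `M/IM` finite is
  `I`-adically complete and `M^` is finite over `A^`.
-/

set_option autoImplicit false
universe u v w
open CategoryTheory CategoryTheory.Limits DerivedCategory Pretriangulated
attribute [local instance] HasDerivedCategory.standard

namespace Groth.Agent.Lib.T2H4.AdicDC

open Groth.Agent.Lib.Helper1.Extend Groth.Agent.Lib.T2H4.GNoeth
open Groth.Agent.Lib.T2H4.TorsBC Groth.Agent.Lib.T2H4.TorsBC3 TensorProduct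
open Groth.Agent.Lib.Helper10.DerComplete Groth.Agent.Lib.T2H4.Bousfield

section Uniq

variable {A : Type u} [CommRing A] (I : Ideal A)

lemma adic_range_of_sup (hI : I.FG) (N : Type u) [AddCommGroup N] [Module A N] :
    LinearMap.range (AdicCompletion.of I N) ⊔ I • (⊤ : Submodule A (AdicCompletion I N)) = ⊤ := by
  rw [eq_top_iff]
  rintro y -
  obtain ⟨m, hm⟩ := Submodule.Quotient.mk_surjective _ (AdicCompletion.eval I N 1 y)
  have h1 : y - AdicCompletion.of I N m ∈ LinearMap.ker (AdicCompletion.eval I N 1) := by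
    rw [LinearMap.mem_ker, map_sub, sub_eq_zero, ← hm]
    rfl
  rw [← AdicCompletion.pow_smul_top_eq_ker_eval hI, pow_one] at h1
  have : y = AdicCompletion.of I N m + (y - AdicCompletion.of I N m) := by abel
  rw [this]
  exact Submodule.add_mem_sup ⟨m, rfl⟩ h1

/-- an `A`-linear map from `N^` to a derived complete module which kills `N` is zero. -/
theorem eq_zero_of_comp_of_eq_zero (hI : I.FG) (N : Type u) [AddCommGroup N] [Module A N]
    (E : Type u) [AddCommGroup E] [Module A E] (hE : DRing.IsDerivedComplete I (Dual.inD A E))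
    (d : AdicCompletion I N →ₗ[A] E) (hd : ∀ n : N, d (AdicCompletion.of I N n) = 0) : d = 0 := by
  haveI : IsAdicComplete I (AdicCompletion I N) := AdicCompletion.isAdicComplete hI
  have hN := Groth.Agent.S7048.result I (AdicCompletion I N)
  have hK := (Groth.Agent.S7051.result I _ _ d hN hE).1
  have hQ := (Groth.Agent.S7051.result I _ _ (LinearMap.ker d).subtype hK hN).2
  have htop : I • (⊤ : Submodule A (AdicCompletion I N ⧸ LinearMap.range (LinearMap.ker d).subtype))
      = ⊤ := by
    rw [eq_top_iff]
    rintro x -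
    obtain ⟨y, rfl⟩ := Submodule.Quotient.mk_surjective _ x
    have hy : y ∈ LinearMap.range (AdicCompletion.of I N) ⊔
        I • (⊤ : Submodule A (AdicCompletion I N)) := by
      rw [adic_range_of_sup I hI N]
      trivial
    obtain ⟨y₁, ⟨n, rfl⟩, y₂, hy₂, rfl⟩ := Submodule.mem_sup.1 hy
    have h0 : Submodule.Quotient.mk (p := LinearMap.range (LinearMap.ker d).subtype)
        (AdicCompletion.of I N n) = 0 := by
      rw [Submodule.Quotient.mk_eq_zero]
      exact ⟨⟨_, hd n⟩, rfl⟩
    rw [Submodule.Quotient.mk_add, h0, zero_add]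
    have := Submodule.mem_map_of_mem (f := (LinearMap.range (LinearMap.ker d).subtype).mkQ) hy₂
    rw [Submodule.map_smul''] at this
    exact Submodule.smul_mono le_rfl le_top this
  haveI := Groth.Agent.S7053.result I hI _ hQ htop
  apply LinearMap.ext
  intro y
  have h1 : Submodule.Quotient.mk (p := LinearMap.range (LinearMap.ker d).subtype) y = 0 :=
    Subsingleton.elim _ _
  rw [Submodule.Quotient.mk_eq_zero] at h1
  obtain ⟨z, rfl⟩ := h1
  exact z.2

end Uniq

section Exist

variable {A : Type u} [CommRing A] [IsNoetherianRing A] (I : Ideal A)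

/-- every `A`-linear map from a finite module `N` to a derived complete module extends to `N^`. -/
theorem exists_extension (N : Type u) [AddCommGroup N] [Module A N] [Module.Finite A N]
    (E : Type u) [AddCommGroup E] [Module A E] (hE : DRing.IsDerivedComplete I (Dual.inD A E))
    (φ : N →ₗ[A] E) :
    ∃ c : AdicCompletion I N →ₗ[A] E, ∀ y : N, c (AdicCompletion.of I N y) = φ y := by
  let S := DerivedCategory.singleFunctor (ModuleCat.{u} A) 0
  let H := homologyFunctor (ModuleCat.{u} A) 0
  let ι := DerivedCategory.singleFunctorCompHomologyFunctorIso (ModuleCat.{u} A) 0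
  let φ' : ModuleCat.of A N ⟶ ModuleCat.of A E := ModuleCat.ofHom φ
  obtain ⟨g, hg⟩ := (isUniv_uΦ I (Dual.inD A N) (Dual.inD A E) hE).2 (S.map φ')
  have hg' : uΦ I (Dual.inD A N) ≫ g = S.map φ' := hg
  let ιN : Dual.HD A (Dual.inD A N) 0 ≃ₗ[A] N := (ι.app (ModuleCat.of A N)).toLinearEquiv
  let ιE : Dual.HD A (Dual.inD A E) 0 ≃ₗ[A] E := (ι.app (ModuleCat.of A E)).toLinearEquiv
  haveI : Module.Finite A (Dual.HD A (Dual.inD A N) 0) := Module.Finite.equiv ιN.symm
  obtain ⟨e, he⟩ := exists_homology_Φ_equiv I (Dual.inD A N) 0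
  refine ⟨ιE.toLinearMap ∘ₗ (H.map g).hom ∘ₗ e.symm.toLinearMap ∘ₗ
      (AdicCompletion.map I ιN.symm.toLinearMap).restrictScalars A, fun y => ?_⟩
  show ιE ((H.map g).hom (e.symm (AdicCompletion.map I ιN.symm.toLinearMap
    (AdicCompletion.of I N y)))) = φ y
  rw [AdicCompletion.map_of]
  have h1 : e.symm (AdicCompletion.of I _ (ιN.symm y)) =
      (H.map (uΦ I (Dual.inD A N))).hom (ιN.symm y) := by
    rw [LinearEquiv.symm_apply_eq]
    exact (he _).symm
  have h1' : e.symm (AdicCompletion.of I _ (ιN.symm.toLinearMap y)) =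
      (H.map (uΦ I (Dual.inD A N))).hom (ιN.symm y) := h1
  rw [h1']
  have h2 : (H.map g).hom ((H.map (uΦ I (Dual.inD A N))).hom (ιN.symm y)) =
      (H.map (S.map φ')).hom (ιN.symm y) := by
    rw [← hg', Functor.map_comp]
    rfl
  rw [h2]
  have h3 := ι.hom.naturality φ'
  have h4 := congrArg (fun t => t.hom (ιN.symm y)) h3
  refine h4.trans ?_
  show φ (ιN (ιN.symm y)) = φ y
  rw [LinearEquiv.apply_symm_apply]

end Exist

section Main

variable {A : Type u} [CommRing A] [IsNoetherianRing A] (I : Ideal A)

omit [IsNoetherianRing A] in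
/-- generators mod `I`. -/
lemma exists_gens (M : Type u) [AddCommGroup M] [Module A M]
    (hf : Module.Finite A (M ⧸ I • (⊤ : Submodule A M))) :
    ∃ (t : ℕ) (φ : (Fin t → A) →ₗ[A] M), LinearMap.range φ ⊔ I • (⊤ : Submodule A M) = ⊤ := by
  obtain ⟨t, g, hg⟩ := Module.Finite.exists_fin (R := A) (M := M ⧸ I • (⊤ : Submodule A M))
  choose x hx using fun i => Submodule.Quotient.mk_surjective _ (g i)
  refine ⟨t, Fintype.linearCombination A x, ?_⟩
  rw [Fintype.range_linearCombination, sup_comm, ← Submodule.map_mkQ_eq_top, Submodule.map_span,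
    ← Set.range_comp]
  have : (I • (⊤ : Submodule A M)).mkQ ∘ x = g := funext hx
  rw [this, hg]

theorem surjective_extension (M : Type u) [AddCommGroup M] [Module A M]
    (hc : DRing.IsDerivedComplete I (Dual.inD A M)) (N : Type u) [AddCommGroup N] [Module A N]
    (φ : N →ₗ[A] M) (hφ : LinearMap.range φ ⊔ I • (⊤ : Submodule A M) = ⊤)
    (c : AdicCompletion I N →ₗ[A] M) (hcφ : ∀ y, c (AdicCompletion.of I N y) = φ y) :
    Function.Surjective c := by
  have hI : I.FG := IsNoetherian.noetherian I
  haveI : IsAdicComplete I (AdicCompletion I N) := AdicCompletion.isAdicComplete hI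
  have hN := Groth.Agent.S7048.result I (AdicCompletion I N)
  have hQ := (Groth.Agent.S7051.result I _ _ c hN hc).2
  have htop : I • (⊤ : Submodule A (M ⧸ LinearMap.range c)) = ⊤ := by
    rw [eq_top_iff]
    rintro x -
    obtain ⟨m, rfl⟩ := Submodule.Quotient.mk_surjective _ x
    have hm : m ∈ LinearMap.range φ ⊔ I • (⊤ : Submodule A M) := by rw [hφ]; trivial
    obtain ⟨m₁, ⟨n, rfl⟩, m₂, hm₂, rfl⟩ := Submodule.mem_sup.1 hm
    have h0 : Submodule.Quotient.mk (p := LinearMap.range c) (φ n) = 0 := by
      rw [Submodule.Quotient.mk_eq_zero]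
      exact ⟨_, hcφ n⟩
    rw [Submodule.Quotient.mk_add, h0, zero_add]
    have := Submodule.mem_map_of_mem (f := (LinearMap.range c).mkQ) hm₂
    rw [Submodule.map_smul''] at this
    exact Submodule.smul_mono le_rfl le_top this
  haveI := Groth.Agent.S7053.result I hI _ hQ htop
  intro m
  have h1 : Submodule.Quotient.mk (p := LinearMap.range c) m = 0 := Subsingleton.elim _ _
  rw [Submodule.Quotient.mk_eq_zero] at h1
  exact h1

lemma smul_mem_ker (N : Type u) [AddCommGroup N] [Module A N]
    (M : Type u) [AddCommGroup M] [Module A M]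
    (hc : DRing.IsDerivedComplete I (Dual.inD A M))
    (c : AdicCompletion I N →ₗ[A] M) (y : AdicCompletion I N) (hy : c y = 0)
    (a : AdicCompletion I A) : c (a • y) = 0 := by
  have hI : I.FG := IsNoetherian.noetherian I
  let d : AdicCompletion I A →ₗ[A] M := c ∘ₗ
    ((LinearMap.toSpanSingleton (AdicCompletion I A) (AdicCompletion I N) y).restrictScalars A)
  have hd : ∀ r : A, d (AdicCompletion.of I A r) = 0 := by
    intro r
    show c ((AdicCompletion.of I A r) • y) = 0
    have : (AdicCompletion.of I A r) • y = r • y :=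
      algebraMap_smul (AdicCompletion I A) r y
    rw [this, map_smul, hy, smul_zero]
  have := eq_zero_of_comp_of_eq_zero I hI A M hc d hd
  exact LinearMap.congr_fun this a

/-- the kernel of an `A`-linear map `N^ → M` to a derived complete module, as an
`A^`-submodule. -/
def kerSub (N : Type u) [AddCommGroup N] [Module A N]
    (M : Type u) [AddCommGroup M] [Module A M]
    (hc : DRing.IsDerivedComplete I (Dual.inD A M))
    (c : AdicCompletion I N →ₗ[A] M) : Submodule (AdicCompletion I A) (AdicCompletion I N) where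
  carrier := {y | c y = 0}
  add_mem' := by
    intro a b ha hb
    show c (a + b) = 0
    rw [map_add, show c a = 0 from ha, show c b = 0 from hb, add_zero]
  zero_mem' := map_zero c
  smul_mem' := fun a y hy => smul_mem_ker I N M hc c y hy a

theorem isAdicComplete_and_finite (M : Type u) [AddCommGroup M] [Module A M]
    (hc : DRing.IsDerivedComplete I (Dual.inD A M))
    (hf : Module.Finite A (M ⧸ I • (⊤ : Submodule A M))) :
    IsAdicComplete I M ∧ Module.Finite (AdicCompletion I A) (AdicCompletion I M) := by
  have hI : I.FG := IsNoetherian.noetherian I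
  obtain ⟨t, φ, hφ⟩ := exists_gens I M hf
  obtain ⟨c, hcφ⟩ := exists_extension I (Fin t → A) M hc φ
  have hsurj := surjective_extension I M hc (Fin t → A) φ hφ c hcφ
  haveI : IsNoetherianRing (AdicCompletion I A) :=
    Groth.Agent.Lib.Helper19.isNoetherianRing_adicCompletion I
  haveI : Module.Finite (AdicCompletion I A) (AdicCompletion I (Fin t → A)) :=
    Module.Finite.of_surjective (AdicCompletion.ofTensorProduct I (Fin t → A))
      (AdicCompletion.ofTensorProduct_surjective_of_finite I _)
  let K' := kerSub I (Fin t → A) M hc c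
  haveI : IsAdicComplete (I.map (algebraMap A (AdicCompletion I A))) (AdicCompletion I A) :=
    AdicCompletion.isAdicComplete_self I hI
  have hjac : I.map (algebraMap A (AdicCompletion I A)) ≤ Ideal.jacobson ⊥ :=
    IsAdicComplete.le_jacobson_bot _
  have hH1 : IsHausdorff (I.map (algebraMap A (AdicCompletion I A)))
      (AdicCompletion I (Fin t → A) ⧸ K') := IsHausdorff.of_le_jacobson _ _ hjac
  have hH2 : IsHausdorff I (AdicCompletion I (Fin t → A) ⧸ K') :=
    IsHausdorff.map_algebraMap_iff.mp hH1
  have hHM : IsHausdorff I M := by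
    refine ⟨fun x hx => ?_⟩
    obtain ⟨y, rfl⟩ := hsurj x
    have hy : (Submodule.Quotient.mk y : AdicCompletion I (Fin t → A) ⧸ K') = 0 := by
      apply IsHausdorff.haus hH2
      intro n
      rw [SModEq.zero]
      have hxn : c y ∈ (I ^ n • ⊤ : Submodule A M) := (SModEq.zero.1 (hx n))
      have : (I ^ n • ⊤ : Submodule A M) = Submodule.map c (I ^ n • ⊤) := by
        rw [Submodule.map_smul'', Submodule.map_top, LinearMap.range_eq_top.2 hsurj]
      rw [this] at hxn
      obtain ⟨yn, hyn, hcy⟩ := hxn
      have h1 : y - yn ∈ K' := by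
        show c (y - yn) = 0
        rw [map_sub, hcy, sub_self]
      have h2 : (Submodule.Quotient.mk y : AdicCompletion I (Fin t → A) ⧸ K') =
          Submodule.Quotient.mk yn := (Submodule.Quotient.eq K').2 h1
      rw [h2]
      have := Submodule.mem_map_of_mem (f := (K'.mkQ).restrictScalars A) hyn
      rw [Submodule.map_smul''] at this
      exact Submodule.smul_mono le_rfl le_top this
    exact (Submodule.Quotient.mk_eq_zero K').1 hy
  have hP : IsPrecomplete I M :=
    AdicCompletion.of_surjective_iff.1 (Groth.Agent.S7049.result I hI M hc)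
  refine ⟨{ toIsHausdorff := hHM, toIsPrecomplete := hP }, ?_⟩
  haveI : IsAdicComplete I (AdicCompletion I M) := AdicCompletion.isAdicComplete hI
  have hMh := Groth.Agent.S7048.result I (AdicCompletion I M)
  let d : AdicCompletion I (Fin t → A) →ₗ[A] AdicCompletion I M :=
    (AdicCompletion.map I φ).restrictScalars A - (AdicCompletion.of I M) ∘ₗ c
  have hd : ∀ n, d (AdicCompletion.of I _ n) = 0 := by
    intro n
    show AdicCompletion.map I φ (AdicCompletion.of I _ n) -
      AdicCompletion.of I M (c (AdicCompletion.of I _ n)) = 0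
    rw [AdicCompletion.map_of, hcφ, sub_self]
  have hd0 := eq_zero_of_comp_of_eq_zero I hI (Fin t → A) (AdicCompletion I M) hMh d hd
  have hmapsurj : Function.Surjective (AdicCompletion.map I φ) := by
    intro z
    obtain ⟨m, rfl⟩ := Groth.Agent.S7049.result I hI M hc z
    obtain ⟨y, rfl⟩ := hsurj m
    refine ⟨y, ?_⟩
    have := LinearMap.congr_fun hd0 y
    exact sub_eq_zero.1 this
  exact Module.Finite.of_surjective (AdicCompletion.map I φ) hmapsurj

end Main

end Groth.Agent.Lib.T2H4.AdicDC
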