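import Mathlib

/-!
# Standard coverings of affine opens of a scheme (helper4)
-/

set_option autoImplicit false
universe u
open CategoryTheory AlgebraicGeometry Opposite TopologicalSpace

namespace Groth.Agent.Lib.T2H4.AffBasisA

variable {X : Scheme.{u}}

/-- the basic open of a function on an affine open, as an affine open -/
noncomputable def D (U : X.affineOpens) (f : Γ(X, U.1)) : X.affineOpens :=
  ⟨X.basicOpen f, U.2.basicOpen f⟩

@[simp] lemma D_coe (U : X.affineOpens) (f : Γ(X, U.1)) : ((D U f : X.affineOpens) : X.Opens) =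
    X.basicOpen f := rfl

lemma D_le (U : X.affineOpens) (f : Γ(X, U.1)) : (D U f).1 ≤ U.1 := X.basicOpen_le f

/-- restriction of functions -/
noncomputable def ρ {U V : X.Opens} (h : V ≤ U) : Γ(X, U) →+* Γ(X, V) :=
  (X.presheaf.map (homOfLE h).op).hom

lemma basicOpen_ρ {U V : X.Opens} (h : V ≤ U) (f : Γ(X, U)) :
    X.basicOpen (ρ h f) = V ⊓ X.basicOpen f :=
  X.basicOpen_res f (homOfLE h).op

lemma ρ_ρ {U V W : X.Opens} (h : V ≤ U) (h' : W ≤ V) (f : Γ(X, U)) :
    ρ h' (ρ h f) = ρ (h'.trans h) f := by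
  have := ConcreteCategory.congr_hom (X.presheaf.map_comp (homOfLE h).op (homOfLE h').op) f
  exact this.symm

/-- a function is invertible on any open inside its basic open -/
lemma isUnit_ρ {U T : X.Opens} (g : Γ(X, U)) (hT : T ≤ X.basicOpen g) (h : T ≤ U) :
    IsUnit (ρ h g) := by
  have h1 : IsUnit (ρ (X.basicOpen_le g) g) := X.toRingedSpace.isUnit_res_basicOpen g
  have h2 : ρ h g = ρ hT (ρ (X.basicOpen_le g) g) := (ρ_ρ _ _ _).symm
  rw [h2]
  exact h1.map _

/-- if `a * g + b * h = 1` then the basic opens of `g` and `h` cover -/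
lemma le_basicOpen_sup (U : X.Opens) (g h a b : Γ(X, U)) (e : a * g + b * h = 1) :
    U ≤ X.basicOpen g ⊔ X.basicOpen h := by
  intro x hx
  have e' := congrArg (X.presheaf.germ U x hx).hom e
  rw [map_add, map_mul, map_mul, map_one] at e'
  rcases IsLocalRing.isUnit_or_isUnit_of_add_one e' with h1 | h1
  · left
    exact (X.mem_basicOpen g x hx).2 (isUnit_of_mul_isUnit_right h1)
  · right
    exact (X.mem_basicOpen h x hx).2 (isUnit_of_mul_isUnit_right h1)

/-- restrictions of functions generating `g` generate the unit ideal inside the basic open of `g` -/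
lemma span_ρ_eq_top {n : ℕ} {U T : X.Opens} (f c : Fin n → Γ(X, U))
    (hT : T ≤ X.basicOpen (∑ i, c i * f i)) (h : T ≤ U) :
    Ideal.span (Set.range fun i => ρ h (f i)) = ⊤ := by
  have h1 := isUnit_ρ (∑ i, c i * f i) hT h
  rw [map_sum] at h1
  apply Ideal.eq_top_of_isUnit_mem _ _ h1
  refine Ideal.sum_mem _ (fun i _ => ?_)
  rw [map_mul]
  exact Ideal.mul_mem_left _ _ (Ideal.subset_span ⟨i, rfl⟩)

/-- every covering of an affine open by opens is refined by a finite standard covering -/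
theorem exists_standard_refinement (U : X.affineOpens) {ι : Type*} (V : ι → X.Opens)
    (hcov : U.1 ≤ ⨆ i, V i) :
    ∃ (n : ℕ) (f : Fin n → Γ(X, U.1)), Ideal.span (Set.range f) = ⊤ ∧
      ∀ k, ∃ i, X.basicOpen (f k) ≤ V i := by
  have hU := U.2
  -- choose for each point of `U` a basic open around it inside some member
  have hx : ∀ x : U.1, ∃ (i : ι) (f : Γ(X, U.1)), X.basicOpen f ≤ V i ∧ x.1 ∈ X.basicOpen f := by
    intro x
    obtain ⟨i, hi⟩ := Opens.mem_iSup.1 (hcov x.2)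
    obtain ⟨f, hf1, hf2⟩ := hU.exists_basicOpen_le (V := V i) ⟨x.1, hi⟩ x.2
    exact ⟨i, f, hf1, hf2⟩
  choose i f hf1 hf2 using hx
  obtain ⟨t, ht⟩ := hU.isCompact.elim_finite_subcover (fun x : U.1 => (X.basicOpen (f x) : Set X))
    (fun x => (X.basicOpen (f x)).isOpen) (fun y hy => Set.mem_iUnion.2 ⟨⟨y, hy⟩, hf2 ⟨y, hy⟩⟩)
  let e := t.equivFin
  refine ⟨t.card, fun k => f (e.symm k).1, ?_, fun k => ⟨i (e.symm k).1, hf1 _⟩⟩
  rw [← hU.self_le_iSup_basicOpen_iff]
  intro y hy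
  obtain ⟨x, hx⟩ := Set.mem_iUnion.1 (ht hy)
  obtain ⟨hxt, hyx⟩ := Set.mem_iUnion.1 hx
  refine Opens.mem_iSup.2 ⟨⟨f x, ⟨e ⟨x, hxt⟩, ?_⟩⟩, hyx⟩
  simp

end Groth.Agent.Lib.T2H4.AffBasisA
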