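import Mathlib
import Groth.Prelude.Def_W4stktopologysheavesBas
import Groth.Agent.Lib.Helper11ShB
import Groth.Agent.Lib.T2H4AffBasisA

/-!
# Presheaves on the affine opens of a scheme: pair gluing implies the sheaf condition (helper4)
-/

set_option autoImplicit false
universe u
open CategoryTheory AlgebraicGeometry Opposite TopologicalSpace

namespace Groth.Agent.Lib.T2H4.AffBasisB
open Groth.Agent.Lib.T2H4.AffBasisA Groth.Agent.Lib.Helper11

variable {X : Scheme.{u}} (Fp : ShB.Pre (X.affineOpens : Set (Opens ↥X)))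

/-- separatedness for pairs of basic opens covering an affine open -/
def PairInj : Prop :=
  ∀ (U : X.affineOpens) (g h : Γ(X, U.1)) (V W : X.affineOpens)
    (_ : V.1 = X.basicOpen g) (_ : W.1 = X.basicOpen h) (_ : U.1 ≤ V.1 ⊔ W.1)
    (hVU : V.1 ≤ U.1) (hWU : W.1 ≤ U.1) (s s' : Fp.obj U),
    Fp.res hVU s = Fp.res hVU s' → Fp.res hWU s = Fp.res hWU s' → s = s'

/-- gluing for pairs of basic opens covering an affine open -/
def PairGlue : Prop :=
  ∀ (U : X.affineOpens) (g h : Γ(X, U.1)) (V W VW : X.affineOpens)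
    (_ : V.1 = X.basicOpen g) (_ : W.1 = X.basicOpen h) (_ : VW.1 = X.basicOpen (g * h))
    (_ : U.1 ≤ V.1 ⊔ W.1)
    (hVU : V.1 ≤ U.1) (hWU : W.1 ≤ U.1) (h1 : VW.1 ≤ V.1) (h2 : VW.1 ≤ W.1)
    (a : Fp.obj V) (b : Fp.obj W), Fp.res h1 a = Fp.res h2 b →
    ∃ s : Fp.obj U, Fp.res hVU s = a ∧ Fp.res hWU s = b

/-- the value on an empty affine open is a singleton -/
def EmptyOne : Prop :=
  ∀ U : X.affineOpens, U.1 = ⊥ → Nonempty (Fp.obj U) ∧ Subsingleton (Fp.obj U)

/-- the statement of unique gluing for standard coverings by `n` basic opens -/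
def StdGlue (n : ℕ) : Prop :=
  ∀ (U : X.affineOpens) (f : Fin n → Γ(X, U.1)), Ideal.span (Set.range f) = ⊤ →
    ∀ (V : Fin n → X.affineOpens) (_ : ∀ i, (V i).1 = X.basicOpen (f i)),
    (∀ s s' : Fp.obj U, (∀ i (h : (V i).1 ≤ U.1), Fp.res h s = Fp.res h s') → s = s') ∧
    (∀ σ : ∀ i, Fp.obj (V i),
      (∀ i j (b : X.affineOpens) (h1 : b.1 ≤ (V i).1) (h2 : b.1 ≤ (V j).1),
        Fp.res h1 (σ i) = Fp.res h2 (σ j)) →
      ∃ t : Fp.obj U, ∀ i (h : (V i).1 ≤ U.1), Fp.res h t = σ i)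

lemma res_res {U V W : X.affineOpens} (h₁ : V.1 ≤ U.1) (h₂ : W.1 ≤ V.1) (h₃ : W.1 ≤ U.1)
    (s : Fp.obj U) : Fp.res h₂ (Fp.res h₁ s) = Fp.res h₃ s :=
  Fp.res_comp h₁ h₂ s

lemma eq_bot_of_span_empty (U : X.Opens) (f : Fin 0 → Γ(X, U))
    (hf : Ideal.span (Set.range f) = ⊤) : U = ⊥ := by
  have h0 : Set.range f = ∅ := Set.range_eq_empty f
  rw [h0, Ideal.span_empty] at hf
  have h1 : (1 : Γ(X, U)) = 0 := by
    have : (1 : Γ(X, U)) ∈ (⊥ : Ideal Γ(X, U)) := by rw [hf]; trivial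
    exact this
  have h2 : X.basicOpen (1 : Γ(X, U)) = U := X.basicOpen_of_isUnit isUnit_one
  rw [h1, X.basicOpen_zero] at h2
  exact h2.symm

theorem stdGlue_zero (hE : EmptyOne Fp) : StdGlue Fp 0 := by
  intro U f hf V hV
  obtain ⟨hne, hss⟩ := hE U (eq_bot_of_span_empty U.1 f hf)
  refine ⟨fun s s' _ => Subsingleton.elim _ _, fun σ _ => ?_⟩
  obtain ⟨t⟩ := hne
  exact ⟨t, fun i => i.elim0⟩

theorem stdGlue_succ (hI : PairInj Fp) (hG : PairGlue Fp) (n : ℕ) (ih : StdGlue Fp n) :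
    StdGlue Fp (n + 1) := by
  intro U f hf V hV
  -- coefficients
  have h1 : (1 : Γ(X, U.1)) ∈ Ideal.span (Set.range f) := by rw [hf]; trivial
  obtain ⟨c, hc⟩ := Ideal.mem_span_range_iff_exists_fun.1 h1
  rw [Fin.sum_univ_castSucc] at hc
  set g : Γ(X, U.1) := ∑ i : Fin n, c i.castSucc * f i.castSucc with hg
  set fl : Γ(X, U.1) := f (Fin.last n) with hfl
  have hcov : U.1 ≤ X.basicOpen g ⊔ X.basicOpen fl :=
    le_basicOpen_sup U.1 g fl 1 (c (Fin.last n)) (by rw [one_mul]; exact hc)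
  -- the affine opens
  let U' : X.affineOpens := D U g
  let Vl : X.affineOpens := V (Fin.last n)
  have hVl : Vl.1 = X.basicOpen fl := hV (Fin.last n)
  have hU'U : U'.1 ≤ U.1 := D_le U g
  have hVlU : Vl.1 ≤ U.1 := by rw [hVl]; exact X.basicOpen_le fl
  have hcov' : U.1 ≤ U'.1 ⊔ Vl.1 := by rw [hVl]; exact hcov
  have hVi : ∀ i, (V i).1 ≤ U.1 := fun i => by rw [hV i]; exact X.basicOpen_le _
  -- the induced standard covering of `U'`
  let f' : Fin n → Γ(X, U'.1) := fun i => ρ hU'U (f i.castSucc)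
  have hf' : Ideal.span (Set.range f') = ⊤ :=
    span_ρ_eq_top (fun i => f i.castSucc) (fun i => c i.castSucc) le_rfl hU'U
  let V' : Fin n → X.affineOpens := fun i => D U' (f' i)
  have hV' : ∀ i, (V' i).1 = X.basicOpen (f' i) := fun i => rfl
  have hV'eq : ∀ i, (V' i).1 = U'.1 ⊓ (V i.castSucc).1 := fun i => by
    rw [hV i.castSucc]; exact basicOpen_ρ hU'U (f i.castSucc)
  have hV'U' : ∀ i, (V' i).1 ≤ U'.1 := fun i => by rw [hV'eq]; exact inf_le_left
  have hV'V : ∀ i, (V' i).1 ≤ (V i.castSucc).1 := fun i => by rw [hV'eq]; exact inf_le_right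
  obtain ⟨uniq', exist'⟩ := ih U' f' hf' V' hV'
  constructor
  · -- uniqueness
    intro s s' hss
    refine hI U g fl U' Vl rfl hVl hcov' hU'U hVlU s s' ?_ (hss (Fin.last n) hVlU)
    apply uniq'
    intro i h
    rw [res_res Fp hU'U h (h.trans hU'U), res_res Fp hU'U h (h.trans hU'U),
      ← res_res Fp (hVi i.castSucc) (hV'V i) (h.trans hU'U) s,
      ← res_res Fp (hVi i.castSucc) (hV'V i) (h.trans hU'U) s', hss i.castSucc (hVi i.castSucc)]
  · -- existence
    intro σ hσ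
    let σ' : ∀ i, Fp.obj (V' i) := fun i => Fp.res (hV'V i) (σ i.castSucc)
    have hσ' : ∀ i j (b : X.affineOpens) (h1 : b.1 ≤ (V' i).1) (h2 : b.1 ≤ (V' j).1),
        Fp.res h1 (σ' i) = Fp.res h2 (σ' j) := by
      intro i j b h1 h2
      change Fp.res h1 (Fp.res (hV'V i) (σ i.castSucc)) = Fp.res h2 (Fp.res (hV'V j) (σ j.castSucc))
      rw [res_res Fp (hV'V i) h1 (h1.trans (hV'V i)), res_res Fp (hV'V j) h2 (h2.trans (hV'V j))]
      exact hσ i.castSucc j.castSucc b _ _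
    obtain ⟨t', ht'⟩ := exist' σ' hσ'
    -- the intersection
    let VW : X.affineOpens := D U (g * fl)
    have hVWeq : VW.1 = X.basicOpen g ⊓ X.basicOpen fl := X.basicOpen_mul g fl
    have hVWU' : VW.1 ≤ U'.1 := by rw [hVWeq]; exact inf_le_left
    have hVWVl : VW.1 ≤ Vl.1 := by rw [hVWeq, hVl]; exact inf_le_right
    have hVWU : VW.1 ≤ U.1 := D_le U (g * fl)
    have hagree : Fp.res hVWU' t' = Fp.res hVWVl (σ (Fin.last n)) := by
      let f'' : Fin n → Γ(X, VW.1) := fun i => ρ hVWU (f i.castSucc)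
      have hf'' : Ideal.span (Set.range f'') = ⊤ :=
        span_ρ_eq_top (fun i => f i.castSucc) (fun i => c i.castSucc) hVWU' hVWU
      let V'' : Fin n → X.affineOpens := fun i => D VW (f'' i)
      have hV''eq : ∀ i, (V'' i).1 = VW.1 ⊓ (V i.castSucc).1 := fun i => by
        rw [hV i.castSucc]; exact basicOpen_ρ hVWU (f i.castSucc)
      have hV''V' : ∀ i, (V'' i).1 ≤ (V' i).1 := fun i => by
        rw [hV''eq, hV'eq]; exact inf_le_inf_right _ hVWU'
      have hV''VW : ∀ i, (V'' i).1 ≤ VW.1 := fun i => by rw [hV''eq]; exact inf_le_left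
      refine (ih VW f'' hf'' V'' (fun i => rfl)).1 _ _ (fun i h => ?_)
      rw [res_res Fp hVWU' h (h.trans hVWU'), res_res Fp hVWVl h (h.trans hVWVl),
        ← res_res Fp (hV'U' i) (hV''V' i) (h.trans hVWU') t', ht' i (hV'U' i)]
      change Fp.res (hV''V' i) (Fp.res (hV'V i) (σ i.castSucc)) = _
      rw [res_res Fp (hV'V i) (hV''V' i) ((hV''V' i).trans (hV'V i))]
      exact hσ i.castSucc (Fin.last n) (V'' i) _ _
    obtain ⟨t, ht1, ht2⟩ := hG U g fl U' Vl VW rfl hVl rfl hcov' hU'U hVlU hVWU' hVWVl t'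
      (σ (Fin.last n)) hagree
    refine ⟨t, fun i => ?_⟩
    refine Fin.lastCases ?_ (fun j => ?_) i
    · intro h
      exact ht2
    · intro h
      -- pair separatedness on `V j`
      let Vj : X.affineOpens := V j.castSucc
      let gj : Γ(X, Vj.1) := ρ h g
      let hj : Γ(X, Vj.1) := ρ h fl
      let A1 : X.affineOpens := D Vj gj
      let A2 : X.affineOpens := D Vj hj
      have hA1eq : A1.1 = Vj.1 ⊓ X.basicOpen g := basicOpen_ρ h g
      have hA2eq : A2.1 = Vj.1 ⊓ X.basicOpen fl := basicOpen_ρ h fl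
      have hA1Vj : A1.1 ≤ Vj.1 := D_le Vj gj
      have hA2Vj : A2.1 ≤ Vj.1 := D_le Vj hj
      have hcovj : Vj.1 ≤ A1.1 ⊔ A2.1 := by
        refine le_basicOpen_sup Vj.1 gj hj 1 (ρ h (c (Fin.last n))) ?_
        change 1 * ρ h g + ρ h (c (Fin.last n)) * ρ h fl = 1
        rw [one_mul, ← map_mul, ← map_add, hc, map_one]
      have hA1U' : A1.1 ≤ U'.1 := by rw [hA1eq]; exact inf_le_right
      have hA1V' : A1.1 ≤ (V' j).1 := by
        rw [hA1eq, hV'eq]; exact le_inf inf_le_right inf_le_left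
      have hA2Vl : A2.1 ≤ Vl.1 := by rw [hA2eq, hVl]; exact inf_le_right
      refine hI Vj gj hj A1 A2 rfl rfl hcovj hA1Vj hA2Vj _ _ ?_ ?_
      · rw [res_res Fp h hA1Vj (hA1Vj.trans h), ← res_res Fp hU'U hA1U' (hA1Vj.trans h) t, ht1,
          ← res_res Fp (hV'U' j) hA1V' hA1U' t', ht' j (hV'U' j)]
        change Fp.res hA1V' (Fp.res (hV'V j) (σ j.castSucc)) = _
        rw [res_res Fp (hV'V j) hA1V' hA1Vj]
      · rw [res_res Fp h hA2Vj (hA2Vj.trans h), ← res_res Fp hVlU hA2Vl (hA2Vj.trans h) t, ht2]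
        exact (hσ j.castSucc (Fin.last n) A2 hA2Vj hA2Vl).symm

theorem stdGlue (hI : PairInj Fp) (hG : PairGlue Fp) (hE : EmptyOne Fp) : ∀ n, StdGlue Fp n
  | 0 => stdGlue_zero Fp hE
  | n + 1 => stdGlue_succ Fp hI hG n (stdGlue hI hG hE n)

/-- the standard covering datum of an affine open attached to functions generating the unit ideal -/
noncomputable def stdCover (U : X.affineOpens) (n : ℕ) (f : Fin n → Γ(X, U.1))
    (hf : Ideal.span (Set.range f) = ⊤) : ShB.Cover (X.affineOpens : Set (Opens ↥X)) where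
  U := U
  ι := ULift.{u} (Fin n)
  V i := D U (f i.down)
  V_le i := D_le U (f i.down)
  V_cover := by
    intro x hx
    have h := (U.2.self_le_iSup_basicOpen_iff (s := Set.range f)).2 hf hx
    obtain ⟨⟨_, ⟨i, rfl⟩⟩, hi⟩ := Opens.mem_iSup.1 h
    exact Opens.mem_iSup.2 ⟨⟨i⟩, hi⟩
  κ _ _ := PUnit.{u + 1}
  W i j _ := D U (f i.down * f j.down)
  W_le_left i j _ := by
    change X.basicOpen (f i.down * f j.down) ≤ X.basicOpen (f i.down)
    rw [X.basicOpen_mul]; exact inf_le_left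
  W_le_right i j _ := by
    change X.basicOpen (f i.down * f j.down) ≤ X.basicOpen (f j.down)
    rw [X.basicOpen_mul]; exact inf_le_right
  W_cover i j := by
    refine le_iSup_of_le PUnit.unit ?_
    change X.basicOpen (f i.down) ⊓ X.basicOpen (f j.down) ≤ X.basicOpen (f i.down * f j.down)
    rw [X.basicOpen_mul]

/-- pair gluing implies the sheaf condition on the basis of affine opens -/
theorem isSheaf_of_pair (hI : PairInj Fp) (hG : PairGlue Fp) (hE : EmptyOne Fp) :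
    ShB.IsSheaf Fp := by
  refine shB_isSheaf_of_cofinal (X := ↥X) (B := (X.affineOpens : Set (Opens ↥X)))
    X.isBasis_affineOpens Fp
    (fun U => {c | ∃ (n : ℕ) (f : Fin n → Γ(X, U.1)) (hf : Ideal.span (Set.range f) = ⊤),
      c = stdCover U n f hf}) ?_ ?_ ?_
  · rintro U c ⟨n, f, hf, rfl⟩
    rfl
  · intro U ι V hV hcov
    obtain ⟨n, f, hf, href⟩ := exists_standard_refinement U (fun i => (V i).1) hcov
    refine ⟨stdCover U n f hf, ⟨n, f, hf, rfl⟩, fun i' => ?_⟩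
    obtain ⟨i, hi⟩ := href i'.down
    exact ⟨i, hi⟩
  · rintro U c ⟨n, f, hf, rfl⟩
    intro s hs
    obtain ⟨uniq, exist⟩ := stdGlue Fp hI hG hE n U f hf (fun i => D U (f i)) (fun i => rfl)
    obtain ⟨t, ht⟩ := exist (fun i => s ⟨i⟩) (fun i j b h1 h2 => hs ⟨i⟩ ⟨j⟩ b h1 h2)
    refine ⟨t, fun i => ht i.down _, fun t' ht' => uniq _ _ (fun i h => ?_)⟩
    exact (ht' ⟨i⟩).trans (ht i h).symm

end Groth.Agent.Lib.T2H4.AffBasisB
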