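import Mathlib
import Groth.Prelude.Def_W4stktopologysheavesBas
import Groth.Agent.Lib.Helper11ShBExt
import Groth.Agent.Lib.T2H4AffBasisB

/-!
# Sheaves on the basis of affine opens of a scheme and pair gluing (helper4)
-/

set_option autoImplicit false
universe u
open CategoryTheory CategoryTheory.Limits AlgebraicGeometry Opposite TopologicalSpace

namespace Groth.Agent.Lib.T2H4.AffBasisC
open Groth.Agent.Lib.T2H4.AffBasisA Groth.Agent.Lib.T2H4.AffBasisB Groth.Agent.Lib.Helper11

section Generic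

variable {T : TopCat.{u}} (G : TopCat.Sheaf (Type u) T)

lemma exists_glue_pair (V W : Opens T) (a : G.1.obj (op V)) (b : G.1.obj (op W))
    (h : G.1.map (homOfLE inf_le_left : V ⊓ W ⟶ V).op a =
      G.1.map (homOfLE inf_le_right : V ⊓ W ⟶ W).op b) :
    ∃ s : G.1.obj (op (V ⊔ W)), G.1.map (homOfLE le_sup_left : V ⟶ V ⊔ W).op s = a ∧
      G.1.map (homOfLE le_sup_right : W ⟶ V ⊔ W).op s = b := by
  let hc := TopCat.Sheaf.isLimitPullbackCone G V W
  let l := PullbackCone.IsLimit.lift hc (↾fun _ : PUnit.{u + 1} => a) (↾fun _ => b)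
    (by ext; exact h)
  refine ⟨l PUnit.unit, ?_, ?_⟩
  · exact ConcreteCategory.congr_hom (PullbackCone.IsLimit.lift_fst hc _ _ _) PUnit.unit
  · exact ConcreteCategory.congr_hom (PullbackCone.IsLimit.lift_snd hc _ _ _) PUnit.unit

lemma map_map_eq {A B C : Opens T} (h₁ : B ≤ A) (h₂ : C ≤ B) (h₃ : C ≤ A) (s : G.1.obj (op A)) :
    G.1.map (homOfLE h₂).op (G.1.map (homOfLE h₁).op s) = G.1.map (homOfLE h₃).op s := by
  rw [← FunctorToTypes.map_comp_apply]
  rfl

/-- pair gluing in the form used for the basis of affine opens -/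
lemma exists_glue_pair' {U V W VW : Opens T} (hU : U = V ⊔ W) (hVW : VW = V ⊓ W)
    (hVU : V ≤ U) (hWU : W ≤ U) (h1 : VW ≤ V) (h2 : VW ≤ W)
    (a : G.1.obj (op V)) (b : G.1.obj (op W))
    (h : G.1.map (homOfLE h1).op a = G.1.map (homOfLE h2).op b) :
    ∃ s : G.1.obj (op U), G.1.map (homOfLE hVU).op s = a ∧ G.1.map (homOfLE hWU).op s = b := by
  subst hU hVW
  exact exists_glue_pair G V W a b h

lemma eq_of_pair {U V W : Opens T} (hU : U ≤ V ⊔ W) (hVU : V ≤ U) (hWU : W ≤ U)
    (s s' : G.1.obj (op U))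
    (h1 : G.1.map (homOfLE hVU).op s = G.1.map (homOfLE hVU).op s')
    (h2 : G.1.map (homOfLE hWU).op s = G.1.map (homOfLE hWU).op s') : s = s' :=
  TopCat.Sheaf.eq_of_locally_eq₂ G (homOfLE hVU) (homOfLE hWU) hU s s' h1 h2

end Generic

variable {X : Scheme.{u}}

/-- the inclusion of the affine opens into all opens -/
abbrev incl (X : Scheme.{u}) : X.affineOpens ⥤ X.Opens :=
  Monotone.functor (f := fun U : X.affineOpens => (U : X.Opens)) (fun _ _ h => h)

/-- a functor on the affine opens as a presheaf on the basis -/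
def preOf (F : (X.affineOpens)ᵒᵖ ⥤ Type u) : ShB.Pre (X.affineOpens : Set (Opens ↥X)) where
  obj U := F.obj (op U)
  res {U V} h s := F.map (homOfLE (show V ≤ U from h)).op s
  res_id U s := by
    have : (homOfLE (le_refl U)).op = 𝟙 (op U) := rfl
    rw [this, FunctorToTypes.map_id_apply]
  res_comp h₁ h₂ s := by
    rw [← FunctorToTypes.map_comp_apply]
    rfl

/-- the pair condition of the statement -/
def PairCond (F : (X.affineOpens)ᵒᵖ ⥤ Type u) : Prop :=
  ∀ (U V W VW : X.affineOpens) (f g : Γ(X, (U : X.Opens))),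
    (V : X.Opens) = X.basicOpen f → (W : X.Opens) = X.basicOpen g →
    (VW : X.Opens) = X.basicOpen (f * g) → (U : X.Opens) = (V : X.Opens) ⊔ (W : X.Opens) →
    ∀ (hV : V ≤ U) (hW : W ≤ U) (h1 : VW ≤ V) (h2 : VW ≤ W),
    Function.Injective (fun s : F.obj (op U) => (F.map (homOfLE hV).op s, F.map (homOfLE hW).op s)) ∧
    Set.range (fun s : F.obj (op U) => (F.map (homOfLE hV).op s, F.map (homOfLE hW).op s)) =
      {p | F.map (homOfLE h1).op p.1 = F.map (homOfLE h2).op p.2}

theorem exists_sheaf_of_pair (F : (X.affineOpens)ᵒᵖ ⥤ Type u) (E : X.affineOpens)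
    (hE : (E : X.Opens) = ⊥)
    (hEmp : Nonempty (F.obj (op E)) ∧ Subsingleton (F.obj (op E))) (hpair : PairCond F) :
    ∃ G : TopCat.Sheaf (Type u) X.carrier, Nonempty ((incl X).op ⋙ G.1 ≅ F) := by
  have hE' : EmptyOne (preOf F) := by
    intro U hU
    have : U = E := Subtype.ext (hU.trans hE.symm)
    subst this
    exact hEmp
  have hI : PairInj (preOf F) := by
    intro U g h V W hV hW hcov hVU hWU s s' e1 e2
    have hUeq : (U : X.Opens) = (V : X.Opens) ⊔ (W : X.Opens) :=
      le_antisymm hcov (sup_le hVU hWU)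
    have h1 : (D U (g * h)).1 ≤ V.1 := by
      change X.basicOpen (g * h) ≤ _
      rw [X.basicOpen_mul, hV]; exact inf_le_left
    have h2 : (D U (g * h)).1 ≤ W.1 := by
      change X.basicOpen (g * h) ≤ _
      rw [X.basicOpen_mul, hW]; exact inf_le_right
    have := (hpair U V W (D U (g * h)) g h hV hW rfl hUeq hVU hWU h1 h2).1
    exact this (Prod.ext e1 e2)
  have hG : PairGlue (preOf F) := by
    intro U g h V W VW hV hW hVW hcov hVU hWU h1 h2 a b hab
    have hUeq : (U : X.Opens) = (V : X.Opens) ⊔ (W : X.Opens) :=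
      le_antisymm hcov (sup_le hVU hWU)
    have hr := (hpair U V W VW g h hV hW hVW hUeq hVU hWU h1 h2).2
    obtain ⟨s, hs⟩ := (Set.ext_iff.1 hr (show F.obj (op V) × F.obj (op W) from (a, b))).2 hab
    exact ⟨s, congrArg Prod.fst hs, congrArg Prod.snd hs⟩
  have hSh := isSheaf_of_pair (preOf F) hI hG hE'
  let G : TopCat.Sheaf (Type u) X.carrier := shBExt X.isBasis_affineOpens (preOf F)
  let e := shBExtIso X.isBasis_affineOpens (preOf F) hSh
  refine ⟨G, ⟨NatIso.ofComponents (fun U => Equiv.toIso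
    ⟨e.hom.app U.unop, e.inv.app U.unop, e.hom_inv U.unop, e.inv_hom U.unop⟩) ?_⟩⟩
  intro U V i
  ext s
  exact (e.hom.natural (leOfHom i.unop) s).symm

section Converse

variable (F : (X.affineOpens)ᵒᵖ ⥤ Type u) (G : TopCat.Sheaf (Type u) X.carrier)
  (e : (incl X).op ⋙ G.1 ≅ F)

lemma inv_nat {U V : X.affineOpens} (h : V ≤ U) (s : F.obj (op U)) :
    e.inv.app (op V) (F.map (homOfLE h).op s) =
      G.1.map (homOfLE (show (V : X.Opens) ≤ (U : X.Opens) from h)).op (e.inv.app (op U) s) :=
  ConcreteCategory.congr_hom (e.inv.naturality (homOfLE h).op) s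

lemma hom_nat {U V : X.affineOpens} (h : V ≤ U) (a : G.1.obj (op (U : X.Opens))) :
    e.hom.app (op V) (G.1.map (homOfLE (show (V : X.Opens) ≤ (U : X.Opens) from h)).op a) =
      F.map (homOfLE h).op (e.hom.app (op U) a) :=
  ConcreteCategory.congr_hom (e.hom.naturality (homOfLE h).op) a

lemma hom_inv_apply (U : X.affineOpens) (s : F.obj (op U)) :
    e.hom.app (op U) (e.inv.app (op U) s) = s :=
  ConcreteCategory.congr_hom (e.inv_hom_id_app (op U)) s

lemma inv_hom_apply (U : X.affineOpens) (a : G.1.obj (op (U : X.Opens))) :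
    e.inv.app (op U) (e.hom.app (op U) a) = a :=
  ConcreteCategory.congr_hom (e.hom_inv_id_app (op U)) a

include e in
theorem pair_of_sheaf (E : X.affineOpens) (hE : (E : X.Opens) = ⊥) :
    (Nonempty (F.obj (op E)) ∧ Subsingleton (F.obj (op E))) ∧ PairCond F := by
  constructor
  · have ht := G.isTerminalOfEqEmpty hE
    haveI hu : Unique (G.1.obj (op (E : X.Opens))) := (Types.isTerminalEquivUnique _) ht
    constructor
    · exact ⟨e.hom.app (op E) (@default _ hu.toInhabited)⟩
    · refine ⟨fun s s' => ?_⟩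
      have hx : e.inv.app (op E) s = e.inv.app (op E) s' :=
        (@Unique.instSubsingleton _ hu).elim _ _
      rw [← hom_inv_apply F G e E s, ← hom_inv_apply F G e E s', hx]
  · intro U V W VW f g hV hW hVW hU hVU hWU h1 h2
    have hVWeq : (VW : X.Opens) = (V : X.Opens) ⊓ (W : X.Opens) := by
      rw [hVW, X.basicOpen_mul, hV, hW]
    constructor
    · intro s s' hss
      have e1 : F.map (homOfLE hVU).op s = F.map (homOfLE hVU).op s' := congrArg Prod.fst hss
      have e2 : F.map (homOfLE hWU).op s = F.map (homOfLE hWU).op s' := congrArg Prod.snd hss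
      have := eq_of_pair G hU.le hVU hWU (e.inv.app (op U) s) (e.inv.app (op U) s')
        (by rw [← inv_nat F G e hVU, ← inv_nat F G e hVU, e1])
        (by rw [← inv_nat F G e hWU, ← inv_nat F G e hWU, e2])
      rw [← hom_inv_apply F G e U s, ← hom_inv_apply F G e U s', this]
    · ext p
      constructor
      · rintro ⟨s, rfl⟩
        change F.map (homOfLE h1).op (F.map (homOfLE hVU).op s) =
          F.map (homOfLE h2).op (F.map (homOfLE hWU).op s)
        rw [← Functor.map_comp_apply, ← Functor.map_comp_apply]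
        rfl
      · intro hp
        have hp' : F.map (homOfLE h1).op p.1 = F.map (homOfLE h2).op p.2 := hp
        obtain ⟨a, ha1, ha2⟩ := exists_glue_pair' G hU hVWeq hVU hWU h1 h2
          (e.inv.app (op V) p.1) (e.inv.app (op W) p.2)
          (by rw [← inv_nat F G e h1, ← inv_nat F G e h2, hp'])
        refine ⟨e.hom.app (op U) a, Prod.ext ?_ ?_⟩
        · change F.map (homOfLE hVU).op (e.hom.app (op U) a) = p.1
          rw [← hom_nat F G e hVU, ha1, hom_inv_apply]
        · change F.map (homOfLE hWU).op (e.hom.app (op U) a) = p.2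
          rw [← hom_nat F G e hWU, ha2, hom_inv_apply]

end Converse

theorem main (F : (X.affineOpens)ᵒᵖ ⥤ Type u) (E : X.affineOpens) (hE : (E : X.Opens) = ⊥) :
    (∃ G : TopCat.Sheaf (Type u) X.carrier, Nonempty ((incl X).op ⋙ G.1 ≅ F)) ↔
      ((Nonempty (F.obj (op E)) ∧ Subsingleton (F.obj (op E))) ∧ PairCond F) := by
  constructor
  · rintro ⟨G, ⟨e⟩⟩
    exact pair_of_sheaf F G e E hE
  · rintro ⟨h1, h2⟩
    exact exists_sheaf_of_pair F E hE h1 h2

end Groth.Agent.Lib.T2H4.AffBasisC
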