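import Mathlib

/-!
# The filtered system of finitely generated subobjects attached to a family of maps (helper4)

Namespace `Groth.Agent.Lib.T2H4.SubColim`.

In an abelian category, given a family `φ a : K a ⟶ F` (`a : A`) and a base index `a₀`, the images of the finite
sums `K a₀ ⊕ K a₁ ⊕ ⋯ ⊕ K aₙ ⟶ F` form a directed system of subobjects of `F` indexed by finite lists, and in a
Grothendieck abelian category the comparison map from its colimit to `F` is a monomorphism.
(Generic version of helper6's `T2H6GVGen`.)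
-/

set_option autoImplicit false
universe w v u
open CategoryTheory CategoryTheory.Limits

namespace Groth.Agent.Lib.T2H4.SubColim

variable {C : Type u} [Category.{v} C] [Abelian C] {F : C} {A : Type w} (K : A → C) (φ : ∀ a, K a ⟶ F)
  (a₀ : A)

/-- finite direct sums of the `K a` (always containing `K a₀`) -/
noncomputable def bigK : List A → C
  | [] => K a₀
  | a :: l => K a ⊞ bigK l

/-- the map from the direct sum to `F` -/
noncomputable def desc : (l : List A) → (bigK K a₀ l ⟶ F)
  | [] => φ a₀
  | a :: l => biprod.desc (φ a) (desc l)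

theorem exists_incl₀ (l : List A) : ∃ ι : K a₀ ⟶ bigK K a₀ l, ι ≫ desc K φ a₀ l = φ a₀ := by
  induction l with
  | nil => exact ⟨𝟙 _, Category.id_comp _⟩
  | cons t l ih =>
    obtain ⟨ι, hι⟩ := ih
    refine ⟨ι ≫ biprod.inr, ?_⟩
    change (ι ≫ biprod.inr) ≫ biprod.desc (φ t) (desc K φ a₀ l) = _
    rw [Category.assoc, biprod.inr_desc, hι]

theorem exists_incl (l : List A) (a : A) (ha : a ∈ l) :
    ∃ ι : K a ⟶ bigK K a₀ l, ι ≫ desc K φ a₀ l = φ a := by
  induction l with
  | nil => exact absurd ha (List.not_mem_nil)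
  | cons t l ih =>
    rcases List.mem_cons.1 ha with rfl | h
    · exact ⟨biprod.inl, biprod.inl_desc _ _⟩
    · obtain ⟨ι, hι⟩ := ih h
      refine ⟨ι ≫ biprod.inr, ?_⟩
      change (ι ≫ biprod.inr) ≫ biprod.desc (φ t) (desc K φ a₀ l) = _
      rw [Category.assoc, biprod.inr_desc, hι]

theorem factors_desc (T : Subobject F) (l : List A) (h₀ : T.Factors (φ a₀))
    (h : ∀ a ∈ l, T.Factors (φ a)) : T.Factors (desc K φ a₀ l) := by
  induction l with
  | nil => exact h₀
  | cons t l ih =>
    have h1 := h t (List.mem_cons_self)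
    have h2 := ih fun s hs => h s (List.mem_cons_of_mem _ hs)
    have : biprod.desc (T.factorThru _ h1) (T.factorThru _ h2) ≫ T.arrow = desc K φ a₀ (t :: l) := by
      change _ = biprod.desc (φ t) (desc K φ a₀ l)
      apply biprod.hom_ext'
      · rw [biprod.inl_desc_assoc, biprod.inl_desc, Subobject.factorThru_arrow]
      · rw [biprod.inr_desc_assoc, biprod.inr_desc, Subobject.factorThru_arrow]
    rw [← this]
    exact Subobject.factors_comp_arrow _

/-- the subobject generated by a finite list of indices -/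
noncomputable def Fsub (l : List A) : Subobject F := imageSubobject (desc K φ a₀ l)

theorem Fsub_mono {l l' : List A} (h : l ⊆ l') : Fsub K φ a₀ l ≤ Fsub K φ a₀ l' := by
  have hf : (Fsub K φ a₀ l').Factors (desc K φ a₀ l) := by
    refine factors_desc K φ a₀ _ l ?_ fun s hs => ?_
    · obtain ⟨ι, hι⟩ := exists_incl₀ K φ a₀ l'
      rw [← hι]
      exact imageSubobject_factors_comp_self _ _
    · obtain ⟨ι, hι⟩ := exists_incl K φ a₀ l' s (h hs)
      rw [← hι]
      exact imageSubobject_factors_comp_self _ _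
  exact imageSubobject_le (desc K φ a₀ l) ((Fsub K φ a₀ l').factorThru _ hf)
    (Subobject.factorThru_arrow _ _ hf)

/-- the index category: finite lists, ordered by inclusion -/
structure Idx (A : Type w) where
  /-- the list -/
  l : List A

instance : Preorder (Idx A) where
  le a b := a.l ⊆ b.l
  le_refl a := List.Subset.refl _
  le_trans a b c h1 h2 := List.Subset.trans h1 h2

instance : Nonempty (Idx A) := ⟨⟨[]⟩⟩

instance : IsDirected (Idx A) (· ≤ ·) :=
  ⟨fun a b => ⟨⟨a.l ++ b.l⟩, List.subset_append_left _ _, List.subset_append_right _ _⟩⟩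

theorem Fsub_monotone : Monotone (fun a : Idx A => Fsub K φ a₀ a.l) := fun _ _ h => Fsub_mono K φ a₀ h

/-- the filtered system of finitely generated subobjects -/
noncomputable def Φ : Idx A ⥤ MonoOver F := (Fsub_monotone K φ a₀).functor ⋙ Subobject.representative

/-- the underlying diagram -/
noncomputable abbrev D : Idx A ⥤ C := Φ K φ a₀ ⋙ MonoOver.forget F ⋙ Over.forget F

/-- the cocone over `F` -/
noncomputable def coconeF : Cocone (D K φ a₀) where
  pt := F
  ι := { app := fun a => ((Φ K φ a₀).obj a).obj.hom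
         naturality := fun a b f => by
           refine Eq.trans ?_ (Category.comp_id _).symm
           exact MonoOver.w ((Φ K φ a₀).map f) }

/-- the object of the diagram at `a` -/
noncomputable abbrev Dobj (l : List A) : C := Subobject.underlying.obj (imageSubobject (desc K φ a₀ l))

theorem D_obj (a : Idx A) : (D K φ a₀).obj a = Dobj K φ a₀ a.l := rfl

/-- the structure map `D a ⟶ F` is the arrow of the image subobject -/
theorem D_hom (a : Idx A) : ((Φ K φ a₀).obj a).obj.hom = (imageSubobject (desc K φ a₀ a.l)).arrow :=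
  Subobject.representative_arrow _

variable [HasColimitsOfShape (Idx A) C]

/-- the comparison from the colimit to `F` -/
noncomputable def cmp : colimit (D K φ a₀) ⟶ F := colimit.desc (D K φ a₀) (coconeF K φ a₀)

theorem ι_cmp (a : Idx A) : colimit.ι (D K φ a₀) a ≫ cmp K φ a₀ = ((Φ K φ a₀).obj a).obj.hom :=
  colimit.ι_desc _ _

theorem mono_cmp [IsGrothendieckAbelian.{w} C] : Mono (cmp K φ a₀) :=
  IsGrothendieckAbelian.mono_of_isColimit_monoOver (Φ K φ a₀) (colimit.isColimit (D K φ a₀))
    (cmp K φ a₀) (ι_cmp K φ a₀)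

/-- each `K a` maps to the colimit, compatibly with the maps to `F` -/
theorem exists_to_colimit (a : A) : ∃ κ : K a ⟶ colimit (D K φ a₀), κ ≫ cmp K φ a₀ = φ a := by
  let i : Idx A := ⟨[a]⟩
  obtain ⟨ι, hι⟩ := exists_incl K φ a₀ i.l a (List.mem_singleton_self a)
  let ιa : Dobj K φ a₀ i.l ⟶ colimit (D K φ a₀) := colimit.ι (D K φ a₀) i
  have h1 : ιa ≫ cmp K φ a₀ = (imageSubobject (desc K φ a₀ i.l)).arrow :=
    (ι_cmp K φ a₀ i).trans (D_hom K φ a₀ i)
  refine ⟨(ι ≫ factorThruImageSubobject (desc K φ a₀ i.l)) ≫ ιa, ?_⟩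
  calc ((ι ≫ factorThruImageSubobject (desc K φ a₀ i.l)) ≫ ιa) ≫ cmp K φ a₀
      = (ι ≫ factorThruImageSubobject (desc K φ a₀ i.l)) ≫ (ιa ≫ cmp K φ a₀) := Category.assoc _ _ _
    _ = (ι ≫ factorThruImageSubobject (desc K φ a₀ i.l)) ≫ (imageSubobject (desc K φ a₀ i.l)).arrow := by
        rw [h1]
    _ = ι ≫ desc K φ a₀ i.l := by rw [Category.assoc, imageSubobject_arrow_comp]
    _ = φ a := hι

end Groth.Agent.Lib.T2H4.SubColim
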