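import Mathlib
import Groth.Prelude.Def_Coh
import Groth.Prelude.Def_CohB1
import Groth.Agent.S9819
import Groth.Agent.S0484
import Groth.Agent.Lib.T2H4SubColim
import Groth.Agent.Lib.Helper23FTsub
import Groth.Agent.Lib.Helper23Serre
import Groth.Agent.Lib.Helper9TopColimSch
import Groth.Agent.Lib.Helper9HTerminal
import Groth.Agent.Lib.Helper20Nakayama
import Groth.Agent.Lib.T2H9FBCAcyc

/-!
# Cohomology of a quasi-coherent module from its finite type quasi-coherent submodules (helper4)

Namespace `Groth.Agent.Lib.T2H4.FtColim`.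

`subsingleton_HH_of_ft`: on a quasi-compact quasi-separated scheme, if `H^p(X, K') = 0` for every quasi-coherent
submodule of finite type `K' ⊆ G`, then `H^p(X, G) = 0` (`G` is the filtered colimit of such submodules and
cohomology commutes with filtered colimits).
-/

set_option autoImplicit false
set_option linter.style.haveILetI false
set_option linter.unusedSectionVars false
universe u
open CategoryTheory CategoryTheory.Limits AlgebraicGeometry TopologicalSpace Opposite

namespace Groth.Agent.Lib.T2H4.FtColim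

open Groth.Agent.Lib.T2H4.SubColim Groth.Agent.Lib.Helper23.QCohLocal Groth.Agent.Lib.Helper23.FTsub

section Top

variable {Y : TopCat.{u}}

/-- `H^p(Y, -)` in the form of Mathlib's cohomology presheaf at the terminal open. -/
noncomputable abbrev Hp (p : ℕ) : CohTop.Ab Y ⥤ AddCommGrpCat.{u} :=
  (Sheaf.cohomologyPresheafFunctor (Opens.grothendieckTopology Y) p).flip.obj (op (⊤ : Opens Y))

theorem subsingleton_H_iff_isZero_Hp (G : CohTop.Ab Y) (p : ℕ) :
    Subsingleton (Sheaf.H G p) ↔ IsZero ((Hp p).obj G) := by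
  have e := (Groth.Agent.Lib.Helper9.HTerminal.functorHIso (Opens.grothendieckTopology Y)
    (T := (⊤ : Opens Y)) isTerminalTop p).app G
  constructor
  · intro h
    have h1 : IsZero ((Sheaf.functorH.{u, u, u, u} (Opens.grothendieckTopology Y) p).obj G) :=
      @AddCommGrpCat.isZero_of_subsingleton _ h
    exact h1.of_iso e.symm
  · intro h
    have h1 : IsZero ((Sheaf.functorH.{u, u, u, u} (Opens.grothendieckTopology Y) p).obj G) := h.of_iso e
    exact AddCommGrpCat.subsingleton_of_isZero h1

end Top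

variable {X : Scheme.{u}} [CompactSpace X] [QuasiSeparatedSpace X] (G : X.Modules) [G.IsQuasicoherent]

/-- local sections of `G` over affine opens -/
abbrev Sec : Type u := Σ U : X.affineOpens, Γ(G, U.1)

theorem exists_sub (a : Sec G) : ∃ (K : X.Modules) (i : K ⟶ G), Mono i ∧ K.IsQuasicoherent ∧
    SheafOfModules.IsFiniteType (R := X.ringCatSheaf) K ∧ ∃ g : Γ(K, a.1.1), i.app a.1.1 g = a.2 := by
  obtain ⟨K, i, h1, h2, h3, g, hg⟩ := Groth.Agent.S9819.result G a.1 a.2
  exact ⟨K, i, h1, h2, h3, g, hg⟩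

/-- the chosen finite type quasi-coherent submodule containing a given section -/
noncomputable def KK (a : Sec G) : X.Modules := (exists_sub G a).choose

/-- its inclusion -/
noncomputable def φφ (a : Sec G) : KK G a ⟶ G := (exists_sub G a).choose_spec.choose

theorem KK_spec (a : Sec G) : Mono (φφ G a) ∧ (KK G a).IsQuasicoherent ∧
    SheafOfModules.IsFiniteType (R := X.ringCatSheaf) (KK G a) ∧
    ∃ g : Γ(KK G a, a.1.1), (φφ G a).app a.1.1 g = a.2 :=
  (exists_sub G a).choose_spec.choose_spec

/-- the base index -/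
noncomputable def a₀ : Sec G := ⟨⟨⊥, isAffineOpen_bot X⟩, 0⟩

/-- the finite sums, typed in `X.Modules` -/
noncomputable abbrev BK (l : List (Sec G)) : X.Modules := bigK (C := X.Modules) (KK G) (a₀ G) l

/-- the sum map, typed in `X.Modules` -/
noncomputable abbrev DS (l : List (Sec G)) : BK G l ⟶ G := desc (C := X.Modules) (KK G) (φφ G) (a₀ G) l

/-- the objects of the diagram, typed in `X.Modules` -/
noncomputable abbrev DO (l : List (Sec G)) : X.Modules := Dobj (C := X.Modules) (KK G) (φφ G) (a₀ G) l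

theorem BK_isQuasicoherent (l : List (Sec G)) : (BK G l).IsQuasicoherent := by
  induction l with
  | nil => exact (KK_spec G _).2.1
  | cons a l ih =>
    haveI := (KK_spec G a).2.1
    haveI := ih
    exact isQuasicoherent_biprod (KK G a) (BK G l)

theorem BK_isFiniteType (l : List (Sec G)) :
    SheafOfModules.IsFiniteType (R := X.ringCatSheaf) (BK G l) := by
  induction l with
  | nil => exact (KK_spec G _).2.2.1
  | cons a l ih =>
    haveI := (KK_spec G a).2.1
    haveI := (KK_spec G a).2.2.1
    haveI := BK_isQuasicoherent G l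
    haveI := ih
    exact isFiniteType_biprod (KK G a) (BK G l)

theorem DO_isQuasicoherent (l : List (Sec G)) : (DO G l).IsQuasicoherent := by
  haveI := BK_isQuasicoherent G l
  have h1 : (cokernel (DS G l)).IsQuasicoherent := isQuasicoherent_cokernel _
  have h2 : (kernel (cokernel.π (DS G l))).IsQuasicoherent := isQuasicoherent_kernel _
  exact (SheafOfModules.isQuasicoherent X.ringCatSheaf).prop_of_iso
    ((imageSubobjectIso (DS G l)).trans (Abelian.imageIsoImage (DS G l)).symm).symm h2

theorem DO_isFiniteType (l : List (Sec G)) :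
    SheafOfModules.IsFiniteType (R := X.ringCatSheaf) (DO G l) := by
  haveI := BK_isFiniteType G l
  exact Groth.Agent.Lib.Helper20.Nakayama.isFiniteType_of_epi (factorThruImageSubobject (DS G l))

theorem epi_cmp : Epi (cmp (KK G) (φφ G) (a₀ G)) := by
  apply Groth.Agent.Lib.Helper23.Serre.epi_of_locally_surjective
  intro V t x hx
  obtain ⟨_, ⟨V', hV', rfl⟩, hxV', hle⟩ :=
    X.isBasis_affineOpens.exists_subset_of_mem_open hx V.isOpen
  let a : Sec G := ⟨⟨V', hV'⟩, G.presheaf.map (homOfLE hle).op t⟩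
  obtain ⟨g, hg⟩ := (KK_spec G a).2.2.2
  obtain ⟨κ, hκ⟩ := exists_to_colimit (KK G) (φφ G) (a₀ G) a
  refine ⟨V', hle, hxV', κ.app V' g, ?_⟩
  have h1 : (κ ≫ cmp (KK G) (φφ G) (a₀ G)).app V' g = (φφ G a).app V' g := by rw [hκ]
  exact h1.trans hg

/-- **Reduction to finite type submodules.** -/
theorem subsingleton_HH_of_ft (p : ℕ)
    (h : ∀ (K' : X.Modules) (i : K' ⟶ G), Mono i → K'.IsQuasicoherent →
      SheafOfModules.IsFiniteType (R := X.ringCatSheaf) K' → Subsingleton (Coh.HH X K' p)) :
    Subsingleton (Coh.HH X G p) := by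
  haveI : IsGrothendieckAbelian.{u} X.Modules :=
    Groth.Agent.S0484.result (Opens.grothendieckTopology X) X.ringCatSheaf
  haveI := mono_cmp (KK G) (φφ G) (a₀ G)
  haveI := epi_cmp G
  haveI : IsIso (cmp (KK G) (φφ G) (a₀ G)) := isIso_of_mono_of_epi _
  refine Groth.Agent.Lib.T2H9.FBCAcyc.subsingleton_HH_of_iso (asIso (cmp (KK G) (φφ G) (a₀ G))).symm p ?_
  let Dm : Idx (Sec G) ⥤ X.Modules := D (KK G) (φφ G) (a₀ G)
  let T : X.Modules ⥤ CohTop.Ab X.carrier := SheafOfModules.toSheaf X.ringCatSheaf
  haveI : PreservesColimitsOfShape (Idx (Sec G)) T :=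
    Groth.Agent.S0484.preservesColimitsOfShape_toSheaf (Opens.grothendieckTopology X)
      X.ringCatSheaf (Idx (Sec G))
  have hc1 : IsColimit (T.mapCocone (colimit.cocone Dm)) :=
    isColimitOfPreserves T (colimit.isColimit Dm)
  have hqs : IsQuasiSeparated (((⊤ : Opens X.carrier) : Opens X.carrier) : Set X.carrier) := by
    rw [Opens.coe_top]
    exact isQuasiSeparated_univ
  haveI : PreservesColimit (Dm ⋙ T) (Hp (Y := X.carrier) p) :=
    Groth.Agent.Lib.Helper9.TopColim.preservesColimit_of_compact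
      (Groth.Agent.Lib.Helper9.TopColim.isBasis_compact X) ⊤ hqs ⊤
      ⟨le_rfl, by rw [Opens.coe_top]; exact isCompact_univ⟩ p (Idx (Sec G)) (Dm ⋙ T)
  have hc2 := isColimitOfPreserves (Hp (Y := X.carrier) p) hc1
  have hz : ∀ a : Idx (Sec G), IsZero ((Hp (Y := X.carrier) p).obj ((Dm ⋙ T).obj a)) := by
    intro a
    rw [← subsingleton_H_iff_isZero_Hp]
    exact h _ ((Φ (KK G) (φφ G) (a₀ G)).obj a).obj.hom
      (inferInstanceAs (Mono ((Φ (KK G) (φφ G) (a₀ G)).obj a).arrow))
      (DO_isQuasicoherent G a.l) (DO_isFiniteType G a.l)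
  change Subsingleton (Sheaf.H (T.obj (colimit Dm)) p)
  rw [subsingleton_H_iff_isZero_Hp, IsZero.iff_id_eq_zero]
  exact hc2.hom_ext fun a => (hz a).eq_of_src _ _

end Groth.Agent.Lib.T2H4.FtColim
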