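import Mathlib
import Groth.Agent.Lib.Helper2TensorInv
import Groth.Agent.Lib.T2H4FinGlobGen
import Groth.Agent.Lib.Helper23AffOpen3
import Groth.Agent.Lib.T2H4FtColim
import Groth.Agent.Lib.Helper23Restr2
import Groth.Agent.Lib.Helper23QCohAbelian
import Groth.Agent.Lib.Helper23QCohExt
import Groth.Agent.Lib.Helper23RestrTensor
import Groth.Agent.Lib.Helper23FinTypeLocal
import Groth.Agent.Lib.T2H5CohSigma
import Groth.Agent.Lib.T2H9FBCAcyc
import Groth.Agent.Lib.Helper21ModTensor7
import Groth.Agent.S0014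
set_option backward.isDefEq.respectTransparency.types false

/-!
# A scheme with an ample module whose negative powers are acyclic is affine (helper4)

Namespace `Groth.Agent.Lib.T2H4.AmpleAffine`.

If `L` is ample on `X`, `L ⊗ L' ≅ O_X` and `H^p(X, L'^n) = 0` for `n ≥ n₀`, `p > 0`, then every quasi-coherent
module of finite type is a quotient of a finite sum of copies of some `L'^m` (`m ≥ n₀`), which is acyclic; by
descending induction on `p` (finite cohomological dimension) all quasi-coherent modules are acyclic, so `X` is affine by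
Serre's criterion.
-/

set_option autoImplicit false
set_option linter.style.haveILetI false
set_option linter.unusedSectionVars false
universe u
open CategoryTheory CategoryTheory.Limits AlgebraicGeometry TopologicalSpace Opposite

namespace Groth.Agent.Lib.T2H4.AmpleAffine

open Groth.Agent.Lib.Helper23.QCohLocal
open Groth.Agent.Lib.Helper21.ModTensor3 Groth.Agent.Lib.Helper21.ModTensor5

variable {X : Scheme.{u}}

/-- tensoring on the right with `N` -/
noncomputable abbrev tr (N : X.Modules) : X.Modules ⥤ X.Modules := tR X.sheaf N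

theorem preservesFiniteColimits_tr (L : X.Modules) :
    PreservesFiniteColimits (tr L) := tR_preservesFiniteColimits X.sheaf L

/-- `M ⊗ N ≅ N ⊗ M` -/
noncomputable def tensorComm (M N : X.Modules) : CohB1.tensorMod M N ≅ CohB1.tensorMod N M :=
  Groth.Agent.Lib.Helper21.ModTensor5.brdApp X.sheaf M N

theorem isInvertible_right (L L' : X.Modules) (e : CohB1.tensorMod L L' ≅ Coh.structureModule X) :
    PicF.IsInvertible L' :=
  Groth.Agent.Lib.Helper2.TensorInv.isInvertible_of_tensor_iso L' L (tensorComm L' L ≪≫ e)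

/-- `L^m ⊗ L'^m ≅ O` if `L ⊗ L' ≅ O` -/
theorem nonempty_pow_iso (L L' : X.Modules) (hL : PicF.IsInvertible L)
    (e : CohB1.tensorMod L L' ≅ Coh.structureModule X) (m : ℕ) :
    Nonempty (CohB1.tensorMod (CohB1.tensorPow L m) (CohB1.tensorPow L' m) ≅ Coh.structureModule X) := by
  obtain ⟨Φ⟩ := Groth.Agent.Lib.Helper23.SecTw.nonempty_tensorPow_tensorMod_iso L L' hL
    (isInvertible_right L L' e) m
  exact ⟨Φ ≪≫ Groth.Agent.Lib.Helper23.AmpleIso.tensorPowIso e m ≪≫
    Groth.Agent.Lib.Helper23.TensorUnit.tensorPowUnitIso m⟩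

/-- From the long exact sequence: `H^i(X₃)` vanishes if `H^i(X₂)` and `H^{i+1}(X₁)` do. -/
theorem subsingleton_right (S : ShortComplex X.Modules) (hS : S.ShortExact) (i : ℕ)
    (h2 : Subsingleton (Coh.HH X S.X₂ i)) (h1 : Subsingleton (Coh.HH X S.X₁ (i + 1))) :
    Subsingleton (Coh.HH X S.X₃ i) := by
  refine ⟨fun a b => ?_⟩
  have h0 : ∀ x : Coh.HH X S.X₃ i, x = 0 := by
    intro x
    obtain ⟨y, hy⟩ := Abelian.Ext.covariant_sequence_exact₃ _ (shortExact_toAbF S hS) x rfl
      (@Subsingleton.elim _ h1 _ _)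
    have hy0 : y = 0 := @Subsingleton.elim _ h2 y 0
    rw [hy0] at hy
    exact hy.symm.trans (Abelian.Ext.zero_comp _ _ _ _ _)
  rw [h0 a, h0 b]

/-- if `F ⊗ P` is a quotient of `O^b` and `P ⊗ G ≅ O`, then `F` is a quotient of `∐_b (O ⊗ G)` -/
theorem exists_epi_of_twist (F P G : X.Modules) (hG : CohB1.tensorMod P G ≅ Coh.structureModule X) (b : ℕ)
    (t : Fin b → (Coh.structureModule X ⟶ CohB1.tensorMod F P)) (ht : Epi (Sigma.desc t)) :
    ∃ (q : (∐ fun _ : Fin b => CohB1.tensorMod (Coh.structureModule X) G) ⟶ F), Epi q := by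
  let φ : CohB1.tensorMod (CohB1.tensorMod F P) G ≅ F :=
    Groth.Agent.Lib.Helper23.LocGen.tensorAssoc F P G ≪≫
      Groth.Agent.Lib.Helper23.AmpleIso.tensorModIso (Iso.refl F) hG ≪≫
      Groth.Agent.Lib.Helper23.TensorUnit.tensorUnitIso F
  haveI : PreservesFiniteColimits (tr G) := preservesFiniteColimits_tr G
  haveI := ht
  haveI hq : Epi ((tr G).map (Sigma.desc t)) := inferInstance
  let c : (∐ fun _ : Fin b => (tr G).obj (Coh.structureModule X)) ⟶
      (tr G).obj (∐ fun _ : Fin b => Coh.structureModule X) :=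
    sigmaComparison (tr G) (fun _ : Fin b => Coh.structureModule X)
  haveI : IsIso c := inferInstanceAs (IsIso (sigmaComparison (tr G) (fun _ : Fin b => Coh.structureModule X)))
  have hepi : Epi (c ≫ (tr G).map (Sigma.desc t) ≫ φ.hom) := epi_comp _ _
  exact ⟨c ≫ (tr G).map (Sigma.desc t) ≫ φ.hom, hepi⟩

/-- finite cohomological dimension of a quasi-compact scheme with affine intersections of affine opens -/
theorem exists_cohDim (X : Scheme.{u}) [CompactSpace X]
    (hd : ∀ V W : X.Opens, IsAffineOpen V → IsAffineOpen W → IsAffineOpen (V ⊓ W)) :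
    ∃ t : ℕ, ∀ (M : X.Modules) [M.IsQuasicoherent] (n : ℕ), t ≤ n →
      Subsingleton (Coh.HH X M n) := by
  let 𝒰 : X.OpenCover := X.affineCover.finiteSubcover
  have hfin : Finite 𝒰.I₀ := by dsimp [𝒰]; infer_instance
  have haff : ∀ i, IsAffine (𝒰.X i) := by intro i; dsimp [𝒰]; infer_instance
  obtain ⟨t, ⟨σ⟩⟩ := Finite.exists_equiv_fin 𝒰.I₀
  refine ⟨t, fun M _ n hn => ?_⟩
  refine Groth.Agent.Lib.Helper23.AffVanish.subsingleton_HH_of_cover t
    (fun k => (𝒰.f (σ.symm k)).opensRange) (fun k => isAffineOpen_opensRange _) ?_ hd M n hn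
  rw [eq_top_iff]
  intro x _
  obtain ⟨i, z, hz⟩ := 𝒰.exists_eq x
  exact Opens.mem_iSup.2 ⟨σ i, by rw [Equiv.symm_apply_apply]; exact ⟨z, hz⟩⟩

/-- the cohomology of a finite coproduct vanishes if that of the summands does (copy of helper5's
`T2H5.RegRes.subsingleton_HH_sigma`, re-homed to cut the import closure) -/
theorem subsingleton_HH_sigma {J : Type} [Finite J] (E : J → X.Modules) (i : ℕ)
    (h : ∀ j, Subsingleton (Coh.HH X (E j) i)) : Subsingleton (Coh.HH X (∐ E) i) := by
  classical
  have := Fintype.ofFinite J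
  have hsum : ∑ j, Sigma.π E j ≫ Sigma.ι E j = 𝟙 (∐ E) := by
    apply Sigma.hom_ext
    intro b
    rw [Preadditive.comp_sum, Category.comp_id]
    rw [Finset.sum_eq_single b]
    · rw [← Category.assoc, Sigma.ι_π_eq_id, Category.id_comp]
    · intro c _ hc
      rw [← Category.assoc, Sigma.ι_π_of_ne E (Ne.symm hc), zero_comp]
    · intro hb
      exact absurd (Finset.mem_univ b) hb
  have key : ∀ x : Coh.HH X (∐ E) i, x = 0 := by
    intro x
    let Φ : ((toAbF X).obj (∐ E) ⟶ (toAbF X).obj (∐ E)) →+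
        (Coh.HH X (∐ E) i →+ Coh.HH X (∐ E) i) :=
      AddMonoidHom.mk' (fun f => Sheaf.H.map f i) (by
        intro f g
        ext x
        exact Sheaf.H.map_add_apply f g x)
    have h1 : ∀ j, Φ ((toAbF X).map (Sigma.π E j ≫ Sigma.ι E j)) x = 0 := by
      intro j
      have h0 : Sheaf.H.map ((toAbF X).map (Sigma.π E j)) i x = 0 :=
        @Subsingleton.elim _ (h j) _ _
      have h3 : Sheaf.H.map ((toAbF X).map (Sigma.π E j) ≫ (toAbF X).map (Sigma.ι E j)) i x =
          Sheaf.H.map ((toAbF X).map (Sigma.ι E j)) i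
            (Sheaf.H.map ((toAbF X).map (Sigma.π E j)) i x) :=
        Sheaf.H.map_comp_apply _ _ x
      have h4 : Φ ((toAbF X).map (Sigma.π E j ≫ Sigma.ι E j)) x =
          Sheaf.H.map ((toAbF X).map (Sigma.π E j) ≫ (toAbF X).map (Sigma.ι E j)) i x :=
        congrArg (fun f => Sheaf.H.map f i x) ((toAbF X).map_comp _ _)
      exact h4.trans (h3.trans ((congrArg (Sheaf.H.map ((toAbF X).map (Sigma.ι E j)) i) h0).trans
        (map_zero _)))
    have h2 : x = Φ ((toAbF X).map (𝟙 (∐ E))) x := by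
      rw [CategoryTheory.Functor.map_id]
      exact (Sheaf.H.map_id_apply x).symm
    rw [h2, ← hsum, CategoryTheory.Functor.map_sum, map_sum, AddMonoidHom.finsetSum_apply]
    exact Finset.sum_eq_zero (fun j _ => h1 j)
  exact ⟨fun a b => (key a).trans (key b).symm⟩

open Groth.Agent.Lib.Helper23.FinType Groth.Agent.Lib.Helper23.RestrTensor in
/-- the twist of a quasi-coherent module of finite type by an invertible module is quasi-coherent of finite type -/
theorem isCoh_tensor_of_isInvertible (F P : X.Modules) [F.IsQuasicoherent]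
    [SheafOfModules.IsFiniteType (R := X.ringCatSheaf) F] (hP : PicF.IsInvertible P) :
    (CohB1.tensorMod F P).IsQuasicoherent ∧
      SheafOfModules.IsFiniteType (R := X.ringCatSheaf) (CohB1.tensorMod F P) := by
  choose U hxU hiso using hP
  have hcov : IsOpenCover U := by
    rw [IsOpenCover, eq_top_iff]
    intro x _
    exact Opens.mem_iSup.2 ⟨x, hxU x⟩
  have hloc : ∀ x, Nonempty ((CohB1.tensorMod F P).restrict (U x).ι ≅ F.restrict (U x).ι) := by
    intro x
    obtain ⟨e⟩ := hiso x
    exact ⟨restrictTensorIso F P (U x).ι ≪≫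
      Groth.Agent.Lib.Helper23.AmpleIso.tensorModIso (Iso.refl _) e ≪≫
      Groth.Agent.Lib.Helper23.TensorUnit.tensorUnitIso _⟩
  have hq : (CohB1.tensorMod F P).IsQuasicoherent := by
    refine isQuasicoherent_of_open_cover _ U hcov (fun x => ?_)
    obtain ⟨e⟩ := hloc x
    have h1 : (F.restrict (U x).ι).IsQuasicoherent :=
      Scheme.Modules.isQuasicoherent_restrictFunctor (U x).ι F
    exact (SheafOfModules.isQuasicoherent (U x : Scheme.{u}).ringCatSheaf).prop_of_iso e.symm h1
  haveI := hq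
  refine ⟨hq, isFiniteType_of_open_cover _ U hcov (fun x => ?_)⟩
  obtain ⟨e⟩ := hloc x
  haveI : SheafOfModules.IsFiniteType (R := (U x : Scheme.{u}).ringCatSheaf) (F.restrict (U x).ι) :=
    isFiniteType_restrict (U x).ι F
  exact isFiniteType_of_iso e.symm

section Main

variable (L L' : X.Modules) (hL : CohB1.IsAmple L)
  (e : CohB1.tensorMod L L' ≅ Coh.structureModule X) (r n₀ : ℕ)
  (h : ∀ n : ℕ, n₀ ≤ n → ∀ p : ℕ, r < p → Subsingleton (Coh.HH X (CohB1.tensorPow L' n) p))

include hL e h in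
/-- every quasi-coherent module of finite type is a quotient of a quasi-coherent module acyclic in degrees `> r` -/
theorem exists_epi_acyclic (F : X.Modules) [F.IsQuasicoherent]
    [SheafOfModules.IsFiniteType (R := X.ringCatSheaf) F] :
    ∃ (E : X.Modules) (q : E ⟶ F), E.IsQuasicoherent ∧
      (∀ p : ℕ, r < p → Subsingleton (Coh.HH X E p)) ∧ Epi q := by
  haveI : CompactSpace X := hL.2.1
  choose V n₁ hxV hn₁ using Groth.Agent.Lib.Helper23.LocGen.exists_locGen_nhd L hL F
  obtain ⟨T, hT⟩ : ∃ T : Finset X, (Set.univ : Set X) ⊆ ⋃ x ∈ T, (V x : Set X) :=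
    isCompact_univ.elim_finite_subcover (fun x => (V x : Set X)) (fun x => (V x).2)
      (fun x _ => Set.mem_iUnion.2 ⟨x, hxV x⟩)
  let m : ℕ := max (T.sup n₁) n₀
  let M : X.Modules := CohB1.tensorMod F (CohB1.tensorPow L m)
  have hMc := isCoh_tensor_of_isInvertible F (CohB1.tensorPow L m)
    (Groth.Agent.Lib.Helper23.SecTw.isInvertible_tensorPow hL.1 m)
  haveI : M.IsQuasicoherent := hMc.1
  haveI : SheafOfModules.IsFiniteType (R := X.ringCatSheaf) M := hMc.2
  have hgen : ∀ y : X, ∃ W : X.Opens, y ∈ W ∧ Groth.Agent.Lib.Helper23.LocGen.LocGen M W := by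
    intro y
    obtain ⟨x, hx⟩ := Set.mem_iUnion.1 (hT (Set.mem_univ y))
    obtain ⟨hxT, hyx⟩ := Set.mem_iUnion.1 hx
    exact ⟨V x, hyx, hn₁ x m ((Finset.le_sup hxT).trans (le_max_left _ _))⟩
  obtain ⟨b, t, ht⟩ := Groth.Agent.Lib.T2H4.FinGlobGen.exists_fin_epi M hgen
  obtain ⟨hG⟩ := nonempty_pow_iso L L' hL.1 e m
  obtain ⟨q, hq⟩ := exists_epi_of_twist F (CohB1.tensorPow L m) (CohB1.tensorPow L' m) hG b t ht
  have hinv' : PicF.IsInvertible (CohB1.tensorPow L' m) :=
    Groth.Agent.Lib.Helper23.SecTw.isInvertible_tensorPow (isInvertible_right L L' e) m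
  have hqc' : (CohB1.tensorPow L' m).IsQuasicoherent :=
    Groth.Agent.Lib.Helper23.SecTw.isQuasicoherent_of_isInvertible _ hinv'
  let u : CohB1.tensorMod (Coh.structureModule X) (CohB1.tensorPow L' m) ≅ CohB1.tensorPow L' m :=
    Groth.Agent.Lib.Helper23.TensorUnit.unitTensorIso _
  have hqc : (CohB1.tensorMod (Coh.structureModule X) (CohB1.tensorPow L' m)).IsQuasicoherent :=
    (SheafOfModules.isQuasicoherent X.ringCatSheaf).prop_of_iso u.symm hqc'
  refine ⟨_, q, Groth.Agent.Lib.T2H5.CohSigma.isQuasicoherent_sigma _ (fun _ => hqc), fun p hp => ?_, hq⟩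
  refine subsingleton_HH_sigma _ p (fun _ => ?_)
  exact Groth.Agent.Lib.T2H9.FBCAcyc.subsingleton_HH_of_iso u p (h m (le_max_right _ _) p hp)

include hL e h in
/-- descending induction: `H^p(X, G) = 0` for all quasi-coherent `G` and `p > r` -/
theorem vanish_aux [CompactSpace X] [QuasiSeparatedSpace X] (t : ℕ)
    (ht : ∀ (M : X.Modules) [M.IsQuasicoherent] (n : ℕ), t ≤ n → Subsingleton (Coh.HH X M n)) :
    ∀ (k p : ℕ), r < p → t ≤ p + k → ∀ (G : X.Modules) [G.IsQuasicoherent], Subsingleton (Coh.HH X G p) := by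
  intro k
  induction k with
  | zero =>
    intro p _ hpk G _
    exact ht G p (by simpa using hpk)
  | succ k ih =>
    intro p hp hpk G _
    refine Groth.Agent.Lib.T2H4.FtColim.subsingleton_HH_of_ft G p (fun F i _ hq hf => ?_)
    haveI : F.IsQuasicoherent := hq
    haveI : SheafOfModules.IsFiniteType (R := X.ringCatSheaf) F := hf
    obtain ⟨E, q, hE, hacyc, hepi⟩ := exists_epi_acyclic L L' hL e r n₀ h F
    haveI := hE
    haveI := hepi
    let S : ShortComplex X.Modules := ShortComplex.mk (kernel.ι q) q (kernel.condition q)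
    have hS : S.ShortExact := by
      have h1 : Mono S.f := inferInstanceAs (Mono (kernel.ι q))
      have h2 : Epi S.g := hepi
      exact ShortComplex.ShortExact.mk' (ShortComplex.exact_of_f_is_kernel S (kernelIsKernel q)) h1 h2
    haveI : (kernel q).IsQuasicoherent := isQuasicoherent_kernel q
    exact subsingleton_right S hS p (hacyc p hp)
      (ih (p + 1) (Nat.lt_succ_of_lt hp) (by omega) (kernel q))

include hL e h in
/-- `H^p(X, G) = 0` for all quasi-coherent `G` and `p > r` -/
theorem vanish (G : X.Modules) [G.IsQuasicoherent] (p : ℕ) (hp : r < p) : Subsingleton (Coh.HH X G p) := by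
  haveI : CompactSpace X := hL.2.1
  haveI : X.IsSeparated := Groth.Agent.Lib.Helper23.SecTw.isSeparated_of_isAmple L hL
  haveI : QuasiSeparatedSpace X := inferInstance
  obtain ⟨t, ht⟩ := exists_cohDim X (fun V W hV hW => hV.inf hW)
  exact vanish_aux L L' hL e r n₀ h t (fun M _ n hn => ht M n hn) t p hp (by omega) G

end Main

/-- a scheme with an ample module whose negative powers are acyclic is affine -/
theorem isAffine (L L' : X.Modules) (hL : CohB1.IsAmple L)
    (e : CohB1.tensorMod L L' ≅ Coh.structureModule X) (n₀ : ℕ)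
    (h : ∀ n : ℕ, n₀ ≤ n → ∀ p : ℕ, 0 < p → Subsingleton (Coh.HH X (CohB1.tensorPow L' n) p)) :
    IsAffine X := by
  haveI : CompactSpace X := hL.2.1
  haveI : X.IsSeparated := Groth.Agent.Lib.Helper23.SecTw.isSeparated_of_isAmple L hL
  haveI : QuasiSeparatedSpace X := inferInstance
  apply Groth.Agent.S0014.result X
  intro I i _ hq hf
  haveI : I.IsQuasicoherent := hq
  exact vanish L L' hL e 0 n₀ h I 1 one_pos

end Groth.Agent.Lib.T2H4.AmpleAffine
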