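import Mathlib
import Groth.Prelude.Def_KSix
import Groth.Agent.Lib.Helper21Dual12
import Groth.Agent.Lib.Helper21Dual9
import Groth.Agent.Lib.Helper21ModLocalIso
import Groth.Agent.Lib.Helper21ModTensor7
import Groth.Agent.Lib.Helper2TensorInv
import Groth.Agent.Lib.Helper23LocGen
import Groth.Agent.Lib.Helper23SecTw6
import Groth.Agent.Lib.Helper23TensorUnit
import Groth.Agent.Lib.Helper23AmpleIso
import Groth.Agent.Lib.Helper23RestrTensor
import Groth.Agent.Lib.Helper23ModLocal
import Groth.Agent.Lib.T2H4FinGlobGen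
import Groth.Agent.Lib.T2H4AmpleAffine

/-!
# Resolutions by negative powers of an ample family (helper4)

Namespace `Groth.Agent.Lib.T2H4.AmpleFamRes`.

* `inv`, `invTensorIso`, `tensorInvIso`: the tensor inverse of an invertible module (copied from helper9's
  `T2H9TensorInv`, with a lighter import closure).
* `trEquiv`: twisting by an invertible module is an autoequivalence (copied from helper5's `T2H5Twist`).
* `exists_epi`: on a quasi-compact quasi-separated scheme with an ample family `(L_i)`, every quasi-coherent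
  module of finite type is a quotient of a finite direct sum of negative powers of the `L_i`.
-/

set_option autoImplicit false
set_option linter.style.haveILetI false
set_option linter.unusedSectionVars false
set_option linter.unusedVariables false
universe u
open CategoryTheory CategoryTheory.Limits AlgebraicGeometry MonoidalCategory Opposite TopologicalSpace

namespace Groth.Agent.Lib.T2H4.AmpleFamRes

open Groth.Agent.Lib.Helper21.ModTensor Groth.Agent.Lib.Helper21.ModTensor2
  Groth.Agent.Lib.Helper21.ModTensor3 Groth.Agent.Lib.Helper21.ModTensor4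
  Groth.Agent.Lib.Helper21.ModTensor5
  Groth.Agent.Lib.Helper21.ModTensor6 Groth.Agent.Lib.Helper21.ModTensor7 Groth.Agent.Lib.Helper21.ModRestr
  Groth.Agent.Lib.Helper21.LocFact Groth.Agent.Lib.Helper21.RestrExact
  Groth.Agent.Lib.Helper21.Dual

attribute [local instance] Groth.Agent.Lib.Helper21.ExtShDelta.hasSheafHom

section site
variable {C : Type u} [SmallCategory C] {J : GrothendieckTopology C} (O : Sheaf J CommRingCat.{u})

/-- `- ⊗ E` is an equivalence when `E ≅ O`. -/
theorem isEquivalence_tR_of_iso_unit (E : ModSite.Mod O) (e : E ≅ ModSite.unit O) :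
    (tR O E).IsEquivalence := by
  have i1 : tR O E ≅ tR O (ModSite.unit O) := (ModSite.tensorBi O).flip.mapIso e
  have i2 : tR O (ModSite.unit O) ≅ 𝟭 (ModSite.Mod O) :=
    ((brd O).app (ModSite.unit O)).symm ≪≫ tLUnitIso O
  exact Functor.isEquivalence_of_iso (i1 ≪≫ i2).symm

/-- a perfect pairing with a module isomorphic to `O` is an isomorphism. -/
theorem isIso_of_perfect_of_iso_unit {D E : ModSite.Mod O}
    (ev : ((ModSite.tensorBi O).obj D).obj E ⟶ ModSite.unit O)
    (hperf : IsIso ((ModSite.sheafHomAdj E).homEquiv D (ModSite.unit O) ev))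
    (e : E ≅ ModSite.unit O) : IsIso ev := by
  haveI : ((ModSite.tensorBi O).flip.obj E).IsEquivalence := isEquivalence_tR_of_iso_unit O E e
  set ê := (ModSite.sheafHomAdj E).homEquiv D (ModSite.unit O) ev with hê
  have h1 : ev = ((ModSite.tensorBi O).flip.obj E).map ê ≫
      (ModSite.sheafHomAdj E).counit.app (ModSite.unit O) := by
    have := (ModSite.sheafHomAdj E).homEquiv_counit (X := D) (Y := ModSite.unit O) (g := ê)
    rw [← this, hê, Equiv.symm_apply_apply]
  rw [h1]
  haveI : IsIso (ModSite.sheafHomAdj E).counit := inferInstance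
  infer_instance

/-- a perfect pairing with a module locally isomorphic to `O` is an isomorphism. -/
theorem isIso_of_perfect_of_locally_iso_unit {K : Type*} (X : K → C) (hX : J.CoversTop X)
    {D E : ModSite.Mod O}
    (ev : ((ModSite.tensorBi O).obj D).obj E ⟶ ModSite.unit O)
    (hperf : IsIso ((ModSite.sheafHomAdj E).homEquiv D (ModSite.unit O) ev))
    (e : ∀ k, Nonempty ((ModSite.restr O (X k)).obj E ≅ ModSite.unit (O.over (X k)))) : IsIso ev := by
  refine Groth.Agent.Lib.Helper21.ModLocalIso.isIso_of_isIso_restr O X hX ev (fun k => ?_)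
  have h1 : IsIso (evRes O (X k) ev) :=
    isIso_of_perfect_of_iso_unit (O.over (X k)) _ (isIso_adjunct_evRes O (X k) ev hperf) (e k).some
  have h2 : (ModSite.restr O (X k)).map ev =
      (μP O (X k) ((fgt O).obj D) ((fgt O).obj E)).hom ≫ evRes O (X k) ev :=
    (Iso.hom_inv_id_assoc (μP O (X k) ((fgt O).obj D) ((fgt O).obj E)) _).symm
  rw [h2]
  exact IsIso.comp_isIso' (Iso.isIso_hom _) h1

end site

section scheme
variable {X : Scheme.{u}}

/-- a trivialization of `L` on `U` gives one of `L.over U`. -/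
noncomputable def overIsoUnit (L : X.Modules) (U : X.Opens)
    (e : L.restrict U.ι ≅ Coh.structureModule (↑U : Scheme.{u})) :
    (ModSite.restr X.sheaf U).obj L ≅ ModSite.unit (X.sheaf.over U) := by
  let Φ : SheafOfModules.{u} (X.ringCatSheaf.over U) ⥤ (↑U : Scheme.{u}).Modules :=
    (Scheme.Modules.overEquiv U).functor
  let i1 : Φ.obj ((SheafOfModules.overFunctor X.ringCatSheaf U).obj L) ≅ L.restrict U.ι :=
    (Scheme.Modules.overFunctorEquiv U).app L
  exact Φ.preimageIso (i1 ≪≫ e)

/-- the evaluation pairing `L^∨ ⊗ L ⟶ O` of an invertible module is an isomorphism. -/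
theorem isIso_evStd (L : X.Modules) (hL : PicF.IsInvertible L) :
    IsIso (evStd (O := X.sheaf) L) := by
  choose U hxU he using hL
  exact isIso_of_perfect_of_locally_iso_unit X.sheaf U (coversTop_of_mem U hxU) _ (hperf_std _)
    (fun x => ⟨overIsoUnit L (U x) (he x).some⟩)

/-- the dual of an invertible module, as an `O_X`-module. -/
noncomputable def inv (L : X.Modules) : X.Modules := dual (O := X.sheaf) L

/-- `L^∨ ⊗ L ≅ O` for `L` invertible. -/
noncomputable def invTensorIso (L : X.Modules) (hL : PicF.IsInvertible L) :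
    CohB1.tensorMod (inv L) L ≅ Coh.structureModule X :=
  @asIso _ _ _ _ (evStd (O := X.sheaf) L) (isIso_evStd L hL)

/-- `L ⊗ L^∨ ≅ O` for `L` invertible. -/
noncomputable def tensorInvIso (L : X.Modules) (hL : PicF.IsInvertible L) :
    CohB1.tensorMod L (inv L) ≅ Coh.structureModule X :=
  ((brd X.sheaf).app L).app (inv L) ≪≫ invTensorIso L hL

end scheme

section twist

variable {X : Scheme.{u}}

/-- tensoring on the right with `N` -/
noncomputable abbrev tr (N : X.Modules) : X.Modules ⥤ X.Modules := tR X.sheaf N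

theorem tr_obj (N M : X.Modules) : (tr N).obj M = CohB1.tensorMod M N := rfl

instance additive_tr (L : X.Modules) : (tr L).Additive := tR_additive X.sheaf L

/-- `- ⊗ O ≅ 𝟭` -/
noncomputable def trUnitIso : tr (Coh.structureModule X) ≅ 𝟭 X.Modules :=
  ((brd X.sheaf).app (ModSite.unit X.sheaf)).symm ≪≫ tLUnitIso X.sheaf

/-- `- ⊗ N ≅ - ⊗ N'` for `N ≅ N'` -/
noncomputable def trCongr {N N' : X.Modules} (e : N ≅ N') : tr N ≅ tr N' :=
  (ModSite.tensorBi X.sheaf).flip.mapIso e

/-- `(- ⊗ G) ⊗ F ≅ - ⊗ (G ⊗ F)` -/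
noncomputable def trComp (G F : X.Modules) : tr G ⋙ tr F ≅ tr (CohB1.tensorMod G F) :=
  tRTensorIso X.sheaf G F

/-- if `G ⊗ F ≅ O` then twisting by `G` then by `F` is isomorphic to the identity -/
noncomputable def trCompIsoId {G F : X.Modules} (e : CohB1.tensorMod G F ≅ Coh.structureModule X) :
    tr G ⋙ tr F ≅ 𝟭 X.Modules :=
  trComp G F ≪≫ trCongr e ≪≫ trUnitIso

/-- an autoequivalence from two mutually inverse twists -/
noncomputable def trEquiv {G F : X.Modules} (e : CohB1.tensorMod G F ≅ Coh.structureModule X)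
    (e' : CohB1.tensorMod F G ≅ Coh.structureModule X) : X.Modules ≌ X.Modules :=
  CategoryTheory.Equivalence.mk (tr G) (tr F) (trCompIsoId e).symm (trCompIsoId e')

end twist

section main

open Groth.Agent.Lib.Helper23.SecTw Groth.Agent.Lib.Helper23.LocGen Groth.Agent.Lib.Helper2.Push
  Groth.Agent.Lib.Helper6 Groth.Agent.Lib.Helper23.GenLocus Groth.Agent.Lib.T2H4.FinGlobGen

variable {X : Scheme.{u}}

theorem app_eq_zero_of_mem_gspanOf {N C : X.Modules} (c : N ⟶ C) (T : Set (Coh.structureModule X ⟶ N))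
    (hc : ∀ σ ∈ T, σ ≫ c = 0) {B : X.Opens} {m : Γ(N, B)} (hm : m ∈ gspanOf N T B) : c.app B m = 0 := by
  induction hm using Submodule.span_induction with
  | mem x hx =>
    obtain ⟨σ, hσ, rfl⟩ := hx
    have h := congrArg (fun φ : Coh.structureModule X ⟶ C => φ.app B (toS B 1)) (hc σ hσ)
    refine Eq.trans ?_ (h.trans ?_)
    · rfl
    · simp
  | zero => exact map_zero _
  | add x y _ _ hx hy => rw [map_add, hx, hy, add_zero]
  | smul r x _ hx => rw [Scheme.Modules.Hom.app_smul, hx, smul_zero]

theorem app_map' {A B : X.Modules} (m : A ⟶ B) {W W' : X.Opens} (i : W' ⟶ W) (s : Γ(A, W)) :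
    m.app W' (A.presheaf.map i.op s) = B.presheaf.map i.op (m.app W s) := by
  have := m.mapPresheaf.naturality i.op
  exact congrArg (fun φ => φ s) this

/-- if `N` is generated over `B` by sections killed by the epimorphism `c : N ⟶ C`, then `C` vanishes on `B`. -/
theorem isZero_restrict_of_locGenBy {N C : X.Modules} (T : Set (Coh.structureModule X ⟶ N)) (B : X.Opens)
    (hB : LocGenBy N T B) (c : N ⟶ C) [Epi c] (hc : ∀ σ ∈ T, σ ≫ c = 0) :
    IsZero (C.restrict B.ι) := by
  have hzero : (Scheme.Modules.restrictFunctor B.ι).map c = 0 := by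
    ext U s
    rw [Scheme.Modules.Hom.zero_app]
    change c.app (B.ι ''ᵁ U) s = 0
    refine Groth.Agent.Lib.Helper2.QcPush.section_eq_zero_of_cover C (B.ι ''ᵁ U) _ fun y hy => ?_
    have hle : B.ι ''ᵁ U ≤ B := by
      rintro _ ⟨z, -, rfl⟩
      exact z.2
    obtain ⟨B', hB', hyB', hmem⟩ := hB (B.ι ''ᵁ U) hle s y hy
    refine ⟨B', hB', hyB', ?_⟩
    rw [← app_map' c (homOfLE hB') s]
    exact app_eq_zero_of_mem_gspanOf c T hc hmem
  haveI : Epi ((Scheme.Modules.restrictFunctor B.ι).map c) := inferInstance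
  exact IsZero.of_epi_eq_zero _ hzero

end main

section result

open Groth.Agent.Lib.Helper23.SecTw Groth.Agent.Lib.Helper23.LocGen Groth.Agent.Lib.Helper2.Push
  Groth.Agent.Lib.Helper6 Groth.Agent.Lib.Helper23.GenLocus Groth.Agent.Lib.T2H4.FinGlobGen
  Groth.Agent.Lib.Helper23.RestrTensor

variable {X : Scheme.{u}}

/-- local data at a point for an ample family -/
theorem exists_local_data {ι : Type u} (L : ι → X.Modules) (hL : KSix.IsAmpleFamily L) (F : X.Modules)
    [F.IsQuasicoherent] [SheafOfModules.IsFiniteType (R := X.ringCatSheaf) F] (x : X) :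
    ∃ (i : ι) (k : ℕ) (Q : X.Modules) (B : X.Opens)
      (T : Finset (Coh.structureModule X ⟶ CohB1.tensorMod F Q)),
      0 < k ∧ PicF.IsInvertible Q ∧ Nonempty (Q ≅ CohB1.tensorPow (L i) k) ∧ x ∈ B ∧
        LocGenBy (CohB1.tensorMod F Q) (↑T) B := by
  obtain ⟨hqc, hqs, hinv, hcov⟩ := hL
  haveI := hqc
  haveI := hqs
  obtain ⟨i, n, s, hxs, haff⟩ := hcov x
  have hP := isInvertible_tensorPow (hinv i) (n + 1)
  obtain ⟨N₀, hN₀⟩ := exists_locGen_twist (CohB1.tensorPow (L i) (n + 1)) hP s haff F
  have hQ := isInvertible_tensorPow hP (N₀ + 1)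
  obtain ⟨hq, hf⟩ := Groth.Agent.Lib.T2H4.AmpleAffine.isCoh_tensor_of_isInvertible F
    (CohB1.tensorPow (CohB1.tensorPow (L i) (n + 1)) (N₀ + 1)) hQ
  haveI := hq
  haveI := hf
  obtain ⟨B, T, hxB, hBT⟩ := exists_finset_nhd _ _ (hN₀ (N₀ + 1) (Nat.le_succ _)) x hxs
  obtain ⟨e⟩ := nonempty_pow_pow_tensor_pow_iso (L i) (hinv i) (n + 1) (N₀ + 1) 0 ((n + 1) * (N₀ + 1))
    (by ring)
  exact ⟨i, (n + 1) * (N₀ + 1), _, B, T, Nat.mul_pos (Nat.succ_pos _) (Nat.succ_pos _), hQ,
    ⟨(Groth.Agent.Lib.Helper23.TensorUnit.tensorUnitIso _).symm ≪≫ e⟩, hxB, hBT⟩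

theorem exists_epi {ι : Type u} (L : ι → X.Modules) (hL : KSix.IsAmpleFamily L) (F : X.Modules)
    [F.IsQuasicoherent] [SheafOfModules.IsFiniteType (R := X.ringCatSheaf) F] :
    ∃ (M : X.Modules) (π : M ⟶ F), KSix.InAddL L M ∧ Epi π := by
  classical
  have hqc : CompactSpace X := hL.1
  choose i k Q B T hk hQ hiso hxB hBT using exists_local_data L hL F
  obtain ⟨S, hS⟩ : ∃ S : Finset X, (Set.univ : Set X) ⊆ ⋃ x ∈ S, (B x : Set X) :=
    isCompact_univ.elim_finite_subcover (fun x => (B x : Set X)) (fun x => (B x).2)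
      (fun x _ => Set.mem_iUnion.2 ⟨x, hxB x⟩)
  -- the equivalences
  let E : ∀ x : X, X.Modules ≌ X.Modules := fun x =>
    trEquiv (invTensorIso (Q x) (hQ x)) (tensorInvIso (Q x) (hQ x))
  -- the index type
  let J : Type u := Σ x : {x // x ∈ S}, {σ // σ ∈ T x.1}
  let NJ : J → X.Modules := fun a => (E a.1.1).functor.obj (Coh.structureModule X)
  let ρJ : ∀ a : J, NJ a ⟶ F := fun a =>
    ((E a.1.1).toAdjunction.homEquiv (Coh.structureModule X) F).symm a.2.1
  let kk := Fintype.card J
  let e : J ≃ Fin kk := Fintype.equivFin J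
  let Nn : Fin kk → X.Modules := fun j => NJ (e.symm j)
  let ρ : ∀ j, Nn j ⟶ F := fun j => ρJ (e.symm j)
  refine ⟨⨁ Nn, biproduct.desc ρ, ⟨kk, Nn, fun j => ?_, ⟨Iso.refl _⟩⟩, ?_⟩
  · -- negative power
    refine ⟨i (e.symm j).1.1, k (e.symm j).1.1, hk _, ⟨?_⟩⟩
    exact Groth.Agent.Lib.Helper23.AmpleIso.tensorModIso (Iso.refl _) (hiso (e.symm j).1.1).some.symm ≪≫
      (trCompIsoId (invTensorIso (Q (e.symm j).1.1) (hQ _))).app (Coh.structureModule X)
  · -- epi
    set π := biproduct.desc ρ with hπ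
    have h0 : ∀ j, ρJ (e.symm j) ≫ cokernel.π π = 0 := by
      intro j
      have : biproduct.ι Nn j ≫ π = ρ j := biproduct.ι_desc ρ j
      change ρ j ≫ cokernel.π π = 0
      rw [← this, Category.assoc, cokernel.condition, comp_zero]
    have h0' : ∀ a : J, ρJ a ≫ cokernel.π π = 0 := by
      intro a
      obtain ⟨j, rfl⟩ := e.symm.surjective a
      exact h0 j
    have hz : IsZero (cokernel π) := by
      refine Groth.Agent.Lib.Helper23.ModLocal.isZero_of_isZero_restrict
        (fun x : {x // x ∈ S} => ((B x.1 : X.Opens) : Scheme.{u})) (fun x => (B x.1).ι) ?_ (fun x => ?_)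
      · intro y
        obtain ⟨x₀, hx₀⟩ := Set.mem_iUnion.1 (hS (Set.mem_univ y))
        obtain ⟨hx₀S, hyx₀⟩ := Set.mem_iUnion.1 hx₀
        exact ⟨⟨x₀, hx₀S⟩, ⟨y, hyx₀⟩, rfl⟩
      · let c' : CohB1.tensorMod F (Q x.1) ⟶ CohB1.tensorMod (cokernel π) (Q x.1) :=
          (E x.1).inverse.map (cokernel.π π)
        haveI : Epi c' := by
          change Epi ((E x.1).inverse.map (cokernel.π π))
          infer_instance
        have hc : ∀ σ ∈ (↑(T x.1) : Set (Coh.structureModule X ⟶ CohB1.tensorMod F (Q x.1))),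
            σ ≫ c' = 0 := by
          intro σ hσ
          have h1 := h0' ⟨x, ⟨σ, Finset.mem_coe.1 hσ⟩⟩
          have h2 : ((E x.1).toAdjunction.homEquiv (Coh.structureModule X) (cokernel π)).symm (σ ≫ c') =
              ((E x.1).toAdjunction.homEquiv (Coh.structureModule X) F).symm σ ≫ cokernel.π π :=
            Adjunction.homEquiv_naturality_right_symm _ _ _
          have h3 : ((E x.1).toAdjunction.homEquiv (Coh.structureModule X) (cokernel π)).symm (σ ≫ c') = 0 :=
            h2.trans h1
          have h4 := congrArg ((E x.1).toAdjunction.homEquiv (Coh.structureModule X) (cokernel π)) h3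
          rw [Equiv.apply_symm_apply] at h4
          exact h4.trans (by rw [Adjunction.homEquiv_unit, Functor.map_zero, comp_zero]; rfl)
        have h5 : IsZero ((CohB1.tensorMod (cokernel π) (Q x.1)).restrict (B x.1).ι) :=
          isZero_restrict_of_locGenBy _ (B x.1) (hBT x.1) c' hc
        have h6' : IsZero ((tr ((inv (Q x.1)).restrict (B x.1).ι)).obj
            ((CohB1.tensorMod (cokernel π) (Q x.1)).restrict (B x.1).ι)) :=
          Functor.map_isZero (tr ((inv (Q x.1)).restrict (B x.1).ι)) h5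
        have h6 : IsZero (CohB1.tensorMod ((CohB1.tensorMod (cokernel π) (Q x.1)).restrict (B x.1).ι)
            ((inv (Q x.1)).restrict (B x.1).ι)) := by
          rw [← tr_obj]
          exact h6'
        have h7 : IsZero ((CohB1.tensorMod (CohB1.tensorMod (cokernel π) (Q x.1)) (inv (Q x.1))).restrict
            (B x.1).ι) :=
          h6.of_iso (restrictTensorIso _ _ (B x.1).ι)
        have h8 : IsZero ((Scheme.Modules.restrictFunctor (B x.1).ι).obj
            ((tr (Q x.1) ⋙ tr (inv (Q x.1))).obj (cokernel π))) := by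
          rw [Functor.comp_obj, tr_obj, tr_obj]
          exact h7
        exact h8.of_iso ((Scheme.Modules.restrictFunctor (B x.1).ι).mapIso
          ((trCompIsoId (tensorInvIso (Q x.1) (hQ x.1))).app (cokernel π)).symm)
    exact Preadditive.epi_of_isZero_cokernel π hz

end result

end Groth.Agent.Lib.T2H4.AmpleFamRes
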