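import Mathlib
import Groth.Prelude.Def_MoreMor
import Groth.Prelude.Def_BlowUp2
import Groth.Prelude.Def_ClSub2
import Groth.Prelude.Def_Omega4
import Groth.Agent.Lib.T2H4AmpleFamRes
import Groth.Agent.Lib.Helper23SecTw10
import Groth.Agent.S15744
import Groth.Agent.Lib.Helper20OmegaAff
import Groth.Agent.Lib.Helper20LocFree
import Groth.Agent.Lib.Helper23Restr
import Groth.Agent.Lib.Helper23TensorMap
import Groth.Agent.Lib.Helper23GenNear

/-!
# Ample families from effective Cartier divisors with ample complements (helper4)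

Namespace `Groth.Agent.Lib.T2H4.AmpleCartier`.

* `isInvertible_idealMod`: the ideal module of an effective Cartier divisor is invertible (after helper18).
* `basicOpen_ιf`: if `a` generates the ideal module `I` on `W`, then `D(ι a) = W ∖ Supp(O/I)`.
* `divMod I`, `divSec I`: the module `O(D) = I^∨` with its canonical section, whose generating locus is the complement of
  the support (`genLocus_divSec`).
* `exists_ample_section`, `hasAmpleFamily`: Cartier divisors with empty intersection and invertible modules ample on the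
  complements give an ample family.
-/

set_option autoImplicit false
set_option linter.style.haveILetI false
set_option linter.unusedSectionVars false
set_option linter.unusedVariables false
universe u
open CategoryTheory CategoryTheory.Limits AlgebraicGeometry TopologicalSpace Opposite

namespace Groth.Agent.Lib.T2H4.AmpleCartier

open Groth.Agent.Lib.Helper23.SecTw Groth.Agent.Lib.Helper23.GenLocus Groth.Agent.Lib.Helper6
  Groth.Agent.Lib.Helper23.Extend Groth.Agent.Lib.Helper23.TensorMap Groth.Agent.Lib.Helper23.AmpleIso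
  Groth.Agent.Lib.Helper23.TensorUnit Groth.Agent.Lib.Helper23.GenNear
  Groth.Agent.Lib.T2H4.AmpleFamRes

variable {X : Scheme.{u}}

/-- isomorphisms preserve generators (after helper23) -/
theorem isGen_of_iso' {M N : X.Modules} (Φ : M ≅ N) {W : X.Opens} {a : Γ(M, W)} (ha : IsGen M W a) :
    IsGen N W (Φ.hom.app W a) := by
  intro W' hW'
  have h1 := ha W' hW'
  have hiso : IsIso (Φ.hom.app W') := Scheme.Modules.Hom.isIso_iff_isIso_app.1 inferInstance _
  have hb : Function.Bijective (Φ.hom.app W') := ConcreteCategory.bijective_of_isIso _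
  have hfun : (fun r : Γ(X, W') => r • res N hW' (Φ.hom.app W a)) =
      ⇑(Φ.hom.app W') ∘ (fun r : Γ(X, W') => r • res M hW' a) := by
    funext r
    change r • res N hW' (Φ.hom.app W a) = Φ.hom.app W' (r • res M hW' a)
    rw [Scheme.Modules.Hom.app_smul]
    congr 1
    exact (app_map Φ.hom (homOfLE hW') a).symm
  rw [hfun]
  exact hb.comp h1

/-- if `a ⊗ e` generates and `e` generates then `a` generates -/
theorem isGen_of_isGen_tm (M L : X.Modules) (W : X.Opens) (a : Γ(M, W)) (e : Γ(L, W)) (he : IsGen L W e)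
    (h : IsGen (CohB1.tensorMod M L) W (tm M L W a e)) : IsGen M W a := by
  intro W' hW'
  have h1 := h W' hW'
  have hb := bijective_tm_of_isGen M L W e he W' hW'
  have hfun : (fun r : Γ(X, W') => r • res (CohB1.tensorMod M L) hW' (tm M L W a e)) =
      (fun t : Γ(M, W') => tm M L W' t (res L hW' e)) ∘ (fun r : Γ(X, W') => r • res M hW' a) := by
    funext r
    change _ = tm M L W' (r • res M hW' a) (res L hW' e)
    rw [res_tm, tm_smul_left]
  rw [hfun] at h1
  exact (Function.Bijective.of_comp_iff' hb _).1 h1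

section Ideal

variable (I : X.IdealSheafData)

/-- the function underlying a section of the ideal module -/
noncomputable def ιf (W : X.Opens) (a : Γ(ClSub.idealMod I, W)) : Γ(X, W) :=
  ofS W ((ClSub.idealModι I).app W a)

theorem ιf_smul (W : X.Opens) (r : Γ(X, W)) (a : Γ(ClSub.idealMod I, W)) :
    ιf I W (r • a) = r * ιf I W a := by
  unfold ιf
  rw [Scheme.Modules.Hom.app_smul]
  rfl

theorem ιf_zero (W : X.Opens) : ιf I W 0 = 0 := by
  unfold ιf
  rw [map_zero]
  rfl

theorem ιf_res {W W' : X.Opens} (h : W' ≤ W) (a : Γ(ClSub.idealMod I, W)) :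
    ιf I W' (res (ClSub.idealMod I) h a) = resf h (ιf I W a) := by
  unfold ιf
  exact congrArg (ofS W') (OmegaSh.idealModι_app_map (W := W) (K := I) h a)

theorem ιf_injective (W : X.Opens) : Function.Injective (ιf I W) := by
  intro a b h
  exact OmegaSh.idealModι_app_injective (W := W) (K := I) h

theorem ιf_mem_ker (W : X.Opens) (a : Γ(ClSub.idealMod I, W)) :
    (ClSub.toSubscheme I).app W (toS W (ιf I W a)) = 0 := by
  have h1 : ClSub.idealModι I ≫ ClSub.toSubscheme I = 0 := kernel.condition (ClSub.toSubscheme I)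
  have h2 : (ClSub.idealModι I ≫ ClSub.toSubscheme I).app W a = 0 := by
    rw [h1, Scheme.Modules.Hom.zero_app]
    rfl
  exact h2

theorem ιf_mem_ideal (V : X.affineOpens) (a : Γ(ClSub.idealMod I, V.1)) : ιf I V.1 a ∈ I.ideal V := by
  rw [← I.ker_subschemeι_app V, RingHom.mem_ker]
  exact ιf_mem_ker I V.1 a

theorem exists_ιf_eq (V : X.affineOpens) (g : Γ(X, V.1)) (hg : g ∈ I.ideal V) :
    ∃ b : Γ(ClSub.idealMod I, V.1), ιf I V.1 b = g := by
  rw [← I.ker_subschemeι_app V, RingHom.mem_ker] at hg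
  have h0 : (ClSub.toSubscheme I).app V.1 (toS V.1 g) = 0 := hg
  exact ⟨OmegaSh.kerLift (ClSub.toSubscheme I) V.1 (toS V.1 g) h0,
    congrArg (ofS V.1) (OmegaSh.ι_kerLift (ClSub.toSubscheme I) V.1 (toS V.1 g) h0)⟩

open Groth.Agent.Lib.Helper20.LocFree Groth.Agent.Lib.Helper20.OmegaAff in
/-- the ideal module of an effective Cartier divisor is invertible (after helper18) -/
theorem isInvertible_idealMod (hI : BlowUp.IsEffCartierIdeal I) : PicF.IsInvertible (ClSub.idealMod I) := by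
  intro x
  obtain ⟨V, hxV, f, hf0, hf⟩ := hI x
  have hfI : f ∈ I.ideal V := by rw [hf]; exact Ideal.mem_span_singleton_self f
  obtain ⟨a, ha⟩ := exists_ιf_eq I V f hfI
  let g : Γ(X, V.1) →ₗ[Γ(X, V.1)] Γ(ClSub.idealMod I, V.1) :=
    LinearMap.toSpanSingleton Γ(X, V.1) Γ(ClSub.idealMod I, V.1) a
  have hg : Function.Bijective g := by
    constructor
    · rw [injective_iff_map_eq_zero]
      intro r hr
      have h1 : r * f = 0 := by
        have h2 : ιf I V.1 (r • a) = ιf I V.1 0 := congrArg (ιf I V.1) hr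
        rw [ιf_smul, ha, ιf_zero] at h2
        exact h2
      exact (mem_nonZeroDivisors_iff_right.mp hf0) r h1
    · intro b
      have hb := ιf_mem_ideal I V b
      rw [hf] at hb
      obtain ⟨r, hr⟩ := Ideal.mem_span_singleton'.mp hb
      refine ⟨r, ιf_injective I V.1 ?_⟩
      show ιf I V.1 (r • a) = ιf I V.1 b
      rw [ιf_smul, ha, hr]
  let e1 : Γ(X, V.1) ≃ₗ[Γ(X, V.1)] Γ(ClSub.idealMod I, V.1) := LinearEquiv.ofBijective g hg
  let e2 : Γ(ClSub.idealMod I, V.1) ≃ₗ[Γ(X, V.1)] (Fin 1 → Γ(X, V.1)) :=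
    e1.symm.trans (LinearEquiv.funUnique (Fin 1) Γ(X, V.1) Γ(X, V.1)).symm
  let bs : Module.Basis (Fin 1) Γ(X, V.1) Γ(ClSub.idealMod I, V.1) := Module.Basis.ofEquivFun e2
  exact ⟨V.1, hxV, ⟨restrictIsoFreeMod (ClSub.idealMod I) V.2 bs ≪≫
    coproductUniqueIso (fun _ : Fin 1 => Coh.structureModule (V.1 : Scheme.{u}))⟩⟩

/-- on an affine open inside an open where `a` generates the ideal module, the ideal is generated by `ι a` -/
theorem ideal_eq_span (W : X.Opens) (a : Γ(ClSub.idealMod I, W)) (ha : IsGen (ClSub.idealMod I) W a)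
    (V : X.affineOpens) (hVW : V.1 ≤ W) : I.ideal V = Ideal.span {resf hVW (ιf I W a)} := by
  apply le_antisymm
  · intro g hg
    obtain ⟨b, hb⟩ := exists_ιf_eq I V g hg
    obtain ⟨c, hc⟩ := (ha V.1 hVW).2 b
    have hc' : c • res (ClSub.idealMod I) hVW a = b := hc
    rw [Ideal.mem_span_singleton']
    refine ⟨c, ?_⟩
    rw [← hb, ← hc', ιf_smul, ιf_res]
  · rw [Ideal.span_le, Set.singleton_subset_iff, ← ιf_res]
    exact ιf_mem_ideal I V _

/-- the non-vanishing locus of the function of a generator of the ideal module is the complement of the support -/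
theorem basicOpen_ιf (W : X.Opens) (a : Γ(ClSub.idealMod I, W)) (ha : IsGen (ClSub.idealMod I) W a) :
    X.basicOpen (ιf I W a) = W ⊓ I.support.compl := by
  ext y
  constructor
  · intro hy
    have hyW : y ∈ W := X.basicOpen_le _ hy
    refine ⟨hyW, ?_⟩
    obtain ⟨V, hV, hyV, hVW⟩ := (Opens.isBasis_iff_nbhd.1 X.isBasis_affineOpens) hyW
    change y ∉ I.support
    intro hys
    have h1 := (Scheme.IdealSheafData.mem_support_iff_of_mem (I := I) (U := ⟨V, hV⟩) hyV).1 hys
    rw [ideal_eq_span I W a ha ⟨V, hV⟩ hVW, Scheme.mem_zeroLocus_iff] at h1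
    have h2 := h1 (resf hVW (ιf I W a)) (Ideal.subset_span (Set.mem_singleton _))
    apply h2
    rw [Scheme.basicOpen_res]
    exact ⟨hyV, hy⟩
  · rintro ⟨hyW, hys⟩
    obtain ⟨V, hV, hyV, hVW⟩ := (Opens.isBasis_iff_nbhd.1 X.isBasis_affineOpens) hyW
    by_contra hy
    have hys' : y ∉ I.support := hys
    apply hys'
    refine (Scheme.IdealSheafData.mem_support_iff_of_mem (I := I) (U := ⟨V, hV⟩) hyV).2 ?_
    rw [ideal_eq_span I W a ha ⟨V, hV⟩ hVW, Scheme.mem_zeroLocus_iff]
    intro g hg hyg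
    obtain ⟨c, rfl⟩ := Ideal.mem_span_singleton'.mp (SetLike.mem_coe.1 hg)
    rw [Scheme.basicOpen_mul] at hyg
    have h3 := hyg.2
    rw [Scheme.basicOpen_res] at h3
    exact hy h3.2

variable (hI : PicF.IsInvertible (ClSub.idealMod I))

/-- `O(D)`, the inverse of the ideal module -/
noncomputable def divMod : X.Modules := inv (ClSub.idealMod I)

include hI in
theorem isInvertible_divMod : PicF.IsInvertible (divMod I) :=
  Groth.Agent.Lib.Helper2.TensorInv.isInvertible_of_tensor_iso _ _ (invTensorIso (ClSub.idealMod I) hI)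

/-- the canonical section of `O(D)` -/
noncomputable def divSec : Coh.structureModule X ⟶ divMod I :=
  (tensorInvIso (ClSub.idealMod I) hI).inv ≫ mulHom (ClSub.idealModι I) (divMod I)

theorem genLocus_divSec_inf (W : X.Opens) (a : Γ(ClSub.idealMod I, W)) (ha : IsGen (ClSub.idealMod I) W a)
    (e : Γ(divMod I, W)) (he : IsGen (divMod I) W e) :
    CohB1.genLocus (divMod I) (divSec I hI) ⊓ W = I.support.compl ⊓ W := by
  let φ : CohB1.tensorMod (ClSub.idealMod I) (divMod I) ≅ Coh.structureModule X :=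
    tensorInvIso (ClSub.idealMod I) hI
  have ht : IsGen _ W (tm (ClSub.idealMod I) (divMod I) W a e) := isGen_tm _ _ _ a e ha he
  have hφt : IsGen (Coh.structureModule X) W (φ.hom.app W (tm (ClSub.idealMod I) (divMod I) W a e)) :=
    isGen_of_iso' φ ht
  obtain ⟨u, hu⟩ : ∃ u : Γ(X, W), u = ofS W (φ.hom.app W (tm (ClSub.idealMod I) (divMod I) W a e)) := ⟨_, rfl⟩
  have hu1 : φ.hom.app W (tm (ClSub.idealMod I) (divMod I) W a e) = u • toS W 1 := by
    rw [smul_toS, mul_one, hu, toS_ofS]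
  have hunit : IsUnit u := by
    rw [hu1] at hφt
    exact (isGen_smul_iff (isGen_one W) u).1 hφt
  obtain ⟨v, hv⟩ := hunit
  have h2 : φ.inv.app W (toS W 1) = (↑v⁻¹ : Γ(X, W)) • tm (ClSub.idealMod I) (divMod I) W a e := by
    have h3 : φ.inv.app W (φ.hom.app W (tm (ClSub.idealMod I) (divMod I) W a e)) =
        tm (ClSub.idealMod I) (divMod I) W a e := by
      have := congrArg (fun ψ => Scheme.Modules.Hom.app ψ W (tm (ClSub.idealMod I) (divMod I) W a e)) φ.hom_inv_id
      exact this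
    rw [hu1, Scheme.Modules.Hom.app_smul] at h3
    rw [← h3, ← mul_smul, ← hv, Units.inv_mul, one_smul]
  have h4 : sv (divSec I hI) W = ((↑v⁻¹ : Γ(X, W)) * ιf I W a) • e := by
    have h5 : sv (divSec I hI) W =
        (mulHom (ClSub.idealModι I) (divMod I)).app W (φ.inv.app W (toS W 1)) := by
      have h6 := app_toS (divSec I hI) W 1
      rw [one_smul] at h6
      rw [← h6]
      rfl
    rw [h5, h2, Scheme.Modules.Hom.app_smul, mulHom_tm, mul_smul]
    rfl
  rw [genLocus_inf_eq_of_isGen _ _ W e _ he h4, Scheme.basicOpen_mul, basicOpen_ιf I W a ha,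
    X.basicOpen_of_isUnit (Units.isUnit v⁻¹)]
  ext y
  simp only [Opens.coe_inf, Set.mem_inter_iff, SetLike.mem_coe]
  tauto

/-- the generating locus of the canonical section of `O(D)` is the complement of the support of `D` -/
theorem genLocus_divSec : CohB1.genLocus (divMod I) (divSec I hI) = I.support.compl := by
  refine opens_eq_of_cover _ _ (fun x => ?_)
  obtain ⟨W₁, a₁, hxW₁, ha₁⟩ := exists_gen (ClSub.idealMod I) hI x
  obtain ⟨W₂, e₂, hxW₂, he₂⟩ := exists_gen (divMod I) (isInvertible_divMod I hI) x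
  exact ⟨W₁ ⊓ W₂, ⟨hxW₁, hxW₂⟩, genLocus_divSec_inf I hI (W₁ ⊓ W₂) _ (ha₁.mono inf_le_left) _ (he₂.mono inf_le_right)⟩

end Ideal

section Cover

theorem compactSpace_of_cover {m : ℕ} (U : Fin m → X.Opens) (hU : ∀ x : X, ∃ i, x ∈ U i)
    (hc : ∀ i, IsCompact (U i : Set X)) : CompactSpace X := by
  constructor
  have h : (Set.univ : Set X) = ⋃ i, (U i : Set X) := by
    ext x
    simp only [Set.mem_univ, Set.mem_iUnion, SetLike.mem_coe, true_iff]
    exact hU x
  rw [h]
  exact isCompact_iUnion hc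

theorem quasiSeparatedSpace_of_cover' {m : ℕ} (U : Fin m → X.Opens) (hU : ∀ x : X, ∃ i, x ∈ U i)
    (hqs : ∀ i, IsQuasiSeparated (U i : Set X))
    (P : Fin m → X.Modules) (hP : ∀ i, PicF.IsInvertible (P i)) (σ : ∀ i, Coh.structureModule X ⟶ P i)
    (hσ : ∀ i, CohB1.genLocus (P i) (σ i) = U i) : QuasiSeparatedSpace X := by
  refine Scheme.quasiSeparatedSpace_of_isOpenCover
    (fun W : {W : X.Opens // IsAffineOpen W ∧ ∃ i, W ≤ U i} => W.1) ?_ (fun W => W.2.1) (fun W W' => ?_)
  · rw [IsOpenCover, eq_top_iff]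
    intro x _
    obtain ⟨i, hi⟩ := hU x
    obtain ⟨V, hV, hxV, hVU⟩ := (Opens.isBasis_iff_nbhd.1 X.isBasis_affineOpens) hi
    exact Opens.mem_iSup.2 ⟨⟨V, hV, i, hVU⟩, hxV⟩
  · obtain ⟨j, hj⟩ := W'.2.2
    have h1 : IsAffineOpen (W.1 ⊓ U j) := by
      rw [← hσ j]
      exact isAffineOpen_inf_genLocus (P j) (hP j) (σ j) W.1 W.2.1
    have h2 : IsCompact (((W.1 ⊓ U j : X.Opens) : Set X) ∩ (W'.1 : Set X)) :=
      hqs j ((W.1 ⊓ U j : X.Opens) : Set X) (W'.1 : Set X) (fun y hy => hy.2) (W.1 ⊓ U j).isOpen h1.isCompact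
        hj W'.1.isOpen W'.2.1.isCompact
    have h3 : ((W.1 : Set X) ∩ (W'.1 : Set X)) = ((W.1 ⊓ U j : X.Opens) : Set X) ∩ (W'.1 : Set X) := by
      ext y
      constructor
      · rintro ⟨h, h'⟩
        exact ⟨⟨h, hj h'⟩, h'⟩
      · rintro ⟨⟨h, -⟩, h'⟩
        exact ⟨h, h'⟩
    have h4 : IsCompact ((W.1 : Set X) ∩ (W'.1 : Set X)) := by
      rw [h3]
      exact h2
    exact h4

end Cover

section Main

/-- the key step: on a qcqs scheme, if `M` is ample on the generating locus `X_σ` of a section of an invertible module `P`,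
every point of `X_σ` lies in an affine generating locus of a section of some invertible module on `X` -/
theorem exists_ample_section [CompactSpace X] [QuasiSeparatedSpace X]
    (P : X.Modules) (hP : PicF.IsInvertible P) (σ : Coh.structureModule X ⟶ P)
    (M : X.Modules) (hM : PicF.IsInvertible M)
    (hamp : CohB1.IsAmple (M.restrict (CohB1.genLocus P σ).ι)) (x : X) (hx : x ∈ CohB1.genLocus P σ) :
    ∃ (L : X.Modules) (s : Coh.structureModule X ⟶ CohB1.tensorPow L 1),
      PicF.IsInvertible L ∧ x ∈ CohB1.genLocus _ s ∧ IsAffineOpen (CohB1.genLocus _ s) := by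
  obtain ⟨G, hG⟩ : ∃ G : X.Opens, G = CohB1.genLocus P σ := ⟨_, rfl⟩
  rw [← hG] at hamp hx
  obtain ⟨n, s, hxs, haff⟩ := hamp.2.2 ⟨x, hx⟩
  obtain ⟨Q, hQdef⟩ : ∃ Q : X.Modules, Q = CohB1.tensorPow M (n + 1) := ⟨_, rfl⟩
  have hQ : PicF.IsInvertible Q := by rw [hQdef]; exact isInvertible_tensorPow hM (n + 1)
  obtain ⟨Φ⟩ : Nonempty (Q.restrict G.ι ≅ CohB1.tensorPow (M.restrict G.ι) (n + 1)) := by
    rw [hQdef]; exact nonempty_restrict_tensorPow_iso M hM G (n + 1)
  let s' : Coh.structureModule (↑G : Scheme.{u}) ⟶ Q.restrict G.ι := s ≫ Φ.symm.hom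
  have hs' : CohB1.genLocus _ s' = CohB1.genLocus _ s := genLocus_comp_iso Φ.symm s
  obtain ⟨V₀, hV₀⟩ : ∃ V₀ : (↑G : Scheme.{u}).Opens, V₀ = CohB1.genLocus (Q.restrict G.ι) s' := ⟨_, rfl⟩
  have hxV₀ : (⟨x, hx⟩ : (↑G : Scheme.{u})) ∈ V₀ := by rw [hV₀, hs']; exact hxs
  have haffV₀ : IsAffineOpen V₀ := by rw [hV₀, hs']; exact haff
  have htop : G.ι ''ᵁ ⊤ = G := by rw [Scheme.Hom.image_top_eq_opensRange, Scheme.Opens.opensRange_ι]
  let e₀ : Γ(Q, G.ι ''ᵁ ⊤) := sv s' ⊤
  let t : Γ(Q, G) := res Q (le_of_eq htop.symm) e₀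
  haveI : Q.IsQuasicoherent := isQuasicoherent_of_isInvertible Q hQ
  have hmain : ∀ (G' : X.Opens) (hG' : G' = CohB1.genLocus P σ) (t : Γ(Q, G')),
      ∃ n : ℕ, 0 < n ∧ ∃ t' : Γ(CohB1.tensorMod Q (CohB1.tensorPow P n), ⊤),
        res _ (le_top : G' ≤ ⊤) t' = tw Q P G' t (sv σ G') n := by
    intro G' hG' t
    subst hG'
    exact Groth.Agent.S15744.main X P hP σ Q t
  obtain ⟨k, hk, t', ht'⟩ := hmain G hG t
  obtain ⟨τ, hτ⟩ : ∃ τ : Coh.structureModule X ⟶ CohB1.tensorMod Q (CohB1.tensorPow P k), τ = secHom _ t' :=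
    ⟨_, rfl⟩
  have hQk : PicF.IsInvertible (CohB1.tensorMod Q (CohB1.tensorPow P k)) :=
    isInvertible_tensorMod hQ (isInvertible_tensorPow hP k)
  have hL' : PicF.IsInvertible (CohB1.tensorMod (CohB1.tensorMod Q (CohB1.tensorPow P k)) P) :=
    isInvertible_tensorMod hQk hP
  have hgl : CohB1.genLocus _ (SecTwist.tmulHom τ σ) = CohB1.genLocus _ τ ⊓ G := by
    rw [hG]; exact genLocus_tmulHom hQk hP τ σ
  have hGle : ∀ V : (↑G : Scheme.{u}).Opens, G.ι ''ᵁ V ≤ G := fun V => image_le_self G V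
  have hsvτ : ∀ (W : X.Opens) (hW : W ≤ G), sv τ W =
      tm Q (CohB1.tensorPow P k) W (res Q hW t) (pw P W (sv σ W) k) := by
    intro W hW
    rw [hτ, sv_secHom]
    have h1 : res _ (le_top : W ≤ ⊤) t' = res _ hW (res _ (le_top : G ≤ ⊤) t') := (res_res _ _ _ _).symm
    rw [h1, ht', res_tw, res_sv]
    rfl
  have hpw : ∀ (W : X.Opens) (hW : W ≤ G), IsGen (CohB1.tensorPow P k) W (pw P W (sv σ W) k) := by
    intro W hW
    have h1 : IsGen P G (sv σ G) := by rw [hG]; exact isGen_sv_genLocus P σ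
    have h2 := h1.mono hW
    rw [res_sv] at h2
    exact isGen_pw P W _ h2 k
  have hA : ∀ (W : X.Opens) (hW : W ≤ G), IsGen _ W (sv τ W) ↔ IsGen Q W (res Q hW t) := by
    intro W hW
    rw [hsvτ W hW]
    exact ⟨isGen_of_isGen_tm Q _ W _ _ (hpw W hW), fun h => isGen_tm Q _ W _ _ h (hpw W hW)⟩
  have hB : ∀ V : (↑G : Scheme.{u}).Opens, IsGen (Q.restrict G.ι) V (sv s' V) ↔
      IsGen Q (G.ι ''ᵁ V) (res Q (hGle V) t) := by
    intro V
    have h1 : sv s' V = (show Γ(Q.restrict G.ι, V) from res Q (hGle V) t) := by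
      rw [← res_sv s' (le_top : V ≤ ⊤)]
      change res Q (G.ι.image_mono (le_top : V ≤ ⊤)) e₀ = res Q (hGle V) (res Q (le_of_eq htop.symm) e₀)
      rw [res_res]
    rw [h1]
    exact ⟨isGen_of_isGen_restrict Q G V _, isGen_restrict_of_isGen Q G V _⟩
  have key : CohB1.genLocus _ τ ⊓ G = G.ι ''ᵁ V₀ := by
    apply le_antisymm
    · have hWG : CohB1.genLocus _ τ ⊓ G ≤ G := inf_le_right
      have h1 : IsGen _ (CohB1.genLocus _ τ ⊓ G) (sv τ (CohB1.genLocus _ τ ⊓ G)) := by
        have := (isGen_sv_genLocus _ τ).mono (inf_le_left : CohB1.genLocus _ τ ⊓ G ≤ CohB1.genLocus _ τ)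
        rwa [res_sv] at this
      have h2 : IsGen Q (CohB1.genLocus _ τ ⊓ G) (res Q hWG t) := (hA _ hWG).1 h1
      have hW' : G.ι ''ᵁ (G.ι ⁻¹ᵁ (CohB1.genLocus _ τ ⊓ G)) = CohB1.genLocus _ τ ⊓ G :=
        image_preimage_of_le G hWG
      have h3 : IsGen Q (G.ι ''ᵁ (G.ι ⁻¹ᵁ (CohB1.genLocus _ τ ⊓ G))) (res Q (hGle _) t) := by
        have := h2.mono (le_of_eq hW')
        rwa [res_res] at this
      have h4 : IsGen (Q.restrict G.ι) (G.ι ⁻¹ᵁ (CohB1.genLocus _ τ ⊓ G)) (sv s' _) := (hB _).2 h3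
      have h5 : G.ι ⁻¹ᵁ (CohB1.genLocus _ τ ⊓ G) ≤ V₀ := by
        rw [hV₀]; exact le_genLocus_of_isGen _ s' _ h4
      exact (le_of_eq hW'.symm).trans (G.ι.image_mono h5)
    · have h1 : IsGen (Q.restrict G.ι) V₀ (sv s' V₀) := by rw [hV₀]; exact isGen_sv_genLocus _ s'
      have h2 : IsGen Q (G.ι ''ᵁ V₀) (res Q (hGle V₀) t) := (hB V₀).1 h1
      have h3 : IsGen _ (G.ι ''ᵁ V₀) (sv τ _) := (hA _ (hGle V₀)).2 h2
      exact le_inf (le_genLocus_of_isGen _ τ _ h3) (hGle V₀)
  have hfin : CohB1.genLocus (CohB1.tensorPow (CohB1.tensorMod (CohB1.tensorMod Q (CohB1.tensorPow P k)) P) 1)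
      (SecTwist.tmulHom τ σ ≫ (unitTensorIso (CohB1.tensorMod (CohB1.tensorMod Q (CohB1.tensorPow P k)) P)).symm.hom) =
      G.ι ''ᵁ V₀ := by
    have h1 := genLocus_comp_iso (unitTensorIso (CohB1.tensorMod (CohB1.tensorMod Q (CohB1.tensorPow P k)) P)).symm
      (SecTwist.tmulHom τ σ)
    exact h1.trans (hgl.trans key)
  refine ⟨CohB1.tensorMod (CohB1.tensorMod Q (CohB1.tensorPow P k)) P,
    SecTwist.tmulHom τ σ ≫ (unitTensorIso (CohB1.tensorMod (CohB1.tensorMod Q (CohB1.tensorPow P k)) P)).symm.hom,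
    hL', ?_, ?_⟩
  · rw [hfin]
    exact ⟨⟨x, hx⟩, hxV₀, rfl⟩
  · rw [hfin]
    exact haffV₀.image_of_isOpenImmersion G.ι

/-- effective Cartier divisors with empty intersection and invertible modules ample on the complements give an ample family -/
theorem hasAmpleFamily {m : ℕ} (D : Fin m → X.IdealSheafData)
    (hD : ∀ i, BlowUp.IsEffCartierIdeal (D i)) (hcap : ⋂ i, ((D i).support : Set ↑X) = ∅)
    (L : Fin m → X.Modules) (hL : ∀ i, PicF.IsInvertible (L i))
    (hamp : ∀ i, CohB1.IsAmple ((L i).restrict (Scheme.Opens.ι (D i).support.compl))) :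
    MoreMor.HasAmpleFamily X := by
  have hI : ∀ i, PicF.IsInvertible (ClSub.idealMod (D i)) := fun i => isInvertible_idealMod (D i) (hD i)
  have hP : ∀ i, PicF.IsInvertible (divMod (D i)) := fun i => isInvertible_divMod (D i) (hI i)
  have hσ : ∀ i, CohB1.genLocus (divMod (D i)) (divSec (D i) (hI i)) = (D i).support.compl :=
    fun i => genLocus_divSec (D i) (hI i)
  have hcov : ∀ x : X, ∃ i, x ∈ (D i).support.compl := by
    intro x
    by_contra h
    have h1 : x ∈ ⋂ i, ((D i).support : Set ↑X) := Set.mem_iInter.2 (fun i => by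
      by_contra hx
      exact h ⟨i, hx⟩)
    rw [hcap] at h1
    exact h1
  haveI : CompactSpace X := compactSpace_of_cover (fun i => (D i).support.compl) hcov
    (fun i => isCompact_iff_compactSpace.2 (hamp i).2.1)
  haveI : QuasiSeparatedSpace X := quasiSeparatedSpace_of_cover' (fun i => (D i).support.compl) hcov
    (fun i => (isQuasiSeparated_iff_quasiSeparatedSpace _ ((D i).support.compl).isOpen).2
      (quasiSeparatedSpace_of_isAmple _ (hamp i)))
    (fun i => divMod (D i)) hP (fun i => divSec (D i) (hI i)) hσ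
  refine ⟨inferInstance, fun x => ?_⟩
  obtain ⟨i, hi⟩ := hcov x
  have hamp' : CohB1.IsAmple ((L i).restrict (CohB1.genLocus (divMod (D i)) (divSec (D i) (hI i))).ι) := by
    rw [hσ i]; exact hamp i
  have hx : x ∈ CohB1.genLocus (divMod (D i)) (divSec (D i) (hI i)) := by rw [hσ i]; exact hi
  obtain ⟨L', s, hL', hxs, haff⟩ :=
    exists_ample_section (divMod (D i)) (hP i) (divSec (D i) (hI i)) (L i) (hL i) hamp' x hx
  exact ⟨L', 1, s, hL', le_refl 1, hxs, haff⟩

end Main

end Groth.Agent.Lib.T2H4.AmpleCartier
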