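import Mathlib
import Groth.Agent.Lib.T1H4ArSingInv

/-! Helper library (helper4): automorphisms and involutions of `k[[t]]`. -/

set_option autoImplicit false

namespace Groth.Agent.Lib.T2H4.ArSingPSAut

open Groth.Agent.Lib.T1H4.ArSingNF Groth.Agent.Lib.T1H4.ArSingCore Groth.Agent.Lib.T1H4.ArSingHom
  Groth.Agent.Lib.T1H4.ArSingInv

universe u

variable {k : Type u} [Field k]

/-- substitution `t ↦ s` as an algebra endomorphism of `k[[t]]` -/
noncomputable def subA (s : PowerSeries k) (hs : PowerSeries.constantCoeff s = 0) :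
    PowerSeries k →ₐ[k] PowerSeries k :=
  PowerSeries.substAlgHom (PowerSeries.HasSubst.of_constantCoeff_zero' hs)

lemma subA_X (s : PowerSeries k) (hs : PowerSeries.constantCoeff s = 0) :
    subA s hs PowerSeries.X = s :=
  PowerSeries.substAlgHom_X _

lemma subA_apply (s : PowerSeries k) (hs : PowerSeries.constantCoeff s = 0) (p : PowerSeries k) :
    subA s hs p = PowerSeries.subst s p := by
  rw [subA, PowerSeries.coe_substAlgHom]

/-- the automorphism `t ↦ s` of `k[[t]]`, for `s = u t + …` with `u ≠ 0` -/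
noncomputable def psEquiv (s : PowerSeries k) (hs : PowerSeries.constantCoeff s = 0)
    (h1 : IsUnit (PowerSeries.coeff 1 s)) : PowerSeries k ≃ₐ[k] PowerSeries k :=
  AlgEquiv.ofAlgHom (subA s hs)
    (subA (PowerSeries.substInvOfIsUnit s h1) (PowerSeries.constantCoeff_substInvOfIsUnit s h1))
    (by
      apply ps_algHom_ext
      · rw [AlgHom.comp_apply, subA_X, subA_apply, AlgHom.id_apply]
        exact PowerSeries.subst_substInvOfIsUnit_left s hs h1
      · rw [AlgHom.comp_apply, subA_X, subA_apply,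
          PowerSeries.subst_substInvOfIsUnit_left s hs h1, PowerSeries.constantCoeff_X])
    (by
      apply ps_algHom_ext
      · rw [AlgHom.comp_apply, subA_X, subA_apply, AlgHom.id_apply]
        exact PowerSeries.subst_substInvOfIsUnit_right s hs h1
      · rw [AlgHom.comp_apply, subA_X, subA_apply,
          PowerSeries.subst_substInvOfIsUnit_right s hs h1, PowerSeries.constantCoeff_X])

lemma psEquiv_X (s : PowerSeries k) (hs : PowerSeries.constantCoeff s = 0)
    (h1 : IsUnit (PowerSeries.coeff 1 s)) : psEquiv s hs h1 PowerSeries.X = s :=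
  subA_X s hs

lemma constantCoeff_algHom (ψ : PowerSeries k →ₐ[k] PowerSeries k)
    (h0 : PowerSeries.constantCoeff (ψ PowerSeries.X) = 0) (p : PowerSeries k) :
    PowerSeries.constantCoeff (ψ p) = PowerSeries.constantCoeff p := by
  have hp := PowerSeries.eq_X_mul_shift_add_const p
  have hC : ψ (PowerSeries.C (PowerSeries.constantCoeff p)) =
      PowerSeries.C (PowerSeries.constantCoeff p) := by
    rw [PowerSeries.C_eq_algebraMap, AlgHom.commutes]
  conv_lhs => rw [hp, map_add, map_mul, hC, map_add, map_mul, h0, zero_mul, zero_add,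
    PowerSeries.constantCoeff_C]

/-- for an involution `τ` of `k[[t]]`, `τ t` has no constant term -/
lemma constantCoeff_of_involutive (τ : PowerSeries k →ₐ[k] PowerSeries k)
    (hτ : ∀ p, τ (τ p) = p) : PowerSeries.constantCoeff (τ PowerSeries.X) = 0 := by
  by_contra h
  have h1 : IsUnit (τ PowerSeries.X) := by
    rw [PowerSeries.isUnit_iff_constantCoeff]
    exact isUnit_iff_ne_zero.mpr h
  have h3 := h1.map τ
  rw [hτ, PowerSeries.isUnit_iff_constantCoeff, PowerSeries.constantCoeff_X] at h3
  exact not_isUnit_zero h3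

lemma coeff_one_algHom (ψ : PowerSeries k →ₐ[k] PowerSeries k)
    (h0 : PowerSeries.constantCoeff (ψ PowerSeries.X) = 0) (p : PowerSeries k) :
    PowerSeries.coeff 1 (ψ p) = PowerSeries.coeff 1 (ψ PowerSeries.X) * PowerSeries.coeff 1 p := by
  obtain ⟨w, hw⟩ := PowerSeries.X_dvd_iff.mpr h0
  have hp := PowerSeries.eq_X_mul_shift_add_const p
  set p₁ : PowerSeries k := PowerSeries.mk fun n => PowerSeries.coeff (n + 1) p with hp₁
  have hp' := PowerSeries.eq_X_mul_shift_add_const p₁
  set p₂ : PowerSeries k := PowerSeries.mk fun n => PowerSeries.coeff (n + 1) p₁ with hp₂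
  have hC : ∀ c : k, ψ (PowerSeries.C c) = PowerSeries.C c := by
    intro c
    rw [PowerSeries.C_eq_algebraMap, AlgHom.commutes]
  have e1 : PowerSeries.constantCoeff p₁ = PowerSeries.coeff 1 p := by
    rw [← PowerSeries.coeff_zero_eq_constantCoeff_apply, hp₁, PowerSeries.coeff_mk]
  have e : ψ p = PowerSeries.C (PowerSeries.constantCoeff p) +
      PowerSeries.C (PowerSeries.coeff 1 p) * ψ PowerSeries.X +
        PowerSeries.X * (PowerSeries.X * (w * w * ψ p₂)) := by
    conv_lhs => rw [hp, map_add, map_mul, hC, hp', map_add, map_mul, hC, e1]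
    rw [hw]
    ring
  rw [e, map_add, map_add, PowerSeries.coeff_C, if_neg one_ne_zero, zero_add,
    PowerSeries.coeff_C_mul, PowerSeries.coeff_succ_X_mul, PowerSeries.coeff_zero_X_mul, add_zero,
    mul_comm]

/-- Linearization of an involution of `k[[t]]`. -/
theorem exists_linearize (h2 : (2 : k) ≠ 0) (τ : PowerSeries k →ₐ[k] PowerSeries k)
    (hτ : ∀ p, τ (τ p) = p) :
    ∃ (c : k) (θ : PowerSeries k ≃ₐ[k] PowerSeries k), (c = 1 ∨ c = -1) ∧
      ∀ p, τ (θ p) = θ (RR k c p) := by
  have h0 := constantCoeff_of_involutive τ hτ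
  set c : k := PowerSeries.coeff 1 (τ PowerSeries.X) with hc
  have hcc : c * c = 1 := by
    have := coeff_one_algHom τ h0 (τ PowerSeries.X)
    rw [hτ, PowerSeries.coeff_one_X] at this
    exact this.symm
  have hc1 : c = 1 ∨ c = -1 := by
    have h3 : (c - 1) * (c + 1) = 0 := by linear_combination hcc
    rcases mul_eq_zero.mp h3 with h | h
    · left; exact sub_eq_zero.mp h
    · right; exact eq_neg_of_add_eq_zero_left h
  set s : PowerSeries k := PowerSeries.C (2⁻¹ : k) * (PowerSeries.X + PowerSeries.C c * τ PowerSeries.X)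
    with hs
  have hs0 : PowerSeries.constantCoeff s = 0 := by
    rw [hs, map_mul, map_add, map_mul, h0, PowerSeries.constantCoeff_X, mul_zero, add_zero,
      mul_zero]
  have hs1 : PowerSeries.coeff 1 s = 1 := by
    rw [hs, PowerSeries.coeff_C_mul, map_add, PowerSeries.coeff_C_mul, PowerSeries.coeff_one_X,
      ← hc, hcc]
    rw [show (1 : k) + 1 = 2 by norm_num, inv_mul_cancel₀ h2]
  have hτs : τ s = PowerSeries.C c * s := by
    have hC : ∀ a : k, τ (PowerSeries.C a) = PowerSeries.C a := by
      intro a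
      rw [PowerSeries.C_eq_algebraMap, AlgHom.commutes]
    rw [hs, map_mul, map_add, map_mul, hτ, hC, hC]
    have : PowerSeries.C c * PowerSeries.C c = (1 : PowerSeries k) := by
      rw [← map_mul, hcc, map_one]
    linear_combination (-(PowerSeries.C (2⁻¹ : k)) * τ PowerSeries.X) * this
  refine ⟨c, psEquiv s hs0 (by rw [hs1]; exact isUnit_one), hc1, ?_⟩
  have h1 : τ.comp (psEquiv s hs0 (by rw [hs1]; exact isUnit_one) : PowerSeries k →ₐ[k] PowerSeries k) =
      (psEquiv s hs0 (by rw [hs1]; exact isUnit_one) : PowerSeries k →ₐ[k] PowerSeries k).comp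
        (RR k c) := by
    apply ps_algHom_ext
    · rw [AlgHom.comp_apply, AlgHom.comp_apply, AlgEquiv.coe_toAlgHom, psEquiv_X, hτs, RR_X, map_mul,
        psEquiv_X, PowerSeries.C_eq_algebraMap, AlgEquiv.commutes]
    · rw [AlgHom.comp_apply, AlgEquiv.coe_toAlgHom, psEquiv_X, hτs, map_mul, hs0, mul_zero]
  exact fun p => DFunLike.congr_fun h1 p

end Groth.Agent.Lib.T2H4.ArSingPSAut
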