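import Mathlib
import Groth.Agent.Lib.T2H4ArSingPSAut

/-! Helper library (helper4): the two branches of `A_r = k[[x,y]]/(y^2 - x^(2m))`, `r + 1 = 2 m`,
and automorphisms of `A_r` built from pairs of automorphisms of `k[[t]]`. -/

set_option autoImplicit false

namespace Groth.Agent.Lib.T2H4.ArSingBr

open Groth.Agent.Lib.T1H4.ArSingNF Groth.Agent.Lib.T1H4.ArSingCore Groth.Agent.Lib.T1H4.ArSingHom
  Groth.Agent.Lib.T1H4.ArSingInv Groth.Agent.Lib.T2H4.ArSingPSAut

universe u

variable {k : Type u} [Field k]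

/-- The branch `x ↦ t, y ↦ ε` of `A_r`, for `ε^2 = t^(r+1)`. -/
noncomputable def βg (r : ℕ) (ε : PowerSeries k) (hε : ε * ε = PowerSeries.X ^ (r + 1)) :
    ArSing.ring k r →ₐ[k] PowerSeries k where
  toFun z := cA k r z + ε * cB k r z
  map_one' := by rw [cA_one, cB_one, mul_zero, add_zero]
  map_mul' z w := by
    rw [cA_mul, cB_mul]
    linear_combination (-(cB k r z * cB k r w)) * hε
  map_zero' := by rw [map_zero, map_zero, mul_zero, add_zero]
  map_add' z w := by
    rw [map_add, map_add]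
    ring
  commutes' c := by
    have : algebraMap k (ArSing.ring k r) c = ArSing.xMap k r (PowerSeries.C c) := by
      rw [PowerSeries.C_eq_algebraMap, AlgHom.commutes]
    rw [this, cA_xMap, cB_xMap, mul_zero, add_zero, PowerSeries.C_eq_algebraMap]

variable (r m : ℕ) (hrm : r + 1 = 2 * m)

/-- the branch `y = x^m` -/
noncomputable def bp : ArSing.ring k r →ₐ[k] PowerSeries k :=
  βg r (PowerSeries.X ^ m) (by rw [hrm, two_mul, pow_add])

/-- the branch `y = -x^m` -/
noncomputable def bm : ArSing.ring k r →ₐ[k] PowerSeries k :=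
  βg r (-PowerSeries.X ^ m) (by rw [neg_mul_neg, hrm, two_mul, pow_add])

lemma bp_apply (z : ArSing.ring k r) :
    bp r m hrm z = cA k r z + PowerSeries.X ^ m * cB k r z := rfl

lemma bm_apply (z : ArSing.ring k r) :
    bm r m hrm z = cA k r z - PowerSeries.X ^ m * cB k r z := by
  show cA k r z + -PowerSeries.X ^ m * cB k r z = _
  ring

lemma bp_x : bp r m hrm (ArSing.x k r) = PowerSeries.X := by
  rw [bp_apply, cA_x, cB_x, mul_zero, add_zero]

lemma bm_x : bm r m hrm (ArSing.x k r) = PowerSeries.X := by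
  rw [bm_apply, cA_x, cB_x, mul_zero, sub_zero]

lemma bp_y : bp r m hrm (ArSing.y k r) = PowerSeries.X ^ m := by
  rw [bp_apply, cA_y, cB_y, mul_one, zero_add]

lemma bm_y : bm r m hrm (ArSing.y k r) = -PowerSeries.X ^ m := by
  rw [bm_apply, cA_y, cB_y, mul_one, zero_sub]

lemma bp_xMap (p : PowerSeries k) : bp r m hrm (ArSing.xMap k r p) = p := by
  rw [bp_apply, cA_xMap, cB_xMap, mul_zero, add_zero]

lemma bm_xMap (p : PowerSeries k) : bm r m hrm (ArSing.xMap k r p) = p := by
  rw [bm_apply, cA_xMap, cB_xMap, mul_zero, sub_zero]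

lemma constantCoeff_bp (hm : 1 ≤ m) (z : ArSing.ring k r) :
    PowerSeries.constantCoeff (bp r m hrm z) = PowerSeries.constantCoeff (cA k r z) := by
  rw [bp_apply, map_add, map_mul, map_pow, PowerSeries.constantCoeff_X,
    zero_pow (by omega), zero_mul, add_zero]

theorem branch_ext (h2 : (2 : k) ≠ 0) {z w : ArSing.ring k r}
    (hp : bp r m hrm z = bp r m hrm w) (hm : bm r m hrm z = bm r m hrm w) : z = w := by
  rw [bp_apply, bp_apply] at hp
  rw [bm_apply, bm_apply] at hm
  have hA : cA k r z = cA k r w := by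
    rw [← sub_eq_zero]
    apply two_mul_eq_zero k h2
    linear_combination hp + hm
  have hB : cB k r z = cB k r w := by
    rw [← sub_eq_zero]
    apply two_mul_eq_zero k h2
    have h3 : PowerSeries.X ^ m * ((cB k r z - cB k r w) + (cB k r z - cB k r w)) = 0 := by
      linear_combination hp - hm
    exact (mul_eq_zero.mp h3).resolve_left (pow_ne_zero _ PowerSeries.X_ne_zero)
  exact ext_coord k r hA hB

lemma dvd_bp_sub_bm (z : ArSing.ring k r) :
    (PowerSeries.X : PowerSeries k) ^ m ∣ bp r m hrm z - bm r m hrm z := by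
  rw [bp_apply, bm_apply]
  exact ⟨cB k r z + cB k r z, by ring⟩

/-- The image of the two branches: pairs of power series congruent modulo `t^m`. -/
theorem exists_of_dvd (h2 : (2 : k) ≠ 0) (p q : PowerSeries k)
    (h : (PowerSeries.X : PowerSeries k) ^ m ∣ p - q) :
    ∃ z : ArSing.ring k r, bp r m hrm z = p ∧ bm r m hrm z = q := by
  obtain ⟨d, hd⟩ := h
  have hc : PowerSeries.C (2⁻¹ : k) * 2 = 1 := by
    rw [show (2 : PowerSeries k) = PowerSeries.C (2 : k) by rw [map_ofNat], ← map_mul,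
      inv_mul_cancel₀ h2, map_one]
  refine ⟨ArSing.xMap k r (PowerSeries.C (2⁻¹ : k) * (p + q)) +
    ArSing.xMap k r (PowerSeries.C (2⁻¹ : k) * d) * ArSing.y k r, ?_, ?_⟩
  · rw [bp_apply, cA_xMap_add, cB_xMap_add]
    linear_combination (PowerSeries.C (2⁻¹ : k)) * hd.symm + p * hc
  · rw [bm_apply, cA_xMap_add, cB_xMap_add]
    linear_combination (-PowerSeries.C (2⁻¹ : k)) * hd.symm + q * hc

/-- `u = y + x^m` -/
noncomputable def uu : ArSing.ring k r := ArSing.y k r + ArSing.xMap k r (PowerSeries.X ^ m)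

/-- `v = y - x^m` -/
noncomputable def vv : ArSing.ring k r := ArSing.y k r - ArSing.xMap k r (PowerSeries.X ^ m)

include hrm in
lemma uv_eq_zero : uu (k := k) r m * vv r m = 0 := by
  have h1 : uu (k := k) r m * vv r m = ArSing.y k r * ArSing.y k r -
      ArSing.xMap k r (PowerSeries.X ^ m) * ArSing.xMap k r (PowerSeries.X ^ m) := by
    rw [uu, vv]; ring
  rw [h1, y_sq, ← map_mul, ← pow_add, ← two_mul, ← hrm, sub_self]

lemma bp_uu : bp r m hrm (uu r m) = (PowerSeries.X ^ m + PowerSeries.X ^ m : PowerSeries k) := by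
  rw [uu, map_add, bp_y, bp_xMap]

lemma bp_vv : bp r m hrm (vv (k := k) r m) = 0 := by
  rw [vv, map_sub, bp_y, bp_xMap, sub_self]

lemma bm_uu : bm r m hrm (uu (k := k) r m) = 0 := by
  rw [uu, map_add, bm_y, bm_xMap, neg_add_cancel]

lemma bm_vv : bm r m hrm (vv r m) = -(PowerSeries.X ^ m + PowerSeries.X ^ m : PowerSeries k) := by
  rw [vv, map_sub, bm_y, bm_xMap]
  ring

lemma Xm_add_ne_zero (h2 : (2 : k) ≠ 0) :
    (PowerSeries.X ^ m + PowerSeries.X ^ m : PowerSeries k) ≠ 0 :=
  fun h => pow_ne_zero m PowerSeries.X_ne_zero (two_mul_eq_zero k h2 h)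

lemma mem_span_v_iff (z : ArSing.ring k r) :
    z ∈ Ideal.span {vv (k := k) r m} ↔ bp r m hrm z = 0 := by
  constructor
  · intro h
    obtain ⟨c, rfl⟩ := Ideal.mem_span_singleton'.mp h
    rw [map_mul, bp_vv, mul_zero]
  · intro h
    rw [bp_apply] at h
    rw [Ideal.mem_span_singleton']
    refine ⟨ArSing.xMap k r (cB k r z), ?_⟩
    conv_rhs => rw [decomp k r z, eq_neg_of_add_eq_zero_left h, map_neg, map_mul]
    rw [vv]
    ring

lemma mem_span_u_iff (z : ArSing.ring k r) :
    z ∈ Ideal.span {uu (k := k) r m} ↔ bm r m hrm z = 0 := by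
  constructor
  · intro h
    obtain ⟨c, rfl⟩ := Ideal.mem_span_singleton'.mp h
    rw [map_mul, bm_uu, mul_zero]
  · intro h
    rw [bm_apply] at h
    rw [Ideal.mem_span_singleton']
    refine ⟨ArSing.xMap k r (cB k r z), ?_⟩
    conv_rhs => rw [decomp k r z, sub_eq_zero.mp h, map_mul]
    rw [uu]
    ring

include hrm in
lemma u_or_v (ψ : ArSing.ring k r →ₐ[k] PowerSeries k) :
    ψ (uu r m) = 0 ∨ ψ (vv r m) = 0 := by
  have := congrArg ψ (uv_eq_zero (k := k) r m hrm)
  rw [map_mul, map_zero] at this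
  exact mul_eq_zero.mp this

lemma factor_p (ψ : ArSing.ring k r →ₐ[k] PowerSeries k)
    (hv : ψ (vv r m) = 0) (z : ArSing.ring k r) :
    ψ z = ψ (ArSing.xMap k r (bp r m hrm z)) := by
  have h1 : z - ArSing.xMap k r (bp r m hrm z) ∈ Ideal.span {vv (k := k) r m} := by
    rw [mem_span_v_iff r m hrm, map_sub, bp_xMap, sub_self]
  obtain ⟨c, hc⟩ := Ideal.mem_span_singleton'.mp h1
  have h3 := congrArg ψ hc
  rw [map_mul, hv, mul_zero, map_sub] at h3
  exact (sub_eq_zero.mp h3.symm)

lemma factor_m (ψ : ArSing.ring k r →ₐ[k] PowerSeries k)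
    (hu : ψ (uu r m) = 0) (z : ArSing.ring k r) :
    ψ z = ψ (ArSing.xMap k r (bm r m hrm z)) := by
  have h1 : z - ArSing.xMap k r (bm r m hrm z) ∈ Ideal.span {uu (k := k) r m} := by
    rw [mem_span_u_iff r m hrm, map_sub, bm_xMap, sub_self]
  obtain ⟨c, hc⟩ := Ideal.mem_span_singleton'.mp h1
  have h3 := congrArg ψ hc
  rw [map_mul, hu, mul_zero, map_sub] at h3
  exact (sub_eq_zero.mp h3.symm)

section lift

variable (h2 : (2 : k) ≠ 0) (ψp ψm : ArSing.ring k r →ₐ[k] PowerSeries k)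
  (hc : ∀ z, (PowerSeries.X : PowerSeries k) ^ m ∣ ψp z - ψm z)

/-- the element with prescribed images on the two branches -/
noncomputable def liftFun (z : ArSing.ring k r) : ArSing.ring k r :=
  Classical.choose (exists_of_dvd r m hrm h2 (ψp z) (ψm z) (hc z))

lemma liftFun_spec (z : ArSing.ring k r) :
    bp r m hrm (liftFun r m hrm h2 ψp ψm hc z) = ψp z ∧
      bm r m hrm (liftFun r m hrm h2 ψp ψm hc z) = ψm z :=
  Classical.choose_spec (exists_of_dvd r m hrm h2 (ψp z) (ψm z) (hc z))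

/-- the endomorphism of `A_r` with prescribed composites with the two branches -/
noncomputable def liftB : ArSing.ring k r →ₐ[k] ArSing.ring k r where
  toFun := liftFun r m hrm h2 ψp ψm hc
  map_one' := branch_ext r m hrm h2
    (by rw [(liftFun_spec r m hrm h2 ψp ψm hc 1).1, map_one, map_one])
    (by rw [(liftFun_spec r m hrm h2 ψp ψm hc 1).2, map_one, map_one])
  map_mul' z w := branch_ext r m hrm h2
    (by rw [(liftFun_spec r m hrm h2 ψp ψm hc _).1, map_mul, map_mul,
      (liftFun_spec r m hrm h2 ψp ψm hc z).1, (liftFun_spec r m hrm h2 ψp ψm hc w).1])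
    (by rw [(liftFun_spec r m hrm h2 ψp ψm hc _).2, map_mul, map_mul,
      (liftFun_spec r m hrm h2 ψp ψm hc z).2, (liftFun_spec r m hrm h2 ψp ψm hc w).2])
  map_zero' := branch_ext r m hrm h2
    (by rw [(liftFun_spec r m hrm h2 ψp ψm hc 0).1, map_zero, map_zero])
    (by rw [(liftFun_spec r m hrm h2 ψp ψm hc 0).2, map_zero, map_zero])
  map_add' z w := branch_ext r m hrm h2
    (by rw [(liftFun_spec r m hrm h2 ψp ψm hc _).1, map_add, map_add,
      (liftFun_spec r m hrm h2 ψp ψm hc z).1, (liftFun_spec r m hrm h2 ψp ψm hc w).1])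
    (by rw [(liftFun_spec r m hrm h2 ψp ψm hc _).2, map_add, map_add,
      (liftFun_spec r m hrm h2 ψp ψm hc z).2, (liftFun_spec r m hrm h2 ψp ψm hc w).2])
  commutes' c := branch_ext r m hrm h2
    (by rw [(liftFun_spec r m hrm h2 ψp ψm hc _).1, AlgHom.commutes, AlgHom.commutes])
    (by rw [(liftFun_spec r m hrm h2 ψp ψm hc _).2, AlgHom.commutes, AlgHom.commutes])

lemma bp_liftB (z : ArSing.ring k r) : bp r m hrm (liftB r m hrm h2 ψp ψm hc z) = ψp z :=
  (liftFun_spec r m hrm h2 ψp ψm hc z).1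

lemma bm_liftB (z : ArSing.ring k r) : bm r m hrm (liftB r m hrm h2 ψp ψm hc z) = ψm z :=
  (liftFun_spec r m hrm h2 ψp ψm hc z).2

end lift

omit hrm in
/-- Two algebra endomorphisms of `k[[t]]` congruent on `t` modulo `t^m` are congruent modulo `t^m`. -/
theorem dvd_sub_of_dvd_sub_X (ψ ψ' : PowerSeries k →ₐ[k] PowerSeries k)
    (h0 : PowerSeries.constantCoeff (ψ PowerSeries.X) = 0)
    (hX : (PowerSeries.X : PowerSeries k) ^ m ∣ ψ PowerSeries.X - ψ' PowerSeries.X)
    (p : PowerSeries k) : (PowerSeries.X : PowerSeries k) ^ m ∣ ψ p - ψ' p := by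
  have key : ∀ n, n ≤ m → ∀ p : PowerSeries k, (PowerSeries.X : PowerSeries k) ^ n ∣ ψ p - ψ' p := by
    intro n
    induction n with
    | zero => intro _ p; rw [pow_zero]; exact one_dvd _
    | succ n ih =>
      intro hn p
      have hp := PowerSeries.eq_X_mul_shift_add_const p
      set p₁ : PowerSeries k := PowerSeries.mk fun j => PowerSeries.coeff (j + 1) p with hp₁
      have hC : ψ (PowerSeries.C (PowerSeries.constantCoeff p)) =
          ψ' (PowerSeries.C (PowerSeries.constantCoeff p)) := by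
        rw [PowerSeries.C_eq_algebraMap, AlgHom.commutes, AlgHom.commutes]
      have e : ψ p - ψ' p = ψ PowerSeries.X * (ψ p₁ - ψ' p₁) +
          (ψ PowerSeries.X - ψ' PowerSeries.X) * ψ' p₁ := by
        conv_lhs => rw [hp, map_add, map_add, map_mul, map_mul, hC]
        ring
      rw [e]
      apply dvd_add
      · rw [pow_succ']
        exact mul_dvd_mul (PowerSeries.X_dvd_iff.mpr h0) (ih (by omega) p₁)
      · exact Dvd.dvd.mul_right ((pow_dvd_pow _ hn).trans hX) _
  exact key m le_rfl p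

omit hrm in
lemma X_pow_dvd_map (ψ : PowerSeries k →ₐ[k] PowerSeries k)
    (h0 : PowerSeries.constantCoeff (ψ PowerSeries.X) = 0) {f : PowerSeries k}
    (hf : (PowerSeries.X : PowerSeries k) ^ m ∣ f) : (PowerSeries.X : PowerSeries k) ^ m ∣ ψ f := by
  obtain ⟨d, rfl⟩ := hf
  rw [map_mul, map_pow]
  exact Dvd.dvd.mul_right (pow_dvd_pow_of_dvd (PowerSeries.X_dvd_iff.mpr h0) m) _

lemma constantCoeff_algEquiv_X (e : PowerSeries k ≃ₐ[k] PowerSeries k) :
    PowerSeries.constantCoeff (e PowerSeries.X) = 0 := by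
  by_contra h
  have h1 : IsUnit (e PowerSeries.X) := by
    rw [PowerSeries.isUnit_iff_constantCoeff]
    exact isUnit_iff_ne_zero.mpr h
  have h3 := h1.map e.symm
  rw [AlgEquiv.symm_apply_apply, PowerSeries.isUnit_iff_constantCoeff,
    PowerSeries.constantCoeff_X] at h3
  exact not_isUnit_zero h3

omit hrm in
lemma symm_cong (ep em : PowerSeries k ≃ₐ[k] PowerSeries k)
    (hcong : (PowerSeries.X : PowerSeries k) ^ m ∣ ep PowerSeries.X - em PowerSeries.X) :
    (PowerSeries.X : PowerSeries k) ^ m ∣ ep.symm PowerSeries.X - em.symm PowerSeries.X := by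
  have h1 := dvd_sub_of_dvd_sub_X m (ep : PowerSeries k →ₐ[k] PowerSeries k)
    (em : PowerSeries k →ₐ[k] PowerSeries k) (constantCoeff_algEquiv_X ep) hcong
    (em.symm PowerSeries.X)
  rw [AlgEquiv.coe_toAlgHom, AlgEquiv.coe_toAlgHom, AlgEquiv.apply_symm_apply] at h1
  have h3 : ep (ep.symm PowerSeries.X - em.symm PowerSeries.X) =
      -(ep (em.symm PowerSeries.X) - PowerSeries.X) := by
    rw [map_sub, AlgEquiv.apply_symm_apply]; ring
  have h4 : (PowerSeries.X : PowerSeries k) ^ m ∣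
      ep (ep.symm PowerSeries.X - em.symm PowerSeries.X) := by
    rw [h3, dvd_neg]; exact h1
  have h5 := X_pow_dvd_map m (ep.symm : PowerSeries k →ₐ[k] PowerSeries k)
    (constantCoeff_algEquiv_X ep.symm) h4
  rwa [AlgEquiv.coe_toAlgHom, AlgEquiv.symm_apply_apply] at h5

lemma hc_aut (ep em : PowerSeries k ≃ₐ[k] PowerSeries k)
    (hcong : (PowerSeries.X : PowerSeries k) ^ m ∣ ep PowerSeries.X - em PowerSeries.X)
    (z : ArSing.ring k r) :
    (PowerSeries.X : PowerSeries k) ^ m ∣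
      ((ep : PowerSeries k →ₐ[k] PowerSeries k).comp (bp r m hrm)) z -
        ((em : PowerSeries k →ₐ[k] PowerSeries k).comp (bm r m hrm)) z := by
  rw [AlgHom.comp_apply, AlgHom.comp_apply, AlgEquiv.coe_toAlgHom, AlgEquiv.coe_toAlgHom]
  have e : ep (bp r m hrm z) - em (bm r m hrm z) =
      ep (bp r m hrm z - bm r m hrm z) + (ep (bm r m hrm z) - em (bm r m hrm z)) := by
    rw [map_sub]; ring
  rw [e]
  apply dvd_add
  · exact X_pow_dvd_map m (ep : PowerSeries k →ₐ[k] PowerSeries k) (constantCoeff_algEquiv_X ep)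
      (dvd_bp_sub_bm r m hrm z)
  · exact dvd_sub_of_dvd_sub_X m (ep : PowerSeries k →ₐ[k] PowerSeries k)
      (em : PowerSeries k →ₐ[k] PowerSeries k) (constantCoeff_algEquiv_X ep) hcong _

/-- the automorphism of `A_r` acting by `ep`, `em` on the two branches -/
noncomputable def autB (h2 : (2 : k) ≠ 0) (ep em : PowerSeries k ≃ₐ[k] PowerSeries k)
    (hcong : (PowerSeries.X : PowerSeries k) ^ m ∣ ep PowerSeries.X - em PowerSeries.X) :
    ArSing.ring k r ≃ₐ[k] ArSing.ring k r :=
  AlgEquiv.ofAlgHom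
    (liftB r m hrm h2 ((ep : PowerSeries k →ₐ[k] PowerSeries k).comp (bp r m hrm))
      ((em : PowerSeries k →ₐ[k] PowerSeries k).comp (bm r m hrm)) (hc_aut r m hrm ep em hcong))
    (liftB r m hrm h2 ((ep.symm : PowerSeries k →ₐ[k] PowerSeries k).comp (bp r m hrm))
      ((em.symm : PowerSeries k →ₐ[k] PowerSeries k).comp (bm r m hrm))
      (hc_aut r m hrm ep.symm em.symm (symm_cong m ep em hcong)))
    (by
      apply AlgHom.ext
      intro z
      apply branch_ext r m hrm h2
      · rw [AlgHom.comp_apply, bp_liftB, AlgHom.comp_apply, bp_liftB, AlgHom.comp_apply,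
          AlgEquiv.coe_toAlgHom, AlgEquiv.coe_toAlgHom, AlgEquiv.apply_symm_apply, AlgHom.id_apply]
      · rw [AlgHom.comp_apply, bm_liftB, AlgHom.comp_apply, bm_liftB, AlgHom.comp_apply,
          AlgEquiv.coe_toAlgHom, AlgEquiv.coe_toAlgHom, AlgEquiv.apply_symm_apply, AlgHom.id_apply])
    (by
      apply AlgHom.ext
      intro z
      apply branch_ext r m hrm h2
      · rw [AlgHom.comp_apply, bp_liftB, AlgHom.comp_apply, bp_liftB, AlgHom.comp_apply,
          AlgEquiv.coe_toAlgHom, AlgEquiv.coe_toAlgHom, AlgEquiv.symm_apply_apply, AlgHom.id_apply]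
      · rw [AlgHom.comp_apply, bm_liftB, AlgHom.comp_apply, bm_liftB, AlgHom.comp_apply,
          AlgEquiv.coe_toAlgHom, AlgEquiv.coe_toAlgHom, AlgEquiv.symm_apply_apply, AlgHom.id_apply])

variable (h2 : (2 : k) ≠ 0) (ep em : PowerSeries k ≃ₐ[k] PowerSeries k)
    (hcong : (PowerSeries.X : PowerSeries k) ^ m ∣ ep PowerSeries.X - em PowerSeries.X)

lemma bp_autB (z : ArSing.ring k r) :
    bp r m hrm (autB r m hrm h2 ep em hcong z) = ep (bp r m hrm z) :=
  bp_liftB r m hrm h2 _ _ (hc_aut r m hrm ep em hcong) z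

lemma bm_autB (z : ArSing.ring k r) :
    bm r m hrm (autB r m hrm h2 ep em hcong z) = em (bm r m hrm z) :=
  bm_liftB r m hrm h2 _ _ (hc_aut r m hrm ep em hcong) z

lemma bp_autB_symm (w : ArSing.ring k r) :
    bp r m hrm ((autB r m hrm h2 ep em hcong).symm w) = ep.symm (bp r m hrm w) :=
  bp_liftB r m hrm h2 _ _ (hc_aut r m hrm ep.symm em.symm (symm_cong m ep em hcong)) w

lemma bm_autB_symm (w : ArSing.ring k r) :
    bm r m hrm ((autB r m hrm h2 ep em hcong).symm w) = em.symm (bm r m hrm w) :=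
  bm_liftB r m hrm h2 _ _ (hc_aut r m hrm ep.symm em.symm (symm_cong m ep em hcong)) w

end Groth.Agent.Lib.T2H4.ArSingBr
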