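import Mathlib
import Groth.Agent.Lib.T2H4ArSingPSAut

/-! Helper library (helper4): the normalization `ν : A_r → k[[t]]`, `x ↦ t^2`, `y ↦ t^(r+1)`, of
`A_r = k[[x,y]]/(y^2 - x^(r+1))` for `r = 2 j` even, and the parity calculus describing its image. -/

set_option autoImplicit false

namespace Groth.Agent.Lib.T2H4.ArSingCusp

open Groth.Agent.Lib.T1H4.ArSingNF Groth.Agent.Lib.T1H4.ArSingCore Groth.Agent.Lib.T1H4.ArSingHom
  Groth.Agent.Lib.T1H4.ArSingInv Groth.Agent.Lib.T2H4.ArSingPSAut

universe u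

variable {k : Type u} [Field k]

/-- Algebra maps out of `A_r` from a map out of `k[[x]]` and a square root of the image of
`x^(r+1)`. -/
noncomputable def liftA (r : ℕ) {B : Type*} [CommRing B] [Algebra k B]
    (ψ : PowerSeries k →ₐ[k] B) (η : B) (hη : η * η = ψ (PowerSeries.X ^ (r + 1))) :
    ArSing.ring k r →ₐ[k] B where
  toFun z := ψ (cA k r z) + η * ψ (cB k r z)
  map_one' := by rw [cA_one, cB_one, map_one, map_zero, mul_zero, add_zero]
  map_mul' z w := by
    rw [cA_mul, cB_mul]
    simp only [map_add, map_mul]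
    rw [← hη]
    ring
  map_zero' := by simp only [map_zero, mul_zero, add_zero]
  map_add' z w := by
    rw [map_add, map_add, map_add, map_add]
    ring
  commutes' c := by
    have : algebraMap k (ArSing.ring k r) c = ArSing.xMap k r (PowerSeries.C c) := by
      rw [PowerSeries.C_eq_algebraMap, AlgHom.commutes]
    rw [this, cA_xMap, cB_xMap, map_zero, mul_zero, add_zero, PowerSeries.C_eq_algebraMap,
      AlgHom.commutes]

/-! ### parity calculus -/

lemma ev_add (f g : PowerSeries k) : ev k (f + g) = ev k f + ev k g := by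
  ext n; rw [coeff_ev, map_add, map_add, coeff_ev, coeff_ev]

lemma od_add (f g : PowerSeries k) : od k (f + g) = od k f + od k g := by
  ext n; rw [coeff_od, map_add, map_add, coeff_od, coeff_od]

lemma od_neg (f : PowerSeries k) : od k (-f) = -od k f := by
  ext n; rw [coeff_od, map_neg, map_neg, coeff_od]

lemma od_C_mul (c : k) (f : PowerSeries k) : od k (PowerSeries.C c * f) = PowerSeries.C c * od k f := by
  ext n; rw [coeff_od, PowerSeries.coeff_C_mul, PowerSeries.coeff_C_mul, coeff_od]

lemma od_C (c : k) : od k (PowerSeries.C c) = 0 := by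
  ext n
  rw [coeff_od, PowerSeries.coeff_C, if_neg (by omega), map_zero]

lemma ev_C (c : k) : ev k (PowerSeries.C c) = PowerSeries.C c := by
  ext n
  rw [coeff_ev, PowerSeries.coeff_C, PowerSeries.coeff_C]
  by_cases hn : n = 0
  · rw [if_pos hn, if_pos (by omega)]
  · rw [if_neg hn, if_neg (by omega)]

lemma ev_mul (f g : PowerSeries k) :
    ev k (f * g) = ev k f * ev k g + PowerSeries.X * (od k f * od k g) := by
  have e : f * g = EE k (ev k f * ev k g + PowerSeries.X * (od k f * od k g)) +
      PowerSeries.X * EE k (ev k f * od k g + od k f * ev k g) := by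
    conv_lhs => rw [ev_od_decomp k f, ev_od_decomp k g]
    simp only [map_add, map_mul, EE_X]
    ring
  conv_lhs => rw [e, ev_comb]

lemma od_mul (f g : PowerSeries k) :
    od k (f * g) = ev k f * od k g + od k f * ev k g := by
  have e : f * g = EE k (ev k f * ev k g + PowerSeries.X * (od k f * od k g)) +
      PowerSeries.X * EE k (ev k f * od k g + od k f * ev k g) := by
    conv_lhs => rw [ev_od_decomp k f, ev_od_decomp k g]
    simp only [map_add, map_mul, EE_X]
    ring
  conv_lhs => rw [e, od_comb]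

lemma constantCoeff_ev (f : PowerSeries k) :
    PowerSeries.constantCoeff (ev k f) = PowerSeries.constantCoeff f := by
  rw [← PowerSeries.coeff_zero_eq_constantCoeff_apply, coeff_ev, Nat.mul_zero,
    PowerSeries.coeff_zero_eq_constantCoeff_apply]

lemma ev_X_sq : ev k (PowerSeries.X ^ 2 : PowerSeries k) = PowerSeries.X := by
  rw [← EE_X, ev_EE]

lemma od_X_sq : od k (PowerSeries.X ^ 2 : PowerSeries k) = 0 := by
  rw [← EE_X, od_EE]

lemma od_X_sq_mul (f : PowerSeries k) :
    od k (PowerSeries.X ^ 2 * f) = PowerSeries.X * od k f := by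
  rw [od_mul, ev_X_sq, od_X_sq, zero_mul, add_zero]

lemma X_pow_two_mul (j : ℕ) : (PowerSeries.X : PowerSeries k) ^ (2 * j) = EE k (PowerSeries.X ^ j) := by
  rw [map_pow, EE_X, pow_mul]

lemma od_X_pow_two_mul_mul (j : ℕ) (f : PowerSeries k) :
    od k (PowerSeries.X ^ (2 * j) * f) = PowerSeries.X ^ j * od k f := by
  rw [od_mul, X_pow_two_mul, ev_EE, od_EE, zero_mul, add_zero]

lemma X_pow_odd (j : ℕ) :
    (PowerSeries.X : PowerSeries k) ^ (2 * j + 1) = PowerSeries.X * EE k (PowerSeries.X ^ j) := by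
  rw [pow_succ, X_pow_two_mul, mul_comm]

lemma od_X_pow_odd_mul (j : ℕ) (f : PowerSeries k) :
    od k (PowerSeries.X ^ (2 * j + 1) * f) = PowerSeries.X ^ j * ev k f := by
  rw [od_mul, X_pow_odd, ev_X_mul_EE, od_X_mul_EE, zero_mul, zero_add]

/-- membership in the image of the normalization: the odd part is divisible by `t^j` -/
def InG (j : ℕ) (f : PowerSeries k) : Prop := (PowerSeries.X : PowerSeries k) ^ j ∣ od k f

lemma InG.add {j : ℕ} {f g : PowerSeries k} (hf : InG j f) (hg : InG j g) : InG j (f + g) := by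
  rw [InG, od_add]; exact dvd_add hf hg

lemma InG.mul {j : ℕ} {f g : PowerSeries k} (hf : InG j f) (hg : InG j g) : InG j (f * g) := by
  rw [InG, od_mul]
  exact dvd_add (Dvd.dvd.mul_left hg _) (Dvd.dvd.mul_right hf _)

lemma InG.C (j : ℕ) (c : k) : InG j (PowerSeries.C c) := by
  rw [InG, od_C]; exact dvd_zero _

lemma InG.of_dvd {j : ℕ} {f : PowerSeries k} (h : (PowerSeries.X : PowerSeries k) ^ (2 * j) ∣ f) :
    InG j f := by
  obtain ⟨e, rfl⟩ := h
  rw [InG, od_X_pow_two_mul_mul]
  exact Dvd.intro _ rfl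

lemma InG.of_sub_dvd {j : ℕ} {f g : PowerSeries k} (hg : InG j g)
    (h : (PowerSeries.X : PowerSeries k) ^ (2 * j) ∣ f - g) : InG j f := by
  have : f = g + (f - g) := by ring
  rw [this]
  exact hg.add (InG.of_dvd h)

lemma InG.X_pow_odd_mul (j : ℕ) (f : PowerSeries k) : InG j (PowerSeries.X ^ (2 * j + 1) * f) := by
  rw [InG, od_X_pow_odd_mul]
  exact Dvd.intro _ rfl

/-- power series in an element `η ∈ G` divisible by `t^2` lie in `G` -/
theorem inG_subA {j : ℕ} (η : PowerSeries k) (hη0 : PowerSeries.constantCoeff η = 0)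
    (hηG : InG j η) (hη2 : (PowerSeries.X : PowerSeries k) ^ 2 ∣ η) (a : PowerSeries k) :
    InG j (subA η hη0 a) := by
  have key : ∀ n, ∀ a : PowerSeries k, ∃ g : PowerSeries k, InG j g ∧
      (PowerSeries.X : PowerSeries k) ^ (2 * n) ∣ subA η hη0 a - g := by
    intro n
    induction n with
    | zero => intro a; exact ⟨0, by rw [InG, show od k (0 : PowerSeries k) = 0 by
        ext n; rw [coeff_od, map_zero, map_zero]]; exact dvd_zero _, by rw [Nat.mul_zero, pow_zero]; exact one_dvd _⟩
    | succ n ih =>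
      intro a
      obtain ⟨a₁, c, rfl⟩ : ∃ (a₁ : PowerSeries k) (c : k), a = PowerSeries.X * a₁ + PowerSeries.C c :=
        ⟨_, _, PowerSeries.eq_X_mul_shift_add_const a⟩
      obtain ⟨g₁, hg₁, e, he⟩ := ih a₁
      obtain ⟨η', hη'⟩ := hη2
      have hC : subA η hη0 (PowerSeries.C c) = PowerSeries.C c := by
        rw [PowerSeries.C_eq_algebraMap, AlgHom.commutes]
      refine ⟨PowerSeries.C c + η * g₁,
        (InG.C j _).add (hηG.mul hg₁), η' * e, ?_⟩
      rw [map_add, map_mul, subA_X, hC]
      have e2 : 2 * (n + 1) = 2 * n + 2 := by ring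
      rw [e2, pow_add]
      linear_combination η * he + (PowerSeries.X ^ (2 * n) * e) * hη'
  obtain ⟨g, hg, hd⟩ := key j a
  exact hg.of_sub_dvd hd

/-! ### the normalization -/

variable (j : ℕ)

/-- the normalization `x ↦ t^2`, `y ↦ t^(2j+1)` of `A_(2j)` -/
noncomputable def ν : ArSing.ring k (2 * j) →ₐ[k] PowerSeries k :=
  liftA (2 * j) (EE k) (PowerSeries.X ^ (2 * j + 1)) (by rw [map_pow, EE_X]; ring)

lemma ν_apply (z : ArSing.ring k (2 * j)) :
    ν j z = EE k (cA k (2 * j) z) + PowerSeries.X ^ (2 * j + 1) * EE k (cB k (2 * j) z) := rfl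

lemma ν_apply' (z : ArSing.ring k (2 * j)) :
    ν j z = EE k (cA k (2 * j) z) +
      PowerSeries.X * EE k (PowerSeries.X ^ j * cB k (2 * j) z) := by
  rw [ν_apply, X_pow_odd, map_mul]
  ring

lemma ev_ν (z : ArSing.ring k (2 * j)) : ev k (ν j z) = cA k (2 * j) z := by
  rw [ν_apply', ev_comb]

lemma od_ν (z : ArSing.ring k (2 * j)) :
    od k (ν j z) = PowerSeries.X ^ j * cB k (2 * j) z := by
  rw [ν_apply', od_comb]

lemma ν_x : ν j (ArSing.x k (2 * j)) = (PowerSeries.X ^ 2 : PowerSeries k) := by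
  rw [ν_apply, cA_x, cB_x, map_zero, mul_zero, add_zero, EE_X]

lemma ν_y : ν j (ArSing.y k (2 * j)) = (PowerSeries.X ^ (2 * j + 1) : PowerSeries k) := by
  rw [ν_apply, cA_y, cB_y, map_zero, map_one, mul_one, zero_add]

lemma ν_injective : Function.Injective (ν (k := k) j) := by
  intro z w h
  apply ext_coord
  · rw [← ev_ν, ← ev_ν, h]
  · have := congrArg (od k) h
    rw [od_ν, od_ν] at this
    exact mul_left_cancel₀ (pow_ne_zero _ PowerSeries.X_ne_zero) this

lemma inG_ν (z : ArSing.ring k (2 * j)) : InG j (ν j z) := by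
  rw [InG, od_ν]
  exact Dvd.intro _ rfl

lemma exists_of_inG {f : PowerSeries k} (hf : InG j f) : ∃ z : ArSing.ring k (2 * j), ν j z = f := by
  obtain ⟨b, hb⟩ := hf
  refine ⟨ArSing.xMap k (2 * j) (ev k f) + ArSing.xMap k (2 * j) b * ArSing.y k (2 * j), ?_⟩
  rw [ν_apply', cA_xMap_add, cB_xMap_add, ← hb, ← ev_od_decomp]

lemma constantCoeff_ν (z : ArSing.ring k (2 * j)) :
    PowerSeries.constantCoeff (ν j z) = aug k (2 * j) z := by
  rw [← constantCoeff_ev, ev_ν, aug_apply]

section lift

variable (ψ : ArSing.ring k (2 * j) →ₐ[k] PowerSeries k) (hψ : ∀ z, InG j (ψ z))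

/-- the element with prescribed image under the normalization -/
noncomputable def liftFun (z : ArSing.ring k (2 * j)) : ArSing.ring k (2 * j) :=
  Classical.choose (exists_of_inG j (hψ z))

lemma liftFun_spec (z : ArSing.ring k (2 * j)) : ν j (liftFun j ψ hψ z) = ψ z :=
  Classical.choose_spec (exists_of_inG j (hψ z))

/-- the endomorphism of `A_(2j)` with prescribed composite with the normalization -/
noncomputable def liftN : ArSing.ring k (2 * j) →ₐ[k] ArSing.ring k (2 * j) where
  toFun := liftFun j ψ hψ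
  map_one' := ν_injective j (by rw [liftFun_spec, map_one, map_one])
  map_mul' z w := ν_injective j (by
    rw [liftFun_spec, map_mul, map_mul, liftFun_spec, liftFun_spec])
  map_zero' := ν_injective j (by rw [liftFun_spec, map_zero, map_zero])
  map_add' z w := ν_injective j (by
    rw [liftFun_spec, map_add, map_add, liftFun_spec, liftFun_spec])
  commutes' c := ν_injective j (by rw [liftFun_spec, AlgHom.commutes, AlgHom.commutes])

lemma ν_liftN (z : ArSing.ring k (2 * j)) : ν j (liftN j ψ hψ z) = ψ z := liftFun_spec j ψ hψ z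

end lift

end Groth.Agent.Lib.T2H4.ArSingCusp
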