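import Mathlib
import Groth.Agent.Lib.T1H4ArSingInv

/-! Helper library (helper4): the node `A_1 = k[[x,y]]/(y^2 - x^2)`, its two branches, and the
involution exchanging `x` and `y`. -/

set_option autoImplicit false

namespace Groth.Agent.Lib.T2H4.ArSingSwap

open Groth.Agent.Lib.T1H4.ArSingNF Groth.Agent.Lib.T1H4.ArSingCore Groth.Agent.Lib.T1H4.ArSingHom
  Groth.Agent.Lib.T1H4.ArSingInv

universe u

variable (k : Type u) [Field k]

/-- The branch `x ↦ t, y ↦ ε` of the node, for `ε^2 = t^2`. -/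
noncomputable def β (ε : PowerSeries k) (hε : ε * ε = PowerSeries.X ^ (1 + 1)) :
    ArSing.ring k 1 →ₐ[k] PowerSeries k where
  toFun z := cA k 1 z + ε * cB k 1 z
  map_one' := by rw [cA_one, cB_one, mul_zero, add_zero]
  map_mul' z w := by
    rw [cA_mul, cB_mul]
    linear_combination (-(cB k 1 z * cB k 1 w)) * hε
  map_zero' := by rw [map_zero, map_zero, mul_zero, add_zero]
  map_add' z w := by
    rw [map_add, map_add]
    ring
  commutes' c := by
    have : algebraMap k (ArSing.ring k 1) c = ArSing.xMap k 1 (PowerSeries.C c) := by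
      rw [PowerSeries.C_eq_algebraMap, AlgHom.commutes]
    rw [this, cA_xMap, cB_xMap, mul_zero, add_zero, PowerSeries.C_eq_algebraMap]

/-- the branch `y = x` -/
noncomputable def βp : ArSing.ring k 1 →ₐ[k] PowerSeries k := β k PowerSeries.X (by ring)

/-- the branch `y = -x` -/
noncomputable def βm : ArSing.ring k 1 →ₐ[k] PowerSeries k := β k (-PowerSeries.X) (by ring)

lemma βp_apply (z : ArSing.ring k 1) : βp k z = cA k 1 z + PowerSeries.X * cB k 1 z := rfl

lemma βm_apply (z : ArSing.ring k 1) : βm k z = cA k 1 z - PowerSeries.X * cB k 1 z := by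
  show cA k 1 z + -PowerSeries.X * cB k 1 z = _
  ring

lemma βp_x : βp k (ArSing.x k 1) = PowerSeries.X := by
  rw [βp_apply, cA_x, cB_x, mul_zero, add_zero]

lemma βp_y : βp k (ArSing.y k 1) = PowerSeries.X := by
  rw [βp_apply, cA_y, cB_y, mul_one, zero_add]

lemma βm_x : βm k (ArSing.x k 1) = PowerSeries.X := by
  rw [βm_apply, cA_x, cB_x, mul_zero, sub_zero]

lemma βm_y : βm k (ArSing.y k 1) = -PowerSeries.X := by
  rw [βm_apply, cA_y, cB_y, mul_one, zero_sub]

lemma constantCoeff_βp (z : ArSing.ring k 1) :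
    PowerSeries.constantCoeff (βp k z) = PowerSeries.constantCoeff (cA k 1 z) := by
  rw [βp_apply, map_add, map_mul, PowerSeries.constantCoeff_X, zero_mul, add_zero]

lemma constantCoeff_βm (z : ArSing.ring k 1) :
    PowerSeries.constantCoeff (βm k z) = PowerSeries.constantCoeff (cA k 1 z) := by
  rw [βm_apply, map_sub, map_mul, PowerSeries.constantCoeff_X, zero_mul, sub_zero]

variable {k}

theorem branch_ext (h2 : (2 : k) ≠ 0) {z w : ArSing.ring k 1} (hp : βp k z = βp k w)
    (hm : βm k z = βm k w) : z = w := by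
  rw [βp_apply, βp_apply] at hp
  rw [βm_apply, βm_apply] at hm
  have hA : cA k 1 z = cA k 1 w := by
    rw [← sub_eq_zero]
    apply two_mul_eq_zero k h2
    linear_combination hp + hm
  have hB : cB k 1 z = cB k 1 w := by
    rw [← sub_eq_zero]
    apply two_mul_eq_zero k h2
    have h3 : PowerSeries.X * ((cB k 1 z - cB k 1 w) + (cB k 1 z - cB k 1 w)) = 0 := by
      linear_combination hp - hm
    exact (mul_eq_zero.mp h3).resolve_left PowerSeries.X_ne_zero
  exact ext_coord k 1 hA hB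

/-- The image of the two branches: pairs of power series with the same constant term. -/
theorem exists_of_constantCoeff_eq (h2 : (2 : k) ≠ 0) (p q : PowerSeries k)
    (h : PowerSeries.constantCoeff p = PowerSeries.constantCoeff q) :
    ∃ z : ArSing.ring k 1, βp k z = p ∧ βm k z = q := by
  have hd : PowerSeries.X ∣ p - q := by
    rw [PowerSeries.X_dvd_iff, map_sub, h, sub_self]
  obtain ⟨d, hd⟩ := hd
  have hc : PowerSeries.C (2⁻¹ : k) * 2 = 1 := by
    rw [show (2 : PowerSeries k) = PowerSeries.C (2 : k) by rw [map_ofNat], ← map_mul,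
      inv_mul_cancel₀ h2, map_one]
  refine ⟨ArSing.xMap k 1 (PowerSeries.C (2⁻¹ : k) * (p + q)) +
    ArSing.xMap k 1 (PowerSeries.C (2⁻¹ : k) * d) * ArSing.y k 1, ?_, ?_⟩
  · rw [βp_apply, cA_xMap_add, cB_xMap_add]
    linear_combination (PowerSeries.C (2⁻¹ : k)) * hd.symm + p * hc
  · rw [βm_apply, cA_xMap_add, cB_xMap_add]
    linear_combination (-PowerSeries.C (2⁻¹ : k)) * hd.symm + q * hc

/-- Algebra maps from the node to `k[[t]]` are determined by their values on `x + y`, `y - x`. -/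
theorem ext_uv (h2 : (2 : k) ≠ 0) {ψ ψ' : ArSing.ring k 1 →ₐ[k] PowerSeries k}
    (hu : ψ (ArSing.x k 1 + ArSing.y k 1) = ψ' (ArSing.x k 1 + ArSing.y k 1))
    (hv : ψ (ArSing.y k 1 - ArSing.x k 1) = ψ' (ArSing.y k 1 - ArSing.x k 1))
    (h0 : PowerSeries.constantCoeff (ψ (ArSing.x k 1)) = 0) : ψ = ψ' := by
  rw [map_add, map_add] at hu
  rw [map_sub, map_sub] at hv
  have hx : ψ (ArSing.x k 1) = ψ' (ArSing.x k 1) := by
    rw [← sub_eq_zero]
    apply two_mul_eq_zero k h2
    linear_combination hu - hv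
  have hy : ψ (ArSing.y k 1) = ψ' (ArSing.y k 1) := by
    rw [← sub_eq_zero]
    apply two_mul_eq_zero k h2
    linear_combination hu + hv
  exact to_ps_algHom_ext k 1 hx hy h0

variable (k)

/-- `t ↦ -2 t^2` -/
noncomputable def SS : PowerSeries k →ₐ[k] PowerSeries k := (EE k).comp (RR k (-2))

lemma SS_apply (p : PowerSeries k) : SS k p = EE k (RR k (-2) p) := rfl

lemma SS_X : SS k PowerSeries.X = PowerSeries.C (-2 : k) * PowerSeries.X ^ 2 := by
  rw [SS_apply, RR_X, map_mul, EE_X, PowerSeries.C_eq_algebraMap, AlgHom.commutes]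

lemma RR_RR (c d : k) (p : PowerSeries k) : RR k d (RR k c p) = RR k (c * d) p := by
  rw [RR_apply, RR_apply, RR_apply, PowerSeries.rescale_rescale]

lemma RR_one' (p : PowerSeries k) : RR k 1 p = p := by
  ext n
  rw [coeff_RR, one_pow, one_mul]

variable {k}

lemma SS_injective (h2 : (2 : k) ≠ 0) : Function.Injective (SS k) := by
  intro p q h
  rw [SS_apply, SS_apply] at h
  have h1 := EE_injective k h
  have h3 := congrArg (RR k (-2⁻¹)) h1
  rw [RR_RR, RR_RR] at h3
  have : (-2 : k) * -2⁻¹ = 1 := by rw [neg_mul_neg, mul_inv_cancel₀ h2]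
  rwa [this, RR_one', RR_one'] at h3

lemma X_sq_dvd_SS {p : PowerSeries k} (h : PowerSeries.constantCoeff p = 0) :
    (PowerSeries.X : PowerSeries k) ^ 2 ∣ SS k p := by
  rw [← PowerSeries.X_dvd_iff] at h
  obtain ⟨q, rfl⟩ := h
  rw [map_mul, SS_X]
  exact ⟨PowerSeries.C (-2 : k) * SS k q, by ring⟩

lemma uv_eq_zero : (ArSing.x k 1 + ArSing.y k 1) * (ArSing.y k 1 - ArSing.x k 1) = 0 := by
  have h1 : (ArSing.x k 1 + ArSing.y k 1) * (ArSing.y k 1 - ArSing.x k 1) =
      ArSing.y k 1 * ArSing.y k 1 - ArSing.x k 1 ^ (1 + 1) := by ring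
  rw [h1, y_sq, map_pow, xMap_X, sub_self]

lemma βp_u : βp k (ArSing.x k 1 + ArSing.y k 1) = PowerSeries.X + PowerSeries.X := by
  rw [map_add, βp_x, βp_y]

lemma βp_v : βp k (ArSing.y k 1 - ArSing.x k 1) = 0 := by
  rw [map_sub, βp_x, βp_y, sub_self]

lemma βm_u : βm k (ArSing.x k 1 + ArSing.y k 1) = 0 := by
  rw [map_add, βm_x, βm_y, add_neg_cancel]

lemma βm_v : βm k (ArSing.y k 1 - ArSing.x k 1) = -(PowerSeries.X + PowerSeries.X) := by
  rw [map_sub, βm_x, βm_y]
  ring

lemma X_add_X_ne_zero (h2 : (2 : k) ≠ 0) : (PowerSeries.X + PowerSeries.X : PowerSeries k) ≠ 0 :=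
  fun h => PowerSeries.X_ne_zero (two_mul_eq_zero k h2 h)

/-- The kernel of the branch `y = x` is the ideal `(y - x)`. -/
lemma mem_span_v_iff (z : ArSing.ring k 1) :
    z ∈ Ideal.span {ArSing.y k 1 - ArSing.x k 1} ↔ βp k z = 0 := by
  constructor
  · intro h
    obtain ⟨c, rfl⟩ := Ideal.mem_span_singleton'.mp h
    rw [map_mul, βp_v, mul_zero]
  · intro h
    rw [βp_apply] at h
    rw [Ideal.mem_span_singleton']
    refine ⟨ArSing.xMap k 1 (cB k 1 z), ?_⟩
    conv_rhs => rw [decomp k 1 z, eq_neg_of_add_eq_zero_left h, map_neg, map_mul, xMap_X]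
    ring

theorem main (h2 : (2 : k) ≠ 0)
    (σ : ArSing.ring k 1 ≃ₐ[k] ArSing.ring k 1) (hx : σ (ArSing.x k 1) = ArSing.y k 1)
    (hy : σ (ArSing.y k 1) = ArSing.x k 1)
    (φ : ArSing.ring k 1 →ₐ[k] ArSing.ring k 1)
    (hφu : φ (ArSing.x k 1 + ArSing.y k 1) = ArSing.x k 1 + ArSing.y k 1)
    (hφv : φ (ArSing.y k 1 - ArSing.x k 1) = (ArSing.y k 1 - ArSing.x k 1) ^ 2) :
    (∀ a : ArSing.ring k 1, σ a = a ↔ a ∈ φ.range) ∧ Function.Injective φ ∧
    Ideal.span (Set.range fun a : ArSing.ring k 1 => σ a - a) = Ideal.span {ArSing.y k 1 - ArSing.x k 1} ∧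
    (ArSing.y k 1 - ArSing.x k 1) ∉ nonZeroDivisors (ArSing.ring k 1) ∧
    Ideal.span {ArSing.y k 1 - ArSing.x k 1} ∈ minimalPrimes (ArSing.ring k 1) ∧
    ¬ φ.toRingHom.Flat := by
  -- the involution on the branches
  have hpσ : ∀ z, βp k (σ z) = βp k z := by
    have h1 : (βp k).comp (σ : ArSing.ring k 1 →ₐ[k] ArSing.ring k 1) = βp k := by
      apply to_ps_algHom_ext
      · rw [AlgHom.comp_apply, AlgEquiv.coe_toAlgHom, hx, βp_x, βp_y]
      · rw [AlgHom.comp_apply, AlgEquiv.coe_toAlgHom, hy, βp_x, βp_y]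
      · rw [AlgHom.comp_apply, AlgEquiv.coe_toAlgHom, hx, βp_y, PowerSeries.constantCoeff_X]
    exact fun z => DFunLike.congr_fun h1 z
  have hmσ : ∀ z, βm k (σ z) = RR k (-1) (βm k z) := by
    have h1 : (βm k).comp (σ : ArSing.ring k 1 →ₐ[k] ArSing.ring k 1) =
        (RR k (-1)).comp (βm k) := by
      apply to_ps_algHom_ext
      · rw [AlgHom.comp_apply, AlgHom.comp_apply, AlgEquiv.coe_toAlgHom, hx, βm_x, βm_y, RR_X, map_neg,
          map_one, neg_one_mul]
      · rw [AlgHom.comp_apply, AlgHom.comp_apply, AlgEquiv.coe_toAlgHom, hy, βm_x, βm_y, map_neg, RR_X,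
          map_neg, map_one, neg_one_mul, neg_neg]
      · rw [AlgHom.comp_apply, AlgEquiv.coe_toAlgHom, hx, βm_y, map_neg, PowerSeries.constantCoeff_X,
          neg_zero]
    exact fun z => DFunLike.congr_fun h1 z
  -- the map `φ` on the branches
  have hpφ : ∀ z, βp k (φ z) = βp k z := by
    have h1 : βp k = (βp k).comp φ := by
      apply ext_uv h2
      · rw [AlgHom.comp_apply, hφu]
      · rw [AlgHom.comp_apply, hφv, map_pow, βp_v, zero_pow two_ne_zero]
      · rw [βp_x, PowerSeries.constantCoeff_X]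
    exact fun z => (DFunLike.congr_fun h1 z).symm
  have hmφ : ∀ z, βm k (φ z) = SS k (βm k z) := by
    have h1 : (SS k).comp (βm k) = (βm k).comp φ := by
      apply ext_uv h2
      · rw [AlgHom.comp_apply, AlgHom.comp_apply, hφu, βm_u, map_zero]
      · rw [AlgHom.comp_apply, AlgHom.comp_apply, hφv, map_pow, βm_v, map_neg, map_add, SS_X,
          map_neg, map_ofNat]
        ring
      · rw [AlgHom.comp_apply, βm_x, SS_X, map_mul, map_pow, PowerSeries.constantCoeff_X,
          zero_pow two_ne_zero, mul_zero]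
    exact fun z => (DFunLike.congr_fun h1 z).symm
  have hspan : Ideal.span (Set.range fun a : ArSing.ring k 1 => σ a - a) =
      Ideal.span {ArSing.y k 1 - ArSing.x k 1} := by
    apply le_antisymm
    · rw [Ideal.span_le]
      rintro _ ⟨a, rfl⟩
      rw [SetLike.mem_coe, mem_span_v_iff]
      show βp k (σ a - a) = 0
      rw [map_sub, hpσ, sub_self]
    · rw [Ideal.span_le, Set.singleton_subset_iff, SetLike.mem_coe]
      apply Ideal.subset_span
      exact ⟨ArSing.x k 1, by show σ (ArSing.x k 1) - ArSing.x k 1 = _; rw [hx]⟩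
  have hu_ne : ArSing.x k 1 + ArSing.y k 1 ≠ 0 := by
    intro h
    have := congrArg (βp k) h
    rw [βp_u, map_zero] at this
    exact X_add_X_ne_zero h2 this
  refine ⟨?_, ?_, hspan, ?_, ?_, ?_⟩
  · intro a
    constructor
    · intro h
      have h1 := hmσ a
      rw [h] at h1
      have h3 := (RR_neg_one_eq_self_iff k h2 _).mp h1.symm
      -- `βm a = EE q'`
      have h4 : βm k a = EE k (ev k (βm k a)) := by
        conv_lhs => rw [ev_od_decomp k (βm k a), h3, map_zero, mul_zero, add_zero]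
      have hcc : PowerSeries.constantCoeff (βp k a) =
          PowerSeries.constantCoeff (RR k (-2⁻¹) (ev k (βm k a))) := by
        rw [constantCoeff_RR, ← constantCoeff_EE k (ev k (βm k a)), ← h4, constantCoeff_βp,
          constantCoeff_βm]
      obtain ⟨w, hw1, hw2⟩ := exists_of_constantCoeff_eq h2 _ _ hcc
      rw [AlgHom.mem_range]
      refine ⟨w, ?_⟩
      apply branch_ext h2
      · rw [hpφ, hw1]
      · rw [hmφ, hw2, SS_apply, RR_RR]
        have : (-2⁻¹ : k) * -2 = 1 := by rw [neg_mul_neg, inv_mul_cancel₀ h2]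
        rw [this, RR_one', ← h4]
    · intro h
      rw [AlgHom.mem_range] at h
      obtain ⟨w, rfl⟩ := h
      apply branch_ext h2
      · rw [hpσ]
      · rw [hmσ, hmφ, SS_apply, RR_neg_one_eq_self_iff k h2, od_EE]
  · rw [injective_iff_map_eq_zero]
    intro w hw
    apply branch_ext h2
    · rw [← hpφ, hw]
    · apply SS_injective h2
      rw [← hmφ, hw]
      simp only [map_zero]
  · intro h
    rw [mem_nonZeroDivisors_iff_right] at h
    exact hu_ne (h _ uv_eq_zero)
  · have hker : Ideal.span {ArSing.y k 1 - ArSing.x k 1} = RingHom.ker (βp k) := by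
      ext z
      rw [mem_span_v_iff, RingHom.mem_ker]
    refine ⟨⟨?_, bot_le⟩, ?_⟩
    · rw [hker]
      exact RingHom.ker_isPrime _
    · rintro q ⟨hq, -⟩ hle
      rw [Ideal.span_le, Set.singleton_subset_iff, SetLike.mem_coe]
      have h0 : (ArSing.x k 1 + ArSing.y k 1) * (ArSing.y k 1 - ArSing.x k 1) ∈ q := by
        rw [uv_eq_zero]
        exact q.zero_mem
      rcases hq.mem_or_mem h0 with h1 | h1
      · exfalso
        have h3 := hle h1
        rw [mem_span_v_iff, βp_u] at h3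
        exact X_add_X_ne_zero h2 h3
      · exact h1
  · intro hflat
    let f : Unit → ArSing.ring k 1 := fun _ => ArSing.x k 1 + ArSing.y k 1
    let xx : Unit → ArSing.ring k 1 := fun _ => ArSing.y k 1 - ArSing.x k 1
    have htriv : ∃ (K : ℕ) (a : Unit → Fin K → ArSing.ring k 1) (yy : Fin K → ArSing.ring k 1),
        (∀ i, xx i = ∑ j, φ (a i j) * yy j) ∧ ∀ j, ∑ i, f i * a i j = 0 := by
      refine @Module.Flat.isTrivialRelation_of_sum_smul_eq_zero (ArSing.ring k 1)
        (ArSing.ring k 1) _ _ (φ.toRingHom.toAlgebra.toModule) hflat Unit _ f xx ?_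
      show ∑ i : Unit, φ (f i) * xx i = 0
      rw [Fintype.sum_unique]
      show φ (ArSing.x k 1 + ArSing.y k 1) * (ArSing.y k 1 - ArSing.x k 1) = 0
      rw [hφu, uv_eq_zero]
    obtain ⟨K, a, yy, h1, h3⟩ := htriv
    have key : ∀ j, βp k (a () j) = 0 := by
      intro j
      have h4 := h3 j
      rw [Fintype.sum_unique] at h4
      have h5 := congrArg (βp k) h4
      rw [map_mul, map_zero] at h5
      have e : f default = ArSing.x k 1 + ArSing.y k 1 := rfl
      rw [e, βp_u] at h5
      exact (mul_eq_zero.mp h5).resolve_left (X_add_X_ne_zero h2)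
    have hdiv : (PowerSeries.X : PowerSeries k) ^ 2 ∣ βm k (xx ()) := by
      rw [h1 (), map_sum]
      apply Finset.dvd_sum
      intro j _
      rw [map_mul, hmφ]
      apply Dvd.dvd.mul_right
      apply X_sq_dvd_SS
      rw [constantCoeff_βm, ← constantCoeff_βp, key j, map_zero]
    have e : xx () = ArSing.y k 1 - ArSing.x k 1 := rfl
    rw [e, βm_v, dvd_neg] at hdiv
    have h6 := (PowerSeries.X_pow_dvd_iff.mp hdiv) 1 (by norm_num)
    rw [map_add, PowerSeries.coeff_one_X] at h6
    exact h2 (by rw [← h6]; norm_num)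

end Groth.Agent.Lib.T2H4.ArSingSwap
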