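import Mathlib
import Groth.Agent.Lib.T2H4ArSingSwap
import Groth.Agent.Lib.T2H4ArSingPSAut

/-! Helper library (helper4): classification of the involutions of the node
`A_1 = k[[x,y]]/(y^2 - x^2)` up to conjugation. -/

set_option autoImplicit false

namespace Groth.Agent.Lib.T2H4.ArSingNodeInv

open Groth.Agent.Lib.T1H4.ArSingNF Groth.Agent.Lib.T1H4.ArSingCore Groth.Agent.Lib.T1H4.ArSingHom
  Groth.Agent.Lib.T1H4.ArSingInv Groth.Agent.Lib.T2H4.ArSingSwap Groth.Agent.Lib.T2H4.ArSingPSAut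

universe u

variable {k : Type u} [Field k]

section lift

variable (h2 : (2 : k) ≠ 0) (ψp ψm : ArSing.ring k 1 →ₐ[k] PowerSeries k)
  (hc : ∀ z, PowerSeries.constantCoeff (ψp z) = PowerSeries.constantCoeff (ψm z))

/-- the element with prescribed images on the two branches -/
noncomputable def liftFun (z : ArSing.ring k 1) : ArSing.ring k 1 :=
  Classical.choose (exists_of_constantCoeff_eq h2 (ψp z) (ψm z) (hc z))

lemma liftFun_spec (z : ArSing.ring k 1) :
    βp k (liftFun h2 ψp ψm hc z) = ψp z ∧ βm k (liftFun h2 ψp ψm hc z) = ψm z :=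
  Classical.choose_spec (exists_of_constantCoeff_eq h2 (ψp z) (ψm z) (hc z))

/-- the endomorphism of the node with prescribed composites with the two branches -/
noncomputable def liftB : ArSing.ring k 1 →ₐ[k] ArSing.ring k 1 where
  toFun := liftFun h2 ψp ψm hc
  map_one' := branch_ext h2
    (by rw [(liftFun_spec h2 ψp ψm hc 1).1, map_one, map_one])
    (by rw [(liftFun_spec h2 ψp ψm hc 1).2, map_one, map_one])
  map_mul' z w := branch_ext h2
    (by rw [(liftFun_spec h2 ψp ψm hc _).1, map_mul, map_mul, (liftFun_spec h2 ψp ψm hc z).1,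
      (liftFun_spec h2 ψp ψm hc w).1])
    (by rw [(liftFun_spec h2 ψp ψm hc _).2, map_mul, map_mul, (liftFun_spec h2 ψp ψm hc z).2,
      (liftFun_spec h2 ψp ψm hc w).2])
  map_zero' := branch_ext h2
    (by rw [(liftFun_spec h2 ψp ψm hc 0).1, map_zero, map_zero])
    (by rw [(liftFun_spec h2 ψp ψm hc 0).2, map_zero, map_zero])
  map_add' z w := branch_ext h2
    (by rw [(liftFun_spec h2 ψp ψm hc _).1, map_add, map_add, (liftFun_spec h2 ψp ψm hc z).1,
      (liftFun_spec h2 ψp ψm hc w).1])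
    (by rw [(liftFun_spec h2 ψp ψm hc _).2, map_add, map_add, (liftFun_spec h2 ψp ψm hc z).2,
      (liftFun_spec h2 ψp ψm hc w).2])
  commutes' c := branch_ext h2
    (by rw [(liftFun_spec h2 ψp ψm hc _).1, AlgHom.commutes, AlgHom.commutes])
    (by rw [(liftFun_spec h2 ψp ψm hc _).2, AlgHom.commutes, AlgHom.commutes])

lemma βp_liftB (z : ArSing.ring k 1) : βp k (liftB h2 ψp ψm hc z) = ψp z :=
  (liftFun_spec h2 ψp ψm hc z).1

lemma βm_liftB (z : ArSing.ring k 1) : βm k (liftB h2 ψp ψm hc z) = ψm z :=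
  (liftFun_spec h2 ψp ψm hc z).2

end lift

lemma constantCoeff_algEquiv_X (e : PowerSeries k ≃ₐ[k] PowerSeries k) :
    PowerSeries.constantCoeff (e PowerSeries.X) = 0 := by
  by_contra h
  have h1 : IsUnit (e PowerSeries.X) := by
    rw [PowerSeries.isUnit_iff_constantCoeff]
    exact isUnit_iff_ne_zero.mpr h
  have h3 := h1.map e.symm
  rw [AlgEquiv.symm_apply_apply, PowerSeries.isUnit_iff_constantCoeff,
    PowerSeries.constantCoeff_X] at h3
  exact not_isUnit_zero h3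

lemma constantCoeff_algEquiv (e : PowerSeries k ≃ₐ[k] PowerSeries k) (p : PowerSeries k) :
    PowerSeries.constantCoeff (e p) = PowerSeries.constantCoeff p :=
  constantCoeff_algHom (e : PowerSeries k →ₐ[k] PowerSeries k) (constantCoeff_algEquiv_X e) p

lemma hc_aut (ep em : PowerSeries k ≃ₐ[k] PowerSeries k) (z : ArSing.ring k 1) :
    PowerSeries.constantCoeff (((ep : PowerSeries k →ₐ[k] PowerSeries k).comp (βp k)) z) =
      PowerSeries.constantCoeff (((em : PowerSeries k →ₐ[k] PowerSeries k).comp (βm k)) z) := by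
  rw [AlgHom.comp_apply, AlgHom.comp_apply, AlgEquiv.coe_toAlgHom, AlgEquiv.coe_toAlgHom,
    constantCoeff_algEquiv, constantCoeff_algEquiv, constantCoeff_βp, constantCoeff_βm]

lemma hc_swap (z : ArSing.ring k 1) :
    PowerSeries.constantCoeff (βm k z) = PowerSeries.constantCoeff (βp k z) := by
  rw [constantCoeff_βp, constantCoeff_βm]

/-- the automorphism of the node acting by `ep`, `em` on the two branches -/
noncomputable def autB (h2 : (2 : k) ≠ 0) (ep em : PowerSeries k ≃ₐ[k] PowerSeries k) :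
    ArSing.ring k 1 ≃ₐ[k] ArSing.ring k 1 :=
  AlgEquiv.ofAlgHom
    (liftB h2 ((ep : PowerSeries k →ₐ[k] PowerSeries k).comp (βp k))
      ((em : PowerSeries k →ₐ[k] PowerSeries k).comp (βm k)) (hc_aut ep em))
    (liftB h2 ((ep.symm : PowerSeries k →ₐ[k] PowerSeries k).comp (βp k))
      ((em.symm : PowerSeries k →ₐ[k] PowerSeries k).comp (βm k)) (hc_aut ep.symm em.symm))
    (by
      apply AlgHom.ext
      intro z
      apply branch_ext h2
      · rw [AlgHom.comp_apply, βp_liftB, AlgHom.comp_apply, βp_liftB, AlgHom.comp_apply,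
          AlgEquiv.coe_toAlgHom, AlgEquiv.coe_toAlgHom, AlgEquiv.apply_symm_apply, AlgHom.id_apply]
      · rw [AlgHom.comp_apply, βm_liftB, AlgHom.comp_apply, βm_liftB, AlgHom.comp_apply,
          AlgEquiv.coe_toAlgHom, AlgEquiv.coe_toAlgHom, AlgEquiv.apply_symm_apply, AlgHom.id_apply])
    (by
      apply AlgHom.ext
      intro z
      apply branch_ext h2
      · rw [AlgHom.comp_apply, βp_liftB, AlgHom.comp_apply, βp_liftB, AlgHom.comp_apply,
          AlgEquiv.coe_toAlgHom, AlgEquiv.coe_toAlgHom, AlgEquiv.symm_apply_apply, AlgHom.id_apply]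
      · rw [AlgHom.comp_apply, βm_liftB, AlgHom.comp_apply, βm_liftB, AlgHom.comp_apply,
          AlgEquiv.coe_toAlgHom, AlgEquiv.coe_toAlgHom, AlgEquiv.symm_apply_apply, AlgHom.id_apply])

lemma βp_autB (h2 : (2 : k) ≠ 0) (ep em : PowerSeries k ≃ₐ[k] PowerSeries k)
    (z : ArSing.ring k 1) : βp k (autB h2 ep em z) = ep (βp k z) :=
  βp_liftB h2 _ _ (hc_aut ep em) z

lemma βm_autB (h2 : (2 : k) ≠ 0) (ep em : PowerSeries k ≃ₐ[k] PowerSeries k)
    (z : ArSing.ring k 1) : βm k (autB h2 ep em z) = em (βm k z) :=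
  βm_liftB h2 _ _ (hc_aut ep em) z

lemma βp_autB_symm (h2 : (2 : k) ≠ 0) (ep em : PowerSeries k ≃ₐ[k] PowerSeries k)
    (w : ArSing.ring k 1) : βp k ((autB h2 ep em).symm w) = ep.symm (βp k w) :=
  βp_liftB h2 _ _ (hc_aut ep.symm em.symm) w

lemma βm_autB_symm (h2 : (2 : k) ≠ 0) (ep em : PowerSeries k ≃ₐ[k] PowerSeries k)
    (w : ArSing.ring k 1) : βm k ((autB h2 ep em).symm w) = em.symm (βm k w) :=
  βm_liftB h2 _ _ (hc_aut ep.symm em.symm) w

/-- the automorphism of the node exchanging the two branches (`x ↦ x`, `y ↦ -y`) -/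
noncomputable def swapB (h2 : (2 : k) ≠ 0) : ArSing.ring k 1 ≃ₐ[k] ArSing.ring k 1 :=
  AlgEquiv.ofAlgHom
    (liftB h2 (βm k) (βp k) hc_swap)
    (liftB h2 (βm k) (βp k) hc_swap)
    (by
      apply AlgHom.ext
      intro z
      apply branch_ext h2
      · rw [AlgHom.comp_apply, βp_liftB, βm_liftB, AlgHom.id_apply]
      · rw [AlgHom.comp_apply, βm_liftB, βp_liftB, AlgHom.id_apply])
    (by
      apply AlgHom.ext
      intro z
      apply branch_ext h2
      · rw [AlgHom.comp_apply, βp_liftB, βm_liftB, AlgHom.id_apply]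
      · rw [AlgHom.comp_apply, βm_liftB, βp_liftB, AlgHom.id_apply])

lemma βp_swapB (h2 : (2 : k) ≠ 0) (z : ArSing.ring k 1) : βp k (swapB h2 z) = βm k z :=
  βp_liftB h2 _ _ hc_swap z

lemma βm_swapB (h2 : (2 : k) ≠ 0) (z : ArSing.ring k 1) : βm k (swapB h2 z) = βp k z :=
  βm_liftB h2 _ _ hc_swap z

lemma βp_swapB_symm (h2 : (2 : k) ≠ 0) (w : ArSing.ring k 1) :
    βp k ((swapB h2).symm w) = βm k w :=
  βp_liftB h2 _ _ hc_swap w

lemma βm_swapB_symm (h2 : (2 : k) ≠ 0) (w : ArSing.ring k 1) :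
    βm k ((swapB h2).symm w) = βp k w :=
  βm_liftB h2 _ _ hc_swap w

lemma βp_xMap (p : PowerSeries k) : βp k (ArSing.xMap k 1 p) = p := by
  rw [βp_apply, cA_xMap, cB_xMap, mul_zero, add_zero]

lemma βm_xMap (p : PowerSeries k) : βm k (ArSing.xMap k 1 p) = p := by
  rw [βm_apply, cA_xMap, cB_xMap, mul_zero, sub_zero]

/-- The kernel of the branch `y = -x` is the ideal `(x + y)`. -/
lemma mem_span_u_iff (z : ArSing.ring k 1) :
    z ∈ Ideal.span {ArSing.x k 1 + ArSing.y k 1} ↔ βm k z = 0 := by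
  constructor
  · intro h
    obtain ⟨c, rfl⟩ := Ideal.mem_span_singleton'.mp h
    rw [map_mul, βm_u, mul_zero]
  · intro h
    rw [βm_apply] at h
    rw [Ideal.mem_span_singleton']
    refine ⟨ArSing.xMap k 1 (cB k 1 z), ?_⟩
    conv_rhs => rw [decomp k 1 z, sub_eq_zero.mp h, map_mul, xMap_X]
    ring

lemma u_or_v (ψ : ArSing.ring k 1 →ₐ[k] PowerSeries k) :
    ψ (ArSing.x k 1 + ArSing.y k 1) = 0 ∨ ψ (ArSing.y k 1 - ArSing.x k 1) = 0 := by
  have := congrArg ψ (uv_eq_zero (k := k))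
  rw [map_mul, map_zero] at this
  exact mul_eq_zero.mp this

lemma factor_p (ψ : ArSing.ring k 1 →ₐ[k] PowerSeries k)
    (hv : ψ (ArSing.y k 1 - ArSing.x k 1) = 0) (z : ArSing.ring k 1) :
    ψ z = ψ (ArSing.xMap k 1 (βp k z)) := by
  have h1 : z - ArSing.xMap k 1 (βp k z) ∈ Ideal.span {ArSing.y k 1 - ArSing.x k 1} := by
    rw [mem_span_v_iff, map_sub, βp_xMap, sub_self]
  obtain ⟨c, hc⟩ := Ideal.mem_span_singleton'.mp h1
  have h3 := congrArg ψ hc
  rw [map_mul, hv, mul_zero, map_sub] at h3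
  exact (sub_eq_zero.mp h3.symm)

lemma factor_m (ψ : ArSing.ring k 1 →ₐ[k] PowerSeries k)
    (hu : ψ (ArSing.x k 1 + ArSing.y k 1) = 0) (z : ArSing.ring k 1) :
    ψ z = ψ (ArSing.xMap k 1 (βm k z)) := by
  have h1 : z - ArSing.xMap k 1 (βm k z) ∈ Ideal.span {ArSing.x k 1 + ArSing.y k 1} := by
    rw [mem_span_u_iff, map_sub, βm_xMap, sub_self]
  obtain ⟨c, hc⟩ := Ideal.mem_span_singleton'.mp h1
  have h3 := congrArg ψ hc
  rw [map_mul, hu, mul_zero, map_sub] at h3
  exact (sub_eq_zero.mp h3.symm)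

lemma RR_neg_one_X : RR k (-1) PowerSeries.X = -PowerSeries.X := by
  rw [RR_X, map_neg, map_one, neg_one_mul]

/-- the three normal forms -/
def NF (σ φ : ArSing.ring k 1 ≃ₐ[k] ArSing.ring k 1) : Prop :=
  (φ.symm (σ (φ (ArSing.x k 1))) = ArSing.x k 1 ∧ φ.symm (σ (φ (ArSing.y k 1))) = -ArSing.y k 1) ∨
  (φ.symm (σ (φ (ArSing.x k 1))) = -ArSing.x k 1 ∧ φ.symm (σ (φ (ArSing.y k 1))) = -ArSing.y k 1) ∨
  (φ.symm (σ (φ (ArSing.x k 1))) = ArSing.y k 1 ∧ φ.symm (σ (φ (ArSing.y k 1))) = ArSing.x k 1)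

/-- the case of an involution acting linearly on both branches -/
lemma final_of_linear (h2 : (2 : k) ≠ 0) (σ : ArSing.ring k 1 ≃ₐ[k] ArSing.ring k 1)
    (hne : σ ≠ AlgEquiv.refl) (φ : ArSing.ring k 1 ≃ₐ[k] ArSing.ring k 1) (cp cm : k)
    (hcp : cp = 1 ∨ cp = -1) (hcm : cm = 1 ∨ cm = -1)
    (hp : ∀ z, βp k (φ.symm (σ (φ z))) = RR k cp (βp k z))
    (hm : ∀ z, βm k (φ.symm (σ (φ z))) = RR k cm (βm k z)) :
    ∃ φ' : ArSing.ring k 1 ≃ₐ[k] ArSing.ring k 1, NF σ φ' := by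
  -- first treat the three cases other than `(-1, 1)`
  have main : ∀ (φ : ArSing.ring k 1 ≃ₐ[k] ArSing.ring k 1) (cp cm : k),
      ((cp = 1 ∧ cm = 1) ∨ (cp = -1 ∧ cm = -1) ∨ (cp = 1 ∧ cm = -1)) →
      (∀ z, βp k (φ.symm (σ (φ z))) = RR k cp (βp k z)) →
      (∀ z, βm k (φ.symm (σ (φ z))) = RR k cm (βm k z)) → NF σ φ := by
    intro φ cp cm hcase hp hm
    rcases hcase with ⟨rfl, rfl⟩ | ⟨rfl, rfl⟩ | ⟨rfl, rfl⟩
    · exfalso
      apply hne
      have h1 : ∀ z, φ.symm (σ (φ z)) = z := by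
        intro z
        apply branch_ext h2
        · rw [hp, RR_one']
        · rw [hm, RR_one']
      apply AlgEquiv.ext
      intro w
      have := congrArg φ (h1 (φ.symm w))
      rw [AlgEquiv.apply_symm_apply, AlgEquiv.apply_symm_apply] at this
      exact this
    · right; left
      constructor
      · apply branch_ext h2
        · rw [hp, βp_x, RR_neg_one_X, map_neg, βp_x]
        · rw [hm, βm_x, RR_neg_one_X, map_neg, βm_x]
      · apply branch_ext h2
        · rw [hp, βp_y, RR_neg_one_X, map_neg, βp_y]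
        · rw [hm, βm_y, map_neg, RR_neg_one_X, map_neg, βm_y]
    · right; right
      constructor
      · apply branch_ext h2
        · rw [hp, βp_x, RR_one', βp_y]
        · rw [hm, βm_x, RR_neg_one_X, βm_y]
      · apply branch_ext h2
        · rw [hp, βp_y, RR_one', βp_x]
        · rw [hm, βm_y, map_neg, RR_neg_one_X, neg_neg, βm_x]
  rcases hcp with rfl | rfl <;> rcases hcm with rfl | rfl
  · exact ⟨φ, main φ 1 1 (Or.inl ⟨rfl, rfl⟩) hp hm⟩
  · exact ⟨φ, main φ 1 (-1) (Or.inr (Or.inr ⟨rfl, rfl⟩)) hp hm⟩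
  · refine ⟨(swapB h2).trans φ, main _ 1 (-1) (Or.inr (Or.inr ⟨rfl, rfl⟩)) ?_ ?_⟩
    · intro z
      show βp k ((swapB h2).symm (φ.symm (σ (φ (swapB h2 z))))) = _
      rw [βp_swapB_symm, hm, βm_swapB]
    · intro z
      show βm k ((swapB h2).symm (φ.symm (σ (φ (swapB h2 z))))) = _
      rw [βm_swapB_symm, hp, βp_swapB]
  · exact ⟨φ, main φ (-1) (-1) (Or.inr (Or.inl ⟨rfl, rfl⟩)) hp hm⟩

theorem main (h2 : (2 : k) ≠ 0)
    (σ : ArSing.ring k 1 ≃ₐ[k] ArSing.ring k 1) (hσ : ∀ a, σ (σ a) = a) (hne : σ ≠ AlgEquiv.refl) :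
    ∃ φ : ArSing.ring k 1 ≃ₐ[k] ArSing.ring k 1, NF σ φ := by
  have hv_ne : ArSing.y k 1 - ArSing.x k 1 ≠ 0 := by
    intro h
    have := congrArg (βm k) h
    rw [βm_v, map_zero, neg_eq_zero] at this
    exact X_add_X_ne_zero h2 this
  have hu_ne : ArSing.x k 1 + ArSing.y k 1 ≠ 0 := by
    intro h
    have := congrArg (βp k) h
    rw [βp_u, map_zero] at this
    exact X_add_X_ne_zero h2 this
  have hσinj : ∀ w, σ w = 0 → w = 0 := fun w hw => by
    have := congrArg σ hw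
    rw [hσ, map_zero] at this
    exact this
  set ψp : ArSing.ring k 1 →ₐ[k] PowerSeries k :=
    (βp k).comp (σ : ArSing.ring k 1 →ₐ[k] ArSing.ring k 1) with hψp
  set ψm : ArSing.ring k 1 →ₐ[k] PowerSeries k :=
    (βm k).comp (σ : ArSing.ring k 1 →ₐ[k] ArSing.ring k 1) with hψm
  have hψp_apply : ∀ z, ψp z = βp k (σ z) := fun z => rfl
  have hψm_apply : ∀ z, ψm z = βm k (σ z) := fun z => rfl
  have hcase : (ψp (ArSing.y k 1 - ArSing.x k 1) = 0 ∧ ψm (ArSing.x k 1 + ArSing.y k 1) = 0) ∨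
      (ψp (ArSing.x k 1 + ArSing.y k 1) = 0 ∧ ψm (ArSing.y k 1 - ArSing.x k 1) = 0) := by
    rcases u_or_v ψp with h1 | h1 <;> rcases u_or_v ψm with h3 | h3
    · exfalso
      apply hu_ne
      apply hσinj
      apply branch_ext h2
      · rw [← hψp_apply, h1, map_zero]
      · rw [← hψm_apply, h3, map_zero]
    · exact Or.inr ⟨h1, h3⟩
    · exact Or.inl ⟨h1, h3⟩
    · exfalso
      apply hv_ne
      apply hσinj
      apply branch_ext h2
      · rw [← hψp_apply, h1, map_zero]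
      · rw [← hψm_apply, h3, map_zero]
  rcases hcase with ⟨hpv, hmu⟩ | ⟨hpu, hmv⟩
  · -- the branches are preserved
    set τp : PowerSeries k →ₐ[k] PowerSeries k := ψp.comp (ArSing.xMap k 1) with hτp
    set τm : PowerSeries k →ₐ[k] PowerSeries k := ψm.comp (ArSing.xMap k 1) with hτm
    have h1 : ∀ z, βp k (σ z) = τp (βp k z) := fun z => factor_p ψp hpv z
    have h3 : ∀ z, βm k (σ z) = τm (βm k z) := fun z => factor_m ψm hmu z
    have hτp2 : ∀ p, τp (τp p) = p := by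
      intro p
      have e : τp p = βp k (σ (ArSing.xMap k 1 p)) := rfl
      rw [e, ← h1, hσ, βp_xMap]
    have hτm2 : ∀ p, τm (τm p) = p := by
      intro p
      have e : τm p = βm k (σ (ArSing.xMap k 1 p)) := rfl
      rw [e, ← h3, hσ, βm_xMap]
    obtain ⟨cp, θp, hcp, hθp⟩ := exists_linearize h2 τp hτp2
    obtain ⟨cm, θm, hcm, hθm⟩ := exists_linearize h2 τm hτm2
    apply final_of_linear h2 σ hne (autB h2 θp θm) cp cm hcp hcm
    · intro z
      rw [βp_autB_symm, h1, βp_autB, hθp, AlgEquiv.symm_apply_apply]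
    · intro z
      rw [βm_autB_symm, h3, βm_autB, hθm, AlgEquiv.symm_apply_apply]
  · -- the branches are exchanged
    set θ' : PowerSeries k →ₐ[k] PowerSeries k := ψp.comp (ArSing.xMap k 1) with hθ'
    set θ : PowerSeries k →ₐ[k] PowerSeries k := ψm.comp (ArSing.xMap k 1) with hθ
    have h1 : ∀ z, βp k (σ z) = θ' (βm k z) := fun z => factor_m ψp hpu z
    have h3 : ∀ z, βm k (σ z) = θ (βp k z) := fun z => factor_p ψm hmv z
    have e1 : ∀ p, θ (θ' p) = p := by
      intro p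
      have e : θ' p = βp k (σ (ArSing.xMap k 1 p)) := rfl
      rw [e, ← h3, hσ, βm_xMap]
    have e2 : ∀ p, θ' (θ p) = p := by
      intro p
      have e : θ p = βm k (σ (ArSing.xMap k 1 p)) := rfl
      rw [e, ← h1, hσ, βp_xMap]
    let e : PowerSeries k ≃ₐ[k] PowerSeries k :=
      AlgEquiv.ofAlgHom θ θ' (AlgHom.ext e1) (AlgHom.ext e2)
    have he : ∀ p, e p = θ p := fun p => rfl
    have he' : ∀ p, e.symm p = θ' p := fun p => rfl
    have hr : ∀ p : PowerSeries k, (AlgEquiv.refl : PowerSeries k ≃ₐ[k] PowerSeries k).symm p = p :=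
      fun p => rfl
    have hr' : ∀ p : PowerSeries k, (AlgEquiv.refl : PowerSeries k ≃ₐ[k] PowerSeries k) p = p :=
      fun p => rfl
    have hp : ∀ z, βp k ((autB h2 AlgEquiv.refl e).symm (σ (autB h2 AlgEquiv.refl e z))) =
        βm k z := by
      intro z
      rw [βp_autB_symm, hr, h1, βm_autB, he, e2]
    have hm : ∀ z, βm k ((autB h2 AlgEquiv.refl e).symm (σ (autB h2 AlgEquiv.refl e z))) =
        βp k z := by
      intro z
      rw [βm_autB_symm, he', h3, βp_autB, hr', e2]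
    refine ⟨autB h2 AlgEquiv.refl e, Or.inl ⟨?_, ?_⟩⟩
    · apply branch_ext h2
      · rw [hp, βm_x, βp_x]
      · rw [hm, βp_x, βm_x]
    · apply branch_ext h2
      · rw [hp, βm_y, map_neg, βp_y]
      · rw [hm, βp_y, map_neg, βm_y, neg_neg]

end Groth.Agent.Lib.T2H4.ArSingNodeInv
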