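import Mathlib
import Groth.Agent.Lib.T2H4ArSingBr
import Groth.Agent.Lib.T2H4ArSingNodeInv

/-! Helper library (helper4): classification of the involutions of
`A_r = k[[x,y]]/(y^2 - x^(2m))`, `m ≥ 2`, up to conjugation. -/

set_option autoImplicit false

namespace Groth.Agent.Lib.T2H4.ArSingOddInv

open Groth.Agent.Lib.T1H4.ArSingNF Groth.Agent.Lib.T1H4.ArSingCore Groth.Agent.Lib.T1H4.ArSingHom
  Groth.Agent.Lib.T1H4.ArSingInv Groth.Agent.Lib.T2H4.ArSingPSAut Groth.Agent.Lib.T2H4.ArSingBr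

universe u

variable {k : Type u} [Field k]

/-- the candidate eigen-uniformizer `(t + c θ(t)) / 2` -/
noncomputable def linS (c : k) (θ : PowerSeries k →ₐ[k] PowerSeries k) : PowerSeries k :=
  PowerSeries.C (2⁻¹ : k) * (PowerSeries.X + PowerSeries.C c * θ PowerSeries.X)

lemma algHom_C (θ : PowerSeries k →ₐ[k] PowerSeries k) (a : k) :
    θ (PowerSeries.C a) = PowerSeries.C a := by
  rw [PowerSeries.C_eq_algebraMap, AlgHom.commutes]

lemma linS_props (h2 : (2 : k) ≠ 0) (θ : PowerSeries k →ₐ[k] PowerSeries k)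
    (h0 : PowerSeries.constantCoeff (θ PowerSeries.X) = 0) (c : k)
    (hc : PowerSeries.coeff 1 (θ PowerSeries.X) = c) (hcc : c * c = 1) :
    PowerSeries.constantCoeff (linS c θ) = 0 ∧ PowerSeries.coeff 1 (linS c θ) = 1 ∧
      linS c θ - PowerSeries.C c * θ (linS c θ) =
        PowerSeries.C (2⁻¹ : k) * (PowerSeries.X - θ (θ PowerSeries.X)) := by
  refine ⟨?_, ?_, ?_⟩
  · rw [linS, map_mul, map_add, map_mul, h0, PowerSeries.constantCoeff_X, mul_zero, add_zero,
      mul_zero]
  · rw [linS, PowerSeries.coeff_C_mul, map_add, PowerSeries.coeff_C_mul, PowerSeries.coeff_one_X,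
      hc, hcc]
    rw [show (1 : k) + 1 = 2 by norm_num, inv_mul_cancel₀ h2]
  · rw [linS, map_mul, map_add, map_mul, algHom_C, algHom_C]
    have : PowerSeries.C c * PowerSeries.C c = (1 : PowerSeries k) := by
      rw [← map_mul, hcc, map_one]
    linear_combination (-(PowerSeries.C (2⁻¹ : k)) * θ (θ PowerSeries.X)) * this

lemma conj_of_eq (θ : PowerSeries k →ₐ[k] PowerSeries k)
    (h0 : PowerSeries.constantCoeff (θ PowerSeries.X) = 0)
    (w w' : PowerSeries k) (hw0 : PowerSeries.constantCoeff w = 0)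
    (hw1 : IsUnit (PowerSeries.coeff 1 w)) (hw'0 : PowerSeries.constantCoeff w' = 0)
    (hw'1 : IsUnit (PowerSeries.coeff 1 w')) (c : k) (hcc : c * c = 1)
    (h : w' = PowerSeries.C c * θ w) (p : PowerSeries k) :
    θ (psEquiv w hw0 hw1 p) = psEquiv w' hw'0 hw'1 (RR k c p) := by
  have h1 : θ.comp (psEquiv w hw0 hw1 : PowerSeries k →ₐ[k] PowerSeries k) =
      (psEquiv w' hw'0 hw'1 : PowerSeries k →ₐ[k] PowerSeries k).comp (RR k c) := by
    apply ps_algHom_ext
    · rw [AlgHom.comp_apply, AlgHom.comp_apply, AlgEquiv.coe_toAlgHom, AlgEquiv.coe_toAlgHom,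
        psEquiv_X, RR_X, map_mul, psEquiv_X, PowerSeries.C_eq_algebraMap, AlgEquiv.commutes,
        ← PowerSeries.C_eq_algebraMap, h, ← mul_assoc, ← map_mul, hcc, map_one, one_mul]
    · rw [AlgHom.comp_apply, AlgEquiv.coe_toAlgHom, psEquiv_X, constantCoeff_algHom θ h0, hw0]
  exact DFunLike.congr_fun h1 p

/-- the three normal forms -/
def NF {r : ℕ} (σ φ : ArSing.ring k r ≃ₐ[k] ArSing.ring k r) : Prop :=
  (φ.symm (σ (φ (ArSing.x k r))) = ArSing.x k r ∧ φ.symm (σ (φ (ArSing.y k r))) = -ArSing.y k r) ∨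
  (φ.symm (σ (φ (ArSing.x k r))) = -ArSing.x k r ∧ φ.symm (σ (φ (ArSing.y k r))) = ArSing.y k r) ∨
  (φ.symm (σ (φ (ArSing.x k r))) = -ArSing.x k r ∧ φ.symm (σ (φ (ArSing.y k r))) = -ArSing.y k r)

lemma RR_neg_one_X : RR k (-1) PowerSeries.X = -PowerSeries.X :=
  Groth.Agent.Lib.T2H4.ArSingNodeInv.RR_neg_one_X

lemma RR_one (p : PowerSeries k) : RR k 1 p = p :=
  Groth.Agent.Lib.T2H4.ArSingSwap.RR_one' k p

lemma RR_neg_one_X_pow (m : ℕ) :
    RR k (-1) (PowerSeries.X ^ m) = (-PowerSeries.X) ^ m := by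
  rw [map_pow, RR_neg_one_X]

variable (r m : ℕ) (hrm : r + 1 = 2 * m)

include hrm in
lemma final_preserve (h2 : (2 : k) ≠ 0) (σ : ArSing.ring k r ≃ₐ[k] ArSing.ring k r)
    (hne : σ ≠ AlgEquiv.refl) (φ : ArSing.ring k r ≃ₐ[k] ArSing.ring k r) (c : k)
    (hc : c = 1 ∨ c = -1)
    (hp : ∀ z, bp r m hrm (φ.symm (σ (φ z))) = RR k c (bp r m hrm z))
    (hm : ∀ z, bm r m hrm (φ.symm (σ (φ z))) = RR k c (bm r m hrm z)) : NF σ φ := by
  rcases hc with rfl | rfl
  · exfalso
    apply hne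
    have h1 : ∀ z, φ.symm (σ (φ z)) = z := by
      intro z
      apply branch_ext r m hrm h2
      · rw [hp, RR_one]
      · rw [hm, RR_one]
    apply AlgEquiv.ext
    intro w
    have := congrArg φ (h1 (φ.symm w))
    rw [AlgEquiv.apply_symm_apply, AlgEquiv.apply_symm_apply] at this
    exact this
  · have hx : φ.symm (σ (φ (ArSing.x k r))) = -ArSing.x k r := by
      apply branch_ext r m hrm h2
      · rw [hp, bp_x, RR_neg_one_X, map_neg, bp_x]
      · rw [hm, bm_x, RR_neg_one_X, map_neg, bm_x]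
    rcases Nat.even_or_odd m with hev | hodd
    · right; left
      refine ⟨hx, ?_⟩
      apply branch_ext r m hrm h2
      · rw [hp, bp_y, RR_neg_one_X_pow, hev.neg_pow]
      · rw [hm, bm_y, map_neg, RR_neg_one_X_pow, hev.neg_pow]
    · right; right
      refine ⟨hx, ?_⟩
      apply branch_ext r m hrm h2
      · rw [hp, bp_y, RR_neg_one_X_pow, hodd.neg_pow, map_neg, bp_y]
      · rw [hm, bm_y, map_neg, RR_neg_one_X_pow, hodd.neg_pow, map_neg, bm_y]

include hrm in
lemma final_swap (h2 : (2 : k) ≠ 0) (σ : ArSing.ring k r ≃ₐ[k] ArSing.ring k r)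
    (φ : ArSing.ring k r ≃ₐ[k] ArSing.ring k r) (c : k)
    (hc : c = 1 ∨ c = -1)
    (hp : ∀ z, bp r m hrm (φ.symm (σ (φ z))) = RR k c (bm r m hrm z))
    (hm : ∀ z, bm r m hrm (φ.symm (σ (φ z))) = RR k c (bp r m hrm z)) : NF σ φ := by
  rcases hc with rfl | rfl
  · left
    constructor
    · apply branch_ext r m hrm h2
      · rw [hp, bm_x, RR_one, bp_x]
      · rw [hm, bp_x, RR_one, bm_x]
    · apply branch_ext r m hrm h2
      · rw [hp, bm_y, RR_one, map_neg, bp_y]
      · rw [hm, bp_y, RR_one, map_neg, bm_y, neg_neg]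
  · have hx : φ.symm (σ (φ (ArSing.x k r))) = -ArSing.x k r := by
      apply branch_ext r m hrm h2
      · rw [hp, bm_x, RR_neg_one_X, map_neg, bp_x]
      · rw [hm, bp_x, RR_neg_one_X, map_neg, bm_x]
    rcases Nat.even_or_odd m with hev | hodd
    · right; right
      refine ⟨hx, ?_⟩
      apply branch_ext r m hrm h2
      · rw [hp, bm_y, map_neg, RR_neg_one_X_pow, hev.neg_pow, map_neg, bp_y]
      · rw [hm, bp_y, RR_neg_one_X_pow, hev.neg_pow, map_neg, bm_y, neg_neg]
    · right; left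
      refine ⟨hx, ?_⟩
      apply branch_ext r m hrm h2
      · rw [hp, bm_y, map_neg, RR_neg_one_X_pow, hodd.neg_pow, neg_neg, bp_y]
      · rw [hm, bp_y, RR_neg_one_X_pow, hodd.neg_pow, bm_y]

lemma coeff_one_eq_of_dvd {m : ℕ} (hm2 : 2 ≤ m) {f g : PowerSeries k}
    (h : (PowerSeries.X : PowerSeries k) ^ m ∣ f - g) :
    PowerSeries.coeff 1 f = PowerSeries.coeff 1 g := by
  have := (PowerSeries.X_pow_dvd_iff.mp h) 1 (by omega)
  rw [map_sub] at this
  exact sub_eq_zero.mp this

lemma sq_eq_one {c : k} (hcc : c * c = 1) : c = 1 ∨ c = -1 := by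
  have h3 : (c - 1) * (c + 1) = 0 := by linear_combination hcc
  rcases mul_eq_zero.mp h3 with h | h
  · left; exact sub_eq_zero.mp h
  · right; exact eq_neg_of_add_eq_zero_left h

include hrm in
theorem main (hm2 : 2 ≤ m) (h2 : (2 : k) ≠ 0)
    (σ : ArSing.ring k r ≃ₐ[k] ArSing.ring k r) (hσ : ∀ a, σ (σ a) = a) (hne : σ ≠ AlgEquiv.refl) :
    ∃ φ : ArSing.ring k r ≃ₐ[k] ArSing.ring k r, NF σ φ := by
  have hv_ne : vv (k := k) r m ≠ 0 := by
    intro h
    have := congrArg (bm r m hrm) h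
    rw [bm_vv, map_zero, neg_eq_zero] at this
    exact Xm_add_ne_zero m h2 this
  have hu_ne : uu (k := k) r m ≠ 0 := by
    intro h
    have := congrArg (bp r m hrm) h
    rw [bp_uu, map_zero] at this
    exact Xm_add_ne_zero m h2 this
  have hσinj : ∀ w, σ w = 0 → w = 0 := fun w hw => by
    have := congrArg σ hw
    rw [hσ, map_zero] at this
    exact this
  set ψp : ArSing.ring k r →ₐ[k] PowerSeries k :=
    (bp r m hrm).comp (σ : ArSing.ring k r →ₐ[k] ArSing.ring k r) with hψp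
  set ψm : ArSing.ring k r →ₐ[k] PowerSeries k :=
    (bm r m hrm).comp (σ : ArSing.ring k r →ₐ[k] ArSing.ring k r) with hψm
  have hψp_apply : ∀ z, ψp z = bp r m hrm (σ z) := fun z => rfl
  have hψm_apply : ∀ z, ψm z = bm r m hrm (σ z) := fun z => rfl
  have hcase : (ψp (vv r m) = 0 ∧ ψm (uu r m) = 0) ∨ (ψp (uu r m) = 0 ∧ ψm (vv r m) = 0) := by
    rcases u_or_v r m hrm ψp with h1 | h1 <;> rcases u_or_v r m hrm ψm with h3 | h3
    · exfalso
      apply hu_ne
      apply hσinj
      apply branch_ext r m hrm h2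
      · rw [← hψp_apply, h1, map_zero]
      · rw [← hψm_apply, h3, map_zero]
    · exact Or.inr ⟨h1, h3⟩
    · exact Or.inl ⟨h1, h3⟩
    · exfalso
      apply hv_ne
      apply hσinj
      apply branch_ext r m hrm h2
      · rw [← hψp_apply, h1, map_zero]
      · rw [← hψm_apply, h3, map_zero]
  rcases hcase with ⟨hpv, hmu⟩ | ⟨hpu, hmv⟩
  · -- the branches are preserved
    set τp : PowerSeries k →ₐ[k] PowerSeries k := ψp.comp (ArSing.xMap k r) with hτp
    set τm : PowerSeries k →ₐ[k] PowerSeries k := ψm.comp (ArSing.xMap k r) with hτm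
    have eτp : ∀ p, τp p = bp r m hrm (σ (ArSing.xMap k r p)) := fun p => rfl
    have eτm : ∀ p, τm p = bm r m hrm (σ (ArSing.xMap k r p)) := fun p => rfl
    have h1 : ∀ z, bp r m hrm (σ z) = τp (bp r m hrm z) := fun z => factor_p r m hrm ψp hpv z
    have h3 : ∀ z, bm r m hrm (σ z) = τm (bm r m hrm z) := fun z => factor_m r m hrm ψm hmu z
    have hτp2 : ∀ p, τp (τp p) = p := by
      intro p
      rw [eτp p, ← h1, hσ, bp_xMap]
    have hτm2 : ∀ p, τm (τm p) = p := by
      intro p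
      rw [eτm p, ← h3, hσ, bm_xMap]
    have hcongτ : ∀ p, (PowerSeries.X : PowerSeries k) ^ m ∣ τp p - τm p := by
      intro p
      rw [eτp, eτm]
      exact dvd_bp_sub_bm r m hrm _
    have h0p := constantCoeff_of_involutive τp hτp2
    have h0m := constantCoeff_of_involutive τm hτm2
    set c : k := PowerSeries.coeff 1 (τp PowerSeries.X) with hc
    have hc' : PowerSeries.coeff 1 (τm PowerSeries.X) = c :=
      (coeff_one_eq_of_dvd hm2 (hcongτ PowerSeries.X)).symm
    have hcc : c * c = 1 := by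
      have := coeff_one_algHom τp h0p (τp PowerSeries.X)
      rw [hτp2, PowerSeries.coeff_one_X] at this
      exact this.symm
    obtain ⟨hsp0, hsp1, hsp⟩ := linS_props h2 τp h0p c rfl hcc
    obtain ⟨hsm0, hsm1, hsm⟩ := linS_props h2 τm h0m c hc' hcc
    rw [hτp2, sub_self, mul_zero] at hsp
    rw [hτm2, sub_self, mul_zero] at hsm
    have hCc : PowerSeries.C c * PowerSeries.C c = (1 : PowerSeries k) := by
      rw [← map_mul, hcc, map_one]
    have hτsp : τp (linS c τp) = PowerSeries.C c * linS c τp := by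
      linear_combination (-(PowerSeries.C c)) * hsp - (τp (linS c τp)) * hCc
    have hτsm : τm (linS c τm) = PowerSeries.C c * linS c τm := by
      linear_combination (-(PowerSeries.C c)) * hsm - (τm (linS c τm)) * hCc
    have hu1 : IsUnit (PowerSeries.coeff 1 (linS c τp)) := by rw [hsp1]; exact isUnit_one
    have hu2 : IsUnit (PowerSeries.coeff 1 (linS c τm)) := by rw [hsm1]; exact isUnit_one
    set θp := psEquiv (linS c τp) hsp0 hu1 with hθp
    set θm := psEquiv (linS c τm) hsm0 hu2 with hθm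
    have hcong : (PowerSeries.X : PowerSeries k) ^ m ∣ θp PowerSeries.X - θm PowerSeries.X := by
      rw [hθp, hθm, psEquiv_X, psEquiv_X, linS, linS]
      obtain ⟨d, hd⟩ := hcongτ PowerSeries.X
      refine ⟨PowerSeries.C (2⁻¹ : k) * PowerSeries.C c * d, ?_⟩
      linear_combination (PowerSeries.C (2⁻¹ : k) * PowerSeries.C c) * hd
    have hconjp : ∀ p, τp (θp p) = θp (RR k c p) := by
      intro p
      have := conj_of_eq τp h0p (linS c τp) (linS c τp) hsp0 hu1 hsp0 hu1 c hcc
        (by rw [hτsp, ← mul_assoc, hCc, one_mul]) p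
      exact this
    have hconjm : ∀ p, τm (θm p) = θm (RR k c p) := by
      intro p
      have := conj_of_eq τm h0m (linS c τm) (linS c τm) hsm0 hu2 hsm0 hu2 c hcc
        (by rw [hτsm, ← mul_assoc, hCc, one_mul]) p
      exact this
    refine ⟨autB r m hrm h2 θp θm hcong, final_preserve r m hrm h2 σ hne _ c (sq_eq_one hcc) ?_ ?_⟩
    · intro z
      rw [bp_autB_symm, h1, bp_autB, hconjp, AlgEquiv.symm_apply_apply]
    · intro z
      rw [bm_autB_symm, h3, bm_autB, hconjm, AlgEquiv.symm_apply_apply]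
  · -- the branches are exchanged
    set θ' : PowerSeries k →ₐ[k] PowerSeries k := ψp.comp (ArSing.xMap k r) with hθ'
    set θ : PowerSeries k →ₐ[k] PowerSeries k := ψm.comp (ArSing.xMap k r) with hθ
    have eθ' : ∀ p, θ' p = bp r m hrm (σ (ArSing.xMap k r p)) := fun p => rfl
    have eθ : ∀ p, θ p = bm r m hrm (σ (ArSing.xMap k r p)) := fun p => rfl
    have h1 : ∀ z, bp r m hrm (σ z) = θ' (bm r m hrm z) := fun z => factor_m r m hrm ψp hpu z
    have h3 : ∀ z, bm r m hrm (σ z) = θ (bp r m hrm z) := fun z => factor_p r m hrm ψm hmv z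
    have e1 : ∀ p, θ (θ' p) = p := by
      intro p
      rw [eθ' p, ← h3, hσ, bm_xMap]
    have e2 : ∀ p, θ' (θ p) = p := by
      intro p
      rw [eθ p, ← h1, hσ, bp_xMap]
    have hcongθ : ∀ p, (PowerSeries.X : PowerSeries k) ^ m ∣ θ' p - θ p := by
      intro p
      rw [eθ', eθ]
      exact dvd_bp_sub_bm r m hrm _
    let e : PowerSeries k ≃ₐ[k] PowerSeries k :=
      AlgEquiv.ofAlgHom θ θ' (AlgHom.ext e1) (AlgHom.ext e2)
    have h0 : PowerSeries.constantCoeff (θ PowerSeries.X) = 0 := constantCoeff_algEquiv_X e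
    have h0' : PowerSeries.constantCoeff (θ' PowerSeries.X) = 0 := constantCoeff_algEquiv_X e.symm
    set c : k := PowerSeries.coeff 1 (θ PowerSeries.X) with hc
    have hc' : PowerSeries.coeff 1 (θ' PowerSeries.X) = c :=
      coeff_one_eq_of_dvd hm2 (hcongθ PowerSeries.X)
    have hcc : c * c = 1 := by
      have := coeff_one_algHom θ' h0' (θ PowerSeries.X)
      rw [e2, PowerSeries.coeff_one_X, hc'] at this
      exact this.symm
    have hCc : PowerSeries.C c * PowerSeries.C c = (1 : PowerSeries k) := by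
      rw [← map_mul, hcc, map_one]
    obtain ⟨hw0, hw1, hw⟩ := linS_props h2 θ h0 c rfl hcc
    set w := linS c θ with hwdef
    set w' := PowerSeries.C c * θ w with hw'def
    have hw'0 : PowerSeries.constantCoeff w' = 0 := by
      rw [hw'def, map_mul, constantCoeff_algHom θ h0, hw0, mul_zero]
    have hw'1 : PowerSeries.coeff 1 w' = 1 := by
      rw [hw'def, PowerSeries.coeff_C_mul, coeff_one_algHom θ h0, hw1, mul_one, hcc]
    have hu1 : IsUnit (PowerSeries.coeff 1 w) := by rw [hw1]; exact isUnit_one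
    have hu2 : IsUnit (PowerSeries.coeff 1 w') := by rw [hw'1]; exact isUnit_one
    -- `θ² ≡ id` modulo `t^m`
    have hsq : (PowerSeries.X : PowerSeries k) ^ m ∣ PowerSeries.X - θ (θ PowerSeries.X) := by
      have h5 : PowerSeries.X - θ (θ PowerSeries.X) =
          θ (θ' PowerSeries.X - θ PowerSeries.X) := by
        rw [map_sub, e1]
      rw [h5]
      exact X_pow_dvd_map m θ h0 (hcongθ PowerSeries.X)
    set ep := psEquiv w hw0 hu1 with hep
    set em := psEquiv w' hw'0 hu2 with hem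
    have hcong : (PowerSeries.X : PowerSeries k) ^ m ∣ ep PowerSeries.X - em PowerSeries.X := by
      rw [hep, hem, psEquiv_X, psEquiv_X, hw'def, hw]
      exact Dvd.dvd.mul_left hsq _
    have I1 : ∀ p, θ (ep p) = em (RR k c p) := fun p =>
      conj_of_eq θ h0 w w' hw0 hu1 hw'0 hu2 c hcc rfl p
    have I2 : ∀ p, θ' (em p) = ep (RR k c p) := by
      intro p
      have h5 := I1 (RR k c p)
      rw [Groth.Agent.Lib.T2H4.ArSingSwap.RR_RR, hcc, RR_one] at h5
      rw [← h5, e2]
    refine ⟨autB r m hrm h2 ep em hcong, final_swap r m hrm h2 σ _ c (sq_eq_one hcc) ?_ ?_⟩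
    · intro z
      rw [bp_autB_symm, h1, bm_autB, I2, AlgEquiv.symm_apply_apply]
    · intro z
      rw [bm_autB_symm, h3, bp_autB, I1, AlgEquiv.symm_apply_apply]

end Groth.Agent.Lib.T2H4.ArSingOddInv
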