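import Mathlib
import Groth.Agent.Lib.T2H4ArSingCusp
import Groth.Agent.Lib.T2H4ArSingOddInv

/-! Helper library (helper4): every non-trivial involution of `A_(2j) = k[[x,y]]/(y^2 - x^(2j+1))`
is conjugate to `(x, y) ↦ (x, -y)`. -/

set_option autoImplicit false

namespace Groth.Agent.Lib.T2H4.ArSingEvenInv

open Groth.Agent.Lib.T1H4.ArSingNF Groth.Agent.Lib.T1H4.ArSingCore Groth.Agent.Lib.T1H4.ArSingHom
  Groth.Agent.Lib.T1H4.ArSingInv Groth.Agent.Lib.T2H4.ArSingPSAut Groth.Agent.Lib.T2H4.ArSingCusp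
  Groth.Agent.Lib.T2H4.ArSingOddInv

universe u

variable {k : Type u} [Field k] (j : ℕ)

lemma exists_sqrt (P Q : PowerSeries k) (hP : P ≠ 0) (h : Q ^ 2 = P ^ (2 * j + 1)) :
    ∃ s : PowerSeries k, s ^ 2 = P ∧ s ^ (2 * j + 1) = Q := by
  have h1 : (P ^ j) ^ 2 ∣ Q ^ 2 := by
    rw [h, ← pow_mul, mul_comm j 2, pow_succ]
    exact Dvd.intro _ rfl
  obtain ⟨s, hs⟩ := (IsIntegrallyClosed.pow_dvd_pow_iff two_ne_zero).mp h1
  have hs2 : s ^ 2 = P := by
    have : P ^ (2 * j) * s ^ 2 = P ^ (2 * j) * P := by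
      rw [← pow_succ, ← h, hs]
      ring
    exact mul_left_cancel₀ (pow_ne_zero _ hP) this
  refine ⟨s, hs2, ?_⟩
  rw [pow_succ, pow_mul, hs2, hs]

lemma eq_X_of_pow (T : PowerSeries k) (h2 : T ^ 2 = PowerSeries.X ^ 2)
    (hN : T ^ (2 * j + 1) = PowerSeries.X ^ (2 * j + 1)) : T = PowerSeries.X := by
  have : (PowerSeries.X : PowerSeries k) ^ (2 * j) * T = PowerSeries.X ^ (2 * j) * PowerSeries.X := by
    calc (PowerSeries.X : PowerSeries k) ^ (2 * j) * T = (PowerSeries.X ^ 2) ^ j * T := by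
          rw [pow_mul]
      _ = (T ^ 2) ^ j * T := by rw [h2]
      _ = T ^ (2 * j + 1) := by rw [← pow_mul, pow_succ]
      _ = PowerSeries.X ^ (2 * j + 1) := hN
      _ = PowerSeries.X ^ (2 * j) * PowerSeries.X := pow_succ _ _
  exact mul_left_cancel₀ (pow_ne_zero _ PowerSeries.X_ne_zero) this

/-- an automorphism of `k[[t]]` mapping `G` into itself maps the complement of `G` into itself -/
lemma inG_of_map_inG (θ : PowerSeries k ≃ₐ[k] PowerSeries k) (hθ : ∀ f, InG j f → InG j (θ f))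
    (f : PowerSeries k) (hf : InG j (θ f)) : InG j f := by
  classical
  let L : PowerSeries k →ₗ[k] (Fin j → k) :=
    LinearMap.pi fun i => PowerSeries.coeff (R := k) (2 * (i : ℕ) + 1)
  have hL : ∀ f, InG j f ↔ f ∈ LinearMap.ker L := by
    intro f
    rw [InG, PowerSeries.X_pow_dvd_iff, LinearMap.mem_ker]
    constructor
    · intro h
      funext i
      rw [LinearMap.pi_apply]
      have := h i i.2
      rwa [coeff_od] at this
    · intro h i hi
      have := congrFun h ⟨i, hi⟩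
      rw [coeff_od]
      exact this
  have hK : LinearMap.ker L ≤ (LinearMap.ker L).comap θ.toLinearMap := fun f hf => by
    rw [Submodule.mem_comap]
    exact (hL _).mp (hθ f ((hL f).mpr hf))
  let θb : (PowerSeries k ⧸ LinearMap.ker L) →ₗ[k] (PowerSeries k ⧸ LinearMap.ker L) :=
    (LinearMap.ker L).mapQ (LinearMap.ker L) θ.toLinearMap hK
  haveI : FiniteDimensional k (PowerSeries k ⧸ LinearMap.ker L) :=
    LinearEquiv.finiteDimensional (L.quotKerEquivRange).symm
  have hsurj : Function.Surjective θb := by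
    intro q
    obtain ⟨v, rfl⟩ := (LinearMap.ker L).mkQ_surjective q
    refine ⟨(LinearMap.ker L).mkQ (θ.symm v), ?_⟩
    rw [Submodule.mkQ_apply, Submodule.mkQ_apply, Submodule.mapQ_apply]
    simp
  have hinj := LinearMap.injective_iff_surjective.mpr hsurj
  rw [hL] at hf ⊢
  have h0 : θb (Submodule.Quotient.mk f) = 0 := by
    rw [Submodule.mapQ_apply, Submodule.Quotient.mk_eq_zero]
    exact hf
  have := hinj (h0.trans (map_zero θb).symm)
  exact (Submodule.Quotient.mk_eq_zero (LinearMap.ker L)).mp this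

lemma inG_sq_lin (a b : k) (s : PowerSeries k)
    (h1 : InG j ((PowerSeries.X : PowerSeries k) * PowerSeries.X))
    (h2 : InG j (PowerSeries.X * s)) (h3 : InG j (s * s)) :
    InG j ((PowerSeries.C a * (PowerSeries.X + PowerSeries.C b * s)) ^ 2) := by
  have e : (PowerSeries.C a * (PowerSeries.X + PowerSeries.C b * s)) ^ 2 =
      PowerSeries.C a * PowerSeries.C a * (PowerSeries.X * PowerSeries.X) +
      PowerSeries.C a * PowerSeries.C a * PowerSeries.C b * (PowerSeries.X * s) +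
      PowerSeries.C a * PowerSeries.C a * PowerSeries.C b * (PowerSeries.X * s) +
      PowerSeries.C a * PowerSeries.C a * PowerSeries.C b * PowerSeries.C b * (s * s) := by
    ring
  rw [e]
  have hC := InG.C (k := k) j
  have haa : InG j (PowerSeries.C a * PowerSeries.C a) := (hC a).mul (hC a)
  have hab : InG j (PowerSeries.C a * PowerSeries.C a * PowerSeries.C b) := haa.mul (hC b)
  have habb : InG j (PowerSeries.C a * PowerSeries.C a * PowerSeries.C b * PowerSeries.C b) :=
    hab.mul (hC b)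
  exact (((haa.mul h1).add (hab.mul h2)).add (hab.mul h2)).add (habb.mul h3)

/-- `t·s ∈ G` when `s = t·(unit)` and `s² ∈ G` -/
lemma inG_X_mul (h2 : (2 : k) ≠ 0) (s : PowerSeries k) (hs0 : PowerSeries.constantCoeff s = 0)
    (hs1 : PowerSeries.coeff 1 s ≠ 0) (hss : InG j (s * s)) : InG j (PowerSeries.X * s) := by
  obtain ⟨g, hg⟩ := PowerSeries.X_dvd_iff.mpr hs0
  have hg0 : PowerSeries.constantCoeff g ≠ 0 := by
    rw [hg, PowerSeries.coeff_succ_X_mul, PowerSeries.coeff_zero_eq_constantCoeff_apply] at hs1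
    exact hs1
  have hu : IsUnit (PowerSeries.C (2 : k) * ev k g) := by
    rw [PowerSeries.isUnit_iff_constantCoeff, map_mul, PowerSeries.constantCoeff_C, constantCoeff_ev]
    exact isUnit_iff_ne_zero.mpr (mul_ne_zero h2 hg0)
  have e1 : s * s = PowerSeries.X ^ 2 * (g * g) := by rw [hg]; ring
  rw [e1, InG, od_X_sq_mul, od_mul] at hss
  have e2 : PowerSeries.X * (ev k g * od k g + od k g * ev k g) =
      (PowerSeries.C (2 : k) * ev k g) * (PowerSeries.X * od k g) := by
    rw [map_ofNat]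
    ring
  rw [e2, hu.dvd_mul_left] at hss
  have e3 : PowerSeries.X * s = PowerSeries.X ^ 2 * g := by rw [hg]; ring
  rw [e3, InG, od_X_sq_mul]
  exact hss

theorem main (h2 : (2 : k) ≠ 0)
    (σ : ArSing.ring k (2 * j) ≃ₐ[k] ArSing.ring k (2 * j)) (hσ : ∀ a, σ (σ a) = a)
    (hne : σ ≠ AlgEquiv.refl) :
    ∃ φ : ArSing.ring k (2 * j) ≃ₐ[k] ArSing.ring k (2 * j),
      φ.symm (σ (φ (ArSing.x k (2 * j)))) = ArSing.x k (2 * j) ∧
      φ.symm (σ (φ (ArSing.y k (2 * j)))) = -ArSing.y k (2 * j) := by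
  have hrel : (ν j (σ (ArSing.y k (2 * j)))) ^ 2 = (ν j (σ (ArSing.x k (2 * j)))) ^ (2 * j + 1) := by
    have hy : ArSing.y k (2 * j) ^ 2 = ArSing.x k (2 * j) ^ (2 * j + 1) := by
      rw [pow_two, y_sq, map_pow, xMap_X]
    have := congrArg (fun z => ν j (σ z)) hy
    simp only [map_pow] at this
    exact this
  have hx_ne : ArSing.x k (2 * j) ≠ 0 := by
    intro h
    have := congrArg (ν j) h
    rw [ν_x, map_zero] at this
    exact pow_ne_zero _ PowerSeries.X_ne_zero this
  have hP_ne : ν j (σ (ArSing.x k (2 * j))) ≠ 0 := by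
    intro h
    rw [← map_zero (ν j)] at h
    have h' := ν_injective j h
    rw [← map_zero σ] at h'
    exact hx_ne (σ.injective h')
  obtain ⟨s, hs2, hsN⟩ := exists_sqrt j _ _ hP_ne hrel
  have haugx : aug k (2 * j) (σ (ArSing.x k (2 * j))) = 0 := by
    by_contra h
    have hu := (isUnit_iff k (2 * j) _).mpr h
    have hu' := hu.map σ
    rw [hσ] at hu'
    have := (isUnit_iff k (2 * j) _).mp hu'
    rw [aug_apply, cA_x, PowerSeries.constantCoeff_X] at this
    exact this rfl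
  have hs0 : PowerSeries.constantCoeff s = 0 := by
    have : PowerSeries.constantCoeff (s ^ 2) = 0 := by rw [hs2, constantCoeff_ν, haugx]
    rw [map_pow] at this
    exact (pow_eq_zero_iff two_ne_zero).mp this
  obtain ⟨τ, hτdef⟩ : ∃ τ : PowerSeries k →ₐ[k] PowerSeries k, τ = subA s hs0 := ⟨_, rfl⟩
  have hτX : τ PowerSeries.X = s := by rw [hτdef, subA_X]
  have hτν : ∀ z, τ (ν j z) = ν j (σ z) := by
    have : τ.comp (ν j) =
        (ν j).comp (σ : ArSing.ring k (2 * j) →ₐ[k] ArSing.ring k (2 * j)) := by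
      apply to_ps_algHom_ext
      · rw [AlgHom.comp_apply, ν_x, map_pow, hτX, hs2]
        rfl
      · rw [AlgHom.comp_apply, ν_y, map_pow, hτX, hsN]
        rfl
      · rw [AlgHom.comp_apply, ν_x, map_pow, hτX, map_pow, hs0, zero_pow two_ne_zero]
    exact fun z => DFunLike.congr_fun this z
  have hττX : τ (τ PowerSeries.X) = PowerSeries.X := by
    apply eq_X_of_pow j
    · rw [← map_pow, ← map_pow, ← ν_x j, hτν, hτν, hσ]
    · rw [← map_pow, ← map_pow, ← ν_y j, hτν, hτν, hσ]
  have hτ2 : ∀ p, τ (τ p) = p := by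
    have : τ.comp τ = AlgHom.id k (PowerSeries k) := by
      apply ps_algHom_ext
      · rw [AlgHom.comp_apply, hττX, AlgHom.id_apply]
      · rw [AlgHom.comp_apply, hττX, PowerSeries.constantCoeff_X]
    exact fun p => DFunLike.congr_fun this p
  have h0 : PowerSeries.constantCoeff (τ PowerSeries.X) = 0 := by rw [hτX, hs0]
  obtain ⟨c, hc⟩ : ∃ c : k, PowerSeries.coeff 1 (τ PowerSeries.X) = c := ⟨_, rfl⟩
  have hcc : c * c = 1 := by
    have := coeff_one_algHom τ h0 (τ PowerSeries.X)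
    rw [hτ2, PowerSeries.coeff_one_X, hc] at this
    exact this.symm
  obtain ⟨hw0, hw1, hw⟩ := linS_props h2 τ h0 c hc hcc
  rw [hτ2, sub_self, mul_zero] at hw
  have hCc : PowerSeries.C c * PowerSeries.C c = (1 : PowerSeries k) := by
    rw [← map_mul, hcc, map_one]
  have hτw : τ (linS c τ) = PowerSeries.C c * linS c τ := by
    linear_combination (-(PowerSeries.C c)) * hw - (τ (linS c τ)) * hCc
  have hu1 : IsUnit (PowerSeries.coeff 1 (linS c τ)) := by rw [hw1]; exact isUnit_one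
  obtain ⟨θ, hθdef⟩ : ∃ θ : PowerSeries k ≃ₐ[k] PowerSeries k, θ = psEquiv (linS c τ) hw0 hu1 :=
    ⟨_, rfl⟩
  have hθX : θ PowerSeries.X = linS c τ := by rw [hθdef, psEquiv_X]
  have hconj : ∀ p, τ (θ p) = θ (RR k c p) := by
    intro p
    rw [hθdef]
    exact conj_of_eq τ h0 (linS c τ) (linS c τ) hw0 hu1 hw0 hu1 c hcc
      (by rw [hτw, ← mul_assoc, hCc, one_mul]) p
  rcases sq_eq_one hcc with rfl | rfl
  · exfalso
    apply hne
    apply AlgEquiv.ext
    intro z
    apply ν_injective j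
    rw [← hτν]
    have := hconj (θ.symm (ν j z))
    rw [RR_one, AlgEquiv.apply_symm_apply] at this
    exact this
  · -- `c = -1`
    set w : PowerSeries k := linS (-1) τ with hwdef
    have hXw : (PowerSeries.X : PowerSeries k) ∣ w := PowerSeries.X_dvd_iff.mpr hw0
    have hs1 : PowerSeries.coeff 1 s ≠ 0 := by
      rw [← hτX, hc]
      exact neg_ne_zero.mpr one_ne_zero
    have hG1 : InG j ((PowerSeries.X : PowerSeries k) * PowerSeries.X) := by
      rw [← pow_two, ← ν_x j]
      exact inG_ν j _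
    have hG3 : InG j (s * s) := by
      rw [← pow_two, hs2]
      exact inG_ν j _
    have hG2 : InG j (PowerSeries.X * s) := inG_X_mul j h2 s hs0 hs1 hG3
    have hwG : InG j (w ^ 2) := by
      rw [hwdef, linS, hτX]
      exact inG_sq_lin j _ _ s hG1 hG2 hG3
    have hw20 : PowerSeries.constantCoeff (w ^ 2) = 0 := by
      rw [map_pow, hw0, zero_pow two_ne_zero]
    have hX2 : (PowerSeries.X : PowerSeries k) ^ 2 ∣ w ^ 2 := pow_dvd_pow_of_dvd hXw 2
    have hθEE : ∀ a, θ (EE k a) = subA (w ^ 2) hw20 a := by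
      have : (θ : PowerSeries k →ₐ[k] PowerSeries k).comp (EE k) = subA (w ^ 2) hw20 := by
        apply ps_algHom_ext
        · rw [AlgHom.comp_apply, EE_X, map_pow, AlgEquiv.coe_toAlgHom, hθX, subA_X]
        · rw [AlgHom.comp_apply, EE_X, map_pow, AlgEquiv.coe_toAlgHom, hθX, hw20]
      exact fun a => DFunLike.congr_fun this a
    have hθG : ∀ z, InG j (θ (ν j z)) := by
      intro z
      obtain ⟨h, hh⟩ := hXw
      have hpow : w ^ (2 * j + 1) = PowerSeries.X ^ (2 * j + 1) * h ^ (2 * j + 1) := by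
        rw [hh, mul_pow]
      rw [ν_apply, map_add, map_mul, map_pow, hθX, hθEE, hθEE, hpow, mul_assoc]
      exact (inG_subA (w ^ 2) hw20 hwG hX2 _).add (InG.X_pow_odd_mul j _)
    have hθG' : ∀ f, InG j f → InG j (θ f) := by
      intro f hf
      obtain ⟨z, rfl⟩ := exists_of_inG j hf
      exact hθG z
    have hθsG : ∀ z, InG j (θ.symm (ν j z)) := by
      intro z
      apply inG_of_map_inG j θ hθG'
      rw [AlgEquiv.apply_symm_apply]
      exact inG_ν j z
    set Φ₁ := liftN j ((θ : PowerSeries k →ₐ[k] PowerSeries k).comp (ν j)) hθG with hΦ₁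
    set Φ₂ := liftN j ((θ.symm : PowerSeries k →ₐ[k] PowerSeries k).comp (ν j)) hθsG with hΦ₂
    have e1 : ∀ z, ν j (Φ₁ z) = θ (ν j z) := fun z => ν_liftN j _ hθG z
    have e2 : ∀ z, ν j (Φ₂ z) = θ.symm (ν j z) := fun z => ν_liftN j _ hθsG z
    have h12 : Φ₁.comp Φ₂ = AlgHom.id k _ := by
      apply AlgHom.ext
      intro z
      apply ν_injective j
      rw [AlgHom.comp_apply, e1, e2, AlgEquiv.apply_symm_apply, AlgHom.id_apply]
    have h21 : Φ₂.comp Φ₁ = AlgHom.id k _ := by
      apply AlgHom.ext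
      intro z
      apply ν_injective j
      rw [AlgHom.comp_apply, e2, e1, AlgEquiv.symm_apply_apply, AlgHom.id_apply]
    have key : ∀ z, ν j (Φ₂ (σ (Φ₁ z))) = RR k (-1) (ν j z) := by
      intro z
      rw [e2, ← hτν, e1, hconj, AlgEquiv.symm_apply_apply]
    refine ⟨AlgEquiv.ofAlgHom Φ₁ Φ₂ h12 h21, ?_, ?_⟩
    · apply ν_injective j
      change ν j (Φ₂ (σ (Φ₁ _))) = _
      rw [key, ν_x, RR_neg_one_X_pow, neg_sq]
    · apply ν_injective j
      change ν j (Φ₂ (σ (Φ₁ _))) = _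
      rw [key, ν_y, RR_neg_one_X_pow, map_neg, ν_y, Odd.neg_pow ⟨j, rfl⟩]

end Groth.Agent.Lib.T2H4.ArSingEvenInv
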