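import Mathlib

/-! Helper library (helper4): polynomial calculus for the Hessian criterion of `A_n`-singularities.
Chain rule for `MvPolynomial.aeval`, low order coefficients as derivatives at `0`, translation to a
point and the shear `x ↦ x + t y`. -/

set_option autoImplicit false

namespace Groth.Agent.Lib.T2H4.ArSingHessA

open MvPolynomial

universe u

variable {k : Type u} [Field k]

lemma eval_aeval' (x : Fin 2 → k) (b : Fin 2 → MvPolynomial (Fin 2) k)
    (h : MvPolynomial (Fin 2) k) :
    eval x (aeval b h) = eval (fun i => eval x (b i)) h := by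
  induction h using MvPolynomial.induction_on with
  | C c => simp
  | add p q hp hq => simp only [map_add, hp, hq]
  | mul_X p j hp => simp only [map_mul, aeval_X, eval_X, hp]

/-- chain rule -/
lemma pderiv_aeval (b : Fin 2 → MvPolynomial (Fin 2) k) (h : MvPolynomial (Fin 2) k) (i : Fin 2) :
    pderiv i (aeval b h) = ∑ j, aeval b (pderiv j h) * pderiv i (b j) := by
  induction h using MvPolynomial.induction_on with
  | C c => simp
  | add p q hp hq =>
    simp only [map_add, hp, hq, add_mul, Finset.sum_add_distrib]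
  | mul_X p j0 hp =>
    simp only [map_mul, aeval_X, Derivation.leibniz, smul_eq_mul, hp, pderiv_X, map_add]
    simp only [Fin.sum_univ_two]
    fin_cases j0 <;> simp [Pi.single_apply] <;> ring

lemma coeff_zero_eq (h : MvPolynomial (Fin 2) k) : coeff 0 h = eval 0 h := by
  rw [eval_zero, constantCoeff_eq]

lemma coeff_single_eq (h : MvPolynomial (Fin 2) k) (i : Fin 2) :
    coeff (Finsupp.single i 1) h = eval 0 (pderiv i h) := by
  rw [← coeff_zero_eq, coeff_pderiv]
  simp

lemma eval_zero_pderiv_pderiv (h : MvPolynomial (Fin 2) k) (i j : Fin 2) :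
    eval 0 (pderiv j (pderiv i h)) =
      coeff (Finsupp.single j 1 + Finsupp.single i 1) h *
        (((Finsupp.single j 1 : Fin 2 →₀ ℕ) i : k) + 1) := by
  rw [← coeff_single_eq, coeff_pderiv]

/-- recentring at `a` -/
noncomputable def tau (a : Fin 2 → k) : MvPolynomial (Fin 2) k →ₐ[k] MvPolynomial (Fin 2) k :=
  aeval (fun i => X i + C (a i))

lemma eval_zero_tau (a : Fin 2 → k) (h : MvPolynomial (Fin 2) k) :
    eval 0 (tau a h) = eval a h := by
  rw [tau, eval_aeval']
  have : (fun i => eval (0 : Fin 2 → k) (X i + C (a i))) = a := by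
    funext i
    simp
  rw [this]

lemma pderiv_tau (a : Fin 2 → k) (h : MvPolynomial (Fin 2) k) (i : Fin 2) :
    pderiv i (tau a h) = tau a (pderiv i h) := by
  rw [tau, pderiv_aeval, Fin.sum_univ_two]
  fin_cases i <;> simp [pderiv_X, Pi.single_apply]

lemma eval_eq (a : Fin 2 → k) (f : MvPolynomial (Fin 2) k) :
    eval a f = coeff 0 (tau a f) := by
  rw [coeff_zero_eq, eval_zero_tau]

lemma eval_pderiv_eq (a : Fin 2 → k) (f : MvPolynomial (Fin 2) k) (i : Fin 2) :
    eval a (pderiv i f) = coeff (Finsupp.single i 1) (tau a f) := by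
  rw [coeff_single_eq, pderiv_tau, eval_zero_tau]

lemma eval_pderiv_pderiv_eq (a : Fin 2 → k) (f : MvPolynomial (Fin 2) k) (i j : Fin 2) :
    eval a (pderiv j (pderiv i f)) =
      coeff (Finsupp.single j 1 + Finsupp.single i 1) (tau a f) *
        (((Finsupp.single j 1 : Fin 2 →₀ ℕ) i : k) + 1) := by
  rw [← eval_zero_pderiv_pderiv, pderiv_tau, pderiv_tau, eval_zero_tau]


lemma single_add_self (i : Fin 2) :
    (Finsupp.single i 1 + Finsupp.single i 1 : Fin 2 →₀ ℕ) = Finsupp.single i 2 := by
  rw [← Finsupp.single_add]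

/-- the Hessian condition in terms of the low order coefficients of the recentred polynomial -/
lemma hess_iff (h2 : (2 : k) ≠ 0) (a : Fin 2 → k) (f : MvPolynomial (Fin 2) k) :
    ((∀ i : Fin 2, eval a (pderiv i f) = 0) ∧
      ∀ i j : Fin 2, eval a (pderiv i (pderiv j f)) = 0) ↔
    (coeff (Finsupp.single 0 1) (tau a f) = 0 ∧ coeff (Finsupp.single 1 1) (tau a f) = 0 ∧
     coeff (Finsupp.single 0 2) (tau a f) = 0 ∧
     coeff (Finsupp.single 0 1 + Finsupp.single 1 1) (tau a f) = 0 ∧
     coeff (Finsupp.single 1 2) (tau a f) = 0) := by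
  have e3 : (Finsupp.single 1 1 + Finsupp.single 0 1 : Fin 2 →₀ ℕ) =
      Finsupp.single 0 1 + Finsupp.single 1 1 := add_comm _ _
  have e4 : ((1 : k) + 1) = 2 := one_add_one_eq_two
  simp only [eval_pderiv_pderiv_eq]
  simp only [eval_pderiv_eq, Fin.forall_fin_two, single_add_self, e3,
    Finsupp.single_apply, if_true, Nat.cast_one, e4, mul_eq_zero, h2, or_false,
    show ((0 : Fin 2) = 1) = False from by simp, show ((1 : Fin 2) = 0) = False from by simp,
    if_false, Nat.cast_zero, zero_add, one_ne_zero]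
  tauto

/-- the shear `x ↦ x + t y`, `y ↦ y` -/
noncomputable def shear (t : k) : Fin 2 → MvPolynomial (Fin 2) k :=
  ![X 0 + C t * X 1, X 1]

lemma eval_zero_shear (t : k) (h : MvPolynomial (Fin 2) k) :
    eval 0 (aeval (shear t) h) = eval 0 h := by
  rw [eval_aeval']
  have : (fun i => eval (0 : Fin 2 → k) (shear t i)) = 0 := by
    funext i
    fin_cases i <;> simp [shear]
  rw [this]

lemma pderiv_one_shear (t : k) (h : MvPolynomial (Fin 2) k) :
    pderiv 1 (aeval (shear t) h) =
      C t * aeval (shear t) (pderiv 0 h) + aeval (shear t) (pderiv 1 h) := by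
  rw [pderiv_aeval, Fin.sum_univ_two]
  simp [shear, pderiv_X, Pi.single_apply]
  ring

lemma coeff_zero_shear (t : k) (g : MvPolynomial (Fin 2) k) :
    coeff 0 (aeval (shear t) g) = coeff 0 g := by
  rw [coeff_zero_eq, coeff_zero_eq, eval_zero_shear]

lemma coeff_01_shear (t : k) (g : MvPolynomial (Fin 2) k) :
    coeff (Finsupp.single 1 1) (aeval (shear t) g) =
      t * coeff (Finsupp.single 0 1) g + coeff (Finsupp.single 1 1) g := by
  rw [coeff_single_eq, pderiv_one_shear, map_add, map_mul, eval_C, eval_zero_shear,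
    eval_zero_shear, ← coeff_single_eq, ← coeff_single_eq]

lemma coeff_02_shear (h2 : (2 : k) ≠ 0) (t : k) (g : MvPolynomial (Fin 2) k) :
    coeff (Finsupp.single 1 2) (aeval (shear t) g) =
      t ^ 2 * coeff (Finsupp.single 0 2) g +
        t * coeff (Finsupp.single 0 1 + Finsupp.single 1 1) g + coeff (Finsupp.single 1 2) g := by
  have key : eval 0 (pderiv 1 (pderiv 1 (aeval (shear t) g))) =
      t ^ 2 * eval 0 (pderiv 0 (pderiv 0 g)) + t * eval 0 (pderiv 1 (pderiv 0 g)) +
        t * eval 0 (pderiv 0 (pderiv 1 g)) + eval 0 (pderiv 1 (pderiv 1 g)) := by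
    rw [pderiv_one_shear, map_add, pderiv_C_mul, pderiv_one_shear, pderiv_one_shear]
    simp only [map_add, map_mul, eval_C, eval_zero_shear]
    ring
  have e3 : (Finsupp.single 1 1 + Finsupp.single 0 1 : Fin 2 →₀ ℕ) =
      Finsupp.single 0 1 + Finsupp.single 1 1 := add_comm _ _
  have e4 : ((1 : k) + 1) = 2 := one_add_one_eq_two
  simp only [eval_zero_pderiv_pderiv, single_add_self, e3,
    Finsupp.single_apply, if_true, Nat.cast_one, e4,
    show ((0 : Fin 2) = 1) = False from by simp, show ((1 : Fin 2) = 0) = False from by simp,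
    if_false, Nat.cast_zero, zero_add, mul_one] at key
  have : (coeff (Finsupp.single 1 2) (aeval (shear t) g)) * 2 =
      (t ^ 2 * coeff (Finsupp.single 0 2) g +
        t * coeff (Finsupp.single 0 1 + Finsupp.single 1 1) g +
          coeff (Finsupp.single 1 2) g) * 2 := by
    rw [key]
    ring
  exact mul_right_cancel₀ h2 this

lemma exists_shear (h2 : (2 : k) ≠ 0) (g : MvPolynomial (Fin 2) k)
    (hne : ¬ (coeff (Finsupp.single 0 1) g = 0 ∧ coeff (Finsupp.single 1 1) g = 0 ∧
      coeff (Finsupp.single 0 2) g = 0 ∧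
      coeff (Finsupp.single 0 1 + Finsupp.single 1 1) g = 0 ∧
      coeff (Finsupp.single 1 2) g = 0)) :
    ∃ t : k, coeff (Finsupp.single 1 1) (aeval (shear t) g) ≠ 0 ∨
      (coeff (Finsupp.single 1 1) (aeval (shear t) g) = 0 ∧
        coeff (Finsupp.single 1 2) (aeval (shear t) g) ≠ 0) := by
  simp only [coeff_01_shear, coeff_02_shear h2]
  obtain ⟨c10, h10⟩ : ∃ c, coeff (Finsupp.single 0 1) g = c := ⟨_, rfl⟩
  obtain ⟨c01, h01⟩ : ∃ c, coeff (Finsupp.single 1 1) g = c := ⟨_, rfl⟩
  obtain ⟨c20, h20⟩ : ∃ c, coeff (Finsupp.single 0 2) g = c := ⟨_, rfl⟩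
  obtain ⟨c11, h11⟩ : ∃ c, coeff (Finsupp.single 0 1 + Finsupp.single 1 1) g = c := ⟨_, rfl⟩
  obtain ⟨c02, h02⟩ : ∃ c, coeff (Finsupp.single 1 2) g = c := ⟨_, rfl⟩
  rw [h10, h01, h20, h11, h02] at hne
  rw [h10, h01, h20, h11, h02]
  by_cases a01 : c01 = 0
  · by_cases a10 : c10 = 0
    · subst a01 a10
      by_cases a02 : c02 = 0
      · subst a02
        by_cases a1 : c20 + c11 = 0
        · refine ⟨-1, Or.inr ⟨by ring, ?_⟩⟩
          have hc11 : c11 = -c20 := by linear_combination a1
          subst hc11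
          have h20' : c20 ≠ 0 := by
            rintro rfl
            apply hne
            simp
          have : (-1 : k) ^ 2 * c20 + -1 * -c20 + 0 = 2 * c20 := by ring
          rw [this]
          exact mul_ne_zero h2 h20'
        · refine ⟨1, Or.inr ⟨by ring, ?_⟩⟩
          have : (1 : k) ^ 2 * c20 + 1 * c11 + 0 = c20 + c11 := by ring
          rw [this]
          exact a1
      · refine ⟨0, Or.inr ⟨by ring, ?_⟩⟩
        have : (0 : k) ^ 2 * c20 + 0 * c11 + c02 = c02 := by ring
        rw [this]
        exact a02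
    · refine ⟨1, Or.inl ?_⟩
      subst a01
      have : (1 : k) * c10 + 0 = c10 := by ring
      rw [this]
      exact a10
  · refine ⟨0, Or.inl ?_⟩
    have : (0 : k) * c10 + c01 = c01 := by ring
    rw [this]
    exact a01


section PS

/-- the shear as a family of power series -/
noncomputable def shearPS (t : k) : Fin 2 → MvPowerSeries (Fin 2) k :=
  ![MvPowerSeries.X 0 + MvPowerSeries.C t * MvPowerSeries.X 1, MvPowerSeries.X 1]

lemma hasSubst_shearPS (t : k) : MvPowerSeries.HasSubst (shearPS t) :=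
  MvPowerSeries.hasSubst_of_constantCoeff_zero (fun i => by
    fin_cases i <;> simp [shearPS])

lemma subst_shear_shear (t : k) (p : MvPowerSeries (Fin 2) k) :
    MvPowerSeries.subst (shearPS (-t)) (MvPowerSeries.subst (shearPS t) p) = p := by
  rw [MvPowerSeries.subst_comp_subst_apply (hasSubst_shearPS t) (hasSubst_shearPS (-t))]
  have hb := hasSubst_shearPS (k := k) (-t)
  have : (fun s => MvPowerSeries.subst (shearPS (-t)) (shearPS t s)) =
      (MvPowerSeries.X : Fin 2 → MvPowerSeries (Fin 2) k) := by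
    funext s
    fin_cases s
    · show MvPowerSeries.subst (shearPS (-t))
        (MvPowerSeries.X 0 + MvPowerSeries.C t * MvPowerSeries.X 1) = MvPowerSeries.X 0
      rw [MvPowerSeries.subst_add hb, MvPowerSeries.subst_mul hb, MvPowerSeries.subst_X hb,
        MvPowerSeries.subst_X hb, MvPowerSeries.subst_C]
      show (MvPowerSeries.X 0 + MvPowerSeries.C (-t) * MvPowerSeries.X 1) +
        MvPowerSeries.C t * MvPowerSeries.X 1 = MvPowerSeries.X 0
      rw [map_neg]
      ring
    · show MvPowerSeries.subst (shearPS (-t)) (MvPowerSeries.X 1) = MvPowerSeries.X 1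
      rw [MvPowerSeries.subst_X hb]
      rfl
  rw [this, MvPowerSeries.subst_self]
  rfl

/-- the shear automorphism of `k[[x,y]]` -/
noncomputable def Phi (t : k) : MvPowerSeries (Fin 2) k ≃ₐ[k] MvPowerSeries (Fin 2) k :=
  AlgEquiv.ofAlgHom (MvPowerSeries.substAlgHom (hasSubst_shearPS t))
    (MvPowerSeries.substAlgHom (hasSubst_shearPS (-t)))
    (by
      ext p : 1
      simp only [AlgHom.comp_apply, MvPowerSeries.substAlgHom_apply, AlgHom.id_apply]
      have := subst_shear_shear (-t) p
      rwa [neg_neg] at this)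
    (by
      ext p : 1
      simp only [AlgHom.comp_apply, MvPowerSeries.substAlgHom_apply, AlgHom.id_apply]
      exact subst_shear_shear t p)

lemma aeval_shearPS (t : k) (g : MvPolynomial (Fin 2) k) :
    MvPolynomial.aeval (shearPS t) g =
      ((MvPolynomial.aeval (shear t) g : MvPolynomial (Fin 2) k) : MvPowerSeries (Fin 2) k) := by
  induction g using MvPolynomial.induction_on with
  | C c =>
    simp only [MvPolynomial.aeval_C, MvPolynomial.algebraMap_eq, MvPolynomial.coe_C]
    rfl
  | add p q hp hq => simp only [map_add, hp, hq, MvPolynomial.coe_add]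
  | mul_X p j hp =>
    simp only [map_mul, hp, MvPolynomial.aeval_X, MvPolynomial.coe_mul]
    congr 1
    fin_cases j <;> simp [shearPS, shear]

lemma Phi_coe (t : k) (g : MvPolynomial (Fin 2) k) :
    Phi t (g : MvPowerSeries (Fin 2) k) =
      ((MvPolynomial.aeval (shear t) g : MvPolynomial (Fin 2) k) : MvPowerSeries (Fin 2) k) := by
  rw [← aeval_shearPS]
  exact MvPowerSeries.substAlgHom_coe (hasSubst_shearPS t) g

end PS

end Groth.Agent.Lib.T2H4.ArSingHessA
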