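import Mathlib
import Groth.Prelude.Def_W4c1arstab1appArSing

/-! Helper library (helper4): an isomorphism invariant separating `k[[x,y]]/(F)` with
`F ∈ (x,y)^3` from the `A_n`-singularities and the double line: whether the square of the
maximal ideal can be generated by two elements. -/

set_option autoImplicit false

namespace Groth.Agent.Lib.T2H4.ArSingHessB

open MvPowerSeries

universe u

variable {k : Type u} [Field k]

/-- all coefficients in total degree `< j` vanish -/
def Ord (j : ℕ) (p : MvPowerSeries (Fin 2) k) : Prop :=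
  ∀ e : Fin 2 →₀ ℕ, e 0 + e 1 < j → coeff e p = 0

lemma Ord.mul {i j : ℕ} {p q : MvPowerSeries (Fin 2) k} (hp : Ord i p) (hq : Ord j q) :
    Ord (i + j) (p * q) := by
  classical
  intro e he
  rw [coeff_mul]
  apply Finset.sum_eq_zero
  rintro ⟨e1, e2⟩ h12
  rw [Finset.HasAntidiagonal.mem_antidiagonal] at h12
  by_cases h1 : e1 0 + e1 1 < i
  · rw [hp e1 h1, zero_mul]
  · have : e2 0 + e2 1 < j := by
      have h0 := DFunLike.congr_fun h12 0
      have h1' := DFunLike.congr_fun h12 1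
      simp only [Finsupp.add_apply] at h0 h1'
      omega
    rw [hq e2 this, mul_zero]

lemma Ord.zero (p : MvPowerSeries (Fin 2) k) : Ord 0 p := fun _ he => absurd he (Nat.not_lt_zero _)

lemma Ord.mono {i j : ℕ} {p : MvPowerSeries (Fin 2) k} (hij : i ≤ j) (hp : Ord j p) : Ord i p :=
  fun e he => hp e (lt_of_lt_of_le he hij)

lemma ord_one_iff (p : MvPowerSeries (Fin 2) k) : Ord 1 p ↔ constantCoeff p = 0 := by
  constructor
  · intro h
    have := h 0 (by simp)
    rwa [coeff_zero_eq_constantCoeff_apply] at this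
  · intro h e he
    have : e = 0 := by
      ext i
      fin_cases i
      · show e 0 = 0
        omega
      · show e 1 = 0
        omega
    rw [this, coeff_zero_eq_constantCoeff_apply]
    exact h

/-- the ideal of series of order `≥ j` -/
def ordIdeal (j : ℕ) : Ideal (MvPowerSeries (Fin 2) k) where
  carrier := {p | Ord j p}
  add_mem' := by
    intro p q hp hq e he
    rw [map_add, hp e he, hq e he, add_zero]
  zero_mem' := by
    intro e _
    exact map_zero _
  smul_mem' := by
    intro c p hp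
    have := (Ord.zero c).mul hp
    rwa [zero_add] at this

lemma mem_ordIdeal {j : ℕ} {p : MvPowerSeries (Fin 2) k} : p ∈ ordIdeal j ↔ Ord j p := Iff.rfl

lemma coeff_mul_of_ord {j : ℕ} {q : MvPowerSeries (Fin 2) k} (hq : Ord j q)
    (p : MvPowerSeries (Fin 2) k) (e : Fin 2 →₀ ℕ) (he : e 0 + e 1 = j) :
    coeff e (p * q) = constantCoeff p * coeff e q := by
  have hp' : Ord 1 (p - C (constantCoeff p)) := (ord_one_iff _).mpr (by simp)
  have : p * q = C (constantCoeff p) * q + (p - C (constantCoeff p)) * q := by ring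
  rw [this, map_add, coeff_C_mul, (hp'.mul hq) e (by omega), add_zero]

lemma coeff_mul_of_ord_lt {j : ℕ} {q : MvPowerSeries (Fin 2) k} (hq : Ord j q)
    (p : MvPowerSeries (Fin 2) k) (e : Fin 2 →₀ ℕ) (he : e 0 + e 1 < j) :
    coeff e (p * q) = 0 := by
  have := (Ord.zero p).mul hq
  rw [zero_add] at this
  exact this e he

/-- a series without constant term is a combination of the variables -/
lemma exists_decomp (p : MvPowerSeries (Fin 2) k) (hp : constantCoeff p = 0) :
    ∃ p1 p2 : MvPowerSeries (Fin 2) k, p = X 0 * p1 + X 1 * p2 := by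
  classical
  let p' : MvPowerSeries (Fin 2) k := fun e => if e 0 = 0 then 0 else coeff e p
  have h1 : (X 0 : MvPowerSeries (Fin 2) k) ∣ p' := by
    rw [X_dvd_iff]
    intro m hm
    show (if m 0 = 0 then 0 else coeff m p) = 0
    rw [if_pos hm]
  have h2 : (X 1 : MvPowerSeries (Fin 2) k) ∣ p - p' := by
    rw [X_dvd_iff]
    intro m hm
    rw [map_sub]
    show coeff m p - (if m 0 = 0 then 0 else coeff m p) = 0
    split_ifs with h0
    · have : m = 0 := by
        ext i
        fin_cases i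
        · exact h0
        · exact hm
      rw [this, sub_zero, coeff_zero_eq_constantCoeff_apply]
      exact hp
    · exact sub_self _
  obtain ⟨q1, hq1⟩ := h1
  obtain ⟨q2, hq2⟩ := h2
  exact ⟨q1, q2, by rw [← hq1, ← hq2]; ring⟩

lemma isUnit_mk_iff (H : MvPowerSeries (Fin 2) k) (hH : constantCoeff H = 0)
    (p : MvPowerSeries (Fin 2) k) :
    IsUnit (Ideal.Quotient.mk (Ideal.span {H}) p) ↔ constantCoeff p ≠ 0 := by
  constructor
  · intro hu h0
    obtain ⟨q', hq'⟩ := hu.exists_right_inv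
    obtain ⟨q, rfl⟩ := Ideal.Quotient.mk_surjective q'
    rw [← map_mul, ← map_one (Ideal.Quotient.mk _), Ideal.Quotient.eq,
      Ideal.mem_span_singleton] at hq'
    obtain ⟨r, hr⟩ := hq'
    have := congrArg constantCoeff hr
    simp [h0, hH] at this
  · intro h
    exact (isUnit_iff_constantCoeff.mpr (isUnit_iff_ne_zero.mpr h)).map _

/-- the ideal generated by products of two nonunits (the square of the maximal ideal, for a
local ring) -/
def sqI (R : Type*) [CommRing R] : Ideal R :=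
  Ideal.span {b | ∃ u v : R, ¬ IsUnit u ∧ ¬ IsUnit v ∧ b = u * v}

/-- the square of the maximal ideal is generated by two of its elements -/
def TwoGen (R : Type*) [CommRing R] : Prop :=
  ∃ g1 g2 : R, g1 ∈ sqI R ∧ g2 ∈ sqI R ∧ sqI R ≤ Ideal.span {g1, g2}

lemma mem_sqI_of_equiv {R S : Type*} [CommRing R] [CommRing S] (e : R ≃+* S) {b : R}
    (hb : b ∈ sqI R) : e b ∈ sqI S := by
  have hle : sqI R ≤ (sqI S).comap (e : R →+* S) := by
    rw [sqI, Ideal.span_le]
    rintro _ ⟨u, v, hu, hv, rfl⟩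
    show (e : R →+* S) (u * v) ∈ sqI S
    apply Ideal.subset_span
    refine ⟨e u, e v, fun h => hu ?_, fun h => hv ?_, by simp⟩
    · have := h.map e.symm
      rwa [e.symm_apply_apply] at this
    · have := h.map e.symm
      rwa [e.symm_apply_apply] at this
  exact hle hb

lemma TwoGen.of_equiv {R S : Type*} [CommRing R] [CommRing S] (e : R ≃+* S) (h : TwoGen S) :
    TwoGen R := by
  obtain ⟨g1, g2, h1, h2, hle⟩ := h
  refine ⟨e.symm g1, e.symm g2, mem_sqI_of_equiv e.symm h1, mem_sqI_of_equiv e.symm h2, ?_⟩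
  intro b hb
  have := hle (mem_sqI_of_equiv e hb)
  rw [Ideal.mem_span_pair] at this ⊢
  obtain ⟨a1, a2, h⟩ := this
  refine ⟨e.symm a1, e.symm a2, ?_⟩
  apply e.injective
  simp [h]


section Quot

variable (H : MvPowerSeries (Fin 2) k) (hH : constantCoeff H = 0)
include hH

lemma mk_mul_mem_sqI (u v : MvPowerSeries (Fin 2) k) (hu : constantCoeff u = 0)
    (hv : constantCoeff v = 0) :
    Ideal.Quotient.mk (Ideal.span {H}) (u * v) ∈ sqI (MvPowerSeries (Fin 2) k ⧸ Ideal.span {H}) := by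
  apply Ideal.subset_span
  refine ⟨Ideal.Quotient.mk _ u, Ideal.Quotient.mk _ v, ?_, ?_, map_mul _ _ _⟩
  · rw [isUnit_mk_iff H hH, not_not]
    exact hu
  · rw [isUnit_mk_iff H hH, not_not]
    exact hv

lemma sqI_quot_le :
    sqI (MvPowerSeries (Fin 2) k ⧸ Ideal.span {H}) ≤
      (ordIdeal 2).map (Ideal.Quotient.mk (Ideal.span {H})) := by
  rw [sqI, Ideal.span_le]
  rintro _ ⟨u', v', hu, hv, rfl⟩
  obtain ⟨u, rfl⟩ := Ideal.Quotient.mk_surjective u'
  obtain ⟨v, rfl⟩ := Ideal.Quotient.mk_surjective v'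
  rw [isUnit_mk_iff H hH, not_not] at hu hv
  rw [← map_mul]
  apply Ideal.mem_map_of_mem
  exact ((ord_one_iff u).mpr hu).mul ((ord_one_iff v).mpr hv)

/-- if `y^2 ≡ x^2 c` modulo `H`, the square of the maximal ideal of `k[[x,y]]/(H)` is generated
by `x^2, xy`. -/
lemma twoGen_of_sq (c : MvPowerSeries (Fin 2) k)
    (hc : X 1 ^ 2 - X 0 ^ 2 * c ∈ Ideal.span {H}) :
    TwoGen (MvPowerSeries (Fin 2) k ⧸ Ideal.span {H}) := by
  refine ⟨Ideal.Quotient.mk _ (X 0 * X 0), Ideal.Quotient.mk _ (X 0 * X 1),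
    mk_mul_mem_sqI H hH _ _ (constantCoeff_X 0) (constantCoeff_X 0),
    mk_mul_mem_sqI H hH _ _ (constantCoeff_X 0) (constantCoeff_X 1), ?_⟩
  rw [sqI, Ideal.span_le]
  rintro _ ⟨u', v', hu, hv, rfl⟩
  obtain ⟨u, rfl⟩ := Ideal.Quotient.mk_surjective u'
  obtain ⟨v, rfl⟩ := Ideal.Quotient.mk_surjective v'
  rw [isUnit_mk_iff H hH, not_not] at hu hv
  obtain ⟨u1, u2, rfl⟩ := exists_decomp u hu
  obtain ⟨v1, v2, rfl⟩ := exists_decomp v hv
  have hy : Ideal.Quotient.mk (Ideal.span {H}) (X 1 ^ 2) =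
      Ideal.Quotient.mk (Ideal.span {H}) (X 0 ^ 2 * c) := by
    rw [Ideal.Quotient.eq]
    exact hc
  rw [SetLike.mem_coe, Ideal.mem_span_pair]
  refine ⟨Ideal.Quotient.mk _ (u1 * v1 + c * (u2 * v2)),
    Ideal.Quotient.mk _ (u1 * v2 + u2 * v1), ?_⟩
  have e1 : (X 0 * u1 + X 1 * u2) * (X 0 * v1 + X 1 * v2) =
      (u1 * v1) * (X 0 * X 0) + (u1 * v2 + u2 * v1) * (X 0 * X 1) + (u2 * v2) * X 1 ^ 2 := by ring
  have e2 : Ideal.Quotient.mk (Ideal.span {H}) (X 0 * u1 + X 1 * u2) *
      Ideal.Quotient.mk (Ideal.span {H}) (X 0 * v1 + X 1 * v2) =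
      Ideal.Quotient.mk (Ideal.span {H}) ((u1 * v1) * (X 0 * X 0) +
        (u1 * v2 + u2 * v1) * (X 0 * X 1) + (u2 * v2) * X 1 ^ 2) := by
    rw [← map_mul, e1]
  rw [e2]
  simp only [map_add, map_mul, hy]
  simp only [map_pow, map_mul]
  ring

/-- if `x ≡ y^2` modulo `H`, the square of the maximal ideal of `k[[x,y]]/(H)` is generated
by `y^2`. -/
lemma twoGen_of_lin (hc : X 0 - X 1 ^ 2 ∈ Ideal.span {H}) :
    TwoGen (MvPowerSeries (Fin 2) k ⧸ Ideal.span {H}) := by
  refine ⟨Ideal.Quotient.mk _ (X 1 * X 1), 0,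
    mk_mul_mem_sqI H hH _ _ (constantCoeff_X 1) (constantCoeff_X 1), Ideal.zero_mem _, ?_⟩
  rw [sqI, Ideal.span_le]
  rintro _ ⟨u', v', hu, hv, rfl⟩
  obtain ⟨u, rfl⟩ := Ideal.Quotient.mk_surjective u'
  obtain ⟨v, rfl⟩ := Ideal.Quotient.mk_surjective v'
  rw [isUnit_mk_iff H hH, not_not] at hu hv
  obtain ⟨u1, u2, rfl⟩ := exists_decomp u hu
  obtain ⟨v1, v2, rfl⟩ := exists_decomp v hv
  have hy : Ideal.Quotient.mk (Ideal.span {H}) (X 0) =
      Ideal.Quotient.mk (Ideal.span {H}) (X 1 ^ 2) := by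
    rw [Ideal.Quotient.eq]
    exact hc
  rw [SetLike.mem_coe, Ideal.mem_span_pair]
  refine ⟨Ideal.Quotient.mk _ (X 1 ^ 2 * (u1 * v1) + X 1 * (u1 * v2 + u2 * v1) + u2 * v2), 0, ?_⟩
  simp only [map_add, map_mul, hy]
  simp only [map_pow]
  ring

end Quot

/-- `A_n` has `TwoGen`. -/
lemma twoGen_ring (n : ℕ) : TwoGen (ArSing.ring k n) := by
  have h0 : constantCoeff (ArSing.eqn k n) = 0 := by
    simp [ArSing.eqn]
  rcases n with _ | n
  · apply twoGen_of_lin _ h0
    rw [Ideal.mem_span_singleton]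
    refine ⟨-1, ?_⟩
    rw [ArSing.eqn]
    ring
  · apply twoGen_of_sq _ h0 (X 0 ^ n)
    rw [Ideal.mem_span_singleton]
    refine ⟨1, ?_⟩
    rw [ArSing.eqn]
    ring

/-- the double line has `TwoGen`. -/
lemma twoGen_dbl : TwoGen (MvPowerSeries (Fin 2) k ⧸
    Ideal.span {(X 1 : MvPowerSeries (Fin 2) k) ^ 2}) := by
  apply twoGen_of_sq _ (by simp) 0
  rw [Ideal.mem_span_singleton]
  exact ⟨1, by ring⟩


/-- the three coefficients in degree two -/
noncomputable def cv : MvPowerSeries (Fin 2) k →ₗ[k] (Fin 3 → k) :=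
  LinearMap.pi ![coeff (Finsupp.single 0 2), coeff (Finsupp.single 0 1 + Finsupp.single 1 1),
    coeff (Finsupp.single 1 2)]

lemma cv_mul_of_ord {g : MvPowerSeries (Fin 2) k} (hg : Ord 2 g) (a : MvPowerSeries (Fin 2) k) :
    cv (a * g) = constantCoeff a • cv g := by
  ext i
  fin_cases i
  · show coeff (Finsupp.single 0 2) (a * g) = constantCoeff a * coeff (Finsupp.single 0 2) g
    exact coeff_mul_of_ord hg a _ (by simp)
  · show coeff (Finsupp.single 0 1 + Finsupp.single 1 1) (a * g) =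
      constantCoeff a * coeff (Finsupp.single 0 1 + Finsupp.single 1 1) g
    exact coeff_mul_of_ord hg a _ (by simp)
  · show coeff (Finsupp.single 1 2) (a * g) = constantCoeff a * coeff (Finsupp.single 1 2) g
    exact coeff_mul_of_ord hg a _ (by simp)

lemma cv_mul_of_ord_three {g : MvPowerSeries (Fin 2) k} (hg : Ord 3 g)
    (a : MvPowerSeries (Fin 2) k) : cv (a * g) = 0 := by
  ext i
  fin_cases i
  · show coeff (Finsupp.single 0 2) (a * g) = 0
    exact coeff_mul_of_ord_lt hg a _ (by simp)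
  · show coeff (Finsupp.single 0 1 + Finsupp.single 1 1) (a * g) = 0
    exact coeff_mul_of_ord_lt hg a _ (by simp)
  · show coeff (Finsupp.single 1 2) (a * g) = 0
    exact coeff_mul_of_ord_lt hg a _ (by simp)

lemma cv_X0X0 : cv (X 0 * X 0 : MvPowerSeries (Fin 2) k) = Pi.single 0 1 := by
  classical
  have h : (X 0 * X 0 : MvPowerSeries (Fin 2) k) = monomial (Finsupp.single 0 2) 1 := by
    rw [X_def, monomial_mul_monomial, ← Finsupp.single_add, one_mul]
  ext i
  fin_cases i
  · show coeff (Finsupp.single 0 2) (X 0 * X 0 : MvPowerSeries (Fin 2) k) = _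
    rw [h, coeff_monomial_same]
    simp
  · show coeff (Finsupp.single 0 1 + Finsupp.single 1 1) (X 0 * X 0 : MvPowerSeries (Fin 2) k) = _
    rw [h, coeff_monomial, if_neg]
    · simp
    · intro h'
      have := DFunLike.congr_fun h' 1
      simp at this
  · show coeff (Finsupp.single 1 2) (X 0 * X 0 : MvPowerSeries (Fin 2) k) = _
    rw [h, coeff_monomial, if_neg]
    · simp
    · intro h'
      have := DFunLike.congr_fun h' 1
      simp at this

lemma cv_X0X1 : cv (X 0 * X 1 : MvPowerSeries (Fin 2) k) = Pi.single 1 1 := by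
  classical
  have h : (X 0 * X 1 : MvPowerSeries (Fin 2) k) =
      monomial (Finsupp.single 0 1 + Finsupp.single 1 1) 1 := by
    rw [X_def, X_def, monomial_mul_monomial, one_mul]
  ext i
  fin_cases i
  · show coeff (Finsupp.single 0 2) (X 0 * X 1 : MvPowerSeries (Fin 2) k) = _
    rw [h, coeff_monomial, if_neg]
    · simp
    · intro h'
      have := DFunLike.congr_fun h' 1
      simp at this
  · show coeff (Finsupp.single 0 1 + Finsupp.single 1 1) (X 0 * X 1 : MvPowerSeries (Fin 2) k) = _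
    rw [h, coeff_monomial_same]
    simp
  · show coeff (Finsupp.single 1 2) (X 0 * X 1 : MvPowerSeries (Fin 2) k) = _
    rw [h, coeff_monomial, if_neg]
    · simp
    · intro h'
      have := DFunLike.congr_fun h' 0
      simp at this

lemma cv_X1X1 : cv (X 1 * X 1 : MvPowerSeries (Fin 2) k) = Pi.single 2 1 := by
  classical
  have h : (X 1 * X 1 : MvPowerSeries (Fin 2) k) = monomial (Finsupp.single 1 2) 1 := by
    rw [X_def, monomial_mul_monomial, ← Finsupp.single_add, one_mul]
  ext i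
  fin_cases i
  · show coeff (Finsupp.single 0 2) (X 1 * X 1 : MvPowerSeries (Fin 2) k) = _
    rw [h, coeff_monomial, if_neg]
    · simp
    · intro h'
      have := DFunLike.congr_fun h' 0
      simp at this
  · show coeff (Finsupp.single 0 1 + Finsupp.single 1 1) (X 1 * X 1 : MvPowerSeries (Fin 2) k) = _
    rw [h, coeff_monomial, if_neg]
    · simp
    · intro h'
      have := DFunLike.congr_fun h' 0
      simp at this
  · show coeff (Finsupp.single 1 2) (X 1 * X 1 : MvPowerSeries (Fin 2) k) = _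
    rw [h, coeff_monomial_same]
    simp

/-- if `F ∈ (x,y)^3`, the square of the maximal ideal of `k[[x,y]]/(F)` needs three generators. -/
theorem not_twoGen (F : MvPowerSeries (Fin 2) k) (hF : Ord 3 F) :
    ¬ TwoGen (MvPowerSeries (Fin 2) k ⧸ Ideal.span {F}) := by
  classical
  rintro ⟨g1', g2', h1, h2, hle⟩
  have hF0 : constantCoeff F = 0 := (ord_one_iff F).mp (hF.mono (by norm_num))
  have hq := sqI_quot_le F hF0
  obtain ⟨g1, hg1, rfl⟩ :=
    (Ideal.mem_map_iff_of_surjective _ Ideal.Quotient.mk_surjective).mp (hq h1)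
  obtain ⟨g2, hg2, rfl⟩ :=
    (Ideal.mem_map_iff_of_surjective _ Ideal.Quotient.mk_surjective).mp (hq h2)
  rw [mem_ordIdeal] at hg1 hg2
  have key : ∀ (u v : MvPowerSeries (Fin 2) k), constantCoeff u = 0 → constantCoeff v = 0 →
      cv (u * v) ∈ Submodule.span k {cv g1, cv g2} := by
    intro u v hu hv
    have := hle (mk_mul_mem_sqI F hF0 u v hu hv)
    rw [Ideal.mem_span_pair] at this
    obtain ⟨a1', a2', h⟩ := this
    obtain ⟨a1, rfl⟩ := Ideal.Quotient.mk_surjective a1'
    obtain ⟨a2, rfl⟩ := Ideal.Quotient.mk_surjective a2'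
    rw [← map_mul, ← map_mul, ← map_add, Ideal.Quotient.eq, Ideal.mem_span_singleton] at h
    obtain ⟨r, hr⟩ := h
    have e : u * v = a1 * g1 + a2 * g2 - r * F := by linear_combination -hr
    rw [e, map_sub, map_add, cv_mul_of_ord hg1, cv_mul_of_ord hg2, cv_mul_of_ord_three hF,
      sub_zero, Submodule.mem_span_pair]
    exact ⟨_, _, rfl⟩
  have htop : Submodule.span k {cv g1, cv g2} = ⊤ := by
    rw [eq_top_iff, ← (Pi.basisFun k (Fin 3)).span_eq, Submodule.span_le]
    rintro _ ⟨i, rfl⟩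
    rw [Pi.basisFun_apply]
    fin_cases i
    · have := key (X 0) (X 0) (constantCoeff_X 0) (constantCoeff_X 0)
      rwa [cv_X0X0] at this
    · have := key (X 0) (X 1) (constantCoeff_X 0) (constantCoeff_X 1)
      rwa [cv_X0X1] at this
    · have := key (X 1) (X 1) (constantCoeff_X 1) (constantCoeff_X 1)
      rwa [cv_X1X1] at this
  have h3 : Module.finrank k (Submodule.span k ({cv g1, cv g2} : Set (Fin 3 → k))) = 3 := by
    rw [htop, finrank_top, Module.finrank_fin_fun]
  have h4 : Module.finrank k (Submodule.span k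
      ((({cv g1, cv g2} : Finset (Fin 3 → k)) : Set (Fin 3 → k)))) ≤
      ({cv g1, cv g2} : Finset (Fin 3 → k)).card :=
    finrank_span_finset_le_card (R := k) ({cv g1, cv g2} : Finset (Fin 3 → k))
  rw [Finset.coe_insert, Finset.coe_singleton, h3] at h4
  have h5 := Finset.card_le_two (a := cv g1) (b := cv g2)
  omega


lemma ord_three_of_coeff (p : MvPowerSeries (Fin 2) k) (h00 : coeff 0 p = 0)
    (h10 : coeff (Finsupp.single 0 1) p = 0) (h01 : coeff (Finsupp.single 1 1) p = 0)
    (h20 : coeff (Finsupp.single 0 2) p = 0)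
    (h11 : coeff (Finsupp.single 0 1 + Finsupp.single 1 1) p = 0)
    (h02 : coeff (Finsupp.single 1 2) p = 0) : Ord 3 p := by
  intro e he
  have hE : e = Finsupp.single 0 (e 0) + Finsupp.single 1 (e 1) := by
    ext i
    fin_cases i <;> simp
  obtain ⟨m, hm⟩ : ∃ m, e 0 = m := ⟨_, rfl⟩
  obtain ⟨n, hn⟩ : ∃ n, e 1 = n := ⟨_, rfl⟩
  rw [hE, hm, hn]
  rw [hm, hn] at he
  rcases m with _ | _ | _ | m
  · rcases n with _ | _ | _ | n
    · simpa using h00
    · simpa using h01
    · simpa using h02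
    · omega
  · rcases n with _ | _ | n
    · simpa using h10
    · simpa using h11
    · omega
  · rcases n with _ | n
    · simpa using h20
    · omega
  · omega

end Groth.Agent.Lib.T2H4.ArSingHessB
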