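import Mathlib
import Groth.Prelude.Def_W4c1arstab1appArSing

/-! Helper library (helper4): classification of formal plane curve germs `F ∈ k[[x,y]]`, `F(0)=0`,
which are regular in `y` of order `1` or `2`, via Mathlib's Weierstrass preparation theorem:
`k[[x,y]]/(F)` is isomorphic to some `A_n = k[[x,y]]/(y^2 - x^(n+1))` or to `k[[x,y]]/(y^2)`.
(`k` algebraically closed, `2 ≠ 0`.) -/

set_option autoImplicit false

namespace Groth.Agent.Lib.T2H4.ArSingHessC

open scoped Polynomial

universe u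

variable {k : Type u} [Field k]

attribute [-instance] PowerSeries.algebraPowerSeries MvPowerSeries.algebraMvPowerSeries

instance instCompl : IsAdicComplete (IsLocalRing.maximalIdeal (PowerSeries k)) (PowerSeries k) := by
  rw [PowerSeries.maximalIdeal_eq_span_X]
  infer_instance

/-- the iso `k[[x_0,x_1]] ≃ k[[x]][[Y]]` determined by a bijection `Fin 2 ≃ Option Unit`;
the variable sent to `none` becomes the outer variable `Y`. -/
noncomputable def psi (e : Fin 2 ≃ Option Unit) :
    MvPowerSeries (Fin 2) k ≃ₐ[k] PowerSeries (PowerSeries k) :=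
  (MvPowerSeries.renameEquiv k e).trans (MvPowerSeries.optionEquivLeft Unit k)

lemma psi_X_none (e : Fin 2 ≃ Option Unit) (i : Fin 2) (hi : e i = none) :
    psi e (MvPowerSeries.X i : MvPowerSeries (Fin 2) k) = PowerSeries.X := by
  simp [psi, hi, MvPowerSeries.optionEquivLeft_X_none]

lemma psi_X_some (e : Fin 2 ≃ Option Unit) (i : Fin 2) (hi : e i = some ()) :
    psi e (MvPowerSeries.X i : MvPowerSeries (Fin 2) k) = PowerSeries.C (PowerSeries.X) := by
  simp [psi, hi, MvPowerSeries.optionEquivLeft_X_some]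
  rfl

lemma constantCoeff_coeff_psi (e : Fin 2 ≃ Option Unit) (p : MvPowerSeries (Fin 2) k) (n : ℕ) :
    PowerSeries.constantCoeff (PowerSeries.coeff n (psi e p)) =
      MvPowerSeries.coeff (Finsupp.single (e.symm none) n) p := by
  have h1 : PowerSeries.constantCoeff (PowerSeries.coeff n (psi e p)) =
      MvPowerSeries.coeff (0 : Unit →₀ ℕ) (PowerSeries.coeff n (psi e p)) := rfl
  rw [h1, psi, AlgEquiv.trans_apply, MvPowerSeries.coeff_coeff_optionEquivLeft]
  have h2 : (0 : Unit →₀ ℕ).optionElim n =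
      Finsupp.embDomain e.toEmbedding (Finsupp.single (e.symm none) n) := by
    rw [Finsupp.embDomain_single]
    ext o
    cases o <;> simp
  rw [h2, MvPowerSeries.renameEquiv_apply]
  exact MvPowerSeries.coeff_embDomain_rename e.toEmbedding p _
/-- transport of principal-ideal quotients along an algebra iso -/
noncomputable def quotEquivOfEq {K R S : Type*} [CommSemiring K] [CommRing R] [CommRing S]
    [Algebra K R] [Algebra K S] (φ : R ≃ₐ[K] S) (a : R) (b : S)
    (h : Ideal.span {b} = Ideal.span {φ a}) : (R ⧸ Ideal.span {a}) ≃ₐ[K] (S ⧸ Ideal.span {b}) :=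
  Ideal.quotientEquivAlg _ _ φ (by
    rw [Ideal.map_span, Set.image_singleton]
    exact h)

lemma residue_eq_zero_iff' (a : PowerSeries k) :
    IsLocalRing.residue (PowerSeries k) a = 0 ↔ PowerSeries.constantCoeff a = 0 := by
  rw [IsLocalRing.residue_eq_zero_iff, IsLocalRing.mem_maximalIdeal, mem_nonunits_iff,
    PowerSeries.isUnit_iff_constantCoeff, isUnit_iff_ne_zero, not_not]

lemma mem_maximalIdeal_iff' (a : PowerSeries k) :
    a ∈ IsLocalRing.maximalIdeal (PowerSeries k) ↔ PowerSeries.constantCoeff a = 0 := by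
  rw [IsLocalRing.mem_maximalIdeal, mem_nonunits_iff,
    PowerSeries.isUnit_iff_constantCoeff, isUnit_iff_ne_zero, not_not]

lemma order_map_residue (G : PowerSeries (PowerSeries k)) (n : ℕ)
    (hn : PowerSeries.constantCoeff (PowerSeries.coeff n G) ≠ 0)
    (hlt : ∀ i < n, PowerSeries.constantCoeff (PowerSeries.coeff i G) = 0) :
    (G.map (IsLocalRing.residue (PowerSeries k))).order = n := by
  rw [PowerSeries.order_eq_nat]
  refine ⟨?_, ?_⟩
  · rw [PowerSeries.coeff_map, Ne, residue_eq_zero_iff']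
    exact hn
  · intro i hi
    rw [PowerSeries.coeff_map, residue_eq_zero_iff']
    exact hlt i hi

lemma monic_deg_two_eq (W : (PowerSeries k)[X]) (hm : W.Monic) (hd : W.natDegree = 2) :
    W = Polynomial.X ^ 2 + Polynomial.C (W.coeff 1) * Polynomial.X + Polynomial.C (W.coeff 0) := by
  ext1 n
  have h2 : W.coeff 2 = 1 := by
    have := hm.coeff_natDegree
    rwa [hd] at this
  rcases n with _ | _ | _ | n
  · simp
  · simp
  · simp [h2]
  · rw [Polynomial.coeff_eq_zero_of_natDegree_lt (by omega)]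
    simp [Polynomial.coeff_X, Polynomial.coeff_C, Polynomial.coeff_X_pow]

lemma exists_sq_eq [IsAlgClosed k] (h2 : (2 : k) ≠ 0) (u : PowerSeries k)
    (hu : PowerSeries.constantCoeff u ≠ 0) : ∃ w : PowerSeries k, w ^ 2 = u := by
  obtain ⟨γ, hγ⟩ := IsAlgClosed.exists_pow_nat_eq (PowerSeries.constantCoeff u) (n := 2) (by norm_num)
  have hγ0 : γ ≠ 0 := by
    rintro rfl
    apply hu
    rw [← hγ]
    ring
  have hH : HenselianRing (PowerSeries k) (Ideal.span {PowerSeries.X}) := inferInstance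
  have hmonic : (Polynomial.X ^ 2 - Polynomial.C u : (PowerSeries k)[X]).Monic :=
    Polynomial.monic_X_pow_sub_C u (by norm_num)
  have h1 : Polynomial.eval (PowerSeries.C γ)
      (Polynomial.X ^ 2 - Polynomial.C u : (PowerSeries k)[X]) ∈
      Ideal.span {(PowerSeries.X : PowerSeries k)} := by
    rw [Ideal.mem_span_singleton, PowerSeries.X_dvd_iff]
    simp [hγ]
  have h3 : IsUnit (Ideal.Quotient.mk (Ideal.span {(PowerSeries.X : PowerSeries k)})
      (Polynomial.eval (PowerSeries.C γ) (Polynomial.derivative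
        (Polynomial.X ^ 2 - Polynomial.C u : (PowerSeries k)[X])))) := by
    apply IsUnit.map
    simp only [Polynomial.derivative_sub, Polynomial.derivative_X_pow, Polynomial.derivative_C,
      sub_zero, Polynomial.eval_mul, Polynomial.eval_C, Polynomial.eval_pow, Polynomial.eval_X]
    rw [PowerSeries.isUnit_iff_constantCoeff]
    have h22 : PowerSeries.constantCoeff (2 : PowerSeries k) = 2 := map_ofNat _ 2
    simp [hγ0, h2, h22]
  obtain ⟨w, hw, -⟩ := hH.is_henselian (Polynomial.X ^ 2 - Polynomial.C u) hmonic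
    (PowerSeries.C γ) h1 h3
  refine ⟨w, ?_⟩
  have := hw
  simp only [Polynomial.IsRoot.def, Polynomial.eval_sub, Polynomial.eval_pow, Polynomial.eval_X,
      Polynomial.eval_C, sub_eq_zero] at this
  exact this

lemma exists_normal_form [IsAlgClosed k] (h2 : (2 : k) ≠ 0) (d : PowerSeries k)
    (hd : PowerSeries.constantCoeff d = 0) :
    ∃ (w d0 : PowerSeries k), IsUnit w ∧ d = d0 * w ^ 2 ∧
      (d0 = 0 ∨ ∃ m : ℕ, d0 = PowerSeries.X ^ (m + 1)) := by
  by_cases h0 : d = 0
  · exact ⟨1, 0, isUnit_one, by simp [h0], Or.inl rfl⟩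
  · have hu : PowerSeries.constantCoeff (PowerSeries.divXPowOrder d) ≠ 0 := by
      rwa [Ne, PowerSeries.constantCoeff_divXPowOrder_eq_zero_iff]
    obtain ⟨w, hw⟩ := exists_sq_eq h2 _ hu
    have hfac : d = PowerSeries.X ^ d.order.toNat * w ^ 2 := by
      rw [hw]
      exact PowerSeries.X_pow_order_mul_divXPowOrder.symm
    have hwu : IsUnit w := by
      rw [PowerSeries.isUnit_iff_constantCoeff, isUnit_iff_ne_zero]
      intro hw0
      apply hu
      rw [← hw, map_pow, hw0]
      ring
    have hne : d.order.toNat ≠ 0 := by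
      intro h00
      rw [h00, pow_zero, one_mul] at hfac
      apply hu
      rw [← hw, ← hfac, hd]
    obtain ⟨m, hm⟩ : ∃ m, d.order.toNat = m + 1 := Nat.exists_eq_succ_of_ne_zero hne
    exact ⟨w, PowerSeries.X ^ (m + 1), hwu, by rw [← hm]; exact hfac, Or.inr ⟨m, rfl⟩⟩

/-- `e0`: `X 0` is the outer variable. -/
def e0 : Fin 2 ≃ Option Unit where
  toFun i := if i = 0 then none else some ()
  invFun o := match o with
    | none => 0
    | some _ => 1
  left_inv := by
    intro i
    fin_cases i <;> rfl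
  right_inv := by
    rintro (_ | _) <;> rfl

/-- `e1`: `X 1` is the outer variable. -/
def e1 : Fin 2 ≃ Option Unit where
  toFun i := if i = 1 then none else some ()
  invFun o := match o with
    | none => 1
    | some _ => 0
  left_inv := by
    intro i
    fin_cases i <;> rfl
  right_inv := by
    rintro (_ | _) <;> rfl

lemma distinguished_X_sub_C (r : PowerSeries k) (hr : PowerSeries.constantCoeff r = 0) :
    (Polynomial.X - Polynomial.C r : (PowerSeries k)[X]).IsDistinguishedAt
      (IsLocalRing.maximalIdeal (PowerSeries k)) := by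
  refine ⟨⟨?_⟩, Polynomial.monic_X_sub_C r⟩
  intro n hn
  rw [Polynomial.natDegree_X_sub_C] at hn
  obtain rfl : n = 0 := by omega
  rw [mem_maximalIdeal_iff']
  simp [hr]

lemma distinguished_X_sq_sub_C (r : PowerSeries k) (hr : PowerSeries.constantCoeff r = 0) :
    (Polynomial.X ^ 2 - Polynomial.C r : (PowerSeries k)[X]).IsDistinguishedAt
      (IsLocalRing.maximalIdeal (PowerSeries k)) := by
  refine ⟨⟨?_⟩, Polynomial.monic_X_pow_sub_C r (by norm_num)⟩
  intro n hn
  rw [Polynomial.natDegree_X_pow_sub_C] at hn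
  rw [mem_maximalIdeal_iff']
  rcases n with _ | _ | n
  · simp [hr]
  · simp [Polynomial.coeff_X_pow, Polynomial.coeff_C]
  · omega

/-- the quotient of `A[Y]` by a distinguished polynomial `g`, as a quotient of `k[[x,y]]`. -/
noncomputable def equivOfDistinguished (e : Fin 2 ≃ Option Unit) (g : (PowerSeries k)[X])
    (hg : g.IsDistinguishedAt (IsLocalRing.maximalIdeal (PowerSeries k)))
    (G0 : MvPowerSeries (Fin 2) k) (h : psi e G0 = (g : PowerSeries (PowerSeries k))) :
    ((PowerSeries k)[X] ⧸ Ideal.span {g}) ≃ₐ[k] (MvPowerSeries (Fin 2) k ⧸ Ideal.span {G0}) :=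
  (hg.algEquivQuotient.restrictScalars k).trans
    (quotEquivOfEq (psi e) G0 (g : PowerSeries (PowerSeries k)) (by rw [h])).symm

lemma e1_symm_none : e1.symm none = 1 := rfl
lemma e0_symm_none : e0.symm none = 0 := rfl

/-- order 1 in `y`: the quotient is `A_0`. -/
theorem classify_one (F : MvPowerSeries (Fin 2) k)
    (h0 : MvPowerSeries.coeff 0 F = 0)
    (h1 : MvPowerSeries.coeff (Finsupp.single 1 1) F ≠ 0) :
    Nonempty ((MvPowerSeries (Fin 2) k ⧸ Ideal.span {F}) ≃ₐ[k] ArSing.ring k 0) := by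
  set G := psi e1 F with hG
  have hc : ∀ n, PowerSeries.constantCoeff (PowerSeries.coeff n G) =
      MvPowerSeries.coeff (Finsupp.single 1 n) F := fun n => by
    rw [hG, constantCoeff_coeff_psi, e1_symm_none]
  have hord : (G.map (IsLocalRing.residue (PowerSeries k))).order = (1 : ℕ) := by
    apply order_map_residue
    · rw [hc]
      exact h1
    · intro i hi
      obtain rfl : i = 0 := by omega
      rw [hc, Finsupp.single_zero]
      exact h0
  have hne : G.map (IsLocalRing.residue (PowerSeries k)) ≠ 0 := by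
    intro h
    rw [h, PowerSeries.order_zero] at hord
    exact ENat.top_ne_natCast _ hord
  obtain ⟨W, h, H⟩ := G.exists_isWeierstrassFactorization hne
  have hdeg : W.natDegree = 1 := by
    rw [H.natDegree_eq_toNat_order_map, hord]
    rfl
  have hW : W = Polynomial.X - Polynomial.C (- W.coeff 0) := by
    rw [map_neg, sub_neg_eq_add]
    exact H.isDistinguishedAt.monic.eq_X_add_C hdeg
  have E1 : (MvPowerSeries (Fin 2) k ⧸ Ideal.span {F}) ≃ₐ[k]
      (PowerSeries (PowerSeries k) ⧸ Ideal.span {G}) := quotEquivOfEq (psi e1) F G (by rw [hG])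
  have E2 : ((PowerSeries k)[X] ⧸ Ideal.span {W}) ≃ₐ[k]
      (PowerSeries (PowerSeries k) ⧸ Ideal.span {G}) := H.algEquivQuotient.restrictScalars k
  have E3 : ((PowerSeries k)[X] ⧸ Ideal.span {W}) ≃ₐ[k] PowerSeries k := by
    rw [hW]
    exact (Polynomial.quotientSpanXSubCAlgEquiv (- W.coeff 0)).restrictScalars k
  have hx2 : PowerSeries.constantCoeff ((PowerSeries.X : PowerSeries k) ^ 2) = 0 := by simp
  have E5 : ((PowerSeries k)[X] ⧸ Ideal.span
      {(Polynomial.X - Polynomial.C ((PowerSeries.X : PowerSeries k) ^ 2) : (PowerSeries k)[X])})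
        ≃ₐ[k] PowerSeries k :=
    (Polynomial.quotientSpanXSubCAlgEquiv ((PowerSeries.X : PowerSeries k) ^ 2)).restrictScalars k
  have E6 := equivOfDistinguished e0 _ (distinguished_X_sub_C _ hx2) (- ArSing.eqn k 0) (by
    rw [ArSing.eqn, map_neg, map_sub, map_pow, map_pow, psi_X_none e0 0 rfl, psi_X_some e0 1 rfl]
    simp)
  have E7 : (MvPowerSeries (Fin 2) k ⧸ Ideal.span {- ArSing.eqn k 0}) ≃ₐ[k] ArSing.ring k 0 :=
    Ideal.quotientEquivAlgOfEq k (Ideal.span_singleton_neg _)
  exact ⟨E1.trans (E2.symm.trans (E3.trans (E5.symm.trans (E6.trans E7))))⟩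

/-- order 2 in `y`: the quotient is some `A_n` or `k[[x,y]]/(y^2)`. -/
theorem classify_two [IsAlgClosed k] (h2 : (2 : k) ≠ 0) (F : MvPowerSeries (Fin 2) k)
    (h0 : MvPowerSeries.coeff 0 F = 0)
    (h1 : MvPowerSeries.coeff (Finsupp.single 1 1) F = 0)
    (h22 : MvPowerSeries.coeff (Finsupp.single 1 2) F ≠ 0) :
    (∃ n : ℕ, Nonempty ((MvPowerSeries (Fin 2) k ⧸ Ideal.span {F}) ≃ₐ[k] ArSing.ring k n)) ∨
      Nonempty ((MvPowerSeries (Fin 2) k ⧸ Ideal.span {F}) ≃ₐ[k]
        (MvPowerSeries (Fin 2) k ⧸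
          Ideal.span {(MvPowerSeries.X 1 : MvPowerSeries (Fin 2) k) ^ 2})) := by
  set G := psi e1 F with hG
  have hc : ∀ n, PowerSeries.constantCoeff (PowerSeries.coeff n G) =
      MvPowerSeries.coeff (Finsupp.single 1 n) F := fun n => by
    rw [hG, constantCoeff_coeff_psi, e1_symm_none]
  have hord : (G.map (IsLocalRing.residue (PowerSeries k))).order = (2 : ℕ) := by
    apply order_map_residue
    · rw [hc]
      exact h22
    · intro i hi
      rw [hc]
      rcases i with _ | _ | i
      · rw [Finsupp.single_zero]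
        exact h0
      · exact h1
      · omega
  have hne : G.map (IsLocalRing.residue (PowerSeries k)) ≠ 0 := by
    intro h
    rw [h, PowerSeries.order_zero] at hord
    exact ENat.top_ne_natCast _ hord
  obtain ⟨W, h, H⟩ := G.exists_isWeierstrassFactorization hne
  have hdeg : W.natDegree = 2 := by
    rw [H.natDegree_eq_toNat_order_map, hord]
    rfl
  have hW := monic_deg_two_eq W H.isDistinguishedAt.monic hdeg
  have hb : PowerSeries.constantCoeff (W.coeff 1) = 0 :=
    (mem_maximalIdeal_iff' _).mp (H.isDistinguishedAt.mem (by omega))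
  have hc0 : PowerSeries.constantCoeff (W.coeff 0) = 0 :=
    (mem_maximalIdeal_iff' _).mp (H.isDistinguishedAt.mem (by omega))
  obtain ⟨b, hbdef⟩ : ∃ b, W.coeff 1 = b := ⟨_, rfl⟩
  obtain ⟨c, hcdef⟩ : ∃ c, W.coeff 0 = c := ⟨_, rfl⟩
  rw [hbdef] at hb hW
  rw [hcdef] at hc0 hW
  obtain ⟨β, hβdef⟩ : ∃ β, PowerSeries.C (2⁻¹ : k) * b = β := ⟨_, rfl⟩
  have hβ : b = 2 * β := by
    rw [← hβdef, ← mul_assoc]
    have : (2 : PowerSeries k) * PowerSeries.C (2⁻¹ : k) = 1 := by
      rw [← map_ofNat (PowerSeries.C (R := k)) 2, ← map_mul, mul_inv_cancel₀ h2, map_one]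
    rw [this, one_mul]
  have hβ0 : PowerSeries.constantCoeff β = 0 := by
    rw [← hβdef, map_mul, hb, mul_zero]
  have hd : PowerSeries.constantCoeff (β ^ 2 - c) = 0 := by
    rw [map_sub, map_pow, hβ0, hc0]
    ring
  obtain ⟨w, d0, hw, hdw, hd0⟩ := exists_normal_form h2 _ hd
  have hd00 : PowerSeries.constantCoeff d0 = 0 := by
    rcases hd0 with rfl | ⟨m, rfl⟩ <;> simp
  have hc' : c = β ^ 2 - d0 * w ^ 2 := by
    rw [← hdw]
    ring
  let _ : Invertible w := hw.invertible
  let θ : (PowerSeries k)[X] ≃ₐ[PowerSeries k] (PowerSeries k)[X] :=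
    (Polynomial.algEquivAevalXAddC (-β)).trans (Polynomial.algEquivCMulXAddC w 0)
  have hθ : θ W = Polynomial.C (w ^ 2) * (Polynomial.X ^ 2 - Polynomial.C d0) := by
    have : θ W = θ (Polynomial.X ^ 2 + Polynomial.C b * Polynomial.X + Polynomial.C c) :=
      congrArg θ hW
    rw [this]
    simp only [θ, AlgEquiv.trans_apply, Polynomial.algEquivAevalXAddC_apply,
      Polynomial.algEquivCMulXAddC_apply, map_add, map_mul, map_pow, Polynomial.aeval_X,
      Polynomial.aeval_C, Polynomial.algebraMap_eq, hβ, hc', map_sub, map_neg, map_zero, add_zero]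
    rw [map_ofNat]
    ring
  have hunit : IsUnit (Polynomial.C (w ^ 2) : (PowerSeries k)[X]) :=
    (hw.pow 2).map Polynomial.C
  have E1 : (MvPowerSeries (Fin 2) k ⧸ Ideal.span {F}) ≃ₐ[k]
      (PowerSeries (PowerSeries k) ⧸ Ideal.span {G}) := quotEquivOfEq (psi e1) F G (by rw [hG])
  have E2 : ((PowerSeries k)[X] ⧸ Ideal.span {W}) ≃ₐ[k]
      (PowerSeries (PowerSeries k) ⧸ Ideal.span {G}) := H.algEquivQuotient.restrictScalars k
  have E3 : ((PowerSeries k)[X] ⧸ Ideal.span {W}) ≃ₐ[k]
      ((PowerSeries k)[X] ⧸ Ideal.span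
        {(Polynomial.X ^ 2 - Polynomial.C d0 : (PowerSeries k)[X])}) :=
    (quotEquivOfEq θ W (Polynomial.X ^ 2 - Polynomial.C d0) (by
      rw [hθ, Ideal.span_singleton_mul_left_unit hunit])).restrictScalars k
  rcases hd0 with rfl | ⟨m, rfl⟩
  · right
    have E4 := equivOfDistinguished e1 _ (distinguished_X_sq_sub_C (0 : PowerSeries k) hd00)
      ((MvPowerSeries.X 1 : MvPowerSeries (Fin 2) k) ^ 2) (by
        rw [map_pow, psi_X_none e1 1 rfl]
        simp)
    exact ⟨E1.trans (E2.symm.trans (E3.trans E4))⟩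
  · left
    have E4 := equivOfDistinguished e1 _
      (distinguished_X_sq_sub_C ((PowerSeries.X : PowerSeries k) ^ (m + 1)) hd00)
      (ArSing.eqn k m) (by
        rw [ArSing.eqn, map_sub, map_pow, map_pow, psi_X_none e1 1 rfl, psi_X_some e1 0 rfl]
        simp)
    exact ⟨m, ⟨E1.trans (E2.symm.trans (E3.trans E4))⟩⟩


/-- a formal plane curve germ which is `y`-regular of order `1` or `2` is an `A_n` singularity
or the double line. -/
theorem classify [IsAlgClosed k] (h2 : (2 : k) ≠ 0) (F : MvPowerSeries (Fin 2) k)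
    (h0 : MvPowerSeries.coeff 0 F = 0)
    (h : MvPowerSeries.coeff (Finsupp.single 1 1) F ≠ 0 ∨
      (MvPowerSeries.coeff (Finsupp.single 1 1) F = 0 ∧
        MvPowerSeries.coeff (Finsupp.single 1 2) F ≠ 0)) :
    (∃ n : ℕ, Nonempty ((MvPowerSeries (Fin 2) k ⧸ Ideal.span {F}) ≃ₐ[k] ArSing.ring k n)) ∨
      Nonempty ((MvPowerSeries (Fin 2) k ⧸ Ideal.span {F}) ≃ₐ[k]
        (MvPowerSeries (Fin 2) k ⧸
          Ideal.span {(MvPowerSeries.X 1 : MvPowerSeries (Fin 2) k) ^ 2})) := by
  rcases h with h | ⟨h1, h22⟩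
  · exact Or.inl ⟨0, classify_one F h0 h⟩
  · exact classify_two h2 F h0 h1 h22

end Groth.Agent.Lib.T2H4.ArSingHessC
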