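import Mathlib
import Groth.Agent.Lib.T2H4ArSingHessA
import Groth.Agent.Lib.T2H4ArSingHessB

/-! Helper library (helper4): characteristic-free versions of the shear computations of
`T2H4ArSingHessA`, and the effect of the shear automorphism on linear coefficients of power series. -/

set_option autoImplicit false

namespace Groth.Agent.Lib.T2H4.ArSingHessD

open MvPolynomial Groth.Agent.Lib.T2H4.ArSingHessA

universe u

variable {k : Type u} [Field k]

/-- `X 0 ↦ t Y`, `X 1 ↦ Y` -/
noncomputable def rho (t : k) : MvPolynomial (Fin 2) k →ₐ[k] Polynomial k :=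
  aeval ![Polynomial.C t * Polynomial.X, Polynomial.X]

lemma rho_monomial (t : k) (e : Fin 2 →₀ ℕ) (c : k) :
    rho t (monomial e c) = Polynomial.C (c * t ^ (e 0)) * Polynomial.X ^ (e 0 + e 1) := by
  rw [rho, aeval_monomial, Finsupp.prod_fintype _ _ (fun i => pow_zero _), Fin.prod_univ_two]
  simp only [Matrix.cons_val_zero, Matrix.cons_val_one, Polynomial.algebraMap_eq, mul_pow,
    ← Polynomial.C_pow, map_mul]
  ring

lemma coeff_rho (t : k) (q : MvPolynomial (Fin 2) k) (j : ℕ) :
    (rho t q).coeff j =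
      ∑ i ∈ Finset.range (j + 1), t ^ i * coeff (Finsupp.single 0 i + Finsupp.single 1 (j - i)) q := by
  classical
  induction q using MvPolynomial.induction_on' with
  | monomial e c =>
    rw [rho_monomial, Polynomial.coeff_C_mul, Polynomial.coeff_X_pow]
    have hiff : ∀ i : ℕ, (e = Finsupp.single 0 i + Finsupp.single 1 (j - i)) ↔
        (e 0 = i ∧ e 1 = j - i) := by
      intro i
      constructor
      · intro h
        rw [h]
        simp
      · rintro ⟨h0, h1⟩
        ext x
        fin_cases x
        · simpa using h0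
        · simpa using h1
    by_cases hj : e 0 + e 1 = j
    · rw [if_pos hj.symm, mul_one, Finset.sum_eq_single (e 0)]
      · rw [coeff_monomial, if_pos ((hiff _).mpr ⟨rfl, by omega⟩)]
        ring
      · intro i _ hi
        rw [coeff_monomial, if_neg, mul_zero]
        intro h
        exact hi ((hiff i).mp h).1.symm
      · intro h
        exfalso
        apply h
        rw [Finset.mem_range]
        omega
    · rw [if_neg (fun h => hj h.symm), mul_zero]
      symm
      apply Finset.sum_eq_zero
      intro i hi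
      rw [coeff_monomial, if_neg, mul_zero]
      intro h
      have := (hiff i).mp h
      rw [Finset.mem_range] at hi
      omega
  | add p q hp hq =>
    simp only [map_add, Polynomial.coeff_add, hp, hq, coeff_add, mul_add, Finset.sum_add_distrib]

/-- `X 0 ↦ 0`, `X 1 ↦ Y` -/
lemma coeff_rho_zero (q : MvPolynomial (Fin 2) k) (j : ℕ) :
    (rho 0 q).coeff j = coeff (Finsupp.single 1 j) q := by
  rw [coeff_rho, Finset.sum_eq_single 0]
  · simp
  · intro i _ hi
    rw [zero_pow hi, zero_mul]
  · intro h
    exfalso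
    apply h
    simp

lemma rho_zero_comp_shear (t : k) (q : MvPolynomial (Fin 2) k) :
    rho 0 (aeval (shear t) q) = rho t q := by
  have : (rho (0 : k)).comp (aeval (shear t)) = rho t := by
    apply MvPolynomial.algHom_ext
    intro i
    fin_cases i
    · simp [rho, shear]
    · simp [rho, shear]
  exact DFunLike.congr_fun this q

/-- characteristic-free coefficient of `y^j` after the shear -/
lemma coeff_shear (t : k) (q : MvPolynomial (Fin 2) k) (j : ℕ) :
    coeff (Finsupp.single 1 j) (aeval (shear t) q) =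
      ∑ i ∈ Finset.range (j + 1), t ^ i * coeff (Finsupp.single 0 i + Finsupp.single 1 (j - i)) q := by
  rw [← coeff_rho_zero, rho_zero_comp_shear, coeff_rho]

lemma coeff_02_shear' (t : k) (g : MvPolynomial (Fin 2) k) :
    coeff (Finsupp.single 1 2) (aeval (shear t) g) =
      t ^ 2 * coeff (Finsupp.single 0 2) g +
        t * coeff (Finsupp.single 0 1 + Finsupp.single 1 1) g + coeff (Finsupp.single 1 2) g := by
  rw [coeff_shear, Finset.sum_range_succ, Finset.sum_range_succ, Finset.sum_range_one]
  simp only [pow_zero, one_mul, Finsupp.single_zero, zero_add, Nat.sub_zero, pow_one,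
    Nat.add_one_sub_one, Nat.sub_self, add_zero]
  ring

lemma exists_shear' [Infinite k] (g : MvPolynomial (Fin 2) k)
    (hne : ¬ (coeff (Finsupp.single 0 1) g = 0 ∧ coeff (Finsupp.single 1 1) g = 0 ∧
      coeff (Finsupp.single 0 2) g = 0 ∧
      coeff (Finsupp.single 0 1 + Finsupp.single 1 1) g = 0 ∧
      coeff (Finsupp.single 1 2) g = 0)) :
    ∃ t : k, coeff (Finsupp.single 1 1) (aeval (shear t) g) ≠ 0 ∨
      (coeff (Finsupp.single 1 1) (aeval (shear t) g) = 0 ∧
        coeff (Finsupp.single 1 2) (aeval (shear t) g) ≠ 0) := by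
  simp only [coeff_01_shear, coeff_02_shear']
  obtain ⟨c10, h10⟩ : ∃ c, coeff (Finsupp.single 0 1) g = c := ⟨_, rfl⟩
  obtain ⟨c01, h01⟩ : ∃ c, coeff (Finsupp.single 1 1) g = c := ⟨_, rfl⟩
  obtain ⟨c20, h20⟩ : ∃ c, coeff (Finsupp.single 0 2) g = c := ⟨_, rfl⟩
  obtain ⟨c11, h11⟩ : ∃ c, coeff (Finsupp.single 0 1 + Finsupp.single 1 1) g = c := ⟨_, rfl⟩
  obtain ⟨c02, h02⟩ : ∃ c, coeff (Finsupp.single 1 2) g = c := ⟨_, rfl⟩
  rw [h10, h01, h20, h11, h02] at hne
  rw [h10, h01, h20, h11, h02]
  by_cases a01 : c01 = 0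
  · by_cases a10 : c10 = 0
    · subst a01 a10
      by_contra hcon
      push_neg at hcon
      apply hne
      have hall : ∀ t : k, t ^ 2 * c20 + t * c11 + c02 = 0 := fun t => by
        exact (hcon t).2 (by ring)
      have hpoly : (Polynomial.C c20 * Polynomial.X ^ 2 + Polynomial.C c11 * Polynomial.X +
          Polynomial.C c02 : Polynomial k) = 0 := by
        apply Polynomial.funext
        intro t
        simp only [Polynomial.eval_add, Polynomial.eval_mul, Polynomial.eval_C, Polynomial.eval_pow,
          Polynomial.eval_X, Polynomial.eval_zero]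
        rw [← hall t]
        ring
      have e0 := congrArg (fun p => Polynomial.coeff p 0) hpoly
      have e1 := congrArg (fun p => Polynomial.coeff p 1) hpoly
      have e2 := congrArg (fun p => Polynomial.coeff p 2) hpoly
      simp [Polynomial.coeff_X, Polynomial.coeff_C, Polynomial.coeff_X_pow] at e0 e1 e2
      exact ⟨rfl, rfl, e2, e1, e0⟩
    · refine ⟨1, Or.inl ?_⟩
      subst a01
      have : (1 : k) * c10 + 0 = c10 := by ring
      rw [this]
      exact a10
  · refine ⟨0, Or.inl ?_⟩
    have : (0 : k) * c10 + c01 = c01 := by ring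
    rw [this]
    exact a01


section PS

open Groth.Agent.Lib.T2H4.ArSingHessB

lemma Phi_apply (s : k) (q : MvPowerSeries (Fin 2) k) :
    Phi s q = MvPowerSeries.subst (shearPS s) q := by
  show MvPowerSeries.substAlgHom (hasSubst_shearPS s) q = _
  rw [MvPowerSeries.substAlgHom_apply]

lemma Phi_X0 (s : k) : Phi s (MvPowerSeries.X 0) =
    MvPowerSeries.X 0 + MvPowerSeries.C s * MvPowerSeries.X 1 := by
  rw [Phi_apply, MvPowerSeries.subst_X (hasSubst_shearPS s)]
  rfl

lemma Phi_X1 (s : k) : Phi s (MvPowerSeries.X 1) = (MvPowerSeries.X 1 : MvPowerSeries (Fin 2) k) := by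
  rw [Phi_apply, MvPowerSeries.subst_X (hasSubst_shearPS s)]
  rfl

lemma constantCoeff_Phi (s : k) (q : MvPowerSeries (Fin 2) k) :
    MvPowerSeries.constantCoeff (Phi s q) = MvPowerSeries.constantCoeff q := by
  have h1 : q = MvPowerSeries.C (MvPowerSeries.constantCoeff q) +
      (q - MvPowerSeries.C (MvPowerSeries.constantCoeff q)) := by ring
  have h2 : MvPowerSeries.constantCoeff
      (Phi s (q - MvPowerSeries.C (MvPowerSeries.constantCoeff q))) = 0 := by
    rw [Phi_apply]
    apply MvPowerSeries.constantCoeff_subst_eq_zero (hasSubst_shearPS s)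
    · intro i
      fin_cases i <;> simp [shearPS]
    · simp
  have h3 : Phi s (MvPowerSeries.C (MvPowerSeries.constantCoeff q)) =
      MvPowerSeries.C (MvPowerSeries.constantCoeff q) := by
    have := (Phi s).commutes (MvPowerSeries.constantCoeff q)
    rwa [MvPowerSeries.algebraMap_apply, Algebra.algebraMap_self, RingHom.id_apply] at this
  conv_lhs => rw [h1]
  rw [map_add, map_add, h2, h3, add_zero, MvPowerSeries.constantCoeff_C]

lemma ord_one_X (i : Fin 2) : Ord 1 (MvPowerSeries.X i : MvPowerSeries (Fin 2) k) :=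
  (ord_one_iff _).mpr (MvPowerSeries.constantCoeff_X i)

lemma lin_coeff_10 (q1 q2 : MvPowerSeries (Fin 2) k) :
    MvPowerSeries.coeff (Finsupp.single 0 1) (MvPowerSeries.X 0 * q1 + MvPowerSeries.X 1 * q2) =
      MvPowerSeries.constantCoeff q1 := by
  classical
  rw [map_add, mul_comm, coeff_mul_of_ord (ord_one_X 0) q1 _ (by simp), mul_comm (MvPowerSeries.X 1),
    coeff_mul_of_ord (ord_one_X 1) q2 _ (by simp), MvPowerSeries.coeff_index_single_X,
    MvPowerSeries.coeff_index_single_X]
  simp

lemma lin_coeff_01 (q1 q2 : MvPowerSeries (Fin 2) k) :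
    MvPowerSeries.coeff (Finsupp.single 1 1) (MvPowerSeries.X 0 * q1 + MvPowerSeries.X 1 * q2) =
      MvPowerSeries.constantCoeff q2 := by
  classical
  rw [map_add, mul_comm, coeff_mul_of_ord (ord_one_X 0) q1 _ (by simp), mul_comm (MvPowerSeries.X 1),
    coeff_mul_of_ord (ord_one_X 1) q2 _ (by simp), MvPowerSeries.coeff_index_single_X,
    MvPowerSeries.coeff_index_single_X]
  simp

lemma coeff_10_Phi (s : k) (q : MvPowerSeries (Fin 2) k) (hq : MvPowerSeries.constantCoeff q = 0) :
    MvPowerSeries.coeff (Finsupp.single 0 1) (Phi s q) =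
      MvPowerSeries.coeff (Finsupp.single 0 1) q := by
  obtain ⟨q1, q2, rfl⟩ := exists_decomp q hq
  have e : Phi s (MvPowerSeries.X 0 * q1 + MvPowerSeries.X 1 * q2) =
      MvPowerSeries.X 0 * Phi s q1 +
        MvPowerSeries.X 1 * (MvPowerSeries.C s * Phi s q1 + Phi s q2) := by
    rw [map_add, map_mul, map_mul, Phi_X0, Phi_X1]
    ring
  rw [e, lin_coeff_10, lin_coeff_10, constantCoeff_Phi]

lemma coeff_01_Phi (s : k) (q : MvPowerSeries (Fin 2) k) (hq : MvPowerSeries.constantCoeff q = 0) :
    MvPowerSeries.coeff (Finsupp.single 1 1) (Phi s q) =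
      s * MvPowerSeries.coeff (Finsupp.single 0 1) q +
        MvPowerSeries.coeff (Finsupp.single 1 1) q := by
  obtain ⟨q1, q2, rfl⟩ := exists_decomp q hq
  have e : Phi s (MvPowerSeries.X 0 * q1 + MvPowerSeries.X 1 * q2) =
      MvPowerSeries.X 0 * Phi s q1 +
        MvPowerSeries.X 1 * (MvPowerSeries.C s * Phi s q1 + Phi s q2) := by
    rw [map_add, map_mul, map_mul, Phi_X0, Phi_X1]
    ring
  rw [e, lin_coeff_01, lin_coeff_10, lin_coeff_01, map_add, map_mul, constantCoeff_Phi,
    constantCoeff_Phi, MvPowerSeries.constantCoeff_C]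

end PS

end Groth.Agent.Lib.T2H4.ArSingHessD
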