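import Mathlib
import Groth.Agent.Lib.T2H4ArSingHessC
import Groth.Agent.Lib.T2H4ArSingHessD

/-! Helper library (helper4): if the completed local ring `k[[x,y]]/(g)` of a plane curve is
isomorphic to the double line `k[[x,y]]/(y^2)`, then `g = G^2 U` in `k[[x,y]]` with `U` a unit and
`G` a prime element with non-zero linear part. Characteristic free. -/

set_option autoImplicit false

namespace Groth.Agent.Lib.T2H4.ArSingHessE

open scoped Polynomial
open Groth.Agent.Lib.T2H4.ArSingHessA Groth.Agent.Lib.T2H4.ArSingHessB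
  Groth.Agent.Lib.T2H4.ArSingHessC Groth.Agent.Lib.T2H4.ArSingHessD

universe u

variable {k : Type u} [Field k]

attribute [-instance] PowerSeries.algebraPowerSeries MvPowerSeries.algebraMvPowerSeries

/-- Weierstrass factorization of a `y`-regular series of order `n`. -/
lemma exists_weier (F1 : MvPowerSeries (Fin 2) k) (n : ℕ)
    (hn : MvPowerSeries.coeff (Finsupp.single 1 n) F1 ≠ 0)
    (hlt : ∀ i < n, MvPowerSeries.coeff (Finsupp.single 1 i) F1 = 0) :
    ∃ (W : (PowerSeries k)[X]) (h : PowerSeries (PowerSeries k)),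
      (psi e1 F1).IsWeierstrassFactorization W h ∧ W.natDegree = n := by
  have hc : ∀ m, PowerSeries.constantCoeff (PowerSeries.coeff m (psi e1 F1)) =
      MvPowerSeries.coeff (Finsupp.single 1 m) F1 := fun m => by
    rw [constantCoeff_coeff_psi, e1_symm_none]
  have hord : ((psi e1 F1).map (IsLocalRing.residue (PowerSeries k))).order = (n : ℕ) := by
    apply order_map_residue
    · rw [hc]
      exact hn
    · intro i hi
      rw [hc]
      exact hlt i hi
  have hne : (psi e1 F1).map (IsLocalRing.residue (PowerSeries k)) ≠ 0 := by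
    intro h
    rw [h, PowerSeries.order_zero] at hord
    exact ENat.top_ne_natCast _ hord
  obtain ⟨W, h, H⟩ := (psi e1 F1).exists_isWeierstrassFactorization hne
  refine ⟨W, h, H, ?_⟩
  rw [H.natDegree_eq_toNat_order_map, hord]
  rfl

/-- a non-zero element of square zero in `A[Y]/(W)`, `W` monic of degree two, forces `W` to be a
square. -/
lemma sq_of_nilpotent (W : (PowerSeries k)[X]) (hm : W.Monic) (hd : W.natDegree = 2)
    (ζ : (PowerSeries k)[X] ⧸ Ideal.span {W}) (h0 : ζ ≠ 0) (h2 : ζ ^ 2 = 0) :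
    ∃ γ : PowerSeries k, W = (Polynomial.X + Polynomial.C γ) ^ 2 := by
  obtain ⟨r0, rfl⟩ := Ideal.Quotient.mk_surjective ζ
  obtain ⟨r, hr⟩ : ∃ r, r0 %ₘ W = r := ⟨_, rfl⟩
  have hmk : Ideal.Quotient.mk (Ideal.span {W}) r = Ideal.Quotient.mk (Ideal.span {W}) r0 := by
    rw [Ideal.Quotient.eq, Ideal.mem_span_singleton]
    refine ⟨-(r0 /ₘ W), ?_⟩
    rw [← hr, Polynomial.modByMonic_eq_sub_mul_div r0 W]
    ring
  have hdeg : r.natDegree ≤ 1 := by
    have h1 : r.degree < W.degree := by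
      rw [← hr]
      exact Polynomial.degree_modByMonic_lt _ hm
    rw [Polynomial.degree_eq_natDegree hm.ne_zero, hd] at h1
    by_cases hr0 : r = 0
    · rw [hr0]
      simp
    · rw [Polynomial.degree_eq_natDegree hr0] at h1
      have : r.natDegree < 2 := by exact_mod_cast h1
      omega
  obtain ⟨β, α, hrab⟩ := Polynomial.exists_eq_X_add_C_of_natDegree_le_one hdeg
  have hdvd : W ∣ r ^ 2 := by
    rw [← Ideal.mem_span_singleton, ← Ideal.Quotient.eq_zero_iff_mem, map_pow, hmk]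
    exact h2
  obtain ⟨s, hs⟩ := hdvd
  have hsC : s = Polynomial.C (s.coeff 0) := by
    by_cases hs0 : s = 0
    · rw [hs0]
      simp
    · apply Polynomial.eq_C_of_natDegree_eq_zero
      have h1 : (W * s).natDegree = 2 + s.natDegree := by
        rw [hm.natDegree_mul' hs0, hd]
      have h2' : (r ^ 2).natDegree ≤ 2 := by
        calc (r ^ 2).natDegree ≤ 2 * r.natDegree := Polynomial.natDegree_pow_le
          _ ≤ 2 := by omega
      rw [hs, h1] at h2'
      omega
  obtain ⟨σ, hσ⟩ : ∃ σ, s.coeff 0 = σ := ⟨_, rfl⟩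
  rw [hσ] at hsC
  have hW := monic_deg_two_eq W hm hd
  obtain ⟨b, hb⟩ : ∃ b, W.coeff 1 = b := ⟨_, rfl⟩
  obtain ⟨c, hc⟩ : ∃ c, W.coeff 0 = c := ⟨_, rfl⟩
  rw [hb, hc] at hW
  have hL : r ^ 2 = Polynomial.C (β ^ 2) * Polynomial.X ^ 2 + Polynomial.C (2 * α * β) * Polynomial.X +
      Polynomial.C (α ^ 2) := by
    rw [hrab]
    simp only [map_pow, map_mul, map_ofNat]
    ring
  have hR : W * s = Polynomial.C σ * Polynomial.X ^ 2 + Polynomial.C (σ * b) * Polynomial.X +
      Polynomial.C (σ * c) := by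
    rw [hW, hsC]
    simp only [map_mul]
    ring
  have hEq := hs
  rw [hL, hR] at hEq
  obtain ⟨B2, hB2⟩ : ∃ B2, β ^ 2 = B2 := ⟨_, rfl⟩
  obtain ⟨A2, hA2⟩ : ∃ A2, α ^ 2 = A2 := ⟨_, rfl⟩
  obtain ⟨M1, hM1⟩ : ∃ M1, 2 * α * β = M1 := ⟨_, rfl⟩
  obtain ⟨M2, hM2⟩ : ∃ M2, σ * b = M2 := ⟨_, rfl⟩
  obtain ⟨M3, hM3⟩ : ∃ M3, σ * c = M3 := ⟨_, rfl⟩
  rw [hB2, hA2, hM1, hM2, hM3] at hEq
  have c2 : β ^ 2 = σ := by
    have := congrArg (fun p => Polynomial.coeff p 2) hEq
    rw [hB2]
    simpa [Polynomial.coeff_X, Polynomial.coeff_C, Polynomial.coeff_X_pow] using this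
  have c1 : 2 * α * β = σ * b := by
    have := congrArg (fun p => Polynomial.coeff p 1) hEq
    rw [hM1, hM2]
    simpa [Polynomial.coeff_X, Polynomial.coeff_C, Polynomial.coeff_X_pow] using this
  have c0 : α ^ 2 = σ * c := by
    have := congrArg (fun p => Polynomial.coeff p 0) hEq
    rw [hA2, hM3]
    simpa [Polynomial.coeff_X, Polynomial.coeff_C, Polynomial.coeff_X_pow] using this
  have hβ : β ≠ 0 := by
    rintro rfl
    have hσ0 : σ = 0 := by
      rw [← c2]
      ring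
    have hα0 : α = 0 := by
      have : α ^ 2 = 0 := by rw [c0, hσ0, zero_mul]
      exact pow_eq_zero_iff (two_ne_zero) |>.mp this
    apply h0
    rw [← hmk, hrab, hα0]
    simp
  have hdv : β ∣ α := by
    have : β ^ 2 ∣ α ^ 2 := ⟨c, by rw [c0, c2]⟩
    exact (IsIntegrallyClosed.pow_dvd_pow_iff two_ne_zero).mp this
  obtain ⟨γ, rfl⟩ := hdv
  have hβ2 : β ^ 2 ≠ 0 := pow_ne_zero _ hβ
  have hcγ : c = γ ^ 2 := by
    apply mul_left_cancel₀ hβ2
    rw [← c2] at c0
    rw [← c0]
    ring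
  have hbγ : b = 2 * γ := by
    apply mul_left_cancel₀ hβ2
    rw [← c2] at c1
    rw [← c1]
    ring
  refine ⟨γ, ?_⟩
  rw [hW, hcγ, hbγ]
  simp only [map_pow, map_mul, map_ofNat]
  ring

lemma X1_notMem : (MvPowerSeries.X 1 : MvPowerSeries (Fin 2) k) ∉
    Ideal.span {(MvPowerSeries.X 1 : MvPowerSeries (Fin 2) k) ^ 2} := by
  rw [Ideal.mem_span_singleton, MvPowerSeries.X_pow_dvd_iff]
  intro h
  have := h (Finsupp.single 1 1) (by simp)
  simp at this


lemma Phi_symm_apply (t : k) (q : MvPowerSeries (Fin 2) k) : (Phi t).symm q = Phi (-t) q := rfl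

/-- `Y + γ` is a prime element of `k[[x]][[Y]]` when `γ` has no constant term. -/
lemma prime_X_add_C (γ : PowerSeries k) (hγ : PowerSeries.constantCoeff γ = 0) :
    Prime (PowerSeries.X + PowerSeries.C γ : PowerSeries (PowerSeries k)) := by
  have hγ' : PowerSeries.constantCoeff (-γ) = 0 := by rw [map_neg, hγ, neg_zero]
  have hd := distinguished_X_sub_C (-γ) hγ'
  have hcoe : ((Polynomial.X - Polynomial.C (-γ) : (PowerSeries k)[X]) :
      PowerSeries (PowerSeries k)) = PowerSeries.X + PowerSeries.C γ := by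
    simp [sub_eq_add_neg]
  have E1 := hd.algEquivQuotient
  rw [hcoe] at E1
  have E2 := (Polynomial.quotientSpanXSubCAlgEquiv (-γ)).symm.trans E1
  have hdom : IsDomain (PowerSeries (PowerSeries k) ⧸
      Ideal.span {(PowerSeries.X + PowerSeries.C γ : PowerSeries (PowerSeries k))}) :=
    MulEquiv.isDomain _ E2.symm.toMulEquiv
  have hprime : (Ideal.span
      {(PowerSeries.X + PowerSeries.C γ : PowerSeries (PowerSeries k))}).IsPrime :=
    (Ideal.Quotient.isDomain_iff_prime _).mp hdom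
  have hne : (PowerSeries.X + PowerSeries.C γ : PowerSeries (PowerSeries k)) ≠ 0 := by
    intro h
    have := congrArg (PowerSeries.coeff 1) h
    simp at this
  exact (Ideal.span_singleton_prime hne).mp hprime

/-- if `k[[x,y]]/(g) ≅ k[[x,y]]/(y^2)` then `g = G^2 U` with `U` a unit and `G` prime with
non-zero linear part. -/
theorem exists_sq_factor [IsAlgClosed k] (g : MvPolynomial (Fin 2) k)
    (φ : (MvPowerSeries (Fin 2) k ⧸ Ideal.span {(g : MvPowerSeries (Fin 2) k)}) ≃ₐ[k]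
      (MvPowerSeries (Fin 2) k ⧸
        Ideal.span {(MvPowerSeries.X 1 : MvPowerSeries (Fin 2) k) ^ 2})) :
    ∃ G U : MvPowerSeries (Fin 2) k, (g : MvPowerSeries (Fin 2) k) = G ^ 2 * U ∧ IsUnit U ∧
      Prime G ∧ MvPowerSeries.constantCoeff G = 0 ∧
      (MvPowerSeries.coeff (Finsupp.single 0 1) G ≠ 0 ∨
        MvPowerSeries.coeff (Finsupp.single 1 1) G ≠ 0) := by
  classical
  have hcoe : ∀ (q : MvPolynomial (Fin 2) k) (e : Fin 2 →₀ ℕ),
      MvPowerSeries.coeff e (q : MvPowerSeries (Fin 2) k) = MvPolynomial.coeff e q :=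
    fun q e => MvPolynomial.coeff_coe q e
  -- the class of `X 1` in the double line
  have hy0 : Ideal.Quotient.mk (Ideal.span {(MvPowerSeries.X 1 : MvPowerSeries (Fin 2) k) ^ 2})
      (MvPowerSeries.X 1) ≠ 0 := by
    rw [Ne, Ideal.Quotient.eq_zero_iff_mem]
    exact X1_notMem
  have hy2 : Ideal.Quotient.mk (Ideal.span {(MvPowerSeries.X 1 : MvPowerSeries (Fin 2) k) ^ 2})
      (MvPowerSeries.X 1) ^ 2 = 0 := by
    rw [← map_pow, Ideal.Quotient.eq_zero_iff_mem]
    exact Ideal.mem_span_singleton_self _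
  -- constant coefficient
  have h00 : MvPolynomial.coeff 0 g = 0 := by
    by_contra hne
    have hu : IsUnit (g : MvPowerSeries (Fin 2) k) := by
      rw [MvPowerSeries.isUnit_iff_constantCoeff, isUnit_iff_ne_zero,
        ← MvPowerSeries.coeff_zero_eq_constantCoeff_apply, hcoe]
      exact hne
    have htop : Ideal.span {(g : MvPowerSeries (Fin 2) k)} = ⊤ :=
      Ideal.span_singleton_eq_top.mpr hu
    have h1 : (1 : MvPowerSeries (Fin 2) k ⧸ Ideal.span {(g : MvPowerSeries (Fin 2) k)}) = 0 := by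
      rw [← map_one (Ideal.Quotient.mk _), Ideal.Quotient.eq_zero_iff_mem, htop]
      trivial
    apply hy0
    have : φ.symm (Ideal.Quotient.mk _ (MvPowerSeries.X 1)) = 0 := by
      rw [← mul_one (φ.symm _), h1, mul_zero]
    exact (map_eq_zero_iff φ.symm φ.symm.injective).mp this
  -- not of order three
  have hnot3 : ¬ Ord 3 (g : MvPowerSeries (Fin 2) k) := fun h3 =>
    not_twoGen _ h3 (TwoGen.of_equiv φ.toRingEquiv twoGen_dbl)
  have hne : ¬ (MvPolynomial.coeff (Finsupp.single 0 1) g = 0 ∧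
      MvPolynomial.coeff (Finsupp.single 1 1) g = 0 ∧
      MvPolynomial.coeff (Finsupp.single 0 2) g = 0 ∧
      MvPolynomial.coeff (Finsupp.single 0 1 + Finsupp.single 1 1) g = 0 ∧
      MvPolynomial.coeff (Finsupp.single 1 2) g = 0) := by
    rintro ⟨a1, a2, a3, a4, a5⟩
    apply hnot3
    apply ord_three_of_coeff <;> rw [hcoe] <;> assumption
  obtain ⟨t, ht⟩ := exists_shear' g hne
  obtain ⟨g1, hg1⟩ : ∃ g1, MvPolynomial.aeval (shear t) g = g1 := ⟨_, rfl⟩
  rw [hg1] at ht
  have h0 : MvPowerSeries.coeff (Finsupp.single 1 0) (g1 : MvPowerSeries (Fin 2) k) = 0 := by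
    rw [Finsupp.single_zero, hcoe, ← hg1, coeff_zero_shear]
    exact h00
  -- Weierstrass
  obtain ⟨n, hn12, hnc, hlt⟩ : ∃ n : ℕ, (n = 1 ∨ n = 2) ∧
      MvPowerSeries.coeff (Finsupp.single 1 n) (g1 : MvPowerSeries (Fin 2) k) ≠ 0 ∧
      ∀ i < n, MvPowerSeries.coeff (Finsupp.single 1 i) (g1 : MvPowerSeries (Fin 2) k) = 0 := by
    rcases ht with ht | ⟨ht1, ht2⟩
    · refine ⟨1, Or.inl rfl, by rw [hcoe]; exact ht, ?_⟩
      intro i hi
      obtain rfl : i = 0 := by omega
      exact h0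
    · refine ⟨2, Or.inr rfl, by rw [hcoe]; exact ht2, ?_⟩
      intro i hi
      rcases i with _ | _ | i
      · exact h0
      · rw [hcoe]
        exact ht1
      · omega
  obtain ⟨W, h, H, hdeg⟩ := exists_weier (g1 : MvPowerSeries (Fin 2) k) n hnc hlt
  have E1 : (MvPowerSeries (Fin 2) k ⧸ Ideal.span {(g : MvPowerSeries (Fin 2) k)}) ≃ₐ[k]
      (MvPowerSeries (Fin 2) k ⧸ Ideal.span {(g1 : MvPowerSeries (Fin 2) k)}) :=
    quotEquivOfEq (Phi t) (g : MvPowerSeries (Fin 2) k) (g1 : MvPowerSeries (Fin 2) k) (by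
      rw [← hg1]
      exact congrArg (fun x => Ideal.span {x}) (Phi_coe t g).symm)
  have E2 : (MvPowerSeries (Fin 2) k ⧸ Ideal.span {(g1 : MvPowerSeries (Fin 2) k)}) ≃ₐ[k]
      (PowerSeries (PowerSeries k) ⧸ Ideal.span {psi e1 (g1 : MvPowerSeries (Fin 2) k)}) :=
    quotEquivOfEq (psi e1) (g1 : MvPowerSeries (Fin 2) k)
      (psi e1 (g1 : MvPowerSeries (Fin 2) k)) (Eq.refl _)
  have E3 : ((PowerSeries k)[X] ⧸ Ideal.span {W}) ≃ₐ[k]
      (PowerSeries (PowerSeries k) ⧸ Ideal.span {psi e1 (g1 : MvPowerSeries (Fin 2) k)}) :=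
    H.algEquivQuotient.restrictScalars k
  have Θ := φ.symm.trans (E1.trans (E2.trans E3.symm))
  obtain ⟨ζ, hζ⟩ : ∃ ζ, Θ (Ideal.Quotient.mk _ (MvPowerSeries.X 1)) = ζ := ⟨_, rfl⟩
  have hζ0 : ζ ≠ 0 := by
    rw [← hζ]
    intro h
    exact hy0 ((map_eq_zero_iff Θ Θ.injective).mp h)
  have hζ2 : ζ ^ 2 = 0 := by
    rw [← hζ, ← map_pow, hy2, map_zero]
  rcases hn12 with rfl | rfl
  · -- order one: the quotient is a domain, contradiction
    exfalso
    have hW : W = Polynomial.X - Polynomial.C (- W.coeff 0) := by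
      rw [map_neg, sub_neg_eq_add]
      exact H.isDistinguishedAt.monic.eq_X_add_C hdeg
    have E4 : ((PowerSeries k)[X] ⧸ Ideal.span {W}) ≃ₐ[PowerSeries k] PowerSeries k := by
      rw [hW]
      exact Polynomial.quotientSpanXSubCAlgEquiv (- W.coeff 0)
    apply hζ0
    have : E4 ζ ^ 2 = 0 := by rw [← map_pow, hζ2, map_zero]
    have h4 : E4 ζ = 0 := pow_eq_zero_iff two_ne_zero |>.mp this
    exact (map_eq_zero_iff E4 E4.injective).mp h4
  · -- order two
    obtain ⟨γ, hWγ⟩ := sq_of_nilpotent W H.isDistinguishedAt.monic hdeg ζ hζ0 hζ2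
    have hγ : PowerSeries.constantCoeff γ = 0 := by
      have hmem := H.isDistinguishedAt.mem (n := 0) (by omega)
      rw [mem_maximalIdeal_iff', hWγ] at hmem
      have : ((Polynomial.X + Polynomial.C γ : (PowerSeries k)[X]) ^ 2).coeff 0 = γ ^ 2 := by
        rw [pow_two, Polynomial.mul_coeff_zero]
        simp
        ring
      rw [this, map_pow] at hmem
      exact pow_eq_zero_iff two_ne_zero |>.mp hmem
    have hfac : psi e1 (g1 : MvPowerSeries (Fin 2) k) =
        (PowerSeries.X + PowerSeries.C γ) ^ 2 * h := by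
      rw [H.eq_mul, hWγ]
      simp
    obtain ⟨G1, hG1⟩ : ∃ G1, (psi e1).symm (PowerSeries.X + PowerSeries.C γ) = G1 := ⟨_, rfl⟩
    have hG1' : psi e1 G1 = PowerSeries.X + PowerSeries.C γ := by
      rw [← hG1, AlgEquiv.apply_symm_apply]
    have hg1fac : (g1 : MvPowerSeries (Fin 2) k) = G1 ^ 2 * (psi e1).symm h := by
      apply (psi e1).injective
      rw [hfac, map_mul, map_pow, hG1', AlgEquiv.apply_symm_apply]
    have hprime1 : Prime G1 := by
      have := prime_X_add_C γ hγ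
      rw [← hG1]
      exact (MulEquiv.prime_iff (psi (k := k) e1).symm.toMulEquiv).mpr this
    have hc01 : MvPowerSeries.coeff (Finsupp.single 1 1) G1 = 1 := by
      rw [← e1_symm_none, ← constantCoeff_coeff_psi, hG1']
      simp
    have hG10 : MvPowerSeries.constantCoeff G1 = 0 := by
      by_contra hne0
      exact hprime1.not_unit
        (MvPowerSeries.isUnit_iff_constantCoeff.mpr (isUnit_iff_ne_zero.mpr hne0))
    refine ⟨(Phi t).symm G1, (Phi t).symm ((psi e1).symm h), ?_, ?_, ?_, ?_, ?_⟩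
    · apply (Phi t).injective
      rw [map_mul, map_pow, AlgEquiv.apply_symm_apply, AlgEquiv.apply_symm_apply, Phi_coe, hg1]
      exact hg1fac
    · exact (H.isUnit.map (psi (k := k) e1).symm).map (Phi t).symm
    · exact (MulEquiv.prime_iff (Phi t).symm.toMulEquiv).mpr hprime1
    · rw [Phi_symm_apply, constantCoeff_Phi]
      exact hG10
    · rw [Phi_symm_apply, coeff_10_Phi _ _ hG10, coeff_01_Phi _ _ hG10, hc01]
      by_cases h10 : MvPowerSeries.coeff (Finsupp.single 0 1) G1 = 0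
      · right
        rw [h10]
        simp
      · left
        exact h10

end Groth.Agent.Lib.T2H4.ArSingHessE
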