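import Mathlib
import Groth.Agent.Lib.T2H4ArSingHessD

/-! Helper library (helper4): elimination of a variable from two coprime bivariate polynomials
(via resultants and Gauss's lemma), and consequences for formal prime factors of polynomials at a
point of the plane. -/

set_option autoImplicit false

namespace Groth.Agent.Lib.T2H4.ArSingHessF

open scoped Polynomial
open MvPolynomial

universe u

variable {k : Type u} [Field k]

/-- `k[x_0] ≃ k[T]` -/
noncomputable def eps : MvPolynomial (Fin 1) k ≃ₐ[k] k[X] :=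
  (MvPolynomial.renameEquiv k (Equiv.equivPUnit.{1, 1} (Fin 1))).trans (MvPolynomial.pUnitAlgEquiv.{u, 0} k)

lemma finSucc_symm_C (d : MvPolynomial (Fin 1) k) :
    (finSuccEquiv k 1).symm (Polynomial.C d) =
      Polynomial.aeval (X 1 : MvPolynomial (Fin 2) k) (eps d) := by
  have h : ((finSuccEquiv k 1).symm.toAlgHom.comp
      (Polynomial.CAlgHom : MvPolynomial (Fin 1) k →ₐ[k] (MvPolynomial (Fin 1) k)[X])) =
      (Polynomial.aeval (X 1 : MvPolynomial (Fin 2) k)).comp (eps (k := k)).toAlgHom := by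
    apply MvPolynomial.algHom_ext
    intro i
    obtain rfl : i = 0 := Subsingleton.elim _ _
    simp only [AlgHom.comp_apply, AlgEquiv.coe_toAlgHom, Polynomial.CAlgHom_apply]
    rw [← finSuccEquiv_X_succ, AlgEquiv.symm_apply_apply]
    simp [eps]
  exact DFunLike.congr_fun h d

/-- elimination of `X 0`: two polynomials, the first irreducible and not dividing the second,
generate an ideal containing a non-zero polynomial in `X 1` alone. -/
lemma elim0 (p q : MvPolynomial (Fin 2) k) (hp : Irreducible p) (hpq : ¬ p ∣ q) :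
    ∃ r0 : k[X], r0 ≠ 0 ∧
      Polynomial.aeval (X 1 : MvPolynomial (Fin 2) k) r0 ∈ Ideal.span {p, q} := by
  obtain ⟨p', hp'def⟩ : ∃ p', finSuccEquiv k 1 p = p' := ⟨_, rfl⟩
  obtain ⟨q', hq'def⟩ : ∃ q', finSuccEquiv k 1 q = q' := ⟨_, rfl⟩
  have hp' : Irreducible p' := by
    rw [← hp'def]
    exact (MulEquiv.irreducible_iff (finSuccEquiv k 1).toMulEquiv).mpr hp
  have hpq' : ¬ p' ∣ q' := by
    rw [← hp'def, ← hq'def]
    exact fun h => hpq ((map_dvd_iff (finSuccEquiv k 1)).mp h)
  suffices ∃ d : MvPolynomial (Fin 1) k, d ≠ 0 ∧ Polynomial.C d ∈ Ideal.span {p', q'} by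
    obtain ⟨d, hd0, hd⟩ := this
    refine ⟨eps d, (map_ne_zero_iff eps eps.injective).mpr hd0, ?_⟩
    rw [← finSucc_symm_C]
    rw [Ideal.mem_span_pair] at hd ⊢
    obtain ⟨u, v, huv⟩ := hd
    refine ⟨(finSuccEquiv k 1).symm u, (finSuccEquiv k 1).symm v, ?_⟩
    rw [← huv, ← hp'def, ← hq'def]
    simp
  by_cases hdeg : p'.natDegree = 0
  · obtain ⟨d, hd⟩ := Polynomial.natDegree_eq_zero.mp hdeg
    refine ⟨d, ?_, ?_⟩
    · rintro rfl
      rw [map_zero] at hd
      exact hp'.ne_zero hd.symm
    · rw [hd]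
      exact Ideal.subset_span (by simp)
  · have hprim : p'.IsPrimitive := hp'.isPrimitive hdeg
    have hinj : Function.Injective (algebraMap (MvPolynomial (Fin 1) k)
        (FractionRing (MvPolynomial (Fin 1) k))) := IsFractionRing.injective _ _
    have hirr : Irreducible (p'.map (algebraMap (MvPolynomial (Fin 1) k)
        (FractionRing (MvPolynomial (Fin 1) k)))) :=
      (hprim.irreducible_iff_irreducible_map_fraction_map).mp hp'
    have hndvd : ¬ p'.map (algebraMap (MvPolynomial (Fin 1) k)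
        (FractionRing (MvPolynomial (Fin 1) k))) ∣ q'.map (algebraMap (MvPolynomial (Fin 1) k)
        (FractionRing (MvPolynomial (Fin 1) k))) :=
      fun h => hpq' (hprim.dvd_of_fraction_map_dvd_fraction_map h)
    have hcop := (hirr.coprime_iff_not_dvd).mpr hndvd
    have hres : p'.resultant q' ≠ 0 := by
      intro h0
      have h1 := Polynomial.resultant_map_map p' q' p'.natDegree q'.natDegree
        (algebraMap (MvPolynomial (Fin 1) k) (FractionRing (MvPolynomial (Fin 1) k)))
      rw [h0, map_zero] at h1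
      have h2 : (p'.map (algebraMap (MvPolynomial (Fin 1) k)
          (FractionRing (MvPolynomial (Fin 1) k)))).resultant
          (q'.map (algebraMap (MvPolynomial (Fin 1) k)
          (FractionRing (MvPolynomial (Fin 1) k)))) = 0 := by
        rw [Polynomial.natDegree_map_eq_of_injective hinj, Polynomial.natDegree_map_eq_of_injective hinj]
        exact h1
      exact (Polynomial.resultant_eq_zero_iff.mp h2).2 hcop
    obtain ⟨u, v, -, -, huv⟩ :=
      Polynomial.exists_mul_add_mul_eq_C_resultant p' q' le_rfl le_rfl (Or.inl hdeg)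
    refine ⟨_, hres, ?_⟩
    rw [← huv, Ideal.mem_span_pair]
    exact ⟨u, v, by ring⟩


/-- elimination of `X 1`. -/
lemma elim1 (p q : MvPolynomial (Fin 2) k) (hp : Irreducible p) (hpq : ¬ p ∣ q) :
    ∃ r0 : k[X], r0 ≠ 0 ∧
      Polynomial.aeval (X 0 : MvPolynomial (Fin 2) k) r0 ∈ Ideal.span {p, q} := by
  obtain ⟨σ, hσ⟩ : ∃ σ : MvPolynomial (Fin 2) k ≃ₐ[k] MvPolynomial (Fin 2) k,
      σ = MvPolynomial.renameEquiv k (Equiv.swap (0 : Fin 2) 1) := ⟨_, rfl⟩
  have hp' : Irreducible (σ p) := (MulEquiv.irreducible_iff σ.toMulEquiv).mpr hp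
  have hpq' : ¬ σ p ∣ σ q := fun h => hpq ((map_dvd_iff σ).mp h)
  obtain ⟨r0, hr0, hmem⟩ := elim0 (σ p) (σ q) hp' hpq'
  refine ⟨r0, hr0, ?_⟩
  rw [Ideal.mem_span_pair] at hmem ⊢
  obtain ⟨u, v, huv⟩ := hmem
  refine ⟨σ.symm u, σ.symm v, ?_⟩
  have h1 : σ.symm (Polynomial.aeval (X 1 : MvPolynomial (Fin 2) k) r0) =
      Polynomial.aeval (X 0 : MvPolynomial (Fin 2) k) r0 := by
    rw [← Polynomial.aeval_algHom_apply]
    congr 1
    rw [hσ]
    simp
  rw [← h1, ← huv]
  simp

open Groth.Agent.Lib.T2H4.ArSingHessA Groth.Agent.Lib.T2H4.ArSingHessB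
  Groth.Agent.Lib.T2H4.ArSingHessD

lemma constantCoeff_aeval_X (i : Fin 2) (r : k[X]) :
    MvPolynomial.constantCoeff (Polynomial.aeval (X i : MvPolynomial (Fin 2) k) r) = r.coeff 0 := by
  induction r using Polynomial.induction_on' with
  | add p q hp hq => simp only [map_add, hp, hq, Polynomial.coeff_add]
  | monomial n c =>
    rw [Polynomial.aeval_monomial, map_mul, map_pow, MvPolynomial.constantCoeff_X,
      MvPolynomial.algebraMap_eq, MvPolynomial.constantCoeff_C, Polynomial.coeff_monomial]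
    rcases n with _ | n
    · simp
    · simp

/-- a non-zero polynomial in one variable, recentred, is a power of the variable times a unit. -/
lemma tau_aeval_eq (a : Fin 2 → k) (i : Fin 2) (r0 : k[X]) (hr0 : r0 ≠ 0) :
    ∃ (m : ℕ) (w : MvPowerSeries (Fin 2) k), IsUnit w ∧
      ((tau a (Polynomial.aeval (X i : MvPolynomial (Fin 2) k) r0) : MvPolynomial (Fin 2) k) :
        MvPowerSeries (Fin 2) k) = MvPowerSeries.X i ^ m * w := by
  have h1 : tau a (Polynomial.aeval (X i : MvPolynomial (Fin 2) k) r0) =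
      Polynomial.aeval (X i : MvPolynomial (Fin 2) k) (r0.comp (Polynomial.X + Polynomial.C (a i))) := by
    rw [← Polynomial.aeval_algHom_apply, Polynomial.aeval_comp]
    congr 1
    simp [tau]
  have hr1 : r0.comp (Polynomial.X + Polynomial.C (a i)) ≠ 0 := by
    rw [← Polynomial.taylor_apply]
    exact (map_ne_zero_iff _ (Polynomial.taylor_injective (a i))).mpr hr0
  obtain ⟨r2, hr2, hnd⟩ := Polynomial.exists_eq_pow_rootMultiplicity_mul_and_not_dvd _ hr1 0
  rw [map_zero, sub_zero] at hr2 hnd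
  obtain ⟨m, hm⟩ : ∃ m, Polynomial.rootMultiplicity 0
      (r0.comp (Polynomial.X + Polynomial.C (a i))) = m := ⟨_, rfl⟩
  rw [hm] at hr2
  refine ⟨m, ((Polynomial.aeval (X i : MvPolynomial (Fin 2) k) r2 : MvPolynomial (Fin 2) k) :
    MvPowerSeries (Fin 2) k), ?_, ?_⟩
  · rw [MvPowerSeries.isUnit_iff_constantCoeff, isUnit_iff_ne_zero,
      ← MvPowerSeries.coeff_zero_eq_constantCoeff_apply, MvPolynomial.coeff_coe,
      ← MvPolynomial.constantCoeff_eq, constantCoeff_aeval_X]
    intro h
    exact hnd (Polynomial.X_dvd_iff.mpr h)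
  · rw [h1]
    conv_lhs => rw [hr2]
    rw [map_mul, map_pow, Polynomial.aeval_X, MvPolynomial.coe_mul, MvPolynomial.coe_pow,
      MvPolynomial.coe_X]

/-- a formal prime of order one cannot divide two coprime polynomials (recentred at `a`). -/
lemma no_common_prime (a : Fin 2 → k) (G : MvPowerSeries (Fin 2) k) (hG : Prime G)
    (hG0 : MvPowerSeries.constantCoeff G = 0)
    (hlin : MvPowerSeries.coeff (Finsupp.single 0 1) G ≠ 0 ∨
      MvPowerSeries.coeff (Finsupp.single 1 1) G ≠ 0)
    (p q : MvPolynomial (Fin 2) k) (hp : Irreducible p) (hpq : ¬ p ∣ q)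
    (h1 : G ∣ ((tau a p : MvPolynomial (Fin 2) k) : MvPowerSeries (Fin 2) k))
    (h2 : G ∣ ((tau a q : MvPolynomial (Fin 2) k) : MvPowerSeries (Fin 2) k)) : False := by
  classical
  have hspan : ∀ r ∈ Ideal.span {p, q},
      G ∣ ((tau a r : MvPolynomial (Fin 2) k) : MvPowerSeries (Fin 2) k) := by
    intro r hr
    rw [Ideal.mem_span_pair] at hr
    obtain ⟨u, v, rfl⟩ := hr
    rw [map_add, map_mul, map_mul, MvPolynomial.coe_add, MvPolynomial.coe_mul,
      MvPolynomial.coe_mul]
    exact dvd_add (Dvd.dvd.mul_left h1 _) (Dvd.dvd.mul_left h2 _)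
  have hord : Ord 1 G := (ord_one_iff G).mpr hG0
  have key : ∀ i : Fin 2, (∃ r0 : k[X], r0 ≠ 0 ∧
      Polynomial.aeval (X i : MvPolynomial (Fin 2) k) r0 ∈ Ideal.span {p, q}) →
      ∃ w1, (MvPowerSeries.X i : MvPowerSeries (Fin 2) k) = w1 * G := by
    rintro i ⟨r0, hr0, hmem⟩
    obtain ⟨m, w, hw, hfac⟩ := tau_aeval_eq a i r0 hr0
    have hd := hspan _ hmem
    rw [hfac] at hd
    have hd2 : G ∣ MvPowerSeries.X i ^ m := (IsUnit.dvd_mul_right hw).mp hd
    obtain ⟨w1, hw1⟩ := hG.dvd_of_dvd_pow hd2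
    exact ⟨w1, by rw [hw1, mul_comm]⟩
  by_cases h01 : MvPowerSeries.coeff (Finsupp.single 1 1) G = 0
  · have h10 : MvPowerSeries.coeff (Finsupp.single 0 1) G ≠ 0 := by
      rcases hlin with h | h
      · exact h
      · exact absurd h01 h
    obtain ⟨w1, hw1⟩ := key 1 (elim0 p q hp hpq)
    have e0 := congrArg (MvPowerSeries.coeff (Finsupp.single 0 1)) hw1
    have e1 := congrArg (MvPowerSeries.coeff (Finsupp.single 1 1)) hw1
    rw [coeff_mul_of_ord hord w1 _ (by simp), MvPowerSeries.coeff_index_single_X] at e0 e1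
    simp only [show ((0 : Fin 2) = 1) = False from by simp, if_false, if_true] at e0 e1
    have hw0 : MvPowerSeries.constantCoeff w1 = 0 := by
      rcases mul_eq_zero.mp e0.symm with h | h
      · exact h
      · exact absurd h h10
    rw [hw0, zero_mul] at e1
    exact one_ne_zero e1
  · obtain ⟨w1, hw1⟩ := key 0 (elim1 p q hp hpq)
    have e0 := congrArg (MvPowerSeries.coeff (Finsupp.single 0 1)) hw1
    have e1 := congrArg (MvPowerSeries.coeff (Finsupp.single 1 1)) hw1
    rw [coeff_mul_of_ord hord w1 _ (by simp), MvPowerSeries.coeff_index_single_X] at e0 e1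
    simp only [show ((1 : Fin 2) = 0) = False from by simp, if_false, if_true] at e0 e1
    have hw0 : MvPowerSeries.constantCoeff w1 = 0 := by
      rcases mul_eq_zero.mp e1.symm with h | h
      · exact h
      · exact absurd h h01
    rw [hw0, zero_mul] at e0
    exact one_ne_zero e0


/-- over a perfect field, an irreducible polynomial has a non-zero partial derivative. -/
lemma exists_pderiv_ne_zero [PerfectField k] (p : MvPolynomial (Fin 2) k) (hp : Irreducible p) :
    ∃ i : Fin 2, pderiv i p ≠ 0 := by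
  classical
  by_contra hcon
  push_neg at hcon
  have hcast : ∀ e ∈ p.support, ∀ i : Fin 2, ((e i : ℕ) : k) = 0 := by
    intro e he i
    by_cases hei : e i = 0
    · rw [hei, Nat.cast_zero]
    · have h1 := coeff_pderiv (i := i) p (e - Finsupp.single i 1)
      rw [hcon i, coeff_zero] at h1
      have h2 : e - Finsupp.single i 1 + Finsupp.single i 1 = e := by
        ext j
        by_cases hj : j = i
        · subst hj
          simp only [Finsupp.coe_add, Finsupp.coe_tsub, Pi.add_apply, Pi.sub_apply,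
            Finsupp.single_eq_same]
          omega
        · simp [Finsupp.single_apply, Ne.symm hj]
      have h3 : ((((e - Finsupp.single i 1 : Fin 2 →₀ ℕ)) i : ℕ) : k) + 1 = ((e i : ℕ) : k) := by
        simp only [Finsupp.coe_tsub, Pi.sub_apply, Finsupp.single_eq_same]
        have : e i - 1 + 1 = e i := by omega
        conv_rhs => rw [← this]
        push_cast
        rfl
      rw [h2, h3] at h1
      rcases mul_eq_zero.mp h1.symm with h | h
      · exact absurd h (mem_support_iff.mp he)
      · exact h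
  obtain ⟨ℓ, hℓ⟩ : ∃ ℓ, ringExpChar k = ℓ := ⟨_, rfl⟩
  haveI : ExpChar k ℓ := hℓ ▸ (inferInstance : ExpChar k (ringExpChar k))
  rcases expChar_is_prime_or_one k ℓ with hprime | hone
  · -- characteristic `ℓ`
    haveI : Fact ℓ.Prime := ⟨hprime⟩
    haveI : CharP k ℓ := by
      rcases ‹ExpChar k ℓ› with _ | ⟨hp'⟩
      · exact absurd rfl hprime.ne_one
      · assumption
    haveI : PerfectRing k ℓ := PerfectField.toPerfectRing ℓ
    have hdvd : ∀ e ∈ p.support, ∀ i : Fin 2, ℓ ∣ e i := fun e he i =>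
      (CharP.cast_eq_zero_iff k ℓ (e i)).mp (hcast e he i)
    let p1 : MvPolynomial (Fin 2) k := ∑ e ∈ p.support,
      monomial (e.mapRange (· / ℓ) (Nat.zero_div _)) ((frobeniusEquiv k ℓ).symm (coeff e p))
    have hp1 : p1 ^ ℓ = p := by
      rw [← map_frobenius_expand]
      simp only [p1, map_sum, expand_monomial, map_monomial, frobenius_apply_frobeniusEquiv_symm]
      conv_rhs => rw [← support_sum_monomial_coeff p]
      apply Finset.sum_congr rfl
      intro e he
      have he' : ℓ • Finsupp.mapRange (· / ℓ) (Nat.zero_div _) e = e := by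
        ext i
        rw [Finsupp.smul_apply, Finsupp.mapRange_apply, smul_eq_mul]
        exact Nat.mul_div_cancel' (hdvd e he i)
      rw [he']
    rw [← hp1] at hp
    exact not_irreducible_pow hprime.ne_one hp
  · -- characteristic zero
    subst hone
    haveI : CharZero k := by
      rcases ‹ExpChar k 1› with _ | ⟨hp'⟩
      · assumption
      · exact absurd hp' Nat.not_prime_one
    have hsupp : ∀ e ∈ p.support, e = 0 := by
      intro e he
      ext i
      have := hcast e he i
      simpa using this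
    have hpC : p = C (coeff 0 p) := by
      ext e
      rw [coeff_C]
      by_cases he : e = 0
      · rw [if_pos he.symm, he]
      · rw [if_neg (Ne.symm he)]
        by_contra hne
        exact he (hsupp e (mem_support_iff.mpr hne))
    by_cases hc : coeff 0 p = 0
    · rw [hc, map_zero] at hpC
      exact hp.ne_zero hpC
    · apply hp.not_isUnit
      rw [hpC]
      exact (isUnit_iff_ne_zero.mpr hc).map C

lemma totalDegree_pderiv_lt (p : MvPolynomial (Fin 2) k) (i : Fin 2) (h : pderiv i p ≠ 0) :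
    (pderiv i p).totalDegree < p.totalDegree := by
  classical
  have key : ∀ e ∈ (pderiv i p).support, (e.sum fun _ n => n) + 1 ≤ p.totalDegree := by
    intro e he
    rw [mem_support_iff, coeff_pderiv] at he
    have h1 : coeff (e + Finsupp.single i 1) p ≠ 0 := left_ne_zero_of_mul he
    have h2 := le_totalDegree (mem_support_iff.mpr h1)
    rw [Finsupp.sum_add_index' (fun _ => rfl) (fun _ _ _ => rfl),
      Finsupp.sum_single_index rfl] at h2
    exact h2
  obtain ⟨e0, he0⟩ : (pderiv i p).support.Nonempty := by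
    rw [Finset.nonempty_iff_ne_empty, Ne, support_eq_empty]
    exact h
  have hpos := key e0 he0
  have hle : (pderiv i p).totalDegree ≤ p.totalDegree - 1 := by
    rw [totalDegree]
    apply Finset.sup_le
    intro e he
    have := key e he
    omega
  omega

lemma not_dvd_pderiv (p : MvPolynomial (Fin 2) k) (i : Fin 2) (h : pderiv i p ≠ 0) :
    ¬ p ∣ pderiv i p := by
  rintro ⟨s, hs⟩
  have hs0 : s ≠ 0 := by
    rintro rfl
    rw [mul_zero] at hs
    exact h hs
  have hp0 : p ≠ 0 := by
    rintro rfl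
    rw [zero_mul] at hs
    exact h hs
  have h1 := totalDegree_pderiv_lt p i h
  rw [hs, totalDegree_mul_of_isDomain hp0 hs0] at h1
  omega


section Final

variable [IsAlgClosed k] (a : Fin 2 → k) (G : MvPowerSeries (Fin 2) k) (hG : Prime G)
  (hG0 : MvPowerSeries.constantCoeff G = 0)
  (hlin : MvPowerSeries.coeff (Finsupp.single 0 1) G ≠ 0 ∨
    MvPowerSeries.coeff (Finsupp.single 1 1) G ≠ 0)

/-- recentring at `a` followed by the inclusion into power series -/
noncomputable def iota : MvPolynomial (Fin 2) k →+* MvPowerSeries (Fin 2) k :=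
  (MvPolynomial.coeToMvPowerSeries.ringHom).comp (tau a).toRingHom

lemma iota_apply (r : MvPolynomial (Fin 2) k) :
    iota a r = ((tau a r : MvPolynomial (Fin 2) k) : MvPowerSeries (Fin 2) k) := rfl

include hG hG0 hlin

/-- an irreducible polynomial is not formally divisible by the square of `G`. -/
lemma not_sq_dvd (p : MvPolynomial (Fin 2) k) (hp : Irreducible p)
    (V : MvPowerSeries (Fin 2) k) (h : iota a p = G ^ 2 * V) : False := by
  obtain ⟨i, hi⟩ := exists_pderiv_ne_zero p hp
  apply no_common_prime a G hG hG0 hlin p (pderiv i p) hp (not_dvd_pderiv p i hi)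
  · rw [← iota_apply, h]
    exact ⟨G * V, by ring⟩
  · rw [← pderiv_tau, ← MvPowerSeries.pderiv_coe, ← iota_apply, h]
    have : G ^ 2 * V = G * (G * V) := by ring
    rw [this]
    simp only [Derivation.leibniz, smul_eq_mul]
    exact ⟨G * MvPowerSeries.pderiv k i V + V * MvPowerSeries.pderiv k i G +
      V * MvPowerSeries.pderiv k i G, by ring⟩

lemma exists_irreducible_factor (f : MvPolynomial (Fin 2) k) (hf : f ≠ 0) (hd : G ∣ iota a f) :
    ∃ p, Irreducible p ∧ p ∣ f ∧ G ∣ iota a p := by
  revert hf hd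
  refine UniqueFactorizationMonoid.induction_on_prime f ?_ ?_ ?_
  · intro h
    exact absurd rfl h
  · intro x hx _ hd
    exact absurd (isUnit_of_dvd_unit hd (hx.map (iota a))) hG.not_unit
  · intro b p hb hp ih _ hd
    rw [map_mul] at hd
    rcases hG.dvd_or_dvd hd with h | h
    · exact ⟨p, hp.irreducible, dvd_mul_right p b, h⟩
    · obtain ⟨p', hp', hdvd, hG'⟩ := ih hb h
      exact ⟨p', hp', Dvd.dvd.mul_left hdvd p, hG'⟩

/-- if the recentred polynomial is `G^2 U` formally, it is `g^2 h` with `g` smooth at `a`. -/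
theorem exists_poly_factor (f : MvPolynomial (Fin 2) k) (U : MvPowerSeries (Fin 2) k)
    (hU : IsUnit U) (hfac : iota a f = G ^ 2 * U) :
    ∃ g h : MvPolynomial (Fin 2) k, f = g ^ 2 * h ∧ MvPolynomial.eval a h ≠ 0 ∧
      MvPolynomial.eval a g = 0 ∧
      ∃ i : Fin 2, MvPolynomial.eval a (MvPolynomial.pderiv i g) ≠ 0 := by
  classical
  have hGne : G ≠ 0 := hG.ne_zero
  have hf0 : f ≠ 0 := by
    rintro rfl
    rw [map_zero] at hfac
    have := mul_eq_zero.mp hfac.symm
    rcases this with h | h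
    · exact hGne (pow_eq_zero_iff two_ne_zero |>.mp h)
    · exact hU.ne_zero h
  -- first irreducible factor
  obtain ⟨p, hp, ⟨f1, hf1⟩, ⟨V, hV⟩⟩ :=
    exists_irreducible_factor a G hG hG0 hlin f hf0 ⟨G * U, by rw [hfac]; ring⟩
  have hf10 : f1 ≠ 0 := by
    rintro rfl
    rw [mul_zero] at hf1
    exact hf0 hf1
  have e1 : V * iota a f1 = G * U := by
    apply mul_left_cancel₀ hGne
    rw [← mul_assoc, ← hV, ← map_mul, ← hf1, hfac]
    ring
  have hVu : IsUnit V := by
    by_contra hVn
    rcases hG.dvd_or_dvd (⟨U, e1⟩ : G ∣ V * iota a f1) with ⟨V', hV'⟩ | ⟨W, hW⟩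
    · apply not_sq_dvd a G hG hG0 hlin p hp V'
      rw [hV, hV']
      ring
    · apply hVn
      have : V * W = U := by
        apply mul_left_cancel₀ hGne
        rw [← e1, hW]
        ring
      exact isUnit_of_mul_isUnit_left (this ▸ hU)
  have hGf1 : G ∣ iota a f1 := by
    rcases hG.dvd_or_dvd (⟨U, e1⟩ : G ∣ V * iota a f1) with h | h
    · exact absurd (isUnit_of_dvd_unit h hVu) hG.not_unit
    · exact h
  -- second irreducible factor
  obtain ⟨q, hq, hqf1, hGq⟩ := exists_irreducible_factor a G hG hG0 hlin f1 hf10 hGf1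
  have hpq : p ∣ q := by
    by_contra hndvd
    exact no_common_prime a G hG hG0 hlin p q hp hndvd ⟨V, hV⟩ hGq
  obtain ⟨h, hh⟩ := dvd_trans hpq hqf1
  have hfph : f = p ^ 2 * h := by
    rw [hf1, hh]
    ring
  have e2 : V ^ 2 * iota a h = U := by
    apply mul_left_cancel₀ (pow_ne_zero 2 hGne)
    rw [← hfac, hfph, map_mul, map_pow, hV]
    ring
  have hhu : IsUnit (iota a h) := isUnit_of_mul_isUnit_right (e2 ▸ hU)
  have hord : Groth.Agent.Lib.T2H4.ArSingHessB.Ord 1 G :=
    (Groth.Agent.Lib.T2H4.ArSingHessB.ord_one_iff G).mpr hG0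
  refine ⟨p, h, hfph, ?_, ?_, ?_⟩
  · rw [Groth.Agent.Lib.T2H4.ArSingHessA.eval_eq, ← MvPolynomial.coeff_coe, ← iota_apply,
      MvPowerSeries.coeff_zero_eq_constantCoeff_apply]
    exact isUnit_iff_ne_zero.mp (MvPowerSeries.isUnit_iff_constantCoeff.mp hhu)
  · rw [Groth.Agent.Lib.T2H4.ArSingHessA.eval_eq, ← MvPolynomial.coeff_coe, ← iota_apply,
      MvPowerSeries.coeff_zero_eq_constantCoeff_apply, hV, map_mul, hG0, zero_mul]
  · have hV0 : MvPowerSeries.constantCoeff V ≠ 0 :=
      isUnit_iff_ne_zero.mp (MvPowerSeries.isUnit_iff_constantCoeff.mp hVu)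
    have hcoef : ∀ i : Fin 2, MvPolynomial.eval a (MvPolynomial.pderiv i p) =
        MvPowerSeries.constantCoeff V * MvPowerSeries.coeff (Finsupp.single i 1) G := by
      intro i
      rw [eval_pderiv_eq, ← MvPolynomial.coeff_coe, ← iota_apply, hV, mul_comm,
        Groth.Agent.Lib.T2H4.ArSingHessB.coeff_mul_of_ord hord V _ (by
          fin_cases i <;> simp)]
    rcases hlin with h | h
    · exact ⟨0, by rw [hcoef]; exact mul_ne_zero hV0 h⟩
    · exact ⟨1, by rw [hcoef]; exact mul_ne_zero hV0 h⟩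

end Final

end Groth.Agent.Lib.T2H4.ArSingHessF
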