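import Mathlib
import Groth.Agent.Lib.T2H4ArSingHessE

/-! Helper library (helper4): the completed local ring of the plane curve `g^2 h = 0` at a point
where `h ≠ 0` and `g` is smooth is the double line `k[[x,y]]/(y^2)`. -/

set_option autoImplicit false

namespace Groth.Agent.Lib.T2H4.ArSingHessG

open scoped Polynomial
open Groth.Agent.Lib.T2H4.ArSingHessA Groth.Agent.Lib.T2H4.ArSingHessB
  Groth.Agent.Lib.T2H4.ArSingHessC Groth.Agent.Lib.T2H4.ArSingHessD
  Groth.Agent.Lib.T2H4.ArSingHessE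

universe u

variable {k : Type u} [Field k]

attribute [-instance] PowerSeries.algebraPowerSeries MvPowerSeries.algebraMvPowerSeries

theorem equiv_dbl_of_sq (a : Fin 2 → k) (g h : MvPolynomial (Fin 2) k)
    (hh : MvPolynomial.eval a h ≠ 0) (hg : MvPolynomial.eval a g = 0)
    (hi : ∃ i : Fin 2, MvPolynomial.eval a (MvPolynomial.pderiv i g) ≠ 0) :
    Nonempty ((MvPowerSeries (Fin 2) k ⧸ Ideal.span
      {((tau a (g ^ 2 * h) : MvPolynomial (Fin 2) k) : MvPowerSeries (Fin 2) k)}) ≃ₐ[k]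
      (MvPowerSeries (Fin 2) k ⧸
        Ideal.span {(MvPowerSeries.X 1 : MvPowerSeries (Fin 2) k) ^ 2})) := by
  classical
  have hcoe : ∀ (q : MvPolynomial (Fin 2) k) (e : Fin 2 →₀ ℕ),
      MvPowerSeries.coeff e (q : MvPowerSeries (Fin 2) k) = MvPolynomial.coeff e q :=
    fun q e => MvPolynomial.coeff_coe q e
  obtain ⟨G0, hG0⟩ : ∃ G0, tau a g = G0 := ⟨_, rfl⟩
  have h00 : MvPolynomial.coeff 0 G0 = 0 := by
    rw [← hG0, ← eval_eq]
    exact hg
  have hlin : MvPolynomial.coeff (Finsupp.single 0 1) G0 ≠ 0 ∨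
      MvPolynomial.coeff (Finsupp.single 1 1) G0 ≠ 0 := by
    obtain ⟨i, hi⟩ := hi
    rw [eval_pderiv_eq, hG0] at hi
    fin_cases i
    · exact Or.inl hi
    · exact Or.inr hi
  obtain ⟨t, ht⟩ : ∃ t : k, MvPolynomial.coeff (Finsupp.single 1 1)
      (MvPolynomial.aeval (shear t) G0) ≠ 0 := by
    by_cases h01 : MvPolynomial.coeff (Finsupp.single 1 1) G0 = 0
    · refine ⟨1, ?_⟩
      rw [coeff_01_shear, h01, one_mul, add_zero]
      rcases hlin with h | h
      · exact h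
      · exact absurd h01 h
    · refine ⟨0, ?_⟩
      rw [coeff_01_shear, zero_mul, zero_add]
      exact h01
  obtain ⟨G1, hG1⟩ : ∃ G1, MvPolynomial.aeval (shear t) G0 = G1 := ⟨_, rfl⟩
  rw [hG1] at ht
  have h0 : MvPowerSeries.coeff (Finsupp.single 1 0) (G1 : MvPowerSeries (Fin 2) k) = 0 := by
    rw [Finsupp.single_zero, hcoe, ← hG1, coeff_zero_shear]
    exact h00
  obtain ⟨W, h', H, hdeg⟩ := exists_weier (G1 : MvPowerSeries (Fin 2) k) 1
    (by rw [hcoe]; exact ht) (by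
      intro i hi
      obtain rfl : i = 0 := by omega
      exact h0)
  have hW : W = Polynomial.X + Polynomial.C (W.coeff 0) :=
    H.isDistinguishedAt.monic.eq_X_add_C hdeg
  -- the unit
  have hu : IsUnit ((tau a h : MvPolynomial (Fin 2) k) : MvPowerSeries (Fin 2) k) := by
    rw [MvPowerSeries.isUnit_iff_constantCoeff, isUnit_iff_ne_zero,
      ← MvPowerSeries.coeff_zero_eq_constantCoeff_apply, hcoe, ← eval_eq]
    exact hh
  obtain ⟨Fp, hFp⟩ : ∃ Fp, ((tau a (g ^ 2 * h) : MvPolynomial (Fin 2) k) :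
      MvPowerSeries (Fin 2) k) = Fp := ⟨_, rfl⟩
  have hFp' : Fp = (G0 : MvPowerSeries (Fin 2) k) ^ 2 *
      ((tau a h : MvPolynomial (Fin 2) k) : MvPowerSeries (Fin 2) k) := by
    rw [← hFp, map_mul, map_pow, hG0, MvPolynomial.coe_mul, MvPolynomial.coe_pow]
  obtain ⟨u1, hu1⟩ : ∃ u1, psi e1 (Phi t
      ((tau a h : MvPolynomial (Fin 2) k) : MvPowerSeries (Fin 2) k)) = u1 := ⟨_, rfl⟩
  have hu1u : IsUnit u1 := by
    rw [← hu1]
    exact (hu.map (Phi t)).map (psi (k := k) e1)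
  have hfac : psi e1 (Phi t Fp) = ((W ^ 2 : (PowerSeries k)[X]) : PowerSeries (PowerSeries k)) *
      (h' ^ 2 * u1) := by
    rw [hFp', map_mul, map_pow, map_mul, map_pow, Phi_coe, hG1, hu1, H.eq_mul,
      Polynomial.coe_pow]
    ring
  have HW : (psi e1 (Phi t Fp)).IsWeierstrassFactorization (W ^ 2) (h' ^ 2 * u1) := by
    refine ⟨?_, (H.isUnit.pow 2).mul hu1u, hfac⟩
    rw [pow_two]
    exact H.isDistinguishedAt.mul H.isDistinguishedAt
  have E1 : (MvPowerSeries (Fin 2) k ⧸ Ideal.span {Fp}) ≃ₐ[k]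
      (MvPowerSeries (Fin 2) k ⧸ Ideal.span {Phi t Fp}) :=
    quotEquivOfEq (Phi t) Fp (Phi t Fp) (Eq.refl _)
  have E2 : (MvPowerSeries (Fin 2) k ⧸ Ideal.span {Phi t Fp}) ≃ₐ[k]
      (PowerSeries (PowerSeries k) ⧸ Ideal.span {psi e1 (Phi t Fp)}) :=
    quotEquivOfEq (psi e1) (Phi t Fp) (psi e1 (Phi t Fp)) (Eq.refl _)
  have E3 : ((PowerSeries k)[X] ⧸ Ideal.span {W ^ 2}) ≃ₐ[k]
      (PowerSeries (PowerSeries k) ⧸ Ideal.span {psi e1 (Phi t Fp)}) :=
    HW.algEquivQuotient.restrictScalars k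
  have hθ : Polynomial.algEquivAevalXAddC (- W.coeff 0) (W ^ 2) =
      (Polynomial.X ^ 2 - Polynomial.C (0 : PowerSeries k) : (PowerSeries k)[X]) := by
    have : Polynomial.algEquivAevalXAddC (- W.coeff 0) W = Polynomial.X := by
      conv_lhs => rw [hW]
      simp [Polynomial.algEquivAevalXAddC_apply]
    rw [map_pow, this, map_zero, sub_zero]
  have E4 : ((PowerSeries k)[X] ⧸ Ideal.span {W ^ 2}) ≃ₐ[k]
      ((PowerSeries k)[X] ⧸ Ideal.span
        {(Polynomial.X ^ 2 - Polynomial.C (0 : PowerSeries k) : (PowerSeries k)[X])}) :=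
    (quotEquivOfEq (Polynomial.algEquivAevalXAddC (- W.coeff 0)) (W ^ 2)
      (Polynomial.X ^ 2 - Polynomial.C (0 : PowerSeries k)) (by rw [hθ])).restrictScalars k
  have E5 := equivOfDistinguished e1 _
    (distinguished_X_sq_sub_C (0 : PowerSeries k) (map_zero _))
    ((MvPowerSeries.X 1 : MvPowerSeries (Fin 2) k) ^ 2) (by
      rw [map_pow, psi_X_none e1 1 rfl]
      simp)
  rw [hFp]
  exact ⟨E1.trans (E2.trans (E3.symm.trans (E4.trans E5)))⟩

end Groth.Agent.Lib.T2H4.ArSingHessG
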