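import Mathlib
set_option backward.isDefEq.respectTransparency.types false

/-!
# The ideal of the base change of a closed immersion, on stalks (helper4)

Namespace `Groth.Agent.Lib.T2H4.BCClosedImm`.

For `f : X' ⟶ X` and a closed immersion `i : D ⟶ X`, with `j : X' ×_X D ⟶ X'` and
`g : X' ×_X D ⟶ D` the projections: at a point `z`, the kernel of `O_{X', j z} → O_{X' ×_X D, z}`
is generated by the image of the kernel of `O_{X, i (g z)} → O_{D, g z}` (`ker_stalkMap_fst`).
The proof follows `Groth.Agent.Lib.Helper10.FibStalk.ker_eq_map`.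
-/

set_option autoImplicit false
set_option linter.style.haveILetI false
universe u
open CategoryTheory CategoryTheory.Limits AlgebraicGeometry TopologicalSpace Opposite

namespace Groth.Agent.Lib.T2H4.BCClosedImm

variable {X X' D : Scheme.{u}} (f : X' ⟶ X) (i : D ⟶ X)

theorem apply_eq (z : ↥(pullback f i)) : f (pullback.fst f i z) = i (pullback.snd f i z) := by
  rw [← Scheme.Hom.comp_apply, ← Scheme.Hom.comp_apply, pullback.condition]

/-- the identification `O_{X, f (j z)} → O_{X, i (g z)}` -/
noncomputable def tau (z : ↥(pullback f i)) :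
    X.presheaf.stalk (f (pullback.fst f i z)) →+* X.presheaf.stalk (i (pullback.snd f i z)) :=
  (X.presheaf.stalkSpecializes (specializes_of_eq (apply_eq f i z).symm)).hom

/-- the inverse identification `O_{X, i (g z)} → O_{X, f (j z)}` -/
noncomputable def tau' (z : ↥(pullback f i)) :
    X.presheaf.stalk (i (pullback.snd f i z)) →+* X.presheaf.stalk (f (pullback.fst f i z)) :=
  (X.presheaf.stalkSpecializes (specializes_of_eq (apply_eq f i z))).hom

theorem tau_tau' (z : ↥(pullback f i)) (c : X.presheaf.stalk (i (pullback.snd f i z))) :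
    tau f i z (tau' f i z c) = c := by
  unfold tau tau'
  have h := TopCat.Presheaf.stalkSpecializes_comp X.presheaf
    (specializes_of_eq (apply_eq f i z).symm) (specializes_of_eq (apply_eq f i z))
  have h2 := congrArg (fun φ => φ.hom c) h
  simp only [TopCat.Presheaf.stalkSpecializes_refl] at h2
  exact h2

theorem tau'_tau (z : ↥(pullback f i)) (c : X.presheaf.stalk (f (pullback.fst f i z))) :
    tau' f i z (tau f i z c) = c := by
  unfold tau tau'
  have h := TopCat.Presheaf.stalkSpecializes_comp X.presheaf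
    (specializes_of_eq (apply_eq f i z)) (specializes_of_eq (apply_eq f i z).symm)
  have h2 := congrArg (fun φ => φ.hom c) h
  simp only [TopCat.Presheaf.stalkSpecializes_refl] at h2
  exact h2

/-- the commutative square of stalk maps -/
theorem stalkMap_square (z : ↥(pullback f i)) (a : X.presheaf.stalk (f (pullback.fst f i z))) :
    ((pullback.fst f i).stalkMap z).hom ((f.stalkMap (pullback.fst f i z)).hom a) =
      ((pullback.snd f i).stalkMap z).hom ((i.stalkMap (pullback.snd f i z)).hom (tau f i z a)) := by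
  have h1 := Scheme.Hom.stalkMap_congr_hom (pullback.fst f i ≫ f) (pullback.snd f i ≫ i)
    pullback.condition z
  rw [Scheme.Hom.stalkMap_comp, Scheme.Hom.stalkMap_comp, TopCat.Presheaf.stalkCongr_hom] at h1
  exact congrArg (fun φ => φ.hom a) h1

/-- the kernel in `O_{X, f (j z)}` of the map to `O_{D, g z}` -/
noncomputable def kerBase (z : ↥(pullback f i)) :
    Ideal (X.presheaf.stalk (f (pullback.fst f i z))) :=
  RingHom.ker ((i.stalkMap (pullback.snd f i z)).hom.comp (tau f i z))

theorem map_kerBase_le_ker (z : ↥(pullback f i)) :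
    Ideal.map (f.stalkMap (pullback.fst f i z)).hom (kerBase f i z) ≤
      RingHom.ker ((pullback.fst f i).stalkMap z).hom := by
  rw [Ideal.map_le_iff_le_comap]
  intro a ha
  rw [Ideal.mem_comap, RingHom.mem_ker, stalkMap_square]
  have h1 : (i.stalkMap (pullback.snd f i z)).hom (tau f i z a) = 0 := ha
  rw [h1, map_zero]

theorem kerBase_le_maximalIdeal (z : ↥(pullback f i)) :
    kerBase f i z ≤ IsLocalRing.maximalIdeal (X.presheaf.stalk (f (pullback.fst f i z))) :=
  IsLocalRing.le_maximalIdeal (RingHom.ker_ne_top _)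

theorem ker_le_map_kerBase [IsClosedImmersion i] (z : ↥(pullback f i)) :
    RingHom.ker ((pullback.fst f i).stalkMap z).hom ≤
      Ideal.map (f.stalkMap (pullback.fst f i z)).hom (kerBase f i z) := by
  set x' := pullback.fst f i z with hx'
  set d := pullback.snd f i z with hd
  set I := Ideal.map (f.stalkMap x').hom (kerBase f i z) with hIdef
  have hI : I ≤ IsLocalRing.maximalIdeal (X'.presheaf.stalk x') :=
    (Ideal.map_mono (kerBase_le_maximalIdeal f i z)).trans
      (IsLocalRing.map_maximalIdeal_le (f.stalkMap x').hom)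
  have hI' : I ≠ ⊤ := ne_top_of_le_ne_top (IsLocalRing.maximalIdeal.isMaximal _).ne_top hI
  have : Nontrivial (X'.presheaf.stalk x' ⧸ I) := Ideal.Quotient.nontrivial_iff.mpr hI'
  have : IsLocalRing (X'.presheaf.stalk x' ⧸ I) :=
    IsLocalRing.of_surjective' (Ideal.Quotient.mk I) Ideal.Quotient.mk_surjective
  let R : CommRingCat.{u} := CommRingCat.of (X'.presheaf.stalk x' ⧸ I)
  have : IsLocalRing R := inferInstanceAs (IsLocalRing (X'.presheaf.stalk x' ⧸ I))
  let q : X'.presheaf.stalk x' ⟶ R := CommRingCat.ofHom (Ideal.Quotient.mk I)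
  have : IsLocalHom q.hom :=
    IsLocalHom.of_surjective (Ideal.Quotient.mk I) Ideal.Quotient.mk_surjective
  -- the map `O_{D,d} → R`
  let φ₀ : X.presheaf.stalk (i d) →+* (X'.presheaf.stalk x' ⧸ I) :=
    (Ideal.Quotient.mk I).comp ((f.stalkMap x').hom.comp (tau' f i z))
  have hker : RingHom.ker (i.stalkMap d).hom ≤ RingHom.ker φ₀ := by
    intro c hc
    rw [RingHom.mem_ker] at hc ⊢
    change (Ideal.Quotient.mk I) ((f.stalkMap x').hom (tau' f i z c)) = 0
    rw [Ideal.Quotient.eq_zero_iff_mem]
    refine Ideal.mem_map_of_mem _ ?_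
    change (i.stalkMap d).hom (tau f i z (tau' f i z c)) = 0
    rw [tau_tau']
    exact hc
  let ψ : D.presheaf.stalk d →+* (X'.presheaf.stalk x' ⧸ I) :=
    (i.stalkMap d).hom.liftOfSurjective (i.stalkMap_surjective d) ⟨φ₀, hker⟩
  have hψ : ψ.comp (i.stalkMap d).hom = φ₀ :=
    RingHom.liftOfSurjective_comp (i.stalkMap d).hom (i.stalkMap_surjective d) ⟨φ₀, hker⟩
  let ψ' : D.presheaf.stalk d ⟶ R := CommRingCat.ofHom ψ
  let g₁ : Spec R ⟶ X' := Spec.map q ≫ X'.fromSpecStalk x'
  let g₂ : Spec R ⟶ D := Spec.map ψ' ≫ D.fromSpecStalk d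
  have comm : g₁ ≫ f = g₂ ≫ i := by
    have e1 : i.stalkMap d ≫ ψ' =
        X.presheaf.stalkSpecializes (specializes_of_eq (apply_eq f i z)) ≫ f.stalkMap x' ≫ q := by
      ext c
      exact congrArg (fun φ => φ c) hψ
    simp only [g₁, g₂, Category.assoc]
    rw [← Scheme.SpecMap_stalkMap_fromSpecStalk, ← Scheme.SpecMap_stalkMap_fromSpecStalk,
      ← Spec.map_comp_assoc, ← Spec.map_comp_assoc, e1]
    simp only [Spec.map_comp, Category.assoc]
    rw [Scheme.SpecMap_stalkSpecializes_fromSpecStalk]
  let G : Spec R ⟶ pullback f i := pullback.lift g₁ g₂ comm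
  have hG : G ≫ pullback.fst f i = g₁ := pullback.lift_fst _ _ _
  let c : Spec R := IsLocalRing.closedPoint R
  have hc : (pullback.fst f i) (G c) = (pullback.fst f i) z := by
    have h1 : (G ≫ pullback.fst f i) c = g₁ c := by
      rw [hG]
    refine h1.trans ?_
    have h2 : (Spec.map q) c = IsLocalRing.closedPoint (X'.presheaf.stalk x') :=
      Spec_closedPoint
    have h3 : g₁ c = X'.fromSpecStalk x' ((Spec.map q) c) := rfl
    rw [h3, h2]
    exact Scheme.fromSpecStalk_closedPoint
  have hy : G c = z := (pullback.fst f i).isEmbedding.injective hc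
  intro a ha
  rw [RingHom.mem_ker] at ha
  rw [← Ideal.Quotient.eq_zero_iff_mem]
  obtain ⟨U, hxU, a', rfl⟩ := X'.presheaf.exists_germ_eq a
  have hφ : (pullback f i).presheaf.germ (pullback.fst f i ⁻¹ᵁ U) z hxU
      ((pullback.fst f i).app U a') = 0 := by
    rw [← Scheme.Hom.germ_stalkMap_apply]
    exact ha
  have hφ' : ∀ (y' : ↥(pullback f i)) (hy' : y' = z) (hm : y' ∈ pullback.fst f i ⁻¹ᵁ U),
      (pullback f i).presheaf.germ (pullback.fst f i ⁻¹ᵁ U) y' hm
        ((pullback.fst f i).app U a') = 0 := by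
    rintro _ rfl _
    exact hφ
  have hm : G c ∈ pullback.fst f i ⁻¹ᵁ U := by rw [hy]; exact hxU
  have key := hφ' (G c) hy hm
  have e1 : ∀ (k : Spec R ⟶ X') (hk : k = g₁) (hU : k c ∈ U),
      (X'.presheaf.germ U (k c) hU ≫ Scheme.stalkClosedPointTo k) =
        X'.presheaf.germ U x' hxU ≫ q := by
    rintro _ rfl hU
    exact Scheme.germ_stalkClosedPointTo_Spec_fromSpecStalk q U hU
  have e2 := e1 (G ≫ pullback.fst f i) hG hm
  rw [Scheme.stalkClosedPointTo_comp] at e2
  have e3 := congrArg (fun φ => φ.hom a') e2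
  have e4 : (Scheme.stalkClosedPointTo G).hom (((pullback.fst f i).stalkMap (G c)).hom
      ((X'.presheaf.germ U ((pullback.fst f i) (G c)) hm) a')) =
      (Ideal.Quotient.mk I) (X'.presheaf.germ U _ hxU a') := e3
  have e5 : ((pullback.fst f i).stalkMap (G c)).hom
      ((X'.presheaf.germ U ((pullback.fst f i) (G c)) hm) a') = 0 :=
    (Scheme.Hom.germ_stalkMap_apply (pullback.fst f i) U (G c) hm a').trans key
  rw [← e4, e5, map_zero]

/-- **the ideal of the base change of a closed immersion is generated by the pulled back ideal** -/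
theorem ker_stalkMap_fst [IsClosedImmersion i] (z : ↥(pullback f i)) :
    RingHom.ker ((pullback.fst f i).stalkMap z).hom =
      Ideal.map (f.stalkMap (pullback.fst f i z)).hom (kerBase f i z) :=
  le_antisymm (ker_le_map_kerBase f i z) (map_kerBase_le_ker f i z)

end Groth.Agent.Lib.T2H4.BCClosedImm
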