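import Mathlib

/-!
# Basic elements (Eisenbud–Evans) in matrix form

For a Noetherian ring `R`, a family of vectors `v : Fin (k+1) → (Fin l → R)`, a set `Pr` of primes
stable under generization and a "dimension function" `δ` on it, if the rank of the family modulo
`𝔭` is at least `min (k+1) (δ 𝔭 + 1)` for all `𝔭 ∈ Pr`, then some combination
`v 0 + ∑ c i • v i` is nonzero modulo every `𝔭 ∈ Pr` (`ee`).  This is the engine behind Serre's
splitting theorem and Bass' cancellation theorem.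
-/

namespace Groth.Agent.Lib.T2H4.BasicElt

open Module Submodule Matrix

/-- The modified family `w i + α i • w last`. -/
def modFam {A M : Type*} [Semiring A] [AddCommMonoid M] [Module A M] {k : ℕ}
    (w : Fin (k + 2) → M) (α : Fin (k + 1) → A) : Fin (k + 1) → M :=
  fun i => w i.castSucc + α i • w (Fin.last (k + 1))

section LinAlg

variable (K : Type*) {V : Type*} [Field K] [AddCommGroup V] [Module K V]

/-- Dimension of the span of a family of vectors. -/
noncomputable def dimSpan {ι : Type*} (w : ι → V) : ℕ := finrank K (span K (Set.range w))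

variable {K}

theorem span_le_modFam_sup {k : ℕ} (w : Fin (k + 2) → V) (α : Fin (k + 1) → K) :
    span K (Set.range w) ≤
      span K (Set.range (modFam w α)) ⊔ span K {w (Fin.last (k + 1))} := by
  rw [span_le]
  rintro _ ⟨j, rfl⟩
  refine Fin.lastCases ?_ (fun i => ?_) j
  · exact mem_sup_right (subset_span rfl)
  · have h : w i.castSucc = modFam w α i - α i • w (Fin.last (k + 1)) := by simp [modFam]
    show w i.castSucc ∈ _
    rw [h]
    exact sub_mem (mem_sup_left (subset_span ⟨i, rfl⟩))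
      (mem_sup_right (smul_mem _ _ (subset_span rfl)))

theorem dimSpan_le_modFam_succ [FiniteDimensional K V] {k : ℕ} (w : Fin (k + 2) → V)
    (α : Fin (k + 1) → K) : dimSpan K w ≤ dimSpan K (modFam w α) + 1 := by
  unfold dimSpan
  calc finrank K (span K (Set.range w))
      ≤ finrank K ↥(span K (Set.range (modFam w α)) ⊔ span K {w (Fin.last (k + 1))}) :=
        Submodule.finrank_mono (span_le_modFam_sup w α)
    _ ≤ finrank K (span K (Set.range (modFam w α))) + finrank K (span K {w (Fin.last (k + 1))}) :=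
        Submodule.finrank_add_le_finrank_add_finrank _ _
    _ ≤ finrank K (span K (Set.range (modFam w α))) + 1 := by
        gcongr
        have := finrank_span_le_card (R := K) ({w (Fin.last (k + 1))} : Set V)
        simpa using this

theorem span_modFam_le {k : ℕ} (w : Fin (k + 2) → V) (α : Fin (k + 1) → K) :
    span K (Set.range (modFam w α)) ≤ span K (Set.range w) := by
  rw [span_le]
  rintro _ ⟨i, rfl⟩
  exact add_mem (subset_span ⟨_, rfl⟩) (smul_mem _ _ (subset_span ⟨_, rfl⟩))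

/-- The local improvement step. -/
theorem exists_improve [FiniteDimensional K V] {k : ℕ} (w : Fin (k + 2) → V)
    (α : Fin (k + 1) → K) (ρ : K) (hρ : ρ ≠ 0) (h : dimSpan K w ≤ k + 1) :
    ∃ β : Fin (k + 1) → K, (β = 0 ∨ ∃ j, β = Pi.single j 1) ∧
      dimSpan K w ≤ dimSpan K (modFam w (α + ρ • β)) := by
  by_cases h1 : dimSpan K w ≤ dimSpan K (modFam w α)
  · exact ⟨0, Or.inl rfl, by simpa using h1⟩
  · push Not at h1
    have hnli : ¬ LinearIndependent K (modFam w α) := by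
      intro hli
      have := finrank_span_eq_card hli
      simp only [Fintype.card_fin] at this
      unfold dimSpan at h1 h
      omega
    obtain ⟨c, hc0, j, hcj⟩ := Fintype.not_linearIndependent_iff.1 hnli
    refine ⟨Pi.single j 1, Or.inr ⟨j, rfl⟩, ?_⟩
    set α' := α + ρ • (Pi.single j (1 : K) : Fin (k + 1) → K) with hα'
    have hsum : ∑ i, c i • modFam w α' i = (c j * ρ) • w (Fin.last (k + 1)) := by
      have h2 : ∀ i, c i • modFam w α' i =
          c i • modFam w α i + (c i * ρ * (Pi.single j (1 : K) : Fin (k + 1) → K) i) •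
            w (Fin.last (k + 1)) := by
        intro i
        simp only [modFam, hα', Pi.add_apply, Pi.smul_apply, smul_eq_mul, add_smul, smul_add,
          smul_smul]
        rw [add_assoc]
        congr 2
        ring_nf
      simp_rw [h2, Finset.sum_add_distrib, hc0, zero_add, ← Finset.sum_smul]
      congr 1
      simp [Pi.single_apply]
    have hlast : w (Fin.last (k + 1)) ∈ span K (Set.range (modFam w α')) := by
      have h3 : w (Fin.last (k + 1)) = (c j * ρ)⁻¹ • ∑ i, c i • modFam w α' i := by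
        rw [hsum, smul_smul, inv_mul_cancel₀ (mul_ne_zero hcj hρ), one_smul]
      rw [h3]
      exact smul_mem _ _ (sum_mem fun i _ => smul_mem _ _ (subset_span ⟨i, rfl⟩))
    have hle : span K (Set.range w) ≤ span K (Set.range (modFam w α')) := by
      refine (span_le_modFam_sup w α').trans (sup_le le_rfl ?_)
      rw [span_le, Set.singleton_subset_iff]
      exact hlast
    exact Submodule.finrank_mono hle

end LinAlg

section Ring

variable {R : Type*} [CommRing R]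

/-- Reduction of a vector to the residue field at `𝔭`. -/
noncomputable def red (𝔭 : PrimeSpectrum R) {l : ℕ} (x : Fin l → R) :
    Fin l → 𝔭.asIdeal.ResidueField :=
  fun j => algebraMap R 𝔭.asIdeal.ResidueField (x j)

/-- The rank of a family of vectors modulo `𝔭`. -/
noncomputable def rk (𝔭 : PrimeSpectrum R) {ι : Type*} {l : ℕ} (v : ι → (Fin l → R)) : ℕ :=
  dimSpan 𝔭.asIdeal.ResidueField (fun i => red 𝔭 (v i))

theorem red_modFam (𝔭 : PrimeSpectrum R) {l k : ℕ} (v : Fin (k + 2) → (Fin l → R))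
    (a : Fin (k + 1) → R) :
    (fun i => red 𝔭 (modFam v a i)) =
      modFam (fun i => red 𝔭 (v i)) (fun i => algebraMap R 𝔭.asIdeal.ResidueField (a i)) := by
  funext i j
  simp [modFam, red, Algebra.smul_def]

theorem red_eq_zero_iff (𝔭 : PrimeSpectrum R) {l : ℕ} (x : Fin l → R) :
    red 𝔭 x = 0 ↔ ∀ j, x j ∈ 𝔭.asIdeal := by
  simp only [funext_iff, red, Pi.zero_apply, Ideal.algebraMap_residueField_eq_zero]

/-- The ideal generated by the `(t+1)`-minors of the family. -/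
def minorIdeal {ι : Type*} {l : ℕ} (v : ι → (Fin l → R)) (t : ℕ) : Ideal R :=
  Ideal.span {x | ∃ (s : Fin (t + 1) → ι) (r : Fin (t + 1) → Fin l),
    x = Matrix.det (Matrix.of fun a b => v (s b) (r a))}

theorem le_rk_of_det_notMem (𝔭 : PrimeSpectrum R) {ι : Type*} {l : ℕ} (v : ι → (Fin l → R))
    {t : ℕ} (s : Fin (t + 1) → ι) (r : Fin (t + 1) → Fin l)
    (h : Matrix.det (Matrix.of fun a b => v (s b) (r a)) ∉ 𝔭.asIdeal) : t + 1 ≤ rk 𝔭 v := by
  set κ := 𝔭.asIdeal.ResidueField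
  set w : ι → (Fin l → κ) := fun i => red 𝔭 (v i) with hw
  set D : Matrix (Fin (t + 1)) (Fin (t + 1)) R := Matrix.of fun a b => v (s b) (r a) with hD
  set D' : Matrix (Fin (t + 1)) (Fin (t + 1)) κ := Matrix.of fun a b => w (s b) (r a) with hD'
  have hDD' : D' = (algebraMap R κ).mapMatrix D := by
    ext a b
    simp only [hD', hD, hw, red, Matrix.of_apply, RingHom.mapMatrix_apply, Matrix.map_apply]
    rfl
  have hdet : D'.det ≠ 0 := by
    rw [hDD', ← RingHom.map_det]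
    intro h0
    exact h (Ideal.algebraMap_residueField_eq_zero.1 h0)
  have hli : LinearIndependent κ (w ∘ s) := by
    rw [Fintype.linearIndependent_iff]
    intro g hg
    have hmv : D' *ᵥ g = 0 := by
      funext a
      have := congrFun hg (r a)
      simp only [Function.comp_apply, Finset.sum_apply, Pi.smul_apply, smul_eq_mul,
        Pi.zero_apply] at this
      simp only [Matrix.mulVec, dotProduct, hD', Matrix.of_apply, Pi.zero_apply]
      rw [← this]
      exact Finset.sum_congr rfl fun b _ => mul_comm _ _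
    have := Matrix.eq_zero_of_mulVec_eq_zero hdet hmv
    intro b
    exact congrFun this b
  have hcard := finrank_span_eq_card hli
  simp only [Fintype.card_fin] at hcard
  unfold rk dimSpan
  rw [← hcard]
  exact Submodule.finrank_mono (span_mono (Set.range_comp_subset_range s w))

theorem exists_det_notMem_of_le_rk (𝔭 : PrimeSpectrum R) {ι : Type*} {l : ℕ}
    (v : ι → (Fin l → R)) {t : ℕ} (h : t + 1 ≤ rk 𝔭 v) :
    ∃ (s : Fin (t + 1) → ι) (r : Fin (t + 1) → Fin l),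
      Matrix.det (Matrix.of fun a b => v (s b) (r a)) ∉ 𝔭.asIdeal := by
  set κ := 𝔭.asIdeal.ResidueField
  set w : ι → (Fin l → κ) := fun i => red 𝔭 (v i) with hw
  obtain ⟨f, hf_mem, -, hf_li⟩ := exists_fun_fin_finrank_span_eq κ (Set.range w)
  have h' : t + 1 ≤ finrank κ (span κ (Set.range w)) := h
  set f' : Fin (t + 1) → (Fin l → κ) := f ∘ Fin.castLE h' with hf'
  have hli' : LinearIndependent κ f' := hf_li.comp _ (Fin.castLE_injective h')
  choose s hs using fun b => hf_mem (Fin.castLE h' b)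
  set M : Matrix (Fin (t + 1)) (Fin l) κ := Matrix.of f' with hM
  have hMrank : M.rank = t + 1 := by
    have := LinearIndependent.rank_matrix (M := M) hli'
    simpa using this
  have hcols : finrank κ (span κ (Set.range M.col)) = t + 1 := by
    rw [← Matrix.rank_eq_finrank_span_cols, hMrank]
  obtain ⟨g, hg_mem, -, hg_li⟩ := exists_fun_fin_finrank_span_eq κ (Set.range M.col)
  set g' : Fin (t + 1) → (Fin (t + 1) → κ) := g ∘ Fin.cast hcols.symm with hg'
  have hgli' : LinearIndependent κ g' := hg_li.comp _ (Fin.cast_injective _)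
  choose r hr using fun a => hg_mem (Fin.cast hcols.symm a)
  refine ⟨s, r, ?_⟩
  set G : Matrix (Fin (t + 1)) (Fin (t + 1)) κ := Matrix.of g' with hG
  have hGunit : IsUnit G := Matrix.linearIndependent_rows_iff_isUnit.1 hgli'
  have hGdet : G.det ≠ 0 := ((Matrix.isUnit_iff_isUnit_det G).1 hGunit).ne_zero
  have hGD : G = (algebraMap R κ).mapMatrix (Matrix.of fun a b => v (s b) (r a)) := by
    ext a b
    have h1 : g' a b = M.col (r a) b := by
      simp only [hg', Function.comp_apply]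
      rw [← hr a]
    have h2 : M.col (r a) b = w (s b) (r a) := by
      simp only [Matrix.col, Matrix.transpose_apply, hM, Matrix.of_apply, hf', Function.comp_apply]
      rw [← hs b]
    simp only [hG, Matrix.of_apply, RingHom.mapMatrix_apply, Matrix.map_apply]
    rw [h1, h2]
    simp only [hw, red]
    rfl
  intro hmem
  apply hGdet
  rw [hGD, ← RingHom.map_det]
  exact Ideal.algebraMap_residueField_eq_zero.2 hmem

theorem rk_le_iff (𝔭 : PrimeSpectrum R) {ι : Type*} {l : ℕ} (v : ι → (Fin l → R)) (t : ℕ) :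
    rk 𝔭 v ≤ t ↔ minorIdeal v t ≤ 𝔭.asIdeal := by
  constructor
  · intro h
    unfold minorIdeal
    rw [Ideal.span_le]
    rintro _ ⟨s, r, rfl⟩
    by_contra hx
    have := le_rk_of_det_notMem 𝔭 v s r hx
    omega
  · intro h
    by_contra hlt
    push Not at hlt
    obtain ⟨s, r, hsr⟩ := exists_det_notMem_of_le_rk 𝔭 v (t := t) hlt
    exact hsr (h (Ideal.subset_span ⟨s, r, rfl⟩))

end Ring

section Main

variable {R : Type*} [CommRing R]

theorem rk_modFam_congr (𝔭 : PrimeSpectrum R) {l k : ℕ} (v : Fin (k + 2) → (Fin l → R))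
    (a a' : Fin (k + 1) → R) (h : ∀ i, a i - a' i ∈ 𝔭.asIdeal) :
    rk 𝔭 (modFam v a) = rk 𝔭 (modFam v a') := by
  unfold rk
  rw [red_modFam, red_modFam]
  have hα : (fun i => algebraMap R 𝔭.asIdeal.ResidueField (a i)) =
      fun i => algebraMap R 𝔭.asIdeal.ResidueField (a' i) := by
    funext i
    have := Ideal.algebraMap_residueField_eq_zero.2 (h i)
    rwa [map_sub, sub_eq_zero] at this
  rw [hα]

theorem rk_le_modFam_succ (𝔭 : PrimeSpectrum R) {l k : ℕ} (v : Fin (k + 2) → (Fin l → R))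
    (a : Fin (k + 1) → R) : rk 𝔭 v ≤ rk 𝔭 (modFam v a) + 1 := by
  unfold rk
  rw [red_modFam]
  exact dimSpan_le_modFam_succ _ _

theorem exists_improve_at (𝔭 : PrimeSpectrum R) {l k : ℕ} (v : Fin (k + 2) → (Fin l → R))
    (a : Fin (k + 1) → R) (r : R) (hr : r ∉ 𝔭.asIdeal) (h : rk 𝔭 v ≤ k + 1) :
    ∃ b : Fin (k + 1) → R, rk 𝔭 v ≤ rk 𝔭 (modFam v (a + r • b)) := by
  have hρ : algebraMap R 𝔭.asIdeal.ResidueField r ≠ 0 := fun h0 =>
    hr (Ideal.algebraMap_residueField_eq_zero.1 h0)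
  obtain ⟨β, hβ, hle⟩ := exists_improve (K := 𝔭.asIdeal.ResidueField)
    (fun i => red 𝔭 (v i)) (fun i => algebraMap R 𝔭.asIdeal.ResidueField (a i))
    (algebraMap R 𝔭.asIdeal.ResidueField r) hρ h
  rcases hβ with rfl | ⟨j, rfl⟩
  · refine ⟨0, ?_⟩
    unfold rk
    rw [red_modFam]
    have hα : (fun i => algebraMap R 𝔭.asIdeal.ResidueField ((a + r • (0 : Fin (k + 1) → R)) i)) =
        (fun i => algebraMap R 𝔭.asIdeal.ResidueField (a i)) +
          algebraMap R 𝔭.asIdeal.ResidueField r • (0 : Fin (k + 1) → 𝔭.asIdeal.ResidueField) := by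
      funext i
      simp
    rw [hα]
    exact hle
  · refine ⟨Pi.single j 1, ?_⟩
    unfold rk
    rw [red_modFam]
    have hα : (fun i => algebraMap R 𝔭.asIdeal.ResidueField
          ((a + r • (Pi.single j 1 : Fin (k + 1) → R)) i)) =
        (fun i => algebraMap R 𝔭.asIdeal.ResidueField (a i)) +
          algebraMap R 𝔭.asIdeal.ResidueField r •
            (Pi.single j 1 : Fin (k + 1) → 𝔭.asIdeal.ResidueField) := by
      funext i
      by_cases hij : i = j
      · subst hij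
        simp [Algebra.smul_def]
      · simp [hij]
    rw [hα]
    exact hle

/-- One step of the Eisenbud–Evans reduction. -/
theorem lemmaA [IsNoetherianRing R] {l k : ℕ} (Pr : Set (PrimeSpectrum R))
    (hPr : ∀ 𝔭 ∈ Pr, ∀ 𝔮 : PrimeSpectrum R, 𝔮 ≤ 𝔭 → 𝔮 ∈ Pr)
    (δ : PrimeSpectrum R → ℕ)
    (hδ : ∀ 𝔭 ∈ Pr, ∀ 𝔮 : PrimeSpectrum R, 𝔮 < 𝔭 → δ 𝔭 + 1 ≤ δ 𝔮)
    (v : Fin (k + 2) → (Fin l → R))
    (hv : ∀ 𝔭 ∈ Pr, min (k + 2) (δ 𝔭 + 1) ≤ rk 𝔭 v) :
    ∃ a : Fin (k + 1) → R, ∀ 𝔭 ∈ Pr, min (k + 1) (δ 𝔭 + 1) ≤ rk 𝔭 (modFam v a) := by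
  classical
  set B : Set (PrimeSpectrum R) := {𝔭 | 𝔭 ∈ Pr ∧ rk 𝔭 v ≤ min (k + 1) (δ 𝔭 + 1)} with hB
  have hBk : ∀ 𝔭 ∈ B, rk 𝔭 v ≤ k + 1 := fun 𝔭 h => h.2.trans (min_le_left _ _)
  have hBfin : B.Finite := by
    have hsub : B ⊆ ⋃ t ∈ Finset.range (k + 2),
        PrimeSpectrum.asIdeal ⁻¹' (minorIdeal v t).minimalPrimes := by
      rintro 𝔭 ⟨h𝔭, hrk⟩
      have h1 := hv 𝔭 h𝔭
      have ht : rk 𝔭 v = δ 𝔭 + 1 := by
        omega
      have htk : rk 𝔭 v ≤ k + 1 := hrk.trans (min_le_left _ _)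
      simp only [Set.mem_iUnion, Finset.mem_range, Set.mem_preimage, exists_prop]
      refine ⟨rk 𝔭 v, by omega, ?_⟩
      refine ⟨⟨𝔭.isPrime, (rk_le_iff 𝔭 v _).1 le_rfl⟩, ?_⟩
      rintro 𝔮 ⟨h𝔮prime, h𝔮le⟩ h𝔮𝔭
      by_contra hne
      have hlt : (⟨𝔮, h𝔮prime⟩ : PrimeSpectrum R) < 𝔭 := lt_of_le_not_ge h𝔮𝔭 hne
      have h𝔮P := hPr 𝔭 h𝔭 _ hlt.le
      have h2 := hv _ h𝔮P
      have h3 := hδ 𝔭 h𝔭 _ hlt
      have h4 : rk (⟨𝔮, h𝔮prime⟩ : PrimeSpectrum R) v ≤ rk 𝔭 v := (rk_le_iff _ v _).2 h𝔮le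
      have h5 : rk 𝔭 v + 1 ≤ min (k + 2) (δ (⟨𝔮, h𝔮prime⟩ : PrimeSpectrum R) + 1) :=
        le_min (by omega) (by omega)
      omega
    refine Set.Finite.subset ?_ hsub
    refine Set.Finite.biUnion (Finset.finite_toSet _) fun t _ => ?_
    refine Set.Finite.preimage ?_ (Ideal.finite_minimalPrimes_of_isNoetherianRing R _)
    intro x _ y _ hxy
    exact PrimeSpectrum.ext hxy
  have key : ∀ (n : ℕ) (F : Finset (PrimeSpectrum R)), F.card = n →
      (∀ 𝔭 ∈ F, rk 𝔭 v ≤ k + 1) →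
      ∃ a : Fin (k + 1) → R, ∀ 𝔭 ∈ F, rk 𝔭 v ≤ rk 𝔭 (modFam v a) := by
    intro n
    induction n with
    | zero =>
      intro F hF _
      exact ⟨0, by simp [Finset.card_eq_zero.1 hF]⟩
    | succ n ih =>
      intro F hF hFk
      have hne : F.Nonempty := by
        rw [← Finset.card_pos]; omega
      obtain ⟨𝔭₀, h𝔭₀, hmin⟩ := F.exists_minimal hne
      obtain ⟨a, ha⟩ := ih (F.erase 𝔭₀) (by rw [Finset.card_erase_of_mem h𝔭₀]; omega)
        (fun 𝔭 h => hFk 𝔭 (Finset.mem_of_mem_erase h))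
      have hr : ∃ r : R, (∀ 𝔮 ∈ F.erase 𝔭₀, r ∈ 𝔮.asIdeal) ∧ r ∉ 𝔭₀.asIdeal := by
        have hnot : ¬ ((F.erase 𝔭₀).inf PrimeSpectrum.asIdeal ≤ 𝔭₀.asIdeal) := by
          rw [Ideal.IsPrime.inf_le' 𝔭₀.isPrime]
          rintro ⟨𝔮, h𝔮, hle⟩
          have h𝔮F := Finset.mem_of_mem_erase h𝔮
          have hne := Finset.ne_of_mem_erase h𝔮
          have hle' : 𝔮 ≤ 𝔭₀ := hle
          exact hne (le_antisymm hle' (hmin h𝔮F hle'))
        obtain ⟨r, hr1, hr2⟩ := SetLike.not_le_iff_exists.1 hnot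
        exact ⟨r, fun 𝔮 h𝔮 => (Finset.inf_le h𝔮 : _ ≤ 𝔮.asIdeal) hr1, hr2⟩
      obtain ⟨r, hr1, hr2⟩ := hr
      obtain ⟨b, hb⟩ := exists_improve_at 𝔭₀ v a r hr2 (hFk 𝔭₀ h𝔭₀)
      refine ⟨a + r • b, fun 𝔭 h𝔭 => ?_⟩
      by_cases h : 𝔭 = 𝔭₀
      · subst h; exact hb
      · have h1 := ha 𝔭 (Finset.mem_erase.2 ⟨h, h𝔭⟩)
        rw [rk_modFam_congr 𝔭 v (a + r • b) a (fun i => by
          simpa using Ideal.mul_mem_right _ _ (hr1 𝔭 (Finset.mem_erase.2 ⟨h, h𝔭⟩)))]
        exact h1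
  obtain ⟨a, ha⟩ := key _ hBfin.toFinset rfl (fun 𝔭 h => hBk 𝔭 (hBfin.mem_toFinset.1 h))
  refine ⟨a, fun 𝔭 h𝔭 => ?_⟩
  by_cases hb : 𝔭 ∈ B
  · have h1 := ha 𝔭 (hBfin.mem_toFinset.2 hb)
    have h2 := hv 𝔭 h𝔭
    have h3 : min (k + 1) (δ 𝔭 + 1) ≤ min (k + 2) (δ 𝔭 + 1) :=
      min_le_min (by omega) le_rfl
    omega
  · have h1 : min (k + 1) (δ 𝔭 + 1) < rk 𝔭 v := by
      by_contra hcon
      exact hb ⟨h𝔭, not_lt.1 hcon⟩
    have h2 := rk_le_modFam_succ 𝔭 v a
    omega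

/-- The Eisenbud–Evans basic element theorem in matrix form. -/
theorem ee [IsNoetherianRing R] {l : ℕ} (Pr : Set (PrimeSpectrum R))
    (hPr : ∀ 𝔭 ∈ Pr, ∀ 𝔮 : PrimeSpectrum R, 𝔮 ≤ 𝔭 → 𝔮 ∈ Pr)
    (δ : PrimeSpectrum R → ℕ)
    (hδ : ∀ 𝔭 ∈ Pr, ∀ 𝔮 : PrimeSpectrum R, 𝔮 < 𝔭 → δ 𝔭 + 1 ≤ δ 𝔮) :
    ∀ (k : ℕ) (v : Fin (k + 1) → (Fin l → R)),
      (∀ 𝔭 ∈ Pr, min (k + 1) (δ 𝔭 + 1) ≤ rk 𝔭 v) →
      ∃ c : Fin (k + 1) → R, c 0 = 1 ∧ ∀ 𝔭 ∈ Pr, ∃ j, (∑ s, c s • v s) j ∉ 𝔭.asIdeal := by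
  intro k
  induction k with
  | zero =>
    intro v hv
    refine ⟨fun _ => 1, rfl, fun 𝔭 h𝔭 => ?_⟩
    have h1 : 1 ≤ rk 𝔭 v := by
      have := hv 𝔭 h𝔭
      simpa using this
    by_contra hcon
    push Not at hcon
    have hv0 : ∀ j, v 0 j ∈ 𝔭.asIdeal := by
      intro j
      have := hcon j
      simpa using this
    have hred : ∀ i, red 𝔭 (v i) = 0 := by
      intro i
      have hi : i = 0 := Fin.eq_zero i
      rw [hi]
      exact (red_eq_zero_iff 𝔭 _).2 hv0
    have : rk 𝔭 v = 0 := by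
      unfold rk dimSpan
      have hz : Set.range (fun i => red 𝔭 (v i)) ⊆ {0} := by
        rintro _ ⟨i, rfl⟩
        exact hred i
      have : span 𝔭.asIdeal.ResidueField (Set.range fun i => red 𝔭 (v i)) = ⊥ := by
        rw [eq_bot_iff]
        exact (span_mono hz).trans (by simp)
      rw [this]
      simp
    omega
  | succ k ih =>
    intro v hv
    obtain ⟨a, ha⟩ := lemmaA Pr hPr δ hδ v hv
    obtain ⟨c', hc'0, hc'⟩ := ih (modFam v a) ha
    refine ⟨Fin.snoc c' (∑ i, c' i * a i), ?_, fun 𝔭 h𝔭 => ?_⟩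
    · rw [← Fin.castSucc_zero, Fin.snoc_castSucc]
      exact hc'0
    · obtain ⟨j, hj⟩ := hc' 𝔭 h𝔭
      refine ⟨j, ?_⟩
      convert hj using 2
      rw [Fin.sum_univ_castSucc]
      simp only [Fin.snoc_castSucc, Fin.snoc_last, modFam, smul_add, Finset.sum_add_distrib,
        Finset.sum_smul, smul_smul]

end Main

end Groth.Agent.Lib.T2H4.BasicElt
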