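import Groth.Agent.Lib.T2H4LocalDual2

/-!
# A global Bass criterion for finite injective dimension (helper4)

For a Noetherian ring `B` and `K ∈ D^b_coh(B)`: if `Ext^i(B/𝔪, K) = 0` for all maximal ideals `𝔪`
and all `i > b`, then `Ext^i(M, K) = 0` for all modules `M` and `i > b`.
-/

set_option autoImplicit false
set_option linter.style.haveILetI false
set_option backward.isDefEq.respectTransparency.types false
universe u
open CategoryTheory CategoryTheory.Limits
attribute [local instance] HasDerivedCategory.standard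

namespace Groth.Agent.Lib.T2H4.Bass

open DerivedCategory Pretriangulated Groth.Agent.Lib.T2H4.LocalDual Groth.Agent.Lib.T2H4.DualField

section Nakayama

variable {B : Type*} [CommRing B]

/-- global Nakayama: a finite module on which every element outside a non-maximal prime acts
surjectively is zero. -/
lemma subsingleton_of_smul_surjective_of_not_isMaximal (J : Ideal B) [J.IsPrime]
    (hJ : ¬ J.IsMaximal) (E : Type*) [AddCommGroup E] [Module B E] [Module.Finite B E]
    (h : ∀ x : B, x ∉ J → ∀ e : E, ∃ e' : E, e = x • e') : Subsingleton E := by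
  by_contra hE
  rw [not_subsingleton_iff_nontrivial] at hE
  have hann : Module.annihilator B E ≠ ⊤ := by
    intro htop
    have h1 : (1 : B) ∈ Module.annihilator B E := htop ▸ Submodule.mem_top
    rw [Module.mem_annihilator] at h1
    obtain ⟨e, he⟩ := exists_ne (0 : E)
    exact he (by simpa using h1 e)
  obtain ⟨𝔪, hmax, hle⟩ := Ideal.exists_le_maximal _ hann
  have hx : ∃ x ∈ 𝔪, x ∉ J := by
    by_contra hcon
    push Not at hcon
    have h1 : 𝔪 = J := hmax.eq_of_le (Ideal.IsPrime.ne_top inferInstance) hcon
    exact hJ (h1 ▸ hmax)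
  obtain ⟨x, hxm, hxJ⟩ := hx
  have hle' : (⊤ : Submodule B E) ≤ 𝔪 • (⊤ : Submodule B E) := by
    intro e _
    obtain ⟨e', rfl⟩ := h x hxJ e
    exact Submodule.smul_mem_smul hxm Submodule.mem_top
  obtain ⟨r, hr, hre⟩ := Submodule.exists_mem_and_smul_eq_self_of_fg_of_le_smul 𝔪 ⊤
    Module.Finite.fg_top hle'
  have h1 : (1 - r) ∈ Module.annihilator B E := by
    rw [Module.mem_annihilator]
    intro e
    rw [sub_smul, one_smul, hre e Submodule.mem_top, sub_self]
  have h2 : (1 - r) ∈ 𝔪 := hle h1
  have h3 : (1 : B) ∈ 𝔪 := by simpa using 𝔪.add_mem h2 hr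
  exact hmax.ne_top ((Ideal.eq_top_iff_one _).2 h3)

end Nakayama

section Main

variable {B : Type u} [CommRing B] [IsNoetherianRing B] (K : Dual.D B)
  (hfinH : ∀ (M : Type u) [AddCommGroup M] [Module B M] [Module.Finite B M] (i : ℤ),
    Module.Finite B (Dual.inD B M ⟶ K⟦i⟧))
  (b : ℤ)
  (hmax : ∀ (𝔪 : Ideal B), 𝔪.IsMaximal → ∀ i : ℤ, b < i →
    Subsingleton (Dual.inD B (B ⧸ 𝔪) ⟶ K⟦i⟧))

/-- the dévissage over modules killed by a strictly larger ideal. -/
lemma subsingleton_hom_of_annihilator (J : Ideal B)
    (IH : ∀ J' : Ideal B, J < J' → J'.IsPrime → ∀ i : ℤ, b < i →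
      Subsingleton (Dual.inD B (B ⧸ J') ⟶ K⟦i⟧))
    (M : Type u) [AddCommGroup M] [Module B M] [hM : Module.Finite B M]
    (hJM : ∃ J' : Ideal B, J < J' ∧ J' ≤ Module.annihilator B M) (i : ℤ) (hi : b < i) :
    Subsingleton (Dual.inD B M ⟶ K⟦i⟧) := by
  revert hJM
  refine IsNoetherianRing.induction_on_isQuotientEquivQuotientPrime (A := B) hM
    (motive := fun N _ _ _ => (∃ J' : Ideal B, J < J' ∧ J' ≤ Module.annihilator B N) →
      Subsingleton (Dual.inD B N ⟶ K⟦i⟧)) ?_ ?_ ?_
  · intro N _ _ _ _ _
    exact subsingleton_hom_inD_of_subsingleton N _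
  · intro N _ _ _ p e ⟨J', hJ', hle⟩
    apply subsingleton_hom_inD_of_equiv e
    have h1 : Module.annihilator B N = p.asIdeal := by
      rw [e.annihilator_eq, Ideal.annihilator_quotient]
    exact IH p.asIdeal (lt_of_lt_of_le hJ' (h1 ▸ hle)) p.2 i hi
  · intro N₁ _ _ _ N₂ _ _ _ N₃ _ _ _ f g hf hg hfg h₁ h₃ ⟨J', hJ', hle⟩
    exact subsingleton_hom_middle f g hf hg hfg _
      (h₁ ⟨J', hJ', hle.trans (LinearMap.annihilator_le_of_injective f hf)⟩)
      (h₃ ⟨J', hJ', hle.trans (LinearMap.annihilator_le_of_surjective g hg)⟩)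

include hfinH hmax in
/-- the criterion for `B/𝔭`. -/
theorem subsingleton_hom_quot_prime : ∀ (J : Ideal B), J.IsPrime → ∀ i : ℤ, b < i →
    Subsingleton (Dual.inD B (B ⧸ J) ⟶ K⟦i⟧) := by
  intro J
  induction J using WellFoundedGT.induction with
  | ind J IH =>
    intro hJp i hi
    by_cases hJ : J.IsMaximal
    · exact hmax J hJ i hi
    · haveI := hfinH (B ⧸ J) i
      apply subsingleton_of_smul_surjective_of_not_isMaximal J hJ
      intro x hxJ φ
      let f : (B ⧸ J) →ₗ[B] (B ⧸ J) := x • LinearMap.id
      have hf : Function.Injective f := by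
        rw [← LinearMap.ker_eq_bot, LinearMap.ker_eq_bot']
        intro y hy
        obtain ⟨y, rfl⟩ := Ideal.Quotient.mk_surjective y
        have h1 : Ideal.Quotient.mk J (x * y) = 0 := hy
        rw [Ideal.Quotient.eq_zero_iff_mem] at h1 ⊢
        exact (Ideal.IsPrime.mem_or_mem inferInstance h1).resolve_left hxJ
      let g := (LinearMap.range f).mkQ
      have hg : Function.Surjective g := Submodule.mkQ_surjective _
      have hfg : Function.Exact f g := LinearMap.exact_map_mkQ_range f
      have hann : ∃ J' : Ideal B, J < J' ∧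
          J' ≤ Module.annihilator B ((B ⧸ J) ⧸ LinearMap.range f) := by
        refine ⟨J ⊔ Ideal.span {x}, ?_, ?_⟩
        · refine lt_of_le_of_ne le_sup_left (fun h => hxJ ?_)
          rw [h]
          exact Ideal.mem_sup_right (Ideal.subset_span rfl)
        · rw [sup_le_iff]
          constructor
          · intro a ha
            rw [Module.mem_annihilator]
            intro m
            obtain ⟨m, rfl⟩ := Submodule.mkQ_surjective _ m
            obtain ⟨m, rfl⟩ := Ideal.Quotient.mk_surjective m
            rw [← map_smul]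
            have h0 : a • (Ideal.Quotient.mk J m) = 0 := by
              rw [Algebra.smul_def, Ideal.Quotient.algebraMap_eq, ← map_mul,
                Ideal.Quotient.eq_zero_iff_mem]
              exact J.mul_mem_right _ ha
            rw [h0, map_zero]
          · rw [Ideal.span_le]
            intro a ha
            rw [Set.mem_singleton_iff.1 ha]
            show x ∈ Module.annihilator B _
            rw [Module.mem_annihilator]
            intro m
            obtain ⟨m, rfl⟩ := Submodule.mkQ_surjective _ m
            rw [← map_smul, Submodule.mkQ_apply, Submodule.Quotient.mk_eq_zero]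
            exact ⟨m, rfl⟩
      have hnext := subsingleton_hom_of_annihilator K b J
        (fun J' hJ' hp i hi => IH J' hJ' hp i hi) ((B ⧸ J) ⧸ LinearMap.range f) hann (i + 1)
        (by lia)
      obtain ⟨ψ, hψ⟩ := exists_extension f g hf hg hfg K i hnext φ
      refine ⟨ψ, ?_⟩
      have h2 : ModuleCat.ofHom f = x • 𝟙 (ModuleCat.of B (B ⧸ J)) := rfl
      rw [hψ, h2, singleFunctor_map_smul, CategoryTheory.Functor.map_id, Linear.smul_comp,
        Category.id_comp]

include hfinH hmax in
/-- the criterion for finite modules. -/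
theorem subsingleton_hom_of_finite (M : Type u) [AddCommGroup M] [Module B M]
    [hM : Module.Finite B M] (i : ℤ) (hi : b < i) : Subsingleton (Dual.inD B M ⟶ K⟦i⟧) := by
  induction hM using IsNoetherianRing.induction_on_isQuotientEquivQuotientPrime B with
  | subsingleton N => exact subsingleton_hom_inD_of_subsingleton N _
  | quotient N p e =>
    exact subsingleton_hom_inD_of_equiv e _
      (subsingleton_hom_quot_prime K hfinH b hmax p.asIdeal p.2 i hi)
  | exact N₁ N₂ N₃ f g hf hg hfg h₁ h₃ => exact subsingleton_hom_middle f g hf hg hfg _ h₁ h₃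

end Main

end Groth.Agent.Lib.T2H4.Bass
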