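import Groth.Agent.Lib.T2H4PerfDual

/-!
# Chain-level duality `D(K) = Hom•(K, I)` and the biduality map (helper4)

* `homCxPre_id/comp/zero`: functoriality of `Hom•(-, L)`.
* `ev K I : K ⟶ Hom•(Hom•(K, I), I)` and `ev_naturality`.
* `dualSC S I`, `dualSC_shortExact`: `Hom•(-, I)` is exact for termwise injective `I`.
* `quasiIso_τ₁/τ₂/τ₃`: two-out-of-three for morphisms of short exact sequences of complexes.
* `quasiIso_homCxPre`, `isGE_homCx`, `isLE_homCx`: invariance and amplitude.
-/
set_option backward.isDefEq.respectTransparency.types false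

set_option autoImplicit false
set_option linter.style.haveILetI false
universe u
open CategoryTheory CategoryTheory.Limits
attribute [local instance] HasDerivedCategory.standard

namespace Groth.Agent.Lib.T2H4.Bidual

open CochainComplex HomComplex DerivedCategory Groth.Agent.Lib.T2H4.HomCx

variable {A : Type u} [CommRing A]

section Pre

lemma homCxPre_id (K L : DRing.Cx A) : homCxPre (𝟙 K) L = 𝟙 _ := by
  ext n z
  show (Cochain.ofHom (𝟙 K)).comp z (zero_add n) = z
  simp

lemma homCxPre_comp {K K' K'' : DRing.Cx A} (s : K ⟶ K') (t : K' ⟶ K'') (L : DRing.Cx A) :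
    homCxPre (s ≫ t) L = homCxPre t L ≫ homCxPre s L := by
  ext n z
  show (Cochain.ofHom (s ≫ t)).comp z (zero_add n) =
    (Cochain.ofHom s).comp ((Cochain.ofHom t).comp z (zero_add n)) (zero_add n)
  rw [Cochain.ofHom_comp, Cochain.comp_assoc_of_first_is_zero_cochain]

lemma homCxPre_zero (K K' L : DRing.Cx A) : homCxPre (0 : K ⟶ K') L = 0 := by
  ext n z
  show (Cochain.ofHom (0 : K ⟶ K')).comp z (zero_add n) = 0
  simp

end Pre

section Ev

variable (K I : DRing.Cx A)

/-- evaluation at `x ∈ K^n`, as a linear map on `p`-cochains. -/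
noncomputable def evLin (n p q : ℤ) (h : p + n = q) (x : K.X n) :
    Cochain K I p →ₗ[A] I.X q where
  toFun z := ((n * p).negOnePow : ℤ) • (z.v n q (by lia)).hom x
  map_add' z z' := by
    simp only [Cochain.add_v, ModuleCat.hom_add, LinearMap.add_apply, smul_add]
  map_smul' a z := by
    simp only [Cochain.smul_v, ModuleCat.hom_smul, LinearMap.smul_apply, RingHom.id_apply]
    rw [smul_comm]

/-- evaluation at `x ∈ K^n`, as a cochain of degree `n` from `Hom•(K, I)` to `I`. -/
noncomputable def evCochain (n : ℤ) (x : K.X n) : Cochain (DRing.homCx K I) I n :=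
  Cochain.mk (fun p q hpq => ModuleCat.ofHom (evLin K I n p q hpq x))

lemma evCochain_v_apply (n : ℤ) (x : K.X n) (p q : ℤ) (hpq : p + n = q) (z : Cochain K I p) :
    ((evCochain K I n x).v p q hpq).hom z =
      ((n * p).negOnePow : ℤ) • (z.v n q (by lia)).hom x := rfl

/-- evaluation as a linear map `K^n → Hom•(Hom•(K, I), I)^n`. -/
noncomputable def evX (n : ℤ) : K.X n →ₗ[A] Cochain (DRing.homCx K I) I n where
  toFun x := evCochain K I n x
  map_add' x y := by
    ext p q hpq z
    simp only [Cochain.add_v, ModuleCat.hom_add, LinearMap.add_apply]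
    rw [evCochain_v_apply, evCochain_v_apply, evCochain_v_apply, map_add, smul_add]
  map_smul' a x := by
    ext p q hpq z
    simp only [Cochain.smul_v, ModuleCat.hom_smul, LinearMap.smul_apply, RingHom.id_apply]
    rw [evCochain_v_apply, evCochain_v_apply, map_smul, smul_comm]


lemma homCx_d_apply' (i j : ℤ) (z : Cochain K I i) :
    ((DRing.homCx K I).d i j).hom z = δ i j z := rfl

lemma sign_aux1 (n p : ℤ) :
    ((n * p).negOnePow : ℤ) + ((n + 1).negOnePow : ℤ) * ((n * (p + 1)).negOnePow : ℤ) = 0 := by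
  have h : n * (p + 1) = n * p + n := by ring
  rw [Int.negOnePow_succ, h, Int.negOnePow_add, Units.val_neg, Units.val_mul]
  have h2 : ((n.negOnePow : ℤˣ) : ℤ) * ((n.negOnePow : ℤˣ) : ℤ) = 1 := by
    rw [← Units.val_mul, Int.units_mul_self]; rfl
  linear_combination (-((n * p).negOnePow : ℤ)) * h2

lemma sign_aux2 (n p : ℤ) :
    ((n + 1).negOnePow : ℤ) * (((n * (p + 1)).negOnePow : ℤ) * ((p + 1).negOnePow : ℤ)) =
      (((n + 1) * p).negOnePow : ℤ) := by
  have h : n * (p + 1) = n * p + n := by ring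
  have h' : (n + 1) * p = n * p + p := by ring
  rw [Int.negOnePow_succ, Int.negOnePow_succ, h, h', Int.negOnePow_add, Int.negOnePow_add,
    Units.val_neg, Units.val_neg, Units.val_mul, Units.val_mul]
  have h2 : ((n.negOnePow : ℤˣ) : ℤ) * ((n.negOnePow : ℤˣ) : ℤ) = 1 := by
    rw [← Units.val_mul, Int.units_mul_self]; rfl
  linear_combination (((n * p).negOnePow : ℤ) * ((p.negOnePow : ℤˣ) : ℤ)) * h2

/-- the biduality (evaluation) map `K ⟶ Hom•(Hom•(K, I), I)`. -/
noncomputable def ev : K ⟶ DRing.homCx (DRing.homCx K I) I where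
  f n := ModuleCat.ofHom (evX K I n)
  comm' n m hnm := by
    have hnm' : n + 1 = m := hnm
    subst hnm'
    ext x
    show δ n (n + 1) (evCochain K I n x) = evCochain K I (n + 1) ((K.d n (n + 1)).hom x)
    ext p q hpq z
    rw [δ_v n (n + 1) rfl _ p q hpq (p + n) (p + 1) (by lia) rfl]
    simp only [ModuleCat.hom_add, ModuleCat.hom_comp, ModuleCat.hom_smul, LinearMap.add_apply,
      LinearMap.comp_apply, LinearMap.smul_apply]
    rw [evCochain_v_apply, evCochain_v_apply, evCochain_v_apply, homCx_d_apply',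
      δ_v p (p + 1) rfl z n q (by lia) (p + n) (n + 1) (by lia) rfl]
    simp only [ModuleCat.hom_add, ModuleCat.hom_comp, ModuleCat.hom_smul, LinearMap.add_apply,
      LinearMap.comp_apply, LinearMap.smul_apply, Units.smul_def, map_zsmul, smul_add, smul_smul]
    rw [← add_assoc, ← add_smul, sign_aux1, zero_smul, zero_add, sign_aux2]

end Ev

section Nat

lemma homCxPre_f_apply {K K' : DRing.Cx A} (s : K ⟶ K') (L : DRing.Cx A) (p : ℤ)
    (z : Cochain K' L p) :
    ((homCxPre s L).f p).hom z = (Cochain.ofHom s).comp z (zero_add p) := rfl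

lemma ev_f_apply (K I : DRing.Cx A) (n : ℤ) (x : K.X n) :
    ((ev K I).f n).hom x = evCochain K I n x := rfl

lemma ev_naturality {K K' : DRing.Cx A} (s : K ⟶ K') (I : DRing.Cx A) :
    ev K I ≫ homCxPre (homCxPre s I) I = s ≫ ev K' I := by
  ext n x
  simp only [HomologicalComplex.comp_f, ModuleCat.hom_comp, LinearMap.comp_apply]
  rw [ev_f_apply, ev_f_apply, homCxPre_f_apply]
  refine Cochain.ext _ _ (fun p q hpq => ?_)
  ext z
  rw [Cochain.zero_cochain_comp_v, Cochain.ofHom_v]
  simp only [ModuleCat.hom_comp, LinearMap.comp_apply]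
  rw [evCochain_v_apply, evCochain_v_apply, homCxPre_f_apply, Cochain.zero_cochain_comp_v,
    Cochain.ofHom_v]
  simp only [ModuleCat.hom_comp, LinearMap.comp_apply]

end Nat


section Exact

/-- the dual of a short complex of complexes. -/
noncomputable def dualSC (S : ShortComplex (DRing.Cx A)) (I : DRing.Cx A) :
    ShortComplex (DRing.Cx A) :=
  ShortComplex.mk (homCxPre S.g I) (homCxPre S.f I)
    (by rw [← homCxPre_comp, S.zero, homCxPre_zero])

theorem dualSC_shortExact (S : ShortComplex (DRing.Cx A)) (hS : S.ShortExact) (I : DRing.Cx A)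
    (hI : ∀ n, Injective (I.X n)) : (dualSC S I).ShortExact := by
  have hS' := (HomologicalComplex.shortExact_iff_degreewise_shortExact S).1 hS
  rw [HomologicalComplex.shortExact_iff_degreewise_shortExact]
  intro n
  have hmono : ∀ p, Mono (S.f.f p) := fun p => (hS' p).mono_f
  have hepi : ∀ p, Epi (S.g.f p) := fun p => (hS' p).epi_g
  have hex : ∀ p, (S.map (HomologicalComplex.eval _ _ p)).Exact := fun p => (hS' p).exact
  refine ShortComplex.ShortExact.mk' ?_ ?_ ?_
  · rw [ShortComplex.ShortExact.moduleCat_exact_iff_function_exact]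
    intro (z : Cochain S.X₂ I n)
    constructor
    · intro (hz : (Cochain.ofHom S.f).comp z (zero_add n) = 0)
      have hz' : ∀ p q (hpq : p + n = q), S.f.f p ≫ z.v p q hpq = 0 := fun p q hpq => by
        have := Cochain.congr_v hz p q hpq
        rwa [Cochain.zero_cochain_comp_v, Cochain.ofHom_v, Cochain.zero_v] at this
      refine ⟨Cochain.mk (fun p q hpq =>
        haveI := hI q
        (hex p).descToInjective (z.v p q hpq) (hz' p q hpq)), ?_⟩
      show (Cochain.ofHom S.g).comp _ (zero_add n) = z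
      refine Cochain.ext _ _ (fun p q hpq => ?_)
      rw [Cochain.zero_cochain_comp_v, Cochain.ofHom_v, Cochain.mk_v]
      haveI := hI q
      exact (hex p).comp_descToInjective (z.v p q hpq) (hz' p q hpq)
    · rintro ⟨(z'' : Cochain S.X₃ I n), rfl⟩
      show (Cochain.ofHom S.f).comp ((Cochain.ofHom S.g).comp z'' (zero_add n)) (zero_add n) = 0
      rw [← Cochain.comp_assoc_of_first_is_zero_cochain, ← Cochain.ofHom_comp, S.zero,
        Cochain.ofHom_zero, Cochain.zero_comp]
  · rw [ModuleCat.mono_iff_injective, injective_iff_map_eq_zero]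
    intro (z'' : Cochain S.X₃ I n) (hz : (Cochain.ofHom S.g).comp z'' (zero_add n) = 0)
    show z'' = (0 : Cochain S.X₃ I n)
    refine Cochain.ext _ _ (fun p q hpq => ?_)
    have h0 := Cochain.congr_v hz p q hpq
    rw [Cochain.zero_cochain_comp_v, Cochain.ofHom_v, Cochain.zero_v] at h0
    haveI := hepi p
    rw [Cochain.zero_v, ← cancel_epi (S.g.f p), h0, comp_zero]
  · rw [ModuleCat.epi_iff_surjective]
    intro (z' : Cochain S.X₁ I n)
    refine ⟨(Cochain.mk (fun p q hpq =>
      haveI := hI q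
      haveI := hmono p
      Injective.factorThru (z'.v p q hpq) (S.f.f p)) : Cochain S.X₂ I n), ?_⟩
    show (Cochain.ofHom S.f).comp _ (zero_add n) = z'
    refine Cochain.ext _ _ (fun p q hpq => ?_)
    rw [Cochain.zero_cochain_comp_v, Cochain.ofHom_v, Cochain.mk_v]
    haveI := hI q
    haveI := hmono p
    exact Injective.comp_factorThru _ _

end Exact

section TwoOfThree

variable {C : Type*} [Category C] [Abelian C] [HasDerivedCategory C]
  {S₁ S₂ : ShortComplex (CochainComplex C ℤ)} (φ : S₁ ⟶ S₂)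
  (h₁ : S₁.ShortExact) (h₂ : S₂.ShortExact)

include h₁ h₂

lemma quasiIso_τ₂ [QuasiIso φ.τ₁] [QuasiIso φ.τ₃] : QuasiIso φ.τ₂ := by
  have i1 : IsIso (triangleOfSES.map h₁ h₂ φ).hom₁ :=
    (isIso_Q_map_iff_quasiIso (φ := φ.τ₁)).2 inferInstance
  have i3 : IsIso (triangleOfSES.map h₁ h₂ φ).hom₃ :=
    (isIso_Q_map_iff_quasiIso (φ := φ.τ₃)).2 inferInstance
  have i2 := Pretriangulated.isIso₂_of_isIso₁₃ (triangleOfSES.map h₁ h₂ φ)
    (triangleOfSES_distinguished h₁) (triangleOfSES_distinguished h₂) i1 i3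
  exact (isIso_Q_map_iff_quasiIso (φ := φ.τ₂)).1 i2

lemma quasiIso_τ₁ [QuasiIso φ.τ₂] [QuasiIso φ.τ₃] : QuasiIso φ.τ₁ := by
  have i2 : IsIso (triangleOfSES.map h₁ h₂ φ).hom₂ :=
    (isIso_Q_map_iff_quasiIso (φ := φ.τ₂)).2 inferInstance
  have i3 : IsIso (triangleOfSES.map h₁ h₂ φ).hom₃ :=
    (isIso_Q_map_iff_quasiIso (φ := φ.τ₃)).2 inferInstance
  have i1 := Pretriangulated.isIso₁_of_isIso₂₃ (triangleOfSES.map h₁ h₂ φ)
    (triangleOfSES_distinguished h₁) (triangleOfSES_distinguished h₂) i2 i3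
  exact (isIso_Q_map_iff_quasiIso (φ := φ.τ₁)).1 i1

omit [HasDerivedCategory C] in
lemma quasiIso_τ₃ [QuasiIso φ.τ₁] [QuasiIso φ.τ₂] : QuasiIso φ.τ₃ :=
  HomologicalComplex.HomologySequence.quasiIso_τ₃ φ h₁ h₂ inferInstance inferInstance

end TwoOfThree

section Amp

variable (K I : DRing.Cx A)

theorem quasiIso_homCxPre {K K' : DRing.Cx A} (s : K ⟶ K') [QuasiIso s] (I : DRing.Cx A)
    [I.IsKInjective] : QuasiIso (homCxPre s I) :=
  quasiIso_homCxPre_of_bijective s I (fun n => precomp_bijective s I n)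

lemma isZero_homCx_X_of_lt (d a : ℤ) [K.IsStrictlyLE d] [I.IsStrictlyGE a] (n : ℤ)
    (hn : n < a - d) : IsZero ((DRing.homCx K I).X n) := by
  haveI : Subsingleton ((DRing.homCx K I).X n) := ⟨fun (z z' : Cochain K I n) => by
    refine Cochain.ext _ _ (fun p q hpq => ?_)
    by_cases hp : d < p
    · exact (K.isZero_of_isStrictlyLE d p hp).eq_of_src _ _
    · exact (I.isZero_of_isStrictlyGE a q (by lia)).eq_of_tgt _ _⟩
  exact ModuleCat.isZero_of_subsingleton _

lemma isZero_homCx_X_of_gt (c b : ℤ) [K.IsStrictlyGE c] [I.IsStrictlyLE b] (n : ℤ)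
    (hn : b - c < n) : IsZero ((DRing.homCx K I).X n) := by
  haveI : Subsingleton ((DRing.homCx K I).X n) := ⟨fun (z z' : Cochain K I n) => by
    refine Cochain.ext _ _ (fun p q hpq => ?_)
    by_cases hp : p < c
    · exact (K.isZero_of_isStrictlyGE c p hp).eq_of_src _ _
    · exact (I.isZero_of_isStrictlyLE b q (by lia)).eq_of_tgt _ _⟩
  exact ModuleCat.isZero_of_subsingleton _

instance isStrictlyGE_homCx (d a : ℤ) [K.IsStrictlyLE d] [I.IsStrictlyGE a] :
    (DRing.homCx K I).IsStrictlyGE (a - d) := by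
  rw [isStrictlyGE_iff]
  intro n hn
  exact isZero_homCx_X_of_lt K I d a n hn

instance isStrictlyLE_homCx (c b : ℤ) [K.IsStrictlyGE c] [I.IsStrictlyLE b] :
    (DRing.homCx K I).IsStrictlyLE (b - c) := by
  rw [isStrictlyLE_iff]
  intro n hn
  exact isZero_homCx_X_of_gt K I c b n hn

theorem isGE_homCx (d a : ℤ) [K.IsLE d] [I.IsStrictlyGE a] [I.IsKInjective] :
    (DRing.homCx K I).IsGE (a - d) := by
  haveI := quasiIso_homCxPre (K.ιTruncLE d) I
  haveI : (DRing.homCx (K.truncLE d) I).IsStrictlyGE (a - d) := isStrictlyGE_homCx _ I d a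
  exact (HomologicalComplex.isSupported_iff_of_quasiIso (homCxPre (K.ιTruncLE d) I) _).2
    inferInstance

theorem isLE_homCx (c b : ℤ) [K.IsGE c] [I.IsStrictlyLE b] [I.IsKInjective] :
    (DRing.homCx K I).IsLE (b - c) := by
  haveI := quasiIso_homCxPre (K.πTruncGE c) I
  haveI : (DRing.homCx (K.truncGE c) I).IsStrictlyLE (b - c) := isStrictlyLE_homCx _ I c b
  exact (HomologicalComplex.isSupported_iff_of_quasiIso (homCxPre (K.πTruncGE c) I) _).1
    inferInstance

end Amp

end Groth.Agent.Lib.T2H4.Bidual
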