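import Groth.Agent.Lib.T2H4Bidual1

/-!
# Biduality: dévissage (helper4)

`I` is a bounded complex of injective modules (`BddInj I a b`) for which the biduality map
`ev (A[-j]) I` is a quasi-isomorphism for all `j` (`hbase`).  Then `ev K I` is a quasi-isomorphism for
every complex `K` with finite cohomology modules (`quasiIso_ev_of_finH`), over a Noetherian ring.
-/
set_option backward.isDefEq.respectTransparency.types false

set_option autoImplicit false
set_option linter.style.haveILetI false
universe u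
open CategoryTheory CategoryTheory.Limits
attribute [local instance] HasDerivedCategory.standard

namespace Groth.Agent.Lib.T2H4.Bidual

open CochainComplex HomComplex DerivedCategory Groth.Agent.Lib.T2H4.HomCx HomologicalComplex

section LES

variable {C : Type*} [Category C] [Abelian C] {S : ShortComplex (CochainComplex C ℤ)}
  (hS : S.ShortExact)

include hS

lemma quasiIsoAt_f_of_exactAt (i j : ℤ) (hij : i + 1 = j) (h₁ : S.X₃.ExactAt i)
    (h₂ : S.X₃.ExactAt j) : QuasiIsoAt S.f j := by
  rw [quasiIsoAt_iff_isIso_homologyMap]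
  rw [exactAt_iff_isZero_homology] at h₁ h₂
  haveI : Mono (homologyMap S.f j) :=
    (hS.homology_exact₁ i j hij).mono_g (h₁.eq_of_src _ _)
  haveI : Epi (homologyMap S.f j) :=
    (hS.homology_exact₂ j).epi_f (h₂.eq_of_tgt _ _)
  exact isIso_of_mono_of_epi _

lemma quasiIsoAt_g_of_exactAt (i j : ℤ) (hij : i + 1 = j) (h₁ : S.X₁.ExactAt i)
    (h₂ : S.X₁.ExactAt j) : QuasiIsoAt S.g i := by
  rw [quasiIsoAt_iff_isIso_homologyMap]
  rw [exactAt_iff_isZero_homology] at h₁ h₂
  haveI : Mono (homologyMap S.g i) :=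
    (hS.homology_exact₂ i).mono_g (h₁.eq_of_src _ _)
  haveI : Epi (homologyMap S.g i) :=
    (hS.homology_exact₃ i j hij).epi_f (h₂.eq_of_tgt _ _)
  exact isIso_of_mono_of_epi _

end LES

variable {A : Type u} [CommRing A]

/-- a bounded complex of injective modules. -/
structure BddInj (I : DRing.Cx A) (a b : ℤ) : Prop where
  inj : ∀ n, Injective (I.X n)
  ge : I.IsStrictlyGE a
  le : I.IsStrictlyLE b

lemma BddInj.isKInjective {I : DRing.Cx A} {a b : ℤ} (h : BddInj I a b) : I.IsKInjective :=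
  haveI := h.ge
  haveI := h.inj
  isKInjective_of_injective I a

section Basic

variable {I : DRing.Cx A} {a b : ℤ} (hI : BddInj I a b)

include hI

lemma quasiIso_ev_iff_of_quasiIso {K K' : DRing.Cx A} (s : K ⟶ K') [QuasiIso s] :
    QuasiIso (ev K I) ↔ QuasiIso (ev K' I) := by
  haveI := hI.isKInjective
  haveI := quasiIso_homCxPre s I
  haveI := quasiIso_homCxPre (homCxPre s I) I
  rw [← quasiIso_iff_comp_right (ev K I) (homCxPre (homCxPre s I) I), ev_naturality,
    quasiIso_iff_comp_left]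

omit hI in
/-- the biduality map as a morphism of short complexes. -/
noncomputable def evSC (S : ShortComplex (DRing.Cx A)) (I : DRing.Cx A) :
    S ⟶ dualSC (dualSC S I) I where
  τ₁ := ev S.X₁ I
  τ₂ := ev S.X₂ I
  τ₃ := ev S.X₃ I
  comm₁₂ := ev_naturality S.f I
  comm₂₃ := ev_naturality S.g I

lemma ddSC_shortExact (S : ShortComplex (DRing.Cx A)) (hS : S.ShortExact) :
    (dualSC (dualSC S I) I).ShortExact :=
  dualSC_shortExact _ (dualSC_shortExact S hS I hI.inj) I hI.inj

lemma quasiIso_ev_X₂ (S : ShortComplex (DRing.Cx A)) (hS : S.ShortExact)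
    (h1 : QuasiIso (ev S.X₁ I)) (h3 : QuasiIso (ev S.X₃ I)) : QuasiIso (ev S.X₂ I) :=
  haveI : QuasiIso (evSC S I).τ₁ := h1
  haveI : QuasiIso (evSC S I).τ₃ := h3
  quasiIso_τ₂ (evSC S I) hS (ddSC_shortExact hI S hS)

lemma quasiIso_ev_X₁ (S : ShortComplex (DRing.Cx A)) (hS : S.ShortExact)
    (h2 : QuasiIso (ev S.X₂ I)) (h3 : QuasiIso (ev S.X₃ I)) : QuasiIso (ev S.X₁ I) :=
  haveI : QuasiIso (evSC S I).τ₂ := h2
  haveI : QuasiIso (evSC S I).τ₃ := h3
  quasiIso_τ₁ (evSC S I) hS (ddSC_shortExact hI S hS)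

lemma quasiIso_ev_X₃ (S : ShortComplex (DRing.Cx A)) (hS : S.ShortExact)
    (h1 : QuasiIso (ev S.X₁ I)) (h2 : QuasiIso (ev S.X₂ I)) : QuasiIso (ev S.X₃ I) :=
  haveI : QuasiIso (evSC S I).τ₁ := h1
  haveI : QuasiIso (evSC S I).τ₂ := h2
  quasiIso_τ₃ (evSC S I) hS (ddSC_shortExact hI S hS)

end Basic

section Zero

lemma isZero_homCx_X_of_isZero_X (K I : DRing.Cx A) (hK : ∀ p, IsZero (K.X p)) (n : ℤ) :
    IsZero ((DRing.homCx K I).X n) := by
  haveI : Subsingleton ((DRing.homCx K I).X n) := ⟨fun (z z' : Cochain K I n) => by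
    refine Cochain.ext _ _ (fun p q hpq => ?_)
    exact (hK p).eq_of_src _ _⟩
  exact ModuleCat.isZero_of_subsingleton _

lemma quasiIso_of_isZero_X {K L : DRing.Cx A} (f : K ⟶ L) (hK : ∀ p, IsZero (K.X p))
    (hL : ∀ p, IsZero (L.X p)) : QuasiIso f := by
  rw [quasiIso_iff]
  intro i
  rw [quasiIsoAt_iff_exactAt f i (ExactAt.of_isZero (hK i))]
  exact ExactAt.of_isZero (hL i)

lemma quasiIso_ev_of_isZero_X (K I : DRing.Cx A) (hK : ∀ p, IsZero (K.X p)) :
    QuasiIso (ev K I) :=
  quasiIso_of_isZero_X _ hK (isZero_homCx_X_of_isZero_X _ I (isZero_homCx_X_of_isZero_X K I hK))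

end Zero


section Modules

variable {I : DRing.Cx A} {a b : ℤ} (hI : BddInj I a b)

/-- a module placed in degree `j`. -/
noncomputable abbrev sgl (j : ℤ) (M : ModuleCat.{u} A) : DRing.Cx A :=
  (HomologicalComplex.single (ModuleCat.{u} A) (ComplexShape.up ℤ) j).obj M

/-- the short exact sequence `0 → A → A^{r+1} → A^r → 0`. -/
noncomputable def freeSC (r : ℕ) : ShortComplex (ModuleCat.{u} A) :=
  ShortComplex.mk
    (ModuleCat.ofHom (LinearMap.single A (fun _ : Fin (r + 1) => A) 0) :
      ModuleCat.of A A ⟶ ModuleCat.of A (Fin (r + 1) → A))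
    (ModuleCat.ofHom (LinearMap.funLeft A A (Fin.succ : Fin r → Fin (r + 1))) :
      ModuleCat.of A (Fin (r + 1) → A) ⟶ ModuleCat.of A (Fin r → A))
    (by
      ext i
      simp [LinearMap.funLeft, Fin.succ_ne_zero]
      rfl)

lemma freeSC_shortExact (r : ℕ) : (freeSC (A := A) r).ShortExact := by
  refine ShortComplex.ShortExact.mk' ?_ ?_ ?_
  · rw [ShortComplex.ShortExact.moduleCat_exact_iff_function_exact]
    intro (v : Fin (r + 1) → A)
    constructor
    · intro (hv : (fun i : Fin r => v i.succ) = 0)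
      refine ⟨v 0, ?_⟩
      show Pi.single 0 (v 0) = v
      funext i
      refine Fin.cases ?_ (fun i => ?_) i
      · simp
      · have := congrFun hv i
        simp only [Pi.zero_apply] at this
        simp [Fin.succ_ne_zero, this]
    · rintro ⟨x, rfl⟩
      show (fun i : Fin r => (Pi.single (0 : Fin (r + 1)) x : Fin (r + 1) → A) i.succ) = 0
      funext i
      simp [Fin.succ_ne_zero]
  · rw [ModuleCat.mono_iff_injective]
    exact Pi.single_injective (M := fun _ : Fin (r + 1) => A) 0
  · rw [ModuleCat.epi_iff_surjective]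
    intro (w : Fin r → A)
    exact ⟨(Fin.cons 0 w : Fin (r + 1) → A), by
      show (fun i : Fin r => (Fin.cons 0 w : Fin (r + 1) → A) i.succ) = w
      funext i
      simp⟩

include hI

theorem quasiIso_ev_single_free
    (hbase : ∀ j : ℤ, QuasiIso (ev (sgl j (ModuleCat.of A A)) I)) (j : ℤ) (r : ℕ) :
    QuasiIso (ev (sgl j (ModuleCat.of A (Fin r → A))) I) := by
  induction r with
  | zero =>
    apply quasiIso_ev_of_isZero_X
    intro p
    have h0 : IsZero (ModuleCat.of A (Fin 0 → A)) := ModuleCat.isZero_of_subsingleton _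
    exact (HomologicalComplex.eval _ _ p).map_isZero
      ((HomologicalComplex.single (ModuleCat.{u} A) (ComplexShape.up ℤ) j).map_isZero h0)
  | succ r ih =>
    exact quasiIso_ev_X₂ hI ((freeSC (A := A) r).map
      (HomologicalComplex.single (ModuleCat.{u} A) (ComplexShape.up ℤ) j))
      ((freeSC_shortExact r).map_of_exact _) (hbase j) ih


omit hI in
/-- a presentation `0 → N → A^r → M → 0` of a finite module. -/
lemma exists_presentation [IsNoetherianRing A] (M : Type u) [AddCommGroup M] [Module A M]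
    [Module.Finite A M] :
    ∃ (r : ℕ) (N : Type u) (_ : AddCommGroup N) (_ : Module A N) (_ : Module.Finite A N)
      (f : ModuleCat.of A N ⟶ ModuleCat.of A (Fin r → A))
      (g : ModuleCat.of A (Fin r → A) ⟶ ModuleCat.of A M) (w : f ≫ g = 0),
      (ShortComplex.mk f g w).ShortExact := by
  obtain ⟨r, π, hπ⟩ := Module.Finite.exists_fin' A M
  refine ⟨r, LinearMap.ker π, inferInstance, inferInstance, inferInstance,
    ModuleCat.ofHom (LinearMap.ker π).subtype, ModuleCat.ofHom π, (by
      ext x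
      exact x.2), ?_⟩
  refine ShortComplex.ShortExact.mk' ?_ ?_ ?_
  · rw [ShortComplex.ShortExact.moduleCat_exact_iff_function_exact]
    intro (v : Fin r → A)
    constructor
    · intro (hv : π v = 0)
      exact ⟨⟨v, hv⟩, rfl⟩
    · rintro ⟨x, rfl⟩
      exact x.2
  · rw [ModuleCat.mono_iff_injective]
    exact Subtype.val_injective
  · rw [ModuleCat.epi_iff_surjective]
    exact hπ

theorem quasiIso_ev_single_finite [IsNoetherianRing A]
    (hbase : ∀ j : ℤ, QuasiIso (ev (sgl j (ModuleCat.of A A)) I)) (j : ℤ)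
    (M : Type u) [AddCommGroup M] [Module A M] [Module.Finite A M] :
    QuasiIso (ev (sgl j (ModuleCat.of A M)) I) := by
  haveI := hI.isKInjective
  haveI := hI.ge
  haveI := hI.le
  -- amplitude of the double dual
  have hDDle : ∀ (M : ModuleCat.{u} A),
      (DRing.homCx (DRing.homCx (sgl j M) I) I).IsLE (b - (a - j)) := fun M => by
    haveI : (DRing.homCx (sgl j M) I).IsGE (a - j) := isGE_homCx (sgl j M) I j a
    exact isLE_homCx _ I (a - j) b
  -- epi part
  have hEtop : ∀ i : ℤ, b - (a - j) < i → ∀ (M : Type u) [AddCommGroup M] [Module A M]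
      [Module.Finite A M], Epi (homologyMap (ev (sgl j (ModuleCat.of A M)) I) i) := by
    intro i hi M _ _ _
    haveI := hDDle (ModuleCat.of A M)
    exact IsZero.epi (CochainComplex.isZero_of_isLE _ (b - (a - j)) i hi) _
  have hEstep : ∀ i : ℤ, (∀ (M : Type u) [AddCommGroup M] [Module A M] [Module.Finite A M],
      Epi (homologyMap (ev (sgl j (ModuleCat.of A M)) I) (i + 1))) →
      ∀ (M : Type u) [AddCommGroup M] [Module A M] [Module.Finite A M],
      Epi (homologyMap (ev (sgl j (ModuleCat.of A M)) I) i) := by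
    intro i hE M _ _ _
    obtain ⟨r, N, _, _, _, f, g, w, hS⟩ := exists_presentation (A := A) M
    set S : ShortComplex (ModuleCat.{u} A) := ShortComplex.mk f g w
    have hS' : (S.map (HomologicalComplex.single (ModuleCat.{u} A) (ComplexShape.up ℤ) j)).ShortExact :=
      hS.map_of_exact _
    have hF := quasiIso_ev_single_free hI hbase j r
    exact HomologySequence.epi_homologyMap_τ₃ (evSC _ I) hS' (ddSC_shortExact hI _ hS') i
      (by
        have : IsIso (homologyMap (ev (sgl j (ModuleCat.of A (Fin r → A))) I) i) :=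
          (quasiIsoAt_iff_isIso_homologyMap _ i).1 inferInstance
        exact inferInstanceAs (Epi (homologyMap (ev (sgl j (ModuleCat.of A (Fin r → A))) I) i)))
      (by
        rintro _ rfl
        exact hE N)
      (by
        rintro _ rfl
        have : IsIso (homologyMap (ev (sgl j (ModuleCat.of A (Fin r → A))) I) (i + 1)) :=
          (quasiIsoAt_iff_isIso_homologyMap _ (i + 1)).1 inferInstance
        exact inferInstanceAs
          (Mono (homologyMap (ev (sgl j (ModuleCat.of A (Fin r → A))) I) (i + 1))))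
  have hE : ∀ (i : ℤ) (M : Type u) [AddCommGroup M] [Module A M] [Module.Finite A M],
      Epi (homologyMap (ev (sgl j (ModuleCat.of A M)) I) i) := by
    have key : ∀ (k : ℕ) (M : Type u) [AddCommGroup M] [Module A M] [Module.Finite A M],
        Epi (homologyMap (ev (sgl j (ModuleCat.of A M)) I) (b - (a - j) + 1 - k)) := by
      intro k
      induction k with
      | zero =>
        intro M _ _ _
        exact hEtop _ (by simp) M
      | succ k ih =>
        intro M _ _ _
        refine hEstep _ (fun M' _ _ _ => ?_) M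
        have := ih M'
        have e : b - (a - j) + 1 - ((k + 1 : ℕ) : ℤ) + 1 = b - (a - j) + 1 - (k : ℤ) := by
          push_cast; ring
        rwa [e]
    intro i M _ _ _
    by_cases hi : b - (a - j) < i
    · exact hEtop i hi M
    · obtain ⟨k, hk⟩ : ∃ k : ℕ, i = b - (a - j) + 1 - k :=
        ⟨(b - (a - j) + 1 - i).toNat, by lia⟩
      rw [hk]
      exact key k M
  -- mono part
  have hMtop : ∀ i : ℤ, j < i → ∀ (M : Type u) [AddCommGroup M] [Module A M]
      [Module.Finite A M], Mono (homologyMap (ev (sgl j (ModuleCat.of A M)) I) i) := by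
    intro i hi M _ _ _
    exact IsZero.mono (isZero_single_obj_homology _ _ _ i (by lia)) _
  have hMstep : ∀ i : ℤ, (∀ (M : Type u) [AddCommGroup M] [Module A M] [Module.Finite A M],
      Mono (homologyMap (ev (sgl j (ModuleCat.of A M)) I) (i + 1))) →
      ∀ (M : Type u) [AddCommGroup M] [Module A M] [Module.Finite A M],
      Mono (homologyMap (ev (sgl j (ModuleCat.of A M)) I) i) := by
    intro i hMo M _ _ _
    obtain ⟨r, N, _, _, _, f, g, w, hS⟩ := exists_presentation (A := A) M
    set S : ShortComplex (ModuleCat.{u} A) := ShortComplex.mk f g w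
    have hS' : (S.map (HomologicalComplex.single (ModuleCat.{u} A) (ComplexShape.up ℤ) j)).ShortExact :=
      hS.map_of_exact _
    have hF := quasiIso_ev_single_free hI hbase j r
    exact HomologySequence.mono_homologyMap_τ₃ (evSC _ I) hS' (ddSC_shortExact hI _ hS') i
      (hE i N)
      (by
        have : IsIso (homologyMap (ev (sgl j (ModuleCat.of A (Fin r → A))) I) i) :=
          (quasiIsoAt_iff_isIso_homologyMap _ i).1 inferInstance
        exact inferInstanceAs (Mono (homologyMap (ev (sgl j (ModuleCat.of A (Fin r → A))) I) i)))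
      (by
        rintro _ rfl
        exact hMo N)
  have hMo : ∀ (i : ℤ) (M : Type u) [AddCommGroup M] [Module A M] [Module.Finite A M],
      Mono (homologyMap (ev (sgl j (ModuleCat.of A M)) I) i) := by
    have key : ∀ (k : ℕ) (M : Type u) [AddCommGroup M] [Module A M] [Module.Finite A M],
        Mono (homologyMap (ev (sgl j (ModuleCat.of A M)) I) (j + 1 - k)) := by
      intro k
      induction k with
      | zero =>
        intro M _ _ _
        exact hMtop _ (by simp) M
      | succ k ih =>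
        intro M _ _ _
        refine hMstep _ (fun M' _ _ _ => ?_) M
        have := ih M'
        have e : j + 1 - ((k + 1 : ℕ) : ℤ) + 1 = j + 1 - (k : ℤ) := by
          push_cast; ring
        rwa [e]
    intro i M _ _ _
    by_cases hi : j < i
    · exact hMtop i hi M
    · obtain ⟨k, hk⟩ : ∃ k : ℕ, i = j + 1 - k := ⟨(j + 1 - i).toNat, by lia⟩
      rw [hk]
      exact key k M
  rw [quasiIso_iff]
  intro i
  rw [quasiIsoAt_iff_isIso_homologyMap]
  haveI := hE i M
  haveI := hMo i M
  exact isIso_of_mono_of_epi _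

end Modules

section Trunc

variable (K : DRing.Cx A)

lemma isGE_truncLE (n l : ℤ) [K.IsGE l] : (K.truncLE n).IsGE l := by
  rw [CochainComplex.isGE_iff]
  intro i hi
  by_cases hin : i ≤ n
  · haveI := K.quasiIsoAt_ιTruncLE n i hin
    rw [exactAt_iff_of_quasiIsoAt (K.ιTruncLE n) i]
    exact K.exactAt_of_isGE l i hi
  · exact (K.truncLE n).exactAt_of_isLE n i (by lia)

lemma isLE_truncGE (n m : ℤ) [K.IsLE m] : (K.truncGE n).IsLE m := by
  rw [CochainComplex.isLE_iff]
  intro i hi
  by_cases hin : n ≤ i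
  · haveI := K.quasiIsoAt_πTruncGE n i hin
    rw [← exactAt_iff_of_quasiIsoAt (K.πTruncGE n) i]
    exact K.exactAt_of_isLE m i hi
  · exact (K.truncGE n).exactAt_of_isGE n i (by lia)

def FinH (K : DRing.Cx A) : Prop := ∀ i : ℤ, Module.Finite A (K.homology i)

variable {K}

lemma finH_of_quasiIso {L : DRing.Cx A} (f : K ⟶ L) [QuasiIso f] (h : FinH K) : FinH L := by
  intro i
  haveI : IsIso (homologyMap f i) := (quasiIsoAt_iff_isIso_homologyMap f i).1 inferInstance
  haveI := h i
  exact Module.Finite.equiv (asIso (homologyMap f i)).toLinearEquiv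

lemma finH_of_quasiIso' {L : DRing.Cx A} (f : K ⟶ L) [QuasiIso f] (h : FinH L) : FinH K := by
  intro i
  haveI : IsIso (homologyMap f i) := (quasiIsoAt_iff_isIso_homologyMap f i).1 inferInstance
  haveI := h i
  exact Module.Finite.equiv (asIso (homologyMap f i)).symm.toLinearEquiv

lemma finH_truncLE (n : ℤ) (h : FinH K) : FinH (K.truncLE n) := by
  intro i
  by_cases hin : i ≤ n
  · haveI := K.quasiIsoAt_ιTruncLE n i hin
    haveI : IsIso (homologyMap (K.ιTruncLE n) i) :=
      (quasiIsoAt_iff_isIso_homologyMap _ i).1 inferInstance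
    haveI := h i
    exact Module.Finite.equiv (asIso (homologyMap (K.ιTruncLE n) i)).symm.toLinearEquiv
  · have hz := (K.truncLE n).isZero_of_isLE n i (by lia)
    haveI := ModuleCat.subsingleton_of_isZero hz
    infer_instance

lemma finH_truncGE (n : ℤ) (h : FinH K) : FinH (K.truncGE n) := by
  intro i
  by_cases hin : n ≤ i
  · haveI := K.quasiIsoAt_πTruncGE n i hin
    haveI : IsIso (homologyMap (K.πTruncGE n) i) :=
      (quasiIsoAt_iff_isIso_homologyMap _ i).1 inferInstance
    haveI := h i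
    exact Module.Finite.equiv (asIso (homologyMap (K.πTruncGE n) i)).toLinearEquiv
  · have hz := (K.truncGE n).isZero_of_isGE n i (by lia)
    haveI := ModuleCat.subsingleton_of_isZero hz
    infer_instance

end Trunc

section Bounded

variable {I : DRing.Cx A} {a b : ℤ} (hI : BddInj I a b)

include hI

theorem quasiIso_ev_of_single_cohomology [IsNoetherianRing A]
    (hbase : ∀ j : ℤ, QuasiIso (ev (sgl j (ModuleCat.of A A)) I)) (K : DRing.Cx A) (l : ℤ)
    [K.IsGE l] [K.IsLE l] (hfin : FinH K) : QuasiIso (ev K I) := by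
  haveI : (K.truncLE l).IsGE l := isGE_truncLE K l l
  rw [← quasiIso_ev_iff_of_quasiIso hI (K.ιTruncLE l),
    quasiIso_ev_iff_of_quasiIso hI ((K.truncLE l).πTruncGE l)]
  obtain ⟨M, ⟨e⟩⟩ := ((K.truncLE l).truncGE l).exists_iso_single l
  rw [quasiIso_ev_iff_of_quasiIso hI e.hom]
  have hf : FinH ((HomologicalComplex.single (ModuleCat.{u} A) (ComplexShape.up ℤ) l).obj M) :=
    finH_of_quasiIso e.hom (finH_truncGE l (finH_truncLE l hfin))
  haveI : Module.Finite A M := by
    haveI := hf l
    exact Module.Finite.equiv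
      (HomologicalComplex.singleObjHomologySelfIso (ComplexShape.up ℤ) l M).toLinearEquiv
  exact quasiIso_ev_single_finite hI hbase l M

theorem quasiIso_ev_of_bounded [IsNoetherianRing A]
    (hbase : ∀ j : ℤ, QuasiIso (ev (sgl j (ModuleCat.of A A)) I)) :
    ∀ (N : ℕ) (l : ℤ) (K : DRing.Cx A) [K.IsGE l] [K.IsLE (l + N)], FinH K →
      QuasiIso (ev K I) := by
  intro N
  induction N with
  | zero =>
    intro l K _ _ hfin
    haveI : K.IsLE l := K.isLE_of_le (l + (0 : ℕ)) l (by simp)
    exact quasiIso_ev_of_single_cohomology hI hbase K l hfin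
  | succ N ih =>
    intro l K _ _ hfin
    have hS := K.shortComplexTruncLE_shortExact (l + N)
    refine quasiIso_ev_X₂ hI (K.shortComplexTruncLE (l + N)) hS ?_ ?_
    · haveI : (K.truncLE (l + N)).IsGE l := isGE_truncLE K (l + N) l
      exact ih l (K.truncLE (l + N)) (finH_truncLE (l + N) hfin)
    · rw [quasiIso_ev_iff_of_quasiIso hI
        (K.shortComplexTruncLEX₃ToTruncGE (l + N) (l + N + 1) rfl)]
      haveI : K.IsLE (l + N + 1) := K.isLE_of_le (l + (N + 1 : ℕ)) (l + N + 1) (by push_cast; lia)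
      haveI : (K.truncGE (l + N + 1)).IsLE (l + N + 1) := isLE_truncGE K (l + N + 1) (l + N + 1)
      exact quasiIso_ev_of_single_cohomology hI hbase _ (l + N + 1)
        (finH_truncGE (l + N + 1) hfin)


theorem quasiIso_ev_of_strictlyLE [IsNoetherianRing A]
    (hbase : ∀ j : ℤ, QuasiIso (ev (sgl j (ModuleCat.of A A)) I)) (K₁ : DRing.Cx A) (m : ℤ)
    [K₁.IsStrictlyLE m] (hK₁fin : FinH K₁) : QuasiIso (ev K₁ I) := by
  haveI := hI.isKInjective
  haveI := hI.ge
  haveI := hI.le
  rw [quasiIso_iff]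
  intro n
  obtain ⟨c, hc⟩ : ∃ c : ℤ, c = |b - a| := ⟨_, rfl⟩
  have hc1 : b - a ≤ c := hc ▸ le_abs_self _
  have hc0 : 0 ≤ c := hc ▸ abs_nonneg _
  obtain ⟨l, hl⟩ : ∃ l : ℤ, l = n - c - 2 := ⟨_, rfl⟩
  have hS' := K₁.shortComplexTruncLE_shortExact l
  have hDDS' := ddSC_shortExact hI _ hS'
  suffices h1 : QuasiIso (ev (K₁.shortComplexTruncLE l).X₃ I) by
    haveI := h1
    haveI : QuasiIsoAt (K₁.shortComplexTruncLE l).g n :=
      quasiIsoAt_g_of_exactAt hS' n (n + 1) rfl
        (CochainComplex.exactAt_of_isLE (K₁.truncLE l) l n (by lia))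
        (CochainComplex.exactAt_of_isLE (K₁.truncLE l) l (n + 1) (by lia))
    haveI : (DRing.homCx (K₁.truncLE l) I).IsGE (a - l) := isGE_homCx _ I l a
    haveI : (DRing.homCx (DRing.homCx (K₁.truncLE l) I) I).IsLE (b - (a - l)) :=
      isLE_homCx _ I (a - l) b
    have i3 : QuasiIsoAt (homCxPre (homCxPre (K₁.shortComplexTruncLE l).g I) I) n :=
      quasiIsoAt_g_of_exactAt hDDS' n (n + 1) rfl
        (CochainComplex.exactAt_of_isLE (DRing.homCx (DRing.homCx (K₁.truncLE l) I) I)
          (b - (a - l)) n (by lia))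
        (CochainComplex.exactAt_of_isLE (DRing.homCx (DRing.homCx (K₁.truncLE l) I) I)
          (b - (a - l)) (n + 1) (by lia))
    have nat := ev_naturality (K₁.shortComplexTruncLE l).g I
    have h2 : QuasiIsoAt ((K₁.shortComplexTruncLE l).g ≫ ev (K₁.shortComplexTruncLE l).X₃ I) n :=
      inferInstance
    rw [← nat] at h2
    exact (@quasiIsoAt_iff_comp_right _ _ _ _ _ _ _ _ (ev K₁ I)
      (homCxPre (homCxPre (K₁.shortComplexTruncLE l).g I) I) n _ _ _ i3).1 h2
  rw [quasiIso_ev_iff_of_quasiIso hI (K₁.shortComplexTruncLEX₃ToTruncGE l (l + 1) rfl)]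
  by_cases hml : l + 1 ≤ m
  · haveI : (K₁.truncGE (l + 1)).IsLE (l + 1 + ((m - l - 1).toNat : ℕ)) :=
      CochainComplex.isLE_of_le _ m _ (by lia)
    exact quasiIso_ev_of_bounded hI hbase (m - l - 1).toNat (l + 1) _
      (finH_truncGE (l + 1) hK₁fin)
  · haveI : (K₁.truncGE (l + 1)).IsLE (l + 1 + ((0 : ℕ) : ℤ)) :=
      CochainComplex.isLE_of_le _ m _ (by simp; lia)
    exact quasiIso_ev_of_bounded hI hbase 0 (l + 1) _ (finH_truncGE (l + 1) hK₁fin)

theorem quasiIso_ev_of_finH [IsNoetherianRing A]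
    (hbase : ∀ j : ℤ, QuasiIso (ev (sgl j (ModuleCat.of A A)) I)) (K : DRing.Cx A)
    (hfin : FinH K) : QuasiIso (ev K I) := by
  haveI := hI.isKInjective
  haveI := hI.ge
  haveI := hI.le
  rw [quasiIso_iff]
  intro n
  obtain ⟨c, hc⟩ : ∃ c : ℤ, c = |b - a| := ⟨_, rfl⟩
  have hc1 : b - a ≤ c := hc ▸ le_abs_self _
  have hc0 : 0 ≤ c := hc ▸ abs_nonneg _
  obtain ⟨m, hm⟩ : ∃ m : ℤ, m = n + c + 2 := ⟨_, rfl⟩
  have hS := K.shortComplexTruncLE_shortExact m
  have hDDS := ddSC_shortExact hI _ hS
  haveI h1 : QuasiIso (ev (K.truncLE m) I) :=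
    quasiIso_ev_of_strictlyLE hI hbase (K.truncLE m) m (finH_truncLE m hfin)
  haveI : QuasiIsoAt (K.ιTruncLE m) n := K.quasiIsoAt_ιTruncLE m n (by lia)
  have hX3 : (K.shortComplexTruncLE m).X₃.IsGE (m + 1) :=
    (HomologicalComplex.isSupported_iff_of_quasiIso
      (K.shortComplexTruncLEX₃ToTruncGE m (m + 1) rfl) _).2 inferInstance
  haveI : (DRing.homCx (K.shortComplexTruncLE m).X₃ I).IsLE (b - (m + 1)) :=
    isLE_homCx _ I (m + 1) b
  haveI : (DRing.homCx (DRing.homCx (K.shortComplexTruncLE m).X₃ I) I).IsGE (a - (b - (m + 1))) :=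
    isGE_homCx _ I (b - (m + 1)) a
  haveI : QuasiIsoAt (homCxPre (homCxPre (K.ιTruncLE m) I) I) n :=
    quasiIsoAt_f_of_exactAt hDDS (n - 1) n (by lia)
      (CochainComplex.exactAt_of_isGE (DRing.homCx (DRing.homCx (K.shortComplexTruncLE m).X₃ I) I)
        (a - (b - (m + 1))) (n - 1) (by lia))
      (CochainComplex.exactAt_of_isGE (DRing.homCx (DRing.homCx (K.shortComplexTruncLE m).X₃ I) I)
        (a - (b - (m + 1))) n (by lia))
  have nat := ev_naturality (K.ιTruncLE m) I
  have h2 : QuasiIsoAt (ev (K.truncLE m) I ≫ homCxPre (homCxPre (K.ιTruncLE m) I) I) n :=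
    inferInstance
  rw [nat] at h2
  exact (quasiIsoAt_iff_comp_left (K.ιTruncLE m) (ev K I) n).1 h2

end Bounded

end Groth.Agent.Lib.T2H4.Bidual
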