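import Groth.Agent.Lib.T2H4Bidual2
import Groth.Agent.Lib.Helper17HOne1

/-!
# Cohomology of `Hom•(K, L)` and morphisms in `D(A)` (helper4)

* `elements_of_quasiIso`: converse of the elementwise criterion `quasiIso_of_elements`.
* `Θ K L z : Q.obj K ⟶ (Q.obj L)⟦n⟧` for an `n`-cocycle `z`; additive, `A`-linear, surjective with
  kernel the coboundaries when `L` is K-injective.
-/
set_option backward.isDefEq.respectTransparency false

set_option autoImplicit false
set_option linter.style.haveILetI false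
universe u v
open CategoryTheory CategoryTheory.Limits
attribute [local instance] HasDerivedCategory.standard

namespace Groth.Agent.Lib.T2H4.Bidual

section Elements

variable {R : Type u} [Ring R]

/-- converse of `quasiIso_of_elements`. -/
lemma elements_of_quasiIso {S₁ S₂ : ShortComplex (ModuleCat.{v} R)} (φ : S₁ ⟶ S₂)
    (h : ShortComplex.QuasiIso φ) :
    (∀ x₂ : S₂.X₂, S₂.g x₂ = 0 →
      ∃ x₁ : S₁.X₂, S₁.g x₁ = 0 ∧ ∃ y : S₂.X₁, φ.τ₂ x₁ = x₂ + S₂.f y) ∧
    (∀ x₁ : S₁.X₂, S₁.g x₁ = 0 → (∃ y : S₂.X₁, φ.τ₂ x₁ = S₂.f y) →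
      ∃ z : S₁.X₁, S₁.f z = x₁) := by
  let h₁ := S₁.moduleCatLeftHomologyData
  let h₂ := S₂.moduleCatLeftHomologyData
  let γ : ShortComplex.LeftHomologyMapData φ h₁ h₂ := default
  rw [γ.quasiIso_iff, ConcreteCategory.isIso_iff_bijective] at h
  have hK : ∀ c : h₁.K, h₂.i (γ.φK c) = φ.τ₂ (h₁.i c) := by
    intro c
    exact congr($(γ.commi) c)
  have hH : ∀ c : h₁.K, γ.φH (h₁.π c) = h₂.π (γ.φK c) := by
    intro c
    exact congr($(γ.commπ) c)
  have hπ₁ : Function.Surjective h₁.π := by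
    rw [← ModuleCat.epi_iff_surjective]; infer_instance
  have hi₂ : Function.Injective h₂.i := by
    rw [← ModuleCat.mono_iff_injective]; infer_instance
  have hi₁ : Function.Injective h₁.i := by
    rw [← ModuleCat.mono_iff_injective]; infer_instance
  have kerπ₂ : ∀ c : h₂.K, h₂.π c = 0 → ∃ z : S₂.X₁, S₂.f z = h₂.i c := by
    intro c hc
    have hc' : c ∈ LinearMap.range S₂.moduleCatToCycles := by
      rw [← Submodule.Quotient.mk_eq_zero]
      exact hc
    obtain ⟨z, hz⟩ := hc'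
    exact ⟨z, by rw [← hz]; rfl⟩
  have kerπ₂' : ∀ c : h₂.K, (∃ z : S₂.X₁, S₂.f z = h₂.i c) → h₂.π c = 0 := by
    rintro c ⟨z, hz⟩
    have : c = h₂.f' z := by
      apply hi₂
      rw [← hz]
      exact (congr($(h₂.f'_i) z)).symm
    rw [this]
    exact congr($(h₂.f'_π) z)
  have kerπ₁' : ∀ c : h₁.K, h₁.π c = 0 → ∃ z : S₁.X₁, S₁.f z = h₁.i c := by
    intro c hc
    have hc' : c ∈ LinearMap.range S₁.moduleCatToCycles := by
      rw [← Submodule.Quotient.mk_eq_zero]
      exact hc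
    obtain ⟨z, hz⟩ := hc'
    exact ⟨z, by rw [← hz]; rfl⟩
  constructor
  · intro x₂ hx₂
    obtain ⟨a, ha⟩ := h.2 (h₂.π ⟨x₂, hx₂⟩)
    obtain ⟨c, rfl⟩ := hπ₁ a
    rw [hH] at ha
    have h0 : h₂.π (γ.φK c - ⟨x₂, hx₂⟩) = 0 := by rw [map_sub, ha, sub_self]
    obtain ⟨y, hy⟩ := kerπ₂ _ h0
    refine ⟨h₁.i c, c.2, y, ?_⟩
    rw [← hK, hy, map_sub]
    show h₂.i (γ.φK c) = x₂ + (h₂.i (γ.φK c) - x₂)
    abel
  · rintro x₁ hx₁ ⟨y, hy⟩
    have h0 : γ.φH (h₁.π ⟨x₁, hx₁⟩) = 0 := by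
      rw [hH]
      apply kerπ₂'
      exact ⟨y, by rw [hK]; exact hy.symm⟩
    have h1 : h₁.π ⟨x₁, hx₁⟩ = 0 := h.1 (h0.trans (map_zero _).symm)
    obtain ⟨z, hz⟩ := kerπ₁' _ h1
    exact ⟨z, hz⟩

end Elements

open CochainComplex HomComplex DerivedCategory Groth.Agent.Lib.T2H4.HomCx HomologicalComplex

variable {A : Type u} [CommRing A]

section Theta

variable (K L : DRing.Cx A)

/-- the morphism in `D(A)` attached to an `n`-cocycle of `Hom•(K, L)`. -/
noncomputable def Θ {n : ℤ} (z : Cocycle K L n) : Q.obj K ⟶ (Q.obj L)⟦n⟧ :=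
  Q.map (Cocycle.equivHomShift.symm z) ≫ (Q.commShiftIso n).hom.app L

variable {K L}

lemma Θ_add {n : ℤ} (z z' : Cocycle K L n) : Θ K L (z + z') = Θ K L z + Θ K L z' := by
  unfold Θ
  rw [map_add, Functor.map_add, Preadditive.add_comp]

lemma equivHomShift_symm_smul {n : ℤ} (a : A) (z : Cocycle K L n) :
    Cocycle.equivHomShift.symm (a • z) = a • Cocycle.equivHomShift.symm z := by
  obtain ⟨f, rfl⟩ := Cocycle.equivHomShift.surjective z
  rw [AddEquiv.symm_apply_apply]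
  apply Cocycle.equivHomShift.injective
  rw [AddEquiv.apply_symm_apply]
  refine Cocycle.ext (Cochain.ext _ _ (fun p q hpq => ?_))
  rw [Cocycle.coe_smul, Cochain.smul_v, Cocycle.equivHomShift_apply, Cocycle.equivHomShift_apply]
  simp only [Cocycle.rightUnshift_coe, Cocycle.ofHom_coe,
    Cochain.rightUnshift_v _ _ _ _ _ _ _ (add_zero p), Cochain.ofHom_v]
  exact (Linear.smul_comp (R := A) _ _ _ a _ _).symm

lemma Θ_smul {n : ℤ} (a : A) (z : Cocycle K L n) : Θ K L (a • z) = a • Θ K L z := by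
  unfold Θ
  rw [equivHomShift_symm_smul, Functor.map_smul, Linear.smul_comp]

lemma Θ_surjective [L.IsKInjective] (n : ℤ) :
    Function.Surjective (Θ K L (n := n)) := by
  intro g
  obtain ⟨f, hf⟩ := Groth.Agent.Lib.Helper17.KInj.exists_Q_map_eq
    (K := K) (L := L⟦n⟧) (g ≫ (Q.commShiftIso n).inv.app L)
  refine ⟨Cocycle.equivHomShift f, ?_⟩
  unfold Θ
  rw [AddEquiv.symm_apply_apply, hf, Category.assoc, Iso.inv_hom_id_app]
  exact Category.comp_id g

lemma Θ_eq_zero_iff [L.IsKInjective] {n : ℤ} (z : Cocycle K L n) :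
    Θ K L z = 0 ↔ ∃ y : Cochain K L (n - 1), δ (n - 1) n y = z := by
  rw [← mem_coboundaries_iff z (n - 1) (by simp), ← CohomologyClass.toHom_mk_eq_zero_iff,
    CohomologyClass.toHom_mk]
  unfold Θ
  have h1 := IsKInjective.Qh_map_bijective
    ((HomotopyCategory.quotient (ModuleCat.{u} A) (ComplexShape.up ℤ)).obj K) (L⟦n⟧)
  constructor
  · intro h
    apply h1.1
    have h2 : Q.map (Cocycle.equivHomShift.symm z) = 0 := by
      have := congrArg (fun t => t ≫ (Q.commShiftIso n).inv.app L) h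
      simpa using this
    rw [Functor.map_zero]
    exact h2
  · intro h
    have h2 : Q.map (Cocycle.equivHomShift.symm z) = 0 := by
      have := congrArg (fun t => Qh.map t) h
      rw [Functor.map_zero] at this
      exact this
    rw [h2, zero_comp]

end Theta

section Consequences

variable (K L : DRing.Cx A)

lemma homCx_d_apply'' (i j : ℤ) (z : Cochain K L i) :
    ((DRing.homCx K L).d i j).hom z = δ i j z := rfl

/-- `Hom•(K, L)` is exact in degree `n` when there are no maps `K ⟶ L[n]` in `D(A)`. -/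
theorem exactAt_homCx_of_subsingleton [L.IsKInjective] (n : ℤ)
    (h : Subsingleton (Q.obj K ⟶ (Q.obj L)⟦n⟧)) : (DRing.homCx K L).ExactAt n := by
  rw [HomologicalComplex.exactAt_iff' _ (n - 1) n (n + 1) (by simp) (by simp),
    ShortComplex.ShortExact.moduleCat_exact_iff_function_exact]
  intro (z : Cochain K L n)
  constructor
  · intro (hz : δ n (n + 1) z = 0)
    have h0 : Θ K L (Cocycle.mk z (n + 1) rfl hz) = 0 := Subsingleton.elim _ _
    obtain ⟨y, hy⟩ := (Θ_eq_zero_iff _).1 h0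
    exact ⟨y, hy⟩
  · rintro ⟨(y : Cochain K L (n - 1)), rfl⟩
    exact δ_δ (n - 1) n (n + 1) y

/-- the linear map from cocycles to morphisms in `D(A)`. -/
noncomputable def ΘLin (n : ℤ) :
    LinearMap.ker ((DRing.homCx K L).sc' (n - 1) n (n + 1)).g.hom →ₗ[A]
      (Q.obj K ⟶ (Q.obj L)⟦n⟧) where
  toFun z := Θ K L (Cocycle.mk (z.1 : Cochain K L n) (n + 1) rfl z.2)
  map_add' z z' := by
    rw [← Θ_add]
    rfl
  map_smul' a z := by
    rw [RingHom.id_apply, ← Θ_smul]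
    rfl

lemma ΘLin_surjective [L.IsKInjective] (n : ℤ) : Function.Surjective (ΘLin K L n) := by
  intro g
  obtain ⟨z, hz⟩ := Θ_surjective (K := K) (L := L) n g
  exact ⟨⟨z.1, Cocycle.δ_eq_zero z (n + 1)⟩, hz⟩

/-- the cohomology of `Hom•(K, L)` is finite as soon as `Hom_{D(A)}(K, L[n])` is. -/
theorem finite_homology_homCx [L.IsKInjective] (n : ℤ)
    (h : Module.Finite A (Q.obj K ⟶ (Q.obj L)⟦n⟧)) :
    Module.Finite A ((DRing.homCx K L).homology n) := by
  let S := (DRing.homCx K L).sc' (n - 1) n (n + 1)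
  let e1 : (DRing.homCx K L).homology n ≅ S.homology :=
    (DRing.homCx K L).homologyIsoSc' (n - 1) n (n + 1) (by simp) (by simp)
  let e2 := S.moduleCatHomologyIso
  suffices hfin : Module.Finite A (LinearMap.ker S.g.hom ⧸ LinearMap.range S.moduleCatToCycles) by
    have : Module.Finite A S.moduleCatLeftHomologyData.H := hfin
    exact Module.Finite.equiv (e1 ≪≫ e2).symm.toLinearEquiv
  -- the kernel of `ΘLin` is the range of `toCycles`
  have hker : LinearMap.ker (ΘLin K L n) = LinearMap.range S.moduleCatToCycles := by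
    ext z
    rw [LinearMap.mem_ker, LinearMap.mem_range]
    show Θ K L (Cocycle.mk (z.1 : Cochain K L n) (n + 1) rfl z.2) = 0 ↔ _
    rw [Θ_eq_zero_iff]
    constructor
    · rintro ⟨y, hy⟩
      exact ⟨y, Subtype.ext hy⟩
    · rintro ⟨y, hy⟩
      exact ⟨y, congrArg Subtype.val hy⟩
  let e3 := (ΘLin K L n).quotKerEquivOfSurjective (ΘLin_surjective K L n)
  let e4 := Submodule.quotEquivOfEq _ _ hker
  exact Module.Finite.equiv (e4.symm ≪≫ₗ e3).symm


variable {K L}
variable {X : DRing.Cx A} (η : X ⟶ DRing.homCx K L)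

/-- the cocycle of `Hom•(K, L)` attached to a cycle of `X`. -/
noncomputable def cocycleOf (n : ℤ) (x : X.X n) (hx : (X.d n (n + 1)).hom x = 0) :
    Cocycle K L n :=
  Cocycle.mk ((η.f n).hom x : Cochain K L n) (n + 1) rfl (by
    have h1 := congr($(η.comm n (n + 1)) x)
    simp only [ModuleCat.hom_comp, LinearMap.comp_apply] at h1
    rw [hx, map_zero] at h1
    exact h1)

lemma cocycleOf_coe (n : ℤ) (x : X.X n) (hx : (X.d n (n + 1)).hom x = 0) :
    ((cocycleOf η n x hx : Cocycle K L n) : Cochain K L n) = (η.f n).hom x := rfl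

open Groth.Agent.Lib.Helper17.HOne in
theorem quasiIsoAt_of_Θ [L.IsKInjective] (n : ℤ)
    (hsurj : ∀ g : Q.obj K ⟶ (Q.obj L)⟦n⟧, ∃ (x : X.X n) (hx : (X.d n (n + 1)).hom x = 0),
      Θ K L (cocycleOf η n x hx) = g)
    (hinj : ∀ (x : X.X n) (hx : (X.d n (n + 1)).hom x = 0), Θ K L (cocycleOf η n x hx) = 0 →
      ∃ y : X.X (n - 1), (X.d (n - 1) n).hom y = x) : QuasiIsoAt η n := by
  rw [quasiIsoAt_iff' η (n - 1) n (n + 1) (by simp) (by simp)]
  apply quasiIso_of_elements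
  · intro (z : Cochain K L n) (hz : δ n (n + 1) z = 0)
    obtain ⟨x, hx, hΘ⟩ := hsurj (Θ K L (Cocycle.mk z (n + 1) rfl hz))
    have h0 : Θ K L (cocycleOf η n x hx - Cocycle.mk z (n + 1) rfl hz) = 0 := by
      rw [sub_eq_add_neg, Θ_add, hΘ, ← Θ_add, ← sub_eq_add_neg, sub_self]
      have := Θ_smul (K := K) (L := L) (0 : A) (0 : Cocycle K L n)
      rwa [zero_smul, zero_smul] at this
    obtain ⟨y, hy⟩ := (Θ_eq_zero_iff _).1 h0
    refine ⟨x, hx, y, ?_⟩
    show (η.f n).hom x = z + δ (n - 1) n y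
    rw [hy, Cocycle.coe_sub, cocycleOf_coe]
    obtain ⟨w, hw⟩ : ∃ w : Cochain K L n, w = (η.f n).hom x := ⟨_, rfl⟩
    rw [← hw]
    show w = z + (w - z)
    abel
  · intro x hx
    rintro ⟨(y : Cochain K L (n - 1)), hy⟩
    have hy' : (η.f n).hom x = δ (n - 1) n y := hy
    apply hinj x hx
    rw [Θ_eq_zero_iff]
    exact ⟨y, by rw [cocycleOf_coe, hy']⟩

theorem Θ_of_quasiIsoAt [L.IsKInjective] (n : ℤ) [QuasiIsoAt η n] :
    (∀ g : Q.obj K ⟶ (Q.obj L)⟦n⟧, ∃ (x : X.X n) (hx : (X.d n (n + 1)).hom x = 0),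
      Θ K L (cocycleOf η n x hx) = g) ∧
    (∀ (x : X.X n) (hx : (X.d n (n + 1)).hom x = 0), Θ K L (cocycleOf η n x hx) = 0 →
      ∃ y : X.X (n - 1), (X.d (n - 1) n).hom y = x) := by
  have h := (quasiIsoAt_iff' η (n - 1) n (n + 1) (by simp) (by simp)).1 inferInstance
  obtain ⟨h1, h2⟩ := elements_of_quasiIso _ h
  constructor
  · intro g
    obtain ⟨z, hz⟩ := Θ_surjective (K := K) (L := L) n g
    obtain ⟨x, hx, y, hy⟩ := h1 (z.1 : Cochain K L n) (Cocycle.δ_eq_zero z (n + 1))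
    refine ⟨x, hx, ?_⟩
    rw [← hz]
    have hy' : (η.f n).hom x = (z : Cochain K L n) + δ (n - 1) n (y : Cochain K L (n - 1)) := hy
    have h0 : Θ K L (cocycleOf η n x hx - z) = 0 := by
      rw [Θ_eq_zero_iff]
      refine ⟨y, ?_⟩
      rw [Cocycle.coe_sub, cocycleOf_coe, hy']
      abel
    have h3 : cocycleOf η n x hx = (cocycleOf η n x hx - z) + z := by abel
    rw [h3, Θ_add, h0, zero_add]
  · intro x hx hΘ
    obtain ⟨y, hy⟩ := (Θ_eq_zero_iff _).1 hΘ
    exact h2 x hx ⟨y, by rw [cocycleOf_coe] at hy; exact hy.symm⟩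

end Consequences

end Groth.Agent.Lib.T2H4.Bidual
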