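import Groth.Agent.Lib.T2H4Bidual3
import Groth.Agent.S6965

/-!
# Biduality for dualizing complexes, chain-level form (helper4)

* `quasiIso_ev_single_self`: the base case `A[-j] ⟶ DD(A[-j])`.
* `quasiIso_ev_of_dualizing`: `K ⟶ Hom•(Hom•(K, I), I)` is a quasi-isomorphism for `K` with finite
  cohomology when `I` is a bounded complex of injectives representing a dualizing complex.
* `exists_bddInj_of_isDualizing`: a dualizing complex is represented by such an `I`.
-/
set_option backward.isDefEq.respectTransparency.types false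

set_option autoImplicit false
set_option linter.style.haveILetI false
universe u v
open CategoryTheory CategoryTheory.Limits
attribute [local instance] HasDerivedCategory.standard

namespace Groth.Agent.Lib.T2H4.Bidual

open CochainComplex HomComplex DerivedCategory Groth.Agent.Lib.T2H4.HomCx HomologicalComplex

variable {A : Type u} [CommRing A]

section Base

variable (I : DRing.Cx A) (j : ℤ)

/-- the generator of `A[-j]`. -/
noncomputable def gen : (sgl j (ModuleCat.of A A)).X j :=
  (HomologicalComplex.singleObjXSelf (ComplexShape.up ℤ) j (ModuleCat.of A A)).inv.hom (1 : A)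

lemma d_gen : ((sgl j (ModuleCat.of A A)).d j (j + 1)).hom (gen j) = 0 := by
  have h : (sgl j (ModuleCat.of A A)).d j (j + 1) = 0 :=
    (isZero_single_obj_X (ComplexShape.up ℤ) j (ModuleCat.of A A) (j + 1) (by lia)).eq_of_tgt _ _
  rw [h]
  rfl

lemma eq_smul_gen (x : (sgl j (ModuleCat.of A A)).X j) :
    x = ((HomologicalComplex.singleObjXSelf (ComplexShape.up ℤ) j (ModuleCat.of A A)).hom.hom x : A) •
      gen (A := A) j := by
  unfold gen
  rw [← map_smul, smul_eq_mul, mul_one]
  exact (congr($((HomologicalComplex.singleObjXSelf (ComplexShape.up ℤ) j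
    (ModuleCat.of A A)).hom_inv_id) x)).symm

/-- the cocycle "evaluation at the generator". -/
noncomputable def genCocycle : Cocycle (DRing.homCx (sgl j (ModuleCat.of A A)) I) I j :=
  cocycleOf (ev (sgl j (ModuleCat.of A A)) I) j (gen j) (d_gen j)

/-- evaluation at the generator, `Hom•(A[-j], I) ⟶ I[j]`. -/
noncomputable def tMap : DRing.homCx (sgl j (ModuleCat.of A A)) I ⟶ I⟦j⟧ :=
  Cocycle.equivHomShift.symm (genCocycle I j)

lemma bijective_eval_one (N : ModuleCat.{u} A) :
    Function.Bijective (fun f : ModuleCat.of A A ⟶ N => f.hom (1 : A)) := by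
  constructor
  · intro f g h
    ext
    exact h
  · intro w
    exact ⟨ModuleCat.ofHom (LinearMap.toSpanSingleton A N w), by simp⟩

lemma bijective_evLin_gen (p q : ℤ) (h : p + j = q) :
    Function.Bijective (evLin (sgl j (ModuleCat.of A A)) I j p q h (gen j)) := by
  have h1 : Function.Bijective (fun z : Cochain (sgl j (ModuleCat.of A A)) I p =>
      (Cochain.fromSingleEquiv (X := ModuleCat.of A A) (K := I) (p := j) (q := q) (n := p)
        (by lia) z).hom (1 : A)) :=
    (bijective_eval_one _).comp (Cochain.fromSingleEquiv _).bijective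
  have h2 : Function.Bijective (fun w : I.X q => ((j * p).negOnePow : ℤ) • w) := by
    have : (fun w : I.X q => ((j * p).negOnePow : ℤ) • w) = fun w => (j * p).negOnePow • w := by
      funext w
      rw [Units.smul_def]
    rw [this]
    exact MulAction.bijective _
  exact h2.comp h1

instance isIso_tMap : IsIso (tMap I j) := by
  suffices ∀ p, IsIso ((tMap I j).f p) from HomologicalComplex.Hom.isIso_of_components _
  intro p
  have h1 : (tMap I j).f p = ((genCocycle I j).1.v p (p + j) rfl) ≫
      (I.shiftFunctorObjXIso j p (p + j) rfl).inv := by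
    unfold tMap
    rw [Cocycle.equivHomShift_symm_apply, Cocycle.homOf_f, Cocycle.rightShift_coe,
      Cochain.rightShift_v _ j 0 (zero_add j) p p (add_zero p) (p + j) rfl]
  rw [h1]
  haveI : IsIso ((genCocycle I j).1.v p (p + j) rfl) := by
    rw [ConcreteCategory.isIso_iff_bijective]
    exact bijective_evLin_gen I j p (p + j) rfl
  infer_instance


lemma subsingleton_hom_shift (X Y : Dual.D A) (j n : ℤ) (h : Subsingleton (X ⟶ Y⟦n - j⟧)) :
    Subsingleton (X⟦j⟧ ⟶ Y⟦n⟧) := by
  refine ⟨fun g g' => ?_⟩
  have key : ∀ g : X⟦j⟧ ⟶ Y⟦n⟧, g = 0 := by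
    intro g
    obtain ⟨ψ, hψ⟩ := (CategoryTheory.shiftFunctor (Dual.D A) j).map_surjective
      (g ≫ (CategoryTheory.shiftFunctorAdd' (Dual.D A) (n - j) j n (by lia)).hom.app Y)
    have h0 : ψ = 0 := Subsingleton.elim _ _
    rw [h0, Functor.map_zero] at hψ
    have h1 : g ≫ (CategoryTheory.shiftFunctorAdd' (Dual.D A) (n - j) j n (by lia)).hom.app Y = 0 := hψ.symm
    rw [← cancel_mono ((CategoryTheory.shiftFunctorAdd' (Dual.D A) (n - j) j n (by lia)).hom.app Y), h1,
      zero_comp]
  rw [key g, key g']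

lemma cocycleOf_smul {K L X : DRing.Cx A} (η : X ⟶ DRing.homCx K L) (n : ℤ) (a : A) (x : X.X n)
    (hx : (X.d n (n + 1)).hom x = 0) (hax : (X.d n (n + 1)).hom (a • x) = 0) :
    cocycleOf η n (a • x) hax = a • cocycleOf η n x hx := by
  refine Cocycle.ext ?_
  rw [Cocycle.coe_smul, cocycleOf_coe, cocycleOf_coe]
  exact map_smul _ _ _

/-- the isomorphism `Hom•(A[-j], I) ≅ I[j]` in `D(A)`. -/
noncomputable def uIso : Q.obj (DRing.homCx (sgl j (ModuleCat.of A A)) I) ≅ (Q.obj I)⟦j⟧ :=
  asIso (Q.map (tMap I j)) ≪≫ (Q.commShiftIso j).app I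

lemma Θ_genCocycle : Θ _ _ (genCocycle I j) = (uIso I j).hom := rfl

/-- **Base case of biduality**: `A[-j] ⟶ DD(A[-j])` is a quasi-isomorphism when `A ⟶ End(I)` is
bijective and `I` has no self-extensions. -/
theorem quasiIso_ev_single_self [I.IsKInjective]
    (hEnd : Function.Bijective (fun a : A => a • 𝟙 (Q.obj I)))
    (hExt : ∀ i : ℤ, i ≠ 0 → Subsingleton (Q.obj I ⟶ (Q.obj I)⟦i⟧)) :
    QuasiIso (ev (sgl j (ModuleCat.of A A)) I) := by
  rw [quasiIso_iff]
  intro n
  by_cases hn : n = j
  · subst hn
    -- every `x` is a multiple of the generator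
    have hΘ : ∀ (x : (sgl n (ModuleCat.of A A)).X n)
        (hx : ((sgl n (ModuleCat.of A A)).d n (n + 1)).hom x = 0),
        Θ _ _ (cocycleOf (ev (sgl n (ModuleCat.of A A)) I) n x hx) =
          ((HomologicalComplex.singleObjXSelf (ComplexShape.up ℤ) n
            (ModuleCat.of A A)).hom.hom x : A) • (uIso I n).hom := by
      intro x hx
      have h1 := eq_smul_gen n x
      have h2 : cocycleOf (ev (sgl n (ModuleCat.of A A)) I) n x hx =
          ((HomologicalComplex.singleObjXSelf (ComplexShape.up ℤ) n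
            (ModuleCat.of A A)).hom.hom x : A) • genCocycle I n := by
        unfold genCocycle
        rw [← cocycleOf_smul _ n _ (gen n) (d_gen n) (by rw [← h1]; exact hx)]
        congr 1
      rw [h2, Θ_smul, Θ_genCocycle]
    apply quasiIsoAt_of_Θ
    · intro g
      obtain ⟨ψ, hψ⟩ := (CategoryTheory.shiftFunctor (Dual.D A) n).map_surjective ((uIso I n).inv ≫ g)
      obtain ⟨a, ha⟩ := hEnd.2 ψ
      refine ⟨a • gen n, ?_, ?_⟩
      · rw [map_smul, d_gen, smul_zero]
      · rw [hΘ]
        have h3 : (HomologicalComplex.singleObjXSelf (ComplexShape.up ℤ) n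
            (ModuleCat.of A A)).hom.hom (a • gen (A := A) n) = a := by
          rw [map_smul]
          unfold gen
          have := congr($((HomologicalComplex.singleObjXSelf (ComplexShape.up ℤ) n
            (ModuleCat.of A A)).inv_hom_id) (1 : A))
          simp only [ModuleCat.hom_comp, LinearMap.comp_apply] at this
          rw [this]
          simp
        rw [h3]
        have h4 : a • 𝟙 ((Q.obj I)⟦n⟧) = (uIso I n).inv ≫ g := by
          rw [← hψ, ← ha, Functor.map_smul, CategoryTheory.Functor.map_id]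
        calc a • (uIso I n).hom = (uIso I n).hom ≫ (a • 𝟙 _) := by
              rw [Linear.comp_smul, Category.comp_id]
          _ = g := by rw [h4, Iso.hom_inv_id_assoc]
    · intro x hx h0
      rw [hΘ] at h0
      obtain ⟨a, ha⟩ : ∃ a : A, a = (HomologicalComplex.singleObjXSelf (ComplexShape.up ℤ) n
          (ModuleCat.of A A)).hom.hom x := ⟨_, rfl⟩
      rw [← ha] at h0
      have h5 : ((HomologicalComplex.singleObjXSelf (ComplexShape.up ℤ) n
          (ModuleCat.of A A)).hom.hom x : A) = 0 := by
        rw [← ha]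
        apply hEnd.1
        show a • 𝟙 (Q.obj I) = (0 : A) • 𝟙 (Q.obj I)
        rw [zero_smul]
        apply (CategoryTheory.shiftFunctor (Dual.D A) n).map_injective
        rw [Functor.map_smul, CategoryTheory.Functor.map_id, Functor.map_zero]
        calc a • 𝟙 ((Q.obj I)⟦n⟧) = (uIso I n).inv ≫ (a • (uIso I n).hom) := by
              rw [Linear.comp_smul, Iso.inv_hom_id]
          _ = 0 := by rw [h0, comp_zero]
      refine ⟨0, ?_⟩
      rw [map_zero, eq_smul_gen n x, h5, zero_smul]
  · -- both sides vanish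
    apply quasiIsoAt_of_Θ
    · intro g
      have hs : Subsingleton (Q.obj (DRing.homCx (sgl j (ModuleCat.of A A)) I) ⟶ (Q.obj I)⟦n⟧) := by
        have := subsingleton_hom_shift (Q.obj I) (Q.obj I) j n (hExt (n - j) (by lia))
        exact ⟨fun f f' => by
          rw [← cancel_epi (uIso I j).inv]
          exact Subsingleton.elim _ _⟩
      refine ⟨0, by rw [map_zero], Subsingleton.elim _ _⟩
    · intro x hx _
      refine ⟨0, ?_⟩
      rw [map_zero]
      haveI := ModuleCat.subsingleton_of_isZero
        (isZero_single_obj_X (ComplexShape.up ℤ) j (ModuleCat.of A A) n hn)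
      exact Subsingleton.elim _ _

end Base

section Main

/-- `I` represents a dualizing complex: bounded, termwise injective, `A ≅ End(I)` and no
self-extensions. -/
structure DualizingRep (I : DRing.Cx A) (a b : ℤ) : Prop where
  bdd : BddInj I a b
  hEnd : Function.Bijective (fun x : A => x • 𝟙 (Q.obj I))
  hExt : ∀ i : ℤ, i ≠ 0 → Subsingleton (Q.obj I ⟶ (Q.obj I)⟦i⟧)

theorem quasiIso_ev_of_dualizing [IsNoetherianRing A] {I : DRing.Cx A} {a b : ℤ}
    (hI : DualizingRep I a b) (K : DRing.Cx A) (hfin : FinH K) : QuasiIso (ev K I) :=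
  haveI := hI.bdd.isKInjective
  quasiIso_ev_of_finH hI.bdd (fun j => quasiIso_ev_single_self I j hI.hEnd hI.hExt) K hfin

theorem exists_dualizingRep (ω : Dual.D A) (hω : Dual.IsDualizing A ω) :
    ∃ (I : DRing.Cx A) (a b : ℤ), DualizingRep I a b ∧ Nonempty (Q.obj I ≅ ω) := by
  obtain ⟨a, b, hab⟩ := hω.finite_injective_dimension
  obtain ⟨I, hIv, hIinj, ⟨e⟩⟩ := Groth.Agent.S6965.rep_of_subsingleton ω a b
    (fun J i hi => hab (A ⧸ J) i hi)
  refine ⟨I, a, b, ⟨⟨fun n => Module.injective_object_of_injective_module A (I.X n)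
    (inj := hIinj n), ?_, ?_⟩, ?_, ?_⟩, ⟨e⟩⟩
  · rw [isStrictlyGE_iff]
    intro i hi
    exact hIv i (Or.inl hi)
  · rw [isStrictlyLE_iff]
    intro i hi
    exact hIv i (Or.inr hi)
  · have h := hω.toEnd_bijective
    have hconj : Function.Bijective (fun f : ω ⟶ ω => e.hom ≫ f ≫ e.inv) := by
      constructor
      · intro f g hfg
        have := congrArg (fun t => e.inv ≫ t ≫ e.hom) hfg
        simpa using this
      · intro g
        exact ⟨e.inv ≫ g ≫ e.hom, by simp⟩
    have heq : (fun x : A => x • 𝟙 (Q.obj I)) =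
        (fun f : ω ⟶ ω => e.hom ≫ f ≫ e.inv) ∘ (fun x : A => x • 𝟙 ω) := by
      funext x
      simp only [Function.comp_apply]
      rw [Linear.smul_comp, Linear.comp_smul, Category.id_comp, Iso.hom_inv_id]
    rw [heq]
    exact hconj.comp h
  · intro i hi
    have := hω.ext_self_subsingleton i hi
    refine ⟨fun f g => ?_⟩
    have h1 : e.inv ≫ f ≫ (e.hom⟦i⟧') = e.inv ≫ g ≫ (e.hom⟦i⟧') := Subsingleton.elim _ _
    rw [cancel_epi, cancel_mono] at h1
    exact h1

end Main

end Groth.Agent.Lib.T2H4.Bidual
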