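import Groth.Agent.Lib.T2H4Bidual4
import Groth.Agent.Lib.Helper17KInjE1
import Groth.Agent.Lib.Helper1KF8
import Groth.Agent.S1746

/-!
# Biduality for dualizing complexes: the statement in `D(A)` (helper4)

* `finH_homCx`: `Hom•(K, I)` has finite cohomology.
* `biduality`: the statement S1819.
-/
set_option backward.isDefEq.respectTransparency.types false

set_option autoImplicit false
set_option linter.style.haveILetI false
universe u v
open CategoryTheory CategoryTheory.Limits
attribute [local instance] HasDerivedCategory.standard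

namespace Groth.Agent.Lib.T2H4.Bidual

open CochainComplex HomComplex DerivedCategory Groth.Agent.Lib.T2H4.HomCx HomologicalComplex
  Groth.Agent.Lib.Helper17.KInj

variable {A : Type u} [CommRing A]

section Assemble

lemma finH_iff (K : DRing.Cx A) :
    FinH K ↔ ∀ i : ℤ, Module.Finite A (Dual.HD A (DRing.toD K) i) := by
  constructor
  · intro h i
    haveI : Module.Finite A
        ((HomologicalComplex.homologyFunctor (ModuleCat.{u} A) (ComplexShape.up ℤ) i).obj K) := h i
    exact Module.Finite.equiv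
      ((homologyFunctorFactors (ModuleCat.{u} A) i).app K).symm.toLinearEquiv
  · intro h i
    haveI : Module.Finite A
        ((Q ⋙ DerivedCategory.homologyFunctor (ModuleCat.{u} A) i).obj K) := h i
    exact Module.Finite.equiv
      ((homologyFunctorFactors (ModuleCat.{u} A) i).app K).toLinearEquiv

lemma DualizingRep.fibrant {I : DRing.Cx A} {a b : ℤ} (hI : DualizingRep I a b) :
    fibrant.{u} (ModuleCat.{u} A) I :=
  haveI := hI.bdd.isKInjective
  rlp_of_isKInjective I hI.bdd.inj

/-- `H^i(Hom•(K, I))` is finite for `K` with finite cohomology. -/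
theorem finH_homCx [IsNoetherianRing A] {I : DRing.Cx A} {a b : ℤ} (hI : DualizingRep I a b)
    (hIfin : FinH I) (K : DRing.Cx A) (hK : FinH K) : FinH (DRing.homCx K I) := by
  intro i
  haveI := hI.bdd.isKInjective
  apply finite_homology_homCx
  refine Groth.Agent.S1746.result A (Q.obj K) (Q.obj I) ((finH_iff K).1 hK) ((finH_iff I).1 hIfin)
    ⟨a, b, I, ?_, ?_, ⟨Iso.refl _⟩⟩ i
  · intro n hn
    haveI := hI.bdd.ge
    haveI := hI.bdd.le
    rcases hn with hn | hn
    · exact I.isZero_of_isStrictlyGE a n hn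
    · exact I.isZero_of_isStrictlyLE b n hn
  · intro n
    exact Module.injective_module_of_injective_object A (I.X n) (inj := hI.bdd.inj n)


open Groth.Agent.Lib.Helper1.KF in
/-- **S1819**: biduality for a dualizing complex. -/
theorem biduality [IsNoetherianRing A] (ω : Dual.D A) (hω : Dual.IsDualizing A ω)
    (K : DRing.Cx A) [DRing.HasRHomCx K]
    (hK : ∀ i : ℤ, Module.Finite A (Dual.HD A (DRing.toD K) i)) :
    (∀ i : ℤ, Module.Finite A (Dual.HD A ((DRing.RHomCx K).obj ω) i)) ∧
      ∀ (E : DRing.Cx A) [DRing.HasRHomCx E], Nonempty (DRing.toD E ≅ (DRing.RHomCx K).obj ω) →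
        Nonempty ((DRing.RHomCx E).obj ω ≅ DRing.toD K) := by
  obtain ⟨I, a, b, hI, ⟨e⟩⟩ := exists_dualizingRep ω hω
  have hfib := hI.fibrant
  haveI := hI.bdd.isKInjective
  have hIfin : FinH I := (finH_iff I).2 (fun i => by
    haveI := hω.finite_cohomology i
    exact Module.Finite.equiv
      ((DerivedCategory.homologyFunctor (ModuleCat.{u} A) i).mapIso e).symm.toLinearEquiv)
  have hKfin : FinH K := (finH_iff K).2 hK
  let e1 : (DRing.RHomCx K).obj ω ≅ Q.obj (DRing.homCx K I) :=
    (DRing.RHomCx K).mapIso e.symm ≪≫ RHomCxQIso K I hfib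
  constructor
  · intro i
    haveI := (finH_iff _).1 (finH_homCx hI hIfin K hKfin) i
    exact Module.Finite.equiv
      ((DerivedCategory.homologyFunctor (ModuleCat.{u} A) i).mapIso e1).symm.toLinearEquiv
  · intro E _ ⟨eE⟩
    obtain ⟨P, π, hP, -, hπ, -⟩ := exists_kprojective_resolution E
    haveI := hP
    haveI := hπ
    haveI : IsIso (Q.map π) := (isIso_Q_map_iff_quasiIso (φ := π)).2 inferInstance
    have eP : Q.obj P ≅ Q.obj E := asIso (Q.map π)
    haveI : DRing.HasRHomCx P := hasRHomCx P
    haveI : DRing.HasRHomCx (DRing.homCx K I) := hasRHomCx _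
    obtain ⟨i1⟩ := nonempty_RHomCx_iso_of_iso (P := P) (E := E) eP ω
    obtain ⟨i2⟩ := nonempty_RHomCx_iso_of_iso (P := P) (E := DRing.homCx K I)
      (eP ≪≫ eE ≪≫ e1) ω
    haveI := quasiIso_ev_of_dualizing hI K hKfin
    haveI : IsIso (Q.map (ev K I)) := (isIso_Q_map_iff_quasiIso (φ := ev K I)).2 inferInstance
    have i3 : (DRing.RHomCx (DRing.homCx K I)).obj ω ≅
        Q.obj (DRing.homCx (DRing.homCx K I) I) :=
      (DRing.RHomCx _).mapIso e.symm ≪≫ RHomCxQIso _ I hfib
    have i4 : Q.obj K ≅ Q.obj (DRing.homCx (DRing.homCx K I) I) := asIso (Q.map (ev K I))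
    exact ⟨i1 ≪≫ i2.symm ≪≫ i3 ≪≫ i4.symm⟩

end Assemble

end Groth.Agent.Lib.T2H4.Bidual
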