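import Mathlib

/-!
# Length bookkeeping for quotients by principal ideals (helper4)

* `length_quot_map`: for injective `i : M → V` and `N ≤ M`,
  `ℓ(V / i(N)) = ℓ(M / N) + ℓ(V / i(M))`.
* `colen R y = ℓ_R(B / yB)`, additivity `colen_mul`, invariance under finite-colength extensions
  `colen_eq_of_injective`.
-/

set_option autoImplicit false

namespace Groth.Agent.Lib.T2H4.Blow

section len

variable {R : Type*} [CommRing R] {M V : Type*} [AddCommGroup M] [Module R M]
  [AddCommGroup V] [Module R V]

theorem length_quot_map (i : M →ₗ[R] V) (hi : Function.Injective i) (N : Submodule R M) :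
    Module.length R (V ⧸ N.map i) =
      Module.length R (M ⧸ N) + Module.length R (V ⧸ LinearMap.range i) := by
  have hle : N.map i ≤ LinearMap.range i := LinearMap.map_le_range
  have hN : N ≤ (N.map i).comap i := Submodule.le_comap_map _ _
  refine Module.length_eq_add_of_exact (Submodule.mapQ N (N.map i) i hN) (Submodule.factor hle) ?_
    (Submodule.factor_surjective hle) ?_
  · rw [injective_iff_map_eq_zero]
    intro y hy
    obtain ⟨z, rfl⟩ := Submodule.Quotient.mk_surjective _ y
    rw [Submodule.mapQ_apply, Submodule.Quotient.mk_eq_zero] at hy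
    rw [Submodule.Quotient.mk_eq_zero]
    obtain ⟨w, hw, hwz⟩ := hy
    rwa [← hi hwz]
  · rw [LinearMap.exact_iff]
    ext y
    obtain ⟨z, rfl⟩ := Submodule.Quotient.mk_surjective _ y
    have hfm : Submodule.factor hle (Submodule.Quotient.mk z) = Submodule.Quotient.mk z := rfl
    rw [LinearMap.mem_ker, hfm, Submodule.Quotient.mk_eq_zero, LinearMap.mem_range]
    constructor
    · rintro ⟨w, rfl⟩
      exact ⟨Submodule.Quotient.mk w, by rw [Submodule.mapQ_apply]⟩
    · rintro ⟨w, hw⟩
      obtain ⟨p, rfl⟩ := Submodule.Quotient.mk_surjective _ w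
      rw [Submodule.mapQ_apply, Submodule.Quotient.eq] at hw
      obtain ⟨q, -, hq⟩ := hw
      refine ⟨p - q, ?_⟩
      rw [map_sub, hq]
      abel

theorem length_quot_succ_le {N P : Submodule R V} (h : N < P) :
    Module.length R (V ⧸ P) + 1 ≤ Module.length R (V ⧸ N) := by
  have h1 := length_quot_map P.subtype (Submodule.subtype_injective P) (N.comap P.subtype)
  rw [Submodule.map_comap_subtype, inf_eq_right.mpr h.le, Submodule.range_subtype] at h1
  rw [h1, add_comm]
  gcongr
  rw [Order.one_le_iff_pos, Module.length_pos_iff, Submodule.Quotient.nontrivial_iff]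
  obtain ⟨x, hxP, hxN⟩ := SetLike.exists_of_lt h
  intro htop
  have : (⟨x, hxP⟩ : P) ∈ N.comap P.subtype := by rw [htop]; trivial
  exact hxN this

theorem length_quot_le_of_le {N P : Submodule R V} (h : N ≤ P) :
    Module.length R (V ⧸ P) ≤ Module.length R (V ⧸ N) :=
  Module.length_le_of_surjective (Submodule.factor h) (Submodule.factor_surjective h)

end len

section colen

variable (R : Type*) [CommRing R] {B : Type*} [CommRing B] [Algebra R B]

/-- `ℓ_R(B / yB)`. -/
noncomputable def colen (y : B) : ℕ∞ :=
  Module.length R (B ⧸ LinearMap.range (LinearMap.mulLeft R y))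

theorem mem_range_mulLeft {y z : B} :
    z ∈ LinearMap.range (LinearMap.mulLeft R y) ↔ ∃ w, y * w = z := by
  rw [LinearMap.mem_range]
  rfl

theorem mulLeft_injective {y : B} (hy : y ∈ nonZeroDivisors B) :
    Function.Injective (LinearMap.mulLeft R y) := by
  rw [injective_iff_map_eq_zero]
  intro z hz
  exact (mul_left_mem_nonZeroDivisors_eq_zero_iff hy).mp (by simpa using hz)

theorem colen_mul (x y : B) (hx : x ∈ nonZeroDivisors B) :
    colen R (x * y) = colen R y + colen R x := by
  have h1 := length_quot_map (LinearMap.mulLeft R x) (mulLeft_injective R hx)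
    (LinearMap.range (LinearMap.mulLeft R y))
  have h2 : (LinearMap.range (LinearMap.mulLeft R y)).map (LinearMap.mulLeft R x) =
      LinearMap.range (LinearMap.mulLeft R (x * y)) := by
    rw [← LinearMap.range_comp, LinearMap.mulLeft_mul]
  rw [h2] at h1
  exact h1

theorem colen_le_mul (x y : B) : colen R x ≤ colen R (x * y) := by
  apply length_quot_le_of_le
  intro z hz
  rw [mem_range_mulLeft] at hz ⊢
  obtain ⟨w, rfl⟩ := hz
  exact ⟨y * w, by ring⟩

theorem one_le_colen {y : B} (hy : ¬ IsUnit y) : 1 ≤ colen R y := by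
  rw [colen, Order.one_le_iff_pos, Module.length_pos_iff, Submodule.Quotient.nontrivial_iff]
  intro htop
  have h1 : (1 : B) ∈ LinearMap.range (LinearMap.mulLeft R y) := by rw [htop]; trivial
  rw [mem_range_mulLeft] at h1
  obtain ⟨w, hw⟩ := h1
  exact hy (IsUnit.of_mul_eq_one _ hw)

theorem colen_pow_ne_top {y : B} (hy : y ∈ nonZeroDivisors B) (h : colen R y ≠ ⊤) (n : ℕ) :
    colen R (y ^ n) ≠ ⊤ := by
  induction n with
  | zero =>
    have : colen R (1 : B) = 0 := by
      rw [colen, Module.length_eq_zero_iff, Submodule.Quotient.subsingleton_iff]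
      rw [eq_top_iff]
      intro z _
      rw [mem_range_mulLeft]
      exact ⟨z, one_mul z⟩
    rw [pow_zero, this]
    exact ENat.zero_ne_top
  | succ n ih =>
    rw [pow_succ', colen_mul R y (y ^ n) hy]
    exact WithTop.add_ne_top.mpr ⟨ih, h⟩

variable {B' : Type*} [CommRing B'] [Algebra R B']

theorem colen_eq_of_injective (i : B →ₐ[R] B') (hi : Function.Injective i)
    (hfin : Module.length R (B' ⧸ LinearMap.range i.toLinearMap) ≠ ⊤) (y : B)
    (hy : i y ∈ nonZeroDivisors B') : colen R y = colen R (i y) := by
  have h1 := length_quot_map i.toLinearMap hi (LinearMap.range (LinearMap.mulLeft R y))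
  have h2 := length_quot_map (LinearMap.mulLeft R (i y)) (mulLeft_injective R hy)
    (LinearMap.range i.toLinearMap)
  have h3 : (LinearMap.range (LinearMap.mulLeft R y)).map i.toLinearMap =
      (LinearMap.range i.toLinearMap).map (LinearMap.mulLeft R (i y)) := by
    ext z
    simp only [Submodule.mem_map, LinearMap.mem_range, LinearMap.mulLeft_apply,
      AlgHom.toLinearMap_apply, exists_exists_eq_and, map_mul]
  rw [h3, h2] at h1
  have h4 : Module.length R (B' ⧸ LinearMap.range i.toLinearMap) + colen R (i y) =
      Module.length R (B' ⧸ LinearMap.range i.toLinearMap) + colen R y := by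
    rw [colen, colen, h1, add_comm]
  exact ((ENat.add_right_injective_of_ne_top hfin) h4).symm

end colen

end Groth.Agent.Lib.T2H4.Blow
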