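import Mathlib
import Groth.Agent.Lib.T2H4BlowLen

/-!
# Relations with a coefficient outside a given ideal (helper4)

If `a` is a nonzerodivisor of `B` with `B/aB` of finite length `n`, then for any `b` and any proper
ideal `𝔫 ∋ a` the `n+1` monomials `a^i b^(n-i)` satisfy a linear relation with a coefficient
outside `𝔫`.
-/

set_option autoImplicit false

namespace Groth.Agent.Lib.T2H4.Blow

open Finset

section relation

variable {B : Type*} [CommRing B]

/-- homogeneous relation of degree `n` between `a` and `b` -/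
def IsRel (a b : B) (n : ℕ) (c : ℕ → B) : Prop :=
  ∑ i ∈ range (n + 1), c i * (a ^ i * b ^ (n - i)) = 0

theorem exists_rel_of_mem (a b : B) (ha : a ∈ nonZeroDivisors B) (hfin : colen B a ≠ ⊤)
    (𝔫 : Ideal B) (h𝔫 : 𝔫 ≠ ⊤) (ha𝔫 : a ∈ 𝔫) :
    ∃ (n : ℕ) (c : ℕ → B), IsRel a b n c ∧ ∃ j ≤ n, c j ∉ 𝔫 := by
  classical
  by_contra hcon
  push Not at hcon
  obtain ⟨n, hn⟩ := ENat.ne_top_iff_exists.mp hfin
  set m : Fin (n + 1) → B := fun i => a ^ (i : ℕ) * b ^ (n - (i : ℕ)) with hm
  -- specialised form of `hcon`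
  have H : ∀ d : Fin (n + 1) → B, ∑ i, d i * m i = 0 → ∀ j, d j ∈ 𝔫 := by
    intro d hd j
    have hsum : ∑ i ∈ range (n + 1), (fun i => if h : i < n + 1 then d ⟨i, h⟩ else 0) i *
        (a ^ i * b ^ (n - i)) = ∑ i : Fin (n + 1), d i * m i := by
      rw [Finset.sum_range]
      refine Finset.sum_congr rfl fun i _ => ?_
      simp [hm, i.2]
    have := hcon n (fun i => if h : i < n + 1 then d ⟨i, h⟩ else 0) (by
      rw [IsRel, hsum, hd]) j (Nat.lt_succ_iff.mp j.2)
    have hj := j.2
    simp only [dif_pos hj, Fin.eta] at this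
    exact this
  set J : Ideal B := Ideal.span (Set.range m) with hJ
  set Jk : ℕ → Ideal B := fun k =>
    𝔫 • J ⊔ Ideal.span (Set.range fun i : Fin (n + 1) => if (i : ℕ) < k then m i else 0) with hJk
  have h1 : (1 : B) ∉ 𝔫 := fun h => h𝔫 ((Ideal.eq_top_iff_one _).mpr h)
  -- strictness
  have hstrict : ∀ k, k ≤ n → Jk k < Jk (k + 1) := by
    intro k hk
    have hle : Jk k ≤ Jk (k + 1) := by
      refine sup_le_sup_left ?_ _
      rw [Ideal.span_le, Set.range_subset_iff]
      intro i
      by_cases hik : (i : ℕ) < k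
      · rw [if_pos hik]
        refine Ideal.subset_span ⟨i, ?_⟩
        beta_reduce
        rw [if_pos (Nat.lt_succ_of_lt hik)]
      · rw [if_neg hik]
        exact Ideal.zero_mem _
    refine lt_of_le_of_ne hle ?_
    intro heq
    have hk' : k < n + 1 := Nat.lt_succ_of_le hk
    have hmem : m ⟨k, hk'⟩ ∈ Jk (k + 1) := by
      refine Ideal.mem_sup_right (Ideal.subset_span ⟨⟨k, hk'⟩, ?_⟩)
      simp
    rw [← heq] at hmem
    obtain ⟨y, hy, z, hz, hyz⟩ := Submodule.mem_sup.mp hmem
    rw [hJ] at hy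
    have hy' := (Submodule.mem_ideal_smul_span_iff_exists_sum 𝔫 m y).mp hy
    obtain ⟨d, hd, hdy⟩ := hy'
    rw [Finsupp.sum_fintype _ _ (fun i => by simp)] at hdy
    obtain ⟨c, hc⟩ := (Ideal.mem_span_range_iff_exists_fun).mp hz
    -- the relation
    have hrel : ∑ i : Fin (n + 1), ((if i = (⟨k, hk'⟩ : Fin (n + 1)) then (1 : B) else 0) - d i -
        (if (i : ℕ) < k then c i else 0)) * m i = 0 := by
      simp only [sub_mul, Finset.sum_sub_distrib]
      have e1 : ∑ i : Fin (n + 1), (if i = (⟨k, hk'⟩ : Fin (n + 1)) then (1 : B) else 0) * m i =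
          m ⟨k, hk'⟩ := by
        simp
      have e2 : ∑ i, d i * m i = y := by
        rw [← hdy]
        rfl
      have e3 : ∑ i : Fin (n + 1), (if (i : ℕ) < k then c i else 0) * m i = z := by
        rw [← hc]
        refine Finset.sum_congr rfl fun i _ => ?_
        split_ifs <;> simp
      rw [e1, e2, e3, ← hyz]
      ring
    have := H _ hrel ⟨k, hk'⟩
    simp only [if_true, lt_self_iff_false, if_false, sub_zero] at this
    have hdk := hd ⟨k, hk'⟩
    have : (1 : B) ∈ 𝔫 := by
      have h2 := 𝔫.add_mem this hdk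
      simpa using h2
    exact h1 this
  -- chain
  have hchain : ∀ k, k ≤ n + 1 →
      Module.length B (B ⧸ Jk k) + (k : ℕ∞) ≤ Module.length B (B ⧸ Jk 0) := by
    intro k
    induction k with
    | zero => intro _; simp
    | succ k ih =>
      intro hk
      have hk' : k ≤ n := Nat.le_of_succ_le_succ hk
      have h2 := length_quot_succ_le (hstrict k hk')
      calc Module.length B (B ⧸ Jk (k + 1)) + ((k + 1 : ℕ) : ℕ∞)
          = (Module.length B (B ⧸ Jk (k + 1)) + 1) + (k : ℕ∞) := by
            push_cast; ring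
        _ ≤ Module.length B (B ⧸ Jk k) + (k : ℕ∞) := by gcongr
        _ ≤ _ := ih (Nat.le_of_succ_le hk)
  have hJtop : Jk (n + 1) ≤ J := by
    refine sup_le (Submodule.smul_le_right) ?_
    rw [Ideal.span_le, Set.range_subset_iff]
    intro i
    rw [if_pos i.2]
    exact Ideal.subset_span ⟨i, rfl⟩
  have haJ : Submodule.map (LinearMap.mulLeft B a) J ≤ Jk 0 := by
    rintro _ ⟨y, hy, rfl⟩
    refine Ideal.mem_sup_left ?_
    rw [LinearMap.mulLeft_apply, ← smul_eq_mul]
    exact Submodule.smul_mem_smul ha𝔫 hy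
  have h5 := length_quot_map (LinearMap.mulLeft B a) (mulLeft_injective B ha) J
  have h6 : Module.length B (B ⧸ J) ≠ ⊤ := by
    have hpow : LinearMap.range (LinearMap.mulLeft B (a ^ n)) ≤ J := by
      intro z hz
      rw [mem_range_mulLeft] at hz
      obtain ⟨w, rfl⟩ := hz
      refine Ideal.mul_mem_right _ _ (Ideal.subset_span ⟨⟨n, Nat.lt_succ_self n⟩, ?_⟩)
      simp [hm]
    have := length_quot_le_of_le hpow
    exact ne_top_of_le_ne_top (colen_pow_ne_top B ha hfin n) this
  have h7 : Module.length B (B ⧸ J) + ((n + 1 : ℕ) : ℕ∞) ≤ Module.length B (B ⧸ J) + (n : ℕ∞) := by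
    calc Module.length B (B ⧸ J) + ((n + 1 : ℕ) : ℕ∞)
        ≤ Module.length B (B ⧸ Jk (n + 1)) + ((n + 1 : ℕ) : ℕ∞) := by
          gcongr
          exact length_quot_le_of_le hJtop
      _ ≤ Module.length B (B ⧸ Jk 0) := hchain (n + 1) le_rfl
      _ ≤ Module.length B (B ⧸ Submodule.map (LinearMap.mulLeft B a) J) := length_quot_le_of_le haJ
      _ = Module.length B (B ⧸ J) + (n : ℕ∞) := by
          rw [h5]
          congr 1
          exact hn.symm
  have h8 := (ENat.add_le_add_iff_left h6).mp h7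
  have : (n + 1 : ℕ) ≤ n := by exact_mod_cast h8
  omega

end relation

end Groth.Agent.Lib.T2H4.Blow
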