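import Mathlib
import Groth.Agent.Lib.T2H4BlowRel

/-!
# Horner integrality and the unit-content pair (helper4)

If `x = b / a` where `a` is a nonzerodivisor of `B` with `B / aB` of finite length, then there are
`g, g'` integral over `B` with `g x`, `g' x` integral over `B` and `g + g' x = 1`.
-/

set_option autoImplicit false

namespace Groth.Agent.Lib.T2H4.Blow

open Finset Polynomial

section horner

variable {B Q : Type*} [CommRing B] [CommRing Q] [Algebra B Q]

theorem isIntegral_coeff_mul_of_sum (x : Q) (k : ℕ) (q : ℕ → B)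
    (h : ∑ j ∈ range (k + 1), algebraMap B Q (q j) * x ^ j = 0) :
    IsIntegral B (algebraMap B Q (q k) * x) := by
  by_cases hk : q k = 0
  · rw [hk, map_zero, zero_mul]
    exact isIntegral_zero
  set p : B[X] := ∑ j ∈ range (k + 1), C (q j) * X ^ j with hp
  have hcoeff : p.coeff k = q k := by
    rw [hp, Polynomial.finsetSum_coeff]
    simp only [coeff_C_mul_X_pow]
    rw [Finset.sum_eq_single k]
    · simp
    · intro j _ hj
      rw [if_neg (Ne.symm hj)]
    · intro hk'
      exact absurd (Finset.mem_range.mpr (Nat.lt_succ_self k)) hk'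
  have hdegle : p.natDegree ≤ k := by
    rw [hp]
    refine Polynomial.natDegree_sum_le_of_forall_le _ _ fun j hj => ?_
    exact (natDegree_C_mul_X_pow_le _ _).trans (Nat.lt_succ_iff.mp (Finset.mem_range.mp hj))
  have hdeg : p.natDegree = k := natDegree_eq_of_le_of_coeff_ne_zero hdegle (by rwa [hcoeff])
  have hlead : p.leadingCoeff = q k := by rw [leadingCoeff, hdeg, hcoeff]
  have haeval : aeval x p = 0 := by
    rw [hp, map_sum, ← h]
    refine Finset.sum_congr rfl fun j _ => ?_
    simp
  have := isIntegral_leadingCoeff_smul p x haeval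
  rwa [hlead, Algebra.smul_def] at this

theorem isIntegral_coeff_mul_of_sum' (x : Q) (k : ℕ) (q : ℕ → Q) (hq : ∀ j, IsIntegral B (q j))
    (h : ∑ j ∈ range (k + 1), q j * x ^ j = 0) : IsIntegral B (q k * x) := by
  have h1 := isIntegral_coeff_mul_of_sum (B := integralClosure B Q) x k (fun j => ⟨q j, hq j⟩)
    (by simpa using h)
  exact isIntegral_trans (A := integralClosure B Q) _ h1

/-- Horner partial sums. -/
noncomputable def hornerU (p : ℕ → B) (n : ℕ) (x : Q) (k : ℕ) : Q :=
  ∑ j ∈ range (n + 1 - k), algebraMap B Q (p (k + j)) * x ^ j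

theorem hornerU_succ (p : ℕ → B) (n : ℕ) (x : Q) (k : ℕ) (hk : k ≤ n) :
    hornerU p n x k = algebraMap B Q (p k) + hornerU p n x (k + 1) * x := by
  have h1 : n + 1 - k = (n + 1 - (k + 1)) + 1 := by omega
  rw [hornerU, h1, Finset.sum_range_succ', hornerU, Finset.sum_mul]
  simp only [pow_zero, mul_one, add_zero]
  rw [add_comm]
  congr 1
  refine Finset.sum_congr rfl fun j _ => ?_
  rw [pow_succ, show k + (j + 1) = k + 1 + j by ring]
  ring

theorem hornerU_of_lt (p : ℕ → B) (n : ℕ) (x : Q) (k : ℕ) (hk : n < k) :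
    hornerU p n x k = 0 := by
  have h1 : n + 1 - k = 0 := by omega
  rw [hornerU, h1, Finset.sum_range_zero]

theorem hornerU_sum (p : ℕ → B) (n : ℕ) (x : Q) (k : ℕ) (hk : k ≤ n + 1) :
    ∑ j ∈ range k, algebraMap B Q (p j) * x ^ j + hornerU p n x k * x ^ k = hornerU p n x 0 := by
  induction k with
  | zero => simp
  | succ k ih =>
    rw [← ih (Nat.le_of_succ_le hk), Finset.sum_range_succ,
      hornerU_succ p n x k (Nat.le_of_succ_le_succ hk), pow_succ]
    ring

theorem hornerU_zero (p : ℕ → B) (n : ℕ) (x : Q) :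
    hornerU p n x 0 = ∑ j ∈ range (n + 1), algebraMap B Q (p j) * x ^ j := by
  rw [hornerU]
  simp

theorem hornerU_isIntegral (p : ℕ → B) (n : ℕ) (x : Q)
    (h : ∑ j ∈ range (n + 1), algebraMap B Q (p j) * x ^ j = 0) (k : ℕ) :
    IsIntegral B (hornerU p n x k) ∧ IsIntegral B (hornerU p n x k * x) := by
  by_cases hkn : n < k
  · rw [hornerU_of_lt p n x k hkn, zero_mul]
    exact ⟨isIntegral_zero, isIntegral_zero⟩
  rw [not_lt] at hkn
  obtain ⟨d, hd⟩ : ∃ d, k + d = n := ⟨n - k, by omega⟩
  induction d generalizing k with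
  | zero =>
    have h1 : hornerU p n x (k + 1) = 0 := hornerU_of_lt p n x (k + 1) (by omega)
    have h2 : hornerU p n x k = algebraMap B Q (p k) := by
      rw [hornerU_succ p n x k hkn, h1, zero_mul, add_zero]
    have hint : IsIntegral B (hornerU p n x k) := by rw [h2]; exact isIntegral_algebraMap
    refine ⟨hint, ?_⟩
    have h3 := hornerU_sum p n x k (by omega)
    rw [hornerU_zero, h] at h3
    have := isIntegral_coeff_mul_of_sum' (B := B) x k
      (fun j => if j < k then algebraMap B Q (p j) else hornerU p n x k)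
      (fun j => by
        beta_reduce
        split_ifs
        · exact isIntegral_algebraMap
        · exact hint)
      (by
        rw [Finset.sum_range_succ, ← h3]
        simp only [lt_self_iff_false, if_false]
        congr 1
        refine Finset.sum_congr rfl fun j hj => ?_
        rw [if_pos (Finset.mem_range.mp hj)])
    simpa using this
  | succ d ih =>
    have ih' := ih (k + 1) (by omega) (by omega)
    have hint : IsIntegral B (hornerU p n x k) := by
      rw [hornerU_succ p n x k hkn]
      exact isIntegral_algebraMap.add ih'.2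
    refine ⟨hint, ?_⟩
    have h3 := hornerU_sum p n x k (by omega)
    rw [hornerU_zero, h] at h3
    have := isIntegral_coeff_mul_of_sum' (B := B) x k
      (fun j => if j < k then algebraMap B Q (p j) else hornerU p n x k)
      (fun j => by
        beta_reduce
        split_ifs
        · exact isIntegral_algebraMap
        · exact hint)
      (by
        rw [Finset.sum_range_succ, ← h3]
        simp only [lt_self_iff_false, if_false]
        congr 1
        refine Finset.sum_congr rfl fun j hj => ?_
        rw [if_pos (Finset.mem_range.mp hj)])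
    simpa using this

/-- The `B`-submodule of `Q` of elements `g + g' x` with `g, g', g x, g' x` integral. -/
def pairSubmodule (B : Type*) {Q : Type*} [CommRing B] [CommRing Q] [Algebra B Q] (x : Q) :
    Submodule B Q where
  carrier := {y | ∃ g g' : Q, IsIntegral B g ∧ IsIntegral B (g * x) ∧ IsIntegral B g' ∧
    IsIntegral B (g' * x) ∧ y = g + g' * x}
  add_mem' := by
    rintro _ _ ⟨g₁, g₁', h1, h2, h3, h4, rfl⟩ ⟨g₂, g₂', k1, k2, k3, k4, rfl⟩
    refine ⟨g₁ + g₂, g₁' + g₂', h1.add k1, ?_, h3.add k3, ?_, by ring⟩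
    · rw [add_mul]; exact h2.add k2
    · rw [add_mul]; exact h4.add k4
  zero_mem' := ⟨0, 0, isIntegral_zero, by rw [zero_mul]; exact isIntegral_zero, isIntegral_zero,
    by rw [zero_mul]; exact isIntegral_zero, by ring⟩
  smul_mem' := by
    rintro c _ ⟨g, g', h1, h2, h3, h4, rfl⟩
    refine ⟨c • g, c • g', h1.smul c, ?_, h3.smul c, ?_, ?_⟩
    · rw [smul_mul_assoc]; exact h2.smul c
    · rw [smul_mul_assoc]; exact h4.smul c
    · rw [smul_add, smul_mul_assoc]

theorem algebraMap_coeff_mem_pairSubmodule (p : ℕ → B) (n : ℕ) (x : Q)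
    (h : ∑ j ∈ range (n + 1), algebraMap B Q (p j) * x ^ j = 0) (k : ℕ) (hk : k ≤ n) :
    algebraMap B Q (p k) ∈ pairSubmodule B x := by
  have h1 := hornerU_isIntegral p n x h k
  have h2 := hornerU_isIntegral p n x h (k + 1)
  refine ⟨hornerU p n x k, - hornerU p n x (k + 1), h1.1, h1.2, h2.1.neg, ?_, ?_⟩
  · rw [neg_mul]; exact h2.2.neg
  · rw [hornerU_succ p n x k hk]; ring

end horner

section key

variable {B Q : Type*} [CommRing B] [CommRing Q] [Algebra B Q]

theorem isRel_coeff_mem (a b : B) (ainv : Q) (hainv : algebraMap B Q a * ainv = 1)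
    (n : ℕ) (c : ℕ → B) (hc : IsRel a b n c) (j : ℕ) (hj : j ≤ n) :
    algebraMap B Q (c j) ∈ pairSubmodule B (algebraMap B Q b * ainv) := by
  set x := algebraMap B Q b * ainv with hx
  have h1 : ∑ i ∈ range (n + 1), algebraMap B Q (c i) * x ^ (n - i) = 0 := by
    have h2 : algebraMap B Q (∑ i ∈ range (n + 1), c i * (a ^ i * b ^ (n - i))) * ainv ^ n = 0 := by
      rw [show (∑ i ∈ range (n + 1), c i * (a ^ i * b ^ (n - i))) = 0 from hc, map_zero, zero_mul]
    rw [map_sum, Finset.sum_mul] at h2
    rw [← h2]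
    refine Finset.sum_congr rfl fun i hi => ?_
    have hin : i ≤ n := Nat.lt_succ_iff.mp (Finset.mem_range.mp hi)
    have h3 : ainv ^ n = ainv ^ i * ainv ^ (n - i) := by
      rw [← pow_add]; congr 1; omega
    rw [map_mul, map_mul, map_pow, map_pow, h3, hx, mul_pow]
    have h4 : algebraMap B Q a ^ i * ainv ^ i = 1 := by rw [← mul_pow, hainv, one_pow]
    calc algebraMap B Q (c i) * (algebraMap B Q b ^ (n - i) * ainv ^ (n - i))
        = algebraMap B Q (c i) * (algebraMap B Q b ^ (n - i) * ainv ^ (n - i)) *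
            (algebraMap B Q a ^ i * ainv ^ i) := by rw [h4, mul_one]
      _ = _ := by ring
  have h5 : ∑ k ∈ range (n + 1), algebraMap B Q ((fun k => c (n - k)) k) * x ^ k = 0 := by
    rw [← h1, ← Finset.sum_range_reflect _ (n + 1)]
    refine Finset.sum_congr rfl fun k hk => ?_
    have hkn : k ≤ n := Nat.lt_succ_iff.mp (Finset.mem_range.mp hk)
    have e1 : n + 1 - 1 - k = n - k := by omega
    have e2 : n - (n - k) = k := by omega
    rw [e1]
    beta_reduce
    rw [e2]
  have := algebraMap_coeff_mem_pairSubmodule (fun k => c (n - k)) n x h5 (n - j) (Nat.sub_le n j)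
  have e3 : n - (n - j) = j := by omega
  simpa [e3] using this

theorem exists_integral_pair (a b : B) (ha : a ∈ nonZeroDivisors B) (hfin : colen B a ≠ ⊤)
    (ainv : Q) (hainv : algebraMap B Q a * ainv = 1) :
    ∃ g g' : Q, IsIntegral B g ∧ IsIntegral B (g * (algebraMap B Q b * ainv)) ∧
      IsIntegral B g' ∧ IsIntegral B (g' * (algebraMap B Q b * ainv)) ∧
      g + g' * (algebraMap B Q b * ainv) = 1 := by
  set S : Set B := {y | ∃ (n : ℕ) (c : ℕ → B) (j : ℕ), IsRel a b n c ∧ j ≤ n ∧ y = c j} with hS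
  have htop : Ideal.span S = ⊤ := by
    by_contra hne
    obtain ⟨𝔫, h𝔫, hle⟩ := Ideal.exists_le_maximal _ hne
    by_cases ha𝔫 : a ∈ 𝔫
    · obtain ⟨n, c, hrel, j, hj, hcj⟩ := exists_rel_of_mem a b ha hfin 𝔫 h𝔫.ne_top ha𝔫
      exact hcj (hle (Ideal.subset_span ⟨n, c, j, hrel, hj, rfl⟩))
    · refine ha𝔫 (hle (Ideal.subset_span ⟨1, fun i => if i = 0 then a else -b, 0, ?_, by omega, ?_⟩))
      · rw [IsRel, Finset.sum_range_succ, Finset.sum_range_one]
        simp
        ring
      · simp
  have hmem : Ideal.span S ≤ (pairSubmodule B (algebraMap B Q b * ainv)).comap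
      (Algebra.linearMap B Q) := by
    rw [Ideal.span, Submodule.span_le]
    rintro y ⟨n, c, j, hrel, hj, rfl⟩
    exact isRel_coeff_mem a b ainv hainv n c hrel j hj
  have h1 : (1 : B) ∈ Ideal.span S := by rw [htop]; trivial
  have h2 := hmem h1
  rw [Submodule.mem_comap, Algebra.linearMap_apply, map_one] at h2
  obtain ⟨g, g', k1, k2, k3, k4, k5⟩ := h2
  exact ⟨g, g', k1, k2, k3, k4, k5.symm⟩

end key

end Groth.Agent.Lib.T2H4.Blow
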