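import Mathlib
import Groth.Agent.Lib.T2H4BlowInt
import Groth.Agent.Lib.Helper22Herbrand

/-!
# The blow-up step for finite subalgebras of the total fraction ring (helper4)

`A` Noetherian local of dimension one, `Q` its total ring of fractions, `B ⊆ Q` a finite
`A`-subalgebra and `a, b ∈ B` with `a` a unit of `Q`.  Then there is a finite `B ⊆ B' ⊆ Q` in
which `(a, b) B' = t B'` is principal.
-/

set_option autoImplicit false

namespace Groth.Agent.Lib.T2H4.Blow

open Groth.Agent.Lib.Helper22.Herbrand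

section semilocal

theorem finite_setOf_isMaximal (A B : Type*) [CommRing A] [IsLocalRing A] [CommRing B]
    [Algebra A B] [Module.Finite A B] : {I : Ideal B | I.IsMaximal}.Finite := by
  have hfib := Algebra.QuasiFinite.finite_comap_preimage_singleton (R := A) (S := B)
    (IsLocalRing.closedPoint A)
  refine (hfib.image PrimeSpectrum.asIdeal).subset ?_
  intro I hI
  have hI' : I.IsMaximal := hI
  have hp : I.IsPrime := hI'.isPrime
  refine ⟨⟨I, hp⟩, ?_, rfl⟩
  have : (I.comap (algebraMap A B)).IsMaximal := Ideal.isMaximal_comap_of_isIntegral_of_isMaximal I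
  exact PrimeSpectrum.ext (IsLocalRing.eq_maximalIdeal this)

end semilocal

section frac

variable {A : Type*} [CommRing A] {Q : Type*} [CommRing Q] [Algebra A Q]

/-- the elements of `B` which are units of `Q` -/
def unitSubmonoid (B : Subalgebra A Q) : Submonoid B :=
  (IsUnit.submonoid Q).comap (algebraMap B Q)

theorem mem_unitSubmonoid {B : Subalgebra A Q} {y : B} :
    y ∈ unitSubmonoid B ↔ IsUnit (y : Q) := Iff.rfl

theorem unitSubmonoid_le (B : Subalgebra A Q) : unitSubmonoid B ≤ nonZeroDivisors B := by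
  intro s hs
  rw [mem_unitSubmonoid] at hs
  rw [mem_nonZeroDivisors_iff_right]
  intro z hz
  have h1 : (z : Q) * (s : Q) = 0 := by
    have := congrArg (Subtype.val) hz
    simpa using this
  have h2 : (z : Q) = 0 := (hs.mul_left_eq_zero).mp h1
  exact Subtype.ext h2

variable [IsFractionRing A Q]

instance isLocalization_unitSubmonoid (B : Subalgebra A Q) :
    IsLocalization (unitSubmonoid B) Q := by
  rw [isLocalization_iff]
  refine ⟨fun y => y.2, fun z => ?_, fun {x y} h => ⟨1, ?_⟩⟩
  · obtain ⟨⟨α, β⟩, h⟩ := IsLocalization.surj (nonZeroDivisors A) z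
    refine ⟨⟨algebraMap A B α, ⟨algebraMap A B β, ?_⟩⟩, ?_⟩
    · rw [mem_unitSubmonoid]
      exact IsLocalization.map_units Q β
    · exact h
  · have : x = y := Subtype.ext h
    rw [this]

theorem mem_nonZeroDivisors_of_isUnit_algebraMap {α : A} (h : IsUnit (algebraMap A Q α)) :
    α ∈ nonZeroDivisors A := by
  rw [mem_nonZeroDivisors_iff_right]
  intro z hz
  have h1 : algebraMap A Q z * algebraMap A Q α = 0 := by rw [← map_mul, hz, map_zero]
  have h2 : algebraMap A Q z = 0 := (h.mul_left_eq_zero).mp h1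
  exact (IsFractionRing.injective A Q) (by rw [h2, map_zero])

theorem exists_denom (B' : Subalgebra A Q) [Module.Finite A B'] :
    ∃ d ∈ nonZeroDivisors A, ∀ z : B', ∃ r : A, algebraMap A Q r = d • (z : Q) := by
  classical
  obtain ⟨s, hs⟩ := (Module.Finite.fg_top : (⊤ : Submodule A B').FG)
  obtain ⟨d, hd⟩ := IsLocalization.exist_integer_multiples_of_finset (nonZeroDivisors A)
    (s.image (Subtype.val : B' → Q))
  refine ⟨d, d.2, fun z => ?_⟩
  have hz : z ∈ Submodule.span A (s : Set B') := by rw [hs]; trivial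
  induction hz using Submodule.span_induction with
  | mem w hw =>
    obtain ⟨r, hr⟩ := hd (w : Q) (Finset.mem_image_of_mem _ hw)
    exact ⟨r, hr⟩
  | zero => exact ⟨0, by simp⟩
  | add w w' _ _ h1 h2 =>
    obtain ⟨r1, hr1⟩ := h1
    obtain ⟨r2, hr2⟩ := h2
    exact ⟨r1 + r2, by rw [map_add, hr1, hr2]; simp [smul_add]⟩
  | smul c w _ h1 =>
    obtain ⟨r1, hr1⟩ := h1
    refine ⟨c * r1, ?_⟩
    rw [map_mul, hr1]
    simp only [Subalgebra.coe_smul]
    rw [Algebra.smul_def, Algebra.smul_def, Algebra.smul_def]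
    ring

end frac

section dimone

variable {A : Type*} [CommRing A] [IsNoetherianRing A] [IsLocalRing A]
  {Q : Type*} [CommRing Q] [Algebra A Q] [IsFractionRing A Q]

omit [IsNoetherianRing A] [IsLocalRing A] in
theorem nzd_notMem_minimalPrimes {α : A} (hα : α ∈ nonZeroDivisors A) :
    ∀ p ∈ minimalPrimes A, α ∉ p :=
  fun _ hp hαp =>
    Set.disjoint_left.mp (Ideal.disjoint_nonZeroDivisors_of_mem_minimalPrimes hp) hαp hα

theorem colen_ne_top (hA : ringKrullDim A = 1) (B : Subalgebra A Q) [Module.Finite A B] (y : B)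
    (hy : IsUnit (y : Q)) : colen A y ≠ ⊤ := by
  obtain ⟨⟨α, β⟩, h⟩ := IsLocalization.surj (nonZeroDivisors A) (y : Q)
  have hαu : IsUnit (algebraMap A Q α) := by
    rw [← h]
    exact hy.mul (IsLocalization.map_units Q β)
  have hα : α ∈ nonZeroDivisors A := mem_nonZeroDivisors_of_isUnit_algebraMap hαu
  refine length_ne_top_of_smul_eq_zero hA α (nzd_notMem_minimalPrimes hα) _ ?_
  intro x
  obtain ⟨z, rfl⟩ := Submodule.Quotient.mk_surjective _ x
  rw [← Submodule.Quotient.mk_smul, Submodule.Quotient.mk_eq_zero, mem_range_mulLeft]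
  refine ⟨(β : A) • z, Subtype.ext ?_⟩
  simp only [Subalgebra.coe_mul, Subalgebra.coe_smul]
  rw [Algebra.smul_def, Algebra.smul_def, ← h]
  ring

theorem length_quot_inclusion_ne_top (hA : ringKrullDim A = 1) {B B' : Subalgebra A Q}
    (h : B ≤ B') [Module.Finite A B'] :
    Module.length A (B' ⧸ LinearMap.range (Subalgebra.inclusion h).toLinearMap) ≠ ⊤ := by
  obtain ⟨d, hd, hdz⟩ := exists_denom B'
  refine length_ne_top_of_smul_eq_zero hA d (nzd_notMem_minimalPrimes hd) _ ?_
  intro x
  obtain ⟨z, rfl⟩ := Submodule.Quotient.mk_surjective _ x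
  rw [← Submodule.Quotient.mk_smul, Submodule.Quotient.mk_eq_zero, LinearMap.mem_range]
  obtain ⟨r, hr⟩ := hdz z
  refine ⟨algebraMap A B r, Subtype.ext ?_⟩
  simp only [AlgHom.toLinearMap_apply, Subalgebra.coe_smul]
  rw [← hr]
  rfl

end dimone

end Groth.Agent.Lib.T2H4.Blow
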