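import Mathlib
import Groth.Agent.Lib.T2H4BlowStep

/-!
# The blow-up step (helper4), continued
-/

set_option autoImplicit false

namespace Groth.Agent.Lib.T2H4.Blow

section conv

theorem colen_self_le (A : Type*) {B : Type*} [CommRing A] [CommRing B] [Algebra A B] (y : B) :
    colen B y ≤ colen A y := by
  set P : Submodule B B := LinearMap.range (LinearMap.mulLeft B y) with hP
  have h1 : Module.length B (B ⧸ P) ≤ Module.length A (B ⧸ P) := by
    have := Submodule.length_le_length_restrictScalars A (⊤ : Submodule B (B ⧸ P))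
    rwa [Module.length_top, Submodule.restrictScalars_top, Module.length_top] at this
  have h2 : Module.length A (B ⧸ P) = Module.length A (B ⧸ P.restrictScalars A) :=
    (Submodule.Quotient.restrictScalarsEquiv A P).length_eq.symm
  have h3 : P.restrictScalars A = LinearMap.range (LinearMap.mulLeft A y) := by
    ext z
    rw [Submodule.restrictScalars_mem, hP, mem_range_mulLeft, mem_range_mulLeft]
  rw [h3] at h2
  exact h1.trans h2.le

end conv

section step

variable {A : Type*} [CommRing A] [IsNoetherianRing A] [IsLocalRing A]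
  {Q : Type*} [CommRing Q] [Algebra A Q] [IsFractionRing A Q]

theorem blowup_step (hA : ringKrullDim A = 1) (B : Subalgebra A Q) [Module.Finite A B]
    (a b : Q) (ha : a ∈ B) (hb : b ∈ B) (hau : IsUnit a) :
    ∃ B' : Subalgebra A Q, B ≤ B' ∧ Module.Finite A B' ∧ ∃ t a' b' r s : Q,
      t ∈ B' ∧ a' ∈ B' ∧ b' ∈ B' ∧ r ∈ B' ∧ s ∈ B' ∧ a = t * a' ∧ b = t * b' ∧
      r * a' + s * b' = 1 := by
  classical
  set a₀ : B := ⟨a, ha⟩ with ha₀
  set b₀ : B := ⟨b, hb⟩ with hb₀
  have ha₀nz : a₀ ∈ nonZeroDivisors B := unitSubmonoid_le B (mem_unitSubmonoid.mpr hau)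
  have hfinA : colen A a₀ ≠ ⊤ := colen_ne_top hA B a₀ hau
  have hfinB : colen B a₀ ≠ ⊤ := ne_top_of_le_ne_top hfinA (colen_self_le A a₀)
  obtain ⟨ainv, hainv⟩ := hau.exists_right_inv
  obtain ⟨g, g', hg, hgx, hg', hg'x, hsum⟩ :=
    exists_integral_pair (B := B) (Q := Q) a₀ b₀ ha₀nz hfinB ainv hainv
  change IsIntegral B (g * (b * ainv)) at hgx
  change IsIntegral B (g' * (b * ainv)) at hg'x
  change g + g' * (b * ainv) = 1 at hsum
  set x : Q := b * ainv with hx
  have hax : a * x = b := by
    rw [hx, mul_comm b ainv, ← mul_assoc, hainv, one_mul]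
  haveI : Algebra.IsIntegral A B := Algebra.IsIntegral.of_finite A B
  have hgA : IsIntegral A g := isIntegral_trans (A := B) _ hg
  have hgxA : IsIntegral A (g * x) := isIntegral_trans (A := B) _ hgx
  have hg'A : IsIntegral A g' := isIntegral_trans (A := B) _ hg'
  have hg'xA : IsIntegral A (g' * x) := isIntegral_trans (A := B) _ hg'x
  set T : Set Q := {g, g', g * x, g' * x} with hT
  have hTfin : T.Finite := by rw [hT]; exact Set.toFinite _
  have hTint : ∀ y ∈ T, IsIntegral A y := by
    intro y hy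
    rw [hT] at hy
    rcases hy with rfl | rfl | rfl | rfl
    exacts [hgA, hg'A, hgxA, hg'xA]
  haveI hfinadj : Module.Finite A (Algebra.adjoin A T) :=
    Algebra.finite_adjoin_of_finite_of_isIntegral hTfin hTint
  set B' : Subalgebra A Q := B ⊔ Algebra.adjoin A T with hB'
  haveI hB'fin : Module.Finite A B' := Subalgebra.finite_sup B (Algebra.adjoin A T)
  have hBB' : B ≤ B' := le_sup_left
  have hTB' : ∀ y ∈ T, y ∈ B' := fun y hy =>
    (le_sup_right : Algebra.adjoin A T ≤ B') (Algebra.subset_adjoin hy)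
  have hgB' : g ∈ B' := hTB' g (by rw [hT]; simp)
  have hg'B' : g' ∈ B' := hTB' g' (by rw [hT]; simp)
  have hgxB' : g * x ∈ B' := hTB' (g * x) (by rw [hT]; simp)
  have hg'xB' : g' * x ∈ B' := hTB' (g' * x) (by rw [hT]; simp)
  -- the fractional ideals
  set S := unitSubmonoid B' with hS
  set I : FractionalIdeal S Q :=
    FractionalIdeal.spanSingleton S 1 ⊔ FractionalIdeal.spanSingleton S x with hI
  set I' : FractionalIdeal S Q :=
    FractionalIdeal.spanSingleton S g ⊔ FractionalIdeal.spanSingleton S g' with hI'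
  have hle1 : ∀ y : Q, y ∈ B' → FractionalIdeal.spanSingleton S y ≤ 1 := by
    intro y hy
    rw [FractionalIdeal.spanSingleton_le_iff_mem, FractionalIdeal.mem_one_iff]
    exact ⟨⟨y, hy⟩, rfl⟩
  have hinv : I * I' = 1 := by
    have hmul : I * I' = (FractionalIdeal.spanSingleton S g ⊔ FractionalIdeal.spanSingleton S g') ⊔
        (FractionalIdeal.spanSingleton S (x * g) ⊔ FractionalIdeal.spanSingleton S (x * g')) := by
      rw [hI, hI']
      simp only [FractionalIdeal.sup_eq_add, add_mul, mul_add,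
        FractionalIdeal.spanSingleton_mul_spanSingleton, one_mul]
      rw [add_add_add_comm]
    rw [hmul]
    refine le_antisymm ?_ ?_
    · refine sup_le (sup_le (hle1 g hgB') (hle1 g' hg'B')) (sup_le (hle1 _ ?_) (hle1 _ ?_))
      · rw [mul_comm]; exact hgxB'
      · rw [mul_comm]; exact hg'xB'
    · rw [FractionalIdeal.one_le]
      have h1 : g ∈ (FractionalIdeal.spanSingleton S g ⊔ FractionalIdeal.spanSingleton S g') ⊔
          (FractionalIdeal.spanSingleton S (x * g) ⊔ FractionalIdeal.spanSingleton S (x * g')) :=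
        (le_sup_left.trans le_sup_left :
          FractionalIdeal.spanSingleton S g ≤ _) (FractionalIdeal.mem_spanSingleton_self S g)
      have h2 : x * g' ∈ (FractionalIdeal.spanSingleton S g ⊔ FractionalIdeal.spanSingleton S g') ⊔
          (FractionalIdeal.spanSingleton S (x * g) ⊔ FractionalIdeal.spanSingleton S (x * g')) :=
        (le_sup_right.trans le_sup_right :
          FractionalIdeal.spanSingleton S (x * g') ≤ _)
          (FractionalIdeal.mem_spanSingleton_self S (x * g'))
      have h3 := Submodule.add_mem _ (FractionalIdeal.mem_coe.mpr h1) (FractionalIdeal.mem_coe.mpr h2)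
      have hsum' : g + x * g' = 1 := by rw [mul_comm]; exact hsum
      rw [hsum'] at h3
      exact FractionalIdeal.mem_coe.mp h3
  have hprin := FractionalIdeal.isPrincipal.of_finite_maximals_of_inv (unitSubmonoid_le B')
    (finite_setOf_isMaximal A B') I I' hinv
  obtain ⟨y, hy⟩ := hprin.principal
  have hIcoe : (I : Submodule B' Q) = Submodule.span B' {1} ⊔ Submodule.span B' {x} := by
    rw [hI, FractionalIdeal.sup_eq_add, FractionalIdeal.coe_add,
      FractionalIdeal.coe_spanSingleton, FractionalIdeal.coe_spanSingleton]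
    rfl
  have hyI : y ∈ (I : Submodule B' Q) := by rw [hy]; exact Submodule.mem_span_singleton_self y
  have h1I : (1 : Q) ∈ (I : Submodule B' Q) := by
    rw [hIcoe]; exact Submodule.mem_sup_left (Submodule.mem_span_singleton_self _)
  have hxI : x ∈ (I : Submodule B' Q) := by
    rw [hIcoe]; exact Submodule.mem_sup_right (Submodule.mem_span_singleton_self _)
  rw [hIcoe] at hyI
  obtain ⟨y1, hy1, y2, hy2, hy12⟩ := Submodule.mem_sup.mp hyI
  obtain ⟨ρ₁, rfl⟩ := Submodule.mem_span_singleton.mp hy1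
  obtain ⟨ρ₂, rfl⟩ := Submodule.mem_span_singleton.mp hy2
  rw [hy] at h1I hxI
  obtain ⟨w, hw⟩ := Submodule.mem_span_singleton.mp h1I
  obtain ⟨w', hw'⟩ := Submodule.mem_span_singleton.mp hxI
  -- translate smul
  have e1 : (ρ₁ : Q) * 1 + (ρ₂ : Q) * x = y := by
    rw [← hy12, Algebra.smul_def, Algebra.smul_def]; rfl
  have e2 : (w : Q) * y = 1 := by rw [← hw, Algebra.smul_def]; rfl
  have e3 : (w' : Q) * y = x := by rw [← hw', Algebra.smul_def]; rfl
  have haB' : a ∈ B' := hBB' ha
  have hbB' : b ∈ B' := hBB' hb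
  refine ⟨B', hBB', hB'fin, a * y, w, w', ρ₁, ρ₂, ?_, w.2, w'.2, ρ₁.2, ρ₂.2, ?_, ?_, ?_⟩
  · have : a * y = (ρ₁ : Q) * a + (ρ₂ : Q) * b := by
      rw [← e1, ← hax]; ring
    rw [this]
    exact B'.add_mem (B'.mul_mem ρ₁.2 haB') (B'.mul_mem ρ₂.2 hbB')
  · calc a = a * ((w : Q) * y) := by rw [e2, mul_one]
      _ = a * y * w := by ring
  · calc b = a * ((w' : Q) * y) := by rw [e3, hax]
      _ = a * y * w' := by ring
  · calc (ρ₁ : Q) * w + ρ₂ * w' = ((ρ₁ : Q) * w + ρ₂ * w') * ((w : Q) * y) := by rw [e2, mul_one]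
      _ = (w : Q) * ((ρ₁ : Q) * ((w : Q) * y) + ρ₂ * ((w' : Q) * y)) := by ring
      _ = (w : Q) * ((ρ₁ : Q) * 1 + ρ₂ * x) := by rw [e2, e3]
      _ = (w : Q) * y := by rw [e1]
      _ = 1 := e2

end step

end Groth.Agent.Lib.T2H4.Blow
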