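import Mathlib
import Groth.Prelude.Def_CycAlg
import Groth.Agent.Lib.T2H4BlowStep2

/-!
# Finite subalgebras of the total fraction ring are `IsFinExt` (helper4)
-/

set_option autoImplicit false

namespace Groth.Agent.Lib.T2H4.Blow

section

variable {A : Type*} [CommRing A] [IsNoetherianRing A] [IsLocalRing A]

omit [IsNoetherianRing A] in
theorem maximalIdeal_le_radical_span (hA : ringKrullDim A = 1) {d : A}
    (hd : d ∈ nonZeroDivisors A) : IsLocalRing.maximalIdeal A ≤ (Ideal.span {d}).radical := by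
  intro a ham
  rw [Ideal.radical_eq_sInf, Ideal.mem_sInf]
  rintro J ⟨hbJ, hJ⟩
  have h1 : (1 : ℕ∞) ≤ J.height :=
    (Ideal.one_le_height_span_singleton_of_mem_nonZeroDivisors hd).trans (Ideal.height_mono hbJ)
  by_contra haJ
  have hlt : J < IsLocalRing.maximalIdeal A := by
    refine lt_of_le_of_ne (IsLocalRing.le_maximalIdeal hJ.ne_top) ?_
    rintro rfl
    exact haJ ham
  have h2 := Ideal.height_add_one_le_of_lt_of_isPrime hlt
  have h3 : ((IsLocalRing.maximalIdeal A).height : WithBot ℕ∞) = 1 := by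
    rw [IsLocalRing.maximalIdeal_height_eq_ringKrullDim, hA]
  have h4 : (IsLocalRing.maximalIdeal A).height = 1 := by exact_mod_cast h3
  rw [h4] at h2
  have h5 : (1 : ℕ∞) + 1 ≤ 1 := (add_le_add_left h1 1).trans h2
  exact absurd h5 (by decide)

variable {Q : Type*} [CommRing Q] [Algebra A Q] [IsFractionRing A Q]

theorem isFinExt_subalgebra (hA : ringKrullDim A = 1) (B' : Subalgebra A Q)
    [Module.Finite A B'] : CycAlg.IsFinExt A B' (IsLocalRing.maximalIdeal A) := by
  refine ⟨?_, inferInstance, ?_⟩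
  · have h1 : Function.Injective (algebraMap A Q) := IsFractionRing.injective A Q
    intro x y hxy
    apply h1
    have := congrArg (Subtype.val) hxy
    exact this
  · obtain ⟨d, hd, hdz⟩ := exists_denom B'
    obtain ⟨n, hn⟩ := Ideal.exists_pow_le_of_le_radical_of_fg (maximalIdeal_le_radical_span hA hd)
      (IsNoetherian.noetherian _)
    refine ⟨n, fun r hr z => ?_⟩
    obtain ⟨c, hc⟩ := Ideal.mem_span_singleton'.mp (hn hr)
    obtain ⟨ρ, hρ⟩ := hdz z
    refine ⟨c * ρ, Subtype.ext ?_⟩
    have e1 : ((algebraMap A B' (c * ρ) : B') : Q) = algebraMap A Q (c * ρ) := rfl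
    rw [e1, map_mul, hρ, ← hc]
    simp only [Subalgebra.coe_smul]
    rw [Algebra.smul_def, Algebra.smul_def, map_mul]
    ring

end

end Groth.Agent.Lib.T2H4.Blow
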