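import Mathlib
import Groth.Agent.Lib.T2H4BlowFinExt

/-!
# Making finitely many nonzerodivisors locally monomial (helper4)

`A` Noetherian local of dimension one, `Q` its total ring of fractions.  For a finite subalgebra
`B ⊆ Q` and a multiset `L` of elements of `B` which are units of `Q`, there is a finite
`B ⊆ B' ⊆ Q` such that at every maximal ideal of `B'` all members of `L` are units times powers
of a single nonzerodivisor.  The proof blows up non-coprime pairs; the colength of the product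
drops at every step.
-/

set_option autoImplicit false

universe u

namespace Groth.Agent.Lib.T2H4.Blow

section

variable {A : Type u} [CommRing A] {Q : Type u} [CommRing Q] [Algebra A Q]

open Classical in
/-- colength of `y` in `B` (`0` if `y ∉ B`) -/
noncomputable def colenQ (B : Subalgebra A Q) (y : Q) : ℕ∞ :=
  if h : y ∈ B then colen A (⟨y, h⟩ : B) else 0

theorem colenQ_eq (B : Subalgebra A Q) (y : Q) (h : y ∈ B) :
    colenQ B y = colen A (⟨y, h⟩ : B) := by
  rw [colenQ, dif_pos h]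

/-- coprimality inside `B` -/
def Cop (B : Subalgebra A Q) (c c' : Q) : Prop := ∃ r ∈ B, ∃ s ∈ B, r * c + s * c' = 1

/-- all members of `L` are locally units times powers of one nonzerodivisor -/
def Good (B : Subalgebra A Q) (L : Multiset Q) : Prop :=
  ∀ q : MaximalSpectrum B, ∃ π : Localization.AtPrime q.asIdeal,
    π ∈ nonZeroDivisors (Localization.AtPrime q.asIdeal) ∧
    ∀ z : B, (z : Q) ∈ L → ∃ (v : (Localization.AtPrime q.asIdeal)ˣ) (e : ℕ),
      algebraMap B (Localization.AtPrime q.asIdeal) z = (v : Localization.AtPrime q.asIdeal) * π ^ e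

theorem colenQ_mul (B : Subalgebra A Q) (y z : Q) (hy : y ∈ B) (hz : z ∈ B) (hyu : IsUnit y) :
    colenQ B (y * z) = colenQ B z + colenQ B y := by
  rw [colenQ_eq B _ (B.mul_mem hy hz), colenQ_eq B _ hy, colenQ_eq B _ hz]
  have := colen_mul A (⟨y, hy⟩ : B) ⟨z, hz⟩ (unitSubmonoid_le B (mem_unitSubmonoid.mpr hyu))
  exact this

theorem one_le_colenQ (B : Subalgebra A Q) (y : Q) (hy : y ∈ B) (hnu : ¬ ∃ z ∈ B, y * z = 1) :
    1 ≤ colenQ B y := by
  rw [colenQ_eq B _ hy]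
  apply one_le_colen
  intro hu
  obtain ⟨w, hw⟩ := hu.exists_right_inv
  exact hnu ⟨w, w.2, by simpa using congrArg Subtype.val hw⟩

theorem good_of_coprime (B : Subalgebra A Q) (L : Multiset Q) (hLu : ∀ c ∈ L, IsUnit c)
    (hcop : ∀ c ∈ L, ∀ c' ∈ L, c ≠ c' → Cop B c c') : Good B L := by
  intro q
  by_cases h0 : ∃ z : B, (z : Q) ∈ L ∧ z ∈ q.asIdeal
  · obtain ⟨z₀, hz₀L, hz₀q⟩ := h0
    refine ⟨algebraMap B _ z₀, ?_, fun z hzL => ?_⟩
    · have h1 : z₀ ∈ nonZeroDivisors B := unitSubmonoid_le B (hLu _ hz₀L)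
      exact IsLocalization.map_nonZeroDivisors_le q.asIdeal.primeCompl _
        (Submonoid.mem_map_of_mem _ h1)
    · by_cases hzq : z ∈ q.asIdeal
      · have hzz : z = z₀ := by
          by_contra hne
          obtain ⟨r, hr, s, hs, hrs⟩ := hcop z hzL z₀ hz₀L (fun h => hne (Subtype.ext h))
          have h1 : (1 : B) ∈ q.asIdeal := by
            have e : (1 : B) = ⟨r, hr⟩ * z + ⟨s, hs⟩ * z₀ := Subtype.ext (by simpa using hrs.symm)
            rw [e]
            exact q.asIdeal.add_mem (q.asIdeal.mul_mem_left _ hzq) (q.asIdeal.mul_mem_left _ hz₀q)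
          exact q.isMaximal.ne_top ((Ideal.eq_top_iff_one _).mpr h1)
        exact ⟨1, 1, by rw [hzz]; simp⟩
      · have hu : IsUnit (algebraMap B (Localization.AtPrime q.asIdeal) z) :=
          IsLocalization.map_units _ (⟨z, hzq⟩ : q.asIdeal.primeCompl)
        exact ⟨hu.unit, 0, by simp⟩
  · push Not at h0
    refine ⟨1, one_mem _, fun z hzL => ?_⟩
    have hzq := h0 z hzL
    have hu : IsUnit (algebraMap B (Localization.AtPrime q.asIdeal) z) :=
      IsLocalization.map_units _ (⟨z, hzq⟩ : q.asIdeal.primeCompl)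
    exact ⟨hu.unit, 0, by simp⟩

theorem good_of_step [DecidableEq Q] (B' : Subalgebra A Q) (L : Multiset Q) (c c' t c₁ c₂ : Q)
    (ht : t ∈ B') (hc₁ : c₁ ∈ B') (hc₂ : c₂ ∈ B') (hct : c = t * c₁) (hc't : c' = t * c₂)
    (hgood : Good B' (t ::ₘ c₁ ::ₘ c₂ ::ₘ (L.erase c).erase c')) : Good B' L := by
  intro q
  obtain ⟨π, hπ, hL⟩ := hgood q
  refine ⟨π, hπ, fun z hzL => ?_⟩
  obtain ⟨vt, et, hvt⟩ := hL ⟨t, ht⟩ (by simp)
  obtain ⟨v₁, e₁, hv₁⟩ := hL ⟨c₁, hc₁⟩ (by simp)
  obtain ⟨v₂, e₂, hv₂⟩ := hL ⟨c₂, hc₂⟩ (by simp)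
  by_cases h1 : (z : Q) = c
  · have e : z = ⟨t, ht⟩ * ⟨c₁, hc₁⟩ := Subtype.ext (by rw [h1, hct]; rfl)
    refine ⟨vt * v₁, et + e₁, ?_⟩
    rw [e, map_mul, hvt, hv₁, Units.val_mul, pow_add]
    ring
  by_cases h2 : (z : Q) = c'
  · have e : z = ⟨t, ht⟩ * ⟨c₂, hc₂⟩ := Subtype.ext (by rw [h2, hc't]; rfl)
    refine ⟨vt * v₂, et + e₂, ?_⟩
    rw [e, map_mul, hvt, hv₂, Units.val_mul, pow_add]
    ring
  · apply hL z
    have h3 : (z : Q) ∈ (L.erase c).erase c' :=
      (Multiset.mem_erase_of_ne h2).mpr ((Multiset.mem_erase_of_ne h1).mpr hzL)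
    simp [h3]

end

section dimone

variable {A : Type u} [CommRing A] [IsNoetherianRing A] [IsLocalRing A]
  {Q : Type u} [CommRing Q] [Algebra A Q] [IsFractionRing A Q]

theorem colenQ_ne_top (hA : ringKrullDim A = 1) (B : Subalgebra A Q) [Module.Finite A B] (y : Q)
    (hy : y ∈ B) (hyu : IsUnit y) : colenQ B y ≠ ⊤ := by
  rw [colenQ_eq B _ hy]
  exact colen_ne_top hA B ⟨y, hy⟩ hyu

theorem colenQ_eq_of_le (hA : ringKrullDim A = 1) {B B' : Subalgebra A Q} (h : B ≤ B')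
    [Module.Finite A B'] (y : Q) (hy : y ∈ B) (hyu : IsUnit y) : colenQ B y = colenQ B' y := by
  rw [colenQ_eq B _ hy, colenQ_eq B' _ (h hy)]
  exact colen_eq_of_injective A (Subalgebra.inclusion h) (Subalgebra.inclusion_injective h)
    (length_quot_inclusion_ne_top hA h) ⟨y, hy⟩
    (unitSubmonoid_le B' (mem_unitSubmonoid.mpr hyu))

omit [IsNoetherianRing A] [IsLocalRing A] [IsFractionRing A Q] in
theorem cop_of_le {B B' : Subalgebra A Q} (h : B ≤ B') [Module.Finite A B'] (c c' : Q)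
    (hc : c ∈ B) (hc' : c' ∈ B) (hcop : Cop B' c c') : Cop B c c' := by
  classical
  letI : Algebra B B' := (Subalgebra.inclusion h).toRingHom.toAlgebra
  haveI : IsScalarTower A B B' := IsScalarTower.of_algebraMap_eq (fun x => rfl)
  haveI : Algebra.IsIntegral A B' := Algebra.IsIntegral.of_finite A B'
  haveI : Algebra.IsIntegral B B' :=
    ⟨fun z => (Algebra.IsIntegral.isIntegral (R := A) z).tower_top⟩
  set I : Ideal B := Ideal.span {⟨c, hc⟩, ⟨c', hc'⟩} with hI
  by_cases hItop : I = ⊤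
  · have h1 : (1 : B) ∈ I := by rw [hItop]; trivial
    rw [hI, Ideal.mem_span_pair] at h1
    obtain ⟨r, s, hrs⟩ := h1
    exact ⟨r, r.2, s, s.2, by simpa using congrArg Subtype.val hrs⟩
  · exfalso
    obtain ⟨𝔫, h𝔫, hI𝔫⟩ := Ideal.exists_le_maximal I hItop
    have hinj : Function.Injective (algebraMap B B') := Subalgebra.inclusion_injective h
    have hker : RingHom.ker (algebraMap B B') ≤ 𝔫 := by
      rw [(RingHom.injective_iff_ker_eq_bot _).mp hinj]
      exact bot_le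
    obtain ⟨𝔑, h𝔑, hover⟩ := Ideal.exists_ideal_over_maximal_of_isIntegral (S := B') 𝔫 hker
    obtain ⟨r, hr, s, hs, hrs⟩ := hcop
    have hc𝔑 : (⟨c, h hc⟩ : B') ∈ 𝔑 := by
      have : (⟨c, hc⟩ : B) ∈ 𝔑.comap (algebraMap B B') := by
        rw [hover]
        exact hI𝔫 (Ideal.subset_span (by simp))
      exact this
    have hc'𝔑 : (⟨c', h hc'⟩ : B') ∈ 𝔑 := by
      have : (⟨c', hc'⟩ : B) ∈ 𝔑.comap (algebraMap B B') := by
        rw [hover]
        exact hI𝔫 (Ideal.subset_span (by simp))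
      exact this
    have h1 : (1 : B') ∈ 𝔑 := by
      have e : (1 : B') = ⟨r, hr⟩ * ⟨c, h hc⟩ + ⟨s, hs⟩ * ⟨c', h hc'⟩ :=
        Subtype.ext (by simpa using hrs.symm)
      rw [e]
      exact 𝔑.add_mem (𝔑.mul_mem_left _ hc𝔑) (𝔑.mul_mem_left _ hc'𝔑)
    exact h𝔑.ne_top ((Ideal.eq_top_iff_one _).mpr h1)

theorem main_ind (hA : ringKrullDim A = 1) : ∀ (n : ℕ) (B : Subalgebra A Q)
    (_ : Module.Finite A B) (L : Multiset Q), (∀ c ∈ L, c ∈ B) → (∀ c ∈ L, IsUnit c) →
    colenQ B L.prod = n →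
    ∃ B' : Subalgebra A Q, B ≤ B' ∧ Module.Finite A B' ∧ Good B' L := by
  classical
  intro n
  induction n using Nat.strong_induction_on with
  | _ n ih =>
  intro B hBfin L hLB hLu hn
  by_cases hcop : ∀ c ∈ L, ∀ c' ∈ L, c ≠ c' → Cop B c c'
  · exact ⟨B, le_rfl, hBfin, good_of_coprime B L hLu hcop⟩
  · push Not at hcop
    obtain ⟨c, hc, c', hc', hne, hncop⟩ := hcop
    obtain ⟨B₁, hBB₁, hB₁fin, t, c₁, c₂, r, s, ht, hc₁, hc₂, hr, hs, hct, hc't, hrs⟩ :=
      blowup_step hA B c c' (hLB c hc) (hLB c' hc') (hLu c hc)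
    haveI := hB₁fin
    set rest := (L.erase c).erase c' with hrest
    set L₁ := t ::ₘ c₁ ::ₘ c₂ ::ₘ rest with hL₁
    have hc'rest : c' ∈ L.erase c := (Multiset.mem_erase_of_ne (Ne.symm hne)).mpr hc'
    have hprodL : L.prod = c * (c' * rest.prod) := by
      rw [hrest, Multiset.prod_erase hc'rest, Multiset.prod_erase hc]
    have hprod : L.prod = t * L₁.prod := by
      rw [hprodL, hL₁, Multiset.prod_cons, Multiset.prod_cons, Multiset.prod_cons, hct, hc't]
      ring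
    have hcu : IsUnit c := hLu c hc
    have hc'u : IsUnit c' := hLu c' hc'
    have htu : IsUnit t := isUnit_of_mul_isUnit_left (hct ▸ hcu)
    have hc₁u : IsUnit c₁ := isUnit_of_mul_isUnit_right (hct ▸ hcu)
    have hc₂u : IsUnit c₂ := isUnit_of_mul_isUnit_right (hc't ▸ hc'u)
    have hrestL : ∀ d ∈ rest, d ∈ L := fun d hd =>
      Multiset.mem_of_mem_erase (Multiset.mem_of_mem_erase hd)
    have hL₁B : ∀ d ∈ L₁, d ∈ B₁ := by
      intro d hd
      rw [hL₁] at hd
      simp only [Multiset.mem_cons] at hd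
      rcases hd with rfl | rfl | rfl | hd
      · exact ht
      · exact hc₁
      · exact hc₂
      · exact hBB₁ (hLB d (hrestL d hd))
    have hL₁u : ∀ d ∈ L₁, IsUnit d := by
      intro d hd
      rw [hL₁] at hd
      simp only [Multiset.mem_cons] at hd
      rcases hd with rfl | rfl | rfl | hd
      · exact htu
      · exact hc₁u
      · exact hc₂u
      · exact hLu d (hrestL d hd)
    have hLprodB : L.prod ∈ B := Subalgebra.multiset_prod_mem B hLB
    have hLprodu : IsUnit L.prod := by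
      have : L.prod ∈ IsUnit.submonoid Q := Submonoid.multiset_prod_mem _ L hLu
      exact this
    have hL₁prodB : L₁.prod ∈ B₁ := Subalgebra.multiset_prod_mem B₁ hL₁B
    have hL₁produ : IsUnit L₁.prod := by
      have : L₁.prod ∈ IsUnit.submonoid Q := Submonoid.multiset_prod_mem _ L₁ hL₁u
      exact this
    have hnu : ¬ ∃ z ∈ B₁, t * z = 1 := by
      rintro ⟨z, hz, htz⟩
      apply hncop
      apply cop_of_le hBB₁ c c' (hLB c hc) (hLB c' hc')
      refine ⟨z * r, B₁.mul_mem hz hr, z * s, B₁.mul_mem hz hs, ?_⟩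
      calc z * r * c + z * s * c' = (t * z) * (r * c₁ + s * c₂) := by rw [hct, hc't]; ring
        _ = 1 := by rw [htz, hrs, mul_one]
    have h1 : colenQ B L.prod = colenQ B₁ L.prod := colenQ_eq_of_le hA hBB₁ _ hLprodB hLprodu
    have h2 : colenQ B₁ L.prod = colenQ B₁ L₁.prod + colenQ B₁ t := by
      rw [hprod]
      exact colenQ_mul B₁ t L₁.prod ht hL₁prodB htu
    have h3 : 1 ≤ colenQ B₁ t := one_le_colenQ B₁ t ht hnu
    have h4 : colenQ B₁ L₁.prod ≠ ⊤ := colenQ_ne_top hA B₁ _ hL₁prodB hL₁produ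
    obtain ⟨n₁, hn₁⟩ := ENat.ne_top_iff_exists.mp h4
    have hlt : n₁ < n := by
      have h5 : (n₁ : ℕ∞) + 1 ≤ n := by
        rw [← hn, h1, h2, hn₁]
        gcongr
      exact_mod_cast h5
    obtain ⟨B', hB₁B', hB'fin, hgood⟩ := ih n₁ hlt B₁ hB₁fin L₁ hL₁B hL₁u hn₁.symm
    exact ⟨B', hBB₁.trans hB₁B', hB'fin,
      good_of_step B' L c c' t c₁ c₂ (hB₁B' ht) (hB₁B' hc₁) (hB₁B' hc₂) hct hc't hgood⟩

end dimone

end Groth.Agent.Lib.T2H4.Blow
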