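import Mathlib.CategoryTheory.Triangulated.Adjunction
import Mathlib.CategoryTheory.Triangulated.Pretriangulated
import Mathlib.CategoryTheory.Adjunction.FullyFaithful
import Mathlib.CategoryTheory.ObjectProperty.Basic

/-!
# Bousfield (co)localization in a pretriangulated category (helper4)

* `IsUniv P η`: the morphism `η : K ⟶ K'` is a universal arrow from `K` to objects satisfying `P`
  (precomposition with `η` is bijective on morphisms into objects satisfying `P`).
* `IsUniv.shift`, `IsUniv.comp`, `IsUniv.exists_iso`.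
* `isUniv_of_distTriang`: the third vertex of a distinguished triangle `N ⟶ K ⟶ K'` with `N` (and `N⟦1⟧`)
  left orthogonal to `P` is universal.
* `IsUniv.cone`: the induced morphism between cones of a commutative square of universal arrows is
  universal.
* `exists_local_cone`: for a fully faithful triangulated functor `F` with a right adjoint `G`, the cone
  of the counit `F G K ⟶ K` is right orthogonal to the essential image of `F`.
-/

set_option autoImplicit false

universe v v' u u'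

open CategoryTheory CategoryTheory.Limits CategoryTheory.Pretriangulated

namespace Groth.Agent.Lib.T2H4.Bousfield

section Univ

variable {C : Type u} [Category.{v} C]

/-- `η : K ⟶ K'` is universal among morphisms from `K` to objects satisfying `P`. -/
def IsUniv (P : C → Prop) {K K' : C} (η : K ⟶ K') : Prop :=
  ∀ M : C, P M → Function.Bijective (fun g : K' ⟶ M => η ≫ g)

lemma IsUniv.comp {P P' P'' : C → Prop} {K K' K'' : C} {η : K ⟶ K'} {η' : K' ⟶ K''}
    (h : IsUniv P η) (h' : IsUniv P' η') (h1 : ∀ M, P'' M → P M) (h2 : ∀ M, P'' M → P' M) :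
    IsUniv P'' (η ≫ η') := by
  intro M hM
  have := (h M (h1 M hM)).comp (h' M (h2 M hM))
  convert this using 1
  funext g
  simp

lemma IsUniv.id (P : C → Prop) (K : C) : IsUniv P (𝟙 K) := by
  intro M _
  convert Function.bijective_id using 1
  funext g
  simp

lemma IsUniv.exists_iso {P : C → Prop} {K K₁ K₂ : C} {η₁ : K ⟶ K₁} {η₂ : K ⟶ K₂}
    (h₁ : IsUniv P η₁) (h₂ : IsUniv P η₂) (p₁ : P K₁) (p₂ : P K₂) :
    ∃ e : K₁ ≅ K₂, η₁ ≫ e.hom = η₂ := by
  obtain ⟨a, ha⟩ := (h₁ K₂ p₂).2 η₂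
  obtain ⟨b, hb⟩ := (h₂ K₁ p₁).2 η₁
  dsimp at ha hb
  refine ⟨⟨a, b, ?_, ?_⟩, ha⟩
  · apply (h₁ K₁ p₁).1
    dsimp
    rw [← Category.assoc, ha, hb, Category.comp_id]
  · apply (h₂ K₂ p₂).1
    dsimp
    rw [← Category.assoc, hb, ha, Category.comp_id]

lemma IsUniv.of_iso {P : C → Prop} {K K₁ K₂ : C} {η₁ : K ⟶ K₁}
    (h₁ : IsUniv P η₁) (e : K₁ ≅ K₂) : IsUniv P (η₁ ≫ e.hom) := by
  intro M hM
  refine ⟨fun g₁ g₂ h => ?_, fun u => ?_⟩
  · dsimp at h
    rw [Category.assoc, Category.assoc] at h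
    have := (h₁ M hM).1 h
    exact (cancel_epi e.hom).1 this
  · obtain ⟨g, hg⟩ := (h₁ M hM).2 u
    refine ⟨e.inv ≫ g, ?_⟩
    dsimp at hg ⊢
    rw [Category.assoc, Iso.hom_inv_id_assoc, hg]

lemma IsUniv.of_iso_left {P : C → Prop} {K₀ K K' : C} {η : K ⟶ K'}
    (h : IsUniv P η) (e : K₀ ≅ K) : IsUniv P (e.hom ≫ η) := by
  intro M hM
  refine ⟨fun g₁ g₂ hg => (h M hM).1 ?_, fun u => ?_⟩
  · dsimp at hg ⊢
    rw [Category.assoc, Category.assoc] at hg
    exact (cancel_epi e.hom).1 hg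
  · obtain ⟨g, hg⟩ := (h M hM).2 (e.inv ≫ u)
    refine ⟨g, ?_⟩
    dsimp at hg ⊢
    rw [Category.assoc, hg, Iso.hom_inv_id_assoc]

end Univ

section Pretri

variable {C : Type u} [Category.{v} C] [HasZeroObject C] [Preadditive C] [HasShift C ℤ]
  [∀ n : ℤ, (shiftFunctor C n).Additive] [Pretriangulated C]

lemma IsUniv.shift {P : C → Prop} (hP : ∀ (M : C) (n : ℤ), P M → P (M⟦n⟧))
    {K K' : C} {η : K ⟶ K'} (h : IsUniv P η) (n : ℤ) : IsUniv P (η⟦n⟧') := by
  intro M hM
  let e : (M⟦-n⟧)⟦n⟧ ≅ M := (shiftFunctorCompIsoId C (-n) n (by simp)).app M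
  have hM' : P (M⟦-n⟧) := hP M (-n) hM
  refine ⟨fun g₁ g₂ hg => ?_, fun u => ?_⟩
  · dsimp at hg
    obtain ⟨h₁, hh₁⟩ := (shiftFunctor C n).map_surjective (g₁ ≫ e.inv)
    obtain ⟨h₂, hh₂⟩ := (shiftFunctor C n).map_surjective (g₂ ≫ e.inv)
    have h12 : h₁ = h₂ := by
      apply (h _ hM').1
      dsimp
      apply (shiftFunctor C n).map_injective
      rw [Functor.map_comp, Functor.map_comp, hh₁, hh₂, ← Category.assoc, hg, Category.assoc]
    have : g₁ ≫ e.inv = g₂ ≫ e.inv := by rw [← hh₁, ← hh₂, h12]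
    exact (cancel_mono e.inv).1 this
  · obtain ⟨v, hv⟩ := (shiftFunctor C n).map_surjective (u ≫ e.inv)
    obtain ⟨w, hw⟩ := (h _ hM').2 v
    dsimp at hw
    refine ⟨w⟦n⟧' ≫ e.hom, ?_⟩
    dsimp
    rw [← Category.assoc, ← Functor.map_comp, hw, hv, Category.assoc, Iso.inv_hom_id,
      Category.comp_id]

/-- The third vertex of a distinguished triangle whose first vertex is left orthogonal to `P`. -/
lemma isUniv_of_distTriang {P : C → Prop} (T : Triangle C) (hT : T ∈ distTriang C)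
    (h0 : ∀ M, P M → ∀ g : T.obj₁ ⟶ M, g = 0)
    (h1 : ∀ M, P M → ∀ g : T.obj₁⟦(1 : ℤ)⟧ ⟶ M, g = 0) : IsUniv P T.mor₂ := by
  intro M hM
  refine ⟨fun g₁ g₂ hg => ?_, fun u => ?_⟩
  · dsimp at hg
    have h : T.mor₂ ≫ (g₁ - g₂) = 0 := by rw [Preadditive.comp_sub, hg, sub_self]
    obtain ⟨w, hw⟩ := Triangle.yoneda_exact₃ T hT _ h
    rw [h1 M hM w, comp_zero] at hw
    exact sub_eq_zero.1 hw
  · obtain ⟨g, hg⟩ := Triangle.yoneda_exact₂ T hT u (h0 M hM _)
    exact ⟨g, hg.symm⟩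

/-- The morphism induced on cones by a commutative square of universal arrows is universal. -/
lemma IsUniv.cone {P : C → Prop} (hP : ∀ (M : C) (n : ℤ), P M → P (M⟦n⟧))
    (T T' : Triangle C) (hT : T ∈ distTriang C) (hT' : T' ∈ distTriang C)
    (ηK : T.obj₁ ⟶ T'.obj₁) (ηL : T.obj₂ ⟶ T'.obj₂) (comm : T.mor₁ ≫ ηL = ηK ≫ T'.mor₁)
    (hK : IsUniv P ηK) (hL : IsUniv P ηL) :
    ∃ c : T.obj₃ ⟶ T'.obj₃, T.mor₂ ≫ c = ηL ≫ T'.mor₂ ∧ IsUniv P c := by
  obtain ⟨c, hc₁, hc₂⟩ := complete_distinguished_triangle_morphism T T' hT hT' ηK ηL comm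
  refine ⟨c, hc₁, fun M hM => ⟨fun g₁ g₂ hg => ?_, fun u => ?_⟩⟩
  · dsimp at hg
    have hK1 := hK.shift hP 1
    have hL1 := hL.shift hP 1
    have hg0 : c ≫ (g₁ - g₂) = 0 := by rw [Preadditive.comp_sub, hg, sub_self]
    have h1 : T'.mor₂ ≫ (g₁ - g₂) = 0 := by
      apply (hL M hM).1
      dsimp
      rw [← Category.assoc, ← hc₁, Category.assoc, hg0, comp_zero, comp_zero]
    obtain ⟨h, hh⟩ := Triangle.yoneda_exact₃ T' hT' _ h1
    have h2 : T.mor₃ ≫ (ηK⟦(1 : ℤ)⟧' ≫ h) = 0 := by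
      rw [← Category.assoc, hc₂, Category.assoc, ← hh, hg0]
    obtain ⟨h', hh'⟩ := Triangle.yoneda_exact₃ T.rotate (rot_of_distTriang _ hT)
      (ηK⟦(1 : ℤ)⟧' ≫ h) h2
    obtain ⟨h'', hh''⟩ := (hL1 M hM).2 h'
    replace hh' : ηK⟦(1 : ℤ)⟧' ≫ h = (-T.mor₁⟦(1 : ℤ)⟧') ≫ h' := hh'
    dsimp at hh''
    have h3 : h = (-T'.mor₁⟦(1 : ℤ)⟧') ≫ h'' := by
      apply (hK1 M hM).1
      dsimp
      refine hh'.trans ?_
      rw [← hh'', Preadditive.neg_comp, Preadditive.neg_comp, Preadditive.comp_neg,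
        ← Category.assoc, ← Category.assoc, ← Functor.map_comp, ← Functor.map_comp, comm]
    have h4 : g₁ - g₂ = 0 := by
      rw [hh, h3, Preadditive.neg_comp, Preadditive.comp_neg, ← Category.assoc,
        comp_distTriang_mor_zero₃₁ T' hT', zero_comp, neg_zero]
    exact sub_eq_zero.1 h4
  · have hK1 := hK.shift hP 1
    obtain ⟨v, hv⟩ := (hL M hM).2 (T.mor₂ ≫ u)
    dsimp at hv
    have h1 : T'.mor₁ ≫ v = 0 := by
      apply (hK M hM).1
      dsimp
      rw [← Category.assoc, ← comm, Category.assoc, hv, ← Category.assoc,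
        comp_distTriang_mor_zero₁₂ T hT, zero_comp, comp_zero]
    obtain ⟨g₀, hg₀⟩ := Triangle.yoneda_exact₂ T' hT' v h1
    have h2 : T.mor₂ ≫ (u - c ≫ g₀) = 0 := by
      rw [Preadditive.comp_sub, ← Category.assoc, hc₁, Category.assoc, ← hg₀, hv, sub_self]
    obtain ⟨w, hw⟩ := Triangle.yoneda_exact₃ T hT _ h2
    obtain ⟨w', hw'⟩ := (hK1 M hM).2 w
    dsimp at hw'
    refine ⟨g₀ + T'.mor₃ ≫ w', ?_⟩
    dsimp
    rw [Preadditive.comp_add, ← Category.assoc, ← hc₂, Category.assoc, hw', ← hw]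
    abel

end Pretri

section Adj

variable {C : Type u} [Category.{v} C] [HasZeroObject C] [Preadditive C] [HasShift C ℤ]
  [∀ n : ℤ, (shiftFunctor C n).Additive] [Pretriangulated C]
  {D : Type u'} [Category.{v'} D] [HasZeroObject D] [Preadditive D] [HasShift D ℤ]
  [∀ n : ℤ, (shiftFunctor D n).Additive] [Pretriangulated D]
  (F : D ⥤ C) (G : C ⥤ D) (adj : F ⊣ G) [F.CommShift ℤ] [F.IsTriangulated]

include adj in
/-- An object is right orthogonal to the essential image of `F` iff `G` kills it. -/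
lemma local_iff_isZero (K : C) : (∀ (E : D) (g : F.obj E ⟶ K), g = 0) ↔ IsZero (G.obj K) := by
  constructor
  · intro h
    rw [IsZero.iff_id_eq_zero]
    apply (adj.homEquiv _ _).symm.injective
    rw [h _ ((adj.homEquiv _ _).symm (𝟙 (G.obj K))), h _ ((adj.homEquiv _ _).symm 0)]
  · intro h E g
    apply (adj.homEquiv _ _).injective
    exact h.eq_of_tgt _ _

include adj in
/-- The cone of the counit is right orthogonal to the essential image of `F`. -/
lemma local_of_distTriang [F.Full] [F.Faithful] (T : Triangle C) (hT : T ∈ distTriang C)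
    (K : C) (e₁ : T.obj₁ ≅ F.obj (G.obj K)) (e₂ : T.obj₂ ≅ K)
    (h : T.mor₁ ≫ e₂.hom = e₁.hom ≫ adj.counit.app K) :
    ∀ (E : D) (g : F.obj E ⟶ T.obj₃), g = 0 := by
  let _ := adj.rightAdjointCommShift ℤ
  haveI := adj.commShift_of_leftAdjoint ℤ
  haveI : G.IsTriangulated := adj.isTriangulated_rightAdjoint
  rw [local_iff_isZero F G adj]
  have hGT := G.map_distinguished T hT
  have hiso : IsIso (G.map T.mor₁) := by
    have h1 : IsIso (G.map (adj.counit.app K)) := by
      have h2 := adj.right_triangle_components K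
      have : IsIso (adj.unit.app (G.obj K) ≫ G.map (adj.counit.app K)) := by
        rw [h2]; exact IsIso.id _
      exact IsIso.of_isIso_comp_left (adj.unit.app (G.obj K)) _
    have h3 : G.map T.mor₁ = G.map e₁.hom ≫ G.map (adj.counit.app K) ≫ G.map e₂.inv := by
      rw [← G.map_comp, ← G.map_comp, ← Category.assoc, ← h, Category.assoc, Iso.hom_inv_id,
        Category.comp_id]
    rw [h3]
    infer_instance
  exact Triangle.isZero₃_of_isIso₁ _ hGT hiso

include adj in
/-- The right orthogonal of the essential image of `F` is closed under cones. -/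
lemma orth_obj₃ (T : Triangle C) (hT : T ∈ distTriang C)
    (h₁ : ∀ (E : D) (g : F.obj E ⟶ T.obj₁), g = 0) (h₂ : ∀ (E : D) (g : F.obj E ⟶ T.obj₂), g = 0) :
    ∀ (E : D) (g : F.obj E ⟶ T.obj₃), g = 0 := by
  let _ := adj.rightAdjointCommShift ℤ
  haveI := adj.commShift_of_leftAdjoint ℤ
  haveI : G.IsTriangulated := adj.isTriangulated_rightAdjoint
  rw [local_iff_isZero F G adj] at h₁ h₂ ⊢
  have hGT := G.map_distinguished T hT
  apply Triangle.isZero₃_of_isIso₁ _ hGT
  exact ⟨0, h₁.eq_of_src _ _, h₂.eq_of_src _ _⟩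

include adj in
/-- Bousfield localization: every object `K` has a universal arrow to the right orthogonal of the
essential image of a fully faithful triangulated functor `F` admitting a right adjoint. -/
theorem exists_local_cone [F.Full] [F.Faithful] (K : C) :
    ∃ (K' : C) (η : K ⟶ K') (δ : K' ⟶ (F.obj (G.obj K))⟦(1 : ℤ)⟧),
      Triangle.mk (adj.counit.app K) η δ ∈ distTriang C ∧
      ∀ (E : D) (g : F.obj E ⟶ K'), g = 0 := by
  obtain ⟨K', η, δ, hT⟩ := distinguished_cocone_triangle (adj.counit.app K)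
  exact ⟨K', η, δ, hT, local_of_distTriang F G adj _ hT K (Iso.refl _) (Iso.refl _)
    (by
      show adj.counit.app K ≫ 𝟙 _ = 𝟙 _ ≫ adj.counit.app K
      rw [Category.comp_id, Category.id_comp])⟩

omit [F.IsTriangulated] in
lemma orth_shift (M : C) (h : ∀ (E : D) (g : F.obj E ⟶ M), g = 0) (E : D) (n : ℤ)
    (g : (F.obj E)⟦n⟧ ⟶ M) : g = 0 := by
  have := h (E⟦n⟧) ((F.commShiftIso n).hom.app E ≫ g)
  rw [← cancel_epi ((F.commShiftIso n).hom.app E), this, comp_zero]

include adj in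
/-- In the situation of `exists_local_cone`, the arrow `η` is universal. -/
theorem isUniv_of_local_cone (K : C) (T : Triangle C) (hT : T ∈ distTriang C)
    (e₁ : T.obj₁ ≅ F.obj (G.obj K)) :
    IsUniv (fun M => ∀ (E : D) (g : F.obj E ⟶ M), g = 0) T.mor₂ := by
  apply isUniv_of_distTriang T hT
  · intro M hM g
    have := hM _ (e₁.inv ≫ g)
    rw [← cancel_epi e₁.inv, this, comp_zero]
  · intro M hM g
    have := orth_shift F M hM (G.obj K) 1 (e₁.inv⟦(1 : ℤ)⟧' ≫ g)
    rw [← cancel_epi (e₁.inv⟦(1 : ℤ)⟧'), this, comp_zero]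

end Adj

end Groth.Agent.Lib.T2H4.Bousfield
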