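import Mathlib
import Groth.Agent.Lib.T2H4C1CapRat
import Groth.Agent.Lib.T2H4StalkTensorMod
set_option backward.isDefEq.respectTransparency.types false

/-!
# `c_1(L) ∩ α + c_1(N) ∩ α ∼ c_1(L ⊗ N) ∩ α` (helper4)

Namespace `Groth.Agent.Lib.T2H4.C1CapTensor`.
-/

set_option autoImplicit false
set_option linter.style.haveILetI false
universe u
open CategoryTheory AlgebraicGeometry TopologicalSpace TensorProduct

namespace Groth.Agent.Lib.T2H4.C1CapTensor

open Groth.Agent.Lib.T2H4.SecOrdGen Groth.Agent.Lib.T2H4.C1CapRat Groth.Agent.Lib.T2H4.SecOrdAdd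
  Groth.Agent.Lib.T2H4.StalkTensorMod

variable {X : Scheme.{u}} (L N : X.Modules)

/-- the tensor of two free generators freely generates the stalk of the tensor product -/
theorem bijective_smul_τ (x : X) (a : L.presheaf.stalk x) (b : N.presheaf.stalk x)
    (ha : Function.Bijective (fun c : X.presheaf.stalk x => c • a))
    (hb : Function.Bijective (fun c : X.presheaf.stalk x => c • b)) :
    Function.Bijective (fun c : X.presheaf.stalk x => c • τ L N x (a ⊗ₜ b)) := by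
  have h1 := bijective_smul_tmul a b ha hb
  have : (fun c : X.presheaf.stalk x => c • τ L N x (a ⊗ₜ b)) =
      (τ L N x) ∘ (fun c : X.presheaf.stalk x => c • (a ⊗ₜ[X.presheaf.stalk x] b)) := by
    funext c
    simp
  rw [this]
  exact (τ L N x).bijective.comp h1

theorem τ_smul_smul (x : X) (a : L.presheaf.stalk x) (b : N.presheaf.stalk x)
    (u v : X.presheaf.stalk x) :
    τ L N x ((u • a) ⊗ₜ (v • b)) = (u * v) • τ L N x (a ⊗ₜ b) := by
  rw [TensorProduct.smul_tmul_smul, map_smul]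

/-- the key local computation: orders add up under tensor product -/
theorem secOrdAt_tensor (hL : PicF.IsInvertible L) (hN : PicF.IsInvertible N) {ξ x : X} (h : ξ ⤳ x)
    (bL : L.presheaf.stalk ξ) (bN : N.presheaf.stalk ξ)
    (hbL : Function.Bijective (fun c : X.presheaf.stalk ξ => c • bL))
    (hbN : Function.Bijective (fun c : X.presheaf.stalk ξ => c • bN))
    (φL φN φT : X.presheaf.stalk ξ) (hφL : X.residue ξ φL ≠ 0) (hφN : X.residue ξ φN ≠ 0)
    (hφT : X.residue ξ φT ≠ 0) :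
    Cyc.secOrdAt L ξ x h (Submodule.Quotient.mk (φL • bL) : Cyc.secFibre L ξ) +
        Cyc.secOrdAt N ξ x h (Submodule.Quotient.mk (φN • bN) : Cyc.secFibre N ξ) -
        Cyc.secOrdAt (CohB1.tensorMod L N) ξ x h
          (Submodule.Quotient.mk (φT • τ L N ξ (bL ⊗ₜ bN)) :
            Cyc.secFibre (CohB1.tensorMod L N) ξ) =
      Cyc.ordAt x ξ h (X.residue ξ φL * X.residue ξ φN / X.residue ξ φT) := by
  obtain ⟨aL, haL, haLξ⟩ := exists_gen L hL h
  obtain ⟨aN, haN, haNξ⟩ := exists_gen N hN h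
  obtain ⟨wL, wL', hwL, -, hwwL⟩ := exists_unit_of_bijective (sp L h aL) bL haLξ hbL
  obtain ⟨wN, wN', hwN, -, hwwN⟩ := exists_unit_of_bijective (sp N h aN) bN haNξ hbN
  have hwL0 : X.residue ξ wL ≠ 0 := by
    intro h0
    have : X.residue ξ (wL * wL') = 0 := by rw [map_mul, h0, zero_mul]
    rw [hwwL, map_one] at this
    exact one_ne_zero this
  have hwN0 : X.residue ξ wN ≠ 0 := by
    intro h0
    have : X.residue ξ (wN * wN') = 0 := by rw [map_mul, h0, zero_mul]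
    rw [hwwN, map_one] at this
    exact one_ne_zero this
  have haT := bijective_smul_τ L N x aL aN haL haN
  have hspT : sp (CohB1.tensorMod L N) h (τ L N x (aL ⊗ₜ aN)) =
      τ L N ξ ((sp L h aL) ⊗ₜ (sp N h aN)) := stalkSpecializes_τ L N h aL aN
  have haTξ : Function.Bijective (fun c : X.presheaf.stalk ξ =>
      c • sp (CohB1.tensorMod L N) h (τ L N x (aL ⊗ₜ aN))) := by
    rw [hspT]
    exact bijective_smul_τ L N ξ _ _ haLξ haNξ
  have hbT : τ L N ξ (bL ⊗ₜ bN) =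
      (wL * wN) • sp (CohB1.tensorMod L N) h (τ L N x (aL ⊗ₜ aN)) := by
    rw [hspT, hwL, hwN, τ_smul_smul]
  have hwT0 : X.residue ξ (wL * wN) ≠ 0 := by
    rw [map_mul]
    exact mul_ne_zero hwL0 hwN0
  rw [hbT, secOrdAt_of_gen (CohB1.tensorMod L N) h _ haT haTξ (wL * wN) hwT0 φT hφT,
    hwL, hwN, secOrdAt_of_gen L h aL haL haLξ wL hwL0 φL hφL,
    secOrdAt_of_gen N h aN haN haNξ wN hwN0 φN hφN,
    ordAt_div x ξ h _ _ (mul_ne_zero hφL hφN) hφT, ordAt_mul x ξ h _ _ hφL hφN, map_mul,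
    ordAt_mul x ξ h _ _ hwL0 hwN0]
  ring

/-- `div_L(s) + div_N(t) − div_{L⊗N}(w)` is a principal divisor on the closure of `ξ` -/
theorem exists_secDivFun_tensor (hL : PicF.IsInvertible L) (hN : PicF.IsInvertible N) (δ : X → ℤ)
    (ξ : X) (sL : Cyc.secFibre L ξ) (sN : Cyc.secFibre N ξ)
    (sT : Cyc.secFibre (CohB1.tensorMod L N) ξ) (hsL : sL ≠ 0) (hsN : sN ≠ 0) (hsT : sT ≠ 0) :
    ∃ f : X.residueField ξ, f ≠ 0 ∧
      ∀ x : X, Cyc.secDivFun δ L ξ sL x + Cyc.secDivFun δ N ξ sN x -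
        Cyc.secDivFun δ (CohB1.tensorMod L N) ξ sT x = Cyc.divFun δ ξ f x := by
  obtain ⟨bL, hbL⟩ := exists_free_gen L hL ξ
  obtain ⟨bN, hbN⟩ := exists_free_gen N hN ξ
  have hbT := bijective_smul_τ L N ξ bL bN hbL hbN
  obtain ⟨φL, rfl⟩ := exists_eq_mk_smul L bL hbL sL
  obtain ⟨φN, rfl⟩ := exists_eq_mk_smul N bN hbN sN
  obtain ⟨φT, rfl⟩ := exists_eq_mk_smul (CohB1.tensorMod L N) _ hbT sT
  have hφL : X.residue ξ φL ≠ 0 := fun h0 => hsL ((mk_smul_eq_zero_iff L bL hbL φL).2 h0)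
  have hφN : X.residue ξ φN ≠ 0 := fun h0 => hsN ((mk_smul_eq_zero_iff N bN hbN φN).2 h0)
  have hφT : X.residue ξ φT ≠ 0 := fun h0 =>
    hsT ((mk_smul_eq_zero_iff (CohB1.tensorMod L N) _ hbT φT).2 h0)
  refine ⟨X.residue ξ φL * X.residue ξ φN / X.residue ξ φT,
    div_ne_zero (mul_ne_zero hφL hφN) hφT, fun x => ?_⟩
  unfold Cyc.secDivFun Cyc.divFun
  split_ifs with h
  · exact secOrdAt_tensor L N hL hN h.1 bL bN hbL hbN φL φN φT hφL hφN hφT
  · simp

/-- **`c_1(L) ∩ α + c_1(N) ∩ α ∼ c_1(L ⊗ N) ∩ α`** -/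
theorem main (δ : X → ℤ) (hL : PicF.IsInvertible L) (hN : PicF.IsInvertible N) (k : ℤ)
    (α : AlgebraicCycle X ℤ) (hα : α ∈ Cyc.Zk X δ (k + 1))
    (sL : (ξ : X) → Cyc.secFibre L ξ) (hsL : ∀ ξ, sL ξ ≠ 0)
    (sN : (ξ : X) → Cyc.secFibre N ξ) (hsN : ∀ ξ, sN ξ ≠ 0)
    (sT : (ξ : X) → Cyc.secFibre (CohB1.tensorMod L N) ξ) (hsT : ∀ ξ, sT ξ ≠ 0)
    (γL γN γT : AlgebraicCycle X ℤ) (hγL : ⇑γL = Cyc.c1CapFun δ L ⇑α sL)
    (hγN : ⇑γN = Cyc.c1CapFun δ N ⇑α sN)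
    (hγT : ⇑γT = Cyc.c1CapFun δ (CohB1.tensorMod L N) ⇑α sT) :
    Cyc.RatEquiv δ k (γL + γN) γT := by
  unfold Cyc.RatEquiv
  refine ratEquivZero_of_forall δ k α hα
    (fun ξ x => Cyc.secDivFun δ L ξ (sL ξ) x + Cyc.secDivFun δ N ξ (sN ξ) x -
      Cyc.secDivFun δ (CohB1.tensorMod L N) ξ (sT ξ) x)
    (fun ξ => exists_secDivFun_tensor L N hL hN δ ξ (sL ξ) (sN ξ) (sT ξ) (hsL ξ) (hsN ξ) (hsT ξ))
    _ (fun x => ?_)
  have e1 : (γL + γN - γT) x = γL x + γN x - γT x := rfl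
  rw [e1, hγL, hγN, hγT]
  unfold Cyc.c1CapFun
  have hfL := finite_support δ L α sL x
  have hfN := finite_support δ N α sN x
  have hfT := finite_support δ (CohB1.tensorMod L N) α sT x
  have hfLN : (Function.support fun ξ => α ξ * Cyc.secDivFun δ L ξ (sL ξ) x +
      α ξ * Cyc.secDivFun δ N ξ (sN ξ) x).Finite :=
    (hfL.union hfN).subset (Function.support_add _ _)
  rw [← finsum_add_distrib hfL hfN, ← finsum_sub_distrib hfLN hfT]
  refine finsum_congr fun ξ => ?_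
  ring

end Groth.Agent.Lib.T2H4.C1CapTensor
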