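import Mathlib
import Groth.Agent.Lib.T2H4C1CapRat
import Groth.Agent.Lib.Helper23UnitStalk
import Groth.Agent.Lib.Helper23TensorUnit
set_option backward.isDefEq.respectTransparency.types false

/-!
# `c_1(O_X) ∩ α ∼ 0` (helper4)

Namespace `Groth.Agent.Lib.T2H4.C1CapUnit`.
-/

set_option autoImplicit false
set_option linter.style.haveILetI false
universe u
open CategoryTheory AlgebraicGeometry TopologicalSpace

namespace Groth.Agent.Lib.T2H4.C1CapUnit

open Groth.Agent.Lib.T2H4.SecOrdGen Groth.Agent.Lib.T2H4.C1CapRat Groth.Agent.Lib.Helper23.UnitStalk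

variable {X : Scheme.{u}}

theorem bijective_smul_one (x : X) :
    Function.Bijective (fun c : X.presheaf.stalk x => c • one x) :=
  ⟨toUnitStalk_injective x, toUnitStalk_surjective x⟩

theorem sp_one {ξ x : X} (h : ξ ⤳ x) : sp (Coh.structureModule X) h (one x) = one ξ :=
  TopCat.Presheaf.germ_stalkSpecializes_apply (Coh.structureModule X).presheaf
    (show x ∈ (⊤ : X.Opens) from trivial) h _

theorem mk_one_ne_zero (ξ : X) :
    (Submodule.Quotient.mk (one ξ) : Cyc.secFibre (Coh.structureModule X) ξ) ≠ 0 := by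
  intro h0
  have h1 : (Submodule.Quotient.mk ((1 : X.presheaf.stalk ξ) • one ξ) :
      Cyc.secFibre (Coh.structureModule X) ξ) = 0 := by rw [one_smul]; exact h0
  rw [mk_smul_eq_zero_iff _ (one ξ) (bijective_smul_one ξ), map_one] at h1
  exact one_ne_zero h1

/-- the divisor of the rational section `1` of the structure sheaf vanishes -/
theorem secDivFun_one (δ : X → ℤ) (ξ x : X) :
    Cyc.secDivFun δ (Coh.structureModule X) ξ (Submodule.Quotient.mk (one ξ)) x = 0 := by
  unfold Cyc.secDivFun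
  split_ifs with h
  · have h1 := secOrdAt_eq (Coh.structureModule X) h.1 (one x) (bijective_smul_one x)
      (by rw [sp_one]; exact bijective_smul_one ξ) 1
    rw [one_smul, sp_one, map_one, ordAt_one] at h1
    exact h1
  · rfl

/-- **`c_1(O_X) ∩ α ∼ 0`** -/
theorem main (δ : X → ℤ) (k : ℤ) (α : AlgebraicCycle X ℤ) (hα : α ∈ Cyc.Zk X δ (k + 1))
    (s : (ξ : X) → Cyc.secFibre (Coh.structureModule X) ξ) (hs : ∀ ξ, s ξ ≠ 0)
    (γ : AlgebraicCycle X ℤ) (hγ : ⇑γ = Cyc.c1CapFun δ (Coh.structureModule X) ⇑α s) :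
    Cyc.RatEquivZero δ k γ := by
  refine ratEquivZero_of_forall δ k α hα
    (fun ξ x => Cyc.secDivFun δ (Coh.structureModule X) ξ (s ξ) x) (fun ξ => ?_) γ
    (fun x => by rw [hγ]; rfl)
  obtain ⟨f, hf, h⟩ := exists_secDivFun_sub (Coh.structureModule X)
    (Groth.Agent.Lib.Helper23.TensorUnit.isInvertible_structureModule X) δ ξ (s ξ)
    (Submodule.Quotient.mk (one ξ)) (hs ξ) (mk_one_ne_zero ξ)
  refine ⟨f, hf, fun x => ?_⟩
  rw [← h x, secDivFun_one, sub_zero]

end Groth.Agent.Lib.T2H4.C1CapUnit
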