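import Mathlib
import Groth.Agent.Lib.T2H4HZshLF
import Groth.Agent.Lib.Helper2FibreCrit2
import Groth.Agent.Lib.Helper23FinPres
import Groth.Agent.Lib.Helper2LocFree
import Groth.Agent.Lib.Helper2RankLoc
import Groth.Agent.Lib.Helper5RLR
import Groth.Agent.S0563
import Groth.Agent.S0604
set_option backward.isDefEq.respectTransparency.types false

/-!
# T2H4CMFree: Cohen–Macaulay modules of full support on regular schemes are locally free (helper4)

Namespace `Groth.Agent.Lib.T2H4.CMFree`.
-/

set_option autoImplicit false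
set_option linter.style.haveILetI false
set_option linter.unusedSectionVars false
universe u
open CategoryTheory CategoryTheory.Limits AlgebraicGeometry TopologicalSpace Opposite

namespace Groth.Agent.Lib.T2H4.CMFree

open Groth.Agent.Lib.Helper2.FlatOver Groth.Agent.Lib.Helper2.QCoh Groth.Agent.Lib.Helper23.FinType

section Algebra

/-- Over a regular local ring, a faithful finite Cohen–Macaulay module is flat (Auslander–Buchsbaum). -/
theorem flat_of_cm_of_regular (R : Type u) [CommRing R] [IsRegularLocalRing R] (M : Type u)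
    [AddCommGroup M] [Module R M] [Module.Finite R M] [Nontrivial M]
    (hann : Module.annihilator R M = ⊥) (hCM : LocCoh.IsCohenMacaulayModule R M) :
    Module.Flat R M := by
  have hcm := Groth.Agent.Lib.Helper5.isCohenMacaulayLocalRing_of_isRegularLocalRing R
  have h1 := hcm.supportDim_eq_depth
  rw [Module.supportDim_self_eq_ringKrullDim] at h1
  have hsd : Module.supportDim R M = ringKrullDim R := by
    rw [Module.supportDim_eq_ringKrullDim_quotient_annihilator, hann]
    exact ringKrullDim_eq_of_ringEquiv (RingEquiv.quotientBot R)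
  have hCM' : Module.supportDim R M = ((LocCoh.depth R M : ℕ∞) : WithBot ℕ∞) := hCM
  have hdd : LocCoh.depth R M = LocCoh.depth R R := by
    have : ((LocCoh.depth R M : ℕ∞) : WithBot ℕ∞) = ((LocCoh.depth R R : ℕ∞) : WithBot ℕ∞) := by
      rw [← hCM', hsd, h1]
    exact WithBot.coe_injective this
  have hne : ringKrullDim R ≠ ⊤ := ringKrullDim_ne_top
  have hdtop : LocCoh.depth R R ≠ ⊤ := by
    intro h
    rw [h] at h1
    exact hne h1
  obtain ⟨d, hd⟩ := ENat.ne_top_iff_exists.mp hdtop
  have hdim : ringKrullDim R = (d : ℕ) := by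
    rw [h1, ← hd]
    rfl
  have hpd := Groth.Agent.S0563.result R d hdim M
  have hlt : projectiveDimension (ModuleCat.of R M) < ((d + 1 : ℕ) : WithBot ℕ∞) :=
    projectiveDimension_lt_iff.2 hpd
  have hnb : projectiveDimension (ModuleCat.of R M) ≠ ⊥ := by
    intro h
    rw [projectiveDimension_eq_bot_iff, ModuleCat.isZero_of_iff_subsingleton] at h
    exact not_subsingleton M h
  obtain ⟨e', he'⟩ := WithBot.ne_bot_iff_exists.mp hnb
  have he'top : e' ≠ ⊤ := by
    rintro rfl
    rw [← he'] at hlt
    exact absurd hlt (by simp)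
  obtain ⟨e, he⟩ := ENat.ne_top_iff_exists.mp he'top
  have hpe : projectiveDimension (ModuleCat.of R M) = (e : ℕ) := by
    rw [← he', ← he]
    rfl
  have hAB := Groth.Agent.S0604.result R M e hpe
  rw [hdd, ← hd] at hAB
  have he0 : e = 0 := by
    have : ((d : ℕ) : ℕ∞) = ((e + d : ℕ) : ℕ∞) := by
      rw [Nat.cast_add]
      exact hAB
    have := Nat.cast_injective this
    omega
  rw [he0] at hpe
  have hproj : Projective (ModuleCat.of R M) :=
    ((projectiveDimension_eq_zero_iff _).1 (by rw [hpe]; rfl)).1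
  haveI : Module.Projective R M := (IsProjective.iff_projective M).2 hproj
  infer_instance

/-- A nontrivial finite free module over a regular local ring is Cohen–Macaulay. -/
theorem isCM_of_depth_le (R : Type u) [CommRing R] [IsRegularLocalRing R] (M : Type u)
    [AddCommGroup M] [Module R M] [Module.Finite R M] [Nontrivial M]
    (hdepth : LocCoh.depth R R ≤ LocCoh.depth R M) : LocCoh.IsCohenMacaulayModule R M := by
  have hcm := Groth.Agent.Lib.Helper5.isCohenMacaulayLocalRing_of_isRegularLocalRing R
  have h1 := hcm.supportDim_eq_depth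
  rw [Module.supportDim_self_eq_ringKrullDim] at h1
  have h2 : ((LocCoh.depth R M : ℕ∞) : WithBot ℕ∞) ≤ Module.supportDim R M :=
    Groth.Agent.Lib.Helper28.depth_le_supportDim
  have h3 : Module.supportDim R M ≤ ringKrullDim R := Module.supportDim_le_ringKrullDim R M
  refine le_antisymm ?_ h2
  refine h3.trans ?_
  rw [h1]
  exact WithBot.coe_le_coe.2 hdepth

end Algebra

variable {X : Scheme.{u}}

/-- If a quasi-coherent module of finite type has full support, its stalk at a point with integral
local ring is a faithful module. -/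
theorem annihilator_stalk_eq_bot (F : X.Modules) [F.IsQuasicoherent]
    [SheafOfModules.IsFiniteType (R := X.ringCatSheaf) F]
    (hsupp : CohB1.support F = Set.univ) (x : X) [IsDomain (X.presheaf.stalk x)] :
    Module.annihilator (X.presheaf.stalk x) (F.presheaf.stalk x) = ⊥ := by
  classical
  rw [eq_bot_iff]
  intro a ha
  rw [Module.mem_annihilator] at ha
  rw [Submodule.mem_bot]
  by_contra ha0
  obtain ⟨W, hxW, r, rfl⟩ := TopCat.Presheaf.exists_germ_eq X.presheaf a
  obtain ⟨U, hU, hxU, hUW⟩ := exists_isAffineOpen_mem_and_subset (x := x) (U := W) hxW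
  set s : Γ(X, U) := X.presheaf.map (homOfLE hUW).op r with hs
  have hsr : X.presheaf.germ U x hxU s = X.presheaf.germ W x hxW r :=
    TopCat.Presheaf.germ_res_apply X.presheaf (homOfLE hUW) x hxU r
  rw [← hsr] at ha ha0
  haveI : Module.Finite Γ(X, U) Γ(F, U) := finite_of_isFiniteType F hU
  obtain ⟨G, hG⟩ := (Module.Finite.fg_top : (⊤ : Submodule Γ(X, U) Γ(F, U)).FG)
  have key : ∀ g : Γ(F, U), ∃ tg : Γ(X, U), x ∈ X.basicOpen tg ∧ (tg * s) • g = 0 := by
    intro g
    have h0 : F.presheaf.germ U x hxU (s • g) = 0 := by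
      rw [Groth.Agent.Lib.Helper2.QCoh.germ_smul]
      exact ha _
    obtain ⟨tg, htg, h⟩ := exists_smul_eq_zero_of_germ_eq_zero hU F x hxU (s • g) h0
    exact ⟨tg, htg, by rw [mul_smul]; exact h⟩
  choose tg htg hkill using key
  set c : Γ(X, U) := (∏ g ∈ G, tg g) * s with hc
  have hcG : ∀ g ∈ G, c • g = 0 := by
    intro g hg
    rw [hc, ← Finset.mul_prod_erase G tg hg, mul_comm (tg g), mul_assoc, mul_smul, hkill g,
      smul_zero]
  have hcN : ∀ n : Γ(F, U), c • n = 0 := by
    intro n
    have hn : n ∈ Submodule.span Γ(X, U) (G : Set Γ(F, U)) := by rw [hG]; trivial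
    induction hn using Submodule.span_induction with
    | mem z hz => exact hcG z hz
    | zero => exact smul_zero c
    | add a b _ _ ha hb => rw [smul_add, ha, hb, add_zero]
    | smul r a _ ha => rw [smul_comm, ha, smul_zero]
  have hc0 : X.presheaf.germ U x hxU c ≠ 0 := by
    rw [hc, map_mul, map_prod]
    refine mul_ne_zero (Finset.prod_ne_zero_iff.2 fun g _ => ?_) ha0
    exact ((Scheme.mem_basicOpen X (tg g) x hxU).1 (htg g)).ne_zero
  have hcnil : ¬ IsNilpotent c := by
    rintro ⟨k, hk⟩
    apply hc0
    have := congrArg (X.presheaf.germ U x hxU) hk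
    rw [map_pow, map_zero] at this
    exact pow_eq_zero_iff (n := k) (by
      rintro rfl
      rw [pow_zero] at this
      exact one_ne_zero this) |>.1 this
  obtain ⟨q, hq, hcq⟩ : ∃ q : Ideal Γ(X, U), q.IsPrime ∧ c ∉ q := by
    by_contra hall
    push Not at hall
    apply hcnil
    rw [← mem_nilradical, nilradical_eq_sInf, Ideal.mem_sInf]
    intro J hJ
    exact hall J hJ
  set η : X := hU.fromSpec ⟨q, hq⟩ with hη
  have hηU : η ∈ U := fromSpec_mem hU ⟨q, hq⟩
  have hηs : η ∈ CohB1.support F := by rw [hsupp]; trivial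
  apply hηs
  letI := moduleStalkSections F U η hηU
  haveI := isLocalizedModule_germ hU F η hηU
  rw [IsLocalizedModule.subsingleton_iff (hU.primeIdealOf ⟨η, hηU⟩).asIdeal.primeCompl
    (germₗ F U η hηU)]
  intro m
  refine ⟨c, ?_, hcN m⟩
  have : hU.primeIdealOf ⟨η, hηU⟩ = ⟨q, hq⟩ := primeIdealOf_fromSpec hU ⟨q, hq⟩
  rw [this]
  exact hcq

end Groth.Agent.Lib.T2H4.CMFree
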