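import Groth.Agent.Lib.T2H4DualShift9
import Mathlib.RingTheory.Spectrum.Prime.Topology

set_option autoImplicit false
set_option linter.style.haveILetI false
set_option backward.isDefEq.respectTransparency.types false
universe u v
open CategoryTheory CategoryTheory.Limits
attribute [local instance] HasDerivedCategory.standard

namespace Groth.Agent.Lib.T2H4.CMLocus

open DerivedCategory Pretriangulated Groth.Agent.Lib.T2H4.DimFun Groth.Agent.Lib.T2H4.LocKL
  Groth.Agent.Lib.T2H4.LocalDual Groth.Agent.Lib.Helper28 Groth.Agent.Lib.T2H4.DualShift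

section Locus

variable {A : Type u} [CommRing A] [IsNoetherianRing A] {ω : Dual.D A}

lemma isClosed_support_ext (hω : Dual.IsDualizing A ω) (M : Type u) [AddCommGroup M] [Module A M]
    [Module.Finite A M] (l : ℤ) : IsClosed (Module.support A (Dual.inD A M ⟶ ω⟦l⟧)) := by
  haveI := finite_hom_inD ω hω M l
  rw [Module.support_eq_zeroLocus]
  exact PrimeSpectrum.isClosed_zeroLocus _

/-- the non-Cohen–Macaulay locus. -/
def nonCM (ω : Dual.D A) (M : Type u) [AddCommGroup M] [Module A M] (a b : ℤ) :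
    Set (PrimeSpectrum A) :=
  ⋃ i ∈ Finset.Icc a b, ⋃ j ∈ Finset.Icc a b, ⋃ (_ : i ≠ j),
    Module.support A (Dual.inD A M ⟶ ω⟦i⟧) ∩ Module.support A (Dual.inD A M ⟶ ω⟦j⟧)

lemma isClosed_nonCM (hω : Dual.IsDualizing A ω) (M : Type u) [AddCommGroup M] [Module A M]
    [Module.Finite A M] (a b : ℤ) : IsClosed (nonCM ω M a b) := by
  apply Set.Finite.isClosed_biUnion (Finset.finite_toSet _)
  intro i _
  apply Set.Finite.isClosed_biUnion (Finset.finite_toSet _)
  intro j _
  apply isClosed_iUnion_of_finite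
  intro _
  exact (isClosed_support_ext hω M i).inter (isClosed_support_ext hω M j)

lemma mem_nonCM_iff (M : Type u) [AddCommGroup M] [Module A M] (a b : ℤ) (p : PrimeSpectrum A) :
    p ∈ nonCM ω M a b ↔ ∃ i j : ℤ, a ≤ i ∧ i ≤ b ∧ a ≤ j ∧ j ≤ b ∧ i ≠ j ∧
      p ∈ Module.support A (Dual.inD A M ⟶ ω⟦i⟧) ∧
      p ∈ Module.support A (Dual.inD A M ⟶ ω⟦j⟧) := by
  simp only [nonCM, Set.mem_iUnion, Finset.mem_Icc, Set.mem_inter_iff, exists_prop]
  constructor
  · rintro ⟨i, ⟨hi1, hi2⟩, j, ⟨hj1, hj2⟩, hij, h1, h2⟩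
    exact ⟨i, j, hi1, hi2, hj1, hj2, hij, h1, h2⟩
  · rintro ⟨i, j, hi1, hi2, hj1, hj2, hij, h1, h2⟩
    exact ⟨i, ⟨hi1, hi2⟩, j, ⟨hj1, hj2⟩, hij, h1, h2⟩

lemma range_of_mem_support (M : Type u) [AddCommGroup M] [Module A M] (a b : ℤ)
    (hab : ∀ (M : Type u) [AddCommGroup M] [Module A M] (i : ℤ),
      (i < a ∨ b < i) → Subsingleton (Dual.inD A M ⟶ ω⟦i⟧)) (p : PrimeSpectrum A) (l : ℤ)
    (h : p ∈ Module.support A (Dual.inD A M ⟶ ω⟦l⟧)) : a ≤ l ∧ l ≤ b := by
  by_contra hcon
  haveI := hab M l (by lia)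
  rw [Module.support_eq_empty] at h
  exact Set.notMem_empty _ h

/-- the Cohen–Macaulay locus of a finite module is the complement of `nonCM`. -/
theorem cm_iff_notMem_nonCM (hω : Dual.IsDualizing A ω) (M : Type u) [AddCommGroup M]
    [Module A M] [Module.Finite A M] (a b : ℤ)
    (hab : ∀ (M : Type u) [AddCommGroup M] [Module A M] (i : ℤ),
      (i < a ∨ b < i) → Subsingleton (Dual.inD A M ⟶ ω⟦i⟧)) (p : PrimeSpectrum A) :
    (Subsingleton (LocalizedModule p.asIdeal.primeCompl M) ∨
      LocCoh.IsCohenMacaulayModule (Localization.AtPrime p.asIdeal)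
        (LocalizedModule p.asIdeal.primeCompl M)) ↔ p ∉ nonCM ω M a b := by
  rw [mem_nonCM_iff]
  rcases local_data hω M p (idx ω hω p) (idx_spec ω hω p) with
    ⟨hs, h0⟩ | ⟨m, e, hm, he, hme, hrange, htop, hbot⟩
  · constructor
    · rintro - ⟨i, j, -, -, -, -, -, h1, -⟩
      exact h0 i h1
    · intro _
      exact Or.inl hs
  · have hnt : ¬ Subsingleton (LocalizedModule p.asIdeal.primeCompl M) := by
      intro hs
      have : Module.supportDim (Localization.AtPrime p.asIdeal)
          (LocalizedModule p.asIdeal.primeCompl M) = ⊥ :=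
        Module.supportDim_eq_bot_of_subsingleton _ _
      rw [he] at this
      exact WithBot.coe_ne_bot this
    have hcm : LocCoh.IsCohenMacaulayModule (Localization.AtPrime p.asIdeal)
        (LocalizedModule p.asIdeal.primeCompl M) ↔ m = e := by
      unfold LocCoh.IsCohenMacaulayModule
      rw [hm, he]
      constructor
      · intro h
        have h1 : ((e : ℕ∞) : WithBot ℕ∞) = ((m : ℕ∞) : WithBot ℕ∞) := h
        rw [WithBot.coe_inj] at h1
        exact_mod_cast h1.symm
      · rintro rfl
        rfl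
    constructor
    · rintro (h | h)
      · exact absurd h hnt
      · rw [hcm] at h
        subst h
        rintro ⟨i, j, -, -, -, -, hij, h1, h2⟩
        have := hrange i h1
        have := hrange j h2
        lia
    · intro h
      right
      rw [hcm]
      by_contra hne
      have r1 := range_of_mem_support M a b hab p _ htop
      have r2 := range_of_mem_support M a b hab p _ hbot
      exact h ⟨_, _, r1.1, r1.2, r2.1, r2.2, by lia, htop, hbot⟩

/-- Cohen–Macaulayness at the minimal primes of the support. -/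
theorem cm_of_minimal (hω : Dual.IsDualizing A ω) (M : Type u) [AddCommGroup M]
    [Module A M] [Module.Finite A M] (q : PrimeSpectrum A)
    (hq : q.asIdeal ∈ (Module.annihilator A M).minimalPrimes) :
    LocCoh.IsCohenMacaulayModule (Localization.AtPrime q.asIdeal)
      (LocalizedModule q.asIdeal.primeCompl M) := by
  have hqS : q ∈ Module.support A M := Module.mem_support_iff_of_finite.2 hq.1.2
  have hvan : ∀ j : ℤ, j ≠ idx ω hω q → Van ω q M j := by
    apply van_of_support ω q (fun j => j ≠ idx ω hω q) (fun j hj => (idx_spec ω hω q j).2 hj)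
    intro p' hp' hle
    have h1 : q.asIdeal ≤ p'.asIdeal :=
      hq.2 ⟨p'.2, Module.mem_support_iff_of_finite.1 hp'⟩ hle
    exact le_antisymm hle h1
  rcases local_data hω M q (idx ω hω q) (idx_spec ω hω q) with
    ⟨hs, -⟩ | ⟨m, e, hm, he, hme, hrange, htop, hbot⟩
  · exact absurd (Module.mem_support_iff.1 hqS) (not_nontrivial_iff_subsingleton.2 hs)
  · have h1 : idx ω hω q - m = idx ω hω q := by
      by_contra hne
      exact (van_iff_notMem_support ω q M _).1 (hvan _ hne) htop
    have h2 : idx ω hω q - e = idx ω hω q := by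
      by_contra hne
      exact (van_iff_notMem_support ω q M _).1 (hvan _ hne) hbot
    have h3 : m = e := by lia
    subst h3
    unfold LocCoh.IsCohenMacaulayModule
    rw [hm, he]
    rfl

end Locus

end Groth.Agent.Lib.T2H4.CMLocus
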