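import Groth.Agent.Lib.T2H4CMLocus
import Groth.Agent.Lib.Helper28DepthMore

set_option autoImplicit false
set_option linter.style.haveILetI false
set_option backward.isDefEq.respectTransparency.types false
universe u v
open CategoryTheory CategoryTheory.Limits
attribute [local instance] HasDerivedCategory.standard

namespace Groth.Agent.Lib.T2H4.CMLocus

open DerivedCategory Pretriangulated Groth.Agent.Lib.T2H4.DimFun Groth.Agent.Lib.T2H4.LocKL
  Groth.Agent.Lib.T2H4.LocalDual Groth.Agent.Lib.Helper28 Groth.Agent.Lib.T2H4.DualShift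

section Main

variable {A : Type u} [CommRing A] [IsNoetherianRing A]

/-- **S1716**. -/
theorem isOpen_cm_locus_module (hA : ∃ ω : Dual.D A, Dual.IsDualizing A ω) (M : Type u)
    [AddCommGroup M] [Module A M] [Module.Finite A M] :
    IsOpen {p : PrimeSpectrum A | Subsingleton (LocalizedModule p.asIdeal.primeCompl M) ∨
      LocCoh.IsCohenMacaulayModule (Localization.AtPrime p.asIdeal)
        (LocalizedModule p.asIdeal.primeCompl M)} ∧
    Module.support A M ⊆ closure ({p : PrimeSpectrum A |
      LocCoh.IsCohenMacaulayModule (Localization.AtPrime p.asIdeal)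
        (LocalizedModule p.asIdeal.primeCompl M)} ∩ Module.support A M) := by
  obtain ⟨ω, hω⟩ := hA
  obtain ⟨a, b, hab⟩ := hω.finite_injective_dimension
  constructor
  · have h1 : {p : PrimeSpectrum A | Subsingleton (LocalizedModule p.asIdeal.primeCompl M) ∨
        LocCoh.IsCohenMacaulayModule (Localization.AtPrime p.asIdeal)
          (LocalizedModule p.asIdeal.primeCompl M)} = (nonCM ω M a b)ᶜ := by
      ext p
      exact cm_iff_notMem_nonCM hω M a b hab p
    rw [h1]
    exact (isClosed_nonCM hω M a b).isOpen_compl
  · intro p hp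
    haveI := p.2
    obtain ⟨q, hq, hqp⟩ := Ideal.exists_minimalPrimes_le (Module.mem_support_iff_of_finite.1 hp)
    have hcm := cm_of_minimal hω M ⟨q, hq.1.1⟩ hq
    have hqS : (⟨q, hq.1.1⟩ : PrimeSpectrum A) ∈ Module.support A M :=
      Module.mem_support_iff_of_finite.2 hq.1.2
    have hspec : (⟨q, hq.1.1⟩ : PrimeSpectrum A) ⤳ p :=
      (PrimeSpectrum.le_iff_specializes _ _).1 hqp
    have hmem : (⟨q, hq.1.1⟩ : PrimeSpectrum A) ∈ {p : PrimeSpectrum A |
        LocCoh.IsCohenMacaulayModule (Localization.AtPrime p.asIdeal)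
          (LocalizedModule p.asIdeal.primeCompl M)} ∩ Module.support A M := ⟨hcm, hqS⟩
    exact closure_mono (Set.singleton_subset_iff.2 hmem)
      (specializes_iff_mem_closure.1 hspec)

lemma isCohenMacaulayLocalRing_iff (p : PrimeSpectrum A) :
    LocCoh.IsCohenMacaulayLocalRing (Localization.AtPrime p.asIdeal) ↔
      LocCoh.IsCohenMacaulayModule (Localization.AtPrime p.asIdeal)
        (LocalizedModule p.asIdeal.primeCompl A) := by
  haveI : IsNoetherianRing (Localization.AtPrime p.asIdeal) :=
    IsLocalization.isNoetherianRing p.asIdeal.primeCompl _ inferInstance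
  unfold LocCoh.IsCohenMacaulayModule
  rw [depth_localizedModule_self,
    Module.supportDim_eq_of_equiv (localizedModuleSelfEquiv p.asIdeal)]
  exact ⟨fun h => h.supportDim_eq_depth, fun h => LocCoh.IsCohenMacaulayLocalRing.mk h⟩

/-- **S0372**. -/
theorem isOpen_dense_cm_locus (ω : Dual.D A) (hω : Dual.IsDualizing A ω) :
    IsOpen {p : PrimeSpectrum A |
      LocCoh.IsCohenMacaulayLocalRing (Localization.AtPrime p.asIdeal)} ∧
    Dense {p : PrimeSpectrum A |
      LocCoh.IsCohenMacaulayLocalRing (Localization.AtPrime p.asIdeal)} := by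
  obtain ⟨h1, h2⟩ := isOpen_cm_locus_module ⟨ω, hω⟩ A
  have hset : {p : PrimeSpectrum A |
      LocCoh.IsCohenMacaulayLocalRing (Localization.AtPrime p.asIdeal)} =
      {p : PrimeSpectrum A | Subsingleton (LocalizedModule p.asIdeal.primeCompl A) ∨
        LocCoh.IsCohenMacaulayModule (Localization.AtPrime p.asIdeal)
          (LocalizedModule p.asIdeal.primeCompl A)} := by
    ext p
    rw [Set.mem_ofPred_eq, Set.mem_ofPred_eq, isCohenMacaulayLocalRing_iff]
    constructor
    · exact Or.inr
    · rintro (h | h)
      · exfalso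
        have : Subsingleton (Localization.AtPrime p.asIdeal) :=
          (localizedModuleSelfEquiv p.asIdeal).symm.toEquiv.subsingleton
        exact not_subsingleton _ this
      · exact h
  constructor
  · rw [hset]
    exact h1
  · intro p
    have hp : p ∈ Module.support A A := by
      rw [Module.support_eq_zeroLocus, Module.annihilator_eq_bot.2 inferInstance]
      simp
    have h3 := h2 hp
    refine closure_mono ?_ h3
    rintro q ⟨hq, -⟩
    exact (isCohenMacaulayLocalRing_iff q).2 hq

end Main

end Groth.Agent.Lib.T2H4.CMLocus
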