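import Groth.Agent.Lib.T2H4CMLocus2
import Groth.Agent.Lib.Helper28DepthCM
import Mathlib.RingTheory.Ideal.MinimalPrime.Noetherian

set_option autoImplicit false
set_option linter.style.haveILetI false
set_option backward.isDefEq.respectTransparency.types false
universe u v
open CategoryTheory CategoryTheory.Limits
attribute [local instance] HasDerivedCategory.standard

namespace Groth.Agent.Lib.T2H4.CMLocus

open DerivedCategory Pretriangulated Groth.Agent.Lib.T2H4.DimFun Groth.Agent.Lib.T2H4.LocKL
  Groth.Agent.Lib.T2H4.LocalDual Groth.Agent.Lib.Helper28 Groth.Agent.Lib.T2H4.DualShift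

section Finiteness

variable {A : Type u} [CommRing A] [IsNoetherianRing A]

omit [IsNoetherianRing A] in
/-- the dimension of the localization drops along strict generization inside the support. -/
lemma supportDim_localization_lt (M : Type u) [AddCommGroup M] [Module A M] (q p : PrimeSpectrum A)
    (hq : q ∈ Module.support A M) (hqp : q < p) (e : ℕ)
    (he : Module.supportDim (Localization.AtPrime p.asIdeal)
      (LocalizedModule p.asIdeal.primeCompl M) = e) :
    Module.supportDim (Localization.AtPrime q.asIdeal)
      (LocalizedModule q.asIdeal.primeCompl M) < (e : WithBot ℕ∞) := by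
  have hp : p ∈ Module.support A M := Module.mem_support_mono hqp.le hq
  haveI := p.2
  haveI := q.2
  rw [supportDim_localization_eq_height p.asIdeal M hp] at he
  rw [supportDim_localization_eq_height q.asIdeal M hq]
  have h1 : Order.height (⟨p, hp⟩ : Module.support A M) = e := by exact_mod_cast he
  have hlt : (⟨q, hq⟩ : Module.support A M) < ⟨p, hp⟩ := hqp
  have h2 : Order.height (⟨q, hq⟩ : Module.support A M) < ⊤ :=
    lt_of_le_of_lt (Order.height_mono hlt.le) (by rw [h1]; exact ENat.natCast_lt_top e)
  have h3 := Order.height_strictMono hlt h2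
  rw [h1] at h3
  exact_mod_cast h3

/-- **S1715**. -/
theorem finite_setOf_depth_eq_of_hasSk (hA : ∃ ω : Dual.D A, Dual.IsDualizing A ω) (M : Type u)
    [AddCommGroup M] [Module A M] [Module.Finite A M] (k : ℕ) (hM : LocCoh.HasSk k A M) :
    Set.Finite {p : PrimeSpectrum A |
      LocCoh.depth (Localization.AtPrime p.asIdeal) (LocalizedModule p.asIdeal.primeCompl M) = k ∧
      (k : WithBot ℕ∞) < Module.supportDim (Localization.AtPrime p.asIdeal)
        (LocalizedModule p.asIdeal.primeCompl M)} := by
  obtain ⟨ω, hω⟩ := hA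
  obtain ⟨a, b, hab⟩ := hω.finite_injective_dimension
  let I : ℤ → ℤ → Ideal A := fun i j =>
    Module.annihilator A (Dual.inD A M ⟶ ω⟦i⟧) ⊔ Module.annihilator A (Dual.inD A M ⟶ ω⟦j⟧)
  have hI : ∀ (i j : ℤ) (q : PrimeSpectrum A), I i j ≤ q.asIdeal ↔
      q ∈ Module.support A (Dual.inD A M ⟶ ω⟦i⟧) ∧
      q ∈ Module.support A (Dual.inD A M ⟶ ω⟦j⟧) := by
    intro i j q
    haveI := finite_hom_inD ω hω M i
    haveI := finite_hom_inD ω hω M j
    rw [Module.mem_support_iff_of_finite, Module.mem_support_iff_of_finite]
    exact sup_le_iff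
  have hsub : {p : PrimeSpectrum A |
      LocCoh.depth (Localization.AtPrime p.asIdeal) (LocalizedModule p.asIdeal.primeCompl M) = k ∧
      (k : WithBot ℕ∞) < Module.supportDim (Localization.AtPrime p.asIdeal)
        (LocalizedModule p.asIdeal.primeCompl M)} ⊆
      ⋃ i ∈ Finset.Icc a b, ⋃ j ∈ Finset.Icc a b,
        PrimeSpectrum.asIdeal ⁻¹' (I i j).minimalPrimes := by
    rintro p ⟨hdepth, hdim⟩
    rcases local_data hω M p (idx ω hω p) (idx_spec ω hω p) with
      ⟨hs, -⟩ | ⟨m, e, hm, he, hme, hrange, htop, hbot⟩
    · exfalso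
      haveI := hs
      rw [Module.supportDim_eq_bot_of_subsingleton] at hdim
      exact not_lt_bot hdim
    · have hmk : m = k := by
        rw [hm] at hdepth
        exact_mod_cast hdepth
      subst hmk
      have hke : m < e := by
        rw [he] at hdim
        exact_mod_cast hdim
      have r1 := range_of_mem_support M a b hab p _ htop
      have r2 := range_of_mem_support M a b hab p _ hbot
      simp only [Set.mem_iUnion, Finset.mem_Icc, Set.mem_preimage, exists_prop]
      refine ⟨_, r1, _, r2, ⟨p.2, (hI _ _ p).2 ⟨htop, hbot⟩⟩, ?_⟩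
      rintro q ⟨hqprime, hqI⟩ hqp
      by_contra hcon
      have hlt : (⟨q, hqprime⟩ : PrimeSpectrum A) < p := lt_of_le_not_ge hqp hcon
      obtain ⟨hq1, hq2⟩ := (hI _ _ ⟨q, hqprime⟩).1 hqI
      have h1 := (hasSk_iff_codim_support_ext hω M m).1 hM (idx ω hω p - m) (idx ω hω p - e)
        (by lia) ⟨q, hqprime⟩ hq1 hq2
      have hqS : (⟨q, hqprime⟩ : PrimeSpectrum A) ∈ Module.support A M := by
        by_contra hns
        rw [Module.notMem_support_iff] at hns
        haveI := hns
        rw [Module.supportDim_eq_bot_of_subsingleton] at h1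
        simp at h1
      have h2 := supportDim_localization_lt M ⟨q, hqprime⟩ p hqS hlt e he
      have h3 := lt_of_le_of_lt h1 h2
      have h4 : ((m : ℤ) + (idx ω hω p - m) - (idx ω hω p - e)).toNat < e := by exact_mod_cast h3
      lia
  refine Set.Finite.subset ?_ hsub
  apply Set.Finite.biUnion (Finset.finite_toSet _)
  intro i _
  apply Set.Finite.biUnion (Finset.finite_toSet _)
  intro j _
  apply Set.Finite.preimage
  · intro x _ y _ hxy
    exact PrimeSpectrum.ext hxy
  · exact Ideal.finite_minimalPrimes_of_isNoetherianRing A (I i j)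

end Finiteness

end Groth.Agent.Lib.T2H4.CMLocus
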