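import Mathlib
import Groth.Agent.Lib.Helper28Depth
import Groth.Agent.S0342
import Groth.Agent.S0299
import Groth.Agent.S7708
import Groth.Agent.S7703
import Groth.Agent.S7692
import Groth.Agent.S7696
import Groth.Agent.S7701

/-!
# Murthy's theorem: a Cohen–Macaulay local UFD that is a quotient of a regular local ring is Gorenstein

The canonical module `K` of `A` (S7708) is torsion-free (S7692), has `End K = A` (S7703) and `S₂`
(S7696); hence `K` is isomorphic to an ideal `J`, which can be chosen contained in no proper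
principal ideal; a minimal prime `q` of `J` then has height `≥ 2` (UFD), and `depth J_q ≤ 1`
contradicts `S₂`, unless `J = A`.
-/

set_option autoImplicit false
set_option linter.style.haveILetI false
universe u
open IsLocalRing

namespace Groth.Agent.Lib.T2H4.Murthy

/-- depth of a proper `m`-primary ideal-like module over a local domain is at most `1`. -/
theorem depth_le_one_of_embedding (S : Type u) [CommRing S] [IsLocalRing S] [IsDomain S]
    [IsNoetherianRing S] (M : Type u) [AddCommGroup M] [Module S M] (ι : M →ₗ[S] S)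
    (hι : Function.Injective ι) (h1 : ∀ u : M, ι u ≠ 1) (N : ℕ)
    (hN : ∀ s ∈ maximalIdeal S ^ N, ∃ u : M, ι u = s)
    (x₀ : S) (hx₀ : x₀ ∈ maximalIdeal S) (hx₀0 : x₀ ≠ 0) :
    LocCoh.depth S M ≤ 1 := by
  haveI : Module.Finite S M := Module.Finite.of_injective ι hι
  -- M ≠ 0
  obtain ⟨u₀, hu₀⟩ := hN (x₀ ^ N) (Ideal.pow_mem_pow hx₀ N)
  have hu₀0 : u₀ ≠ 0 := by
    intro h
    rw [h, map_zero] at hu₀
    exact pow_ne_zero N hx₀0 hu₀.symm
  have hne : maximalIdeal S • (⊤ : Submodule S M) ≠ ⊤ := by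
    intro h
    have hbot : (⊤ : Submodule S M) = ⊥ :=
      Submodule.eq_bot_of_le_smul_of_le_jacobson_bot (maximalIdeal S) ⊤ Module.Finite.fg_top
        (le_of_eq h.symm) (IsLocalRing.maximalIdeal_le_jacobson ⊥)
    have : u₀ ∈ (⊥ : Submodule S M) := hbot ▸ Submodule.mem_top
    exact hu₀0 (by simpa using this)
  by_contra hcon
  have h2 : ((2 : ℕ) : ℕ∞) ≤ LocCoh.depth S M := by
    rw [not_le] at hcon
    have h3 := Order.add_one_le_of_lt hcon
    have h4 : ((2 : ℕ) : ℕ∞) = 1 + 1 := by norm_num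
    rw [h4]
    exact h3
  unfold LocCoh.depth at h2
  rw [Groth.Agent.Lib.Helper28.natCast_le_idealDepth_iff hne] at h2
  obtain ⟨rs, hlen, hmem, hreg⟩ := h2
  match rs, hlen with
  | [x, y], _ =>
    have hxm : x ∈ maximalIdeal S := hmem x (by simp)
    have hym : y ∈ maximalIdeal S := hmem y (by simp)
    rw [RingTheory.Sequence.isRegular_cons_iff] at hreg
    obtain ⟨hxreg, hreg'⟩ := hreg
    rw [RingTheory.Sequence.isRegular_cons_iff] at hreg'
    obtain ⟨hyreg, -⟩ := hreg'
    -- x ≠ 0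
    have hx0 : x ≠ 0 := by
      intro h
      apply hu₀0
      apply hxreg
      simp [h]
    -- socle element
    have hex : ∃ k : ℕ, ∀ s ∈ maximalIdeal S ^ k, ∃ u : M, ι u = s := ⟨N, hN⟩
    classical
    let k := Nat.find hex
    have hk : ∀ s ∈ maximalIdeal S ^ k, ∃ u : M, ι u = s := Nat.find_spec hex
    have hk0 : k ≠ 0 := by
      intro h0
      obtain ⟨u, hu⟩ := hk 1 (by rw [h0, pow_zero, Ideal.one_eq_top]; exact Submodule.mem_top)
      exact h1 u hu
    obtain ⟨k', hk'⟩ : ∃ k', k = k' + 1 := Nat.exists_eq_succ_of_ne_zero hk0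
    have hmin : ¬ ∀ s ∈ maximalIdeal S ^ k', ∃ u : M, ι u = s :=
      Nat.find_min hex (by omega)
    push Not at hmin
    obtain ⟨s, hs, hsn⟩ := hmin
    have hzs : ∀ z ∈ maximalIdeal S, ∃ u : M, ι u = z * s := by
      intro z hz
      apply hk
      rw [hk', pow_succ']
      exact Ideal.mul_mem_mul hz hs
    obtain ⟨u, hu⟩ := hzs x hxm
    obtain ⟨v, hv⟩ := hzs y hym
    have hyu : y • u = x • v := by
      apply hι
      rw [map_smul, map_smul, hu, hv, smul_eq_mul, smul_eq_mul]
      ring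
    have hmk0 : (Submodule.Quotient.mk u : QuotSMulTop x M) ≠ 0 := by
      intro h
      rw [Submodule.Quotient.mk_eq_zero, Submodule.mem_smul_pointwise_iff_exists] at h
      obtain ⟨u', -, hu'⟩ := h
      have : ι u' = s := by
        have h3 : x * ι u' = x * s := by
          rw [← hu, ← hu', map_smul, smul_eq_mul]
        exact mul_left_cancel₀ hx0 h3
      exact hsn u' this
    apply hmk0
    apply hyreg
    show y • (Submodule.Quotient.mk u : QuotSMulTop x M) = y • 0
    rw [smul_zero, ← Submodule.Quotient.mk_smul, Submodule.Quotient.mk_eq_zero, hyu]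
    exact Submodule.smul_mem_pointwise_smul v x ⊤ Submodule.mem_top

/-- if every endomorphism of a torsion-free module is a scalar, every nonzero functional is
injective. -/
theorem injective_of_end_scalar {A : Type u} [CommRing A] [IsDomain A] (K : Type u)
    [AddCommGroup K] [Module A K]
    (htf : ∀ (a : A) (k : K), a • k = 0 → a = 0 ∨ k = 0)
    (hend : Function.Surjective (fun r : A => r • (LinearMap.id : K →ₗ[A] K)))
    (l : K →ₗ[A] A) (hl : l ≠ 0) : Function.Injective l := by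
  obtain ⟨k₀, hk₀⟩ : ∃ k₀, l k₀ ≠ 0 := by
    by_contra h
    push Not at h
    exact hl (LinearMap.ext h)
  have hk₀0 : k₀ ≠ 0 := by
    intro h
    rw [h, map_zero] at hk₀
    exact hk₀ rfl
  obtain ⟨a, ha⟩ := hend ((LinearMap.toSpanSingleton A K k₀).comp l)
  have ha' : ∀ k' : K, a • k' = l k' • k₀ := by
    intro k'
    have := LinearMap.congr_fun ha k'
    simpa using this
  have ha0 : a ≠ 0 := by
    intro h
    have h1 := ha' k₀
    rw [h, zero_smul] at h1
    rcases htf _ _ h1.symm with h2 | h2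
    · exact hk₀ h2
    · exact hk₀0 h2
  rw [← LinearMap.ker_eq_bot, LinearMap.ker_eq_bot']
  intro k' hk'
  have h1 := ha' k'
  rw [hk', zero_smul] at h1
  rcases htf _ _ h1 with h2 | h2
  · exact absurd h2 ha0
  · exact h2

theorem exists_functional_ne_zero {A : Type u} [CommRing A] [IsDomain A] (K : Type u)
    [AddCommGroup K] [Module A K] [Module.Finite A K]
    (htf : ∀ (a : A) (k : K), a • k = 0 → a = 0 ∨ k = 0) (k₀ : K) (hk₀ : k₀ ≠ 0) :
    ∃ l : K →ₗ[A] A, l k₀ ≠ 0 := by
  classical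
  let S := nonZeroDivisors A
  let F := FractionRing A
  let V := LocalizedModule S K
  let mk : K →ₗ[A] V := LocalizedModule.mkLinearMap S K
  have hv₀ : mk k₀ ≠ 0 := by
    intro h
    rw [IsLocalizedModule.eq_zero_iff S] at h
    obtain ⟨c, hc⟩ := h
    rcases htf (c : A) k₀ hc with h1 | h1
    · exact nonZeroDivisors.coe_ne_zero c h1
    · exact hk₀ h1
  obtain ⟨μ, hμ⟩ : ∃ μ : Module.Dual F V, μ (mk k₀) ≠ 0 := by
    by_contra h
    push Not at h
    exact hv₀ ((Module.forall_dual_apply_eq_zero_iff F (mk k₀)).1 h)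
  let η : K →ₗ[A] F := (μ.restrictScalars A).comp mk
  obtain ⟨s, hs⟩ := (Module.Finite.fg_top : (⊤ : Submodule A K).FG)
  obtain ⟨b, hb⟩ := IsLocalization.exist_integer_multiples_of_finset S (s.image η)
  let R0 : Submodule A F := LinearMap.range (Algebra.linearMap A F)
  have hall : ∀ k : K, ((b : A) • η) k ∈ R0 := by
    have hle : (⊤ : Submodule A K) ≤ Submodule.comap ((b : A) • η) R0 := by
      rw [← hs, Submodule.span_le]
      intro k hk
      obtain ⟨a, ha⟩ := hb (η k) (Finset.mem_image_of_mem η hk)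
      exact ⟨a, ha⟩
    intro k
    exact hle Submodule.mem_top
  have hinj : Function.Injective (Algebra.linearMap A F) := IsFractionRing.injective A F
  let e := LinearEquiv.ofInjective (Algebra.linearMap A F) hinj
  let l : K →ₗ[A] A := e.symm.toLinearMap.comp (((b : A) • η).codRestrict R0 hall)
  refine ⟨l, fun h => ?_⟩
  have h1 : (((b : A) • η).codRestrict R0 hall) k₀ = 0 := by
    have : e.symm ((((b : A) • η).codRestrict R0 hall) k₀) = 0 := h
    simpa using this
  have h2 : ((b : A) • η) k₀ = 0 := by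
    have := congrArg Subtype.val h1
    simpa using this
  have h3 : (b : A) • μ (mk k₀) = 0 := h2
  rw [Algebra.smul_def, mul_eq_zero] at h3
  rcases h3 with h3 | h3
  · exact nonZeroDivisors.coe_ne_zero b (hinj (by simpa using h3))
  · exact hμ h3

theorem exists_ideal_iso_not_le_principal {A : Type u} [CommRing A] [IsDomain A] [IsLocalRing A]
    [IsNoetherianRing A] (K : Type u) [AddCommGroup K] [Module A K] [Nontrivial K]
    (l : K →ₗ[A] A) (hl : Function.Injective l) :
    ∃ J : Ideal A, Nonempty (K ≃ₗ[A] J) ∧ ∀ x ∈ maximalIdeal A, ¬ J ≤ Ideal.span {x} := by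
  let 𝒮 : Set (Ideal A) := {J | Nonempty (K ≃ₗ[A] J)}
  have hne : 𝒮.Nonempty := ⟨LinearMap.range l, ⟨LinearEquiv.ofInjective l hl⟩⟩
  obtain ⟨J, hJ, hmax⟩ := (set_has_maximal_iff_noetherian.mpr
    (inferInstance : IsNoetherian A A)) 𝒮 hne
  obtain ⟨e⟩ := hJ
  have hJbot : J ≠ ⊥ := by
    intro h
    obtain ⟨k, k', hkk'⟩ := exists_pair_ne K
    apply hkk'
    apply e.injective
    apply Subtype.ext
    have h1 : (e k : A) ∈ (⊥ : Ideal A) := h ▸ (e k).2
    have h2 : (e k' : A) ∈ (⊥ : Ideal A) := h ▸ (e k').2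
    rw [Ideal.mem_bot] at h1 h2
    rw [h1, h2]
  refine ⟨J, ⟨e⟩, fun x hx hle => ?_⟩
  have hx0 : x ≠ 0 := by
    intro h
    apply hJbot
    rw [h] at hle
    rw [eq_bot_iff]
    intro j hj
    have := hle hj
    simpa using this
  let J' : Ideal A := Submodule.comap (LinearMap.lsmul A A x) J
  have hmemJ' : ∀ a : A, a ∈ J' ↔ x * a ∈ J := fun a => Iff.rfl
  let f : J' →ₗ[A] J := (LinearMap.lsmul A A x).restrict (p := J') (q := J) (fun a ha => ha)
  have hf : ∀ a : J', ((f a : J) : A) = x * (a : A) := fun a => rfl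
  have hfb : Function.Bijective f := by
    constructor
    · intro a a' h
      apply Subtype.ext
      have h1 := congrArg Subtype.val h
      rw [hf, hf] at h1
      exact mul_left_cancel₀ hx0 h1
    · intro j
      obtain ⟨a, ha⟩ := Ideal.mem_span_singleton'.1 (hle j.2)
      have haJ' : a ∈ J' := by
        rw [hmemJ', mul_comm, ha]
        exact j.2
      refine ⟨⟨a, haJ'⟩, ?_⟩
      apply Subtype.ext
      rw [hf]
      show x * a = j
      rw [mul_comm, ha]
  let e' : J' ≃ₗ[A] J := LinearEquiv.ofBijective f hfb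
  have hJ'S : J' ∈ 𝒮 := ⟨e.trans e'.symm⟩
  have hJJ' : J ≤ J' := by
    intro a ha
    rw [hmemJ']
    exact Ideal.mul_mem_left J x ha
  have hJ'J : J' = J := by
    by_contra hne'
    exact hmax J' hJ'S (lt_of_le_of_ne hJJ' (Ne.symm hne'))
  have hle2 : J ≤ maximalIdeal A • J := by
    intro j hj
    obtain ⟨a, ha⟩ := Ideal.mem_span_singleton'.1 (hle hj)
    have haJ' : a ∈ J' := by
      rw [hmemJ', mul_comm, ha]
      exact hj
    rw [hJ'J] at haJ'
    rw [← ha, mul_comm]
    exact Submodule.smul_mem_smul hx haJ'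
  apply hJbot
  exact Submodule.eq_bot_of_le_smul_of_le_jacobson_bot (maximalIdeal A) J
    (IsNoetherian.noetherian J) hle2 (IsLocalRing.maximalIdeal_le_jacobson ⊥)

theorem false_of_hasSk_two {A : Type u} [CommRing A] [IsDomain A] [IsLocalRing A]
    [IsNoetherianRing A] [UniqueFactorizationMonoid A] (J : Ideal A) (hJbot : J ≠ ⊥)
    (hJtop : J ≠ ⊤) (hprin : ∀ x ∈ maximalIdeal A, ¬ J ≤ Ideal.span {x})
    (hS2 : LocCoh.HasSk 2 A J) : False := by
  obtain ⟨q, hq⟩ := Ideal.nonempty_minimalPrimes hJtop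
  haveI hqp : q.IsPrime := hq.1.1
  have hJq : J ≤ q := hq.1.2
  have hqbot : q ≠ ⊥ := by
    intro h
    apply hJbot
    rw [eq_bot_iff, ← h]
    exact hJq
  obtain ⟨π, hπq, hπ⟩ := Ideal.IsPrime.exists_mem_prime_of_ne_bot hqp hqbot
  let P : Ideal A := Ideal.span {π}
  haveI hPp : P.IsPrime := (Ideal.span_singleton_prime hπ.ne_zero).mpr hπ
  have hPq : P ≤ q := (Ideal.span_singleton_le_iff_mem q).mpr hπq
  have hπm : π ∈ maximalIdeal A := IsLocalRing.le_maximalIdeal hqp.ne_top hπq
  have hPltq : P < q := by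
    refine lt_of_le_of_ne hPq fun h => hprin π hπm ?_
    show J ≤ P
    rw [h]
    exact hJq
  have hbotP : (⊥ : Ideal A) < P := by
    refine lt_of_le_of_ne bot_le fun h => hπ.ne_zero ?_
    have : π ∈ P := Ideal.mem_span_singleton_self π
    rw [← h] at this
    simpa using this
  have hht : (2 : ℕ∞) ≤ q.height := by
    have h1 := Ideal.height_add_one_le_of_lt_of_isPrime hbotP
    have h2 := Ideal.height_add_one_le_of_lt_of_isPrime hPltq
    have h3 : (1 : ℕ∞) ≤ P.height := le_trans (by simp) h1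
    calc (2 : ℕ∞) = 1 + 1 := by norm_num
      _ ≤ P.height + 1 := by gcongr
      _ ≤ q.height := h2
  let Aq := Localization.AtPrime q
  let M := LocalizedModule q.primeCompl J
  let f : J →ₗ[A] M := LocalizedModule.mkLinearMap q.primeCompl J
  let g : A →ₗ[A] Aq := Algebra.linearMap A Aq
  let ι : M →ₗ[Aq] Aq := IsLocalizedModule.mapExtendScalars q.primeCompl f g Aq J.subtype
  have hιf : ∀ j : J, ι (f j) = algebraMap A Aq (j : A) := by
    intro j
    show IsLocalizedModule.map q.primeCompl f g J.subtype (f j) = _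
    rw [IsLocalizedModule.map_apply]
    rfl
  have hιinj : Function.Injective ι := by
    show Function.Injective (IsLocalizedModule.map q.primeCompl f g J.subtype)
    exact IsLocalizedModule.map_injective q.primeCompl f g J.subtype Subtype.val_injective
  have hinjA : Function.Injective (algebraMap A Aq) :=
    IsLocalization.injective Aq (Ideal.primeCompl_le_nonZeroDivisors q)
  -- 1 ∉ range
  have h1 : ∀ u : M, ι u ≠ 1 := by
    intro u hu
    obtain ⟨⟨j, s⟩, rfl⟩ := IsLocalizedModule.mk'_surjective q.primeCompl f u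
    have h2 : (s : A) • IsLocalizedModule.mk' f j s = f j := IsLocalizedModule.mk'_cancel' f j s
    have h3 : ι ((s : A) • IsLocalizedModule.mk' f j s) = algebraMap A Aq (s : A) := by
      rw [← algebraMap_smul Aq (s : A), map_smul]
      simp only [Function.uncurry_apply_pair] at hu
      rw [hu, smul_eq_mul, mul_one]
    rw [h2, hιf] at h3
    have h4 := hinjA h3
    exact s.2 (hJq (h4 ▸ j.2))
  -- m^N ≤ range
  have hrad : (J.map (algebraMap A Aq)).radical = maximalIdeal Aq := by
    rw [IsLocalization.AtPrime.radical_map_of_mem_minimalPrimes (A := Aq) q J hq,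
      IsLocalization.AtPrime.map_eq_maximalIdeal q Aq]
  obtain ⟨N, hN⟩ := Ideal.exists_pow_le_of_le_radical_of_fg (le_of_eq hrad.symm)
    (IsNoetherian.noetherian (maximalIdeal Aq))
  have hmaple : J.map (algebraMap A Aq) ≤ LinearMap.range ι := by
    rw [Ideal.map, Ideal.span_le]
    rintro _ ⟨j, hj, rfl⟩
    exact ⟨f ⟨j, hj⟩, hιf ⟨j, hj⟩⟩
  have hN' : ∀ s ∈ maximalIdeal Aq ^ N, ∃ u : M, ι u = s := fun s hs => hmaple (hN hs)
  -- nonzero element of the maximal ideal
  have hx₀ : algebraMap A Aq π ∈ maximalIdeal Aq :=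
    (IsLocalization.AtPrime.to_map_mem_maximal_iff Aq q π).mpr hπq
  have hx₀0 : algebraMap A Aq π ≠ 0 := fun h => hπ.ne_zero (hinjA (by rw [h, map_zero]))
  have hdepth : LocCoh.depth Aq M ≤ 1 :=
    depth_le_one_of_embedding Aq M ι hιinj h1 N hN' _ hx₀ hx₀0
  -- support dimension
  obtain ⟨u₁, hu₁⟩ := hN' _ (Ideal.pow_mem_pow hx₀ N)
  have hu₁0 : ι u₁ ≠ 0 := by
    rw [hu₁]
    exact pow_ne_zero N hx₀0
  have hsd : (2 : WithBot ℕ∞) ≤ Module.supportDim Aq M := by
    have h2 : Module.supportDim Aq Aq ≤ Module.supportDim Aq M := by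
      refine Module.supportDim_le_of_injective (LinearMap.toSpanSingleton Aq M u₁) ?_
      intro a a' haa'
      have h3 : ι (a • u₁) = ι (a' • u₁) := congrArg ι haa'
      rw [map_smul, map_smul, smul_eq_mul, smul_eq_mul] at h3
      exact mul_right_cancel₀ hu₁0 h3
    rw [Module.supportDim_self_eq_ringKrullDim,
      IsLocalization.AtPrime.ringKrullDim_eq_height q Aq] at h2
    refine le_trans ?_ h2
    have h9 : ((2 : ℕ∞) : WithBot ℕ∞) ≤ (q.height : WithBot ℕ∞) := WithBot.coe_le_coe.mpr hht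
    exact h9
  have hS := @hS2 q hqp
  have h5 : (2 : WithBot ℕ∞) ≤ ((LocCoh.depth Aq M : ℕ∞) : WithBot ℕ∞) := by
    refine le_trans ?_ hS
    rw [le_min_iff]
    exact ⟨by norm_num, hsd⟩
  have h6 : ((LocCoh.depth Aq M : ℕ∞) : WithBot ℕ∞) ≤ ((1 : ℕ∞) : WithBot ℕ∞) :=
    WithBot.coe_le_coe.mpr hdepth
  have h7 := le_trans h5 h6
  have h8 : ((2 : ℕ∞) : WithBot ℕ∞) ≤ ((1 : ℕ∞) : WithBot ℕ∞) := h7
  rw [WithBot.coe_le_coe] at h8
  norm_num at h8

/-- the core: over a CM local UFD of positive dimension, a canonical module is free. -/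
theorem canon_free_of_ufd (A : Type u) [CommRing A] [IsDomain A]
    [LocCoh.IsCohenMacaulayLocalRing A] [UniqueFactorizationMonoid A]
    (n : ℕ) (hn : ringKrullDim A = n) (hn0 : 0 < n)
    (E : Type u) [AddCommGroup E] [Module A E] (f : IsLocalRing.ResidueField A →ₗ[A] E)
    (hf : InjHull.IsInjectiveHull f) (K : Type u) [AddCommGroup K] [Module A K]
    [Module.Finite A K]
    (eK : (K →ₗ[A] E) ≃ₗ[A] LocCoh.H (IsLocalRing.maximalIdeal A) n A) :
    Nonempty (K ≃ₗ[A] A) := by
  have hend := Groth.Agent.S7703.result A n hn E f hf K eK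
  have hass := Groth.Agent.S7692.result A n hn E f hf K eK hn0
  haveI : Nontrivial K := by
    by_contra h
    rw [not_nontrivial_iff_subsingleton] at h
    have h1 : (1 : A) • (LinearMap.id : K →ₗ[A] K) = (0 : A) • LinearMap.id := by
      ext k
      exact Subsingleton.elim _ _
    exact one_ne_zero (hend.1 h1)
  have htf : ∀ (a : A) (k : K), a • k = 0 → a = 0 ∨ k = 0 := by
    intro a k hak
    by_contra hcon
    push Not at hcon
    obtain ⟨ha, hk⟩ := hcon
    have hmem : a ∈ ⋃ P ∈ associatedPrimes A K, (P : Set A) := by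
      rw [biUnion_associatedPrimes_eq_zero_divisors]
      exact ⟨k, hk, hak⟩
    rw [Set.mem_iUnion₂] at hmem
    obtain ⟨P, hP, haP⟩ := hmem
    rw [hass] at hP
    obtain ⟨hPp, hPdim⟩ := hP
    have h1 : ringKrullDim (A ⧸ Ideal.span {a}) + 1 ≤ ringKrullDim A :=
      ringKrullDim_quotient_succ_le_of_nonZeroDivisor (mem_nonZeroDivisors_of_ne_zero ha)
    have hle : Ideal.span {a} ≤ P := (Ideal.span_singleton_le_iff_mem P).mpr haP
    have h2 : ringKrullDim (A ⧸ P) ≤ ringKrullDim (A ⧸ Ideal.span {a}) :=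
      ringKrullDim_le_of_surjective (Ideal.Quotient.factor hle)
        (Ideal.Quotient.factor_surjective hle)
    rw [hPdim] at h2
    rw [hn] at h1
    have h3 : (n : WithBot ℕ∞) + 1 ≤ (n : WithBot ℕ∞) :=
      le_trans (by gcongr) h1
    have h4 : ((n + 1 : ℕ) : WithBot ℕ∞) ≤ ((n : ℕ) : WithBot ℕ∞) := by
      push_cast
      exact h3
    rw [Nat.cast_le] at h4
    omega
  obtain ⟨k₀, hk₀⟩ := exists_ne (0 : K)
  obtain ⟨l, hl⟩ := exists_functional_ne_zero K htf k₀ hk₀
  have hl0 : l ≠ 0 := by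
    intro h
    rw [h] at hl
    exact hl rfl
  have hlinj := injective_of_end_scalar K htf hend.2 l hl0
  obtain ⟨J, ⟨e⟩, hprin⟩ := exists_ideal_iso_not_le_principal K l hlinj
  have hJbot : J ≠ ⊥ := by
    intro h
    apply hk₀
    apply e.injective
    apply Subtype.ext
    have h1 : (e k₀ : A) ∈ (⊥ : Ideal A) := h ▸ (e k₀).2
    rw [Ideal.mem_bot] at h1
    rw [h1, map_zero]
    rfl
  let eJ : ((J : Type u) →ₗ[A] E) ≃ₗ[A] LocCoh.H (IsLocalRing.maximalIdeal A) n A :=
    (LinearEquiv.congrLeft E A e).symm ≪≫ₗ eK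
  have hS2 : LocCoh.HasSk 2 A J := Groth.Agent.S7696.result A n hn E f hf J eJ
  have hJtop : J = ⊤ := by
    by_contra h
    exact false_of_hasSk_two J hJbot h hprin hS2
  exact ⟨e ≪≫ₗ LinearEquiv.ofEq J ⊤ hJtop ≪≫ₗ Submodule.topEquiv⟩

theorem murthy (B : Type u) [CommRing B] [IsRegularLocalRing B] (p : Ideal B) [p.IsPrime]
    [UniqueFactorizationMonoid (B ⧸ p)] [LocCoh.IsCohenMacaulayLocalRing (B ⧸ p)] :
    LocCoh.IsGorensteinLocalRing (B ⧸ p) := by
  obtain ⟨n, hn⟩ : ∃ n : ℕ, ringKrullDim (B ⧸ p) = n := by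
    have h1 : ringKrullDim (B ⧸ p) ≠ ⊤ := ringKrullDim_ne_top
    have h2 : ringKrullDim (B ⧸ p) ≠ ⊥ := ringKrullDim_ne_bot
    obtain ⟨m, hm⟩ := WithBot.ne_bot_iff_exists.1 h2
    have h3 : m ≠ ⊤ := by
      intro h
      rw [h] at hm
      exact h1 hm.symm
    obtain ⟨n, hn⟩ := ENat.ne_top_iff_exists.1 h3
    exact ⟨n, by rw [← hm, ← hn]; rfl⟩
  rcases Nat.eq_zero_or_pos n with h0 | hpos
  · -- field case
    subst h0
    haveI : Ring.KrullDimLE 0 (B ⧸ p) := by
      rw [Ring.KrullDimLE, Order.krullDimLE_iff]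
      exact le_of_eq hn
    have hfld : IsField (B ⧸ p) := Ring.KrullDimLE.isField_of_isDomain
    letI : Field (B ⧸ p) := hfld.toField
    haveI : IsRegularLocalRing (B ⧸ p) := inferInstance
    exact Groth.Agent.S0342.result (B ⧸ p)
  · haveI : LocCoh.IsGorensteinLocalRing B := Groth.Agent.S0342.result B
    obtain ⟨E, _, _, f, hf⟩ := Groth.Agent.S0299.result (B ⧸ p) (IsLocalRing.ResidueField (B ⧸ p))
    obtain ⟨K, hKfin, ⟨eK⟩⟩ := Groth.Agent.S7708.result (B ⧸ p) n hn E f hf B
      (Ideal.Quotient.mk p) Ideal.Quotient.mk_surjective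
    have hfree := canon_free_of_ufd (B ⧸ p) n hn hpos E f hf K eK
    exact (Groth.Agent.S7701.result (B ⧸ p) n hn E f hf K eK).2 hfree

end Groth.Agent.Lib.T2H4.Murthy
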