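import Groth.Agent.S7708
import Groth.Agent.Lib.T2H4Murthy
import Groth.Agent.S7700
import Groth.Agent.S0341
import Groth.Agent.Lib.Helper28DepthAss
import Groth.Agent.Lib.Helper28FGDim

set_option autoImplicit false
set_option linter.style.haveILetI false
universe u
open LocCoh

namespace Groth.Agent.Lib.T2H4.CanonIdeal
open CategoryTheory IsLocalRing Opposite
open Groth.Agent.Lib.Helper8.ExtLES Groth.Agent.Lib.Helper8.Bridge Groth.Agent.Lib.Helper8.LC
  Groth.Agent.Lib.Helper8.ExtRep Groth.Agent.Lib.Helper8.LocDual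
  Groth.Agent.Lib.Helper29.GorHull Groth.Agent.Lib.Helper29.GorAnn
open Groth.Agent.S7708

/-- the `Ext` module `Ext^{n'-n}_{R'}(R, R')` is killed by the kernel of `R' → R`. -/
theorem ext_smul_eq_zero (R : Type u) [CommRing R] (R' : Type u) [CommRing R'] [Algebra R' R] (k : ℕ)
    (a : R') (ha : algebraMap R' R a = 0)
    (y : Groth.Agent.Lib.Helper8.ExtLES.E k (ModuleCat.of R' R) (ModuleCat.of R' R')) :
    a • y = 0 := by
  have h0 : a • 𝟙 (ModuleCat.of R' R) = 0 := by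
    apply ModuleCat.hom_ext
    apply LinearMap.ext
    intro x
    change a • (x : R) = 0
    rw [Algebra.smul_def, ha, zero_mul]
  have h1 := Groth.Agent.Lib.Helper8.LC.Epre_smul k (ModuleCat.of R' R)
    (ModuleCat.of R' R') a
  have h2 := Groth.Agent.Lib.Helper8.LC.Epre_smul k (ModuleCat.of R' R)
    (ModuleCat.of R' R') 0
  rw [h0] at h1
  rw [zero_smul] at h2
  rw [h2] at h1
  have h3 := congrArg (fun φ => φ.hom y) h1
  have h4 : (0 : R') • y = a • y := h3
  rw [← h4, zero_smul]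

/-- `Ext^{n'-n}_{R'}(R, R')`, with its `R`-module structure, is a canonical module of `R`
(the proof of S7708, with the module exposed). -/
theorem exists_canon_ext (R : Type u) [CommRing R] [IsNoetherianRing R] [IsLocalRing R] (n : ℕ)
    (hn : ringKrullDim R = n) (E : Type u) [AddCommGroup E] [Module R E]
    (f : IsLocalRing.ResidueField R →ₗ[R] E) (hf : InjHull.IsInjectiveHull f) (R' : Type u)
    [CommRing R'] [LocCoh.IsGorensteinLocalRing R'] [Algebra R' R]
    (hπ : Function.Surjective (algebraMap R' R)) (n' : ℕ) (hn' : ringKrullDim R' = n')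
    (mK : Module R (Groth.Agent.Lib.Helper8.ExtLES.E (n' - n) (ModuleCat.of R' R) (ModuleCat.of R' R')))
    (hst : IsScalarTower R' R
      (Groth.Agent.Lib.Helper8.ExtLES.E (n' - n) (ModuleCat.of R' R) (ModuleCat.of R' R'))) :
    Module.Finite R (Groth.Agent.Lib.Helper8.ExtLES.E (n' - n) (ModuleCat.of R' R) (ModuleCat.of R' R')) ∧
    Nonempty ((Groth.Agent.Lib.Helper8.ExtLES.E (n' - n) (ModuleCat.of R' R) (ModuleCat.of R' R') →ₗ[R] E)
      ≃ₗ[R] LocCoh.H (IsLocalRing.maximalIdeal R) n R) := by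
  classical
  have hnn' : n ≤ n' := by
    have h1 := ringKrullDim_le_of_surjective (algebraMap R' R) hπ
    rw [hn, hn'] at h1
    exact_mod_cast h1
  haveI hfinR : Module.Finite R' R := Module.Finite.of_surjective (Algebra.linearMap R' R) hπ
  let K₀ : ModuleCat.{u} R' :=
    Groth.Agent.Lib.Helper8.ExtLES.E (n' - n) (ModuleCat.of R' R) (ModuleCat.of R' R')
  have hfinK' : Module.Finite R' K₀ := by
    have hX0 : Module.Finite R' (Abelian.Ext.{u} (ModuleCat.of R' R) (ModuleCat.of R' R') (n' - n)) :=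
      ModuleCat.finite_ext R' (ModuleCat.of R' R) (ModuleCat.of R' R') (n' - n)
    exact Module.Finite.equiv (Ψ (n' - n) (ModuleCat.of R' R) (ModuleCat.of R' R')).symm
  have hfinK : Module.Finite R K₀ := Module.Finite.of_restrictScalars_finite R' R K₀
  refine ⟨hfinK, ?_⟩
  obtain ⟨f', hf'⟩ := exists_isInjectiveHull_of_gorenstein R' n' hn'
  obtain ⟨g', hg'⟩ := Groth.Agent.S5156.result R' R (Hn R' n') f' hf'
  obtain ⟨e₁, _⟩ := Groth.Agent.S0302.result R (ResidueField R) E _ f hf g' hg'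
  let e₁' : E ≃ₗ[R] Cx R' R (Hn R' n') :=
    e₁.trans (ModuleCat.CoextendScalars.equiv (algebraMap R' R) (ModuleCat.of R' (Hn R' n')))
  obtain ⟨α, hα⟩ := exists_adj (R' := R') (R := R) K₀ (Hn R' n')
  obtain ⟨e₀⟩ := duality_gorenstein R' n' hn' R n hnn'
  obtain ⟨φ, hφ⟩ := exists_semilinear hπ R n
  let c₁ : (K₀ →ₗ[R] E) ≃ₗ[R] (K₀ →ₗ[R] Cx R' R (Hn R' n')) := LinearEquiv.congrRight e₁'
  let Φ : (K₀ →ₗ[R] E) ≃+ LocCoh.H (maximalIdeal R) n R :=
    c₁.toAddEquiv.trans (α.trans (e₀.symm.toAddEquiv.trans φ.symm))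
  have hΦ : ∀ (a : R') (ψ : K₀ →ₗ[R] E), Φ (algebraMap R' R a • ψ) = algebraMap R' R a • Φ ψ := by
    intro a ψ
    change φ.symm (e₀.symm (α (c₁ (algebraMap R' R a • ψ)))) =
      algebraMap R' R a • φ.symm (e₀.symm (α (c₁ ψ)))
    rw [map_smul, hα, map_smul]
    apply φ.injective
    rw [hφ, AddEquiv.apply_symm_apply, AddEquiv.apply_symm_apply]
  refine ⟨{ Φ with map_smul' := fun r ψ => ?_ }⟩
  obtain ⟨a, rfl⟩ := hπ r
  exact hΦ a ψ

section Canon

variable (A : Type u) [CommRing A] [IsDomain A] [LocCoh.IsCohenMacaulayLocalRing A]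
  (n : ℕ) (hn : ringKrullDim A = n) (hn0 : 0 < n)
  (E : Type u) [AddCommGroup E] [Module A E] (f : IsLocalRing.ResidueField A →ₗ[A] E)
  (hf : InjHull.IsInjectiveHull f) (K : Type u) [AddCommGroup K] [Module A K] [Module.Finite A K]
  (eK : (K →ₗ[A] E) ≃ₗ[A] LocCoh.H (IsLocalRing.maximalIdeal A) n A)
include hn hf eK

omit [IsDomain A] in
theorem nontrivial_canon : Nontrivial K := by
  have hend := Groth.Agent.S7703.result A n hn E f hf K eK
  by_contra h
  rw [not_nontrivial_iff_subsingleton] at h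
  have h1 : (1 : A) • (LinearMap.id : K →ₗ[A] K) = (0 : A) • LinearMap.id := by
    ext k
    exact Subsingleton.elim _ _
  exact one_ne_zero (hend.1 h1)

include hn0 in
theorem torsionFree_canon : ∀ (a : A) (k : K), a • k = 0 → a = 0 ∨ k = 0 := by
  have hass := Groth.Agent.S7692.result A n hn E f hf K eK hn0
  intro a k hak
  by_contra hcon
  push Not at hcon
  obtain ⟨ha, hk⟩ := hcon
  have hmem : a ∈ ⋃ P ∈ associatedPrimes A K, (P : Set A) := by
    rw [biUnion_associatedPrimes_eq_zero_divisors]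
    exact ⟨k, hk, hak⟩
  rw [Set.mem_iUnion₂] at hmem
  obtain ⟨P, hP, haP⟩ := hmem
  rw [hass] at hP
  obtain ⟨hPp, hPdim⟩ := hP
  have h1 : ringKrullDim (A ⧸ Ideal.span {a}) + 1 ≤ ringKrullDim A :=
    ringKrullDim_quotient_succ_le_of_nonZeroDivisor (mem_nonZeroDivisors_of_ne_zero ha)
  have hle : Ideal.span {a} ≤ P := (Ideal.span_singleton_le_iff_mem P).mpr haP
  have h2 : ringKrullDim (A ⧸ P) ≤ ringKrullDim (A ⧸ Ideal.span {a}) :=
    ringKrullDim_le_of_surjective (Ideal.Quotient.factor hle)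
      (Ideal.Quotient.factor_surjective hle)
  rw [hPdim] at h2
  rw [hn] at h1
  have h3 : (n : WithBot ℕ∞) + 1 ≤ (n : WithBot ℕ∞) :=
    le_trans (by gcongr) h1
  have h4 : ((n + 1 : ℕ) : WithBot ℕ∞) ≤ ((n : ℕ) : WithBot ℕ∞) := by
    push_cast
    exact h3
  rw [Nat.cast_le] at h4
  omega

include hn0 in
/-- a canonical module of a CM local domain of positive dimension is isomorphic to `A` or to a proper
ideal which is unmixed of height one. -/
theorem canon_iso_ideal :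
    Nonempty (K ≃ₗ[A] A) ∨ ∃ I : Ideal A, I ≠ ⊤ ∧
      (∀ q ∈ associatedPrimes A (A ⧸ I), q.height = 1) ∧ Nonempty (K ≃ₗ[A] I) := by
  have hend := Groth.Agent.S7703.result A n hn E f hf K eK
  haveI := nontrivial_canon A n hn E f hf K eK
  have htf := torsionFree_canon A n hn hn0 E f hf K eK
  obtain ⟨k₀, hk₀⟩ := exists_ne (0 : K)
  obtain ⟨l, hl⟩ := Groth.Agent.Lib.T2H4.Murthy.exists_functional_ne_zero K htf k₀ hk₀
  have hl0 : l ≠ 0 := by
    intro h
    rw [h] at hl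
    exact hl rfl
  have hlinj := Groth.Agent.Lib.T2H4.Murthy.injective_of_end_scalar K htf hend.2 l hl0
  let I : Ideal A := LinearMap.range l
  let e : K ≃ₗ[A] I := LinearEquiv.ofInjective l hlinj
  by_cases hI : I = ⊤
  · left
    exact ⟨e ≪≫ₗ LinearEquiv.ofEq I ⊤ hI ≪≫ₗ Submodule.topEquiv⟩
  right
  refine ⟨I, hI, ?_, ⟨e⟩⟩
  have hIbot : I ≠ ⊥ := by
    intro h
    apply hk₀
    apply e.injective
    apply Subtype.ext
    have h1 : (e k₀ : A) ∈ (⊥ : Ideal A) := h ▸ (e k₀).2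
    rw [Ideal.mem_bot] at h1
    rw [h1, map_zero]
    rfl
  -- depths
  obtain ⟨-, -, hCM, hsd⟩ := Groth.Agent.S7700.result A n hn E f hf K eK
  have hdK : LocCoh.depth A K = n := by
    unfold LocCoh.IsCohenMacaulayModule at hCM
    rw [hsd] at hCM
    have h1 : ((n : ℕ∞) : WithBot ℕ∞) = ((LocCoh.depth A K : ℕ∞) : WithBot ℕ∞) := hCM
    exact (WithBot.coe_injective h1).symm
  have hdI : LocCoh.depth A I = n := by
    unfold LocCoh.depth at hdK ⊢
    rw [← Groth.Agent.Lib.Helper28.idealDepth_congr e]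
    exact hdK
  have hdA : LocCoh.depth A A = n := by
    have h0 := LocCoh.IsCohenMacaulayLocalRing.supportDim_eq_depth (R := A)
    rw [Module.supportDim_self_eq_ringKrullDim, hn] at h0
    have h1 : ((n : ℕ∞) : WithBot ℕ∞) = ((LocCoh.depth A A : ℕ∞) : WithBot ℕ∞) := h0
    exact (WithBot.coe_injective h1).symm
  have hdQ : ((n - 1 : ℕ) : ℕ∞) ≤ LocCoh.depth A (A ⧸ I) := by
    have h1 := Groth.Agent.Lib.Helper28.min_idealDepth_le_right (maximalIdeal A) I.subtype I.mkQ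
      Subtype.val_injective (Submodule.mkQ_surjective I) (LinearMap.exact_subtype_mkQ I)
    unfold LocCoh.depth at hdI hdA ⊢
    rw [hdI, hdA] at h1
    refine le_trans ?_ h1
    rw [le_min_iff]
    constructor
    · exact_mod_cast Nat.sub_le n 1
    · have : ((n : ℕ) : ℕ∞) - 1 = ((n - 1 : ℕ) : ℕ∞) := by
        push_cast
        rfl
      rw [this]
  intro q hq
  haveI hqp : q.IsPrime := hq.isPrime
  have hIq : I ≤ q := by
    have h1 : (⊤ : Submodule A (A ⧸ I)).annihilator ≤ q := hq.annihilator_le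
    rwa [Submodule.annihilator_top, Ideal.annihilator_quotient] at h1
  have hqbot : q ≠ ⊥ := by
    intro h
    apply hIbot
    rw [eq_bot_iff, ← h]
    exact hIq
  have h2 := Groth.Agent.Lib.Helper28.depth_le_ringKrullDim_quotient_of_mem_associatedPrimes hq
  have h3 := Groth.Agent.Lib.Helper28.height_add_ringKrullDim_quotient_eq_of_isCohenMacaulayLocalRing
    q hqp.ne_top
  rw [hn] at h3
  have h4 : (((n - 1 : ℕ) : ℕ∞) : WithBot ℕ∞) ≤ ringKrullDim (A ⧸ q) :=
    le_trans (WithBot.coe_le_coe.mpr hdQ) h2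
  have hne0 : q.height ≠ 0 := by
    rw [Ne, Ideal.height_eq_zero_iff_eq_bot]
    exact hqbot
  -- arithmetic
  obtain ⟨D, hD⟩ : ∃ D : ℕ∞, ringKrullDim (A ⧸ q) = D := by
    have : ringKrullDim (A ⧸ q) ≠ ⊥ := by
      intro h
      rw [h] at h4
      simp at h4
    exact ⟨_, (WithBot.coe_unbot _ this).symm⟩
  rw [hD] at h3 h4
  have h3' : q.height + D = n := by exact_mod_cast h3
  have h4' : ((n - 1 : ℕ) : ℕ∞) ≤ D := by exact_mod_cast h4
  have hht : q.height ≠ ⊤ := by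
    intro h
    rw [h, top_add] at h3'
    exact ENat.top_ne_natCast n h3'
  obtain ⟨h', hh'⟩ := ENat.ne_top_iff_exists.1 hht
  have hDt : D ≠ ⊤ := by
    intro h
    rw [h, add_top] at h3'
    exact ENat.top_ne_natCast n h3'
  obtain ⟨D', hD'⟩ := ENat.ne_top_iff_exists.1 hDt
  rw [← hh', ← hD'] at h3'
  rw [← hD'] at h4'
  rw [← hh'] at hne0 ⊢
  have e1 : h' + D' = n := by exact_mod_cast h3'
  have e2 : n - 1 ≤ D' := by exact_mod_cast h4'
  have e3 : h' ≠ 0 := by exact_mod_cast hne0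
  have : h' = 1 := by omega
  rw [this]
  rfl

end Canon

theorem main (B : Type u) [CommRing B] [IsRegularLocalRing B] (p : Ideal B) [p.IsPrime]
    [LocCoh.IsCohenMacaulayLocalRing (B ⧸ p)] (r : ℕ) (hr : p.height = r) :
    Nonempty (((Ext B (ModuleCat.{u} B) r).obj (op (ModuleCat.of B (B ⧸ p)))).obj (ModuleCat.of B B)
      ≃ₗ[B] (B ⧸ p)) ∨
    ∃ I : Ideal (B ⧸ p), I ≠ ⊤ ∧
      (∀ q ∈ associatedPrimes (B ⧸ p) ((B ⧸ p) ⧸ I), q.height = 1) ∧
      Nonempty (((Ext B (ModuleCat.{u} B) r).obj (op (ModuleCat.of B (B ⧸ p)))).obj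
        (ModuleCat.of B B) ≃ₗ[B] I) := by
  haveI hGor : LocCoh.IsGorensteinLocalRing B := Groth.Agent.S0342.result B
  haveI hCMB : LocCoh.IsCohenMacaulayLocalRing B := Groth.Agent.S0341.result B
  obtain ⟨n', hn'⟩ := Groth.Agent.Lib.Helper5.exists_nat_ringKrullDim_eq B
  obtain ⟨d, hd⟩ := Groth.Agent.Lib.Helper5.exists_nat_ringKrullDim_eq (B ⧸ p)
  have hsum := Groth.Agent.Lib.Helper28.height_add_ringKrullDim_quotient_eq_of_isCohenMacaulayLocalRing
    p (Ideal.IsPrime.ne_top inferInstance)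
  rw [hr, hd, hn'] at hsum
  have hrd : r + d = n' := by exact_mod_cast hsum
  have hnd : n' - d = r := by omega
  have hπ : Function.Surjective (algebraMap B (B ⧸ p)) := Ideal.Quotient.mk_surjective
  let K₀ : ModuleCat.{u} B :=
    Groth.Agent.Lib.Helper8.ExtLES.E r (ModuleCat.of B (B ⧸ p)) (ModuleCat.of B B)
  have hK₀ : ∀ a : B, algebraMap B (B ⧸ p) a = 0 → ∀ x : K₀, a • x = 0 :=
    fun a ha x => ext_smul_eq_zero (B ⧸ p) B r a ha x
  letI mK : Module (B ⧸ p) K₀ := modOfSurj hπ K₀ hK₀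
  have hsm : ∀ (a : B) (x : K₀), algebraMap B (B ⧸ p) a • x = a • x := modOfSurj_smul hπ K₀ hK₀
  haveI hst : IsScalarTower B (B ⧸ p) K₀ := IsScalarTower.of_algebraMap_smul hsm
  obtain ⟨E, _, _, f, hf⟩ := Groth.Agent.S0299.result (B ⧸ p) (IsLocalRing.ResidueField (B ⧸ p))
  obtain ⟨hfin, ⟨eK⟩⟩ : Module.Finite (B ⧸ p) K₀ ∧
      Nonempty ((K₀ →ₗ[B ⧸ p] E) ≃ₗ[B ⧸ p] LocCoh.H (IsLocalRing.maximalIdeal (B ⧸ p)) d (B ⧸ p)) := by
    subst hnd
    exact exists_canon_ext (B ⧸ p) d hd E f hf B hπ n' hn' mK hst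
  have key : Nonempty (K₀ ≃ₗ[B ⧸ p] (B ⧸ p)) ∨ ∃ I : Ideal (B ⧸ p), I ≠ ⊤ ∧
      (∀ q ∈ associatedPrimes (B ⧸ p) ((B ⧸ p) ⧸ I), q.height = 1) ∧
      Nonempty (K₀ ≃ₗ[B ⧸ p] I) := by
    rcases Nat.eq_zero_or_pos d with h0 | hpos
    · left
      subst h0
      haveI : Ring.KrullDimLE 0 (B ⧸ p) := by
        rw [Ring.KrullDimLE, Order.krullDimLE_iff]
        exact le_of_eq hd
      have hfld : IsField (B ⧸ p) := Ring.KrullDimLE.isField_of_isDomain
      letI : Field (B ⧸ p) := hfld.toField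
      haveI : IsRegularLocalRing (B ⧸ p) := inferInstance
      have hG : LocCoh.IsGorensteinLocalRing (B ⧸ p) := Groth.Agent.S0342.result (B ⧸ p)
      exact (Groth.Agent.S7701.result (B ⧸ p) 0 hd E f hf K₀ eK).1 hG
    · exact canon_iso_ideal (B ⧸ p) d hd hpos E f hf K₀ eK
  rcases key with ⟨⟨e⟩⟩ | ⟨I, hI, hq, ⟨e⟩⟩
  · left
    exact ⟨e.restrictScalars B⟩
  · right
    exact ⟨I, hI, hq, ⟨e.restrictScalars B⟩⟩

end Groth.Agent.Lib.T2H4.CanonIdeal
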