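import Groth.Agent.Lib.T2H4RGFinite

/-!
# The dimension function of `RHom_A(B, ω)` for a surjection `A → B` (helper4)
-/

set_option autoImplicit false
universe u
open CategoryTheory CategoryTheory.Limits DerivedCategory
attribute [local instance] HasDerivedCategory.standard

namespace Groth.Agent.Lib.T2H4.DComp

open Groth.Agent.Lib.Helper1.Extend Groth.Agent.Lib.Helper1.Restrict Pretriangulated

section Delta

variable {A B : Type u} [CommRing A] [CommRing B] [Algebra A B]

/-- the hom-set bijection of `restrictD ⊣ R` is semilinear. -/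
lemma homEquiv_smul (R : Dual.D A ⥤ Dual.D B) (adj : DRing.restrictD (algebraMap A B) ⊣ R)
    (X : Dual.D B) (K : Dual.D A) (a : A) (m : (DRing.restrictD (algebraMap A B)).obj X ⟶ K) :
    adj.homEquiv X K (a • m) = algebraMap A B a • adj.homEquiv X K m := by
  have h1 : a • m = (DRing.restrictD (algebraMap A B)).map (algebraMap A B a • 𝟙 X) ≫ m := by
    rw [restrictD_map_smul_id, Linear.smul_comp, Category.id_comp]
  rw [h1, adj.homEquiv_naturality_left, Linear.smul_comp, Category.id_comp]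

/-- nontriviality of localizations transfers along a semilinear bijection over a surjection. -/
lemma nontrivial_localizedModule_iff_of_semilinear {M N : Type*} [AddCommGroup M] [Module A M]
    [AddCommGroup N] [Module B N] (hs : Function.Surjective (algebraMap A B)) (q : Ideal B)
    [q.IsPrime] (ψ : M ≃+ N) (hψ : ∀ (a : A) (m : M), ψ (a • m) = algebraMap A B a • ψ m) :
    Nontrivial (LocalizedModule q.primeCompl N) ↔
      Nontrivial (LocalizedModule (q.comap (algebraMap A B)).primeCompl M) := by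
  rw [← not_subsingleton_iff_nontrivial, ← not_subsingleton_iff_nontrivial,
    LocalizedModule.subsingleton_iff, LocalizedModule.subsingleton_iff]
  apply not_congr
  constructor
  · intro h m
    obtain ⟨r, hr, hrm⟩ := h (ψ m)
    obtain ⟨a, rfl⟩ := hs r
    refine ⟨a, fun ha => hr (Ideal.mem_comap.1 ha), ?_⟩
    apply ψ.injective
    rw [hψ, hrm, map_zero]
  · intro h n
    obtain ⟨a, ha, ham⟩ := h (ψ.symm n)
    refine ⟨algebraMap A B a, fun ha' => ha (Ideal.mem_comap.2 ha'), ?_⟩
    have := hψ a (ψ.symm n)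
    rw [ham, map_zero, AddEquiv.apply_symm_apply] at this
    exact this.symm

/-- `A/φ⁻¹(q) ⟶ B/q` as a map of `A`-modules. -/
noncomputable def quotMap (q : Ideal B) :
    (A ⧸ q.comap (algebraMap A B)) →ₗ[A]
      ((ModuleCat.restrictScalars.{u} (algebraMap A B)).obj (ModuleCat.of B (B ⧸ q))) where
  toFun := fun x => Ideal.quotientMap q (algebraMap A B) le_rfl x
  map_add' := fun x y => map_add (Ideal.quotientMap q (algebraMap A B) le_rfl) x y
  map_smul' := fun a x => by
    obtain ⟨x, rfl⟩ := Ideal.Quotient.mk_surjective x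
    show Ideal.quotientMap q (algebraMap A B) le_rfl (Ideal.Quotient.mk _ (a * x)) =
      Ideal.Quotient.mk q (algebraMap A B a) *
        Ideal.quotientMap q (algebraMap A B) le_rfl (Ideal.Quotient.mk _ x)
    rw [Ideal.quotientMap_mk, Ideal.quotientMap_mk, map_mul, map_mul]

/-- `A/φ⁻¹(q) ≃ B/q` as `A`-modules. -/
noncomputable def quotEquiv (hs : Function.Surjective (algebraMap A B)) (q : Ideal B) :
    (A ⧸ q.comap (algebraMap A B)) ≃ₗ[A]
      ((ModuleCat.restrictScalars.{u} (algebraMap A B)).obj (ModuleCat.of B (B ⧸ q))) :=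
  LinearEquiv.ofBijective (quotMap q)
    ⟨Ideal.quotientMap_injective, Ideal.quotientMap_surjective (H := le_rfl) hs⟩

/-- `δ_{ω_B}` is the restriction of `δ_ω`. -/
theorem delta_restrict (hs : Function.Surjective (algebraMap A B))
    (R : Dual.D A ⥤ Dual.D B) (adj : DRing.restrictD (algebraMap A B) ⊣ R) (ω : Dual.D A)
    (q : PrimeSpectrum B) (i : ℤ) :
    Nontrivial (LocalizedModule q.asIdeal.primeCompl
        (Dual.inD B (B ⧸ q.asIdeal) ⟶ (R.obj ω)⟦i⟧)) ↔
      Nontrivial (LocalizedModule (q.asIdeal.comap (algebraMap A B)).primeCompl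
        (Dual.inD A (A ⧸ q.asIdeal.comap (algebraMap A B)) ⟶ ω⟦i⟧)) := by
  letI : R.CommShift ℤ := adj.rightAdjointCommShift ℤ
  let X : Dual.D B := Dual.inD B (B ⧸ q.asIdeal)
  let iso1 : R.obj (ω⟦i⟧) ≅ (R.obj ω)⟦i⟧ := (R.commShiftIso i).app ω
  let iso2 : (DRing.restrictD (algebraMap A B)).obj X ≅
      Dual.inD A (A ⧸ q.asIdeal.comap (algebraMap A B)) :=
    restrictDSingleIso (algebraMap A B) (ModuleCat.of B (B ⧸ q.asIdeal)) 0 ≪≫
      (singleFunctor (ModuleCat.{u} A) 0).mapIso (quotEquiv hs q.asIdeal).toModuleIso.symm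
  let L1 := Linear.homCongr A iso2.symm (Iso.refl (ω⟦i⟧))
  let L3 := Linear.homCongr B (Iso.refl X) iso1
  let ψ : (Dual.inD A (A ⧸ q.asIdeal.comap (algebraMap A B)) ⟶ ω⟦i⟧) ≃+
      (Dual.inD B (B ⧸ q.asIdeal) ⟶ (R.obj ω)⟦i⟧) :=
    (L1.toAddEquiv.trans (adj.homAddEquiv X (ω⟦i⟧))).trans L3.toAddEquiv
  refine nontrivial_localizedModule_iff_of_semilinear hs q.asIdeal ψ ?_
  intro a m
  show L3 (adj.homEquiv X (ω⟦i⟧) (L1 (a • m))) =
    algebraMap A B a • L3 (adj.homEquiv X (ω⟦i⟧) (L1 m))
  rw [map_smul, homEquiv_smul, map_smul]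

end Delta

end Groth.Agent.Lib.T2H4.DComp
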