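import Groth.Agent.Lib.T2H4DualField
import Groth.Agent.Lib.T2H4RGDelta

set_option autoImplicit false
set_option linter.style.haveILetI false
set_option backward.isDefEq.respectTransparency.types false
universe u
open CategoryTheory CategoryTheory.Limits
attribute [local instance] HasDerivedCategory.standard

namespace Groth.Agent.Lib.T2H4.DualField

open DerivedCategory HomologicalComplex

section LinearSingle

variable {R : Type u} [CommRing R]

lemma single_map_smul (j : ℤ) {M N : ModuleCat.{u} R} (r : R) (f : M ⟶ N) :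
    (single (ModuleCat.{u} R) (ComplexShape.up ℤ) j).map (r • f) =
      r • (single (ModuleCat.{u} R) (ComplexShape.up ℤ) j).map f := by
  apply from_single_hom_ext
  rw [HomologicalComplex.smul_f_apply, single_map_f_self, single_map_f_self, Linear.smul_comp,
    Linear.comp_smul]

lemma singleFunctor_map_smul (j : ℤ) {M N : ModuleCat.{u} R} (r : R) (f : M ⟶ N) :
    (singleFunctor (ModuleCat.{u} R) j).map (r • f) =
      r • (singleFunctor (ModuleCat.{u} R) j).map f := by
  show Q.map ((single (ModuleCat.{u} R) (ComplexShape.up ℤ) j).map (r • f)) =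
    r • Q.map ((single (ModuleCat.{u} R) (ComplexShape.up ℤ) j).map f)
  rw [single_map_smul, Functor.map_smul]

lemma smul_id_singleFunctor (j : ℤ) (M : ModuleCat.{u} R) (r : R) :
    r • 𝟙 ((singleFunctor (ModuleCat.{u} R) j).obj M) =
      (singleFunctor (ModuleCat.{u} R) j).map (r • 𝟙 M) := by
  rw [singleFunctor_map_smul, CategoryTheory.Functor.map_id]

end LinearSingle

section Unique

variable {k : Type u} [Field k]

lemma homologyMap_eq_of_Q_map_eq {K L : CochainComplex (ModuleCat.{u} k) ℤ} (f g : K ⟶ L)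
    (h : Q.map f = Q.map g) (j : ℤ) : homologyMap f j = homologyMap g j := by
  have hf := (homologyFunctorFactors (ModuleCat.{u} k) j).hom.naturality f
  have hg := (homologyFunctorFactors (ModuleCat.{u} k) j).hom.naturality g
  simp only [Functor.comp_map] at hf hg
  rw [h] at hf
  exact (cancel_epi (((homologyFunctorFactors (ModuleCat.{u} k) j).app K).hom)).1
    (hf.symm.trans hg)

lemma homologyMap_smul_id (J : CochainComplex (ModuleCat.{u} k) ℤ) (c : k) (j : ℤ) :
    homologyMap (c • 𝟙 J) j = c • 𝟙 (J.homology j) := by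
  have h1 : cyclesMap (c • 𝟙 J) j = c • 𝟙 (J.cycles j) := by
    rw [← cancel_mono (J.iCycles j), cyclesMap_i, Linear.smul_comp, Category.id_comp,
      HomologicalComplex.smul_f_apply, id_f, Linear.comp_smul, Category.comp_id]
  rw [← cancel_epi (J.homologyπ j), homologyπ_naturality, h1, Linear.smul_comp, Category.id_comp,
    Linear.comp_smul, Category.comp_id]

lemma id_eq_zero_of_acyclic (J : CochainComplex (ModuleCat.{u} k) ℤ)
    (h : ∀ i, Subsingleton (J.homology i)) : 𝟙 (Q.obj J) = 0 := by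
  haveI : QuasiIso (0 : J ⟶ J) := by
    rw [quasiIso_iff]
    intro i
    rw [quasiIsoAt_iff_isIso_homologyMap]
    haveI := h i
    have hz : IsZero (J.homology i) := ModuleCat.isZero_of_subsingleton _
    exact ⟨0, hz.eq_of_src _ _, hz.eq_of_src _ _⟩
  haveI : IsIso (Q.map (0 : J ⟶ J)) :=
    (isIso_Q_map_iff_quasiIso (φ := (0 : J ⟶ J))).2 inferInstance
  have h1 := IsIso.hom_inv_id (Q.map (0 : J ⟶ J))
  have h3 : ∀ (g : Q.obj J ⟶ Q.obj J) (g' : Q.obj J ⟶ Q.obj J), g = 0 → g ≫ g' = 0 := by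
    intro g g' hg
    rw [hg, zero_comp]
  exact h1.symm.trans (h3 _ _ (Functor.map_zero _ _ _))

variable (J : CochainComplex (ModuleCat.{u} k) ℤ)

section

variable (hsurj : ∀ f : Q.obj J ⟶ Q.obj J, ∃ c : k, c • 𝟙 (Q.obj J) = f)

include hsurj in
lemma exists_smul_of_endo (f : J ⟶ J) :
    ∃ c : k, ∀ j : ℤ, homologyMap f j = c • 𝟙 (J.homology j) := by
  obtain ⟨c, hc⟩ := hsurj (Q.map f)
  refine ⟨c, fun j => ?_⟩
  rw [← homologyMap_smul_id]
  apply homologyMap_eq_of_Q_map_eq
  rw [← hc, Functor.map_smul, CategoryTheory.Functor.map_id]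

include hsurj in
/-- at most one cohomology module is nonzero. -/
lemma subsingleton_homology_of_ne (i : ℤ) (hi : Nontrivial (J.homology i)) (j : ℤ) (hj : j ≠ i) :
    Subsingleton (J.homology j) := by
  obtain ⟨c, hc⟩ := exists_smul_of_endo J hsurj (eMap J i)
  obtain ⟨x, hx⟩ := exists_ne (0 : J.homology i)
  have h1 := hc i
  rw [homologyMap_eMap_self] at h1
  have h2 : x = c • x := congr($h1 x)
  have hc1 : c = 1 := by
    by_contra hne
    have h3 : (c - 1) • x = 0 := by rw [sub_smul, one_smul, ← h2, sub_self]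
    exact hx ((smul_eq_zero.1 h3).resolve_left (sub_ne_zero.2 hne))
  have h4 := hc j
  rw [homologyMap_eMap_of_ne J i j hj, hc1, one_smul] at h4
  refine ⟨fun y y' => ?_⟩
  have h5 : ∀ y : J.homology j, y = 0 := fun y => (congr($h4 y)).symm
  rw [h5 y, h5 y']

include hsurj in
lemma one_dimensional (n : ℤ) (v : J.homology n) (hv : v ≠ 0) (w : J.homology n) :
    ∃ c : k, w = c • v := by
  have hker : LinearMap.ker (LinearMap.toSpanSingleton k (J.homology n) v) = ⊥ := by
    rw [LinearMap.ker_eq_bot']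
    intro c hc
    exact (smul_eq_zero.1 hc).resolve_right hv
  obtain ⟨g, hg⟩ := LinearMap.exists_leftInverse_of_injective _ hker
  let h : J.homology n ⟶ J.homology n :=
    ModuleCat.ofHom ((LinearMap.toSpanSingleton k (J.homology n) w).comp g)
  have hgv : g v = 1 := by
    have := congr($hg (1 : k))
    simpa using this
  have hhv : h.hom v = w := by
    show (g v) • w = w
    rw [hgv, one_smul]
  obtain ⟨c, hc⟩ := exists_smul_of_endo J hsurj
    (pMap J n ≫ (single (ModuleCat.{u} k) (ComplexShape.up ℤ) n).map h ≫ sMap J n)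
  have h1 := hc n
  rw [homologyMap_comp, homologyMap_comp, homologyMap_pMap, homologyMap_sMap,
    singleObjHomologySelfIso_hom_naturality, Iso.inv_hom_id_assoc] at h1
  refine ⟨c, ?_⟩
  rw [← hhv, h1]
  rfl

end

theorem field_case (hbij : Function.Bijective (fun c : k => c • 𝟙 (Q.obj J))) :
    ∃ n : ℤ, Nontrivial (J.homology n) ∧ QuasiIso (sMap J n) ∧
      ∀ v : J.homology n, v ≠ 0 → ∀ w, ∃ c : k, w = c • v := by
  have hsurj : ∀ f : Q.obj J ⟶ Q.obj J, ∃ c : k, c • 𝟙 (Q.obj J) = f := hbij.2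
  obtain ⟨n, hn⟩ : ∃ n : ℤ, Nontrivial (J.homology n) := by
    by_contra hcon
    have hall : ∀ i, Subsingleton (J.homology i) := fun i => by
      by_contra hi
      exact hcon ⟨i, not_subsingleton_iff_nontrivial.1 hi⟩
    have h0 := id_eq_zero_of_acyclic J hall
    have h1 : (1 : k) • 𝟙 (Q.obj J) = (0 : k) • 𝟙 (Q.obj J) := by
      rw [h0, smul_zero, smul_zero]
    exact one_ne_zero (hbij.1 h1)
  refine ⟨n, hn, ?_, one_dimensional J hsurj n⟩
  rw [quasiIso_iff]
  intro j
  rw [quasiIsoAt_iff_isIso_homologyMap]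
  by_cases hj : j = n
  · subst hj
    rw [homologyMap_sMap]
    infer_instance
  · haveI := subsingleton_homology_of_ne J hsurj n hn j hj
    have hz : IsZero (J.homology j) := ModuleCat.isZero_of_subsingleton _
    have hz' : IsZero (((single (ModuleCat.{u} k) (ComplexShape.up ℤ) n).obj
        (J.homology n)).homology j) := isZero_single_obj_homology _ _ _ _ hj
    exact ⟨0, hz'.eq_of_src _ _, hz.eq_of_src _ _⟩

end Unique

section FieldCase

variable {k : Type u} [Field k]

open Groth.Agent.Lib.T2H4.DualFinite in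
theorem hom_single_field (T : Dual.D k) (hT : Dual.IsDualizing k T) :
    ∃ n : ℤ, (∀ i : ℤ, i ≠ n → Subsingleton (Dual.inD k k ⟶ T⟦i⟧)) ∧
      ∃ g₀ : Dual.inD k k ⟶ T⟦n⟧, g₀ ≠ 0 ∧ ∀ g : Dual.inD k k ⟶ T⟦n⟧, ∃ c : k, g = c • g₀ := by
  let J := (Q : _ ⥤ Dual.D k).objPreimage T
  let e : Q.obj J ≅ T := Q.objObjPreimageIso T
  have hT' := isDualizing_of_iso e.symm hT
  obtain ⟨n, hnt, hqi, h1d⟩ := field_case J hT'.toEnd_bijective
  let V := J.homology n
  let sg := (single (ModuleCat.{u} k) (ComplexShape.up ℤ) n).obj V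
  haveI : IsIso (Q.map (sMap J n)) := (isIso_Q_map_iff_quasiIso (φ := sMap J n)).2 hqi
  let e2 : Q.obj sg ≅ T := asIso (Q.map (sMap J n)) ≪≫ e
  refine ⟨n, fun i hi => ?_, ?_⟩
  · refine Groth.Agent.S6965.subsingleton_of_rep T n n sg ?_ ?_ e2 (ModuleCat.of k k) i
      (by lia : i < n ∨ n < i)
    · intro j hj
      exact isZero_single_obj_X _ _ _ _ (by lia)
    · intro j
      exact Module.injective_of_isSemisimpleRing k _
  · let χ : T⟦n⟧ ≅ (singleFunctor (ModuleCat.{u} k) 0).obj V :=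
      (CategoryTheory.shiftFunctor (Dual.D k) n).mapIso e2.symm ≪≫
        ((singleFunctors (ModuleCat.{u} k)).shiftIso n 0 n (by lia)).app V
    obtain ⟨v, hv⟩ := exists_ne (0 : V)
    let γ₀ : ModuleCat.of k k ⟶ V := ModuleCat.ofHom (LinearMap.toSpanSingleton k V v)
    refine ⟨(singleFunctor (ModuleCat.{u} k) 0).map γ₀ ≫ χ.inv, ?_, ?_⟩
    · intro h0
      have h1 : (singleFunctor (ModuleCat.{u} k) 0).map γ₀ = 0 := by
        rw [← cancel_mono χ.inv, h0, zero_comp]
      have h2 : γ₀ = 0 :=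
        (singleFunctor (ModuleCat.{u} k) 0).map_injective (h1.trans (Functor.map_zero _ _ _).symm)
      apply hv
      have h3 : γ₀.hom (1 : k) = 0 := by rw [h2]; rfl
      have h4 : γ₀.hom (1 : k) = v := one_smul k v
      exact h4.symm.trans h3
    · intro g
      obtain ⟨γ, hγ⟩ := (singleFunctor (ModuleCat.{u} k) 0).map_surjective (g ≫ χ.hom)
      obtain ⟨c, hc⟩ := h1d v hv (γ.hom (1 : k))
      refine ⟨c, ?_⟩
      have hγ' : γ = c • γ₀ := by
        ext
        have h4 : γ₀.hom (1 : k) = v := one_smul k v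
        show γ.hom (1 : k) = c • γ₀.hom (1 : k)
        rw [h4, hc]
      rw [← Linear.smul_comp, ← singleFunctor_map_smul, ← hγ', hγ, Category.assoc, Iso.hom_inv_id,
        Category.comp_id]

end FieldCase

section Main

variable {A : Type u} [CommRing A] [IsNoetherianRing A]

open Groth.Agent.Lib.T2H4.DualFinite Groth.Agent.Lib.T2H4.DComp Groth.Agent.Lib.Helper1.Extend
  Groth.Agent.Lib.Helper1.Restrict in
/-- **S0364**. -/
theorem ext_residueField_single_degree (ω : Dual.D A) (hω : Dual.IsDualizing A ω) (m : Ideal A)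
    [m.IsMaximal] :
    ∃ n : ℤ, (∀ i : ℤ, i ≠ n → Subsingleton (Dual.inD A (A ⧸ m) ⟶ ω⟦i⟧)) ∧
      Nonempty ((Dual.inD A (A ⧸ m) ⟶ ω⟦n⟧) ≃ₗ[A] (A ⧸ m)) := by
  letI : Field (A ⧸ m) := Ideal.Quotient.field m
  let R := RG (algebraMap A (A ⧸ m))
  let adj := adjRG (algebraMap A (A ⧸ m))
  have hT : Dual.IsDualizing (A ⧸ m) (R.obj ω) := isDualizing_rightAdjoint R adj ω hω
  obtain ⟨n, hvan, g₀, hg₀, hgen⟩ := hom_single_field (R.obj ω) hT
  letI : R.CommShift ℤ := adj.rightAdjointCommShift ℤ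
  let X : Dual.D (A ⧸ m) := Dual.inD (A ⧸ m) (A ⧸ m)
  let iso2 : (DRing.restrictD (algebraMap A (A ⧸ m))).obj X ≅ Dual.inD A (A ⧸ m) :=
    restrictDSingleIso (algebraMap A (A ⧸ m)) (ModuleCat.of (A ⧸ m) (A ⧸ m)) 0 ≪≫
      (singleFunctor (ModuleCat.{u} A) 0).mapIso (e₀ (A := A) (A ⧸ m)).toModuleIso
  have key : ∀ i : ℤ, ∃ ψ : (Dual.inD A (A ⧸ m) ⟶ ω⟦i⟧) ≃+ (X ⟶ (R.obj ω)⟦i⟧),
      ∀ (a : A) (f : Dual.inD A (A ⧸ m) ⟶ ω⟦i⟧),
        ψ (a • f) = (Ideal.Quotient.mk m a) • ψ f := by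
    intro i
    let iso1 : R.obj (ω⟦i⟧) ≅ (R.obj ω)⟦i⟧ := (R.commShiftIso i).app ω
    let L1 := Linear.homCongr A iso2.symm (Iso.refl (ω⟦i⟧))
    let L3 := Linear.homCongr (A ⧸ m) (Iso.refl X) iso1
    refine ⟨(L1.toAddEquiv.trans (adj.homAddEquiv X (ω⟦i⟧))).trans L3.toAddEquiv, fun a f => ?_⟩
    show L3 (adj.homEquiv X (ω⟦i⟧) (L1 (a • f))) =
      (Ideal.Quotient.mk m a) • L3 (adj.homEquiv X (ω⟦i⟧) (L1 f))
    rw [map_smul, homEquiv_smul, map_smul]
    rfl
  refine ⟨n, fun i hi => ?_, ?_⟩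
  · obtain ⟨ψ, -⟩ := key i
    haveI := hvan i hi
    exact ψ.toEquiv.subsingleton
  · obtain ⟨ψ, hψ⟩ := key n
    let f₀ := ψ.symm g₀
    let L : A →ₗ[A] (Dual.inD A (A ⧸ m) ⟶ ω⟦n⟧) := LinearMap.toSpanSingleton A _ f₀
    have hL : ∀ a : A, L a = a • f₀ := fun a => rfl
    have hsurj : Function.Surjective L := by
      intro f
      obtain ⟨c, hc⟩ := hgen (ψ f)
      obtain ⟨a, rfl⟩ := Ideal.Quotient.mk_surjective c
      refine ⟨a, ?_⟩
      apply ψ.injective
      rw [hL, hψ, hc, AddEquiv.apply_symm_apply]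
    have hker : LinearMap.ker L = m := by
      ext a
      rw [LinearMap.mem_ker, hL, ← ψ.map_eq_zero_iff, hψ, AddEquiv.apply_symm_apply, smul_eq_zero,
        Ideal.Quotient.eq_zero_iff_mem]
      exact or_iff_left hg₀
    exact ⟨((Submodule.quotEquivOfEq _ _ hker.symm).trans
      (L.quotKerEquivOfSurjective hsurj)).symm⟩

end Main

end Groth.Agent.Lib.T2H4.DualField
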