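import Groth.Agent.Lib.T2H4HomCx
import Groth.Agent.Lib.Helper17KInjD5

/-!
# The Hom complex `Hom•(P, -)` on fibrant complexes (helper4)

For every complex `P`, the functor `Hom•(P, -)` sends homotopy equivalences to quasi-isomorphisms;
hence `RHom(P, -)` exists and is computed by `Hom•(P, J)` on fibrant (K-injective) complexes `J`.
-/

set_option autoImplicit false
universe u
open CategoryTheory CategoryTheory.Limits
attribute [local instance] HasDerivedCategory.standard

namespace Groth.Agent.Lib.T2H4.HomCx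

open CochainComplex HomComplex DerivedCategory Groth.Agent.Lib.Helper17.KInj

section general

variable {C : Type*} [Category C] [Abelian C]

lemma exists_postcomp' {P L L' : CochainComplex C ℤ} (f : L ⟶ L') {n : ℤ}
    (hb : Function.Bijective
      (fun g : (HomotopyCategory.quotient C (ComplexShape.up ℤ)).obj P ⟶
          (HomotopyCategory.quotient C (ComplexShape.up ℤ)).obj (L⟦n⟧) =>
        g ≫ (HomotopyCategory.quotient C (ComplexShape.up ℤ)).map (f⟦n⟧')))
    (x' : Cocycle P L' n) :
    ∃ x : Cocycle P L n, CohomologyClass.mk (x.postcomp f) = CohomologyClass.mk x' := by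
  obtain ⟨g, hg⟩ := hb.2 (CohomologyClass.toHom (CohomologyClass.mk x'))
  obtain ⟨c, hc⟩ := (CohomologyClass.toHom_bijective P L n).2 g
  obtain ⟨x, rfl⟩ := c.mk_surjective
  refine ⟨x, (CohomologyClass.toHom_bijective P L' n).1 ?_⟩
  rw [toHom_postcomp, hc]
  exact hg

lemma mk_eq_zero_of_postcomp' {P L L' : CochainComplex C ℤ} (f : L ⟶ L') {n : ℤ}
    (hb : Function.Bijective
      (fun g : (HomotopyCategory.quotient C (ComplexShape.up ℤ)).obj P ⟶
          (HomotopyCategory.quotient C (ComplexShape.up ℤ)).obj (L⟦n⟧) =>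
        g ≫ (HomotopyCategory.quotient C (ComplexShape.up ℤ)).map (f⟦n⟧')))
    (x : Cocycle P L n)
    (h : CohomologyClass.mk (x.postcomp f) = 0) : CohomologyClass.mk x = 0 := by
  apply (CohomologyClass.toHom_bijective P L n).1
  apply hb.1
  show CohomologyClass.toHom (CohomologyClass.mk x) ≫ _ = CohomologyClass.toHom 0 ≫ _
  rw [← toHom_postcomp, h, map_zero (CohomologyClass.toHom (K := P) (L := L') (n := n)),
    map_zero (CohomologyClass.toHom (K := P) (L := L) (n := n)), zero_comp]

lemma isIso_quotient_map_shift_of_homotopyEquiv {L L' : CochainComplex C ℤ}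
    (e : HomotopyEquiv L L') (n : ℤ) :
    IsIso ((HomotopyCategory.quotient C (ComplexShape.up ℤ)).map (e.hom⟦n⟧')) := by
  have h1 : IsIso ((HomotopyCategory.quotient C (ComplexShape.up ℤ)).map e.hom) :=
    (HomotopyCategory.isoOfHomotopyEquiv e).isIso_hom
  have h2 : IsIso ((HomotopyCategory.quotient C (ComplexShape.up ℤ) ⋙
      shiftFunctor (HomotopyCategory C (ComplexShape.up ℤ)) n).map e.hom) := by
    dsimp
    infer_instance
  exact (NatIso.isIso_map_iff
    ((HomotopyCategory.quotient C (ComplexShape.up ℤ)).commShiftIso n) e.hom).2 h2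

end general

variable {A : Type u} [CommRing A]

open Groth.Agent.Lib.Helper17.HOne in
/-- `Hom•(P, f)` is a quasi-isomorphism as soon as postcomposition with `f` is bijective on
homotopy classes of maps `P ⟶ L[n]`. -/
theorem quasiIso_homCxMap_of_bijective (P : DRing.Cx A) {L L' : DRing.Cx A} (f : L ⟶ L')
    (hb : ∀ n : ℤ, Function.Bijective
      (fun g : (HomotopyCategory.quotient (ModuleCat.{u} A) (ComplexShape.up ℤ)).obj P ⟶
          (HomotopyCategory.quotient (ModuleCat.{u} A) (ComplexShape.up ℤ)).obj (L⟦n⟧) =>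
        g ≫ (HomotopyCategory.quotient (ModuleCat.{u} A) (ComplexShape.up ℤ)).map (f⟦n⟧'))) :
    QuasiIso (DRing.homCxMap P f) := by
  rw [quasiIso_iff]
  intro n
  rw [quasiIsoAt_iff' _ (n - 1) n (n + 1) (by simp) (by simp)]
  apply quasiIso_of_elements
  · intro (x₂ : Cochain P L' n) (hx₂ : δ n (n + 1) x₂ = 0)
    obtain ⟨c, hc⟩ := exists_postcomp' f (hb n) (Cocycle.mk x₂ (n + 1) rfl hx₂)
    have h0 : CohomologyClass.mk (c.postcomp f - Cocycle.mk x₂ (n + 1) rfl hx₂) = 0 := by
      rw [CohomologyClass.mk_sub, hc, sub_self]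
    rw [CohomologyClass.mk_eq_zero_iff, mem_coboundaries_iff _ (n - 1) (by simp)] at h0
    obtain ⟨β, hβ⟩ := h0
    refine ⟨(c.1 : Cochain P L n), Cocycle.δ_eq_zero c (n + 1), (β : Cochain P L' (n - 1)), ?_⟩
    show c.1.comp (Cochain.ofHom f) (add_zero n) = x₂ + δ (n - 1) n β
    rw [hβ]
    simp
  · intro (x₁ : Cochain P L n) (hx₁ : δ n (n + 1) x₁ = 0)
    rintro ⟨(y : Cochain P L' (n - 1)), hy⟩
    have hy' : x₁.comp (Cochain.ofHom f) (add_zero n) = δ (n - 1) n y := hy
    have h0 : CohomologyClass.mk ((Cocycle.mk x₁ (n + 1) rfl hx₁).postcomp f) = 0 := by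
      rw [CohomologyClass.mk_eq_zero_iff, mem_coboundaries_iff _ (n - 1) (by simp)]
      exact ⟨y, hy'.symm⟩
    have h1 := mk_eq_zero_of_postcomp' f (hb n) _ h0
    rw [CohomologyClass.mk_eq_zero_iff, mem_coboundaries_iff _ (n - 1) (by simp)] at h1
    obtain ⟨z, hz⟩ := h1
    exact ⟨(z : Cochain P L (n - 1)), hz⟩

/-- `Hom•(P, -)` sends homotopy equivalences to quasi-isomorphisms. -/
theorem quasiIso_homCxMap_of_homotopyEquiv (P : DRing.Cx A) {L L' : DRing.Cx A}
    (e : HomotopyEquiv L L') : QuasiIso (DRing.homCxMap P e.hom) := by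
  apply quasiIso_homCxMap_of_bijective
  intro n
  have := isIso_quotient_map_shift_of_homotopyEquiv e n
  constructor
  · intro g g' h
    exact (cancel_mono _).1 h
  · intro g'
    exact ⟨g' ≫ inv ((HomotopyCategory.quotient (ModuleCat.{u} A) (ComplexShape.up ℤ)).map
      (e.hom⟦n⟧')), by simp⟩

/-- `Hom•(P, -)` followed by localization inverts homotopy equivalences. -/
theorem isInvertedBy_homCxQ_homotopyEquivalences (P : DRing.Cx A) :
    (HomologicalComplex.homotopyEquivalences (ModuleCat.{u} A) (ComplexShape.up ℤ)).IsInvertedBy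
      (DRing.homCxQ P) := by
  rintro L L' f ⟨e, rfl⟩
  have := quasiIso_homCxMap_of_homotopyEquiv P e
  exact (isIso_Q_map_iff_quasiIso (φ := DRing.homCxMap P e.hom)).2 inferInstance

/-- `RHom(P, -)` exists for every complex `P`. -/
theorem hasRHomCx (P : DRing.Cx A) : DRing.HasRHomCx P :=
  have := (fibLocalizerMorphism_derives.{u} _
    (isInvertedBy_homCxQ_homotopyEquivalences P)).hasPointwiseRightDerivedFunctor
  inferInstance

/-- the unit `Hom•(P, J) ⟶ RHom(P, J)` is an isomorphism for fibrant `J`. -/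
lemma isIso_RHomCx_unit_app (P : DRing.Cx A) [DRing.HasRHomCx P] (J : DRing.Cx A)
    (hJ : fibrant.{u} (ModuleCat.{u} A) J) :
    IsIso (((DRing.homCxQ P).totalRightDerivedUnit DerivedCategory.Q
      (HomologicalComplex.quasiIso (ModuleCat.{u} A) (ComplexShape.up ℤ))).app J) :=
  (fibLocalizerMorphism_derives.{u} _
    (isInvertedBy_homCxQ_homotopyEquivalences P)).isIso_of_isRightDerivedFunctor _ ⟨J, hJ⟩

/-- `RHom(P, J) ≅ Hom•(P, J)` for fibrant `J`. -/
noncomputable def RHomCxQIso (P : DRing.Cx A) [DRing.HasRHomCx P] (J : DRing.Cx A)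
    (hJ : fibrant.{u} (ModuleCat.{u} A) J) :
    (DRing.RHomCx P).obj (Q.obj J) ≅ Q.obj (DRing.homCx P J) :=
  haveI := isIso_RHomCx_unit_app P J hJ
  (asIso (((DRing.homCxQ P).totalRightDerivedUnit DerivedCategory.Q
      (HomologicalComplex.quasiIso (ModuleCat.{u} A) (ComplexShape.up ℤ))).app J)).symm

end Groth.Agent.Lib.T2H4.HomCx
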