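import Groth.Agent.Lib.T2H4RGCompute
import Groth.Agent.Lib.T2H4HomCxFib

/-!
# `Hom•(B[0], J)` is `Hom_A(B, J)` termwise (helper4)
-/

set_option autoImplicit false
universe u
open CategoryTheory CategoryTheory.Limits
attribute [local instance] HasDerivedCategory.standard

namespace Groth.Agent.Lib.T2H4.HomCx

open CochainComplex HomComplex DerivedCategory Groth.Agent.Lib.Helper17.KInj
  Groth.Agent.Lib.T2H4.DComp Groth.Agent.Lib.Helper1.Extend

section Single

variable {A : Type u} [CommRing A] (B : Type u) [CommRing B] [Algebra A B]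

/-- `B` in degree `0`, as a complex of `A`-modules. -/
noncomputable abbrev S0 : DRing.Cx A :=
  (CochainComplex.singleFunctor (ModuleCat.{u} A) 0).obj (ModuleCat.of A B)

lemma S0_eq : S0 (A := A) B =
    (HomologicalComplex.single (ModuleCat.{u} A) (ComplexShape.up ℤ) 0).obj (ModuleCat.of A B) :=
  rfl

variable {B}

/-- the `A`-linear map `B|_A → N` attached to a morphism `B ⟶ N`. -/
noncomputable def toCoext (N : ModuleCat.{u} A) (g : ModuleCat.of A B ⟶ N) :
    (ModuleCat.restrictScalars.{u} (algebraMap A B)).obj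
      ((ModuleCat.coextendScalars.{u, u, u} (algebraMap A B)).obj N) :=
  (ModuleCat.CoextendScalars.equiv (algebraMap A B) N).symm (g.hom ∘ₗ (e₀ (A := A) B).toLinearMap)

/-- inverse of `toCoext`. -/
noncomputable def ofCoext (N : ModuleCat.{u} A)
    (ψ : (ModuleCat.restrictScalars.{u} (algebraMap A B)).obj
      ((ModuleCat.coextendScalars.{u, u, u} (algebraMap A B)).obj N)) :
    ModuleCat.of A B ⟶ N :=
  ModuleCat.ofHom ((ModuleCat.CoextendScalars.equiv (algebraMap A B) N ψ) ∘ₗ
    (e₀ (A := A) B).symm.toLinearMap)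

lemma toCoext_apply (N : ModuleCat.{u} A) (g : ModuleCat.of A B ⟶ N) (x : B) :
    (ModuleCat.CoextendScalars.equiv (algebraMap A B) N (toCoext N g)) x = g.hom x := rfl

lemma ofCoext_apply (N : ModuleCat.{u} A)
    (ψ : (ModuleCat.restrictScalars.{u} (algebraMap A B)).obj
      ((ModuleCat.coextendScalars.{u, u, u} (algebraMap A B)).obj N)) (x : B) :
    (ofCoext N ψ).hom x = (ModuleCat.CoextendScalars.equiv (algebraMap A B) N ψ) x := rfl

lemma ofCoext_toCoext (N : ModuleCat.{u} A) (g : ModuleCat.of A B ⟶ N) :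
    ofCoext N (toCoext N g) = g := by
  ext x
  rfl

lemma toCoext_ofCoext (N : ModuleCat.{u} A)
    (ψ : (ModuleCat.restrictScalars.{u} (algebraMap A B)).obj
      ((ModuleCat.coextendScalars.{u, u, u} (algebraMap A B)).obj N)) :
    toCoext N (ofCoext N ψ) = ψ := by
  apply (ModuleCat.CoextendScalars.equiv (algebraMap A B) N).injective
  apply LinearMap.ext
  intro x
  rfl

lemma toCoext_add (N : ModuleCat.{u} A) (g g' : ModuleCat.of A B ⟶ N) :
    toCoext N (g + g') = toCoext N g + toCoext N g' := by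
  apply (ModuleCat.CoextendScalars.equiv (algebraMap A B) N).injective
  apply LinearMap.ext
  intro x
  rfl

lemma toCoext_smul (N : ModuleCat.{u} A) (a : A) (g : ModuleCat.of A B ⟶ N) :
    toCoext N (a • g) = a • toCoext N g := by
  apply (ModuleCat.CoextendScalars.equiv (algebraMap A B) N).injective
  apply LinearMap.ext
  intro x
  show (a • g).hom x = (ModuleCat.CoextendScalars.equiv (algebraMap A B) N
    (algebraMap A B a • (show (ModuleCat.coextendScalars.{u, u, u} (algebraMap A B)).obj N from
      toCoext N g))) x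
  rw [map_smul]
  show a • g.hom x = g.hom ((show B from x) * algebraMap A B a)
  rw [mul_comm, ← Algebra.smul_def, map_smul]

lemma fromSingleEquiv_smul {J : DRing.Cx A} {n q : ℤ} (h : 0 + n = q) (a : A)
    (α : Cochain (S0 (A := A) B) J n) :
    Cochain.fromSingleEquiv h (a • α) = a • Cochain.fromSingleEquiv h α := by
  show (HomologicalComplex.singleObjXSelf (ComplexShape.up ℤ) 0 (ModuleCat.of A B)).inv ≫
      (a • α).v 0 q h =
    a • ((HomologicalComplex.singleObjXSelf (ComplexShape.up ℤ) 0 (ModuleCat.of A B)).inv ≫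
      α.v 0 q h)
  rw [Cochain.smul_v]
  exact Linear.comp_smul (R := A) _ _ _ _ a _

/-- `Hom•(B[0], J)^n ≃ Hom_A(B, J^n)`. -/
noncomputable def cEquiv (J : DRing.Cx A) (n : ℤ) :
    Cochain (S0 (A := A) B) J n ≃ₗ[A]
      ((ModuleCat.restrictScalars.{u} (algebraMap A B)).obj
        ((ModuleCat.coextendScalars.{u, u, u} (algebraMap A B)).obj (J.X n))) where
  toFun α := toCoext (J.X n) (Cochain.fromSingleEquiv (zero_add n) α)
  invFun ψ := (Cochain.fromSingleEquiv (zero_add n)).symm (ofCoext (J.X n) ψ)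
  left_inv α := by
    show (Cochain.fromSingleEquiv (zero_add n)).symm (ofCoext (J.X n) (toCoext (J.X n)
      (Cochain.fromSingleEquiv (zero_add n) α))) = α
    rw [ofCoext_toCoext, AddEquiv.symm_apply_apply]
  right_inv ψ := by
    show toCoext (J.X n) (Cochain.fromSingleEquiv (zero_add n)
      ((Cochain.fromSingleEquiv (zero_add n)).symm (ofCoext (J.X n) ψ))) = ψ
    rw [AddEquiv.apply_symm_apply, toCoext_ofCoext]
  map_add' α β := by rw [map_add, toCoext_add]
  map_smul' a α := by
    rw [RingHom.id_apply, fromSingleEquiv_smul, toCoext_smul]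

/-- `Hom•(B[0], J) ≅ Hom_A(B, J)` as complexes of `A`-modules. -/
noncomputable def homSingleIso (J : DRing.Cx A) :
    DRing.homCx (S0 (A := A) B) J ≅ rcCx (algebraMap A B) J :=
  HomologicalComplex.Hom.isoOfComponents (fun n => (cEquiv J n).toModuleIso) (by
    rintro i j (hij : i + 1 = j)
    subst hij
    ext α
    apply (ModuleCat.CoextendScalars.equiv (algebraMap A B) (J.X (i + 1))).injective
    apply LinearMap.ext
    intro x
    obtain ⟨f, rfl⟩ := Cochain.fromSingleMk_surjective α i (zero_add i)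
    have hL : (cEquiv J i) (Cochain.fromSingleMk f (zero_add i)) = toCoext (J.X i) f := by
      show toCoext (J.X i) (Cochain.fromSingleEquiv (zero_add i)
        (Cochain.fromSingleMk f (zero_add i))) = _
      rw [Cochain.fromSingleEquiv_fromSingleMk]
    have hR : (cEquiv J (i + 1)) (δ i (i + 1) (Cochain.fromSingleMk f (zero_add i))) =
        toCoext (J.X (i + 1)) (f ≫ J.d i (i + 1)) := by
      show toCoext (J.X (i + 1)) (Cochain.fromSingleEquiv (zero_add (i + 1))
        (δ i (i + 1) (Cochain.fromSingleMk f (zero_add i)))) = _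
      rw [Cochain.δ_fromSingleMk f (zero_add i) (i + 1) (i + 1) (zero_add (i + 1)),
        Cochain.fromSingleEquiv_fromSingleMk]
    show (ModuleCat.CoextendScalars.equiv (algebraMap A B) (J.X (i + 1))
        ((ModuleCat.coextendScalars.{u, u, u} (algebraMap A B)).map (J.d i (i + 1))
          (cEquiv J i (Cochain.fromSingleMk f (zero_add i))))) x =
      (ModuleCat.CoextendScalars.equiv (algebraMap A B) (J.X (i + 1))
        (cEquiv J (i + 1) (δ i (i + 1) (Cochain.fromSingleMk f (zero_add i))))) x
    rw [hL, hR]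
    rfl)

/-- `RHom_A(B[0], K)` is `RHom_A(B, K)` viewed over `A`. -/
theorem nonempty_RHomCx_single_iso [DRing.HasRHomCx (S0 (A := A) B)] (K : Dual.D A) :
    Nonempty ((DRing.RHomCx (S0 (A := A) B)).obj K ≅
      (DRing.restrictD (algebraMap A B)).obj ((RG (algebraMap A B)).obj K)) := by
  obtain ⟨J, hJ, ⟨e⟩⟩ := exists_fibrant K
  exact ⟨(DRing.RHomCx (S0 (A := A) B)).mapIso e ≪≫ RHomCxQIso _ J hJ ≪≫
    Q.mapIso (homSingleIso J) ≪≫ (FRGQIso (algebraMap A B) J hJ).symm ≪≫
    ((DRing.restrictD (algebraMap A B)).mapIso ((RG (algebraMap A B)).mapIso e)).symm⟩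

/-- variant of `nonempty_RHomCx_single_iso` stated with `HomologicalComplex.single`. -/
theorem nonempty_RHomCx_single_iso'
    [inst : DRing.HasRHomCx ((HomologicalComplex.single (ModuleCat.{u} A) (ComplexShape.up ℤ) 0).obj
      (ModuleCat.of A B))] (K : Dual.D A) :
    Nonempty ((DRing.RHomCx ((HomologicalComplex.single (ModuleCat.{u} A) (ComplexShape.up ℤ) 0).obj
        (ModuleCat.of A B))).obj K ≅
      (DRing.restrictD (algebraMap A B)).obj ((RG (algebraMap A B)).obj K)) :=
  haveI : DRing.HasRHomCx (S0 (A := A) B) := inst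
  nonempty_RHomCx_single_iso K

end Single

end Groth.Agent.Lib.T2H4.HomCx
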