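import Groth.Agent.Lib.T2H4RGFinite0
import Groth.Agent.Lib.Helper10DerComplete4

/-!
# Finiteness of the cohomology of `R(K)` for the right adjoint of restriction along a finite map (helper4)
-/

set_option autoImplicit false
universe u
open CategoryTheory CategoryTheory.Limits DerivedCategory
attribute [local instance] HasDerivedCategory.standard

namespace Groth.Agent.Lib.T2H4.DComp

open Groth.Agent.Lib.Helper17.KInj Groth.Agent.Lib.Helper17.DBrown Groth.Agent.Lib.Helper1.Extend
  Groth.Agent.Lib.Helper1.Restrict Pretriangulated Groth.Agent.S14388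
  Groth.Agent.Lib.Helper10.DerComplete Groth.Agent.Lib.Helper1.HomFinite

section LemA

variable {A : Type u} [CommRing A]

/-- `Hom(N[-j], K)` is finite for a finite module `N` and `K` in `D^+_coh`. -/
lemma finite_hom_single_of_isGE [IsNoetherianRing A] (N : ModuleCat.{u} A) [Module.Finite A N]
    (j : ℤ) (K : Dual.D A) (a : ℤ) [K.IsGE a]
    (hfin : ∀ i : ℤ, Module.Finite A ((homologyFunctor (ModuleCat.{u} A) i).obj K)) :
    Module.Finite A ((singleFunctor (ModuleCat.{u} A) j).obj N ⟶ K) := by
  have hK' : Module.Finite A ((singleFunctor (ModuleCat.{u} A) j).obj N ⟶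
      (tt.truncLT (j + 1)).obj K) := by
    have hle : ((tt.truncLT (j + 1)).obj K).IsLE j := tt.isLE_truncLT_obj _ (j + 1) j
    have hge : ((tt.truncLT (j + 1)).obj K).IsGE a := inferInstance
    apply finite_hom_single_of_bounded N j _ a j
    · rintro i (hi | hi)
      · exact (DerivedCategory.isGE_iff _ _).1 hge i hi
      · exact (DerivedCategory.isLE_iff _ _).1 hle i hi
    · intro i
      by_cases hi : i < j + 1
      · have := hfin i
        exact Module.Finite.equiv (hLT (j + 1) i hi K).symm.toLinearEquiv
      · have hz : IsZero ((homologyFunctor (ModuleCat.{u} A) i).obj ((tt.truncLT (j + 1)).obj K)) :=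
          (DerivedCategory.isLE_iff _ _).1 hle i (by lia)
        have : Subsingleton ((homologyFunctor (ModuleCat.{u} A) i).obj
            ((tt.truncLT (j + 1)).obj K)) := ModuleCat.subsingleton_of_isZero hz
        infer_instance
  refine Module.Finite.of_surjective (Linear.rightComp A ((singleFunctor (ModuleCat.{u} A) j).obj N)
    ((tt.truncLTι (j + 1)).app K)) ?_
  intro g
  have hT := tt.triangleLTGE_distinguished (j + 1) K
  have h0 : g ≫ ((tt.triangleLTGE (j + 1)).obj K).mor₂ = 0 :=
    tt.zero_of_isLE_of_isGE _ j (j + 1) (by lia) inferInstance inferInstance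
  obtain ⟨g', hg'⟩ := Triangle.coyoneda_exact₂ _ hT g h0
  exact ⟨g', hg'.symm⟩

end LemA

section Semi

variable {A B : Type u} [CommRing A] [CommRing B] (φ : A →+* B)

lemma restrictCx_map_smul_id (a : A) (C : CochainComplex (ModuleCat.{u} B) ℤ) :
    (DRing.restrictCx φ).map (φ a • 𝟙 C) = a • 𝟙 ((DRing.restrictCx φ).obj C) := by
  ext n x
  rfl

/-- restriction of scalars is semilinear on identities. -/
lemma restrictD_map_smul_id (a : A) (X : Dual.D B) :
    (DRing.restrictD φ).map (φ a • 𝟙 X) = a • 𝟙 ((DRing.restrictD φ).obj X) := by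
  let C := (Q : _ ⥤ Dual.D B).objPreimage X
  let e : Q.obj C ≅ X := Q.objObjPreimageIso X
  have h1 : φ a • 𝟙 X = e.inv ≫ Q.map (φ a • 𝟙 C) ≫ e.hom := by
    rw [Functor.map_smul, CategoryTheory.Functor.map_id, Linear.smul_comp, Linear.comp_smul,
      Category.id_comp, Iso.inv_hom_id]
  have h2 : (DRing.restrictD φ).map (Q.map (φ a • 𝟙 C)) =
      (restrictQIso φ C).hom ≫ Q.map ((DRing.restrictCx φ).map (φ a • 𝟙 C)) ≫
        (restrictQIso φ C).inv := by
    have := (Functor.mapDerivedCategoryFactors (ModuleCat.restrictScalars.{u} φ)).hom.naturality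
      (φ a • 𝟙 C)
    exact ((Iso.eq_comp_inv _).2 this).trans (Category.assoc _ _ _)
  rw [h1, Functor.map_comp, Functor.map_comp, h2, restrictCx_map_smul_id, Functor.map_smul,
    CategoryTheory.Functor.map_id]
  simp only [Linear.smul_comp, Linear.comp_smul, Category.id_comp, Iso.hom_inv_id]
  rw [← Functor.map_comp, Iso.inv_hom_id, CategoryTheory.Functor.map_id]

end Semi

section Main

variable {A B : Type u} [CommRing A] [CommRing B] [Algebra A B]

/-- transfer of finiteness of Hom modules across an adjunction `restrictD ⊣ R`. -/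
lemma finite_hom_of_adj (R : Dual.D A ⥤ Dual.D B) (adj : DRing.restrictD (algebraMap A B) ⊣ R)
    (X : Dual.D B) (K : Dual.D A)
    (h : Module.Finite A ((DRing.restrictD (algebraMap A B)).obj X ⟶ K)) :
    Module.Finite B (X ⟶ R.obj K) := by
  letI : Module A (X ⟶ R.obj K) := Module.compHom _ (algebraMap A B)
  haveI : IsScalarTower A B (X ⟶ R.obj K) := ⟨fun a b m => by
    show (a • b) • m = algebraMap A B a • (b • m)
    rw [Algebra.smul_def, mul_smul]⟩
  let ψ : ((DRing.restrictD (algebraMap A B)).obj X ⟶ K) →ₗ[A] (X ⟶ R.obj K) :=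
    { toFun := adj.homEquiv X K
      map_add' := fun m m' => adj.homAddEquiv_add X K m m'
      map_smul' := fun a m => by
        show adj.homEquiv X K (a • m) = algebraMap A B a • adj.homEquiv X K m
        have h1 : a • m =
            (DRing.restrictD (algebraMap A B)).map (algebraMap A B a • 𝟙 X) ≫ m := by
          rw [restrictD_map_smul_id, Linear.smul_comp, Category.id_comp]
        rw [h1, adj.homEquiv_naturality_left, Linear.smul_comp, Category.id_comp] }
  have hψ : Function.Surjective ψ := (adj.homEquiv X K).surjective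
  haveI := Module.Finite.of_surjective ψ hψ
  exact Module.Finite.of_restrictScalars_finite A B _

/-- the cohomology of `R(K)` is finite for `K ∈ D^+_coh(A)`, `A → B` finite, `R` right adjoint to
restriction of scalars. -/
theorem finite_homology_rightAdjoint [IsNoetherianRing A] [IsNoetherianRing B] [Module.Finite A B]
    (R : Dual.D A ⥤ Dual.D B) (adj : DRing.restrictD (algebraMap A B) ⊣ R) (K : Dual.D A) (a : ℤ)
    (hKa : ∀ i : ℤ, i < a → Subsingleton (Dual.HD A K i))
    (hK : ∀ i : ℤ, Module.Finite A (Dual.HD A K i)) (i : ℤ) :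
    Module.Finite B (Dual.HD B (R.obj K) i) := by
  have hGE : K.IsGE a := by
    rw [DerivedCategory.isGE_iff]
    intro j hj
    have := hKa j hj
    exact ModuleCat.isZero_of_subsingleton _
  let C := (Q : _ ⥤ Dual.D B).objPreimage (R.obj K)
  let e : Q.obj C ≅ R.obj K := Q.objObjPreimageIso (R.obj K)
  have e1 : (homologyFunctor (ModuleCat.{u} B) i).obj (R.obj K) ≅ C.homology i :=
    (homologyFunctor _ i).mapIso e.symm ≪≫ (homologyFunctorFactors (ModuleCat.{u} B) i).app C
  suffices h : Module.Finite B (C.homology i) from Module.Finite.equiv e1.symm.toLinearEquiv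
  apply finite_homology_of_finite_hom
  have h2 : Module.Finite B (Q.obj (SB B i) ⟶ R.obj K) := by
    apply finite_hom_of_adj R adj
    let iso : (DRing.restrictD (algebraMap A B)).obj (Q.obj (SB B i)) ≅
        (singleFunctor (ModuleCat.{u} A) i).obj
          ((ModuleCat.restrictScalars.{u} (algebraMap A B)).obj (ModuleCat.of B B)) :=
      (DRing.restrictD (algebraMap A B)).mapIso
          ((singleFunctorIsoCompQ (ModuleCat.{u} B) i).app (ModuleCat.of B B)).symm ≪≫
        restrictDSingleIso (algebraMap A B) _ i
    haveI : Module.Finite A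
        ((ModuleCat.restrictScalars.{u} (algebraMap A B)).obj (ModuleCat.of B B)) :=
      Module.Finite.equiv (e₀ B).symm
    have := finite_hom_single_of_isGE
      ((ModuleCat.restrictScalars.{u} (algebraMap A B)).obj (ModuleCat.of B B)) i K a hK
    exact Module.Finite.equiv (Linear.homCongr A iso.symm (Iso.refl K))
  exact Module.Finite.equiv (Linear.homCongr B (Iso.refl _) e.symm)

end Main

end Groth.Agent.Lib.T2H4.DComp
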