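import Groth.Agent.Lib.T2H4Bidual5
import Groth.Agent.Lib.T2H4HomSingle
import Groth.Agent.Lib.T2H4RGFinite

/-!
# `RHom_A(B, ω)` is a dualizing complex for a finite `A → B` (helper4)
-/

set_option autoImplicit false
set_option linter.style.haveILetI false
set_option backward.isDefEq.respectTransparency.types false
universe u
open CategoryTheory CategoryTheory.Limits
attribute [local instance] HasDerivedCategory.standard

namespace Groth.Agent.Lib.T2H4.DualFinite

open CochainComplex HomComplex DerivedCategory Groth.Agent.Lib.T2H4.HomCx HomologicalComplex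
  Groth.Agent.Lib.T2H4.Bidual Groth.Agent.Lib.T2H4.DComp Groth.Agent.Lib.Helper17.KInj
  Groth.Agent.Lib.Helper1.Extend Groth.Agent.Lib.Helper1.Restrict

section Iso

variable {A : Type u} [CommRing A]

theorem isDualizing_of_iso {ω ω' : Dual.D A} (e : ω ≅ ω') (h : Dual.IsDualizing A ω) :
    Dual.IsDualizing A ω' := by
  obtain ⟨a, b, hab⟩ := h.finite_injective_dimension
  refine ⟨h.isNoetherianRing, ⟨a, b, fun M _ _ i hi => ?_⟩, fun i => ?_, ?_, fun i hi => ?_⟩
  · have := hab M i hi
    refine ⟨fun f g => ?_⟩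
    have h1 : f ≫ ((CategoryTheory.shiftFunctor (Dual.D A) i).mapIso e).inv =
        g ≫ ((CategoryTheory.shiftFunctor (Dual.D A) i).mapIso e).inv := Subsingleton.elim _ _
    exact (cancel_mono _).1 h1
  · have := h.finite_cohomology i
    exact Module.Finite.equiv ((homologyFunctor (ModuleCat.{u} A) i).mapIso e).toLinearEquiv
  · have h1 : ∀ a : A, a • 𝟙 ω' = e.inv ≫ (a • 𝟙 ω) ≫ e.hom := by
      intro a
      rw [Linear.smul_comp, Linear.comp_smul, Category.id_comp, Iso.inv_hom_id]
    constructor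
    · intro a a' haa
      apply h.toEnd_bijective.1
      dsimp only at haa ⊢
      rw [h1, h1] at haa
      exact (cancel_mono _).1 ((cancel_epi _).1 haa)
    · intro f
      obtain ⟨a, ha⟩ := h.toEnd_bijective.2 (e.hom ≫ f ≫ e.inv)
      refine ⟨a, ?_⟩
      dsimp only at ha ⊢
      rw [h1, ha]
      simp
  · have := h.ext_self_subsingleton i hi
    refine ⟨fun f g => ?_⟩
    have h1 : e.hom ≫ f ≫ ((CategoryTheory.shiftFunctor (Dual.D A) i).mapIso e).inv =
        e.hom ≫ g ≫ ((CategoryTheory.shiftFunctor (Dual.D A) i).mapIso e).inv :=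
      Subsingleton.elim _ _
    exact (cancel_mono _).1 ((cancel_epi _).1 h1)

end Iso

section P1

variable {A : Type u} [CommRing A]

lemma Θ_zero_comp (K L : DRing.Cx A) (z : Cocycle K L 0) :
    Θ K L z ≫ (CategoryTheory.shiftFunctorZero (Dual.D A) ℤ).hom.app (Q.obj L) =
      Q.map (Cocycle.homOf z) := by
  unfold Θ
  rw [Functor.commShiftIso_zero, Functor.CommShift.isoZero_hom_app, Category.assoc, Category.assoc,
    Iso.inv_hom_id_app]
  erw [Category.comp_id]
  rw [← Functor.map_comp]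
  congr 1
  ext p : 1
  rw [HomologicalComplex.comp_f, Cocycle.equivHomShift_symm_apply, Cocycle.homOf_f,
    shiftFunctorZero_hom_app_f, Cocycle.homOf_f, Cocycle.rightShift_coe,
    Cochain.rightShift_v _ 0 0 (zero_add 0) p p (add_zero p) p (by lia)]
  simp only [HomologicalComplex.XIsoOfEq, shiftFunctorObjXIso, eqToIso.hom, eqToIso.inv,
    Category.assoc]
  erw [eqToHom_trans, eqToHom_refl, Category.comp_id]

lemma Θ_zero' (K L : DRing.Cx A) (n : ℤ) : Θ K L (0 : Cocycle K L n) = 0 := by
  unfold Θ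
  rw [map_zero, Functor.map_zero, zero_comp]

lemma cocycleOf_add {K L X : DRing.Cx A} (η : X ⟶ DRing.homCx K L) (n : ℤ) (x x' : X.X n)
    (hx : (X.d n (n + 1)).hom x = 0) (hx' : (X.d n (n + 1)).hom x' = 0)
    (hxx : (X.d n (n + 1)).hom (x + x') = 0) :
    cocycleOf η n (x + x') hxx = cocycleOf η n x hx + cocycleOf η n x' hx' := by
  refine Cocycle.ext ?_
  rw [Cocycle.coe_add, cocycleOf_coe, cocycleOf_coe, cocycleOf_coe]
  exact map_add _ _ _

lemma cocycleOf_zero {K L X : DRing.Cx A} (η : X ⟶ DRing.homCx K L) (n : ℤ)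
    (h0 : (X.d n (n + 1)).hom 0 = 0) :
    cocycleOf η n 0 h0 = 0 := by
  refine Cocycle.ext ?_
  rw [cocycleOf_coe]
  exact map_zero _

end P1

section P2

variable {A B : Type u} [CommRing A] [CommRing B] [Algebra A B] (I : DRing.Cx A)

/-- the element of `B[0]^0` attached to `b`. -/
noncomputable def xB (b : B) : (S0 (A := A) B).X 0 :=
  (HomologicalComplex.singleObjXSelf (ComplexShape.up ℤ) 0 (ModuleCat.of A B)).inv.hom b

lemma d_xB (x : (S0 (A := A) B).X 0) : ((S0 (A := A) B).d 0 (0 + 1)).hom x = 0 := by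
  have h : (S0 (A := A) B).d 0 (0 + 1) = 0 :=
    (isZero_single_obj_X (ComplexShape.up ℤ) 0 (ModuleCat.of A B) (0 + 1) (by lia)).eq_of_tgt _ _
  rw [h]
  rfl

lemma xB_surjective (x : (S0 (A := A) B).X 0) : ∃ b : B, xB b = x :=
  ⟨(HomologicalComplex.singleObjXSelf (ComplexShape.up ℤ) 0 (ModuleCat.of A B)).hom.hom x,
    congr($((HomologicalComplex.singleObjXSelf (ComplexShape.up ℤ) 0
      (ModuleCat.of A B)).hom_inv_id) x)⟩

lemma xB_injective : Function.Injective (xB (A := A) (B := B)) := by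
  intro b b' h
  have := congrArg (HomologicalComplex.singleObjXSelf (ComplexShape.up ℤ) 0
    (ModuleCat.of A B)).hom.hom h
  have h2 : ∀ b : B, (HomologicalComplex.singleObjXSelf (ComplexShape.up ℤ) 0
      (ModuleCat.of A B)).hom.hom (xB b) = b := fun b =>
    congr($((HomologicalComplex.singleObjXSelf (ComplexShape.up ℤ) 0
      (ModuleCat.of A B)).inv_hom_id) b)
  rwa [h2, h2] at this

lemma xB_add (b b' : B) : xB (A := A) (b + b') = xB (A := A) b + xB (A := A) b' :=
  map_add _ _ _

lemma xB_zero : xB (A := A) (0 : B) = (0 : (S0 (A := A) B).X 0) :=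
  map_zero (HomologicalComplex.singleObjXSelf (ComplexShape.up ℤ) 0 (ModuleCat.of A B)).inv.hom

/-- the `0`-cocycle of `Hom•(Hom•(B[0], I), I)` attached to `b`. -/
noncomputable def cB (b : B) : Cocycle (DRing.homCx (S0 (A := A) B) I) I 0 :=
  cocycleOf (ev (S0 (A := A) B) I) 0 (xB b) (d_xB _)

lemma homOf_cB (b : B) :
    Cocycle.homOf (cB I b) = (homSingleIso I).hom ≫
      (DRing.restrictCx (algebraMap A B)).map
        (b • 𝟙 (((ModuleCat.coextendScalars.{u, u, u} (algebraMap A B)).mapHomologicalComplex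
          (ComplexShape.up ℤ)).obj I)) ≫ evOne (algebraMap A B) I := by
  ext p z
  rw [Cocycle.homOf_f]
  show (((evCochain (S0 (A := A) B) I 0 (xB b)).v p p (add_zero p)).hom z) = _
  rw [evCochain_v_apply]
  have h0 : (((0 : ℤ) * p).negOnePow : ℤ) = 1 := by rw [zero_mul]; rfl
  rw [h0, one_smul]
  show _ = (ModuleCat.CoextendScalars.equiv (algebraMap A B) (I.X p)
    (b • (show (ModuleCat.coextendScalars.{u, u, u} (algebraMap A B)).obj (I.X p) from
      cEquiv I p z))) (1 : B)
  rw [map_smul, ModuleCat.CoextendScalars.smul_apply', one_mul]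
  rfl

lemma cB_add (b b' : B) : cB I (b + b') = cB I b + cB I b' := by
  unfold cB
  rw [← cocycleOf_add (hxx := d_xB _)]
  congr 1

lemma Θ_cB_bijective [I.IsKInjective] [QuasiIso (ev (S0 (A := A) B) I)] :
    Function.Bijective (fun b : B => Θ _ _ (cB I b)) := by
  obtain ⟨h1, h2⟩ := Θ_of_quasiIsoAt (ev (S0 (A := A) B) I) 0
  constructor
  · intro b b' hbb
    dsimp only at hbb
    have hd : Θ _ _ (cB I (b - b')) = 0 := by
      have h3 : cB I b = cB I (b - b') + cB I b' := by rw [← cB_add, sub_add_cancel]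
      rw [h3, Θ_add] at hbb
      exact add_eq_right.1 hbb
    obtain ⟨y, hy⟩ := h2 (xB (b - b')) (d_xB _) hd
    have hz : IsZero ((S0 (A := A) B).X (0 - 1)) :=
      isZero_single_obj_X (ComplexShape.up ℤ) 0 (ModuleCat.of A B) (0 - 1) (by lia)
    have hy0 : y = 0 := (ModuleCat.subsingleton_of_isZero hz).elim _ _
    rw [hy0, map_zero] at hy
    have : b - b' = 0 := xB_injective (A := A) (hy.symm.trans xB_zero.symm)
    exact sub_eq_zero.1 this
  · intro g
    obtain ⟨x, hx, hg⟩ := h1 g
    obtain ⟨b, rfl⟩ := xB_surjective x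
    exact ⟨b, hg⟩

lemma subsingleton_hom_of_ne [I.IsKInjective] [QuasiIso (ev (S0 (A := A) B) I)] (n : ℤ)
    (hn : n ≠ 0) :
    Subsingleton (Q.obj (DRing.homCx (S0 (A := A) B) I) ⟶ (Q.obj I)⟦n⟧) := by
  obtain ⟨h1, -⟩ := Θ_of_quasiIsoAt (ev (S0 (A := A) B) I) n
  have hz : IsZero ((S0 (A := A) B).X n) :=
    isZero_single_obj_X (ComplexShape.up ℤ) 0 (ModuleCat.of A B) n hn
  have key : ∀ g : Q.obj (DRing.homCx (S0 (A := A) B) I) ⟶ (Q.obj I)⟦n⟧, g = 0 := by
    intro g
    obtain ⟨x, hx, rfl⟩ := h1 g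
    have hx0 : x = 0 := (ModuleCat.subsingleton_of_isZero hz).elim _ _
    subst hx0
    rw [cocycleOf_zero, Θ_zero']
  exact ⟨fun g g' => (key g).trans (key g').symm⟩

lemma finH_S0 [Module.Finite A B] : FinH (S0 (A := A) B) := by
  intro i
  by_cases hi : i = 0
  · subst hi
    exact Module.Finite.equiv (HomologicalComplex.singleObjHomologySelfIso (ComplexShape.up ℤ) 0
      (ModuleCat.of A B)).symm.toLinearEquiv
  · have hz : IsZero ((S0 (A := A) B).homology i) :=
      isZero_single_obj_homology (ComplexShape.up ℤ) 0 (ModuleCat.of A B) i hi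
    haveI := ModuleCat.subsingleton_of_isZero hz
    infer_instance

end P2

section Main

variable {A B : Type u} [CommRing A] [CommRing B] [Algebra A B] (I : DRing.Cx A)

variable (B) in
/-- `Hom_A(B, I)` as a complex of `B`-modules. -/
noncomputable abbrev JB : CochainComplex (ModuleCat.{u} B) ℤ :=
  ((ModuleCat.coextendScalars.{u, u, u} (algebraMap A B)).mapHomologicalComplex
    (ComplexShape.up ℤ)).obj I

variable (B) in
/-- the counit `Hom_A(B, I)|_A ⟶ I` in `D(A)`. -/
noncomputable def εQ : (DRing.restrictD (algebraMap A B)).obj (Q.obj (JB B I)) ⟶ Q.obj I :=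
  (restrictQIso (algebraMap A B) (JB B I)).hom ≫ Q.map (evOne (algebraMap A B) I)

lemma counit_fac :
    (DRing.restrictD (algebraMap A B)).map ((βRG (algebraMap A B)).app I) ≫
      (adjRG (algebraMap A B)).counit.app (Q.obj I) = εQ B I :=
  derivedAdjunction_counit_fac.{u} (ModuleCat.restrictScalars.{u} (algebraMap A B))
    (ModuleCat.coextendScalars.{u, u, u} (algebraMap A B))
    (ModuleCat.restrictCoextendScalarsAdj.{u, u, u} (algebraMap A B))
    (RG (algebraMap A B)) (βRG (algebraMap A B)) I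

/-- the adjunction bijection at the chain level. -/
lemma Ψ_bijective (hI : fibrant.{u} (ModuleCat.{u} A) I) (Z : Dual.D B) :
    Function.Bijective (fun f : Z ⟶ Q.obj (JB B I) =>
      (DRing.restrictD (algebraMap A B)).map f ≫ εQ B I) := by
  haveI := isIso_app_of_fibrant.{u} (ModuleCat.restrictScalars.{u} (algebraMap A B))
    (ModuleCat.coextendScalars.{u, u, u} (algebraMap A B))
    (ModuleCat.restrictCoextendScalarsAdj.{u, u, u} (algebraMap A B))
    (RG (algebraMap A B)) (βRG (algebraMap A B)) I hI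
  have h1 : (fun f : Z ⟶ Q.obj (JB B I) =>
      (DRing.restrictD (algebraMap A B)).map f ≫ εQ B I) =
      ((adjRG (algebraMap A B)).homEquiv Z (Q.obj I)).symm ∘
        (fun f : Z ⟶ Q.obj (JB B I) => f ≫ (βRG (algebraMap A B)).app I) := by
    funext f
    rw [Function.comp_apply, Adjunction.homEquiv_counit, Functor.map_comp, Category.assoc,
      counit_fac]
  have h2 : Function.Bijective (fun f : Z ⟶ Q.obj (JB B I) =>
      f ≫ (βRG (algebraMap A B)).app I) :=
    ⟨fun f g h => (cancel_mono _).1 h,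
      fun g => ⟨g ≫ inv ((βRG (algebraMap A B)).app I), by simp⟩⟩
  rw [h1]
  exact ((adjRG (algebraMap A B)).homEquiv Z (Q.obj I)).symm.bijective.comp h2

lemma restrictD_map_Q_map {C C' : CochainComplex (ModuleCat.{u} B) ℤ} (g : C ⟶ C') :
    (DRing.restrictD (algebraMap A B)).map (Q.map g) =
      (restrictQIso (algebraMap A B) C).hom ≫
        Q.map ((DRing.restrictCx (algebraMap A B)).map g) ≫
          (restrictQIso (algebraMap A B) C').inv := by
  have := (Functor.mapDerivedCategoryFactors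
    (ModuleCat.restrictScalars.{u} (algebraMap A B))).hom.naturality g
  exact ((Iso.eq_comp_inv _).2 this).trans (Category.assoc _ _ _)

variable (B) in
/-- `Hom_A(B, I)|_A ≅ Hom•(B[0], I)` in `D(A)`. -/
noncomputable def EIso :
    (DRing.restrictD (algebraMap A B)).obj (Q.obj (JB B I)) ≅
      Q.obj (DRing.homCx (S0 (A := A) B) I) :=
  restrictQIso (algebraMap A B) (JB B I) ≪≫ Q.mapIso (homSingleIso I).symm

lemma Ψ_smul (b : B) :
    (DRing.restrictD (algebraMap A B)).map (b • 𝟙 (Q.obj (JB B I))) ≫ εQ B I =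
      (EIso B I).hom ≫ Q.map (Cocycle.homOf (cB I b)) := by
  have h1 : b • 𝟙 (Q.obj (JB B I)) = Q.map (b • 𝟙 (JB B I)) := by
    rw [Functor.map_smul, CategoryTheory.Functor.map_id]
  rw [h1, restrictD_map_Q_map, homOf_cB]
  unfold εQ EIso
  simp only [Category.assoc, Iso.inv_hom_id_assoc, Functor.map_comp, Iso.trans_hom,
    Functor.mapIso_hom, Iso.symm_hom]
  rw [← Functor.map_comp_assoc Q (homSingleIso I).inv, Iso.inv_hom_id,
    CategoryTheory.Functor.map_id, Category.id_comp]

theorem toEnd_bijective [IsNoetherianRing A] [Module.Finite A B] {a b : ℤ}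
    (hI : DualizingRep I a b) :
    Function.Bijective (fun x : B => x • 𝟙 (Q.obj (JB B I))) := by
  haveI := hI.bdd.isKInjective
  haveI : QuasiIso (ev (S0 (A := A) B) I) := quasiIso_ev_of_dualizing hI _ finH_S0
  have hΨ := Ψ_bijective (B := B) I hI.fibrant (Q.obj (JB B I))
  have hΘ := Θ_cB_bijective (B := B) I
  have h3 : Function.Bijective ((fun f : Q.obj (JB B I) ⟶ Q.obj (JB B I) =>
      (DRing.restrictD (algebraMap A B)).map f ≫ εQ B I) ∘
        (fun x : B => x • 𝟙 (Q.obj (JB B I)))) := by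
    have h4 : ((fun f : Q.obj (JB B I) ⟶ Q.obj (JB B I) =>
        (DRing.restrictD (algebraMap A B)).map f ≫ εQ B I) ∘
          (fun x : B => x • 𝟙 (Q.obj (JB B I)))) =
        (Iso.homCongr (EIso B I).symm
          ((CategoryTheory.shiftFunctorZero (Dual.D A) ℤ).app (Q.obj I))) ∘
          (fun x : B => Θ _ _ (cB I x)) := by
      funext x
      rw [Function.comp_apply, Function.comp_apply, Ψ_smul, Iso.homCongr_apply, Iso.symm_inv,
        Iso.app_hom, Θ_zero_comp]
    rw [h4]
    exact (Equiv.bijective _).comp hΘ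
  exact (Function.Bijective.of_comp_iff' hΨ _).1 h3

theorem ext_subsingleton [IsNoetherianRing A] [Module.Finite A B] {a b : ℤ}
    (hI : DualizingRep I a b) (n : ℤ) (hn : n ≠ 0) :
    Subsingleton (Q.obj (JB B I) ⟶ (Q.obj (JB B I))⟦n⟧) := by
  haveI := hI.bdd.isKInjective
  haveI : QuasiIso (ev (S0 (A := A) B) I) := quasiIso_ev_of_dualizing hI _ finH_S0
  letI : (RG (algebraMap A B)).CommShift ℤ := (adjRG (algebraMap A B)).rightAdjointCommShift ℤ
  let iso1 : (RG (algebraMap A B)).obj ((Q.obj I)⟦n⟧) ≅ ((RG (algebraMap A B)).obj (Q.obj I))⟦n⟧ :=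
    ((RG (algebraMap A B)).commShiftIso n).app (Q.obj I)
  let iso0 : (RG (algebraMap A B)).obj (Q.obj I) ≅ Q.obj (JB B I) :=
    RGQIso (algebraMap A B) I hI.fibrant
  haveI := subsingleton_hom_of_ne (B := B) I n hn
  let eqv : (Q.obj (JB B I) ⟶ (Q.obj (JB B I))⟦n⟧) ≃
      (Q.obj (DRing.homCx (S0 (A := A) B) I) ⟶ (Q.obj I)⟦n⟧) :=
    (Iso.homCongr (Iso.refl _)
      ((CategoryTheory.shiftFunctor (Dual.D B) n).mapIso iso0.symm ≪≫ iso1.symm)).trans
      (((adjRG (algebraMap A B)).homEquiv _ _).symm.trans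
        (Iso.homCongr (EIso B I) (Iso.refl _)))
  exact eqv.subsingleton

theorem isDualizing_JB [IsNoetherianRing A] [IsNoetherianRing B] [Module.Finite A B] {a b : ℤ}
    (hI : DualizingRep I a b) (hfin : ∀ i : ℤ, Module.Finite A (Dual.HD A (Q.obj I) i)) :
    Dual.IsDualizing B (Q.obj (JB B I)) := by
  haveI := hI.bdd.ge
  haveI := hI.bdd.le
  refine ⟨inferInstance, ⟨a, b, fun M _ _ i hi => ?_⟩, fun i => ?_, toEnd_bijective I hI,
    ext_subsingleton I hI⟩
  · refine Groth.Agent.S6965.subsingleton_of_rep (Q.obj (JB B I)) a b (JB B I) ?_ ?_ (Iso.refl _)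
      (ModuleCat.of B M) i hi
    · intro n hn
      show IsZero ((ModuleCat.coextendScalars.{u, u, u} (algebraMap A B)).obj (I.X n))
      apply Functor.map_isZero
      rcases hn with hn | hn
      · exact I.isZero_of_isStrictlyGE a n hn
      · exact I.isZero_of_isStrictlyLE b n hn
    · intro n
      haveI := hI.bdd.inj n
      have hinj : Injective ((ModuleCat.coextendScalars.{u, u, u} (algebraMap A B)).obj (I.X n)) :=
        Injective.injective_of_adjoint
          (ModuleCat.restrictCoextendScalarsAdj.{u, u, u} (algebraMap A B)) (I.X n)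
      exact Module.injective_module_of_injective_object B
        ((ModuleCat.coextendScalars.{u, u, u} (algebraMap A B)).obj (I.X n)) (inj := hinj)
  · have hKa : ∀ j : ℤ, j < a → Subsingleton (Dual.HD A (Q.obj I) j) := by
      intro j hj
      have : (Q.obj I).IsGE a := inferInstance
      exact ModuleCat.subsingleton_of_isZero ((DerivedCategory.isGE_iff _ a).1 this j hj)
    have := finite_homology_rightAdjoint (RG (algebraMap A B)) (adjRG (algebraMap A B)) (Q.obj I) a
      hKa hfin i
    exact Module.Finite.equiv ((homologyFunctor (ModuleCat.{u} B) i).mapIso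
      (RGQIso (algebraMap A B) I hI.fibrant)).toLinearEquiv

/-- **S1772**. -/
theorem isDualizing_rightAdjoint [IsNoetherianRing A] [IsNoetherianRing B] [Module.Finite A B]
    (R : Dual.D A ⥤ Dual.D B) (adj : DRing.restrictD (algebraMap A B) ⊣ R) (ω : Dual.D A)
    (hω : Dual.IsDualizing A ω) : Dual.IsDualizing B (R.obj ω) := by
  obtain ⟨I, a, b, hI, ⟨e⟩⟩ := exists_dualizingRep ω hω
  have hfin : ∀ i : ℤ, Module.Finite A (Dual.HD A (Q.obj I) i) := fun i => by
    haveI := hω.finite_cohomology i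
    exact Module.Finite.equiv
      ((DerivedCategory.homologyFunctor (ModuleCat.{u} A) i).mapIso e).symm.toLinearEquiv
  have hY := isDualizing_JB (B := B) I hI hfin
  let iso : Q.obj (JB B I) ≅ R.obj ω :=
    (RGQIso (algebraMap A B) I hI.fibrant).symm ≪≫ (RG (algebraMap A B)).mapIso e ≪≫
      ((adj.rightAdjointUniq (adjRG (algebraMap A B))).app ω).symm
  exact isDualizing_of_iso iso hY

end Main

end Groth.Agent.Lib.T2H4.DualFinite
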