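import Groth.Agent.Lib.T2H4Depth
import Groth.Agent.Lib.Helper17DBrown5
import Groth.Agent.S7077

/-!
# `Hom_{D(A)}(A[0], K[j]) = 0` iff `H^j(K) = 0` (helper4)
-/

set_option autoImplicit false
set_option linter.style.haveILetI false
set_option backward.isDefEq.respectTransparency.types false
universe u
open CategoryTheory CategoryTheory.Limits
attribute [local instance] HasDerivedCategory.standard

namespace Groth.Agent.Lib.T2H4.HomRing

open DerivedCategory Pretriangulated Groth.Agent.S14388 Groth.Agent.Lib.Helper17.DBrown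

section General

variable {C : Type (u + 1)} [Category.{u} C] [Abelian C] [HasDerivedCategory.{u + 1} C]

/-- maps from a projective object in degree `i` to `K` vanish if `H^i(K) = 0`. -/
lemma subsingleton_hom_single_of_isZero_homology (P : C) [Projective P]
    (K : DerivedCategory C) (i : ℤ)
    (h : IsZero ((homologyFunctor C i).obj K)) :
    Subsingleton ((singleFunctor C i).obj P ⟶ K) := by
  have key : ∀ φ : (singleFunctor C i).obj P ⟶ K, φ = 0 := by
    intro φ
    have hK' : ((tt.truncLT (i + 1)).obj K).IsLE (i - 1) := by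
      rw [DerivedCategory.isLE_iff]
      intro j hj
      by_cases hji : j = i
      · subst hji
        haveI := isIso_homology_truncLTι (j + 1) j (by lia) K
        exact h.of_iso (asIso ((homologyFunctor C j).map ((tt.truncLTι (j + 1)).app K)))
      · exact isZero_of_isLE ((tt.truncLT (i + 1)).obj K) i j (by lia)
    have h1 := tt.liftTruncLT_ι φ i (i + 1) rfl
    rw [← h1, Groth.Agent.S7077.hom_single_proj_eq_zero P i (i - 1) (by lia) _
      (tt.liftTruncLT φ i (i + 1) rfl), zero_comp]
  exact ⟨fun a b => (key a).trans (key b).symm⟩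

/-- per-degree version of `isZero_Q_obj_of_forall_single`. -/
lemma isZero_homology_of_forall_single {P : C} [Projective P] (hP : IsSeparator P)
    (K : CochainComplex C ℤ) (m : ℤ)
    (h : ∀ (g : (Q : _ ⥤ DerivedCategory C).obj
      ((HomologicalComplex.single C (ComplexShape.up ℤ) m).obj P) ⟶ Q.obj K), g = 0) :
    IsZero (K.homology m) := by
  have hπ : K.homologyπ m = 0 := by
    apply hP.def
    intro a
    rw [comp_zero]
    obtain ⟨φ, hφ⟩ : ∃ φ : (HomologicalComplex.single C (ComplexShape.up ℤ) m).obj P ⟶ K,
        φ.f m = (HomologicalComplex.singleObjXSelf (ComplexShape.up ℤ) m P).hom ≫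
          a ≫ K.iCycles m :=
      ⟨HomologicalComplex.mkHomFromSingle (a ≫ K.iCycles m) (fun k _ => by
        rw [Category.assoc, HomologicalComplex.iCycles_d, comp_zero]),
        HomologicalComplex.mkHomFromSingle_f _ _⟩
    have h0 : (Q : _ ⥤ DerivedCategory C).map φ = Q.map 0 := by
      rw [h (Q.map φ), Functor.map_zero]
    obtain ⟨H⟩ := homotopy_of_Q_map_eq_of_isKProjective h0
    have hc := H.comm m
    rw [dNext_eq H.hom (show (ComplexShape.up ℤ).Rel m (m + 1) from rfl),
      prevD_eq H.hom (show (ComplexShape.up ℤ).Rel (m - 1) m by simp),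
      HomologicalComplex.single_obj_d, zero_comp, zero_add, HomologicalComplex.zero_f,
      add_zero, hφ] at hc
    have h2 : a ≫ K.iCycles m =
        ((HomologicalComplex.singleObjXSelf (ComplexShape.up ℤ) m P).inv ≫ H.hom m (m - 1) ≫
          K.toCycles (m - 1) m) ≫ K.iCycles m := by
      rw [Category.assoc, Category.assoc, HomologicalComplex.toCycles_i, ← hc,
        Iso.inv_hom_id_assoc]
    rw [(cancel_mono (K.iCycles m)).1 h2, Category.assoc, Category.assoc,
      HomologicalComplex.toCycles_comp_homologyπ, comp_zero, comp_zero]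
  exact IsZero.of_epi_eq_zero _ hπ

/-- `H^i(K) = 0` if all maps from a projective separator placed in degree `i` vanish. -/
lemma isZero_homology_of_subsingleton_hom {P : C} [Projective P] (hP : IsSeparator P)
    (K : DerivedCategory C) (i : ℤ)
    (h : Subsingleton ((singleFunctor C i).obj P ⟶ K)) :
    IsZero ((homologyFunctor C i).obj K) := by
  obtain ⟨L, ⟨e⟩⟩ : ∃ L : CochainComplex C ℤ, Nonempty (Q.obj L ≅ K) :=
    ⟨_, ⟨Q.objObjPreimageIso K⟩⟩
  have h1 : IsZero (L.homology i) := by
    apply isZero_homology_of_forall_single hP L i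
    intro g
    have : g ≫ e.hom = 0 := h.elim _ _
    rw [← cancel_mono e.hom, this, zero_comp]
  exact h1.of_iso ((homologyFunctor C i).mapIso e.symm ≪≫ (homologyFunctorFactors C i).app L)

end General

section Ring

variable {A : Type u} [CommRing A]

lemma subsingleton_hom_single_iff (K : Dual.D A) (i : ℤ) :
    Subsingleton ((singleFunctor (ModuleCat.{u} A) i).obj (ModuleCat.of A A) ⟶ K) ↔
      Subsingleton (Dual.HD A K i) := by
  constructor
  · intro h
    exact ModuleCat.subsingleton_of_isZero
      (isZero_homology_of_subsingleton_hom (isSeparator_of_self A) K i h)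
  · intro h
    exact subsingleton_hom_single_of_isZero_homology (ModuleCat.of A A) K i
      (ModuleCat.isZero_of_subsingleton _)

/-- `Hom(A[0], K[j]) = 0` iff `H^j(K) = 0`. -/
theorem subsingleton_hom_inD_self_iff (K : Dual.D A) (j : ℤ) :
    Subsingleton (Dual.inD A A ⟶ K⟦j⟧) ↔ Subsingleton (Dual.HD A K j) := by
  rw [subsingleton_hom_single_iff (K⟦j⟧) 0]
  let e : Dual.HD A (K⟦j⟧) 0 ≃ₗ[A] Dual.HD A K j :=
    (((homologyFunctor (ModuleCat.{u} A) 0).shiftIso j 0 j (by simp)).app K).toLinearEquiv
  exact ⟨fun h => e.symm.toEquiv.subsingleton, fun h => e.toEquiv.subsingleton⟩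

end Ring

end Groth.Agent.Lib.T2H4.HomRing
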