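import Groth.Agent.Lib.T2H4LocKL3

set_option autoImplicit false
set_option linter.style.haveILetI false
set_option backward.isDefEq.respectTransparency.types false
universe u
open CategoryTheory CategoryTheory.Limits
attribute [local instance] HasDerivedCategory.standard

namespace Groth.Agent.Lib.T2H4.LocKL

open DerivedCategory Pretriangulated Groth.Agent.S14388 Groth.Agent.Lib.T2H4.LocalDual
  Groth.Agent.Lib.T2H4.DComp Groth.Agent.Lib.T2H4.TorIndep

section Shift

variable {A : Type u} [CommRing A]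

lemma subsingleton_hom_of_shift (X Y : Dual.D A) (i : ℤ) (h : Subsingleton (X⟦-i⟧ ⟶ Y)) :
    Subsingleton (X ⟶ Y⟦i⟧) :=
  ⟨fun f g => (shiftFunctor (Dual.D A) (-i)).map_injective (by
    rw [← cancel_mono (shiftShiftNeg Y i).hom]
    exact h.elim _ _)⟩

lemma subsingleton_shift_of_hom (X Y : Dual.D A) (i : ℤ) (h : Subsingleton (X ⟶ Y⟦i⟧)) :
    Subsingleton (X⟦-i⟧ ⟶ Y) :=
  ⟨fun f g => (shiftFunctor (Dual.D A) i).map_injective (by
    rw [← cancel_epi (shiftNegShift X i).inv]
    exact h.elim _ _)⟩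

end Shift

section Consequences

variable {A : Type u} [CommRing A] (S : Submonoid A) (B : Type u) [CommRing B] [Algebra A B]
  [IsLocalization S B] [DRing.HasLBaseChange (algebraMap A B)] [IsNoetherianRing A]

include S in
/-- vanishing of `Hom` is preserved by localization. -/
theorem subsingleton_hom_lbc (K N : Dual.D A) (a : ℤ) [N.IsGE a] (c d : ℤ)
    (hK : ∀ i : ℤ, (i < c ∨ d < i) → IsZero ((homologyFunctor (ModuleCat.{u} A) i).obj K))
    (hfin : ∀ i : ℤ, Module.Finite A (Dual.HD A K i)) (i : ℤ)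
    (h : Subsingleton (K ⟶ N⟦i⟧)) :
    Subsingleton ((DRing.LBaseChange (algebraMap A B)).obj K ⟶
      ((DRing.LBaseChange (algebraMap A B)).obj N)⟦i⟧) := by
  have hgood := good_unit S B K N a c d hK hfin
  have h1 := subsingleton_shift_of_hom K N i h
  have h2 : Subsingleton (K⟦-i⟧ ⟶ (DRing.restrictD (algebraMap A B)).obj
      ((DRing.LBaseChange (algebraMap A B)).obj N)) := by
    have key : ∀ g : K⟦-i⟧ ⟶ (DRing.restrictD (algebraMap A B)).obj
        ((DRing.LBaseChange (algebraMap A B)).obj N), g = 0 := by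
      intro g
      obtain ⟨s, hs, f, hf⟩ := (hgood (-i)).2 g
      rw [h1.elim f 0, zero_comp] at hf
      haveI := isIso_smul_id_restrict S B ((DRing.LBaseChange (algebraMap A B)).obj N) s hs
      have h3 : g ≫ (s • 𝟙 _) = 0 := by rw [Linear.comp_smul, Category.comp_id]; exact hf
      rw [← cancel_mono (s • 𝟙 _), h3, zero_comp]
    exact ⟨fun g g' => (key g).trans (key g').symm⟩
  have h3 := subsingleton_hom_of_shift K _ i h2
  let e := ((DRing.restrictD (algebraMap A B)).commShiftIso i).app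
    ((DRing.LBaseChange (algebraMap A B)).obj N)
  have h4 : Subsingleton (K ⟶ (DRing.restrictD (algebraMap A B)).obj
      (((DRing.LBaseChange (algebraMap A B)).obj N)⟦i⟧)) :=
    ⟨fun f g => by
      rw [← cancel_mono e.hom]
      exact h3.elim _ _⟩
  exact ((lbcAdj (algebraMap A B)).homEquiv K _).subsingleton

omit [IsLocalization S B] [IsNoetherianRing A] [DRing.HasLBaseChange (algebraMap A B)] in
lemma restrictD_map_smul (x : A) {Y Y' : Dual.D B} (g : Y ⟶ Y') :
    (DRing.restrictD (algebraMap A B)).map (algebraMap A B x • g) =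
      x • (DRing.restrictD (algebraMap A B)).map g := by
  have h : algebraMap A B x • g = g ≫ (algebraMap A B x • 𝟙 Y') := by
    rw [Linear.comp_smul, Category.comp_id]
  rw [h, Functor.map_comp, restrictD_map_smul_id, Linear.comp_smul, Category.comp_id]

include S in
/-- the endomorphism ring of the localization. -/
theorem toEnd_bijective_lbc (ω : Dual.D A) (hbij : Function.Bijective (fun a : A => a • 𝟙 ω))
    (a : ℤ) [ω.IsGE a] (c d : ℤ)
    (hK : ∀ i : ℤ, (i < c ∨ d < i) → IsZero ((homologyFunctor (ModuleCat.{u} A) i).obj ω))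
    (hfin : ∀ i : ℤ, Module.Finite A (Dual.HD A ω i)) :
    Function.Bijective (fun b : B => b • 𝟙 ((DRing.LBaseChange (algebraMap A B)).obj ω)) := by
  have hgood := good_unit S B ω ω a c d hK hfin
  have e0 : ω⟦(0 : ℤ)⟧ ≅ ω := (shiftFunctorZero (Dual.D A) ℤ).app ω
  have hInj : Inj S (ηB B ω) ω := (hgood 0).1.of_iso e0
  have hSurj : Surj S (ηB B ω) ω := (hgood 0).2.of_iso e0
  have hΨ : ∀ g : (DRing.LBaseChange (algebraMap A B)).obj ω ⟶
      (DRing.LBaseChange (algebraMap A B)).obj ω,
      (lbcAdj (algebraMap A B)).homEquiv ω _ g =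
        ηB B ω ≫ (DRing.restrictD (algebraMap A B)).map g := fun g =>
    (lbcAdj (algebraMap A B)).homEquiv_unit ..
  have hΨs : ∀ (x : A) (g : (DRing.LBaseChange (algebraMap A B)).obj ω ⟶
      (DRing.LBaseChange (algebraMap A B)).obj ω),
      (lbcAdj (algebraMap A B)).homEquiv ω _ (algebraMap A B x • g) =
        x • (lbcAdj (algebraMap A B)).homEquiv ω _ g := by
    intro x g
    rw [hΨ, hΨ, restrictD_map_smul, Linear.comp_smul]
  have hΨ1 : (lbcAdj (algebraMap A B)).homEquiv ω _
      (𝟙 ((DRing.LBaseChange (algebraMap A B)).obj ω)) = ηB B ω := by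
    rw [hΨ, CategoryTheory.Functor.map_id]
    exact Category.comp_id _
  constructor
  · intro b b' hbb'
    have h0 : (b - b') • 𝟙 ((DRing.LBaseChange (algebraMap A B)).obj ω) = 0 := by
      rw [sub_smul, sub_eq_zero]
      exact hbb'
    suffices hx : b - b' = 0 from sub_eq_zero.1 hx
    generalize b - b' = x at h0
    obtain ⟨⟨y, s⟩, hys⟩ := IsLocalization.surj S x
    have h1 : algebraMap A B y • 𝟙 ((DRing.LBaseChange (algebraMap A B)).obj ω) = 0 := by
      rw [← hys, mul_comm, mul_smul, h0, smul_zero]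
    have h2 : (y • 𝟙 ω) ≫ ηB B ω = 0 := by
      rw [Linear.smul_comp, Category.id_comp, ← hΨ1, ← hΨs, h1, hΨ, Functor.map_zero, comp_zero]
    obtain ⟨t, ht, h3⟩ := hInj (y • 𝟙 ω) h2
    have h4 : t * y = 0 := hbij.1 (by
      show (t * y) • 𝟙 ω = (0 : A) • 𝟙 ω
      rw [mul_smul, h3, zero_smul])
    have h5 : algebraMap A B y = 0 := by
      have h6 : algebraMap A B t * algebraMap A B y = 0 := by
        rw [← map_mul, h4, map_zero]
      exact (IsLocalization.map_units B ⟨t, ht⟩).mul_right_eq_zero.1 h6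
    rw [h5] at hys
    exact (IsLocalization.map_units B s).mul_left_eq_zero.1 hys
  · intro g
    obtain ⟨s, hs, f, hf⟩ := hSurj ((lbcAdj (algebraMap A B)).homEquiv ω _ g)
    obtain ⟨y, rfl⟩ := hbij.2 f
    have h1 : (lbcAdj (algebraMap A B)).homEquiv ω _ (algebraMap A B s • g) =
        (lbcAdj (algebraMap A B)).homEquiv ω _
          (algebraMap A B y • 𝟙 ((DRing.LBaseChange (algebraMap A B)).obj ω)) := by
      rw [hΨs, hΨs, hΨ1, hf]
      show (y • 𝟙 ω) ≫ ηB B ω = _
      rw [Linear.smul_comp, Category.id_comp]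
    have h2 := ((lbcAdj (algebraMap A B)).homEquiv ω _).injective h1
    obtain ⟨v, hv⟩ := IsLocalization.map_units B ⟨s, hs⟩
    refine ⟨((v⁻¹ : Bˣ) : B) * algebraMap A B y, ?_⟩
    show (((v⁻¹ : Bˣ) : B) * algebraMap A B y) •
      𝟙 ((DRing.LBaseChange (algebraMap A B)).obj ω) = g
    have hv' : (v : B) = algebraMap A B s := hv
    rw [mul_smul, ← h2, ← hv', smul_smul, Units.inv_mul, one_smul]

end Consequences

end Groth.Agent.Lib.T2H4.LocKL
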