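import Groth.Agent.Lib.T2H4LocalDual2
import Groth.Agent.Lib.T2H4LocKL4
import Groth.Agent.Lib.T2H4HomRing
import Groth.Agent.Lib.Helper21Sib2
import Groth.Agent.Lib.Helper21DTrunc
import Groth.Agent.Lib.Helper1HomFinite

/-!
# Recognizing `A[-t]` in `D^b_coh(A)` over a local ring (helper4)
-/

set_option autoImplicit false
set_option linter.style.haveILetI false
set_option backward.isDefEq.respectTransparency.types false
universe u
open CategoryTheory CategoryTheory.Limits
attribute [local instance] HasDerivedCategory.standard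

namespace Groth.Agent.Lib.T2H4.Uniq

open DerivedCategory Pretriangulated Groth.Agent.S14388 Groth.Agent.Lib.T2H4.DualField
  Groth.Agent.Lib.Helper1.HomFinite

variable {A : Type u} [CommRing A]

section Top

/-- maps from `Y ∈ D^{≤ t}` to `M[-t]` are maps `H^t(Y) → M`. -/
theorem exists_homEquiv_single (Y : Dual.D A) (t : ℤ) [Y.IsLE t] :
    ∃ (M' : ModuleCat.{u} A),
      Nonempty (M' ≃ₗ[A] ((homologyFunctor (ModuleCat.{u} A) t).obj Y)) ∧
      ∀ (M : ModuleCat.{u} A),
        Nonempty ((M' →ₗ[A] M) ≃ₗ[A] (Y ⟶ (singleFunctor (ModuleCat.{u} A) t).obj M)) := by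
  haveI i1 : tt.IsLE ((tt.truncGE t).obj Y) t := inferInstance
  haveI i2 : tt.IsGE ((tt.truncGE t).obj Y) t := inferInstance
  obtain ⟨M', ⟨e⟩⟩ := exists_iso_singleFunctor_obj_of_isGE_of_isLE ((tt.truncGE t).obj Y) t
  refine ⟨M', ⟨?_⟩, fun M => ⟨?_⟩⟩
  · haveI := isIso_homology_truncGEπ t t le_rfl Y
    exact (((singleFunctorCompHomologyFunctorIso (ModuleCat.{u} A) t).app M').symm ≪≫
      (homologyFunctor (ModuleCat.{u} A) t).mapIso e.symm ≪≫
      (asIso ((homologyFunctor (ModuleCat.{u} A) t).map ((tt.truncGEπ t).app Y))).symm).toLinearEquiv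
  · let ψ : (M' →ₗ[A] M) →ₗ[A] (Y ⟶ (singleFunctor (ModuleCat.{u} A) t).obj M) :=
      { toFun := fun u => (tt.truncGEπ t).app Y ≫ e.hom ≫
          (singleFunctor (ModuleCat.{u} A) t).map (ModuleCat.ofHom u)
        map_add' := fun u v => by
          have h : ModuleCat.ofHom (u + v) = ModuleCat.ofHom u + ModuleCat.ofHom v := rfl
          rw [h, Functor.map_add, Preadditive.comp_add, Preadditive.comp_add]
        map_smul' := fun a u => by
          have h : ModuleCat.ofHom (a • u) = a • ModuleCat.ofHom u := rfl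
          rw [h, singleFunctor_map_smul, Linear.comp_smul, Linear.comp_smul]
          rfl }
    refine LinearEquiv.ofBijective ψ ⟨?_, ?_⟩
    · rw [injective_iff_map_eq_zero]
      intro u hu
      have h1 : e.hom ≫ (singleFunctor (ModuleCat.{u} A) t).map (ModuleCat.ofHom u) = 0 := by
        apply tt.from_truncGE_obj_ext
        rw [comp_zero]
        exact hu
      have h2 : (singleFunctor (ModuleCat.{u} A) t).map (ModuleCat.ofHom u) = 0 := by
        rw [← cancel_epi e.hom, h1, comp_zero]
      have h3 : ModuleCat.ofHom u = 0 :=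
        (singleFunctor (ModuleCat.{u} A) t).map_injective (h2.trans (Functor.map_zero _ _ _).symm)
      exact congrArg ModuleCat.Hom.hom h3
    · intro φ
      obtain ⟨γ, hγ⟩ := (singleFunctor (ModuleCat.{u} A) t).map_surjective
        (e.inv ≫ tt.descTruncGE φ t)
      refine ⟨γ.hom, ?_⟩
      show (tt.truncGEπ t).app Y ≫ e.hom ≫
        (singleFunctor (ModuleCat.{u} A) t).map (ModuleCat.ofHom γ.hom) = φ
      have h : ModuleCat.ofHom γ.hom = γ := rfl
      rw [h, hγ, Iso.hom_inv_id_assoc, tt.π_descTruncGE]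

/-- a nonzero bounded object has a top cohomology. -/
lemma exists_top (Y : Dual.D A) (c d : ℤ)
    (hY : ∀ i : ℤ, (i < c ∨ d < i) → IsZero ((homologyFunctor (ModuleCat.{u} A) i).obj Y))
    (hnz : ¬ IsZero Y) :
    ∃ t : ℤ, Y.IsLE t ∧ ¬ IsZero ((homologyFunctor (ModuleCat.{u} A) t).obj Y) := by
  by_contra hcon
  push Not at hcon
  have key : ∀ n : ℕ, Y.IsLE (d - n) := by
    intro n
    induction n with
    | zero =>
      rw [isLE_iff]
      intro i hi
      exact hY i (Or.inr (by simpa using hi))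
    | succ n ih =>
      have h0 := hcon (d - n) ih
      rw [isLE_iff]
      intro i hi
      by_cases h : i = d - n
      · rw [h]
        exact h0
      · haveI := ih
        exact isZero_of_isLE Y (d - n) i (by push_cast at hi; lia)
  haveI : Y.IsGE c := (isGE_iff Y c).2 (fun i hi => hY i (Or.inl hi))
  haveI : Y.IsLE (c - 1) := by
    have := key (d - c + 1).toNat
    rw [isLE_iff] at this ⊢
    intro i hi
    by_cases h : i ≤ d
    · exact this i (by lia)
    · exact hY i (Or.inr (by lia))
  exact hnz (tt.isZero Y (c - 1) c (by lia))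

/-- finiteness of the cohomology of the third vertex of a triangle. -/
lemma finite_homology_obj₃ [IsNoetherianRing A] (T : Triangle (Dual.D A))
    (hT : T ∈ distTriang (Dual.D A))
    (h₁ : ∀ i : ℤ, Module.Finite A ((homologyFunctor (ModuleCat.{u} A) i).obj T.obj₁))
    (h₂ : ∀ i : ℤ, Module.Finite A ((homologyFunctor (ModuleCat.{u} A) i).obj T.obj₂)) (i : ℤ) :
    Module.Finite A ((homologyFunctor (ModuleCat.{u} A) i).obj T.obj₃) := by
  have hex := HomologySequence.exact₃ T hT i (i + 1) rfl
  rw [ShortComplex.ShortExact.moduleCat_exact_iff_function_exact] at hex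
  haveI : Module.Finite A
      (((homologyFunctor (ModuleCat.{u} A) 0).shift (i + 1)).obj T.obj₁) := h₁ (i + 1)
  haveI := h₂ i
  exact finite_of_exact ((homologyFunctor (ModuleCat.{u} A) i).map T.mor₂).hom
    ((homologyFunctor (ModuleCat.{u} A) 0).homologySequenceδ T i (i + 1) rfl).hom
    (fun x hx => (hex x).1 hx)

end Top

section LocalAlg

open IsLocalRing

variable [IsLocalRing A]

/-- the residue field as a module. -/
abbrev kk (A : Type u) [CommRing A] [IsLocalRing A] : Type u := A ⧸ maximalIdeal A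

lemma exists_functional (N : Type u) [AddCommGroup N] [Module A N] (n : N)
    (hn : n ∉ (maximalIdeal A) • (⊤ : Submodule A N)) :
    ∃ u : N →ₗ[A] kk A, u n ≠ 0 := by
  letI : Field (A ⧸ maximalIdeal A) := Ideal.Quotient.field _
  have hne : Submodule.Quotient.mk (p := ((maximalIdeal A) • ⊤ : Submodule A N)) n ≠ 0 := by
    rw [Ne, Submodule.Quotient.mk_eq_zero]
    exact hn
  obtain ⟨f, hf⟩ := Module.Projective.exists_dual_ne_zero (A ⧸ maximalIdeal A) hne
  refine ⟨{ toFun := fun x => f (Submodule.Quotient.mk x)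
            map_add' := fun x y => by rw [Submodule.Quotient.mk_add, map_add]
            map_smul' := fun a x => by
              rw [RingHom.id_apply, ← Module.Quotient.mk_smul_mk, map_smul]
              rfl }, hf⟩

lemma exists_notMem_smul_top (N : Type u) [AddCommGroup N] [Module A N] [Module.Finite A N]
    [Nontrivial N] : ∃ n : N, n ∉ (maximalIdeal A) • (⊤ : Submodule A N) := by
  by_contra hcon
  push Not at hcon
  have hle : (⊤ : Submodule A N) ≤ (maximalIdeal A) • (⊤ : Submodule A N) := fun n _ => hcon n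
  have hjac : maximalIdeal A ≤ Ideal.jacobson (⊥ : Ideal A) := by
    rw [IsLocalRing.jacobson_eq_maximalIdeal ⊥ bot_ne_top]
  have := Submodule.eq_bot_of_le_smul_of_le_jacobson_bot (maximalIdeal A) (⊤ : Submodule A N)
    Module.Finite.fg_top hle hjac
  have h1 : Subsingleton N :=
    (Submodule.subsingleton_iff A).1 (subsingleton_of_bot_eq_top this.symm)
  exact not_subsingleton N h1

lemma exists_functional_ne_zero (N : Type u) [AddCommGroup N] [Module A N] [Module.Finite A N]
    [Nontrivial N] : ∃ u : N →ₗ[A] kk A, u ≠ 0 := by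
  obtain ⟨n, hn⟩ := exists_notMem_smul_top (A := A) N
  obtain ⟨u, hu⟩ := exists_functional N n hn
  exact ⟨u, fun h => hu (by rw [h]; rfl)⟩

/-- a finite module whose `k`-dual is one-dimensional is cyclic. -/
lemma cyclic_of_dual_equiv (N : Type u) [AddCommGroup N] [Module A N] [Module.Finite A N]
    [Nontrivial N] (θ : (N →ₗ[A] kk A) ≃ₗ[A] kk A) :
    ∃ h : N, Submodule.span A {h} = ⊤ := by
  letI : Field (A ⧸ maximalIdeal A) := Ideal.Quotient.field _
  obtain ⟨h, hh⟩ := exists_notMem_smul_top (A := A) N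
  obtain ⟨u1, hu1⟩ := exists_functional N h hh
  refine ⟨h, ?_⟩
  by_contra hne
  haveI : Nontrivial (N ⧸ Submodule.span A {h}) :=
    Submodule.Quotient.nontrivial_iff.2 hne
  obtain ⟨u2', hu2'⟩ := exists_functional_ne_zero (A := A) (N ⧸ Submodule.span A {h})
  let u2 : N →ₗ[A] kk A := u2' ∘ₗ (Submodule.span A {h}).mkQ
  have hu2 : u2 ≠ 0 := by
    intro h0
    apply hu2'
    apply LinearMap.ext
    intro x
    obtain ⟨x, rfl⟩ := Submodule.mkQ_surjective _ x
    exact LinearMap.congr_fun h0 x
  have hu2h : u2 h = 0 := by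
    show u2' ((Submodule.span A {h}).mkQ h) = 0
    rw [Submodule.mkQ_apply, (Submodule.Quotient.mk_eq_zero _).2 (Submodule.mem_span_singleton_self h),
      map_zero]
  have hθ2 : θ u2 ≠ 0 := fun h0 => hu2 (θ.injective (h0.trans (map_zero θ).symm))
  obtain ⟨a, ha⟩ := Ideal.Quotient.mk_surjective (θ u1 * (θ u2)⁻¹)
  have h1 : a • θ u2 = θ u1 := by
    rw [Algebra.smul_def, Ideal.Quotient.algebraMap_eq, ha, mul_assoc, inv_mul_cancel₀ hθ2, mul_one]
  have h2 : a • u2 = u1 := θ.injective (by rw [map_smul, h1])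
  apply hu1
  rw [← h2, LinearMap.smul_apply, hu2h, smul_zero]

end LocalAlg

section Recognize

open IsLocalRing Groth.Agent.Lib.Helper21.Sib Groth.Agent.Lib.T2H4.LocKL
  Groth.Agent.Lib.T2H4.HomRing

variable [IsLocalRing A]

/-- the residue field placed in degree `t`. -/
noncomputable abbrev kS (A : Type u) [CommRing A] [IsLocalRing A] (t : ℤ) : Dual.D A :=
  (singleFunctor (ModuleCat.{u} A) t).obj (ModuleCat.of A (kk A))

/-- `A` placed in degree `t`. -/
noncomputable abbrev aS (A : Type u) [CommRing A] (t : ℤ) : Dual.D A :=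
  (singleFunctor (ModuleCat.{u} A) t).obj (ModuleCat.of A A)

lemma exists_hom_ne_zero (Y : Dual.D A) (t : ℤ) [Y.IsLE t]
    (hfin : Module.Finite A ((homologyFunctor (ModuleCat.{u} A) t).obj Y))
    (hnz : ¬ IsZero ((homologyFunctor (ModuleCat.{u} A) t).obj Y)) :
    ∃ φ : Y ⟶ kS A t, φ ≠ 0 := by
  obtain ⟨M', ⟨e1⟩, h2⟩ := exists_homEquiv_single Y t
  obtain ⟨ψ⟩ := h2 (ModuleCat.of A (kk A))
  haveI : Module.Finite A M' := Module.Finite.equiv e1.symm
  haveI : Nontrivial M' := by
    by_contra hc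
    rw [not_nontrivial_iff_subsingleton] at hc
    haveI := hc
    haveI : Subsingleton ((homologyFunctor (ModuleCat.{u} A) t).obj Y) :=
      e1.symm.toEquiv.subsingleton
    exact hnz (ModuleCat.isZero_of_subsingleton _)
  obtain ⟨u, hu⟩ := exists_functional_ne_zero (A := A) M'
  exact ⟨ψ u, fun h => hu (ψ.injective (h.trans (map_zero ψ).symm))⟩

/-- a bounded object with finite cohomology and no maps to any `k[-j]` is zero. -/
lemma isZero_of_forall_hom_eq_zero (C : Dual.D A) (c d : ℤ)
    (hC : ∀ i : ℤ, (i < c ∨ d < i) → IsZero ((homologyFunctor (ModuleCat.{u} A) i).obj C))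
    (hfin : ∀ i : ℤ, Module.Finite A ((homologyFunctor (ModuleCat.{u} A) i).obj C))
    (h : ∀ (j : ℤ) (φ : C ⟶ kS A j), φ = 0) : IsZero C := by
  by_contra hnz
  obtain ⟨t, ht, hnt⟩ := exists_top C c d hC hnz
  haveI := ht
  obtain ⟨φ, hφ⟩ := exists_hom_ne_zero C t (hfin t) hnt
  exact hφ (h t φ)

/-- maps `A[-t] → k[-t]` form a simple module. -/
lemma exists_smul_eq_of_ne_zero (t : ℤ) (β₀ β : aS A t ⟶ kS A t) (hβ₀ : β₀ ≠ 0) :
    ∃ a : A, β = a • β₀ := by
  letI : Field (A ⧸ maximalIdeal A) := Ideal.Quotient.field _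
  obtain ⟨b₀, rfl⟩ := (singleFunctor (ModuleCat.{u} A) t).map_surjective β₀
  obtain ⟨b, rfl⟩ := (singleFunctor (ModuleCat.{u} A) t).map_surjective β
  have hb₀ : b₀.hom (1 : A) ≠ 0 := by
    intro h0
    apply hβ₀
    have : b₀ = 0 := by
      ext
      exact h0
    rw [this, Functor.map_zero]
  obtain ⟨a, ha⟩ := Ideal.Quotient.mk_surjective
    ((b.hom (1 : A) : kk A) * ((b₀.hom (1 : A) : kk A))⁻¹)
  refine ⟨a, ?_⟩
  rw [← singleFunctor_map_smul]
  congr 1
  ext
  show (b.hom (1 : A) : kk A) = a • (b₀.hom (1 : A) : kk A)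
  rw [Algebra.smul_def, Ideal.Quotient.algebraMap_eq, ha, mul_assoc, inv_mul_cancel₀ hb₀, mul_one]

variable [IsNoetherianRing A]

/-- **Recognition of `A[-t]`**: a bounded object with finite cohomology whose maps to the shifts of
the residue field are those of `A[-t]` is isomorphic to `A[-t]`. -/
theorem nonempty_iso_aS (X : Dual.D A) (c d : ℤ)
    (hX : ∀ i : ℤ, (i < c ∨ d < i) → IsZero ((homologyFunctor (ModuleCat.{u} A) i).obj X))
    (hfin : ∀ i : ℤ, Module.Finite A ((homologyFunctor (ModuleCat.{u} A) i).obj X)) (t₀ : ℤ)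
    (hvan : ∀ j : ℤ, j ≠ t₀ → Subsingleton (X ⟶ kS A j))
    (hone : Nonempty ((X ⟶ kS A t₀) ≃ₗ[A] kk A)) :
    Nonempty (aS A t₀ ≅ X) := by
  obtain ⟨θ₀⟩ := hone
  haveI : Nontrivial (kk A) := Ideal.Quotient.nontrivial_iff.2 (maximalIdeal.isMaximal A).ne_top
  have hnz : ¬ IsZero X := by
    intro hz
    haveI : Subsingleton (X ⟶ kS A t₀) := ⟨fun f g => hz.eq_of_src f g⟩
    exact not_subsingleton (kk A) θ₀.symm.toEquiv.subsingleton
  obtain ⟨t, ht, hnt⟩ := exists_top X c d hX hnz
  haveI := ht
  obtain ⟨φ, hφ⟩ := exists_hom_ne_zero X t (hfin t) hnt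
  have htt : t = t₀ := by
    by_contra h
    haveI := hvan t h
    exact hφ (Subsingleton.elim _ _)
  subst htt
  obtain ⟨M', ⟨e1⟩, h2⟩ := exists_homEquiv_single X t
  obtain ⟨ψ⟩ := h2 (ModuleCat.of A (kk A))
  haveI : Module.Finite A M' := by
    haveI := hfin t
    exact Module.Finite.equiv e1.symm
  haveI : Nontrivial M' := by
    by_contra hc
    rw [not_nontrivial_iff_subsingleton] at hc
    haveI := hc
    haveI : Subsingleton ((homologyFunctor (ModuleCat.{u} A) t).obj X) :=
      e1.symm.toEquiv.subsingleton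
    exact hnt (ModuleCat.isZero_of_subsingleton _)
  obtain ⟨h', hh'⟩ := cyclic_of_dual_equiv (A := A) M' (ψ ≪≫ₗ θ₀)
  have hgen : Submodule.span A {e1 h'} = ⊤ := by
    have h1 := congrArg (Submodule.map e1.toLinearMap) hh'
    rw [Submodule.map_span, Set.image_singleton, Submodule.map_top,
      LinearMap.range_eq_top.2 e1.surjective] at h1
    exact h1
  obtain ⟨X₀, r, hr⟩ := exists_single_hom_epi X t
  have hsurj : Function.Surjective ((homologyFunctor (ModuleCat.{u} A) t).map r).hom :=
    (ModuleCat.epi_iff_surjective _).1 hr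
  let ι := singleFunctorCompHomologyFunctorIso (ModuleCat.{u} A) t
  obtain ⟨y, hy⟩ := hsurj (e1 h')
  let x₀ : X₀ := (ι.hom.app X₀).hom y
  let f₀ : ModuleCat.of A A ⟶ X₀ := ModuleCat.ofHom (LinearMap.toSpanSingleton A X₀ x₀)
  let g : aS A t ⟶ X := (singleFunctor (ModuleCat.{u} A) t).map f₀ ≫ r
  have hg : Epi ((homologyFunctor (ModuleCat.{u} A) t).map g) := by
    rw [ModuleCat.epi_iff_surjective]
    have hmem : e1 h' ∈ LinearMap.range ((homologyFunctor (ModuleCat.{u} A) t).map g).hom := by
      refine ⟨(ι.inv.app (ModuleCat.of A A)).hom (1 : A), ?_⟩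
      have hnat := ι.inv.naturality f₀
      have h3 : ((homologyFunctor (ModuleCat.{u} A) t).map
          ((singleFunctor (ModuleCat.{u} A) t).map f₀)).hom
            ((ι.inv.app (ModuleCat.of A A)).hom (1 : A)) = (ι.inv.app X₀).hom (f₀.hom (1 : A)) :=
        (congrArg (fun m => m.hom (1 : A)) hnat).symm
      have h4 : f₀.hom (1 : A) = x₀ := one_smul A x₀
      have h5 : (ι.inv.app X₀).hom x₀ = y := by
        show (ι.inv.app X₀).hom ((ι.hom.app X₀).hom y) = y
        have := congrArg (fun m => m.hom y) (ι.hom_inv_id_app X₀)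
        exact this
      show ((homologyFunctor (ModuleCat.{u} A) t).map
        ((singleFunctor (ModuleCat.{u} A) t).map f₀ ≫ r)).hom _ = _
      rw [Functor.map_comp, ModuleCat.hom_comp, LinearMap.comp_apply, h3, h4, h5, hy]
    have h6 : LinearMap.range ((homologyFunctor (ModuleCat.{u} A) t).map g).hom = ⊤ := by
      apply top_le_iff.1
      rw [← hgen, Submodule.span_le, Set.singleton_subset_iff]
      exact hmem
    exact LinearMap.range_eq_top.1 h6
  obtain ⟨C', w, p', hT'⟩ := distinguished_cocone_triangle₁ g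
  -- amplitude of `C'`
  haveI hC1 : (C'⟦(1 : ℤ)⟧).IsLE (t - 1) := by
    haveI : (Triangle.mk g p' (-w⟦(1 : ℤ)⟧')).obj₁.IsLE t := (inferInstance : (aS A t).IsLE t)
    haveI : (Triangle.mk g p' (-w⟦(1 : ℤ)⟧')).obj₂.IsLE t := (inferInstance : X.IsLE t)
    exact isLE_obj₃_of_epi (Triangle.mk g p' (-w⟦(1 : ℤ)⟧')) (rot_of_distTriang _ hT') t hg
  haveI hC'le : C'.IsLE t := by
    have e : C' ≅ (C'⟦(1 : ℤ)⟧)⟦(-1 : ℤ)⟧ := (shiftShiftNeg C' (1 : ℤ)).symm
    haveI : ((C'⟦(1 : ℤ)⟧)⟦(-1 : ℤ)⟧).IsLE t := tt.isLE_shift _ (t - 1) (-1) t (by lia)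
    exact tt.isLE_of_iso e.symm t
  -- `g*` is surjective on maps to `k[-t]`
  have hgφ : g ≫ φ ≠ 0 := by
    intro h0
    obtain ⟨φ', hφ'⟩ := Triangle.yoneda_exact₃ _ hT' φ h0
    have hz : φ' = 0 := tt.zero_of_isLE_of_isGE φ' (t - 1) t (by lia) hC1 inferInstance
    rw [hz, comp_zero] at hφ'
    exact hφ hφ'
  have hsurjg : ∀ β : aS A t ⟶ kS A t, ∃ α : X ⟶ kS A t, β = g ≫ α := by
    intro β
    obtain ⟨a, ha⟩ := exists_smul_eq_of_ne_zero t (g ≫ φ) β hgφ
    exact ⟨a • φ, by rw [ha, Linear.comp_smul]⟩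
  -- all maps from `C'` to `k[-j]` vanish
  have hC'hom : ∀ (j : ℤ) (ξ : C' ⟶ kS A j), ξ = 0 := by
    intro j ξ
    by_cases hj : j = t + 1
    · subst hj
      exact tt.zero_of_isLE_of_isGE ξ t (t + 1) (by lia) inferInstance inferInstance
    · have hT'' := inv_rot_of_distTriang _ hT'
      have h0 : (Triangle.mk w g p').invRotate.mor₁ ≫ ξ = 0 := by
        have hs : Subsingleton (X⟦(-1 : ℤ)⟧ ⟶ kS A j) := by
          apply subsingleton_shift_of_hom X (kS A j) 1
          have e : (kS A j)⟦(1 : ℤ)⟧ ≅ kS A (j - 1) :=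
            ((singleFunctors (ModuleCat.{u} A)).shiftIso 1 (j - 1) j (by lia)).app _
          haveI := hvan (j - 1) (by lia)
          exact ⟨fun f f' => by
            rw [← cancel_mono e.hom]
            exact Subsingleton.elim _ _⟩
        exact hs.elim _ _
      obtain ⟨β, hβ⟩ := Triangle.yoneda_exact₂ _ hT'' ξ h0
      by_cases hjt : j = t
      · subst hjt
        obtain ⟨α, hα⟩ := hsurjg β
        have h12 : w ≫ g = 0 := comp_distTriang_mor_zero₁₂ _ hT'
        rw [hβ, hα]
        show w ≫ g ≫ α = 0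
        rw [← Category.assoc, h12, zero_comp]
      · have hs : Subsingleton (aS A t ⟶ kS A j) := by
          rw [subsingleton_hom_single_iff]
          have hz : IsZero ((homologyFunctor (ModuleCat.{u} A) t).obj (kS A j)) := by
            rcases lt_or_gt_of_ne hjt with h | h
            · exact isZero_of_isLE _ j t h
            · exact isZero_of_isGE _ j t h
          exact ModuleCat.subsingleton_of_isZero hz
        rw [hβ, hs.elim β 0]
        exact comp_zero
  -- cohomology of `C'`
  have hex : ∀ i : ℤ, ∀ x : (homologyFunctor (ModuleCat.{u} A) i).obj C',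
      ((homologyFunctor (ModuleCat.{u} A) i).map w).hom x = 0 →
      ∃ y, ((homologyFunctor (ModuleCat.{u} A) 0).homologySequenceδ
        (Triangle.mk w g p') (i - 1) i (by lia)).hom y = x := by
    intro i x hx
    have hex := HomologySequence.exact₁ _ hT' (i - 1) i (by lia)
    rw [ShortComplex.ShortExact.moduleCat_exact_iff_function_exact] at hex
    exact (hex x).1 hx
  have hfinC' : ∀ i : ℤ, Module.Finite A ((homologyFunctor (ModuleCat.{u} A) i).obj C') := by
    intro i
    haveI : Module.Finite A ((homologyFunctor (ModuleCat.{u} A) i).obj (aS A t)) := by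
      by_cases hit : i = t
      · subst hit
        haveI : Module.Finite A ((𝟭 (ModuleCat.{u} A)).obj (ModuleCat.of A A)) :=
          (inferInstance : Module.Finite A A)
        exact Module.Finite.equiv (ι.app (ModuleCat.of A A)).symm.toLinearEquiv
      · haveI : Subsingleton ((homologyFunctor (ModuleCat.{u} A) i).obj (aS A t)) := by
          apply ModuleCat.subsingleton_of_isZero
          rcases lt_or_gt_of_ne hit with h | h
          · exact isZero_of_isGE _ t i h
          · exact isZero_of_isLE _ t i h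
        infer_instance
    haveI : Module.Finite A
        (((homologyFunctor (ModuleCat.{u} A) 0).shift (i - 1)).obj (Triangle.mk w g p').obj₃) :=
      hfin (i - 1)
    exact finite_of_exact
      ((homologyFunctor (ModuleCat.{u} A) 0).homologySequenceδ (Triangle.mk w g p') (i - 1) i
        (by lia)).hom
      ((homologyFunctor (ModuleCat.{u} A) i).map w).hom (hex i)
  have hbC' : ∀ i : ℤ, (i < min c t ∨ max d t + 1 < i) →
      IsZero ((homologyFunctor (ModuleCat.{u} A) i).obj C') := by
    intro i hi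
    haveI : Subsingleton
        (((homologyFunctor (ModuleCat.{u} A) 0).shift (i - 1)).obj (Triangle.mk w g p').obj₃) :=
      ModuleCat.subsingleton_of_isZero (hX (i - 1) (by
        rcases hi with h | h
        · left; have := min_le_left c t; lia
        · right; have := le_max_left d t; lia))
    haveI : Subsingleton ((homologyFunctor (ModuleCat.{u} A) i).obj (aS A t)) := by
      apply ModuleCat.subsingleton_of_isZero
      rcases hi with h | h
      · exact isZero_of_isGE _ t i (by have := min_le_right c t; lia)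
      · exact isZero_of_isLE _ t i (by have := le_max_right d t; lia)
    haveI : Subsingleton ((homologyFunctor (ModuleCat.{u} A) i).obj C') :=
      ⟨fun x x' => by
        obtain ⟨y, hy⟩ := hex i x (Subsingleton.elim _ _)
        obtain ⟨y', hy'⟩ := hex i x' (Subsingleton.elim _ _)
        rw [← hy, ← hy', Subsingleton.elim y y']⟩
    exact ModuleCat.isZero_of_subsingleton _
  have hC'0 : IsZero C' :=
    isZero_of_forall_hom_eq_zero C' (min c t) (max d t + 1) hbC' hfinC' hC'hom
  haveI : IsIso g := (Triangle.isZero₁_iff_isIso₂ _ hT').1 hC'0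
  exact ⟨asIso g⟩

end Recognize

end Groth.Agent.Lib.T2H4.Uniq
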