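import Groth.Agent.Lib.T2H4FlatHom5
import Groth.Agent.Lib.T2H4Uniq3

/-!
# The `B`-linear flat base change isomorphism for `Hom` (helper4)
-/

set_option autoImplicit false
set_option linter.style.haveILetI false
set_option backward.isDefEq.respectTransparency.types false
universe u
open CategoryTheory CategoryTheory.Limits TensorProduct
attribute [local instance] HasDerivedCategory.standard

namespace Groth.Agent.Lib.T2H4.FibGor

open DerivedCategory Pretriangulated Groth.Agent.Lib.T2H4.LocKL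
  Groth.Agent.Lib.T2H4.TorIndep Groth.Agent.Lib.T2H4.FlatHom

section LbcHom

variable {A : Type u} [CommRing A] (B : Type u) [CommRing B] [Algebra A B]
  [DRing.HasLBaseChange (algebraMap A B)]

/-- the comparison map `B ⊗ Hom(X, N) → Hom(X_B, N_B)`, `b ⊗ f ↦ b • f_B`. -/
noncomputable def lbcHom (X N : Dual.D A) (z : B ⊗[A] (X ⟶ N)) :
    (DRing.LBaseChange (algebraMap A B)).obj X ⟶ (DRing.LBaseChange (algebraMap A B)).obj N :=
  ((lbcAdj (algebraMap A B)).homEquiv X _).symm (ΘN B (ηB B N) X z)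

lemma lbcHom_tmul (X N : Dual.D A) (b : B) (f : X ⟶ N) :
    lbcHom B X N (b ⊗ₜ f) = b • (DRing.LBaseChange (algebraMap A B)).map f := by
  unfold lbcHom
  rw [ΘN_tmul, Adjunction.homEquiv_counit, Functor.map_comp, Functor.map_comp, Category.assoc,
    Category.assoc, Adjunction.counit_naturality, Adjunction.left_triangle_components_assoc,
    Linear.comp_smul, Category.comp_id]

lemma lbcHom_add (X N : Dual.D A) (z z' : B ⊗[A] (X ⟶ N)) :
    lbcHom B X N (z + z') = lbcHom B X N z + lbcHom B X N z' := by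
  haveI : (DRing.LBaseChange (algebraMap A B)).Additive :=
    (lbcAdj (algebraMap A B)).left_adjoint_additive
  unfold lbcHom
  rw [map_add, Adjunction.homEquiv_counit, Adjunction.homEquiv_counit,
    Adjunction.homEquiv_counit, Functor.map_add, Preadditive.add_comp]

lemma lbcHom_smul (X N : Dual.D A) (b : B) (z : B ⊗[A] (X ⟶ N)) :
    lbcHom B X N (b • z) = b • lbcHom B X N z := by
  induction z using TensorProduct.induction_on with
  | zero =>
    rw [smul_zero]
    have h0 : lbcHom B X N 0 = 0 := by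
      have := lbcHom_add B X N 0 0
      rw [add_zero] at this
      exact left_eq_add.1 this
    rw [h0, smul_zero]
  | tmul b' f =>
    rw [TensorProduct.smul_tmul', lbcHom_tmul, lbcHom_tmul, smul_eq_mul, mul_smul]
  | add x y hx hy => rw [smul_add, lbcHom_add, lbcHom_add, hx, hy, smul_add]

lemma lbcHom_bijective (X N : Dual.D A) (h : Function.Bijective (ΘN B (ηB B N) X)) :
    Function.Bijective (lbcHom B X N) :=
  ((lbcAdj (algebraMap A B)).homEquiv X _).symm.bijective.comp h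

end LbcHom

section HomSelf

open Groth.Agent.Lib.T2H4.Uniq Groth.Agent.Lib.T2H4.Bidual

variable {A : Type u} [CommRing A]

/-- `Hom_{D(A)}(A[0], L[n]) ≃ H^n(L)`, linearly. -/
noncomputable def homSelfEquiv (L : DRing.Cx A) (n : ℤ) :
    (Dual.inD A A ⟶ (Q.obj L)⟦n⟧) ≃ₗ[A] Dual.HD A (Q.obj L) n :=
  Linear.homCongr A ((singleFunctorIsoCompQ (ModuleCat.{u} A) 0).app (ModuleCat.of A A))
      (Iso.refl _) ≪≫ₗ
    (homologyHomCxEquiv' (sgl 0 (ModuleCat.of A A)) L n).symm ≪≫ₗ
    ((HomologicalComplex.homologyFunctor (ModuleCat.{u} A) (ComplexShape.up ℤ) n).mapIso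
      (asIso (tMap L 0) ≪≫ (shiftFunctorZero (DRing.Cx A) ℤ).app L)).toLinearEquiv ≪≫ₗ
    (homologyQEquiv L n).symm

lemma nonempty_homSelfEquiv (Y : Dual.D A) (n : ℤ) :
    Nonempty ((Dual.inD A A ⟶ Y⟦n⟧) ≃ₗ[A] Dual.HD A Y n) := by
  obtain ⟨L, ⟨e⟩⟩ : ∃ L : DRing.Cx A, Nonempty (Q.obj L ≅ Y) := ⟨_, ⟨Q.objObjPreimageIso Y⟩⟩
  exact ⟨Linear.homCongr A (Iso.refl _) ((shiftFunctor (Dual.D A) n).mapIso e.symm) ≪≫ₗ
    homSelfEquiv L n ≪≫ₗ
    ((homologyFunctor (ModuleCat.{u} A) n).mapIso e).toLinearEquiv⟩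

end HomSelf

end Groth.Agent.Lib.T2H4.FibGor
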