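import Groth.Agent.Lib.T2H4LD5
import Groth.Agent.Lib.Helper29LCAcyclic
import Groth.Agent.S0316
import Groth.Agent.S11681

set_option autoImplicit false
set_option linter.style.haveILetI false
set_option backward.isDefEq.respectTransparency.types false
universe u v
open CategoryTheory CategoryTheory.Limits
attribute [local instance] HasDerivedCategory.standard

namespace Groth.Agent.Lib.T2H4.LD

open CochainComplex HomComplex DerivedCategory HomologicalComplex
  Groth.Agent.Lib.T2H4.Bidual Groth.Agent.Lib.T2H4.RGam Groth.Agent.Lib.T2H4.GNoeth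
  Groth.Agent.Lib.T2H4.DComp

variable {A : Type u} [CommRing A]

section C1

lemma gam_eq (I : Ideal A) (M : Type u) [AddCommGroup M] [Module A M] :
    GrLC.gam I M = DRing.torsionSub I M := rfl

variable (I : Ideal A) (J : DRing.Cx A)

lemma gammaCx_d_apply (q r : ℤ) (z : DRing.torsionSub I (J.X q)) :
    ((((gammaCx I).obj J).d q r).hom z : DRing.torsionSub I (J.X r)).1 = (J.d q r).hom z.1 := rfl

/-- the cocycle submodule `Γ_I(J^q) ∩ ker d`. -/
abbrev cocycStd (q r : ℤ) : Submodule A (J.X q) :=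
  DRing.torsionSub I (J.X q) ⊓ LinearMap.ker (J.d q r).hom

/-- `H^q(Γ_I J)` in standard form. -/
noncomputable def HqEquivStd (p q r : ℤ) (hpq : p + 1 = q) (hqr : q + 1 = r) :
    Hq I J q ≃ₗ[A] (cocycStd I J q r ⧸
      ((DRing.torsionSub I (J.X p)).map (J.d p q).hom).comap (cocycStd I J q r).subtype) := by
  obtain rfl : p = q - 1 := by lia
  obtain rfl : r = q + 1 := by lia
  let S := scI ((gammaCx I).obj J) q
  let Ξ : LinearMap.ker S.g.hom ≃ₗ[A] cocycStd I J q (q + 1) :=
    { toFun := fun z => ⟨(z.1 : DRing.torsionSub I (J.X q)).1,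
        ⟨(z.1 : DRing.torsionSub I (J.X q)).2, by
          have h := congrArg Subtype.val z.2
          exact h⟩⟩
      map_add' := fun _ _ => rfl
      map_smul' := fun _ _ => rfl
      invFun := fun w => ⟨(⟨w.1, w.2.1⟩ : DRing.torsionSub I (J.X q)), by
        rw [LinearMap.mem_ker]
        apply Subtype.ext
        exact w.2.2⟩
      left_inv := fun _ => rfl
      right_inv := fun _ => rfl }
  refine Submodule.Quotient.equiv _ _ Ξ ?_
  ext w
  rw [Submodule.mem_map, Submodule.mem_comap, Submodule.mem_map]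
  constructor
  · rintro ⟨z, ⟨y, rfl⟩, rfl⟩
    exact ⟨(y : DRing.torsionSub I (J.X (q - 1))).1, (y : DRing.torsionSub I (J.X (q - 1))).2, rfl⟩
  · rintro ⟨y₀, hy₀, hy⟩
    refine ⟨S.moduleCatToCycles (⟨y₀, hy₀⟩ : DRing.torsionSub I (J.X (q - 1))), ⟨_, rfl⟩, ?_⟩
    apply Subtype.ext
    exact hy

end C1

section Bridge

open Groth.Agent.Lib.Helper29LCAcyclic Groth.Agent.Lib.Helper8.LC

variable (I : Ideal A) (M : Type u) [AddCommGroup M] [Module A M]

/-- the chosen injective resolution of `M` as a `ℤ`-indexed complex. -/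
noncomputable abbrev resCx : DRing.Cx A :=
  (injectiveResolution (ModuleCat.of A M)).cochainComplex

/-- the augmentation. -/
noncomputable abbrev resι :
    (CochainComplex.singleFunctor (ModuleCat.{u} A) 0).obj (ModuleCat.of A M) ⟶ resCx (A := A) M :=
  (injectiveResolution (ModuleCat.of A M)).ι'

lemma resCx_exactAt (k : ℤ) (hk : k ≠ 0) : (resCx (A := A) M).ExactAt k :=
  (quasiIsoAt_iff_exactAt (resι (A := A) M) k
    (exactAt_single_obj (ComplexShape.up ℤ) (0 : ℤ) (ModuleCat.of A M) k hk)).1 inferInstance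

lemma resCx_ker_eq_range (p q r : ℤ) (hpq : p + 1 = q) (hqr : q + 1 = r) (hq : q ≠ 0) :
    LinearMap.ker ((resCx (A := A) M).d q r).hom = LinearMap.range ((resCx (A := A) M).d p q).hom := by
  have h1 := ((resCx (A := A) M).exactAt_iff' p q r (by simp; lia) (by simp; lia)).1
    (resCx_exactAt M q hq)
  exact h1.moduleCat_range_eq_ker.symm

/-- the augmentation `M → J^0`. -/
noncomputable def resε : M →ₗ[A] (resCx (A := A) M).X 0 :=
  ((resι (A := A) M).f 0).hom ∘ₗ
    (HomologicalComplex.singleObjXSelf (ComplexShape.up ℤ) (0 : ℤ) (ModuleCat.of A M)).inv.hom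

lemma resCx_subsingleton_neg (k : ℤ) (hk : k < 0) : Subsingleton ((resCx (A := A) M).X k) :=
  ModuleCat.subsingleton_of_isZero ((resCx (A := A) M).isZero_of_isStrictlyGE 0 k hk)

lemma res_elements :
    (∀ x₂ : (resCx (A := A) M).X 0, ((resCx (A := A) M).d 0 1).hom x₂ = 0 →
      ∃ m : M, resε (A := A) M m = x₂) ∧
    (∀ m : M, resε (A := A) M m = 0 → m = 0) := by
  have hq : QuasiIsoAt (resι (A := A) M) 0 := inferInstance
  rw [quasiIsoAt_iff' (resι (A := A) M) (-1) 0 1 (by simp) (by simp)] at hq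
  obtain ⟨h1, h2⟩ := elements_of_quasiIso _ hq
  haveI := resCx_subsingleton_neg (A := A) M (-1) (by lia)
  let e0 := HomologicalComplex.singleObjXSelf (ComplexShape.up ℤ) (0 : ℤ) (ModuleCat.of A M)
  constructor
  · intro x₂ hx₂
    obtain ⟨x₁, -, y, hy⟩ := h1 x₂ hx₂
    refine ⟨e0.hom.hom x₁, ?_⟩
    have hy0 : y = 0 := Subsingleton.elim (α := (resCx (A := A) M).X (-1)) _ _
    rw [hy0, map_zero, add_zero] at hy
    show ((resι (A := A) M).f 0).hom (e0.inv.hom (e0.hom.hom x₁)) = x₂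
    have h3 : e0.inv.hom (e0.hom.hom x₁) = x₁ := by
      rw [← ModuleCat.comp_apply, e0.hom_inv_id]
      rfl
    rw [h3]
    exact hy
  · intro m hm
    obtain ⟨z, hz⟩ := h2 (e0.inv.hom m) (by
      have h0 : ((CochainComplex.singleFunctor (ModuleCat.{u} A) 0).obj (ModuleCat.of A M)).d 0 1
          = 0 := by simp
      show (((CochainComplex.singleFunctor (ModuleCat.{u} A) 0).obj
        (ModuleCat.of A M)).d 0 1).hom (e0.inv.hom m) = 0
      rw [h0]
      rfl) ⟨0, by rw [map_zero]; exact hm⟩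
    have hz0 : e0.inv.hom m = 0 := by
      rw [← hz]
      haveI : Subsingleton (((CochainComplex.singleFunctor (ModuleCat.{u} A) 0).obj
          (ModuleCat.of A M)).X (-1)) :=
        ModuleCat.subsingleton_of_isZero
          (isZero_single_obj_X (ComplexShape.up ℤ) (0 : ℤ) (ModuleCat.of A M) (-1) (by lia))
      have hz0' : z = 0 := Subsingleton.elim (α := ((CochainComplex.singleFunctor (ModuleCat.{u} A) 0).obj
          (ModuleCat.of A M)).X (-1)) _ _
      rw [hz0']
      exact map_zero _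
    have h3 : e0.hom.hom (e0.inv.hom m) = m := by
      rw [← ModuleCat.comp_apply, e0.inv_hom_id]
      rfl
    rw [← h3, hz0, map_zero]

lemma resε_injective : Function.Injective (resε (A := A) M) := by
  rw [injective_iff_map_eq_zero]
  exact (res_elements (A := A) M).2

lemma res_ker_eq_range :
    LinearMap.ker ((resCx (A := A) M).d 0 1).hom = LinearMap.range (resε (A := A) M) := by
  ext x
  rw [LinearMap.mem_ker, LinearMap.mem_range]
  constructor
  · intro hx
    exact (res_elements (A := A) M).1 x hx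
  · rintro ⟨m, rfl⟩
    have h1 := (resι (A := A) M).comm 0 1
    have h0 : ((CochainComplex.singleFunctor (ModuleCat.{u} A) 0).obj (ModuleCat.of A M)).d 0 1
        = 0 := by simp
    rw [h0, zero_comp] at h1
    have h2 := congrArg (fun t => t.hom ((HomologicalComplex.singleObjXSelf (ComplexShape.up ℤ)
      (0 : ℤ) (ModuleCat.of A M)).inv.hom m)) h1
    exact h2

/-- **N7**: Mathlib's local cohomology of a module agrees with `HDI` of the module placed in
degree zero. -/
theorem nonempty_H_equiv_HDI (i : ℕ) :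
    Nonempty (LocCoh.H I i M ≃ₗ[A] Dual2.HDI A I (Dual.inD A M) i) := by
  haveI : IsIso (Q.map (resι (A := A) M)) := by
    rw [isIso_Q_map_iff_quasiIso]
    infer_instance
  let e0 : (Q : _ ⥤ Dual.D A).obj ((CochainComplex.singleFunctor (ModuleCat.{u} A) 0).obj
      (ModuleCat.of A M)) ≅ Q.obj (resCx (A := A) M) := asIso (Q.map (resι (A := A) M))
  let e : Dual.inD A M ≅ Q.obj (resCx (A := A) M) := e0
  let s1 := HDIEquivHq I (Dual.inD A M) (resCx (A := A) M) e (i : ℤ)
  let Xn : ℕ → Type u := fun n => (resCx (A := A) M).X (n : ℤ)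
  let dn : ∀ n, Xn n →ₗ[A] Xn (n + 1) :=
    fun n => ((resCx (A := A) M).d (n : ℤ) ((n + 1 : ℕ) : ℤ)).hom
  have hs : ∀ n, LinearMap.ker (dn (n + 1)) = LinearMap.range (dn n) := fun n =>
    resCx_ker_eq_range M (n : ℤ) ((n + 1 : ℕ) : ℤ) ((n + 1 + 1 : ℕ) : ℤ) (by push_cast; ring)
      (by push_cast; ring) (by positivity)
  have hacyc : ∀ (n j : ℕ) (x : LC I (j + 1) (Xn n)), x = 0 := fun n j x => by
    haveI : Injective (ModuleCat.of A ((resCx (A := A) M).X (n : ℤ))) :=
      (inferInstance : Injective ((resCx (A := A) M).X (n : ℤ)))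
    exact H_succ_eq_zero_of_injective I (ModuleCat.of A ((resCx (A := A) M).X (n : ℤ))) j x
  have hε : Function.Injective (resε (A := A) M) := resε_injective M
  have h0 : LinearMap.ker (dn 0) = LinearMap.range (resε (A := A) M) := res_ker_eq_range M
  cases i with
  | zero =>
    obtain ⟨e1⟩ := nonempty_zero I Xn dn (resε (A := A) M) hε h0
    let s2 := HqEquivStd I (resCx (A := A) M) (-1) ((0 : ℕ) : ℤ) ((0 + 1 : ℕ) : ℤ) (by simp)
      (by simp)
    have hbot : (DRing.torsionSub I ((resCx (A := A) M).X (-1))).map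
        ((resCx (A := A) M).d (-1) ((0 : ℕ) : ℤ)).hom = ⊥ := by
      haveI := resCx_subsingleton_neg (A := A) M (-1) (by lia)
      rw [eq_bot_iff]
      rintro _ ⟨y, -, rfl⟩
      rw [Subsingleton.elim y 0, map_zero]
      exact Submodule.zero_mem _
    let s3 := Submodule.quotEquivOfEq _
      ((⊥ : Submodule A (Xn 0)).comap (cocyc I Xn dn 0).subtype)
      (congrArg (fun t => Submodule.comap (cocycStd I (resCx (A := A) M) ((0 : ℕ) : ℤ)
        ((0 + 1 : ℕ) : ℤ)).subtype t) hbot)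
    exact ⟨(s1 ≪≫ₗ s2 ≪≫ₗ s3 ≪≫ₗ e1).symm⟩
  | succ n =>
    obtain ⟨e1⟩ := nonempty_succ I Xn dn (resε (A := A) M) hs hacyc hε h0 n
    let s2 := HqEquivStd I (resCx (A := A) M) (n : ℤ) ((n + 1 : ℕ) : ℤ) ((n + 1 + 1 : ℕ) : ℤ)
      (by push_cast; ring) (by push_cast; ring)
    exact ⟨(s1 ≪≫ₗ s2 ≪≫ₗ e1).symm⟩

end Bridge

section Modules

open IsLocalRing Groth.Agent.Lib.T2H4.LocalDual

variable [IsLocalRing A] [IsNoetherianRing A] (ω : Dual.D A) (hω : Dual.IsDualizing A ω)
  (hn : Dual.IsNormalized A ω) (E : Type u) [AddCommGroup E] [Module A E]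
  (f : ResidueField A →ₗ[A] E) (hf : InjHull.IsInjectiveHull f)
  (M : Type u) [AddCommGroup M] [Module A M] [Module.Finite A M] (i : ℕ)

include hω hn hf in
/-- **S11172**: local duality for finite modules. -/
theorem local_duality_module :
    Nonempty (LocCoh.H (maximalIdeal A) i M ≃ₗ[A]
      ((Dual.inD A M ⟶ ω⟦(-(i : ℤ))⟧) →ₗ[A] E)) := by
  obtain ⟨e1⟩ := nonempty_H_equiv_HDI (maximalIdeal A) M i
  obtain ⟨e2⟩ := local_duality_HDI ω hω hn E f hf (Dual.inD A M) (finite_HD_inD M) 0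
    (fun j hj => ModuleCat.subsingleton_of_isZero
      ((Dual.inD A M).isZero_of_isGE 0 j hj)) (i : ℤ)
  exact ⟨e1 ≪≫ₗ e2⟩

omit [IsLocalRing A] [IsNoetherianRing A] in
/-- a finite module has a model in the universe of the ring. -/
lemma exists_small_model (X : Type v) [AddCommGroup X] [Module A X] [Module.Finite A X] :
    ∃ (X' : Type u) (_ : AddCommGroup X') (_ : Module A X') (_ : Module.Finite A X'),
      Nonempty (X ≃ₗ[A] X') := by
  obtain ⟨n, g, hg⟩ := Module.Finite.exists_fin' A X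
  exact ⟨(Fin n → A) ⧸ LinearMap.ker g, inferInstance, inferInstance, inferInstance,
    ⟨(g.quotKerEquivOfSurjective hg).symm⟩⟩

include hω hn hf in
/-- **S1713**. -/
theorem annihilator_ext_eq :
    Module.annihilator A (Dual.inD A M ⟶ ω⟦(-(i : ℤ))⟧) =
      Module.annihilator A (LocCoh.H (maximalIdeal A) i M) := by
  obtain ⟨e1⟩ := local_duality_module ω hω hn E f hf M i
  haveI := finite_hom_inD ω hω M (-(i : ℤ))
  obtain ⟨X', _, _, _, ⟨e2⟩⟩ := exists_small_model (A := A) (Dual.inD A M ⟶ ω⟦(-(i : ℤ))⟧)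
  rw [e2.annihilator_eq, ((Groth.Agent.S11681.result A E f hf).1 X').2,
    (e1 ≪≫ₗ LinearEquiv.congrLeft E A e2).annihilator_eq]

include hω hn hf in
/-- **S0374**. -/
theorem local_duality_complete [IsAdicComplete (maximalIdeal A) A] :
    Nonempty ((Dual.inD A M ⟶ ω⟦(-(i : ℤ))⟧) ≃ₗ[A]
      (LocCoh.H (maximalIdeal A) i M →ₗ[A] E)) := by
  obtain ⟨e1⟩ := local_duality_module ω hω hn E f hf M i
  haveI := finite_hom_inD ω hω M (-(i : ℤ))
  obtain ⟨X', _, _, _, ⟨e2⟩⟩ := exists_small_model (A := A) (Dual.inD A M ⟶ ω⟦(-(i : ℤ))⟧)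
  have hbij := (Groth.Agent.S0316.result A E f hf X').2
  let e3 : X' ≃ₗ[A] ((X' →ₗ[A] E) →ₗ[A] E) := LinearEquiv.ofBijective _ hbij
  exact ⟨e2 ≪≫ₗ e3 ≪≫ₗ
    LinearEquiv.congrLeft E A (e1 ≪≫ₗ LinearEquiv.congrLeft E A e2).symm⟩

end Modules

end Groth.Agent.Lib.T2H4.LD
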