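import Groth.Agent.Lib.T2H4DimFun7

set_option autoImplicit false
set_option linter.style.haveILetI false
set_option backward.isDefEq.respectTransparency.types false
universe u
open CategoryTheory CategoryTheory.Limits
attribute [local instance] HasDerivedCategory.standard

namespace Groth.Agent.Lib.T2H4.DualShift

open DerivedCategory Pretriangulated

section Shift

variable {A : Type u} [CommRing A]

/-- `Hom(X, Y[n][i]) ≃ Hom(X, Y[n+i])`. -/
noncomputable def homShiftShiftEquiv (X Y : Dual.D A) (n i m : ℤ) (h : n + i = m) :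
    (X ⟶ (Y⟦n⟧)⟦i⟧) ≃ₗ[A] (X ⟶ Y⟦m⟧) :=
  (Linear.homCongr A (Iso.refl X) ((shiftFunctorAdd' (Dual.D A) n i m h).app Y).symm)

lemma subsingleton_hom_shift_shift_iff (X Y : Dual.D A) (n i m : ℤ) (h : n + i = m) :
    Subsingleton (X ⟶ (Y⟦n⟧)⟦i⟧) ↔ Subsingleton (X ⟶ Y⟦m⟧) :=
  (homShiftShiftEquiv X Y n i m h).toEquiv.subsingleton_congr

lemma nontrivial_hom_shift_shift_iff (X Y : Dual.D A) (n i m : ℤ) (h : n + i = m) :
    Nontrivial (X ⟶ (Y⟦n⟧)⟦i⟧) ↔ Nontrivial (X ⟶ Y⟦m⟧) :=
  (homShiftShiftEquiv X Y n i m h).toEquiv.nontrivial_congr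

/-- a shift of a dualizing complex is dualizing. -/
theorem isDualizing_shift (ω : Dual.D A) (hω : Dual.IsDualizing A ω) (n : ℤ) :
    Dual.IsDualizing A (ω⟦n⟧) := by
  haveI := hω.isNoetherianRing
  obtain ⟨a, b, hab⟩ := hω.finite_injective_dimension
  refine ⟨hω.isNoetherianRing, ⟨a - n, b - n, fun M _ _ i hi => ?_⟩, fun i => ?_, ⟨?_, ?_⟩,
    fun i hi => ?_⟩
  · rw [subsingleton_hom_shift_shift_iff _ ω n i (n + i) rfl]
    exact hab M (n + i) (by lia)
  · let e := ((homologyFunctor (ModuleCat.{u} A) 0).shiftIso n i (n + i) rfl).app ω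
    have h1 := hω.finite_cohomology (n + i)
    exact @Module.Finite.of_surjective A _ _ _ _ A _ _ _ _ _ h1 e.toLinearEquiv.symm.toLinearMap
      e.toLinearEquiv.symm.surjective
  · intro x y hxy
    apply hω.toEnd_bijective.1
    apply (shiftFunctor (Dual.D A) n).map_injective
    simp only at hxy ⊢
    rw [Functor.map_smul, Functor.map_smul, CategoryTheory.Functor.map_id]
    exact hxy
  · intro f
    obtain ⟨g, rfl⟩ := (shiftFunctor (Dual.D A) n).map_surjective f
    obtain ⟨x, hx⟩ := hω.toEnd_bijective.2 g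
    refine ⟨x, ?_⟩
    simp only at hx ⊢
    rw [← hx, Functor.map_smul, CategoryTheory.Functor.map_id]
  · have h0 := hω.ext_self_subsingleton i hi
    refine ⟨fun f g => ?_⟩
    rw [← cancel_mono (shiftComm ω n i).hom]
    obtain ⟨f', hf'⟩ := (shiftFunctor (Dual.D A) n).map_surjective (f ≫ (shiftComm ω n i).hom)
    obtain ⟨g', hg'⟩ := (shiftFunctor (Dual.D A) n).map_surjective (g ≫ (shiftComm ω n i).hom)
    rw [← hf', ← hg', h0.elim f' g']

end Shift

end Groth.Agent.Lib.T2H4.DualShift
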