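import Groth.Agent.Lib.T2H4DimFun1

set_option autoImplicit false
set_option linter.style.haveILetI false
set_option backward.isDefEq.respectTransparency.types false
universe u
open CategoryTheory CategoryTheory.Limits
attribute [local instance] HasDerivedCategory.standard

namespace Groth.Agent.Lib.T2H4.DimFun

open DerivedCategory Pretriangulated Groth.Agent.S14388 Groth.Agent.Lib.T2H4.LocalDual
  Groth.Agent.Lib.T2H4.DComp Groth.Agent.Lib.T2H4.TorIndep Groth.Agent.Lib.Helper1.Extend
  Groth.Agent.Lib.Helper1.LDer Groth.Agent.Lib.T2H4.DualField Groth.Agent.Lib.T2H4.LocKL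

section Fact1

variable {A : Type u} [CommRing A] [IsNoetherianRing A]

lemma isZero_HD_of_isDualizing (ω : Dual.D A) (hω : Dual.IsDualizing A ω) :
    ∃ a b : ℤ, ∀ i : ℤ, (i < a ∨ b < i) →
      IsZero ((homologyFunctor (ModuleCat.{u} A) i).obj ω) := by
  obtain ⟨a, b, hab⟩ := hω.finite_injective_dimension
  refine ⟨a, b, fun i hi => ?_⟩
  have := (Groth.Agent.Lib.T2H4.HomRing.subsingleton_hom_inD_self_iff ω i).1 (hab A i hi)
  exact ModuleCat.isZero_of_subsingleton _

/-- `B/J ≅ B ⊗ A/(J ∩ A)` in the derived category. -/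
lemma nonempty_inD_quot_iso (S : Submonoid A) (B : Type u) [CommRing B] [Algebra A B]
    [IsLocalization S B] [DRing.HasLBaseChange (algebraMap A B)] (J : Ideal B) :
    Nonempty (Dual.inD B (B ⧸ J) ≅ (DRing.LBaseChange (algebraMap A B)).obj
      (Dual.inD A (A ⧸ J.comap (algebraMap A B)))) := by
  haveI : Module.Flat A B := IsLocalization.flat B S
  have hJ : (J.comap (algebraMap A B)).map (algebraMap A B) = J := IsLocalization.map_under S B J
  let e1 : (B ⧸ J) ≃ₗ[B] (B ⧸ (J.comap (algebraMap A B)).map (algebraMap A B)) :=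
    Submodule.quotEquivOfEq _ _ hJ.symm
  let e2 : (B ⧸ (J.comap (algebraMap A B)).map (algebraMap A B)) ≃ₗ[B]
      TensorProduct A B (A ⧸ J.comap (algebraMap A B)) :=
    (Algebra.TensorProduct.quotIdealMapEquivTensorQuot B (J.comap (algebraMap A B))).toLinearEquiv
  obtain ⟨e3⟩ := nonempty_lbc_inD_iso A B (A ⧸ J.comap (algebraMap A B))
  exact ⟨(singleFunctor (ModuleCat.{u} B) 0).mapIso (e1 ≪≫ₗ e2).toModuleIso ≪≫ e3.symm⟩

variable (ω : Dual.D A) (hω : Dual.IsDualizing A ω)

include hω in
/-- vanishing at `p` of `Ext^i(A/p, ω)` in terms of the localization at `p`. -/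
lemma van_quot_iff (p : PrimeSpectrum A)
    [DRing.HasLBaseChange (algebraMap A (Localization.AtPrime p.asIdeal))] (i : ℤ) :
    Van ω p (A ⧸ p.asIdeal) i ↔
      Subsingleton (Dual.inD (Localization.AtPrime p.asIdeal)
        (Localization.AtPrime p.asIdeal ⧸ IsLocalRing.maximalIdeal (Localization.AtPrime p.asIdeal)) ⟶
        ((DRing.LBaseChange (algebraMap A (Localization.AtPrime p.asIdeal))).obj ω)⟦i⟧) := by
  obtain ⟨a, b, hab⟩ := isZero_HD_of_isDualizing ω hω
  haveI : ω.IsGE a := (DerivedCategory.isGE_iff ω a).2 (fun i hi => hab i (Or.inl hi))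
  have hcomap : (IsLocalRing.maximalIdeal (Localization.AtPrime p.asIdeal)).comap
      (algebraMap A (Localization.AtPrime p.asIdeal)) = p.asIdeal :=
    IsLocalization.AtPrime.comap_maximalIdeal (Localization.AtPrime p.asIdeal) p.asIdeal
  obtain ⟨e⟩ := nonempty_inD_quot_iso p.asIdeal.primeCompl (Localization.AtPrime p.asIdeal)
    (IsLocalRing.maximalIdeal (Localization.AtPrime p.asIdeal))
  have e0 : (A ⧸ (IsLocalRing.maximalIdeal (Localization.AtPrime p.asIdeal)).comap
      (algebraMap A (Localization.AtPrime p.asIdeal))) ≃ₗ[A] (A ⧸ p.asIdeal) :=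
    Submodule.quotEquivOfEq _ _ hcomap
  have h1 := subsingleton_hom_lbc_iff p.asIdeal.primeCompl (Localization.AtPrime p.asIdeal)
    (Dual.inD A (A ⧸ (IsLocalRing.maximalIdeal (Localization.AtPrime p.asIdeal)).comap
      (algebraMap A (Localization.AtPrime p.asIdeal)))) ω a 0 0 (isZero_HD_inD _)
      (finite_HD_inD _) i
  have h2 : Subsingleton (Dual.inD (Localization.AtPrime p.asIdeal)
        (Localization.AtPrime p.asIdeal ⧸ IsLocalRing.maximalIdeal (Localization.AtPrime p.asIdeal)) ⟶
        ((DRing.LBaseChange (algebraMap A (Localization.AtPrime p.asIdeal))).obj ω)⟦i⟧) ↔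
      Subsingleton ((DRing.LBaseChange (algebraMap A (Localization.AtPrime p.asIdeal))).obj
        (Dual.inD A (A ⧸ (IsLocalRing.maximalIdeal (Localization.AtPrime p.asIdeal)).comap
          (algebraMap A (Localization.AtPrime p.asIdeal)))) ⟶
        ((DRing.LBaseChange (algebraMap A (Localization.AtPrime p.asIdeal))).obj ω)⟦i⟧) :=
    ⟨fun h => ⟨fun f g => by
      rw [← cancel_epi e.hom]
      exact h.elim _ _⟩, fun h => ⟨fun f g => by
      rw [← cancel_epi e.inv]
      exact h.elim _ _⟩⟩
  rw [h2, h1]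
  constructor
  · intro h f
    obtain ⟨s, hs, h0⟩ := van_of_equiv p e0 i h f
    exact ⟨s, hs, h0⟩
  · intro h
    apply van_of_equiv p e0.symm i
    intro f
    obtain ⟨s, hs, h0⟩ := h f
    exact ⟨s, hs, h0⟩

include hω in
/-- **the index of a prime**: there is exactly one degree in which `Ext^i(A/p, ω)` is supported
at `p`. -/
theorem exists_index (p : PrimeSpectrum A) :
    ∃ n : ℤ, ∀ i : ℤ, Van ω p (A ⧸ p.asIdeal) i ↔ i ≠ n := by
  haveI := Groth.Agent.Lib.T2H4.LDerExist.hasLBaseChange
    (algebraMap A (Localization.AtPrime p.asIdeal))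
  have hT := isDualizing_lbc p.asIdeal.primeCompl (Localization.AtPrime p.asIdeal) ω hω
  haveI : IsNoetherianRing (Localization.AtPrime p.asIdeal) :=
    IsLocalization.isNoetherianRing p.asIdeal.primeCompl _ inferInstance
  obtain ⟨n, hvan, ⟨e⟩⟩ := ext_residueField_single_degree _ hT
    (IsLocalRing.maximalIdeal (Localization.AtPrime p.asIdeal))
  refine ⟨n, fun i => ?_⟩
  rw [van_quot_iff ω hω p i]
  constructor
  · intro h hi
    subst hi
    haveI : Nontrivial (Localization.AtPrime p.asIdeal ⧸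
        IsLocalRing.maximalIdeal (Localization.AtPrime p.asIdeal)) :=
      Ideal.Quotient.nontrivial_iff.2 (IsLocalRing.maximalIdeal.isMaximal _).ne_top
    exact not_subsingleton _ e.symm.toEquiv.subsingleton
  · exact hvan i

end Fact1

end Groth.Agent.Lib.T2H4.DimFun
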