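import Groth.Agent.Lib.T2H4LocGlob3
import Groth.Agent.Lib.T2H4DimFun2

set_option autoImplicit false
set_option linter.style.haveILetI false
set_option backward.isDefEq.respectTransparency.types false
universe u v
open CategoryTheory CategoryTheory.Limits
attribute [local instance] HasDerivedCategory.standard

namespace Groth.Agent.Lib.T2H4.LocGlob

open DerivedCategory Pretriangulated Groth.Agent.S14388 Groth.Agent.Lib.T2H4.LocalDual
  Groth.Agent.Lib.T2H4.DComp Groth.Agent.Lib.T2H4.TorIndep Groth.Agent.Lib.T2H4.LocKL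
  Groth.Agent.Lib.T2H4.DimFun Groth.Agent.Lib.Helper1.Extend Groth.Agent.Lib.Helper1.LDer

section HDLin

variable {A : Type u} [CommRing A] (S : Submonoid A) (B : Type u) [CommRing B] [Algebra A B]
  [IsLocalization S B] [DRing.HasLBaseChange (algebraMap A B)]

include S in
/-- the cohomology of the localization is the localization of the cohomology, `B`-linearly. -/
lemma nonempty_HD_lbc_linearEquiv (K : Dual.D A) (i : ℤ) :
    Nonempty (Dual.HD B ((DRing.LBaseChange (algebraMap A B)).obj K) i ≃ₗ[B]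
      TensorProduct A B (Dual.HD A K i)) := by
  haveI : Module.Flat A B := IsLocalization.flat B S
  obtain ⟨e⟩ := nonempty_lbc_iso_extD A B K
  have e2 : (homologyFunctor (ModuleCat.{u} B) i).obj ((DRing.LBaseChange (algebraMap A B)).obj K) ≅
      (ext A B).obj ((homologyFunctor (ModuleCat.{u} A) i).obj K) :=
    (homologyFunctor (ModuleCat.{u} B) i).mapIso e ≪≫ homologyMapDIso (ext A B) K i
  have e3 := extEquiv (A := A) (B := B) (Dual.HD A K i)
  exact ⟨e2.toLinearEquiv ≪≫ₗ e3⟩

omit [IsLocalization S B] [DRing.HasLBaseChange (algebraMap A B)] in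
lemma finite_localizedModule_HD [DRing.HasLBaseChange (algebraMap A (Localization S))]
    (K : Dual.D A) (i : ℤ)
    (h : Module.Finite (Localization S)
      (Dual.HD (Localization S) ((DRing.LBaseChange (algebraMap A (Localization S))).obj K) i)) :
    Module.Finite (Localization S) (LocalizedModule S (Dual.HD A K i)) := by
  obtain ⟨e⟩ := nonempty_HD_lbc_linearEquiv S (Localization S) K i
  let e2 : TensorProduct A (Localization S) (Dual.HD A K i) ≃ₗ[Localization S]
      LocalizedModule S (Dual.HD A K i) :=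
    (IsLocalizedModule.isBaseChange S (Localization S)
      (LocalizedModule.mkLinearMap S (Dual.HD A K i))).equiv
  exact Module.Finite.equiv (e ≪≫ₗ e2)

end HDLin

end Groth.Agent.Lib.T2H4.LocGlob

namespace Groth.Agent.Lib.T2H4.LocGlob

open DerivedCategory Pretriangulated Groth.Agent.S14388 Groth.Agent.Lib.T2H4.LocalDual
  Groth.Agent.Lib.T2H4.DComp Groth.Agent.Lib.T2H4.TorIndep Groth.Agent.Lib.T2H4.LocKL
  Groth.Agent.Lib.T2H4.DimFun Groth.Agent.Lib.Helper1.Extend Groth.Agent.Lib.Helper1.LDer

section Cover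

variable {A : Type u} [CommRing A]

lemma exists_notMem_of_span_eq_top {n : ℕ} (f : Fin n → A) (hf : Ideal.span (Set.range f) = ⊤)
    (m : Ideal A) [hm : m.IsMaximal] : ∃ i, f i ∉ m := by
  by_contra hcon
  push Not at hcon
  have h1 : Ideal.span (Set.range f) ≤ m := Ideal.span_le.2 (by
    rintro _ ⟨i, rfl⟩
    exact hcon i)
  rw [hf] at h1
  exact hm.ne_top (top_le_iff.1 h1)

lemma notMem_of_mem_powers (m : Ideal A) [hm : m.IsMaximal] (x : A) (hx : x ∉ m) (s : A)
    (hs : s ∈ Submonoid.powers x) : s ∉ m := by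
  obtain ⟨k, rfl⟩ := hs
  exact fun hmem => hx (hm.isPrime.mem_of_pow_mem k hmem)

lemma eq_zero_of_cover {n : ℕ} (f : Fin n → A) (hf : Ideal.span (Set.range f) = ⊤)
    {E : Type v} [AddCommGroup E] [Module A E] (x : E)
    (hx : ∀ i, ∃ s ∈ Submonoid.powers (f i), s • x = 0) : x = 0 := by
  apply eq_zero_of_forall_maximal (A := A)
  intro m hm
  obtain ⟨i, hi⟩ := exists_notMem_of_span_eq_top f hf m
  obtain ⟨s, hs, h0⟩ := hx i
  exact ⟨s, notMem_of_mem_powers m (f i) hi s hs, h0⟩

lemma neg_sum_abs_le {n : ℕ} (a : Fin n → ℤ) (i : Fin n) : -∑ j, |a j| ≤ a i := by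
  have h1 : |a i| ≤ ∑ j, |a j| :=
    Finset.single_le_sum (f := fun j => |a j|) (fun j _ => abs_nonneg _) (Finset.mem_univ i)
  have h2 := neg_abs_le (a i)
  lia

lemma le_sum_abs {n : ℕ} (a : Fin n → ℤ) (i : Fin n) : a i ≤ ∑ j, |a j| := by
  have h1 : |a i| ≤ ∑ j, |a j| :=
    Finset.single_le_sum (f := fun j => |a j|) (fun j _ => abs_nonneg _) (Finset.mem_univ i)
  have h2 := le_abs_self (a i)
  lia

variable [IsNoetherianRing A]

/-- **S1787**. -/
theorem isDualizing_of_away_cover (n : ℕ) (f : Fin n → A) (hf : Ideal.span (Set.range f) = ⊤)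
    (ω : Dual.D A)
    (h : ∀ i : Fin n, ∃ _ : DRing.HasLBaseChange (algebraMap A (Localization.Away (f i))),
      Dual.IsDualizing (Localization.Away (f i))
        ((DRing.LBaseChange (algebraMap A (Localization.Away (f i)))).obj ω)) :
    Dual.IsDualizing A ω := by
  choose hlbc hdual using h
  -- bounds on the cohomology
  have hb : ∀ i, ∃ a b : ℤ, ∀ j : ℤ, (j < a ∨ b < j) →
      IsZero ((homologyFunctor (ModuleCat.{u} (Localization.Away (f i))) j).obj
        ((DRing.LBaseChange (algebraMap A (Localization.Away (f i)))).obj ω)) := fun i =>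
    haveI : IsNoetherianRing (Localization.Away (f i)) :=
      IsLocalization.isNoetherianRing (Submonoid.powers (f i)) _ inferInstance
    isZero_HD_of_isDualizing _ (hdual i)
  choose a b hab using hb
  have hbdd : ∀ j : ℤ, (j < -∑ i, |a i| ∨ ∑ i, |b i| < j) → Subsingleton (Dual.HD A ω j) := by
    intro j hj
    suffices hx : ∀ x : Dual.HD A ω j, x = 0 from ⟨fun x y => (hx x).trans (hx y).symm⟩
    intro x
    apply eq_zero_of_cover f hf
    intro i
    have hs : Subsingleton (LocalizedModule (Submonoid.powers (f i)) (Dual.HD A ω j)) := by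
      haveI := hlbc i
      obtain ⟨e⟩ := nonempty_HD_lbc_equiv (Submonoid.powers (f i)) (Localization.Away (f i)) ω j
      haveI : Subsingleton (Dual.HD (Localization.Away (f i))
          ((DRing.LBaseChange (algebraMap A (Localization.Away (f i)))).obj ω) j) :=
        ModuleCat.subsingleton_of_isZero (hab i j (by
          have h1 := neg_sum_abs_le a i
          have h2 := le_sum_abs b i
          lia))
      exact e.symm.subsingleton
    exact LocalizedModule.subsingleton_iff.1 hs x
  have hfin : ∀ j : ℤ, Module.Finite A (Dual.HD A ω j) := by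
    intro j
    apply Module.Finite.of_localizationSpan (Set.range f) hf
    rintro ⟨_, i, rfl⟩
    haveI := hlbc i
    exact finite_localizedModule_HD (Submonoid.powers (f i)) ω j ((hdual i).finite_cohomology j)
  have hK : ∀ j : ℤ, (j < -∑ i, |a i| ∨ ∑ i, |b i| < j) →
      IsZero ((homologyFunctor (ModuleCat.{u} A) j).obj ω) := fun j hj => by
    haveI := hbdd j hj
    exact ModuleCat.isZero_of_subsingleton _
  haveI : ω.IsGE (-∑ i, |a i|) :=
    (DerivedCategory.isGE_iff ω _).2 (fun i hi => hK i (Or.inl hi))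
  -- injective dimension
  have hinjb : ∀ i, ∃ a' b' : ℤ, ∀ (M : Type u) [AddCommGroup M]
      [Module (Localization.Away (f i)) M] (l : ℤ), (l < a' ∨ b' < l) →
      Subsingleton (Dual.inD (Localization.Away (f i)) M ⟶
        ((DRing.LBaseChange (algebraMap A (Localization.Away (f i)))).obj ω)⟦l⟧) := fun i =>
    (hdual i).finite_injective_dimension
  choose a' b' hab' using hinjb
  have hinj3 : ∀ (I : Ideal A) (l : ℤ), (l < -∑ i, |a' i| ∨ ∑ i, |b' i| < l) →
      Subsingleton (DRing.ExtD A (Dual.inD A (A ⧸ I)) ω l) := by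
    intro I l hl
    suffices hg : ∀ g : Dual.inD A (A ⧸ I) ⟶ ω⟦l⟧, g = 0 from
      ⟨fun x y => (hg x).trans (hg y).symm⟩
    intro g
    apply eq_zero_of_cover f hf
    intro i
    haveI := hlbc i
    haveI : Module.Flat A (Localization.Away (f i)) :=
      IsLocalization.flat _ (Submonoid.powers (f i))
    obtain ⟨e1⟩ := nonempty_lbc_inD_iso A (Localization.Away (f i)) (A ⧸ I)
    have hs : Subsingleton ((DRing.LBaseChange (algebraMap A (Localization.Away (f i)))).obj
        (Dual.inD A (A ⧸ I)) ⟶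
        ((DRing.LBaseChange (algebraMap A (Localization.Away (f i)))).obj ω)⟦l⟧) :=
      ⟨fun x y => by
        rw [← cancel_epi e1.inv]
        exact (hab' i _ l (by
          have h1 := neg_sum_abs_le a' i
          have h2 := le_sum_abs b' i
          lia)).elim _ _⟩
    exact (subsingleton_hom_lbc_iff (Submonoid.powers (f i)) (Localization.Away (f i))
      (Dual.inD A (A ⧸ I)) ω (-∑ i, |a i|) 0 0 (isZero_HD_inD _) (finite_HD_inD _) l).1 hs g
  have h32 : (∀ (I : Ideal A) (i : ℤ), (i < -∑ i, |a' i| ∨ ∑ i, |b' i| < i) →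
        Subsingleton (DRing.ExtD A (Dual.inD A (A ⧸ I)) ω i)) ↔
      ∀ (N : Type u) [AddCommGroup N] [Module A N] (i : ℤ),
        (i < -∑ i, |a' i| ∨ ∑ i, |b' i| < i) →
        Subsingleton (DRing.ExtD A (Dual.inD A N) ω i) :=
    (Groth.Agent.S6965.result A ω (-∑ i, |a' i|) (∑ i, |b' i|)).out 2 1
  refine isDualizing_of_forall_maximal_exists ω ⟨_, _, hbdd⟩ hfin ⟨_, _, h32.1 hinj3⟩
    (fun m hm => ?_)
  obtain ⟨i, hi⟩ := exists_notMem_of_span_eq_top f hf m
  exact ⟨Submonoid.powers (f i), Localization.Away (f i), inferInstance, inferInstance,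
    inferInstance, hlbc i, notMem_of_mem_powers m (f i) hi, hdual i⟩

end Cover

end Groth.Agent.Lib.T2H4.LocGlob
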