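import Groth.Agent.Lib.T2H4Uniq3
import Groth.Agent.Lib.T2H4LocGlob4
import Groth.Agent.Lib.T2H4LDerExist
import Groth.Agent.Lib.T2H4DualShift
import Groth.Agent.S11179
import Mathlib.RingTheory.Spectrum.Prime.FreeLocus

/-!
# Openness of the Gorenstein locus in the presence of a dualizing complex (helper4)
-/

set_option autoImplicit false
set_option linter.style.haveILetI false
set_option backward.isDefEq.respectTransparency.types false
universe u
open CategoryTheory CategoryTheory.Limits
attribute [local instance] HasDerivedCategory.standard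

namespace Groth.Agent.Lib.T2H4.GorOpen

open DerivedCategory Groth.Agent.Lib.T2H4.Uniq Groth.Agent.Lib.T2H4.LocGlob
  Groth.Agent.Lib.T2H4.LocKL

variable {A : Type u} [CommRing A]

section Single

/-- `B[n]` is `B` placed in degree `-n`. -/
noncomputable def shiftSingleIso (B : Type u) [CommRing B] (M : ModuleCat.{u} B) (n m : ℤ)
    (h : n + m = 0) :
    ((DerivedCategory.singleFunctor (ModuleCat.{u} B) 0).obj M)⟦n⟧ ≅
      (DerivedCategory.singleFunctor (ModuleCat.{u} B) m).obj M :=
  ((DerivedCategory.singleFunctors (ModuleCat.{u} B)).shiftIso n m 0 h).app M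

lemma isZero_HD_single (B : Type u) [CommRing B] (M : ModuleCat.{u} B) (m i : ℤ) (hi : i ≠ m) :
    IsZero ((homologyFunctor (ModuleCat.{u} B) i).obj
      ((DerivedCategory.singleFunctor (ModuleCat.{u} B) m).obj M)) := by
  rcases lt_or_gt_of_ne hi with h | h
  · exact isZero_of_isGE _ m i h
  · exact isZero_of_isLE _ m i h

end Single

section Local

variable [IsNoetherianRing A]

/-- the local criterion: `A_q` is Gorenstein iff the dualizing complex is a shift of `A_q` at `q`. -/
theorem gorenstein_iff (ω : Dual.D A) (hω : Dual.IsDualizing A ω) (q : PrimeSpectrum A) :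
    LocCoh.IsGorensteinLocalRing (Localization.AtPrime q.asIdeal) ↔
      ∃ n : ℤ, (∀ i : ℤ, i ≠ n → q ∉ Module.support A (Dual.HD A ω i)) ∧
        q ∈ Module.freeLocus A (Dual.HD A ω n) ∧ Module.rankAtStalk (Dual.HD A ω n) q = 1 := by
  let B := Localization.AtPrime q.asIdeal
  let S := q.asIdeal.primeCompl
  haveI : DRing.HasLBaseChange (algebraMap A B) := Groth.Agent.Lib.T2H4.LDerExist.hasLBaseChange _
  haveI : IsNoetherianRing B := IsLocalization.isNoetherianRing S B inferInstance
  let ωq : Dual.D B := (DRing.LBaseChange (algebraMap A B)).obj ω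
  have hωq : Dual.IsDualizing B ωq := isDualizing_lbc S B ω hω
  have he : ∀ i : ℤ, Nonempty (Dual.HD B ωq i ≃ₗ[B] LocalizedModule S (Dual.HD A ω i)) := by
    intro i
    obtain ⟨e⟩ := nonempty_HD_lbc_linearEquiv S B ω i
    exact ⟨e ≪≫ₗ (IsLocalizedModule.isBaseChange S B
      (LocalizedModule.mkLinearMap S (Dual.HD A ω i))).equiv⟩
  constructor
  · intro hG
    have h1 : Dual.IsDualizing B (Dual.inD B B) := (Groth.Agent.S11179.result B).1 hG
    obtain ⟨n, ⟨φ⟩⟩ := exists_iso_shift (A := B) (Dual.inD B B) ωq h1 hωq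
    let ψ : ωq ≅ (DerivedCategory.singleFunctor (ModuleCat.{u} B) (-n)).obj (ModuleCat.of B B) :=
      φ ≪≫ shiftSingleIso B (ModuleCat.of B B) n (-n) (by lia)
    refine ⟨-n, fun i hi => ?_, ?_⟩
    · rw [Module.notMem_support_iff]
      obtain ⟨e⟩ := he i
      have hz : IsZero ((homologyFunctor (ModuleCat.{u} B) i).obj ωq) :=
        (isZero_HD_single B (ModuleCat.of B B) (-n) i hi).of_iso
          ((homologyFunctor (ModuleCat.{u} B) i).mapIso ψ)
      haveI : Subsingleton (Dual.HD B ωq i) := ModuleCat.subsingleton_of_isZero hz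
      exact e.symm.toEquiv.subsingleton
    · obtain ⟨e⟩ := he (-n)
      let e2 : Dual.HD B ωq (-n) ≃ₗ[B] B :=
        ((homologyFunctor (ModuleCat.{u} B) (-n)).mapIso ψ ≪≫
          (singleFunctorCompHomologyFunctorIso (ModuleCat.{u} B) (-n)).app
            (ModuleCat.of B B)).toLinearEquiv
      let e3 : B ≃ₗ[B] LocalizedModule S (Dual.HD A ω (-n)) := e2.symm ≪≫ₗ e
      constructor
      · rw [Module.mem_freeLocus]
        exact Module.Free.of_equiv e3
      · unfold Module.rankAtStalk
        rw [← e3.finrank_eq, Module.finrank_self]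
  · rintro ⟨n, hvan, hfree, hrank⟩
    rw [Module.mem_freeLocus] at hfree
    haveI := hfree
    haveI : Module.Finite A (Dual.HD A ω n) := hω.finite_cohomology n
    haveI : Module.Finite B (LocalizedModule S (Dual.HD A ω n)) :=
      Module.Finite.of_isLocalizedModule S (LocalizedModule.mkLinearMap S (Dual.HD A ω n))
    have e3 : LocalizedModule S (Dual.HD A ω n) ≃ₗ[B] B :=
      LinearEquiv.ofFinrankEq _ _ (by
        rw [Module.finrank_self]
        exact hrank)
    obtain ⟨e⟩ := he n
    have hz : ∀ i : ℤ, i ≠ n → IsZero ((homologyFunctor (ModuleCat.{u} B) i).obj ωq) := by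
      intro i hi
      obtain ⟨e'⟩ := he i
      haveI : Subsingleton (LocalizedModule S (Dual.HD A ω i)) :=
        Module.notMem_support_iff.1 (hvan i hi)
      haveI : Subsingleton (Dual.HD B ωq i) := e'.toEquiv.subsingleton
      exact ModuleCat.isZero_of_subsingleton _
    obtain ⟨ψ⟩ := nonempty_iso_single_of_homology ωq n (ModuleCat.of B B) hz (e ≪≫ₗ e3)
    have h2 : Dual.IsDualizing B ((Dual.inD B B)⟦-n⟧) :=
      Groth.Agent.Lib.T2H4.DualFinite.isDualizing_of_iso
        (ψ ≪≫ (shiftSingleIso B (ModuleCat.of B B) (-n) n (by lia)).symm) hωq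
    have h3 : Dual.IsDualizing B (Dual.inD B B) :=
      Groth.Agent.Lib.T2H4.DualFinite.isDualizing_of_iso
        ((shiftFunctorCompIsoId (Dual.D B) (-n) n (by lia)).app (Dual.inD B B))
        (Groth.Agent.Lib.T2H4.DualShift.isDualizing_shift _ h2 n)
    exact (Groth.Agent.S11179.result B).2 h3

end Local

section Open

variable [IsNoetherianRing A]

lemma isOpen_rankOne (M : Type u) [AddCommGroup M] [Module A M] [Module.Finite A M] :
    IsOpen {q : PrimeSpectrum A | q ∈ Module.freeLocus A M ∧ Module.rankAtStalk M q = 1} := by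
  haveI : Module.FinitePresentation A M := Module.finitePresentation_of_finite A M
  have h1 : IsOpen (Module.freeLocus A M) := Module.isOpen_freeLocus
  have h2 := Module.isLocallyConstant_rankAtStalk_freeLocus (R := A) (M := M)
  have h3 : IsOpen {x : Module.freeLocus A M | Module.rankAtStalk M x.1 = 1} := h2.isOpen_fiber 1
  have h4 := h1.isOpenMap_subtype_val _ h3
  convert h4 using 1
  ext q
  constructor
  · rintro ⟨hq, hr⟩
    exact ⟨⟨q, hq⟩, hr, rfl⟩
  · rintro ⟨⟨q', hq'⟩, hr, rfl⟩
    exact ⟨hq', hr⟩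

/-- **S0373**: the Gorenstein locus is open if there is a dualizing complex. -/
theorem isOpen_gorensteinLocus (ω : Dual.D A) (hω : Dual.IsDualizing A ω) :
    IsOpen {p : PrimeSpectrum A |
      LocCoh.IsGorensteinLocalRing (Localization.AtPrime p.asIdeal)} := by
  obtain ⟨a, b, hab⟩ := hω.finite_injective_dimension
  have hK : ∀ i : ℤ, (i < a ∨ b < i) → Subsingleton (Dual.HD A ω i) := fun i hi =>
    (Groth.Agent.Lib.T2H4.HomRing.subsingleton_hom_inD_self_iff ω i).1 (hab A i hi)
  have hset : {p : PrimeSpectrum A |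
      LocCoh.IsGorensteinLocalRing (Localization.AtPrime p.asIdeal)} =
      ⋃ n : ℤ, ((⋂ i ∈ (Finset.Icc a b).filter (fun i => i ≠ n),
          (Module.support A (Dual.HD A ω i))ᶜ) ∩
        {q | q ∈ Module.freeLocus A (Dual.HD A ω n) ∧
          Module.rankAtStalk (Dual.HD A ω n) q = 1}) := by
    ext q
    rw [Set.mem_ofPred_eq, gorenstein_iff ω hω q, Set.mem_iUnion]
    refine exists_congr (fun n => ?_)
    rw [Set.mem_inter_iff, Set.mem_iInter₂]
    refine and_congr ?_ Iff.rfl
    constructor
    · intro h i hi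
      rw [Finset.mem_filter] at hi
      exact h i hi.2
    · intro h i hi
      by_cases hmem : i ∈ Finset.Icc a b
      · exact h i (Finset.mem_filter.2 ⟨hmem, hi⟩)
      · haveI : Subsingleton (Dual.HD A ω i) := hK i (by
          rw [Finset.mem_Icc] at hmem
          lia)
        rw [Module.support_eq_empty]
        exact Set.notMem_empty q
  rw [hset]
  refine isOpen_iUnion (fun n => IsOpen.inter ?_ ?_)
  · refine isOpen_biInter_finset (fun i _ => ?_)
    haveI : Module.Finite A (Dual.HD A ω i) := hω.finite_cohomology i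
    exact (Module.isClosed_support (R := A) (M := Dual.HD A ω i)).isOpen_compl
  · haveI : Module.Finite A (Dual.HD A ω n) := hω.finite_cohomology n
    exact isOpen_rankOne (Dual.HD A ω n)

end Open

end Groth.Agent.Lib.T2H4.GorOpen
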