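import Groth.Agent.Lib.T2H4DualShift9
import Groth.Agent.Lib.T2H4GorOpen

set_option autoImplicit false
set_option linter.style.haveILetI false
set_option backward.isDefEq.respectTransparency.types false
universe u
open CategoryTheory CategoryTheory.Limits
attribute [local instance] HasDerivedCategory.standard

namespace Groth.Agent.Lib.T2H4.CanonS2

open DerivedCategory Pretriangulated Groth.Agent.Lib.T2H4.DimFun Groth.Agent.Lib.T2H4.LocKL
  Groth.Agent.Lib.T2H4.LocalDual Groth.Agent.Lib.Helper28 Groth.Agent.Lib.T2H4.DualShift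
  Groth.Agent.S14388

section Generic

variable {C : Type*} [Category C] [Preadditive C] [HasZeroObject C] [HasShift C ℤ]
  [∀ n : ℤ, (shiftFunctor C n).Additive] [Pretriangulated C]

lemma subsingleton_hom_obj₁ (T : Triangle C) (hT : T ∈ distTriang C) (X : C) (i j : ℤ)
    (hij : j + 1 = i) (h2 : Subsingleton (X ⟶ T.obj₂⟦i⟧)) (h3 : Subsingleton (X ⟶ T.obj₃⟦j⟧)) :
    Subsingleton (X ⟶ T.obj₁⟦i⟧) := by
  refine ⟨fun f f' => ?_⟩
  have key : ∀ f : X ⟶ T.obj₁⟦i⟧, f = 0 := by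
    intro f
    have hTi := Triangle.shift_distinguished T hT i
    have h1 : f ≫ ((Triangle.shiftFunctor C i).obj T).mor₁ = 0 := h2.elim _ _
    obtain ⟨g, hg⟩ := Triangle.coyoneda_exact₂ _ (inv_rot_of_distTriang _ hTi) f h1
    let κ : T.obj₃⟦j⟧ ≅ (T.obj₃⟦i⟧)⟦(-1 : ℤ)⟧ :=
      (shiftFunctorAdd' C i (-1) j (by lia)).app T.obj₃
    have hg0 : g = 0 := by
      have h4 : g ≫ κ.inv = 0 := h3.elim _ _
      exact (cancel_mono κ.inv).1 (h4.trans zero_comp.symm)
    rw [hg, hg0]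
    exact zero_comp
  rw [key f, key f']

end Generic

section S2Local

variable {B : Type u} [CommRing B] [IsLocalRing B] [IsNoetherianRing B]

omit [IsLocalRing B] [IsNoetherianRing B] in
/-- `Ext^j(M, N₀)` from maps into the shifted single. -/
lemma subsingleton_ext_of_single (N₀ M : ModuleCat.{u} B) (a i : ℤ) (j : ℕ) (hj : a + j = i)
    (h : Subsingleton ((singleFunctor (ModuleCat.{u} B) 0).obj M ⟶
      ((singleFunctor (ModuleCat.{u} B) a).obj N₀)⟦i⟧)) :
    Subsingleton (Abelian.Ext M N₀ j) := by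
  let iso : ((singleFunctor (ModuleCat.{u} B) a).obj N₀)⟦i⟧ ≅
      ((singleFunctor (ModuleCat.{u} B) 0).obj N₀)⟦(j : ℤ)⟧ :=
    (shiftFunctor (Dual.D B) i).mapIso
      (Groth.Agent.Lib.T2H4.GorOpen.shiftSingleIso B N₀ (-a) a (by lia)).symm ≪≫
      ((shiftFunctorAdd' (Dual.D B) (-a) i (j : ℤ) (by lia)).app _).symm
  haveI : Subsingleton ((singleFunctor (ModuleCat.{u} B) 0).obj M ⟶
      ((singleFunctor (ModuleCat.{u} B) 0).obj N₀)⟦(j : ℤ)⟧) :=
    (Iso.homCongr (Iso.refl _) iso).symm.subsingleton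
  exact (Abelian.Ext.homEquiv (X := M) (Y := N₀) (n := j)).subsingleton

theorem depth_bottom_ge (T : Dual.D B) (hT : Dual.IsDualizing B T) (c : ℤ)
    (hc : ∀ j : ℤ, j ≠ c → Subsingleton (Dual.inD B (B ⧸ IsLocalRing.maximalIdeal B) ⟶ T⟦j⟧))
    (e : ℕ) (he : ringKrullDim B = e) :
    (∀ l : ℤ, l < c - e → Subsingleton (Dual.HD B T l)) ∧ Nontrivial (Dual.HD B T (c - e)) ∧
    min (2 : WithBot ℕ∞) (e : WithBot ℕ∞) ≤
      ((LocCoh.depth B (Dual.HD B T (c - e)) : ℕ∞) : WithBot ℕ∞) := by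
  have he' : Module.supportDim B B = e := by rw [Module.supportDim_self_eq_ringKrullDim, he]
  obtain ⟨m, hm⟩ := exists_depth_eq (B := B) B
  obtain ⟨h1, h2, h3, h4⟩ := ext_range_general T hT c hc B m e hm he'
  have hlow : ∀ l : ℤ, l < c - e → Subsingleton (Dual.HD B T l) := fun l hl =>
    (Groth.Agent.Lib.T2H4.HomRing.subsingleton_hom_inD_self_iff T l).1 (h3 l hl)
  have hnt : Nontrivial (Dual.HD B T (c - e)) := by
    by_contra hcon
    rw [not_nontrivial_iff_subsingleton] at hcon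
    have := (Groth.Agent.Lib.T2H4.HomRing.subsingleton_hom_inD_self_iff T (c - e)).2 hcon
    exact not_subsingleton _ this
  refine ⟨hlow, hnt, ?_⟩
  generalize ha : c - (e : ℤ) = a at hlow hnt ⊢
  haveI : T.IsGE a := (isGE_iff T a).2 (fun i hi => by
    haveI := hlow i hi
    exact ModuleCat.isZero_of_subsingleton _)
  have hTr := tt.triangleLTGE_distinguished (a + 1) T
  haveI : ((tt.truncLT (a + 1)).obj T).IsLE a :=
    (inferInstance : tt.IsLE ((tt.truncLT (a + 1)).obj T) a)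
  haveI : ((tt.truncLT (a + 1)).obj T).IsGE a :=
    (inferInstance : tt.IsGE ((tt.truncLT (a + 1)).obj T) a)
  obtain ⟨N₀, ⟨eL⟩⟩ := exists_iso_singleFunctor_obj_of_isGE_of_isLE ((tt.truncLT (a + 1)).obj T) a
  haveI := isIso_homology_truncLTι (a + 1) a (by lia) T
  let eN : N₀ ≃ₗ[B] Dual.HD B T a :=
    (((singleFunctorCompHomologyFunctorIso (ModuleCat.{u} B) a).app N₀).symm ≪≫
      (homologyFunctor (ModuleCat.{u} B) a).mapIso eL.symm ≪≫
      asIso ((homologyFunctor (ModuleCat.{u} B) a).map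
        ((tt.truncLTι (a + 1)).app T))).toLinearEquiv
  haveI hfinN : Module.Finite B (Dual.HD B T a) := hT.finite_cohomology a
  haveI : Module.Finite B N₀ := Module.Finite.equiv eN.symm
  have hvan : ∀ j : ℕ, j ≤ 1 → j ≠ e →
      Subsingleton (Abelian.Ext (ModuleCat.of B (B ⧸ IsLocalRing.maximalIdeal B)) N₀ j) := by
    intro j hj1 hje
    apply subsingleton_ext_of_single N₀ _ a (a + j) j rfl
    have hL : Subsingleton (Dual.inD B (B ⧸ IsLocalRing.maximalIdeal B) ⟶
        ((tt.truncLT (a + 1)).obj T)⟦a + (j : ℤ)⟧) := by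
      apply subsingleton_hom_obj₁ _ hTr (Dual.inD B _) (a + j) (a + j - 1) (by ring)
      · exact hc (a + j) (by intro h; apply hje; lia)
      · refine ⟨fun f f' => ?_⟩
        have hz : ∀ f : Dual.inD B (B ⧸ IsLocalRing.maximalIdeal B) ⟶
            ((tt.truncGE (a + 1)).obj T)⟦a + (j : ℤ) - 1⟧, f = 0 := by
          intro f
          haveI : tt.IsGE (((tt.truncGE (a + 1)).obj T)⟦a + (j : ℤ) - 1⟧) 1 := by
            haveI : tt.IsGE (((tt.truncGE (a + 1)).obj T)⟦a + (j : ℤ) - 1⟧) (2 - j) :=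
              tt.isGE_shift _ (a + 1) (a + j - 1) (2 - j) (by ring)
            exact tt.isGE_of_ge _ 1 (2 - j) (by lia)
          exact tt.zero_of_isLE_of_isGE f 0 1 (by lia) inferInstance inferInstance
        rw [hz f, hz f']
    exact (Iso.homCongr (Iso.refl _) ((shiftFunctor _ (a + (j : ℤ))).mapIso eL)).symm.subsingleton
  have hdepth : ((min 2 e : ℕ) : ℕ∞) ≤ LocCoh.depth B N₀ := by
    show ((min 2 e : ℕ) : ℕ∞) ≤ LocCoh.idealDepth (IsLocalRing.maximalIdeal B) N₀
    rw [natCast_le_idealDepth_iff_ext']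
    intro i hi
    exact hvan i (by lia) (by lia)
  have hcongr : LocCoh.depth B (Dual.HD B T a) = LocCoh.depth B N₀ :=
    idealDepth_congr eN.symm _
  rw [hcongr]
  have h5 : min (2 : WithBot ℕ∞) (e : WithBot ℕ∞) = (((min 2 e : ℕ) : ℕ∞) : WithBot ℕ∞) := by
    rcases le_total 2 e with h | h
    · rw [min_eq_left h, min_eq_left (by exact_mod_cast h)]
      rfl
    · rw [min_eq_right h, min_eq_right (by exact_mod_cast h)]
      rfl
  rw [h5]
  exact_mod_cast hdepth

end S2Local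

end Groth.Agent.Lib.T2H4.CanonS2
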