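import Groth.Agent.Lib.T2H4LocKL4
import Groth.Agent.S6965

set_option autoImplicit false
set_option linter.style.haveILetI false
set_option backward.isDefEq.respectTransparency.types false
universe u
open CategoryTheory CategoryTheory.Limits
attribute [local instance] HasDerivedCategory.standard

namespace Groth.Agent.Lib.T2H4.LocKL

open DerivedCategory Pretriangulated Groth.Agent.S14388 Groth.Agent.Lib.T2H4.LocalDual
  Groth.Agent.Lib.T2H4.DComp Groth.Agent.Lib.T2H4.TorIndep Groth.Agent.Lib.Helper1.Extend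
  Groth.Agent.Lib.Helper1.LDer

section Flat

variable (A B : Type u) [CommRing A] [CommRing B] [Algebra A B] [Module.Flat A B]
  [DRing.HasLBaseChange (algebraMap A B)]

/-- derived base change along a flat map is the exact extension of scalars, objectwise. -/
lemma nonempty_lbc_iso_extD (K : Dual.D A) :
    Nonempty ((DRing.LBaseChange (algebraMap A B)).obj K ≅ (extD A B).obj K) := by
  obtain ⟨C, ⟨e⟩⟩ : ∃ C : DRing.Cx A, Nonempty (Q.obj C ≅ K) := ⟨_, ⟨Q.objObjPreimageIso K⟩⟩
  obtain ⟨e1⟩ := Groth.Agent.Lib.T2H4.GNoeth.nonempty_lbcFlatIso A B C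
  exact ⟨(DRing.LBaseChange (algebraMap A B)).mapIso e.symm ≪≫ e1 ≪≫
    (mapQIso (ext A B) C).symm ≪≫ (extD A B).mapIso e⟩

lemma finite_HD_lbc (K : Dual.D A) (i : ℤ) (h : Module.Finite A (Dual.HD A K i)) :
    Module.Finite B (Dual.HD B ((DRing.LBaseChange (algebraMap A B)).obj K) i) := by
  obtain ⟨e⟩ := nonempty_lbc_iso_extD A B K
  have e2 : (homologyFunctor (ModuleCat.{u} B) i).obj ((DRing.LBaseChange (algebraMap A B)).obj K) ≅
      (ext A B).obj ((homologyFunctor (ModuleCat.{u} A) i).obj K) :=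
    (homologyFunctor (ModuleCat.{u} B) i).mapIso e ≪≫ homologyMapDIso (ext A B) K i
  haveI : Module.Finite A ((homologyFunctor (ModuleCat.{u} A) i).obj K) := h
  haveI := finite_bc (algebraMap A B) ((homologyFunctor (ModuleCat.{u} A) i).obj K)
  exact Module.Finite.equiv e2.symm.toLinearEquiv

lemma nonempty_lbc_inD_iso (M : Type u) [AddCommGroup M] [Module A M] :
    Nonempty ((DRing.LBaseChange (algebraMap A B)).obj (Dual.inD A M) ≅
      Dual.inD B (TensorProduct A B M)) := by
  obtain ⟨e⟩ := nonempty_lbc_iso_extD A B (Dual.inD A M)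
  exact ⟨e ≪≫ extDInDIso (A := A) (B := B) M⟩

end Flat

section Main

variable {A : Type u} [CommRing A] [IsNoetherianRing A] (S : Submonoid A) (B : Type u) [CommRing B]
  [Algebra A B] [IsLocalization S B] [DRing.HasLBaseChange (algebraMap A B)]

omit [IsNoetherianRing A] in
lemma isZero_HD_inD (M : Type u) [AddCommGroup M] [Module A M] (j : ℤ) (hj : j < 0 ∨ 0 < j) :
    IsZero ((homologyFunctor (ModuleCat.{u} A) j).obj (Dual.inD A M)) := by
  rcases hj with h | h
  · exact isZero_of_isGE _ 0 j h
  · exact isZero_of_isLE _ 0 j h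

include S in
/-- **S1775**: the localization of a dualizing complex is dualizing. -/
theorem isDualizing_lbc (ω : Dual.D A) (hω : Dual.IsDualizing A ω) :
    Dual.IsDualizing B ((DRing.LBaseChange (algebraMap A B)).obj ω) := by
  haveI : Module.Flat A B := IsLocalization.flat B S
  haveI : IsNoetherianRing B := IsLocalization.isNoetherianRing S B inferInstance
  obtain ⟨a, b, hab⟩ := hω.finite_injective_dimension
  have hK : ∀ i : ℤ, (i < a ∨ b < i) →
      IsZero ((homologyFunctor (ModuleCat.{u} A) i).obj ω) := by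
    intro i hi
    have := (Groth.Agent.Lib.T2H4.HomRing.subsingleton_hom_inD_self_iff ω i).1 (hab A i hi)
    exact ModuleCat.isZero_of_subsingleton _
  haveI : ω.IsGE a := (DerivedCategory.isGE_iff ω a).2 (fun i hi => hK i (Or.inl hi))
  refine ⟨inferInstance, ⟨a, b, ?_⟩, fun i => finite_HD_lbc A B ω i (hω.finite_cohomology i),
    toEnd_bijective_lbc S B ω hω.toEnd_bijective a a b hK hω.finite_cohomology,
    fun i hi => subsingleton_hom_lbc S B ω ω a a b hK hω.finite_cohomology i
      (hω.ext_self_subsingleton i hi)⟩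
  have h3 : ∀ (J : Ideal B) (i : ℤ), (i < a ∨ b < i) →
      Subsingleton (DRing.ExtD B (Dual.inD B (B ⧸ J))
        ((DRing.LBaseChange (algebraMap A B)).obj ω) i) := by
    intro J i hi
    have hJ : (J.comap (algebraMap A B)).map (algebraMap A B) = J := IsLocalization.map_under S B J
    let e1 : (B ⧸ J) ≃ₗ[B] (B ⧸ (J.comap (algebraMap A B)).map (algebraMap A B)) :=
      Submodule.quotEquivOfEq _ _ hJ.symm
    let e2 : (B ⧸ (J.comap (algebraMap A B)).map (algebraMap A B)) ≃ₗ[B]
        TensorProduct A B (A ⧸ J.comap (algebraMap A B)) :=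
      (Algebra.TensorProduct.quotIdealMapEquivTensorQuot B (J.comap (algebraMap A B))).toLinearEquiv
    obtain ⟨e3⟩ := nonempty_lbc_inD_iso A B (A ⧸ J.comap (algebraMap A B))
    let e : Dual.inD B (B ⧸ J) ≅ (DRing.LBaseChange (algebraMap A B)).obj
        (Dual.inD A (A ⧸ J.comap (algebraMap A B))) :=
      (singleFunctor (ModuleCat.{u} B) 0).mapIso (e1 ≪≫ₗ e2).toModuleIso ≪≫ e3.symm
    have h := subsingleton_hom_lbc S B (Dual.inD A (A ⧸ J.comap (algebraMap A B))) ω a 0 0
      (isZero_HD_inD _) (finite_HD_inD (A ⧸ J.comap (algebraMap A B))) i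
      (hab (A ⧸ J.comap (algebraMap A B)) i hi)
    exact ⟨fun f g => by
      rw [← cancel_epi e.inv]
      exact h.elim _ _⟩
  have htfae := Groth.Agent.S6965.result B ((DRing.LBaseChange (algebraMap A B)).obj ω) a b
  have h2 : ∀ (N : Type u) [AddCommGroup N] [Module B N] (i : ℤ), (i < a ∨ b < i) →
      Subsingleton (DRing.ExtD B (Dual.inD B N) ((DRing.LBaseChange (algebraMap A B)).obj ω) i) :=
    (htfae.out 2 1).1 h3
  intro M _ _ i hi
  exact h2 M i hi

end Main

end Groth.Agent.Lib.T2H4.LocKL
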