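import Groth.Agent.Lib.T2H4FlatHom3
import Groth.Agent.Lib.T2H4LocKL5

/-!
# Faithfully flat descent of dualizing complexes (helper4)
-/

set_option autoImplicit false
set_option linter.style.haveILetI false
set_option backward.isDefEq.respectTransparency.types false
universe u
open CategoryTheory CategoryTheory.Limits TensorProduct
attribute [local instance] HasDerivedCategory.standard

namespace Groth.Agent.Lib.T2H4.FlatHom

open DerivedCategory Pretriangulated Groth.Agent.Lib.T2H4.DComp Groth.Agent.Lib.T2H4.LocKL DTen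
  Groth.Agent.Lib.T2H4.TorIndep Groth.Agent.Lib.Helper1.DT Groth.Agent.Lib.Helper1
  Groth.Agent.Lib.Helper1.LDer Groth.Agent.Lib.Helper1.Extend Groth.Agent.S14388
  Groth.Agent.Lib.T2H4.LocalDual Groth.Agent.Lib.Helper17.DBrown

section Descent

variable {A : Type u} [CommRing A] (B : Type u) [CommRing B] [Algebra A B]
  [DRing.HasLBaseChange (algebraMap A B)] [IsNoetherianRing A]

/-- vanishing of `Hom` descends along a faithfully flat map. -/
theorem subsingleton_hom_of_lbc [Module.FaithfullyFlat A B] (K N : Dual.D A) (a : ℤ) [N.IsGE a]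
    (c d : ℤ)
    (hK : ∀ i : ℤ, (i < c ∨ d < i) → IsZero ((homologyFunctor (ModuleCat.{u} A) i).obj K))
    (hfin : ∀ i : ℤ, Module.Finite A (Dual.HD A K i)) (i : ℤ)
    (h : Subsingleton ((DRing.LBaseChange (algebraMap A B)).obj K ⟶
      ((DRing.LBaseChange (algebraMap A B)).obj N)⟦i⟧)) :
    Subsingleton (K ⟶ N⟦i⟧) := by
  have h4 : Subsingleton (K ⟶ (DRing.restrictD (algebraMap A B)).obj
      (((DRing.LBaseChange (algebraMap A B)).obj N)⟦i⟧)) :=
    ((lbcAdj (algebraMap A B)).homEquiv K _).symm.subsingleton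
  let e := ((DRing.restrictD (algebraMap A B)).commShiftIso i).app
    ((DRing.LBaseChange (algebraMap A B)).obj N)
  have h3 : Subsingleton (K ⟶ ((DRing.restrictD (algebraMap A B)).obj
      ((DRing.LBaseChange (algebraMap A B)).obj N))⟦i⟧) :=
    ⟨fun f g => by
      rw [← cancel_mono e.inv]
      exact h4.elim _ _⟩
  have h2 := subsingleton_shift_of_hom K _ i h3
  have hb := bijective_ΘN_unit B K N a c d hK hfin (-i)
  have h1 : Subsingleton (B ⊗[A] (K⟦-i⟧ ⟶ N)) :=
    ⟨fun x y => hb.1 (h2.elim _ _)⟩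
  have h0 : Subsingleton (K⟦-i⟧ ⟶ N) :=
    (Module.FaithfullyFlat.subsingleton_tensorProduct_iff_right A B).1 h1
  exact subsingleton_hom_of_shift K N i h0

/-- bijectivity of `A → End(ω)` descends along a faithfully flat map. -/
theorem toEnd_bijective_of_lbc [Module.FaithfullyFlat A B] (ω : Dual.D A) (a : ℤ) [ω.IsGE a]
    (c d : ℤ)
    (hK : ∀ i : ℤ, (i < c ∨ d < i) → IsZero ((homologyFunctor (ModuleCat.{u} A) i).obj ω))
    (hfin : ∀ i : ℤ, Module.Finite A (Dual.HD A ω i))
    (hbij : Function.Bijective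
      (fun b : B => b • 𝟙 ((DRing.LBaseChange (algebraMap A B)).obj ω))) :
    Function.Bijective (fun x : A => x • 𝟙 ω) := by
  have e0 : ω⟦(0 : ℤ)⟧ ≅ ω := (shiftFunctorZero (Dual.D A) ℤ).app ω
  have hΘ : Function.Bijective (ΘN B (ηB B ω) ω) :=
    ΘN_of_iso B e0 (bijective_ΘN_unit B ω ω a c d hK hfin 0)
  let τ : A →ₗ[A] (ω ⟶ ω) := LinearMap.toSpanSingleton A _ (𝟙 ω)
  have hτ : (fun x : A => x • 𝟙 ω) = ⇑τ := rfl
  rw [hτ, ← Module.FaithfullyFlat.lTensor_bijective_iff_bijective A B τ]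
  have hcomp : (⇑(ΘN B (ηB B ω) ω) ∘ ⇑(LinearMap.lTensor B τ)) ∘ ⇑(TensorProduct.rid A B).symm =
      ⇑((lbcAdj (algebraMap A B)).homEquiv ω _) ∘
        (fun b : B => b • 𝟙 ((DRing.LBaseChange (algebraMap A B)).obj ω)) := by
    funext b
    simp only [Function.comp_apply]
    rw [TensorProduct.rid_symm_apply, LinearMap.lTensor_tmul, ΘN_tmul,
      (lbcAdj (algebraMap A B)).homEquiv_unit]
    show ((1 : A) • 𝟙 ω) ≫ _ = _
    rw [one_smul, Category.id_comp]
  have h1 : Function.Bijective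
      ((⇑(ΘN B (ηB B ω) ω) ∘ ⇑(LinearMap.lTensor B τ)) ∘ ⇑(TensorProduct.rid A B).symm) := by
    rw [hcomp]
    exact ((lbcAdj (algebraMap A B)).homEquiv ω _).bijective.comp hbij
  have h2 : Function.Bijective (⇑(ΘN B (ηB B ω) ω) ∘ ⇑(LinearMap.lTensor B τ)) :=
    (Function.Bijective.of_comp_iff _ (TensorProduct.rid A B).symm.bijective).1 h1
  exact (Function.Bijective.of_comp_iff' hΘ _).1 h2

omit [IsNoetherianRing A] in
/-- cohomology of the flat base change. -/
lemma nonempty_HD_lbc_iso [Module.Flat A B] (K : Dual.D A) (i : ℤ) :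
    Nonempty ((homologyFunctor (ModuleCat.{u} B) i).obj
      ((DRing.LBaseChange (algebraMap A B)).obj K) ≅
      (ext A B).obj ((homologyFunctor (ModuleCat.{u} A) i).obj K)) := by
  obtain ⟨e⟩ := nonempty_lbc_iso_extD A B K
  exact ⟨(homologyFunctor (ModuleCat.{u} B) i).mapIso e ≪≫ homologyMapDIso (ext A B) K i⟩

/-- **S1780**: faithfully flat descent of dualizing complexes. -/
theorem isDualizing_of_lbc [IsNoetherianRing B] [Module.FaithfullyFlat A B] (K : Dual.D A)
    (hK : Dual.IsDualizing B ((DRing.LBaseChange (algebraMap A B)).obj K)) :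
    Dual.IsDualizing A K := by
  obtain ⟨a, b, hab⟩ := hK.finite_injective_dimension
  have hKB : ∀ i : ℤ, (i < a ∨ b < i) → IsZero ((homologyFunctor (ModuleCat.{u} B) i).obj
      ((DRing.LBaseChange (algebraMap A B)).obj K)) := by
    intro i hi
    have := (Groth.Agent.Lib.T2H4.HomRing.subsingleton_hom_inD_self_iff _ i).1 (hab B i hi)
    exact ModuleCat.isZero_of_subsingleton _
  have hKz : ∀ i : ℤ, (i < a ∨ b < i) →
      IsZero ((homologyFunctor (ModuleCat.{u} A) i).obj K) := by
    intro i hi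
    obtain ⟨e2⟩ := nonempty_HD_lbc_iso B K i
    have h1 : IsZero ((ext A B).obj ((homologyFunctor (ModuleCat.{u} A) i).obj K)) :=
      (hKB i hi).of_iso e2.symm
    haveI : Subsingleton ((ext A B).obj ((homologyFunctor (ModuleCat.{u} A) i).obj K)) :=
      ModuleCat.subsingleton_of_isZero h1
    have h2 : Subsingleton (B ⊗[A] (Dual.HD A K i)) :=
      (extEquiv (A := A) (B := B) (Dual.HD A K i)).symm.toEquiv.subsingleton
    haveI : Subsingleton (Dual.HD A K i) :=
      (Module.FaithfullyFlat.subsingleton_tensorProduct_iff_right A B).1 h2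
    exact ModuleCat.isZero_of_subsingleton _
  have hfin : ∀ i : ℤ, Module.Finite A (Dual.HD A K i) := by
    intro i
    obtain ⟨e2⟩ := nonempty_HD_lbc_iso B K i
    haveI : Module.Finite B ((homologyFunctor (ModuleCat.{u} B) i).obj
      ((DRing.LBaseChange (algebraMap A B)).obj K)) := hK.finite_cohomology i
    haveI : Module.Finite B ((ext A B).obj ((homologyFunctor (ModuleCat.{u} A) i).obj K)) :=
      Module.Finite.equiv e2.toLinearEquiv
    haveI : Module.Finite B (B ⊗[A] (Dual.HD A K i)) :=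
      Module.Finite.equiv (extEquiv (A := A) (B := B) (Dual.HD A K i))
    exact Module.Finite.of_finite_tensorProduct_of_faithfullyFlat B
  haveI : K.IsGE a := (DerivedCategory.isGE_iff K a).2 (fun i hi => hKz i (Or.inl hi))
  refine ⟨inferInstance, ⟨a, b, ?_⟩, hfin,
    toEnd_bijective_of_lbc B K a a b hKz hfin hK.toEnd_bijective,
    fun i hi => subsingleton_hom_of_lbc B K K a a b hKz hfin i
      (hK.ext_self_subsingleton i hi)⟩
  have h3 : ∀ (I : Ideal A) (i : ℤ), (i < a ∨ b < i) →
      Subsingleton (DRing.ExtD A (Dual.inD A (A ⧸ I)) K i) := by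
    intro I i hi
    obtain ⟨e3⟩ := nonempty_lbc_inD_iso A B (A ⧸ I)
    have h := hab (B ⊗[A] (A ⧸ I)) i hi
    have h' : Subsingleton ((DRing.LBaseChange (algebraMap A B)).obj (Dual.inD A (A ⧸ I)) ⟶
        ((DRing.LBaseChange (algebraMap A B)).obj K)⟦i⟧) :=
      ⟨fun f g => by
        rw [← cancel_epi e3.inv]
        exact h.elim _ _⟩
    exact subsingleton_hom_of_lbc B (Dual.inD A (A ⧸ I)) K a 0 0
      (isZero_HD_inD _) (finite_HD_inD (A ⧸ I)) i h'
  have htfae := Groth.Agent.S6965.result A K a b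
  have h2 : ∀ (N : Type u) [AddCommGroup N] [Module A N] (i : ℤ), (i < a ∨ b < i) →
      Subsingleton (DRing.ExtD A (Dual.inD A N) K i) := (htfae.out 2 1).1 h3
  intro M _ _ i hi
  exact h2 M i hi

end Descent


end Groth.Agent.Lib.T2H4.FlatHom
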