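import Groth.Agent.Lib.T2H4CanonS2a
import Groth.Agent.Lib.T2H4FlatHom4

set_option autoImplicit false
set_option linter.style.haveILetI false
set_option backward.isDefEq.respectTransparency.types false
universe u
open CategoryTheory CategoryTheory.Limits
attribute [local instance] HasDerivedCategory.standard

namespace Groth.Agent.Lib.T2H4.CanonS2

open DerivedCategory Pretriangulated Groth.Agent.Lib.T2H4.DimFun Groth.Agent.Lib.T2H4.LocKL
  Groth.Agent.Lib.T2H4.LocalDual Groth.Agent.Lib.Helper28 Groth.Agent.Lib.T2H4.DualShift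
  Groth.Agent.Lib.T2H4.FlatHom Groth.Agent.Lib.Helper1.Extend

section OrderLemma

variable {α : Type*} [Preorder α]

lemma exists_isMin_le_coheight : ∀ (n : ℕ) (p : α), Order.height p = n →
    ∃ q : α, q ≤ p ∧ IsMin q ∧ (n : ℕ∞) + Order.coheight p ≤ Order.coheight q
  | 0 => by
    intro p hp
    exact ⟨p, le_rfl, Order.height_eq_zero.1 (by simpa using hp), by simp⟩
  | n + 1 => by
    intro p hp
    have hp' : Order.height p = (n : ℕ∞) + 1 := by simpa using hp
    obtain ⟨-, ⟨y, hy, hyn⟩, -⟩ := Order.height_eq_coe_add_one_iff.1 hp'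
    obtain ⟨q, hqy, hq, hle⟩ := exists_isMin_le_coheight n y hyn
    refine ⟨q, hqy.trans hy.le, hq, ?_⟩
    have h1 := Order.coheight_add_one_le hy
    calc ((n + 1 : ℕ) : ℕ∞) + Order.coheight p = n + (Order.coheight p + 1) := by
          push_cast; ring
      _ ≤ n + Order.coheight y := by gcongr
      _ ≤ Order.coheight q := hle

end OrderLemma

section Main

variable {A : Type u} [CommRing A] [IsNoetherianRing A] [IsLocalRing A] {ω : Dual.D A}

omit [IsNoetherianRing A] [IsLocalRing A] in
/-- the localization of the cohomology of `ω` is the cohomology of the localization. -/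
lemma nonempty_locHD_equiv (p : PrimeSpectrum A)
    [DRing.HasLBaseChange (algebraMap A (Localization.AtPrime p.asIdeal))] (K : Dual.D A) (l : ℤ) :
    Nonempty (LocalizedModule p.asIdeal.primeCompl (Dual.HD A K l) ≃ₗ[Localization.AtPrime p.asIdeal]
      Dual.HD (Localization.AtPrime p.asIdeal)
        ((DRing.LBaseChange (algebraMap A (Localization.AtPrime p.asIdeal))).obj K) l) := by
  haveI : Module.Flat A (Localization.AtPrime p.asIdeal) :=
    IsLocalization.flat _ p.asIdeal.primeCompl
  obtain ⟨e1⟩ := nonempty_HD_lbc_iso (Localization.AtPrime p.asIdeal) K l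
  let e2 : TensorProduct A (Localization.AtPrime p.asIdeal) (Dual.HD A K l)
      ≃ₗ[Localization.AtPrime p.asIdeal]
      LocalizedModule p.asIdeal.primeCompl (Dual.HD A K l) :=
    (IsLocalizedModule.isBaseChange p.asIdeal.primeCompl (Localization.AtPrime p.asIdeal)
      (LocalizedModule.mkLinearMap p.asIdeal.primeCompl (Dual.HD A K l))).equiv
  exact ⟨e2.symm ≪≫ₗ (extEquiv (A := A) (B := Localization.AtPrime p.asIdeal)
    (Dual.HD A K l)).symm ≪≫ₗ e1.toLinearEquiv.symm⟩

/-- the bottom cohomology of `ω` at a prime. -/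
theorem local_HD (hω : Dual.IsDualizing A ω) (hn : Dual.IsNormalized A ω) (p : PrimeSpectrum A)
    (cp e : ℕ) (hcp : Order.coheight p = cp) (he : Order.height p = e) :
    (∀ l : ℤ, l < -(cp : ℤ) - e →
      Subsingleton (LocalizedModule p.asIdeal.primeCompl (Dual.HD A ω l))) ∧
    Nontrivial (LocalizedModule p.asIdeal.primeCompl (Dual.HD A ω (-(cp : ℤ) - e))) ∧
    min (2 : WithBot ℕ∞) (e : WithBot ℕ∞) ≤
      ((LocCoh.depth (Localization.AtPrime p.asIdeal)
        (LocalizedModule p.asIdeal.primeCompl (Dual.HD A ω (-(cp : ℤ) - e))) : ℕ∞) :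
          WithBot ℕ∞) ∧
    ringKrullDim (Localization.AtPrime p.asIdeal) = e := by
  haveI := Groth.Agent.Lib.T2H4.LDerExist.hasLBaseChange
    (algebraMap A (Localization.AtPrime p.asIdeal))
  haveI : IsNoetherianRing (Localization.AtPrime p.asIdeal) :=
    IsLocalization.isNoetherianRing p.asIdeal.primeCompl _ inferInstance
  have hT := isDualizing_lbc p.asIdeal.primeCompl (Localization.AtPrime p.asIdeal) ω hω
  have hc := van_quot_iff_of_coheight hω hn cp p hcp
  have hcB : ∀ j : ℤ, j ≠ -(cp : ℤ) →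
      Subsingleton (Dual.inD (Localization.AtPrime p.asIdeal)
        (Localization.AtPrime p.asIdeal ⧸
          IsLocalRing.maximalIdeal (Localization.AtPrime p.asIdeal)) ⟶
        ((DRing.LBaseChange (algebraMap A (Localization.AtPrime p.asIdeal))).obj ω)⟦j⟧) :=
    fun j hj => (van_quot_iff ω hω p j).1 ((hc j).2 hj)
  have heB : ringKrullDim (Localization.AtPrime p.asIdeal) = e := by
    rw [IsLocalization.AtPrime.ringKrullDim_eq_height p.asIdeal,
      PrimeSpectrum.height_eq_orderHeight, he]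
    rfl
  obtain ⟨h1, h2, h3⟩ := depth_bottom_ge _ hT (-(cp : ℤ)) hcB e heB
  refine ⟨fun l hl => ?_, ?_, ?_, heB⟩
  · obtain ⟨eq⟩ := nonempty_locHD_equiv p ω l
    haveI := h1 l hl
    exact eq.toEquiv.subsingleton
  · obtain ⟨eq⟩ := nonempty_locHD_equiv p ω (-(cp : ℤ) - e)
    haveI := h2
    exact eq.toEquiv.nontrivial
  · obtain ⟨eq⟩ := nonempty_locHD_equiv p ω (-(cp : ℤ) - e)
    have h4 : LocCoh.depth (Localization.AtPrime p.asIdeal)
        (LocalizedModule p.asIdeal.primeCompl (Dual.HD A ω (-(cp : ℤ) - e))) =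
        LocCoh.depth (Localization.AtPrime p.asIdeal)
          (Dual.HD (Localization.AtPrime p.asIdeal)
            ((DRing.LBaseChange (algebraMap A (Localization.AtPrime p.asIdeal))).obj ω)
            (-(cp : ℤ) - e)) := idealDepth_congr eq _
    rw [h4]
    exact h3

/-- **S0369**. -/
theorem support_and_S2 (hω : Dual.IsDualizing A ω) (hn : Dual.IsNormalized A ω) (d : ℕ)
    (hd : ringKrullDim A = d) :
    Module.support A (Dual.HD A ω (-(d : ℤ))) =
      {p : PrimeSpectrum A | ∃ q ∈ minimalPrimes A, q ≤ p.asIdeal ∧ ringKrullDim (A ⧸ q) = d} ∧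
    LocCoh.HasSk 2 A (Dual.HD A ω (-(d : ℤ))) := by
  have hex : ∀ p : PrimeSpectrum A, ∃ cp e : ℕ, Order.coheight p = cp ∧ Order.height p = e := by
    intro p
    obtain ⟨cp, hcp⟩ := ENat.ne_top_iff_exists.1 (Order.coheight_lt_top p).ne
    obtain ⟨e, he⟩ := ENat.ne_top_iff_exists.1 (height_lt_top p).ne
    exact ⟨cp, e, hcp.symm, he.symm⟩
  have hle : ∀ (p : PrimeSpectrum A) (cp e : ℕ), Order.coheight p = cp → Order.height p = e →
      cp + e ≤ d := by
    intro p cp e hcp he
    have h1 : ((Order.height p + Order.coheight p : ℕ∞) : WithBot ℕ∞) ≤ ringKrullDim A := by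
      rw [ringKrullDim, Order.krullDim_eq_iSup_height_add_coheight_of_nonempty]
      exact WithBot.coe_le_coe.2
        (le_iSup (fun a : PrimeSpectrum A => Order.height a + Order.coheight a) p)
    rw [hd, hcp, he] at h1
    have h2 : ((e + cp : ℕ) : WithBot ℕ∞) ≤ (d : WithBot ℕ∞) := by exact_mod_cast h1
    have h3 : e + cp ≤ d := by exact_mod_cast h2
    lia
  have key : ∀ (p : PrimeSpectrum A) (cp e : ℕ), Order.coheight p = cp → Order.height p = e →
      (p ∈ Module.support A (Dual.HD A ω (-(d : ℤ))) ↔ cp + e = d) := by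
    intro p cp e hcp he
    obtain ⟨h1, h2, -, -⟩ := local_HD hω hn p cp e hcp he
    rw [Module.mem_support_iff]
    constructor
    · intro hnt
      by_contra hne
      have h3 := hle p cp e hcp he
      have hlt : -(d : ℤ) < -(cp : ℤ) - e := by lia
      haveI := h1 _ hlt
      exact not_subsingleton _ ‹Subsingleton _›
    · intro heq
      have h3 : -(d : ℤ) = -(cp : ℤ) - e := by lia
      rw [h3]
      exact h2
  constructor
  · ext p
    obtain ⟨cp, e, hcp, he⟩ := hex p
    rw [Set.mem_ofPred_eq]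
    constructor
    · intro hp
      have heq := (key p cp e hcp he).1 hp
      obtain ⟨q, hqp, hqmin, hq⟩ := exists_isMin_le_coheight e p he
      obtain ⟨cq, eq, hcq, heq'⟩ := hex q
      have h1 := hle q cq eq hcq heq'
      have h2 : e + cp ≤ cq := by
        rw [hcp, hcq] at hq
        exact_mod_cast hq
      have hcqd : cq = d := by lia
      refine ⟨q.asIdeal, PrimeSpectrum.isMin_iff.1 hqmin, hqp, ?_⟩
      rw [← coheight_eq_ringKrullDim_quot, hcq, hcqd]
      rfl
    · rintro ⟨q, hqmin, hqp, hqd⟩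
      have hQmin : IsMin (⟨q, hqmin.1.1⟩ : PrimeSpectrum A) := PrimeSpectrum.isMin_iff.2 hqmin
      have hcQ : Order.coheight (⟨q, hqmin.1.1⟩ : PrimeSpectrum A) = d :=
        coheight_eq_of_ringKrullDim_quot ⟨q, hqmin.1.1⟩ d hqd
      have heQ : Order.height (⟨q, hqmin.1.1⟩ : PrimeSpectrum A) = (0 : ℕ) := by
        simpa using Order.height_eq_zero.2 hQmin
      have hQS := (key ⟨q, hqmin.1.1⟩ d 0 hcQ heQ).2 (by simp)
      exact Module.mem_support_mono (show (⟨q, hqmin.1.1⟩ : PrimeSpectrum A) ≤ p from hqp) hQS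
  · intro P hP
    obtain ⟨cp, e, hcp, he⟩ := hex ⟨P, hP⟩
    obtain ⟨h1, h2, h3, h4⟩ := local_HD hω hn ⟨P, hP⟩ cp e hcp he
    by_cases heq : cp + e = d
    · have h5 : -(d : ℤ) = -(cp : ℤ) - e := by lia
      rw [h5]
      refine le_trans (min_le_min ?_ ?_) h3
      · exact le_of_eq (by norm_cast)
      · rw [← h4]
        exact Module.supportDim_le_ringKrullDim _ _
    · have h6 := hle _ cp e hcp he
      have hlt : -(d : ℤ) < -(cp : ℤ) - e := by lia
      haveI := h1 _ hlt
      rw [Module.supportDim_eq_bot_of_subsingleton]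
      simp

end Main

end Groth.Agent.Lib.T2H4.CanonS2
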