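import Mathlib
import Groth.Prelude.Def_DeRham
import Groth.Agent.Lib.T2H4CartanC

/-! Helper library (helper4): the de Rham complex of `A[X]` over a `ℚ`-algebra is quasi-isomorphic
to that of `A` (homotopy invariance), through the Euler field `X ∂/∂X`. -/

set_option autoImplicit false

namespace Groth.Agent.Lib.T2H4.CartanD

open ExteriorAlgebra Polynomial Groth.Agent.Lib.T2H4.PoincareA Groth.Agent.Lib.T2H4.CartanA
  Groth.Agent.Lib.T2H4.CartanB Groth.Agent.Lib.T2H4.CartanC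

universe v u

variable {R : Type v} {A : Type u} [CommRing R] [CommRing A] [Algebra R A] [Algebra ℚ R]
variable (d : ∀ p : ℕ, ↥(⋀[A]^p (Ω[A⁄R])) →ₗ[R] ↥(⋀[A]^(p + 1) (Ω[A⁄R])))
variable (d' : ∀ p : ℕ, ↥(⋀[A[X]]^p (Ω[A[X]⁄R])) →ₗ[R] ↥(⋀[A[X]]^(p + 1) (Ω[A[X]⁄R])))

/-- weights of the index type `Option ℕ` -/
def wtO : Option ℕ → ℤ := fun o => o.elim 0 (fun w => (w : ℤ) + 1)

lemma wtO_injective : Function.Injective wtO := by
  intro a b h
  cases a with
  | none =>
    cases b with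
    | none => rfl
    | some b => simp only [wtO, Option.elim] at h; omega
  | some a =>
    cases b with
    | none => simp only [wtO, Option.elim] at h; omega
    | some b => simp only [wtO, Option.elim] at h; congr 1; omega

/-- a closed sum of a constant-coefficient form and forms of positive weights has closed parts -/
theorem closed_parts (hd' : DeRham.IsDiff (KaehlerDifferential.D R A[X]) d') {p : ℕ}
    {z0 : ExteriorAlgebra A[X] (Ω[A[X]⁄R])} (hz0 : z0 ∈ Zer R A p)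
    (u : ℕ →₀ ExteriorAlgebra A[X] (Ω[A[X]⁄R])) (hu : ∀ w, u w ∈ Eig d' p (w + 1))
    (hc : dT d' (z0 + u.sum (fun _ v => v)) = 0) :
    dT d' z0 = 0 ∧ ∀ w, dT d' (u w) = 0 := by
  have hsp := KaehlerDifferential.span_range_derivation R A[X]
  have key := eig_indep (V := ExteriorAlgebra A[X] (Ω[A[X]⁄R]))
    (fun n hn v h => torsion_free_of_algebraRat R n hn v h) (LX d') wtO wtO_injective
    (Finset.insertNone u.support)
    (fun o => o.elim (dT d' z0) (fun w => dT d' (u w))) ?_ ?_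
  · refine ⟨key none Finset.none_mem_insertNone, fun w => ?_⟩
    by_cases hw : w ∈ u.support
    · exact key (some w) (Finset.some_mem_insertNone.mpr hw)
    · rw [Finsupp.notMem_support_iff.mp hw, map_zero]
  · intro o _
    cases o with
    | none =>
      show LX d' (dT d' z0) = (0 : ℤ) • dT d' z0
      rw [LX, Lie_dT d' hd'.1 hsp hd'.2, zero_smul]
      have := (Zer_le_Eig d' hd'.1 p hz0).2
      rw [LX] at this
      rw [this, zero_smul, map_zero]
    | some w =>
      show LX d' (dT d' (u w)) = ((w : ℤ) + 1) • dT d' (u w)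
      rw [LX, Lie_dT d' hd'.1 hsp hd'.2]
      have := (hu w).2
      rw [LX] at this
      rw [this, map_nsmul, ← natCast_zsmul]
      push_cast
      rfl
  · rw [Finset.sum_insertNone]
    show dT d' z0 + ∑ w ∈ u.support, dT d' (u w) = 0
    rw [← map_sum, ← map_add]
    exact hc

lemma dT_coe {R : Type v} {B M : Type u} [CommRing R] [CommRing B] [Algebra R B]
    [AddCommGroup M] [Module B M] [Module R M] [IsScalarTower R B M]
    (d : ∀ p : ℕ, ↥(⋀[B]^p M) →ₗ[R] ↥(⋀[B]^(p + 1) M)) {p : ℕ} (x : ↥(⋀[B]^p M)) :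
    dT d (x : ExteriorAlgebra B M) = ((d p x : ↥(⋀[B]^(p + 1) M)) : ExteriorAlgebra B M) := by
  rw [dT_of_mem d x.2]

/-- homotopy invariance of de Rham cohomology over a `ℚ`-algebra -/
theorem main (hd : DeRham.IsDiff (KaehlerDifferential.D R A) d)
    (hd' : DeRham.IsDiff (KaehlerDifferential.D R A[X]) d')
    (ψ : ∀ p : ℕ, ↥(⋀[A]^p (Ω[A⁄R])) →+ ↥(⋀[A[X]]^p (Ω[A[X]⁄R])))
    (hψ : DeRham.IsCxMap (KaehlerDifferential.D R A) (KaehlerDifferential.D R A[X])
      (algebraMap A A[X]) ψ)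
    (hcomm : ∀ (p : ℕ) (x : ↥(⋀[A]^p (Ω[A⁄R]))), ψ (p + 1) (d p x) = d' p (ψ p x)) (i : ℕ) :
    (∀ y ∈ DeRham.cocycles d' i,
        ∃ x ∈ DeRham.cocycles d i, y - ψ i x ∈ DeRham.coboundaries d' i) ∧
      (∀ x ∈ DeRham.cocycles d i,
        ψ i x ∈ DeRham.coboundaries d' i → x ∈ DeRham.coboundaries d i) := by
  constructor
  · intro y hy
    have hy' : d' i y = 0 := hy
    have hyG := mem_Good d' hd'.1 i y.1 y.2
    obtain ⟨z0, hz0, zp, hzp, hsum⟩ := AddSubgroup.mem_sup.mp hyG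
    obtain ⟨α, hα⟩ := Zer_exists_ψ ψ hψ hz0
    obtain ⟨u, hu, hus⟩ := Pos_exists_finsupp d' hzp
    have hdy : dT d' (z0 + u.sum (fun _ v => v)) = 0 := by
      rw [hus, hsum, dT_coe d' y, hy']
      rfl
    obtain ⟨hc0, hcw⟩ := closed_parts d' hd' hz0 u hu hdy
    have hαc : d i α = 0 := by
      apply Subtype.ext
      rw [← ρE_ψ ψ hψ (i + 1) (d i α), hcomm, ← dT_coe d', hα, hc0, map_zero]
      rfl
    refine ⟨α, hαc, ?_⟩
    have hdiff : ((y - ψ i α : ↥(⋀[A[X]]^i (Ω[A[X]⁄R]))) : ExteriorAlgebra A[X] (Ω[A[X]⁄R]))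
        = zp := by
      rw [Submodule.coe_sub, hα, ← hsum]
      abel
    cases i with
    | zero =>
      have hz : zp = 0 := by
        rw [← hus]
        exact Finset.sum_eq_zero (fun w _ => Eig_closed_zero d' (hu w) (hcw w))
      show y - ψ 0 α ∈ (⊥ : Submodule R _)
      rw [Submodule.mem_bot]
      apply Subtype.ext
      rw [hdiff, hz]
      rfl
    | succ p =>
      have hex : ∀ w, ∃ η ∈ ⋀[A[X]]^p (Ω[A[X]⁄R]), dT d' η = u w :=
        fun w => Eig_closed_succ d' (hu w) (hcw w)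
      choose η hηm hη using hex
      have hm : ∑ w ∈ u.support, η w ∈ ⋀[A[X]]^p (Ω[A[X]⁄R]) :=
        Submodule.sum_mem _ (fun w _ => hηm w)
      show y - ψ (p + 1) α ∈ LinearMap.range (d' p)
      refine ⟨⟨_, hm⟩, ?_⟩
      apply Subtype.ext
      rw [hdiff, ← dT_of_mem d' hm, map_sum, ← hus]
      exact Finset.sum_congr rfl (fun w _ => hη w)
  · intro x _ hψx
    cases i with
    | zero =>
      have h0 : ψ 0 x = 0 := (Submodule.mem_bot R).mp hψx
      show x ∈ (⊥ : Submodule R _)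
      rw [Submodule.mem_bot]
      apply Subtype.ext
      rw [← ρE_ψ ψ hψ 0 x, h0]
      simp
    | succ p =>
      obtain ⟨η, hη⟩ := hψx
      show x ∈ LinearMap.range (d p)
      refine ⟨⟨ρE R A η.1, ρE_mem R A η.2⟩, ?_⟩
      apply Subtype.ext
      rw [← ρE_ψ ψ hψ (p + 1) x, ← hη, ← dT_coe d', ρE_dT d d' hd.1 hd'.1,
        dT_of_mem d (ρE_mem R A η.2)]

end Groth.Agent.Lib.T2H4.CartanD
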