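import Mathlib
import Groth.Agent.Lib.T2H2UFDCartier2
set_option backward.isDefEq.respectTransparency.types false

/-!
# T2H4CartierExtAlg: principal closure of a locally principal ideal at a factorial point (helper4)

Namespace `Groth.Agent.Lib.T2H4.CartierExtAlg`.
-/

set_option autoImplicit false
set_option linter.style.haveILetI false
set_option linter.unusedSectionVars false
universe u

namespace Groth.Agent.Lib.T2H4.CartierExtAlg

open Groth.Agent.Lib.T2H2.UFDCartier

section UFD

variable {S : Type u} [CommRing S] [IsDomain S] [UniqueFactorizationMonoid S]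

/-- In a factorial domain, a maximal ideal `m` with `m * y ⊆ (f)`, `y ∉ (f)`, `f ≠ 0`, is principal and nonzero. -/
theorem exists_span_eq_of_mul_le (m : Ideal S) (hm : m.IsMaximal) (f : S) :
    ∀ y : S, f ≠ 0 → y ∉ Ideal.span {f} → (∀ r ∈ m, r * y ∈ Ideal.span {f}) →
    ∃ π : S, π ≠ 0 ∧ m = Ideal.span {π} := by
  induction f using UniqueFactorizationMonoid.induction_on_prime with
  | h₁ => intro y h; exact absurd rfl h
  | h₂ x hx =>
    intro y _ hy
    exact absurd (by rw [Ideal.span_singleton_eq_top.2 hx]; trivial) hy
  | h₃ a p ha hp ih =>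
    intro y _ hy hmy
    by_cases hpy : p ∣ y
    · obtain ⟨y', rfl⟩ := hpy
      refine ih y' ha ?_ ?_
      · intro h
        apply hy
        rw [Ideal.mem_span_singleton] at h ⊢
        exact mul_dvd_mul_left p h
      · intro r hr
        have := hmy r hr
        rw [Ideal.mem_span_singleton] at this ⊢
        rw [mul_left_comm] at this
        exact (mul_dvd_mul_iff_left hp.ne_zero).1 this
    · refine ⟨p, hp.ne_zero, ?_⟩
      have hle : m ≤ Ideal.span {p} := by
        intro r hr
        have := hmy r hr
        rw [Ideal.mem_span_singleton] at this ⊢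
        have h1 : p ∣ r * y := (dvd_mul_right p a).trans this
        exact (hp.dvd_or_dvd h1).resolve_right hpy
      have hne : Ideal.span {p} ≠ ⊤ := by
        rw [Ne, Ideal.span_singleton_eq_top]
        exact hp.not_isUnit
      exact hm.eq_of_le hne hle

end UFD

section Transfer

/-- Transfer of a principal generator between two localizations at the same submonoid. -/
theorem principal_transfer {A : Type u} [CommRing A] (M : Submonoid A) (S S' : Type u) [CommRing S]
    [CommRing S'] [Algebra A S] [Algebra A S'] [IsLocalization M S] [IsLocalization M S']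
    (I : Ideal A)
    (h : ∃ f ∈ nonZeroDivisors S, I.map (algebraMap A S) = Ideal.span {f}) :
    ∃ f ∈ nonZeroDivisors S', I.map (algebraMap A S') = Ideal.span {f} := by
  obtain ⟨f, hf, hI⟩ := h
  let e : S ≃ₐ[A] S' := IsLocalization.algEquiv M S S'
  refine ⟨e f, ?_, ?_⟩
  · rw [mem_nonZeroDivisors_iff_right] at hf ⊢
    intro z hz
    obtain ⟨z', rfl⟩ := e.surjective z
    rw [← map_mul] at hz
    have := hf z' (e.injective (by rw [hz, map_zero]))
    rw [this, map_zero]
  · have h1 : algebraMap A S' = (e : S →+* S').comp (algebraMap A S) := by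
      ext a
      simp [e]
    rw [h1, ← Ideal.map_map, hI, Ideal.map_span, Set.image_singleton]
    rfl

end Transfer

section Main

variable {A : Type u} [CommRing A] [IsNoetherianRing A] (p : Ideal A) [p.IsPrime]
  (R : Type u) [CommRing R] [Algebra A R] [IsLocalization.AtPrime R p] [IsDomain R]
  [UniqueFactorizationMonoid R]

include R in
/-- Let `I` be an ideal of a Noetherian ring `A` which is saturated with respect to a finite set
`G` and locally principal (generated by a nonzerodivisor) at the primes not containing `G`. If
`A_p` is factorial then `I A_p` is generated by the image of one element of `I`, nonzero in `A_p`. -/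
theorem exists_principal_of_saturated (I : Ideal A) (G : Finset A)
    (hsat : ∀ s : A, (∀ g ∈ G, g * s ∈ I) → s ∈ I)
    (hloc : ∀ (q : Ideal A) [q.IsPrime], q ≤ p → (∃ g ∈ G, g ∉ q) →
      ∃ f ∈ nonZeroDivisors (Localization.AtPrime q),
        I.map (algebraMap A (Localization.AtPrime q)) = Ideal.span {f}) :
    ∃ a ∈ I, Ideal.span {algebraMap A R a} = I.map (algebraMap A R) ∧ algebraMap A R a ≠ 0 := by
  classical
  have hRnoeth : IsNoetherianRing R := IsLocalization.isNoetherianRing p.primeCompl R inferInstance
  set J := I.map (algebraMap A R) with hJ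
  by_cases hJtop : J = ⊤
  · -- `I` is not contained in `p`
    have hnd : ¬ Disjoint (p.primeCompl : Set A) (I : Set A) := by
      intro hd
      exact (IsLocalization.map_algebraMap_ne_top_iff_disjoint p.primeCompl R I).2 hd hJtop
    rw [Set.not_disjoint_iff] at hnd
    obtain ⟨a, hap, haI⟩ := hnd
    have hu : IsUnit (algebraMap A R a) := IsLocalization.map_units R ⟨a, hap⟩
    refine ⟨a, haI, ?_, hu.ne_zero⟩
    rw [hJtop, Ideal.span_singleton_eq_top.2 hu]
  · have hass : ∀ Q : Ideal R, IsAssociatedPrime Q (R ⧸ J) → Q.height = 1 := by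
      intro Q hQ
      obtain ⟨hQp, y, hy⟩ := (isAssociatedPrime_quotient_iff J Q).1 hQ
      haveI := hQp
      -- replace `y` by the image of an element of `A`
      obtain ⟨⟨y₀, t₀⟩, hyt⟩ := IsLocalization.surj p.primeCompl y
      have ht₀u : IsUnit (algebraMap A R t₀.1) := IsLocalization.map_units R t₀
      set y₁ := algebraMap A R y₀ with hy₁
      have hyt' : y * algebraMap A R t₀.1 = y₁ := hyt
      have hy' : ∀ r, r ∈ Q ↔ r * y₁ ∈ J := by
        intro r
        rw [hy r, ← hyt', ← mul_assoc]
        constructor
        · intro h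
          exact J.mul_mem_right _ h
        · intro h
          obtain ⟨u, hu⟩ := ht₀u
          have := J.mul_mem_right (↑u⁻¹ : R) h
          rwa [← hu, mul_assoc, Units.mul_inv, mul_one] at this
      have hy₁J : y₁ ∉ J := by
        intro h
        have : (1 : R) ∈ Q := (hy' 1).2 (by rwa [one_mul])
        exact hQp.ne_top ((Ideal.eq_top_iff_one _).2 this)
      set q := Q.comap (algebraMap A R) with hq
      haveI hqp : q.IsPrime := Ideal.comap_isPrime _ _
      have hqle : q ≤ p := by
        intro a ha
        by_contra hap
        have hu : IsUnit (algebraMap A R a) :=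
          IsLocalization.map_units R (⟨a, hap⟩ : p.primeCompl)
        exact hQp.ne_top (Q.eq_top_of_isUnit_mem ha hu)
      have hG : ∃ g ∈ G, g ∉ q := by
        by_contra hall
        push Not at hall
        have key : ∀ g ∈ G, ∃ t : A, t ∈ p.primeCompl ∧ t * (g * y₀) ∈ I := by
          intro g hg
          have h1 : algebraMap A R g ∈ Q := hall g hg
          have h2 := (hy' _).1 h1
          rw [hy₁, ← map_mul, hJ, IsLocalization.algebraMap_mem_map_algebraMap_iff p.primeCompl] at h2
          exact h2
        choose! t ht htI using key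
        set T := ∏ g ∈ G, t g with hT
        have hTp : T ∈ p.primeCompl := Submonoid.prod_mem _ fun g hg => ht g hg
        have hTy : T * y₀ ∈ I := by
          apply hsat
          intro g hg
          have : g * (T * y₀) = (∏ g' ∈ G.erase g, t g') * (t g * (g * y₀)) := by
            rw [hT, ← Finset.mul_prod_erase G t hg]
            ring
          rw [this]
          exact I.mul_mem_left _ (htI g hg)
        apply hy₁J
        rw [hy₁, hJ, IsLocalization.algebraMap_mem_map_algebraMap_iff p.primeCompl]
        exact ⟨T, hTp, hTy⟩
      obtain ⟨f₀, hf₀, hIf₀⟩ := hloc q hqle hG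
      -- the localization of `R` at `Q`
      set S := Localization.AtPrime Q with hS
      haveI : IsScalarTower A R S := inferInstance
      haveI hSloc : IsLocalization.AtPrime S q :=
        IsLocalization.isLocalization_isLocalization_atPrime_isLocalization p.primeCompl S Q
      obtain ⟨f, hf, hIf⟩ := principal_transfer q.primeCompl (Localization.AtPrime q) S I
        ⟨f₀, hf₀, hIf₀⟩
      have hf0 : f ≠ 0 := nonZeroDivisors.ne_zero hf
      have hJS : J.map (algebraMap R S) = Ideal.span {f} := by
        rw [hJ, Ideal.map_map, ← IsScalarTower.algebraMap_eq, hIf]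
      set y' := algebraMap R S y₁ with hy'def
      have hy'f : y' ∉ Ideal.span {f} := by
        intro h
        rw [← hJS, hy'def, IsLocalization.algebraMap_mem_map_algebraMap_iff Q.primeCompl] at h
        obtain ⟨s, hs, hsy⟩ := h
        exact hs ((hy' s).2 hsy)
      have hmy : ∀ r ∈ IsLocalRing.maximalIdeal S, r * y' ∈ Ideal.span {f} := by
        intro r hr
        rw [← IsLocalization.AtPrime.map_eq_maximalIdeal Q S,
          IsLocalization.mem_map_algebraMap_iff Q.primeCompl] at hr
        obtain ⟨⟨q₀, s⟩, hrs⟩ := hr
        have h1 : (q₀ : R) * y₁ ∈ J := (hy' _).1 q₀.2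
        have h2 : algebraMap R S ((q₀ : R) * y₁) ∈ J.map (algebraMap R S) :=
          Ideal.mem_map_of_mem _ h1
        rw [hJS, map_mul, ← hrs] at h2
        have hsu : IsUnit (algebraMap R S s.1) := IsLocalization.map_units S s
        obtain ⟨u, hu⟩ := hsu
        have h3 := (Ideal.span {f}).mul_mem_right (↑u⁻¹ : S) h2
        have h4 : r * algebraMap R S ↑s * y' * ↑u⁻¹ = r * y' := by
          rw [← hu]
          have : r * (u : S) * y' * ↑u⁻¹ = r * y' * ((u : S) * ↑u⁻¹) := by ring
          rw [this, Units.mul_inv, mul_one]
        rw [h4] at h3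
        exact h3
      obtain ⟨π, hπ0, hmπ⟩ := exists_span_eq_of_mul_le (IsLocalRing.maximalIdeal S)
        (IsLocalRing.maximalIdeal.isMaximal S) f y' hf0 hy'f hmy
      -- height of the maximal ideal of `S` is one
      haveI : IsNoetherianRing S := IsLocalization.isNoetherianRing Q.primeCompl S inferInstance
      have hle : (IsLocalRing.maximalIdeal S).height ≤ 1 := by
        haveI : (Ideal.span {π} : Ideal S).IsPrincipal := ⟨⟨π, rfl⟩⟩
        apply Ideal.height_le_one_of_isPrincipal_of_mem_minimalPrimes (Ideal.span {π})
        rw [← hmπ]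
        exact ⟨⟨inferInstance, le_rfl⟩, fun _ hb _ => hb.2⟩
      have hge : (IsLocalRing.maximalIdeal S).height ≠ 0 := by
        intro h0
        rw [Ideal.height_eq_zero_iff_eq_bot] at h0
        apply hπ0
        have : π ∈ IsLocalRing.maximalIdeal S := by
          rw [hmπ]
          exact Ideal.mem_span_singleton_self π
        rw [h0] at this
        exact this
      have h1 : (IsLocalRing.maximalIdeal S).height = 1 := by
        apply le_antisymm hle
        exact Order.one_le_iff_pos.2 (pos_iff_ne_zero.2 hge)
      have h2 := IsLocalization.AtPrime.ringKrullDim_eq_height Q S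
      rw [← IsLocalRing.maximalIdeal_height_eq_ringKrullDim, h1] at h2
      exact_mod_cast h2.symm
    obtain ⟨d, hd0, hJd⟩ := exists_span_singleton_eq J hJtop hass
    have hdJ : d ∈ J := by rw [hJd]; exact Ideal.mem_span_singleton_self d
    rw [hJ, IsLocalization.mem_map_algebraMap_iff p.primeCompl] at hdJ
    obtain ⟨⟨a, t⟩, hat⟩ := hdJ
    have htu : IsUnit (algebraMap A R t.1) := IsLocalization.map_units R t
    refine ⟨a, a.2, ?_, ?_⟩
    · rw [hJd, ← hat]
      exact (Ideal.span_singleton_mul_right_unit htu d)
    · rw [← hat]
      exact mul_ne_zero hd0 htu.ne_zero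

end Main

end Groth.Agent.Lib.T2H4.CartierExtAlg
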