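import Mathlib
import Groth.Prelude.Def_BlowUp2
import Groth.Agent.Lib.T2H4CartierExtAlg
import Groth.Agent.Lib.Helper2QCoh
import Groth.Agent.Lib.T2H2UFDCartier2
set_option backward.isDefEq.respectTransparency.types false

/-!
# T2H4CartierExt: an effective Cartier divisor on an open extends across factorial points (helper4)

Namespace `Groth.Agent.Lib.T2H4.CartierExt`.
-/

set_option autoImplicit false
set_option linter.style.haveILetI false
set_option linter.unusedSectionVars false
universe u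
open CategoryTheory CategoryTheory.Limits AlgebraicGeometry TopologicalSpace Opposite

namespace Groth.Agent.Lib.T2H4.CartierExt

variable {X : Scheme.{u}}

section OpenImm

variable {Y : Scheme.{u}} (j : Y ⟶ X) [IsOpenImmersion j] [QuasiCompact j] (D : Y.IdealSheafData)

theorem isAffineOpen_preimage_image (V : Y.affineOpens) : IsAffineOpen (j ⁻¹ᵁ (j ''ᵁ V.1)) := by
  rw [Scheme.Hom.preimage_image_eq]
  exact V.2

/-- pushing forward then pulling back along an open immersion is the identity -/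
theorem comap_map_eq : (D.map j).comap j = D := by
  refine Scheme.IdealSheafData.ext (funext fun V => ?_)
  rw [Scheme.IdealSheafData.ideal_comap_of_isOpenImmersion,
    Scheme.IdealSheafData.ideal_map D j ⟨j ''ᵁ V.1, V.2.image_of_isOpenImmersion j⟩
      (isAffineOpen_preimage_image j V), Ideal.comap_comap, ← CommRingCat.hom_comp,
    Scheme.Hom.appIso_inv_app]
  have h1 : (D.ideal V).map (Y.presheaf.map (eqToHom (Scheme.Hom.preimage_image_eq j V.1)).op).hom =
      D.ideal ⟨j ⁻¹ᵁ (j ''ᵁ V.1), isAffineOpen_preimage_image j V⟩ :=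
    D.map_ideal' (U := ⟨j ⁻¹ᵁ (j ''ᵁ V.1), isAffineOpen_preimage_image j V⟩) (V := V) _
  rw [← h1]
  have hbij : Function.Bijective (Y.presheaf.map (eqToHom (Scheme.Hom.preimage_image_eq j V.1)).op).hom :=
    ConcreteCategory.bijective_of_isIso _
  exact Ideal.comap_map_of_bijective _ hbij

/-- the pushforward ideal on the image of an affine open -/
theorem ideal_map_image (V : Y.affineOpens) :
    (D.map j).ideal ⟨j ''ᵁ V.1, V.2.image_of_isOpenImmersion j⟩ =
      (D.ideal V).map (j.appIso V.1).inv.hom := by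
  have h := Scheme.IdealSheafData.ideal_comap_of_isOpenImmersion (D.map j) j V
  rw [comap_map_eq] at h
  rw [h]
  have hsurj : Function.Surjective (j.appIso V.1).inv.hom :=
    (ConcreteCategory.bijective_of_isIso (j.appIso V.1).inv).2
  exact (Ideal.map_comap_of_surjective _ hsurj _).symm

end OpenImm

section Stalk

/-- if an ideal sheaf is generated by a nonzerodivisor on one affine neighbourhood of `z`, then its stalk at `z`,
computed from any other affine neighbourhood, is generated by a nonzerodivisor -/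
theorem stalk_principal (I : X.IdealSheafData) (V W : X.affineOpens) (z : X) (hzV : z ∈ V.1) (hzW : z ∈ W.1)
    (f : Γ(X, V.1)) (hf : f ∈ nonZeroDivisors Γ(X, V.1)) (hV : I.ideal V = Ideal.span {f}) :
    ∃ f₀ ∈ nonZeroDivisors (X.presheaf.stalk z),
      (I.ideal W).map (X.presheaf.germ W.1 z hzW).hom = Ideal.span {f₀} := by
  obtain ⟨h, hhV, hzh⟩ := W.2.exists_basicOpen_le (V := V.1) ⟨z, hzV⟩ hzW
  let O : X.affineOpens := X.affineBasicOpen h
  have hOW : O ≤ W := X.basicOpen_le h
  have hOV : O ≤ V := hhV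
  have hzO : z ∈ O.1 := hzh
  have e1 : (I.ideal W).map (X.presheaf.germ W.1 z hzW).hom =
      (I.ideal O).map (X.presheaf.germ O.1 z hzO).hom := by
    have hg : X.presheaf.map (homOfLE hOW).op ≫ X.presheaf.germ O.1 z hzO =
        X.presheaf.germ W.1 z hzW := TopCat.Presheaf.germ_res X.presheaf (homOfLE hOW) z hzO
    rw [← I.map_ideal hOW, Ideal.map_map, ← CommRingCat.hom_comp, hg]
  have e2 : (I.ideal V).map (X.presheaf.germ V.1 z hzV).hom =
      (I.ideal O).map (X.presheaf.germ O.1 z hzO).hom := by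
    have hg : X.presheaf.map (homOfLE hOV).op ≫ X.presheaf.germ O.1 z hzO =
        X.presheaf.germ V.1 z hzV := TopCat.Presheaf.germ_res X.presheaf (homOfLE hOV) z hzO
    rw [← I.map_ideal hOV, Ideal.map_map, ← CommRingCat.hom_comp, hg]
  refine ⟨X.presheaf.germ V.1 z hzV f, ?_, ?_⟩
  · letI : Algebra Γ(X, V.1) (X.presheaf.stalk z) := X.presheaf.algebra_section_stalk ⟨z, hzV⟩
    haveI := V.2.isLocalization_stalk ⟨z, hzV⟩
    exact IsLocalization.map_nonZeroDivisors_le (V.2.primeIdealOf ⟨z, hzV⟩).asIdeal.primeCompl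
      (X.presheaf.stalk z) (Submonoid.mem_map_of_mem _ hf)
  · rw [e1, ← e2, hV, Ideal.map_span, Set.image_singleton]

end Stalk

section Sat

variable [IsLocallyNoetherian X] (U : X.Opens) (D : (U : Scheme.{u}).IdealSheafData)

/-- the pushforward ideal is saturated with respect to functions whose non-vanishing loci cover the open part -/
theorem mem_ideal_map_of_forall_mul_mem (W : X.affineOpens) (G : Set Γ(X, W.1))
    (hG : ∀ y ∈ W.1, y ∈ U → ∃ g ∈ G, y ∈ X.basicOpen g)
    (s : Γ(X, W.1)) (hs : ∀ g ∈ G, g * s ∈ (D.map U.ι).ideal W) : s ∈ (D.map U.ι).ideal W := by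
  set f : D.subscheme ⟶ X := D.subschemeι ≫ U.ι with hf
  have hker : (D.map U.ι).ideal W = RingHom.ker (f.app W.1).hom := Scheme.Hom.ker_apply f W
  rw [hker, RingHom.mem_ker]
  rw [hker] at hs
  refine TopCat.Sheaf.eq_of_locally_eq' D.subscheme.sheaf (fun g : G => f ⁻¹ᵁ X.basicOpen g.1) (f ⁻¹ᵁ W.1)
    (fun g => homOfLE (f.preimage_mono (X.basicOpen_le g.1))) ?_ _ 0 (fun g => ?_)
  · intro y hy
    have hyW : f y ∈ W.1 := hy
    have hyU : f y ∈ U := (D.subschemeι y).2
    obtain ⟨g, hg, hyg⟩ := hG _ hyW hyU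
    exact Opens.mem_iSup.2 ⟨⟨g, hg⟩, hyg⟩
  · have h0 : (f.app W.1).hom (g.1 * s) = 0 := hs g.1 g.2
    have hnat : X.presheaf.map (homOfLE (X.basicOpen_le g.1)).op ≫ f.app (X.basicOpen g.1) =
        f.app W.1 ≫ D.subscheme.presheaf.map
          ((Opens.map f.base).map (homOfLE (X.basicOpen_le g.1))).op :=
      f.naturality (homOfLE (X.basicOpen_le g.1)).op
    have hu : IsUnit ((f.app W.1 ≫ D.subscheme.presheaf.map
        ((Opens.map f.base).map (homOfLE (X.basicOpen_le g.1))).op).hom g.1) := by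
      rw [← hnat]
      exact (X.toRingedSpace.isUnit_res_basicOpen g.1).map (f.app (X.basicOpen g.1)).hom
    have h1 : (f.app W.1 ≫ D.subscheme.presheaf.map
        ((Opens.map f.base).map (homOfLE (X.basicOpen_le g.1))).op).hom (g.1 * s) = 0 := by
      rw [CommRingCat.hom_comp, RingHom.comp_apply, h0, map_zero]
    rw [map_mul] at h1
    have h2 := (hu.mul_right_eq_zero).1 h1
    rw [CommRingCat.hom_comp, RingHom.comp_apply] at h2
    refine Eq.trans ?_ (map_zero _).symm
    exact h2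

end Sat

section Main

variable [IsLocallyNoetherian X] (U : X.Opens) (D : (U : Scheme.{u}).IdealSheafData)

/-- the trace of an open on an affine open of a locally Noetherian scheme is the non-vanishing locus of
finitely many functions -/
theorem exists_finset (W : X.affineOpens) :
    ∃ G : Finset Γ(X, W.1), ∀ q : PrimeSpectrum Γ(X, W.1),
      W.2.fromSpec q ∈ U ↔ ∃ g ∈ G, g ∉ q.asIdeal := by
  classical
  haveI : IsNoetherianRing Γ(X, W.1) := IsLocallyNoetherian.component_noetherian W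
  have hcl : IsClosed (((W.2.fromSpec ⁻¹ᵁ U : (Spec Γ(X, W.1)).Opens) : Set (Spec Γ(X, W.1)))ᶜ) :=
    (W.2.fromSpec ⁻¹ᵁ U).2.isClosed_compl
  obtain ⟨J, hJ⟩ := (PrimeSpectrum.isClosed_iff_zeroLocus_ideal _).1 hcl
  obtain ⟨G, hG⟩ := (IsNoetherian.noetherian J : J.FG)
  refine ⟨G, fun q => ?_⟩
  have h1 : W.2.fromSpec q ∈ U ↔ q ∉ PrimeSpectrum.zeroLocus (J : Set Γ(X, W.1)) := by
    rw [← hJ]
    exact not_not.symm
  rw [h1, ← hG, PrimeSpectrum.zeroLocus_span, PrimeSpectrum.mem_zeroLocus, Set.not_subset]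
  rfl

/-- **An effective Cartier divisor on an open subscheme extends across factorial points**: the scheme-theoretic
closure ideal is effective Cartier. -/
theorem isEffCartierIdeal_map (hD : BlowUp.IsEffCartierIdeal D)
    (hufd : ∀ x : X, x ∉ U →
      IsDomain (X.presheaf.stalk x) ∧ UniqueFactorizationMonoid (X.presheaf.stalk x)) :
    BlowUp.IsEffCartierIdeal (D.map U.ι) := by
  classical
  intro x
  by_cases hxU : x ∈ U
  · obtain ⟨V', hxV', f', hf', hV'⟩ := hD ⟨x, hxU⟩
    refine ⟨⟨U.ι ''ᵁ V'.1, V'.2.image_of_isOpenImmersion U.ι⟩, ⟨⟨x, hxU⟩, hxV', rfl⟩,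
      (U.ι.appIso V'.1).inv.hom f', ?_, ?_⟩
    · have hbij : Function.Bijective (U.ι.appIso V'.1).inv.hom :=
        ConcreteCategory.bijective_of_isIso (U.ι.appIso V'.1).inv
      rw [mem_nonZeroDivisors_iff_right] at hf' ⊢
      intro z hz
      obtain ⟨z', rfl⟩ := hbij.2 z
      rw [← map_mul] at hz
      have := hf' z' (hbij.1 (hz.trans (map_zero _).symm))
      rw [this, map_zero]
    · rw [ideal_map_image, hV', Ideal.map_span, Set.image_singleton]
  · obtain ⟨hdom, hufd'⟩ := hufd x hxU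
    obtain ⟨W0, hW0, hxW, -⟩ := exists_isAffineOpen_mem_and_subset (x := x) (U := ⊤) trivial
    let W : X.affineOpens := ⟨W0, hW0⟩
    haveI : IsNoetherianRing Γ(X, W0) := IsLocallyNoetherian.component_noetherian W
    obtain ⟨G, hG⟩ := exists_finset U W
    letI : Algebra Γ(X, W0) (X.presheaf.stalk x) :=
      TopCat.Presheaf.algebra_section_stalk X.presheaf ⟨x, hxW⟩
    haveI : IsLocalization.AtPrime (X.presheaf.stalk x) (hW0.primeIdealOf ⟨x, hxW⟩).asIdeal :=
      hW0.isLocalization_stalk ⟨x, hxW⟩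
    have hsat : ∀ s : Γ(X, W0), (∀ g ∈ G, g * s ∈ (D.map U.ι).ideal W) → s ∈ (D.map U.ι).ideal W := by
      intro s hs
      refine mem_ideal_map_of_forall_mul_mem U D W (G : Set Γ(X, W0)) ?_ s (fun g hg => hs g hg)
      intro y hyW hyU
      have hy1 : hW0.fromSpec (hW0.primeIdealOf ⟨y, hyW⟩) = y := hW0.fromSpec_primeIdealOf ⟨y, hyW⟩
      obtain ⟨g, hg, hgq⟩ := (hG (hW0.primeIdealOf ⟨y, hyW⟩)).1 (by rw [hy1]; exact hyU)
      refine ⟨g, hg, ?_⟩
      rw [← hy1]
      exact (Groth.Agent.Lib.Helper2.QCoh.mem_basicOpen_fromSpec_iff hW0 _ g).2 hgq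
    have hloc : ∀ (q : Ideal Γ(X, W0)) [q.IsPrime], q ≤ (hW0.primeIdealOf ⟨x, hxW⟩).asIdeal →
        (∃ g ∈ G, g ∉ q) → ∃ f ∈ nonZeroDivisors (Localization.AtPrime q),
          ((D.map U.ι).ideal W).map (algebraMap Γ(X, W0) (Localization.AtPrime q)) =
            Ideal.span {f} := by
      intro q hq _ hGq
      let q' : PrimeSpectrum Γ(X, W0) := ⟨q, hq⟩
      have hzU : hW0.fromSpec q' ∈ U := (hG q').2 hGq
      have hzW : hW0.fromSpec q' ∈ W0 := Groth.Agent.Lib.Helper2.QCoh.fromSpec_mem hW0 q'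
      obtain ⟨V', hzV', f', hf', hV'⟩ := hD ⟨hW0.fromSpec q', hzU⟩
      let V : X.affineOpens := ⟨U.ι ''ᵁ V'.1, V'.2.image_of_isOpenImmersion U.ι⟩
      have hzV : hW0.fromSpec q' ∈ V.1 := ⟨⟨hW0.fromSpec q', hzU⟩, hzV', rfl⟩
      have hbij : Function.Bijective (U.ι.appIso V'.1).inv.hom :=
        ConcreteCategory.bijective_of_isIso (U.ι.appIso V'.1).inv
      have hfV : (U.ι.appIso V'.1).inv.hom f' ∈ nonZeroDivisors Γ(X, V.1) := by
        rw [mem_nonZeroDivisors_iff_right] at hf' ⊢
        intro z hz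
        obtain ⟨z', rfl⟩ := hbij.2 z
        rw [← map_mul] at hz
        have := hf' z' (hbij.1 (hz.trans (map_zero _).symm))
        rw [this, map_zero]
      have hIV : (D.map U.ι).ideal V = Ideal.span {(U.ι.appIso V'.1).inv.hom f'} := by
        rw [ideal_map_image, hV', Ideal.map_span, Set.image_singleton]
      obtain ⟨f₀, hf₀, hf₀span⟩ := stalk_principal (D.map U.ι) V W (hW0.fromSpec q') hzV hzW _ hfV hIV
      letI : Algebra Γ(X, W0) (X.presheaf.stalk (hW0.fromSpec q')) :=
        TopCat.Presheaf.algebra_section_stalk X.presheaf ⟨hW0.fromSpec q', hzW⟩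
      haveI : IsLocalization.AtPrime (X.presheaf.stalk (hW0.fromSpec q')) q :=
        hW0.isLocalization_stalk' q' hzW
      exact Groth.Agent.Lib.T2H4.CartierExtAlg.principal_transfer q.primeCompl
        (X.presheaf.stalk (hW0.fromSpec q')) (Localization.AtPrime q) ((D.map U.ι).ideal W)
        ⟨f₀, hf₀, hf₀span⟩
    obtain ⟨a, haI, hspan, ha0⟩ := Groth.Agent.Lib.T2H4.CartierExtAlg.exists_principal_of_saturated
      (hW0.primeIdealOf ⟨x, hxW⟩).asIdeal (X.presheaf.stalk x) ((D.map U.ι).ideal W) G hsat hloc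
    obtain ⟨g, hg, H⟩ := Groth.Agent.Lib.T2H2.UFDCartier.exists_away_of_map_eq_span
      ((D.map U.ι).ideal W) (hW0.primeIdealOf ⟨x, hxW⟩).asIdeal (X.presheaf.stalk x) a haI hspan ha0
    have hlocg : IsLocalization.Away g Γ(X, X.basicOpen g) := hW0.isLocalization_basicOpen g
    obtain ⟨H1, H2⟩ := H Γ(X, X.basicOpen g)
    refine ⟨X.affineBasicOpen (U := W) g, ?_, algebraMap Γ(X, W0) Γ(X, X.basicOpen g) a, H2, ?_⟩
    · change x ∈ X.basicOpen g
      exact (Groth.Agent.Lib.Helper2.mem_basicOpen_iff_notMem_primeIdealOf hW0 x hxW g).2 hg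
    · exact ((D.map U.ι).map_ideal_basicOpen W g).symm.trans H1

end Main

end Groth.Agent.Lib.T2H4.CartierExt
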