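import Mathlib
import Groth.Agent.Lib.Helper28Normal
import Groth.Agent.Lib.T2H2UFDCartier2

/-!
# T2H4CartierPullAlg: divisibility in normal Noetherian rings is detected at discrete valuation rings (helper4)

Namespace `Groth.Agent.Lib.T2H4.CartierPullAlg`.
-/

set_option autoImplicit false
set_option linter.style.haveILetI false
set_option linter.unusedSectionVars false
universe u

namespace Groth.Agent.Lib.T2H4.CartierPullAlg

variable {B : Type u} [CommRing B] [IsNoetherianRing B]

/-- if `e ∉ (d)` there is an associated prime `P = ((d) : e')` of `B/(d)` containing `((d) : e)` -/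
theorem exists_prime_colon (d e : B) (he : e ∉ Ideal.span {d}) :
    ∃ (P : Ideal B) (_ : P.IsPrime) (e' : B), (∀ r, r ∈ P ↔ r * e' ∈ Ideal.span {d}) ∧
      ∀ r, r * e ∈ Ideal.span {d} → r ∈ P := by
  have hx : (Ideal.Quotient.mk (Ideal.span {d}) e : B ⧸ Ideal.span {d}) ≠ 0 := by
    rw [Ne, Ideal.Quotient.eq_zero_iff_mem]
    exact he
  obtain ⟨P, hPass, hle⟩ := exists_le_isAssociatedPrime_of_isNoetherianRing B
    (Ideal.Quotient.mk (Ideal.span {d}) e : B ⧸ Ideal.span {d}) hx
  obtain ⟨hPp, e', he'⟩ :=
    (Groth.Agent.Lib.T2H2.UFDCartier.isAssociatedPrime_quotient_iff (Ideal.span {d}) P).1 hPass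
  refine ⟨P, hPp, e', he', fun r hr => hle ?_⟩
  rw [Submodule.mem_colon_singleton, Submodule.mem_bot]
  change Ideal.Quotient.mk (Ideal.span {d}) (r * e) = 0
  exact Ideal.Quotient.eq_zero_iff_mem.2 hr

/-- at such an associated prime of a normal ring the local ring is a discrete valuation ring, in which `d` is a
proper multiple of `e` -/
theorem exists_mul_eq_of_colon (P : Ideal B) [P.IsPrime] (A : Type u) [CommRing A] [Algebra B A]
    [IsLocalization.AtPrime A P] [IsDomain A] [IsIntegrallyClosed A] (d e e' : B)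
    (hd : algebraMap B A d ≠ 0) (hP : ∀ r, r ∈ P ↔ r * e' ∈ Ideal.span {d})
    (he : ∀ r, r * e ∈ Ideal.span {d} → r ∈ P) :
    ∃ z : A, ¬ IsUnit z ∧ algebraMap B A d = z * algebraMap B A e := by
  haveI : IsLocalRing A := IsLocalization.AtPrime.isLocalRing A P
  haveI : IsNoetherianRing A := IsLocalization.isNoetherianRing P.primeCompl A inferInstance
  have hdP : d ∈ P := (hP d).2 (Ideal.mul_mem_right _ _ (Ideal.mem_span_singleton_self d))
  have ham : algebraMap B A d ∈ IsLocalRing.maximalIdeal A :=
    (IsLocalization.AtPrime.to_map_mem_maximal_iff A P d).2 hdP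
  -- membership in `(d) A` descends
  have hdesc : ∀ b : B, algebraMap B A b ∈ Ideal.span {algebraMap B A d} →
      ∃ s : B, s ∉ P ∧ s * b ∈ Ideal.span {d} := by
    intro b hb
    have hb' : algebraMap B A b ∈ (Ideal.span {d}).map (algebraMap B A) := by
      rw [Ideal.map_span, Set.image_singleton]
      exact hb
    obtain ⟨s, hs, hsb⟩ :=
      (IsLocalization.algebraMap_mem_map_algebraMap_iff P.primeCompl A (Ideal.span {d}) b).1 hb'
    exact ⟨s, hs, hsb⟩
  have hb : algebraMap B A e' ∉ Ideal.span {algebraMap B A d} := by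
    intro hmem
    obtain ⟨s, hs, hse⟩ := hdesc e' hmem
    exact hs ((hP s).2 hse)
  have hcolon : ∀ x ∈ IsLocalRing.maximalIdeal A,
      algebraMap B A e' * x ∈ Ideal.span {algebraMap B A d} := by
    intro x hx
    obtain ⟨x₀, s, hxs⟩ := IsLocalization.exists_mk'_eq P.primeCompl x
    have hx₀ : x₀ ∈ P := by
      by_contra hx₀
      apply (IsLocalRing.mem_maximalIdeal x).1 hx
      rw [← hxs]
      exact IsLocalization.AtPrime.isUnit_mk'_iff A P x₀ s |>.2 hx₀
    obtain ⟨c, hc⟩ := Ideal.mem_span_singleton'.1 ((hP x₀).1 hx₀)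
    -- hc : c * d = x₀ * e'
    rw [Ideal.mem_span_singleton']
    refine ⟨IsLocalization.mk' A c s, ?_⟩
    have hu : IsUnit (algebraMap B A s) := IsLocalization.map_units A s
    apply hu.mul_left_injective
    change IsLocalization.mk' A c s * algebraMap B A d * algebraMap B A s =
      algebraMap B A e' * x * algebraMap B A s
    rw [← hxs]
    have h1 : IsLocalization.mk' A c s * algebraMap B A s = algebraMap B A c :=
      IsLocalization.mk'_spec A c s
    have h2 : IsLocalization.mk' A x₀ s * algebraMap B A s = algebraMap B A x₀ :=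
      IsLocalization.mk'_spec A x₀ s
    calc IsLocalization.mk' A c s * algebraMap B A d * algebraMap B A s
        = (IsLocalization.mk' A c s * algebraMap B A s) * algebraMap B A d := by ring
      _ = algebraMap B A (c * d) := by rw [h1, map_mul]
      _ = algebraMap B A (x₀ * e') := by rw [hc]
      _ = algebraMap B A e' * (IsLocalization.mk' A x₀ s * algebraMap B A s) := by
          rw [h2, map_mul, mul_comm]
      _ = algebraMap B A e' * IsLocalization.mk' A x₀ s * algebraMap B A s := by ring
  have hprin : (IsLocalRing.maximalIdeal A).IsPrincipal :=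
    Groth.Agent.Lib.Helper28.isPrincipal_maximalIdeal_of_colon hd ham hb hcolon
  have hnf : ¬ IsField A := by
    rw [IsLocalRing.isField_iff_maximalIdeal_eq]
    intro h0
    rw [h0, Ideal.mem_bot] at ham
    exact hd ham
  haveI : IsDiscreteValuationRing A := ((IsDiscreteValuationRing.TFAE A hnf).out 4 0).1 hprin
  have hnd : ¬ algebraMap B A d ∣ algebraMap B A e := by
    intro hdvd
    obtain ⟨s, hs, hse⟩ := hdesc e (Ideal.mem_span_singleton.2 hdvd)
    exact hs (he s hse)
  rcases ValuationRing.dvd_total (algebraMap B A d) (algebraMap B A e) with h | h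
  · exact absurd h hnd
  · obtain ⟨z, hz⟩ := h
    refine ⟨z, fun hu => hnd ?_, by rw [hz, mul_comm]⟩
    obtain ⟨u, rfl⟩ := hu
    exact ⟨↑u⁻¹, by rw [hz, mul_assoc, Units.mul_inv, mul_one]⟩

end Groth.Agent.Lib.T2H4.CartierPullAlg
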