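import Mathlib

/-!
# T2H4EffCartProdAlg: factorisation of a principal ideal into principal primes (helper4)

Namespace `Groth.Agent.Lib.T2H4.EffCartProdAlg`.
-/

set_option autoImplicit false
set_option linter.style.haveILetI false
set_option linter.unusedSectionVars false
universe u

namespace Groth.Agent.Lib.T2H4.EffCartProdAlg

variable {A : Type u} [CommRing A]

/-- a prime containing a nonzerodivisor and contained in a prime of height at most one equals it -/
theorem eq_of_le_of_height_le_one [IsNoetherianRing A] (P' q : Ideal A) [P'.IsPrime] [q.IsPrime]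
    (p' : A) (hp' : p' ∈ nonZeroDivisors A) (hP' : p' ∈ P') (hq : q.height ≤ 1) (hle : P' ≤ q) :
    P' = q := by
  by_contra hne
  have hlt : P' < q := lt_of_le_of_ne hle hne
  have h1 : P'.height < q.height := Ideal.height_strict_mono_of_isPrime hlt
  have h0 : P'.height = 0 := by
    have : P'.height < 1 := lt_of_lt_of_le h1 hq
    exact Order.lt_one_iff.1 this
  have hmin : P' ∈ minimalPrimes A := Ideal.height_eq_zero_iff.1 h0
  exact Set.disjoint_left.1 (Ideal.disjoint_nonZeroDivisors_of_mem_minimalPrimes hmin) hP' hp'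

/-- **Factorisation**: in a Noetherian ring, a principal ideal generated by a nonzerodivisor whose zero locus is
contained in the union of the zero loci of finitely many principal ideals `P i`, each generated by a nonzerodivisor
and either prime or the unit ideal, is a product of powers of the `P i`. -/
theorem exists_prod_pow_eq [IsNoetherianRing A] {ι : Type*} [DecidableEq ι] (T : Finset ι)
    (P : ι → Ideal A)
    (hP : ∀ i ∈ T, (∃ p ∈ nonZeroDivisors A, P i = Ideal.span {p}) ∧ ((P i).IsPrime ∨ P i = ⊤))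
    (J : Ideal A) (hJ : ∃ f ∈ nonZeroDivisors A, J = Ideal.span {f})
    (hsub : PrimeSpectrum.zeroLocus (J : Set A) ⊆ ⋃ i ∈ T, PrimeSpectrum.zeroLocus (P i : Set A)) :
    ∃ b : ι → ℕ, J = ∏ i ∈ T, P i ^ b i := by
  revert hJ hsub
  refine IsNoetherian.induction (P := fun J : Ideal A =>
    (∃ f ∈ nonZeroDivisors A, J = Ideal.span {f}) →
    PrimeSpectrum.zeroLocus (J : Set A) ⊆ ⋃ i ∈ T, PrimeSpectrum.zeroLocus (P i : Set A) →
    ∃ b : ι → ℕ, J = ∏ i ∈ T, P i ^ b i) (fun J IH => ?_) J
  rintro ⟨f, hf, rfl⟩ hsub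
  by_cases htop : Ideal.span {f} = ⊤
  · refine ⟨fun _ => 0, ?_⟩
    rw [htop]
    simp only [pow_zero, Finset.prod_const_one]
    exact Ideal.one_eq_top.symm
  · obtain ⟨q, hq⟩ := Ideal.nonempty_minimalPrimes htop
    haveI hqp : q.IsPrime := hq.1.1
    have hJq : Ideal.span {f} ≤ q := hq.1.2
    haveI : (Ideal.span {f}).IsPrincipal := ⟨⟨f, rfl⟩⟩
    have hht : q.height ≤ 1 := Ideal.height_le_one_of_isPrincipal_of_mem_minimalPrimes _ q hq
    have hmem : (⟨q, hqp⟩ : PrimeSpectrum A) ∈ PrimeSpectrum.zeroLocus ((Ideal.span {f} : Ideal A) : Set A) :=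
      hJq
    obtain ⟨i, hi⟩ := Set.mem_iUnion.1 (hsub hmem)
    obtain ⟨hiT, hiq⟩ := Set.mem_iUnion.1 hi
    have hPiq : P i ≤ q := hiq
    obtain ⟨⟨p, hp, hPp⟩, hpt⟩ := hP i hiT
    have hPiprime : (P i).IsPrime := by
      rcases hpt with h | h
      · exact h
      · exact absurd (top_le_iff.1 (h ▸ hPiq)) hqp.ne_top
    have hPq : P i = q := eq_of_le_of_height_le_one (P i) q p hp
      (by rw [hPp]; exact Ideal.mem_span_singleton_self p) hht hPiq
    have hfp : f ∈ Ideal.span {p} := by
      rw [← hPp, hPq]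
      exact hJq (Ideal.mem_span_singleton_self f)
    obtain ⟨f', hf'⟩ := Ideal.mem_span_singleton'.1 hfp
    -- hf' : f' * p = f
    have hf'nzd : f' ∈ nonZeroDivisors A := by
      rw [← hf'] at hf
      exact (mul_mem_nonZeroDivisors.1 hf).1
    have hpnu : ¬ IsUnit p := by
      intro hu
      apply hPiprime.ne_top
      rw [hPp]
      exact Ideal.span_singleton_eq_top.2 hu
    have hlt : Ideal.span {f} < Ideal.span {f'} := by
      refine lt_of_le_of_ne ?_ ?_
      · rw [Ideal.span_singleton_le_span_singleton]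
        exact ⟨p, by rw [← hf', mul_comm]⟩
      · intro heq
        have hmem' : f' ∈ Ideal.span {f} := by
          rw [heq]
          exact Ideal.mem_span_singleton_self f'
        obtain ⟨c, hc⟩ := Ideal.mem_span_singleton'.1 hmem'
        -- hc : c * f = f'
        have h0 : f' * (c * p - 1) = 0 := by
          have : c * (f' * p) = f' := by rw [hf']; exact hc
          linear_combination this
        have h1 : c * p - 1 = 0 := by
          rw [mem_nonZeroDivisors_iff] at hf'nzd
          exact hf'nzd.1 _ h0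
        exact hpnu (IsUnit.of_mul_eq_one c (by rw [mul_comm]; exact sub_eq_zero.1 h1))
    have hsub' : PrimeSpectrum.zeroLocus ((Ideal.span {f'} : Ideal A) : Set A) ⊆
        ⋃ i ∈ T, PrimeSpectrum.zeroLocus (P i : Set A) :=
      (PrimeSpectrum.zeroLocus_anti_mono_ideal hlt.le).trans hsub
    obtain ⟨b', hb'⟩ := IH (Ideal.span {f'}) hlt ⟨f', hf'nzd, rfl⟩ hsub'
    refine ⟨fun k => b' k + if k = i then 1 else 0, ?_⟩
    have hprod : ∏ k ∈ T, P k ^ (b' k + if k = i then 1 else 0) =
        (∏ k ∈ T, P k ^ b' k) * P i := by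
      simp only [pow_add, Finset.prod_mul_distrib]
      congr 1
      have : ∀ k ∈ T, P k ^ (if k = i then 1 else 0) = if k = i then P k else 1 := by
        intro k _
        split_ifs <;> simp
      rw [Finset.prod_congr rfl this, Finset.prod_ite_eq' T i P, if_pos hiT]
    rw [hprod, ← hb', hPp, Ideal.span_singleton_mul_span_singleton, hf']

/-- **Uniqueness of the exponents**. -/
theorem prod_le_pow_iff {ι : Type*} [DecidableEq ι] (T : Finset ι) (P : ι → Ideal A) (b : ι → ℕ)
    (i₀ : ι) (hi₀ : i₀ ∈ T) (hprime : (P i₀).IsPrime) (p : A) (hp : p ∈ nonZeroDivisors A)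
    (hPp : P i₀ = Ideal.span {p}) (hne : ∀ j ∈ T, j ≠ i₀ → ¬ P j ≤ P i₀) (n : ℕ) :
    (∏ i ∈ T, P i ^ b i) ≤ P i₀ ^ n ↔ n ≤ b i₀ := by
  rw [← Finset.mul_prod_erase T (fun i => P i ^ b i) hi₀]
  set Q := ∏ i ∈ T.erase i₀, P i ^ b i with hQdef
  have hQ : ¬ Q ≤ P i₀ := by
    intro hle
    obtain ⟨j, hj, hjle⟩ := (Ideal.IsPrime.prod_le hprime).1 hle
    have hjT := Finset.mem_of_mem_erase hj
    have hjne := Finset.ne_of_mem_erase hj
    exact hne j hjT hjne (Ideal.IsPrime.le_of_pow_le hjle)
  constructor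
  · intro hle
    by_contra hlt
    push Not at hlt
    apply hQ
    have h1 : P i₀ ^ b i₀ * Q ≤ P i₀ ^ (b i₀ + 1) := hle.trans (Ideal.pow_le_pow_right hlt)
    intro q hq
    have h2 : p ^ b i₀ * q ∈ P i₀ ^ (b i₀ + 1) := by
      apply h1
      refine Ideal.mul_mem_mul ?_ hq
      rw [hPp, Ideal.span_singleton_pow]
      exact Ideal.mem_span_singleton_self _
    rw [hPp, Ideal.span_singleton_pow] at h2
    obtain ⟨c, hc⟩ := Ideal.mem_span_singleton'.1 h2
    -- hc : c * p ^ (b i₀ + 1) = p ^ b i₀ * q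
    have h3 : (q - c * p) * p ^ b i₀ = 0 := by
      have : c * p ^ (b i₀ + 1) = c * p * p ^ b i₀ := by ring
      linear_combination (-1 : A) * hc + this
    have hpn : p ^ b i₀ ∈ nonZeroDivisors A := pow_mem hp _
    have h4 : q - c * p = 0 := (mem_nonZeroDivisors_iff.1 hpn).2 _ h3
    rw [hPp]
    exact Ideal.mem_span_singleton'.2 ⟨c, (sub_eq_zero.1 h4).symm⟩
  · intro hle
    exact Ideal.mul_le_left.trans (Ideal.pow_le_pow_right hle)

end Groth.Agent.Lib.T2H4.EffCartProdAlg
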