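import Mathlib
import Groth.Prelude.Def_BlowUp2
import Groth.Agent.Lib.T2H4EffCartProdAlg
import Groth.Agent.Lib.Helper2QCoh
set_option backward.isDefEq.respectTransparency.types false

/-!
# T2H4EffCartProd: an effective Cartier divisor supported on integral effective Cartier divisors is a product of
their powers (helper4)

Namespace `Groth.Agent.Lib.T2H4.EffCartProd`.
-/

set_option autoImplicit false
set_option linter.style.haveILetI false
set_option linter.unusedSectionVars false
universe u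
open CategoryTheory CategoryTheory.Limits AlgebraicGeometry TopologicalSpace Opposite

namespace Groth.Agent.Lib.T2H4.EffCartProd

variable {X : Scheme.{u}}

/-- sections of a finite product of powers of ideal sheaves -/
theorem ideal_prod_pow {ι : Type*} (T : Finset ι) (I : ι → X.IdealSheafData) (a : ι → ℕ)
    (U : X.affineOpens) : (∏ i ∈ T, I i ^ a i).ideal U = ∏ i ∈ T, (I i).ideal U ^ a i := by
  classical
  induction T using Finset.induction_on with
  | empty =>
    rw [Finset.prod_empty, Finset.prod_empty]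
    exact Ideal.one_eq_top.symm
  | insert i s hi ih =>
    rw [Finset.prod_insert hi, Finset.prod_insert hi, ← ih]
    rfl

theorem ideal_map_prod_pow {R S : Type*} [CommRing R] [CommRing S] (f : R →+* S) {ι : Type*}
    (T : Finset ι) (I : ι → Ideal R) (b : ι → ℕ) :
    Ideal.map f (∏ i ∈ T, I i ^ b i) = ∏ i ∈ T, (Ideal.map f (I i)) ^ b i := by
  classical
  induction T using Finset.induction_on with
  | empty =>
    rw [Finset.prod_empty, Finset.prod_empty, Ideal.one_eq_top, Ideal.map_top, Ideal.one_eq_top]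
  | insert i s hi ih =>
    rw [Finset.prod_insert hi, Finset.prod_insert hi, Ideal.map_mul, Ideal.map_pow, ih]

section Support

/-- membership of the support in terms of the prime spectrum of an affine open -/
theorem fromSpec_mem_support_iff (I : X.IdealSheafData) (U : X.affineOpens)
    (q : PrimeSpectrum Γ(X, U.1)) : U.2.fromSpec q ∈ I.support ↔ I.ideal U ≤ q.asIdeal := by
  have hqU : U.2.fromSpec q ∈ U.1 := Groth.Agent.Lib.Helper2.QCoh.fromSpec_mem U.2 q
  have hinter := I.coe_support_inter U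
  rw [← U.2.fromSpec_image_zeroLocus] at hinter
  constructor
  · intro h
    have hmem : U.2.fromSpec q ∈ (I.support : Set X) ∩ U.1 := ⟨h, hqU⟩
    rw [hinter] at hmem
    obtain ⟨q', hq', hqq'⟩ := hmem
    have : q' = q := U.2.fromSpec.isOpenEmbedding.injective hqq'
    subst this
    exact hq'
  · intro h
    have hmem : U.2.fromSpec q ∈ U.2.fromSpec '' PrimeSpectrum.zeroLocus (I.ideal U : Set Γ(X, U.1)) :=
      ⟨q, h, rfl⟩
    rw [← hinter] at hmem
    exact hmem.1

theorem mem_support_iff_le_primeIdealOf (I : X.IdealSheafData) (U : X.affineOpens) (x : X)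
    (hxU : x ∈ U.1) : x ∈ I.support ↔ I.ideal U ≤ (U.2.primeIdealOf ⟨x, hxU⟩).asIdeal := by
  rw [← fromSpec_mem_support_iff, U.2.fromSpec_primeIdealOf]

theorem ideal_ne_top_iff (I : X.IdealSheafData) (U : X.affineOpens) :
    I.ideal U ≠ ⊤ ↔ ∃ y ∈ U.1, y ∈ I.support := by
  constructor
  · intro h
    obtain ⟨m, hm, hle⟩ := Ideal.exists_le_maximal _ h
    refine ⟨U.2.fromSpec ⟨m, hm.isPrime⟩, Groth.Agent.Lib.Helper2.QCoh.fromSpec_mem U.2 _, ?_⟩
    exact (fromSpec_mem_support_iff I U ⟨m, hm.isPrime⟩).2 hle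
  · rintro ⟨y, hyU, hy⟩ htop
    have := (mem_support_iff_le_primeIdealOf I U y hyU).1 hy
    rw [htop] at this
    exact (U.2.primeIdealOf ⟨y, hyU⟩).isPrime.ne_top (top_le_iff.1 this)

end Support

section Integral

variable (E : X.IdealSheafData)

/-- sections of an integral ideal sheaf on an affine open form a prime ideal or the unit ideal -/
theorem ideal_isPrime_or_eq_top [IsIntegral E.subscheme] (U : X.affineOpens) :
    (E.ideal U).IsPrime ∨ E.ideal U = ⊤ := by
  rw [← E.ker_subschemeι_app U]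
  by_cases hne : Nonempty (E.subschemeι ⁻¹ᵁ U.1 : E.subscheme.Opens)
  · left
    haveI : IsDomain Γ(E.subscheme, E.subschemeι ⁻¹ᵁ U.1) := inferInstance
    exact RingHom.ker_isPrime _
  · right
    have hbot : E.subschemeι ⁻¹ᵁ U.1 = ⊥ := by
      rw [← Opens.not_nonempty_iff_eq_bot]
      rintro ⟨y, hy⟩
      exact hne ⟨⟨y, hy⟩⟩
    have hsub : Subsingleton Γ(E.subscheme, E.subschemeι ⁻¹ᵁ U.1) := by
      rw [hbot]
      infer_instance
    rw [Ideal.eq_top_iff_one, RingHom.mem_ker]
    exact Subsingleton.elim _ _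

theorem eq_vanishingIdeal_support [IsIntegral E.subscheme] :
    E = Scheme.IdealSheafData.vanishingIdeal E.support := by
  rw [Scheme.IdealSheafData.vanishingIdeal_support]
  refine Scheme.IdealSheafData.ext (funext fun U => ?_)
  rw [Scheme.IdealSheafData.radical_ideal]
  rcases ideal_isPrime_or_eq_top E U with h | h
  · exact h.radical.symm
  · rw [h, Ideal.radical_top]

theorem isIrreducible_support [IsIntegral E.subscheme] : IsIrreducible (E.support : Set X) := by
  rw [← E.range_subschemeι, ← Set.image_univ]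
  exact (IrreducibleSpace.isIrreducible_univ E.subscheme).image _ E.subschemeι.continuous.continuousOn

/-- an integral ideal sheaf is determined by its support on an open set meeting it -/
theorem eq_of_support_inter_eq (E' : X.IdealSheafData) [IsIntegral E.subscheme]
    [IsIntegral E'.subscheme] (V : Set X) (hV : IsOpen V)
    (h : (E.support : Set X) ∩ V = (E'.support : Set X) ∩ V)
    (hne : ((E.support : Set X) ∩ V).Nonempty) : E = E' := by
  have h1 : (E.support : Set X) = closure ((E.support : Set X) ∩ V) :=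
    Set.Subset.antisymm
      (subset_closure_inter_of_isPreirreducible_of_isOpen (isIrreducible_support E).isPreirreducible
        hV hne)
      (closure_minimal Set.inter_subset_left E.support.isClosed)
  have h2 : (E'.support : Set X) = closure ((E'.support : Set X) ∩ V) :=
    Set.Subset.antisymm
      (subset_closure_inter_of_isPreirreducible_of_isOpen (isIrreducible_support E').isPreirreducible
        hV (h ▸ hne))
      (closure_minimal Set.inter_subset_left E'.support.isClosed)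
  have h3 : E.support = E'.support := Closeds.ext (by rw [h1, h2, h])
  rw [eq_vanishingIdeal_support E, eq_vanishingIdeal_support E', h3]

end Integral

section Good

/-- an affine open on which all ideal sheaves of a finite set are generated by one nonzerodivisor -/
def Good (𝓢 : Finset X.IdealSheafData) (U : X.affineOpens) : Prop :=
  ∀ E ∈ 𝓢, ∃ f ∈ nonZeroDivisors Γ(X, U.1), E.ideal U = Ideal.span {f}

theorem principal_basicOpen (E : X.IdealSheafData) (U : X.affineOpens)
    (h : ∃ f ∈ nonZeroDivisors Γ(X, U.1), E.ideal U = Ideal.span {f}) (r : Γ(X, U.1)) :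
    ∃ f ∈ nonZeroDivisors Γ(X, (X.affineBasicOpen r).1),
      E.ideal (X.affineBasicOpen r) = Ideal.span {f} := by
  obtain ⟨f, hf, hE⟩ := h
  have hloc : IsLocalization.Away r Γ(X, X.basicOpen r) := U.2.isLocalization_basicOpen r
  refine ⟨algebraMap Γ(X, U.1) Γ(X, X.basicOpen r) f, ?_, ?_⟩
  · exact IsLocalization.map_nonZeroDivisors_le (Submonoid.powers r) Γ(X, X.basicOpen r)
      (Submonoid.mem_map_of_mem _ hf)
  · rw [← E.map_ideal_basicOpen U r, hE, Ideal.map_span, Set.image_singleton]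
    rfl

theorem good_basicOpen (𝓢 : Finset X.IdealSheafData) (U : X.affineOpens) (h : Good 𝓢 U)
    (r : Γ(X, U.1)) : Good 𝓢 (X.affineBasicOpen r) :=
  fun E hE => principal_basicOpen E U (h E hE) r

theorem exists_good (𝓢 : Finset X.IdealSheafData) (h𝓢 : ∀ E ∈ 𝓢, BlowUp.IsEffCartierIdeal E) (x : X) :
    ∃ U : X.affineOpens, x ∈ U.1 ∧ Good 𝓢 U := by
  classical
  induction 𝓢 using Finset.induction_on with
  | empty =>
    obtain ⟨U, hU, hxU, -⟩ := exists_isAffineOpen_mem_and_subset (x := x) (U := ⊤) trivial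
    exact ⟨⟨U, hU⟩, hxU, fun E hE => absurd hE (Finset.notMem_empty E)⟩
  | insert E s hE ih =>
    obtain ⟨U₀, hx0, hgood⟩ := ih (fun E' hE' => h𝓢 E' (Finset.mem_insert_of_mem hE'))
    obtain ⟨U₁, hx1, hprin⟩ := h𝓢 E (Finset.mem_insert_self E s) x
    obtain ⟨r, r', e, hxr⟩ := exists_basicOpen_le_affine_inter U₀.2 U₁.2 x ⟨hx0, hx1⟩
    have hVV' : X.affineBasicOpen r = X.affineBasicOpen r' := Subtype.ext e
    refine ⟨X.affineBasicOpen r, hxr, fun E' hE' => ?_⟩
    rcases Finset.mem_insert.1 hE' with rfl | hE's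
    · rw [hVV']
      exact principal_basicOpen E' U₁ hprin r'
    · exact principal_basicOpen E' U₀ (hgood E' hE's) r

end Good

section Factor

variable [IsNoetherian X] [DecidableEq X.IdealSheafData] (T : Finset X.IdealSheafData)
  (D : X.IdealSheafData)

/-- restriction of a factorisation to a smaller affine open -/
theorem factor_restrict {U V : X.affineOpens} (hVU : V ≤ U) (b : X.IdealSheafData → ℕ)
    (hb : D.ideal U = ∏ E ∈ T, E.ideal U ^ b E) : D.ideal V = ∏ E ∈ T, E.ideal V ^ b E := by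
  rw [← D.map_ideal hVU, hb, ideal_map_prod_pow]
  refine Finset.prod_congr rfl (fun E _ => ?_)
  rw [E.map_ideal hVU]

/-- distinct integral effective Cartier divisors have incomparable ideals on a good open -/
theorem not_le_of_ne (E E' : X.IdealSheafData) [IsIntegral E.subscheme] [IsIntegral E'.subscheme]
    (V : X.affineOpens) (hE : ∃ f ∈ nonZeroDivisors Γ(X, V.1), E.ideal V = Ideal.span {f})
    (hE' : ∃ f ∈ nonZeroDivisors Γ(X, V.1), E'.ideal V = Ideal.span {f})
    (hne : E' ≠ E) (htop : E.ideal V ≠ ⊤) : ¬ E'.ideal V ≤ E.ideal V := by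
  intro hle
  haveI : IsNoetherianRing Γ(X, V.1) := IsLocallyNoetherian.component_noetherian V
  haveI hP : (E.ideal V).IsPrime := (ideal_isPrime_or_eq_top E V).resolve_right htop
  have htop' : E'.ideal V ≠ ⊤ := fun h => htop (top_le_iff.1 (h ▸ hle))
  haveI hP' : (E'.ideal V).IsPrime := (ideal_isPrime_or_eq_top E' V).resolve_right htop'
  obtain ⟨p, hp, hEp⟩ := hE
  obtain ⟨p', hp', hEp'⟩ := hE'
  have hht : (E.ideal V).height ≤ 1 := by
    haveI : (Ideal.span {p}).IsPrincipal := ⟨⟨p, rfl⟩⟩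
    refine Ideal.height_le_one_of_isPrincipal_of_mem_minimalPrimes (Ideal.span {p}) _ ?_
    rw [← hEp, Ideal.minimalPrimes_eq_subsingleton_self]
    rfl
  have heq : E'.ideal V = E.ideal V :=
    Groth.Agent.Lib.T2H4.EffCartProdAlg.eq_of_le_of_height_le_one _ _ p' hp'
      (by rw [hEp']; exact Ideal.mem_span_singleton_self p') hht hle
  apply hne
  obtain ⟨y, hyV, hy⟩ := (ideal_ne_top_iff E V).1 htop
  refine (eq_of_support_inter_eq E E' (V.1 : Set X) V.1.2 ?_ ⟨y, hy, hyV⟩).symm
  ext z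
  constructor
  · rintro ⟨hz, hzV⟩
    refine ⟨?_, hzV⟩
    rw [SetLike.mem_coe, mem_support_iff_le_primeIdealOf E' V z hzV, heq]
    exact (mem_support_iff_le_primeIdealOf E V z hzV).1 hz
  · rintro ⟨hz, hzV⟩
    refine ⟨?_, hzV⟩
    rw [SetLike.mem_coe, mem_support_iff_le_primeIdealOf E V z hzV, ← heq]
    exact (mem_support_iff_le_primeIdealOf E' V z hzV).1 hz

/-- local factorisation on a good affine open -/
theorem exists_factor (hint : ∀ E ∈ T, IsIntegral E.subscheme)
    (hsub : (D.support : Set X) ⊆ ⋃ E ∈ T, (E.support : Set X))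
    (U : X.affineOpens) (hU : Good (insert D T) U) :
    ∃ b : X.IdealSheafData → ℕ, D.ideal U = ∏ E ∈ T, E.ideal U ^ b E := by
  classical
  haveI : IsNoetherianRing Γ(X, U.1) := IsLocallyNoetherian.component_noetherian U
  refine Groth.Agent.Lib.T2H4.EffCartProdAlg.exists_prod_pow_eq T (fun E => E.ideal U)
    (fun E hE => ⟨hU E (Finset.mem_insert_of_mem hE), ?_⟩) (D.ideal U)
    (hU D (Finset.mem_insert_self D T)) ?_
  · haveI := hint E hE
    exact ideal_isPrime_or_eq_top E U
  · intro q hq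
    have hq' : D.ideal U ≤ q.asIdeal := hq
    have h1 : U.2.fromSpec q ∈ D.support := (fromSpec_mem_support_iff D U q).2 hq'
    obtain ⟨E, hE⟩ := Set.mem_iUnion.1 (hsub h1)
    obtain ⟨hET, hqE⟩ := Set.mem_iUnion.1 hE
    refine Set.mem_iUnion.2 ⟨E, Set.mem_iUnion.2 ⟨hET, ?_⟩⟩
    exact (fromSpec_mem_support_iff E U q).1 hqE

/-- the exponents of the local factorisations agree -/
theorem exponent_eq (hint : ∀ E ∈ T, IsIntegral E.subscheme)
    (U U' : X.affineOpens) (hU : Good (insert D T) U) (hU' : Good (insert D T) U')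
    (b b' : X.IdealSheafData → ℕ) (hb : D.ideal U = ∏ E ∈ T, E.ideal U ^ b E)
    (hb' : D.ideal U' = ∏ E ∈ T, E.ideal U' ^ b' E)
    (E : X.IdealSheafData) (hE : E ∈ T) (hEU : E.ideal U ≠ ⊤) (hEU' : E.ideal U' ≠ ⊤) :
    b E = b' E := by
  classical
  haveI := hint E hE
  obtain ⟨y₁, hy₁U, hy₁⟩ := (ideal_ne_top_iff E U).1 hEU
  obtain ⟨y₂, hy₂U, hy₂⟩ := (ideal_ne_top_iff E U').1 hEU'
  obtain ⟨y, hyE, hyU, hyU'⟩ := (isIrreducible_support E).isPreirreducible U.1 U'.1 U.1.2 U'.1.2
    ⟨y₁, hy₁, hy₁U⟩ ⟨y₂, hy₂, hy₂U⟩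
  obtain ⟨r, r', e, hyr⟩ := exists_basicOpen_le_affine_inter U.2 U'.2 y ⟨hyU, hyU'⟩
  have hVV' : X.affineBasicOpen r = X.affineBasicOpen r' := Subtype.ext e
  obtain ⟨V, hVdef⟩ : ∃ V : X.affineOpens, V = X.affineBasicOpen r := ⟨_, rfl⟩
  have hV : Good (insert D T) V := hVdef ▸ good_basicOpen _ U hU r
  have hyV : y ∈ V.1 := hVdef ▸ hyr
  have f1 : D.ideal V = ∏ E ∈ T, E.ideal V ^ b E :=
    factor_restrict T D (hVdef ▸ X.affineBasicOpen_le r) b hb
  have f2 : D.ideal V = ∏ E ∈ T, E.ideal V ^ b' E :=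
    factor_restrict T D ((hVdef.trans hVV') ▸ X.affineBasicOpen_le r') b' hb'
  have hEV : E.ideal V ≠ ⊤ := (ideal_ne_top_iff E V).2 ⟨y, hyV, hyE⟩
  have hprime : (E.ideal V).IsPrime := (ideal_isPrime_or_eq_top E V).resolve_right hEV
  obtain ⟨p, hp, hEp⟩ := hV E (Finset.mem_insert_of_mem hE)
  have hne : ∀ E' ∈ T, E' ≠ E → ¬ E'.ideal V ≤ E.ideal V := by
    intro E' hE' hne'
    haveI := hint E' hE'
    exact not_le_of_ne E E' V (hV E (Finset.mem_insert_of_mem hE))
      (hV E' (Finset.mem_insert_of_mem hE')) hne' hEV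
  have L := fun (c : X.IdealSheafData → ℕ) (n : ℕ) =>
    Groth.Agent.Lib.T2H4.EffCartProdAlg.prod_le_pow_iff T (fun E => E.ideal V) c E hE hprime p hp hEp
      hne n
  refine le_antisymm ?_ ?_
  · have h1 := (L b (b E)).2 le_rfl
    rw [← f1, f2] at h1
    exact (L b' (b E)).1 h1
  · have h1 := (L b' (b' E)).2 le_rfl
    rw [← f2, f1] at h1
    exact (L b (b' E)).1 h1

end Factor

section Main

variable [IsNoetherian X]

/-- **Main theorem, finset form.** -/
theorem exists_exponents (T : Finset X.IdealSheafData) (D : X.IdealSheafData)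
    (hD : BlowUp.IsEffCartierIdeal D) (hT : ∀ E ∈ T, BlowUp.IsEffCartierIdeal E)
    (hint : ∀ E ∈ T, IsIntegral E.subscheme)
    (hsub : (D.support : Set X) ⊆ ⋃ E ∈ T, (E.support : Set X)) :
    ∃ a : X.IdealSheafData → ℕ, D = ∏ E ∈ T, E ^ a E := by
  classical
  have h𝓢 : ∀ E ∈ insert D T, BlowUp.IsEffCartierIdeal E := by
    intro E hE
    rcases Finset.mem_insert.1 hE with rfl | h
    · exact hD
    · exact hT E h
  choose U hxU hU using fun x : X => exists_good (insert D T) h𝓢 x
  choose b hb using fun x : X => exists_factor T D hint hsub (U x) (hU x)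
  have hpt : ∀ E : T, ∃ x : X, x ∈ E.1.support := by
    intro E
    haveI := hint E.1 E.2
    obtain ⟨z⟩ : Nonempty E.1.subscheme := inferInstance
    refine ⟨E.1.subschemeι z, ?_⟩
    rw [← SetLike.mem_coe, ← E.1.range_subschemeι]
    exact ⟨z, rfl⟩
  choose pt hpt using hpt
  refine ⟨fun E => if h : E ∈ T then b (pt ⟨E, h⟩) E else 0, ?_⟩
  refine Scheme.IdealSheafData.ext_of_iSup_eq_top U ?_ (fun x => ?_)
  · rw [eq_top_iff]
    intro x _
    exact Opens.mem_iSup.2 ⟨x, hxU x⟩
  · rw [ideal_prod_pow, hb x]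
    refine Finset.prod_congr rfl (fun E hE => ?_)
    by_cases htop : E.ideal (U x) = ⊤
    · rw [htop, Ideal.top_pow, Ideal.top_pow]
    · rw [dif_pos hE]
      congr 1
      refine exponent_eq T D hint (U x) (U (pt ⟨E, hE⟩)) (hU x) (hU _) (b x) (b _) (hb x) (hb _)
        E hE htop ?_
      exact (ideal_ne_top_iff E _).2 ⟨pt ⟨E, hE⟩, hxU _, hpt ⟨E, hE⟩⟩

/-- **Main theorem, indexed form** (the family may have repetitions). -/
theorem exists_exponents_fin (D : X.IdealSheafData) (hD : BlowUp.IsEffCartierIdeal D) (r : ℕ)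
    (Ds : Fin r → X.IdealSheafData) (hDs : ∀ i, BlowUp.IsEffCartierIdeal (Ds i))
    (hint : ∀ i, IsIntegral (Ds i).subscheme)
    (hsub : (D.support : Set X) ⊆ ⋃ i, ((Ds i).support : Set X)) :
    ∃ a : Fin r → ℕ, D = ∏ i, Ds i ^ a i := by
  classical
  obtain ⟨T, hTdef⟩ : ∃ T : Finset X.IdealSheafData, T = Finset.univ.image Ds := ⟨_, rfl⟩
  have hmem : ∀ i, Ds i ∈ T := fun i => hTdef ▸ Finset.mem_image_of_mem Ds (Finset.mem_univ i)
  have hrep : ∀ E : T, ∃ i, Ds i = E.1 := by
    intro E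
    have hE : E.1 ∈ Finset.univ.image Ds := hTdef ▸ E.2
    obtain ⟨i, -, hi⟩ := Finset.mem_image.1 hE
    exact ⟨i, hi⟩
  choose s hs using hrep
  obtain ⟨a, ha⟩ := exists_exponents T D hD
    (fun E hE => by
      have h : Ds (s ⟨E, hE⟩) = E := hs ⟨E, hE⟩
      rw [← h]
      exact hDs _)
    (fun E hE => by
      have h : Ds (s ⟨E, hE⟩) = E := hs ⟨E, hE⟩
      rw [← h]
      exact hint _)
    (by
      intro x hx
      obtain ⟨i, hi⟩ := Set.mem_iUnion.1 (hsub hx)
      exact Set.mem_iUnion.2 ⟨Ds i, Set.mem_iUnion.2 ⟨hmem i, hi⟩⟩)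
  refine ⟨fun i => if s ⟨Ds i, hmem i⟩ = i then a (Ds i) else 0, ?_⟩
  have hprodT : ∏ E ∈ T, E ^ a E = ∏ E ∈ Finset.univ.image Ds, E ^ a E :=
    Finset.prod_congr hTdef (fun _ _ => rfl)
  rw [ha, hprodT]
  refine Finset.prod_image' (fun i => Ds i ^ (if s ⟨Ds i, hmem i⟩ = i then a (Ds i) else 0)) ?_
  intro i _
  have hsub' : ∀ j, Ds j = Ds i → s ⟨Ds j, hmem j⟩ = s ⟨Ds i, hmem i⟩ := by
    intro j hj
    congr 1
    exact Subtype.ext hj
  set j₀ := s ⟨Ds i, hmem i⟩ with hj₀
  have hj₀D : Ds j₀ = Ds i := hs ⟨Ds i, hmem i⟩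
  rw [Finset.prod_eq_single j₀]
  · rw [if_pos (hsub' j₀ hj₀D), hj₀D]
  · intro j hj hne
    have hj' : Ds j = Ds i := (Finset.mem_filter.1 hj).2
    rw [if_neg, pow_zero]
    rw [hsub' j hj']
    exact fun h => hne h.symm
  · intro h
    have hmem₀ : j₀ ∈ Finset.univ.filter (fun j => Ds j = Ds i) :=
      Finset.mem_filter.2 ⟨Finset.mem_univ j₀, hj₀D⟩
    exact absurd hmem₀ h

end Main

end Groth.Agent.Lib.T2H4.EffCartProd
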