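import Mathlib
import Groth.Prelude.Def_CInt
import Groth.Prelude.Def_BlowUp2
import Groth.Agent.Lib.T2H4CartierPullAlg
import Groth.Agent.Lib.T2H4EffCartProd
import Groth.Agent.Lib.Helper22IdealComap
set_option backward.isDefEq.respectTransparency.types false

/-!
# T2H4CartierPull: effective Cartier divisors on a normal scheme are determined by their pullback along a proper
surjective morphism (helper4)

Namespace `Groth.Agent.Lib.T2H4.CartierPull`.
-/

set_option autoImplicit false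
set_option linter.style.haveILetI false
set_option linter.unusedSectionVars false
universe u
open CategoryTheory CategoryTheory.Limits AlgebraicGeometry TopologicalSpace Opposite

namespace Groth.Agent.Lib.T2H4.CartierPull

variable {S S' : Scheme.{u}}

/-- a proper morphism with zero kernel ideal is surjective -/
theorem surjective_of_ker_eq_bot (f : S' ⟶ S) [IsProper f] (h : f.ker = ⊥) :
    Function.Surjective f := by
  have h1 : (f.ker.support : Set S) = closure (Set.range f) := Scheme.Hom.support_ker f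
  rw [h, Scheme.IdealSheafData.support_bot] at h1
  have h2 : IsClosed (Set.range f) := f.isClosedMap.isClosed_range
  rw [h2.closure_eq] at h1
  intro y
  have : y ∈ Set.range f := by
    rw [← h1]
    trivial
  exact this

theorem germ_mem_nonZeroDivisors (U : S.affineOpens) (ξ : S) (hξU : ξ ∈ U.1) (a : Γ(S, U.1))
    (ha : a ∈ nonZeroDivisors Γ(S, U.1)) :
    S.presheaf.germ U.1 ξ hξU a ∈ nonZeroDivisors (S.presheaf.stalk ξ) := by
  letI : Algebra Γ(S, U.1) (S.presheaf.stalk ξ) := S.presheaf.algebra_section_stalk ⟨ξ, hξU⟩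
  haveI := U.2.isLocalization_stalk ⟨ξ, hξU⟩
  exact IsLocalization.map_nonZeroDivisors_le (U.2.primeIdealOf ⟨ξ, hξU⟩).asIdeal.primeCompl
    (S.presheaf.stalk ξ) (Submonoid.mem_map_of_mem _ ha)

/-- the pullback of a local equation of a divisor supported off a schematically dense open is a nonzerodivisor -/
theorem appLE_mem_nonZeroDivisors (f : S' ⟶ S) (U : S.Opens)
    (hU' : CInt.IsSchematicallyDense (f ⁻¹ᵁ U)) (D : S.IdealSheafData)
    (hDU : (D.support : Set S) ⊆ (U : Set S)ᶜ) (W : S.affineOpens) (d : Γ(S, W.1))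
    (hd : D.ideal W = Ideal.span {d}) (W' : S'.Opens) (hW' : W' ≤ f ⁻¹ᵁ W.1) :
    (f.appLE W.1 W' hW').hom d ∈ nonZeroDivisors Γ(S', W') := by
  set g := (f.appLE W.1 W' hW').hom d with hg
  have hle : W' ⊓ f ⁻¹ᵁ U ≤ S'.basicOpen g := by
    rw [hg]
    erw [Scheme.basicOpen_appLE]
    rintro z ⟨hzW', hzU⟩
    refine ⟨hzW', ?_⟩
    have hfzW : f z ∈ W.1 := hW' hzW'
    have hfzU : f z ∈ U := hzU
    have hns : f z ∉ D.support := fun hs => hDU hs hfzU
    change f z ∈ S.basicOpen d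
    rw [Groth.Agent.Lib.Helper2.mem_basicOpen_iff_notMem_primeIdealOf W.2 (f z) hfzW d]
    intro hmem
    apply hns
    rw [Groth.Agent.Lib.T2H4.EffCartProd.mem_support_iff_le_primeIdealOf D W (f z) hfzW, hd,
      Ideal.span_singleton_le_iff_mem]
    exact hmem
  have hunit : IsUnit ((S'.presheaf.map (homOfLE (inf_le_left : W' ⊓ f ⁻¹ᵁ U ≤ W')).op).hom g) := by
    have h1 : S'.presheaf.map (homOfLE (inf_le_left : W' ⊓ f ⁻¹ᵁ U ≤ W')).op =
        S'.presheaf.map (homOfLE (S'.basicOpen_le g)).op ≫ S'.presheaf.map (homOfLE hle).op := by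
      rw [← Functor.map_comp]
      rfl
    rw [h1, CommRingCat.hom_comp, RingHom.comp_apply]
    exact (S'.toRingedSpace.isUnit_res_basicOpen g).map (S'.presheaf.map (homOfLE hle).op).hom
  have hinj := hU' W'
  have h3 : ∀ s : Γ(S', W'), g * s = 0 → s = 0 := by
    intro s hs
    apply hinj
    have h4 : (S'.presheaf.map (homOfLE (inf_le_left : W' ⊓ f ⁻¹ᵁ U ≤ W')).op).hom g *
        (S'.presheaf.map (homOfLE (inf_le_left : W' ⊓ f ⁻¹ᵁ U ≤ W')).op).hom s = 0 := by
      rw [← map_mul, hs, map_zero]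
    have h5 := (hunit.mul_right_eq_zero).1 h4
    exact h5.trans (map_zero _).symm
  rw [mem_nonZeroDivisors_iff]
  exact ⟨h3, fun s hs => h3 s (by rw [mul_comm]; exact hs)⟩

/-- **Key comparison**: if the pullback of `E` is contained in the pullback of `D` then `E ≤ D`. -/
theorem le_of_comap_le [IsLocallyNoetherian S]
    (hnorm : ∀ x : S, IsDomain (S.presheaf.stalk x) ∧ IsIntegrallyClosed (S.presheaf.stalk x))
    (f : S' ⟶ S) (hsurj : Function.Surjective f) (U : S.Opens)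
    (hU' : CInt.IsSchematicallyDense (f ⁻¹ᵁ U)) (D E : S.IdealSheafData)
    (hD : BlowUp.IsEffCartierIdeal D) (hE : BlowUp.IsEffCartierIdeal E)
    (hDU : (D.support : Set S) ⊆ (U : Set S)ᶜ) (h : E.comap f ≤ D.comap f) : E ≤ D := by
  classical
  have h𝓢 : ∀ I ∈ ({D, E} : Finset S.IdealSheafData), BlowUp.IsEffCartierIdeal I := by
    intro I hI
    rcases Finset.mem_insert.1 hI with rfl | hI
    · exact hD
    · rw [Finset.mem_singleton] at hI
      exact hI ▸ hE
  choose W hxW hW using fun x : S =>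
    Groth.Agent.Lib.T2H4.EffCartProd.exists_good ({D, E} : Finset S.IdealSheafData) h𝓢 x
  refine Scheme.IdealSheafData.le_of_iSup_eq_top W ?_ (fun x₀ => ?_)
  · rw [eq_top_iff]
    intro x _
    exact Opens.mem_iSup.2 ⟨x, hxW x⟩
  obtain ⟨V, hVdef⟩ : ∃ V : S.affineOpens, V = W x₀ := ⟨_, rfl⟩
  have hWV : Groth.Agent.Lib.T2H4.EffCartProd.Good ({D, E} : Finset S.IdealSheafData) V :=
    hVdef ▸ hW x₀
  rw [← hVdef]
  obtain ⟨d, hd, hDd⟩ := hWV D (Finset.mem_insert_self D _)
  obtain ⟨e, he, hEe⟩ := hWV E (Finset.mem_insert_of_mem (Finset.mem_singleton_self E))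
  rw [hDd, hEe, Ideal.span_singleton_le_span_singleton]
  rw [← Ideal.mem_span_singleton]
  by_contra hne
  haveI : IsNoetherianRing Γ(S, V.1) := IsLocallyNoetherian.component_noetherian V
  obtain ⟨P, hPp, e', hP, hcol⟩ := Groth.Agent.Lib.T2H4.CartierPullAlg.exists_prime_colon d e hne
  obtain ⟨x', hx'⟩ := hsurj (V.2.fromSpec ⟨P, hPp⟩)
  have hfxV : f x' ∈ V.1 := hx' ▸ Groth.Agent.Lib.Helper2.QCoh.fromSpec_mem V.2 ⟨P, hPp⟩
  have hQ : (V.2.primeIdealOf ⟨f x', hfxV⟩).asIdeal = P := by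
    have h1 : V.2.primeIdealOf ⟨f x', hfxV⟩ = ⟨P, hPp⟩ := by
      apply V.2.fromSpec.isOpenEmbedding.injective
      rw [V.2.fromSpec_primeIdealOf]
      exact hx'
    rw [h1]
  obtain ⟨hdom, hic⟩ := hnorm (f x')
  letI : Algebra Γ(S, V.1) (S.presheaf.stalk (f x')) :=
    S.presheaf.algebra_section_stalk ⟨f x', hfxV⟩
  haveI hloc : IsLocalization.AtPrime (S.presheaf.stalk (f x')) P :=
    hQ ▸ V.2.isLocalization_stalk ⟨f x', hfxV⟩
  have hd0 : algebraMap Γ(S, V.1) (S.presheaf.stalk (f x')) d ≠ 0 :=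
    nonZeroDivisors.ne_zero (germ_mem_nonZeroDivisors V (f x') hfxV d hd)
  obtain ⟨z, hzu, hz⟩ := Groth.Agent.Lib.T2H4.CartierPullAlg.exists_mul_eq_of_colon P
    (S.presheaf.stalk (f x')) d e e' hd0 hP hcol
  -- an affine neighbourhood of `x'` over `V`
  obtain ⟨W₀, hW₀, hx'W₀, hW₀V⟩ := exists_isAffineOpen_mem_and_subset (x := x')
    (U := f ⁻¹ᵁ V.1) hfxV
  let W' : S'.affineOpens := ⟨W₀, hW₀⟩
  have hW'V : W'.1 ≤ f ⁻¹ᵁ V.1 := hW₀V
  have hcD : (D.comap f).ideal W' = Ideal.span {(f.appLE V.1 W'.1 hW'V).hom d} := by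
    rw [Groth.Agent.Lib.Helper22.IdealComap.ideal_comap_eq_map f D W' V hW'V, hDd, Ideal.map_span,
      Set.image_singleton]
  have hcE : (E.comap f).ideal W' = Ideal.span {(f.appLE V.1 W'.1 hW'V).hom e} := by
    rw [Groth.Agent.Lib.Helper22.IdealComap.ideal_comap_eq_map f E W' V hW'V, hEe, Ideal.map_span,
      Set.image_singleton]
  have hle := h W'
  rw [hcD, hcE, Ideal.span_singleton_le_span_singleton] at hle
  obtain ⟨w, hw⟩ := hle
  -- hw : appLE e = appLE d * w
  have hgd : (f.appLE V.1 W'.1 hW'V).hom d ∈ nonZeroDivisors Γ(S', W'.1) :=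
    appLE_mem_nonZeroDivisors f U hU' D hDU V d hDd W'.1 hW'V
  -- germs at x'
  have hgerm : ∀ s : Γ(S, V.1), S'.presheaf.germ W'.1 x' hx'W₀ ((f.appLE V.1 W'.1 hW'V).hom s) =
      f.stalkMap x' (S.presheaf.germ V.1 (f x') hfxV s) := by
    intro s
    rw [Scheme.Hom.germ_stalkMap_apply]
    exact TopCat.Presheaf.germ_res_apply S'.presheaf (homOfLE hW'V) x' hx'W₀ _
  set Gd := S'.presheaf.germ W'.1 x' hx'W₀ ((f.appLE V.1 W'.1 hW'V).hom d) with hGd
  set Ge := S'.presheaf.germ W'.1 x' hx'W₀ ((f.appLE V.1 W'.1 hW'V).hom e) with hGe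
  have hGdnz : Gd ∈ nonZeroDivisors (S'.presheaf.stalk x') :=
    germ_mem_nonZeroDivisors W' x' hx'W₀ _ hgd
  have e1 : Ge = Gd * S'.presheaf.germ W'.1 x' hx'W₀ w := by
    rw [hGe, hGd, hw, map_mul]
  have e2 : Gd = f.stalkMap x' z * Ge := by
    rw [hGd, hGe, hgerm d, hgerm e]
    have hz' : S.presheaf.germ V.1 (f x') hfxV d = z * S.presheaf.germ V.1 (f x') hfxV e := hz
    rw [hz', map_mul]
  have hnu : ¬ IsUnit (f.stalkMap x' z) := fun hu =>
    hzu ((isUnit_map_iff (f.stalkMap x').hom z).1 hu)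
  have hnu' : f.stalkMap x' z * S'.presheaf.germ W'.1 x' hx'W₀ w ∈
      nonunits (S'.presheaf.stalk x') := by
    intro hu
    exact hnu (isUnit_of_mul_isUnit_left hu)
  have hu1 : IsUnit (1 - f.stalkMap x' z * S'.presheaf.germ W'.1 x' hx'W₀ w) :=
    IsLocalRing.isUnit_one_sub_self_of_mem_nonunits _ hnu'
  have e3 : Ge * (1 - f.stalkMap x' z * S'.presheaf.germ W'.1 x' hx'W₀ w) = 0 := by
    have : Ge = f.stalkMap x' z * Ge * S'.presheaf.germ W'.1 x' hx'W₀ w := by
      conv_lhs => rw [e1, e2]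
    linear_combination this
  have hGe0 : Ge = 0 := (hu1.mul_left_eq_zero).1 e3
  have hGd0 : Gd = 0 := by rw [e2, hGe0, mul_zero]
  exact nonZeroDivisors.ne_zero hGdnz hGd0

/-- **Effective Cartier divisors on a normal scheme with the same pullback along a proper dominant morphism are
equal**. -/
theorem eq_of_comap_eq [IsLocallyNoetherian S]
    (hnorm : ∀ x : S, IsDomain (S.presheaf.stalk x) ∧ IsIntegrallyClosed (S.presheaf.stalk x))
    (f : S' ⟶ S) [IsProper f] (hdom : f.ker = ⊥) (U : S.Opens)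
    (hU' : CInt.IsSchematicallyDense (f ⁻¹ᵁ U)) (D E : S.IdealSheafData)
    (hD : BlowUp.IsEffCartierIdeal D) (hE : BlowUp.IsEffCartierIdeal E)
    (hDU : (D.support : Set S) ⊆ (U : Set S)ᶜ) (hEU : (E.support : Set S) ⊆ (U : Set S)ᶜ)
    (h : D.comap f = E.comap f) : D = E := by
  have hsurj := surjective_of_ker_eq_bot f hdom
  exact le_antisymm (le_of_comap_le hnorm f hsurj U hU' E D hE hD hEU h.le)
    (le_of_comap_le hnorm f hsurj U hU' D E hD hE hDU h.ge)

end Groth.Agent.Lib.T2H4.CartierPull
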