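import Mathlib

/-!
# Homology of a complex that is termwise the direct sum of a family of complexes (helper4)
-/

set_option autoImplicit false

namespace Groth.Agent.Lib.T2H4.SumCx

universe u w
open CategoryTheory

variable {J : Type w} [DecidableEq J] {κ : Type*} {c : ComplexShape κ}
  (K : J → HomologicalComplex AddCommGrpCat.{u} c) (L : HomologicalComplex AddCommGrpCat.{u} c)
  (Θ : ∀ n, K n ⟶ L)

/-- the termwise sum map -/
def sumMap (k : κ) : (DirectSum J fun n => (K n).X k) →+ L.X k :=
  DirectSum.toAddMonoid (fun n => ((Θ n).f k).hom)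

lemma sumMap_of (k : κ) (n : J) (y : (K n).X k) :
    sumMap K L Θ k (DirectSum.of (fun n => (K n).X k) n y) = (Θ n).f k y :=
  DirectSum.toAddMonoid_of _ _ _

lemma sumMap_d (i j : κ) (z : DirectSum J fun n => (K n).X i) :
    sumMap K L Θ j (DirectSum.map (fun n => ((K n).d i j).hom) z) = L.d i j (sumMap K L Θ i z) := by
  have h : (sumMap K L Θ j).comp (DirectSum.map (fun n => ((K n).d i j).hom)) =
      (L.d i j).hom.comp (sumMap K L Θ i) := by
    apply DirectSum.addHom_ext
    intro n y
    rw [AddMonoidHom.comp_apply, AddMonoidHom.comp_apply, DirectSum.map_of, sumMap_of, sumMap_of]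
    change ((K n).d i j ≫ (Θ n).f j) y = ((Θ n).f i ≫ L.d i j) y
    rw [(Θ n).comm i j]
  exact DFunLike.congr_fun h z

variable (hbij : ∀ k, Function.Bijective (sumMap K L Θ k))

/-- the termwise equivalence -/
noncomputable def eqv (k : κ) : (DirectSum J fun n => (K n).X k) ≃+ L.X k :=
  AddEquiv.ofBijective (sumMap K L Θ k) (hbij k)

/-- the projections -/
noncomputable def proj (n : J) : L ⟶ K n where
  f k := AddCommGrpCat.ofHom ((DFinsupp.evalAddMonoidHom n).comp (eqv K L Θ hbij k).symm.toAddMonoidHom)
  comm' i j _ := by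
    ext x
    obtain ⟨z, rfl⟩ := (eqv K L Θ hbij i).surjective x
    change (K n).d i j (((eqv K L Θ hbij i).symm (eqv K L Θ hbij i z)) n) =
      ((eqv K L Θ hbij j).symm (L.d i j (sumMap K L Θ i z))) n
    rw [AddEquiv.symm_apply_apply, ← sumMap_d]
    change _ = ((eqv K L Θ hbij j).symm (eqv K L Θ hbij j _)) n
    rw [AddEquiv.symm_apply_apply, DirectSum.map_apply]

lemma proj_f_apply (n : J) (k : κ) (z : DirectSum J fun n => (K n).X k) :
    (proj K L Θ hbij n).f k (sumMap K L Θ k z) = z n := by
  change ((eqv K L Θ hbij k).symm (eqv K L Θ hbij k z)) n = z n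
  rw [AddEquiv.symm_apply_apply]

lemma Θ_proj_self (n : J) : Θ n ≫ proj K L Θ hbij n = 𝟙 _ := by
  ext k y
  change (proj K L Θ hbij n).f k ((Θ n).f k y) = y
  rw [← sumMap_of K L Θ k n y, proj_f_apply, DirectSum.of_eq_same]

lemma Θ_proj_ne (n m : J) (h : m ≠ n) : Θ n ≫ proj K L Θ hbij m = 0 := by
  ext k y
  change (proj K L Θ hbij m).f k ((Θ n).f k y) = 0
  rw [← sumMap_of K L Θ k n y, proj_f_apply, DirectSum.of_eq_of_ne _ _ _ h]

/-- the sum map in homology -/
noncomputable def homMap (p : κ) : (DirectSum J fun n => (K n).homology p) →+ L.homology p :=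
  DirectSum.toAddMonoid (fun n => (HomologicalComplex.homologyMap (Θ n) p).hom)

include hbij in
theorem homMap_bijective (p : κ) : Function.Bijective (homMap K L Θ p) := by
  classical
  constructor
  · rw [injective_iff_map_eq_zero]
    intro z hz
    have h : ∀ m, (HomologicalComplex.homologyMap (proj K L Θ hbij m) p).hom.comp (homMap K L Θ p) =
        DFinsupp.evalAddMonoidHom m := by
      intro m
      apply DirectSum.addHom_ext
      intro n y
      rw [AddMonoidHom.comp_apply]
      change (HomologicalComplex.homologyMap (proj K L Θ hbij m) p)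
        (DirectSum.toAddMonoid (fun n => (HomologicalComplex.homologyMap (Θ n) p).hom)
          (DirectSum.of (fun n => (K n).homology p) n y)) =
        (DirectSum.of (fun n => ((K n).homology p : Type u)) n y) m
      rw [DirectSum.toAddMonoid_of]
      change (HomologicalComplex.homologyMap (Θ n) p ≫
        HomologicalComplex.homologyMap (proj K L Θ hbij m) p) y = _
      rw [← HomologicalComplex.homologyMap_comp]
      by_cases hmn : m = n
      · subst hmn
        rw [Θ_proj_self, HomologicalComplex.homologyMap_id, DirectSum.of_eq_same]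
        rfl
      · rw [Θ_proj_ne K L Θ hbij n m hmn, HomologicalComplex.homologyMap_zero,
          DirectSum.of_eq_of_ne _ _ _ hmn]
        rfl
    apply DFinsupp.ext
    intro m
    have h2 := DFunLike.congr_fun (h m) z
    rw [AddMonoidHom.comp_apply, hz, map_zero] at h2
    exact h2.symm
  · intro y
    have hsurj : Function.Surjective (L.homologyπ p) :=
      (AddCommGrpCat.epi_iff_surjective _).mp inferInstance
    have hinj : Function.Injective (L.iCycles p) :=
      (AddCommGrpCat.mono_iff_injective _).mp inferInstance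
    obtain ⟨w, rfl⟩ := hsurj y
    obtain ⟨z, hz⟩ := (eqv K L Θ hbij p).surjective (L.iCycles p w)
    replace hz : sumMap K L Θ p z = L.iCycles p w := hz
    let wn : ∀ n, (K n).cycles p := fun n => HomologicalComplex.cyclesMap (proj K L Θ hbij n) p w
    have hwn : ∀ n, (K n).iCycles p (wn n) = z n := by
      intro n
      change (HomologicalComplex.cyclesMap (proj K L Θ hbij n) p ≫ (K n).iCycles p) w = z n
      rw [HomologicalComplex.cyclesMap_i]
      change (proj K L Θ hbij n).f p (L.iCycles p w) = z n
      rw [← hz, proj_f_apply]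
    have hw : w = ∑ n ∈ z.support, HomologicalComplex.cyclesMap (Θ n) p (wn n) := by
      apply hinj
      rw [map_sum, ← hz]
      conv_lhs => rw [← DirectSum.sum_support_of z]
      rw [map_sum]
      refine Finset.sum_congr rfl (fun n _ => ?_)
      rw [sumMap_of]
      change _ = (HomologicalComplex.cyclesMap (Θ n) p ≫ L.iCycles p) (wn n)
      rw [HomologicalComplex.cyclesMap_i]
      change _ = (Θ n).f p ((K n).iCycles p (wn n))
      rw [hwn]
    refine ⟨∑ n ∈ z.support, DirectSum.of _ n ((K n).homologyπ p (wn n)), ?_⟩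
    rw [map_sum]
    conv_rhs => rw [hw, map_sum]
    refine Finset.sum_congr rfl (fun n _ => ?_)
    change DirectSum.toAddMonoid (fun n => (HomologicalComplex.homologyMap (Θ n) p).hom)
      (DirectSum.of _ n ((K n).homologyπ p (wn n))) = _
    rw [DirectSum.toAddMonoid_of]
    change ((K n).homologyπ p ≫ HomologicalComplex.homologyMap (Θ n) p) (wn n) = _
    rw [HomologicalComplex.homologyπ_naturality]
    rfl

include hbij in
theorem nonempty_homology_equiv (p : κ) :
    Nonempty ((DirectSum J fun n => (K n).homology p) ≃+ L.homology p) :=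
  ⟨AddEquiv.ofBijective _ (homMap_bijective K L Θ hbij p)⟩

end Groth.Agent.Lib.T2H4.SumCx
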