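import Mathlib
import Groth.Agent.Lib.Helper16CechLow
import Groth.Agent.Lib.Helper16CechH1
import Groth.Agent.Lib.T2H4SumCx

/-!
# Maps of Čech complexes from termwise compatible maps, and termwise direct sums (helper4)
-/

set_option autoImplicit false

namespace Groth.Agent.Lib.T2H4.CechHom

universe v v' u₁ u₁' u
open CategoryTheory CategoryTheory.Limits Opposite
open Groth.Agent.Lib.Helper16.CechLow

variable {C : Type u₁} [Category.{v} C] [HasFiniteProducts C]
  {C' : Type u₁'} [Category.{v'} C'] [HasFiniteProducts C']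
  {ι : Type u} (U : ι → C) (U' : ι → C')

section One

variable (P : Cᵒᵖ ⥤ AddCommGrpCat.{u}) (P' : C'ᵒᵖ ⥤ AddCommGrpCat.{u})
  (t : ∀ (n : ℕ) (σ : Fin (n + 1) → ι), P.obj (op (Ux U σ)) →+ P'.obj (op (Ux U' σ)))

/-- the termwise map -/
noncomputable def mapFun (n : ℕ) (c : (CK U P).X n) : (CK U' P').X n :=
  mkElt U' P' n (fun σ => t n σ (pr U P n σ c))

lemma pr_mapFun (n : ℕ) (c : (CK U P).X n) (σ : Fin (n + 1) → ι) :
    pr U' P' n σ (mapFun U U' P P' t n c) = t n σ (pr U P n σ c) :=
  pr_mkElt U' P' n _ σ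

variable (ht : ∀ (n : ℕ) (σ : Fin (n + 2) → ι) (i : Fin (n + 2))
    (y : P.obj (op (Ux U (σ ∘ Fin.succAbove i)))),
    t (n + 1) σ (P.map (face U σ i).op y) = P'.map (face U' σ i).op (t n (σ ∘ Fin.succAbove i) y))

include ht in
lemma mapFun_d (n : ℕ) (c : (CK U P).X n) :
    mapFun U U' P P' t (n + 1) ((CK U P).d n (n + 1) c) =
      (CK U' P').d n (n + 1) (mapFun U U' P P' t n c) := by
  apply elt_ext
  intro σ
  rw [pr_mapFun, d_pr_apply, d_pr_apply, map_sum]
  refine Finset.sum_congr rfl (fun i _ => ?_)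
  rw [map_zsmul, ht, pr_mapFun]

/-- the termwise additive map -/
noncomputable def mapHom (n : ℕ) : (CK U P).X n →+ (CK U' P').X n where
  toFun := mapFun U U' P P' t n
  map_zero' := by
    apply elt_ext
    intro σ
    rw [pr_mapFun, map_zero, map_zero, map_zero]
  map_add' := fun c c' => by
    apply elt_ext
    intro σ
    rw [pr_mapFun, map_add, map_add, map_add, pr_mapFun, pr_mapFun]

/-- the morphism of Čech complexes -/
noncomputable def cechHom : CK U P ⟶ CK U' P' where
  f n := AddCommGrpCat.ofHom (mapHom U U' P P' t n)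
  comm' i j hij := by
    have hij' : i + 1 = j := hij
    subst hij'
    ext c
    exact (mapFun_d U U' P P' t ht i c).symm

lemma pr_cechHom (n : ℕ) (c : (CK U P).X n) (σ : Fin (n + 1) → ι) :
    pr U' P' n σ ((cechHom U U' P P' t ht).f n c) = t n σ (pr U P n σ c) :=
  pr_mapFun U U' P P' t n c σ

end One

section Family

variable {J : Type} [DecidableEq J] (P : J → (Cᵒᵖ ⥤ AddCommGrpCat.{u})) (P' : C'ᵒᵖ ⥤ AddCommGrpCat.{u})
  (t : ∀ (j : J) (n : ℕ) (σ : Fin (n + 1) → ι), (P j).obj (op (Ux U σ)) →+ P'.obj (op (Ux U' σ)))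
  (ht : ∀ (j : J) (n : ℕ) (σ : Fin (n + 2) → ι) (i : Fin (n + 2))
    (y : (P j).obj (op (Ux U (σ ∘ Fin.succAbove i)))),
    t j (n + 1) σ ((P j).map (face U σ i).op y) =
      P'.map (face U' σ i).op (t j n (σ ∘ Fin.succAbove i) y))

/-- the sum of the termwise maps on sections -/
noncomputable def secSum (n : ℕ) (σ : Fin (n + 1) → ι) :
    (DirectSum J fun j => (P j).obj (op (Ux U σ))) →+ P'.obj (op (Ux U' σ)) :=
  DirectSum.toAddMonoid (fun j => t j n σ)

lemma pr_sumMap (n : ℕ) (σ : Fin (n + 1) → ι)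
    (z : DirectSum J fun j => (CK U (P j)).X n) :
    pr U' P' n σ (SumCx.sumMap (fun j => CK U (P j)) (CK U' P')
      (fun j => cechHom U U' (P j) P' (t j) (ht j)) n z) =
    secSum U U' P P' t n σ (DirectSum.map (fun j => (pr U (P j) n σ).hom) z) := by
  have h : (pr U' P' n σ).hom.comp (SumCx.sumMap (fun j => CK U (P j)) (CK U' P')
      (fun j => cechHom U U' (P j) P' (t j) (ht j)) n) =
      (secSum U U' P P' t n σ).comp (DirectSum.map (fun j => (pr U (P j) n σ).hom)) := by
    apply DirectSum.addHom_ext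
    intro j y
    rw [AddMonoidHom.comp_apply, AddMonoidHom.comp_apply, DirectSum.map_of, SumCx.sumMap_of]
    change pr U' P' n σ ((cechHom U U' (P j) P' (t j) (ht j)).f n y) = _
    rw [pr_cechHom]
    change _ = DirectSum.toAddMonoid (fun j => t j n σ)
      (DirectSum.of (fun j => (P j).obj (op (Ux U σ))) j (pr U (P j) n σ y))
    rw [DirectSum.toAddMonoid_of]
  exact DFunLike.congr_fun h z

variable [Finite ι]
  (hb : ∀ (n : ℕ) (σ : Fin (n + 1) → ι), Function.Bijective (secSum U U' P P' t n σ))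

include hb in
theorem sumMap_bijective (n : ℕ) :
    Function.Bijective (SumCx.sumMap (fun j => CK U (P j)) (CK U' P')
      (fun j => cechHom U U' (P j) P' (t j) (ht j)) n) := by
  classical
  constructor
  · rw [injective_iff_map_eq_zero]
    intro z hz
    apply DFinsupp.ext
    intro j
    apply elt_ext
    intro σ
    have h1 := pr_sumMap U U' P P' t ht n σ z
    rw [hz, map_zero] at h1
    have h2 := (injective_iff_map_eq_zero _).mp (hb n σ).1 _ h1.symm
    have h3 := DFunLike.congr_fun h2 j
    rw [DirectSum.map_apply] at h3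
    rw [DirectSum.zero_apply, map_zero]
    exact h3
  · intro x
    have : Fintype (Fin (n + 1) → ι) := Fintype.ofFinite _
    choose w hw using fun σ => (hb n σ).2 (pr U' P' n σ x)
    let S : Finset J := Finset.univ.biUnion (fun σ => (w σ).support)
    let z : DirectSum J fun j => (CK U (P j)).X n :=
      DirectSum.mk _ S (fun j => mkElt U (P j.1) n (fun σ => w σ j.1))
    have hz : ∀ σ, DirectSum.map (fun j => (pr U (P j) n σ).hom) z = w σ := by
      intro σ
      apply DFinsupp.ext
      intro j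
      rw [DirectSum.map_apply]
      by_cases hj : j ∈ S
      · rw [DirectSum.mk_apply_of_mem hj]
        exact pr_mkElt U (P j) n _ σ
      · rw [DirectSum.mk_apply_of_notMem hj, map_zero]
        have : j ∉ (w σ).support := fun h => hj (Finset.mem_biUnion.mpr ⟨σ, Finset.mem_univ _, h⟩)
        exact (DFinsupp.notMem_support_iff.mp this).symm
    refine ⟨z, ?_⟩
    apply elt_ext
    intro σ
    rw [pr_sumMap, hz, hw]

include ht hb in
theorem nonempty_homology_equiv (p : ℕ) :
    Nonempty ((DirectSum J fun j => (CK U (P j)).homology p) ≃+ (CK U' P').homology p) :=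
  SumCx.nonempty_homology_equiv (fun j => CK U (P j)) (CK U' P')
    (fun j => cechHom U U' (P j) P' (t j) (ht j)) (sumMap_bijective U U' P P' t ht hb) p

end Family

end Groth.Agent.Lib.T2H4.CechHom
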