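import Mathlib

/-!
# Sections-level tools for `O_X`-modules on a scheme (helper4)

* `injective_app_of_mono`: monomorphisms of `X.Modules` are injective on sections;
* `eq_zero_of_locally`: a section that vanishes locally vanishes;
* `exact_of_locally`: local criterion for exactness of a short complex in `X.Modules`;
* `prod_ext`, `exists_prod_mk`: sections of a product are families of sections;
* `appHom`: taking sections over `V` as an additive map on morphisms.
-/

set_option autoImplicit false
universe u
open CategoryTheory CategoryTheory.Limits AlgebraicGeometry Opposite TopologicalSpace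

namespace Groth.Agent.Lib.T2H4.CechShB

variable {X : Scheme.{u}}

/-- the restriction of a section along an inclusion of opens -/
noncomputable abbrev res (M : X.Modules) {V' V : X.Opens} (h : V' ≤ V) : Γ(M, V) ⟶ Γ(M, V') :=
  M.presheaf.map (homOfLE h).op

lemma res_res (M : X.Modules) {V'' V' V : X.Opens} (h : V' ≤ V) (h' : V'' ≤ V') (s : Γ(M, V)) :
    res M h' (res M h s) = res M (h'.trans h) s := by
  have := ConcreteCategory.congr_hom (M.presheaf.map_comp (homOfLE h).op (homOfLE h').op) s
  exact this.symm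

lemma res_self (M : X.Modules) {V : X.Opens} (h : V ≤ V) (s : Γ(M, V)) : res M h s = s := by
  have := ConcreteCategory.congr_hom (M.presheaf.map_id (op V)) s
  exact this

/-- all restriction maps along (propositionally) equal data agree -/
lemma res_congr (M : X.Modules) {V' V : X.Opens} (h h' : V' ≤ V) (s : Γ(M, V)) :
    res M h s = res M h' s := rfl

lemma map_eq_res (M : X.Modules) {V' V : X.Opens} (i : op V ⟶ op V') (s : Γ(M, V)) :
    M.presheaf.map i s = res M (leOfHom i.unop) s := rfl

lemma app_res {M N : X.Modules} (φ : M ⟶ N) {V' V : X.Opens} (h : V' ≤ V) (s : Γ(M, V)) :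
    φ.app V' (res M h s) = res N h (φ.app V s) := by
  have := ConcreteCategory.congr_hom (φ.mapPresheaf.naturality (homOfLE h).op) s
  exact this

/-- monomorphisms are injective on sections -/
lemma injective_app_of_mono {M N : X.Modules} (φ : M ⟶ N) [Mono φ] (V : X.Opens) :
    Function.Injective (φ.app V) := by
  haveI h1 : Mono ((Scheme.Modules.toPresheaf X).map φ) := inferInstance
  have h3 := (NatTrans.mono_iff_mono_app _).1 h1 (op V)
  exact (AddCommGrpCat.mono_iff_injective _).1 h3

/-- a morphism injective on all sections is a monomorphism -/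
lemma mono_of_injective_app {M N : X.Modules} (φ : M ⟶ N)
    (h : ∀ V : X.Opens, Function.Injective (φ.app V)) : Mono φ := by
  apply Functor.mono_of_mono_map (Scheme.Modules.toPresheaf X)
  apply (NatTrans.mono_iff_mono_app _).2
  intro V
  induction V using Opposite.rec with
  | _ V => exact (AddCommGrpCat.mono_iff_injective _).2 (h V)

/-- a section vanishing locally vanishes -/
lemma eq_zero_of_locally (M : X.Modules) {V : X.Opens} (s : Γ(M, V))
    (h : ∀ p ∈ V, ∃ (V' : X.Opens) (hV' : V' ≤ V), p ∈ V' ∧ res M hV' s = 0) : s = 0 := by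
  choose V' hV' hp hs using h
  let Sh : TopCat.Sheaf Ab X := ⟨M.presheaf, M.isSheaf⟩
  refine TopCat.Sheaf.eq_of_locally_eq' Sh (fun p : V => V' p.1 p.2) V
    (fun p => homOfLE (hV' p.1 p.2)) ?_ s 0 ?_
  · intro p hpV
    exact Opens.mem_iSup.2 ⟨⟨p, hpV⟩, hp p hpV⟩
  · intro p
    rw [map_zero]
    exact hs p.1 p.2

/-- local surjectivity implies epi -/
lemma epi_of_locally {M N : X.Modules} (π : M ⟶ N)
    (h : ∀ (V : X.Opens) (t : Γ(N, V)), ∀ p ∈ V, ∃ (V' : X.Opens) (hV' : V' ≤ V), p ∈ V' ∧
      ∃ z : Γ(M, V'), π.app V' z = res N hV' t) : Epi π := by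
  apply Preadditive.epi_of_cancel_zero
  intro Q q hq
  apply Scheme.Modules.hom_ext
  intro V
  ext t
  change q.app V t = 0
  refine eq_zero_of_locally Q _ (fun p hp => ?_)
  obtain ⟨V', hV', hpV', z, hz⟩ := h V t p hp
  refine ⟨V', hV', hpV', ?_⟩
  rw [← app_res, ← hz]
  exact congrArg (fun ψ : M ⟶ Q => ψ.app V' z) hq

/-- local criterion for exactness of a short complex of `O_X`-modules -/
theorem exact_of_locally (S : ShortComplex X.Modules)
    (h : ∀ (V : X.Opens) (y : Γ(S.X₂, V)), S.g.app V y = 0 → ∀ p ∈ V,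
      ∃ (V' : X.Opens) (hV' : V' ≤ V), p ∈ V' ∧ ∃ z : Γ(S.X₁, V'), S.f.app V' z = res S.X₂ hV' y) :
    S.Exact := by
  rw [S.exact_iff_epi_kernel_lift]
  apply epi_of_locally
  intro V t p hp
  have h0 : S.g.app V ((kernel.ι S.g).app V t) = 0 :=
    congrArg (fun ψ : kernel S.g ⟶ S.X₃ => ψ.app V t) (kernel.condition S.g)
  obtain ⟨V', hV', hpV', z, hz⟩ := h V _ h0 p hp
  refine ⟨V', hV', hpV', z, ?_⟩
  apply injective_app_of_mono (kernel.ι S.g) V'
  rw [app_res, ← hz]
  exact congrArg (fun ψ : S.X₁ ⟶ S.X₂ => ψ.app V' z) (kernel.lift_ι S.g S.f S.zero)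

/-- taking sections over `V` as an additive map on morphisms -/
noncomputable def appHom (M N : X.Modules) (V : X.Opens) (s : Γ(M, V)) : (M ⟶ N) →+ Γ(N, V) where
  toFun φ := φ.app V s
  map_zero' := rfl
  map_add' _ _ := rfl

lemma sum_app {α : Type*} {M N : X.Modules} (t : Finset α) (f : α → (M ⟶ N)) (V : X.Opens)
    (s : Γ(M, V)) : (∑ i ∈ t, f i).app V s = ∑ i ∈ t, (f i).app V s :=
  map_sum (appHom M N V s) f t

lemma zsmul_app {M N : X.Modules} (n : ℤ) (f : M ⟶ N) (V : X.Opens) (s : Γ(M, V)) :
    (n • f).app V s = n • f.app V s :=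
  map_zsmul (appHom M N V s) n f

section Prod

variable {J : Type u} (M : J → X.Modules) (V : X.Opens)

/-- the sections functor -/
noncomputable abbrev secF : X.Modules ⥤ Ab.{u} :=
  Scheme.Modules.toPresheaf X ⋙ (evaluation _ _).obj (op V)

instance preservesLimit_secF : PreservesLimit (Discrete.functor M) (secF V) := by
  have h : PreservesLimitsOfShape (Discrete J) ((evaluation (Opens X)ᵒᵖ Ab.{u}).obj (op V)) :=
    inferInstance
  have h' : PreservesLimit (Discrete.functor M ⋙ Scheme.Modules.toPresheaf X)
      ((evaluation (Opens X)ᵒᵖ Ab.{u}).obj (op V)) := h.preservesLimit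
  exact comp_preservesLimit _ _

/-- sections of a product are families of sections: the comparison map is bijective -/
lemma bijective_prod :
    Function.Bijective (fun (s : Γ((∏ᶜ M : X.Modules), V)) (j : J) => (Pi.π M j).app V s) := by
  let e := PreservesProduct.iso (secF V) M
  let e' := Concrete.productEquiv (fun j => (secF V).obj (M j))
  have hcomp : (fun (s : Γ((∏ᶜ M : X.Modules), V)) (j : J) => (Pi.π M j).app V s) =
      fun s => e' (e.hom s) := by
    funext s j
    have h1 : e' (e.hom s) j = Pi.π (fun j => (secF V).obj (M j)) j (e.hom s) :=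
      Concrete.productEquiv_apply_apply _ _ _
    rw [h1]
    have h2 : e.hom ≫ Pi.π (fun j => (secF V).obj (M j)) j = (secF V).map (Pi.π M j) := by
      have h4 : e.hom = piComparison (secF V) M := PreservesProduct.iso_hom _ _
      rw [h4]
      exact piComparison_comp_π _ _ _
    have h3 := ConcreteCategory.congr_hom h2 s
    exact h3.symm
  rw [hcomp]
  exact e'.bijective.comp (ConcreteCategory.bijective_of_isIso e.hom)

lemma prod_ext (s s' : Γ((∏ᶜ M : X.Modules), V))
    (h : ∀ j, (Pi.π M j).app V s = (Pi.π M j).app V s') : s = s' :=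
  (bijective_prod M V).1 (funext h)

lemma exists_prod_mk (c : ∀ j, Γ(M j, V)) :
    ∃ s : Γ((∏ᶜ M : X.Modules), V), ∀ j, (Pi.π M j).app V s = c j := by
  obtain ⟨s, hs⟩ := (bijective_prod M V).2 c
  exact ⟨s, fun j => congrFun hs j⟩

end Prod

end Groth.Agent.Lib.T2H4.CechShB
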