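import Mathlib
import Groth.Prelude.Def_CechOX
import Groth.Agent.Lib.T2H4CechShA
import Groth.Agent.Lib.T2H4CechShB

/-!
# The Čech complex of sheaves of an `O_X`-module: sections and the differential (helper4)
-/

set_option autoImplicit false
universe u
open CategoryTheory CategoryTheory.Limits AlgebraicGeometry Opposite TopologicalSpace

namespace Groth.Agent.Lib.T2H4.CechShC
open Groth.Agent.Lib.T2H4.CechShA Groth.Agent.Lib.T2H4.CechShB CechOX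

variable {X : Scheme.{u}} {ι : Type u} (𝒰 : ι → X.Opens) (F : X.Modules)

/-- `V ∩ W` in the form in which it appears in sections of `(j_W)_*(F|_W)` -/
noncomputable abbrev inter (V W : X.Opens) : X.Opens := W.ι ''ᵁ (W.ι ⁻¹ᵁ V)

lemma inter_eq (V W : X.Opens) : inter V W = W ⊓ V := by
  rw [inter, Scheme.Hom.image_preimage_eq_opensRange_inf, Scheme.Opens.opensRange_ι]

lemma inter_le_left (V W : X.Opens) : inter V W ≤ V := W.ι.image_preimage_le V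

lemma inter_le_right (V W : X.Opens) : inter V W ≤ W := by
  rw [inter_eq]; exact inf_le_left

lemma le_inter {T V W : X.Opens} (h1 : T ≤ V) (h2 : T ≤ W) : T ≤ inter V W := by
  rw [inter_eq]; exact le_inf h2 h1

lemma inter_mono (V : X.Opens) {W W' : X.Opens} (h : W' ≤ W) : inter V W' ≤ inter V W :=
  image_preimage_mono h V

lemma Ux_le {n : ℕ} (x : Fin (n + 1) → ι) (a : Fin (n + 1)) : Ux 𝒰 x ≤ 𝒰 (x a) :=
  leOfHom (Pi.π (𝒰 ∘ x) a)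

lemma le_Ux {n : ℕ} (x : Fin (n + 1) → ι) {T : X.Opens} (h : ∀ a, T ≤ 𝒰 (x a)) : T ≤ Ux 𝒰 x :=
  leOfHom (Pi.lift fun a => homOfLE (h a))

/-- the presheaf of modules `W ↦ (j_W)_*(F|_W)` -/
noncomputable abbrev PF : (X.Opens)ᵒᵖ ⥤ X.Modules := pushRestrFam.flip.obj F

/-- the Čech complex of sheaves -/
noncomputable abbrev K : CochainComplex X.Modules ℕ := (cechSh 𝒰).obj F

lemma K_eq : K 𝒰 F = CK 𝒰 (PF F) := rfl

/-- the `x`-component of a section of `K^n` over `V` -/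
noncomputable def cmp (n : ℕ) (V : X.Opens) (y : Γ((K 𝒰 F).X n, V)) (x : Fin (n + 1) → ι) :
    Γ(F, inter V (Ux 𝒰 x)) :=
  (pr 𝒰 (PF F) n x).app V y

lemma cmp_ext (n : ℕ) (V : X.Opens) (y y' : Γ((K 𝒰 F).X n, V))
    (h : ∀ x, cmp 𝒰 F n V y x = cmp 𝒰 F n V y' x) : y = y' :=
  prod_ext (fun x : Fin (n + 1) → ι => (PF F).obj (op (Ux 𝒰 x))) V y y' h

lemma exists_cmp_eq (n : ℕ) (V : X.Opens) (c : ∀ x : Fin (n + 1) → ι, Γ(F, inter V (Ux 𝒰 x))) :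
    ∃ y : Γ((K 𝒰 F).X n, V), ∀ x, cmp 𝒰 F n V y x = c x :=
  exists_prod_mk (fun x : Fin (n + 1) → ι => (PF F).obj (op (Ux 𝒰 x))) V c

lemma cmp_zero (n : ℕ) (V : X.Opens) (x : Fin (n + 1) → ι) :
    cmp 𝒰 F n V 0 x = 0 := by
  unfold cmp
  exact map_zero _

lemma PF_map_app {W W' : X.Opens} (f : W' ⟶ W) (V : X.Opens) (s : Γ(F, inter V W)) :
    ((PF F).map f.op).app V s = res F (inter_mono V (leOfHom f)) s := rfl

lemma cmp_d (n : ℕ) (V : X.Opens) (y : Γ((K 𝒰 F).X n, V)) (x : Fin (n + 2) → ι) :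
    cmp 𝒰 F (n + 1) V (((K 𝒰 F).d n (n + 1)).app V y) x =
      ∑ i : Fin (n + 2), (-1 : ℤ) ^ (i : ℕ) •
        res F (inter_mono V (leOfHom (face 𝒰 x i))) (cmp 𝒰 F n V y (x ∘ Fin.succAbove i)) := by
  have h := d_pr 𝒰 (PF F) n x
  have h2 : ((CK 𝒰 (PF F)).d n (n + 1) ≫ pr 𝒰 (PF F) (n + 1) x).app V y =
      (∑ i : Fin (n + 2), (-1 : ℤ) ^ (i : ℕ) •
        (pr 𝒰 (PF F) n (x ∘ Fin.succAbove i) ≫ (PF F).map (face 𝒰 x i).op)).app V y := by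
    rw [h]
  rw [sum_app] at h2
  refine h2.trans ?_
  refine Finset.sum_congr rfl (fun i _ => ?_)
  rw [zsmul_app]
  rfl

lemma cmp_aug (V : X.Opens) (s : Γ(F, V)) (x : Fin 1 → ι) :
    cmp 𝒰 F 0 V ((cechShAug 𝒰 F).app V s) x = res F (inter_le_left V (Ux 𝒰 x)) s := by
  have h : cechShAug 𝒰 F ≫ pr 𝒰 (PF F) 0 x =
      (Scheme.Modules.restrictAdjunction (∏ᶜ (𝒰 ∘ x)).ι).unit.app F :=
    limit.lift_π _ _
  have h2 := congrArg (fun φ : F ⟶ (PF F).obj (op (Ux 𝒰 x)) => φ.app V s) h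
  exact h2

/-- the `x`-component restricted to a smaller open `T` -/
noncomputable def cmpT (n : ℕ) (V : X.Opens) (y : Γ((K 𝒰 F).X n, V)) (x : Fin (n + 1) → ι)
    (T : X.Opens) (h : T ≤ inter V (Ux 𝒰 x)) : Γ(F, T) :=
  res F h (cmp 𝒰 F n V y x)

lemma cmpT_congr (n : ℕ) (V : X.Opens) (y : Γ((K 𝒰 F).X n, V)) {x x' : Fin (n + 1) → ι}
    (e : x = x') (T : X.Opens) (h : T ≤ inter V (Ux 𝒰 x)) (h' : T ≤ inter V (Ux 𝒰 x')) :
    cmpT 𝒰 F n V y x T h = cmpT 𝒰 F n V y x' T h' := by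
  subst e
  rfl

lemma cmpT_self (n : ℕ) (V : X.Opens) (y : Γ((K 𝒰 F).X n, V)) (x : Fin (n + 1) → ι)
    (h : inter V (Ux 𝒰 x) ≤ inter V (Ux 𝒰 x)) :
    cmpT 𝒰 F n V y x _ h = cmp 𝒰 F n V y x :=
  res_self F h _

lemma res_cmpT (n : ℕ) (V : X.Opens) (y : Γ((K 𝒰 F).X n, V)) (x : Fin (n + 1) → ι)
    (T T' : X.Opens) (h : T ≤ inter V (Ux 𝒰 x)) (hT : T' ≤ T) :
    res F hT (cmpT 𝒰 F n V y x T h) = cmpT 𝒰 F n V y x T' (hT.trans h) :=
  res_res F h hT _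

lemma cmpT_zero (n : ℕ) (V : X.Opens) (x : Fin (n + 1) → ι)
    (T : X.Opens) (h : T ≤ inter V (Ux 𝒰 x)) : cmpT 𝒰 F n V 0 x T h = 0 := by
  unfold cmpT
  rw [cmp_zero]
  exact map_zero _

lemma cmpT_d (n : ℕ) (V : X.Opens) (y : Γ((K 𝒰 F).X n, V)) (x : Fin (n + 2) → ι)
    (T : X.Opens) (h : T ≤ inter V (Ux 𝒰 x)) :
    cmpT 𝒰 F (n + 1) V (((K 𝒰 F).d n (n + 1)).app V y) x T h =
      ∑ i : Fin (n + 2), (-1 : ℤ) ^ (i : ℕ) •
        cmpT 𝒰 F n V y (x ∘ Fin.succAbove i) T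
          (h.trans (inter_mono V (leOfHom (face 𝒰 x i)))) := by
  unfold cmpT
  rw [cmp_d, map_sum]
  refine Finset.sum_congr rfl (fun i _ => ?_)
  rw [map_zsmul, res_res]

lemma cmpT_aug (V : X.Opens) (s : Γ(F, V)) (x : Fin 1 → ι)
    (T : X.Opens) (h : T ≤ inter V (Ux 𝒰 x)) :
    cmpT 𝒰 F 0 V ((cechShAug 𝒰 F).app V s) x T h = res F (h.trans (inter_le_left V _)) s := by
  unfold cmpT
  rw [cmp_aug, res_res]

end Groth.Agent.Lib.T2H4.CechShC
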