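import Mathlib
import Groth.Prelude.Def_CechOX
import Groth.Agent.Lib.T2H4CechShC

/-!
# The Čech complex of sheaves of an `O_X`-module is a resolution (helper4)
-/

set_option autoImplicit false
universe u
open CategoryTheory CategoryTheory.Limits AlgebraicGeometry Opposite TopologicalSpace

namespace Groth.Agent.Lib.T2H4.CechShD
open Groth.Agent.Lib.T2H4.CechShA Groth.Agent.Lib.T2H4.CechShB Groth.Agent.Lib.T2H4.CechShC CechOX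

variable {X : Scheme.{u}} {ι : Type u} (𝒰 : ι → X.Opens) (F : X.Modules)

lemma cons_comp_succAbove_zero {n : ℕ} (i₀ : ι) (x : Fin (n + 1) → ι) :
    (Fin.cons i₀ x : Fin (n + 2) → ι) ∘ Fin.succAbove 0 = x := by
  funext a
  simp [Fin.succAbove_zero]

lemma cons_comp_succAbove_succ {n : ℕ} (i₀ : ι) (x : Fin (n + 2) → ι) (i : Fin (n + 2)) :
    (Fin.cons i₀ x : Fin (n + 3) → ι) ∘ Fin.succAbove i.succ =
      Fin.cons i₀ (x ∘ Fin.succAbove i) := by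
  funext a
  refine Fin.cases ?_ (fun b => ?_) a
  · simp [Fin.succ_succAbove_zero]
  · simp [Fin.succ_succAbove_succ]

lemma cons_comp_succAbove_one (i₀ : ι) (x : Fin 1 → ι) :
    (Fin.cons i₀ x : Fin 2 → ι) ∘ Fin.succAbove 1 = fun _ => i₀ := by
  funext a
  have ha : a = 0 := Subsingleton.elim _ _
  subst ha
  rfl

lemma le_inter_cons {n : ℕ} (V : X.Opens) (i₀ : ι) (hV : V ≤ 𝒰 i₀) (x : Fin (n + 1) → ι)
    {T : X.Opens} (h : T ≤ inter V (Ux 𝒰 x)) :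
    T ≤ inter V (Ux 𝒰 (Fin.cons i₀ x : Fin (n + 2) → ι)) := by
  refine le_inter (h.trans (inter_le_left _ _)) (le_Ux 𝒰 _ (fun a => ?_))
  refine Fin.cases ?_ (fun b => ?_) a
  · simpa using (h.trans (inter_le_left _ _)).trans hV
  · simpa using (h.trans (inter_le_right _ _)).trans (Ux_le 𝒰 x b)

/-- local exactness in positive degrees: on an open contained in a member of the covering, every
cocycle is a coboundary. -/
theorem exists_d_eq (n : ℕ) (V : X.Opens) (i₀ : ι) (hV : V ≤ 𝒰 i₀)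
    (y : Γ((K 𝒰 F).X (n + 1), V)) (hy : ((K 𝒰 F).d (n + 1) (n + 2)).app V y = 0) :
    ∃ z : Γ((K 𝒰 F).X n, V), ((K 𝒰 F).d n (n + 1)).app V z = y := by
  obtain ⟨z, hz⟩ := exists_cmp_eq 𝒰 F n V (fun x =>
    cmpT 𝒰 F (n + 1) V y (Fin.cons i₀ x) _ (le_inter_cons 𝒰 V i₀ hV x le_rfl))
  refine ⟨z, cmp_ext 𝒰 F (n + 1) V _ _ (fun x => ?_)⟩
  -- the relation coming from `d y = 0` at the index `cons i₀ x`
  have hB := cmpT_d 𝒰 F (n + 1) V y (Fin.cons i₀ x) (inter V (Ux 𝒰 x))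
    (le_inter_cons 𝒰 V i₀ hV x le_rfl)
  rw [hy, cmpT_zero, Fin.sum_univ_succ] at hB
  -- the formula for `d z`
  rw [← cmpT_self 𝒰 F (n + 1) V _ x le_rfl, cmpT_d]
  have h0 : cmpT 𝒰 F (n + 1) V y ((Fin.cons i₀ x : Fin (n + 3) → ι) ∘ Fin.succAbove 0)
      (inter V (Ux 𝒰 x)) ((le_inter_cons 𝒰 V i₀ hV x le_rfl).trans
        (inter_mono V (leOfHom (face 𝒰 (Fin.cons i₀ x : Fin (n + 3) → ι) 0)))) =
      cmp 𝒰 F (n + 1) V y x :=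
    (cmpT_congr 𝒰 F (n + 1) V y (cons_comp_succAbove_zero i₀ x) _ _ le_rfl).trans
      (cmpT_self 𝒰 F (n + 1) V y x le_rfl)
  have h1 : ∀ i : Fin (n + 2),
      cmpT 𝒰 F (n + 1) V y ((Fin.cons i₀ x : Fin (n + 3) → ι) ∘ Fin.succAbove i.succ)
        (inter V (Ux 𝒰 x)) ((le_inter_cons 𝒰 V i₀ hV x le_rfl).trans
          (inter_mono V (leOfHom (face 𝒰 (Fin.cons i₀ x : Fin (n + 3) → ι) i.succ)))) =
      cmpT 𝒰 F n V z (x ∘ Fin.succAbove i) (inter V (Ux 𝒰 x))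
        (le_rfl.trans (inter_mono V (leOfHom (face 𝒰 x i)))) := by
    intro i
    unfold cmpT
    rw [hz]
    unfold cmpT
    rw [res_res]
    exact cmpT_congr 𝒰 F (n + 1) V y (cons_comp_succAbove_succ i₀ x i) _ _ _
  rw [h0] at hB
  simp only [Fin.val_zero, pow_zero, one_smul, Fin.val_succ, pow_succ, mul_neg, mul_one,
    neg_smul, Finset.sum_neg_distrib] at hB
  rw [Finset.sum_congr rfl (fun (i : Fin (n + 2)) _ =>
    congrArg (fun w => (-1 : ℤ) ^ (i : ℕ) • w) (h1 i))] at hB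
  exact (eq_of_sub_eq_zero ((sub_eq_add_neg _ _).trans hB.symm)).symm

/-- local exactness in degree `0`: on an open contained in a member of the covering, every
`0`-cocycle comes from a section of `F`. -/
theorem exists_aug_eq (V : X.Opens) (i₀ : ι) (hV : V ≤ 𝒰 i₀)
    (y : Γ((K 𝒰 F).X 0, V)) (hy : ((K 𝒰 F).d 0 1).app V y = 0) :
    ∃ s : Γ(F, V), (cechShAug 𝒰 F).app V s = y := by
  have hV0 : V ≤ inter V (Ux 𝒰 (fun _ : Fin 1 => i₀)) :=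
    le_inter le_rfl (le_Ux 𝒰 _ (fun _ => hV))
  refine ⟨cmpT 𝒰 F 0 V y (fun _ => i₀) V hV0, cmp_ext 𝒰 F 0 V _ _ (fun x => ?_)⟩
  have hB := cmpT_d 𝒰 F 0 V y (Fin.cons i₀ x) (inter V (Ux 𝒰 x))
    (le_inter_cons 𝒰 V i₀ hV x le_rfl)
  rw [hy, cmpT_zero, Fin.sum_univ_two] at hB
  rw [← cmpT_self 𝒰 F 0 V _ x le_rfl, cmpT_aug]
  have h0 : cmpT 𝒰 F 0 V y ((Fin.cons i₀ x : Fin 2 → ι) ∘ Fin.succAbove 0)
      (inter V (Ux 𝒰 x)) ((le_inter_cons 𝒰 V i₀ hV x le_rfl).trans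
        (inter_mono V (leOfHom (face 𝒰 (Fin.cons i₀ x : Fin 2 → ι) 0)))) =
      cmp 𝒰 F 0 V y x :=
    (cmpT_congr 𝒰 F 0 V y (cons_comp_succAbove_zero i₀ x) _ _ le_rfl).trans
      (cmpT_self 𝒰 F 0 V y x le_rfl)
  have h1 : cmpT 𝒰 F 0 V y ((Fin.cons i₀ x : Fin 2 → ι) ∘ Fin.succAbove 1)
      (inter V (Ux 𝒰 x)) ((le_inter_cons 𝒰 V i₀ hV x le_rfl).trans
        (inter_mono V (leOfHom (face 𝒰 (Fin.cons i₀ x : Fin 2 → ι) 1)))) =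
      res F ((le_rfl : inter V (Ux 𝒰 x) ≤ _).trans (inter_le_left V _))
        (cmpT 𝒰 F 0 V y (fun _ => i₀) V hV0) := by
    rw [res_cmpT]
    exact cmpT_congr 𝒰 F 0 V y (cons_comp_succAbove_one i₀ x) _ _ _
  rw [h0, h1] at hB
  simp only [Fin.val_zero, pow_zero, one_smul, Fin.val_one, pow_one, neg_smul] at hB
  exact (eq_of_sub_eq_zero ((sub_eq_add_neg _ _).trans hB.symm)).symm

/-- the coaugmentation is injective on sections when the family covers `X` -/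
theorem aug_app_injective (h𝒰 : ⨆ i, 𝒰 i = ⊤) (V : X.Opens) :
    Function.Injective ((cechShAug 𝒰 F).app V) := by
  refine (injective_iff_map_eq_zero ((cechShAug 𝒰 F).app V).hom).2 (fun s hs => ?_)
  refine eq_zero_of_locally F s (fun p hp => ?_)
  have hp' : p ∈ (⨆ i, 𝒰 i : X.Opens) := by rw [h𝒰]; trivial
  obtain ⟨i₀, hi₀⟩ := Opens.mem_iSup.1 hp'
  have hT : V ⊓ 𝒰 i₀ ≤ inter V (Ux 𝒰 (fun _ : Fin 1 => i₀)) :=
    le_inter inf_le_left (le_Ux 𝒰 _ (fun _ => inf_le_right))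
  refine ⟨V ⊓ 𝒰 i₀, inf_le_left, ⟨hp, hi₀⟩, ?_⟩
  have h1 := cmpT_aug 𝒰 F V s (fun _ : Fin 1 => i₀) (V ⊓ 𝒰 i₀) hT
  have hs' : (cechShAug 𝒰 F).app V s = 0 := hs
  rw [hs', cmpT_zero] at h1
  exact h1.symm

/-- the composite of the coaugmentation and the first differential vanishes -/
theorem aug_d : cechShAug 𝒰 F ≫ (K 𝒰 F).d 0 1 = 0 := by
  apply Scheme.Modules.hom_ext
  intro V
  ext s
  change ((K 𝒰 F).d 0 1).app V ((cechShAug 𝒰 F).app V s) = 0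
  refine cmp_ext 𝒰 F 1 V _ _ (fun x => ?_)
  rw [← cmpT_self 𝒰 F 1 V _ x le_rfl, ← cmpT_self 𝒰 F 1 V 0 x le_rfl, cmpT_zero, cmpT_d,
    Fin.sum_univ_two, cmpT_aug, cmpT_aug]
  simp

/-- the short complex `F ⟶ 𝔠^0 ⟶ 𝔠^1` -/
noncomputable def augSC : ShortComplex X.Modules :=
  ShortComplex.mk (cechShAug 𝒰 F) ((K 𝒰 F).d 0 1) (aug_d 𝒰 F)

lemma exists_mem_le (h𝒰 : ⨆ i, 𝒰 i = ⊤) (V : X.Opens) (p : X) (hp : p ∈ V) :
    ∃ i₀ : ι, p ∈ V ⊓ 𝒰 i₀ := by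
  have hp' : p ∈ (⨆ i, 𝒰 i : X.Opens) := by rw [h𝒰]; trivial
  obtain ⟨i₀, hi₀⟩ := Opens.mem_iSup.1 hp'
  exact ⟨i₀, ⟨hp, hi₀⟩⟩

theorem augSC_exact (h𝒰 : ⨆ i, 𝒰 i = ⊤) : (augSC 𝒰 F).Exact := by
  apply exact_of_locally
  intro V y hy p hp
  obtain ⟨i₀, hi₀⟩ := exists_mem_le 𝒰 h𝒰 V p hp
  refine ⟨V ⊓ 𝒰 i₀, inf_le_left, hi₀, ?_⟩
  have hy' : ((K 𝒰 F).d 0 1).app (V ⊓ 𝒰 i₀) (res ((K 𝒰 F).X 0) inf_le_left y) = 0 := by
    rw [app_res]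
    have : ((K 𝒰 F).d 0 1).app V y = 0 := hy
    rw [this]
    exact map_zero _
  exact exists_aug_eq 𝒰 F (V ⊓ 𝒰 i₀) i₀ inf_le_right _ hy'

theorem sc_exact (h𝒰 : ⨆ i, 𝒰 i = ⊤) (n : ℕ) :
    ((K 𝒰 F).sc' n (n + 1) (n + 2)).Exact := by
  apply exact_of_locally
  intro V y hy p hp
  obtain ⟨i₀, hi₀⟩ := exists_mem_le 𝒰 h𝒰 V p hp
  refine ⟨V ⊓ 𝒰 i₀, inf_le_left, hi₀, ?_⟩
  have hy' : ((K 𝒰 F).d (n + 1) (n + 2)).app (V ⊓ 𝒰 i₀)
      (res ((K 𝒰 F).X (n + 1)) inf_le_left y) = 0 := by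
    rw [app_res]
    have : ((K 𝒰 F).d (n + 1) (n + 2)).app V y = 0 := hy
    rw [this]
    exact map_zero _
  exact exists_d_eq 𝒰 F n (V ⊓ 𝒰 i₀) i₀ inf_le_right _ hy'

/-- the Čech complex of sheaves is a resolution -/
theorem resolution (h𝒰 : ⨆ i, 𝒰 i = ⊤) :
    Mono (cechShAug 𝒰 F) ∧
    cechShAug 𝒰 F ≫ ((cechSh 𝒰).obj F).d 0 1 = 0 ∧
    (∀ (G : X.Modules) (g : G ⟶ ((cechSh 𝒰).obj F).X 0), g ≫ ((cechSh 𝒰).obj F).d 0 1 = 0 →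
      ∃! g' : G ⟶ F, g' ≫ cechShAug 𝒰 F = g) ∧
    ∀ p : ℕ, IsZero (((cechSh 𝒰).obj F).homology (p + 1)) := by
  haveI hmono : Mono (cechShAug 𝒰 F) :=
    mono_of_injective_app _ (aug_app_injective 𝒰 F h𝒰)
  refine ⟨hmono, aug_d 𝒰 F, ?_, ?_⟩
  · intro G g hg
    haveI : Mono (augSC 𝒰 F).f := hmono
    refine ⟨(augSC_exact 𝒰 F h𝒰).lift g hg, (augSC_exact 𝒰 F h𝒰).lift_f g hg, ?_⟩
    intro g'' hg''
    apply (cancel_mono (cechShAug 𝒰 F)).1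
    exact hg''.trans ((augSC_exact 𝒰 F h𝒰).lift_f g hg).symm
  · intro p
    rw [← HomologicalComplex.exactAt_iff_isZero_homology]
    rw [HomologicalComplex.exactAt_iff' ((cechSh 𝒰).obj F) p (p + 1) (p + 2) (by simp) (by simp)]
    exact sc_exact 𝒰 F h𝒰 p

end Groth.Agent.Lib.T2H4.CechShD
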