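import Mathlib
import Groth.Agent.Lib.T1H4ChaoticAlg

/-!
# Base change maps and exact sequences (helper4)

Diagram chases showing that bijectivity of base change maps passes to kernels (flat case),
cokernels and extensions.
-/

set_option autoImplicit false
set_option linter.unusedSectionVars false
set_option linter.style.haveILetI false
universe u
open CategoryTheory TensorProduct ChangeOfRings ModuleCat

namespace Groth.Agent.Lib.T1H4.Chaotic

section Chase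

variable {T₁ T₂ T₃ Y₁ Y₂ Y₃ : Type*} [AddCommGroup T₁] [AddCommGroup T₂] [AddCommGroup T₃]
  [AddCommGroup Y₁] [AddCommGroup Y₂] [AddCommGroup Y₃]
  (ta : T₁ →+ T₂) (tb : T₂ →+ T₃) (a' : Y₁ →+ Y₂) (b' : Y₂ →+ Y₃)
  (c₁ : T₁ →+ Y₁) (c₂ : T₂ →+ Y₂) (c₃ : T₃ →+ Y₃)

include ta tb a' b' in
lemma chaseK (h12 : ∀ z, c₂ (ta z) = a' (c₁ z)) (h23 : ∀ z, c₃ (tb z) = b' (c₂ z))
    (hta : Function.Injective ta) (hT : ∀ z, tb z = 0 → ∃ w, ta w = z)
    (ha' : Function.Injective a') (hY0 : ∀ y, b' (a' y) = 0)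
    (hc₂ : Function.Bijective c₂) (hc₃ : Function.Injective c₃) : Function.Bijective c₁ := by
  constructor
  · intro z z' h
    apply hta
    apply hc₂.1
    rw [h12, h12, h]
  · intro y
    obtain ⟨z, hz⟩ := hc₂.2 (a' y)
    have h0 : tb z = 0 := by
      apply hc₃
      rw [h23, hz, hY0, map_zero]
    obtain ⟨w, rfl⟩ := hT z h0
    refine ⟨w, ha' ?_⟩
    rw [← h12, hz]

include ta tb a' b' in
lemma chaseQ (h12 : ∀ z, c₂ (ta z) = a' (c₁ z)) (h23 : ∀ z, c₃ (tb z) = b' (c₂ z))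
    (hT0 : ∀ z, tb (ta z) = 0) (htb : Function.Surjective tb)
    (hY : ∀ y, b' y = 0 → ∃ x, a' x = y) (hb' : Function.Surjective b')
    (hc₁ : Function.Surjective c₁) (hc₂ : Function.Bijective c₂) : Function.Bijective c₃ := by
  constructor
  · rw [injective_iff_map_eq_zero]
    intro w hw
    obtain ⟨z, rfl⟩ := htb w
    rw [h23] at hw
    obtain ⟨x, hx⟩ := hY _ hw
    obtain ⟨v, rfl⟩ := hc₁ x
    rw [← h12] at hx
    rw [← hc₂.1 hx, hT0]
  · intro q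
    obtain ⟨y, rfl⟩ := hb' q
    obtain ⟨z, rfl⟩ := hc₂.2 y
    exact ⟨tb z, h23 z⟩

include ta tb a' b' in
lemma chaseE (h12 : ∀ z, c₂ (ta z) = a' (c₁ z)) (h23 : ∀ z, c₃ (tb z) = b' (c₂ z))
    (hT : ∀ z, tb z = 0 → ∃ w, ta w = z) (htb : Function.Surjective tb)
    (ha' : Function.Injective a') (hY : ∀ y, b' y = 0 → ∃ x, a' x = y)
    (hc₁ : Function.Bijective c₁) (hc₃ : Function.Bijective c₃) : Function.Bijective c₂ := by
  constructor
  · rw [injective_iff_map_eq_zero]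
    intro z hz
    have h0 : tb z = 0 := by
      apply hc₃.1
      rw [h23, hz, map_zero, map_zero]
    obtain ⟨w, rfl⟩ := hT z h0
    rw [h12] at hz
    have hw : c₁ w = 0 := ha' (hz.trans (map_zero a').symm)
    have hw0 : w = 0 := hc₁.1 (hw.trans (map_zero c₁).symm)
    rw [hw0, map_zero]
  · intro y
    obtain ⟨v, hv⟩ := hc₃.2 (b' y)
    obtain ⟨z, rfl⟩ := htb v
    have h0 : b' (y - c₂ z) = 0 := by
      rw [map_sub, ← h23, hv, sub_self]
    obtain ⟨x, hx⟩ := hY _ h0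
    obtain ⟨w, rfl⟩ := hc₁.2 x
    refine ⟨z + ta w, ?_⟩
    rw [map_add, h12, hx]
    abel

end Chase

section Generic

variable {R₀ : Type u} [CommRing R₀] {A B C' : Type u} [AddCommGroup A] [AddCommGroup B]
  [AddCommGroup C'] [Module R₀ A] [Module R₀ B] [Module R₀ C']
  (Q : Type u) [AddCommGroup Q] [Module R₀ Q] (a : A →ₗ[R₀] B) (b : B →ₗ[R₀] C')

theorem generic_right_exact (hab : ∀ x, b x = 0 → ∃ w, a w = x) (hab0 : ∀ w, b (a w) = 0)
    (hb : Function.Surjective b) (z : Q ⊗[R₀] B) (hz : LinearMap.lTensor Q b z = 0) :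
    ∃ w, LinearMap.lTensor Q a w = z := by
  have hex : Function.Exact a b := fun x => ⟨hab x, by rintro ⟨w, rfl⟩; exact hab0 w⟩
  exact ((lTensor_exact Q hex hb) z).1 hz

theorem generic_flat_exact [Module.Flat R₀ Q] (hab : ∀ x, b x = 0 → ∃ w, a w = x)
    (hab0 : ∀ w, b (a w) = 0) (z : Q ⊗[R₀] B) (hz : LinearMap.lTensor Q b z = 0) :
    ∃ w, LinearMap.lTensor Q a w = z := by
  have hex : Function.Exact a b := fun x => ⟨hab x, by rintro ⟨w, rfl⟩; exact hab0 w⟩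
  exact ((Module.Flat.lTensor_exact Q hex) z).1 hz

theorem generic_flat_injective [Module.Flat R₀ Q] (ha : Function.Injective a) :
    Function.Injective (LinearMap.lTensor Q a) :=
  Module.Flat.lTensor_preserves_injective_linearMap a ha

theorem generic_surjective (hb : Function.Surjective b) :
    Function.Surjective (LinearMap.lTensor Q b) :=
  LinearMap.lTensor_surjective Q hb

theorem generic_zero (hab0 : ∀ w, b (a w) = 0) (w : Q ⊗[R₀] A) :
    LinearMap.lTensor Q b (LinearMap.lTensor Q a w) = 0 := by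
  induction w using TensorProduct.induction_on with
  | zero => rw [map_zero, map_zero]
  | add w w' h h' => rw [map_add, map_add, h, h', add_zero]
  | tmul q x => rw [LinearMap.lTensor_tmul, LinearMap.lTensor_tmul, hab0, TensorProduct.tmul_zero]

end Generic

section BC

variable {R S : Type u} [CommRing R] [CommRing S] (f : R →+* S)

lemma flat_compHom (hf : f.Flat) :
    letI : Module R S := Module.compHom S f
    Module.Flat R S := hf

section Map

variable {X₁ X₂ : ModuleCat.{u} R} {Y₁ Y₂ : ModuleCat.{u} S}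
  (φ₁ : X₁ ⟶ (ModuleCat.restrictScalars f).obj Y₁)
  (φ₂ : X₂ ⟶ (ModuleCat.restrictScalars f).obj Y₂) (a : X₁ ⟶ X₂) (a' : Y₁ ⟶ Y₂)

/-- the induced map on extensions of scalars -/
noncomputable def tmap :
    (ModuleCat.extendScalars f).obj X₁ →+ (ModuleCat.extendScalars f).obj X₂ :=
  letI : Module R S := Module.compHom S f
  (LinearMap.lTensor S a.hom).toAddMonoidHom

lemma tmap_tmul (s : S) (x : X₁) :
    tmap f a (s ⊗ₜ[R, f] x : (ModuleCat.extendScalars f).obj X₁) =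
      (s ⊗ₜ[R, f] a.hom x : (ModuleCat.extendScalars f).obj X₂) := rfl

lemma bc_tmap_tmul (h : ∀ x : X₁, (φ₂.hom (a.hom x) : Y₂) = a'.hom (φ₁.hom x : Y₁))
    (s : S) (x : X₁) :
    (bc f X₂ Y₂ φ₂).hom (tmap f a (s ⊗ₜ[R, f] x : (ModuleCat.extendScalars f).obj X₁)) =
      a'.hom ((bc f X₁ Y₁ φ₁).hom (s ⊗ₜ[R, f] x : (ModuleCat.extendScalars f).obj X₁)) := by
  rw [tmap_tmul, bc_tmul, bc_tmul, h]
  exact (a'.hom.map_smul s (φ₁.hom x : Y₁)).symm

lemma bc_tmap (h : ∀ x : X₁, (φ₂.hom (a.hom x) : Y₂) = a'.hom (φ₁.hom x : Y₁))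
    (z : (ModuleCat.extendScalars f).obj X₁) :
    (bc f X₂ Y₂ φ₂).hom (tmap f a z) = a'.hom ((bc f X₁ Y₁ φ₁).hom z) := by
  let e₁ : (ModuleCat.extendScalars f).obj X₁ →+ Y₂ :=
    (bc f X₂ Y₂ φ₂).hom.toAddMonoidHom.comp (tmap f a)
  let e₂ : (ModuleCat.extendScalars f).obj X₁ →+ Y₂ :=
    a'.hom.toAddMonoidHom.comp (bc f X₁ Y₁ φ₁).hom.toAddMonoidHom
  have hz : z ∈ AddMonoidHom.eqLocus e₁ e₂ := by
    induction z using TensorProduct.induction_on with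
    | zero => exact zero_mem _
    | add z z' hz hz' => exact add_mem hz hz'
    | tmul s x => exact bc_tmap_tmul f φ₁ φ₂ a a' h s x
  exact hz

end Map

variable {X₁ X₂ X₃ : ModuleCat.{u} R} {Y₁ Y₂ Y₃ : ModuleCat.{u} S}
  (φ₁ : X₁ ⟶ (ModuleCat.restrictScalars f).obj Y₁)
  (φ₂ : X₂ ⟶ (ModuleCat.restrictScalars f).obj Y₂)
  (φ₃ : X₃ ⟶ (ModuleCat.restrictScalars f).obj Y₃)
  (a : X₁ ⟶ X₂) (b : X₂ ⟶ X₃) (a' : Y₁ ⟶ Y₂) (b' : Y₂ ⟶ Y₃)

include a b a' b' in
/-- kernels: flat case -/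
theorem bc_bijective_kernel (hf : f.Flat)
    (h12 : ∀ x : X₁, (φ₂.hom (a.hom x) : Y₂) = a'.hom (φ₁.hom x : Y₁))
    (h23 : ∀ x : X₂, (φ₃.hom (b.hom x) : Y₃) = b'.hom (φ₂.hom x : Y₂))
    (ha : Function.Injective a.hom) (hab : ∀ x, b.hom x = 0 → ∃ w, a.hom w = x)
    (hab0 : ∀ w, b.hom (a.hom w) = 0)
    (ha' : Function.Injective a'.hom) (hab0' : ∀ y, b'.hom (a'.hom y) = 0)
    (h2 : Function.Bijective (bc f X₂ Y₂ φ₂).hom) (h3 : Function.Injective (bc f X₃ Y₃ φ₃).hom) :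
    Function.Bijective (bc f X₁ Y₁ φ₁).hom := by
  letI : Module R S := Module.compHom S f
  haveI : Module.Flat R S := flat_compHom f hf
  exact chaseK (tmap f a) (tmap f b) a'.hom.toAddMonoidHom b'.hom.toAddMonoidHom
    (bc f X₁ Y₁ φ₁).hom.toAddMonoidHom (bc f X₂ Y₂ φ₂).hom.toAddMonoidHom
    (bc f X₃ Y₃ φ₃).hom.toAddMonoidHom
    (bc_tmap f φ₁ φ₂ a a' h12) (bc_tmap f φ₂ φ₃ b b' h23)
    (generic_flat_injective S a.hom ha) (generic_flat_exact S a.hom b.hom hab hab0)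
    ha' hab0' h2 h3

include a b a' b' in
/-- cokernels -/
theorem bc_bijective_cokernel
    (h12 : ∀ x : X₁, (φ₂.hom (a.hom x) : Y₂) = a'.hom (φ₁.hom x : Y₁))
    (h23 : ∀ x : X₂, (φ₃.hom (b.hom x) : Y₃) = b'.hom (φ₂.hom x : Y₂))
    (hab0 : ∀ w, b.hom (a.hom w) = 0) (hb : Function.Surjective b.hom)
    (hab' : ∀ y, b'.hom y = 0 → ∃ x, a'.hom x = y) (hb' : Function.Surjective b'.hom)
    (h1 : Function.Surjective (bc f X₁ Y₁ φ₁).hom) (h2 : Function.Bijective (bc f X₂ Y₂ φ₂).hom) :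
    Function.Bijective (bc f X₃ Y₃ φ₃).hom := by
  letI : Module R S := Module.compHom S f
  exact chaseQ (tmap f a) (tmap f b) a'.hom.toAddMonoidHom b'.hom.toAddMonoidHom
    (bc f X₁ Y₁ φ₁).hom.toAddMonoidHom (bc f X₂ Y₂ φ₂).hom.toAddMonoidHom
    (bc f X₃ Y₃ φ₃).hom.toAddMonoidHom
    (bc_tmap f φ₁ φ₂ a a' h12) (bc_tmap f φ₂ φ₃ b b' h23)
    (generic_zero S a.hom b.hom hab0) (generic_surjective S b.hom hb)
    hab' hb' h1 h2

include a b a' b' in
/-- extensions -/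
theorem bc_bijective_extension
    (h12 : ∀ x : X₁, (φ₂.hom (a.hom x) : Y₂) = a'.hom (φ₁.hom x : Y₁))
    (h23 : ∀ x : X₂, (φ₃.hom (b.hom x) : Y₃) = b'.hom (φ₂.hom x : Y₂))
    (hab : ∀ x, b.hom x = 0 → ∃ w, a.hom w = x) (hab0 : ∀ w, b.hom (a.hom w) = 0)
    (hb : Function.Surjective b.hom)
    (ha' : Function.Injective a'.hom) (hab' : ∀ y, b'.hom y = 0 → ∃ x, a'.hom x = y)
    (h1 : Function.Bijective (bc f X₁ Y₁ φ₁).hom) (h3 : Function.Bijective (bc f X₃ Y₃ φ₃).hom) :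
    Function.Bijective (bc f X₂ Y₂ φ₂).hom := by
  letI : Module R S := Module.compHom S f
  exact chaseE (tmap f a) (tmap f b) a'.hom.toAddMonoidHom b'.hom.toAddMonoidHom
    (bc f X₁ Y₁ φ₁).hom.toAddMonoidHom (bc f X₂ Y₂ φ₂).hom.toAddMonoidHom
    (bc f X₃ Y₃ φ₃).hom.toAddMonoidHom
    (bc_tmap f φ₁ φ₂ a a' h12) (bc_tmap f φ₂ φ₃ b b' h23)
    (generic_right_exact S a.hom b.hom hab hab0 hb) (generic_surjective S b.hom hb)
    ha' hab' h1 h3

end BC

end Groth.Agent.Lib.T1H4.Chaotic
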