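import Mathlib
import Groth.Prelude.Def_ModSite2
import Groth.Agent.Lib.T1H4ChaoticSiteD
import Groth.Agent.Lib.T2H4ChaoticExact

/-!
# Quasi-coherent modules for the chaotic topology form a weak Serre subcategory (helper4)
-/

set_option autoImplicit false
set_option linter.unusedSectionVars false
set_option linter.style.haveILetI false
universe u
open CategoryTheory CategoryTheory.Limits Opposite

namespace Groth.Agent.Lib.T1H4.Chaotic

open Groth.Agent.Lib.T1H4.ModElt Groth.Agent.Lib.T1H4.ModInf

section General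

variable {D : Type u} [SmallCategory D] {K : GrothendieckTopology D} {O : Sheaf K CommRingCat.{u}}

lemma exists_of_cokernel_π_eq_zero (hK : AllTop K) {M N : ModSite.Mod O} (φ : M ⟶ N) (Y : D)
    (t : N.val.obj (op Y)) (ht : (cokernel.π φ).val.app (op Y) t = 0) :
    ∃ z : M.val.obj (op Y), φ.val.app (op Y) z = t := by
  obtain ⟨S, hS, hS'⟩ := exists_sieve_of_cokernel_π_eq_zero φ Y t ht
  have hS1 : S = ⊤ := hK Y S hS
  obtain ⟨z, hz⟩ := hS' (𝟙 Y) (by rw [hS1]; trivial)
  exact ⟨z, by rw [hz, restrict_id]⟩

/-- components as morphisms of modules over the commutative rings of sections -/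
abbrev appC {F G : ModSite.Mod O} (α : F ⟶ G) (V : D) : secC F V ⟶ secC G V := α.val.app (op V)

lemma resC_appC {F G : ModSite.Mod O} (α : F ⟶ G) {U V : D} (g : U ⟶ V) (x : secC F V) :
    ((resC G g).hom ((appC α V).hom x) : secC G U) =
      (appC α U).hom ((resC F g).hom x : secC F U) :=
  (app_restrict α g x).symm

end General

variable {C : Type u} [SmallCategory C] (O : Sheaf (⊥ : GrothendieckTopology C) CommRingCat.{u})

lemma allTop_bot : AllTop (⊥ : GrothendieckTopology C) :=
  fun _ _ hS => GrothendieckTopology.bot_covering.1 hS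

theorem isQuasicoherent_kernel (hO : ∀ (U V : C) (g : U ⟶ V), (O.obj.map g.op).hom.Flat)
    {F G : ModSite.Mod O} (α : F ⟶ G)
    (hF : SheafOfModules.IsQuasicoherent (R := ModSite.ringSh O) F)
    (hG : SheafOfModules.IsQuasicoherent (R := ModSite.ringSh O) G) :
    SheafOfModules.IsQuasicoherent (R := ModSite.ringSh O) (kernel α) := by
  rw [isQuasicoherent_iff] at hF hG ⊢
  intro U V g
  haveI : Mono (kernel.ι α) := inferInstance
  exact bc_bijective_kernel (O.obj.map g.op).hom (resC (kernel α) g) (resC F g) (resC G g)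
    (appC (kernel.ι α) V) (appC α V) (appC (kernel.ι α) U) (appC α U) (hO U V g)
    (resC_appC (kernel.ι α) g) (resC_appC α g)
    (injective_app_of_mono (kernel.ι α) V) (exists_kernel_lift α V) (kernel_ι_app α V)
    (injective_app_of_mono (kernel.ι α) U) (kernel_ι_app α U) (hF U V g) (hG U V g).1

theorem isQuasicoherent_cokernel {F G : ModSite.Mod O} (α : F ⟶ G)
    (hF : SheafOfModules.IsQuasicoherent (R := ModSite.ringSh O) F)
    (hG : SheafOfModules.IsQuasicoherent (R := ModSite.ringSh O) G) :
    SheafOfModules.IsQuasicoherent (R := ModSite.ringSh O) (cokernel α) := by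
  rw [isQuasicoherent_iff] at hF hG ⊢
  intro U V g
  haveI : Epi (cokernel.π α) := inferInstance
  exact bc_bijective_cokernel (O.obj.map g.op).hom (resC F g) (resC G g) (resC (cokernel α) g)
    (appC α V) (appC (cokernel.π α) V) (appC α U) (appC (cokernel.π α) U)
    (resC_appC α g) (resC_appC (cokernel.π α) g)
    (cokernel_π_app α V) (surjective_app_of_epi allTop_bot (cokernel.π α) V)
    (exists_of_cokernel_π_eq_zero allTop_bot α U)
    (surjective_app_of_epi allTop_bot (cokernel.π α) U) (hF U V g).2 (hG U V g)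

theorem isQuasicoherent_extension (S : ShortComplex (ModSite.Mod O)) (hS : S.ShortExact)
    (h1 : SheafOfModules.IsQuasicoherent (R := ModSite.ringSh O) S.X₁)
    (h3 : SheafOfModules.IsQuasicoherent (R := ModSite.ringSh O) S.X₃) :
    SheafOfModules.IsQuasicoherent (R := ModSite.ringSh O) S.X₂ := by
  rw [isQuasicoherent_iff] at h1 h3 ⊢
  intro U V g
  haveI : Mono S.f := hS.mono_f
  haveI : Epi S.g := hS.epi_g
  have hker := hS.exact.fIsKernel
  have hzero : ∀ (W : C) (w : S.X₁.val.obj (op W)),
      S.g.val.app (op W) (S.f.val.app (op W) w) = 0 := fun W w =>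
    congrArg (fun ψ : S.X₁ ⟶ S.X₃ => ψ.val.app (op W) w) S.zero
  exact bc_bijective_extension (O.obj.map g.op).hom (resC S.X₁ g) (resC S.X₂ g) (resC S.X₃ g)
    (appC S.f V) (appC S.g V) (appC S.f U) (appC S.g U)
    (resC_appC S.f g) (resC_appC S.g g)
    (exists_of_isLimit_kernelFork S.f S.g S.zero hker V) (hzero V)
    (surjective_app_of_epi allTop_bot S.g V)
    (injective_app_of_mono S.f U) (exists_of_isLimit_kernelFork S.f S.g S.zero hker U)
    (h1 U V g) (h3 U V g)

end Groth.Agent.Lib.T1H4.Chaotic
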