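import Mathlib
import Groth.Agent.Lib.Helper4NormDelta
import Groth.Agent.Lib.Helper23UnitStalk
set_option backward.isDefEq.respectTransparency.types false

/-!
# Stalks of the direct image of the structure sheaf along a closed immersion (helper4)

For a preimmersion (e.g. closed immersion) `i : Z ⟶ X` and `z : Z`, the stalk of `i_* O_Z` at `i z` has the same
length over `O_{X, i z}` as `O_{Z,z}` over itself; outside the image the stalks vanish.
-/

set_option autoImplicit false
set_option linter.style.haveILetI false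
universe u
open CategoryTheory CategoryTheory.Limits AlgebraicGeometry TopologicalSpace Opposite

namespace Groth.Agent.Lib.T2H4.ClosedImmLen

open Groth.Agent.Lib.Helper4.NormDelta Groth.Agent.Lib.Helper23.UnitStalk Groth.Agent.Lib.Helper23.GenLocus
  Groth.Agent.Lib.Helper2.QCoh

variable {X Z : Scheme.{u}} (i : Z ⟶ X)

/-- the comparison map from the stalk of `i_* O_Z` at `i z` to the stalk of `O_Z` at `z` -/
noncomputable def cmp (z : Z) :
    (pushO i).presheaf.stalk (i z) ⟶ (Coh.structureModule Z).presheaf.stalk z :=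
  TopCat.Presheaf.stalkPushforward Ab i.base (Coh.structureModule Z).presheaf z

theorem cmp_germ (z : Z) (U : X.Opens) (hz : i z ∈ U) (b : Γ(pushO i, U)) :
    (cmp i z).hom ((pushO i).presheaf.germ U (i z) hz b) =
      (Coh.structureModule Z).presheaf.germ (i ⁻¹ᵁ U) z hz (toS _ (ofPush i U b)) :=
  TopCat.Presheaf.stalkPushforward_germ_apply Ab i.base (Coh.structureModule Z).presheaf U z hz b

theorem cmp_bijective [IsPreimmersion i] (z : Z) : Function.Bijective (cmp i z).hom := by
  haveI : IsIso (cmp i z) :=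
    TopCat.Presheaf.stalkPushforward.stalkPushforward_iso_of_isInducing Ab i.isEmbedding.isInducing
      (Coh.structureModule Z).presheaf z
  exact ConcreteCategory.bijective_of_isIso (cmp i z)

theorem cmp_smul (z : Z) (r : X.presheaf.stalk (i z)) (p : (pushO i).presheaf.stalk (i z)) :
    (cmp i z).hom (r • p) = (i.stalkMap z).hom r • (cmp i z).hom p := by
  obtain ⟨W₁, hx₁, a, rfl⟩ := X.presheaf.exists_germ_eq (x := i z) r
  obtain ⟨W₂, hx₂, b, rfl⟩ := (pushO i).presheaf.exists_germ_eq p
  have hx : i z ∈ W₁ ⊓ W₂ := ⟨hx₁, hx₂⟩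
  rw [← TopCat.Presheaf.germ_res_apply X.presheaf (homOfLE (inf_le_left : W₁ ⊓ W₂ ≤ W₁)) (i z) hx a,
    ← TopCat.Presheaf.germ_res_apply (pushO i).presheaf (homOfLE (inf_le_right : W₁ ⊓ W₂ ≤ W₂)) (i z) hx b,
    ← germ_smul, cmp_germ, cmp_germ, pushO_smul]
  have h1 := Scheme.Hom.germ_stalkMap_apply i (W₁ ⊓ W₂) z hx
    (X.presheaf.map (homOfLE (inf_le_left : W₁ ⊓ W₂ ≤ W₁)).op a)
  rw [h1, ← germ_smul, smul_toS]
  rfl

/-- the stalk of `i_* O_Z` vanishes outside the image of `i` when the image is closed -/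
theorem subsingleton_stalk_of_notMem_range (hcl : IsClosed (Set.range i)) (x : X)
    (hx : x ∉ Set.range i) : Subsingleton ((pushO i).presheaf.stalk x) := by
  refine ⟨fun p q => ?_⟩
  let W : X.Opens := ⟨(Set.range i)ᶜ, hcl.isOpen_compl⟩
  have hxW : x ∈ W := hx
  have hW : i ⁻¹ᵁ W = ⊥ := by
    ext z
    simp only [Opens.coe_bot, Set.mem_empty_iff_false, iff_false]
    intro hz
    exact hz ⟨z, rfl⟩
  have key : ∀ p : (pushO i).presheaf.stalk x, p = 0 := by
    intro p
    obtain ⟨U, hxU, b, rfl⟩ := (pushO i).presheaf.exists_germ_eq p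
    have hx' : x ∈ U ⊓ W := ⟨hxU, hxW⟩
    rw [← TopCat.Presheaf.germ_res_apply (pushO i).presheaf (homOfLE (inf_le_left : U ⊓ W ≤ U)) x hx' b]
    have hbot : i ⁻¹ᵁ (U ⊓ W) = ⊥ := by
      apply le_bot_iff.1
      rw [← hW]
      exact (Opens.map i.base).monotone inf_le_right
    haveI : Subsingleton Γ(Z, i ⁻¹ᵁ (U ⊓ W)) := by
      rw [hbot]
      infer_instance
    have h0 : (pushO i).presheaf.map (homOfLE (inf_le_left : U ⊓ W ≤ U)).op b = 0 :=
      Subsingleton.elim (α := Γ(Z, i ⁻¹ᵁ (U ⊓ W))) _ _
    rw [h0, map_zero]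
  rw [key p, key q]

/-- **the length of the stalk of `i_* O_Z` at `i z` is the length of the local ring of `Z` at `z`** -/
theorem length_stalk_pushO [IsPreimmersion i] (z : Z) :
    Module.length (X.presheaf.stalk (i z)) ((pushO i).presheaf.stalk (i z)) =
      Module.length (Z.presheaf.stalk z) (Z.presheaf.stalk z) := by
  letI : Algebra (X.presheaf.stalk (i z)) (Z.presheaf.stalk z) := (i.stalkMap z).hom.toAlgebra
  letI : Module (X.presheaf.stalk (i z)) ((Coh.structureModule Z).presheaf.stalk z) :=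
    Module.compHom _ (i.stalkMap z).hom
  haveI : IsScalarTower (X.presheaf.stalk (i z)) (Z.presheaf.stalk z)
      ((Coh.structureModule Z).presheaf.stalk z) :=
    IsScalarTower.of_algebraMap_smul (fun r m => rfl)
  let e₀ : (pushO i).presheaf.stalk (i z) →ₗ[X.presheaf.stalk (i z)]
      (Coh.structureModule Z).presheaf.stalk z :=
    { toFun := (cmp i z).hom
      map_add' := map_add _
      map_smul' := fun r p => cmp_smul i z r p }
  let e : (pushO i).presheaf.stalk (i z) ≃ₗ[X.presheaf.stalk (i z)]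
      (Coh.structureModule Z).presheaf.stalk z :=
    LinearEquiv.ofBijective e₀ (cmp_bijective i z)
  rw [e.length_eq, Module.length_eq_of_surjective (S := X.presheaf.stalk (i z))
    (R := Z.presheaf.stalk z) (i.stalkMap_surjective z), (unitStalkEquiv z).length_eq]

end Groth.Agent.Lib.T2H4.ClosedImmLen
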