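import Mathlib
import Groth.Agent.S11625
import Groth.Agent.Lib.Helper8LocDualK
import Groth.Agent.Lib.Helper8LC2
set_option autoImplicit false
set_option linter.style.haveILetI false
universe u
open CategoryTheory IsLocalRing

namespace Groth.Agent.Lib.T2H4.CoassTop

open Groth.Agent.Lib.Helper8.LC Groth.Agent.Lib.Helper8.LocDual

section Gen
variable {R : Type u} [CommRing R] [IsNoetherianRing R] (I : Ideal R) (n : ℕ)

/-- right exactness of `H^n_I` on modules of dimension `≤ n`. -/
lemma H_map_surjective {X Y : Type u} [AddCommGroup X] [Module R X] [AddCommGroup Y] [Module R Y]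
    (g : X →ₗ[R] Y) (hg : Function.Surjective g)
    (hker : Module.supportDim R (LinearMap.ker g) < ((n + 1 : ℕ) : WithBot ℕ∞)) :
    Function.Surjective ((localCohomology I n).map (ModuleCat.ofHom g)).hom := by
  have hex : Function.Exact (LinearMap.ker g).subtype g := LinearMap.exact_subtype_ker_map g
  have hS := Sfg_shortExact (LinearMap.ker g).subtype g (Submodule.injective_subtype _) hg hex
  haveI := Groth.Agent.S11625.result R I (LinearMap.ker g) (n + 1) hker
  intro z
  obtain ⟨y, hy⟩ := H_exact₃ I n _ hS z (Subsingleton.elim _ _)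
  exact ⟨y, hy⟩

/-- exactness in the middle: if `H^n_I(X/N) = 0` then `H^n_I(N) → H^n_I(X)` is surjective. -/
lemma H_map_subtype_surjective {X : Type u} [AddCommGroup X] [Module R X] (N : Submodule R X)
    (h : Subsingleton (LocCoh.H I n (X ⧸ N))) :
    Function.Surjective ((localCohomology I n).map (ModuleCat.ofHom N.subtype)).hom := by
  have hex : Function.Exact N.subtype N.mkQ := LinearMap.exact_subtype_mkQ N
  have hS := Sfg_shortExact N.subtype N.mkQ (Submodule.injective_subtype _)
    (Submodule.mkQ_surjective _) hex
  intro y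
  obtain ⟨x, hx⟩ := H_exact₂ I n _ hS y (Subsingleton.elim _ _)
  exact ⟨x, hx⟩

end Gen
end Groth.Agent.Lib.T2H4.CoassTop
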