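import Mathlib
import Groth.Agent.S11625
import Groth.Agent.Lib.Helper8LocDualK
import Groth.Agent.Lib.Helper8LC2
import Groth.Agent.Lib.T2H4CoassTop0
set_option autoImplicit false
set_option linter.style.haveILetI false
universe u
open CategoryTheory IsLocalRing

namespace Groth.Agent.Lib.T2H4.CoassTop

open Groth.Agent.Lib.Helper8.LC Groth.Agent.Lib.Helper8.LocDual

section Pi
variable {R : Type u} [CommRing R]

lemma support_pi_subset (k : ℕ) (M : Type u) [AddCommGroup M] [Module R M] :
    Module.support R (Fin k → M) ⊆ Module.support R M := by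
  intro p hp
  by_contra hnot
  rw [Module.notMem_support_iff'] at hnot
  rw [Module.mem_support_iff'] at hp
  obtain ⟨x, hx⟩ := hp
  choose r hr hr0 using hnot
  apply hx (∏ i, r (x i))
  · intro hmem
    obtain ⟨i, -, hi⟩ := (p.2.prod_mem_iff).mp hmem
    exact hr (x i) hi
  · funext i
    rw [Pi.smul_apply, Pi.zero_apply, ← Finset.prod_erase_mul _ _ (Finset.mem_univ i), mul_smul,
      hr0, smul_zero]

lemma supportDim_pi_le (k : ℕ) (M : Type u) [AddCommGroup M] [Module R M] :
    Module.supportDim R (Fin k → M) ≤ Module.supportDim R M := by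
  unfold Module.supportDim
  exact Order.krullDim_le_of_strictMono (fun p => ⟨p.1, support_pi_subset k M p.2⟩)
    (fun a b hab => hab)

end Pi

section Img
variable {R : Type u} [CommRing R] [IsNoetherianRing R] (I : Ideal R) (n : ℕ)

/-- the image of `H^n_I(qM) → H^n_I(M)` lies in `q H^n_I(M)` when `dim M ≤ n`. -/
lemma H_map_subtype_mem_smul_top {M : Type u} [AddCommGroup M] [Module R M] (q : Ideal R)
    (hdim : Module.supportDim R M < ((n + 1 : ℕ) : WithBot ℕ∞))
    (x : LocCoh.H I n ↥(q • (⊤ : Submodule R M))) :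
    ((localCohomology I n).map (ModuleCat.ofHom (q • (⊤ : Submodule R M)).subtype)).hom x ∈
      (q • (⊤ : Submodule R (LocCoh.H I n M))) := by
  classical
  obtain ⟨k, a, ha⟩ := Submodule.fg_iff_exists_fin_generating_family.mp
    ((isNoetherianRing_iff_ideal_fg R).mp inferInstance q)
  have haq : ∀ i, a i ∈ q := fun i => ha ▸ Submodule.subset_span (Set.mem_range_self i)
  let g : (Fin k → M) →ₗ[R] M := ∑ i, a i • LinearMap.proj i
  have hgmem : ∀ v, g v ∈ (q • (⊤ : Submodule R M)) := by
    intro v
    change (∑ i, a i • LinearMap.proj (R := R) (φ := fun _ : Fin k => M) i) v ∈ _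
    rw [LinearMap.sum_apply]
    refine Submodule.sum_mem _ fun i _ => ?_
    rw [LinearMap.smul_apply]
    exact Submodule.smul_mem_smul (haq i) Submodule.mem_top
  let g₀ : (Fin k → M) →ₗ[R] ↥(q • (⊤ : Submodule R M)) := LinearMap.codRestrict _ g hgmem
  have hg₀ : Function.Surjective g₀ := by
    rintro ⟨y, hy⟩
    suffices h : ∃ v, g v = y by
      obtain ⟨v, hv⟩ := h
      exact ⟨v, Subtype.ext hv⟩
    refine Submodule.smul_induction_on hy ?_ ?_
    · intro r hr m _
      rw [← ha] at hr
      obtain ⟨c, hc⟩ := (Ideal.mem_span_range_iff_exists_fun).mp hr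
      refine ⟨fun i => c i • m, ?_⟩
      change (∑ i, a i • LinearMap.proj (R := R) (φ := fun _ : Fin k => M) i) _ = _
      rw [LinearMap.sum_apply, ← hc, Finset.sum_smul]
      refine Finset.sum_congr rfl fun i _ => ?_
      rw [LinearMap.smul_apply, LinearMap.proj_apply, smul_smul, mul_comm]
    · rintro y₁ y₂ ⟨v₁, h₁⟩ ⟨v₂, h₂⟩
      exact ⟨v₁ + v₂, by rw [map_add, h₁, h₂]⟩
  have hker : Module.supportDim R (LinearMap.ker g₀) < ((n + 1 : ℕ) : WithBot ℕ∞) :=
    lt_of_le_of_lt ((Module.supportDim_le_of_injective _ (Submodule.injective_subtype _)).trans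
      (supportDim_pi_le k M)) hdim
  obtain ⟨y, rfl⟩ := H_map_surjective I n g₀ hg₀ hker x
  have hcomp : ModuleCat.ofHom g₀ ≫ ModuleCat.ofHom (q • (⊤ : Submodule R M)).subtype =
      ∑ i, a i • ModuleCat.ofHom (LinearMap.proj (R := R) (φ := fun _ : Fin k => M) i) := by
    apply ModuleCat.hom_ext
    apply LinearMap.ext
    intro v
    change g v = _
    change (∑ i, a i • LinearMap.proj (R := R) (φ := fun _ : Fin k => M) i) v = _
    rw [ModuleCat.hom_sum, LinearMap.sum_apply, LinearMap.sum_apply]
    rfl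
  change ((localCohomology I n).map (ModuleCat.ofHom (q • (⊤ : Submodule R M)).subtype))
    (((localCohomology I n).map (ModuleCat.ofHom g₀)) y) ∈ _
  rw [← H_map_comp, hcomp, H_map_sum]
  refine Submodule.sum_mem _ fun i _ => ?_
  rw [H_map_smul]
  exact Submodule.smul_mem_smul (haq i) Submodule.mem_top

end Img
end Groth.Agent.Lib.T2H4.CoassTop
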