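import Mathlib
import Groth.Agent.S11625
import Groth.Agent.Lib.Helper8LocDualK
import Groth.Agent.Lib.Helper8LC2
import Groth.Agent.Lib.T2H4CoassTop1
set_option autoImplicit false
set_option linter.style.haveILetI false
universe u
open CategoryTheory IsLocalRing

namespace Groth.Agent.Lib.T2H4.CoassTop

open Groth.Agent.Lib.Helper8.LC Groth.Agent.Lib.Helper8.LocDual

section Dual
variable {R : Type u} [CommRing R] [IsNoetherianRing R] [IsLocalRing R]
  {E : Type u} [AddCommGroup E] [Module R E] (f : ResidueField R →ₗ[R] E)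
  (hf : InjHull.IsInjectiveHull f) (I : Ideal R) (n : ℕ)
  {M : Type u} [AddCommGroup M] [Module R M]
  (hdim : Module.supportDim R M < ((n + 1 : ℕ) : WithBot ℕ∞))

include hdim in
/-- a nonzero functional on `H^n_I(M)` killed by `q` forces `H^n_I(M/qM) ≠ 0`. -/
lemma nontrivial_H_quot_of_dual (q : Ideal R) (φ : LocCoh.H I n M →ₗ[R] E) (hφ : φ ≠ 0)
    (hq : ∀ a ∈ q, a • φ = 0) :
    Nontrivial (LocCoh.H I n (M ⧸ (q • (⊤ : Submodule R M)))) := by
  by_contra hnt
  rw [not_nontrivial_iff_subsingleton] at hnt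
  apply hφ
  apply LinearMap.ext
  intro x
  obtain ⟨y, rfl⟩ := H_map_subtype_surjective I n (q • (⊤ : Submodule R M)) hnt x
  have hmem := H_map_subtype_mem_smul_top I n q hdim y
  rw [LinearMap.zero_apply]
  refine Submodule.smul_induction_on hmem ?_ ?_
  · intro b hb z _
    have h1 := LinearMap.congr_fun (hq b hb) z
    rw [LinearMap.smul_apply, LinearMap.zero_apply, ← map_smul] at h1
    exact h1
  · intro z₁ z₂ h₁ h₂
    rw [map_add, h₁, h₂, add_zero]

include hf hdim in
/-- if `H^n_I(M/qM) ≠ 0` there is a nonzero functional on `H^n_I(M)` killed by `q`. -/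
lemma exists_dual_of_nontrivial_H_quot (q : Ideal R)
    (h : Nontrivial (LocCoh.H I n (M ⧸ (q • (⊤ : Submodule R M))))) :
    ∃ φ : LocCoh.H I n M →ₗ[R] E, φ ≠ 0 ∧ ∀ a ∈ q, a • φ = 0 := by
  have hker : Module.supportDim R (LinearMap.ker (q • (⊤ : Submodule R M)).mkQ) <
      ((n + 1 : ℕ) : WithBot ℕ∞) :=
    lt_of_le_of_lt (Module.supportDim_le_of_injective _ (Submodule.injective_subtype _)) hdim
  have hsurj := H_map_surjective I n (q • (⊤ : Submodule R M)).mkQ (Submodule.mkQ_surjective _) hker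
  haveI : Module.Injective R E := hf.isInjective
  have hex : ∃ ψ : LocCoh.H I n (M ⧸ (q • (⊤ : Submodule R M))) →ₗ[R] E, ψ ≠ 0 := by
    by_contra hall
    push Not at hall
    have := Groth.Agent.Lib.Helper8.LocDualK.subsingleton_of_hom_eq_zero E f hf.injective
      (LocCoh.H I n (M ⧸ (q • (⊤ : Submodule R M)))) hall
    exact not_subsingleton _ this
  obtain ⟨ψ, hψ⟩ := hex
  refine ⟨ψ ∘ₗ ((localCohomology I n).map (ModuleCat.ofHom (q • (⊤ : Submodule R M)).mkQ)).hom,
    ?_, ?_⟩
  · intro h0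
    apply hψ
    apply LinearMap.ext
    intro z
    obtain ⟨y, rfl⟩ := hsurj z
    exact LinearMap.congr_fun h0 y
  · intro a ha
    apply LinearMap.ext
    intro y
    rw [LinearMap.smul_apply, LinearMap.zero_apply, LinearMap.comp_apply, ← map_smul]
    have h1 : a • ((localCohomology I n).map (ModuleCat.ofHom (q • (⊤ : Submodule R M)).mkQ)).hom y
        = 0 := by
      apply smul_H_eq_zero_of_smul_eq_zero
      intro m
      obtain ⟨m, rfl⟩ := Submodule.mkQ_surjective _ m
      rw [← map_smul, Submodule.mkQ_apply, Submodule.Quotient.mk_eq_zero]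
      exact Submodule.smul_mem_smul ha Submodule.mem_top
    rw [h1, map_zero]

end Dual
end Groth.Agent.Lib.T2H4.CoassTop
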