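import Mathlib
import Groth.Agent.S11625
import Groth.Agent.S11614
import Groth.Agent.S11639
import Groth.Agent.S2935
import Groth.Agent.Lib.Helper8LocDualK
import Groth.Agent.Lib.Helper8LC2
import Groth.Agent.Lib.Helper8Acyc
import Groth.Agent.Lib.Helper8NV
import Groth.Agent.Lib.Helper29HLVT
import Groth.Agent.Lib.Helper18ComplProd
import Groth.Agent.Lib.T2H4CoassTop2
set_option autoImplicit false
set_option linter.style.haveILetI false
universe u
open CategoryTheory IsLocalRing

namespace Groth.Agent.Lib.T2H4.CoassTop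

open Groth.Agent.Lib.Helper8.LC Groth.Agent.Lib.Helper8.LocDual

section VN
variable {R : Type u} [CommRing R] [IsNoetherianRing R] [IsLocalRing R]
  (I : Ideal R) (n : ℕ) {M : Type u} [AddCommGroup M] [Module R M] [Module.Finite R M]
  (hn : Module.supportDim R M = ((n : ℕ) : WithBot ℕ∞))

include hn in
/-- if `H^n_I(M/qM) ≠ 0` for a prime `q` of the support of `M` then `dim R/q = n`. -/
lemma dim_eq_of_nontrivial_H_quot (q : Ideal R) [hq : q.IsPrime]
    (hqM : Module.annihilator R M ≤ q)
    (h : Nontrivial (LocCoh.H I n (M ⧸ (q • (⊤ : Submodule R M))))) :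
    ringKrullDim (R ⧸ q) = ((n : ℕ) : WithBot ℕ∞) := by
  have hqS : (⟨q, hq⟩ : PrimeSpectrum R) ∈ Module.support R M := by
    rw [Module.mem_support_iff_of_finite]
    exact hqM
  have hle : ringKrullDim (R ⧸ q) ≤ ((n : ℕ) : WithBot ℕ∞) := by
    have h0 := Groth.Agent.Lib.Helper28.ringKrullDim_quotient_le_supportDim hqS
    rw [hn] at h0
    exact h0
  refine le_antisymm hle ?_
  have hnot : ¬ Module.supportDim R (M ⧸ (q • (⊤ : Submodule R M))) < ((n : ℕ) : WithBot ℕ∞) := by
    intro hlt
    have := Groth.Agent.S11625.result R I (M ⧸ (q • (⊤ : Submodule R M))) n hlt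
    exact not_subsingleton _ this
  rw [Groth.Agent.S11639.supportDim_lt_iff] at hnot
  push Not at hnot
  obtain ⟨p', hp', hp'n⟩ := hnot
  rw [Module.support_quotient] at hp'
  obtain ⟨hp'M, hp'q⟩ := hp'
  rw [PrimeSpectrum.mem_zeroLocus, SetLike.coe_subset_coe] at hp'q
  have h1 : ringKrullDim (R ⧸ p'.asIdeal) ≤ ringKrullDim (R ⧸ q) :=
    ringKrullDim_le_of_surjective (Ideal.Quotient.factor hp'q) (Ideal.Quotient.factor_surjective hp'q)
  exact hp'n.trans h1

/-- transfer of vanishing along the quotient `R → R/q` for the module `M/qM`. -/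
lemma subsingleton_H_quot_iff (J : Ideal R) (q : Ideal R) :
    Subsingleton (LocCoh.H J n (M ⧸ (q • (⊤ : Submodule R M)))) ↔
      Subsingleton (LocCoh.H (J.map (algebraMap R (R ⧸ q))) n (M ⧸ (q • (⊤ : Submodule R M)))) := by
  obtain ⟨φ, -⟩ := Groth.Agent.S11614.result R (R ⧸ q) J (M ⧸ (q • (⊤ : Submodule R M))) n
  exact ⟨fun h => φ.toEquiv.subsingleton, fun h => φ.symm.toEquiv.subsingleton⟩

variable [IsAdicComplete (maximalIdeal R) R]

include hn in
/-- Hartshorne–Lichtenbaum: if `H^n_I(M/qM) ≠ 0` then `I + q` is primary to the maximal ideal. -/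
lemma radical_eq_of_nontrivial_H_quot (q : Ideal R) [hq : q.IsPrime]
    (hqM : Module.annihilator R M ≤ q)
    (h : Nontrivial (LocCoh.H I n (M ⧸ (q • (⊤ : Submodule R M))))) :
    (I ⊔ q).radical = maximalIdeal R := by
  have hdimq := dim_eq_of_nontrivial_H_quot I n hn q hqM h
  by_contra hrad
  -- a prime containing `I + q` different from the maximal ideal
  have hex : ∃ P : Ideal R, P.IsPrime ∧ I ⊔ q ≤ P ∧ P ≠ maximalIdeal R := by
    by_contra hall
    push Not at hall
    apply hrad
    by_cases htop : I ⊔ q = ⊤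
    · exfalso
      -- `1 = i + t`
      obtain ⟨i, hi, t, ht, hit⟩ := Submodule.mem_sup.mp (htop ▸ (Submodule.mem_top : (1 : R) ∈ ⊤))
      obtain ⟨y, hy⟩ := exists_ne (0 : LocCoh.H I n (M ⧸ (q • (⊤ : Submodule R M))))
      have ht0 : t • y = 0 := by
        apply smul_H_eq_zero_of_smul_eq_zero
        intro m
        obtain ⟨m, rfl⟩ := Submodule.mkQ_surjective _ m
        rw [← map_smul, Submodule.mkQ_apply, Submodule.Quotient.mk_eq_zero]
        exact Submodule.smul_mem_smul ht Submodule.mem_top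
      have hiy : i • y = y := by
        have : (i + t) • y = y := by rw [hit, one_smul]
        rw [add_smul, ht0, add_zero] at this
        exact this
      obtain ⟨k, hk⟩ := isPowerTorsion_H I n _ y
      have h1 : i ^ k • y = 0 := hk _ (Ideal.pow_mem_pow hi k)
      have h2 : ∀ j : ℕ, i ^ j • y = y := by
        intro j
        induction j with
        | zero => rw [pow_zero, one_smul]
        | succ j ih => rw [pow_succ, mul_smul, hiy, ih]
      exact hy ((h2 k).symm.trans h1)
    · rw [Ideal.radical_eq_sInf]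
      apply le_antisymm
      · apply sInf_le
        exact ⟨le_maximalIdeal htop, inferInstance⟩
      · apply le_sInf
        rintro P ⟨hP1, hP2⟩
        rw [hall P hP2 hP1]
  obtain ⟨P, hP, hIP, hPm⟩ := hex
  letI := Groth.Agent.Lib.Helper8.NV.isLocalRing_quotient q
  haveI : IsDomain (R ⧸ q) := Ideal.Quotient.isDomain q
  obtain ⟨-, hcompl⟩ := Groth.Agent.Lib.Helper18ComplProd.isAdicComplete_of_finite R (R ⧸ q)
  have hsurj : Function.Surjective (algebraMap R (R ⧸ q)) := Ideal.Quotient.mk_surjective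
  have hker : RingHom.ker (algebraMap R (R ⧸ q)) = q := Ideal.mk_ker
  have hqP : q ≤ P := le_sup_right.trans hIP
  have hPD : (P.map (algebraMap R (R ⧸ q))).IsPrime :=
    Ideal.map_isPrime_of_surjective hsurj (by rw [hker]; exact hqP)
  have hPDm : P.map (algebraMap R (R ⧸ q)) ≠ maximalIdeal (R ⧸ q) := by
    intro heq
    apply hPm
    have h1 : (P.map (algebraMap R (R ⧸ q))).comap (algebraMap R (R ⧸ q)) = P := by
      rw [Ideal.comap_map_of_surjective _ hsurj, ← RingHom.ker_eq_comap_bot, hker]
      exact sup_eq_left.mpr hqP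
    rw [← h1, heq, ← Groth.Agent.Lib.Helper8.NV.map_maximalIdeal_quotient q,
      Ideal.comap_map_of_surjective _ hsurj, ← RingHom.ker_eq_comap_bot, hker]
    exact sup_eq_left.mpr (le_maximalIdeal hq.ne_top)
  have hn1 : 1 ≤ n := by
    by_contra hlt
    have hn0 : n = 0 := by omega
    subst hn0
    haveI : Ring.KrullDimLE 0 (R ⧸ q) := by
      rw [Ring.krullDimLE_iff]
      exact hdimq.le
    haveI := hPD
    have := Ideal.isMaximal_of_isPrime (P.map (algebraMap R (R ⧸ q)))
    exact hPDm (IsLocalRing.eq_maximalIdeal this)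
  have hb := Groth.Agent.Lib.Helper29.HLVT.bound_of_complete_domain (R ⧸ q) n hdimq
    (I.map (algebraMap R (R ⧸ q)))
    ⟨_, hPD, Ideal.map_mono (le_sup_left.trans hIP), hPDm⟩
  have hsub : Subsingleton (LocCoh.H (I.map (algebraMap R (R ⧸ q))) n
      (M ⧸ (q • (⊤ : Submodule R M)))) :=
    ⟨fun x y => (hb _ n (by omega) x).trans (hb _ n (by omega) y).symm⟩
  exact not_subsingleton _ ((subsingleton_H_quot_iff n I q).mpr hsub)

omit [IsAdicComplete (maximalIdeal R) R] in
include hn in
/-- nonvanishing: if `dim R/q = n` and `I + q` is primary to the maximal ideal then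
`H^n_I(M/qM) ≠ 0`. -/
lemma nontrivial_H_quot_of_radical_eq (q : Ideal R) [hq : q.IsPrime]
    (hqM : Module.annihilator R M ≤ q)
    (hdimq : ringKrullDim (R ⧸ q) = ((n : ℕ) : WithBot ℕ∞))
    (hrad : (I ⊔ q).radical = maximalIdeal R) :
    Nontrivial (LocCoh.H I n (M ⧸ (q • (⊤ : Submodule R M)))) := by
  by_contra hnt
  rw [not_nontrivial_iff_subsingleton] at hnt
  have hsurj : Function.Surjective (algebraMap R (R ⧸ q)) := Ideal.Quotient.mk_surjective
  have hker : RingHom.ker (algebraMap R (R ⧸ q)) = q := Ideal.mk_ker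
  have hmapq : q.map (algebraMap R (R ⧸ q)) = ⊥ := by
    rw [Ideal.map_eq_bot_iff_le_ker, hker]
  have h1 : (I.map (algebraMap R (R ⧸ q))).radical =
      (maximalIdeal R).map (algebraMap R (R ⧸ q)) := by
    have h2 := Ideal.map_radical_of_surjective hsurj (I := I ⊔ q) (by rw [hker]; exact le_sup_right)
    rw [Ideal.map_sup, hmapq, sup_bot_eq, hrad] at h2
    exact h2.symm
  have h3 : ((maximalIdeal R).map (algebraMap R (R ⧸ q))).radical =
      (maximalIdeal R).map (algebraMap R (R ⧸ q)) := by
    have h2 := Ideal.map_radical_of_surjective hsurj (I := maximalIdeal R)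
      (by rw [hker]; exact le_maximalIdeal hq.ne_top)
    rw [(Ideal.IsPrime.isRadical (inferInstance : (maximalIdeal R).IsPrime)).radical] at h2
    exact h2.symm
  have h4 := (subsingleton_H_quot_iff (M := M) n I q).mp hnt
  have h5 := Groth.Agent.Lib.Helper8.Acyc.subsingleton_of_radical_eq (h3.trans h1.symm) n
    (M ⧸ (q • (⊤ : Submodule R M))) h4
  have h6 := (subsingleton_H_quot_iff (M := M) n (maximalIdeal R) q).mpr h5
  -- nonvanishing over `R`
  have hqS : (⟨q, hq⟩ : PrimeSpectrum R) ∈ Module.support R M := by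
    rw [Module.mem_support_iff_of_finite]
    exact hqM
  have hqS' : (⟨q, hq⟩ : PrimeSpectrum R) ∈
      Module.support R (M ⧸ (q • (⊤ : Submodule R M))) := by
    rw [Module.support_quotient]
    refine ⟨hqS, ?_⟩
    rw [PrimeSpectrum.mem_zeroLocus]
  have hsd : Module.supportDim R (M ⧸ (q • (⊤ : Submodule R M))) = ((n : ℕ) : WithBot ℕ∞) := by
    apply le_antisymm
    · rw [← hn]
      exact Module.supportDim_le_of_surjective _ (Submodule.mkQ_surjective _)
    · have h0 := Groth.Agent.Lib.Helper28.ringKrullDim_quotient_le_supportDim hqS'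
      rw [← hdimq]
      exact h0
  haveI : Nontrivial (M ⧸ (q • (⊤ : Submodule R M))) := by
    rw [← Module.nonempty_support_iff (R := R)]
    exact ⟨_, hqS'⟩
  have := Groth.Agent.S2935.result R (M ⧸ (q • (⊤ : Submodule R M))) n hsd
  exact not_subsingleton _ h6

end VN
end Groth.Agent.Lib.T2H4.CoassTop
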