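import Mathlib
import Groth.Agent.Lib.Helper6QCohQcqs
import Groth.Agent.Lib.Helper13ModGlue
import Groth.Agent.Lib.Helper13AffBC
import Groth.Agent.Lib.Helper23Extend

/-!
# Modules trivialised by an open cover and their transition cocycles (helper4)

Namespace `Groth.Agent.Lib.T2H4.Cocycle`.

* `coord`: the coordinate of a section with respect to a generating section.
* `locFam`: the local family `r • s ↦ (r * u) • s'` attached to two generators and a function `u`.
* `exists_iso_of_units`, `exists_units_of_iso`: two modules trivialised by a cover are isomorphic iff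
  their transition cocycles are cohomologous.
-/

set_option autoImplicit false
set_option linter.style.haveILetI false
set_option linter.unusedSectionVars false
set_option linter.unusedVariables false
universe u
open CategoryTheory CategoryTheory.Limits AlgebraicGeometry Opposite TopologicalSpace

namespace Groth.Agent.Lib.T2H4.Cocycle

open Groth.Agent.Lib.Helper6 Groth.Agent.Helper13ModGlue

variable {X : Scheme.{u}}

theorem resf_mul {U V : X.Opens} (h : V ≤ U) (a b : Γ(X, U)) :
    resf h (a * b) = resf h a * resf h b := map_mul _ _ _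

/-- `s` generates `L` over `U`: for every `V ≤ U`, `r ↦ r • s|_V` is bijective. -/
def Gen (L : X.Modules) {U : X.Opens} (s : Γ(L, U)) : Prop :=
  ∀ (V : X.Opens) (h : V ≤ U), Function.Bijective (fun r : Γ(X, V) => r • res L h s)

section coord
variable (L : X.Modules) {U : X.Opens} (s : Γ(L, U)) (hs : Gen L s)

/-- the coordinate of a section with respect to a generator -/
noncomputable def coord {V : X.Opens} (h : V ≤ U) (τ : Γ(L, V)) : Γ(X, V) :=
  ((hs V h).2 τ).choose

theorem coord_spec {V : X.Opens} (h : V ≤ U) (τ : Γ(L, V)) : coord L s hs h τ • res L h s = τ :=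
  ((hs V h).2 τ).choose_spec

theorem coord_unique {V : X.Opens} (h : V ≤ U) (τ : Γ(L, V)) (r : Γ(X, V))
    (hr : r • res L h s = τ) : coord L s hs h τ = r := by
  apply (hs V h).1
  change coord L s hs h τ • res L h s = r • res L h s
  rw [coord_spec, hr]

theorem coord_add {V : X.Opens} (h : V ≤ U) (τ τ' : Γ(L, V)) :
    coord L s hs h (τ + τ') = coord L s hs h τ + coord L s hs h τ' := by
  apply coord_unique
  rw [add_smul, coord_spec, coord_spec]

theorem coord_smul {V : X.Opens} (h : V ≤ U) (a : Γ(X, V)) (τ : Γ(L, V)) :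
    coord L s hs h (a • τ) = a * coord L s hs h τ := by
  apply coord_unique
  rw [mul_smul, coord_spec]

theorem coord_res {V V' : X.Opens} (h : V ≤ U) (h' : V' ≤ V) (τ : Γ(L, V)) :
    coord L s hs (h'.trans h) (res L h' τ) = resf h' (coord L s hs h τ) := by
  apply coord_unique
  rw [← res_res L h h' s, ← res_smul, coord_spec]

end coord

section fam
variable (L L' : X.Modules) {U : X.Opens} (s : Γ(L, U)) (hs : Gen L s) (s' : Γ(L', U)) (u : Γ(X, U))

/-- the local family `r • s ↦ (r * u) • s'` -/
noncomputable def locFam : LocFam U L L' where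
  d W hW :=
    { toFun := fun τ => (coord L s hs hW τ * resf hW u) • res L' hW s'
      map_zero' := by
        have h0 : coord L s hs hW 0 = 0 := coord_unique L s hs hW 0 0 (zero_smul _ _)
        rw [h0, zero_mul, zero_smul]
      map_add' := fun τ τ' => by
        rw [coord_add, add_mul, add_smul] }
  nat W W' hW hW' τ := by
    change res L' hW' ((coord L s hs hW τ * resf hW u) • res L' hW s') =
      (coord L s hs (hW'.trans hW) (res L hW' τ) * resf (hW'.trans hW) u) • res L' (hW'.trans hW) s'
    rw [res_smul, res_res, coord_res, resf_mul, resf_resf]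
  lin W hW a τ := by
    change (coord L s hs hW (a • τ) * resf hW u) • res L' hW s' =
      a • ((coord L s hs hW τ * resf hW u) • res L' hW s')
    rw [coord_smul, mul_assoc, mul_smul]

theorem locFam_d {W : X.Opens} (hW : W ≤ U) (τ : Γ(L, W)) :
    (locFam L L' s hs s' u).d W hW τ = (coord L s hs hW τ * resf hW u) • res L' hW s' := rfl

end fam

section main
variable {ι : Type u} (U : ι → X.Opens) (hU : iSup U = ⊤) (L L' : X.Modules)
  (s : ∀ i : ι, Γ(L, U i)) (s' : ∀ i : ι, Γ(L', U i))
  (hs : ∀ i, Gen L (s i)) (hs' : ∀ i, Gen L' (s' i))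
  (η η' : ∀ i j : ι, Γ(X, U i ⊓ U j))
  (hη : ∀ i j : ι, res L (inf_le_left : U i ⊓ U j ≤ U i) (s i) =
    η i j • res L (inf_le_right : U i ⊓ U j ≤ U j) (s j))
  (hη' : ∀ i j : ι, res L' (inf_le_left : U i ⊓ U j ≤ U i) (s' i) =
    η' i j • res L' (inf_le_right : U i ⊓ U j ≤ U j) (s' j))

include hη in
theorem res_gen_eq (i j : ι) {W : X.Opens} (hi : W ≤ U i) (hj : W ≤ U j) :
    res L hi (s i) = resf (le_inf hi hj) (η i j) • res L hj (s j) := by
  have h := congrArg (res L (le_inf hi hj)) (hη i j)
  rw [res_res, res_smul, res_res] at h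
  exact h

include hU hs hs' hη hη' in
theorem exists_iso_of_units (u : ∀ i : ι, (Γ(X, U i))ˣ)
    (hu : ∀ i j : ι, η' i j * resf (inf_le_left : U i ⊓ U j ≤ U i) (u i : Γ(X, U i)) =
      resf (inf_le_right : U i ⊓ U j ≤ U j) (u j : Γ(X, U j)) * η i j) :
    Nonempty (L ≅ L') := by
  have hU' : ⨆ i, U i = ⊤ := hU
  obtain ⟨ψ, hψ⟩ := exists_hom_of_locFams U hU' L L'
    (fun i => locFam L L' (s i) (hs i) (s' i) (u i : Γ(X, U i))) (by
      intro i j W hi hj τ
      rw [locFam_d, locFam_d]
      have h1 := res_gen_eq U L s η hη i j hi hj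
      have h2 := res_gen_eq U L' s' η' hη' i j hi hj
      have hc : coord L (s j) (hs j) hj τ = coord L (s i) (hs i) hi τ * resf (le_inf hi hj) (η i j) := by
        apply coord_unique
        rw [mul_smul, ← h1, coord_spec]
      have hu' := congrArg (resf (le_inf hi hj)) (hu i j)
      rw [resf_mul, resf_mul, resf_resf, resf_resf] at hu'
      rw [h2, hc, ← mul_smul]
      congr 1
      calc coord L (s i) (hs i) hi τ * resf hi ↑(u i) * resf (le_inf hi hj) (η' i j)
          = coord L (s i) (hs i) hi τ * (resf (le_inf hi hj) (η' i j) * resf hi ↑(u i)) := by ring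
        _ = coord L (s i) (hs i) hi τ * (resf hj ↑(u j) * resf (le_inf hi hj) (η i j)) := by
            rw [← hu']
        _ = coord L (s i) (hs i) hi τ * resf (le_inf hi hj) (η i j) * resf hj ↑(u j) := by ring)
  have hiso : IsIso ψ := by
    refine Groth.Agent.Helper13AffBC.isIso_of_bijective_on_basis ψ
      (fun k : (Σ i, {W : X.Opens // W ≤ U i}) => k.2.1) (isBasis_small U hU') (fun k => ?_)
    obtain ⟨i, W, hW⟩ := k
    have hunit : IsUnit (resf hW (u i : Γ(X, U i))) := (u i).isUnit.map _
    constructor
    · intro τ τ' h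
      change ψ.app W τ = ψ.app W τ' at h
      rw [hψ i W hW, hψ i W hW, locFam_d, locFam_d] at h
      have h1 := (hs' i W hW).1 h
      have h2 : coord L (s i) (hs i) hW τ = coord L (s i) (hs i) hW τ' := hunit.mul_left_injective h1
      rw [← coord_spec L (s i) (hs i) hW τ, ← coord_spec L (s i) (hs i) hW τ', h2]
    · intro σ
      obtain ⟨v, hv⟩ := hunit
      refine ⟨(coord L' (s' i) (hs' i) hW σ * ↑v⁻¹) • res L hW (s i), ?_⟩
      change ψ.app W _ = σ
      rw [hψ i W hW, locFam_d, coord_unique L (s i) (hs i) hW _ _ rfl, ← hv, mul_assoc, Units.inv_mul,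
        mul_one, coord_spec]
  exact ⟨asIso ψ⟩

include hs hs' hη hη' in
theorem exists_units_of_iso (e : L ≅ L') :
    ∃ u : ∀ i : ι, (Γ(X, U i))ˣ, ∀ i j : ι,
      η' i j * resf (inf_le_left : U i ⊓ U j ≤ U i) (u i : Γ(X, U i)) =
        resf (inf_le_right : U i ⊓ U j ≤ U j) (u j : Γ(X, U j)) * η i j := by
  -- the coordinates of the images of the generators
  let a : ∀ i, Γ(X, U i) := fun i => coord L' (s' i) (hs' i) le_rfl (e.hom.app (U i) (s i))
  let b : ∀ i, Γ(X, U i) := fun i => coord L (s i) (hs i) le_rfl (e.inv.app (U i) (s' i))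
  have ha : ∀ i, e.hom.app (U i) (s i) = a i • s' i := fun i => by
    have := coord_spec L' (s' i) (hs' i) le_rfl (e.hom.app (U i) (s i))
    rw [res_self] at this
    exact this.symm
  have hb : ∀ i, e.inv.app (U i) (s' i) = b i • s i := fun i => by
    have := coord_spec L (s i) (hs i) le_rfl (e.inv.app (U i) (s' i))
    rw [res_self] at this
    exact this.symm
  have hinv : ∀ (W : X.Opens) (τ : Γ(L, W)), e.inv.app W (e.hom.app W τ) = τ := fun W τ => by
    have h1 : e.hom.app W ≫ e.inv.app W = 𝟙 _ := by
      rw [← Scheme.Modules.Hom.comp_app, e.hom_inv_id]; rfl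
    exact congrArg (fun φ => φ τ) h1
  have hab : ∀ i, a i * b i = 1 := fun i => by
    apply (hs i (U i) le_rfl).1
    change (a i * b i) • res L le_rfl (s i) = (1 : Γ(X, U i)) • res L le_rfl (s i)
    rw [res_self, one_smul, mul_smul, ← hb, ← Scheme.Modules.Hom.app_smul, ← ha, hinv]
  refine ⟨fun i => Units.mkOfMulEqOne (a i) (b i) (hab i), fun i j => ?_⟩
  change η' i j * resf inf_le_left (a i) = resf inf_le_right (a j) * η i j
  apply (hs' j (U i ⊓ U j) inf_le_right).1
  change (η' i j * resf inf_le_left (a i)) • res L' inf_le_right (s' j) =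
    (resf inf_le_right (a j) * η i j) • res L' inf_le_right (s' j)
  have h1 : e.hom.app (U i ⊓ U j) (res L inf_le_left (s i)) =
      (resf inf_le_left (a i) * η' i j) • res L' inf_le_right (s' j) := by
    rw [Groth.Agent.Lib.Helper23.Extend.app_map e.hom (homOfLE inf_le_left) (s i)]
    change res L' inf_le_left (e.hom.app (U i) (s i)) = _
    rw [ha, res_smul, hη', mul_smul]
  have h2 : e.hom.app (U i ⊓ U j) (res L inf_le_left (s i)) =
      (η i j * resf inf_le_right (a j)) • res L' inf_le_right (s' j) := by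
    rw [hη, Scheme.Modules.Hom.app_smul,
      Groth.Agent.Lib.Helper23.Extend.app_map e.hom (homOfLE inf_le_right) (s j)]
    change η i j • res L' inf_le_right (e.hom.app (U j) (s j)) = _
    rw [ha, res_smul, mul_smul]
  rw [mul_comm (η' i j), mul_comm _ (η i j), ← h1, ← h2]

end main

end Groth.Agent.Lib.T2H4.Cocycle
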