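import Mathlib
import Groth.Agent.Lib.Helper6QCohQcqs
import Groth.Agent.Lib.Helper13ModGlue
import Groth.Agent.Lib.Helper23SecTw6
import Groth.Agent.Lib.T2H4Cocycle

/-!
# The invertible module attached to a unit cocycle (helper4)

Namespace `Groth.Agent.Lib.T2H4.CocycleMod`.

For an open cover `(U_i)` of a scheme `X` and functions `η_ij` on `U_i ∩ U_j`, the module `cocycleMod U η` has
sections over `V` the families `(t_i ∈ O(V ∩ U_i))` with `t_j = t_i η_ij` on `V ∩ U_i ∩ U_j`.
-/

set_option autoImplicit false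
set_option linter.style.haveILetI false
set_option linter.unusedSectionVars false
set_option linter.unusedVariables false
universe u
open CategoryTheory CategoryTheory.Limits AlgebraicGeometry Opposite TopologicalSpace

namespace Groth.Agent.Lib.T2H4.CocycleMod

open Groth.Agent.Lib.Helper6 Groth.Agent.Helper13ModGlue Groth.Agent.Lib.T2H4.Cocycle

variable {X : Scheme.{u}}

theorem resf_add {U V : X.Opens} (h : V ≤ U) (a b : Γ(X, U)) :
    resf h (a + b) = resf h a + resf h b := map_add _ _ _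

theorem resf_neg {U V : X.Opens} (h : V ≤ U) (a : Γ(X, U)) :
    resf h (-a) = -resf h a := map_neg _ _

theorem resf_zero {U V : X.Opens} (h : V ≤ U) : resf h (0 : Γ(X, U)) = 0 := map_zero _

theorem resf_one {U V : X.Opens} (h : V ≤ U) : resf h (1 : Γ(X, U)) = 1 := map_one _

theorem resf_ext {κ : Type*} (W : κ → X.Opens) (V : X.Opens) (hW : ∀ a, W a ≤ V) (hcov : V ≤ ⨆ a, W a)
    (r r' : Γ(X, V)) (h : ∀ a, resf (hW a) r = resf (hW a) r') : r = r' :=
  X.sheaf.eq_of_locally_eq' W V (fun a => homOfLE (hW a)) hcov r r' h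

theorem resf_glue {κ : Type*} (W : κ → X.Opens) (V : X.Opens) (hW : ∀ a, W a ≤ V) (hcov : V ≤ ⨆ a, W a)
    (rf : ∀ a, Γ(X, W a))
    (hc : ∀ a b, resf (inf_le_left : W a ⊓ W b ≤ W a) (rf a) = resf (inf_le_right : W a ⊓ W b ≤ W b) (rf b)) :
    ∃ r : Γ(X, V), ∀ a, resf (hW a) r = rf a := by
  obtain ⟨r0, hr0, -⟩ := X.sheaf.existsUnique_gluing' W V (fun a => homOfLE (hW a)) hcov rf hc
  exact ⟨r0, hr0⟩

section defs
variable {ι : Type u} (U : ι → X.Opens) (η : ∀ i j : ι, Γ(X, U i ⊓ U j))

/-- the compatibility condition `t_j = t_i η_ij` on `V ∩ U_i ∩ U_j` -/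
def IsSec (V : X.Opens) (t : ∀ i, Γ(X, V ⊓ U i)) : Prop :=
  ∀ i j, resf (inf_le_inf_right (U j) inf_le_left : V ⊓ U i ⊓ U j ≤ V ⊓ U j) (t j) =
    resf (inf_le_left : V ⊓ U i ⊓ U j ≤ V ⊓ U i) (t i) *
      resf (inf_le_inf_right (U j) inf_le_right : V ⊓ U i ⊓ U j ≤ U i ⊓ U j) (η i j)

/-- the group of sections over `V` -/
def secSubgroup (V : X.Opens) : AddSubgroup (∀ i, Γ(X, V ⊓ U i)) where
  carrier := {t | IsSec U η V t}
  zero_mem' := by
    intro i j
    change resf _ (0 : Γ(X, V ⊓ U j)) = resf _ (0 : Γ(X, V ⊓ U i)) * _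
    rw [resf_zero, resf_zero, zero_mul]
  add_mem' := by
    intro a b ha hb i j
    change resf _ (a j + b j) = resf _ (a i + b i) * _
    rw [resf_add, resf_add, ha i j, hb i j, add_mul]
  neg_mem' := by
    intro a ha i j
    change resf _ (-a j) = resf _ (-a i) * _
    rw [resf_neg, resf_neg, ha i j, neg_mul]

theorem isSec_val {V : X.Opens} (t : secSubgroup U η V) : IsSec U η V t.1 := t.2

/-- scalar multiplication -/
noncomputable def secSmul {V : X.Opens} (a : Γ(X, V)) (t : secSubgroup U η V) : secSubgroup U η V :=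
  ⟨fun i => resf (inf_le_left : V ⊓ U i ≤ V) a * t.1 i, by
    intro i j
    change resf _ (resf _ a * t.1 j) = resf _ (resf _ a * t.1 i) * _
    rw [resf_mul, resf_mul, resf_resf, resf_resf, t.2 i j, mul_assoc]⟩

noncomputable instance instSMulSec (V : X.Opens) : SMul Γ(X, V) (secSubgroup U η V) := ⟨secSmul U η⟩

theorem smul_val {V : X.Opens} (a : Γ(X, V)) (t : secSubgroup U η V) (i : ι) :
    (a • t).1 i = resf (inf_le_left : V ⊓ U i ≤ V) a * t.1 i := rfl

noncomputable instance instModuleSec (V : X.Opens) : Module Γ(X, V) (secSubgroup U η V) where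
  one_smul t := Subtype.ext (funext fun i => by rw [smul_val, resf_one, one_mul])
  mul_smul a b t := Subtype.ext (funext fun i => by
    rw [smul_val, smul_val, smul_val, resf_mul, mul_assoc])
  smul_zero a := Subtype.ext (funext fun i => by
    rw [smul_val]
    change _ * (0 : Γ(X, V ⊓ U i)) = 0
    rw [mul_zero])
  smul_add a t t' := Subtype.ext (funext fun i => by
    change resf _ a * (t.1 i + t'.1 i) = resf _ a * t.1 i + resf _ a * t'.1 i
    rw [mul_add])
  add_smul a b t := Subtype.ext (funext fun i => by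
    change resf _ (a + b) * t.1 i = resf _ a * t.1 i + resf _ b * t.1 i
    rw [resf_add, add_mul])
  zero_smul t := Subtype.ext (funext fun i => by
    change resf _ (0 : Γ(X, V)) * t.1 i = 0
    rw [resf_zero, zero_mul])

/-- restriction of sections -/
noncomputable def secRes {V V' : X.Opens} (h : V' ≤ V) : secSubgroup U η V →+ secSubgroup U η V' where
  toFun t := ⟨fun i => resf (inf_le_inf_right (U i) h) (t.1 i), by
    intro i j
    have h3 : V' ⊓ U i ⊓ U j ≤ V ⊓ U i ⊓ U j := inf_le_inf_right _ (inf_le_inf_right _ h)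
    have := congrArg (resf h3) (t.2 i j)
    rw [resf_mul, resf_resf, resf_resf, resf_resf] at this
    change resf _ (resf _ (t.1 j)) = resf _ (resf _ (t.1 i)) * _
    rw [resf_resf, resf_resf]
    exact this⟩
  map_zero' := Subtype.ext (funext fun i => resf_zero _)
  map_add' t t' := Subtype.ext (funext fun i => resf_add _ _ _)

theorem secRes_val {V V' : X.Opens} (h : V' ≤ V) (t : secSubgroup U η V) (i : ι) :
    (secRes U η h t).1 i = resf (inf_le_inf_right (U i) h) (t.1 i) := rfl

/-- the presheaf of abelian groups -/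
noncomputable def preM : (Opens X)ᵒᵖ ⥤ Ab.{u} where
  obj V := AddCommGrpCat.of (secSubgroup U η V.unop)
  map {V V'} f := AddCommGrpCat.ofHom (secRes U η f.unop.le)
  map_id V := by
    ext t i
    exact resf_self _ _
  map_comp f g := by
    ext t i
    exact (resf_resf _ _ _).symm

noncomputable instance instModulePreM (V : (Opens X)ᵒᵖ) :
    Module (X.ringCatSheaf.obj.obj V) ((preM U η).obj V) :=
  inferInstanceAs (Module Γ(X, V.unop) (secSubgroup U η V.unop))

theorem preM_map_smul ⦃V V' : (Opens X)ᵒᵖ⦄ (f : V ⟶ V') (r : X.ringCatSheaf.obj.obj V)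
    (m : (preM U η).obj V) :
    (preM U η).map f (r • m) = X.ringCatSheaf.obj.map f r • (preM U η).map f m := by
  apply Subtype.ext
  funext i
  change resf (inf_le_inf_right (U i) f.unop.le) (resf (inf_le_left : V.unop ⊓ U i ≤ V.unop) r * m.1 i) =
    resf (inf_le_left : V'.unop ⊓ U i ≤ V'.unop) (resf f.unop.le r) *
      resf (inf_le_inf_right (U i) f.unop.le) (m.1 i)
  rw [resf_mul, resf_resf, resf_resf]

end defs

section sheaf
variable {ι : Type u} (U : ι → X.Opens) (η : ∀ i j : ι, Γ(X, U i ⊓ U j))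

theorem isSheaf_preM : TopCat.Presheaf.IsSheaf (preM U η) := by
  rw [TopCat.Presheaf.isSheaf_iff_isSheafUniqueGluing]
  intro κ V sf hsf
  have hsf' : ∀ (a b : κ) (i : ι),
      resf (inf_le_inf_right (U i) inf_le_left : V a ⊓ V b ⊓ U i ≤ V a ⊓ U i) ((sf a).1 i) =
        resf (inf_le_inf_right (U i) inf_le_right : V a ⊓ V b ⊓ U i ≤ V b ⊓ U i) ((sf b).1 i) := by
    intro a b i
    exact congrFun (congrArg Subtype.val (hsf a b)) i
  have key : ∀ i, ∃ r : Γ(X, iSup V ⊓ U i), ∀ a,
      resf (inf_le_inf_right (U i) (le_iSup V a)) r = (sf a).1 i := by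
    intro i
    refine resf_glue (fun a => V a ⊓ U i) (iSup V ⊓ U i) (fun a => inf_le_inf_right _ (le_iSup V a))
      (iSup_inf_eq V (U i)).le (fun a => (sf a).1 i) ?_
    intro a b
    have h3 : (V a ⊓ U i) ⊓ (V b ⊓ U i) ≤ V a ⊓ V b ⊓ U i :=
      le_inf (le_inf (inf_le_left.trans inf_le_left) (inf_le_right.trans inf_le_left))
        (inf_le_left.trans inf_le_right)
    have := congrArg (resf h3) (hsf' a b i)
    rw [resf_resf, resf_resf] at this
    exact this
  choose t ht using key
  have htsec : IsSec U η (iSup V) t := by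
    intro i j
    refine resf_ext (fun a => V a ⊓ U i ⊓ U j) (iSup V ⊓ U i ⊓ U j)
      (fun a => inf_le_inf_right _ (inf_le_inf_right _ (le_iSup V a))) ?_ _ _ (fun a => ?_)
    · rw [iSup_inf_eq, iSup_inf_eq]
    · rw [resf_mul, resf_resf, resf_resf, resf_resf]
      have h1 := (sf a).2 i j
      rw [← ht i a, ← ht j a, resf_resf, resf_resf] at h1
      exact h1
  refine ⟨(⟨t, htsec⟩ : secSubgroup U η (iSup V)), ?_, ?_⟩
  · intro a
    exact Subtype.ext (funext fun i => ht i a)
  · intro s' hs'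
    apply Subtype.ext
    funext i
    refine resf_ext (fun a => V a ⊓ U i) (iSup V ⊓ U i) (fun a => inf_le_inf_right _ (le_iSup V a))
      (iSup_inf_eq V (U i)).le _ _ (fun a => ?_)
    rw [ht i a]
    exact congrFun (congrArg Subtype.val (hs' a)) i

/-- the module attached to the family `η` -/
noncomputable def cocycleMod : X.Modules :=
  (⟨PresheafOfModules.ofPresheaf (preM U η) (preM_map_smul U η), isSheaf_preM U η⟩ :
    SheafOfModules X.ringCatSheaf)

/-- sections of `cocycleMod` are compatible families -/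
def toSec {V : X.Opens} (σ : Γ(cocycleMod U η, V)) : secSubgroup U η V := σ

/-- compatible families are sections of `cocycleMod` -/
def ofSec {V : X.Opens} (t : secSubgroup U η V) : Γ(cocycleMod U η, V) := t

theorem toSec_ofSec {V : X.Opens} (t : secSubgroup U η V) : toSec U η (ofSec U η t) = t := rfl

theorem sec_ext {V : X.Opens} (σ σ' : Γ(cocycleMod U η, V))
    (h : ∀ i, (toSec U η σ).1 i = (toSec U η σ').1 i) : σ = σ' :=
  (Subtype.ext (funext h) : toSec U η σ = toSec U η σ')

theorem toSec_smul {V : X.Opens} (r : Γ(X, V)) (σ : Γ(cocycleMod U η, V)) (i : ι) :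
    (toSec U η (r • σ)).1 i = resf (inf_le_left : V ⊓ U i ≤ V) r * (toSec U η σ).1 i := rfl

theorem toSec_res {V V' : X.Opens} (h : V' ≤ V) (σ : Γ(cocycleMod U η, V)) (i : ι) :
    (toSec U η (res (cocycleMod U η) h σ)).1 i = resf (inf_le_inf_right (U i) h) ((toSec U η σ).1 i) := rfl

end sheaf

section gen
variable {ι : Type u} (U : ι → X.Opens) (η : ∀ i j : ι, (Γ(X, U i ⊓ U j))ˣ)
  (hη : ∀ i j k : ι,
    resf (inf_le_inf_right (U k) inf_le_left : U i ⊓ U j ⊓ U k ≤ U i ⊓ U k) (η i k : Γ(X, U i ⊓ U k)) =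
      resf (inf_le_left : U i ⊓ U j ⊓ U k ≤ U i ⊓ U j) (η i j : Γ(X, U i ⊓ U j)) *
        resf (inf_le_inf_right (U k) inf_le_right : U i ⊓ U j ⊓ U k ≤ U j ⊓ U k) (η j k : Γ(X, U j ⊓ U k)))

/-- the underlying functions of the unit cocycle -/
def ηv : ∀ i j : ι, Γ(X, U i ⊓ U j) := fun i j => (η i j : Γ(X, U i ⊓ U j))

/-- the generator over `U i`: the family `(η i j)_j` -/
def genSec (i : ι) : secSubgroup U (ηv U η) (U i) :=
  ⟨fun j => (η i j : Γ(X, U i ⊓ U j)), fun j k => hη i j k⟩

/-- the generating section over `U i` -/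
def gen (i : ι) : Γ(cocycleMod U (ηv U η), U i) := ofSec U (ηv U η) (genSec U η hη i)

theorem toSec_gen (i j : ι) : (toSec U (ηv U η) (gen U η hη i)).1 j = (η i j : Γ(X, U i ⊓ U j)) := rfl

theorem gen_isGen (i : ι) : Gen (cocycleMod U (ηv U η)) (gen U η hη i) := by
  intro V h
  constructor
  · intro r r' hrr'
    have h1 := congrArg (fun σ => (toSec U (ηv U η) σ).1 i) hrr'
    simp only [toSec_smul, toSec_res, toSec_gen] at h1
    have hunit : IsUnit (resf (inf_le_inf_right (U i) h : V ⊓ U i ≤ U i ⊓ U i) (η i i : Γ(X, U i ⊓ U i))) :=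
      (η i i).isUnit.map _
    have h2 := hunit.mul_left_injective h1
    have h3 := congrArg (resf (le_inf le_rfl h : V ≤ V ⊓ U i)) h2
    rw [resf_resf, resf_resf, resf_self, resf_self] at h3
    exact h3
  · intro σ
    refine ⟨resf (le_inf le_rfl h : V ≤ V ⊓ U i) ((toSec U (ηv U η) σ).1 i), ?_⟩
    apply sec_ext
    intro j
    change (toSec U (ηv U η) (_ • res (cocycleMod U (ηv U η)) h (gen U η hη i))).1 j = _
    rw [toSec_smul, toSec_res, toSec_gen, resf_resf]
    have h1 := (toSec U (ηv U η) σ).2 i j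
    have h2 := congrArg (resf (le_inf (le_inf inf_le_left (inf_le_left.trans h)) inf_le_right :
      V ⊓ U j ≤ V ⊓ U i ⊓ U j)) h1
    rw [resf_mul, resf_resf, resf_resf, resf_resf, resf_self] at h2
    exact h2.symm

theorem gen_transition (i j : ι) :
    res (cocycleMod U (ηv U η)) (inf_le_left : U i ⊓ U j ≤ U i) (gen U η hη i) =
      (η i j : Γ(X, U i ⊓ U j)) • res (cocycleMod U (ηv U η)) (inf_le_right : U i ⊓ U j ≤ U j) (gen U η hη j) := by
  apply sec_ext
  intro k
  rw [toSec_smul, toSec_res, toSec_res, toSec_gen, toSec_gen]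
  exact hη i j k

include hη in
theorem isInvertible_cocycleMod (hU : iSup U = ⊤) : PicF.IsInvertible (cocycleMod U (ηv U η)) := by
  refine Groth.Agent.Lib.Helper23.SecTw.isInvertible_of_isGen _ (fun x => ?_)
  have hx : x ∈ (iSup U : X.Opens) := by rw [hU]; trivial
  obtain ⟨i, hi⟩ := Opens.mem_iSup.1 hx
  exact ⟨U i, gen U η hη i, hi, gen_isGen U η hη i⟩

end gen

end Groth.Agent.Lib.T2H4.CocycleMod
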