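import Mathlib
import Groth.Agent.Lib.Helper22Hartogs2
import Groth.Agent.Lib.T2H2UFDCartierSch2
set_option backward.isDefEq.respectTransparency.types false

/-!
# T2H4CodimOne: the complement of a dense affine open in a separated locally Noetherian normal scheme has pure
codimension one; on a locally factorial scheme its reduced ideal is an effective Cartier divisor (helper4)

Namespace `Groth.Agent.Lib.T2H4.CodimOne`.
-/

set_option autoImplicit false
set_option linter.style.haveILetI false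
set_option linter.unusedSectionVars false
universe u
open CategoryTheory CategoryTheory.Limits AlgebraicGeometry TopologicalSpace Opposite

namespace Groth.Agent.Lib.T2H4.CodimOne

section Ring

variable {A : Type u} [CommRing A] [IsNoetherianRing A]

/-- the associated primes of the quotient by a radical ideal are minimal over the ideal -/
theorem mem_minimalPrimes_of_isAssociatedPrime (I P : Ideal A) (hI : I.IsRadical)
    (hP : IsAssociatedPrime P (A ⧸ I)) : P ∈ I.minimalPrimes := by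
  obtain ⟨hPp, y, hy⟩ := (Groth.Agent.Lib.T2H2.UFDCartier.isAssociatedPrime_quotient_iff I P).1 hP
  have hIP : I ≤ P := fun a ha => (hy a).2 (I.mul_mem_right _ ha)
  have hyI : y ∉ I := by
    intro h
    exact hPp.ne_top ((Ideal.eq_top_iff_one _).2 ((hy 1).2 (by rwa [one_mul])))
  have h1 : ¬ (y ∈ sInf I.minimalPrimes) := by
    rw [Ideal.sInf_minimalPrimes, hI.radical]; exact hyI
  rw [Submodule.mem_sInf] at h1
  push Not at h1
  obtain ⟨Q, hQ, hyQ⟩ := h1
  have hPQ : P ≤ Q := by
    intro p hp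
    have := hQ.1.2 ((hy p).1 hp)
    exact (hQ.1.1.mem_or_mem this).resolve_right hyQ
  have hQP : Q ≤ P := hQ.2 ⟨hPp, hIP⟩ hPQ
  rw [le_antisymm hPQ hQP]
  exact hQ

/-- a minimal prime over `J` is separated from the other ones by an element -/
theorem exists_not_mem_of_mem_minimalPrimes (J P : Ideal A) (hP : P ∈ J.minimalPrimes) :
    ∃ f : A, f ∉ P ∧ ∀ P' ∈ J.minimalPrimes, P' ≠ P → f ∈ P' := by
  classical
  have hfin : (J.minimalPrimes).Finite := Ideal.finite_minimalPrimes_of_isNoetherianRing A J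
  let S : Finset (Ideal A) := hfin.toFinset.erase P
  by_contra hcon
  push Not at hcon
  have h1 : S.inf id ≤ P := by
    intro f hf
    by_contra hfP
    obtain ⟨P', hP', hne, hfP'⟩ := hcon f hfP
    have h2 : S.inf id ≤ P' :=
      Finset.inf_le (f := id) (Finset.mem_erase.2 ⟨hne, hfin.mem_toFinset.2 hP'⟩)
    exact hfP' (h2 hf)
  have hPp : P.IsPrime := hP.1.1
  obtain ⟨P', hP'S, hP'P⟩ := (Ideal.IsPrime.inf_le' hPp).1 h1
  have hP'm : P' ∈ J.minimalPrimes := hfin.mem_toFinset.1 (Finset.mem_of_mem_erase hP'S)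
  have h3 : P ≤ P' := hP.2 hP'm.1 hP'P
  exact (Finset.mem_erase.1 hP'S).1 (le_antisymm hP'P h3)

end Ring

section Geom

variable {X : Scheme.{u}}

/-- an affine open inside an affine open with bijective restriction of functions is everything -/
theorem le_of_bijective_res {W W' : X.Opens} (hW : IsAffineOpen W) (hW' : IsAffineOpen W') (hle : W' ≤ W)
    (hbij : Function.Bijective (X.presheaf.map (homOfLE hle).op)) : W ≤ W' := by
  let ρ : Γ(X, W) →+* Γ(X, W') := (X.presheaf.map (homOfLE hle).op).hom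
  let s : Set Γ(X, W) := {g | X.basicOpen g ≤ W'}
  have h1 : W' ≤ ⨆ g : (ρ '' s : Set Γ(X, W')), X.basicOpen g.1 := by
    intro y hy
    obtain ⟨g, hgW', hyg⟩ := hW.exists_basicOpen_le (V := W') ⟨y, hy⟩ (hle hy)
    rw [Opens.mem_iSup]
    refine ⟨⟨ρ g, ⟨g, hgW', rfl⟩⟩, ?_⟩
    change y ∈ X.basicOpen ((X.presheaf.map (homOfLE hle).op) g)
    rw [Scheme.basicOpen_res]
    exact ⟨hy, hyg⟩
  have h2 : Ideal.span (ρ '' s) = ⊤ := hW'.self_le_iSup_basicOpen_iff.1 h1
  have h3 : Ideal.span s = ⊤ := by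
    have h4 : (1 : Γ(X, W')) ∈ (Ideal.span s).map ρ := by
      rw [Ideal.map_span, h2]; trivial
    obtain ⟨a, ha, ha1⟩ := (Ideal.mem_map_iff_of_surjective ρ hbij.2).1 h4
    have h5 : a = 1 := hbij.1 (ha1.trans (map_one ρ).symm)
    rw [Ideal.eq_top_iff_one, ← h5]; exact ha
  have h4 : W ≤ ⨆ g : s, X.basicOpen g.1 := hW.self_le_iSup_basicOpen_iff.2 h3
  exact h4.trans (iSup_le fun g => g.2)

variable [IsLocallyNoetherian X]

/-- an affine open, with affine intersection with `V`, all of whose points outside `V` have depth at least two lies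
inside `V` -/
theorem le_of_depth (V : X.Opens) {W : X.Opens} (hW : IsAffineOpen W) (hWV : IsAffineOpen (W ⊓ V))
    (h : ∀ x : X, x ∈ W → x ∉ V → (2 : ℕ∞) ≤ LocCoh.depth (X.presheaf.stalk x) (X.presheaf.stalk x)) :
    W ≤ V := by
  obtain ⟨a, b, haV, hbV, ha, hb⟩ := Groth.Agent.Lib.Helper22.Hartogs.exists_regular_pair_of_depth hW V h
  have hbij := Groth.Agent.Lib.Helper22.Hartogs.bijective_res_of_isAffineOpen hW a b ha hb (W ⊓ V) inf_le_left
    (le_inf (X.basicOpen_le a) haV) (le_inf (X.basicOpen_le b) hbV)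
  exact (le_of_bijective_res hW hWV inf_le_left hbij).trans inf_le_right

section Translate

variable {U : X.Opens} (hU : IsAffineOpen U)

include hU in
theorem fromSpec_mem (q : PrimeSpectrum Γ(X, U)) : hU.fromSpec q ∈ U := by
  have : hU.fromSpec q ∈ Set.range hU.fromSpec := ⟨q, rfl⟩
  rwa [hU.range_fromSpec] at this

include hU in
theorem fromSpec_mem_iff_vanishingIdeal_le (Z : Closeds X) (q : PrimeSpectrum Γ(X, U)) :
    hU.fromSpec q ∈ (Z : Set X) ↔
      PrimeSpectrum.vanishingIdeal (hU.fromSpec ⁻¹' (Z : Set X)) ≤ q.asIdeal := by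
  have hcl : IsClosed (hU.fromSpec ⁻¹' (Z : Set X)) := Z.isClosed.preimage hU.fromSpec.continuous
  have h0 : PrimeSpectrum.zeroLocus
      (PrimeSpectrum.vanishingIdeal (hU.fromSpec ⁻¹' (Z : Set X)) : Set Γ(X, U)) =
      hU.fromSpec ⁻¹' (Z : Set X) :=
    (PrimeSpectrum.zeroLocus_vanishingIdeal_eq_closure _).trans hcl.closure_eq
  constructor
  · intro h
    have h2 : q ∈ PrimeSpectrum.zeroLocus
        (PrimeSpectrum.vanishingIdeal (hU.fromSpec ⁻¹' (Z : Set X)) : Set Γ(X, U)) := by
      rw [h0]; exact h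
    exact SetLike.coe_subset_coe.1 ((PrimeSpectrum.mem_zeroLocus _ _).1 h2)
  · intro h
    have h2 : q ∈ PrimeSpectrum.zeroLocus
        (PrimeSpectrum.vanishingIdeal (hU.fromSpec ⁻¹' (Z : Set X)) : Set Γ(X, U)) :=
      (PrimeSpectrum.mem_zeroLocus _ _).2 (SetLike.coe_subset_coe.2 h)
    rw [h0] at h2
    exact h2

include hU in
theorem fromSpec_mem_basicOpen_iff (f : Γ(X, U)) (q : PrimeSpectrum Γ(X, U)) :
    hU.fromSpec q ∈ X.basicOpen f ↔ f ∉ q.asIdeal := by
  have h1 : hU.fromSpec q ∈ X.basicOpen f ↔ q ∈ hU.fromSpec ⁻¹ᵁ X.basicOpen f := Iff.rfl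
  rw [h1, hU.fromSpec_preimage_basicOpen]
  exact PrimeSpectrum.mem_basicOpen f q

include hU in
theorem ringKrullDim_stalk (y : X) (hy : y ∈ U) :
    ringKrullDim (X.presheaf.stalk y) = ((hU.primeIdealOf ⟨y, hy⟩).asIdeal.height : WithBot ℕ∞) := by
  letI : Algebra Γ(X, U) (X.presheaf.stalk y) := TopCat.Presheaf.algebra_section_stalk X.presheaf ⟨y, hy⟩
  have := hU.isLocalization_stalk ⟨y, hy⟩
  exact IsLocalization.AtPrime.ringKrullDim_eq_height (hU.primeIdealOf ⟨y, hy⟩).asIdeal (X.presheaf.stalk y)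

end Translate

/-- **Pure codimension one.** In a locally Noetherian scheme with normal local rings, the minimal primes of the reduced
ideal of the complement of a dense open `V`, whose intersections with affine opens are affine, have height one. -/
theorem height_eq_one (V : X.Opens) (hVd : Dense (V : Set X))
    (hsep : ∀ W : X.Opens, IsAffineOpen W → IsAffineOpen (W ⊓ V))
    (hnorm : ∀ x : X, IsDomain (X.presheaf.stalk x) ∧ IsIntegrallyClosed (X.presheaf.stalk x))
    (Z : Closeds X) (hZ : (Z : Set X) = (V : Set X)ᶜ)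
    (U : X.affineOpens) (P : Ideal Γ(X, U.1))
    (hP : P ∈ ((Scheme.IdealSheafData.vanishingIdeal Z).ideal U).minimalPrimes) :
    P.height = 1 := by
  haveI : IsNoetherianRing Γ(X, U.1) := IsLocallyNoetherian.component_noetherian U
  have hU : IsAffineOpen U.1 := U.2
  have hPp : P.IsPrime := hP.1.1
  let q : PrimeSpectrum Γ(X, U.1) := ⟨P, hPp⟩
  have hI : (Scheme.IdealSheafData.vanishingIdeal Z).ideal U =
      PrimeSpectrum.vanishingIdeal (hU.fromSpec ⁻¹' (Z : Set X)) :=
    Scheme.IdealSheafData.vanishingIdeal_ideal Z U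
  have hIP : (Scheme.IdealSheafData.vanishingIdeal Z).ideal U ≤ P := hP.1.2
  -- translation for points of `U`
  have hpt : ∀ (y : X) (hy : y ∈ U.1), hU.fromSpec (hU.primeIdealOf ⟨y, hy⟩) = y :=
    fun y hy => hU.fromSpec_primeIdealOf ⟨y, hy⟩
  have hzZ : hU.fromSpec q ∈ (Z : Set X) :=
    (fromSpec_mem_iff_vanishingIdeal_le hU Z q).2 (hI ▸ hIP)
  have hzV : hU.fromSpec q ∉ V := by
    intro h
    rw [hZ] at hzZ
    exact hzZ h
  -- height at least one
  have h_ne0 : P.height ≠ 0 := by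
    intro h0
    have hmin : P ∈ (⊥ : Ideal Γ(X, U.1)).minimalPrimes := Ideal.height_eq_zero_iff.1 h0
    obtain ⟨f, hfP, hf⟩ := exists_not_mem_of_mem_minimalPrimes ⊥ P hmin
    have hzf : hU.fromSpec q ∈ X.basicOpen f := (fromSpec_mem_basicOpen_iff hU f q).2 hfP
    obtain ⟨y, hyf, hyV⟩ := hVd.inter_open_nonempty (X.basicOpen f : Set X) (X.basicOpen f).2 ⟨_, hzf⟩
    have hyU : y ∈ U.1 := X.basicOpen_le f hyf
    have hfy : f ∉ (hU.primeIdealOf ⟨y, hyU⟩).asIdeal := by
      rw [← fromSpec_mem_basicOpen_iff hU f, hpt y hyU]; exact hyf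
    obtain ⟨P', hP', hP'y⟩ := Ideal.exists_minimalPrimes_le
      (I := (⊥ : Ideal Γ(X, U.1))) (J := (hU.primeIdealOf ⟨y, hyU⟩).asIdeal) bot_le
    have hP'P : P' = P := by
      by_contra hne
      exact hfy (hP'y (hf P' hP' hne))
    have hyZ : y ∈ (Z : Set X) := by
      rw [← hpt y hyU, fromSpec_mem_iff_vanishingIdeal_le hU Z, ← hI]
      exact hIP.trans (hP'P ▸ hP'y)
    rw [hZ] at hyZ
    exact hyZ hyV
  -- height less than two
  have h_lt2 : ¬ (2 : ℕ∞) ≤ P.height := by
    intro h2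
    obtain ⟨f, hfP, hf⟩ := exists_not_mem_of_mem_minimalPrimes _ P hP
    have hzf : hU.fromSpec q ∈ X.basicOpen f := (fromSpec_mem_basicOpen_iff hU f q).2 hfP
    have hW : IsAffineOpen (X.basicOpen f) := hU.basicOpen f
    have hle : X.basicOpen f ≤ V := by
      refine le_of_depth V hW (hsep _ hW) ?_
      intro y hyf hyV
      have hyU : y ∈ U.1 := X.basicOpen_le f hyf
      have hfy : f ∉ (hU.primeIdealOf ⟨y, hyU⟩).asIdeal := by
        rw [← fromSpec_mem_basicOpen_iff hU f, hpt y hyU]; exact hyf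
      have hyZ : y ∈ (Z : Set X) := by rw [hZ]; exact hyV
      have hIy : (Scheme.IdealSheafData.vanishingIdeal Z).ideal U ≤ (hU.primeIdealOf ⟨y, hyU⟩).asIdeal := by
        rw [hI, ← fromSpec_mem_iff_vanishingIdeal_le hU Z, hpt y hyU]; exact hyZ
      obtain ⟨P', hP', hP'y⟩ := Ideal.exists_minimalPrimes_le hIy
      have hP'P : P' = P := by
        by_contra hne
        exact hfy (hP'y (hf P' hP' hne))
      have hPy : P ≤ (hU.primeIdealOf ⟨y, hyU⟩).asIdeal := hP'P ▸ hP'y
      have hht : (2 : ℕ∞) ≤ (hU.primeIdealOf ⟨y, hyU⟩).asIdeal.height := h2.trans (Ideal.height_mono hPy)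
      have hdim : 2 ≤ ringKrullDim (X.presheaf.stalk y) := by
        rw [ringKrullDim_stalk hU y hyU]
        exact WithBot.coe_le_coe.2 hht
      have h1 := (hnorm y).1
      have h2' := (hnorm y).2
      exact Groth.Agent.Lib.Helper28.two_le_depth_of_isIntegrallyClosed_of_two_le_dim hdim
    exact hzV (hle hzf)
  have h1 : 1 ≤ P.height := Order.one_le_iff_ne_zero.2 h_ne0
  have h2 : P.height < 2 := not_le.1 h_lt2
  refine le_antisymm ?_ h1
  have : P.height < 1 + 1 := by rwa [one_add_one_eq_two]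
  exact Order.le_of_lt_add_one this

end Geom

end Groth.Agent.Lib.T2H4.CodimOne
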