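import Mathlib
import Groth.Agent.Lib.T2H4CodimOne
import Groth.Agent.Lib.T2H4AmpleCartier
import Groth.Agent.Lib.Helper23AmpleIso
set_option backward.isDefEq.respectTransparency.types false

/-!
# T2H4LocFactAmple: a separated Noetherian locally factorial scheme has an ample family of invertible modules (helper4)

Namespace `Groth.Agent.Lib.T2H4.LocFactAmple`.
-/

set_option autoImplicit false
set_option linter.style.haveILetI false
set_option linter.unusedSectionVars false
universe u
open CategoryTheory CategoryTheory.Limits AlgebraicGeometry TopologicalSpace Opposite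

namespace Groth.Agent.Lib.T2H4.LocFactAmple

open Groth.Agent.Lib.T2H4.CodimOne

variable {X : Scheme.{u}}

/-- variant of helper2's criterion: if the associated primes of the quotients by the ideals all have height one and the
local rings along the support are factorial, the ideal sheaf is an effective Cartier divisor -/
theorem isEffCartierIdeal_of_ass_height_one [IsLocallyNoetherian X] (𝓘 : X.IdealSheafData)
    (hass : ∀ (U : X.affineOpens) (P : Ideal Γ(X, U.1)),
      IsAssociatedPrime P (Γ(X, U.1) ⧸ 𝓘.ideal U) → P.height = 1)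
    (h3 : ∀ x : ↥X, x ∈ 𝓘.support →
      IsDomain (X.presheaf.stalk x) ∧ UniqueFactorizationMonoid (X.presheaf.stalk x)) :
    BlowUp.IsEffCartierIdeal 𝓘 := by
  intro x
  by_cases hx : x ∈ 𝓘.support
  · obtain ⟨U, hU, hxU, -⟩ := exists_isAffineOpen_mem_and_subset (x := x) (U := ⊤) trivial
    let U' : X.affineOpens := ⟨U, hU⟩
    have : IsNoetherianRing Γ(X, U) := IsLocallyNoetherian.component_noetherian U'
    have hIp : 𝓘.ideal U' ≤ (hU.primeIdealOf ⟨x, hxU⟩).asIdeal := by
      have hmem : x ∈ (𝓘.support : Set X) ∩ U := ⟨hx, hxU⟩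
      rw [𝓘.coe_support_inter U', ← hU.fromSpec_image_zeroLocus] at hmem
      obtain ⟨y, hy, hyx⟩ := hmem
      have hyeq : y = hU.primeIdealOf ⟨x, hxU⟩ :=
        hU.fromSpec.isOpenEmbedding.injective (by rw [hyx, hU.fromSpec_primeIdealOf])
      subst hyeq
      exact hy
    obtain ⟨hdom, hufd'⟩ := h3 x hx
    letI : Algebra Γ(X, U) (X.presheaf.stalk x) :=
      TopCat.Presheaf.algebra_section_stalk X.presheaf ⟨x, hxU⟩
    have : IsLocalization.AtPrime (X.presheaf.stalk x) (hU.primeIdealOf ⟨x, hxU⟩).asIdeal :=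
      hU.isLocalization_stalk ⟨x, hxU⟩
    obtain ⟨g, hg, a, haI, H⟩ := Groth.Agent.Lib.T2H2.UFDCartier.exists_away_principal_of_ass
      (𝓘.ideal U') (hU.primeIdealOf ⟨x, hxU⟩).asIdeal (X.presheaf.stalk x) hIp (hass U')
    have hloc : IsLocalization.Away g Γ(X, X.basicOpen g) := hU.isLocalization_basicOpen g
    obtain ⟨H1, H2⟩ := H Γ(X, X.basicOpen g)
    refine ⟨X.affineBasicOpen (U := U') g, ?_, algebraMap Γ(X, U) Γ(X, X.basicOpen g) a, H2, ?_⟩
    · have h2' : x ∈ X.basicOpen g ↔
          hU.primeIdealOf ⟨x, hxU⟩ ∈ hU.fromSpec ⁻¹ᵁ X.basicOpen g := by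
        change _ ↔ hU.fromSpec (hU.primeIdealOf ⟨x, hxU⟩) ∈ X.basicOpen g
        rw [hU.fromSpec_primeIdealOf]
      change x ∈ X.basicOpen g
      rw [h2', hU.fromSpec_preimage_basicOpen]
      exact hg
    · exact (𝓘.map_ideal_basicOpen U' g).symm.trans H1
  · have hopen : IsOpen ((𝓘.support : Set X)ᶜ) := 𝓘.support.isClosed.isOpen_compl
    obtain ⟨U, hU, hxU, hUs⟩ := exists_isAffineOpen_mem_and_subset (x := x)
      (U := ⟨(𝓘.support : Set X)ᶜ, hopen⟩) hx
    refine ⟨⟨U, hU⟩, hxU, 1, one_mem _, ?_⟩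
    rw [Ideal.span_singleton_one]
    refine Groth.Agent.Lib.T2H2.UFDCartierSch.ideal_eq_top_of_disjoint 𝓘 ⟨U, hU⟩ ?_
    rw [Set.disjoint_left]
    intro y hy hyU
    exact hUs hyU hy

/-- **The reduced complement of a dense affine open is an effective Cartier divisor** on a locally Noetherian locally
factorial scheme with affine diagonal. -/
theorem isEffCartierIdeal_vanishingIdeal [IsLocallyNoetherian X] (V : X.Opens) (hVd : Dense (V : Set X))
    (hsep : ∀ W : X.Opens, IsAffineOpen W → IsAffineOpen (W ⊓ V))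
    (hfact : ∀ x : X, IsDomain (X.presheaf.stalk x) ∧ UniqueFactorizationMonoid (X.presheaf.stalk x))
    (Z : Closeds X) (hZ : (Z : Set X) = (V : Set X)ᶜ) :
    BlowUp.IsEffCartierIdeal (Scheme.IdealSheafData.vanishingIdeal Z) := by
  refine isEffCartierIdeal_of_ass_height_one _ (fun U P hP => ?_) (fun x _ => hfact x)
  haveI : IsNoetherianRing Γ(X, U.1) := IsLocallyNoetherian.component_noetherian U
  have hrad : ((Scheme.IdealSheafData.vanishingIdeal Z).ideal U).IsRadical := by
    rw [Scheme.IdealSheafData.vanishingIdeal_ideal]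
    exact PrimeSpectrum.isRadical_vanishingIdeal _
  have hnorm : ∀ x : X, IsDomain (X.presheaf.stalk x) ∧ IsIntegrallyClosed (X.presheaf.stalk x) := by
    intro x
    have h1 := (hfact x).1
    have h2 := (hfact x).2
    exact ⟨h1, inferInstance⟩
  exact height_eq_one V hVd hsep hnorm Z hZ U P (mem_minimalPrimes_of_isAssociatedPrime _ P hrad hP)

/-- every point of a Noetherian scheme lies in a dense affine open -/
theorem exists_dense_affine [IsNoetherian X] (x : X) :
    ∃ V : X.Opens, IsAffineOpen V ∧ x ∈ V ∧ Dense (V : Set X) := by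
  have hwf : WellFounded ((· > ·) : X.Opens → X.Opens → Prop) :=
    (inferInstance : NoetherianSpace X).wf
  obtain ⟨V₀, hV₀, hxV₀, -⟩ := exists_isAffineOpen_mem_and_subset (x := x) (U := ⊤) trivial
  obtain ⟨V, ⟨hV, hxV⟩, hmax⟩ := hwf.has_min {V : X.Opens | IsAffineOpen V ∧ x ∈ V} ⟨V₀, hV₀, hxV₀⟩
  refine ⟨V, hV, hxV, ?_⟩
  by_contra hd
  rw [dense_iff_closure_eq] at hd
  obtain ⟨y, hy⟩ : ∃ y, y ∉ closure (V : Set X) := by
    by_contra hcon
    push Not at hcon
    exact hd (Set.eq_univ_of_forall hcon)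
  have hopen : IsOpen ((closure (V : Set X))ᶜ) := isClosed_closure.isOpen_compl
  obtain ⟨V', hV', hyV', hV'sub⟩ := exists_isAffineOpen_mem_and_subset (x := y)
    (U := ⟨(closure (V : Set X))ᶜ, hopen⟩) hy
  have hdisj : Disjoint V V' := by
    rw [← Opens.coe_disjoint, Set.disjoint_left]
    intro z hzV hzV'
    exact hV'sub hzV' (subset_closure hzV)
  have haff : IsAffineOpen (V ⊔ V') := hV.sup_of_disjoint hV' hdisj
  have hgt : V ⊔ V' > V := by
    refine lt_of_le_of_ne le_sup_left ?_
    intro heq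
    have : y ∈ V := by rw [heq]; exact Or.inr hyV'
    exact hy (subset_closure this)
  exact hmax (V ⊔ V') ⟨haff, Or.inl hxV⟩ hgt

/-- **A separated Noetherian locally factorial scheme has an ample family of invertible modules.** -/
theorem hasAmpleFamily [IsNoetherian X] [X.IsSeparated]
    (hfact : ∀ x : X, IsDomain (X.presheaf.stalk x) ∧ UniqueFactorizationMonoid (X.presheaf.stalk x)) :
    MoreMor.HasAmpleFamily X := by
  classical
  choose V hV hxV hVd using fun x : X => exists_dense_affine x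
  obtain ⟨S, hS⟩ : ∃ S : Finset X, (Set.univ : Set X) ⊆ ⋃ x ∈ S, (V x : Set X) :=
    isCompact_univ.elim_finite_subcover (fun x => (V x : Set X)) (fun x => (V x).2)
      (fun x _ => Set.mem_iUnion.2 ⟨x, hxV x⟩)
  let pt : Fin S.card → X := fun i => (S.equivFin.symm i).1
  let D : Fin S.card → X.IdealSheafData := fun i =>
    Scheme.IdealSheafData.vanishingIdeal (V (pt i)).compl
  have hsupp : ∀ i, (D i).support = (V (pt i)).compl := fun i =>
    Closeds.ext (Scheme.IdealSheafData.coe_support_vanishingIdeal (V (pt i)).compl)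
  have hD : ∀ i, BlowUp.IsEffCartierIdeal (D i) := fun i =>
    isEffCartierIdeal_vanishingIdeal (V (pt i)) (hVd _) (fun W hW => hW.inf (hV _)) hfact
      (V (pt i)).compl rfl
  have hcap : ⋂ i, ((D i).support : Set X) = ∅ := by
    rw [Set.eq_empty_iff_forall_notMem]
    intro y hy
    obtain ⟨x₀, hx₀⟩ := Set.mem_iUnion.1 (hS (Set.mem_univ y))
    obtain ⟨hx₀S, hyx₀⟩ := Set.mem_iUnion.1 hx₀
    have h1 := Set.mem_iInter.1 hy (S.equivFin ⟨x₀, hx₀S⟩)
    rw [hsupp] at h1
    apply h1
    change y ∈ V ((S.equivFin.symm (S.equivFin ⟨x₀, hx₀S⟩)).1)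
    rw [Equiv.symm_apply_apply]
    exact hyx₀
  have hcompl : ∀ i, (D i).support.compl = V (pt i) := by
    intro i
    rw [hsupp i, Opens.compl_compl]
  have hamp : ∀ i, CohB1.IsAmple
      ((Coh.structureModule X).restrict (Scheme.Opens.ι (D i).support.compl)) := by
    intro i
    have haff : IsAffineOpen (D i).support.compl := by rw [hcompl i]; exact hV _
    haveI : IsAffine ((D i).support.compl : Scheme.{u}) := haff
    have h1 : CohB1.IsAmple (Coh.structureModule ((D i).support.compl : Scheme.{u})) :=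
      (Groth.Agent.Lib.Helper23.AmpleIso.isQuasiAffine_iff_isAmple_structureModule _).1 inferInstance
    exact Groth.Agent.Lib.Helper23.AmpleIso.isAmple_of_iso
      (Scheme.Modules.restrictUnitIso (Scheme.Opens.ι (D i).support.compl)).symm h1
  exact Groth.Agent.Lib.T2H4.AmpleCartier.hasAmpleFamily D hD hcap (fun _ => Coh.structureModule X)
    (fun _ => Groth.Agent.Lib.Helper23.TensorUnit.isInvertible_structureModule X) hamp

end Groth.Agent.Lib.T2H4.LocFactAmple
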