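import Mathlib
import Groth.Agent.Lib.T2H4LocFactAmple
set_option backward.isDefEq.respectTransparency.types false

/-!
# T2H4CodimOneB: variants of T2H4CodimOne / T2H4LocFactAmple with the normality / factoriality hypotheses only at the
points outside the dense open (helper4)

Namespace `Groth.Agent.Lib.T2H4.CodimOneB`.
-/

set_option autoImplicit false
set_option linter.style.haveILetI false
set_option linter.unusedSectionVars false
universe u
open CategoryTheory CategoryTheory.Limits AlgebraicGeometry TopologicalSpace Opposite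

namespace Groth.Agent.Lib.T2H4.CodimOneB

open Groth.Agent.Lib.T2H4.CodimOne Groth.Agent.Lib.T2H4.LocFactAmple

variable {X : Scheme.{u}} [IsLocallyNoetherian X]

/-- **Pure codimension one.** In a locally Noetherian scheme with normal local rings, the minimal primes of the reduced
ideal of the complement of a dense open `V`, whose intersections with affine opens are affine, have height one. -/
theorem height_eq_one' (V : X.Opens) (hVd : Dense (V : Set X))
    (hsep : ∀ W : X.Opens, IsAffineOpen W → IsAffineOpen (W ⊓ V))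
    (hnorm : ∀ x : X, x ∉ V → IsDomain (X.presheaf.stalk x) ∧ IsIntegrallyClosed (X.presheaf.stalk x))
    (Z : Closeds X) (hZ : (Z : Set X) = (V : Set X)ᶜ)
    (U : X.affineOpens) (P : Ideal Γ(X, U.1))
    (hP : P ∈ ((Scheme.IdealSheafData.vanishingIdeal Z).ideal U).minimalPrimes) :
    P.height = 1 := by
  haveI : IsNoetherianRing Γ(X, U.1) := IsLocallyNoetherian.component_noetherian U
  have hU : IsAffineOpen U.1 := U.2
  have hPp : P.IsPrime := hP.1.1
  let q : PrimeSpectrum Γ(X, U.1) := ⟨P, hPp⟩
  have hI : (Scheme.IdealSheafData.vanishingIdeal Z).ideal U =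
      PrimeSpectrum.vanishingIdeal (hU.fromSpec ⁻¹' (Z : Set X)) :=
    Scheme.IdealSheafData.vanishingIdeal_ideal Z U
  have hIP : (Scheme.IdealSheafData.vanishingIdeal Z).ideal U ≤ P := hP.1.2
  -- translation for points of `U`
  have hpt : ∀ (y : X) (hy : y ∈ U.1), hU.fromSpec (hU.primeIdealOf ⟨y, hy⟩) = y :=
    fun y hy => hU.fromSpec_primeIdealOf ⟨y, hy⟩
  have hzZ : hU.fromSpec q ∈ (Z : Set X) :=
    (fromSpec_mem_iff_vanishingIdeal_le hU Z q).2 (hI ▸ hIP)
  have hzV : hU.fromSpec q ∉ V := by
    intro h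
    rw [hZ] at hzZ
    exact hzZ h
  -- height at least one
  have h_ne0 : P.height ≠ 0 := by
    intro h0
    have hmin : P ∈ (⊥ : Ideal Γ(X, U.1)).minimalPrimes := Ideal.height_eq_zero_iff.1 h0
    obtain ⟨f, hfP, hf⟩ := exists_not_mem_of_mem_minimalPrimes ⊥ P hmin
    have hzf : hU.fromSpec q ∈ X.basicOpen f := (fromSpec_mem_basicOpen_iff hU f q).2 hfP
    obtain ⟨y, hyf, hyV⟩ := hVd.inter_open_nonempty (X.basicOpen f : Set X) (X.basicOpen f).2 ⟨_, hzf⟩
    have hyU : y ∈ U.1 := X.basicOpen_le f hyf
    have hfy : f ∉ (hU.primeIdealOf ⟨y, hyU⟩).asIdeal := by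
      rw [← fromSpec_mem_basicOpen_iff hU f, hpt y hyU]; exact hyf
    obtain ⟨P', hP', hP'y⟩ := Ideal.exists_minimalPrimes_le
      (I := (⊥ : Ideal Γ(X, U.1))) (J := (hU.primeIdealOf ⟨y, hyU⟩).asIdeal) bot_le
    have hP'P : P' = P := by
      by_contra hne
      exact hfy (hP'y (hf P' hP' hne))
    have hyZ : y ∈ (Z : Set X) := by
      rw [← hpt y hyU, fromSpec_mem_iff_vanishingIdeal_le hU Z, ← hI]
      exact hIP.trans (hP'P ▸ hP'y)
    rw [hZ] at hyZ
    exact hyZ hyV
  -- height less than two
  have h_lt2 : ¬ (2 : ℕ∞) ≤ P.height := by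
    intro h2
    obtain ⟨f, hfP, hf⟩ := exists_not_mem_of_mem_minimalPrimes _ P hP
    have hzf : hU.fromSpec q ∈ X.basicOpen f := (fromSpec_mem_basicOpen_iff hU f q).2 hfP
    have hW : IsAffineOpen (X.basicOpen f) := hU.basicOpen f
    have hle : X.basicOpen f ≤ V := by
      refine le_of_depth V hW (hsep _ hW) ?_
      intro y hyf hyV
      have hyU : y ∈ U.1 := X.basicOpen_le f hyf
      have hfy : f ∉ (hU.primeIdealOf ⟨y, hyU⟩).asIdeal := by
        rw [← fromSpec_mem_basicOpen_iff hU f, hpt y hyU]; exact hyf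
      have hyZ : y ∈ (Z : Set X) := by rw [hZ]; exact hyV
      have hIy : (Scheme.IdealSheafData.vanishingIdeal Z).ideal U ≤ (hU.primeIdealOf ⟨y, hyU⟩).asIdeal := by
        rw [hI, ← fromSpec_mem_iff_vanishingIdeal_le hU Z, hpt y hyU]; exact hyZ
      obtain ⟨P', hP', hP'y⟩ := Ideal.exists_minimalPrimes_le hIy
      have hP'P : P' = P := by
        by_contra hne
        exact hfy (hP'y (hf P' hP' hne))
      have hPy : P ≤ (hU.primeIdealOf ⟨y, hyU⟩).asIdeal := hP'P ▸ hP'y
      have hht : (2 : ℕ∞) ≤ (hU.primeIdealOf ⟨y, hyU⟩).asIdeal.height := h2.trans (Ideal.height_mono hPy)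
      have hdim : 2 ≤ ringKrullDim (X.presheaf.stalk y) := by
        rw [ringKrullDim_stalk hU y hyU]
        exact WithBot.coe_le_coe.2 hht
      have h1 := (hnorm y hyV).1
      have h2' := (hnorm y hyV).2
      exact Groth.Agent.Lib.Helper28.two_le_depth_of_isIntegrallyClosed_of_two_le_dim hdim
    exact hzV (hle hzf)
  have h1 : 1 ≤ P.height := Order.one_le_iff_ne_zero.2 h_ne0
  have h2 : P.height < 2 := not_le.1 h_lt2
  refine le_antisymm ?_ h1
  have : P.height < 1 + 1 := by rwa [one_add_one_eq_two]
  exact Order.le_of_lt_add_one this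


/-- **The reduced complement of a dense open with affine intersections with affine opens is an effective Cartier
divisor** on a locally Noetherian scheme whose local rings at the points of the complement are factorial. -/
theorem isEffCartierIdeal_vanishingIdeal' (V : X.Opens) (hVd : Dense (V : Set X))
    (hsep : ∀ W : X.Opens, IsAffineOpen W → IsAffineOpen (W ⊓ V))
    (hfact : ∀ x : X, x ∉ V → IsDomain (X.presheaf.stalk x) ∧ UniqueFactorizationMonoid (X.presheaf.stalk x)) :
    BlowUp.IsEffCartierIdeal (Scheme.IdealSheafData.vanishingIdeal V.compl) ∧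
      ((Scheme.IdealSheafData.vanishingIdeal V.compl).support : Set X) = (V : Set X)ᶜ := by
  have hsupp : ((Scheme.IdealSheafData.vanishingIdeal V.compl).support : Set X) = (V : Set X)ᶜ :=
    Scheme.IdealSheafData.coe_support_vanishingIdeal V.compl
  refine ⟨?_, hsupp⟩
  refine isEffCartierIdeal_of_ass_height_one _ (fun U P hP => ?_) (fun x hx => hfact x ?_)
  · haveI : IsNoetherianRing Γ(X, U.1) := IsLocallyNoetherian.component_noetherian U
    have hrad : ((Scheme.IdealSheafData.vanishingIdeal V.compl).ideal U).IsRadical := by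
      rw [Scheme.IdealSheafData.vanishingIdeal_ideal]
      exact PrimeSpectrum.isRadical_vanishingIdeal _
    have hnorm : ∀ x : X, x ∉ V →
        IsDomain (X.presheaf.stalk x) ∧ IsIntegrallyClosed (X.presheaf.stalk x) := by
      intro x hx
      have h1 := (hfact x hx).1
      have h2 := (hfact x hx).2
      exact ⟨h1, inferInstance⟩
    exact height_eq_one' V hVd hsep hnorm V.compl rfl U P
      (mem_minimalPrimes_of_isAssociatedPrime _ P hrad hP)
  · have : x ∈ ((Scheme.IdealSheafData.vanishingIdeal V.compl).support : Set X) := hx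
    rw [hsupp] at this
    exact this

end Groth.Agent.Lib.T2H4.CodimOneB
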