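import Mathlib
import Groth.Agent.S0313
import Groth.Agent.Lib.Helper8RegHull
set_option autoImplicit false
set_option linter.style.haveILetI false
universe u
open CategoryTheory CategoryTheory.Abelian IsLocalRing

namespace Groth.Agent.Lib.T2H4.CofTop

section Art
variable {R : Type u} [CommRing R] [IsNoetherianRing R]

/-- `Ext^i(N, Y)` is Artinian for `N` finite and `Y` Artinian. -/
theorem isArtinian_ext (Y : Type u) [AddCommGroup Y] [Module R Y] [IsArtinian R Y] :
    ∀ (i : ℕ) (N : Type u) [AddCommGroup N] [Module R N] [Module.Finite R N],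
      IsArtinian R (Ext.{u} (ModuleCat.of R N) (ModuleCat.of R Y) i) := by
  intro i
  induction i with
  | zero =>
    intro N _ _ _
    obtain ⟨b, g, hg⟩ := Module.Finite.exists_fin' R N
    let e : Ext.{u} (ModuleCat.of R N) (ModuleCat.of R Y) 0 ≃ₗ[R] (N →ₗ[R] Y) :=
      (Ext.linearEquiv₀ (R := R)).trans (ModuleCat.homLinearEquiv (S := R))
    let e2 : (Fin b → Y) ≃ₗ[R] ((Fin b → R) →ₗ[R] Y) := (Pi.basisFun R (Fin b)).constr R
    haveI : IsArtinian R ((Fin b → R) →ₗ[R] Y) := isArtinian_of_linearEquiv e2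
    have hψ : Function.Injective (LinearMap.lcomp R Y g) := by
      intro φ₁ φ₂ h
      apply LinearMap.ext
      intro x
      obtain ⟨y, rfl⟩ := hg x
      exact LinearMap.congr_fun h y
    exact isArtinian_of_injective ((LinearMap.lcomp R Y g) ∘ₗ e.toLinearMap)
      (hψ.comp e.injective)
  | succ i ih =>
    intro N _ _ _
    obtain ⟨b, g, hg⟩ := Module.Finite.exists_fin' R N
    have hS := LinearMap.shortExact_shortComplexKer hg
    haveI : Projective (ModuleCat.of R (Fin b → R)) :=
      (IsProjective.iff_projective.{u, u} (Fin b → R)).mp inferInstance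
    have hA := ih (LinearMap.ker g)
    let δ : Ext.{u} (ModuleCat.of R (LinearMap.ker g)) (ModuleCat.of R Y) i →ₗ[R]
        Ext.{u} (ModuleCat.of R N) (ModuleCat.of R Y) (i + 1) :=
      { toFun := fun x => hS.extClass.comp x (add_comm 1 i)
        map_add' := fun x y => Ext.comp_add _ _ _ _
        map_smul' := fun r x => Ext.comp_smul _ _ _ _ }
    have hδ : Function.Surjective δ := by
      intro x
      obtain ⟨x₁, hx₁⟩ := Ext.contravariant_sequence_exact₃ hS (ModuleCat.of R Y) x
        (Ext.eq_zero_of_projective _) (n₀ := i) (add_comm 1 i)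
      exact ⟨x₁, hx₁⟩
    exact isArtinian_of_surjective _ δ hδ

/-- `I` kills `Ext^i(R/I, Y)`. -/
lemma smul_ext_eq_zero (I : Ideal R) (Y : Type u) [AddCommGroup Y] [Module R Y] (i : ℕ)
    (a : R) (ha : a ∈ I) (x : Ext.{u} (ModuleCat.of R (R ⧸ I)) (ModuleCat.of R Y) i) :
    a • x = 0 := by
  have h : a • (𝟙 (ModuleCat.of R (R ⧸ I))) = 0 := by
    apply ModuleCat.hom_ext
    apply LinearMap.ext
    intro z
    obtain ⟨z, rfl⟩ := Ideal.Quotient.mk_surjective z
    show a • (Ideal.Quotient.mk I z) = 0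
    rw [Algebra.smul_def, Ideal.Quotient.algebraMap_eq, ← map_mul, Ideal.Quotient.eq_zero_iff_mem]
    exact I.mul_mem_right z ha
  have h1 : a • x = (Ext.mk₀ (a • 𝟙 (ModuleCat.of R (R ⧸ I)))).comp x (zero_add i) := by
    rw [Ext.mk₀_smul, Ext.smul_comp, Ext.mk₀_id_comp]
  rw [h1, h, Ext.mk₀_zero, Ext.zero_comp]

end Art

section FL
variable {R : Type u} [CommRing R] [IsNoetherianRing R] [IsLocalRing R]

/-- an Artinian module killed by a power of the maximal ideal has finite length. -/
lemma isFiniteLength_of_isArtinian_of_pow_smul (N : Type u) [AddCommGroup N] [Module R N]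
    [IsArtinian R N] (K : ℕ) (hK : ∀ a ∈ maximalIdeal R ^ K, ∀ x : N, a • x = 0) :
    IsFiniteLength R N := by
  have htors : Module.IsTorsionBySet R N ((maximalIdeal R ^ K : Ideal R) : Set R) := by
    intro x a
    exact hK a.1 a.2 x
  letI : Module (R ⧸ maximalIdeal R ^ K) N := htors.module
  haveI : IsScalarTower R (R ⧸ maximalIdeal R ^ K) N := htors.isScalarTower
  haveI : IsArtinianRing (R ⧸ maximalIdeal R ^ K) := by
    have h1 : IsFiniteLength R (R ⧸ maximalIdeal R ^ K) :=
      Groth.Agent.S0313.isFiniteLength_quotient_pow K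
    have h2 : IsArtinian R (R ⧸ maximalIdeal R ^ K) :=
      (isFiniteLength_iff_isNoetherian_isArtinian.mp h1).2
    exact isArtinian_of_tower R h2
  haveI : IsArtinian (R ⧸ maximalIdeal R ^ K) N := isArtinian_of_tower R inferInstance
  haveI : IsNoetherian (R ⧸ maximalIdeal R ^ K) N :=
    IsSemiprimaryRing.isNoetherian_iff_isArtinian.mpr inferInstance
  haveI : Module.Finite (R ⧸ maximalIdeal R ^ K) N := inferInstance
  haveI : Module.Finite R N := Module.Finite.trans (R ⧸ maximalIdeal R ^ K) N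
  exact Groth.Agent.Lib.Helper8.RegHull.isFiniteLength_of_finite_of_pow_smul N K hK

/-- finite length of `Ext^i(R/I, Y)` for `Y` Artinian such that a power of the maximal ideal
acts on `Y` through `I • End(Y)`. -/
theorem isFiniteLength_ext_of_mem_smul_top (I : Ideal R) (Y : Type u) [AddCommGroup Y] [Module R Y]
    [IsArtinian R Y] (K : ℕ)
    (hK : ∀ r ∈ maximalIdeal R ^ K,
      (r • (1 : Module.End R Y)) ∈ I • (⊤ : Submodule R (Module.End R Y))) (i : ℕ) :
    IsFiniteLength R (Ext.{u} (ModuleCat.of R (R ⧸ I)) (ModuleCat.of R Y) i) := by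
  haveI := isArtinian_ext (R := R) Y i (R ⧸ I)
  apply isFiniteLength_of_isArtinian_of_pow_smul _ K
  intro r hr x
  let Z : Submodule R (Module.End R Y) :=
    { carrier := {g | ∀ x : Ext.{u} (ModuleCat.of R (R ⧸ I)) (ModuleCat.of R Y) i,
        x.comp (Ext.mk₀ (ModuleCat.ofHom g)) (add_zero i) = 0}
      add_mem' := by
        intro g₁ g₂ h₁ h₂ x
        have : ModuleCat.ofHom (g₁ + g₂) = ModuleCat.ofHom g₁ + ModuleCat.ofHom g₂ := rfl
        rw [this, Ext.mk₀_add, Ext.comp_add, h₁ x, h₂ x, add_zero]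
      zero_mem' := by
        intro x
        have : ModuleCat.ofHom (0 : Module.End R Y) = 0 := rfl
        rw [this, Ext.mk₀_zero, Ext.comp_zero]
      smul_mem' := by
        intro c g hg x
        have : ModuleCat.ofHom (c • g) = c • ModuleCat.ofHom g := rfl
        rw [this, Ext.mk₀_smul, Ext.comp_smul, hg x, smul_zero] }
  have hZ : I • (⊤ : Submodule R (Module.End R Y)) ≤ Z := by
    rw [Submodule.smul_le]
    intro a ha g _ x
    have : ModuleCat.ofHom (a • g) = a • ModuleCat.ofHom g := rfl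
    rw [this, Ext.mk₀_smul, Ext.comp_smul]
    exact smul_ext_eq_zero I Y i a ha _
  have h1 := hZ (hK r hr) x
  have h2 : ModuleCat.ofHom (r • (1 : Module.End R Y)) = r • 𝟙 (ModuleCat.of R Y) := rfl
  rw [h2] at h1
  rw [Ext.smul_eq_comp_mk₀]
  exact h1

end FL
end Groth.Agent.Lib.T2H4.CofTop
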