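import Mathlib
import Groth.Agent.S17759
import Groth.Agent.S0317
import Groth.Agent.S11681
import Groth.Agent.S3262
import Groth.Agent.S0299
set_option autoImplicit false
set_option linter.style.haveILetI false
universe u
open CategoryTheory IsLocalRing

namespace Groth.Agent.Lib.T2H4.CofTop

section P2a
variable {R : Type u} [CommRing R] [IsLocalRing R]
  {S : Type u} [CommRing S] [IsNoetherianRing S] [IsLocalRing S] [Algebra R S]
  (hmax : maximalIdeal S = (maximalIdeal R).map (algebraMap R S))
  (I : Ideal R) (Y : Type u) [AddCommGroup Y] [Module S Y] [Module R Y] [IsScalarTower R S Y]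

include hmax in
/-- if `I S + Ann_S(Y)` is primary to the maximal ideal then a power of the maximal ideal of `R`
acts on `Y` through `I • End_R(Y)`. -/
lemma exists_pow_smul_one_mem
    (hrad : maximalIdeal S ≤ (I.map (algebraMap R S) ⊔ Module.annihilator S Y).radical) :
    ∃ K : ℕ, ∀ r ∈ maximalIdeal R ^ K,
      (r • (1 : Module.End R Y)) ∈ I • (⊤ : Submodule R (Module.End R Y)) := by
  obtain ⟨K, hK⟩ := Ideal.exists_pow_le_of_le_radical_of_fg hrad
    (maximalIdeal S).fg_of_isNoetherianRing
  refine ⟨K, fun r hr => ?_⟩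
  let Φ : S →ₗ[R] Module.End R Y :=
    { toFun := fun s =>
        { toFun := fun y => s • y
          map_add' := smul_add s
          map_smul' := fun c y => smul_comm s c y }
      map_add' := fun s t => by
        apply LinearMap.ext
        intro y
        exact add_smul s t y
      map_smul' := fun c s => by
        apply LinearMap.ext
        intro y
        exact smul_assoc c s y }
  have hΦ1 : r • (1 : Module.End R Y) = Φ (algebraMap R S r) := by
    apply LinearMap.ext
    intro y
    show r • y = (algebraMap R S r) • y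
    rw [algebraMap_smul]
  have hmem : algebraMap R S r ∈ maximalIdeal S ^ K := by
    rw [hmax, ← Ideal.map_pow]
    exact Ideal.mem_map_of_mem _ hr
  obtain ⟨u, hu, β, hβ, huβ⟩ := Submodule.mem_sup.mp (hK hmem)
  have hΦβ : Φ β = 0 := by
    apply LinearMap.ext
    intro y
    exact Module.mem_annihilator.mp hβ y
  have hΦu : Φ u ∈ I • (⊤ : Submodule R (Module.End R Y)) := by
    have hu' : u ∈ I • (⊤ : Submodule R S) := by
      rw [Ideal.smul_top_eq_map]
      exact hu
    have h1 : Φ u ∈ Submodule.map Φ (I • (⊤ : Submodule R S)) := Submodule.mem_map_of_mem hu'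
    rw [Submodule.map_smul''] at h1
    exact (smul_mono_right I le_top : I • Submodule.map Φ ⊤ ≤ I • ⊤) h1
  rw [hΦ1, ← huβ, map_add, hΦβ, add_zero]
  exact hΦu

end P2a

section P2b
variable {S : Type u} [CommRing S] [IsNoetherianRing S] [IsLocalRing S]
  [IsAdicComplete (maximalIdeal S) S]

/-- over a complete local ring: `J + Ann(H^n_J(M'))` is primary to the maximal ideal
(`n = dim M'`). -/
lemma le_radical_sup_annihilator (J : Ideal S) (M' : Type u) [AddCommGroup M'] [Module S M']
    [Module.Finite S M'] (n : ℕ) (hn : Module.supportDim S M' = ((n : ℕ) : WithBot ℕ∞)) :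
    maximalIdeal S ≤ (J ⊔ Module.annihilator S (LocCoh.H J n M')).radical := by
  haveI : Nontrivial M' := by
    by_contra hnt
    rw [not_nontrivial_iff_subsingleton] at hnt
    rw [Module.supportDim_eq_bot_of_subsingleton] at hn
    exact WithBot.bot_ne_coe hn
  obtain ⟨E, _, _, f, hf⟩ := Groth.Agent.S0299.result S (ResidueField S)
  haveI : IsArtinian S (LocCoh.H J n M') := Groth.Agent.S3262.result S J M' n hn
  obtain ⟨hfin, -⟩ := Groth.Agent.S0317.result S E f hf (LocCoh.H J n M')
  have hann := ((Groth.Agent.S11681.result S E f hf).1 (LocCoh.H J n M')).2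
  have hass := Groth.Agent.S17759.result S E f hf J M' n hn
  rw [Ideal.radical_eq_sInf]
  apply le_sInf
  rintro Q ⟨hQ1, hQ2⟩
  haveI := hQ2
  have hQann : Module.annihilator S (LocCoh.H J n M' →ₗ[S] E) ≤ Q := by
    rw [← hann]
    exact le_sup_right.trans hQ1
  obtain ⟨P, hP, hPQ⟩ := Ideal.exists_minimalPrimes_le hQann
  have hPass : P ∈ associatedPrimes S (LocCoh.H J n M' →ₗ[S] E) :=
    Module.associatedPrimes.minimalPrimes_annihilator_subset_associatedPrimes S _ hP
  rw [hass] at hPass
  obtain ⟨hPp, -, -, hPrad⟩ := hPass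
  rw [← hPrad]
  rw [Ideal.IsPrime.radical_le_iff hQ2]
  exact sup_le (le_sup_left.trans hQ1) hPQ

end P2b
end Groth.Agent.Lib.T2H4.CofTop
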