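import Groth.Agent.S6035
import Groth.Agent.S5155
import Groth.Agent.Lib.Helper28DepthFlat
import Mathlib

set_option autoImplicit false
set_option linter.style.haveILetI false
universe u v
open IsLocalRing

namespace Groth.Agent.Lib.T2H4.DD

variable {R : Type u} [CommRing R] [IsLocalRing R] [IsNoetherianRing R]
  {E : Type u} [AddCommGroup E] [Module R E]
  {X : Type u} [AddCommGroup X] [Module R X]

local notation "𝔪" => maximalIdeal R

/-- every functional on a finite module with values in a power torsion module is killed by a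
power of the maximal ideal -/
lemma exists_pow_le_ker [Module.Finite R X] (hE : LocCoh.IsPowerTorsion 𝔪 E) (ψ : X →ₗ[R] E) :
    ∃ n : ℕ, (𝔪 ^ n • ⊤ : Submodule R X) ≤ LinearMap.ker ψ := by
  classical
  obtain ⟨s, hs⟩ := (Module.Finite.fg_top : (⊤ : Submodule R X).FG)
  have key : ∀ t : Finset X, ∃ n : ℕ, ∀ x ∈ t, ∀ a ∈ 𝔪 ^ n, a • ψ x = 0 := by
    intro t
    induction t using Finset.induction_on with
    | empty => exact ⟨0, fun x hx => absurd hx (Finset.notMem_empty x)⟩
    | insert y t _ ih =>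
      obtain ⟨n, hn⟩ := ih
      obtain ⟨k, hk⟩ := hE (ψ y)
      refine ⟨max n k, fun x hx a ha => ?_⟩
      rcases Finset.mem_insert.1 hx with rfl | hx
      · exact hk a (Ideal.pow_le_pow_right (le_max_right _ _) ha)
      · exact hn x hx a (Ideal.pow_le_pow_right (le_max_left _ _) ha)
  obtain ⟨n, hn⟩ := key s
  refine ⟨n, ?_⟩
  rw [Submodule.smul_le]
  intro a ha x hx0
  clear hx0
  rw [LinearMap.mem_ker, map_smul]
  have hx : x ∈ Submodule.span R (s : Set X) := by rw [hs]; trivial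
  induction hx using Submodule.span_induction with
  | mem y hy => exact hn y hy a ha
  | zero => simp
  | add y z _ _ hy hz => rw [map_add, smul_add, hy, hz, add_zero]
  | smul c y _ hy => rw [map_smul, smul_comm, hy, smul_zero]


/-- values of a functional killed by `𝔪 ^ n` on representatives of the components of an element
of the completion -/
lemma apply_rep_eq {ψ : X →ₗ[R] E} {n N : ℕ} (hnN : n ≤ N)
    (hψ : (𝔪 ^ n • ⊤ : Submodule R X) ≤ LinearMap.ker ψ) (x : AdicCompletion 𝔪 X)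
    {z z' : X} (hz : Submodule.mkQ _ z = x.val n) (hz' : Submodule.mkQ _ z' = x.val N) :
    ψ z' = ψ z := by
  have h1 : Submodule.mkQ (𝔪 ^ n • ⊤ : Submodule R X) z' = Submodule.mkQ _ z := by
    rw [hz, ← AdicCompletion.transitionMap_comp_eval_apply 𝔪 X hnN x, ← hz']
    exact (Submodule.factor_mk _ z').symm
  have h2 : z' - z ∈ (𝔪 ^ n • ⊤ : Submodule R X) := by
    rw [← Submodule.Quotient.mk_eq_zero, Submodule.Quotient.mk_sub, sub_eq_zero]
    exact h1
  have h3 := hψ h2
  rw [LinearMap.mem_ker, map_sub, sub_eq_zero] at h3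
  exact h3

variable (hE : LocCoh.IsPowerTorsion (maximalIdeal R) E)

/-- the pairing between the completion of a finite module and its Matlis dual -/
noncomputable def Φfun [Module.Finite R X] (x : AdicCompletion 𝔪 X) (ψ : X →ₗ[R] E) : E :=
  ψ (Submodule.mkQ_surjective _ (x.val (exists_pow_le_ker hE ψ).choose)).choose

lemma Φfun_eq [Module.Finite R X] (x : AdicCompletion 𝔪 X) (ψ : X →ₗ[R] E) (n : ℕ)
    (hψ : (𝔪 ^ n • ⊤ : Submodule R X) ≤ LinearMap.ker ψ) (z : X)
    (hz : Submodule.mkQ _ z = x.val n) : Φfun hE x ψ = ψ z := by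
  set n₀ := (exists_pow_le_ker hE ψ).choose with hn₀
  have h₀ : (𝔪 ^ n₀ • ⊤ : Submodule R X) ≤ LinearMap.ker ψ := (exists_pow_le_ker hE ψ).choose_spec
  have hz₀ := (Submodule.mkQ_surjective _ (x.val n₀)).choose_spec
  obtain ⟨w, hw⟩ := Submodule.mkQ_surjective _ (x.val (max n n₀))
  have e1 := apply_rep_eq (le_max_right n n₀) h₀ x hz₀ hw
  have e2 := apply_rep_eq (le_max_left n n₀) hψ x hz hw
  unfold Φfun
  rw [← e1, e2]

lemma le_ker_of_le {ψ : X →ₗ[R] E} {n N : ℕ} (hnN : n ≤ N)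
    (hψ : (𝔪 ^ n • ⊤ : Submodule R X) ≤ LinearMap.ker ψ) :
    (𝔪 ^ N • ⊤ : Submodule R X) ≤ LinearMap.ker ψ :=
  (Submodule.pow_smul_top_le 𝔪 X hnN).trans hψ

/-- the map from the completion to the double Matlis dual -/
noncomputable def Φ [Module.Finite R X] :
    AdicCompletion 𝔪 X →ₗ[R] ((X →ₗ[R] E) →ₗ[R] E) where
  toFun x :=
    { toFun := Φfun hE x
      map_add' := fun ψ₁ ψ₂ => by
        obtain ⟨n₁, h₁⟩ := exists_pow_le_ker hE ψ₁
        obtain ⟨n₂, h₂⟩ := exists_pow_le_ker hE ψ₂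
        have k₁ := le_ker_of_le (le_max_left n₁ n₂) h₁
        have k₂ := le_ker_of_le (le_max_right n₁ n₂) h₂
        have k₃ : (𝔪 ^ (max n₁ n₂) • ⊤ : Submodule R X) ≤ LinearMap.ker (ψ₁ + ψ₂) := by
          intro y hy
          have a₁ := k₁ hy
          have a₂ := k₂ hy
          rw [LinearMap.mem_ker] at a₁ a₂ ⊢
          rw [LinearMap.add_apply, a₁, a₂, add_zero]
        obtain ⟨w, hw⟩ := Submodule.mkQ_surjective _ (x.val (max n₁ n₂))
        rw [Φfun_eq hE x _ _ k₃ w hw, Φfun_eq hE x _ _ k₁ w hw, Φfun_eq hE x _ _ k₂ w hw,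
          LinearMap.add_apply]
      map_smul' := fun c ψ => by
        obtain ⟨n, h⟩ := exists_pow_le_ker hE ψ
        have k : (𝔪 ^ n • ⊤ : Submodule R X) ≤ LinearMap.ker (c • ψ) := by
          intro y hy
          have a₁ := h hy
          rw [LinearMap.mem_ker] at a₁ ⊢
          rw [LinearMap.smul_apply, a₁, smul_zero]
        obtain ⟨w, hw⟩ := Submodule.mkQ_surjective _ (x.val n)
        rw [Φfun_eq hE x _ _ k w hw, Φfun_eq hE x _ _ h w hw, LinearMap.smul_apply,
          RingHom.id_apply] }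
  map_add' := fun x y => by
    ext ψ
    obtain ⟨n, h⟩ := exists_pow_le_ker hE ψ
    obtain ⟨w, hw⟩ := Submodule.mkQ_surjective _ (x.val n)
    obtain ⟨w', hw'⟩ := Submodule.mkQ_surjective _ (y.val n)
    have hww : Submodule.mkQ _ (w + w') = (x + y).val n := by
      rw [map_add, hw, hw', AdicCompletion.val_add_apply]
    show Φfun hE (x + y) ψ = Φfun hE x ψ + Φfun hE y ψ
    rw [Φfun_eq hE _ _ _ h _ hww, Φfun_eq hE _ _ _ h _ hw, Φfun_eq hE _ _ _ h _ hw', map_add]
  map_smul' := fun c x => by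
    ext ψ
    obtain ⟨n, h⟩ := exists_pow_le_ker hE ψ
    obtain ⟨w, hw⟩ := Submodule.mkQ_surjective _ (x.val n)
    have hww : Submodule.mkQ _ (c • w) = (c • x).val n := by
      rw [map_smul, hw, AdicCompletion.val_smul_apply]
    show Φfun hE (c • x) ψ = c • Φfun hE x ψ
    rw [Φfun_eq hE _ _ _ h _ hww, Φfun_eq hE _ _ _ h _ hw, map_smul]

lemma Φ_apply [Module.Finite R X] (x : AdicCompletion 𝔪 X) (ψ : X →ₗ[R] E) (n : ℕ)
    (hψ : (𝔪 ^ n • ⊤ : Submodule R X) ≤ LinearMap.ker ψ) (z : X)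
    (hz : Submodule.mkQ _ z = x.val n) : Φ hE x ψ = ψ z :=
  Φfun_eq hE x ψ n hψ z hz

lemma Φ_of [Module.Finite R X] (z : X) (ψ : X →ₗ[R] E) :
    Φ hE (AdicCompletion.of 𝔪 X z) ψ = ψ z := by
  obtain ⟨n, h⟩ := exists_pow_le_ker hE ψ
  exact Φ_apply hE _ ψ n h z (AdicCompletion.of_apply 𝔪 X z n).symm


variable {f : ResidueField R →ₗ[R] E} (hf : InjHull.IsInjectiveHull f)

include hf in
lemma hpt : LocCoh.IsPowerTorsion (maximalIdeal R) E :=
  Groth.Agent.S5155.isPowerTorsion_of_hull hf.toIsEssentialInj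

omit hE in
include hf in
lemma Φ_injective [Module.Finite R X] :
    Function.Injective (Φ (hpt hf) : AdicCompletion 𝔪 X →ₗ[R] ((X →ₗ[R] E) →ₗ[R] E)) := by
  rw [← LinearMap.ker_eq_bot, LinearMap.ker_eq_bot']
  intro x hx
  apply AdicCompletion.ext
  intro n
  rw [AdicCompletion.val_zero_apply]
  apply Groth.Agent.S6035.eval_injective (Groth.Agent.S6035.socGen_of_hull f hf)
    (X ⧸ (𝔪 ^ n • ⊤ : Submodule R X))
  rw [map_zero]
  ext φ
  rw [LinearMap.applyₗ_apply_apply, LinearMap.zero_apply]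
  obtain ⟨w, hw⟩ := Submodule.mkQ_surjective _ (x.val n)
  have hk : (𝔪 ^ n • ⊤ : Submodule R X) ≤ LinearMap.ker (φ ∘ₗ Submodule.mkQ _) := by
    intro y hy
    rw [LinearMap.mem_ker, LinearMap.comp_apply, Submodule.mkQ_apply,
      (Submodule.Quotient.mk_eq_zero _).2 hy, map_zero]
  have := Φ_apply (hpt hf) x _ n hk w hw
  rw [hx, LinearMap.zero_apply, LinearMap.comp_apply, hw] at this
  exact this.symm

omit hE in
include hf in
lemma Φ_surjective [Module.Finite R X] :
    Function.Surjective (Φ (hpt hf) : AdicCompletion 𝔪 X →ₗ[R] ((X →ₗ[R] E) →ₗ[R] E)) := by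
  intro α
  have hbij := fun n : ℕ => Groth.Agent.S6035.result R E f hf (X ⧸ (𝔪 ^ n • ⊤ : Submodule R X))
    (Groth.Agent.Lib.Helper28.isFiniteLength_quotient_maximalIdeal_pow_smul_top n X)
  choose y hy using fun n : ℕ => (hbij n).2 (α ∘ₗ LinearMap.lcomp R E (Submodule.mkQ _))
  have compat : ∀ {m n : ℕ} (hmn : m ≤ n),
      AdicCompletion.transitionMap 𝔪 X hmn (y n) = y m := by
    intro m n hmn
    apply (hbij m).1
    rw [hy m]
    ext φ
    have := LinearMap.congr_fun (hy n) (φ ∘ₗ AdicCompletion.transitionMap 𝔪 X hmn)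
    rw [LinearMap.applyₗ_apply_apply, LinearMap.comp_apply] at this
    rw [LinearMap.applyₗ_apply_apply, this, LinearMap.comp_apply, LinearMap.comp_apply]
    congr 1
  let x : AdicCompletion 𝔪 X := ⟨y, compat⟩
  refine ⟨x, ?_⟩
  ext ψ
  obtain ⟨n, h⟩ := exists_pow_le_ker (hpt hf) ψ
  obtain ⟨w, hw⟩ := Submodule.mkQ_surjective _ (y n)
  rw [Φ_apply (hpt hf) x ψ n h w hw]
  have := LinearMap.congr_fun (hy n) (Submodule.liftQ _ ψ h)
  rw [LinearMap.applyₗ_apply_apply, ← hw, Submodule.mkQ_apply, Submodule.liftQ_apply,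
    LinearMap.comp_apply, LinearMap.lcomp_apply', Submodule.liftQ_mkQ] at this
  exact this

omit hE in
include hf in
/-- **Matlis double dual of a finite module is its completion.** -/
noncomputable def completionEquivDoubleDual [Module.Finite R X] :
    AdicCompletion 𝔪 X ≃ₗ[R] ((X →ₗ[R] E) →ₗ[R] E) :=
  LinearEquiv.ofBijective (Φ (hpt hf)) ⟨Φ_injective hf, Φ_surjective hf⟩

end Groth.Agent.Lib.T2H4.DD
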