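import Mathlib
import Groth.Agent.S0315
import Groth.Agent.S11617
import Groth.Agent.Lib.T2H4CofTop1
import Groth.Agent.Lib.T2H4ComplCanon
import Groth.Agent.Lib.Helper5FBC
import Groth.Agent.Lib.Helper28ComplAss
import Groth.Agent.Lib.Helper19Jacobson
set_option autoImplicit false
set_option linter.style.haveILetI false
universe u
open CategoryTheory IsLocalRing TensorProduct

namespace Groth.Agent.Lib.T2H4.CofTop

section P2c
variable (R : Type u) [CommRing R] [IsNoetherianRing R] [IsLocalRing R]

/-- for a module all of whose elements are killed by powers of the maximal ideal, base change to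
the completion does nothing. -/
lemma mk_bijective_of_isPowerTorsion (T : Type u) [AddCommGroup T] [Module R T]
    (hpt : LocCoh.IsPowerTorsion (maximalIdeal R) T) :
    Function.Bijective (TensorProduct.mk R (AdicCompletion (maximalIdeal R) R) T 1) := by
  haveI : Module.FaithfullyFlat R (AdicCompletion (maximalIdeal R) R) :=
    Groth.Agent.Lib.Helper19.faithfullyFlat_adicCompletion_of_le_jacobson R (maximalIdeal R)
      (IsLocalRing.maximalIdeal_le_jacobson ⊥)
  refine ⟨Module.FaithfullyFlat.tensorProduct_mk_injective T, ?_⟩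
  intro x
  induction x using TensorProduct.induction_on with
  | zero => exact ⟨0, map_zero _⟩
  | tmul s t =>
    obtain ⟨k, hk⟩ := hpt t
    obtain ⟨z, hz⟩ := Groth.Agent.Lib.T2H4.ComplCanon.exists_sub_mem R k s
    have h0 : (algebraMap R (AdicCompletion (maximalIdeal R) R) z - s) ⊗ₜ[R] t = 0 := by
      refine Submodule.smul_induction_on hz ?_ ?_
      · intro a ha s' _
        rw [TensorProduct.smul_tmul, hk a ha, TensorProduct.tmul_zero]
      · intro x y hx hy
        rw [TensorProduct.add_tmul, hx, hy, add_zero]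
    rw [TensorProduct.sub_tmul, sub_eq_zero] at h0
    refine ⟨z • t, ?_⟩
    rw [TensorProduct.mk_apply, ← h0, Algebra.algebraMap_eq_smul_one, TensorProduct.smul_tmul]
  | add x y hx hy =>
    obtain ⟨a, ha⟩ := hx
    obtain ⟨b, hb⟩ := hy
    exact ⟨a + b, by rw [map_add, ha, hb]⟩

/-- a power of the maximal ideal acts on the top local cohomology module `H^n_I(M)` through
`I • End(H^n_I(M))`. -/
theorem exists_pow_smul_one_mem_H (I : Ideal R) (M : Type u) [AddCommGroup M] [Module R M]
    [Module.Finite R M] (n : ℕ) (hn : Module.supportDim R M = ((n : ℕ) : WithBot ℕ∞)) :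
    ∃ K : ℕ, ∀ r ∈ maximalIdeal R ^ K,
      (r • (1 : Module.End R (LocCoh.H I n M))) ∈
        I • (⊤ : Submodule R (Module.End R (LocCoh.H I n M))) := by
  haveI hloc := Groth.Agent.Lib.Helper28.isLocalHom_algebraMap_adicCompletion R
  have hmax : maximalIdeal (AdicCompletion (maximalIdeal R) R) =
      (maximalIdeal R).map (algebraMap R (AdicCompletion (maximalIdeal R) R)) :=
    AdicCompletion.maximalIdeal_eq_map
  have hfib : ringKrullDim (EGA4.FibRing R (AdicCompletion (maximalIdeal R) R)) = 0 := by
    show ringKrullDim (AdicCompletion (maximalIdeal R) R ⧸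
      (maximalIdeal R).map (algebraMap R (AdicCompletion (maximalIdeal R) R))) = 0
    rw [← hmax]
    exact ringKrullDim_eq_zero_of_isField
      ((Ideal.Quotient.maximal_ideal_iff_isField_quotient _).mp inferInstance)
  have hn' : Module.supportDim (AdicCompletion (maximalIdeal R) R)
      ((AdicCompletion (maximalIdeal R) R) ⊗[R] M) = ((n : ℕ) : WithBot ℕ∞) := by
    rw [Groth.Agent.Lib.Helper5.FBC.supportDim_tensor_of_flat M, hn, hfib, add_zero]
  have hrad := le_radical_sup_annihilator
    (I.map (algebraMap R (AdicCompletion (maximalIdeal R) R)))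
    ((AdicCompletion (maximalIdeal R) R) ⊗[R] M) n hn'
  letI : Module R (LocCoh.H (I.map (algebraMap R (AdicCompletion (maximalIdeal R) R))) n
      ((AdicCompletion (maximalIdeal R) R) ⊗[R] M)) :=
    Module.compHom _ (algebraMap R (AdicCompletion (maximalIdeal R) R))
  haveI : IsScalarTower R (AdicCompletion (maximalIdeal R) R)
      (LocCoh.H (I.map (algebraMap R (AdicCompletion (maximalIdeal R) R))) n
        ((AdicCompletion (maximalIdeal R) R) ⊗[R] M)) :=
    IsScalarTower.of_algebraMap_smul fun _ _ => rfl
  obtain ⟨K, hK⟩ := exists_pow_smul_one_mem hmax I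
    (LocCoh.H (I.map (algebraMap R (AdicCompletion (maximalIdeal R) R))) n
      ((AdicCompletion (maximalIdeal R) R) ⊗[R] M)) hrad
  haveI : Nontrivial M := by
    by_contra hnt
    rw [not_nontrivial_iff_subsingleton] at hnt
    rw [Module.supportDim_eq_bot_of_subsingleton] at hn
    exact WithBot.bot_ne_coe hn
  have hArt : IsArtinian R (LocCoh.H I n M) := Groth.Agent.S3262.result R I M n hn
  have hpt : LocCoh.IsPowerTorsion (maximalIdeal R) (LocCoh.H I n M) :=
    ((Groth.Agent.S0315.result R _).mp hArt).1
  have hbij := mk_bijective_of_isPowerTorsion R (LocCoh.H I n M) hpt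
  obtain ⟨e4⟩ := Groth.Agent.S11617.result R (AdicCompletion (maximalIdeal R) R) I M n
  let θ : LocCoh.H I n M ≃ₗ[R]
      LocCoh.H (I.map (algebraMap R (AdicCompletion (maximalIdeal R) R))) n
        ((AdicCompletion (maximalIdeal R) R) ⊗[R] M) :=
    (LinearEquiv.ofBijective _ hbij) ≪≫ₗ (e4.restrictScalars R)
  refine ⟨K, fun r hr => ?_⟩
  have h1 := hK r hr
  have h2 : θ.symm.conj (r • 1) ∈ Submodule.map θ.symm.conj.toLinearMap
      (I • (⊤ : Submodule R (Module.End R (LocCoh.H (I.map (algebraMap R
        (AdicCompletion (maximalIdeal R) R))) n ((AdicCompletion (maximalIdeal R) R) ⊗[R] M))))) :=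
    Submodule.mem_map_of_mem h1
  rw [Submodule.map_smul''] at h2
  have h3 : θ.symm.conj (r • (1 : Module.End R (LocCoh.H (I.map (algebraMap R
        (AdicCompletion (maximalIdeal R) R))) n ((AdicCompletion (maximalIdeal R) R) ⊗[R] M)))) =
      r • 1 := by
    rw [map_smul, Module.End.one_eq_id, LinearEquiv.conj_id, Module.End.one_eq_id]
  rw [h3] at h2
  exact (smul_mono_right I le_top : I • Submodule.map θ.symm.conj.toLinearMap ⊤ ≤ I • ⊤) h2

end P2c
end Groth.Agent.Lib.T2H4.CofTop
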