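import Mathlib
import Groth.Agent.S0484
import Groth.Agent.Lib.T2H4FinGlobGen
set_option backward.isDefEq.respectTransparency.types false

/-!
# T2H4ColimStage: sections of a filtered colimit of modules locally come from a stage; an epimorphism from a filtered
colimit of quasi-coherent modules onto a finite type quasi-coherent module on a quasi-compact scheme is already an
epimorphism at a stage (helper4)

Namespace `Groth.Agent.Lib.T2H4.ColimStage`.
-/

set_option autoImplicit false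
set_option linter.style.haveILetI false
set_option linter.unusedSectionVars false
universe u
open CategoryTheory CategoryTheory.Limits AlgebraicGeometry TopologicalSpace Opposite TopCat

namespace Groth.Agent.Lib.T2H4.ColimStage

open Groth.Agent.Lib.Helper2.Push Groth.Agent.Lib.Helper6

variable {X : Scheme.{u}}

/-- sections of a filtered colimit of modules locally come from a stage -/
theorem exists_stage {J : Type u} [SmallCategory J] [IsFiltered J] (D : J ⥤ X.Modules) (c : Cocone D)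
    (hc : IsColimit c) (V : X.Opens) (t : Γ(c.pt, V)) (x : X) (hx : x ∈ V) :
    ∃ (W : X.Opens) (hW : W ≤ V) (_ : x ∈ W) (j : J) (t' : Γ(D.obj j, W)),
      (c.ι.app j).app W t' = c.pt.presheaf.map (homOfLE hW).op t := by
  classical
  let T : X.Modules ⥤ Sheaf (Opens.grothendieckTopology X) AddCommGrpCat.{u} :=
    SheafOfModules.toSheaf X.ringCatSheaf
  haveI : PreservesColimitsOfShape J T :=
    Groth.Agent.S0484.preservesColimitsOfShape_toSheaf (Opens.grothendieckTopology X) X.ringCatSheaf J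
  let St : Sheaf (Opens.grothendieckTopology X) AddCommGrpCat.{u} ⥤ AddCommGrpCat.{u} :=
    Sheaf.forget _ _ ⋙ TopCat.Presheaf.stalkFunctor AddCommGrpCat.{u} x
  haveI : St.IsLeftAdjoint := (stalkSkyscraperSheafAdjunction x).isLeftAdjoint
  have hc2 : IsColimit (St.mapCocone (T.mapCocone c)) := isColimitOfPreserves St (isColimitOfPreserves T hc)
  obtain ⟨j, y, hy⟩ := Concrete.isColimit_exists_rep ((D ⋙ T) ⋙ St) hc2 (c.pt.presheaf.germ V x hx t)
  obtain ⟨W', hxW', t', rfl⟩ := TopCat.Presheaf.exists_germ_eq (D.obj j).presheaf (x := x) y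
  have hy2 : c.pt.presheaf.germ W' x hxW' ((c.ι.app j).app W' t') = c.pt.presheaf.germ V x hx t := by
    rw [← hy]
    exact (TopCat.Presheaf.stalkFunctor_map_germ_apply W' x hxW' (c.ι.app j).mapPresheaf t').symm
  obtain ⟨W, hxW, iW', iV, h⟩ := TopCat.Presheaf.germ_eq c.pt.presheaf x hxW' hx _ _ hy2
  refine ⟨W, iV.le, hxW, j, (D.obj j).presheaf.map iW'.op t', ?_⟩
  have hnat := congrArg (fun f => f t') ((c.ι.app j).mapPresheaf.naturality iW'.op)
  exact hnat.trans h

/-- naturality of a morphism of modules with respect to restriction of sections -/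
theorem app_res {A B : X.Modules} (m : A ⟶ B) {W W' : X.Opens} (h : W' ≤ W) (s : Γ(A, W)) :
    m.app W' (res A h s) = res B h (m.app W s) := by
  have := m.mapPresheaf.naturality (homOfLE h).op
  exact congrArg (fun φ => φ s) this

theorem res_add'' (N : X.Modules) {W W' : X.Opens} (h : W' ≤ W) (s t : Γ(N, W)) :
    res N h (s + t) = res N h s + res N h t := map_add _ _ _

theorem res_zero'' (N : X.Modules) {W W' : X.Opens} (h : W' ≤ W) :
    res N h (0 : Γ(N, W)) = 0 := map_zero _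

/-- `p` is locally surjective over `B` -/
def LocSurjOn {A N : X.Modules} (p : A ⟶ N) (B : X.Opens) : Prop :=
  ∀ (V : X.Opens) (_ : V ≤ B) (m : Γ(N, V)) (y : X), y ∈ V →
    ∃ (V' : X.Opens) (hV' : V' ≤ V), y ∈ V' ∧ ∃ a : Γ(A, V'), p.app V' a = res N hV' m

/-- if the restrictions to `B ≤ U` of generators of the sections over an affine open `U` of a quasi-coherent module
are in the image, then the map is locally surjective over `B` -/
theorem locSurjOn_of_gens {A N : X.Modules} [N.IsQuasicoherent] (p : A ⟶ N) {U : X.Opens} (hU : IsAffineOpen U)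
    {b : ℕ} (v : Fin b → Γ(N, U)) (hv : Submodule.span Γ(X, U) (Set.range v) = ⊤)
    (B : X.Opens) (hB : B ≤ U) (a : Fin b → Γ(A, B)) (ha : ∀ l, p.app B (a l) = res N hB (v l)) :
    LocSurjOn p B := by
  intro V hV m y hy
  have hloc : IsLocOn N U := IsLocOn.of_isQuasicoherent hU N
  obtain ⟨g, hgV, hyg⟩ := hU.exists_basicOpen_le (V := V) ⟨y, hy⟩ (hB (hV hy))
  obtain ⟨k, t₀, ht₀⟩ := hloc.exists_extension g (res N hgV m)
  refine ⟨X.basicOpen g, hgV, hyg, ?_⟩
  have hunit : IsUnit (resf (X.basicOpen_le g) g) := RingedSpace.isUnit_res_basicOpen _ g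
  obtain ⟨w, hw⟩ := hunit.pow k
  have h2 : res N hgV m = (↑w⁻¹ : Γ(X, X.basicOpen g)) • res N (X.basicOpen_le g) t₀ := by
    change res N (X.basicOpen_le g) t₀ = resf (X.basicOpen_le g) g ^ k • res N hgV m at ht₀
    rw [ht₀, ← hw, ← mul_smul, Units.inv_mul, one_smul]
  rw [h2]
  have h3 : ∀ t : Γ(N, U), t ∈ Submodule.span Γ(X, U) (Set.range v) →
      ∃ a' : Γ(A, X.basicOpen g), p.app _ a' = res N (X.basicOpen_le g) t := by
    intro t ht
    induction ht using Submodule.span_induction with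
    | mem z hz =>
      obtain ⟨l, rfl⟩ := hz
      refine ⟨res A (hgV.trans hV) (a l), ?_⟩
      rw [app_res, ha l, res_res]
    | zero => exact ⟨0, by rw [map_zero, res_zero'']⟩
    | add z z' _ _ hz hz' =>
      obtain ⟨a₁, ha₁⟩ := hz
      obtain ⟨a₂, ha₂⟩ := hz'
      exact ⟨a₁ + a₂, by rw [map_add, ha₁, ha₂, res_add'']⟩
    | smul r z _ hz =>
      obtain ⟨a₁, ha₁⟩ := hz
      exact ⟨resf (X.basicOpen_le g) r • a₁, by rw [Scheme.Modules.Hom.app_smul, ha₁, res_smul]⟩
  obtain ⟨a', ha'⟩ := h3 t₀ (by rw [hv]; exact Submodule.mem_top)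
  exact ⟨(↑w⁻¹ : Γ(X, X.basicOpen g)) • a', by rw [Scheme.Modules.Hom.app_smul, ha']⟩

/-- a map locally surjective over the members of a cover is an epimorphism -/
theorem epi_of_locSurjOn {A N : X.Modules} (p : A ⟶ N)
    (h : ∀ x : X, ∃ B : X.Opens, x ∈ B ∧ LocSurjOn p B) : Epi p := by
  apply Groth.Agent.Lib.Helper23.Serre.epi_of_locally_surjective
  intro V s x hxV
  obtain ⟨B, hxB, hB⟩ := h x
  obtain ⟨V', hV', hxV', a, ha⟩ := hB (V ⊓ B) inf_le_right (res N inf_le_left s) x ⟨hxV, hxB⟩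
  refine ⟨V', hV'.trans inf_le_left, hxV', a, ?_⟩
  rw [ha, res_res]

section main

variable {J : Type u} [SmallCategory J] [IsFiltered J] (D : J ⥤ X.Modules) [∀ j, (D.obj j).IsQuasicoherent]
  (c : Cocone D) (hc : IsColimit c) [c.pt.IsQuasicoherent]
  (F : X.Modules) [F.IsQuasicoherent] [SheafOfModules.IsFiniteType (R := X.ringCatSheaf) F] (u : c.pt ⟶ F)

include hc in
/-- near every point, all late stages are locally surjective -/
theorem exists_stage_locSurjOn [Epi u] (x : X) :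
    ∃ (B : X.Opens) (j₀ : J), x ∈ B ∧ ∀ j : J, Nonempty (j₀ ⟶ j) → LocSurjOn (c.ι.app j ≫ u) B := by
  classical
  obtain ⟨_, ⟨U, hU, rfl⟩, hxU, -⟩ :=
    X.isBasis_affineOpens.exists_subset_of_mem_open (Set.mem_univ x) isOpen_univ
  have hU' : IsAffineOpen U := hU
  have hfin : Module.Finite Γ(X, U) Γ(F, U) :=
    Groth.Agent.Lib.Helper23.FinType.finite_of_isFiniteType F hU'
  obtain ⟨b, v, hv⟩ := Module.Finite.exists_fin (R := Γ(X, U)) (M := Γ(F, U))
  have hsurj := Groth.Agent.Lib.Helper23.FinType.surjective_app_of_epi u hU'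
  choose t ht using fun l : Fin b => hsurj (v l)
  have h1 : ∀ l : Fin b, ∃ (W : X.Opens) (hW : W ≤ U) (_ : x ∈ W) (j : J) (t' : Γ(D.obj j, W)),
      (c.ι.app j).app W t' = res c.pt hW (t l) := fun l => exists_stage D c hc U (t l) x hxU
  choose W hW hxW jl t' ht' using h1
  let B : X.Opens := ⟨⋂ l, (W l : Set X), isOpen_iInter_of_finite (fun l => (W l).2)⟩
  have hxB : x ∈ B := Set.mem_iInter.2 (fun l => hxW l)
  have hBl : ∀ l, B ≤ W l := fun l y hy => Set.mem_iInter.1 hy l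
  obtain ⟨j₀, hj₀⟩ := IsFiltered.sup_objs_exists (Finset.univ.image jl)
  have hj₀' : ∀ l, Nonempty (jl l ⟶ j₀) := fun l =>
    hj₀ (Finset.mem_image_of_mem jl (Finset.mem_univ l))
  refine ⟨B ⊓ U, j₀, ⟨hxB, hxU⟩, ?_⟩
  intro j ⟨f⟩
  have hBU : B ⊓ U ≤ U := inf_le_right
  refine locSurjOn_of_gens (c.ι.app j ≫ u) hU' v hv (B ⊓ U) hBU
    (fun l => (D.map ((hj₀' l).some ≫ f)).app (B ⊓ U) (res (D.obj (jl l)) (inf_le_left.trans (hBl l)) (t' l))) ?_
  intro l
  have e1 : D.map ((hj₀' l).some ≫ f) ≫ c.ι.app j = c.ι.app (jl l) := c.w _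
  have e2 : (c.ι.app j ≫ u).app (B ⊓ U)
      ((D.map ((hj₀' l).some ≫ f)).app (B ⊓ U) (res (D.obj (jl l)) (inf_le_left.trans (hBl l)) (t' l))) =
      (D.map ((hj₀' l).some ≫ f) ≫ c.ι.app j ≫ u).app (B ⊓ U)
        (res (D.obj (jl l)) (inf_le_left.trans (hBl l)) (t' l)) := rfl
  rw [e2, ← Category.assoc, e1]
  change u.app (B ⊓ U) ((c.ι.app (jl l)).app (B ⊓ U) (res (D.obj (jl l)) (inf_le_left.trans (hBl l)) (t' l))) = _
  have e3 : (c.ι.app (jl l)).app (B ⊓ U) (res (D.obj (jl l)) (inf_le_left.trans (hBl l)) (t' l)) =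
      res c.pt hBU (t l) := by
    have h4 := app_res (c.ι.app (jl l)) (inf_le_left.trans (hBl l) : B ⊓ U ≤ W l) (t' l)
    rw [ht' l] at h4
    exact h4.trans (res_res (F := c.pt) (hW l) (inf_le_left.trans (hBl l)) (t l))
  rw [e3, app_res, ht l]

include hc in
/-- **Epimorphisms onto finite type modules are detected at a stage.** -/
theorem exists_stage_epi [CompactSpace X] [Epi u] :
    ∃ j₀ : J, ∀ j : J, Nonempty (j₀ ⟶ j) → Epi (c.ι.app j ≫ u) := by
  classical
  choose B jx hxB hB using exists_stage_locSurjOn D c hc F u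
  obtain ⟨S, hS⟩ : ∃ S : Finset X, (Set.univ : Set X) ⊆ ⋃ x ∈ S, (B x : Set X) :=
    isCompact_univ.elim_finite_subcover (fun x => (B x : Set X)) (fun x => (B x).2)
      (fun x _ => Set.mem_iUnion.2 ⟨x, hxB x⟩)
  obtain ⟨j₀, hj₀⟩ := IsFiltered.sup_objs_exists (S.image jx)
  refine ⟨j₀, fun j ⟨f⟩ => epi_of_locSurjOn _ fun x => ?_⟩
  obtain ⟨x₀, hx₀⟩ := Set.mem_iUnion.1 (hS (Set.mem_univ x))
  obtain ⟨hx₀S, hxx₀⟩ := Set.mem_iUnion.1 hx₀
  obtain ⟨f₀⟩ := hj₀ (Finset.mem_image_of_mem jx hx₀S)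
  exact ⟨B x₀, hxx₀, hB x₀ j ⟨f₀ ≫ f⟩⟩

end main

end Groth.Agent.Lib.T2H4.ColimStage
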