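import Mathlib

/-!
# Conductor of value sets of modules over a closed subalgebra of `k⟦X⟧`

Main result `Groth.Agent.Lib.T2H4.Conductor.X_pow_mul_mem`: if `A ⊆ k⟦X⟧` is a closed
subalgebra over which `k⟦X⟧` is finite, and `N` is an `A`-submodule containing elements of
every order `≥ c`, then `X ^ c * g ∈ N` for all `g`.  Proof: Nakayama.
-/

set_option autoImplicit false
universe u

namespace Groth.Agent.Lib.T2H4.Conductor

open PowerSeries

variable {k : Type u} [Field k]

/-- `k⟦X⟧` is not a finite `k`-module. -/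
theorem not_finite : ¬ Module.Finite k (PowerSeries k) := by
  intro h
  have hf : IsField (PowerSeries k) :=
    isField_of_isIntegral_of_isField' (R := k) (Field.toIsField k)
  obtain ⟨y, hy⟩ := hf.mul_inv_cancel (X_ne_zero (R := k))
  have := congrArg (constantCoeff (R := k)) hy
  simp at this

variable (A : Subalgebra k (PowerSeries k))

/-- A closed subalgebra contains inverses of `1 + a*y` for `a` of positive order. -/
theorem mem_jacobson
    (hcl : ∀ f : PowerSeries k, (∀ n : ℕ, ∃ g ∈ A, (n : ℕ∞) ≤ PowerSeries.order (f - g)) → f ∈ A)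
    (a : A) (ha : constantCoeff (a : PowerSeries k) = 0) :
    a ∈ Ideal.jacobson (⊥ : Ideal A) := by
  rw [Ideal.mem_jacobson_bot]
  intro y
  set x : PowerSeries k := -((a : PowerSeries k) * (y : PowerSeries k)) with hx
  have hx0 : constantCoeff x = 0 := by simp [hx, ha]
  have hunit : IsUnit (1 - x) := by
    rw [isUnit_iff_constantCoeff]; simp [hx0]
  obtain ⟨u, hu⟩ := hunit.exists_right_inv
  have huA : u ∈ A := by
    apply hcl
    intro n
    refine ⟨∑ i ∈ Finset.range n, x ^ i, ?_, ?_⟩
    · apply Subalgebra.sum_mem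
      intro i _
      apply Subalgebra.pow_mem
      rw [hx]
      exact A.neg_mem (A.mul_mem a.2 y.2)
    · have h1 : u - ∑ i ∈ Finset.range n, x ^ i = x ^ n * u := by
        have h2 : (∑ i ∈ Finset.range n, x ^ i) * (1 - x) = 1 - x ^ n := by
          have := geom_sum_mul_neg x n
          exact this
        calc u - ∑ i ∈ Finset.range n, x ^ i
            = u - (∑ i ∈ Finset.range n, x ^ i) * ((1 - x) * u) := by rw [hu, mul_one]
          _ = u - ((∑ i ∈ Finset.range n, x ^ i) * (1 - x)) * u := by rw [mul_assoc]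
          _ = x ^ n * u := by rw [h2]; ring
      rw [h1, order_mul]
      refine le_trans ?_ (le_add_right (le_refl _))
      have := le_order_pow_of_constantCoeff_eq_zero n hx0
      exact this
  refine isUnit_iff_exists_inv.2 ⟨⟨u, huA⟩, ?_⟩
  apply Subtype.ext
  have : ((a : PowerSeries k) * (y : PowerSeries k) + 1) * u = 1 := by
    have h5 : ((a : PowerSeries k) * (y : PowerSeries k) + 1) * u = (1 - x) * u := by
      rw [hx]; ring
    rw [h5, hu]
  simpa using this

/-- There is a nonzero element of `A` of positive order. -/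
theorem exists_pos_order (hA : Module.Finite ↥A (PowerSeries k)) :
    ∃ a : A, (a : PowerSeries k) ≠ 0 ∧ constantCoeff (a : PowerSeries k) = 0 := by
  by_contra hne
  push Not at hne
  have hbot : A = ⊥ := by
    rw [eq_bot_iff]
    intro f hf
    have h1 : f - C (constantCoeff f) ∈ A :=
      A.sub_mem hf (by
        have := A.algebraMap_mem (constantCoeff f)
        rwa [PowerSeries.algebraMap_eq] at this)
    have h2 := hne ⟨_, h1⟩
    have h3 : f - C (constantCoeff f) = 0 := by
      by_contra h4
      exact h2 h4 (by simp)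
    rw [Algebra.mem_bot]
    exact ⟨constantCoeff f, by rw [PowerSeries.algebraMap_eq]; exact (sub_eq_zero.1 h3).symm⟩
  subst hbot
  exact not_finite (k := k) (Module.Finite.trans (⊥ : Subalgebra k (PowerSeries k)) (PowerSeries k))

/-- Approximation: for every `j`, `X^c * g ∈ N + X^(c+j) k⟦X⟧`. -/
theorem approx (N : Submodule ↥A (PowerSeries k)) (c : ℕ)
    (hN : ∀ n, c ≤ n → ∃ f ∈ N, PowerSeries.order f = n) (j : ℕ) (g : PowerSeries k) :
    ∃ ν ∈ N, ∃ g' : PowerSeries k, X ^ c * g = ν + X ^ (c + j) * g' := by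
  induction j with
  | zero => exact ⟨0, N.zero_mem, g, by simp⟩
  | succ j ih =>
    obtain ⟨ν, hν, g', hg'⟩ := ih
    obtain ⟨f, hf, hfo⟩ := hN (c + j) (Nat.le_add_right _ _)
    have hf0 : f ≠ 0 := by
      rintro rfl
      rw [order_zero] at hfo
      exact absurd hfo (by exact_mod_cast ENat.top_ne_natCast (c + j))
    have hfw : X ^ (c + j) * divXPowOrder f = f := by
      have := X_pow_order_mul_divXPowOrder (f := f)
      rwa [hfo, ENat.toNat_natCast] at this
    have hw0 : constantCoeff (divXPowOrder f) ≠ 0 := by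
      rwa [Ne, constantCoeff_divXPowOrder_eq_zero_iff]
    obtain ⟨w, hw⟩ : ∃ w, w = divXPowOrder f := ⟨_, rfl⟩
    rw [← hw] at hfw hw0
    obtain ⟨r, hr⟩ : ∃ r : k, r = constantCoeff g' / constantCoeff w := ⟨_, rfl⟩
    have hdiv : X ∣ g' - C r * w := by
      rw [X_dvd_iff, hr]
      simp [hw0]
    obtain ⟨g'', hg''⟩ := hdiv
    have hsm : ((algebraMap k A r) • f : PowerSeries k) = C r * f := by
      rw [Algebra.smul_def]
      rfl
    refine ⟨ν + (algebraMap k A r) • f, N.add_mem hν (N.smul_mem _ hf), g'', ?_⟩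
    have h3 : g' = C r * w + X * g'' := by rw [← hg'']; ring
    rw [hg', hsm, ← hfw, h3]
    ring

/-- **Conductor lemma.** If `N` contains elements of every order `≥ c`, then it contains
`X ^ c * k⟦X⟧`. -/
theorem X_pow_mul_mem (hA : Module.Finite ↥A (PowerSeries k))
    (hcl : ∀ f : PowerSeries k, (∀ n : ℕ, ∃ g ∈ A, (n : ℕ∞) ≤ PowerSeries.order (f - g)) → f ∈ A)
    (N : Submodule ↥A (PowerSeries k)) (c : ℕ)
    (hN : ∀ n, c ≤ n → ∃ f ∈ N, PowerSeries.order f = n) (g : PowerSeries k) :
    X ^ c * g ∈ N := by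
  obtain ⟨a, ha0, hac⟩ := exists_pos_order A hA
  have haJ := mem_jacobson A hcl a hac
  obtain ⟨e, he⟩ : ∃ e : ℕ, e = (order (a : PowerSeries k)).toNat := ⟨_, rfl⟩
  have hae : (X : PowerSeries k) ^ e * divXPowOrder (a : PowerSeries k) = (a : PowerSeries k) := by
    rw [he]; exact X_pow_order_mul_divXPowOrder (f := (a : PowerSeries k))
  have hv0 : constantCoeff (divXPowOrder (a : PowerSeries k)) ≠ 0 := by
    rwa [Ne, constantCoeff_divXPowOrder_eq_zero_iff]
  obtain ⟨v, hv⟩ : ∃ v, v = divXPowOrder (a : PowerSeries k) := ⟨_, rfl⟩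
  rw [← hv] at hae hv0
  have hvu : IsUnit v := by
    rw [isUnit_iff_constantCoeff]
    exact isUnit_iff_ne_zero.2 hv0
  obtain ⟨v', hv'⟩ := hvu.exists_right_inv
  let mulX : PowerSeries k →ₗ[A] PowerSeries k := LinearMap.mulLeft A (X ^ c)
  have hPfg : (Submodule.map mulX ⊤).FG := (Module.Finite.fg_top).map _
  have hle : Submodule.map mulX ⊤ ≤ N := by
    apply Submodule.le_of_le_smul_of_le_jacobson_bot (I := Ideal.span {a}) hPfg
    · rw [Ideal.span_le]
      intro z hz
      rw [Set.mem_singleton_iff] at hz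
      rw [hz]
      exact haJ
    · rintro _ ⟨g, -, rfl⟩
      obtain ⟨ν, hν, g', hg'⟩ := approx A N c hN e g
      have h1 : mulX g = ν + a • (mulX (v' * g')) := by
        change X ^ c * g = ν + a • (X ^ c * (v' * g'))
        rw [hg', Subalgebra.smul_def, ← hae]
        have : X ^ e * v * (X ^ c * (v' * g')) = X ^ (c + e) * ((v * v') * g') := by
          rw [pow_add]; ring
        rw [smul_eq_mul, this, hv', one_mul]
      rw [h1]
      exact Submodule.add_mem_sup hν
        (Submodule.smul_mem_smul (Ideal.mem_span_singleton_self a) ⟨v' * g', trivial, rfl⟩)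
  exact hle ⟨g, trivial, rfl⟩

end Groth.Agent.Lib.T2H4.Conductor
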