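import Groth.Agent.Lib.Helper11Genus
import Mathlib.Tactic

/-!
Contraction of a `(-1)`-index of a numerical type, along an arbitrary index `l`.
-/

namespace Groth.Agent.Lib.T2H4.Contract

open Finset Models Groth.Agent.Lib.Helper11

variable {n : ℕ} (T : Models.NumericalType (n + 1)) (l : Fin (n + 1))

/-- `v_i = a_{il} / w_l` -/
def vv (i : Fin n) : ℤ := T.a (l.succAbove i) l / T.w l

/-- `u_i = a_{il} / w_i` -/
def uu (i : Fin n) : ℤ := T.a (l.succAbove i) l / T.w (l.succAbove i)

theorem a_eq_vv (i : Fin n) : T.a (l.succAbove i) l = vv T l i * T.w l := by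
  rw [vv, Int.ediv_mul_cancel]
  rw [a_symm]
  exact T.w_dvd l _

theorem a_eq_uu (i : Fin n) : T.a (l.succAbove i) l = uu T l i * T.w (l.succAbove i) := by
  rw [uu, Int.ediv_mul_cancel]
  exact T.w_dvd _ _

theorem a_il_nonneg (i : Fin n) : 0 ≤ T.a (l.succAbove i) l :=
  T.offDiag_nonneg _ _ (Fin.succAbove_ne l i)

theorem vv_nonneg (i : Fin n) : 0 ≤ vv T l i :=
  Int.ediv_nonneg (a_il_nonneg T l i) (T.w_pos l).le

theorem uu_nonneg (i : Fin n) : 0 ≤ uu T l i :=
  Int.ediv_nonneg (a_il_nonneg T l i) (T.w_pos _).le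

/-- the new weights -/
def cw (i : Fin n) : ℤ :=
  if 2 ∣ T.a (l.succAbove i) l / T.w l ∧ ¬ 2 ∣ T.a (l.succAbove i) l / T.w (l.succAbove i)
  then T.w (l.succAbove i) / 2 else T.w (l.succAbove i)

/-- the ratio `w_i / w'_i` -/
def rr (i : Fin n) : ℤ :=
  if 2 ∣ T.a (l.succAbove i) l / T.w l ∧ ¬ 2 ∣ T.a (l.succAbove i) l / T.w (l.succAbove i)
  then 2 else 1

theorem two_dvd_w_of_halving (i : Fin n)
    (h : 2 ∣ vv T l i ∧ ¬ 2 ∣ uu T l i) : (2 : ℤ) ∣ T.w (l.succAbove i) := by
  have h1 : (2 : ℤ) ∣ uu T l i * T.w (l.succAbove i) := by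
    rw [← a_eq_uu, a_eq_vv]
    exact Dvd.dvd.mul_right h.1 _
  rcases Int.prime_two.dvd_or_dvd h1 with h2 | h2
  · exact absurd h2 h.2
  · exact h2

theorem cw_mul_rr (i : Fin n) : cw T l i * rr T l i = T.w (l.succAbove i) := by
  unfold cw rr
  split_ifs with h
  · exact Int.ediv_mul_cancel (two_dvd_w_of_halving T l i h)
  · ring

theorem rr_eq (i : Fin n) : rr T l i = 1 ∨ rr T l i = 2 := by
  unfold rr
  split_ifs
  · right; rfl
  · left; rfl

theorem cw_pos (i : Fin n) : 0 < cw T l i := by
  have h1 := cw_mul_rr T l i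
  have h2 := T.w_pos (l.succAbove i)
  rcases rr_eq T l i with h | h <;> rw [h] at h1 <;> omega

theorem w_div_cw (i : Fin n) : T.w (l.succAbove i) / cw T l i = rr T l i := by
  rw [← cw_mul_rr T l i]
  exact Int.mul_ediv_cancel_left _ (cw_pos T l i).ne'

theorem cw_dvd_w (i : Fin n) : cw T l i ∣ T.w (l.succAbove i) :=
  ⟨rr T l i, (cw_mul_rr T l i).symm⟩

/-- parity: `u r (v - 1)` is even -/
theorem exists_tt (i : Fin n) : ∃ t : ℤ, uu T l i * rr T l i * (vv T l i - 1) = 2 * t := by
  unfold rr
  split_ifs with h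
  · exact ⟨uu T l i * (vv T l i - 1), by ring⟩
  · have h' : ¬ (2 ∣ vv T l i ∧ ¬ 2 ∣ uu T l i) := h
    by_cases hv : (2 : ℤ) ∣ vv T l i
    · have hu : (2 : ℤ) ∣ uu T l i := by
        by_contra hu
        exact h' ⟨hv, hu⟩
      obtain ⟨c, hc⟩ := hu
      exact ⟨c * (vv T l i - 1), by rw [hc]; ring⟩
    · have : (2 : ℤ) ∣ vv T l i - 1 := by omega
      obtain ⟨c, hc⟩ := this
      exact ⟨uu T l i * c, by rw [hc]; ring⟩

/-- the `t` of the genus formula -/
noncomputable def tt (i : Fin n) : ℤ := (exists_tt T l i).choose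

theorem tt_spec (i : Fin n) : uu T l i * rr T l i * (vv T l i - 1) = 2 * tt T l i :=
  (exists_tt T l i).choose_spec

/-- the correction term of the new genera is `t` -/
theorem corr_eq (i : Fin n) :
    (T.a (l.succAbove i) l ^ 2 - T.w l * T.a (l.succAbove i) l) / (2 * cw T l i * T.w l) =
      tt T l i := by
  have hc := cw_pos T l i
  have hw := T.w_pos l
  have e : T.a (l.succAbove i) l ^ 2 - T.w l * T.a (l.succAbove i) l =
      (2 * cw T l i * T.w l) * tt T l i := by
    have h1 := a_eq_vv T l i
    have h2 := a_eq_uu T l i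
    have h3 := cw_mul_rr T l i
    have h4 := tt_spec T l i
    have : T.a (l.succAbove i) l ^ 2 - T.w l * T.a (l.succAbove i) l =
        T.a (l.succAbove i) l * (vv T l i - 1) * T.w l := by
      rw [pow_two]
      nth_rewrite 2 [h1]
      ring
    rw [this, h2, ← h3]
    have : uu T l i * (cw T l i * rr T l i) * (vv T l i - 1) * T.w l =
        cw T l i * T.w l * (uu T l i * rr T l i * (vv T l i - 1)) := by ring
    rw [this, h4]; ring
  rw [e]
  exact Int.mul_ediv_cancel_left _ (by positivity)

theorem tt_nonneg_of_pos (i : Fin n) (h : 0 < T.a (l.succAbove i) l) : 0 ≤ tt T l i := by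
  have h1 := a_eq_vv T l i
  have h2 := a_eq_uu T l i
  have hv : 1 ≤ vv T l i := by
    have := vv_nonneg T l i
    by_contra hcon
    have : vv T l i = 0 := by omega
    rw [this, zero_mul] at h1
    omega
  have hu := uu_nonneg T l i
  have hr : 0 ≤ rr T l i := by rcases rr_eq T l i with h | h <;> rw [h] <;> norm_num
  have h4 := tt_spec T l i
  have : 0 ≤ uu T l i * rr T l i * (vv T l i - 1) :=
    mul_nonneg (mul_nonneg hu hr) (by omega)
  omega

/-- the new genera -/
noncomputable def cg (i : Fin n) : ℤ :=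
  rr T l i * (T.g (l.succAbove i) - 1) + 1 + tt T l i

theorem cg_nonneg (i : Fin n) : 0 ≤ cg T l i := by
  have hg := T.g_nonneg (l.succAbove i)
  have h1 := a_eq_vv T l i
  have h2 := a_eq_uu T l i
  have h4 := tt_spec T l i
  rcases (a_il_nonneg T l i).lt_or_eq with hA | hA
  · have ht := tt_nonneg_of_pos T l i hA
    unfold cg
    have hr : rr T l i = 1 ∨ rr T l i = 2 := rr_eq T l i
    rcases hr with hr | hr
    · rw [hr]; omega
    · -- halving case
      have hcond : 2 ∣ vv T l i ∧ ¬ 2 ∣ uu T l i := by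
        unfold rr at hr
        split_ifs at hr with h
        · exact h
        · omega
      have hv : 2 ≤ vv T l i := by
        have h0 := vv_nonneg T l i
        obtain ⟨c, hc⟩ := hcond.1
        by_contra hcon
        have : vv T l i = 0 := by omega
        rw [this, zero_mul] at h1
        omega
      have hu : 1 ≤ uu T l i := by
        have h0 := uu_nonneg T l i
        by_contra hcon
        have : uu T l i = 0 := by omega
        exact hcond.2 (by rw [this]; exact dvd_zero _)
      rw [hr] at h4 ⊢
      have : 1 ≤ tt T l i := by nlinarith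
      omega
  · -- a_il = 0
    have hv : vv T l i = 0 := by
      rw [← hA] at h1
      rcases mul_eq_zero.mp h1.symm with h | h
      · exact h
      · exact absurd h (T.w_pos l).ne'
    have hu : uu T l i = 0 := by
      rw [← hA] at h2
      rcases mul_eq_zero.mp h2.symm with h | h
      · exact h
      · exact absurd h (T.w_pos _).ne'
    have hr : rr T l i = 1 := by
      unfold rr
      rw [if_neg]
      intro h
      apply h.2
      show (2 : ℤ) ∣ uu T l i
      rw [hu]; exact dvd_zero _
    have ht : tt T l i = 0 := by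
      rw [hu] at h4
      omega
    unfold cg
    rw [hr, ht]; omega

/-- the new intersection numbers -/
def ca (i j : Fin n) : ℤ :=
  T.a (l.succAbove i) (l.succAbove j) -
    T.a (l.succAbove i) l * T.a (l.succAbove j) l / T.a l l

variable {T l}

theorem ca_eq (hl : T.IsMinusOne l) (i j : Fin n) :
    ca T l i j = T.a (l.succAbove i) (l.succAbove j) + T.a (l.succAbove i) l * vv T l j := by
  unfold ca
  rw [hl.2, Int.ediv_neg, a_eq_vv T l j, ← mul_assoc,
    Int.mul_ediv_cancel _ (T.w_pos l).ne']
  ring

theorem ca_symm (hl : T.IsMinusOne l) (i j : Fin n) : ca T l i j = ca T l j i := by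
  rw [ca_eq hl, ca_eq hl, a_symm T (l.succAbove i) (l.succAbove j)]
  have h1 := a_eq_vv T l i
  have h2 := a_eq_vv T l j
  rw [h1, h2]; ring

theorem ca_ge (hl : T.IsMinusOne l) (i j : Fin n) :
    T.a (l.succAbove i) (l.succAbove j) ≤ ca T l i j := by
  rw [ca_eq hl]
  have := mul_nonneg (a_il_nonneg T l i) (vv_nonneg T l j)
  linarith

theorem sum_succAbove_a_m (i : Fin (n + 1)) :
    ∑ j, T.a i (l.succAbove j) * T.m (l.succAbove j) = - (T.a i l * T.m l) := by
  have h := row_sum T i
  rw [Fin.sum_univ_succAbove _ l] at h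
  linarith

theorem ca_row (hl : T.IsMinusOne l) (i : Fin n) :
    ∑ j, ca T l i j * T.m (l.succAbove j) = 0 := by
  simp_rw [ca_eq hl, add_mul, Finset.sum_add_distrib]
  rw [sum_succAbove_a_m]
  have h2 : ∑ j, T.a (l.succAbove i) l * vv T l j * T.m (l.succAbove j) =
      T.a (l.succAbove i) l * T.m l := by
    have h3 := sum_succAbove_a_m (T := T) (l := l) l
    have h4 : ∑ j, T.a l (l.succAbove j) * T.m (l.succAbove j) =
        T.w l * ∑ j, vv T l j * T.m (l.succAbove j) := by
      rw [Finset.mul_sum]
      refine Finset.sum_congr rfl fun j _ => ?_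
      rw [a_symm T l, a_eq_vv T l j]; ring
    rw [h4, hl.2] at h3
    have h5 : ∑ j, vv T l j * T.m (l.succAbove j) = T.m l := by
      have hw := T.w_pos l
      have : T.w l * (∑ j, vv T l j * T.m (l.succAbove j) - T.m l) = 0 := by linarith
      rcases mul_eq_zero.mp this with h | h
      · omega
      · linarith
    rw [← h5, Finset.mul_sum]
    refine Finset.sum_congr rfl fun j _ => ?_
    ring
  rw [h2]; ring

theorem n_pos (hl : T.IsMinusOne l) : 0 < n := by
  by_contra hcon
  have hn : n = 0 := by omega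
  have h := row_sum T l
  rw [Finset.sum_eq_single l] at h
  · rw [hl.2] at h
    have := T.w_pos l
    have := T.m_pos l
    nlinarith
  · intro j _ hj
    exfalso
    apply hj
    apply Fin.ext
    have h1 := j.isLt
    have h2 := l.isLt
    omega
  · intro h'
    exact absurd (mem_univ l) h'

theorem ca_connected (hl : T.IsMinusOne l) (I : Finset (Fin n)) (hI : I.Nonempty)
    (hI' : I ≠ univ) : ∃ i ∈ I, ∃ j ∉ I, ca T l i j ≠ 0 := by
  classical
  obtain ⟨j0, hj0⟩ : ∃ j0, j0 ∉ I := by
    by_contra hcon
    push Not at hcon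
    exact hI' (Finset.eq_univ_of_forall hcon)
  let emb : Fin n ↪ Fin (n + 1) := ⟨l.succAbove, Fin.succAbove_right_injective⟩
  have hpos_of : ∀ i j, i ≠ j → T.a (l.succAbove i) (l.succAbove j) ≠ 0 → ca T l i j ≠ 0 := by
    intro i j hij h
    have h1 := ca_ge hl i j
    have h2 := T.offDiag_nonneg (l.succAbove i) (l.succAbove j)
      (fun h => hij (Fin.succAbove_right_injective h))
    omega
  by_cases hadj : ∃ i0 ∈ I, T.a (l.succAbove i0) l ≠ 0
  · obtain ⟨i0, hi0, hi0l⟩ := hadj
    let I2 : Finset (Fin (n + 1)) := insert l (I.map emb)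
    have hI2ne : I2.Nonempty := ⟨l, Finset.mem_insert_self _ _⟩
    have hI2 : I2 ≠ univ := by
      intro h
      have : l.succAbove j0 ∈ I2 := by rw [h]; exact mem_univ _
      rw [Finset.mem_insert, Finset.mem_map] at this
      rcases this with h | ⟨x, hx, hxe⟩
      · exact Fin.succAbove_ne l j0 h
      · have : x = j0 := Fin.succAbove_right_injective hxe
        exact hj0 (this ▸ hx)
    obtain ⟨i, hi, j, hj, hij⟩ := T.connected I2 hI2ne hI2
    have hjl : j ≠ l := fun h => hj (by rw [h]; exact Finset.mem_insert_self _ _)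
    obtain ⟨j', rfl⟩ := Fin.exists_succAbove_eq hjl
    have hj' : j' ∉ I := by
      intro h
      apply hj
      exact Finset.mem_insert_of_mem (Finset.mem_map.mpr ⟨j', h, rfl⟩)
    rw [Finset.mem_insert, Finset.mem_map] at hi
    rcases hi with hil | ⟨i', hi', rfl⟩
    · -- the edge goes from `l`
      rw [hil] at hij
      refine ⟨i0, hi0, j', hj', ?_⟩
      rw [ca_eq hl]
      have h1 := T.offDiag_nonneg (l.succAbove i0) (l.succAbove j')
        (fun h => hj' ((Fin.succAbove_right_injective h) ▸ hi0))
      have h2 : 0 < T.a (l.succAbove i0) l :=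
        lt_of_le_of_ne (a_il_nonneg T l i0) (Ne.symm hi0l)
      have h3 : 0 < vv T l j' := by
        have h4 := a_eq_vv T l j'
        have h5 := vv_nonneg T l j'
        rcases h5.lt_or_eq with h | h
        · exact h
        · rw [← h, zero_mul, a_symm] at h4
          exact absurd h4 hij
      have := mul_pos h2 h3
      omega
    · exact ⟨i', hi', j', hj', hpos_of i' j' (fun h => hj' (h ▸ hi')) hij⟩
  · push Not at hadj
    let I1 : Finset (Fin (n + 1)) := I.map emb
    have hI1ne : I1.Nonempty := hI.map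
    have hI1 : I1 ≠ univ := by
      intro h
      have : l ∈ I1 := by rw [h]; exact mem_univ _
      rw [Finset.mem_map] at this
      obtain ⟨x, _, hx⟩ := this
      exact Fin.succAbove_ne l x hx
    obtain ⟨i, hi, j, hj, hij⟩ := T.connected I1 hI1ne hI1
    rw [Finset.mem_map] at hi
    obtain ⟨i', hi', rfl⟩ := hi
    have hjl : j ≠ l := by
      rintro rfl
      exact hij (hadj i' hi')
    obtain ⟨j', rfl⟩ := Fin.exists_succAbove_eq hjl
    have hj' : j' ∉ I := fun h => hj (Finset.mem_map.mpr ⟨j', h, rfl⟩)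
    exact ⟨i', hi', j', hj', hpos_of i' j' (fun h => hj' (h ▸ hi')) hij⟩

theorem cw_dvd_ca (hl : T.IsMinusOne l) (i j : Fin n) : cw T l i ∣ ca T l i j := by
  rw [ca_eq hl]
  have h1 : cw T l i ∣ T.a (l.succAbove i) (l.succAbove j) :=
    (cw_dvd_w T l i).trans (T.w_dvd _ _)
  have h2 : cw T l i ∣ T.a (l.succAbove i) l := (cw_dvd_w T l i).trans (T.w_dvd _ _)
  exact dvd_add h1 (Dvd.dvd.mul_right h2 _)

/-- the contracted numerical type -/
noncomputable def contract (hl : T.IsMinusOne l) : Models.NumericalType n where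
  m i := T.m (l.succAbove i)
  a := Matrix.of fun i j => ca T l i j
  w i := cw T l i
  g i := cg T l i
  pos := n_pos hl
  m_pos i := T.m_pos _
  w_pos i := cw_pos T l i
  g_nonneg i := cg_nonneg T l i
  symm := by
    ext i j
    simp only [Matrix.transpose_apply, Matrix.of_apply]
    exact ca_symm hl j i
  offDiag_nonneg i j hij := by
    simp only [Matrix.of_apply]
    have h1 := ca_ge hl i j
    have h2 := T.offDiag_nonneg (l.succAbove i) (l.succAbove j)
      (fun h => hij (Fin.succAbove_right_injective h))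
    omega
  connected I hI hI' := by
    simpa only [Matrix.of_apply] using ca_connected hl I hI hI'
  mulVec_m := by
    funext i
    simp only [Matrix.mulVec, dotProduct, Matrix.of_apply, Pi.zero_apply]
    exact ca_row hl i
  w_dvd i j := by
    simp only [Matrix.of_apply]
    exact cw_dvd_ca hl i j

@[simp] theorem contract_m (hl : T.IsMinusOne l) (i : Fin n) :
    (contract hl).m i = T.m (l.succAbove i) := rfl
@[simp] theorem contract_a (hl : T.IsMinusOne l) (i j : Fin n) :
    (contract hl).a i j = ca T l i j := rfl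
@[simp] theorem contract_w (hl : T.IsMinusOne l) (i : Fin n) :
    (contract hl).w i = cw T l i := rfl
@[simp] theorem contract_g (hl : T.IsMinusOne l) (i : Fin n) :
    (contract hl).g i = cg T l i := rfl

/-- contributions to the genus -/
theorem contribution_contract (hl : T.IsMinusOne l) (i : Fin n) :
    T.m (l.succAbove i) * (2 * cw T l i * (cg T l i - 1) - ca T l i i) =
      T.m (l.succAbove i) * (2 * T.w (l.succAbove i) * (T.g (l.succAbove i) - 1) -
        T.a (l.succAbove i) (l.succAbove i)) - T.a (l.succAbove i) l * T.m (l.succAbove i) := by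
  have h1 := a_eq_vv T l i
  have h2 := a_eq_uu T l i
  have h3 := cw_mul_rr T l i
  have h4 := tt_spec T l i
  rw [ca_eq hl]
  unfold cg
  have e1 : 2 * cw T l i * (rr T l i * (T.g (l.succAbove i) - 1) + 1 + tt T l i - 1) =
      2 * (cw T l i * rr T l i) * (T.g (l.succAbove i) - 1) + cw T l i * (2 * tt T l i) := by ring
  rw [e1, h3, ← h4]
  have e2 : cw T l i * (uu T l i * rr T l i * (vv T l i - 1)) =
      uu T l i * (cw T l i * rr T l i) * (vv T l i - 1) := by ring
  rw [e2, h3, ← h2]
  ring

theorem genus_contract (hl : T.IsMinusOne l) : (contract hl).genus = T.genus := by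
  have h1 := two_genus (contract hl)
  have h2 := two_genus T
  rw [Fin.sum_univ_succAbove _ l] at h2
  simp only [contract_m, contract_a, contract_w, contract_g] at h1
  simp_rw [contribution_contract hl] at h1
  rw [Finset.sum_sub_distrib] at h1
  have h3 : ∑ j, T.a (l.succAbove j) l * T.m (l.succAbove j) = -(T.a l l * T.m l) := by
    rw [← sum_succAbove_a_m (T := T) (l := l) l]
    exact Finset.sum_congr rfl fun j _ => by rw [a_symm T]
  rw [h3, hl.2] at h1
  rw [hl.1, hl.2] at h2
  linarith

end Groth.Agent.Lib.T2H4.Contract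

namespace Groth.Agent.Lib.T2H4.Contract

open Finset Models Groth.Agent.Lib.Helper11

variable {n : ℕ}

theorem numType_ext (T T' : Models.NumericalType n) (hm : T.m = T'.m) (ha : T.a = T'.a)
    (hw : T.w = T'.w) (hg : T.g = T'.g) : T = T' := by
  cases T; cases T'
  simp only at hm ha hw hg
  subst hm ha hw hg
  rfl

variable {T : Models.NumericalType (n + 1)}

theorem cg_eq_formula (l : Fin (n + 1)) (i : Fin n) :
    cg T l i = T.w (l.succAbove i) / cw T l i * (T.g (l.succAbove i) - 1) + 1 +
      (T.a (l.succAbove i) l ^ 2 - T.w l * T.a (l.succAbove i) l) / (2 * cw T l i * T.w l) := by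
  rw [w_div_cw, corr_eq]; rfl

theorem isContraction_contract (h : T.IsMinusOne (Fin.last n)) : T.IsContraction (contract h) := by
  refine ⟨fun i => ?_, fun i j => ?_, fun i => ?_, fun i => ?_⟩
  · simp only [contract_m, Fin.succAbove_last]
  · simp only [contract_a, ca, Fin.succAbove_last]
  · simp only [contract_w, cw, Fin.succAbove_last]
  · have := cg_eq_formula (T := T) (Fin.last n) i
    simp only [Fin.succAbove_last] at this
    simp only [contract_g, contract_w]
    exact this

theorem eq_contract_of_isContraction (h : T.IsMinusOne (Fin.last n)) (T' : Models.NumericalType n)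
    (hT' : T.IsContraction T') : T' = contract h := by
  obtain ⟨h1, h2, h3, h4⟩ := hT'
  have hw : ∀ i, T'.w i = cw T (Fin.last n) i := by
    intro i
    rw [h3 i]
    simp only [cw, Fin.succAbove_last]
  refine numType_ext _ _ ?_ ?_ ?_ ?_
  · funext i
    rw [h1 i]; simp only [contract_m, Fin.succAbove_last]
  · funext i j
    rw [h2 i j]; simp only [contract_a, ca, Fin.succAbove_last]
  · funext i
    rw [hw i]; rfl
  · funext i
    rw [h4 i, hw i]
    have := cg_eq_formula (T := T) (Fin.last n) i
    simp only [Fin.succAbove_last] at this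
    simp only [contract_g]
    exact this.symm

end Groth.Agent.Lib.T2H4.Contract
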