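import Groth.Agent.Lib.T2H4Contract

/-!
The Picard group of a numerical type embeds into that of a contraction.
-/

namespace Groth.Agent.Lib.T2H4.Contract

open Finset Models Groth.Agent.Lib.Helper11

variable {n : ℕ} {T : Models.NumericalType (n + 1)} {l : Fin (n + 1)}

variable (T l) in
/-- the map on degree vectors -/
def phi : (Fin (n + 1) → ℤ) →ₗ[ℤ] (Fin n → ℤ) where
  toFun x i := rr T l i * (x (l.succAbove i) + uu T l i * x l)
  map_add' x y := by
    funext i
    simp only [Pi.add_apply]
    ring
  map_smul' c x := by
    funext i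
    simp only [Pi.smul_apply, smul_eq_mul, RingHom.id_apply]
    ring

theorem phi_apply (x : Fin (n + 1) → ℤ) (i : Fin n) :
    phi T l x i = rr T l i * (x (l.succAbove i) + uu T l i * x l) := rfl

theorem picMatrix_eq_kk {k : ℕ} (S : Models.NumericalType k) (i j : Fin k) :
    S.picMatrix i j = kk S i j := rfl

theorem kk_ll (hl : T.IsMinusOne l) : kk T l l = -1 := by
  have h := a_eq_kk T l l
  rw [hl.2] at h
  have hw := T.w_pos l
  have : (kk T l l + 1) * T.w l = 0 := by linarith
  rcases mul_eq_zero.mp this with h1 | h1
  · linarith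
  · omega

theorem kk_il (i : Fin n) : kk T (l.succAbove i) l = uu T l i := rfl

theorem kk_li (i : Fin n) : kk T l (l.succAbove i) = vv T l i := by
  unfold kk vv
  rw [a_symm T]

theorem picMatrix_contract (hl : T.IsMinusOne l) (i j : Fin n) :
    (contract hl).picMatrix i j =
      rr T l i * (kk T (l.succAbove i) (l.succAbove j) + uu T l i * vv T l j) := by
  show ca T l i j / cw T l i = _
  have h1 := a_eq_kk T (l.succAbove i) (l.succAbove j)
  have h2 := a_eq_uu T l i
  have h3 := cw_mul_rr T l i
  have e : ca T l i j = cw T l i *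
      (rr T l i * (kk T (l.succAbove i) (l.succAbove j) + uu T l i * vv T l j)) := by
    rw [ca_eq hl, h1, h2, ← h3]; ring
  rw [e]
  exact Int.mul_ediv_cancel_left _ (cw_pos T l i).ne'

theorem phi_mulVec (hl : T.IsMinusOne l) (x : Fin (n + 1) → ℤ) :
    phi T l (T.picMatrix.mulVec x) =
      (contract hl).picMatrix.mulVec (fun j => x (l.succAbove j)) := by
  funext i
  rw [phi_apply]
  simp only [Matrix.mulVec, dotProduct, picMatrix_eq_kk]
  rw [Fin.sum_univ_succAbove _ l, Fin.sum_univ_succAbove (fun j => kk T l j * x j) l,
    kk_ll hl, kk_il]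
  simp_rw [← picMatrix_eq_kk (contract hl), picMatrix_contract hl, kk_li]
  have : rr T l i * (uu T l i * x l + ∑ j, kk T (l.succAbove i) (l.succAbove j) * x (l.succAbove j) +
      uu T l i * (-1 * x l + ∑ j, vv T l j * x (l.succAbove j))) =
      ∑ j, rr T l i * ((kk T (l.succAbove i) (l.succAbove j) + uu T l i * vv T l j) *
        x (l.succAbove j)) := by
    rw [← Finset.mul_sum]
    simp_rw [add_mul, Finset.sum_add_distrib, mul_assoc]
    rw [← Finset.mul_sum]
    ring
  rw [this]
  refine Finset.sum_congr rfl fun j _ => ?_
  ring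

theorem range_le_comap (hl : T.IsMinusOne l) :
    LinearMap.range (Matrix.mulVecLin T.picMatrix) ≤
      (LinearMap.range (Matrix.mulVecLin (contract hl).picMatrix)).comap (phi T l) := by
  rintro _ ⟨x, rfl⟩
  rw [Submodule.mem_comap, Matrix.mulVecLin_apply, phi_mulVec hl]
  exact ⟨_, rfl⟩

/-- the induced map on Picard groups -/
noncomputable def picMap (hl : T.IsMinusOne l) : T.Pic →ₗ[ℤ] (contract hl).Pic :=
  Submodule.mapQ _ _ (phi T l) (range_le_comap hl)

theorem picMap_mk (hl : T.IsMinusOne l) (x : Fin (n + 1) → ℤ) :
    picMap hl (Submodule.Quotient.mk x) = Submodule.Quotient.mk (phi T l x) := rfl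

theorem rr_ne_zero (i : Fin n) : rr T l i ≠ 0 := by
  rcases rr_eq T l i with h | h <;> rw [h] <;> norm_num

theorem picMap_injective (hl : T.IsMinusOne l) : Function.Injective (picMap hl) := by
  rw [injective_iff_map_eq_zero]
  intro a ha
  induction a using Submodule.Quotient.induction_on with
  | H x =>
    rw [picMap_mk, Submodule.Quotient.mk_eq_zero] at ha
    obtain ⟨y, hy⟩ := ha
    rw [Matrix.mulVecLin_apply] at hy
    -- extend `y` by zero
    let yt : Fin (n + 1) → ℤ := fun j => if h : j = l then 0 else y ((Fin.exists_succAbove_eq h).choose)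
    have hyt : ∀ j, yt (l.succAbove j) = y j := by
      intro j
      have hne : l.succAbove j ≠ l := Fin.succAbove_ne l j
      simp only [yt, dif_neg hne]
      congr 1
      exact Fin.succAbove_right_injective (Fin.exists_succAbove_eq hne).choose_spec
    have h1 : phi T l (T.picMatrix.mulVec yt) = phi T l x := by
      rw [phi_mulVec hl, ← hy]
      congr 1
      funext j
      exact hyt j
    set z := x - T.picMatrix.mulVec yt with hz
    have hz0 : phi T l z = 0 := by rw [hz, map_sub, h1, sub_self]
    have hzi : ∀ i, z (l.succAbove i) = - (uu T l i * z l) := by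
      intro i
      have := congrFun hz0 i
      rw [phi_apply] at this
      simp only [Pi.zero_apply] at this
      rcases mul_eq_zero.mp this with h | h
      · exact absurd h (rr_ne_zero i)
      · linarith
    have hzP : z = T.picMatrix.mulVec (fun j => if j = l then - z l else 0) := by
      funext i
      simp only [Matrix.mulVec, dotProduct, picMatrix_eq_kk]
      rw [Finset.sum_eq_single l]
      · rw [if_pos rfl]
        by_cases hi : i = l
        · subst hi
          rw [kk_ll hl]; ring
        · obtain ⟨i', rfl⟩ := Fin.exists_succAbove_eq hi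
          rw [kk_il, hzi]; ring
      · intro j _ hj
        rw [if_neg hj, mul_zero]
      · intro h
        exact absurd (mem_univ l) h
    rw [Submodule.Quotient.mk_eq_zero]
    have hx : x = z + T.picMatrix.mulVec yt := by rw [hz]; abel
    rw [hx]
    refine Submodule.add_mem _ ?_ ⟨yt, rfl⟩
    rw [hzP]
    exact ⟨_, rfl⟩

theorem picMap_two_smul (hl : T.IsMinusOne l) (y : (contract hl).Pic) :
    ∃ x : T.Pic, 2 • y = picMap hl x := by
  induction y using Submodule.Quotient.induction_on with
  | H y =>
    let x : Fin (n + 1) → ℤ := fun j =>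
      if h : j = l then 0 else
        (if rr T l (Fin.exists_succAbove_eq h).choose = 1 then 2 else 1) *
          y ((Fin.exists_succAbove_eq h).choose)
    refine ⟨Submodule.Quotient.mk x, ?_⟩
    rw [picMap_mk, ← Submodule.Quotient.mk_smul]
    congr 1
    funext i
    rw [phi_apply]
    have hne : l.succAbove i ≠ l := Fin.succAbove_ne l i
    have hch : (Fin.exists_succAbove_eq hne).choose = i :=
      Fin.succAbove_right_injective (Fin.exists_succAbove_eq hne).choose_spec
    have hxl : x l = 0 := by simp only [x, dif_pos rfl]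
    have hxi : x (l.succAbove i) = (if rr T l i = 1 then 2 else 1) * y i := by
      simp only [x, dif_neg hne, hch]
    rw [hxl, hxi]
    simp only [Pi.smul_apply, smul_eq_mul]
    rcases rr_eq T l i with h | h
    · rw [h, if_pos rfl]; ring
    · rw [h, if_neg (by norm_num)]; ring

end Groth.Agent.Lib.T2H4.Contract
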