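import Mathlib
import Groth.Agent.Lib.Helper13ModGlue

/-!
# Gluing isomorphisms of modules over two disjoint open subschemes (helper4)

* `locFamOfRestrict` : a morphism `L|_W ⟶ N|_W` of restrictions along an open immersion `j : W ⟶ Z` as a local family
  on `j.opensRange`.
* `nonempty_iso_of_restrict_iso` : if `Z` is covered by two disjoint open subschemes and `L`, `N` have isomorphic
  restrictions to each, then `L ≅ N`.
-/

set_option autoImplicit false
set_option linter.style.haveILetI false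
set_option linter.unusedSectionVars false
universe u
open CategoryTheory Limits AlgebraicGeometry TopologicalSpace Opposite

namespace Groth.Agent.Lib.T2H4.CoprodMod

open Groth.Agent.Lib.Helper6 Groth.Agent.Helper13ModGlue

section one
variable {Z W : Scheme.{u}} (j : W ⟶ Z) [IsOpenImmersion j] (L N : Z.Modules)

theorem image_preimage_eq {A : Z.Opens} (hA : A ≤ j.opensRange) : j ''ᵁ (j ⁻¹ᵁ A) = A := by
  rw [Scheme.Hom.image_preimage_eq_opensRange_inf]; exact inf_eq_right.2 hA

theorem app_nat {A B : W.Modules} (m : A ⟶ B) {V V' : W.Opens} (h : V' ≤ V) (s : Γ(A, V)) :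
    m.app V' (res A h s) = res B h (m.app V s) := by
  have := m.mapPresheaf.naturality (homOfLE h).op
  exact congrArg (fun φ => φ s) this

/-- a morphism of restrictions, on sections of the original modules -/
noncomputable def aR (α : L.restrict j ⟶ N.restrict j) (V : W.Opens) :
    Γ(L, j ''ᵁ V) →+ Γ(N, j ''ᵁ V) :=
  (α.app V).hom

theorem aR_nat (α : L.restrict j ⟶ N.restrict j) {V V' : W.Opens} (h : V' ≤ V) (s : Γ(L, j ''ᵁ V)) :
    aR j L N α V' (res L (j.image_mono h) s) = res N (j.image_mono h) (aR j L N α V s) :=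
  app_nat α h s

theorem aR_smul (α : L.restrict j ⟶ N.restrict j) (V : W.Opens) (a : Γ(Z, j ''ᵁ V)) (s : Γ(L, j ''ᵁ V)) :
    aR j L N α V (a • s) = a • aR j L N α V s := by
  have h0 : (j.appIso V).inv ((j.appIso V).hom a) = a := by
    rw [← CommRingCat.comp_apply, Iso.hom_inv_id]; rfl
  have h1 := Scheme.Modules.Hom.app_smul α ((j.appIso V).hom a) (U := V) s
  have h2 : aR j L N α V ((j.appIso V).inv ((j.appIso V).hom a) • s) =
      (j.appIso V).inv ((j.appIso V).hom a) • aR j L N α V s := h1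
  rw [h0] at h2
  exact h2

theorem aR_comp (K : Z.Modules) (α : L.restrict j ⟶ N.restrict j) (β : N.restrict j ⟶ K.restrict j)
    (V : W.Opens) (s : Γ(L, j ''ᵁ V)) :
    aR j N K β V (aR j L N α V s) = aR j L K (α ≫ β) V s := rfl

theorem aR_id (V : W.Opens) (s : Γ(L, j ''ᵁ V)) : aR j L L (𝟙 _) V s = s := rfl

/-- the value of the family attached to a morphism of restrictions -/
noncomputable def dOf (α : L.restrict j ⟶ N.restrict j) (A : Z.Opens) (hA : A ≤ j.opensRange)
    (s : Γ(L, A)) : Γ(N, A) :=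
  res N (le_of_eq (image_preimage_eq j hA).symm)
    (aR j L N α (j ⁻¹ᵁ A) (res L (le_of_eq (image_preimage_eq j hA)) s))

theorem dOf_add (α : L.restrict j ⟶ N.restrict j) (A : Z.Opens) (hA : A ≤ j.opensRange)
    (s t : Γ(L, A)) : dOf j L N α A hA (s + t) = dOf j L N α A hA s + dOf j L N α A hA t := by
  unfold dOf
  rw [res_add', map_add, res_add']

theorem dOf_nat (α : L.restrict j ⟶ N.restrict j) (A A' : Z.Opens) (hA : A ≤ j.opensRange) (hA' : A' ≤ A)
    (s : Γ(L, A)) :
    res N hA' (dOf j L N α A hA s) = dOf j L N α A' (hA'.trans hA) (res L hA' s) := by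
  unfold dOf
  rw [res_res, res_res]
  have hV : j ⁻¹ᵁ A' ≤ j ⁻¹ᵁ A := j.preimage_mono hA'
  have h1 : res L (show j ''ᵁ (j ⁻¹ᵁ A') ≤ A from (le_of_eq (image_preimage_eq j (hA'.trans hA))).trans hA') s =
      res L (j.image_mono hV) (res L (le_of_eq (image_preimage_eq j hA)) s) := by
    rw [res_res]
  rw [h1, aR_nat j L N α hV, res_res]

theorem dOf_smul (α : L.restrict j ⟶ N.restrict j) (A : Z.Opens) (hA : A ≤ j.opensRange) (a : Γ(Z, A))
    (s : Γ(L, A)) : dOf j L N α A hA (a • s) = a • dOf j L N α A hA s := by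
  unfold dOf
  rw [res_smul, aR_smul, res_smul, resf_resf, resf_self]

/-- the local family on `j.opensRange` attached to a morphism of restrictions -/
noncomputable def locFamOfRestrict (α : L.restrict j ⟶ N.restrict j) : LocFam j.opensRange L N where
  d A hA := AddMonoidHom.mk' (dOf j L N α A hA) (dOf_add j L N α A hA)
  nat A A' hA hA' s := dOf_nat j L N α A A' hA hA' s
  lin A hA a s := dOf_smul j L N α A hA a s

theorem dOf_comp (K : Z.Modules) (α : L.restrict j ⟶ N.restrict j) (β : N.restrict j ⟶ K.restrict j)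
    (A : Z.Opens) (hA : A ≤ j.opensRange) (s : Γ(L, A)) :
    dOf j N K β A hA (dOf j L N α A hA s) = dOf j L K (α ≫ β) A hA s := by
  unfold dOf
  rw [res_res, res_self, aR_comp]

theorem dOf_id (A : Z.Opens) (hA : A ≤ j.opensRange) (s : Γ(L, A)) :
    dOf j L L (𝟙 _) A hA s = s := by
  unfold dOf
  rw [aR_id, res_res, res_self]

theorem dOf_bijective (α : L.restrict j ≅ N.restrict j) (A : Z.Opens) (hA : A ≤ j.opensRange) :
    Function.Bijective (dOf j L N α.hom A hA) := by
  refine Function.bijective_iff_has_inverse.2 ⟨dOf j N L α.inv A hA, fun s => ?_, fun s => ?_⟩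
  · rw [dOf_comp, Iso.hom_inv_id, dOf_id]
  · rw [dOf_comp, Iso.inv_hom_id, dOf_id]

end one

section two
variable {Z W₁ W₂ : Scheme.{u}} (j₁ : W₁ ⟶ Z) (j₂ : W₂ ⟶ Z) [IsOpenImmersion j₁] [IsOpenImmersion j₂]
  (L N : Z.Modules)

/-- **modules on a disjoint union of two open subschemes are determined by their restrictions** -/
theorem nonempty_iso_of_restrict_iso (hcov : j₁.opensRange ⊔ j₂.opensRange = ⊤)
    (hdisj : j₁.opensRange ⊓ j₂.opensRange = ⊥)
    (α₁ : L.restrict j₁ ≅ N.restrict j₁) (α₂ : L.restrict j₂ ≅ N.restrict j₂) : Nonempty (L ≅ N) := by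
  let V : (PUnit.{u+1} ⊕ PUnit.{u+1}) → Z.Opens := Sum.elim (fun _ => j₁.opensRange) (fun _ => j₂.opensRange)
  have hV : ⨆ i, V i = ⊤ := by
    rw [eq_top_iff, ← hcov]
    exact sup_le (le_iSup V (Sum.inl PUnit.unit)) (le_iSup V (Sum.inr PUnit.unit))
  let D : ∀ i, LocFam (V i) L N := fun i => match i with
    | Sum.inl _ => locFamOfRestrict j₁ L N α₁.hom
    | Sum.inr _ => locFamOfRestrict j₂ L N α₂.hom
  have compat : ∀ (i k : PUnit.{u+1} ⊕ PUnit.{u+1}) (A : Z.Opens) (hi : A ≤ V i) (hk : A ≤ V k) (τ : Γ(L, A)),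
      (D i).d A hi τ = (D k).d A hk τ := by
    rintro (_ | _) (_ | _) A hi hk τ
    · rfl
    · have hA : A ≤ ⊥ := hdisj ▸ le_inf hi hk
      rw [eq_zero_of_le_bot N hA ((D _).d A hi τ), eq_zero_of_le_bot N hA ((D _).d A hk τ)]
    · have hA : A ≤ ⊥ := hdisj ▸ le_inf hk hi
      rw [eq_zero_of_le_bot N hA ((D _).d A hi τ), eq_zero_of_le_bot N hA ((D _).d A hk τ)]
    · rfl
  obtain ⟨Φ, hΦ⟩ := exists_hom_of_locFams V hV L N D compat
  haveI : IsIso Φ := by
    refine Groth.Agent.Helper13AffBC.isIso_of_bijective_on_basis Φ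
      (fun k : (Σ i, {A : Z.Opens // A ≤ V i}) => k.2.1) (isBasis_small V hV) ?_
    rintro ⟨i, A, hA⟩
    have h1 : ∀ τ : Γ(L, A), Φ.app A τ = (D i).d A hA τ := hΦ i A hA
    cases i with
    | inl _ =>
      have h2 := dOf_bijective j₁ L N α₁ A hA
      refine ⟨fun a b hab => h2.1 ?_, fun y => ?_⟩
      · have := (h1 a).symm.trans (hab.trans (h1 b))
        exact this
      · obtain ⟨x, hx⟩ := h2.2 y
        exact ⟨x, (h1 x).trans hx⟩
    | inr _ =>
      have h2 := dOf_bijective j₂ L N α₂ A hA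
      refine ⟨fun a b hab => h2.1 ?_, fun y => ?_⟩
      · have := (h1 a).symm.trans (hab.trans (h1 b))
        exact this
      · obtain ⟨x, hx⟩ := h2.2 y
        exact ⟨x, (h1 x).trans hx⟩
  exact ⟨asIso Φ⟩

end two

end Groth.Agent.Lib.T2H4.CoprodMod
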