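import Mathlib

/-!
# The grading of the symmetric algebra by the powers of the range of `ι` (helper4)

* `symDeg R M d = (range ι)^d`, `gradedAlgebra : GradedAlgebra (symDeg R M)`.
-/

set_option autoImplicit false

namespace Groth.Agent.Lib.T2H4.GrSym

open scoped DirectSum
open SymmetricAlgebra

variable (R M : Type*) [CommRing R] [AddCommGroup M] [Module R M]

/-- the grading of the symmetric algebra by symmetric powers -/
def symDeg (d : ℕ) : Submodule R (SymmetricAlgebra R M) := LinearMap.range (ι R M) ^ d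

theorem ι_mem_symDeg (m : M) : ι R M m ∈ symDeg R M 1 := by
  unfold symDeg
  simpa only [pow_one] using LinearMap.mem_range_self _ m

theorem algebraMap_mem_symDeg (r : R) : algebraMap R (SymmetricAlgebra R M) r ∈ symDeg R M 0 := by
  unfold symDeg
  rw [pow_zero]
  exact Submodule.algebraMap_mem r

instance gradedMonoid_symDeg : SetLike.GradedMonoid (symDeg R M) :=
  (Submodule.nat_power_gradedMonoid (LinearMap.range (ι R M)))

/-- `ι` into the graded structure -/
def gι : M →ₗ[R] ⨁ i : ℕ, ↥(symDeg R M i) :=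
  DirectSum.lof R ℕ (fun i => ↥(symDeg R M i)) 1 ∘ₗ
    (ι R M).codRestrict _ (fun m => ι_mem_symDeg R M m)

theorem gι_apply (m : M) :
    gι R M m = DirectSum.of (fun i : ℕ => ↥(symDeg R M i)) 1 ⟨ι R M m, ι_mem_symDeg R M m⟩ := rfl

instance gradedAlgebra : GradedAlgebra (symDeg R M) :=
  GradedAlgebra.ofAlgHom _ (SymmetricAlgebra.lift (gι R M))
    (by
      apply SymmetricAlgebra.algHom_ext
      ext m
      change (DirectSum.coeAlgHom (symDeg R M)) ((SymmetricAlgebra.lift (gι R M)) (ι R M m)) = ι R M m
      rw [SymmetricAlgebra.lift_ι_apply, gι_apply, DirectSum.coeAlgHom_of])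
    (fun i x => by
      obtain ⟨x, hx⟩ := x
      dsimp only [Subtype.coe_mk, DirectSum.lof_eq_of]
      unfold symDeg at hx
      induction hx using Submodule.pow_induction_on_left' with
      | algebraMap r =>
        rw [AlgHom.commutes, DirectSum.algebraMap_apply]; rfl
      | add x y i hx hy ihx ihy =>
        rw [map_add, ihx, ihy, ← map_add]
        rfl
      | mem_mul m hm i x hx ih =>
        obtain ⟨_, rfl⟩ := hm
        rw [map_mul, ih, SymmetricAlgebra.lift_ι_apply, gι_apply, DirectSum.of_mul_of]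
        exact DirectSum.of_eq_of_gradedMonoid_eq (Sigma.subtype_ext (add_comm _ _) rfl))


/-- a ring homomorphism out of the symmetric algebra sending scalars to degree `0` and `ι m` to degree `1`
is graded -/
theorem map_mem_of_mem_symDeg {A' σ' : Type*} [CommRing A'] [SetLike σ' A'] [AddSubgroupClass σ' A']
    (𝒜' : ℕ → σ') [GradedRing 𝒜'] (ψ : SymmetricAlgebra R M →+* A')
    (h0 : ∀ r : R, ψ (algebraMap R (SymmetricAlgebra R M) r) ∈ 𝒜' 0)
    (h1 : ∀ m : M, ψ (ι R M m) ∈ 𝒜' 1) {d : ℕ} {x : SymmetricAlgebra R M} (hx : x ∈ symDeg R M d) :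
    ψ x ∈ 𝒜' d := by
  unfold symDeg at hx
  induction hx using Submodule.pow_induction_on_left' with
  | algebraMap r => exact h0 r
  | add x y i hx hy ihx ihy =>
    rw [map_add]
    exact add_mem ihx ihy
  | mem_mul m hm i x hx ih =>
    obtain ⟨m, rfl⟩ := hm
    rw [map_mul]
    have := SetLike.GradedMul.mul_mem (h1 m) ih
    rwa [add_comm] at this

end Groth.Agent.Lib.T2H4.GrSym
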