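import Mathlib
import Groth.Prelude.Def_RelProj3
import Groth.Agent.Lib.T2H4GrSymA
import Groth.Agent.Lib.Helper13SymAlg
import Groth.Agent.Lib.T2H6QCGrOfAffine

/-!
# The graded symmetric algebra of a quasi-coherent module, as a quasi-coherent graded algebra (helper4)

* `grSymAlg E : RelProj.QCGrAlg S` with `(grSymAlg E).toQCAlg = symAlg E` (helper13's symmetric algebra),
* `isGrSymAlg E : RelProj.IsGrSymAlg E (grSymAlg E) (j E)`.
-/

set_option autoImplicit false
set_option linter.style.haveILetI false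
set_option linter.unusedSectionVars false
universe u
open CategoryTheory Limits AlgebraicGeometry TopologicalSpace Opposite
open scoped HomogeneousIdeal

namespace Groth.Agent.Lib.T2H4.GrSym

open Scheme.AffineZariskiSite Groth.Agent.Helper13SymLoc Groth.Agent.Helper13QCAlgOfAffine
  Groth.Agent.Helper13SymAlg Groth.Agent.Lib.T2H6.QCGrOfAffine

noncomputable section

variable {S : Scheme.{u}} (E : S.Modules) [E.IsQuasicoherent]

/-- the type of the graded pieces over an affine open -/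
def Sg (U : S.AffineZariskiSite) : Type u :=
  Submodule Γ(S, U.1) (SymmetricAlgebra Γ(S, U.1) Γ(E, U.1))

instance (U : S.AffineZariskiSite) : SetLike (Sg E U) ((symFunctor E).obj (op U)) :=
  inferInstanceAs (SetLike (Submodule Γ(S, U.1) (SymmetricAlgebra Γ(S, U.1) Γ(E, U.1)))
    (SymmetricAlgebra Γ(S, U.1) Γ(E, U.1)))

instance (U : S.AffineZariskiSite) : AddSubgroupClass (Sg E U) ((symFunctor E).obj (op U)) :=
  inferInstanceAs (AddSubgroupClass (Submodule Γ(S, U.1) (SymmetricAlgebra Γ(S, U.1) Γ(E, U.1)))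
    (SymmetricAlgebra Γ(S, U.1) Γ(E, U.1)))

/-- the grading over an affine open -/
def dg (U : S.AffineZariskiSite) (d : ℕ) : Sg E U := symDeg Γ(S, U.1) Γ(E, U.1) d

instance (U : S.AffineZariskiSite) : GradedRing (dg E U) :=
  inferInstanceAs (GradedRing (symDeg Γ(S, U.1) Γ(E, U.1)))

theorem mem_dg {U : S.AffineZariskiSite} {d : ℕ} {x : SymmetricAlgebra Γ(S, U.1) Γ(E, U.1)} :
    (x : (symFunctor E).obj (op U)) ∈ dg E U d ↔ x ∈ symDeg Γ(S, U.1) Γ(E, U.1) d := Iff.rfl

theorem hmap {U V : S.AffineZariskiSite} (i : V ⟶ U) {d : ℕ} {x : (symFunctor E).obj (op U)}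
    (hx : x ∈ dg E U d) : ((symFunctor E).map i.op).hom x ∈ dg E V d := by
  change symRes E (toOpens_mono i.le) x ∈ symDeg Γ(S, V.1) Γ(E, V.1) d
  refine map_mem_of_mem_symDeg Γ(S, U.1) Γ(E, U.1) (symDeg Γ(S, V.1) Γ(E, V.1))
    (symRes E (toOpens_mono i.le)) (fun r => ?_) (fun m => ?_) hx
  · unfold symRes
    rw [symMap_algebraMap]
    exact algebraMap_mem_symDeg _ _ _
  · unfold symRes
    rw [symMap_ι]
    exact ι_mem_symDeg _ _ _

theorem hstr (U : S.AffineZariskiSite) (r : Γ(S, U.1)) : ((symStr E).app (op U)).hom r ∈ dg E U 0 :=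
  algebraMap_mem_symDeg Γ(S, U.1) Γ(E, U.1) r

/-- **the graded symmetric algebra of a quasi-coherent module** -/
def grSymAlg : RelProj.QCGrAlg S :=
  qcGrAlg (coequifibered_symStr E) (dg E) (fun i _ _ hx => hmap E i hx) (hstr E)

theorem grSymAlg_toQCAlg : (grSymAlg E).toQCAlg = symAlg E := rfl

theorem mem_grSymAlg_deg {U : S.Opens} {hU : IsAffineOpen U} {d : ℕ} {x : (symAlg E).presheaf.obj (op U)} :
    x ∈ (grSymAlg E).deg U hU d ↔ (γ E U hU).hom x ∈ symDeg Γ(S, U) Γ(E, U) d := Iff.rfl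

/-- the universal map, into the graded symmetric algebra -/
def jGr : E ⟶ (grSymAlg E).toModule := j E

theorem isGrSymAlg : RelProj.IsGrSymAlg E (grSymAlg E) (jGr E) := by
  refine ⟨isSymAlg E, fun U hU x => ?_⟩
  refine (mem_grSymAlg_deg E (hU := hU)
    (x := ((j E).app U x : (symAlg E).presheaf.obj (op U)))).mpr ?_
  rw [j_app E U hU, jAff_apply, γ_inv_γ]
  exact ι_mem_symDeg _ _ _

end

end Groth.Agent.Lib.T2H4.GrSym
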