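import Mathlib
import Groth.Prelude.Def_RelProj3
import Groth.Agent.Lib.Helper2RelTwistExist
import Groth.Agent.Lib.Helper2RelTwistTensor
import Groth.Agent.Lib.Helper2RelTwistAmpleB
import Groth.Agent.Lib.Helper23AmpleIso
import Groth.Agent.Lib.Helper23TensorUnit

/-!
# `O_P(n) ≅ O_P(1)^{⊗ n}` on a relative Proj generated in degree one; quasi-compactness of the charts (helper4)
-/

set_option autoImplicit false
universe u
open CategoryTheory Limits AlgebraicGeometry TopologicalSpace Opposite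
open scoped HomogeneousIdeal

namespace Groth.Agent.Lib.T2H4.RelTwistPow

open RelProj Groth.Agent.Lib.Helper2.RelTwistTensor Groth.Agent.Lib.Helper2.RelTwistExist
  Groth.Agent.Lib.Helper2.RelTwistGen

variable {P S : Scheme.{u}} {𝒮 : RelProj.QCGrAlg S} (p : P ⟶ S)
  (chart : ∀ (U : S.Opens) (hU : IsAffineOpen U), (((p ⁻¹ᵁ U : P.Opens) : Scheme.{u}) ≅ Proj (𝒮.deg U hU)))

/-- transport of a twisting datum along an equality of degrees. -/
theorem exists_isRelTwist_cast {k k' : ℤ} (e : k = k') (L : P.Modules)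
    (lam : ∀ (U : S.Opens) (hU : IsAffineOpen U),
      L ⟶ (Scheme.Modules.pushforward (RelProj.emb p chart U hU)).obj (GrTwist.twist (𝒮.deg U hU) k))
    (hL : RelProj.IsRelTwist 𝒮 p chart k L lam) :
    ∃ (lam' : ∀ (U : S.Opens) (hU : IsAffineOpen U),
      L ⟶ (Scheme.Modules.pushforward (RelProj.emb p chart U hU)).obj (GrTwist.twist (𝒮.deg U hU) k')),
      RelProj.IsRelTwist 𝒮 p chart k' L lam' := by
  subst e
  exact ⟨lam, hL⟩

/-- two twisting data of the same degree are isomorphic. -/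
theorem nonempty_iso_of_isRelTwist (hP : RelProj.IsRelProj 𝒮 p chart) (hgen : 𝒮.IsGenDegOne) (k : ℤ)
    (L : P.Modules)
    (lam : ∀ (U : S.Opens) (hU : IsAffineOpen U),
      L ⟶ (Scheme.Modules.pushforward (RelProj.emb p chart U hU)).obj (GrTwist.twist (𝒮.deg U hU) k))
    (hL : RelProj.IsRelTwist 𝒮 p chart k L lam) (L' : P.Modules)
    (lam' : ∀ (U : S.Opens) (hU : IsAffineOpen U),
      L' ⟶ (Scheme.Modules.pushforward (RelProj.emb p chart U hU)).obj (GrTwist.twist (𝒮.deg U hU) k))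
    (hL' : RelProj.IsRelTwist 𝒮 p chart k L' lam') : Nonempty (L ≅ L') := by
  obtain ⟨L₀, lam₀, hL₀⟩ := exists_isRelTwist p chart hP 0
  obtain ⟨lam2, h2⟩ := exists_isRelTwist_cast p chart (zero_add k).symm L lam hL
  obtain ⟨lam2', h2'⟩ := exists_isRelTwist_cast p chart (zero_add k).symm L' lam' hL'
  obtain ⟨e1⟩ := nonempty_tensor_iso p chart hP hgen 0 k L₀ lam₀ hL₀ L lam hL L lam2 h2
  obtain ⟨e2⟩ := nonempty_tensor_iso p chart hP hgen 0 k L₀ lam₀ hL₀ L lam hL L' lam2' h2'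
  exact ⟨e1.symm ≪≫ e2⟩

/-- **`O_P(1)^{⊗ n} ≅ O_P(n)`** for `n ≥ 1`. -/
theorem nonempty_tensorPow_iso (hP : RelProj.IsRelProj 𝒮 p chart) (hgen : 𝒮.IsGenDegOne)
    (L₁ : P.Modules)
    (lam₁ : ∀ (U : S.Opens) (hU : IsAffineOpen U),
      L₁ ⟶ (Scheme.Modules.pushforward (RelProj.emb p chart U hU)).obj (GrTwist.twist (𝒮.deg U hU) 1))
    (hL₁ : RelProj.IsRelTwist 𝒮 p chart 1 L₁ lam₁) (n : ℕ) :
    ∀ (L : P.Modules)
      (lam : ∀ (U : S.Opens) (hU : IsAffineOpen U),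
        L ⟶ (Scheme.Modules.pushforward (RelProj.emb p chart U hU)).obj
          (GrTwist.twist (𝒮.deg U hU) ((n + 1 : ℕ) : ℤ))),
      RelProj.IsRelTwist 𝒮 p chart ((n + 1 : ℕ) : ℤ) L lam → Nonempty (CohB1.tensorPow L₁ (n + 1) ≅ L) := by
  induction n with
  | zero =>
    intro L lam hL
    obtain ⟨lam', hL'⟩ := exists_isRelTwist_cast p chart (k := ((0 + 1 : ℕ) : ℤ)) (k' := 1) (by norm_num) L lam hL
    obtain ⟨e⟩ := nonempty_iso_of_isRelTwist p chart hP hgen 1 L₁ lam₁ hL₁ L lam' hL'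
    exact ⟨Groth.Agent.Lib.Helper23.TensorUnit.unitTensorIso L₁ ≪≫ e⟩
  | succ n ih =>
    intro L lam hL
    obtain ⟨Ln, lamn, hLn⟩ := exists_isRelTwist p chart hP ((n + 1 : ℕ) : ℤ)
    obtain ⟨e⟩ := ih Ln lamn hLn
    obtain ⟨lam', hL'⟩ := exists_isRelTwist_cast p chart (k := ((n + 1 + 1 : ℕ) : ℤ))
      (k' := ((n + 1 : ℕ) : ℤ) + 1) (by push_cast; ring) L lam hL
    obtain ⟨e2⟩ := nonempty_tensor_iso p chart hP hgen ((n + 1 : ℕ) : ℤ) 1 Ln lamn hLn L₁ lam₁ hL₁ L lam' hL'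
    exact ⟨Groth.Agent.Lib.Helper23.AmpleIso.tensorModIso e (Iso.refl L₁) ≪≫ e2⟩

section compact

variable {A σ : Type u} [CommRing A] [SetLike σ A] [AddSubgroupClass σ A] (𝒜 : ℕ → σ) [GradedRing 𝒜]

/-- if the degree-one part is spanned, over degree-zero coefficients, by a finite set and the ring is generated in
degrees `0, 1`, then `Proj` is quasi-compact. -/
theorem compactSpace_proj_of_gen (hgen : Subring.closure ((𝒜 0 : Set A) ∪ (𝒜 1 : Set A)) = ⊤)
    (T : Finset A) (hT : (↑T : Set A) ⊆ (𝒜 1 : Set A))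
    (hspan : ∀ x ∈ 𝒜 1, ∃ c : A → A, x = ∑ t ∈ T, c t * t) : CompactSpace (Proj 𝒜) := by
  have hcov : ∀ y : ProjectiveSpectrum 𝒜, ∃ t ∈ T, t ∉ y.asHomogeneousIdeal := by
    intro y
    obtain ⟨g, hg, hgy⟩ := exists_degOne_not_mem_of_gen 𝒜 hgen y
    by_contra hcon
    push Not at hcon
    obtain ⟨c, hc⟩ := hspan g hg
    apply hgy
    rw [hc]
    exact Ideal.sum_mem _ fun t ht => Ideal.mul_mem_left _ _ (hcon t ht)
  have huniv : (Set.univ : Set (Proj 𝒜)) = ⋃ t ∈ T, ((Proj.basicOpen 𝒜 t : (Proj 𝒜).Opens) : Set (Proj 𝒜)) := by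
    apply Set.eq_of_subset_of_subset
    · intro y _
      obtain ⟨t, ht, hty⟩ := hcov y
      exact Set.mem_iUnion₂.2 ⟨t, ht, (ProjectiveSpectrum.mem_basicOpen 𝒜 t y).mpr hty⟩
    · exact fun _ _ => trivial
  refine ⟨?_⟩
  rw [huniv]
  refine T.isCompact_biUnion fun t ht => ?_
  exact (Proj.isAffineOpen_basicOpen 𝒜 t (hT ht) Nat.one_pos).isCompact

end compact

end Groth.Agent.Lib.T2H4.RelTwistPow
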