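import Mathlib
import Groth.Prelude.Def_RelProj3
import Groth.Agent.Lib.Helper2RelTwistAmple
import Groth.Agent.Lib.Helper2RelTwistAmpleB
import Groth.Agent.Lib.Helper23RestrJ
import Groth.Agent.Lib.Helper23TensorUnit

/-!
# Ampleness of `O_P(1)` on quasi-compact opens of a (not necessarily quasi-compact) relative Proj (helper4)

* `exists_sec_genLocus` : the section `g/1` of `O_P(d)` over a chart has generating locus `D₊(g)` (extracted from helper2's
  `isAmple_restrict_emb`, which assumes the chart quasi-compact).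
* `isAmple_restrict_finite_cover` : `O_P(1)` restricted to a finite union of `D₊(t)`, `t` of degree one, is ample.
-/

set_option autoImplicit false
set_option linter.style.haveILetI false
universe u
open CategoryTheory Limits AlgebraicGeometry TopologicalSpace Opposite

namespace Groth.Agent.Lib.T2H4.VeryAmple

open Groth.Agent.Lib.Helper2.RelTildeQCoh Groth.Agent.Lib.Helper23.SecTw Groth.Agent.Lib.Helper6
  Groth.Agent.Lib.Helper2.Push Groth.Agent.Lib.Helper2.RelTwistGen Groth.Agent.Lib.Helper2.IsGenCover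
  Groth.Agent.Lib.Helper2.RelTwistTriv Groth.Agent.Lib.Helper2.RelTwistTensor RelProj
  Groth.Agent.Lib.Helper23.GenLocus Groth.Agent.Lib.Helper2.RelTwistInv Groth.Agent.Lib.Helper23.RestrJ
  Groth.Agent.Lib.Helper2GrModSect Groth.Agent.Lib.Helper2.RelTwistAmple

variable {P S : Scheme.{u}} {𝒮 : RelProj.QCGrAlg S} (p : P ⟶ S)
  (chart : ∀ (U : S.Opens) (hU : IsAffineOpen U), (((p ⁻¹ᵁ U : P.Opens) : Scheme.{u}) ≅ Proj (𝒮.deg U hU)))

section chartAmple

variable (d : ℕ) (L : P.Modules)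
  (lam : ∀ (U : S.Opens) (hU : IsAffineOpen U),
    L ⟶ (Scheme.Modules.pushforward (RelProj.emb p chart U hU)).obj (GrTwist.twist (𝒮.deg U hU) (d : ℤ)))
  (hL : RelProj.IsRelTwist 𝒮 p chart (d : ℤ) L lam)

include hL in
/-- the section `g/1` of `O_P(d)` over the chart `Proj 𝒮(V)` has generating locus `D₊(g)` (no quasi-compactness). -/
theorem exists_sec_genLocus (V : S.Opens) (hV : IsAffineOpen V)
    (hcov : ∀ y : ProjectiveSpectrum (𝒮.deg V hV), ∃ g ∈ 𝒮.deg V hV d, g ∉ y.asHomogeneousIdeal)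
    (g : 𝒮.presheaf.obj (op V)) (hg : g ∈ 𝒮.deg V hV d) :
    ∃ σ : Γ(L.restrict (RelProj.emb p chart V hV), ⊤),
      CohB1.genLocus (L.restrict (RelProj.emb p chart V hV))
        (secHom (L.restrict (RelProj.emb p chart V hV)) σ) = Proj.basicOpen (𝒮.deg V hV) g := by
  have h1mem : (1 : 𝒮.presheaf.obj (op V)) ∈ 𝒮.deg V hV 0 := SetLike.GradedOne.one_mem
  have hij : ((d : ℕ) : ℤ) = ((0 : ℕ) : ℤ) + (d : ℤ) := by simp
  -- frames
  have hfr : ∀ (g' : 𝒮.presheaf.obj (op V)) (hg' : g' ∈ 𝒮.deg V hV d),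
      ∃ e : Γ(L, (RelProj.emb p chart V hV) ''ᵁ (Proj.basicOpen (𝒮.deg V hV) g')),
        IsGen L ((RelProj.emb p chart V hV) ''ᵁ (Proj.basicOpen (𝒮.deg V hV) g')) e ∧
        ∀ y : ((RelProj.emb p chart V hV) ⁻¹ᵁ ((RelProj.emb p chart V hV) ''ᵁ
            (Proj.basicOpen (𝒮.deg V hV) g')) : (Proj (𝒮.deg V hV)).Opens),
          GrTwist.val (V := RelProj.emb p chart V hV ⁻¹ᵁ ((RelProj.emb p chart V hV) ''ᵁ
            (Proj.basicOpen (𝒮.deg V hV) g')))
            ((lam V hV).app _ e) y = Localization.mk g' ⟨1, GrMod.one_nin y.1⟩ := by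
    intro g' hg'
    refine exists_frame p chart (d : ℤ) L lam hL V hV _ (image_emb_le p chart V hV _) hg' h1mem hij ?_
      (fun y => GrMod.one_nin y.1)
    rintro ⟨y, h1⟩
    rw [(RelProj.emb p chart V hV).preimage_image_eq] at h1
    exact (ProjectiveSpectrum.mem_basicOpen _ _ y).mp h1
  -- the generating locus of the section `g / 1`
  have hloc : ∀ (g : 𝒮.presheaf.obj (op V)) (hg : g ∈ 𝒮.deg V hV d),
      ∃ σ : Γ(L.restrict (RelProj.emb p chart V hV), ⊤),
        CohB1.genLocus (L.restrict (RelProj.emb p chart V hV))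
          (secHom (L.restrict (RelProj.emb p chart V hV)) σ) = Proj.basicOpen (𝒮.deg V hV) g := by
    intro g hg
    obtain ⟨ℓ, hℓ⟩ := exists_sec p chart d L lam hL V hV hg
    have hle : (RelProj.emb p chart V hV) ''ᵁ ⊤ ≤ p ⁻¹ᵁ V := image_emb_le p chart V hV ⊤
    refine ⟨(show Γ(L.restrict (RelProj.emb p chart V hV), ⊤) from res L hle ℓ), ?_⟩
    refine opens_eq_of_cover _ _ (fun y' => ?_)
    obtain ⟨g', hg', hg'y⟩ := hcov y'
    obtain ⟨E, hE, vE⟩ := hfr g' hg'
    have hA : IsGen (L.restrict (RelProj.emb p chart V hV)) (Proj.basicOpen (𝒮.deg V hV) g')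
        (show Γ(L.restrict (RelProj.emb p chart V hV), Proj.basicOpen (𝒮.deg V hV) g') from E) :=
      isGen_restrict_of_isGen (RelProj.emb p chart V hV) L _ E hE
    refine ⟨Proj.basicOpen (𝒮.deg V hV) g', (ProjectiveSpectrum.mem_basicOpen _ g' y').mpr hg'y, ?_⟩
    rw [genLocus_inf_eq_coef _ hA]
    have hc := (sv_eq_coef_smul (secHom (L.restrict (RelProj.emb p chart V hV))
      (show Γ(L.restrict (RelProj.emb p chart V hV), ⊤) from res L hle ℓ)) hA).symm
    generalize coef hA le_rfl (sv (secHom (L.restrict (RelProj.emb p chart V hV))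
      (show Γ(L.restrict (RelProj.emb p chart V hV), ⊤) from res L hle ℓ))
      (Proj.basicOpen (𝒮.deg V hV) g')) = c at hc ⊢
    rw [sv_secHom] at hc
    have hcL : (upf (RelProj.emb p chart V hV) (Proj.basicOpen (𝒮.deg V hV) g') c • E :
        Γ(L, (RelProj.emb p chart V hV) ''ᵁ (Proj.basicOpen (𝒮.deg V hV) g'))) =
        res L (image_emb_le p chart V hV _) ℓ := by
      have h2 : res L ((RelProj.emb p chart V hV).image_mono
          (le_top : Proj.basicOpen (𝒮.deg V hV) g' ≤ ⊤)) (res L hle ℓ) =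
          res L (image_emb_le p chart V hV _) ℓ := res_res _ _ _ _
      rw [← h2]
      exact hc
    have hval : ∀ (y : ProjectiveSpectrum (𝒮.deg V hV)) (hy : y ∈ Proj.basicOpen (𝒮.deg V hV) g'),
        (funVal (𝒮.deg V hV) (Proj.basicOpen (𝒮.deg V hV) g') c y hy).val =
          Localization.mk g ⟨g', (ProjectiveSpectrum.mem_basicOpen _ g' y).mp hy⟩ := by
      intro y hy
      have hy2 : y ∈ (RelProj.emb p chart V hV) ⁻¹ᵁ ((RelProj.emb p chart V hV) ''ᵁ
          (Proj.basicOpen (𝒮.deg V hV) g')) := by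
        rw [(RelProj.emb p chart V hV).preimage_image_eq]; exact hy
      have H := congrArg (fun τ => GrTwist.val
        (V := RelProj.emb p chart V hV ⁻¹ᵁ ((RelProj.emb p chart V hV) ''ᵁ
          (Proj.basicOpen (𝒮.deg V hV) g')))
        ((lam V hV).app _ τ) ⟨y, hy2⟩) hcL
      simp only at H
      have hsm : GrTwist.val
          (V := RelProj.emb p chart V hV ⁻¹ᵁ ((RelProj.emb p chart V hV) ''ᵁ
            (Proj.basicOpen (𝒮.deg V hV) g')))
          ((lam V hV).app _ (upf (RelProj.emb p chart V hV) (Proj.basicOpen (𝒮.deg V hV) g') c • E))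
            ⟨y, hy2⟩ =
          (funVal (𝒮.deg V hV) _ ((RelProj.emb p chart V hV).app _
            (upf (RelProj.emb p chart V hV) (Proj.basicOpen (𝒮.deg V hV) g') c)) y hy2).val *
          GrTwist.val
            (V := RelProj.emb p chart V hV ⁻¹ᵁ ((RelProj.emb p chart V hV) ''ᵁ
              (Proj.basicOpen (𝒮.deg V hV) g')))
            ((lam V hV).app _ E) ⟨y, hy2⟩ := by
        rw [Scheme.Modules.Hom.app_smul, Groth.Agent.Lib.Helper2.Push.pushforward_smul]
        rfl
      have hnat : GrTwist.val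
          (V := RelProj.emb p chart V hV ⁻¹ᵁ ((RelProj.emb p chart V hV) ''ᵁ
            (Proj.basicOpen (𝒮.deg V hV) g')))
          ((lam V hV).app _ (res L (image_emb_le p chart V hV _) ℓ)) ⟨y, hy2⟩ =
          Localization.mk g ⟨1, GrMod.one_nin y⟩ := by
        have hn := app_map' (lam V hV) (homOfLE (image_emb_le p chart V hV
          (Proj.basicOpen (𝒮.deg V hV) g'))) ℓ
        rw [← hℓ ⟨y, image_emb_le p chart V hV _ hy2⟩]
        change GrTwist.val (V := RelProj.emb p chart V hV ⁻¹ᵁ ((RelProj.emb p chart V hV) ''ᵁ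
            (Proj.basicOpen (𝒮.deg V hV) g')))
          ((lam V hV).app _ (L.presheaf.map (homOfLE (image_emb_le p chart V hV
            (Proj.basicOpen (𝒮.deg V hV) g'))).op ℓ)) ⟨y, hy2⟩ = _
        rw [hn]
        rfl
      rw [hsm, hnat, vE ⟨y, hy2⟩, funVal_app_upf (RelProj.emb p chart V hV) _ c y hy2 hy] at H
      have hu := mk_mul_mk_swap y.asHomogeneousIdeal.toIdeal.primeCompl g' 1
        ((ProjectiveSpectrum.mem_basicOpen _ g' y).mp hy) (GrMod.one_nin y)
      calc (funVal (𝒮.deg V hV) (Proj.basicOpen (𝒮.deg V hV) g') c y hy).val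
          = (funVal (𝒮.deg V hV) (Proj.basicOpen (𝒮.deg V hV) g') c y hy).val *
              (Localization.mk g' ⟨1, GrMod.one_nin y⟩ *
                Localization.mk 1 ⟨g', (ProjectiveSpectrum.mem_basicOpen _ g' y).mp hy⟩) := by
            rw [hu, mul_one]
        _ = Localization.mk g ⟨1, GrMod.one_nin y⟩ *
              Localization.mk 1 ⟨g', (ProjectiveSpectrum.mem_basicOpen _ g' y).mp hy⟩ := by
            rw [← mul_assoc, H]
        _ = Localization.mk g ⟨g', (ProjectiveSpectrum.mem_basicOpen _ g' y).mp hy⟩ := by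
            rw [Localization.mk_mul, Localization.mk_eq_mk_iff, Localization.r_iff_exists]
            refine ⟨1, ?_⟩
            simp
    have hunit : ∀ (y : ProjectiveSpectrum (𝒮.deg V hV)) (hy : y ∈ Proj.basicOpen (𝒮.deg V hV) g'),
        IsUnit (funVal (𝒮.deg V hV) (Proj.basicOpen (𝒮.deg V hV) g') c y hy) ↔
          g ∉ y.asHomogeneousIdeal := fun y hy =>
      isUnit_of_val_eq_mk _ ((ProjectiveSpectrum.mem_basicOpen _ g' y).mp hy) (hval y hy)
    ext y
    constructor
    · intro hy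
      have hyW : y ∈ Proj.basicOpen (𝒮.deg V hV) g' := (Proj (𝒮.deg V hV)).basicOpen_le c hy
      exact ⟨(ProjectiveSpectrum.mem_basicOpen _ g y).mpr ((hunit y hyW).mp
        ((mem_basicOpen_iff_isUnit_funVal (𝒮.deg V hV) _ c y hyW).mp hy)), hyW⟩
    · rintro ⟨hyg, hyW⟩
      exact (mem_basicOpen_iff_isUnit_funVal (𝒮.deg V hV) _ c y hyW).mpr
        ((hunit y hyW).mpr ((ProjectiveSpectrum.mem_basicOpen _ g y).mp hyg))
  exact hloc g hg

include hL in
/-- `O_P(d)` restricted to a finite union of `D₊(t)`, `t` of degree `d > 0`, in a chart is ample (the chart itself need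
not be quasi-compact). -/
theorem isAmple_restrict_finite_cover (hd : 0 < d) (hLinv : PicF.IsInvertible L) (V : S.Opens)
    (hV : IsAffineOpen V)
    (hcov : ∀ y : ProjectiveSpectrum (𝒮.deg V hV), ∃ g ∈ 𝒮.deg V hV d, g ∉ y.asHomogeneousIdeal)
    (T : Finset (𝒮.presheaf.obj (op V))) (hT : ∀ t ∈ T, t ∈ 𝒮.deg V hV d)
    (Q : (Proj (𝒮.deg V hV)).Opens) (hQ : Q = ⨆ t : T, Proj.basicOpen (𝒮.deg V hV) t.1) :
    CohB1.IsAmple ((L.restrict (RelProj.emb p chart V hV)).restrict Q.ι) := by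
  have hN : PicF.IsInvertible (L.restrict (RelProj.emb p chart V hV)) :=
    isInvertible_restrict (RelProj.emb p chart V hV) L hLinv
  have hNQ : PicF.IsInvertible ((L.restrict (RelProj.emb p chart V hV)).restrict Q.ι) :=
    isInvertible_restrict Q.ι _ hN
  have hcomp : IsCompact (Q : Set (Proj (𝒮.deg V hV))) := by
    rw [hQ, Opens.coe_iSup]
    exact isCompact_iUnion (fun t : T => (Proj.isAffineOpen_basicOpen (𝒮.deg V hV) t.1 (hT t.1 t.2) hd).isCompact)
  haveI : CompactSpace ↥(Q : Scheme.{u}) := isCompact_iff_compactSpace.1 hcomp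
  refine ⟨hNQ, inferInstance, fun y => ?_⟩
  have hy : (y.1 : Proj (𝒮.deg V hV)) ∈ ⨆ t : T, Proj.basicOpen (𝒮.deg V hV) t.1 := by
    rw [← hQ]; exact y.2
  obtain ⟨t, hyt⟩ := Opens.mem_iSup.1 hy
  obtain ⟨σ, hσ⟩ := exists_sec_genLocus p chart d L lam hL V hV hcov t.1 (hT t.1 t.2)
  have hle : Proj.basicOpen (𝒮.deg V hV) t.1 ≤ Q := by
    rw [hQ]; exact le_iSup (fun t : T => Proj.basicOpen (𝒮.deg V hV) t.1) t
  have hgl : CohB1.genLocus _ (SecTwist.powHom
      (Groth.Agent.Lib.Helper23.RestrJ.restrSec Q.ι (secHom (L.restrict (RelProj.emb p chart V hV)) σ)) 1) =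
      Q.ι ⁻¹ᵁ Proj.basicOpen (𝒮.deg V hV) t.1 := by
    rw [genLocus_powHom hNQ _ 1 one_pos, Groth.Agent.Lib.Helper23.RestrJ.genLocus_restrSec, hσ]
  refine ⟨0, SecTwist.powHom (Groth.Agent.Lib.Helper23.RestrJ.restrSec Q.ι (secHom (L.restrict (RelProj.emb p chart V hV)) σ)) 1, ?_, ?_⟩
  · rw [hgl]; exact hyt
  · rw [hgl]
    refine (Proj.isAffineOpen_basicOpen (𝒮.deg V hV) t.1 (hT t.1 t.2) hd).preimage_of_isOpenImmersion Q.ι ?_
    rw [Scheme.Opens.opensRange_ι]
    exact hle

end chartAmple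

end Groth.Agent.Lib.T2H4.VeryAmple
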