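import Mathlib
import Groth.Prelude.Def_RelProj3
import Groth.Agent.Lib.T2H4VeryAmpleA
import Groth.Agent.Lib.Helper23PB3

/-!
# `i^* O_P(1)` is relatively ample for a topological embedding `i` into a relative Proj generated in degree one (helper4)
-/

set_option autoImplicit false
set_option linter.style.haveILetI false
universe u
open CategoryTheory Limits AlgebraicGeometry TopologicalSpace Opposite

namespace Groth.Agent.Lib.T2H4.VeryAmple

open Groth.Agent.Lib.Helper2.RelTildeQCoh Groth.Agent.Lib.Helper2.RelTwistGen RelProj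
  Groth.Agent.Lib.Helper2.RelTwistAmpleB Groth.Agent.Lib.Helper23.PB Groth.Agent.Lib.Helper23.AmpleIso

variable {P S X : Scheme.{u}} {𝒮 : RelProj.QCGrAlg S} (p : P ⟶ S)
  (chart : ∀ (U : S.Opens) (hU : IsAffineOpen U), (((p ⁻¹ᵁ U : P.Opens) : Scheme.{u}) ≅ Proj (𝒮.deg U hU)))

/-- **the pullback of `O_P(1)` along a topological embedding `i : X → P` into a relative Proj generated in degree one is
ample over the preimage of every affine open `V` of the base over which `X` is quasi-compact.** -/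
theorem isAmple_restrict_of_isEmbedding (hgen : 𝒮.IsGenDegOne) (O1 : P.Modules)
    (lam : ∀ (U : S.Opens) (hU : IsAffineOpen U),
      O1 ⟶ (Scheme.Modules.pushforward (RelProj.emb p chart U hU)).obj
        (GrTwist.twist (𝒮.deg U hU) ((1 : ℕ) : ℤ)))
    (hO1 : RelProj.IsRelTwist 𝒮 p chart ((1 : ℕ) : ℤ) O1 lam)
    (i : X ⟶ P) (hi : Topology.IsEmbedding i.base) (V : S.Opens) (hV : IsAffineOpen V)
    (hc : IsCompact ((i ⁻¹ᵁ (p ⁻¹ᵁ V) : X.Opens) : Set X)) :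
    CohB1.IsAmple (((Scheme.Modules.pullback i).obj O1).restrict (i ⁻¹ᵁ (p ⁻¹ᵁ V)).ι) := by
  classical
  have hcov1 : ∀ y : ProjectiveSpectrum (𝒮.deg V hV), ∃ g ∈ 𝒮.deg V hV 1, g ∉ y.asHomogeneousIdeal :=
    fun y => exists_degOne_not_mem_of_gen (𝒮.deg V hV) (hgen V hV) y
  have hinv : PicF.IsInvertible O1 := isInvertible_of_cover p chart 1 O1 lam hO1
    (fun V hV y => exists_degOne_not_mem_of_gen (𝒮.deg V hV) (hgen V hV) y)
  obtain ⟨XV, hXV⟩ : ∃ XV : X.Opens, XV = i ⁻¹ᵁ (p ⁻¹ᵁ V) := ⟨_, rfl⟩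
  rw [← hXV] at hc ⊢
  haveI : CompactSpace ↥(XV : Scheme.{u}) := isCompact_iff_compactSpace.1 hc
  have hrange : Set.range (XV.ι ≫ i).base ⊆ Set.range (RelProj.emb p chart V hV).base := by
    rintro _ ⟨z, rfl⟩
    have h1 : (XV.ι ≫ i) z ∈ p ⁻¹ᵁ V := by
      have h2 : z.1 ∈ i ⁻¹ᵁ (p ⁻¹ᵁ V) := hXV ▸ z.2
      exact h2
    exact le_opensRange_emb p chart V hV h1
  let i₀ : (XV : Scheme.{u}) ⟶ Proj (𝒮.deg V hV) :=
    IsOpenImmersion.lift (RelProj.emb p chart V hV) (XV.ι ≫ i) hrange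
  have hi₀ : i₀ ≫ RelProj.emb p chart V hV = XV.ι ≫ i := IsOpenImmersion.lift_fac _ _ _
  obtain ⟨T', hT'⟩ : ∃ T' : Finset {t : 𝒮.presheaf.obj (op V) // t ∈ 𝒮.deg V hV 1},
      (Set.univ : Set ↥(XV : Scheme.{u})) ⊆
        ⋃ t ∈ T', ((i₀ ⁻¹ᵁ Proj.basicOpen (𝒮.deg V hV) t.1 : (XV : Scheme.{u}).Opens) :
          Set ↥(XV : Scheme.{u})) :=
    isCompact_univ.elim_finite_subcover
      (fun t : {t : 𝒮.presheaf.obj (op V) // t ∈ 𝒮.deg V hV 1} =>
        ((i₀ ⁻¹ᵁ Proj.basicOpen (𝒮.deg V hV) t.1 : (XV : Scheme.{u}).Opens) : Set ↥(XV : Scheme.{u})))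
      (fun t => (i₀ ⁻¹ᵁ Proj.basicOpen (𝒮.deg V hV) t.1).2)
      (fun z _ => by
        obtain ⟨g, hg, hgz⟩ := hcov1 (i₀ z)
        exact Set.mem_iUnion.2 ⟨⟨g, hg⟩, (ProjectiveSpectrum.mem_basicOpen _ g _).mpr hgz⟩)
  let T : Finset (𝒮.presheaf.obj (op V)) := T'.image Subtype.val
  have hT : ∀ t ∈ T, t ∈ 𝒮.deg V hV 1 := by
    intro t ht
    obtain ⟨t', _, rfl⟩ := Finset.mem_image.1 ht
    exact t'.2
  obtain ⟨Q, hQ⟩ : ∃ Q : (Proj (𝒮.deg V hV)).Opens, Q = ⨆ t : T, Proj.basicOpen (𝒮.deg V hV) t.1 :=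
    ⟨_, rfl⟩
  have hrangeQ : Set.range i₀.base ⊆ Set.range Q.ι.base := by
    rintro _ ⟨z, rfl⟩
    rw [Scheme.Opens.range_ι, hQ]
    obtain ⟨t, ht⟩ := Set.mem_iUnion.1 (hT' (Set.mem_univ z))
    obtain ⟨htT, hzt⟩ := Set.mem_iUnion.1 ht
    exact Opens.mem_iSup.2 ⟨⟨t.1, Finset.mem_image_of_mem _ htT⟩, hzt⟩
  let iQ : (XV : Scheme.{u}) ⟶ (Q : Scheme.{u}) := IsOpenImmersion.lift Q.ι i₀ hrangeQ
  have hiQ : iQ ≫ Q.ι = i₀ := IsOpenImmersion.lift_fac _ _ _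
  have w : iQ ≫ (Q.ι ≫ RelProj.emb p chart V hV) = XV.ι ≫ i := by
    rw [← Category.assoc, hiQ, hi₀]
  have hemb : Topology.IsEmbedding iQ.base := by
    have h1 : Topology.IsEmbedding (XV.ι ≫ i).base := by
      rw [Scheme.Hom.comp_base, TopCat.coe_comp]
      exact hi.comp XV.ι.isOpenEmbedding.isEmbedding
    rw [← w, Scheme.Hom.comp_base, TopCat.coe_comp] at h1
    exact Topology.IsEmbedding.of_comp iQ.continuous (Q.ι ≫ RelProj.emb p chart V hV).continuous h1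
  have hample := isAmple_restrict_finite_cover p chart 1 O1 lam hO1 one_pos hinv V hV hcov1 T hT Q hQ
  have h3 := isAmple_pullback_of_isEmbedding iQ hemb _ hample
  refine isAmple_of_iso ?_ h3
  exact ((pullbackRestrictIso' i O1 XV.ι (Q.ι ≫ RelProj.emb p chart V hV) iQ w) ≪≫
    (Scheme.Modules.pullback iQ).mapIso
      ((Scheme.Modules.restrictFunctorComp Q.ι (RelProj.emb p chart V hV)).app O1)).symm

end Groth.Agent.Lib.T2H4.VeryAmple
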