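import Mathlib
import Groth.Prelude.Def_RelProj3
import Groth.Agent.Lib.T2H4VeryAmpleB
import Groth.Agent.Lib.Helper13SymAlgLocal
import Groth.Agent.Lib.T2H4RelTwistPowA

/-!
# Relatively very ample modules are relatively ample (helper4)

* `isGenDegOne_of_isGrSymAlg` : a graded symmetric algebra of a quasi-coherent module is generated in degree one.
* `isRelAmple_of_isRelVeryAmple`
-/

set_option autoImplicit false
set_option linter.style.haveILetI false
universe u
open CategoryTheory Limits AlgebraicGeometry TopologicalSpace Opposite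

namespace Groth.Agent.Lib.T2H4.VeryAmple

open RelProj Groth.Agent.Helper13SymAlg Groth.Agent.Helper13SymLoc Groth.Agent.Lib.Helper23.AmpleIso

/-- a graded symmetric algebra of a quasi-coherent module is generated in degree one -/
theorem isGenDegOne_of_isGrSymAlg {S : Scheme.{u}} (E : S.Modules) (hE : Coh.IsQCoh E) (𝒮 : RelProj.QCGrAlg S)
    (j : E ⟶ 𝒮.toModule) (h : RelProj.IsGrSymAlg E 𝒮 j) : 𝒮.IsGenDegOne := by
  haveI : E.IsQuasicoherent := hE
  intro U hU
  rw [eq_top_iff]
  intro x _
  obtain ⟨y, rfl⟩ := (bijective_σ E U hU h.1).2 x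
  clear * - h
  induction y using SymmetricAlgebra.induction with
  | algebraMap a =>
    refine Subring.subset_closure (Or.inl ?_)
    unfold σ
    rw [symLift_algebraMap]
    exact 𝒮.str_mem U hU a
  | ι m =>
    refine Subring.subset_closure (Or.inr ?_)
    unfold σ
    rw [symLift_ι]
    exact h.2 U hU m
  | mul a b ha hb => rw [map_mul]; exact Subring.mul_mem _ ha hb
  | add a b ha hb => rw [map_add]; exact Subring.add_mem _ ha hb

open Groth.Agent.Lib.T2H4.RelTwistPow in
/-- **a relatively very ample module (for a quasi-compact morphism) is relatively ample.** -/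
theorem isRelAmple_of_isRelVeryAmple {X Y : Scheme.{u}} (f : X ⟶ Y) [QuasiCompact f] (L : X.Modules)
    (h : RelProj.IsRelVeryAmple f L) : RelAmple.IsRelAmple f L := by
  obtain ⟨E, hE, 𝒮, j, hsym, P, p, chart, hP, O1, lam, hO1, i, hi, hif, ⟨e⟩⟩ := h
  subst hif
  have hgen : 𝒮.IsGenDegOne := isGenDegOne_of_isGrSymAlg E hE 𝒮 j hsym
  obtain ⟨lam', hO1'⟩ := exists_isRelTwist_cast p chart (k := 1) (k' := ((1 : ℕ) : ℤ)) Nat.cast_one.symm
    O1 lam hO1
  refine ⟨inferInstance, fun V => ?_⟩
  have hc : IsCompact ((i ⁻¹ᵁ (p ⁻¹ᵁ V.1) : X.Opens) : Set X) :=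
    (i ≫ p).isCompact_preimage V.2.isCompact
  have h1 := isAmple_restrict_of_isEmbedding p chart hgen O1 lam' hO1' i i.isEmbedding V.1 V.2 hc
  exact isAmple_of_iso ((Scheme.Modules.restrictFunctor ((i ≫ p) ⁻¹ᵁ V.1).ι).mapIso e.symm) h1

end Groth.Agent.Lib.T2H4.VeryAmple
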