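import Mathlib
import Groth.Prelude.Def_RelProj3
import Groth.Agent.Lib.T2H4GrSymB
import Groth.Agent.Lib.Helper13ProjExist
import Groth.Agent.Lib.Helper2RelTwistExist
import Groth.Agent.Lib.Helper2RelTwistPullback
import Groth.Agent.Lib.Helper18QCAlg1
import Groth.Agent.Lib.Helper13RelProjE
import Groth.Agent.Lib.Helper27RelProj5
import Groth.Agent.Lib.T2H4VeryAmpleC

/-!
# Projective bundles exist; a relative Proj generated in degree one embeds into a projective bundle (helper4)

* `isGradedHom_of_deg_one` : a homomorphism out of the graded symmetric algebra sending `E` into degree one is graded.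
* `proj1 𝒮 : 𝒮.toModule ⟶ 𝒮.toModule`, the projection onto the degree-one part.
* `exists_projBundle` : the projective bundle of a quasi-coherent module, with its `O(1)`.
* `exists_closedImmersion_projBundle` : `Proj(𝒮)`, `𝒮` generated in degree one, is a closed subscheme of a projective
  bundle, compatibly with `O(1)`.
-/

set_option autoImplicit false
set_option linter.style.haveILetI false
set_option linter.unusedSectionVars false
universe u
open CategoryTheory Limits AlgebraicGeometry TopologicalSpace Opposite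
open scoped HomogeneousIdeal

namespace Groth.Agent.Lib.T2H4.GrSym

open Scheme.AffineZariskiSite Groth.Agent.Helper13SymLoc Groth.Agent.Helper13QCAlgOfAffine
  Groth.Agent.Helper13SymAlg Groth.Agent.Helper13ModAffine

noncomputable section

variable {S : Scheme.{u}}

/-- a homomorphism out of the graded symmetric algebra sending `E` into degree one is graded -/
theorem isGradedHom_of_deg_one (E : S.Modules) [E.IsQuasicoherent] (𝒯 : RelProj.QCGrAlg S)
    (ψ : (grSymAlg E).toQCAlg ⟶ 𝒯.toQCAlg)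
    (h1 : ∀ (U : S.Opens) (hU : IsAffineOpen U) (m : Γ(E, U)),
      (((jGr E ≫ RelSpec.QCAlg.Hom.toModuleMap ψ).app U) m : 𝒯.presheaf.obj (op U)) ∈ 𝒯.deg U hU 1) :
    RelProj.IsGradedHom ψ := by
  intro U hU d x hx
  replace hx := (mem_grSymAlg_deg E (hU := hU) (x := (x : (symAlg E).presheaf.obj (op U)))).mp hx
  have key := map_mem_of_mem_symDeg Γ(S, U) Γ(E, U) (𝒯.deg U hU)
    ((ψ.hom.app (op U)).hom.comp (inv (γ E U hU)).hom) (fun r => ?_) (fun m => ?_) hx
  · have h2 : ((ψ.hom.app (op U)).hom.comp (inv (γ E U hU)).hom) ((γ E U hU).hom x) =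
        (ψ.hom.app (op U)).hom x := by
      change (ψ.hom.app (op U)).hom ((inv (γ E U hU)).hom ((γ E U hU).hom x)) = _
      rw [inv_γ_γ]
    rw [h2] at key
    exact key
  · change (ψ.hom.app (op U)).hom ((inv (γ E U hU)).hom (algebraMap _ _ r)) ∈ _
    rw [inv_γ_algebraMap]
    have h0 := NatTrans.congr_app ψ.comm (op U)
    rw [NatTrans.comp_app] at h0
    have h3 : (ψ.hom.app (op U)).hom (((symAlg E).str.app (op U)).hom r) = (𝒯.str.app (op U)).hom r := by
      rw [← h0]; rfl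
    rw [h3]
    exact 𝒯.str_mem U hU r
  · change (ψ.hom.app (op U)).hom ((inv (γ E U hU)).hom (SymmetricAlgebra.ι _ _ m)) ∈ _
    have h4 := h1 U hU m
    have h5 : (((jGr E ≫ RelSpec.QCAlg.Hom.toModuleMap ψ).app U) m : 𝒯.presheaf.obj (op U)) =
        (ψ.hom.app (op U)).hom ((inv (γ E U hU)).hom (SymmetricAlgebra.ι _ _ m)) := by
      change (ψ.hom.app (op U)).hom (((j E).app U m : (symAlg E).presheaf.obj (op U))) = _
      rw [j_app E U hU, jAff_apply]
    rw [h5] at h4
    exact h4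

section proj1

variable (𝒮 : RelProj.QCGrAlg S)

/-- the projection onto the degree-one part, over an affine open -/
def proj1Aff (U : S.Opens) (hU : IsAffineOpen U) : Γ(𝒮.toModule, U) ⟶ Γ(𝒮.toModule, U) :=
  let f : 𝒮.presheaf.obj (op U) →+ 𝒮.presheaf.obj (op U) := GradedRing.proj (𝒮.deg U hU) 1
  (AddCommGrpCat.ofHom f :
    AddCommGrpCat.of (𝒮.presheaf.obj (op U)) ⟶ AddCommGrpCat.of (𝒮.presheaf.obj (op U)))

theorem proj1Aff_apply (U : S.Opens) (hU : IsAffineOpen U) (x : 𝒮.presheaf.obj (op U)) :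
    ((proj1Aff 𝒮 U hU).hom x : 𝒮.presheaf.obj (op U)) =
      (DirectSum.decompose (𝒮.deg U hU) x 1 : 𝒮.presheaf.obj (op U)) := rfl

theorem decompose_str_mul (U : S.Opens) (hU : IsAffineOpen U) (a : Γ(S, U)) (x : 𝒮.presheaf.obj (op U)) :
    (DirectSum.decompose (𝒮.deg U hU) ((𝒮.str.app (op U)).hom a * x) 1 : 𝒮.presheaf.obj (op U)) =
      (𝒮.str.app (op U)).hom a * (DirectSum.decompose (𝒮.deg U hU) x 1 : 𝒮.presheaf.obj (op U)) := by
  have := DirectSum.coe_decompose_mul_add_of_left_mem (𝒮.deg U hU) (i := 0) (j := 1)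
    (b := x) (𝒮.str_mem U hU a)
  rw [zero_add] at this
  exact this

theorem decompose_res {U V : S.Opens} (hU : IsAffineOpen U) (hV : IsAffineOpen V) (i : V ≤ U)
    (x : 𝒮.presheaf.obj (op U)) :
    (DirectSum.decompose (𝒮.deg V hV) ((𝒮.presheaf.map (homOfLE i).op).hom x) 1 : 𝒮.presheaf.obj (op V)) =
      (𝒮.presheaf.map (homOfLE i).op).hom
        (DirectSum.decompose (𝒮.deg U hU) x 1 : 𝒮.presheaf.obj (op U)) := by
  have := GradedRingHom.map_directSumDecompose (𝒮.deg U hU) (𝒮.deg V hV) (𝒮.res hU hV i) (x := x) (i := 1)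
  exact this.symm

theorem proj1_nat {U V : S.AffineZariskiSite} (i : V ⟶ U) :
    𝒮.toModule.presheaf.map (homOfLE (toOpens_mono i.le)).op ≫ proj1Aff 𝒮 V.1 V.2 =
      proj1Aff 𝒮 U.1 U.2 ≫ 𝒮.toModule.presheaf.map (homOfLE (toOpens_mono i.le)).op := by
  ext x
  exact decompose_res 𝒮 _ _ (toOpens_mono i.le) x

theorem proj1_lin (U : S.Opens) (hU : IsAffineOpen U) (a : Γ(S, U)) (m : Γ(𝒮.toModule, U)) :
    proj1Aff 𝒮 U hU (a • m) = a • proj1Aff 𝒮 U hU m :=
  decompose_str_mul 𝒮 U hU a m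

/-- the projection of a quasi-coherent graded algebra onto its degree-one part, as a map of modules -/
def proj1 : 𝒮.toModule ⟶ 𝒮.toModule :=
  homOfAffine (fun U hU => proj1Aff 𝒮 U hU) (fun i => proj1_nat 𝒮 i) (fun U hU a m => proj1_lin 𝒮 U hU a m)

theorem proj1_app (U : S.Opens) (hU : IsAffineOpen U) : (proj1 𝒮).app U = proj1Aff 𝒮 U hU :=
  homOfAffine_app (fun U hU => proj1Aff 𝒮 U hU) (fun i => proj1_nat 𝒮 i)
    (fun U hU a m => proj1_lin 𝒮 U hU a m) U hU

theorem proj1_app_mem (U : S.Opens) (hU : IsAffineOpen U) (x : Γ(𝒮.toModule, U)) :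
    (((proj1 𝒮).app U) x : 𝒮.presheaf.obj (op U)) ∈ 𝒮.deg U hU 1 := by
  rw [proj1_app 𝒮 U hU]
  exact SetLike.coe_mem (DirectSum.decompose (𝒮.deg U hU) (show 𝒮.presheaf.obj (op U) from x) 1)

theorem proj1_app_of_mem (U : S.Opens) (hU : IsAffineOpen U) (x : 𝒮.presheaf.obj (op U))
    (hx : x ∈ 𝒮.deg U hU 1) :
    (((proj1 𝒮).app U) (show Γ(𝒮.toModule, U) from x) : 𝒮.presheaf.obj (op U)) = x := by
  rw [proj1_app 𝒮 U hU]
  exact DirectSum.decompose_of_mem_same (𝒮.deg U hU) hx

end proj1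

end

end Groth.Agent.Lib.T2H4.GrSym
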