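import Mathlib
import Groth.Prelude.Def_RelProj3
import Groth.Agent.Lib.T2H4GrSymC

/-!
# Projective bundles exist; `Proj(𝒮)` for `𝒮` generated in degree one is a closed subscheme of a projective bundle
(helper4)
-/

set_option autoImplicit false
set_option linter.style.haveILetI false
set_option linter.unusedSectionVars false
universe u
open CategoryTheory Limits AlgebraicGeometry TopologicalSpace Opposite
open scoped HomogeneousIdeal

namespace Groth.Agent.Lib.T2H4.GrSym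

open Groth.Agent.Helper13SymAlg Groth.Agent.Helper13ProjBC

variable {S : Scheme.{u}}

/-- **the projective bundle of a quasi-coherent module exists**, with its fundamental sheaf `O(1)` -/
theorem exists_projBundle (E : S.Modules) (hE : Coh.IsQCoh E) :
    ∃ (𝒯 : RelProj.QCGrAlg S) (j : E ⟶ 𝒯.toModule) (_ : RelProj.IsGrSymAlg E 𝒯 j)
      (P : Scheme.{u}) (p : P ⟶ S)
      (chart : ∀ (U : S.Opens) (hU : IsAffineOpen U), (((p ⁻¹ᵁ U : P.Opens) : Scheme.{u}) ≅ Proj (𝒯.deg U hU)))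
      (_ : RelProj.IsRelProj 𝒯 p chart) (O1 : P.Modules)
      (lam : ∀ (U : S.Opens) (hU : IsAffineOpen U),
        O1 ⟶ (Scheme.Modules.pushforward (RelProj.emb p chart U hU)).obj (GrTwist.twist (𝒯.deg U hU) 1)),
      RelProj.IsRelTwist 𝒯 p chart 1 O1 lam := by
  haveI : E.IsQuasicoherent := hE
  obtain ⟨O1, lam, hO1⟩ := Groth.Agent.Lib.Helper2.RelTwistExist.exists_isRelTwist _ _
    (isRelProj_relProj (grSymAlg E)) 1
  exact ⟨grSymAlg E, jGr E, isGrSymAlg E, relProj (grSymAlg E), relProjπ (grSymAlg E),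
    relProjChart (grSymAlg E), isRelProj_relProj (grSymAlg E), O1, lam, hO1⟩

/-- **a relative Proj of an algebra generated in degree one is a closed subscheme of a projective bundle**,
compatibly with the sheaves `O(1)` -/
theorem exists_closedImmersion_projBundle {P : Scheme.{u}} (𝒮 : RelProj.QCGrAlg S) (h𝒮 : 𝒮.IsGenDegOne)
    (p : P ⟶ S)
    (chart : ∀ (U : S.Opens) (hU : IsAffineOpen U), ((p ⁻¹ᵁ U : P.Opens) : Scheme.{u}) ≅ Proj (𝒮.deg U hU))
    (hP : RelProj.IsRelProj 𝒮 p chart) (O1 : P.Modules)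
    (lam : ∀ (U : S.Opens) (hU : IsAffineOpen U),
      O1 ⟶ (Scheme.Modules.pushforward (RelProj.emb p chart U hU)).obj (GrTwist.twist (𝒮.deg U hU) 1))
    (hO1 : RelProj.IsRelTwist 𝒮 p chart 1 O1 lam) :
    ∃ (E : S.Modules) (_ : Coh.IsQCoh E) (𝒯 : RelProj.QCGrAlg S) (j : E ⟶ 𝒯.toModule)
      (_ : RelProj.IsGrSymAlg E 𝒯 j) (P' : Scheme.{u}) (p' : P' ⟶ S)
      (chart' : ∀ (U : S.Opens) (hU : IsAffineOpen U),
        (((p' ⁻¹ᵁ U : P'.Opens) : Scheme.{u}) ≅ Proj (𝒯.deg U hU)))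
      (_ : RelProj.IsRelProj 𝒯 p' chart') (O1' : P'.Modules)
      (lam' : ∀ (U : S.Opens) (hU : IsAffineOpen U),
        O1' ⟶ (Scheme.Modules.pushforward (RelProj.emb p' chart' U hU)).obj (GrTwist.twist (𝒯.deg U hU) 1))
      (_ : RelProj.IsRelTwist 𝒯 p' chart' 1 O1' lam') (h : P ⟶ P'),
      IsClosedImmersion h ∧ h ≫ p' = p ∧ Nonempty ((Scheme.Modules.pullback h).obj O1' ≅ O1) := by
  have hE : Coh.IsQCoh 𝒮.toModule := Groth.Agent.Helper18QCAlg.isQuasicoherent_toModule 𝒮.toQCAlg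
  haveI : (𝒮.toModule).IsQuasicoherent := hE
  obtain ⟨ψ₀, hψ, -⟩ := (isSymAlg 𝒮.toModule) 𝒮.toQCAlg (proj1 𝒮)
  obtain ⟨ψ, rfl⟩ : ∃ ψ : (grSymAlg 𝒮.toModule).toQCAlg ⟶ 𝒮.toQCAlg, ψ = ψ₀ := ⟨ψ₀, rfl⟩
  have hψ' : jGr 𝒮.toModule ≫ RelSpec.QCAlg.Hom.toModuleMap ψ = proj1 𝒮 := hψ
  have hgr : RelProj.IsGradedHom ψ := by
    refine isGradedHom_of_deg_one 𝒮.toModule 𝒮 ψ (fun U hU m => ?_)
    rw [hψ']
    exact proj1_app_mem 𝒮 U hU m
  have hsurj : ∀ (U : S.Opens) (hU : IsAffineOpen U) (n : ℕ), 0 < n → ∀ y ∈ 𝒮.deg U hU n,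
      ∃ x ∈ (grSymAlg 𝒮.toModule).deg U hU n, RelProj.gradedHomAt ψ hgr U hU x = y := by
    intro U hU n hn y hy
    refine Groth.Agent.Lib.Helper27RelProj5.surjective_pos_of_gen (RelProj.gradedHomAt ψ hgr U hU)
      (h𝒮 U hU) (fun b hb => ?_) n hn y hy
    refine ⟨((jGr 𝒮.toModule).app U) (show Γ(𝒮.toModule, U) from b), ?_⟩
    have h1 := congrArg (fun φ : 𝒮.toModule ⟶ 𝒮.toModule => (φ.app U) (show Γ(𝒮.toModule, U) from b)) hψ'
    exact h1.trans (proj1_app_of_mem 𝒮 U hU b hb)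
  have hirr : ∀ (U : S.Opens) (hU : IsAffineOpen U),
      (𝒮.deg U hU)₊ ≤ (((grSymAlg 𝒮.toModule).deg U hU)₊).map (RelProj.gradedHomAt ψ hgr U hU) := by
    intro U hU
    rw [HomogeneousIdeal.irrelevant_le]
    intro i hi b hb
    obtain ⟨a, ha, rfl⟩ := hsurj U hU i hi b hb
    exact Ideal.mem_map_of_mem _ (HomogeneousIdeal.mem_irrelevant_of_mem _ hi ha)
  have hP' := isRelProj_relProj (grSymAlg 𝒮.toModule)
  obtain ⟨O1', lam', hO1'⟩ := Groth.Agent.Lib.Helper2.RelTwistExist.exists_isRelTwist _ _ hP' 1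
  obtain ⟨h, hh⟩ := Groth.Agent.Helper13RelProj.exists_relProjMap ψ hgr hirr hP' hP
  have hci : IsClosedImmersion h :=
    Groth.Agent.Lib.Helper27RelProj4.relProjMap_of_charts (P := @IsClosedImmersion) ψ hgr hirr hP' hP hh
      (fun U hU => Groth.Agent.Helper13RelProj.isClosedImmersion_map_of_surjective_pos _ _ (hsurj U hU))
  have hover : h ≫ relProjπ (grSymAlg 𝒮.toModule) = p :=
    Groth.Agent.Lib.Helper27RelProj4.relProjMap_over ψ hgr hirr hP' hP hh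
  have hgenT : (grSymAlg 𝒮.toModule).IsGenDegOne :=
    Groth.Agent.Lib.T2H4.VeryAmple.isGenDegOne_of_isGrSymAlg 𝒮.toModule hE _ _ (isGrSymAlg 𝒮.toModule)
  have hiso := Groth.Agent.Lib.Helper2.RelTwistPullback.nonempty_pullback_iso ψ hgr hirr
    (relProjπ (grSymAlg 𝒮.toModule)) p (relProjChart (grSymAlg 𝒮.toModule)) chart h 1 O1' lam' hO1' O1 lam hO1
    hP' hP hh hgenT
  exact ⟨𝒮.toModule, hE, grSymAlg 𝒮.toModule, jGr 𝒮.toModule, isGrSymAlg 𝒮.toModule, _, _, _, hP', O1', lam',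
    hO1', h, hci, hover, hiso⟩

end Groth.Agent.Lib.T2H4.GrSym
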