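import Mathlib
import Groth.Prelude.Def_RelProj3
import Groth.Agent.Lib.T2H4VeryAmpleC

/-!
# The projective bundle `P(E)`: the sets `D₊(j e)`, `e` a section of `E`, cover the charts (helper4)
-/

set_option autoImplicit false
set_option linter.style.haveILetI false
universe u
open CategoryTheory Limits AlgebraicGeometry TopologicalSpace Opposite
open scoped HomogeneousIdeal

namespace Groth.Agent.Lib.T2H4.ProjBundle

open RelProj Groth.Agent.Helper13SymAlg Groth.Agent.Helper13SymLoc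

/-- modulo the ideal `I`, containing the image of `E`, every element of the symmetric algebra is a function -/
theorem exists_sub_str_mem {S : Scheme.{u}} (E : S.Modules) (hE : Coh.IsQCoh E) (𝒮 : RelProj.QCGrAlg S)
    (j : E ⟶ 𝒮.toModule) (h : RelProj.IsGrSymAlg E 𝒮 j) (U : S.Opens) (hU : IsAffineOpen U)
    (I : Ideal (𝒮.presheaf.obj (op U)))
    (hI : ∀ e : Γ(E, U), ((j.app U) e : 𝒮.presheaf.obj (op U)) ∈ I) (x : 𝒮.presheaf.obj (op U)) :
    ∃ a : Γ(S, U), x - (𝒮.str.app (op U)).hom a ∈ I := by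
  haveI : E.IsQuasicoherent := hE
  obtain ⟨y, rfl⟩ := (bijective_σ E U hU h.1).2 x
  clear h
  induction y using SymmetricAlgebra.induction with
  | algebraMap a =>
    refine ⟨a, ?_⟩
    unfold σ
    rw [symLift_algebraMap, sub_self]
    exact zero_mem _
  | ι m =>
    refine ⟨0, ?_⟩
    unfold σ
    rw [symLift_ι, map_zero, sub_zero]
    exact hI m
  | mul a b ha hb =>
    obtain ⟨a₁, h₁⟩ := ha
    obtain ⟨a₂, h₂⟩ := hb
    refine ⟨a₁ * a₂, ?_⟩
    rw [map_mul, map_mul]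
    have : σ E 𝒮.toQCAlg j U a * σ E 𝒮.toQCAlg j U b -
        (𝒮.str.app (op U)).hom a₁ * (𝒮.str.app (op U)).hom a₂ =
        σ E 𝒮.toQCAlg j U a * (σ E 𝒮.toQCAlg j U b - (𝒮.str.app (op U)).hom a₂) +
        (σ E 𝒮.toQCAlg j U a - (𝒮.str.app (op U)).hom a₁) * (𝒮.str.app (op U)).hom a₂ := by ring
    rw [this]
    exact I.add_mem (I.mul_mem_left _ h₂) (I.mul_mem_right _ h₁)
  | add a b ha hb =>
    obtain ⟨a₁, h₁⟩ := ha
    obtain ⟨a₂, h₂⟩ := hb
    refine ⟨a₁ + a₂, ?_⟩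
    rw [map_add, map_add]
    have : σ E 𝒮.toQCAlg j U a + σ E 𝒮.toQCAlg j U b -
        ((𝒮.str.app (op U)).hom a₁ + (𝒮.str.app (op U)).hom a₂) =
        (σ E 𝒮.toQCAlg j U a - (𝒮.str.app (op U)).hom a₁) +
        (σ E 𝒮.toQCAlg j U b - (𝒮.str.app (op U)).hom a₂) := by ring
    rw [this]
    exact I.add_mem h₁ h₂

/-- **on a chart of `P(E)`, every point lies in some `D₊(j e)`.** -/
theorem exists_not_mem_of_isGrSymAlg {S : Scheme.{u}} (E : S.Modules) (hE : Coh.IsQCoh E)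
    (𝒮 : RelProj.QCGrAlg S) (j : E ⟶ 𝒮.toModule) (h : RelProj.IsGrSymAlg E 𝒮 j) (U : S.Opens)
    (hU : IsAffineOpen U) (y : ProjectiveSpectrum (𝒮.deg U hU)) :
    ∃ e : Γ(E, U), ((j.app U) e : 𝒮.presheaf.obj (op U)) ∉ y.asHomogeneousIdeal := by
  by_contra hcon
  push Not at hcon
  apply y.not_irrelevant_le
  intro x hx
  rw [HomogeneousIdeal.mem_irrelevant_iff] at hx
  obtain ⟨a, ha⟩ := exists_sub_str_mem E hE 𝒮 j h U hU y.asHomogeneousIdeal.toIdeal hcon x
  have h0 : (DirectSum.decompose (𝒮.deg U hU) (x - (𝒮.str.app (op U)).hom a) 0 :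
      𝒮.presheaf.obj (op U)) ∈ y.asHomogeneousIdeal.toIdeal :=
    y.asHomogeneousIdeal.isHomogeneous 0 ha
  have h1 : (DirectSum.decompose (𝒮.deg U hU) (x - (𝒮.str.app (op U)).hom a) 0 :
      𝒮.presheaf.obj (op U)) = - (𝒮.str.app (op U)).hom a := by
    rw [DirectSum.decompose_sub, DirectSum.sub_apply, AddSubgroupClass.coe_sub,
      DirectSum.decompose_of_mem_same _ (𝒮.str_mem U hU a)]
    have h2 : (DirectSum.decompose (𝒮.deg U hU) x 0 : 𝒮.presheaf.obj (op U)) = 0 := hx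
    rw [h2, zero_sub]
  rw [h1] at h0
  have h3 : (𝒮.str.app (op U)).hom a ∈ y.asHomogeneousIdeal.toIdeal := by
    have := y.asHomogeneousIdeal.toIdeal.neg_mem h0
    rwa [neg_neg] at this
  have h4 : x = (x - (𝒮.str.app (op U)).hom a) + (𝒮.str.app (op U)).hom a := by ring
  rw [h4]
  exact y.asHomogeneousIdeal.toIdeal.add_mem ha h3

end Groth.Agent.Lib.T2H4.ProjBundle
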