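import Mathlib
import Groth.Prelude.Def_RelProj3
import Groth.Agent.Lib.T2H4ProjBundleA
import Groth.Agent.Lib.Helper27RelProj4
import Groth.Agent.Lib.Helper23QCohAbelian

/-!
# `P(E) ⨿ P(F) ⟶ P(E ⊕ F)` is a closed immersion (helper4)

* `isClosedImmersion_coprod_desc` : the copairing of two closed immersions with disjoint ranges is a closed immersion.
* `surjective_of_isSymAlg` : a homomorphism of quasi-coherent algebras into a symmetric algebra of a quasi-coherent
  module `E` hitting the image of `E` is surjective over affine opens.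
-/

set_option autoImplicit false
set_option linter.style.haveILetI false
universe u
open CategoryTheory Limits AlgebraicGeometry TopologicalSpace Opposite
open scoped HomogeneousIdeal

namespace Groth.Agent.Lib.T2H4.ProjBundle

open RelProj Groth.Agent.Helper13SymAlg Groth.Agent.Helper13SymLoc

/-- the copairing of two closed immersions with disjoint ranges is a closed immersion -/
theorem isClosedImmersion_coprod_desc {X X' P : Scheme.{u}} (f : X ⟶ P) (g : X' ⟶ P)
    [IsClosedImmersion f] [IsClosedImmersion g] (h : ∀ (x : X) (y : X'), f.base x ≠ g.base y) :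
    IsClosedImmersion (coprod.desc f g) := by
  have hs : SurjectiveOnStalks (coprod.desc f g) := by
    rw [IsZariskiLocalAtSource.iff_of_openCover (P := @SurjectiveOnStalks) (coprodOpenCover.{u, 0} X X')]
    rintro (_ | _)
    · change SurjectiveOnStalks (coprod.inl ≫ coprod.desc f g)
      rw [coprod.inl_desc]
      infer_instance
    · change SurjectiveOnStalks (coprod.inr ≫ coprod.desc f g)
      rw [coprod.inr_desc]
      infer_instance
  have hfun : (coprod.desc f g).base ∘ (coprodMk X X') = Sum.elim f.base g.base := by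
    funext w
    rcases w with x | y
    · change (coprod.desc f g).base (coprodMk X X' (Sum.inl x)) = f.base x
      rw [coprodMk_inl]
      change (coprod.inl ≫ coprod.desc f g).base x = _
      rw [coprod.inl_desc]
    · change (coprod.desc f g).base (coprodMk X X' (Sum.inr y)) = g.base y
      rw [coprodMk_inr]
      change (coprod.inr ≫ coprod.desc f g).base y = _
      rw [coprod.inr_desc]
  have hinj : Function.Injective (Sum.elim f.base g.base) := by
    rintro (x | y) (x' | y') hxy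
    · exact congrArg Sum.inl (f.isClosedEmbedding.injective hxy)
    · exact absurd hxy (h x y')
    · exact absurd hxy.symm (h x' y)
    · exact congrArg Sum.inr (g.isClosedEmbedding.injective hxy)
  have hce : Topology.IsClosedEmbedding (Sum.elim f.base g.base) :=
    Topology.IsClosedEmbedding.sumElim f.isClosedEmbedding g.isClosedEmbedding hinj
  have hce' : Topology.IsClosedEmbedding (coprod.desc f g).base := by
    have h1 : (coprod.desc f g).base = Sum.elim f.base g.base ∘ (coprodMk X X').symm := by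
      rw [← hfun]
      funext w
      simp
    rw [h1]
    exact hce.comp (coprodMk X X').symm.isClosedEmbedding
  exact { toSurjectiveOnStalks := hs, isClosedEmbedding := hce' }

/-- a homomorphism of quasi-coherent algebras into a symmetric algebra of a quasi-coherent module `E` which hits the
image of `E` is surjective over affine opens -/
theorem surjective_of_isSymAlg {S : Scheme.{u}} (E : S.Modules) (hE : Coh.IsQCoh E) (A : RelSpec.QCAlg S)
    (j : E ⟶ A.toModule) (h : RelSpec.IsSymAlg E A j) (B : RelSpec.QCAlg S) (π : B ⟶ A)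
    (U : S.Opens) (hU : IsAffineOpen U)
    (hπ : ∀ e : Γ(E, U), ∃ b : B.presheaf.obj (op U),
      (π.hom.app (op U)).hom b = ((j.app U) e : A.presheaf.obj (op U))) :
    Function.Surjective (π.hom.app (op U)).hom := by
  haveI : E.IsQuasicoherent := hE
  intro x
  obtain ⟨y, rfl⟩ := (bijective_σ E U hU h).2 x
  clear h
  induction y using SymmetricAlgebra.induction with
  | algebraMap a =>
    refine ⟨(B.str.app (op U)).hom a, ?_⟩
    unfold σ
    rw [symLift_algebraMap]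
    have h0 := NatTrans.congr_app π.comm (op U)
    rw [NatTrans.comp_app] at h0
    rw [← h0]
    rfl
  | ι m =>
    obtain ⟨b, hb⟩ := hπ m
    refine ⟨b, ?_⟩
    unfold σ
    rw [symLift_ι]
    exact hb
  | mul a b ha hb =>
    obtain ⟨a₁, h₁⟩ := ha
    obtain ⟨a₂, h₂⟩ := hb
    exact ⟨a₁ * a₂, by rw [map_mul, map_mul, h₁, h₂]⟩
  | add a b ha hb =>
    obtain ⟨a₁, h₁⟩ := ha
    obtain ⟨a₂, h₂⟩ := hb
    exact ⟨a₁ + a₂, by rw [map_add, map_add, h₁, h₂]⟩


section disj

variable {Y PE PF P : Scheme.{u}} (E F : Y.Modules)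
    (hE : Coh.IsQCoh E) (hF : Coh.IsQCoh F) (𝒮E 𝒮F 𝒮 : RelProj.QCGrAlg Y)
    (jE : E ⟶ 𝒮E.toModule) (jF : F ⟶ 𝒮F.toModule)
    (j : E ⊞ F ⟶ 𝒮.toModule) (hj : RelProj.IsGrSymAlg (E ⊞ F) 𝒮 j)
    (πE : 𝒮.toQCAlg ⟶ 𝒮E.toQCAlg) (hπE : RelProj.IsGradedHom πE)
    (hjπE : j ≫ RelSpec.QCAlg.Hom.toModuleMap πE = biprod.fst ≫ jE)
    (πF : 𝒮.toQCAlg ⟶ 𝒮F.toQCAlg) (hπF : RelProj.IsGradedHom πF)
    (hjπF : j ≫ RelSpec.QCAlg.Hom.toModuleMap πF = biprod.snd ≫ jF)
    (hirrE : ∀ (U : Y.Opens) (hU : IsAffineOpen U),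
      (𝒮E.deg U hU)₊ ≤ ((𝒮.deg U hU)₊).map (RelProj.gradedHomAt πE hπE U hU))
    (hirrF : ∀ (U : Y.Opens) (hU : IsAffineOpen U),
      (𝒮F.deg U hU)₊ ≤ ((𝒮.deg U hU)₊).map (RelProj.gradedHomAt πF hπF U hU))

include hE hF hj hjπE hjπF in
/-- the images of `Proj 𝒮E(U)` and `Proj 𝒮F(U)` in `Proj 𝒮(U)` are disjoint -/
theorem map_ne_map (U : Y.Opens) (hU : IsAffineOpen U)
    (x : ProjectiveSpectrum (𝒮E.deg U hU)) (y : ProjectiveSpectrum (𝒮F.deg U hU)) :
    (Proj.map (RelProj.gradedHomAt πE hπE U hU) (hirrE U hU)).base x ≠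
      (Proj.map (RelProj.gradedHomAt πF hπF U hU) (hirrF U hU)).base y := by
  intro heq
  haveI : E.IsQuasicoherent := hE
  haveI : F.IsQuasicoherent := hF
  have hEF : Coh.IsQCoh (E ⊞ F) := Groth.Agent.Lib.Helper23.QCohLocal.isQuasicoherent_biprod E F
  obtain ⟨w, hw⟩ := exists_not_mem_of_isGrSymAlg (E ⊞ F) hEF 𝒮 j hj U hU
    ((Proj.map (RelProj.gradedHomAt πE hπE U hU) (hirrE U hU)).base x)
  apply hw
  have hdec : w = (biprod.inl : E ⟶ E ⊞ F).app U ((biprod.fst : E ⊞ F ⟶ E).app U w) +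
      (biprod.inr : F ⟶ E ⊞ F).app U ((biprod.snd : E ⊞ F ⟶ F).app U w) := by
    have h1 := congrArg (fun φ : E ⊞ F ⟶ E ⊞ F => (φ.app U) w) (biprod.total (X := E) (Y := F))
    simp only [Scheme.Modules.Hom.add_app] at h1
    exact h1.symm
  rw [hdec, map_add]
  refine Ideal.add_mem _ ?_ ?_
  · -- `j (inl e)` lies in the image point of `y`
    rw [heq]
    by_contra hcon
    have h1 : (Proj.map (RelProj.gradedHomAt πF hπF U hU) (hirrF U hU)).base y ∈
        Proj.basicOpen (𝒮.deg U hU) ((j.app U) ((biprod.inl : E ⟶ E ⊞ F).app U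
          ((biprod.fst : E ⊞ F ⟶ E).app U w)) : 𝒮.presheaf.obj (op U)) :=
      (ProjectiveSpectrum.mem_basicOpen _ _ _).mpr hcon
    have h2 : y ∈ Proj.basicOpen (𝒮F.deg U hU) ((RelProj.gradedHomAt πF hπF U hU)
        ((j.app U) ((biprod.inl : E ⟶ E ⊞ F).app U
          ((biprod.fst : E ⊞ F ⟶ E).app U w)) : 𝒮.presheaf.obj (op U))) := h1
    have h3 : (RelProj.gradedHomAt πF hπF U hU)
        ((j.app U) ((biprod.inl : E ⟶ E ⊞ F).app U
          ((biprod.fst : E ⊞ F ⟶ E).app U w)) : 𝒮.presheaf.obj (op U)) = 0 := by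
      have h4 := congrArg (fun φ : E ⊞ F ⟶ 𝒮F.toModule => (φ.app U)
        ((biprod.inl : E ⟶ E ⊞ F).app U ((biprod.fst : E ⊞ F ⟶ E).app U w))) hjπF
      have h5 : (biprod.snd : E ⊞ F ⟶ F).app U ((biprod.inl : E ⟶ E ⊞ F).app U
          ((biprod.fst : E ⊞ F ⟶ E).app U w)) = 0 := by
        have h6 := congrArg (fun φ : E ⟶ F => (φ.app U) ((biprod.fst : E ⊞ F ⟶ E).app U w))
          (biprod.inl_snd (X := E) (Y := F))
        exact h6
      have h7 : (jF.app U) ((biprod.snd : E ⊞ F ⟶ F).app U ((biprod.inl : E ⟶ E ⊞ F).app U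
          ((biprod.fst : E ⊞ F ⟶ E).app U w))) = 0 := by rw [h5, map_zero]
      exact h4.trans h7
    rw [h3] at h2
    exact (ProjectiveSpectrum.mem_basicOpen _ _ _).mp h2 (Ideal.zero_mem _)
  · by_contra hcon
    have h1 : (Proj.map (RelProj.gradedHomAt πE hπE U hU) (hirrE U hU)).base x ∈
        Proj.basicOpen (𝒮.deg U hU) ((j.app U) ((biprod.inr : F ⟶ E ⊞ F).app U
          ((biprod.snd : E ⊞ F ⟶ F).app U w)) : 𝒮.presheaf.obj (op U)) :=
      (ProjectiveSpectrum.mem_basicOpen _ _ _).mpr hcon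
    have h2 : x ∈ Proj.basicOpen (𝒮E.deg U hU) ((RelProj.gradedHomAt πE hπE U hU)
        ((j.app U) ((biprod.inr : F ⟶ E ⊞ F).app U
          ((biprod.snd : E ⊞ F ⟶ F).app U w)) : 𝒮.presheaf.obj (op U))) := h1
    have h3 : (RelProj.gradedHomAt πE hπE U hU)
        ((j.app U) ((biprod.inr : F ⟶ E ⊞ F).app U
          ((biprod.snd : E ⊞ F ⟶ F).app U w)) : 𝒮.presheaf.obj (op U)) = 0 := by
      have h4 := congrArg (fun φ : E ⊞ F ⟶ 𝒮E.toModule => (φ.app U)
        ((biprod.inr : F ⟶ E ⊞ F).app U ((biprod.snd : E ⊞ F ⟶ F).app U w))) hjπE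
      have h5 : (biprod.fst : E ⊞ F ⟶ E).app U ((biprod.inr : F ⟶ E ⊞ F).app U
          ((biprod.snd : E ⊞ F ⟶ F).app U w)) = 0 := by
        have h6 := congrArg (fun φ : F ⟶ E => (φ.app U) ((biprod.snd : E ⊞ F ⟶ F).app U w))
          (biprod.inr_fst (X := E) (Y := F))
        exact h6
      have h7 : (jE.app U) ((biprod.fst : E ⊞ F ⟶ E).app U ((biprod.inr : F ⟶ E ⊞ F).app U
          ((biprod.snd : E ⊞ F ⟶ F).app U w))) = 0 := by rw [h5, map_zero]
      exact h4.trans h7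
    rw [h3] at h2
    exact (ProjectiveSpectrum.mem_basicOpen _ _ _).mp h2 (Ideal.zero_mem _)


variable (p : P ⟶ Y) (pE : PE ⟶ Y) (pF : PF ⟶ Y)
    (chart : ∀ (U : Y.Opens) (hU : IsAffineOpen U), ((p ⁻¹ᵁ U : P.Opens) : Scheme.{u}) ≅ Proj (𝒮.deg U hU))
    (chartE : ∀ (U : Y.Opens) (hU : IsAffineOpen U), ((pE ⁻¹ᵁ U : PE.Opens) : Scheme.{u}) ≅ Proj (𝒮E.deg U hU))
    (chartF : ∀ (U : Y.Opens) (hU : IsAffineOpen U), ((pF ⁻¹ᵁ U : PF.Opens) : Scheme.{u}) ≅ Proj (𝒮F.deg U hU))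
    (hP : RelProj.IsRelProj 𝒮 p chart) (hPE : RelProj.IsRelProj 𝒮E pE chartE) (hPF : RelProj.IsRelProj 𝒮F pF chartF)
    (hE' : PE ⟶ P) (hhE : RelProj.IsRelProjMap πE hπE hirrE chart chartE hE')
    (hF' : PF ⟶ P) (hhF : RelProj.IsRelProjMap πF hπF hirrF chart chartF hF')

include hE hF hj hjπE hjπF hP hPE hPF hhE hhF in
/-- the images of `P(E)` and `P(F)` in `P(E ⊕ F)` are disjoint -/
theorem base_ne_base (x : PE) (y : PF) : hE'.base x ≠ hF'.base y := by
  intro heq
  have hoE : hE' ≫ p = pE := Groth.Agent.Lib.Helper27RelProj4.relProjMap_over πE hπE hirrE hP hPE hhE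
  have hoF : hF' ≫ p = pF := Groth.Agent.Lib.Helper27RelProj4.relProjMap_over πF hπF hirrF hP hPF hhF
  obtain ⟨U, hU, hxU, -⟩ := exists_isAffineOpen_mem_and_subset (x := pE.base x) (U := ⊤) trivial
  have hx : x ∈ pE ⁻¹ᵁ U := hxU
  have hy : y ∈ pF ⁻¹ᵁ U := by
    change pF.base y ∈ U
    have h1 : pF.base y = pE.base x := by
      rw [← hoF, ← hoE]
      change p.base (hF'.base y) = p.base (hE'.base x)
      rw [heq]
    rw [h1]
    exact hxU
  have h1 : hE'.base x = ((chart U hU).inv ≫ (p ⁻¹ᵁ U).ι).base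
      ((Proj.map (RelProj.gradedHomAt πE hπE U hU) (hirrE U hU)).base
        ((chartE U hU).hom.base ⟨x, hx⟩)) := by
    have := congrArg (fun φ : ((pE ⁻¹ᵁ U : PE.Opens) : Scheme.{u}) ⟶ P => φ.base ⟨x, hx⟩) (hhE U hU)
    exact this
  have h2 : hF'.base y = ((chart U hU).inv ≫ (p ⁻¹ᵁ U).ι).base
      ((Proj.map (RelProj.gradedHomAt πF hπF U hU) (hirrF U hU)).base
        ((chartF U hU).hom.base ⟨y, hy⟩)) := by
    have := congrArg (fun φ : ((pF ⁻¹ᵁ U : PF.Opens) : Scheme.{u}) ⟶ P => φ.base ⟨y, hy⟩) (hhF U hU)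
    exact this
  have h3 : (Proj.map (RelProj.gradedHomAt πE hπE U hU) (hirrE U hU)).base
        ((chartE U hU).hom.base ⟨x, hx⟩) =
      (Proj.map (RelProj.gradedHomAt πF hπF U hU) (hirrF U hU)).base
        ((chartF U hU).hom.base ⟨y, hy⟩) := by
    apply ((chart U hU).inv ≫ (p ⁻¹ᵁ U).ι).isOpenEmbedding.injective
    rw [← h1, ← h2, heq]
  exact map_ne_map E F hE hF 𝒮E 𝒮F 𝒮 jE jF j hj πE hπE hjπE πF hπF hjπF hirrE hirrF U hU _ _ h3

end disj

end Groth.Agent.Lib.T2H4.ProjBundle
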