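import Mathlib
import Groth.Prelude.Def_RelProj3
import Groth.Agent.Lib.T2H4GrSymD
import Groth.Agent.Lib.T2H4ProjBundleC
import Groth.Agent.Lib.Helper23FinTypeLocal

/-!
# An epimorphism `E ⟶ F` of quasi-coherent modules induces a closed immersion `P(F) ⟶ P(E)` (helper4)
-/

set_option autoImplicit false
set_option linter.style.haveILetI false
set_option linter.unusedSectionVars false
universe u
open CategoryTheory Limits AlgebraicGeometry TopologicalSpace Opposite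
open scoped HomogeneousIdeal

namespace Groth.Agent.Lib.T2H4.GrSym

open Groth.Agent.Helper13SymAlg Groth.Agent.Helper13ProjBC

variable {S : Scheme.{u}}

/-- **`P(F) ⟶ P(E)` for an epimorphism `E ⟶ F`**: a closed immersion over the base, compatible with `O(1)` -/
theorem exists_closedImmersion_of_epi {P PE : Scheme.{u}} (E F : S.Modules) (hE : Coh.IsQCoh E)
    (hF : Coh.IsQCoh F) (φ : E ⟶ F) [Epi φ]
    (𝒮 : RelProj.QCGrAlg S) (j : F ⟶ 𝒮.toModule) (hj : RelProj.IsGrSymAlg F 𝒮 j) (p : P ⟶ S)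
    (chart : ∀ (U : S.Opens) (hU : IsAffineOpen U), ((p ⁻¹ᵁ U : P.Opens) : Scheme.{u}) ≅ Proj (𝒮.deg U hU))
    (hP : RelProj.IsRelProj 𝒮 p chart) (O1 : P.Modules)
    (lam : ∀ (U : S.Opens) (hU : IsAffineOpen U),
      O1 ⟶ (Scheme.Modules.pushforward (RelProj.emb p chart U hU)).obj (GrTwist.twist (𝒮.deg U hU) 1))
    (hO1 : RelProj.IsRelTwist 𝒮 p chart 1 O1 lam)
    (𝒯 : RelProj.QCGrAlg S) (jE : E ⟶ 𝒯.toModule) (hjE : RelProj.IsGrSymAlg E 𝒯 jE) (pE : PE ⟶ S)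
    (chartE : ∀ (U : S.Opens) (hU : IsAffineOpen U), ((pE ⁻¹ᵁ U : PE.Opens) : Scheme.{u}) ≅ Proj (𝒯.deg U hU))
    (hPE : RelProj.IsRelProj 𝒯 pE chartE) (O1E : PE.Modules)
    (lamE : ∀ (U : S.Opens) (hU : IsAffineOpen U),
      O1E ⟶ (Scheme.Modules.pushforward (RelProj.emb pE chartE U hU)).obj (GrTwist.twist (𝒯.deg U hU) 1))
    (hO1E : RelProj.IsRelTwist 𝒯 pE chartE 1 O1E lamE)
    (h𝒯 : ∀ (𝒰 : RelProj.QCGrAlg S) (ψ : 𝒯.toQCAlg ⟶ 𝒰.toQCAlg),
      (∀ (U : S.Opens) (hU : IsAffineOpen U) (m : Γ(E, U)),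
        (((jE ≫ RelSpec.QCAlg.Hom.toModuleMap ψ).app U) m : 𝒰.presheaf.obj (op U)) ∈ 𝒰.deg U hU 1) →
      RelProj.IsGradedHom ψ) :
    ∃ h : P ⟶ PE, IsClosedImmersion h ∧ h ≫ pE = p ∧ Nonempty ((Scheme.Modules.pullback h).obj O1E ≅ O1) := by
  haveI : E.IsQuasicoherent := hE
  haveI : F.IsQuasicoherent := hF
  obtain ⟨ψ, hψ, -⟩ := hjE.1 𝒮.toQCAlg (φ ≫ j)
  have hgr : RelProj.IsGradedHom ψ := by
    refine h𝒯 𝒮 ψ (fun U hU m => ?_)
    rw [hψ]
    exact hj.2 U hU ((φ.app U) m)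
  have hsurj : ∀ (U : S.Opens) (hU : IsAffineOpen U),
      Function.Surjective (RelProj.gradedHomAt ψ hgr U hU) := by
    intro U hU
    refine Groth.Agent.Lib.T2H4.ProjBundle.surjective_of_isSymAlg F hF 𝒮.toQCAlg j hj.1 𝒯.toQCAlg ψ U hU
      (fun e => ?_)
    obtain ⟨e', rfl⟩ := Groth.Agent.Lib.Helper23.FinType.surjective_app_of_epi φ hU e
    refine ⟨(jE.app U) e', ?_⟩
    exact congrArg (fun χ : E ⟶ 𝒮.toModule => (χ.app U) e') hψ
  have hirr : ∀ (U : S.Opens) (hU : IsAffineOpen U),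
      (𝒮.deg U hU)₊ ≤ ((𝒯.deg U hU)₊).map (RelProj.gradedHomAt ψ hgr U hU) := by
    intro U hU
    rw [HomogeneousIdeal.irrelevant_le]
    intro i hi b hb
    obtain ⟨a, ha, rfl⟩ := Groth.Agent.Lib.Helper27RelProj4.exists_mem_of_surjective
      (RelProj.gradedHomAt ψ hgr U hU) (hsurj U hU) hb
    exact Ideal.mem_map_of_mem _ (HomogeneousIdeal.mem_irrelevant_of_mem _ hi ha)
  obtain ⟨h, hh⟩ := Groth.Agent.Helper13RelProj.exists_relProjMap ψ hgr hirr hPE hP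
  have hci : IsClosedImmersion h :=
    Groth.Agent.Lib.Helper27RelProj4.relProjMap_of_charts (P := @IsClosedImmersion) ψ hgr hirr hPE hP hh
      (fun U hU => Groth.Agent.Lib.Helper27RelProj4.map_isClosedImmersion _ _ (hsurj U hU))
  have hover : h ≫ pE = p := Groth.Agent.Lib.Helper27RelProj4.relProjMap_over ψ hgr hirr hPE hP hh
  have hgenT : 𝒯.IsGenDegOne :=
    Groth.Agent.Lib.T2H4.VeryAmple.isGenDegOne_of_isGrSymAlg E hE _ _ hjE
  have hiso := Groth.Agent.Lib.Helper2.RelTwistPullback.nonempty_pullback_iso ψ hgr hirr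
    pE p chartE chart h 1 O1E lamE hO1E O1 lam hO1 hPE hP hh hgenT
  exact ⟨h, hci, hover, hiso⟩

end Groth.Agent.Lib.T2H4.GrSym
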