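import Mathlib
import Groth.Agent.Lib.T2H4GrSymE
import Groth.Agent.S5734

/-!
# `P(E) ⨿ P(F)` as a closed subscheme of `P(E ⊕ F)`, with the sheaves `O(1)` (helper4)
-/

set_option autoImplicit false
set_option linter.style.haveILetI false
set_option linter.unusedSectionVars false
universe u
open CategoryTheory Limits AlgebraicGeometry TopologicalSpace Opposite
open scoped HomogeneousIdeal

namespace Groth.Agent.Lib.T2H4.CoprodVA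

open Groth.Agent.Lib.T2H4.GrSym Groth.Agent.Helper13SymAlg Groth.Agent.Helper13ProjBC

variable {S : Scheme.{u}}

/-- **`P(F) ⟶ P(E)` for an epimorphism `E ⟶ F`**, keeping the graded homomorphism inducing it -/
theorem exists_relProjMap_of_epi {P PE : Scheme.{u}} (E F : S.Modules) (hE : Coh.IsQCoh E)
    (hF : Coh.IsQCoh F) (φ : E ⟶ F) [Epi φ]
    (𝒮 : RelProj.QCGrAlg S) (j : F ⟶ 𝒮.toModule) (hj : RelProj.IsGrSymAlg F 𝒮 j) (p : P ⟶ S)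
    (chart : ∀ (U : S.Opens) (hU : IsAffineOpen U), ((p ⁻¹ᵁ U : P.Opens) : Scheme.{u}) ≅ Proj (𝒮.deg U hU))
    (hP : RelProj.IsRelProj 𝒮 p chart) (O1 : P.Modules)
    (lam : ∀ (U : S.Opens) (hU : IsAffineOpen U),
      O1 ⟶ (Scheme.Modules.pushforward (RelProj.emb p chart U hU)).obj (GrTwist.twist (𝒮.deg U hU) 1))
    (hO1 : RelProj.IsRelTwist 𝒮 p chart 1 O1 lam)
    (𝒯 : RelProj.QCGrAlg S) (jE : E ⟶ 𝒯.toModule) (hjE : RelProj.IsGrSymAlg E 𝒯 jE) (pE : PE ⟶ S)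
    (chartE : ∀ (U : S.Opens) (hU : IsAffineOpen U), ((pE ⁻¹ᵁ U : PE.Opens) : Scheme.{u}) ≅ Proj (𝒯.deg U hU))
    (hPE : RelProj.IsRelProj 𝒯 pE chartE) (O1E : PE.Modules)
    (lamE : ∀ (U : S.Opens) (hU : IsAffineOpen U),
      O1E ⟶ (Scheme.Modules.pushforward (RelProj.emb pE chartE U hU)).obj (GrTwist.twist (𝒯.deg U hU) 1))
    (hO1E : RelProj.IsRelTwist 𝒯 pE chartE 1 O1E lamE)
    (h𝒯 : ∀ (𝒰 : RelProj.QCGrAlg S) (ψ : 𝒯.toQCAlg ⟶ 𝒰.toQCAlg),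
      (∀ (U : S.Opens) (hU : IsAffineOpen U) (m : Γ(E, U)),
        (((jE ≫ RelSpec.QCAlg.Hom.toModuleMap ψ).app U) m : 𝒰.presheaf.obj (op U)) ∈ 𝒰.deg U hU 1) →
      RelProj.IsGradedHom ψ) :
    ∃ (ψ : 𝒯.toQCAlg ⟶ 𝒮.toQCAlg) (hgr : RelProj.IsGradedHom ψ)
      (_ : jE ≫ RelSpec.QCAlg.Hom.toModuleMap ψ = φ ≫ j)
      (hirr : ∀ (U : S.Opens) (hU : IsAffineOpen U),
        (𝒮.deg U hU)₊ ≤ ((𝒯.deg U hU)₊).map (RelProj.gradedHomAt ψ hgr U hU))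
      (h : P ⟶ PE), RelProj.IsRelProjMap ψ hgr hirr chartE chart h ∧ h ≫ pE = p ∧
        Nonempty ((Scheme.Modules.pullback h).obj O1E ≅ O1) := by
  haveI : E.IsQuasicoherent := hE
  haveI : F.IsQuasicoherent := hF
  obtain ⟨ψ, hψ, -⟩ := hjE.1 𝒮.toQCAlg (φ ≫ j)
  have hgr : RelProj.IsGradedHom ψ := by
    refine h𝒯 𝒮 ψ (fun U hU m => ?_)
    rw [hψ]
    exact hj.2 U hU ((φ.app U) m)
  have hsurj : ∀ (U : S.Opens) (hU : IsAffineOpen U),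
      Function.Surjective (RelProj.gradedHomAt ψ hgr U hU) := by
    intro U hU
    refine Groth.Agent.Lib.T2H4.ProjBundle.surjective_of_isSymAlg F hF 𝒮.toQCAlg j hj.1 𝒯.toQCAlg ψ U hU
      (fun e => ?_)
    obtain ⟨e', rfl⟩ := Groth.Agent.Lib.Helper23.FinType.surjective_app_of_epi φ hU e
    refine ⟨(jE.app U) e', ?_⟩
    exact congrArg (fun χ : E ⟶ 𝒮.toModule => (χ.app U) e') hψ
  have hirr : ∀ (U : S.Opens) (hU : IsAffineOpen U),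
      (𝒮.deg U hU)₊ ≤ ((𝒯.deg U hU)₊).map (RelProj.gradedHomAt ψ hgr U hU) := by
    intro U hU
    rw [HomogeneousIdeal.irrelevant_le]
    intro i hi b hb
    obtain ⟨a, ha, rfl⟩ := Groth.Agent.Lib.Helper27RelProj4.exists_mem_of_surjective
      (RelProj.gradedHomAt ψ hgr U hU) (hsurj U hU) hb
    exact Ideal.mem_map_of_mem _ (HomogeneousIdeal.mem_irrelevant_of_mem _ hi ha)
  obtain ⟨h, hh⟩ := Groth.Agent.Helper13RelProj.exists_relProjMap ψ hgr hirr hPE hP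
  have hover : h ≫ pE = p := Groth.Agent.Lib.Helper27RelProj4.relProjMap_over ψ hgr hirr hPE hP hh
  have hgenT : 𝒯.IsGenDegOne :=
    Groth.Agent.Lib.T2H4.VeryAmple.isGenDegOne_of_isGrSymAlg E hE _ _ hjE
  have hiso := Groth.Agent.Lib.Helper2.RelTwistPullback.nonempty_pullback_iso ψ hgr hirr
    pE p chartE chart h 1 O1E lamE hO1E O1 lam hO1 hPE hP hh hgenT
  exact ⟨ψ, hgr, hψ, hirr, h, hh, hover, hiso⟩

/-- **`P(E) ⨿ P(F)` is a closed subscheme of `P(E ⊕ F)`**, compatibly with the sheaves `O(1)` -/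
theorem exists_sum_embedding {Y PE PF : Scheme.{u}} (E F : Y.Modules)
    (hE : Coh.IsQCoh E) (hF : Coh.IsQCoh F) (𝒮E 𝒮F : RelProj.QCGrAlg Y)
    (jE : E ⟶ 𝒮E.toModule) (hjE : RelProj.IsGrSymAlg E 𝒮E jE)
    (jF : F ⟶ 𝒮F.toModule) (hjF : RelProj.IsGrSymAlg F 𝒮F jF)
    (pE : PE ⟶ Y) (pF : PF ⟶ Y)
    (chartE : ∀ (U : Y.Opens) (hU : IsAffineOpen U), ((pE ⁻¹ᵁ U : PE.Opens) : Scheme.{u}) ≅ Proj (𝒮E.deg U hU))
    (chartF : ∀ (U : Y.Opens) (hU : IsAffineOpen U), ((pF ⁻¹ᵁ U : PF.Opens) : Scheme.{u}) ≅ Proj (𝒮F.deg U hU))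
    (hPE : RelProj.IsRelProj 𝒮E pE chartE) (hPF : RelProj.IsRelProj 𝒮F pF chartF)
    (O1E : PE.Modules)
    (lamE : ∀ (U : Y.Opens) (hU : IsAffineOpen U),
      O1E ⟶ (Scheme.Modules.pushforward (RelProj.emb pE chartE U hU)).obj (GrTwist.twist (𝒮E.deg U hU) 1))
    (hO1E : RelProj.IsRelTwist 𝒮E pE chartE 1 O1E lamE)
    (O1F : PF.Modules)
    (lamF : ∀ (U : Y.Opens) (hU : IsAffineOpen U),
      O1F ⟶ (Scheme.Modules.pushforward (RelProj.emb pF chartF U hU)).obj (GrTwist.twist (𝒮F.deg U hU) 1))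
    (hO1F : RelProj.IsRelTwist 𝒮F pF chartF 1 O1F lamF) :
    ∃ (_ : Coh.IsQCoh (E ⊞ F)) (𝒮 : RelProj.QCGrAlg Y) (j : E ⊞ F ⟶ 𝒮.toModule)
      (_ : RelProj.IsGrSymAlg (E ⊞ F) 𝒮 j) (P : Scheme.{u}) (p : P ⟶ Y)
      (chart : ∀ (U : Y.Opens) (hU : IsAffineOpen U), (((p ⁻¹ᵁ U : P.Opens) : Scheme.{u}) ≅ Proj (𝒮.deg U hU)))
      (_ : RelProj.IsRelProj 𝒮 p chart) (O1 : P.Modules)
      (lam : ∀ (U : Y.Opens) (hU : IsAffineOpen U),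
        O1 ⟶ (Scheme.Modules.pushforward (RelProj.emb p chart U hU)).obj (GrTwist.twist (𝒮.deg U hU) 1))
      (_ : RelProj.IsRelTwist 𝒮 p chart 1 O1 lam) (hE' : PE ⟶ P) (hF' : PF ⟶ P),
      IsClosedImmersion (coprod.desc hE' hF') ∧ hE' ≫ p = pE ∧ hF' ≫ p = pF ∧
        Nonempty ((Scheme.Modules.pullback hE').obj O1 ≅ O1E) ∧
        Nonempty ((Scheme.Modules.pullback hF').obj O1 ≅ O1F) := by
  haveI : E.IsQuasicoherent := hE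
  haveI : F.IsQuasicoherent := hF
  have hG : Coh.IsQCoh (E ⊞ F) := Groth.Agent.Lib.Helper23.QCohLocal.isQuasicoherent_biprod E F
  haveI : (E ⊞ F).IsQuasicoherent := hG
  have hPG := isRelProj_relProj (grSymAlg (E ⊞ F))
  obtain ⟨O1, lam, hO1⟩ := Groth.Agent.Lib.Helper2.RelTwistExist.exists_isRelTwist _ _ hPG 1
  obtain ⟨πE, hπE, hjπE, hirrE, hE', hhE, hoE, isoE⟩ := exists_relProjMap_of_epi (E ⊞ F) E hG hE biprod.fst
    𝒮E jE hjE pE chartE hPE O1E lamE hO1E (grSymAlg (E ⊞ F)) (jGr (E ⊞ F)) (isGrSymAlg (E ⊞ F)) _ _ hPG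
    O1 lam hO1 (fun 𝒰 ψ h1 => isGradedHom_of_deg_one (E ⊞ F) 𝒰 ψ h1)
  obtain ⟨πF, hπF, hjπF, hirrF, hF', hhF, hoF, isoF⟩ := exists_relProjMap_of_epi (E ⊞ F) F hG hF biprod.snd
    𝒮F jF hjF pF chartF hPF O1F lamF hO1F (grSymAlg (E ⊞ F)) (jGr (E ⊞ F)) (isGrSymAlg (E ⊞ F)) _ _ hPG
    O1 lam hO1 (fun 𝒰 ψ h1 => isGradedHom_of_deg_one (E ⊞ F) 𝒰 ψ h1)
  refine ⟨hG, grSymAlg (E ⊞ F), jGr (E ⊞ F), isGrSymAlg (E ⊞ F), _, _, _, hPG, O1, lam, hO1, hE', hF',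
    ?_, hoE, hoF, isoE, isoF⟩
  exact Groth.Agent.S5734.result E F hE hF 𝒮E 𝒮F (grSymAlg (E ⊞ F)) jE hjE jF hjF (jGr (E ⊞ F))
    (isGrSymAlg (E ⊞ F)) πE hπE hjπE πF hπF hjπF hirrE hirrF _ pE pF _ chartE chartF hPG hPE hPF hE' hhE hF' hhF

end Groth.Agent.Lib.T2H4.CoprodVA
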