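import Mathlib
import Groth.Agent.Lib.T2H4CoprodModA
import Groth.Agent.Lib.T2H4CoprodVAB

/-!
# Relative very ampleness on a disjoint union (helper4)
-/

set_option autoImplicit false
set_option linter.style.haveILetI false
set_option linter.unusedSectionVars false
universe u
open CategoryTheory Limits AlgebraicGeometry TopologicalSpace Opposite
open scoped HomogeneousIdeal

namespace Groth.Agent.Lib.T2H4.CoprodVA

/-- the disjoint union of two immersions is an immersion -/
theorem isImmersion_coprod_map {X X' P P' : Scheme.{u}} (f : X ⟶ P) (g : X' ⟶ P') [IsImmersion f]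
    [IsImmersion g] : IsImmersion (coprod.map f g) := by
  rw [IsZariskiLocalAtTarget.iff_of_openCover (P := @IsImmersion) (coprodOpenCover.{_, 0} P P')]
  rintro (_ | _)
  · have hpb := (isPullback_inl_inl_coprodMap f g).flip
    change IsImmersion (pullback.snd (coprod.map f g) coprod.inl)
    rw [← MorphismProperty.cancel_left_of_respectsIso @IsImmersion hpb.isoPullback.hom,
      IsPullback.isoPullback_hom_snd]
    infer_instance
  · have hpb := (isPullback_inr_inr_coprodMap f g).flip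
    change IsImmersion (pullback.snd (coprod.map f g) coprod.inr)
    rw [← MorphismProperty.cancel_left_of_respectsIso @IsImmersion hpb.isoPullback.hom,
      IsPullback.isoPullback_hom_snd]
    infer_instance

variable {X X' Y : Scheme.{u}}

/-- very ampleness passes to the first summand -/
theorem isRelVeryAmple_inl (f'' : X ⨿ X' ⟶ Y) (L'' : (X ⨿ X').Modules) (hva : RelProj.IsRelVeryAmple f'' L'') :
    RelProj.IsRelVeryAmple (coprod.inl ≫ f'')
      ((Scheme.Modules.pullback (coprod.inl : X ⟶ X ⨿ X')).obj L'') := by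
  obtain ⟨E, hE, 𝒮, j, hj, P, p, chart, hP, O1, lam, hO1, i, hi, hip, ⟨e⟩⟩ := hva
  haveI := hi
  refine ⟨E, hE, 𝒮, j, hj, P, p, chart, hP, O1, lam, hO1, coprod.inl ≫ i, inferInstance,
    by rw [Category.assoc, hip], ⟨?_⟩⟩
  exact (Scheme.Modules.pullback _).mapIso e ≪≫ (Scheme.Modules.pullbackComp _ i).app O1

/-- very ampleness passes to the second summand -/
theorem isRelVeryAmple_inr (f'' : X ⨿ X' ⟶ Y) (L'' : (X ⨿ X').Modules) (hva : RelProj.IsRelVeryAmple f'' L'') :
    RelProj.IsRelVeryAmple (coprod.inr ≫ f'')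
      ((Scheme.Modules.pullback (coprod.inr : X' ⟶ X ⨿ X')).obj L'') := by
  obtain ⟨E, hE, 𝒮, j, hj, P, p, chart, hP, O1, lam, hO1, i, hi, hip, ⟨e⟩⟩ := hva
  haveI := hi
  refine ⟨E, hE, 𝒮, j, hj, P, p, chart, hP, O1, lam, hO1, coprod.inr ≫ i, inferInstance,
    by rw [Category.assoc, hip], ⟨?_⟩⟩
  exact (Scheme.Modules.pullback _).mapIso e ≪≫ (Scheme.Modules.pullbackComp _ i).app O1

/-- the restriction of `L''` to a summand vs. the pullback of `O(1)` -/
noncomputable def restrictIso {W Z P PE : Scheme.{u}} (ι : W ⟶ Z) [IsOpenImmersion ι] (L'' : Z.Modules)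
    (i'' : Z ⟶ P) (iE : W ⟶ PE) (hE' : PE ⟶ P) (hcomp : ι ≫ i'' = iE ≫ hE') (O1 : P.Modules) (O1E : PE.Modules)
    (Φ : (Scheme.Modules.pullback hE').obj O1 ≅ O1E)
    (e : (Scheme.Modules.pullback ι).obj L'' ≅ (Scheme.Modules.pullback iE).obj O1E) :
    L''.restrict ι ≅ ((Scheme.Modules.pullback i'').obj O1).restrict ι :=
  (Scheme.Modules.restrictFunctorIsoPullback ι).app L'' ≪≫ e ≪≫
    (Scheme.Modules.pullback iE).mapIso Φ.symm ≪≫ (Scheme.Modules.pullbackComp iE hE').app O1 ≪≫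
    (Scheme.Modules.pullbackCongr hcomp.symm).app O1 ≪≫
    ((Scheme.Modules.pullbackComp ι i'').app O1).symm ≪≫
    ((Scheme.Modules.restrictFunctorIsoPullback ι).app _).symm

/-- very ampleness on the two summands gives very ampleness on the disjoint union -/
theorem isRelVeryAmple_coprod (f'' : X ⨿ X' ⟶ Y) (L'' : (X ⨿ X').Modules)
    (h1 : RelProj.IsRelVeryAmple (coprod.inl ≫ f'')
      ((Scheme.Modules.pullback (coprod.inl : X ⟶ X ⨿ X')).obj L''))
    (h2 : RelProj.IsRelVeryAmple (coprod.inr ≫ f'')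
      ((Scheme.Modules.pullback (coprod.inr : X' ⟶ X ⨿ X')).obj L'')) :
    RelProj.IsRelVeryAmple f'' L'' := by
  obtain ⟨E, hE, 𝒮E, jE, hjE, PE, pE, chartE, hPE, O1E, lamE, hO1E, iE, hiE, hipE, ⟨eE⟩⟩ := h1
  obtain ⟨F, hF, 𝒮F, jF, hjF, PF, pF, chartF, hPF, O1F, lamF, hO1F, iF, hiF, hipF, ⟨eF⟩⟩ := h2
  obtain ⟨hG, 𝒮, j, hj, P, p, chart, hP, O1, lam, hO1, hE', hF', hci, hoE, hoF, ⟨ΦE⟩, ⟨ΦF⟩⟩ :=
    exists_sum_embedding E F hE hF 𝒮E 𝒮F jE hjE jF hjF pE pF chartE chartF hPE hPF O1E lamE hO1E O1F lamF hO1F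
  haveI := hiE
  haveI := hiF
  haveI := hci
  have hfac : coprod.desc (iE ≫ hE') (iF ≫ hF') = coprod.map iE iF ≫ coprod.desc hE' hF' := by
    ext <;> simp
  haveI : IsImmersion (coprod.map iE iF) := isImmersion_coprod_map iE iF
  have himm : IsImmersion (coprod.desc (iE ≫ hE') (iF ≫ hF')) := by
    rw [hfac]; infer_instance
  have hover : coprod.desc (iE ≫ hE') (iF ≫ hF') ≫ p = f'' := by
    ext
    · rw [coprod.inl_desc_assoc, Category.assoc, hoE, hipE]
    · rw [coprod.inr_desc_assoc, Category.assoc, hoF, hipF]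
  refine ⟨E ⊞ F, hG, 𝒮, j, hj, P, p, chart, hP, O1, lam, hO1, coprod.desc (iE ≫ hE') (iF ≫ hF'), himm, hover, ?_⟩
  have hc := isCompl_opensRange_inl_inr X X'
  exact Groth.Agent.Lib.T2H4.CoprodMod.nonempty_iso_of_restrict_iso coprod.inl coprod.inr L''
    ((Scheme.Modules.pullback (coprod.desc (iE ≫ hE') (iF ≫ hF'))).obj O1) hc.sup_eq_top hc.inf_eq_bot
    (restrictIso coprod.inl L'' _ iE hE' (coprod.inl_desc _ _) O1 O1E ΦE eE)
    (restrictIso coprod.inr L'' _ iF hF' (coprod.inr_desc _ _) O1 O1F ΦF eF)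

end Groth.Agent.Lib.T2H4.CoprodVA
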