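import Mathlib

/-!
# `ker (W ⊗ M → X ⊗ M)` is corepresentable for finite projective `W`, `X`
-/

set_option autoImplicit false
set_option linter.unusedSectionVars false
universe u
open TensorProduct Module

namespace Groth.Agent.Lib.T2H4.Corep

variable {A : Type u} [CommRing A]
  (W : Type u) [AddCommGroup W] [Module A W] [Module.Finite A W] [Module.Projective A W]
  (M : Type u) [AddCommGroup M] [Module A M]

/-- `W ⊗ M → Hom(W^*, M)`, `w ⊗ m ↦ (φ ↦ φ w • m)`. -/
noncomputable def lam : W ⊗[A] M →ₗ[A] (Dual A W →ₗ[A] M) :=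
  dualTensorHom A (Dual A W) M ∘ₗ (Dual.eval A W).rTensor M

theorem lam_tmul (w : W) (m : M) (φ : Dual A W) : lam W M (w ⊗ₜ m) φ = φ w • m := by
  simp [lam, dualTensorHom_apply]

theorem lam_bijective : Function.Bijective (lam (A := A) W M) := by
  unfold lam
  rw [LinearMap.coe_comp]
  refine Function.Bijective.comp (dualTensorHom_bijective ..) ?_
  have : (Dual.eval A W).rTensor M = ((Module.evalEquiv A W).rTensor M).toLinearMap := by
    ext
    simp
  rw [this]
  exact LinearEquiv.bijective _

/-- `lam` as an equivalence. -/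
noncomputable def lamEquiv : W ⊗[A] M ≃ₗ[A] (Dual A W →ₗ[A] M) :=
  LinearEquiv.ofBijective (lam W M) (lam_bijective W M)

theorem lamEquiv_apply (z : W ⊗[A] M) : lamEquiv W M z = lam W M z := rfl

variable {W} {X : Type u} [AddCommGroup X] [Module A X] [Module.Finite A X] [Module.Projective A X]
  (u : W →ₗ[A] X)

theorem lam_rTensor (z : W ⊗[A] M) :
    lam X M (u.rTensor M z) = (lam W M z) ∘ₗ u.dualMap := by
  induction z using TensorProduct.induction_on with
  | zero => simp
  | tmul w m =>
    ext ψ
    simp [lam_tmul]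
  | add a b ha hb =>
    rw [map_add, map_add, ha, hb, map_add, LinearMap.add_comp]

variable {M} in
theorem lam_lTensor {N : Type u} [AddCommGroup N] [Module A N] (g : M →ₗ[A] N) (z : W ⊗[A] M) :
    lam W N (g.lTensor W z) = g ∘ₗ (lam W M z) := by
  induction z using TensorProduct.induction_on with
  | zero => simp
  | tmul w m =>
    ext φ
    simp [lam_tmul]
  | add a b ha hb =>
    rw [map_add, map_add, ha, hb, map_add, LinearMap.comp_add]

/-- the corepresenting module. -/
abbrev Q : Type u := Dual A W ⧸ LinearMap.range u.dualMap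

/-- `Hom(Q, M) → W ⊗ M`. -/
noncomputable def theta : (Q u →ₗ[A] M) →ₗ[A] W ⊗[A] M :=
  (lamEquiv W M).symm.toLinearMap ∘ₗ
    (LinearMap.lcomp A M (LinearMap.range u.dualMap).mkQ)

theorem lam_theta (h : Q u →ₗ[A] M) :
    lam W M (theta M u h) = h ∘ₗ (LinearMap.range u.dualMap).mkQ := by
  have := (lamEquiv W M).apply_symm_apply (h ∘ₗ (LinearMap.range u.dualMap).mkQ)
  exact this

theorem theta_injective : Function.Injective (theta M u) := by
  intro h h' hh
  have h1 := lam_theta M u h
  rw [hh, lam_theta] at h1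
  apply LinearMap.ext
  intro q
  obtain ⟨φ, rfl⟩ := Submodule.mkQ_surjective _ q
  exact (LinearMap.congr_fun h1 φ).symm

theorem range_theta : LinearMap.range (theta M u) = LinearMap.ker (u.rTensor M) := by
  ext z
  rw [LinearMap.mem_ker]
  constructor
  · rintro ⟨h, rfl⟩
    apply (lam_bijective X M).1
    rw [lam_rTensor, lam_theta, map_zero]
    ext ψ
    show h ((LinearMap.range u.dualMap).mkQ (u.dualMap ψ)) = 0
    have : (LinearMap.range u.dualMap).mkQ (u.dualMap ψ) = 0 :=
      (Submodule.Quotient.mk_eq_zero _).2 ⟨ψ, rfl⟩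
    rw [this, map_zero]
  · intro hz
    have h0 : (lam W M z) ∘ₗ u.dualMap = 0 := by
      rw [← lam_rTensor, hz, map_zero]
    let h : Q u →ₗ[A] M := (LinearMap.range u.dualMap).liftQ (lam W M z) (by
      rintro _ ⟨ψ, rfl⟩
      exact LinearMap.congr_fun h0 ψ)
    refine ⟨h, ?_⟩
    apply (lam_bijective W M).1
    rw [lam_theta]
    ext φ
    rfl

variable {M} in
theorem theta_natural {N : Type u} [AddCommGroup N] [Module A N] (g : M →ₗ[A] N)
    (h : Q u →ₗ[A] M) : g.lTensor W (theta M u h) = theta N u (g ∘ₗ h) := by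
  apply (lam_bijective W N).1
  rw [lam_lTensor, lam_theta, lam_theta, LinearMap.comp_assoc]

instance finite_Q : Module.Finite A (Q u) := inferInstance

end Groth.Agent.Lib.T2H4.Corep
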