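import Mathlib
import Groth.Prelude.Def_ega3
import Groth.Agent.Lib.Helper3FlatCx
import Groth.Agent.Lib.T2H4Corep

/-!
# `T_p` is corepresentable when it preserves monomorphisms (finite flat terms, noetherian base)
-/

set_option autoImplicit false
set_option linter.unusedSectionVars false
universe u
open CategoryTheory CategoryTheory.Limits MonoidalCategory Opposite

namespace Groth.Agent.Lib.T2H4.CorepCx

open Groth.Agent.Lib.Helper3 Groth.Agent.Lib.T2H4.Corep

variable {A : Type u} [CommRing A] {ι : Type} {c : ComplexShape ι}
  (P : HomologicalComplex (ModuleCat.{u} A) c) (p : ι)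
  [Module.Finite A (P.opcycles p)] [Module.Projective A (P.opcycles p)]
  [Module.Finite A (P.X (c.next p))] [Module.Projective A (P.X (c.next p))]

/-- the map `opcycles_p → P_{next p}` as a linear map. -/
noncomputable abbrev uMap : (P.opcycles p) →ₗ[A] (P.X (c.next p)) :=
  (P.fromOpcycles p (c.next p)).hom

theorem range_jT (M : ModuleCat.{u} A) :
    LinearMap.range (jT P p M).hom = LinearMap.ker ((uMap P p).rTensor M) := by
  ext x
  constructor
  · rintro ⟨t, rfl⟩
    have := jT_comp_fromOpcycles P p M (c.next p)
    rw [LinearMap.mem_ker]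
    exact congrArg (fun f => f.hom t) this
  · intro hx
    exact exists_jT_eq P p M x hx

/-- the component equivalence `T_p(M) ≃ Hom(Q, M)`. -/
noncomputable def compEquiv (M : ModuleCat.{u} A) :
    CohIII.T P p M ≃ₗ[A] (Q (uMap P p) →ₗ[A] M) :=
  (LinearEquiv.ofInjective (jT P p M).hom ((ModuleCat.mono_iff_injective _).1 inferInstance)).trans
    ((LinearEquiv.ofEq _ _ ((range_jT P p M).trans (range_theta M (uMap P p)).symm)).trans
      (LinearEquiv.ofInjective (theta M (uMap P p)) (theta_injective M (uMap P p))).symm)

theorem theta_compEquiv (M : ModuleCat.{u} A) (t : CohIII.T P p M) :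
    theta M (uMap P p) (compEquiv P p M t) = (jT P p M).hom t := by
  have h := (LinearEquiv.ofInjective (theta M (uMap P p))
    (theta_injective M (uMap P p))).apply_symm_apply
      ((LinearEquiv.ofEq _ _ ((range_jT P p M).trans (range_theta M (uMap P p)).symm))
        ((LinearEquiv.ofInjective (jT P p M).hom
          ((ModuleCat.mono_iff_injective _).1 inferInstance)) t))
  exact congrArg Subtype.val h

theorem compEquiv_natural {M N : ModuleCat.{u} A} (g : M ⟶ N) (t : CohIII.T P p M) :
    compEquiv P p N (((CohIII.TFun P p).map g).hom t) = g.hom ∘ₗ compEquiv P p M t := by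
  apply theta_injective N (uMap P p)
  rw [theta_compEquiv, ← theta_natural, theta_compEquiv]
  have := jT_naturality P p g
  exact congrArg (fun f => f.hom t) this

/-- `T_p ≅ Hom(Q, -)`. -/
noncomputable def corepIso :
    CohIII.TFun P p ≅
      (linearCoyoneda A (ModuleCat.{u} A)).obj (op (ModuleCat.of A (Q (uMap P p)))) :=
  NatIso.ofComponents
    (fun M => ((compEquiv P p M).trans
      (ModuleCat.homLinearEquiv (S := A) (M := ModuleCat.of A (Q (uMap P p))) (N := M)).symm).toModuleIso)
    (by
      intro M N g
      ext t
      apply ModuleCat.hom_ext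
      exact compEquiv_natural P p g t)

end Groth.Agent.Lib.T2H4.CorepCx
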