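import Mathlib
import Groth.Prelude.Def_ModelsG
import Groth.Agent.Lib.T2H4EffCartProd
import Groth.Agent.Lib.T2H4LocFactAmple
import Groth.Agent.Lib.T2H4RegUFD
import Groth.Agent.Lib.Helper5RLR
import Groth.Agent.Lib.Helper22IdealComap
set_option backward.isDefEq.respectTransparency.types false

/-!
# T2H4FibreComp: the closed fibre of a regular model is the sum of its components with multiplicities (helper4)

Namespace `Groth.Agent.Lib.T2H4.FibreComp`.
-/

set_option autoImplicit false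
set_option linter.style.haveILetI false
set_option linter.unusedSectionVars false
universe u
open CategoryTheory CategoryTheory.Limits AlgebraicGeometry TopologicalSpace Opposite

namespace Groth.Agent.Lib.T2H4.FibreComp

variable (R : Type u) [CommRing R] [IsDomain R] [IsDiscreteValuationRing R]
  (X : Over (Spec (CommRingCat.of R)))

/-- the structure ring map `R → Γ(X, U)` -/
noncomputable def secHom (U : X.left.Opens) : R →+* Γ(X.left, U) :=
  (X.hom.appLE ⊤ U le_top).hom.comp (Scheme.ΓSpecIso (CommRingCat.of R)).inv.hom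

theorem specialFibreIdeal_ideal (U : X.left.affineOpens) :
    (Models.specialFibreIdeal R X).ideal U = (IsLocalRing.maximalIdeal R).map (secHom R X U.1) := by
  unfold Models.specialFibreIdeal Curv2.idealSheaf
  rw [Groth.Agent.Lib.Helper22.IdealComap.ideal_comap_eq_map X.hom _ U
    ⟨⊤, isAffineOpen_top _⟩ le_top, Scheme.IdealSheafData.ofIdealTop_ideal, Ideal.map_map,
    Ideal.map_map]
  have h : (Spec (CommRingCat.of R)).presheaf.map
      (homOfLE (le_top : (⊤ : (Spec (CommRingCat.of R)).Opens) ≤ ⊤)).op = 𝟙 _ :=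
    (Spec (CommRingCat.of R)).presheaf.map_id _
  rw [h, CommRingCat.hom_id, RingHom.comp_id]
  rfl

theorem zeroLocus_maximalIdeal :
    PrimeSpectrum.zeroLocus ((IsLocalRing.maximalIdeal R : Ideal R) : Set R) =
      {IsLocalRing.closedPoint R} := by
  ext x
  rw [PrimeSpectrum.mem_zeroLocus, Set.mem_singleton_iff]
  constructor
  · intro h
    apply PrimeSpectrum.ext
    exact ((IsLocalRing.maximalIdeal.isMaximal R).eq_of_le x.isPrime.ne_top h).symm
  · rintro rfl
    exact le_rfl

theorem support_specialFibreIdeal :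
    ((Models.specialFibreIdeal R X).support : Set X.left) = Models.specialFibreSet R X := by
  unfold Models.specialFibreIdeal Models.specialFibreSet Curv2.idealSheaf
  rw [Scheme.IdealSheafData.support_comap, Closeds.coe_preimage,
    Scheme.IdealSheafData.coe_support_ofIdealTop]
  congr 1
  rw [Ideal.map, Scheme.zeroLocus_span]
  exact (Spec_zeroLocus_eq_zeroLocus (R := CommRingCat.of R) _).trans (zeroLocus_maximalIdeal R)

theorem secHom_flat [Flat X.hom] (U : X.left.affineOpens) : (secHom R X U.1).Flat := by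
  unfold secHom
  refine RingHom.Flat.comp (RingHom.Flat.of_bijective
    (ConcreteCategory.bijective_of_isIso (Scheme.ΓSpecIso (CommRingCat.of R)).inv)) ?_
  exact HasRingHomProperty.appLE @Flat X.hom inferInstance ⟨⊤, isAffineOpen_top _⟩ U le_top

theorem secHom_mem_nonZeroDivisors [Flat X.hom] (U : X.left.affineOpens) (a : R) (ha : a ≠ 0) :
    secHom R X U.1 a ∈ nonZeroDivisors Γ(X.left, U.1) := by
  have hflat := secHom_flat R X U
  letI : Algebra R Γ(X.left, U.1) := (secHom R X U.1).toAlgebra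
  haveI : Module.Flat R Γ(X.left, U.1) := hflat
  have hreg : IsSMulRegular R a := fun x y hxy => mul_left_cancel₀ ha hxy
  have h2 : IsSMulRegular Γ(X.left, U.1) (algebraMap R Γ(X.left, U.1) a) := hreg.of_flat
  have h3 : ∀ y : Γ(X.left, U.1), secHom R X U.1 a * y = 0 → y = 0 := by
    intro y hy
    apply h2
    change algebraMap R Γ(X.left, U.1) a * y = algebraMap R Γ(X.left, U.1) a * 0
    rw [mul_zero]
    exact hy
  rw [mem_nonZeroDivisors_iff]
  exact ⟨h3, fun y hy => h3 y (by rw [mul_comm]; exact hy)⟩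

/-- the ideal of the closed fibre is generated by the image of a uniformizer -/
theorem specialFibreIdeal_ideal_eq_span (ϖ : R) (hϖ : Irreducible ϖ) (U : X.left.affineOpens) :
    (Models.specialFibreIdeal R X).ideal U = Ideal.span {secHom R X U.1 ϖ} := by
  rw [specialFibreIdeal_ideal, hϖ.maximalIdeal_eq, Ideal.map_span, Set.image_singleton]

theorem isEffCartierIdeal_specialFibreIdeal [Flat X.hom] :
    BlowUp.IsEffCartierIdeal (Models.specialFibreIdeal R X) := by
  obtain ⟨ϖ, hϖ⟩ := IsDiscreteValuationRing.exists_irreducible R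
  intro x
  obtain ⟨U, hU, hxU, -⟩ := exists_isAffineOpen_mem_and_subset (x := x) (U := ⊤) trivial
  exact ⟨⟨U, hU⟩, hxU, secHom R X U ϖ, secHom_mem_nonZeroDivisors R X ⟨U, hU⟩ ϖ hϖ.ne_zero,
    specialFibreIdeal_ideal_eq_span R X ϖ hϖ ⟨U, hU⟩⟩

section AffineSpec

variable {Y : Scheme.{u}}

/-- specialization between points of an affine open in terms of prime ideals -/
theorem fromSpec_specializes_iff (U : Y.affineOpens) (q q' : PrimeSpectrum Γ(Y, U.1)) :
    U.2.fromSpec q ⤳ U.2.fromSpec q' ↔ q.asIdeal ≤ q'.asIdeal := by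
  rw [U.2.fromSpec.isOpenEmbedding.isInducing.specializes_iff]
  exact (PrimeSpectrum.le_iff_specializes q q').symm

theorem specializes_iff_primeIdealOf_le (U : Y.affineOpens) (x x' : Y) (hx : x ∈ U.1)
    (hx' : x' ∈ U.1) :
    x ⤳ x' ↔ (U.2.primeIdealOf ⟨x, hx⟩).asIdeal ≤ (U.2.primeIdealOf ⟨x', hx'⟩).asIdeal := by
  rw [← fromSpec_specializes_iff, U.2.fromSpec_primeIdealOf, U.2.fromSpec_primeIdealOf]

end AffineSpec

section VertComp

variable {R X}
variable (Γ : ArSurf.VertComp R X)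

instance isIntegral_ker_subscheme : IsIntegral Γ.ι.ker.subscheme :=
  IsIntegral.of_isIso Γ.ι.toImage

theorem coe_support_ker : (Γ.ι.ker.support : Set X.left) = Set.range Γ.ι := by
  rw [Scheme.Hom.support_ker]
  exact Γ.ι.isClosedEmbedding.isClosed_range.closure_eq

theorem isGenericPoint_genPtOf :
    IsGenericPoint (Models.genPtOf R X Γ) (Γ.ι.ker.support : Set X.left) := by
  have h := (genericPoint_spec Γ.curve.left).image Γ.ι.continuous
  rw [Set.image_univ, Γ.ι.isClosedEmbedding.isClosed_range.closure_eq] at h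
  rw [coe_support_ker]
  exact h

theorem genPtOf_mem_support : Models.genPtOf R X Γ ∈ Γ.ι.ker.support := by
  rw [← SetLike.mem_coe, coe_support_ker]
  exact ⟨_, rfl⟩

/-- the special fibre ideal is contained in the ideal of a vertical component -/
theorem specialFibreIdeal_le_ker
    (hsub : Set.range Γ.ι ⊆ Models.specialFibreSet R X) :
    Models.specialFibreIdeal R X ≤ Γ.ι.ker := by
  rw [Groth.Agent.Lib.T2H4.EffCartProd.eq_vanishingIdeal_support Γ.ι.ker,
    ← Scheme.IdealSheafData.le_support_iff_le_vanishingIdeal]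
  intro x hx
  have hx' : x ∈ (Γ.ι.ker.support : Set X.left) := hx
  rw [coe_support_ker] at hx'
  have := hsub hx'
  rw [← support_specialFibreIdeal] at this
  exact this

/-- on an affine open meeting it, the ideal of a vertical component is the prime ideal of its generic point -/
theorem ideal_eq_primeIdealOf_genPtOf (U : X.left.affineOpens)
    (htop : Γ.ι.ker.ideal U ≠ ⊤) :
    ∃ hξ : Models.genPtOf R X Γ ∈ U.1,
      Γ.ι.ker.ideal U = (U.2.primeIdealOf ⟨Models.genPtOf R X Γ, hξ⟩).asIdeal := by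
  haveI hP : (Γ.ι.ker.ideal U).IsPrime :=
    (Groth.Agent.Lib.T2H4.EffCartProd.ideal_isPrime_or_eq_top Γ.ι.ker U).resolve_right htop
  let q₀ : PrimeSpectrum Γ(X.left, U.1) := ⟨Γ.ι.ker.ideal U, hP⟩
  have hy₀ : U.2.fromSpec q₀ ∈ Γ.ι.ker.support :=
    (Groth.Agent.Lib.T2H4.EffCartProd.fromSpec_mem_support_iff Γ.ι.ker U q₀).2 le_rfl
  have hy₀U : U.2.fromSpec q₀ ∈ U.1 := Groth.Agent.Lib.Helper2.QCoh.fromSpec_mem U.2 q₀
  have hspec : Models.genPtOf R X Γ ⤳ U.2.fromSpec q₀ :=
    (isGenericPoint_genPtOf Γ).specializes hy₀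
  have hξ : Models.genPtOf R X Γ ∈ U.1 := hspec.mem_open U.1.2 hy₀U
  refine ⟨hξ, le_antisymm ?_ ?_⟩
  · exact (Groth.Agent.Lib.T2H4.EffCartProd.mem_support_iff_le_primeIdealOf Γ.ι.ker U _ hξ).1
      (genPtOf_mem_support Γ)
  · have h2 := (specializes_iff_primeIdealOf_le U _ _ hξ hy₀U).1 hspec
    rw [Groth.Agent.Lib.Helper2.QCoh.primeIdealOf_fromSpec] at h2
    exact h2

/-- the ideal of a component of the closed fibre is a minimal prime over the ideal of the closed fibre -/
theorem ideal_mem_minimalPrimes (hcomp : Set.range Γ.ι ∈ Models.fibreComponents R X)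
    (U : X.left.affineOpens) (htop : Γ.ι.ker.ideal U ≠ ⊤) :
    Γ.ι.ker.ideal U ∈ ((Models.specialFibreIdeal R X).ideal U).minimalPrimes := by
  haveI hP : (Γ.ι.ker.ideal U).IsPrime :=
    (Groth.Agent.Lib.T2H4.EffCartProd.ideal_isPrime_or_eq_top Γ.ι.ker U).resolve_right htop
  obtain ⟨hξ, hEq⟩ := ideal_eq_primeIdealOf_genPtOf Γ U htop
  have hFsub : Set.range Γ.ι ⊆ Models.specialFibreSet R X := hcomp.1.2
  refine ⟨⟨hP, specialFibreIdeal_le_ker Γ hFsub U⟩, ?_⟩
  rintro Q ⟨hQ, hDQ⟩ hQle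
  let q : PrimeSpectrum Γ(X.left, U.1) := ⟨Q, hQ⟩
  have hyF : U.2.fromSpec q ∈ Models.specialFibreSet R X := by
    rw [← support_specialFibreIdeal]
    exact (Groth.Agent.Lib.T2H4.EffCartProd.fromSpec_mem_support_iff _ U q).2 hDQ
  -- the generic point is a specialization of `y`
  have hspec : U.2.fromSpec q ⤳ Models.genPtOf R X Γ := by
    have h1 : U.2.fromSpec q ⤳ U.2.fromSpec (U.2.primeIdealOf ⟨Models.genPtOf R X Γ, hξ⟩) := by
      rw [fromSpec_specializes_iff, ← hEq]
      exact hQle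
    rwa [U.2.fromSpec_primeIdealOf] at h1
  have hsubcl : Set.range Γ.ι ⊆ closure {U.2.fromSpec q} := by
    rw [← coe_support_ker, ← (isGenericPoint_genPtOf Γ).def]
    exact closure_minimal (Set.singleton_subset_iff.2 (specializes_iff_mem_closure.1 hspec))
      isClosed_closure
  have hirr : IsIrreducible (closure ({U.2.fromSpec q} : Set X.left)) :=
    isIrreducible_singleton.closure
  have hclF : closure ({U.2.fromSpec q} : Set X.left) ⊆ Models.specialFibreSet R X :=
    closure_minimal (Set.singleton_subset_iff.2 hyF) (Models.isClosed_specialFibreSet R X)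
  have hmax := hcomp.2 ⟨hirr, hclF⟩ hsubcl
  have hy : U.2.fromSpec q ∈ Γ.ι.ker.support := by
    rw [← SetLike.mem_coe, coe_support_ker]
    exact hmax (subset_closure rfl)
  exact (Groth.Agent.Lib.T2H4.EffCartProd.fromSpec_mem_support_iff Γ.ι.ker U q).1 hy

end VertComp

section Regular

variable {R X}

/-- **a component of the closed fibre of a regular flat `R`-scheme is an effective Cartier divisor** -/
theorem isEffCartierIdeal_ker [IsLocallyNoetherian X.left] [Flat X.hom]
    (hreg : Models.IsRegularScheme X.left) (Γ : ArSurf.VertComp R X)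
    (hcomp : Set.range Γ.ι ∈ Models.fibreComponents R X) :
    BlowUp.IsEffCartierIdeal Γ.ι.ker := by
  obtain ⟨ϖ, hϖ⟩ := IsDiscreteValuationRing.exists_irreducible R
  refine Groth.Agent.Lib.T2H4.LocFactAmple.isEffCartierIdeal_of_ass_height_one _
    (fun U P hP => ?_) (fun x _ => ?_)
  · haveI : IsNoetherianRing Γ(X.left, U.1) := IsLocallyNoetherian.component_noetherian U
    by_cases htop : Γ.ι.ker.ideal U = ⊤
    · exfalso
      haveI : Subsingleton (Γ(X.left, U.1) ⧸ Γ.ι.ker.ideal U) :=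
        Ideal.Quotient.subsingleton_iff.2 htop
      exact not_isAssociatedPrime_of_subsingleton hP
    · haveI hPr : (Γ.ι.ker.ideal U).IsPrime :=
        (Groth.Agent.Lib.T2H4.EffCartProd.ideal_isPrime_or_eq_top Γ.ι.ker U).resolve_right htop
      have hPeq : P = Γ.ι.ker.ideal U := by
        have h1 := IsAssociatedPrime.eq_radical (Ideal.IsPrime.isPrimary hPr) hP
        rw [h1, hPr.radical]
      rw [hPeq]
      have hmin := ideal_mem_minimalPrimes Γ hcomp U htop
      rw [specialFibreIdeal_ideal_eq_span R X ϖ hϖ U] at hmin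
      haveI : (Ideal.span {secHom R X U.1 ϖ}).IsPrincipal := ⟨⟨_, rfl⟩⟩
      have hle : (Γ.ι.ker.ideal U).height ≤ 1 :=
        Ideal.height_le_one_of_isPrincipal_of_mem_minimalPrimes _ _ hmin
      have hne : (Γ.ι.ker.ideal U).height ≠ 0 := by
        intro h0
        have hminA : Γ.ι.ker.ideal U ∈ minimalPrimes Γ(X.left, U.1) := Ideal.height_eq_zero_iff.1 h0
        have hmem : secHom R X U.1 ϖ ∈ Γ.ι.ker.ideal U :=
          hmin.1.2 (Ideal.mem_span_singleton_self _)
        exact Set.disjoint_left.1 (Ideal.disjoint_nonZeroDivisors_of_mem_minimalPrimes hminA) hmem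
          (secHom_mem_nonZeroDivisors R X U ϖ hϖ.ne_zero)
      exact le_antisymm hle (Order.one_le_iff_pos.2 (pos_iff_ne_zero.2 hne))
  · haveI := hreg x
    exact ⟨Groth.Agent.Lib.Helper5.isDomain_of_isRegularLocalRing _,
      Groth.Agent.Lib.T2H4.RegUFD.uniqueFactorizationMonoid_of_isRegularLocalRing _⟩

/-- every point of the closed fibre lies on a component -/
theorem exists_component_mem (x : X.left) (hx : x ∈ Models.specialFibreSet R X) :
    ∃ Z ∈ Models.fibreComponents R X, x ∈ Z := by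
  obtain ⟨U₀, hU₀, hxU, -⟩ := exists_isAffineOpen_mem_and_subset (x := x) (U := ⊤) trivial
  let U : X.left.affineOpens := ⟨U₀, hU₀⟩
  set D := Models.specialFibreIdeal R X with hD
  have hxD : x ∈ D.support := by
    rw [← SetLike.mem_coe, support_specialFibreIdeal]
    exact hx
  have hle : D.ideal U ≤ (U.2.primeIdealOf ⟨x, hxU⟩).asIdeal :=
    (Groth.Agent.Lib.T2H4.EffCartProd.mem_support_iff_le_primeIdealOf D U x hxU).1 hxD
  obtain ⟨P, hPmin, hPle⟩ := Ideal.exists_minimalPrimes_le hle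
  haveI hPp : P.IsPrime := hPmin.1.1
  let q : PrimeSpectrum Γ(X.left, U.1) := ⟨P, hPp⟩
  have hyU : U.2.fromSpec q ∈ U.1 := Groth.Agent.Lib.Helper2.QCoh.fromSpec_mem U.2 q
  have hyF : U.2.fromSpec q ∈ Models.specialFibreSet R X := by
    rw [← support_specialFibreIdeal]
    exact (Groth.Agent.Lib.T2H4.EffCartProd.fromSpec_mem_support_iff _ U q).2 hPmin.1.2
  have hyx : U.2.fromSpec q ⤳ x := by
    have h1 : U.2.fromSpec q ⤳ U.2.fromSpec (U.2.primeIdealOf ⟨x, hxU⟩) := by
      rw [fromSpec_specializes_iff]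
      exact hPle
    rwa [U.2.fromSpec_primeIdealOf] at h1
  have hirr : IsIrreducible (closure ({U.2.fromSpec q} : Set X.left)) :=
    isIrreducible_singleton.closure
  have hclF : closure ({U.2.fromSpec q} : Set X.left) ⊆ Models.specialFibreSet R X :=
    closure_minimal (Set.singleton_subset_iff.2 hyF) (Models.isClosed_specialFibreSet R X)
  refine ⟨closure {U.2.fromSpec q}, ⟨⟨hirr, hclF⟩, ?_⟩, specializes_iff_mem_closure.1 hyx⟩
  rintro S ⟨hSirr, hSF⟩ hZS
  -- generic point of the closure of `S`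
  obtain ⟨η, hη⟩ := QuasiSober.sober hSirr.closure isClosed_closure
  have hηy : η ⤳ U.2.fromSpec q := hη.specializes (subset_closure (hZS (subset_closure rfl)))
  have hηU : η ∈ U.1 := hηy.mem_open U.1.2 hyU
  have hηF : η ∈ Models.specialFibreSet R X :=
    closure_minimal hSF (Models.isClosed_specialFibreSet R X) hη.mem
  have hηD : D.ideal U ≤ (U.2.primeIdealOf ⟨η, hηU⟩).asIdeal := by
    refine (Groth.Agent.Lib.T2H4.EffCartProd.mem_support_iff_le_primeIdealOf D U η hηU).1 ?_
    rw [← SetLike.mem_coe, support_specialFibreIdeal]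
    exact hηF
  have hηP : (U.2.primeIdealOf ⟨η, hηU⟩).asIdeal ≤ P := by
    have h2 := (specializes_iff_primeIdealOf_le U _ _ hηU hyU).1 hηy
    rwa [Groth.Agent.Lib.Helper2.QCoh.primeIdealOf_fromSpec] at h2
  have hPη : P ≤ (U.2.primeIdealOf ⟨η, hηU⟩).asIdeal :=
    hPmin.2 ⟨(U.2.primeIdealOf ⟨η, hηU⟩).isPrime, hηD⟩ hηP
  have hyη : U.2.fromSpec q ⤳ η := by
    have h1 : U.2.fromSpec q ⤳ U.2.fromSpec (U.2.primeIdealOf ⟨η, hηU⟩) := by
      rw [fromSpec_specializes_iff]
      exact hPη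
    rwa [U.2.fromSpec_primeIdealOf] at h1
  calc S ⊆ closure S := subset_closure
    _ = closure {η} := hη.def.symm
    _ ⊆ closure {U.2.fromSpec q} := closure_minimal
        (Set.singleton_subset_iff.2 (specializes_iff_mem_closure.1 hyη)) isClosed_closure

end Regular

section Stalk

variable {Y : Scheme.{u}}

theorem map_germ_eq_top (I : Y.IdealSheafData) (U : Y.affineOpens) (ξ : Y) (hξU : ξ ∈ U.1)
    (h : ξ ∉ I.support) : (I.ideal U).map (Y.presheaf.germ U.1 ξ hξU).hom = ⊤ := by
  have hnle : ¬ I.ideal U ≤ (U.2.primeIdealOf ⟨ξ, hξU⟩).asIdeal := fun hle =>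
    h ((Groth.Agent.Lib.T2H4.EffCartProd.mem_support_iff_le_primeIdealOf I U ξ hξU).2 hle)
  obtain ⟨s, hsI, hsq⟩ := SetLike.not_le_iff_exists.1 hnle
  have hξs : ξ ∈ Y.basicOpen s :=
    (Groth.Agent.Lib.Helper2.mem_basicOpen_iff_notMem_primeIdealOf U.2 ξ hξU s).2 hsq
  have hu : IsUnit (Y.presheaf.germ U.1 ξ hξU s) := (Y.mem_basicOpen s ξ hξU).1 hξs
  exact Ideal.eq_top_of_isUnit_mem _ (Ideal.mem_map_of_mem _ hsI) hu

theorem map_germ_primeIdealOf (U : Y.affineOpens) (ξ : Y) (hξU : ξ ∈ U.1) :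
    ((U.2.primeIdealOf ⟨ξ, hξU⟩).asIdeal).map (Y.presheaf.germ U.1 ξ hξU).hom =
      IsLocalRing.maximalIdeal (Y.presheaf.stalk ξ) := by
  letI : Algebra Γ(Y, U.1) (Y.presheaf.stalk ξ) := Y.presheaf.algebra_section_stalk ⟨ξ, hξU⟩
  haveI : IsLocalization.AtPrime (Y.presheaf.stalk ξ) (U.2.primeIdealOf ⟨ξ, hξU⟩).asIdeal :=
    U.2.isLocalization_stalk ⟨ξ, hξU⟩
  exact IsLocalization.AtPrime.map_eq_maximalIdeal (U.2.primeIdealOf ⟨ξ, hξU⟩).asIdeal
    (Y.presheaf.stalk ξ)

theorem germ_mem_nonZeroDivisors (U : Y.affineOpens) (ξ : Y) (hξU : ξ ∈ U.1) (f : Γ(Y, U.1))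
    (hf : f ∈ nonZeroDivisors Γ(Y, U.1)) :
    Y.presheaf.germ U.1 ξ hξU f ∈ nonZeroDivisors (Y.presheaf.stalk ξ) := by
  letI : Algebra Γ(Y, U.1) (Y.presheaf.stalk ξ) := Y.presheaf.algebra_section_stalk ⟨ξ, hξU⟩
  haveI := U.2.isLocalization_stalk ⟨ξ, hξU⟩
  exact IsLocalization.map_nonZeroDivisors_le (U.2.primeIdealOf ⟨ξ, hξU⟩).asIdeal.primeCompl
    (Y.presheaf.stalk ξ) (Submonoid.mem_map_of_mem _ hf)

end Stalk

section Mult

variable {R X}

theorem stalkHom_eq (U : X.left.Opens) (ξ : X.left) (hξU : ξ ∈ U) :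
    Models.stalkHom R X ξ = (X.left.presheaf.germ U ξ hξU).hom.comp (secHom R X U) := by
  refine RingHom.ext fun a => ?_
  unfold Models.stalkHom Coh.toGlobal secHom
  simp only [RingHom.comp_apply]
  have h1 : X.hom.appLE ⊤ U le_top = X.hom.appTop ≫ X.left.presheaf.map (homOfLE le_top).op := rfl
  rw [h1, CommRingCat.hom_comp, RingHom.comp_apply]
  exact (TopCat.Presheaf.germ_res_apply X.left.presheaf (homOfLE (le_top : U ≤ ⊤)) ξ hξU _).symm

/-- the ideal of the closed fibre in the local ring at `ξ` -/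
theorem map_stalkHom_eq (U : X.left.affineOpens) (ξ : X.left) (hξU : ξ ∈ U.1) :
    (IsLocalRing.maximalIdeal R).map (Models.stalkHom R X ξ) =
      ((Models.specialFibreIdeal R X).ideal U).map (X.left.presheaf.germ U.1 ξ hξU).hom := by
  rw [specialFibreIdeal_ideal, Ideal.map_map, stalkHom_eq U.1 ξ hξU]

end Mult

section Main

variable {R X}

theorem range_mem_fibreComponents {n : ℕ} (Γ : Fin n → ArSurf.VertComp R X)
    (hΓ : Models.IsComponentList R X Γ) (j : Fin n) :
    Set.range (Γ j).ι ∈ Models.fibreComponents R X := by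
  rw [← hΓ.2]
  exact ⟨j, rfl⟩

/-- the exponent of a component in a product decomposition of the closed fibre is its multiplicity -/
theorem mult_eq [IsLocallyNoetherian X.left] [Flat X.hom] (hreg : Models.IsRegularScheme X.left)
    {n : ℕ} (Γ : Fin n → ArSurf.VertComp R X) (hΓ : Models.IsComponentList R X Γ)
    (a : Fin n → ℕ) (ha : Models.specialFibreIdeal R X = ∏ j, (Γ j).ι.ker ^ a j) (i : Fin n) :
    Models.mult R X (Γ i) = a i := by
  have hcomp := range_mem_fibreComponents Γ hΓ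
  obtain ⟨ξ, hξdef⟩ : ∃ ξ, ξ = Models.genPtOf R X (Γ i) := ⟨_, rfl⟩
  have hξsupp : ξ ∈ (Γ i).ι.ker.support := hξdef ▸ genPtOf_mem_support (Γ i)
  have hξgen : IsGenericPoint ξ ((Γ i).ι.ker.support : Set X.left) :=
    hξdef ▸ isGenericPoint_genPtOf (Γ i)
  obtain ⟨U, hξU, p, hp, hEp⟩ := isEffCartierIdeal_ker hreg (Γ i) (hcomp i) ξ
  have htop : (Γ i).ι.ker.ideal U ≠ ⊤ :=
    (Groth.Agent.Lib.T2H4.EffCartProd.ideal_ne_top_iff _ U).2 ⟨ξ, hξU, hξsupp⟩
  have hmax : ((Γ i).ι.ker.ideal U).map (X.left.presheaf.germ U.1 ξ hξU).hom =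
      IsLocalRing.maximalIdeal (X.left.presheaf.stalk ξ) := by
    obtain ⟨hξU', hEq⟩ := ideal_eq_primeIdealOf_genPtOf (Γ i) U htop
    subst hξdef
    rw [hEq]
    exact map_germ_primeIdealOf U _ hξU
  have hother : ∀ j, j ≠ i →
      ((Γ j).ι.ker.ideal U).map (X.left.presheaf.germ U.1 ξ hξU).hom = ⊤ := by
    intro j hj
    refine map_germ_eq_top _ U ξ hξU (fun hmem => hj ?_)
    have hsub : Set.range (Γ i).ι ⊆ Set.range (Γ j).ι := by
      rw [← coe_support_ker, ← coe_support_ker, ← hξgen.def]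
      exact closure_minimal (Set.singleton_subset_iff.2 hmem) (Γ j).ι.ker.support.isClosed
    have heq : Set.range (Γ j).ι = Set.range (Γ i).ι :=
      Set.Subset.antisymm ((hcomp i).2 (hcomp j).1 hsub) hsub
    exact hΓ.1 heq
  have hD : (IsLocalRing.maximalIdeal R).map (Models.stalkHom R X ξ) =
      IsLocalRing.maximalIdeal (X.left.presheaf.stalk ξ) ^ a i := by
    rw [map_stalkHom_eq U ξ hξU, ha, Groth.Agent.Lib.T2H4.EffCartProd.ideal_prod_pow,
      Groth.Agent.Lib.T2H4.EffCartProd.ideal_map_prod_pow, Finset.prod_eq_single i]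
    · rw [hmax]
    · intro j _ hj
      rw [hother j hj, Ideal.top_pow]
      exact Ideal.one_eq_top.symm
    · intro h
      exact absurd (Finset.mem_univ i) h
  haveI := hreg ξ
  haveI : IsDomain (X.left.presheaf.stalk ξ) :=
    Groth.Agent.Lib.Helper5.isDomain_of_isRegularLocalRing _
  have hmspan : IsLocalRing.maximalIdeal (X.left.presheaf.stalk ξ) =
      Ideal.span {X.left.presheaf.germ U.1 ξ hξU p} := by
    rw [← hmax, hEp, Ideal.map_span, Set.image_singleton]
  have hprin : (IsLocalRing.maximalIdeal (X.left.presheaf.stalk ξ)).IsPrincipal := by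
    rw [hmspan]
    exact ⟨⟨_, rfl⟩⟩
  have hnf : ¬ IsField (X.left.presheaf.stalk ξ) := by
    rw [IsLocalRing.isField_iff_maximalIdeal_eq, hmspan, Ideal.span_singleton_eq_bot]
    exact nonZeroDivisors.ne_zero (germ_mem_nonZeroDivisors U ξ hξU p hp)
  haveI : IsDiscreteValuationRing (X.left.presheaf.stalk ξ) :=
    ((IsDiscreteValuationRing.TFAE _ hnf).out 4 0).1 hprin
  unfold Models.mult
  rw [← hξdef, hD, IsDiscreteValuationRing.length_quotient_pow_maximalIdeal]
  rfl

/-- **The closed fibre of a regular flat model is the sum of its components with multiplicities.** -/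
theorem specialFibreIdeal_eq_prod [IsLocallyNoetherian X.left] [CompactSpace X.left] [Flat X.hom]
    (hreg : Models.IsRegularScheme X.left)
    {n : ℕ} (Γ : Fin n → ArSurf.VertComp R X) (hΓ : Models.IsComponentList R X Γ) :
    (∀ i, BlowUp.IsEffCartierIdeal (Γ i).ι.ker) ∧
      Models.specialFibreIdeal R X = ∏ i, (Γ i).ι.ker ^ Models.mult R X (Γ i) := by
  have hcomp := range_mem_fibreComponents Γ hΓ
  have hcart : ∀ i, BlowUp.IsEffCartierIdeal (Γ i).ι.ker := fun i =>
    isEffCartierIdeal_ker hreg (Γ i) (hcomp i)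
  refine ⟨hcart, ?_⟩
  haveI : IsNoetherian X.left := {}
  obtain ⟨a, ha⟩ := Groth.Agent.Lib.T2H4.EffCartProd.exists_exponents_fin
    (Models.specialFibreIdeal R X) (isEffCartierIdeal_specialFibreIdeal R X) n
    (fun i => (Γ i).ι.ker) hcart (fun i => inferInstance) (by
      intro x hx
      rw [support_specialFibreIdeal] at hx
      obtain ⟨Z, hZ, hxZ⟩ := exists_component_mem x hx
      rw [← hΓ.2] at hZ
      obtain ⟨i, rfl⟩ := hZ
      refine Set.mem_iUnion.2 ⟨i, ?_⟩
      rw [coe_support_ker]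
      exact hxZ)
  have hm : ∀ i, Models.mult R X (Γ i) = a i := fun i => mult_eq hreg Γ hΓ a ha i
  rw [ha]
  exact Finset.prod_congr rfl (fun i _ => by rw [hm i])

end Main

end Groth.Agent.Lib.T2H4.FibreComp
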