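import Mathlib
import Groth.Prelude.Def_Coh

/-!
# `H^0(X, O_X)` and global functions (helper9, S1536) — small lemmas copied from `S14825`
-/

set_option autoImplicit false
set_option linter.style.haveILetI false
set_option linter.unusedSectionVars false
universe u
open CategoryTheory AlgebraicGeometry Opposite TopologicalSpace

namespace Groth.Agent.Lib.T2H9.H0Unit

/-- `H^0(X, M) ≃+ M(X)`, compatible with the action of global functions. -/
noncomputable def hh0Equiv (X : Scheme.{u}) (M : X.Modules) :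
    Coh.HH X M 0 ≃+ (Coh.toAb M).obj.obj (op (⊤ : Opens X)) :=
  Sheaf.H.equiv₀ (Coh.toAb M) Limits.isTerminalTop

lemma hh0Equiv_smul (X : Scheme.{u}) (M : X.Modules) (r : Coh.Γtop X) (x : Coh.HH X M 0) :
    hh0Equiv X M (r • x) = (Coh.smulAb M r).hom.app (op ⊤) (hh0Equiv X M x) := by
  change Sheaf.H.equiv₀ _ _ (Sheaf.H.map (Coh.smulAb M r) 0 x) = _
  rw [← Sheaf.H.equiv₀_naturality]
  rfl

lemma resTop_top (X : Scheme.{u}) (r : Coh.Γtop X) : Coh.resTop X (op ⊤) r = r := by
  change (X.ringCatSheaf.obj.map (𝟙 (op ⊤))).hom r = r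
  rw [CategoryTheory.Functor.map_id]
  rfl

/-- `H^0(X, O_X) ≃+ Γ(X, O_X)` as additive groups, with smul ↦ mul -/
noncomputable def hh0Unit (X : Scheme.{u}) : Coh.HH X (Coh.structureModule X) 0 ≃+ Coh.Γtop X :=
  hh0Equiv X (Coh.structureModule X)

lemma hh0Unit_smul (X : Scheme.{u}) (r : Coh.Γtop X) (x : Coh.HH X (Coh.structureModule X) 0) :
    hh0Unit X (r • x) = r * hh0Unit X x := by
  have h := hh0Equiv_smul X (Coh.structureModule X) r x
  rw [Coh.smulAb_app, resTop_top] at h
  exact h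

/-- if `k → Γ(X, O_X)` is surjective (and `X` is nonempty) then `H^0(X, O_X)` is one-dimensional -/
theorem finrank_hh0_eq_one (k : Type u) [Field k] (X : Scheme.{u})
    [X.Over (Spec (CommRingCat.of k))] [Nontrivial (Coh.Γtop X)]
    (hs : Function.Surjective (Coh.toGlobal (X ↘ Spec (CommRingCat.of k)))) :
    Module.finrank k (Coh.HH X (Coh.structureModule X) 0) = 1 := by
  have nz : (hh0Unit X).symm 1 ≠ 0 := by
    intro h
    have := congrArg (hh0Unit X) h
    rw [AddEquiv.apply_symm_apply, map_zero] at this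
    exact one_ne_zero this
  rw [finrank_eq_one_iff_of_nonzero' _ nz]
  intro w
  obtain ⟨c, hc⟩ := hs (hh0Unit X w)
  refine ⟨c, ?_⟩
  have h1 : c • (hh0Unit X).symm 1 =
      (Coh.toGlobal (X ↘ Spec (CommRingCat.of k)) c) • (hh0Unit X).symm 1 := rfl
  rw [h1]
  apply (hh0Unit X).injective
  rw [hh0Unit_smul, AddEquiv.apply_symm_apply, _root_.mul_one, hc]

end Groth.Agent.Lib.T2H9.H0Unit
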