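import Mathlib
import Groth.Agent.Lib.T2H9H0Unit
import Groth.Agent.Lib.Helper7Dim
import Groth.Agent.Lib.Helper28DepthLoc
import Groth.Agent.Lib.Helper20AbsCurve
import Groth.Agent.Lib.T2H4FibreComp
set_option backward.isDefEq.respectTransparency.types false

/-!
# Proper curves with `h⁰(O_X) = 1` are connected, Cohen–Macaulay and equidimensional (helper4, S1534)
-/

set_option autoImplicit false
set_option linter.style.haveILetI false
set_option linter.unusedSectionVars false
universe u

open AlgebraicGeometry CategoryTheory Limits TopologicalSpace Opposite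

namespace Groth.Agent.Lib.T2H4.CurveCM

section Alg

/-- a Noetherian local ring of dimension at most one whose maximal ideal is not an associated prime
when the dimension is one is Cohen–Macaulay. -/
theorem isCM_of_dim_le_one (R : Type u) [CommRing R] [IsLocalRing R] [IsNoetherianRing R]
    (hdim : ringKrullDim R ≤ 1)
    (h : ringKrullDim R = 1 → IsLocalRing.maximalIdeal R ∉ associatedPrimes R R) :
    LocCoh.IsCohenMacaulayLocalRing R := by
  refine { supportDim_eq_depth := ?_ }
  have hle := Groth.Agent.Lib.Helper28.depth_le_supportDim (R := R) (M := R)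
  rw [Module.supportDim_self_eq_ringKrullDim] at hle ⊢
  have h0 : (0 : WithBot ℕ∞) ≤ ringKrullDim R := ringKrullDim_nonneg_of_nontrivial
  obtain ⟨n, hn⟩ : ∃ n : ℕ∞, ringKrullDim R = (n : WithBot ℕ∞) := by
    rcases hd : ringKrullDim R with _ | n
    · rw [hd] at h0
      exact absurd h0 (by decide)
    · exact ⟨n, rfl⟩
  rw [hn] at hle hdim ⊢
  have hle' : LocCoh.depth R R ≤ n := WithBot.coe_le_coe.1 hle
  have hn1 : n ≤ 1 := by exact_mod_cast hdim
  congr 1
  rcases hn1.lt_or_eq with hlt | heq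
  · have hn0 : n = 0 := Order.lt_one_iff.1 hlt
    rw [hn0] at hle' ⊢
    exact (nonpos_iff_eq_zero.1 hle').symm
  · rw [heq] at hle' ⊢
    have hne : LocCoh.depth R R ≠ 0 := by
      intro h0
      rw [Groth.Agent.Lib.Helper28.depth_eq_zero_iff] at h0
      exact h (by rw [hn, heq]; rfl) h0
    refine le_antisymm ?_ hle'
    exact Order.one_le_iff_pos.2 (pos_iff_ne_zero.2 hne)

theorem mem_associatedPrimes_of_maximalIdeal_mem {A : Type*} [CommRing A] [IsNoetherianRing A]
    (p : Ideal A) [p.IsPrime] (R' : Type*) [CommRing R'] [Algebra A R'] [IsLocalization.AtPrime R' p]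
    [IsLocalRing R'] (h : IsLocalRing.maximalIdeal R' ∈ associatedPrimes R' R') :
    p ∈ associatedPrimes A A := by
  have h1 := Module.associatedPrimes.preimage_comap_associatedPrimes_eq_associatedPrimes_of_isLocalizedModule
    p.primeCompl R' (Algebra.linearMap A R')
  have h2 := IsLocalization.AtPrime.under_maximalIdeal R' p
  rw [Ideal.under_def] at h2
  rw [← h1, Set.mem_preimage, h2] at h
  exact h

end Alg

section Top

variable (X : Scheme.{u})

theorem krullDim_points_eq : Order.krullDim X = topologicalKrullDim X :=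
  (Groth.Agent.Lib.Helper7.topologicalKrullDim_eq_krullDim_points (X := X)).symm

theorem ringKrullDim_stalk_le (x : X) :
    ringKrullDim (X.presheaf.stalk x) ≤ topologicalKrullDim X := by
  rw [ringKrullDim_stalk_eq_coheight, ← krullDim_points_eq]
  exact Order.coheight_le_krullDim x

/-- on a scheme of dimension at most one, a point whose local ring is not zero-dimensional is closed -/
theorem isClosed_singleton_of_dim (hdim : topologicalKrullDim X ≤ 1) (x : X)
    (hx : ringKrullDim (X.presheaf.stalk x) ≠ 0) : IsClosed ({x} : Set X) := by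
  rw [← krullDim_points_eq, Order.krullDim_le_one_iff] at hdim
  rcases hdim x with hmin | hmax
  · rw [← closure_subset_iff_isClosed]
    intro y hy
    have hxy : x ⤳ y := specializes_iff_mem_closure.2 hy
    have hyx : y ⤳ x := hmin (show y ≤ x from hxy)
    exact ((hxy.antisymm hyx).eq).symm
  · exfalso
    apply hx
    rw [ringKrullDim_stalk_eq_coheight, Order.coheight_eq_zero.2 hmax]
    rfl

end Top

section Glue

variable {X : TopCat.{u}} (F : X.Sheaf CommRingCat.{u})

/-- Gluing two sections of a sheaf of rings. -/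
theorem exists_glue₂ {U₁ U₂ V W : Opens X} (i₁ : U₁ ⟶ V) (i₂ : U₂ ⟶ V)
    (hcover : V ≤ U₁ ⊔ U₂) (j₁ : W ⟶ U₁) (j₂ : W ⟶ U₂) (hW : U₁ ⊓ U₂ ≤ W)
    (s₁ : F.1.obj (op U₁)) (s₂ : F.1.obj (op U₂))
    (h : F.1.map j₁.op s₁ = F.1.map j₂.op s₂) :
    ∃ s : F.1.obj (op V), F.1.map i₁.op s = s₁ ∧ F.1.map i₂.op s = s₂ := by
  let U : Bool → Opens X := fun b => Bool.rec U₂ U₁ b
  let sf : ∀ b : Bool, ToType (F.1.obj (op (U b))) := fun b =>
    Bool.rec (motive := fun b => ToType (F.1.obj (op (U b)))) s₂ s₁ b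
  have hcompat : TopCat.Presheaf.IsCompatible F.1 U sf := by
    have key : F.1.map (homOfLE (inf_le_left : U₁ ⊓ U₂ ≤ U₁)).op s₁ =
        F.1.map (homOfLE (inf_le_right : U₁ ⊓ U₂ ≤ U₂)).op s₂ := by
      have e₁ : (homOfLE (inf_le_left : U₁ ⊓ U₂ ≤ U₁)) = homOfLE hW ≫ j₁ := Subsingleton.elim _ _
      have e₂ : (homOfLE (inf_le_right : U₁ ⊓ U₂ ≤ U₂)) = homOfLE hW ≫ j₂ := Subsingleton.elim _ _
      rw [e₁, e₂, op_comp, op_comp, F.1.map_comp, F.1.map_comp, ConcreteCategory.comp_apply,
        ConcreteCategory.comp_apply, h]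
    rintro (_ | _) (_ | _)
    · rfl
    · change F.1.map (homOfLE (inf_le_left : U₂ ⊓ U₁ ≤ U₂)).op s₂ =
        F.1.map (homOfLE (inf_le_right : U₂ ⊓ U₁ ≤ U₁)).op s₁
      have e₁ : (homOfLE (inf_le_left : U₂ ⊓ U₁ ≤ U₂)) =
          homOfLE (le_of_eq (inf_comm U₂ U₁)) ≫ homOfLE (inf_le_right : U₁ ⊓ U₂ ≤ U₂) :=
        Subsingleton.elim _ _
      have e₂ : (homOfLE (inf_le_right : U₂ ⊓ U₁ ≤ U₁)) =
          homOfLE (le_of_eq (inf_comm U₂ U₁)) ≫ homOfLE (inf_le_left : U₁ ⊓ U₂ ≤ U₁) :=
        Subsingleton.elim _ _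
      rw [e₁, e₂, op_comp, op_comp, F.1.map_comp, F.1.map_comp, ConcreteCategory.comp_apply,
        ConcreteCategory.comp_apply, key]
    · exact key
    · rfl
  have hcov : V ≤ iSup U := by
    refine hcover.trans (sup_le ?_ ?_)
    · exact le_iSup U true
    · exact le_iSup U false
  obtain ⟨s, hs, -⟩ := F.existsUnique_gluing' U V
    (fun b => Bool.rec (motive := fun b => U b ⟶ V) i₂ i₁ b) hcov sf hcompat
  exact ⟨s, hs true, hs false⟩

end Glue

section Sch

variable (X : Scheme.{u})

/-- gluing two functions on a scheme -/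
theorem exists_glue_fun {U₁ U₂ W : X.Opens} (hcover : (⊤ : X.Opens) ≤ U₁ ⊔ U₂)
    (j₁ : W ≤ U₁) (j₂ : W ≤ U₂) (hW : U₁ ⊓ U₂ ≤ W) (s₁ : Γ(X, U₁)) (s₂ : Γ(X, U₂))
    (h : X.presheaf.map (homOfLE j₁).op s₁ = X.presheaf.map (homOfLE j₂).op s₂) :
    ∃ s : Γ(X, ⊤), X.presheaf.map (homOfLE (le_top : U₁ ≤ ⊤)).op s = s₁ ∧
      X.presheaf.map (homOfLE (le_top : U₂ ≤ ⊤)).op s = s₂ :=
  exists_glue₂ X.sheaf (homOfLE le_top) (homOfLE le_top) hcover (homOfLE j₁) (homOfLE j₂) hW s₁ s₂ h

/-- a function on an open all of whose germs vanish is zero -/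
theorem eq_zero_of_germ_eq_zero {W : X.Opens} (s : Γ(X, W))
    (h : ∀ (y : X) (hy : y ∈ W), X.presheaf.germ W y hy s = 0) : s = 0 := by
  apply TopCat.Presheaf.section_ext X.sheaf W s 0
  intro y hy
  rw [map_zero]
  exact h y hy

/-- if there is a point in `W`, then `Γ(X, W)` is nontrivial -/
theorem one_ne_zero_of_mem {W : X.Opens} (y : X) (hy : y ∈ W) : (1 : Γ(X, W)) ≠ 0 := by
  intro h
  have := congrArg (X.presheaf.germ W y hy) h
  rw [map_one, map_zero] at this
  exact one_ne_zero this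

/-- if every global function is zero or a unit then `X` is preconnected -/
theorem preconnectedSpace_of_forall (hF : ∀ s : Γ(X, ⊤), s = 0 ∨ IsUnit s) :
    PreconnectedSpace X := by
  rw [preconnectedSpace_iff_clopen]
  intro S hS
  obtain ⟨U, hU⟩ : ∃ U : X.Opens, (U : Set X) = S := ⟨⟨S, hS.isOpen⟩, rfl⟩
  obtain ⟨V, hV⟩ : ∃ V : X.Opens, (V : Set X) = Sᶜ := ⟨⟨Sᶜ, hS.isClosed.isOpen_compl⟩, rfl⟩
  have hcover : (⊤ : X.Opens) ≤ U ⊔ V := by
    intro y _
    by_cases hy : y ∈ S
    · exact Or.inl (by rw [hU]; exact hy)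
    · exact Or.inr (by rw [hV]; exact hy)
  have hW : U ⊓ V ≤ ⊥ := by
    rintro y ⟨h1, h2⟩
    have h1' : y ∈ S := by rw [← hU]; exact h1
    have h2' : y ∈ Sᶜ := by rw [← hV]; exact h2
    exact absurd h1' h2'
  obtain ⟨e, he1, he2⟩ := exists_glue_fun X hcover (bot_le : (⊥ : X.Opens) ≤ U)
    (bot_le : (⊥ : X.Opens) ≤ V) hW (1 : Γ(X, U)) (0 : Γ(X, V)) (Subsingleton.elim _ _)
  rcases hF e with h0 | hu
  · left
    rw [h0, map_zero] at he1
    by_contra hne
    obtain ⟨y, hy⟩ := Set.nonempty_iff_ne_empty.2 hne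
    have hyU : y ∈ U := by
      change y ∈ (U : Set X)
      rw [hU]; exact hy
    exact one_ne_zero_of_mem X y hyU he1.symm
  · right
    have hu' : IsUnit (X.presheaf.map (homOfLE (le_top : V ≤ ⊤)).op e) :=
      hu.map (X.presheaf.map (homOfLE (le_top : V ≤ ⊤)).op).hom
    rw [he2] at hu'
    by_contra hne
    obtain ⟨y, hy⟩ : ∃ y, y ∉ S := by
      by_contra hcon
      push Not at hcon
      exact hne (Set.eq_univ_of_forall hcon)
    have hyV : y ∈ V := by
      change y ∈ (V : Set X)
      rw [hV]; exact hy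
    apply one_ne_zero_of_mem X y hyV
    obtain ⟨w, hw⟩ := hu'
    have : (1 : Γ(X, V)) = (w : Γ(X, V)) * ((w⁻¹ : (Γ(X, V))ˣ) : Γ(X, V)) := by
      rw [Units.mul_inv]
    rw [this, hw, zero_mul]

variable [IsLocallyNoetherian X]

/-- if every global function is zero or a unit, the maximal ideal of the local ring of a closed point
which is not zero-dimensional is not an associated prime -/
theorem maximalIdeal_notMem_associatedPrimes (hF : ∀ s : Γ(X, ⊤), s = 0 ∨ IsUnit s) (x : X)
    (hcl : IsClosed ({x} : Set X)) (hx : ringKrullDim (X.presheaf.stalk x) ≠ 0) :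
    IsLocalRing.maximalIdeal (X.presheaf.stalk x) ∉
      associatedPrimes (X.presheaf.stalk x) (X.presheaf.stalk x) := by
  intro hass
  obtain ⟨U, hU, hxU, -⟩ :=
    (TopologicalSpace.Opens.isBasis_iff_nbhd.mp X.isBasis_affineOpens) (Opens.mem_top x)
  haveI : IsNoetherianRing Γ(X, U) := IsLocallyNoetherian.component_noetherian ⟨U, hU⟩
  letI : Algebra Γ(X, U) (X.presheaf.stalk x) :=
    TopCat.Presheaf.algebra_section_stalk X.presheaf (⟨x, hxU⟩ : U)
  haveI : IsLocalization.AtPrime (X.presheaf.stalk x) (hU.primeIdealOf ⟨x, hxU⟩).asIdeal :=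
    hU.isLocalization_stalk ⟨x, hxU⟩
  have hpass := mem_associatedPrimes_of_maximalIdeal_mem (hU.primeIdealOf ⟨x, hxU⟩).asIdeal
    (X.presheaf.stalk x) hass
  obtain ⟨p, hp⟩ : ∃ p : Ideal Γ(X, U), p = (hU.primeIdealOf ⟨x, hxU⟩).asIdeal := ⟨_, rfl⟩
  rw [← hp] at hpass
  have hpp : p.IsPrime := by rw [hp]; exact (hU.primeIdealOf ⟨x, hxU⟩).isPrime
  obtain ⟨-, a, ha⟩ := (isAssociatedPrime_iff).1 hpass
  have hmem : ∀ r : Γ(X, U), r ∈ p ↔ r * a = 0 := by
    intro r
    rw [ha, Submodule.mem_colon_singleton, Submodule.mem_bot, smul_eq_mul]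
  -- the germs of `a` away from `x` vanish
  have hgerm : ∀ (y : X) (hy : y ∈ U), y ≠ x → X.presheaf.germ U y hy a = 0 := by
    intro y hy hne
    have hnle : ¬ p ≤ (hU.primeIdealOf ⟨y, hy⟩).asIdeal := by
      intro hle
      rw [hp] at hle
      have hsp : x ⤳ y :=
        (Groth.Agent.Lib.T2H4.FibreComp.specializes_iff_primeIdealOf_le ⟨U, hU⟩ x y hxU hy).2 hle
      have : y ∈ closure ({x} : Set X) := specializes_iff_mem_closure.1 hsp
      rw [hcl.closure_eq] at this
      exact hne this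
    obtain ⟨f, hfp, hfq⟩ := SetLike.not_le_iff_exists.1 hnle
    have hyf : y ∈ X.basicOpen f :=
      (Groth.Agent.Lib.Helper2.mem_basicOpen_iff_notMem_primeIdealOf hU y hy f).2 hfq
    have hunit : IsUnit (X.presheaf.germ U y hy f) := (Scheme.mem_basicOpen X f y hy).1 hyf
    have h0 : X.presheaf.germ U y hy f * X.presheaf.germ U y hy a = 0 := by
      rw [← map_mul, (hmem f).1 hfp, map_zero]
    exact (hunit.mul_right_eq_zero).1 h0
  -- glue `a` with zero
  obtain ⟨V, hV⟩ : ∃ V : X.Opens, (V : Set X) = ({x} : Set X)ᶜ := ⟨⟨{x}ᶜ, hcl.isOpen_compl⟩, rfl⟩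
  have hcover : (⊤ : X.Opens) ≤ U ⊔ V := by
    intro y _
    by_cases hy : y = x
    · exact Or.inl (by rw [hy]; exact hxU)
    · exact Or.inr (by change y ∈ (V : Set X); rw [hV]; exact hy)
  have hcomp : X.presheaf.map (homOfLE (inf_le_left : U ⊓ V ≤ U)).op a =
      X.presheaf.map (homOfLE (inf_le_right : U ⊓ V ≤ V)).op 0 := by
    rw [map_zero]
    apply eq_zero_of_germ_eq_zero
    intro y hy
    rw [TopCat.Presheaf.germ_res_apply]
    apply hgerm y hy.1
    have : y ∈ (V : Set X) := hy.2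
    rw [hV] at this
    exact this
  obtain ⟨s, hs1, hs2⟩ := exists_glue_fun X hcover inf_le_left inf_le_right le_rfl a 0 hcomp
  have hptop : p ≠ ⊤ := hpp.ne_top
  rcases hF s with h0 | hu
  · rw [h0, map_zero] at hs1
    apply hptop
    rw [Ideal.eq_top_iff_one, hmem, ← hs1, mul_zero]
  · have hu' : IsUnit a := by
      rw [← hs1]
      exact hu.map (X.presheaf.map (homOfLE (le_top : U ≤ ⊤)).op).hom
    have hpbot : p = ⊥ := by
      rw [eq_bot_iff]
      intro r hr
      rw [hmem] at hr
      exact (hu'.mul_left_eq_zero).1 hr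
    apply hx
    haveI : Nontrivial Γ(X, U) := ⟨⟨1, 0, one_ne_zero_of_mem X x hxU⟩⟩
    rw [Groth.Agent.Lib.Helper20.AbsCurve.ringKrullDim_stalk_eq_height hU x hxU, ← hp, hpbot,
      Ideal.height_bot]
    rfl

end Sch

section Comp

variable {T : Type*} [TopologicalSpace T]

theorem one_le_topologicalKrullDim_of_specializes {S : Type*} [TopologicalSpace S] [QuasiSober S]
    [T0Space S] (a b : S) (h : b ⤳ a) (hne : a ≠ b) : 1 ≤ topologicalKrullDim S := by
  rw [Groth.Agent.Lib.Helper7.topologicalKrullDim_eq_krullDim_points]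
  exact (@Order.one_le_krullDim_iff S (specializationOrder S).toPreorder).2
    ⟨a, b, (@Groth.Agent.Lib.Helper7.specializationOrder_lt_iff S _ _ a b).2 ⟨h, hne⟩⟩

/-- in a connected Noetherian sober space of dimension one, all irreducible components have
dimension one -/
theorem topologicalKrullDim_component [NoetherianSpace T] [QuasiSober T] [T0Space T]
    [ConnectedSpace T] (hdim : topologicalKrullDim T = 1) (Z : Set T)
    (hZ : Z ∈ irreducibleComponents T) : topologicalKrullDim Z = 1 := by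
  refine le_antisymm ((topologicalKrullDim_subspace_le T Z).trans hdim.le) ?_
  have hZcl : IsClosed Z := isClosed_of_mem_irreducibleComponents Z hZ
  obtain ⟨η, hη⟩ := QuasiSober.sober hZ.1 hZcl
  by_cases hex : ∃ z ∈ Z, z ≠ η
  · obtain ⟨z, hz, hne⟩ := hex
    haveI : QuasiSober Z := hZcl.isClosedEmbedding_subtypeVal.quasiSober
    refine one_le_topologicalKrullDim_of_specializes (⟨z, hz⟩ : Z) ⟨η, hη.mem⟩ ?_
      (fun h => hne (congrArg Subtype.val h))
    exact Topology.IsInducing.subtypeVal.specializes_iff.1 (hη.specializes hz)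
  · exfalso
    push Not at hex
    have hZeq : Z = {η} := by
      ext z
      constructor
      · intro hz
        exact hex z hz
      · intro hz
        rw [Set.mem_singleton_iff.1 hz]
        exact hη.mem
    obtain ⟨o, ho, hone, hoZ⟩ :=
      NoetherianSpace.exists_isOpen_nonempty_subset_irreducibleComponent Z hZ
    have hoeq : o = {η} := by
      rw [hZeq] at hoZ
      exact (Set.subset_singleton_iff_eq.1 hoZ).resolve_left hone.ne_empty
    have hclopen : IsClopen ({η} : Set T) := ⟨hZeq ▸ hZcl, hoeq ▸ ho⟩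
    have huniv : ({η} : Set T) = Set.univ :=
      (isClopen_iff.1 hclopen).resolve_left (Set.singleton_ne_empty η)
    haveI : Subsingleton T := by
      refine ⟨fun a b => ?_⟩
      have ha : a ∈ ({η} : Set T) := by rw [huniv]; trivial
      have hb : b ∈ ({η} : Set T) := by rw [huniv]; trivial
      rw [Set.mem_singleton_iff.1 ha, Set.mem_singleton_iff.1 hb]
    have h0 : topologicalKrullDim T ≤ 0 := topologicalKrullDim_zero_of_discreteTopology T
    rw [hdim] at h0
    exact absurd h0 (by decide)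

end Comp

section Main

open Groth.Agent.Lib.T2H9.H0Unit

variable (k : Type u) [Field k] (X : Scheme.{u}) [X.Over (Spec (CommRingCat.of k))]

/-- if `H⁰(X, O_X)` is one-dimensional then `X` is nonempty and every global function is zero or a
unit -/
theorem forall_eq_zero_or_isUnit
    (h : Module.finrank k (Coh.HH X (Coh.structureModule X) 0) = 1) :
    Nonempty X ∧ ∀ s : Γ(X, ⊤), s = 0 ∨ IsUnit s := by
  have hnt : Nontrivial (Coh.Γtop X) := by
    by_contra hn
    rw [not_nontrivial_iff_subsingleton] at hn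
    haveI : Subsingleton (Coh.HH X (Coh.structureModule X) 0) :=
      (hh0Unit X).toEquiv.subsingleton
    rw [Module.finrank_zero_of_subsingleton] at h
    exact zero_ne_one h
  refine ⟨?_, ?_⟩
  · by_contra hne
    rw [not_nonempty_iff] at hne
    haveI : Subsingleton Γ(X, ⊤) := inferInstance
    obtain ⟨a, b, hab⟩ := hnt
    exact hab (Subsingleton.elim (α := Γ(X, ⊤)) a b)
  have nz : (hh0Unit X).symm 1 ≠ 0 := by
    intro h
    have := congrArg (hh0Unit X) h
    rw [AddEquiv.apply_symm_apply, map_zero] at this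
    exact one_ne_zero this
  rw [finrank_eq_one_iff_of_nonzero' _ nz] at h
  intro g
  obtain ⟨c, hc⟩ := h ((hh0Unit X).symm g)
  have h1 : c • (hh0Unit X).symm 1 =
      (Coh.toGlobal (X ↘ Spec (CommRingCat.of k)) c) • (hh0Unit X).symm 1 := rfl
  rw [h1] at hc
  have h2 := congrArg (hh0Unit X) hc
  rw [hh0Unit_smul, AddEquiv.apply_symm_apply, AddEquiv.apply_symm_apply, _root_.mul_one] at h2
  by_cases hc0 : c = 0
  · left
    rw [hc0, map_zero] at h2
    exact h2.symm
  · right
    have hu : IsUnit (Coh.toGlobal (X ↘ Spec (CommRingCat.of k)) c) :=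
      (isUnit_iff_ne_zero.2 hc0).map _
    rw [h2] at hu
    obtain ⟨w, hw⟩ := hu
    exact ⟨⟨g, (w⁻¹ : (Coh.Γtop X)ˣ).1, by rw [← hw]; exact w.mul_inv,
      by rw [← hw]; exact w.inv_mul⟩, rfl⟩

theorem main [IsProper (X ↘ (Spec (CommRingCat.of k)))] (hdim : topologicalKrullDim X = 1)
    (h0 : Module.finrank k (Coh.HH X (Coh.structureModule X) 0) = 1) :
    ConnectedSpace X ∧ (∀ x : X, LocCoh.IsCohenMacaulayLocalRing (X.presheaf.stalk x)) ∧
      ∀ Z ∈ irreducibleComponents (X : Type u), topologicalKrullDim Z = 1 := by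
  obtain ⟨hne, hF⟩ := forall_eq_zero_or_isUnit k X h0
  haveI : IsLocallyNoetherian (Spec (CommRingCat.of k)) := inferInstance
  haveI : IsLocallyNoetherian X :=
    LocallyOfFiniteType.isLocallyNoetherian (X ↘ (Spec (CommRingCat.of k)))
  haveI : CompactSpace X :=
    QuasiCompact.compactSpace_of_compactSpace (X ↘ (Spec (CommRingCat.of k)))
  haveI : IsNoetherian X := {}
  haveI : PreconnectedSpace X := preconnectedSpace_of_forall X hF
  haveI hconn : ConnectedSpace X := { toNonempty := hne }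
  refine ⟨hconn, ?_, ?_⟩
  · intro x
    apply isCM_of_dim_le_one
    · exact (ringKrullDim_stalk_le X x).trans hdim.le
    · intro h1
      have hx : ringKrullDim (X.presheaf.stalk x) ≠ 0 := by
        rw [h1]; exact one_ne_zero
      exact maximalIdeal_notMem_associatedPrimes X hF x
        (isClosed_singleton_of_dim X hdim.le x hx) hx
  · intro Z hZ
    exact topologicalKrullDim_component hdim Z hZ

end Main

end Groth.Agent.Lib.T2H4.CurveCM
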