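import Mathlib
import Groth.Prelude.Def_DRing3
import Groth.Agent.Lib.T2H4Bousfield
import Groth.Agent.Lib.Helper17KInjD4
import Groth.Agent.Lib.Helper17DBrown5
import Groth.Agent.Lib.Helper1Extend

/-!
# The right adjoint of restriction of scalars on derived categories (helper4)

For a ring homomorphism `φ : A →+* B`, the functor `DRing.restrictD φ : D(B) ⥤ D(A)` has a right adjoint
`RG φ` (`K ↦ RHom_A(B, K)`, the total right derived functor of coextension of scalars).  When `B` is a
localization `A_f`, `restrictD φ` is fully faithful.
-/

set_option autoImplicit false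

universe u

open CategoryTheory CategoryTheory.Limits TensorProduct

attribute [local instance] HasDerivedCategory.standard

namespace Groth.Agent.Lib.T2H4.DComp

open Groth.Agent.Lib.Helper17.KInj Groth.Agent.Lib.Helper1.Extend

section General

variable {A B : Type u} [CommRing A] [CommRing B] (φ : A →+* B)

instance additive_coextendScalars : (ModuleCat.coextendScalars.{u, u, u} φ).Additive :=
  (ModuleCat.restrictCoextendScalarsAdj.{u, u, u} φ).right_adjoint_additive

/-- coextension of scalars on complexes followed by localization. -/
noncomputable abbrev coextQ : CochainComplex (ModuleCat.{u} A) ℤ ⥤ Dual.D B :=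
  (ModuleCat.coextendScalars.{u, u, u} φ).mapHomologicalComplex (ComplexShape.up ℤ) ⋙
    DerivedCategory.Q

instance hasPointwiseRightDerivedFunctor_coextQ :
    (coextQ φ).HasPointwiseRightDerivedFunctor
      (HomologicalComplex.quasiIso (ModuleCat.{u} A) (ComplexShape.up ℤ)) :=
  (fibLocalizerMorphism_derives.{u} _
    (isInvertedBy_mapHomologicalComplex_comp_Q.{u}
      (ModuleCat.coextendScalars.{u, u, u} φ))).hasPointwiseRightDerivedFunctor

/-- `RHom_A(B, -) : D(A) ⥤ D(B)`. -/
noncomputable def RG : Dual.D A ⥤ Dual.D B :=
  (coextQ φ).totalRightDerived DerivedCategory.Q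
    (HomologicalComplex.quasiIso (ModuleCat.{u} A) (ComplexShape.up ℤ))

/-- the unit of the right derived functor. -/
noncomputable def βRG : coextQ φ ⟶ DerivedCategory.Q ⋙ RG φ :=
  (coextQ φ).totalRightDerivedUnit DerivedCategory.Q
    (HomologicalComplex.quasiIso (ModuleCat.{u} A) (ComplexShape.up ℤ))

instance : (RG φ).IsRightDerivedFunctor (βRG φ)
    (HomologicalComplex.quasiIso (ModuleCat.{u} A) (ComplexShape.up ℤ)) := by
  unfold RG βRG
  infer_instance

/-- restriction of scalars is left adjoint to `RHom_A(B, -)` on derived categories. -/
noncomputable def adjRG : DRing.restrictD φ ⊣ RG φ :=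
  derivedAdjunction.{u} (ModuleCat.restrictScalars.{u} φ) (ModuleCat.coextendScalars.{u, u, u} φ)
    (ModuleCat.restrictCoextendScalarsAdj.{u, u, u} φ) (RG φ) (βRG φ)

end General

section Loc

variable {A : Type u} [CommRing A] (f : A)

/-- the `A`-module structure on an `A_f`-module (the one of `restrictScalars`). -/
noncomputable abbrev aMod (M : ModuleCat.{u} (Localization.Away f)) : Module A M :=
  Module.compHom M (algebraMap A (Localization.Away f))

attribute [local instance] aMod

instance (M : ModuleCat.{u} (Localization.Away f)) : IsScalarTower A (Localization.Away f) M :=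
  ⟨fun a b x => by
    show (a • b) • x = algebraMap A (Localization.Away f) a • (b • x)
    rw [Algebra.smul_def, mul_smul]⟩

lemma isBaseChange_id (M : ModuleCat.{u} (Localization.Away f)) :
    IsBaseChange (Localization.Away f) (LinearMap.id : M →ₗ[A] M) :=
  (isLocalizedModule_iff_isBaseChange (Submonoid.powers f) (Localization.Away f) _).1
    (isLocalizedModule_id (Submonoid.powers f) M (Localization.Away f))

/-- the counit `A_f ⊗_A M ⟶ M` is an isomorphism for an `A_f`-module `M`. -/
noncomputable def counitIso (M : ModuleCat.{u} (Localization.Away f)) :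
    (ext A (Localization.Away f)).obj
      ((ModuleCat.restrictScalars.{u} (algebraMap A (Localization.Away f))).obj M) ≅ M :=
  ((extEquiv (A := A) (B := Localization.Away f) M).trans (isBaseChange_id f M).equiv).toModuleIso

lemma counit_app_eq (M : ModuleCat.{u} (Localization.Away f)) :
    (ModuleCat.extendRestrictScalarsAdj.{u, u, u} (algebraMap A (Localization.Away f))).counit.app M =
      (counitIso f M).hom := by
  apply ModuleCat.ExtendScalars.hom_ext
  intro x
  have h1 := ModuleCat.extendRestrictScalarsAdj_counit_app_apply_one_tmul.{u, u, u}
    (f := algebraMap A (Localization.Away f)) M x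
  refine h1.trans ?_
  symm
  exact ((isBaseChange_id f M).equiv_tmul 1 x).trans (one_smul _ _)

instance isIso_counit :
    IsIso (ModuleCat.extendRestrictScalarsAdj.{u, u, u} (algebraMap A (Localization.Away f))).counit := by
  have : ∀ M, IsIso ((ModuleCat.extendRestrictScalarsAdj.{u, u, u}
      (algebraMap A (Localization.Away f))).counit.app M) := fun M => by
    rw [counit_app_eq]
    infer_instance
  exact NatIso.isIso_of_isIso_app _


/-- `Q ⋙ restrictD` is computed termwise. -/
noncomputable def βres : (ModuleCat.restrictScalars.{u} (algebraMap A (Localization.Away f))).mapHomologicalComplex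
    (ComplexShape.up ℤ) ⋙ DerivedCategory.Q ⟶
      DerivedCategory.Q ⋙ DRing.restrictD (algebraMap A (Localization.Away f)) :=
  (ModuleCat.restrictScalars.{u} (algebraMap A (Localization.Away f))).mapDerivedCategoryFactors.inv

instance : (DRing.restrictD (algebraMap A (Localization.Away f))).IsRightDerivedFunctor (βres f)
    (HomologicalComplex.quasiIso (ModuleCat.{u} (Localization.Away f)) (ComplexShape.up ℤ)) :=
  Functor.isRightDerivedFunctor_of_inverts _ _
    (ModuleCat.restrictScalars.{u} (algebraMap A (Localization.Away f))).mapDerivedCategoryFactors

/-- derived extension of scalars is left adjoint to restriction. -/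
noncomputable def adjExt :
    extD A (Localization.Away f) ⊣ DRing.restrictD (algebraMap A (Localization.Away f)) :=
  derivedAdjunction.{u} (ext A (Localization.Away f))
    (ModuleCat.restrictScalars.{u} (algebraMap A (Localization.Away f)))
    (ModuleCat.extendRestrictScalarsAdj.{u, u, u} (algebraMap A (Localization.Away f)))
    (DRing.restrictD (algebraMap A (Localization.Away f))) (βres f)

instance isIso_adjExt_counit : IsIso (adjExt f).counit :=
  isIso_counit_derivedAdjunction.{u} (ext A (Localization.Away f))
    (ModuleCat.restrictScalars.{u} (algebraMap A (Localization.Away f)))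
    (ModuleCat.extendRestrictScalarsAdj.{u, u, u} (algebraMap A (Localization.Away f)))
    (DRing.restrictD (algebraMap A (Localization.Away f))) (βres f)

/-- restriction of scalars from a localization `A_f` is fully faithful on derived categories. -/
noncomputable def fullyFaithfulRestrictD :
    (DRing.restrictD (algebraMap A (Localization.Away f))).FullyFaithful :=
  (adjExt f).fullyFaithfulROfIsIsoCounit

instance : (DRing.restrictD (algebraMap A (Localization.Away f))).Full :=
  (fullyFaithfulRestrictD f).full

instance : (DRing.restrictD (algebraMap A (Localization.Away f))).Faithful :=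
  (fullyFaithfulRestrictD f).faithful

end Loc

end Groth.Agent.Lib.T2H4.DComp
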