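import Groth.Agent.Lib.T2H4DCompAdj
import Groth.Agent.Lib.Helper1LocBC
import Groth.Agent.Lib.Helper1RelPC
import Groth.Agent.Lib.Helper10DerComplete6
import Groth.Agent.Lib.Helper17DBrown5

/-!
# Derived completion with respect to a finitely generated ideal (helper4)

* `cpl_iff_orth`: `Hom(A_f[0], K[n]) = 0` for all `n` iff `K` is right orthogonal to the image of `D(A_f)`.
* `exists_step`: derived completion with respect to one element, with cohomological bounds.
* `exists_completion`: derived completion with respect to a finite set of elements.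
-/

set_option autoImplicit false

universe u

open CategoryTheory CategoryTheory.Limits DerivedCategory

attribute [local instance] HasDerivedCategory.standard

namespace Groth.Agent.Lib.T2H4.DComp

open Groth.Agent.Lib.Helper17.KInj Groth.Agent.Lib.Helper17.DBrown Groth.Agent.Lib.Helper1.Extend
  Groth.Agent.Lib.Helper1.Restrict Groth.Agent.Lib.Helper10.DerComplete Groth.Agent.Lib.T2H4.Bousfield
  Groth.Agent.S14388 Groth.Agent.Lib.Helper1.LocBC Groth.Agent.Lib.Helper1.RelPC Pretriangulated

section Gen

variable {C : Type*} [Category C] [Abelian C] [HasDerivedCategory C]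

/-- If `P` is a projective separator and all maps `Q(P[-m]) ⟶ Q(K)` vanish, then `K` is exact in
degree `m`. -/
lemma exactAt_of_forall_single {P : C} [Projective P] (hP : IsSeparator P)
    (K : CochainComplex C ℤ) (m : ℤ)
    (h : ∀ (g : (Q : _ ⥤ DerivedCategory C).obj
      ((HomologicalComplex.single C (ComplexShape.up ℤ) m).obj P) ⟶ Q.obj K), g = 0) :
    K.ExactAt m := by
  rw [HomologicalComplex.exactAt_iff_isZero_homology]
  have hπ : K.homologyπ m = 0 := by
    apply hP.def
    intro a
    rw [comp_zero]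
    obtain ⟨φ, hφ⟩ : ∃ φ : (HomologicalComplex.single C (ComplexShape.up ℤ) m).obj P ⟶ K,
        φ.f m = (HomologicalComplex.singleObjXSelf (ComplexShape.up ℤ) m P).hom ≫
          a ≫ K.iCycles m :=
      ⟨HomologicalComplex.mkHomFromSingle (a ≫ K.iCycles m) (fun k _ => by
        rw [Category.assoc, HomologicalComplex.iCycles_d, comp_zero]),
        HomologicalComplex.mkHomFromSingle_f _ _⟩
    have h0 : (Q : _ ⥤ DerivedCategory C).map φ = Q.map 0 := by
      rw [h (Q.map φ), Functor.map_zero]
    obtain ⟨H⟩ := homotopy_of_Q_map_eq_of_isKProjective h0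
    have hc := H.comm m
    rw [dNext_eq H.hom (show (ComplexShape.up ℤ).Rel m (m + 1) from rfl),
      prevD_eq H.hom (show (ComplexShape.up ℤ).Rel (m - 1) m by simp),
      HomologicalComplex.single_obj_d, zero_comp, zero_add, HomologicalComplex.zero_f,
      add_zero, hφ] at hc
    have h2 : a ≫ K.iCycles m =
        ((HomologicalComplex.singleObjXSelf (ComplexShape.up ℤ) m P).inv ≫ H.hom m (m - 1) ≫
          K.toCycles (m - 1) m) ≫ K.iCycles m := by
      rw [Category.assoc, Category.assoc, HomologicalComplex.toCycles_i, ← hc,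
        Iso.inv_hom_id_assoc]
    rw [(cancel_mono (K.iCycles m)).1 h2, Category.assoc, Category.assoc,
      HomologicalComplex.toCycles_comp_homologyπ, comp_zero, comp_zero]
  exact IsZero.of_epi_eq_zero _ hπ

end Gen

section Shift

variable {D : Type*} [Category D] [Preadditive D] [HasShift D ℤ]
  [∀ n : ℤ, (shiftFunctor D n).Additive]

lemma forall_hom_shift_eq_zero_iff {X X' K : D} (n : ℤ) (e : X'⟦n⟧ ≅ X) :
    (∀ u : X ⟶ K⟦n⟧, u = 0) ↔ (∀ g : X' ⟶ K, g = 0) := by
  constructor
  · intro h g
    apply (shiftFunctor D n).map_injective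
    rw [Functor.map_zero, ← cancel_epi e.inv, comp_zero]
    exact h _
  · intro h u
    obtain ⟨g, hg⟩ := (shiftFunctor D n).map_surjective (e.hom ≫ u)
    rw [h g, Functor.map_zero] at hg
    rw [← cancel_epi e.hom, ← hg, comp_zero]

end Shift

section Main

variable {A : Type u} [CommRing A]

/-- restriction of scalars `D(A_f) ⥤ D(A)`. -/
noncomputable abbrev Fr (f : A) : Dual.D (Localization.Away f) ⥤ Dual.D A :=
  DRing.restrictD (algebraMap A (Localization.Away f))

/-- `K` is right orthogonal to the essential image of `D(A_f)`. -/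
def Orth (f : A) (K : Dual.D A) : Prop :=
  ∀ (E : Dual.D (Localization.Away f)) (g : (Fr f).obj E ⟶ K), g = 0

/-- `A_f` placed in degree `n`. -/
noncomputable abbrev Xn (f : A) (n : ℤ) : Dual.D A :=
  (singleFunctor (ModuleCat.{u} A) n).obj (ModuleCat.of A (Localization.Away f))

/-- `A_f`, as a module over itself, placed in degree `n`. -/
noncomputable abbrev Bn (f : A) (n : ℤ) : Dual.D (Localization.Away f) :=
  (singleFunctor (ModuleCat.{u} (Localization.Away f)) n).obj
    (ModuleCat.of (Localization.Away f) (Localization.Away f))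

noncomputable def eXn (f : A) (n : ℤ) : (Xn f n)⟦n⟧ ≅ Dual.inD A (Localization.Away f) :=
  ((singleFunctors (ModuleCat.{u} A)).shiftIso n 0 n (add_zero n)).app _

noncomputable def FXn (f : A) (n : ℤ) : (Fr f).obj (Bn f n) ≅ Xn f n :=
  restrictDSingleIso _ _ n ≪≫
    (singleFunctor (ModuleCat.{u} A) n).mapIso (e₀ (A := A) (Localization.Away f)).toModuleIso

lemma forall_single_iff (f : A) (K : Dual.D A) (n : ℤ) :
    (∀ u : Dual.inD A (Localization.Away f) ⟶ K⟦n⟧, u = 0) ↔
      ∀ g : (Fr f).obj (Bn f n) ⟶ K, g = 0 := by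
  rw [forall_hom_shift_eq_zero_iff n (eXn f n)]
  constructor
  · intro h g
    exact (cancel_epi (FXn f n).inv).1 ((h ((FXn f n).inv ≫ g)).trans comp_zero.symm)
  · intro h g
    exact (cancel_epi (FXn f n).hom).1 ((h ((FXn f n).hom ≫ g)).trans comp_zero.symm)

lemma isZero_homology_RG (f : A) (K : Dual.D A) (m : ℤ)
    (h : ∀ g : (Fr f).obj (Bn f m) ⟶ K, g = 0) :
    IsZero ((homologyFunctor (ModuleCat.{u} (Localization.Away f)) m).obj
      ((RG (algebraMap A (Localization.Away f))).obj K)) := by
  let C' := (Q : _ ⥤ Dual.D (Localization.Away f)).objPreimage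
    ((RG (algebraMap A (Localization.Away f))).obj K)
  let e : Q.obj C' ≅ (RG (algebraMap A (Localization.Away f))).obj K := Q.objObjPreimageIso _
  have hex : C'.ExactAt m := by
    apply exactAt_of_forall_single
      (P := ModuleCat.of (Localization.Away f) (Localization.Away f)) (isSeparator_of_self _) C' m
    intro g
    have hx : (singleFunctorIsoCompQ (ModuleCat.{u} (Localization.Away f)) m).hom.app
        (ModuleCat.of (Localization.Away f) (Localization.Away f)) ≫ g ≫ e.hom = 0 :=
      ((adjRG (algebraMap A (Localization.Away f))).homEquiv _ _).symm.injective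
        ((h _).trans (h _).symm)
    have hx' : g ≫ e.hom = 0 :=
      (cancel_epi ((singleFunctorIsoCompQ (ModuleCat.{u} (Localization.Away f)) m).hom.app
        (ModuleCat.of (Localization.Away f) (Localization.Away f)))).1 (hx.trans comp_zero.symm)
    exact (cancel_mono e.hom).1 (hx'.trans zero_comp.symm)
  have h1 : IsZero ((homologyFunctor (ModuleCat.{u} (Localization.Away f)) m).obj (Q.obj C')) := by
    refine IsZero.of_iso ?_ ((homologyFunctorFactors (ModuleCat.{u} (Localization.Away f)) m).app C')
    exact (HomologicalComplex.exactAt_iff_isZero_homology _ _).1 hex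
  exact IsZero.of_iso h1 ((homologyFunctor (ModuleCat.{u} (Localization.Away f)) m).mapIso e.symm)

/-- **S7098**: `Hom(A_f[0], K[n]) = 0` for all `n` iff `K` is right orthogonal to `D(A_f)`. -/
theorem cpl_iff_orth (f : A) (K : Dual.D A) :
    (∀ n : ℤ, ∀ u : Dual.inD A (Localization.Away f) ⟶ K⟦n⟧, u = 0) ↔ Orth f K := by
  constructor
  · intro h
    have h' : ∀ n : ℤ, ∀ g : (Fr f).obj (Bn f n) ⟶ K, g = 0 := fun n =>
      (forall_single_iff f K n).1 (h n)
    have hz : IsZero ((RG (algebraMap A (Localization.Away f))).obj K) := by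
      have h0 : ((RG (algebraMap A (Localization.Away f))).obj K).IsLE 0 := by
        rw [DerivedCategory.isLE_iff]
        exact fun i _ => isZero_homology_RG f K i (h' i)
      have h1 : ((RG (algebraMap A (Localization.Away f))).obj K).IsGE 1 := by
        rw [DerivedCategory.isGE_iff]
        exact fun i _ => isZero_homology_RG f K i (h' i)
      exact DerivedCategory.TStructure.t.isZero _ 0 1 (by simp)
    exact (local_iff_isZero (Fr f) _ (adjRG (algebraMap A (Localization.Away f))) K).2 hz
  · intro h n
    exact (forall_single_iff f K n).2 (fun g => h _ g)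

end Main

section Main2

variable {A : Type u} [CommRing A]

lemma isZero_homology_FRG (f : A) (K : Dual.D A) (m : ℤ)
    (h : ∀ g : (Fr f).obj (Bn f m) ⟶ K, g = 0) :
    IsZero ((homologyFunctor (ModuleCat.{u} A) m).obj
      ((Fr f).obj ((RG (algebraMap A (Localization.Away f))).obj K))) := by
  refine IsZero.of_iso ?_ (homologyMapDIso
    (ModuleCat.restrictScalars.{u} (algebraMap A (Localization.Away f))) _ m)
  exact Functor.map_isZero _ (isZero_homology_RG f K m h)

/-- `RHom(A_f, K)` is derived `g`-complete if `K` is. -/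
lemma orth_FRG (f g : A) (K : Dual.D A) (hK : Orth g K) :
    Orth g ((Fr f).obj ((RG (algebraMap A (Localization.Away f))).obj K)) := by
  intro E' u
  have hall : ∀ w : (Fr f).obj ((extD A (Localization.Away f)).obj ((Fr g).obj E')) ⟶ K, w = 0 := by
    let C := (Q : _ ⥤ Dual.D (Localization.Away g)).objPreimage E'
    let e : Q.obj C ≅ E' := Q.objObjPreimageIso E'
    let Y : Dual.D (Localization.Away (algebraMap A (Localization.Away g) f)) :=
      Q.obj ((extCx (Localization.Away g)
        (Localization.Away (algebraMap A (Localization.Away g) f))).obj C)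
    have hρ : (locMap (A := Localization.Away g) f).comp (algebraMap A (Localization.Away f)) =
        (algebraMap (Localization.Away g)
          (Localization.Away (algebraMap A (Localization.Away g) f))).comp
          (algebraMap A (Localization.Away g)) :=
      RingHom.ext fun a => locMap_algebraMap (A := Localization.Away g) f a
    let ι : (Fr f).obj ((extD A (Localization.Away f)).obj ((Fr g).obj E')) ≅
        (Fr g).obj ((DRing.restrictD (algebraMap (Localization.Away g)
          (Localization.Away (algebraMap A (Localization.Away g) f)))).obj Y) :=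
      (Fr f).mapIso ((extD A (Localization.Away f)).mapIso ((Fr g).mapIso e.symm)) ≪≫
        (Fr f).mapIso (bcDIso (P := A) (A := Localization.Away g) f C) ≪≫
        restrictDCompIso (algebraMap A (Localization.Away f))
          (locMap (A := Localization.Away g) f) Y ≪≫
        eqToIso (congrArg (fun ρ => (DRing.restrictD ρ).obj Y) hρ) ≪≫
        (restrictDCompIso (algebraMap A (Localization.Away g)) (algebraMap (Localization.Away g)
          (Localization.Away (algebraMap A (Localization.Away g) f))) Y).symm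
    intro w
    exact (cancel_epi ι.inv).1 ((hK _ (ι.inv ≫ w)).trans comp_zero.symm)
  exact ((adjExt f).homEquiv _ _).symm.injective
    (((adjRG (algebraMap A (Localization.Away f))).homEquiv _ _).symm.injective
      ((hall _).trans (hall _).symm))

/-- Derived completion with respect to one element. -/
theorem exists_step (f : A) (K : Dual.D A) :
    ∃ (K' : Dual.D A) (η : K ⟶ K'),
      Orth f K' ∧ IsUniv (Orth f) η ∧ (∀ g : A, Orth g K → Orth g K') ∧
      (∀ n : ℤ, (∀ i : ℤ, i ≤ n + 1 → IsZero ((homologyFunctor (ModuleCat.{u} A) i).obj K)) →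
        IsZero ((homologyFunctor (ModuleCat.{u} A) n).obj K')) ∧
      (∀ n : ℤ, (∀ i : ℤ, n ≤ i → IsZero ((homologyFunctor (ModuleCat.{u} A) i).obj K)) →
        IsZero ((homologyFunctor (ModuleCat.{u} A) n).obj K')) := by
  obtain ⟨K', η, δ, hT, hloc⟩ := exists_local_cone (Fr f)
    (RG (algebraMap A (Localization.Away f))) (adjRG (algebraMap A (Localization.Away f))) K
  have hbound : ∀ n : ℤ, IsZero ((homologyFunctor (ModuleCat.{u} A) n).obj K) →
      (∀ u : Dual.inD A (Localization.Away f) ⟶ K⟦n + 1⟧, u = 0) →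
      IsZero ((homologyFunctor (ModuleCat.{u} A) n).obj K') := by
    intro n h1 h2
    have h3 := isZero_homology_FRG f K (n + 1) ((forall_single_iff f K (n + 1)).1 h2)
    have ex := HomologySequence.exact₃ _ hT n (n + 1) rfl
    exact ex.isZero_of_both_zeros (h1.eq_of_src _ _) (h3.eq_of_tgt _ _)
  refine ⟨K', η, hloc, ?_, ?_, ?_, ?_⟩
  · exact isUniv_of_local_cone (Fr f) (RG (algebraMap A (Localization.Away f)))
      (adjRG (algebraMap A (Localization.Away f))) K _ hT (Iso.refl _)
  · intro g hg
    exact orth_obj₃ (Fr g) (RG (algebraMap A (Localization.Away g)))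
      (adjRG (algebraMap A (Localization.Away g))) _ hT (orth_FRG f g K hg) hg
  · intro n h
    apply hbound n (h n (by lia))
    have : K.IsGE (n + 2) := by
      rw [DerivedCategory.isGE_iff]
      exact fun i hi => h i (by lia)
    have : (K⟦n + 1⟧).IsGE 1 := tt.isGE_shift K (n + 2) (n + 1) 1 (by lia)
    exact V_of_isGE f _
  · intro n h
    apply hbound n (h n le_rfl)
    have : K.IsLE (n - 1) := by
      rw [DerivedCategory.isLE_iff]
      exact fun i hi => h i (by lia)
    have : (K⟦n + 1⟧).IsLE (-2) := tt.isLE_shift K (n - 1) (n + 1) (-2) (by lia)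
    exact V_of_isLE f _

end Main2

section Main3

variable {A : Type u} [CommRing A]

/-- Derived completion with respect to a finite set of elements. -/
theorem exists_completion (s : Finset A) : ∀ K : Dual.D A,
    ∃ (K' : Dual.D A) (η : K ⟶ K'),
      (∀ f ∈ s, Orth f K') ∧ IsUniv (fun M => ∀ f ∈ s, Orth f M) η ∧
      (∀ g : A, Orth g K → Orth g K') ∧
      (∀ n : ℤ, (∀ i : ℤ, i ≤ n + s.card →
          IsZero ((homologyFunctor (ModuleCat.{u} A) i).obj K)) →
        IsZero ((homologyFunctor (ModuleCat.{u} A) n).obj K')) ∧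
      (∀ n : ℤ, (∀ i : ℤ, n ≤ i → IsZero ((homologyFunctor (ModuleCat.{u} A) i).obj K)) →
        IsZero ((homologyFunctor (ModuleCat.{u} A) n).obj K')) := by
  classical
  induction s using Finset.induction_on with
  | empty =>
    intro K
    exact ⟨K, 𝟙 K, by simp, IsUniv.id _ K, fun g h => h, fun n h => h n (by simp),
      fun n h => h n le_rfl⟩
  | insert a s ha ih =>
    intro K
    obtain ⟨K₁, η₁, h1a, h1b, h1c, h1d, h1e⟩ := ih K
    obtain ⟨K₂, η₂, h2a, h2b, h2c, h2d, h2e⟩ := exists_step a K₁
    refine ⟨K₂, η₁ ≫ η₂, ?_, ?_, ?_, ?_, ?_⟩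
    · intro f hf
      rcases Finset.mem_insert.1 hf with rfl | hf
      · exact h2a
      · exact h2c f (h1a f hf)
    · exact h1b.comp h2b (fun M hM f hf => hM f (Finset.mem_insert_of_mem hf))
        (fun M hM => hM a (Finset.mem_insert_self a s))
    · exact fun g hg => h2c g (h1c g hg)
    · intro n h
      apply h2d n
      intro j hj
      apply h1d j
      intro i hi
      apply h i
      rw [Finset.card_insert_of_notMem ha]
      push_cast
      lia
    · intro n h
      apply h2e n
      intro j hj
      exact h1e j (fun i hi => h i (by lia))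

theorem isDerivedComplete_iff_orth (I : Ideal A) (s : Finset A)
    (hs : Ideal.span (s : Set A) = I) (K : Dual.D A) :
    DRing.IsDerivedComplete I K ↔ ∀ f ∈ s, Orth f K := by
  constructor
  · intro h f hf
    have hfI : f ∈ I := hs ▸ Ideal.subset_span hf
    exact (cpl_iff_orth f K).1 (fun n u => @Subsingleton.elim _ (h f hfI n) _ _)
  · intro h
    rw [isDerivedComplete_iff_forall_crit]
    intro f hf i
    have h1 : ∀ g ∈ s, Crit g (Dual.HD A K i) := fun g hg =>
      (V_shift_iff_crit g K).1 (fun n => (cpl_iff_orth g K).2 (h g hg) n) i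
    have h2 : I ≤ critIdeal A (Dual.HD A K i) := by
      rw [← hs]
      exact Ideal.span_le.2 (fun g hg => h1 g hg)
    exact h2 hf

/-- Derived completion with respect to a finitely generated ideal, with cohomological bounds. -/
theorem exists_derivedCompletion (I : Ideal A) (s : Finset A)
    (hs : Ideal.span (s : Set A) = I) (K : Dual.D A) :
    ∃ (K' : Dual.D A) (η : K ⟶ K'),
      DRing.IsDerivedComplete I K' ∧ IsUniv (DRing.IsDerivedComplete I) η ∧
      (∀ n : ℤ, (∀ i : ℤ, i ≤ n + s.card →
          IsZero ((homologyFunctor (ModuleCat.{u} A) i).obj K)) →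
        IsZero ((homologyFunctor (ModuleCat.{u} A) n).obj K')) ∧
      (∀ n : ℤ, (∀ i : ℤ, n ≤ i → IsZero ((homologyFunctor (ModuleCat.{u} A) i).obj K)) →
        IsZero ((homologyFunctor (ModuleCat.{u} A) n).obj K')) := by
  obtain ⟨K', η, h1, h2, _, h4, h5⟩ := exists_completion s K
  exact ⟨K', η, (isDerivedComplete_iff_orth I s hs K').2 h1,
    fun M hM => h2 M ((isDerivedComplete_iff_orth I s hs M).1 hM), h4, h5⟩

lemma isDerivedComplete_shift (I : Ideal A) (M : Dual.D A) (n : ℤ)
    (h : DRing.IsDerivedComplete I M) : DRing.IsDerivedComplete I (M⟦n⟧) := by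
  intro f hf m
  have := h f hf (n + m)
  let e : (M⟦n⟧)⟦m⟧ ≅ M⟦n + m⟧ := ((shiftFunctorAdd' (Dual.D A) n m (n + m) rfl).app M).symm
  exact ⟨fun a b => (cancel_mono e.hom).1 (Subsingleton.elim (a ≫ e.hom) (b ≫ e.hom))⟩

lemma isDerivedComplete_of_iso (I : Ideal A) {M M' : Dual.D A} (e : M ≅ M')
    (h : DRing.IsDerivedComplete I M) : DRing.IsDerivedComplete I M' := by
  intro f hf m
  have := h f hf m
  let e' : M⟦m⟧ ≅ M'⟦m⟧ := (shiftFunctor (Dual.D A) m).mapIso e
  exact ⟨fun a b => (cancel_mono e'.inv).1 (Subsingleton.elim (a ≫ e'.inv) (b ≫ e'.inv))⟩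

lemma isDerivedComplete_obj₃ (I : Ideal A) (s : Finset A) (hs : Ideal.span (s : Set A) = I)
    (T : Triangle (Dual.D A)) (hT : T ∈ distTriang _) (h₁ : DRing.IsDerivedComplete I T.obj₁)
    (h₂ : DRing.IsDerivedComplete I T.obj₂) : DRing.IsDerivedComplete I T.obj₃ := by
  rw [isDerivedComplete_iff_orth I s hs] at h₁ h₂ ⊢
  intro f hf
  exact orth_obj₃ (Fr f) (RG (algebraMap A (Localization.Away f)))
    (adjRG (algebraMap A (Localization.Away f))) T hT (h₁ f hf) (h₂ f hf)

/-- **S7096** -/
theorem hasDerivedCompletion (I : Ideal A) (hI : I.FG) : DRing.HasDerivedCompletion I := by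
  obtain ⟨s, hs⟩ := hI
  choose K' η hK' hη _ _ using fun K => exists_derivedCompletion I s hs K
  let e : ∀ (X : Dual.D A) (Y : DRing.DComp I),
      ((⟨K' X, hK' X⟩ : DRing.DComp I) ⟶ Y) ≃
        (X ⟶ (ObjectProperty.ι (DRing.IsDerivedComplete I)).obj Y) := fun X Y =>
    { toFun := fun g => η X ≫ g.hom
      invFun := fun u => ObjectProperty.homMk ((hη X Y.obj Y.property).2 u).choose
      left_inv := fun g => by
        apply ObjectProperty.hom_ext
        exact (hη X Y.obj Y.property).1 ((hη X Y.obj Y.property).2 (η X ≫ g.hom)).choose_spec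
      right_inv := fun u => ((hη X Y.obj Y.property).2 u).choose_spec }
  exact ⟨_, ⟨Adjunction.adjunctionOfEquivLeft e (fun X Y Y' g h => by
    simp only [e, Equiv.coe_fn_mk, ObjectProperty.FullSubcategory.comp_hom, Category.assoc,
      ObjectProperty.ι_map])⟩⟩

lemma isUniv_unit (I : Ideal A) [DRing.HasDerivedCompletion I] (K : Dual.D A) :
    IsUniv (DRing.IsDerivedComplete I) (DRing.toDerivedCompletion I K) := by
  intro M hM
  have hb := ((DRing.derivedCompletionAdj I).homEquiv K ⟨M, hM⟩).bijective
  refine ⟨fun g₁ g₂ h => ?_, fun u => ?_⟩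
  · have := hb.1 (a₁ := ObjectProperty.homMk g₁) (a₂ := ObjectProperty.homMk g₂) (by
      rw [Adjunction.homEquiv_unit, Adjunction.homEquiv_unit]
      exact h)
    exact congrArg (·.hom) this
  · obtain ⟨g, hg⟩ := hb.2 u
    exact ⟨g.hom, by rw [← hg, Adjunction.homEquiv_unit]; rfl⟩

/-- bounds for any derived completion. -/
theorem bounds_of_isUniv (I : Ideal A) (s : Finset A) (hs : Ideal.span (s : Set A) = I)
    {K K'' : Dual.D A} (η' : K ⟶ K'') (hK'' : DRing.IsDerivedComplete I K'')
    (hη' : IsUniv (DRing.IsDerivedComplete I) η') :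
    (∀ n : ℤ, (∀ i : ℤ, i ≤ n + s.card →
          IsZero ((homologyFunctor (ModuleCat.{u} A) i).obj K)) →
        IsZero ((homologyFunctor (ModuleCat.{u} A) n).obj K'')) ∧
      (∀ n : ℤ, (∀ i : ℤ, n ≤ i → IsZero ((homologyFunctor (ModuleCat.{u} A) i).obj K)) →
        IsZero ((homologyFunctor (ModuleCat.{u} A) n).obj K'')) := by
  obtain ⟨K', η, h1, h2, h4, h5⟩ := exists_derivedCompletion I s hs K
  obtain ⟨e, _⟩ := h2.exists_iso hη' h1 hK''
  exact ⟨fun n h => IsZero.of_iso (h4 n h) ((homologyFunctor _ n).mapIso e.symm),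
    fun n h => IsZero.of_iso (h5 n h) ((homologyFunctor _ n).mapIso e.symm)⟩

/-- the cone of the completion of a morphism is the completion of the cone. -/
theorem bounds_cone (I : Ideal A) (s : Finset A) (hs : Ideal.span (s : Set A) = I)
    [DRing.HasDerivedCompletion I] {K L : Dual.D A} (φ : K ⟶ L)
    (T T' : Triangle (Dual.D A)) (hT : T ∈ distTriang _) (hT' : T' ∈ distTriang _)
    (e₁ : T.obj₁ ≅ K) (e₂ : T.obj₂ ≅ L) (hφ : T.mor₁ ≫ e₂.hom = e₁.hom ≫ φ)
    (e₁' : T'.obj₁ ≅ ((DRing.derivedCompletion I).obj K).obj)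
    (e₂' : T'.obj₂ ≅ ((DRing.derivedCompletion I).obj L).obj)
    (hφ' : T'.mor₁ ≫ e₂'.hom = e₁'.hom ≫ ((DRing.derivedCompletion I).map φ).hom) :
    (∀ n : ℤ, (∀ i : ℤ, i ≤ n + s.card →
          IsZero ((homologyFunctor (ModuleCat.{u} A) i).obj T.obj₃)) →
        IsZero ((homologyFunctor (ModuleCat.{u} A) n).obj T'.obj₃)) ∧
      (∀ n : ℤ, (∀ i : ℤ, n ≤ i → IsZero ((homologyFunctor (ModuleCat.{u} A) i).obj T.obj₃)) →
        IsZero ((homologyFunctor (ModuleCat.{u} A) n).obj T'.obj₃)) := by
  have hK := (isUniv_unit I K).of_iso e₁'.symm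
  have hL := (isUniv_unit I L).of_iso e₂'.symm
  have hnat : φ ≫ DRing.toDerivedCompletion I L =
      DRing.toDerivedCompletion I K ≫ ((DRing.derivedCompletion I).map φ).hom :=
    (DRing.derivedCompletionAdj I).unit.naturality φ
  have hK2 : IsUniv (DRing.IsDerivedComplete I)
      (e₁.hom ≫ DRing.toDerivedCompletion I K ≫ e₁'.inv) := hK.of_iso_left e₁
  have hL2 : IsUniv (DRing.IsDerivedComplete I)
      (e₂.hom ≫ DRing.toDerivedCompletion I L ≫ e₂'.inv) := hL.of_iso_left e₂
  have comm : T.mor₁ ≫ (e₂.hom ≫ DRing.toDerivedCompletion I L ≫ e₂'.inv) =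
      (e₁.hom ≫ DRing.toDerivedCompletion I K ≫ e₁'.inv) ≫ T'.mor₁ := by
    have h1 : e₁'.inv ≫ T'.mor₁ = ((DRing.derivedCompletion I).map φ).hom ≫ e₂'.inv := by
      rw [Iso.inv_comp_eq, ← Category.assoc, ← hφ', Category.assoc, Iso.hom_inv_id,
        Category.comp_id]
    rw [← Category.assoc, hφ, Category.assoc, Category.assoc, Category.assoc, h1,
      ← Category.assoc φ, hnat, Category.assoc]
  obtain ⟨c, _, hc⟩ := IsUniv.cone (isDerivedComplete_shift I) T T' hT hT' _ _ comm hK2 hL2
  have hcomp : DRing.IsDerivedComplete I T'.obj₃ :=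
    isDerivedComplete_obj₃ I s hs T' hT'
      (isDerivedComplete_of_iso I e₁'.symm ((DRing.derivedCompletion I).obj K).property)
      (isDerivedComplete_of_iso I e₂'.symm ((DRing.derivedCompletion I).obj L).property)
  exact bounds_of_isUniv I s hs c hcomp hc

end Main3

section Coconn

variable {A : Type u} [CommRing A]

/-- coconnectivity of the first map of a distinguished triangle in terms of the cone. -/
lemma coconn_iff_of_distTriang (T : Triangle (Dual.D A)) (hT : T ∈ distTriang _) (m : ℤ) :
    ((∀ i : ℤ, i < m → IsIso ((homologyFunctor (ModuleCat.{u} A) i).map T.mor₁)) ∧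
      Mono ((homologyFunctor (ModuleCat.{u} A) m).map T.mor₁)) ↔ T.obj₃.IsGE m := by
  rw [DerivedCategory.isGE_iff]
  constructor
  · rintro ⟨h1, h2⟩ i hi
    have hepi : Epi ((homologyFunctor (ModuleCat.{u} A) i).map T.mor₁) := by
      have := h1 i hi
      infer_instance
    have hmono : Mono ((homologyFunctor (ModuleCat.{u} A) (i + 1)).map T.mor₁) := by
      rcases (show i + 1 ≤ m by lia).eq_or_lt with h | h
      · rw [h]
        exact h2
      · have := h1 (i + 1) h
        infer_instance
    have e1 := (HomologySequence.epi_homologyMap_mor₁_iff T hT i).1 hepi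
    have e2 := (HomologySequence.mono_homologyMap_mor₁_iff T hT i (i + 1) rfl).1 hmono
    have ex := HomologySequence.exact₃ T hT i (i + 1) rfl
    exact ex.isZero_of_both_zeros e1 e2
  · intro h
    have hepi : ∀ i : ℤ, i < m → Epi ((homologyFunctor (ModuleCat.{u} A) i).map T.mor₁) := by
      intro i hi
      rw [HomologySequence.epi_homologyMap_mor₁_iff T hT i]
      exact (h i hi).eq_of_tgt _ _
    have hmono : ∀ i : ℤ, i ≤ m → Mono ((homologyFunctor (ModuleCat.{u} A) i).map T.mor₁) := by
      intro i hi
      rw [HomologySequence.mono_homologyMap_mor₁_iff T hT (i - 1) i (by lia)]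
      exact (h (i - 1) (by lia)).eq_of_src _ _
    refine ⟨fun i hi => ?_, hmono m le_rfl⟩
    have := hepi i hi
    have := hmono i hi.le
    exact isIso_of_mono_of_epi _

end Coconn

end Groth.Agent.Lib.T2H4.DComp
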