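import Mathlib

/-!
# Divided powers on the `p`-adic completion (helper4), part A
-/

set_option autoImplicit false
universe u

namespace Groth.Agent.Lib.T2H4.DPowCompl

open Finset Nat

variable {A : Type u} [CommRing A] {I : Ideal A} (γ : DividedPowers I) (q : A) (t : ℕ)

/-- Continuity of divided powers for the `q`-adic topology. -/
lemma dpow_sub_mem (ht : Ideal.span {q} ^ t ≤ I) {a a' : A} (ha : a ∈ I) (ha' : a' ∈ I)
    (k : ℕ) (h : a - a' ∈ Ideal.span {q} ^ (k + t)) (m : ℕ) :
    γ.dpow m a - γ.dpow m a' ∈ Ideal.span {q} ^ k := by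
  rw [Ideal.span_singleton_pow, Ideal.mem_span_singleton'] at h
  obtain ⟨z, hz⟩ := h
  set w := z * q ^ t with hw
  have hwI : w ∈ I := by
    apply ht
    rw [Ideal.span_singleton_pow]
    exact Ideal.mul_mem_left _ _ (Ideal.subset_span rfl)
  have ha_eq : a = a' + q ^ k * w := by
    rw [hw]; linear_combination (-1 : A) * hz
  have hmem : (m, 0) ∈ antidiagonal m := by simp
  rw [ha_eq, γ.dpow_add ha' (I.mul_mem_left _ hwI), ← Finset.add_sum_erase _ _ hmem]
  simp only
  rw [γ.dpow_zero (I.mul_mem_left _ hwI), mul_one, add_sub_cancel_left]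
  refine Ideal.sum_mem _ fun x hx => ?_
  rw [Finset.mem_erase, HasAntidiagonal.mem_antidiagonal] at hx
  have hx2 : x.2 ≠ 0 := by
    intro h0
    apply hx.1
    ext
    · simp; omega
    · simp [h0]
  rw [γ.dpow_mul hwI, Ideal.span_singleton_pow]
  refine Ideal.mul_mem_left _ _ (Ideal.mul_mem_right _ _ ?_)
  rw [Ideal.mem_span_singleton]
  exact dvd_pow_self _ hx2

variable {q t}

/-- The projection from the completion to `A ⧸ I`. -/
noncomputable def piHat (ht : Ideal.span {q} ^ t ≤ I) :
    AdicCompletion (Ideal.span {q}) A →+* A ⧸ I :=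
  (Ideal.Quotient.factor ht).comp (AdicCompletion.evalₐ (Ideal.span {q}) t).toRingHom

lemma piHat_surjective (ht : Ideal.span {q} ^ t ≤ I) : Function.Surjective (piHat ht) := by
  unfold piHat
  rw [RingHom.coe_comp]
  exact (Ideal.Quotient.factor_surjective ht).comp (AdicCompletion.surjective_evalₐ _ t)

/-- Compatibility of the evaluation maps. -/
lemma ev_of_le {k n : ℕ} (hkn : k ≤ n) (x : AdicCompletion (Ideal.span {q}) A) (a : A)
    (h : AdicCompletion.evalₐ (Ideal.span {q}) n x = Ideal.Quotient.mk _ a) :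
    AdicCompletion.evalₐ (Ideal.span {q}) k x = Ideal.Quotient.mk _ a := by
  obtain ⟨f, rfl⟩ := AdicCompletion.mk_surjective _ _ x
  rw [AdicCompletion.evalₐ_mk] at h ⊢
  rw [Ideal.Quotient.eq] at h ⊢
  have h1 : f.val k - f.val n ∈ Ideal.span {q} ^ k := by
    have := f.property hkn
    rw [SModEq.sub_mem] at this
    simpa using this
  have h2 : f.val n - a ∈ Ideal.span {q} ^ k := Ideal.pow_le_pow_right hkn h
  have : f.val k - a = (f.val k - f.val n) + (f.val n - a) := by ring
  rw [this]
  exact Ideal.add_mem _ h1 h2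

lemma mem_ker_iff (ht : Ideal.span {q} ^ t ≤ I) (x : AdicCompletion (Ideal.span {q}) A) (a : A)
    (h : AdicCompletion.evalₐ (Ideal.span {q}) t x = Ideal.Quotient.mk _ a) :
    x ∈ RingHom.ker (piHat ht) ↔ a ∈ I := by
  rw [RingHom.mem_ker, piHat, RingHom.comp_apply]
  change Ideal.Quotient.factor ht (AdicCompletion.evalₐ (Ideal.span {q}) t x) = 0 ↔ _
  rw [h, Ideal.Quotient.factor_mk, Ideal.Quotient.eq_zero_iff_mem]

lemma lift_mem (ht : Ideal.span {q} ^ t ≤ I) {x : AdicCompletion (Ideal.span {q}) A}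
    (hx : x ∈ RingHom.ker (piHat ht)) {n : ℕ} (hn : t ≤ n) {a : A}
    (h : AdicCompletion.evalₐ (Ideal.span {q}) n x = Ideal.Quotient.mk _ a) : a ∈ I :=
  (mem_ker_iff ht x a (ev_of_le hn x a h)).mp hx

lemma exists_lift (x : AdicCompletion (Ideal.span {q}) A) (n : ℕ) :
    ∃ a : A, AdicCompletion.evalₐ (Ideal.span {q}) n x = Ideal.Quotient.mk _ a := by
  obtain ⟨a, ha⟩ := Ideal.Quotient.mk_surjective (AdicCompletion.evalₐ (Ideal.span {q}) n x)
  exact ⟨a, ha.symm⟩

open Classical in
/-- The divided powers on the completion. -/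
noncomputable def dHat (ht : Ideal.span {q} ^ t ≤ I) (m : ℕ)
    (x : AdicCompletion (Ideal.span {q}) A) : AdicCompletion (Ideal.span {q}) A :=
  if hx : x ∈ RingHom.ker (piHat ht) then
    AdicCompletion.mk (Ideal.span {q}) A
      (AdicCompletion.AdicCauchySequence.mk (Ideal.span {q}) A
        (fun k => γ.dpow m ((AdicCompletion.mk_surjective _ _ x).choose.val (k + t)))
        (by
          intro k
          set f := (AdicCompletion.mk_surjective _ _ x).choose with hf
          have hfx : AdicCompletion.mk _ _ f = x := (AdicCompletion.mk_surjective _ _ x).choose_spec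
          have hmem : ∀ n, t ≤ n → f.val n ∈ I := by
            intro n hn
            refine lift_mem ht hx hn ?_
            rw [← hfx, AdicCompletion.evalₐ_mk]
          rw [SModEq.sub_mem]
          have h1 : f.val (k + t) - f.val (k + 1 + t) ∈ Ideal.span {q} ^ (k + t) := by
            have := f.property (show k + t ≤ k + 1 + t by omega)
            rw [SModEq.sub_mem] at this
            simpa using this
          have := dpow_sub_mem γ q t ht (hmem _ (by omega)) (hmem _ (by omega)) k h1 m
          simpa using this))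
  else 0

variable {γ}

/-- The key formula for the evaluation of the divided powers. -/
lemma ev_dHat (ht : Ideal.span {q} ^ t ≤ I) {x : AdicCompletion (Ideal.span {q}) A}
    (hx : x ∈ RingHom.ker (piHat ht)) (k : ℕ) {a : A}
    (h : AdicCompletion.evalₐ (Ideal.span {q}) (k + t) x = Ideal.Quotient.mk _ a) (m : ℕ) :
    AdicCompletion.evalₐ (Ideal.span {q}) k (dHat γ ht m x) =
      Ideal.Quotient.mk _ (γ.dpow m a) := by
  have ha : a ∈ I := lift_mem ht hx (by omega) h
  unfold dHat
  rw [dif_pos hx, AdicCompletion.evalₐ_mk]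
  set f := (AdicCompletion.mk_surjective _ _ x).choose with hf
  have hfx : AdicCompletion.mk _ _ f = x := (AdicCompletion.mk_surjective _ _ x).choose_spec
  have hfmem : f.val (k + t) ∈ I := by
    refine lift_mem ht hx (by omega : t ≤ k + t) ?_
    rw [← hfx, AdicCompletion.evalₐ_mk]
  have h2 : f.val (k + t) - a ∈ Ideal.span {q} ^ (k + t) := by
    rw [← Ideal.Quotient.eq, ← h, ← hfx, AdicCompletion.evalₐ_mk]
  rw [Ideal.Quotient.eq]
  exact dpow_sub_mem γ q t ht hfmem ha k h2 m

end Groth.Agent.Lib.T2H4.DPowCompl
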