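import Groth.Agent.Lib.T2H4DPowComplA

/-!
# Divided powers on the `p`-adic completion (helper4), part B
-/

set_option autoImplicit false
universe u

namespace Groth.Agent.Lib.T2H4.DPowCompl

open Finset Nat

variable {A : Type u} [CommRing A] {I : Ideal A} (γ : DividedPowers I) {q : A} {t : ℕ}
  (ht : Ideal.span {q} ^ t ≤ I)

lemma mem_ker_of_lift {x : AdicCompletion (Ideal.span {q}) A} {a : A} (ha : a ∈ I)
    (h : AdicCompletion.evalₐ (Ideal.span {q}) t x = Ideal.Quotient.mk _ a) :
    x ∈ RingHom.ker (piHat ht) :=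
  (mem_ker_iff ht x a h).mpr ha

/-- The divided power structure on the kernel. -/
noncomputable def dividedPowersHat : DividedPowers (RingHom.ker (piHat ht)) where
  dpow := dHat γ ht
  dpow_null := by
    intro n x hx
    unfold dHat
    rw [dif_neg hx]
  dpow_zero := by
    intro x hx
    refine AdicCompletion.ext_evalₐ fun k => ?_
    obtain ⟨a, ha⟩ := exists_lift x (k + t)
    rw [ev_dHat ht hx k ha, γ.dpow_zero (lift_mem ht hx (by omega) ha), map_one, map_one]
  dpow_one := by
    intro x hx
    refine AdicCompletion.ext_evalₐ fun k => ?_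
    obtain ⟨a, ha⟩ := exists_lift x (k + t)
    rw [ev_dHat ht hx k ha, γ.dpow_one (lift_mem ht hx (by omega) ha),
      ev_of_le (by omega : k ≤ k + t) x a ha]
  dpow_mem := by
    intro n x hn hx
    obtain ⟨a, ha⟩ := exists_lift x (t + t)
    have haI := lift_mem ht hx (by omega) ha
    exact mem_ker_of_lift ht (γ.dpow_mem hn haI) (ev_dHat ht hx t ha n)
  dpow_add := by
    intro n x y hx hy
    refine AdicCompletion.ext_evalₐ fun k => ?_
    obtain ⟨a, ha⟩ := exists_lift x (k + t)
    obtain ⟨b, hb⟩ := exists_lift y (k + t)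
    have haI := lift_mem ht hx (by omega) ha
    have hbI := lift_mem ht hy (by omega) hb
    have hab : AdicCompletion.evalₐ (Ideal.span {q}) (k + t) (x + y) =
        Ideal.Quotient.mk _ (a + b) := by rw [map_add, ha, hb, map_add]
    rw [ev_dHat ht (Ideal.add_mem _ hx hy) k hab, γ.dpow_add haI hbI, map_sum, map_sum]
    refine Finset.sum_congr rfl fun i _ => ?_
    rw [map_mul, map_mul, ev_dHat ht hx k ha, ev_dHat ht hy k hb]
  dpow_mul := by
    intro n c x hx
    refine AdicCompletion.ext_evalₐ fun k => ?_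
    obtain ⟨a, ha⟩ := exists_lift x (k + t)
    obtain ⟨b, hb⟩ := exists_lift c (k + t)
    have haI := lift_mem ht hx (by omega) ha
    have hab : AdicCompletion.evalₐ (Ideal.span {q}) (k + t) (c * x) =
        Ideal.Quotient.mk _ (b * a) := by rw [map_mul, ha, hb, map_mul]
    rw [ev_dHat ht (Ideal.mul_mem_left _ c hx) k hab, γ.dpow_mul haI, map_mul, map_mul, map_pow,
      map_pow, ev_dHat ht hx k ha, ev_of_le (by omega : k ≤ k + t) c b hb]
  mul_dpow := by
    intro m n x hx
    refine AdicCompletion.ext_evalₐ fun k => ?_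
    obtain ⟨a, ha⟩ := exists_lift x (k + t)
    have haI := lift_mem ht hx (by omega) ha
    rw [map_mul, map_mul, ev_dHat ht hx k ha, ev_dHat ht hx k ha, ev_dHat ht hx k ha, ← map_mul,
      γ.mul_dpow haI, map_mul, map_natCast, map_natCast]
  dpow_comp := by
    intro m n x hn hx
    refine AdicCompletion.ext_evalₐ fun k => ?_
    obtain ⟨a, ha⟩ := exists_lift x (k + t + t)
    have haI := lift_mem ht hx (by omega) ha
    have h1 : AdicCompletion.evalₐ (Ideal.span {q}) (k + t) (dHat γ ht n x) =
        Ideal.Quotient.mk _ (γ.dpow n a) := ev_dHat ht hx (k + t) ha n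
    have hmem : dHat γ ht n x ∈ RingHom.ker (piHat ht) := by
      obtain ⟨a', ha'⟩ := exists_lift x (t + t)
      have haI' := lift_mem ht hx (by omega) ha'
      exact mem_ker_of_lift ht (γ.dpow_mem hn haI') (ev_dHat ht hx t ha' n)
    have ha2 : AdicCompletion.evalₐ (Ideal.span {q}) (k + t) x = Ideal.Quotient.mk _ a :=
      ev_of_le (by omega) x a ha
    rw [ev_dHat ht hmem k h1, γ.dpow_comp hn haI, map_mul, map_mul, ev_dHat ht hx k ha2,
      map_natCast, map_natCast]

lemma dividedPowersHat_isDPMorphism :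
    γ.IsDPMorphism (dividedPowersHat γ ht)
      (algebraMap A (AdicCompletion (Ideal.span {q}) A)) := by
  have hev : ∀ (n : ℕ) (a : A), AdicCompletion.evalₐ (Ideal.span {q}) n
      (algebraMap A (AdicCompletion (Ideal.span {q}) A) a) = Ideal.Quotient.mk _ a := by
    intro n a
    rw [AlgHom.commutes]; rfl
  have hmem : ∀ a ∈ I, algebraMap A (AdicCompletion (Ideal.span {q}) A) a ∈
      RingHom.ker (piHat ht) := fun a ha => mem_ker_of_lift ht ha (hev t a)
  refine ⟨?_, fun a ha => ?_⟩
  · rw [Ideal.map_le_iff_le_comap]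
    exact fun a ha => hmem a ha
  · refine AdicCompletion.ext_evalₐ fun k => ?_
    change AdicCompletion.evalₐ (Ideal.span {q}) k (dHat γ ht _ _) = _
    rw [ev_dHat ht (hmem a ha) k (hev (k + t) a), hev]

end Groth.Agent.Lib.T2H4.DPowCompl
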