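import Mathlib
import Groth.Agent.Lib.T1H4DPowGenC

/-!
# Power series of exponential type (helper4)

Tools for constructing divided power structures via their exponential power series.
-/

set_option autoImplicit false
universe u v

namespace Groth.Agent.Lib.T2H4.DPowPoly

open Finset Nat PowerSeries Groth.Agent.Lib.T1H4.DPowGen

variable {P : Type v} [CommRing P]

/-- A power series `Σ f_n T^n` is of exponential type if `f_0 = 1` and
`f_m f_n = C(m+n, m) f_{m+n}`. -/
def IsExpT (f : PowerSeries P) : Prop :=
  coeff 0 f = 1 ∧ ∀ m n : ℕ, coeff m f * coeff n f = ((m + n).choose m : P) * coeff (m + n) f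

lemma IsExpT.one : IsExpT (1 : PowerSeries P) := by
  refine ⟨by simp, fun m n => ?_⟩
  rw [coeff_one, coeff_one, coeff_one]
  by_cases hm : m = 0
  · subst hm
    by_cases hn : n = 0
    · subst hn; simp
    · simp [hn]
  · have : m + n ≠ 0 := by omega
    simp [hm, this]

lemma IsExpT.mul {f g : PowerSeries P} (hf : IsExpT f) (hg : IsExpT g) : IsExpT (f * g) := by
  refine ⟨by simp [coeff_mul, hf.1, hg.1], fun m n => ?_⟩
  rw [coeff_mul, coeff_mul, coeff_mul]
  exact conv_mulRule (fun k => coeff k f) (fun k => coeff k g) hf.2 hg.2 m n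

lemma IsExpT.rescale {f : PowerSeries P} (hf : IsExpT f) (a : P) : IsExpT (rescale a f) := by
  refine ⟨by simp [hf.1], fun m n => ?_⟩
  rw [coeff_rescale, coeff_rescale, coeff_rescale, pow_add]
  linear_combination (a ^ m * a ^ n) * hf.2 m n

lemma IsExpT.prod {ι : Type*} (s : Finset ι) (f : ι → PowerSeries P) (hf : ∀ i ∈ s, IsExpT (f i)) :
    IsExpT (∏ i ∈ s, f i) := by
  classical
  induction s using Finset.induction with
  | empty => simpa using IsExpT.one
  | insert i s hi ih =>
    rw [prod_insert hi]
    exact (hf i (mem_insert_self i s)).mul (ih fun j hj => hf j (mem_insert_of_mem hj))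

lemma IsExpT.rescale_add {f : PowerSeries P} (hf : IsExpT f) (a a' : P) :
    PowerSeries.rescale (a + a') f = PowerSeries.rescale a f * PowerSeries.rescale a' f := by
  ext n
  rw [coeff_rescale, coeff_mul, Commute.add_pow' (Commute.all a a'), Finset.sum_mul]
  refine Finset.sum_congr rfl fun k hk => ?_
  rw [HasAntidiagonal.mem_antidiagonal] at hk
  rw [coeff_rescale, coeff_rescale]
  have := hf.2 k.1 k.2
  rw [hk] at this
  rw [nsmul_eq_mul]
  have e : ((n.choose k.1 : ℕ) : P) = ((n.choose k.1 : ℕ) : P) := rfl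
  linear_combination (-(a ^ k.1 * a' ^ k.2)) * this

lemma IsExpT.rescale_zero {f : PowerSeries P} (hf : IsExpT f) :
    PowerSeries.rescale 0 f = 1 := by
  rw [rescale_zero_apply]
  have : constantCoeff f = 1 := by rw [← coeff_zero_eq_constantCoeff_apply]; exact hf.1
  rw [this, map_one]

lemma IsExpT.rescale_sum {f : PowerSeries P} (hf : IsExpT f) {ι : Type*} (s : Finset ι)
    (a : ι → P) : PowerSeries.rescale (∑ i ∈ s, a i) f = ∏ i ∈ s, PowerSeries.rescale (a i) f := by
  classical
  induction s using Finset.induction with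
  | empty => simpa using hf.rescale_zero
  | insert i s hi ih => rw [sum_insert hi, prod_insert hi, hf.rescale_add, ih]

/-- All higher coefficients lie in the ideal `J`. -/
def CoeffIn (J : Ideal P) (f : PowerSeries P) : Prop := ∀ n : ℕ, n ≠ 0 → coeff n f ∈ J

lemma CoeffIn.one (J : Ideal P) : CoeffIn J (1 : PowerSeries P) := by
  intro n hn
  rw [coeff_one, if_neg hn]; exact J.zero_mem

lemma CoeffIn.mul {J : Ideal P} {f g : PowerSeries P} (hf : CoeffIn J f) (hg : CoeffIn J g) :
    CoeffIn J (f * g) := by
  intro n hn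
  rw [coeff_mul]
  refine Ideal.sum_mem _ fun k hk => ?_
  rw [HasAntidiagonal.mem_antidiagonal] at hk
  by_cases hk1 : k.1 = 0
  · exact J.mul_mem_left _ (hg _ (by omega))
  · exact J.mul_mem_right _ (hf _ hk1)

lemma CoeffIn.rescale {J : Ideal P} {f : PowerSeries P} (hf : CoeffIn J f) (a : P) :
    CoeffIn J (PowerSeries.rescale a f) := by
  intro n hn
  rw [coeff_rescale]
  exact J.mul_mem_left _ (hf n hn)

lemma CoeffIn.prod {J : Ideal P} {ι : Type*} (s : Finset ι) (f : ι → PowerSeries P)
    (hf : ∀ i ∈ s, CoeffIn J (f i)) : CoeffIn J (∏ i ∈ s, f i) := by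
  classical
  induction s using Finset.induction with
  | empty => simpa using CoeffIn.one J
  | insert i s hi ih =>
    rw [prod_insert hi]
    exact (hf i (mem_insert_self i s)).mul (ih fun j hj => hf j (mem_insert_of_mem hj))

lemma coeff_one_mul {f g : PowerSeries P} (hf : coeff 0 f = 1) (hg : coeff 0 g = 1) :
    coeff 1 (f * g) = coeff 1 f + coeff 1 g := by
  rw [coeff_mul, Finset.Nat.antidiagonal_succ]
  simp [hf, hg, add_comm]

end Groth.Agent.Lib.T2H4.DPowPoly
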