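import Groth.Agent.Lib.T2H4DPowPolyC

/-!
# Concretely presented divided power polynomial algebras: the exponential (helper4)
-/

set_option autoImplicit false
universe u v w

namespace Groth.Agent.Lib.T2H4.DPowPoly

open Finset Nat PowerSeries

variable {R : Type u} [CommRing R] {ι : Type w} [Fintype ι] {P : Type v} [CommRing P]
  [Algebra R P] (D : Pres R ι P)

namespace Pres

lemma smul_ne_zero' {e : ι →₀ ℕ} (he : e ≠ 0) {q : ℕ} (hq : q ≠ 0) : q • e ≠ 0 := by
  intro h
  apply he
  ext i
  have := DFunLike.congr_fun h i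
  simp only [Finsupp.smul_apply, smul_eq_mul, Finsupp.zero_apply, mul_eq_zero] at this ⊢
  tauto

/-- The basic exponential series of a monomial. -/
noncomputable def g (e : ι →₀ ℕ) : PowerSeries P :=
  PowerSeries.mk fun q => (c q e : P) * D.b (q • e)

lemma coeff_g (e : ι →₀ ℕ) (q : ℕ) : coeff q (D.g e) = (c q e : P) * D.b (q • e) := by
  rw [g, coeff_mk]

lemma g_isExpT {e : ι →₀ ℕ} (he : e ≠ 0) : IsExpT (D.g e) := by
  refine ⟨?_, fun m n => ?_⟩
  · rw [coeff_g, c_zero he, zero_smul, D.M_zero]; simp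
  · rw [coeff_g, coeff_g, coeff_g, mul_mul_mul_comm, D.M_mul, ← add_smul]
    have := c_mul_c m n he
    have h2 : ((c m e * c n e * K (m • e) (n • e) : ℕ) : P) =
        (((m + n).choose m * c (m + n) e : ℕ) : P) := by rw [this]
    push_cast at h2
    linear_combination (D.b ((m + n) • e)) * h2

lemma g_coeffIn {e : ι →₀ ℕ} (he : e ≠ 0) : CoeffIn D.aug (D.g e) := by
  intro q hq
  rw [coeff_g]
  exact Ideal.mul_mem_left _ _ (D.M_mem_aug (smul_ne_zero' he hq))

open Classical in
/-- The factor attached to a monomial and a coefficient. -/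
noncomputable def fac (e : ι →₀ ℕ) (r : R) : PowerSeries P :=
  if e = 0 then 1 else PowerSeries.rescale (algebraMap R P r) (D.g e)

lemma fac_isExpT (e : ι →₀ ℕ) (r : R) : IsExpT (D.fac e r) := by
  unfold fac
  split_ifs with h
  · exact IsExpT.one
  · exact (D.g_isExpT h).rescale _

lemma fac_coeffIn (e : ι →₀ ℕ) (r : R) : CoeffIn D.aug (D.fac e r) := by
  unfold fac
  split_ifs with h
  · exact CoeffIn.one _
  · exact (D.g_coeffIn h).rescale _

lemma fac_zero (e : ι →₀ ℕ) : D.fac e 0 = 1 := by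
  unfold fac
  split_ifs with h
  · rfl
  · rw [map_zero, (D.g_isExpT h).rescale_zero]

lemma fac_add (e : ι →₀ ℕ) (r r' : R) : D.fac e (r + r') = D.fac e r * D.fac e r' := by
  unfold fac
  split_ifs with h
  · rw [one_mul]
  · rw [map_add, (D.g_isExpT h).rescale_add]

/-- The exponential of an element. -/
noncomputable def ex (p : P) : PowerSeries P := (D.b.repr p).prod fun e r => D.fac e r

lemma ex_add (p p' : P) : D.ex (p + p') = D.ex p * D.ex p' := by
  unfold ex
  rw [map_add, Finsupp.prod_add_index' (fun e => D.fac_zero e) (fun e r r' => D.fac_add e r r')]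

lemma ex_zero : D.ex 0 = 1 := by
  unfold ex
  rw [map_zero, Finsupp.prod_zero_index]

lemma ex_sum {κ : Type*} (s : Finset κ) (z : κ → P) : D.ex (∑ k ∈ s, z k) = ∏ k ∈ s, D.ex (z k) := by
  classical
  induction s using Finset.induction with
  | empty => simp [D.ex_zero]
  | insert i s hi ih => rw [sum_insert hi, prod_insert hi, D.ex_add, ih]

lemma ex_isExpT (p : P) : IsExpT (D.ex p) :=
  IsExpT.prod _ _ fun e _ => D.fac_isExpT e _

lemma ex_coeffIn (p : P) : CoeffIn D.aug (D.ex p) :=
  CoeffIn.prod _ _ fun e _ => D.fac_coeffIn e _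

lemma ex_smul_M (e : ι →₀ ℕ) (r : R) : D.ex (r • D.b e) = D.fac e r := by
  unfold ex
  rw [map_smul, D.b.repr_self, Finsupp.smul_single, smul_eq_mul, mul_one,
    Finsupp.prod_single_index (D.fac_zero e)]

lemma repr_sum (p : P) : p = ∑ f ∈ (D.b.repr p).support, (D.b.repr p f) • D.b f := by
  conv_lhs => rw [← D.b.linearCombination_repr p]
  rw [Finsupp.linearCombination_apply, Finsupp.sum]

lemma coeff_one_fac {e : ι →₀ ℕ} (he : e ≠ 0) (r : R) : coeff 1 (D.fac e r) = r • D.b e := by
  unfold fac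
  rw [if_neg he, coeff_rescale, coeff_g, c_one he, one_smul, pow_one, Nat.cast_one, one_mul,
    Algebra.smul_def]

lemma coeff_zero_prod {κ : Type*} (s : Finset κ) (F : κ → PowerSeries P)
    (hF : ∀ k ∈ s, coeff 0 (F k) = 1) : coeff 0 (∏ k ∈ s, F k) = 1 := by
  rw [coeff_zero_eq_constantCoeff_apply, map_prod]
  refine Finset.prod_eq_one fun k hk => ?_
  rw [← coeff_zero_eq_constantCoeff_apply]
  exact hF k hk

lemma coeff_one_prod {κ : Type*} (s : Finset κ) (F : κ → PowerSeries P)
    (hF : ∀ k ∈ s, coeff 0 (F k) = 1) :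
    coeff 1 (∏ k ∈ s, F k) = ∑ k ∈ s, coeff 1 (F k) := by
  classical
  induction s using Finset.induction with
  | empty => simp
  | insert i s hi ih =>
    rw [prod_insert hi, sum_insert hi, coeff_one_mul (hF i (mem_insert_self i s))
      (coeff_zero_prod s F fun k hk => hF k (mem_insert_of_mem hk)),
      ih fun k hk => hF k (mem_insert_of_mem hk)]

lemma coeff_one_ex {p : P} (hp : p ∈ D.aug) : coeff 1 (D.ex p) = p := by
  classical
  conv_rhs => rw [D.repr_sum p]
  unfold ex
  rw [Finsupp.prod, coeff_one_prod _ _ fun e _ => (D.fac_isExpT e _).1]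
  refine Finset.sum_congr rfl fun e _ => ?_
  by_cases he : e = 0
  · subst he
    have h0 : D.b.repr p 0 = 0 := (D.mem_aug_iff p).mp hp
    rw [h0, zero_smul, D.fac_zero]
    simp
  · exact D.coeff_one_fac he _

end Pres

end Groth.Agent.Lib.T2H4.DPowPoly
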