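import Groth.Agent.Lib.T2H4NhUnivB

/-!
# Divided powers from the `p`-th one: the constants in `ℤ_(p)` (helper4)
-/

set_option autoImplicit false
universe u

namespace Groth.Agent.Lib.T2H4.DPowPrime

open Finset Nat

variable (p : ℕ) [hp : Fact p.Prime]

/-- The integers prime to `p`. -/
def M : Submonoid ℤ where
  carrier := {n | ¬ (p : ℤ) ∣ n}
  one_mem' := by
    intro h
    have h' : ((p : ℕ) : ℤ) ∣ ((1 : ℕ) : ℤ) := by simpa using h
    exact hp.out.one_lt.ne' (Nat.dvd_one.mp (Int.natCast_dvd_natCast.mp h'))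
  mul_mem' := by
    intro a b ha hb h
    rcases (Nat.prime_iff_prime_int.mp hp.out).dvd_or_dvd h with h | h
    · exact ha h
    · exact hb h

lemma mem_M {n : ℤ} : n ∈ M p ↔ ¬ (p : ℤ) ∣ n := Iff.rfl

lemma ne_zero_of_mem_M {n : ℤ} (hn : n ∈ M p) : n ≠ 0 := by
  rintro rfl
  exact hn (dvd_zero _)

/-- The ring `ℤ_(p)`. -/
abbrev T : Type := Localization (M p)

/-- The embedding of `ℤ_(p)` into `ℚ`. -/
noncomputable def j : T p →+* ℚ :=
  IsLocalization.lift (M := M p) (S := T p) (g := Int.castRingHom ℚ)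
    (fun y => by
      have : ((y : ℤ) : ℚ) ≠ 0 := by exact_mod_cast ne_zero_of_mem_M p y.2
      exact this.isUnit)

lemma j_injective : Function.Injective (j p) := by
  unfold j
  rw [IsLocalization.lift_injective_iff]
  intro x y
  have hinj : Function.Injective (algebraMap ℤ (T p)) :=
    IsLocalization.injective (T p) (M := M p) fun m hm =>
      mem_nonZeroDivisors_of_ne_zero (ne_zero_of_mem_M p hm)
  constructor
  · intro h; rw [hinj h]
  · intro h
    simp only [eq_intCast] at h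
    rw [Int.cast_injective h]

lemma j_natCast (k : ℕ) : j p (k : T p) = (k : ℚ) := map_natCast _ _

/-- The local factor: `(p-1)!` if `p ∣ k`, and `1/k` otherwise. -/
noncomputable def w (k : ℕ) : T p :=
  if h : p ∣ k then (((p - 1)! : ℕ) : T p)
  else IsLocalization.mk' (T p) (1 : ℤ)
    (⟨(k : ℤ), fun h' => h (Int.natCast_dvd_natCast.mp h')⟩ : M p)

lemma j_w_of_dvd {k : ℕ} (h : p ∣ k) : j p (w p k) = ((p - 1)! : ℚ) := by
  unfold w
  rw [dif_pos h, j_natCast]

lemma j_w_of_not_dvd {k : ℕ} (h : ¬ p ∣ k) : (k : ℚ) * j p (w p k) = 1 := by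
  unfold w
  rw [dif_neg h]
  have := (IsLocalization.lift_mk'_spec (M := M p) (S := T p) (g := Int.castRingHom ℚ)
    (hg := fun y => by
      have : ((y : ℤ) : ℚ) ≠ 0 := by exact_mod_cast ne_zero_of_mem_M p y.2
      exact this.isUnit) (1 : ℤ) (j p (IsLocalization.mk' (T p) (1 : ℤ)
    (⟨(k : ℤ), fun h' => h (Int.natCast_dvd_natCast.mp h')⟩ : M p)))
    (⟨(k : ℤ), fun h' => h (Int.natCast_dvd_natCast.mp h')⟩ : M p)).mp rfl
  simp only [eq_intCast, Int.cast_one, Int.cast_natCast] at this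
  exact this.symm

/-- The constant `u_n = (n/p)! (p!)^(n/p) / n!`. -/
noncomputable def u (n : ℕ) : T p := ∏ k ∈ Finset.range n, w p (k + 1)

lemma u_zero : u p 0 = 1 := by simp [u]

lemma u_succ (n : ℕ) : u p (n + 1) = u p n * w p (n + 1) := by
  unfold u; rw [Finset.prod_range_succ]

lemma j_u_mul (n : ℕ) : j p (u p n) * (n ! : ℚ) = ((n / p)! : ℚ) * (p ! : ℚ) ^ (n / p) := by
  induction n with
  | zero => simp [u_zero]
  | succ n ih =>
    rw [u_succ, map_mul, Nat.factorial_succ, Nat.succ_div]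
    by_cases h : p ∣ n + 1
    · rw [if_pos h, j_w_of_dvd p h, Nat.factorial_succ, pow_succ]
      obtain ⟨c, hc⟩ := h
      have hpos : 0 < p := hp.out.pos
      have hdiv : n / p + 1 = c := by
        have h1 : (n + 1) / p = c := by rw [hc]; exact Nat.mul_div_cancel_left c hpos
        rw [Nat.succ_div, if_pos ⟨c, hc⟩] at h1
        exact h1
      have hP : (p ! : ℚ) = (p : ℚ) * ((p - 1)! : ℚ) := by
        have : p ! = p * (p - 1)! := (Nat.mul_factorial_pred hpos.ne').symm
        exact_mod_cast this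
      have hn1 : ((n + 1 : ℕ) : ℚ) = (p : ℚ) * ((n / p + 1 : ℕ) : ℚ) := by
        rw [hdiv]; exact_mod_cast hc
      push_cast at hn1 ⊢
      linear_combination (((p - 1)! : ℚ) * ((n : ℚ) + 1)) * ih +
        (((p - 1)! : ℚ) * ((n / p)! : ℚ) * (p ! : ℚ) ^ (n / p)) * hn1 -
        ((((n / p : ℕ) : ℚ) + 1) * ((n / p)! : ℚ) * (p ! : ℚ) ^ (n / p)) * hP
    · rw [if_neg h, add_zero]
      have := j_w_of_not_dvd p h
      push_cast at this ⊢
      linear_combination ih + j p (u p n) * (n ! : ℚ) * this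

lemma j_u (n : ℕ) : j p (u p n) = ((n / p)! : ℚ) * (p ! : ℚ) ^ (n / p) / (n ! : ℚ) := by
  rw [← j_u_mul, mul_div_assoc, div_self (by exact_mod_cast (Nat.factorial_pos n).ne'), mul_one]

lemma div_eq_of_lt {q r : ℕ} (hr : r < p) : (q * p + r) / p = q := by
  rw [Nat.add_comm, Nat.add_mul_div_right _ _ hp.out.pos, Nat.div_eq_of_lt hr, zero_add]

omit hp in
lemma mod_eq_of_lt {q r : ℕ} (hr : r < p) : (q * p + r) % p = r := by
  rw [Nat.add_comm, Nat.add_mul_mod_self_right, Nat.mod_eq_of_lt hr]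

lemma j_u' {q r : ℕ} (hr : r < p) :
    j p (u p (q * p + r)) = (q ! : ℚ) * (p ! : ℚ) ^ q / ((q * p + r)! : ℚ) := by
  rw [j_u, div_eq_of_lt p hr]

lemma u_one : u p 1 = 1 := by
  apply j_injective
  rw [j_u, map_one, Nat.div_eq_of_lt hp.out.one_lt]
  simp

lemma u_p : u p p = 1 := by
  apply j_injective
  rw [j_u, map_one, Nat.div_self hp.out.pos]
  have : (p ! : ℚ) ≠ 0 := by exact_mod_cast (Nat.factorial_pos p).ne'
  simp only [Nat.factorial_one, Nat.cast_one, one_mul, pow_one]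
  exact div_self this

end Groth.Agent.Lib.T2H4.DPowPrime
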