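import Groth.Agent.Lib.T2H4DPowPrimeA

/-!
# Divided powers from the `p`-th one: identities between the constants (helper4)
-/

set_option autoImplicit false
universe u

namespace Groth.Agent.Lib.T2H4.DPowPrime

open Finset Nat

variable (p : ℕ) [hp : Fact p.Prime]

lemma fact_ne (n : ℕ) : (n ! : ℚ) ≠ 0 := by exact_mod_cast (Nat.factorial_pos n).ne'

/-- N1: multiplication rule without carry. -/
lemma N1 (n m : ℕ) (h : (n + m) / p = n / p + m / p) :
    u p n * u p m * ((n / p + m / p).choose (n / p) : T p) =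
      ((n + m).choose n : T p) * u p (n + m) := by
  apply j_injective
  simp only [map_mul, j_natCast, j_u, h]
  rw [Nat.cast_add_choose ℚ, Nat.cast_add_choose ℚ]
  have h1 := fact_ne n
  have h2 := fact_ne m
  have h3 := fact_ne (n + m)
  have h4 := fact_ne (n / p)
  have h5 := fact_ne (m / p)
  have h6 := fact_ne p
  field_simp
  ring

/-- N2: multiplication rule with carry. -/
lemma N2 (n m : ℕ) (h : (n + m) / p = n / p + m / p + 1) :
    u p n * u p m * ((n / p + m / p).choose (n / p) : T p) * (p ! : T p) *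
        ((n / p + m / p + 1 : ℕ) : T p) =
      ((n + m).choose n : T p) * u p (n + m) := by
  apply j_injective
  simp only [map_mul, j_natCast, j_u, h]
  rw [Nat.cast_add_choose ℚ, Nat.cast_add_choose ℚ, Nat.factorial_succ (n / p + m / p)]
  have h1 := fact_ne n
  have h2 := fact_ne m
  have h3 := fact_ne (n + m)
  have h4 := fact_ne (n / p)
  have h5 := fact_ne (m / p)
  have h6 := fact_ne p
  push_cast
  field_simp
  ring

lemma uniformBell_cast (m : ℕ) {n : ℕ} (hn : n ≠ 0) :
    (Nat.uniformBell m n : ℚ) = ((m * n)! : ℚ) / ((n ! : ℚ) ^ m * (m ! : ℚ)) := by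
  have h := Nat.uniformBell_mul_eq m hn
  have h' : (Nat.uniformBell m n : ℚ) * (n ! : ℚ) ^ m * (m ! : ℚ) = ((m * n)! : ℚ) := by
    exact_mod_cast h
  rw [eq_div_iff (mul_ne_zero (pow_ne_zero _ (fact_ne n)) (fact_ne m)), ← h']
  ring

/-- N3: the composition rule `γ_p ∘ γ_n`, case `n ≥ p`. -/
lemma N3 (q r : ℕ) (hr : r < p) (hq : q ≠ 0) :
    u p (r + p * q) ^ p * (p ! : T p) ^ r * (r ! : T p) * (Nat.uniformBell p q : T p) *
        ((r + p * q).choose r : T p) =
      (Nat.uniformBell p (r + p * q) : T p) * u p (p * (r + p * q)) := by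
  have hpos : 0 < p := hp.out.pos
  have hd1 : (r + p * q) / p = q := by
    rw [Nat.add_mul_div_left _ _ hpos, Nat.div_eq_of_lt hr, zero_add]
  have hd2 : (p * (r + p * q)) / p = r + p * q := Nat.mul_div_cancel_left _ hpos
  have hn0 : r + p * q ≠ 0 := by
    have : 0 < p * q := Nat.mul_pos hpos (Nat.pos_of_ne_zero hq)
    omega
  apply j_injective
  simp only [map_mul, map_pow, j_natCast, j_u, hd1, hd2]
  rw [Nat.cast_add_choose ℚ, uniformBell_cast p hq, uniformBell_cast p hn0]
  have h1 := fact_ne (r + p * q)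
  have h2 := fact_ne (p * q)
  have h3 := fact_ne (p * (r + p * q))
  have h4 := fact_ne q
  have h5 := fact_ne r
  have h6 := fact_ne p
  generalize ((r + p * q)! : ℚ) = b at *
  generalize ((p * q)! : ℚ) = c at *
  generalize ((p * (r + p * q))! : ℚ) = f at *
  simp only [div_pow, mul_pow]
  field_simp
  ring

/-- N4: the composition rule `γ_p ∘ γ_n`, case `n < p`. -/
lemma N4 (n' : ℕ) (h : n' + 1 < p) :
    u p (n' + 1) ^ p * (p ! : T p) ^ n' =
      (Nat.uniformBell p (n' + 1) : T p) * u p (p * (n' + 1)) * u p (n' + 1) := by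
  have hpos : 0 < p := hp.out.pos
  have hd1 : (n' + 1) / p = 0 := Nat.div_eq_of_lt h
  have hd2 : (p * (n' + 1)) / p = n' + 1 := Nat.mul_div_cancel_left _ hpos
  apply j_injective
  simp only [map_mul, map_pow, j_natCast, j_u, hd1, hd2]
  rw [uniformBell_cast p (Nat.succ_ne_zero n')]
  have h1 := fact_ne (n' + 1)
  have h3 := fact_ne (p * (n' + 1))
  have h6 := fact_ne p
  simp only [Nat.factorial_zero, Nat.cast_one, pow_zero, mul_one]
  generalize ((n' + 1)! : ℚ) = b at *
  generalize ((p * (n' + 1))! : ℚ) = f at *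
  simp only [div_pow, one_pow]
  field_simp
  ring

/-- N5: the constant expressing `γ_n` through `γ_p` and lower ones. -/
lemma N5 (q r : ℕ) (hr : r < p) :
    u p (r + q * p) * ((r ! : T p) * (Nat.uniformBell q p : T p) *
      ((r + q * p).choose r : T p)) = 1 := by
  have hpos : 0 < p := hp.out.pos
  have hd1 : (r + q * p) / p = q := by
    rw [Nat.add_mul_div_right _ _ hpos, Nat.div_eq_of_lt hr, zero_add]
  apply j_injective
  simp only [map_mul, map_one, j_natCast, j_u, hd1]
  rw [Nat.cast_add_choose ℚ, uniformBell_cast q hpos.ne']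
  have h1 := fact_ne (r + q * p)
  have h2 := fact_ne (q * p)
  have h4 := fact_ne q
  have h5 := fact_ne r
  have h6 := fact_ne p
  field_simp

end Groth.Agent.Lib.T2H4.DPowPrime
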