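import Groth.Agent.Lib.T2H4DPowPrimeB

/-!
# Divided powers from the `p`-th one: the candidate maps `γ_n` (helper4)
-/

set_option autoImplicit false
universe u

namespace Groth.Agent.Lib.T2H4.DPowPrime

open Finset Nat

lemma isUnit_intCast (p : ℕ) [hp : Fact p.Prime] {A : Type u} [CommRing A]
    (hA : ∀ n : ℕ, ¬ p ∣ n → IsUnit (n : A)) {n : ℤ} (hn : n ∈ M p) :
    IsUnit ((Int.castRingHom A) n) := by
  rw [eq_intCast]
  have h1 : ¬ p ∣ n.natAbs := fun h => hn (Int.natCast_dvd.mpr h)
  have h2 := hA _ h1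
  rcases Int.natAbs_eq n with h | h
  · have : (n : A) = ((n.natAbs : ℕ) : A) := by
      conv_lhs => rw [h]
      rw [Int.cast_natCast]
    rw [this]; exact h2
  · have : (n : A) = -((n.natAbs : ℕ) : A) := by
      conv_lhs => rw [h]
      rw [Int.cast_neg, Int.cast_natCast]
    rw [this]; exact h2.neg

/-- The data of S2212. -/
structure Datum (p : ℕ) {A : Type u} [CommRing A] (I : Ideal A) where
  d : A → A
  hA : ∀ n : ℕ, ¬ p ∣ n → IsUnit (n : A)
  hdI : ∀ x ∈ I, d x ∈ I
  h1 : ∀ x ∈ I, (p.factorial : A) * d x = x ^ p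
  h2 : ∀ (a x : A), x ∈ I → d (a * x) = a ^ p * d x
  h3 : ∀ x ∈ I, ∀ y ∈ I, d (x + y) = d x + d y +
      ((Finset.antidiagonal p).filter fun k => 0 < k.1 ∧ 0 < k.2).sum
        fun k => Ring.inverse ((k.1.factorial * k.2.factorial : ℕ) : A) * x ^ k.1 * y ^ k.2

variable {p : ℕ} [hp : Fact p.Prime] {A : Type u} [CommRing A] {I : Ideal A} (D : Datum p I)

namespace Datum

/-- The structure map `ℤ_(p) → A`. -/
noncomputable def iota : T p →+* A :=
  IsLocalization.lift (M := M p) (S := T p) (g := Int.castRingHom A)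
    (fun y => isUnit_intCast p D.hA y.2)

lemma iota_natCast (k : ℕ) : D.iota (k : T p) = (k : A) := map_natCast _ _

/-- The candidate divided powers. -/
noncomputable def gam (n : ℕ) (x : A) : A :=
  if h : n = 0 then 1 else D.iota (u p n) * x ^ (n % p) * gam (n / p) (D.d x)
termination_by n
decreasing_by exact Nat.div_lt_self (Nat.pos_of_ne_zero h) hp.out.one_lt

lemma gam_zero (x : A) : D.gam 0 x = 1 := by
  rw [gam, dif_pos rfl]

lemma gam_of_ne_zero {n : ℕ} (h : n ≠ 0) (x : A) :
    D.gam n x = D.iota (u p n) * x ^ (n % p) * D.gam (n / p) (D.d x) := by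
  rw [gam, dif_neg h]

lemma gam_one (x : A) : D.gam 1 x = x := by
  rw [D.gam_of_ne_zero one_ne_zero, u_one, map_one, Nat.mod_eq_of_lt hp.out.one_lt,
    Nat.div_eq_of_lt hp.out.one_lt, gam_zero, pow_one, one_mul, mul_one]

lemma gam_p (x : A) : D.gam p x = D.d x := by
  rw [D.gam_of_ne_zero hp.out.ne_zero, u_p, map_one, Nat.mod_self, Nat.div_self hp.out.pos,
    gam_one, pow_zero, one_mul, one_mul]

lemma d_zero : D.d 0 = 0 := by
  have := D.h2 0 0 I.zero_mem
  rw [mul_zero, zero_pow hp.out.ne_zero, zero_mul] at this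
  exact this

/-- P1: values in `I`. -/
lemma gam_mem : ∀ (n : ℕ), n ≠ 0 → ∀ x ∈ I, D.gam n x ∈ I := by
  intro n
  induction n using Nat.strong_induction_on with
  | _ n ih =>
    intro hn x hx
    rw [D.gam_of_ne_zero hn]
    by_cases hr : n % p = 0
    · have hq : n / p ≠ 0 := by
        intro h0
        have := Nat.mod_add_div n p
        rw [hr, h0] at this
        omega
      exact I.mul_mem_left _ (ih _ (Nat.div_lt_self (Nat.pos_of_ne_zero hn) hp.out.one_lt) hq _
        (D.hdI x hx))
    · exact I.mul_mem_right _ (I.mul_mem_left _ (Ideal.pow_mem_of_mem I hx _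
        (Nat.pos_of_ne_zero hr)))

lemma u_mul_fact (n : ℕ) :
    u p n * (n ! : T p) = ((n / p)! : T p) * (p ! : T p) ^ (n / p) := by
  apply j_injective
  simp only [map_mul, map_pow, j_natCast]
  exact j_u_mul p n

/-- P2: `n! γ_n(x) = x^n`. -/
lemma fact_mul_gam : ∀ (n : ℕ), ∀ x ∈ I, (n ! : A) * D.gam n x = x ^ n := by
  intro n
  induction n using Nat.strong_induction_on with
  | _ n ih =>
    intro x hx
    by_cases hn : n = 0
    · subst hn; simp [gam_zero]
    · rw [D.gam_of_ne_zero hn]
      have h1 := congrArg D.iota (u_mul_fact (p := p) n)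
      simp only [map_mul, map_pow, iota_natCast] at h1
      have h2 := ih _ (Nat.div_lt_self (Nat.pos_of_ne_zero hn) hp.out.one_lt) _ (D.hdI x hx)
      have h3 := D.h1 x hx
      have h4 : x ^ n = x ^ (n % p) * (x ^ p) ^ (n / p) := by
        rw [← pow_mul, ← pow_add, Nat.mod_add_div]
      rw [h4, ← h3, mul_pow, ← h2]
      linear_combination (x ^ (n % p) * D.gam (n / p) (D.d x)) * h1

/-- P3: homogeneity. -/
lemma gam_mul : ∀ (n : ℕ) (a : A), ∀ x ∈ I, D.gam n (a * x) = a ^ n * D.gam n x := by
  intro n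
  induction n using Nat.strong_induction_on with
  | _ n ih =>
    intro a x hx
    by_cases hn : n = 0
    · subst hn; simp [gam_zero]
    · rw [D.gam_of_ne_zero hn, D.gam_of_ne_zero hn, D.h2 a x hx,
        ih _ (Nat.div_lt_self (Nat.pos_of_ne_zero hn) hp.out.one_lt) _ _ (D.hdI x hx)]
      have h4 : a ^ n = a ^ (n % p) * (a ^ p) ^ (n / p) := by
        rw [← pow_mul, ← pow_add, Nat.mod_add_div]
      rw [h4, mul_pow]
      ring

/-- P2': the multiplication rule. -/
lemma gam_mul_gam : ∀ (N n m : ℕ), n + m = N → ∀ x ∈ I,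
    D.gam n x * D.gam m x = ((n + m).choose n : A) * D.gam (n + m) x := by
  intro N
  induction N using Nat.strong_induction_on with
  | _ N ih =>
    intro n m hN x hx
    by_cases hn : n = 0
    · subst hn; simp [gam_zero]
    by_cases hm : m = 0
    · subst hm; simp [gam_zero]
    have hpos : 0 < p := hp.out.pos
    have hp2 : 2 ≤ p := hp.out.two_le
    have hnm : n + m ≠ 0 := by omega
    have hqn : n / p < n := Nat.div_lt_self (Nat.pos_of_ne_zero hn) hp.out.one_lt
    have hqm : m / p < m := Nat.div_lt_self (Nat.pos_of_ne_zero hm) hp.out.one_lt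
    have hdx := D.hdI x hx
    have e1 := ih (n / p + m / p) (by omega) (n / p) (m / p) rfl _ hdx
    rw [D.gam_of_ne_zero hn, D.gam_of_ne_zero hm, D.gam_of_ne_zero hnm]
    have hrn : n % p < p := Nat.mod_lt _ hpos
    have hrm : m % p < p := Nat.mod_lt _ hpos
    have hdn := Nat.mod_add_div n p
    have hdm := Nat.mod_add_div m p
    by_cases hc : n % p + m % p < p
    · have hdiv : (n + m) / p = n / p + m / p := by
        rw [Nat.add_div hpos, if_neg (by omega), add_zero]
      have hmod : (n + m) % p = n % p + m % p := by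
        rw [Nat.add_mod, Nat.mod_eq_of_lt hc]
      have h1 := congrArg D.iota (N1 p n m hdiv)
      simp only [map_mul, iota_natCast] at h1
      rw [hdiv, hmod, pow_add]
      linear_combination (x ^ (n % p) * x ^ (m % p) * D.iota (u p n) * D.iota (u p m)) * e1 +
        (x ^ (n % p) * x ^ (m % p) * D.gam (n / p + m / p) (D.d x)) * h1
    · have hdiv : (n + m) / p = n / p + m / p + 1 := by
        rw [Nat.add_div hpos, if_pos (by omega)]
      have hmod : (n + m) % p = n % p + m % p - p := by
        rw [Nat.add_mod]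
        have : n % p + m % p = (n % p + m % p - p) + p := by omega
        rw [this, Nat.add_mod_right, Nat.mod_eq_of_lt (by omega)]
        omega
      have h1 := congrArg D.iota (N2 p n m hdiv)
      simp only [map_mul, iota_natCast] at h1
      have hlt : 1 + (n / p + m / p) < N := by
        have h5a : 2 * (n / p) ≤ p * (n / p) := Nat.mul_le_mul_right _ hp2
        have h5b : 2 * (m / p) ≤ p * (m / p) := Nat.mul_le_mul_right _ hp2
        omega
      have e2 := ih (1 + (n / p + m / p)) hlt 1 (n / p + m / p) rfl _ hdx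
      rw [gam_one, Nat.choose_one_right] at e2
      have h6 : x ^ (n % p) * x ^ (m % p) = x ^ (n % p + m % p - p) * ((p ! : A) * D.d x) := by
        rw [D.h1 x hx, ← pow_add, ← pow_add]
        congr 1
        omega
      have h7 : 1 + (n / p + m / p) = n / p + m / p + 1 := by ring
      rw [h7] at e2
      rw [hdiv, hmod]
      have e3 : D.iota (u p n) * x ^ (n % p) * D.gam (n / p) (D.d x) *
          (D.iota (u p m) * x ^ (m % p) * D.gam (m / p) (D.d x)) =
          D.iota (u p n) * D.iota (u p m) * (x ^ (n % p) * x ^ (m % p)) *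
            (D.gam (n / p) (D.d x) * D.gam (m / p) (D.d x)) := by ring
      rw [e3, h6, e1]
      push_cast at e2 h1 ⊢
      linear_combination (D.iota (u p n) * D.iota (u p m) * x ^ (n % p + m % p - p) * (p ! : A) *
        ((n / p + m / p).choose (n / p) : A)) * e2 +
        (x ^ (n % p + m % p - p) * D.gam (n / p + m / p + 1) (D.d x)) * h1

end Datum

end Groth.Agent.Lib.T2H4.DPowPrime
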