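import Groth.Agent.Lib.T2H4DPowPrimeC

/-!
# Divided powers from the `p`-th one: composition with `γ_p` and the universal map (helper4)
-/

set_option autoImplicit false
universe u v w

namespace Groth.Agent.Lib.T2H4.DPowPrime

open Finset Nat Groth.Agent.Lib.T2H4.NhPoly

/-- The universal map out of a presented divided power polynomial algebra. -/
theorem exists_lift {R : Type u} [CommRing R] {ι : Type w} [Fintype ι] {P : Type v} [CommRing P]
    [Algebra R P] (Pr : Pres R ι P) {S : Type*} [CommRing S] [Algebra R S] (g : ι → ℕ → S)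
    (hg0 : ∀ i, g i 0 = 1)
    (hgmul : ∀ i n m, g i n * g i m = ((n + m).choose n : S) * g i (n + m)) :
    ∃ Φ : P →ₐ[R] S, ∀ i n, Φ (Pr.x i n) = g i n := by
  classical
  let v : (ι →₀ ℕ) → S := fun e => ∏ i, g i (e i)
  have hvmul : ∀ e e', v e * v e' = (K e e' : S) * v (e + e') := by
    intro e e'
    simp only [v, K]
    rw [← Finset.prod_mul_distrib, Nat.cast_prod, ← Finset.prod_mul_distrib]
    exact Finset.prod_congr rfl fun i _ => by rw [hgmul, Finsupp.add_apply]
  let φl : P →ₗ[R] S := Pr.b.constr R v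
  have hφl : ∀ e, φl (Pr.b e) = v e := fun e => Pr.b.constr_basis R v e
  have hmul : ∀ a b, φl (a * b) = φl a * φl b := by
    have : (LinearMap.mul R P).compr₂ φl = (LinearMap.mul R S).compl₁₂ φl φl := by
      refine Pr.b.ext fun e => Pr.b.ext fun e' => ?_
      simp only [LinearMap.compr₂_apply, LinearMap.mul_apply', LinearMap.compl₁₂_apply]
      rw [Pr.M_mul, ← nsmul_eq_mul, map_nsmul, hφl, hφl, hφl, hvmul, nsmul_eq_mul]
    intro a b
    exact LinearMap.congr_fun (LinearMap.congr_fun this a) b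
  have hone : φl 1 = 1 := by
    rw [← Pr.M_zero, hφl]
    exact Finset.prod_eq_one fun i _ => hg0 i
  refine ⟨AlgHom.ofLinearMap φl hone hmul, fun i n => ?_⟩
  change φl (Pr.x i n) = g i n
  rw [Pr.x_eq_M, hφl]
  simp only [v]
  rw [Finset.prod_eq_single i]
  · rw [Finsupp.single_eq_same]
  · intro j _ hj
    rw [Finsupp.single_eq_of_ne hj, hg0]
  · intro h; exact absurd (Finset.mem_univ i) h

variable {p : ℕ} [hp : Fact p.Prime] {A : Type u} [CommRing A] {I : Ideal A} (D : Datum p I)

namespace Datum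

/-- P5 for `m = p`: `γ_p(γ_n(x)) = C γ_{pn}(x)`. -/
lemma d_gam : ∀ (n : ℕ), n ≠ 0 → ∀ x ∈ I,
    D.d (D.gam n x) = (Nat.uniformBell p n : A) * D.gam (p * n) x := by
  intro n
  induction n using Nat.strong_induction_on with
  | _ n ih =>
    intro hn x hx
    have hpos : 0 < p := hp.out.pos
    have hdx := D.hdI x hx
    have hpn : p * n ≠ 0 := Nat.mul_ne_zero hpos.ne' hn
    have hR : D.gam (p * n) x = D.iota (u p (p * n)) * D.gam n (D.d x) := by
      rw [D.gam_of_ne_zero hpn, Nat.mul_mod_right, Nat.mul_div_cancel_left _ hpos, pow_zero,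
        mul_one]
    have hn' : n % p + p * (n / p) = n := Nat.mod_add_div n p
    have hr : n % p < p := Nat.mod_lt _ hpos
    rw [hR]
    by_cases hq : n / p = 0
    · -- `n < p`
      have hnp : n % p = n := by rw [hq, mul_zero, add_zero] at hn'; exact hn'
      have hsmall : ∀ z : A, D.gam n z = D.iota (u p n) * z ^ n := by
        intro z
        rw [D.gam_of_ne_zero hn, hq, gam_zero, hnp, mul_one]
      obtain ⟨n', rfl⟩ : ∃ n', n = n' + 1 := ⟨n - 1, by omega⟩
      have hlt : n' + 1 < p := by rw [← hnp]; exact hr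
      rw [hsmall, hsmall]
      have e1 : D.iota (u p (n' + 1)) * x ^ (n' + 1) = (D.iota (u p (n' + 1)) * x ^ n') * x := by
        ring
      rw [e1, D.h2 _ x hx, mul_pow, ← pow_mul, mul_comm n' p, pow_mul, ← D.h1 x hx]
      have h4 := congrArg D.iota (N4 p n' hlt)
      simp only [map_mul, map_pow, iota_natCast] at h4
      rw [mul_pow]
      linear_combination (D.d x ^ n' * D.d x) * h4
    · have hqlt : n / p < n := Nat.div_lt_self (Nat.pos_of_ne_zero hn) hp.out.one_lt
      have hmem : D.gam (n / p) (D.d x) ∈ I := D.gam_mem _ hq _ hdx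
      have e1 := ih _ hqlt hq _ hdx
      have e2 := D.fact_mul_gam (n % p) _ hdx
      have e3 := D.gam_mul_gam _ (n % p) (p * (n / p)) rfl _ hdx
      rw [hn'] at e3
      have h3 := congrArg D.iota (N3 p (n / p) (n % p) hr hq)
      rw [hn'] at h3
      simp only [map_mul, map_pow, iota_natCast] at h3
      rw [D.gam_of_ne_zero hn x, D.h2 _ _ hmem, e1, mul_pow, ← pow_mul, mul_comm (n % p) p,
        pow_mul, ← D.h1 x hx, mul_pow, ← e2]
      linear_combination (D.iota (u p n) ^ p * (p ! : A) ^ (n % p) * ((n % p)! : A) *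
        (Nat.uniformBell p (n / p) : A)) * e3 + (D.gam n (D.d x)) * h3

end Datum

end Groth.Agent.Lib.T2H4.DPowPrime
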