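import Groth.Agent.Lib.T2H4DPowPrimeD

/-!
# Divided powers from the `p`-th one: comparison with the universal case (helper4)
-/

set_option autoImplicit false
universe u v w

namespace Groth.Agent.Lib.T2H4.DPowPrime

open Finset Nat Groth.Agent.Lib.T2H4.NhPoly Groth.Agent.Lib.T2H4.NhUniv

/-- Expressing `γ_n` through `γ_p` and lower divided powers. -/
lemma dpow_decomp {B : Type*} [CommRing B] {J : Ideal B} (ε : DividedPowers J) {f : B}
    (hf : f ∈ J) {p : ℕ} (hp : p ≠ 0) (q r : ℕ) :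
    f ^ r * ε.dpow q (ε.dpow p f) =
      ((r ! : B) * (Nat.uniformBell q p : B) * ((r + q * p).choose r : B)) *
        ε.dpow (r + q * p) f := by
  rw [← ε.factorial_mul_dpow_eq_pow hf, ε.dpow_comp hp hf]
  have := ε.mul_dpow (m := r) (n := q * p) hf
  linear_combination ((r ! : B) * (Nat.uniformBell q p : B)) * this

lemma sum_antidiagonal_split {B : Type*} [AddCommMonoid B] (p : ℕ) (hp : p ≠ 0)
    (F : ℕ × ℕ → B) :
    ∑ k ∈ antidiagonal p, F k = F (0, p) + F (p, 0) +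
      ∑ k ∈ (antidiagonal p).filter (fun k => 0 < k.1 ∧ 0 < k.2), F k := by
  classical
  rw [← Finset.sum_filter_add_sum_filter_not (antidiagonal p) (fun k => 0 < k.1 ∧ 0 < k.2),
    add_comm]
  congr 1
  have : (antidiagonal p).filter (fun k => ¬ (0 < k.1 ∧ 0 < k.2)) = {(0, p), (p, 0)} := by
    ext ⟨a, b⟩
    simp only [mem_filter, Finset.mem_antidiagonal, mem_insert, mem_singleton, Prod.mk.injEq]
    omega
  rw [this, Finset.sum_pair]
  intro h
  simp only [Prod.mk.injEq] at h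
  omega

variable {p : ℕ} [hp : Fact p.Prime] {A : Type u} [CommRing A] {I : Ideal A} (D : Datum p I)

namespace Datum

include D in
lemma isUnit_fact {k : ℕ} (hk : k < p) : IsUnit ((k ! : ℕ) : A) :=
  D.hA _ ((Nat.Prime.dvd_factorial hp.out).not.mpr (not_le.mpr hk))

section Univ

variable {t : ℕ} (s : Fin t → A) (hs : ∀ i, s i ∈ I) (Φ : DP ℤ t →ₐ[ℤ] A)
  (hΦ : ∀ i n, Φ ((pres ℤ t).x i n) = D.gam n (s i))

include hs in
lemma exists_Phi : ∃ Φ : DP ℤ t →ₐ[ℤ] A, ∀ i n, Φ ((pres ℤ t).x i n) = D.gam n (s i) :=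
  exists_lift (pres ℤ t) (fun i n => D.gam n (s i)) (fun _ => D.gam_zero _)
    (fun i n m => D.gam_mul_gam _ n m rfl _ (hs i))

include hs hΦ in
lemma Phi_mem {f : DP ℤ t} (hf : f ∈ (pres ℤ t).aug) : Φ f ∈ I := by
  have : (pres ℤ t).aug ≤ I.comap Φ := by
    unfold Pres.aug
    rw [Ideal.span_le]
    rintro _ ⟨i, n, hn, rfl⟩
    change Φ _ ∈ I
    rw [hΦ]
    exact D.gam_mem n (by omega) _ (hs i)
  exact this hf

include hs hΦ in
lemma Phi_dpow_small {k : ℕ} (hk : k < p) {f : DP ℤ t} (hf : f ∈ (pres ℤ t).aug) :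
    Φ ((pres ℤ t).dividedPowers.dpow k f) = Ring.inverse ((k ! : ℕ) : A) * (Φ f) ^ k := by
  have h1 := congrArg Φ ((pres ℤ t).dividedPowers.factorial_mul_dpow_eq_pow (n := k) hf)
  rw [map_mul, map_natCast, map_pow] at h1
  rw [← h1, Ring.inverse_mul_cancel_left _ _ (D.isUnit_fact hk)]

include hs hΦ in
lemma Phi_dpow_p : ∀ f ∈ (pres ℤ t).aug,
    Φ ((pres ℤ t).dividedPowers.dpow p f) = D.d (Φ f) := by
  classical
  intro f hf
  have hf' := hf
  unfold Pres.aug at hf'
  induction hf' using Submodule.span_induction with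
  | mem y hy =>
    obtain ⟨i, n, hn, rfl⟩ := hy
    have h1 : (pres ℤ t).x i 1 ∈ (pres ℤ t).aug := Ideal.subset_span ⟨i, 1, le_refl 1, rfl⟩
    rw [← (pres ℤ t).dividedPowers_x i n, (pres ℤ t).dividedPowers.dpow_comp (by omega) h1,
      (pres ℤ t).dividedPowers_x, (pres ℤ t).dividedPowers_x, map_mul, map_natCast, hΦ, hΦ,
      D.d_gam n (by omega) _ (hs i)]
  | zero =>
    rw [(pres ℤ t).dividedPowers.dpow_eval_zero hp.out.ne_zero, map_zero, D.d_zero]
  | add y z hy hz hry hrz =>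
    have hy' : y ∈ (pres ℤ t).aug := hy
    have hz' : z ∈ (pres ℤ t).aug := hz
    rw [(pres ℤ t).dividedPowers.dpow_add hy' hz', sum_antidiagonal_split p hp.out.ne_zero,
      (pres ℤ t).dividedPowers.dpow_zero hy', (pres ℤ t).dividedPowers.dpow_zero hz', one_mul,
      mul_one, map_add, map_add, map_add, hry hy', hrz hz', map_sum,
      D.h3 _ (D.Phi_mem s hs Φ hΦ hy') _ (D.Phi_mem s hs Φ hΦ hz')]
    have hterm : ∀ k ∈ (antidiagonal p).filter (fun k => 0 < k.1 ∧ 0 < k.2),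
        Φ ((pres ℤ t).dividedPowers.dpow k.1 y * (pres ℤ t).dividedPowers.dpow k.2 z) =
          Ring.inverse ((k.1 ! * k.2 ! : ℕ) : A) * Φ y ^ k.1 * Φ z ^ k.2 := by
      intro k hk
      rw [mem_filter, Finset.mem_antidiagonal] at hk
      have hk1 : k.1 < p := by omega
      have hk2 : k.2 < p := by omega
      rw [map_mul, D.Phi_dpow_small s hs Φ hΦ hk1 hy', D.Phi_dpow_small s hs Φ hΦ hk2 hz',
        Nat.cast_mul, Ring.mul_inverse_rev]
      ring
    rw [Finset.sum_congr rfl hterm]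
    ring
  | smul a y hy hry =>
    have hy' : y ∈ (pres ℤ t).aug := hy
    rw [smul_eq_mul, (pres ℤ t).dividedPowers.dpow_mul hy', map_mul, map_pow, map_mul,
      hry hy', D.h2 _ _ (D.Phi_mem s hs Φ hΦ hy')]

include hs hΦ in
/-- The key comparison. -/
lemma Phi_dpow : ∀ (n : ℕ), ∀ f ∈ (pres ℤ t).aug,
    Φ ((pres ℤ t).dividedPowers.dpow n f) = D.gam n (Φ f) := by
  intro n
  induction n using Nat.strong_induction_on with
  | _ n ih =>
    intro f hf
    by_cases hn : n = 0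
    · subst hn
      rw [(pres ℤ t).dividedPowers.dpow_zero hf, map_one, gam_zero]
    · have hpos : 0 < p := hp.out.pos
      have hr : n % p < p := Nat.mod_lt _ hpos
      have hn' : n % p + n / p * p = n := Nat.mod_add_div' n p
      have hqlt : n / p < n := Nat.div_lt_self (Nat.pos_of_ne_zero hn) hp.out.one_lt
      have hpf : (pres ℤ t).dividedPowers.dpow p f ∈ (pres ℤ t).aug :=
        (pres ℤ t).dividedPowers.dpow_mem hpos.ne' hf
      have e1 := congrArg Φ (dpow_decomp (pres ℤ t).dividedPowers hf hpos.ne' (n / p) (n % p))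
      rw [hn'] at e1
      simp only [map_mul, map_pow, map_natCast] at e1
      rw [ih _ hqlt _ hpf, D.Phi_dpow_p s hs Φ hΦ f hf] at e1
      have h5 := congrArg D.iota (N5 p (n / p) (n % p) hr)
      rw [hn'] at h5
      simp only [map_mul, map_one, iota_natCast] at h5
      rw [D.gam_of_ne_zero hn]
      linear_combination (-D.iota (u p n)) * e1 -
        (Φ ((pres ℤ t).dividedPowers.dpow n f)) * h5

end Univ

/-- P4: additivity. -/
lemma gam_add (n : ℕ) {x y : A} (hx : x ∈ I) (hy : y ∈ I) :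
    D.gam n (x + y) = ∑ k ∈ antidiagonal n, D.gam k.1 x * D.gam k.2 y := by
  classical
  have hs : ∀ i, (![x, y] : Fin 2 → A) i ∈ I := by
    intro i; fin_cases i
    · exact hx
    · exact hy
  obtain ⟨Φ, hΦ⟩ := D.exists_Phi ![x, y] hs
  have h0 : (pres ℤ 2).x 0 1 ∈ (pres ℤ 2).aug := Ideal.subset_span ⟨0, 1, le_refl 1, rfl⟩
  have h1 : (pres ℤ 2).x 1 1 ∈ (pres ℤ 2).aug := Ideal.subset_span ⟨1, 1, le_refl 1, rfl⟩
  have e := D.Phi_dpow ![x, y] hs Φ hΦ n _ ((pres ℤ 2).aug.add_mem h0 h1)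
  rw [map_add, hΦ, hΦ, gam_one, gam_one] at e
  simp only [Matrix.cons_val_zero, Matrix.cons_val_one] at e
  rw [← e, (pres ℤ 2).dividedPowers.dpow_add h0 h1, map_sum]
  refine Finset.sum_congr rfl fun k _ => ?_
  rw [map_mul, (pres ℤ 2).dividedPowers_x, (pres ℤ 2).dividedPowers_x, hΦ, hΦ]
  simp only [Matrix.cons_val_zero, Matrix.cons_val_one]

/-- P5: composition. -/
lemma gam_comp (m : ℕ) {n : ℕ} (hn : n ≠ 0) {x : A} (hx : x ∈ I) :
    D.gam m (D.gam n x) = (Nat.uniformBell m n : A) * D.gam (m * n) x := by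
  classical
  have hs : ∀ i, (fun _ : Fin 1 => x) i ∈ I := fun _ => hx
  obtain ⟨Φ, hΦ⟩ := D.exists_Phi (fun _ : Fin 1 => x) hs
  have h0 : (pres ℤ 1).x 0 1 ∈ (pres ℤ 1).aug := Ideal.subset_span ⟨0, 1, le_refl 1, rfl⟩
  have hn0 : (pres ℤ 1).x 0 n ∈ (pres ℤ 1).aug :=
    Ideal.subset_span ⟨0, n, Nat.one_le_iff_ne_zero.mpr hn, rfl⟩
  have e := D.Phi_dpow (fun _ : Fin 1 => x) hs Φ hΦ m _ hn0
  rw [hΦ] at e
  rw [← e, ← (pres ℤ 1).dividedPowers_x 0 n, (pres ℤ 1).dividedPowers.dpow_comp hn h0,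
    (pres ℤ 1).dividedPowers_x, map_mul, map_natCast, hΦ]

open Classical in
/-- The divided power structure with `γ_p = d`. -/
noncomputable def dividedPowers : DividedPowers I where
  dpow n x := if x ∈ I then D.gam n x else 0
  dpow_null := fun hx => if_neg hx
  dpow_zero := fun hx => by rw [if_pos hx, gam_zero]
  dpow_one := fun hx => by rw [if_pos hx, gam_one]
  dpow_mem := fun hn hx => by rw [if_pos hx]; exact D.gam_mem _ hn _ hx
  dpow_add := fun hx hy => by
    rw [if_pos (I.add_mem hx hy), D.gam_add _ hx hy]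
    exact Finset.sum_congr rfl fun k _ => by rw [if_pos hx, if_pos hy]
  dpow_mul := fun hx => by rw [if_pos (I.mul_mem_left _ hx), if_pos hx, D.gam_mul _ _ _ hx]
  mul_dpow := fun hx => by
    rw [if_pos hx, if_pos hx, if_pos hx]
    exact D.gam_mul_gam _ _ _ rfl _ hx
  dpow_comp := fun hn hx => by
    rw [if_pos hx, if_pos (D.gam_mem _ hn _ hx), if_pos hx, D.gam_comp _ hn hx]

open Classical in
lemma dividedPowers_dpow_of_mem (n : ℕ) {x : A} (hx : x ∈ I) :
    D.dividedPowers.dpow n x = D.gam n x := by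
  change (if x ∈ I then D.gam n x else 0) = D.gam n x
  rw [if_pos hx]

lemma dividedPowers_dpow_p {x : A} (hx : x ∈ I) : D.dividedPowers.dpow p x = D.d x := by
  rw [D.dividedPowers_dpow_of_mem p hx, gam_p]

/-- Uniqueness. -/
lemma dpow_eq_gam (γ' : DividedPowers I) (hγ' : ∀ x ∈ I, γ'.dpow p x = D.d x) :
    ∀ (n : ℕ), ∀ x ∈ I, γ'.dpow n x = D.gam n x := by
  intro n
  induction n using Nat.strong_induction_on with
  | _ n ih =>
    intro x hx
    by_cases hn : n = 0
    · subst hn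
      rw [γ'.dpow_zero hx, gam_zero]
    · have hpos : 0 < p := hp.out.pos
      have hr : n % p < p := Nat.mod_lt _ hpos
      have hn' : n % p + n / p * p = n := Nat.mod_add_div' n p
      have hqlt : n / p < n := Nat.div_lt_self (Nat.pos_of_ne_zero hn) hp.out.one_lt
      have e1 := dpow_decomp γ' hx hpos.ne' (n / p) (n % p)
      rw [hn', hγ' x hx, ih _ hqlt _ (D.hdI x hx)] at e1
      have h5 := congrArg D.iota (N5 p (n / p) (n % p) hr)
      rw [hn'] at h5
      simp only [map_mul, map_one, iota_natCast] at h5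
      rw [D.gam_of_ne_zero hn]
      linear_combination (-D.iota (u p n)) * e1 - (γ'.dpow n x) * h5

end Datum

/-- The statement of S2212. -/
theorem main_S2212 {A : Type u} [CommRing A] (p : ℕ) (hp : p.Prime)
    (hA : ∀ n : ℕ, ¬ p ∣ n → IsUnit (n : A)) {I : Ideal A} (d : A → A)
    (hdI : ∀ x ∈ I, d x ∈ I) (h1 : ∀ x ∈ I, (p.factorial : A) * d x = x ^ p)
    (h2 : ∀ (a x : A), x ∈ I → d (a * x) = a ^ p * d x)
    (h3 : ∀ x ∈ I, ∀ y ∈ I, d (x + y) = d x + d y +
      ((Finset.antidiagonal p).filter fun k => 0 < k.1 ∧ 0 < k.2).sum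
        fun k => Ring.inverse ((k.1.factorial * k.2.factorial : ℕ) : A) * x ^ k.1 * y ^ k.2) :
    ∃! γ : DividedPowers I, ∀ x ∈ I, γ.dpow p x = d x := by
  have := Fact.mk hp
  let D : Datum p I := ⟨d, hA, hdI, h1, h2, h3⟩
  refine ⟨D.dividedPowers, fun x hx => D.dividedPowers_dpow_p hx, fun γ' hγ' => ?_⟩
  refine DividedPowers.ext _ _ fun n x hx => ?_
  rw [D.dpow_eq_gam γ' hγ' n x hx, D.dividedPowers_dpow_of_mem n hx]

end Groth.Agent.Lib.T2H4.DPowPrime
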