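import Mathlib

/-!
# The algebra `R ⊕ M` attached to a pairing `M × M → R` (helper4, team 2)

For a commutative ring `R`, an `R`-module `M` and a symmetric bilinear pairing `μ : M × M → R` with
`μ a b • c = μ b c • a` (automatic when `M` is locally free of rank one), `Dbl P` is the commutative ring
`R × M` with product `(s, l)(s', l') = (s s' + μ l l', s l' + s' l)`.
-/

set_option autoImplicit false
universe u v u' v'

namespace Groth.Agent.Lib.T2H4.DblAlg

/-- a symmetric bilinear pairing `M × M → R` with `μ a b • c = μ b c • a` -/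
structure Pairing (R : Type u) (M : Type v) [CommRing R] [AddCommGroup M] [Module R M] where
  /-- the pairing -/
  μ : M → M → R
  add_left : ∀ a a' b, μ (a + a') b = μ a b + μ a' b
  smul_left : ∀ (r : R) a b, μ (r • a) b = r * μ a b
  comm : ∀ a b, μ a b = μ b a
  assoc : ∀ a b c, μ a b • c = μ b c • a

variable {R : Type u} {M : Type v} [CommRing R] [AddCommGroup M] [Module R M]

namespace Pairing
variable (P : Pairing R M)

theorem add_right (a b b' : M) : P.μ a (b + b') = P.μ a b + P.μ a b' := by
  rw [P.comm, P.add_left, P.comm b, P.comm b']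

theorem smul_right (r : R) (a b : M) : P.μ a (r • b) = r * P.μ a b := by
  rw [P.comm, P.smul_left, P.comm]

theorem zero_left (b : M) : P.μ 0 b = 0 := by
  have := P.smul_left 0 0 b
  simpa using this

theorem zero_right (a : M) : P.μ a 0 = 0 := by rw [P.comm, P.zero_left]

end Pairing

/-- the algebra `R ⊕ M` with product `(s, l)(s', l') = (s s' + μ l l', s l' + s' l)` -/
def Dbl (_P : Pairing R M) : Type (max u v) := R × M

namespace Dbl
variable {P : Pairing R M}

/-- constructor -/
def mk (a : R) (l : M) : Dbl P := (a, l)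
/-- first component -/
def fst (x : Dbl P) : R := Prod.fst x
/-- second component -/
def snd (x : Dbl P) : M := Prod.snd x

@[simp] theorem fst_mk (a : R) (l : M) : (mk a l : Dbl P).fst = a := rfl
@[simp] theorem snd_mk (a : R) (l : M) : (mk a l : Dbl P).snd = l := rfl
theorem mk_fst_snd (x : Dbl P) : mk x.fst x.snd = x := rfl

@[ext] theorem ext {x y : Dbl P} (h1 : x.fst = y.fst) (h2 : x.snd = y.snd) : x = y :=
  Prod.ext h1 h2

instance : AddCommGroup (Dbl P) := inferInstanceAs (AddCommGroup (R × M))

@[simp] theorem fst_add (x y : Dbl P) : (x + y).fst = x.fst + y.fst := rfl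
@[simp] theorem snd_add (x y : Dbl P) : (x + y).snd = x.snd + y.snd := rfl
@[simp] theorem fst_zero : (0 : Dbl P).fst = 0 := rfl
@[simp] theorem snd_zero : (0 : Dbl P).snd = 0 := rfl
@[simp] theorem fst_neg (x : Dbl P) : (-x).fst = -x.fst := rfl
@[simp] theorem snd_neg (x : Dbl P) : (-x).snd = -x.snd := rfl
@[simp] theorem fst_sub (x y : Dbl P) : (x - y).fst = x.fst - y.fst := rfl
@[simp] theorem snd_sub (x y : Dbl P) : (x - y).snd = x.snd - y.snd := rfl

instance : Mul (Dbl P) :=
  ⟨fun x y => mk (x.fst * y.fst + P.μ x.snd y.snd) (x.fst • y.snd + y.fst • x.snd)⟩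

instance : One (Dbl P) := ⟨mk 1 0⟩

@[simp] theorem fst_mul (x y : Dbl P) : (x * y).fst = x.fst * y.fst + P.μ x.snd y.snd := rfl
@[simp] theorem snd_mul (x y : Dbl P) : (x * y).snd = x.fst • y.snd + y.fst • x.snd := rfl
@[simp] theorem fst_one : (1 : Dbl P).fst = 1 := rfl
@[simp] theorem snd_one : (1 : Dbl P).snd = 0 := rfl

instance : CommRing (Dbl P) :=
  { (inferInstance : AddCommGroup (Dbl P)), (inferInstance : Mul (Dbl P)),
    (inferInstance : One (Dbl P)) with
    mul_assoc := fun x y z => by
      ext
      · simp only [fst_mul, snd_mul, P.add_left, P.add_right, P.smul_left, P.smul_right]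
        ring
      · simp only [fst_mul, snd_mul, add_smul, smul_add, smul_smul, P.assoc x.snd y.snd z.snd]
        module
    one_mul := fun x => by
      ext
      · simp [P.zero_left]
      · simp
    mul_one := fun x => by
      ext
      · simp [P.zero_right]
      · simp
    left_distrib := fun x y z => by
      ext
      · simp only [fst_mul, fst_add, snd_add, P.add_right]
        ring
      · simp only [snd_mul, fst_add, snd_add, add_smul, smul_add]
        abel
    right_distrib := fun x y z => by
      ext
      · simp only [fst_mul, fst_add, snd_add, P.add_left]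
        ring
      · simp only [snd_mul, fst_add, snd_add, add_smul, smul_add]
        abel
    zero_mul := fun x => by
      ext
      · simp [P.zero_left]
      · simp
    mul_zero := fun x => by
      ext
      · simp [P.zero_right]
      · simp
    mul_comm := fun x y => by
      ext
      · simp only [fst_mul, P.comm x.snd y.snd]
        ring
      · simp only [snd_mul]
        abel }

/-- the structure map `R → R ⊕ M` -/
def inl (P : Pairing R M) : R →+* Dbl P where
  toFun a := mk a 0
  map_one' := rfl
  map_mul' a b := by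
    ext
    · simp [P.zero_left]
    · simp
  map_zero' := rfl
  map_add' a b := by
    ext
    · simp
    · simp

@[simp] theorem fst_inl (a : R) : (inl P a).fst = a := rfl
@[simp] theorem snd_inl (a : R) : (inl P a).snd = 0 := rfl

/-- the inclusion `M → R ⊕ M` -/
def inr (P : Pairing R M) : M →+ Dbl P where
  toFun l := mk 0 l
  map_zero' := rfl
  map_add' a b := by
    ext
    · simp
    · simp

@[simp] theorem fst_inr (l : M) : (inr P l).fst = 0 := rfl
@[simp] theorem snd_inr (l : M) : (inr P l).snd = l := rfl

theorem inl_add_inr (x : Dbl P) : inl P x.fst + inr P x.snd = x := by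
  ext
  · simp
  · simp

theorem inl_mul (a : R) (x : Dbl P) : inl P a * x = mk (a * x.fst) (a • x.snd) := by
  ext
  · simp [P.zero_left]
  · simp

theorem inr_mul_inr (l l' : M) : inr P l * inr P l' = inl P (P.μ l l') := by
  ext
  · simp
  · simp

theorem inl_pow (a : R) (n : ℕ) : inl P a ^ n = inl P (a ^ n) := (map_pow (inl P) a n).symm

section map
variable {R' : Type u'} {M' : Type v'} [CommRing R'] [AddCommGroup M'] [Module R' M']
  {P' : Pairing R' M'}

/-- functoriality of `Dbl` -/
def map (P : Pairing R M) (P' : Pairing R' M') (φ : R →+* R') (ψ : M →+ M')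
    (hψ : ∀ (r : R) (l : M), ψ (r • l) = φ r • ψ l)
    (hμ : ∀ a b : M, φ (P.μ a b) = P'.μ (ψ a) (ψ b)) : Dbl P →+* Dbl P' where
  toFun x := mk (φ x.fst) (ψ x.snd)
  map_one' := by
    ext
    · simp
    · simp
  map_mul' x y := by
    ext
    · simp [hμ]
    · simp [hψ]
  map_zero' := by
    ext
    · simp
    · simp
  map_add' x y := by
    ext
    · simp
    · simp

@[simp] theorem fst_map (φ : R →+* R') (ψ : M →+ M')
    (hψ : ∀ (r : R) (l : M), ψ (r • l) = φ r • ψ l)
    (hμ : ∀ a b : M, φ (P.μ a b) = P'.μ (ψ a) (ψ b)) (x : Dbl P) :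
    (map P P' φ ψ hψ hμ x).fst = φ x.fst := rfl

@[simp] theorem snd_map (φ : R →+* R') (ψ : M →+ M')
    (hψ : ∀ (r : R) (l : M), ψ (r • l) = φ r • ψ l)
    (hμ : ∀ a b : M, φ (P.μ a b) = P'.μ (ψ a) (ψ b)) (x : Dbl P) :
    (map P P' φ ψ hψ hμ x).snd = ψ x.snd := rfl

end map

end Dbl

end Groth.Agent.Lib.T2H4.DblAlg
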