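import Mathlib
import Groth.Prelude.Def_FinCov
import Groth.Agent.Lib.T2H4DblAlgA
import Groth.Agent.Lib.Helper23SecTw6

/-!
# The pairing on sections of an invertible module (helper4, team 2)

For an invertible module `L` on a scheme `X` and `m : L ⊗ L ⟶ O_X`, the pairings
`μ_U : L(U) × L(U) → O_X(U)`, `μ_U l l' = m(l ⊗ l')`, are symmetric, bilinear, compatible with
restrictions and satisfy `μ a b • c = μ b c • a`.
-/

set_option autoImplicit false
universe u
open CategoryTheory Limits AlgebraicGeometry TopologicalSpace Opposite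

namespace Groth.Agent.Lib.T2H4.DblAlg

open Groth.Agent.Lib.Helper23.SecTw Groth.Agent.Lib.Helper23.GenLocus Groth.Agent.Lib.Helper23.Extend
  Groth.Agent.Lib.Helper6

variable {X : Scheme.{u}}

/-- sections of a module which agree locally are equal -/
theorem eq_of_locally_eq (F : X.Modules) {U : X.Opens} (s t : Γ(F, U))
    (h : ∀ x ∈ U, ∃ (W : X.Opens) (hW : W ≤ U), x ∈ W ∧ res F hW s = res F hW t) : s = t := by
  choose W hW hxW hst using h
  refine (modSheaf F).eq_of_locally_eq' (fun i : U => W i.1 i.2) U (fun i => homOfLE (hW i.1 i.2)) ?_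
    s t (fun i => hst i.1 i.2)
  intro x hx
  exact Opens.mem_iSup.2 ⟨⟨x, hx⟩, hxW x hx⟩

variable (L : X.Modules) (m : CohB1.tensorMod L L ⟶ Coh.structureModule X)

/-- the pairing on sections over `U` -/
noncomputable def mu (U : X.Opens) (a b : Γ(L, U)) : Γ(X, U) := ofS U (m.app U (tm L L U a b))

theorem mu_add_left (U : X.Opens) (a a' b : Γ(L, U)) :
    mu L m U (a + a') b = mu L m U a b + mu L m U a' b := by
  unfold mu
  rw [tm_add_left, map_add]
  rfl

theorem mu_add_right (U : X.Opens) (a b b' : Γ(L, U)) :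
    mu L m U a (b + b') = mu L m U a b + mu L m U a b' := by
  unfold mu
  rw [tm_add_right, map_add]
  rfl

theorem mu_smul_left (U : X.Opens) (r : Γ(X, U)) (a b : Γ(L, U)) :
    mu L m U (r • a) b = r * mu L m U a b := by
  unfold mu
  rw [tm_smul_left, Scheme.Modules.Hom.app_smul]
  rfl

theorem mu_smul_right (U : X.Opens) (r : Γ(X, U)) (a b : Γ(L, U)) :
    mu L m U a (r • b) = r * mu L m U a b := by
  unfold mu
  rw [tm_smul_right, Scheme.Modules.Hom.app_smul]
  rfl

theorem map_mu {U V : X.Opens} (i : V ⟶ U) (a b : Γ(L, U)) :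
    X.presheaf.map i.op (mu L m U a b) =
      mu L m V (L.presheaf.map i.op a) (L.presheaf.map i.op b) := by
  unfold mu
  have h1 := app_map m i (tm L L U a b)
  have h2 : (CohB1.tensorMod L L).presheaf.map i.op (tm L L U a b) =
      tm L L V (L.presheaf.map i.op a) (L.presheaf.map i.op b) := SecTwist.map_tmul L L i a b
  rw [h2] at h1
  rw [h1]
  rfl

theorem resf_mu {U V : X.Opens} (h : V ≤ U) (a b : Γ(L, U)) :
    resf h (mu L m U a b) = mu L m V (res L h a) (res L h b) := map_mu L m (homOfLE h) a b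

variable (hL : PicF.IsInvertible L)
include hL

theorem mu_comm (U : X.Opens) (a b : Γ(L, U)) : mu L m U a b = mu L m U b a := by
  have key : toS U (mu L m U a b) = toS U (mu L m U b a) := by
    refine eq_of_locally_eq (Coh.structureModule X) _ _ (fun x hx => ?_)
    obtain ⟨W, e, hxW, he⟩ := exists_gen L hL x
    have hle : W ⊓ U ≤ U := inf_le_right
    have he' := he.mono (inf_le_left : W ⊓ U ≤ W)
    refine ⟨W ⊓ U, hle, ⟨hxW, hx⟩, ?_⟩
    change toS (W ⊓ U) (resf hle (mu L m U a b)) = toS (W ⊓ U) (resf hle (mu L m U b a))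
    rw [resf_mu, resf_mu]
    have ha := coef_spec he' le_rfl (res L hle a)
    have hb := coef_spec he' le_rfl (res L hle b)
    rw [← ha, ← hb, mu_smul_left, mu_smul_right, mu_smul_left, mu_smul_right]
    congr 1
    ring
  exact key

theorem mu_assoc (U : X.Opens) (a b c : Γ(L, U)) : mu L m U a b • c = mu L m U b c • a := by
  refine eq_of_locally_eq L _ _ (fun x hx => ?_)
  obtain ⟨W, e, hxW, he⟩ := exists_gen L hL x
  have hle : W ⊓ U ≤ U := inf_le_right
  have he' := he.mono (inf_le_left : W ⊓ U ≤ W)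
  refine ⟨W ⊓ U, hle, ⟨hxW, hx⟩, ?_⟩
  rw [res_smul, res_smul, resf_mu, resf_mu]
  have ha := coef_spec he' le_rfl (res L hle a)
  have hb := coef_spec he' le_rfl (res L hle b)
  have hc := coef_spec he' le_rfl (res L hle c)
  rw [← ha, ← hb, ← hc, mu_smul_left, mu_smul_right, mu_smul_left, mu_smul_right, smul_smul, smul_smul]
  congr 1
  ring

/-- the pairing on sections over `U`, bundled -/
noncomputable def pairing (U : X.Opens) : Pairing Γ(X, U) Γ(L, U) where
  μ := mu L m U
  add_left := mu_add_left L m U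
  smul_left := mu_smul_left L m U
  comm := mu_comm L m hL U
  assoc := mu_assoc L m hL U

@[simp] theorem pairing_μ (U : X.Opens) (a b : Γ(L, U)) : (pairing L m hL U).μ a b = mu L m U a b := rfl

end Groth.Agent.Lib.T2H4.DblAlg
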