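import Mathlib
import Groth.Prelude.Def_FinCov
import Groth.Agent.Lib.T2H4DblAlgB
import Groth.Agent.Lib.Helper2FPAff

/-!
# The quasi-coherent algebra `O_X ⊕ L` (helper4, team 2)
-/

set_option autoImplicit false
universe u
open CategoryTheory Limits AlgebraicGeometry TopologicalSpace Opposite

namespace Groth.Agent.Lib.T2H4.DblAlg

open Groth.Agent.Lib.Helper23.SecTw Groth.Agent.Lib.Helper23.GenLocus Groth.Agent.Lib.Helper23.Extend
  Groth.Agent.Lib.Helper6

variable {X : Scheme.{u}} (L : X.Modules) (m : CohB1.tensorMod L L ⟶ Coh.structureModule X)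
  (hL : PicF.IsInvertible L)

/-- sections of the algebra `O_X ⊕ L` over `U` -/
abbrev Sec (U : X.Opens) : Type u := Dbl (pairing L m hL U)

/-- restriction of sections of `O_X ⊕ L` -/
noncomputable def resD {U V : X.Opens} (i : V ⟶ U) : Sec L m hL U →+* Sec L m hL V :=
  Dbl.map (pairing L m hL U) (pairing L m hL V) (X.presheaf.map i.op).hom
    (L.presheaf.map i.op).hom (fun r l => Scheme.Modules.map_smul L i r l)
    (fun a b => map_mu L m i a b)

@[simp] theorem fst_resD {U V : X.Opens} (i : V ⟶ U) (x : Sec L m hL U) :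
    (resD L m hL i x).fst = X.presheaf.map i.op x.fst := rfl

@[simp] theorem snd_resD {U V : X.Opens} (i : V ⟶ U) (x : Sec L m hL U) :
    (resD L m hL i x).snd = L.presheaf.map i.op x.snd := rfl

/-- the presheaf of rings `O_X ⊕ L` -/
noncomputable def dblPresheaf : TopCat.Presheaf CommRingCat.{u} X.carrier where
  obj U := CommRingCat.of (Sec L m hL U.unop)
  map {U V} i := CommRingCat.ofHom (resD L m hL i.unop)
  map_id U := by
    refine CommRingCat.hom_ext (RingHom.ext fun x => ?_)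
    refine Dbl.ext (P := pairing L m hL U.unop) ?_ ?_
    · change X.presheaf.map (𝟙 U) _ = _
      rw [X.presheaf.map_id]; rfl
    · change L.presheaf.map (𝟙 U) _ = _
      rw [L.presheaf.map_id]; rfl
  map_comp {U V W} i j := by
    refine CommRingCat.hom_ext (RingHom.ext fun x => ?_)
    refine Dbl.ext (P := pairing L m hL W.unop) ?_ ?_
    · change X.presheaf.map (i ≫ j) _ = X.presheaf.map j (X.presheaf.map i _)
      rw [X.presheaf.map_comp]; rfl
    · change L.presheaf.map (i ≫ j) _ = L.presheaf.map j (L.presheaf.map i _)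
      rw [L.presheaf.map_comp]; rfl

theorem dblPresheaf_map_fst {U V : (Opens X.carrier)ᵒᵖ} (i : U ⟶ V) (x : Sec L m hL U.unop) :
    Dbl.fst (P := pairing L m hL V.unop) ((dblPresheaf L m hL).map i x) = X.presheaf.map i x.fst := rfl

theorem dblPresheaf_map_snd {U V : (Opens X.carrier)ᵒᵖ} (i : U ⟶ V) (x : Sec L m hL U.unop) :
    Dbl.snd (P := pairing L m hL V.unop) ((dblPresheaf L m hL).map i x) = L.presheaf.map i x.snd := rfl

/-- first component of a section -/
noncomputable def fstS (U : X.Opens) (x : Sec L m hL U) : Γ(X, U) := Dbl.fst x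
/-- second component of a section -/
noncomputable def sndS (U : X.Opens) (x : Sec L m hL U) : Γ(L, U) := Dbl.snd x
/-- a section from its components -/
noncomputable def mkS (U : X.Opens) (a : Γ(X, U)) (l : Γ(L, U)) : Sec L m hL U := Dbl.mk a l

theorem extS {U : X.Opens} {x y : Sec L m hL U} (h1 : fstS L m hL U x = fstS L m hL U y)
    (h2 : sndS L m hL U x = sndS L m hL U y) : x = y := Dbl.ext h1 h2

theorem dblPresheaf_isSheaf : (dblPresheaf L m hL).IsSheaf := by
  rw [TopCat.Presheaf.isSheaf_iff_isSheafUniqueGluing]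
  intro ι U sf hsf
  have h1 : TopCat.Presheaf.IsCompatible X.sheaf.1 U (fun i => fstS L m hL (U i) (sf i)) := fun i j =>
    congrArg (fstS L m hL (U i ⊓ U j)) (hsf i j)
  have h2 : TopCat.Presheaf.IsCompatible (modSheaf L).1 U (fun i => sndS L m hL (U i) (sf i)) :=
    fun i j => congrArg (sndS L m hL (U i ⊓ U j)) (hsf i j)
  obtain ⟨a, ha, ha'⟩ := X.sheaf.existsUnique_gluing U _ h1
  obtain ⟨l, hl, hl'⟩ := (modSheaf L).existsUnique_gluing U _ h2
  refine ⟨mkS L m hL (iSup U) a l, ?_, ?_⟩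
  · intro i
    exact extS L m hL (ha i) (hl i)
  · intro s hs
    refine extS L m hL ?_ ?_
    · exact ha' (fstS L m hL (iSup U) s) (fun i => congrArg (fstS L m hL (U i)) (hs i))
    · exact hl' (sndS L m hL (iSup U) s) (fun i => congrArg (sndS L m hL (U i)) (hs i))

/-- the structure map `O_X ⟶ O_X ⊕ L` -/
noncomputable def dblStr : X.presheaf ⟶ dblPresheaf L m hL where
  app U := CommRingCat.ofHom (Dbl.inl (pairing L m hL U.unop))
  naturality U V i := by
    refine CommRingCat.hom_ext (RingHom.ext fun a => ?_)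
    refine Dbl.ext (P := pairing L m hL V.unop) rfl ?_
    change (0 : Γ(L, V.unop)) = L.presheaf.map i (0 : Γ(L, U.unop))
    rw [map_zero]

theorem dblStr_app (U : (Opens X.carrier)ᵒᵖ) (a : Γ(X, U.unop)) :
    ((dblStr L m hL).app U).hom a = Dbl.inl (pairing L m hL U.unop) a := rfl

theorem inl_mul_S {U : X.Opens} (a : Γ(X, U)) (x : Sec L m hL U) :
    Dbl.inl (pairing L m hL U) a * x = mkS L m hL U (a * fstS L m hL U x) (a • sndS L m hL U x) :=
  Dbl.inl_mul a x

theorem resD_inl {U V : X.Opens} (i : V ⟶ U) (a : Γ(X, U)) :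
    resD L m hL i (Dbl.inl (pairing L m hL U) a) =
      Dbl.inl (pairing L m hL V) (X.presheaf.map i.op a) := by
  refine extS L m hL rfl ?_
  change L.presheaf.map i.op (0 : Γ(L, U)) = 0
  rw [map_zero]

theorem resD_mkS {U V : X.Opens} (i : V ⟶ U) (a : Γ(X, U)) (l : Γ(L, U)) :
    resD L m hL i (mkS L m hL U a l) =
      mkS L m hL V (X.presheaf.map i.op a) (L.presheaf.map i.op l) := rfl

theorem mkS_eq_zero {U : X.Opens} {a : Γ(X, U)} {l : Γ(L, U)} (ha : a = 0) (hl : l = 0) :
    mkS L m hL U a l = 0 := by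
  subst ha hl; rfl

include hL in
theorem dbl_isQC : RelSpec.IsQC (dblPresheaf L m hL) (dblStr L m hL) := by
  have := isQuasicoherent_of_isInvertible L hL
  intro U hU r
  let ρ : Sec L m hL U →+* Sec L m hL (X.basicOpen r) := resD L m hL (homOfLE (X.basicOpen_le r))
  letI alg : Algebra (Sec L m hL U) (Sec L m hL (X.basicOpen r)) := ρ.toAlgebra
  have hρ : algebraMap (Sec L m hL U) (Sec L m hL (X.basicOpen r)) = ρ := rfl
  have hρinl : ∀ n : ℕ, ρ (Dbl.inl (pairing L m hL U) r ^ n) =
      Dbl.inl (pairing L m hL (X.basicOpen r)) (resf (X.basicOpen_le r) r ^ n) := by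
    intro n
    have h0 : ρ (Dbl.inl (pairing L m hL U) r) =
        Dbl.inl (pairing L m hL (X.basicOpen r)) (resf (X.basicOpen_le r) r) := resD_inl L m hL _ r
    rw [map_pow, h0, Dbl.inl_pow]
  change IsLocalization (Submonoid.powers (Dbl.inl (pairing L m hL U) r)) (Sec L m hL (X.basicOpen r))
  rw [isLocalization_iff]
  refine ⟨?_, ?_, ?_⟩
  · rintro ⟨_, n, rfl⟩
    rw [hρ]
    change IsUnit (ρ (Dbl.inl (pairing L m hL U) r ^ n))
    rw [hρinl]
    exact ((RingedSpace.isUnit_res_basicOpen _ r).pow n).map (Dbl.inl (pairing L m hL (X.basicOpen r)))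
  · intro z
    obtain ⟨n1, a', ha'⟩ := exists_eq_pow_mul_of_isAffineOpen X U hU r (fstS L m hL _ z)
    obtain ⟨n2, l', hl'⟩ := Groth.Agent.Lib.Helper2.QCoh.exists_extension hU L r (sndS L m hL _ z)
    replace ha' : resf (X.basicOpen_le r) a' = resf (X.basicOpen_le r) r ^ n1 * fstS L m hL _ z := ha'
    replace hl' : res L (X.basicOpen_le r) l' = resf (X.basicOpen_le r) r ^ n2 • sndS L m hL _ z := hl'
    refine ⟨(mkS L m hL U (r ^ n2 * a') (r ^ n1 • l'),
      ⟨Dbl.inl (pairing L m hL U) r ^ (n1 + n2), n1 + n2, rfl⟩), ?_⟩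
    rw [hρ]
    change z * ρ (Dbl.inl (pairing L m hL U) r ^ (n1 + n2)) = ρ (mkS L m hL U (r ^ n2 * a') (r ^ n1 • l'))
    rw [hρinl, mul_comm, inl_mul_S]
    change _ = mkS L m hL _ (resf (X.basicOpen_le r) (r ^ n2 * a')) (res L (X.basicOpen_le r) (r ^ n1 • l'))
    rw [resf_mul, res_smul, ha', hl', resf_pow, resf_pow, smul_smul]
    congr 1
    · ring
    · congr 1
      ring
  · intro x y hxy
    rw [hρ] at hxy
    have hd : ρ (x - y) = 0 := by rw [map_sub, hxy, sub_self]
    have h1 : resf (X.basicOpen_le r) (fstS L m hL U (x - y)) = 0 :=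
      congrArg (fstS L m hL (X.basicOpen r)) hd
    have h2 : res L (X.basicOpen_le r) (sndS L m hL U (x - y)) = 0 :=
      congrArg (sndS L m hL (X.basicOpen r)) hd
    obtain ⟨n1, hn1⟩ := exists_pow_mul_eq_zero_of_res_basicOpen_eq_zero_of_isAffineOpen X hU
      (fstS L m hL U (x - y)) r h1
    obtain ⟨n2, hn2⟩ := Groth.Agent.Lib.Helper2.QCoh.exists_pow_smul_eq_zero hU L r
      (sndS L m hL U (x - y)) h2
    refine ⟨⟨Dbl.inl (pairing L m hL U) r ^ (n1 + n2), n1 + n2, rfl⟩, ?_⟩
    change Dbl.inl (pairing L m hL U) r ^ (n1 + n2) * x = Dbl.inl (pairing L m hL U) r ^ (n1 + n2) * y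
    rw [← sub_eq_zero, ← mul_sub, Dbl.inl_pow, inl_mul_S]
    refine mkS_eq_zero L m hL ?_ ?_
    · rw [pow_add, mul_comm (r ^ n1), mul_assoc, hn1, mul_zero]
    · rw [pow_add, mul_smul, hn2, smul_zero]

/-- the quasi-coherent algebra `O_X ⊕ L` -/
noncomputable def dblAlg : RelSpec.QCAlg X where
  presheaf := dblPresheaf L m hL
  isSheaf := dblPresheaf_isSheaf L m hL
  str := dblStr L m hL
  isQC := dbl_isQC L m hL

end Groth.Agent.Lib.T2H4.DblAlg
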