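import Mathlib
import Groth.Prelude.Def_FinCov
import Groth.Agent.Lib.T2H4DblAlgC

/-!
# `O_X ⊕ L` is a double-cover algebra (helper4, team 2)
-/

set_option autoImplicit false
universe u
open CategoryTheory Limits AlgebraicGeometry TopologicalSpace Opposite

namespace Groth.Agent.Lib.T2H4.DblAlg

open Groth.Agent.Lib.Helper23.SecTw Groth.Agent.Lib.Helper23.GenLocus Groth.Agent.Lib.Helper23.Extend
  Groth.Agent.Lib.Helper6

variable {X : Scheme.{u}} (L : X.Modules) (m : CohB1.tensorMod L L ⟶ Coh.structureModule X)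
  (hL : PicF.IsInvertible L)

/-- a section of the ring `O_X ⊕ L` as a section of the module -/
noncomputable def toMod (U : X.Opens) (x : Sec L m hL U) : Γ((dblAlg L m hL).toModule, U) := x

/-- a section of the module as a section of the ring -/
noncomputable def ofMod (U : X.Opens) (x : Γ((dblAlg L m hL).toModule, U)) : Sec L m hL U := x

theorem toMod_add (U : X.Opens) (x y : Sec L m hL U) :
    toMod L m hL U (x + y) = toMod L m hL U x + toMod L m hL U y := rfl

theorem smul_toMod (U : X.Opens) (r : Γ(X, U)) (x : Sec L m hL U) :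
    r • toMod L m hL U x = toMod L m hL U (Dbl.inl (pairing L m hL U) r * x) := rfl

theorem res_toMod {U V : X.Opens} (h : V ≤ U) (x : Sec L m hL U) :
    res (dblAlg L m hL).toModule h (toMod L m hL U x) = toMod L m hL V (resD L m hL (homOfLE h) x) := rfl

theorem exists_j : ∃ j : L ⟶ (dblAlg L m hL).toModule,
    ∀ (V : X.Opens) (l : Γ(L, V)), j.app V l = toMod L m hL V (Dbl.inr (pairing L m hL V) l) := by
  refine exists_hom_of_sections L (dblAlg L m hL).toModule
    (fun V l => toMod L m hL V (Dbl.inr (pairing L m hL V) l)) ?_ ?_ ?_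
  · intro V l l'
    rw [map_add]; rfl
  · intro V r l
    rw [smul_toMod]
    congr 1
    refine extS L m hL ?_ ?_
    · change (0 : Γ(X, V)) = r * 0 + mu L m V 0 l
      rw [mul_zero, zero_add, show mu L m V 0 l = 0 from (pairing L m hL V).zero_left l]
    · change r • l = r • l + (0 : Γ(X, V)) • (0 : Γ(L, V))
      rw [smul_zero, add_zero]
  · intro U V h l
    rw [res_toMod]
    congr 1
    refine extS L m hL ?_ rfl
    change X.presheaf.map (homOfLE h).op (0 : Γ(X, U)) = 0
    rw [map_zero]

theorem isDblAlg (j : L ⟶ (dblAlg L m hL).toModule)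
    (hj : ∀ (V : X.Opens) (l : Γ(L, V)), j.app V l = toMod L m hL V (Dbl.inr (pairing L m hL V) l)) :
    FinCov.IsDblAlg L m (dblAlg L m hL) j := by
  refine ⟨fun U => ?_, fun U l l' => ?_⟩
  · have h : (fun p : Γ(X, U) × L.val.obj (op U) =>
        ((dblAlg L m hL).str.app (op U)).hom p.1 +
          FinCov.toSec (dblAlg L m hL) ((j.val.app (op U)).hom p.2)) =
        fun p => mkS L m hL U p.1 p.2 := by
      funext p
      have h1 : (j.val.app (op U)).hom p.2 = toMod L m hL U (Dbl.inr (pairing L m hL U) p.2) :=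
        hj U p.2
      rw [h1]
      exact Dbl.inl_add_inr (P := pairing L m hL U) (mkS L m hL U p.1 p.2)
    rw [h]
    refine ⟨fun p q hpq => ?_, fun x => ⟨(fstS L m hL U x, sndS L m hL U x), rfl⟩⟩
    exact Prod.ext (congrArg (fstS L m hL U) hpq) (congrArg (sndS L m hL U) hpq)
  · have h1 : (j.val.app (op U)).hom l = toMod L m hL U (Dbl.inr (pairing L m hL U) l) := hj U l
    have h2 : (j.val.app (op U)).hom l' = toMod L m hL U (Dbl.inr (pairing L m hL U) l') := hj U l'
    rw [h1, h2]
    exact Dbl.inr_mul_inr (P := pairing L m hL U) l l'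

include hL in
theorem exists_isDblAlg : ∃ (A : RelSpec.QCAlg X) (j : L ⟶ A.toModule), FinCov.IsDblAlg L m A j := by
  obtain ⟨j, hj⟩ := exists_j L m hL
  exact ⟨dblAlg L m hL, j, isDblAlg L m hL j hj⟩

end Groth.Agent.Lib.T2H4.DblAlg
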