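import Groth.Agent.Lib.T2H4ReflBigOpen
import Groth.Agent.Lib.Helper23QCohAbelian
import Groth.Agent.Lib.Helper23FinTypeLocal
import Groth.Agent.Lib.Helper20ZClos

/-!
# The bidual of a finite type submodule of a flat quasi-coherent module on a normal Noetherian scheme (helper4)

* `isQuasicoherent_of_mono`: a finite type submodule of a quasi-coherent module is quasi-coherent.
* `isReflexiveAt_ddual'`: the stalks of a bidual are reflexive where the local ring is a domain.
* `main`: `F^** ≅ j_* j^* F` for `j` the inclusion of the flat locus.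
-/

set_option autoImplicit false
set_option linter.style.haveILetI false
universe u
open CategoryTheory Limits AlgebraicGeometry TopologicalSpace Opposite

namespace Groth.Agent.Lib.T2H4.DdualFlatLocus

open Groth.Agent.Lib.T2H4.ReflExt Groth.Agent.Lib.T2H4.ReflExtAlg Groth.Agent.Lib.T2H8.StalkRestrict
  Groth.Agent.Lib.T2H3.Reflexive Groth.Agent.Lib.T2H3.ReflexiveHom Groth.Agent.Lib.T2H3.ReflexiveAlg
  Groth.Agent.Lib.T2H3.HomShStalk Groth.Agent.Lib.T2H3.HomShQCoh
  Groth.Agent.Lib.Helper2.LocFree Groth.Agent.Lib.Helper28 Groth.Agent.Lib.T2H4.ReflBigOpen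

variable {X : Scheme.{u}}

attribute [local instance] Groth.Agent.Lib.Helper23.QCohLocal.restrictFunctor_isRightAdjoint

/-- a finite type submodule of a quasi-coherent module is quasi-coherent -/
theorem isQuasicoherent_of_mono {F A : X.Modules} [A.IsQuasicoherent] (ι : F ⟶ A) [Mono ι]
    [SheafOfModules.IsFiniteType (R := X.ringCatSheaf) F] : F.IsQuasicoherent := by
  obtain ⟨I, U, G, hfin, hcov, haff⟩ :=
    Groth.Agent.Lib.Helper23.FinType.exists_isOpenCover_generatingSections F
  refine Groth.Agent.Lib.Helper23.FinType.isQuasicoherent_of_open_cover F U hcov (fun i => ?_)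
  let ι' : F.restrict (U i).ι ⟶ A.restrict (U i).ι := (Scheme.Modules.restrictFunctor (U i).ι).map ι
  haveI : Mono ι' := inferInstanceAs (Mono ((Scheme.Modules.restrictFunctor (U i).ι).map ι))
  haveI : (A.restrict (U i).ι).IsQuasicoherent :=
    inferInstanceAs ((Scheme.Modules.restrictFunctor (U i).ι).obj A).IsQuasicoherent
  let P : (U i : Scheme.{u}).Modules := SheafOfModules.free (R := (U i : Scheme.{u}).ringCatSheaf) (G i).I
  let π : P ⟶ F.restrict (U i).ι := (G i).π
  haveI : Epi π := (G i).epi
  haveI : P.IsQuasicoherent :=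
    inferInstanceAs (SheafOfModules.free (R := (U i : Scheme.{u}).ringCatSheaf) (G i).I).IsQuasicoherent
  let f := π ≫ ι'
  haveI hc : (cokernel f).IsQuasicoherent :=
    Groth.Agent.Lib.Helper23.QCohLocal.isQuasicoherent_cokernel f
  haveI hk : (kernel (cokernel.π f)).IsQuasicoherent :=
    Groth.Agent.Lib.Helper23.QCohLocal.isQuasicoherent_kernel (cokernel.π f)
  haveI : StrongEpi π := strongEpi_of_epi π
  let e : F.restrict (U i).ι ≅ Abelian.image f :=
    image.isoStrongEpiMono π ι' rfl ≪≫ (Abelian.imageIsoImage f).symm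
  exact (SheafOfModules.isQuasicoherent (U i : Scheme.{u}).ringCatSheaf).prop_of_iso e.symm hk

/-- the stalks of a double dual are reflexive where the local ring is a domain -/
theorem isReflexiveAt_ddual' [IsLocallyNoetherian X] (F : X.Modules) (hF : Coh.IsCoh F) (x : X)
    [IsDomain (X.presheaf.stalk x)] :
    Module.IsReflexive (X.presheaf.stalk x) ((RefHull.ddual F).presheaf.stalk x) := by
  have hO : Coh.IsCoh (Coh.structureModule X) := Groth.Agent.Lib.T2H5.GenIsoF.isCoh_structureModule
  have hd : Coh.IsCoh (RefHull.dual F) := isCoh_dual F hF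
  haveI := finite_stalk_of_isCoh (RefHull.dual F) hd x
  haveI := finite_stalk_of_isCoh (Coh.structureModule X) hO x
  haveI : Module.IsReflexive (X.presheaf.stalk x) ((Coh.structureModule X).presheaf.stalk x) :=
    Module.equiv (Groth.Agent.Lib.Helper23.UnitStalk.unitStalkEquiv x)
  have hbij := evalStalk_bijective (RefHull.dual F) (Coh.structureModule X) (isFP_of_isCoh _ hd) x
  let e := LinearEquiv.ofBijective (RefHull.evalStalk (RefHull.dual F) (Coh.structureModule X) x) hbij
  haveI : Module.IsReflexive (X.presheaf.stalk x)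
      (RefHull.StalkHom (RefHull.dual F) (Coh.structureModule X) x) :=
    isReflexive_hom (R := X.presheaf.stalk x) ((RefHull.dual F).presheaf.stalk x)
      ((Coh.structureModule X).presheaf.stalk x)
  exact Module.equiv e.symm

theorem main (S : Scheme.{u}) [IsNoetherian S]
    (hS : Pi1.IsNormalScheme S) (A F : S.Modules) (hA : Coh.IsQCoh A) (hAfl : FlatMod.IsFlat A)
    (ι : F ⟶ A) [Mono ι] (hF : CohB1.IsFT F) (U : S.Opens)
    (hU : (U : Set S) = {s : S | FlatMod.IsFlatAt F s}) :
    ∃ e : RefHull.ddual F ≅ (Scheme.Modules.pushforward U.ι).obj (F.restrict U.ι),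
      RefHull.bidualMap F ≫ e.hom = (Scheme.Modules.restrictAdjunction U.ι).unit.app F := by
  haveI : A.IsQuasicoherent := hA
  haveI : SheafOfModules.IsFiniteType (R := S.ringCatSheaf) F := hF
  haveI hFq : F.IsQuasicoherent := isQuasicoherent_of_mono ι
  have hFcoh : Coh.IsCoh F := ⟨hFq, hF⟩
  -- stalks of `F` are torsion-free
  have htf : ∀ x : S, Module.IsTorsionFree (S.presheaf.stalk x) (F.presheaf.stalk x) := by
    intro x
    haveI : Module.Flat (S.presheaf.stalk x) (A.presheaf.stalk x) := hAfl x
    have hinj : Function.Injective (RefHull.stalkMapₗ ι x) :=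
      (Groth.Agent.Lib.Helper20.ZClosLib.mono_iff_stalk_injective ι).1 inferInstance x
    exact Function.Injective.moduleIsTorsionFree (RefHull.stalkMapₗ ι x) hinj
      (fun r m => map_smul (RefHull.stalkMapₗ ι x) r m)
  have hmemU : ∀ x : S, x ∈ U ↔ FlatMod.IsFlatAt F x := by
    intro x
    have : x ∈ (U : Set S) ↔ x ∈ {s : S | FlatMod.IsFlatAt F s} := by rw [hU]
    exact this
  have hdim : ∀ x : S, x ∉ U → (2 : WithBot ℕ∞) ≤ ringKrullDim (S.presheaf.stalk x) := by
    intro x hx
    by_contra hlt
    have hle := le_one_of_not_two_le _ hlt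
    haveI := (hS x).1
    haveI := (hS x).2
    haveI : IsPrincipalIdealRing (S.presheaf.stalk x) :=
      isPrincipalIdealRing_of_isIntegrallyClosed_of_dim_le_one hle
    haveI := htf x
    haveI := finite_stalk_of_isCoh F hFcoh x
    haveI : Module.Free (S.presheaf.stalk x) (F.presheaf.stalk x) :=
      Module.free_of_finite_type_torsion_free'
    exact hx ((hmemU x).2 (show Module.Flat (S.presheaf.stalk x) (F.presheaf.stalk x) from inferInstance))
  have hdepth : ∀ x : S, x ∉ U → (2 : ℕ∞) ≤ LocCoh.depth (S.presheaf.stalk x) (S.presheaf.stalk x) := by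
    intro x hx
    haveI := (hS x).1
    haveI := (hS x).2
    exact two_le_depth_of_isIntegrallyClosed_of_two_le_dim (hdim x hx)
  have hreflU : ∀ x : S, x ∈ U → Module.IsReflexive (S.presheaf.stalk x) (F.presheaf.stalk x) := by
    intro x hx
    haveI : Module.Flat (S.presheaf.stalk x) (F.presheaf.stalk x) := (hmemU x).1 hx
    haveI := finite_stalk_of_isCoh F hFcoh x
    haveI : Module.Free (S.presheaf.stalk x) (F.presheaf.stalk x) := Module.free_of_flat_of_isLocalRing
    infer_instance
  haveI hβ : IsIso ((Scheme.Modules.restrictFunctor U.ι).map (RefHull.bidualMap F)) := by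
    refine isIso_restrict_map_of_stalk U _ (fun x hx => ?_)
    exact (bijective_stalkMap_bidualMap_iff F hFcoh x).2 (hreflU x hx)
  have hF₂ : Coh.IsCoh (RefHull.ddual F) := isCoh_ddual F hFcoh
  haveI hη : IsIso ((Scheme.Modules.restrictAdjunction U.ι).unit.app (RefHull.ddual F)) :=
    isIso_unit_of_isReflexive U hdepth _ hF₂ (fun x => by
      haveI := (hS x).1
      exact isReflexiveAt_ddual' F hFcoh x)
  have hnat := (Scheme.Modules.restrictAdjunction U.ι).unit.naturality (RefHull.bidualMap F)
  refine ⟨asIso ((Scheme.Modules.restrictAdjunction U.ι).unit.app (RefHull.ddual F)) ≪≫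
    (Scheme.Modules.pushforward U.ι).mapIso
      (asIso ((Scheme.Modules.restrictFunctor U.ι).map (RefHull.bidualMap F))).symm, ?_⟩
  have h2 : RefHull.bidualMap F ≫ (Scheme.Modules.restrictAdjunction U.ι).unit.app (RefHull.ddual F) =
      (Scheme.Modules.restrictAdjunction U.ι).unit.app F ≫
        (Scheme.Modules.pushforward U.ι).map
          ((Scheme.Modules.restrictFunctor U.ι).map (RefHull.bidualMap F)) := hnat
  simp only [Iso.trans_hom, asIso_hom, Functor.mapIso_hom, Iso.symm_hom, asIso_inv]
  rw [← Category.assoc, h2, Category.assoc, ← Functor.map_comp, IsIso.hom_inv_id,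
    CategoryTheory.Functor.map_id]
  exact Category.comp_id _

end Groth.Agent.Lib.T2H4.DdualFlatLocus
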