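import Groth.Agent.Lib.Helper6QCohQcqs

/-!
# Sections of a module on which a ring acts through a fixed open: regularity and divisibility up to a
multiplicative set, and their local-to-global behaviour (helper4)

Fix an open `W₀` of a scheme `X`, a ring hom `ρ : R →+* Γ(X, W₀)` and a submonoid `T ⊆ R`.  For an open
`W ≤ W₀` the ring `R` acts on `Γ(F, W)` (`act`).  `PReg x W` says: `x σ = 0` implies `h σ = 0` for some
`h ∈ T` (i.e. `x` is a nonzerodivisor on `T⁻¹ Γ(F, W)`); `PDiv x W τ` says `h τ = x v` for some `h ∈ T`, `v`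
(i.e. `τ ∈ x T⁻¹ Γ(F, W)`).
-/

set_option autoImplicit false
universe u
open CategoryTheory Limits AlgebraicGeometry TopologicalSpace Opposite

namespace Groth.Agent.Lib.T2H4.PushDepthSh

open Groth.Agent.Lib.Helper6

variable {X : Scheme.{u}} (F : X.Modules) {R : Type u} [CommRing R] {W₀ : X.Opens}
  (ρ : R →+* Γ(X, W₀)) (T : Submonoid R)

/-- the action of `x : R` on sections of `F` over `W ≤ W₀` -/
noncomputable def act {W : X.Opens} (e : W ≤ W₀) (x : R) (σ : Γ(F, W)) : Γ(F, W) :=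
  resf e (ρ x) • σ

theorem act_def {W : X.Opens} (e : W ≤ W₀) (x : R) (σ : Γ(F, W)) :
    act F ρ e x σ = resf e (ρ x) • σ := rfl

theorem resf_le_rfl {W : X.Opens} (r : Γ(X, W)) : resf (le_refl W) r = r := by
  have : (homOfLE (le_refl W)).op = 𝟙 (op W) := rfl
  simp only [resf]
  rw [this, X.presheaf.map_id]; rfl

theorem resf_mul' {W W' : X.Opens} (e : W' ≤ W) (r r' : Γ(X, W)) :
    resf e (r * r') = resf e r * resf e r' := map_mul (X.presheaf.map (homOfLE e).op).hom r r'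

theorem resf_one' {W W' : X.Opens} (e : W' ≤ W) : resf e (1 : Γ(X, W)) = 1 :=
  map_one (X.presheaf.map (homOfLE e).op).hom

theorem act_le_rfl (x : R) (σ : Γ(F, W₀)) : act F ρ le_rfl x σ = ρ x • σ := by
  rw [act_def, resf_le_rfl]

@[simp] theorem act_zero {W : X.Opens} (e : W ≤ W₀) (x : R) : act F ρ e x (0 : Γ(F, W)) = 0 := by
  rw [act_def, smul_zero]

theorem act_sub {W : X.Opens} (e : W ≤ W₀) (x : R) (σ τ : Γ(F, W)) :
    act F ρ e x (σ - τ) = act F ρ e x σ - act F ρ e x τ := by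
  rw [act_def, act_def, act_def, smul_sub]

theorem act_mul {W : X.Opens} (e : W ≤ W₀) (x y : R) (σ : Γ(F, W)) :
    act F ρ e (x * y) σ = act F ρ e x (act F ρ e y σ) := by
  rw [act_def, act_def, act_def, map_mul, resf_mul', mul_smul]

theorem act_one {W : X.Opens} (e : W ≤ W₀) (σ : Γ(F, W)) : act F ρ e 1 σ = σ := by
  rw [act_def, map_one, resf_one', one_smul]

theorem act_comm {W : X.Opens} (e : W ≤ W₀) (x y : R) (σ : Γ(F, W)) :
    act F ρ e x (act F ρ e y σ) = act F ρ e y (act F ρ e x σ) := by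
  rw [← act_mul, ← act_mul, mul_comm]

theorem act_smul {W : X.Opens} (e : W ≤ W₀) (x : R) (c : Γ(X, W)) (σ : Γ(F, W)) :
    act F ρ e x (c • σ) = c • act F ρ e x σ := by
  rw [act_def, act_def, smul_smul, smul_smul, mul_comm]

theorem res_act {W W' : X.Opens} (e : W ≤ W₀) (e' : W' ≤ W) (x : R) (σ : Γ(F, W)) :
    res F e' (act F ρ e x σ) = act F ρ (e'.trans e) x (res F e' σ) := by
  rw [act_def, act_def, res_smul, resf_resf]

/-- `x` is a nonzerodivisor on `Γ(F, W)` up to `T`. -/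
def PReg (x : R) {W : X.Opens} (e : W ≤ W₀) : Prop :=
  ∀ σ : Γ(F, W), act F ρ e x σ = 0 → ∃ h ∈ T, act F ρ e h σ = 0

/-- `τ` is divisible by `x` up to `T`. -/
def PDiv (x : R) {W : X.Opens} (e : W ≤ W₀) (τ : Γ(F, W)) : Prop :=
  ∃ h ∈ T, ∃ v : Γ(F, W), act F ρ e h τ = act F ρ e x v

variable {F ρ T}

theorem PReg.of_eq {x : R} {W W' : X.Opens} (hWW' : W = W') (e : W ≤ W₀) (e' : W' ≤ W₀)
    (h : PReg F ρ T x e) : PReg F ρ T x e' := by
  subst hWW'
  exact h

theorem PDiv.restrict {x : R} {W W' : X.Opens} {e : W ≤ W₀} (e' : W' ≤ W) {τ : Γ(F, W)}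
    (h : PDiv F ρ T x e τ) : PDiv F ρ T x (e'.trans e) (res F e' τ) := by
  obtain ⟨g, hg, v, hv⟩ := h
  refine ⟨g, hg, res F e' v, ?_⟩
  rw [← res_act F ρ e e', ← res_act F ρ e e', hv]

/-- locally zero sections are zero -/
theorem eq_zero_of_cover {ι : Type*} {W' : X.Opens} (W : ι → X.Opens) (hW : ∀ i, W i ≤ W')
    (hcov : W' ≤ ⨆ i, W i) (σ : Γ(F, W')) (h : ∀ i, res F (hW i) σ = 0) : σ = 0 := by
  refine (modSheaf F).eq_of_locally_eq' W W' (fun i => homOfLE (hW i)) hcov σ 0 (fun i => ?_)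
  have h0 : res F (hW i) (0 : Γ(F, W')) = 0 := res_zero F (hW i)
  exact (h i).trans h0.symm

theorem act_prod_eq_zero {ι : Type*} [Fintype ι] [DecidableEq ι] {W : X.Opens} (e : W ≤ W₀)
    (g : ι → R) (i : ι) (σ : Γ(F, W)) (h : act F ρ e (g i) σ = 0) :
    act F ρ e (∏ j, g j) σ = 0 := by
  rw [← Finset.prod_erase_mul Finset.univ g (Finset.mem_univ i), act_mul, h, act_zero]

/-- `PReg` can be checked on a finite open cover. -/
theorem PReg.of_cover {ι : Type*} [Finite ι] {W' : X.Opens} (e' : W' ≤ W₀) (W : ι → X.Opens)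
    (hW : ∀ i, W i ≤ W') (hcov : W' ≤ ⨆ i, W i) (x : R)
    (h : ∀ i, PReg F ρ T x ((hW i).trans e')) : PReg F ρ T x e' := by
  classical
  haveI := Fintype.ofFinite ι
  intro σ hσ
  have h1 : ∀ i, ∃ g ∈ T, act F ρ ((hW i).trans e') g (res F (hW i) σ) = 0 := fun i =>
    h i _ (by rw [← res_act F ρ e' (hW i), hσ, res_zero])
  choose g hgT hg using h1
  refine ⟨∏ i, g i, prod_mem (fun i _ => hgT i), ?_⟩
  refine eq_zero_of_cover W hW hcov _ (fun i => ?_)
  rw [res_act]
  exact act_prod_eq_zero _ g i _ (hg i)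

/-- a section killed, up to `T`, by each `a i`, where the `D(a i)` cover, is killed by an element of `T` -/
theorem exists_act_eq_zero_of_cover {ι : Type*} [Finite ι] {W' : X.Opens} (e' : W' ≤ W₀) (a : ι → R)
    (hcov : W' ≤ ⨆ i, X.basicOpen (resf e' (ρ (a i)))) (τ : Γ(F, W'))
    (h : ∀ i, ∃ g ∈ T, act F ρ e' g (act F ρ e' (a i) τ) = 0) : ∃ g ∈ T, act F ρ e' g τ = 0 := by
  classical
  haveI := Fintype.ofFinite ι
  choose g hgT hg using h
  refine ⟨∏ i, g i, prod_mem (fun i _ => hgT i), ?_⟩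
  refine eq_zero_of_cover (fun i => X.basicOpen (resf e' (ρ (a i))))
    (fun i => X.basicOpen_le _) hcov _ (fun i => ?_)
  have h1 : act F ρ e' (a i) (act F ρ e' (∏ j, g j) τ) = 0 := by
    rw [act_comm]
    exact act_prod_eq_zero _ g i _ (hg i)
  have h2 := congrArg (res F (X.basicOpen_le (resf e' (ρ (a i))))) h1
  rw [res_zero, act_def, res_smul] at h2
  have hu : IsUnit (resf (X.basicOpen_le (resf e' (ρ (a i)))) (resf e' (ρ (a i)))) :=
    RingedSpace.isUnit_res_basicOpen _ _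
  obtain ⟨u, hu'⟩ := hu
  rw [← hu'] at h2
  have h3 := congrArg (fun z => (↑u⁻¹ : Γ(X, X.basicOpen (resf e' (ρ (a i))))) • z) h2
  simpa [smul_smul] using h3

/-- on `D(a)` the action of `a` is multiplication by a unit -/
theorem act_basicOpen {W' : X.Opens} (e' : W' ≤ W₀) (a : R)
    (σ : Γ(F, X.basicOpen (resf e' (ρ a)))) :
    act F ρ ((X.basicOpen_le (resf e' (ρ a))).trans e') a σ =
      resf (X.basicOpen_le (resf e' (ρ a))) (resf e' (ρ a)) • σ := by
  rw [act_def, resf_resf]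

theorem act_pow {W : X.Opens} (e : W ≤ W₀) (a : R) (n : ℕ) (σ : Γ(F, W)) :
    act F ρ e (a ^ n) σ = resf e (ρ a) ^ n • σ := by
  rw [act_def, map_pow, resf_pow]

/-- **Gluing**: divisibility by `x` up to `T` can be checked on a finite open cover, provided `x` is a
nonzerodivisor up to `T` on the pairwise intersections. -/
theorem PDiv.of_cover {ι : Type*} [Finite ι] {W' : X.Opens} (e' : W' ≤ W₀) (W : ι → X.Opens)
    (hW : ∀ i, W i ≤ W') (hcov : W' ≤ ⨆ i, W i) (x : R)
    (hreg : ∀ i j, PReg F ρ T x (((inf_le_left : W i ⊓ W j ≤ W i).trans (hW i)).trans e'))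
    (τ : Γ(F, W')) (h : ∀ i, PDiv F ρ T x ((hW i).trans e') (res F (hW i) τ)) :
    PDiv F ρ T x e' τ := by
  classical
  haveI := Fintype.ofFinite ι
  choose g hgT v hv using h
  let v' : ∀ i, Γ(F, W i) := fun i =>
    act F ρ ((hW i).trans e') (∏ j ∈ Finset.univ.erase i, g j) (v i)
  have hv' : ∀ i, act F ρ ((hW i).trans e') (∏ j, g j) (res F (hW i) τ) =
      act F ρ ((hW i).trans e') x (v' i) := by
    intro i
    rw [← Finset.prod_erase_mul Finset.univ g (Finset.mem_univ i), act_mul, hv i, act_comm]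
  have hov : ∀ i j, ∃ h ∈ T, act F ρ (((inf_le_left : W i ⊓ W j ≤ W i).trans (hW i)).trans e') h
      (res F inf_le_left (v' i) - res F inf_le_right (v' j)) = 0 := by
    intro i j
    apply hreg i j
    rw [act_sub, sub_eq_zero]
    have h1 : act F ρ (((inf_le_left : W i ⊓ W j ≤ W i).trans (hW i)).trans e') x
        (res F inf_le_left (v' i)) = res F inf_le_left (act F ρ ((hW i).trans e') x (v' i)) :=
      (res_act F ρ ((hW i).trans e') inf_le_left x (v' i)).symm
    have h2 : act F ρ (((inf_le_left : W i ⊓ W j ≤ W i).trans (hW i)).trans e') x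
        (res F inf_le_right (v' j)) = res F inf_le_right (act F ρ ((hW j).trans e') x (v' j)) :=
      (res_act F ρ ((hW j).trans e') inf_le_right x (v' j)).symm
    rw [h1, h2, ← hv' i, ← hv' j, res_act, res_act, res_res, res_res]
  choose hh hhT hhe using hov
  let v'' : ∀ i, Γ(F, W i) := fun i =>
    act F ρ ((hW i).trans e') (∏ p : ι × ι, hh p.1 p.2) (v' i)
  have hcompat : TopCat.Presheaf.IsCompatible (modSheaf F).1 W v'' := by
    intro i j
    change res F inf_le_left (v'' i) = res F inf_le_right (v'' j)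
    rw [← sub_eq_zero]
    have h1 : res F inf_le_left (v'' i) =
        act F ρ (((inf_le_left : W i ⊓ W j ≤ W i).trans (hW i)).trans e') (∏ p : ι × ι, hh p.1 p.2)
          (res F inf_le_left (v' i)) := res_act F ρ ((hW i).trans e') inf_le_left _ (v' i)
    have h2 : res F inf_le_right (v'' j) =
        act F ρ (((inf_le_left : W i ⊓ W j ≤ W i).trans (hW i)).trans e') (∏ p : ι × ι, hh p.1 p.2)
          (res F inf_le_right (v' j)) := res_act F ρ ((hW j).trans e') inf_le_right _ (v' j)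
    rw [h1, h2, ← act_sub]
    exact act_prod_eq_zero _ (fun p : ι × ι => hh p.1 p.2) (i, j) _ (hhe i j)
  obtain ⟨vv, hvv, -⟩ := (modSheaf F).existsUnique_gluing' W W' (fun i => homOfLE (hW i)) hcov v''
    hcompat
  refine ⟨(∏ p : ι × ι, hh p.1 p.2) * ∏ i, g i,
    mul_mem (prod_mem (fun p _ => hhT p.1 p.2)) (prod_mem (fun i _ => hgT i)), vv, ?_⟩
  rw [← sub_eq_zero]
  refine eq_zero_of_cover W hW hcov _ (fun i => ?_)
  have hvi : res F (hW i) vv = v'' i := hvv i
  rw [res_sub, sub_eq_zero, res_act, res_act, hvi, act_mul, hv' i, act_comm]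

/-- `PReg` passes from a quasi-compact quasi-separated open to its basic opens. -/
theorem PReg.basicOpen [F.IsQuasicoherent] {W' : X.Opens} (e' : W' ≤ W₀)
    (hc : IsCompact (W' : Set X)) (hqs : IsQuasiSeparated (W' : Set X)) (x a : R)
    (h : PReg F ρ T x e') :
    PReg F ρ T x ((X.basicOpen_le (resf e' (ρ a))).trans e') := by
  intro σ hσ
  have hle : X.basicOpen (resf e' (ρ a)) ≤ W' := X.basicOpen_le _
  obtain ⟨n, τ, hτ⟩ := exists_extension_of_isCompact_of_isQuasiSeparated F hc hqs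
    (resf e' (ρ a)) σ
  have hτ' : res F hle τ = resf hle (resf e' (ρ a)) ^ n • σ := hτ
  have h1 : res F hle (act F ρ e' x τ) = 0 := by
    rw [res_act, hτ', act_smul, hσ, smul_zero]
  obtain ⟨m, hm⟩ := exists_pow_smul_eq_zero_of_isCompact F hc (resf e' (ρ a))
    (act F ρ e' x τ) h1
  have h2 : act F ρ e' x (act F ρ e' (a ^ m) τ) = 0 := by
    rw [act_comm, act_pow]
    exact hm
  obtain ⟨g, hg, hg'⟩ := h _ h2
  refine ⟨g, hg, ?_⟩
  have h3 := congrArg (res F hle) hg'
  rw [res_zero, res_act, res_act, hτ', act_pow, resf_resf, act_smul, act_smul] at h3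
  have hu : IsUnit (resf hle (resf e' (ρ a))) := RingedSpace.isUnit_res_basicOpen _ _
  rw [resf_resf] at hu
  rwa [(hu.pow m).smul_eq_zero, (hu.pow n).smul_eq_zero] at h3

/-- if `a τ` is divisible by `x` up to `T`, then `τ` is divisible by `x` up to `T` on `D(a)` -/
theorem PDiv.basicOpen_of_act {W' : X.Opens} (e' : W' ≤ W₀) (x a : R) (τ : Γ(F, W'))
    (h : PDiv F ρ T x e' (act F ρ e' a τ)) :
    PDiv F ρ T x ((X.basicOpen_le (resf e' (ρ a))).trans e')
      (res F (X.basicOpen_le (resf e' (ρ a))) τ) := by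
  obtain ⟨g, hg, v, hv⟩ := h
  have hle : X.basicOpen (resf e' (ρ a)) ≤ W' := X.basicOpen_le _
  have hu : IsUnit (resf hle (resf e' (ρ a))) := RingedSpace.isUnit_res_basicOpen _ _
  obtain ⟨u, hu'⟩ := hu
  refine ⟨g, hg, (↑u⁻¹ : Γ(X, X.basicOpen (resf e' (ρ a)))) • res F hle v, ?_⟩
  have h3 := congrArg (res F hle) hv
  rw [res_act, res_act, res_act, act_basicOpen, ← hu', act_smul] at h3
  rw [act_smul, ← h3, smul_smul, Units.inv_mul, one_smul]

end Groth.Agent.Lib.T2H4.PushDepthSh
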