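import Groth.Prelude.Def_MeroDiv
import Groth.Prelude.Def_Pic
import Groth.Agent.Lib.Helper6QCohQcqs
import Groth.Agent.Lib.Helper20WeakAss
import Groth.Agent.Lib.Helper20InvGen
import Groth.Agent.Lib.T2H4PushDepthSh

/-!
# The ideal of denominators of a meromorphic section of an invertible module (helper4)

For an invertible module `L` on a scheme `X` and a meromorphic section `s` of `L`, the ideals of denominators
`Mero.denomIdeal L s U` (`U` affine) form a quasi-coherent ideal sheaf (an `IdealSheafData`), whose support is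
nowhere dense.
-/

set_option autoImplicit false
universe u
open CategoryTheory Limits AlgebraicGeometry TopologicalSpace Opposite

namespace Groth.Agent.Lib.T2H4.DenomIdeal

open Groth.Agent.Lib.Helper6

variable {X : Scheme.{u}} (L : X.Modules)

/-- regular germs act injectively on the stalks of an invertible module -/
theorem eq_zero_of_regStalk_smul (hL : PicF.IsInvertible L) (x : X) (c : X.presheaf.stalk x)
    (hc : c ∈ Mero.regStalk X x) (l : L.presheaf.stalk x) (h : c • l = 0) : l = 0 := by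
  obtain ⟨W, t, hxW, ht⟩ := Groth.Agent.Lib.Helper20.InvGen.exists_local_generator L hL x
  obtain ⟨a, ha⟩ := (ht x hxW).2 l
  have ha' : a • L.presheaf.germ W x hxW t = l := ha
  rw [← ha', smul_smul] at h
  have h0 : c * a = 0 := (ht x hxW).1 (by
    change (c * a) • _ = (0 : X.presheaf.stalk x) • _
    rw [h, zero_smul])
  have hnz := Mero.regStalk_le_nonZeroDivisors x hc
  have ha0 : a = 0 := (mem_nonZeroDivisors_iff_right.1 hnz) a (by rw [mul_comm]; exact h0)
  rw [← ha', ha0, zero_smul]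

/-- the basic pointwise criterion -/
theorem smul_mk_eq_mkLinearMap_iff (hL : PicF.IsInvertible L) (x : X) (c : X.presheaf.stalk x)
    (m n : L.presheaf.stalk x) (b : Mero.regStalk X x) :
    c • (LocalizedModule.mk m b : Mero.MStalk L x) =
        LocalizedModule.mkLinearMap (Mero.regStalk X x) _ n ↔
      c • m = (b : X.presheaf.stalk x) • n := by
  rw [LocalizedModule.smul'_mk, LocalizedModule.mkLinearMap_apply, LocalizedModule.mk_eq]
  constructor
  · rintro ⟨u, hu⟩
    have h1 : (u : X.presheaf.stalk x) • (c • m - (b : X.presheaf.stalk x) • n) = 0 := by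
      rw [smul_sub, sub_eq_zero]
      simpa [Submonoid.smul_def] using hu
    exact sub_eq_zero.1 (eq_zero_of_regStalk_smul L hL x u u.2 _ h1)
  · intro h
    refine ⟨1, ?_⟩
    rw [one_smul, one_smul, one_smul, h]
    rfl

variable (s : Γ(Mero.merMod L, ⊤))

/-- `g • s = n` at the point `y`. -/
def Crit {U : X.Opens} (g : Γ(X, U)) (n : Γ(L, U)) (y : X) (hy : y ∈ U) : Prop :=
  X.presheaf.germ U y hy g • s.1 ⟨y, Opens.mem_top y⟩ =
    LocalizedModule.mkLinearMap (Mero.regStalk X y) _ (L.presheaf.germ U y hy n)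

theorem mem_denomIdeal_iff {U : X.Opens} (g : Γ(X, U)) :
    g ∈ Mero.denomIdeal L s U ↔ ∃ n : Γ(L, U), ∀ (y : X) (hy : y ∈ U), Crit L s g n y hy := by
  constructor
  · rintro ⟨n, hn⟩
    exact ⟨n, fun y hy => hn ⟨y, hy⟩⟩
  · rintro ⟨n, hn⟩
    exact ⟨n, fun y => hn y.1 y.2⟩

variable {L s}

theorem Crit.smul {U : X.Opens} {g : Γ(X, U)} {n : Γ(L, U)} {y : X} {hy : y ∈ U}
    (h : Crit L s g n y hy) (c : Γ(X, U)) : Crit L s (c * g) (c • n) y hy := by
  unfold Crit at h ⊢
  rw [map_mul, mul_smul, h, Mero.germ_smul, map_smul]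

theorem crit_res_iff {U V : X.Opens} (hVU : V ≤ U) (g : Γ(X, U)) (n : Γ(L, U)) (y : X) (hy : y ∈ V) :
    Crit L s (resf hVU g) (res L hVU n) y hy ↔ Crit L s g n y (hVU hy) := by
  unfold Crit
  have h1 : X.presheaf.germ V y hy (resf hVU g) = X.presheaf.germ U y (hVU hy) g :=
    TopCat.Presheaf.germ_res_apply X.presheaf (homOfLE hVU) y hy g
  have h2 : L.presheaf.germ V y hy (res L hVU n) = L.presheaf.germ U y (hVU hy) n :=
    TopCat.Presheaf.germ_res_apply L.presheaf (homOfLE hVU) y hy n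
  rw [h1, h2]

/-- local description of `s` as a fraction `m / b` over `W`. -/
def IsFrac (W : X.Opens) (m : Γ(L, W)) (b : Γ(X, W)) (hb : b ∈ Mero.regSub X W) : Prop :=
  ∀ (z : X) (hz : z ∈ W), s.1 ⟨z, Opens.mem_top z⟩ =
    LocalizedModule.mk (L.presheaf.germ W z hz m) (Mero.regGerm (⟨z, hz⟩ : W) ⟨b, hb⟩)

variable (L s) in
theorem exists_isFrac (x : X) : ∃ (W : X.Opens) (_ : x ∈ W) (m : Γ(L, W)) (b : Γ(X, W))
    (hb : b ∈ Mero.regSub X W), IsFrac (L := L) (s := s) W m b hb := by
  obtain ⟨V, hxV, i, m, b, h⟩ := s.2 ⟨x, Opens.mem_top x⟩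
  exact ⟨V, hxV, m, b.1, b.2, fun z hz => h ⟨z, hz⟩⟩

theorem IsFrac.res {W W' : X.Opens} (hWW : W' ≤ W) {m : Γ(L, W)} {b : Γ(X, W)}
    {hb : b ∈ Mero.regSub X W} (h : IsFrac (L := L) (s := s) W m b hb) :
    IsFrac (L := L) (s := s) W' (res L hWW m) (resf hWW b) (Mero.regSub_res (homOfLE hWW) hb) := by
  intro z hz
  rw [h z (hWW hz)]
  exact Mero.mk_congr (TopCat.Presheaf.germ_res_apply L.presheaf (homOfLE hWW) z hz m).symm
    (TopCat.Presheaf.germ_res_apply X.presheaf (homOfLE hWW) z hz b).symm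

theorem crit_iff_germ (hL : PicF.IsInvertible L) {W : X.Opens} {m : Γ(L, W)} {b : Γ(X, W)}
    {hb : b ∈ Mero.regSub X W} (h : IsFrac (L := L) (s := s) W m b hb)
    (g : Γ(X, W)) (n : Γ(L, W)) (z : X) (hz : z ∈ W) :
    Crit L s g n z hz ↔ L.presheaf.germ W z hz (g • m - b • n) = 0 := by
  unfold Crit
  rw [h z hz, smul_mk_eq_mkLinearMap_iff L hL, map_sub, Mero.germ_smul, Mero.germ_smul, sub_eq_zero]

/-- a section of a module whose germs all vanish is zero -/
theorem eq_zero_of_germ_eq_zero {W : X.Opens} (w : Γ(L, W))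
    (h : ∀ (z : X) (hz : z ∈ W), L.presheaf.germ W z hz w = 0) : w = 0 := by
  refine TopCat.Presheaf.section_ext (modSheaf L) W w 0 (fun z hz => ?_)
  have h0 : L.presheaf.germ W z hz (0 : Γ(L, W)) = 0 := map_zero _
  exact (h z hz).trans h0.symm

/-- the local step of `exists_pow_crit` -/
theorem exists_pow_crit_local (hL : PicF.IsInvertible L) {W : X.Opens} (hW : IsAffineOpen W)
    {m : Γ(L, W)} {b : Γ(X, W)} {hb : b ∈ Mero.regSub X W} (hfr : IsFrac (L := L) (s := s) W m b hb)
    (f g : Γ(X, W)) (n : Γ(L, W))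
    (h : ∀ (y : X) (hy : y ∈ X.basicOpen f), Crit L s g n y (X.basicOpen_le f hy)) :
    ∃ N : ℕ, ∀ N' : ℕ, N ≤ N' → ∀ (y : X) (hy : y ∈ W), Crit L s (f ^ N' * g) (f ^ N' • n) y hy := by
  haveI : L.IsQuasicoherent := Groth.Agent.Lib.Helper20.WeakAss.isQuasicoherent_of_isInvertible L hL
  have H : res L (X.basicOpen_le f) (g • m - b • n) = 0 := by
    refine eq_zero_of_germ_eq_zero _ (fun z hz => ?_)
    have h1 : L.presheaf.germ (X.basicOpen f) z hz (res L (X.basicOpen_le f) (g • m - b • n)) =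
        L.presheaf.germ W z (X.basicOpen_le f hz) (g • m - b • n) :=
      TopCat.Presheaf.germ_res_apply L.presheaf (homOfLE (X.basicOpen_le f)) z hz _
    rw [h1]
    exact (crit_iff_germ hL hfr g n z _).1 (h z hz)
  obtain ⟨N, hN⟩ := exists_pow_smul_eq_zero_of_isCompact L hW.isCompact f _ H
  refine ⟨N, fun N' hN' y hy => ?_⟩
  rw [crit_iff_germ hL hfr]
  have h2 : (f ^ N' * g) • m - b • f ^ N' • n = f ^ (N' - N) • f ^ N • (g • m - b • n) := by
    have e : f ^ (N' - N) • f ^ N • (g • m - b • n) = f ^ N' • (g • m - b • n) := by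
      rw [smul_smul, ← pow_add, Nat.sub_add_cancel hN']
    rw [e, smul_sub, smul_smul, smul_smul, smul_smul, mul_comm b]
  rw [h2, hN, smul_zero, map_zero]

/-- **Key vanishing statement**: if `g • s = n` on `D(f) ⊆ U` (`U` affine), then `f ^ N g • s = f ^ N n` on `U`. -/
theorem exists_pow_crit (hL : PicF.IsInvertible L) {U : X.Opens} (hU : IsAffineOpen U)
    (f g : Γ(X, U)) (n : Γ(L, U))
    (h : ∀ (y : X) (hy : y ∈ X.basicOpen f), Crit L s g n y (X.basicOpen_le f hy)) :
    ∃ N : ℕ, ∀ (y : X) (hy : y ∈ U), Crit L s (f ^ N * g) (f ^ N • n) y hy := by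
  have key : ∃ N : ℕ, ∀ N' : ℕ, N ≤ N' → ∀ y ∈ (U : Set X), ∀ (hy : y ∈ U),
      Crit L s (f ^ N' * g) (f ^ N' • n) y hy := by
    refine hU.isCompact.induction_on (p := fun S => ∃ N : ℕ, ∀ N' : ℕ, N ≤ N' → ∀ y ∈ S, ∀ (hy : y ∈ U),
      Crit L s (f ^ N' * g) (f ^ N' • n) y hy) ⟨0, fun _ _ y hy => absurd hy (Set.notMem_empty y)⟩ ?_ ?_ ?_
    · rintro S T hST ⟨N, hN⟩
      exact ⟨N, fun N' hN' y hy => hN N' hN' y (hST hy)⟩
    · rintro S T ⟨N₁, h₁⟩ ⟨N₂, h₂⟩
      refine ⟨max N₁ N₂, fun N' hN' y hy => ?_⟩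
      rcases hy with hy | hy
      · exact h₁ N' ((le_max_left _ _).trans hN') y hy
      · exact h₂ N' ((le_max_right _ _).trans hN') y hy
    · intro y hy
      obtain ⟨V, hyV, m, b, hb, hfr⟩ := exists_isFrac L s y
      obtain ⟨_, ⟨W, hW, rfl⟩, hyW, hWle⟩ :=
        X.isBasis_affineOpens.exists_subset_of_mem_open (show y ∈ ((V ⊓ U : X.Opens) : Set X) from ⟨hyV, hy⟩)
          (V ⊓ U).isOpen
      have hWV : W ≤ V := fun z hz => (hWle hz).1
      have hWU : W ≤ U := fun z hz => (hWle hz).2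
      obtain ⟨N, hN⟩ := exists_pow_crit_local hL hW (hfr.res hWV) (resf hWU f) (resf hWU g) (res L hWU n)
        (fun z hz => by
          have hzW : z ∈ W := X.basicOpen_le _ hz
          have hzf : z ∈ X.basicOpen f := by
            have : X.basicOpen (resf hWU f) = W ⊓ X.basicOpen f := Scheme.basicOpen_res _ _ _
            rw [this] at hz
            exact hz.2
          exact (crit_res_iff hWU g n z hzW).2 (h z hzf))
      refine ⟨(W : Set X), mem_nhdsWithin_of_mem_nhds (W.isOpen.mem_nhds hyW), N, fun N' hN' z hzW hzU => ?_⟩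
      have h3 := hN N' hN' z hzW
      have e1 : resf hWU f ^ N' * resf hWU g = resf hWU (f ^ N' * g) := by
        rw [Groth.Agent.Lib.T2H4.PushDepthSh.resf_mul', resf_pow]
      have e2 : resf hWU f ^ N' • res L hWU n = res L hWU (f ^ N' • n) := by
        rw [res_smul, resf_pow]
      rw [e1, e2] at h3
      exact (crit_res_iff hWU _ _ z hzW).1 h3
  obtain ⟨N, hN⟩ := key
  exact ⟨N, fun y hy => hN N le_rfl y hy hy⟩

/-- the ideals of denominators are compatible with passage to basic opens -/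
theorem map_denomIdeal_basicOpen (hL : PicF.IsInvertible L) (U : X.affineOpens) (f : Γ(X, U)) :
    (Mero.denomIdeal L s U.1).map (X.presheaf.map (homOfLE <| X.basicOpen_le f).op).hom =
      Mero.denomIdeal L s (X.affineBasicOpen f).1 := by
  haveI : L.IsQuasicoherent := Groth.Agent.Lib.Helper20.WeakAss.isQuasicoherent_of_isInvertible L hL
  apply le_antisymm
  · rw [Ideal.map_le_iff_le_comap]
    intro g hg
    obtain ⟨n, hn⟩ := (mem_denomIdeal_iff L s g).1 hg
    rw [Ideal.mem_comap]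
    exact (mem_denomIdeal_iff L s _).2 ⟨res L (X.basicOpen_le f) n, fun y hy =>
      (crit_res_iff (X.basicOpen_le f) g n y hy).2 (hn y _)⟩
  · intro g hg
    change g ∈ Mero.denomIdeal L s (X.basicOpen f) at hg
    obtain ⟨n, hn⟩ := (mem_denomIdeal_iff L s g).1 hg
    have hloc : IsLocalization.Away f Γ(X, X.basicOpen f) := U.2.isLocalization_basicOpen f
    obtain ⟨k, g', hg'⟩ := IsLocalization.Away.surj f g
    obtain ⟨k', n', hn'⟩ := exists_extension_of_isCompact_of_isQuasiSeparated L U.2.isCompact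
      U.2.isQuasiSeparated f n
    set fr := resf (X.basicOpen_le f) f with hfr
    have hg'' : resf (X.basicOpen_le f) g' = fr ^ k * g := by
      rw [mul_comm]; exact hg'.symm
    have hc : ∀ (y : X) (hy : y ∈ X.basicOpen f),
        Crit L s (f ^ k' * g') (f ^ k • n') y (X.basicOpen_le f hy) := by
      intro y hy
      rw [← crit_res_iff (X.basicOpen_le f)]
      have e1 : resf (X.basicOpen_le f) (f ^ k' * g') = (fr ^ k' * fr ^ k) * g := by
        rw [Groth.Agent.Lib.T2H4.PushDepthSh.resf_mul', resf_pow, hg'', mul_assoc]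
      have e2 : res L (X.basicOpen_le f) (f ^ k • n') = (fr ^ k' * fr ^ k) • n := by
        rw [res_smul, resf_pow, hn', smul_smul, mul_comm]
      rw [e1, e2]
      exact (hn y hy).smul _
    obtain ⟨N, hN⟩ := exists_pow_crit hL U.2 f (f ^ k' * g') (f ^ k • n') hc
    have hmem : f ^ N * (f ^ k' * g') ∈ Mero.denomIdeal L s U.1 := (mem_denomIdeal_iff L s _).2 ⟨_, hN⟩
    have hmap := Ideal.mem_map_of_mem (X.presheaf.map (homOfLE <| X.basicOpen_le f).op).hom hmem
    have e3 : (X.presheaf.map (homOfLE <| X.basicOpen_le f).op).hom (f ^ N * (f ^ k' * g')) =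
        fr ^ (N + k' + k) * g := by
      change resf (X.basicOpen_le f) (f ^ N * (f ^ k' * g')) = _
      rw [Groth.Agent.Lib.T2H4.PushDepthSh.resf_mul', Groth.Agent.Lib.T2H4.PushDepthSh.resf_mul',
        resf_pow, resf_pow, hg'', pow_add, pow_add]
      ring
    rw [e3] at hmap
    have hu : IsUnit (fr ^ (N + k' + k)) := (RingedSpace.isUnit_res_basicOpen _ _).pow _
    obtain ⟨u, hu'⟩ := hu
    rw [← hu'] at hmap
    have := Ideal.mul_mem_left _ (↑u⁻¹ : Γ(X, X.basicOpen f)) hmap
    rwa [← mul_assoc, Units.inv_mul, one_mul] at this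

/-- the closed subset cut out by the ideals of denominators is nowhere dense -/
theorem interior_support_eq_empty (hL : PicF.IsInvertible L) (I : X.IdealSheafData)
    (hI : ∀ U : X.affineOpens, I.ideal U = Mero.denomIdeal L s U.1) :
    interior (I.support : Set X) = ∅ := by
  rw [Set.eq_empty_iff_forall_notMem]
  intro x hx
  obtain ⟨V, hxV, m, b, hb, hfr⟩ := exists_isFrac L s x
  obtain ⟨_, ⟨W, hW, rfl⟩, hxW, hWle⟩ := X.isBasis_affineOpens.exists_subset_of_mem_open
    (show x ∈ (V : Set X) ∩ interior (I.support : Set X) from ⟨hxV, hx⟩)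
    (V.isOpen.inter isOpen_interior)
  have hWV : W ≤ V := fun z hz => (hWle hz).1
  have hWS : (W : Set X) ⊆ I.support := fun z hz => interior_subset (hWle hz).2
  have hb' : resf hWV b ∈ Mero.regSub X W := Mero.regSub_res (homOfLE hWV) hb
  have hfr' := hfr.res hWV
  have hmem : resf hWV b ∈ I.ideal ⟨W, hW⟩ := by
    rw [hI]
    refine (mem_denomIdeal_iff L s _).2 ⟨res L hWV m, fun z hz => ?_⟩
    rw [crit_iff_germ hL hfr', sub_self, map_zero]
  have hbot : X.basicOpen (resf hWV b) = ⊥ := by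
    rw [eq_bot_iff]
    intro z hz
    have hzW : z ∈ W := X.basicOpen_le _ hz
    have h1 : z ∈ (I.support : Set X) ∩ W := ⟨hWS hzW, hzW⟩
    rw [I.coe_support_inter ⟨W, hW⟩] at h1
    exact ((X.mem_zeroLocus_iff _ z).1 h1.1 _ hmem hz).elim
  obtain ⟨k, hk⟩ := (Scheme.isNilpotent_iff_basicOpen_eq_bot_of_isCompact hW.isCompact _).2 hbot
  have h1 := hb' ⟨x, hxW⟩
  have h2 : (X.presheaf.germ W x hxW (resf hWV b)) ^ k = 0 := by rw [← map_pow, hk, map_zero]
  have h3 : (0 : X.presheaf.stalk x) ∈ nonZeroDivisors (X.presheaf.stalk x) := h2 ▸ pow_mem h1 k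
  exact zero_notMem_nonZeroDivisors h3

variable (L s) in
/-- **Main theorem**: the ideals of denominators of a meromorphic section of an invertible module form a
quasi-coherent ideal sheaf with nowhere dense support. -/
theorem main (hL : PicF.IsInvertible L) :
    ∃ I : X.IdealSheafData, (∀ U : X.affineOpens, I.ideal U = Mero.denomIdeal L s U.1) ∧
      interior (I.support : Set X) = ∅ := by
  let I : X.IdealSheafData :=
    { ideal := fun U => Mero.denomIdeal L s U.1
      map_ideal_basicOpen := fun U f => map_denomIdeal_basicOpen hL U f }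
  exact ⟨I, fun U => rfl, interior_support_eq_empty hL I (fun U => rfl)⟩

end Groth.Agent.Lib.T2H4.DenomIdeal
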