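import Groth.Agent.Lib.T2H4LocalDual2
import Groth.Agent.Lib.Helper20IsoDepth

/-!
# Depth via `Ext` into a normalized dualizing complex (helper4)
-/

set_option autoImplicit false
set_option linter.style.haveILetI false
set_option backward.isDefEq.respectTransparency.types false
universe u
open CategoryTheory CategoryTheory.Limits
attribute [local instance] HasDerivedCategory.standard

namespace Groth.Agent.Lib.T2H4.Depth

open DerivedCategory Pretriangulated Groth.Agent.Lib.T2H4.DualField Groth.Agent.Lib.T2H4.Bidual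
  Groth.Agent.Lib.T2H4.LocalDual Groth.Agent.Lib.Helper28
open scoped Pointwise

section LES

variable {A : Type u} [CommRing A]
variable {N₁ N₂ N₃ : Type u} [AddCommGroup N₁] [Module A N₁] [AddCommGroup N₂]
    [Module A N₂] [AddCommGroup N₃] [Module A N₃] (f : N₁ →ₗ[A] N₂) (g : N₂ →ₗ[A] N₃)
    (hf : Function.Injective f) (hg : Function.Surjective g) (hfg : Function.Exact f g)
    (K : Dual.D A)

include hf hg hfg in
/-- `Hom(N₁, K[i]) = 0` and `Hom(N₂, K[i+1]) = 0` imply `Hom(N₃, K[i+1]) = 0`. -/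
lemma subsingleton_hom_right (i : ℤ) (h₁ : Subsingleton (Dual.inD A N₁ ⟶ K⟦i⟧))
    (h₂ : Subsingleton (Dual.inD A N₂ ⟶ K⟦i + 1⟧)) :
    Subsingleton (Dual.inD A N₃ ⟶ K⟦i + 1⟧) := by
  have hT := (scOf_shortExact f g hf hg hfg).singleTriangle_distinguished
  have h₁' : Subsingleton ((Dual.inD A N₁)⟦(1 : ℤ)⟧ ⟶ K⟦i + 1⟧) := by
    apply subsingleton_hom_shift
    have e : i + 1 - 1 = i := by ring
    rw [e]
    exact h₁
  have key : ∀ ψ : Dual.inD A N₃ ⟶ K⟦i + 1⟧, ψ = 0 := by
    intro ψ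
    obtain ⟨χ, hχ⟩ := Triangle.yoneda_exact₃ _ hT ψ (h₂.elim _ _)
    have hχ0 : χ = 0 := h₁'.elim _ _
    rw [hχ, hχ0]
    exact comp_zero
  exact ⟨fun a b => (key a).trans (key b).symm⟩

end LES

section Main

variable {A : Type u} [CommRing A] [IsLocalRing A] [IsNoetherianRing A]
  (ω : Dual.D A) (hω : Dual.IsDualizing A ω) (hn : Dual.IsNormalized A ω)

include hω hn in
lemma nontrivial_hom_residueField :
    Nontrivial (Dual.inD A (A ⧸ IsLocalRing.maximalIdeal A) ⟶ ω⟦(0 : ℤ)⟧) := by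
  obtain ⟨n, hvan, ⟨e⟩⟩ := ext_residueField_single_degree ω hω (IsLocalRing.maximalIdeal A)
  by_cases h0 : n = 0
  · subst h0
    haveI : Nontrivial (A ⧸ IsLocalRing.maximalIdeal A) :=
      Ideal.Quotient.nontrivial_iff.2 (IsLocalRing.maximalIdeal.isMaximal A).ne_top
    exact e.toEquiv.nontrivial
  · exfalso
    haveI : Nontrivial (A ⧸ IsLocalRing.maximalIdeal A) :=
      Ideal.Quotient.nontrivial_iff.2 (IsLocalRing.maximalIdeal.isMaximal A).ne_top
    have h1 : Subsingleton (Dual.inD A (A ⧸ IsLocalRing.maximalIdeal A) ⟶ ω⟦n⟧) := hn n h0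
    have h2 : Subsingleton (A ⧸ IsLocalRing.maximalIdeal A) := e.symm.toEquiv.subsingleton
    exact not_subsingleton _ h2

include hω hn in
theorem depth_aux : ∀ (n : ℕ) (M : Type u) [AddCommGroup M] [Module A M] [Module.Finite A M]
    [Nontrivial M], LocCoh.depth A M = n →
      (∀ i : ℤ, -(n : ℤ) < i → Subsingleton (Dual.inD A M ⟶ ω⟦i⟧)) ∧
        Nontrivial (Dual.inD A M ⟶ ω⟦(-(n : ℤ))⟧)
  | 0 => by
    intro M _ _ _ _ hd
    refine ⟨fun i hi => subsingleton_hom_pos ω hω hn M i (by simpa using hi), ?_⟩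
    have hass : IsLocalRing.maximalIdeal A ∈ associatedPrimes A M :=
      depth_eq_zero_iff.1 (by simpa using hd)
    obtain ⟨-, f, hf⟩ := (isAssociatedPrime_iff_exists_injective_linearMap _ _).1 hass
    let g := (LinearMap.range f).mkQ
    have hg : Function.Surjective g := Submodule.mkQ_surjective _
    have hfg : Function.Exact f g := LinearMap.exact_map_mkQ_range f
    haveI := nontrivial_hom_residueField ω hω hn
    obtain ⟨φ, hφ⟩ := exists_ne (0 : Dual.inD A (A ⧸ IsLocalRing.maximalIdeal A) ⟶ ω⟦(0 : ℤ)⟧)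
    obtain ⟨ψ, hψ⟩ := exists_extension f g hf hg hfg ω 0
      (subsingleton_hom_pos ω hω hn _ (0 + 1) (by lia)) φ
    have hψ0 : ψ ≠ 0 := by
      rintro rfl
      exact hφ (by rw [hψ, comp_zero])
    have e : (-((0 : ℕ) : ℤ)) = 0 := by simp
    rw [e]
    exact ⟨⟨ψ, 0, hψ0⟩⟩
  | n + 1 => by
    intro M _ _ _ _ hd
    have hIM : IsLocalRing.maximalIdeal A • (⊤ : Submodule A M) ≠ ⊤ := maximalIdeal_smul_top_ne_top
    obtain ⟨a, ha, hreg⟩ := Groth.Agent.Lib.Helper20.IsoDepth.exists_regular (O := A) (M' := M)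
      (by rw [hd]; exact_mod_cast Nat.le_add_left 1 n)
    have hIM' := smul_top_quotSMulTop_ne_top ha hIM
    haveI : Nontrivial (QuotSMulTop a M) := nontrivial_of_smul_top_ne_top hIM'
    haveI : Module.Finite A (QuotSMulTop a M) :=
      inferInstanceAs (Module.Finite A (M ⧸ _))
    have hd' : LocCoh.depth A (QuotSMulTop a M) = n := by
      have h1 := idealDepth_quotSMulTop_add_one (IsLocalRing.maximalIdeal A) M hIM a ha hreg
      have h2 : LocCoh.depth A (QuotSMulTop a M) + 1 = (n : ℕ∞) + 1 := by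
        unfold LocCoh.depth
        rw [h1]
        exact_mod_cast hd
      exact (ENat.add_left_injective_of_ne_top ENat.one_ne_top) h2
    obtain ⟨IH1, IH2⟩ := depth_aux n (QuotSMulTop a M) hd'
    let f : M →ₗ[A] M := LinearMap.lsmul A M a
    let g : M →ₗ[A] QuotSMulTop a M := (a • (⊤ : Submodule A M)).mkQ
    have hf : Function.Injective f := hreg
    have hg : Function.Surjective g := Submodule.mkQ_surjective _
    have hfg : Function.Exact f g := LinearMap.exact_lsmul_mkQ_smul_top M a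
    have hf2 : ModuleCat.ofHom f = a • 𝟙 (ModuleCat.of A M) := rfl
    have hvan : ∀ i : ℤ, -((n + 1 : ℕ) : ℤ) < i → Subsingleton (Dual.inD A M ⟶ ω⟦i⟧) := by
      intro i hi
      haveI := finite_hom_inD ω hω M i
      apply subsingleton_of_smul_surjective _ a ha
      intro φ
      obtain ⟨ψ, hψ⟩ := exists_extension f g hf hg hfg ω i
        (IH1 (i + 1) (by push_cast at hi; lia)) φ
      refine ⟨ψ, ?_⟩
      rw [hψ, hf2, singleFunctor_map_smul, CategoryTheory.Functor.map_id, Linear.smul_comp,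
        Category.id_comp]
    refine ⟨hvan, ?_⟩
    rw [← not_subsingleton_iff_nontrivial]
    intro hs
    have h2 : Subsingleton (Dual.inD A M ⟶ ω⟦(-((n + 1 : ℕ) : ℤ)) + 1⟧) :=
      hvan _ (by lia)
    have h3 := subsingleton_hom_right f g hf hg hfg ω (-((n + 1 : ℕ) : ℤ)) hs h2
    have e : (-((n + 1 : ℕ) : ℤ)) + 1 = -(n : ℤ) := by push_cast; ring
    rw [e] at h3
    exact not_subsingleton _ h3

include hω hn in
/-- **S0367**. -/
theorem depth_eq_iff (M : Type u) [AddCommGroup M] [Module A M] [Module.Finite A M]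
    [Nontrivial M] (n : ℕ) :
    LocCoh.depth A M = n ↔
      ((∀ δ : ℕ, δ < n → Subsingleton (Dual.inD A M ⟶ ω⟦(-(δ : ℤ))⟧)) ∧
        Nontrivial (Dual.inD A M ⟶ ω⟦(-(n : ℤ))⟧)) := by
  have hne : LocCoh.depth A M ≠ ⊤ := idealDepth_ne_top maximalIdeal_smul_top_ne_top
  obtain ⟨d, hd⟩ := ENat.ne_top_iff_exists.1 hne
  obtain ⟨hP1, hP2⟩ := depth_aux ω hω hn d M hd.symm
  constructor
  · intro h
    have hdn : d = n := by exact_mod_cast hd.trans h
    subst hdn
    exact ⟨fun δ hδ => hP1 _ (by lia), hP2⟩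
  · rintro ⟨h1, h2⟩
    have hdn : d = n := by
      by_contra hne'
      rcases lt_or_gt_of_ne hne' with hlt | hgt
      · exact not_subsingleton _ (h1 d hlt)
      · haveI := h2
        exact not_subsingleton _ (hP1 (-(n : ℤ)) (by lia))
    rw [← hd, hdn]

end Main

end Groth.Agent.Lib.T2H4.Depth
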