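import Groth.Agent.Lib.T2H4Depth
import Mathlib.RingTheory.KrullDimension.Regular

/-!
# Vanishing of `Ext^i(M, ω)` below `-dim Supp M`, and the Cohen–Macaulay criterion (helper4)
-/

set_option autoImplicit false
set_option linter.style.haveILetI false
set_option backward.isDefEq.respectTransparency.types false
universe u
open CategoryTheory CategoryTheory.Limits
attribute [local instance] HasDerivedCategory.standard

namespace Groth.Agent.Lib.T2H4.Depth

open DerivedCategory Pretriangulated Groth.Agent.Lib.T2H4.DualField Groth.Agent.Lib.T2H4.Bidual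
  Groth.Agent.Lib.T2H4.LocalDual Groth.Agent.Lib.Helper28
open scoped Pointwise

lemma lt_of_add_one_lt (a : WithBot ℕ∞) (d : ℕ) (h : a + 1 < ((d + 1 : ℕ) : WithBot ℕ∞)) :
    a < (d : WithBot ℕ∞) := by
  induction a using WithBot.recBotCoe with
  | bot => exact WithBot.bot_lt_coe _
  | coe e =>
    induction e using ENat.recTopCoe with
    | top =>
      exfalso
      have : ((⊤ : ℕ∞) : WithBot ℕ∞) + 1 = ((⊤ : ℕ∞) : WithBot ℕ∞) := by
        rw [← WithBot.coe_one, ← WithBot.coe_add]; simp
      rw [this] at h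
      have h2 : ((d + 1 : ℕ) : WithBot ℕ∞) = (((d + 1 : ℕ) : ℕ∞) : WithBot ℕ∞) := rfl
      rw [h2, WithBot.coe_lt_coe] at h
      exact not_top_lt h
    | coe m =>
      have h1 : ((m : ℕ∞) : WithBot ℕ∞) + 1 = (((m + 1 : ℕ) : ℕ∞) : WithBot ℕ∞) := by
        push_cast; rfl
      have h2 : ((d + 1 : ℕ) : WithBot ℕ∞) = (((d + 1 : ℕ) : ℕ∞) : WithBot ℕ∞) := rfl
      have h3 : ((d : ℕ) : WithBot ℕ∞) = (((d : ℕ) : ℕ∞) : WithBot ℕ∞) := rfl
      rw [h1, h2, WithBot.coe_lt_coe, Nat.cast_lt] at h
      rw [h3, WithBot.coe_lt_coe, Nat.cast_lt]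
      omega

section Step

variable {A : Type u} [CommRing A] [IsLocalRing A] [IsNoetherianRing A]
  (ω : Dual.D A) (hω : Dual.IsDualizing A ω)

include hω in
/-- the regular element step. -/
lemma subsingleton_hom_of_regular (M : Type u) [AddCommGroup M] [Module A M] [Module.Finite A M]
    (x : A) (hx : x ∈ IsLocalRing.maximalIdeal A) (hreg : IsSMulRegular M x) (i : ℤ)
    (h : Subsingleton (Dual.inD A (QuotSMulTop x M) ⟶ ω⟦i + 1⟧)) :
    Subsingleton (Dual.inD A M ⟶ ω⟦i⟧) := by
  let f : M →ₗ[A] M := LinearMap.lsmul A M x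
  let g : M →ₗ[A] QuotSMulTop x M := (x • (⊤ : Submodule A M)).mkQ
  have hf : Function.Injective f := hreg
  have hg : Function.Surjective g := Submodule.mkQ_surjective _
  have hfg : Function.Exact f g := LinearMap.exact_lsmul_mkQ_smul_top M x
  have hf2 : ModuleCat.ofHom f = x • 𝟙 (ModuleCat.of A M) := rfl
  haveI := finite_hom_inD ω hω M i
  apply subsingleton_of_smul_surjective _ x hx
  intro φ
  obtain ⟨ψ, hψ⟩ := exists_extension f g hf hg hfg ω i h φ
  refine ⟨ψ, ?_⟩
  rw [hψ, hf2, singleFunctor_map_smul, CategoryTheory.Functor.map_id, Linear.smul_comp,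
    Category.id_comp]

omit [IsLocalRing A] [IsNoetherianRing A] in
lemma isSMulRegular_quot_prime (p : Ideal A) [p.IsPrime] (x : A) (hxp : x ∉ p) :
    IsSMulRegular (A ⧸ p) x := by
  rw [isSMulRegular_iff_right_eq_zero_of_smul]
  intro y hy
  obtain ⟨y, rfl⟩ := Ideal.Quotient.mk_surjective y
  have h1 : Ideal.Quotient.mk p (x * y) = 0 := hy
  rw [Ideal.Quotient.eq_zero_iff_mem] at h1 ⊢
  exact (Ideal.IsPrime.mem_or_mem inferInstance h1).resolve_left hxp

include hω in
/-- `Ext^i(M, ω) = 0` for `i < -dim Supp M`. -/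
theorem subsingleton_hom_below (hn : Dual.IsNormalized A ω) :
    ∀ (d : ℕ) (M : Type u) [AddCommGroup M] [Module A M] [Module.Finite A M],
      Module.supportDim A M < (d : WithBot ℕ∞) → ∀ i : ℤ, i ≤ -(d : ℤ) →
        Subsingleton (Dual.inD A M ⟶ ω⟦i⟧)
  | 0 => by
    intro M _ _ _ hdim i _
    have h0 : Module.supportDim A M = ⊥ := by
      by_contra hne
      obtain ⟨e, he⟩ := WithBot.ne_bot_iff_exists.1 hne
      rw [← he] at hdim
      have h3 : ((0 : ℕ) : WithBot ℕ∞) = (((0 : ℕ) : ℕ∞) : WithBot ℕ∞) := rfl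
      rw [h3, WithBot.coe_lt_coe] at hdim
      simp at hdim
    haveI : Subsingleton M := (Module.supportDim_eq_bot_iff_subsingleton A M).1 h0
    exact subsingleton_hom_inD_of_subsingleton M _
  | d + 1 => by
    intro M _ _ hM
    induction hM using IsNoetherianRing.induction_on_isQuotientEquivQuotientPrime A with
    | subsingleton N =>
      intro _ i _
      exact subsingleton_hom_inD_of_subsingleton N _
    | quotient N p e =>
      intro hdim i hi
      apply subsingleton_hom_inD_of_equiv e
      haveI := p.2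
      by_cases hp : p.asIdeal = IsLocalRing.maximalIdeal A
      · exact subsingleton_hom_inD_of_equiv (Submodule.quotEquivOfEq _ _ hp) _
          (hn i (by push_cast at hi; lia))
      · obtain ⟨x, hx, hxp⟩ : ∃ x, x ∈ IsLocalRing.maximalIdeal A ∧ x ∉ p.asIdeal := by
          by_contra hcon
          push Not at hcon
          exact hp (le_antisymm (IsLocalRing.le_maximalIdeal p.2.ne_top) hcon)
        have hreg : IsSMulRegular (A ⧸ p.asIdeal) x := isSMulRegular_quot_prime p.asIdeal x hxp
        apply subsingleton_hom_of_regular ω hω (A ⧸ p.asIdeal) x hx hreg i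
        haveI : Module.Finite A (QuotSMulTop x (A ⧸ p.asIdeal)) :=
          inferInstanceAs (Module.Finite A ((A ⧸ p.asIdeal) ⧸ _))
        apply subsingleton_hom_below hn d (QuotSMulTop x (A ⧸ p.asIdeal)) ?_ (i + 1)
          (by push_cast at hi; lia)
        apply lt_of_add_one_lt
        rw [Module.supportDim_quotSMulTop_succ_eq_supportDim hreg hx,
          ← Module.supportDim_eq_of_equiv e]
        exact hdim
    | exact N₁ N₂ N₃ f g hf hg hfg h₁ h₃ =>
      intro hdim i hi
      exact subsingleton_hom_middle f g hf hg hfg _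
        (h₁ (lt_of_le_of_lt (Module.supportDim_le_of_injective f hf) hdim) i hi)
        (h₃ (lt_of_le_of_lt (Module.supportDim_le_of_surjective g hg) hdim) i hi)

end Step

end Groth.Agent.Lib.T2H4.Depth
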