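import Mathlib
import Groth.Agent.Lib.Helper1TorN
import Groth.Agent.Lib.Helper1TorD
import Groth.Agent.Lib.Helper1LT
import Groth.Agent.Lib.Helper10DerComplete4
import Groth.Agent.Lib.Helper21ConeLES2
import Groth.Agent.Lib.T2H4DCompMain
set_option backward.isDefEq.respectTransparency.types false

/-!
# Derived Nakayama via a Koszul-cone induction (helper4, T2H4)

For a K-projective complex `F` with flat terms such that `N ⊗ F` is exact in degrees `> b` for all
modules `N` killed by `f₁, …, f_r`, the iterated cone `kos [f₁, …, f_r] F` (i.e. `F ⊗ Koszul`) is exact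
in degrees `> b`.  If moreover `Q F` is derived complete with respect to an ideal containing the
`f_j`, then `F` itself is exact in degrees `> b`.
-/

set_option autoImplicit false
set_option maxHeartbeats 400000
universe u
open CategoryTheory CategoryTheory.Limits MonoidalCategory HomologicalComplex CochainComplex
attribute [local instance] HasDerivedCategory.standard

namespace Groth.Agent.Lib.T2H4.DerNak

open DerivedCategory Groth.Agent.Lib.Helper1.Tor Groth.Agent.Lib.Helper1.TorM
  Groth.Agent.Lib.Helper21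

variable {R : Type u} [CommRing R]

/-- `H^i(f • 𝟙)` is multiplication by `f`. -/
lemma homologyMap_smul_id (K : DRing.Cx R) (f : R) (i : ℤ) :
    HomologicalComplex.homologyMap (f • 𝟙 K) i = f • 𝟙 (K.homology i) := by
  have h : (HomologicalComplex.shortComplexFunctor (ModuleCat.{u} R) (ComplexShape.up ℤ) i).map
      (f • 𝟙 K) = f • (HomologicalComplex.shortComplexFunctor (ModuleCat.{u} R)
        (ComplexShape.up ℤ) i).map (𝟙 K) := rfl
  show ShortComplex.homologyMap ((HomologicalComplex.shortComplexFunctor (ModuleCat.{u} R)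
    (ComplexShape.up ℤ) i).map (f • 𝟙 K)) = _
  rw [h, ShortComplex.homologyMap_smul, CategoryTheory.Functor.map_id, ShortComplex.homologyMap_id]
  rfl

/-- the cone of a map which is epi on `H^i` and mono on `H^{i+1}` is exact at `i` -/
lemma exactAt_mappingCone {F G : DRing.Cx R} (φ : F ⟶ G) (i : ℤ)
    (h1 : Epi (HomologicalComplex.homologyMap φ i))
    (h2 : Mono (HomologicalComplex.homologyMap φ (i + 1))) :
    (mappingCone φ).ExactAt i := by
  rw [HomologicalComplex.exactAt_iff_isZero_homology]
  have e3 := cone_homology_exact₃ φ i (i + 1) rfl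
  have z1 : HomologicalComplex.homologyMap (mappingCone.inr φ) i = 0 := by
    rw [← cancel_epi (HomologicalComplex.homologyMap φ i), cone_homologyMap_comp, comp_zero]
  have z2 : coneδ φ i (i + 1) rfl = 0 := by
    rw [← cancel_mono (HomologicalComplex.homologyMap φ (i + 1)), coneδ_comp, zero_comp]
  exact e3.isZero_of_both_zeros z1 z2

/-- if the cone is exact at `i`, the map is epi on `H^i` -/
lemma epi_homologyMap_of_exactAt_mappingCone {F G : DRing.Cx R} (φ : F ⟶ G) (i : ℤ)
    (h : (mappingCone φ).ExactAt i) : Epi (HomologicalComplex.homologyMap φ i) := by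
  rw [HomologicalComplex.exactAt_iff_isZero_homology] at h
  exact (cone_homology_exact₂ φ i).epi_f (h.eq_of_tgt _ _)

section step

variable (N : Type u) [AddCommGroup N] [Module R N] (f : R)

/-- multiplication by `f` on `N` -/
abbrev mulN : N →ₗ[R] N := LinearMap.lsmul R N f

/-- the projection `N → fN` -/
noncomputable def pN : ModuleCat.of R N ⟶ ModuleCat.of R (LinearMap.range (mulN N f)) :=
  ModuleCat.ofHom (mulN N f).rangeRestrict

/-- the inclusion `fN → N` -/
noncomputable def ιN : ModuleCat.of R (LinearMap.range (mulN N f)) ⟶ ModuleCat.of R N :=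
  ModuleCat.ofHom (LinearMap.range (mulN N f)).subtype

/-- `0 → N[f] → N → fN → 0` -/
noncomputable def S1 : ShortComplex (ModuleCat.{u} R) :=
  ShortComplex.mk (ModuleCat.ofHom (LinearMap.ker (mulN N f)).subtype) (pN N f) (by
      ext x
      exact LinearMap.mem_ker.1 x.2)

/-- `0 → fN → N → N/fN → 0` -/
noncomputable def S2 : ShortComplex (ModuleCat.{u} R) :=
  ShortComplex.mk (ιN N f)
    (ModuleCat.ofHom (LinearMap.range (mulN N f)).mkQ) (by
      ext x
      simp [ιN])

lemma S1_shortExact : (S1 N f).ShortExact where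
  exact := by
    rw [ShortComplex.ShortExact.moduleCat_exact_iff_function_exact]
    intro x
    constructor
    · intro hx
      exact ⟨⟨x, congrArg Subtype.val hx⟩, rfl⟩
    · rintro ⟨y, rfl⟩
      apply Subtype.ext
      exact LinearMap.mem_ker.1 y.2
  mono_f := (ModuleCat.mono_iff_injective _).2 (LinearMap.ker (mulN N f)).subtype_injective
  epi_g := (ModuleCat.epi_iff_surjective _).2 (mulN N f).surjective_rangeRestrict

lemma S2_shortExact : (S2 N f).ShortExact where
  exact := by
    rw [ShortComplex.ShortExact.moduleCat_exact_iff_function_exact]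
    exact LinearMap.exact_subtype_mkQ (LinearMap.range (mulN N f))
  mono_f := (ModuleCat.mono_iff_injective _).2 (LinearMap.range (mulN N f)).subtype_injective
  epi_g := (ModuleCat.epi_iff_surjective _).2 (LinearMap.range (mulN N f)).mkQ_surjective

lemma TCmap_comp {N₁ N₂ N₃ : ModuleCat.{u} R} (g : N₁ ⟶ N₂) (h : N₂ ⟶ N₃) (F : DRing.Cx R) :
    (TCmap (g ≫ h)).app F = (TCmap g).app F ≫ (TCmap h).app F := by
  ext n : 1
  rw [HomologicalComplex.comp_f, TCmap_app_f, TCmap_app_f, TCmap_app_f]
  exact comp_whiskerRight g h (F.X n)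

lemma TC_map_smul_id (F : DRing.Cx R) :
    (TC (ModuleCat.of R N)).map (f • 𝟙 F) = (TCmap (pN N f ≫ ιN N f)).app F := by
  ext n : 1
  rw [TCmap_app_f]
  show (ModuleCat.of R N) ◁ ((f • 𝟙 F : F ⟶ F).f n) = _
  apply ModuleCat.hom_ext
  apply TensorProduct.ext'
  intro x y
  show x ⊗ₜ[R] (f • y) = (f • x) ⊗ₜ[R] y
  rw [TensorProduct.tmul_smul, TensorProduct.smul_tmul']

end step

/-- the running hypothesis: `N ⊗ F` is exact in degrees `> b` for all `N` killed by `fs` -/
def Hyp (fs : List R) (b : ℤ) (F : DRing.Cx R) : Prop :=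
  ∀ (N : Type u) [AddCommGroup N] [Module R N], (∀ g ∈ fs, ∀ x : N, g • x = 0) →
    ∀ i : ℤ, b < i → ((TC (ModuleCat.of R N)).obj F).ExactAt i

/-- inductive step -/
theorem hyp_cone (f : R) (fs : List R) (b : ℤ) (F : DRing.Cx R) (hF : DRing.TermwiseFlat F)
    (h : Hyp (f :: fs) b F) : Hyp fs b (mappingCone (f • 𝟙 F)) := by
  intro N _ _ hN i hi
  -- the two auxiliary modules are killed by `f :: fs`
  have h0 : ∀ j : ℤ, b < j →
      ((TC (ModuleCat.of R (LinearMap.ker (mulN N f)))).obj F).ExactAt j := by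
    intro j hj
    apply h (LinearMap.ker (mulN N f)) _ j hj
    intro g hg x
    rcases List.mem_cons.1 hg with rfl | hg
    · apply Subtype.ext
      exact x.2
    · apply Subtype.ext
      exact hN g hg x.1
  have h1 : ∀ j : ℤ, b < j →
      ((TC (ModuleCat.of R (N ⧸ LinearMap.range (mulN N f)))).obj F).ExactAt j := by
    intro j hj
    apply h (N ⧸ LinearMap.range (mulN N f)) _ j hj
    intro g hg x
    induction x using Submodule.Quotient.induction_on with
    | _ y =>
      rw [← Submodule.Quotient.mk_smul, Submodule.Quotient.mk_eq_zero]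
      rcases List.mem_cons.1 hg with rfl | hg
      · exact ⟨y, rfl⟩
      · rw [hN g hg y]
        exact Submodule.zero_mem _
  have hT1 := TCshort_shortExact (S1 N f) (S1_shortExact N f) F hF
  have hT2 := TCshort_shortExact (S2 N f) (S2_shortExact N f) F hF
  have z0 : ∀ j : ℤ, b < j → IsZero (((TCshort (S1 N f) F).X₁).homology j) := fun j hj =>
    (HomologicalComplex.exactAt_iff_isZero_homology _ _).1 (h0 j hj)
  have z1 : ∀ j : ℤ, b < j → IsZero (((TCshort (S2 N f) F).X₃).homology j) := fun j hj =>
    (HomologicalComplex.exactAt_iff_isZero_homology _ _).1 (h1 j hj)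
  -- `p_*` is an isomorphism in degrees `> b`
  have pmono : ∀ j : ℤ, b < j →
      Mono (HomologicalComplex.homologyMap ((TCmap (pN N f)).app F) j) := fun j hj =>
    (hT1.homology_exact₂ j).mono_g ((z0 j hj).eq_of_src _ _)
  have pepi : ∀ j : ℤ, b < j →
      Epi (HomologicalComplex.homologyMap ((TCmap (pN N f)).app F) j) := fun j hj =>
    (hT1.homology_exact₃ j (j + 1) rfl).epi_f ((z0 (j + 1) (by lia)).eq_of_tgt _ _)
  have ιepi : ∀ j : ℤ, b < j →
      Epi (HomologicalComplex.homologyMap ((TCmap (ιN N f)).app F) j) := fun j hj =>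
    (hT2.homology_exact₂ j).epi_f ((z1 j hj).eq_of_tgt _ _)
  have ιmono : ∀ j : ℤ, b + 1 < j →
      Mono (HomologicalComplex.homologyMap ((TCmap (ιN N f)).app F) j) := fun j hj =>
    (hT2.homology_exact₁ (j - 1) j (by simp)).mono_g ((z1 (j - 1) (by lia)).eq_of_src _ _)
  have hcomp : ∀ j : ℤ, HomologicalComplex.homologyMap ((TC (ModuleCat.of R N)).map (f • 𝟙 F)) j =
      HomologicalComplex.homologyMap ((TCmap (pN N f)).app F) j ≫
        HomologicalComplex.homologyMap ((TCmap (ιN N f)).app F) j := fun j => by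
    rw [TC_map_smul_id, TCmap_comp, HomologicalComplex.homologyMap_comp]
  have hepi : Epi (HomologicalComplex.homologyMap ((TC (ModuleCat.of R N)).map (f • 𝟙 F)) i) := by
    rw [hcomp]
    have := pepi i hi
    have := ιepi i hi
    exact epi_comp _ _
  have hmono : Mono (HomologicalComplex.homologyMap
      ((TC (ModuleCat.of R N)).map (f • 𝟙 F)) (i + 1)) := by
    rw [hcomp]
    have := pmono (i + 1) (by lia)
    have := ιmono (i + 1) (by lia)
    exact mono_comp _ _
  exact (exactAt_mappingCone _ i hepi hmono).of_iso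
    (mappingCone.mapHomologicalComplexIso (f • 𝟙 F) (T (ModuleCat.of R N))).symm

/-- `R ⊗ F ≅ F` -/
noncomputable def TCunitIso (F : DRing.Cx R) : (TC (ModuleCat.of R R)).obj F ≅ F :=
  HomologicalComplex.Hom.isoOfComponents (fun n => λ_ (F.X n)) (fun i j _ => by
    exact (leftUnitor_naturality (F.d i j)).symm)

/-- iterated cones -/
noncomputable def kos : List R → DRing.Cx R → DRing.Cx R
  | [], F => F
  | f :: fs, F => kos fs (mappingCone (f • 𝟙 F))

theorem exactAt_kos (b : ℤ) : ∀ (fs : List R) (F : DRing.Cx R), DRing.TermwiseFlat F →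
    Hyp fs b F → ∀ i : ℤ, b < i → (kos fs F).ExactAt i
  | [], F, _, h => fun i hi =>
      (h R (fun _ hg => absurd hg (List.not_mem_nil)) i hi).of_iso (TCunitIso F)
  | f :: fs, F, hF, h =>
      exactAt_kos b fs _ (termwiseFlat_mappingCone _ hF hF) (hyp_cone f fs b F hF h)

/-- descent along the cones using derived completeness -/
theorem exactAt_of_exactAt_kos (I : Ideal R) (s : Finset R) (hs : Ideal.span (s : Set R) = I)
    (b : ℤ) : ∀ (fs : List R) (F : DRing.Cx R), (∀ g ∈ fs, g ∈ I) →
    DRing.IsDerivedComplete I (Q.obj F) → (∀ i : ℤ, b < i → (kos fs F).ExactAt i) →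
    ∀ i : ℤ, b < i → F.ExactAt i
  | [], F, _, _, h => h
  | f :: fs, F, hfs, hc, h => by
    have hc' : DRing.IsDerivedComplete I (Q.obj (mappingCone (f • 𝟙 F))) :=
      Groth.Agent.Lib.T2H4.DComp.isDerivedComplete_obj₃ I s hs _
        (DerivedCategory.mappingCone_triangle_distinguished (f • 𝟙 F)) hc hc
    have h' := exactAt_of_exactAt_kos I s hs b fs (mappingCone (f • 𝟙 F))
      (fun g hg => hfs g (List.mem_cons_of_mem _ hg)) hc' h
    intro i hi
    have hepi := epi_homologyMap_of_exactAt_mappingCone (f • 𝟙 F) i (h' i hi)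
    rw [homologyMap_smul_id] at hepi
    have hcrit := (Groth.Agent.Lib.Helper10.DerComplete.isDerivedComplete_iff_forall_crit I
      (Q.obj F)).1 hc f (hfs f List.mem_cons_self) i
    rw [HomologicalComplex.exactAt_iff_isZero_homology]
    let e : Dual.HD R (Q.obj F) i ≃ₗ[R] F.homology i :=
      ((homologyFunctorFactors (ModuleCat.{u} R) i).app F).toLinearEquiv
    have hcrit' := Groth.Agent.Lib.Helper10.DerComplete.Crit.of_linearEquiv e hcrit
    have hsurj : Function.Surjective (fun x : F.homology i => f • x) :=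
      (ModuleCat.epi_iff_surjective _).1 hepi
    have : Subsingleton (F.homology i) :=
      ⟨fun x y => by
        rw [Groth.Agent.Lib.Helper10.DerComplete.Crit.eq_zero_of_surjective hcrit' hsurj x,
          Groth.Agent.Lib.Helper10.DerComplete.Crit.eq_zero_of_surjective hcrit' hsurj y]⟩
    exact ModuleCat.isZero_of_subsingleton _

section main

open Groth.Agent.Lib.Helper1.KF Groth.Agent.Lib.Helper1.DT Groth.Agent.Lib.Helper1.LDer
  Groth.Agent.Lib.Helper1.TorN

variable {A : Type u} [CommRing A]

/-- **Derived Nakayama, bounded form**: if `K` is derived complete with respect to a finitely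
generated ideal `I` and `K ⊗^L A/I` has no cohomology in degrees `> b`, then neither has `K`. -/
theorem isZero_homology_of_LTensor_quotient (I : Ideal A) (hI : I.FG)
    [DRing.HasLTensor A (ModuleCat.of A (A ⧸ I))] (K : Dual.D A)
    (hc : DRing.IsDerivedComplete I K) (b : ℤ)
    (h : ∀ i : ℤ, b < i → IsZero ((homologyFunctor (ModuleCat.{u} A) i).obj
      ((DRing.LTensor A (ModuleCat.of A (A ⧸ I))).obj K))) :
    ∀ i : ℤ, b < i → IsZero ((homologyFunctor (ModuleCat.{u} A) i).obj K) := by
  classical
  obtain ⟨F, hF, hproj, ⟨e⟩⟩ := exists_kproj_iso K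
  have hFf : DRing.TermwiseFlat F := fun i =>
    have := hproj i
    have : Module.Projective A (F.X i) := ModuleCat.projective_of_module_projective _
    inferInstance
  have h0 : ∀ j : ℤ, b < j → ((TC (ModuleCat.of A (A ⧸ I))).obj F).ExactAt j := by
    intro j hj
    have hz' : IsZero ((homologyFunctor (ModuleCat.{u} A) j).obj
        (Q.obj ((tCx (ModuleCat.of A (A ⧸ I))).obj F))) :=
      (h j hj).of_iso ((homologyFunctor _ j).mapIso
        ((ltIso (ModuleCat.of A (A ⧸ I)) F).symm ≪≫
          (DRing.LTensor A (ModuleCat.of A (A ⧸ I))).mapIso e))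
    rw [← exactAt_iff_isZero_H, exactAt_tCx_iff] at hz'
    exact hz'
  obtain ⟨s, hs⟩ := hI
  have hyp : Hyp s.toList b F := by
    intro N _ _ hN i hi
    apply exactAt_TC_of_smul_eq_zero I F b h0 N _ i hi
    intro r hr x
    rw [← hs] at hr
    refine Submodule.span_induction (p := fun r _ => ∀ x : N, r • x = 0) ?_ ?_ ?_ ?_ hr x
    · intro g hg x
      exact hN g (Finset.mem_toList.2 hg) x
    · intro x
      exact zero_smul _ _
    · intro a c _ _ ha hc x
      rw [add_smul, ha, hc, add_zero]
    · intro a c _ hc x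
      rw [smul_eq_mul, mul_smul, hc, smul_zero]
  have hk := exactAt_kos b s.toList F hFf hyp
  have hcF : DRing.IsDerivedComplete I (Q.obj F) :=
    Groth.Agent.Lib.T2H4.DComp.isDerivedComplete_of_iso I e.symm hc
  have hex := exactAt_of_exactAt_kos I s hs b s.toList F
    (fun g hg => hs ▸ Ideal.subset_span (Finset.mem_toList.1 hg)) hcF hk
  intro i hi
  have := hex i hi
  rw [exactAt_iff_isZero_H] at this
  exact this.of_iso ((homologyFunctor _ i).mapIso e.symm)

/-- **Derived Nakayama**. -/
theorem isZero_of_isZero_LTensor_quotient (I : Ideal A) (hI : I.FG)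
    [DRing.HasLTensor A (ModuleCat.of A (A ⧸ I))] (K : Dual.D A)
    (hc : DRing.IsDerivedComplete I K)
    (h0 : IsZero ((DRing.LTensor A (ModuleCat.of A (A ⧸ I))).obj K)) : IsZero K := by
  obtain ⟨F, hF, hproj, ⟨e⟩⟩ := exists_kproj_iso K
  refine IsZero.of_iso (isZero_Q_of_exactAt F (fun j => ?_)) e.symm
  rw [exactAt_iff_isZero_H]
  exact (isZero_homology_of_LTensor_quotient I hI K hc (j - 1)
    (fun i _ => (homologyFunctor _ i).map_isZero h0) j (by lia)).of_iso
    ((homologyFunctor _ j).mapIso e)

/-- the easy direction: `K ∈ D^{≤ b}` implies `K ⊗^L M ∈ D^{≤ b}`. -/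
theorem isZero_homology_LTensor_of_isLE (M : ModuleCat.{u} A) [DRing.HasLTensor A M]
    (K : Dual.D A) (b : ℤ)
    (h : ∀ i : ℤ, b < i → IsZero ((homologyFunctor (ModuleCat.{u} A) i).obj K)) :
    ∀ i : ℤ, b < i → IsZero ((homologyFunctor (ModuleCat.{u} A) i).obj
      ((DRing.LTensor A M).obj K)) := by
  have : K.IsLE b := by
    rw [DerivedCategory.isLE_iff]
    exact h
  obtain ⟨P, hPle, hPproj, ⟨e⟩⟩ := Groth.Agent.Lib.Helper1.ProjRes.exists_iso_Q_proj K b
  have hPK : P.IsKProjective := CochainComplex.isKProjective_of_projective P b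
  intro i hi
  have hz : IsZero (((tCx M).obj P).X i) :=
    (tensorRight M).map_isZero (P.isZero_of_isStrictlyLE b i hi)
  have hex : ((tCx M).obj P).ExactAt i := ShortComplex.exact_of_isZero_X₂ _ hz
  rw [exactAt_iff_isZero_H] at hex
  exact hex.of_iso ((homologyFunctor _ i).mapIso
    ((DRing.LTensor A M).mapIso e.symm ≪≫ ltIso M P))

end main

end Groth.Agent.Lib.T2H4.DerNak
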