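import Groth.Agent.Lib.T2H4RGCompute
import Groth.Agent.Lib.Helper17DBrown5
import Groth.Agent.Lib.Helper1HomFinite

/-!
# Finiteness of `H^i(C)` from finiteness of `Hom(B[-i], C)` (helper4)
-/

set_option autoImplicit false
universe u
open CategoryTheory CategoryTheory.Limits DerivedCategory
attribute [local instance] HasDerivedCategory.standard

namespace Groth.Agent.Lib.T2H4.DComp

open Groth.Agent.Lib.Helper17.KInj Groth.Agent.Lib.Helper17.DBrown Groth.Agent.Lib.Helper1.Extend
  Groth.Agent.Lib.Helper1.Restrict Pretriangulated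

section Lgen

variable {B : Type u} [CommRing B]

/-- the short complex `C^{i-1} ⟶ C^i ⟶ C^{i+1}`. -/
abbrev scI (C : CochainComplex (ModuleCat.{u} B) ℤ) (i : ℤ) : ShortComplex (ModuleCat.{u} B) :=
  C.sc' (i - 1) i (i + 1)

variable (B) in
/-- `B[-i]`. -/
noncomputable abbrev SB (i : ℤ) : CochainComplex (ModuleCat.{u} B) ℤ :=
  (HomologicalComplex.single (ModuleCat.{u} B) (ComplexShape.up ℤ) i).obj (ModuleCat.of B B)

variable (B) in
/-- the generator of `B[-i]`. -/
noncomputable def x₀ (i : ℤ) : (SB B i).X i :=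
  (HomologicalComplex.singleObjXSelf (ComplexShape.up ℤ) i (ModuleCat.of B B)).inv.hom (1 : B)

/-- the chain map `B[-i] ⟶ C` given by a cycle. -/
noncomputable def ofCycle (C : CochainComplex (ModuleCat.{u} B) ℤ) (i : ℤ) (z : C.X i)
    (hz : (C.d i (i + 1)).hom z = 0) : SB B i ⟶ C :=
  HomologicalComplex.mkHomFromSingle
    (ModuleCat.ofHom (LinearMap.toSpanSingleton B (C.X i) z)) (fun k hk => by
      have hk' : i + 1 = k := hk
      subst hk'
      ext
      show (C.d i (i + 1)).hom ((1 : B) • z) = 0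
      rw [one_smul]
      exact hz)

lemma ofCycle_apply (C : CochainComplex (ModuleCat.{u} B) ℤ) (i : ℤ) (z : C.X i)
    (hz : (C.d i (i + 1)).hom z = 0) : ((ofCycle C i z hz).f i).hom (x₀ B i) = z := by
  unfold ofCycle x₀
  rw [HomologicalComplex.mkHomFromSingle_f]
  simp

/-- `H^i(C)` is a finite module as soon as `Hom_{D(B)}(B[-i], C)` is. -/
theorem finite_homology_of_finite_hom [IsNoetherianRing B]
    (C : CochainComplex (ModuleCat.{u} B) ℤ) (i : ℤ)
    (h : Module.Finite B ((Q : _ ⥤ Dual.D B).obj (SB B i) ⟶ Q.obj C)) :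
    Module.Finite B (C.homology i) := by
  suffices h' : Module.Finite B
      (LinearMap.ker (scI C i).g.hom ⧸ LinearMap.range (scI C i).moduleCatToCycles) by
    have e : C.homology i ≅ (scI C i).moduleCatLeftHomologyData.H :=
      C.homologyIsoSc' (i - 1) i (i + 1) (by simp) (by simp) ≪≫ (scI C i).moduleCatHomologyIso
    have h'' : Module.Finite B (scI C i).moduleCatLeftHomologyData.H := h'
    exact Module.Finite.equiv e.symm.toLinearEquiv
  let q : (SB B i ⟶ C) →ₗ[B] ((Q : _ ⥤ Dual.D B).obj (SB B i) ⟶ Q.obj C) :=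
    Functor.mapLinearMap B (Q : _ ⥤ Dual.D B)
  let p₀ : (SB B i ⟶ C) →ₗ[B] (scI C i).X₂ :=
    { toFun := fun γ => (γ.f i).hom (x₀ B i)
      map_add' := fun γ γ' => rfl
      map_smul' := fun b γ => rfl }
  have hSd : (SB B i).d i (i + 1) = 0 := HomologicalComplex.single_obj_d _ _ _ _ _
  have hp₀ : ∀ γ, p₀ γ ∈ LinearMap.ker (scI C i).g.hom := by
    intro γ
    rw [LinearMap.mem_ker]
    show (C.d i (i + 1)).hom ((γ.f i).hom (x₀ B i)) = 0
    have h1 : γ.f i ≫ C.d i (i + 1) = 0 := by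
      rw [γ.comm, hSd, zero_comp]
    exact congrArg (fun t => t.hom (x₀ B i)) h1
  let p : (SB B i ⟶ C) →ₗ[B]
      (LinearMap.ker (scI C i).g.hom ⧸ LinearMap.range (scI C i).moduleCatToCycles) :=
    (LinearMap.range (scI C i).moduleCatToCycles).mkQ ∘ₗ p₀.codRestrict _ hp₀
  have hp_surj : Function.Surjective p := by
    intro y
    obtain ⟨⟨z, hz⟩, rfl⟩ := Submodule.mkQ_surjective _ y
    have hz' : (C.d i (i + 1)).hom z = 0 := by
      rw [LinearMap.mem_ker] at hz
      exact hz
    refine ⟨ofCycle C i z hz', ?_⟩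
    show Submodule.Quotient.mk _ = Submodule.Quotient.mk _
    congr 1
    apply Subtype.ext
    exact ofCycle_apply C i z hz'
  have hker : LinearMap.ker q ≤ LinearMap.ker p := by
    intro γ hγ
    rw [LinearMap.mem_ker] at hγ ⊢
    have hγ' : (Q : _ ⥤ Dual.D B).map γ = Q.map 0 := by
      rw [Functor.map_zero]
      exact hγ
    obtain ⟨H⟩ := homotopy_of_Q_map_eq_of_isKProjective hγ'
    have hc := H.comm i
    rw [dNext_eq H.hom (show (ComplexShape.up ℤ).Rel i (i + 1) from rfl),
      prevD_eq H.hom (show (ComplexShape.up ℤ).Rel (i - 1) i by simp), hSd, zero_comp, zero_add,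
      HomologicalComplex.zero_f, add_zero] at hc
    show Submodule.Quotient.mk _ = 0
    rw [Submodule.Quotient.mk_eq_zero]
    refine ⟨(H.hom i (i - 1)).hom (x₀ B i), ?_⟩
    apply Subtype.ext
    show (scI C i).f.hom ((H.hom i (i - 1)).hom (x₀ B i)) = (γ.f i).hom (x₀ B i)
    rw [hc]
    rfl
  have hfin : Module.Finite B ((SB B i ⟶ C) ⧸ LinearMap.ker q) := by
    haveI : IsNoetherian B ((Q : _ ⥤ Dual.D B).obj (SB B i) ⟶ Q.obj C) :=
      isNoetherian_of_isNoetherianRing_of_finite B _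
    exact Module.Finite.equiv (LinearMap.quotKerEquivRange q).symm
  refine Module.Finite.of_surjective ((LinearMap.ker q).liftQ p hker) ?_
  intro y
  obtain ⟨γ, rfl⟩ := hp_surj y
  exact ⟨Submodule.Quotient.mk γ, rfl⟩

end Lgen

end Groth.Agent.Lib.T2H4.DComp
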