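import Groth.Agent.Lib.T2H4RGamma
import Groth.Agent.Lib.T2H4RGFinite0
import Groth.Agent.Lib.Helper17KInjD1
import Groth.Prelude.Def_DualLC

/-!
# `H^q(RΓ_I K) = colim_n Hom(A/I^n, K[q])` (helper4)
-/

set_option autoImplicit false
universe u
open CategoryTheory CategoryTheory.Limits DerivedCategory
attribute [local instance] HasDerivedCategory.standard

namespace Groth.Agent.Lib.T2H4.RGam

open Groth.Agent.Lib.Helper17.KInj Groth.Agent.Lib.T2H4.DComp CochainComplex HomComplex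

section General

variable {C : Type*} [Category C] [Abelian C] [HasDerivedCategory C]

/-- a chain map out of a complex concentrated in one degree which factors through the differential
is zero in the derived category. -/
lemma Q_map_eq_zero_of_single {X : C} {K : CochainComplex C ℤ} {q : ℤ}
    (φ : (CochainComplex.singleFunctor C q).obj X ⟶ K) (f : X ⟶ K.X (q - 1))
    (hf : (HomologicalComplex.singleObjXSelf (ComplexShape.up ℤ) q X).inv ≫ φ.f q =
      f ≫ K.d (q - 1) q) : (Q : _ ⥤ DerivedCategory C).map φ = 0 := by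
  have h1 : q + (-1) = q - 1 := by lia
  have h0 : q + 0 = q := add_zero q
  have key : Cochain.ofHom φ = δ (-1) 0 (Cochain.fromSingleMk f h1) + Cochain.ofHom 0 := by
    rw [Cochain.ofHom_zero, add_zero, Cochain.δ_fromSingleMk f h1 0 q h0]
    apply (Cochain.fromSingleEquiv h0).injective
    rw [Cochain.fromSingleEquiv_fromSingleMk]
    show (HomologicalComplex.singleObjXSelf (ComplexShape.up ℤ) q X).inv ≫
      (Cochain.ofHom φ).v q q h0 = _
    rw [Cochain.ofHom_v]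
    exact hf
  have H : Homotopy φ 0 := (Cochain.equivHomotopy φ 0).symm ⟨_, key⟩
  rw [DerivedCategory.Q_map_eq_of_homotopy (h := H), Functor.map_zero]

end General

section Chain

variable {A : Type u} [CommRing A]

/-- `(A/𝔞)[-q]`. -/
noncomputable abbrev Sq (𝔞 : Ideal A) (q : ℤ) : CochainComplex (ModuleCat.{u} A) ℤ :=
  (HomologicalComplex.single (ModuleCat.{u} A) (ComplexShape.up ℤ) q).obj (ModuleCat.of A (A ⧸ 𝔞))

/-- the generator of `(A/𝔞)[-q]`. -/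
noncomputable def x₁ (𝔞 : Ideal A) (q : ℤ) : (Sq 𝔞 q).X q :=
  (HomologicalComplex.singleObjXSelf (ComplexShape.up ℤ) q (ModuleCat.of A (A ⧸ 𝔞))).inv.hom
    (1 : A ⧸ 𝔞)

lemma smul_x₁ (𝔞 : Ideal A) (q : ℤ) (a : A) (ha : a ∈ 𝔞) : a • x₁ 𝔞 q = 0 := by
  unfold x₁
  have h1 : a • (1 : A ⧸ 𝔞) = 0 := by
    rw [Algebra.smul_def, mul_one]
    exact Ideal.Quotient.eq_zero_iff_mem.2 ha
  rw [← map_smul, h1, map_zero]

/-- the chain map `(A/𝔞)[-q] ⟶ C` given by a cycle killed by `𝔞`. -/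
noncomputable def cycMap (𝔞 : Ideal A) (C : CochainComplex (ModuleCat.{u} A) ℤ) (q : ℤ) (z : C.X q)
    (hz : (C.d q (q + 1)).hom z = 0) (h𝔞 : ∀ a ∈ 𝔞, a • z = 0) : Sq 𝔞 q ⟶ C :=
  HomologicalComplex.mkHomFromSingle
    (ModuleCat.ofHom (Submodule.liftQ 𝔞 (LinearMap.toSpanSingleton A (C.X q) z) (fun a ha => by
      rw [LinearMap.mem_ker, LinearMap.toSpanSingleton_apply]
      exact h𝔞 a ha)))
    (fun k hk => by
      have hk' : q + 1 = k := hk
      subst hk'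
      apply ModuleCat.hom_ext
      apply LinearMap.ext
      intro x
      obtain ⟨a, rfl⟩ := Submodule.Quotient.mk_surjective 𝔞 x
      show (C.d q (q + 1)).hom (LinearMap.toSpanSingleton A (C.X q) z a) = 0
      rw [LinearMap.toSpanSingleton_apply, map_smul, hz, smul_zero])

lemma cycMap_apply (𝔞 : Ideal A) (C : CochainComplex (ModuleCat.{u} A) ℤ) (q : ℤ) (z : C.X q)
    (hz : (C.d q (q + 1)).hom z = 0) (h𝔞 : ∀ a ∈ 𝔞, a • z = 0) :
    ((cycMap 𝔞 C q z hz h𝔞).f q).hom (x₁ 𝔞 q) = z := by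
  unfold cycMap x₁
  rw [HomologicalComplex.mkHomFromSingle_f]
  have h1 : (HomologicalComplex.singleObjXSelf (ComplexShape.up ℤ) q (ModuleCat.of A (A ⧸ 𝔞))).hom.hom
      ((HomologicalComplex.singleObjXSelf (ComplexShape.up ℤ) q (ModuleCat.of A (A ⧸ 𝔞))).inv.hom
        (1 : A ⧸ 𝔞)) = (1 : A ⧸ 𝔞) := by
    rw [← LinearMap.comp_apply, ← ModuleCat.hom_comp, Iso.inv_hom_id, ModuleCat.hom_id,
      LinearMap.id_apply]
  rw [ModuleCat.hom_comp, LinearMap.comp_apply, h1]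
  show Submodule.liftQ 𝔞 _ _ (Submodule.Quotient.mk 1) = z
  rw [Submodule.liftQ_apply, LinearMap.toSpanSingleton_apply, one_smul]

/-- the value of a chain map on the generator is a cycle killed by `𝔞`. -/
lemma d_apply_x₁ (𝔞 : Ideal A) {C : CochainComplex (ModuleCat.{u} A) ℤ} (q : ℤ) (g : Sq 𝔞 q ⟶ C) :
    (C.d q (q + 1)).hom ((g.f q).hom (x₁ 𝔞 q)) = 0 := by
  have hSd : (Sq 𝔞 q).d q (q + 1) = 0 := HomologicalComplex.single_obj_d _ _ _ _ _
  have h1 : g.f q ≫ C.d q (q + 1) = 0 := by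
    rw [g.comm, hSd, zero_comp]
  exact congrArg (fun t => t.hom (x₁ 𝔞 q)) h1

lemma smul_apply_x₁ (𝔞 : Ideal A) {C : CochainComplex (ModuleCat.{u} A) ℤ} (q : ℤ) (g : Sq 𝔞 q ⟶ C)
    (a : A) (ha : a ∈ 𝔞) : a • (g.f q).hom (x₁ 𝔞 q) = 0 := by
  rw [← map_smul, smul_x₁ 𝔞 q a ha, map_zero]

/-- maps between cyclic modules sending `1` to `1` preserve the generators. -/
lemma single_map_x₁ {𝔞 𝔟 : Ideal A} (ρ : ModuleCat.of A (A ⧸ 𝔟) ⟶ ModuleCat.of A (A ⧸ 𝔞))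
    (hρ : ρ.hom (1 : A ⧸ 𝔟) = (1 : A ⧸ 𝔞)) (q : ℤ) :
    (((HomologicalComplex.single (ModuleCat.{u} A) (ComplexShape.up ℤ) q).map ρ).f q).hom (x₁ 𝔟 q) =
      x₁ 𝔞 q := by
  unfold x₁
  rw [HomologicalComplex.single_map_f_self]
  simp [hρ]

end Chain

section Cls

variable {A : Type u} [CommRing A] (I : Ideal A)

/-- the explicit `q`-th cohomology module of `Γ_I J`. -/
abbrev Hq (J : CochainComplex (ModuleCat.{u} A) ℤ) (q : ℤ) : Type u :=
  LinearMap.ker (scI ((gammaCx I).obj J) q).g.hom ⧸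
    LinearMap.range (scI ((gammaCx I).obj J) q).moduleCatToCycles

/-- the value on the generator, as an element of `Γ_I(J^q)`. -/
noncomputable def p₀ (n : ℕ) (J : CochainComplex (ModuleCat.{u} A) ℤ) (q : ℤ) :
    (Sq (I ^ n) q ⟶ J) →ₗ[A] (scI ((gammaCx I).obj J) q).X₂ where
  toFun g := (⟨(g.f q).hom (x₁ (I ^ n) q), ⟨n, fun a ha => smul_apply_x₁ (I ^ n) q g a ha⟩⟩ :
    DRing.torsionSub I (J.X q))
  map_add' _ _ := rfl
  map_smul' _ _ := rfl

lemma p₀_mem_ker (n : ℕ) (J : CochainComplex (ModuleCat.{u} A) ℤ) (q : ℤ) (g : Sq (I ^ n) q ⟶ J) :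
    p₀ I n J q g ∈ LinearMap.ker (scI ((gammaCx I).obj J) q).g.hom := by
  rw [LinearMap.mem_ker]
  apply Subtype.ext
  exact d_apply_x₁ (I ^ n) q g

/-- the class of the value on the generator. -/
noncomputable def clsLin (n : ℕ) (J : CochainComplex (ModuleCat.{u} A) ℤ) (q : ℤ) :
    (Sq (I ^ n) q ⟶ J) →ₗ[A] Hq I J q :=
  (LinearMap.range (scI ((gammaCx I).obj J) q).moduleCatToCycles).mkQ ∘ₗ
    (p₀ I n J q).codRestrict _ (p₀_mem_ker I n J q)

lemma clsLin_eq_zero_iff (n : ℕ) (J : CochainComplex (ModuleCat.{u} A) ℤ) (q : ℤ)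
    (g : Sq (I ^ n) q ⟶ J) :
    clsLin I n J q g = 0 ↔ ∃ w : DRing.torsionSub I (J.X (q - 1)),
      (J.d (q - 1) q).hom w.1 = (g.f q).hom (x₁ (I ^ n) q) := by
  show Submodule.Quotient.mk _ = 0 ↔ _
  rw [Submodule.Quotient.mk_eq_zero]
  constructor
  · rintro ⟨w, hw⟩
    exact ⟨w, congrArg (fun t => (t.1 : (scI ((gammaCx I).obj J) q).X₂).1) hw⟩
  · rintro ⟨w, hw⟩
    refine ⟨w, ?_⟩
    apply Subtype.ext
    apply Subtype.ext
    exact hw

lemma clsLin_surjective (J : CochainComplex (ModuleCat.{u} A) ℤ) (q : ℤ) (h : Hq I J q) :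
    ∃ (n : ℕ) (g : Sq (I ^ n) q ⟶ J), clsLin I n J q g = h := by
  obtain ⟨⟨⟨z₀, hz₀⟩, hz⟩, rfl⟩ := Submodule.mkQ_surjective _ h
  obtain ⟨n, hn⟩ := id hz₀
  have hz' : (J.d q (q + 1)).hom z₀ = 0 := by
    have h1 : (scI ((gammaCx I).obj J) q).g.hom ⟨z₀, hz₀⟩ = 0 := hz
    exact congrArg Subtype.val h1
  refine ⟨n, cycMap (I ^ n) J q z₀ hz' hn, ?_⟩
  show Submodule.Quotient.mk _ = Submodule.Quotient.mk _
  congr 1
  apply Subtype.ext
  apply Subtype.ext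
  exact cycMap_apply (I ^ n) J q z₀ hz' hn

lemma clsLin_eq_zero_of_Q_map_eq_zero (n : ℕ) (J : CochainComplex (ModuleCat.{u} A) ℤ)
    [J.IsKInjective] (q : ℤ) (g : Sq (I ^ n) q ⟶ J)
    (hg : (Q : _ ⥤ Dual.D A).map g = 0) : clsLin I n J q g = 0 := by
  have hg' : (Q : _ ⥤ Dual.D A).map g = Q.map 0 := by rw [hg, Functor.map_zero]
  obtain ⟨H⟩ := homotopy_of_Q_map_eq hg'
  have hSd : (Sq (I ^ n) q).d q (q + 1) = 0 := HomologicalComplex.single_obj_d _ _ _ _ _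
  have hc := H.comm q
  rw [dNext_eq H.hom (show (ComplexShape.up ℤ).Rel q (q + 1) from rfl),
    prevD_eq H.hom (show (ComplexShape.up ℤ).Rel (q - 1) q by simp), hSd, zero_comp, zero_add,
    HomologicalComplex.zero_f, add_zero] at hc
  rw [clsLin_eq_zero_iff]
  refine ⟨⟨(H.hom q (q - 1)).hom (x₁ (I ^ n) q), ⟨n, fun a ha => ?_⟩⟩, ?_⟩
  · rw [← map_smul, smul_x₁ (I ^ n) q a ha, map_zero]
  · show (J.d (q - 1) q).hom ((H.hom q (q - 1)).hom (x₁ (I ^ n) q)) = _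
    rw [hc]
    rfl

/-- comparison maps between the cyclic complexes. -/
noncomputable abbrev πq {n m : ℕ} (hnm : n ≤ m) (q : ℤ) : Sq (I ^ m) q ⟶ Sq (I ^ n) q :=
  (HomologicalComplex.single (ModuleCat.{u} A) (ComplexShape.up ℤ) q).map
    (ModuleCat.ofHom (Submodule.mapQ (I ^ m) (I ^ n) LinearMap.id (Ideal.pow_le_pow_right hnm)))

lemma πq_x₁ {n m : ℕ} (hnm : n ≤ m) (q : ℤ) :
    ((πq I hnm q).f q).hom (x₁ (I ^ m) q) = x₁ (I ^ n) q :=
  single_map_x₁ _ rfl q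

lemma clsLin_πq {n m : ℕ} (hnm : n ≤ m) (J : CochainComplex (ModuleCat.{u} A) ℤ) (q : ℤ)
    (g : Sq (I ^ n) q ⟶ J) : clsLin I m J q (πq I hnm q ≫ g) = clsLin I n J q g := by
  show Submodule.Quotient.mk _ = Submodule.Quotient.mk _
  congr 1
  apply Subtype.ext
  apply Subtype.ext
  show ((πq I hnm q ≫ g).f q).hom (x₁ (I ^ m) q) = (g.f q).hom (x₁ (I ^ n) q)
  rw [HomologicalComplex.comp_f, ModuleCat.hom_comp, LinearMap.comp_apply, πq_x₁]

lemma exists_Q_map_πq_eq_zero (n : ℕ) (J : CochainComplex (ModuleCat.{u} A) ℤ) (q : ℤ)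
    (g : Sq (I ^ n) q ⟶ J) (hg : clsLin I n J q g = 0) :
    ∃ (m : ℕ) (hnm : n ≤ m), (Q : _ ⥤ Dual.D A).map (πq I hnm q ≫ g) = 0 := by
  obtain ⟨⟨w, ⟨m₀, hm₀⟩⟩, hw⟩ := (clsLin_eq_zero_iff I n J q g).1 hg
  refine ⟨max n m₀, le_max_left _ _, ?_⟩
  have hle : (I ^ max n m₀ : Submodule A A) ≤ LinearMap.ker (LinearMap.toSpanSingleton A (J.X (q - 1)) w) := by
    intro a ha
    rw [LinearMap.mem_ker, LinearMap.toSpanSingleton_apply]
    exact hm₀ a (Ideal.pow_le_pow_right (le_max_right _ _) ha)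
  apply Q_map_eq_zero_of_single (πq I (le_max_left n m₀) q ≫ g)
    (ModuleCat.ofHom (Submodule.liftQ (I ^ max n m₀) (LinearMap.toSpanSingleton A (J.X (q - 1)) w) hle))
  apply ModuleCat.hom_ext
  apply LinearMap.ext
  intro x
  obtain ⟨a, rfl⟩ := Submodule.Quotient.mk_surjective _ x
  have ha : (Submodule.Quotient.mk a : A ⧸ I ^ max n m₀) = a • (1 : A ⧸ I ^ max n m₀) := by
    rw [Algebra.smul_def, mul_one]
    rfl
  rw [ha, map_smul, map_smul]
  congr 1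
  show ((πq I (le_max_left n m₀) q ≫ g).f q).hom (x₁ (I ^ max n m₀) q) =
    (J.d (q - 1) q).hom (Submodule.liftQ (I ^ max n m₀) _ hle (Submodule.Quotient.mk 1))
  rw [Submodule.liftQ_apply, LinearMap.toSpanSingleton_apply, one_smul,
    HomologicalComplex.comp_f, ModuleCat.hom_comp, LinearMap.comp_apply, πq_x₁]
  exact hw.symm

end Cls

section Desc

variable {A : Type u} [CommRing A] (I : Ideal A) (J : CochainComplex (ModuleCat.{u} A) ℤ)
  [J.IsKInjective] (q : ℤ)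

/-- the localization functor on morphisms, as a linear map. -/
noncomputable def qmap (n : ℕ) :
    (Sq (I ^ n) q ⟶ J) →ₗ[A] ((Q : _ ⥤ Dual.D A).obj (Sq (I ^ n) q) ⟶ Q.obj J) :=
  Functor.mapLinearMap A (Q : _ ⥤ Dual.D A)

lemma qmap_surjective (n : ℕ) : Function.Surjective (qmap I J q n) := fun y => exists_Q_map_eq y

lemma ker_qmap_le (n : ℕ) : LinearMap.ker (qmap I J q n) ≤ LinearMap.ker (clsLin I n J q) :=
  fun g hg => by
    rw [LinearMap.mem_ker] at hg ⊢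
    exact clsLin_eq_zero_of_Q_map_eq_zero I n J q g hg

/-- the class map on morphisms in the derived category. -/
noncomputable def ψ' (n : ℕ) :
    ((Q : _ ⥤ Dual.D A).obj (Sq (I ^ n) q) ⟶ Q.obj J) →ₗ[A] Hq I J q :=
  ((LinearMap.ker (qmap I J q n)).liftQ (clsLin I n J q) (ker_qmap_le I J q n)) ∘ₗ
    ((qmap I J q n).quotKerEquivOfSurjective (qmap_surjective I J q n)).symm.toLinearMap

lemma ψ'_Q_map (n : ℕ) (g : Sq (I ^ n) q ⟶ J) :
    ψ' I J q n ((Q : _ ⥤ Dual.D A).map g) = clsLin I n J q g := by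
  have h1 : ((qmap I J q n).quotKerEquivOfSurjective (qmap_surjective I J q n)).symm
      ((Q : _ ⥤ Dual.D A).map g) = Submodule.Quotient.mk g := by
    apply ((qmap I J q n).quotKerEquivOfSurjective (qmap_surjective I J q n)).injective
    rw [LinearEquiv.apply_symm_apply]
    rfl
  show (LinearMap.ker (qmap I J q n)).liftQ (clsLin I n J q) (ker_qmap_le I J q n)
    (((qmap I J q n).quotKerEquivOfSurjective (qmap_surjective I J q n)).symm (Q.map g)) = _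
  rw [h1, Submodule.liftQ_apply]

end Desc

section Shift

variable {A : Type u} [CommRing A]

/-- the shift functor on morphisms, as a linear map. -/
noncomputable def shLin (q : ℤ) (X Y : Dual.D A) : (X ⟶ Y) →ₗ[A] (X⟦q⟧ ⟶ Y⟦q⟧) :=
  Functor.mapLinearMap A (CategoryTheory.shiftFunctor (Dual.D A) q)

lemma shLin_apply (q : ℤ) {X Y : Dual.D A} (v : X ⟶ Y) : shLin q X Y v = v⟦q⟧' := rfl

lemma shLin_bijective (q : ℤ) (X Y : Dual.D A) : Function.Bijective (shLin q X Y) :=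
  ⟨(CategoryTheory.shiftFunctor (Dual.D A) q).map_injective,
    (CategoryTheory.shiftFunctor (Dual.D A) q).map_surjective⟩

/-- the shift functor on morphisms, as a linear equivalence. -/
noncomputable def shEquiv (q : ℤ) (X Y : Dual.D A) : (X ⟶ Y) ≃ₗ[A] (X⟦q⟧ ⟶ Y⟦q⟧) :=
  LinearEquiv.ofBijective (shLin q X Y) (shLin_bijective q X Y)

lemma shEquiv_apply (q : ℤ) {X Y : Dual.D A} (v : X ⟶ Y) : shEquiv q X Y v = v⟦q⟧' := by
  unfold shEquiv
  rw [LinearEquiv.ofBijective_apply, shLin_apply]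

lemma shEquiv_symm_map (q : ℤ) {X Y : Dual.D A} (v : X ⟶ Y) :
    (shEquiv q X Y).symm (v⟦q⟧') = v := by
  rw [← shEquiv_apply, LinearEquiv.symm_apply_apply]

lemma shEquiv_symm_comp (q : ℤ) {X X' Y : Dual.D A} (v : X' ⟶ X) (w : X⟦q⟧ ⟶ Y⟦q⟧) :
    (shEquiv q X' Y).symm (v⟦q⟧' ≫ w) = v ≫ (shEquiv q X Y).symm w := by
  apply (shEquiv q X' Y).injective
  rw [LinearEquiv.apply_symm_apply, shEquiv_apply, Functor.map_comp, ← shEquiv_apply q ((shEquiv q X Y).symm w),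
    LinearEquiv.apply_symm_apply]

/-- `B[-q][q] ≅ B[0]`. -/
noncomputable def σ (q : ℤ) (B : ModuleCat.{u} A) :
    ((DerivedCategory.singleFunctor (ModuleCat.{u} A) q).obj B)⟦q⟧ ≅
      (DerivedCategory.singleFunctor (ModuleCat.{u} A) 0).obj B :=
  ((DerivedCategory.singleFunctors (ModuleCat.{u} A)).shiftIso q 0 q (add_zero q)).app B

lemma σ_naturality (q : ℤ) {B B' : ModuleCat.{u} A} (ρ : B ⟶ B') :
    ((DerivedCategory.singleFunctor (ModuleCat.{u} A) q).map ρ)⟦q⟧' ≫ (σ q B').hom =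
      (σ q B).hom ≫ (DerivedCategory.singleFunctor (ModuleCat.{u} A) 0).map ρ :=
  ((DerivedCategory.singleFunctors (ModuleCat.{u} A)).shiftIso q 0 q (add_zero q)).hom.naturality ρ

/-- `Q((A/𝔞)[-q]) ≅ (A/𝔞)[-q]`. -/
noncomputable def τ (𝔞 : Ideal A) (q : ℤ) :
    (Q : _ ⥤ Dual.D A).obj (Sq 𝔞 q) ≅
      (DerivedCategory.singleFunctor (ModuleCat.{u} A) q).obj (ModuleCat.of A (A ⧸ 𝔞)) :=
  ((DerivedCategory.singleFunctorIsoCompQ (ModuleCat.{u} A) q).app (ModuleCat.of A (A ⧸ 𝔞))).symm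

lemma τ_naturality {𝔞 𝔟 : Ideal A} (q : ℤ) (ρ : ModuleCat.of A (A ⧸ 𝔟) ⟶ ModuleCat.of A (A ⧸ 𝔞)) :
    (Q : _ ⥤ Dual.D A).map ((HomologicalComplex.single (ModuleCat.{u} A) (ComplexShape.up ℤ) q).map ρ) ≫
        (τ 𝔞 q).hom =
      (τ 𝔟 q).hom ≫ (DerivedCategory.singleFunctor (ModuleCat.{u} A) q).map ρ :=
  (DerivedCategory.singleFunctorIsoCompQ (ModuleCat.{u} A) q).inv.naturality ρ

end Shift

section Theta

variable {A : Type u} [CommRing A] (I : Ideal A) (Y : Dual.D A) (q : ℤ)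

/-- the transition maps `A/I^m → A/I^n`. -/
noncomputable abbrev ρq {n m : ℕ} (hnm : n ≤ m) :
    ModuleCat.of A (A ⧸ I ^ m) ⟶ ModuleCat.of A (A ⧸ I ^ n) :=
  ModuleCat.ofHom (Submodule.mapQ (I ^ m) (I ^ n) LinearMap.id (Ideal.pow_le_pow_right hnm))

/-- `Hom(A/I^n[0], Y[q]) → Hom(Q((A/I^n)[-q]), Y)`. -/
noncomputable def θ (n : ℕ) :
    ((DerivedCategory.singleFunctor (ModuleCat.{u} A) 0).obj (ModuleCat.of A (A ⧸ I ^ n)) ⟶ Y⟦q⟧) →ₗ[A]
      ((Q : _ ⥤ Dual.D A).obj (Sq (I ^ n) q) ⟶ Y) :=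
  Linear.leftComp A Y (τ (I ^ n) q).hom ∘ₗ
    (shEquiv q ((DerivedCategory.singleFunctor (ModuleCat.{u} A) q).obj (ModuleCat.of A (A ⧸ I ^ n)))
      Y).symm.toLinearMap ∘ₗ
    Linear.leftComp A (Y⟦q⟧) (σ q (ModuleCat.of A (A ⧸ I ^ n))).hom

lemma θ_apply (n : ℕ)
    (u : (DerivedCategory.singleFunctor (ModuleCat.{u} A) 0).obj (ModuleCat.of A (A ⧸ I ^ n)) ⟶ Y⟦q⟧) :
    θ I Y q n u = (τ (I ^ n) q).hom ≫ (shEquiv q _ Y).symm ((σ q (ModuleCat.of A (A ⧸ I ^ n))).hom ≫ u) :=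
  rfl

lemma θ_injective (n : ℕ) : Function.Injective (θ I Y q n) := by
  intro u u' h
  rw [θ_apply, θ_apply, cancel_epi] at h
  have h2 := (shEquiv q _ Y).symm.injective h
  rwa [cancel_epi] at h2

lemma θ_surjective (n : ℕ) : Function.Surjective (θ I Y q n) := by
  intro y
  refine ⟨(σ q (ModuleCat.of A (A ⧸ I ^ n))).inv ≫ ((τ (I ^ n) q).inv ≫ y)⟦q⟧', ?_⟩
  rw [θ_apply, Iso.hom_inv_id_assoc, shEquiv_symm_map, Iso.hom_inv_id_assoc]

lemma θ_natural {n m : ℕ} (hnm : n ≤ m)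
    (u : (DerivedCategory.singleFunctor (ModuleCat.{u} A) 0).obj (ModuleCat.of A (A ⧸ I ^ n)) ⟶ Y⟦q⟧) :
    θ I Y q m ((DerivedCategory.singleFunctor (ModuleCat.{u} A) 0).map (ρq I hnm) ≫ u) =
      (Q : _ ⥤ Dual.D A).map (πq I hnm q) ≫ θ I Y q n u := by
  rw [θ_apply, θ_apply, ← Category.assoc (σ q _).hom, ← σ_naturality q (ρq I hnm), Category.assoc,
    shEquiv_symm_comp, ← Category.assoc (τ (I ^ m) q).hom, ← τ_naturality q (ρq I hnm), Category.assoc]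

end Theta

section CLin

variable {A : Type u} [CommRing A] (I : Ideal A) (J : CochainComplex (ModuleCat.{u} A) ℤ)
  [J.IsKInjective] (q : ℤ)

lemma ψ'_comp {n m : ℕ} (hnm : n ≤ m) (y : (Q : _ ⥤ Dual.D A).obj (Sq (I ^ n) q) ⟶ Q.obj J) :
    ψ' I J q m ((Q : _ ⥤ Dual.D A).map (πq I hnm q) ≫ y) = ψ' I J q n y := by
  obtain ⟨g, rfl⟩ := exists_Q_map_eq y
  rw [← Functor.map_comp, ψ'_Q_map, ψ'_Q_map, clsLin_πq]

/-- the class map `Hom(A/I^n[0], Q(J)[q]) → H^q(Γ_I J)`. -/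
noncomputable def cLin (n : ℕ) :
    ((DerivedCategory.singleFunctor (ModuleCat.{u} A) 0).obj (ModuleCat.of A (A ⧸ I ^ n)) ⟶
      ((Q : _ ⥤ Dual.D A).obj J)⟦q⟧) →ₗ[A] Hq I J q :=
  ψ' I J q n ∘ₗ θ I (Q.obj J) q n

lemma cLin_compat {n m : ℕ} (hnm : n ≤ m)
    (u : (DerivedCategory.singleFunctor (ModuleCat.{u} A) 0).obj (ModuleCat.of A (A ⧸ I ^ n)) ⟶
      ((Q : _ ⥤ Dual.D A).obj J)⟦q⟧) :
    cLin I J q m ((DerivedCategory.singleFunctor (ModuleCat.{u} A) 0).map (ρq I hnm) ≫ u) =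
      cLin I J q n u := by
  show ψ' I J q m (θ I (Q.obj J) q m _) = ψ' I J q n (θ I (Q.obj J) q n u)
  rw [θ_natural, ψ'_comp]

lemma cLin_surjective (h : Hq I J q) : ∃ (n : ℕ) (u : _), cLin I J q n u = h := by
  obtain ⟨n, g, rfl⟩ := clsLin_surjective I J q h
  obtain ⟨u, hu⟩ := θ_surjective I (Q.obj J) q n ((Q : _ ⥤ Dual.D A).map g)
  refine ⟨n, u, ?_⟩
  show ψ' I J q n (θ I (Q.obj J) q n u) = _
  rw [hu, ψ'_Q_map]

lemma cLin_eq_zero (n : ℕ)
    (u : (DerivedCategory.singleFunctor (ModuleCat.{u} A) 0).obj (ModuleCat.of A (A ⧸ I ^ n)) ⟶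
      ((Q : _ ⥤ Dual.D A).obj J)⟦q⟧) (hu : cLin I J q n u = 0) :
    ∃ (m : ℕ) (hnm : n ≤ m),
      (DerivedCategory.singleFunctor (ModuleCat.{u} A) 0).map (ρq I hnm) ≫ u = 0 := by
  obtain ⟨g, hg⟩ := exists_Q_map_eq (θ I (Q.obj J) q n u)
  have h1 : clsLin I n J q g = 0 := by
    rw [← ψ'_Q_map, hg]
    exact hu
  obtain ⟨m, hnm, hm⟩ := exists_Q_map_πq_eq_zero I n J q g h1
  refine ⟨m, hnm, ?_⟩
  apply θ_injective I (Q.obj J) q m
  rw [θ_natural, ← hg, ← Functor.map_comp, hm, map_zero]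

end CLin

section JointSurj

universe w v₁ u₁ u₂

lemma colimit_jointly_surjective {R : Type u₂} [Ring R] {J₀ : Type u₁} [Category.{v₁} J₀]
    [IsFiltered J₀] (F : J₀ ⥤ ModuleCat.{w} R) [HasColimit F] (x : (colimit F : ModuleCat.{w} R)) :
    ∃ (j : J₀) (y : F.obj j), (colimit.ι F j).hom y = x := by
  let S : Submodule R (colimit F : ModuleCat.{w} R) := ⨆ j, LinearMap.range (colimit.ι F j).hom
  have hS : S = ⊤ := by
    have h1 : ModuleCat.ofHom S.mkQ =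
        (0 : colimit F ⟶ ModuleCat.of R ((colimit F : ModuleCat.{w} R) ⧸ S)) := by
      apply colimit.hom_ext
      intro j
      rw [comp_zero]
      apply ModuleCat.hom_ext
      apply LinearMap.ext
      intro y
      show S.mkQ ((colimit.ι F j).hom y) = 0
      rw [Submodule.mkQ_apply, Submodule.Quotient.mk_eq_zero]
      exact (le_iSup (fun j => LinearMap.range (colimit.ι F j).hom) j) ⟨y, rfl⟩
    rw [eq_top_iff]
    intro x _
    have h2 := congrArg (fun t => t.hom x) h1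
    exact (Submodule.Quotient.mk_eq_zero S).1 h2
  have hx : x ∈ S := hS ▸ Submodule.mem_top
  have hdir : Directed (· ≤ ·) (fun j => LinearMap.range (colimit.ι F j).hom) := by
    intro j j'
    refine ⟨IsFiltered.max j j', ?_, ?_⟩
    · rintro _ ⟨y, rfl⟩
      refine ⟨(F.map (IsFiltered.leftToMax j j')).hom y, ?_⟩
      rw [← LinearMap.comp_apply, ← ModuleCat.hom_comp, colimit.w]
    · rintro _ ⟨y, rfl⟩
      refine ⟨(F.map (IsFiltered.rightToMax j j')).hom y, ?_⟩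
      rw [← LinearMap.comp_apply, ← ModuleCat.hom_comp, colimit.w]
  haveI : Nonempty J₀ := IsFiltered.nonempty
  obtain ⟨j, y, hy⟩ := (Submodule.mem_iSup_of_directed _ hdir).1 hx
  exact ⟨j, y, hy⟩

end JointSurj

section Colim

variable {A : Type u} [CommRing A] (I : Ideal A)

/-- the diagram defining `HDI`. -/
noncomputable abbrev FD (Y : Dual.D A) (q : ℤ) : ℕᵒᵖᵒᵖ ⥤ ModuleCat.{u + 1} A :=
  (localCohomology.ringModIdeals (localCohomology.idealPowersDiagram I) ⋙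
      DerivedCategory.singleFunctor (ModuleCat.{u} A) 0).op ⋙ (linearYoneda A (Dual.D A)).obj (Y⟦q⟧)

variable (J : CochainComplex (ModuleCat.{u} A) ℤ) [J.IsKInjective] (q : ℤ)

lemma FD_map_apply {j j' : ℕᵒᵖᵒᵖ} (f : j ⟶ j') (Y : Dual.D A)
    (u : (DerivedCategory.singleFunctor (ModuleCat.{u} A) 0).obj
      (ModuleCat.of A (A ⧸ I ^ j.unop.unop)) ⟶ Y⟦q⟧) :
    ((FD I Y q).map f).hom u =
      (DerivedCategory.singleFunctor (ModuleCat.{u} A) 0).map (ρq I (leOfHom f.unop.unop)) ≫ u :=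
  rfl

/-- the cocone of class maps. -/
noncomputable def cc : Cocone (FD I ((Q : _ ⥤ Dual.D A).obj J) q) where
  pt := ModuleCat.of A (ULift.{u + 1} (Hq I J q))
  ι :=
    { app := fun j => ModuleCat.ofHom
        (ULift.moduleEquiv.symm.toLinearMap ∘ₗ cLin I J q j.unop.unop)
      naturality := fun j j' f => by
        apply ModuleCat.hom_ext
        apply LinearMap.ext
        intro u
        have h := cLin_compat I J q (leOfHom f.unop.unop) u
        exact congrArg ULift.up h }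

/-- the comparison map `colim_n Hom(A/I^n, Q(J)[q]) → H^q(Γ_I J)`. -/
noncomputable def Φ : colimit (FD I ((Q : _ ⥤ Dual.D A).obj J) q) ⟶ (cc I J q).pt :=
  colimit.desc _ (cc I J q)

lemma Φ_ι (j : ℕᵒᵖᵒᵖ) (u : (FD I ((Q : _ ⥤ Dual.D A).obj J) q).obj j) :
    (Φ I J q).hom ((colimit.ι (FD I ((Q : _ ⥤ Dual.D A).obj J) q) j).hom u) =
      ULift.up (cLin I J q j.unop.unop u) := by
  have h := colimit.ι_desc (cc I J q) j
  exact congrArg (fun t => t.hom u) h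

lemma Φ_surjective : Function.Surjective (Φ I J q).hom := by
  rintro ⟨h⟩
  obtain ⟨n, u, rfl⟩ := cLin_surjective I J q h
  exact ⟨(colimit.ι (FD I ((Q : _ ⥤ Dual.D A).obj J) q) (Opposite.op (Opposite.op n))).hom u,
    Φ_ι I J q (Opposite.op (Opposite.op n)) u⟩

lemma Φ_injective : Function.Injective (Φ I J q).hom := by
  rw [injective_iff_map_eq_zero]
  intro x hx
  obtain ⟨j, u, rfl⟩ := colimit_jointly_surjective (FD I ((Q : _ ⥤ Dual.D A).obj J) q) x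
  rw [Φ_ι] at hx
  have hu : cLin I J q j.unop.unop u = 0 := congrArg ULift.down hx
  obtain ⟨m, hnm, hm⟩ := cLin_eq_zero I J q j.unop.unop u hu
  let f : j ⟶ Opposite.op (Opposite.op m) := (homOfLE hnm).op.op
  have h1 := colimit.w (FD I ((Q : _ ⥤ Dual.D A).obj J) q) f
  have h2 : (colimit.ι (FD I ((Q : _ ⥤ Dual.D A).obj J) q) j).hom u =
      (colimit.ι (FD I ((Q : _ ⥤ Dual.D A).obj J) q) (Opposite.op (Opposite.op m))).hom
        (((FD I ((Q : _ ⥤ Dual.D A).obj J) q).map f).hom u) :=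
    (congrArg (fun t => t.hom u) h1).symm
  rw [h2]
  have h3 : ((FD I ((Q : _ ⥤ Dual.D A).obj J) q).map f).hom u = 0 := hm
  exact (congrArg (colimit.ι (FD I ((Q : _ ⥤ Dual.D A).obj J) q)
    (Opposite.op (Opposite.op m))).hom h3).trans (map_zero _)

/-- `colim_n Hom(A/I^n, Q(J)[q]) ≃ H^q(Γ_I J)`. -/
noncomputable def ΦEquiv :
    (colimit (FD I ((Q : _ ⥤ Dual.D A).obj J) q) : ModuleCat.{u + 1} A) ≃ₗ[A] Hq I J q :=
  (LinearEquiv.ofBijective (Φ I J q).hom ⟨Φ_injective I J q, Φ_surjective I J q⟩).trans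
    ULift.moduleEquiv

end Colim

section Final

variable {A : Type u} [CommRing A] (I : Ideal A)

/-- the cohomology of `Q(C)` as an explicit subquotient. -/
noncomputable def homologyEquiv (C : CochainComplex (ModuleCat.{u} A) ℤ) (q : ℤ) :
    Dual.HD A ((Q : _ ⥤ Dual.D A).obj C) q ≃ₗ[A]
      (LinearMap.ker (scI C q).g.hom ⧸ LinearMap.range (scI C q).moduleCatToCycles) :=
  (((DerivedCategory.homologyFunctorFactors (ModuleCat.{u} A) q).app C) ≪≫
    C.homologyIsoSc' (q - 1) q (q + 1) (by simp) (by simp) ≪≫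
      (scI C q).moduleCatHomologyIso).toLinearEquiv

/-- `H^q(RΓ_I K) ≃ colim_n Hom_{D(A)}(A/I^n, K[q])`. -/
theorem HD_RgammaI_equiv_HDI [DRing.HasRgammaI I] (K : Dual.D A) (q : ℤ) :
    Nonempty (Dual.HD A ((DRing.RgammaI I).obj K) q ≃ₗ[A] Dual2.HDI A I K q) := by
  obtain ⟨J, hJ, ⟨e⟩⟩ := exists_fibrant K
  haveI : J.IsKInjective := hJ.isKInjective
  let e1 : Dual.HD A ((DRing.RgammaI I).obj K) q ≃ₗ[A]
      Dual.HD A ((Q : _ ⥤ Dual.D A).obj ((gammaCx I).obj J)) q :=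
    ((DerivedCategory.homologyFunctor (ModuleCat.{u} A) q).mapIso
      ((DRing.RgammaI I).mapIso e ≪≫ RgammaQIso I J hJ)).toLinearEquiv
  let e2 := homologyEquiv ((gammaCx I).obj J) q
  let e3 : (Dual2.HDI A I K q) ≃ₗ[A]
      (colimit (FD I ((Q : _ ⥤ Dual.D A).obj J) q) : ModuleCat.{u + 1} A) :=
    (HasColimit.isoOfNatIso (Functor.isoWhiskerLeft _
      ((linearYoneda A (Dual.D A)).mapIso
        ((CategoryTheory.shiftFunctor (Dual.D A) q).mapIso e)))).toLinearEquiv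
  exact ⟨(e1.trans e2).trans ((e3.trans (ΦEquiv I J q)).symm)⟩

end Final

end Groth.Agent.Lib.T2H4.RGam
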