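import Groth.Agent.Lib.Helper1ExtCech4
import Groth.Agent.Lib.T2H4HDI

/-!
# Operators satisfying the Leibniz rule on local cohomology

For a derivation `θ` of `A`, additive operators `D` on `A`-modules with
`D (a • x) = θ a • x + a • D x` correspond to linear sections of the twisted dual-number module.
They localise (universal property), pass to mapping cocones, hence to the extended Čech complex
and to its cohomology, which is local cohomology over a Noetherian ring.
-/

set_option autoImplicit false
universe u v w
open CategoryTheory CategoryTheory.Limits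

namespace Groth.Agent.Lib.T2H4.DerOp

section Tw

variable {A : Type u} [CommRing A] (θ : Derivation ℤ A A)

/-- an additive operator satisfying the Leibniz rule with respect to `θ`. -/
structure ModOp (M : Type u) [AddCommGroup M] [Module A M] where
  D : M →+ M
  leib : ∀ (a : A) (x : M), D (a • x) = θ a • x + a • D x

/-- `M ⊕ Mε` with the `A`-module structure twisted by `θ`. -/
def Tw (_θ : Derivation ℤ A A) (M : Type u) : Type u := M × M

variable (M : Type u) [AddCommGroup M] [Module A M]

instance : AddCommGroup (Tw θ M) := inferInstanceAs (AddCommGroup (M × M))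

omit [AddCommGroup M] [Module A M] in
@[ext]
lemma Tw.ext' {p q : Tw θ M} (h1 : p.1 = q.1) (h2 : p.2 = q.2) : p = q := Prod.ext h1 h2

omit [Module A M] in
lemma Tw.add_fst (p q : Tw θ M) : (p + q).1 = p.1 + q.1 := rfl
omit [Module A M] in
lemma Tw.add_snd (p q : Tw θ M) : (p + q).2 = p.2 + q.2 := rfl
omit [Module A M] in
lemma Tw.zero_fst : (0 : Tw θ M).1 = 0 := rfl
omit [Module A M] in
lemma Tw.zero_snd : (0 : Tw θ M).2 = 0 := rfl

instance : SMul A (Tw θ M) := ⟨fun a p => (a • p.1, a • p.2 + θ a • p.1)⟩

lemma Tw.smul_fst (a : A) (p : Tw θ M) : (a • p).1 = a • p.1 := rfl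
lemma Tw.smul_snd (a : A) (p : Tw θ M) : (a • p).2 = a • p.2 + θ a • p.1 := rfl

instance : Module A (Tw θ M) where
  one_smul p := by
    ext
    · rw [Tw.smul_fst, one_smul]
    · rw [Tw.smul_snd, one_smul, Derivation.map_one_eq_zero, zero_smul, add_zero]
  mul_smul a b p := by
    ext
    · rw [Tw.smul_fst, Tw.smul_fst, Tw.smul_fst, mul_smul]
    · rw [Tw.smul_snd, Tw.smul_snd, Tw.smul_snd, Tw.smul_fst, Derivation.leibniz, smul_add,
        add_smul, mul_smul, smul_eq_mul, smul_eq_mul, mul_smul, mul_smul, smul_comm b (θ a)]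
      abel
  smul_zero a := by
    ext
    · rw [Tw.smul_fst, Tw.zero_fst, smul_zero]
    · rw [Tw.smul_snd, Tw.zero_snd, Tw.zero_fst, smul_zero, smul_zero, add_zero]
  smul_add a p q := by
    ext
    · rw [Tw.smul_fst, Tw.add_fst, Tw.add_fst, Tw.smul_fst, Tw.smul_fst, smul_add]
    · rw [Tw.smul_snd, Tw.add_snd, Tw.add_snd, Tw.add_fst, Tw.smul_snd, Tw.smul_snd, smul_add,
        smul_add]
      abel
  add_smul a b p := by
    ext
    · rw [Tw.smul_fst, Tw.add_fst, Tw.smul_fst, Tw.smul_fst, add_smul]
    · rw [Tw.smul_snd, Tw.add_snd, Tw.smul_snd, Tw.smul_snd, add_smul, map_add, add_smul]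
      abel
  zero_smul p := by
    ext
    · rw [Tw.smul_fst, zero_smul, Tw.zero_fst]
    · rw [Tw.smul_snd, zero_smul, map_zero, zero_smul, add_zero, Tw.zero_snd]

variable {M}

/-- first projection. -/
def Tw.fstL : Tw θ M →ₗ[A] M where
  toFun p := p.1
  map_add' _ _ := rfl
  map_smul' _ _ := rfl

variable {N : Type u} [AddCommGroup N] [Module A N]

/-- functoriality. -/
def Tw.mapL (g : M →ₗ[A] N) : Tw θ M →ₗ[A] Tw θ N where
  toFun p := (g p.1, g p.2)
  map_add' p q := by
    ext
    · exact g.map_add p.1 q.1
    · exact g.map_add p.2 q.2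
  map_smul' a p := by
    ext
    · exact g.map_smul a p.1
    · show g (a • p.2 + θ a • p.1) = a • g p.2 + θ a • g p.1
      rw [map_add, map_smul, map_smul]

variable {θ}

/-- the linear section attached to an operator. -/
def ModOp.toLin (d : ModOp θ M) : M →ₗ[A] Tw θ M where
  toFun m := (m, d.D m)
  map_add' m m' := by
    ext
    · rfl
    · exact d.D.map_add m m'
  map_smul' a m := by
    ext
    · rfl
    · show d.D (a • m) = a • d.D m + θ a • m
      rw [d.leib, add_comm]

end Tw

section Loc

variable {A : Type u} [CommRing A] {θ : Derivation ℤ A A} (S : Submonoid A)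
  {M : Type u} [AddCommGroup M] [Module A M]

lemma bijective_smul_localizedModule (s : S) :
    Function.Bijective (fun x : LocalizedModule S M => (s : A) • x) := by
  have h := IsLocalizedModule.map_units (LocalizedModule.mkLinearMap S M) s
  rw [Module.End.isUnit_iff] at h
  exact h

lemma isUnit_smul_Tw (s : S) :
    IsUnit (algebraMap A (Module.End A (Tw θ (LocalizedModule S M))) s) := by
  rw [Module.End.isUnit_iff]
  have hb := bijective_smul_localizedModule (M := M) S s
  constructor
  · intro p q hpq
    have h1 : (s : A) • p = (s : A) • q := hpq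
    have h2 : (s : A) • p.1 = (s : A) • q.1 := congrArg (fun t : Tw θ (LocalizedModule S M) => t.1) h1
    have h3 : p.1 = q.1 := hb.1 h2
    have h4 : (s : A) • p.2 + θ (s : A) • p.1 = (s : A) • q.2 + θ (s : A) • q.1 :=
      congrArg (fun t : Tw θ (LocalizedModule S M) => t.2) h1
    rw [h3] at h4
    have h5 : p.2 = q.2 := hb.1 (add_right_cancel h4)
    exact Tw.ext' θ _ h3 h5
  · intro q
    obtain ⟨x, hx⟩ := hb.2 q.1
    obtain ⟨y, hy⟩ := hb.2 (q.2 - θ (s : A) • x)
    refine ⟨(x, y), Tw.ext' θ _ ?_ ?_⟩
    · exact hx
    · show (s : A) • y + θ (s : A) • x = q.2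
      have hy' : (s : A) • y = q.2 - θ (s : A) • x := hy
      rw [hy']
      abel

/-- the lifted linear section on the localisation. -/
noncomputable def locLin (d : ModOp θ M) : LocalizedModule S M →ₗ[A] Tw θ (LocalizedModule S M) :=
  IsLocalizedModule.lift S (LocalizedModule.mkLinearMap S M)
    ((Tw.mapL θ (LocalizedModule.mkLinearMap S M)).comp d.toLin) (isUnit_smul_Tw S)

lemma locLin_mk (d : ModOp θ M) (m : M) :
    locLin S d (LocalizedModule.mkLinearMap S M m) =
      (LocalizedModule.mkLinearMap S M m, LocalizedModule.mkLinearMap S M (d.D m)) :=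
  IsLocalizedModule.lift_apply S (LocalizedModule.mkLinearMap S M) _ _ m

lemma locLin_fst (d : ModOp θ M) (x : LocalizedModule S M) : (locLin S d x).1 = x := by
  have h : (Tw.fstL θ).comp (locLin S d) = LinearMap.id := by
    apply IsLocalizedModule.ext S (LocalizedModule.mkLinearMap S M)
      (IsLocalizedModule.map_units (LocalizedModule.mkLinearMap S M))
    apply LinearMap.ext
    intro m
    show (locLin S d (LocalizedModule.mkLinearMap S M m)).1 = LocalizedModule.mkLinearMap S M m
    rw [locLin_mk]
  exact LinearMap.congr_fun h x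

/-- the operator induced on the localisation. -/
noncomputable def locOp (d : ModOp θ M) : ModOp θ (LocalizedModule S M) where
  D :=
    { toFun := fun x => (locLin S d x).2
      map_zero' := by rw [map_zero]; rfl
      map_add' := fun x y => by rw [map_add]; rfl }
  leib a x := by
    show (locLin S d (a • x)).2 = θ a • x + a • (locLin S d x).2
    rw [map_smul, Tw.smul_snd, locLin_fst, add_comm]

lemma locOp_mk (d : ModOp θ M) (m : M) :
    (locOp S d).D (LocalizedModule.mkLinearMap S M m) =
      LocalizedModule.mkLinearMap S M (d.D m) := by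
  show (locLin S d (LocalizedModule.mkLinearMap S M m)).2 = _
  rw [locLin_mk]

variable {N : Type u} [AddCommGroup N] [Module A N]

lemma locOp_map (d : ModOp θ M) (e : ModOp θ N) (g : M →ₗ[A] N)
    (hg : ∀ m, e.D (g m) = g (d.D m)) (x : LocalizedModule S M) :
    (locOp S e).D (IsLocalizedModule.map S (LocalizedModule.mkLinearMap S M)
        (LocalizedModule.mkLinearMap S N) g x) =
      IsLocalizedModule.map S (LocalizedModule.mkLinearMap S M)
        (LocalizedModule.mkLinearMap S N) g ((locOp S d).D x) := by
  have h : (locLin S e).comp (IsLocalizedModule.map S (LocalizedModule.mkLinearMap S M)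
        (LocalizedModule.mkLinearMap S N) g) =
      (Tw.mapL θ (IsLocalizedModule.map S (LocalizedModule.mkLinearMap S M)
        (LocalizedModule.mkLinearMap S N) g)).comp (locLin S d) := by
    apply IsLocalizedModule.ext S (LocalizedModule.mkLinearMap S M) (isUnit_smul_Tw S)
    apply LinearMap.ext
    intro m
    show locLin S e (IsLocalizedModule.map S (LocalizedModule.mkLinearMap S M)
        (LocalizedModule.mkLinearMap S N) g (LocalizedModule.mkLinearMap S M m)) =
      Tw.mapL θ (IsLocalizedModule.map S (LocalizedModule.mkLinearMap S M)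
        (LocalizedModule.mkLinearMap S N) g) (locLin S d (LocalizedModule.mkLinearMap S M m))
    rw [IsLocalizedModule.map_apply, locLin_mk, locLin_mk]
    ext
    · show LocalizedModule.mkLinearMap S N (g m) = IsLocalizedModule.map S
        (LocalizedModule.mkLinearMap S M) (LocalizedModule.mkLinearMap S N) g
          (LocalizedModule.mkLinearMap S M m)
      rw [IsLocalizedModule.map_apply]
    · show LocalizedModule.mkLinearMap S N (e.D (g m)) = IsLocalizedModule.map S
        (LocalizedModule.mkLinearMap S M) (LocalizedModule.mkLinearMap S N) g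
          (LocalizedModule.mkLinearMap S M (d.D m))
      rw [IsLocalizedModule.map_apply, hg]
  exact congrArg (fun t : Tw θ (LocalizedModule S N) => t.2) (LinearMap.congr_fun h x)

end Loc

section Basic

variable {A : Type u} [CommRing A] {θ : Derivation ℤ A A}
  {M N : Type u} [AddCommGroup M] [Module A M] [AddCommGroup N] [Module A N]

/-- transport along a linear equivalence. -/
def ModOp.ofEquiv (d : ModOp θ M) (e : M ≃ₗ[A] N) : ModOp θ N where
  D := (e.toLinearMap.toAddMonoidHom.comp d.D).comp e.symm.toLinearMap.toAddMonoidHom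
  leib a x := by
    show e (d.D (e.symm (a • x))) = θ a • x + a • e (d.D (e.symm x))
    rw [map_smul, d.leib, map_add, map_smul, map_smul, LinearEquiv.apply_symm_apply]

/-- the zero operator on a trivial module. -/
def ModOp.ofSubsingleton [Subsingleton M] : ModOp θ M where
  D := 0
  leib _ _ := Subsingleton.elim _ _

/-- a derivation is an operator on the ring itself. -/
def ModOp.self (θ : Derivation ℤ A A) : ModOp θ A where
  D := (θ : A →ₗ[ℤ] A).toAddMonoidHom
  leib a x := by
    show θ (a • x) = θ a • x + a • θ x
    rw [smul_eq_mul, Derivation.leibniz, smul_eq_mul, smul_eq_mul, smul_eq_mul, mul_comm x,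
      add_comm]

end Basic

section Cx

open CochainComplex HomComplex DerCA Groth.Agent.Lib.Helper1.ExtCech4

variable {A : Type u} [CommRing A] (θ : Derivation ℤ A A)

/-- a `θ`-operator on a complex: termwise operators commuting with the differential. -/
structure CxOp (K : DRing.Cx A) where
  D : ∀ n : ℤ, ModOp θ (K.X n)
  comm : ∀ (n m : ℤ) (x : K.X n), (D m).D ((K.d n m).hom x) = (K.d n m).hom ((D n).D x)

variable {θ}

/-- the operator on `M[0]`. -/
noncomputable def singleOp (M : ModuleCat.{u} A) (d : ModOp θ M) :
    CxOp θ ((HomologicalComplex.single (ModuleCat.{u} A) (ComplexShape.up ℤ) 0).obj M) where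
  D n :=
    if h : n = 0 then
      d.ofEquiv (HomologicalComplex.singleObjXIsoOfEq (ComplexShape.up ℤ) 0 M n h).symm.toLinearEquiv
    else
      haveI := ModuleCat.subsingleton_of_isZero
        (HomologicalComplex.isZero_single_obj_X (ComplexShape.up ℤ) 0 M n h)
      ModOp.ofSubsingleton
  comm n m x := by
    rw [HomologicalComplex.single_obj_d]
    simp only [ModuleCat.hom_zero, LinearMap.zero_apply, map_zero]

/-- the operator on the termwise localisation. -/
noncomputable def CxOp.loc (S : Submonoid A) {K : DRing.Cx A} (c : CxOp θ K) :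
    CxOp θ ((locCx S).obj K) where
  D n := locOp S (c.D n)
  comm n m x := locOp_map S (c.D n) (c.D m) (K.d n m).hom (c.comm n m) x

lemma CxOp.loc_unit (S : Submonoid A) {K : DRing.Cx A} (c : CxOp θ K) (n : ℤ) (x : K.X n) :
    ((c.loc S).D n).D (((locCxUnit S K).f n).hom x) = ((locCxUnit S K).f n).hom ((c.D n).D x) :=
  locOp_mk S (c.D n) x

section Coc

variable {K L : DRing.Cx A} (φ : K ⟶ L)

set_option backward.defeqAttrib.useBackward true in
set_option backward.isDefEq.respectTransparency false in
lemma coc_d_snd (p p' q : ℤ) (hpp' : p + 1 = p') (hpq : p + -1 = q) :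
    (mappingCocone φ).d p p' ≫ (mappingCocone.snd φ).v p' p (by omega) =
      -((mappingCocone.fst φ).f p ≫ φ.f p) - (mappingCocone.snd φ).v p q hpq ≫ L.d q p := by
  subst hpp' hpq
  have h := mappingCone.d_snd_v φ (p + -1) p (by omega)
  simp [mappingCocone, mappingCocone.snd, mappingCocone.fst,
    Cochain.leftShift_v (n := 1) _ _ _ _ _ p _ (p + -1) (by lia),
    Cochain.leftShift_v (n := 0) _ (-1) (-1) (zero_add _) p (p + -1) rfl (p + -1) (add_zero _),
    Cochain.leftShift_v (n := 0) _ (-1) (-1) (zero_add _) (p + 1) p (by lia) p (by lia)]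
  rw [Int.negOnePow_even 2 ⟨1, rfl⟩, one_smul, one_smul, h]
  abel

lemma coc_d_snd_apply (p p' q : ℤ) (hpp' : p + 1 = p') (hpq : p + -1 = q)
    (x : (mappingCocone φ).X p) :
    ((mappingCocone.snd φ).v p' p (by omega)).hom (((mappingCocone φ).d p p').hom x) =
      -(φ.f p).hom (((mappingCocone.fst φ).f p).hom x) -
        (L.d q p).hom (((mappingCocone.snd φ).v p q hpq).hom x) := by
  have h := congrArg (fun t => t.hom x) (coc_d_snd φ p p' q hpp' hpq)
  simpa using h

lemma coc_d_fst_apply (p p' : ℤ) (x : (mappingCocone φ).X p) :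
    ((mappingCocone.fst φ).f p').hom (((mappingCocone φ).d p p').hom x) =
      (K.d p p').hom (((mappingCocone.fst φ).f p).hom x) := by
  exact (congrArg (fun t => t.hom x) ((mappingCocone.fst φ).comm p p')).symm

lemma fst_inl (p : ℤ) (u : K.X p) :
    ((mappingCocone.fst φ).f p).hom (((mappingCocone.inl φ).v p p (add_zero p)).hom u) = u := by
  exact congrArg (fun t => t.hom u) (mappingCocone.inl_v_fst_f φ p)

lemma fst_inr (p q : ℤ) (hpq : p + -1 = q) (v : L.X q) :
    ((mappingCocone.fst φ).f p).hom (((mappingCocone.inr φ).1.v q p (by omega)).hom v) = 0 := by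
  exact congrArg (fun t => t.hom v) (mappingCocone.inr_v_fst_f φ q p (by omega))

lemma snd_inl (p q : ℤ) (hpq : p + -1 = q) (u : K.X p) :
    ((mappingCocone.snd φ).v p q hpq).hom (((mappingCocone.inl φ).v p p (add_zero p)).hom u) =
      0 := by
  exact congrArg (fun t => t.hom u) (mappingCocone.inl_v_snd_v φ p q hpq)

lemma snd_inr (p q : ℤ) (hpq : p + -1 = q) (v : L.X q) :
    ((mappingCocone.snd φ).v p q hpq).hom (((mappingCocone.inr φ).1.v q p (by omega)).hom v) =
      v := by
  exact congrArg (fun t => t.hom v) (mappingCocone.inr_v_snd_v φ q p (by omega))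

variable (cK : CxOp θ K) (cL : CxOp θ L)

/-- the componentwise operator on the mapping cocone. -/
noncomputable def cocD (p : ℤ) : (mappingCocone φ).X p →+ (mappingCocone φ).X p :=
  (((mappingCocone.inl φ).v p p (add_zero p)).hom.toAddMonoidHom.comp
      ((cK.D p).D.comp ((mappingCocone.fst φ).f p).hom.toAddMonoidHom)) +
    (((mappingCocone.inr φ).1.v (p + -1) p (by omega)).hom.toAddMonoidHom.comp
      ((cL.D (p + -1)).D.comp ((mappingCocone.snd φ).v p (p + -1) rfl).hom.toAddMonoidHom))

lemma cocD_apply (p : ℤ) (x : (mappingCocone φ).X p) :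
    cocD φ cK cL p x =
      ((mappingCocone.inl φ).v p p (add_zero p)).hom
          ((cK.D p).D (((mappingCocone.fst φ).f p).hom x)) +
        ((mappingCocone.inr φ).1.v (p + -1) p (by omega)).hom
          ((cL.D (p + -1)).D (((mappingCocone.snd φ).v p (p + -1) rfl).hom x)) := rfl

lemma fst_cocD (p : ℤ) (x : (mappingCocone φ).X p) :
    ((mappingCocone.fst φ).f p).hom (cocD φ cK cL p x) =
      (cK.D p).D (((mappingCocone.fst φ).f p).hom x) := by
  rw [cocD_apply, map_add, fst_inl, fst_inr φ p (p + -1) rfl, add_zero]

lemma snd_cocD (p q : ℤ) (hpq : p + -1 = q) (x : (mappingCocone φ).X p) :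
    ((mappingCocone.snd φ).v p q hpq).hom (cocD φ cK cL p x) =
      (cL.D q).D (((mappingCocone.snd φ).v p q hpq).hom x) := by
  subst hpq
  rw [cocD_apply, map_add, snd_inl, snd_inr, zero_add]

/-- the operator on the mapping cocone of a compatible map. -/
noncomputable def cocOp
    (hφ : ∀ (n : ℤ) (x : K.X n), (cL.D n).D ((φ.f n).hom x) = (φ.f n).hom ((cK.D n).D x)) :
    CxOp θ (mappingCocone φ) where
  D p :=
    { D := cocD φ cK cL p
      leib := fun a x => by
        have hx := coc_decomp φ p (p + -1) rfl x
        have hx' : x = ((mappingCocone.inl φ).v p p (add_zero p)).hom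
            (((mappingCocone.fst φ).f p).hom x) +
            ((mappingCocone.inr φ).1.v (p + -1) p (by omega)).hom
              (((mappingCocone.snd φ).v p (p + -1) rfl).hom x) := hx
        have e1 : ((mappingCocone.fst φ).f p).hom (a • x) =
            a • ((mappingCocone.fst φ).f p).hom x := map_smul _ _ _
        have e2 : ((mappingCocone.snd φ).v p (p + -1) rfl).hom (a • x) =
            a • ((mappingCocone.snd φ).v p (p + -1) rfl).hom x := map_smul _ _ _
        have key : θ a • x = θ a • (((mappingCocone.inl φ).v p p (add_zero p)).hom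
            (((mappingCocone.fst φ).f p).hom x)) +
            θ a • (((mappingCocone.inr φ).1.v (p + -1) p (by omega)).hom
              (((mappingCocone.snd φ).v p (p + -1) rfl).hom x)) := by
          rw [← smul_add]
          exact congrArg (fun t => θ a • t) hx'
        rw [cocD_apply, cocD_apply, e1, e2, (cK.D p).leib, (cL.D (p + -1)).leib,
          map_add, map_add, map_smul, map_smul, map_smul, map_smul, key, smul_add]
        abel }
  comm n m x := by
    by_cases hnm : n + 1 = m
    · apply coc_ext φ m n (by omega)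
      · show ((mappingCocone.fst φ).f m).hom (cocD φ cK cL m (((mappingCocone φ).d n m).hom x)) =
          ((mappingCocone.fst φ).f m).hom (((mappingCocone φ).d n m).hom (cocD φ cK cL n x))
        rw [fst_cocD, coc_d_fst_apply, coc_d_fst_apply, fst_cocD, cK.comm]
      · show ((mappingCocone.snd φ).v m n (by omega)).hom
            (cocD φ cK cL m (((mappingCocone φ).d n m).hom x)) =
          ((mappingCocone.snd φ).v m n (by omega)).hom
            (((mappingCocone φ).d n m).hom (cocD φ cK cL n x))
        rw [snd_cocD, coc_d_snd_apply φ n m (n + -1) hnm rfl,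
          coc_d_snd_apply φ n m (n + -1) hnm rfl, fst_cocD, snd_cocD, map_sub, map_neg, hφ,
          cL.comm]
    · have h0 : (mappingCocone φ).d n m = 0 := HomologicalComplex.shape _ n m hnm
      rw [h0]
      simp only [ModuleCat.hom_zero, LinearMap.zero_apply, map_zero]

end Coc

/-- the operator on the extended Čech complex. -/
noncomputable def extCechOp (M : ModuleCat.{u} A) (d : ModOp θ M) :
    ∀ fs : List A, CxOp θ (extCech M fs)
  | [] => singleOp M d
  | f :: fs =>
    cocOp (locCxUnit (Submonoid.powers f) (extCech M fs)) (extCechOp M d fs)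
      ((extCechOp M d fs).loc (Submonoid.powers f))
      (fun n x => CxOp.loc_unit (Submonoid.powers f) (extCechOp M d fs) n x)

end Cx

section Homology

variable {A : Type u} [CommRing A] {θ : Derivation ℤ A A}

/-- restriction of an operator to a stable submodule. -/
def ModOp.restrict {M : Type u} [AddCommGroup M] [Module A M] (d : ModOp θ M)
    (P : Submodule A M) (h : ∀ x ∈ P, d.D x ∈ P) : ModOp θ P where
  D :=
    { toFun := fun x => ⟨d.D x.1, h x.1 x.2⟩
      map_zero' := Subtype.ext (map_zero d.D)
      map_add' := fun x y => Subtype.ext (map_add d.D x.1 y.1) }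
  leib a x := Subtype.ext (d.leib a x.1)

/-- descent of an operator to the quotient by a stable submodule. -/
def ModOp.quot {M : Type u} [AddCommGroup M] [Module A M] (d : ModOp θ M)
    (P : Submodule A M) (h : ∀ x ∈ P, d.D x ∈ P) : ModOp θ (M ⧸ P) where
  D := QuotientAddGroup.map P.toAddSubgroup P.toAddSubgroup d.D h
  leib a y := by
    obtain ⟨x, rfl⟩ := Submodule.Quotient.mk_surjective P y
    show Submodule.Quotient.mk (d.D (a • x)) = θ a • Submodule.Quotient.mk x +
      a • Submodule.Quotient.mk (d.D x)
    rw [d.leib, Submodule.Quotient.mk_add, Submodule.Quotient.mk_smul,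
      Submodule.Quotient.mk_smul]

/-- the operator induced on cohomology. -/
noncomputable def CxOp.homologyOp {K : DRing.Cx A} (c : CxOp θ K) (q : ℤ) :
    ModOp θ (K.homology q) :=
  (((c.D q).restrict (LinearMap.ker (K.sc' (q - 1) q (q + 1)).g.hom) (fun x hx => by
      show (K.d q (q + 1)).hom ((c.D q).D x) = 0
      rw [← c.comm]
      have hx' : (K.d q (q + 1)).hom x = 0 := hx
      rw [hx', map_zero])).quot
    (LinearMap.range (K.sc' (q - 1) q (q + 1)).moduleCatToCycles) (by
      rintro x ⟨y, rfl⟩
      refine ⟨(c.D (q - 1)).D y, ?_⟩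
      apply Subtype.ext
      exact (c.comm (q - 1) q y).symm)).ofEquiv
    ((K.homologyIsoSc' (q - 1) q (q + 1) (by simp) (by simp) ≪≫
      (K.sc' (q - 1) q (q + 1)).moduleCatHomologyIso).toLinearEquiv).symm

end Homology

section Main

open DerCA

variable (A : Type u) [CommRing A] [IsNoetherianRing A]

theorem exists_operator_localCohomology (I : Ideal A) (θ : Derivation ℤ A A) (i : ℕ) :
    ∃ D : LocCoh.H I i A →+ LocCoh.H I i A,
      ∀ (a : A) (ξ : LocCoh.H I i A), D (a • ξ) = θ a • ξ + a • D ξ := by
  classical
  obtain ⟨s, hs⟩ := (isNoetherianRing_iff_ideal_fg A).1 inferInstance I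
  have hspan : Ideal.span {a : A | a ∈ s.toList} = I := by
    rw [← hs]
    congr 1
    ext a
    simp
  subst hspan
  obtain ⟨e⟩ := Groth.Agent.Lib.Helper1.ExtCech4.nonempty_iso s.toList (ModuleCat.of A A) i
  let d : ModOp θ ((localCohomology (Ideal.span {a : A | a ∈ s.toList}) i).obj
      (ModuleCat.of A A)) :=
    ((extCechOp (ModuleCat.of A A) (ModOp.self θ) s.toList).homologyOp (i : ℤ)).ofEquiv
      e.toLinearEquiv
  exact ⟨d.D, d.leib⟩

end Main

end Groth.Agent.Lib.T2H4.DerOp
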