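import Mathlib

/-!
# `p`-adic completion of a `p`-torsion-free ring, and the `p`-adic dilatation algebra
-/

set_option autoImplicit false
universe u

namespace Groth.Agent.Lib.T2H4.Dilatation

open AdicCompletion

theorem regular_of_mul_eq_zero {R : Type u} [CommRing R] (c : R) (h : ∀ x, c * x = 0 → x = 0) :
    IsSMulRegular R c := by
  intro x y hxy
  have h1 : c * (x - y) = 0 := by rw [mul_sub]; exact sub_eq_zero.2 hxy
  exact sub_eq_zero.1 (h _ h1)

theorem mul_eq_zero_of_regular {R : Type u} [CommRing R] (c : R) (h : IsSMulRegular R c) (x : R)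
    (hx : c * x = 0) : x = 0 := by
  apply h
  change c * x = c * 0
  rw [hx, mul_zero]

section Completion

variable (p : ℕ) {R : Type u} [CommRing R]

theorem mem_pow_iff (m : ℕ) (x : R) :
    x ∈ (Ideal.span {(p : R)}) ^ m ↔ ∃ z, x = (p : R) ^ m * z := by
  rw [Ideal.span_singleton_pow, Ideal.mem_span_singleton']
  constructor
  · rintro ⟨a, rfl⟩; exact ⟨a, mul_comm _ _⟩
  · rintro ⟨z, rfl⟩; exact ⟨z, mul_comm _ _⟩

theorem regular_pow (hR : IsSMulRegular R (p : R)) (m : ℕ) : IsSMulRegular R ((p : R) ^ m) :=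
  hR.pow m

/-- The completion of a `p`-torsion-free ring is `p`-torsion-free. -/
theorem regular_completion (hR : IsSMulRegular R (p : R)) :
    IsSMulRegular (AdicCompletion (Ideal.span {(p : R)}) R)
      (p : AdicCompletion (Ideal.span {(p : R)}) R) := by
  apply regular_of_mul_eq_zero
  intro x hx
  obtain ⟨f, rfl⟩ := AdicCompletion.mk_surjective _ _ x
  apply AdicCompletion.ext_evalₐ
  intro m
  rw [_root_.map_zero, evalₐ_mk, Ideal.Quotient.eq_zero_iff_mem]
  have h1 := congrArg (evalₐ (Ideal.span {(p : R)}) (m + 1)) hx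
  rw [map_mul, map_natCast, _root_.map_zero, evalₐ_mk, ← map_natCast (Ideal.Quotient.mk _), ← map_mul,
    Ideal.Quotient.eq_zero_iff_mem, mem_pow_iff] at h1
  obtain ⟨z, hz⟩ := h1
  have h2 : f.val (m + 1) = (p : R) ^ m * z := by
    apply hR
    change (p : R) * f.val (m + 1) = (p : R) * ((p : R) ^ m * z)
    rw [hz]; ring
  have h3 : f.val (m + 1) ∈ (Ideal.span {(p : R)}) ^ m := (mem_pow_iff p m _).2 ⟨z, h2⟩
  have h4 := f.property (Nat.le_succ m)
  rw [SModEq.sub_mem] at h4
  have h5 : f.val m - f.val (m + 1) ∈ (Ideal.span {(p : R)}) ^ m := by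
    simpa using h4
  have := Ideal.add_mem _ h5 h3
  simpa using this

theorem span_fg : (Ideal.span {(p : R)}).FG := ⟨{(p : R)}, by simp⟩

theorem isAdicComplete_completion :
    IsAdicComplete (Ideal.span {(p : AdicCompletion (Ideal.span {(p : R)}) R)})
      (AdicCompletion (Ideal.span {(p : R)}) R) := by
  have h := AdicCompletion.isAdicComplete_self (Ideal.span {(p : R)}) (span_fg p)
  rwa [Ideal.map_span, Set.image_singleton, map_natCast] at h

theorem exists_approx (x : AdicCompletion (Ideal.span {(p : R)}) R) (m : ℕ) :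
    ∃ (y : R) (z : AdicCompletion (Ideal.span {(p : R)}) R),
      x = algebraMap R (AdicCompletion (Ideal.span {(p : R)}) R) y +
        (p : AdicCompletion (Ideal.span {(p : R)}) R) ^ m * z := by
  obtain ⟨f, rfl⟩ := AdicCompletion.mk_surjective _ _ x
  have hker : mk (Ideal.span {(p : R)}) R f - of (Ideal.span {(p : R)}) R (f.val m) ∈
      (eval (Ideal.span {(p : R)}) R m).ker := by
    rw [LinearMap.mem_ker, map_sub, sub_eq_zero]
    rfl
  rw [← pow_smul_top_eq_ker_eval (span_fg p), Ideal.span_singleton_pow,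
    Submodule.ideal_span_singleton_smul, Submodule.mem_smul_pointwise_iff_exists] at hker
  obtain ⟨z, -, hz⟩ := hker
  refine ⟨f.val m, z, ?_⟩
  rw [Algebra.smul_def, map_pow, map_natCast] at hz
  rw [hz, AdicCompletion.algebraMap_apply]
  simp

end Completion

section Construction

variable (p : ℕ) (A : Type u) [CommRing A] {n : ℕ} (a : Fin n → A)

/-- The ideal of relations `p Xᵢ = aᵢ`. -/
noncomputable def J : Ideal (MvPolynomial (Fin n) A) :=
  Ideal.span (Set.range fun i : Fin n =>
    (p : MvPolynomial (Fin n) A) * MvPolynomial.X i - MvPolynomial.C (a i))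

/-- The `p`-saturation of `J`. -/
noncomputable def Jsat : Ideal (MvPolynomial (Fin n) A) where
  carrier := {x | ∃ k : ℕ, (p : MvPolynomial (Fin n) A) ^ k * x ∈ J p A a}
  add_mem' := by
    rintro x y ⟨k, hk⟩ ⟨l, hl⟩
    refine ⟨k + l, ?_⟩
    have h1 : (p : MvPolynomial (Fin n) A) ^ (k + l) * (x + y) =
        (p : MvPolynomial (Fin n) A) ^ l * ((p : MvPolynomial (Fin n) A) ^ k * x) +
        (p : MvPolynomial (Fin n) A) ^ k * ((p : MvPolynomial (Fin n) A) ^ l * y) := by
      rw [pow_add]; ring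
    rw [h1]
    exact (J p A a).add_mem ((J p A a).mul_mem_left _ hk) ((J p A a).mul_mem_left _ hl)
  zero_mem' := ⟨0, by simp⟩
  smul_mem' := by
    rintro c x ⟨k, hk⟩
    exact ⟨k, by rw [smul_eq_mul, mul_left_comm]; exact (J p A a).mul_mem_left _ hk⟩

theorem J_le_Jsat : J p A a ≤ Jsat p A a := fun x hx => ⟨0, by simpa using hx⟩

/-- The torsion-free quotient. -/
abbrev D1 : Type u := MvPolynomial (Fin n) A ⧸ Jsat p A a

theorem D1_regular : IsSMulRegular (D1 p A a) (p : D1 p A a) := by
  refine regular_of_mul_eq_zero (R := D1 p A a) _ ?_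
  intro x hx
  obtain ⟨y, rfl⟩ := Ideal.Quotient.mk_surjective x
  rw [← map_natCast (Ideal.Quotient.mk (Jsat p A a)), ← map_mul,
    Ideal.Quotient.eq_zero_iff_mem] at hx
  obtain ⟨k, hk⟩ := hx
  rw [Ideal.Quotient.eq_zero_iff_mem]
  exact ⟨k + 1, by rw [pow_succ, mul_assoc]; exact hk⟩

/-- The dilatation algebra. -/
abbrev D : Type u := AdicCompletion (Ideal.span {(p : D1 p A a)}) (D1 p A a)

theorem D_complete : IsAdicComplete (Ideal.span {(p : D p A a)}) (D p A a) :=
  isAdicComplete_completion p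

theorem D_regular : IsSMulRegular (D p A a) (p : D p A a) :=
  regular_completion p (D1_regular p A a)

/-- The class of `Xᵢ` in `D1`. -/
noncomputable def xbar (i : Fin n) : D1 p A a :=
  Ideal.Quotient.mk (Jsat p A a) (MvPolynomial.X i)

theorem p_mul_xbar (i : Fin n) :
    (algebraMap A (D1 p A a)) (a i) = (p : D1 p A a) * xbar p A a i := by
  change Ideal.Quotient.mk (Jsat p A a) (MvPolynomial.C (a i)) = _
  unfold xbar
  rw [← map_natCast (Ideal.Quotient.mk (Jsat p A a)), ← map_mul, eq_comm, Ideal.Quotient.eq]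
  exact J_le_Jsat p A a (Ideal.subset_span ⟨i, rfl⟩)

theorem algebraMap_D (x : A) : algebraMap A (D p A a) x =
    (algebraMap (D1 p A a) (D p A a)) ((algebraMap A (D1 p A a)) x) := rfl

theorem D_div (i : Fin n) : algebraMap A (D p A a) (a i) ∈ Ideal.span {(p : D p A a)} := by
  rw [algebraMap_D, p_mul_xbar, map_mul, map_natCast]
  exact Ideal.mem_span_singleton'.2 ⟨_, mul_comm _ _⟩

end Construction

section Universal

variable (p : ℕ) (A : Type u) [CommRing A] {n : ℕ} (a : Fin n → A)
  (B : Type u) [CommRing B] [Algebra A B]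
  (hB : IsSMulRegular B (p : B)) (b : Fin n → B) (hb : ∀ i, algebraMap A B (a i) = (p : B) * b i)

include hb in
theorem aeval_J (y : MvPolynomial (Fin n) A) (hy : y ∈ J p A a) : MvPolynomial.aeval b y = 0 := by
  have : J p A a ≤ RingHom.ker (MvPolynomial.aeval b : MvPolynomial (Fin n) A →ₐ[A] B).toRingHom := by
    unfold J
    rw [Ideal.span_le]
    rintro _ ⟨i, rfl⟩
    change MvPolynomial.aeval b _ = 0
    rw [map_sub, map_mul, map_natCast, MvPolynomial.aeval_X, MvPolynomial.aeval_C, hb i, sub_self]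
  exact this hy

include hB hb in
theorem aeval_Jsat (y : MvPolynomial (Fin n) A) (hy : y ∈ Jsat p A a) :
    MvPolynomial.aeval b y = 0 := by
  obtain ⟨k, hk⟩ := hy
  have h2 := aeval_J p A a B b hb _ hk
  rw [map_mul, map_pow, map_natCast] at h2
  exact mul_eq_zero_of_regular _ (hB.pow k) _ h2

/-- The map `D1 → B`. -/
noncomputable def toB : D1 p A a →ₐ[A] B :=
  Ideal.Quotient.liftₐ (Jsat p A a) (MvPolynomial.aeval b) (aeval_Jsat p A a B hB b hb)

theorem toB_mk (y : MvPolynomial (Fin n) A) :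
    toB p A a B hB b hb (Ideal.Quotient.mk (Jsat p A a) y) = MvPolynomial.aeval b y := by
  unfold toB
  rw [Ideal.Quotient.liftₐ_apply, Ideal.Quotient.lift_mk]
  rfl

theorem toB_le (m : ℕ) : (Ideal.span {(p : D1 p A a)}) ^ m ≤
    ((Ideal.span {(p : B)}) ^ m).comap (toB p A a B hB b hb) := by
  intro x hx
  rw [mem_pow_iff] at hx
  obtain ⟨z, rfl⟩ := hx
  rw [Ideal.mem_comap, map_mul, map_pow, map_natCast, mem_pow_iff]
  exact ⟨_, rfl⟩

/-- The compatible family. -/
noncomputable def fam (m : ℕ) : D p A a →ₐ[A] B ⧸ (Ideal.span {(p : B)}) ^ m :=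
  (Ideal.quotientMapₐ ((Ideal.span {(p : B)}) ^ m) (toB p A a B hB b hb) (toB_le p A a B hB b hb m)).comp
    ((evalₐ (Ideal.span {(p : D1 p A a)}) m).restrictScalars A)

theorem fam_mk (m : ℕ) (s : AdicCauchySequence (Ideal.span {(p : D1 p A a)}) (D1 p A a)) :
    fam p A a B hB b hb m (AdicCompletion.mk _ _ s) =
      Ideal.Quotient.mk _ (toB p A a B hB b hb (s.val m)) := by
  unfold fam
  rw [AlgHom.comp_apply, AlgHom.restrictScalars_apply, evalₐ_mk]
  rfl

theorem fam_compat {m m' : ℕ} (hle : m ≤ m') :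
    (Ideal.Quotient.factorₐ A (Ideal.pow_le_pow_right hle)).comp (fam p A a B hB b hb m') =
      fam p A a B hB b hb m := by
  apply AlgHom.ext
  intro x
  obtain ⟨s, rfl⟩ := AdicCompletion.mk_surjective _ _ x
  rw [AlgHom.comp_apply, fam_mk, fam_mk]
  change Ideal.Quotient.mk _ _ = _
  rw [Ideal.Quotient.eq, ← map_sub]
  apply toB_le p A a B hB b hb m
  have h4 := s.property hle
  rw [SModEq.sub_mem] at h4
  have h5 : s.val m - s.val m' ∈ (Ideal.span {(p : D1 p A a)}) ^ m := by simpa using h4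
  have := Ideal.neg_mem_iff _ |>.2 h5
  simpa using this

/-- The lift. -/
noncomputable def lift [IsAdicComplete (Ideal.span {(p : B)}) B] : D p A a →ₐ[A] B :=
  IsAdicComplete.liftAlgHom (Ideal.span {(p : B)}) (fam p A a B hB b hb)
    (fun hle => fam_compat p A a B hB b hb hle)

include hB in
theorem agree_on_D1 (φ ψ : D p A a →ₐ[A] B) (y : D1 p A a) :
    φ (algebraMap (D1 p A a) (D p A a) y) = ψ (algebraMap (D1 p A a) (D p A a) y) := by
  obtain ⟨P, rfl⟩ := Ideal.Quotient.mk_surjective y
  induction P using MvPolynomial.induction_on with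
  | C c =>
    have h1 : algebraMap (D1 p A a) (D p A a) (Ideal.Quotient.mk (Jsat p A a) (MvPolynomial.C c)) =
        algebraMap A (D p A a) c := rfl
    rw [h1, AlgHom.commutes, AlgHom.commutes]
  | add P Q hP hQ => rw [map_add, map_add, map_add, map_add, hP, hQ]
  | mul_X P i hP =>
    rw [map_mul, map_mul, map_mul, map_mul, hP]
    congr 1
    have key : ∀ θ : D p A a →ₐ[A] B,
        (p : B) * θ (algebraMap (D1 p A a) (D p A a) (xbar p A a i)) = algebraMap A B (a i) := by
      intro θ
      rw [← map_natCast θ, ← map_mul, ← map_natCast (algebraMap (D1 p A a) (D p A a)), ← map_mul,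
        ← p_mul_xbar, ← algebraMap_D, AlgHom.commutes]
    apply hB
    change (p : B) * _ = (p : B) * _
    exact (key φ).trans (key ψ).symm

include hB in
theorem unique [IsAdicComplete (Ideal.span {(p : B)}) B] (φ ψ : D p A a →ₐ[A] B) : φ = ψ := by
  apply AlgHom.ext
  intro x
  rw [← sub_eq_zero]
  apply IsHausdorff.haus' (I := Ideal.span {(p : B)})
  intro m
  rw [SModEq.zero]
  obtain ⟨y, z, rfl⟩ := exists_approx p x m
  have h1 : φ (algebraMap (D1 p A a) (D p A a) y + (p : D p A a) ^ m * z) -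
      ψ (algebraMap (D1 p A a) (D p A a) y + (p : D p A a) ^ m * z) =
      ((p : B) ^ m) • (φ z - ψ z) := by
    rw [map_add, map_add, agree_on_D1 p A a B hB φ ψ y, map_mul, map_mul, map_pow, map_pow,
      map_natCast, map_natCast, smul_eq_mul]
    ring
  rw [h1]
  exact Submodule.smul_mem_smul (Ideal.pow_mem_pow (Ideal.mem_span_singleton_self _) m)
    Submodule.mem_top

end Universal

end Groth.Agent.Lib.T2H4.Dilatation
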