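import Groth.Agent.Lib.T2H4LocKL6

set_option autoImplicit false
set_option linter.style.haveILetI false
set_option backward.isDefEq.respectTransparency.types false
universe u
open CategoryTheory CategoryTheory.Limits
attribute [local instance] HasDerivedCategory.standard

namespace Groth.Agent.Lib.T2H4.DimFun

open DerivedCategory Pretriangulated Groth.Agent.S14388 Groth.Agent.Lib.T2H4.LocalDual
  Groth.Agent.Lib.T2H4.DComp Groth.Agent.Lib.T2H4.TorIndep Groth.Agent.Lib.Helper1.Extend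
  Groth.Agent.Lib.Helper1.LDer Groth.Agent.Lib.T2H4.DualField Groth.Agent.Lib.T2H4.LocKL

section Support

variable {A : Type u} [CommRing A] (S : Submonoid A) (B : Type u) [CommRing B] [Algebra A B]
  [IsLocalization S B] [DRing.HasLBaseChange (algebraMap A B)] [IsNoetherianRing A]

include S in
lemma subsingleton_hom_res_iff (K N : Dual.D A) (a : ℤ) [N.IsGE a] (c d : ℤ)
    (hK : ∀ i : ℤ, (i < c ∨ d < i) → IsZero ((homologyFunctor (ModuleCat.{u} A) i).obj K))
    (hfin : ∀ i : ℤ, Module.Finite A (Dual.HD A K i)) (n : ℤ) :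
    Subsingleton (K⟦n⟧ ⟶ (DRing.restrictD (algebraMap A B)).obj
      ((DRing.LBaseChange (algebraMap A B)).obj N)) ↔
      ∀ f : K⟦n⟧ ⟶ N, ∃ s ∈ S, s • f = 0 := by
  have hgood := good_unit S B K N a c d hK hfin
  constructor
  · intro h f
    exact (hgood n).1 f (h.elim _ _)
  · intro h
    have key : ∀ g : K⟦n⟧ ⟶ (DRing.restrictD (algebraMap A B)).obj
        ((DRing.LBaseChange (algebraMap A B)).obj N), g = 0 := by
      intro g
      obtain ⟨s, hs, f, hf⟩ := (hgood n).2 g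
      obtain ⟨t, ht, htf⟩ := h f
      haveI := isIso_smul_id_restrict S B ((DRing.LBaseChange (algebraMap A B)).obj N) (t * s)
        (S.mul_mem ht hs)
      have h3 : g ≫ ((t * s) • 𝟙 _) = 0 := by
        rw [Linear.comp_smul, Category.comp_id, mul_smul, hf, ← Linear.smul_comp, htf, zero_comp]
      rw [← cancel_mono ((t * s) • 𝟙 _), h3, zero_comp]
    exact ⟨fun g g' => (key g).trans (key g').symm⟩

omit [IsNoetherianRing A] in
/-- moving a shift across `Hom` is compatible with the "killed by `S`" condition. -/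
lemma forall_exists_smul_shift_iff (K N : Dual.D A) (i : ℤ) :
    (∀ f : K⟦-i⟧ ⟶ N, ∃ s ∈ S, s • f = 0) ↔ ∀ f : K ⟶ N⟦i⟧, ∃ s ∈ S, s • f = 0 := by
  constructor
  · intro h g
    obtain ⟨f, hf⟩ := (shiftFunctor (Dual.D A) i).map_surjective ((shiftNegShift K i).hom ≫ g)
    obtain ⟨s, hs, h0⟩ := h f
    refine ⟨s, hs, ?_⟩
    rw [← cancel_epi (shiftNegShift K i).hom, Linear.comp_smul, ← hf, ← Functor.map_smul, h0,
      Functor.map_zero, comp_zero]
  · intro h f
    obtain ⟨s, hs, h0⟩ := h ((shiftNegShift K i).inv ≫ f⟦i⟧')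
    refine ⟨s, hs, (shiftFunctor (Dual.D A) i).map_injective ?_⟩
    rw [Functor.map_smul, Functor.map_zero, ← cancel_epi (shiftNegShift K i).inv,
      Linear.comp_smul, h0, comp_zero]

include S in
/-- **support criterion**: `Hom(K ⊗ B, N ⊗ B [i]) = 0` iff every `f : K ⟶ N[i]` is killed by an
element of `S`. -/
theorem subsingleton_hom_lbc_iff (K N : Dual.D A) (a : ℤ) [N.IsGE a] (c d : ℤ)
    (hK : ∀ i : ℤ, (i < c ∨ d < i) → IsZero ((homologyFunctor (ModuleCat.{u} A) i).obj K))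
    (hfin : ∀ i : ℤ, Module.Finite A (Dual.HD A K i)) (i : ℤ) :
    Subsingleton ((DRing.LBaseChange (algebraMap A B)).obj K ⟶
      ((DRing.LBaseChange (algebraMap A B)).obj N)⟦i⟧) ↔
      ∀ f : K ⟶ N⟦i⟧, ∃ s ∈ S, s • f = 0 := by
  rw [← forall_exists_smul_shift_iff S K N i, ← subsingleton_hom_res_iff S B K N a c d hK hfin (-i)]
  let e := ((DRing.restrictD (algebraMap A B)).commShiftIso i).app
    ((DRing.LBaseChange (algebraMap A B)).obj N)
  constructor
  · intro h
    have h4 : Subsingleton (K ⟶ (DRing.restrictD (algebraMap A B)).obj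
        (((DRing.LBaseChange (algebraMap A B)).obj N)⟦i⟧)) :=
      ((lbcAdj (algebraMap A B)).homEquiv K _).symm.subsingleton
    have h3 : Subsingleton (K ⟶ ((DRing.restrictD (algebraMap A B)).obj
        ((DRing.LBaseChange (algebraMap A B)).obj N))⟦i⟧) :=
      ⟨fun f g => by
        rw [← cancel_mono e.inv]
        exact h4.elim _ _⟩
    exact subsingleton_shift_of_hom K _ i h3
  · intro h2
    have h3 := subsingleton_hom_of_shift K _ i h2
    have h4 : Subsingleton (K ⟶ (DRing.restrictD (algebraMap A B)).obj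
        (((DRing.LBaseChange (algebraMap A B)).obj N)⟦i⟧)) :=
      ⟨fun f g => by
        rw [← cancel_mono e.hom]
        exact h3.elim _ _⟩
    exact ((lbcAdj (algebraMap A B)).homEquiv K _).subsingleton

end Support

section Van

variable {A : Type u} [CommRing A] (ω : Dual.D A)

/-- `q ∉ Supp Ext^i(M, ω)`, in elementary form. -/
def Van (q : PrimeSpectrum A) (M : Type u) [AddCommGroup M] [Module A M] (i : ℤ) : Prop :=
  ∀ f : Dual.inD A M ⟶ ω⟦i⟧, ∃ s : A, s ∉ q.asIdeal ∧ s • f = 0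

variable {ω}

lemma van_of_smul_eq_zero (q : PrimeSpectrum A) (M : Type u) [AddCommGroup M] [Module A M] (i : ℤ)
    (s : A) (hs : s ∉ q.asIdeal) (hsM : ∀ m : M, s • m = 0) : Van ω q M i := by
  intro f
  refine ⟨s, hs, ?_⟩
  have h1 : s • 𝟙 (ModuleCat.of A M) = 0 := by
    ext m
    exact hsM m
  have h2 : s • f = (singleFunctor (ModuleCat.{u} A) 0).map (s • 𝟙 (ModuleCat.of A M)) ≫ f := by
    rw [singleFunctor_map_smul, CategoryTheory.Functor.map_id, Linear.smul_comp, Category.id_comp]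
  rw [h2, h1, Functor.map_zero, zero_comp]

lemma van_of_subsingleton (q : PrimeSpectrum A) (M : Type u) [AddCommGroup M] [Module A M]
    [Subsingleton M] (i : ℤ) : Van ω q M i :=
  van_of_smul_eq_zero q M i 1 (fun h => q.2.ne_top ((Ideal.eq_top_iff_one _).2 h))
    (fun _ => Subsingleton.elim _ _)

lemma van_of_equiv (q : PrimeSpectrum A) {M N : Type u} [AddCommGroup M] [Module A M]
    [AddCommGroup N] [Module A N] (e : M ≃ₗ[A] N) (i : ℤ) (h : Van ω q N i) : Van ω q M i := by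
  intro f
  let iso : Dual.inD A M ≅ Dual.inD A N :=
    (singleFunctor (ModuleCat.{u} A) 0).mapIso e.toModuleIso
  obtain ⟨s, hs, h0⟩ := h (iso.inv ≫ f)
  refine ⟨s, hs, ?_⟩
  rw [← cancel_epi iso.inv, Linear.comp_smul, h0, comp_zero]

lemma van_of_le {p q : PrimeSpectrum A} (hpq : p ≤ q) (M : Type u) [AddCommGroup M] [Module A M]
    (i : ℤ) (h : Van ω q M i) : Van ω p M i := by
  intro f
  obtain ⟨s, hs, h0⟩ := h f
  exact ⟨s, fun hsp => hs (hpq hsp), h0⟩

lemma van_middle (q : PrimeSpectrum A) {N₁ N₂ N₃ : Type u} [AddCommGroup N₁] [Module A N₁]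
    [AddCommGroup N₂] [Module A N₂] [AddCommGroup N₃] [Module A N₃] (f : N₁ →ₗ[A] N₂)
    (g : N₂ →ₗ[A] N₃) (hf : Function.Injective f) (hg : Function.Surjective g)
    (hfg : Function.Exact f g) (i : ℤ) (h₁ : Van ω q N₁ i) (h₃ : Van ω q N₃ i) :
    Van ω q N₂ i := by
  intro φ
  obtain ⟨s, hs, h0⟩ := h₁ ((singleFunctor (ModuleCat.{u} A) 0).map (ModuleCat.ofHom f) ≫ φ)
  obtain ⟨ψ, hψ⟩ := exists_factor_of_comp_eq_zero f g hf hg hfg (ω⟦i⟧) (s • φ) (by
    rw [Linear.comp_smul]; exact h0)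
  obtain ⟨t, ht, h1⟩ := h₃ ψ
  refine ⟨t * s, fun hts => ?_, ?_⟩
  · rcases q.2.mem_or_mem hts with h | h
    · exact ht h
    · exact hs h
  · rw [mul_smul, hψ, ← Linear.comp_smul, h1, comp_zero]

/-- extension up to a scalar outside `q`. -/
lemma exists_smul_extension (q : PrimeSpectrum A) {N₁ N₂ N₃ : Type u} [AddCommGroup N₁]
    [Module A N₁] [AddCommGroup N₂] [Module A N₂] [AddCommGroup N₃] [Module A N₃]
    (f : N₁ →ₗ[A] N₂) (g : N₂ →ₗ[A] N₃) (hf : Function.Injective f) (hg : Function.Surjective g)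
    (hfg : Function.Exact f g) (i : ℤ) (h₃ : Van ω q N₃ (i + 1)) (φ : Dual.inD A N₁ ⟶ ω⟦i⟧) :
    ∃ s : A, s ∉ q.asIdeal ∧ ∃ ψ : Dual.inD A N₂ ⟶ ω⟦i⟧,
      s • φ = (singleFunctor (ModuleCat.{u} A) 0).map (ModuleCat.ofHom f) ≫ ψ := by
  have hT := inv_rot_of_distTriang _
    (scOf_shortExact f g hf hg hfg).singleTriangle_distinguished
  obtain ⟨w', hex⟩ : ∃ w' : (Dual.inD A N₃)⟦(-1 : ℤ)⟧ ⟶ Dual.inD A N₁,
      ∀ (X : Dual.D A) (φ : Dual.inD A N₁ ⟶ X), w' ≫ φ = 0 →
        ∃ ψ : Dual.inD A N₂ ⟶ X,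
          φ = (singleFunctor (ModuleCat.{u} A) 0).map (ModuleCat.ofHom f) ≫ ψ :=
    ⟨_, fun X φ hφ => Triangle.yoneda_exact₂ _ hT φ hφ⟩
  let h' : Dual.inD A N₃ ⟶ ω⟦i + 1⟧ :=
    (shiftNegShift (Dual.inD A N₃) (1 : ℤ)).inv ≫ (w' ≫ φ)⟦(1 : ℤ)⟧' ≫
      (shiftFunctorAdd' (Dual.D A) i 1 (i + 1) rfl).inv.app ω
  obtain ⟨s, hs, h0⟩ := h₃ h'
  refine ⟨s, hs, ?_⟩
  have h1 : s • (w' ≫ φ) = 0 := by
    apply (shiftFunctor (Dual.D A) (1 : ℤ)).map_injective
    rw [Functor.map_smul, Functor.map_zero,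
      ← cancel_epi (shiftNegShift (Dual.inD A N₃) (1 : ℤ)).inv,
      ← cancel_mono ((shiftFunctorAdd' (Dual.D A) i 1 (i + 1) rfl).inv.app ω), comp_zero,
      zero_comp, Linear.comp_smul, Linear.smul_comp, Category.assoc]
    exact h0
  exact hex _ (s • φ) (by rw [Linear.comp_smul]; exact h1)

open scoped Pointwise in
/-- the Nakayama step for supports. -/
lemma van_of_regular [IsNoetherianRing A] (hω : Dual.IsDualizing A ω) (q : PrimeSpectrum A)
    (M : Type u) [AddCommGroup M] [Module A M] [Module.Finite A M] (x : A) (hx : x ∈ q.asIdeal)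
    (hreg : IsSMulRegular M x) (i : ℤ) (h : Van ω q (QuotSMulTop x M) (i + 1)) :
    Van ω q M i := by
  haveI := q.2
  haveI := finite_hom_inD ω hω M i
  let f₁ : M →ₗ[A] M := LinearMap.lsmul A M x
  let g₁ : M →ₗ[A] QuotSMulTop x M := (x • (⊤ : Submodule A M)).mkQ
  have hf₁ : Function.Injective f₁ := hreg
  have hg₁ : Function.Surjective g₁ := Submodule.mkQ_surjective _
  have hfg₁ : Function.Exact f₁ g₁ := LinearMap.exact_lsmul_mkQ_smul_top M x
  have hf2 : ModuleCat.ofHom f₁ = x • 𝟙 (ModuleCat.of A M) := rfl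
  have stepa : ∀ f : Dual.inD A M ⟶ ω⟦i⟧, ∃ s : A, s ∉ q.asIdeal ∧
      ∃ g : Dual.inD A M ⟶ ω⟦i⟧, s • f = x • g := by
    intro f
    obtain ⟨s, hs, ψ, hψ⟩ := exists_smul_extension q f₁ g₁ hf₁ hg₁ hfg₁ i h f
    refine ⟨s, hs, ψ, ?_⟩
    rw [hψ, hf2, singleFunctor_map_smul, CategoryTheory.Functor.map_id, Linear.smul_comp,
      Category.id_comp]
  haveI : Module.Finite (Localization.AtPrime q.asIdeal)
      (LocalizedModule q.asIdeal.primeCompl (Dual.inD A M ⟶ ω⟦i⟧)) :=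
    Module.Finite.of_isLocalizedModule q.asIdeal.primeCompl
      (LocalizedModule.mkLinearMap q.asIdeal.primeCompl (Dual.inD A M ⟶ ω⟦i⟧))
  have hsub : Subsingleton (LocalizedModule q.asIdeal.primeCompl (Dual.inD A M ⟶ ω⟦i⟧)) := by
    apply subsingleton_of_smul_surjective (A := Localization.AtPrime q.asIdeal) _
      (algebraMap A (Localization.AtPrime q.asIdeal) x)
      ((IsLocalization.AtPrime.to_map_mem_maximal_iff _ q.asIdeal x).2 hx)
    intro y
    induction y using LocalizedModule.induction_on with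
    | h f t =>
      obtain ⟨s, hs, g, hg⟩ := stepa f
      refine ⟨LocalizedModule.mk g ((⟨s, hs⟩ : q.asIdeal.primeCompl) * t), ?_⟩
      rw [← Localization.mk_one_eq_algebraMap, LocalizedModule.mk_smul_mk, one_mul, ← hg]
      exact (LocalizedModule.mk_cancel_common_left (⟨s, hs⟩ : q.asIdeal.primeCompl) t f).symm
  intro f
  have h0 : LocalizedModule.mk f (1 : q.asIdeal.primeCompl) =
      LocalizedModule.mk 0 (1 : q.asIdeal.primeCompl) := hsub.elim _ _
  rw [LocalizedModule.mk_eq] at h0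
  obtain ⟨u, hu⟩ := h0
  refine ⟨u, u.2, ?_⟩
  have hu' : u • f = 0 := by simpa using hu
  exact hu'

end Van

end Groth.Agent.Lib.T2H4.DimFun
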