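import Groth.Agent.Lib.T2H4DimFun2
import Groth.Agent.Lib.T2H4DepthCM
import Groth.Agent.Lib.T2H4Depth

set_option autoImplicit false
set_option linter.style.haveILetI false
set_option backward.isDefEq.respectTransparency.types false
universe u
open CategoryTheory CategoryTheory.Limits
attribute [local instance] HasDerivedCategory.standard

namespace Groth.Agent.Lib.T2H4.DimFun

open DerivedCategory Pretriangulated Groth.Agent.S14388 Groth.Agent.Lib.T2H4.LocalDual
  Groth.Agent.Lib.T2H4.DComp Groth.Agent.Lib.T2H4.TorIndep Groth.Agent.Lib.Helper1.Extend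
  Groth.Agent.Lib.Helper1.LDer Groth.Agent.Lib.T2H4.DualField Groth.Agent.Lib.T2H4.LocKL

section Step

variable {A : Type u} [CommRing A] [IsNoetherianRing A] (ω : Dual.D A)

omit [IsNoetherianRing A] in
lemma mem_support_quot_iff (p p' : PrimeSpectrum A) :
    p' ∈ Module.support A (A ⧸ p.asIdeal) ↔ p ≤ p' := by
  rw [Module.support_eq_zeroLocus, Ideal.annihilator_quotient, PrimeSpectrum.mem_zeroLocus]
  rfl

omit [IsNoetherianRing A] in
lemma van_quot_of_not_le (p' q : PrimeSpectrum A) (h : ¬ p' ≤ q) (j : ℤ) :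
    Van ω q (A ⧸ p'.asIdeal) j := by
  obtain ⟨s, hs, hsq⟩ : ∃ s ∈ p'.asIdeal, s ∉ q.asIdeal := Set.not_subset.1 h
  apply van_of_smul_eq_zero q _ j s hsq
  intro m
  obtain ⟨m, rfl⟩ := Ideal.Quotient.mk_surjective m
  change Ideal.Quotient.mk p'.asIdeal (s * m) = 0
  rw [Ideal.Quotient.eq_zero_iff_mem]
  exact Ideal.mul_mem_right _ _ hs

/-- Step A: vanishing at `q` for modules whose support below `q` is just `{q}`. -/
lemma van_of_support (q : PrimeSpectrum A) (P : ℤ → Prop)
    (hq : ∀ j, P j → Van ω q (A ⧸ q.asIdeal) j)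
    (N : Type u) [AddCommGroup N] [Module A N] [hfin : Module.Finite A N] :
    (∀ p' ∈ Module.support A N, p' ≤ q → p' = q) → ∀ j : ℤ, P j → Van ω q N j := by
  induction hfin using IsNoetherianRing.induction_on_isQuotientEquivQuotientPrime A with
  | subsingleton N => exact fun _ j _ => van_of_subsingleton q N j
  | quotient N p' e =>
    intro hN j hj
    apply van_of_equiv q e j
    by_cases hp : p' ≤ q
    · have h1 : p' = q := hN p' (by
        rw [e.support_eq, mem_support_quot_iff]) hp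
      subst h1
      exact hq j hj
    · exact van_quot_of_not_le ω p' q hp j
  | exact N₁ N₂ N₃ f g hf hg hfg h₁ h₃ =>
    intro hN j hj
    have hsupp := Module.support_of_exact hfg hf hg
    apply van_middle q f g hf hg hfg j
    · exact h₁ (fun p' hp' => hN p' (by rw [hsupp]; exact Or.inl hp')) j hj
    · exact h₃ (fun p' hp' => hN p' (by rw [hsupp]; exact Or.inr hp')) j hj

variable {ω}

open scoped Pointwise in
/-- the step lemma: along a covering `p ⋖ q`, the index goes up by one. -/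
theorem index_step (hω : Dual.IsDualizing A ω) (p q : PrimeSpectrum A) (hpq : p ⋖ q)
    (np nq : ℤ) (hp : ∀ i, Van ω p (A ⧸ p.asIdeal) i ↔ i ≠ np)
    (hq : ∀ i, Van ω q (A ⧸ q.asIdeal) i ↔ i ≠ nq) : np + 1 = nq := by
  haveI := p.2
  haveI := q.2
  obtain ⟨x, hxq, hxp⟩ : ∃ x ∈ q.asIdeal, x ∉ p.asIdeal := Set.not_subset.1 hpq.lt.not_ge
  have hreg : IsSMulRegular (A ⧸ p.asIdeal) x :=
    Groth.Agent.Lib.T2H4.Depth.isSMulRegular_quot_prime p.asIdeal x hxp
  haveI : Module.Finite A (QuotSMulTop x (A ⧸ p.asIdeal)) :=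
    inferInstanceAs (Module.Finite A ((A ⧸ p.asIdeal) ⧸ _))
  have hA : ∀ j : ℤ, j ≠ nq → Van ω q (QuotSMulTop x (A ⧸ p.asIdeal)) j := by
    apply van_of_support ω q (fun j => j ≠ nq) (fun j hj => (hq j).2 hj)
    intro p' hp' hle
    rw [Module.support_quotSMulTop, Set.mem_inter_iff, mem_support_quot_iff,
      PrimeSpectrum.mem_zeroLocus, Set.singleton_subset_iff] at hp'
    obtain ⟨h1, h2⟩ := hp'
    have hlt : p < p' := lt_of_le_of_ne h1 (fun h => hxp (h ▸ h2))
    by_contra hne
    exact hpq.2 hlt (lt_of_le_of_ne hle hne)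
  by_contra hne
  have h1 : Van ω q (A ⧸ p.asIdeal) np :=
    van_of_regular hω q (A ⧸ p.asIdeal) x hxq hreg np (hA _ hne)
  exact (hp np).1 (van_of_le hpq.le _ np h1) rfl

end Step


section Local

variable {A : Type u} [CommRing A] [IsNoetherianRing A] [IsLocalRing A] {ω : Dual.D A}

omit [IsNoetherianRing A] [IsLocalRing A] in
lemma van_of_subsingleton_hom (q : PrimeSpectrum A) (M : Type u) [AddCommGroup M] [Module A M]
    (i : ℤ) (h : Subsingleton (Dual.inD A M ⟶ ω⟦i⟧)) : Van ω q M i :=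
  fun f => ⟨1, fun h1 => q.2.ne_top ((Ideal.eq_top_iff_one _).2 h1), h.elim _ _⟩

omit [IsNoetherianRing A] in
lemma eq_zero_of_van_closedPoint (M : Type u) [AddCommGroup M] [Module A M]
    (i : ℤ) (h : Van ω (IsLocalRing.closedPoint A) M i) (f : Dual.inD A M ⟶ ω⟦i⟧) : f = 0 := by
  obtain ⟨s, hs, h0⟩ := h f
  have hu : IsUnit s := by
    by_contra hns
    exact hs ((IsLocalRing.mem_maximalIdeal s).2 hns)
  obtain ⟨u, rfl⟩ := hu
  have := congrArg (fun g => (↑u⁻¹ : A) • g) h0
  simpa [smul_smul] using this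

lemma van_closedPoint_iff (hω : Dual.IsDualizing A ω) (hn : Dual.IsNormalized A ω) (i : ℤ) :
    Van ω (IsLocalRing.closedPoint A) (A ⧸ (IsLocalRing.closedPoint A).asIdeal) i ↔ i ≠ 0 := by
  constructor
  · intro h hi
    subst hi
    haveI := Groth.Agent.Lib.T2H4.Depth.nontrivial_hom_residueField ω hω hn
    obtain ⟨φ, hφ⟩ := exists_ne (0 : Dual.inD A (A ⧸ IsLocalRing.maximalIdeal A) ⟶ ω⟦(0 : ℤ)⟧)
    exact hφ (eq_zero_of_van_closedPoint _ 0 h φ)
  · intro hi
    exact van_of_subsingleton_hom _ _ i (hn i hi)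

omit [IsNoetherianRing A] in
lemma eq_closedPoint_of_isMax (p : PrimeSpectrum A) (hp : IsMax p) :
    p = IsLocalRing.closedPoint A := by
  have h1 : p ≤ IsLocalRing.closedPoint A := IsLocalRing.le_maximalIdeal p.2.ne_top
  exact le_antisymm h1 (hp h1)

/-- **the dimension function of a normalized dualizing complex**: `Ext^i(A/p, ω)_p ≠ 0` exactly for
`i = - dim A/p`. -/
theorem van_quot_iff_of_coheight (hω : Dual.IsDualizing A ω) (hn : Dual.IsNormalized A ω) :
    ∀ (n : ℕ) (p : PrimeSpectrum A), Order.coheight p = n →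
      ∀ i : ℤ, Van ω p (A ⧸ p.asIdeal) i ↔ i ≠ -(n : ℤ)
  | 0 => by
    intro p hp i
    have h1 : p = IsLocalRing.closedPoint A :=
      eq_closedPoint_of_isMax p (Order.coheight_eq_zero.1 (by simpa using hp))
    subst h1
    simpa using van_closedPoint_iff hω hn i
  | n + 1 => by
    intro p hp
    have hp' : Order.coheight p = (n : ℕ∞) + 1 := by simpa using hp
    obtain ⟨hfin, ⟨q, hpq, hq⟩, hall⟩ := Order.coheight_eq_coe_add_one_iff.1 hp'
    have hcov : p ⋖ q := by
      refine ⟨hpq, fun r hpr hrq => ?_⟩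
      have h1 := Order.coheight_add_one_le hrq
      have h2 := hall r hpr
      rw [hq] at h1
      have h3 : ((n : ℕ∞) + 1) ≤ n := h1.trans h2
      have h4 : (n : ℕ∞) < n + 1 := by
        exact_mod_cast Nat.lt_succ_self n
      exact absurd h3 (not_le.2 h4)
    obtain ⟨np, hnp⟩ := exists_index ω hω p
    have hstep := index_step hω p q hcov np (-(n : ℤ)) hnp (van_quot_iff_of_coheight hω hn n q hq)
    intro i
    rw [hnp i]
    have : np = -((n + 1 : ℕ) : ℤ) := by push_cast; lia
    rw [this]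

end Local

end Groth.Agent.Lib.T2H4.DimFun
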