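import Groth.Agent.Lib.T2H4LocalDual2

set_option autoImplicit false
set_option linter.style.haveILetI false
set_option backward.isDefEq.respectTransparency.types false
universe u
open CategoryTheory CategoryTheory.Limits
attribute [local instance] HasDerivedCategory.standard

namespace Groth.Agent.Lib.T2H4.LocalDual

open DerivedCategory Pretriangulated Groth.Agent.Lib.T2H4.DualField Groth.Agent.Lib.T2H4.Bidual
  HomologicalComplex

section FiniteLength

variable {A : Type u} [CommRing A] [IsLocalRing A]

/-- `Ext^i(N, K) = 0` for `N` of finite length as soon as `Ext^i(κ, K) = 0`. -/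
theorem subsingleton_hom_of_isFiniteLength (K : Dual.D A)
    (hκ : Subsingleton (Dual.inD A (IsLocalRing.ResidueField A) ⟶ K))
    (N : Type u) [AddCommGroup N] [Module A N] (hN : IsFiniteLength A N) :
    Subsingleton (Dual.inD A N ⟶ K) := by
  induction hN with
  | of_subsingleton => exact subsingleton_hom_inD_of_subsingleton _ K
  | @of_simple_quotient M _ _ N' hsimple _ ih =>
    obtain ⟨I, hI, ⟨e⟩⟩ := isSimpleModule_iff_quot_maximal.mp hsimple
    have hIm : I = IsLocalRing.maximalIdeal A := IsLocalRing.eq_maximalIdeal hI
    subst hIm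
    have h₃ : Subsingleton (Dual.inD A (M ⧸ N') ⟶ K) := subsingleton_hom_inD_of_equiv e K hκ
    exact subsingleton_hom_middle N'.subtype N'.mkQ N'.injective_subtype
      (Submodule.mkQ_surjective N') (LinearMap.exact_subtype_mkQ N') K ih h₃

end FiniteLength

end Groth.Agent.Lib.T2H4.LocalDual
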