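import Groth.Agent.Lib.T2H4LocKL5
import Groth.Agent.Lib.T2H4LocalDual3
import Groth.Agent.Lib.T2H4LDerExist

set_option autoImplicit false
set_option linter.style.haveILetI false
set_option backward.isDefEq.respectTransparency.types false
universe u
open CategoryTheory CategoryTheory.Limits
attribute [local instance] HasDerivedCategory.standard

namespace Groth.Agent.Lib.T2H4.LocKL

open DerivedCategory Pretriangulated Groth.Agent.S14388 Groth.Agent.Lib.T2H4.LocalDual
  Groth.Agent.Lib.T2H4.DComp Groth.Agent.Lib.T2H4.TorIndep Groth.Agent.Lib.Helper1.Extend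
  Groth.Agent.Lib.Helper1.LDer Groth.Agent.Lib.T2H4.DualField

section Artinian

variable (B : Type u) [CommRing B] [IsLocalRing B] [IsNoetherianRing B] [IsArtinianRing B]

/-- over an Artinian local ring a dualizing complex has exactly one nonzero cohomology module. -/
theorem exists_unique_HD_artinian (T : Dual.D B) (hT : Dual.IsDualizing B T) :
    ∃ n : ℤ, (∀ i : ℤ, i ≠ n → Subsingleton (Dual.HD B T i)) ∧ Nontrivial (Dual.HD B T n) := by
  obtain ⟨n, hvan, -⟩ := ext_residueField_single_degree T hT (IsLocalRing.maximalIdeal B)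
  have hfl : IsFiniteLength B B :=
    isFiniteLength_iff_isNoetherian_isArtinian.2 ⟨inferInstance, inferInstance⟩
  have h1 : ∀ i : ℤ, i ≠ n → Subsingleton (Dual.HD B T i) := by
    intro i hi
    rw [← Groth.Agent.Lib.T2H4.HomRing.subsingleton_hom_inD_self_iff]
    exact subsingleton_hom_of_isFiniteLength (T⟦i⟧) (hvan i hi) B hfl
  refine ⟨n, h1, ?_⟩
  by_contra hcon
  rw [not_nontrivial_iff_subsingleton] at hcon
  have hz : ∀ i : ℤ, IsZero ((homologyFunctor (ModuleCat.{u} B) i).obj T) := fun i => by
    by_cases hi : i = n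
    · subst hi
      exact ModuleCat.isZero_of_subsingleton _
    · haveI := h1 i hi
      exact ModuleCat.isZero_of_subsingleton _
  haveI : T.IsLE 0 := (DerivedCategory.isLE_iff T 0).2 (fun i _ => hz i)
  haveI : T.IsGE 1 := (DerivedCategory.isGE_iff T 1).2 (fun i _ => hz i)
  have hT0 : IsZero T := DerivedCategory.TStructure.t.isZero T 0 1 (by simp)
  have h01 : (1 : B) • 𝟙 T = (0 : B) • 𝟙 T := hT0.eq_of_src _ _
  exact one_ne_zero (hT.toEnd_bijective.1 h01)

end Artinian

section HDLoc

variable {A : Type u} [CommRing A] (S : Submonoid A) (B : Type u) [CommRing B] [Algebra A B]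
  [IsLocalization S B] [DRing.HasLBaseChange (algebraMap A B)]

include S in
/-- the cohomology of the localization is the localization of the cohomology. -/
lemma nonempty_HD_lbc_equiv (K : Dual.D A) (i : ℤ) :
    Nonempty (Dual.HD B ((DRing.LBaseChange (algebraMap A B)).obj K) i ≃
      LocalizedModule S (Dual.HD A K i)) := by
  haveI : Module.Flat A B := IsLocalization.flat B S
  obtain ⟨e⟩ := nonempty_lbc_iso_extD A B K
  have e2 : (homologyFunctor (ModuleCat.{u} B) i).obj ((DRing.LBaseChange (algebraMap A B)).obj K) ≅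
      (ext A B).obj ((homologyFunctor (ModuleCat.{u} A) i).obj K) :=
    (homologyFunctor (ModuleCat.{u} B) i).mapIso e ≪≫ homologyMapDIso (ext A B) K i
  have e3 := extEquiv (A := A) (B := B) (Dual.HD A K i)
  have e4 := IsLocalizedModule.linearEquiv S (LocalizedModule.mkLinearMap S (Dual.HD A K i))
    (TensorProduct.mk A B (Dual.HD A K i) 1)
  exact ⟨e2.toLinearEquiv.toEquiv.trans (e3.toEquiv.trans e4.symm.toEquiv)⟩

end HDLoc

section MinPrime

variable {A : Type u} [CommRing A] [IsNoetherianRing A]

/-- **S1762**. -/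
theorem existsUnique_HD_minimalPrime (ω : Dual.D A) (hω : Dual.IsDualizing A ω) (p : Ideal A)
    (hp : p ∈ minimalPrimes A) :
    ∃! i : ℤ, Nontrivial (LocalizedModule (Ideal.primeCompl p (hp := hp.1.1)) (Dual.HD A ω i)) := by
  haveI : p.IsPrime := hp.1.1
  haveI := Groth.Agent.Lib.T2H4.LDerExist.hasLBaseChange (algebraMap A (Localization.AtPrime p))
  have hT := isDualizing_lbc p.primeCompl (Localization.AtPrime p) ω hω
  haveI : IsNoetherianRing (Localization.AtPrime p) :=
    IsLocalization.isNoetherianRing p.primeCompl _ inferInstance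
  haveI : IsArtinianRing (Localization.AtPrime p) := by
    rw [isArtinianRing_iff_krullDimLE_zero, Ring.krullDimLE_iff,
      IsLocalization.AtPrime.ringKrullDim_eq_height p (Localization.AtPrime p),
      Ideal.height_eq_zero_iff.2 hp]
    rfl
  obtain ⟨n, h1, h2⟩ := exists_unique_HD_artinian (Localization.AtPrime p) _ hT
  have key : ∀ i : ℤ, Nontrivial (LocalizedModule p.primeCompl (Dual.HD A ω i)) ↔
      Nontrivial (Dual.HD (Localization.AtPrime p)
        ((DRing.LBaseChange (algebraMap A (Localization.AtPrime p))).obj ω) i) := by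
    intro i
    obtain ⟨e⟩ := nonempty_HD_lbc_equiv p.primeCompl (Localization.AtPrime p) ω i
    exact ⟨fun h => e.nontrivial, fun h => e.symm.nontrivial⟩
  refine ⟨n, (key n).2 h2, fun i hi => ?_⟩
  by_contra hne
  have hs := h1 i hne
  haveI := (key i).1 hi
  exact not_subsingleton _ hs

end MinPrime

end Groth.Agent.Lib.T2H4.LocKL
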