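import Groth.Agent.Lib.T2H4DimFun3
import Groth.Agent.Lib.T2H4LocKL6
import Mathlib.RingTheory.KrullDimension.NonZeroDivisors

set_option autoImplicit false
set_option linter.style.haveILetI false
set_option backward.isDefEq.respectTransparency.types false
universe u
open CategoryTheory CategoryTheory.Limits
attribute [local instance] HasDerivedCategory.standard

namespace Groth.Agent.Lib.T2H4.DimFun

open DerivedCategory Pretriangulated Groth.Agent.S14388 Groth.Agent.Lib.T2H4.LocalDual
  Groth.Agent.Lib.T2H4.DComp Groth.Agent.Lib.T2H4.TorIndep Groth.Agent.Lib.Helper1.Extend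
  Groth.Agent.Lib.Helper1.LDer Groth.Agent.Lib.T2H4.DualField Groth.Agent.Lib.T2H4.LocKL

section Coheight

variable {A : Type u} [CommRing A]

lemma coheight_eq_ringKrullDim_quot (p : PrimeSpectrum A) :
    ((Order.coheight p : ℕ∞) : WithBot ℕ∞) = ringKrullDim (A ⧸ p.asIdeal) := by
  have h : PrimeSpectrum.zeroLocus (p.asIdeal : Set A) = Set.Ici p := by
    ext q
    rw [PrimeSpectrum.mem_zeroLocus]
    rfl
  rw [ringKrullDim_quotient, Order.coheight_eq_krullDim_Ici, h]

lemma coheight_eq_of_ringKrullDim_quot (p : PrimeSpectrum A) (e : ℕ)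
    (he : ringKrullDim (A ⧸ p.asIdeal) = e) : Order.coheight p = e := by
  rw [← coheight_eq_ringKrullDim_quot] at he
  exact_mod_cast he

end Coheight

section Artinian

variable (B : Type u) [CommRing B] [IsLocalRing B] [IsNoetherianRing B] [IsArtinianRing B]

/-- over an Artinian local ring a dualizing complex has exactly one nonzero cohomology module, in
the degree where `Ext(κ, -)` lives. -/
theorem HD_artinian_of_van (T : Dual.D B) (hT : Dual.IsDualizing B T) (n : ℤ)
    (hvan : ∀ i : ℤ, i ≠ n →
      Subsingleton (Dual.inD B (B ⧸ IsLocalRing.maximalIdeal B) ⟶ T⟦i⟧)) :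
    (∀ i : ℤ, i ≠ n → Subsingleton (Dual.HD B T i)) ∧ Nontrivial (Dual.HD B T n) := by
  have hfl : IsFiniteLength B B :=
    isFiniteLength_iff_isNoetherian_isArtinian.2 ⟨inferInstance, inferInstance⟩
  have h1 : ∀ i : ℤ, i ≠ n → Subsingleton (Dual.HD B T i) := by
    intro i hi
    rw [← Groth.Agent.Lib.T2H4.HomRing.subsingleton_hom_inD_self_iff]
    exact subsingleton_hom_of_isFiniteLength (T⟦i⟧) (hvan i hi) B hfl
  refine ⟨h1, ?_⟩
  by_contra hcon
  rw [not_nontrivial_iff_subsingleton] at hcon
  have hz : ∀ i : ℤ, IsZero ((homologyFunctor (ModuleCat.{u} B) i).obj T) := fun i => by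
    by_cases hi : i = n
    · subst hi
      exact ModuleCat.isZero_of_subsingleton _
    · haveI := h1 i hi
      exact ModuleCat.isZero_of_subsingleton _
  haveI : T.IsLE 0 := (DerivedCategory.isLE_iff T 0).2 (fun i _ => hz i)
  haveI : T.IsGE 1 := (DerivedCategory.isGE_iff T 1).2 (fun i _ => hz i)
  have hT0 : IsZero T := DerivedCategory.TStructure.t.isZero T 0 1 (by simp)
  have h01 : (1 : B) • 𝟙 T = (0 : B) • 𝟙 T := hT0.eq_of_src _ _
  exact one_ne_zero (hT.toEnd_bijective.1 h01)

end Artinian

section MinPrime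

variable {A : Type u} [CommRing A] [IsNoetherianRing A]

/-- general version: at a minimal prime, the localized cohomology of a dualizing complex lives in
the index degree. -/
theorem nontrivial_HD_minimalPrime_iff (ω : Dual.D A) (hω : Dual.IsDualizing A ω) (p : Ideal A)
    (hp : p ∈ minimalPrimes A) (n : ℤ)
    (hn : ∀ i : ℤ, Van ω ⟨p, hp.1.1⟩ (A ⧸ p) i ↔ i ≠ n) (i : ℤ) :
    Nontrivial (LocalizedModule (Ideal.primeCompl p (hp := hp.1.1)) (Dual.HD A ω i)) ↔ i = n := by
  haveI : p.IsPrime := hp.1.1
  haveI := Groth.Agent.Lib.T2H4.LDerExist.hasLBaseChange (algebraMap A (Localization.AtPrime p))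
  have hT := isDualizing_lbc p.primeCompl (Localization.AtPrime p) ω hω
  haveI : IsNoetherianRing (Localization.AtPrime p) :=
    IsLocalization.isNoetherianRing p.primeCompl _ inferInstance
  haveI : IsArtinianRing (Localization.AtPrime p) := by
    rw [isArtinianRing_iff_krullDimLE_zero, Ring.krullDimLE_iff,
      IsLocalization.AtPrime.ringKrullDim_eq_height p (Localization.AtPrime p),
      Ideal.height_eq_zero_iff.2 hp]
    rfl
  obtain ⟨h1, h2⟩ := HD_artinian_of_van (Localization.AtPrime p) _ hT n (fun j hj =>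
    (van_quot_iff ω hω ⟨p, hp.1.1⟩ j).1 ((hn j).2 hj))
  have key : ∀ i : ℤ, Nontrivial (LocalizedModule p.primeCompl (Dual.HD A ω i)) ↔
      Nontrivial (Dual.HD (Localization.AtPrime p)
        ((DRing.LBaseChange (algebraMap A (Localization.AtPrime p))).obj ω) i) := by
    intro i
    obtain ⟨e⟩ := nonempty_HD_lbc_equiv p.primeCompl (Localization.AtPrime p) ω i
    exact ⟨fun h => e.nontrivial, fun h => e.symm.nontrivial⟩
  constructor
  · intro hi
    by_contra hne
    have hs := h1 i hne
    haveI := (key i).1 hi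
    exact not_subsingleton _ hs
  · rintro rfl
    exact (key i).2 h2

end MinPrime

end Groth.Agent.Lib.T2H4.DimFun
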