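import Groth.Agent.Lib.T2H4DimFun4

set_option autoImplicit false
set_option linter.style.haveILetI false
set_option backward.isDefEq.respectTransparency.types false
universe u
open CategoryTheory CategoryTheory.Limits
attribute [local instance] HasDerivedCategory.standard

namespace Groth.Agent.Lib.T2H4.DimFun

open DerivedCategory Pretriangulated Groth.Agent.S14388 Groth.Agent.Lib.T2H4.LocalDual
  Groth.Agent.Lib.T2H4.DComp Groth.Agent.Lib.T2H4.TorIndep Groth.Agent.Lib.Helper1.Extend
  Groth.Agent.Lib.Helper1.LDer Groth.Agent.Lib.T2H4.DualField Groth.Agent.Lib.T2H4.LocKL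

section Idx

variable {A : Type u} [CommRing A]

lemma van_iff_notMem_support (ω : Dual.D A) (p : PrimeSpectrum A) (M : Type u) [AddCommGroup M]
    [Module A M] (i : ℤ) :
    Van ω p M i ↔ p ∉ Module.support A (Dual.inD A M ⟶ ω⟦i⟧) :=
  Module.notMem_support_iff'.symm

lemma not_van_iff_nontrivial (ω : Dual.D A) (p : PrimeSpectrum A) (M : Type u) [AddCommGroup M]
    [Module A M] (i : ℤ) :
    ¬ Van ω p M i ↔
      Nontrivial (LocalizedModule p.asIdeal.primeCompl (Dual.inD A M ⟶ ω⟦i⟧)) := by
  rw [van_iff_notMem_support, not_not]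
  rfl

variable [IsNoetherianRing A] (ω : Dual.D A) (hω : Dual.IsDualizing A ω)

/-- the index of a prime with respect to a dualizing complex (minus the dimension function). -/
noncomputable def idx (p : PrimeSpectrum A) : ℤ := Classical.choose (exists_index ω hω p)

lemma idx_spec (p : PrimeSpectrum A) (i : ℤ) :
    Van ω p (A ⧸ p.asIdeal) i ↔ i ≠ idx ω hω p :=
  Classical.choose_spec (exists_index ω hω p) i

lemma idx_covBy (p q : PrimeSpectrum A) (hpq : p ⋖ q) : idx ω hω p + 1 = idx ω hω q :=
  index_step hω p q hpq _ _ (idx_spec ω hω p) (idx_spec ω hω q)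

include hω in
/-- **S1722**: existence of the dimension function. -/
theorem exists_dimension_function :
    ∃ δ : PrimeSpectrum A → ℤ, (∀ (p : PrimeSpectrum A) (i : ℤ),
      Nontrivial (LocalizedModule p.asIdeal.primeCompl
        (Dual.inD A (A ⧸ p.asIdeal) ⟶ ω⟦i⟧)) ↔ i = -δ p) ∧
      ∀ p q : PrimeSpectrum A, p ⋖ q → δ p = δ q + 1 := by
  refine ⟨fun p => -idx ω hω p, fun p i => ?_, fun p q hpq => ?_⟩
  · rw [← not_van_iff_nontrivial, idx_spec ω hω p i, not_not, neg_neg]
  · have := idx_covBy ω hω p q hpq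
    lia

lemma exists_le_covBy (p q : PrimeSpectrum A) (h : p < q) : ∃ x, p ≤ x ∧ x ⋖ q := by
  obtain ⟨⟨x, hx⟩, hqx, hxp⟩ :=
    @exists_le_covBy_of_lt { I : Ideal A // I.IsPrime } ⟨p.asIdeal, p.2⟩ ⟨q.asIdeal, q.2⟩ _ _ h
  refine ⟨⟨x, hx⟩, hqx, hxp.1, fun r hr hrq => ?_⟩
  exact hxp.2 (show (⟨x, hx⟩ : { I : Ideal A // I.IsPrime }) < ⟨r.asIdeal, r.2⟩ from hr) hrq

lemma height_lt_top (q : PrimeSpectrum A) : Order.height q < ⊤ := by
  have := Ideal.finiteHeight_of_isNoetherianRing q.asIdeal
  have h1 := Ideal.height_lt_top (I := q.asIdeal) q.2.ne_top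
  rw [PrimeSpectrum.height_eq_orderHeight] at h1
  exact h1

lemma idx_lt_aux : ∀ (k : ℕ) (q : PrimeSpectrum A), Order.height q ≤ k →
    ∀ p : PrimeSpectrum A, p < q → idx ω hω p < idx ω hω q
  | 0 => by
    intro q hq p hpq
    have : IsMin q := Order.height_eq_zero.1 (by simpa using hq)
    exact absurd hpq (this.not_lt)
  | k + 1 => by
    intro q hq p hpq
    obtain ⟨x, hpx, hxq⟩ := exists_le_covBy p q hpq
    have h1 := idx_covBy ω hω x q hxq
    have h2 : Order.height x ≤ k := by
      have h3 := Order.height_strictMono hxq.lt (height_lt_top x)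
      have h4 : Order.height x < (k : ℕ∞) + 1 := lt_of_lt_of_le h3 (by simpa using hq)
      exact Order.le_of_lt_add_one h4
    rcases eq_or_lt_of_le hpx with rfl | hlt
    · lia
    · have := idx_lt_aux k x h2 p hlt
      lia

lemma idx_strictMono : StrictMono (idx ω hω) := by
  intro p q hpq
  obtain ⟨k, hk⟩ := ENat.ne_top_iff_exists.1 (height_lt_top q).ne
  exact idx_lt_aux ω hω k q hk.symm.le p hpq

include hω in
/-- **S0371**: finiteness of the Krull dimension. -/
theorem ringKrullDim_lt_top_of_isDualizing : ringKrullDim A < ⊤ := by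
  obtain ⟨a, b, hab⟩ := hω.finite_injective_dimension
  have hbd : ∀ p : PrimeSpectrum A, a ≤ idx ω hω p ∧ idx ω hω p ≤ b := by
    intro p
    by_contra hcon
    have h1 : idx ω hω p < a ∨ b < idx ω hω p := by lia
    exact (idx_spec ω hω p _).1 (van_of_subsingleton_hom p _ _ (hab _ _ h1)) rfl
  have hlen : ∀ s : LTSeries (PrimeSpectrum A), (s.length : ℤ) ≤ b - a := by
    intro s
    have h1 : ∀ i : Fin (s.length + 1), idx ω hω (s 0) + (i : ℕ) ≤ idx ω hω (s i) := by
      intro i
      induction i using Fin.induction with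
      | zero => simp
      | succ j ih =>
        have := idx_strictMono ω hω (s.step j)
        simp only [Fin.val_succ]
        push_cast
        rw [Fin.val_castSucc] at ih
        lia
    have h2 := h1 (Fin.last _)
    have h3 := (hbd (s 0)).1
    have h4 := (hbd (s (Fin.last _))).2
    simp only [Fin.val_last] at h2
    lia
  have hle : ringKrullDim A ≤ ((b - a).toNat : WithBot ℕ∞) := by
    rw [ringKrullDim, Order.krullDim]
    apply iSup_le
    intro s
    have := hlen s
    have h5 : s.length ≤ (b - a).toNat := by lia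
    exact_mod_cast h5
  refine lt_of_le_of_lt hle ?_
  have h6 : (((b - a).toNat : ℕ∞) : WithBot ℕ∞) < ((⊤ : ℕ∞) : WithBot ℕ∞) :=
    WithBot.coe_lt_coe.2 (ENat.natCast_lt_top _)
  exact h6

end Idx

end Groth.Agent.Lib.T2H4.DimFun
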