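import Groth.Agent.Lib.T2H4DimFun5
import Mathlib.RingTheory.Ideal.AssociatedPrime.Localization

set_option autoImplicit false
set_option linter.style.haveILetI false
set_option backward.isDefEq.respectTransparency.types false
universe u
open CategoryTheory CategoryTheory.Limits
attribute [local instance] HasDerivedCategory.standard

namespace Groth.Agent.Lib.T2H4.DimFun

open DerivedCategory Pretriangulated Groth.Agent.S14388 Groth.Agent.Lib.T2H4.LocalDual
  Groth.Agent.Lib.T2H4.DComp Groth.Agent.Lib.T2H4.TorIndep Groth.Agent.Lib.Helper1.Extend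
  Groth.Agent.Lib.Helper1.LDer Groth.Agent.Lib.T2H4.DualField Groth.Agent.Lib.T2H4.LocKL

section Above

variable {A : Type u} [CommRing A] [IsNoetherianRing A] [IsLocalRing A] {ω : Dual.D A}

open scoped Pointwise in
/-- `Ext^i(N, ω)_q = 0` for `i > - dim A/q`. -/
theorem van_above (hω : Dual.IsDualizing A ω) (hn : Dual.IsNormalized A ω) (q : PrimeSpectrum A)
    (c : ℕ) (hc : Order.coheight q = c) :
    ∀ (d : ℕ) (N : Type u) [AddCommGroup N] [Module A N] [Module.Finite A N],
      Module.supportDim A N < (d : WithBot ℕ∞) → ∀ i : ℤ, -(c : ℤ) < i → Van ω q N i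
  | 0 => by
    intro N _ _ _ hdim i _
    have h0 : Module.supportDim A N = ⊥ := by
      by_contra hne
      obtain ⟨e, he⟩ := WithBot.ne_bot_iff_exists.1 hne
      rw [← he] at hdim
      have h3 : ((0 : ℕ) : WithBot ℕ∞) = (((0 : ℕ) : ℕ∞) : WithBot ℕ∞) := rfl
      rw [h3, WithBot.coe_lt_coe] at hdim
      simp at hdim
    haveI : Subsingleton N := (Module.supportDim_eq_bot_iff_subsingleton A N).1 h0
    exact van_of_subsingleton q N i
  | d + 1 => by
    intro N _ _ hN
    induction hN using IsNoetherianRing.induction_on_isQuotientEquivQuotientPrime A with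
    | subsingleton N =>
      intro _ i _
      exact van_of_subsingleton q N i
    | quotient N p e =>
      intro hdim i hi
      apply van_of_equiv q e i
      haveI := p.2
      by_cases hpq : p ≤ q
      · rcases eq_or_lt_of_le hpq with rfl | hlt
        · exact (van_quot_iff_of_coheight hω hn c p hc i).2 (by lia)
        · obtain ⟨x, hxq, hxp⟩ : ∃ x ∈ q.asIdeal, x ∉ p.asIdeal := Set.not_subset.1 hlt.not_ge
          have hx : x ∈ IsLocalRing.maximalIdeal A := IsLocalRing.le_maximalIdeal q.2.ne_top hxq
          have hreg : IsSMulRegular (A ⧸ p.asIdeal) x :=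
            Groth.Agent.Lib.T2H4.Depth.isSMulRegular_quot_prime p.asIdeal x hxp
          apply van_of_regular hω q (A ⧸ p.asIdeal) x hxq hreg i
          haveI : Module.Finite A (QuotSMulTop x (A ⧸ p.asIdeal)) :=
            inferInstanceAs (Module.Finite A ((A ⧸ p.asIdeal) ⧸ _))
          apply van_above hω hn q c hc d (QuotSMulTop x (A ⧸ p.asIdeal)) ?_ (i + 1) (by lia)
          apply Groth.Agent.Lib.T2H4.Depth.lt_of_add_one_lt
          rw [Module.supportDim_quotSMulTop_succ_eq_supportDim hreg hx,
            ← Module.supportDim_eq_of_equiv e]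
          exact hdim
      · exact van_quot_of_not_le ω p q hpq i
    | exact N₁ N₂ N₃ f g hf hg hfg h₁ h₃ =>
      intro hdim i hi
      exact van_middle q f g hf hg hfg i
        (h₁ (lt_of_le_of_lt (Module.supportDim_le_of_injective f hf) hdim) i hi)
        (h₃ (lt_of_le_of_lt (Module.supportDim_le_of_surjective g hg) hdim) i hi)

/-- `Ext^i(N, ω)_q = 0` for `i > - dim A/q`, for every finite module. -/
theorem van_above' (hω : Dual.IsDualizing A ω) (hn : Dual.IsNormalized A ω) (q : PrimeSpectrum A)
    (c : ℕ) (hc : Order.coheight q = c) (N : Type u) [AddCommGroup N] [Module A N]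
    [Module.Finite A N] (i : ℤ) (hi : -(c : ℤ) < i) : Van ω q N i := by
  have hfin : Module.supportDim A N < ⊤ :=
    lt_of_le_of_lt (Module.supportDim_le_ringKrullDim A N) ringKrullDim_lt_top
  obtain ⟨d, hd⟩ : ∃ d : ℕ, Module.supportDim A N < (d : WithBot ℕ∞) := by
    rcases h : Module.supportDim A N with _ | e
    · exact ⟨0, WithBot.bot_lt_coe _⟩
    · rw [h] at hfin
      have he : e ≠ ⊤ := by
        rintro rfl
        exact lt_irrefl _ hfin
      obtain ⟨k, rfl⟩ := ENat.ne_top_iff_exists.1 he
      refine ⟨k + 1, ?_⟩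
      have : ((k : ℕ∞) : WithBot ℕ∞) < (((k + 1 : ℕ) : ℕ∞) : WithBot ℕ∞) :=
        WithBot.coe_lt_coe.2 (by exact_mod_cast Nat.lt_succ_self k)
      exact this
  exact van_above hω hn q c hc d N hd i hi

end Above

end Groth.Agent.Lib.T2H4.DimFun
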