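import Groth.Agent.Lib.T2H4DimFun6

set_option autoImplicit false
set_option linter.style.haveILetI false
set_option backward.isDefEq.respectTransparency.types false
universe u
open CategoryTheory CategoryTheory.Limits
attribute [local instance] HasDerivedCategory.standard

namespace Groth.Agent.Lib.T2H4.DimFun

open DerivedCategory Pretriangulated Groth.Agent.S14388 Groth.Agent.Lib.T2H4.LocalDual
  Groth.Agent.Lib.T2H4.DComp Groth.Agent.Lib.T2H4.TorIndep Groth.Agent.Lib.Helper1.Extend
  Groth.Agent.Lib.Helper1.LDer Groth.Agent.Lib.T2H4.DualField Groth.Agent.Lib.T2H4.LocKL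

section SuppDim

variable {A : Type u} [CommRing A] [IsNoetherianRing A] [IsLocalRing A] {ω : Dual.D A}

/-- **S0366**. -/
theorem ext_range_and_supportDim (hω : Dual.IsDualizing A ω) (hn : Dual.IsNormalized A ω)
    (M : Type u) [AddCommGroup M] [Module A M] [Module.Finite A M] (d : ℕ)
    (hd : Module.supportDim A M = d) (i : ℤ) :
    (Nontrivial (Dual.inD A M ⟶ ω⟦i⟧) → (-(d : ℤ) ≤ i ∧ i ≤ 0)) ∧
      Module.supportDim A (Dual.inD A M ⟶ ω⟦i⟧) ≤ ((-i).toNat : WithBot ℕ∞) := by
  constructor
  · intro hnt
    constructor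
    · by_contra hcon
      have hlt : Module.supportDim A M < ((d + 1 : ℕ) : WithBot ℕ∞) := by
        rw [hd]
        exact_mod_cast Nat.lt_succ_self d
      have := Groth.Agent.Lib.T2H4.Depth.subsingleton_hom_below ω hω hn (d + 1) M hlt i
        (by push_cast; lia)
      exact not_subsingleton _ this
    · by_contra hcon
      have := subsingleton_hom_pos ω hω hn M i (by lia)
      exact not_subsingleton _ this
  · rw [Module.supportDim, Order.krullDim_eq_iSup_coheight]
    apply iSup_le
    intro q
    have hq : ¬ Van ω q.1 M i := by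
      rw [van_iff_notMem_support, not_not]
      exact q.2
    obtain ⟨c, hc⟩ := ENat.ne_top_iff_exists.1 (Order.coheight_lt_top q.1).ne
    have h1 : ¬ (-(c : ℤ) < i) := fun h => hq (van_above' hω hn q.1 c hc.symm M i h)
    have h2 : Order.coheight q ≤ Order.coheight q.1 :=
      Order.coheight_le_coheight_apply_of_strictMono Subtype.val (fun _ _ h => h) q
    rw [← hc] at h2
    have h3 : c ≤ (-i).toNat := by lia
    have h4 : Order.coheight q ≤ ((-i).toNat : ℕ∞) := h2.trans (by exact_mod_cast h3)
    exact_mod_cast h4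

end SuppDim


section TopPrime

variable {A : Type u} [CommRing A] [IsNoetherianRing A]

/-- a prime of maximal dimension in the support is an associated prime. -/
lemma exists_prime_of_supportDim (M : Type u) [AddCommGroup M] [Module A M] [Module.Finite A M]
    [Nontrivial M] (d : ℕ) (hd : Module.supportDim A M = d) :
    ∃ p : PrimeSpectrum A, Order.coheight p = d ∧
      ∃ f : A ⧸ p.asIdeal →ₗ[A] M, Function.Injective f := by
  have hne : Nonempty (Module.support A M) :=
    (Module.nonempty_support_of_nontrivial (R := A) (M := M)).to_subtype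
  have hkd : Order.krullDim (Module.support A M) = d := hd
  haveI : FiniteDimensionalOrder (Module.support A M) := by
    rw [Order.finiteDimensionalOrder_iff_krullDim_ne_bot_and_top, hkd]
    constructor
    · exact WithBot.coe_ne_bot
    · intro h
      have h1 : ((d : ℕ∞) : WithBot ℕ∞) = ((⊤ : ℕ∞) : WithBot ℕ∞) := h
      rw [WithBot.coe_inj] at h1
      exact ENat.natCast_ne_top d h1
  let s := LTSeries.longestOf (Module.support A M)
  have hs : (s.length : WithBot ℕ∞) = d := by
    rw [← hkd, Order.krullDim_eq_length_of_finiteDimensionalOrder]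
  have hs' : s.length = d := by exact_mod_cast hs
  let p : PrimeSpectrum A := s.head.1
  have hp : p ∈ Module.support A M := s.head.2
  -- coheight
  have hco : Order.coheight s.head = Order.coheight p := by
    apply Order.coheight_eq_of_strictMono Subtype.val (fun _ _ h => h)
    intro a b hab
    exact ⟨⟨b, Module.mem_support_mono hab.le a.2⟩, hab, rfl⟩
  have h1 : (s.length : ℕ∞) ≤ Order.coheight s.head := Order.length_le_coheight_head
  have h2 : ((Order.coheight s.head : ℕ∞) : WithBot ℕ∞) ≤ Order.krullDim (Module.support A M) :=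
    Order.coheight_le_krullDim _
  have h3 : Order.coheight p = d := by
    rw [← hco]
    apply le_antisymm
    · rw [hkd] at h2
      exact_mod_cast h2
    · rw [hs'] at h1
      exact h1
  refine ⟨p, h3, ?_⟩
  -- minimality
  have hmin : p.asIdeal ∈ (Module.annihilator A M).minimalPrimes := by
    refine ⟨⟨p.2, Module.mem_support_iff_of_finite.1 hp⟩, fun q hq hqp => ?_⟩
    by_contra hcon
    have hq' : (⟨q, hq.1⟩ : PrimeSpectrum A) ∈ Module.support A M :=
      Module.mem_support_iff_of_finite.2 hq.2
    have hlt : (⟨⟨q, hq.1⟩, hq'⟩ : Module.support A M) < s.head :=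
      lt_of_le_of_ne hqp (fun h => hcon (by
        have h6 : q = p.asIdeal := congrArg (fun x : Module.support A M => x.1.asIdeal) h
        rw [h6]))
    have h5 := LTSeries.longestOf_is_longest (s.cons ⟨⟨q, hq.1⟩, hq'⟩ hlt)
    simp at h5
    lia
  have hass := Module.associatedPrimes.minimalPrimes_annihilator_subset_associatedPrimes A M hmin
  exact ((isAssociatedPrime_iff_exists_injective_linearMap _ _).1 hass).2

end TopPrime

section Nonvanishing

variable {A : Type u} [CommRing A] [IsNoetherianRing A] [IsLocalRing A] {ω : Dual.D A}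

/-- **S19859**. -/
theorem nontrivial_ext_supportDim (hω : Dual.IsDualizing A ω) (hn : Dual.IsNormalized A ω)
    (M : Type u) [AddCommGroup M] [Module A M] [Module.Finite A M] [Nontrivial M]
    (d : ℕ) (hd : Module.supportDim A M = d) :
    Nontrivial (Dual.inD A M ⟶ ω⟦(-(d : ℤ))⟧) := by
  obtain ⟨p, hp, f, hf⟩ := exists_prime_of_supportDim M d hd
  have hnv : ¬ Van ω p (A ⧸ p.asIdeal) (-(d : ℤ)) := fun h =>
    (van_quot_iff_of_coheight hω hn d p hp _).1 h rfl
  rw [Van] at hnv
  push Not at hnv
  obtain ⟨φ, hφ⟩ := hnv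
  have h3 : Van ω p (M ⧸ LinearMap.range f) (-(d : ℤ) + 1) :=
    van_above' hω hn p d hp _ _ (by lia)
  obtain ⟨s, hs, ψ, hψ⟩ := exists_smul_extension p f (LinearMap.range f).mkQ hf
    (Submodule.mkQ_surjective _) (LinearMap.exact_map_mkQ_range f) (-(d : ℤ)) h3 φ
  refine ⟨ψ, 0, ?_⟩
  rintro rfl
  rw [comp_zero] at hψ
  exact hφ s hs hψ

end Nonvanishing

end Groth.Agent.Lib.T2H4.DimFun
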