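import Groth.Agent.Lib.T2H4DualFinite2

set_option autoImplicit false
set_option linter.style.haveILetI false
set_option backward.isDefEq.respectTransparency.types false
universe u
open CategoryTheory CategoryTheory.Limits
attribute [local instance] HasDerivedCategory.standard

namespace Groth.Agent.Lib.T2H4.DualField

open DerivedCategory HomologicalComplex

section Split

variable {k : Type u} [Field k] (J : CochainComplex (ModuleCat.{u} k) ℤ) (i : ℤ)

instance (M : ModuleCat.{u} k) : Projective M :=
  haveI := Module.projective_of_isSemisimpleRing k M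
  inferInstance

instance (M : ModuleCat.{u} k) : Injective M :=
  Module.injective_object_of_injective_module k M
    (inj := Module.injective_of_isSemisimpleRing k M)

/-- a section of `Z^i ↠ H^i`. -/
noncomputable def σ : J.homology i ⟶ J.cycles i :=
  Projective.factorThru (𝟙 (J.homology i)) (J.homologyπ i)

lemma σ_π : σ J i ≫ J.homologyπ i = 𝟙 _ := Projective.factorThru_comp _ _

/-- a retraction of `H^i ↪ J^i/B^i`. -/
noncomputable def ρ : J.opcycles i ⟶ J.homology i :=
  Injective.factorThru (𝟙 (J.homology i)) (J.homologyι i)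

lemma ι_ρ : J.homologyι i ≫ ρ J i = 𝟙 _ := Injective.comp_factorThru _ _

/-- the chain map `H^i[-i] ⟶ J`. -/
noncomputable def sMap : (single (ModuleCat.{u} k) (ComplexShape.up ℤ) i).obj (J.homology i) ⟶ J :=
  mkHomFromSingle (σ J i ≫ J.iCycles i) (fun j _ => by rw [Category.assoc, iCycles_d, comp_zero])

/-- the chain map `J ⟶ H^i[-i]`. -/
noncomputable def pMap : J ⟶ (single (ModuleCat.{u} k) (ComplexShape.up ℤ) i).obj (J.homology i) :=
  mkHomToSingle (J.pOpcycles i ≫ ρ J i) (fun j _ => by rw [d_pOpcycles_assoc, zero_comp])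

lemma sMap_pMap : sMap J i ≫ pMap J i = 𝟙 _ := by
  apply from_single_hom_ext
  rw [comp_f, id_f]
  unfold sMap pMap
  rw [mkHomFromSingle_f, mkHomToSingle_f]
  simp only [Category.assoc]
  rw [← Category.assoc (J.iCycles i), ← homology_π_ι, Category.assoc,
    ← Category.assoc (J.homologyι i), ι_ρ, Category.id_comp,
    ← Category.assoc (σ J i), σ_π, Category.id_comp, Iso.hom_inv_id]

lemma homologyMap_sMap : homologyMap (sMap J i) i =
    (singleObjHomologySelfIso (ComplexShape.up ℤ) i (J.homology i)).hom := by
  have h1 : cyclesMap (sMap J i) i =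
      (singleObjCyclesSelfIso (ComplexShape.up ℤ) i (J.homology i)).hom ≫ σ J i := by
    rw [← cancel_mono (J.iCycles i), cyclesMap_i, Category.assoc, singleObjCyclesSelfIso_hom,
      Category.assoc]
    unfold sMap
    rw [mkHomFromSingle_f]
  rw [← cancel_epi (((single (ModuleCat.{u} k) (ComplexShape.up ℤ) i).obj
    (J.homology i)).homologyπ i), homologyπ_naturality, h1, Category.assoc, σ_π, Category.comp_id,
    homologyπ_singleObjHomologySelfIso_hom]

lemma homologyMap_pMap : homologyMap (pMap J i) i =
    (singleObjHomologySelfIso (ComplexShape.up ℤ) i (J.homology i)).inv := by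
  have h : homologyMap (sMap J i ≫ pMap J i) i = homologyMap (𝟙 _) i := by rw [sMap_pMap]
  rw [homologyMap_comp, homologyMap_id, homologyMap_sMap] at h
  rw [← cancel_epi (singleObjHomologySelfIso (ComplexShape.up ℤ) i (J.homology i)).hom, h,
    Iso.hom_inv_id]

/-- the idempotent endomorphism of `J` projecting on `H^i`. -/
noncomputable def eMap : J ⟶ J := pMap J i ≫ sMap J i

lemma homologyMap_eMap_self : homologyMap (eMap J i) i = 𝟙 _ := by
  unfold eMap
  rw [homologyMap_comp, homologyMap_sMap, homologyMap_pMap, Iso.inv_hom_id]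

lemma homologyMap_eMap_of_ne (j : ℤ) (hj : j ≠ i) : homologyMap (eMap J i) j = 0 := by
  unfold eMap
  rw [homologyMap_comp]
  have hz : IsZero (((single (ModuleCat.{u} k) (ComplexShape.up ℤ) i).obj (J.homology i)).homology j) :=
    isZero_single_obj_homology _ _ _ _ hj
  rw [hz.eq_of_tgt (homologyMap (pMap J i) j) 0, zero_comp]

end Split

end Groth.Agent.Lib.T2H4.DualField
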