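import Groth.Agent.Lib.T2H4DualFinite

set_option autoImplicit false
set_option linter.style.haveILetI false
set_option backward.isDefEq.respectTransparency.types false
universe u
open CategoryTheory CategoryTheory.Limits
attribute [local instance] HasDerivedCategory.standard

namespace Groth.Agent.Lib.T2H4.DualFinite

open DerivedCategory Groth.Agent.Lib.T2H4.DComp Groth.Agent.Lib.Helper1.Restrict

section Normalized

variable {A : Type u} [CommRing A] [IsLocalRing A]

/-- maps out of a finite-dimensional residue-field vector space vanish as soon as the maps out of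
the residue field do. -/
lemma subsingleton_hom_of_finite_residue (N : ModuleCat.{u} A)
    [Module (IsLocalRing.ResidueField A) N] [IsScalarTower A (IsLocalRing.ResidueField A) N]
    [Module.Finite (IsLocalRing.ResidueField A) N] (K : Dual.D A)
    (h : Subsingleton (Dual.inD A (IsLocalRing.ResidueField A) ⟶ K)) :
    Subsingleton ((singleFunctor (ModuleCat.{u} A) 0).obj N ⟶ K) := by
  let bas := Module.finBasis (IsLocalRing.ResidueField A) N
  let π : ∀ j, N ⟶ ModuleCat.of A (IsLocalRing.ResidueField A) := fun j =>
    ModuleCat.ofHom ((bas.coord j).restrictScalars A)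
  let ι : ∀ j, ModuleCat.of A (IsLocalRing.ResidueField A) ⟶ N := fun j =>
    ModuleCat.ofHom ((LinearMap.toSpanSingleton (IsLocalRing.ResidueField A) N (bas j)).restrictScalars A)
  have hsum : 𝟙 N = ∑ j, π j ≫ ι j := by
    ext x
    rw [ModuleCat.hom_sum]
    rw [LinearMap.sum_apply]
    exact (bas.sum_repr x).symm
  have key : ∀ f : (singleFunctor (ModuleCat.{u} A) 0).obj N ⟶ K, f = 0 := by
    intro f
    have h1 : f = (singleFunctor (ModuleCat.{u} A) 0).map (𝟙 N) ≫ f := by
      rw [CategoryTheory.Functor.map_id, Category.id_comp]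
    rw [h1, hsum, Functor.map_sum, Preadditive.sum_comp]
    apply Finset.sum_eq_zero
    intro j _
    rw [Functor.map_comp, Category.assoc]
    have h2 : (singleFunctor (ModuleCat.{u} A) 0).map (ι j) ≫ f = 0 := Subsingleton.elim _ _
    rw [h2, comp_zero]
  exact ⟨fun f g => (key f).trans (key g).symm⟩

end Normalized

section NormalizedFinite

variable {A B : Type u} [CommRing A] [CommRing B] [IsLocalRing A] [IsLocalRing B] [Algebra A B]
  [IsLocalHom (algebraMap A B)] [Module.Finite A B]

theorem isNormalized_rightAdjoint (R : Dual.D A ⥤ Dual.D B)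
    (adj : DRing.restrictD (algebraMap A B) ⊣ R) (ω : Dual.D A) (hn : Dual.IsNormalized A ω) :
    Dual.IsNormalized B (R.obj ω) := by
  intro i hi
  letI : R.CommShift ℤ := adj.rightAdjointCommShift ℤ
  let X : Dual.D B := Dual.inD B (IsLocalRing.ResidueField B)
  let N : ModuleCat.{u} A := (ModuleCat.restrictScalars.{u} (algebraMap A B)).obj
    (ModuleCat.of B (IsLocalRing.ResidueField B))
  let iso1 : R.obj (ω⟦i⟧) ≅ (R.obj ω)⟦i⟧ := (R.commShiftIso i).app ω
  let iso2 : (DRing.restrictD (algebraMap A B)).obj X ≅
      (singleFunctor (ModuleCat.{u} A) 0).obj N :=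
    restrictDSingleIso (algebraMap A B) (ModuleCat.of B (IsLocalRing.ResidueField B)) 0
  letI : Module (IsLocalRing.ResidueField A) N :=
    inferInstanceAs (Module (IsLocalRing.ResidueField A) (IsLocalRing.ResidueField B))
  haveI : IsScalarTower A (IsLocalRing.ResidueField A) N := ⟨fun a c x => by
    show ((a • c : IsLocalRing.ResidueField A) • (show IsLocalRing.ResidueField B from x)) =
      algebraMap A B a • (c • (show IsLocalRing.ResidueField B from x))
    rw [algebraMap_smul, smul_assoc]⟩
  haveI : Module.Finite (IsLocalRing.ResidueField A) N :=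
    inferInstanceAs (Module.Finite (IsLocalRing.ResidueField A) (IsLocalRing.ResidueField B))
  haveI := subsingleton_hom_of_finite_residue N (ω⟦i⟧) (hn i hi)
  let eqv : (X ⟶ (R.obj ω)⟦i⟧) ≃ ((singleFunctor (ModuleCat.{u} A) 0).obj N ⟶ ω⟦i⟧) :=
    (Iso.homCongr (Iso.refl X) iso1.symm).trans
      ((adj.homEquiv X _).symm.trans (Iso.homCongr iso2 (Iso.refl _)))
  exact eqv.subsingleton

end NormalizedFinite

end Groth.Agent.Lib.T2H4.DualFinite
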