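import Groth.Agent.Lib.T2H4DualShift

set_option autoImplicit false
set_option linter.style.haveILetI false
set_option backward.isDefEq.respectTransparency.types false
universe u
open CategoryTheory CategoryTheory.Limits
attribute [local instance] HasDerivedCategory.standard

namespace Groth.Agent.Lib.T2H4.DualShift

open DerivedCategory Pretriangulated Groth.Agent.Lib.T2H4.DimFun Groth.Agent.Lib.T2H4.LocKL
  Groth.Agent.Lib.T2H4.LocalDual

section DepthGeneral

variable {B : Type u} [CommRing B] [IsLocalRing B] [IsNoetherianRing B]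

/-- depth via `Ext` into a (not necessarily normalized) dualizing complex. -/
theorem depth_aux_general (T : Dual.D B) (hT : Dual.IsDualizing B T) (c : ℤ)
    (hc : ∀ j : ℤ, j ≠ c → Subsingleton (Dual.inD B (B ⧸ IsLocalRing.maximalIdeal B) ⟶ T⟦j⟧))
    (n : ℕ) (N : Type u) [AddCommGroup N] [Module B N] [Module.Finite B N] [Nontrivial N]
    (hd : LocCoh.depth B N = n) :
    (∀ i : ℤ, c - n < i → Subsingleton (Dual.inD B N ⟶ T⟦i⟧)) ∧
      Nontrivial (Dual.inD B N ⟶ T⟦c - n⟧) := by
  have hT' := isDualizing_shift T hT c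
  have hn' : Dual.IsNormalized B (T⟦c⟧) := by
    intro j hj
    rw [subsingleton_hom_shift_shift_iff _ T c j (c + j) rfl]
    exact hc (c + j) (by lia)
  obtain ⟨h1, h2⟩ := Groth.Agent.Lib.T2H4.Depth.depth_aux (T⟦c⟧) hT' hn' n N hd
  refine ⟨fun i hi => ?_, ?_⟩
  · rw [← subsingleton_hom_shift_shift_iff _ T c (i - c) i (by ring)]
    exact h1 (i - c) (by lia)
  · rw [← nontrivial_hom_shift_shift_iff _ T c (-(n : ℤ)) (c - n) (by ring)]
    exact h2

end DepthGeneral

section Loc

variable {A : Type u} [CommRing A] [IsNoetherianRing A] (ω : Dual.D A)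
  (hω : Dual.IsDualizing A ω)

include hω in
/-- vanishing at `p` of `Ext^i(M, ω)` in terms of the localization at `p`. -/
lemma van_iff_subsingleton_loc (p : PrimeSpectrum A)
    [DRing.HasLBaseChange (algebraMap A (Localization.AtPrime p.asIdeal))]
    (M : Type u) [AddCommGroup M] [Module A M] [Module.Finite A M] (i : ℤ) :
    Van ω p M i ↔
      Subsingleton (Dual.inD (Localization.AtPrime p.asIdeal)
        (LocalizedModule p.asIdeal.primeCompl M) ⟶
        ((DRing.LBaseChange (algebraMap A (Localization.AtPrime p.asIdeal))).obj ω)⟦i⟧) := by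
  obtain ⟨a, b, hab⟩ := isZero_HD_of_isDualizing ω hω
  haveI : ω.IsGE a := (DerivedCategory.isGE_iff ω a).2 (fun i hi => hab i (Or.inl hi))
  haveI : Module.Flat A (Localization.AtPrime p.asIdeal) :=
    IsLocalization.flat _ p.asIdeal.primeCompl
  obtain ⟨e1⟩ := nonempty_lbc_inD_iso A (Localization.AtPrime p.asIdeal) M
  let e2 : TensorProduct A (Localization.AtPrime p.asIdeal) M ≃ₗ[Localization.AtPrime p.asIdeal]
      LocalizedModule p.asIdeal.primeCompl M :=
    (IsLocalizedModule.isBaseChange p.asIdeal.primeCompl (Localization.AtPrime p.asIdeal)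
      (LocalizedModule.mkLinearMap p.asIdeal.primeCompl M)).equiv
  let e : (DRing.LBaseChange (algebraMap A (Localization.AtPrime p.asIdeal))).obj (Dual.inD A M) ≅
      Dual.inD (Localization.AtPrime p.asIdeal) (LocalizedModule p.asIdeal.primeCompl M) :=
    e1 ≪≫ (singleFunctor (ModuleCat.{u} (Localization.AtPrime p.asIdeal)) 0).mapIso e2.toModuleIso
  have h1 := subsingleton_hom_lbc_iff p.asIdeal.primeCompl (Localization.AtPrime p.asIdeal)
    (Dual.inD A M) ω a 0 0 (isZero_HD_inD _) (finite_HD_inD _) i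
  have h2 : Subsingleton (Dual.inD (Localization.AtPrime p.asIdeal)
        (LocalizedModule p.asIdeal.primeCompl M) ⟶
        ((DRing.LBaseChange (algebraMap A (Localization.AtPrime p.asIdeal))).obj ω)⟦i⟧) ↔
      Subsingleton ((DRing.LBaseChange (algebraMap A (Localization.AtPrime p.asIdeal))).obj
        (Dual.inD A M) ⟶
        ((DRing.LBaseChange (algebraMap A (Localization.AtPrime p.asIdeal))).obj ω)⟦i⟧) :=
    ⟨fun h => ⟨fun f g => by
      rw [← cancel_epi e.inv]
      exact h.elim _ _⟩, fun h => ⟨fun f g => by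
      rw [← cancel_epi e.hom]
      exact h.elim _ _⟩⟩
  rw [h2, h1]
  constructor
  · intro h f
    obtain ⟨s, hs, h0⟩ := h f
    exact ⟨s, hs, h0⟩
  · intro h f
    obtain ⟨s, hs, h0⟩ := h f
    exact ⟨s, hs, h0⟩

end Loc

end Groth.Agent.Lib.T2H4.DualShift
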