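import Groth.Agent.Lib.T2H4DualShift2

set_option autoImplicit false
set_option linter.style.haveILetI false
set_option backward.isDefEq.respectTransparency.types false
universe u
open CategoryTheory CategoryTheory.Limits
attribute [local instance] HasDerivedCategory.standard

namespace Groth.Agent.Lib.T2H4.DualShift

open DerivedCategory Pretriangulated Groth.Agent.Lib.T2H4.DimFun Groth.Agent.Lib.T2H4.LocKL
  Groth.Agent.Lib.T2H4.LocalDual Groth.Agent.Lib.Helper28

section Main

variable {A : Type u} [CommRing A] [IsLocalRing A] [IsNoetherianRing A] {ω : Dual.D A}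

/-- **S1712**. -/
theorem support_ext_iff_depth_add_dim (hω : Dual.IsDualizing A ω) (hn : Dual.IsNormalized A ω)
    (M : Type u) [AddCommGroup M] [Module A M] [Module.Finite A M] (i : ℕ) (p : PrimeSpectrum A) :
    (∃ j : ℕ, j ≤ i ∧ p ∈ Module.support A (Dual.inD A M ⟶ ω⟦(-(j : ℤ))⟧)) ↔
      ((LocCoh.depth (Localization.AtPrime p.asIdeal)
        (LocalizedModule p.asIdeal.primeCompl M) : ℕ∞) : WithBot ℕ∞) +
        ringKrullDim (A ⧸ p.asIdeal) ≤ (i : WithBot ℕ∞) := by
  haveI := Groth.Agent.Lib.T2H4.LDerExist.hasLBaseChange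
    (algebraMap A (Localization.AtPrime p.asIdeal))
  haveI : IsNoetherianRing (Localization.AtPrime p.asIdeal) :=
    IsLocalization.isNoetherianRing p.asIdeal.primeCompl _ inferInstance
  haveI : Module.Finite (Localization.AtPrime p.asIdeal)
      (LocalizedModule p.asIdeal.primeCompl M) :=
    Module.Finite.of_isLocalizedModule p.asIdeal.primeCompl
      (LocalizedModule.mkLinearMap p.asIdeal.primeCompl M)
  obtain ⟨c, hc⟩ := ENat.ne_top_iff_exists.1 (Order.coheight_lt_top p).ne
  have hdim : ringKrullDim (A ⧸ p.asIdeal) = ((c : ℕ∞) : WithBot ℕ∞) := by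
    rw [← coheight_eq_ringKrullDim_quot, hc]
  have hT := isDualizing_lbc p.asIdeal.primeCompl (Localization.AtPrime p.asIdeal) ω hω
  have hcB : ∀ j : ℤ, j ≠ -(c : ℤ) →
      Subsingleton (Dual.inD (Localization.AtPrime p.asIdeal)
        (Localization.AtPrime p.asIdeal ⧸
          IsLocalRing.maximalIdeal (Localization.AtPrime p.asIdeal)) ⟶
        ((DRing.LBaseChange (algebraMap A (Localization.AtPrime p.asIdeal))).obj ω)⟦j⟧) :=
    fun j hj => (van_quot_iff ω hω p j).1 ((van_quot_iff_of_coheight hω hn c p hc.symm j).2 hj)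
  have key : ∀ l : ℤ, p ∈ Module.support A (Dual.inD A M ⟶ ω⟦l⟧) ↔
      Nontrivial (Dual.inD (Localization.AtPrime p.asIdeal)
        (LocalizedModule p.asIdeal.primeCompl M) ⟶
        ((DRing.LBaseChange (algebraMap A (Localization.AtPrime p.asIdeal))).obj ω)⟦l⟧) := by
    intro l
    rw [← not_iff_not, ← van_iff_notMem_support, van_iff_subsingleton_loc ω hω p M l,
      not_nontrivial_iff_subsingleton]
  rw [hdim]
  by_cases hN : Subsingleton (LocalizedModule p.asIdeal.primeCompl M)
  · have hdepth : LocCoh.depth (Localization.AtPrime p.asIdeal)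
        (LocalizedModule p.asIdeal.primeCompl M) = ⊤ := by
      rw [LocCoh.depth, LocCoh.idealDepth, if_pos (Subsingleton.elim _ _)]
    constructor
    · rintro ⟨j, hj, hmem⟩
      have h1 := (key _).1 hmem
      have h2 := subsingleton_hom_inD_of_subsingleton (A := Localization.AtPrime p.asIdeal)
        (LocalizedModule p.asIdeal.primeCompl M)
        (((DRing.LBaseChange (algebraMap A (Localization.AtPrime p.asIdeal))).obj ω)⟦-(j : ℤ)⟧)
      exact absurd h2 (not_subsingleton _)
    · intro h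
      exfalso
      rw [hdepth] at h
      have h3 : ((⊤ : ℕ∞) : WithBot ℕ∞) + ((c : ℕ∞) : WithBot ℕ∞) = ((⊤ : ℕ∞) : WithBot ℕ∞) := by
        rw [← WithBot.coe_add, top_add]
      rw [h3] at h
      have h4 : ((i : ℕ∞) : WithBot ℕ∞) < ((⊤ : ℕ∞) : WithBot ℕ∞) :=
        WithBot.coe_lt_coe.2 (ENat.natCast_lt_top _)
      exact absurd h (not_le.2 h4)
  · haveI : Nontrivial (LocalizedModule p.asIdeal.primeCompl M) :=
      not_subsingleton_iff_nontrivial.1 hN
    have hne : LocCoh.depth (Localization.AtPrime p.asIdeal)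
        (LocalizedModule p.asIdeal.primeCompl M) ≠ ⊤ :=
      idealDepth_ne_top maximalIdeal_smul_top_ne_top
    obtain ⟨m, hm⟩ := ENat.ne_top_iff_exists.1 hne
    obtain ⟨h1, h2⟩ := depth_aux_general _ hT (-(c : ℤ)) hcB m
      (LocalizedModule p.asIdeal.primeCompl M) hm.symm
    rw [← hm]
    have hcast : (((m : ℕ∞) : WithBot ℕ∞) + ((c : ℕ∞) : WithBot ℕ∞) ≤ (i : WithBot ℕ∞)) ↔
        m + c ≤ i := by
      have h5 : (i : WithBot ℕ∞) = (((i : ℕ) : ℕ∞) : WithBot ℕ∞) := rfl
      rw [h5, ← WithBot.coe_add, WithBot.coe_le_coe]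
      exact_mod_cast Iff.rfl
    rw [hcast]
    constructor
    · rintro ⟨j, hj, hmem⟩
      haveI := (key _).1 hmem
      have h6 : ¬ (-(c : ℤ) - m < -(j : ℤ)) := fun h => not_subsingleton _ (h1 _ h)
      lia
    · intro h
      refine ⟨m + c, h, (key _).2 ?_⟩
      have h7 : -(((m + c : ℕ)) : ℤ) = -(c : ℤ) - m := by push_cast; ring
      rw [h7]
      exact h2

end Main

end Groth.Agent.Lib.T2H4.DualShift
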