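import Groth.Agent.Lib.T2H4DualShift3

set_option autoImplicit false
set_option linter.style.haveILetI false
set_option backward.isDefEq.respectTransparency.types false
universe u
open CategoryTheory CategoryTheory.Limits
attribute [local instance] HasDerivedCategory.standard

namespace Groth.Agent.Lib.T2H4.DualShift

open DerivedCategory Pretriangulated Groth.Agent.Lib.T2H4.DimFun Groth.Agent.Lib.T2H4.LocKL
  Groth.Agent.Lib.T2H4.LocalDual Groth.Agent.Lib.Helper28

section Range

variable {B : Type u} [CommRing B] [IsLocalRing B] [IsNoetherianRing B]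

lemma exists_supportDim_eq (N : Type u) [AddCommGroup N] [Module B N] [Nontrivial N] :
    ∃ e : ℕ, Module.supportDim B N = (e : WithBot ℕ∞) := by
  have hfin : Module.supportDim B N < ⊤ :=
    lt_of_le_of_lt (Module.supportDim_le_ringKrullDim B N) ringKrullDim_lt_top
  have hbot : Module.supportDim B N ≠ ⊥ := Module.supportDim_ne_bot_of_nontrivial B N
  obtain ⟨x, hx⟩ := WithBot.ne_bot_iff_exists.1 hbot
  rw [← hx] at hfin ⊢
  have hx' : x ≠ ⊤ := by
    rintro rfl
    exact lt_irrefl _ hfin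
  obtain ⟨k, rfl⟩ := ENat.ne_top_iff_exists.1 hx'
  exact ⟨k, rfl⟩

lemma exists_depth_eq (N : Type u) [AddCommGroup N] [Module B N] [Module.Finite B N]
    [Nontrivial N] : ∃ m : ℕ, LocCoh.depth B N = (m : ℕ∞) := by
  have hne : LocCoh.depth B N ≠ ⊤ := idealDepth_ne_top maximalIdeal_smul_top_ne_top
  obtain ⟨m, hm⟩ := ENat.ne_top_iff_exists.1 hne
  exact ⟨m, hm.symm⟩

/-- the range of nonvanishing `Ext^l(N, T)` for a dualizing complex `T` of index `c` is
`[c - dim N, c - depth N]`, with both ends attained. -/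
theorem ext_range_general (T : Dual.D B) (hT : Dual.IsDualizing B T) (c : ℤ)
    (hc : ∀ j : ℤ, j ≠ c → Subsingleton (Dual.inD B (B ⧸ IsLocalRing.maximalIdeal B) ⟶ T⟦j⟧))
    (N : Type u) [AddCommGroup N] [Module B N] [Module.Finite B N] [Nontrivial N]
    (m e : ℕ) (hm : LocCoh.depth B N = m) (he : Module.supportDim B N = e) :
    (∀ l : ℤ, c - m < l → Subsingleton (Dual.inD B N ⟶ T⟦l⟧)) ∧
      Nontrivial (Dual.inD B N ⟶ T⟦c - m⟧) ∧
      (∀ l : ℤ, l < c - e → Subsingleton (Dual.inD B N ⟶ T⟦l⟧)) ∧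
      Nontrivial (Dual.inD B N ⟶ T⟦c - e⟧) := by
  obtain ⟨h1, h2⟩ := depth_aux_general T hT c hc m N hm
  refine ⟨h1, h2, ?_, ?_⟩
  all_goals
    have hT' := isDualizing_shift T hT c
    have hn' : Dual.IsNormalized B (T⟦c⟧) := by
      intro j hj
      rw [subsingleton_hom_shift_shift_iff _ T c j (c + j) rfl]
      exact hc (c + j) (by lia)
  · intro l hl
    rw [← subsingleton_hom_shift_shift_iff _ T c (l - c) l (by ring)]
    have hlt : Module.supportDim B N < ((e + 1 : ℕ) : WithBot ℕ∞) := by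
      rw [he]
      exact_mod_cast Nat.lt_succ_self e
    exact Groth.Agent.Lib.T2H4.Depth.subsingleton_hom_below (T⟦c⟧) hT' hn' (e + 1) N hlt (l - c)
      (by push_cast; lia)
  · rw [← nontrivial_hom_shift_shift_iff _ T c (-(e : ℤ)) (c - e) (by ring)]
    exact nontrivial_ext_supportDim hT' hn' N e he

/-- consequences: `depth ≤ dim` and the range. -/
theorem ext_range_general' (T : Dual.D B) (hT : Dual.IsDualizing B T) (c : ℤ)
    (hc : ∀ j : ℤ, j ≠ c → Subsingleton (Dual.inD B (B ⧸ IsLocalRing.maximalIdeal B) ⟶ T⟦j⟧))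
    (N : Type u) [AddCommGroup N] [Module B N] [Module.Finite B N] [Nontrivial N]
    (m e : ℕ) (hm : LocCoh.depth B N = m) (he : Module.supportDim B N = e) :
    m ≤ e ∧ (∀ l : ℤ, Nontrivial (Dual.inD B N ⟶ T⟦l⟧) → c - e ≤ l ∧ l ≤ c - m) := by
  obtain ⟨h1, h2, h3, h4⟩ := ext_range_general T hT c hc N m e hm he
  have hrange : ∀ l : ℤ, Nontrivial (Dual.inD B N ⟶ T⟦l⟧) → c - e ≤ l ∧ l ≤ c - m := by
    intro l hl
    constructor
    · by_contra hcon
      exact not_subsingleton _ (h3 l (by lia))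
    · by_contra hcon
      exact not_subsingleton _ (h1 l (by lia))
  refine ⟨?_, hrange⟩
  have := hrange _ h2
  lia

end Range

end Groth.Agent.Lib.T2H4.DualShift
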