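import Groth.Agent.Lib.T2H4DualShift4

set_option autoImplicit false
set_option linter.style.haveILetI false
set_option backward.isDefEq.respectTransparency.types false
universe u
open CategoryTheory CategoryTheory.Limits
attribute [local instance] HasDerivedCategory.standard

namespace Groth.Agent.Lib.T2H4.DualShift

open DerivedCategory Pretriangulated Groth.Agent.Lib.T2H4.DimFun Groth.Agent.Lib.T2H4.LocKL
  Groth.Agent.Lib.T2H4.LocalDual Groth.Agent.Lib.Helper28

section LocalData

variable {A : Type u} [CommRing A] [IsNoetherianRing A] {ω : Dual.D A}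

/-- **local data at a prime**: the supports of the `Ext^l(M, ω)` near `p` in terms of the depth and
the dimension of `M_p` and the index `c` of `p`. -/
theorem local_data (hω : Dual.IsDualizing A ω) (M : Type u) [AddCommGroup M] [Module A M]
    [Module.Finite A M] (p : PrimeSpectrum A) (c : ℤ)
    (hc : ∀ i : ℤ, Van ω p (A ⧸ p.asIdeal) i ↔ i ≠ c) :
    (Subsingleton (LocalizedModule p.asIdeal.primeCompl M) ∧
      ∀ l : ℤ, p ∉ Module.support A (Dual.inD A M ⟶ ω⟦l⟧)) ∨
    ∃ m e : ℕ, LocCoh.depth (Localization.AtPrime p.asIdeal)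
        (LocalizedModule p.asIdeal.primeCompl M) = m ∧
      Module.supportDim (Localization.AtPrime p.asIdeal)
        (LocalizedModule p.asIdeal.primeCompl M) = e ∧ m ≤ e ∧
      (∀ l : ℤ, p ∈ Module.support A (Dual.inD A M ⟶ ω⟦l⟧) → c - e ≤ l ∧ l ≤ c - m) ∧
      p ∈ Module.support A (Dual.inD A M ⟶ ω⟦c - m⟧) ∧
      p ∈ Module.support A (Dual.inD A M ⟶ ω⟦c - e⟧) := by
  haveI := Groth.Agent.Lib.T2H4.LDerExist.hasLBaseChange
    (algebraMap A (Localization.AtPrime p.asIdeal))
  haveI : IsNoetherianRing (Localization.AtPrime p.asIdeal) :=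
    IsLocalization.isNoetherianRing p.asIdeal.primeCompl _ inferInstance
  haveI : Module.Finite (Localization.AtPrime p.asIdeal)
      (LocalizedModule p.asIdeal.primeCompl M) :=
    Module.Finite.of_isLocalizedModule p.asIdeal.primeCompl
      (LocalizedModule.mkLinearMap p.asIdeal.primeCompl M)
  have hT := isDualizing_lbc p.asIdeal.primeCompl (Localization.AtPrime p.asIdeal) ω hω
  have hcB : ∀ j : ℤ, j ≠ c →
      Subsingleton (Dual.inD (Localization.AtPrime p.asIdeal)
        (Localization.AtPrime p.asIdeal ⧸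
          IsLocalRing.maximalIdeal (Localization.AtPrime p.asIdeal)) ⟶
        ((DRing.LBaseChange (algebraMap A (Localization.AtPrime p.asIdeal))).obj ω)⟦j⟧) :=
    fun j hj => (van_quot_iff ω hω p j).1 ((hc j).2 hj)
  have key : ∀ l : ℤ, p ∈ Module.support A (Dual.inD A M ⟶ ω⟦l⟧) ↔
      Nontrivial (Dual.inD (Localization.AtPrime p.asIdeal)
        (LocalizedModule p.asIdeal.primeCompl M) ⟶
        ((DRing.LBaseChange (algebraMap A (Localization.AtPrime p.asIdeal))).obj ω)⟦l⟧) := by
    intro l
    rw [← not_iff_not, ← van_iff_notMem_support, van_iff_subsingleton_loc ω hω p M l,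
      not_nontrivial_iff_subsingleton]
  by_cases hN : Subsingleton (LocalizedModule p.asIdeal.primeCompl M)
  · left
    refine ⟨hN, fun l hmem => ?_⟩
    have h1 := (key _).1 hmem
    have h2 := subsingleton_hom_inD_of_subsingleton (A := Localization.AtPrime p.asIdeal)
      (LocalizedModule p.asIdeal.primeCompl M)
      (((DRing.LBaseChange (algebraMap A (Localization.AtPrime p.asIdeal))).obj ω)⟦l⟧)
    exact absurd h2 (not_subsingleton _)
  · right
    haveI : Nontrivial (LocalizedModule p.asIdeal.primeCompl M) :=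
      not_subsingleton_iff_nontrivial.1 hN
    obtain ⟨m, hm⟩ := exists_depth_eq (B := Localization.AtPrime p.asIdeal)
      (LocalizedModule p.asIdeal.primeCompl M)
    obtain ⟨e, he⟩ := exists_supportDim_eq (B := Localization.AtPrime p.asIdeal)
      (LocalizedModule p.asIdeal.primeCompl M)
    obtain ⟨h1, h2, h3, h4⟩ := ext_range_general _ hT c hcB
      (LocalizedModule p.asIdeal.primeCompl M) m e hm he
    obtain ⟨h5, h6⟩ := ext_range_general' _ hT c hcB
      (LocalizedModule p.asIdeal.primeCompl M) m e hm he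
    exact ⟨m, e, hm, he, h5, fun l hl => h6 l ((key l).1 hl), (key _).2 h2, (key _).2 h4⟩

end LocalData

end Groth.Agent.Lib.T2H4.DualShift
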