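import Groth.Agent.Lib.T2H4DualShift5

set_option autoImplicit false
set_option linter.style.haveILetI false
set_option backward.isDefEq.respectTransparency.types false
universe u
open CategoryTheory CategoryTheory.Limits
attribute [local instance] HasDerivedCategory.standard

namespace Groth.Agent.Lib.T2H4.DualShift

open DerivedCategory Pretriangulated Groth.Agent.Lib.T2H4.DimFun Groth.Agent.Lib.T2H4.LocKL
  Groth.Agent.Lib.T2H4.LocalDual Groth.Agent.Lib.Helper28

section Sk

variable {A : Type u} [CommRing A] [IsNoetherianRing A] {ω : Dual.D A}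

/-- **S18716**. -/
theorem hasSk_iff_codim_support_ext (hω : Dual.IsDualizing A ω) (M : Type u) [AddCommGroup M]
    [Module A M] [Module.Finite A M] (k : ℕ) :
    LocCoh.HasSk k A M ↔
      ∀ (i j : ℤ), j < i → ∀ p : PrimeSpectrum A,
        p ∈ Module.support A (Dual.inD A M ⟶ ω⟦i⟧) →
        p ∈ Module.support A (Dual.inD A M ⟶ ω⟦j⟧) →
          (((k : ℤ) + i - j).toNat : WithBot ℕ∞) ≤
            Module.supportDim (Localization.AtPrime p.asIdeal)
              (LocalizedModule p.asIdeal.primeCompl M) := by
  constructor
  · intro hS i j hij p hi hj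
    rcases local_data hω M p (idx ω hω p) (idx_spec ω hω p) with
      ⟨-, h0⟩ | ⟨m, e, hm, he, hme, hrange, -, -⟩
    · exact absurd hi (h0 i)
    · have h1 := hrange i hi
      have h2 := hrange j hj
      have hSp := @hS p.asIdeal p.2
      rw [hm, he] at hSp
      rw [he]
      have hme' : m < e := by lia
      have hkm : k ≤ m := by
        by_contra hcon
        push Not at hcon
        have h3 : ((m : ℕ∞) : WithBot ℕ∞) < min (k : WithBot ℕ∞) (e : WithBot ℕ∞) :=
          lt_min (by exact_mod_cast hcon) (by exact_mod_cast hme')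
        exact absurd hSp (not_le.2 h3)
      have h4 : ((k : ℤ) + i - j).toNat ≤ e := by lia
      exact_mod_cast h4
  · intro h p hp
    rcases local_data hω M ⟨p, hp⟩ (idx ω hω ⟨p, hp⟩) (idx_spec ω hω ⟨p, hp⟩) with
      ⟨hsub, -⟩ | ⟨m, e, hm, he, hme, hrange, h1, h2⟩
    · haveI : Subsingleton (LocalizedModule p.primeCompl M) := hsub
      rw [Module.supportDim_eq_bot_of_subsingleton]
      simp
    · have hm' : LocCoh.depth (Localization.AtPrime p) (LocalizedModule p.primeCompl M) = m := hm
      have he' : Module.supportDim (Localization.AtPrime p) (LocalizedModule p.primeCompl M) = e :=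
        he
      rw [hm', he']
      by_cases hlt : m < e
      · have h3 := h (idx ω hω ⟨p, hp⟩ - m) (idx ω hω ⟨p, hp⟩ - e) (by lia) ⟨p, hp⟩ h1 h2
        rw [he] at h3
        have h4 : ((k : ℤ) + (idx ω hω ⟨p, hp⟩ - m) - (idx ω hω ⟨p, hp⟩ - e)).toNat ≤ e := by
          exact_mod_cast h3
        have h5 : k ≤ m := by lia
        exact le_trans (min_le_left _ _) (by exact_mod_cast h5)
      · have h6 : m = e := by lia
        subst h6
        exact le_trans (min_le_right _ _) (by exact_mod_cast le_rfl)

end Sk

end Groth.Agent.Lib.T2H4.DualShift
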