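import Groth.Agent.Lib.T2H4DualShift6

set_option autoImplicit false
set_option linter.style.haveILetI false
set_option backward.isDefEq.respectTransparency.types false
universe u
open CategoryTheory CategoryTheory.Limits
attribute [local instance] HasDerivedCategory.standard

namespace Groth.Agent.Lib.T2H4.DualShift

open DerivedCategory Pretriangulated Groth.Agent.Lib.T2H4.DimFun Groth.Agent.Lib.T2H4.LocKL
  Groth.Agent.Lib.T2H4.LocalDual Groth.Agent.Lib.Helper28

section CM

variable {A : Type u} [CommRing A] [IsNoetherianRing A]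

/-- **S0370**. -/
theorem isCohenMacaulayRing_of_dualizing_module (W : Type u) [AddCommGroup W] [Module A W]
    (h : Dual.IsDualizing A (Dual.inD A W)) : LocCoh.IsCohenMacaulayRing A := by
  refine LocCoh.IsCohenMacaulayRing.mk (fun p _ => ?_)
  haveI := Groth.Agent.Lib.T2H4.LDerExist.hasLBaseChange
    (algebraMap A (Localization.AtPrime p))
  haveI : IsNoetherianRing (Localization.AtPrime p) :=
    IsLocalization.isNoetherianRing p.primeCompl _ inferInstance
  refine LocCoh.IsCohenMacaulayLocalRing.mk ?_
  have hT := isDualizing_lbc p.primeCompl (Localization.AtPrime p) (Dual.inD A W) h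
  have hcB : ∀ j : ℤ, j ≠ idx _ h ⟨p, inferInstance⟩ →
      Subsingleton (Dual.inD (Localization.AtPrime p)
        (Localization.AtPrime p ⧸ IsLocalRing.maximalIdeal (Localization.AtPrime p)) ⟶
        ((DRing.LBaseChange (algebraMap A (Localization.AtPrime p))).obj (Dual.inD A W))⟦j⟧) :=
    fun j hj => (van_quot_iff _ h ⟨p, inferInstance⟩ j).1
      ((idx_spec _ h ⟨p, inferInstance⟩ j).2 hj)
  obtain ⟨m, hm⟩ := exists_depth_eq (B := Localization.AtPrime p) (Localization.AtPrime p)
  obtain ⟨e, he⟩ := exists_supportDim_eq (B := Localization.AtPrime p) (Localization.AtPrime p)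
  obtain ⟨h1, h2, h3, h4⟩ := ext_range_general _ hT _ hcB (Localization.AtPrime p) m e hm he
  have hzero : ∀ l : ℤ, Nontrivial (Dual.inD (Localization.AtPrime p) (Localization.AtPrime p) ⟶
      ((DRing.LBaseChange (algebraMap A (Localization.AtPrime p))).obj (Dual.inD A W))⟦l⟧) →
      l = 0 := by
    intro l hl
    by_contra hne
    have hs : Subsingleton (Dual.HD (Localization.AtPrime p)
        ((DRing.LBaseChange (algebraMap A (Localization.AtPrime p))).obj (Dual.inD A W)) l) := by
      obtain ⟨eq⟩ := nonempty_HD_lbc_equiv p.primeCompl (Localization.AtPrime p) (Dual.inD A W) l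
      haveI : Subsingleton (Dual.HD A (Dual.inD A W) l) :=
        ModuleCat.subsingleton_of_isZero (isZero_HD_inD W l (by lia))
      exact eq.subsingleton
    rw [← Groth.Agent.Lib.T2H4.HomRing.subsingleton_hom_inD_self_iff] at hs
    exact not_subsingleton _ hs
  have h5 := hzero _ h2
  have h6 := hzero _ h4
  rw [he, hm]
  have h7 : m = e := by lia
  subst h7
  rfl

end CM

end Groth.Agent.Lib.T2H4.DualShift
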