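import Groth.Agent.Lib.T2H4DualShift7
import Groth.Prelude.Def_EGA4b

set_option autoImplicit false
set_option linter.style.haveILetI false
set_option backward.isDefEq.respectTransparency.types false
universe u
open CategoryTheory CategoryTheory.Limits
attribute [local instance] HasDerivedCategory.standard

namespace Groth.Agent.Lib.T2H4.DualShift

open DerivedCategory Pretriangulated Groth.Agent.Lib.T2H4.DimFun Groth.Agent.Lib.T2H4.LocKL
  Groth.Agent.Lib.T2H4.LocalDual Groth.Agent.Lib.Helper28

section Equidim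

variable {A : Type u} [CommRing A] [IsNoetherianRing A] [IsLocalRing A] {ω : Dual.D A}

/-- no prime is in the support of `Ext^l(M, ω)` for `l < - dim M`. -/
lemma notMem_support_below (hω : Dual.IsDualizing A ω) (hn : Dual.IsNormalized A ω)
    (M : Type u) [AddCommGroup M] [Module A M] [Module.Finite A M] (δ : ℕ)
    (hδ : Module.supportDim A M = δ) (l : ℤ) (hl : l < -(δ : ℤ)) (p : PrimeSpectrum A) :
    p ∉ Module.support A (Dual.inD A M ⟶ ω⟦l⟧) := by
  have hlt : Module.supportDim A M < ((δ + 1 : ℕ) : WithBot ℕ∞) := by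
    rw [hδ]
    exact_mod_cast Nat.lt_succ_self δ
  haveI := Groth.Agent.Lib.T2H4.Depth.subsingleton_hom_below ω hω hn (δ + 1) M hlt l
    (by push_cast; lia)
  rw [Module.support_eq_empty]
  exact Set.notMem_empty p

/-- local data at a prime for an equidimensional module over a local ring with normalized dualizing
complex: `dim M_p + dim A/p = dim M`. -/
theorem equidim_data (hω : Dual.IsDualizing A ω) (hn : Dual.IsNormalized A ω)
    (M : Type u) [AddCommGroup M] [Module A M] [Module.Finite A M]
    (hM : EGA4.IsEquidimModule A M) (δ : ℕ) (hδ : Module.supportDim A M = δ)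
    (p : PrimeSpectrum A) (cp : ℕ) (hcp : Order.coheight p = cp) :
    (Subsingleton (LocalizedModule p.asIdeal.primeCompl M) ∧
      ∀ l : ℤ, p ∉ Module.support A (Dual.inD A M ⟶ ω⟦l⟧)) ∨
    ∃ m e : ℕ, LocCoh.depth (Localization.AtPrime p.asIdeal)
        (LocalizedModule p.asIdeal.primeCompl M) = m ∧
      Module.supportDim (Localization.AtPrime p.asIdeal)
        (LocalizedModule p.asIdeal.primeCompl M) = e ∧ m ≤ e ∧ e + cp = δ ∧
      (∀ l : ℤ, p ∈ Module.support A (Dual.inD A M ⟶ ω⟦l⟧) →
        -(δ : ℤ) ≤ l ∧ l ≤ -(cp : ℤ) - m) ∧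
      p ∈ Module.support A (Dual.inD A M ⟶ ω⟦-(cp : ℤ) - m⟧) := by
  rcases local_data hω M p (-(cp : ℤ)) (van_quot_iff_of_coheight hω hn cp p hcp) with
    h0 | ⟨m, e, hm, he, hme, hrange, htop, hbot⟩
  · exact Or.inl h0
  · right
    -- step 1
    have h1 : -(δ : ℤ) ≤ -(cp : ℤ) - e := by
      by_contra hcon
      exact notMem_support_below hω hn M δ hδ _ (by lia) p hbot
    -- step 2
    have hpS : p ∈ Module.support A M := by
      by_contra hcon
      rw [Module.notMem_support_iff] at hcon
      have : Module.supportDim (Localization.AtPrime p.asIdeal)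
          (LocalizedModule p.asIdeal.primeCompl M) = ⊥ :=
        Module.supportDim_eq_bot_of_subsingleton _ _
      rw [he] at this
      exact WithBot.coe_ne_bot this
    haveI := p.2
    obtain ⟨q, hq, hqp⟩ := Ideal.exists_minimalPrimes_le (Module.mem_support_iff_of_finite.1 hpS)
    have hqdim : ringKrullDim (A ⧸ q) = δ := (hM q hq).trans hδ
    have hcq : Order.coheight (⟨q, hq.1.1⟩ : PrimeSpectrum A) = δ :=
      coheight_eq_of_ringKrullDim_quot ⟨q, hq.1.1⟩ δ hqdim
    have hqS : (⟨q, hq.1.1⟩ : PrimeSpectrum A) ∈ Module.support A M :=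
      Module.mem_support_iff_of_finite.2 hq.1.2
    have hq2 : (⟨q, hq.1.1⟩ : PrimeSpectrum A) ∈
        Module.support A (Dual.inD A M ⟶ ω⟦-(δ : ℤ)⟧) := by
      rcases local_data hω M ⟨q, hq.1.1⟩ (-(δ : ℤ))
        (van_quot_iff_of_coheight hω hn δ ⟨q, hq.1.1⟩ hcq) with
        ⟨hs, -⟩ | ⟨m', e', hm', he', hme', hrange', htop', hbot'⟩
      · exact absurd (Module.mem_support_iff.1 hqS) (not_nontrivial_iff_subsingleton.2 hs)
      · have h3 : -(δ : ℤ) ≤ -(δ : ℤ) - e' := by
          by_contra hcon
          exact notMem_support_below hω hn M δ hδ _ (by lia) _ hbot'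
        have h4 : e' = 0 := by lia
        subst h4
        have h8 : -(δ : ℤ) - ((0 : ℕ) : ℤ) = -(δ : ℤ) := by simp
        rw [h8] at hbot'
        exact hbot'
    have hp2 : p ∈ Module.support A (Dual.inD A M ⟶ ω⟦-(δ : ℤ)⟧) :=
      Module.mem_support_mono (show (⟨q, hq.1.1⟩ : PrimeSpectrum A) ≤ p from hqp) hq2
    have h5 := (hrange _ hp2).1
    have h6 : e + cp = δ := by lia
    refine ⟨m, e, hm, he, hme, h6, fun l hl => ?_, htop⟩
    have h7 := hrange l hl
    constructor
    · lia
    · exact h7.2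

end Equidim

end Groth.Agent.Lib.T2H4.DualShift
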