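import Groth.Agent.Lib.T2H4DualShift8

set_option autoImplicit false
set_option linter.style.haveILetI false
set_option backward.isDefEq.respectTransparency.types false
universe u v
open CategoryTheory CategoryTheory.Limits
attribute [local instance] HasDerivedCategory.standard

namespace Groth.Agent.Lib.T2H4.DualShift

open DerivedCategory Pretriangulated Groth.Agent.Lib.T2H4.DimFun Groth.Agent.Lib.T2H4.LocKL
  Groth.Agent.Lib.T2H4.LocalDual Groth.Agent.Lib.Helper28

section SuppDimLemmas

variable {A : Type u} [CommRing A] (E : Type v) [AddCommGroup E] [Module A E]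

lemma coheight_le_supportDim_of_mem (p : PrimeSpectrum A) (hp : p ∈ Module.support A E) :
    ((Order.coheight p : ℕ∞) : WithBot ℕ∞) ≤ Module.supportDim A E := by
  have hco : Order.coheight (⟨p, hp⟩ : Module.support A E) = Order.coheight p := by
    apply Order.coheight_eq_of_strictMono Subtype.val (fun _ _ h => h)
    intro a b hab
    exact ⟨⟨b, Module.mem_support_mono hab.le a.2⟩, hab, rfl⟩
  rw [← hco]
  exact Order.coheight_le_krullDim _

lemma supportDim_le_of_forall_coheight_le (n : ℕ)
    (h : ∀ p ∈ Module.support A E, Order.coheight p ≤ (n : ℕ∞)) :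
    Module.supportDim A E ≤ (n : WithBot ℕ∞) := by
  rw [Module.supportDim, Order.krullDim_eq_iSup_coheight]
  apply iSup_le
  intro q
  have h2 : Order.coheight q ≤ Order.coheight q.1 :=
    Order.coheight_le_coheight_apply_of_strictMono Subtype.val (fun _ _ h => h) q
  have h4 : Order.coheight q ≤ (n : ℕ∞) := h2.trans (h q.1 q.2)
  exact_mod_cast h4

end SuppDimLemmas

section Sk2

variable {A : Type u} [CommRing A] [IsNoetherianRing A] [IsLocalRing A] {ω : Dual.D A}

/-- **S18717**. -/
theorem hasSk_iff_supportDim_ext_le (hω : Dual.IsDualizing A ω) (hn : Dual.IsNormalized A ω)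
    (M : Type u) [AddCommGroup M] [Module A M] [Module.Finite A M]
    (hM : EGA4.IsEquidimModule A M) (δ : ℕ) (hδ : Module.supportDim A M = δ) (k : ℕ) :
    LocCoh.HasSk k A M ↔
      ∀ j : ℤ, j ≠ -(δ : ℤ) →
        (-j - (k : ℤ) < 0 → Subsingleton (Dual.inD A M ⟶ ω⟦j⟧)) ∧
        (0 ≤ -j - (k : ℤ) → Module.supportDim A (Dual.inD A M ⟶ ω⟦j⟧) ≤
          ((-j - (k : ℤ)).toNat : WithBot ℕ∞)) := by
  constructor
  · intro hS j hj
    have claim : ∀ p ∈ Module.support A (Dual.inD A M ⟶ ω⟦j⟧), ∀ cp : ℕ,
        Order.coheight p = cp → (cp : ℤ) ≤ -j - k := by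
      intro p hp cp hcp
      rcases equidim_data hω hn M hM δ hδ p cp hcp with
        ⟨-, h0⟩ | ⟨m, e, hm, he, hme, hsum, hrange, htop⟩
      · exact absurd hp (h0 j)
      · have hr := hrange j hp
        have hme' : m < e := by lia
        have hSp := @hS p.asIdeal p.2
        rw [hm, he] at hSp
        have hkm : k ≤ m := by
          by_contra hcon
          push Not at hcon
          have h3 : ((m : ℕ∞) : WithBot ℕ∞) < min (k : WithBot ℕ∞) (e : WithBot ℕ∞) :=
            lt_min (by exact_mod_cast hcon) (by exact_mod_cast hme')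
          exact absurd hSp (not_le.2 h3)
        lia
    constructor
    · intro hneg
      rw [← Module.support_eq_empty_iff (R := A)]
      apply Set.eq_empty_of_forall_notMem
      intro p hp
      obtain ⟨cp, hcp⟩ := ENat.ne_top_iff_exists.1 (Order.coheight_lt_top p).ne
      have := claim p hp cp hcp.symm
      lia
    · intro hpos
      apply supportDim_le_of_forall_coheight_le
      intro p hp
      obtain ⟨cp, hcp⟩ := ENat.ne_top_iff_exists.1 (Order.coheight_lt_top p).ne
      have h1 := claim p hp cp hcp.symm
      rw [← hcp]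
      have h2 : cp ≤ (-j - (k : ℤ)).toNat := by lia
      exact_mod_cast h2
  · intro h p hp
    obtain ⟨cp, hcp⟩ := ENat.ne_top_iff_exists.1
      (Order.coheight_lt_top (⟨p, hp⟩ : PrimeSpectrum A)).ne
    rcases equidim_data hω hn M hM δ hδ ⟨p, hp⟩ cp hcp.symm with
      ⟨hsub, -⟩ | ⟨m, e, hm, he, hme, hsum, hrange, htop⟩
    · haveI : Subsingleton (LocalizedModule p.primeCompl M) := hsub
      rw [Module.supportDim_eq_bot_of_subsingleton]
      simp
    · have hm' : LocCoh.depth (Localization.AtPrime p) (LocalizedModule p.primeCompl M) = m := hm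
      have he' : Module.supportDim (Localization.AtPrime p) (LocalizedModule p.primeCompl M) = e :=
        he
      rw [hm', he']
      by_cases hlt : m < e
      · obtain ⟨h1, h2⟩ := h (-(cp : ℤ) - m) (by lia)
        have h5 : k ≤ m := by
          by_contra hcon
          push Not at hcon
          by_cases hneg : -(-(cp : ℤ) - m) - (k : ℤ) < 0
          · haveI := h1 hneg
            rw [Module.support_eq_empty] at htop
            exact Set.notMem_empty _ htop
          · have h3 := (coheight_le_supportDim_of_mem _ _ htop).trans (h2 (by lia))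
            rw [← hcp] at h3
            have h4 : cp ≤ (-(-(cp : ℤ) - m) - (k : ℤ)).toNat := by exact_mod_cast h3
            lia
        exact le_trans (min_le_left _ _) (by exact_mod_cast h5)
      · have h6 : m = e := by lia
        subst h6
        exact le_trans (min_le_right _ _) (by exact_mod_cast le_rfl)

end Sk2

end Groth.Agent.Lib.T2H4.DualShift
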