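import Mathlib
import Groth.Prelude.Def_DRing2
import Groth.Agent.Lib.T2H4ExtCocycle

/-!
# Helper library (helper4): Artin–Rees for `Ext^p(I^n M, -)` (source variable)

For a Noetherian ring `A`, an ideal `I`, a finite module `M` and any module `N`: for each `p` there
is `c` such that `Ext^p(M, N) → Ext^p(IⁿM, N)` factors through `Ext^p(IⁿM, I^(n-c)N)`.  The proof is
by dimension shifting along a presentation `0 → K → A^t → M → 0`, using the Artin–Rees lemma for
`K ⊆ A^t` and naturality of the extension class.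
-/

set_option autoImplicit false
universe u
open CategoryTheory CategoryTheory.Limits
attribute [local instance] HasDerivedCategory.standard

namespace Groth.Agent.Lib.T2H4.ExtAR

open DerivedCategory Abelian Groth.Agent.Lib.T2H4.ExtCocycle

variable {A : Type u} [CommRing A]

/-- The inductive statement (in `Ext`-form, without subtraction). -/
def P [HasExt.{u} (ModuleCat.{u} A)] (I : Ideal A) (N : Type u) [AddCommGroup N] [Module A N]
    (p : ℕ) : Prop :=
  ∀ (M : Type u) [AddCommGroup M] [Module A M] [Module.Finite A M],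
    ∃ c : ℕ, ∀ n k : ℕ, k + c = n → ∀ x : Ext.{u} (ModuleCat.of A M) (ModuleCat.of A N) p,
      ∃ x' : Ext.{u} (ModuleCat.of A ↥(I ^ n • ⊤ : Submodule A M))
          (ModuleCat.of A ↥(I ^ k • ⊤ : Submodule A N)) p,
        x'.comp (Ext.mk₀ (ModuleCat.ofHom (I ^ k • ⊤ : Submodule A N).subtype)) (add_zero p) =
          (Ext.mk₀ (ModuleCat.ofHom (I ^ n • ⊤ : Submodule A M).subtype)).comp x (zero_add p)

lemma P_zero [HasExt.{u} (ModuleCat.{u} A)] (I : Ideal A) (N : Type u) [AddCommGroup N]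
    [Module A N] : P I N 0 := by
  intro M _ _ _
  refine ⟨0, fun n k hk x => ?_⟩
  obtain rfl : k = n := by omega
  obtain ⟨β, rfl⟩ := (Ext.mk₀_bijective _ _).2 x
  have hβ : ∀ y ∈ (I ^ k • ⊤ : Submodule A M), β.hom y ∈ (I ^ k • ⊤ : Submodule A N) :=
    fun y hy => map_smul_top_le _ β.hom hy
  refine ⟨Ext.mk₀ (ModuleCat.ofHom (β.hom.restrict hβ)), ?_⟩
  rw [Ext.mk₀_comp_mk₀, Ext.mk₀_comp_mk₀]
  congr 1

lemma P_succ [IsNoetherianRing A] [HasExt.{u} (ModuleCat.{u} A)] (I : Ideal A) (N : Type u)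
    [AddCommGroup N] [Module A N] (p : ℕ) (hP : P I N p) : P I N (p + 1) := by
  intro M _ _ _
  obtain ⟨t, π, hπ⟩ := Module.Finite.exists_fin' A M
  -- the presentation sequence
  set S := π.shortComplexKer with hSdef
  have hS : S.ShortExact := LinearMap.shortExact_shortComplexKer hπ
  have hproj : Projective S.X₂ := by
    have : Module.Projective A (Fin t → A) := Module.Projective.of_free
    exact ModuleCat.projective_of_categoryTheory_projective _
  obtain ⟨c₂, hc₂⟩ := hP ↥(LinearMap.ker π)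
  obtain ⟨c₁, hc₁⟩ := Ideal.exists_pow_inf_eq_pow_smul I (LinearMap.ker π)
  refine ⟨c₂ + c₁, fun n k hk x => ?_⟩
  have hn : c₁ ≤ n := by omega
  -- factor `x` through the connecting class
  have hx : (Ext.mk₀ S.g).comp x (zero_add (p + 1)) = 0 := Ext.eq_zero_of_projective _
  obtain ⟨x₁, hx₁⟩ := Ext.contravariant_sequence_exact₃ hS _ x hx (add_comm 1 p)
  obtain ⟨x₁', hx₁'⟩ := hc₂ (k + c₂) k rfl x₁
  -- the sequence for `I^n M`
  have hπn : ∀ y ∈ (I ^ n • ⊤ : Submodule A (Fin t → A)), π y ∈ (I ^ n • ⊤ : Submodule A M) :=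
    fun y hy => map_smul_top_le _ π hy
  set πn := π.restrict hπn with hπndef
  have hπn_surj : Function.Surjective πn := by
    rintro ⟨y, hy⟩
    have h1 : (I ^ n • ⊤ : Submodule A M) = (I ^ n • ⊤ : Submodule A (Fin t → A)).map π := by
      rw [Submodule.map_smul'', Submodule.map_top, LinearMap.range_eq_top.2 hπ]
    rw [h1] at hy
    obtain ⟨z, hz, rfl⟩ := hy
    exact ⟨⟨z, hz⟩, rfl⟩
  set Sn := πn.shortComplexKer with hSndef
  have hSn : Sn.ShortExact := LinearMap.shortExact_shortComplexKer hπn_surj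
  -- the map `ker πn → ker π`
  let τ₁ : ↥(LinearMap.ker πn) →ₗ[A] ↥(LinearMap.ker π) :=
    LinearMap.codRestrict (LinearMap.ker π)
      ((I ^ n • ⊤ : Submodule A (Fin t → A)).subtype ∘ₗ (LinearMap.ker πn).subtype)
      (fun z => by
        have hz := z.2
        rw [LinearMap.mem_ker] at hz ⊢
        exact congrArg Subtype.val hz)
  let φ : Sn ⟶ S :=
    { τ₁ := ModuleCat.ofHom τ₁
      τ₂ := ModuleCat.ofHom (I ^ n • ⊤ : Submodule A (Fin t → A)).subtype
      τ₃ := ModuleCat.ofHom (I ^ n • ⊤ : Submodule A M).subtype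
      comm₁₂ := by ext z; rfl
      comm₂₃ := by ext z; rfl }
  -- Artin–Rees
  have hτ₁ : ∀ z, τ₁ z ∈ (I ^ (k + c₂) • ⊤ : Submodule A ↥(LinearMap.ker π)) := by
    intro z
    have h1 : (τ₁ z : Fin t → A) ∈ I ^ n • ⊤ ⊓ LinearMap.ker π := ⟨z.1.2, (τ₁ z).2⟩
    rw [hc₁ n hn] at h1
    have h2 : (τ₁ z : Fin t → A) ∈ I ^ (n - c₁) • LinearMap.ker π :=
      Submodule.smul_mono le_rfl inf_le_right h1
    obtain ⟨y, hy, hyz⟩ := mem_smul_top_subtype _ _ h2
    have : τ₁ z = y := Subtype.ext hyz.symm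
    rw [this]
    have hm : n - c₁ = k + c₂ := by omega
    rwa [hm] at hy
  let j : ↥(LinearMap.ker πn) →ₗ[A]
      ↥(I ^ (k + c₂) • ⊤ : Submodule A ↥(LinearMap.ker π)) :=
    LinearMap.codRestrict _ τ₁ hτ₁
  have hj : ModuleCat.ofHom j ≫ (ModuleCat.ofHom
      (I ^ (k + c₂) • ⊤ : Submodule A ↥(LinearMap.ker π)).subtype :
        ModuleCat.of A ↥(I ^ (k + c₂) • ⊤ : Submodule A ↥(LinearMap.ker π)) ⟶
          ModuleCat.of A ↥(LinearMap.ker π)) = φ.τ₁ := by
    ext z; rfl
  refine ⟨hSn.extClass.comp ((Ext.mk₀ (ModuleCat.ofHom j)).comp x₁' (zero_add p))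
    (add_comm 1 p), ?_⟩
  have hnat := ShortComplex.ShortExact.extClass_naturality hSn hS φ
  rw [Ext.comp_assoc_of_third_deg_zero, Ext.comp_assoc_of_third_deg_zero, hx₁',
    Ext.mk₀_comp_mk₀_assoc, hj, ← Ext.comp_assoc_of_second_deg_zero, hnat,
    Ext.comp_assoc _ _ _ (zero_add 1) (add_comm 1 p) (by omega), hx₁]

lemma P_all [IsNoetherianRing A] [HasExt.{u} (ModuleCat.{u} A)] (I : Ideal A) (N : Type u)
    [AddCommGroup N] [Module A N] (p : ℕ) : P I N p := by
  induction p with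
  | zero => exact P_zero I N
  | succ p ih => exact P_succ I N p ih

theorem artinRees_ext_source [IsNoetherianRing A] (I : Ideal A)
    (M N : Type u) [AddCommGroup M] [Module A M] [Module.Finite A M] [AddCommGroup N] [Module A N]
    (p : ℕ) :
    ∃ c : ℕ, ∀ n : ℕ, c ≤ n →
      ∀ e : Dual.inD A M ⟶ (Dual.inD A N)⟦(p : ℤ)⟧,
        ∃ e' : Dual.inD A ↥(I ^ n • ⊤ : Submodule A M) ⟶
            (Dual.inD A ↥(I ^ (n - c) • ⊤ : Submodule A N))⟦(p : ℤ)⟧,
          e' ≫ ((DerivedCategory.singleFunctor (ModuleCat.{u} A) 0).map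
                  (ModuleCat.ofHom (I ^ (n - c) • ⊤ : Submodule A N).subtype))⟦(p : ℤ)⟧' =
            (DerivedCategory.singleFunctor (ModuleCat.{u} A) 0).map
                (ModuleCat.ofHom (I ^ n • ⊤ : Submodule A M).subtype) ≫ e := by
  have : HasExt.{u} (ModuleCat.{u} A) := hasExt_of_enoughProjectives _
  obtain ⟨c, hc⟩ := P_all I N p M
  refine ⟨c, fun n hn e => ?_⟩
  obtain ⟨x, rfl⟩ := (Ext.homEquiv (X := ModuleCat.of A M) (Y := ModuleCat.of A N)
    (n := p)).surjective e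
  obtain ⟨x', hx'⟩ := hc n (n - c) (Nat.sub_add_cancel hn) x
  refine ⟨x'.hom, ?_⟩
  have h1 := Ext.hom_comp_singleFunctor_map_shift x'
    (ModuleCat.ofHom (I ^ (n - c) • ⊤ : Submodule A N).subtype)
  have h2 := Ext.singleFunctor_map_comp_hom
    (ModuleCat.ofHom (I ^ n • ⊤ : Submodule A M).subtype) x
  exact h1.trans ((congrArg Ext.hom hx').trans h2.symm)

end Groth.Agent.Lib.T2H4.ExtAR
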