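import Groth.Agent.Lib.T2H4TorsionFreeEmb

/-!
# `Ext^i(M, W) = 0` for `i ≥ 1`, `M` finitely generated torsion-free, `W` of injective dimension `≤ 1`
-/

set_option autoImplicit false
universe u

namespace Groth.Agent.Lib.T2H4.ExtCanon

open CategoryTheory Abelian

theorem main (O : Type u) [CommRing O] [IsDomain O] (M : Type u) [AddCommGroup M] [Module O M]
    [Module.Finite O M] [NoZeroSMulDivisors O M]
    (W : ModuleCat.{u} O) (hW : HasInjectiveDimensionLT W 2) (i : ℕ) (hi : 1 ≤ i) :
    Subsingleton (Abelian.Ext (ModuleCat.of O M) W i) := by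
  by_cases h2 : 2 ≤ i
  · exact HasInjectiveDimensionLT.subsingleton W 2 i h2 _
  · obtain rfl : i = 1 := by omega
    obtain ⟨r, ι, hι⟩ := TorsionFreeEmb.exists_injective_to_free O M
    let S : ShortComplex (ModuleCat.{u} O) :=
      ModuleCat.shortComplexOfCompEqZero ι (LinearMap.range ι).mkQ (by ext; simp)
    have hS : S.ShortExact := ModuleCat.shortComplex_shortExact S
      (by
        intro y
        change (LinearMap.range ι).mkQ y = 0 ↔ y ∈ Set.range ι
        rw [Submodule.mkQ_apply, Submodule.Quotient.mk_eq_zero]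
        rfl)
      hι (Submodule.mkQ_surjective _)
    have hproj : Projective S.X₂ :=
      (IsProjective.iff_projective (R := O) (Fin r → O)).1 inferInstance
    refine ⟨fun x y => ?_⟩
    suffices h : ∀ x : Ext (ModuleCat.of O M) W 1, x = 0 by rw [h x, h y]
    intro x
    have h3 : Subsingleton (Ext S.X₃ W 2) := HasInjectiveDimensionLT.subsingleton W 2 2 le_rfl _
    obtain ⟨x₂, hx₂⟩ := Ext.contravariant_sequence_exact₁ hS W x (n₁ := 2) rfl
      (Subsingleton.elim _ _)
    rw [← hx₂, Ext.eq_zero_of_projective x₂, Ext.comp_zero]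

end Groth.Agent.Lib.T2H4.ExtCanon
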