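import Mathlib
import Groth.Prelude.Def_DerCA
import Groth.Agent.Lib.Helper1ExtCech

/-!
# Acyclic extended Čech complex implies `M = I M` (helper4)

If all cohomology modules of the extended Čech complex of `M` for `fs` vanish, every map from `M` to a module
killed by all members of `fs` is zero; hence `M = (fs) M`.
-/

set_option autoImplicit false

namespace Groth.Agent.Lib.T2H4.ExtCechNak

universe u
open CategoryTheory CategoryTheory.Limits DerCA CochainComplex HomologicalComplex Pretriangulated

attribute [local instance] HasDerivedCategory.standard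

variable {R : Type u} [CommRing R]

/-- a module in degree zero -/
noncomputable abbrev S0 (M : ModuleCat.{u} R) : DRing.Cx R :=
  (HomologicalComplex.single (ModuleCat.{u} R) (ComplexShape.up ℤ) 0).obj M

/-- `f` acts invertibly on a localisation at the powers of `f` -/
lemma isIso_smul_locFunctor (f : R) (M : ModuleCat.{u} R) :
    IsIso (f • 𝟙 ((locFunctor (Submonoid.powers f)).obj M)) := by
  rw [ConcreteCategory.isIso_iff_bijective]
  have hu := IsLocalizedModule.map_units (LocalizedModule.mkLinearMap (Submonoid.powers f) M)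
    (⟨f, Submonoid.mem_powers f⟩ : Submonoid.powers f)
  exact (Module.End.isUnit_iff _).1 hu

lemma isIso_smul_locCx (f : R) (K : DRing.Cx R) :
    IsIso (f • 𝟙 ((locCx (Submonoid.powers f)).obj K)) := by
  have : ∀ i, IsIso ((f • 𝟙 ((locCx (Submonoid.powers f)).obj K)).f i) := by
    intro i
    exact isIso_smul_locFunctor f (K.X i)
  exact HomologicalComplex.Hom.isIso_of_components _

/-- maps from a localisation at `f` to an object killed by `f` vanish -/
lemma eq_zero_of_smul (f : R) (K : DRing.Cx R) (Y : DerivedCategory (ModuleCat.{u} R))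
    (hY : f • 𝟙 Y = 0)
    (γ : DerivedCategory.Q.obj ((locCx (Submonoid.powers f)).obj K) ⟶ Y) : γ = 0 := by
  have h1 := isIso_smul_locCx f K
  have h2 : IsIso (f • 𝟙 (DerivedCategory.Q.obj ((locCx (Submonoid.powers f)).obj K))) := by
    have : DerivedCategory.Q.map (f • 𝟙 ((locCx (Submonoid.powers f)).obj K)) =
        f • 𝟙 (DerivedCategory.Q.obj ((locCx (Submonoid.powers f)).obj K)) := by
      rw [Functor.map_smul, CategoryTheory.Functor.map_id]
    rw [← this]
    infer_instance
  have h3 : (f • 𝟙 (DerivedCategory.Q.obj ((locCx (Submonoid.powers f)).obj K))) ≫ γ = 0 := by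
    rw [Linear.smul_comp, Category.id_comp]
    have : f • γ = γ ≫ (f • 𝟙 Y) := by rw [Linear.comp_smul, Category.comp_id]
    rw [this, hY, comp_zero]
  exact (cancel_epi (f • 𝟙 (DerivedCategory.Q.obj ((locCx (Submonoid.powers f)).obj K)))).1
    (h3.trans comp_zero.symm)

/-- the extended Čech complex detects maps to objects killed by the list -/
theorem exists_detect (Y : DerivedCategory (ModuleCat.{u} R)) (fs : List R)
    (hY : ∀ f ∈ fs, f • 𝟙 Y = 0) (M : ModuleCat.{u} R) :
    ∃ π : DerivedCategory.Q.obj (extCech M fs) ⟶ DerivedCategory.Q.obj (S0 M),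
      ∀ α : DerivedCategory.Q.obj (S0 M) ⟶ Y, π ≫ α = 0 → α = 0 := by
  induction fs with
  | nil =>
    refine ⟨𝟙 (DerivedCategory.Q.obj (S0 M)), fun α hα => ?_⟩
    exact (Category.id_comp α).symm.trans hα
  | cons f fs ih =>
    obtain ⟨π, hπ⟩ := ih (fun g hg => hY g (List.mem_cons_of_mem f hg))
    set φ := locCxUnit (Submonoid.powers f) (extCech M fs) with hφ
    refine ⟨DerivedCategory.Q.map (mappingCocone.fst φ) ≫ π, fun α hα => ?_⟩
    rw [Category.assoc] at hα
    obtain ⟨γ, hγ⟩ := Triangle.yoneda_exact₂ _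
      (DerivedCategory.mappingCocone_triangle_distinguished φ) (π ≫ α) hα
    have hγ0 : γ = 0 := eq_zero_of_smul f (extCech M fs) Y (hY f List.mem_cons_self) γ
    rw [hγ0, comp_zero] at hγ
    exact hπ α hγ

/-- acyclic complexes are zero in the derived category -/
lemma isZero_Q_obj_of_acyclic (K : DRing.Cx R) (h : ∀ i, IsZero (K.homology i)) :
    IsZero (DerivedCategory.Q.obj K) := by
  have hq : QuasiIso (0 : K ⟶ K) := by
    rw [quasiIso_iff]
    intro i
    rw [quasiIsoAt_iff_isIso_homologyMap]
    exact ⟨⟨0, (h i).eq_of_src _ _, (h i).eq_of_src _ _⟩⟩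
  have hi : IsIso (DerivedCategory.Q.map (0 : K ⟶ K)) :=
    (DerivedCategory.isIso_Q_map_iff_quasiIso (φ := (0 : K ⟶ K))).2 hq
  rw [Functor.map_zero] at hi
  rw [IsZero.iff_id_eq_zero]
  have := IsIso.hom_inv_id (0 : DerivedCategory.Q.obj K ⟶ DerivedCategory.Q.obj K)
  rw [zero_comp] at this
  exact this.symm

/-- if the extended Čech complex of `M` is acyclic, maps from `M` to modules killed by the list vanish -/
theorem hom_eq_zero (fs : List R) (M N : ModuleCat.{u} R) (hM : ∀ i : ℤ, IsZero (extCechH fs M i))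
    (hN : ∀ f ∈ fs, ∀ x : N, f • x = 0) (g : M ⟶ N) : g = 0 := by
  have hY : ∀ f ∈ fs, f • 𝟙 ((DerivedCategory.singleFunctor (ModuleCat.{u} R) 0).obj N) = 0 := by
    intro f hf
    have h0 : f • 𝟙 N = 0 := by
      ext x
      exact hN f hf x
    have : f • 𝟙 ((DerivedCategory.singleFunctor (ModuleCat.{u} R) 0).obj N) =
        (DerivedCategory.singleFunctor (ModuleCat.{u} R) 0).map (f • 𝟙 N) := by
      rw [Functor.map_smul, CategoryTheory.Functor.map_id]
    rw [this, h0, Functor.map_zero]
  obtain ⟨π, hπ⟩ := exists_detect ((DerivedCategory.singleFunctor (ModuleCat.{u} R) 0).obj N) fs hY M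
  have hz := isZero_Q_obj_of_acyclic (extCech M fs) hM
  have hα : (DerivedCategory.singleFunctor (ModuleCat.{u} R) 0).map g = 0 :=
    hπ ((DerivedCategory.singleFunctor (ModuleCat.{u} R) 0).map g) (hz.eq_of_src _ _)
  exact (DerivedCategory.singleFunctor (ModuleCat.{u} R) 0).map_injective
    (hα.trans (Functor.map_zero _ _ _).symm)

/-- if the extended Čech complex of `M` is acyclic then `M = (fs) M` -/
theorem smul_top_eq_top (fs : List R) (M : ModuleCat.{u} R)
    (hM : ∀ i : ℤ, IsZero (extCechH fs M i)) :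
    (Ideal.span {a : R | a ∈ fs}) • (⊤ : Submodule R M) = ⊤ := by
  set P : Submodule R M := (Ideal.span {a : R | a ∈ fs}) • (⊤ : Submodule R M) with hP
  have h0 := hom_eq_zero fs M (ModuleCat.of R (M ⧸ P)) hM (by
    intro f hf x
    obtain ⟨m, rfl⟩ := Submodule.Quotient.mk_surjective P x
    change Submodule.Quotient.mk (f • m) = 0
    rw [Submodule.Quotient.mk_eq_zero]
    exact Submodule.smul_mem_smul (Ideal.subset_span hf) Submodule.mem_top)
    (ModuleCat.ofHom P.mkQ)
  rw [eq_top_iff]
  intro m _
  have : P.mkQ m = 0 := by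
    have := congrArg (fun t => t.hom m) h0
    exact this
  rwa [Submodule.mkQ_apply, Submodule.Quotient.mk_eq_zero] at this

end Groth.Agent.Lib.T2H4.ExtCechNak
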