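import Mathlib
import Groth.Prelude.Def_DRing2
import Groth.Agent.Lib.T2H4ExtCocycle

/-!
# Helper library (helper4): long exact `Ext` sequences for `0 → N → M → M/N → 0` in `D(A)`

Exactness of `Hom(X, -⟦i⟧)` on a distinguished triangle (with the shift), the short exact sequence
`0 → N → M → M/N → 0` in `ModuleCat`, naturality of its connecting morphism in `N`, and a few
auxiliary lemmas used for the Artin–Rees statements about `Ext`.
-/

set_option autoImplicit false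
universe u
open CategoryTheory CategoryTheory.Limits
attribute [local instance] HasDerivedCategory.standard

namespace Groth.Agent.Lib.T2H4.ExtSeq

open DerivedCategory Pretriangulated

section general

variable {C : Type*} [Category C] [Preadditive C] [HasZeroObject C] [HasShift C ℤ]
  [∀ n : ℤ, (shiftFunctor C n).Additive] [Pretriangulated C]

lemma exact₂_shift (T : Triangle C) (hT : T ∈ distTriang C) (i : ℤ) {X : C}
    (e : X ⟶ (T.obj₂)⟦i⟧) (he : e ≫ (T.mor₂)⟦i⟧' = 0) :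
    ∃ e' : X ⟶ (T.obj₁)⟦i⟧, e = e' ≫ (T.mor₁)⟦i⟧' := by
  have hT' := Triangle.shift_distinguished T hT i
  have h0 : e ≫ (i.negOnePow • (shiftFunctor C i).map T.mor₂) = 0 := by
    rw [Linear.comp_units_smul, he, smul_zero]
  obtain ⟨g0, hg⟩ := Triangle.coyoneda_exact₂ _ hT' e h0
  obtain ⟨g, rfl⟩ : ∃ g : X ⟶ (shiftFunctor C i).obj T.obj₁, g = g0 := ⟨g0, rfl⟩
  have hg' : e = g ≫ (i.negOnePow • (shiftFunctor C i).map T.mor₁) := hg
  refine ⟨i.negOnePow • g, ?_⟩
  rw [hg', Linear.comp_units_smul, Linear.units_smul_comp]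

lemma exact₃_shift (T : Triangle C) (hT : T ∈ distTriang C) (i : ℤ) {X : C}
    (x : X ⟶ (T.obj₃)⟦i⟧) (hx : x ≫ (T.mor₃)⟦i⟧' = 0) :
    ∃ e : X ⟶ (T.obj₂)⟦i⟧, x = e ≫ (T.mor₂)⟦i⟧' := by
  have hT' := Triangle.shift_distinguished T hT i
  have h0 : x ≫ (i.negOnePow • (shiftFunctor C i).map T.mor₃ ≫
      (shiftFunctorComm C 1 i).hom.app T.obj₁) = 0 := by
    rw [Linear.comp_units_smul, reassoc_of% hx, zero_comp, smul_zero]
  obtain ⟨g0, hg⟩ := Triangle.coyoneda_exact₃ _ hT' x h0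
  obtain ⟨g, rfl⟩ : ∃ g : X ⟶ (shiftFunctor C i).obj T.obj₂, g = g0 := ⟨g0, rfl⟩
  have hg' : x = g ≫ (i.negOnePow • (shiftFunctor C i).map T.mor₂) := hg
  refine ⟨i.negOnePow • g, ?_⟩
  rw [hg', Linear.comp_units_smul, Linear.units_smul_comp]

end general

variable {A : Type u} [CommRing A]

/-- The short exact sequence `0 → N → M → M/N → 0` in `ModuleCat`. -/
noncomputable abbrev ses {M : Type u} [AddCommGroup M] [Module A M] (N : Submodule A M) :
    ShortComplex (ModuleCat.{u} A) :=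
  ShortComplex.mk (ModuleCat.ofHom N.subtype) (ModuleCat.ofHom N.mkQ) (by ext x; simp)

lemma ses_shortExact {M : Type u} [AddCommGroup M] [Module A M] (N : Submodule A M) :
    (ses N).ShortExact :=
  ModuleCat.shortComplex_shortExact _ (LinearMap.exact_subtype_mkQ N) N.injective_subtype
    N.mkQ_surjective

/-- The morphism of short exact sequences induced by `N' ≤ N`. -/
noncomputable def sesMap {M : Type u} [AddCommGroup M] [Module A M] {N' N : Submodule A M}
    (h : N' ≤ N) : ses N' ⟶ ses N where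
  τ₁ := ModuleCat.ofHom (Submodule.inclusion h)
  τ₂ := 𝟙 _
  τ₃ := ModuleCat.ofHom (Submodule.mapQ N' N LinearMap.id h)
  comm₁₂ := by ext x; rfl
  comm₂₃ := by ext x; rfl

lemma exact_mid {M : Type u} [AddCommGroup M] [Module A M] (N : Submodule A M) (K : Dual.D A)
    (i : ℤ) (e : K ⟶ (Dual.inD A M)⟦i⟧)
    (he : e ≫ ((DerivedCategory.singleFunctor (ModuleCat.{u} A) 0).map
      (ModuleCat.ofHom N.mkQ))⟦i⟧' = 0) :
    ∃ e' : K ⟶ (Dual.inD A N)⟦i⟧, e = e' ≫
      ((DerivedCategory.singleFunctor (ModuleCat.{u} A) 0).map (ModuleCat.ofHom N.subtype))⟦i⟧' :=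
  exact₂_shift (ses_shortExact N).singleTriangle
    (ShortComplex.ShortExact.singleTriangle_distinguished _) i e he

lemma exact_quot {M : Type u} [AddCommGroup M] [Module A M] (N : Submodule A M) (K : Dual.D A)
    (i : ℤ) (x : K ⟶ (Dual.inD A (M ⧸ N))⟦i⟧)
    (hx : x ≫ ((ses_shortExact N).singleδ)⟦i⟧' = 0) :
    ∃ e : K ⟶ (Dual.inD A M)⟦i⟧, x = e ≫
      ((DerivedCategory.singleFunctor (ModuleCat.{u} A) 0).map (ModuleCat.ofHom N.mkQ))⟦i⟧' :=
  exact₃_shift (ses_shortExact N).singleTriangle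
    (ShortComplex.ShortExact.singleTriangle_distinguished _) i x hx

lemma δ_naturality {M : Type u} [AddCommGroup M] [Module A M] {N' N : Submodule A M}
    (h : N' ≤ N) :
    (DerivedCategory.singleFunctor (ModuleCat.{u} A) 0).map
        (ModuleCat.ofHom (Submodule.mapQ N' N LinearMap.id h)) ≫ (ses_shortExact N).singleδ =
      (ses_shortExact N').singleδ ≫
        ((DerivedCategory.singleFunctor (ModuleCat.{u} A) 0).map
          (ModuleCat.ofHom (Submodule.inclusion h)))⟦(1 : ℤ)⟧' :=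
  ((ShortComplex.ShortExact.singleTriangle.map (ses_shortExact N') (ses_shortExact N)
    (sesMap h)).comm₃).symm

lemma comp_shift_shift_eq_zero {C : Type*} [Category C] [Preadditive C] [HasShift C ℤ]
    {X Y Z : C} (f : Y ⟶ Z) (i : ℤ)
    (h : ∀ y' : X ⟶ Y⟦i + 1⟧, y' ≫ f⟦i + 1⟧' = 0) (y : X ⟶ (Y⟦(1 : ℤ)⟧)⟦i⟧) :
    y ≫ (f⟦(1 : ℤ)⟧')⟦i⟧' = 0 := by
  have hn := (shiftFunctorAdd' C 1 i (i + 1) (by omega)).hom.naturality f
  have h2 : (f⟦(1 : ℤ)⟧')⟦i⟧' = (shiftFunctorAdd' C 1 i (i + 1) (by omega)).inv.app Y ≫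
      f⟦i + 1⟧' ≫ (shiftFunctorAdd' C 1 i (i + 1) (by omega)).hom.app Z := by
    rw [hn]
    simp
  rw [h2, ← Category.assoc, ← Category.assoc, h _, zero_comp]

lemma mem_pow_smul_top_sub {M : Type u} [AddCommGroup M] [Module A M] (I : Ideal A) (n k : ℕ)
    (x : M) (hx : x ∈ (I ^ (n + k) • ⊤ : Submodule A M)) :
    ∃ y : ↥(I ^ n • ⊤ : Submodule A M),
      y ∈ (I ^ k • ⊤ : Submodule A ↥(I ^ n • ⊤ : Submodule A M)) ∧ (y : M) = x := by
  have : (I ^ (n + k) • ⊤ : Submodule A M) = I ^ k • (I ^ n • ⊤ : Submodule A M) := by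
    rw [add_comm, pow_add, Submodule.mul_smul]
  rw [this] at hx
  exact Groth.Agent.Lib.T2H4.ExtCocycle.mem_smul_top_subtype _ _ hx

end Groth.Agent.Lib.T2H4.ExtSeq
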