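import Mathlib
import Groth.Prelude.Def_DCoh4
import Groth.Agent.Lib.Helper21CoDelta
import Groth.Agent.Lib.Helper21ExtShDelta
import Groth.Agent.Lib.Helper21SheafHomFree
import Groth.Agent.Lib.Helper21ExtShLocFree
import Groth.Agent.Lib.T2H5GenIsoA
import Groth.Agent.Lib.T2H5GenIsoB
import Groth.Agent.Lib.T2H5GenIsoF
import Groth.Agent.Lib.T2H5Devissage
import Groth.Agent.Lib.Helper23FinTypeLocal
import Groth.Agent.Lib.T2H4FinGlobGen

/-!
# Coherence of the local Ext sheaves (helper4)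

Namespace `Groth.Agent.Lib.T2H4.ExtShCoh`.
-/

set_option autoImplicit false
set_option linter.style.haveILetI false
set_option linter.unusedSectionVars false
set_option linter.unusedVariables false
universe u
open CategoryTheory CategoryTheory.Limits

namespace Groth.Agent.Lib.T2H4.ExtShCoh

open Groth.Agent.Lib.Helper21.CoDeltaLib

section abstract

universe v v' w w'

variable {𝒜 : Type w} [Category.{v} 𝒜] [Abelian 𝒜] {𝒟 : Type w'} [Category.{v'} 𝒟] [Abelian 𝒟]

/-- dévissage for a contravariant δ-functor: if every object with `P` is a quotient of an acyclic object `L` with `P`,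
with kernel having `P`, and `Q` is stable under kernels, cokernels and isomorphisms and holds for `E⁰(L)`,
then `Q (E^p M)` for all `M` with `P`. -/
theorem coDelta_induction (Δ : CoDelta 𝒜 𝒟) (P : 𝒜 → Prop) (Q : 𝒟 → Prop)
    (hQiso : ∀ {A B : 𝒟}, (A ≅ B) → Q A → Q B)
    (hQker : ∀ {A B : 𝒟} (f : A ⟶ B), Q A → Q B → Q (kernel f))
    (hQcok : ∀ {A B : 𝒟} (f : A ⟶ B), Q A → Q B → Q (cokernel f))
    (hres : ∀ M, P M → ∃ (K L : 𝒜) (f : K ⟶ L) (g : L ⟶ M) (w : f ≫ g = 0),
      (ShortComplex.mk f g w).ShortExact ∧ P K ∧ P L ∧ Q (Δ.E 0 L) ∧ ∀ p, IsZero (Δ.E (p + 1) L))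
    (p : ℕ) : ∀ M : 𝒜, P M → Q (Δ.E p M) := by
  induction p with
  | zero =>
    intro M hM
    obtain ⟨K, L, f, g, w, hS, hK, hL, hQL, -⟩ := hres M hM
    obtain ⟨K', L', f', g', w', hS', -, -, hQL', -⟩ := hres K hK
    haveI : Mono (Δ.map 0 g) := Δ.mono_zero _ hS
    haveI : Mono (Δ.map 0 g') := Δ.mono_zero _ hS'
    obtain ⟨w₂, h₂⟩ := Δ.exact₂ _ hS 0
    have hk : IsLimit (KernelFork.ofι (Δ.map 0 g) w₂) := h₂.fIsKernel
    have e1 : Δ.E 0 M ≅ kernel (Δ.map 0 f) :=
      IsLimit.conePointUniqueUpToIso hk (limit.isLimit _)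
    have e2 : kernel (Δ.map 0 f ≫ Δ.map 0 g') ≅ kernel (Δ.map 0 f) := kernelCompMono _ _
    exact hQiso (e2 ≪≫ e1.symm) (hQker _ hQL hQL')
  | succ p ih =>
    intro M hM
    obtain ⟨K, L, f, g, w, hS, hK, hL, hQL, hacyc⟩ := hres M hM
    haveI : Epi (Δ.δ _ hS p) := Δ.epi_δ _ hS p (hacyc p)
    obtain ⟨w₃, h₃⟩ := Δ.exact₃ _ hS p
    have hc : IsColimit (CokernelCofork.ofπ (Δ.δ _ hS p) w₃) := h₃.gIsCokernel
    have e1 : Δ.E (p + 1) M ≅ cokernel (Δ.map p f) :=
      IsColimit.coconePointUniqueUpToIso hc (colimit.isColimit _)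
    exact hQiso e1.symm (hQcok _ (ih L hL) (ih K hK))

end abstract

section affine

open AlgebraicGeometry TopologicalSpace Opposite
open Groth.Agent.Lib.Helper23.SecTw Groth.Agent.Lib.Helper23.LocGen Groth.Agent.Lib.Helper2.Push
  Groth.Agent.Lib.Helper6 Groth.Agent.Lib.Helper23.GenLocus

theorem sv_top_secHom' {Z : Scheme.{u}} (M : Z.Modules) (σ : Γ(M, ⊤)) : sv (secHom M σ) ⊤ = σ := by
  rw [sv_secHom]
  change M.presheaf.map (𝟙 _) σ = σ
  rw [M.presheaf.map_id]; rfl

variable {Y : Scheme.{u}} [IsAffine Y]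

/-- a quasi-coherent module on an affine scheme is generated by its global sections over every open
(copy of helper5's `T2H5PnPullVan.locGen_top_of_isAffine`) -/
theorem locGen_top_of_isAffine (N : Y.Modules) [N.IsQuasicoherent] : LocGen N ⊤ := by
  have haff : IsAffineOpen (⊤ : Y.Opens) := isAffineOpen_top Y
  have hloc : IsLocOn N (⊤ : Y.Opens) := IsLocOn.of_isQuasicoherent haff N
  intro A hAU z y hy
  obtain ⟨f, hfA, hyf⟩ := haff.exists_basicOpen_le (V := A) ⟨y, hy⟩ (hAU hy)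
  obtain ⟨k, t₀, ht₀⟩ := hloc.exists_extension f (res N hfA z)
  refine ⟨Y.basicOpen f, hfA, hyf, ?_⟩
  have hunit : IsUnit (resf (Y.basicOpen_le f) f) := RingedSpace.isUnit_res_basicOpen _ f
  obtain ⟨u, hu⟩ := hunit.pow k
  have h1 : res N hfA z = (↑u⁻¹ : Γ(Y, Y.basicOpen f)) • res N (Y.basicOpen_le f) t₀ := by
    change res N (Y.basicOpen_le f) t₀ = resf (Y.basicOpen_le f) f ^ k • res N hfA z at ht₀
    rw [ht₀, ← hu, ← mul_smul, Units.inv_mul, one_smul]
  rw [h1]
  refine Submodule.smul_mem _ _ (res_mem_gspan _ _ ?_)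
  rw [← sv_top_secHom' N t₀]
  exact sv_mem_gspan _ _ _

/-- a coherent module on an affine scheme is a quotient of a finite free module -/
theorem exists_epi_fin (N : Y.Modules) (hN : Coh.IsCoh N) :
    ∃ (b : ℕ) (ψ : (∐ fun _ : Fin b => Coh.structureModule Y) ⟶ N), Epi ψ := by
  haveI : N.IsQuasicoherent := hN.1
  haveI : SheafOfModules.IsFiniteType (R := Y.ringCatSheaf) N := hN.2
  obtain ⟨b, t, ht⟩ := Groth.Agent.Lib.T2H4.FinGlobGen.exists_fin_epi N
    (fun x => ⟨⊤, trivial, locGen_top_of_isAffine N⟩)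
  exact ⟨b, Sigma.desc t, ht⟩

end affine

section scheme

open AlgebraicGeometry TopologicalSpace Opposite
open Groth.Agent.Lib.Helper21.ExtShDelta Groth.Agent.Lib.Helper21.SheafHomFree
  Groth.Agent.Lib.T2H5.Devissage Groth.Agent.Lib.T2H5.GenIsoA Groth.Agent.Lib.T2H5.GenIsoB

attribute [local instance] Groth.Agent.Lib.Helper21.ExtShDelta.hasSheafHom

variable {X : Scheme.{u}} (U : X.Opens)

/-- modules on the localized site `X/U` are modules on the scheme `U` -/
noncomputable abbrev Φ : ModSite.Mod (X.sheaf.over U) ⥤ (↑U : Scheme.{u}).Modules :=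
  (Scheme.Modules.overEquiv U).functor

instance : (Φ U).IsEquivalence := inferInstanceAs (Scheme.Modules.overEquiv U).functor.IsEquivalence

/-- `Φ` of a finite free module is coherent -/
theorem isCoh_Φ_free (b : ℕ) :
    Coh.IsCoh ((Φ U).obj (∐ fun _ : Fin b => ModSite.unit (X.sheaf.over U))) := by
  let i3 : (Φ U).obj (∐ fun _ : Fin b => ModSite.unit (X.sheaf.over U)) ≅
      ∐ fun _ : Fin b => (Φ U).obj (ModSite.unit (X.sheaf.over U)) :=
    PreservesCoproduct.iso (Φ U) _
  let i4 : (∐ fun _ : Fin b => (Φ U).obj (ModSite.unit (X.sheaf.over U))) ≅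
      ∐ fun _ : Fin b => Coh.structureModule (↑U : Scheme.{u}) :=
    Sigma.mapIso (fun _ => Iso.refl _)
  exact isCoh_of_iso (i3 ≪≫ i4).symm
    (isCoh_sigma _ fun _ => Groth.Agent.Lib.T2H5.GenIsoF.isCoh_structureModule)

/-- a module on `X/U` (`U` affine) whose image in `Mod(O_U)` is coherent is a quotient of a finite free module
with coherent kernel -/
theorem exists_resolution [IsLocallyNoetherian X] (hU : IsAffineOpen U)
    (M : ModSite.Mod (X.sheaf.over U)) (hM : Coh.IsCoh ((Φ U).obj M)) :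
    ∃ (b : ℕ) (g : (∐ fun _ : Fin b => ModSite.unit (X.sheaf.over U)) ⟶ M), Epi g ∧
      Coh.IsCoh ((Φ U).obj (kernel g)) := by
  haveI : IsAffine (↑U : Scheme.{u}) := hU
  obtain ⟨b, ψ, hψ⟩ := exists_epi_fin _ hM
  let i3 : (Φ U).obj (∐ fun _ : Fin b => ModSite.unit (X.sheaf.over U)) ≅
      ∐ fun _ : Fin b => (Φ U).obj (ModSite.unit (X.sheaf.over U)) :=
    PreservesCoproduct.iso (Φ U) _
  let i4 : (∐ fun _ : Fin b => (Φ U).obj (ModSite.unit (X.sheaf.over U))) ≅
      ∐ fun _ : Fin b => Coh.structureModule (↑U : Scheme.{u}) :=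
    Sigma.mapIso (fun _ => Iso.refl _)
  let g : (∐ fun _ : Fin b => ModSite.unit (X.sheaf.over U)) ⟶ M :=
    (Φ U).preimage ((i3 ≪≫ i4).hom ≫ ψ)
  have hg : (Φ U).map g = (i3 ≪≫ i4).hom ≫ ψ := (Φ U).map_preimage _
  haveI : Epi ((Φ U).map g) := by rw [hg]; infer_instance
  haveI : Epi g := (Φ U).epi_of_epi_map inferInstance
  refine ⟨b, g, inferInstance, ?_⟩
  have e : (Φ U).obj (kernel g) ≅ kernel ((Φ U).map g) := PreservesKernel.iso (Φ U) g
  exact isCoh_of_iso e.symm (isCoh_kernel _ (isCoh_Φ_free U b) hM)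

/-- the internal hom depends only on the isomorphism class of the first variable -/
noncomputable def sheafHomCongr {C : Type u} [SmallCategory C] {J : GrothendieckTopology C}
    (O : Sheaf J CommRingCat.{u}) {L L' : ModSite.Mod O} (e : L ≅ L')
    [ModSite.HasSheafHom L] [ModSite.HasSheafHom L'] : ModSite.sheafHom L ≅ ModSite.sheafHom L' :=
  (ModSite.sheafHomAdj L).rightAdjointUniq
    ((ModSite.sheafHomAdj L').ofNatIsoLeft ((ModSite.tensorBi O).flip.mapIso e.symm))

attribute [local instance] Abelian.hasFiniteBiproducts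

variable [HasInjectiveResolutions (ModSite.Mod (X.sheaf.over U))]

/-- on an affine open `U` of a locally Noetherian scheme, the local Ext sheaves (on `X/U`) of coherent modules are
coherent -/
theorem isCoh_Φ_extSh [IsLocallyNoetherian X] (hU : IsAffineOpen U)
    (N : ModSite.Mod (X.sheaf.over U)) (hN : Coh.IsCoh ((Φ U).obj N)) (p : ℕ)
    (M : ModSite.Mod (X.sheaf.over U)) (hM : Coh.IsCoh ((Φ U).obj M)) :
    Coh.IsCoh ((Φ U).obj (((ModSite.sheafHom M).rightDerived p).obj N)) := by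
  refine coDelta_induction (extShDelta N) (fun M => Coh.IsCoh ((Φ U).obj M))
    (fun D => Coh.IsCoh ((Φ U).obj D)) ?_ ?_ ?_ ?_ p M hM
  · intro A B e hA
    exact isCoh_of_iso ((Φ U).mapIso e) hA
  · intro A B f hA hB
    exact isCoh_of_iso (PreservesKernel.iso (Φ U) f).symm (isCoh_kernel _ hA hB)
  · intro A B f hA hB
    exact isCoh_of_iso (PreservesCokernel.iso (Φ U) f).symm (isCoh_cokernel _ hA hB)
  · intro M hM
    obtain ⟨b, g, hg, hK⟩ := exists_resolution U hU M hM
    refine ⟨kernel g, _, kernel.ι g, g, kernel.condition g, ?_, hK, isCoh_Φ_free U b, ?_, ?_⟩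
    · haveI : Mono (ShortComplex.mk (kernel.ι g) g (kernel.condition g)).f :=
        inferInstanceAs (Mono (kernel.ι g))
      haveI : Epi (ShortComplex.mk (kernel.ι g) g (kernel.condition g)).g := hg
      exact ShortComplex.ShortExact.mk (ShortComplex.exact_kernel g)
    · -- `E⁰(L) ≅ N^b`
      haveI := sheafHom_preservesFiniteLimits (X.sheaf.over U)
        (∐ fun _ : Fin b => ModSite.unit (X.sheaf.over U))
      have e1 : ((ModSite.sheafHom (∐ fun _ : Fin b => ModSite.unit (X.sheaf.over U))).rightDerived 0).obj N ≅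
          (ModSite.sheafHom (∐ fun _ : Fin b => ModSite.unit (X.sheaf.over U))).obj N :=
        (Functor.rightDerivedZeroIsoSelf _).app N
      have eL : (∐ fun _ : Fin b => ModSite.unit (X.sheaf.over U)) ≅
          (SheafOfModules.free (ULift.{u} (Fin b)) : ModSite.Mod (X.sheaf.over U)) :=
        (Sigma.reindex (Equiv.ulift : ULift.{u} (Fin b) ≃ Fin b)
          (fun _ : Fin b => ModSite.unit (X.sheaf.over U))).symm
      have e2 := (sheafHomCongr (X.sheaf.over U) eL).app N ≪≫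
        (sheafHomFreeIso (X.sheaf.over U) (ULift.{u} (Fin b))).app N
      have e3 : (BiF (𝒜 := ModSite.Mod (X.sheaf.over U)) (ULift.{u} (Fin b))).obj N ≅
          ∐ (fun _ : ULift.{u} (Fin b) => N) := biproduct.isoCoproduct _
      have e3' : (∐ (fun _ : ULift.{u} (Fin b) => N)) ≅ ∐ (fun _ : Fin b => N) :=
        Sigma.reindex (Equiv.ulift : ULift.{u} (Fin b) ≃ Fin b) (fun _ : Fin b => N)
      have e4 : (Φ U).obj (∐ (fun _ : Fin b => N)) ≅ ∐ (fun _ : Fin b => (Φ U).obj N) :=
        PreservesCoproduct.iso (Φ U) _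
      exact isCoh_of_iso (((Φ U).mapIso (e1 ≪≫ e2 ≪≫ e3 ≪≫ e3')) ≪≫ e4).symm (isCoh_sigma _ fun _ => hN)
    · intro q
      exact isZero_extSh_free N _ (Iso.refl _) q

end scheme

section global

open AlgebraicGeometry TopologicalSpace Opposite
open Groth.Agent.Lib.T2H5.Devissage

attribute [local instance] Groth.Agent.Lib.Helper21.ExtShDelta.hasSheafHom

variable {X : Scheme.{u}}

/-- **Coherence of the local Ext sheaves** on a locally Noetherian scheme. -/
theorem isCoh_extSh [IsLocallyNoetherian X] (F G : X.Modules) (hF : Coh.IsCoh F) (hG : Coh.IsCoh G)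
    [ModSite.HasSheafHom (O := X.sheaf) F] [HasInjectiveResolutions (ModSite.Mod X.sheaf)] (i : ℕ) :
    Coh.IsCoh ((ModSite.extSh (O := X.sheaf) F i).obj G) := by
  haveI := hF.1
  haveI := hF.2
  haveI := hG.1
  haveI := hG.2
  have key : ∀ U : X.affineOpens,
      Coh.IsCoh ((Scheme.Modules.restrictFunctor U.1.ι).obj ((ModSite.extSh (O := X.sheaf) F i).obj G)) := by
    intro U
    haveI : EnoughInjectives (ModSite.Mod (X.sheaf.over U.1)) :=
      Groth.Agent.S0485.result ((Opens.grothendieckTopology X).over U.1) _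
    obtain ⟨φ⟩ := Groth.Agent.S12887.result X.sheaf U.1 F i
    have e1 : (Φ U.1).obj ((ModSite.restr X.sheaf U.1).obj ((ModSite.extSh (O := X.sheaf) F i).obj G)) ≅
        (Scheme.Modules.restrictFunctor U.1.ι).obj ((ModSite.extSh (O := X.sheaf) F i).obj G) :=
      (Scheme.Modules.overFunctorEquiv U.1).app _
    have eF : (Φ U.1).obj ((ModSite.restr X.sheaf U.1).obj F) ≅ F.restrict U.1.ι :=
      (Scheme.Modules.overFunctorEquiv U.1).app _
    have eG : (Φ U.1).obj ((ModSite.restr X.sheaf U.1).obj G) ≅ G.restrict U.1.ι :=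
      (Scheme.Modules.overFunctorEquiv U.1).app _
    have hF' : Coh.IsCoh (F.restrict U.1.ι) :=
      ⟨Scheme.Modules.isQuasicoherent_restrictFunctor U.1.ι F,
        Groth.Agent.Lib.Helper23.FinType.isFiniteType_restrict U.1.ι F⟩
    have hG' : Coh.IsCoh (G.restrict U.1.ι) :=
      ⟨Scheme.Modules.isQuasicoherent_restrictFunctor U.1.ι G,
        Groth.Agent.Lib.Helper23.FinType.isFiniteType_restrict U.1.ι G⟩
    have h1 := isCoh_Φ_extSh U.1 U.2 _ (isCoh_of_iso eG.symm hG') i _ (isCoh_of_iso eF.symm hF')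
    exact isCoh_of_iso (((Φ U.1).mapIso (φ.app G)).symm ≪≫ e1) h1
  have hcov : IsOpenCover (fun U : X.affineOpens => (U : X.Opens)) := iSup_affineOpens_eq_top X
  haveI hq : ((ModSite.extSh (O := X.sheaf) F i).obj G).IsQuasicoherent :=
    Groth.Agent.Lib.Helper23.FinType.isQuasicoherent_of_open_cover _ _ hcov (fun U => (key U).1)
  exact ⟨hq, Groth.Agent.Lib.Helper23.FinType.isFiniteType_of_open_cover _ _ hcov (fun U => (key U).2)⟩

end global

section sheafHom

open AlgebraicGeometry TopologicalSpace Opposite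
open Groth.Agent.Lib.T2H5.Devissage
open Groth.Agent.Lib.Helper21.ModTensor3 Groth.Agent.Lib.Helper21.ModTensor5

variable {X : Scheme.{u}}

/-- `DCoh.sheafHom F ≅ ModSite.sheafHom F` (copy of the one in `S10942`). -/
noncomputable def sheafHomIso (F : ModSite.Mod X.sheaf) [DCoh.HasSheafHom F]
    [ModSite.HasSheafHom (O := X.sheaf) F] :
    (DCoh.sheafHom F : ModSite.Mod X.sheaf ⥤ ModSite.Mod X.sheaf) ≅
      ModSite.sheafHom (O := X.sheaf) F :=
  let e : tL X.sheaf F ≅ tR X.sheaf F := (brd X.sheaf).app F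
  let adj₁ : tL X.sheaf F ⊣ (DCoh.sheafHom F : ModSite.Mod X.sheaf ⥤ ModSite.Mod X.sheaf) :=
    DCoh.sheafHomAdj F
  let adj₂ : tL X.sheaf F ⊣ ModSite.sheafHom (O := X.sheaf) F :=
    (ModSite.sheafHomAdj (O := X.sheaf) F).ofNatIsoLeft e.symm
  adj₁.rightAdjointUniq adj₂

/-- coherence of `ℋom(F, G)` in the `ModSite` form -/
theorem isCoh_sheafHom_aux [IsLocallyNoetherian X] (F G : ModSite.Mod X.sheaf) (hF : Coh.IsCoh F) (hG : Coh.IsCoh G)
    [ModSite.HasSheafHom (O := X.sheaf) F] [HasInjectiveResolutions (ModSite.Mod X.sheaf)]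
    [PreservesFiniteLimits (ModSite.sheafHom (O := X.sheaf) F)] :
    Coh.IsCoh ((ModSite.sheafHom (O := X.sheaf) F).obj G) := by
  have e1 : ((ModSite.sheafHom (O := X.sheaf) F).rightDerived 0).obj G ≅
      (ModSite.sheafHom (O := X.sheaf) F).obj G := (Functor.rightDerivedZeroIsoSelf _).app G
  exact isCoh_of_iso e1 (isCoh_extSh F G hF hG 0)

/-- **Coherence of the sheaf Hom** on a locally Noetherian scheme. -/
theorem isCoh_sheafHom [IsLocallyNoetherian X] (F G : X.Modules) (hF : Coh.IsCoh F) (hG : Coh.IsCoh G)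
    [DCoh.HasSheafHom F] : Coh.IsCoh ((DCoh.sheafHom F).obj G) := by
  haveI h1 : ModSite.HasSheafHom (O := X.sheaf) F := Groth.Agent.Lib.Helper21.ExtShDelta.hasSheafHom _ F
  haveI h2 : EnoughInjectives (ModSite.Mod X.sheaf) :=
    Groth.Agent.S0485.result (Opens.grothendieckTopology X) _
  haveI h3 : HasInjectiveResolutions (ModSite.Mod X.sheaf) := inferInstance
  haveI h4 : PreservesFiniteLimits (ModSite.sheafHom (O := X.sheaf) F) :=
    Groth.Agent.Lib.Helper21.ExtShDelta.sheafHom_preservesFiniteLimits X.sheaf F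
  have h5 := isCoh_sheafHom_aux (X := X) F G hF hG
  have e2 : (DCoh.sheafHom F).obj G ≅ (ModSite.sheafHom (O := X.sheaf) F).obj G := (sheafHomIso F).app G
  exact isCoh_of_iso e2.symm h5

end sheafHom

end Groth.Agent.Lib.T2H4.ExtShCoh
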