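import Mathlib
import Groth.Agent.Lib.T2H4ExtShCoh
import Groth.Agent.Lib.Helper21RestrExact
import Groth.Agent.Lib.Helper23LocSS
import Groth.Agent.Lib.Helper2QcPush

/-!
# Local Ext sheaves with supports of a module supported in the closed set (helper4)

Namespace `Groth.Agent.Lib.T2H4.ExtZCoh`.

If `M|_U = 0` then `Γ_Z ℋom(M, -) ≅ ℋom(M, -)`, hence `ℰxt^q_Z(M, -) ≅ ℰxt^q(M, -)`.
-/

set_option autoImplicit false
set_option linter.style.haveILetI false
set_option linter.unusedSectionVars false
set_option linter.unusedVariables false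
universe u
open CategoryTheory CategoryTheory.Limits

namespace Groth.Agent.Lib.T2H4.ExtZCoh

open Groth.Agent.Lib.Helper21.ModTensor3 Groth.Agent.Lib.Helper21.ModTensor5
  Groth.Agent.Lib.Helper21.RestrExact Groth.Agent.Lib.Helper21.ExtShDelta

attribute [local instance] Groth.Agent.Lib.Helper21.ExtShDelta.hasSheafHom

section site

variable {C : Type u} [SmallCategory C] {J : GrothendieckTopology C} (O : Sheaf J CommRingCat.{u}) (U : C)

/-- `ℋom(0, N) = 0` -/
theorem isZero_sheafHom_obj_of_isZero (M : ModSite.Mod O) (hM : IsZero M) [ModSite.HasSheafHom M]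
    (N : ModSite.Mod O) : IsZero ((ModSite.sheafHom M).obj N) := by
  have hz : IsZero ((tL O ((ModSite.sheafHom M).obj N)).obj M) := Functor.map_isZero _ hM
  rw [IsZero.iff_id_eq_zero]
  apply ((ModSite.sheafHomAdj M).homEquiv _ _).symm.injective
  exact hz.eq_of_src _ _

variable [ModSite.HasPushOver O U]

/-- if `M|_U = 0` then `Γ_Z ℋom(M, N) ⟶ ℋom(M, N)` is an isomorphism -/
theorem isIso_sectOnι_sheafHom (M : ModSite.Mod O) [ModSite.HasSheafHom M]
    (hM : IsZero ((ModSite.restr O U).obj M)) (N : ModSite.Mod O) :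
    IsIso ((ModSite.sectOnι O U).app ((ModSite.sheafHom M).obj N)) := by
  have h1 : IsZero ((ModSite.restr O U).obj ((ModSite.sheafHom M).obj N)) :=
    (isZero_sheafHom_obj_of_isZero (O.over U) _ hM _).of_iso ((restrSheafHomIso O U M).app N)
  have h2 : (ModSite.restrPushOverAdj O U).unit.app ((ModSite.sheafHom M).obj N) = 0 := by
    apply ((ModSite.restrPushOverAdj O U).homEquiv _ _).symm.injective
    exact h1.eq_of_src _ _
  exact KernelFork.IsLimit.isIso_ι _ (limit.isLimit _) h2

/-- if `M|_U = 0` then `Γ_Z ℋom(M, -) ≅ ℋom(M, -)` -/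
noncomputable def sheafHomSectOnIso (M : ModSite.Mod O) [ModSite.HasSheafHom M]
    (hM : IsZero ((ModSite.restr O U).obj M)) :
    ModSite.sheafHom M ⋙ ModSite.sectOn O U ≅ ModSite.sheafHom M :=
  haveI : ∀ N, IsIso ((Functor.whiskerLeft (ModSite.sheafHom M) (ModSite.sectOnι O U)).app N) := fun N =>
    isIso_sectOnι_sheafHom O U M hM N
  haveI : IsIso (Functor.whiskerLeft (ModSite.sheafHom M) (ModSite.sectOnι O U)) :=
    NatIso.isIso_of_isIso_app _
  asIso (Functor.whiskerLeft (ModSite.sheafHom M) (ModSite.sectOnι O U)) ≪≫ Functor.rightUnitor _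

/-- if `M|_U = 0` then `ℰxt^q_Z(M, -) ≅ ℰxt^q(M, -)` -/
noncomputable def extZShIso [HasInjectiveResolutions (ModSite.Mod O)] (M : ModSite.Mod O)
    [ModSite.HasSheafHom M] (hM : IsZero ((ModSite.restr O U).obj M)) (q : ℕ) :
    ModSite.extZSh U M q ≅ ModSite.extSh M q :=
  Groth.Agent.Lib.Helper23LocSS.rightDerivedIso (sheafHomSectOnIso O U M hM) q

end site

section scheme

open AlgebraicGeometry TopologicalSpace Opposite

variable {X : Scheme.{u}}

/-- a module with no support in `U` restricts to zero on `U` -/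
theorem isZero_restrict_of_support (U : X.Opens) (F : X.Modules)
    (hsupp : ∀ x ∈ CohB1.support F, x ∉ (U : Set X)) : IsZero (F.restrict U.ι) := by
  refine Groth.Agent.Lib.Helper23.ModLocal.isZero_of_forall_eq_zero fun V s => ?_
  change Γ(F, U.ι ''ᵁ V) at s
  refine Groth.Agent.Lib.Helper2.QcPush.section_eq_zero_of_germ F (U.ι ''ᵁ V) s fun x hx => ?_
  have hxU : x ∈ (U : Set X) := by
    obtain ⟨z, -, rfl⟩ := hx
    exact z.2
  have hsub : Subsingleton (F.presheaf.stalk x) := by
    by_contra h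
    exact hsupp x h hxU
  exact Subsingleton.elim _ _

theorem isZero_restr_of_support (U : X.Opens) (F : X.Modules)
    (hsupp : ∀ x ∈ CohB1.support F, x ∉ (U : Set X)) :
    IsZero ((ModSite.restr X.sheaf U).obj F) := by
  have h1 : IsZero ((Scheme.Modules.overEquiv U).functor.obj ((ModSite.restr X.sheaf U).obj F)) :=
    (isZero_restrict_of_support U F hsupp).of_iso ((Scheme.Modules.overFunctorEquiv U).app F)
  exact ((Scheme.Modules.overEquiv U).inverse.map_isZero h1).of_iso
    ((Scheme.Modules.overEquiv U).unitIso.app _)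

/-- local Ext sheaves with supports in `Z = X ∖ U` of coherent modules, the first supported in `Z`, are coherent -/
theorem isCoh_extZSh [IsLocallyNoetherian X] (U : X.Opens) [ModSite.HasPushOver X.sheaf U]
    (F G : X.Modules) (hF : Coh.IsCoh F) (hG : Coh.IsCoh G)
    (hsupp : ∀ x ∈ CohB1.support F, x ∉ (U : Set X))
    [ModSite.HasSheafHom (O := X.sheaf) F] [HasInjectiveResolutions (ModSite.Mod X.sheaf)] (i : ℕ) :
    Coh.IsCoh ((ModSite.extZSh (O := X.sheaf) U F i).obj G) :=
  Groth.Agent.Lib.T2H5.Devissage.isCoh_of_iso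
    ((extZShIso X.sheaf U F (isZero_restr_of_support U F hsupp) i).app G).symm
    (Groth.Agent.Lib.T2H4.ExtShCoh.isCoh_extSh F G hF hG i)

end scheme

end Groth.Agent.Lib.T2H4.ExtZCoh
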