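import Groth.Agent.Lib.T2H4Frob2

set_option autoImplicit false
set_option linter.style.haveILetI false
set_option backward.isDefEq.respectTransparency.types false
universe u
open CategoryTheory CategoryTheory.Limits Pretriangulated
attribute [local instance] HasDerivedCategory.standard

namespace Groth.Agent.Lib.T2H4.Frob

open Groth.Agent.Lib.T2H4.Koszul

attribute [local instance] Groth.Agent.Lib.T2H4.LDerExist.hasLBaseChange

section Rep2

variable {𝒜 ℬ : Type*} [Category 𝒜] [Category ℬ]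

lemma isRHom_of_iso_rep {F : 𝒜 ⥤ ℬ} {Y : ℬ} {X X' : 𝒜} (h : IsRHom F Y X) (i : X ≅ X') :
    IsRHom F Y X' := by
  obtain ⟨ε, hε⟩ := h
  refine ⟨F.map i.inv ≫ ε, fun L => ?_⟩
  have hfun : (fun g : L ⟶ X' => F.map g ≫ F.map i.inv ≫ ε) =
      (fun g : L ⟶ X => F.map g ≫ ε) ∘ (fun g : L ⟶ X' => g ≫ i.inv) := by
    funext g
    simp
  rw [hfun]
  refine Function.Bijective.comp (hε L) ?_
  exact ⟨fun k k' hk => (cancel_mono i.inv).1 hk, fun k => ⟨k ≫ i.hom, by simp⟩⟩

end Rep2

section OneVarPoly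

variable (S : Type u) [CommRing S] (g : S)

theorem isOneVar_polynomial :
    IsOneVar (Polynomial.C : S →+* Polynomial S) (Polynomial.evalRingHom g)
      (Polynomial.X - Polynomial.C g) where
  hχι b := by simp
  hreg c hc :=
    (Polynomial.Monic.mul_right_eq_zero_iff (Polynomial.monic_X_sub_C g)).1 hc
  hker c hc := by
    have h1 : (Polynomial.X - Polynomial.C g) ∣ c := Polynomial.dvd_iff_isRoot.2 hc
    obtain ⟨q, hq⟩ := h1
    exact ⟨q, hq⟩
  hχt := by simp

end OneVarPoly

section IntStep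

variable {B A : Type u} [CommRing B] [CommRing A] (ξ : Polynomial B →+* A) (f : Polynomial B)
  (hf : f.Monic) (hξf : ξ f = 0)

include hf in
/-- Koszul duality for the quotient by a monic polynomial. -/
theorem isRHom_adjoinRoot_mk (M : Dual.D B) :
    IsRHom (DRing.restrictD (AdjoinRoot.mk f))
      (((DRing.LBaseChange (Polynomial.C : B →+* Polynomial B)).obj M)⟦(1 : ℤ)⟧)
      ((DRing.LBaseChange (algebraMap B (AdjoinRoot f))).obj M) := by
  let φ : B →+* AdjoinRoot f := algebraMap B (AdjoinRoot f)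
  let ι' : AdjoinRoot f →+* Polynomial (AdjoinRoot f) := Polynomial.C
  let χ' : Polynomial (AdjoinRoot f) →+* AdjoinRoot f := Polynomial.evalRingHom (AdjoinRoot.root f)
  let j : Polynomial B →+* Polynomial (AdjoinRoot f) := Polynomial.mapRingHom φ
  have hOV := isOneVar_polynomial (AdjoinRoot f) (AdjoinRoot.root f)
  have hq : AdjoinRoot.mk f = χ'.comp j := by
    apply Polynomial.ringHom_ext
    · intro b
      simp [χ', j, φ, AdjoinRoot.algebraMap_eq]
    · simp [χ', j]
  have hji : j.comp (Polynomial.C : B →+* Polynomial B) = ι'.comp φ := by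
    ext b
    simp [j, ι']
  -- Koszul over `B'`
  have h1 : IsRHom (DRing.restrictD χ')
      (((DRing.LBaseChange ι').obj ((DRing.LBaseChange φ).obj M))⟦(1 : ℤ)⟧)
      ((DRing.LBaseChange φ).obj M) := exists_delta hOV _
  -- Frobenius for `j`
  have h2 : IsRHom (DRing.restrictD j)
      (((DRing.LBaseChange (Polynomial.C : B →+* Polynomial B)).obj M)⟦(1 : ℤ)⟧)
      ((DRing.LBaseChange j).obj
        (((DRing.LBaseChange (Polynomial.C : B →+* Polynomial B)).obj M)⟦(1 : ℤ)⟧)) :=
    isRHom_frob (frobDataAR f hf).poly _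
  -- identify the middle objects
  obtain ⟨e1⟩ := nonempty_lbc_shift_iso j
    ((DRing.LBaseChange (Polynomial.C : B →+* Polynomial B)).obj M) (1 : ℤ)
  obtain ⟨e2⟩ := Groth.Agent.Lib.T2H4.TwoIdeal.nonempty_lbc_trans
    (Polynomial.C : B →+* Polynomial B) j (ι'.comp φ) hji M
  obtain ⟨e3⟩ := Groth.Agent.Lib.T2H4.TwoIdeal.nonempty_lbc_trans φ ι' (ι'.comp φ) rfl M
  have h1' := h1.of_iso_target ((shiftFunctor (Dual.D (Polynomial (AdjoinRoot f))) (1 : ℤ)).mapIso
    (e3 ≪≫ e2.symm) ≪≫ e1.symm)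
  exact (h1'.comp h2).of_natIso (resCompIso j χ' (AdjoinRoot.mk f) hq)

include hf hξf in
/-- the integral one-variable step. -/
theorem isRHom_int_step (M : Dual.D B) (X : Dual.D A)
    (hX : IsRHom (DRing.restrictD (ξ.comp Polynomial.C)) M X) :
    IsRHom (DRing.restrictD ξ)
      (((DRing.LBaseChange (Polynomial.C : B →+* Polynomial B)).obj M)⟦(1 : ℤ)⟧) X := by
  let φ : B →+* AdjoinRoot f := algebraMap B (AdjoinRoot f)
  have hev : f.eval₂ (ξ.comp Polynomial.C) (ξ Polynomial.X) = 0 := by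
    have := Polynomial.hom_eval₂ f Polynomial.C ξ Polynomial.X
    rw [Polynomial.eval₂_C_X] at this
    rw [← this, hξf]
  let ξ' : AdjoinRoot f →+* A := AdjoinRoot.lift (ξ.comp Polynomial.C) (ξ Polynomial.X) hev
  have hξ : ξ = ξ'.comp (AdjoinRoot.mk f) := by
    apply Polynomial.ringHom_ext
    · intro b
      simp [ξ']
    · simp [ξ']
  have hξC : ξ.comp Polynomial.C = ξ'.comp φ := by
    ext b
    simp [ξ', φ, AdjoinRoot.algebraMap_eq]
  have h1 : IsRHom (DRing.restrictD ξ') ((DRing.LBaseChange φ).obj M) X :=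
    isRHom_cancel (hX.of_natIso (resCompIso φ ξ' (ξ.comp Polynomial.C) hξC).symm)
      (isRHom_frob (frobDataAR f hf) M)
  exact (h1.comp (isRHom_adjoinRoot_mk f hf M)).of_natIso (resCompIso (AdjoinRoot.mk f) ξ' ξ hξ)

end IntStep

section IntStep2

variable {R B A : Type u} [CommRing R] [CommRing B] [CommRing A] (ξ : Polynomial B →+* A)
  (f : Polynomial B) (hf : f.Monic) (hξf : ξ f = 0)

include hf hξf in
/-- the integral one-variable step, with base ring and shifts. -/
theorem isRHom_int_step' (ρB : R →+* B) (ρC : R →+* Polynomial B)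
    (hρ : (Polynomial.C : B →+* Polynomial B).comp ρB = ρC) (K : Dual.D R) (d d' : ℤ)
    (hd : d + 1 = d') (X : Dual.D A)
    (hX : IsRHom (DRing.restrictD (ξ.comp Polynomial.C)) (((DRing.LBaseChange ρB).obj K)⟦d⟧) X) :
    IsRHom (DRing.restrictD ξ) (((DRing.LBaseChange ρC).obj K)⟦d'⟧) X := by
  have h1 := isRHom_int_step ξ f hf hξf _ X hX
  obtain ⟨e1⟩ := nonempty_lbc_shift_iso (Polynomial.C : B →+* Polynomial B)
    ((DRing.LBaseChange ρB).obj K) d
  obtain ⟨e2⟩ := Groth.Agent.Lib.T2H4.TwoIdeal.nonempty_lbc_trans ρB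
    (Polynomial.C : B →+* Polynomial B) ρC hρ K
  exact h1.of_iso_target ((shiftFunctor (Dual.D (Polynomial B)) (1 : ℤ)).mapIso
    (e1 ≪≫ (shiftFunctor (Dual.D (Polynomial B)) d).mapIso e2) ≪≫
      ((shiftFunctorAdd' (Dual.D (Polynomial B)) d 1 d' hd).app _).symm)

end IntStep2

section Transport

variable {R C₀ C₁ A : Type u} [CommRing R] [CommRing C₀] [CommRing C₁] [CommRing A]

/-- transport along a ring isomorphism. -/
theorem isRHom_transport (θ : C₀ →+* C₁) (hθ : Function.Bijective θ) (ρ₀ : R →+* C₀)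
    (ρ₁ : R →+* C₁) (h : θ.comp ρ₀ = ρ₁) (ξ₁ : C₁ →+* A) (ξ₀ : C₀ →+* A) (hξ : ξ₀ = ξ₁.comp θ)
    (K : Dual.D R) (d : ℤ) (X : Dual.D A)
    (hX : IsRHom (DRing.restrictD ξ₁) (((DRing.LBaseChange ρ₁).obj K)⟦d⟧) X) :
    IsRHom (DRing.restrictD ξ₀) (((DRing.LBaseChange ρ₀).obj K)⟦d⟧) X := by
  have h1 := isRHom_frob (frobDataOfBijective θ hθ) (((DRing.LBaseChange ρ₀).obj K)⟦d⟧)
  obtain ⟨e1⟩ := nonempty_lbc_shift_iso θ ((DRing.LBaseChange ρ₀).obj K) d
  obtain ⟨e2⟩ := Groth.Agent.Lib.T2H4.TwoIdeal.nonempty_lbc_trans ρ₀ θ ρ₁ h K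
  have h2 := isRHom_of_iso_rep h1 (e1 ≪≫ (shiftFunctor (Dual.D C₁) d).mapIso e2)
  exact (hX.comp h2).of_natIso (resCompIso θ ξ₁ ξ₀ hξ)

end Transport

section Chain

variable (R : Type u) [CommRing R] {A : Type u} [CommRing A] [Algebra R A]
  [Algebra.IsIntegral R A]

theorem isRHom_finite_chain (K : Dual.D R) (X : Dual.D A)
    (hX : IsRHom (DRing.restrictD (algebraMap R A)) K X) :
    ∀ (N : ℕ) (ξ : MvPolynomial (Fin N) R →ₐ[R] A),
      IsRHom (DRing.restrictD ξ.toRingHom)
        (((DRing.LBaseChange (algebraMap R (MvPolynomial (Fin N) R))).obj K)⟦(N : ℤ)⟧) X := by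
  intro N
  induction N with
  | zero =>
    intro ξ
    have hθ : Function.Bijective (algebraMap R (MvPolynomial (Fin 0) R)) := by
      rw [MvPolynomial.algebraMap_eq]
      exact ⟨MvPolynomial.C_injective _ _, MvPolynomial.C_surjective _⟩
    have hcomp : algebraMap R A =
        ξ.toRingHom.comp (algebraMap R (MvPolynomial (Fin 0) R)) := by
      ext r
      simp
    have h1 := isRHom_cancel
      (hX.of_natIso (resCompIso _ ξ.toRingHom (algebraMap R A) hcomp).symm)
      (isRHom_frob (frobDataOfBijective _ hθ) K)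
    exact h1.of_iso_target ((shiftFunctorZero _ ℤ).app _).symm
  | succ N ih =>
    intro ξ
    have ihB := ih (ξ.comp (MvPolynomial.rename (Fin.last N).succAbove))
    obtain ⟨g, hg, hg0⟩ := Algebra.IsIntegral.isIntegral (R := R) (ξ (MvPolynomial.X (Fin.last N)))
    have hf : (g.map (algebraMap R (MvPolynomial (Fin N) R))).Monic := hg.map _
    have hξ₁C : (ξ.toRingHom.comp (polyΘ R N (Fin.last N)).symm.toAlgHom.toRingHom).comp
        Polynomial.C = (ξ.comp (MvPolynomial.rename (Fin.last N).succAbove)).toRingHom := by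
      refine RingHom.ext (fun b => ?_)
      show ξ ((polyΘ R N (Fin.last N)).symm (Polynomial.C b)) =
        ξ (MvPolynomial.rename (Fin.last N).succAbove b)
      rw [← polyΘ_ι R N (Fin.last N) b, AlgEquiv.symm_apply_apply]
      rfl
    have hξ₁X : (ξ.toRingHom.comp (polyΘ R N (Fin.last N)).symm.toAlgHom.toRingHom)
        Polynomial.X = ξ (MvPolynomial.X (Fin.last N)) := by
      show ξ ((polyΘ R N (Fin.last N)).symm Polynomial.X) = ξ (MvPolynomial.X (Fin.last N))
      rw [← polyΘ_X_self R N (Fin.last N), AlgEquiv.symm_apply_apply]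
    have hξf : (ξ.toRingHom.comp (polyΘ R N (Fin.last N)).symm.toAlgHom.toRingHom)
        (g.map (algebraMap R (MvPolynomial (Fin N) R))) = 0 := by
      have h1 := Polynomial.hom_eval₂ (g.map (algebraMap R (MvPolynomial (Fin N) R)))
        Polynomial.C (ξ.toRingHom.comp (polyΘ R N (Fin.last N)).symm.toAlgHom.toRingHom)
        Polynomial.X
      rw [Polynomial.eval₂_C_X] at h1
      rw [h1, Polynomial.eval₂_map, hξ₁C, hξ₁X]
      have h2 : (ξ.comp (MvPolynomial.rename (Fin.last N).succAbove)).toRingHom.comp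
          (algebraMap R (MvPolynomial (Fin N) R)) = algebraMap R A := by
        ext r
        simp
      rw [h2]
      exact hg0
    have h1 := isRHom_int_step' (ξ.toRingHom.comp (polyΘ R N (Fin.last N)).symm.toAlgHom.toRingHom)
      (g.map (algebraMap R (MvPolynomial (Fin N) R))) hf hξf
      (algebraMap R (MvPolynomial (Fin N) R))
      (algebraMap R (Polynomial (MvPolynomial (Fin N) R))) (by ext r; simp) K (N : ℤ)
      ((N + 1 : ℕ) : ℤ) (by push_cast; ring) X (by rw [hξ₁C]; exact ihB)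
    exact isRHom_transport (polyΘ R N (Fin.last N)).toAlgHom.toRingHom
      (polyΘ R N (Fin.last N)).bijective (algebraMap R (MvPolynomial (Fin (N + 1)) R))
      (algebraMap R (Polynomial (MvPolynomial (Fin N) R)))
      (RingHom.ext (fun r => (polyΘ R N (Fin.last N)).commutes r))
      (ξ.toRingHom.comp (polyΘ R N (Fin.last N)).symm.toAlgHom.toRingHom) ξ.toRingHom
      (by
        refine RingHom.ext (fun x => ?_)
        show ξ x = ξ ((polyΘ R N (Fin.last N)).symm ((polyΘ R N (Fin.last N)) x))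
        rw [AlgEquiv.symm_apply_apply]) K _ X h1

end Chain

section Final

variable (R : Type u) [CommRing R] {A : Type u} [CommRing A] [Algebra R A] [Module.Finite R A]

/-- for a finite ring map, `φ^!` computed via any presentation is `RHom_R(A, -)`. -/
theorem shriekVia_finite (n : ℕ) (ψ : MvPolynomial (Fin n) R →ₐ[R] A)
    [DRing.HasLBaseChange (algebraMap R (MvPolynomial (Fin n) R))]
    (Rψ : Dual.D (MvPolynomial (Fin n) R) ⥤ Dual.D A)
    (adj : DRing.restrictD ψ.toRingHom ⊣ Rψ) (R' : Dual.D R ⥤ Dual.D A)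
    (adjR : DRing.restrictD (algebraMap R A) ⊣ R') (K : Dual.D R) :
    Nonempty
      ((Rψ.obj ((DRing.LBaseChange (algebraMap R (MvPolynomial (Fin n) R))).obj K))⟦(n : ℤ)⟧ ≅
        R'.obj K) := by
  haveI : Algebra.IsIntegral R A := Algebra.IsIntegral.of_finite R A
  have h0 := isRHom_of_adj adjR K
  have h1 := isRHom_finite_chain R K (R'.obj K) h0 n ψ
  have h2 := isRHom_of_adj adj
    (((DRing.LBaseChange (algebraMap R (MvPolynomial (Fin n) R))).obj K)⟦(n : ℤ)⟧)
  obtain ⟨i1⟩ := nonempty_rightAdj_shift_iso ψ.toRingHom Rψ adj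
    ((DRing.LBaseChange (algebraMap R (MvPolynomial (Fin n) R))).obj K) (n : ℤ)
  obtain ⟨j⟩ := h2.unique h1
  exact ⟨i1.symm ≪≫ j⟩

end Final

end Groth.Agent.Lib.T2H4.Frob
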