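import Groth.Agent.Lib.T2H4LocalDual
import Groth.Agent.Lib.Helper1Devissage

set_option autoImplicit false
set_option linter.style.haveILetI false
set_option backward.isDefEq.respectTransparency.types false
universe u
open CategoryTheory CategoryTheory.Limits
attribute [local instance] HasDerivedCategory.standard

namespace Groth.Agent.Lib.T2H4.LocalDual

open DerivedCategory Pretriangulated Groth.Agent.Lib.T2H4.DualField Groth.Agent.Lib.T2H4.Bidual
  HomologicalComplex

section Basic

variable {A : Type u} [CommRing A]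

lemma finite_HD_inD [IsNoetherianRing A] (M : Type u) [AddCommGroup M] [Module A M]
    [Module.Finite A M] (i : ℤ) : Module.Finite A (Dual.HD A (Dual.inD A M) i) := by
  have h : FinH ((single (ModuleCat.{u} A) (ComplexShape.up ℤ) 0).obj (ModuleCat.of A M)) := by
    intro j
    by_cases hj : j = 0
    · subst hj
      exact Module.Finite.equiv (singleObjHomologySelfIso (ComplexShape.up ℤ) 0
        (ModuleCat.of A M)).symm.toLinearEquiv
    · have hz : IsZero (((single (ModuleCat.{u} A) (ComplexShape.up ℤ) 0).obj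
          (ModuleCat.of A M)).homology j) :=
        isZero_single_obj_homology (ComplexShape.up ℤ) 0 (ModuleCat.of A M) j hj
      haveI := ModuleCat.subsingleton_of_isZero hz
      infer_instance
  exact (finH_iff _).1 h i

lemma hasFiniteInjDim_of_isDualizing (ω : Dual.D A) (hω : Dual.IsDualizing A ω) :
    DRing.HasFiniteInjDim A ω := by
  obtain ⟨a, b, hab⟩ := hω.finite_injective_dimension
  exact ⟨a, b, Groth.Agent.S6965.rep_of_subsingleton ω a b (fun J i hi => hab (A ⧸ J) i hi)⟩

lemma finite_hom_inD (ω : Dual.D A) (hω : Dual.IsDualizing A ω) (M : Type u) [AddCommGroup M]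
    [Module A M] [Module.Finite A M] (i : ℤ) : Module.Finite A (Dual.inD A M ⟶ ω⟦i⟧) :=
  haveI := hω.isNoetherianRing
  Groth.Agent.S1746.result A (Dual.inD A M) ω (finite_HD_inD M) hω.finite_cohomology
    (hasFiniteInjDim_of_isDualizing ω hω) i

lemma subsingleton_hom_inD_of_subsingleton (M : Type u) [AddCommGroup M] [Module A M]
    [Subsingleton M] (K : Dual.D A) : Subsingleton (Dual.inD A M ⟶ K) := by
  have hz : IsZero (Dual.inD A M) :=
    Functor.map_isZero _ (ModuleCat.isZero_of_subsingleton (ModuleCat.of A M))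
  exact ⟨fun f g => hz.eq_of_src f g⟩

lemma subsingleton_hom_inD_of_equiv {M N : Type u} [AddCommGroup M] [Module A M] [AddCommGroup N]
    [Module A N] (e : M ≃ₗ[A] N) (K : Dual.D A) (h : Subsingleton (Dual.inD A N ⟶ K)) :
    Subsingleton (Dual.inD A M ⟶ K) := by
  let iso : Dual.inD A M ≅ Dual.inD A N :=
    (singleFunctor (ModuleCat.{u} A) 0).mapIso e.toModuleIso
  exact ⟨fun f g => by
    have : iso.inv ≫ f = iso.inv ≫ g := Subsingleton.elim _ _
    exact (cancel_epi _).1 this⟩

lemma subsingleton_of_smul_surjective [IsLocalRing A] (N : Type*) [AddCommGroup N] [Module A N]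
    [Module.Finite A N] (x : A) (hx : x ∈ IsLocalRing.maximalIdeal A)
    (h : ∀ n : N, ∃ n' : N, n = x • n') : Subsingleton N := by
  have hle : (⊤ : Submodule A N) ≤ (Ideal.span {x}) • (⊤ : Submodule A N) := by
    intro n _
    obtain ⟨n', rfl⟩ := h n
    exact Submodule.smul_mem_smul (Ideal.subset_span rfl) Submodule.mem_top
  have hjac : Ideal.span {x} ≤ Ideal.jacobson (⊥ : Ideal A) := by
    rw [IsLocalRing.jacobson_eq_maximalIdeal ⊥ bot_ne_top, Ideal.span_le]
    intro y hy
    rw [Set.mem_singleton_iff.1 hy]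
    exact hx
  have := Submodule.eq_bot_of_le_smul_of_le_jacobson_bot (Ideal.span {x}) (⊤ : Submodule A N)
    Module.Finite.fg_top hle hjac
  exact (Submodule.subsingleton_iff A).1 (subsingleton_of_bot_eq_top this.symm)

end Basic

section Devissage

variable {A : Type u} [CommRing A] [IsLocalRing A] [IsNoetherianRing A]
  (ω : Dual.D A) (hω : Dual.IsDualizing A ω)

include hω in
/-- the step: multiplication by a nonunit outside `p` on `A/p`. -/
lemma subsingleton_hom_quot_of_next (p : Ideal A) [p.IsPrime] (x : A)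
    (hx : x ∈ IsLocalRing.maximalIdeal A) (hxp : x ∉ p) (i : ℤ)
    (hnext : ∀ (M : Type u) [AddCommGroup M] [Module A M] [Module.Finite A M],
      Subsingleton (Dual.inD A M ⟶ ω⟦i + 1⟧)) :
    Subsingleton (Dual.inD A (A ⧸ p) ⟶ ω⟦i⟧) := by
  haveI := finite_hom_inD ω hω (A ⧸ p) i
  apply subsingleton_of_smul_surjective _ x hx
  intro φ
  let f : (A ⧸ p) →ₗ[A] (A ⧸ p) := x • LinearMap.id
  have hf : Function.Injective f := by
    rw [← LinearMap.ker_eq_bot, LinearMap.ker_eq_bot']
    intro y hy
    obtain ⟨y, rfl⟩ := Ideal.Quotient.mk_surjective y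
    have h1 : Ideal.Quotient.mk p (x * y) = 0 := hy
    rw [Ideal.Quotient.eq_zero_iff_mem] at h1 ⊢
    exact (Ideal.IsPrime.mem_or_mem inferInstance h1).resolve_left hxp
  let g := (LinearMap.range f).mkQ
  have hg : Function.Surjective g := Submodule.mkQ_surjective _
  have hfg : Function.Exact f g := LinearMap.exact_map_mkQ_range f
  obtain ⟨ψ, hψ⟩ := exists_extension f g hf hg hfg ω i (hnext _) φ
  refine ⟨ψ, ?_⟩
  have h2 : ModuleCat.ofHom f = x • 𝟙 (ModuleCat.of A (A ⧸ p)) := rfl
  rw [hψ, h2, singleFunctor_map_smul, CategoryTheory.Functor.map_id, Linear.smul_comp,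
    Category.id_comp]

include hω in
theorem subsingleton_hom_pos_aux (hn : Dual.IsNormalized A ω) (b : ℤ)
    (hb : ∀ (M : Type u) [AddCommGroup M] [Module A M] (i : ℤ), b < i →
      Subsingleton (Dual.inD A M ⟶ ω⟦i⟧)) :
    ∀ (n : ℕ) (i : ℤ), 0 < i → b < i + n →
      ∀ (M : Type u) [AddCommGroup M] [Module A M] [Module.Finite A M],
        Subsingleton (Dual.inD A M ⟶ ω⟦i⟧)
  | 0 => fun i _ hbi M _ _ _ => hb M i (by simpa using hbi)
  | n + 1 => by
    intro i hi hbi M _ _ hM
    have IH := subsingleton_hom_pos_aux hn b hb n (i + 1) (by lia) (by push_cast at hbi ⊢; lia)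
    induction hM using IsNoetherianRing.induction_on_isQuotientEquivQuotientPrime A with
    | subsingleton N => exact subsingleton_hom_inD_of_subsingleton N _
    | quotient N p e =>
      apply subsingleton_hom_inD_of_equiv e
      haveI := p.2
      by_cases hp : p.asIdeal = IsLocalRing.maximalIdeal A
      · exact subsingleton_hom_inD_of_equiv (Submodule.quotEquivOfEq _ _ hp) _ (hn i (ne_of_gt hi))
      · obtain ⟨x, hx, hxp⟩ : ∃ x, x ∈ IsLocalRing.maximalIdeal A ∧ x ∉ p.asIdeal := by
          by_contra hcon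
          push Not at hcon
          exact hp (le_antisymm (IsLocalRing.le_maximalIdeal p.2.ne_top) hcon)
        exact subsingleton_hom_quot_of_next ω hω p.asIdeal x hx hxp i (fun M _ _ _ => IH M)
    | exact N₁ N₂ N₃ f g hf hg hfg h₁ h₃ => exact subsingleton_hom_middle f g hf hg hfg _ h₁ h₃

include hω in
/-- `Ext^i(M, ω) = 0` for `i > 0`, `M` finite, `ω` normalized dualizing. -/
theorem subsingleton_hom_pos (hn : Dual.IsNormalized A ω) (M : Type u) [AddCommGroup M]
    [Module A M] [Module.Finite A M] (i : ℤ) (hi : 0 < i) :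
    Subsingleton (Dual.inD A M ⟶ ω⟦i⟧) := by
  obtain ⟨a, b, hab⟩ := hω.finite_injective_dimension
  have hb : ∀ (M : Type u) [AddCommGroup M] [Module A M] (i : ℤ), b < i →
      Subsingleton (Dual.inD A M ⟶ ω⟦i⟧) := fun M _ _ i hi => hab M i (Or.inr hi)
  exact subsingleton_hom_pos_aux ω hω hn b hb (b - i + 1).toNat i hi (by lia) M

end Devissage

section Complexes

variable {A : Type u} [CommRing A] [IsLocalRing A] [IsNoetherianRing A]
  (ω : Dual.D A) (hω : Dual.IsDualizing A ω)

/-- objects with no maps to `ω[i]` for `i > c`. -/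
def noHomAbove (c : ℤ) : ObjectProperty (Dual.D A) :=
  fun K => ∀ i : ℤ, c < i → Subsingleton (K ⟶ ω⟦i⟧)

instance (c : ℤ) : (noHomAbove ω c).IsClosedUnderIsomorphisms :=
  ⟨fun {K K'} e (h : ∀ i : ℤ, c < i → Subsingleton (K ⟶ ω⟦i⟧)) i hi => by
    haveI := h i hi
    exact ⟨fun f g => by
      have : e.hom ≫ f = e.hom ≫ g := Subsingleton.elim _ _
      exact (cancel_epi _).1 this⟩⟩

lemma noHomAbove_zero (c : ℤ) (K : Dual.D A) (hK : IsZero K) : noHomAbove ω c K :=
  fun _ _ => ⟨fun f g => hK.eq_of_src f g⟩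

lemma noHomAbove_ext (c : ℤ) (T : Triangle (Dual.D A)) (hT : T ∈ distTriang (Dual.D A))
    (h₁ : noHomAbove ω c T.obj₁) (h₃ : noHomAbove ω c T.obj₃) : noHomAbove ω c T.obj₂ := by
  intro i hi
  haveI := h₁ i hi
  haveI := h₃ i hi
  have key : ∀ f : T.obj₂ ⟶ ω⟦i⟧, f = 0 := by
    intro f
    obtain ⟨g, hg⟩ := Triangle.yoneda_exact₂ T hT f (Subsingleton.elim _ _)
    rw [hg, Subsingleton.elim g 0, comp_zero]
  exact ⟨fun f g => (key f).trans (key g).symm⟩

include hω in
lemma noHomAbove_single (hn : Dual.IsNormalized A ω) (M : ModuleCat.{u} A) [Module.Finite A M]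
    (j : ℤ) (hj : 0 ≤ j) : noHomAbove ω 0 ((singleFunctor (ModuleCat.{u} A) j).obj M) := by
  intro i hi
  let iso : ((singleFunctor (ModuleCat.{u} A) 0).obj M)⟦(-j)⟧ ≅
      (singleFunctor (ModuleCat.{u} A) j).obj M :=
    ((DerivedCategory.singleFunctors (ModuleCat.{u} A)).shiftIso (-j) j 0 (by lia)).app M
  have h1 : Subsingleton ((singleFunctor (ModuleCat.{u} A) 0).obj M ⟶ ω⟦i - (-j)⟧) :=
    subsingleton_hom_pos ω hω hn M (i - (-j)) (by lia)
  have h2 := subsingleton_hom_shift _ _ (-j) i h1
  exact ⟨fun f g => by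
    have : iso.hom ≫ f = iso.hom ≫ g := Subsingleton.elim _ _
    exact (cancel_epi _).1 this⟩

open Groth.Agent.Lib.Helper1.Devissage in
include hω in
/-- **S19132**. -/
theorem subsingleton_hom_of_cohomology_nonneg (hn : Dual.IsNormalized A ω) (N : Dual.D A)
    (hfin : ∀ i : ℤ, Module.Finite A (Dual.HD A N i))
    (b : ℤ) (hb : ∀ i : ℤ, b < i → Subsingleton (Dual.HD A N i))
    (hge : ∀ i : ℤ, i < 0 → Subsingleton (Dual.HD A N i))
    (i : ℤ) (hi : 0 < i) : Subsingleton (N ⟶ ω⟦i⟧) := by
  have hP : noHomAbove ω 0 N := by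
    apply induction_homology' (noHomAbove ω 0) (noHomAbove_zero ω 0)
      (noHomAbove_ext ω 0) N 0 b
    · intro j hj
      rcases hj with hj | hj
      · haveI := hge j hj
        exact ModuleCat.isZero_of_subsingleton _
      · haveI := hb j hj
        exact ModuleCat.isZero_of_subsingleton _
    · intro j hj0 _
      haveI := hfin j
      exact noHomAbove_single ω hω hn _ j hj0
  exact hP i hi

end Complexes

end Groth.Agent.Lib.T2H4.LocalDual
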