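import Groth.Agent.Lib.T2H4FlatHom3
import Groth.Agent.Lib.T2H4Frob3
import Groth.Agent.Lib.T2H4LocalDual2
import Groth.Agent.Lib.T2H4LocKL5

set_option autoImplicit false
set_option linter.style.haveILetI false
set_option backward.isDefEq.respectTransparency.types false
universe u
open CategoryTheory CategoryTheory.Limits TensorProduct
attribute [local instance] HasDerivedCategory.standard

namespace Groth.Agent.Lib.T2H4.FBC

open DerivedCategory Pretriangulated Groth.Agent.Lib.T2H4.DComp Groth.Agent.Lib.T2H4.LocKL DTen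
  Groth.Agent.Lib.T2H4.FlatHom
open Groth.Agent.Lib.T2H4.TorIndep Groth.Agent.Lib.Helper1.DT Groth.Agent.Lib.Helper1
  Groth.Agent.Lib.Helper1.LDer Groth.Agent.Lib.Helper1.Extend Groth.Agent.S14388
  Groth.Agent.Lib.T2H4.LocalDual Groth.Agent.Lib.Helper17.DBrown

section Single

variable {A : Type u} [CommRing A] (B : Type u) [CommRing B] [Algebra A B]
  [DRing.HasLBaseChange (algebraMap A B)]

/-- flat base change for `Hom` out of a shifted copy of the ring: no finiteness needed. -/
theorem bijective_ΘN_single [Module.Flat A B] (N : Dual.D A) (m : ℤ) :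
    Function.Bijective (ΘN B (ηB B N)
      ((singleFunctor (ModuleCat.{u} A) m).obj (ModuleCat.of A A))) := by
  obtain ⟨C, ⟨e⟩⟩ : ∃ C : DRing.Cx A, Nonempty (Q.obj C ≅ N) := ⟨_, ⟨Q.objObjPreimageIso N⟩⟩
  let u : C ⟶ (resCx (algebraMap A B)).obj ((extCx (algebraMap A B)).obj C) :=
    (extResAdj (algebraMap A B)).unit.app C
  have hu : ∀ k : ℤ, IsBaseChange B (uf B u k) := fun k => isBaseChange_unit B (C.X k)
  haveI := isIso_lbcCounit_of_flat B C
  let eY : (Q : _ ⥤ Dual.D B).obj ((extCx (algebraMap A B)).obj C) ≅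
      (DRing.LBaseChange (algebraMap A B)).obj N :=
    (asIso ((lbcCounit (algebraMap A B)).app C)).symm ≪≫
      (DRing.LBaseChange (algebraMap A B)).mapIso e
  have comm : ηc B u ≫ (DRing.restrictD (algebraMap A B)).map eY.hom = e.hom ≫ ηB B N := by
    have h1 := lbcAdj_unit_fac (algebraMap A B) C
    have h2 : ηc B u = ηB B (Q.obj C) ≫
        (DRing.restrictD (algebraMap A B)).map ((lbcCounit (algebraMap A B)).app C) := h1.symm
    rw [h2, Category.assoc, ← Functor.map_comp]
    have h3 : (lbcCounit (algebraMap A B)).app C ≫ eY.hom =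
        (DRing.LBaseChange (algebraMap A B)).map e.hom := by
      show _ ≫ (inv ((lbcCounit (algebraMap A B)).app C) ≫ _) = _
      rw [IsIso.hom_inv_id_assoc]
      rfl
    rw [h3]
    exact ((lbcAdj (algebraMap A B)).unit.naturality e.hom).symm
  have e1 : (Q : _ ⥤ Dual.D A).obj (SB A m) ≅
      (singleFunctor (ModuleCat.{u} A) m).obj (ModuleCat.of A A) :=
    ((singleFunctorIsoCompQ (ModuleCat.{u} A) m).app (ModuleCat.of A A)).symm
  exact ΘN_of_iso B e1 (ΘN_of_sq B (ηB B N) e eY comm _ (bijective_ΘN_ηc B u hu m))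

end Single

section Phi

variable {A : Type u} [CommRing A] (B : Type u) [CommRing B] [Algebra A B]
  [DRing.HasLBaseChange (algebraMap A B)]

instance lbc_additive : (DRing.LBaseChange (algebraMap A B)).Additive :=
  (lbcAdj (algebraMap A B)).left_adjoint_additive

/-- the base change map on `Hom`. -/
noncomputable def Φ (K N : Dual.D A) (z : B ⊗[A] (K ⟶ N)) :
    (DRing.LBaseChange (algebraMap A B)).obj K ⟶ (DRing.LBaseChange (algebraMap A B)).obj N :=
  ((lbcAdj (algebraMap A B)).homEquiv K _).symm (ΘN B (ηB B N) K z)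

lemma Φ_add (K N : Dual.D A) (z z' : B ⊗[A] (K ⟶ N)) : Φ B K N (z + z') = Φ B K N z + Φ B K N z' := by
  unfold Φ
  rw [map_add, Adjunction.homAddEquiv_symm_add]

lemma Φ_zero (K N : Dual.D A) : Φ B K N 0 = 0 := by
  unfold Φ
  rw [map_zero, Adjunction.homAddEquiv_symm_zero]

lemma Φ_tmul (K N : Dual.D A) (b : B) (f : K ⟶ N) :
    Φ B K N (b ⊗ₜ f) = b • (DRing.LBaseChange (algebraMap A B)).map f := by
  rw [Φ, Equiv.symm_apply_eq, ΘN_tmul, Adjunction.homEquiv_unit]
  have h1 : b • (DRing.LBaseChange (algebraMap A B)).map f =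
      (DRing.LBaseChange (algebraMap A B)).map f ≫
        (b • 𝟙 ((DRing.LBaseChange (algebraMap A B)).obj N)) := by
    rw [Linear.comp_smul, Category.comp_id]
  rw [h1, Functor.map_comp, ← Category.assoc, ← Category.assoc]
  congr 1
  exact (lbcAdj (algebraMap A B)).unit.naturality f

lemma Φ_bijective_iff (K N : Dual.D A) :
    Function.Bijective (Φ B K N) ↔ Function.Bijective (ΘN B (ηB B N) K) := by
  have h : Φ B K N = ((lbcAdj (algebraMap A B)).homEquiv K _).symm ∘ (ΘN B (ηB B N) K) := rfl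
  rw [h]
  exact Function.Bijective.of_comp_iff' (Equiv.bijective _) _

end Phi

section Abstract

variable {𝒯 : Type*} [Category 𝒯] [Preadditive 𝒯] [HasShift 𝒯 ℤ] [HasZeroObject 𝒯]
  [∀ n : ℤ, (shiftFunctor 𝒯 n).Additive] [Pretriangulated 𝒯]

/-- a morphism inducing bijections on `Hom(G i, -)` for a shift-stable generating family is an
isomorphism. -/
theorem isIso_of_bijective_family {U V : 𝒯} (c : U ⟶ V) (G : ℤ → 𝒯)
    (s : ∀ i : ℤ, (G (i + 1))⟦(1 : ℤ)⟧ ≅ G i)
    (hbij : ∀ i, Function.Bijective (fun g : G i ⟶ U => g ≫ c))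
    (hzero : ∀ W : 𝒯, (∀ i, ∀ k : G i ⟶ W, k = 0) → IsZero W) : IsIso c := by
  obtain ⟨W, π, δ, hT⟩ := distinguished_cocone_triangle c
  have hinj : ∀ i (g : G i ⟶ U⟦(1 : ℤ)⟧), g ≫ c⟦(1 : ℤ)⟧' = 0 → g = 0 := by
    intro i g hg
    obtain ⟨g₀, hg₀⟩ := (shiftFunctor 𝒯 (1 : ℤ)).map_surjective ((s i).hom ≫ g)
    have h1 : (g₀ ≫ c)⟦(1 : ℤ)⟧' = 0 := by
      rw [Functor.map_comp, hg₀, Category.assoc, hg, comp_zero]
    have h2 : g₀ ≫ c = 0 := by
      apply (shiftFunctor 𝒯 (1 : ℤ)).map_injective
      rw [h1, Functor.map_zero]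
    have h3 : g₀ = 0 := by
      apply (hbij (i + 1)).1
      show g₀ ≫ c = 0 ≫ c
      rw [h2, zero_comp]
    have h4 : (s i).hom ≫ g = 0 := by rw [← hg₀, h3, Functor.map_zero]
    exact (cancel_epi (s i).hom).1 (by rw [h4, comp_zero])
  have hW : IsZero W := by
    apply hzero
    intro i k
    have h1 : k ≫ δ = 0 := by
      apply hinj
      rw [Category.assoc]
      have := comp_distTriang_mor_zero₃₁ _ hT
      exact (congrArg (k ≫ ·) this).trans comp_zero
    obtain ⟨v, hv⟩ := Triangle.coyoneda_exact₃ _ hT k h1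
    obtain ⟨u, hu⟩ := (hbij i).2 v
    have hu' : u ≫ c = v := hu
    have h2 := comp_distTriang_mor_zero₁₂ _ hT
    rw [hv, ← hu']
    show (u ≫ c) ≫ π = 0
    rw [Category.assoc]
    exact (congrArg (u ≫ ·) h2).trans comp_zero
  exact (Triangle.isZero₃_iff_isIso₁ _ hT).1 hW

end Abstract

attribute [local instance] Groth.Agent.Lib.T2H4.LDerExist.hasLBaseChange

section Key

variable (P B P' B' : Type u) [CommRing P] [CommRing B] [CommRing P'] [CommRing B']
  [Algebra P B] [Algebra P P'] [Algebra B B'] [Algebra P' B'] [Algebra P B']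
  [IsScalarTower P B B'] [IsScalarTower P P' B'] [Algebra.IsPushout P B P' B']
  (hsq : (algebraMap B B').comp (algebraMap P B) = (algebraMap P' B').comp (algebraMap P P'))

/-- the `P`-module structure on morphisms in `D(B)`. -/
noncomputable abbrev homModP (H X : Dual.D B) : Module P (H ⟶ X) :=
  Module.compHom (H ⟶ X) (algebraMap P B)

/-- the restriction-then-compose map, `P`-linear. -/
noncomputable def rMap {N : Dual.D P} {X₁ : Dual.D B}
    (ε : (DRing.restrictD (algebraMap P B)).obj X₁ ⟶ N) (H : Dual.D B) :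
    letI := homModP P B H X₁
    (H ⟶ X₁) →ₗ[P] ((DRing.restrictD (algebraMap P B)).obj H ⟶ N) :=
  letI := homModP P B H X₁
  { toFun := fun f => (DRing.restrictD (algebraMap P B)).map f ≫ ε
    map_add' := fun f f' => by rw [Functor.map_add, Preadditive.add_comp]
    map_smul' := fun p f => by
      show (DRing.restrictD (algebraMap P B)).map (algebraMap P B p • f) ≫ ε =
        p • ((DRing.restrictD (algebraMap P B)).map f ≫ ε)
      rw [restrictD_map_smul B, Linear.smul_comp] }

include hsq in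
theorem bijective_comp_of_Θ {N : Dual.D P} {X₁ : Dual.D B}
    (ε : (DRing.restrictD (algebraMap P B)).obj X₁ ⟶ N)
    (hε : ∀ L : Dual.D B, Function.Bijective
      (fun g : L ⟶ X₁ => (DRing.restrictD (algebraMap P B)).map g ≫ ε))
    {Z : Dual.D B'}
    (ε' : (DRing.restrictD (algebraMap P' B')).obj Z ⟶ (DRing.LBaseChange (algebraMap P P')).obj N)
    (hε' : ∀ L : Dual.D B', Function.Bijective
      (fun g : L ⟶ Z => (DRing.restrictD (algebraMap P' B')).map g ≫ ε'))
    (c : (DRing.LBaseChange (algebraMap B B')).obj X₁ ⟶ Z)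
    (hcmp : ∀ X : Dual.D B, IsIso
      (TrivBC.cmp (lbcAdj (algebraMap P P')) (lbcAdj (algebraMap B B')) hsq X))
    (hc : TrivBC.cmp (lbcAdj (algebraMap P P')) (lbcAdj (algebraMap B B')) hsq X₁ ≫
        (DRing.restrictD (algebraMap P' B')).map c ≫ ε' =
      (DRing.LBaseChange (algebraMap P P')).map ε)
    (H : Dual.D B)
    (h1 : Function.Bijective (ΘN B' (ηB B' X₁) H))
    (h2 : Function.Bijective (ΘN P' (ηB P' N) ((DRing.restrictD (algebraMap P B)).obj H))) :
    Function.Bijective (fun g : (DRing.LBaseChange (algebraMap B B')).obj H ⟶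
      (DRing.LBaseChange (algebraMap B B')).obj X₁ => g ≫ c) := by
  letI := homModP P B H X₁
  haveI : IsScalarTower P B (H ⟶ X₁) := ⟨fun p b f => by
    show (p • b) • f = algebraMap P B p • (b • f)
    rw [Algebra.smul_def, mul_smul]⟩
  haveI : Algebra.IsPushout P P' B B' := Algebra.IsPushout.symm inferInstance
  let κ := (Algebra.IsPushout.cancelBaseChange P P' B B' (H ⟶ X₁)).symm
  let rE : (H ⟶ X₁) ≃ₗ[P] ((DRing.restrictD (algebraMap P B)).obj H ⟶ N) :=
    LinearEquiv.ofBijective (rMap P B ε H) (hε H)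
  haveI := hcmp H
  let Ξ : ((DRing.LBaseChange (algebraMap B B')).obj H ⟶
        (DRing.LBaseChange (algebraMap B B')).obj X₁) →
      ((DRing.LBaseChange (algebraMap P P')).obj ((DRing.restrictD (algebraMap P B)).obj H) ⟶
        (DRing.LBaseChange (algebraMap P P')).obj N) := fun g =>
    TrivBC.cmp (lbcAdj (algebraMap P P')) (lbcAdj (algebraMap B B')) hsq H ≫
      (DRing.restrictD (algebraMap P' B')).map (g ≫ c) ≫ ε'
  have hΞadd : ∀ g g', Ξ (g + g') = Ξ g + Ξ g' := by
    intro g g'
    show _ ≫ (DRing.restrictD (algebraMap P' B')).map ((g + g') ≫ c) ≫ ε' = _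
    rw [Preadditive.add_comp, Functor.map_add, Preadditive.add_comp, Preadditive.comp_add]
  have hΞzero : Ξ 0 = 0 := by
    show _ ≫ (DRing.restrictD (algebraMap P' B')).map (0 ≫ c) ≫ ε' = 0
    rw [zero_comp, Functor.map_zero, zero_comp, comp_zero]
  have key : ∀ z : P' ⊗[P] (H ⟶ X₁), Ξ (Φ B' H X₁ (κ z)) =
      Φ P' ((DRing.restrictD (algebraMap P B)).obj H) N (LinearEquiv.lTensor P' rE z) := by
    intro z
    induction z using TensorProduct.induction_on with
    | zero => rw [map_zero, map_zero, Φ_zero, Φ_zero, hΞzero]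
    | tmul p' f =>
      have hκ : κ (p' ⊗ₜ f) = algebraMap P' B' p' ⊗ₜ f :=
        Algebra.IsPushout.cancelBaseChange_symm_tmul P P' B B' (H ⟶ X₁) p' f
      have hr : LinearEquiv.lTensor P' rE (p' ⊗ₜ f) =
          p' ⊗ₜ ((DRing.restrictD (algebraMap P B)).map f ≫ ε) := rfl
      rw [hκ, hr, Φ_tmul, Φ_tmul]
      show TrivBC.cmp (lbcAdj (algebraMap P P')) (lbcAdj (algebraMap B B')) hsq H ≫
        (DRing.restrictD (algebraMap P' B')).map
          ((algebraMap P' B' p' • (DRing.LBaseChange (algebraMap B B')).map f) ≫ c) ≫ ε' = _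
      have nat := cmp_naturality (lbcAdj (algebraMap P P')) (lbcAdj (algebraMap B B')) hsq f
      rw [Linear.smul_comp, restrictD_map_smul B', Linear.smul_comp, Linear.comp_smul,
        Functor.map_comp, Category.assoc, ← Category.assoc, ← nat, Category.assoc, hc,
        ← Functor.map_comp]
    | add x y hx hy => rw [map_add, map_add, Φ_add, Φ_add, hΞadd, hx, hy]
  have hb1 : Function.Bijective (Φ B' H X₁ ∘ κ) :=
    ((Φ_bijective_iff B' H X₁).2 h1).comp κ.bijective
  have hb2 : Function.Bijective (Φ P' ((DRing.restrictD (algebraMap P B)).obj H) N ∘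
      (LinearEquiv.lTensor P' rE)) :=
    ((Φ_bijective_iff P' _ N).2 h2).comp (LinearEquiv.lTensor P' rE).bijective
  have hb3 : Function.Bijective (Ξ ∘ (Φ B' H X₁ ∘ κ)) := by
    have : Ξ ∘ (Φ B' H X₁ ∘ κ) = Φ P' ((DRing.restrictD (algebraMap P B)).obj H) N ∘
        (LinearEquiv.lTensor P' rE) := funext key
    rw [this]
    exact hb2
  have hΞ : Function.Bijective Ξ := (Function.Bijective.of_comp_iff Ξ hb1).1 hb3
  have hdecomp : Ξ = (fun k => TrivBC.cmp (lbcAdj (algebraMap P P')) (lbcAdj (algebraMap B B'))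
      hsq H ≫ k) ∘ (fun k : (DRing.LBaseChange (algebraMap B B')).obj H ⟶ Z =>
        (DRing.restrictD (algebraMap P' B')).map k ≫ ε') ∘
      (fun g : (DRing.LBaseChange (algebraMap B B')).obj H ⟶
        (DRing.LBaseChange (algebraMap B B')).obj X₁ => g ≫ c) := rfl
  rw [hdecomp] at hΞ
  have hu : Function.Bijective (fun k : (DRing.restrictD (algebraMap P' B')).obj
      ((DRing.LBaseChange (algebraMap B B')).obj H) ⟶ (DRing.LBaseChange (algebraMap P P')).obj N =>
      TrivBC.cmp (lbcAdj (algebraMap P P')) (lbcAdj (algebraMap B B')) hsq H ≫ k) :=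
    ⟨fun k k' hk => (cancel_epi _).1 hk,
      fun k => ⟨inv (TrivBC.cmp (lbcAdj (algebraMap P P')) (lbcAdj (algebraMap B B')) hsq H) ≫ k,
        by simp⟩⟩
  have h3 := (Function.Bijective.of_comp_iff' hu _).1 hΞ
  exact (Function.Bijective.of_comp_iff' (hε' _) _).1 h3

end Key

section TorFlat

open Groth.Agent.Lib.Helper1.Tor Groth.Agent.Lib.Helper1.TorDim

variable {R : Type u} [CommRing R]

lemma subsingleton_tor_of_flat_right (M N : Type u) [AddCommGroup M] [Module R M]
    [AddCommGroup N] [Module R N] [Module.Flat R N] (q : ℕ) :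
    Subsingleton (DRing.Tor R (q + 1) M N) := by
  let P := ProjectiveResolution.of (ModuleCat.of R M)
  refine (exactAt_TC_iff_subsingleton_tor M N P q).1 ?_
  rw [exactAt_map_cochainComplex_iff P _ q (-((q + 2 : ℕ) : ℤ)) _ (-(q : ℤ)) rfl rfl rfl]
  have hP := P.complex_exactAt_succ q
  exact Module.Flat.lTensor_shortComplex_exact (ModuleCat.of R N) _ hP

end TorFlat

section ResSingle

variable (P B P' : Type u) [CommRing P] [CommRing B] [CommRing P'] [Algebra P B] [Algebra P P']
  [IsNoetherianRing P] [Module.Finite P B] [Module.Flat P P']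

open Groth.Agent.Lib.Helper1.Restrict

/-- restriction of `B[-i]` to `P` is a shift of `B` as a `P`-module. -/
noncomputable def resSingleIso (i : ℤ) :
    (DRing.restrictD (algebraMap P B)).obj
      ((singleFunctor (ModuleCat.{u} B) i).obj (ModuleCat.of B B)) ≅ (Dual.inD P B)⟦-i⟧ :=
  restrictDSingleIso (algebraMap P B) (ModuleCat.of B B) i ≪≫
    (singleFunctor (ModuleCat.{u} P) i).mapIso (restrictScalarsAlgebraIso (A := P) (B := B) B) ≪≫
      (((singleFunctors (ModuleCat.{u} P)).shiftIso (-i) i 0 (by simp)).app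
        (ModuleCat.of P B)).symm

theorem bijective_Θ_res_single (N : Dual.D P) (a : ℤ) [N.IsGE a] (i : ℤ) :
    Function.Bijective (ΘN P' (ηB P' N) ((DRing.restrictD (algebraMap P B)).obj
      ((singleFunctor (ModuleCat.{u} B) i).obj (ModuleCat.of B B)))) := by
  have h := bijective_ΘN_unit P' (Dual.inD P B) N a 0 0
    (fun j hj => isZero_HD_inD B j hj) (fun j => finite_HD_inD B j) (-i)
  exact ΘN_of_iso P' (resSingleIso P B i).symm h

end ResSingle

open Groth.Agent.Lib.T2H4.Koszul Groth.Agent.Lib.T2H4.Frob Groth.Agent.Lib.Helper1.Restrict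

section Main

variable (P B P' B' : Type u) [CommRing P] [CommRing B] [CommRing P'] [CommRing B']
  [Algebra P B] [Algebra P P'] [Algebra B B'] [Algebra P' B'] [Algebra P B']
  [IsScalarTower P B B'] [IsScalarTower P P' B'] [Algebra.IsPushout P B P' B']
  [IsNoetherianRing P] [Module.Finite P B] [Module.Flat P P']

/-- **Flat base change for `RHom(B, -)`** in representability form. -/
theorem isRHom_flat_baseChange (N : Dual.D P) (a : ℤ) [N.IsGE a] (X₁ : Dual.D B)
    (h : IsRHom (DRing.restrictD (algebraMap P B)) N X₁) :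
    IsRHom (DRing.restrictD (algebraMap P' B')) ((DRing.LBaseChange (algebraMap P P')).obj N)
      ((DRing.LBaseChange (algebraMap B B')).obj X₁) := by
  have hsq : (algebraMap B B').comp (algebraMap P B) =
      (algebraMap P' B').comp (algebraMap P P') :=
    (IsScalarTower.algebraMap_eq P B B').symm.trans (IsScalarTower.algebraMap_eq P P' B')
  haveI : Module.Flat B B' := Module.Flat.isBaseChange P B P' B' Algebra.IsPushout.out
  have htor : ∀ p : ℕ, 1 ≤ p → Subsingleton (DRing.Tor P p B P') := fun p hp => by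
    obtain ⟨q, rfl⟩ : ∃ q, p = q + 1 := ⟨p - 1, by omega⟩
    exact subsingleton_tor_of_flat_right B P' q
  have hcmp : ∀ X : Dual.D B, IsIso
      (TrivBC.cmp (lbcAdj (algebraMap P P')) (lbcAdj (algebraMap B B')) hsq X) :=
    fun X => isIso_cmp P B P' B' htor _ _ hsq X
  obtain ⟨ε, hε⟩ := h
  have hZ := isRHom_of_adj (adjRG (algebraMap P' B'))
    ((DRing.LBaseChange (algebraMap P P')).obj N)
  obtain ⟨ε', hε'⟩ := hZ
  haveI := hcmp X₁
  obtain ⟨c, hc⟩ := (hε' ((DRing.LBaseChange (algebraMap B B')).obj X₁)).2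
    (inv (TrivBC.cmp (lbcAdj (algebraMap P P')) (lbcAdj (algebraMap B B')) hsq X₁) ≫
      (DRing.LBaseChange (algebraMap P P')).map ε)
  have hc' : TrivBC.cmp (lbcAdj (algebraMap P P')) (lbcAdj (algebraMap B B')) hsq X₁ ≫
      (DRing.restrictD (algebraMap P' B')).map c ≫ ε' =
      (DRing.LBaseChange (algebraMap P P')).map ε := by
    have h0 : (DRing.restrictD (algebraMap P' B')).map c ≫ ε' =
        inv (TrivBC.cmp (lbcAdj (algebraMap P P')) (lbcAdj (algebraMap B B')) hsq X₁) ≫
          (DRing.LBaseChange (algebraMap P P')).map ε := hc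
    rw [h0, IsIso.hom_inv_id_assoc]
  have hbij : ∀ i : ℤ, Function.Bijective
      (fun g : (DRing.LBaseChange (algebraMap B B')).obj
        ((singleFunctor (ModuleCat.{u} B) i).obj (ModuleCat.of B B)) ⟶
          (DRing.LBaseChange (algebraMap B B')).obj X₁ => g ≫ c) := fun i =>
    bijective_comp_of_Θ P B P' B' hsq ε hε ε' hε' c hcmp hc' _
      (bijective_ΘN_single B' X₁ i) (bijective_Θ_res_single P B P' N a i)
  haveI : IsIso c := by
    refine isIso_of_bijective_family c (fun i => (DRing.LBaseChange (algebraMap B B')).obj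
      ((singleFunctor (ModuleCat.{u} B) i).obj (ModuleCat.of B B))) (fun i => ?_) hbij ?_
    · have e1 := Classical.choice (nonempty_lbc_shift_iso (algebraMap B B')
        ((singleFunctor (ModuleCat.{u} B) (i + 1)).obj (ModuleCat.of B B)) 1)
      exact e1.symm ≪≫ (DRing.LBaseChange (algebraMap B B')).mapIso
        (((singleFunctors (ModuleCat.{u} B)).shiftIso 1 i (i + 1) (by ring)).app
          (ModuleCat.of B B))
    · intro W hW
      have h1 : ∀ i : ℤ, IsZero ((homologyFunctor (ModuleCat.{u} B) i).obj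
          ((DRing.restrictD (algebraMap B B')).obj W)) := by
        intro i
        apply Groth.Agent.Lib.T2H4.HomRing.isZero_homology_of_subsingleton_hom
          (isSeparator_of_self B) _ i
        refine ⟨fun f g => ?_⟩
        have hf := hW i (((lbcAdj (algebraMap B B')).homEquiv _ _).symm f)
        have hg := hW i (((lbcAdj (algebraMap B B')).homEquiv _ _).symm g)
        exact ((lbcAdj (algebraMap B B')).homEquiv _ _).symm.injective (hf.trans hg.symm)
      have h2 : ((DRing.restrictD (algebraMap B B')).obj W).IsLE 0 := by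
        rw [DerivedCategory.isLE_iff]
        exact fun i _ => h1 i
      have h3 : ((DRing.restrictD (algebraMap B B')).obj W).IsGE 1 := by
        rw [DerivedCategory.isGE_iff]
        exact fun i _ => h1 i
      have h4 : W.IsLE 0 := (isLE_restrictD_iff (algebraMap B B') W 0).1 h2
      have h5 : W.IsGE 1 := (isGE_restrictD_iff (algebraMap B B') W 1).1 h3
      exact DerivedCategory.TStructure.t.isZero W 0 1 (by simp)
  exact isRHom_of_iso_rep ⟨ε', hε'⟩ (asIso c).symm

end Main

end Groth.Agent.Lib.T2H4.FBC
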