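import Mathlib
import Groth.Agent.Lib.T2H4RGFinite
import Groth.Agent.Lib.T2H4HDIFlat
import Groth.Agent.Lib.Helper1Extend
import Groth.Agent.Lib.Helper1Restrict
import Groth.Agent.Lib.Helper1LBC
import Groth.Prelude.Def_DualSh
set_option backward.isDefEq.respectTransparency.types false

set_option autoImplicit false
set_option linter.style.haveILetI false
universe u
open CategoryTheory CategoryTheory.Limits DerivedCategory
attribute [local instance] HasDerivedCategory.standard

namespace Groth.Agent.Lib.T2H4.Shriek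

open Groth.Agent.Lib.Helper1.Extend Groth.Agent.Lib.Helper1.Restrict Groth.Agent.S14388
  Groth.Agent.Lib.Helper1.LDer Groth.Agent.Lib.T2H4.GNoeth Groth.Agent.Lib.T2H4.DComp

section rightAdj

variable {A B : Type u} [CommRing A] [CommRing B] (φ : A →+* B)

/-- a right adjoint of restriction of scalars is left t-exact -/
lemma isGE_rightAdjoint (R : Dual.D A ⥤ Dual.D B) (adj : DRing.restrictD φ ⊣ R) (K : Dual.D A)
    (a : ℤ) (hK : K.IsGE a) : (R.obj K).IsGE a := by
  refine (tt.isGE_iff_orthogonal (a - 1) a (by lia) (R.obj K)).2 ?_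
  intro Y f hY
  have h1 : ((DRing.restrictD φ).obj Y).IsLE (a - 1) := (isLE_restrictD_iff φ Y (a - 1)).2 hY
  have hz : ∀ g : (DRing.restrictD φ).obj Y ⟶ K, g = 0 := fun g =>
    tt.zero_of_isLE_of_isGE g (a - 1) a (by lia) h1 hK
  have h2 : (adj.homEquiv Y K).symm f = (adj.homEquiv Y K).symm (0 : Y ⟶ R.obj K) :=
    (hz ((adj.homEquiv Y K).symm f)).trans (hz ((adj.homEquiv Y K).symm 0)).symm
  exact (adj.homEquiv Y K).symm.injective h2

end rightAdj

section flatBC

variable (A B : Type u) [CommRing A] [CommRing B] [Algebra A B] [Module.Flat A B]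
  [DRing.HasLBaseChange (algebraMap A B)]

/-- cohomology commutes with derived base change along a flat map -/
theorem nonempty_homology_lbc_iso (K : Dual.D A) (i : ℤ) :
    Nonempty ((homologyFunctor (ModuleCat.{u} B) i).obj
        ((DRing.LBaseChange (algebraMap A B)).obj K) ≅
      (ext A B).obj ((homologyFunctor (ModuleCat.{u} A) i).obj K)) := by
  let C := (Q : _ ⥤ Dual.D A).objPreimage K
  let e : Q.obj C ≅ K := Q.objObjPreimageIso K
  obtain ⟨e1⟩ := nonempty_lbcFlatIso A B C
  exact ⟨(homologyFunctor (ModuleCat.{u} B) i).mapIso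
      ((DRing.LBaseChange (algebraMap A B)).mapIso e.symm ≪≫ e1) ≪≫
    (homologyFunctorFactors (ModuleCat.{u} B) i).app _ ≪≫ homologyMapCxIso (ext A B) C i ≪≫
    (ext A B).mapIso (((homologyFunctorFactors (ModuleCat.{u} A) i).app C).symm ≪≫
      (homologyFunctor (ModuleCat.{u} A) i).mapIso e)⟩

lemma isGE_lbc_of_flat (K : Dual.D A) (a : ℤ) (hK : K.IsGE a) :
    ((DRing.LBaseChange (algebraMap A B)).obj K).IsGE a := by
  rw [DerivedCategory.isGE_iff] at hK ⊢
  intro i hi
  obtain ⟨e⟩ := nonempty_homology_lbc_iso A B K i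
  exact ((ext A B).map_isZero (hK i hi)).of_iso e

lemma finite_homology_lbc_of_flat (K : Dual.D A) (i : ℤ)
    (h : Module.Finite A ((homologyFunctor (ModuleCat.{u} A) i).obj K)) :
    Module.Finite B ((homologyFunctor (ModuleCat.{u} B) i).obj
      ((DRing.LBaseChange (algebraMap A B)).obj K)) := by
  obtain ⟨e⟩ := nonempty_homology_lbc_iso A B K i
  haveI := finite_bc (algebraMap A B) ((homologyFunctor (ModuleCat.{u} A) i).obj K)
  exact Module.Finite.equiv e.symm.toLinearEquiv

end flatBC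


section shriek

variable (R A : Type u) [CommRing R] [CommRing A] [IsNoetherianRing R] [IsNoetherianRing A]
  [Algebra R A] (n : ℕ) (ψ : MvPolynomial (Fin n) R →ₐ[R] A)
  [DRing.HasLBaseChange (algebraMap R (MvPolynomial (Fin n) R))]
  (Rψ : Dual.D (MvPolynomial (Fin n) R) ⥤ Dual.D A) (adj : DRing.restrictD ψ.toRingHom ⊣ Rψ)

include adj in
theorem shriekVia_bdd_finite (hψ : Function.Surjective ψ) (K : Dual.D R) (a : ℤ)
    (hKa : ∀ i : ℤ, i < a → Subsingleton (Dual.HD R K i)) :
    (∃ b : ℤ, ∀ i : ℤ, i < b → Subsingleton (Dual.HD A (Dual2.shriekVia n Rψ K) i)) ∧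
      ((∀ i : ℤ, Module.Finite R (Dual.HD R K i)) →
        ∀ i : ℤ, Module.Finite A (Dual.HD A (Dual2.shriekVia n Rψ K) i)) := by
  have hGE : K.IsGE a := by
    rw [DerivedCategory.isGE_iff]
    intro j hj
    have := hKa j hj
    exact ModuleCat.isZero_of_subsingleton _
  set L := (DRing.LBaseChange (algebraMap R (MvPolynomial (Fin n) R))).obj K with hLdef
  have hL : L.IsGE a := isGE_lbc_of_flat R (MvPolynomial (Fin n) R) K a hGE
  have hY : (Rψ.obj L).IsGE a := isGE_rightAdjoint ψ.toRingHom Rψ adj L a hL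
  have eS : ∀ i : ℤ, (homologyFunctor (ModuleCat.{u} A) i).obj ((Rψ.obj L)⟦(n : ℤ)⟧) ≅
      (homologyFunctor (ModuleCat.{u} A) ((n : ℤ) + i)).obj (Rψ.obj L) := fun i =>
    ((homologyFunctor (ModuleCat.{u} A) 0).shiftIso (n : ℤ) i ((n : ℤ) + i) rfl).app (Rψ.obj L)
  refine ⟨⟨a - n, fun i hi => ?_⟩, fun hfin i => ?_⟩
  · have hz : IsZero ((homologyFunctor (ModuleCat.{u} A) ((n : ℤ) + i)).obj (Rψ.obj L)) :=
      (DerivedCategory.isGE_iff _ _).1 hY _ (by lia)
    exact ModuleCat.subsingleton_of_isZero (hz.of_iso (eS i))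
  · letI : Algebra (MvPolynomial (Fin n) R) A := ψ.toRingHom.toAlgebra
    haveI : Module.Finite (MvPolynomial (Fin n) R) A :=
      Module.Finite.of_surjective (Algebra.linearMap (MvPolynomial (Fin n) R) A) hψ
    have hLa : ∀ j : ℤ, j < a → Subsingleton (Dual.HD (MvPolynomial (Fin n) R) L j) := fun j hj =>
      ModuleCat.subsingleton_of_isZero ((DerivedCategory.isGE_iff _ _).1 hL j hj)
    have hLf : ∀ j : ℤ, Module.Finite (MvPolynomial (Fin n) R)
        (Dual.HD (MvPolynomial (Fin n) R) L j) := fun j =>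
      finite_homology_lbc_of_flat R (MvPolynomial (Fin n) R) K j (hfin j)
    have := finite_homology_rightAdjoint Rψ adj L a hLa hLf ((n : ℤ) + i)
    exact Module.Finite.equiv (eS i).symm.toLinearEquiv

end shriek

end Groth.Agent.Lib.T2H4.Shriek
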