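import Groth.Agent.Lib.T2H4FBC1
import Groth.Agent.Lib.T2H4Shriek

/-!
# Flat base change for upper shriek: polynomial presentations (helper4)
-/

set_option autoImplicit false
set_option linter.style.haveILetI false
set_option backward.isDefEq.respectTransparency.types false
universe u
open CategoryTheory CategoryTheory.Limits TensorProduct
attribute [local instance] HasDerivedCategory.standard

namespace Groth.Agent.Lib.T2H4.FBC

open DerivedCategory Pretriangulated
open Groth.Agent.Lib.T2H4.Koszul Groth.Agent.Lib.T2H4.Frob Groth.Agent.Lib.T2H4.TorIndep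

attribute [local instance] Groth.Agent.Lib.T2H4.LDerExist.hasLBaseChange

section Indep

variable (R : Type u) [CommRing R] {A : Type u} [CommRing A] [Algebra R A]

/-- independence of the presentation, in representability form. -/
theorem isRHom_indep (n : ℕ) (ψ : MvPolynomial (Fin n) R →ₐ[R] A) (hψ : Function.Surjective ψ)
    (m : ℕ) (ψ' : MvPolynomial (Fin m) R →ₐ[R] A) (hψ' : Function.Surjective ψ') (K : Dual.D R)
    (X X' : Dual.D A)
    (h : IsRHom (DRing.restrictD ψ.toRingHom)
      (((DRing.LBaseChange (algebraMap R (MvPolynomial (Fin n) R))).obj K)⟦(n : ℤ)⟧) X)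
    (h' : IsRHom (DRing.restrictD ψ'.toRingHom)
      (((DRing.LBaseChange (algebraMap R (MvPolynomial (Fin m) R))).obj K)⟦(m : ℤ)⟧) X') :
    Nonempty (X ≅ X') := by
  let ξ : MvPolynomial (Fin (n + m)) R →ₐ[R] A :=
    MvPolynomial.aeval (Fin.addCases (fun i => ψ (MvPolynomial.X i))
      (fun j => ψ' (MvPolynomial.X j)))
  have hξ1 : ξ.comp (MvPolynomial.rename (Fin.castAdd m)) = ψ := by
    ext i
    simp [ξ]
  have hξ2 : ξ.comp (MvPolynomial.rename (Fin.natAdd n)) = ψ' := by
    ext j
    simp [ξ]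
  have c1 := isRHom_chain R n ψ hψ K _ h m (n + m) ξ (Fin.castAdd m)
    (Fin.strictMono_castAdd m) rfl hξ1
  have c2 := isRHom_chain R m ψ' hψ' K _ h' n (n + m) ξ (Fin.natAdd n)
    (Fin.strictMono_natAdd n) (add_comm n m) hξ2
  exact c1.unique c2

end Indep

section Abs

variable (R R' P P' A A' : Type u) [CommRing R] [CommRing R'] [CommRing P] [CommRing P']
  [CommRing A] [CommRing A']
  [Algebra R R'] [Algebra R P] [Algebra R P'] [Algebra P P'] [Algebra R' P']
  [IsScalarTower R P P'] [IsScalarTower R R' P'] [Algebra.IsPushout R P R' P']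
  [Algebra R A] [Algebra R A'] [Algebra A A'] [Algebra R' A']
  [IsScalarTower R A A'] [IsScalarTower R R' A'] [Algebra.IsPushout R A R' A']
  [Algebra P A] [Algebra P' A'] [Algebra P A']
  [IsScalarTower R P A] [IsScalarTower P A A'] [IsScalarTower P P' A'] [IsScalarTower R P' A']
  [IsScalarTower R' P' A']
  [IsNoetherianRing P] [Module.Finite P A] [Module.Flat R R'] [Module.Flat R P]

theorem isRHom_shriek_flat_bc_abs (K : Dual.D R) (c : ℤ) [K.IsGE c] (d : ℤ) (X₁ : Dual.D A)
    (h : IsRHom (DRing.restrictD (algebraMap P A))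
      (((DRing.LBaseChange (algebraMap R P)).obj K)⟦d⟧) X₁) :
    IsRHom (DRing.restrictD (algebraMap P' A'))
      (((DRing.LBaseChange (algebraMap R' P')).obj
        ((DRing.LBaseChange (algebraMap R R')).obj K))⟦d⟧)
      ((DRing.LBaseChange (algebraMap A A')).obj X₁) := by
  haveI : Algebra.IsPushout P A P' A' := (Algebra.IsPushout.comp_iff R P R' P').1 inferInstance
  haveI : Module.Flat P P' := Module.Flat.isBaseChange R P R' P' Algebra.IsPushout.out
  haveI hK1 : ((DRing.LBaseChange (algebraMap R P)).obj K).IsGE c :=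
    Groth.Agent.Lib.T2H4.Shriek.isGE_lbc_of_flat R P K c inferInstance
  haveI : (((DRing.LBaseChange (algebraMap R P)).obj K)⟦d⟧).IsGE (c - d) :=
    (DerivedCategory.TStructure.t).isGE_shift _ c d (c - d) (by omega)
  have h1 := isRHom_flat_baseChange P A P' A' _ (c - d) X₁ h
  obtain ⟨e1⟩ := nonempty_lbc_shift_iso (algebraMap P P')
    ((DRing.LBaseChange (algebraMap R P)).obj K) d
  obtain ⟨e2⟩ := Groth.Agent.Lib.T2H4.TwoIdeal.nonempty_lbc_trans (algebraMap R P)
    (algebraMap P P') (algebraMap R P') (IsScalarTower.algebraMap_eq R P P').symm K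
  obtain ⟨e3⟩ := Groth.Agent.Lib.T2H4.TwoIdeal.nonempty_lbc_trans (algebraMap R R')
    (algebraMap R' P') (algebraMap R P') (IsScalarTower.algebraMap_eq R R' P').symm K
  exact h1.of_iso_target (e1 ≪≫ (shiftFunctor (Dual.D P') d).mapIso (e2 ≪≫ e3.symm))

end Abs

section Poly

variable (R R' A A' : Type u) [CommRing R] [CommRing R'] [CommRing A] [CommRing A']
  [Algebra R R'] [Algebra R A] [Algebra R A'] [Algebra A A'] [Algebra R' A']
  [IsScalarTower R A A'] [IsScalarTower R R' A']

/-- the base change of a presentation. -/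
noncomputable def bcPres (n : ℕ) (ψ : MvPolynomial (Fin n) R →ₐ[R] A) :
    MvPolynomial (Fin n) R' →ₐ[R'] A' :=
  MvPolynomial.aeval (fun i => algebraMap A A' (ψ (MvPolynomial.X i)))

lemma bcPres_comp_map (n : ℕ) (ψ : MvPolynomial (Fin n) R →ₐ[R] A) :
    (bcPres R R' A A' n ψ).toRingHom.comp (MvPolynomial.map (algebraMap R R')) =
      (algebraMap A A').comp ψ.toRingHom := by
  apply MvPolynomial.ringHom_ext
  · intro r
    simp only [bcPres, RingHom.comp_apply, MvPolynomial.map_C, AlgHom.toRingHom_eq_coe,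
      RingHom.coe_coe, MvPolynomial.aeval_C]
    rw [← MvPolynomial.algebraMap_eq, AlgHom.commutes, ← IsScalarTower.algebraMap_apply,
      ← IsScalarTower.algebraMap_apply]
  · intro i
    simp [bcPres]

lemma bcPres_map (n : ℕ) (ψ : MvPolynomial (Fin n) R →ₐ[R] A) (p : MvPolynomial (Fin n) R) :
    bcPres R R' A A' n ψ (MvPolynomial.map (algebraMap R R') p) = algebraMap A A' (ψ p) :=
  RingHom.congr_fun (bcPres_comp_map R R' A A' n ψ) p

variable [Algebra.IsPushout R A R' A']

lemma bcPres_surjective (n : ℕ) (ψ : MvPolynomial (Fin n) R →ₐ[R] A)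
    (hψ : Function.Surjective ψ) : Function.Surjective (bcPres R R' A A' n ψ) := by
  intro x
  have H : Algebra.IsPushout R A R' A' := inferInstance
  refine H.out.inductionOn x (fun y => ∃ p, bcPres R R' A A' n ψ p = y) ?_ ?_ ?_ ?_
  · exact ⟨0, map_zero _⟩
  · intro r'
    refine ⟨MvPolynomial.C r', ?_⟩
    simp [bcPres]
  · rintro a y ⟨p, rfl⟩
    obtain ⟨q, rfl⟩ := hψ a
    refine ⟨MvPolynomial.map (algebraMap R R') q * p, ?_⟩
    rw [map_mul, bcPres_map, Algebra.smul_def]
  · rintro y₁ y₂ ⟨p₁, rfl⟩ ⟨p₂, rfl⟩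
    exact ⟨p₁ + p₂, map_add _ _ _⟩

variable [IsNoetherianRing R] [Module.Flat R R']

attribute [local instance] MvPolynomial.algebraMvPolynomial in
theorem isRHom_shriek_flat_bc (n : ℕ) (ψ : MvPolynomial (Fin n) R →ₐ[R] A)
    (hψ : Function.Surjective ψ) (K : Dual.D R) (c : ℤ) [K.IsGE c] (X₁ : Dual.D A)
    (h : IsRHom (DRing.restrictD ψ.toRingHom)
      (((DRing.LBaseChange (algebraMap R (MvPolynomial (Fin n) R))).obj K)⟦(n : ℤ)⟧) X₁) :
    IsRHom (DRing.restrictD (bcPres R R' A A' n ψ).toRingHom)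
      (((DRing.LBaseChange (algebraMap R' (MvPolynomial (Fin n) R'))).obj
        ((DRing.LBaseChange (algebraMap R R')).obj K))⟦(n : ℤ)⟧)
      ((DRing.LBaseChange (algebraMap A A')).obj X₁) := by
  letI : Algebra (MvPolynomial (Fin n) R) A := ψ.toRingHom.toAlgebra
  letI : Algebra (MvPolynomial (Fin n) R') A' := (bcPres R R' A A' n ψ).toRingHom.toAlgebra
  letI : Algebra (MvPolynomial (Fin n) R) A' := ((algebraMap A A').comp ψ.toRingHom).toAlgebra
  haveI : IsScalarTower R (MvPolynomial (Fin n) R) A :=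
    IsScalarTower.of_algebraMap_eq' ψ.comp_algebraMap.symm
  haveI : IsScalarTower (MvPolynomial (Fin n) R) A A' := IsScalarTower.of_algebraMap_eq' rfl
  haveI : IsScalarTower (MvPolynomial (Fin n) R) (MvPolynomial (Fin n) R') A' :=
    IsScalarTower.of_algebraMap_eq' (bcPres_comp_map R R' A A' n ψ).symm
  haveI : IsScalarTower R' (MvPolynomial (Fin n) R') A' :=
    IsScalarTower.of_algebraMap_eq' (bcPres R R' A A' n ψ).comp_algebraMap.symm
  haveI : IsScalarTower R (MvPolynomial (Fin n) R') A' :=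
    IsScalarTower.of_algebraMap_eq' (by
      rw [IsScalarTower.algebraMap_eq R R' A', IsScalarTower.algebraMap_eq R R' (MvPolynomial (Fin n) R'),
        ← RingHom.comp_assoc]
      congr 1
      exact (bcPres R R' A A' n ψ).comp_algebraMap.symm)
  haveI : Module.Finite (MvPolynomial (Fin n) R) A :=
    Module.Finite.of_surjective (Algebra.linearMap (MvPolynomial (Fin n) R) A) hψ
  exact isRHom_shriek_flat_bc_abs R R' (MvPolynomial (Fin n) R) (MvPolynomial (Fin n) R') A A' K c n X₁ h

end Poly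

end Groth.Agent.Lib.T2H4.FBC
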