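import Groth.Agent.Lib.T2H4FBC2

/-!
# Composition for upper shriek via presentations (helper4)
-/

set_option autoImplicit false
set_option linter.style.haveILetI false
set_option backward.isDefEq.respectTransparency.types false
universe u
open CategoryTheory CategoryTheory.Limits TensorProduct
attribute [local instance] HasDerivedCategory.standard

namespace Groth.Agent.Lib.T2H4.FBC

open DerivedCategory Pretriangulated
open Groth.Agent.Lib.T2H4.Koszul Groth.Agent.Lib.T2H4.Frob Groth.Agent.Lib.T2H4.TorIndep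
  Groth.Agent.Lib.T2H4.DComp

attribute [local instance] Groth.Agent.Lib.T2H4.LDerExist.hasLBaseChange

section Shift

variable {R S : Type u} [CommRing R] [CommRing S] (φ : R →+* S)

lemma isRHom_shift (Y : Dual.D R) (X : Dual.D S) (a : ℤ)
    (h : IsRHom (DRing.restrictD φ) Y X) : IsRHom (DRing.restrictD φ) (Y⟦a⟧) (X⟦a⟧) := by
  have h0 := isRHom_of_adj (adjRG φ) Y
  obtain ⟨e⟩ := h.unique h0
  obtain ⟨e'⟩ := nonempty_rightAdj_shift_iso φ (RG φ) (adjRG φ) Y a
  have h1 := isRHom_of_adj (adjRG φ) (Y⟦a⟧)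
  exact isRHom_of_iso_rep h1 (e' ≪≫ (shiftFunctor (Dual.D S) a).mapIso e.symm)

end Shift

section CompAbs

variable (A P B P' Q : Type u) {C : Type u} [CommRing A] [CommRing P] [CommRing B] [CommRing P']
  [CommRing Q] [CommRing C]
  [Algebra A P] [Algebra P B] [Algebra P P'] [Algebra B Q] [Algebra P' Q] [Algebra P Q]
  [IsScalarTower P B Q] [IsScalarTower P P' Q] [Algebra.IsPushout P B P' Q]
  [IsNoetherianRing P] [Module.Finite P B] [Module.Flat P P'] [Module.Flat A P]

theorem isRHom_comp_abs (χ : Q →+* C) (K : Dual.D A) (c : ℤ) [K.IsGE c] (d d' : ℤ)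
    (X₁ : Dual.D B)
    (h : IsRHom (DRing.restrictD (algebraMap P B))
      (((DRing.LBaseChange (algebraMap A P)).obj K)⟦d⟧) X₁)
    (Z : Dual.D C)
    (hZ : IsRHom (DRing.restrictD χ) (((DRing.LBaseChange (algebraMap B Q)).obj X₁)⟦d'⟧) Z) :
    IsRHom (DRing.restrictD (χ.comp (algebraMap P' Q)))
      (((DRing.LBaseChange ((algebraMap P P').comp (algebraMap A P))).obj K)⟦d + d'⟧) Z := by
  haveI hK1 : ((DRing.LBaseChange (algebraMap A P)).obj K).IsGE c :=
    Groth.Agent.Lib.T2H4.Shriek.isGE_lbc_of_flat A P K c inferInstance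
  haveI : (((DRing.LBaseChange (algebraMap A P)).obj K)⟦d⟧).IsGE (c - d) :=
    (DerivedCategory.TStructure.t).isGE_shift _ c d (c - d) (by omega)
  have h2 := isRHom_flat_baseChange P B P' Q _ (c - d) X₁ h
  have h2' := isRHom_shift (algebraMap P' Q) _ _ d' h2
  have h3 := (hZ.comp h2').of_natIso (resCompIso (algebraMap P' Q) χ _ rfl)
  obtain ⟨e1⟩ := nonempty_lbc_shift_iso (algebraMap P P')
    ((DRing.LBaseChange (algebraMap A P)).obj K) d
  obtain ⟨e2⟩ := Groth.Agent.Lib.T2H4.TwoIdeal.nonempty_lbc_trans (algebraMap A P)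
    (algebraMap P P') ((algebraMap P P').comp (algebraMap A P)) rfl K
  exact h3.of_iso_target ((shiftFunctor (Dual.D P') d').mapIso
    (e1 ≪≫ (shiftFunctor (Dual.D P') d).mapIso e2) ≪≫
    ((shiftFunctorAdd (Dual.D P') d d').app _).symm)

end CompAbs

section CompPoly

variable (A B C : Type u) [CommRing A] [CommRing B] [CommRing C] [Algebra A B] [Algebra B C]
  [Algebra A C] [IsScalarTower A B C] [IsNoetherianRing A]

theorem isRHom_comp_poly (n : ℕ) (ψ : MvPolynomial (Fin n) A →ₐ[A] B)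
    (hψ : Function.Surjective ψ) (m : ℕ) (χ : MvPolynomial (Fin m) B →ₐ[B] C)
    (hχ : Function.Surjective χ) (K : Dual.D A) (c : ℤ) [K.IsGE c] (X₁ : Dual.D B)
    (h : IsRHom (DRing.restrictD ψ.toRingHom)
      (((DRing.LBaseChange (algebraMap A (MvPolynomial (Fin n) A))).obj K)⟦(n : ℤ)⟧) X₁)
    (Z : Dual.D C)
    (hZ : IsRHom (DRing.restrictD χ.toRingHom)
      (((DRing.LBaseChange (algebraMap B (MvPolynomial (Fin m) B))).obj X₁)⟦(m : ℤ)⟧) Z) :
    ∃ Ξ : MvPolynomial (Fin (m + n)) A →ₐ[A] C, Function.Surjective Ξ ∧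
      IsRHom (DRing.restrictD Ξ.toRingHom)
        (((DRing.LBaseChange (algebraMap A (MvPolynomial (Fin (m + n)) A))).obj K)⟦((m + n : ℕ) : ℤ)⟧)
        Z := by
  letI : Algebra (MvPolynomial (Fin n) A) B := ψ.toRingHom.toAlgebra
  letI : Algebra (MvPolynomial (Fin m) (MvPolynomial (Fin n) A)) (MvPolynomial (Fin m) B) :=
    MvPolynomial.algebraMvPolynomial
  haveI : Module.Finite (MvPolynomial (Fin n) A) B :=
    Module.Finite.of_surjective (Algebra.linearMap (MvPolynomial (Fin n) A) B) hψ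
  have h1 := isRHom_comp_abs A (MvPolynomial (Fin n) A) B
    (MvPolynomial (Fin m) (MvPolynomial (Fin n) A)) (MvPolynomial (Fin m) B) χ.toRingHom K c
    (n : ℤ) (m : ℤ) X₁ h Z hZ
  have hnm : (n : ℤ) + (m : ℤ) = ((m + n : ℕ) : ℤ) := by push_cast; ring
  rw [hnm] at h1
  let θ : MvPolynomial (Fin (m + n)) A ≃ₐ[A] MvPolynomial (Fin m) (MvPolynomial (Fin n) A) :=
    (MvPolynomial.renameEquiv A finSumFinEquiv.symm).trans
      (MvPolynomial.sumAlgEquiv A (Fin m) (Fin n))
  let Ξ : MvPolynomial (Fin (m + n)) A →ₐ[A] C :=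
    ((χ.restrictScalars A).comp (MvPolynomial.mapAlgHom ψ)).comp θ.toAlgHom
  refine ⟨Ξ, ?_, ?_⟩
  · exact (hχ.comp (MvPolynomial.map_surjective ψ.toRingHom hψ)).comp θ.surjective
  · refine isRHom_transport θ.toRingHom θ.bijective
      (algebraMap A (MvPolynomial (Fin (m + n)) A))
      ((algebraMap (MvPolynomial (Fin n) A) (MvPolynomial (Fin m) (MvPolynomial (Fin n) A))).comp
        (algebraMap A (MvPolynomial (Fin n) A))) ?_
      (χ.toRingHom.comp (algebraMap (MvPolynomial (Fin m) (MvPolynomial (Fin n) A))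
        (MvPolynomial (Fin m) B))) Ξ.toRingHom ?_ K _ Z h1
    · rw [← IsScalarTower.algebraMap_eq]
      exact θ.toAlgHom.comp_algebraMap
    · exact RingHom.ext fun x => rfl

end CompPoly

end Groth.Agent.Lib.T2H4.FBC
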