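import Mathlib
import Groth.Prelude.Def_FlatMod2

/-!
# Faithful flatness of a module relative to a composite
-/

set_option autoImplicit false
universe u
open TensorProduct CategoryTheory AlgebraicGeometry

namespace Groth.Agent.Lib.T2H4.FFlatComp

/-- If `M` is a faithfully flat `S`-module which is flat over `R`, then `S` is flat over `R`. -/
lemma flat_of_faithfullyFlat_module (R S M : Type u) [CommRing R] [CommRing S]
    [Algebra R S] [AddCommGroup M] [Module S M] [Module R M] [IsScalarTower R S M]
    [Module.FaithfullyFlat S M] [Module.Flat R M] : Module.Flat R S := by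
  rw [Module.Flat.iff_lTensor_preserves_injective_linearMap]
  intro N P _ _ _ _ f hf
  let g : S ⊗[R] N →ₗ[S] S ⊗[R] P := TensorProduct.AlgebraTensorModule.lTensor S S f
  have hg : ⇑g = ⇑(f.lTensor S) := rfl
  rw [← hg, ← Module.FaithfullyFlat.lTensor_injective_iff_injective S M]
  have key := TensorProduct.AlgebraTensorModule.lTensor_comp_cancelBaseChange
    (R := R) (A := S) (B := S) (M := M) f
  have h1 : Function.Injective (TensorProduct.AlgebraTensorModule.lTensor S M f) :=
    Module.Flat.lTensor_preserves_injective_linearMap (M := M) f hf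
  have h2 : Function.Injective
      ((TensorProduct.AlgebraTensorModule.lTensor S M f) ∘ₗ
        (TensorProduct.AlgebraTensorModule.cancelBaseChange R S S M N).toLinearMap) :=
    h1.comp (LinearEquiv.injective _)
  rw [key] at h2
  have h3 : Function.Injective
      (⇑(TensorProduct.AlgebraTensorModule.cancelBaseChange R S S M P) ∘
        ⇑(LinearMap.lTensor M g)) := h2
  exact Function.Injective.of_comp h3

/-- transfer of `𝔪 M ≠ M` along a local homomorphism. -/
lemma smul_top_ne_top_of_isLocalHom (R S M : Type u) [CommRing R] [CommRing S]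
    [Algebra R S] [AddCommGroup M] [Module S M] [Module R M] [IsScalarTower R S M]
    [IsLocalRing R] [IsLocalRing S] [IsLocalHom (algebraMap R S)]
    (h : IsLocalRing.maximalIdeal S • (⊤ : Submodule S M) ≠ ⊤) :
    IsLocalRing.maximalIdeal R • (⊤ : Submodule R M) ≠ ⊤ := by
  intro h'
  apply h
  rw [eq_top_iff]
  intro m _
  have hm : m ∈ IsLocalRing.maximalIdeal R • (⊤ : Submodule R M) := by rw [h']; trivial
  refine Submodule.smul_induction_on hm ?_ ?_
  · intro r hr n _
    rw [← algebraMap_smul S r n]
    refine Submodule.smul_mem_smul ?_ trivial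
    exact (IsLocalRing.mem_maximalIdeal _).2
      ((isUnit_map_iff (algebraMap R S) r).not.2 ((IsLocalRing.mem_maximalIdeal _).1 hr))
  · intro x y hx hy
    exact add_mem hx hy

section scheme

variable {X Y Z : Scheme.{u}} (f : X ⟶ Y) (g : Y ⟶ Z) (F : X.Modules) (x : X)

set_option linter.style.haveILetI false

/-- `F_x` as a module over `O_{Z, g (f x)}`. -/
noncomputable abbrev modZ : Module (Z.presheaf.stalk (g (f x))) (F.presheaf.stalk x) :=
  FlatMod.moduleStalkOver (f ≫ g) F x

/-- `F_x` as a module over `O_{Y, f x}`. -/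
noncomputable abbrev modY : Module (Y.presheaf.stalk (f x)) (F.presheaf.stalk x) :=
  FlatMod.moduleStalkOver f F x

/-- `O_{Y, f x}` as an algebra over `O_{Z, g (f x)}`. -/
noncomputable abbrev algZY : Algebra (Z.presheaf.stalk (g (f x))) (Y.presheaf.stalk (f x)) :=
  (g.stalkMap (f x)).hom.toAlgebra

/-- the scalar tower `O_{Z,z} → O_{Y,y}` acting on `F_x`. -/
theorem isScalarTower_stalk :
    @IsScalarTower (Z.presheaf.stalk (g (f x))) (Y.presheaf.stalk (f x)) (F.presheaf.stalk x)
      (algZY f g x).toSMul (modY f F x).toSMul (modZ f g F x).toSMul := by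
  letI := modY f F x
  letI := modZ f g F x
  letI := algZY f g x
  refine ⟨fun a b m => ?_⟩
  show (f.stalkMap x).hom (((g.stalkMap (f x)).hom a) * b) • m =
    ((f ≫ g).stalkMap x).hom a • ((f.stalkMap x).hom b • m)
  rw [Scheme.Hom.stalkMap_comp, map_mul, mul_smul]
  rfl

theorem isFlatOverAt_comp (hg : (g.stalkMap (f x)).hom.Flat) (hF : FlatMod.IsFlatOverAt f F x) :
    FlatMod.IsFlatOverAt (f ≫ g) F x := by
  letI := modY f F x
  letI := modZ f g F x
  letI := algZY f g x
  have := isScalarTower_stalk f g F x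
  have h1 : Module.Flat (Z.presheaf.stalk (g (f x))) (Y.presheaf.stalk (f x)) := hg
  have h2 : Module.Flat (Y.presheaf.stalk (f x)) (F.presheaf.stalk x) := hF
  exact Module.Flat.trans (Z.presheaf.stalk (g (f x))) (Y.presheaf.stalk (f x))
    (F.presheaf.stalk x)

theorem smul_top_ne_top_comp
    (h : letI := FlatMod.moduleStalkOver f F x
      IsLocalRing.maximalIdeal (Y.presheaf.stalk (f x)) •
        (⊤ : Submodule (Y.presheaf.stalk (f x)) (F.presheaf.stalk x)) ≠ ⊤) :
    letI := FlatMod.moduleStalkOver (f ≫ g) F x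
    IsLocalRing.maximalIdeal (Z.presheaf.stalk ((f ≫ g) x)) •
      (⊤ : Submodule (Z.presheaf.stalk ((f ≫ g) x)) (F.presheaf.stalk x)) ≠ ⊤ := by
  letI := modY f F x
  letI := modZ f g F x
  letI := algZY f g x
  have := isScalarTower_stalk f g F x
  have hloc : IsLocalHom (g.stalkMap (f x)).hom := inferInstance
  have : IsLocalHom (algebraMap (Z.presheaf.stalk (g (f x))) (Y.presheaf.stalk (f x))) := hloc
  exact smul_top_ne_top_of_isLocalHom (Z.presheaf.stalk (g (f x))) (Y.presheaf.stalk (f x))
    (F.presheaf.stalk x) h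

theorem flat_stalkMap_of (hF : FlatMod.IsFlatOverAt f F x)
    (h : letI := FlatMod.moduleStalkOver f F x
      IsLocalRing.maximalIdeal (Y.presheaf.stalk (f x)) •
        (⊤ : Submodule (Y.presheaf.stalk (f x)) (F.presheaf.stalk x)) ≠ ⊤)
    (hFZ : FlatMod.IsFlatOverAt (f ≫ g) F x) : (g.stalkMap (f x)).hom.Flat := by
  letI := modY f F x
  letI := modZ f g F x
  letI := algZY f g x
  have := isScalarTower_stalk f g F x
  have h2 : Module.Flat (Y.presheaf.stalk (f x)) (F.presheaf.stalk x) := hF
  have h3 : Module.Flat (Z.presheaf.stalk (g (f x))) (F.presheaf.stalk x) := hFZ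
  have h4 : Module.FaithfullyFlat (Y.presheaf.stalk (f x)) (F.presheaf.stalk x) := by
    refine ⟨?_⟩
    intro m hm
    rw [IsLocalRing.eq_maximalIdeal hm]
    exact h
  exact flat_of_faithfullyFlat_module (Z.presheaf.stalk (g (f x))) (Y.presheaf.stalk (f x))
    (F.presheaf.stalk x)

end scheme

end Groth.Agent.Lib.T2H4.FFlatComp
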