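import Mathlib

/-!
# Factorisation through a closed surjective morphism with `f_* O = O` (helper4)

`existsUnique_factor` : let `f : V ⟶ C'` be a morphism of schemes which is closed and surjective on points and such that
`f.app W'` is bijective for a basis of opens `W'` of `C'`, and let `q : V ⟶ C` be a morphism which is constant on the fibres
of `f`.  Then there is a unique `u : C' ⟶ C` with `f ≫ u = q`.
-/

set_option autoImplicit false
set_option linter.style.haveILetI false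
set_option linter.unusedSectionVars false
universe u
open CategoryTheory CategoryTheory.Limits AlgebraicGeometry TopologicalSpace Opposite

namespace Groth.Agent.Lib.T2H4.Factor

noncomputable section

/-- two morphisms agreeing on a jointly surjective family of open immersions are equal -/
theorem hom_ext_of_openImmersions {X Z : Scheme.{u}} (a b : X ⟶ Z)
    (H : ∀ x : X, ∃ (T : Scheme.{u}) (c : T ⟶ X) (_ : IsOpenImmersion c),
      x ∈ Set.range c.base ∧ c ≫ a = c ≫ b) : a = b := by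
  refine Scheme.hom_ext_of_forall _ _ fun x => ?_
  obtain ⟨T, c, hc, hx, hab⟩ := H x
  refine ⟨c.opensRange, hx, ?_⟩
  rw [← cancel_epi c.isoOpensRange.hom, Scheme.Hom.isoOpensRange_hom_ι_assoc,
    Scheme.Hom.isoOpensRange_hom_ι_assoc, hab]

section loc

variable {V C' C : Scheme.{u}} (f : V ⟶ C') (q : V ⟶ C)

/-- the local piece of the factorisation -/
def piece (W' : C'.Opens) (W : C.Opens) (hW : IsAffineOpen W) (hle : f ⁻¹ᵁ W' ≤ q ⁻¹ᵁ W)
    (hiso : IsIso (f.app W')) : (W' : Scheme.{u}) ⟶ C :=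
  W'.toSpecΓ ≫ Spec.map (q.appLE W (f ⁻¹ᵁ W') hle ≫ inv (f.app W')) ≫ hW.fromSpec

theorem restrict_piece (W' : C'.Opens) (W : C.Opens) (hW : IsAffineOpen W) (hle : f ⁻¹ᵁ W' ≤ q ⁻¹ᵁ W)
    (hiso : IsIso (f.app W')) :
    (f ∣_ W') ≫ piece f q W' W hW hle hiso = (f ⁻¹ᵁ W').ι ≫ q := by
  unfold piece
  rw [← Scheme.Opens.toSpecΓ_naturality_assoc, ← Spec.map_comp_assoc, Category.assoc, IsIso.inv_hom_id,
    Category.comp_id, Scheme.Opens.toSpecΓ_SpecMap_appLE_assoc, IsAffineOpen.toSpecΓ_fromSpec,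
    Scheme.Hom.resLE_comp_ι]

theorem range_piece (W' : C'.Opens) (W : C.Opens) (hW : IsAffineOpen W) (hle : f ⁻¹ᵁ W' ≤ q ⁻¹ᵁ W)
    (hiso : IsIso (f.app W')) :
    Set.range (piece f q W' W hW hle hiso).base ⊆ (W : Set C) := by
  rintro _ ⟨t, rfl⟩
  unfold piece
  rw [← Category.assoc, Scheme.Hom.comp_apply]
  have : hW.fromSpec.base ((W'.toSpecΓ ≫ Spec.map (q.appLE W (f ⁻¹ᵁ W') hle ≫ inv (f.app W'))).base t) ∈
      Set.range hW.fromSpec.base := ⟨_, rfl⟩
  rw [hW.range_fromSpec] at this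
  exact this

/-- local uniqueness -/
theorem eq_of_restrict_comp_eq (W' : C'.Opens) (W : C.Opens) (hW : IsAffineOpen W)
    (hinj : Function.Injective (f.app W').hom) (a b : (W' : Scheme.{u}) ⟶ C)
    (ha : Set.range a.base ⊆ (W : Set C)) (hb : Set.range b.base ⊆ (W : Set C))
    (hab : (f ∣_ W') ≫ a = (f ∣_ W') ≫ b) : a = b := by
  haveI : IsAffine (W : Scheme.{u}) := hW
  have ha' : Set.range a.base ⊆ Set.range W.ι.base := by rw [Scheme.Opens.range_ι]; exact ha
  have hb' : Set.range b.base ⊆ Set.range W.ι.base := by rw [Scheme.Opens.range_ι]; exact hb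
  have ea : IsOpenImmersion.lift W.ι a ha' ≫ W.ι = a := IsOpenImmersion.lift_fac _ _ _
  have eb : IsOpenImmersion.lift W.ι b hb' ≫ W.ι = b := IsOpenImmersion.lift_fac _ _ _
  have h1 : (f ∣_ W') ≫ IsOpenImmersion.lift W.ι a ha' = (f ∣_ W') ≫ IsOpenImmersion.lift W.ι b hb' := by
    rw [← cancel_mono W.ι, Category.assoc, Category.assoc, ea, eb, hab]
  have h2 : IsOpenImmersion.lift W.ι a ha' = IsOpenImmersion.lift W.ι b hb' := by
    apply ext_of_isAffine
    have h3 := congrArg Scheme.Hom.appTop h1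
    rw [Scheme.Hom.comp_appTop, Scheme.Hom.comp_appTop] at h3
    have hinj' : Function.Injective (f ∣_ W').appTop.hom := by
      intro x y hxy
      have h4 := morphismRestrict_appTop f W'
      have e : ∀ z : Γ(C', W'.ι ''ᵁ ⊤), (f ∣_ W').appTop.hom z =
          (V.presheaf.map (eqToHom (image_morphismRestrict_preimage f W' ⊤)).op).hom
            ((f.app (W'.ι ''ᵁ ⊤)).hom z) := fun z => congr($(h4).hom z)
      have hiso : IsIso (V.presheaf.map (eqToHom (image_morphismRestrict_preimage f W' ⊤)).op) := inferInstance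
      have hi1 := ((ConcreteCategory.isIso_iff_bijective _).mp hiso).1
      have key : ∀ O : C'.Opens, O = W' → Function.Injective (f.app O).hom := by
        rintro O rfl
        exact hinj
      have h5 : (f.app (W'.ι ''ᵁ ⊤)).hom x = (f.app (W'.ι ''ᵁ ⊤)).hom y := by
        apply hi1
        have := (e x).symm.trans (hxy.trans (e y))
        exact this
      exact key _ (Scheme.Opens.ι_image_top W') h5
    refine CommRingCat.hom_ext (RingHom.ext fun x => hinj' ?_)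
    exact congr($(h3).hom x)
  rw [← ea, ← eb, h2]

end loc

section main

variable {V C' C : Scheme.{u}} (f : V ⟶ C') (q : V ⟶ C)

/-- pointwise description of a morphism out of an open of `C'` in terms of its restriction along `f` -/
theorem base_eq_of_restrict_comp (W' : C'.Opens) (a : (W' : Scheme.{u}) ⟶ C)
    (ha : (f ∣_ W') ≫ a = (f ⁻¹ᵁ W').ι ≫ q) (v : V) (hv : f.base v ∈ W') :
    a.base ⟨f.base v, hv⟩ = q.base v := by
  have h1 := congrArg (fun m => m.base ⟨v, hv⟩) ha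
  simp only [Scheme.Hom.comp_apply] at h1
  have h2 : (f ∣_ W').base ⟨v, hv⟩ = ⟨f.base v, hv⟩ := by
    apply Subtype.ext
    exact morphismRestrict_base_coe f W' ⟨v, hv⟩
  rw [h2] at h1
  exact h1

/-- restriction of `f` is compatible with inclusions of opens -/
theorem restrict_homOfLE {W₁ W₂ : C'.Opens} (hle : W₁ ≤ W₂) :
    (f ∣_ W₁) ≫ C'.homOfLE hle = V.homOfLE (f.preimage_mono hle) ≫ (f ∣_ W₂) := by
  rw [← cancel_mono W₂.ι, Category.assoc, Category.assoc, Scheme.homOfLE_ι, morphismRestrict_ι, morphismRestrict_ι,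
    Scheme.homOfLE_ι_assoc]

/-- **factorisation through a closed surjective morphism with `f_* O = O`** -/
theorem existsUnique_factor (hcl : IsClosedMap f.base) (hsurj : Function.Surjective f.base)
    (hbij : ∀ (c' : C') (N : C'.Opens), c' ∈ N →
      ∃ W' : C'.Opens, c' ∈ W' ∧ W' ≤ N ∧ Function.Bijective (f.app W').hom)
    (hfib : ∀ v₁ v₂ : V, f.base v₁ = f.base v₂ → q.base v₁ = q.base v₂) :
    ∃! u : C' ⟶ C, f ≫ u = q := by
  classical
  choose s hs using hsurj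
  obtain ⟨u₀, hu₀def⟩ : ∃ u₀ : C' → C, u₀ = fun c' => q.base (s c') := ⟨_, rfl⟩
  have hu₀ : ∀ v, u₀ (f.base v) = q.base v := fun v => by
    rw [hu₀def]
    exact hfib _ _ (hs _)
  have hpre : ∀ W : C.Opens, IsOpen (u₀ ⁻¹' (W : Set C)) := by
    intro W
    have h1 : u₀ ⁻¹' (W : Set C) = (f.base '' (q.base ⁻¹' (W : Set C))ᶜ)ᶜ := by
      ext c'
      constructor
      · rintro h ⟨v, hv, hvc⟩
        apply hv
        change q.base v ∈ (W : Set C)
        rw [← hu₀, hvc]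
        exact h
      · intro h
        by_contra h'
        apply h
        refine ⟨s c', ?_, hs c'⟩
        intro h''
        apply h'
        change u₀ c' ∈ (W : Set C)
        rw [← hs c', hu₀]
        exact h''
    rw [h1]
    exact (hcl _ (W.2.preimage q.continuous).isClosed_compl).isOpen_compl
  obtain ⟨pre, hpredef⟩ : ∃ pre : C.Opens → C'.Opens, ∀ W, ((pre W : C'.Opens) : Set C') = u₀ ⁻¹' (W : Set C) :=
    ⟨fun W => ⟨u₀ ⁻¹' (W : Set C), hpre W⟩, fun W => rfl⟩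
  have hmem_pre : ∀ (W : C.Opens) (c' : C'), c' ∈ pre W ↔ u₀ c' ∈ W := by
    intro W c'
    change c' ∈ ((pre W : C'.Opens) : Set C') ↔ _
    rw [hpredef]
    rfl
  have hle_of : ∀ (W' : C'.Opens) (W : C.Opens), W' ≤ pre W → f ⁻¹ᵁ W' ≤ q ⁻¹ᵁ W := by
    intro W' W h v hv
    change q.base v ∈ W
    rw [← hu₀]
    exact (hmem_pre W _).mp (h hv)
  -- local data around each point
  have hloc : ∀ c' : C', ∃ (W' : C'.Opens) (W : C.Opens), IsAffineOpen W ∧ c' ∈ W' ∧ W' ≤ pre W ∧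
      Function.Bijective (f.app W').hom := by
    intro c'
    obtain ⟨W, hW, hcW, -⟩ := exists_isAffineOpen_mem_and_subset (x := u₀ c') (U := ⊤) trivial
    obtain ⟨W', hcW', hW'le, hb⟩ := hbij c' (pre W) ((hmem_pre W c').mpr hcW)
    exact ⟨W', W, hW, hcW', hW'le, hb⟩
  -- uniqueness of local morphisms
  have huniq : ∀ (W' : C'.Opens) (a b : (W' : Scheme.{u}) ⟶ C),
      (f ∣_ W') ≫ a = (f ⁻¹ᵁ W').ι ≫ q → (f ∣_ W') ≫ b = (f ⁻¹ᵁ W').ι ≫ q → a = b := by
    intro W' a b ha hb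
    refine hom_ext_of_openImmersions _ _ fun t => ?_
    obtain ⟨W₃', W₃, hW₃, hc₃, hle₃, hb₃⟩ := hloc t.1
    obtain ⟨W₄', hc₄, hle₄, hb₄⟩ := hbij t.1 (W₃' ⊓ W') ⟨hc₃, t.2⟩
    have hle₄' : W₄' ≤ W' := hle₄.trans inf_le_right
    have hle₄₃ : W₄' ≤ pre W₃ := (hle₄.trans inf_le_left).trans hle₃
    have ht4 : (C'.homOfLE hle₄').base ⟨t.1, hc₄⟩ = t := by
      apply Subtype.ext
      change W'.ι.base ((C'.homOfLE hle₄').base ⟨t.1, hc₄⟩) = t.1
      rw [← Scheme.Hom.comp_apply, Scheme.homOfLE_ι]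
      rfl
    refine ⟨_, C'.homOfLE hle₄', inferInstance, ⟨⟨t.1, hc₄⟩, ht4⟩, ?_⟩
    have hcomp : ∀ m : (W' : Scheme.{u}) ⟶ C, (f ∣_ W') ≫ m = (f ⁻¹ᵁ W').ι ≫ q →
        (f ∣_ W₄') ≫ C'.homOfLE hle₄' ≫ m = (f ⁻¹ᵁ W₄').ι ≫ q := by
      intro m hm
      rw [← Category.assoc, restrict_homOfLE, Category.assoc, hm, Scheme.homOfLE_ι_assoc]
    have hrange : ∀ m : (W' : Scheme.{u}) ⟶ C, (f ∣_ W') ≫ m = (f ⁻¹ᵁ W').ι ≫ q →
        Set.range (C'.homOfLE hle₄' ≫ m).base ⊆ (W₃ : Set C) := by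
      rintro m hm _ ⟨z, rfl⟩
      obtain ⟨v, hv⟩ : ∃ v, f.base v = z.1 := ⟨s z.1, hs z.1⟩
      have hvz : f.base v ∈ W₄' := hv ▸ z.2
      have hz : z = ⟨f.base v, hvz⟩ := Subtype.ext hv.symm
      rw [hz, base_eq_of_restrict_comp f q W₄' _ (hcomp m hm) v hvz, ← hu₀]
      exact (hmem_pre W₃ _).mp (hle₄₃ hvz)
    exact eq_of_restrict_comp_eq f W₄' W₃ hW₃ hb₄.1 _ _ (hrange a ha) (hrange b hb)
      ((hcomp a ha).trans (hcomp b hb).symm)
  choose W' W hW hcW' hW'le hb using hloc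
  have hiso : ∀ c', IsIso (f.app (W' c')) := fun c' => (ConcreteCategory.isIso_iff_bijective _).mpr (hb c')
  let 𝒰 : C'.OpenCover := {
    I₀ := C', X := fun i => (W' i : Scheme.{u}), f := fun i => (W' i).ι,
    mem₀ := by
      rw [Scheme.presieve₀_mem_precoverage_iff]
      refine ⟨fun x ↦ ⟨x, by simpa using hcW' x⟩, inferInstance⟩ }
  let g : ∀ i : C', (W' i : Scheme.{u}) ⟶ C := fun i =>
    piece f q (W' i) (W i) (hW i) (hle_of _ _ (hW'le i)) (hiso i)
  have hg : ∀ i, (f ∣_ W' i) ≫ g i = (f ⁻¹ᵁ W' i).ι ≫ q := fun i => restrict_piece f q _ _ _ _ _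
  have hcompat : ∀ i j : C', pullback.fst (𝒰.f i) (𝒰.f j) ≫ g i = pullback.snd (𝒰.f i) (𝒰.f j) ≫ g j := by
    intro i j
    refine hom_ext_of_openImmersions _ _ fun z => ?_
    obtain ⟨c'', hc''⟩ : ∃ c'' : C', c'' = (pullback.fst (𝒰.f i) (𝒰.f j) ≫ 𝒰.f i).base z := ⟨_, rfl⟩
    have hci : c'' ∈ W' i := by
      rw [hc'', Scheme.Hom.comp_apply]
      exact ((pullback.fst (𝒰.f i) (𝒰.f j)).base z).2
    have hcj : c'' ∈ W' j := by
      rw [hc'', pullback.condition, Scheme.Hom.comp_apply]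
      exact ((pullback.snd (𝒰.f i) (𝒰.f j)).base z).2
    let W₃ : C'.Opens := W' i ⊓ W' j
    have h3i : W₃ ≤ W' i := inf_le_left
    have h3j : W₃ ≤ W' j := inf_le_right
    let k : (W₃ : Scheme.{u}) ⟶ pullback (𝒰.f i) (𝒰.f j) :=
      pullback.lift (C'.homOfLE h3i) (C'.homOfLE h3j) (by
        change C'.homOfLE h3i ≫ (W' i).ι = C'.homOfLE h3j ≫ (W' j).ι
        rw [Scheme.homOfLE_ι, Scheme.homOfLE_ι])
    have hk1 : k ≫ pullback.fst (𝒰.f i) (𝒰.f j) = C'.homOfLE h3i := pullback.lift_fst _ _ _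
    have hk2 : k ≫ pullback.snd (𝒰.f i) (𝒰.f j) = C'.homOfLE h3j := pullback.lift_snd _ _ _
    haveI : IsOpenImmersion (k ≫ pullback.fst (𝒰.f i) (𝒰.f j)) := by
      rw [hk1]
      infer_instance
    have hkoi : IsOpenImmersion k := IsOpenImmersion.of_comp k (pullback.fst (𝒰.f i) (𝒰.f j))
    refine ⟨_, k, hkoi, ?_, ?_⟩
    · refine ⟨⟨c'', hci, hcj⟩, ?_⟩
      have hinj : Function.Injective (pullback.fst (𝒰.f i) (𝒰.f j) ≫ 𝒰.f i).base :=
        (Scheme.Hom.isOpenEmbedding _).injective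
      apply hinj
      rw [← hc'', ← Scheme.Hom.comp_apply, ← Category.assoc, hk1]
      change (C'.homOfLE h3i ≫ (W' i).ι).base _ = c''
      rw [Scheme.homOfLE_ι]
      rfl
    · rw [← Category.assoc, ← Category.assoc, hk1, hk2]
      refine huniq W₃ _ _ ?_ ?_
      · rw [← Category.assoc, restrict_homOfLE, Category.assoc, hg, Scheme.homOfLE_ι_assoc]
      · rw [← Category.assoc, restrict_homOfLE, Category.assoc, hg, Scheme.homOfLE_ι_assoc]
  have hfu : f ≫ 𝒰.glueMorphisms g hcompat = q := by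
    refine Scheme.hom_ext_of_forall _ _ fun v => ?_
    refine ⟨f ⁻¹ᵁ W' (f.base v), hcW' _, ?_⟩
    rw [← hg, ← morphismRestrict_ι_assoc]
    congr 1
    exact 𝒰.ι_glueMorphisms g hcompat (f.base v)
  refine ⟨𝒰.glueMorphisms g hcompat, hfu, ?_⟩
  intro u' hu'
  refine Scheme.hom_ext_of_forall _ _ fun c' => ?_
  refine ⟨W' c', hcW' c', ?_⟩
  refine huniq (W' c') _ _ ?_ ?_
  · rw [morphismRestrict_ι_assoc, hu']
  · rw [morphismRestrict_ι_assoc, hfu]

end main

end

end Groth.Agent.Lib.T2H4.Factor
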