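import Groth.Agent.Lib.T2H4FibGor1
import Groth.Agent.Lib.T2H4RGDelta
import Groth.Agent.Lib.T2H4DualFinite
import Groth.Agent.Lib.T2H4LocalDual2

/-!
# The fibre of a flat base change of a complex with one-dimensional `Ext(k, -)` (helper4)
-/

set_option autoImplicit false
set_option linter.style.haveILetI false
set_option backward.isDefEq.respectTransparency.types false
universe u
open CategoryTheory CategoryTheory.Limits TensorProduct
attribute [local instance] HasDerivedCategory.standard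

namespace Groth.Agent.Lib.T2H4.FibGor

open DerivedCategory Pretriangulated Groth.Agent.Lib.T2H4.LocKL
  Groth.Agent.Lib.T2H4.TorIndep Groth.Agent.Lib.T2H4.FlatHom Groth.Agent.Lib.T2H4.DComp
  Groth.Agent.Lib.Helper1.Extend Groth.Agent.Lib.Helper1.Restrict Groth.Agent.Lib.T2H4.LocalDual
  Groth.Agent.Lib.T2H4.Uniq Groth.Agent.S14388

section Quot

variable {S : Type u} [CommRing S] (J : Ideal S)

/-- the adjunction bijection for a quotient ring, semilinear. -/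
lemma exists_adj_quot (Z : Dual.D S) (i : ℤ) :
    ∃ ψ : (Dual.inD S (S ⧸ J) ⟶ Z⟦i⟧) ≃+
        (Dual.inD (S ⧸ J) (S ⧸ J) ⟶ ((RG (algebraMap S (S ⧸ J))).obj Z)⟦i⟧),
      ∀ (s : S) (f : Dual.inD S (S ⧸ J) ⟶ Z⟦i⟧),
        ψ (s • f) = (Ideal.Quotient.mk J s) • ψ f := by
  let R := RG (algebraMap S (S ⧸ J))
  let adj := adjRG (algebraMap S (S ⧸ J))
  letI : R.CommShift ℤ := adj.rightAdjointCommShift ℤ
  let X : Dual.D (S ⧸ J) := Dual.inD (S ⧸ J) (S ⧸ J)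
  let iso2 : (DRing.restrictD (algebraMap S (S ⧸ J))).obj X ≅ Dual.inD S (S ⧸ J) :=
    restrictDSingleIso (algebraMap S (S ⧸ J)) (ModuleCat.of (S ⧸ J) (S ⧸ J)) 0 ≪≫
      (singleFunctor (ModuleCat.{u} S) 0).mapIso (e₀ (A := S) (S ⧸ J)).toModuleIso
  let iso1 : R.obj (Z⟦i⟧) ≅ (R.obj Z)⟦i⟧ := (R.commShiftIso i).app Z
  let L1 := Linear.homCongr S iso2.symm (Iso.refl (Z⟦i⟧))
  let L3 := Linear.homCongr (S ⧸ J) (Iso.refl X) iso1
  refine ⟨(L1.toAddEquiv.trans (adj.homAddEquiv X (Z⟦i⟧))).trans L3.toAddEquiv, fun a f => ?_⟩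
  show L3 (adj.homEquiv X (Z⟦i⟧) (L1 (a • f))) =
    (Ideal.Quotient.mk J a) • L3 (adj.homEquiv X (Z⟦i⟧) (L1 f))
  rw [map_smul, homEquiv_smul, map_smul]
  rfl

end Quot

section Main

variable {R : Type u} [CommRing R] [IsNoetherianRing R] (S : Type u) [CommRing S] [Algebra R S]
  [Module.Flat R S] [DRing.HasLBaseChange (algebraMap R S)]

omit [IsNoetherianRing R] in
/-- `S/𝔪S` in degree `0` is the base change of `R/𝔪`. -/
lemma nonempty_inD_quot_map_iso (m : Ideal R) :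
    Nonempty (Dual.inD S (S ⧸ m.map (algebraMap R S)) ≅
      (DRing.LBaseChange (algebraMap R S)).obj (Dual.inD R (R ⧸ m))) := by
  let e2 : (S ⧸ m.map (algebraMap R S)) ≃ₗ[S] S ⊗[R] (R ⧸ m) :=
    (Algebra.TensorProduct.quotIdealMapEquivTensorQuot S m).toLinearEquiv
  obtain ⟨e3⟩ := nonempty_lbc_inD_iso R S (R ⧸ m)
  exact ⟨(singleFunctor (ModuleCat.{u} S) 0).mapIso e2.toModuleIso ≪≫ e3.symm⟩

/-- the semilinear bijection `S ⊗ Ext^j_R(R/𝔪, K) ≃ Hom(F[0], RHom_S(F, K_S)[j])`, `F = S/𝔪S`. -/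
theorem exists_fibre_equiv (m : Ideal R) (K : Dual.D R) (a : ℤ) [K.IsGE a] (j : ℤ) :
    ∃ Ξ : (S ⊗[R] (Dual.inD R (R ⧸ m) ⟶ K⟦j⟧)) ≃+
        (Dual.inD (S ⧸ m.map (algebraMap R S)) (S ⧸ m.map (algebraMap R S)) ⟶
          ((RG (algebraMap S (S ⧸ m.map (algebraMap R S)))).obj
            ((DRing.LBaseChange (algebraMap R S)).obj K))⟦j⟧),
      ∀ (s : S) (z : S ⊗[R] (Dual.inD R (R ⧸ m) ⟶ K⟦j⟧)),
        Ξ (s • z) = (Ideal.Quotient.mk (m.map (algebraMap R S)) s) • Ξ z := by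
  letI : (DRing.LBaseChange (algebraMap R S)).CommShift ℤ :=
    (lbcAdj (algebraMap R S)).leftAdjointCommShift ℤ
  let X := Dual.inD R (R ⧸ m)
  obtain ⟨eX⟩ := nonempty_inD_quot_map_iso S m
  let σ : (DRing.LBaseChange (algebraMap R S)).obj (K⟦j⟧) ≅
      ((DRing.LBaseChange (algebraMap R S)).obj K)⟦j⟧ :=
    ((DRing.LBaseChange (algebraMap R S)).commShiftIso j).app K
  obtain ⟨ψ, hψ⟩ := exists_adj_quot (m.map (algebraMap R S))
    ((DRing.LBaseChange (algebraMap R S)).obj K) j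
  haveI : (K⟦j⟧).IsGE (a - j) := tt.isGE_shift K a j (a - j) (by lia)
  have e0 : X⟦(0 : ℤ)⟧ ≅ X := (shiftFunctorZero (Dual.D R) ℤ).app X
  have hΘ : Function.Bijective (ΘN S (ηB S (K⟦j⟧)) X) :=
    ΘN_of_iso S e0 (bijective_ΘN_unit S X (K⟦j⟧) (a - j) 0 0 (isZero_HD_inD _)
      (finite_HD_inD (R ⧸ m)) 0)
  have hbij := lbcHom_bijective S X (K⟦j⟧) hΘ
  let Φ : (S ⊗[R] (X ⟶ K⟦j⟧)) ≃+
      ((DRing.LBaseChange (algebraMap R S)).obj X ⟶
        (DRing.LBaseChange (algebraMap R S)).obj (K⟦j⟧)) :=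
    AddEquiv.ofBijective (AddMonoidHom.mk' (lbcHom S X (K⟦j⟧)) (lbcHom_add S X (K⟦j⟧))) hbij
  let L2 := Linear.homCongr S eX.symm σ
  refine ⟨(Φ.trans L2.toAddEquiv).trans ψ, fun s z => ?_⟩
  show ψ (L2 (lbcHom S X (K⟦j⟧) (s • z))) = _ • ψ (L2 (lbcHom S X (K⟦j⟧) z))
  rw [lbcHom_smul, map_smul, hψ]

end Main

section Fibre

variable {R : Type u} [CommRing R] [IsNoetherianRing R] (S : Type u) [CommRing S] [Algebra R S]
  [Module.Flat R S] [DRing.HasLBaseChange (algebraMap R S)]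

/-- **The fibre computation**: if `Ext^•_R(R/𝔪, K)` is `R/𝔪` placed in degree `d`, then
`RHom_S(S/𝔪S, K ⊗ S)` is `S/𝔪S` placed in degree `d`. -/
theorem nonempty_RG_lbc_iso_single (m : Ideal R) (K : Dual.D R) (a : ℤ) [K.IsGE a] (d : ℤ)
    (hvan : ∀ i : ℤ, i ≠ d → Subsingleton (Dual.inD R (R ⧸ m) ⟶ K⟦i⟧))
    (θ : (Dual.inD R (R ⧸ m) ⟶ K⟦d⟧) ≃ₗ[R] (R ⧸ m)) :
    Nonempty ((RG (algebraMap S (S ⧸ m.map (algebraMap R S)))).obj
        ((DRing.LBaseChange (algebraMap R S)).obj K) ≅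
      (DerivedCategory.singleFunctor (ModuleCat.{u} (S ⧸ m.map (algebraMap R S))) d).obj
        (ModuleCat.of (S ⧸ m.map (algebraMap R S)) (S ⧸ m.map (algebraMap R S)))) := by
  have hd : Nonempty (Dual.HD (S ⧸ m.map (algebraMap R S))
      ((RG (algebraMap S (S ⧸ m.map (algebraMap R S)))).obj
        ((DRing.LBaseChange (algebraMap R S)).obj K)) d ≃ₗ[S ⧸ m.map (algebraMap R S)]
      (S ⧸ m.map (algebraMap R S))) := by
    obtain ⟨Ξ, hΞ⟩ := exists_fibre_equiv S m K a d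
    obtain ⟨h⟩ := nonempty_homSelfEquiv ((RG (algebraMap S (S ⧸ m.map (algebraMap R S)))).obj
        ((DRing.LBaseChange (algebraMap R S)).obj K)) d
    let t1 : S ⊗[R] (Dual.inD R (R ⧸ m) ⟶ K⟦d⟧) ≃ₗ[S] S ⊗[R] (R ⧸ m) :=
      TensorProduct.AlgebraTensorModule.congr (LinearEquiv.refl S S) θ
    let t2 : S ⊗[R] (R ⧸ m) ≃ₗ[S] (S ⧸ m.map (algebraMap R S)) :=
      (Algebra.TensorProduct.quotIdealMapEquivTensorQuot S m).toLinearEquiv.symm
    let g := Ξ.symm.trans (t1 ≪≫ₗ t2).toAddEquiv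
    have hg : ∀ (s : S) x, g (Ideal.Quotient.mk (m.map (algebraMap R S)) s • x) =
        Ideal.Quotient.mk (m.map (algebraMap R S)) s * g x := by
      intro s x
      obtain ⟨z, rfl⟩ := Ξ.surjective x
      rw [← hΞ]
      show (t1 ≪≫ₗ t2) (Ξ.symm (Ξ (s • z))) = _ * (t1 ≪≫ₗ t2) (Ξ.symm (Ξ z))
      rw [AddEquiv.symm_apply_apply, AddEquiv.symm_apply_apply, map_smul]
      rfl
    exact ⟨h.symm ≪≫ₗ
      { g with
        map_smul' := fun c x => by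
          obtain ⟨s, rfl⟩ := Ideal.Quotient.mk_surjective c
          exact hg s x }⟩
  obtain ⟨ed⟩ := hd
  refine nonempty_iso_single_of_homology _ d _ (fun i hi => ?_) ed
  obtain ⟨Ξ, -⟩ := exists_fibre_equiv S m K a i
  haveI := hvan i hi
  have hz : ∀ z : S ⊗[R] (Dual.inD R (R ⧸ m) ⟶ K⟦i⟧), z = 0 := by
    intro z
    induction z using TensorProduct.induction_on with
    | zero => rfl
    | tmul b f => rw [Subsingleton.elim f 0, TensorProduct.tmul_zero]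
    | add x y hx hy => rw [hx, hy, add_zero]
  haveI : Subsingleton (S ⊗[R] (Dual.inD R (R ⧸ m) ⟶ K⟦i⟧)) :=
    ⟨fun x y => (hz x).trans (hz y).symm⟩
  have h1 := Ξ.symm.toEquiv.subsingleton
  have h2 := (Groth.Agent.Lib.T2H4.HomRing.subsingleton_hom_inD_self_iff _ i).1 h1
  exact ModuleCat.isZero_of_subsingleton _

end Fibre

end Groth.Agent.Lib.T2H4.FibGor
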