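import Mathlib
import Groth.Agent.Lib.Helper1PCNil2
import Groth.Agent.Lib.Helper1DT4
import Groth.Prelude.Def_DTen6
import Groth.Agent.S6954
set_option backward.isDefEq.respectTransparency.types false

/-!
# Descent of perfectness along two surjections whose kernels multiply to zero (helper4)

For surjections `φ₁ : S → S₁`, `φ₂ : S → S₂` with `ker φ₁ * ker φ₂ = 0`: finiteness of modules,
tor amplitude, boundedness above, pseudo-coherence and perfectness of `X ∈ D(S)` descend from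
`X ⊗^L S₁` and `X ⊗^L S₂`.  Also transitivity of derived base change.
-/

set_option autoImplicit false
set_option maxHeartbeats 400000
universe u
open CategoryTheory CategoryTheory.Limits MonoidalCategory HomologicalComplex TensorProduct
attribute [local instance] HasDerivedCategory.standard

namespace Groth.Agent.Lib.T2H4.TwoIdeal

open DerivedCategory Pretriangulated Groth.Agent.Lib.Helper1.KF Groth.Agent.Lib.Helper1.Tor
  Groth.Agent.Lib.Helper1.DT Groth.Agent.Lib.Helper1.LDer Groth.Agent.Lib.Helper1.TorM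
  Groth.Agent.Lib.Helper1.TorN Groth.Agent.Lib.Helper1.TorO Groth.Agent.Lib.Helper1.PC
  Groth.Agent.Lib.Helper1.PCTower Groth.Agent.S14388 Groth.Agent.Lib.Helper1.PCNil

section Alg

variable {R : Type*} [CommRing R] {M : Type*} [AddCommGroup M] [Module R M]

lemma eq_top_of_sup_smul_eq_top₂ (I J : Ideal R) (hIJ : I * J = ⊥) (N : Submodule R M)
    (h1 : N ⊔ I • (⊤ : Submodule R M) = ⊤) (h2 : N ⊔ J • (⊤ : Submodule R M) = ⊤) : N = ⊤ := by
  have h3 : I • (⊤ : Submodule R M) ≤ N :=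
    calc I • (⊤ : Submodule R M) = I • (N ⊔ J • (⊤ : Submodule R M)) := by rw [h2]
      _ = I • N ⊔ I • (J • (⊤ : Submodule R M)) := Submodule.smul_sup _ _ _
      _ ≤ N := by
        refine sup_le Submodule.smul_le_right ?_
        rw [← Submodule.mul_smul, hIJ, Submodule.bot_smul]
        exact bot_le
  exact (sup_eq_left.2 h3).symm.trans h1

lemma exists_fg_sup_eq_top (P : Submodule R M) (h : Module.Finite R (M ⧸ P)) :
    ∃ N : Submodule R M, N.FG ∧ N ⊔ P = ⊤ := by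
  classical
  obtain ⟨s, hs⟩ := h.fg_top
  have hsurj := P.mkQ_surjective
  let t : Finset M := s.image (Function.surjInv hsurj)
  let N : Submodule R M := Submodule.span R (t : Set M)
  refine ⟨N, ⟨t, rfl⟩, ?_⟩
  rw [eq_top_iff]
  intro m _
  have hm : P.mkQ m ∈ Submodule.span R (s : Set (M ⧸ P)) := by rw [hs]; trivial
  have hmap : Submodule.span R (s : Set (M ⧸ P)) ≤ N.map P.mkQ := by
    rw [Submodule.span_le]
    intro x hx
    refine ⟨Function.surjInv hsurj x, Submodule.subset_span ?_, Function.surjInv_eq hsurj x⟩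
    exact Finset.mem_coe.2 (Finset.mem_image_of_mem _ hx)
  obtain ⟨n, hn, hnm⟩ := hmap hm
  have : m - n ∈ P := by
    rw [← Submodule.ker_mkQ P, LinearMap.mem_ker, map_sub, hnm, sub_self]
  have h2 : m = n + (m - n) := by abel
  rw [h2]
  exact Submodule.add_mem_sup hn this

lemma finite_of_finite_quotient_smul_top₂ (I J : Ideal R) (hIJ : I * J = ⊥)
    (hI : Module.Finite R (M ⧸ (I • (⊤ : Submodule R M))))
    (hJ : Module.Finite R (M ⧸ (J • (⊤ : Submodule R M)))) : Module.Finite R M := by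
  obtain ⟨N₁, hN₁, h1⟩ := exists_fg_sup_eq_top _ hI
  obtain ⟨N₂, hN₂, h2⟩ := exists_fg_sup_eq_top _ hJ
  have g1 : (N₁ ⊔ N₂) ⊔ I • (⊤ : Submodule R M) = ⊤ :=
    top_le_iff.1 (h1.symm.le.trans (sup_le_sup_right (le_sup_left : N₁ ≤ N₁ ⊔ N₂) _))
  have g2 : (N₁ ⊔ N₂) ⊔ J • (⊤ : Submodule R M) = ⊤ :=
    top_le_iff.1 (h2.symm.le.trans (sup_le_sup_right (le_sup_right : N₂ ≤ N₁ ⊔ N₂) _))
  have hN : (N₁ ⊔ N₂) = ⊤ := eq_top_of_sup_smul_eq_top₂ I J hIJ (N₁ ⊔ N₂) g1 g2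
  have hfg : (N₁ ⊔ N₂).FG := hN₁.sup hN₂
  rw [hN] at hfg
  exact ⟨hfg⟩

end Alg

section Ext

variable {R' R : Type u} [CommRing R'] [CommRing R] (φ : R' →+* R)

/-- `M ⧸ (ker φ) M` is finite if `M ⊗ R` is -/
theorem finite_quotient_of_finite_extendScalars (hφ : Function.Surjective φ)
    (M : ModuleCat.{u} R')
    (h : Module.Finite R ((ModuleCat.extendScalars φ).obj M)) :
    Module.Finite R' (M ⧸ (RingHom.ker φ • (⊤ : Submodule R' M))) := by
  letI : Algebra R' R := φ.toAlgebra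
  have h0 : Module.Finite R (R ⊗[R'] M) := h
  have hRfin : Module.Finite R' R := Module.Finite.of_surjective (Algebra.linearMap R' R) hφ
  have h1 : Module.Finite R' (R ⊗[R'] M) := Module.Finite.trans R _
  let f : R' →ₐ[R'] R := Algebra.ofId R' R
  have hf : Function.Surjective f := hφ
  let ψ : (R' ⧸ RingHom.ker f) ≃ₐ[R'] R := Ideal.quotientKerAlgEquivOfSurjective hf
  let e1 : R ⊗[R'] M ≃ₗ[R'] (R' ⧸ RingHom.ker f) ⊗[R'] M :=
    TensorProduct.congr ψ.symm.toLinearEquiv (LinearEquiv.refl R' M)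
  let e2 := TensorProduct.quotTensorEquivQuotSMul M (RingHom.ker f)
  have h2 : Module.Finite R' (M ⧸ (RingHom.ker f • (⊤ : Submodule R' M))) :=
    Module.Finite.equiv (e1.trans e2)
  exact h2

end Ext

section Two

variable {S S₁ S₂ : Type u} [CommRing S] [CommRing S₁] [CommRing S₂]
  (φ₁ : S →+* S₁) (φ₂ : S →+* S₂)

theorem finite_of_finite_extendScalars₂ (h₁ : Function.Surjective φ₁)
    (h₂ : Function.Surjective φ₂) (hker : RingHom.ker φ₁ * RingHom.ker φ₂ = ⊥)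
    (M : ModuleCat.{u} S)
    (hf₁ : Module.Finite S₁ ((ModuleCat.extendScalars φ₁).obj M))
    (hf₂ : Module.Finite S₂ ((ModuleCat.extendScalars φ₂).obj M)) : Module.Finite S M :=
  finite_of_finite_quotient_smul_top₂ _ _ hker
    (finite_quotient_of_finite_extendScalars φ₁ h₁ M hf₁)
    (finite_quotient_of_finite_extendScalars φ₂ h₂ M hf₂)

/-- two-ideal dévissage in a fixed degree -/
theorem exactAt_TC_of_two (I J : Ideal S) (hIJ : I * J = ⊥) (F : Cx S)
    (hFf : DRing.TermwiseFlat F) (i : ℤ)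
    (hI : ∀ (N : Type u) [AddCommGroup N] [Module S N], (∀ r ∈ I, ∀ x : N, r • x = 0) →
      ((TC (ModuleCat.of S N)).obj F).ExactAt i)
    (hJ : ∀ (N : Type u) [AddCommGroup N] [Module S N], (∀ r ∈ J, ∀ x : N, r • x = 0) →
      ((TC (ModuleCat.of S N)).obj F).ExactAt i)
    (N : Type u) [AddCommGroup N] [Module S N] :
    ((TC (ModuleCat.of S N)).obj F).ExactAt i := by
  let N' : Submodule S N := I • (⊤ : Submodule S N)
  have h1 : ((TC (ModuleCat.of S N')).obj F).ExactAt i := by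
    apply hJ N'
    intro r hr x
    apply Subtype.ext
    show r • (x : N) = 0
    refine Submodule.smul_induction_on x.2 ?_ ?_
    · intro s hs y _
      rw [smul_smul]
      have : r * s ∈ I * J := by
        rw [mul_comm r s]
        exact Ideal.mul_mem_mul hs hr
      rw [hIJ] at this
      rw [(Submodule.mem_bot S).1 this, zero_smul]
    · intro a b ha hb
      rw [smul_add, ha, hb, add_zero]
  have h3 : ((TC (ModuleCat.of S (N ⧸ N'))).obj F).ExactAt i := by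
    apply hI (N ⧸ N')
    intro r hr x
    induction x using Submodule.Quotient.induction_on with
    | _ y =>
      rw [← Submodule.Quotient.mk_smul, Submodule.Quotient.mk_eq_zero]
      exact Submodule.smul_mem_smul hr Submodule.mem_top
  let T : ShortComplex (ModuleCat.{u} S) :=
    ShortComplex.mk (ModuleCat.ofHom N'.subtype) (ModuleCat.ofHom N'.mkQ) (by
      ext x
      simp)
  have hT : T.ShortExact :=
    { exact := by
        rw [ShortComplex.ShortExact.moduleCat_exact_iff_function_exact]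
        exact LinearMap.exact_subtype_mkQ N'
      mono_f := (ModuleCat.mono_iff_injective _).2 N'.subtype_injective
      epi_g := (ModuleCat.epi_iff_surjective _).2 N'.mkQ_surjective }
  exact exactAt_TC_of_shortExact T hT F hFf i h1 h3

variable (h₁ : Function.Surjective φ₁) (h₂ : Function.Surjective φ₂)
  (hker : RingHom.ker φ₁ * RingHom.ker φ₂ = ⊥)

include h₁ h₂ hker

/-- exactness of `N ⊗ F` in degree `i` from exactness of `N₁ ⊗ (F ⊗ S₁)` and `N₂ ⊗ (F ⊗ S₂)` -/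
theorem exactAt_TC_of_ext₂ (F : Cx S) (hFf : DRing.TermwiseFlat F) (i : ℤ)
    (hx₁ : ∀ Nb : ModuleCat.{u} S₁, ((TC Nb).obj ((DTen.extCx φ₁).obj F)).ExactAt i)
    (hx₂ : ∀ Nb : ModuleCat.{u} S₂, ((TC Nb).obj ((DTen.extCx φ₂).obj F)).ExactAt i)
    (M : ModuleCat.{u} S) : ((TC M).obj F).ExactAt i := by
  refine exactAt_TC_of_two (RingHom.ker φ₁) (RingHom.ker φ₂) hker F hFf i ?_ ?_ M
  · intro N _ _ hN
    obtain ⟨Nb, ⟨e⟩⟩ := exists_iso_restrictScalars_of_ker_smul_eq_zero φ₁ h₁ N hN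
    exact exactAt_TC_of_iso e F i (exactAt_TC_restrict_of_exactAt_TC_ext φ₁ Nb F i (hx₁ Nb))
  · intro N _ _ hN
    obtain ⟨Nb, ⟨e⟩⟩ := exists_iso_restrictScalars_of_ker_smul_eq_zero φ₂ h₂ N hN
    exact exactAt_TC_of_iso e F i (exactAt_TC_restrict_of_exactAt_TC_ext φ₂ Nb F i (hx₂ Nb))

theorem torVan_of_torVan_extCx₂ (F : Cx S) (hFf : DRing.TermwiseFlat F) (a b : ℤ)
    (hv₁ : TorVan ((DTen.extCx φ₁).obj F) a b) (hv₂ : TorVan ((DTen.extCx φ₂).obj F) a b) :
    TorVan F a b := fun M i hi =>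
  exactAt_TC_of_ext₂ φ₁ φ₂ h₁ h₂ hker F hFf i (fun Nb => hv₁ Nb i hi) (fun Nb => hv₂ Nb i hi) M

variable [DRing.HasLBaseChange φ₁] [DRing.HasLBaseChange φ₂]

/-- tor amplitude descends along a pair of surjections with `ker φ₁ * ker φ₂ = 0` -/
theorem hasTorAmp_of_LBC₂ (X : Dual.D S) (a b : ℤ)
    (ht₁ : DRing.HasTorAmplitudeIn S₁ a b ((DRing.LBaseChange φ₁).obj X))
    (ht₂ : DRing.HasTorAmplitudeIn S₂ a b ((DRing.LBaseChange φ₂).obj X)) :
    DRing.HasTorAmplitudeIn S a b X := by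
  obtain ⟨F, hF, hproj, ⟨e⟩⟩ := exists_kproj_iso X
  have hFf : DRing.TermwiseFlat F := fun i =>
    have := hproj i
    have : Module.Projective S (F.X i) := ModuleCat.projective_of_module_projective _
    inferInstance
  obtain ⟨E₁, hE₁, hE₁f, ⟨eE₁⟩⟩ := ht₁
  obtain ⟨E₂, hE₂, hE₂f, ⟨eE₂⟩⟩ := ht₂
  have e₁ : Q.obj E₁ ≅ Q.obj ((DTen.extCx φ₁).obj F) :=
    eE₁ ≪≫ (DRing.LBaseChange φ₁).mapIso e.symm ≪≫ lbcIso φ₁ F
  have e₂ : Q.obj E₂ ≅ Q.obj ((DTen.extCx φ₂).obj F) :=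
    eE₂ ≪≫ (DRing.LBaseChange φ₂).mapIso e.symm ≪≫ lbcIso φ₂ F
  have hv₁ : TorVan ((DTen.extCx φ₁).obj F) a b :=
    torVan_of_iso_kflat _ E₁ (kflat_of_isKProjective _) a b hE₁ hE₁f e₁
  have hv₂ : TorVan ((DTen.extCx φ₂).obj F) a b :=
    torVan_of_iso_kflat _ E₂ (kflat_of_isKProjective _) a b hE₂ hE₂f e₂
  have hv : TorVan F a b := torVan_of_torVan_extCx₂ φ₁ φ₂ h₁ h₂ hker F hFf a b hv₁ hv₂
  exact hasTorAmp_of_iso e (hasTorAmp_of_torVan_kflat F (kflat_of_isKProjective F) a b hv)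

/-- boundedness above descends -/
theorem isLE_of_isLE_LBC₂ (X : Dual.D S) (c : ℤ)
    (hl₁ : ((DRing.LBaseChange φ₁).obj X).IsLE c) (hl₂ : ((DRing.LBaseChange φ₂).obj X).IsLE c) :
    X.IsLE c := by
  obtain ⟨F, hF, hproj, ⟨e⟩⟩ := exists_kproj_iso X
  have hFf : DRing.TermwiseFlat F := fun i =>
    have := hproj i
    have : Module.Projective S (F.X i) := ModuleCat.projective_of_module_projective _
    inferInstance
  have iso1 : (DRing.LBaseChange φ₁).obj X ≅ Q.obj ((DTen.extCx φ₁).obj F) :=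
    (DRing.LBaseChange φ₁).mapIso e.symm ≪≫ lbcIso φ₁ F
  have iso2 : (DRing.LBaseChange φ₂).obj X ≅ Q.obj ((DTen.extCx φ₂).obj F) :=
    (DRing.LBaseChange φ₂).mapIso e.symm ≪≫ lbcIso φ₂ F
  have hle1 : (Q.obj ((DTen.extCx φ₁).obj F)).IsLE c := tt.isLE_of_iso iso1 c
  have hle2 : (Q.obj ((DTen.extCx φ₂).obj F)).IsLE c := tt.isLE_of_iso iso2 c
  rw [DerivedCategory.isLE_Q_obj_iff, CochainComplex.isLE_iff] at hle1 hle2
  have hGK1 : KFlat ((DTen.extCx φ₁).obj F) := kflat_of_isKProjective _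
  have hGK2 : KFlat ((DTen.extCx φ₂).obj F) := kflat_of_isKProjective _
  have hFle : (Q.obj F).IsLE c := by
    rw [DerivedCategory.isLE_Q_obj_iff, CochainComplex.isLE_iff]
    intro i hi
    have h1 := exactAt_TC_of_ext₂ φ₁ φ₂ h₁ h₂ hker F hFf i
      (fun Nb => exactAt_TC_of_exactAt_above _ hGK1 c hle1 Nb i hi)
      (fun Nb => exactAt_TC_of_exactAt_above _ hGK2 c hle2 Nb i hi) (ModuleCat.of S S)
    rw [exactAt_TC_iff _ F (i - 1) i (i + 1) (by lia) rfl] at h1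
    rw [exactAt_iff_fexact F (i - 1) i (i + 1) (by lia) rfl]
    refine Function.Exact.of_ladder_linearEquiv_of_exact (e₁ := TensorProduct.lid S _)
      (e₂ := TensorProduct.lid S _) (e₃ := TensorProduct.lid S _) ?_ ?_ h1
    · ext x
      simp
    · ext x
      simp
  exact tt.isLE_of_iso e c

end Two


section PC1

variable {R' R : Type u} [CommRing R'] [CommRing R] (φ : R' →+* R) [DRing.HasLBaseChange φ]

lemma isPC'_of_iso {K K' : Dual.D R} (e : K ≅ K') (h : DRing.IsPseudoCoherent' R K) :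
    DRing.IsPseudoCoherent' R K' := by
  obtain ⟨E, c, h1, h2, ⟨eE⟩⟩ := h
  exact ⟨E, c, h1, h2, ⟨eE ≪≫ e⟩⟩

/-- `H^b(F) ⊗ R` is finite when `F ⊗^L R` is pseudo-coherent (`F` strictly `≤ b`, K-projective) -/
lemma finite_ext_homology_top (F₁ : Cx R') (b : ℤ) [F₁.IsStrictlyLE b] [F₁.IsKProjective]
    (hpc : DRing.IsPseudoCoherent' R ((DRing.LBaseChange φ).obj (Q.obj F₁))) :
    Module.Finite R ((ModuleCat.extendScalars φ).obj (F₁.homology b)) := by
  have iso1 : (DRing.LBaseChange φ).obj (Q.obj F₁) ≅ Q.obj ((DTen.extCx φ).obj F₁) := lbcIso φ F₁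
  obtain ⟨E, c, hEc, hEff, ⟨eE⟩⟩ := hpc
  have hex : ∀ i : ℤ, b < i → E.ExactAt i := by
    intro i hi
    have h1 : ((DTen.extCx φ).obj F₁).ExactAt i :=
      ShortComplex.exact_of_isZero_X₂ _
        ((ModuleCat.extendScalars φ).map_isZero (F₁.isZero_of_isStrictlyLE b i hi))
    exact exactAt_of_Q_iso (iso1.symm ≪≫ eE.symm) i h1
  have hker := (ker_d_finite_projective E b c hEc (fun i _ => by
    have := (hEff i).1
    have := (hEff i).2
    exact ⟨inferInstance, inferInstance⟩) hex b le_rfl).1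
  have hfinE : Module.Finite R (E.homology b) := finite_homology_of_ker E b hker
  have isoH : E.homology b ≅ ((DTen.extCx φ).obj F₁).homology b :=
    ((homologyFunctorFactors (ModuleCat.{u} R) b).app E).symm ≪≫
      (homologyFunctor (ModuleCat.{u} R) b).mapIso (eE ≪≫ iso1) ≪≫
      (homologyFunctorFactors (ModuleCat.{u} R) b).app _
  exact Module.Finite.equiv (isoH ≪≫ homologyExtIso φ F₁ b).toLinearEquiv

end PC1

section PC2

variable {S S₁ S₂ : Type u} [CommRing S] [CommRing S₁] [CommRing S₂]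
  (φ₁ : S →+* S₁) (φ₂ : S →+* S₂)
  (h₁ : Function.Surjective φ₁) (h₂ : Function.Surjective φ₂)
  (hker : RingHom.ker φ₁ * RingHom.ker φ₂ = ⊥)
  [DRing.HasLBaseChange φ₁] [DRing.HasLBaseChange φ₂]

include h₁ h₂ hker

theorem finite_HD_top₂ (X : Dual.D S) (b : ℤ) [X.IsLE b]
    (hpc₁ : DRing.IsPseudoCoherent' S₁ ((DRing.LBaseChange φ₁).obj X))
    (hpc₂ : DRing.IsPseudoCoherent' S₂ ((DRing.LBaseChange φ₂).obj X)) :
    Module.Finite S ((homologyFunctor (ModuleCat.{u} S) b).obj X) := by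
  obtain ⟨F₁, hle, hproj, ⟨e⟩⟩ := Groth.Agent.Lib.Helper1.ProjRes.exists_iso_Q_proj X b
  have hF₁b : DRing.VanishesAbove F₁ b := fun j hj => F₁.isZero_of_isStrictlyLE b j hj
  haveI hF₁K : F₁.IsKProjective := by
    apply isKProjective_of_vanishesAbove F₁ b hF₁b
    intro j
    have := hproj j
    exact ModuleCat.projective_of_module_projective _
  have hp₁ := isPC'_of_iso ((DRing.LBaseChange φ₁).mapIso e.symm) hpc₁
  have hp₂ := isPC'_of_iso ((DRing.LBaseChange φ₂).mapIso e.symm) hpc₂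
  have hfin3 : Module.Finite S (F₁.homology b) :=
    finite_of_finite_extendScalars₂ φ₁ φ₂ h₁ h₂ hker _
      (finite_ext_homology_top φ₁ F₁ b hp₁) (finite_ext_homology_top φ₂ F₁ b hp₂)
  have hfin4 : Module.Finite S ((HomologicalComplex.homologyFunctor (ModuleCat.{u} S)
      (ComplexShape.up ℤ) b).obj F₁) := hfin3
  exact Module.Finite.equiv (((homologyFunctorFactors (ModuleCat.{u} S) b).app F₁).symm ≪≫
    (homologyFunctor (ModuleCat.{u} S) b).mapIso e).toLinearEquiv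

theorem isPC_aux₂ :
    ∀ (n : ℕ) (X : Dual.D S) (b : ℤ), X.IsLE b →
      DRing.IsPseudoCoherent' S₁ ((DRing.LBaseChange φ₁).obj X) →
      DRing.IsPseudoCoherent' S₂ ((DRing.LBaseChange φ₂).obj X) →
      DRing.IsPseudoCoherent S (b + 1 - n) X := by
  obtain ⟨adj₁⟩ := Groth.Agent.S12898.result φ₁
  obtain ⟨adj₂⟩ := Groth.Agent.S12898.result φ₂
  letI : (DRing.LBaseChange φ₁).CommShift ℤ := adj₁.leftAdjointCommShift ℤ
  haveI : adj₁.CommShift ℤ := adj₁.commShift_of_rightAdjoint ℤ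
  haveI : (DRing.LBaseChange φ₁).IsTriangulated := adj₁.isTriangulated_leftAdjoint
  letI : (DRing.LBaseChange φ₂).CommShift ℤ := adj₂.leftAdjointCommShift ℤ
  haveI : adj₂.CommShift ℤ := adj₂.commShift_of_rightAdjoint ℤ
  haveI : (DRing.LBaseChange φ₂).IsTriangulated := adj₂.isTriangulated_leftAdjoint
  intro n
  induction n with
  | zero =>
    intro X b hX _ _
    have : X.IsLE (b + 1 - ((0 : ℕ) : ℤ) - 1) := by
      have e : b + 1 - ((0 : ℕ) : ℤ) - 1 = b := by simp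
      rw [e]
      exact hX
    exact isPC_of_isLE _ X
  | succ n ih =>
    intro X b hX hpc₁ hpc₂
    have hfin := finite_HD_top₂ φ₁ φ₂ h₁ h₂ hker X b hpc₁ hpc₂
    obtain ⟨F, ψ, hF, hψ⟩ := exists_single_conn X b hfin
    obtain ⟨C, v, w, hC⟩ := distinguished_cocone_triangle ψ
    have hCle : C.IsLE (b - 1) := (conn_iff_of_distTriang _ hC b).1 hψ
    have hs : ∀ m : ℤ, DRing.IsPseudoCoherent S m ((singleFunctor (ModuleCat.{u} S) b).obj F) :=
      fun m => isPC_of_rep m (rep_single F hF b)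
    have hLs₁ : DRing.IsPseudoCoherent' S₁
        ((DRing.LBaseChange φ₁).obj ((singleFunctor (ModuleCat.{u} S) b).obj F)) :=
      isPseudoCoherent'_of_forall _ (fun m => Groth.Agent.S2137.result φ₁ _ m (hs m))
    have hLs₂ : DRing.IsPseudoCoherent' S₂
        ((DRing.LBaseChange φ₂).obj ((singleFunctor (ModuleCat.{u} S) b).obj F)) :=
      isPseudoCoherent'_of_forall _ (fun m => Groth.Agent.S2137.result φ₂ _ m (hs m))
    have hLT₁ := (DRing.LBaseChange φ₁).map_distinguished _ hC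
    have hLT₂ := (DRing.LBaseChange φ₂).map_distinguished _ hC
    have hLC₁ : DRing.IsPseudoCoherent' S₁ ((DRing.LBaseChange φ₁).obj C) :=
      (Groth.Agent.S7017.result S₁ _ hLT₁).1 hLs₁ hpc₁
    have hLC₂ : DRing.IsPseudoCoherent' S₂ ((DRing.LBaseChange φ₂).obj C) :=
      (Groth.Agent.S7017.result S₂ _ hLT₂).1 hLs₂ hpc₂
    have ihC := ih C (b - 1) hCle hLC₁ hLC₂
    have e : b - 1 + 1 - (n : ℤ) = b + 1 - ((n + 1 : ℕ) : ℤ) := by push_cast; ring
    rw [e] at ihC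
    exact isPC_obj₂ _ hC _ (hs _) ihC

/-- pseudo-coherence descends along a pair of surjections with `ker φ₁ * ker φ₂ = 0` -/
theorem isPseudoCoherent'_of_LBC₂ (X : Dual.D S)
    (hpc₁ : DRing.IsPseudoCoherent' S₁ ((DRing.LBaseChange φ₁).obj X))
    (hpc₂ : DRing.IsPseudoCoherent' S₂ ((DRing.LBaseChange φ₂).obj X)) :
    DRing.IsPseudoCoherent' S X := by
  obtain ⟨E₁, c₁, hEc₁, hEff₁, ⟨eE₁⟩⟩ := id hpc₁
  obtain ⟨E₂, c₂, hEc₂, hEff₂, ⟨eE₂⟩⟩ := id hpc₂
  have hE₁le : E₁.IsStrictlyLE c₁ := by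
    rw [CochainComplex.isStrictlyLE_iff]
    exact hEc₁
  have hE₂le : E₂.IsStrictlyLE c₂ := by
    rw [CochainComplex.isStrictlyLE_iff]
    exact hEc₂
  have hL₁ : ((DRing.LBaseChange φ₁).obj X).IsLE c₁ := tt.isLE_of_iso eE₁ c₁
  have hL₂ : ((DRing.LBaseChange φ₂).obj X).IsLE c₂ := tt.isLE_of_iso eE₂ c₂
  have hL₁' : ((DRing.LBaseChange φ₁).obj X).IsLE (max c₁ c₂) :=
    tt.isLE_of_le _ c₁ _ (le_max_left _ _)
  have hL₂' : ((DRing.LBaseChange φ₂).obj X).IsLE (max c₁ c₂) :=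
    tt.isLE_of_le _ c₂ _ (le_max_right _ _)
  have hX : X.IsLE (max c₁ c₂) := isLE_of_isLE_LBC₂ φ₁ φ₂ h₁ h₂ hker X _ hL₁' hL₂'
  apply isPseudoCoherent'_of_forall
  intro m
  have g1 := isPC_aux₂ φ₁ φ₂ h₁ h₂ hker (max c₁ c₂ + 1 - m).toNat X (max c₁ c₂) hX hpc₁ hpc₂
  exact isPC_mono (by lia) g1

/-- perfectness descends along a pair of surjections with `ker φ₁ * ker φ₂ = 0` -/
theorem isPerfect_of_LBC₂ (X : Dual.D S)
    (hp₁ : DRing.IsPerfect S₁ ((DRing.LBaseChange φ₁).obj X))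
    (hp₂ : DRing.IsPerfect S₂ ((DRing.LBaseChange φ₂).obj X)) :
    DRing.IsPerfect S X := by
  obtain ⟨hpc₁, a₁, b₁, hab₁⟩ := (Groth.Agent.S6954.result S₁ _).1 hp₁
  obtain ⟨hpc₂, a₂, b₂, hab₂⟩ := (Groth.Agent.S6954.result S₂ _).1 hp₂
  rw [Groth.Agent.S6954.result]
  refine ⟨isPseudoCoherent'_of_LBC₂ φ₁ φ₂ h₁ h₂ hker X hpc₁ hpc₂, min a₁ a₂, max b₁ b₂, ?_⟩
  exact hasTorAmp_of_LBC₂ φ₁ φ₂ h₁ h₂ hker X _ _
    (hasTorAmp_mono (min_le_left _ _) (le_max_left _ _) hab₁)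
    (hasTorAmp_mono (min_le_right _ _) (le_max_right _ _) hab₂)

end PC2


section Trans

variable {R S T : Type u} [CommRing R] [CommRing S] [CommRing T] (π : R →+* S) (φ : S →+* T)
  (π' : R →+* T) [DRing.HasLBaseChange π] [DRing.HasLBaseChange φ] [DRing.HasLBaseChange π']

/-- transitivity of derived base change -/
lemma nonempty_lbc_trans (h : φ.comp π = π') (K : Dual.D R) :
    Nonempty ((DRing.LBaseChange φ).obj ((DRing.LBaseChange π).obj K) ≅
      (DRing.LBaseChange π').obj K) := by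
  subst h
  obtain ⟨P, hP, -, ⟨e⟩⟩ := exists_kproj_iso K
  haveI : ((DTen.extCx π).obj P).IsKProjective := inferInstance
  exact ⟨(DRing.LBaseChange φ).mapIso ((DRing.LBaseChange π).mapIso e.symm ≪≫ lbcIso π P) ≪≫
    lbcIso φ ((DTen.extCx π).obj P) ≪≫ Q.mapIso ((DTen.extCompCx π φ).app P) ≪≫
    (lbcIso (φ.comp π) P).symm ≪≫ (DRing.LBaseChange (φ.comp π)).mapIso e⟩

end Trans

end Groth.Agent.Lib.T2H4.TwoIdeal
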