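import Groth.Agent.Lib.T2H4FibGor2
import Groth.Agent.Lib.T2H4GorOpen
import Groth.Agent.Lib.Helper28FlatNormal
import Groth.Agent.Lib.Helper5GorRing
import Groth.Agent.Lib.T2H4TwoIdeal

/-!
# Gorenstein fibres from base change of dualizing complexes (helper4)
-/

set_option autoImplicit false
set_option linter.style.haveILetI false
set_option backward.isDefEq.respectTransparency.types false
universe u
open CategoryTheory CategoryTheory.Limits TensorProduct
attribute [local instance] HasDerivedCategory.standard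

namespace Groth.Agent.Lib.T2H4.FibGor

open DerivedCategory Pretriangulated Groth.Agent.Lib.T2H4.LocKL
  Groth.Agent.Lib.T2H4.TorIndep Groth.Agent.Lib.T2H4.FlatHom Groth.Agent.Lib.T2H4.DComp
  Groth.Agent.Lib.Helper1.Extend Groth.Agent.Lib.Helper1.Restrict Groth.Agent.Lib.T2H4.LocalDual
  Groth.Agent.Lib.T2H4.Uniq Groth.Agent.Lib.T2H4.GorOpen Groth.Agent.Lib.T2H4.DualField
  Groth.Agent.Lib.T2H4.DualFinite

section LemmaY

variable {R : Type u} [CommRing R] [IsNoetherianRing R] (S : Type u) [CommRing S] [Algebra R S]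
  [Module.Flat R S] [DRing.HasLBaseChange (algebraMap R S)] [IsNoetherianRing S]

/-- **Lemma Y**: for a flat map `R → S` of noetherian rings, and `m` a maximal ideal of `R` such
that `S/mS` is local: if `K` and `K ⊗ S` are dualizing then `S/mS` is Gorenstein. -/
theorem gorenstein_quot_map (m : Ideal R) [m.IsMaximal]
    [IsLocalRing (S ⧸ m.map (algebraMap R S))]
    (K : Dual.D R) (hK : Dual.IsDualizing R K)
    (hKS : Dual.IsDualizing S ((DRing.LBaseChange (algebraMap R S)).obj K)) :
    LocCoh.IsGorensteinLocalRing (S ⧸ m.map (algebraMap R S)) := by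
  let F := S ⧸ m.map (algebraMap R S)
  obtain ⟨a, b, hab⟩ := hK.finite_injective_dimension
  have hKz : ∀ i : ℤ, i < a → IsZero ((homologyFunctor (ModuleCat.{u} R) i).obj K) := by
    intro i hi
    have := (Groth.Agent.Lib.T2H4.HomRing.subsingleton_hom_inD_self_iff K i).1
      (hab R i (Or.inl hi))
    exact ModuleCat.isZero_of_subsingleton _
  haveI : K.IsGE a := (DerivedCategory.isGE_iff K a).2 hKz
  obtain ⟨d, hvan, ⟨θ⟩⟩ := ext_residueField_single_degree K hK m
  obtain ⟨ψ⟩ := nonempty_RG_lbc_iso_single S m K a d hvan θ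
  have hY : Dual.IsDualizing F ((RG (algebraMap S F)).obj
      ((DRing.LBaseChange (algebraMap R S)).obj K)) :=
    isDualizing_rightAdjoint (RG (algebraMap S F)) (adjRG (algebraMap S F)) _ hKS
  have h2 : Dual.IsDualizing F ((Dual.inD F F)⟦-d⟧) :=
    isDualizing_of_iso (ψ ≪≫ (shiftSingleIso F (ModuleCat.of F F) (-d) d (by lia)).symm) hY
  have h3 : Dual.IsDualizing F (Dual.inD F F) :=
    isDualizing_of_iso ((shiftFunctorCompIsoId (Dual.D F) (-d) d (by lia)).app (Dual.inD F F))
      (Groth.Agent.Lib.T2H4.DualShift.isDualizing_shift _ h2 d)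
  exact (Groth.Agent.S11179.result F).2 h3

end LemmaY

section General

variable {A B : Type u} [CommRing A] [CommRing B] [IsNoetherianRing A] [IsNoetherianRing B]
  [Algebra A B] [Module.Flat A B] [DRing.HasLBaseChange (algebraMap A B)]

/-- if `ω` and `ω ⊗ B` are dualizing (`A → B` flat), the fibre local rings are Gorenstein. -/
theorem gorenstein_fibLocRing (ω : Dual.D A) (hω : Dual.IsDualizing A ω)
    (hωB : Dual.IsDualizing B ((DRing.LBaseChange (algebraMap A B)).obj ω))
    (Q : Ideal B) [Q.IsPrime] :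
    LocCoh.IsGorensteinLocalRing (EGA4.FibLocRing A B Q) := by
  let p : Ideal A := Q.comap (algebraMap A B)
  haveI hlies : Q.LiesOver p := ⟨rfl⟩
  let R := Localization.AtPrime p
  let S := Localization.AtPrime Q
  letI alg : Algebra R S := Localization.AtPrime.algebraOfLiesOver p Q
  haveI hflatB : Module.Flat B S := IsLocalization.flat _ Q.primeCompl
  haveI hflatA : Module.Flat A S := Module.Flat.trans A B _
  haveI hflat : Module.Flat R S :=
    (Module.flat_iff_of_isLocalization R p.primeCompl _).mpr hflatA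
  haveI : IsNoetherianRing R := IsLocalization.isNoetherianRing p.primeCompl R inferInstance
  haveI : IsNoetherianRing S := IsLocalization.isNoetherianRing Q.primeCompl S inferInstance
  have hmap : p.map (algebraMap A S) = (IsLocalRing.maximalIdeal R).map (algebraMap R S) := by
    rw [← IsLocalization.AtPrime.map_eq_maximalIdeal p R, Ideal.map_map,
      ← IsScalarTower.algebraMap_eq]
  haveI h1 : DRing.HasLBaseChange (algebraMap A R) := LDerExist.hasLBaseChange _
  haveI h2 : DRing.HasLBaseChange (algebraMap R S) := LDerExist.hasLBaseChange _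
  haveI h3 : DRing.HasLBaseChange (algebraMap A S) := LDerExist.hasLBaseChange _
  haveI h4 : DRing.HasLBaseChange (algebraMap B S) := LDerExist.hasLBaseChange _
  let K : Dual.D R := (DRing.LBaseChange (algebraMap A R)).obj ω
  have hK : Dual.IsDualizing R K := isDualizing_lbc p.primeCompl R ω hω
  have hB : Dual.IsDualizing S ((DRing.LBaseChange (algebraMap B S)).obj
      ((DRing.LBaseChange (algebraMap A B)).obj ω)) := isDualizing_lbc Q.primeCompl S _ hωB
  obtain ⟨i1⟩ := Groth.Agent.Lib.T2H4.TwoIdeal.nonempty_lbc_trans (algebraMap A R) (algebraMap R S)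
    (algebraMap A S) (IsScalarTower.algebraMap_eq A R S).symm ω
  obtain ⟨i2⟩ := Groth.Agent.Lib.T2H4.TwoIdeal.nonempty_lbc_trans (algebraMap A B) (algebraMap B S)
    (algebraMap A S) (IsScalarTower.algebraMap_eq A B S).symm ω
  have hKS : Dual.IsDualizing S ((DRing.LBaseChange (algebraMap R S)).obj K) :=
    isDualizing_of_iso (i2 ≪≫ i1.symm) hB
  haveI hloc : IsLocalRing (EGA4.FibLocRing A B Q) :=
    Groth.Agent.Lib.Helper28.isLocalRing_fibLocRing (A := A) Q
  let e : (S ⧸ (IsLocalRing.maximalIdeal R).map (algebraMap R S)) ≃+* EGA4.FibLocRing A B Q :=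
    Ideal.quotEquivOfEq hmap.symm
  haveI : IsLocalRing (S ⧸ (IsLocalRing.maximalIdeal R).map (algebraMap R S)) :=
    e.symm.isLocalRing
  haveI := gorenstein_quot_map S (IsLocalRing.maximalIdeal R) K hK hKS
  exact Groth.Agent.Lib.Helper5.GorRing.gorLocal_of_ringEquiv e


/-- if `ω` and `ω ⊗ B` are dualizing (`A → B` flat), the fibre rings are Gorenstein. -/
theorem gorenstein_fiber (ω : Dual.D A) (hω : Dual.IsDualizing A ω)
    (hωB : Dual.IsDualizing B ((DRing.LBaseChange (algebraMap A B)).obj ω))
    (p : Ideal A) [p.IsPrime] :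
    LocCoh.IsGorensteinRing (p.Fiber B) :=
  (Groth.Agent.Lib.Helper5.GorRing.forall_gor_fiber_iff (A := A) (B := B)).2
    (fun Q _ => gorenstein_fibLocRing ω hω hωB Q) p

end General

end Groth.Agent.Lib.T2H4.FibGor
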