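import Groth.Agent.Lib.T2H4FibGor3
import Groth.Agent.Lib.T2H4DimFun1
import Groth.Agent.Lib.T2H4Shriek
import Groth.Agent.Lib.Helper29Gorenstein

/-!
# Top `Ext` bound for base change of dualizing complexes along maps with Gorenstein fibres (helper4)
-/

set_option autoImplicit false
set_option linter.style.haveILetI false
set_option backward.isDefEq.respectTransparency.types false
universe u
open CategoryTheory CategoryTheory.Limits TensorProduct
attribute [local instance] HasDerivedCategory.standard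

namespace Groth.Agent.Lib.T2H4.FibGor

open DerivedCategory Pretriangulated Groth.Agent.Lib.T2H4.LocKL
  Groth.Agent.Lib.T2H4.TorIndep Groth.Agent.Lib.T2H4.FlatHom Groth.Agent.Lib.T2H4.DComp
  Groth.Agent.Lib.Helper1.Extend Groth.Agent.Lib.Helper1.Restrict Groth.Agent.Lib.T2H4.LocalDual
  Groth.Agent.Lib.T2H4.Uniq Groth.Agent.Lib.T2H4.GorOpen Groth.Agent.Lib.T2H4.DualField
  Groth.Agent.Lib.T2H4.DualFinite

section Adj

variable {S F : Type u} [CommRing S] [CommRing F] (f : S →+* F)

/-- the adjunction bijection `Hom_S(N, Z[i]) = Hom_F(N, RHom_S(F, Z)[i])` for an `F`-module `N`. -/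
lemma nonempty_adj_equiv (N : ModuleCat.{u} F) (Z : Dual.D S) (i : ℤ) :
    Nonempty (((DerivedCategory.singleFunctor (ModuleCat.{u} S) 0).obj
        ((ModuleCat.restrictScalars f).obj N) ⟶ Z⟦i⟧) ≃
      ((DerivedCategory.singleFunctor (ModuleCat.{u} F) 0).obj N ⟶ ((RG f).obj Z)⟦i⟧)) := by
  let R := RG f
  let adj := adjRG f
  letI : R.CommShift ℤ := adj.rightAdjointCommShift ℤ
  let X := (DerivedCategory.singleFunctor (ModuleCat.{u} F) 0).obj N
  let iso2 := restrictDSingleIso f N 0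
  let iso1 : R.obj (Z⟦i⟧) ≅ (R.obj Z)⟦i⟧ := (R.commShiftIso i).app Z
  exact ⟨((Iso.homCongr iso2.symm (Iso.refl (Z⟦i⟧))).trans (adj.homEquiv X (Z⟦i⟧))).trans
    (Iso.homCongr (Iso.refl X) iso1)⟩

end Adj

section LemmaZ

variable {R : Type u} [CommRing R] [IsNoetherianRing R] (S : Type u) [CommRing S] [Algebra R S]
  [Module.Flat R S] [DRing.HasLBaseChange (algebraMap R S)]

/-- **Lemma Z**: vanishing of `Ext^i_S(N, K ⊗ S)` for `S/𝔪S`-modules `N`, when `S/𝔪S` has finite
injective dimension. -/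
theorem subsingleton_hom_restrict_lbc (m : Ideal R) (K : Dual.D R) (a : ℤ) [K.IsGE a] (d : ℤ)
    (hvan : ∀ i : ℤ, i ≠ d → Subsingleton (Dual.inD R (R ⧸ m) ⟶ K⟦i⟧))
    (θ : (Dual.inD R (R ⧸ m) ⟶ K⟦d⟧) ≃ₗ[R] (R ⧸ m)) (r : ℕ)
    (hF : HasInjectiveDimensionLT (ModuleCat.of (S ⧸ m.map (algebraMap R S))
      (S ⧸ m.map (algebraMap R S))) (r + 1))
    (N : ModuleCat.{u} (S ⧸ m.map (algebraMap R S))) (i : ℤ) (hi : d + r < i) :
    Subsingleton ((DerivedCategory.singleFunctor (ModuleCat.{u} S) 0).obj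
        ((ModuleCat.restrictScalars (algebraMap S (S ⧸ m.map (algebraMap R S)))).obj N) ⟶
      ((DRing.LBaseChange (algebraMap R S)).obj K)⟦i⟧) := by
  let F := S ⧸ m.map (algebraMap R S)
  obtain ⟨ψ⟩ := nonempty_RG_lbc_iso_single S m K a d hvan θ
  obtain ⟨e⟩ := nonempty_adj_equiv (algebraMap S F) N ((DRing.LBaseChange (algebraMap R S)).obj K) i
  let X := (DerivedCategory.singleFunctor (ModuleCat.{u} F) 0).obj N
  let iso : ((RG (algebraMap S F)).obj ((DRing.LBaseChange (algebraMap R S)).obj K))⟦i⟧ ≅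
      (Dual.inD F F)⟦i - d⟧ :=
    (shiftFunctor (Dual.D F) i).mapIso
      (ψ ≪≫ (shiftSingleIso F (ModuleCat.of F F) (-d) d (by lia)).symm) ≪≫
      ((shiftFunctorAdd' (Dual.D F) (-d) i (i - d) (by lia)).app (Dual.inD F F)).symm
  have h1 : Subsingleton (X ⟶ (Dual.inD F F)⟦i - d⟧) :=
    Groth.Agent.S11179.subsingleton_hom_of_id N (ModuleCat.of F F) (r + 1) hF (i - d)
      (by push_cast; lia)
  have h2 : Subsingleton (X ⟶ ((RG (algebraMap S F)).obj
      ((DRing.LBaseChange (algebraMap R S)).obj K))⟦i⟧) :=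
    (Iso.homCongr (Iso.refl X) iso).subsingleton
  exact e.subsingleton

end LemmaZ

section LemmaV

variable {B : Type u} [CommRing B] [IsNoetherianRing B]

/-- **Lemma V**: `Ext^i_B(B/𝔫, Z)` vanishes if it does after localizing at the maximal ideal `𝔫`. -/
theorem subsingleton_hom_of_localization (n : Ideal B) [n.IsMaximal]
    [DRing.HasLBaseChange (algebraMap B (Localization.AtPrime n))] (Z : Dual.D B) (a : ℤ)
    [Z.IsGE a] (i : ℤ)
    (h : Subsingleton (Dual.inD (Localization.AtPrime n)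
        (Localization.AtPrime n ⧸ IsLocalRing.maximalIdeal (Localization.AtPrime n)) ⟶
      ((DRing.LBaseChange (algebraMap B (Localization.AtPrime n))).obj Z)⟦i⟧)) :
    Subsingleton (Dual.inD B (B ⧸ n) ⟶ Z⟦i⟧) := by
  let S := Localization.AtPrime n
  haveI : Module.Flat B S := IsLocalization.flat _ n.primeCompl
  obtain ⟨e3⟩ := nonempty_inD_quot_map_iso S n
  have hmap : n.map (algebraMap B S) = IsLocalRing.maximalIdeal S :=
    Localization.AtPrime.map_eq_maximalIdeal
  rw [← hmap] at h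
  have h' : Subsingleton ((DRing.LBaseChange (algebraMap B S)).obj (Dual.inD B (B ⧸ n)) ⟶
      ((DRing.LBaseChange (algebraMap B S)).obj Z)⟦i⟧) :=
    ⟨fun f g => by
      rw [← cancel_epi e3.hom]
      exact h.elim _ _⟩
  have h2 := (Groth.Agent.Lib.T2H4.DimFun.subsingleton_hom_lbc_iff n.primeCompl S
    (Dual.inD B (B ⧸ n)) Z a 0 0 (isZero_HD_inD _) (finite_HD_inD (B ⧸ n)) i).1 h'
  have hkill : ∀ (x : B), x ∈ n → ∀ f : Dual.inD B (B ⧸ n) ⟶ Z⟦i⟧, x • f = 0 := by
    intro x hx f
    have h1 : x • 𝟙 (ModuleCat.of B (B ⧸ n)) = 0 := by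
      apply ModuleCat.hom_ext
      apply LinearMap.ext
      intro y
      obtain ⟨y, rfl⟩ := Ideal.Quotient.mk_surjective y
      show x • (Ideal.Quotient.mk n y) = 0
      rw [Algebra.smul_def, Ideal.Quotient.algebraMap_eq, ← map_mul,
        Ideal.Quotient.eq_zero_iff_mem]
      exact n.mul_mem_right _ hx
    have h2 : x • f = (singleFunctor (ModuleCat.{u} B) 0).map
        (x • 𝟙 (ModuleCat.of B (B ⧸ n))) ≫ f := by
      rw [singleFunctor_map_smul, CategoryTheory.Functor.map_id, Linear.smul_comp,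
        Category.id_comp]
    rw [h2, h1, Functor.map_zero, zero_comp]
  have key : ∀ f : Dual.inD B (B ⧸ n) ⟶ Z⟦i⟧, f = 0 := by
    intro f
    obtain ⟨s, hs, hsf⟩ := h2 f
    obtain ⟨y, x, hx, hyx⟩ := Ideal.IsMaximal.exists_inv (I := n) inferInstance hs
    calc f = (1 : B) • f := (one_smul _ _).symm
      _ = (y * s + x) • f := by rw [hyx]
      _ = y • (s • f) + x • f := by rw [add_smul, mul_smul]
      _ = 0 := by rw [hsf, smul_zero, hkill x hx f, add_zero]
  exact ⟨fun f g => (key f).trans (key g).symm⟩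

end LemmaV

section LemmaW

/-- restriction of scalars of an `F`-module with a compatible `S`-structure. -/
noncomputable def restrictEquiv (S F : Type u) [CommRing S] [CommRing F] [Algebra S F]
    (N : Type u) [AddCommGroup N] [Module F N] [Module S N] [IsScalarTower S F N] :
    ((ModuleCat.restrictScalars (algebraMap S F)).obj (ModuleCat.of F N)) ≃ₗ[S] N where
  toFun x := x
  invFun x := x
  map_add' _ _ := rfl
  map_smul' s x := by
    show (algebraMap S F s) • (show N from x) = s • (show N from x)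
    exact algebraMap_smul F s _
  left_inv _ := rfl
  right_inv _ := rfl

variable {A B : Type u} [CommRing A] [CommRing B] [IsNoetherianRing A] [IsNoetherianRing B]
  [Algebra A B] [Module.Flat A B] [DRing.HasLBaseChange (algebraMap A B)]

omit [IsNoetherianRing B] in
/-- **Lemma W**: the top `Ext` bound at a prime `Q` of `B` with Gorenstein fibre local ring of
dimension `≤ r`. -/
theorem subsingleton_hom_residue_lbc (ω : Dual.D A) (hω : Dual.IsDualizing A ω) (a b : ℤ)
    (hab : ∀ (M : Type u) [AddCommGroup M] [Module A M] (i : ℤ), (i < a ∨ b < i) →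
      Subsingleton (Dual.inD A M ⟶ ω⟦i⟧))
    (Q : Ideal B) [Q.IsPrime] (r : ℕ)
    (hG : LocCoh.IsGorensteinLocalRing (EGA4.FibLocRing A B Q))
    (hdim : ringKrullDim (EGA4.FibLocRing A B Q) ≤ r)
    [DRing.HasLBaseChange (algebraMap B (Localization.AtPrime Q))] (i : ℤ) (hi : b + r < i) :
    Subsingleton (Dual.inD (Localization.AtPrime Q)
        (Localization.AtPrime Q ⧸ IsLocalRing.maximalIdeal (Localization.AtPrime Q)) ⟶
      ((DRing.LBaseChange (algebraMap B (Localization.AtPrime Q))).obj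
        ((DRing.LBaseChange (algebraMap A B)).obj ω))⟦i⟧) := by
  let p : Ideal A := Q.comap (algebraMap A B)
  haveI hlies : Q.LiesOver p := ⟨rfl⟩
  let R := Localization.AtPrime p
  let S := Localization.AtPrime Q
  letI alg : Algebra R S := Localization.AtPrime.algebraOfLiesOver p Q
  haveI hflatB : Module.Flat B S := IsLocalization.flat _ Q.primeCompl
  haveI hflatA : Module.Flat A S := Module.Flat.trans A B _
  haveI hflatR : Module.Flat A R := IsLocalization.flat _ p.primeCompl
  haveI hflat : Module.Flat R S :=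
    (Module.flat_iff_of_isLocalization R p.primeCompl _).mpr hflatA
  haveI : IsNoetherianRing R := IsLocalization.isNoetherianRing p.primeCompl R inferInstance
  have hmap : p.map (algebraMap A S) = (IsLocalRing.maximalIdeal R).map (algebraMap R S) := by
    rw [← IsLocalization.AtPrime.map_eq_maximalIdeal p R, Ideal.map_map,
      ← IsScalarTower.algebraMap_eq]
  haveI h1 : DRing.HasLBaseChange (algebraMap A R) := LDerExist.hasLBaseChange _
  haveI h2 : DRing.HasLBaseChange (algebraMap R S) := LDerExist.hasLBaseChange _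
  haveI h3 : DRing.HasLBaseChange (algebraMap A S) := LDerExist.hasLBaseChange _
  let K : Dual.D R := (DRing.LBaseChange (algebraMap A R)).obj ω
  have hK : Dual.IsDualizing R K := isDualizing_lbc p.primeCompl R ω hω
  obtain ⟨i1⟩ := Groth.Agent.Lib.T2H4.TwoIdeal.nonempty_lbc_trans (algebraMap A R) (algebraMap R S)
    (algebraMap A S) (IsScalarTower.algebraMap_eq A R S).symm ω
  obtain ⟨i2⟩ := Groth.Agent.Lib.T2H4.TwoIdeal.nonempty_lbc_trans (algebraMap A B) (algebraMap B S)
    (algebraMap A S) (IsScalarTower.algebraMap_eq A B S).symm ω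
  -- `ω` is bounded below
  have hKz : ∀ j : ℤ, j < a → IsZero ((homologyFunctor (ModuleCat.{u} A) j).obj ω) := by
    intro j hj
    have := (Groth.Agent.Lib.T2H4.HomRing.subsingleton_hom_inD_self_iff ω j).1
      (hab A j (Or.inl hj))
    exact ModuleCat.isZero_of_subsingleton _
  haveI : ω.IsGE a := (DerivedCategory.isGE_iff ω a).2 hKz
  haveI : K.IsGE a := Groth.Agent.Lib.T2H4.Shriek.isGE_lbc_of_flat A R ω a inferInstance
  obtain ⟨d, hvan, ⟨θ⟩⟩ := ext_residueField_single_degree K hK (IsLocalRing.maximalIdeal R)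
  -- `d ≤ b`
  have hd : d ≤ b := by
    by_contra hlt
    push Not at hlt
    have h1 := subsingleton_hom_quot_map R ω a p d (hab (A ⧸ p) d (Or.inr hlt))
    rw [Localization.AtPrime.map_eq_maximalIdeal] at h1
    haveI : Nontrivial (R ⧸ IsLocalRing.maximalIdeal R) :=
      Ideal.Quotient.nontrivial_iff.2 (IsLocalRing.maximalIdeal.isMaximal R).ne_top
    have h2 : Subsingleton (R ⧸ IsLocalRing.maximalIdeal R) := θ.symm.toEquiv.subsingleton
    exact not_subsingleton _ h2
  -- the fibre ring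
  let I : Ideal S := (IsLocalRing.maximalIdeal R).map (algebraMap R S)
  let e : (S ⧸ I) ≃+* EGA4.FibLocRing A B Q := Ideal.quotEquivOfEq hmap.symm
  haveI hGF : LocCoh.IsGorensteinLocalRing (S ⧸ I) :=
    Groth.Agent.Lib.Helper5.GorRing.gorLocal_of_ringEquiv e.symm
  have hdimF : ringKrullDim (S ⧸ I) ≤ r := (ringKrullDim_eq_of_ringEquiv e).trans_le hdim
  haveI : Nontrivial (S ⧸ I) := hGF.toIsLocalRing.toNontrivial
  obtain ⟨n, hn⟩ : ∃ n : ℕ, ringKrullDim (S ⧸ I) = n := by
    have h0 : (0 : WithBot ℕ∞) ≤ ringKrullDim (S ⧸ I) := ringKrullDim_nonneg_of_nontrivial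
    have hne : ringKrullDim (S ⧸ I) ≠ ⊥ := fun hb => by rw [hb] at h0; simp at h0
    obtain ⟨x, hx⟩ := WithBot.ne_bot_iff_exists.1 hne
    have hxr : x ≤ (r : ℕ∞) := by
      rw [← hx] at hdimF
      exact_mod_cast hdimF
    have hxt : x ≠ ⊤ := fun ht => by rw [ht] at hxr; simp at hxr
    obtain ⟨n, hn⟩ := ENat.ne_top_iff_exists.1 hxt
    exact ⟨n, by rw [← hx, ← hn]; rfl⟩
  have hnr : n ≤ r := by
    rw [hn] at hdimF
    exact_mod_cast hdimF
  have hF : HasInjectiveDimensionLT (ModuleCat.of (S ⧸ I) (S ⧸ I)) (r + 1) :=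
    haveI := (Groth.Agent.Lib.Helper29Gorenstein.depth_eq_and_hasInjectiveDimensionLT
      (S ⧸ I) n hn).2
    hasInjectiveDimensionLT_of_ge _ (n + 1) (r + 1) (by lia)
  -- the residue field as an `S/I`-module
  have hIJ : I ≤ IsLocalRing.maximalIdeal S := by
    have : IsLocalHom (algebraMap R S) := by
      rw [RingHom.algebraMap_toAlgebra]
      exact Localization.isLocalHom_localRingHom p Q (algebraMap A B) Ideal.LiesOver.over
    exact ((IsLocalRing.local_hom_TFAE (algebraMap R S)).out 0 2).1 this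
  let J' : Ideal (S ⧸ I) := (IsLocalRing.maximalIdeal S).map (Ideal.Quotient.mkₐ S I)
  let N : ModuleCat.{u} (S ⧸ I) := ModuleCat.of (S ⧸ I) ((S ⧸ I) ⧸ J')
  have hZ := subsingleton_hom_restrict_lbc S (IsLocalRing.maximalIdeal R) K a d hvan θ r hF N i
    (by lia)
  let eN : (S ⧸ IsLocalRing.maximalIdeal S) ≃ₗ[S]
      ((ModuleCat.restrictScalars (algebraMap S (S ⧸ I))).obj N) :=
    (DoubleQuot.quotQuotEquivQuotOfLEₐ S hIJ).symm.toLinearEquiv ≪≫ₗ
      (restrictEquiv S (S ⧸ I) ((S ⧸ I) ⧸ J')).symm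
  let isoN : Dual.inD S (S ⧸ IsLocalRing.maximalIdeal S) ≅
      (DerivedCategory.singleFunctor (ModuleCat.{u} S) 0).obj
        ((ModuleCat.restrictScalars (algebraMap S (S ⧸ I))).obj N) :=
    (DerivedCategory.singleFunctor (ModuleCat.{u} S) 0).mapIso eN.toModuleIso
  exact ⟨fun f g => by
    rw [← cancel_epi isoN.inv, ← cancel_mono ((shiftFunctor (Dual.D S) i).map (i2 ≪≫ i1.symm).hom)]
    exact hZ.elim _ _⟩

end LemmaW

end Groth.Agent.Lib.T2H4.FibGor
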