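import Groth.Agent.Lib.T2H4FlatHom4
import Groth.Agent.Lib.T2H4Bass1

/-!
# Flat base change of dualizing complexes when the maximal ideals are extended (helper4)
-/

set_option autoImplicit false
set_option linter.style.haveILetI false
set_option backward.isDefEq.respectTransparency.types false
universe u
open CategoryTheory CategoryTheory.Limits TensorProduct
attribute [local instance] HasDerivedCategory.standard

namespace Groth.Agent.Lib.T2H4.FlatHom

open DerivedCategory Pretriangulated Groth.Agent.Lib.T2H4.DComp Groth.Agent.Lib.T2H4.LocKL DTen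
  Groth.Agent.Lib.T2H4.TorIndep Groth.Agent.Lib.Helper1.DT Groth.Agent.Lib.Helper1
  Groth.Agent.Lib.Helper1.LDer Groth.Agent.Lib.Helper1.Extend Groth.Agent.S14388
  Groth.Agent.Lib.T2H4.LocalDual Groth.Agent.Lib.Helper17.DBrown Groth.Agent.Lib.Helper1.HomFinite

section BassD

variable {B : Type u} [CommRing B] [IsNoetherianRing B]

/-- finiteness of `Ext` for `K ∈ D^b_coh`. -/
lemma finite_hom_inD_of_bounded (K : Dual.D B) (a' b' : ℤ)
    (hK : ∀ i : ℤ, (i < a' ∨ b' < i) → IsZero ((homologyFunctor (ModuleCat.{u} B) i).obj K))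
    (hfin : ∀ i : ℤ, Module.Finite B (Dual.HD B K i))
    (M : Type u) [AddCommGroup M] [Module B M] [Module.Finite B M] (i : ℤ) :
    Module.Finite B (Dual.inD B M ⟶ K⟦i⟧) := by
  have eI : ∀ j : ℤ, (homologyFunctor (ModuleCat.{u} B) j).obj ((shiftFunctor (Dual.D B) i).obj K) ≅
      (homologyFunctor (ModuleCat.{u} B) (i + j)).obj K := fun j =>
    ((homologyFunctor (ModuleCat.{u} B) 0).shiftIso i j (i + j) rfl).app K
  refine finite_hom_of_bounded (Dual.inD B M) (K⟦i⟧) 0 0 (isZero_HD_inD M) (finite_HD_inD M)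
    (a' - i) (b' - i) (fun j hj => ?_) (fun j => ?_)
  · exact (hK (i + j) (by lia)).of_iso (eI j)
  · haveI := hfin (i + j)
    exact Module.Finite.equiv (eI j).symm.toLinearEquiv

/-- **Global Bass criterion**. -/
theorem subsingleton_hom_of_maximal (K : Dual.D B) (a' b' : ℤ)
    (hK : ∀ i : ℤ, (i < a' ∨ b' < i) → IsZero ((homologyFunctor (ModuleCat.{u} B) i).obj K))
    (hfin : ∀ i : ℤ, Module.Finite B (Dual.HD B K i)) (b : ℤ)
    (hmax : ∀ (𝔪 : Ideal B), 𝔪.IsMaximal → ∀ i : ℤ, b < i →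
      Subsingleton (Dual.inD B (B ⧸ 𝔪) ⟶ K⟦i⟧))
    (M : Type u) [AddCommGroup M] [Module B M] (i : ℤ) (hi : i < a' ∨ b < i) :
    Subsingleton (Dual.inD B M ⟶ K⟦i⟧) := by
  haveI : K.IsGE a' := (DerivedCategory.isGE_iff K a').2 (fun i hi => hK i (Or.inl hi))
  have hlow : ∀ (M : Type u) [AddCommGroup M] [Module B M] (i : ℤ), i < a' →
      Subsingleton (Dual.inD B M ⟶ K⟦i⟧) := by
    intro M _ _ i hi
    have h1 : (K⟦i⟧).IsGE (a' - i) := tt.isGE_shift K a' i (a' - i) (by lia)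
    exact ⟨fun f g => (tt.zero_of_isLE_of_isGE f 0 (a' - i) (by lia) inferInstance h1).trans
      (tt.zero_of_isLE_of_isGE g 0 (a' - i) (by lia) inferInstance h1).symm⟩
  have h3 : ∀ (I : Ideal B) (i : ℤ), (i < a' ∨ b < i) →
      Subsingleton (DRing.ExtD B (Dual.inD B (B ⧸ I)) K i) := by
    intro I i hi
    rcases hi with hi | hi
    · exact hlow _ i hi
    · exact Groth.Agent.Lib.T2H4.Bass.subsingleton_hom_of_finite K
        (fun M _ _ _ i => finite_hom_inD_of_bounded K a' b' hK hfin M i) b hmax (B ⧸ I) i hi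
  have htfae := Groth.Agent.S6965.result B K a' b
  have h2 : ∀ (N : Type u) [AddCommGroup N] [Module B N] (i : ℤ), (i < a' ∨ b < i) →
      Subsingleton (DRing.ExtD B (Dual.inD B N) K i) := (htfae.out 2 1).1 h3
  exact h2 M i hi

end BassD

section FlatUp

variable {A : Type u} [CommRing A] (B : Type u) [CommRing B] [Algebra A B]
  [DRing.HasLBaseChange (algebraMap A B)] [IsNoetherianRing A] [Module.Flat A B]

/-- vanishing of `Hom` ascends along a flat map. -/
theorem subsingleton_hom_lbc_flat (K N : Dual.D A) (a : ℤ) [N.IsGE a]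
    (c d : ℤ)
    (hK : ∀ i : ℤ, (i < c ∨ d < i) → IsZero ((homologyFunctor (ModuleCat.{u} A) i).obj K))
    (hfin : ∀ i : ℤ, Module.Finite A (Dual.HD A K i)) (i : ℤ)
    (h : Subsingleton (K ⟶ N⟦i⟧)) :
    Subsingleton ((DRing.LBaseChange (algebraMap A B)).obj K ⟶
      ((DRing.LBaseChange (algebraMap A B)).obj N)⟦i⟧) := by
  have hb := bijective_ΘN_unit B K N a c d hK hfin (-i)
  have h1 := subsingleton_shift_of_hom K N i h
  have hz : ∀ z : B ⊗[A] (K⟦-i⟧ ⟶ N), z = 0 := by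
    intro z
    induction z using TensorProduct.induction_on with
    | zero => rfl
    | tmul b f => rw [Subsingleton.elim f 0, TensorProduct.tmul_zero]
    | add x y hx hy => rw [hx, hy, add_zero]
  have h2 : Subsingleton (K⟦-i⟧ ⟶ (DRing.restrictD (algebraMap A B)).obj
      ((DRing.LBaseChange (algebraMap A B)).obj N)) :=
    ⟨fun g g' => by
      obtain ⟨x, rfl⟩ := hb.2 g
      obtain ⟨y, rfl⟩ := hb.2 g'
      rw [hz x, hz y]⟩
  have h3 := subsingleton_hom_of_shift K _ i h2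
  let e := ((DRing.restrictD (algebraMap A B)).commShiftIso i).app
    ((DRing.LBaseChange (algebraMap A B)).obj N)
  have h4 : Subsingleton (K ⟶ (DRing.restrictD (algebraMap A B)).obj
      (((DRing.LBaseChange (algebraMap A B)).obj N)⟦i⟧)) :=
    ⟨fun f g => by
      rw [← cancel_mono e.hom]
      exact h3.elim _ _⟩
  exact ((lbcAdj (algebraMap A B)).homEquiv K _).subsingleton

/-- bijectivity of `A → End(ω)` ascends along a flat map. -/
theorem toEnd_bijective_lbc_flat (ω : Dual.D A) (a : ℤ) [ω.IsGE a]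
    (c d : ℤ)
    (hK : ∀ i : ℤ, (i < c ∨ d < i) → IsZero ((homologyFunctor (ModuleCat.{u} A) i).obj ω))
    (hfin : ∀ i : ℤ, Module.Finite A (Dual.HD A ω i))
    (hbij : Function.Bijective (fun x : A => x • 𝟙 ω)) :
    Function.Bijective
      (fun b : B => b • 𝟙 ((DRing.LBaseChange (algebraMap A B)).obj ω)) := by
  have e0 : ω⟦(0 : ℤ)⟧ ≅ ω := (shiftFunctorZero (Dual.D A) ℤ).app ω
  have hΘ : Function.Bijective (ΘN B (ηB B ω) ω) :=
    ΘN_of_iso B e0 (bijective_ΘN_unit B ω ω a c d hK hfin 0)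
  let τ : A →ₗ[A] (ω ⟶ ω) := LinearMap.toSpanSingleton A _ (𝟙 ω)
  have hτ : Function.Bijective τ := hbij
  have hτB : Function.Bijective (LinearMap.lTensor B τ) := by
    let τe : A ≃ₗ[A] (ω ⟶ ω) := LinearEquiv.ofBijective τ hτ
    have h1 : LinearMap.lTensor B τ = (LinearEquiv.lTensor B τe).toLinearMap := rfl
    rw [h1]
    exact (LinearEquiv.lTensor B τe).bijective
  have hcomp : (⇑(ΘN B (ηB B ω) ω) ∘ ⇑(LinearMap.lTensor B τ)) ∘ ⇑(TensorProduct.rid A B).symm =
      ⇑((lbcAdj (algebraMap A B)).homEquiv ω _) ∘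
        (fun b : B => b • 𝟙 ((DRing.LBaseChange (algebraMap A B)).obj ω)) := by
    funext b
    simp only [Function.comp_apply]
    rw [TensorProduct.rid_symm_apply, LinearMap.lTensor_tmul, ΘN_tmul,
      (lbcAdj (algebraMap A B)).homEquiv_unit]
    show ((1 : A) • 𝟙 ω) ≫ _ = _
    rw [one_smul, Category.id_comp]
  have h1 : Function.Bijective (⇑((lbcAdj (algebraMap A B)).homEquiv ω _) ∘
      (fun b : B => b • 𝟙 ((DRing.LBaseChange (algebraMap A B)).obj ω))) := by
    rw [← hcomp]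
    exact (hΘ.comp hτB).comp (TensorProduct.rid A B).symm.bijective
  exact (Function.Bijective.of_comp_iff' ((lbcAdj (algebraMap A B)).homEquiv ω _).bijective _).1 h1

end FlatUp

section Ascent

variable {A : Type u} [CommRing A] (B : Type u) [CommRing B] [Algebra A B]
  [DRing.HasLBaseChange (algebraMap A B)] [IsNoetherianRing A] [Module.Flat A B]

/-- `Ext` vanishing for `A/J` transfers to `B/JB`. -/
lemma subsingleton_hom_quot_map (ω : Dual.D A) (a : ℤ) [ω.IsGE a] (J : Ideal A) (i : ℤ)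
    (h : Subsingleton (Dual.inD A (A ⧸ J) ⟶ ω⟦i⟧)) :
    Subsingleton (Dual.inD B (B ⧸ J.map (algebraMap A B)) ⟶
      ((DRing.LBaseChange (algebraMap A B)).obj ω)⟦i⟧) := by
  let e2 : (B ⧸ J.map (algebraMap A B)) ≃ₗ[B] B ⊗[A] (A ⧸ J) :=
    (Algebra.TensorProduct.quotIdealMapEquivTensorQuot B J).toLinearEquiv
  obtain ⟨e3⟩ := nonempty_lbc_inD_iso A B (A ⧸ J)
  let e : Dual.inD B (B ⧸ J.map (algebraMap A B)) ≅
      (DRing.LBaseChange (algebraMap A B)).obj (Dual.inD A (A ⧸ J)) :=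
    (singleFunctor (ModuleCat.{u} B) 0).mapIso e2.toModuleIso ≪≫ e3.symm
  have h' := subsingleton_hom_lbc_flat B (Dual.inD A (A ⧸ J)) ω a 0 0 (isZero_HD_inD _)
    (finite_HD_inD (A ⧸ J)) i h
  exact ⟨fun f g => by
    rw [← cancel_epi e.inv]
    exact h'.elim _ _⟩

/-- flat base change of a dualizing complex is dualizing when the maximal ideals of `B` are
extended from `A`. -/
theorem isDualizing_lbc_of_maximal_extended [IsNoetherianRing B] (ω : Dual.D A)
    (hω : Dual.IsDualizing A ω)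
    (hext : ∀ 𝔪 : Ideal B, 𝔪.IsMaximal → ∃ 𝔪' : Ideal A, 𝔪'.map (algebraMap A B) = 𝔪) :
    Dual.IsDualizing B ((DRing.LBaseChange (algebraMap A B)).obj ω) := by
  obtain ⟨a, b, hab⟩ := hω.finite_injective_dimension
  have hK : ∀ i : ℤ, (i < a ∨ b < i) →
      IsZero ((homologyFunctor (ModuleCat.{u} A) i).obj ω) := by
    intro i hi
    have := (Groth.Agent.Lib.T2H4.HomRing.subsingleton_hom_inD_self_iff ω i).1 (hab A i hi)
    exact ModuleCat.isZero_of_subsingleton _
  haveI : ω.IsGE a := (DerivedCategory.isGE_iff ω a).2 (fun i hi => hK i (Or.inl hi))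
  have hKB : ∀ i : ℤ, (i < a ∨ b < i) → IsZero ((homologyFunctor (ModuleCat.{u} B) i).obj
      ((DRing.LBaseChange (algebraMap A B)).obj ω)) := by
    intro i hi
    obtain ⟨e2⟩ := nonempty_HD_lbc_iso B ω i
    exact ((ext A B).map_isZero (hK i hi)).of_iso e2
  have hfinB : ∀ i : ℤ, Module.Finite B (Dual.HD B
      ((DRing.LBaseChange (algebraMap A B)).obj ω) i) :=
    fun i => finite_HD_lbc A B ω i (hω.finite_cohomology i)
  have hmax : ∀ (𝔪 : Ideal B), 𝔪.IsMaximal → ∀ i : ℤ, b < i →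
      Subsingleton (Dual.inD B (B ⧸ 𝔪) ⟶ ((DRing.LBaseChange (algebraMap A B)).obj ω)⟦i⟧) := by
    intro 𝔪 h𝔪 i hi
    obtain ⟨𝔪', rfl⟩ := hext 𝔪 h𝔪
    exact subsingleton_hom_quot_map B ω a 𝔪' i (hab (A ⧸ 𝔪') i (Or.inr hi))
  refine ⟨inferInstance, ⟨a, b, ?_⟩, hfinB,
    toEnd_bijective_lbc_flat B ω a a b hK hω.finite_cohomology hω.toEnd_bijective,
    fun i hi => subsingleton_hom_lbc_flat B ω ω a a b hK hω.finite_cohomology i
      (hω.ext_self_subsingleton i hi)⟩
  intro M _ _ i hi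
  exact subsingleton_hom_of_maximal _ a b hKB hfinB b hmax M i hi

end Ascent

end Groth.Agent.Lib.T2H4.FlatHom
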