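import Groth.Agent.Lib.T2H4FibGor4
import Groth.Agent.Lib.T2H4FlatHom5

/-!
# Base change of dualizing complexes along flat finite type maps with Gorenstein fibres (helper4)
-/

set_option autoImplicit false
set_option linter.style.haveILetI false
set_option backward.isDefEq.respectTransparency.types false
universe u
open CategoryTheory CategoryTheory.Limits TensorProduct
attribute [local instance] HasDerivedCategory.standard

namespace Groth.Agent.Lib.T2H4.FibGor

open DerivedCategory Pretriangulated Groth.Agent.Lib.T2H4.LocKL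
  Groth.Agent.Lib.T2H4.TorIndep Groth.Agent.Lib.T2H4.FlatHom Groth.Agent.Lib.T2H4.DComp
  Groth.Agent.Lib.Helper1.Extend Groth.Agent.Lib.Helper1.Restrict Groth.Agent.Lib.T2H4.LocalDual
  Groth.Agent.Lib.T2H4.Uniq Groth.Agent.Lib.T2H4.GorOpen Groth.Agent.Lib.T2H4.DualField
  Groth.Agent.Lib.T2H4.DualFinite

section Dim

/-- the fibres of an algebra generated by `n` elements have dimension at most `n`. -/
theorem ringKrullDim_fiber_le {A B : Type u} [CommRing A] [CommRing B] [Algebra A B] (n : ℕ)
    (f : MvPolynomial (Fin n) A →ₐ[A] B) (hf : Function.Surjective f) (p : Ideal A) [p.IsPrime] :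
    ringKrullDim (p.Fiber B) ≤ n := by
  let κ := p.ResidueField
  let g : κ ⊗[A] MvPolynomial (Fin n) A →ₐ[κ] κ ⊗[A] B :=
    Algebra.TensorProduct.map (AlgHom.id κ κ) f
  have hg : Function.Surjective g := by
    intro y
    induction y using TensorProduct.induction_on with
    | zero => exact ⟨0, map_zero _⟩
    | tmul a b =>
      obtain ⟨c, rfl⟩ := hf b
      exact ⟨a ⊗ₜ c, by simp [g]⟩
    | add x y hx hy =>
      obtain ⟨x', rfl⟩ := hx
      obtain ⟨y', rfl⟩ := hy
      exact ⟨x' + y', map_add _ _ _⟩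
  let e : κ ⊗[A] MvPolynomial (Fin n) A ≃ₐ[κ] MvPolynomial (Fin n) κ :=
    MvPolynomial.algebraTensorAlgEquiv A κ
  calc ringKrullDim (p.Fiber B) ≤ ringKrullDim (κ ⊗[A] MvPolynomial (Fin n) A) :=
        ringKrullDim_le_of_surjective g.toRingHom hg
    _ = ringKrullDim (MvPolynomial (Fin n) κ) := ringKrullDim_eq_of_ringEquiv e.toRingEquiv
    _ = n := by
      rw [MvPolynomial.ringKrullDim_of_isNoetherianRing, ringKrullDim_eq_zero_of_field]
      simp

end Dim

section Main

variable {A : Type u} [CommRing A] (B : Type u) [CommRing B] [Algebra A B]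
  [DRing.HasLBaseChange (algebraMap A B)] [IsNoetherianRing A] [IsNoetherianRing B]
  [Module.Flat A B]

/-- flat base change of a dualizing complex is dualizing when the fibre local rings are
Gorenstein of bounded dimension. -/
theorem isDualizing_lbc_of_gorenstein_fibLocRing (r : ℕ)
    (hfib : ∀ (Q : Ideal B) [Q.IsPrime], LocCoh.IsGorensteinLocalRing (EGA4.FibLocRing A B Q) ∧
      ringKrullDim (EGA4.FibLocRing A B Q) ≤ r)
    (ω : Dual.D A) (hω : Dual.IsDualizing A ω) :
    Dual.IsDualizing B ((DRing.LBaseChange (algebraMap A B)).obj ω) := by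
  obtain ⟨a, b, hab⟩ := hω.finite_injective_dimension
  have hK : ∀ i : ℤ, (i < a ∨ b < i) →
      IsZero ((homologyFunctor (ModuleCat.{u} A) i).obj ω) := by
    intro i hi
    have := (Groth.Agent.Lib.T2H4.HomRing.subsingleton_hom_inD_self_iff ω i).1 (hab A i hi)
    exact ModuleCat.isZero_of_subsingleton _
  haveI : ω.IsGE a := (DerivedCategory.isGE_iff ω a).2 (fun i hi => hK i (Or.inl hi))
  have hKB : ∀ i : ℤ, (i < a ∨ b < i) → IsZero ((homologyFunctor (ModuleCat.{u} B) i).obj
      ((DRing.LBaseChange (algebraMap A B)).obj ω)) := by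
    intro i hi
    obtain ⟨e2⟩ := nonempty_HD_lbc_iso B ω i
    exact ((ext A B).map_isZero (hK i hi)).of_iso e2
  haveI : ((DRing.LBaseChange (algebraMap A B)).obj ω).IsGE a :=
    (DerivedCategory.isGE_iff _ a).2 (fun i hi => hKB i (Or.inl hi))
  have hfinB : ∀ i : ℤ, Module.Finite B (Dual.HD B
      ((DRing.LBaseChange (algebraMap A B)).obj ω) i) :=
    fun i => finite_HD_lbc A B ω i (hω.finite_cohomology i)
  have hmax : ∀ (𝔪 : Ideal B), 𝔪.IsMaximal → ∀ i : ℤ, b + r < i →
      Subsingleton (Dual.inD B (B ⧸ 𝔪) ⟶ ((DRing.LBaseChange (algebraMap A B)).obj ω)⟦i⟧) := by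
    intro 𝔪 h𝔪 i hi
    haveI := h𝔪
    haveI : DRing.HasLBaseChange (algebraMap B (Localization.AtPrime 𝔪)) :=
      LDerExist.hasLBaseChange _
    obtain ⟨hG, hdim⟩ := hfib 𝔪
    exact subsingleton_hom_of_localization 𝔪 _ a i
      (subsingleton_hom_residue_lbc ω hω a b hab 𝔪 r hG hdim i hi)
  refine ⟨inferInstance, ⟨a, b + r, ?_⟩, hfinB,
    toEnd_bijective_lbc_flat B ω a a b hK hω.finite_cohomology hω.toEnd_bijective,
    fun i hi => subsingleton_hom_lbc_flat B ω ω a a b hK hω.finite_cohomology i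
      (hω.ext_self_subsingleton i hi)⟩
  intro M _ _ i hi
  exact subsingleton_hom_of_maximal _ a b hKB hfinB (b + r) hmax M i hi

/-- **S1788** (ascent direction): flat finite type maps with Gorenstein fibres preserve dualizing
complexes. -/
theorem isDualizing_lbc_of_gorenstein_fiber [Algebra.FiniteType A B]
    (hG : ∀ (p : Ideal A) [p.IsPrime], LocCoh.IsGorensteinRing (p.Fiber B))
    (ω : Dual.D A) (hω : Dual.IsDualizing A ω) :
    Dual.IsDualizing B ((DRing.LBaseChange (algebraMap A B)).obj ω) := by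
  obtain ⟨n, f, hf⟩ := Algebra.FiniteType.iff_quotient_mvPolynomial''.1
    (inferInstance : Algebra.FiniteType A B)
  refine isDualizing_lbc_of_gorenstein_fibLocRing B n ?_ ω hω
  have key := (Groth.Agent.Lib.Helper28.forall_localization_fiber_iff (A := A) (B := B)
    (fun R _ => LocCoh.IsGorensteinLocalRing R ∧ ringKrullDim R ≤ n)
    (fun R S _ _ e h => ⟨@Groth.Agent.Lib.Helper5.GorRing.gorLocal_of_ringEquiv R S _ _ e h.1,
      (ringKrullDim_eq_of_ringEquiv e).symm.trans_le h.2⟩)).1
  refine key ?_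
  intro p hp Q hQ
  refine ⟨(hG p).isGorensteinLocalRing_localization Q, ?_⟩
  show ringKrullDim (Localization.AtPrime Q) ≤ n
  rw [IsLocalization.AtPrime.ringKrullDim_eq_height Q (Localization.AtPrime Q)]
  exact Ideal.height_le_ringKrullDim_of_isPrime.trans (ringKrullDim_fiber_le n f hf p)

end Main

end Groth.Agent.Lib.T2H4.FibGor
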