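import Groth.Agent.Lib.T2H4Poly2
import Groth.Agent.Lib.T2H4TwoIdeal
import Groth.Agent.Lib.T2H4DualFinite
import Groth.Agent.Lib.T2H4DualShift
import Groth.Prelude.Def_DualSh

/-!
# Base change of a dualizing complex to a polynomial ring in several variables (helper4)
-/

set_option autoImplicit false
set_option linter.style.haveILetI false
set_option backward.isDefEq.respectTransparency.types false
universe u
open CategoryTheory CategoryTheory.Limits
attribute [local instance] HasDerivedCategory.standard

namespace Groth.Agent.Lib.T2H4.MvPoly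

open Groth.Agent.Lib.T2H4.Poly Groth.Agent.Lib.T2H4.FlatHom Groth.Agent.Lib.T2H4.DualFinite
  Groth.Agent.Lib.T2H4.TwoIdeal Groth.Agent.Lib.T2H4.LDerExist Polynomial

section Bij

variable {A B : Type u} [CommRing A] [CommRing B] [IsNoetherianRing A]

/-- derived base change along a ring isomorphism preserves dualizing complexes. -/
theorem isDualizing_lbc_of_bijective (φ : A →+* B) (hφ : Function.Bijective φ)
    [DRing.HasLBaseChange φ] (ω : Dual.D A) (hω : Dual.IsDualizing A ω) :
    Dual.IsDualizing B ((DRing.LBaseChange φ).obj ω) := by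
  letI : Algebra A B := φ.toAlgebra
  haveI : DRing.HasLBaseChange (algebraMap A B) := ‹DRing.HasLBaseChange φ›
  let e : A ≃ₗ[A] B := LinearEquiv.ofBijective (Algebra.linearMap A B) hφ
  haveI : Module.Flat A B := Module.Flat.of_linearEquiv e.symm
  haveI : IsNoetherianRing B := isNoetherianRing_of_surjective A B φ hφ.2
  exact isDualizing_lbc_of_maximal_extended B ω hω (fun 𝔪 _ =>
    ⟨𝔪.comap (algebraMap A B), Ideal.map_comap_of_surjective _ hφ.2 𝔪⟩)

end Bij

section Mv

variable (R : Type u) [CommRing R] [IsNoetherianRing R]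

/-- the base change of a dualizing complex to `R[x₁, …, xₙ]` is dualizing. -/
theorem isDualizing_lbc_mvPolynomial (ω : Dual.D R) (hω : Dual.IsDualizing R ω) :
    ∀ (n : ℕ) [DRing.HasLBaseChange (algebraMap R (MvPolynomial (Fin n) R))],
      Dual.IsDualizing (MvPolynomial (Fin n) R)
        ((DRing.LBaseChange (algebraMap R (MvPolynomial (Fin n) R))).obj ω) := by
  intro n
  induction n with
  | zero =>
    intro _
    exact isDualizing_lbc_of_bijective _
      (MvPolynomial.isEmptyAlgEquiv R (Fin 0)).symm.bijective ω hω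
  | succ n ih =>
    intro _
    haveI : DRing.HasLBaseChange (algebraMap R (MvPolynomial (Fin n) R)) := hasLBaseChange _
    have h1 := ih
    let P := MvPolynomial (Fin n) R
    let e := MvPolynomial.finSuccEquiv R n
    let ψ : P[X] →+* MvPolynomial (Fin (n + 1)) R := e.symm.toRingEquiv.toRingHom
    haveI : DRing.HasLBaseChange (algebraMap P P[X]) := hasLBaseChange _
    haveI : DRing.HasLBaseChange ψ := hasLBaseChange _
    haveI : DRing.HasLBaseChange ((algebraMap P P[X]).comp (algebraMap R P)) := hasLBaseChange _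
    have h2 : Dual.IsDualizing P[X] ((DRing.LBaseChange (algebraMap P P[X])).obj
        ((DRing.LBaseChange (algebraMap R P)).obj ω)) := isDualizing_lbc_polynomial P _ h1
    have h3 := isDualizing_lbc_of_bijective ψ e.symm.bijective _ h2
    obtain ⟨i1⟩ := nonempty_lbc_trans (algebraMap R P) (algebraMap P P[X])
      ((algebraMap P P[X]).comp (algebraMap R P)) rfl ω
    have hcomp : ψ.comp ((algebraMap P P[X]).comp (algebraMap R P)) =
        algebraMap R (MvPolynomial (Fin (n + 1)) R) := by
      refine RingHom.ext (fun r => ?_)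
      have : (algebraMap P P[X]) ((algebraMap R P) r) = algebraMap R P[X] r :=
        (IsScalarTower.algebraMap_apply R P P[X] r).symm
      simp only [RingHom.comp_apply, this]
      exact e.symm.commutes r
    obtain ⟨i2⟩ := nonempty_lbc_trans ((algebraMap P P[X]).comp (algebraMap R P)) ψ
      (algebraMap R (MvPolynomial (Fin (n + 1)) R)) hcomp ω
    exact isDualizing_of_iso ((DRing.LBaseChange ψ).mapIso i1 ≪≫ i2) h3

/-- **S1782**. -/
theorem isDualizing_shriekVia (A : Type u) [CommRing A] [IsNoetherianRing A] [Algebra R A]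
    (n : ℕ) (ψ : MvPolynomial (Fin n) R →ₐ[R] A) (hψ : Function.Surjective ψ)
    [DRing.HasLBaseChange (algebraMap R (MvPolynomial (Fin n) R))]
    (Rψ : Dual.D (MvPolynomial (Fin n) R) ⥤ Dual.D A) (adj : DRing.restrictD ψ.toRingHom ⊣ Rψ)
    (ω : Dual.D R) (hω : Dual.IsDualizing R ω) :
    Dual.IsDualizing A (Dual2.shriekVia n Rψ ω) := by
  have h1 := isDualizing_lbc_mvPolynomial R ω hω n
  letI : Algebra (MvPolynomial (Fin n) R) A := ψ.toRingHom.toAlgebra
  haveI : Module.Finite (MvPolynomial (Fin n) R) A :=
    Module.Finite.of_surjective (Algebra.linearMap (MvPolynomial (Fin n) R) A) hψ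
  have h2 : Dual.IsDualizing A (Rψ.obj
      ((DRing.LBaseChange (algebraMap R (MvPolynomial (Fin n) R))).obj ω)) :=
    isDualizing_rightAdjoint Rψ adj _ h1
  exact Groth.Agent.Lib.T2H4.DualShift.isDualizing_shift _ h2 n

end Mv

end Groth.Agent.Lib.T2H4.MvPoly
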