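import Groth.Agent.Lib.T2H4FibGor5
import Groth.Agent.Lib.T2H4MvPoly
import Groth.Agent.Lib.Helper5GorBC

/-!
# Extension of the base field preserves dualizing complexes (helper4)
-/

set_option autoImplicit false
set_option linter.style.haveILetI false
set_option backward.isDefEq.respectTransparency.types false
universe u
open CategoryTheory CategoryTheory.Limits TensorProduct
attribute [local instance] HasDerivedCategory.standard

namespace Groth.Agent.Lib.T2H4.FibGor

open Groth.Agent.Lib.T2H4.MvPoly

section Dim2

/-- the base change to a field of an algebra generated by `n` elements has dimension at most `n`. -/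
theorem ringKrullDim_tensor_field_le {A B : Type u} [CommRing A] [CommRing B] [Algebra A B]
    (κ : Type u) [Field κ] [Algebra A κ] (n : ℕ)
    (f : MvPolynomial (Fin n) A →ₐ[A] B) (hf : Function.Surjective f) :
    ringKrullDim (B ⊗[A] κ) ≤ n := by
  let g : MvPolynomial (Fin n) A ⊗[A] κ →ₐ[A] B ⊗[A] κ :=
    Algebra.TensorProduct.map f (AlgHom.id A κ)
  have hg : Function.Surjective g :=
    Algebra.TensorProduct.map_surjective f (AlgHom.id A κ) hf Function.surjective_id
  let e : MvPolynomial (Fin n) κ ≃+* MvPolynomial (Fin n) A ⊗[A] κ :=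
    ((MvPolynomial.algebraTensorAlgEquiv A κ).symm.toRingEquiv).trans
      (Algebra.TensorProduct.comm A κ (MvPolynomial (Fin n) A)).toRingEquiv
  calc ringKrullDim (B ⊗[A] κ) ≤ ringKrullDim (MvPolynomial (Fin n) A ⊗[A] κ) :=
        ringKrullDim_le_of_surjective g.toRingHom hg
    _ = ringKrullDim (MvPolynomial (Fin n) κ) := (ringKrullDim_eq_of_ringEquiv e).symm
    _ = n := by
      rw [MvPolynomial.ringKrullDim_of_isNoetherianRing, ringKrullDim_eq_zero_of_field]
      simp

end Dim2

section FieldExt

variable (k K : Type u) [Field k] [Field K] [Algebra k K] (A : Type u) [CommRing A] [Algebra k A]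
  [Algebra.FiniteType k A]

/-- extension of the base field preserves dualizing complexes (left-handed form). -/
theorem isDualizing_lbc_tensor_field [DRing.HasLBaseChange (algebraMap A (A ⊗[k] K))]
    (ω : Dual.D A) (hω : Dual.IsDualizing A ω) :
    Dual.IsDualizing (A ⊗[k] K) ((DRing.LBaseChange (algebraMap A (A ⊗[k] K))).obj ω) := by
  haveI : IsNoetherianRing A := hω.isNoetherianRing
  haveI : Algebra.FiniteType K (K ⊗[k] A) := inferInstance
  haveI : IsNoetherianRing (K ⊗[k] A) := Algebra.FiniteType.isNoetherianRing K _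
  haveI : IsNoetherianRing (A ⊗[k] K) :=
    isNoetherianRing_of_ringEquiv _ (Algebra.TensorProduct.comm k K A).toRingEquiv
  haveI : Module.Flat A (A ⊗[k] K) := inferInstance
  obtain ⟨n, f, hf⟩ := Algebra.FiniteType.iff_quotient_mvPolynomial''.1
    (inferInstance : Algebra.FiniteType k A)
  have hdimB : ringKrullDim (A ⊗[k] K) ≤ n := ringKrullDim_tensor_field_le K n f hf
  refine isDualizing_lbc_of_gorenstein_fibLocRing (A ⊗[k] K) n ?_ ω hω
  intro Q hQ
  constructor
  · refine (Groth.Agent.Lib.Helper5.GorRing.forall_gor_fiber_iff (A := A) (B := A ⊗[k] K)).mp ?_ Q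
    intro p hp
    haveI : Algebra.EssFiniteType k (Localization.AtPrime p) := inferInstance
    haveI : Algebra.EssFiniteType k p.ResidueField :=
      inferInstanceAs (Algebra.EssFiniteType k
        (Localization.AtPrime p ⧸ IsLocalRing.maximalIdeal (Localization.AtPrime p)))
    haveI := Groth.Agent.Lib.Helper5.GorBC.gorRing_tensor_field_of_essFiniteType k p.ResidueField K
    exact Groth.Agent.Lib.Helper5.GorRing.gorRing_of_ringEquiv (R := p.ResidueField ⊗[k] K)
      (Algebra.TensorProduct.cancelBaseChange k A p.ResidueField p.ResidueField K).symm.toRingEquiv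
  · calc ringKrullDim (EGA4.FibLocRing A (A ⊗[k] K) Q)
        ≤ ringKrullDim (Localization.AtPrime Q) := ringKrullDim_quotient_le _
      _ = Q.height := IsLocalization.AtPrime.ringKrullDim_eq_height Q (Localization.AtPrime Q)
      _ ≤ ringKrullDim (A ⊗[k] K) := Ideal.height_le_ringKrullDim_of_isPrime
      _ ≤ n := hdimB

end FieldExt

end Groth.Agent.Lib.T2H4.FibGor
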