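import Mathlib
import Groth.Agent.Lib.T2H4TorRes
import Groth.Agent.Lib.Helper1LBC
import Groth.Agent.Lib.Helper1Extend
import Groth.Agent.Lib.Helper1TorD
import Groth.Agent.Lib.Helper1TorM
import Groth.Agent.Lib.Helper1TorN
set_option backward.isDefEq.respectTransparency.types false

/-!
# Fibres of finite global dimension (helper4)

For a flat ring map `A → B`, a prime `p` of `A` and the fibre ring `C = κ(p) ⊗_A B`: exactness of
`F ⊗_B C` follows from exactness of `κ(p) ⊗_A F` (pushout cancellation), and tensoring a termwise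
flat complex exact below `a` with a module of projective dimension `≤ k` is exact below `a - k`.
-/

set_option autoImplicit false
set_option linter.style.haveILetI false
universe u
open CategoryTheory CategoryTheory.Limits HomologicalComplex MonoidalCategory
attribute [local instance] HasDerivedCategory.standard

namespace Groth.Agent.Lib.T2H4.FibreDim

open Groth.Agent.Lib.Helper1.KF Groth.Agent.Lib.Helper1.Tor Groth.Agent.Lib.Helper1.DT DTen
  DerivedCategory Groth.Agent.Lib.Helper1.TorM Groth.Agent.Lib.Helper1.LDer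
  Groth.Agent.Lib.T2H4.TorRes

section ladder

lemma exact_of_ladder {X₁ X₂ X₃ Y₁ Y₂ Y₃ : Type*} [Zero X₃] [Zero Y₃] (f₁ : X₁ → X₂) (f₂ : X₂ → X₃)
    (g₁ : Y₁ → Y₂) (g₂ : Y₂ → Y₃) (e₁ : X₁ → Y₁) (e₂ : X₂ → Y₂) (e₃ : X₃ → Y₃)
    (he₁ : Function.Surjective e₁) (he₂ : Function.Bijective e₂) (he₃ : Function.Injective e₃)
    (he₃0 : e₃ 0 = 0) (c₁ : ∀ x, g₁ (e₁ x) = e₂ (f₁ x)) (c₂ : ∀ x, g₂ (e₂ x) = e₃ (f₂ x))
    (H : Function.Exact f₁ f₂) : Function.Exact g₁ g₂ := by
  intro y
  obtain ⟨x, rfl⟩ := he₂.2 y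
  constructor
  · intro h
    rw [c₂, ← he₃0] at h
    obtain ⟨w, rfl⟩ := (H x).1 (he₃ h)
    exact ⟨e₁ w, c₁ w⟩
  · rintro ⟨w, hw⟩
    obtain ⟨v, rfl⟩ := he₁ w
    rw [c₁] at hw
    have := he₂.1 hw
    rw [c₂, ← this, (H (f₁ v)).2 ⟨v, rfl⟩, he₃0]

end ladder

section pushout

open TensorProduct

variable {A B κ C : Type u} [CommRing A] [CommRing B] [CommRing κ] [CommRing C]
  [Algebra A B] [Algebra A κ] [Algebra A C] [Algebra B C] [Algebra κ C]
  [IsScalarTower A B C] [IsScalarTower A κ C] [Algebra.IsPushout A κ B C]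

instance towerRestrict (M : ModuleCat.{u} B) :
    IsScalarTower A B ((ModuleCat.restrictScalars (algebraMap A B)).obj M) :=
  IsScalarTower.of_algebraMap_smul (fun _ _ => rfl)

/-- for a pushout square, `C ⊗_B -` is `κ ⊗_A -` on restricted modules: transfer of exactness -/
lemma exact_lTensor_pushout {M M' M'' : ModuleCat.{u} B} (g : M ⟶ M') (g' : M' ⟶ M'')
    (h : Function.Exact
      (((ModuleCat.restrictScalars (algebraMap A B)).map g).hom.lTensor κ)
      (((ModuleCat.restrictScalars (algebraMap A B)).map g').hom.lTensor κ)) :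
    Function.Exact (g.hom.lTensor C) (g'.hom.lTensor C) := by
  let e : ∀ N : ModuleCat.{u} B, C ⊗[B] N ≃ₗ[κ]
      κ ⊗[A] ((ModuleCat.restrictScalars (algebraMap A B)).obj N) := fun N =>
    Algebra.IsPushout.cancelBaseChange A κ B C ((ModuleCat.restrictScalars (algebraMap A B)).obj N)
  have he : ∀ (N : ModuleCat.{u} B) (s : κ)
      (n : (ModuleCat.restrictScalars (algebraMap A B)).obj N),
      (e N).symm (s ⊗ₜ[A] n) = algebraMap κ C s ⊗ₜ[B] (show N from n) :=
    fun N s n => Algebra.IsPushout.cancelBaseChange_symm_tmul A κ B C _ s n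
  have hnat : ∀ {N N' : ModuleCat.{u} B} (γ : N ⟶ N')
      (z : κ ⊗[A] ((ModuleCat.restrictScalars (algebraMap A B)).obj N)),
      (γ.hom.lTensor C) ((e N).symm z) = (e N').symm
        ((((ModuleCat.restrictScalars (algebraMap A B)).map γ).hom.lTensor κ) z) := by
    intro N N' γ z
    induction z using TensorProduct.induction_on with
    | zero => simp
    | tmul s n =>
      rw [he]
      exact (he N' s (γ.hom n)).symm
    | add x y hx hy => simp only [map_add, hx, hy]
  exact exact_of_ladder _ _ _ _ (e M).symm (e M').symm (e M'').symm (e M).symm.surjective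
    (e M').symm.bijective (e M'').symm.injective (map_zero _) (fun x => hnat g x)
    (fun x => hnat g' x) h

/-- exactness of the fibre complex `F ⊗_B C` from exactness of `κ ⊗_A F` -/
lemma exactAt_extCx_of_exactAt_TC_res (F : DRing.Cx B) (i : ℤ)
    (h : ((TC (ModuleCat.of A κ)).obj ((resCx (algebraMap A B)).obj F)).ExactAt i) :
    ((extCx (algebraMap B C)).obj F).ExactAt i := by
  rw [exactAt_extCx_iff]
  have h1 := (exactAt_TC_iff (ModuleCat.of A κ) ((resCx (algebraMap A B)).obj F) (i - 1) i (i + 1)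
    (by lia) rfl).1 h
  have h2 : Function.Exact ((F.d (i - 1) i).hom.lTensor C) ((F.d i (i + 1)).hom.lTensor C) :=
    exact_lTensor_pushout (A := A) (κ := κ) (F.d (i - 1) i) (F.d i (i + 1)) h1
  have h3 : ((TC (ModuleCat.of B C)).obj F).ExactAt i :=
    (exactAt_TC_iff (ModuleCat.of B C) F (i - 1) i (i + 1) (by lia) rfl).2 h2
  exact exactAt_TC_of_iso (resAEquiv (A := B) (B := C)).toModuleIso F i h3

end pushout

section pd

variable {S : Type u} [CommRing S]

theorem exactAt_TC_X₃_of_shortExact (T : ShortComplex (ModuleCat.{u} S)) (hT : T.ShortExact)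
    (F : DRing.Cx S) (hF : DRing.TermwiseFlat F) (i j : ℤ) (hij : i + 1 = j)
    (h2 : ((TC T.X₂).obj F).ExactAt i) (h1 : ((TC T.X₁).obj F).ExactAt j) :
    ((TC T.X₃).obj F).ExactAt i := by
  have hT' := TCshort_shortExact T hT F hF
  have hex := hT'.homology_exact₃ i j hij
  rw [HomologicalComplex.exactAt_iff_isZero_homology] at h2 h1 ⊢
  exact hex.isZero_of_both_zeros (h2.eq_of_src _ _) (h1.eq_of_tgt _ _)

lemma exactAt_TC_of_flat (N : ModuleCat.{u} S) [Module.Flat S N] (F : DRing.Cx S) (i : ℤ)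
    (h : F.ExactAt i) : ((TC N).obj F).ExactAt i := by
  rw [exactAt_TC_iff N F (i - 1) i (i + 1) (by lia) rfl]
  rw [exactAt_iff_fexact F (i - 1) i (i + 1) (by lia) rfl] at h
  exact Module.Flat.lTensor_exact N h

section cover

variable {P N : Type u} [AddCommGroup P] [Module S P] [AddCommGroup N] [Module S N]
  (g : P →ₗ[S] N)

/-- `0 → ker g → P → N → 0` for surjective `g` -/
noncomputable def sesSurj : ShortComplex (ModuleCat.{u} S) :=
  ShortComplex.mk (X₁ := ModuleCat.of S (LinearMap.ker g)) (X₂ := ModuleCat.of S P)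
    (X₃ := ModuleCat.of S N) (ModuleCat.ofHom (LinearMap.ker g).subtype) (ModuleCat.ofHom g) (by
    ext x
    exact x.2)

lemma sesSurj_shortExact (hg : Function.Surjective g) : (sesSurj g).ShortExact where
  exact := by
    rw [ShortComplex.ShortExact.moduleCat_exact_iff_function_exact]
    intro y
    constructor
    · intro hy
      exact ⟨⟨y, hy⟩, rfl⟩
    · rintro ⟨x, rfl⟩
      exact x.2
  mono_f := (ModuleCat.mono_iff_injective _).2 (Submodule.subtype_injective _)
  epi_g := (ModuleCat.epi_iff_surjective _).2 hg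

end cover

/-- if `G` is exact below `a` and `N` has projective dimension `≤ k`, then `N ⊗ G` is exact below
`a - k`. -/
theorem exactAt_TC_of_hasProjectiveDimensionLT (G : DRing.Cx S) (hG : DRing.TermwiseFlat G) (a : ℤ)
    (hex : ∀ i : ℤ, i < a → G.ExactAt i) (k : ℕ) :
    ∀ (N : Type u) [AddCommGroup N] [Module S N],
      HasProjectiveDimensionLT (ModuleCat.of S N) (k + 1) →
      ∀ i : ℤ, i < a - k → ((TC (ModuleCat.of S N)).obj G).ExactAt i := by
  induction k with
  | zero =>
    intro N _ _ hN i hi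
    have hp : Projective (ModuleCat.of S N) := projective_iff_hasProjectiveDimensionLT_one.2 hN
    have hp' : Module.Projective S N := ModuleCat.projective_of_module_projective (ModuleCat.of S N)
    exact exactAt_TC_of_flat (ModuleCat.of S N) G i (hex i (by simpa using hi))
  | succ k ih =>
    intro N _ _ hN i hi
    have hT := sesSurj_shortExact (Finsupp.linearCombination S (id : N → N))
      (Finsupp.linearCombination_id_surjective S N)
    have hP : Projective (ModuleCat.of S (N →₀ S)) :=
      ModuleCat.projective_of_categoryTheory_projective _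
    have hP' : HasProjectiveDimensionLT (ModuleCat.of S (N →₀ S)) (k + 1) :=
      hasProjectiveDimensionLT_of_ge _ 1 (k + 1) (by lia)
    have hN' : HasProjectiveDimensionLT
        (ModuleCat.of S (LinearMap.ker (Finsupp.linearCombination S (id : N → N)))) (k + 1) :=
      hT.hasProjectiveDimensionLT_X₁ (k + 1) hP' hN
    exact exactAt_TC_X₃_of_shortExact _ hT G hG i (i + 1) rfl
      (exactAt_TC_of_flat (ModuleCat.of S (N →₀ S)) G i (hex i (by push_cast at hi; lia)))
      (ih _ hN' (i + 1) (by push_cast at hi; lia))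

end pd

section ring

open TensorProduct

attribute [local instance] Algebra.TensorProduct.rightAlgebra

variable {A B : Type u} [CommRing A] [CommRing B] [Algebra A B]

lemma exists_fibre_to_quotient (m : Ideal B) [m.IsMaximal] (p : Ideal A) [p.IsPrime]
    (hp : p = m.comap (algebraMap A B)) :
    ∃ φ₂ : p.ResidueField ⊗[A] B →+* B ⧸ m,
      φ₂.comp (algebraMap B (p.ResidueField ⊗[A] B)) = Ideal.Quotient.mk m := by
  let _ : Field (B ⧸ m) := Ideal.Quotient.field m
  have hf₁ : p ≤ RingHom.ker (Algebra.ofId A (B ⧸ m)) := by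
    intro x hx
    rw [hp, Ideal.mem_comap] at hx
    rw [RingHom.mem_ker]
    show algebraMap A (B ⧸ m) x = 0
    rw [IsScalarTower.algebraMap_apply A B (B ⧸ m)]
    exact Ideal.Quotient.eq_zero_iff_mem.2 hx
  have hf₂ : p.primeCompl ≤ (IsUnit.submonoid (B ⧸ m)).comap (Algebra.ofId A (B ⧸ m)) := by
    intro x hx
    rw [Submonoid.mem_comap, IsUnit.mem_submonoid_iff, isUnit_iff_ne_zero]
    intro h0
    have hxp : x ∈ p := by
      rw [hp, Ideal.mem_comap]
      apply Ideal.Quotient.eq_zero_iff_mem.1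
      rw [← h0]
      exact (IsScalarTower.algebraMap_apply A B (B ⧸ m) x).symm
    exact hx hxp
  let g₁ : p.ResidueField →ₐ[A] B ⧸ m := Ideal.ResidueField.liftₐ p (Algebra.ofId A (B ⧸ m)) hf₁ hf₂
  let g₂ : B →ₐ[A] B ⧸ m := Ideal.Quotient.mkₐ A m
  have hc : ∀ (x : p.ResidueField) (y : B), Commute (g₁ x) (g₂ y) := fun _ _ => Commute.all _ _
  refine ⟨(Algebra.TensorProduct.lift g₁ g₂ hc).toRingHom, ?_⟩
  ext b
  show (Algebra.TensorProduct.lift g₁ g₂ hc) ((1 : p.ResidueField) ⊗ₜ[A] b) = _
  rw [Algebra.TensorProduct.lift_tmul, map_one, one_mul]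
  rfl

end ring

end Groth.Agent.Lib.T2H4.FibreDim
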