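import Mathlib
import Groth.Prelude.Def_Cyc
import Groth.Agent.Lib.T2H4FibreDeg
set_option backward.isDefEq.respectTransparency.types false

/-!
# Cycles and finite locally free morphisms: `f_* f^* α = d α` (helper4)

Namespace `Groth.Agent.Lib.T2H4.FinFlatCyc`.
-/

set_option autoImplicit false
set_option linter.style.haveILetI false
universe u
open CategoryTheory CategoryTheory.Limits AlgebraicGeometry TopologicalSpace Opposite

namespace Groth.Agent.Lib.T2H4.FinFlatCyc

open Groth.Agent.Lib.T2H4.FibreDeg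

variable {X Y : Scheme.{u}} (f : X ⟶ Y)

/-- a finite morphism has relative dimension `0` -/
theorem hasRelDim_zero [IsFinite f] : Cyc.HasRelDim f 0 := by
  intro y T hT
  haveI : DiscreteTopology (f.fiber y) := inferInstance
  haveI : DiscreteTopology T := inferInstance
  have h1 : topologicalKrullDim T ≤ 0 := topologicalKrullDim_zero_of_discreteTopology T
  obtain ⟨t, ht⟩ := hT.1.1
  haveI : Nonempty (IrreducibleCloseds T) :=
    ⟨⟨closure {⟨t, ht⟩}, isIrreducible_singleton.closure, isClosed_closure⟩⟩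
  have h2 : 0 ≤ topologicalKrullDim T := Order.krullDim_nonneg
  rw [Nat.cast_zero]
  exact le_antisymm h1 h2

/-- for a finite morphism, compatible dimension functions agree along `f` -/
theorem delta_eq [IsFinite f] (δX : X → ℤ) (δY : Y → ℤ) (hδ : Cyc.DeltaCompat f δX δY) (x : X) :
    δX x = δY (f x) := by
  obtain ⟨n, hn, h⟩ := hδ x
  rw [Groth.Agent.Lib.Helper4.VarDim.trdeg_residueFieldMap_eq_zero_of_locallyQuasiFinite f x] at hn
  have : n = 0 := by exact_mod_cast hn.symm
  rw [h, this]
  simp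

/-- **`f_* f^* α = d α`** for a finite flat morphism of constant degree `d` -/
theorem map_pullFun [IsFinite f] [Flat f] (δX : X → ℤ) (δY : Y → ℤ)
    (hδ : Cyc.DeltaCompat f δX δY) (d : ℕ) (hd : ∀ y : Y, f.finrank y = d)
    (α : AlgebraicCycle Y ℤ) (α' : AlgebraicCycle X ℤ)
    (hα' : ⇑α' = Cyc.pullFun f δX δY 0 ⇑α) :
    AlgebraicCycle.map f δX δY α' = d • α := by
  classical
  ext y
  change ∑ᶠ x ∈ f ⁻¹' {y}, α' x * ((AlgebraicCycle.mapCoeff f δX δY x : ℕ) : ℤ) = (d • α) y
  set F : X → ℕ := fun x => (Module.length (X.presheaf.stalk x)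
        (X.presheaf.stalk x ⧸ Ideal.map (f.stalkMap x).hom
          (IsLocalRing.maximalIdeal (Y.presheaf.stalk (f x))))).toNat * f.residueDegree x with hF
  have hterm : ∀ x ∈ f ⁻¹' {y}, α' x * ((AlgebraicCycle.mapCoeff f δX δY x : ℕ) : ℤ) =
      α y * ((F x : ℕ) : ℤ) := by
    intro x hx
    have hfx : f x = y := hx
    rw [hα', hF]
    unfold Cyc.pullFun AlgebraicCycle.mapCoeff
    have h1 : δX x = δY (f x) := delta_eq f δX δY hδ x
    have hα : α (f x) = α y := congrArg α hfx
    rw [if_pos (by rw [h1, add_zero]), if_pos h1, hα]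
    push_cast
    ring
  have hfin : (f ⁻¹' {y}).Finite := f.finite_preimage_singleton y
  rw [finsum_mem_congr rfl hterm, ← mul_finsum_mem (fun x => ((F x : ℕ) : ℤ)) (α y),
    ← Nat.cast_finsum_mem hfin F, hF, finsum_fibre f y, hd y]
  simp [mul_comm]

end Groth.Agent.Lib.T2H4.FinFlatCyc
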