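import Mathlib
import Groth.Agent.Lib.Helper23LocGen

/-!
# Finitely many global sections generate a finite type quasi-coherent module generated by global sections (helper4)

* `tspan M T B` : span of the restrictions to `B` of a set `T` of global sections of `M`
* `exists_finset_locGen` : on a quasi-compact scheme, a quasi-coherent module of finite type which is locally generated
  by its global sections (`LocGen` near every point) is locally generated by finitely many of them.
-/

set_option autoImplicit false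
universe u
open CategoryTheory CategoryTheory.Limits AlgebraicGeometry TopologicalSpace Opposite

namespace Groth.Agent.Lib.T2H4.FinGen
open Groth.Agent.Lib.Helper23.SecTw Groth.Agent.Lib.Helper23.GenLocus Groth.Agent.Lib.Helper6
open Groth.Agent.Lib.Helper23.LocGen Groth.Agent.Lib.Helper2.Push Groth.Agent.Lib.Helper23.FinType

variable {X : Scheme.{u}}

/-- span of the restrictions to `B` of a set of global sections -/
noncomputable def tspan (M : X.Modules) (T : Set (Coh.structureModule X ⟶ M)) (B : X.Opens) :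
    Submodule Γ(X, B) Γ(M, B) :=
  Submodule.span Γ(X, B) ((fun σ : Coh.structureModule X ⟶ M => sv σ B) '' T)

theorem sv_mem_tspan (M : X.Modules) (T : Set (Coh.structureModule X ⟶ M))
    {σ : Coh.structureModule X ⟶ M} (hσ : σ ∈ T) (B : X.Opens) : sv σ B ∈ tspan M T B :=
  Submodule.subset_span ⟨σ, hσ, rfl⟩

theorem tspan_mono (M : X.Modules) {T T' : Set (Coh.structureModule X ⟶ M)} (h : T ⊆ T') (B : X.Opens) :
    tspan M T B ≤ tspan M T' B :=
  Submodule.span_mono (Set.image_mono h)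

theorem res_mem_tspan (M : X.Modules) (T : Set (Coh.structureModule X ⟶ M)) {B B' : X.Opens} (h : B' ≤ B)
    {m : Γ(M, B)} (hm : m ∈ tspan M T B) : res M h m ∈ tspan M T B' := by
  induction hm using Submodule.span_induction with
  | mem x hx =>
    obtain ⟨σ, hσ, rfl⟩ := hx
    change res M h (sv σ B) ∈ _
    rw [res_sv]
    exact sv_mem_tspan M T hσ B'
  | zero => rw [res_zero]; exact zero_mem _
  | add x y _ _ hx hy => rw [res_add']; exact add_mem hx hy
  | smul r x _ hx => rw [res_smul]; exact Submodule.smul_mem _ _ hx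

theorem exists_finset_of_mem_gspan (M : X.Modules) {B : X.Opens} {m : Γ(M, B)} (hm : m ∈ gspan M B) :
    ∃ T : Finset (Coh.structureModule X ⟶ M), m ∈ tspan M (↑T) B := by
  classical
  induction hm using Submodule.span_induction with
  | mem x hx =>
    obtain ⟨σ, rfl⟩ := hx
    exact ⟨{σ}, sv_mem_tspan M _ (by simp) B⟩
  | zero => exact ⟨∅, zero_mem _⟩
  | add x y _ _ hx hy =>
    obtain ⟨T, hT⟩ := hx
    obtain ⟨T', hT'⟩ := hy
    refine ⟨T ∪ T', add_mem (tspan_mono M ?_ B hT) (tspan_mono M ?_ B hT')⟩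
    · intro a ha
      simp only [Finset.coe_union, Set.mem_union]
      exact Or.inl ha
    · intro a ha
      simp only [Finset.coe_union, Set.mem_union]
      exact Or.inr ha
  | smul r x _ hx =>
    obtain ⟨T, hT⟩ := hx
    exact ⟨T, Submodule.smul_mem _ _ hT⟩

/-- a section over a quasi-compact open is locally in the span of finitely many global sections -/
theorem exists_finset_section (M : X.Modules) (h : ∀ x : X, ∃ V : X.Opens, x ∈ V ∧ LocGen M V)
    (W : X.Opens) (hW : IsCompact (W : Set X)) (t : Γ(M, W)) :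
    ∃ T : Finset (Coh.structureModule X ⟶ M), ∀ y : X, y ∈ W →
      ∃ (B : X.Opens) (hB : B ≤ W), y ∈ B ∧ res M hB t ∈ tspan M (↑T) B := by
  classical
  have key : ∀ y : W, ∃ (B : X.Opens) (T : Finset (Coh.structureModule X ⟶ M)) (hB : B ≤ W),
      y.1 ∈ B ∧ res M hB t ∈ tspan M (↑T) B := by
    intro y
    obtain ⟨V, hyV, hV⟩ := h y.1
    obtain ⟨B, hB, hyB, hmem⟩ := hV (W ⊓ V) inf_le_right (res M inf_le_left t) y.1 ⟨y.2, hyV⟩
    obtain ⟨T, hT⟩ := exists_finset_of_mem_gspan M hmem
    refine ⟨B, T, hB.trans inf_le_left, hyB, ?_⟩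
    rw [res_res] at hT
    exact hT
  choose B T hB hyB hmem using key
  obtain ⟨S, hS⟩ : ∃ S : Finset W, (W : Set X) ⊆ ⋃ y ∈ S, ((B y : X.Opens) : Set X) :=
    hW.elim_finite_subcover (fun y : W => ((B y : X.Opens) : Set X)) (fun y => (B y).2)
      (fun z hz => Set.mem_iUnion.2 ⟨⟨z, hz⟩, hyB ⟨z, hz⟩⟩)
  refine ⟨S.biUnion T, fun y hy => ?_⟩
  obtain ⟨z, hz⟩ := Set.mem_iUnion.1 (hS hy)
  obtain ⟨hzS, hyz⟩ := Set.mem_iUnion.1 hz
  refine ⟨B z, hB z, hyz, tspan_mono M ?_ (B z) (hmem z)⟩
  intro a ha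
  exact Finset.mem_coe.2 (Finset.mem_biUnion.2 ⟨z, hzS, Finset.mem_coe.1 ha⟩)

/-- **finitely many global sections suffice**: on a quasi-compact scheme, a quasi-coherent module of finite type that is
locally generated by global sections is locally generated by finitely many global sections. -/
theorem exists_finset_locGen [CompactSpace X] (M : X.Modules) [M.IsQuasicoherent]
    [SheafOfModules.IsFiniteType (R := X.ringCatSheaf) M]
    (h : ∀ x : X, ∃ V : X.Opens, x ∈ V ∧ LocGen M V) :
    ∃ T : Finset (Coh.structureModule X ⟶ M), ∀ (A : X.Opens) (m : Γ(M, A)) (y : X), y ∈ A →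
      ∃ (B : X.Opens) (hB : B ≤ A), y ∈ B ∧ res M hB m ∈ tspan M (↑T) B := by
  classical
  have hcov : ∀ x : X, ∃ W : X.Opens, IsAffineOpen W ∧ x ∈ W := by
    intro x
    obtain ⟨W, hW, hxW, -⟩ := Opens.isBasis_iff_nbhd.1 X.isBasis_affineOpens (Opens.mem_top x)
    exact ⟨W, hW, hxW⟩
  choose W hW hxW using hcov
  obtain ⟨Tx, hTx⟩ : ∃ Tx : Finset X, (Set.univ : Set X) ⊆ ⋃ x ∈ Tx, ((W x : X.Opens) : Set X) :=
    isCompact_univ.elim_finite_subcover (fun x => ((W x : X.Opens) : Set X)) (fun x => (W x).2)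
      (fun x _ => Set.mem_iUnion.2 ⟨x, hxW x⟩)
  have hfin : ∀ x, ∃ G : Finset Γ(M, W x), Submodule.span Γ(X, W x) (G : Set Γ(M, W x)) = ⊤ := by
    intro x
    have hf : Module.Finite Γ(X, W x) Γ(M, W x) := finite_of_isFiniteType M (hW x)
    exact hf.fg_top
  choose G hG using hfin
  have hsec := fun (x : X) (t : Γ(M, W x)) => exists_finset_section M h (W x) (hW x).isCompact t
  choose Ts hTs using hsec
  refine ⟨Tx.biUnion fun x => (G x).biUnion fun t => Ts x t, ?_⟩
  set T : Finset (Coh.structureModule X ⟶ M) := Tx.biUnion fun x => (G x).biUnion fun t => Ts x t with hTdef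
  intro A m y hyA
  obtain ⟨x, hx⟩ := Set.mem_iUnion.1 (hTx (Set.mem_univ y))
  obtain ⟨hxT, hyx⟩ := Set.mem_iUnion.1 hx
  have hyW : y ∈ W x := hyx
  -- every section over `W x` is near `y` in the span of `T`
  have hP : ∀ t : Γ(M, W x), ∃ (B : X.Opens) (hB : B ≤ W x), y ∈ B ∧ res M hB t ∈ tspan M (↑T) B := by
    intro t
    have h0 : t ∈ Submodule.span Γ(X, W x) (G x : Set Γ(M, W x)) := by rw [hG x]; trivial
    induction h0 using Submodule.span_induction with
    | mem τ hτ =>
      obtain ⟨B, hB, hyB, hmem⟩ := hTs x τ y hyW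
      refine ⟨B, hB, hyB, tspan_mono M ?_ B hmem⟩
      intro a ha
      exact Finset.mem_coe.2 (Finset.mem_biUnion.2 ⟨x, hxT,
        Finset.mem_biUnion.2 ⟨τ, Finset.mem_coe.1 hτ, Finset.mem_coe.1 ha⟩⟩)
    | zero => exact ⟨W x, le_rfl, hyW, by rw [res_zero]; exact zero_mem _⟩
    | add a b _ _ ha hb =>
      obtain ⟨B, hB, hyB, hmem⟩ := ha
      obtain ⟨B', hB', hyB', hmem'⟩ := hb
      refine ⟨B ⊓ B', inf_le_left.trans hB, ⟨hyB, hyB'⟩, ?_⟩
      rw [res_add']
      refine add_mem ?_ ?_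
      · have h1 := res_mem_tspan M (↑T) (inf_le_left : B ⊓ B' ≤ B) hmem
        rw [res_res] at h1
        exact h1
      · have h1 := res_mem_tspan M (↑T) (inf_le_right : B ⊓ B' ≤ B') hmem'
        rw [res_res] at h1
        exact h1
    | smul r a _ ha =>
      obtain ⟨B, hB, hyB, hmem⟩ := ha
      refine ⟨B, hB, hyB, ?_⟩
      rw [res_smul]
      exact Submodule.smul_mem _ _ hmem
  obtain ⟨f, hfA, hyf⟩ := (hW x).exists_basicOpen_le (V := A) ⟨y, hyA⟩ hyW
  have hloc : IsLocOn M (W x) := IsLocOn.of_isQuasicoherent (hW x) M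
  obtain ⟨n, t₀, ht₀⟩ := hloc.exists_extension f (res M hfA m)
  change res M (X.basicOpen_le f) t₀ = resf (X.basicOpen_le f) f ^ n • res M hfA m at ht₀
  obtain ⟨B, hB, hyB, hmem⟩ := hP t₀
  have hunit : IsUnit (resf (X.basicOpen_le f) f) := RingedSpace.isUnit_res_basicOpen _ f
  obtain ⟨u, hu⟩ := hunit.pow n
  have h1 : res M hfA m = (↑u⁻¹ : Γ(X, X.basicOpen f)) • res M (X.basicOpen_le f) t₀ := by
    rw [ht₀, ← hu, ← mul_smul, Units.inv_mul, one_smul]
  refine ⟨B ⊓ X.basicOpen f, inf_le_right.trans hfA, ⟨hyB, hyf⟩, ?_⟩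
  have h2 : res M (inf_le_right.trans hfA : B ⊓ X.basicOpen f ≤ A) m =
      res M (inf_le_right : B ⊓ X.basicOpen f ≤ X.basicOpen f) (res M hfA m) := by
    rw [res_res]
  rw [h2, h1, res_smul, res_res]
  refine Submodule.smul_mem _ _ ?_
  have h3 := res_mem_tspan M (↑T) (inf_le_left : B ⊓ X.basicOpen f ≤ B) hmem
  rw [res_res] at h3
  exact h3

end Groth.Agent.Lib.T2H4.FinGen
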