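import Mathlib
import Groth.Agent.Lib.T2H4FinGenA
import Groth.Agent.Lib.Helper23CounitEpi
import Groth.Agent.Lib.Helper23FTsub
import Groth.Agent.Lib.Helper23FinTypeLocal

/-!
# A finite type quasi-coherent submodule of `f_* M` whose adjunct `f^* G → M` is an epimorphism (helper4)

* `hom_ext_of_tspan` : morphisms out of a module locally generated by a set `T` of global sections are determined by their
  effect on `T`.
* `exists_ft_epi` : `f : X ⟶ Y` quasi-compact quasi-separated, `Y` quasi-compact quasi-separated, `M` quasi-coherent of finite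
  type on `X`, locally generated by its sections over `f⁻¹ V` for `V` in a finite affine cover of `Y`: there is a
  quasi-coherent submodule of finite type `G ⊆ f_* M` with `f^* G → M` an epimorphism.
-/

set_option autoImplicit false
set_option linter.style.haveILetI false
universe u
open CategoryTheory CategoryTheory.Limits AlgebraicGeometry TopologicalSpace Opposite

namespace Groth.Agent.Lib.T2H4.FinGen
open Groth.Agent.Lib.Helper23.SecTw Groth.Agent.Lib.Helper23.GenLocus Groth.Agent.Lib.Helper6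
open Groth.Agent.Lib.Helper23.LocGen Groth.Agent.Lib.Helper23.CounitEpi Groth.Agent.Lib.Helper23.Extend

variable {X : Scheme.{u}}

/-- morphisms out of a module locally generated by the global sections in `T` are determined by their effect on `T` -/
theorem hom_ext_of_tspan {M Q : X.Modules} (T : Set (Coh.structureModule X ⟶ M))
    (hT : ∀ (A : X.Opens) (m : Γ(M, A)) (y : X), y ∈ A →
      ∃ (B : X.Opens) (hB : B ≤ A), y ∈ B ∧ res M hB m ∈ tspan M T B)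
    (φ ψ : M ⟶ Q) (h : ∀ σ ∈ T, σ ≫ φ = σ ≫ ψ) : φ = ψ := by
  apply Scheme.Modules.hom_ext
  intro W
  ext t
  choose B hB hyB hmem using fun y : W => hT W t y.1 y.2
  refine (modSheaf Q).eq_of_locally_eq' (fun x : W => B x) W (fun x => homOfLE (hB x)) ?_ _ _ (fun x => ?_)
  · intro y hy
    exact Opens.mem_iSup.2 ⟨⟨y, hy⟩, hyB ⟨y, hy⟩⟩
  · change res Q (hB x) (φ.app W t) = res Q (hB x) (ψ.app W t)
    have e1 := app_map φ (homOfLE (hB x)) t
    have e2 := app_map ψ (homOfLE (hB x)) t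
    refine e1.symm.trans (Eq.trans ?_ e2)
    change φ.app (B x) (res M (hB x) t) = ψ.app (B x) (res M (hB x) t)
    have key : ∀ a : Γ(M, B x), a ∈ tspan M T (B x) → φ.app (B x) a = ψ.app (B x) a := by
      intro a h0
      induction h0 using Submodule.span_induction with
      | mem z hz =>
        obtain ⟨σ, hσ, rfl⟩ := hz
        exact congrArg (fun χ : Coh.structureModule X ⟶ Q => sv χ (B x)) (h σ hσ)
      | zero => rw [map_zero, map_zero]
      | add a b _ _ ha hb => rw [map_add, map_add, ha, hb]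
      | smul r a _ ha =>
        rw [Scheme.Modules.Hom.app_smul, Scheme.Modules.Hom.app_smul, ha]
    exact key _ (hmem x)

theorem app_eq_of_res_eq {M Q : X.Modules} (φ ψ : M ⟶ Q) {W₁ W₂ : X.Opens} (h : W₂ = W₁) (s : Γ(M, W₁))
    (hs : φ.app W₂ (res M (le_of_eq h) s) = ψ.app W₂ (res M (le_of_eq h) s)) :
    φ.app W₁ s = ψ.app W₁ s := by
  subst h
  rw [res_self] at hs
  exact hs

/-- morphisms agreeing on a set of sections over `U` which locally generates `M|_U` agree on all opens inside `U` -/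
theorem app_eq_of_restrict_tspan {M Q : X.Modules} (φ ψ : M ⟶ Q) (U : X.Opens)
    (TU : Set (Coh.structureModule (↑U : Scheme.{u}) ⟶ M.restrict U.ι))
    (hTU : ∀ (A : (↑U : Scheme.{u}).Opens) (m : Γ(M.restrict U.ι, A)) (y : (↑U : Scheme.{u})), y ∈ A →
      ∃ (B : (↑U : Scheme.{u}).Opens) (hB : B ≤ A), y ∈ B ∧
        res (M.restrict U.ι) hB m ∈ tspan (M.restrict U.ι) TU B)
    (hsec : ∀ σ ∈ TU, φ.app (U.ι ''ᵁ ⊤) (sv σ ⊤ : Γ(M, U.ι ''ᵁ ⊤)) =
      ψ.app (U.ι ''ᵁ ⊤) (sv σ ⊤ : Γ(M, U.ι ''ᵁ ⊤)))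
    (W : X.Opens) (hW : W ≤ U) : φ.app W = ψ.app W := by
  let φ' : M.restrict U.ι ⟶ Q.restrict U.ι := (Scheme.Modules.restrictFunctor U.ι).map φ
  let ψ' : M.restrict U.ι ⟶ Q.restrict U.ι := (Scheme.Modules.restrictFunctor U.ι).map ψ
  have key : φ' = ψ' := by
    refine hom_ext_of_tspan TU hTU φ' ψ' (fun σ hσ => hom_ext_of_sv _ _ ?_)
    exact hsec σ hσ
  have h3 : ∀ W' : (↑U : Scheme.{u}).Opens, φ.app (U.ι ''ᵁ W') = ψ.app (U.ι ''ᵁ W') :=
    fun W' => congrArg (fun m : M.restrict U.ι ⟶ Q.restrict U.ι => Scheme.Modules.Hom.app m W') key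
  have h4 : ∀ W₁ : X.Opens, W₁ = W → φ.app W₁ = ψ.app W₁ → φ.app W = ψ.app W := by
    rintro W₁ rfl h; exact h
  refine h4 _ ?_ (h3 (U.ι ⁻¹ᵁ W))
  rw [Scheme.Hom.image_preimage_eq_opensRange_inf, Scheme.Opens.opensRange_ι]
  exact inf_eq_right.2 hW

variable {Y : Scheme.{u}} (f : X ⟶ Y)

open Groth.Agent.Lib.Helper23.QCohLocal in
/-- **a finite type quasi-coherent submodule `G ⊆ f_* M` with `f^* G → M` an epimorphism.** -/
theorem exists_ft_epi [CompactSpace Y] [QuasiSeparatedSpace Y] [QuasiCompact f] [QuasiSeparated f]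
    (M : X.Modules) [M.IsQuasicoherent] [SheafOfModules.IsFiniteType (R := X.ringCatSheaf) M]
    (T : Finset Y.affineOpens) (hT : ∀ y : Y, ∃ V ∈ T, y ∈ V.1)
    (h : ∀ V ∈ T, ∀ x : ((f ⁻¹ᵁ V.1 : X.Opens) : Scheme.{u}),
      ∃ A : ((f ⁻¹ᵁ V.1 : X.Opens) : Scheme.{u}).Opens, x ∈ A ∧ LocGen (M.restrict (f ⁻¹ᵁ V.1).ι) A) :
    ∃ (G : Y.Modules) (i : G ⟶ (Scheme.Modules.pushforward f).obj M), G.IsQuasicoherent ∧
      SheafOfModules.IsFiniteType (R := Y.ringCatSheaf) G ∧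
      Epi (((Scheme.Modules.pullbackPushforwardAdjunction f).homEquiv G M).symm i) := by
  classical
  haveI hK : ((Scheme.Modules.pushforward f).obj M).IsQuasicoherent := isQuasicoherent_pushforward f M
  have hfin : ∀ V : T, ∃ TV : Finset (Coh.structureModule ((f ⁻¹ᵁ V.1.1 : X.Opens) : Scheme.{u}) ⟶
        M.restrict (f ⁻¹ᵁ V.1.1).ι),
      ∀ (A : ((f ⁻¹ᵁ V.1.1 : X.Opens) : Scheme.{u}).Opens) (m : Γ(M.restrict (f ⁻¹ᵁ V.1.1).ι, A))
        (y : ((f ⁻¹ᵁ V.1.1 : X.Opens) : Scheme.{u})), y ∈ A →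
        ∃ (B : ((f ⁻¹ᵁ V.1.1 : X.Opens) : Scheme.{u}).Opens) (hB : B ≤ A), y ∈ B ∧
          res (M.restrict (f ⁻¹ᵁ V.1.1).ι) hB m ∈ tspan (M.restrict (f ⁻¹ᵁ V.1.1).ι) (↑TV) B := by
    intro V
    haveI : CompactSpace ((f ⁻¹ᵁ V.1.1 : X.Opens) : Scheme.{u}) :=
      isCompact_iff_compactSpace.mp (f.isCompact_preimage V.1.2.isCompact)
    haveI : (M.restrict (f ⁻¹ᵁ V.1.1).ι).IsQuasicoherent :=
      Scheme.Modules.isQuasicoherent_restrictFunctor (f ⁻¹ᵁ V.1.1).ι M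
    haveI : SheafOfModules.IsFiniteType (R := ((f ⁻¹ᵁ V.1.1 : X.Opens) : Scheme.{u}).ringCatSheaf)
        (M.restrict (f ⁻¹ᵁ V.1.1).ι) :=
      Groth.Agent.Lib.Helper23.FinType.isFiniteType_restrict (f ⁻¹ᵁ V.1.1).ι M
    exact exists_finset_locGen _ (h V.1 V.2)
  choose TV hTV using hfin
  let tsec : ∀ V : T, (Coh.structureModule ((f ⁻¹ᵁ V.1.1 : X.Opens) : Scheme.{u}) ⟶
      M.restrict (f ⁻¹ᵁ V.1.1).ι) → Γ(M, f ⁻¹ᵁ V.1.1) :=
    fun V σ => res M (le_of_eq (Scheme.Opens.ι_image_top (f ⁻¹ᵁ V.1.1)).symm)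
      (sv σ ⊤ : Γ(M, (f ⁻¹ᵁ V.1.1).ι ''ᵁ ⊤))
  let l : List (Σ U : Y.affineOpens, Γ((Scheme.Modules.pushforward f).obj M, U.1)) :=
    T.attach.toList.flatMap (fun V => (TV V).toList.map (fun σ => ⟨V.1, tsec V σ⟩))
  obtain ⟨G, i, hi, hq, hf, hmem⟩ := Groth.Agent.Lib.Helper23.FTsub.exists_ft_sub_list
    ((Scheme.Modules.pushforward f).obj M) ⟨⟨⊥, isAffineOpen_bot Y⟩, 0⟩ l
  refine ⟨G, i, hq, hf, ⟨fun {Q} φ ψ hφψ => ?_⟩⟩
  rw [← Adjunction.homEquiv_naturality_right_symm, ← Adjunction.homEquiv_naturality_right_symm] at hφψ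
  have hi2 : i ≫ (Scheme.Modules.pushforward f).map φ = i ≫ (Scheme.Modules.pushforward f).map ψ :=
    (((Scheme.Modules.pullbackPushforwardAdjunction f).homEquiv G Q).symm).injective hφψ
  have hsec : ∀ (V : T) (σ : Coh.structureModule ((f ⁻¹ᵁ V.1.1 : X.Opens) : Scheme.{u}) ⟶
      M.restrict (f ⁻¹ᵁ V.1.1).ι), σ ∈ TV V →
      φ.app (f ⁻¹ᵁ V.1.1) (tsec V σ) = ψ.app (f ⁻¹ᵁ V.1.1) (tsec V σ) := by
    intro V σ hσ
    have hl : (⟨V.1, tsec V σ⟩ : Σ U : Y.affineOpens, Γ((Scheme.Modules.pushforward f).obj M, U.1)) ∈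
        (⟨⟨⊥, isAffineOpen_bot Y⟩, 0⟩ : Σ U : Y.affineOpens, Γ((Scheme.Modules.pushforward f).obj M, U.1)) :: l := by
      refine List.mem_cons_of_mem _ (List.mem_flatMap.2 ⟨V, ?_, List.mem_map.2 ⟨σ, ?_, rfl⟩⟩)
      · exact Finset.mem_toList.2 (Finset.mem_attach _ _)
      · exact Finset.mem_toList.2 hσ
    obtain ⟨g, hg⟩ := hmem _ hl
    have h1 := congrArg (fun χ : G ⟶ (Scheme.Modules.pushforward f).obj Q =>
      Scheme.Modules.Hom.app χ V.1.1 g) hi2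
    change φ.app (f ⁻¹ᵁ V.1.1) (i.app V.1.1 g) = ψ.app (f ⁻¹ᵁ V.1.1) (i.app V.1.1 g) at h1
    rw [hg] at h1
    exact h1
  apply hom_ext_of_cover
  intro x
  obtain ⟨V, hVT, hxV⟩ := hT (f x)
  refine ⟨f ⁻¹ᵁ V.1, hxV, ?_⟩
  refine app_eq_of_restrict_tspan φ ψ (f ⁻¹ᵁ V.1) (↑(TV ⟨V, hVT⟩)) (hTV ⟨V, hVT⟩) (fun σ hσ => ?_)
  exact app_eq_of_res_eq φ ψ (Scheme.Opens.ι_image_top (f ⁻¹ᵁ V.1)).symm _
    (hsec ⟨V, hVT⟩ σ (Finset.mem_coe.1 hσ))

end Groth.Agent.Lib.T2H4.FinGen
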