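import Mathlib
import Groth.Agent.Lib.T2H4FinGenB
import Groth.Agent.Lib.T2H4AmpleAffine
import Groth.Agent.Lib.Helper23RestrTensor

/-!
# Twists of a finite type module by a relatively ample module are quotients of pullbacks of finite type modules (helper4)

* `locGen_eventually_of_isRelAmple`
* `exists_ft_epi_of_isRelAmple` : `f : X ⟶ Y` quasi-separated, `Y` quasi-compact quasi-separated, `K` invertible and
  `f`-ample, `E` quasi-coherent of finite type on `X`: for `m ≫ 0`, `E ⊗ K^m` is a quotient of `f^* F` with `F` quasi-coherent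
  of finite type on `Y`.
-/

set_option autoImplicit false
set_option linter.style.haveILetI false
universe u
open CategoryTheory CategoryTheory.Limits AlgebraicGeometry TopologicalSpace Opposite

namespace Groth.Agent.Lib.T2H4.FinGen
open Groth.Agent.Lib.Helper23.LocGen Groth.Agent.Lib.Helper23.RestrTensor Groth.Agent.Lib.Helper23.SecTw
  Groth.Agent.Lib.T2H4.AmpleAffine

variable {X Y : Scheme.{u}} (f : X ⟶ Y)

theorem locGen_eventually_of_isRelAmple [CompactSpace Y] (K : X.Modules) (hK : PicF.IsInvertible K)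
    (hamp : RelAmple.IsRelAmple f K) (E : X.Modules) [E.IsQuasicoherent]
    [SheafOfModules.IsFiniteType (R := X.ringCatSheaf) E] :
    ∃ T : Finset Y.affineOpens, (∀ y : Y, ∃ V ∈ T, y ∈ V.1) ∧ ∃ m₀ : ℕ, ∀ m, m₀ ≤ m → ∀ V ∈ T,
      ∀ x : ((f ⁻¹ᵁ V.1 : X.Opens) : Scheme.{u}), ∃ A : ((f ⁻¹ᵁ V.1 : X.Opens) : Scheme.{u}).Opens, x ∈ A ∧
        LocGen ((CohB1.tensorMod E (CohB1.tensorPow K m)).restrict (f ⁻¹ᵁ V.1).ι) A := by
  classical
  have key : ∀ V : Y.affineOpens, ∃ n₀ : ℕ, ∀ n, n₀ ≤ n →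
      ∀ y : ((f ⁻¹ᵁ V.1 : X.Opens) : Scheme.{u}), ∃ A : ((f ⁻¹ᵁ V.1 : X.Opens) : Scheme.{u}).Opens, y ∈ A ∧
        LocGen ((CohB1.tensorMod E (CohB1.tensorPow K n)).restrict (f ⁻¹ᵁ V.1).ι) A := by
    intro V
    haveI : (E.restrict (f ⁻¹ᵁ V.1).ι).IsQuasicoherent :=
      Scheme.Modules.isQuasicoherent_restrictFunctor (f ⁻¹ᵁ V.1).ι E
    haveI : SheafOfModules.IsFiniteType (R := ((f ⁻¹ᵁ V.1 : X.Opens) : Scheme.{u}).ringCatSheaf)
        (E.restrict (f ⁻¹ᵁ V.1).ι) :=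
      Groth.Agent.Lib.Helper23.FinType.isFiniteType_restrict (f ⁻¹ᵁ V.1).ι E
    haveI : CompactSpace ((f ⁻¹ᵁ V.1 : X.Opens) : Scheme.{u}) := (hamp.2 V).2.1
    choose A N hyA hN using exists_locGen_nhd (K.restrict (f ⁻¹ᵁ V.1).ι) (hamp.2 V)
      (E.restrict (f ⁻¹ᵁ V.1).ι)
    obtain ⟨Tt, hTt⟩ : ∃ Tt : Finset ((f ⁻¹ᵁ V.1 : X.Opens) : Scheme.{u}),
        (Set.univ : Set ((f ⁻¹ᵁ V.1 : X.Opens) : Scheme.{u})) ⊆
          ⋃ x ∈ Tt, ((A x : ((f ⁻¹ᵁ V.1 : X.Opens) : Scheme.{u}).Opens) :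
            Set ((f ⁻¹ᵁ V.1 : X.Opens) : Scheme.{u})) :=
      isCompact_univ.elim_finite_subcover
        (fun x => ((A x : ((f ⁻¹ᵁ V.1 : X.Opens) : Scheme.{u}).Opens) :
            Set ((f ⁻¹ᵁ V.1 : X.Opens) : Scheme.{u})))
        (fun x => (A x).2) (fun x _ => Set.mem_iUnion.2 ⟨x, hyA x⟩)
    refine ⟨Tt.sup N, fun n hn y => ?_⟩
    obtain ⟨z, hz⟩ := Set.mem_iUnion.1 (hTt (Set.mem_univ y))
    obtain ⟨hzT, hyz⟩ := Set.mem_iUnion.1 hz
    obtain ⟨e⟩ := nonempty_restrict_twist_iso E K hK (f ⁻¹ᵁ V.1) n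
    exact ⟨A z, hyz, LocGen.of_iso e.symm (hN z n (le_trans (Finset.le_sup (f := N) hzT) hn))⟩
  choose N hN using key
  have hcov : ∀ x : Y, ∃ V : Y.affineOpens, x ∈ V.1 := by
    intro x
    obtain ⟨V, hV, hxV, -⟩ := Opens.isBasis_iff_nbhd.1 Y.isBasis_affineOpens (Opens.mem_top x)
    exact ⟨⟨V, hV⟩, hxV⟩
  choose V hV using hcov
  obtain ⟨T, hT⟩ : ∃ T : Finset Y, (Set.univ : Set Y) ⊆ ⋃ x ∈ T, (((V x).1 : Y.Opens) : Set Y) :=
    isCompact_univ.elim_finite_subcover (fun x => (((V x).1 : Y.Opens) : Set Y))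
      (fun x => (V x).1.2) (fun x _ => Set.mem_iUnion.2 ⟨x, hV x⟩)
  refine ⟨T.image V, fun x => ?_, (T.image V).sup N, fun m hm W hW y => ?_⟩
  · obtain ⟨z, hz⟩ := Set.mem_iUnion.1 (hT (Set.mem_univ x))
    obtain ⟨hzT, hxz⟩ := Set.mem_iUnion.1 hz
    exact ⟨V z, Finset.mem_image_of_mem V hzT, hxz⟩
  · exact hN W m (le_trans (Finset.le_sup (f := N) hW) hm) y

/-- **`E ⊗ K^m` is, for `m ≫ 0`, a quotient of `f^* F` with `F` quasi-coherent of finite type**, for `K` invertible and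
relatively ample. -/
theorem exists_ft_epi_of_isRelAmple [CompactSpace Y] [QuasiSeparatedSpace Y] [QuasiSeparated f]
    (K : X.Modules) (hK : PicF.IsInvertible K)
    (hamp : RelAmple.IsRelAmple f K) (E : X.Modules) (hE : Coh.IsQCoh E) (hEft : CohB1.IsFT E) :
    ∃ m₀ : ℕ, ∀ m : ℕ, m₀ ≤ m →
      ∃ (F : Y.Modules) (φ : (Scheme.Modules.pullback f).obj F ⟶ CohB1.tensorMod E (CohB1.tensorPow K m)),
        Coh.IsQCoh F ∧ CohB1.IsFT F ∧ Epi φ := by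
  haveI : E.IsQuasicoherent := hE
  haveI : SheafOfModules.IsFiniteType (R := X.ringCatSheaf) E := hEft
  haveI : QuasiCompact f := hamp.1
  obtain ⟨T, hT, m₀, h⟩ := locGen_eventually_of_isRelAmple f K hK hamp E
  refine ⟨m₀, fun m hm => ?_⟩
  obtain ⟨hMq, hMf⟩ := isCoh_tensor_of_isInvertible E (CohB1.tensorPow K m) (isInvertible_tensorPow hK m)
  haveI := hMq
  haveI := hMf
  obtain ⟨G, i, hq, hf, hepi⟩ := exists_ft_epi f (CohB1.tensorMod E (CohB1.tensorPow K m)) T hT (h m hm)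
  exact ⟨G, _, hq, hf, hepi⟩

end Groth.Agent.Lib.T2H4.FinGen
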