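import Groth.Prelude.Def_Wider
import Groth.Agent.Lib.Helper8RegHull

/-!
# Self-equivalences of the category of finite length modules (helper4)

Over a Noetherian local ring, an `A`-linear additive self-equivalence of the category of finite
length modules is isomorphic to the identity.
-/

set_option autoImplicit false
set_option linter.style.haveILetI false
universe u
open CategoryTheory IsLocalRing

namespace Groth.Agent.Lib.T2H4.FinLenEq

variable {A : Type u} [CommRing A] [IsLocalRing A] [IsNoetherianRing A]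

/-- morphisms of `FinLen A` from linear maps. -/
abbrev mkHom {X Y : Dual.FinLen A} (g : X.obj →ₗ[A] Y.obj) : X ⟶ Y :=
  ObjectProperty.homMk (ModuleCat.ofHom g)

/-- the underlying linear map. -/
abbrev lin {X Y : Dual.FinLen A} (f : X ⟶ Y) : X.obj →ₗ[A] Y.obj := f.hom.hom

omit [IsLocalRing A] [IsNoetherianRing A] in
lemma lin_ext {X Y : Dual.FinLen A} {f g : X ⟶ Y} (h : lin f = lin g) : f = g := by
  apply ObjectProperty.hom_ext
  apply ModuleCat.hom_ext
  exact h

omit [IsLocalRing A] [IsNoetherianRing A] in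
lemma lin_comp {X Y Z : Dual.FinLen A} (f : X ⟶ Y) (g : Y ⟶ Z) :
    lin (f ≫ g) = lin g ∘ₗ lin f := rfl

omit [IsLocalRing A] [IsNoetherianRing A] in
lemma lin_comp_apply {X Y Z : Dual.FinLen A} (f : X ⟶ Y) (g : Y ⟶ Z) (x : X.obj) :
    lin (f ≫ g) x = lin g (lin f x) := rfl

omit [IsLocalRing A] [IsNoetherianRing A] in
lemma lin_id (X : Dual.FinLen A) : lin (𝟙 X) = LinearMap.id := rfl

omit [IsLocalRing A] [IsNoetherianRing A] in
lemma lin_add {X Y : Dual.FinLen A} (f g : X ⟶ Y) : lin (f + g) = lin f + lin g := rfl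

omit [IsLocalRing A] [IsNoetherianRing A] in
lemma lin_smul {X Y : Dual.FinLen A} (a : A) (f : X ⟶ Y) : lin (a • f) = a • lin f := rfl

omit [IsLocalRing A] [IsNoetherianRing A] in
lemma lin_zero {X Y : Dual.FinLen A} : lin (0 : X ⟶ Y) = 0 := rfl

omit [IsLocalRing A] [IsNoetherianRing A] in
lemma lin_mkHom {X Y : Dual.FinLen A} (g : X.obj →ₗ[A] Y.obj) : lin (mkHom g) = g := rfl

/-- killed by the `n`-th power of the maximal ideal. -/
def Killed (n : ℕ) (X : Dual.FinLen A) : Prop :=
  ∀ a ∈ maximalIdeal A ^ n, ∀ x : X.obj, a • x = 0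

omit [IsNoetherianRing A] in
lemma Killed.mono {n m : ℕ} (h : n ≤ m) {X : Dual.FinLen A} (hX : Killed n X) : Killed m X :=
  fun a ha x => hX a (Ideal.pow_le_pow_right h ha) x

omit [IsNoetherianRing A] in
lemma exists_killed (X : Dual.FinLen A) : ∃ n : ℕ, Killed (n + 1) X := by
  have hX : IsFiniteLength A X.obj := X.property
  obtain ⟨hN, hAr⟩ := isFiniteLength_iff_isNoetherian_isArtinian.1 hX
  haveI := hN
  haveI := hAr
  let f : ℕ →o (Submodule A X.obj)ᵒᵈ :=
    ⟨fun n => OrderDual.toDual (maximalIdeal A ^ n • (⊤ : Submodule A X.obj)), fun n m h =>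
      Submodule.smul_mono_left (Ideal.pow_le_pow_right h)⟩
  obtain ⟨n, hn⟩ := IsArtinian.monotone_stabilizes f
  have h1 : maximalIdeal A ^ n • (⊤ : Submodule A X.obj) =
      maximalIdeal A ^ (n + 1) • (⊤ : Submodule A X.obj) := hn (n + 1) (Nat.le_succ n)
  have h2 : maximalIdeal A ^ n • (⊤ : Submodule A X.obj) = ⊥ := by
    apply Submodule.eq_bot_of_le_smul_of_le_jacobson_bot (maximalIdeal A)
    · exact IsNoetherian.noetherian _
    · conv_lhs => rw [h1]
      rw [pow_succ', mul_smul]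
    · exact (IsLocalRing.maximalIdeal_le_jacobson _)
  refine ⟨n, Killed.mono (Nat.le_succ n) (fun a ha x => ?_)⟩
  have h3 : a • x ∈ maximalIdeal A ^ n • (⊤ : Submodule A X.obj) :=
    Submodule.smul_mem_smul ha Submodule.mem_top
  rw [h2] at h3
  exact h3

omit [IsLocalRing A] [IsNoetherianRing A] in
lemma smul_id_eq_zero {X : Dual.FinLen A} (a : A) (h : ∀ x : X.obj, a • x = 0) :
    a • 𝟙 X = 0 := by
  apply lin_ext
  apply LinearMap.ext
  intro x
  exact h x

omit [IsNoetherianRing A] in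
lemma killed_map (F : Dual.FinLen A ⥤ Dual.FinLen A) [F.Additive] [F.Linear A] {n : ℕ}
    {X : Dual.FinLen A} (h : Killed n X) : Killed n (F.obj X) := by
  intro a ha y
  have h1 : a • 𝟙 X = 0 := smul_id_eq_zero a (h a ha)
  have h2 : a • 𝟙 (F.obj X) = 0 := by
    rw [← F.map_id, ← F.map_smul, h1, F.map_zero]
  have h3 := congrArg (fun t => lin t y) h2
  exact h3

/-- the object `A/𝔪^n`. -/
noncomputable def An (n : ℕ) : Dual.FinLen A :=
  ⟨ModuleCat.of A (A ⧸ maximalIdeal A ^ n),
    Groth.Agent.Lib.Helper8.RegHull.isFiniteLength_of_finite_of_pow_smul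
      (A ⧸ maximalIdeal A ^ n) n (fun a ha x => by
        obtain ⟨x, rfl⟩ := Ideal.Quotient.mk_surjective x
        rw [Algebra.smul_def, Ideal.Quotient.algebraMap_eq, ← map_mul,
          Ideal.Quotient.eq_zero_iff_mem]
        exact Ideal.mul_mem_right _ _ ha)⟩

/-- the generator of `A/𝔪^n`. -/
noncomputable def one (n : ℕ) : (An (A := A) n).obj :=
  (Ideal.Quotient.mk (maximalIdeal A ^ n) 1 : A ⧸ maximalIdeal A ^ n)

lemma killed_An (n : ℕ) : Killed n (An (A := A) n) := by
  intro a ha x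
  obtain ⟨x, rfl⟩ := Ideal.Quotient.mk_surjective (I := maximalIdeal A ^ n) x
  show a • (Ideal.Quotient.mk (maximalIdeal A ^ n) x) = 0
  rw [Algebra.smul_def, Ideal.Quotient.algebraMap_eq, ← map_mul,
    Ideal.Quotient.eq_zero_iff_mem]
  exact Ideal.mul_mem_right _ _ ha

lemma smul_one_eq (n : ℕ) (a : A) :
    a • one (A := A) n = (Ideal.Quotient.mk (maximalIdeal A ^ n) a : A ⧸ maximalIdeal A ^ n) := by
  show a • (Ideal.Quotient.mk (maximalIdeal A ^ n) 1) = _
  rw [Algebra.smul_def, Ideal.Quotient.algebraMap_eq, map_one, mul_one]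

lemma exists_smul_one (n : ℕ) (y : (An (A := A) n).obj) : ∃ a : A, y = a • one n := by
  obtain ⟨a, rfl⟩ := Ideal.Quotient.mk_surjective (I := maximalIdeal A ^ n) y
  exact ⟨a, (smul_one_eq n a).symm⟩

/-- the morphism `A/𝔪^n ⟶ X`, `1 ↦ x`. -/
noncomputable def pt (n : ℕ) {X : Dual.FinLen A} (h : Killed n X) (x : X.obj) : An n ⟶ X :=
  mkHom (Submodule.liftQ (maximalIdeal A ^ n) (LinearMap.toSpanSingleton A X.obj x) (by
    intro a ha
    rw [LinearMap.mem_ker, LinearMap.toSpanSingleton_apply]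
    exact h a ha x))

/-- evaluation at the generator. -/
noncomputable def ev (n : ℕ) {X : Dual.FinLen A} (u : An n ⟶ X) : X.obj := lin u (one n)

lemma ev_pt (n : ℕ) {X : Dual.FinLen A} (h : Killed n X) (x : X.obj) : ev n (pt n h x) = x := by
  show Submodule.liftQ (maximalIdeal A ^ n) (LinearMap.toSpanSingleton A X.obj x) _
    (Submodule.Quotient.mk 1) = x
  rw [Submodule.liftQ_apply, LinearMap.toSpanSingleton_apply, one_smul]

lemma hom_ext_An (n : ℕ) {X : Dual.FinLen A} {u v : An n ⟶ X} (h : ev n u = ev n v) : u = v := by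
  apply lin_ext
  apply LinearMap.ext
  intro y
  obtain ⟨a, rfl⟩ := exists_smul_one n y
  rw [map_smul, map_smul]
  exact congrArg (a • ·) h

lemma pt_ev (n : ℕ) {X : Dual.FinLen A} (h : Killed n X) (u : An n ⟶ X) :
    pt n h (ev n u) = u :=
  hom_ext_An n (ev_pt n h _)

lemma ev_comp (n : ℕ) {X Y : Dual.FinLen A} (u : An n ⟶ X) (f : X ⟶ Y) :
    ev n (u ≫ f) = lin f (ev n u) := rfl

lemma pt_comp (n : ℕ) {X Y : Dual.FinLen A} (hX : Killed n X) (hY : Killed n Y) (x : X.obj)
    (f : X ⟶ Y) : pt n hX x ≫ f = pt n hY (lin f x) :=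
  hom_ext_An n (by rw [ev_comp, ev_pt, ev_pt])

lemma pt_add (n : ℕ) {X : Dual.FinLen A} (h : Killed n X) (x y : X.obj) :
    pt n h (x + y) = pt n h x + pt n h y :=
  hom_ext_An n (by
    rw [ev_pt]
    show x + y = lin (pt n h x) (one n) + lin (pt n h y) (one n)
    rw [show lin (pt n h x) (one n) = x from ev_pt n h x,
      show lin (pt n h y) (one n) = y from ev_pt n h y])

lemma pt_smul (n : ℕ) {X : Dual.FinLen A} (h : Killed n X) (a : A) (x : X.obj) :
    pt n h (a • x) = a • pt n h x :=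
  hom_ext_An n (by
    rw [ev_pt]
    show a • x = a • lin (pt n h x) (one n)
    rw [show lin (pt n h x) (one n) = x from ev_pt n h x])

omit [IsLocalRing A] [IsNoetherianRing A] in
lemma epi_of_surjective {X Y : Dual.FinLen A} (f : X ⟶ Y) (h : Function.Surjective (lin f)) :
    Epi f :=
  ⟨fun g g' hgg => lin_ext (LinearMap.ext fun y => by
    obtain ⟨x, rfl⟩ := h y
    exact congrArg (fun t => lin t x) hgg)⟩

omit [IsLocalRing A] [IsNoetherianRing A] in
lemma surjective_of_epi {X Y : Dual.FinLen A} (f : X ⟶ Y) [Epi f] :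
    Function.Surjective (lin f) := by
  have hY : IsFiniteLength A Y.obj := Y.property
  obtain ⟨hN, hAr⟩ := isFiniteLength_iff_isNoetherian_isArtinian.1 hY
  haveI := hN
  haveI := hAr
  let N : Submodule A Y.obj := LinearMap.range (lin f)
  let Q : Dual.FinLen A := ⟨ModuleCat.of A (Y.obj ⧸ N),
    isFiniteLength_iff_isNoetherian_isArtinian.2 ⟨inferInstance, inferInstance⟩⟩
  let q : Y ⟶ Q := mkHom N.mkQ
  have h1 : f ≫ q = f ≫ 0 := by
    rw [Limits.comp_zero]
    apply lin_ext
    apply LinearMap.ext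
    intro x
    show N.mkQ (lin f x) = 0
    rw [Submodule.mkQ_apply, Submodule.Quotient.mk_eq_zero]
    exact ⟨x, rfl⟩
  have h2 : q = 0 := (cancel_epi f).1 h1
  intro y
  have h3 : N.mkQ y = 0 := congrArg (fun t => lin t y) h2
  rw [Submodule.mkQ_apply, Submodule.Quotient.mk_eq_zero] at h3
  exact h3

lemma exists_smul_id (n : ℕ) (e : An (A := A) n ⟶ An n) : ∃ a : A, e = a • 𝟙 (An n) := by
  obtain ⟨a, ha⟩ := exists_smul_one n (ev n e)
  refine ⟨a, hom_ext_An n ?_⟩
  rw [ha]
  rfl

section Equiv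

variable (F : Dual.FinLen A ≌ Dual.FinLen A) [F.functor.Additive] [F.functor.Linear A]

omit [F.functor.Additive] in
lemma exists_smul_id_map (n : ℕ) (e : F.functor.obj (An n) ⟶ F.functor.obj (An n)) :
    ∃ a : A, e = a • 𝟙 (F.functor.obj (An n)) := by
  obtain ⟨e₀, rfl⟩ := F.functor.map_surjective e
  obtain ⟨a, ha⟩ := exists_smul_id n e₀
  exact ⟨a, by rw [ha, F.functor.map_smul, F.functor.map_id]⟩

omit [IsLocalRing A] [IsNoetherianRing A] [F.functor.Additive] [F.functor.Linear A] in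
lemma surjective_map {X Y : Dual.FinLen A} (G : Dual.FinLen A ≌ Dual.FinLen A) (f : X ⟶ Y)
    (h : Function.Surjective (lin f)) : Function.Surjective (lin (G.functor.map f)) := by
  haveI : Epi f := epi_of_surjective f h
  haveI : Epi (G.functor.map f) := inferInstance
  exact surjective_of_epi _

/-- `F(A/𝔪^n)` has the lifting property against surjections from objects killed by `𝔪^n`. -/
lemma exists_lift (n : ℕ) {Y Z : Dual.FinLen A} (hY : Killed n Y) (g : Y ⟶ Z)
    (hg : Function.Surjective (lin g)) (u : F.functor.obj (An n) ⟶ Z) :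
    ∃ v : F.functor.obj (An n) ⟶ Y, v ≫ g = u := by
  have hG : Function.Surjective (lin (F.inverse.map g)) := surjective_map F.symm g hg
  have hGY : Killed n (F.inverse.obj Y) := killed_map F.inverse hY
  let u'' : An n ⟶ F.inverse.obj Z := F.unit.app (An n) ≫ F.inverse.map u
  obtain ⟨y, hy⟩ := hG (ev n u'')
  let v'' : An n ⟶ F.inverse.obj Y := pt n hGY y
  have hv : v'' ≫ F.inverse.map g = u'' := hom_ext_An n (by rw [ev_comp, ev_pt, hy])
  refine ⟨F.functor.map v'' ≫ F.counit.app Y, ?_⟩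
  have hnat := F.counit.naturality g
  have hnat' : F.counit.app Y ≫ g = F.functor.map (F.inverse.map g) ≫ F.counit.app Z :=
    hnat.symm
  have hnat2 := F.counit.naturality u
  have hnat2' : F.functor.map (F.inverse.map u) ≫ F.counit.app Z =
      F.counit.app (F.functor.obj (An n)) ≫ u := hnat2
  rw [Category.assoc, hnat', ← Category.assoc, ← F.functor.map_comp, hv, F.functor.map_comp,
    Category.assoc, hnat2', ← Category.assoc, F.functor_unit_comp, Category.id_comp]

lemma one_ne_zero (n : ℕ) (hn : 1 ≤ n) : one (A := A) n ≠ 0 := by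
  intro h
  have h1 : (1 : A) ∈ maximalIdeal A ^ n := Ideal.Quotient.eq_zero_iff_mem.1 h
  have h2 : (1 : A) ∈ maximalIdeal A := Ideal.pow_le_self (by omega) h1
  exact (Ideal.ne_top_iff_one _).1 (IsLocalRing.maximalIdeal.isMaximal A).ne_top h2

omit [F.functor.Additive] [F.functor.Linear A] in
lemma nontrivial_map (n : ℕ) (hn : 1 ≤ n) : Nontrivial (F.functor.obj (An n)).obj := by
  by_contra hnt
  rw [not_nontrivial_iff_subsingleton] at hnt
  have h1 : 𝟙 (F.functor.obj (An (A := A) n)) = 0 := by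
    apply lin_ext
    apply LinearMap.ext
    intro x
    exact Subsingleton.elim _ _
  have h2 : F.functor.map (𝟙 (An (A := A) n)) = F.functor.map 0 := by
    rw [F.functor.map_id, h1, F.functor.map_zero]
  have h3 : 𝟙 (An (A := A) n) = 0 := F.functor.map_injective h2
  have h4 : one (A := A) n = 0 := congrArg (fun t => lin t (one n)) h3
  exact one_ne_zero n hn h4

/-- nonzero finite length modules over a local ring surject onto the residue field. -/
lemma exists_surjective_to_A1 (X : Dual.FinLen A) (hX : Nontrivial X.obj) :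
    ∃ q : X ⟶ An 1, Function.Surjective (lin q) := by
  have hfl : IsFiniteLength A X.obj := X.property
  obtain ⟨hN, _⟩ := isFiniteLength_iff_isNoetherian_isArtinian.1 hfl
  haveI := hN
  haveI : Module.Finite A X.obj := inferInstance
  obtain ⟨N, hNc, -⟩ := (eq_top_or_exists_le_coatom (⊥ : Submodule A X.obj)).resolve_left
    bot_ne_top
  haveI : IsSimpleModule A (X.obj ⧸ N) := isSimpleModule_iff_isCoatom.2 hNc
  obtain ⟨I, hI, ⟨e⟩⟩ := isSimpleModule_iff_quot_maximal.1
    (inferInstance : IsSimpleModule A (X.obj ⧸ N))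
  have hIm : I = maximalIdeal A := IsLocalRing.eq_maximalIdeal hI
  subst hIm
  let e2 : (A ⧸ maximalIdeal A) ≃ₗ[A] (A ⧸ maximalIdeal A ^ 1) :=
    Submodule.quotEquivOfEq _ _ (pow_one _).symm
  refine ⟨mkHom ((e2.toLinearMap ∘ₗ e.toLinearMap) ∘ₗ N.mkQ), ?_⟩
  exact (e2.surjective.comp e.surjective).comp N.mkQ_surjective

/-- `F(A/𝔪^n) ≅ A/𝔪^n`. -/
theorem nonempty_map_An_iso (n : ℕ) (hn : 1 ≤ n) :
    Nonempty (F.functor.obj (An n) ≅ An n) := by
  have hB : Killed n (F.functor.obj (An n)) := killed_map F.functor (killed_An n)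
  obtain ⟨q, hq⟩ := exists_surjective_to_A1 _ (nontrivial_map F n hn)
  have hk1 : Killed n (An (A := A) 1) := (killed_An 1).mono hn
  let π : An (A := A) n ⟶ An 1 := pt n hk1 (one 1)
  have hπ1 : lin π (one n) = one 1 := ev_pt n hk1 _
  have hπ : Function.Surjective (lin π) := by
    intro y
    obtain ⟨a, rfl⟩ := exists_smul_one 1 y
    exact ⟨a • one n, by rw [map_smul, hπ1]⟩
  obtain ⟨t, ht⟩ := exists_lift F n (killed_An n) π hπ q
  obtain ⟨b, hb⟩ := hq (one 1)
  obtain ⟨c, hc⟩ := exists_smul_one n (lin t b)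
  have h1 : c • one (A := A) 1 = one 1 := by
    have h0 : lin (t ≫ π) b = lin q b := congrArg (fun z => lin z b) ht
    have h2 : lin π (lin t b) = one 1 := h0.trans hb
    rw [hc, map_smul, hπ1] at h2
    exact h2
  have hcu : IsUnit c := by
    by_contra hcn
    have hcm : c ∈ maximalIdeal A := (mem_maximalIdeal c).2 hcn
    rw [smul_one_eq] at h1
    have h3 : c - 1 ∈ maximalIdeal A ^ 1 := (Ideal.Quotient.eq).1 h1
    rw [pow_one] at h3
    have h4 : (1 : A) ∈ maximalIdeal A := by
      have := Ideal.sub_mem _ hcm h3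
      rwa [sub_sub_cancel] at this
    exact (Ideal.ne_top_iff_one _).1 (IsLocalRing.maximalIdeal.isMaximal A).ne_top h4
  obtain ⟨c', hc'⟩ := hcu.exists_left_inv
  have hb₀ : lin t (c' • b) = one n := by rw [map_smul, hc, smul_smul, hc', one_smul]
  let s : An n ⟶ F.functor.obj (An n) := pt n hB (c' • b)
  have hst : s ≫ t = 𝟙 (An n) := hom_ext_An n (by rw [ev_comp, ev_pt, hb₀]; rfl)
  obtain ⟨a, ha⟩ := exists_smul_id_map F n (t ≫ s)
  have h4 : a • 𝟙 (An (A := A) n) = 𝟙 (An n) := by
    calc a • 𝟙 (An n) = a • (s ≫ t) := by rw [hst]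
      _ = s ≫ (a • 𝟙 _) ≫ t := by rw [Linear.smul_comp, Category.id_comp, Linear.comp_smul]
      _ = s ≫ (t ≫ s) ≫ t := by rw [ha]
      _ = (s ≫ t) ≫ (s ≫ t) := by simp only [Category.assoc]
      _ = 𝟙 _ := by rw [hst, Category.comp_id]
  have h5 : a • one (A := A) n = one n := congrArg (fun z => lin z (one n)) h4
  have h6 : a - 1 ∈ maximalIdeal A ^ n := by
    rw [smul_one_eq] at h5
    exact (Ideal.Quotient.eq).1 h5
  have h7 : t ≫ s = 𝟙 _ := by
    rw [ha]
    have h8 : (a - 1) • 𝟙 (F.functor.obj (An n)) = 0 := smul_id_eq_zero _ (hB _ h6)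
    rw [sub_smul, one_smul, sub_eq_zero] at h8
    exact h8
  exact ⟨⟨t, s, h7, hst⟩⟩

omit [IsLocalRing A] [IsNoetherianRing A] in
lemma lin_inv_hom {X Y : Dual.FinLen A} (φ : X ≅ Y) (x : X.obj) :
    lin φ.inv (lin φ.hom x) = x :=
  congrArg (fun t => lin t x) φ.hom_inv_id

omit [IsLocalRing A] [IsNoetherianRing A] in
lemma lin_hom_inv {X Y : Dual.FinLen A} (φ : X ≅ Y) (y : Y.obj) :
    lin φ.hom (lin φ.inv y) = y :=
  congrArg (fun t => lin t y) φ.inv_hom_id

/-- the transition `A/𝔪^(n+1) ⟶ A/𝔪^n`. -/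
noncomputable def tr (n : ℕ) : An (A := A) (n + 1) ⟶ An n :=
  pt (n + 1) ((killed_An n).mono (Nat.le_succ n)) (one n)

lemma lin_tr_one (n : ℕ) : lin (tr (A := A) n) (one (n + 1)) = one n :=
  ev_pt (n + 1) ((killed_An n).mono (Nat.le_succ n)) _

lemma tr_surjective (n : ℕ) : Function.Surjective (lin (tr (A := A) n)) := by
  intro y
  obtain ⟨a, rfl⟩ := exists_smul_one n y
  exact ⟨a • one (n + 1), by rw [map_smul, lin_tr_one]⟩

lemma exists_next (n : ℕ) (hn : 1 ≤ n) (φ : F.functor.obj (An n) ≅ An n) :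
    ∃ φ' : F.functor.obj (An (n + 1)) ≅ An (n + 1),
      F.functor.map (tr n) ≫ φ.hom = φ'.hom ≫ tr n := by
  obtain ⟨ψ⟩ := nonempty_map_An_iso F (n + 1) (by omega)
  let h : An (n + 1) ⟶ An n := ψ.inv ≫ F.functor.map (tr n) ≫ φ.hom
  have hsurj : Function.Surjective (lin h) := by
    intro y
    obtain ⟨z, hz⟩ := surjective_map F (tr n) (tr_surjective n) (lin φ.inv y)
    refine ⟨lin ψ.hom z, ?_⟩
    show lin φ.hom (lin (F.functor.map (tr n)) (lin ψ.inv (lin ψ.hom z))) = y
    rw [lin_inv_hom, hz, lin_hom_inv]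
  obtain ⟨c, hc⟩ := exists_smul_one n (ev (n + 1) h)
  have hh : h = c • tr n := hom_ext_An (n + 1) (by
    rw [hc]
    show _ = c • lin (tr n) (one (n + 1))
    rw [lin_tr_one])
  have hcu : IsUnit c := by
    obtain ⟨y, hy⟩ := hsurj (one n)
    obtain ⟨d, rfl⟩ := exists_smul_one (n + 1) y
    rw [map_smul] at hy
    have hy' : d • (c • one (A := A) n) = one n := by
      have : lin h (one (n + 1)) = c • one n := hc
      rw [← this]
      exact hy
    rw [smul_smul, smul_one_eq] at hy'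
    have h3 : d * c - 1 ∈ maximalIdeal A ^ n := (Ideal.Quotient.eq).1 hy'
    have h4 : d * c - 1 ∈ maximalIdeal A := Ideal.pow_le_self (by omega) h3
    by_contra hcn
    have hcm : c ∈ maximalIdeal A := (mem_maximalIdeal c).2 hcn
    have h5 : (1 : A) ∈ maximalIdeal A := by
      have := Ideal.sub_mem _ (Ideal.mul_mem_left _ d hcm) h4
      rwa [sub_sub_cancel] at this
    exact (Ideal.ne_top_iff_one _).1 (IsLocalRing.maximalIdeal.isMaximal A).ne_top h5
  obtain ⟨c', hc'⟩ := hcu.exists_left_inv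
  let μ : An (A := A) (n + 1) ≅ An (n + 1) :=
    ⟨c • 𝟙 _, c' • 𝟙 _, by
      rw [Linear.smul_comp, Linear.comp_smul, Category.comp_id, smul_smul, mul_comm, hc',
        one_smul], by
      rw [Linear.smul_comp, Linear.comp_smul, Category.comp_id, smul_smul, hc', one_smul]⟩
  refine ⟨ψ ≪≫ μ, ?_⟩
  show _ = (ψ.hom ≫ (c • 𝟙 _)) ≫ tr n
  rw [Category.assoc, Linear.smul_comp, Category.id_comp, ← hh]
  show _ = ψ.hom ≫ ψ.inv ≫ F.functor.map (tr n) ≫ φ.hom
  rw [Iso.hom_inv_id_assoc]

/-- a compatible system of isomorphisms `F(A/𝔪^(n+1)) ≅ A/𝔪^(n+1)`. -/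
noncomputable def φseq : (n : ℕ) → (F.functor.obj (An (n + 1)) ≅ An (n + 1))
  | 0 => Classical.choice (nonempty_map_An_iso F 1 le_rfl)
  | n + 1 => Classical.choose (exists_next F (n + 1) (by omega) (φseq n))

lemma φseq_compat (n : ℕ) :
    F.functor.map (tr (n + 1)) ≫ (φseq F n).hom = (φseq F (n + 1)).hom ≫ tr (n + 1) :=
  Classical.choose_spec (exists_next F (n + 1) (by omega) (φseq F n))

/-- the compatible generators of `F(A/𝔪^(n+1))`. -/
noncomputable def gen (n : ℕ) : (F.functor.obj (An (n + 1))).obj :=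
  lin (φseq F n).inv (one (n + 1))

lemma gen_compat (n : ℕ) : lin (F.functor.map (tr (n + 1))) (gen F (n + 1)) = gen F n := by
  have h1 : lin (φseq F n).hom (lin (F.functor.map (tr (n + 1))) (gen F (n + 1))) =
      one (n + 1) := by
    have h2 := congrArg (fun t => lin t (gen F (n + 1))) (φseq_compat F n)
    have h3 : lin (φseq F n).hom (lin (F.functor.map (tr (n + 1))) (gen F (n + 1))) =
        lin (tr (n + 1)) (lin (φseq F (n + 1)).hom (gen F (n + 1))) := h2
    rw [h3]
    unfold gen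
    rw [lin_hom_inv, lin_tr_one]
  have h4 := congrArg (lin (φseq F n).inv) h1
  rw [lin_inv_hom] at h4
  exact h4

/-- the comparison map `M → F M`. -/
noncomputable def θ (n : ℕ) {M : Dual.FinLen A} (h : Killed (n + 1) M) :
    M.obj →ₗ[A] (F.functor.obj M).obj where
  toFun x := lin (F.functor.map (pt (n + 1) h x)) (gen F n)
  map_add' x y := by rw [pt_add, F.functor.map_add, lin_add, LinearMap.add_apply]
  map_smul' a x := by
    rw [pt_smul, F.functor.map_smul, lin_smul, LinearMap.smul_apply]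
    rfl

lemma θ_apply (n : ℕ) {M : Dual.FinLen A} (h : Killed (n + 1) M) (x : M.obj) :
    θ F n h x = lin (F.functor.map (pt (n + 1) h x)) (gen F n) := rfl

lemma θ_succ (n : ℕ) {M : Dual.FinLen A} (h : Killed (n + 1) M) (h' : Killed (n + 1 + 1) M) :
    θ F (n + 1) h' = θ F n h := by
  apply LinearMap.ext
  intro x
  have h1 : pt (n + 1 + 1) h' x = tr (n + 1) ≫ pt (n + 1) h x :=
    hom_ext_An (n + 1 + 1) (by
      rw [ev_pt, ev_comp]
      show x = lin (pt (n + 1) h x) (lin (tr (n + 1)) (one (n + 1 + 1)))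
      rw [lin_tr_one]
      exact (ev_pt (n + 1) h x).symm)
  rw [θ_apply, θ_apply, h1, F.functor.map_comp, lin_comp_apply, gen_compat]

lemma θ_add (n k : ℕ) {M : Dual.FinLen A} (h : Killed (n + 1) M) (h' : Killed (n + k + 1) M) :
    θ F (n + k) h' = θ F n h := by
  induction k with
  | zero => rfl
  | succ k ih =>
    have hk : Killed (n + k + 1) M := h.mono (by omega)
    rw [← ih hk]
    exact θ_succ F (n + k) hk h'

lemma θ_congr {n n' : ℕ} (e : n = n') {M : Dual.FinLen A} (h : Killed (n + 1) M)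
    (h' : Killed (n' + 1) M) : θ F n h = θ F n' h' := by
  subst e
  rfl

lemma θ_natural (n : ℕ) {M N : Dual.FinLen A} (hM : Killed (n + 1) M) (hN : Killed (n + 1) N)
    (f : M ⟶ N) (x : M.obj) :
    lin (F.functor.map f) (θ F n hM x) = θ F n hN (lin f x) := by
  rw [θ_apply, θ_apply, ← pt_comp (n + 1) hM hN x f, F.functor.map_comp, lin_comp_apply]

lemma θ_bijective (n : ℕ) {M : Dual.FinLen A} (h : Killed (n + 1) M) :
    Function.Bijective (θ F n h) := by
  have hFM : Killed (n + 1) (F.functor.obj M) := killed_map F.functor h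
  constructor
  · rw [injective_iff_map_eq_zero]
    intro x hx
    let u : An (n + 1) ⟶ F.functor.obj M := (φseq F n).inv ≫ F.functor.map (pt (n + 1) h x)
    have hu : u = 0 := hom_ext_An (n + 1) (by
      show lin (F.functor.map (pt (n + 1) h x)) (gen F n) = lin (0 : An (n + 1) ⟶ _) (one (n + 1))
      rw [← θ_apply, hx]
      rfl)
    have h1 : F.functor.map (pt (n + 1) h x) = (φseq F n).hom ≫ u := by
      rw [Iso.hom_inv_id_assoc]
    have h2 : F.functor.map (pt (n + 1) h x) = F.functor.map 0 := by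
      rw [h1, hu, Limits.comp_zero, F.functor.map_zero]
    have h3 : pt (n + 1) h x = 0 := F.functor.map_injective h2
    have h4 := ev_pt (n + 1) h x
    rw [h3] at h4
    exact h4.symm
  · intro y
    let v : An (n + 1) ⟶ F.functor.obj M := pt (n + 1) hFM y
    obtain ⟨w₀, hw₀⟩ := F.functor.map_surjective ((φseq F n).hom ≫ v)
    refine ⟨ev (n + 1) w₀, ?_⟩
    rw [θ_apply, pt_ev, hw₀]
    show lin v (lin (φseq F n).hom (gen F n)) = y
    unfold gen
    rw [lin_hom_inv]
    exact ev_pt (n + 1) hFM y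

/-- a chosen exponent killing `M`. -/
noncomputable def nM (M : Dual.FinLen A) : ℕ := Classical.choose (exists_killed M)

omit [IsNoetherianRing A] in
lemma killed_nM (M : Dual.FinLen A) : Killed (nM M + 1) M := Classical.choose_spec (exists_killed M)

/-- the isomorphism `M ≅ F M`. -/
noncomputable def ηIso (M : Dual.FinLen A) : M ≅ F.functor.obj M :=
  ObjectProperty.isoMk _
    (LinearEquiv.ofBijective (θ F (nM M) (killed_nM M)) (θ_bijective F _ _)).toModuleIso

lemma lin_ηIso_hom (M : Dual.FinLen A) (x : M.obj) :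
    lin (ηIso F M).hom x = θ F (nM M) (killed_nM M) x := rfl

/-- **S0362**: an `A`-linear additive self-equivalence of finite length modules is the identity. -/
theorem nonempty_iso_id : Nonempty (F.functor ≅ 𝟭 (Dual.FinLen A)) := by
  refine ⟨(NatIso.ofComponents (fun M => ηIso F M) ?_).symm⟩
  intro M N f
  apply lin_ext
  apply LinearMap.ext
  intro x
  show lin (ηIso F N).hom (lin f x) = lin (F.functor.map f) (lin (ηIso F M).hom x)
  rw [lin_ηIso_hom, lin_ηIso_hom]
  have hM : Killed (nM M + nM N + 1) M := (killed_nM M).mono (by omega)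
  have hN : Killed (nM N + nM M + 1) N := (killed_nM N).mono (by omega)
  have hN' : Killed (nM M + nM N + 1) N := (killed_nM N).mono (by omega)
  rw [← θ_add F (nM M) (nM N) (killed_nM M) hM, ← θ_add F (nM N) (nM M) (killed_nM N) hN,
    θ_natural F (nM M + nM N) hM hN' f x]
  rw [θ_congr F (Nat.add_comm (nM N) (nM M)) hN hN']

end Equiv

end Groth.Agent.Lib.T2H4.FinLenEq
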