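import Mathlib
import Groth.Prelude.Def_ega3
import Groth.Agent.Lib.Helper3FlatCx
import Groth.Agent.Lib.Helper3FlatCxBC
import Groth.Agent.S2380
import Groth.Agent.S4486
import Groth.Agent.S4485

/-! Finiteness of `T_n(M)` for flat bounded-below complexes with finite `T_n(A)`, base change to a
quotient, and local constancy of ranks over the free locus (helper4, for S4487). -/

set_option autoImplicit false
set_option linter.style.haveILetI false
universe u
open CategoryTheory CategoryTheory.Limits MonoidalCategory TensorProduct

namespace Groth.Agent.Lib.T2H4.FlatFin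

open Groth.Agent.Lib.Helper3 Groth.Agent.S2380



variable {A : Type u} [CommRing A]

/-- the short complex of modules attached to an exact pair of linear maps -/
noncomputable def scOf {N₁ N₂ N₃ : Type u} [AddCommGroup N₁] [Module A N₁] [AddCommGroup N₂]
    [Module A N₂] [AddCommGroup N₃] [Module A N₃] (f : N₁ →ₗ[A] N₂) (g : N₂ →ₗ[A] N₃)
    (hfg : Function.Exact f g) : ShortComplex (ModuleCat.{u} A) :=
  ShortComplex.mk (ModuleCat.ofHom f : ModuleCat.of A N₁ ⟶ ModuleCat.of A N₂)
    (ModuleCat.ofHom g : ModuleCat.of A N₂ ⟶ ModuleCat.of A N₃) (by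
      ext x
      exact hfg.apply_apply_eq_zero x)

lemma scOf_shortExact {N₁ N₂ N₃ : Type u} [AddCommGroup N₁] [Module A N₁] [AddCommGroup N₂]
    [Module A N₂] [AddCommGroup N₃] [Module A N₃] (f : N₁ →ₗ[A] N₂) (g : N₂ →ₗ[A] N₃)
    (hf : Function.Injective f) (hg : Function.Surjective g) (hfg : Function.Exact f g) :
    (scOf f g hfg).ShortExact := by
  refine ModuleCat.shortComplex_shortExact _ ?_ hf hg
  intro y
  exact hfg y

lemma finite_of_exact [IsNoetherianRing A] {M₁ M₂ M₃ : Type u} [AddCommGroup M₁] [Module A M₁]
    [AddCommGroup M₂] [Module A M₂] [AddCommGroup M₃] [Module A M₃] (f : M₁ →ₗ[A] M₂)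
    (g : M₂ →ₗ[A] M₃) (h : Function.Exact f g) (_ : Module.Finite A M₁) (_ : Module.Finite A M₃) :
    Module.Finite A M₂ := by
  have h1 : IsNoetherian A M₁ := isNoetherian_of_isNoetherianRing_of_finite A M₁
  have h3 : IsNoetherian A M₃ := isNoetherian_of_isNoetherianRing_of_finite A M₃
  have : IsNoetherian A M₂ :=
    isNoetherian_of_range_eq_ker f g (LinearMap.exact_iff.mp h).symm
  infer_instance

/-- middle exactness of `T` on a short exact sequence -/
lemma T_exact₂ (P : ChainComplex (ModuleCat.{u} A) ℤ) (hP : ∀ i, Module.Flat A (P.X i))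
    (S : ShortComplex (ModuleCat.{u} A)) (hS : S.ShortExact) (n : ℤ) :
    Function.Exact ((CohIII.TFun P n).map S.f).hom ((CohIII.TFun P n).map S.g).hom := by
  have h := (tensorSC_shortExact P hP S hS).homology_exact₂ n
  exact (ShortComplex.ShortExact.moduleCat_exact_iff_function_exact _).mp h

/-- exactness of `T_n(X₂) → T_n(X₃) → T_{n-1}(X₁)` -/
lemma T_exact₃ (P : ChainComplex (ModuleCat.{u} A) ℤ) (hP : ∀ i, Module.Flat A (P.X i))
    (S : ShortComplex (ModuleCat.{u} A)) (hS : S.ShortExact) (n m : ℤ) (hnm : m + 1 = n) :
    ∃ δ : CohIII.T P n S.X₃ →ₗ[A] CohIII.T P m S.X₁,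
      Function.Exact ((CohIII.TFun P n).map S.g).hom δ := by
  have hrel : (ComplexShape.down ℤ).Rel n m := by simpa using hnm
  have h := (tensorSC_shortExact P hP S hS).homology_exact₃ n m hrel
  exact ⟨((tensorSC_shortExact P hP S hS).δ n m hrel).hom,
    (ShortComplex.ShortExact.moduleCat_exact_iff_function_exact _).mp h⟩

lemma T_finite_of_subsingleton (P : ChainComplex (ModuleCat.{u} A) ℤ) (n : ℤ)
    (M : ModuleCat.{u} A) (h : Subsingleton (P.X n ⊗ M : ModuleCat.{u} A)) :
    Module.Finite A (CohIII.T P n M) := by
  have hz : IsZero ((CohIII.tensorObj P M).X n) := by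
    have : Subsingleton ((CohIII.tensorObj P M).X n) := h
    exact ModuleCat.isZero_of_subsingleton _
  have hz' : IsZero (CohIII.T P n M) := by
    apply ShortComplex.isZero_homology_of_isZero_X₂
    exact hz
  have : Subsingleton (CohIII.T P n M) := ModuleCat.subsingleton_of_isZero hz'
  infer_instance

lemma T_finite_of_isZero (P : ChainComplex (ModuleCat.{u} A) ℤ) (n : ℤ)
    (M : ModuleCat.{u} A) (h : IsZero ((CohIII.tensorObj P M).X n)) :
    Module.Finite A (CohIII.T P n M) := by
  have hz' : IsZero (CohIII.T P n M) := by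
    apply ShortComplex.isZero_homology_of_isZero_X₂
    exact h
  have : Subsingleton (CohIII.T P n M) := ModuleCat.subsingleton_of_isZero hz'
  infer_instance

/-- Lemma F: `T_n(M)` is finite for finite `M` -/
theorem T_finite [IsNoetherianRing A] (P : ChainComplex (ModuleCat.{u} A) ℤ)
    (hP : ∀ i, Module.Flat A (P.X i)) (i₀ : ℤ) (hb : ∀ i < i₀, IsZero (P.X i))
    (hfg : ∀ n : ℤ, Module.Finite A (CohIII.T P n (ModuleCat.of A A))) :
    ∀ (k : ℕ) (n : ℤ), n < i₀ + k → ∀ (M : Type u) [AddCommGroup M] [Module A M]
      [Module.Finite A M], Module.Finite A (CohIII.T P n (ModuleCat.of A M)) := by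
  intro k
  induction k with
  | zero =>
    intro n hn M _ _ _
    apply T_finite_of_isZero
    exact (tensorRight (ModuleCat.of A M)).map_isZero (hb n (by simpa using hn))
  | succ k ih =>
    intro n hn M _ _ hM
    have ih' : ∀ (M : Type u) [AddCommGroup M] [Module A M] [Module.Finite A M],
        Module.Finite A (CohIII.T P (n - 1) (ModuleCat.of A M)) := fun M _ _ _ =>
      ih (n - 1) (by push_cast at hn; omega) M
    induction hM using IsNoetherianRing.induction_on_isQuotientEquivQuotientPrime A with
    | subsingleton N =>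
      apply T_finite_of_isZero
      exact (tensorLeft (P.X n)).map_isZero (ModuleCat.isZero_of_subsingleton (ModuleCat.of A N))
    | quotient N p e =>
      let S := scOf (Submodule.subtype p.1) (Submodule.mkQ p.1)
        (LinearMap.exact_subtype_mkQ p.1)
      have hS : S.ShortExact := scOf_shortExact _ _ (Submodule.subtype_injective _)
        (Submodule.mkQ_surjective _) _
      obtain ⟨δ, hδ⟩ := T_exact₃ P hP S hS n (n - 1) (by ring)
      have h1 : Module.Finite A (CohIII.T P n S.X₂) := hfg n
      have h3 : Module.Finite A (CohIII.T P (n - 1) S.X₁) := ih' p.1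
      have h2 : Module.Finite A (CohIII.T P n S.X₃) := finite_of_exact _ _ hδ h1 h3
      have h2' : Module.Finite A ((CohIII.TFun P n).obj (ModuleCat.of A (A ⧸ p.asIdeal))) := h2
      exact Module.Finite.equiv
        ((CohIII.TFun P n).mapIso (LinearEquiv.toModuleIso e)).symm.toLinearEquiv
    | exact N₁ N₂ N₃ f g hf hg hfg h1 h3 =>
      have hS := scOf_shortExact f g hf hg hfg
      have := T_exact₂ P hP _ hS n
      exact finite_of_exact _ _ this h1 h3




section BCfin

variable {A : Type u} [CommRing A] (B : Type u) [CommRing B] [Algebra A B]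

/-- the `A`-linear comparison `B ⊗ M ≃ M ⊗ B` on the restriction of scalars of the extension -/
noncomputable def compEquiv (M : ModuleCat.{u} A) :
    ((ModuleCat.restrictScalars (algebraMap A B)).obj
      ((ModuleCat.extendScalars (algebraMap A B)).obj M)) ≃ₗ[A] (M ⊗[A] B) where
  toFun z := TensorProduct.comm A B M (bridge A B M z)
  invFun w := (bridge A B M).symm ((TensorProduct.comm A B M).symm w)
  map_add' a b := by
    have h : bridge A B M (a + b) = bridge A B M a + bridge A B M b := map_add _ _ _
    show TensorProduct.comm A B M (bridge A B M (a + b)) = _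
    rw [h, map_add]
  map_smul' a z := by
    have h1 : (a • z : ((ModuleCat.restrictScalars (algebraMap A B)).obj
      ((ModuleCat.extendScalars (algebraMap A B)).obj M))) = (algebraMap A B a) •
        (show ((ModuleCat.extendScalars (algebraMap A B)).obj M) from z) :=
      ModuleCat.restrictScalars.smul_def (algebraMap A B) a z
    show TensorProduct.comm A B M (bridge A B M (a • z)) = _
    rw [h1, map_smul, algebraMap_smul, map_smul]
    rfl
  left_inv z := by
    show (bridge A B M).symm ((TensorProduct.comm A B M).symm
      (TensorProduct.comm A B M (bridge A B M z))) = z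
    refine (congrArg (bridge A B M).symm
      ((TensorProduct.comm A B M).symm_apply_apply _)).trans ?_
    exact (bridge A B M).symm_apply_apply z
  right_inv w := by
    show TensorProduct.comm A B M (bridge A B M ((bridge A B M).symm
      ((TensorProduct.comm A B M).symm w))) = w
    rw [LinearEquiv.apply_symm_apply, LinearEquiv.apply_symm_apply]

lemma comm_baseChange {M N : Type u} [AddCommGroup M] [Module A M] [AddCommGroup N] [Module A N]
    (d : M →ₗ[A] N) (w : B ⊗[A] M) :
    TensorProduct.comm A B N (d.baseChange B w) = d.rTensor B (TensorProduct.comm A B M w) := by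
  induction w using TensorProduct.induction_on with
  | zero => simp
  | tmul b m => simp
  | add x y hx hy => simp [hx, hy]

variable {ι : Type} {c : ComplexShape ι} (P : HomologicalComplex (ModuleCat.{u} A) c)

/-- restriction of scalars of the base change is the tensor product with `B` -/
noncomputable def resBcIso :
    ((ModuleCat.restrictScalars (algebraMap A B)).mapHomologicalComplex c).obj
      (CohIII.bcCx (algebraMap A B) P) ≅ CohIII.tensorObj P (ModuleCat.of A B) :=
  HomologicalComplex.Hom.isoOfComponents (fun i => (compEquiv B (P.X i)).toModuleIso) (by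
    intro i j _
    ext z
    show (P.d i j).hom.rTensor B (TensorProduct.comm A B (P.X i) (bridge A B (P.X i) z)) =
      TensorProduct.comm A B (P.X j) (bridge A B (P.X j)
        ((ModuleCat.extendScalars (algebraMap A B)).map (P.d i j) z))
    have h1 := bridge_naturality A B (P.d i j)
      (show ((ModuleCat.extendScalars (algebraMap A B)).obj (P.X i)) from z)
    refine Eq.trans ?_ (congrArg (TensorProduct.comm A B (P.X j)) h1).symm
    exact (comm_baseChange B (P.d i j).hom _).symm)

/-- finiteness of the homology of the base change from finiteness of `T_q(B)` -/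
theorem finite_bc_homology (q : ι) (h : Module.Finite A (CohIII.T P q (ModuleCat.of A B))) :
    Module.Finite B ((CohIII.bcCx (algebraMap A B) P).homology q) := by
  let R := ModuleCat.restrictScalars.{u} (algebraMap A B)
  let K := CohIII.bcCx (algebraMap A B) P
  let e1 : ((R.mapHomologicalComplex c).obj K).homology q ≅ R.obj (K.homology q) :=
    ShortComplex.mapHomologyIso (K.sc q) R
  let e2 : ((R.mapHomologicalComplex c).obj K).homology q ≅ CohIII.T P q (ModuleCat.of A B) :=
    (HomologicalComplex.homologyFunctor _ _ q).mapIso (resBcIso B P)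
  have hfinA : Module.Finite A (R.obj (K.homology q)) :=
    Module.Finite.equiv (e2.symm ≪≫ e1).toLinearEquiv
  letI : Module A (K.homology q) := Module.compHom _ (algebraMap A B)
  haveI : IsScalarTower A B (K.homology q) := ⟨fun a b x => by
    show (a • b) • x = (algebraMap A B (a)) • (b • x)
    rw [Algebra.smul_def, mul_smul]⟩
  haveI : Module.Finite A (K.homology q) := hfinA
  exact Module.Finite.of_restrictScalars_finite A B _

end BCfin




/-- local constancy of the rank functions over a basic open in the free locus of the homology -/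
theorem locConst_bc {B : Type u} [CommRing B] [IsNoetherianRing B]
    (K : ChainComplex (ModuleCat.{u} B) ℤ) (hK : ∀ i, Module.Flat B (K.X i)) (i₀ : ℤ)
    (hbK : ∀ i < i₀, IsZero (K.X i)) (hfin : ∀ q, Module.Finite B (K.homology q)) (N : ℤ) (f : B)
    (hf : ∀ q ∈ Finset.Icc i₀ N,
      (PrimeSpectrum.basicOpen f : Set (PrimeSpectrum B)) ⊆ Module.freeLocus B (K.homology q))
    (p : ℤ) (hp : p ≤ N) :
    IsLocallyConstant (CohIII.dRank (CohIII.bcCx (algebraMap B (Localization.Away f)) K) p) := by
  let Bf := Localization.Away f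
  let Kf := CohIII.bcCx (algebraMap B Bf) K
  have hKf : ∀ i, Module.Flat Bf (Kf.X i) := flat_bcCx_X Bf K hK
  have hbKf : ∀ i < i₀, IsZero (Kf.X i) := fun i hi =>
    (ModuleCat.extendScalars (algebraMap B Bf)).map_isZero (hbK i hi)
  have hfp : ∀ q, Module.FinitePresentation B (K.homology q) := fun q =>
    have := hfin q
    Module.finitePresentation_of_finite B _
  have hH : ∀ q, i₀ ≤ q → q ≤ N → Module.Flat Bf (Kf.homology q) := by
    intro q h1 h2
    have := hfp q
    have hproj : Module.Projective Bf (LocalizedModule.Away f (K.homology q)) :=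
      Module.basicOpen_subset_freeLocus_iff.mp (hf q (Finset.mem_Icc.mpr ⟨h1, h2⟩))
    obtain ⟨e⟩ := Groth.Agent.S4486.nonempty_bcHomologyEquiv_of_flat Bf K q
    have hfl : Module.Flat Bf (LocalizedModule.Away f (K.homology q)) :=
      Module.Flat.of_projective
    exact Module.Flat.of_linearEquiv
      (e ≪≫ₗ (LocalizedModule.equivTensorProduct (Submonoid.powers f) (K.homology q)).symm)
  have hall := Groth.Agent.S4486.flat_opcycles_bc Kf hKf i₀ N hbKf hH
  have hW : ∀ q ≤ N, Module.Flat Bf (Kf.opcycles q) := by
    intro q hq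
    exact hall (q - i₀ + 1).toNat q hq (by omega)
  have hex : (CohIII.TFun Kf p).PreservesMonomorphisms ∧ (CohIII.TFun Kf p).PreservesEpimorphisms :=
    ⟨(Groth.Agent.S2375.result Kf hKf p).mpr (hW p hp),
      (Groth.Agent.S2410.preservesEpi_iff_flat_opcycles Kf hKf p (p - 1) (by ring)).mpr
        (hW (p - 1) (by omega))⟩
  have hfpT : Module.FinitePresentation Bf (CohIII.T Kf p (ModuleCat.of Bf Bf)) := by
    obtain ⟨e⟩ := Groth.Agent.S4486.nonempty_bcHomologyEquiv_of_flat Bf K p
    have := hfin p
    have h1 : Module.Finite Bf (Bf ⊗[B] (K.homology p)) := inferInstance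
    have h2 : Module.Finite Bf (Kf.homology p) := Module.Finite.equiv e.symm
    have h3 : Module.Finite Bf (CohIII.T Kf p (ModuleCat.of Bf Bf)) :=
      Module.Finite.equiv (TUnitIso Kf p).symm.toLinearEquiv
    exact Module.finitePresentation_of_finite Bf _
  exact Groth.Agent.S4485.result Kf hKf p hex hfpT

end Groth.Agent.Lib.T2H4.FlatFin
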