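import Mathlib
import Groth.Agent.Lib.Helper1TorO
import Groth.Agent.Lib.Helper1TorJ
import Groth.Agent.Lib.Helper1DT2
import Groth.Agent.Lib.Helper1TorDim
set_option backward.isDefEq.respectTransparency.types false

/-!
# Flatness of an object of `D(R)` from `R_f` and `R/f` (helper4)

If `M ∈ D^{≤ 0}(R)` becomes a flat module in degree `0` after `⊗^L R_f` and `⊗^L R/f`, then `M` is a
flat module in degree `0`.  Dévissage: `R_f`-modules, modules killed by a power of `f`, `f`-power
torsion modules (colimit argument, `exactAt_TC_of_torsion`), kernel/cokernel of localization.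
-/

set_option autoImplicit false
set_option maxHeartbeats 400000
universe u
open CategoryTheory CategoryTheory.Limits MonoidalCategory HomologicalComplex TensorProduct
attribute [local instance] HasDerivedCategory.standard

namespace Groth.Agent.Lib.T2H4.FlatGlue

open DerivedCategory Groth.Agent.Lib.Helper1.KF Groth.Agent.Lib.Helper1.Tor
  Groth.Agent.Lib.Helper1.DT Groth.Agent.Lib.Helper1.LDer Groth.Agent.Lib.Helper1.TorM
  Groth.Agent.Lib.Helper1.TorN Groth.Agent.Lib.Helper1.TorO

variable {R : Type u} [CommRing R]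

/-- left term from the middle term and the right term one degree lower -/
theorem exactAt_TC_X₁_of_shortExact (S : ShortComplex (ModuleCat.{u} R)) (hS : S.ShortExact)
    (F : DRing.Cx R) (hF : DRing.TermwiseFlat F) (j i : ℤ) (hji : j + 1 = i)
    (h2 : ((TC S.X₂).obj F).ExactAt i) (h3 : ((TC S.X₃).obj F).ExactAt j) :
    ((TC S.X₁).obj F).ExactAt i := by
  have hT := TCshort_shortExact S hS F hF
  have hex := hT.homology_exact₁ j i hji
  rw [HomologicalComplex.exactAt_iff_isZero_homology] at h2 h3 ⊢
  exact hex.isZero_of_both_zeros (h3.eq_of_src _ _) (h2.eq_of_tgt _ _)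

section torsion

variable (f : R)

lemma torsionBy_pow_mono (N : Type u) [AddCommGroup N] [Module R N] {n m : ℕ} (h : n ≤ m) :
    Submodule.torsionBy R N (f ^ n) ≤ Submodule.torsionBy R N (f ^ m) := by
  intro x hx
  rw [Submodule.mem_torsionBy_iff] at hx ⊢
  obtain ⟨k, rfl⟩ := Nat.exists_eq_add_of_le h
  rw [pow_add, mul_comm, mul_smul, hx, smul_zero]

lemma range_rTensor_mono (N X : Type u) [AddCommGroup N] [Module R N] [AddCommGroup X]
    [Module R X] {A B : Submodule R N} (h : A ≤ B) :
    LinearMap.range (LinearMap.rTensor X A.subtype) ≤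
      LinearMap.range (LinearMap.rTensor X B.subtype) := by
  rintro _ ⟨z, rfl⟩
  refine ⟨LinearMap.rTensor X (Submodule.inclusion h) z, ?_⟩
  rw [← LinearMap.comp_apply, ← LinearMap.rTensor_comp]
  rfl

/-- every element of `N ⊗ X` comes from `N[f^n] ⊗ X` for some `n`, if `N` is `f`-power torsion -/
lemma exists_mem_range_rTensor_torsionBy (N X : Type u) [AddCommGroup N] [Module R N]
    [AddCommGroup X] [Module R X] (hN : ∀ x : N, ∃ n : ℕ, f ^ n • x = 0) (z : N ⊗[R] X) :
    ∃ n : ℕ, z ∈ LinearMap.range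
      (LinearMap.rTensor X (Submodule.torsionBy R N (f ^ n)).subtype) := by
  induction z using TensorProduct.induction_on with
  | zero => exact ⟨0, Submodule.zero_mem _⟩
  | tmul x y =>
    obtain ⟨n, hn⟩ := hN x
    exact ⟨n, ⟨(⟨x, (Submodule.mem_torsionBy_iff _ _).2 hn⟩ :
      Submodule.torsionBy R N (f ^ n)) ⊗ₜ[R] y, rfl⟩⟩
  | add a b ha hb =>
    obtain ⟨n, hn⟩ := ha
    obtain ⟨m, hm⟩ := hb
    refine ⟨max n m, Submodule.add_mem _ ?_ ?_⟩
    · exact range_rTensor_mono N X (torsionBy_pow_mono f N (le_max_left n m)) hn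
    · exact range_rTensor_mono N X (torsionBy_pow_mono f N (le_max_right n m)) hm

lemma mem_range_lTensor_of_sub {N X Y Z : Type u} [AddCommGroup N] [Module R N]
    [AddCommGroup X] [Module R X] [AddCommGroup Y] [Module R Y] [AddCommGroup Z] [Module R Z]
    (A : Submodule R N) (d₁ : X →ₗ[R] Y) (d₂ : Y →ₗ[R] Z)
    (hex : Function.Exact (LinearMap.lTensor A d₁) (LinearMap.lTensor A d₂))
    (hinj : Function.Injective (LinearMap.rTensor Z A.subtype)) (w : A ⊗[R] Y)
    (hz : LinearMap.lTensor N d₂ (LinearMap.rTensor Y A.subtype w) = 0) :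
    LinearMap.rTensor Y A.subtype w ∈ LinearMap.range (LinearMap.lTensor N d₁) := by
  have hw0 : (LinearMap.lTensor A d₂) w = 0 := by
    apply hinj
    rw [map_zero, ← LinearMap.comp_apply, LinearMap.rTensor_comp_lTensor,
      ← LinearMap.lTensor_comp_rTensor, LinearMap.comp_apply]
    exact hz
  obtain ⟨v, hv⟩ := (hex w).1 hw0
  refine ⟨LinearMap.rTensor X A.subtype v, ?_⟩
  rw [← LinearMap.comp_apply, LinearMap.lTensor_comp_rTensor, ← LinearMap.rTensor_comp_lTensor,
    LinearMap.comp_apply, hv]

/-- exactness of `N ⊗ F` for `f`-power torsion `N` from bounded torsion -/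
theorem exactAt_TC_of_torsion (F : Cx R) (hFf : DRing.TermwiseFlat F) (i : ℤ)
    (hbase : ∀ (n : ℕ) (N : Type u) [AddCommGroup N] [Module R N], (∀ x : N, f ^ n • x = 0) →
      ((TC (ModuleCat.of R N)).obj F).ExactAt i)
    (N : Type u) [AddCommGroup N] [Module R N] (hN : ∀ x : N, ∃ n : ℕ, f ^ n • x = 0) :
    ((TC (ModuleCat.of R N)).obj F).ExactAt i := by
  rw [exactAt_TC_iff _ F (i - 1) i (i + 1) (by lia) rfl]
  intro z
  constructor
  · intro hz
    obtain ⟨n, w, hw⟩ := exists_mem_range_rTensor_torsionBy f N (F.X i) hN z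
    have hex := hbase n (Submodule.torsionBy R N (f ^ n))
      (fun x => Subtype.ext ((Submodule.mem_torsionBy_iff _ _).1 x.2))
    rw [exactAt_TC_iff _ F (i - 1) i (i + 1) (by lia) rfl] at hex
    have := hFf (i + 1)
    have hinj : Function.Injective (LinearMap.rTensor (F.X (i + 1))
        (Submodule.torsionBy R N (f ^ n)).subtype) :=
      Module.Flat.rTensor_preserves_injective_linearMap _ (Submodule.subtype_injective _)
    have key := mem_range_lTensor_of_sub (N := N) (Submodule.torsionBy R N (f ^ n))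
      (F.d (i - 1) i).hom (F.d i (i + 1)).hom hex hinj w (by rw [hw]; exact hz)
    rw [hw] at key
    exact key
  · rintro ⟨v, rfl⟩
    show (LinearMap.lTensor N (F.d i (i + 1)).hom) ((LinearMap.lTensor N (F.d (i - 1) i).hom) v) = 0
    rw [← LinearMap.comp_apply, ← LinearMap.lTensor_comp]
    have : (F.d i (i + 1)).hom ∘ₗ (F.d (i - 1) i).hom = 0 := by
      rw [← ModuleCat.hom_comp, F.d_comp_d]
      rfl
    rw [this, LinearMap.lTensor_zero, LinearMap.zero_apply]

end torsion


section good

/-- `N ⊗ P` is exact in all negative degrees -/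
def Good (P : Cx R) (N : ModuleCat.{u} R) : Prop := ∀ i : ℤ, i < 0 → ((TC N).obj P).ExactAt i

variable {P : Cx R}

lemma Good.of_iso {N N' : ModuleCat.{u} R} (e : N ≅ N') (h : Good P N) : Good P N' :=
  fun i hi => exactAt_TC_of_iso e P i (h i hi)

lemma Good.X₂ (hPf : DRing.TermwiseFlat P) (S : ShortComplex (ModuleCat.{u} R))
    (hS : S.ShortExact) (h1 : Good P S.X₁) (h3 : Good P S.X₃) : Good P S.X₂ :=
  fun i hi => exactAt_TC_of_shortExact S hS P hPf i (h1 i hi) (h3 i hi)

lemma Good.X₁ (hPf : DRing.TermwiseFlat P) (S : ShortComplex (ModuleCat.{u} R))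
    (hS : S.ShortExact) (h2 : Good P S.X₂) (h3 : Good P S.X₃) : Good P S.X₁ :=
  fun i hi => exactAt_TC_X₁_of_shortExact S hS P hPf (i - 1) i (by lia) (h2 i hi)
    (h3 (i - 1) (by lia))

end good

section ses

variable {N N' : Type u} [AddCommGroup N] [Module R N] [AddCommGroup N'] [Module R N']
  (g : N →ₗ[R] N')

/-- `0 → ker g → N → range g → 0` -/
noncomputable def sesKer : ShortComplex (ModuleCat.{u} R) :=
  ShortComplex.mk (ModuleCat.ofHom (LinearMap.ker g).subtype) (ModuleCat.ofHom g.rangeRestrict) (by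
    ext x
    exact x.2)

lemma sesKer_shortExact : (sesKer g).ShortExact where
  exact := by
    rw [ShortComplex.ShortExact.moduleCat_exact_iff_function_exact]
    intro y
    constructor
    · intro hy
      exact ⟨⟨y, congrArg Subtype.val hy⟩, rfl⟩
    · rintro ⟨x, rfl⟩
      apply Subtype.ext
      exact x.2
  mono_f := (ModuleCat.mono_iff_injective _).2 (Submodule.subtype_injective _)
  epi_g := (ModuleCat.epi_iff_surjective _).2 g.surjective_rangeRestrict

/-- `0 → range g → N' → N' / range g → 0` -/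
noncomputable def sesRange : ShortComplex (ModuleCat.{u} R) :=
  ShortComplex.mk (ModuleCat.ofHom (LinearMap.range g).subtype)
    (ModuleCat.ofHom (LinearMap.range g).mkQ) (by
    ext x
    simp)

lemma sesRange_shortExact : (sesRange g).ShortExact where
  exact := by
    rw [ShortComplex.ShortExact.moduleCat_exact_iff_function_exact]
    exact LinearMap.exact_subtype_mkQ _
  mono_f := (ModuleCat.mono_iff_injective _).2 (Submodule.subtype_injective _)
  epi_g := (ModuleCat.epi_iff_surjective _).2 (Submodule.mkQ_surjective _)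

end ses


section main

variable (f : R) (P : Cx R)

/-- modules over `R_f` are good -/
lemma good_of_tower (hvf : TorVan ((DTen.extCx (algebraMap R (Localization.Away f))).obj P) 0 0)
    (N : Type u) [AddCommGroup N] [Module R N] [Module (Localization.Away f) N]
    [IsScalarTower R (Localization.Away f) N] : Good P (ModuleCat.of R N) := by
  intro i hi
  obtain ⟨e⟩ := nonempty_iso_of_addEquiv
    (X := (ModuleCat.restrictScalars (algebraMap R (Localization.Away f))).obj
      (ModuleCat.of (Localization.Away f) N)) (N := N) (AddEquiv.refl N)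
    (by intro r x; exact algebraMap_smul (Localization.Away f) r (show N from x))
  exact exactAt_TC_of_iso e P i (exactAt_TC_restrict_of_exactAt_TC_ext _ _ P i
    (hvf _ i (Or.inl hi)))

/-- `f`-power torsion modules are good -/
lemma good_of_torsion (hPf : DRing.TermwiseFlat P)
    (hv0 : TorVan ((DTen.extCx (Ideal.Quotient.mk (Ideal.span ({f} : Set R)))).obj P) 0 0)
    (N : Type u) [AddCommGroup N] [Module R N] (hN : ∀ x : N, ∃ n : ℕ, f ^ n • x = 0) :
    Good P (ModuleCat.of R N) := by
  intro i hi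
  refine exactAt_TC_of_torsion f P hPf i ?_ N hN
  intro n N' _ _ hN'
  refine exactAt_TC_of_pow_smul_eq_zero' (Ideal.span ({f} : Set R)) P hPf i ?_ n N' ?_
  · intro N'' _ _ hN''
    have hsurj : Function.Surjective (Ideal.Quotient.mk (Ideal.span ({f} : Set R))) :=
      Ideal.Quotient.mk_surjective
    obtain ⟨Nb, ⟨e⟩⟩ := exists_iso_restrictScalars_of_ker_smul_eq_zero
      (Ideal.Quotient.mk (Ideal.span ({f} : Set R))) hsurj N'' (by
        intro r hr x
        rw [Ideal.mk_ker] at hr
        exact hN'' r hr x)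
    exact exactAt_TC_of_iso e P i (exactAt_TC_restrict_of_exactAt_TC_ext _ Nb P i
      (hv0 Nb i (Or.inl hi)))
  · intro r hr x
    rw [Ideal.span_singleton_pow, Ideal.mem_span_singleton'] at hr
    obtain ⟨a, rfl⟩ := hr
    rw [mul_smul, hN' x, smul_zero]

/-- all modules are good -/
theorem good_all (hPf : DRing.TermwiseFlat P)
    (hvf : TorVan ((DTen.extCx (algebraMap R (Localization.Away f))).obj P) 0 0)
    (hv0 : TorVan ((DTen.extCx (Ideal.Quotient.mk (Ideal.span ({f} : Set R)))).obj P) 0 0)
    (N : ModuleCat.{u} R) : Good P N := by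
  let g : N →ₗ[R] LocalizedModule (Submonoid.powers f) N :=
    LocalizedModule.mkLinearMap (Submonoid.powers f) N
  -- the kernel is torsion
  have hK : Good P (ModuleCat.of R (LinearMap.ker g)) := by
    apply good_of_torsion f P hPf hv0
    intro x
    have hx : g x.1 = 0 := x.2
    obtain ⟨c, hc⟩ := (IsLocalizedModule.eq_zero_iff (Submonoid.powers f) g).1 hx
    obtain ⟨n, hn⟩ := c.2
    refine ⟨n, Subtype.ext ?_⟩
    show f ^ n • (x : N) = 0
    have hn' : f ^ n = (c : R) := hn
    rw [hn']
    exact hc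
  -- the cokernel is torsion
  have hC : Good P (ModuleCat.of R (LocalizedModule (Submonoid.powers f) N ⧸ LinearMap.range g)) := by
    apply good_of_torsion f P hPf hv0
    intro y
    induction y using Submodule.Quotient.induction_on with
    | _ y =>
      obtain ⟨⟨x, c⟩, hxc⟩ := IsLocalizedModule.surj (Submonoid.powers f) g y
      obtain ⟨n, hn⟩ := c.2
      refine ⟨n, ?_⟩
      rw [← Submodule.Quotient.mk_smul, Submodule.Quotient.mk_eq_zero]
      refine ⟨x, ?_⟩
      have hn' : f ^ n = (c : R) := hn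
      rw [hn']
      exact hxc.symm
  -- the localization is good
  have hL : Good P (ModuleCat.of R (LocalizedModule (Submonoid.powers f) N)) :=
    good_of_tower f P hvf (LocalizedModule (Submonoid.powers f) N)
  -- the image is good
  have hI : Good P (ModuleCat.of R (LinearMap.range g)) :=
    Good.X₁ hPf (sesRange g) (sesRange_shortExact g) hL hC
  have hN : Good P (ModuleCat.of R N) :=
    Good.X₂ hPf (sesKer g) (sesKer_shortExact g) hK hI
  exact hN

end main


section final

open Groth.Agent.Lib.Helper1.TorDim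

lemma hasTorAmp_inD_of_flat {A : Type u} [CommRing A] (N : Type u) [AddCommGroup N] [Module A N]
    [Module.Flat A N] : DRing.HasTorAmplitudeIn A 0 0 (Dual.inD A N) := by
  have h0 : DRing.HasTorDimLE A 0 N :=
    (hasTorDimLE_zero_iff_flat (R := A) N).2 inferInstance
  have h := (hasTorDimLE_iff_hasTorAmp (R := A) N 0).1 h0
  simpa using h

/-- a K-projective complex whose derived base change is a flat module in degree `0` has
tensor-vanishing base change outside `[0, 0]` -/
lemma torVan_ext_of_iso_inD {A : Type u} [CommRing A] (φ : R →+* A) [DRing.HasLBaseChange φ]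
    (P : Cx R) [P.IsKProjective] (X : Dual.D R) (e : Q.obj P ≅ X)
    (N : Type u) [AddCommGroup N] [Module A N] [Module.Flat A N]
    (eN : (DRing.LBaseChange φ).obj X ≅ Dual.inD A N) :
    TorVan ((DTen.extCx φ).obj P) 0 0 := by
  obtain ⟨E, hE, hEf, ⟨eE⟩⟩ := hasTorAmp_inD_of_flat (A := A) N
  exact torVan_of_iso_kflat _ E (kflat_of_isKProjective _) 0 0 hE hEf
    (eE ≪≫ eN.symm ≪≫ (DRing.LBaseChange φ).mapIso e.symm ≪≫ lbcIso φ P)

/-- an object of tor amplitude `[0, 0]` is a flat module in degree `0` -/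
lemma exists_flat_of_hasTorAmp_zero (M : Dual.D R) (h : DRing.HasTorAmplitudeIn R 0 0 M) :
    ∃ (N : Type u) (_ : AddCommGroup N) (_ : Module R N),
      Module.Flat R N ∧ Nonempty (M ≅ Dual.inD R N) := by
  obtain ⟨E, hE, hEf, ⟨e⟩⟩ := h
  haveI : E.IsStrictlyGE 0 := by
    rw [CochainComplex.isStrictlyGE_iff]
    exact fun i hi => hE i (Or.inl hi)
  haveI : E.IsStrictlyLE 0 := by
    rw [CochainComplex.isStrictlyLE_iff]
    exact fun i hi => hE i (Or.inr hi)
  obtain ⟨M₀, ⟨iso⟩⟩ := CochainComplex.exists_iso_single E 0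
  have e0 : E.X 0 ≅ M₀ :=
    (HomologicalComplex.eval _ _ 0).mapIso iso ≪≫
      HomologicalComplex.singleObjXSelf (ComplexShape.up ℤ) 0 M₀
  have := hEf 0
  have hflat : Module.Flat R M₀ := Module.Flat.of_linearEquiv e0.toLinearEquiv.symm
  exact ⟨M₀, inferInstance, inferInstance, hflat,
    ⟨e.symm ≪≫ Q.mapIso iso ≪≫ ((singleFunctorIsoCompQ (ModuleCat.{u} R) 0).app M₀).symm⟩⟩

theorem exists_flat_of_away_and_quotient (f : R) (M : Dual.D R)
    [DRing.HasLBaseChange (algebraMap R (Localization.Away f))]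
    [DRing.HasLBaseChange (Ideal.Quotient.mk (Ideal.span ({f} : Set R)))]
    (h1 : ∀ i : ℤ, 0 < i → Subsingleton (Dual.HD R M i))
    (h2 : ∃ (N : Type u) (_ : AddCommGroup N) (_ : Module (Localization.Away f) N),
      Module.Flat (Localization.Away f) N ∧
        Nonempty ((DRing.LBaseChange (algebraMap R (Localization.Away f))).obj M ≅
          Dual.inD (Localization.Away f) N))
    (h3 : ∃ (N : Type u) (_ : AddCommGroup N) (_ : Module (R ⧸ Ideal.span ({f} : Set R)) N),
      Module.Flat (R ⧸ Ideal.span ({f} : Set R)) N ∧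
        Nonempty ((DRing.LBaseChange (Ideal.Quotient.mk (Ideal.span ({f} : Set R)))).obj M ≅
          Dual.inD (R ⧸ Ideal.span ({f} : Set R)) N)) :
    ∃ (N : Type u) (_ : AddCommGroup N) (_ : Module R N),
      Module.Flat R N ∧ Nonempty (M ≅ Dual.inD R N) := by
  obtain ⟨P, hP, hproj, ⟨e⟩⟩ := exists_kproj_iso M
  have hPf : DRing.TermwiseFlat P := fun i =>
    have := hproj i
    have : Module.Projective R (P.X i) := ModuleCat.projective_of_module_projective _
    inferInstance
  have hPK : KFlat P := kflat_of_isKProjective P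
  obtain ⟨N₂, _, _, hN₂, ⟨e₂⟩⟩ := h2
  obtain ⟨N₃, _, _, hN₃, ⟨e₃⟩⟩ := h3
  have hvf := torVan_ext_of_iso_inD (algebraMap R (Localization.Away f)) P M e N₂ e₂
  have hv0 := torVan_ext_of_iso_inD (Ideal.Quotient.mk (Ideal.span ({f} : Set R))) P M e N₃ e₃
  have hle : ∀ i : ℤ, 0 < i → P.ExactAt i := by
    intro i hi
    rw [exactAt_iff_isZero_H]
    have := h1 i hi
    exact (ModuleCat.isZero_of_subsingleton _).of_iso
      ((homologyFunctor (ModuleCat.{u} R) i).mapIso e)
  have hv : TorVan P 0 0 := by
    intro M' i hi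
    rcases hi with hi | hi
    · exact good_all f P hPf hvf hv0 M' i hi
    · exact exactAt_TC_of_exactAt_above P hPK 0 hle M' i hi
  exact exists_flat_of_hasTorAmp_zero M (hasTorAmp_of_iso e (hasTorAmp_of_torVan_kflat P hPK 0 0 hv))

end final

end Groth.Agent.Lib.T2H4.FlatGlue
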