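import Groth.Agent.Lib.T2H4LocKL

/-!
# Abstract dévissage for natural transformations of cohomological functors on `D(A)` (helper4)

`CoFun A` is a naive contravariant cohomological functor `D(A)ᵒᵖ → Ab`; for a natural transformation
`θ : F ⟶ G`, the class of `K` with `θ_{K[n]}` bijective for all `n` is triangulated, and contains
`D^b_coh(A)` as soon as it contains `A` and both functors vanish on `D^{≤ i}` for `i < a`.
-/

set_option autoImplicit false
set_option linter.style.haveILetI false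
set_option backward.isDefEq.respectTransparency.types false
universe u w
open CategoryTheory CategoryTheory.Limits
attribute [local instance] HasDerivedCategory.standard

namespace Groth.Agent.Lib.T2H4.FlatHom

open DerivedCategory Pretriangulated Groth.Agent.S14388 Groth.Agent.Lib.T2H4.LocalDual

/-- a naive contravariant cohomological functor on `D(A)`. -/
structure CoFun (A : Type u) [CommRing A] where
  /-- values -/
  obj : Dual.D A → Type w
  /-- group structures -/
  grp : ∀ X, AddCommGroup (obj X)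
  /-- functoriality -/
  map : ∀ {X Y : Dual.D A}, (X ⟶ Y) → obj Y →+ obj X
  map_id : ∀ (X : Dual.D A) (z : obj X), map (𝟙 X) z = z
  map_comp : ∀ {X Y Z : Dual.D A} (f : X ⟶ Y) (g : Y ⟶ Z) (z : obj Z),
    map (f ≫ g) z = map f (map g z)
  map_zero : ∀ (X Y : Dual.D A) (z : obj Y), map (0 : X ⟶ Y) z = 0
  exact : ∀ T : Triangle (Dual.D A), T ∈ distTriang (Dual.D A) → ∀ x : obj T.obj₂,
    map T.mor₁ x = 0 → ∃ y : obj T.obj₃, map T.mor₂ y = x

attribute [instance] CoFun.grp

variable {A : Type u} [CommRing A]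

/-- a natural transformation of naive cohomological functors. -/
structure NatT (F G : CoFun.{u, w} A) where
  /-- components -/
  app : ∀ X, F.obj X →+ G.obj X
  nat : ∀ {X Y : Dual.D A} (f : X ⟶ Y) (z : F.obj Y), app X (F.map f z) = G.map f (app Y z)

section Abstract

variable {F G : CoFun.{u, w} A} (θ : NatT F G)

lemma CoFun.map_bijective_of_iso (F : CoFun.{u, w} A) {X Y : Dual.D A} (e : X ≅ Y) :
    Function.Bijective (F.map e.hom) := by
  refine Function.bijective_iff_has_inverse.2 ⟨F.map e.inv, fun z => ?_, fun z => ?_⟩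
  · rw [← F.map_comp, e.inv_hom_id, F.map_id]
  · rw [← F.map_comp, e.hom_inv_id, F.map_id]

lemma CoFun.subsingleton_of_isZero (F : CoFun.{u, w} A) {X : Dual.D A} (hX : IsZero X) :
    Subsingleton (F.obj X) := by
  refine ⟨fun a b => ?_⟩
  have h : ∀ z : F.obj X, z = 0 := fun z => by
    rw [← F.map_id X z, hX.eq_of_src (𝟙 X) 0, F.map_zero]
  rw [h a, h b]

variable {θ}

lemma bijective_of_iso {X Y : Dual.D A} (e : X ≅ Y) (h : Function.Bijective (θ.app X)) :
    Function.Bijective (θ.app Y) := by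
  have h1 : ⇑(θ.app Y) = ⇑(G.map e.inv) ∘ ⇑(θ.app X) ∘ ⇑(F.map e.hom) := by
    funext z
    simp only [Function.comp_apply]
    rw [θ.nat, ← G.map_comp, e.inv_hom_id, G.map_id]
  rw [h1]
  exact (G.map_bijective_of_iso e.symm).comp (h.comp (F.map_bijective_of_iso e))

lemma bijective_of_isZero {X : Dual.D A} (hX : IsZero X) : Function.Bijective (θ.app X) := by
  haveI := F.subsingleton_of_isZero hX
  haveI := G.subsingleton_of_isZero hX
  exact ⟨fun a b _ => Subsingleton.elim a b, fun y => ⟨0, Subsingleton.elim _ _⟩⟩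

/-- four lemma, injectivity. -/
lemma inj_obj₂ (T : Triangle (Dual.D A)) (hT : T ∈ distTriang (Dual.D A))
    (h1 : Function.Surjective (θ.app (T.obj₁⟦(1 : ℤ)⟧))) (h3 : Function.Injective (θ.app T.obj₃))
    (h1' : Function.Injective (θ.app T.obj₁)) : Function.Injective (θ.app T.obj₂) := by
  rw [injective_iff_map_eq_zero]
  intro x hx
  have e1 : F.map T.mor₁ x = 0 := by
    apply h1'
    rw [θ.nat, hx, map_zero, map_zero]
  obtain ⟨y, rfl⟩ := F.exact T hT x e1
  have e2 : G.map T.mor₂ (θ.app _ y) = 0 := by rw [← θ.nat, hx]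
  obtain ⟨z, hz⟩ := G.exact T.rotate (rot_of_distTriang T hT) (θ.app _ y) e2
  obtain ⟨z', rfl⟩ := h1 z
  have e3 : F.map T.mor₃ z' = y := by
    apply h3
    rw [θ.nat]
    exact hz
  rw [← e3, ← F.map_comp, comp_distTriang_mor_zero₂₃ T hT, F.map_zero]

/-- four lemma, surjectivity. -/
lemma surj_obj₂ (T : Triangle (Dual.D A)) (hT : T ∈ distTriang (Dual.D A))
    (h3 : Function.Surjective (θ.app T.obj₃)) (h1 : Function.Surjective (θ.app T.obj₁))
    (h3' : Function.Injective (θ.app (T.obj₃⟦(-1 : ℤ)⟧))) :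
    Function.Surjective (θ.app T.obj₂) := by
  intro g
  obtain ⟨f₁, hf₁⟩ := h1 (G.map T.mor₁ g)
  have hT' := inv_rot_of_distTriang T hT
  obtain ⟨w', hw', hex⟩ : ∃ w' : T.obj₃⟦(-1 : ℤ)⟧ ⟶ T.obj₁, w' ≫ T.mor₁ = 0 ∧
      ∀ (x : F.obj T.obj₁), F.map w' x = 0 → ∃ y : F.obj T.obj₂, F.map T.mor₁ y = x :=
    ⟨T.invRotate.mor₁, comp_distTriang_mor_zero₁₂ _ hT',
      fun x hx => F.exact T.invRotate hT' x hx⟩
  have e1 : F.map w' f₁ = 0 := by
    apply h3'
    rw [θ.nat, hf₁, map_zero, ← G.map_comp, hw', G.map_zero]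
  obtain ⟨f₂, hf₂'⟩ := hex f₁ e1
  have e2 : G.map T.mor₁ (θ.app _ f₂ - g) = 0 := by
    rw [map_sub, ← θ.nat, hf₂', hf₁, sub_self]
  obtain ⟨h', hh'⟩ := G.exact T hT _ e2
  obtain ⟨h, rfl⟩ := h3 h'
  refine ⟨f₂ - F.map T.mor₂ h, ?_⟩
  rw [map_sub, θ.nat, hh', sub_sub_cancel]

variable (θ)

/-- the class of objects all of whose shifts have bijective comparison map. -/
def Bij : ObjectProperty (Dual.D A) := fun K => ∀ n : ℤ, Function.Bijective (θ.app (K⟦n⟧))

instance : (Bij θ).IsClosedUnderIsomorphisms where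
  of_iso e h := fun n => bijective_of_iso ((shiftFunctor (Dual.D A) n).mapIso e) (h n)

variable {θ}

lemma bij_of_isZero (K : Dual.D A) (hK : IsZero K) : Bij θ K := fun n =>
  bijective_of_isZero ((shiftFunctor (Dual.D A) n).map_isZero hK)

lemma bij_ext (T : Triangle (Dual.D A)) (hT : T ∈ distTriang (Dual.D A))
    (h₁ : Bij θ T.obj₁) (h₃ : Bij θ T.obj₃) : Bij θ T.obj₂ := by
  intro n
  have hTn := Triangle.shift_distinguished T hT n
  have e1 : T.obj₁⟦n + 1⟧ ≅ (T.obj₁⟦n⟧)⟦(1 : ℤ)⟧ :=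
    (shiftFunctorAdd' (Dual.D A) n 1 (n + 1) rfl).app T.obj₁
  have e3 : T.obj₃⟦n - 1⟧ ≅ (T.obj₃⟦n⟧)⟦(-1 : ℤ)⟧ :=
    (shiftFunctorAdd' (Dual.D A) n (-1) (n - 1) (by ring)).app T.obj₃
  exact ⟨inj_obj₂ _ hTn (bijective_of_iso e1 (h₁ (n + 1))).2 (h₃ n).1 (h₁ n).1,
    surj_obj₂ _ hTn (h₃ n).2 (h₁ n).2 (bijective_of_iso e3 (h₃ (n - 1))).1⟩

lemma bij_shift (K : Dual.D A) (h : Bij θ K) (m : ℤ) : Bij θ (K⟦m⟧) := by
  intro n
  have e : K⟦m + n⟧ ≅ (K⟦m⟧)⟦n⟧ := (shiftFunctorAdd' (Dual.D A) m n (m + n) rfl).app K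
  exact bijective_of_iso e (h (m + n))

end Abstract


section Modules

variable {F G : CoFun.{u, w} A} {θ : NatT F G}

/-- closure under short exact sequences of modules. -/
lemma bij_of_ses {N₁ N₂ N₃ : Type u} [AddCommGroup N₁] [Module A N₁] [AddCommGroup N₂]
    [Module A N₂] [AddCommGroup N₃] [Module A N₃] (f : N₁ →ₗ[A] N₂) (g : N₂ →ₗ[A] N₃)
    (hf : Function.Injective f) (hg : Function.Surjective g) (hfg : Function.Exact f g)
    (h₁ : Bij θ (Dual.inD A N₁)) (h₃ : Bij θ (Dual.inD A N₃)) :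
    Bij θ (Dual.inD A N₂) :=
  bij_ext _ (scOf_shortExact f g hf hg hfg).singleTriangle_distinguished h₁ h₃

lemma bij_free (hA : Bij θ (Dual.inD A A)) : ∀ n : ℕ, Bij θ (Dual.inD A (Fin n → A))
  | 0 => bij_of_isZero _ (Functor.map_isZero _
      (ModuleCat.isZero_of_subsingleton (ModuleCat.of A (Fin 0 → A))))
  | n + 1 => by
    let f : A →ₗ[A] (Fin (n + 1) → A) := LinearMap.single A (fun _ : Fin (n + 1) => A) 0
    let g : (Fin (n + 1) → A) →ₗ[A] (Fin n → A) := LinearMap.funLeft A A Fin.succ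
    have hf : Function.Injective f := by
      intro x y h
      have := congrFun h 0
      simpa [f] using this
    have hg : Function.Surjective g := by
      intro y
      refine ⟨Fin.cons 0 y, ?_⟩
      funext j
      simp [g, LinearMap.funLeft_apply]
    have hfg : Function.Exact f g := by
      intro y
      constructor
      · intro hy
        refine ⟨y 0, ?_⟩
        funext i
        refine Fin.cases ?_ (fun j => ?_) i
        · simp [f]
        · have := congrFun hy j
          simp only [g, LinearMap.funLeft_apply, Pi.zero_apply] at this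
          simp [f, this]
      · rintro ⟨x, rfl⟩
        funext j
        simp [f, g, LinearMap.funLeft_apply]
    exact bij_of_ses f g hf hg hfg hA (bij_free hA n)

variable [IsNoetherianRing A]

lemma wayout_step (hfree : ∀ n : ℕ, Bij θ (Dual.inD A (Fin n → A))) (i : ℤ)
    (hprev : ∀ (M : Type u) [AddCommGroup M] [Module A M] [Module.Finite A M],
      Function.Bijective (θ.app ((Dual.inD A M)⟦-(i - 1)⟧))) :
    ∀ (M : Type u) [AddCommGroup M] [Module A M] [Module.Finite A M],
      Function.Bijective (θ.app ((Dual.inD A M)⟦-i⟧)) := by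
  have hinj : ∀ (M : Type u) [AddCommGroup M] [Module A M] [Module.Finite A M],
      Function.Injective (θ.app ((Dual.inD A M)⟦-i⟧)) := by
    intro M _ _ _
    obtain ⟨n, p, hp⟩ := Module.Finite.exists_fin' A M
    have hι : Function.Injective (LinearMap.ker p).subtype := Subtype.val_injective
    have hex : Function.Exact (LinearMap.ker p).subtype p := LinearMap.exact_subtype_ker_map p
    have hT := (scOf_shortExact _ p hι hp hex).singleTriangle_distinguished
    have hTr := rot_of_distTriang _ (Triangle.shift_distinguished _ hT (-i))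
    have e1 : (Dual.inD A (Fin n → A))⟦-i + 1⟧ ≅ ((Dual.inD A (Fin n → A))⟦-i⟧)⟦(1 : ℤ)⟧ :=
      (shiftFunctorAdd' (Dual.D A) (-i) 1 (-i + 1) rfl).app _
    have e3 : (Dual.inD A (LinearMap.ker p))⟦-(i - 1)⟧ ≅
        ((Dual.inD A (LinearMap.ker p))⟦-i⟧)⟦(1 : ℤ)⟧ :=
      (shiftFunctorAdd' (Dual.D A) (-i) 1 (-(i - 1)) (by ring)).app _
    exact inj_obj₂ _ hTr (bijective_of_iso e1 (hfree n (-i + 1))).2
      (bijective_of_iso e3 (hprev (LinearMap.ker p))).1 (hfree n (-i)).1
  intro M _ _ _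
  refine ⟨hinj M, ?_⟩
  obtain ⟨n, p, hp⟩ := Module.Finite.exists_fin' A M
  have hι : Function.Injective (LinearMap.ker p).subtype := Subtype.val_injective
  have hex : Function.Exact (LinearMap.ker p).subtype p := LinearMap.exact_subtype_ker_map p
  have hT := (scOf_shortExact _ p hι hp hex).singleTriangle_distinguished
  have hTr := rot_of_distTriang _ (Triangle.shift_distinguished _ hT (-i))
  have e3 : (Dual.inD A (LinearMap.ker p))⟦-(i - 1)⟧ ≅
      ((Dual.inD A (LinearMap.ker p))⟦-i⟧)⟦(1 : ℤ)⟧ :=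
    (shiftFunctorAdd' (Dual.D A) (-i) 1 (-(i - 1)) (by ring)).app _
  have e4 : (Dual.inD A (LinearMap.ker p))⟦-i⟧ ≅
      (((Dual.inD A (LinearMap.ker p))⟦-i⟧)⟦(1 : ℤ)⟧)⟦(-1 : ℤ)⟧ :=
    (shiftShiftNeg ((Dual.inD A (LinearMap.ker p))⟦-i⟧) (1 : ℤ)).symm
  have hk : Function.Injective (θ.app ((((Dual.inD A (LinearMap.ker p))⟦-i⟧)⟦(1 : ℤ)⟧)⟦(-1 : ℤ)⟧)) := by
    have h1 := hinj (LinearMap.ker p)
    have h2 : ⇑(θ.app ((((Dual.inD A (LinearMap.ker p))⟦-i⟧)⟦(1 : ℤ)⟧)⟦(-1 : ℤ)⟧)) =
        ⇑(G.map e4.inv) ∘ ⇑(θ.app ((Dual.inD A (LinearMap.ker p))⟦-i⟧)) ∘ ⇑(F.map e4.hom) := by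
      funext z
      simp only [Function.comp_apply]
      rw [θ.nat, ← G.map_comp, e4.inv_hom_id, G.map_id]
    rw [h2]
    exact (G.map_bijective_of_iso e4.symm).1.comp (h1.comp (F.map_bijective_of_iso e4).1)
  exact surj_obj₂ _ hTr (bijective_of_iso e3 (hprev (LinearMap.ker p))).2 (hfree n (-i)).2 hk

variable (a : ℤ)
  (hbase : ∀ (X : Dual.D A) (i : ℤ), i < a → X.IsLE i → Function.Bijective (θ.app X))

include hbase in
theorem wayout (hA : Bij θ (Dual.inD A A)) :
    ∀ (k : ℕ) (i : ℤ), i < a + k → ∀ (M : Type u) [AddCommGroup M] [Module A M]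
      [Module.Finite A M], Function.Bijective (θ.app ((Dual.inD A M)⟦-i⟧))
  | 0 => fun i hi M _ _ _ =>
    hbase _ i (by simpa using hi) (Groth.Agent.Lib.T2H4.LocKL.isLE_inD_shift (A := A) M i)
  | k + 1 => fun i hi => by
    by_cases h : i < a + k
    · exact wayout hA k i h
    · apply wayout_step (bij_free hA) i
      intro M _ _ _
      exact wayout hA k (i - 1) (by push_cast at hi; lia) M

include hbase in
/-- finite modules are good. -/
theorem bij_inD (hA : Bij θ (Dual.inD A A))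
    (M : Type u) [AddCommGroup M] [Module A M] [Module.Finite A M] :
    Bij θ (Dual.inD A M) := by
  intro n
  have h := wayout a hbase hA (-n - a + 1).toNat (-n) (by lia) M
  rw [neg_neg] at h
  exact h

include hbase in
/-- `D^b_coh` is good. -/
theorem bij_of_dbcoh (hA : Bij θ (Dual.inD A A))
    (K : Dual.D A) (c d : ℤ)
    (hK : ∀ i : ℤ, (i < c ∨ d < i) → IsZero ((homologyFunctor (ModuleCat.{u} A) i).obj K))
    (hfin : ∀ i : ℤ, Module.Finite A (Dual.HD A K i)) : Bij θ K := by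
  apply Groth.Agent.Lib.Helper1.Devissage.induction_homology' (Bij θ) bij_of_isZero bij_ext
    K c d hK
  intro j _ _
  haveI := hfin j
  have e : (singleFunctor (ModuleCat.{u} A) j).obj ((homologyFunctor (ModuleCat.{u} A) j).obj K) ≅
      (Dual.inD A (Dual.HD A K j))⟦-j⟧ :=
    (((singleFunctors (ModuleCat.{u} A)).shiftIso (-j) j 0 (by simp)).app
      ((homologyFunctor (ModuleCat.{u} A) j).obj K)).symm
  exact (Bij θ).prop_of_iso e.symm (bij_shift _ (bij_inD a hbase hA (Dual.HD A K j)) (-j))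

end Modules

end Groth.Agent.Lib.T2H4.FlatHom
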