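import Groth.Agent.Lib.T2H4LocKL2
import Groth.Agent.Lib.T2H4RGFinite
import Groth.Agent.Lib.T2H4HDIFlat
import Groth.Agent.Lib.T2H4TorIndep

set_option autoImplicit false
set_option linter.style.haveILetI false
set_option backward.isDefEq.respectTransparency.types false
universe u
open CategoryTheory CategoryTheory.Limits
attribute [local instance] HasDerivedCategory.standard

namespace Groth.Agent.Lib.T2H4.LocKL

open DerivedCategory Pretriangulated Groth.Agent.S14388 Groth.Agent.Lib.T2H4.LocalDual
  Groth.Agent.Lib.T2H4.DComp Groth.Agent.Lib.Helper17.DBrown CochainComplex.HomComplex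
  Groth.Agent.Lib.Helper1.Extend

section Concrete

variable {A : Type u} [CommRing A] (S : Submonoid A) (B : Type u) [CommRing B] [Algebra A B]
  [IsLocalization S B]

/-- the unit `M → B ⊗_A M` is a localization map. -/
lemma isLocalizedModule_unit (M : ModuleCat.{u} A) :
    IsLocalizedModule S
      ((ModuleCat.extendRestrictScalarsAdj.{u, u, u} (algebraMap A B)).unit.app M).hom := by
  let e' : ((ModuleCat.restrictScalars.{u} (algebraMap A B)).obj
      ((ext A B).obj (ModuleCat.of A M))) ≃ₗ[A] TensorProduct A B M :=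
    { toFun := extEquiv (A := A) (B := B) M
      invFun := (extEquiv (A := A) (B := B) M).symm
      left_inv := fun x => (extEquiv (A := A) (B := B) M).symm_apply_apply x
      right_inv := fun x => (extEquiv (A := A) (B := B) M).apply_symm_apply x
      map_add' := fun x y => (extEquiv (A := A) (B := B) M).map_add x y
      map_smul' := fun a x => by
        let x' : ((ext A B).obj (ModuleCat.of A M)) := x
        show extEquiv (A := A) (B := B) M (algebraMap A B a • x') = a • extEquiv M x'
        rw [(extEquiv (A := A) (B := B) M).map_smul, algebraMap_smul] }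
  have h : ((ModuleCat.extendRestrictScalarsAdj.{u, u, u} (algebraMap A B)).unit.app M).hom =
      e'.symm.toLinearMap ∘ₗ TensorProduct.mk A B M 1 := by
    ext m
    apply e'.injective
    rw [LinearMap.comp_apply, LinearEquiv.coe_coe, e'.apply_symm_apply]
    rfl
  rw [h]
  exact IsLocalizedModule.of_linearEquiv S (TensorProduct.mk A B M 1) e'.symm

lemma isIso_smul_id_of_isUnit {b : B} (hb : IsUnit b) (Y : Dual.D B) : IsIso (b • 𝟙 Y) := by
  obtain ⟨v, rfl⟩ := hb
  refine ⟨⟨((v⁻¹ : Bˣ) : B) • 𝟙 Y, ?_, ?_⟩⟩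
  · rw [Linear.smul_comp, Linear.comp_smul, Category.id_comp, smul_smul, Units.mul_inv, one_smul]
  · rw [Linear.smul_comp, Linear.comp_smul, Category.id_comp, smul_smul, Units.inv_mul, one_smul]

open Groth.Agent.Lib.T2H4.TorIndep Groth.Agent.Lib.Helper1.DT DTen Groth.Agent.Lib.Helper1
  Groth.Agent.Lib.Helper1.LDer

variable [DRing.HasLBaseChange (algebraMap A B)]

lemma isIso_lbcCounit_of_flat [Module.Flat A B] (C : DRing.Cx A) :
    IsIso ((lbcCounit (algebraMap A B)).app C) := by
  obtain ⟨P, π, hP, -, hπ, -⟩ := Groth.Agent.Lib.Helper1.KF.exists_kprojective_resolution C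
  haveI := hP
  haveI := hπ
  exact isIso_lbcCounit_of_quasiIso_ext (algebraMap A B) C P π inferInstance

omit [DRing.HasLBaseChange (algebraMap A B)] in
include S in
lemma isIso_smul_id_restrict (Y : Dual.D B) (s : A) (hs : s ∈ S) :
    IsIso (s • 𝟙 ((DRing.restrictD (algebraMap A B)).obj Y)) := by
  rw [← restrictD_map_smul_id (algebraMap A B) s Y]
  haveI := isIso_smul_id_of_isUnit B (IsLocalization.map_units B ⟨s, hs⟩) Y
  infer_instance

/-- the unit `N ⟶ N ⊗ B` (restricted to `A`), with its type pinned down. -/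
noncomputable abbrev ηB (N : Dual.D A) :
    N ⟶ (DRing.restrictD (algebraMap A B)).obj ((DRing.LBaseChange (algebraMap A B)).obj N) :=
  (lbcAdj (algebraMap A B)).unit.app N

/-- **Key lemma**: for `K ∈ D^b_coh(A)` and `N` bounded below, `Hom(K[n], N) ⟶ Hom(K[n], N ⊗ B)` is a
localization at `S` (in elementary form). -/
theorem good_unit [IsNoetherianRing A] (K N : Dual.D A) (a : ℤ) [N.IsGE a] (c d : ℤ)
    (hK : ∀ i : ℤ, (i < c ∨ d < i) → IsZero ((homologyFunctor (ModuleCat.{u} A) i).obj K))
    (hfin : ∀ i : ℤ, Module.Finite A (Dual.HD A K i)) :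
    Good S (ηB B N) K := by
  haveI : Module.Flat A B := IsLocalization.flat B S
  obtain ⟨C, ⟨e⟩⟩ : ∃ C : DRing.Cx A, Nonempty (Q.obj C ≅ N) := ⟨_, ⟨Q.objObjPreimageIso N⟩⟩
  let u : C ⟶ (resCx (algebraMap A B)).obj ((extCx (algebraMap A B)).obj C) :=
    (extResAdj (algebraMap A B)).unit.app C
  have hu : ∀ m : ℤ, IsLocalizedModule S (u.f m).hom := fun m =>
    isLocalizedModule_unit S B (C.X m)
  have hA₀ := good_inD_self S u hu
  haveI := isIso_lbcCounit_of_flat B C
  let θ : Q.obj ((resCx (algebraMap A B)).obj ((extCx (algebraMap A B)).obj C)) ≅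
      (DRing.restrictD (algebraMap A B)).obj ((DRing.LBaseChange (algebraMap A B)).obj (Q.obj C)) :=
    (resFactors (algebraMap A B)).symm.app ((extCx (algebraMap A B)).obj C) ≪≫
      ((DRing.restrictD (algebraMap A B)).mapIso
        (asIso ((lbcCounit (algebraMap A B)).app C))).symm
  have hθ : Q.map u ≫ θ.hom = ηB B (Q.obj C) := by
    have h1 := lbcAdj_unit_fac (algebraMap A B) C
    show Q.map u ≫ (resFactors (algebraMap A B)).inv.app _ ≫
      (DRing.restrictD (algebraMap A B)).map (inv ((lbcCounit (algebraMap A B)).app C)) = _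
    rw [← Category.assoc, ← h1, Category.assoc, ← Functor.map_comp, IsIso.hom_inv_id,
      CategoryTheory.Functor.map_id]
    exact Category.comp_id _
  let e' := (DRing.LBaseChange (algebraMap A B) ⋙ DRing.restrictD (algebraMap A B)).mapIso e
  have comm : Q.map u ≫ (θ ≪≫ e').hom = e.hom ≫ ηB B N := by
    rw [Iso.trans_hom, ← Category.assoc, hθ]
    exact ((lbcAdj (algebraMap A B)).unit.naturality e.hom).symm
  have hA : Good S (ηB B N) (Dual.inD A A) := hA₀.of_sq e (θ ≪≫ e') _ comm
  have hunit : ∀ s ∈ S, IsIso (s • 𝟙 ((DRing.restrictD (algebraMap A B)).obj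
      ((DRing.LBaseChange (algebraMap A B)).obj N))) := fun s hs =>
    isIso_smul_id_restrict S B _ s hs
  haveI := isGE_of_good hunit hA a
  exact good_of_dbcoh hA a K c d hK hfin

end Concrete

end Groth.Agent.Lib.T2H4.LocKL
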