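import Groth.Agent.Lib.T2H4FlatHom1
import Groth.Agent.Lib.T2H4LocKL3

/-!
# Flat base change for `Hom` in the derived category: the base case (helper4)
-/

set_option autoImplicit false
set_option linter.style.haveILetI false
set_option backward.isDefEq.respectTransparency.types false
universe u
open CategoryTheory CategoryTheory.Limits TensorProduct
attribute [local instance] HasDerivedCategory.standard

namespace Groth.Agent.Lib.T2H4.FlatHom

section LA

variable {A : Type u} [CommRing A] (B : Type u) [CommRing B] [Algebra A B] [Module.Flat A B]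
  {X₁ X₂ : Type u} [AddCommGroup X₁] [Module A X₁] [AddCommGroup X₂] [Module A X₂]
  {X'₁ X'₂ : Type u} [AddCommGroup X'₁] [Module A X'₁] [Module B X'₁] [IsScalarTower A B X'₁]
  [AddCommGroup X'₂] [Module A X'₂] [Module B X'₂] [IsScalarTower A B X'₂]
  (d : X₁ →ₗ[A] X₂) (d' : X'₁ →ₗ[B] X'₂) {u₁ : X₁ →ₗ[A] X'₁} {u₂ : X₂ →ₗ[A] X'₂}
  (h₁ : IsBaseChange B u₁) (h₂ : IsBaseChange B u₂) (comm : ∀ x, d' (u₁ x) = u₂ (d x))

/-- `B ⊗ ker d → X'₁`. -/
noncomputable def kerMap : B ⊗[A] (LinearMap.ker d) →ₗ[A] X'₁ :=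
  (h₁.equiv.toLinearMap.restrictScalars A) ∘ₗ (LinearMap.lTensor B (LinearMap.ker d).subtype)

omit [Module.Flat A B] in
lemma kerMap_tmul (b : B) (z : LinearMap.ker d) : kerMap B d h₁ (b ⊗ₜ z) = b • u₁ z.1 := by
  simp [kerMap, IsBaseChange.equiv_tmul]

include h₁ in
lemma kerMap_injective : Function.Injective (kerMap B d h₁) := by
  unfold kerMap
  rw [LinearMap.coe_comp]
  exact (h₁.equiv.injective).comp
    (Module.Flat.lTensor_preserves_injective_linearMap _ (LinearMap.ker d).injective_subtype)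

omit [Module.Flat A B] in
include h₂ comm in
lemma equiv_comm (x : B ⊗[A] X₁) : d' (h₁.equiv x) = h₂.equiv (LinearMap.lTensor B d x) := by
  induction x using TensorProduct.induction_on with
  | zero => simp
  | tmul b x => simp [IsBaseChange.equiv_tmul, comm]
  | add x y hx hy => simp only [map_add, hx, hy]

omit [Module.Flat A B] [IsScalarTower A B X'₂] in
include comm in
lemma d'_kerMap (y : B ⊗[A] (LinearMap.ker d)) : d' (kerMap B d h₁ y) = 0 := by
  induction y using TensorProduct.induction_on with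
  | zero => simp
  | tmul b z =>
    rw [kerMap_tmul, map_smul, comm, LinearMap.mem_ker.1 z.2, map_zero, smul_zero]
  | add x y hx hy => rw [map_add, map_add, hx, hy, add_zero]

include h₂ comm in
lemma exists_kerMap_eq (z' : X'₁) (hz' : d' z' = 0) : ∃ y, kerMap B d h₁ y = z' := by
  set x := h₁.equiv.symm z' with hx
  have h0 : LinearMap.lTensor B d x = 0 := by
    apply h₂.equiv.injective
    rw [← equiv_comm B d d' h₁ h₂ comm, hx, LinearEquiv.apply_symm_apply, hz', map_zero]
  have hex := Module.Flat.lTensor_exact B (LinearMap.exact_subtype_ker_map d)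
  obtain ⟨y, hy⟩ := (hex x).1 h0
  refine ⟨y, ?_⟩
  show h₁.equiv (LinearMap.lTensor B (LinearMap.ker d).subtype y) = z'
  rw [hy, hx, LinearEquiv.apply_symm_apply]

end LA


section Cycles

open DerivedCategory Groth.Agent.Lib.T2H4.DComp Groth.Agent.Lib.T2H4.LocKL
  Groth.Agent.Lib.Helper17.DBrown

variable {A : Type u} [CommRing A]

/-- cycles of a complex. -/
noncomputable abbrev Zc (K : DRing.Cx A) (m : ℤ) : Submodule A (K.X m) :=
  LinearMap.ker (K.d m (m + 1)).hom

lemma ofCycle_add (K : DRing.Cx A) (m : ℤ) (z z' : K.X m) (hz : (K.d m (m + 1)).hom z = 0)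
    (hz' : (K.d m (m + 1)).hom z' = 0) (hzz : (K.d m (m + 1)).hom (z + z') = 0) :
    ofCycle K m (z + z') hzz = ofCycle K m z hz + ofCycle K m z' hz' := by
  apply ev_injective
  rw [ev_ofCycle]
  show _ = ev (ofCycle K m z hz) + ev (ofCycle K m z' hz')
  rw [ev_ofCycle, ev_ofCycle]

lemma ofCycle_smul (K : DRing.Cx A) (m : ℤ) (a : A) (z : K.X m) (hz : (K.d m (m + 1)).hom z = 0)
    (haz : (K.d m (m + 1)).hom (a • z) = 0) :
    ofCycle K m (a • z) haz = a • ofCycle K m z hz := by
  apply ev_injective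
  rw [ev_ofCycle, ev_smul, ev_ofCycle]

/-- cycles to morphisms in `D(A)`. -/
noncomputable def ζc (K : DRing.Cx A) (m : ℤ) :
    Zc K m →ₗ[A] ((Q : _ ⥤ Dual.D A).obj (SB A m) ⟶ Q.obj K) where
  toFun z := Q.map (ofCycle K m z.1 (LinearMap.mem_ker.1 z.2))
  map_add' z z' := by
    rw [← Functor.map_add]
    congr 1
    exact ofCycle_add K m z.1 z'.1 _ _ _
  map_smul' a z := by
    rw [RingHom.id_apply, ← Functor.map_smul]
    congr 1
    exact ofCycle_smul K m a z.1 _ _

lemma ζc_surjective (K : DRing.Cx A) (m : ℤ) : Function.Surjective (ζc K m) := by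
  intro f
  obtain ⟨γ, rfl⟩ := exists_Q_map_eq_of_isKProjective f
  refine ⟨⟨ev γ, LinearMap.mem_ker.2 (d_ev γ)⟩, ?_⟩
  show Q.map (ofCycle K m (ev γ) _) = Q.map γ
  congr 1
  apply ev_injective
  rw [ev_ofCycle]

lemma ζc_eq_zero_iff (K : DRing.Cx A) (m : ℤ) (z : Zc K m) :
    ζc K m z = 0 ↔ ∃ w : K.X (m - 1), (K.d (m - 1) m).hom w = z.1 := by
  constructor
  · intro h
    obtain ⟨w, hw⟩ := ev_boundary_of_Q_map_eq_zero _ h
    rw [ev_ofCycle] at hw
    exact ⟨w, hw⟩
  · rintro ⟨w, hw⟩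
    apply Q_map_eq_zero_of_ev_boundary _ w
    rw [ev_ofCycle]
    exact hw

end Cycles


section Chain

open DerivedCategory Groth.Agent.Lib.T2H4.DComp Groth.Agent.Lib.T2H4.LocKL DTen

variable {A : Type u} [CommRing A] (B : Type u) [CommRing B] [Algebra A B]

instance isScalarTower_restrict (M : ModuleCat.{u} B) :
    IsScalarTower A B ((ModuleCat.restrictScalars (algebraMap A B)).obj M) :=
  ⟨fun a b m => by
    show (a • b) • (show M from m) = algebraMap A B a • (b • (show M from m))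
    rw [Algebra.smul_def, mul_smul]⟩

/-- the terms of the restricted complex, with their `B`-module structure visible. -/
noncomputable abbrev RX (E : DRing.Cx B) (k : ℤ) : ModuleCat.{u} A :=
  (ModuleCat.restrictScalars (algebraMap A B)).obj (E.X k)

/-- multiplication by `b` on the restricted complex. -/
noncomputable def μ (E : DRing.Cx B) (b : B) :
    (resCx (algebraMap A B)).obj E ⟶ (resCx (algebraMap A B)).obj E :=
  (resCx (algebraMap A B)).map (b • 𝟙 E)

lemma μ_f_apply (E : DRing.Cx B) (b : B) (k : ℤ) (x : RX (A := A) B E k) :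
    ((μ (A := A) B E b).f k).hom x = b • x := rfl

lemma μ_add (E : DRing.Cx B) (b b' : B) : μ (A := A) B E (b + b') = μ B E b + μ B E b' := by
  unfold μ
  rw [add_smul, Functor.map_add]

lemma μ_smul (E : DRing.Cx B) (a : A) (b : B) : μ (A := A) B E (a • b) = a • μ B E b := by
  refine HomologicalComplex.hom_ext _ _ fun k => ModuleCat.hom_ext (LinearMap.ext fun x => ?_)
  show ((μ (A := A) B E (a • b)).f k).hom (show RX (A := A) B E k from x) =
    a • ((μ (A := A) B E b).f k).hom (show RX (A := A) B E k from x)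
  rw [μ_f_apply, μ_f_apply]
  exact smul_assoc a b (show RX (A := A) B E k from x)

variable {C : DRing.Cx A} {E : DRing.Cx B} (u : C ⟶ (resCx (algebraMap A B)).obj E)

/-- the comparison map at the chain level. -/
noncomputable def Θc (m : ℤ) :
    B ⊗[A] ((Q : _ ⥤ Dual.D A).obj (SB A m) ⟶ Q.obj C) →ₗ[A]
      ((Q : _ ⥤ Dual.D A).obj (SB A m) ⟶ Q.obj ((resCx (algebraMap A B)).obj E)) :=
  TensorProduct.lift (LinearMap.mk₂ A (fun b f => f ≫ Q.map u ≫ Q.map (μ B E b))
    (fun b b' f => by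
      rw [μ_add, Functor.map_add, Preadditive.comp_add, Preadditive.comp_add])
    (fun a b f => by
      rw [μ_smul, Functor.map_smul, Linear.comp_smul, Linear.comp_smul])
    (fun b f f' => by rw [Preadditive.add_comp])
    (fun a b f => by rw [Linear.smul_comp]))

lemma Θc_tmul (m : ℤ) (b : B) (f : (Q : _ ⥤ Dual.D A).obj (SB A m) ⟶ Q.obj C) :
    Θc B u m (b ⊗ₜ f) = f ≫ Q.map u ≫ Q.map (μ B E b) := rfl

/-- components of `u`. -/
noncomputable def uf (k : ℤ) : C.X k →ₗ[A] RX (A := A) B E k := (u.f k).hom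

/-- the differentials of `E`, as `B`-linear maps on the restricted terms. -/
noncomputable def dE (E : DRing.Cx B) (i j : ℤ) : RX (A := A) B E i →ₗ[B] RX (A := A) B E j :=
  (E.d i j).hom

lemma dE_uf (i j : ℤ) (x : C.X i) :
    dE (A := A) B E i j (uf B u i x) = uf B u j ((C.d i j).hom x) :=
  congrArg (fun g => g.hom x) (u.comm i j)

lemma dE_eq (i j : ℤ) (x : RX (A := A) B E i) :
    dE (A := A) B E i j x = (((resCx (algebraMap A B)).obj E).d i j).hom x := rfl

variable (hu : ∀ k, IsBaseChange B (uf B u k))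

/-- `B ⊗ Z^m(C) → Z^m(E)`. -/
noncomputable def kM (m : ℤ) :
    B ⊗[A] (Zc C m) →ₗ[A] ((resCx (algebraMap A B)).obj E).X m :=
  (kerMap B (C.d m (m + 1)).hom (hu m) : B ⊗[A] (Zc C m) →ₗ[A] RX (A := A) B E m)

/-- `B ⊗ Z^m(C) → Z^m(E)`. -/
noncomputable def κ (m : ℤ) :
    B ⊗[A] (Zc C m) →ₗ[A] Zc ((resCx (algebraMap A B)).obj E) m :=
  LinearMap.codRestrict _ (kM B u hu m) (fun y =>
    LinearMap.mem_ker.2 (d'_kerMap B (C.d m (m + 1)).hom (dE (A := A) B E m (m + 1)) (hu m)
      (dE_uf B u m (m + 1)) y))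

lemma κ_coe (m : ℤ) (y : B ⊗[A] (Zc C m)) :
    ((κ B u hu m y : Zc ((resCx (algebraMap A B)).obj E) m) : ((resCx (algebraMap A B)).obj E).X m) =
      kerMap B (C.d m (m + 1)).hom (hu m) y := rfl

lemma κ_injective [Module.Flat A B] (m : ℤ) : Function.Injective (κ B u hu m) := by
  intro y y' h
  have h' := congrArg (fun z : Zc ((resCx (algebraMap A B)).obj E) m => z.1) h
  simp only [κ_coe] at h'
  exact kerMap_injective B (C.d m (m + 1)).hom (hu m) h'

lemma κ_surjective [Module.Flat A B] (m : ℤ) : Function.Surjective (κ B u hu m) := by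
  intro z'
  obtain ⟨y, hy⟩ := exists_kerMap_eq B (C.d m (m + 1)).hom (dE (A := A) B E m (m + 1)) (hu m)
    (hu (m + 1)) (dE_uf B u m (m + 1)) z'.1 (LinearMap.mem_ker.1 z'.2)
  exact ⟨y, Subtype.ext hy⟩

lemma Θc_ζc (m : ℤ) (y : B ⊗[A] (Zc C m)) :
    Θc B u m (LinearMap.lTensor B (ζc C m) y) = ζc ((resCx (algebraMap A B)).obj E) m (κ B u hu m y) := by
  induction y using TensorProduct.induction_on with
  | zero => rw [map_zero, map_zero, map_zero, map_zero]
  | tmul b z =>
    rw [LinearMap.lTensor_tmul, Θc_tmul]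
    show Q.map _ ≫ Q.map u ≫ Q.map (μ B E b) = Q.map _
    rw [← Functor.map_comp, ← Functor.map_comp]
    congr 1
    apply ev_injective
    rw [ev_ofCycle, ev_comp, ev_ofCycle]
    show ((μ (A := A) B E b).f m).hom (uf B u m z.1) =
      kerMap B (C.d m (m + 1)).hom (hu m) (b ⊗ₜ z)
    rw [kerMap_tmul, μ_f_apply]
  | add x y hx hy => simp only [map_add, hx, hy]

include hu in
theorem Θc_surjective [Module.Flat A B] (m : ℤ) : Function.Surjective (Θc B u m) := by
  intro g
  obtain ⟨z', rfl⟩ := ζc_surjective _ m g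
  obtain ⟨y, rfl⟩ := κ_surjective B u hu m z'
  exact ⟨_, Θc_ζc B u hu m y⟩

/-- the differential into the cycles. -/
noncomputable def dZ (C : DRing.Cx A) (m : ℤ) : C.X (m - 1) →ₗ[A] Zc C m :=
  LinearMap.codRestrict _ (C.d (m - 1) m).hom (fun x => LinearMap.mem_ker.2 (by
    have h : C.d (m - 1) m ≫ C.d m (m + 1) = 0 := C.d_comp_d _ _ _
    exact congrArg (fun g => g.hom x) h))

lemma ζc_dZ (C : DRing.Cx A) (m : ℤ) : (ζc C m) ∘ₗ (dZ C m) = 0 := by
  ext x
  exact (ζc_eq_zero_iff C m _).2 ⟨x, rfl⟩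

lemma kerMap_dZ (m : ℤ) (x : B ⊗[A] C.X (m - 1)) :
    kerMap B (C.d m (m + 1)).hom (hu m) (LinearMap.lTensor B (dZ C m) x) =
      dE (A := A) B E (m - 1) m ((hu (m - 1)).equiv x) := by
  induction x using TensorProduct.induction_on with
  | zero => simp
  | tmul b c =>
    rw [LinearMap.lTensor_tmul, kerMap_tmul, IsBaseChange.equiv_tmul, map_smul, dE_uf]
    rfl
  | add x y hx hy => simp only [map_add, hx, hy]

include hu in
theorem Θc_injective [Module.Flat A B] (m : ℤ) : Function.Injective (Θc B u m) := by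
  rw [injective_iff_map_eq_zero]
  intro t ht
  obtain ⟨y, rfl⟩ := LinearMap.lTensor_surjective B (ζc_surjective C m) t
  rw [Θc_ζc B u hu m y] at ht
  obtain ⟨w', hw'⟩ := (ζc_eq_zero_iff _ m _).1 ht
  obtain ⟨x, rfl⟩ := (hu (m - 1)).equiv.surjective (show RX (A := A) B E (m - 1) from w')
  have h1 : y = LinearMap.lTensor B (dZ C m) x := by
    apply kerMap_injective B (C.d m (m + 1)).hom (hu m)
    rw [kerMap_dZ B u hu m x, dE_eq]
    exact hw'.symm
  rw [h1, ← LinearMap.comp_apply, ← LinearMap.lTensor_comp, ζc_dZ, LinearMap.lTensor_zero,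
    LinearMap.zero_apply]

include hu in
theorem Θc_bijective [Module.Flat A B] (m : ℤ) : Function.Bijective (Θc B u m) :=
  ⟨Θc_injective B u hu m, Θc_surjective B u hu m⟩

end Chain

end Groth.Agent.Lib.T2H4.FlatHom
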