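import Groth.Agent.Lib.T2H4FlatHom2
import Groth.Agent.Lib.T2H4LocKL4

/-!
# Flat base change for `Hom` in the derived category: concrete functors (helper4)
-/

set_option autoImplicit false
set_option linter.style.haveILetI false
set_option backward.isDefEq.respectTransparency.types false
universe u
open CategoryTheory CategoryTheory.Limits TensorProduct
attribute [local instance] HasDerivedCategory.standard

namespace Groth.Agent.Lib.T2H4.FlatHom

open DerivedCategory Pretriangulated Groth.Agent.Lib.T2H4.DComp Groth.Agent.Lib.T2H4.LocKL DTen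

section Concrete

variable {A : Type u} [CommRing A] (B : Type u) [CommRing B] [Algebra A B]

/-- `X ↦ B ⊗ Hom(X, N)`. -/
noncomputable def FB [Module.Flat A B] (N : Dual.D A) : CoFun.{u, u + 1} A where
  obj X := B ⊗[A] (X ⟶ N)
  grp X := inferInstance
  map f := (LinearMap.lTensor B (Linear.leftComp A N f)).toAddMonoidHom
  map_id X z := by
    have h : Linear.leftComp A N (𝟙 X) = LinearMap.id := by
      ext g
      exact Category.id_comp g
    show LinearMap.lTensor B (Linear.leftComp A N (𝟙 X)) z = z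
    rw [h, LinearMap.lTensor_id, LinearMap.id_apply]
  map_comp f g z := by
    have h : Linear.leftComp A N (f ≫ g) = Linear.leftComp A N f ∘ₗ Linear.leftComp A N g := by
      ext k
      exact Category.assoc f g k
    show LinearMap.lTensor B (Linear.leftComp A N (f ≫ g)) z = _
    rw [h, LinearMap.lTensor_comp]
    rfl
  map_zero X Y z := by
    have h : Linear.leftComp A N (0 : X ⟶ Y) = 0 := by
      ext g
      show (0 : X ⟶ Y) ≫ g = 0
      exact zero_comp
    show LinearMap.lTensor B (Linear.leftComp A N (0 : X ⟶ Y)) z = 0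
    rw [h, LinearMap.lTensor_zero, LinearMap.zero_apply]
  exact T hT x hx := by
    have hex : Function.Exact (Linear.leftComp A N T.mor₂) (Linear.leftComp A N T.mor₁) := by
      intro f
      constructor
      · intro hf
        obtain ⟨g, hg⟩ := Triangle.yoneda_exact₂ T hT f hf
        exact ⟨g, hg.symm⟩
      · rintro ⟨g, rfl⟩
        show T.mor₁ ≫ T.mor₂ ≫ g = 0
        rw [← Category.assoc, comp_distTriang_mor_zero₁₂ T hT, zero_comp]
    exact (Module.Flat.lTensor_exact B hex x).1 hx

/-- `X ↦ Hom(X, N')`. -/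
noncomputable def GB (N' : Dual.D A) : CoFun.{u, u + 1} A where
  obj X := X ⟶ N'
  grp X := inferInstance
  map f := (Linear.leftComp A N' f).toAddMonoidHom
  map_id X z := Category.id_comp z
  map_comp f g z := Category.assoc f g z
  map_zero X Y z := by
    show (0 : X ⟶ Y) ≫ z = 0
    exact zero_comp
  exact T hT x hx := by
    obtain ⟨g, hg⟩ := Triangle.yoneda_exact₂ T hT x hx
    exact ⟨g, hg.symm⟩

variable {N : Dual.D A} {Y : Dual.D B} (η : N ⟶ (DRing.restrictD (algebraMap A B)).obj Y)

/-- the comparison map `B ⊗ Hom(X, N) → Hom(X, Y|_A)`. -/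
noncomputable def ΘN (X : Dual.D A) :
    B ⊗[A] (X ⟶ N) →ₗ[A] (X ⟶ (DRing.restrictD (algebraMap A B)).obj Y) :=
  TensorProduct.lift (LinearMap.mk₂ A
    (fun b f => f ≫ η ≫ (DRing.restrictD (algebraMap A B)).map (b • 𝟙 Y))
    (fun b b' f => by
      rw [add_smul, Functor.map_add, Preadditive.comp_add, Preadditive.comp_add])
    (fun a b f => by
      have h : (a • b) • 𝟙 Y = algebraMap A B a • (b • 𝟙 Y) := by
        rw [Algebra.smul_def, mul_smul]
      rw [h, restrictD_map_smul B, Linear.comp_smul, Linear.comp_smul])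
    (fun b f f' => by rw [Preadditive.add_comp])
    (fun a b f => by rw [Linear.smul_comp]))

lemma ΘN_tmul (X : Dual.D A) (b : B) (f : X ⟶ N) :
    ΘN B η X (b ⊗ₜ f) = f ≫ η ≫ (DRing.restrictD (algebraMap A B)).map (b • 𝟙 Y) := rfl

lemma ΘN_nat {X X' : Dual.D A} (f : X ⟶ X') (z : B ⊗[A] (X' ⟶ N)) :
    ΘN B η X (LinearMap.lTensor B (Linear.leftComp A N f) z) = f ≫ ΘN B η X' z := by
  induction z using TensorProduct.induction_on with
  | zero => rw [map_zero, map_zero, map_zero, comp_zero]
  | tmul b g =>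
    rw [LinearMap.lTensor_tmul, ΘN_tmul, ΘN_tmul]
    exact Category.assoc f g _
  | add x y hx hy => rw [map_add, map_add, map_add, hx, hy, Preadditive.comp_add]

/-- the natural transformation. -/
noncomputable def θB [Module.Flat A B] :
    NatT (FB B N) (GB ((DRing.restrictD (algebraMap A B)).obj Y)) where
  app X := by
    dsimp only [FB, GB]
    exact (ΘN B η X).toAddMonoidHom
  nat f z := ΘN_nat B η f z

variable {η}

lemma ΘN_of_iso [Module.Flat A B] {X X' : Dual.D A} (e : X ≅ X')
    (h : Function.Bijective (ΘN B η X)) : Function.Bijective (ΘN B η X') :=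
  bijective_of_iso (θ := θB B η) e h

lemma smul_id_comp_iso {Y₂ : Dual.D B} (b : B) (g : Y ⟶ Y₂) :
    (b • 𝟙 Y) ≫ g = g ≫ (b • 𝟙 Y₂) := by
  rw [Linear.smul_comp, Linear.comp_smul, Category.id_comp, Category.comp_id]

lemma ΘN_of_sq {N₂ : Dual.D A} {Y₂ : Dual.D B}
    (η₂ : N₂ ⟶ (DRing.restrictD (algebraMap A B)).obj Y₂) (e : N ≅ N₂) (eY : Y ≅ Y₂)
    (comm : η ≫ (DRing.restrictD (algebraMap A B)).map eY.hom = e.hom ≫ η₂) (X : Dual.D A)
    (h : Function.Bijective (ΘN B η X)) : Function.Bijective (ΘN B η₂ X) := by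
  have key : ∀ z, ΘN B η₂ X z = ΘN B η X (LinearMap.lTensor B (Linear.rightComp A X e.inv) z) ≫
      (DRing.restrictD (algebraMap A B)).map eY.hom := by
    intro z
    induction z using TensorProduct.induction_on with
    | zero => rw [map_zero, map_zero, map_zero, zero_comp]
    | tmul b f =>
      rw [LinearMap.lTensor_tmul, ΘN_tmul, ΘN_tmul]
      show f ≫ η₂ ≫ _ = ((f ≫ e.inv) ≫ η ≫ _) ≫ _
      simp only [Category.assoc]
      rw [← Functor.map_comp, smul_id_comp_iso, Functor.map_comp, reassoc_of% comm,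
        e.inv_hom_id_assoc]
    | add x y hx hy => rw [map_add, map_add, map_add, hx, hy, Preadditive.add_comp]
  have h1 : Function.Bijective (LinearMap.lTensor B (Linear.rightComp A X e.inv)) := by
    refine Function.bijective_iff_has_inverse.2
      ⟨LinearMap.lTensor B (Linear.rightComp A X e.hom), fun z => ?_, fun z => ?_⟩
    · rw [← LinearMap.comp_apply, ← LinearMap.lTensor_comp]
      have h0 : Linear.rightComp A X e.hom ∘ₗ Linear.rightComp A X e.inv = LinearMap.id := by
        ext f
        show (f ≫ e.inv) ≫ e.hom = f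
        rw [Category.assoc, e.inv_hom_id, Category.comp_id]
      rw [h0, LinearMap.lTensor_id, LinearMap.id_apply]
    · rw [← LinearMap.comp_apply, ← LinearMap.lTensor_comp]
      have h0 : Linear.rightComp A X e.inv ∘ₗ Linear.rightComp A X e.hom = LinearMap.id := by
        ext f
        show (f ≫ e.hom) ≫ e.inv = f
        rw [Category.assoc, e.hom_inv_id, Category.comp_id]
      rw [h0, LinearMap.lTensor_id, LinearMap.id_apply]
  have h2 : Function.Bijective
      (fun g : X ⟶ (DRing.restrictD (algebraMap A B)).obj Y =>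
        g ≫ (DRing.restrictD (algebraMap A B)).map eY.hom) := by
    refine Function.bijective_iff_has_inverse.2
      ⟨fun g => g ≫ (DRing.restrictD (algebraMap A B)).map eY.inv, fun g => ?_, fun g => ?_⟩
    · show (g ≫ _) ≫ _ = g
      rw [Category.assoc, ← Functor.map_comp, eY.hom_inv_id, CategoryTheory.Functor.map_id, Category.comp_id]
    · show (g ≫ _) ≫ _ = g
      rw [Category.assoc, ← Functor.map_comp, eY.inv_hom_id, CategoryTheory.Functor.map_id, Category.comp_id]
  have h3 : ⇑(ΘN B η₂ X) = (fun g : X ⟶ (DRing.restrictD (algebraMap A B)).obj Y =>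
      g ≫ (DRing.restrictD (algebraMap A B)).map eY.hom) ∘ ⇑(ΘN B η X) ∘
        ⇑(LinearMap.lTensor B (Linear.rightComp A X e.inv)) := funext key
  rw [h3]
  exact h2.comp (h.comp h1)

end Concrete

section ChainToD

variable {A : Type u} [CommRing A] (B : Type u) [CommRing B] [Algebra A B]
  {C : DRing.Cx A} {E : DRing.Cx B} (u : C ⟶ (resCx (algebraMap A B)).obj E)

/-- the map `Q C ⟶ (Q E)|_A` induced by a chain map `C ⟶ E|_A`. -/
noncomputable def ηc : (Q : _ ⥤ Dual.D A).obj C ⟶
    (DRing.restrictD (algebraMap A B)).obj ((Q : _ ⥤ Dual.D B).obj E) :=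
  Q.map u ≫ (resFactors (algebraMap A B)).inv.app E

lemma ΘN_ηc (m : ℤ) (z : B ⊗[A] ((Q : _ ⥤ Dual.D A).obj (SB A m) ⟶ Q.obj C)) :
    ΘN B (ηc B u) (Q.obj (SB A m)) z = Θc B u m z ≫ (resFactors (algebraMap A B)).inv.app E := by
  induction z using TensorProduct.induction_on with
  | zero => rw [map_zero, map_zero, zero_comp]
  | tmul b f =>
    rw [ΘN_tmul, Θc_tmul]
    unfold ηc
    have h1 : b • 𝟙 ((Q : _ ⥤ Dual.D B).obj E) = Q.map (b • 𝟙 E) := by
      rw [Functor.map_smul, CategoryTheory.Functor.map_id]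
    have h2 := (resFactors (algebraMap A B)).inv.naturality (b • 𝟙 E)
    simp only [Category.assoc]
    rw [h1]
    congr 2
    exact h2.symm
  | add x y hx hy => rw [map_add, map_add, hx, hy, Preadditive.add_comp]

lemma bijective_ΘN_ηc [Module.Flat A B] (hu : ∀ k, IsBaseChange B (uf B u k)) (m : ℤ) :
    Function.Bijective (ΘN B (ηc B u) ((Q : _ ⥤ Dual.D A).obj (SB A m))) := by
  have h3 : ⇑(ΘN B (ηc B u) ((Q : _ ⥤ Dual.D A).obj (SB A m))) =
      (fun g => g ≫ (resFactors (algebraMap A B)).inv.app E) ∘ ⇑(Θc B u m) :=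
    funext (ΘN_ηc B u m)
  rw [h3]
  refine Function.Bijective.comp ?_ (Θc_bijective B u hu m)
  refine Function.bijective_iff_has_inverse.2
    ⟨fun g => g ≫ (resFactors (algebraMap A B)).hom.app E, fun g => ?_, fun g => ?_⟩
  · show (g ≫ _) ≫ _ = g
    rw [Category.assoc, Iso.inv_hom_id_app]
    exact Category.comp_id g
  · show (g ≫ _) ≫ _ = g
    rw [Category.assoc, Iso.hom_inv_id_app]
    exact Category.comp_id g

end ChainToD

section Main

open Groth.Agent.Lib.T2H4.TorIndep Groth.Agent.Lib.Helper1.DT Groth.Agent.Lib.Helper1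
  Groth.Agent.Lib.Helper1.LDer Groth.Agent.Lib.Helper1.Extend Groth.Agent.S14388
  Groth.Agent.Lib.T2H4.LocalDual Groth.Agent.Lib.Helper17.DBrown

variable {A : Type u} [CommRing A] (B : Type u) [CommRing B] [Algebra A B]

lemma isBaseChange_unit (M : ModuleCat.{u} A) :
    IsBaseChange B (show M →ₗ[A] (ModuleCat.restrictScalars (algebraMap A B)).obj
        ((ext A B).obj M) from
      ((ModuleCat.extendRestrictScalarsAdj.{u, u, u} (algebraMap A B)).unit.app M).hom) := by
  refine IsBaseChange.of_equiv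
    (show B ⊗[A] M ≃ₗ[B] (ModuleCat.restrictScalars (algebraMap A B)).obj ((ext A B).obj M) from
      (extEquiv (A := A) (B := B) M).symm) (fun x => ?_)
  apply (extEquiv (A := A) (B := B) M).injective
  exact ((extEquiv (A := A) (B := B) M).apply_symm_apply _).trans rfl

variable {N : Dual.D A} {Y : Dual.D B} (η : N ⟶ (DRing.restrictD (algebraMap A B)).obj Y)

/-- `Y|_A` is bounded below if `N` is and the comparison maps at `A[n]` are bijective. -/
lemma isGE_of_bij [Module.Flat A B]
    (hA : ∀ n : ℤ, Function.Bijective (ΘN B η ((Dual.inD A A)⟦n⟧))) (a : ℤ) [N.IsGE a] :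
    ((DRing.restrictD (algebraMap A B)).obj Y).IsGE a := by
  rw [DerivedCategory.isGE_iff]
  intro j hj
  apply Groth.Agent.Lib.T2H4.HomRing.isZero_homology_of_subsingleton_hom
    (isSeparator_of_self A) _ j
  have e : (Dual.inD A A)⟦-j⟧ ≅ (singleFunctor (ModuleCat.{u} A) j).obj (ModuleCat.of A A) :=
    ((singleFunctors (ModuleCat.{u} A)).shiftIso (-j) j 0 (by simp)).app (ModuleCat.of A A)
  have hb := ΘN_of_iso B e (hA (-j))
  have h0 : Subsingleton ((singleFunctor (ModuleCat.{u} A) j).obj (ModuleCat.of A A) ⟶ N) :=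
    ⟨fun f g => (tt.zero_of_isLE_of_isGE f j a hj inferInstance inferInstance).trans
      (tt.zero_of_isLE_of_isGE g j a hj inferInstance inferInstance).symm⟩
  have h1 : Subsingleton
      (B ⊗[A] ((singleFunctor (ModuleCat.{u} A) j).obj (ModuleCat.of A A) ⟶ N)) := by
    refine ⟨fun x y => ?_⟩
    have hz : ∀ z : B ⊗[A] ((singleFunctor (ModuleCat.{u} A) j).obj (ModuleCat.of A A) ⟶ N),
        z = 0 := by
      intro z
      induction z using TensorProduct.induction_on with
      | zero => rfl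
      | tmul b f => rw [Subsingleton.elim f 0, TensorProduct.tmul_zero]
      | add x y hx hy => rw [hx, hy, add_zero]
    rw [hz x, hz y]
  exact ⟨fun g g' => by
    obtain ⟨x, rfl⟩ := hb.2 g
    obtain ⟨y, rfl⟩ := hb.2 g'
    rw [Subsingleton.elim x y]⟩

/-- **Flat base change for `Hom`**, abstract form. -/
theorem bijective_ΘN_of_dbcoh [IsNoetherianRing A] [Module.Flat A B]
    (hA : ∀ n : ℤ, Function.Bijective (ΘN B η ((Dual.inD A A)⟦n⟧))) (a : ℤ) [N.IsGE a]
    (K : Dual.D A) (c d : ℤ)
    (hK : ∀ i : ℤ, (i < c ∨ d < i) → IsZero ((homologyFunctor (ModuleCat.{u} A) i).obj K))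
    (hfin : ∀ i : ℤ, Module.Finite A (Dual.HD A K i)) (n : ℤ) :
    Function.Bijective (ΘN B η (K⟦n⟧)) := by
  haveI := isGE_of_bij B η hA a
  have hbase : ∀ (X : Dual.D A) (i : ℤ), i < a → X.IsLE i →
      Function.Bijective ((θB B η).app X) := by
    intro X i hi hX
    have h0 : ∀ f : X ⟶ N, f = 0 := fun f =>
      tt.zero_of_isLE_of_isGE f i a hi inferInstance inferInstance
    have h0' : ∀ f : X ⟶ (DRing.restrictD (algebraMap A B)).obj Y, f = 0 := fun f =>
      tt.zero_of_isLE_of_isGE f i a hi inferInstance inferInstance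
    have hz : ∀ z : B ⊗[A] (X ⟶ N), z = 0 := by
      intro z
      induction z using TensorProduct.induction_on with
      | zero => rfl
      | tmul b f => rw [h0 f, TensorProduct.tmul_zero]
      | add x y hx hy => rw [hx, hy, add_zero]
    exact ⟨fun x y _ => (hz x).trans (hz y).symm, fun g => ⟨0, (h0' _).trans (h0' g).symm⟩⟩
  exact bij_of_dbcoh (θ := θB B η) a hbase hA K c d hK hfin n

variable [DRing.HasLBaseChange (algebraMap A B)]

/-- **Flat base change for `Hom`**: for `K ∈ D^b_coh(A)`, `N` bounded below,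
`B ⊗ Hom(K[n], N) ≅ Hom(K[n], (N ⊗ B)|_A)`. -/
theorem bijective_ΘN_unit [IsNoetherianRing A] [Module.Flat A B] (K N : Dual.D A) (a : ℤ)
    [N.IsGE a] (c d : ℤ)
    (hK : ∀ i : ℤ, (i < c ∨ d < i) → IsZero ((homologyFunctor (ModuleCat.{u} A) i).obj K))
    (hfin : ∀ i : ℤ, Module.Finite A (Dual.HD A K i)) (n : ℤ) :
    Function.Bijective (ΘN B (ηB B N) (K⟦n⟧)) := by
  obtain ⟨C, ⟨e⟩⟩ : ∃ C : DRing.Cx A, Nonempty (Q.obj C ≅ N) := ⟨_, ⟨Q.objObjPreimageIso N⟩⟩
  let u : C ⟶ (resCx (algebraMap A B)).obj ((extCx (algebraMap A B)).obj C) :=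
    (extResAdj (algebraMap A B)).unit.app C
  have hu : ∀ k : ℤ, IsBaseChange B (uf B u k) := fun k => isBaseChange_unit B (C.X k)
  haveI := isIso_lbcCounit_of_flat B C
  let eY : (Q : _ ⥤ Dual.D B).obj ((extCx (algebraMap A B)).obj C) ≅
      (DRing.LBaseChange (algebraMap A B)).obj N :=
    (asIso ((lbcCounit (algebraMap A B)).app C)).symm ≪≫
      (DRing.LBaseChange (algebraMap A B)).mapIso e
  have comm : ηc B u ≫ (DRing.restrictD (algebraMap A B)).map eY.hom = e.hom ≫ ηB B N := by
    have h1 := lbcAdj_unit_fac (algebraMap A B) C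
    have h2 : ηc B u = ηB B (Q.obj C) ≫
        (DRing.restrictD (algebraMap A B)).map ((lbcCounit (algebraMap A B)).app C) := h1.symm
    rw [h2, Category.assoc, ← Functor.map_comp]
    have h3 : (lbcCounit (algebraMap A B)).app C ≫ eY.hom =
        (DRing.LBaseChange (algebraMap A B)).map e.hom := by
      show _ ≫ (inv ((lbcCounit (algebraMap A B)).app C) ≫ _) = _
      rw [IsIso.hom_inv_id_assoc]
      rfl
    rw [h3]
    exact ((lbcAdj (algebraMap A B)).unit.naturality e.hom).symm
  have hA : ∀ n : ℤ, Function.Bijective (ΘN B (ηB B N) ((Dual.inD A A)⟦n⟧)) := by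
    intro n
    have e1 : (Q : _ ⥤ Dual.D A).obj (SB A (-n)) ≅ (Dual.inD A A)⟦n⟧ :=
      ((singleFunctorIsoCompQ (ModuleCat.{u} A) (-n)).app (ModuleCat.of A A)).symm ≪≫
      (((singleFunctors (ModuleCat.{u} A)).shiftIso n (-n) 0 (by simp)).app
        (ModuleCat.of A A)).symm
    exact ΘN_of_iso B e1 (ΘN_of_sq B (ηB B N) e eY comm _ (bijective_ΘN_ηc B u hu (-n)))
  exact bijective_ΘN_of_dbcoh B (ηB B N) hA a K c d hK hfin n

end Main

end Groth.Agent.Lib.T2H4.FlatHom
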