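import Groth.Agent.Lib.T2H4FlatHom5
import Groth.Agent.S0543

/-!
# Flat base change of dualizing complexes: the three corollaries (helper4)
-/

set_option autoImplicit false
set_option linter.style.haveILetI false
set_option backward.isDefEq.respectTransparency.types false
universe u
open CategoryTheory CategoryTheory.Limits TensorProduct
attribute [local instance] HasDerivedCategory.standard

namespace Groth.Agent.Lib.T2H4.FlatHom

open DerivedCategory Pretriangulated

section Cor

/-- the maximal ideals of `B` are extended from `A` when `A → B/IB` is surjective and `IB` lies in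
the Jacobson radical. -/
lemma exists_map_eq_of_surjective_quot {A B : Type u} [CommRing A] [CommRing B] [Algebra A B]
    (I : Ideal A)
    (hs : Function.Surjective ((Ideal.Quotient.mk (I.map (algebraMap A B))).comp (algebraMap A B)))
    (hJ : I.map (algebraMap A B) ≤ (⊥ : Ideal B).jacobson) (𝔪 : Ideal B) (h𝔪 : 𝔪.IsMaximal) :
    ∃ 𝔪' : Ideal A, 𝔪'.map (algebraMap A B) = 𝔪 := by
  have hI𝔪 : I.map (algebraMap A B) ≤ 𝔪 := hJ.trans (sInf_le ⟨bot_le, h𝔪⟩)
  refine ⟨𝔪.comap (algebraMap A B), le_antisymm Ideal.map_comap_le ?_⟩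
  intro b hb
  obtain ⟨a, ha⟩ := hs (Ideal.Quotient.mk _ b)
  have h1 : algebraMap A B a - b ∈ I.map (algebraMap A B) := by
    rw [← Ideal.Quotient.eq]
    exact ha
  have h2 : algebraMap A B a ∈ 𝔪 := by
    have := 𝔪.add_mem (hI𝔪 h1) hb
    simpa using this
  have hI : I ≤ 𝔪.comap (algebraMap A B) := by
    intro x hx
    exact hI𝔪 (Ideal.mem_map_of_mem _ hx)
  have h3 : b = algebraMap A B a - (algebraMap A B a - b) := by ring
  rw [h3]
  exact Ideal.sub_mem _ (Ideal.mem_map_of_mem _ h2) (Ideal.map_mono hI h1)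

/-- **S1778**. -/
theorem isDualizing_lbc_of_surjective_quot (A B : Type u) [CommRing A] [CommRing B] [Algebra A B]
    [IsNoetherianRing A] [IsNoetherianRing B] [Module.Flat A B] (I : Ideal A)
    (hs : Function.Surjective ((Ideal.Quotient.mk (I.map (algebraMap A B))).comp (algebraMap A B)))
    (hJ : I.map (algebraMap A B) ≤ (⊥ : Ideal B).jacobson)
    [DRing.HasLBaseChange (algebraMap A B)] (ω : Dual.D A) (hω : Dual.IsDualizing A ω) :
    Dual.IsDualizing B ((DRing.LBaseChange (algebraMap A B)).obj ω) :=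
  isDualizing_lbc_of_maximal_extended B ω hω (exists_map_eq_of_surjective_quot I hs hJ)

/-- **S1779**. -/
theorem isDualizing_lbc_adicCompletion (A : Type u) [CommRing A] [IsNoetherianRing A] (I : Ideal A)
    [DRing.HasLBaseChange (algebraMap A (AdicCompletion I A))] (ω : Dual.D A)
    (hω : Dual.IsDualizing A ω) :
    Dual.IsDualizing (AdicCompletion I A)
      ((DRing.LBaseChange (algebraMap A (AdicCompletion I A))).obj ω) := by
  haveI : IsNoetherianRing (AdicCompletion I A) := Groth.Agent.S0543.result A I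
  have fg : I.FG := IsNoetherian.noetherian I
  haveI := AdicCompletion.isAdicComplete_self I fg
  have hJ : I.map (algebraMap A (AdicCompletion I A)) ≤ (⊥ : Ideal (AdicCompletion I A)).jacobson :=
    IsAdicComplete.le_jacobson_bot _
  refine isDualizing_lbc_of_surjective_quot A (AdicCompletion I A) I ?_ hJ ω hω
  intro y
  obtain ⟨y, rfl⟩ := Ideal.Quotient.mk_surjective y
  obtain ⟨a, ha⟩ := Ideal.Quotient.mk_surjective (AdicCompletion.evalOneₐ I y)
  refine ⟨a, ?_⟩
  show Ideal.Quotient.mk _ (algebraMap A (AdicCompletion I A) a) = Ideal.Quotient.mk _ y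
  rw [Ideal.Quotient.eq, ← AdicCompletion.ker_evalOneₐ_eq_map I fg, RingHom.mem_ker, map_sub,
    sub_eq_zero]
  have h1 : (AdicCompletion.evalOneₐ I) (algebraMap A (AdicCompletion I A) a) =
      Ideal.Quotient.mk I a := by
    rw [AlgHom.commutes]
    rfl
  exact h1.trans ha

/-- **S1777**. -/
theorem isDualizing_isNormalized_lbc_local (A B : Type u) [CommRing A] [CommRing B] [IsLocalRing A]
    [IsLocalRing B] [Algebra A B] [IsNoetherianRing A] [IsNoetherianRing B]
    [Module.Flat A B]
    (hm : (IsLocalRing.maximalIdeal A).map (algebraMap A B) = IsLocalRing.maximalIdeal B)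
    [DRing.HasLBaseChange (algebraMap A B)] (ω : Dual.D A) (hω : Dual.IsDualizing A ω)
    (hn : Dual.IsNormalized A ω) :
    Dual.IsDualizing B ((DRing.LBaseChange (algebraMap A B)).obj ω) ∧
      Dual.IsNormalized B ((DRing.LBaseChange (algebraMap A B)).obj ω) := by
  refine ⟨isDualizing_lbc_of_maximal_extended B ω hω (fun 𝔪 h𝔪 => ?_), ?_⟩
  · exact ⟨IsLocalRing.maximalIdeal A, hm.trans (IsLocalRing.eq_maximalIdeal h𝔪).symm⟩
  · intro i hi
    obtain ⟨a, b, hab⟩ := hω.finite_injective_dimension
    have hK : ∀ i : ℤ, i < a → IsZero ((homologyFunctor (ModuleCat.{u} A) i).obj ω) := by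
      intro i hi
      have := (Groth.Agent.Lib.T2H4.HomRing.subsingleton_hom_inD_self_iff ω i).1
        (hab A i (Or.inl hi))
      exact ModuleCat.isZero_of_subsingleton _
    haveI : ω.IsGE a := (DerivedCategory.isGE_iff ω a).2 hK
    have h1 := subsingleton_hom_quot_map B ω a (IsLocalRing.maximalIdeal A) i (hn i hi)
    rw [hm] at h1
    exact h1

end Cor

end Groth.Agent.Lib.T2H4.FlatHom
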