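import Groth.Agent.Lib.T2H4Koszul5
import Groth.Agent.Lib.T2H4LocKL3

set_option autoImplicit false
set_option linter.style.haveILetI false
set_option backward.isDefEq.respectTransparency.types false
universe u
open CategoryTheory CategoryTheory.Limits ChangeOfRings
attribute [local instance] HasDerivedCategory.standard

namespace Groth.Agent.Lib.T2H4.Frob

/-- Frobenius data for a ring map `φ : B → B'`: a `B`-linear form `τ` with dual "bases". -/
structure FrobData {B B' : Type u} [CommRing B] [CommRing B'] (φ : B →+* B') where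
  ι : Type
  fin : Fintype ι
  τ : B' →+ B
  τ_smul : ∀ (b : B) (b' : B'), τ (φ b * b') = b * τ b'
  e : ι → B'
  e' : ι → B'
  h1 : ∀ b' : B', ∑ i, φ (τ (b' * e' i)) * e i = b'
  h2 : ∀ b' : B', ∑ i, φ (τ (b' * e i)) * e' i = b'

attribute [instance] FrobData.fin

/-- `B'` as a `B`-module. -/
abbrev Sm {B B' : Type u} [CommRing B] [CommRing B'] (φ : B →+* B') : Type u :=
  ((ModuleCat.restrictScalars.{u} φ).obj (ModuleCat.of B' B') : Type u)

/-- cast -/
abbrev up {B B' : Type u} [CommRing B] [CommRing B'] (φ : B →+* B') (c : B') : Sm φ := c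

section Mod

variable {B B' : Type u} [CommRing B] [CommRing B'] {φ : B →+* B'} (F : FrobData φ)
  (M : Type u) [AddCommGroup M] [Module B M]

omit [AddCommGroup M] [Module B M] in
lemma smul_S' (r : B) (c : B') : (r • up φ c : Sm φ) = up φ (φ r * c) := rfl

/-- the value of `Φ` on a pure tensor -/
def Φfun (b' : B') (m : M) : Sm φ →ₗ[B] M where
  toFun := fun c : B' => F.τ (c * b') • m
  map_add' := fun c c' : B' => by
    show F.τ ((c + c') * b') • m = F.τ (c * b') • m + F.τ (c' * b') • m
    rw [add_mul, map_add, add_smul]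
  map_smul' := fun r (c : B') => by
    show F.τ ((φ r * c) * b') • m = r • (F.τ (c * b') • m)
    rw [mul_assoc, F.τ_smul, mul_smul]

/-- the comparison map `B' ⊗_B M → Hom_B(B', M)` as a `B`-linear map -/
noncomputable def ΦB : TensorProduct B (Sm φ) M →ₗ[B] (Sm φ →ₗ[B] M) :=
  TensorProduct.lift (LinearMap.mk₂ B (fun (b' : Sm φ) (m : M) => Φfun F M b' m)
    (fun (b₁ b₂ : B') m => by
      refine LinearMap.ext (fun c : B' => ?_)
      show F.τ (c * (b₁ + b₂)) • m = F.τ (c * b₁) • m + F.τ (c * b₂) • m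
      rw [mul_add, map_add, add_smul])
    (fun r (b : B') m => by
      refine LinearMap.ext (fun c : B' => ?_)
      show F.τ (c * (φ r * b)) • m = r • (F.τ (c * b) • m)
      rw [mul_left_comm, F.τ_smul, mul_smul])
    (fun (b : B') m₁ m₂ => by
      refine LinearMap.ext (fun c : B' => ?_)
      show F.τ (c * b) • (m₁ + m₂) = F.τ (c * b) • m₁ + F.τ (c * b) • m₂
      rw [smul_add])
    (fun r (b : B') m => by
      refine LinearMap.ext (fun c : B' => ?_)
      show F.τ (c * b) • (r • m) = r • (F.τ (c * b) • m)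
      rw [smul_comm]))

lemma ΦB_tmul (b' : B') (m : M) (c : B') :
    ΦB F M ((up φ b') ⊗ₜ m) c = F.τ (c * b') • m := rfl

/-- the inverse map -/
noncomputable def ΨB : (Sm φ →ₗ[B] M) →ₗ[B] TensorProduct B (Sm φ) M :=
  ∑ i, (TensorProduct.mk B (Sm φ) M (up φ (F.e' i))).comp (LinearMap.applyₗ (up φ (F.e i)))

lemma ΨB_apply (h : Sm φ →ₗ[B] M) :
    ΨB F M h = ∑ i, (up φ (F.e' i)) ⊗ₜ[B] h (up φ (F.e i)) := by
  simp [ΨB, LinearMap.sum_apply]

lemma ΦB_ΨB (h : Sm φ →ₗ[B] M) : ΦB F M (ΨB F M h) = h := by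
  refine LinearMap.ext (fun c : B' => ?_)
  rw [ΨB_apply, map_sum, LinearMap.sum_apply]
  simp only [ΦB_tmul]
  have h1 := F.h1 c
  calc ∑ i, F.τ (c * F.e' i) • h (up φ (F.e i))
      = ∑ i, h ((F.τ (c * F.e' i)) • (up φ (F.e i))) := by
        refine Finset.sum_congr rfl (fun i _ => ?_)
        rw [map_smul]
    _ = h (∑ i, (F.τ (c * F.e' i)) • (up φ (F.e i))) := by rw [map_sum]
    _ = h (up φ c) := by
        congr 1

lemma ΨB_ΦB (x : TensorProduct B (Sm φ) M) : ΨB F M (ΦB F M x) = x := by
  have : (ΨB F M).comp (ΦB F M) = LinearMap.id := by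
    apply TensorProduct.ext'
    intro (b' : B') m
    show ΨB F M (ΦB F M ((up φ b') ⊗ₜ m)) = (up φ b') ⊗ₜ m
    rw [ΨB_apply]
    simp only [ΦB_tmul]
    have h2 := F.h2 b'
    calc ∑ i, (up φ (F.e' i)) ⊗ₜ[B] (F.τ ((F.e i) * b') • m)
        = ∑ i, ((F.τ (b' * F.e i)) • (up φ (F.e' i))) ⊗ₜ[B] m := by
          refine Finset.sum_congr rfl (fun i _ => ?_)
          rw [TensorProduct.smul_tmul, mul_comm]
      _ = (∑ i, (F.τ (b' * F.e i)) • (up φ (F.e' i))) ⊗ₜ[B] m := by
          rw [TensorProduct.sum_tmul]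
      _ = (up φ b') ⊗ₜ m := by
          congr 1
  exact DFunLike.congr_fun this x

end Mod

section Mod2

variable {B B' : Type u} [CommRing B] [CommRing B'] {φ : B →+* B'} (F : FrobData φ)
  (M : Type u) [AddCommGroup M] [Module B M]

set_option backward.isDefEq.respectTransparency false in
lemma ΦB_smul (s : B') (x : TensorProduct B (Sm φ) M) :
    ΦB F M (s • x) = s • ΦB F M x := by
  induction x using TensorProduct.induction_on with
  | zero => rw [smul_zero, map_zero, smul_zero]
  | tmul b' m =>
    refine LinearMap.ext (fun c : B' => ?_)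
    show F.τ (c * (s * (id b' : B'))) • m = F.τ ((c * s) * (id b' : B')) • m
    rw [mul_assoc]
  | add x y hx hy => rw [smul_add, map_add, hx, hy, map_add, smul_add]

end Mod2

section Cat

variable {B B' : Type u} [CommRing B] [CommRing B'] {φ : B →+* B'} (F : FrobData φ)

/-- the `B'`-linear Frobenius identification `B' ⊗_B M ≃ Hom_B(B', M)` -/
noncomputable def frobEquiv (M : ModuleCat.{u} B) :
    ((ModuleCat.extendScalars.{u, u, u} φ).obj M) ≃ₗ[B']
      ((ModuleCat.coextendScalars.{u, u, u} φ).obj M) where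
  toFun := fun x => ΦB F M x
  map_add' := fun x y => (ΦB F M).map_add x y
  map_smul' := fun s x => ΦB_smul F M s x
  invFun := fun h => ΨB F M h
  left_inv := ΨB_ΦB F M
  right_inv := ΦB_ΨB F M

lemma frobEquiv_apply_one_tmul (M : ModuleCat.{u} B) (m : M) (c : B') :
    (ModuleCat.CoextendScalars.equiv φ M (frobEquiv F M ((1 : B') ⊗ₜ[B,φ] m))) c = F.τ c • m := by
  show F.τ (c * 1) • m = F.τ c • m
  rw [mul_one]

/-- Frobenius: extension and coextension of scalars agree. -/
noncomputable def frobIso :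
    ModuleCat.extendScalars.{u, u, u} φ ≅ ModuleCat.coextendScalars.{u, u, u} φ :=
  NatIso.ofComponents (fun M => (frobEquiv F M).toModuleIso) (by
    intro M M' g
    apply ModuleCat.ExtendScalars.hom_ext
    intro m
    apply ModuleCat.CoextendScalars.ext
    refine LinearMap.ext (fun c : B' => ?_)
    show F.τ (c * 1) • g.hom m = g.hom (F.τ (c * 1) • m)
    rw [map_smul])

/-- the module level adjunction `restriction ⊣ extension` for a Frobenius extension -/
noncomputable def adjMod : ModuleCat.restrictScalars.{u} φ ⊣ ModuleCat.extendScalars.{u, u, u} φ :=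
  (ModuleCat.restrictCoextendScalarsAdj.{u, u, u} φ).ofNatIsoRight (frobIso F).symm

end Cat

open Groth.Agent.Lib.T2H4.TorIndep Groth.Agent.Lib.Helper1.DT DTen Groth.Agent.Lib.Helper1
  Groth.Agent.Lib.Helper1.LDer Groth.Agent.Lib.T2H4.Koszul

section Der

variable {B B' : Type u} [CommRing B] [CommRing B'] {φ : B →+* B'} (F : FrobData φ)

include F in
lemma flat_of_frobData : letI := φ.toAlgebra; Module.Flat B B' := by
  letI := φ.toAlgebra
  let i : B' →ₗ[B] (F.ι → B) :=
    { toFun := fun b' j => F.τ (b' * F.e' j)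
      map_add' := fun x y => by
        funext j
        show F.τ ((x + y) * F.e' j) = F.τ (x * F.e' j) + F.τ (y * F.e' j)
        rw [add_mul, map_add]
      map_smul' := fun r x => by
        funext j
        show F.τ ((r • x) * F.e' j) = r * F.τ (x * F.e' j)
        rw [Algebra.smul_def, mul_assoc]
        exact F.τ_smul r _ }
  let s : (F.ι → B) →ₗ[B] B' :=
    { toFun := fun v => ∑ j, φ (v j) * F.e j
      map_add' := fun v w => by
        show ∑ j, φ (v j + w j) * F.e j = ∑ j, φ (v j) * F.e j + ∑ j, φ (w j) * F.e j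
        rw [← Finset.sum_add_distrib]
        refine Finset.sum_congr rfl (fun j _ => ?_)
        rw [map_add, add_mul]
      map_smul' := fun r v => by
        show ∑ j, φ (r * v j) * F.e j = r • ∑ j, φ (v j) * F.e j
        rw [Finset.smul_sum]
        refine Finset.sum_congr rfl (fun j _ => ?_)
        rw [map_mul, mul_assoc, Algebra.smul_def]
        rfl }
  have H : s.comp i = LinearMap.id := by
    ext b'
    exact F.h1 b'
  haveI : Module.Projective B B' := Module.Projective.of_split i s H
  infer_instance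

variable [DRing.HasLBaseChange φ]

include F in
lemma isIso_lbcCounit_of_frobData (C : DRing.Cx B) : IsIso ((lbcCounit φ).app C) := by
  letI := φ.toAlgebra
  haveI : Module.Flat B B' := flat_of_frobData F
  haveI : DRing.HasLBaseChange (algebraMap B B') := ‹DRing.HasLBaseChange φ›
  exact Groth.Agent.Lib.T2H4.LocKL.isIso_lbcCounit_of_flat B' C

/-- Frobenius: derived base change is also RIGHT adjoint to restriction. -/
noncomputable def frobAdjD : DRing.restrictD φ ⊣ DRing.LBaseChange φ := by
  haveI : ∀ C, IsIso ((lbcCounit φ).app C) := fun C => isIso_lbcCounit_of_frobData F C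
  haveI : IsIso (lbcCounit φ) := NatIso.isIso_of_isIso_app _
  letI sq1 : CatCommSq (resCx φ) DerivedCategory.Q DerivedCategory.Q (DRing.restrictD φ) :=
    ⟨(resFactors φ).symm⟩
  letI sq2 : CatCommSq (extCx φ) DerivedCategory.Q DerivedCategory.Q (DRing.LBaseChange φ) :=
    ⟨(asIso (lbcCounit φ)).symm⟩
  exact (mapHomologicalComplexAdj (adjMod F) (ComplexShape.up ℤ)).localization
    DerivedCategory.Q (HomologicalComplex.quasiIso (ModuleCat.{u} B') (ComplexShape.up ℤ))
    DerivedCategory.Q (HomologicalComplex.quasiIso (ModuleCat.{u} B) (ComplexShape.up ℤ))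
    (DRing.restrictD φ) (DRing.LBaseChange φ)

include F in
theorem isRHom_frob (M : Dual.D B) :
    IsRHom (DRing.restrictD φ) M ((DRing.LBaseChange φ).obj M) :=
  isRHom_of_adj (frobAdjD F) M

end Der

end Groth.Agent.Lib.T2H4.Frob
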