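import Groth.Agent.Lib.T2H4Frob1

set_option autoImplicit false
set_option linter.style.haveILetI false
set_option backward.isDefEq.respectTransparency.types false
universe u
open CategoryTheory CategoryTheory.Limits
attribute [local instance] HasDerivedCategory.standard

namespace Groth.Agent.Lib.T2H4.Frob

open Groth.Agent.Lib.T2H4.Koszul

section Cancel

variable {𝒜 ℬ 𝒞 : Type*} [Category 𝒜] [Category ℬ] [Category 𝒞]

lemma isRHom_cancel {F1 : 𝒜 ⥤ ℬ} {F2 : ℬ ⥤ 𝒞} {M : 𝒞} {M' : ℬ} {X : 𝒜}
    (h : IsRHom (F1 ⋙ F2) M X) (h2 : IsRHom F2 M M') : IsRHom F1 M' X := by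
  obtain ⟨ε, hε⟩ := h
  obtain ⟨ε', hε'⟩ := h2
  obtain ⟨ε1, hε1⟩ := (hε' (F1.obj X)).2 ε
  have hε1' : F2.map ε1 ≫ ε' = ε := hε1
  refine ⟨ε1, fun L => ?_⟩
  have hcomp : (fun k : F1.obj L ⟶ M' => F2.map k ≫ ε') ∘ (fun g : L ⟶ X => F1.map g ≫ ε1) =
      (fun g : L ⟶ X => (F1 ⋙ F2).map g ≫ ε) := by
    funext g
    show F2.map (F1.map g ≫ ε1) ≫ ε' = F2.map (F1.map g) ≫ ε
    rw [Functor.map_comp, Category.assoc, hε1']
  have hb := hε L
  rw [← hcomp] at hb
  exact (Function.Bijective.of_comp_iff' (hε' (F1.obj L)) _).1 hb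

end Cancel

section Triangular

variable {B B' : Type u} [CommRing B] [CommRing B'] [Algebra B B'] {d : ℕ}
  (b : Module.Basis (Fin d) B B') (τ : B' →ₗ[B] B)

/-- reversed Gram matrix -/
noncomputable def gram : Matrix (Fin d) (Fin d) B := fun l j => τ (b l * b (Fin.rev j))

variable (K : ∀ i j : Fin d, (i : ℕ) + j + 1 ≤ d →
  τ (b i * b j) = if (i : ℕ) + j + 1 = d then 1 else 0)

include K in
lemma det_gram : (gram b τ).det = 1 := by
  have h1 : (gram b τ).BlockTriangular OrderDual.toDual := by
    intro i j hij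
    have hij' : i < j := hij
    have hlt : (i : ℕ) < j := hij'
    show τ (b i * b (Fin.rev j)) = 0
    have hj := j.isLt
    rw [K i (Fin.rev j) (by rw [Fin.val_rev]; omega), if_neg (by rw [Fin.val_rev]; omega)]
  rw [Matrix.det_of_isLowerTriangular _ h1]
  refine Finset.prod_eq_one (fun i _ => ?_)
  show τ (b i * b (Fin.rev i)) = 1
  have hi := i.isLt
  rw [K i (Fin.rev i) (by rw [Fin.val_rev]; omega), if_pos (by rw [Fin.val_rev]; omega)]

/-- the dual basis -/
noncomputable def dualVec (i : Fin d) : B' := ∑ j, ((gram b τ)⁻¹ j i) • b (Fin.rev j)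

include K in
lemma tau_basis_dualVec (l i : Fin d) : τ (b l * dualVec b τ i) = if l = i then 1 else 0 := by
  have hu : IsUnit (gram b τ).det := by rw [det_gram b τ K]; exact isUnit_one
  have h1 := Matrix.mul_nonsing_inv (gram b τ) hu
  have h2 := congrFun (congrFun h1 l) i
  rw [Matrix.mul_apply, Matrix.one_apply] at h2
  rw [← h2, dualVec, Finset.mul_sum, map_sum]
  refine Finset.sum_congr rfl (fun j _ => ?_)
  rw [mul_smul_comm, map_smul, smul_eq_mul, mul_comm]
  rfl

include K in
lemma tau_mul_dualVec (c : B') (i : Fin d) : τ (c * dualVec b τ i) = b.repr c i := by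
  have hc : c = ∑ l, b.repr c l • b l := (b.sum_repr c).symm
  calc τ (c * dualVec b τ i) = τ ((∑ l, b.repr c l • b l) * dualVec b τ i) := by rw [← hc]
    _ = ∑ l, b.repr c l * τ (b l * dualVec b τ i) := by
        rw [Finset.sum_mul, map_sum]
        refine Finset.sum_congr rfl (fun l _ => ?_)
        rw [smul_mul_assoc, map_smul, smul_eq_mul]
    _ = ∑ l, b.repr c l * (if l = i then 1 else 0) := by
        refine Finset.sum_congr rfl (fun l _ => ?_)
        rw [tau_basis_dualVec b τ K]
    _ = b.repr c i := by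
        simp

include K in
lemma eq_zero_of_tau (x : B') (hx : ∀ c, τ (c * x) = 0) : x = 0 := by
  have hu : IsUnit (gram b τ).det := by rw [det_gram b τ K]; exact isUnit_one
  have h1 := Matrix.mul_nonsing_inv (gram b τ) hu
  have hxs : x = ∑ l, b.repr x l • b l := (b.sum_repr x).symm
  -- `∑_l x_l G_{lj} = 0`
  have h0 : ∀ j, ∑ l, b.repr x l * gram b τ l j = 0 := by
    intro j
    have := hx (b (Fin.rev j))
    rw [mul_comm] at this
    calc ∑ l, b.repr x l * gram b τ l j
        = τ ((∑ l, b.repr x l • b l) * b (Fin.rev j)) := by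
          rw [Finset.sum_mul, map_sum]
          refine Finset.sum_congr rfl (fun l _ => ?_)
          rw [smul_mul_assoc, map_smul, smul_eq_mul]
          rfl
      _ = 0 := by rw [← hxs]; exact this
  have hcoord : ∀ i, b.repr x i = 0 := by
    intro i
    calc b.repr x i = ∑ l, b.repr x l * (if l = i then 1 else 0) := by simp
      _ = ∑ l, b.repr x l * ∑ j, gram b τ l j * (gram b τ)⁻¹ j i := by
          refine Finset.sum_congr rfl (fun l _ => ?_)
          have h2 := congrFun (congrFun h1 l) i
          rw [Matrix.mul_apply, Matrix.one_apply] at h2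
          rw [h2]
      _ = ∑ j, (∑ l, b.repr x l * gram b τ l j) * (gram b τ)⁻¹ j i := by
          simp_rw [Finset.mul_sum, Finset.sum_mul]
          rw [Finset.sum_comm]
          refine Finset.sum_congr rfl (fun j _ => Finset.sum_congr rfl (fun l _ => ?_))
          ring
      _ = 0 := by
          refine Finset.sum_eq_zero (fun j _ => ?_)
          rw [h0 j, zero_mul]
  rw [hxs]
  refine Finset.sum_eq_zero (fun l _ => ?_)
  rw [hcoord l, zero_smul]

/-- Frobenius data from a basis with a triangular form. -/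
noncomputable def frobDataOfTriangular : FrobData (algebraMap B B') where
  ι := Fin d
  fin := inferInstance
  τ := τ.toAddMonoidHom
  τ_smul r x := by
    show τ (algebraMap B B' r * x) = r * τ x
    rw [← Algebra.smul_def, map_smul, smul_eq_mul]
  e := b
  e' := dualVec b τ
  h1 x := by
    show ∑ i, algebraMap B B' (τ (x * dualVec b τ i)) * b i = x
    simp_rw [tau_mul_dualVec b τ K, ← Algebra.smul_def]
    exact b.sum_repr x
  h2 x := by
    show ∑ i, algebraMap B B' (τ (x * b i)) * dualVec b τ i = x
    rw [← sub_eq_zero]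
    apply eq_zero_of_tau b τ K
    intro c
    rw [mul_sub, map_sub, Finset.mul_sum, map_sum, sub_eq_zero]
    calc ∑ i, τ (c * (algebraMap B B' (τ (x * b i)) * dualVec b τ i))
        = ∑ i, τ (x * b i) * b.repr c i := by
          refine Finset.sum_congr rfl (fun i _ => ?_)
          rw [mul_left_comm, ← Algebra.smul_def, map_smul, smul_eq_mul, tau_mul_dualVec b τ K]
      _ = τ (x * ∑ i, b.repr c i • b i) := by
          rw [Finset.mul_sum, map_sum]
          refine Finset.sum_congr rfl (fun i _ => ?_)
          rw [mul_smul_comm, map_smul, smul_eq_mul, mul_comm]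
      _ = τ (c * x) := by rw [b.sum_repr c, mul_comm]

end Triangular

section AR

variable {B : Type u} [CommRing B] (f : Polynomial B) (hf : f.Monic)

/-- the "top coefficient" linear form on `B[X]/(f)` -/
noncomputable def tauAR : AdjoinRoot f →ₗ[B] B :=
  if h : 0 < f.natDegree then
    (AdjoinRoot.powerBasisAux' hf).coord ⟨f.natDegree - 1, by omega⟩
  else 0

lemma tauAR_triangular (i j : Fin f.natDegree) (hij : (i : ℕ) + j + 1 ≤ f.natDegree) :
    tauAR f hf (AdjoinRoot.powerBasisAux' hf i * AdjoinRoot.powerBasisAux' hf j) =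
      if (i : ℕ) + j + 1 = f.natDegree then 1 else 0 := by
  have hb : ∀ l : Fin f.natDegree,
      AdjoinRoot.powerBasisAux' hf l = AdjoinRoot.root f ^ (l : ℕ) :=
    (AdjoinRoot.powerBasis' hf).basis_eq_pow
  have hpos : 0 < f.natDegree := by omega
  have hmul : AdjoinRoot.powerBasisAux' hf i * AdjoinRoot.powerBasisAux' hf j =
      AdjoinRoot.powerBasisAux' hf ⟨(i : ℕ) + j, by omega⟩ := by
    rw [hb i, hb j, hb ⟨(i : ℕ) + j, by omega⟩, ← pow_add]
  rw [hmul, tauAR, dif_pos hpos, Module.Basis.coord_apply, Module.Basis.repr_self,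
    Finsupp.single_apply]
  by_cases h : (i : ℕ) + j + 1 = f.natDegree
  · rw [if_pos h, if_pos]
    apply Fin.ext
    show (i : ℕ) + j = f.natDegree - 1
    omega
  · rw [if_neg h, if_neg]
    intro h'
    have := congrArg Fin.val h'
    simp only at this
    omega

/-- `B[X]/(f)` is a Frobenius extension of `B` for monic `f`. -/
noncomputable def frobDataAR : FrobData (algebraMap B (AdjoinRoot f)) :=
  frobDataOfTriangular (AdjoinRoot.powerBasisAux' hf) (tauAR f hf) (tauAR_triangular f hf)

end AR

section Poly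

variable {B B' : Type u} [CommRing B] [CommRing B'] {φ : B →+* B'} (F : FrobData φ)

/-- coefficientwise extension of the form -/
noncomputable def polyτFun (p : Polynomial B') : Polynomial B :=
  ∑ k ∈ p.support, Polynomial.monomial k (F.τ (p.coeff k))

lemma coeff_polyτFun (p : Polynomial B') (k : ℕ) : (polyτFun F p).coeff k = F.τ (p.coeff k) := by
  rw [polyτFun, Polynomial.finsetSum_coeff]
  simp_rw [Polynomial.coeff_monomial]
  rw [Finset.sum_ite_eq']
  split_ifs with h
  · rfl
  · rw [Polynomial.notMem_support_iff.1 h, map_zero]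

/-- coefficientwise extension of the form, bundled -/
noncomputable def polyτ : Polynomial B' →+ Polynomial B where
  toFun := polyτFun F
  map_zero' := by
    ext k
    rw [coeff_polyτFun]
    simp
  map_add' p q := by
    ext k
    rw [Polynomial.coeff_add, coeff_polyτFun, coeff_polyτFun, coeff_polyτFun, Polynomial.coeff_add,
      map_add]

lemma coeff_polyτ (p : Polynomial B') (k : ℕ) : (polyτ F p).coeff k = F.τ (p.coeff k) :=
  coeff_polyτFun F p k

/-- Frobenius data extend to polynomial rings. -/
noncomputable def FrobData.poly : FrobData (Polynomial.mapRingHom φ) where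
  ι := F.ι
  fin := F.fin
  τ := polyτ F
  τ_smul q p := by
    ext k
    rw [coeff_polyτ, Polynomial.coeff_mul, Polynomial.coeff_mul, map_sum]
    refine Finset.sum_congr rfl (fun x _ => ?_)
    rw [Polynomial.coe_mapRingHom, Polynomial.coeff_map, F.τ_smul, coeff_polyτ]
  e i := Polynomial.C (F.e i)
  e' i := Polynomial.C (F.e' i)
  h1 p := by
    ext k
    rw [Polynomial.finsetSum_coeff]
    simp_rw [Polynomial.coeff_mul_C, Polynomial.coe_mapRingHom, Polynomial.coeff_map, coeff_polyτ,
      Polynomial.coeff_mul_C]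
    exact F.h1 (p.coeff k)
  h2 p := by
    ext k
    rw [Polynomial.finsetSum_coeff]
    simp_rw [Polynomial.coeff_mul_C, Polynomial.coe_mapRingHom, Polynomial.coeff_map, coeff_polyτ,
      Polynomial.coeff_mul_C]
    exact F.h2 (p.coeff k)

end Poly

section Triv

variable {B B' : Type u} [CommRing B] [CommRing B'] (φ : B →+* B') (hφ : Function.Bijective φ)

/-- an isomorphism is a Frobenius extension -/
noncomputable def frobDataOfBijective : FrobData φ where
  ι := Unit
  fin := inferInstance
  τ := (RingEquiv.ofBijective φ hφ).symm.toAddMonoidHom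
  τ_smul b b' := by
    show (RingEquiv.ofBijective φ hφ).symm (φ b * b') = b * (RingEquiv.ofBijective φ hφ).symm b'
    rw [map_mul]
    congr 1
    exact (RingEquiv.ofBijective φ hφ).symm_apply_apply b
  e _ := 1
  e' _ := 1
  h1 b' := by
    show ∑ _i : Unit, φ ((RingEquiv.ofBijective φ hφ).symm (b' * 1)) * 1 = b'
    rw [Finset.sum_const, Finset.card_univ, Fintype.card_unit, one_smul, mul_one, mul_one]
    exact (RingEquiv.ofBijective φ hφ).apply_symm_apply b'
  h2 b' := by
    show ∑ _i : Unit, φ ((RingEquiv.ofBijective φ hφ).symm (b' * 1)) * 1 = b'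
    rw [Finset.sum_const, Finset.card_univ, Fintype.card_unit, one_smul, mul_one, mul_one]
    exact (RingEquiv.ofBijective φ hφ).apply_symm_apply b'

end Triv

end Groth.Agent.Lib.T2H4.Frob
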