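import Groth.Agent.Lib.T2H4TorsionBC2
import Groth.Agent.Lib.Helper1LBC2
import Groth.Agent.Lib.Helper1TorF

/-!
# Derived base change of `RΓ_I(A)` along an arbitrary ring map

`RΓ_I(A) ⊗^L_A B ≅ RΓ_J(B)` for Noetherian `A`, `B` and `rad J = rad IB`, via the extended Čech
complex: characterisation of `RΓ_I` by torsion cohomology and bijectivity on maps out of torsion
complexes, termwise computation of derived base change on bounded above flat complexes,
dévissage of `B ⊗_A Č` and vanishing of `B_{φ f} ⊗ Č`.
-/

set_option autoImplicit false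
universe u v w
open CategoryTheory CategoryTheory.Limits DerivedCategory Pretriangulated
attribute [local instance] HasDerivedCategory.standard

namespace Groth.Agent.Lib.T2H4.FrobRG

open Groth.Agent.Lib.Helper17.KInj Groth.Agent.Lib.T2H4.DComp Groth.Agent.Lib.T2H4.RGam
open Groth.Agent.Lib.Helper1.Extend Groth.Agent.Lib.Helper1.LDer Groth.Agent.Lib.T2H4.GNoeth
open Groth.Agent.Lib.Helper17 Groth.Agent.Lib.T2H4.TorsBC TensorProduct ChangeOfRings
open DerCA Groth.Agent.Lib.Helper1.ExtCech4

section Char

variable {A : Type u} [CommRing A] [IsNoetherianRing A] (I : Ideal A) [DRing.HasRgammaI I]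

/-- a complex with `I`-power torsion cohomology mapping to `X` bijectively on maps out of
torsion complexes is `RΓ_I X`. -/
theorem nonempty_iso_RgammaI_of_PTBij {Z X : Dual.D A} (β : Z ⟶ X) (hZ : PT I Z)
    (hβ : PTBij I β) : Nonempty (Z ≅ (DRing.RgammaI I).obj X) := by
  haveI := isIso_RgammaIε_app_of_torsion I Z hZ
  haveI := isIso_RgammaI_map_of_bijective I β hβ
  exact ⟨(asIso ((DRing.RgammaIε I).app Z)).symm ≪≫ asIso ((DRing.RgammaI I).map β)⟩

end Char

section Torsion

variable {A : Type u} [CommRing A]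

lemma isPowerTorsion_of_le {I J : Ideal A} (h : J ≤ I) (M : Type u) [AddCommGroup M] [Module A M]
    (hM : LocCoh.IsPowerTorsion I M) : LocCoh.IsPowerTorsion J M := by
  intro x
  obtain ⟨n, hn⟩ := hM x
  exact ⟨n, fun a ha => hn a (Ideal.pow_right_mono h n ha)⟩

lemma isPowerTorsion_of_le_radical {I J : Ideal A} (hI : I.FG) (h : I ≤ J.radical) (M : Type u)
    [AddCommGroup M] [Module A M] (hM : LocCoh.IsPowerTorsion J M) :
    LocCoh.IsPowerTorsion I M := by
  obtain ⟨k, hk⟩ := Ideal.exists_pow_le_of_le_radical_of_fg h hI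
  intro x
  obtain ⟨n, hn⟩ := hM x
  refine ⟨k * n, fun a ha => hn a ?_⟩
  rw [pow_mul] at ha
  exact Ideal.pow_right_mono hk n ha

lemma PT_of_le {I J : Ideal A} (h : J ≤ I) (X : Dual.D A) (hX : PT I X) : PT J X :=
  fun i => isPowerTorsion_of_le h _ (hX i)

lemma PT_of_le_radical {I J : Ideal A} (hI : I.FG) (h : I ≤ J.radical) (X : Dual.D A)
    (hX : PT J X) : PT I X :=
  fun i => isPowerTorsion_of_le_radical hI h _ (hX i)

lemma PTBij_of_le {I J : Ideal A} (h : J ≤ I) {X Y : Dual.D A} (α : X ⟶ Y) (hα : PTBij J α) :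
    PTBij I α := fun T hT => hα T (PT_of_le h T hT)

end Torsion

section CechFlat

variable {A : Type u} [CommRing A]

lemma vanishesAbove_extCech (M : ModuleCat.{u} A) :
    ∀ fs : List A, DRing.VanishesAbove (extCech M fs) (fs.length : ℤ)
  | [] => fun i hi => by
    have hi' : i ≠ 0 := by
      simp only [List.length_nil, Nat.cast_zero] at hi
      omega
    exact HomologicalComplex.isZero_single_obj_X (ComplexShape.up ℤ) 0 M i hi'
  | f :: fs => fun i hi => by
    have ih := vanishesAbove_extCech M fs
    show IsZero ((CochainComplex.mappingCone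
      (locCxUnit (Submonoid.powers f) (extCech M fs))).X (i + (-1)))
    rw [CochainComplex.mappingCone.isZero_X_iff]
    simp only [List.length_cons, Nat.cast_add, Nat.cast_one] at hi
    refine ⟨ih _ (by omega), ?_⟩
    exact (locFunctor (Submonoid.powers f)).map_isZero (ih (i + (-1)) (by omega))

instance flat_localizedModule (S : Submonoid A) (M : Type u) [AddCommGroup M] [Module A M]
    [Module.Flat A M] : Module.Flat A (LocalizedModule S M) :=
  Module.Flat.trans A (Localization S) (LocalizedModule S M)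

lemma termwiseFlat_locCx (S : Submonoid A) (K : DRing.Cx A) (hK : DRing.TermwiseFlat K) :
    DRing.TermwiseFlat ((locCx S).obj K) := fun i => by
  haveI := hK i
  exact flat_localizedModule S (K.X i)

open Groth.Agent.Lib.Helper1.Tor in
lemma termwiseFlat_extCech (M : ModuleCat.{u} A) [Module.Flat A M] :
    ∀ fs : List A, DRing.TermwiseFlat (extCech M fs)
  | [] => fun i => by
    by_cases hi : i = 0
    · subst hi
      exact Module.Flat.of_linearEquiv
        (HomologicalComplex.singleObjXSelf (ComplexShape.up ℤ) 0 M).toLinearEquiv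
    · haveI := ModuleCat.subsingleton_of_isZero
        (HomologicalComplex.isZero_single_obj_X (ComplexShape.up ℤ) 0 M i hi)
      show Module.Flat A (((HomologicalComplex.single (ModuleCat.{u} A) (ComplexShape.up ℤ) 0).obj
        M).X i)
      infer_instance
  | f :: fs => fun i => by
    have ih := termwiseFlat_extCech M fs
    exact termwiseFlat_mappingCone (locCxUnit (Submonoid.powers f) (extCech M fs)) ih
      (termwiseFlat_locCx _ _ ih) (i + (-1))

end CechFlat

section LBC

open Groth.Agent.Lib.Helper1.Tor Groth.Agent.Lib.Helper1.ProjRes Groth.Agent.Lib.Helper1.PC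

variable {A B : Type u} [CommRing A] [CommRing B] (φ : A →+* B) [DRing.HasLBaseChange φ]

/-- derived base change is computed termwise on bounded above complexes of flat modules. -/
theorem nonempty_lbc_iso_of_flat (E : DRing.Cx A) (b : ℤ) (hEb : DRing.VanishesAbove E b)
    (hEf : DRing.TermwiseFlat E) :
    Nonempty ((DRing.LBaseChange φ).obj (Q.obj E) ≅ Q.obj ((bcCx φ).obj E)) := by
  have hEle : E.IsStrictlyLE b := by
    rw [CochainComplex.isStrictlyLE_iff]
    exact hEb
  obtain ⟨P, p, hp, hPproj, hPle⟩ := exists_proj_res E b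
  have hPK : P.IsKProjective := CochainComplex.isKProjective_of_projective P b
  have hpi : IsIso (Q.map p) := (DerivedCategory.isIso_Q_map_iff_quasiIso (φ := p)).2 hp
  have hPb : DRing.VanishesAbove P b := fun i hi => P.isZero_of_isStrictlyLE b i hi
  have hPf : DRing.TermwiseFlat P := termwiseFlat_of_projective P hPproj
  have hbc : IsIso (Q.map ((bcCx φ).map p)) := isIso_Q_map_bc φ p b b hPb hEb hPf hEf hpi
  exact ⟨(DRing.LBaseChange φ).mapIso (asIso (Q.map p)).symm ≪≫ lbcIso φ P ≪≫
    asIso (Q.map ((bcCx φ).map p))⟩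

end LBC

section Devissage

variable {A B : Type u} [CommRing A] [CommRing B]

lemma distinguished_Q_map_cocone (G : ModuleCat.{u} A ⥤ ModuleCat.{u} B) [G.Additive]
    {K L : DRing.Cx A} (φ : K ⟶ L) :
    (Q : _ ⥤ Dual.D B).mapTriangle.obj
      ((G.mapHomologicalComplex (ComplexShape.up ℤ)).mapTriangle.obj
        (CochainComplex.mappingCocone.triangle φ)) ∈ distTriang (Dual.D B) := by
  rw [rotate_distinguished_triangle]
  refine isomorphic_distinguished _ (DerivedCategory.mappingCone_triangle_distinguished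
    ((G.mapHomologicalComplex (ComplexShape.up ℤ)).map φ)) _ ?_
  exact (Q : _ ⥤ Dual.D B).mapTriangleRotateIso.app _ ≪≫ Q.mapTriangle.mapIso
    ((G.mapHomologicalComplex (ComplexShape.up ℤ)).mapTriangleRotateIso.app _ ≪≫
      (G.mapHomologicalComplex (ComplexShape.up ℤ)).mapTriangle.mapIso
        (CochainComplex.mappingCocone.rotateTriangleIso φ) ≪≫
      CochainComplex.mappingCone.mapTriangleIso φ G)

variable [Algebra A B]

lemma inv_Q_extCx_locCx (f : A) (E : DRing.Cx A) :
    Inv (algebraMap A B f)
      ((Q : _ ⥤ Dual.D B).obj ((extCx A B).obj ((DerCA.locCx (Submonoid.powers f)).obj E))) :=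
  inv_Q_of_bijective (algebraMap A B f)
    ((extCx A B).obj ((DerCA.locCx (Submonoid.powers f)).obj E))
    (fun n => bijective_smul_ext _ f (bijective_smul_loc f (E.X n)))

lemma ptBij_Q_extCx_fst (I : Ideal A) (f : A) (hf : f ∈ I) (E : DRing.Cx A) :
    PTBij (I.map (algebraMap A B)) ((Q : _ ⥤ Dual.D B).map ((extCx A B).map
      (CochainComplex.mappingCocone.fst (DerCA.locCxUnit (Submonoid.powers f) E)))) :=
  PTBij.of_distTriang (algebraMap A B f) (Ideal.mem_map_of_mem _ hf) _
    (distinguished_Q_map_cocone (ext A B) (DerCA.locCxUnit (Submonoid.powers f) E))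
    (inv_Q_extCx_locCx f E)

lemma ptBij_Q_extCx_aug (I : Ideal A) (N : ModuleCat.{u} A) :
    ∀ (fs : List A), (∀ f ∈ fs, f ∈ I) →
      PTBij (I.map (algebraMap A B)) ((Q : _ ⥤ Dual.D B).map ((extCx A B).map (aug N fs)))
  | [], _ => by
    show PTBij _ (Q.map ((extCx A B).map (𝟙 _)))
    rw [CategoryTheory.Functor.map_id, CategoryTheory.Functor.map_id]
    exact PTBij.of_isIso _
  | f :: fs, h => by
    have h2 := (ptBij_Q_extCx_fst (B := B) I f (h f List.mem_cons_self) (extCech N fs)).comp
      (ptBij_Q_extCx_aug I N fs (fun g hg => h g (List.mem_cons_of_mem _ hg)))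
    rw [← Functor.map_comp, ← Functor.map_comp] at h2
    exact h2

end Devissage

section PTBase

variable {A : Type u} [CommRing A]

/-- complexes with `I`-power torsion cohomology die after inverting an element of `I`. -/
lemma isZero_extD_away_of_PT (I : Ideal A) (f : A) (hf : f ∈ I) (L : Dual.D A) (hL : PT I L) :
    IsZero ((extD A (Localization.Away f)).obj L) := by
  apply isZero_of_forall_isZero_homology
  intro i
  refine IsZero.of_iso ?_ (homologyMapDIso (ext A (Localization.Away f)) L i)
  apply isZero_ext_of_torsion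
  intro x
  obtain ⟨k, hk⟩ := hL i x
  exact ⟨k, hk _ (Ideal.pow_mem_pow hf k)⟩

lemma isPowerTorsion_span_of_forall (fs : List A) (M : Type u) [AddCommGroup M] [Module A M]
    (h : ∀ f ∈ fs, ∀ x : M, ∃ n : ℕ, f ^ n • x = 0) :
    LocCoh.IsPowerTorsion (Ideal.span {a : A | a ∈ fs}) M := by
  intro x
  have hle : Ideal.span {a : A | a ∈ fs} ≤ (Ideal.torsionOf A _ x).radical := by
    rw [Ideal.span_le]
    intro a ha
    obtain ⟨n, hn⟩ := h a ha x
    exact ⟨n, (Ideal.mem_torsionOf_iff _ _).2 hn⟩
  have hfg : (Ideal.span {a : A | a ∈ fs}).FG := by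
    classical
    refine ⟨fs.toFinset, ?_⟩
    rw [List.coe_toFinset]
  obtain ⟨k, hk⟩ := Ideal.exists_pow_le_of_le_radical_of_fg hle hfg
  exact ⟨k, fun a ha => (Ideal.mem_torsionOf_iff _ _).1 (hk ha)⟩

/-- a complex dying after inverting each element of the list has torsion cohomology. -/
lemma PT_span_of_isZero_extD_away (fs : List A) (X : Dual.D A)
    (h : ∀ f ∈ fs, IsZero ((extD A (Localization.Away f)).obj X)) :
    PT (Ideal.span {a : A | a ∈ fs}) X := by
  intro i
  apply isPowerTorsion_span_of_forall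
  intro f hf x
  have hz : IsZero ((ext A (Localization.Away f)).obj
      ((DerivedCategory.homologyFunctor (ModuleCat.{u} A) i).obj X)) :=
    IsZero.of_iso ((DerivedCategory.homologyFunctor (ModuleCat.{u} (Localization.Away f)) i).map_isZero
      (h f hf)) (homologyMapDIso (ext A (Localization.Away f)) X i).symm
  haveI := ModuleCat.subsingleton_of_isZero hz
  have h1 : tm (B := Localization.Away f)
      ((DerivedCategory.homologyFunctor (ModuleCat.{u} A) i).obj X) 1 x = 0 :=
    Subsingleton.elim _ _
  have h2 : TensorProduct.mk A (Localization.Away f)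
      ((DerivedCategory.homologyFunctor (ModuleCat.{u} A) i).obj X) 1 x = 0 := by
    have h3 := congrArg (extEquiv (A := A) (B := Localization.Away f)
      ((DerivedCategory.homologyFunctor (ModuleCat.{u} A) i).obj X)) h1
    rw [map_zero] at h3
    exact h3
  obtain ⟨⟨s, n, rfl⟩, hs⟩ := (IsLocalizedModule.eq_zero_iff (Submonoid.powers f)
    (TensorProduct.mk A (Localization.Away f)
      ((DerivedCategory.homologyFunctor (ModuleCat.{u} A) i).obj X) 1)).1 h2
  exact ⟨n, hs⟩

end PTBase

section DoubleBC

open Groth.Agent.Lib.Helper1.Tor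

variable {A B : Type u} [CommRing A] [CommRing B] [Algebra A B]

/-- the two ways of base changing from `A` to `B_{φ f}`. -/
noncomputable def bcSquareIso (f : A) :
    ext A B ⋙ ext B (Localization.Away (algebraMap A B f)) ≅
      ext A (Localization.Away f) ⋙
        ModuleCat.extendScalars.{u, u, u} (IsLocalization.Away.map (Localization.Away f)
          (Localization.Away (algebraMap A B f)) (algebraMap A B) f) :=
  (ModuleCat.extendScalarsComp.{u} (algebraMap A B)
      (algebraMap B (Localization.Away (algebraMap A B f)))).symm ≪≫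
    eqToIso (congrArg (fun g => ModuleCat.extendScalars.{u, u, u} g)
      (IsLocalization.map_comp (M := Submonoid.powers f)
        (T := Submonoid.powers (algebraMap A B f)) (S := Localization.Away f)
        (Q := Localization.Away (algebraMap A B f)) _).symm) ≪≫
    ModuleCat.extendScalarsComp.{u} (algebraMap A (Localization.Away f))
      (IsLocalization.Away.map (Localization.Away f)
          (Localization.Away (algebraMap A B f)) (algebraMap A B) f)

/-- the induced isomorphism of complexes. -/
noncomputable def bcSquareCxIso (f : A) (E : DRing.Cx A) :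
    (extCx B (Localization.Away (algebraMap A B f))).obj ((extCx A B).obj E) ≅
      (bcCx (IsLocalization.Away.map (Localization.Away f)
          (Localization.Away (algebraMap A B f)) (algebraMap A B) f)).obj
        ((extCx A (Localization.Away f)).obj E) :=
  HomologicalComplex.Hom.isoOfComponents (fun i => (bcSquareIso (B := B) f).app (E.X i))
    (fun i j _ => ((bcSquareIso (B := B) f).hom.naturality (E.d i j)).symm)

/-- a bounded above complex of flat modules with `I`-power torsion cohomology dies after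
base change to `B` and inverting the image of an element of `I`. -/
lemma isZero_extD_away_Q_extCx (I : Ideal A) (f : A) (hf : f ∈ I) (E : DRing.Cx A) (b : ℤ)
    (hEb : DRing.VanishesAbove E b) (hEf : DRing.TermwiseFlat E)
    (hE : PT I ((Q : _ ⥤ Dual.D A).obj E)) :
    IsZero ((extD B (Localization.Away (algebraMap A B f))).obj
      ((Q : _ ⥤ Dual.D B).obj ((extCx A B).obj E))) := by
  have h1 : IsZero ((Q : _ ⥤ Dual.D (Localization.Away f)).obj
      ((extCx A (Localization.Away f)).obj E)) :=
    IsZero.of_iso (isZero_extD_away_of_PT I f hf _ hE)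
      (mapQIso (ext A (Localization.Away f)) E).symm
  have hex : ∀ j : ℤ, ((extCx A (Localization.Away f)).obj E).ExactAt j :=
    exactAt_of_isZero_Q _ h1
  have hex' : ∀ j : ℤ, ((bcCx (IsLocalization.Away.map (Localization.Away f)
      (Localization.Away (algebraMap A B f)) (algebraMap A B) f)).obj
        ((extCx A (Localization.Away f)).obj E)).ExactAt j := fun j =>
    exactAt_bc_of_flat _ _ b (vanishesAbove_bc (algebraMap A (Localization.Away f)) E b hEb)
      (termwiseFlat_bc (algebraMap A (Localization.Away f)) E hEf) (j - 1)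
      (fun k _ => hex k) j (by omega)
  have h2 := isZero_Q_of_exactAt _ hex'
  have h3 : IsZero ((Q : _ ⥤ Dual.D (Localization.Away (algebraMap A B f))).obj
      ((extCx B (Localization.Away (algebraMap A B f))).obj ((extCx A B).obj E))) :=
    IsZero.of_iso h2 (Q.mapIso (bcSquareCxIso (B := B) f E))
  exact IsZero.of_iso h3 (mapQIso (ext B (Localization.Away (algebraMap A B f))) _)

end DoubleBC

section General

variable {A B : Type u} [CommRing A] [CommRing B] [Algebra A B]

lemma PT_Q_extCx_extCech (I : Ideal A) (fs : List A) (hfs : Ideal.span {a : A | a ∈ fs} = I)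
    (N : ModuleCat.{u} A) [Module.Flat A N] :
    PT (I.map (algebraMap A B))
      ((Q : _ ⥤ Dual.D B).obj ((extCx A B).obj (extCech N fs))) := by
  have hmem : ∀ f ∈ fs, f ∈ I := fun f hf => hfs ▸ Ideal.subset_span hf
  have hE : PT I ((Q : _ ⥤ Dual.D A).obj (extCech N fs)) := by
    have h1 := PT_extCech fs N
    rw [hfs] at h1
    exact h1
  have h2 := PT_span_of_isZero_extD_away (fs.map (algebraMap A B))
    ((Q : _ ⥤ Dual.D B).obj ((extCx A B).obj (extCech N fs))) (fun g hg => by
      obtain ⟨f, hf, rfl⟩ := List.mem_map.1 hg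
      exact isZero_extD_away_Q_extCx I f (hmem f hf) _ _ (vanishesAbove_extCech N fs)
        (termwiseFlat_extCech N fs) hE)
  have h3 : Ideal.span {b : B | b ∈ fs.map (algebraMap A B)} = I.map (algebraMap A B) := by
    rw [← hfs, Ideal.map_span]
    congr 1
    ext b
    simp only [List.mem_map, Set.mem_ofPred_eq, Set.mem_image]
  rw [h3] at h2
  exact h2

/-- `B ⊗_A A[0] ≅ B[0]`. -/
noncomputable def extCxSingleIso :
    (Q : _ ⥤ Dual.D B).obj ((extCx A B).obj
      ((HomologicalComplex.single (ModuleCat.{u} A) (ComplexShape.up ℤ) 0).obj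
        (ModuleCat.of A A))) ≅ Dual.inD B B :=
  Q.mapIso ((HomologicalComplex.singleMapHomologicalComplex (ext A B) (ComplexShape.up ℤ) 0).app
      (ModuleCat.of A A) ≪≫
    (HomologicalComplex.single (ModuleCat.{u} B) (ComplexShape.up ℤ) 0).mapIso
      (extIso (A := A) (B := B) A ≪≫
        (TensorProduct.AlgebraTensorModule.rid A B B).toModuleIso)) ≪≫
    (DerivedCategory.singleFunctorIsoCompQ (ModuleCat.{u} B) 0).symm.app (ModuleCat.of B B)

end General

section Main

variable {A B : Type u} [CommRing A] [CommRing B] [IsNoetherianRing A] [IsNoetherianRing B]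
  (φ : A →+* B) [DRing.HasLBaseChange φ] (I : Ideal A) [DRing.HasRgammaI I]
  (J : Ideal B) [DRing.HasRgammaI J]

/-- `RΓ_I(A) ⊗^L_A B ≅ RΓ_J(B)` whenever `J` and `IB` have the same radical. -/
theorem nonempty_LBaseChange_RgammaI_iso (hJ1 : I.map φ ≤ J) (hJ2 : J ≤ (I.map φ).radical) :
    Nonempty ((DRing.LBaseChange φ).obj ((DRing.RgammaI I).obj (Dual.inD A A)) ≅
      (DRing.RgammaI J).obj (Dual.inD B B)) := by
  classical
  letI : Algebra A B := φ.toAlgebra
  obtain ⟨s, hs'⟩ := (isNoetherianRing_iff_ideal_fg A).1 inferInstance I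
  let fs : List A := s.toList
  have hfs : ∀ f ∈ fs, f ∈ I := fun f hf => by
    rw [← hs']
    exact Ideal.subset_span (Finset.mem_coe.2 (Finset.mem_toList.1 hf))
  have hspan : Ideal.span {a : A | a ∈ fs} = I := by
    rw [← hs']
    congr 1
    ext a
    simp [fs]
  let N' : ModuleCat.{u} A := ModuleCat.of A A
  haveI : Module.Flat A N' := inferInstanceAs (Module.Flat A A)
  let E : DRing.Cx A := DerCA.extCech N' fs
  -- step 1: `RΓ_I(A) ≅ Q E`
  let e₁ : Dual.inD A A ≅ (Q : _ ⥤ Dual.D A).obj
      ((HomologicalComplex.single (ModuleCat.{u} A) (ComplexShape.up ℤ) 0).obj N') :=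
    (DerivedCategory.singleFunctorIsoCompQ (ModuleCat.{u} A) 0).app N'
  have hβ : PTBij I ((Q : _ ⥤ Dual.D A).map (aug N' fs) ≫ e₁.inv) :=
    (ptBij_Q_aug I N' fs hfs).comp (PTBij.of_isIso _)
  have hE : PT I ((Q : _ ⥤ Dual.D A).obj E) := by
    have h1 := PT_extCech fs N'
    rw [hspan] at h1
    exact h1
  obtain ⟨i₁⟩ := nonempty_iso_RgammaI_of_PTBij I _ hE hβ
  -- step 2: `LBaseChange (Q E) ≅ Q (B ⊗ E)`
  obtain ⟨i₂⟩ := nonempty_lbc_iso_of_flat φ E _ (vanishesAbove_extCech N' fs)
    (termwiseFlat_extCech N' fs)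
  -- step 3: `Q (B ⊗ E) ≅ RΓ_J(B)`
  have hX : PT J ((Q : _ ⥤ Dual.D B).obj ((extCx A B).obj E)) :=
    PT_of_le_radical ((isNoetherianRing_iff_ideal_fg B).1 inferInstance J) hJ2 _
      (PT_Q_extCx_extCech I fs hspan N')
  have hγ : PTBij J ((Q : _ ⥤ Dual.D B).map ((extCx A B).map (aug N' fs)) ≫
      (extCxSingleIso (A := A) (B := B)).hom) :=
    PTBij_of_le hJ1 _ ((ptBij_Q_extCx_aug I N' fs hfs).comp (PTBij.of_isIso _))
  obtain ⟨i₃⟩ := nonempty_iso_RgammaI_of_PTBij J _ hX hγ
  exact ⟨(DRing.LBaseChange φ).mapIso i₁.symm ≪≫ i₂ ≪≫ i₃⟩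

end Main

end Groth.Agent.Lib.T2H4.FrobRG
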