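import Groth.Agent.Lib.T2H4GammaNoeth

/-!
# `RΓ_I` is right adjoint to the inclusion of complexes with `I`-power torsion cohomology
(Noetherian case) (helper4)
-/

set_option autoImplicit false
universe u
open CategoryTheory CategoryTheory.Limits DerivedCategory
attribute [local instance] HasDerivedCategory.standard

namespace Groth.Agent.Lib.T2H4.GNoeth

open Groth.Agent.Lib.Helper17.KInj Groth.Agent.Lib.T2H4.DComp Groth.Agent.Lib.T2H4.RGam

section Tors

variable {A : Type u} [CommRing A] (I : Ideal A)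

lemma isPowerTorsion_of_linearEquiv {M N : Type u} [AddCommGroup M] [Module A M] [AddCommGroup N]
    [Module A N] (e : M ≃ₗ[A] N) (h : LocCoh.IsPowerTorsion I M) : LocCoh.IsPowerTorsion I N := by
  intro x
  obtain ⟨n, hn⟩ := h (e.symm x)
  refine ⟨n, fun a ha => ?_⟩
  have h1 := congrArg e (hn a ha)
  rw [map_smul, LinearEquiv.apply_symm_apply, map_zero] at h1
  exact h1

/-- the property of having `I`-power torsion cohomology. -/
abbrev PT : ObjectProperty (Dual.D A) :=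
  fun L : Dual.D A => ∀ i : ℤ, LocCoh.IsPowerTorsion I (Dual.HD A L i)

lemma PT.of_iso {K K' : Dual.D A} (e : K ≅ K') (h : PT I K) : PT I K' := fun i =>
  isPowerTorsion_of_linearEquiv I
    ((DerivedCategory.homologyFunctor (ModuleCat.{u} A) i).mapIso e).toLinearEquiv (h i)

/-- a complex all of whose elements are `I`-power torsion has `I`-power torsion cohomology. -/
lemma PT_Q_of_forall_mem (C : CochainComplex (ModuleCat.{u} A) ℤ)
    (hC : ∀ (n : ℤ) (x : C.X n), x ∈ DRing.torsionSub I (C.X n)) :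
    PT I ((Q : _ ⥤ Dual.D A).obj C) := by
  intro i x
  obtain ⟨c, hc⟩ := Submodule.Quotient.mk_surjective _ (homologyEquiv C i x)
  obtain ⟨n, hn⟩ := hC i c.1
  refine ⟨n, fun a ha => ?_⟩
  apply (homologyEquiv C i).injective
  rw [map_smul, map_zero, ← hc, ← Submodule.Quotient.mk_smul]
  have h1 : a • c = 0 := Subtype.ext (hn a ha)
  rw [h1, Submodule.Quotient.mk_zero]

lemma mem_torsionSub_gammaCx (J : CochainComplex (ModuleCat.{u} A) ℤ) (n : ℤ)
    (x : ((gammaCx I).obj J).X n) : x ∈ DRing.torsionSub I (((gammaCx I).obj J).X n) := by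
  obtain ⟨k, hk⟩ := (x : DRing.torsionSub I (J.X n)).2
  exact ⟨k, fun a ha => Subtype.ext (hk a ha)⟩

lemma quasiIso_ιΓ_of_forall_mem (C : CochainComplex (ModuleCat.{u} A) ℤ)
    (hC : ∀ (n : ℤ) (x : C.X n), x ∈ DRing.torsionSub I (C.X n)) : QuasiIso (ιΓ I C) :=
  quasiIso_ιΓ I C
    (fun i j k _ _ z hz => ⟨z, hC j z, hz, 0, by rw [sub_self, map_zero]⟩)
    (fun i j _ z' _ ⟨w, hw⟩ => ⟨w, hC i w, hw⟩)

/-- naturality of `Γ_I C ⊆ C`. -/
lemma ιΓ_naturality {C D : CochainComplex (ModuleCat.{u} A) ℤ} (φ : C ⟶ D) :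
    (gammaCx I).map φ ≫ ιΓ I D = ιΓ I C ≫ φ := by
  ext n x
  rfl

lemma gammaCx_map_ιΓ (J : CochainComplex (ModuleCat.{u} A) ℤ) :
    (gammaCx I).map (ιΓ I J) = ιΓ I ((gammaCx I).obj J) := by
  ext n x
  rfl

end Tors

section Idem

variable {A : Type u} [CommRing A] [IsNoetherianRing A] (I : Ideal A) [DRing.HasRgammaI I]

/-- `Γ_I J` is `Γ_I`-acyclic: the unit `Q(Γ_I Γ_I J) ⟶ RΓ_I(Q(Γ_I J))` is an isomorphism. -/
lemma isIso_βΓ_app_gammaCx (J : CochainComplex (ModuleCat.{u} A) ℤ) :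
    IsIso ((βΓ I).app ((gammaCx I).obj J)) := by
  set C := (gammaCx I).obj J with hC
  let J₁ := (fibRepl₀.{u} (ModuleCat.{u} A)).obj C
  let q : C ⟶ J₁ := (fibReplι₀.{u} (ModuleCat.{u} A)).app C
  have hJ₁ : fibrant.{u} (ModuleCat.{u} A) J₁ := fibrant_fibRepl₀ _ C
  haveI : QuasiIso q := (trivCof_fibReplι₀ _ C).2
  haveI hq : IsIso ((Q : _ ⥤ Dual.D A).map q) := by
    rw [DerivedCategory.isIso_Q_map_iff_quasiIso]
    infer_instance
  have hCt := mem_torsionSub_gammaCx I J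
  haveI : QuasiIso (ιΓ I C) := quasiIso_ιΓ_of_forall_mem I C hCt
  haveI : QuasiIso (ιΓ I J₁) :=
    quasiIso_ιΓ_of_isPowerTorsion I J₁ (fun n => injective_X_of_rlp hJ₁ n)
      (PT.of_iso I (asIso ((Q : _ ⥤ Dual.D A).map q)) (PT_Q_of_forall_mem I C hCt))
  haveI : IsIso ((Q : _ ⥤ Dual.D A).map (ιΓ I C)) := by
    rw [DerivedCategory.isIso_Q_map_iff_quasiIso]
    infer_instance
  haveI : IsIso ((Q : _ ⥤ Dual.D A).map (ιΓ I J₁)) := by
    rw [DerivedCategory.isIso_Q_map_iff_quasiIso]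
    infer_instance
  haveI hΓq : IsIso ((Q : _ ⥤ Dual.D A).map ((gammaCx I).map q)) := by
    have h1 : (Q : _ ⥤ Dual.D A).map ((gammaCx I).map q) ≫ Q.map (ιΓ I J₁) =
        Q.map (ιΓ I C) ≫ Q.map q := by
      rw [← Functor.map_comp, ← Functor.map_comp, ιΓ_naturality]
    have h2 : (Q : _ ⥤ Dual.D A).map ((gammaCx I).map q) =
        (Q.map (ιΓ I C) ≫ Q.map q) ≫ inv (Q.map (ιΓ I J₁)) := by
      rw [← h1, Category.assoc, IsIso.hom_inv_id, Category.comp_id]
    rw [h2]
    infer_instance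
  haveI := isIso_βΓ_app I J₁ hJ₁
  have hn := (βΓ I).naturality q
  haveI : IsIso ((Q ⋙ DRing.RgammaI I).map q) := by
    show IsIso ((DRing.RgammaI I).map ((Q : _ ⥤ Dual.D A).map q))
    infer_instance
  have h3 : (βΓ I).app C = (gammaCx I ⋙ Q).map q ≫ (βΓ I).app J₁ ≫
      inv ((Q ⋙ DRing.RgammaI I).map q) := by
    rw [← Category.assoc, hn, Category.assoc, IsIso.hom_inv_id, Category.comp_id]
  rw [h3]
  haveI : IsIso ((gammaCx I ⋙ Q).map q) := hΓq
  infer_instance

/-- `RΓ_I(ε)` is an isomorphism on `Q(J)`, `J` fibrant. -/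
lemma isIso_RgammaI_map_ε_Q (J : CochainComplex (ModuleCat.{u} A) ℤ)
    (hJ : fibrant.{u} (ModuleCat.{u} A) J) :
    IsIso ((DRing.RgammaI I).map ((DRing.RgammaIε I).app (Q.obj J))) := by
  rw [RgammaIε_app_Q I J hJ, Functor.map_comp]
  haveI := isIso_βΓ_app I J hJ
  haveI := isIso_βΓ_app_gammaCx I J
  have hn := (βΓ I).naturality (ιΓ I J)
  haveI : QuasiIso ((gammaCx I).map (ιΓ I J)) := by
    rw [gammaCx_map_ιΓ]
    exact quasiIso_ιΓ_of_forall_mem I _ (mem_torsionSub_gammaCx I J)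
  haveI : IsIso ((gammaCx I ⋙ Q).map (ιΓ I J)) := by
    show IsIso ((Q : _ ⥤ Dual.D A).map ((gammaCx I).map (ιΓ I J)))
    rw [DerivedCategory.isIso_Q_map_iff_quasiIso]
    infer_instance
  have h1 : (DRing.RgammaI I).map (Q.map (ιΓ I J)) =
      inv ((βΓ I).app ((gammaCx I).obj J)) ≫ (gammaCx I ⋙ Q).map (ιΓ I J) ≫ (βΓ I).app J := by
    rw [hn, IsIso.inv_hom_id_assoc]
    rfl
  rw [h1]
  infer_instance

omit [IsNoetherianRing A] in
lemma RgammaIε_app_eq {K K' : Dual.D A} (e : K ≅ K') :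
    (DRing.RgammaIε I).app K =
      (DRing.RgammaI I).map e.hom ≫ (DRing.RgammaIε I).app K' ≫ e.inv := by
  have hnat := (DRing.RgammaIε I).naturality e.hom
  rw [← Category.assoc, hnat, Category.assoc]
  simp

/-- `RΓ_I(ε_K)` is an isomorphism. -/
lemma isIso_RgammaI_map_ε (K : Dual.D A) :
    IsIso ((DRing.RgammaI I).map ((DRing.RgammaIε I).app K)) := by
  obtain ⟨J, hJ, ⟨e⟩⟩ := exists_fibrant K
  haveI := isIso_RgammaI_map_ε_Q I J hJ
  rw [RgammaIε_app_eq I e, Functor.map_comp, Functor.map_comp]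
  infer_instance

omit [IsNoetherianRing A] in
/-- `RΓ_I K` has `I`-power torsion cohomology. -/
lemma PT_RgammaI (K : Dual.D A) : PT I ((DRing.RgammaI I).obj K) := by
  obtain ⟨J, hJ, ⟨e⟩⟩ := exists_fibrant K
  exact PT.of_iso I ((DRing.RgammaI I).mapIso e ≪≫ RgammaQIso I J hJ).symm
    (PT_Q_of_forall_mem I _ (mem_torsionSub_gammaCx I J))

end Idem

section Adj

variable {A : Type u} [CommRing A] [IsNoetherianRing A] (I : Ideal A) [DRing.HasRgammaI I]

lemma comp_ε_injective (L K : Dual.D A) (hL : PT I L)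
    (φ₁ φ₂ : L ⟶ (DRing.RgammaI I).obj K)
    (h : φ₁ ≫ (DRing.RgammaIε I).app K = φ₂ ≫ (DRing.RgammaIε I).app K) : φ₁ = φ₂ := by
  haveI := isIso_RgammaI_map_ε I K
  haveI := isIso_RgammaIε_app_of_torsion I L hL
  have h1 : (DRing.RgammaI I).map φ₁ = (DRing.RgammaI I).map φ₂ := by
    have h2 := congrArg (DRing.RgammaI I).map h
    rw [Functor.map_comp, Functor.map_comp] at h2
    exact (cancel_mono _).1 h2
  have n1 := (DRing.RgammaIε I).naturality φ₁
  have n2 := (DRing.RgammaIε I).naturality φ₂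
  rw [h1] at n1
  have h3 : (DRing.RgammaIε I).app L ≫ φ₁ = (DRing.RgammaIε I).app L ≫ φ₂ := by
    have := n1.symm.trans n2
    simpa using this
  exact (cancel_epi _).1 h3

/-- the hom-set bijection of the adjunction. -/
noncomputable def adjEquiv (h : ∀ K : Dual.D A, PT I ((DRing.RgammaI I).obj K))
    (L : (PT I).FullSubcategory) (K : Dual.D A) :
    ((PT I).ι.obj L ⟶ K) ≃ (L ⟶ ((PT I).lift (DRing.RgammaI I) h).obj K) where
  toFun ψ :=
    haveI := isIso_RgammaIε_app_of_torsion I L.obj L.property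
    ObjectProperty.homMk (inv ((DRing.RgammaIε I).app L.obj) ≫ (DRing.RgammaI I).map ψ)
  invFun φ := φ.hom ≫ (DRing.RgammaIε I).app K
  left_inv ψ := by
    haveI := isIso_RgammaIε_app_of_torsion I L.obj L.property
    have n1 : (DRing.RgammaI I).map ψ ≫ (DRing.RgammaIε I).app K =
        (DRing.RgammaIε I).app L.obj ≫ ψ := (DRing.RgammaIε I).naturality ψ
    show (inv ((DRing.RgammaIε I).app L.obj) ≫ (DRing.RgammaI I).map ψ) ≫
      (DRing.RgammaIε I).app K = ψ
    rw [Category.assoc, n1, IsIso.inv_hom_id_assoc]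
  right_inv φ := by
    haveI := isIso_RgammaIε_app_of_torsion I L.obj L.property
    apply ObjectProperty.hom_ext
    apply comp_ε_injective I L.obj K L.property
    have n1 : (DRing.RgammaI I).map (φ.hom ≫ (DRing.RgammaIε I).app K) ≫
        (DRing.RgammaIε I).app K =
        (DRing.RgammaIε I).app L.obj ≫ (φ.hom ≫ (DRing.RgammaIε I).app K) :=
      (DRing.RgammaIε I).naturality (φ.hom ≫ (DRing.RgammaIε I).app K)
    show (inv ((DRing.RgammaIε I).app L.obj) ≫
      (DRing.RgammaI I).map (φ.hom ≫ (DRing.RgammaIε I).app K)) ≫ (DRing.RgammaIε I).app K =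
        φ.hom ≫ (DRing.RgammaIε I).app K
    rw [Category.assoc, n1, IsIso.inv_hom_id_assoc]

/-- **`RΓ_I` is right adjoint to the inclusion of the complexes with `I`-power torsion
cohomology.** -/
theorem nonempty_adjunction (h : ∀ K : Dual.D A, PT I ((DRing.RgammaI I).obj K)) :
    Nonempty ((PT I).ι ⊣ (PT I).lift (DRing.RgammaI I) h) := by
  refine ⟨Adjunction.mkOfHomEquiv
    { homEquiv := adjEquiv I h
      homEquiv_naturality_left_symm := ?_
      homEquiv_naturality_right := ?_ }⟩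
  · intro L' L K f g
    show (f ≫ g).hom ≫ (DRing.RgammaIε I).app K = f.hom ≫ g.hom ≫ (DRing.RgammaIε I).app K
    rw [ObjectProperty.FullSubcategory.comp_hom, Category.assoc]
  · intro L K K' f g
    apply ObjectProperty.hom_ext
    haveI := isIso_RgammaIε_app_of_torsion I L.obj L.property
    show inv ((DRing.RgammaIε I).app L.obj) ≫ (DRing.RgammaI I).map (f ≫ g) =
      (inv ((DRing.RgammaIε I).app L.obj) ≫ (DRing.RgammaI I).map f) ≫ (DRing.RgammaI I).map g
    rw [Functor.map_comp, Category.assoc]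

end Adj

end Groth.Agent.Lib.T2H4.GNoeth
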