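import Groth.Agent.Lib.T2H4GammaAdj
import Groth.Agent.Lib.Helper1BKF1
import Mathlib.RingTheory.Filtration

/-!
# `RΓ_J ∘ RΓ_I ≅ RΓ_{I+J}` over a Noetherian ring (helper4)
-/

set_option autoImplicit false
universe u
open CategoryTheory CategoryTheory.Limits DerivedCategory
attribute [local instance] HasDerivedCategory.standard

namespace Groth.Agent.Lib.T2H4.GNoeth

open Groth.Agent.Lib.Helper17.KInj Groth.Agent.Lib.T2H4.DComp Groth.Agent.Lib.T2H4.RGam

section Inj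

variable {A : Type u} [CommRing A]

lemma exists_pow_forall_smul_eq_zero (I : Ideal A) {M : Type u} [AddCommGroup M] [Module A M]
    (N : Submodule A M) (hN : N.FG) (h : ∀ x ∈ N, x ∈ DRing.torsionSub I M) :
    ∃ n : ℕ, ∀ x ∈ N, ∀ a ∈ I ^ n, a • x = 0 := by
  classical
  obtain ⟨s, rfl⟩ := hN
  have h' : ∀ x, x ∈ (s : Set M) → ∃ n : ℕ, ∀ a ∈ I ^ n, a • x = 0 :=
    fun x hx => h x (Submodule.subset_span hx)
  choose! n hn using h'
  refine ⟨s.sup n, fun x hx a ha => ?_⟩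
  induction hx using Submodule.span_induction with
  | mem x hx => exact hn x hx a (Ideal.pow_le_pow_right (Finset.le_sup (f := n) hx) ha)
  | zero => exact smul_zero a
  | add x y _ _ hx hy => rw [smul_add, hx, hy, add_zero]
  | smul r x _ hx => rw [smul_comm, hx, smul_zero]

/-- `Γ_I` of an injective module over a Noetherian ring is injective. -/
lemma injective_torsionSub [IsNoetherianRing A] (I : Ideal A) (E : Type u) [AddCommGroup E]
    [Module A E] [Module.Injective A E] : Module.Injective A (DRing.torsionSub I E) := by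
  apply Module.Baer.injective
  intro 𝔞 g
  let g' : 𝔞 →ₗ[A] E := (DRing.torsionSub I E).subtype ∘ₗ g
  have hfg : (LinearMap.range g').FG := by
    rw [LinearMap.range_eq_map]
    exact Submodule.FG.map _ ((Submodule.fg_top _).2 (IsNoetherian.noetherian 𝔞))
  obtain ⟨n, hn⟩ := exists_pow_forall_smul_eq_zero I (LinearMap.range g') hfg (by
    rintro _ ⟨x, rfl⟩
    exact (g x).2)
  obtain ⟨k, hk⟩ := Ideal.exists_pow_inf_eq_pow_smul I (𝔞 : Submodule A A)
  have hker : ∀ y ∈ (I ^ n • (I ^ k • ⊤ ⊓ 𝔞) : Submodule A A), ∃ hy : y ∈ 𝔞, g' ⟨y, hy⟩ = 0 := by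
    intro y hy
    refine Submodule.smul_induction_on hy ?_ ?_
    · intro a ha y hy
      refine ⟨𝔞.smul_mem a hy.2, ?_⟩
      have h1 : (⟨a • y, 𝔞.smul_mem a hy.2⟩ : 𝔞) = a • ⟨y, hy.2⟩ := rfl
      rw [h1, map_smul]
      exact hn _ ⟨_, rfl⟩ a ha
    · intro x y hx hy
      obtain ⟨hx1, hx2⟩ := hx
      obtain ⟨hy1, hy2⟩ := hy
      refine ⟨𝔞.add_mem hx1 hy1, ?_⟩
      have h1 : (⟨x + y, 𝔞.add_mem hx1 hy1⟩ : 𝔞) = ⟨x, hx1⟩ + ⟨y, hy1⟩ := rfl
      rw [h1, map_add, hx2, hy2, add_zero]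
  have hker' : ∀ x : 𝔞, (x : A) ∈ I ^ (n + k) → g' x = 0 := by
    intro x hx
    have h1 : (x : A) ∈ (I ^ (n + k) • ⊤ ⊓ 𝔞 : Submodule A A) := by
      refine ⟨?_, x.2⟩
      rw [Ideal.smul_top_eq_map, Algebra.algebraMap_self, Ideal.map_id]
      exact hx
    rw [hk (n + k) (Nat.le_add_left k n), Nat.add_sub_cancel] at h1
    obtain ⟨_, h2⟩ := hker _ h1
    exact h2
  -- the injective map `𝔞/(𝔞 ∩ I^(n+k)) → A/I^(n+k)`
  let 𝔞' : Submodule A 𝔞 := Submodule.comap 𝔞.subtype (I ^ (n + k))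
  let ι : (𝔞 ⧸ 𝔞') →ₗ[A] (A ⧸ (I ^ (n + k) : Submodule A A)) :=
    Submodule.mapQ 𝔞' _ 𝔞.subtype le_rfl
  have hι : Function.Injective ι := by
    rw [← LinearMap.ker_eq_bot, LinearMap.ker_eq_bot']
    intro x hx
    obtain ⟨x, rfl⟩ := Submodule.Quotient.mk_surjective _ x
    have h1 : (Submodule.Quotient.mk (x : A) : A ⧸ (I ^ (n + k) : Submodule A A)) = 0 := hx
    rw [Submodule.Quotient.mk_eq_zero] at h1 ⊢
    exact h1
  let gq : (𝔞 ⧸ 𝔞') →ₗ[A] E := Submodule.liftQ 𝔞' g' (fun x hx => hker' x hx)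
  obtain ⟨h, hh⟩ := Module.Injective.out ι hι gq
  have he : h (Submodule.Quotient.mk 1) ∈ DRing.torsionSub I E := by
    refine ⟨n + k, fun b hb => ?_⟩
    rw [← map_smul, ← Submodule.Quotient.mk_smul, smul_eq_mul, mul_one]
    have : (Submodule.Quotient.mk b : A ⧸ (I ^ (n + k) : Submodule A A)) = 0 := by
      rw [Submodule.Quotient.mk_eq_zero]
      exact hb
    rw [this, map_zero]
  refine ⟨LinearMap.toSpanSingleton A _ ⟨h (Submodule.Quotient.mk 1), he⟩, fun x hx => ?_⟩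
  apply Subtype.ext
  show x • h (Submodule.Quotient.mk 1) = g' ⟨x, hx⟩
  rw [← map_smul, ← Submodule.Quotient.mk_smul, smul_eq_mul, mul_one]
  have h2 : (Submodule.Quotient.mk x : A ⧸ (I ^ (n + k) : Submodule A A)) =
      ι (Submodule.Quotient.mk ⟨x, hx⟩) := rfl
  rw [h2, hh]
  rfl

end Inj

section Acyc

variable {A : Type u} [CommRing A] [IsNoetherianRing A]

open Groth.Agent.Lib.Helper1.BKF

lemma injective_gammaCx_X (I : Ideal A) (C : CochainComplex (ModuleCat.{u} A) ℤ)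
    (hC : ∀ n, Injective (C.X n)) (n : ℤ) : Injective (((gammaCx I).obj C).X n) := by
  haveI : Injective (ModuleCat.of A (C.X n)) := hC n
  haveI : Module.Injective A (C.X n) := Module.injective_module_of_injective_object A (C.X n)
  haveI := injective_torsionSub I (C.X n)
  exact Module.injective_object_of_injective_module A (DRing.torsionSub I (C.X n))

/-- `Γ_𝔟` preserves acyclicity of complexes of injectives. -/
lemma acyclic_gammaCx (𝔟 : Ideal A) (T : CochainComplex (ModuleCat.{u} A) ℤ)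
    (hT : ∀ n, Injective (T.X n)) (hac : T.Acyclic) : ((gammaCx 𝔟).obj T).Acyclic := by
  have hex : ∀ (i j k : ℤ) (_ : i + 1 = j) (_ : j + 1 = k) (z : T.X j), (T.d j k).hom z = 0 →
      ∃ w : T.X i, (T.d i j).hom w = z := by
    intro i j k hij hjk z hz
    have h1 := (T.exactAt_iff' i j k (by simp [← hij]) (by simp [← hjk])).1 (hac j)
    rw [ShortComplex.moduleCat_exact_iff] at h1
    exact h1 z hz
  obtain ⟨s, hs⟩ := (isNoetherianRing_iff_ideal_fg A).1 inferInstance 𝔟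
  have h := ps_pi_span (div_of_injective T hT) s (fun f _ i j k hij hjk z hz => by
    obtain ⟨w, hw⟩ := hex i j k hij hjk z hz
    exact ⟨0, w, by rw [pow_zero, one_smul, hw]⟩)
  rw [hs] at h
  intro j
  rw [((gammaCx 𝔟).obj T).exactAt_iff' (j - 1) j (j + 1) (by simp) (by simp),
    ShortComplex.moduleCat_exact_iff]
  intro (x : DRing.torsionSub 𝔟 (T.X j)) hx
  have hx' : (T.d j (j + 1)).hom x.1 = 0 := congrArg Subtype.val hx
  obtain ⟨w, hw⟩ := hex (j - 1) j (j + 1) (by lia) rfl x.1 hx'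
  obtain ⟨w', hw't, hw'⟩ := h.2 (j - 1) j (by lia) x.1 x.2 ⟨w, hw⟩
  exact ⟨(⟨w', hw't⟩ : DRing.torsionSub 𝔟 (T.X (j - 1))), Subtype.ext hw'⟩

omit [IsNoetherianRing A] in
lemma injective_mappingCone_X {C D : CochainComplex (ModuleCat.{u} A) ℤ} (φ : C ⟶ D)
    (hC : ∀ n, Injective (C.X n)) (hD : ∀ n, Injective (D.X n)) (n : ℤ) :
    Injective ((CochainComplex.mappingCone φ).X n) := by
  haveI := hC (n + 1)
  haveI := hD n
  exact Injective.of_iso
    (HomologicalComplex.homotopyCofiber.XIsoBiprod φ n (n + 1) rfl).symm inferInstance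

/-- `Γ_𝔟` preserves quasi-isomorphisms between complexes of injectives. -/
lemma quasiIso_gammaCx_map (𝔟 : Ideal A) {C D : CochainComplex (ModuleCat.{u} A) ℤ} (φ : C ⟶ D)
    [QuasiIso φ] (hC : ∀ n, Injective (C.X n)) (hD : ∀ n, Injective (D.X n)) :
    QuasiIso ((gammaCx 𝔟).map φ) := by
  apply quasiIso_of_acyc_cone
  have h1 : (CochainComplex.mappingCone φ).Acyclic :=
    (acyc_iff_acyclic _).1 (acyc_cone_of_quasiIso φ)
  have h2 := acyclic_gammaCx 𝔟 _ (injective_mappingCone_X φ hC hD) h1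
  exact Acyc.of_iso (CochainComplex.mappingCone.mapHomologicalComplexIso φ (DRing.gammaI 𝔟))
    ((acyc_iff_acyclic _).2 h2)

end Acyc

section Comp

variable {A : Type u} [CommRing A]

lemma mem_torsionSub_sup (I J : Ideal A) (M : Type u) [AddCommGroup M] [Module A M] (x : M) :
    x ∈ DRing.torsionSub (I ⊔ J) M ↔ x ∈ DRing.torsionSub I M ∧ x ∈ DRing.torsionSub J M := by
  constructor
  · rintro ⟨n, hn⟩
    exact ⟨⟨n, fun a ha => hn a (Ideal.pow_right_mono le_sup_left n ha)⟩,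
      ⟨n, fun a ha => hn a (Ideal.pow_right_mono le_sup_right n ha)⟩⟩
  · rintro ⟨⟨n, hn⟩, ⟨k, hk⟩⟩
    refine ⟨n + k, fun a ha => ?_⟩
    have h1 := Ideal.sup_pow_add_le_pow_sup_pow (I := I) (J := J) (n := n) (m := k) ha
    obtain ⟨b, hb, c, hc, rfl⟩ := Submodule.mem_sup.1 h1
    rw [add_smul, hn b hb, hk c hc, add_zero]

/-- `Γ_J(Γ_I M) ≃ Γ_{I+J} M`. -/
def torsionTorsionEquiv (I J : Ideal A) (M : Type u) [AddCommGroup M] [Module A M] :
    DRing.torsionSub J (DRing.torsionSub I M) ≃ₗ[A] DRing.torsionSub (I ⊔ J) M where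
  toFun x := ⟨x.1.1, (mem_torsionSub_sup I J M x.1.1).2 ⟨x.1.2, by
    obtain ⟨k, hk⟩ := x.2
    exact ⟨k, fun a ha => congrArg Subtype.val (hk a ha)⟩⟩⟩
  invFun y := ⟨⟨y.1, ((mem_torsionSub_sup I J M y.1).1 y.2).1⟩, by
    obtain ⟨k, hk⟩ := ((mem_torsionSub_sup I J M y.1).1 y.2).2
    exact ⟨k, fun a ha => Subtype.ext (hk a ha)⟩⟩
  map_add' _ _ := rfl
  map_smul' _ _ := rfl
  left_inv _ := rfl
  right_inv _ := rfl

/-- `Γ_J(Γ_I C) ≅ Γ_{I+J} C` for complexes. -/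
noncomputable def gammaGammaIso (I J : Ideal A) (C : CochainComplex (ModuleCat.{u} A) ℤ) :
    (gammaCx J).obj ((gammaCx I).obj C) ≅ (gammaCx (I ⊔ J)).obj C :=
  HomologicalComplex.Hom.isoOfComponents
    (fun n => (torsionTorsionEquiv I J (C.X n)).toModuleIso) (by
      intro i j _
      ext x
      rfl)

variable [IsNoetherianRing A] (I J : Ideal A) [DRing.HasRgammaI I] [DRing.HasRgammaI J]
  [DRing.HasRgammaI (I ⊔ J)]

omit [DRing.HasRgammaI I] [DRing.HasRgammaI (I ⊔ J)] in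
/-- `Γ_I J₀` is `Γ_J`-acyclic. -/
lemma isIso_βΓ_app_gammaCx' (J₀ : CochainComplex (ModuleCat.{u} A) ℤ)
    (hJ₀ : ∀ n, Injective (J₀.X n)) :
    IsIso ((βΓ J).app ((gammaCx I).obj J₀)) := by
  set C := (gammaCx I).obj J₀ with hC
  let J₁ := (fibRepl₀.{u} (ModuleCat.{u} A)).obj C
  let q : C ⟶ J₁ := (fibReplι₀.{u} (ModuleCat.{u} A)).app C
  have hJ₁ : fibrant.{u} (ModuleCat.{u} A) J₁ := fibrant_fibRepl₀ _ C
  haveI : QuasiIso q := (trivCof_fibReplι₀ _ C).2
  haveI : QuasiIso ((gammaCx J).map q) :=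
    quasiIso_gammaCx_map J q (injective_gammaCx_X I J₀ hJ₀) (fun n => injective_X_of_rlp hJ₁ n)
  haveI : IsIso ((Q : _ ⥤ Dual.D A).map q) := by
    rw [DerivedCategory.isIso_Q_map_iff_quasiIso]
    infer_instance
  haveI : IsIso ((gammaCx J ⋙ Q).map q) := by
    show IsIso ((Q : _ ⥤ Dual.D A).map ((gammaCx J).map q))
    rw [DerivedCategory.isIso_Q_map_iff_quasiIso]
    infer_instance
  haveI : IsIso ((Q ⋙ DRing.RgammaI J).map q) := by
    show IsIso ((DRing.RgammaI J).map ((Q : _ ⥤ Dual.D A).map q))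
    infer_instance
  haveI := isIso_βΓ_app J J₁ hJ₁
  have hn := (βΓ J).naturality q
  have h3 : (βΓ J).app C = (gammaCx J ⋙ Q).map q ≫ (βΓ J).app J₁ ≫
      inv ((Q ⋙ DRing.RgammaI J).map q) := by
    rw [← Category.assoc, hn, Category.assoc, IsIso.hom_inv_id, Category.comp_id]
  rw [h3]
  infer_instance

/-- **`RΓ_J(RΓ_I K) ≅ RΓ_{I+J} K`** (Noetherian). -/
theorem nonempty_RgammaI_comp_iso (K : Dual.D A) :
    Nonempty ((DRing.RgammaI J).obj ((DRing.RgammaI I).obj K) ≅ (DRing.RgammaI (I ⊔ J)).obj K) := by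
  obtain ⟨J₀, hJ₀, ⟨e⟩⟩ := exists_fibrant K
  haveI := isIso_βΓ_app_gammaCx' I J J₀ (fun n => injective_X_of_rlp hJ₀ n)
  exact ⟨(DRing.RgammaI J).mapIso ((DRing.RgammaI I).mapIso e ≪≫ RgammaQIso I J₀ hJ₀) ≪≫
    (asIso ((βΓ J).app ((gammaCx I).obj J₀))).symm ≪≫
    (Q : _ ⥤ Dual.D A).mapIso (gammaGammaIso I J J₀) ≪≫
    (RgammaQIso (I ⊔ J) J₀ hJ₀).symm ≪≫ ((DRing.RgammaI (I ⊔ J)).mapIso e).symm⟩

end Comp

end Groth.Agent.Lib.T2H4.GNoeth
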