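import Groth.Agent.Lib.T2H4HDIRestrict

/-!
# `Γ_I`-acyclicity from divisibility along a ring map (helper4)

Variants of `step`, `ps_pi_span`, `acyclic_gammaCx_of_div`, `quasiIso_gammaCx_map_of_div`
where the divisibility modulo torsion is only required for extended ideals `I₀ B` and
elements `φ a`.
-/

set_option autoImplicit false
universe u v
open CategoryTheory CategoryTheory.Limits DerivedCategory
attribute [local instance] HasDerivedCategory.standard

namespace Groth.Agent.Lib.T2H4.GNoeth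

open Groth.Agent.Lib.Helper17.KInj Groth.Agent.Lib.T2H4.DComp Groth.Agent.Lib.T2H4.RGam
open Groth.Agent.Lib.Helper1.BKF

section DivAt

variable {A : Type u} [CommRing A] (J : CochainComplex (ModuleCat.{u} A) ℤ)

/-- divisibility modulo torsion at a single pair `(I', f)`. -/
def DivAt (I' : Ideal A) (f : A) : Prop :=
  ∀ (n : ℤ) (w : J.X n), w ∈ DRing.torsionSub I' (J.X n) → ∀ k : ℕ,
    ∃ w' ∈ DRing.torsionSub I' (J.X n), ∃ N : ℕ, f ^ N • (w - f ^ k • w') = 0

variable {J}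

lemma step' (I' : Ideal A) (f : A) (hdiv : DivAt J I' f) (hf : TF J f) (hS : PS J I')
    (hI : PI J I') : PS J (I' ⊔ Ideal.span {f}) ∧ PI J (I' ⊔ Ideal.span {f}) := by
  constructor
  · intro i j k hij hjk z hz
    obtain ⟨z', hz't, hz'c, w, hw⟩ := hS i j k hij hjk z hz
    obtain ⟨m, v, hv⟩ := hf i j k hij hjk z' hz'c
    obtain ⟨v', hv't, hv'⟩ := hI i j hij (f ^ m • z')
      ((DRing.torsionSub I' (J.X j)).smul_mem _ hz't) ⟨v, hv.symm⟩
    obtain ⟨v'', hv''t, N, hN⟩ := hdiv i v' hv't m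
    refine ⟨z' - (J.d i j).hom v'', ?_, ?_, w + v'', ?_⟩
    · rw [mem_torsionSub_sup_span_singleton]
      refine ⟨(DRing.torsionSub I' (J.X j)).sub_mem hz't (d_mem_torsionSub I' i j hv''t),
        N + m, ?_⟩
      have h1 : f ^ (N + m) • (z' - (J.d i j).hom v'') =
          (J.d i j).hom (f ^ N • (v' - f ^ m • v'')) := by
        rw [map_smul, map_sub, map_smul, hv', pow_add, mul_smul, smul_sub]
      rw [h1, hN, map_zero]
    · rw [map_sub, hz'c, d_d_apply, sub_zero]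
    · rw [map_add, ← hw]
      abel
  · intro i j hij z' hz' ⟨w, hw⟩
    rw [mem_torsionSub_sup_span_singleton] at hz'
    obtain ⟨hz't, k, hk⟩ := hz'
    obtain ⟨w₁, hw₁t, hw₁⟩ := hI i j hij z' hz't ⟨w, hw⟩
    have hc : (J.d i j).hom (f ^ k • w₁) = 0 := by rw [map_smul, hw₁, hk]
    obtain ⟨m, v, hv⟩ := hf (i - 1) i j (by lia) hij (f ^ k • w₁) hc
    obtain ⟨v₁, hv₁t, hv₁⟩ := hI (i - 1) i (by lia) (f ^ m • f ^ k • w₁)
      ((DRing.torsionSub I' (J.X i)).smul_mem _ ((DRing.torsionSub I' (J.X i)).smul_mem _ hw₁t))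
      ⟨v, hv.symm⟩
    obtain ⟨v₂, hv₂t, N, hN⟩ := hdiv (i - 1) v₁ hv₁t (m + k)
    refine ⟨w₁ - (J.d (i - 1) i).hom v₂, ?_, ?_⟩
    · rw [mem_torsionSub_sup_span_singleton]
      refine ⟨(DRing.torsionSub I' (J.X i)).sub_mem hw₁t (d_mem_torsionSub I' (i - 1) i hv₂t),
        N + (m + k), ?_⟩
      have h1 : f ^ (N + (m + k)) • (w₁ - (J.d (i - 1) i).hom v₂) =
          (J.d (i - 1) i).hom (f ^ N • (v₁ - f ^ (m + k) • v₂)) := by
        rw [map_smul, map_sub, map_smul, hv₁, pow_add f N, mul_smul, smul_sub, pow_add f m,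
          mul_smul]
      rw [h1, hN, map_zero]
    · rw [map_sub, hw₁, d_d_apply, sub_zero]

variable {A₀ : Type v} [CommRing A₀] (φ : A₀ →+* A)

lemma ps_pi_span_map (hdiv : ∀ (I₀ : Ideal A₀) (a : A₀), DivAt J (I₀.map φ) (φ a))
    (s : Finset A₀) :
    (∀ a ∈ s, TF J (φ a)) →
      PS J ((Ideal.span (s : Set A₀)).map φ) ∧ PI J ((Ideal.span (s : Set A₀)).map φ) := by
  classical
  induction s using Finset.induction_on with
  | empty =>
    intro _
    rw [Finset.coe_empty, Ideal.span_empty, Ideal.map_bot]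
    exact ps_pi_bot
  | insert a s has ih =>
    intro h
    have h1 := ih (fun g hg => h g (Finset.mem_insert_of_mem hg))
    have h2 := step' ((Ideal.span (s : Set A₀)).map φ) (φ a) (hdiv _ a)
      (h a (Finset.mem_insert_self a s)) h1.1 h1.2
    have h3 : (Ideal.span ((insert a s : Finset A₀) : Set A₀)).map φ =
        (Ideal.span (s : Set A₀)).map φ ⊔ Ideal.span {φ a} := by
      rw [Finset.coe_insert, Ideal.span_insert, Ideal.map_sup, Ideal.map_span,
        Set.image_singleton, sup_comm]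
    rw [h3]
    exact h2

/-- `Γ_{I₀B}` preserves acyclicity of complexes with the divisibility property along `φ`. -/
lemma acyclic_gammaCx_of_divAt [IsNoetherianRing A₀] (I₀ : Ideal A₀)
    (T : CochainComplex (ModuleCat.{u} A) ℤ)
    (hT : ∀ (I₀ : Ideal A₀) (a : A₀), DivAt T (I₀.map φ) (φ a)) (hac : T.Acyclic) :
    ((gammaCx (I₀.map φ)).obj T).Acyclic := by
  have hex : ∀ (i j k : ℤ) (_ : i + 1 = j) (_ : j + 1 = k) (z : T.X j), (T.d j k).hom z = 0 →
      ∃ w : T.X i, (T.d i j).hom w = z := by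
    intro i j k hij hjk z hz
    have h1 := (T.exactAt_iff' i j k (by simp [← hij]) (by simp [← hjk])).1 (hac j)
    rw [ShortComplex.moduleCat_exact_iff] at h1
    exact h1 z hz
  obtain ⟨s, hs⟩ := (isNoetherianRing_iff_ideal_fg A₀).1 inferInstance I₀
  have h := ps_pi_span_map φ hT s (fun f _ i j k hij hjk z hz => by
    obtain ⟨w, hw⟩ := hex i j k hij hjk z hz
    exact ⟨0, w, by rw [pow_zero, one_smul, hw]⟩)
  rw [hs] at h
  intro j
  rw [((gammaCx (I₀.map φ)).obj T).exactAt_iff' (j - 1) j (j + 1) (by simp) (by simp),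
    ShortComplex.moduleCat_exact_iff]
  intro (x : DRing.torsionSub (I₀.map φ) (T.X j)) hx
  have hx' : (T.d j (j + 1)).hom x.1 = 0 := congrArg Subtype.val hx
  obtain ⟨w, hw⟩ := hex (j - 1) j (j + 1) (by lia) rfl x.1 hx'
  obtain ⟨w', hw't, hw'⟩ := h.2 (j - 1) j (by lia) x.1 x.2 ⟨w, hw⟩
  exact ⟨(⟨w', hw't⟩ : DRing.torsionSub (I₀.map φ) (T.X (j - 1))), Subtype.ext hw'⟩

/-- `Γ_{I₀B}` preserves quasi-isomorphisms whose cone has the divisibility property along `φ`. -/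
lemma quasiIso_gammaCx_map_of_divAt [IsNoetherianRing A₀] (I₀ : Ideal A₀)
    {C D : CochainComplex (ModuleCat.{u} A) ℤ} (ψ : C ⟶ D) [QuasiIso ψ]
    (hdiv : ∀ (I₀ : Ideal A₀) (a : A₀), DivAt (CochainComplex.mappingCone ψ) (I₀.map φ) (φ a)) :
    QuasiIso ((gammaCx (I₀.map φ)).map ψ) := by
  apply quasiIso_of_acyc_cone
  have h1 : (CochainComplex.mappingCone ψ).Acyclic :=
    (acyc_iff_acyclic _).1 (acyc_cone_of_quasiIso ψ)
  have h2 := acyclic_gammaCx_of_divAt φ I₀ _ hdiv h1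
  exact Acyc.of_iso (CochainComplex.mappingCone.mapHomologicalComplexIso ψ
    (DRing.gammaI (I₀.map φ))) ((acyc_iff_acyclic _).2 h2)

end DivAt

section DivMφ

variable {A : Type u} [CommRing A] {A₀ : Type v} [CommRing A₀] (φ : A₀ →+* A)

/-- divisibility modulo torsion for extended ideals and elements, on a module. -/
def DivMφ (M : Type u) [AddCommGroup M] [Module A M] : Prop :=
  ∀ (I₀ : Ideal A₀) (a : A₀) (w : M), w ∈ DRing.torsionSub (I₀.map φ) M → ∀ k : ℕ,
    ∃ w' ∈ DRing.torsionSub (I₀.map φ) M, ∃ N : ℕ, (φ a) ^ N • (w - (φ a) ^ k • w') = 0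

variable {φ}

lemma DivMφ.of_divM {M : Type u} [AddCommGroup M] [Module A M] (h : DivM A M) : DivMφ φ M :=
  fun I₀ a w hw k => h (I₀.map φ) (φ a) w hw k

lemma DivMφ.of_equiv {M N : Type u} [AddCommGroup M] [Module A M] [AddCommGroup N] [Module A N]
    (e : M ≃ₗ[A] N) (h : DivMφ φ M) : DivMφ φ N := by
  intro I₀ a w hw k
  obtain ⟨w', hw't, n, hn⟩ := h I₀ a (e.symm w)
    (DRing.map_mem_torsionSub _ e.symm.toLinearMap hw) k
  refine ⟨e w', DRing.map_mem_torsionSub _ e.toLinearMap hw't, n, ?_⟩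
  have h1 := congrArg e hn
  rw [map_smul, map_sub, map_smul, LinearEquiv.apply_symm_apply, map_zero] at h1
  exact h1

lemma DivMφ.prod {M N : Type u} [AddCommGroup M] [Module A M] [AddCommGroup N] [Module A N]
    (hM : DivMφ φ M) (hN : DivMφ φ N) : DivMφ φ (M × N) := by
  intro I₀ a w hw k
  obtain ⟨w₁, hw₁t, n₁, hn₁⟩ := hM I₀ a w.1
    (DRing.map_mem_torsionSub _ (LinearMap.fst A M N) hw) k
  obtain ⟨w₂, hw₂t, n₂, hn₂⟩ := hN I₀ a w.2
    (DRing.map_mem_torsionSub _ (LinearMap.snd A M N) hw) k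
  refine ⟨(w₁, w₂), ?_, n₁ + n₂, ?_⟩
  · have h1 : ((w₁, w₂) : M × N) = LinearMap.inl A M N w₁ + LinearMap.inr A M N w₂ := by
      simp
    rw [h1]
    exact (DRing.torsionSub (I₀.map φ) (M × N)).add_mem
      (DRing.map_mem_torsionSub _ (LinearMap.inl A M N) hw₁t)
      (DRing.map_mem_torsionSub _ (LinearMap.inr A M N) hw₂t)
  · apply Prod.ext
    · show (φ a) ^ (n₁ + n₂) • (w.1 - (φ a) ^ k • w₁) = 0
      rw [pow_add, mul_comm, mul_smul, hn₁, smul_zero]
    · show (φ a) ^ (n₁ + n₂) • (w.2 - (φ a) ^ k • w₂) = 0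
      rw [pow_add, mul_smul, hn₂, smul_zero]

lemma divAt_of_forall (T : CochainComplex (ModuleCat.{u} A) ℤ) (h : ∀ n, DivMφ φ (T.X n))
    (I₀ : Ideal A₀) (a : A₀) : DivAt T (I₀.map φ) (φ a) :=
  fun n w hw k => h n I₀ a w hw k

lemma divMφ_mappingCone_X {C D : CochainComplex (ModuleCat.{u} A) ℤ} (ψ : C ⟶ D)
    (hC : ∀ n, DivMφ φ (C.X n)) (hD : ∀ n, DivMφ φ (D.X n)) (n : ℤ) :
    DivMφ φ ((CochainComplex.mappingCone ψ).X n) :=
  DivMφ.of_equiv
    (HomologicalComplex.homotopyCofiber.XIsoBiprod ψ n (n + 1) rfl).symm.toLinearEquiv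
    (DivMφ.of_equiv (ModuleCat.biprodIsoProd (C.X (n + 1)) (D.X n)).symm.toLinearEquiv
      ((hC (n + 1)).prod (hD n)))

end DivMφ

end Groth.Agent.Lib.T2H4.GNoeth
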