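import Groth.Agent.Lib.T2H4RGamma
import Groth.Agent.Lib.T2H4RGFinite0
import Groth.Agent.Lib.T2H4HDI
import Groth.Agent.Lib.Helper17HOne1
import Groth.Prelude.Def_DualLC

/-!
# `Γ_I` on complexes of injective modules over a Noetherian ring (helper4)
-/

set_option autoImplicit false
universe u
open CategoryTheory CategoryTheory.Limits DerivedCategory
attribute [local instance] HasDerivedCategory.standard

namespace Groth.Agent.Lib.T2H4.GNoeth

open Groth.Agent.Lib.Helper17.KInj Groth.Agent.Lib.T2H4.DComp Groth.Agent.Lib.T2H4.RGam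

section Mod

variable {A : Type u} [CommRing A]

/-- the colon ideals `(𝔟 : f^n)`. -/
def colonChain (𝔟 : Ideal A) (f : A) : ℕ →o Submodule A A where
  toFun n := Submodule.comap (LinearMap.mulLeft A (f ^ n)) 𝔟
  monotone' := by
    intro n n' hnn' a ha
    obtain ⟨k, rfl⟩ := Nat.exists_eq_add_of_le hnn'
    rw [Submodule.mem_comap, LinearMap.mulLeft_apply] at ha ⊢
    rw [pow_add, mul_comm (f ^ n), mul_assoc]
    exact 𝔟.mul_mem_left _ ha

lemma mem_colonChain (𝔟 : Ideal A) (f : A) (n : ℕ) (a : A) :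
    a ∈ colonChain 𝔟 f n ↔ f ^ n * a ∈ 𝔟 := Iff.rfl

/-- divisibility by `f` modulo `f`-power torsion inside `Γ_{I'}` of an injective module over a
Noetherian ring. -/
lemma exists_div [IsNoetherianRing A] (I' : Ideal A) (f : A) (E : Type u) [AddCommGroup E]
    [Module A E] [Module.Injective A E] (w : E) (hw : w ∈ DRing.torsionSub I' E) (k : ℕ) :
    ∃ w' ∈ DRing.torsionSub I' E, ∃ N : ℕ, f ^ N • (w - f ^ k • w') = 0 := by
  obtain ⟨m, hm⟩ := hw
  obtain ⟨N, hN⟩ := (monotone_stabilizes_iff_noetherian (R := A) (M := A)).2 inferInstance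
    (colonChain (I' ^ m) f)
  have hNk : colonChain (I' ^ m) f N = colonChain (I' ^ m) f (N + k) := hN (N + k) (Nat.le_add_right N k)
  -- the injective map `A/𝔡 → A/𝔟`
  let ι : (A ⧸ colonChain (I' ^ m) f N) →ₗ[A] (A ⧸ (I' ^ m : Submodule A A)) :=
    Submodule.mapQ _ _ (LinearMap.mulLeft A (f ^ (N + k))) (le_of_eq hNk)
  have hι : Function.Injective ι := by
    rw [← LinearMap.ker_eq_bot, LinearMap.ker_eq_bot']
    intro x hx
    obtain ⟨a, rfl⟩ := Submodule.Quotient.mk_surjective _ x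
    have h1 : (Submodule.Quotient.mk (f ^ (N + k) * a) : A ⧸ (I' ^ m : Submodule A A)) = 0 := hx
    rw [Submodule.Quotient.mk_eq_zero] at h1 ⊢
    rw [hNk]
    exact h1
  -- the map `A/𝔡 → E`
  have hker : colonChain (I' ^ m) f N ≤
      LinearMap.ker (LinearMap.toSpanSingleton A E (f ^ N • w)) := by
    intro a ha
    rw [LinearMap.mem_ker, LinearMap.toSpanSingleton_apply, smul_smul, mul_comm]
    exact hm _ ha
  let g : (A ⧸ colonChain (I' ^ m) f N) →ₗ[A] E :=
    Submodule.liftQ _ (LinearMap.toSpanSingleton A E (f ^ N • w)) hker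
  obtain ⟨h, hh⟩ := Module.Injective.out ι hι g
  refine ⟨h (Submodule.Quotient.mk 1), ⟨m, fun b hb => ?_⟩, N, ?_⟩
  · rw [← map_smul, ← Submodule.Quotient.mk_smul, smul_eq_mul, mul_one]
    have : (Submodule.Quotient.mk b : A ⧸ (I' ^ m : Submodule A A)) = 0 := by
      rw [Submodule.Quotient.mk_eq_zero]
      exact hb
    rw [this, map_zero]
  · have h1 : f ^ (N + k) • h (Submodule.Quotient.mk 1) = f ^ N • w := by
      rw [← map_smul, ← Submodule.Quotient.mk_smul, smul_eq_mul]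
      have h2 : (Submodule.Quotient.mk (f ^ (N + k) * 1) : A ⧸ (I' ^ m : Submodule A A)) =
          ι (Submodule.Quotient.mk 1) := rfl
      rw [h2, hh]
      show Submodule.liftQ _ _ hker (Submodule.Quotient.mk 1) = _
      rw [Submodule.liftQ_apply, LinearMap.toSpanSingleton_apply, one_smul]
    rw [smul_sub, smul_smul, ← pow_add, h1, sub_self]

lemma mem_torsionSub_sup_span_singleton (I' : Ideal A) (f : A) (M : Type u) [AddCommGroup M]
    [Module A M] (x : M) :
    x ∈ DRing.torsionSub (I' ⊔ Ideal.span {f}) M ↔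
      x ∈ DRing.torsionSub I' M ∧ ∃ k : ℕ, f ^ k • x = 0 := by
  constructor
  · rintro ⟨n, hn⟩
    refine ⟨⟨n, fun a ha => hn a (Ideal.pow_right_mono le_sup_left n ha)⟩, n, ?_⟩
    exact hn _ (Ideal.pow_mem_pow (Ideal.mem_sup_right (Ideal.mem_span_singleton_self f)) n)
  · rintro ⟨⟨n, hn⟩, k, hk⟩
    refine ⟨n + k, fun a ha => ?_⟩
    have h1 := Ideal.sup_pow_add_le_pow_sup_pow (I := I') (J := Ideal.span {f}) (n := n) (m := k) ha
    obtain ⟨b, hb, c, hc, rfl⟩ := Submodule.mem_sup.1 h1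
    rw [Ideal.span_singleton_pow, Ideal.mem_span_singleton'] at hc
    obtain ⟨c', rfl⟩ := hc
    rw [add_smul, hn b hb, zero_add, mul_smul, hk, smul_zero]

lemma torsionSub_bot (M : Type u) [AddCommGroup M] [Module A M] (x : M) :
    x ∈ DRing.torsionSub (⊥ : Ideal A) M :=
  ⟨1, fun a ha => by
    rw [pow_one, Ideal.mem_bot] at ha
    rw [ha, zero_smul]⟩

end Mod

section Ind

variable {A : Type u} [CommRing A] (J : CochainComplex (ModuleCat.{u} A) ℤ)

/-- surjectivity on cohomology of `Γ_{I'} J ⊆ J`, elementwise. -/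
def PS (I' : Ideal A) : Prop :=
  ∀ (i j k : ℤ) (_ : i + 1 = j) (_ : j + 1 = k) (z : J.X j), (J.d j k).hom z = 0 →
    ∃ z' ∈ DRing.torsionSub I' (J.X j), (J.d j k).hom z' = 0 ∧
      ∃ w : J.X i, z - z' = (J.d i j).hom w

/-- injectivity on cohomology of `Γ_{I'} J ⊆ J`, elementwise. -/
def PI (I' : Ideal A) : Prop :=
  ∀ (i j : ℤ) (_ : i + 1 = j) (z' : J.X j), z' ∈ DRing.torsionSub I' (J.X j) →
    (∃ w : J.X i, (J.d i j).hom w = z') →
      ∃ w' ∈ DRing.torsionSub I' (J.X i), (J.d i j).hom w' = z'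

/-- the cohomology of `J` is `f`-power torsion, elementwise. -/
def TF (f : A) : Prop :=
  ∀ (i j k : ℤ) (_ : i + 1 = j) (_ : j + 1 = k) (z : J.X j), (J.d j k).hom z = 0 →
    ∃ (m : ℕ) (w : J.X i), f ^ m • z = (J.d i j).hom w

/-- divisibility modulo torsion in the terms of `Γ_{I'} J`. -/
def Div : Prop :=
  ∀ (I' : Ideal A) (f : A) (n : ℤ) (w : J.X n), w ∈ DRing.torsionSub I' (J.X n) → ∀ k : ℕ,
    ∃ w' ∈ DRing.torsionSub I' (J.X n), ∃ N : ℕ, f ^ N • (w - f ^ k • w') = 0

variable {J}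

lemma d_mem_torsionSub (I' : Ideal A) (i j : ℤ) {w : J.X i} (hw : w ∈ DRing.torsionSub I' (J.X i)) :
    (J.d i j).hom w ∈ DRing.torsionSub I' (J.X j) :=
  DRing.map_mem_torsionSub I' (J.d i j).hom hw

lemma d_d_apply (i j k : ℤ) (w : J.X i) : (J.d j k).hom ((J.d i j).hom w) = 0 := by
  have h := J.d_comp_d i j k
  exact congrArg (fun t => t.hom w) h

lemma step (hdiv : Div J) (I' : Ideal A) (f : A) (hf : TF J f) (hS : PS J I') (hI : PI J I') :
    PS J (I' ⊔ Ideal.span {f}) ∧ PI J (I' ⊔ Ideal.span {f}) := by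
  constructor
  · intro i j k hij hjk z hz
    obtain ⟨z', hz't, hz'c, w, hw⟩ := hS i j k hij hjk z hz
    obtain ⟨m, v, hv⟩ := hf i j k hij hjk z' hz'c
    obtain ⟨v', hv't, hv'⟩ := hI i j hij (f ^ m • z')
      ((DRing.torsionSub I' (J.X j)).smul_mem _ hz't) ⟨v, hv.symm⟩
    obtain ⟨v'', hv''t, N, hN⟩ := hdiv I' f i v' hv't m
    refine ⟨z' - (J.d i j).hom v'', ?_, ?_, w + v'', ?_⟩
    · rw [mem_torsionSub_sup_span_singleton]
      refine ⟨(DRing.torsionSub I' (J.X j)).sub_mem hz't (d_mem_torsionSub I' i j hv''t),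
        N + m, ?_⟩
      have h1 : f ^ (N + m) • (z' - (J.d i j).hom v'') =
          (J.d i j).hom (f ^ N • (v' - f ^ m • v'')) := by
        rw [map_smul, map_sub, map_smul, hv', pow_add, mul_smul, smul_sub]
      rw [h1, hN, map_zero]
    · rw [map_sub, hz'c, d_d_apply, sub_zero]
    · rw [map_add, ← hw]
      abel
  · intro i j hij z' hz' ⟨w, hw⟩
    rw [mem_torsionSub_sup_span_singleton] at hz'
    obtain ⟨hz't, k, hk⟩ := hz'
    obtain ⟨w₁, hw₁t, hw₁⟩ := hI i j hij z' hz't ⟨w, hw⟩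
    -- `c = f^k w₁` is a cycle
    have hc : (J.d i j).hom (f ^ k • w₁) = 0 := by rw [map_smul, hw₁, hk]
    obtain ⟨m, v, hv⟩ := hf (i - 1) i j (by lia) hij (f ^ k • w₁) hc
    obtain ⟨v₁, hv₁t, hv₁⟩ := hI (i - 1) i (by lia) (f ^ m • f ^ k • w₁)
      ((DRing.torsionSub I' (J.X i)).smul_mem _ ((DRing.torsionSub I' (J.X i)).smul_mem _ hw₁t))
      ⟨v, hv.symm⟩
    obtain ⟨v₂, hv₂t, N, hN⟩ := hdiv I' f (i - 1) v₁ hv₁t (m + k)
    refine ⟨w₁ - (J.d (i - 1) i).hom v₂, ?_, ?_⟩
    · rw [mem_torsionSub_sup_span_singleton]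
      refine ⟨(DRing.torsionSub I' (J.X i)).sub_mem hw₁t (d_mem_torsionSub I' (i - 1) i hv₂t),
        N + (m + k), ?_⟩
      have h1 : f ^ (N + (m + k)) • (w₁ - (J.d (i - 1) i).hom v₂) =
          (J.d (i - 1) i).hom (f ^ N • (v₁ - f ^ (m + k) • v₂)) := by
        rw [map_smul, map_sub, map_smul, hv₁, pow_add f N, mul_smul, smul_sub, pow_add f m,
          mul_smul]
      rw [h1, hN, map_zero]
    · rw [map_sub, hw₁, d_d_apply, sub_zero]

lemma ps_pi_bot : PS J ⊥ ∧ PI J ⊥ :=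
  ⟨fun i j k _ _ z hz => ⟨z, torsionSub_bot _ z, hz, 0, by rw [sub_self, map_zero]⟩,
    fun i j _ z' _ ⟨w, hw⟩ => ⟨w, torsionSub_bot _ w, hw⟩⟩

lemma ps_pi_span (hdiv : Div J) (s : Finset A) :
    (∀ f ∈ s, TF J f) → PS J (Ideal.span (s : Set A)) ∧ PI J (Ideal.span (s : Set A)) := by
  classical
  induction s using Finset.induction_on with
  | empty =>
    intro _
    rw [Finset.coe_empty, Ideal.span_empty]
    exact ps_pi_bot
  | insert f s hfs ih =>
    intro h
    have h1 := ih (fun g hg => h g (Finset.mem_insert_of_mem hg))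
    have h2 := step hdiv (Ideal.span (s : Set A)) f (h f (Finset.mem_insert_self f s)) h1.1 h1.2
    have h3 : Ideal.span ((insert f s : Finset A) : Set A) =
        Ideal.span (s : Set A) ⊔ Ideal.span {f} := by
      rw [Finset.coe_insert, Ideal.span_insert, sup_comm]
    rw [h3]
    exact h2

end Ind

section QIso

variable {A : Type u} [CommRing A] (I : Ideal A) (J : CochainComplex (ModuleCat.{u} A) ℤ)

/-- the inclusion `Γ_I J ⊆ J`. -/
noncomputable def ιΓ : (gammaCx I).obj J ⟶ J :=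
  (NatTrans.mapHomologicalComplex (DRing.gammaIι I) (ComplexShape.up ℤ)).app J ≫
    (Functor.mapHomologicalComplexIdIso (ModuleCat.{u} A) (ComplexShape.up ℤ)).hom.app J

lemma ιΓ_f_apply (n : ℤ) (x : DRing.torsionSub I (J.X n)) :
    ((ιΓ I J).f n).hom x = x.1 := rfl

lemma quasiIso_ιΓ (hS : PS J I) (hI : PI J I) : QuasiIso (ιΓ I J) := by
  rw [quasiIso_iff]
  intro n
  rw [quasiIsoAt_iff' (ιΓ I J) (n - 1) n (n + 1) (by simp) (by simp)]
  apply Groth.Agent.Lib.Helper17.HOne.quasiIso_of_elements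
  · intro (x₂ : J.X n) hx₂
    obtain ⟨z', hz't, hz'c, w, hw⟩ := hS (n - 1) n (n + 1) (by lia) rfl x₂ hx₂
    refine ⟨(⟨z', hz't⟩ : DRing.torsionSub I (J.X n)), ?_, -w, ?_⟩
    · apply Subtype.ext
      exact hz'c
    · show z' = x₂ + (J.d (n - 1) n).hom (-w)
      rw [map_neg, ← hw]
      abel
  · intro (x₁ : DRing.torsionSub I (J.X n)) _ hy
    obtain ⟨(y : J.X (n - 1)), hy⟩ := hy
    obtain ⟨w', hw't, hw'⟩ := hI (n - 1) n (by lia) x₁.1 x₁.2 ⟨y, hy.symm⟩
    refine ⟨(⟨w', hw't⟩ : DRing.torsionSub I (J.X (n - 1))), ?_⟩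
    apply Subtype.ext
    exact hw'

end QIso

section Eps

variable {A : Type u} [CommRing A] (I : Ideal A) [DRing.HasRgammaI I]
  (J : CochainComplex (ModuleCat.{u} A) ℤ)

lemma βΓ_ε : (βΓ I).app J ≫ (DRing.RgammaIε I).app (Q.obj J) = Q.map (ιΓ I J) := by
  have hfac : ((DRing.gammaIKh I).totalRightDerivedUnit Qh
      (HomotopyCategory.quasiIso (ModuleCat.{u} A) (ComplexShape.up ℤ))).app
        ((HomotopyCategory.quotient (ModuleCat.{u} A) (ComplexShape.up ℤ)).obj J) ≫
      (DRing.RgammaIε I).app (Qh.obj ((HomotopyCategory.quotient (ModuleCat.{u} A)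
        (ComplexShape.up ℤ)).obj J)) =
      (DRing.gammaIτ I ≫ (Functor.rightUnitor _).inv).app
        ((HomotopyCategory.quotient (ModuleCat.{u} A) (ComplexShape.up ℤ)).obj J) :=
    Functor.rightDerived_fac_app (DRing.RgammaI I)
    ((DRing.gammaIKh I).totalRightDerivedUnit Qh
      (HomotopyCategory.quasiIso (ModuleCat.{u} A) (ComplexShape.up ℤ)))
    (HomotopyCategory.quasiIso (ModuleCat.{u} A) (ComplexShape.up ℤ)) (𝟭 (Dual.D A))
    (DRing.gammaIτ I ≫ (Functor.rightUnitor _).inv)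
    ((HomotopyCategory.quotient (ModuleCat.{u} A) (ComplexShape.up ℤ)).obj J)
  have hnat := (DRing.RgammaIε I).naturality
    ((DerivedCategory.quotientCompQhIso (ModuleCat.{u} A)).hom.app J)
  unfold βΓ unitOfK γOfK isoF₀
  simp only [NatTrans.comp_app, Functor.whiskerLeft_app, Functor.whiskerRight_app,
    Functor.associator_inv_app, Iso.trans_inv, Iso.symm_inv, Functor.associator_hom_app,
    Functor.isoWhiskerLeft_inv, Functor.isoWhiskerRight_inv, Category.id_comp,
    Category.assoc, Functor.comp_obj]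
  simp only [Functor.comp_obj, Functor.id_map] at hnat
  rw [hnat, reassoc_of% hfac]
  have h1 : (DRing.gammaIτ I).app ((HomotopyCategory.quotient (ModuleCat.{u} A)
      (ComplexShape.up ℤ)).obj J) = (DRing.gammaIτ0 I).app J := rfl
  rw [NatTrans.comp_app, h1]
  unfold DRing.gammaIτ0
  simp only [NatTrans.comp_app, Functor.whiskerRight_app, Functor.associator_inv_app,
    Functor.associator_hom_app, Functor.rightUnitor_inv_app, Functor.leftUnitor_hom_app,
    Category.id_comp, Category.comp_id, Category.assoc, Functor.comp_obj, Functor.comp_map]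
  have h2 : Qh.map (((DRing.gammaI I).mapHomotopyCategoryFactors (ComplexShape.up ℤ)).inv.app J) ≫
      Qh.map (((DRing.gammaI I).mapHomotopyCategoryFactors (ComplexShape.up ℤ)).hom.app J) =
      𝟙 _ := by
    rw [← Functor.map_comp, Iso.inv_hom_id_app]
    exact Qh.map_id _
  rw [reassoc_of% h2]
  erw [Category.id_comp ((quotientCompQhIso (ModuleCat.{u} A)).hom.app J)]
  have hn : ∀ {X Y : CochainComplex (ModuleCat.{u} A) ℤ} (g : X ⟶ Y),
      Qh.map ((HomotopyCategory.quotient (ModuleCat.{u} A) (ComplexShape.up ℤ)).map g) ≫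
        (quotientCompQhIso (ModuleCat.{u} A)).hom.app Y =
      (quotientCompQhIso (ModuleCat.{u} A)).hom.app X ≫ Q.map g :=
    fun g => (quotientCompQhIso (ModuleCat.{u} A)).hom.naturality g
  have e1 := hn ((Functor.mapHomologicalComplexIdIso (ModuleCat.{u} A) (ComplexShape.up ℤ)).hom.app J)
  have e2 := hn ((NatTrans.mapHomologicalComplex (DRing.gammaIι I) (ComplexShape.up ℤ)).app J)
  erw [e1, reassoc_of% e2, Iso.inv_hom_id_app_assoc, ← Functor.map_comp]
  rfl

end Eps

section Main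

variable {A : Type u} [CommRing A] (I : Ideal A)

lemma div_of_injective [IsNoetherianRing A] (J : CochainComplex (ModuleCat.{u} A) ℤ)
    (hJ : ∀ n, Injective (J.X n)) : Div J := by
  intro I' f n w hw k
  haveI : Injective (ModuleCat.of A (J.X n)) := hJ n
  haveI : Module.Injective A (J.X n) := Module.injective_module_of_injective_object A (J.X n)
  exact exists_div I' f (J.X n) w hw k

/-- `f`-power torsion cohomology, elementwise, from the cohomology modules. -/
lemma tf_of_isPowerTorsion (J : CochainComplex (ModuleCat.{u} A) ℤ)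
    (hK : ∀ i : ℤ, LocCoh.IsPowerTorsion I (Dual.HD A ((Q : _ ⥤ Dual.D A).obj J) i))
    (f : A) (hf : f ∈ I) : TF J f := by
  intro i j k hij hjk z hz
  obtain rfl : i = j - 1 := by lia
  obtain rfl : k = j + 1 := by lia
  let c : LinearMap.ker (scI J j).g.hom := ⟨z, hz⟩
  let x := (homologyEquiv J j).symm (Submodule.Quotient.mk c)
  obtain ⟨n, hn⟩ := hK j x
  have h1 : f ^ n • x = 0 := hn _ (Ideal.pow_mem_pow hf n)
  have h2 : (Submodule.Quotient.mk (f ^ n • c) :
      LinearMap.ker (scI J j).g.hom ⧸ LinearMap.range (scI J j).moduleCatToCycles) = 0 := by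
    have h3 := congrArg (homologyEquiv J j) h1
    rw [map_smul, LinearEquiv.apply_symm_apply, map_zero] at h3
    exact h3
  rw [Submodule.Quotient.mk_eq_zero] at h2
  obtain ⟨w, hw⟩ := h2
  exact ⟨n, w, (congrArg (fun t => (t : LinearMap.ker (scI J j).g.hom).1) hw).symm⟩

theorem quasiIso_ιΓ_of_isPowerTorsion [IsNoetherianRing A] (J : CochainComplex (ModuleCat.{u} A) ℤ)
    (hJ : ∀ n, Injective (J.X n))
    (hK : ∀ i : ℤ, LocCoh.IsPowerTorsion I (Dual.HD A ((Q : _ ⥤ Dual.D A).obj J) i)) :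
    QuasiIso (ιΓ I J) := by
  obtain ⟨s, hs⟩ := (isNoetherianRing_iff_ideal_fg A).1 inferInstance I
  have h := ps_pi_span (div_of_injective J hJ) s (fun f hf =>
    tf_of_isPowerTorsion I J hK f (hs ▸ Ideal.subset_span hf))
  rw [hs] at h
  exact quasiIso_ιΓ I J h.1 h.2

variable [DRing.HasRgammaI I]

lemma RgammaIε_app_Q (J : CochainComplex (ModuleCat.{u} A) ℤ)
    (hJ : fibrant.{u} (ModuleCat.{u} A) J) :
    (DRing.RgammaIε I).app (Q.obj J) = (RgammaQIso I J hJ).hom ≫ Q.map (ιΓ I J) := by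
  haveI := isIso_βΓ_app I J hJ
  rw [← βΓ_ε I J]
  show _ = inv ((βΓ I).app J) ≫ _
  rw [IsIso.inv_hom_id_assoc]

/-- **`RΓ_I K → K` is an isomorphism when `K` has `I`-power torsion cohomology** (Noetherian). -/
theorem isIso_RgammaIε_app_of_torsion [IsNoetherianRing A] (K : Dual.D A)
    (hK : ∀ i : ℤ, LocCoh.IsPowerTorsion I (Dual.HD A K i)) :
    IsIso ((DRing.RgammaIε I).app K) := by
  obtain ⟨J, hJ, ⟨e⟩⟩ := exists_fibrant K
  have hnat := (DRing.RgammaIε I).naturality e.hom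
  have hKJ : ∀ i : ℤ, LocCoh.IsPowerTorsion I (Dual.HD A ((Q : _ ⥤ Dual.D A).obj J) i) := by
    intro i x
    let ei := ((DerivedCategory.homologyFunctor (ModuleCat.{u} A) i).mapIso e).toLinearEquiv
    obtain ⟨n, hn⟩ := hK i (ei.symm x)
    refine ⟨n, fun a ha => ?_⟩
    have h1 := congrArg ei (hn a ha)
    rw [map_smul, LinearEquiv.apply_symm_apply, map_zero] at h1
    exact h1
  haveI : QuasiIso (ιΓ I J) :=
    quasiIso_ιΓ_of_isPowerTorsion I J (fun n => injective_X_of_rlp hJ n) hKJ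
  haveI : IsIso ((Q : _ ⥤ Dual.D A).map (ιΓ I J)) := by
    rw [DerivedCategory.isIso_Q_map_iff_quasiIso]
    infer_instance
  haveI : IsIso ((DRing.RgammaIε I).app (Q.obj J)) := by
    rw [RgammaIε_app_Q I J hJ]
    infer_instance
  have h2 : (DRing.RgammaIε I).app K =
      (DRing.RgammaI I).map e.hom ≫ (DRing.RgammaIε I).app (Q.obj J) ≫ e.inv := by
    rw [← Category.assoc, hnat, Category.assoc]
    simp
  rw [h2]
  infer_instance

end Main

end Groth.Agent.Lib.T2H4.GNoeth
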