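import Mathlib

/-!
# Codimension of a subspace of `k⟦X⟧` containing `X ^ c * k⟦X⟧` equals its number of gaps
-/

set_option autoImplicit false
universe u

namespace Groth.Agent.Lib.T2H4.GapCount

open PowerSeries

variable {k : Type u} [Field k]

open Classical in
/-- Quotient by `V` versus quotient by `V ⊔ span {x}`. -/
theorem finrank_quotient_sup_span {M : Type*} [AddCommGroup M] [Module k M] (V : Submodule k M)
    (x : M) [FiniteDimensional k (M ⧸ (V ⊔ Submodule.span k {x}))] :
    FiniteDimensional k (M ⧸ V) ∧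
    Module.finrank k (M ⧸ V) =
      Module.finrank k (M ⧸ (V ⊔ Submodule.span k {x})) + (if x ∈ V then 0 else 1) := by
  classical
  let e := Submodule.quotientQuotientEquivQuotientSup V (Submodule.span k {x})
  have hfg : Module.Finite k ↥((Submodule.span k {x}).map V.mkQ) :=
    Module.Finite.iff_fg.2 ((Submodule.fg_span_singleton x).map _)
  have hq : Module.Finite k ((M ⧸ V) ⧸ (Submodule.span k {x}).map V.mkQ) :=
    Module.Finite.equiv e.symm
  have hfd : Module.Finite k (M ⧸ V) :=
    Module.Finite.of_submodule_quotient ((Submodule.span k {x}).map V.mkQ)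
  refine ⟨hfd, ?_⟩
  have h1 := ((Submodule.span k {x}).map V.mkQ).finrank_quotient_add_finrank
  rw [← h1, LinearEquiv.finrank_eq e]
  congr 1
  rw [Submodule.map_span, Set.image_singleton]
  by_cases hx : x ∈ V
  · have : V.mkQ x = 0 := by simpa using hx
    rw [this, if_pos hx, Submodule.span_zero_singleton, finrank_bot]
  · have : V.mkQ x ≠ 0 := by simpa using hx
    rw [if_neg hx, finrank_span_singleton this]

/-- The order set of a subspace. -/
def ords (V : Submodule k (PowerSeries k)) : Set ℕ := {n | ∃ f ∈ V, order f = n}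

open Classical in
/-- The number of gaps below `c`. -/
noncomputable def gaps (c : ℕ) (Δ : Set ℕ) : ℕ := ((Finset.range c).filter (· ∉ Δ)).card

theorem gaps_succ (c : ℕ) (Δ : Set ℕ) [Decidable (c ∈ Δ)] :
    gaps (c + 1) Δ = gaps c Δ + (if c ∈ Δ then 0 else 1) := by
  classical
  unfold gaps
  rw [Finset.range_add_one, Finset.filter_insert]
  by_cases h : c ∈ Δ
  · simp [h]
  · rw [if_pos h, if_neg h, Finset.card_insert_of_notMem (by simp)]

theorem gaps_congr (c : ℕ) (Δ Δ' : Set ℕ) (h : ∀ n < c, n ∈ Δ ↔ n ∈ Δ') : gaps c Δ = gaps c Δ' := by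
  classical
  unfold gaps
  congr 1
  apply Finset.filter_congr
  intro n hn
  rw [Finset.mem_range] at hn
  rw [h n hn]

/-- Elements of order `≥ c`. -/
theorem mem_of_le_order (V : Submodule k (PowerSeries k)) (c : ℕ)
    (hV : ∀ g : PowerSeries k, X ^ c * g ∈ V) (f : PowerSeries k) (hf : (c : ℕ∞) ≤ order f) :
    f ∈ V := by
  have : X ^ c ∣ f := by
    rw [X_pow_dvd_iff]
    intro m hm
    exact coeff_of_lt_order m (lt_of_lt_of_le (by exact_mod_cast hm) hf)
  obtain ⟨g, rfl⟩ := this
  exact hV g

/-- **Gap count.** -/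
theorem finrank_quotient_eq_gaps (c : ℕ) :
    ∀ V : Submodule k (PowerSeries k), (∀ g : PowerSeries k, X ^ c * g ∈ V) →
      FiniteDimensional k (PowerSeries k ⧸ V) ∧
      Module.finrank k (PowerSeries k ⧸ V) = gaps c (ords V) := by
  classical
  induction c with
  | zero =>
    intro V hV
    have htop : V = ⊤ := by
      rw [eq_top_iff]
      intro f _
      simpa using hV f
    subst htop
    refine ⟨inferInstance, ?_⟩
    have : Subsingleton (PowerSeries k ⧸ (⊤ : Submodule k (PowerSeries k))) :=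
      Submodule.Quotient.subsingleton_iff.2 rfl
    rw [Module.finrank_zero_of_subsingleton]
    simp [gaps]
  | succ c ih =>
    intro V hV
    have hV' : ∀ g : PowerSeries k, X ^ c * g ∈ V ⊔ Submodule.span k {(X : PowerSeries k) ^ c} := by
      intro g
      have h1 : X ^ c * g = X ^ (c + 1) * (mk fun n => coeff (n + 1) g) + constantCoeff g • X ^ c := by
        conv_lhs => rw [eq_X_mul_shift_add_const g]
        rw [pow_succ, smul_eq_C_mul]
        ring
      rw [h1]
      exact Submodule.add_mem_sup (hV _) (Submodule.smul_mem _ _ (Submodule.mem_span_singleton_self _))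
    obtain ⟨hfd, hfr⟩ := ih _ hV'
    obtain ⟨hfd2, hfr2⟩ := finrank_quotient_sup_span V ((X : PowerSeries k) ^ c)
    refine ⟨hfd2, ?_⟩
    rw [hfr2, hfr, gaps_succ]
    congr 1
    · apply gaps_congr
      intro n hn
      constructor
      · rintro ⟨f, hf, hfo⟩
        obtain ⟨v, hv, w, hw, rfl⟩ := Submodule.mem_sup.1 hf
        obtain ⟨a, rfl⟩ := Submodule.mem_span_singleton.1 hw
        refine ⟨v, hv, ?_⟩
        rw [order_eq_nat] at hfo ⊢
        have hc : ∀ i < c, coeff i (v + a • (X : PowerSeries k) ^ c) = coeff i v := by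
          intro i hi
          rw [map_add, coeff_smul, coeff_X_pow, if_neg (by omega), smul_zero, add_zero]
        refine ⟨?_, ?_⟩
        · rw [← hc n hn]; exact hfo.1
        · intro i hi
          rw [← hc i (by omega)]; exact hfo.2 i hi
      · rintro ⟨f, hf, hfo⟩
        exact ⟨f, Submodule.mem_sup_left hf, hfo⟩
    · have : (X : PowerSeries k) ^ c ∈ V ↔ c ∈ ords V := by
        constructor
        · intro h
          exact ⟨_, h, order_X_pow c⟩
        · rintro ⟨f, hf, hfo⟩
          -- f = a X^c + r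
          have ha : coeff c f ≠ 0 := by
            rw [order_eq_nat] at hfo; exact hfo.1
          have hr : f - coeff c f • X ^ c ∈ V := by
            apply mem_of_le_order V (c + 1) hV
            apply nat_le_order
            intro i hi
            rw [map_sub, coeff_smul, coeff_X_pow]
            by_cases hic : i = c
            · subst hic; simp
            · rw [if_neg hic, smul_zero, sub_zero]
              rw [order_eq_nat] at hfo
              exact hfo.2 i (by omega)
          have : (X : PowerSeries k) ^ c = (coeff c f)⁻¹ • (f - (f - coeff c f • X ^ c)) := by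
            rw [sub_sub_cancel, smul_smul, inv_mul_cancel₀ ha, one_smul]
          rw [this]
          exact V.smul_mem _ (V.sub_mem hf hr)
      simp only [this]

/-! ### Combinatorics of semigroup modules -/

theorem gaps_eq_ncard (c : ℕ) (Δ : Set ℕ) (h : ∀ n, c ≤ n → n ∈ Δ) : gaps c Δ = Δᶜ.ncard := by
  classical
  unfold gaps
  rw [← Set.ncard_coe_finset]
  congr 1
  ext n
  simp only [Finset.coe_filter, Finset.mem_range, Set.mem_ofPred_eq, Set.mem_compl_iff]
  constructor
  · exact fun h => h.2
  · intro hn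
    refine ⟨?_, hn⟩
    by_contra hc
    exact hn (h n (by omega))

theorem gaps_shift (s c : ℕ) (Δ Δ' : Set ℕ) (h : ∀ n, n ∈ Δ' ↔ ∃ a ∈ Δ, n = s + a) :
    gaps (s + c) Δ' = s + gaps c Δ := by
  classical
  induction c with
  | zero =>
    unfold gaps
    have : (Finset.range (s + 0)).filter (· ∉ Δ') = Finset.range s := by
      rw [add_zero]
      apply Finset.filter_true_of_mem
      intro n hn
      rw [Finset.mem_range] at hn
      rw [h]
      rintro ⟨a, _, rfl⟩
      omega
    rw [this]
    simp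
  | succ c ih =>
    rw [← add_assoc, gaps_succ, gaps_succ, ih, add_assoc]
    congr 2
    have : s + c ∈ Δ' ↔ c ∈ Δ := by
      rw [h]
      constructor
      · rintro ⟨a, ha, hsa⟩
        have : a = c := by omega
        rwa [← this]
      · intro hc
        exact ⟨c, hc, rfl⟩
    simp only [this]

theorem finite_compl (Γ : Set ℕ) (e : ℕ) (hΓe : ∀ n, e ≤ n → n ∈ Γ) : Γᶜ.Finite := by
  apply Set.Finite.subset (Set.finite_lt_nat e)
  intro n hn
  by_contra hc
  exact hn (hΓe n (by simpa using hc))

theorem compl_subset (Γ Δ : Set ℕ) (h0 : 0 ∈ Δ) (hadd : ∀ a ∈ Γ, ∀ b ∈ Δ, a + b ∈ Δ) :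
    Δᶜ ⊆ Γᶜ := by
  intro n hn hΓ
  exact hn (by simpa using hadd n hΓ 0 h0)

theorem ncard_le (Γ Δ : Set ℕ) (e : ℕ) (hΓe : ∀ n, e ≤ n → n ∈ Γ) (h0 : 0 ∈ Δ)
    (hadd : ∀ a ∈ Γ, ∀ b ∈ Δ, a + b ∈ Δ) : Δᶜ.ncard ≤ Γᶜ.ncard :=
  Set.ncard_le_ncard (compl_subset Γ Δ h0 hadd) (finite_compl Γ e hΓe)

/-- A gap of `Δ` is smaller than `δ(Γ) + d(Δ)`. -/
theorem gap_lt (Γ Δ : Set ℕ) (e : ℕ) (hΓe : ∀ n, e ≤ n → n ∈ Γ) (h0 : 0 ∈ Δ)
    (hadd : ∀ a ∈ Γ, ∀ b ∈ Δ, a + b ∈ Δ) (g : ℕ) (hg : g ∉ Δ) :
    g < Γᶜ.ncard + Δᶜ.ncard := by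
  classical
  have hΓfin := finite_compl Γ e hΓe
  have hΔfin : Δᶜ.Finite := hΓfin.subset (compl_subset Γ Δ h0 hadd)
  have h1 := Finset.card_filter_add_card_filter_not (s := Finset.range (g + 1)) (fun n => n ∈ Γ)
  rw [Finset.card_range] at h1
  have h2 : ((Finset.range (g + 1)).filter (fun n => ¬ n ∈ Γ)).card ≤ Γᶜ.ncard := by
    rw [← Set.ncard_coe_finset]
    apply Set.ncard_le_ncard _ hΓfin
    intro n hn
    simp only [Finset.coe_filter, Set.mem_ofPred_eq] at hn
    exact hn.2
  have h3 : ((Finset.range (g + 1)).filter (fun n => n ∈ Γ)).card ≤ Δᶜ.ncard := by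
    rw [Set.ncard_eq_toFinset_card _ hΔfin]
    apply Finset.card_le_card_of_injOn (fun n => g - n)
    · intro n hn
      simp only [Finset.coe_filter, Finset.mem_range, Set.mem_ofPred_eq] at hn
      simp only [Set.Finite.coe_toFinset, Set.mem_compl_iff]
      intro hmem
      apply hg
      have := hadd n hn.2 (g - n) hmem
      rwa [Nat.add_sub_cancel' (by omega)] at this
    · intro a ha b hb hab
      simp only [Finset.coe_filter, Finset.mem_range, Set.mem_ofPred_eq] at ha hb
      simp only at hab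
      omega
  omega

end Groth.Agent.Lib.T2H4.GapCount
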