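import Mathlib
import Groth.Prelude.Def_Cyc
import Groth.Agent.Lib.T2H4PushPullA
import Groth.Agent.Lib.Helper3LocDimBC
set_option backward.isDefEq.respectTransparency.types false

/-!
# The `δ`-dimension of the generic points of a flat base change (helper4)

Namespace `Groth.Agent.Lib.T2H4.GenBC`.
-/

set_option autoImplicit false
set_option linter.style.haveILetI false
universe u
open CategoryTheory CategoryTheory.Limits AlgebraicGeometry TopologicalSpace Opposite

namespace Groth.Agent.Lib.T2H4.GenBC

open Groth.Agent.Lib.T2H4.PushPull Groth.Agent.Lib.T2H4.PullComp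
  Groth.Agent.Lib.Helper4.DimFormula

variable {S S' X : Scheme.{u}} (a : X ⟶ S) (g : S' ⟶ S)

/-- a maximal point of `X ×_S S'` lying over `y ∈ X` maps to a maximal point of the fibre of `g`
(`g` flat is not needed: only the flatness of the residue field extension is used) -/
theorem snd_maximal_in_fibre (x' : ↥(pullback a g)) (hx' : ∀ y : ↥(pullback a g), y ⤳ x' → y = x')
    (t : S') (ht : g t = g (pullback.snd a g x')) (hts : t ⤳ pullback.snd a g x') :
    t = pullback.snd a g x' := by
  have h0 : x' ∈ Set.range ((pullback.fst a g).fiberι (pullback.fst a g x')) := by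
    rw [(pullback.fst a g).range_fiberι]
    rfl
  obtain ⟨z, hz⟩ := h0
  have hs' : pullback.snd a g x' =
      g.fiberι (a (pullback.fst a g x')) (fibMap a g (pullback.fst a g x') z) := by
    rw [fibMap_apply, hz]
  have hg : g (pullback.snd a g x') = a (pullback.fst a g x') := by
    rw [← Scheme.Hom.comp_apply, ← Scheme.Hom.comp_apply, pullback.condition]
  have h1 : t ∈ Set.range (g.fiberι (a (pullback.fst a g x'))) := by
    rw [g.range_fiberι]
    exact ht.trans hg
  obtain ⟨w', rfl⟩ := h1
  rw [hs'] at hts ⊢
  have h2 : w' ⤳ fibMap a g (pullback.fst a g x') z :=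
    (g.fiberι (a (pullback.fst a g x'))).isEmbedding.isInducing.specializes_iff.1 hts
  haveI := flat_fibMap a g (pullback.fst a g x')
  obtain ⟨z', hz'z, hz'⟩ := Flat.generalizingMap (fibMap a g (pullback.fst a g x')) h2
  have h3 : (pullback.fst a g).fiberι (pullback.fst a g x') z' ⤳ x' := by
    have := hz'z.map ((pullback.fst a g).fiberι (pullback.fst a g x')).continuous
    rwa [hz] at this
  have h4 := hx' _ h3
  have h5 : z' = z := ((pullback.fst a g).fiberι (pullback.fst a g x')).isEmbedding.injective
    (h4.trans hz.symm)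
  rw [← hz', h5]

/-- **the `δ`-dimension of a generic point of `X ×_S S'`**, `X` integral -/
theorem delta_generic [Flat g] [LocallyOfFiniteType a] [IsIntegral X] (δS : S → ℤ)
    (δS' : S' → ℤ) (c : ℤ)
    (hc : ∀ s' : S', (∀ y, g y = g s' → y ⤳ s' → y = s') → δS' s' = δS (g s') + c)
    (δX : X → ℤ) (hX : Cyc.DeltaCompat a δX δS) (δX' : ↥(pullback a g) → ℤ)
    (hX' : Cyc.DeltaCompat (pullback.snd a g) δX' δS')
    (x' : ↥(pullback a g)) (hx' : ∀ y : ↥(pullback a g), y ⤳ x' → y = x') :
    δX' x' = δX (genericPoint X) + c := by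
  haveI : LocallyOfFiniteType (pullback.snd a g) := inferInstance
  haveI : Flat (pullback.fst a g) := inferInstance
  have h1 : pullback.fst a g x' = genericPoint X := by
    obtain ⟨y, hy, hyη⟩ := Flat.generalizingMap (pullback.fst a g)
      (genericPoint_specializes (pullback.fst a g x'))
    rw [← hx' y hy]
    exact hyη
  have h2 := hc (pullback.snd a g x') (fun t ht hts => snd_maximal_in_fibre a g x' hx' t ht hts)
  have hg : g (pullback.snd a g x') = a (pullback.fst a g x') := by
    rw [← Scheme.Hom.comp_apply, ← Scheme.Hom.comp_apply, pullback.condition]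
  have h3 := Groth.Agent.Lib.Helper3.LocDimBC.fibreDimAt_eq_of_isPullback a g (pullback.fst a g)
    (pullback.snd a g) (IsPullback.of_hasPullback a g) x'
  rw [fibreDimAt_eq_ptTrdeg_of_maximal (pullback.snd a g) x' (fun y _ hy => hx' y hy), h1,
    fibreDimAt_eq_ptTrdeg_of_maximal a (genericPoint X)
      (fun y _ hy => (hy.antisymm (genericPoint_specializes y)).eq)] at h3
  have h4 : ptTrdeg (pullback.snd a g) x' = ptTrdeg a (genericPoint X) := by exact_mod_cast h3
  have h5 := delta_eq_add_ptTrdeg (pullback.snd a g) δX' δS' hX' x'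
  have h6 := delta_eq_add_ptTrdeg a δX δS hX (genericPoint X)
  rw [hg, h1] at h2
  omega

end Groth.Agent.Lib.T2H4.GenBC
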