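import Groth.Agent.Lib.T2H4FibGor1
import Groth.Agent.Lib.T2H4DimFun2
import Groth.Agent.Lib.T2H4DualShift

set_option autoImplicit false
set_option linter.style.haveILetI false
set_option backward.isDefEq.respectTransparency.types false
universe u
open CategoryTheory CategoryTheory.Limits TensorProduct
attribute [local instance] HasDerivedCategory.standard

namespace Groth.Agent.Lib.T2H4.GlobUniq

open DerivedCategory Pretriangulated Groth.Agent.Lib.T2H4.LocKL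
  Groth.Agent.Lib.T2H4.TorIndep Groth.Agent.Lib.T2H4.FlatHom Groth.Agent.Lib.T2H4.FibGor
  Groth.Agent.Lib.T2H4.DimFun Groth.Agent.Lib.T2H4.DualShift

section Local

variable {A : Type u} [CommRing A] [IsNoetherianRing A] (p : Ideal A) [p.IsPrime]
  [DRing.HasLBaseChange (algebraMap A (Localization.AtPrime p))]

/-- local analysis of the modules `Hom(ω[n], ω')`. -/
theorem local_hom (ω ω' : Dual.D A) (hω : Dual.IsDualizing A ω) (hω' : Dual.IsDualizing A ω') :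
    ∃ m : ℤ, ∀ n : ℤ,
      (n = m → Nonempty ((Localization.AtPrime p ⊗[A] (ω⟦n⟧ ⟶ ω')) ≃ₗ[Localization.AtPrime p]
        Localization.AtPrime p)) ∧
      (n ≠ m → Subsingleton (Localization.AtPrime p ⊗[A] (ω⟦n⟧ ⟶ ω'))) := by
  let B := Localization.AtPrime p
  haveI : Module.Flat A B := IsLocalization.flat B p.primeCompl
  haveI : IsNoetherianRing B := IsLocalization.isNoetherianRing p.primeCompl B inferInstance
  letI : (DRing.LBaseChange (algebraMap A B)).CommShift ℤ :=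
    (lbcAdj (algebraMap A B)).leftAdjointCommShift ℤ
  have hT := isDualizing_lbc p.primeCompl B ω hω
  have hT' := isDualizing_lbc p.primeCompl B ω' hω'
  set T := (DRing.LBaseChange (algebraMap A B)).obj ω with hTdef
  set T' := (DRing.LBaseChange (algebraMap A B)).obj ω' with hT'def
  obtain ⟨m, ⟨ι⟩⟩ := Groth.Agent.Lib.T2H4.Uniq.exists_iso_shift T T' hT hT'
  obtain ⟨c, d, hcd⟩ := isZero_HD_of_isDualizing ω hω
  obtain ⟨a', b', hab'⟩ := isZero_HD_of_isDualizing ω' hω'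
  haveI : ω'.IsGE a' := (DerivedCategory.isGE_iff ω' a').2 (fun i hi => hab' i (Or.inl hi))
  refine ⟨m, fun n => ?_⟩
  have hΘ : Function.Bijective (ΘN B (ηB B ω') (ω⟦n⟧)) :=
    bijective_ΘN_unit B ω ω' a' c d hcd hω.finite_cohomology n
  have hbij := lbcHom_bijective B (ω⟦n⟧) ω' hΘ
  let Φ : (B ⊗[A] (ω⟦n⟧ ⟶ ω')) ≃ₗ[B]
      ((DRing.LBaseChange (algebraMap A B)).obj (ω⟦n⟧) ⟶ T') :=
    LinearEquiv.ofBijective
      { toFun := lbcHom B (ω⟦n⟧) ω'
        map_add' := lbcHom_add B (ω⟦n⟧) ω'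
        map_smul' := lbcHom_smul B (ω⟦n⟧) ω' } hbij
  let σ : (DRing.LBaseChange (algebraMap A B)).obj (ω⟦n⟧) ≅ T⟦n⟧ :=
    ((DRing.LBaseChange (algebraMap A B)).commShiftIso n).app ω
  let L2 : ((DRing.LBaseChange (algebraMap A B)).obj (ω⟦n⟧) ⟶ T') ≃ₗ[B] (T⟦n⟧ ⟶ T⟦m⟧) :=
    Linear.homCongr B σ ι
  constructor
  · intro hnm
    subst hnm
    have hTn := isDualizing_shift T hT n
    let tE : B ≃ₗ[B] (T⟦n⟧ ⟶ T⟦n⟧) :=
      LinearEquiv.ofBijective (LinearMap.toSpanSingleton B _ (𝟙 (T⟦n⟧))) hTn.toEnd_bijective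
    exact ⟨Φ ≪≫ₗ L2 ≪≫ₗ tE.symm⟩
  · intro hnm
    have hTn := isDualizing_shift T hT n
    have h0 := hTn.ext_self_subsingleton (m - n) (by lia)
    let κ : T⟦m⟧ ≅ (T⟦n⟧)⟦m - n⟧ := (shiftFunctorAdd' (Dual.D B) n (m - n) m (by lia)).app T
    let L3 : (T⟦n⟧ ⟶ T⟦m⟧) ≃ₗ[B] (T⟦n⟧ ⟶ (T⟦n⟧)⟦m - n⟧) := Linear.homCongr B (Iso.refl _) κ
    exact (Φ ≪≫ₗ L2 ≪≫ₗ L3).toEquiv.subsingleton

end Local

end Groth.Agent.Lib.T2H4.GlobUniq
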