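import Groth.Agent.Lib.T2H4InvTwist6
import Groth.Agent.Lib.T2H4Uniq3

set_option autoImplicit false
set_option linter.style.haveILetI false
set_option linter.unusedSectionVars false
universe u
open CategoryTheory CategoryTheory.Limits MonoidalCategory TensorProduct
attribute [local instance] HasDerivedCategory.standard

namespace Groth.Agent.Lib.T2H4.GlobUniq

open Groth.Agent.Lib.Helper1.LDer DerivedCategory Groth.Agent.Lib.T2H4.InvTwist

section HomFormula'

variable {A : Type u} [CommRing A] (L : Type u) [AddCommGroup L] [Module A L]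
  [Module.Finite A L] [Module.Projective A L]

lemma vMap_add (φ ψ : L →ₗ[A] A) : vMap (A := A) L (φ + ψ) = vMap L φ + vMap L ψ := rfl

lemma vMap_smul (a : A) (φ : L →ₗ[A] A) : vMap (A := A) L (a • φ) = a • vMap L φ := rfl

lemma εL_add (φ ψ : L →ₗ[A] A) : εL (A := A) L (φ + ψ) = εL L φ + εL L ψ := by
  unfold εL
  rw [vMap_add, Emap_add, Preadditive.add_comp]

lemma εL_smul (a : A) (φ : L →ₗ[A] A) : εL (A := A) L (a • φ) = a • εL L φ := by
  unfold εL
  rw [vMap_smul, Emap_smul, Linear.smul_comp]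

/-- `L^∨ ⊗ Hom(K, K') ≃ Hom(K ⊗ L, K')` for `L` finite projective. -/
theorem nonempty_homTensorEquiv' (K K' : Dual.D A) :
    Nonempty ((Module.Dual A L ⊗[A] (K ⟶ K')) ≃ₗ[A] ((E (ModuleCat.of A L)).obj K ⟶ K')) := by
  obtain ⟨n, l, φ, h⟩ := exists_dual_basis (A := A) L
  let α₂ : Module.Dual A L →ₗ[A] (K ⟶ K') →ₗ[A] ((E (ModuleCat.of A L)).obj K ⟶ K') :=
    LinearMap.mk₂ A (fun ψ f => (εL L ψ).app K ≫ f)
      (fun ψ ψ' f => by rw [εL_add, NatTrans.app_add, Preadditive.add_comp])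
      (fun a ψ f => by rw [εL_smul, NatTrans.app_smul, Linear.smul_comp])
      (fun ψ f f' => Preadditive.comp_add _ _ _ _ _ _)
      (fun a ψ f => Linear.comp_smul _ _ _ _ _ _)
  let α := TensorProduct.lift α₂
  let β : ((E (ModuleCat.of A L)).obj K ⟶ K') →ₗ[A] (Module.Dual A L ⊗[A] (K ⟶ K')) :=
    ∑ j, (TensorProduct.mk A (Module.Dual A L) (K ⟶ K') (φ j)).comp
      (Linear.leftComp A K' ((ιL L (l j)).app K))
  have hβ : ∀ g, β g = ∑ j, (φ j) ⊗ₜ[A] ((ιL L (l j)).app K ≫ g) := by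
    intro g
    simp only [β, LinearMap.sum_apply, LinearMap.comp_apply,
      TensorProduct.mk_apply, Linear.leftComp_apply]
  refine ⟨LinearEquiv.ofLinearMap α β ?_ ?_⟩
  · apply LinearMap.ext
    intro g
    rw [LinearMap.comp_apply, hβ, map_sum, LinearMap.id_apply]
    have h1 : ∀ j, α ((φ j) ⊗ₜ[A] ((ιL L (l j)).app K ≫ g)) =
        (εL L (φ j) ≫ ιL L (l j)).app K ≫ g := by
      intro j
      show (εL L (φ j)).app K ≫ (ιL L (l j)).app K ≫ g = _
      rw [NatTrans.comp_app, Category.assoc]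
    simp only [h1]
    rw [← Preadditive.sum_comp, ← NatTrans.app_sum, sum_εL_ιL L l φ h, NatTrans.id_app,
      Category.id_comp]
  · apply TensorProduct.ext'
    intro ψ f
    rw [LinearMap.comp_apply, LinearMap.id_apply]
    have h0 : α (ψ ⊗ₜ[A] f) = (εL L ψ).app K ≫ f := rfl
    rw [h0, hβ]
    have h1 : ∀ j, (ιL L (l j)).app K ≫ (εL L ψ).app K ≫ f = ψ (l j) • f := by
      intro j
      rw [← Category.assoc, ← NatTrans.comp_app, ιL_εL, NatTrans.app_smul, NatTrans.id_app,
        Linear.smul_comp]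
      erw [Category.id_comp]
    simp only [h1]
    have h2 : ∀ j, (φ j) ⊗ₜ[A] (ψ (l j) • f) = (ψ (l j) • φ j) ⊗ₜ[A] f := fun j =>
      (TensorProduct.smul_tmul _ _ _).symm
    simp only [h2]
    rw [← TensorProduct.sum_tmul]
    congr 1
    apply LinearMap.ext
    intro x
    rw [LinearMap.sum_apply]
    simp only [LinearMap.smul_apply, smul_eq_mul]
    conv_rhs => rw [← h x, map_sum]
    refine Finset.sum_congr rfl fun j _ => ?_
    rw [map_smul, smul_eq_mul, mul_comm]

end HomFormula'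

end Groth.Agent.Lib.T2H4.GlobUniq
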