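import Groth.Agent.Lib.T2H4GlobUniq2

set_option autoImplicit false
set_option linter.style.haveILetI false
set_option linter.unusedSectionVars false
set_option backward.isDefEq.respectTransparency.types false
universe u
open CategoryTheory CategoryTheory.Limits
attribute [local instance] HasDerivedCategory.standard

namespace Groth.Agent.Lib.T2H4.GlobUniq

open DerivedCategory Pretriangulated Groth.Agent.Lib.T2H4.InvTwist Groth.Agent.Lib.T2H4.Bidual
  Groth.Agent.Lib.T2H4.Uniq Groth.Agent.Lib.T2H4.LD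

section Conservative

variable {A : Type u} [CommRing A] [IsNoetherianRing A]

/-- duality with respect to a dualizing complex is conservative on complexes with finite
cohomology modules. -/
theorem isZero_of_subsingleton_hom (ω : Dual.D A) (hω : Dual.IsDualizing A ω) (C : Dual.D A)
    (hfin : ∀ i : ℤ, Module.Finite A (Dual.HD A C i))
    (h : ∀ n : ℤ, Subsingleton (C ⟶ ω⟦n⟧)) : IsZero C := by
  obtain ⟨I, a, b, hI, ⟨e⟩⟩ := exists_dualizingRep ω hω
  haveI := hI.bdd.isKInjective
  let K := Q.objPreimage C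
  let eK : Q.obj K ≅ C := Q.objObjPreimageIso C
  have hKfin : FinH K := (finH_iff K).2 (fun i => by
    haveI := hfin i
    exact Module.Finite.equiv
      ((homologyFunctor (ModuleCat.{u} A) i).mapIso eK).symm.toLinearEquiv)
  let G := DRing.homCx K I
  have hG : IsZero (Q.obj G) := by
    apply isZero_of_forall_isZero_homology'
    intro n
    haveI := h n
    have e1 : ((homologyFunctor (ModuleCat.{u} A) n).obj (Q.obj G)) ≃ₗ[A] (C ⟶ ω⟦n⟧) :=
      homologyQEquiv G n ≪≫ₗ homologyHomCxEquiv K I n ≪≫ₗ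
        Linear.homCongr A eK ((shiftFunctor (Dual.D A) n).mapIso e)
    haveI : Subsingleton ((homologyFunctor (ModuleCat.{u} A) n).obj (Q.obj G)) :=
      e1.toEquiv.subsingleton
    exact ModuleCat.isZero_of_subsingleton _
  haveI := quasiIso_ev_of_dualizing hI K hKfin
  haveI : IsIso (Q.map (ev K I)) := (isIso_Q_map_iff_quasiIso (φ := ev K I)).2 inferInstance
  have hGG : IsZero (Q.obj (DRing.homCx G I)) := by
    apply isZero_of_forall_isZero_homology'
    intro n
    have e1 : ((homologyFunctor (ModuleCat.{u} A) n).obj (Q.obj (DRing.homCx G I))) ≃ₗ[A]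
        (Q.obj G ⟶ (Q.obj I)⟦n⟧) :=
      homologyQEquiv _ n ≪≫ₗ homologyHomCxEquiv G I n
    haveI : Subsingleton (Q.obj G ⟶ (Q.obj I)⟦n⟧) := ⟨fun f g => hG.eq_of_src f g⟩
    haveI : Subsingleton ((homologyFunctor (ModuleCat.{u} A) n).obj
        (Q.obj (DRing.homCx G I))) := e1.toEquiv.subsingleton
    exact ModuleCat.isZero_of_subsingleton _
  exact (hGG.of_iso (asIso (Q.map (ev K I)))).of_iso eK.symm

/-- a morphism of dualizing complexes inducing a bijection `End(ω₂) → Hom(ω₁, ω₂)`, in the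
absence of higher `Hom`s, is an isomorphism. -/
theorem isIso_of_precomp_bijective (ω₁ ω₂ : Dual.D A) (hω₁ : Dual.IsDualizing A ω₁)
    (hω₂ : Dual.IsDualizing A ω₂) (g : ω₁ ⟶ ω₂)
    (h0 : Function.Bijective (fun k : ω₂ ⟶ ω₂ => g ≫ k))
    (hn : ∀ n : ℤ, n ≠ 0 → Subsingleton (ω₁ ⟶ ω₂⟦n⟧)) : IsIso g := by
  -- `g^*` is bijective in all degrees
  have hg : ∀ n : ℤ, Function.Bijective (fun k : ω₂ ⟶ ω₂⟦n⟧ => g ≫ k) := by
    intro n
    by_cases h : n = 0
    · subst h
      let z : ω₂⟦(0 : ℤ)⟧ ≅ ω₂ := (shiftFunctorZero (Dual.D A) ℤ).app ω₂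
      constructor
      · intro k k' hkk
        have : g ≫ (k ≫ z.hom) = g ≫ (k' ≫ z.hom) := by
          simp only at hkk
          rw [← Category.assoc, hkk, Category.assoc]
        have h1 := h0.1 this
        exact (cancel_mono z.hom).1 h1
      · intro f
        obtain ⟨k, hk⟩ := h0.2 (f ≫ z.hom)
        refine ⟨k ≫ z.inv, ?_⟩
        simp only at hk ⊢
        rw [← Category.assoc, hk, Category.assoc, Iso.hom_inv_id, Category.comp_id]
    · haveI := hn n h
      haveI := hω₂.ext_self_subsingleton n h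
      exact ⟨fun k k' _ => Subsingleton.elim _ _, fun f => ⟨0, Subsingleton.elim _ _⟩⟩
  obtain ⟨C, u, v, hT⟩ := distinguished_cocone_triangle g
  have hC : IsZero C := by
    apply isZero_of_subsingleton_hom ω₂ hω₂ C
    · intro i
      exact finite_homology_obj₃ (Triangle.mk g u v) hT hω₁.finite_cohomology
        hω₂.finite_cohomology i
    · intro n
      refine ⟨fun f f' => ?_⟩
      have key : ∀ h : C ⟶ ω₂⟦n⟧, h = 0 := by
        intro h
        have h1 : u ≫ h = 0 := by
          apply (hg n).1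
          show g ≫ (u ≫ h) = g ≫ 0
          have h12 : g ≫ u = 0 := comp_distTriang_mor_zero₁₂ _ hT
          rw [← Category.assoc, h12, zero_comp, comp_zero]
        obtain ⟨k, hk⟩ : ∃ k : ω₁⟦(1 : ℤ)⟧ ⟶ ω₂⟦n⟧, h = v ≫ k :=
          Triangle.yoneda_exact₃ _ hT h h1
        let κ : ω₂⟦n⟧ ≅ (ω₂⟦n - 1⟧)⟦(1 : ℤ)⟧ :=
          (shiftFunctorAdd' (Dual.D A) (n - 1) 1 n (by lia)).app ω₂
        obtain ⟨k₀, hk₀⟩ := (shiftFunctor (Dual.D A) (1 : ℤ)).map_surjective (k ≫ κ.hom)
        obtain ⟨k₁, hk₁⟩ := (hg (n - 1)).2 k₀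
        simp only at hk₁
        have hk' : k = g⟦(1 : ℤ)⟧' ≫ k₁⟦(1 : ℤ)⟧' ≫ κ.inv := by
          rw [← Category.assoc, ← Functor.map_comp, hk₁, hk₀, Category.assoc, Iso.hom_inv_id,
            Category.comp_id]
        rw [hk, hk']
        have h3 : v ≫ g⟦(1 : ℤ)⟧' = 0 := comp_distTriang_mor_zero₃₁ _ hT
        rw [← Category.assoc, h3, zero_comp]
      rw [key f, key f']
  exact (Triangle.isZero₃_iff_isIso₁ _ hT).1 hC

end Conservative

end Groth.Agent.Lib.T2H4.GlobUniq
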