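import Groth.Agent.Lib.T2H4InvCrit
import Groth.Agent.Lib.T2H4GlobUniq1
import Groth.Agent.Lib.T2H4GlobUniq3
import Groth.Agent.Lib.T2H4LDerExist
import Groth.Agent.Lib.Helper1HomFinite

/-!
# Dualizing complexes on a connected spectrum differ by an invertible twist and a shift (helper4)
-/

set_option autoImplicit false
set_option linter.style.haveILetI false
set_option linter.unusedSectionVars false
set_option backward.isDefEq.respectTransparency.types false
universe u
open CategoryTheory CategoryTheory.Limits TensorProduct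
attribute [local instance] HasDerivedCategory.standard

namespace Groth.Agent.Lib.T2H4.GlobUniq

open DerivedCategory Pretriangulated Groth.Agent.Lib.T2H4.InvTwist Groth.Agent.Lib.T2H4.DimFun
  Groth.Agent.Lib.T2H4.DualShift

section Assemble

variable {A : Type u} [CommRing A] [IsNoetherianRing A]

lemma finite_hom_shift (ω ω' : Dual.D A) (hω : Dual.IsDualizing A ω)
    (hω' : Dual.IsDualizing A ω') (n : ℤ) : Module.Finite A (ω⟦n⟧ ⟶ ω') := by
  have hωn := isDualizing_shift ω hω n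
  obtain ⟨c, d, hcd⟩ := isZero_HD_of_isDualizing (ω⟦n⟧) hωn
  obtain ⟨a', b', hab'⟩ := isZero_HD_of_isDualizing ω' hω'
  exact Groth.Agent.Lib.Helper1.HomFinite.finite_hom_of_bounded (ω⟦n⟧) ω' c d hcd
    hωn.finite_cohomology a' b' hab' hω'.finite_cohomology

lemma subsingleton_tensor_of_right' (M : Type*) (N : Type*) [AddCommGroup M] [Module A M]
    [AddCommGroup N] [Module A N] [Subsingleton N] : Subsingleton (M ⊗[A] N) := by
  refine ⟨fun x y => ?_⟩
  have h : ∀ z : M ⊗[A] N, z = 0 := by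
    intro z
    induction z using TensorProduct.induction_on with
    | zero => rfl
    | tmul m p => rw [Subsingleton.elim p 0, TensorProduct.tmul_zero]
    | add a b ha hb => rw [ha, hb, add_zero]
  rw [h x, h y]

/-- two dualizing complexes over a Noetherian ring with connected spectrum differ by an invertible
twist and a shift. -/
theorem exists_twist [ConnectedSpace (PrimeSpectrum A)] (ω ω' : Dual.D A)
    (hω : Dual.IsDualizing A ω) (hω' : Dual.IsDualizing A ω') :
    ∃ (P : Type u) (_ : AddCommGroup P) (_ : Module A P) (_ : Module.Invertible A P) (n₀ : ℤ),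
      Nonempty (ω' ≅ ((E (ModuleCat.of A P)).obj ω)⟦n₀⟧) := by
  classical
  haveI hfin : ∀ n : ℤ, Module.Finite A (ω⟦n⟧ ⟶ ω') := finite_hom_shift ω ω' hω hω'
  haveI hfp : ∀ n : ℤ, Module.FinitePresentation A (ω⟦n⟧ ⟶ ω') :=
    fun n => Module.finitePresentation_of_finite A _
  obtain ⟨n₀, hloc, hvan⟩ := Groth.Agent.Lib.T2H4.InvCrit.exists_unique_index (R := A)
    (fun n : ℤ => (ω⟦n⟧ ⟶ ω')) (by
      intro p _
      haveI : DRing.HasLBaseChange (algebraMap A (Localization.AtPrime p)) :=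
        Groth.Agent.Lib.T2H4.LDerExist.hasLBaseChange _
      exact local_hom p ω ω' hω hω')
  -- a small model
  obtain ⟨k, f, hf⟩ := Module.Finite.exists_fin' A (ω⟦n₀⟧ ⟶ ω')
  let P := (Fin k → A) ⧸ LinearMap.ker f
  let e₀ : P ≃ₗ[A] (ω⟦n₀⟧ ⟶ ω') := f.quotKerEquivOfSurjective hf
  haveI : Module.Finite A P := Module.Finite.equiv e₀.symm
  haveI : Module.FinitePresentation A P := Module.finitePresentation_of_finite A P
  haveI hinv : Module.Invertible A P := by
    apply Groth.Agent.Lib.T2H4.InvCrit.invertible_of_local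
    intro p _
    obtain ⟨e⟩ := hloc p
    exact ⟨TensorProduct.AlgebraTensorModule.congr (LinearEquiv.refl _ _) e₀ ≪≫ₗ e⟩
  refine ⟨P, inferInstance, inferInstance, hinv, n₀, ?_⟩
  have hω₀ := isDualizing_shift ω hω n₀
  have hω₁ := isDualizing_E P (ω⟦n₀⟧) hω₀
  obtain ⟨θ₀⟩ := nonempty_homTensorEquiv' P (ω⟦n₀⟧) ω'
  let θ : ((E (ModuleCat.of A P)).obj (ω⟦n₀⟧) ⟶ ω') ≃ₗ[A] A :=
    θ₀.symm ≪≫ₗ TensorProduct.congr (LinearEquiv.refl A (Module.Dual A P)) e₀.symm ≪≫ₗ
      Module.Invertible.linearEquiv A P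
  let g : (E (ModuleCat.of A P)).obj (ω⟦n₀⟧) ⟶ ω' := θ.symm 1
  have hg1 : Function.Bijective (fun a : A => a • g) := by
    have h1 : (fun a : A => a • g) = θ.symm ∘ (fun a : A => a • (1 : A)) := by
      funext a
      show a • θ.symm 1 = θ.symm (a • (1 : A))
      rw [map_smul]
    rw [h1]
    refine θ.symm.bijective.comp ⟨fun a b h => ?_, fun a => ⟨a, ?_⟩⟩
    · simpa using h
    · simp
  have h0 : Function.Bijective (fun k : ω' ⟶ ω' => g ≫ k) := by
    rw [← Function.Bijective.of_comp_iff _ hω'.toEnd_bijective]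
    have h1 : (fun k : ω' ⟶ ω' => g ≫ k) ∘ (fun a : A => a • 𝟙 ω') = fun a : A => a • g := by
      funext a
      show g ≫ (a • 𝟙 ω') = a • g
      rw [Linear.comp_smul, Category.comp_id]
    rw [h1]
    exact hg1
  have hn : ∀ n : ℤ, n ≠ 0 → Subsingleton ((E (ModuleCat.of A P)).obj (ω⟦n₀⟧) ⟶ ω'⟦n⟧) := by
    intro n hn
    obtain ⟨θn⟩ := nonempty_homTensorEquiv' P (ω⟦n₀⟧) (ω'⟦n⟧)
    haveI hsub : Subsingleton (ω⟦n₀⟧ ⟶ ω'⟦n⟧) := by
      refine ⟨fun f f' => ?_⟩
      have key : ∀ f : ω⟦n₀⟧ ⟶ ω'⟦n⟧, f = 0 := by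
        intro f
        let κ : (ω⟦n₀ - n⟧)⟦n⟧ ≅ ω⟦n₀⟧ :=
          ((shiftFunctorAdd' (Dual.D A) (n₀ - n) n n₀ (by lia)).app ω).symm
        obtain ⟨f₀, hf₀⟩ := (shiftFunctor (Dual.D A) n).map_surjective (κ.hom ≫ f)
        haveI := hvan (n₀ - n) (by lia)
        have h1 : f₀ = 0 := Subsingleton.elim _ _
        rw [h1, Functor.map_zero] at hf₀
        exact (cancel_epi κ.hom).1 (by rw [← hf₀, comp_zero])
      rw [key f, key f']
    haveI : Subsingleton (Module.Dual A P ⊗[A] (ω⟦n₀⟧ ⟶ ω'⟦n⟧)) :=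
      subsingleton_tensor_of_right' _ _
    exact θn.symm.toEquiv.subsingleton
  haveI := isIso_of_precomp_bijective _ ω' hω₁ hω' g h0 hn
  exact ⟨(asIso g).symm ≪≫ ((E (ModuleCat.of A P)).commShiftIso n₀).app ω⟩

end Assemble

end Groth.Agent.Lib.T2H4.GlobUniq
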