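import Mathlib

/-!
# A ring map which is a localization of modules gives the tensor product algebra (helper4)
-/

set_option autoImplicit false

namespace Groth.Agent.Lib.T2H4.Glue

open TensorProduct

theorem nonempty_tensor_algEquiv {A : Type*} [CommRing A] (S : Submonoid A) (P : Type*)
    [CommRing P] [Algebra A P] [IsLocalization S P] (C : Type*) [CommRing C] [Algebra A C]
    (B : Type*) [CommRing B] [Algebra P B] (f : C →+* B)
    (hf : ∀ a : A, f (algebraMap A C a) = algebraMap P B (algebraMap A P a))
    (hsurj : ∀ b : B, ∃ s ∈ S, ∃ c : C, algebraMap P B (algebraMap A P s) * b = f c)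
    (hker : ∀ c : C, f c = 0 → ∃ s ∈ S, s • c = 0) :
    Nonempty (TensorProduct A P C ≃ₐ[P] B) := by
  letI : Algebra A B := ((algebraMap P B).comp (algebraMap A P)).toAlgebra
  haveI : IsScalarTower A P B := IsScalarTower.of_algebraMap_eq (fun _ => rfl)
  let fA : C →ₐ[A] B := { f with commutes' := hf }
  have hfA : ∀ c, fA c = f c := fun _ => rfl
  have hsm : ∀ (a : A) (b : B), a • b = algebraMap P B (algebraMap A P a) * b := fun a b => by
    rw [Algebra.smul_def]; rfl
  haveI : IsLocalizedModule S fA.toLinearMap := by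
    refine ⟨fun s => ?_, fun b => ?_, fun {c₁ c₂} h => ?_⟩
    · rw [Module.End.isUnit_iff]
      obtain ⟨u, hu⟩ := IsLocalization.map_units P s
      constructor
      · intro b₁ b₂ h
        simp only [Module.algebraMap_end_apply] at h
        rw [hsm, hsm, ← hu] at h
        have := congrArg (fun z => algebraMap P B (↑u⁻¹ : P) * z) h
        simp only [← mul_assoc, ← map_mul, Units.inv_mul, map_one, one_mul] at this
        exact this
      · intro b
        refine ⟨algebraMap P B (↑u⁻¹ : P) * b, ?_⟩
        simp only [Module.algebraMap_end_apply]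
        rw [hsm, ← hu, ← mul_assoc, ← map_mul, Units.mul_inv, map_one, one_mul]
    · obtain ⟨s, hs, c, hc⟩ := hsurj b
      refine ⟨(c, ⟨s, hs⟩), ?_⟩
      change (s : A) • b = fA c
      rw [hsm, hc, hfA]
    · have h0 : f (c₁ - c₂) = 0 := by
        rw [map_sub, sub_eq_zero]
        exact h
      obtain ⟨s, hs, hsc⟩ := hker _ h0
      refine ⟨⟨s, hs⟩, ?_⟩
      change s • c₁ = s • c₂
      rw [smul_sub, sub_eq_zero] at hsc
      exact hsc
  have hbc := IsLocalizedModule.isBaseChange S P fA.toLinearMap
  let Ψ : TensorProduct A P C →ₐ[P] B :=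
    Algebra.TensorProduct.lift (Algebra.ofId P B) fA (fun _ _ => Commute.all _ _)
  have hΨ : ∀ z, Ψ z = hbc.equiv z := by
    intro z
    induction z using TensorProduct.induction_on with
    | zero => simp
    | tmul p c =>
      rw [IsBaseChange.equiv_tmul, Algebra.TensorProduct.lift_tmul, Algebra.smul_def]
      rfl
    | add x y hx hy => rw [map_add, map_add, hx, hy]
  refine ⟨AlgEquiv.ofBijective Ψ ?_⟩
  have : (Ψ : TensorProduct A P C → B) = hbc.equiv := funext hΨ
  rw [this]
  exact hbc.equiv.bijective

end Groth.Agent.Lib.T2H4.Glue
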