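import Mathlib

/-!
# Local comparison maps `A_t → (B_q)_t` (helper4)

For a prime `q` of `A`, an `A_q`-algebra `B_q` which is an extension of `A_q` with `t`-power
torsion cokernel and on which `t` is regular, we embed `B_q` into `L = (B_q)_t` and map
`A_t → L`.
-/

set_option autoImplicit false

universe u

namespace Groth.Agent.Lib.T2H4.Glue

section loc

variable {A : Type u} [CommRing A] (t : A) (q : Ideal A) [q.IsPrime]
  (Bq : Type u) [CommRing Bq] [Algebra (Localization.AtPrime q) Bq]

/-- the image of `t` in `B_q` -/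
def tauB : Bq :=
  algebraMap (Localization.AtPrime q) Bq (algebraMap A (Localization.AtPrime q) t)

/-- `(B_q)_t` -/
abbrev LB : Type u := Localization.Away (tauB t q Bq)

/-- `A → (B_q)_t` -/
noncomputable def gB : A →+* LB t q Bq :=
  (algebraMap Bq (LB t q Bq)).comp
    ((algebraMap (Localization.AtPrime q) Bq).comp (algebraMap A (Localization.AtPrime q)))

theorem gB_apply (a : A) : gB t q Bq a = algebraMap Bq (LB t q Bq)
    (algebraMap (Localization.AtPrime q) Bq (algebraMap A (Localization.AtPrime q) a)) := rfl

theorem isUnit_gB_t : IsUnit (gB t q Bq t) :=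
  IsLocalization.Away.algebraMap_isUnit (tauB t q Bq)

/-- `A_t → (B_q)_t` -/
noncomputable def rhoB : Localization.Away t →+* LB t q Bq :=
  IsLocalization.Away.lift t (isUnit_gB_t t q Bq)

theorem rhoB_algebraMap (a : A) :
    rhoB t q Bq (algebraMap A (Localization.Away t) a) = gB t q Bq a :=
  IsLocalization.Away.lift_eq t (isUnit_gB_t t q Bq) a

variable {t q Bq}

theorem tauB_mem_nonZeroDivisors
    (hreg : IsSMulRegular Bq (algebraMap A (Localization.AtPrime q) t)) :
    tauB t q Bq ∈ nonZeroDivisors Bq := by
  rw [mem_nonZeroDivisors_iff_right]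
  intro z hz
  apply hreg
  change algebraMap A (Localization.AtPrime q) t • z = algebraMap A (Localization.AtPrime q) t • 0
  rw [smul_zero, Algebra.smul_def, mul_comm]
  exact hz

theorem algebraMap_LB_injective
    (hreg : IsSMulRegular Bq (algebraMap A (Localization.AtPrime q) t)) :
    Function.Injective (algebraMap Bq (LB t q Bq)) :=
  IsLocalization.injective _ (Submonoid.powers_le.mpr (tauB_mem_nonZeroDivisors hreg))

theorem rhoB_eq_zero (hinj : Function.Injective (algebraMap (Localization.AtPrime q) Bq))
    (hreg : IsSMulRegular Bq (algebraMap A (Localization.AtPrime q) t))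
    (x : Localization.Away t) (hx : rhoB t q Bq x = 0) :
    ∃ s ∈ q.primeCompl, s • x = 0 := by
  obtain ⟨k, a, hka⟩ := IsLocalization.Away.surj t x
  have h1 : gB t q Bq a = 0 := by
    rw [← rhoB_algebraMap, ← hka, map_mul, hx, zero_mul]
  rw [gB_apply] at h1
  have h2 : algebraMap A (Localization.AtPrime q) a = 0 := by
    apply hinj
    apply algebraMap_LB_injective hreg
    rw [h1, map_zero, map_zero]
  obtain ⟨s, hs⟩ := (IsLocalization.map_eq_zero_iff q.primeCompl (Localization.AtPrime q) a).mp h2
  refine ⟨s, s.2, ?_⟩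
  have hu : IsUnit (algebraMap A (Localization.Away t) t ^ k) :=
    IsLocalization.Away.algebraMap_pow_isUnit t k
  have h3 : ((s : A) • x) * algebraMap A (Localization.Away t) t ^ k = 0 := by
    rw [Algebra.smul_def, mul_assoc, hka, ← map_mul, hs, map_zero]
  exact (hu.mul_left_eq_zero).mp h3

theorem exists_rhoB_eq (n : ℕ)
    (hn : ∀ b : Bq, ∃ α : Localization.AtPrime q,
      algebraMap (Localization.AtPrime q) Bq α = (algebraMap A (Localization.AtPrime q) t) ^ n • b)
    (b : Bq) :
    ∃ (a s : A) (x : Localization.Away t), s ∈ q.primeCompl ∧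
      x * algebraMap A (Localization.Away t) t ^ n = algebraMap A (Localization.Away t) a ∧
      rhoB t q Bq x = algebraMap Bq (LB t q Bq)
        (algebraMap (Localization.AtPrime q) Bq (algebraMap A (Localization.AtPrime q) s) * b) := by
  obtain ⟨α, hα⟩ := hn b
  obtain ⟨⟨a, s⟩, has⟩ := IsLocalization.surj q.primeCompl α
  obtain ⟨v, hv⟩ : IsUnit (algebraMap A (Localization.Away t) t ^ n) :=
    IsLocalization.Away.algebraMap_pow_isUnit t n
  have hx : algebraMap A (Localization.Away t) a * ↑v⁻¹ * algebraMap A (Localization.Away t) t ^ n =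
      algebraMap A (Localization.Away t) a := by
    rw [← hv, mul_assoc, Units.inv_mul, mul_one]
  refine ⟨a, s, algebraMap A (Localization.Away t) a * ↑v⁻¹, s.2, hx, ?_⟩
  · have hg : IsUnit (gB t q Bq t ^ n) := (isUnit_gB_t t q Bq).pow n
    have e : gB t q Bq t ^ n = rhoB t q Bq (algebraMap A (Localization.Away t) t ^ n) := by
      rw [map_pow, rhoB_algebraMap]
    have h1 : rhoB t q Bq (algebraMap A (Localization.Away t) a * ↑v⁻¹) * gB t q Bq t ^ n =
        gB t q Bq a := by
      rw [e, ← map_mul, hx, rhoB_algebraMap]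
    have h2 : algebraMap Bq (LB t q Bq)
        (algebraMap (Localization.AtPrime q) Bq (algebraMap A (Localization.AtPrime q) s) * b) *
        gB t q Bq t ^ n = gB t q Bq a := by
      rw [gB_apply, gB_apply, ← has, map_mul, map_mul, hα, Algebra.smul_def, map_pow]
      simp only [map_mul, map_pow]
      ring
    exact hg.mul_left_injective (h1.trans h2.symm)

end loc

end Groth.Agent.Lib.T2H4.Glue
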