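import Mathlib
import Groth.Agent.Lib.T2H4GlueB

/-!
# More local lemmas for the glueing construction (helper4)
-/

set_option autoImplicit false

universe u

namespace Groth.Agent.Lib.T2H4.Glue

section loc

variable {A : Type u} [CommRing A] {t : A} {q : Ideal A} [q.IsPrime]
  {Bq : Type u} [CommRing Bq] [Algebra (Localization.AtPrime q) Bq]

theorem rhoB_smul (s : A) (x : Localization.Away t) :
    rhoB t q Bq (s • x) = gB t q Bq s * rhoB t q Bq x := by
  rw [Algebra.smul_def, map_mul, rhoB_algebraMap]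

theorem rhoB_smul_mem_range (s : A) (x : Localization.Away t)
    (hx : rhoB t q Bq x ∈ (algebraMap Bq (LB t q Bq)).range) :
    rhoB t q Bq (s • x) ∈ (algebraMap Bq (LB t q Bq)).range := by
  rw [rhoB_smul, gB_apply]
  exact Subring.mul_mem _ ⟨_, rfl⟩ hx

theorem rhoB_algebraMap_mem_range (a : A) :
    rhoB t q Bq (algebraMap A (Localization.Away t) a) ∈ (algebraMap Bq (LB t q Bq)).range := by
  rw [rhoB_algebraMap, gB_apply]
  exact ⟨_, rfl⟩

/-- if `ρ x ∈ B_q` then after multiplying by some `s ∉ q` the denominator is at most `t^n`. -/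
theorem exists_smul_denom (hinj : Function.Injective (algebraMap (Localization.AtPrime q) Bq))
    (hreg : IsSMulRegular Bq (algebraMap A (Localization.AtPrime q) t)) (n : ℕ)
    (hn : ∀ b : Bq, ∃ α : Localization.AtPrime q,
      algebraMap (Localization.AtPrime q) Bq α = (algebraMap A (Localization.AtPrime q) t) ^ n • b)
    (x : Localization.Away t) (hx : rhoB t q Bq x ∈ (algebraMap Bq (LB t q Bq)).range) :
    ∃ s ∈ q.primeCompl, ∃ a : A,
      (s • x) * algebraMap A (Localization.Away t) t ^ n = algebraMap A (Localization.Away t) a := by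
  obtain ⟨b, hb⟩ := hx
  obtain ⟨a, s, x₀, hs, hx₀, hρ⟩ := exists_rhoB_eq n hn b
  have h1 : rhoB t q Bq (s • x - x₀) = 0 := by
    rw [map_sub, rhoB_smul, hρ, map_mul, ← hb, gB_apply, sub_self]
  obtain ⟨s₂, hs₂, h2⟩ := rhoB_eq_zero hinj hreg _ h1
  refine ⟨s₂ * s, q.primeCompl.mul_mem hs₂ hs, s₂ * a, ?_⟩
  rw [smul_sub, sub_eq_zero] at h2
  rw [mul_smul, h2, Algebra.smul_def, mul_assoc, hx₀, ← map_mul]

variable [IsNoetherianRing A]

/-- if `q` is the only prime below `q` containing `t`, a power of `q` pushes `t^{-n} A` into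
`B_q`. -/
theorem exists_pow_smul_mem_range
    (hrad : ∀ p : Ideal A, p.IsPrime → p ≤ q → t ∈ p → p = q) (n : ℕ) :
    ∃ N : ℕ, ∀ s ∈ q ^ N, ∀ (x : Localization.Away t) (a : A),
      x * algebraMap A (Localization.Away t) t ^ n = algebraMap A (Localization.Away t) a →
      rhoB t q Bq (s • x) ∈ (algebraMap Bq (LB t q Bq)).range := by
  set P := Localization.AtPrime q with hP
  have hle : IsLocalRing.maximalIdeal P ≤ (Ideal.span {algebraMap A P t ^ n}).radical := by
    rw [Ideal.radical_eq_sInf]
    refine le_sInf ?_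
    rintro J ⟨hJ, hJp⟩
    have htJ : algebraMap A P t ∈ J :=
      hJp.mem_of_pow_mem n (hJ (Ideal.subset_span rfl))
    have hcomap : J.comap (algebraMap A P) = q := by
      refine hrad _ (Ideal.IsPrime.comap _) ?_ htJ
      have h1 : J ≤ IsLocalRing.maximalIdeal P := IsLocalRing.le_maximalIdeal hJp.ne_top
      have h2 := Ideal.comap_mono (f := algebraMap A P) h1
      have h2' : Ideal.comap (algebraMap A P) (IsLocalRing.maximalIdeal P) = q :=
        IsLocalization.AtPrime.under_maximalIdeal P q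
      rwa [h2'] at h2
    have h3 : J = IsLocalRing.maximalIdeal P := by
      have h4 : Ideal.map (algebraMap A P) (Ideal.comap (algebraMap A P) J) = J :=
        IsLocalization.map_under q.primeCompl P J
      rw [← h4, hcomap, Localization.AtPrime.map_eq_maximalIdeal]
    rw [h3]
  obtain ⟨N, hN⟩ := Ideal.exists_pow_le_of_le_radical_of_fg hle (IsNoetherian.noetherian _)
  refine ⟨N, fun s hs x a hxa => ?_⟩
  have h1 : algebraMap A P s ∈ IsLocalRing.maximalIdeal P ^ N := by
    rw [← Localization.AtPrime.map_eq_maximalIdeal, ← Ideal.map_pow]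
    exact Ideal.mem_map_of_mem _ hs
  obtain ⟨β, hβ⟩ := Ideal.mem_span_singleton'.mp (hN h1)
  have hg : IsUnit (gB t q Bq t ^ n) := (isUnit_gB_t t q Bq).pow n
  have e : gB t q Bq t ^ n = rhoB t q Bq (algebraMap A (Localization.Away t) t ^ n) := by
    rw [map_pow, rhoB_algebraMap]
  have h2 : rhoB t q Bq (s • x) * gB t q Bq t ^ n = gB t q Bq (s * a) := by
    rw [e, ← map_mul, Algebra.smul_def, mul_assoc, hxa, ← map_mul, rhoB_algebraMap]
  have h3 : algebraMap Bq (LB t q Bq) (algebraMap P Bq (β * algebraMap A P a)) * gB t q Bq t ^ n =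
      gB t q Bq (s * a) := by
    rw [gB_apply, gB_apply, map_mul (algebraMap A P), ← hβ]
    simp only [map_mul, map_pow]
    ring
  refine ⟨algebraMap P Bq (β * algebraMap A P a), ?_⟩
  exact hg.mul_left_injective (h3.trans h2.symm)

end loc

end Groth.Agent.Lib.T2H4.Glue
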