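import Mathlib
import Groth.Agent.Lib.T2H4GlueC

/-!
# The modules `M_n ⊆ A_t` (helper4)
-/

set_option autoImplicit false

universe u

namespace Groth.Agent.Lib.T2H4.Glue

section glob

variable {A : Type u} [CommRing A] (t : A) {r : ℕ} (q : Fin r → Ideal A)
  [hq : ∀ i, (q i).IsPrime]
  (B : Fin r → Type u) [∀ i, CommRing (B i)] [∀ i, Algebra (Localization.AtPrime (q i)) (B i)]

/-- elements of `t^{-n} A` lying in every `B_i` -/
def Mn (n : ℕ) : Submodule A (Localization.Away t) where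
  carrier := {x | (∃ a : A, x * algebraMap A (Localization.Away t) t ^ n =
      algebraMap A (Localization.Away t) a) ∧
    ∀ i, rhoB t (q i) (B i) x ∈ (algebraMap (B i) (LB t (q i) (B i))).range}
  add_mem' := by
    rintro x y ⟨⟨a, ha⟩, hx⟩ ⟨⟨b, hb⟩, hy⟩
    refine ⟨⟨a + b, by rw [add_mul, ha, hb, map_add]⟩, fun i => ?_⟩
    rw [map_add]
    exact Subring.add_mem _ (hx i) (hy i)
  zero_mem' := ⟨⟨0, by simp⟩, fun i => by rw [map_zero]; exact Subring.zero_mem _⟩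
  smul_mem' := by
    rintro c x ⟨⟨a, ha⟩, hx⟩
    refine ⟨⟨c * a, by rw [Algebra.smul_def, mul_assoc, ha, map_mul]⟩,
      fun i => rhoB_smul_mem_range c x (hx i)⟩

variable {t q B}

theorem mem_Mn {n : ℕ} {x : Localization.Away t} : x ∈ Mn t q B n ↔
    (∃ a : A, x * algebraMap A (Localization.Away t) t ^ n =
      algebraMap A (Localization.Away t) a) ∧
    ∀ i, rhoB t (q i) (B i) x ∈ (algebraMap (B i) (LB t (q i) (B i))).range := Iff.rfl

theorem algebraMap_mem_Mn (n : ℕ) (a : A) :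
    algebraMap A (Localization.Away t) a ∈ Mn t q B n := by
  refine ⟨⟨a * t ^ n, by rw [map_mul, map_pow]⟩, fun i => rhoB_algebraMap_mem_range a⟩

theorem mul_mem_Mn {n n' : ℕ} {x y : Localization.Away t} (hx : x ∈ Mn t q B n)
    (hy : y ∈ Mn t q B n') : x * y ∈ Mn t q B (n + n') := by
  obtain ⟨⟨a, ha⟩, hx'⟩ := hx
  obtain ⟨⟨b, hb⟩, hy'⟩ := hy
  refine ⟨⟨a * b, ?_⟩, fun i => ?_⟩
  · rw [map_mul, ← ha, ← hb, pow_add]
    ring
  · rw [map_mul]
    exact Subring.mul_mem _ (hx' i) (hy' i)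

theorem Mn_mono (n k : ℕ) : Mn t q B n ≤ Mn t q B (n + k) := by
  rintro x ⟨⟨a, ha⟩, hx⟩
  refine ⟨⟨a * t ^ k, ?_⟩, hx⟩
  rw [pow_add, ← mul_assoc, ha, map_mul, map_pow]

theorem pow_smul_mem_Mn {n k : ℕ} {x : Localization.Away t} (hx : x ∈ Mn t q B (n + k)) :
    (t ^ k) • x ∈ Mn t q B n := by
  obtain ⟨⟨a, ha⟩, hx'⟩ := hx
  refine ⟨⟨a, ?_⟩, fun i => rhoB_smul_mem_range _ x (hx' i)⟩
  rw [Algebra.smul_def, map_pow, ← ha, pow_add]
  ring

theorem Mn_fg [IsNoetherianRing A] (n : ℕ) : (Mn t q B n).FG := by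
  obtain ⟨v, hv⟩ : IsUnit (algebraMap A (Localization.Away t) t ^ n) :=
    IsLocalization.Away.algebraMap_pow_isUnit t n
  have hle : Mn t q B n ≤ Submodule.span A {(↑v⁻¹ : Localization.Away t)} := by
    rintro x ⟨⟨a, ha⟩, -⟩
    rw [Submodule.mem_span_singleton]
    refine ⟨a, ?_⟩
    rw [Algebra.smul_def, ← ha, ← hv, mul_assoc, Units.mul_inv, mul_one]
  haveI : IsNoetherian A (Submodule.span A {(↑v⁻¹ : Localization.Away t)}) :=
    isNoetherian_span_of_finite A (Set.finite_singleton _)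
  have h1 : ((Mn t q B n).comap (Submodule.span A {(↑v⁻¹ : Localization.Away t)}).subtype).FG :=
    IsNoetherian.noetherian _
  have h2 := h1.map (Submodule.span A {(↑v⁻¹ : Localization.Away t)}).subtype
  rwa [Submodule.map_comap_subtype, inf_eq_right.mpr hle] at h2

end glob

end Groth.Agent.Lib.T2H4.Glue
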