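import Mathlib
import Groth.Agent.Lib.T2H4GlueA
import Groth.Agent.Lib.T2H4GlueD

/-!
# Glueing finite extensions of the height-one localizations (helper4)
-/

set_option autoImplicit false

universe u

namespace Groth.Agent.Lib.T2H4.Glue

open IsLocalRing

section glob

variable {A : Type u} [CommRing A] [IsNoetherianRing A] [IsLocalRing A] {t : A} {r : ℕ}
  {q : Fin r → Ideal A} [hq : ∀ i, (q i).IsPrime]
  {B : Fin r → Type u} [∀ i, CommRing (B i)] [∀ i, Algebra (Localization.AtPrime (q i)) (B i)]

/-- a power of the maximal ideal pushes `M_{2n}` into `M_n`. -/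
theorem exists_pow_smul_le
    (hV : ∀ p : Ideal A, p.IsPrime → t ∈ p → p = maximalIdeal A ∨ ∃ i, p = q i)
    (hinj : ∀ i, Function.Injective (algebraMap (Localization.AtPrime (q i)) (B i)))
    (hreg : ∀ i, IsSMulRegular (B i) (algebraMap A (Localization.AtPrime (q i)) t))
    (n : ℕ) (hn : ∀ i (b : B i), ∃ α : Localization.AtPrime (q i),
      algebraMap (Localization.AtPrime (q i)) (B i) α =
        (algebraMap A (Localization.AtPrime (q i)) t) ^ n • b) :
    ∃ c : ℕ, maximalIdeal A ^ c • Mn t q B (n + n) ≤ Mn t q B n := by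
  classical
  -- pointwise
  have hpt : ∀ x ∈ Mn t q B (n + n), ∃ c : ℕ, ∀ a ∈ maximalIdeal A ^ c, a • x ∈ Mn t q B n := by
    intro x hx
    set J : Ideal A := (Mn t q B n).comap (LinearMap.toSpanSingleton A (Localization.Away t) x)
      with hJ
    have hJmem : ∀ a, a ∈ J ↔ a • x ∈ Mn t q B n := fun a => by
      rw [hJ, Submodule.mem_comap, LinearMap.toSpanSingleton_apply]
    have hle : maximalIdeal A ≤ J.radical := by
      rw [Ideal.radical_eq_sInf]
      refine le_sInf ?_
      rintro p ⟨hJp, hp⟩
      have htp : t ∈ p := by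
        have : t ^ n ∈ J := (hJmem _).mpr (pow_smul_mem_Mn hx)
        exact hp.mem_of_pow_mem n (hJp this)
      rcases hV p hp htp with h | ⟨i, hi⟩
      · rw [h]
      · exfalso
        obtain ⟨s, hs, a, hsa⟩ := exists_smul_denom (hinj i) (hreg i) n (hn i) x (hx.2 i)
        have hsJ : s ∈ J := by
          rw [hJmem]
          exact ⟨⟨a, hsa⟩, fun j => rhoB_smul_mem_range s x (hx.2 j)⟩
        have : s ∈ q i := hi ▸ hJp hsJ
        exact hs this
    obtain ⟨c, hc⟩ := Ideal.exists_pow_le_of_le_radical_of_fg hle (IsNoetherian.noetherian _)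
    exact ⟨c, fun a ha => (hJmem a).mp (hc ha)⟩
  obtain ⟨G, hG⟩ := Mn_fg (t := t) (q := q) (B := B) (n + n)
  choose! cf hcf using hpt
  refine ⟨G.sup cf, ?_⟩
  rw [Submodule.smul_le]
  intro a ha y hy
  rw [← hG] at hy
  induction hy using Submodule.span_induction with
  | mem x hx =>
    have hxM : x ∈ Mn t q B (n + n) := hG ▸ Submodule.subset_span hx
    refine hcf x hxM a ?_
    exact Ideal.pow_le_pow_right (Finset.le_sup (f := cf) hx) ha
  | zero => rw [smul_zero]; exact Submodule.zero_mem _
  | add y z _ _ h1 h2 => rw [smul_add]; exact Submodule.add_mem _ h1 h2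
  | smul b y _ h1 => rw [smul_comm]; exact Submodule.smul_mem _ _ h1

/-- the glued subalgebra `A + 𝔪^{c+1} M_n` -/
def glueSub (n c : ℕ) (hc : maximalIdeal A ^ c • Mn t q B (n + n) ≤ Mn t q B n) :
    Subalgebra A (Localization.Away t) :=
  Submodule.toSubalgebra ((1 : Submodule A (Localization.Away t)) ⊔
      maximalIdeal A ^ (c + 1) • Mn t q B n)
    (Submodule.mem_sup_left (Submodule.one_le.mp le_rfl))
    (by
      -- product of M_n with 𝔪^c M_n lands in M_n
      have hmul1 : ∀ m ∈ Mn t q B n, ∀ y ∈ maximalIdeal A ^ c • Mn t q B n,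
          m * y ∈ Mn t q B n := by
        intro m hm y hy
        refine Submodule.smul_induction_on hy ?_ ?_
        · intro b hb m' hm'
          rw [mul_smul_comm]
          exact hc (Submodule.smul_mem_smul hb (mul_mem_Mn hm hm'))
        · intro y z h1 h2
          rw [mul_add]; exact Submodule.add_mem _ h1 h2
      have hle : maximalIdeal A ^ (c + 1) • Mn t q B n ≤ maximalIdeal A ^ c • Mn t q B n :=
        Submodule.smul_mono_left (Ideal.pow_le_pow_right (Nat.le_succ c))
      have hmul2 : ∀ y ∈ maximalIdeal A ^ (c + 1) • Mn t q B n,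
          ∀ z ∈ maximalIdeal A ^ (c + 1) • Mn t q B n,
          y * z ∈ maximalIdeal A ^ (c + 1) • Mn t q B n := by
        intro y hy z hz
        refine Submodule.smul_induction_on hy ?_ ?_
        · intro b hb m hm
          rw [smul_mul_assoc]
          exact Submodule.smul_mem_smul hb (hmul1 m hm z (hle hz))
        · intro y y' h1 h2
          rw [add_mul]; exact Submodule.add_mem _ h1 h2
      intro x y hx hy
      obtain ⟨x1, hx1, x2, hx2, rfl⟩ := Submodule.mem_sup.mp hx
      obtain ⟨y1, hy1, y2, hy2, rfl⟩ := Submodule.mem_sup.mp hy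
      obtain ⟨a, rfl⟩ := Submodule.mem_one.mp hx1
      obtain ⟨b, rfl⟩ := Submodule.mem_one.mp hy1
      have e : (algebraMap A (Localization.Away t) a + x2) *
          (algebraMap A (Localization.Away t) b + y2) =
          algebraMap A (Localization.Away t) (a * b) + (a • y2 + b • x2 + x2 * y2) := by
        rw [Algebra.smul_def, Algebra.smul_def, map_mul]
        ring
      rw [e]
      refine Submodule.add_mem _ (Submodule.mem_sup_left (Submodule.mem_one.mpr ⟨_, rfl⟩))
        (Submodule.mem_sup_right ?_)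
      exact Submodule.add_mem _ (Submodule.add_mem _ (Submodule.smul_mem _ _ hy2)
        (Submodule.smul_mem _ _ hx2)) (hmul2 x2 hx2 y2 hy2))

omit [IsNoetherianRing A] in
theorem mem_glueSub {n c : ℕ} {hc : maximalIdeal A ^ c • Mn t q B (n + n) ≤ Mn t q B n}
    {x : Localization.Away t} : x ∈ glueSub n c hc ↔
    x ∈ (1 : Submodule A (Localization.Away t)) ⊔ maximalIdeal A ^ (c + 1) • Mn t q B n :=
  Iff.rfl

theorem glueSub_le_Mn {n c : ℕ} (hc : maximalIdeal A ^ c • Mn t q B (n + n) ≤ Mn t q B n)
    {x : Localization.Away t} (hx : x ∈ glueSub n c hc) : x ∈ Mn t q B n := by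
  rw [mem_glueSub] at hx
  have h1 : (1 : Submodule A (Localization.Away t)) ≤ Mn t q B n := by
    intro y hy
    obtain ⟨a, rfl⟩ := Submodule.mem_one.mp hy
    exact algebraMap_mem_Mn n a
  have h2 : (1 : Submodule A (Localization.Away t)) ⊔ maximalIdeal A ^ (c + 1) • Mn t q B n ≤
      Mn t q B n := sup_le h1 Submodule.smul_le_right
  exact h2 hx

theorem finite_glueSub {n c : ℕ} (hc : maximalIdeal A ^ c • Mn t q B (n + n) ≤ Mn t q B n) :
    Module.Finite A (glueSub n c hc) := by
  have hle : Subalgebra.toSubmodule (glueSub n c hc) ≤ Mn t q B n := fun x hx => glueSub_le_Mn hc hx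
  obtain ⟨v, hv⟩ : IsUnit (algebraMap A (Localization.Away t) t ^ n) :=
    IsLocalization.Away.algebraMap_pow_isUnit t n
  have hle2 : Subalgebra.toSubmodule (glueSub n c hc) ≤
      Submodule.span A {(↑v⁻¹ : Localization.Away t)} := by
    intro x hx
    obtain ⟨⟨a, ha⟩, -⟩ := hle hx
    rw [Submodule.mem_span_singleton]
    refine ⟨a, ?_⟩
    rw [Algebra.smul_def, ← ha, ← hv, mul_assoc, Units.mul_inv, mul_one]
  haveI : IsNoetherian A (Submodule.span A {(↑v⁻¹ : Localization.Away t)}) :=
    isNoetherian_span_of_finite A (Set.finite_singleton _)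
  haveI : IsNoetherian A (Subalgebra.toSubmodule (glueSub n c hc)) := isNoetherian_of_le hle2
  exact (inferInstance : Module.Finite A (Subalgebra.toSubmodule (glueSub n c hc)))

end glob

end Groth.Agent.Lib.T2H4.Glue
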