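import Mathlib
import Groth.Agent.Lib.T2H4GlueE

/-!
# The localizations of the glued algebra (helper4)
-/

set_option autoImplicit false

universe u

namespace Groth.Agent.Lib.T2H4.Glue

open IsLocalRing

section glob

variable {A : Type u} [CommRing A] [IsNoetherianRing A] [IsLocalRing A] {t : A} {r : ℕ}
  {q : Fin r → Ideal A} [hq : ∀ i, (q i).IsPrime]
  {B : Fin r → Type u} [∀ i, CommRing (B i)] [∀ i, Algebra (Localization.AtPrime (q i)) (B i)]

theorem nonempty_tensor_glueSub (i : Fin r) {n c : ℕ}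
    (hc : maximalIdeal A ^ c • Mn t q B (n + n) ≤ Mn t q B n)
    (hqm : ∀ i, q i ≠ maximalIdeal A)
    (hne : ∀ i j, q j ≤ q i → j = i)
    (hrad : ∀ i, ∀ p : Ideal A, p.IsPrime → p ≤ q i → t ∈ p → p = q i)
    (hinj : ∀ i, Function.Injective (algebraMap (Localization.AtPrime (q i)) (B i)))
    (hreg : ∀ i, IsSMulRegular (B i) (algebraMap A (Localization.AtPrime (q i)) t))
    (hn : ∀ i (b : B i), ∃ α : Localization.AtPrime (q i),
      algebraMap (Localization.AtPrime (q i)) (B i) α =
        (algebraMap A (Localization.AtPrime (q i)) t) ^ n • b) :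
    Nonempty (TensorProduct A (Localization.AtPrime (q i)) (glueSub n c hc)
      ≃ₐ[Localization.AtPrime (q i)] B i) := by
  classical
  set ι := algebraMap (B i) (LB t (q i) (B i)) with hι
  have hιinj : Function.Injective ι := algebraMap_LB_injective (hreg i)
  let e : B i ≃+* ι.range := RingEquiv.ofBijective ι.rangeRestrict
    ⟨fun x y h => hιinj (congrArg Subtype.val h), ι.rangeRestrict_surjective⟩
  have he : ∀ x, ((e x : ι.range) : LB t (q i) (B i)) = ι x := fun _ => rfl
  let ρC : glueSub n c hc →+* ι.range :=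
    ((rhoB t (q i) (B i)).comp (glueSub n c hc).val.toRingHom).codRestrict ι.range
      (fun cc => (glueSub_le_Mn hc cc.2).2 i)
  have hρC : ∀ cc, ((ρC cc : ι.range) : LB t (q i) (B i)) =
      rhoB t (q i) (B i) (cc : Localization.Away t) := fun _ => rfl
  let f : glueSub n c hc →+* B i := (e.symm : ι.range →+* B i).comp ρC
  have hf_spec : ∀ cc : glueSub n c hc, ι (f cc) = rhoB t (q i) (B i) (cc : Localization.Away t) := by
    intro cc
    have h1 : e (f cc) = ρC cc := e.apply_symm_apply _
    rw [← he, h1, hρC]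
  refine nonempty_tensor_algEquiv (q i).primeCompl (Localization.AtPrime (q i)) (glueSub n c hc)
    (B i) f ?_ ?_ ?_
  · intro a
    apply hιinj
    rw [hf_spec]
    exact rhoB_algebraMap t (q i) (B i) a
  · intro b
    obtain ⟨a, s₁, x₀, hs₁, hx₀, hρ₀⟩ := exists_rhoB_eq n (hn i) b
    choose N hN using fun j => exists_pow_smul_mem_range (Bq := B j) (hrad j) n
    have hex : ∀ j, j ≠ i → ∃ s ∈ q j ^ N j, s ∉ q i := by
      intro j hj
      apply SetLike.not_le_iff_exists.mp
      intro hle
      exact hj (hne i j ((hq i).le_of_pow_le hle))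
    choose sj hsj1 hsj2 using hex
    set s' : Fin r → A := fun j => if h : j = i then 1 else sj j h with hs'
    set σ : A := ∏ j, s' j with hσ
    have hσi : σ ∈ (q i).primeCompl := by
      refine Submonoid.prod_mem _ fun j _ => ?_
      rw [hs']
      by_cases h : j = i
      · simp only [dif_pos h]; exact Submonoid.one_mem _
      · simp only [dif_neg h]; exact hsj2 j h
    have hx₁ : σ • x₀ ∈ Mn t q B n := by
      refine ⟨⟨σ * a, by rw [Algebra.smul_def, mul_assoc, hx₀, map_mul]⟩, fun j => ?_⟩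
      by_cases h : j = i
      · subst h
        exact rhoB_smul_mem_range σ x₀ ⟨_, hρ₀.symm⟩
      · have hsplit : σ = s' j * ∏ k ∈ Finset.univ.erase j, s' k :=
          (Finset.mul_prod_erase Finset.univ s' (Finset.mem_univ j)).symm
        have hs'j : s' j = sj j h := by rw [hs']; simp only [dif_neg h]
        rw [hsplit, mul_smul, hs'j]
        refine hN j (sj j h) (hsj1 j h) _ ((∏ k ∈ Finset.univ.erase j, s' k) * a) ?_
        rw [Algebra.smul_def, mul_assoc, hx₀, map_mul]
    obtain ⟨u, hu1, hu2⟩ : ∃ u ∈ maximalIdeal A ^ (c + 1), u ∉ q i := by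
      apply SetLike.not_le_iff_exists.mp
      intro hle
      have h1 : maximalIdeal A ≤ q i := (hq i).le_of_pow_le hle
      exact hqm i (le_antisymm (IsLocalRing.le_maximalIdeal (hq i).ne_top) h1)
    have hcc : u • (σ • x₀) ∈ glueSub n c hc :=
      mem_glueSub.mpr (Submodule.mem_sup_right (Submodule.smul_mem_smul hu1 hx₁))
    refine ⟨u * σ * s₁, (q i).primeCompl.mul_mem ((q i).primeCompl.mul_mem hu2 hσi) hs₁,
      ⟨_, hcc⟩, ?_⟩
    apply hιinj
    rw [hf_spec]
    change _ = rhoB t (q i) (B i) (u • (σ • x₀))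
    rw [rhoB_smul, rhoB_smul, hρ₀, gB_apply, gB_apply]
    simp only [map_mul]
    ring
  · intro cc hcc
    have h0 : rhoB t (q i) (B i) (cc : Localization.Away t) = 0 := by
      rw [← hf_spec, hcc, map_zero]
    obtain ⟨s, hs, hsx⟩ := rhoB_eq_zero (hinj i) (hreg i) _ h0
    exact ⟨s, hs, Subtype.ext hsx⟩

end glob

end Groth.Agent.Lib.T2H4.Glue
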