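import Mathlib
import Groth.Agent.Lib.Helper2GrModBridge
import Groth.Agent.Lib.Helper2GrModQCoh

/-!
# Sections of `M(n)~` (`GrMod.tilde`, gradings by additive subgroups) over `D₊(g)` and the localisation `M_g` (helper4)

For `g` homogeneous of positive degree, the direct sum over `n : ℤ` of the sections of `M(n)~` over `D₊(g)`
is any localisation of `M` at the powers of `g`.
-/

set_option autoImplicit false

namespace Groth.Agent.Lib.T2H4.GrModSec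

universe u
open CategoryTheory AlgebraicGeometry TopologicalSpace Opposite
open Groth.Agent.Lib.Helper2GrModSect

variable {A σ : Type u} [CommRing A] [SetLike σ A] [AddSubgroupClass σ A] (𝒜 : ℕ → σ)
  [GradedRing 𝒜]
variable {M τ : Type u} [AddCommGroup M] [Module A M] [SetLike τ M] [AddSubgroupClass τ M]
  (ℳ : ℕ → τ) [DirectSum.Decomposition ℳ] [SetLike.GradedSMul 𝒜 ℳ]

omit [DirectSum.Decomposition ℳ] in
theorem secVal_add (n : ℤ) (W : (Proj 𝒜).Opens) (s s' : Γ(GrMod.tilde 𝒜 ℳ n, W))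
    (y : ProjectiveSpectrum 𝒜) (hy : y ∈ W) :
    secVal 𝒜 ℳ n W (s + s') y hy = secVal 𝒜 ℳ n W s y hy + secVal 𝒜 ℳ n W s' y hy := rfl

lemma not_mem_of_mem {W : (Proj 𝒜).Opens} {g : A} (hW : W = Proj.basicOpen 𝒜 g)
    {y : ProjectiveSpectrum 𝒜} (hy : y ∈ W) : g ∉ y.asHomogeneousIdeal := by
  subst hW
  exact (ProjectiveSpectrum.mem_basicOpen 𝒜 g y).mp hy

lemma pow_not_mem {W : (Proj 𝒜).Opens} {g : A} (hW : W = Proj.basicOpen 𝒜 g)
    {y : ProjectiveSpectrum 𝒜} (hy : y ∈ W) (k : ℕ) : g ^ k ∈ y.asHomogeneousIdeal.toIdeal.primeCompl :=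
  fun h => not_mem_of_mem 𝒜 hW hy (y.isPrime.mem_of_pow_mem k h)

/-- `s` is the fraction `m / g ^ k` on all of `W = D₊(g)` -/
def IsRep (n : ℤ) {W : (Proj 𝒜).Opens} {g : A} (hW : W = Proj.basicOpen 𝒜 g)
    (s : Γ(GrMod.tilde 𝒜 ℳ n, W)) (k : ℕ) (m : M) : Prop :=
  ∀ (y : ProjectiveSpectrum 𝒜) (hy : y ∈ W), secVal 𝒜 ℳ n W s y hy =
    LocalizedModule.mk m ⟨g ^ k, pow_not_mem 𝒜 hW hy k⟩

variable {𝒜 ℳ}

theorem exists_rep (n : ℤ) {W : (Proj 𝒜).Opens} {g : A} {d : ℕ} (hd : 0 < d) (hg : g ∈ 𝒜 d)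
    (hW : W = Proj.basicOpen 𝒜 g) (s : Γ(GrMod.tilde 𝒜 ℳ n, W)) :
    ∃ (k i : ℕ) (m : M), m ∈ ℳ i ∧ (i : ℤ) = k * d + n ∧ IsRep 𝒜 ℳ n hW s k m := by
  subst hW
  obtain ⟨k, i, m, hi, hm⟩ := exists_global (toSect 𝒜 ℳ n _ s) hd hg
  exact ⟨k, i, m.1, m.2, hi, fun y hy => hm ⟨y, hy⟩⟩

lemma pow_mem_deg {g : A} {d : ℕ} (hg : g ∈ 𝒜 d) (k : ℕ) : g ^ k ∈ 𝒜 (k * d) := by
  have := SetLike.pow_mem_graded k hg
  simpa [smul_eq_mul] using this

omit [GradedRing 𝒜] [DirectSum.Decomposition ℳ] in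
lemma smul_mem_deg {a : A} {m : M} {i j : ℕ} (ha : a ∈ 𝒜 i) (hm : m ∈ ℳ j) : a • m ∈ ℳ (i + j) :=
  SetLike.GradedSMul.smul_mem ha hm

theorem rep_unique (n : ℤ) {W : (Proj 𝒜).Opens} {g : A} {d : ℕ} (hd : 0 < d) (hg : g ∈ 𝒜 d)
    (hW : W = Proj.basicOpen 𝒜 g) (s : Γ(GrMod.tilde 𝒜 ℳ n, W))
    {k i : ℕ} {m : M} (hm : m ∈ ℳ i) (hi : (i : ℤ) = k * d + n) (hrep : IsRep 𝒜 ℳ n hW s k m)
    {k' i' : ℕ} {m' : M} (hm' : m' ∈ ℳ i') (hi' : (i' : ℤ) = k' * d + n)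
    (hrep' : IsRep 𝒜 ℳ n hW s k' m') :
    ∃ K : ℕ, g ^ K • (g ^ k' • m - g ^ k • m') = 0 := by
  have hdeg : k' * d + i = k * d + i' := by
    have h1 : ((k' * d + i : ℕ) : ℤ) = ((k * d + i' : ℕ) : ℤ) := by
      push_cast
      rw [hi, hi']
      ring
    exact_mod_cast h1
  have hμ : g ^ k' • m - g ^ k • m' ∈ ℳ (k' * d + i) := by
    refine sub_mem (smul_mem_deg (pow_mem_deg hg k') hm) ?_
    rw [hdeg]
    exact smul_mem_deg (pow_mem_deg hg k) hm'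
  obtain ⟨N, hN⟩ := exists_pow_smul_eq_zero 𝒜 ℳ hd hg hμ (fun y hy => by
    have hyW : y ∈ W := by
      subst hW
      exact (ProjectiveSpectrum.mem_basicOpen 𝒜 g y).mpr hy
    have h1 := (hrep y hyW).symm.trans (hrep' y hyW)
    obtain ⟨u, hu⟩ := LocalizedModule.mk_eq.mp h1
    refine ⟨u.1, u.2, ?_⟩
    rw [smul_sub, sub_eq_zero]
    exact hu)
  exact ⟨N, hN N le_rfl⟩

section Theta

variable {N : Type u} [AddCommGroup N] [Module A N]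

/-- the value in a localisation `N = M_g` of a section over `D₊(g)` -/
noncomputable def theta (n : ℤ) {W : (Proj 𝒜).Opens} {g : A} {d : ℕ} (hd : 0 < d) (hg : g ∈ 𝒜 d)
    (hW : W = Proj.basicOpen 𝒜 g) (l : M →ₗ[A] N) [IsLocalizedModule (Submonoid.powers g) l]
    (s : Γ(GrMod.tilde 𝒜 ℳ n, W)) : N :=
  IsLocalizedModule.mk' l (exists_rep (ℳ := ℳ) n hd hg hW s).choose_spec.choose_spec.choose
    (⟨g ^ (exists_rep (ℳ := ℳ) n hd hg hW s).choose, ⟨_, rfl⟩⟩ : Submonoid.powers g)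

theorem theta_eq (n : ℤ) {W : (Proj 𝒜).Opens} {g : A} {d : ℕ} (hd : 0 < d) (hg : g ∈ 𝒜 d)
    (hW : W = Proj.basicOpen 𝒜 g) (l : M →ₗ[A] N) [IsLocalizedModule (Submonoid.powers g) l]
    (s : Γ(GrMod.tilde 𝒜 ℳ n, W)) {k i : ℕ} {m : M} (hm : m ∈ ℳ i) (hi : (i : ℤ) = k * d + n)
    (hrep : IsRep 𝒜 ℳ n hW s k m) :
    theta n hd hg hW l s = IsLocalizedModule.mk' l m (⟨g ^ k, ⟨_, rfl⟩⟩ : Submonoid.powers g) := by
  obtain ⟨hm', hi', hrep'⟩ := (exists_rep (ℳ := ℳ) n hd hg hW s).choose_spec.choose_spec.choose_spec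
  obtain ⟨K, hK⟩ := rep_unique n hd hg hW s hm hi hrep hm' hi' hrep'
  unfold theta
  rw [IsLocalizedModule.mk'_eq_mk'_iff]
  refine ⟨⟨g ^ K, ⟨_, rfl⟩⟩, ?_⟩
  rw [smul_sub, sub_eq_zero] at hK
  exact hK

end Theta

section Theta2

variable {N : Type u} [AddCommGroup N] [Module A N]

lemma IsRep.add (n : ℤ) {W : (Proj 𝒜).Opens} {g : A} (hW : W = Proj.basicOpen 𝒜 g)
    {s s' : Γ(GrMod.tilde 𝒜 ℳ n, W)} {k k' : ℕ} {m m' : M}
    (h : IsRep 𝒜 ℳ n hW s k m) (h' : IsRep 𝒜 ℳ n hW s' k' m') :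
    IsRep 𝒜 ℳ n hW (s + s') (k + k') (g ^ k' • m + g ^ k • m') := by
  intro y hy
  rw [secVal_add, h y hy, h' y hy, LocalizedModule.mk_add_mk]
  refine LocalizedModule.mk_eq.mpr ⟨1, ?_⟩
  rw [one_smul, one_smul]
  change g ^ (k + k') • (g ^ k' • m + g ^ k • m') = (g ^ k * g ^ k') • (g ^ k' • m + g ^ k • m')
  rw [pow_add]

omit [DirectSum.Decomposition ℳ] in
lemma IsRep.scale (n : ℤ) {W : (Proj 𝒜).Opens} {g : A} (hW : W = Proj.basicOpen 𝒜 g)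
    {s : Γ(GrMod.tilde 𝒜 ℳ n, W)} {k : ℕ} {m : M}
    (h : IsRep 𝒜 ℳ n hW s k m) (j : ℕ) :
    IsRep 𝒜 ℳ n hW s (j + k) (g ^ j • m) := by
  intro y hy
  rw [h y hy]
  refine LocalizedModule.mk_eq.mpr ⟨1, ?_⟩
  rw [one_smul, one_smul]
  change g ^ (j + k) • m = g ^ k • g ^ j • m
  rw [pow_add, mul_smul, smul_comm]

theorem theta_add (n : ℤ) {W : (Proj 𝒜).Opens} {g : A} {d : ℕ} (hd : 0 < d) (hg : g ∈ 𝒜 d)
    (hW : W = Proj.basicOpen 𝒜 g) (l : M →ₗ[A] N) [IsLocalizedModule (Submonoid.powers g) l]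
    (s s' : Γ(GrMod.tilde 𝒜 ℳ n, W)) :
    theta n hd hg hW l (s + s') = theta n hd hg hW l s + theta n hd hg hW l s' := by
  obtain ⟨k, i, m, hm, hi, hrep⟩ := exists_rep (ℳ := ℳ) n hd hg hW s
  obtain ⟨k', i', m', hm', hi', hrep'⟩ := exists_rep (ℳ := ℳ) n hd hg hW s'
  have hdeg : k' * d + i = k * d + i' := by
    have h1 : ((k' * d + i : ℕ) : ℤ) = ((k * d + i' : ℕ) : ℤ) := by
      push_cast
      rw [hi, hi']
      ring
    exact_mod_cast h1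
  have hμ : g ^ k' • m + g ^ k • m' ∈ ℳ (k' * d + i) := by
    refine add_mem (smul_mem_deg (pow_mem_deg hg k') hm) ?_
    rw [hdeg]
    exact smul_mem_deg (pow_mem_deg hg k) hm'
  have hi2 : ((k' * d + i : ℕ) : ℤ) = ((k + k' : ℕ) : ℤ) * d + n := by
    push_cast
    rw [hi]
    ring
  rw [theta_eq n hd hg hW l s hm hi hrep, theta_eq n hd hg hW l s' hm' hi' hrep',
    theta_eq n hd hg hW l (s + s') hμ hi2 (IsRep.add n hW hrep hrep'),
    IsLocalizedModule.mk'_add_mk']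
  have e1 : (⟨g ^ k', ⟨_, rfl⟩⟩ : Submonoid.powers g) • m + (⟨g ^ k, ⟨_, rfl⟩⟩ : Submonoid.powers g) • m' =
      g ^ k' • m + g ^ k • m' := rfl
  have e2 : ((⟨g ^ k, ⟨_, rfl⟩⟩ : Submonoid.powers g) * ⟨g ^ k', ⟨_, rfl⟩⟩) =
      (⟨g ^ (k + k'), ⟨_, rfl⟩⟩ : Submonoid.powers g) := by
    apply Subtype.ext
    change g ^ k * g ^ k' = g ^ (k + k')
    rw [pow_add]
  rw [e1, e2]

/-- `theta` as an additive map -/
noncomputable def thetaHom (n : ℤ) {W : (Proj 𝒜).Opens} {g : A} {d : ℕ} (hd : 0 < d) (hg : g ∈ 𝒜 d)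
    (hW : W = Proj.basicOpen 𝒜 g) (l : M →ₗ[A] N) [IsLocalizedModule (Submonoid.powers g) l] :
    Γ(GrMod.tilde 𝒜 ℳ n, W) →+ N :=
  AddMonoidHom.mk' (theta n hd hg hW l) (theta_add n hd hg hW l)

theorem theta_res (n : ℤ) {W W' : (Proj 𝒜).Opens} (hle : W' ≤ W) {g g' h : A} {d e : ℕ} (hd : 0 < d)
    (hg : g ∈ 𝒜 d) (hh : h ∈ 𝒜 e) (hgg : g' = h * g)
    (hW : W = Proj.basicOpen 𝒜 g) (hW' : W' = Proj.basicOpen 𝒜 g')
    (l : M →ₗ[A] N) [IsLocalizedModule (Submonoid.powers g) l]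
    {N' : Type u} [AddCommGroup N'] [Module A N']
    (l' : M →ₗ[A] N') [IsLocalizedModule (Submonoid.powers g') l']
    (ρ : N →ₗ[A] N') (hρ : ∀ m, ρ (l m) = l' m)
    (hd' : 0 < e + d) (hg' : g' ∈ 𝒜 (e + d))
    (s : Γ(GrMod.tilde 𝒜 ℳ n, W)) :
    theta n hd' hg' hW' l' ((GrMod.tilde 𝒜 ℳ n).presheaf.map (homOfLE hle).op s) =
      ρ (theta n hd hg hW l s) := by
  obtain ⟨k, i, m, hm, hi, hrep⟩ := exists_rep (ℳ := ℳ) n hd hg hW s
  have hμ : h ^ k • m ∈ ℳ (k * e + i) := smul_mem_deg (pow_mem_deg hh k) hm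
  have hi2 : ((k * e + i : ℕ) : ℤ) = (k : ℤ) * ((e + d : ℕ) : ℤ) + n := by
    push_cast
    rw [hi]
    ring
  have hrep2 : IsRep 𝒜 ℳ n hW' ((GrMod.tilde 𝒜 ℳ n).presheaf.map (homOfLE hle).op s) k
      (h ^ k • m) := by
    intro y hy
    rw [secVal_map, hrep y (hle hy)]
    refine LocalizedModule.mk_eq.mpr ⟨1, ?_⟩
    rw [one_smul, one_smul]
    change g' ^ k • m = g ^ k • h ^ k • m
    rw [hgg, mul_pow, mul_smul, smul_comm]
  rw [theta_eq n hd' hg' hW' l' _ hμ hi2 hrep2, theta_eq n hd hg hW l s hm hi hrep,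
    IsLocalizedModule.mk'_eq_iff]
  change l' (h ^ k • m) = g' ^ k • ρ _
  rw [hgg, mul_pow, mul_smul, ← map_smul ρ (g ^ k)]
  have h3 : g ^ k • IsLocalizedModule.mk' l m (⟨g ^ k, ⟨_, rfl⟩⟩ : Submonoid.powers g) = l m :=
    IsLocalizedModule.mk'_cancel' l m (⟨g ^ k, ⟨_, rfl⟩⟩ : Submonoid.powers g)
  rw [h3, hρ, map_smul]

end Theta2

section Psi

variable {N : Type u} [AddCommGroup N] [Module A N]

/-- the sum of all the `theta`s -/
noncomputable def psi {W : (Proj 𝒜).Opens} {g : A} {d : ℕ} (hd : 0 < d) (hg : g ∈ 𝒜 d)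
    (hW : W = Proj.basicOpen 𝒜 g) (l : M →ₗ[A] N) [IsLocalizedModule (Submonoid.powers g) l] :
    (DirectSum ℤ fun n => Γ(GrMod.tilde 𝒜 ℳ n, W)) →+ N :=
  DirectSum.toAddMonoid (fun n => thetaHom (ℳ := ℳ) n hd hg hW l)

lemma psi_of {W : (Proj 𝒜).Opens} {g : A} {d : ℕ} (hd : 0 < d) (hg : g ∈ 𝒜 d)
    (hW : W = Proj.basicOpen 𝒜 g) (l : M →ₗ[A] N) [IsLocalizedModule (Submonoid.powers g) l]
    (n : ℤ) (s : Γ(GrMod.tilde 𝒜 ℳ n, W)) :
    psi hd hg hW l (DirectSum.of (fun n => Γ(GrMod.tilde 𝒜 ℳ n, W)) n s) = theta n hd hg hW l s :=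
  DirectSum.toAddMonoid_of _ _ _

theorem psi_surjective {W : (Proj 𝒜).Opens} {g : A} {d : ℕ} (hd : 0 < d) (hg : g ∈ 𝒜 d)
    (hW : W = Proj.basicOpen 𝒜 g) (l : M →ₗ[A] N) [IsLocalizedModule (Submonoid.powers g) l] :
    Function.Surjective (psi (ℳ := ℳ) hd hg hW l) := by
  intro x
  obtain ⟨⟨m, s⟩, rfl⟩ := IsLocalizedModule.mk'_surjective (Submonoid.powers g) l x
  obtain ⟨_, k, rfl⟩ := s
  change IsLocalizedModule.mk' l m (⟨g ^ k, ⟨k, rfl⟩⟩ : Submonoid.powers g) ∈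
    (psi (ℳ := ℳ) hd hg hW l).range
  induction m using DirectSum.Decomposition.inductionOn ℳ with
  | zero =>
    rw [IsLocalizedModule.mk'_zero]
    exact zero_mem _
  | @homogeneous i m =>
    have hij : (i : ℤ) = ((k * d : ℕ) : ℤ) + ((i : ℤ) - k * d) := by
      push_cast
      ring
    have hWs : ∀ y : W, g ^ k ∉ y.1.asHomogeneousIdeal := fun y => pow_not_mem 𝒜 hW y.2 k
    refine ⟨DirectSum.of (fun n => Γ(GrMod.tilde 𝒜 ℳ n, W)) ((i : ℤ) - k * d)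
      (ofSect 𝒜 ℳ _ W (fracOn 𝒜 ℳ _ W m.2 (pow_mem_deg hg k) hij hWs)), ?_⟩
    rw [psi_of]
    refine theta_eq _ hd hg hW l _ m.2 (by ring) ?_
    intro y hy
    rfl
  | add m m' hm hm' =>
    rw [IsLocalizedModule.mk'_add]
    exact add_mem hm hm'

theorem psi_injective {W : (Proj 𝒜).Opens} {g : A} {d : ℕ} (hd : 0 < d) (hg : g ∈ 𝒜 d)
    (hW : W = Proj.basicOpen 𝒜 g) (l : M →ₗ[A] N) [IsLocalizedModule (Submonoid.powers g) l] :
    Function.Injective (psi (ℳ := ℳ) hd hg hW l) := by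
  classical
  rw [injective_iff_map_eq_zero]
  intro z hz
  choose k i m hm hi hrep using fun n => exists_rep (ℳ := ℳ) n hd hg hW (z n)
  let S : Finset ℤ := z.support
  let K : ℕ := S.sup k
  have hkK : ∀ n ∈ S, k n ≤ K := fun n hn => Finset.le_sup hn
  let m' : ℤ → M := fun n => g ^ (K - k n) • m n
  have hrep' : ∀ n ∈ S, IsRep 𝒜 ℳ n hW (z n) K (m' n) := by
    intro n hn
    have := IsRep.scale n hW (hrep n) (K - k n)
    rwa [Nat.sub_add_cancel (hkK n hn)] at this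
  let i' : ℤ → ℕ := fun n => (K - k n) * d + i n
  have hm' : ∀ n, m' n ∈ ℳ (i' n) := fun n => smul_mem_deg (pow_mem_deg hg _) (hm n)
  have hi' : ∀ n ∈ S, (i' n : ℤ) = K * d + n := by
    intro n hn
    have h1 : (K - k n) * d + k n * d = K * d := by
      rw [← Nat.add_mul, Nat.sub_add_cancel (hkK n hn)]
    have h2 : (((K - k n) * d : ℕ) : ℤ) + ((k n * d : ℕ) : ℤ) = ((K * d : ℕ) : ℤ) := by
      exact_mod_cast h1
    have h3 : (i' n : ℤ) = (((K - k n) * d : ℕ) : ℤ) + (i n : ℤ) := by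
      change (((K - k n) * d + i n : ℕ) : ℤ) = _
      push_cast
      rfl
    rw [h3, hi n]
    push_cast at h2 ⊢
    linarith
  let sK : Submonoid.powers g := ⟨g ^ K, ⟨K, rfl⟩⟩
  let mkHom : M →+ N := AddMonoidHom.mk' (fun x => IsLocalizedModule.mk' l x sK)
    (fun a b => IsLocalizedModule.mk'_add l a b sK)
  have h1 : psi (ℳ := ℳ) hd hg hW l z = mkHom (∑ n ∈ S, m' n) := by
    conv_lhs => rw [← DirectSum.sum_support_of z]
    rw [map_sum, map_sum]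
    refine Finset.sum_congr rfl (fun n hn => ?_)
    rw [psi_of]
    exact theta_eq n hd hg hW l (z n) (hm' n) (hi' n hn) (hrep' n hn)
  rw [hz] at h1
  obtain ⟨⟨_, K', rfl⟩, hK'⟩ := (IsLocalizedModule.mk'_eq_zero' l sK).mp h1.symm
  change g ^ K' • ∑ n ∈ S, m' n = 0 at hK'
  rw [Finset.smul_sum] at hK'
  let j : ℤ → ℕ := fun n => K' * d + i' n
  have hv : ∀ n, g ^ K' • m' n ∈ ℳ (j n) := fun n => smul_mem_deg (pow_mem_deg hg _) (hm' n)
  have hj : ∀ n ∈ S, ∀ n' ∈ S, j n = j n' → n = n' := by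
    intro n hn n' hn' h
    have h2 : (i' n : ℤ) = (i' n' : ℤ) := by
      have : i' n = i' n' := Nat.add_left_cancel h
      rw [this]
    rw [hi' n hn, hi' n' hn'] at h2
    linarith
  have hzero : ∀ n ∈ S, g ^ K' • m' n = 0 := by
    intro n₀ hn₀
    let pj : M →+ M := AddMonoidHom.mk' (fun x => ((DirectSum.decompose ℳ x (j n₀) : ℳ (j n₀)) : M))
      (fun a b => by
        change ((DirectSum.decompose ℳ (a + b) (j n₀) : ℳ (j n₀)) : M) = _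
        rw [DirectSum.decompose_add, DirectSum.add_apply, AddMemClass.coe_add])
    have h3 := congrArg pj hK'
    rw [map_sum, map_zero, Finset.sum_eq_single n₀] at h3
    · rw [← h3]
      exact (DirectSum.decompose_of_mem_same ℳ (hv n₀)).symm
    · intro n hn hne
      exact DirectSum.decompose_of_mem_ne ℳ (hv n) (fun h => hne (hj n hn n₀ hn₀ h))
    · intro h
      exact absurd hn₀ h
  apply DFinsupp.ext
  intro n
  by_cases hn : n ∈ S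
  · apply sec_ext
    intro y hy
    rw [hrep' n hn y hy, DirectSum.zero_apply, secVal_zero, ← LocalizedModule.zero_mk 1]
    refine LocalizedModule.mk_eq.mpr ⟨⟨g ^ K', pow_not_mem 𝒜 hW hy K'⟩, ?_⟩
    rw [one_smul, smul_zero, smul_zero]
    exact hzero n hn
  · rw [DirectSum.zero_apply]
    exact DFinsupp.notMem_support_iff.mp hn

theorem psi_bijective {W : (Proj 𝒜).Opens} {g : A} {d : ℕ} (hd : 0 < d) (hg : g ∈ 𝒜 d)
    (hW : W = Proj.basicOpen 𝒜 g) (l : M →ₗ[A] N) [IsLocalizedModule (Submonoid.powers g) l] :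
    Function.Bijective (psi (ℳ := ℳ) hd hg hW l) :=
  ⟨psi_injective hd hg hW l, psi_surjective hd hg hW l⟩

end Psi

end Groth.Agent.Lib.T2H4.GrModSec
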