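import Mathlib
import Groth.Agent.Lib.T2H4GrModSec
import Groth.Agent.Lib.T2H2FlasqueKz
import Groth.Agent.Lib.Helper6QCohQcqs

/-!
# Global sections of the twists `M(n)~` on `Proj` versus sections of `M~` over the punctured cone (helper4)
-/

set_option autoImplicit false
universe u

namespace Groth.Agent.Lib.T2H4.GrModGlue

open CategoryTheory AlgebraicGeometry TopologicalSpace Opposite
open Groth.Agent.Lib.Helper6 Groth.Agent.Lib.T2H2.LowCechR Groth.Agent.Lib.T2H2.FlasqueKz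
open Groth.Agent.Lib.Helper2GrModSect Groth.Agent.Lib.T2H4.GrModSec

section Glue

variable {X : Scheme.{u}} (F : X.Modules) {ι : Type u} (V : ι → X.Opens) (W : X.Opens)
  (hle : ∀ i, V i ≤ W) (hcov : W ≤ iSup V)

include hcov in
theorem exists_glue (sf : ∀ i, Γ(F, V i))
    (h : ∀ i j, res F (inf_le_left : V i ⊓ V j ≤ V i) (sf i) =
      res F (inf_le_right : V i ⊓ V j ≤ V j) (sf j)) :
    ∃ s : Γ(F, W), ∀ i, res F (hle i) s = sf i := by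
  obtain ⟨s, hs, -⟩ := (modSheaf F).existsUnique_gluing' V W (fun i => homOfLE (hle i)) hcov sf
    (fun i j => h i j)
  exact ⟨s, hs⟩

include hcov in
theorem eq_of_res_eq (s t : Γ(F, W)) (h : ∀ i, res F (hle i) s = res F (hle i) t) : s = t :=
  (modSheaf F).eq_of_locally_eq' V W (fun i => homOfLE (hle i)) hcov s t h

end Glue

section Main

variable {A σ : Type u} [CommRing A] [SetLike σ A] [AddSubgroupClass σ A] (𝒜 : ℕ → σ)
  [GradedRing 𝒜]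
variable {M τ : Type u} [AddCommGroup M] [Module A M] [SetLike τ M] [AddSubgroupClass τ M]
  (ℳ : ℕ → τ) [DirectSum.Decomposition ℳ] [SetLike.GradedSMul 𝒜 ℳ]

/-- basic opens of `Spec A` -/
noncomputable abbrev DA (g : A) : (Spec (CommRingCat.of A)).Opens :=
  (Spec (CommRingCat.of A)).basicOpen (φA A g)

variable (M) in
/-- the map from `M` to the sections of `M~` over an open -/
noncomputable abbrev lW (W : (Spec (CommRingCat.of A)).Opens) :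
    M →ₗ[A] SecR (FM A M) (φA A) W :=
  ρR (FM A M) (φA A) (ModuleCat.of A M) (eM A M) W

theorem isLocalizedModule_lW (W : (Spec (CommRingCat.of A)).Opens) (g : A) (hW : W = DA g) :
    IsLocalizedModule (Submonoid.powers g) (lW M W) := by
  have h1 : IsLocalizedModule (Submonoid.powers g)
      (resR (FM A M) (φA A) (le_top : W ≤ ⊤)) :=
    isLocalizedModule_resR (FM A M) (φA A) CompactSpace.isCompact_univ isQuasiSeparated_univ g
      (by rw [Groth.Agent.Lib.T2H2.LowCechGeo.resf_top_self]; exact hW) le_top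
  exact IsLocalizedModule.of_linearEquiv_right (Submonoid.powers g)
    (resR (FM A M) (φA A) (le_top : W ≤ ⊤)) (eM A M)

lemma resR_lW {W W' : (Spec (CommRingCat.of A)).Opens} (h : W' ≤ W) (m : M) :
    resR (FM A M) (φA A) h (lW M W m) = lW M W' m :=
  resR_ρR (FM A M) (φA A) (ModuleCat.of A M) (eM A M) h m


section Family

variable {ι : Type u} (a : ι → A)

/-- the family `D₊(a i)` -/
def UP (i : ι) : (Proj 𝒜).Opens := Proj.basicOpen 𝒜 (a i)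

/-- the family `D(a i)` -/
noncomputable def UA (i : ι) : (Spec (CommRingCat.of A)).Opens := DA (a i)

lemma UP_inf (i j : ι) : UP 𝒜 a i ⊓ UP 𝒜 a j = Proj.basicOpen 𝒜 (a j * a i) := by
  rw [Proj.basicOpen_mul, inf_comm]
  rfl

lemma UA_inf (i j : ι) : UA a i ⊓ UA a j = DA (a j * a i) := by
  rw [DA, map_mul, Scheme.basicOpen_mul, inf_comm]
  rfl

instance instLocUA (i : ι) : IsLocalizedModule (Submonoid.powers (a i)) (lW M (UA a i)) :=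
  isLocalizedModule_lW _ _ rfl

instance instLocUA2 (i j : ι) :
    IsLocalizedModule (Submonoid.powers (a j * a i)) (lW M (UA a i ⊓ UA a j)) :=
  isLocalizedModule_lW _ _ (UA_inf a i j)

variable (dg : ι → ℕ) (hdg : ∀ i, 0 < dg i) (ha : ∀ i, a i ∈ 𝒜 (dg i))

include ha in
lemma mul_mem_deg (i j : ι) : a j * a i ∈ 𝒜 (dg j + dg i) :=
  SetLike.mul_mem_graded (ha j) (ha i)

include hdg in
lemma deg_pos (i j : ι) : 0 < dg j + dg i := by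
  have := hdg i
  omega

/-- the comparison map over `D₊(a i)` -/
noncomputable def th (n : ℤ) (i : ι) :
    Γ(GrMod.tilde 𝒜 ℳ n, UP 𝒜 a i) →+ SecR (FM A M) (φA A) (UA a i) :=
  thetaHom (ℳ := ℳ) n (hdg i) (ha i) rfl (lW M (UA a i))

/-- the comparison map over `D₊(a i) ∩ D₊(a j)` -/
noncomputable def th2 (n : ℤ) (i j : ι) :
    Γ(GrMod.tilde 𝒜 ℳ n, UP 𝒜 a i ⊓ UP 𝒜 a j) →+ SecR (FM A M) (φA A) (UA a i ⊓ UA a j) :=
  thetaHom (ℳ := ℳ) n (deg_pos dg hdg i j) (mul_mem_deg 𝒜 a dg ha i j) (UP_inf 𝒜 a i j)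
    (lW M (UA a i ⊓ UA a j))

lemma theta_congr_deg {N : Type u} [AddCommGroup N] [Module A N] (n : ℤ) {W : (Proj 𝒜).Opens}
    {g : A} {d d' : ℕ} (h : d = d') (hd : 0 < d) (hg : g ∈ 𝒜 d) (hd' : 0 < d') (hg' : g ∈ 𝒜 d')
    (hW : W = Proj.basicOpen 𝒜 g) (l : M →ₗ[A] N) [IsLocalizedModule (Submonoid.powers g) l]
    (s : Γ(GrMod.tilde 𝒜 ℳ n, W)) :
    theta (ℳ := ℳ) n hd hg hW l s = theta n hd' hg' hW l s := by
  subst h
  rfl

lemma th2_left (n : ℤ) (i j : ι) (s : Γ(GrMod.tilde 𝒜 ℳ n, UP 𝒜 a i)) :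
    th2 𝒜 ℳ a dg hdg ha n i j (res (GrMod.tilde 𝒜 ℳ n) inf_le_left s) =
      resR (FM A M) (φA A) inf_le_left (th 𝒜 ℳ a dg hdg ha n i s) :=
  theta_res (ℳ := ℳ) n (inf_le_left : UP 𝒜 a i ⊓ UP 𝒜 a j ≤ UP 𝒜 a i) (hdg i) (ha i) (ha j) rfl rfl
    (UP_inf 𝒜 a i j) (lW M (UA a i)) (lW M (UA a i ⊓ UA a j))
    (resR (FM A M) (φA A) (inf_le_left : UA a i ⊓ UA a j ≤ UA a i))
    (fun m => resR_lW inf_le_left m) (deg_pos dg hdg i j) (mul_mem_deg 𝒜 a dg ha i j) s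

lemma th2_right (n : ℤ) (i j : ι) (s : Γ(GrMod.tilde 𝒜 ℳ n, UP 𝒜 a j)) :
    th2 𝒜 ℳ a dg hdg ha n i j (res (GrMod.tilde 𝒜 ℳ n) inf_le_right s) =
      resR (FM A M) (φA A) inf_le_right (th 𝒜 ℳ a dg hdg ha n j s) := by
  have hd' : 0 < dg i + dg j := deg_pos dg hdg j i
  have hg' : a j * a i ∈ 𝒜 (dg i + dg j) := by
    rw [add_comm]
    exact mul_mem_deg 𝒜 a dg ha i j
  have key := theta_res (ℳ := ℳ) n (inf_le_right : UP 𝒜 a i ⊓ UP 𝒜 a j ≤ UP 𝒜 a j) (hdg j) (ha j)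
    (ha i) (mul_comm (a j) (a i)) rfl
    (UP_inf 𝒜 a i j) (lW M (UA a j)) (lW M (UA a i ⊓ UA a j))
    (resR (FM A M) (φA A) (inf_le_right : UA a i ⊓ UA a j ≤ UA a j))
    (fun m => resR_lW inf_le_right m) hd' hg' s
  refine Eq.trans ?_ key
  exact theta_congr_deg 𝒜 ℳ n (add_comm (dg j) (dg i)) (deg_pos dg hdg i j)
    (mul_mem_deg 𝒜 a dg ha i j) hd' hg' (UP_inf 𝒜 a i j) (lW M (UA a i ⊓ UA a j)) _


/-- the comparison map on direct sums over `D₊(a i)` -/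
noncomputable def ps (i : ι) :
    (DirectSum ℤ fun n => Γ(GrMod.tilde 𝒜 ℳ n, UP 𝒜 a i)) →+ SecR (FM A M) (φA A) (UA a i) :=
  psi (ℳ := ℳ) (hdg i) (ha i) rfl (lW M (UA a i))

/-- the comparison map on direct sums over `D₊(a i) ∩ D₊(a j)` -/
noncomputable def ps2 (i j : ι) :
    (DirectSum ℤ fun n => Γ(GrMod.tilde 𝒜 ℳ n, UP 𝒜 a i ⊓ UP 𝒜 a j)) →+
      SecR (FM A M) (φA A) (UA a i ⊓ UA a j) :=
  psi (ℳ := ℳ) (deg_pos dg hdg i j) (mul_mem_deg 𝒜 a dg ha i j) (UP_inf 𝒜 a i j)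
    (lW M (UA a i ⊓ UA a j))

lemma ps_of (i : ι) (n : ℤ) (s : Γ(GrMod.tilde 𝒜 ℳ n, UP 𝒜 a i)) :
    ps 𝒜 ℳ a dg hdg ha i (DirectSum.of (fun n => Γ(GrMod.tilde 𝒜 ℳ n, UP 𝒜 a i)) n s) =
      th 𝒜 ℳ a dg hdg ha n i s :=
  psi_of (ℳ := ℳ) (hdg i) (ha i) rfl (lW M (UA a i)) n s

lemma ps2_of (i j : ι) (n : ℤ) (s : Γ(GrMod.tilde 𝒜 ℳ n, UP 𝒜 a i ⊓ UP 𝒜 a j)) :
    ps2 𝒜 ℳ a dg hdg ha i j
        (DirectSum.of (fun n => Γ(GrMod.tilde 𝒜 ℳ n, UP 𝒜 a i ⊓ UP 𝒜 a j)) n s) =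
      th2 𝒜 ℳ a dg hdg ha n i j s :=
  psi_of (ℳ := ℳ) (deg_pos dg hdg i j) (mul_mem_deg 𝒜 a dg ha i j) (UP_inf 𝒜 a i j)
    (lW M (UA a i ⊓ UA a j)) n s

lemma ps_bijective (i : ι) : Function.Bijective (ps 𝒜 ℳ a dg hdg ha i) :=
  psi_bijective (ℳ := ℳ) (hdg i) (ha i) rfl (lW M (UA a i))

lemma ps2_bijective (i j : ι) : Function.Bijective (ps2 𝒜 ℳ a dg hdg ha i j) :=
  psi_bijective (ℳ := ℳ) (deg_pos dg hdg i j) (mul_mem_deg 𝒜 a dg ha i j) (UP_inf 𝒜 a i j)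
    (lW M (UA a i ⊓ UA a j))

/-- restriction on direct sums of sections of the twists -/
noncomputable def resD {W W' : (Proj 𝒜).Opens} (h : W' ≤ W) :
    (DirectSum ℤ fun n => Γ(GrMod.tilde 𝒜 ℳ n, W)) →+
      (DirectSum ℤ fun n => Γ(GrMod.tilde 𝒜 ℳ n, W')) :=
  DirectSum.map (fun n => ((GrMod.tilde 𝒜 ℳ n).presheaf.map (homOfLE h).op).hom)

omit [DirectSum.Decomposition ℳ] in
lemma resD_of {W W' : (Proj 𝒜).Opens} (h : W' ≤ W) (n : ℤ) (s : Γ(GrMod.tilde 𝒜 ℳ n, W)) :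
    resD 𝒜 ℳ h (DirectSum.of (fun n => Γ(GrMod.tilde 𝒜 ℳ n, W)) n s) =
      DirectSum.of (fun n => Γ(GrMod.tilde 𝒜 ℳ n, W')) n (res (GrMod.tilde 𝒜 ℳ n) h s) := by
  unfold resD
  rw [DirectSum.map_of]

omit [DirectSum.Decomposition ℳ] in
lemma resD_apply {W W' : (Proj 𝒜).Opens} (h : W' ≤ W)
    (z : DirectSum ℤ fun n => Γ(GrMod.tilde 𝒜 ℳ n, W)) (n : ℤ) :
    resD 𝒜 ℳ h z n = res (GrMod.tilde 𝒜 ℳ n) h (z n) := by
  unfold resD
  rw [DirectSum.map_apply]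

lemma ps2_left (i j : ι) (z : DirectSum ℤ fun n => Γ(GrMod.tilde 𝒜 ℳ n, UP 𝒜 a i)) :
    ps2 𝒜 ℳ a dg hdg ha i j (resD 𝒜 ℳ inf_le_left z) =
      resR (FM A M) (φA A) inf_le_left (ps 𝒜 ℳ a dg hdg ha i z) := by
  have h : (ps2 𝒜 ℳ a dg hdg ha i j).comp (resD 𝒜 ℳ inf_le_left) =
      (resR (FM A M) (φA A) (inf_le_left : UA a i ⊓ UA a j ≤ UA a i)).toAddMonoidHom.comp
        (ps 𝒜 ℳ a dg hdg ha i) := by
    apply DirectSum.addHom_ext
    intro n s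
    rw [AddMonoidHom.comp_apply, AddMonoidHom.comp_apply, resD_of, ps2_of, ps_of, th2_left]
    rfl
  exact DFunLike.congr_fun h z

lemma ps2_right (i j : ι) (z : DirectSum ℤ fun n => Γ(GrMod.tilde 𝒜 ℳ n, UP 𝒜 a j)) :
    ps2 𝒜 ℳ a dg hdg ha i j (resD 𝒜 ℳ inf_le_right z) =
      resR (FM A M) (φA A) inf_le_right (ps 𝒜 ℳ a dg hdg ha j z) := by
  have h : (ps2 𝒜 ℳ a dg hdg ha i j).comp (resD 𝒜 ℳ inf_le_right) =
      (resR (FM A M) (φA A) (inf_le_right : UA a i ⊓ UA a j ≤ UA a j)).toAddMonoidHom.comp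
        (ps 𝒜 ℳ a dg hdg ha j) := by
    apply DirectSum.addHom_ext
    intro n s
    rw [AddMonoidHom.comp_apply, AddMonoidHom.comp_apply, resD_of, ps2_of, ps_of, th2_right]
    rfl
  exact DFunLike.congr_fun h z


section Global

/-- the union of the `D(a i)` -/
noncomputable def UU : (Spec (CommRingCat.of A)).Opens := iSup (UA a)

lemma UA_le (i : ι) : UA a i ≤ UU a := le_iSup (UA a) i

omit [DirectSum.Decomposition ℳ] [SetLike.GradedSMul 𝒜 ℳ] [SetLike τ M] [AddSubgroupClass τ M] in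
lemma secR_ext (t t' : SecR (FM A M) (φA A) (UU a))
    (h : ∀ i, resR (FM A M) (φA A) (UA_le a i) t = resR (FM A M) (φA A) (UA_le a i) t') :
    t = t' :=
  eq_of_res_eq (FM A M) (UA a) (UU a) (UA_le a) le_rfl (toSec t) (toSec t') h

theorem exists_PhiN (n : ℤ) (s : Γ(GrMod.tilde 𝒜 ℳ n, ⊤)) :
    ∃ t : Γ(FM A M, UU a), ∀ i, res (FM A M) (UA_le a i) t =
      toSec (th 𝒜 ℳ a dg hdg ha n i (res (GrMod.tilde 𝒜 ℳ n) le_top s)) := by
  refine exists_glue (FM A M) (UA a) (UU a) (UA_le a) le_rfl _ ?_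
  intro i j
  have h1 := th2_left 𝒜 ℳ a dg hdg ha n i j (res (GrMod.tilde 𝒜 ℳ n) le_top s)
  have h2 := th2_right 𝒜 ℳ a dg hdg ha n i j (res (GrMod.tilde 𝒜 ℳ n) le_top s)
  rw [res_res] at h1 h2
  change toSec (resR (FM A M) (φA A) inf_le_left
      (th 𝒜 ℳ a dg hdg ha n i (res (GrMod.tilde 𝒜 ℳ n) le_top s))) =
    toSec (resR (FM A M) (φA A) inf_le_right
      (th 𝒜 ℳ a dg hdg ha n j (res (GrMod.tilde 𝒜 ℳ n) le_top s)))
  rw [← h1, ← h2]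

/-- the glued section -/
noncomputable def PhiFun (n : ℤ) (s : Γ(GrMod.tilde 𝒜 ℳ n, ⊤)) : SecR (FM A M) (φA A) (UU a) :=
  ofSec (exists_PhiN 𝒜 ℳ a dg hdg ha n s).choose

lemma res_PhiFun (n : ℤ) (s : Γ(GrMod.tilde 𝒜 ℳ n, ⊤)) (i : ι) :
    resR (FM A M) (φA A) (UA_le a i) (PhiFun 𝒜 ℳ a dg hdg ha n s) =
      th 𝒜 ℳ a dg hdg ha n i (res (GrMod.tilde 𝒜 ℳ n) le_top s) :=
  (exists_PhiN 𝒜 ℳ a dg hdg ha n s).choose_spec i

/-- the glued section, as an additive map -/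
noncomputable def PhiN (n : ℤ) : Γ(GrMod.tilde 𝒜 ℳ n, ⊤) →+ SecR (FM A M) (φA A) (UU a) :=
  AddMonoidHom.mk' (PhiFun 𝒜 ℳ a dg hdg ha n) (fun s s' => by
    apply secR_ext a
    intro i
    rw [map_add, res_PhiFun, res_PhiFun, res_PhiFun]
    have h : res (GrMod.tilde 𝒜 ℳ n) (le_top : UP 𝒜 a i ≤ ⊤) (s + s') =
        res (GrMod.tilde 𝒜 ℳ n) le_top s + res (GrMod.tilde 𝒜 ℳ n) le_top s' := map_add _ _ _
    rw [h, map_add])

/-- the comparison map on global sections -/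
noncomputable def Phi :
    (DirectSum ℤ fun n => Γ(GrMod.tilde 𝒜 ℳ n, ⊤)) →+ SecR (FM A M) (φA A) (UU a) :=
  DirectSum.toAddMonoid (PhiN 𝒜 ℳ a dg hdg ha)

lemma Phi_of (n : ℤ) (s : Γ(GrMod.tilde 𝒜 ℳ n, ⊤)) :
    Phi 𝒜 ℳ a dg hdg ha (DirectSum.of (fun n => Γ(GrMod.tilde 𝒜 ℳ n, ⊤)) n s) =
      PhiFun 𝒜 ℳ a dg hdg ha n s :=
  DirectSum.toAddMonoid_of _ _ _

lemma res_Phi (i : ι) (z : DirectSum ℤ fun n => Γ(GrMod.tilde 𝒜 ℳ n, ⊤)) :
    resR (FM A M) (φA A) (UA_le a i) (Phi 𝒜 ℳ a dg hdg ha z) =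
      ps 𝒜 ℳ a dg hdg ha i (resD 𝒜 ℳ le_top z) := by
  have h : (resR (FM A M) (φA A) (UA_le a i)).toAddMonoidHom.comp (Phi 𝒜 ℳ a dg hdg ha) =
      (ps 𝒜 ℳ a dg hdg ha i).comp (resD 𝒜 ℳ le_top) := by
    apply DirectSum.addHom_ext
    intro n s
    rw [AddMonoidHom.comp_apply, AddMonoidHom.comp_apply, Phi_of, resD_of, ps_of]
    exact res_PhiFun 𝒜 ℳ a dg hdg ha n s i
  exact DFunLike.congr_fun h z

variable (hcov : (⊤ : (Proj 𝒜).Opens) ≤ iSup (UP 𝒜 a))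

include hcov in
theorem Phi_injective : Function.Injective (Phi 𝒜 ℳ a dg hdg ha) := by
  rw [injective_iff_map_eq_zero]
  intro z hz
  have h1 : ∀ i, resD 𝒜 ℳ (le_top : UP 𝒜 a i ≤ ⊤) z = 0 := by
    intro i
    apply (ps_bijective 𝒜 ℳ a dg hdg ha i).1
    rw [← res_Phi, hz, map_zero, map_zero]
  apply DFinsupp.ext
  intro n
  rw [DirectSum.zero_apply]
  apply eq_of_res_eq (GrMod.tilde 𝒜 ℳ n) (UP 𝒜 a) ⊤ (fun i => le_top) hcov
  intro i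
  rw [← resD_apply, h1 i, DirectSum.zero_apply, res_zero]

include hcov in
theorem Phi_surjective [Finite ι] : Function.Surjective (Phi 𝒜 ℳ a dg hdg ha) := by
  classical
  intro t
  have : Fintype ι := Fintype.ofFinite ι
  choose w hw using fun i => (ps_bijective 𝒜 ℳ a dg hdg ha i).2
    (resR (FM A M) (φA A) (UA_le a i) t)
  have hcompat : ∀ i j, resD 𝒜 ℳ (inf_le_left : UP 𝒜 a i ⊓ UP 𝒜 a j ≤ UP 𝒜 a i) (w i) =
      resD 𝒜 ℳ (inf_le_right : UP 𝒜 a i ⊓ UP 𝒜 a j ≤ UP 𝒜 a j) (w j) := by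
    intro i j
    apply (ps2_bijective 𝒜 ℳ a dg hdg ha i j).1
    rw [ps2_left, ps2_right, hw, hw, resR_resR, resR_resR]
  have hglue : ∀ n : ℤ, ∃ s : Γ(GrMod.tilde 𝒜 ℳ n, ⊤),
      ∀ i, res (GrMod.tilde 𝒜 ℳ n) (le_top : UP 𝒜 a i ≤ ⊤) s = w i n := by
    intro n
    refine exists_glue (GrMod.tilde 𝒜 ℳ n) (UP 𝒜 a) ⊤ (fun i => le_top) hcov
      (fun i => w i n) ?_
    intro i j
    rw [← resD_apply, ← resD_apply, hcompat]
  choose s hs using hglue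
  let S : Finset ℤ := Finset.univ.biUnion (fun i => (w i).support)
  let z : DirectSum ℤ fun n => Γ(GrMod.tilde 𝒜 ℳ n, ⊤) := DirectSum.mk _ S (fun n => s n.1)
  have hz : ∀ i, resD 𝒜 ℳ (le_top : UP 𝒜 a i ≤ ⊤) z = w i := by
    intro i
    apply DFinsupp.ext
    intro n
    rw [resD_apply]
    by_cases hn : n ∈ S
    · rw [DirectSum.mk_apply_of_mem hn]
      exact hs n i
    · rw [DirectSum.mk_apply_of_notMem hn, res_zero]
      have : n ∉ (w i).support := fun h => hn (Finset.mem_biUnion.mpr ⟨i, Finset.mem_univ _, h⟩)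
      exact (DFinsupp.notMem_support_iff.mp this).symm
  refine ⟨z, ?_⟩
  apply secR_ext a
  intro i
  rw [res_Phi, hz, hw]

theorem Phi_alpha (i : ℕ) (m : ℳ i) :
    Phi 𝒜 ℳ a dg hdg ha (DirectSum.of (fun n => Γ(GrMod.tilde 𝒜 ℳ n, ⊤)) (i : ℤ)
      (GrMod.alpha 𝒜 ℳ i m)) = lW M (UU a) (m : M) := by
  apply secR_ext a
  intro j
  rw [Phi_of, res_PhiFun, resR_lW]
  refine (theta_eq (ℳ := ℳ) (W := UP 𝒜 a j) (i : ℤ) (hdg j) (ha j) rfl (lW M (UA a j)) _ m.2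
    (k := 0) (by push_cast; ring) ?_).trans ?_
  · intro y hy
    change LocalizedModule.mk (m : M) 1 = _
    exact congrArg (LocalizedModule.mk (m : M)) (Subtype.ext (pow_zero (a j)).symm)
  · rw [IsLocalizedModule.mk'_eq_iff]
    change _ = (a j) ^ 0 • lW M (UA a j) (m : M)
    rw [pow_zero, one_smul]

include dg hdg ha hcov in
theorem nonempty_quot_equiv [Finite ι] :
    Nonempty (((DirectSum ℤ fun n => Γ(GrMod.tilde 𝒜 ℳ n, ⊤)) ⧸
        AddSubgroup.closure (⋃ i : ℕ, Set.range (fun m : ℳ i =>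
          DirectSum.of (fun n : ℤ => Γ(GrMod.tilde 𝒜 ℳ n, ⊤)) (i : ℤ) (GrMod.alpha 𝒜 ℳ i m)))) ≃+
      (SecR (FM A M) (φA A) (UU a) ⧸ LinearMap.range (lW M (UU a)))) := by
  let e : (DirectSum ℤ fun n => Γ(GrMod.tilde 𝒜 ℳ n, ⊤)) ≃+ SecR (FM A M) (φA A) (UU a) :=
    AddEquiv.ofBijective (Phi 𝒜 ℳ a dg hdg ha)
      ⟨Phi_injective 𝒜 ℳ a dg hdg ha hcov, Phi_surjective 𝒜 ℳ a dg hdg ha hcov⟩
  have he : AddSubgroup.map (e : _ →+ _) (AddSubgroup.closure (⋃ i : ℕ, Set.range (fun m : ℳ i =>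
          DirectSum.of (fun n : ℤ => Γ(GrMod.tilde 𝒜 ℳ n, ⊤)) (i : ℤ) (GrMod.alpha 𝒜 ℳ i m)))) =
      (LinearMap.range (lW M (UU a))).toAddSubgroup := by
    rw [AddMonoidHom.map_closure]
    apply le_antisymm
    · rw [AddSubgroup.closure_le]
      rintro _ ⟨_, hx, rfl⟩
      obtain ⟨i, hi⟩ := Set.mem_iUnion.mp hx
      obtain ⟨m, rfl⟩ := hi
      exact ⟨(m : M), (Phi_alpha 𝒜 ℳ a dg hdg ha i m).symm⟩
    · rintro _ ⟨m, rfl⟩
      induction m using DirectSum.Decomposition.inductionOn ℳ with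
      | zero =>
        rw [map_zero]
        exact zero_mem _
      | @homogeneous i m =>
        apply AddSubgroup.subset_closure
        exact ⟨_, Set.mem_iUnion.mpr ⟨i, ⟨m, rfl⟩⟩, Phi_alpha 𝒜 ℳ a dg hdg ha i m⟩
      | add m m' hm hm' =>
        rw [map_add]
        exact add_mem hm hm'
  exact ⟨QuotientAddGroup.congr _ _ e he⟩

end Global

end Family

end Main

end Groth.Agent.Lib.T2H4.GrModGlue
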