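import Mathlib
import Groth.Prelude.Def_RelProj3
import Groth.Agent.Lib.Helper2RelTwistTensor
import Groth.Agent.Lib.Helper2GrModBridge2

/-!
# Functions pulled back from the base, valuewise on the charts of a relative Proj (helper4)

* `awayToSection_awayι_appTop` : restriction of a global function of `Proj 𝒜` to `D₊(f)` through `awayι`
  (general grading type; port of a lemma of helper27 for `Submodule` gradings);
* `hom_appLE_SpecMap_fromSpec` : sections of `Spec B ⟶ Spec Γ(S, U) ⟶ S`;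
* `funVal_appLE_str` : the function `p^* γ`, `γ ∈ Γ(S, U)`, has the value `γ / 1` at every point of the chart over `U`.
-/

set_option autoImplicit false
set_option linter.style.haveILetI false
set_option linter.unusedSectionVars false
universe u
open CategoryTheory Limits AlgebraicGeometry TopologicalSpace Opposite HomogeneousLocalization
open scoped HomogeneousIdeal

namespace Groth.Agent.Lib.T2H4.GrSym

open Groth.Agent.Lib.Helper2GrModSect

section Const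

variable {A σ : Type u} [CommRing A] [SetLike σ A] [AddSubgroupClass σ A] (𝒜 : ℕ → σ) [GradedRing 𝒜]
variable {f : A} {m : ℕ} (f_deg : f ∈ 𝒜 m) (hm : 0 < m)

/-- the restriction of a global function to `D₊(f)`, through `awayι`. -/
theorem awayToSection_awayι_appTop (s : Γ(Proj 𝒜, ⊤)) :
    (Proj.awayToSection 𝒜 f).hom ((Scheme.ΓSpecIso _).hom ((Proj.awayι 𝒜 f f_deg hm).appTop s)) =
      (Proj 𝒜).presheaf.map (homOfLE (le_top : Proj.basicOpen 𝒜 f ≤ ⊤)).op s := by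
  set e := Proj.basicOpenIsoSpec 𝒜 f f_deg hm with he
  have h1 : (Proj.awayι 𝒜 f f_deg hm).appTop s = e.inv.appTop ((Proj.basicOpen 𝒜 f).ι.appTop s) := by
    rw [← Proj.basicOpenIsoSpec_inv_ι, Scheme.Hom.comp_appTop]
    rfl
  set u := (Proj.basicOpen 𝒜 f).ι.appTop s with hu
  have h2 : e.hom.appTop (e.inv.appTop u) = u := by
    have : e.inv.appTop ≫ e.hom.appTop = 𝟙 _ := by
      rw [← Scheme.Hom.comp_appTop, e.hom_inv_id]
      rfl
    exact congr($this u)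
  have h3 : e.hom.appTop = (Scheme.ΓSpecIso _).hom ≫ Proj.awayToSection 𝒜 f ≫
      (Proj.basicOpen 𝒜 f).topIso.inv := by
    rw [he, Proj.basicOpenIsoSpec_hom]
    exact Proj.basicOpenToSpec_app_top 𝒜 f
  rw [h3] at h2
  have h4 : (Proj.basicOpen 𝒜 f).topIso.inv ((Proj.awayToSection 𝒜 f).hom
      ((Scheme.ΓSpecIso _).hom (e.inv.appTop u))) = u := h2
  rw [h1]
  have h5 := congrArg (Proj.basicOpen 𝒜 f).topIso.hom h4
  have h6 : (Proj.basicOpen 𝒜 f).topIso.hom ((Proj.basicOpen 𝒜 f).topIso.inv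
      ((Proj.awayToSection 𝒜 f).hom ((Scheme.ΓSpecIso _).hom (e.inv.appTop u)))) =
      (Proj.awayToSection 𝒜 f).hom ((Scheme.ΓSpecIso _).hom (e.inv.appTop u)) := by
    exact congr($((Proj.basicOpen 𝒜 f).topIso.inv_hom_id) _)
  rw [h6] at h5
  rw [h5, hu, Scheme.Opens.ι_appTop, Scheme.Opens.topIso_hom]
  change ((Proj 𝒜).presheaf.map (homOfLE _).op ≫ (Proj 𝒜).presheaf.map (eqToHom _).op) s = _
  rw [← Functor.map_comp]
  rfl

include f_deg in
/-- the value, at a point of `D₊(f)`, of a constant of degree zero seen as a function on `D₊(f)` -/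
theorem funVal_awayToSection_fromZero (a₀ : 𝒜 0) (y : ProjectiveSpectrum 𝒜) (hy : y ∈ Proj.basicOpen 𝒜 f) :
    (funVal 𝒜 (Proj.basicOpen 𝒜 f)
      ((Proj.awayToSection 𝒜 f).hom (fromZeroRingHom 𝒜 (Submonoid.powers f) a₀)) y hy).val =
      (Localization.mk (a₀ : A) (1 : y.asHomogeneousIdeal.toIdeal.primeCompl) : GrTwist.Loc 𝒜 y) := by
  have h1 : fromZeroRingHom 𝒜 (Submonoid.powers f) a₀ =
      Away.mk 𝒜 f_deg 0 (a₀ : A) (by simp) := by
    apply HomogeneousLocalization.val_injective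
    rw [Away.val_mk]
    change Localization.mk (a₀ : A) ⟨1, one_mem _⟩ = _
    congr 1
    ext
    simp
  rw [h1, funVal_awayToSection_val]
  congr 1
  ext
  simp

end Const

section SpecMap

/-- sections of `Spec B ⟶ Spec Γ(S, U) ⟶ S` over `U` -/
theorem hom_appLE_SpecMap_fromSpec {S : Scheme.{u}} {U : S.Opens} (hU : IsAffineOpen U)
    {B : CommRingCat.{u}} (φ : Γ(S, U) ⟶ B) (h : (⊤ : (Spec B).Opens) ≤ (Spec.map φ ≫ hU.fromSpec) ⁻¹ᵁ U)
    (γ : Γ(S, U)) :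
    (Scheme.ΓSpecIso B).hom ((Spec.map φ ≫ hU.fromSpec).appLE U ⊤ h γ) = φ γ := by
  have h0 : (⊤ : (Spec Γ(S, U)).Opens) ≤ hU.fromSpec ⁻¹ᵁ U := by
    rw [hU.fromSpec_preimage_self]
  have h1 := Scheme.Hom.appLE_comp_appLE (Spec.map φ) hU.fromSpec U ⊤ ⊤ h0 le_top
  have h2 : hU.fromSpec.appLE U ⊤ h0 = (Scheme.ΓSpecIso Γ(S, U)).inv := by
    rw [Scheme.Hom.appLE, hU.fromSpec_app_self, Category.assoc, ← Functor.map_comp]
    convert Category.comp_id _
    exact (Spec Γ(S, U)).presheaf.map_id _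
  have h3 : (Spec.map φ).appLE ⊤ ⊤ le_top = (Spec.map φ).appTop := by
    rw [Scheme.Hom.appTop, Scheme.Hom.app_eq_appLE]
    rfl
  have h4 : (Spec.map φ ≫ hU.fromSpec).appLE U ⊤ h =
      (Scheme.ΓSpecIso Γ(S, U)).inv ≫ (Spec.map φ).appTop := by
    rw [← h2, ← h3, h1]
  rw [h4]
  have h5 := Scheme.ΓSpecIso_naturality φ
  change ((Scheme.ΓSpecIso Γ(S, U)).inv ≫ (Spec.map φ).appTop ≫ (Scheme.ΓSpecIso B).hom) γ = _
  rw [h5, Iso.inv_hom_id_assoc]

end SpecMap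

section Rel

open Groth.Agent.Lib.Helper2.RelTwistTensor

theorem appLE_of_eq' {X Y : Scheme.{u}} {f g : X ⟶ Y} (hfg : f = g) (U : Y.Opens) (V : X.Opens)
    (e : V ≤ f ⁻¹ᵁ U) : f.appLE U V e = g.appLE U V (hfg ▸ e) := by subst hfg; rfl

variable {P S : Scheme.{u}} {𝒮 : RelProj.QCGrAlg S} {p : P ⟶ S}
  {chart : ∀ (U : S.Opens) (hU : IsAffineOpen U), (((p ⁻¹ᵁ U : P.Opens) : Scheme.{u}) ≅ Proj (𝒮.deg U hU))}

theorem emb_comp_eq (hP : RelProj.IsRelProj 𝒮 p chart) (U : S.Opens) (hU : IsAffineOpen U) :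
    RelProj.emb p chart U hU ≫ p =
      Proj.toSpecZero (𝒮.deg U hU) ≫ Spec.map (𝒮.strZero U hU) ≫ hU.fromSpec := by
  rw [RelProj.emb, Category.assoc, ← hP.chart_over U hU, Iso.inv_hom_id_assoc]

theorem emb_mem_preimage (U : S.Opens) (hU : IsAffineOpen U) (z : Proj (𝒮.deg U hU)) :
    (RelProj.emb p chart U hU) z ∈ p ⁻¹ᵁ U :=
  ((chart U hU).inv z).2

/-- **the function `p^* γ` has the value `γ / 1` at every point of the chart over `U`.** -/
theorem funVal_appLE_str (hP : RelProj.IsRelProj 𝒮 p chart) (U : S.Opens) (hU : IsAffineOpen U)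
    (γ : Γ(S, U)) (O : P.Opens) (hO : O ≤ p ⁻¹ᵁ U) (y : ProjectiveSpectrum (𝒮.deg U hU))
    (hy : (RelProj.emb p chart U hU) y ∈ O) {t : 𝒮.presheaf.obj (op U)} {m : ℕ}
    (ht : t ∈ 𝒮.deg U hU m) (hm : 0 < m) (hty : t ∉ y.asHomogeneousIdeal) :
    (funVal (𝒮.deg U hU) _ ((RelProj.emb p chart U hU).app O (p.appLE U O hO γ)) y hy).val =
      (Localization.mk ((𝒮.str.app (op U)).hom γ) (1 : y.asHomogeneousIdeal.toIdeal.primeCompl) :
        GrTwist.Loc (𝒮.deg U hU) y) := by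
  set q := Proj.toSpecZero (𝒮.deg U hU) ≫ Spec.map (𝒮.strZero U hU) ≫ hU.fromSpec with hq
  have hcomm : RelProj.emb p chart U hU ≫ p = q := emb_comp_eq hP U hU
  have hle : RelProj.emb p chart U hU ⁻¹ᵁ O ≤ (RelProj.emb p chart U hU ≫ p) ⁻¹ᵁ U := fun z hz => hO hz
  have e1 : (RelProj.emb p chart U hU).app O (p.appLE U O hO γ) =
      (RelProj.emb p chart U hU ≫ p).appLE U (RelProj.emb p chart U hU ⁻¹ᵁ O) hle γ := by
    rw [← Scheme.Hom.appLE_comp_appLE (RelProj.emb p chart U hU) p U O _ hO le_rfl,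
      Scheme.Hom.app_eq_appLE]
    rfl
  have e2 : (RelProj.emb p chart U hU ≫ p).appLE U (RelProj.emb p chart U hU ⁻¹ᵁ O) hle γ =
      q.appLE U (RelProj.emb p chart U hU ⁻¹ᵁ O) (hcomm ▸ hle) γ := by
    rw [appLE_of_eq' hcomm]
  have htop : (⊤ : (Proj (𝒮.deg U hU)).Opens) ≤ q ⁻¹ᵁ U := by
    rw [← hcomm]
    intro z _
    exact emb_mem_preimage U hU z
  have e3 : q.appLE U (RelProj.emb p chart U hU ⁻¹ᵁ O) (hcomm ▸ hle) γ =
      (Proj (𝒮.deg U hU)).presheaf.map (homOfLE (le_top : RelProj.emb p chart U hU ⁻¹ᵁ O ≤ ⊤)).op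
        (q.appLE U ⊤ htop γ) := by
    rw [← CommRingCat.comp_apply, Scheme.Hom.appLE_map]
  rw [e1, e2, e3, funVal_map]
  have hyt : y ∈ Proj.basicOpen (𝒮.deg U hU) t := (ProjectiveSpectrum.mem_basicOpen _ t y).mpr hty
  rw [← funVal_map (𝒮.deg U hU) (le_top : Proj.basicOpen (𝒮.deg U hU) t ≤ ⊤) _ y hyt,
    ← awayToSection_awayι_appTop (𝒮.deg U hU) ht hm]
  have e4 : (Proj.awayι (𝒮.deg U hU) t ht hm).appTop (q.appLE U ⊤ htop γ) =
      (Proj.awayι (𝒮.deg U hU) t ht hm ≫ q).appLE U ⊤ (fun z _ => htop trivial) γ := by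
    rw [← Scheme.Hom.appLE_comp_appLE (Proj.awayι (𝒮.deg U hU) t ht hm) q U ⊤ ⊤ htop le_top]
    rfl
  have e5 : Proj.awayι (𝒮.deg U hU) t ht hm ≫ q =
      Spec.map (𝒮.strZero U hU ≫ CommRingCat.ofHom (fromZeroRingHom (𝒮.deg U hU) (Submonoid.powers t))) ≫
        hU.fromSpec := by
    rw [hq, Proj.awayι_toSpecZero_assoc, ← Spec.map_comp_assoc]
  rw [e4, appLE_of_eq' e5, hom_appLE_SpecMap_fromSpec hU]
  exact funVal_awayToSection_fromZero (𝒮.deg U hU) ht ((𝒮.strZero U hU).hom γ) y hyt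

end Rel

end Groth.Agent.Lib.T2H4.GrSym
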