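import Mathlib
import Groth.Prelude.Def_RelProj3
import Groth.Agent.Lib.T2H4GrSymF
import Groth.Agent.Lib.T2H4ProjBundleA
import Groth.Agent.Lib.Helper13ProjLine

/-!
# Frames of `O(1)` on a projective bundle `P(E)` attached to sections of `E` (helper4)

* `idxOf` : the frame index of a section `t` of `E` over an affine open `W` (the open `D₊(j t)` of the chart over `W`);
* `res_eF_idxOf` : if `t_a = γ t_b` over an open basic in both `W_a` and `W_b`, the frames of `O(1)` attached to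
  `t_a`, `t_b` differ by the function `p^* γ`;
* `VF_idxOf_eq` : if `t` generates `E` over `W`, then `D₊(j t)` is the whole chart over `W`.
-/

set_option autoImplicit false
set_option linter.style.haveILetI false
set_option linter.unusedSectionVars false
universe u
open CategoryTheory Limits AlgebraicGeometry TopologicalSpace Opposite
open scoped HomogeneousIdeal

namespace Groth.Agent.Lib.T2H4.GrSym

open Groth.Agent.Lib.Helper2GrModSect Groth.Agent.Lib.Helper2.RelTwistTensor Groth.Agent.Lib.Helper23.SecTw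
  Groth.Agent.Lib.Helper6 Groth.Agent.Lib.Helper23.Extend Groth.Agent.Lib.Helper2.RelTwistGen RelProj

variable {P S : Scheme.{u}} {𝒮 : RelProj.QCGrAlg S} (p : P ⟶ S)
  (chart : ∀ (U : S.Opens) (hU : IsAffineOpen U), (((p ⁻¹ᵁ U : P.Opens) : Scheme.{u}) ≅ Proj (𝒮.deg U hU)))
  (E : S.Modules) (j : E ⟶ 𝒮.toModule) (hj : RelProj.IsGrSymAlg E 𝒮 j)

/-- the frame index of a section of `E` over an affine open -/
noncomputable def idxOf (W : S.Opens) (hW : IsAffineOpen W) (t : Γ(E, W)) : Idx 𝒮 :=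
  ⟨⟨W, hW⟩, ⟨((j.app W) t : 𝒮.presheaf.obj (op W)), hj.2 W hW t⟩⟩

/-- `j` commutes with restriction to a smaller affine open and with multiplication by functions -/
theorem res_j_app {W W'' : S.Opens} (hW : IsAffineOpen W) (hW'' : IsAffineOpen W'') (hle : W'' ≤ W)
    (t : Γ(E, W)) :
    𝒮.res hW hW'' hle ((j.app W) t : 𝒮.presheaf.obj (op W)) =
      ((j.app W'') (res E hle t) : 𝒮.presheaf.obj (op W'')) :=
  (app_map j (homOfLE hle) t).symm

theorem j_app_smul {W : S.Opens} (γ : Γ(S, W)) (t : Γ(E, W)) :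
    (show 𝒮.presheaf.obj (op W) from (j.app W) (γ • t)) =
      (𝒮.str.app (op W)).hom γ * (show 𝒮.presheaf.obj (op W) from (j.app W) t) := by
  rw [Scheme.Modules.Hom.app_smul]
  rfl

section transition

variable (L : P.Modules)
  (lam : ∀ (U : S.Opens) (hU : IsAffineOpen U),
    L ⟶ (Scheme.Modules.pushforward (RelProj.emb p chart U hU)).obj (GrTwist.twist (𝒮.deg U hU) 1))
  (hL : RelProj.IsRelTwist 𝒮 p chart 1 L lam)

theorem one_eq : ((1 : ℕ) : ℤ) = ((0 : ℕ) : ℤ) + 1 := by norm_num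

include hj in
/-- **transition between the frames of `O(1)` attached to two sections of `E`**, over an open basic in both. -/
theorem res_eF_idxOf (hP : RelProj.IsRelProj 𝒮 p chart) {Wa Wb : S.Opens} (hWa : IsAffineOpen Wa)
    (hWb : IsAffineOpen Wb) (ta : Γ(E, Wa)) (tb : Γ(E, Wb)) (r : Γ(S, Wa)) (r' : Γ(S, Wb))
    (hrr' : S.basicOpen r = S.basicOpen r') (hle' : S.basicOpen r ≤ Wb) (γ : Γ(S, S.basicOpen r))
    (hγ : res E (S.basicOpen_le r) ta = γ • res E hle' tb)
    (O : P.Opens) (hOa : O ≤ VF p chart (idxOf E j hj Wa hWa ta))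
    (hOb : O ≤ VF p chart (idxOf E j hj Wb hWb tb)) (hOU : O ≤ p ⁻¹ᵁ (S.basicOpen r)) :
    res L hOa (eF p chart 1 L lam hL 1 0 one_eq (idxOf E j hj Wa hWa ta)) =
      (p.appLE (S.basicOpen r) O hOU γ) •
        res L hOb (eF p chart 1 L lam hL 1 0 one_eq (idxOf E j hj Wb hWb tb)) := by
  rw [res_eF_eq_smul_iff p chart 1 L lam hL 1 0 one_eq hP (idxOf E j hj Wa hWa ta)
    (idxOf E j hj Wb hWb tb) r r' (S.basicOpen r) (hWa.basicOpen r) rfl hrr' (S.basicOpen_le r) hle'
    O hOa hOb hOU]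
  intro y'' hy''
  have hb := res_not_mem p chart hP (idxOf E j hj Wb hWb tb) r' (S.basicOpen r) (hWa.basicOpen r) hrr' hle'
    y'' (hOb hy'')
  have hdeg : 𝒮.res hWb (hWa.basicOpen r) hle' (idxOf E j hj Wb hWb tb).2.1 ∈
      𝒮.deg (S.basicOpen r) (hWa.basicOpen r) 1 :=
    (𝒮.res hWb (hWa.basicOpen r) hle').map_mem (idxOf E j hj Wb hWb tb).2.2
  rw [funVal_appLE_str hP (S.basicOpen r) (hWa.basicOpen r) γ O hOU y'' hy'' hdeg one_pos hb]
  unfold zv
  rw [Localization.mk_mul, Localization.mk_eq_mk_iff, Localization.r_iff_exists]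
  refine ⟨1, ?_⟩
  have key : 𝒮.res hWa (hWa.basicOpen r) (S.basicOpen_le r) (idxOf E j hj Wa hWa ta).2.1 =
      (𝒮.str.app (op (S.basicOpen r))).hom γ *
        𝒮.res hWb (hWa.basicOpen r) hle' (idxOf E j hj Wb hWb tb).2.1 := by
    change 𝒮.res hWa (hWa.basicOpen r) (S.basicOpen_le r) ((j.app Wa) ta : 𝒮.presheaf.obj (op Wa)) =
      (𝒮.str.app (op (S.basicOpen r))).hom γ *
        𝒮.res hWb (hWa.basicOpen r) hle' ((j.app Wb) tb : 𝒮.presheaf.obj (op Wb))
    rw [res_j_app E j hWa (hWa.basicOpen r), res_j_app E j hWb (hWa.basicOpen r), hγ]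
    exact j_app_smul E j γ _
  simp only [pow_one, pow_zero, OneMemClass.coe_one, one_mul]
  exact key

end transition

section gen

open Groth.Agent.Lib.T2H4.ProjBundle Groth.Agent.Lib.Helper2.RelTildeQCoh

include hj in
/-- if `t` generates `E` over the affine open `W`, no point of the chart over `W` contains `j t` -/
theorem j_app_not_mem (hE : Coh.IsQCoh E) (W : S.Opens) (hW : IsAffineOpen W) (t : Γ(E, W))
    (ht : ∀ e : Γ(E, W), ∃ c : Γ(S, W), e = c • t) (y : ProjectiveSpectrum (𝒮.deg W hW)) :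
    ((j.app W) t : 𝒮.presheaf.obj (op W)) ∉ y.asHomogeneousIdeal := by
  intro hmem
  obtain ⟨e, he⟩ := exists_not_mem_of_isGrSymAlg E hE 𝒮 j hj W hW y
  obtain ⟨c, rfl⟩ := ht e
  apply he
  have h1 := j_app_smul E j c t
  have h2 : (𝒮.str.app (op W)).hom c * (show 𝒮.presheaf.obj (op W) from (j.app W) t) ∈
      y.asHomogeneousIdeal := Ideal.mul_mem_left _ _ hmem
  rw [← h1] at h2
  exact h2

include hj in
/-- **if `t` generates `E` over the affine open `W`, then `D₊(j t)` is the whole of `p⁻¹(W)`.** -/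
theorem VF_idxOf_eq (hE : Coh.IsQCoh E) (W : S.Opens) (hW : IsAffineOpen W) (t : Γ(E, W))
    (ht : ∀ e : Γ(E, W), ∃ c : Γ(S, W), e = c • t) :
    VF p chart (idxOf E j hj W hW t) = p ⁻¹ᵁ W := by
  apply le_antisymm (VF_le p chart _)
  intro z hz
  obtain ⟨y, hy⟩ := le_opensRange_emb p chart W hW hz
  refine ⟨y, ?_, hy⟩
  exact (ProjectiveSpectrum.mem_basicOpen _ _ y).mpr (j_app_not_mem E j hj hE W hW t ht y)

/-- a free generator gives a basis with one element -/
noncomputable def basisOfGen (W : S.Opens) (t : Γ(E, W))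
    (ht : Function.Bijective (fun c : Γ(S, W) => c • t)) : Module.Basis (Fin 1) Γ(S, W) Γ(E, W) :=
  Module.Basis.ofEquivFun
    ((LinearEquiv.ofBijective (LinearMap.toSpanSingleton Γ(S, W) Γ(E, W) t) ht).symm ≪≫ₗ
      (LinearEquiv.funUnique (Fin 1) Γ(S, W) Γ(S, W)).symm)

include hj in
/-- **the projective bundle of `E` is an isomorphism over an open over which `E` is locally free of rank one.** -/
theorem isIso_morphismRestrict_of_cover [E.IsQuasicoherent] (hP : RelProj.IsRelProj 𝒮 p chart) (Z₀ : S.Opens)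
    (h : ∀ z ∈ Z₀, ∃ (W : S.Opens) (_ : IsAffineOpen W), z ∈ W ∧ W ≤ Z₀ ∧
      Nonempty (Module.Basis (Fin 1) Γ(S, W) Γ(E, W))) : IsIso (p ∣_ Z₀) := by
  have : MorphismProperty.isomorphisms Scheme.{u} (p ∣_ Z₀) := by
    refine IsZariskiLocalAtTarget.of_forall_exists_morphismRestrict fun x => ?_
    obtain ⟨W, hW, hxW, hWZ, ⟨b⟩⟩ := h x.1 x.2
    refine ⟨Z₀.ι ⁻¹ᵁ W, hxW, ?_⟩
    have h1 : IsIso (p ∣_ W) :=
      Groth.Agent.Helper13ProjLine.isIso_morphismRestrict E 𝒮 j hj p chart hP hW b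
    have h2 : Z₀.ι ''ᵁ (Z₀.ι ⁻¹ᵁ W) = W := by
      rw [Scheme.Hom.image_preimage_eq_opensRange_inf, Scheme.Opens.opensRange_ι]
      exact inf_eq_right.2 hWZ
    have h3 : IsIso (p ∣_ (Z₀.ι ''ᵁ (Z₀.ι ⁻¹ᵁ W))) := by
      rw [h2]
      exact h1
    exact (MorphismProperty.arrow_mk_iso_iff _ (morphismRestrictRestrict p Z₀ _)).mpr h3
  exact this

end gen

end Groth.Agent.Lib.T2H4.GrSym
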