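import Mathlib
import Groth.Prelude.Def_RelProj3
import Groth.Agent.Lib.T2H4GrSymG
import Groth.Agent.Lib.Helper2RelTwistPullback

/-!
# `L ≅ i^* O_{P(u_* L)}(1)` for a morphism `i : X ⟶ P(u_* L)` over `u`, when `u_* L` is invertible near the image (helper4)
-/

set_option autoImplicit false
set_option linter.style.haveILetI false
set_option linter.unusedSectionVars false
universe u
open CategoryTheory Limits AlgebraicGeometry TopologicalSpace Opposite
open scoped HomogeneousIdeal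

namespace Groth.Agent.Lib.T2H4.GrSym

open Groth.Agent.Lib.Helper2.RelTildeQCoh Groth.Agent.Lib.Helper23.SecTw Groth.Agent.Lib.Helper6
  Groth.Agent.Lib.Helper2.RelTwistGen Groth.Agent.Lib.Helper2.RelTwistTensor RelProj
  Groth.Agent.Lib.Helper23.PB Groth.Agent.Helper13PullbackUnit

variable {X Z P : Scheme.{u}} (u : X ⟶ Z) (L : X.Modules) {𝒮 : RelProj.QCGrAlg Z}
  (j : (Scheme.Modules.pushforward u).obj L ⟶ 𝒮.toModule)
  (hj : RelProj.IsGrSymAlg ((Scheme.Modules.pushforward u).obj L) 𝒮 j)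
  (p : P ⟶ Z)
  (chart : ∀ (U : Z.Opens) (hU : IsAffineOpen U), (((p ⁻¹ᵁ U : P.Opens) : Scheme.{u}) ≅ Proj (𝒮.deg U hU)))
  (O1 : P.Modules)
  (lam : ∀ (U : Z.Opens) (hU : IsAffineOpen U),
    O1 ⟶ (Scheme.Modules.pushforward (RelProj.emb p chart U hU)).obj (GrTwist.twist (𝒮.deg U hU) 1))
  (hO1 : RelProj.IsRelTwist 𝒮 p chart 1 O1 lam) (i : X ⟶ P)

/-- a relation between sections of a direct image, read upstairs on a smaller open -/
theorem res_eq_of_push {Wa Wb W'' : Z.Opens} (ha : W'' ≤ Wa) (hb : W'' ≤ Wb)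
    (ta : Γ(L, u ⁻¹ᵁ Wa)) (tb : Γ(L, u ⁻¹ᵁ Wb)) (γ : Γ(Z, W''))
    (hγ : res ((Scheme.Modules.pushforward u).obj L) ha ta =
      γ • res ((Scheme.Modules.pushforward u).obj L) hb tb)
    (O : X.Opens) (hOa : O ≤ u ⁻¹ᵁ Wa) (hOb : O ≤ u ⁻¹ᵁ Wb) (hO : O ≤ u ⁻¹ᵁ W'') :
    res L hOa ta = (u.appLE W'' O hO γ) • res L hOb tb := by
  have h1 : res L (u.preimage_mono ha) ta = (u.app W'' γ) • res L (u.preimage_mono hb) tb := hγ
  have h2 := congrArg (res L hO) h1
  rw [res_res, res_smul, res_res] at h2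
  exact h2

include hj hO1 in
/-- **`L ≅ i^* O(1)`**, for `i : X ⟶ P(u_* L)` over `u`, when `X` is covered by the inverse images of affine opens
over which a section generates both `u_* L` and `L`. -/
theorem nonempty_iso_pullback_of_frames (hP : RelProj.IsRelProj 𝒮 p chart) (hi : i ≫ p = u)
    (hE : Coh.IsQCoh ((Scheme.Modules.pushforward u).obj L))
    {A : Type u} (W : A → Z.Opens) (hW : ∀ a, IsAffineOpen (W a)) (t : ∀ a, Γ(L, u ⁻¹ᵁ W a))
    (hgL : ∀ a, IsGen L (u ⁻¹ᵁ W a) (t a))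
    (hgE : ∀ a, IsGen ((Scheme.Modules.pushforward u).obj L) (W a) (t a))
    (hcov : ∀ x : X, ∃ a, u x ∈ W a) :
    Nonempty (L ≅ (Scheme.Modules.pullback i).obj O1) := by
  have hT : ∀ (U : Z.Opens) (hU : IsAffineOpen U),
      (GrTwist.twist (𝒮.deg U hU) 1).IsQuasicoherent := by
    intro U hU
    have h0 : GrMod.tilde (𝒮.deg U hU) (𝒮.deg U hU) 1 = GrTwist.twist (𝒮.deg U hU) 1 := rfl
    rw [← h0]
    exact Groth.Agent.Lib.Helper2GrModSect.isQuasicoherent_tilde (𝒮.deg U hU) (𝒮.deg U hU) 1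
  haveI : O1.IsQuasicoherent := isQuasicoherent_of_relCharts p chart O1
    (fun U hU => GrTwist.twist (𝒮.deg U hU) 1) hT lam hO1.bijective
  -- the frames of `O(1)`
  let idx : A → Idx 𝒮 := fun a => idxOf ((Scheme.Modules.pushforward u).obj L) j hj (W a) (hW a) (t a)
  have hsurj : ∀ a (e : Γ((Scheme.Modules.pushforward u).obj L, W a)),
      ∃ c : Γ(Z, W a), e = c • (show Γ((Scheme.Modules.pushforward u).obj L, W a) from t a) := by
    intro a e
    obtain ⟨c, hc⟩ := (hgE a (W a) le_rfl).2 e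
    refine ⟨c, ?_⟩
    have hc' : c • res ((Scheme.Modules.pushforward u).obj L) (le_refl (W a)) (t a) = e := hc
    rw [res_self] at hc'
    exact hc'.symm
  have hVF : ∀ a, VF p chart (idx a) = p ⁻¹ᵁ W a := fun a =>
    VF_idxOf_eq p chart ((Scheme.Modules.pushforward u).obj L) j hj hE (W a) (hW a) (t a) (hsurj a)
  have haff : ∀ a, IsAffineOpen (VF p chart (idx a)) := fun a =>
    (Proj.isAffineOpen_basicOpen (𝒮.deg (idx a).1.1 (idx a).1.2) (idx a).2.1 (idx a).2.2
      one_pos).image_of_isOpenImmersion _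
  let EA : ∀ a, Γ(O1, VF p chart (idx a)) := fun a => eF p chart 1 O1 lam hO1 1 0 one_eq (idx a)
  have hEA : ∀ a, IsGen O1 (VF p chart (idx a)) (EA a) := fun a =>
    isGen_eF p chart 1 O1 lam hO1 1 0 one_eq (idx a)
  have hgA : ∀ a, IsGen ((Scheme.Modules.pullback i).obj O1) (i ⁻¹ᵁ VF p chart (idx a))
      (unitSec i O1 le_rfl (EA a)) := fun a => isGen_unitSec i O1 (haff a) (EA a) (hEA a)
  have hpu : ∀ x : X, p (i x) = u x := by
    intro x
    rw [← hi]
    rfl
  have hle : ∀ a, i ⁻¹ᵁ VF p chart (idx a) ≤ u ⁻¹ᵁ W a := by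
    intro a x hx
    have h1 : p (i x) ∈ W a := VF_le p chart (idx a) hx
    rw [hpu] at h1
    exact h1
  obtain ⟨Φ, -⟩ := exists_iso_of_frames ((Scheme.Modules.pullback i).obj O1) L
    (fun a => i ⁻¹ᵁ VF p chart (idx a))
    (by
      intro x
      obtain ⟨a, ha⟩ := hcov x
      refine ⟨a, ?_⟩
      change i x ∈ VF p chart (idx a)
      rw [hVF a]
      change p (i x) ∈ W a
      rw [hpu]
      exact ha)
    (fun a => unitSec i O1 le_rfl (EA a)) (fun a => res L (hle a) (t a)) hgA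
    (fun a => (hgL a).mono (hle a))
    (by
      intro a b
      obtain ⟨c₀, hc₀⟩ := exists_transition' (EA a) (hEA b)
      refine cocycle_of_transition (hgA b)
        (i.appLE (VF p chart (idx a) ⊓ VF p chart (idx b)) _
          (preimage_inf_le i (VF p chart (idx a)) (VF p chart (idx b))) c₀)
        (res_unitSec_of_transition i O1 (EA a) (EA b) c₀ hc₀) ?_
      have key : ∀ x : (i ⁻¹ᵁ VF p chart (idx a) ⊓ i ⁻¹ᵁ VF p chart (idx b) : X.Opens),
          ∃ (O : X.Opens) (hO : O ≤ i ⁻¹ᵁ VF p chart (idx a) ⊓ i ⁻¹ᵁ VF p chart (idx b)), x.1 ∈ O ∧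
          res L hO (res L inf_le_left (res L (hle a) (t a))) =
          res L hO ((i.appLE (VF p chart (idx a) ⊓ VF p chart (idx b)) _
            (preimage_inf_le i (VF p chart (idx a)) (VF p chart (idx b))) c₀) •
              res L inf_le_right (res L (hle b) (t b))) := by
        intro x
        have hxa : u x.1 ∈ W a := hle a x.2.1
        have hxb : u x.1 ∈ W b := hle b x.2.2
        obtain ⟨r, r', hrr', hx⟩ := exists_basicOpen_le_affine_inter (hW a) (hW b) (u x.1) ⟨hxa, hxb⟩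
        have hle' : Z.basicOpen r ≤ W b := hrr' ▸ Z.basicOpen_le r'
        obtain ⟨γ, hγ⟩ := (hgE b (Z.basicOpen r) hle').2
          (res ((Scheme.Modules.pushforward u).obj L) (Z.basicOpen_le r) (t a))
        have hγ' : res ((Scheme.Modules.pushforward u).obj L) (Z.basicOpen_le r) (t a) =
            γ • res ((Scheme.Modules.pushforward u).obj L) hle' (t b) := hγ.symm
        refine ⟨(i ⁻¹ᵁ VF p chart (idx a) ⊓ i ⁻¹ᵁ VF p chart (idx b)) ⊓ u ⁻¹ᵁ (Z.basicOpen r),
          inf_le_left, ⟨x.2, hx⟩, ?_⟩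
        rw [res_res, res_res, res_smul, res_res, res_res]
        have hOO' : (i ⁻¹ᵁ VF p chart (idx a) ⊓ i ⁻¹ᵁ VF p chart (idx b)) ⊓ u ⁻¹ᵁ (Z.basicOpen r) ≤
            i ⁻¹ᵁ ((VF p chart (idx a) ⊓ VF p chart (idx b)) ⊓ p ⁻¹ᵁ (Z.basicOpen r)) := by
          intro z hz
          refine ⟨⟨hz.1.1, hz.1.2⟩, ?_⟩
          change p (i z) ∈ Z.basicOpen r
          rw [hpu]
          exact hz.2
        have hT1 := res_eF_idxOf p chart ((Scheme.Modules.pushforward u).obj L) j hj O1 lam hO1 hP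
          (hW a) (hW b) (t a) (t b) r r' hrr' hle' γ hγ'
          ((VF p chart (idx a) ⊓ VF p chart (idx b)) ⊓ p ⁻¹ᵁ (Z.basicOpen r))
          (inf_le_left.trans inf_le_left) (inf_le_left.trans inf_le_right) inf_le_right
        have hc₀' := congrArg (res O1 (inf_le_left :
          (VF p chart (idx a) ⊓ VF p chart (idx b)) ⊓ p ⁻¹ᵁ (Z.basicOpen r) ≤
            VF p chart (idx a) ⊓ VF p chart (idx b))) hc₀
        rw [res_res, res_smul, res_res] at hc₀'
        have hc : resf (inf_le_left : (VF p chart (idx a) ⊓ VF p chart (idx b)) ⊓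
            p ⁻¹ᵁ (Z.basicOpen r) ≤ VF p chart (idx a) ⊓ VF p chart (idx b)) c₀ =
            p.appLE (Z.basicOpen r) _ inf_le_right γ :=
          (hEA b _ (inf_le_left.trans inf_le_right)).1 (hc₀'.symm.trans hT1)
        have e1 : resf (inf_le_left : (i ⁻¹ᵁ VF p chart (idx a) ⊓ i ⁻¹ᵁ VF p chart (idx b)) ⊓
            u ⁻¹ᵁ (Z.basicOpen r) ≤ i ⁻¹ᵁ VF p chart (idx a) ⊓ i ⁻¹ᵁ VF p chart (idx b))
            (i.appLE (VF p chart (idx a) ⊓ VF p chart (idx b)) _
              (preimage_inf_le i (VF p chart (idx a)) (VF p chart (idx b))) c₀) =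
            u.appLE (Z.basicOpen r) _ inf_le_right γ := by
          have s1 := congr($(Scheme.Hom.appLE_map i
            (preimage_inf_le i (VF p chart (idx a)) (VF p chart (idx b)))
            (homOfLE (inf_le_left : (i ⁻¹ᵁ VF p chart (idx a) ⊓ i ⁻¹ᵁ VF p chart (idx b)) ⊓
              u ⁻¹ᵁ (Z.basicOpen r) ≤ i ⁻¹ᵁ VF p chart (idx a) ⊓ i ⁻¹ᵁ VF p chart (idx b))).op) c₀)
          have s2 := congr($(Scheme.Hom.map_appLE i hOO'
            (homOfLE (inf_le_left : (VF p chart (idx a) ⊓ VF p chart (idx b)) ⊓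
              p ⁻¹ᵁ (Z.basicOpen r) ≤ VF p chart (idx a) ⊓ VF p chart (idx b))).op) c₀)
          have s3 := congr($(Scheme.Hom.appLE_comp_appLE i p (Z.basicOpen r)
            ((VF p chart (idx a) ⊓ VF p chart (idx b)) ⊓ p ⁻¹ᵁ (Z.basicOpen r)) _ inf_le_right hOO') γ)
          have s4 : i.appLE ((VF p chart (idx a) ⊓ VF p chart (idx b)) ⊓ p ⁻¹ᵁ (Z.basicOpen r)) _ hOO'
              (resf (inf_le_left : (VF p chart (idx a) ⊓ VF p chart (idx b)) ⊓
                p ⁻¹ᵁ (Z.basicOpen r) ≤ VF p chart (idx a) ⊓ VF p chart (idx b)) c₀) =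
              i.appLE ((VF p chart (idx a) ⊓ VF p chart (idx b)) ⊓ p ⁻¹ᵁ (Z.basicOpen r)) _ hOO'
                (p.appLE (Z.basicOpen r) _ inf_le_right γ) := congrArg _ hc
          have s5 : (i ≫ p).appLE (Z.basicOpen r)
              ((i ⁻¹ᵁ VF p chart (idx a) ⊓ i ⁻¹ᵁ VF p chart (idx b)) ⊓ u ⁻¹ᵁ (Z.basicOpen r))
              (hOO'.trans (i.preimage_mono inf_le_right)) γ =
              u.appLE (Z.basicOpen r) _ inf_le_right γ := by
            rw [appLE_of_eq' hi]
          exact s1.trans (s2.symm.trans (s4.trans (s3.trans s5)))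
        rw [e1]
        exact res_eq_of_push u L (Z.basicOpen_le r) hle' (t a) (t b) γ hγ' _ _ _ inf_le_right
      choose O hO hxO hres using key
      refine (modSheaf L).eq_of_locally_eq' O _ (fun x => homOfLE (hO x)) ?_ _ _ hres
      intro x hx'
      exact Opens.mem_iSup.mpr ⟨⟨x, hx'⟩, hxO _⟩)
  exact ⟨Φ.symm⟩

end Groth.Agent.Lib.T2H4.GrSym
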