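import Mathlib
import Groth.Prelude.Def_RelProj3
import Groth.Agent.Lib.T2H4GrSymH
import Groth.Agent.Lib.T2H4GrSymD
import Groth.Agent.Lib.Helper23QCohLocal

/-!
# Invertible modules are very ample relative to a quasi-compact open immersion (helper4)

`isRelVeryAmple_of_isOpenImmersion` : for a quasi-compact open immersion `u : X ⟶ Z` and an invertible `L` on `X`,
`X` is an open subscheme of `P(u_* L)` over `Z` (the part of the bundle over `u(X)`, where `u_* L` is invertible),
and `O(1)` restricts to `L`.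
-/

set_option autoImplicit false
set_option linter.style.haveILetI false
set_option linter.unusedSectionVars false
universe u
open CategoryTheory Limits AlgebraicGeometry TopologicalSpace Opposite
open scoped HomogeneousIdeal

namespace Groth.Agent.Lib.T2H4.GrSym

open Groth.Agent.Lib.Helper23.SecTw Groth.Agent.Lib.Helper6 RelProj Groth.Agent.Lib.Helper23.PB
  Groth.Agent.Lib.Helper23.GenLocus Groth.Agent.Lib.Helper23.AmpleIso

variable {X Z : Scheme.{u}} (u : X ⟶ Z) [IsOpenImmersion u] (L : X.Modules)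

/-- a generator of `L` over `u⁻¹(W)`, `W` inside the image of the open immersion `u`, generates `u_* L` over `W` -/
theorem isGen_pushforward {W : Z.Opens} (hW : W ≤ u.opensRange) (t : Γ(L, u ⁻¹ᵁ W))
    (ht : IsGen L (u ⁻¹ᵁ W) t) : IsGen ((Scheme.Modules.pushforward u).obj L) W t := by
  intro W' hW'
  have h1 := ht (u ⁻¹ᵁ W') (u.preimage_mono hW')
  haveI : IsIso (u.app W') := u.isIso_app W' (hW'.trans hW)
  have h2 : Function.Bijective (u.app W').hom := ConcreteCategory.bijective_of_isIso (u.app W')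
  exact h1.comp h2

/-- **an invertible module is very ample relative to a quasi-compact open immersion.** -/
theorem isRelVeryAmple_of_isOpenImmersion [QuasiCompact u] (hL : PicF.IsInvertible L) :
    RelProj.IsRelVeryAmple u L := by
  haveI : L.IsQuasicoherent := isQuasicoherent_of_isInvertible L hL
  have hE : Coh.IsQCoh ((Scheme.Modules.pushforward u).obj L) :=
    Groth.Agent.Lib.Helper23.QCohLocal.isQuasicoherent_pushforward u L
  haveI : ((Scheme.Modules.pushforward u).obj L).IsQuasicoherent := hE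
  obtain ⟨𝒮, j, hj, P, p, chart, hP, O1, lam, hO1⟩ := exists_projBundle _ hE
  -- the frames
  let W : AFr L → Z.Opens := fun a => u ''ᵁ a.1.1
  have hWle : ∀ a : AFr L, u ⁻¹ᵁ W a ≤ a.1.1 := fun a => le_of_eq (u.preimage_image_eq _)
  let t : ∀ a : AFr L, Γ(L, u ⁻¹ᵁ W a) := fun a => res L (hWle a) a.1.2
  have hW : ∀ a, IsAffineOpen (W a) := fun a => a.2.1.image_of_isOpenImmersion u
  have hgL : ∀ a, IsGen L (u ⁻¹ᵁ W a) (t a) := fun a => a.2.2.mono (hWle a)
  have hgE : ∀ a, IsGen ((Scheme.Modules.pushforward u).obj L) (W a) (t a) := fun a =>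
    isGen_pushforward u L (u.image_le_opensRange _) (t a) (hgL a)
  have hcov : ∀ x : X, ∃ a, u x ∈ W a := by
    intro x
    obtain ⟨V, e, hxV, hV, he⟩ := exists_affine_gen L hL x
    exact ⟨⟨⟨V, e⟩, hV, he⟩, ⟨x, hxV, rfl⟩⟩
  -- the bundle is an isomorphism over the image of `u`
  have hiso : IsIso (p ∣_ u.opensRange) :=
    isIso_morphismRestrict_of_cover p chart ((Scheme.Modules.pushforward u).obj L) j hj hP u.opensRange (by
      rintro z ⟨x, rfl⟩
      obtain ⟨a, ha⟩ := hcov x
      refine ⟨W a, hW a, ha, u.image_le_opensRange _, ⟨basisOfGen ((Scheme.Modules.pushforward u).obj L)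
        (W a) (t a) ?_⟩⟩
      have h1 := hgE a (W a) le_rfl
      have h2 : (fun r : Γ(Z, W a) => r • res ((Scheme.Modules.pushforward u).obj L) (le_refl (W a)) (t a)) =
          fun c : Γ(Z, W a) => c • (show Γ((Scheme.Modules.pushforward u).obj L, W a) from t a) := by
        funext r
        rw [res_self]
      rw [h2] at h1
      exact h1)
  let i : X ⟶ P := u.isoOpensRange.hom ≫ inv (p ∣_ u.opensRange) ≫ (p ⁻¹ᵁ u.opensRange).ι
  have hi : i ≫ p = u := by
    change (u.isoOpensRange.hom ≫ inv (p ∣_ u.opensRange) ≫ (p ⁻¹ᵁ u.opensRange).ι) ≫ p = u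
    rw [Category.assoc, Category.assoc, ← morphismRestrict_ι, IsIso.inv_hom_id_assoc]
    exact u.isoOpensRange_hom_ι
  have hii : IsOpenImmersion i := by
    change IsOpenImmersion (u.isoOpensRange.hom ≫ inv (p ∣_ u.opensRange) ≫ (p ⁻¹ᵁ u.opensRange).ι)
    infer_instance
  exact ⟨_, hE, 𝒮, j, hj, P, p, chart, hP, O1, lam, hO1, i, inferInstance, hi,
    nonempty_iso_pullback_of_frames u L j hj p chart O1 lam hO1 i hP hi hE W hW t hgL hgE hcov⟩

end Groth.Agent.Lib.T2H4.GrSym
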