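import Mathlib
import Groth.Prelude.Def_RelSpec

/-!
# Extension of sections of a quasi-coherent algebra from a "nonvanishing locus" (helper4)

EGA I 9.3.1 in algebra form.  `𝒮` a quasi-coherent `O_X`-algebra, `g ∈ 𝒮(W)`, `D ⊆ W` an open which is locally
(on affine opens `V ⊆ W`) of the form `D(c)` with `g|V = c τ` (`LocStr`).

* `exists_pow_mul_eq_zero` : a section over a quasi-compact `W' ⊆ W` vanishing on `D ∩ W'` is killed by a power of `g`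
* `exists_extension` : for `W` quasi-compact with quasi-compact intersections of affines, any section `t` over `D`
  has some `g^k t` extending to `W`
-/

set_option autoImplicit false
set_option linter.style.haveILetI false
universe u
open CategoryTheory CategoryTheory.Limits AlgebraicGeometry TopologicalSpace Opposite

namespace Groth.Agent.Lib.T2H4.PowMap

variable {X : Scheme.{u}} (𝒮 : RelSpec.QCAlg X)

/-- restriction maps of `𝒮` -/
noncomputable def rs {U V : X.Opens} (h : V ≤ U) : 𝒮.presheaf.obj (op U) →+* 𝒮.presheaf.obj (op V) :=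
  (𝒮.presheaf.map (homOfLE h).op).hom

theorem rs_rs {U V V' : X.Opens} (h : V ≤ U) (h' : V' ≤ V) (x : 𝒮.presheaf.obj (op U)) :
    rs 𝒮 h' (rs 𝒮 h x) = rs 𝒮 (h'.trans h) x := by
  unfold rs
  rw [← CommRingCat.comp_apply, ← Functor.map_comp]
  rfl

theorem rs_self {U : X.Opens} (x : 𝒮.presheaf.obj (op U)) : rs 𝒮 (le_refl U) x = x := by
  unfold rs
  have : (homOfLE (le_refl U)).op = 𝟙 (op U) := rfl
  rw [this, CategoryTheory.Functor.map_id]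
  rfl

theorem rs_str {U V : X.Opens} (h : V ≤ U) (a : Γ(X, U)) :
    rs 𝒮 h ((𝒮.str.app (op U)).hom a) = (𝒮.str.app (op V)).hom ((X.presheaf.map (homOfLE h).op).hom a) :=
  (congr_arg (fun t => t.hom a) (𝒮.str.naturality (homOfLE h).op)).symm

/-- sections agreeing on a cover are equal -/
theorem rs_ext {ι : Type*} (U : ι → X.Opens) (V : X.Opens) (hU : ∀ i, U i ≤ V) (hcov : V ≤ ⨆ i, U i)
    (s t : 𝒮.presheaf.obj (op V)) (h : ∀ i, rs 𝒮 (hU i) s = rs 𝒮 (hU i) t) : s = t :=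
  TopCat.Sheaf.eq_of_locally_eq' ⟨𝒮.presheaf, 𝒮.isSheaf⟩ U V (fun i => homOfLE (hU i)) hcov s t h

/-- the local structure of `(g, D)` over `W` -/
def LocStr (W : X.Opens) (g : 𝒮.presheaf.obj (op W)) (D : X.Opens) : Prop :=
  ∀ (O : X.Opens) (x : X), x ∈ W → x ∈ O →
    ∃ (V : X.Opens) (_ : IsAffineOpen V) (hVW : V ≤ W), x ∈ V ∧ V ≤ O ∧
      ∃ (c : Γ(X, V)) (τ : 𝒮.presheaf.obj (op V)),
        rs 𝒮 hVW g = (𝒮.str.app (op V)).hom c * τ ∧ D ⊓ V = X.basicOpen c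

variable {𝒮}

/-- a section over an affine `V` vanishing on `D(c)` is killed by a power of `c` -/
theorem exists_pow_mul_eq_zero_affine {V : X.Opens} (hV : IsAffineOpen V) (c : Γ(X, V))
    (t : 𝒮.presheaf.obj (op V)) (ht : rs 𝒮 (X.basicOpen_le c) t = 0) :
    ∃ k : ℕ, (𝒮.str.app (op V)).hom c ^ k * t = 0 := by
  letI := (𝒮.presheaf.map (homOfLE (X.basicOpen_le c)).op).hom.toAlgebra
  haveI : IsLocalization.Away ((𝒮.str.app (op V)).hom c) (𝒮.presheaf.obj (op (X.basicOpen c))) :=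
    𝒮.isQC V hV c
  have h0 : algebraMap (𝒮.presheaf.obj (op V)) (𝒮.presheaf.obj (op (X.basicOpen c))) t =
      algebraMap (𝒮.presheaf.obj (op V)) (𝒮.presheaf.obj (op (X.basicOpen c))) 0 := by
    rw [map_zero]
    exact ht
  obtain ⟨⟨_, k, rfl⟩, hk⟩ := (IsLocalization.eq_iff_exists
    (Submonoid.powers ((𝒮.str.app (op V)).hom c)) (𝒮.presheaf.obj (op (X.basicOpen c)))).mp h0
  refine ⟨k, ?_⟩
  rw [mul_zero] at hk
  exact hk

/-- **injectivity part**: a section over a quasi-compact open vanishing on `D` is killed by a power of `g` -/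
theorem exists_pow_mul_eq_zero {W : X.Opens} {g : 𝒮.presheaf.obj (op W)} {D : X.Opens}
    (h : LocStr 𝒮 W g D) (W' : X.Opens) (hW' : W' ≤ W) (hc : IsCompact (W' : Set X))
    (t : 𝒮.presheaf.obj (op W'))
    (ht : rs 𝒮 (inf_le_right : D ⊓ W' ≤ W') t = 0) :
    ∃ k : ℕ, rs 𝒮 hW' g ^ k * t = 0 := by
  classical
  have hloc : ∀ x : W', ∃ (V : X.Opens) (hVW' : V ≤ W') (k : ℕ), x.1 ∈ V ∧
      rs 𝒮 hVW' (rs 𝒮 hW' g) ^ k * rs 𝒮 hVW' t = 0 := by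
    intro x
    obtain ⟨V, hV, hVW, hxV, hVW', c, τ, hg, hD⟩ := h W' x.1 (hW' x.2) x.2
    have h1 : rs 𝒮 (X.basicOpen_le c) (rs 𝒮 hVW' t) = 0 := by
      have hle : X.basicOpen c ≤ D ⊓ W' := by
        rw [← hD]
        exact inf_le_inf_left D hVW'
      rw [rs_rs]
      have h2 := congrArg (rs 𝒮 hle) ht
      rw [rs_rs, map_zero] at h2
      exact h2
    obtain ⟨k, hk⟩ := exists_pow_mul_eq_zero_affine hV c _ h1
    refine ⟨V, hVW', k, hxV, ?_⟩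
    rw [rs_rs, hg, mul_pow, mul_comm _ (τ ^ k), mul_assoc, hk, mul_zero]
  choose V hVW' k hxV hk using hloc
  obtain ⟨T, hT⟩ := hc.elim_finite_subcover (fun x : W' => ((V x : X.Opens) : Set X)) (fun x => (V x).2)
    (fun x hx => Set.mem_iUnion.2 ⟨⟨x, hx⟩, hxV ⟨x, hx⟩⟩)
  refine ⟨T.sup k, ?_⟩
  refine rs_ext 𝒮 (fun x : T => V x.1) W' (fun x => hVW' x.1) ?_ _ _ ?_
  · intro x hx
    have := hT hx
    simp only [Set.mem_iUnion] at this
    obtain ⟨y, hy, hxy⟩ := this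
    exact Opens.mem_iSup.mpr ⟨⟨y, hy⟩, hxy⟩
  · intro x
    rw [map_zero, map_mul, map_pow]
    have hle : k x.1 ≤ T.sup k := Finset.le_sup (f := k) x.2
    obtain ⟨j, hj⟩ := Nat.exists_eq_add_of_le hle
    rw [hj, pow_add, mul_comm (_ ^ k x.1), mul_assoc, hk x.1, mul_zero]

/-- a section over `D(c)` times a power of `c` extends to the affine `V` -/
theorem exists_extension_affine {V : X.Opens} (hV : IsAffineOpen V) (c : Γ(X, V))
    (t : 𝒮.presheaf.obj (op (X.basicOpen c))) :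
    ∃ (N : ℕ) (a : 𝒮.presheaf.obj (op V)),
      rs 𝒮 (X.basicOpen_le c) a = rs 𝒮 (X.basicOpen_le c) ((𝒮.str.app (op V)).hom c) ^ N * t := by
  letI := (𝒮.presheaf.map (homOfLE (X.basicOpen_le c)).op).hom.toAlgebra
  haveI : IsLocalization.Away ((𝒮.str.app (op V)).hom c) (𝒮.presheaf.obj (op (X.basicOpen c))) :=
    𝒮.isQC V hV c
  obtain ⟨⟨a, ⟨_, N, rfl⟩⟩, ha⟩ := IsLocalization.surj
    (Submonoid.powers ((𝒮.str.app (op V)).hom c)) t
  refine ⟨N, a, ?_⟩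
  have ha' : t * rs 𝒮 (X.basicOpen_le c) ((𝒮.str.app (op V)).hom c ^ N) = rs 𝒮 (X.basicOpen_le c) a := ha
  rw [← ha', map_pow, mul_comm]

/-- **surjectivity part**: any section over `D`, multiplied by a power of `g`, extends to `W` -/
theorem exists_extension {W : X.Opens} {g : 𝒮.presheaf.obj (op W)} {D : X.Opens} (hDW : D ≤ W)
    (h : LocStr 𝒮 W g D) (hc : IsCompact (W : Set X))
    (hqs : ∀ V V' : X.Opens, IsAffineOpen V → IsAffineOpen V' → V ≤ W → V' ≤ W →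
      IsCompact ((V ⊓ V' : X.Opens) : Set X))
    (t : 𝒮.presheaf.obj (op D)) :
    ∃ (k : ℕ) (t' : 𝒮.presheaf.obj (op W)), rs 𝒮 hDW t' = rs 𝒮 hDW g ^ k * t := by
  classical
  have hloc : ∀ x : W, ∃ (V : X.Opens) (_ : IsAffineOpen V) (hVW : V ≤ W) (c : Γ(X, V))
      (τ : 𝒮.presheaf.obj (op V)) (hB : X.basicOpen c ≤ D) (N : ℕ) (a : 𝒮.presheaf.obj (op V)),
      x.1 ∈ V ∧ rs 𝒮 hVW g = (𝒮.str.app (op V)).hom c * τ ∧ D ⊓ V = X.basicOpen c ∧
        rs 𝒮 (X.basicOpen_le c) a =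
          rs 𝒮 (X.basicOpen_le c) ((𝒮.str.app (op V)).hom c) ^ N * rs 𝒮 hB t := by
    intro x
    obtain ⟨V, hV, hVW, hxV, -, c, τ, hg, hD⟩ := h ⊤ x.1 x.2 trivial
    have hB : X.basicOpen c ≤ D := by
      rw [← hD]
      exact inf_le_left
    obtain ⟨N, a, ha⟩ := exists_extension_affine hV c (rs 𝒮 hB t)
    exact ⟨V, hV, hVW, c, τ, hB, N, a, hxV, hg, hD, ha⟩
  choose V hV hVW c τ hB N a hxV hg hD ha using hloc
  obtain ⟨T, hT⟩ := hc.elim_finite_subcover (fun x : W => ((V x : X.Opens) : Set X)) (fun x => (V x).2)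
    (fun x hx => Set.mem_iUnion.2 ⟨⟨x, hx⟩, hxV ⟨x, hx⟩⟩)
  have hcov : ∀ z : X, z ∈ W → ∃ x : T, z ∈ V x.1 := by
    intro z hz
    have := hT hz
    simp only [Set.mem_iUnion] at this
    obtain ⟨y, hy, hzy⟩ := this
    exact ⟨⟨y, hy⟩, hzy⟩
  -- uniform exponent
  obtain ⟨N₀, hN₀⟩ : ∃ N₀ : ℕ, ∀ x ∈ T, N x ≤ N₀ := ⟨T.sup N, fun x hx => Finset.le_sup (f := N) hx⟩
  -- the local extensions
  obtain ⟨b, hb0⟩ : ∃ b : ∀ x : W, 𝒮.presheaf.obj (op (V x)),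
      b = fun x => (𝒮.str.app (op (V x))).hom (c x) ^ (N₀ - N x) * a x * τ x ^ N₀ := ⟨_, rfl⟩
  have hb : ∀ x ∈ T, rs 𝒮 (X.basicOpen_le (c x)) (b x) =
      rs 𝒮 ((hB x).trans hDW) g ^ N₀ * rs 𝒮 (hB x) t := by
    intro x hx
    have e1 : rs 𝒮 ((hB x).trans hDW) g =
        rs 𝒮 (X.basicOpen_le (c x)) ((𝒮.str.app (op (V x))).hom (c x)) * rs 𝒮 (X.basicOpen_le (c x)) (τ x) := by
      rw [← map_mul, ← hg x, rs_rs]
    obtain ⟨j, hj⟩ := Nat.exists_eq_add_of_le (hN₀ x hx)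
    rw [hb0, map_mul, map_mul, map_pow, map_pow, ha x, e1, mul_pow]
    have e2 : N₀ - N x = j := by omega
    rw [e2, hj]
    ring
  -- differences on overlaps
  have hdiff : ∀ x ∈ T, ∀ y ∈ T, ∃ k : ℕ,
      rs 𝒮 ((inf_le_left : V x ⊓ V y ≤ V x).trans (hVW x)) g ^ k *
        (rs 𝒮 (inf_le_left : V x ⊓ V y ≤ V x) (b x) - rs 𝒮 (inf_le_right : V x ⊓ V y ≤ V y) (b y)) = 0 := by
    intro x hx y hy
    refine exists_pow_mul_eq_zero h (V x ⊓ V y) ((inf_le_left : V x ⊓ V y ≤ V x).trans (hVW x))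
      (hqs _ _ (hV x) (hV y) (hVW x) (hVW y)) _ ?_
    have hlx : D ⊓ (V x ⊓ V y) ≤ X.basicOpen (c x) := by
      rw [← hD x]
      exact inf_le_inf_left D inf_le_left
    have hly : D ⊓ (V x ⊓ V y) ≤ X.basicOpen (c y) := by
      rw [← hD y]
      exact inf_le_inf_left D inf_le_right
    have h1 : rs 𝒮 (inf_le_right : D ⊓ (V x ⊓ V y) ≤ V x ⊓ V y) (rs 𝒮 (inf_le_left : V x ⊓ V y ≤ V x) (b x)) =
        rs 𝒮 hlx (rs 𝒮 (X.basicOpen_le (c x)) (b x)) := by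
      rw [rs_rs, rs_rs]
    have h2 : rs 𝒮 (inf_le_right : D ⊓ (V x ⊓ V y) ≤ V x ⊓ V y) (rs 𝒮 (inf_le_right : V x ⊓ V y ≤ V y) (b y)) =
        rs 𝒮 hly (rs 𝒮 (X.basicOpen_le (c y)) (b y)) := by
      rw [rs_rs, rs_rs]
    rw [map_sub, h1, h2, hb x hx, hb y hy, map_mul, map_mul, map_pow, map_pow, rs_rs, rs_rs, rs_rs, rs_rs]
    exact sub_self _
  choose! k hk using hdiff
  obtain ⟨K, hK⟩ : ∃ K : ℕ, ∀ x ∈ T, ∀ y ∈ T, k x y ≤ K :=
    ⟨T.sup (fun x => T.sup (k x)), fun x hx y hy =>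
      (Finset.le_sup (f := k x) hy).trans (Finset.le_sup (f := fun x => T.sup (k x)) hx)⟩
  -- glue
  obtain ⟨sf, hsf0⟩ : ∃ sf : ∀ x : T, 𝒮.presheaf.obj (op (V x.1)),
      sf = fun x => rs 𝒮 (hVW x.1) g ^ K * b x.1 := ⟨_, rfl⟩
  have hcompat : TopCat.Presheaf.IsCompatible 𝒮.presheaf (fun x : T => V x.1) sf := by
    intro x y
    change rs 𝒮 (inf_le_left : V x.1 ⊓ V y.1 ≤ V x.1) (sf x) = rs 𝒮 (inf_le_right : V x.1 ⊓ V y.1 ≤ V y.1) (sf y)
    rw [hsf0]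
    dsimp only
    rw [map_mul, map_mul, map_pow, map_pow, rs_rs, rs_rs, ← sub_eq_zero, ← mul_sub]
    obtain ⟨j, hj⟩ := Nat.exists_eq_add_of_le (hK x.1 x.2 y.1 y.2)
    rw [hj, pow_add, mul_comm (_ ^ k x.1 y.1), mul_assoc, hk x.1 x.2 y.1 y.2, mul_zero]
  obtain ⟨t', ht', -⟩ := TopCat.Sheaf.existsUnique_gluing' ⟨𝒮.presheaf, 𝒮.isSheaf⟩ (fun x : T => V x.1) W
    (fun x => homOfLE (hVW x.1)) (fun z hz => by
      obtain ⟨x, hx⟩ := hcov z hz
      exact Opens.mem_iSup.mpr ⟨x, hx⟩) sf hcompat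
  have ht'' : ∀ x : T, rs 𝒮 (hVW x.1) t' = sf x := ht'
  refine ⟨K + N₀, t', ?_⟩
  refine rs_ext 𝒮 (fun x : T => X.basicOpen (c x.1)) D (fun x => hB x.1) ?_ _ _ ?_
  · intro z hz
    obtain ⟨x, hx⟩ := hcov z (hDW hz)
    refine Opens.mem_iSup.mpr ⟨x, ?_⟩
    change z ∈ X.basicOpen (c x.1)
    rw [← hD x.1]
    exact ⟨hz, hx⟩
  · intro x
    have h1 : rs 𝒮 (hB x.1) (rs 𝒮 hDW t') = rs 𝒮 (X.basicOpen_le (c x.1)) (rs 𝒮 (hVW x.1) t') := by
      rw [rs_rs, rs_rs]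
    rw [h1, ht'' x, hsf0]
    dsimp only
    rw [map_mul, map_pow, hb x.1 x.2, map_mul, map_pow, rs_rs, rs_rs, pow_add, mul_assoc]

end Groth.Agent.Lib.T2H4.PowMap
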