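import Mathlib
import Groth.Agent.Lib.T2H4RLBridgeAM
import Groth.Prelude.Def_RelProj

/-!
# The grading of the sections of a quasi-coherent graded algebra over a quasi-compact open (helper4)

For `𝒮 : RelProj.QCGrAlg X` and an open `W` of `X` (not necessarily affine), `locDeg 𝒮 W n` is the group of sections over `W` which are
homogeneous of degree `n` over every affine open inside `W`.  For `W` quasi-compact, `𝒮(W) = ⊕ locDeg 𝒮 W n` as a graded ring.
-/

set_option autoImplicit false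
set_option linter.style.haveILetI false
set_option linter.unusedSectionVars false
universe u
open CategoryTheory CategoryTheory.Limits AlgebraicGeometry TopologicalSpace Opposite

namespace Groth.Agent.Lib.T2H4.PowMap

variable {X : Scheme.{u}} (𝒮 : RelProj.QCGrAlg X)

/-- sections over `W` homogeneous of degree `n` over every affine open inside `W` -/
def locDeg (W : X.Opens) (n : ℕ) : AddSubgroup (𝒮.presheaf.obj (op W)) where
  carrier := {x | ∀ (U : X.Opens) (hU : IsAffineOpen U) (hUW : U ≤ W), rs 𝒮.toQCAlg hUW x ∈ 𝒮.deg U hU n}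
  add_mem' := fun {a b} ha hb U hU hUW => by
    rw [map_add]
    exact add_mem (ha U hU hUW) (hb U hU hUW)
  zero_mem' := fun U hU hUW => by
    rw [map_zero]
    exact zero_mem _
  neg_mem' := fun {a} ha U hU hUW => by
    rw [map_neg]
    exact neg_mem (ha U hU hUW)

theorem mem_locDeg {W : X.Opens} {n : ℕ} {x : 𝒮.presheaf.obj (op W)} :
    x ∈ locDeg 𝒮 W n ↔
      ∀ (U : X.Opens) (hU : IsAffineOpen U) (hUW : U ≤ W), rs 𝒮.toQCAlg hUW x ∈ 𝒮.deg U hU n := Iff.rfl

instance gradedMonoid_locDeg (W : X.Opens) : SetLike.GradedMonoid (locDeg 𝒮 W) where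
  one_mem := fun U hU hUW => by
    rw [map_one]
    exact SetLike.GradedOne.one_mem
  mul_mem := fun {i j a b} ha hb U hU hUW => by
    rw [map_mul]
    exact SetLike.GradedMul.mul_mem (ha U hU hUW) (hb U hU hUW)

theorem rs_mem_locDeg {W W' : X.Opens} (h : W' ≤ W) {n : ℕ} {x : 𝒮.presheaf.obj (op W)}
    (hx : x ∈ locDeg 𝒮 W n) : rs 𝒮.toQCAlg h x ∈ locDeg 𝒮 W' n := by
  intro U hU hUW'
  rw [rs_rs]
  exact hx U hU (hUW'.trans h)

/-- over an affine open, `locDeg` is the given grading -/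
theorem locDeg_eq_deg {U : X.Opens} (hU : IsAffineOpen U) (n : ℕ) : locDeg 𝒮 U n = 𝒮.deg U hU n := by
  ext x
  constructor
  · intro hx
    have := hx U hU le_rfl
    rwa [rs_self] at this
  · intro hx U' hU' hU'U
    exact 𝒮.map_mem hU hU' hU'U hx

section affineCover

variable (W : X.Opens)

/-- the index type of affine opens inside `W` -/
abbrev AffIn : Type u := {U : X.Opens // IsAffineOpen U ∧ U ≤ W}

theorem le_iSup_affIn : W ≤ ⨆ U : AffIn W, U.1 := by
  intro x hx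
  obtain ⟨_, ⟨U, hU, rfl⟩, hxU, hle⟩ := X.isBasis_affineOpens.exists_subset_of_mem_open hx W.2
  exact Opens.mem_iSup.mpr ⟨⟨U, hU, hle⟩, hxU⟩

end affineCover

/-- restriction between affine opens commutes with taking components -/
theorem rs_decompose {U U' : X.Opens} (hU : IsAffineOpen U) (hU' : IsAffineOpen U') (h : U' ≤ U)
    (x : 𝒮.presheaf.obj (op U)) (n : ℕ) :
    rs 𝒮.toQCAlg h ((DirectSum.decompose (𝒮.deg U hU) x n : 𝒮.deg U hU n) : 𝒮.presheaf.obj (op U)) =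
      ((DirectSum.decompose (𝒮.deg U' hU') (rs 𝒮.toQCAlg h x) n : 𝒮.deg U' hU' n) : 𝒮.presheaf.obj (op U')) := by
  classical
  have h1 := GradedRingHom.map_directSumDecompose (𝒮.deg U hU) (𝒮.deg U' hU') (𝒮.res hU hU' h) (x := x) (i := n)
  exact h1

/-- the degree `n` component of a section over an arbitrary open -/
theorem exists_component (W : X.Opens) (x : 𝒮.presheaf.obj (op W)) (n : ℕ) :
    ∃ c : 𝒮.presheaf.obj (op W), ∀ U : AffIn W,
      rs 𝒮.toQCAlg U.2.2 c =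
        ((DirectSum.decompose (𝒮.deg U.1 U.2.1) (rs 𝒮.toQCAlg U.2.2 x) n : 𝒮.deg U.1 U.2.1 n) :
          𝒮.presheaf.obj (op U.1)) := by
  classical
  obtain ⟨d, hd⟩ : ∃ d : ∀ U : AffIn W, 𝒮.presheaf.obj (op U.1), ∀ U : AffIn W, d U =
      ((DirectSum.decompose (𝒮.deg U.1 U.2.1) (rs 𝒮.toQCAlg U.2.2 x) n : 𝒮.deg U.1 U.2.1 n) :
        𝒮.presheaf.obj (op U.1)) := ⟨_, fun _ => rfl⟩
  have hcompat : TopCat.Presheaf.IsCompatible 𝒮.presheaf (fun U : AffIn W => U.1) d := by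
    intro U₁ U₂
    change rs 𝒮.toQCAlg (inf_le_left : U₁.1 ⊓ U₂.1 ≤ U₁.1) (d U₁) =
      rs 𝒮.toQCAlg (inf_le_right : U₁.1 ⊓ U₂.1 ≤ U₂.1) (d U₂)
    refine rs_ext 𝒮.toQCAlg (fun U₃ : AffIn (U₁.1 ⊓ U₂.1) => U₃.1) (U₁.1 ⊓ U₂.1) (fun U₃ => U₃.2.2)
      (le_iSup_affIn _) _ _ (fun U₃ => ?_)
    rw [rs_rs, rs_rs, hd, hd, rs_decompose 𝒮 U₁.2.1 U₃.2.1, rs_decompose 𝒮 U₂.2.1 U₃.2.1, rs_rs, rs_rs]
  obtain ⟨c, hc, -⟩ := TopCat.Sheaf.existsUnique_gluing' ⟨𝒮.presheaf, 𝒮.isSheaf⟩ (fun U : AffIn W => U.1) W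
    (fun U => homOfLE U.2.2) (le_iSup_affIn W) d hcompat
  refine ⟨c, fun U => ?_⟩
  rw [← hd]
  exact hc U

/-- finite decomposition of a section over a quasi-compact open -/
theorem exists_decomposition (W : X.Opens) (hW : IsCompact (W : Set X)) (x : 𝒮.presheaf.obj (op W)) :
    ∃ (N : ℕ) (c : ℕ → 𝒮.presheaf.obj (op W)), (∀ n, c n ∈ locDeg 𝒮 W n) ∧ (∀ n, N ≤ n → c n = 0) ∧
      ∑ n ∈ Finset.range N, c n = x := by
  classical
  choose c hc using exists_component 𝒮 W x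
  have hmem : ∀ n, c n ∈ locDeg 𝒮 W n := by
    intro n U hU hUW
    rw [hc n ⟨U, hU, hUW⟩]
    exact SetLike.coe_mem _
  -- a finite affine cover
  obtain ⟨T, hT⟩ := hW.elim_finite_subcover (fun U : AffIn W => ((U.1 : X.Opens) : Set X)) (fun U => U.1.2)
    (fun y hy => by
      have := le_iSup_affIn W hy
      obtain ⟨U, hU⟩ := Opens.mem_iSup.mp this
      exact Set.mem_iUnion.2 ⟨U, hU⟩)
  obtain ⟨N, hN⟩ : ∃ N : ℕ, ∀ U ∈ T, ∀ n, N ≤ n →
      ((DirectSum.decompose (𝒮.deg U.1 U.2.1) (rs 𝒮.toQCAlg U.2.2 x) n : 𝒮.deg U.1 U.2.1 n) :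
        𝒮.presheaf.obj (op U.1)) = 0 := by
    refine ⟨T.sup (fun U => (DirectSum.decompose (𝒮.deg U.1 U.2.1) (rs 𝒮.toQCAlg U.2.2 x)).support.sup id) + 1,
      fun U hU n hn => ?_⟩
    have h1 : n ∉ (DirectSum.decompose (𝒮.deg U.1 U.2.1) (rs 𝒮.toQCAlg U.2.2 x)).support := by
      intro hmem
      have h2 : n ≤ (DirectSum.decompose (𝒮.deg U.1 U.2.1) (rs 𝒮.toQCAlg U.2.2 x)).support.sup id :=
        Finset.le_sup (f := id) hmem
      have h3 := Finset.le_sup (f := fun U : AffIn W =>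
        (DirectSum.decompose (𝒮.deg U.1 U.2.1) (rs 𝒮.toQCAlg U.2.2 x)).support.sup id) hU
      have h4 : n ≤ T.sup (fun U : AffIn W =>
        (DirectSum.decompose (𝒮.deg U.1 U.2.1) (rs 𝒮.toQCAlg U.2.2 x)).support.sup id) := h2.trans h3
      omega
    rw [DFinsupp.notMem_support_iff] at h1
    rw [h1]
    rfl
  have hzero : ∀ n, N ≤ n → c n = 0 := by
    intro n hn
    refine rs_ext 𝒮.toQCAlg (fun U : T => U.1.1) W (fun U => U.1.2.2) ?_ _ _ (fun U => ?_)
    · intro y hy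
      have := hT hy
      simp only [Set.mem_iUnion] at this
      obtain ⟨U, hU, hyU⟩ := this
      exact Opens.mem_iSup.mpr ⟨⟨U, hU⟩, hyU⟩
    · rw [hc n U.1, map_zero]
      exact hN U.1 U.2 n hn
  refine ⟨N, c, hmem, hzero, ?_⟩
  refine rs_ext 𝒮.toQCAlg (fun U : AffIn W => U.1) W (fun U => U.2.2) (le_iSup_affIn W) _ _ (fun U => ?_)
  rw [map_sum]
  have hsupp : (DirectSum.decompose (𝒮.deg U.1 U.2.1) (rs 𝒮.toQCAlg U.2.2 x)).support ⊆ Finset.range N := by
    intro n hn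
    rw [Finset.mem_range]
    by_contra hge
    push Not at hge
    rw [DFinsupp.mem_support_iff] at hn
    apply hn
    have h1 := hc n U
    rw [hzero n hge, map_zero] at h1
    exact Subtype.ext h1.symm
  have h2 := DirectSum.sum_support_decompose (𝒮.deg U.1 U.2.1) (rs 𝒮.toQCAlg U.2.2 x)
  rw [← h2]
  rw [Finset.sum_subset hsupp]
  · exact Finset.sum_congr rfl (fun n _ => hc n U)
  · intro n _ hn
    rw [DFinsupp.notMem_support_iff] at hn
    rw [hn]
    rfl

/-- restriction to an affine open, on graded pieces -/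
noncomputable def rsDeg {W U : X.Opens} (hU : IsAffineOpen U) (hUW : U ≤ W) (m : ℕ) : locDeg 𝒮 W m →+ 𝒮.deg U hU m :=
  ((rs 𝒮.toQCAlg hUW).toAddMonoidHom.comp (locDeg 𝒮 W m).subtype).codRestrict (𝒮.deg U hU m)
    (fun z => z.2 U hU hUW)

theorem coe_map_rsDeg {W U : X.Opens} (hU : IsAffineOpen U) (hUW : U ≤ W) (y : DirectSum ℕ (fun n => locDeg 𝒮 W n)) :
    DirectSum.coeAddMonoidHom (𝒮.deg U hU) (DirectSum.map (fun m => rsDeg 𝒮 hU hUW m) y) =
      rs 𝒮.toQCAlg hUW (DirectSum.coeAddMonoidHom (locDeg 𝒮 W) y) := by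
  classical
  have key : (DirectSum.coeAddMonoidHom (𝒮.deg U hU)).comp (DirectSum.map (fun m => rsDeg 𝒮 hU hUW m)) =
      (rs 𝒮.toQCAlg hUW).toAddMonoidHom.comp (DirectSum.coeAddMonoidHom (locDeg 𝒮 W)) := by
    refine DirectSum.addHom_ext (fun m z => ?_)
    rw [AddMonoidHom.comp_apply, AddMonoidHom.comp_apply, DirectSum.map_of, DirectSum.coeAddMonoidHom_of,
      DirectSum.coeAddMonoidHom_of]
    rfl
  exact DFunLike.congr_fun key y

/-- **over a quasi-compact open, the sections are the direct sum of the locally homogeneous ones** -/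
theorem isInternal_locDeg (W : X.Opens) (hW : IsCompact (W : Set X)) : DirectSum.IsInternal (locDeg 𝒮 W) := by
  classical
  constructor
  · rw [injective_iff_map_eq_zero]
    intro y hy
    refine DFinsupp.ext (fun n => ?_)
    apply Subtype.ext
    change ((y n : locDeg 𝒮 W n) : 𝒮.presheaf.obj (op W)) = 0
    refine rs_ext 𝒮.toQCAlg (fun U : AffIn W => U.1) W (fun U => U.2.2) (le_iSup_affIn W) _ _ (fun U => ?_)
    rw [map_zero]
    have h1 := coe_map_rsDeg 𝒮 U.2.1 U.2.2 y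
    rw [hy, map_zero] at h1
    have h2 : DirectSum.map (fun m => rsDeg 𝒮 U.2.1 U.2.2 m) y = 0 := by
      apply (DirectSum.Decomposition.isInternal (𝒮.deg U.1 U.2.1)).1
      rw [h1, map_zero]
    have h3 := DFunLike.congr_fun h2 n
    rw [DirectSum.map_apply] at h3
    exact congrArg Subtype.val h3
  · intro x
    obtain ⟨N, c, hmem, -, hsum⟩ := exists_decomposition 𝒮 W hW x
    refine ⟨∑ n ∈ Finset.range N, DirectSum.of (fun n => locDeg 𝒮 W n) n ⟨c n, hmem n⟩, ?_⟩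
    rw [map_sum]
    simp_rw [DirectSum.coeAddMonoidHom_of]
    exact hsum

/-- the graded ring structure on the sections over a quasi-compact open -/
@[instance_reducible]
noncomputable def gradedRingLocDeg (W : X.Opens) (hW : IsCompact (W : Set X)) : GradedRing (locDeg 𝒮 W) :=
  { gradedMonoid_locDeg 𝒮 W with
    toDecomposition := (isInternal_locDeg 𝒮 W hW).chooseDecomposition }

end Groth.Agent.Lib.T2H4.PowMap
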