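import Mathlib
import Groth.Agent.Lib.T2H4RLBridgeAZ
import Groth.Prelude.Def_RelProj4

/-!
# The direct image of a quasi-coherent graded algebra along a quasi-compact quasi-separated morphism (helper4)

* `IsQcqsOver f` : preimages of affine opens are quasi-compact, with quasi-compact intersections of affine opens
* `pushAlg f 𝒮 h : RelSpec.QCAlg Y`, `pushGr f 𝒮 h : RelProj.QCGrAlg Y`, `pushHom f 𝒮 h : RelProj.QGrHom f (pushGr f 𝒮 h) 𝒮`
-/

set_option autoImplicit false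
set_option linter.style.haveILetI false
set_option linter.unusedSectionVars false
universe u
open CategoryTheory CategoryTheory.Limits AlgebraicGeometry TopologicalSpace Opposite

namespace Groth.Agent.Lib.T2H4.PowMap

variable {X Y : Scheme.{u}} (f : X ⟶ Y)

/-- `f` is quasi-compact and quasi-separated, in the form used here -/
structure IsQcqsOver : Prop where
  isCompact : ∀ U : Y.Opens, IsAffineOpen U → IsCompact ((f ⁻¹ᵁ U : X.Opens) : Set X)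
  isCompact_inf : ∀ U : Y.Opens, IsAffineOpen U → ∀ V V' : X.Opens, IsAffineOpen V → IsAffineOpen V' →
    V ≤ f ⁻¹ᵁ U → V' ≤ f ⁻¹ᵁ U → IsCompact ((V ⊓ V' : X.Opens) : Set X)

section alg

variable (𝒮 : RelSpec.QCAlg X)

/-- the structure map of the direct image -/
noncomputable def pushStr : Y.presheaf ⟶ f.base _* 𝒮.presheaf :=
  f.c ≫ (TopCat.Presheaf.pushforward CommRingCat.{u} f.base).map 𝒮.str

theorem pushStr_app (U : Y.Opens) (a : Γ(Y, U)) :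
    ((pushStr f 𝒮).app (op U)).hom a = (𝒮.str.app (op (f ⁻¹ᵁ U))).hom ((f.app U).hom a) := rfl

theorem locStr_push (U : Y.Opens) (r : Γ(Y, U)) :
    LocStr 𝒮 (f ⁻¹ᵁ U) ((𝒮.str.app (op (f ⁻¹ᵁ U))).hom ((f.app U).hom r)) (f ⁻¹ᵁ Y.basicOpen r) := by
  intro O x hxW hxO
  obtain ⟨_, ⟨V, hV, rfl⟩, hxV, hVle⟩ := X.isBasis_affineOpens.exists_subset_of_mem_open
    (show x ∈ ((f ⁻¹ᵁ U ⊓ O : X.Opens) : Set X) from ⟨hxW, hxO⟩) (f ⁻¹ᵁ U ⊓ O).2
  have hVW : V ≤ f ⁻¹ᵁ U := fun y hy => (hVle hy).1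
  refine ⟨V, hV, hVW, hxV, fun y hy => (hVle hy).2,
    (X.presheaf.map (homOfLE hVW).op).hom ((f.app U).hom r), 1, ?_, ?_⟩
  · rw [mul_one, rs_str]
  · rw [Scheme.preimage_basicOpen, Scheme.basicOpen_res, inf_comm]

theorem isQC_push (h : IsQcqsOver f) : RelSpec.IsQC (f.base _* 𝒮.presheaf) (pushStr f 𝒮) := by
  intro U hU r
  letI := ((f.base _* 𝒮.presheaf).map (homOfLE (Y.basicOpen_le r)).op).hom.toAlgebra
  have hDW : f ⁻¹ᵁ Y.basicOpen r ≤ f ⁻¹ᵁ U := f.preimage_mono (Y.basicOpen_le r)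
  have halg : ∀ t : 𝒮.presheaf.obj (op (f ⁻¹ᵁ U)),
      algebraMap ((f.base _* 𝒮.presheaf).obj (op U)) ((f.base _* 𝒮.presheaf).obj (op (Y.basicOpen r))) t =
        rs 𝒮 hDW t := fun t => rfl
  have hloc := locStr_push f 𝒮 U r
  refine (isLocalization_iff _ _).mpr ⟨?_, ?_, ?_⟩
  · rintro ⟨_, k, rfl⟩
    rw [map_pow]
    apply IsUnit.pow
    have h1 : algebraMap ((f.base _* 𝒮.presheaf).obj (op U)) ((f.base _* 𝒮.presheaf).obj (op (Y.basicOpen r)))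
        (((pushStr f 𝒮).app (op U)).hom r) =
        ((pushStr f 𝒮).app (op (Y.basicOpen r))).hom ((Y.presheaf.map (homOfLE (Y.basicOpen_le r)).op).hom r) :=
      (congr_arg (fun t => t.hom r) ((pushStr f 𝒮).naturality (homOfLE (Y.basicOpen_le r)).op)).symm
    rw [h1]
    exact (RingedSpace.isUnit_res_basicOpen _ r).map _
  · intro z
    obtain ⟨z', hz'⟩ : ∃ z' : 𝒮.presheaf.obj (op (f ⁻¹ᵁ Y.basicOpen r)), z' = z := ⟨z, rfl⟩
    subst hz'
    obtain ⟨k, t', ht'⟩ := exists_extension hDW hloc (h.isCompact U hU)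
      (fun V V' hV hV' hVW hV'W => h.isCompact_inf U hU V V' hV hV' hVW hV'W) z'
    refine ⟨(t', ⟨_, k, rfl⟩), ?_⟩
    change z' * rs 𝒮 hDW ((((pushStr f 𝒮).app (op U)).hom r) ^ k) = rs 𝒮 hDW t'
    rw [ht', map_pow, mul_comm]
    rfl
  · intro x y hxy
    rw [halg, halg] at hxy
    have h0 : rs 𝒮 (inf_le_right : f ⁻¹ᵁ Y.basicOpen r ⊓ f ⁻¹ᵁ U ≤ f ⁻¹ᵁ U) (x - y) = 0 := by
      have h1 : rs 𝒮 hDW (x - y) = 0 := by rw [map_sub, hxy, sub_self]
      have h2 := rs_rs 𝒮 hDW (inf_le_left : f ⁻¹ᵁ Y.basicOpen r ⊓ f ⁻¹ᵁ U ≤ f ⁻¹ᵁ Y.basicOpen r) (x - y)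
      rw [h1, map_zero] at h2
      exact h2.symm
    obtain ⟨k, hk⟩ := exists_pow_mul_eq_zero hloc (f ⁻¹ᵁ U) le_rfl (h.isCompact U hU) (x - y) h0
    rw [rs_self] at hk
    refine ⟨⟨_, k, rfl⟩, ?_⟩
    change (((pushStr f 𝒮).app (op U)).hom r) ^ k * x = (((pushStr f 𝒮).app (op U)).hom r) ^ k * y
    rw [← sub_eq_zero, ← mul_sub]
    exact hk

/-- the direct image of a quasi-coherent algebra along a quasi-compact quasi-separated morphism -/
noncomputable def pushAlg (h : IsQcqsOver f) : RelSpec.QCAlg Y where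
  presheaf := f.base _* 𝒮.presheaf
  isSheaf := TopCat.Sheaf.pushforward_sheaf_of_sheaf f.base 𝒮.isSheaf
  str := pushStr f 𝒮
  isQC := isQC_push f 𝒮 h

end alg

section graded

variable (𝒮 : RelProj.QCGrAlg X) (h : IsQcqsOver f)

/-- the direct image of a quasi-coherent graded algebra -/
noncomputable def pushGr : RelProj.QCGrAlg Y where
  toQCAlg := pushAlg f 𝒮.toQCAlg h
  deg U _ n := locDeg 𝒮 (f ⁻¹ᵁ U) n
  graded U hU := gradedRingLocDeg 𝒮 (f ⁻¹ᵁ U) (h.isCompact U hU)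
  map_mem := fun {_ _} _ _ i {_ _} hx => rs_mem_locDeg 𝒮 (f.preimage_mono i) hx
  str_mem U _ r := by
    intro U' hU' hU'W
    change rs 𝒮.toQCAlg hU'W ((𝒮.str.app (op (f ⁻¹ᵁ U))).hom ((f.app U).hom r)) ∈ 𝒮.deg U' hU' 0
    rw [rs_str]
    exact 𝒮.str_mem U' hU' _

theorem mem_deg_pushGr {U : Y.Opens} (hU : IsAffineOpen U) (n : ℕ) (x : 𝒮.presheaf.obj (op (f ⁻¹ᵁ U))) :
    x ∈ (pushGr f 𝒮 h).deg U hU n ↔ x ∈ locDeg 𝒮 (f ⁻¹ᵁ U) n := Iff.rfl

/-- the canonical `f`-morphism `f_* 𝒮 → 𝒮` -/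
noncomputable def pushHom : RelProj.QGrHom f (pushGr f 𝒮 h) 𝒮 where
  app U := CommRingCat.ofHom (RingHom.id (𝒮.presheaf.obj (op (f ⁻¹ᵁ U))))
  naturality _ := CommRingCat.hom_ext (RingHom.ext fun _ => rfl)
  str_app _ := CommRingCat.hom_ext (RingHom.ext fun _ => rfl)
  map_mem := fun _ _ U' hU' hle {_ _} hx => hx U' hU' hle

theorem pushHom_app (U : Y.Opens) (x : 𝒮.presheaf.obj (op (f ⁻¹ᵁ U))) :
    ((pushHom f 𝒮 h).app U).hom x = x := rfl

theorem pushHom_bijective (U : Y.Opens) : Function.Bijective ((pushHom f 𝒮 h).app U).hom :=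
  Function.bijective_id

end graded

end Groth.Agent.Lib.T2H4.PowMap
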