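import Mathlib
import Groth.Agent.Lib.T2H4RLBridgeBA
import Groth.Agent.Lib.Helper27Cone

/-!
# The algebra `𝒮' = O_Y ×_{p_* O_X} p_* 𝒜` of an augmented quasi-coherent algebra `𝒜` on `X` over `p : X ⟶ Y` (helper4)

For `p : X ⟶ Y` quasi-compact and quasi-separated, `𝒜` a quasi-coherent `O_X`-algebra with an augmentation `aug : 𝒜 ⟶ O_X`:

* `fibAlg p 𝒜 aug h : RelSpec.QCAlg Y` : sections over `U` are the pairs `(a, s)`, `a ∈ O_Y(U)`, `s ∈ 𝒜(p⁻¹U)`, `aug s = p^♯ a`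
* `fibAug : fibAlg ⟶ O_Y` (first projection), `fibHom : RelSpec.QHom p fibAlg 𝒜` (second projection)
* `mkFib`, `fibHom_app_mk`, `exists_mkFib_of_aug_eq_zero`
-/

set_option autoImplicit false
set_option linter.style.haveILetI false
set_option linter.unusedSectionVars false
universe u
open CategoryTheory CategoryTheory.Limits AlgebraicGeometry TopologicalSpace Opposite

namespace Groth.Agent.Lib.T2H4.Grauert
open Groth.Agent.Lib.T2H4.PowMap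

noncomputable section

variable {X Y : Scheme.{u}} (p : X ⟶ Y) (𝒜 : RelSpec.QCAlg X) (aug : 𝒜 ⟶ RelSpec.QCAlg.unit X)

/-- the augmentation on sections -/
def augR (W : X.Opens) : 𝒜.presheaf.obj (op W) →+* Γ(X, W) := (aug.hom.app (op W)).hom

theorem augR_rs {W W' : X.Opens} (h : W' ≤ W) (s : 𝒜.presheaf.obj (op W)) :
    augR 𝒜 aug W' (rs 𝒜 h s) = (X.presheaf.map (homOfLE h).op).hom (augR 𝒜 aug W s) := by
  have := aug.hom.naturality (homOfLE h).op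
  exact congr($(this).hom s)

theorem augR_str (W : X.Opens) (r : Γ(X, W)) : augR 𝒜 aug W ((𝒜.str.app (op W)).hom r) = r :=
  Groth.Agent.Lib.Helper27Cone.aug_str 𝒜 aug W r

/-- restriction of functions on `Y` -/
abbrev rsY {U V : Y.Opens} (h : V ≤ U) : Γ(Y, U) →+* Γ(Y, V) := (Y.presheaf.map (homOfLE h).op).hom

theorem app_rsY {U V : Y.Opens} (h : V ≤ U) (a : Γ(Y, U)) :
    (p.app V).hom (rsY h a) = (X.presheaf.map (homOfLE (p.preimage_mono h)).op).hom ((p.app U).hom a) := by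
  have := p.naturality (homOfLE h).op
  exact congr($(this).hom a)

/-- the subring of compatible pairs -/
def pairSub (U : Y.Opens) : Subring (Γ(Y, U) × 𝒜.presheaf.obj (op (p ⁻¹ᵁ U))) :=
  RingHom.eqLocus ((p.app U).hom.comp (RingHom.fst _ _)) ((augR 𝒜 aug (p ⁻¹ᵁ U)).comp (RingHom.snd _ _))

theorem mem_pairSub {U : Y.Opens} (x : Γ(Y, U) × 𝒜.presheaf.obj (op (p ⁻¹ᵁ U))) :
    x ∈ pairSub p 𝒜 aug U ↔ (p.app U).hom x.1 = augR 𝒜 aug (p ⁻¹ᵁ U) x.2 := Iff.rfl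

/-- restriction of pairs -/
def resPair {U V : Y.Opens} (h : V ≤ U) : pairSub p 𝒜 aug U →+* pairSub p 𝒜 aug V :=
  (((rsY h).comp (RingHom.fst _ _)).prod ((rs 𝒜 (p.preimage_mono h)).comp (RingHom.snd _ _))).comp
      (pairSub p 𝒜 aug U).subtype |>.codRestrict (pairSub p 𝒜 aug V) (fun x => by
    rw [mem_pairSub]
    change (p.app V).hom (rsY h x.1.1) = augR 𝒜 aug (p ⁻¹ᵁ V) (rs 𝒜 (p.preimage_mono h) x.1.2)
    rw [app_rsY, augR_rs, ← (mem_pairSub p 𝒜 aug x.1).mp x.2])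

@[simp] theorem resPair_fst {U V : Y.Opens} (h : V ≤ U) (x : pairSub p 𝒜 aug U) :
    (resPair p 𝒜 aug h x).1.1 = rsY h x.1.1 := rfl

@[simp] theorem resPair_snd {U V : Y.Opens} (h : V ≤ U) (x : pairSub p 𝒜 aug U) :
    (resPair p 𝒜 aug h x).1.2 = rs 𝒜 (p.preimage_mono h) x.1.2 := rfl

theorem pair_ext {U : Y.Opens} {x y : pairSub p 𝒜 aug U} (h1 : x.1.1 = y.1.1) (h2 : x.1.2 = y.1.2) : x = y :=
  Subtype.ext (Prod.ext h1 h2)

/-- the presheaf of compatible pairs -/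
def P : TopCat.Presheaf CommRingCat.{u} Y.carrier where
  obj V := CommRingCat.of (pairSub p 𝒜 aug V.unop)
  map {U V} i := CommRingCat.ofHom (resPair p 𝒜 aug i.unop.le)
  map_id U := by
    refine CommRingCat.hom_ext (RingHom.ext fun s => pair_ext p 𝒜 aug ?_ ?_)
    · change (Y.presheaf.map (𝟙 _)).hom s.1.1 = s.1.1
      rw [Y.presheaf.map_id]; rfl
    · exact rs_self 𝒜 s.1.2
  map_comp {U V W} i k := by
    refine CommRingCat.hom_ext (RingHom.ext fun s => pair_ext p 𝒜 aug ?_ ?_)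
    · change (Y.presheaf.map _).hom s.1.1 = (Y.presheaf.map _).hom ((Y.presheaf.map _).hom s.1.1)
      rw [← CommRingCat.comp_apply, ← Functor.map_comp]; rfl
    · exact (rs_rs 𝒜 _ _ s.1.2).symm

theorem P_map_fst {U V : Y.Opens} (h : V ≤ U) (x : pairSub p 𝒜 aug U) :
    (((P p 𝒜 aug).map (homOfLE h).op).hom x).1.1 = rsY h x.1.1 := rfl

theorem P_map_snd {U V : Y.Opens} (h : V ≤ U) (x : pairSub p 𝒜 aug U) :
    (((P p 𝒜 aug).map (homOfLE h).op).hom x).1.2 = rs 𝒜 (p.preimage_mono h) x.1.2 := rfl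

theorem isSheaf_P : TopCat.Presheaf.IsSheaf (P p 𝒜 aug) := by
  rw [TopCat.Presheaf.isSheaf_iff_isSheafUniqueGluing]
  intro ι W sf hsf
  -- glue the first components
  have hc1 : TopCat.Presheaf.IsCompatible Y.presheaf W (fun i => (sf i).1.1) := by
    intro i k
    exact congrArg (fun z => z.1.1) (hsf i k)
  obtain ⟨a, ha, ha'⟩ := TopCat.Sheaf.existsUnique_gluing Y.sheaf W (fun i => (sf i).1.1) hc1
  -- glue the second components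
  obtain ⟨G, hG⟩ : ∃ G : TopCat.Sheaf CommRingCat.{u} Y.carrier,
      G = ⟨p.base _* 𝒜.presheaf, TopCat.Sheaf.pushforward_sheaf_of_sheaf p.base 𝒜.isSheaf⟩ := ⟨_, rfl⟩
  have hc2 : TopCat.Presheaf.IsCompatible (p.base _* 𝒜.presheaf) W (fun i => (sf i).1.2) := by
    intro i k
    exact congrArg (fun z => z.1.2) (hsf i k)
  obtain ⟨s, hs, hs'⟩ := TopCat.Sheaf.existsUnique_gluing
    ⟨p.base _* 𝒜.presheaf, TopCat.Sheaf.pushforward_sheaf_of_sheaf p.base 𝒜.isSheaf⟩ W (fun i => (sf i).1.2) hc2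
  have hmem : ((a, s) : Γ(Y, iSup W) × 𝒜.presheaf.obj (op (p ⁻¹ᵁ iSup W))) ∈ pairSub p 𝒜 aug (iSup W) := by
    rw [mem_pairSub]
    refine TopCat.Sheaf.eq_of_locally_eq
      ⟨p.base _* X.presheaf, TopCat.Sheaf.pushforward_sheaf_of_sheaf p.base X.sheaf.property⟩ W _ _ (fun i => ?_)
    change (X.presheaf.map (homOfLE (p.preimage_mono (le_iSup W i))).op).hom ((p.app (iSup W)).hom a) =
      (X.presheaf.map (homOfLE (p.preimage_mono (le_iSup W i))).op).hom (augR 𝒜 aug (p ⁻¹ᵁ iSup W) s)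
    rw [← app_rsY p (le_iSup W i), ← augR_rs 𝒜 aug (p.preimage_mono (le_iSup W i))]
    have h1 : rsY (le_iSup W i) a = (sf i).1.1 := ha i
    have h2 : rs 𝒜 (p.preimage_mono (le_iSup W i)) s = (sf i).1.2 := hs i
    rw [h1, h2]
    exact (mem_pairSub p 𝒜 aug (sf i).1).mp (sf i).2
  refine ⟨⟨(a, s), hmem⟩, fun i => pair_ext p 𝒜 aug (ha i) (hs i), fun t ht => pair_ext p 𝒜 aug ?_ ?_⟩
  · exact ha' t.1.1 fun i => congrArg (fun z => z.1.1) (ht i)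
  · exact hs' t.1.2 fun i => congrArg (fun z => z.1.2) (ht i)

/-- the structure map -/
def strP : Y.presheaf ⟶ P p 𝒜 aug where
  app V := CommRingCat.ofHom (((RingHom.id _).prod
      ((𝒜.str.app (op (p ⁻¹ᵁ V.unop))).hom.comp (p.app V.unop).hom)).codRestrict (pairSub p 𝒜 aug V.unop)
    (fun r => by
      rw [mem_pairSub]
      exact (augR_str 𝒜 aug _ _).symm))
  naturality {U V} i := by
    refine CommRingCat.hom_ext (RingHom.ext fun r => pair_ext p 𝒜 aug rfl ?_)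
    change (𝒜.str.app (op (p ⁻¹ᵁ V.unop))).hom ((p.app V.unop).hom ((Y.presheaf.map i).hom r)) =
      rs 𝒜 (p.preimage_mono i.unop.le) ((𝒜.str.app (op (p ⁻¹ᵁ U.unop))).hom ((p.app U.unop).hom r))
    rw [rs_str]
    congr 1
    exact app_rsY p i.unop.le r

theorem strP_fst (U : Y.Opens) (r : Γ(Y, U)) : (((strP p 𝒜 aug).app (op U)).hom r).1.1 = r := rfl

theorem strP_snd (U : Y.Opens) (r : Γ(Y, U)) :
    (((strP p 𝒜 aug).app (op U)).hom r).1.2 = (𝒜.str.app (op (p ⁻¹ᵁ U))).hom ((p.app U).hom r) := rfl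

/-- a function on `Y` restricted to its basic open is a unit -/
theorem isUnit_rsY_basicOpen {U : Y.Opens} (r : Γ(Y, U)) : IsUnit (rsY (Y.basicOpen_le r) r) :=
  RingedSpace.isUnit_res_basicOpen _ r

/-- the structure map `O_Y(U) → 𝒜(p⁻¹U)` -/
def strA (U : Y.Opens) : Γ(Y, U) →+* 𝒜.presheaf.obj (op (p ⁻¹ᵁ U)) :=
  (𝒜.str.app (op (p ⁻¹ᵁ U))).hom.comp (p.app U).hom

theorem augR_strA (U : Y.Opens) (r : Γ(Y, U)) : augR 𝒜 aug (p ⁻¹ᵁ U) (strA p 𝒜 U r) = (p.app U).hom r :=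
  augR_str 𝒜 aug _ _

theorem rs_strA {U V : Y.Opens} (h : V ≤ U) (r : Γ(Y, U)) :
    rs 𝒜 (p.preimage_mono h) (strA p 𝒜 U r) = strA p 𝒜 V (rsY h r) := by
  change rs 𝒜 (p.preimage_mono h) ((𝒜.str.app (op (p ⁻¹ᵁ U))).hom ((p.app U).hom r)) =
    (𝒜.str.app (op (p ⁻¹ᵁ V))).hom ((p.app V).hom (rsY h r))
  rw [rs_str, app_rsY]

theorem exists_ext_Y {U : Y.Opens} (hU : IsAffineOpen U) (r : Γ(Y, U)) (t : Γ(Y, Y.basicOpen r)) :
    ∃ (N : ℕ) (a : Γ(Y, U)), rsY (Y.basicOpen_le r) a = rsY (Y.basicOpen_le r) r ^ N * t :=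
  exists_extension_affine (𝒮 := RelSpec.QCAlg.unit Y) hU r t

theorem exists_ext_A (h : IsQcqsOver p) {U : Y.Opens} (hU : IsAffineOpen U) (r : Γ(Y, U))
    (t : 𝒜.presheaf.obj (op (p ⁻¹ᵁ Y.basicOpen r))) :
    ∃ (N : ℕ) (s : 𝒜.presheaf.obj (op (p ⁻¹ᵁ U))),
      rs 𝒜 (p.preimage_mono (Y.basicOpen_le r)) s =
        rs 𝒜 (p.preimage_mono (Y.basicOpen_le r)) (strA p 𝒜 U r) ^ N * t :=
  exists_extension_affine (𝒮 := pushAlg p 𝒜 h) hU r t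

theorem exists_kill_Y {U : Y.Opens} (hU : IsAffineOpen U) (r : Γ(Y, U)) (a : Γ(Y, U))
    (ha : rsY (Y.basicOpen_le r) a = 0) : ∃ k : ℕ, r ^ k * a = 0 :=
  exists_pow_mul_eq_zero_affine (𝒮 := RelSpec.QCAlg.unit Y) hU r a ha

theorem exists_kill_A (h : IsQcqsOver p) {U : Y.Opens} (hU : IsAffineOpen U) (r : Γ(Y, U))
    (s : 𝒜.presheaf.obj (op (p ⁻¹ᵁ U))) (hs : rs 𝒜 (p.preimage_mono (Y.basicOpen_le r)) s = 0) :
    ∃ k : ℕ, strA p 𝒜 U r ^ k * s = 0 :=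
  exists_pow_mul_eq_zero_affine (𝒮 := pushAlg p 𝒜 h) hU r s hs

theorem exists_kill_X (h : IsQcqsOver p) {U : Y.Opens} (hU : IsAffineOpen U) (r : Γ(Y, U))
    (d : Γ(X, p ⁻¹ᵁ U)) (hd : (X.presheaf.map (homOfLE (p.preimage_mono (Y.basicOpen_le r))).op).hom d = 0) :
    ∃ k : ℕ, (p.app U).hom r ^ k * d = 0 :=
  exists_pow_mul_eq_zero_affine (𝒮 := pushAlg p (RelSpec.QCAlg.unit X) h) hU r d hd

theorem isQC_P (h : IsQcqsOver p) : RelSpec.IsQC (P p 𝒜 aug) (strP p 𝒜 aug) := by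
  intro U hU r
  letI := ((P p 𝒜 aug).map (homOfLE (Y.basicOpen_le r)).op).hom.toAlgebra
  have hDU : Y.basicOpen r ≤ U := Y.basicOpen_le r
  have halg : ∀ t : pairSub p 𝒜 aug U,
      algebraMap ((P p 𝒜 aug).obj (op U)) ((P p 𝒜 aug).obj (op (Y.basicOpen r))) t =
        resPair p 𝒜 aug hDU t := fun t => rfl
  obtain ⟨ρ, hρ⟩ : ∃ ρ : pairSub p 𝒜 aug U, ρ = ((strP p 𝒜 aug).app (op U)).hom r := ⟨_, rfl⟩
  have hρ1 : ρ.1.1 = r := by rw [hρ]; rfl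
  have hρ2 : ρ.1.2 = strA p 𝒜 U r := by rw [hρ]; rfl
  have hpow1 : ∀ n : ℕ, (ρ ^ n).1.1 = r ^ n := by
    intro n
    change ((ρ ^ n : pairSub p 𝒜 aug U) : Γ(Y, U) × 𝒜.presheaf.obj (op (p ⁻¹ᵁ U))).1 = r ^ n
    rw [Subring.coe_pow, Prod.pow_fst, hρ1]
  have hpow2 : ∀ n : ℕ, (ρ ^ n).1.2 = strA p 𝒜 U r ^ n := by
    intro n
    change ((ρ ^ n : pairSub p 𝒜 aug U) : Γ(Y, U) × 𝒜.presheaf.obj (op (p ⁻¹ᵁ U))).2 = _
    rw [Subring.coe_pow, Prod.pow_snd, hρ2]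
  rw [← hρ]
  refine IsLocalization.Away.mk _ ?_ ?_ ?_
  · have h2 := (isUnit_rsY_basicOpen r).map ((strP p 𝒜 aug).app (op (Y.basicOpen r))).hom
    convert h2 using 1
    rw [hρ]
    have := (strP p 𝒜 aug).naturality (homOfLE hDU).op
    exact congr($(this).hom r).symm
  · intro z
    obtain ⟨z', hz'⟩ : ∃ z' : pairSub p 𝒜 aug (Y.basicOpen r), z' = z := ⟨z, rfl⟩
    obtain ⟨n₁, a, ha⟩ := exists_ext_Y hU r z'.1.1
    obtain ⟨n₂, s, hs⟩ := exists_ext_A p 𝒜 h hU r z'.1.2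
    -- common exponent
    obtain ⟨a', ha'⟩ : ∃ a' : Γ(Y, U), rsY hDU a' = rsY hDU r ^ (n₁ + n₂) * z'.1.1 := by
      refine ⟨r ^ n₂ * a, ?_⟩
      rw [map_mul, map_pow, ha, pow_add]
      ring
    obtain ⟨s', hs'⟩ : ∃ s' : 𝒜.presheaf.obj (op (p ⁻¹ᵁ U)), rs 𝒜 (p.preimage_mono hDU) s' =
        rs 𝒜 (p.preimage_mono hDU) (strA p 𝒜 U r) ^ (n₁ + n₂) * z'.1.2 := by
      refine ⟨strA p 𝒜 U r ^ n₁ * s, ?_⟩
      rw [map_mul, map_pow, hs, pow_add]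
      ring
    -- the defect
    obtain ⟨d, hd⟩ : ∃ d : Γ(X, p ⁻¹ᵁ U), d = (p.app U).hom a' - augR 𝒜 aug (p ⁻¹ᵁ U) s' := ⟨_, rfl⟩
    have hd0 : (X.presheaf.map (homOfLE (p.preimage_mono hDU)).op).hom d = 0 := by
      rw [hd, map_sub, ← app_rsY p hDU, ← augR_rs 𝒜 aug (p.preimage_mono hDU), ha', hs', map_mul, map_mul,
        map_pow, map_pow, ← (mem_pairSub p 𝒜 aug z'.1).mp z'.2, sub_eq_zero, rs_strA, augR_strA]
    obtain ⟨k, hk⟩ := exists_kill_X p h hU r d hd0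
    have hmem : ((r ^ k * a', strA p 𝒜 U r ^ k * s') :
        Γ(Y, U) × 𝒜.presheaf.obj (op (p ⁻¹ᵁ U))) ∈ pairSub p 𝒜 aug U := by
      rw [mem_pairSub]
      change (p.app U).hom (r ^ k * a') = augR 𝒜 aug (p ⁻¹ᵁ U) (strA p 𝒜 U r ^ k * s')
      rw [map_mul, map_mul, map_pow, map_pow, augR_strA, ← sub_eq_zero, ← mul_sub, ← hd]
      exact hk
    refine ⟨n₁ + n₂ + k, ⟨_, hmem⟩, ?_⟩
    rw [← hz']
    refine pair_ext p 𝒜 aug ?_ ?_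
    · change z'.1.1 * ((resPair p 𝒜 aug hDU ρ) ^ (n₁ + n₂ + k)).1.1 = rsY hDU (r ^ k * a')
      rw [← map_pow, resPair_fst, hpow1, map_mul, ha', map_pow, map_pow, pow_add]
      ring
    · change z'.1.2 * ((resPair p 𝒜 aug hDU ρ) ^ (n₁ + n₂ + k)).1.2 =
        rs 𝒜 (p.preimage_mono hDU) (strA p 𝒜 U r ^ k * s')
      rw [← map_pow, resPair_snd, hpow2, map_mul, hs', map_pow, map_pow, pow_add]
      ring
  · intro x y hxy
    obtain ⟨x', hx'⟩ : ∃ x' : pairSub p 𝒜 aug U, x' = x := ⟨x, rfl⟩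
    obtain ⟨y', hy'⟩ : ∃ y' : pairSub p 𝒜 aug U, y' = y := ⟨y, rfl⟩
    rw [← hx', ← hy', halg, halg] at hxy
    have h1 : rsY hDU (x'.1.1 - y'.1.1) = 0 := by
      rw [map_sub, sub_eq_zero]
      exact congrArg (fun z => z.1.1) hxy
    have h2 : rs 𝒜 (p.preimage_mono hDU) (x'.1.2 - y'.1.2) = 0 := by
      rw [map_sub, sub_eq_zero]
      exact congrArg (fun z => z.1.2) hxy
    obtain ⟨k₁, hk₁⟩ := exists_kill_Y hU r _ h1
    obtain ⟨k₂, hk₂⟩ := exists_kill_A p 𝒜 h hU r _ h2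
    refine ⟨k₁ + k₂, ?_⟩
    rw [← hx', ← hy']
    refine pair_ext p 𝒜 aug ?_ ?_
    · change (ρ ^ (k₁ + k₂)).1.1 * x'.1.1 = (ρ ^ (k₁ + k₂)).1.1 * y'.1.1
      rw [hpow1, ← sub_eq_zero, ← mul_sub, pow_add, mul_comm (r ^ k₁), mul_assoc, hk₁, mul_zero]
    · change (ρ ^ (k₁ + k₂)).1.2 * x'.1.2 = (ρ ^ (k₁ + k₂)).1.2 * y'.1.2
      rw [hpow2, ← sub_eq_zero, ← mul_sub, pow_add, mul_assoc, hk₂, mul_zero]

/-- the algebra `𝒮' = O_Y ×_{p_* O_X} p_* 𝒜` -/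
def fibAlg (h : IsQcqsOver p) : RelSpec.QCAlg Y where
  presheaf := P p 𝒜 aug
  isSheaf := isSheaf_P p 𝒜 aug
  str := strP p 𝒜 aug
  isQC := isQC_P p 𝒜 aug h

variable (h : IsQcqsOver p)

/-- a section of `𝒮'` from a compatible pair -/
def mkFib (U : Y.Opens) (a : Γ(Y, U)) (s : 𝒜.presheaf.obj (op (p ⁻¹ᵁ U)))
    (hs : (p.app U).hom a = augR 𝒜 aug (p ⁻¹ᵁ U) s) : (fibAlg p 𝒜 aug h).presheaf.obj (op U) :=
  (⟨(a, s), hs⟩ : pairSub p 𝒜 aug U)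

/-- the first component -/
def fibFst (U : Y.Opens) : (fibAlg p 𝒜 aug h).presheaf.obj (op U) →+* Γ(Y, U) :=
  (RingHom.fst _ _).comp (pairSub p 𝒜 aug U).subtype

/-- the second component -/
def fibSnd (U : Y.Opens) : (fibAlg p 𝒜 aug h).presheaf.obj (op U) →+* 𝒜.presheaf.obj (op (p ⁻¹ᵁ U)) :=
  (RingHom.snd _ _).comp (pairSub p 𝒜 aug U).subtype

@[simp] theorem fibFst_mkFib (U : Y.Opens) (a : Γ(Y, U)) (s : 𝒜.presheaf.obj (op (p ⁻¹ᵁ U)))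
    (hs : (p.app U).hom a = augR 𝒜 aug (p ⁻¹ᵁ U) s) : fibFst p 𝒜 aug h U (mkFib p 𝒜 aug h U a s hs) = a := rfl

@[simp] theorem fibSnd_mkFib (U : Y.Opens) (a : Γ(Y, U)) (s : 𝒜.presheaf.obj (op (p ⁻¹ᵁ U)))
    (hs : (p.app U).hom a = augR 𝒜 aug (p ⁻¹ᵁ U) s) : fibSnd p 𝒜 aug h U (mkFib p 𝒜 aug h U a s hs) = s := rfl

theorem fib_compat (U : Y.Opens) (x : (fibAlg p 𝒜 aug h).presheaf.obj (op U)) :
    (p.app U).hom (fibFst p 𝒜 aug h U x) = augR 𝒜 aug (p ⁻¹ᵁ U) (fibSnd p 𝒜 aug h U x) := by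
  obtain ⟨x', hx'⟩ : ∃ x' : pairSub p 𝒜 aug U, x' = x := ⟨x, rfl⟩
  subst hx'
  exact x'.2

theorem fib_ext {U : Y.Opens} {x y : (fibAlg p 𝒜 aug h).presheaf.obj (op U)}
    (h1 : fibFst p 𝒜 aug h U x = fibFst p 𝒜 aug h U y) (h2 : fibSnd p 𝒜 aug h U x = fibSnd p 𝒜 aug h U y) :
    x = y := by
  obtain ⟨x', hx'⟩ : ∃ x' : pairSub p 𝒜 aug U, x' = x := ⟨x, rfl⟩
  obtain ⟨y', hy'⟩ : ∃ y' : pairSub p 𝒜 aug U, y' = y := ⟨y, rfl⟩
  subst hx' hy'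
  exact pair_ext p 𝒜 aug h1 h2

theorem fibFst_rs {U V : Y.Opens} (i : V ≤ U) (x : (fibAlg p 𝒜 aug h).presheaf.obj (op U)) :
    fibFst p 𝒜 aug h V (rs (fibAlg p 𝒜 aug h) i x) = rsY i (fibFst p 𝒜 aug h U x) := rfl

theorem fibSnd_rs {U V : Y.Opens} (i : V ≤ U) (x : (fibAlg p 𝒜 aug h).presheaf.obj (op U)) :
    fibSnd p 𝒜 aug h V (rs (fibAlg p 𝒜 aug h) i x) = rs 𝒜 (p.preimage_mono i) (fibSnd p 𝒜 aug h U x) := rfl

theorem fibFst_str (U : Y.Opens) (r : Γ(Y, U)) :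
    fibFst p 𝒜 aug h U (((fibAlg p 𝒜 aug h).str.app (op U)).hom r) = r := rfl

theorem fibSnd_str (U : Y.Opens) (r : Γ(Y, U)) :
    fibSnd p 𝒜 aug h U (((fibAlg p 𝒜 aug h).str.app (op U)).hom r) = strA p 𝒜 U r := rfl

/-- the augmentation of `𝒮'` -/
def fibAug : fibAlg p 𝒜 aug h ⟶ RelSpec.QCAlg.unit Y where
  hom :=
    { app := fun V => CommRingCat.ofHom (fibFst p 𝒜 aug h V.unop)
      naturality := fun {U V} i => CommRingCat.hom_ext (RingHom.ext fun x => rfl) }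
  comm := by
    ext V : 2
    exact RingHom.ext fun r => rfl

theorem fibAug_app (U : Y.Opens) (x : (fibAlg p 𝒜 aug h).presheaf.obj (op U)) :
    ((fibAug p 𝒜 aug h).hom.app (op U)).hom x = fibFst p 𝒜 aug h U x := rfl

/-- the canonical `p`-morphism `𝒮' → 𝒜` -/
def fibHom : RelSpec.QHom p (fibAlg p 𝒜 aug h) 𝒜 where
  app U := CommRingCat.ofHom (fibSnd p 𝒜 aug h U)
  naturality _ := CommRingCat.hom_ext (RingHom.ext fun _ => rfl)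
  str_app _ := CommRingCat.hom_ext (RingHom.ext fun _ => rfl)

theorem fibHom_app (U : Y.Opens) (x : (fibAlg p 𝒜 aug h).presheaf.obj (op U)) :
    ((fibHom p 𝒜 aug h).app U).hom x = fibSnd p 𝒜 aug h U x := rfl

theorem fibHom_appLE (U : Y.Opens) (U' : X.Opens) (hle : U' ≤ p ⁻¹ᵁ U)
    (x : (fibAlg p 𝒜 aug h).presheaf.obj (op U)) :
    ((fibHom p 𝒜 aug h).appLE U U' hle).hom x = rs 𝒜 hle (fibSnd p 𝒜 aug h U x) := rfl

/-- sections of `𝒜` killed by the augmentation give sections of `𝒮'` -/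
def mkZero (U : Y.Opens) (s : 𝒜.presheaf.obj (op (p ⁻¹ᵁ U))) (hs : augR 𝒜 aug (p ⁻¹ᵁ U) s = 0) :
    (fibAlg p 𝒜 aug h).presheaf.obj (op U) :=
  mkFib p 𝒜 aug h U 0 s (by rw [map_zero, hs])

@[simp] theorem fibFst_mkZero (U : Y.Opens) (s : 𝒜.presheaf.obj (op (p ⁻¹ᵁ U)))
    (hs : augR 𝒜 aug (p ⁻¹ᵁ U) s = 0) : fibFst p 𝒜 aug h U (mkZero p 𝒜 aug h U s hs) = 0 := rfl

@[simp] theorem fibSnd_mkZero (U : Y.Opens) (s : 𝒜.presheaf.obj (op (p ⁻¹ᵁ U)))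
    (hs : augR 𝒜 aug (p ⁻¹ᵁ U) s = 0) : fibSnd p 𝒜 aug h U (mkZero p 𝒜 aug h U s hs) = s := rfl

end

end Groth.Agent.Lib.T2H4.Grauert
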