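import Mathlib
import Groth.Agent.Lib.T2H4GrauertA
import Groth.Agent.Lib.Helper13SpecQMap

/-!
# The contraction `q : Spec(𝒜) ⟶ C = Spec(O_Y ×_{p_* O_X} p_* 𝒜)` (helper4)

* `exists_contraction` : `C`, its structure morphism `g`, the vertex section `ε` and `q : Spec(𝒜) ⟶ C` with the chart equations
* `comp_vertex` : `j0 ≫ q = p ≫ ε` for a section `j0` of `Spec(𝒜)` defined chartwise by `aug`
* `not_mem_range_ε_of_mem_basicOpen` : the standard opens `D(f) ⊆ Spec 𝒮'(U)`, `f` with zero first component, miss `ε(Y)`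
-/

set_option autoImplicit false
set_option linter.style.haveILetI false
set_option linter.unusedSectionVars false
universe u
open CategoryTheory CategoryTheory.Limits AlgebraicGeometry TopologicalSpace Opposite

namespace Groth.Agent.Lib.T2H4.Grauert
open Groth.Agent.Lib.T2H4.PowMap Groth.Agent.Helper13SpecQMap Groth.Agent.Helper13RelProj
open Groth.Agent.Lib.Helper27Cone

noncomputable section

variable {X Y : Scheme.{u}} (p : X ⟶ Y) (𝒜 : RelSpec.QCAlg X) (aug : 𝒜 ⟶ RelSpec.QCAlg.unit X)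
  (h : IsQcqsOver p)

/-- the augmentation as a morphism of rings to `Γ(X, W)` -/
def augHom (W : X.Opens) : 𝒜.presheaf.obj (op W) ⟶ Γ(X, W) := aug.hom.app (op W)

/-- the augmentation of `𝒮'` as a morphism of rings to `Γ(Y, U)` -/
def fibAugHom (U : Y.Opens) : (fibAlg p 𝒜 aug h).presheaf.obj (op U) ⟶ Γ(Y, U) :=
  (fibAug p 𝒜 aug h).hom.app (op U)

theorem fibAugHom_apply (U : Y.Opens) (x : (fibAlg p 𝒜 aug h).presheaf.obj (op U)) :
    (fibAugHom p 𝒜 aug h U).hom x = fibFst p 𝒜 aug h U x := rfl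

/-- the vertex section of `C` -/
def coneε : Y ⟶ (fibAlg p 𝒜 aug h).spec := sectionOf (fibAlg p 𝒜 aug h) (fibAug p 𝒜 aug h)

theorem coneε_π : coneε p 𝒜 aug h ≫ (fibAlg p 𝒜 aug h).π = 𝟙 Y := sectionOf_π _ _

theorem fromSpec_coneε (U : Y.Opens) (hU : IsAffineOpen U) :
    hU.fromSpec ≫ coneε p 𝒜 aug h = Spec.map (fibAugHom p 𝒜 aug h U) ≫ (fibAlg p 𝒜 aug h).ι U hU :=
  fromSpec_sectionOf _ _ U hU

/-- the contraction -/
theorem exists_contraction :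
    ∃ q : 𝒜.spec ⟶ (fibAlg p 𝒜 aug h).spec, RelSpec.IsSpecQMap (fibHom p 𝒜 aug h) q ∧
      q ≫ (fibAlg p 𝒜 aug h).π = 𝒜.π ≫ p := by
  obtain ⟨q, hq⟩ := exists_specQMap (fibHom p 𝒜 aug h)
  exact ⟨q, hq, specQMap_π (fibHom p 𝒜 aug h) hq⟩

variable {p 𝒜 aug h}

/-- compatibility of the ring maps -/
theorem appLE_aug_eq (U : Y.Opens) (W' : X.Opens) (hle : W' ≤ p ⁻¹ᵁ U) :
    (fibHom p 𝒜 aug h).appLE U W' hle ≫ augHom 𝒜 aug W' =
      fibAugHom p 𝒜 aug h U ≫ p.appLE U W' hle := by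
  refine CommRingCat.hom_ext (RingHom.ext fun x => ?_)
  change augR 𝒜 aug W' (rs 𝒜 hle (fibSnd p 𝒜 aug h U x)) =
    (X.presheaf.map (homOfLE hle).op).hom ((p.app U).hom (fibFst p 𝒜 aug h U x))
  rw [augR_rs, fib_compat]

/-- `j0 ≫ q = p ≫ ε` -/
theorem comp_vertex {q : 𝒜.spec ⟶ (fibAlg p 𝒜 aug h).spec} (hq : RelSpec.IsSpecQMap (fibHom p 𝒜 aug h) q)
    (j0 : X ⟶ 𝒜.spec)
    (hj0 : ∀ (W' : X.Opens) (hW' : IsAffineOpen W'),
      hW'.fromSpec ≫ j0 = Spec.map (augHom 𝒜 aug W') ≫ 𝒜.ι W' hW') :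
    j0 ≫ q = p ≫ coneε p 𝒜 aug h := by
  refine hom_ext_of_openImmersions _ _ fun x => ?_
  obtain ⟨U, hU, hxU, -⟩ := exists_isAffineOpen_mem_and_subset (x := p.base x) (U := ⊤) trivial
  obtain ⟨_, ⟨W', hW', rfl⟩, hxW', hle⟩ := X.isBasis_affineOpens.exists_subset_of_mem_open
    (show x ∈ ((p ⁻¹ᵁ U : X.Opens) : Set X) from hxU) (p ⁻¹ᵁ U).2
  replace hW' : IsAffineOpen W' := hW'
  have hle' : W' ≤ p ⁻¹ᵁ U := hle
  refine ⟨_, hW'.fromSpec, inferInstance, ?_, ?_⟩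
  · rw [hW'.range_fromSpec]
    exact hxW'
  · rw [← Category.assoc, hj0 W' hW', Category.assoc, hq U hU W' hW' hle', ← Category.assoc, ← Spec.map_comp,
      appLE_aug_eq, Spec.map_comp, Category.assoc, ← fromSpec_coneε, ← Category.assoc,
      IsAffineOpen.SpecMap_appLE_fromSpec p hU hW' hle', Category.assoc]

/-- the standard opens `D(f)`, `f` with zero first component, miss `ε(Y)` -/
theorem not_mem_range_ε_of_mem_basicOpen (U : Y.Opens) (hU : IsAffineOpen U)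
    (f : (fibAlg p 𝒜 aug h).presheaf.obj (op U)) (hf : fibFst p 𝒜 aug h U f = 0)
    (c : (fibAlg p 𝒜 aug h).spec)
    (hc : c ∈ (fibAlg p 𝒜 aug h).ι U hU ''ᵁ PrimeSpectrum.basicOpen f) :
    c ∉ Set.range (coneε p 𝒜 aug h).base := by
  rintro ⟨y, rfl⟩
  obtain ⟨𝔠, h𝔠, h𝔠''⟩ := hc
  have h𝔠' : ((fibAlg p 𝒜 aug h).ι U hU).base 𝔠 = (coneε p 𝒜 aug h).base y := h𝔠''
  have hyU : y ∈ U := by
    have h1 : (fibAlg p 𝒜 aug h).π.base (((fibAlg p 𝒜 aug h).ι U hU).base 𝔠) ∈ U :=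
      ι_π_mem (fibAlg p 𝒜 aug h) hU 𝔠
    rw [h𝔠'] at h1
    have h2 : (fibAlg p 𝒜 aug h).π.base ((coneε p 𝒜 aug h).base y) = y := by
      rw [← Scheme.Hom.comp_apply, coneε_π]
      rfl
    rwa [h2] at h1
  obtain ⟨𝔶, rfl⟩ : ∃ 𝔶 : Spec Γ(Y, U), hU.fromSpec.base 𝔶 = y := by
    have : y ∈ Set.range hU.fromSpec.base := by
      rw [hU.range_fromSpec]
      exact hyU
    exact this
  have h3 : (coneε p 𝒜 aug h).base (hU.fromSpec.base 𝔶) =
      ((fibAlg p 𝒜 aug h).ι U hU).base ((Spec.map (fibAugHom p 𝒜 aug h U)).base 𝔶) := by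
    rw [← Scheme.Hom.comp_apply, fromSpec_coneε]
    rfl
  rw [h3] at h𝔠'
  have h4 := ((fibAlg p 𝒜 aug h).ι U hU).isOpenEmbedding.injective h𝔠'
  rw [h4] at h𝔠
  have h5 : f ∉ ((Spec.map (fibAugHom p 𝒜 aug h U)).base 𝔶).asIdeal := h𝔠
  apply h5
  change (fibAugHom p 𝒜 aug h U).hom f ∈ 𝔶.asIdeal
  rw [fibAugHom_apply, hf]
  exact zero_mem _

end

end Groth.Agent.Lib.T2H4.Grauert
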