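import Mathlib
import Groth.Agent.Lib.Helper13SymAlg
import Groth.Agent.Lib.Helper18Tens1
import Groth.Agent.Lib.Helper23SecTw6

/-!
# Power maps `L^{⊗m} ⟶ 𝒮` attached to a module map `κ : L ⟶ 𝒮` into a quasi-coherent algebra (helper4)

* `secAdd φ U` : a module map `φ : E ⟶ 𝒮` on sections, as an additive map into the ring `𝒮(U)`
* `strMod 𝒮 : O_X ⟶ 𝒮`, `stepMap θ κ : N ⊗ M ⟶ 𝒮`, `(n ⊗ m) ↦ θ(n) κ(m)`
* `powMap κ m : M^{⊗m} ⟶ 𝒮`, with `powMap κ m (e^{⊗m}) = κ(e)^m` (`powAdd_pw`)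
-/

set_option autoImplicit false
set_option linter.style.haveILetI false
universe u
open CategoryTheory CategoryTheory.Limits AlgebraicGeometry TopologicalSpace Opposite

namespace Groth.Agent.Lib.T2H4.PowMap
open Groth.Agent.Lib.Helper23.SecTw Groth.Agent.Lib.Helper23.GenLocus Groth.Agent.Lib.Helper6

variable {X : Scheme.{u}} (𝒮 : RelSpec.QCAlg X)

/-- multiplication of sections of `𝒮`, on the underlying module -/
noncomputable def mulFun (Z : (Opens X)ᵒᵖ) (a b : 𝒮.toModule.val.obj Z) : 𝒮.toModule.val.obj Z :=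
  @HMul.hMul (𝒮.presheaf.obj Z) (𝒮.presheaf.obj Z) _ _ a b

theorem mulFun_add_left (Z : (Opens X)ᵒᵖ) (a a' b : 𝒮.toModule.val.obj Z) :
    mulFun 𝒮 Z (a + a') b = mulFun 𝒮 Z a b + mulFun 𝒮 Z a' b :=
  @add_mul (𝒮.presheaf.obj Z) _ _ _ a a' b

theorem mulFun_add_right (Z : (Opens X)ᵒᵖ) (a b b' : 𝒮.toModule.val.obj Z) :
    mulFun 𝒮 Z a (b + b') = mulFun 𝒮 Z a b + mulFun 𝒮 Z a b' :=
  @mul_add (𝒮.presheaf.obj Z) _ _ _ a b b'

theorem mulFun_smul_left (Z : (Opens X)ᵒᵖ) (r : X.ringCatSheaf.obj.obj Z) (a b : 𝒮.toModule.val.obj Z) :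
    mulFun 𝒮 Z (r • a) b = r • mulFun 𝒮 Z a b :=
  @mul_assoc (𝒮.presheaf.obj Z) _ ((𝒮.str.app Z).hom r) a b

theorem mulFun_smul_right (Z : (Opens X)ᵒᵖ) (r : X.ringCatSheaf.obj.obj Z) (a b : 𝒮.toModule.val.obj Z) :
    mulFun 𝒮 Z a (r • b) = r • mulFun 𝒮 Z a b :=
  @mul_left_comm (𝒮.presheaf.obj Z) _ a ((𝒮.str.app Z).hom r) b

theorem mulFun_nat {Z W : (Opens X)ᵒᵖ} (f : Z ⟶ W) (a b : 𝒮.toModule.val.obj Z) :
    𝒮.toModule.val.map f (mulFun 𝒮 Z a b) =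
      mulFun 𝒮 W (𝒮.toModule.val.map f a) (𝒮.toModule.val.map f b) :=
  @map_mul (𝒮.presheaf.obj Z) (𝒮.presheaf.obj W) _ _ _ _ _ (𝒮.presheaf.map f).hom a b

variable {𝒮}

/-- a module map into `𝒮` on sections over `U`, as an additive map into the ring `𝒮(U)` -/
noncomputable def secAdd {E : X.Modules} (φ : E ⟶ 𝒮.toModule) (U : X.Opens) : Γ(E, U) →+ 𝒮.presheaf.obj (op U) :=
  (φ.app U).hom

theorem secAdd_smul {E : X.Modules} (φ : E ⟶ 𝒮.toModule) (U : X.Opens) (a : Γ(X, U)) (m : Γ(E, U)) :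
    secAdd φ U (a • m) = (𝒮.str.app (op U)).hom a * secAdd φ U m :=
  φ.app_smul a m

theorem secAdd_res {E : X.Modules} (φ : E ⟶ 𝒮.toModule) {U V : X.Opens} (h : V ≤ U) (m : Γ(E, U)) :
    secAdd φ V (res E h m) = (𝒮.presheaf.map (homOfLE h).op).hom (secAdd φ U m) :=
  CategoryTheory.congr_fun (φ.mapPresheaf.naturality (homOfLE h).op) m

section step
variable {N M : X.Modules} (θ : N ⟶ 𝒮.toModule) (κ : M ⟶ 𝒮.toModule)

/-- the bilinear family `(n, m) ↦ θ(n) κ(m)` -/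
noncomputable def stepFun (Z : (Opens X)ᵒᵖ) (a : N.val.obj Z) (b : M.val.obj Z) : 𝒮.toModule.val.obj Z :=
  mulFun 𝒮 Z ((θ.val.app Z).hom a) ((κ.val.app Z).hom b)

theorem stepFun_add_left (Z : (Opens X)ᵒᵖ) (a a' : N.val.obj Z) (b : M.val.obj Z) :
    stepFun θ κ Z (a + a') b = stepFun θ κ Z a b + stepFun θ κ Z a' b := by
  unfold stepFun
  rw [map_add]
  exact mulFun_add_left 𝒮 Z _ _ _

theorem stepFun_smul_left (Z : (Opens X)ᵒᵖ) (r : X.ringCatSheaf.obj.obj Z) (a : N.val.obj Z) (b : M.val.obj Z) :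
    stepFun θ κ Z (r • a) b = r • stepFun θ κ Z a b := by
  unfold stepFun
  rw [map_smul]
  exact mulFun_smul_left 𝒮 Z r _ _

theorem stepFun_add_right (Z : (Opens X)ᵒᵖ) (a : N.val.obj Z) (b b' : M.val.obj Z) :
    stepFun θ κ Z a (b + b') = stepFun θ κ Z a b + stepFun θ κ Z a b' := by
  unfold stepFun
  rw [map_add]
  exact mulFun_add_right 𝒮 Z _ _ _

theorem stepFun_smul_right (Z : (Opens X)ᵒᵖ) (r : X.ringCatSheaf.obj.obj Z) (a : N.val.obj Z) (b : M.val.obj Z) :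
    stepFun θ κ Z a (r • b) = r • stepFun θ κ Z a b := by
  unfold stepFun
  rw [map_smul]
  exact mulFun_smul_right 𝒮 Z r _ _

theorem stepFun_nat {Z W : (Opens X)ᵒᵖ} (f : Z ⟶ W) (a : N.val.obj Z) (b : M.val.obj Z) :
    𝒮.toModule.val.map f (stepFun θ κ Z a b) = stepFun θ κ W (N.val.map f a) (M.val.map f b) := by
  unfold stepFun
  rw [mulFun_nat]
  congr 1
  · exact (PresheafOfModules.naturality_apply θ.val f a).symm
  · exact (PresheafOfModules.naturality_apply κ.val f b).symm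

/-- `(n ⊗ m) ↦ θ(n) κ(m)` -/
noncomputable def stepMap : CohB1.tensorMod N M ⟶ 𝒮.toModule :=
  Groth.Agent.Helper18Tens.ofBilinSch N M 𝒮.toModule (stepFun θ κ) (stepFun_add_left θ κ)
    (stepFun_smul_left θ κ) (stepFun_add_right θ κ) (stepFun_smul_right θ κ) (stepFun_nat θ κ)

theorem stepMap_tm (U : X.Opens) (a : Γ(N, U)) (b : Γ(M, U)) :
    secAdd (stepMap θ κ) U (tm N M U a b) = secAdd θ U a * secAdd κ U b :=
  Groth.Agent.Helper18Tens.ofBilinSch_tmul N M 𝒮.toModule (stepFun θ κ) (stepFun_add_left θ κ)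
    (stepFun_smul_left θ κ) (stepFun_add_right θ κ) (stepFun_smul_right θ κ) (stepFun_nat θ κ) U a b

end step

variable (𝒮)

/-- the structure map, as a map of modules -/
noncomputable def strMod : Coh.structureModule X ⟶ 𝒮.toModule :=
  secHom 𝒮.toModule (1 : 𝒮.presheaf.obj (op ⊤))

theorem strMod_toS (U : X.Opens) (r : Γ(X, U)) :
    secAdd (strMod 𝒮) U (toS U r) = (𝒮.str.app (op U)).hom r := by
  change (strMod 𝒮).app U (toS U r) = _
  rw [app_toS, strMod, sv_secHom]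
  change (𝒮.str.app (op U)).hom r * (𝒮.presheaf.map (homOfLE le_top).op).hom 1 = _
  rw [map_one]
  exact @mul_one (𝒮.presheaf.obj (op U)) _ _

variable {𝒮}

/-- the power maps `M^{⊗m} ⟶ 𝒮` -/
noncomputable def powMap {M : X.Modules} (κ : M ⟶ 𝒮.toModule) : (m : ℕ) → (CohB1.tensorPow M m ⟶ 𝒮.toModule)
  | 0 => strMod 𝒮
  | m + 1 => stepMap (powMap κ m) κ

/-- the power map on sections, as an additive map into the ring of sections -/
noncomputable def powAdd {M : X.Modules} (κ : M ⟶ 𝒮.toModule) (m : ℕ) (U : X.Opens) :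
    Γ(CohB1.tensorPow M m, U) →+ 𝒮.presheaf.obj (op U) :=
  secAdd (powMap κ m) U

theorem powAdd_smul {M : X.Modules} (κ : M ⟶ 𝒮.toModule) (m : ℕ) (U : X.Opens) (a : Γ(X, U))
    (s : Γ(CohB1.tensorPow M m, U)) :
    powAdd κ m U (a • s) = (𝒮.str.app (op U)).hom a * powAdd κ m U s :=
  secAdd_smul _ U a s

theorem powAdd_res {M : X.Modules} (κ : M ⟶ 𝒮.toModule) (m : ℕ) {U V : X.Opens} (h : V ≤ U)
    (s : Γ(CohB1.tensorPow M m, U)) :
    powAdd κ m V (res (CohB1.tensorPow M m) h s) = (𝒮.presheaf.map (homOfLE h).op).hom (powAdd κ m U s) :=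
  secAdd_res _ h s

theorem powAdd_pw {M : X.Modules} (κ : M ⟶ 𝒮.toModule) (m : ℕ) (U : X.Opens) (e : Γ(M, U)) :
    powAdd κ m U (pw M U e m) = (secAdd κ U e) ^ m := by
  induction m with
  | zero =>
    rw [pow_zero]
    change secAdd (strMod 𝒮) U (toS U 1) = 1
    rw [strMod_toS, map_one]
  | succ m ih =>
    change secAdd (stepMap (powMap κ m) κ) U
      (tm (CohB1.tensorPow M m) M U (pw M U e m) e) = _
    rw [stepMap_tm, pow_succ]
    congr 1

end Groth.Agent.Lib.T2H4.PowMap
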