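import Mathlib
import Groth.Agent.Lib.Helper23Restr
import Groth.Agent.Lib.Helper23SecTw10

/-!
# Sections of powers of `L` over an open `W` coming from ampleness of `L|W` (helper4)

* `isGen_of_eq` : transport of `IsGen` along an equality of opens
* `exists_section_of_isAmple_restrict` : if `L|W` is ample, every point of `W` lies in an affine open `D ⊆ W` which is the
  generating locus of a section `σ` of `L^{⊗m}` over `W` (`m > 0`): for `V ⊆ W`, `σ|V` generates iff `V ⊆ D`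
* `isCompact_image_top`, `isCompact_inf_of_isAmple_restrict` : quasi-compactness and quasi-separatedness of `W`
-/

set_option autoImplicit false
set_option linter.style.haveILetI false
universe u
open CategoryTheory CategoryTheory.Limits AlgebraicGeometry TopologicalSpace Opposite

namespace Groth.Agent.Lib.T2H4.PowMap
open Groth.Agent.Lib.Helper23.SecTw Groth.Agent.Lib.Helper23.GenLocus Groth.Agent.Lib.Helper6
open Groth.Agent.Lib.Helper23.AmpleIso

variable {X : Scheme.{u}}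

theorem isGen_of_eq (M : X.Modules) {V V' : X.Opens} (h : V' = V) (e : Γ(M, V)) (he : IsGen M V e) :
    IsGen M V' (res M h.le e) := by
  subst h
  rw [res_self]
  exact he

theorem isGen_of_eq' (M : X.Modules) {V V' : X.Opens} (h : V' = V) (e : Γ(M, V))
    (he : IsGen M V' (res M h.le e)) : IsGen M V e := by
  subst h
  rw [res_self] at he
  exact he

theorem image_top_le (W : X.Opens) : W.ι ''ᵁ ⊤ ≤ W := image_le_self W ⊤

theorem le_image_top (W : X.Opens) : W ≤ W.ι ''ᵁ ⊤ := by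
  rw [Scheme.Hom.image_top_eq_opensRange, Scheme.Opens.opensRange_ι]

/-- the key existence statement -/
theorem exists_section_of_isAmple_restrict (L : X.Modules) (hL : PicF.IsInvertible L) (W : X.Opens)
    (hamp : CohB1.IsAmple (L.restrict W.ι)) (z : X) (hz : z ∈ W) :
    ∃ (m : ℕ) (_ : 0 < m) (σ : Γ(CohB1.tensorPow L m, W.ι ''ᵁ ⊤)) (D : X.Opens),
      IsAffineOpen D ∧ D ≤ W.ι ''ᵁ ⊤ ∧ z ∈ D ∧
        ∀ (V : X.Opens) (hV : V ≤ W.ι ''ᵁ ⊤),
          (IsGen (CohB1.tensorPow L m) V (res (CohB1.tensorPow L m) hV σ) ↔ V ≤ D) := by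
  obtain ⟨n, σ', hzσ, haff⟩ := hamp.2.2 ⟨z, hz⟩
  obtain ⟨e⟩ := nonempty_restrict_tensorPow_iso L hL W (n + 1)
  obtain ⟨σ'', hσ''⟩ : ∃ σ'' : Coh.structureModule (↑W : Scheme.{u}) ⟶ (CohB1.tensorPow L (n + 1)).restrict W.ι,
      σ'' = σ' ≫ e.inv := ⟨_, rfl⟩
  have hgl : CohB1.genLocus _ σ'' = CohB1.genLocus _ σ' := by
    rw [hσ'']
    exact genLocus_comp_iso e.symm σ'
  obtain ⟨σ, hσ⟩ : ∃ σ : Γ(CohB1.tensorPow L (n + 1), W.ι ''ᵁ ⊤), σ = sv σ'' ⊤ := ⟨_, rfl⟩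
  have hsv : ∀ V' : (↑W : Scheme.{u}).Opens,
      @Eq (Γ(CohB1.tensorPow L (n + 1), W.ι ''ᵁ V')) (sv σ'' V')
        (res (CohB1.tensorPow L (n + 1)) (W.ι.image_mono le_top) σ) := by
    intro V'
    rw [hσ, ← res_sv σ'' (le_top : V' ≤ ⊤)]
    rfl
  refine ⟨n + 1, Nat.succ_pos n, σ, W.ι ''ᵁ CohB1.genLocus _ σ', haff.image_of_isOpenImmersion W.ι,
    W.ι.image_mono le_top, ⟨⟨z, hz⟩, hzσ, rfl⟩, ?_⟩
  intro V hV
  have hVW : V ≤ W := hV.trans (image_top_le W)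
  have hVeq : W.ι ''ᵁ (W.ι ⁻¹ᵁ V) = V := image_preimage_of_le W hVW
  constructor
  · intro hgen
    have h1 : IsGen (CohB1.tensorPow L (n + 1)) (W.ι ''ᵁ (W.ι ⁻¹ᵁ V))
        (res (CohB1.tensorPow L (n + 1)) (W.ι.image_mono le_top) σ) := by
      have := isGen_of_eq _ hVeq _ hgen
      rwa [res_res] at this
    rw [← hsv] at h1
    have h2 := isGen_restrict_of_isGen _ W (W.ι ⁻¹ᵁ V) _ h1
    have h3 : W.ι ⁻¹ᵁ V ≤ CohB1.genLocus _ σ'' := le_genLocus_of_isGen _ σ'' _ h2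
    rw [hgl] at h3
    rw [← hVeq]
    exact W.ι.image_mono h3
  · intro hle
    have h3 : W.ι ⁻¹ᵁ V ≤ CohB1.genLocus _ σ'' := by
      rw [hgl]
      have := W.ι.preimage_mono hle
      rwa [Scheme.Hom.preimage_image_eq] at this
    have h2 : IsGen ((CohB1.tensorPow L (n + 1)).restrict W.ι) (W.ι ⁻¹ᵁ V) (sv σ'' (W.ι ⁻¹ᵁ V)) := by
      have := (isGen_sv_genLocus _ σ'').mono h3
      rwa [res_sv] at this
    have h1 := isGen_of_isGen_restrict _ W (W.ι ⁻¹ᵁ V) _ h2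
    rw [hsv] at h1
    refine isGen_of_eq' _ hVeq _ ?_
    rw [res_res]
    exact h1

theorem isCompact_image_top (W : X.Opens) [CompactSpace (↑W : Scheme.{u})] :
    IsCompact ((W.ι ''ᵁ ⊤ : X.Opens) : Set X) := by
  have : ((W.ι ''ᵁ ⊤ : X.Opens) : Set X) = W.ι.base '' Set.univ := by
    ext x
    simp only [Set.image_univ, Set.mem_range]
    constructor
    · rintro ⟨y, -, rfl⟩
      exact ⟨y, rfl⟩
    · rintro ⟨y, rfl⟩
      exact ⟨y, trivial, rfl⟩
  rw [this]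
  exact isCompact_univ.image W.ι.continuous

theorem isCompact_inf_of_quasiSeparatedSpace (W : X.Opens) [QuasiSeparatedSpace (↑W : Scheme.{u})]
    (V V' : X.Opens) (hV : IsAffineOpen V) (hV' : IsAffineOpen V') (hVW : V ≤ W.ι ''ᵁ ⊤) (hVW' : V' ≤ W.ι ''ᵁ ⊤) :
    IsCompact ((V ⊓ V' : X.Opens) : Set X) := by
  have h1 : IsCompact ((W.ι ⁻¹ᵁ V : (↑W : Scheme.{u}).Opens) : Set (↑W : Scheme.{u})) :=
    (hV.preimage_of_isOpenImmersion W.ι (by
      rw [Scheme.Opens.opensRange_ι]; exact hVW.trans (image_top_le W))).isCompact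
  have h2 : IsCompact ((W.ι ⁻¹ᵁ V' : (↑W : Scheme.{u}).Opens) : Set (↑W : Scheme.{u})) :=
    (hV'.preimage_of_isOpenImmersion W.ι (by
      rw [Scheme.Opens.opensRange_ι]; exact hVW'.trans (image_top_le W))).isCompact
  have h3 := QuasiSeparatedSpace.inter_isCompact _ _ (W.ι ⁻¹ᵁ V).2 h1 (W.ι ⁻¹ᵁ V').2 h2
  have h4 : ((V ⊓ V' : X.Opens) : Set X) =
      W.ι.base '' (((W.ι ⁻¹ᵁ V : (↑W : Scheme.{u}).Opens) : Set (↑W : Scheme.{u})) ∩
        ((W.ι ⁻¹ᵁ V' : (↑W : Scheme.{u}).Opens) : Set (↑W : Scheme.{u}))) := by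
    ext x
    constructor
    · rintro ⟨hx1, hx2⟩
      exact ⟨⟨x, (hVW.trans (image_top_le W)) hx1⟩, ⟨hx1, hx2⟩, rfl⟩
    · rintro ⟨y, ⟨hy1, hy2⟩, rfl⟩
      exact ⟨hy1, hy2⟩
  rw [h4]
  exact h3.image W.ι.continuous

end Groth.Agent.Lib.T2H4.PowMap
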