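import Mathlib
import Groth.Agent.Lib.T2H4RLBridgeAL
import Groth.Agent.Lib.T2H4RLBridgeAM
import Groth.Agent.Lib.T2H4RLBridgeAN
import Groth.Agent.Lib.Helper13RLc
import Groth.Agent.Lib.Helper23GenNear

/-!
# The element of `𝒮L = ⊕ L^{⊗n}` attached to a section of `L^{⊗m}` and its nonvanishing locus (helper4)

`σ` a section of `L^{⊗m}` over `W`, `D ⊆ W` its generating locus (`hσ`).  `gSec` is the corresponding element of `𝒮L(W)`.

* `exists_locStr` : local form `g = c T^m`, `D ∩ D(ρ) = D(c)`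
* `locStr_gSec` : `LocStr` for the extension lemmas
* `gSec_mem_deg` : `g` is homogeneous of degree `m` over affine opens
* `basicOpen_gSec_eq_top`, `mem_of_mem_basicOpen_gSec` : `D₊(g|U)` is the part of `Proj 𝒮L(U)` over `D ∩ U`
-/

set_option autoImplicit false
set_option linter.style.haveILetI false
set_option linter.unusedSectionVars false
universe u
open CategoryTheory CategoryTheory.Limits AlgebraicGeometry TopologicalSpace Opposite
open scoped HomogeneousIdeal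

namespace Groth.Agent.Lib.T2H4.PowMap
open Groth.Agent.Lib.Helper23.SecTw Groth.Agent.Lib.Helper23.GenLocus Groth.Agent.Lib.Helper6
open Groth.Agent.Helper13RL Groth.Agent.Helper13RelProj Groth.Agent.Helper13SymAlg
open Groth.Agent.Helper13GrPoly Groth.Agent.Helper13ProjLine Groth.Agent.Lib.Helper23.GenNear

variable {X : Scheme.{u}}

/-- a generator gives a one-element basis -/
theorem exists_basis_of_isGen (L : X.Modules) {V : X.Opens} (e : Γ(L, V)) (he : IsGen L V e) :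
    ∃ b : Module.Basis (Fin 1) Γ(X, V) Γ(L, V), b 0 = e := by
  have hbij : Function.Bijective (LinearMap.toSpanSingleton Γ(X, V) Γ(L, V) e) := by
    have := he V le_rfl
    have h2 : (fun r : Γ(X, V) => r • res L (le_refl V) e) = ⇑(LinearMap.toSpanSingleton Γ(X, V) Γ(L, V) e) := by
      funext r
      rw [res_self]
      rfl
    rwa [h2] at this
  refine ⟨(Module.Basis.singleton (Fin 1) Γ(X, V)).map (LinearEquiv.ofBijective _ hbij), ?_⟩
  rw [Module.Basis.map_apply, Module.Basis.singleton_apply]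
  change (1 : Γ(X, V)) • e = e
  rw [one_smul]

/-- a section over `B` whose restriction to `B` of `c` is a unit lies in `D(c)` -/
theorem le_basicOpen_of_isUnit {V B : X.Opens} (h : B ≤ V) (c : Γ(X, V))
    (hc : IsUnit ((X.presheaf.map (homOfLE h).op).hom c)) : B ≤ X.basicOpen c := by
  have h1 := X.basicOpen_of_isUnit hc
  rw [Scheme.basicOpen_res] at h1
  exact inf_eq_left.mp h1

section main

variable (L : X.Modules) [L.IsQuasicoherent] (hL : PicF.IsInvertible L)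
  (𝒮L : RelProj.QCGrAlg X) (jL : L ⟶ 𝒮L.toModule) (hjL : RelProj.IsGrSymAlg L 𝒮L jL)
  {W : X.Opens} {m : ℕ} (σ : Γ(CohB1.tensorPow L m, W)) {D : X.Opens}
  (hσ : ∀ (V : X.Opens) (hV : V ≤ W), IsGen (CohB1.tensorPow L m) V (res (CohB1.tensorPow L m) hV σ) ↔ V ≤ D)

/-- the element of `𝒮L(W)` attached to `σ` -/
noncomputable def gSec : 𝒮L.presheaf.obj (op W) := powAdd (𝒮 := 𝒮L.toQCAlg) jL m W σ

include hL hσ in
/-- the local structure of `gSec` -/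
theorem exists_locStr (U : X.Opens) (hU : IsAffineOpen U) (hUW : U ≤ W) (x : X) (hx : x ∈ U) :
    ∃ (ρ : Γ(X, U)), x ∈ X.basicOpen ρ ∧
      ∃ (b : Module.Basis (Fin 1) Γ(X, X.basicOpen ρ) Γ(L, X.basicOpen ρ)) (c : Γ(X, X.basicOpen ρ)),
        rs 𝒮L.toQCAlg ((X.basicOpen_le ρ).trans hUW) (gSec L 𝒮L jL σ) =
          (𝒮L.str.app (op (X.basicOpen ρ))).hom c * (φAdd L 𝒮L.toQCAlg jL (X.basicOpen ρ) (b 0)) ^ m ∧
        D ⊓ X.basicOpen ρ = X.basicOpen c := by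
  obtain ⟨W₁, e, hxW₁, he⟩ := exists_gen L hL x
  obtain ⟨ρ, hρle, hxρ⟩ := hU.exists_basicOpen_le (V := W₁) ⟨x, hxW₁⟩ hx
  refine ⟨ρ, hxρ, ?_⟩
  have he' : IsGen L (X.basicOpen ρ) (res L hρle e) := he.mono hρle
  obtain ⟨b, hb⟩ := exists_basis_of_isGen L _ he'
  have hpw : IsGen (CohB1.tensorPow L m) (X.basicOpen ρ) (pw L (X.basicOpen ρ) (res L hρle e) m) :=
    isGen_pw L _ _ he' m
  have hρW : X.basicOpen ρ ≤ W := (X.basicOpen_le ρ).trans hUW
  obtain ⟨c, hc⟩ : ∃ c : Γ(X, X.basicOpen ρ),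
      c • pw L (X.basicOpen ρ) (res L hρle e) m = res (CohB1.tensorPow L m) hρW σ := by
    refine ⟨coef hpw le_rfl (res (CohB1.tensorPow L m) hρW σ), ?_⟩
    have := coef_spec hpw le_rfl (res (CohB1.tensorPow L m) hρW σ)
    rwa [res_self] at this
  refine ⟨b, c, ?_, ?_⟩
  · have h1 := powAdd_res (𝒮 := 𝒮L.toQCAlg) jL m hρW σ
    unfold gSec
    change (𝒮L.presheaf.map (homOfLE hρW).op).hom _ = _
    rw [← h1, ← hc, powAdd_smul, powAdd_pw, hb]
    rfl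
  · apply le_antisymm
    · -- on `D ∩ D(ρ)` the section generates, so `c` is a unit there
      have hB : D ⊓ X.basicOpen ρ ≤ X.basicOpen ρ := inf_le_right
      have h1 : IsGen (CohB1.tensorPow L m) (D ⊓ X.basicOpen ρ)
          (res (CohB1.tensorPow L m) (hB.trans hρW) σ) := (hσ _ (hB.trans hρW)).mpr inf_le_left
      have h2 : res (CohB1.tensorPow L m) (hB.trans hρW) σ =
          resf hB c • res (CohB1.tensorPow L m) hB (pw L (X.basicOpen ρ) (res L hρle e) m) := by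
        rw [← res_smul, hc, res_res]
      rw [h2] at h1
      have h3 := (isGen_smul_iff (hpw.mono hB) (resf hB c)).mp h1
      exact le_basicOpen_of_isUnit hB c h3
    · refine le_inf ?_ (X.basicOpen_le c)
      have hB : X.basicOpen c ≤ X.basicOpen ρ := X.basicOpen_le c
      refine (hσ _ (hB.trans hρW)).mp ?_
      have h2 : res (CohB1.tensorPow L m) (hB.trans hρW) σ =
          resf hB c • res (CohB1.tensorPow L m) hB (pw L (X.basicOpen ρ) (res L hρle e) m) := by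
        rw [← res_smul, hc, res_res]
      rw [h2]
      exact (isGen_smul_iff (hpw.mono hB) (resf hB c)).mpr (RingedSpace.isUnit_res_basicOpen _ c)

include hL hσ in
theorem locStr_gSec : LocStr 𝒮L.toQCAlg W (gSec L 𝒮L jL σ) D := by
  intro O x hxW hxO
  obtain ⟨_, ⟨U, hU, rfl⟩, hxU, hUle⟩ := X.isBasis_affineOpens.exists_subset_of_mem_open
    (show x ∈ ((W ⊓ O : X.Opens) : Set X) from ⟨hxW, hxO⟩) (W ⊓ O).2
  replace hU : IsAffineOpen U := hU
  have hUW : U ≤ W := fun y hy => (hUle hy).1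
  have hUO : U ≤ O := fun y hy => (hUle hy).2
  obtain ⟨ρ, hxρ, b, c, hg, hD⟩ := exists_locStr L hL 𝒮L jL σ hσ U hU hUW x hxU
  exact ⟨X.basicOpen ρ, hU.basicOpen ρ, (X.basicOpen_le ρ).trans hUW, hxρ, (X.basicOpen_le ρ).trans hUO,
    c, _, hg, hD⟩

end main

/-- membership in a graded piece is local on an affine open -/
theorem mem_deg_of_cover (𝒮 : RelProj.QCGrAlg X) {U : X.Opens} (hU : IsAffineOpen U) (d : ℕ)
    (y : 𝒮.presheaf.obj (op U))
    (h : ∀ x ∈ U, ∃ ρ : Γ(X, U), x ∈ X.basicOpen ρ ∧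
      rs 𝒮.toQCAlg (X.basicOpen_le ρ) y ∈ 𝒮.deg (X.basicOpen ρ) (hU.basicOpen ρ) d) :
    y ∈ 𝒮.deg U hU d := by
  classical
  have hcomp : ∀ k : ℕ, k ≠ d → ((DirectSum.decompose (𝒮.deg U hU) y k : 𝒮.deg U hU k) : 𝒮.presheaf.obj (op U)) = 0 := by
    intro k hk
    choose ρ hxρ hρ using h
    refine rs_ext 𝒮.toQCAlg (fun x : U => X.basicOpen (ρ x.1 x.2)) U (fun x => X.basicOpen_le _) ?_ _ _ ?_
    · intro x hx
      exact Opens.mem_iSup.mpr ⟨⟨x, hx⟩, hxρ x hx⟩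
    · intro x
      rw [map_zero]
      have h1 := GradedRingHom.map_directSumDecompose _ _
        (𝒮.res hU (hU.basicOpen (ρ x.1 x.2)) (X.basicOpen_le (ρ x.1 x.2))) (x := y) (i := k)
      have h2 : rs 𝒮.toQCAlg (X.basicOpen_le (ρ x.1 x.2))
          ((DirectSum.decompose (𝒮.deg U hU) y k : 𝒮.deg U hU k) : 𝒮.presheaf.obj (op U)) =
          ((DirectSum.decompose (𝒮.deg (X.basicOpen (ρ x.1 x.2)) (hU.basicOpen (ρ x.1 x.2)))
            (rs 𝒮.toQCAlg (X.basicOpen_le (ρ x.1 x.2)) y) k :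
              𝒮.deg (X.basicOpen (ρ x.1 x.2)) (hU.basicOpen (ρ x.1 x.2)) k) :
              𝒮.presheaf.obj (op (X.basicOpen (ρ x.1 x.2)))) := h1
      rw [h2, DirectSum.decompose_of_mem_ne _ (hρ x.1 x.2) (Ne.symm hk)]
  have hsum := DirectSum.sum_support_decompose (𝒮.deg U hU) y
  rw [← hsum]
  refine AddSubgroup.sum_mem _ (fun k _ => ?_)
  by_cases hk : k = d
  · subst hk
    exact SetLike.coe_mem _
  · rw [hcomp k hk]
    exact zero_mem _

section main2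

variable (L : X.Modules) [L.IsQuasicoherent] (hL : PicF.IsInvertible L)
  (𝒮L : RelProj.QCGrAlg X) (jL : L ⟶ 𝒮L.toModule) (hjL : RelProj.IsGrSymAlg L 𝒮L jL)
  {W : X.Opens} {m : ℕ} (σ : Γ(CohB1.tensorPow L m, W)) {D : X.Opens}
  (hσ : ∀ (V : X.Opens) (hV : V ≤ W), IsGen (CohB1.tensorPow L m) V (res (CohB1.tensorPow L m) hV σ) ↔ V ≤ D)
  {PL : Scheme.{u}} {pL : PL ⟶ X}
  {chartL : ∀ (U : X.Opens) (hU : IsAffineOpen U),
    (((pL ⁻¹ᵁ U : PL.Opens) : Scheme.{u}) ≅ Proj (𝒮L.deg U hU))}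
  (hPL : RelProj.IsRelProj 𝒮L pL chartL)

include hL hjL hσ in
/-- `gSec` is homogeneous of degree `m` over affine opens -/
theorem gSec_mem_deg (U : X.Opens) (hU : IsAffineOpen U) (hUW : U ≤ W) :
    rs 𝒮L.toQCAlg hUW (gSec L 𝒮L jL σ) ∈ 𝒮L.deg U hU m := by
  refine mem_deg_of_cover 𝒮L hU m _ (fun x hx => ?_)
  obtain ⟨ρ, hxρ, b, c, hg, -⟩ := exists_locStr L hL 𝒮L jL σ hσ U hU hUW x hx
  refine ⟨ρ, hxρ, ?_⟩
  rw [rs_rs, hg]
  have h0 : (𝒮L.str.app (op (X.basicOpen ρ))).hom c ∈ 𝒮L.deg (X.basicOpen ρ) (hU.basicOpen ρ) 0 :=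
    𝒮L.str_mem _ _ c
  have h1 : φAdd L 𝒮L.toQCAlg jL (X.basicOpen ρ) (b 0) ∈ 𝒮L.deg (X.basicOpen ρ) (hU.basicOpen ρ) 1 :=
    hjL.2 _ (hU.basicOpen ρ) (b 0)
  have h2 : (φAdd L 𝒮L.toQCAlg jL (X.basicOpen ρ) (b 0)) ^ m ∈
      𝒮L.deg (X.basicOpen ρ) (hU.basicOpen ρ) m := by
    have := SetLike.pow_mem_graded m h1
    simpa using this
  have h3 := SetLike.mul_mem_graded h0 h2
  rwa [zero_add] at h3

include hL hjL hσ hPL in
/-- over an affine open inside `D`, `D₊(g)` is everything -/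
theorem basicOpen_gSec_eq_top (hm : 0 < m) (U : X.Opens) (hU : IsAffineOpen U) (hUW : U ≤ W) (hUD : U ≤ D) :
    Proj.basicOpen (𝒮L.deg U hU) (rs 𝒮L.toQCAlg hUW (gSec L 𝒮L jL σ)) = ⊤ := by
  rw [eq_top_iff]
  intro z _
  have hx : pL.base ((RelProj.emb pL chartL U hU).base z) ∈ U := emb_mem_preimage chartL U hU z
  obtain ⟨ρ, hxρ, b, c, hg, hD⟩ := exists_locStr L hL 𝒮L jL σ hσ U hU hUW _ hx
  obtain ⟨z', rfl⟩ := exists_point_over hPL hU ρ z hxρ
  have hV : IsAffineOpen (X.basicOpen ρ) := hU.basicOpen ρ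
  change z' ∈ (Proj.map (𝒮L.res hU hV (X.basicOpen_le ρ)) (𝒮L.irrelevant_le_map U hU ρ)) ⁻¹ᵁ
    Proj.basicOpen (𝒮L.deg U hU) (rs 𝒮L.toQCAlg hUW (gSec L 𝒮L jL σ))
  rw [Proj.map_preimage_basicOpen]
  have hτ : (𝒮L.res hU hV (X.basicOpen_le ρ)) (rs 𝒮L.toQCAlg hUW (gSec L 𝒮L jL σ)) =
      rs 𝒮L.toQCAlg ((X.basicOpen_le ρ).trans hUW) (gSec L 𝒮L jL σ) := rs_rs 𝒮L.toQCAlg hUW _ _
  rw [hτ, hg, Proj.basicOpen_mul, Proj.basicOpen_pow _ _ m hm]
  have hT1 : φAdd L 𝒮L.toQCAlg jL (X.basicOpen ρ) (b 0) ∈ 𝒮L.deg (X.basicOpen ρ) hV 1 := hjL.2 _ hV (b 0)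
  have hpoly := bijective_eval₂ L 𝒮L jL hjL hV b
  rw [basicOpen_eq_top (𝒮L.deg (X.basicOpen ρ) hV) (𝒮L.str.app (op (X.basicOpen ρ))).hom
    (𝒮L.str_mem _ hV) _ hT1 hpoly, inf_top_eq]
  refine (pL_emb_mem_basicOpen_iff hPL hV c z').mp ?_
  rw [← hD]
  have hemb : (RelProj.emb pL chartL U hU).base
      ((Proj.map (𝒮L.res hU hV (X.basicOpen_le ρ)) (𝒮L.irrelevant_le_map U hU ρ)).base z') =
      (RelProj.emb pL chartL (X.basicOpen ρ) hV).base z' := by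
    rw [← RelProj.map_res_emb hPL U hU ρ]
    rfl
  rw [hemb] at hx hxρ
  exact ⟨hUD hx, hxρ⟩

include hL hjL hσ hPL in
/-- points of `D₊(g)` lie over `D` -/
theorem mem_of_mem_basicOpen_gSec (U : X.Opens) (hU : IsAffineOpen U) (hUW : U ≤ W)
    (z : Proj (𝒮L.deg U hU))
    (hz : z ∈ Proj.basicOpen (𝒮L.deg U hU) (rs 𝒮L.toQCAlg hUW (gSec L 𝒮L jL σ))) :
    pL.base ((RelProj.emb pL chartL U hU).base z) ∈ D := by
  have hx : pL.base ((RelProj.emb pL chartL U hU).base z) ∈ U := emb_mem_preimage chartL U hU z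
  obtain ⟨ρ, hxρ, b, c, hg, hD⟩ := exists_locStr L hL 𝒮L jL σ hσ U hU hUW _ hx
  obtain ⟨z', rfl⟩ := exists_point_over hPL hU ρ z hxρ
  have hV : IsAffineOpen (X.basicOpen ρ) := hU.basicOpen ρ
  have hz' : z' ∈ (Proj.map (𝒮L.res hU hV (X.basicOpen_le ρ)) (𝒮L.irrelevant_le_map U hU ρ)) ⁻¹ᵁ
    Proj.basicOpen (𝒮L.deg U hU) (rs 𝒮L.toQCAlg hUW (gSec L 𝒮L jL σ)) := hz
  rw [Proj.map_preimage_basicOpen] at hz'
  have hτ : (𝒮L.res hU hV (X.basicOpen_le ρ)) (rs 𝒮L.toQCAlg hUW (gSec L 𝒮L jL σ)) =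
      rs 𝒮L.toQCAlg ((X.basicOpen_le ρ).trans hUW) (gSec L 𝒮L jL σ) := rs_rs 𝒮L.toQCAlg hUW _ _
  rw [hτ, hg, Proj.basicOpen_mul] at hz'
  have h1 := (pL_emb_mem_basicOpen_iff hPL hV c z').mpr hz'.1
  rw [← hD] at h1
  have hemb : (RelProj.emb pL chartL U hU).base
      ((Proj.map (𝒮L.res hU hV (X.basicOpen_le ρ)) (𝒮L.irrelevant_le_map U hU ρ)).base z') =
      (RelProj.emb pL chartL (X.basicOpen ρ) hV).base z' := by
    rw [← RelProj.map_res_emb hPL U hU ρ]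
    rfl
  rw [hemb]
  exact h1.1

end main2

end Groth.Agent.Lib.T2H4.PowMap
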