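import Mathlib
import Groth.Agent.Lib.T2H4GrauertB
import Groth.Agent.Lib.T2H4RLBridgeAO
import Groth.Agent.Lib.Helper27Cone2

/-!
# Points of the line bundle `V(L) = Spec(⊕ L^{⊗n})` and the non-vanishing locus of a section of `L^{⊗m}` (helper4)

* `π_ι_mem_basicOpen_iff`, `exists_point_over_spec` : charts of a relative spectrum over basic opens
* `π_mem_of_not_mem` : a point of `V(L)` where `g = gSec σ` does not vanish lies over the generating locus `D` of `σ`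
* `not_mem_iff_mem_vertexCompl` : over an affine open inside `D`, `g` vanishes exactly on the zero section
* `augR_gSec` : `g` is killed by the augmentation (for `m > 0`)
-/

set_option autoImplicit false
set_option linter.style.haveILetI false
set_option linter.unusedSectionVars false
universe u
open CategoryTheory CategoryTheory.Limits AlgebraicGeometry TopologicalSpace Opposite
open scoped HomogeneousIdeal

namespace Groth.Agent.Lib.T2H4.Grauert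
open Groth.Agent.Lib.T2H4.PowMap Groth.Agent.Helper13SpecQMap Groth.Agent.Helper13RelProj
open Groth.Agent.Lib.Helper27Cone
open Groth.Agent.Lib.Helper23.SecTw Groth.Agent.Lib.Helper23.GenLocus Groth.Agent.Lib.Helper6
open Groth.Agent.Helper13RL Groth.Agent.Helper13SymAlg
open Groth.Agent.Helper13GrPoly Groth.Agent.Helper13ProjLine Groth.Agent.Lib.Helper23.GenNear

noncomputable section

section spec

variable {X : Scheme.{u}} (A : RelSpec.QCAlg X)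

/-- the part of the relative spectrum over a basic open `D(a)` of the base is `D(a)` -/
theorem π_ι_mem_basicOpen_iff {W : X.Opens} (hW : IsAffineOpen W) (a : Γ(X, W))
    (𝔳 : Spec (A.presheaf.obj (op W))) :
    A.π.base ((A.ι W hW).base 𝔳) ∈ X.basicOpen a ↔ (A.str.app (op W)).hom a ∉ 𝔳.asIdeal := by
  rw [← Scheme.Hom.comp_apply, A.ι_π]
  have h1 : (Spec.map (A.str.app (op W)) ≫ hW.fromSpec).base 𝔳 ∈ X.basicOpen a ↔
      (Spec.map (A.str.app (op W))).base 𝔳 ∈ hW.fromSpec ⁻¹ᵁ X.basicOpen a := Iff.rfl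
  rw [h1, hW.fromSpec_preimage_basicOpen]
  rfl

/-- points over a basic open come from the chart over it -/
theorem exists_point_over_spec {V : X.Opens} (hV : IsAffineOpen V) (ρ : Γ(X, V))
    (𝔳 : Spec (A.presheaf.obj (op V))) (h𝔳 : A.π.base ((A.ι V hV).base 𝔳) ∈ X.basicOpen ρ) :
    ∃ 𝔳' : Spec (A.presheaf.obj (op (X.basicOpen ρ))),
      (Spec.map (A.presheaf.map (homOfLE (X.basicOpen_le ρ)).op)).base 𝔳' = 𝔳 ∧
        (A.ι (X.basicOpen ρ) (hV.basicOpen ρ)).base 𝔳' = (A.ι V hV).base 𝔳 := by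
  obtain ⟨𝔳', h𝔳'⟩ := (mem_range_ι_iff A (hV.basicOpen ρ) _).mpr h𝔳
  refine ⟨𝔳', ?_, h𝔳'⟩
  apply (A.ι V hV).isOpenEmbedding.injective
  rw [← h𝔳', ← Scheme.Hom.comp_apply, ι_res_le A hV (hV.basicOpen ρ) (X.basicOpen_le ρ)]

/-- membership of a restriction in the prime of a chart over a basic open -/
theorem rs_mem_iff {V : X.Opens} (hV : IsAffineOpen V) (ρ : Γ(X, V))
    (𝔳' : Spec (A.presheaf.obj (op (X.basicOpen ρ)))) (t : A.presheaf.obj (op V)) :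
    rs A (X.basicOpen_le ρ) t ∈ 𝔳'.asIdeal ↔
      t ∈ ((Spec.map (A.presheaf.map (homOfLE (X.basicOpen_le ρ)).op)).base 𝔳').asIdeal := Iff.rfl

end spec

section main

variable {X : Scheme.{u}} (L : X.Modules) [L.IsQuasicoherent] (hL : PicF.IsInvertible L)
  (𝒮L : RelProj.QCGrAlg X) (jL : L ⟶ 𝒮L.toModule) (hjL : RelProj.IsGrSymAlg L 𝒮L jL)
  {W : X.Opens} {m : ℕ} (σ : Γ(CohB1.tensorPow L m, W)) {D : X.Opens}
  (hσ : ∀ (V : X.Opens) (hV : V ≤ W), IsGen (CohB1.tensorPow L m) V (res (CohB1.tensorPow L m) hV σ) ↔ V ≤ D)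

include hL hσ in
/-- a point of `V(L)` where `g` does not vanish lies over `D` -/
theorem π_mem_of_not_mem (W' : X.Opens) (hW' : IsAffineOpen W') (hW'W : W' ≤ W)
    (𝔳 : Spec (𝒮L.presheaf.obj (op W')))
    (h𝔳 : rs 𝒮L.toQCAlg hW'W (gSec L 𝒮L jL σ) ∉ 𝔳.asIdeal) :
    𝒮L.toQCAlg.π.base ((𝒮L.toQCAlg.ι W' hW').base 𝔳) ∈ D := by
  have hx : 𝒮L.toQCAlg.π.base ((𝒮L.toQCAlg.ι W' hW').base 𝔳) ∈ W' := ι_π_mem 𝒮L.toQCAlg hW' 𝔳
  obtain ⟨ρ, hxρ, b, c, hg, hD⟩ := exists_locStr L hL 𝒮L jL σ hσ W' hW' hW'W _ hx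
  obtain ⟨𝔳', h𝔳', hι⟩ := exists_point_over_spec 𝒮L.toQCAlg hW' ρ 𝔳 hxρ
  have h1 : rs 𝒮L.toQCAlg ((X.basicOpen_le ρ).trans hW'W) (gSec L 𝒮L jL σ) ∉ 𝔳'.asIdeal := by
    rw [← rs_rs 𝒮L.toQCAlg hW'W (X.basicOpen_le ρ), rs_mem_iff 𝒮L.toQCAlg hW' ρ 𝔳', h𝔳']
    exact h𝔳
  rw [hg] at h1
  have h2 : (𝒮L.str.app (op (X.basicOpen ρ))).hom c ∉ 𝔳'.asIdeal := fun hc => h1 (Ideal.mul_mem_right _ _ hc)
  have h3 := (π_ι_mem_basicOpen_iff 𝒮L.toQCAlg (hW'.basicOpen ρ) c 𝔳').mpr h2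
  rw [hι, ← hD] at h3
  exact h3.1

include hL hjL hσ in
/-- over an affine open inside `D`, `g` vanishes exactly on the zero section -/
theorem not_mem_iff_mem_vertexCompl (hm : 0 < m) (W' : X.Opens) (hW' : IsAffineOpen W') (hW'W : W' ≤ W)
    (hW'D : W' ≤ D) (𝔳 : Spec (𝒮L.presheaf.obj (op W'))) :
    rs 𝒮L.toQCAlg hW'W (gSec L 𝒮L jL σ) ∉ 𝔳.asIdeal ↔ 𝔳 ∈ RelCone.vertexCompl (𝒮L.deg W' hW') := by
  rw [mem_vertexCompl_iff]
  constructor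
  · intro h1 h2
    apply h1
    apply h2
    exact HomogeneousIdeal.mem_irrelevant_of_mem _ hm (gSec_mem_deg L hL 𝒮L jL hjL σ hσ W' hW' hW'W)
  · intro h1 h2
    have hx : 𝒮L.toQCAlg.π.base ((𝒮L.toQCAlg.ι W' hW').base 𝔳) ∈ W' := ι_π_mem 𝒮L.toQCAlg hW' 𝔳
    obtain ⟨ρ, hxρ, b, c, hg, hD⟩ := exists_locStr L hL 𝒮L jL σ hσ W' hW' hW'W _ hx
    obtain ⟨𝔳', h𝔳', hι⟩ := exists_point_over_spec 𝒮L.toQCAlg hW' ρ 𝔳 hxρ
    have hV : IsAffineOpen (X.basicOpen ρ) := hW'.basicOpen ρ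
    -- `𝔳'` is not in the vertex
    have h3 : 𝔳' ∈ RelCone.vertexCompl (𝒮L.deg (X.basicOpen ρ) hV) := by
      have := (mem_vertexCompl_res 𝒮L W' hW' ρ _ hV rfl 𝔳').mp
      apply this
      rw [mem_vertexCompl_iff]
      have e : (Spec.map (𝒮L.presheaf.map (homOfLE ((rfl : X.basicOpen ρ = X.basicOpen ρ).le.trans
          (X.basicOpen_le ρ))).op)).base 𝔳' = 𝔳 := h𝔳'
      rw [show (Spec.map (𝒮L.presheaf.map (homOfLE ((rfl : X.basicOpen ρ = X.basicOpen ρ).le.trans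
          (X.basicOpen_le ρ))).op)) 𝔳' = 𝔳 from e]
      exact h1
    rw [mem_vertexCompl_iff] at h3
    apply h3
    -- `g ∈ 𝔳'`
    have h4 : rs 𝒮L.toQCAlg ((X.basicOpen_le ρ).trans hW'W) (gSec L 𝒮L jL σ) ∈ 𝔳'.asIdeal := by
      rw [← rs_rs 𝒮L.toQCAlg hW'W (X.basicOpen_le ρ), rs_mem_iff 𝒮L.toQCAlg hW' ρ 𝔳', h𝔳']
      exact h2
    rw [hg] at h4
    -- `c` does not vanish at the point
    have h5 : X.basicOpen ρ ≤ X.basicOpen c := by
      rw [← hD]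
      exact le_inf ((X.basicOpen_le ρ).trans hW'D) le_rfl
    have hcu' : (𝒮L.str.app (op (X.basicOpen ρ))).hom c ∉ 𝔳'.asIdeal :=
      (π_ι_mem_basicOpen_iff 𝒮L.toQCAlg hV c 𝔳').mp (h5 (ι_π_mem 𝒮L.toQCAlg hV 𝔳'))
    have h7 : (φAdd L 𝒮L.toQCAlg jL (X.basicOpen ρ) (b 0)) ^ m ∈ 𝔳'.asIdeal := by
      rcases 𝔳'.isPrime.mem_or_mem h4 with h8 | h8
      · exact absurd h8 hcu'
      · exact h8
    have h8 : φAdd L 𝒮L.toQCAlg jL (X.basicOpen ρ) (b 0) ∈ 𝔳'.asIdeal := 𝔳'.isPrime.mem_of_pow_mem m h7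
    have hT1 : φAdd L 𝒮L.toQCAlg jL (X.basicOpen ρ) (b 0) ∈ 𝒮L.deg (X.basicOpen ρ) hV 1 := hjL.2 _ hV (b 0)
    have hpoly := bijective_eval₂ L 𝒮L jL hjL hV b
    refine (irrelevant_le_span (𝒮L.deg (X.basicOpen ρ) hV) (𝒮L.str.app (op (X.basicOpen ρ))).hom
      (𝒮L.str_mem _ hV) _ hT1 hpoly).trans ?_
    rw [Ideal.span_singleton_le_iff_mem]
    exact h8

include hL hjL hσ in
/-- `g` is killed by the augmentation -/
theorem augR_gSec (hm : 0 < m) (aug : 𝒮L.toQCAlg ⟶ RelSpec.QCAlg.unit X) (haug : RelCone.IsAugmentation 𝒮L aug) :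
    augR 𝒮L.toQCAlg aug W (gSec L 𝒮L jL σ) = 0 := by
  obtain ⟨d, rfl⟩ : ∃ d, m = d + 1 := ⟨m - 1, by omega⟩
  refine TopCat.Sheaf.eq_of_locally_eq' X.sheaf (fun U' : AffIn W => U'.1) W (fun U' => homOfLE U'.2.2)
    (le_iSup_affIn W) _ _ (fun U' => ?_)
  change (X.presheaf.map (homOfLE U'.2.2).op).hom (augR 𝒮L.toQCAlg aug W (gSec L 𝒮L jL σ)) =
    (X.presheaf.map (homOfLE U'.2.2).op).hom 0
  rw [← augR_rs, map_zero]
  exact haug U'.1 U'.2.1 d _ (gSec_mem_deg L hL 𝒮L jL hjL σ hσ U'.1 U'.2.1 U'.2.2)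

end main

end

end Groth.Agent.Lib.T2H4.Grauert
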