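import Mathlib
import Groth.Prelude.Def_RelProj4
import Groth.Agent.Lib.Helper2RelTwistInv
import Groth.Agent.Lib.T2H4GrSymF
import Groth.Agent.Lib.Helper13RLb

/-!
# The canonical sections `a / 1` of `O_P(k)` over the part of a relative Proj above an affine open (helper4)

For `a ∈ 𝒮(U)_k` and `W ≤ p⁻¹(U)`, `canonSec … a` is the section of `O_P(k)` over `W` whose value at every point of the
chart over `U` is `a / 1`.  Additivity, semilinearity over the functions of the base, restriction to basic opens, and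
generation over `D₊(a)`.
-/

set_option autoImplicit false
set_option linter.style.haveILetI false
set_option linter.unusedSectionVars false
set_option linter.unusedVariables false
universe u
open CategoryTheory Limits AlgebraicGeometry TopologicalSpace Opposite
open scoped HomogeneousIdeal

namespace Groth.Agent.Lib.T2H4.RLBridge

open Groth.Agent.Lib.Helper2GrModSect
open Groth.Agent.Lib.Helper2.RelTildeQCoh Groth.Agent.Lib.Helper23.SecTw Groth.Agent.Lib.Helper6
  Groth.Agent.Lib.Helper2.Push Groth.Agent.Lib.Helper2.RelTwistGen Groth.Agent.Lib.Helper2.IsGenCover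
  Groth.Agent.Lib.Helper2.RelTwistTriv Groth.Agent.Lib.Helper2.RelTwistTensor RelProj
  Groth.Agent.Lib.Helper2.RelTwistInv Groth.Agent.Lib.T2H4.GrSym

variable {P S : Scheme.{u}} {𝒮 : RelProj.QCGrAlg S} (p : P ⟶ S)
  (chart : ∀ (U : S.Opens) (hU : IsAffineOpen U), (((p ⁻¹ᵁ U : P.Opens) : Scheme.{u}) ≅ Proj (𝒮.deg U hU)))
  (k : ℤ) (L : P.Modules)
  (lam : ∀ (U : S.Opens) (hU : IsAffineOpen U),
    L ⟶ (Scheme.Modules.pushforward (RelProj.emb p chart U hU)).obj (GrTwist.twist (𝒮.deg U hU) k))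
  (hL : RelProj.IsRelTwist 𝒮 p chart k L lam) {i : ℕ} (hik : (i : ℤ) = ((0 : ℕ) : ℤ) + k)

theorem one_not_mem {A σ : Type u} [CommRing A] [SetLike σ A] [AddSubgroupClass σ A] {𝒜 : ℕ → σ}
    [GradedRing 𝒜] (y : ProjectiveSpectrum 𝒜) : (1 : A) ∉ y.asHomogeneousIdeal := fun h =>
  y.isPrime.ne_top ((Ideal.eq_top_iff_one _).mpr h)

theorem mk_congr'' {R : Type*} [CommRing R] (T : Submonoid R) {a a' b b' : R} (ha : a = a') (hb : b = b')
    (h : b ∈ T) (h' : b' ∈ T) :
    (Localization.mk a ⟨b, h⟩ : Localization T) = Localization.mk a' ⟨b', h'⟩ := by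
  subst ha; subst hb; rfl

include hL in
/-- sections of `O_P(k)` over an open above an affine `U` are determined by their values in the chart over `U` -/
theorem sec_ext_val (U : S.Opens) (hU : IsAffineOpen U) (W : P.Opens) (hW : W ≤ p ⁻¹ᵁ U) (s s' : Γ(L, W))
    (h : ∀ y : ((RelProj.emb p chart U hU) ⁻¹ᵁ W : (Proj (𝒮.deg U hU)).Opens),
      GrTwist.val (V := RelProj.emb p chart U hU ⁻¹ᵁ W) ((lam U hU).app W s) y =
        GrTwist.val (V := RelProj.emb p chart U hU ⁻¹ᵁ W) ((lam U hU).app W s') y) : s = s' := by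
  apply (hL.bijective U hU W hW).1
  exact twist_ext _ _ _ _ h

include hL hik in
theorem exists_canonSec (U : S.Opens) (hU : IsAffineOpen U) (W : P.Opens) (hW : W ≤ p ⁻¹ᵁ U)
    {a : 𝒮.presheaf.obj (op U)} (ha : a ∈ 𝒮.deg U hU i) :
    ∃ s : Γ(L, W), ∀ y : ((RelProj.emb p chart U hU) ⁻¹ᵁ W : (Proj (𝒮.deg U hU)).Opens),
      GrTwist.val (V := RelProj.emb p chart U hU ⁻¹ᵁ W) ((lam U hU).app W s) y =
        Localization.mk a (1 : y.1.asHomogeneousIdeal.toIdeal.primeCompl) := by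
  obtain ⟨e, he⟩ := (hL.bijective U hU W hW).2
    (Groth.Agent.Lib.Helper2GrModSect.fracSec (𝒮.deg U hU) k _ ha
      (SetLike.GradedOne.one_mem : (1 : 𝒮.presheaf.obj (op U)) ∈ 𝒮.deg U hU 0) hik
      (fun y => one_not_mem y.1))
  refine ⟨e, fun y => ?_⟩
  exact (congrArg (fun σ : Γ(GrTwist.twist (𝒮.deg U hU) k, (RelProj.emb p chart U hU) ⁻¹ᵁ W) =>
    GrTwist.val σ y) he).trans rfl

/-- the canonical section `a / 1` of `O_P(k)` over `W ≤ p⁻¹(U)` -/
noncomputable def canonSec (U : S.Opens) (hU : IsAffineOpen U) (W : P.Opens) (hW : W ≤ p ⁻¹ᵁ U)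
    {a : 𝒮.presheaf.obj (op U)} (ha : a ∈ 𝒮.deg U hU i) : Γ(L, W) :=
  (exists_canonSec p chart k L lam hL hik U hU W hW ha).choose

theorem val_canonSec (U : S.Opens) (hU : IsAffineOpen U) (W : P.Opens) (hW : W ≤ p ⁻¹ᵁ U)
    {a : 𝒮.presheaf.obj (op U)} (ha : a ∈ 𝒮.deg U hU i)
    (y : ((RelProj.emb p chart U hU) ⁻¹ᵁ W : (Proj (𝒮.deg U hU)).Opens)) :
    GrTwist.val (V := RelProj.emb p chart U hU ⁻¹ᵁ W)
      ((lam U hU).app W (canonSec p chart k L lam hL hik U hU W hW ha)) y =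
        Localization.mk a (1 : y.1.asHomogeneousIdeal.toIdeal.primeCompl) :=
  (exists_canonSec p chart k L lam hL hik U hU W hW ha).choose_spec y

theorem canonSec_unique (U : S.Opens) (hU : IsAffineOpen U) (W : P.Opens) (hW : W ≤ p ⁻¹ᵁ U)
    {a : 𝒮.presheaf.obj (op U)} (ha : a ∈ 𝒮.deg U hU i) (s : Γ(L, W))
    (hs : ∀ y : ((RelProj.emb p chart U hU) ⁻¹ᵁ W : (Proj (𝒮.deg U hU)).Opens),
      GrTwist.val (V := RelProj.emb p chart U hU ⁻¹ᵁ W) ((lam U hU).app W s) y =
        Localization.mk a (1 : y.1.asHomogeneousIdeal.toIdeal.primeCompl)) :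
    s = canonSec p chart k L lam hL hik U hU W hW ha :=
  sec_ext_val p chart k L lam hL U hU W hW _ _ fun y => by rw [hs, val_canonSec]

theorem canonSec_congr (U : S.Opens) (hU : IsAffineOpen U) (W : P.Opens) (hW : W ≤ p ⁻¹ᵁ U)
    {a a' : 𝒮.presheaf.obj (op U)} (ha : a ∈ 𝒮.deg U hU i) (ha' : a' ∈ 𝒮.deg U hU i) (h : a = a') :
    canonSec p chart k L lam hL hik U hU W hW ha = canonSec p chart k L lam hL hik U hU W hW ha' := by
  subst h; rfl

/-- the value of a scalar multiple in a chart -/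
theorem val_lam_smul (U : S.Opens) (hU : IsAffineOpen U) (W : P.Opens) (c : Γ(P, W)) (s : Γ(L, W))
    (y : ((RelProj.emb p chart U hU) ⁻¹ᵁ W : (Proj (𝒮.deg U hU)).Opens)) :
    GrTwist.val (V := RelProj.emb p chart U hU ⁻¹ᵁ W) ((lam U hU).app W (c • s)) y =
      (funVal (𝒮.deg U hU) _ ((RelProj.emb p chart U hU).app W c) y.1 y.2).val *
        GrTwist.val (V := RelProj.emb p chart U hU ⁻¹ᵁ W) ((lam U hU).app W s) y := by
  rw [Scheme.Modules.Hom.app_smul, Groth.Agent.Lib.Helper2.Push.pushforward_smul]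
  rfl

theorem val_lam_add (U : S.Opens) (hU : IsAffineOpen U) (W : P.Opens) (s s' : Γ(L, W))
    (y : ((RelProj.emb p chart U hU) ⁻¹ᵁ W : (Proj (𝒮.deg U hU)).Opens)) :
    GrTwist.val (V := RelProj.emb p chart U hU ⁻¹ᵁ W) ((lam U hU).app W (s + s')) y =
      GrTwist.val (V := RelProj.emb p chart U hU ⁻¹ᵁ W) ((lam U hU).app W s) y +
        GrTwist.val (V := RelProj.emb p chart U hU ⁻¹ᵁ W) ((lam U hU).app W s') y := by
  rw [map_add]
  rfl

theorem canonSec_add (U : S.Opens) (hU : IsAffineOpen U) (W : P.Opens) (hW : W ≤ p ⁻¹ᵁ U)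
    {a a' : 𝒮.presheaf.obj (op U)} (ha : a ∈ 𝒮.deg U hU i) (ha' : a' ∈ 𝒮.deg U hU i) :
    canonSec p chart k L lam hL hik U hU W hW (add_mem ha ha') =
      canonSec p chart k L lam hL hik U hU W hW ha + canonSec p chart k L lam hL hik U hU W hW ha' := by
  symm
  apply canonSec_unique
  intro y
  rw [val_lam_add, val_canonSec, val_canonSec, Localization.add_mk_self]

/-- semilinearity over the functions of the base -/
theorem canonSec_str_mul (hP : RelProj.IsRelProj 𝒮 p chart) (U : S.Opens) (hU : IsAffineOpen U) (W : P.Opens)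
    (hW : W ≤ p ⁻¹ᵁ U) (γ : Γ(S, U)) {a : 𝒮.presheaf.obj (op U)} (ha : a ∈ 𝒮.deg U hU i)
    (ha' : (𝒮.str.app (op U)).hom γ * a ∈ 𝒮.deg U hU i) :
    canonSec p chart k L lam hL hik U hU W hW ha' =
      (p.appLE U W hW γ) • canonSec p chart k L lam hL hik U hU W hW ha := by
  symm
  apply canonSec_unique
  intro y
  obtain ⟨m, t, hm, ht, hyt⟩ := Groth.Agent.Helper13RL.exists_mem_basicOpen_pos (𝒮.deg U hU) y.1
  rw [val_lam_smul, val_canonSec,
    funVal_appLE_str hP U hU γ W hW y.1 y.2 ht hm ((ProjectiveSpectrum.mem_basicOpen _ t y.1).mp hyt),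
    Localization.mk_mul, one_mul]

/-- restriction to the part above a basic open of the base -/
theorem res_canonSec (hP : RelProj.IsRelProj 𝒮 p chart) (U : S.Opens) (hU : IsAffineOpen U) (r : Γ(S, U))
    (U'' : S.Opens) (hU'' : IsAffineOpen U'') (hr : U'' = S.basicOpen r) (hle : U'' ≤ U)
    (W : P.Opens) (hW : W ≤ p ⁻¹ᵁ U) (W'' : P.Opens) (hW'' : W'' ≤ p ⁻¹ᵁ U'') (hWW : W'' ≤ W)
    {a : 𝒮.presheaf.obj (op U)} (ha : a ∈ 𝒮.deg U hU i) :
    res L hWW (canonSec p chart k L lam hL hik U hU W hW ha) =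
      canonSec p chart k L lam hL hik U'' hU'' W'' hW'' ((𝒮.res hU hU'' hle).map_mem ha) := by
  apply canonSec_unique
  intro y
  obtain ⟨hb, hv⟩ := val_lam_res p chart k L lam hL hP U hU r U'' hU'' hr hle W
    (canonSec p chart k L lam hL hik U hU W hW ha) a 1 (fun y => one_not_mem y.1)
    (fun y => val_canonSec p chart k L lam hL hik U hU W hW ha y) W'' hWW y.1 y.2
  rw [hv]
  exact mk_congr'' _ rfl (map_one _) _ _

/-- the canonical section `a / 1` generates `O_P(k)` where `a` does not vanish -/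
theorem isGen_canonSec (U : S.Opens) (hU : IsAffineOpen U) (W : P.Opens) (hW : W ≤ p ⁻¹ᵁ U)
    {a : 𝒮.presheaf.obj (op U)} (ha : a ∈ 𝒮.deg U hU i)
    (hWa : ∀ y : ((RelProj.emb p chart U hU) ⁻¹ᵁ W : (Proj (𝒮.deg U hU)).Opens), a ∉ y.1.asHomogeneousIdeal) :
    IsGen L W (canonSec p chart k L lam hL hik U hU W hW ha) := by
  obtain ⟨e, heg, hev⟩ := exists_frame p chart k L lam hL U hU W hW ha
    (SetLike.GradedOne.one_mem : (1 : 𝒮.presheaf.obj (op U)) ∈ 𝒮.deg U hU 0) hik hWa (fun y => one_not_mem y.1)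
  have h1 : e = canonSec p chart k L lam hL hik U hU W hW ha :=
    canonSec_unique p chart k L lam hL hik U hU W hW ha e (fun y => (hev y).trans rfl)
  rw [← h1]
  exact heg

end Groth.Agent.Lib.T2H4.RLBridge
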