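import Mathlib
import Groth.Prelude.Def_RelProj4
import Groth.Agent.Lib.T2H4RLBridgeD
import Groth.Agent.Lib.T2H4GrSymG
import Groth.Agent.Lib.Helper13ModBasis

/-!
# The canonical map `E ⟶ p_* O_P(1)` of a relative Proj with a degree-one module map `j : E ⟶ 𝒮` (helper4)

* `res_canonSec_affine` : canonical sections restrict to canonical sections above a smaller affine open;
* `exists_canonMap` : the morphism of modules `φ : E ⟶ p_* O_P(1)` with `φ(e) = j(e) / 1` over affine opens.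
-/

set_option autoImplicit false
set_option linter.style.haveILetI false
set_option linter.unusedSectionVars false
set_option linter.unusedVariables false
universe u
open CategoryTheory Limits AlgebraicGeometry TopologicalSpace Opposite
open scoped HomogeneousIdeal

namespace Groth.Agent.Lib.T2H4.RLBridge

open Groth.Agent.Lib.Helper2GrModSect
open Groth.Agent.Lib.Helper2.RelTildeQCoh Groth.Agent.Lib.Helper23.SecTw Groth.Agent.Lib.Helper6
  Groth.Agent.Lib.Helper2.Push Groth.Agent.Lib.Helper2.RelTwistGen Groth.Agent.Lib.Helper2.IsGenCover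
  Groth.Agent.Lib.Helper2.RelTwistTriv Groth.Agent.Lib.Helper2.RelTwistTensor RelProj
  Groth.Agent.Lib.Helper2.RelTwistInv Groth.Agent.Lib.T2H4.GrSym

variable {P S : Scheme.{u}} {𝒮 : RelProj.QCGrAlg S} (p : P ⟶ S)
  (chart : ∀ (U : S.Opens) (hU : IsAffineOpen U), (((p ⁻¹ᵁ U : P.Opens) : Scheme.{u}) ≅ Proj (𝒮.deg U hU)))
  (k : ℤ) (L : P.Modules)
  (lam : ∀ (U : S.Opens) (hU : IsAffineOpen U),
    L ⟶ (Scheme.Modules.pushforward (RelProj.emb p chart U hU)).obj (GrTwist.twist (𝒮.deg U hU) k))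
  (hL : RelProj.IsRelTwist 𝒮 p chart k L lam) {i : ℕ} (hik : (i : ℤ) = ((0 : ℕ) : ℤ) + k)

/-- canonical sections restrict to canonical sections above a smaller affine open -/
theorem res_canonSec_affine (hP : RelProj.IsRelProj 𝒮 p chart) (U : S.Opens) (hU : IsAffineOpen U)
    (U' : S.Opens) (hU' : IsAffineOpen U') (hle : U' ≤ U)
    {a : 𝒮.presheaf.obj (op U)} (ha : a ∈ 𝒮.deg U hU i) :
    res L (p.preimage_mono hle) (canonSec p chart k L lam hL hik U hU (p ⁻¹ᵁ U) le_rfl ha) =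
      canonSec p chart k L lam hL hik U' hU' (p ⁻¹ᵁ U') le_rfl ((𝒮.res hU hU' hle).map_mem ha) := by
  have key : ∀ z : (p ⁻¹ᵁ U' : P.Opens), ∃ (O : P.Opens) (hO : O ≤ p ⁻¹ᵁ U'), z.1 ∈ O ∧
      res L hO (res L (p.preimage_mono hle) (canonSec p chart k L lam hL hik U hU (p ⁻¹ᵁ U) le_rfl ha)) =
      res L hO (canonSec p chart k L lam hL hik U' hU' (p ⁻¹ᵁ U') le_rfl ((𝒮.res hU hU' hle).map_mem ha)) := by
    intro z
    obtain ⟨f, g, hfg, hzf⟩ := exists_basicOpen_le_affine_inter hU' hU (p z.1) ⟨z.2, hle z.2⟩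
    have hDU' : S.basicOpen f ≤ U' := S.basicOpen_le f
    have hDU : S.basicOpen f ≤ U := hDU'.trans hle
    refine ⟨p ⁻¹ᵁ (S.basicOpen f), p.preimage_mono hDU', hzf, ?_⟩
    rw [res_res]
    rw [res_canonSec p chart k L lam hL hik hP U hU g (S.basicOpen f) (hU'.basicOpen f) hfg hDU (p ⁻¹ᵁ U) le_rfl
      (p ⁻¹ᵁ (S.basicOpen f)) le_rfl (p.preimage_mono hDU) ha]
    rw [res_canonSec p chart k L lam hL hik hP U' hU' f (S.basicOpen f) (hU'.basicOpen f) rfl hDU' (p ⁻¹ᵁ U') le_rfl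
      (p ⁻¹ᵁ (S.basicOpen f)) le_rfl (p.preimage_mono hDU') ((𝒮.res hU hU' hle).map_mem ha)]
    apply canonSec_congr
    change (𝒮.presheaf.map (homOfLE hDU).op).hom a =
      (𝒮.presheaf.map (homOfLE hDU').op).hom ((𝒮.presheaf.map (homOfLE hle).op).hom a)
    rw [← CommRingCat.comp_apply, ← Functor.map_comp]
    rfl
  choose O hO hzO hres using key
  refine (modSheaf L).eq_of_locally_eq' (fun z : (p ⁻¹ᵁ U' : P.Opens) => O z) _ (fun z => homOfLE (hO z)) ?_ _ _ hres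
  intro z hz
  exact Opens.mem_iSup.mpr ⟨⟨z, hz⟩, hzO _⟩

variable (E : S.Modules) (j : E ⟶ 𝒮.toModule)
  (hj1 : ∀ (U : S.Opens) (hU : IsAffineOpen U) (x : Γ(E, U)), (j.app U) x ∈ 𝒮.deg U hU 1)
  (O1 : P.Modules)
  (lam1 : ∀ (U : S.Opens) (hU : IsAffineOpen U),
    O1 ⟶ (Scheme.Modules.pushforward (RelProj.emb p chart U hU)).obj (GrTwist.twist (𝒮.deg U hU) 1))
  (hO1 : RelProj.IsRelTwist 𝒮 p chart 1 O1 lam1)

/-- **the canonical map `E ⟶ p_* O_P(1)`**, reading `j(e) / 1` in the charts -/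
theorem exists_canonMap (hP : RelProj.IsRelProj 𝒮 p chart) :
    ∃ φ : E ⟶ (Scheme.Modules.pushforward p).obj O1, ∀ (U : S.Opens) (hU : IsAffineOpen U) (e : Γ(E, U)),
      φ.app U e = canonSec p chart 1 O1 lam1 hO1 one_eq U hU (p ⁻¹ᵁ U) le_rfl (hj1 U hU e) := by
  let B : S.affineOpens → S.Opens := fun U => U.1
  have hB : Opens.IsBasis (Set.range B) := by
    have h1 : Set.range B = S.affineOpens := by
      ext U
      constructor
      · rintro ⟨V, rfl⟩
        exact V.2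
      · intro hU
        exact ⟨⟨U, hU⟩, rfl⟩
    rw [h1]
    exact S.isBasis_affineOpens
  let d : ∀ U : S.affineOpens, Γ(E, B U) ⟶ Γ((Scheme.Modules.pushforward p).obj O1, B U) := fun U =>
    AddCommGrpCat.ofHom (AddMonoidHom.mk'
      (fun e : Γ(E, U.1) => (canonSec p chart 1 O1 lam1 hO1 one_eq U.1 U.2 (p ⁻¹ᵁ U.1) le_rfl (hj1 U.1 U.2 e) :
        Γ((Scheme.Modules.pushforward p).obj O1, U.1)))
      (by
        intro e e'
        have h1 : ((j.app U.1) (e + e') : 𝒮.presheaf.obj (op U.1)) =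
            ((j.app U.1) e : 𝒮.presheaf.obj (op U.1)) + ((j.app U.1) e' : 𝒮.presheaf.obj (op U.1)) :=
          map_add _ _ _
        rw [canonSec_congr p chart 1 O1 lam1 hO1 one_eq U.1 U.2 (p ⁻¹ᵁ U.1) le_rfl (hj1 U.1 U.2 (e + e'))
          (add_mem (hj1 U.1 U.2 e) (hj1 U.1 U.2 e')) h1]
        exact canonSec_add p chart 1 O1 lam1 hO1 one_eq U.1 U.2 (p ⁻¹ᵁ U.1) le_rfl _ _))
  have hd : ∀ (U : S.affineOpens) (e : Γ(E, U.1)),
      d U e = canonSec p chart 1 O1 lam1 hO1 one_eq U.1 U.2 (p ⁻¹ᵁ U.1) le_rfl (hj1 U.1 U.2 e) := fun U e => rfl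
  have nat : ∀ (U U' : S.affineOpens) (h : B U' ≤ B U),
      E.presheaf.map (homOfLE h).op ≫ d U' =
        d U ≫ ((Scheme.Modules.pushforward p).obj O1).presheaf.map (homOfLE h).op := by
    intro U U' h
    ext e
    change d U' (res E h e) = res O1 (p.preimage_mono h) (d U e)
    rw [hd, hd, res_canonSec_affine p chart 1 O1 lam1 hO1 one_eq hP U.1 U.2 U'.1 U'.2 h]
    apply canonSec_congr
    exact (res_j_app E j U.2 U'.2 h e).symm
  have lin : ∀ (U : S.affineOpens) (a : Γ(S, B U)) (m : Γ(E, B U)), d U (a • m) = a • d U m := by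
    intro U a m
    rw [hd, hd]
    have h1 := j_app_smul E j a m
    rw [canonSec_congr p chart 1 O1 lam1 hO1 one_eq U.1 U.2 (p ⁻¹ᵁ U.1) le_rfl (hj1 U.1 U.2 (a • m))
      (h1 ▸ hj1 U.1 U.2 (a • m)) h1,
      canonSec_str_mul p chart 1 O1 lam1 hO1 one_eq hP U.1 U.2 (p ⁻¹ᵁ U.1) le_rfl a (hj1 U.1 U.2 m)]
    rw [Groth.Agent.Lib.Helper2.Push.pushforward_smul]
    congr 1
    exact congrArg (fun t => t.hom a) (Scheme.Hom.app_eq_appLE p).symm
  refine ⟨Groth.Agent.Helper13ModBasis.homOfBasis B hB d nat lin, fun U hU e => ?_⟩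
  have h1 := Groth.Agent.Helper13ModBasis.homOfBasis_app B hB d nat lin ⟨U, hU⟩
  exact (CategoryTheory.congr_fun h1 e).trans (hd ⟨U, hU⟩ e)

end Groth.Agent.Lib.T2H4.RLBridge
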