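import Mathlib

/-!
# Generators of the degree-zero localization `A_(f)`, `f` of degree one, for a general grading type (helper4)

If a graded ring `A` is generated, as a ring, by a set `S₀` of elements of degree zero and a set `G` of elements of degree
one, then a subring of `A_(f)` containing the fractions `s / 1` (`s ∈ S₀`) and `g / f` (`g ∈ G`) is everything; hence two
ring homomorphisms out of `A_(f)` agreeing on these fractions are equal.  (General `SetLike` gradings; a version for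
`Submodule` gradings is helper27's `Helper27AwayGen.subring_eq_top`.)
-/

set_option autoImplicit false
universe u

open HomogeneousLocalization

namespace Groth.Agent.Lib.T2H4.RLBridge

variable {A σ : Type u} [CommRing A] [SetLike σ A] [AddSubgroupClass σ A] (𝒜 : ℕ → σ) [GradedRing 𝒜]
variable {f : A} (hf : f ∈ 𝒜 1)

/-- the fraction `a / f^k` for `a` of degree `k` -/
def amk (k : ℕ) (a : A) (ha : a ∈ 𝒜 k) : Away 𝒜 f :=
  Away.mk 𝒜 hf k a (by simpa using ha)

theorem val_amk (k : ℕ) (a : A) (ha : a ∈ 𝒜 k) :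
    (amk 𝒜 hf k a ha).val = Localization.mk a ⟨f ^ k, by use k⟩ := by
  rw [amk, Away.val_mk]

theorem amk_congr (k : ℕ) {a b : A} (ha : a ∈ 𝒜 k) (hb : b ∈ 𝒜 k) (h : a = b) :
    amk 𝒜 hf k a ha = amk 𝒜 hf k b hb := by
  subst h; rfl

theorem amk_zero (k : ℕ) : amk 𝒜 hf k 0 (zero_mem _) = 0 := by
  apply HomogeneousLocalization.val_injective
  rw [val_amk, HomogeneousLocalization.val_zero, Localization.mk_zero]

theorem amk_one : amk 𝒜 hf 0 1 SetLike.GradedOne.one_mem = 1 := by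
  apply HomogeneousLocalization.val_injective
  rw [val_amk, HomogeneousLocalization.val_one]
  simp only [pow_zero]
  exact Localization.mk_one

theorem amk_add (k : ℕ) (a b : A) (ha : a ∈ 𝒜 k) (hb : b ∈ 𝒜 k) :
    amk 𝒜 hf k (a + b) (add_mem ha hb) = amk 𝒜 hf k a ha + amk 𝒜 hf k b hb := by
  apply HomogeneousLocalization.val_injective
  rw [HomogeneousLocalization.val_add, val_amk, val_amk, val_amk, Localization.add_mk_self]

theorem amk_neg (k : ℕ) (a : A) (ha : a ∈ 𝒜 k) :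
    amk 𝒜 hf k (-a) (neg_mem ha) = -amk 𝒜 hf k a ha := by
  apply HomogeneousLocalization.val_injective
  rw [HomogeneousLocalization.val_neg, val_amk, val_amk, Localization.neg_mk]

theorem amk_mul (k l : ℕ) (a b : A) (ha : a ∈ 𝒜 k) (hb : b ∈ 𝒜 l) :
    amk 𝒜 hf (k + l) (a * b) (SetLike.mul_mem_graded ha hb) =
      amk 𝒜 hf k a ha * amk 𝒜 hf l b hb := by
  apply HomogeneousLocalization.val_injective
  rw [HomogeneousLocalization.val_mul, val_amk, val_amk, val_amk, Localization.mk_mul]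
  congr 1
  ext
  simp [pow_add]

theorem exists_amk_surjective (x : Away 𝒜 f) : ∃ (k : ℕ) (a : A) (ha : a ∈ 𝒜 k),
    amk 𝒜 hf k a ha = x := by
  obtain ⟨n, a, ha, rfl⟩ := Away.mk_surjective 𝒜 hf x
  exact ⟨n, a, by simpa using ha, rfl⟩

/-- **a subring of `A_(f)` containing the fractions of a generating family of degrees zero and one is everything** -/
theorem away_subring_eq_top (S₀ : Set A) (hS₀ : ∀ s ∈ S₀, s ∈ 𝒜 0) (G : Set A) (hG : ∀ g ∈ G, g ∈ 𝒜 1)
    (hgen : Subring.closure (S₀ ∪ G) = ⊤) (T : Subring (Away 𝒜 f))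
    (h0 : ∀ s (hs : s ∈ S₀), amk 𝒜 hf 0 s (hS₀ s hs) ∈ T)
    (h1 : ∀ g (hg : g ∈ G), amk 𝒜 hf 1 g (hG g hg) ∈ T) : T = ⊤ := by
  classical
  -- monomials
  have m1 : ∀ m ∈ Submonoid.closure (S₀ ∪ G), ∃ (k : ℕ) (hk : m ∈ 𝒜 k), amk 𝒜 hf k m hk ∈ T := by
    intro m hm
    induction hm using Submonoid.closure_induction with
    | mem x hx =>
      rcases hx with hx | hx
      · exact ⟨0, hS₀ x hx, h0 x hx⟩
      · exact ⟨1, hG x hx, h1 x hx⟩
    | one => exact ⟨0, SetLike.GradedOne.one_mem, by rw [amk_one]; exact T.one_mem⟩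
    | mul x y _ _ hx hy =>
      obtain ⟨k, hk, hxE⟩ := hx
      obtain ⟨l, hl, hyE⟩ := hy
      exact ⟨k + l, SetLike.mul_mem_graded hk hl, by
        rw [amk_mul 𝒜 hf k l x y hk hl]; exact T.mul_mem hxE hyE⟩
  -- sums, componentwise
  have m2 : ∀ a ∈ AddSubgroup.closure (Submonoid.closure (S₀ ∪ G) : Set A), ∀ k : ℕ,
      amk 𝒜 hf k (DirectSum.decompose 𝒜 a k : A) (SetLike.coe_mem _) ∈ T := by
    intro a ha
    induction ha using AddSubgroup.closure_induction with
    | mem m hm =>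
      intro k
      obtain ⟨km, hkm, hmE⟩ := m1 m hm
      by_cases hk : km = k
      · subst hk
        have e : (DirectSum.decompose 𝒜 m km : A) = m := DirectSum.decompose_of_mem_same 𝒜 hkm
        rw [amk_congr 𝒜 hf km (SetLike.coe_mem _) hkm e]
        exact hmE
      · have e : (DirectSum.decompose 𝒜 m k : A) = 0 := DirectSum.decompose_of_mem_ne 𝒜 hkm hk
        rw [amk_congr 𝒜 hf k (SetLike.coe_mem _) (zero_mem _) e, amk_zero]
        exact T.zero_mem
    | zero =>
      intro k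
      have e : (DirectSum.decompose 𝒜 (0 : A) k : A) = 0 := by simp
      rw [amk_congr 𝒜 hf k (SetLike.coe_mem _) (zero_mem _) e, amk_zero]
      exact T.zero_mem
    | add x y _ _ hx hy =>
      intro k
      have e : (DirectSum.decompose 𝒜 (x + y) k : A) =
          (DirectSum.decompose 𝒜 x k : A) + (DirectSum.decompose 𝒜 y k : A) := by simp
      rw [amk_congr 𝒜 hf k (SetLike.coe_mem _) (add_mem (SetLike.coe_mem _) (SetLike.coe_mem _)) e,
        amk_add 𝒜 hf k _ _ (SetLike.coe_mem _) (SetLike.coe_mem _)]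
      exact T.add_mem (hx k) (hy k)
    | neg x _ hx =>
      intro k
      have e : (DirectSum.decompose 𝒜 (-x) k : A) = -(DirectSum.decompose 𝒜 x k : A) := by
        rw [DirectSum.decompose_neg]
        rfl
      rw [amk_congr 𝒜 hf k (SetLike.coe_mem _) (neg_mem (SetLike.coe_mem _)) e,
        amk_neg 𝒜 hf k _ (SetLike.coe_mem _)]
      exact T.neg_mem (hx k)
  rw [eq_top_iff]
  intro x _
  obtain ⟨k, a, ha, rfl⟩ := exists_amk_surjective 𝒜 hf x
  have hmem : a ∈ AddSubgroup.closure (Submonoid.closure (S₀ ∪ G) : Set A) := by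
    rw [← Subring.mem_closure_iff, hgen]
    trivial
  have := m2 a hmem k
  have e : (DirectSum.decompose 𝒜 a k : A) = a := DirectSum.decompose_of_mem_same 𝒜 ha
  rw [amk_congr 𝒜 hf k (SetLike.coe_mem _) ha e] at this
  exact this

/-- **two ring homomorphisms out of `A_(f)` agreeing on the fractions of a generating family are equal** -/
theorem away_ringHom_ext {B : Type*} [Semiring B] (S₀ : Set A) (hS₀ : ∀ s ∈ S₀, s ∈ 𝒜 0) (G : Set A)
    (hG : ∀ g ∈ G, g ∈ 𝒜 1) (hgen : Subring.closure (S₀ ∪ G) = ⊤) (ρ₁ ρ₂ : Away 𝒜 f →+* B)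
    (h0 : ∀ s (hs : s ∈ S₀), ρ₁ (amk 𝒜 hf 0 s (hS₀ s hs)) = ρ₂ (amk 𝒜 hf 0 s (hS₀ s hs)))
    (h1 : ∀ g (hg : g ∈ G), ρ₁ (amk 𝒜 hf 1 g (hG g hg)) = ρ₂ (amk 𝒜 hf 1 g (hG g hg))) : ρ₁ = ρ₂ := by
  have hT := away_subring_eq_top 𝒜 hf S₀ hS₀ G hG hgen (RingHom.eqLocus ρ₁ ρ₂) h0 h1
  ext x
  have : x ∈ RingHom.eqLocus ρ₁ ρ₂ := by rw [hT]; trivial
  exact this

end Groth.Agent.Lib.T2H4.RLBridge
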