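import Mathlib
import Groth.Prelude.Def_RelProj4
import Groth.Agent.Lib.T2H4RLBridgeE
import Groth.Agent.Lib.T2H4RLBridgeF

/-!
# Functions on the standard opens `D₊(a)` of a relative Proj, `a` of degree one (helper4)

* `fun_ext_val` : functions on an open of `P` above an affine open `U` are determined by their values in the chart;
* `chartFun` : the ring homomorphism `𝒮(U)_(a) ⟶ Γ(P, D₊(a))`; its values (`funVal_chartFun`), the constants
  (`chartFun_str`) and the ratios of canonical sections (`canonSec_eq_chartFun_smul`);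
* `res_canonSec_le` : restriction of canonical sections inside one chart;
* `not_mem_of_isGen_canonSec` : where `a / 1` generates `O_P(1)`, `a` does not vanish.
-/

set_option autoImplicit false
set_option linter.style.haveILetI false
set_option linter.unusedSectionVars false
set_option linter.unusedVariables false
universe u
open CategoryTheory Limits AlgebraicGeometry TopologicalSpace Opposite HomogeneousLocalization
open scoped HomogeneousIdeal

namespace Groth.Agent.Lib.T2H4.RLBridge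

open Groth.Agent.Lib.Helper2GrModSect
open Groth.Agent.Lib.Helper2.RelTildeQCoh Groth.Agent.Lib.Helper23.SecTw Groth.Agent.Lib.Helper6
  Groth.Agent.Lib.Helper2.Push Groth.Agent.Lib.Helper2.RelTwistGen Groth.Agent.Lib.Helper2.IsGenCover
  Groth.Agent.Lib.Helper2.RelTwistTriv Groth.Agent.Lib.Helper2.RelTwistTensor RelProj
  Groth.Agent.Lib.Helper2.RelTwistInv Groth.Agent.Lib.T2H4.GrSym

variable {P S : Scheme.{u}} {𝒮 : RelProj.QCGrAlg S} (p : P ⟶ S)
  (chart : ∀ (U : S.Opens) (hU : IsAffineOpen U), (((p ⁻¹ᵁ U : P.Opens) : Scheme.{u}) ≅ Proj (𝒮.deg U hU)))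

/-- functions on an open of `P` above an affine open `U` are determined by their values in the chart over `U` -/
theorem fun_ext_val (U : S.Opens) (hU : IsAffineOpen U) (W : P.Opens) (hW : W ≤ p ⁻¹ᵁ U) (γ γ' : Γ(P, W))
    (h : ∀ (y : ProjectiveSpectrum (𝒮.deg U hU)) (hy : y ∈ RelProj.emb p chart U hU ⁻¹ᵁ W),
      (funVal (𝒮.deg U hU) _ ((RelProj.emb p chart U hU).app W γ) y hy).val =
        (funVal (𝒮.deg U hU) _ ((RelProj.emb p chart U hU).app W γ') y hy).val) : γ = γ' := by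
  haveI : IsIso ((RelProj.emb p chart U hU).app W) :=
    Scheme.Hom.isIso_app _ W (hW.trans (le_opensRange_emb p chart U hU))
  have hinj : Function.Injective ((RelProj.emb p chart U hU).app W).hom :=
    (ConcreteCategory.bijective_of_isIso ((RelProj.emb p chart U hU).app W)).1
  apply hinj
  apply Groth.Agent.Lib.Helper2GrModSect.fun_ext
  intro y hy
  exact HomogeneousLocalization.val_injective _ (h y hy)

/-- the ring homomorphism `𝒮(U)_(a) ⟶ Γ(P, D₊(a))` -/
noncomputable def chartFun (i : Idx 𝒮) :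
    Away (𝒮.deg i.1.1 i.1.2) i.2.1 →+* Γ(P, VF p chart i) :=
  ((RelProj.emb p chart i.1.1 i.1.2).appIso (Proj.basicOpen (𝒮.deg i.1.1 i.1.2) i.2.1)).inv.hom.comp
    (Proj.awayToSection (𝒮.deg i.1.1 i.1.2) i.2.1).hom

theorem app_chartFun (i : Idx 𝒮) (x : Away (𝒮.deg i.1.1 i.1.2) i.2.1) :
    (RelProj.emb p chart i.1.1 i.1.2).app (VF p chart i) (chartFun p chart i x) =
      (Proj (𝒮.deg i.1.1 i.1.2)).presheaf.map (eqToHom (preimage_VF p chart i)).op
        ((Proj.awayToSection (𝒮.deg i.1.1 i.1.2) i.2.1).hom x) :=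
  Scheme.Hom.appIso_inv_app_apply (RelProj.emb p chart i.1.1 i.1.2) _ _

theorem chartFun_surjective (i : Idx 𝒮) : Function.Surjective (chartFun p chart i) := by
  intro γ
  have h1 : Function.Bijective
      ((RelProj.emb p chart i.1.1 i.1.2).appIso (Proj.basicOpen (𝒮.deg i.1.1 i.1.2) i.2.1)).inv.hom :=
    ConcreteCategory.bijective_of_isIso
      ((RelProj.emb p chart i.1.1 i.1.2).appIso (Proj.basicOpen (𝒮.deg i.1.1 i.1.2) i.2.1)).inv
  obtain ⟨c, hc⟩ := h1.2 γ
  obtain ⟨k, a, ha, h⟩ := exists_awayToSection_eq i.2.2 Nat.one_pos c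
  refine ⟨Away.mk (𝒮.deg i.1.1 i.1.2) i.2.2 k a ha, ?_⟩
  change ((RelProj.emb p chart i.1.1 i.1.2).appIso (Proj.basicOpen (𝒮.deg i.1.1 i.1.2) i.2.1)).inv.hom
    ((Proj.awayToSection (𝒮.deg i.1.1 i.1.2) i.2.1).hom (Away.mk (𝒮.deg i.1.1 i.1.2) i.2.2 k a ha)) = γ
  rw [h, hc]

/-- the values of the function `b / a^k` -/
theorem funVal_chartFun (i : Idx 𝒮) (k : ℕ) (b : 𝒮.presheaf.obj (op i.1.1)) (hb : b ∈ 𝒮.deg i.1.1 i.1.2 k)
    (y : ProjectiveSpectrum (𝒮.deg i.1.1 i.1.2))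
    (hy : y ∈ RelProj.emb p chart i.1.1 i.1.2 ⁻¹ᵁ VF p chart i) :
    (funVal (𝒮.deg i.1.1 i.1.2) _
      ((RelProj.emb p chart i.1.1 i.1.2).app (VF p chart i)
        (chartFun p chart i (amk (𝒮.deg i.1.1 i.1.2) i.2.2 k b hb))) y hy).val =
      (Localization.mk b (⟨i.2.1 ^ k, fun h => not_mem_of_mem_VF p chart i y hy
        (y.isPrime.mem_of_pow_mem k h)⟩ : y.asHomogeneousIdeal.toIdeal.primeCompl) :
        GrTwist.Loc (𝒮.deg i.1.1 i.1.2) y) := by
  rw [app_chartFun]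
  rfl

/-- the constants -/
theorem chartFun_str (hP : RelProj.IsRelProj 𝒮 p chart) (i : Idx 𝒮) (s : Γ(S, i.1.1)) :
    chartFun p chart i (amk (𝒮.deg i.1.1 i.1.2) i.2.2 0 ((𝒮.str.app (op i.1.1)).hom s) (𝒮.str_mem i.1.1 i.1.2 s)) =
      p.appLE i.1.1 (VF p chart i) (VF_le p chart i) s := by
  apply fun_ext_val p chart i.1.1 i.1.2 (VF p chart i) (VF_le p chart i)
  intro y hy
  rw [funVal_chartFun, funVal_appLE_str hP i.1.1 i.1.2 s (VF p chart i) (VF_le p chart i) y hy i.2.2 one_pos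
    (not_mem_of_mem_VF p chart i y hy)]
  exact mk_congr'' _ rfl (pow_zero _) _ _

variable (k : ℤ) (L : P.Modules)
  (lam : ∀ (U : S.Opens) (hU : IsAffineOpen U),
    L ⟶ (Scheme.Modules.pushforward (RelProj.emb p chart U hU)).obj (GrTwist.twist (𝒮.deg U hU) k))
  (hL : RelProj.IsRelTwist 𝒮 p chart k L lam) {n : ℕ} (hik : (n : ℤ) = ((0 : ℕ) : ℤ) + k)

/-- restriction of canonical sections inside one chart -/
theorem res_canonSec_le (U : S.Opens) (hU : IsAffineOpen U) (W : P.Opens) (hW : W ≤ p ⁻¹ᵁ U)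
    (W' : P.Opens) (hWW : W' ≤ W) {a : 𝒮.presheaf.obj (op U)} (ha : a ∈ 𝒮.deg U hU n) :
    res L hWW (canonSec p chart k L lam hL hik U hU W hW ha) =
      canonSec p chart k L lam hL hik U hU W' (hWW.trans hW) ha := by
  apply canonSec_unique
  intro y
  have hnat := app_map' (lam U hU) (homOfLE hWW) (canonSec p chart k L lam hL hik U hU W hW ha)
  rw [← val_canonSec p chart k L lam hL hik U hU W hW ha ⟨y.1, hWW y.2⟩]
  change GrTwist.val (V := RelProj.emb p chart U hU ⁻¹ᵁ W')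
    ((lam U hU).app W' (L.presheaf.map (homOfLE hWW).op (canonSec p chart k L lam hL hik U hU W hW ha))) y = _
  rw [hnat]
  rfl

variable (O1 : P.Modules)
  (lam1 : ∀ (U : S.Opens) (hU : IsAffineOpen U),
    O1 ⟶ (Scheme.Modules.pushforward (RelProj.emb p chart U hU)).obj (GrTwist.twist (𝒮.deg U hU) 1))
  (hO1 : RelProj.IsRelTwist 𝒮 p chart 1 O1 lam1)

/-- over `D₊(a)`, `b / 1 = (b / a) • (a / 1)` -/
theorem canonSec_eq_chartFun_smul (i : Idx 𝒮) {b : 𝒮.presheaf.obj (op i.1.1)} (hb : b ∈ 𝒮.deg i.1.1 i.1.2 1) :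
    canonSec p chart 1 O1 lam1 hO1 one_eq i.1.1 i.1.2 (VF p chart i) (VF_le p chart i) hb =
      chartFun p chart i (amk (𝒮.deg i.1.1 i.1.2) i.2.2 1 b hb) •
        canonSec p chart 1 O1 lam1 hO1 one_eq i.1.1 i.1.2 (VF p chart i) (VF_le p chart i) i.2.2 := by
  symm
  apply canonSec_unique
  intro y
  have h1 := val_lam_smul p chart 1 O1 lam1 i.1.1 i.1.2 (VF p chart i)
    (chartFun p chart i (amk (𝒮.deg i.1.1 i.1.2) i.2.2 1 b hb))
    (canonSec p chart 1 O1 lam1 hO1 one_eq i.1.1 i.1.2 (VF p chart i) (VF_le p chart i) i.2.2) y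
  have h2 := val_canonSec p chart 1 O1 lam1 hO1 one_eq i.1.1 i.1.2 (VF p chart i) (VF_le p chart i) i.2.2 y
  have h3 := funVal_chartFun p chart i 1 b hb y.1 y.2
  refine h1.trans ((congrArg₂ (· * ·) h3 h2).trans ?_)
  rw [Localization.mk_mul, Localization.mk_eq_mk_iff, Localization.r_iff_exists]
  refine ⟨1, ?_⟩
  simp only [OneMemClass.coe_one, one_mul, pow_one, mul_one]
  ring

/-- where `a / 1` generates `O_P(1)`, `a` does not vanish -/
theorem not_mem_of_isGen_canonSec (hgen : 𝒮.IsGenDegOne) (U : S.Opens) (hU : IsAffineOpen U) (W : P.Opens)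
    (hW : W ≤ p ⁻¹ᵁ U) {a : 𝒮.presheaf.obj (op U)} (ha : a ∈ 𝒮.deg U hU 1)
    (hg : IsGen O1 W (canonSec p chart 1 O1 lam1 hO1 one_eq U hU W hW ha))
    (y : ProjectiveSpectrum (𝒮.deg U hU)) (hy : y ∈ RelProj.emb p chart U hU ⁻¹ᵁ W) :
    a ∉ y.asHomogeneousIdeal := by
  intro hmem
  obtain ⟨b, hb, hby⟩ := exists_degOne_not_mem_of_gen (𝒮.deg U hU) (hgen U hU) y
  obtain ⟨c, hc⟩ := (hg W le_rfl).2 (canonSec p chart 1 O1 lam1 hO1 one_eq U hU W hW hb)
  have hc' : c • canonSec p chart 1 O1 lam1 hO1 one_eq U hU W hW ha =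
      canonSec p chart 1 O1 lam1 hO1 one_eq U hU W hW hb := by
    have := hc
    simp only at this
    rw [res_self] at this
    exact this
  have h1 := congrArg (fun s => GrTwist.val (V := RelProj.emb p chart U hU ⁻¹ᵁ W)
    ((lam1 U hU).app W s) ⟨y, hy⟩) hc'
  simp only at h1
  rw [val_lam_smul, val_canonSec, val_canonSec] at h1
  have hu : IsUnit (Localization.mk b (1 : y.asHomogeneousIdeal.toIdeal.primeCompl) :
      GrTwist.Loc (𝒮.deg U hU) y) := by
    rw [Localization.mk_eq_mk']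
    exact (IsLocalization.AtPrime.isUnit_mk'_iff _ _ b 1).2 hby
  rw [← h1] at hu
  have hu' := isUnit_of_mul_isUnit_right hu
  rw [Localization.mk_eq_mk'] at hu'
  exact ((IsLocalization.AtPrime.isUnit_mk'_iff _ _ a 1).1 hu') hmem

end Groth.Agent.Lib.T2H4.RLBridge
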