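import Mathlib
import Groth.Prelude.Def_RelProj4
import Groth.Agent.Lib.T2H4RLBridgeG
import Groth.Agent.Lib.T2H4VeryAmpleC
import Groth.Agent.Lib.Helper27ProjUniq4

/-!
# Uniqueness of morphisms into a projective bundle `P(E)` with given pulled-back coordinates (helper4)

For `g : X ⟶ S`, a module `L` on `X` and a family `t_e ∈ Γ(L, g⁻¹U)` indexed by the sections `e` of `E` over the affine
opens `U` of `S`, a morphism `r : X ⟶ P(E)` over `g` is *framed* by `t` (`IsFramed`) when `t_e` generates `L` over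
`r⁻¹(D₊(e))` and the `t_e` have the transition functions pulled back along `r` from those of the canonical sections
`e / 1` of `O_P(1)`.  Two morphisms framed by the same family are equal (`IsFramed.unique`).
-/

set_option autoImplicit false
set_option linter.style.haveILetI false
set_option linter.unusedSectionVars false
set_option linter.unusedVariables false
universe u
open CategoryTheory Limits AlgebraicGeometry TopologicalSpace Opposite HomogeneousLocalization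
open scoped HomogeneousIdeal

namespace Groth.Agent.Lib.T2H4.RLBridge

open Groth.Agent.Lib.Helper2GrModSect
open Groth.Agent.Lib.Helper2.RelTildeQCoh Groth.Agent.Lib.Helper23.SecTw Groth.Agent.Lib.Helper6
  Groth.Agent.Lib.Helper2.Push Groth.Agent.Lib.Helper2.RelTwistGen Groth.Agent.Lib.Helper2.IsGenCover
  Groth.Agent.Lib.Helper2.RelTwistTriv Groth.Agent.Lib.Helper2.RelTwistTensor RelProj
  Groth.Agent.Lib.Helper2.RelTwistInv Groth.Agent.Lib.T2H4.GrSym Groth.Agent.Lib.Helper23.PB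
  Groth.Agent.Helper13SymAlg Groth.Agent.Helper13SymLoc

/-- a unit multiple of a generator is a generator -/
theorem isGen_smul_of_isUnit {X : Scheme.{u}} {M : X.Modules} {W : X.Opens} {e : Γ(M, W)} (he : IsGen M W e)
    {c : Γ(X, W)} (hc : IsUnit c) : IsGen M W (c • e) := by
  obtain ⟨v, rfl⟩ := hc
  refine Groth.Agent.Lib.Helper27GrTildeSect.isGen_of_eq_smul he (↑v⁻¹ : Γ(X, W)) ?_
  rw [← mul_smul, Units.inv_mul, one_smul]

/-- a graded symmetric algebra is generated, over an affine open, by the functions and the image of the module -/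
theorem closure_str_j_eq_top {S : Scheme.{u}} (E : S.Modules) (hE : Coh.IsQCoh E) (𝒮 : RelProj.QCGrAlg S)
    (j : E ⟶ 𝒮.toModule) (h : RelProj.IsGrSymAlg E 𝒮 j) (U : S.Opens) (hU : IsAffineOpen U) :
    Subring.closure (Set.range (𝒮.str.app (op U)).hom ∪
      Set.range (fun e : Γ(E, U) => ((j.app U) e : 𝒮.presheaf.obj (op U)))) = ⊤ := by
  haveI : E.IsQuasicoherent := hE
  rw [eq_top_iff]
  intro x _
  obtain ⟨y, rfl⟩ := (bijective_σ E U hU h.1).2 x
  clear * -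
  induction y using SymmetricAlgebra.induction with
  | algebraMap a =>
    refine Subring.subset_closure (Or.inl ?_)
    unfold σ
    rw [symLift_algebraMap]
    exact ⟨a, rfl⟩
  | ι m =>
    refine Subring.subset_closure (Or.inr ?_)
    unfold σ
    rw [symLift_ι]
    exact ⟨m, rfl⟩
  | mul a b ha hb => rw [map_mul]; exact Subring.mul_mem _ ha hb
  | add a b ha hb => rw [map_add]; exact Subring.add_mem _ ha hb

variable {P S : Scheme.{u}} {𝒮 : RelProj.QCGrAlg S} (p : P ⟶ S)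
  (chart : ∀ (U : S.Opens) (hU : IsAffineOpen U), (((p ⁻¹ᵁ U : P.Opens) : Scheme.{u}) ≅ Proj (𝒮.deg U hU)))
  (E : S.Modules) (j : E ⟶ 𝒮.toModule) (hj : RelProj.IsGrSymAlg E 𝒮 j)
  (O1 : P.Modules)
  (lam1 : ∀ (U : S.Opens) (hU : IsAffineOpen U),
    O1 ⟶ (Scheme.Modules.pushforward (RelProj.emb p chart U hU)).obj (GrTwist.twist (𝒮.deg U hU) 1))
  (hO1 : RelProj.IsRelTwist 𝒮 p chart 1 O1 lam1)

/-- the canonical section `e / 1` of `O_P(1)` over `p⁻¹(U)` -/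
noncomputable abbrev sig (U : S.Opens) (hU : IsAffineOpen U) (e : Γ(E, U)) : Γ(O1, p ⁻¹ᵁ U) :=
  canonSec p chart 1 O1 lam1 hO1 one_eq U hU (p ⁻¹ᵁ U) le_rfl (hj.2 U hU e)

variable {X : Scheme.{u}} (g : X ⟶ S) (L : X.Modules)

/-- `r : X ⟶ P(E)` over `g` is framed by the family `t` of sections of `L` -/
structure IsFramed (r : X ⟶ P)
    (t : ∀ (U : S.Opens) (hU : IsAffineOpen U) (e : Γ(E, U)), Γ(L, g ⁻¹ᵁ U)) : Prop where
  comp : r ≫ p = g
  gen : ∀ (U : S.Opens) (hU : IsAffineOpen U) (e : Γ(E, U))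
    (hle : r ⁻¹ᵁ VF p chart (idxOf E j hj U hU e) ≤ g ⁻¹ᵁ U),
    IsGen L (r ⁻¹ᵁ VF p chart (idxOf E j hj U hU e)) (res L hle (t U hU e))
  trans : ∀ (U₁ : S.Opens) (hU₁ : IsAffineOpen U₁) (e₁ : Γ(E, U₁)) (U₂ : S.Opens) (hU₂ : IsAffineOpen U₂)
    (e₂ : Γ(E, U₂)) (O : P.Opens) (hO₁ : O ≤ p ⁻¹ᵁ U₁) (hO₂ : O ≤ p ⁻¹ᵁ U₂) (γ : Γ(P, O)),
    res O1 hO₁ (sig p chart E j hj O1 lam1 hO1 U₁ hU₁ e₁) =
      γ • res O1 hO₂ (sig p chart E j hj O1 lam1 hO1 U₂ hU₂ e₂) →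
    ∀ (O' : X.Opens) (hO' : O' ≤ r ⁻¹ᵁ O) (h₁ : O' ≤ g ⁻¹ᵁ U₁) (h₂ : O' ≤ g ⁻¹ᵁ U₂),
      res L h₁ (t U₁ hU₁ e₁) = r.appLE O O' hO' γ • res L h₂ (t U₂ hU₂ e₂)

variable {p chart E j hj O1 lam1 hO1 g L}
variable {r₁ r₂ : X ⟶ P} {t : ∀ (U : S.Opens) (hU : IsAffineOpen U) (e : Γ(E, U)), Γ(L, g ⁻¹ᵁ U)}

theorem IsFramed.p_apply {r : X ⟶ P} (h : IsFramed p chart E j hj O1 lam1 hO1 g L r t) (x : X) :
    p (r x) = g x := by
  rw [← h.comp]
  rfl

theorem IsFramed.preimage_VF_le' {r : X ⟶ P} (h : IsFramed p chart E j hj O1 lam1 hO1 g L r t)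
    (i : Idx 𝒮) : r ⁻¹ᵁ VF p chart i ≤ g ⁻¹ᵁ i.1.1 := by
  intro x hx
  have h1 : p (r x) ∈ i.1.1 := VF_le p chart i hx
  rw [h.p_apply] at h1
  exact h1

/-- the inverse images of the standard opens agree -/
theorem IsFramed.preimage_VF_le (hE : Coh.IsQCoh E) (hP : RelProj.IsRelProj 𝒮 p chart)
    (h₁ : IsFramed p chart E j hj O1 lam1 hO1 g L r₁ t)
    (h₂ : IsFramed p chart E j hj O1 lam1 hO1 g L r₂ t) (U : S.Opens) (hU : IsAffineOpen U) (e : Γ(E, U)) :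
    r₁ ⁻¹ᵁ VF p chart (idxOf E j hj U hU e) ≤ r₂ ⁻¹ᵁ VF p chart (idxOf E j hj U hU e) := by
  intro x hx
  have hgen : 𝒮.IsGenDegOne := Groth.Agent.Lib.T2H4.VeryAmple.isGenDegOne_of_isGrSymAlg E hE 𝒮 j hj
  have hxU : g x ∈ U := h₁.preimage_VF_le' (idxOf E j hj U hU e) hx
  have h2U : r₂ x ∈ p ⁻¹ᵁ U := by
    change p (r₂ x) ∈ U
    rw [h₂.p_apply]
    exact hxU
  obtain ⟨y, hy⟩ := le_opensRange_emb p chart U hU h2U
  obtain ⟨e', he'⟩ := Groth.Agent.Lib.T2H4.ProjBundle.exists_not_mem_of_isGrSymAlg E hE 𝒮 j hj U hU y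
  have hx' : r₂ x ∈ VF p chart (idxOf E j hj U hU e') :=
    ⟨y, (ProjectiveSpectrum.mem_basicOpen _ _ y).mpr he', hy⟩
  set γ' : Γ(P, VF p chart (idxOf E j hj U hU e')) :=
    chartFun p chart (idxOf E j hj U hU e')
      (amk (𝒮.deg U hU) (idxOf E j hj U hU e').2.2 1 ((j.app U) e : 𝒮.presheaf.obj (op U)) (hj.2 U hU e))
    with hγ'
  have hVle : VF p chart (idxOf E j hj U hU e') ≤ p ⁻¹ᵁ U := VF_le p chart (idxOf E j hj U hU e')
  have hσ : res O1 hVle (sig p chart E j hj O1 lam1 hO1 U hU e) =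
      γ' • res O1 hVle (sig p chart E j hj O1 lam1 hO1 U hU e') := by
    unfold sig
    rw [res_canonSec_le, res_canonSec_le]
    exact canonSec_eq_chartFun_smul p chart O1 lam1 hO1 (idxOf E j hj U hU e') (hj.2 U hU e)
  -- the comparison on `A`
  set A : X.Opens := r₁ ⁻¹ᵁ VF p chart (idxOf E j hj U hU e) ⊓ r₂ ⁻¹ᵁ VF p chart (idxOf E j hj U hU e')
    with hA
  have hA1 : A ≤ g ⁻¹ᵁ U := inf_le_left.trans (h₁.preimage_VF_le' (idxOf E j hj U hU e))
  have ht := h₂.trans U hU e U hU e' (VF p chart (idxOf E j hj U hU e')) hVle hVle γ' hσ A inf_le_right hA1 hA1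
  have g1 : IsGen L A (res L hA1 (t U hU e)) := by
    have := (h₁.gen U hU e (h₁.preimage_VF_le' (idxOf E j hj U hU e))).mono (inf_le_left : A ≤ _)
    rwa [res_res] at this
  have g2 : IsGen L A (res L hA1 (t U hU e')) := by
    have := (h₂.gen U hU e' (h₂.preimage_VF_le' (idxOf E j hj U hU e'))).mono (inf_le_right : A ≤ _)
    rwa [res_res] at this
  have hu : IsUnit (r₂.appLE (VF p chart (idxOf E j hj U hU e')) A inf_le_right γ') := by
    have h3 := isUnit_coef_of_isGen g2 g1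
    have h4 : r₂.appLE (VF p chart (idxOf E j hj U hU e')) A inf_le_right γ' =
        coef g2 le_rfl (res L hA1 (t U hU e)) :=
      coef_unique g2 le_rfl _ _ (by rw [res_self]; exact ht.symm)
    rw [h4]
    exact h3
  have hxA : x ∈ A := ⟨hx, hx'⟩
  have hxb : x ∈ X.basicOpen (r₂.appLE (VF p chart (idxOf E j hj U hU e')) A inf_le_right γ') := by
    rw [Scheme.basicOpen_of_isUnit _ hu]
    exact hxA
  rw [Scheme.basicOpen_appLE] at hxb
  have hxB : r₂ x ∈ P.basicOpen γ' := hxb.2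
  -- the basic open of `γ'` lies in `D₊(e)`
  set B : P.Opens := P.basicOpen γ' with hB
  have hBle : B ≤ VF p chart (idxOf E j hj U hU e') := P.basicOpen_le γ'
  have hBU : B ≤ p ⁻¹ᵁ U := hBle.trans hVle
  have hunit : IsUnit (resf hBle γ') := RingedSpace.isUnit_res_basicOpen _ γ'
  have hgen' : IsGen O1 B (canonSec p chart 1 O1 lam1 hO1 one_eq U hU B hBU (hj.2 U hU e')) := by
    refine isGen_canonSec p chart 1 O1 lam1 hO1 one_eq U hU B hBU (hj.2 U hU e') (fun y => ?_)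
    exact not_mem_of_mem_VF p chart (idxOf E j hj U hU e') y.1 (hBle y.2)
  have hσB : canonSec p chart 1 O1 lam1 hO1 one_eq U hU B hBU (hj.2 U hU e) =
      resf hBle γ' • canonSec p chart 1 O1 lam1 hO1 one_eq U hU B hBU (hj.2 U hU e') := by
    have h5 := congrArg (res O1 hBle) hσ
    unfold sig at h5
    rw [res_res, res_smul, res_res, res_canonSec_le, res_canonSec_le] at h5
    exact h5
  have hgenB : IsGen O1 B (canonSec p chart 1 O1 lam1 hO1 one_eq U hU B hBU (hj.2 U hU e)) := by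
    rw [hσB]
    exact isGen_smul_of_isUnit hgen' hunit
  obtain ⟨y', hy'⟩ := le_opensRange_emb p chart U hU (hBU hxB)
  have hy'B : y' ∈ RelProj.emb p chart U hU ⁻¹ᵁ B := by
    change (RelProj.emb p chart U hU) y' ∈ B
    rw [hy']
    exact hxB
  have hne := not_mem_of_isGen_canonSec p chart O1 lam1 hO1 hgen U hU B hBU (hj.2 U hU e) hgenB y' hy'B
  exact ⟨y', (ProjectiveSpectrum.mem_basicOpen _ _ y').mpr hne, hy'⟩

theorem isAffineOpen_VF (i : Idx 𝒮) : IsAffineOpen (VF p chart i) :=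
  (Proj.isAffineOpen_basicOpen (𝒮.deg i.1.1 i.1.2) i.2.1 i.2.2 one_pos).image_of_isOpenImmersion _

theorem appLE_appLE_of_comp {X P S : Scheme.{u}} {r : X ⟶ P} {p : P ⟶ S} {g : X ⟶ S} (h : r ≫ p = g)
    (U : S.Opens) (D : P.Opens) (Ω : X.Opens) (hD : D ≤ p ⁻¹ᵁ U) (hΩ : Ω ≤ r ⁻¹ᵁ D) (hΩU : Ω ≤ g ⁻¹ᵁ U)
    (s : Γ(S, U)) : r.appLE D Ω hΩ (p.appLE U D hD s) = g.appLE U Ω hΩU s := by
  subst h
  exact congr($(Scheme.Hom.appLE_comp_appLE r p U D Ω hD hΩ) s)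

/-- the two morphisms agree on the functions over a standard open -/
theorem IsFramed.appLE_eq (hE : Coh.IsQCoh E) (hP : RelProj.IsRelProj 𝒮 p chart)
    (h₁ : IsFramed p chart E j hj O1 lam1 hO1 g L r₁ t)
    (h₂ : IsFramed p chart E j hj O1 lam1 hO1 g L r₂ t) (U : S.Opens) (hU : IsAffineOpen U) (e : Γ(E, U)) :
    r₁.appLE (VF p chart (idxOf E j hj U hU e)) (r₁ ⁻¹ᵁ VF p chart (idxOf E j hj U hU e)) le_rfl =
      r₂.appLE (VF p chart (idxOf E j hj U hU e)) (r₁ ⁻¹ᵁ VF p chart (idxOf E j hj U hU e))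
        (IsFramed.preimage_VF_le hE hP h₁ h₂ U hU e) := by
  have hΩ' := IsFramed.preimage_VF_le hE hP h₁ h₂ U hU e
  have hΩU : r₁ ⁻¹ᵁ VF p chart (idxOf E j hj U hU e) ≤ g ⁻¹ᵁ U := h₁.preimage_VF_le' (idxOf E j hj U hU e)
  have hDU : VF p chart (idxOf E j hj U hU e) ≤ p ⁻¹ᵁ U := VF_le p chart (idxOf E j hj U hU e)
  have gΩ := h₁.gen U hU e hΩU
  have hρ : (r₁.appLE (VF p chart (idxOf E j hj U hU e)) (r₁ ⁻¹ᵁ VF p chart (idxOf E j hj U hU e)) le_rfl).hom.comp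
        (chartFun p chart (idxOf E j hj U hU e)) =
      (r₂.appLE (VF p chart (idxOf E j hj U hU e)) (r₁ ⁻¹ᵁ VF p chart (idxOf E j hj U hU e)) hΩ').hom.comp
        (chartFun p chart (idxOf E j hj U hU e)) := by
    refine (away_ringHom_ext (A := 𝒮.presheaf.obj (op U)) (𝒮.deg U hU)
      (f := ((j.app U) e : 𝒮.presheaf.obj (op U)))
      (show ((j.app U) e : 𝒮.presheaf.obj (op U)) ∈ 𝒮.deg U hU 1 from hj.2 U hU e)
      (Set.range (𝒮.str.app (op U)).hom)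
      (by rintro _ ⟨s, rfl⟩; exact 𝒮.str_mem U hU s)
      (Set.range (fun e' : Γ(E, U) => ((j.app U) e' : 𝒮.presheaf.obj (op U))))
      (by rintro _ ⟨e', rfl⟩; exact hj.2 U hU e')
      (closure_str_j_eq_top E hE 𝒮 j hj U hU)
      ((r₁.appLE (VF p chart (idxOf E j hj U hU e)) (r₁ ⁻¹ᵁ VF p chart (idxOf E j hj U hU e)) le_rfl).hom.comp
        (chartFun p chart (idxOf E j hj U hU e)))
      ((r₂.appLE (VF p chart (idxOf E j hj U hU e)) (r₁ ⁻¹ᵁ VF p chart (idxOf E j hj U hU e)) hΩ').hom.comp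
        (chartFun p chart (idxOf E j hj U hU e))) ?_ ?_ :)
    · rintro _ ⟨s, rfl⟩
      have h3 : chartFun p chart (idxOf E j hj U hU e)
          (amk (𝒮.deg U hU) (hj.2 U hU e) 0 ((𝒮.str.app (op U)).hom s) (𝒮.str_mem U hU s)) =
          p.appLE U (VF p chart (idxOf E j hj U hU e)) hDU s :=
        chartFun_str p chart hP (idxOf E j hj U hU e) s
      change r₁.appLE _ _ le_rfl (chartFun p chart (idxOf E j hj U hU e) _) =
        r₂.appLE _ _ hΩ' (chartFun p chart (idxOf E j hj U hU e) _)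
      refine (congrArg _ h3).trans (Eq.trans ?_ (congrArg _ h3).symm)
      exact (appLE_appLE_of_comp h₁.comp U _ _ hDU le_rfl hΩU s).trans
        (appLE_appLE_of_comp h₂.comp U _ _ hDU hΩ' hΩU s).symm
    · rintro _ ⟨e', rfl⟩
      change r₁.appLE _ _ le_rfl (chartFun p chart (idxOf E j hj U hU e) _) =
        r₂.appLE _ _ hΩ' (chartFun p chart (idxOf E j hj U hU e) _)
      have hσ : res O1 hDU (sig p chart E j hj O1 lam1 hO1 U hU e') =
          chartFun p chart (idxOf E j hj U hU e)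
            (amk (𝒮.deg U hU) (idxOf E j hj U hU e).2.2 1 ((j.app U) e' : 𝒮.presheaf.obj (op U)) (hj.2 U hU e')) •
            res O1 hDU (sig p chart E j hj O1 lam1 hO1 U hU e) := by
        unfold sig
        rw [res_canonSec_le, res_canonSec_le]
        exact canonSec_eq_chartFun_smul p chart O1 lam1 hO1 (idxOf E j hj U hU e) (hj.2 U hU e')
      have t1 := h₁.trans U hU e' U hU e _ hDU hDU _ hσ _ le_rfl hΩU hΩU
      have t2 := h₂.trans U hU e' U hU e _ hDU hDU _ hσ _ hΩ' hΩU hΩU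
      apply (gΩ _ le_rfl).1
      simp only
      rw [res_self]
      exact t1.symm.trans t2
  ext c
  obtain ⟨x, rfl⟩ := chartFun_surjective p chart (idxOf E j hj U hU e) c
  exact DFunLike.congr_fun hρ x

/-- **two morphisms into `P(E)` framed by the same family of sections are equal** -/
theorem IsFramed.unique (hE : Coh.IsQCoh E) (hP : RelProj.IsRelProj 𝒮 p chart)
    (h₁ : IsFramed p chart E j hj O1 lam1 hO1 g L r₁ t)
    (h₂ : IsFramed p chart E j hj O1 lam1 hO1 g L r₂ t) : r₁ = r₂ := by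
  apply Scheme.hom_ext_of_forall
  intro x
  obtain ⟨U, hxU⟩ := exists_affine_mem_preimage p (r₁ x)
  obtain ⟨y, hy⟩ := le_opensRange_emb p chart U.1 U.2 hxU
  obtain ⟨e, he⟩ := Groth.Agent.Lib.T2H4.ProjBundle.exists_not_mem_of_isGrSymAlg E hE 𝒮 j hj U.1 U.2 y
  have hx : x ∈ r₁ ⁻¹ᵁ VF p chart (idxOf E j hj U.1 U.2 e) :=
    ⟨y, (ProjectiveSpectrum.mem_basicOpen _ _ y).mpr he, hy⟩
  refine ⟨r₁ ⁻¹ᵁ VF p chart (idxOf E j hj U.1 U.2 e), hx, ?_⟩
  have hΩ' := IsFramed.preimage_VF_le hE hP h₁ h₂ U.1 U.2 e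
  have hEq := IsFramed.appLE_eq hE hP h₁ h₂ U.1 U.2 e
  have haff : IsAffineOpen (VF p chart (idxOf E j hj U.1 U.2 e)) :=
    isAffineOpen_VF (idxOf E j hj U.1 U.2 e)
  haveI : IsAffine (VF p chart (idxOf E j hj U.1 U.2 e)).toScheme := haff
  have h1 : r₁.resLE (VF p chart (idxOf E j hj U.1 U.2 e)) _ le_rfl =
      r₂.resLE (VF p chart (idxOf E j hj U.1 U.2 e)) _ hΩ' := by
    apply ext_of_isAffine
    have e1 : (r₁.resLE (VF p chart (idxOf E j hj U.1 U.2 e))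
        (r₁ ⁻¹ᵁ VF p chart (idxOf E j hj U.1 U.2 e)) le_rfl).appTop =
        (VF p chart (idxOf E j hj U.1 U.2 e)).topIso.hom ≫ r₁.appLE _ _ le_rfl ≫
          (r₁ ⁻¹ᵁ VF p chart (idxOf E j hj U.1 U.2 e)).topIso.inv := Scheme.Hom.resLE_app_top r₁ le_rfl
    have e2 : (r₂.resLE (VF p chart (idxOf E j hj U.1 U.2 e))
        (r₁ ⁻¹ᵁ VF p chart (idxOf E j hj U.1 U.2 e)) hΩ').appTop =
        (VF p chart (idxOf E j hj U.1 U.2 e)).topIso.hom ≫ r₂.appLE _ _ hΩ' ≫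
          (r₁ ⁻¹ᵁ VF p chart (idxOf E j hj U.1 U.2 e)).topIso.inv := Scheme.Hom.resLE_app_top r₂ hΩ'
    rw [e1, e2, hEq]
  rw [← Scheme.Hom.resLE_comp_ι r₁ le_rfl, ← Scheme.Hom.resLE_comp_ι r₂ hΩ', h1]

end Groth.Agent.Lib.T2H4.RLBridge
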