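import Mathlib
import Groth.Prelude.Def_RelProj4
import Groth.Agent.Lib.T2H4RLBridgeH

/-!
# Morphisms into `P(E)` with an identification `r^* O_P(1) ≅ L` are framed (helper4)

* `isQuasicoherent_O1` : `O_P(1)` is quasi-coherent;
* `isFramed_of_iso` : if `τ : r^* O_P(1) ≅ L` carries the pull-backs of the canonical sections `e / 1` to the sections
  `t_e` of `L`, then `r` is framed by `t` (in the sense of `IsFramed`).
-/

set_option autoImplicit false
set_option linter.style.haveILetI false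
set_option linter.unusedSectionVars false
set_option linter.unusedVariables false
universe u
open CategoryTheory Limits AlgebraicGeometry TopologicalSpace Opposite HomogeneousLocalization
open scoped HomogeneousIdeal

namespace Groth.Agent.Lib.T2H4.RLBridge

open Groth.Agent.Lib.Helper2GrModSect
open Groth.Agent.Lib.Helper2.RelTildeQCoh Groth.Agent.Lib.Helper23.SecTw Groth.Agent.Lib.Helper6
  Groth.Agent.Lib.Helper2.Push Groth.Agent.Lib.Helper2.RelTwistGen Groth.Agent.Lib.Helper2.IsGenCover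
  Groth.Agent.Lib.Helper2.RelTwistTriv Groth.Agent.Lib.Helper2.RelTwistTensor RelProj
  Groth.Agent.Lib.Helper2.RelTwistInv Groth.Agent.Lib.T2H4.GrSym Groth.Agent.Lib.Helper23.PB
  Groth.Agent.Helper13PullbackUnit

variable {P S : Scheme.{u}} {𝒮 : RelProj.QCGrAlg S} (p : P ⟶ S)
  (chart : ∀ (U : S.Opens) (hU : IsAffineOpen U), (((p ⁻¹ᵁ U : P.Opens) : Scheme.{u}) ≅ Proj (𝒮.deg U hU)))
  (E : S.Modules) (j : E ⟶ 𝒮.toModule) (hj : RelProj.IsGrSymAlg E 𝒮 j)
  (O1 : P.Modules)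
  (lam1 : ∀ (U : S.Opens) (hU : IsAffineOpen U),
    O1 ⟶ (Scheme.Modules.pushforward (RelProj.emb p chart U hU)).obj (GrTwist.twist (𝒮.deg U hU) 1))
  (hO1 : RelProj.IsRelTwist 𝒮 p chart 1 O1 lam1)

include hO1 in
/-- `O_P(1)` is quasi-coherent -/
theorem isQuasicoherent_O1 : O1.IsQuasicoherent := by
  have hT : ∀ (U : S.Opens) (hU : IsAffineOpen U),
      (GrTwist.twist (𝒮.deg U hU) 1).IsQuasicoherent := by
    intro U hU
    have h0 : GrMod.tilde (𝒮.deg U hU) (𝒮.deg U hU) 1 = GrTwist.twist (𝒮.deg U hU) 1 := rfl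
    rw [← h0]
    exact Groth.Agent.Lib.Helper2GrModSect.isQuasicoherent_tilde (𝒮.deg U hU) (𝒮.deg U hU) 1
  exact isQuasicoherent_of_relCharts p chart O1
    (fun U hU => GrTwist.twist (𝒮.deg U hU) 1) hT lam1 hO1.bijective

variable {X : Scheme.{u}} (g : X ⟶ S) (L : X.Modules)

/-- **a morphism into `P(E)` with a tracked identification `r^* O_P(1) ≅ L` is framed** -/
theorem isFramed_of_iso (r : X ⟶ P) (hr : r ≫ p = g) (τ : (Scheme.Modules.pullback r).obj O1 ≅ L)
    (t : ∀ (U : S.Opens) (hU : IsAffineOpen U) (e : Γ(E, U)), Γ(L, g ⁻¹ᵁ U))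
    (ht : ∀ (U : S.Opens) (hU : IsAffineOpen U) (e : Γ(E, U)) (W : X.Opens) (hW : W ≤ r ⁻¹ᵁ (p ⁻¹ᵁ U))
      (hW' : W ≤ g ⁻¹ᵁ U),
      τ.hom.app W (unitSec r O1 hW (sig p chart E j hj O1 lam1 hO1 U hU e)) = res L hW' (t U hU e)) :
    IsFramed p chart E j hj O1 lam1 hO1 g L r t := by
  haveI : O1.IsQuasicoherent := isQuasicoherent_O1 p chart O1 lam1 hO1
  refine ⟨hr, ?_, ?_⟩
  · intro U hU e hle
    have hDU : VF p chart (idxOf E j hj U hU e) ≤ p ⁻¹ᵁ U := VF_le p chart (idxOf E j hj U hU e)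
    have hgenD : IsGen O1 (VF p chart (idxOf E j hj U hU e))
        (canonSec p chart 1 O1 lam1 hO1 one_eq U hU (VF p chart (idxOf E j hj U hU e)) hDU (hj.2 U hU e)) := by
      refine isGen_canonSec p chart 1 O1 lam1 hO1 one_eq U hU _ hDU (hj.2 U hU e) (fun y => ?_)
      exact not_mem_of_mem_VF p chart (idxOf E j hj U hU e) y.1 y.2
    have h1 := isGen_unitSec r O1 (isAffineOpen_VF (idxOf E j hj U hU e)) _ hgenD
    have h2 := isGen_of_iso τ h1
    have h3 : τ.hom.app (r ⁻¹ᵁ VF p chart (idxOf E j hj U hU e))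
        (unitSec r O1 le_rfl (canonSec p chart 1 O1 lam1 hO1 one_eq U hU (VF p chart (idxOf E j hj U hU e)) hDU
          (hj.2 U hU e))) = res L hle (t U hU e) := by
      rw [← ht U hU e _ (r.preimage_mono hDU) hle]
      congr 1
      have h4 := res_unitSec r O1 (r.preimage_mono hDU) (le_refl (r ⁻¹ᵁ VF p chart (idxOf E j hj U hU e))) hDU
        le_rfl (sig p chart E j hj O1 lam1 hO1 U hU e)
      rw [res_self] at h4
      rw [h4]
      unfold sig
      rw [res_canonSec_le]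
    rw [← h3]
    exact h2
  · intro U₁ hU₁ e₁ U₂ hU₂ e₂ O hO₁ hO₂ γ H O' hO' h₁ h₂
    rw [← ht U₁ hU₁ e₁ O' (hO'.trans (r.preimage_mono hO₁)) h₁, ← ht U₂ hU₂ e₂ O' (hO'.trans (r.preimage_mono hO₂)) h₂,
      ← Scheme.Modules.Hom.app_smul]
    congr 1
    have k1 := res_unitSec r O1 (hO'.trans (r.preimage_mono hO₁)) hO' hO₁ le_rfl
      (sig p chart E j hj O1 lam1 hO1 U₁ hU₁ e₁)
    have k2 := res_unitSec r O1 (hO'.trans (r.preimage_mono hO₂)) hO' hO₂ le_rfl
      (sig p chart E j hj O1 lam1 hO1 U₂ hU₂ e₂)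
    rw [res_self] at k1 k2
    rw [k1, k2, H, unitSec_smul]

end Groth.Agent.Lib.T2H4.RLBridge
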