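import Mathlib
import Groth.Prelude.Def_RelProj4
import Groth.Agent.Lib.Helper2RelTwistPullback
import Groth.Agent.Lib.Helper13ProjBC3

/-!
# Pullback of `O(n)` along the morphism of relative Proj's induced by a graded morphism over a morphism of bases (helper4)

Base-change version of helper2's `RelTwistPullback`: for `ψ : Y' ⟶ Y`, a graded `ψ`-morphism `u : 𝒜 ⟶ ψ_* ℬ` and
`h : Proj ℬ ⟶ Proj 𝒜` given chartwise by `Proj.map (u_{U,U'})`, one has `h^* O(n) ≅ O(n)` when `𝒜` is generated in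
degree one.
-/

set_option autoImplicit false
set_option linter.style.haveILetI false
set_option linter.unusedSectionVars false
universe u
open CategoryTheory Limits AlgebraicGeometry TopologicalSpace Opposite
open scoped HomogeneousIdeal

namespace Groth.Agent.Lib.T2H4.TwistBC

open Groth.Agent.Lib.Helper2GrModSect
open Groth.Agent.Lib.Helper2.RelTildeQCoh Groth.Agent.Lib.Helper23.SecTw Groth.Agent.Lib.Helper6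
  Groth.Agent.Lib.Helper2.Push Groth.Agent.Lib.Helper2.RelTwistGen Groth.Agent.Lib.Helper2.IsGenCover
  Groth.Agent.Lib.Helper2.RelTwistTriv Groth.Agent.Lib.Helper2.RelTwistTensor RelProj
  Groth.Agent.Lib.Helper23.GenLocus Groth.Agent.Lib.Helper2.RelTwistInv Groth.Agent.Lib.Helper23.PB
  Groth.Agent.Helper13PullbackUnit Groth.Agent.Lib.Helper2.RelTwistPullback

variable {Y Y' PA PB : Scheme.{u}} {ψ : Y' ⟶ Y} {𝒜 : RelProj.QCGrAlg Y} {ℬ : RelProj.QCGrAlg Y'}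
  (u : RelProj.QGrHom ψ 𝒜 ℬ)
  (hirr : ∀ (U : Y.Opens) (hU : IsAffineOpen U) (U' : Y'.Opens) (hU' : IsAffineOpen U') (hle : U' ≤ ψ ⁻¹ᵁ U),
      (ℬ.deg U' hU')₊ ≤ ((𝒜.deg U hU)₊).map (u.gradedAt U hU U' hU' hle))
  (pA : PA ⟶ Y) (pB : PB ⟶ Y')
  (chartA : ∀ (U : Y.Opens) (hU : IsAffineOpen U), (((pA ⁻¹ᵁ U : PA.Opens) : Scheme.{u}) ≅ Proj (𝒜.deg U hU)))
  (chartB : ∀ (U : Y'.Opens) (hU : IsAffineOpen U), (((pB ⁻¹ᵁ U : PB.Opens) : Scheme.{u}) ≅ Proj (ℬ.deg U hU)))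
  (h : PB ⟶ PA)
  (hh : ∀ (U : Y.Opens) (hU : IsAffineOpen U) (U' : Y'.Opens) (hU' : IsAffineOpen U') (hle : U' ≤ ψ ⁻¹ᵁ U),
    RelProj.emb pB chartB U' hU' ≫ h =
      Proj.map (u.gradedAt U hU U' hU' hle) (hirr U hU U' hU' hle) ≫ RelProj.emb pA chartA U hU)

include hh in
theorem emb_comp_apply (U : Y.Opens) (hU : IsAffineOpen U) (U' : Y'.Opens) (hU' : IsAffineOpen U')
    (hle : U' ≤ ψ ⁻¹ᵁ U) (y : ProjectiveSpectrum (ℬ.deg U' hU')) :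
    h (RelProj.emb pB chartB U' hU' y) =
      RelProj.emb pA chartA U hU
        (ProjectiveSpectrum.comap (u.gradedAt U hU U' hU' hle) (hirr U hU U' hU' hle) y) := by
  rw [← Scheme.Hom.comp_apply, hh U hU U' hU' hle]
  rfl

theorem gradedAt_res {U D : Y.Opens} {U' D' : Y'.Opens} (hU : IsAffineOpen U) (hD : IsAffineOpen D)
    (hU' : IsAffineOpen U') (hD' : IsAffineOpen D') (i : D ≤ U) (i' : D' ≤ U') (hle : U' ≤ ψ ⁻¹ᵁ U)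
    (hleD : D' ≤ ψ ⁻¹ᵁ D) (x : 𝒜.presheaf.obj (op U)) :
    u.gradedAt D hD D' hD' hleD (𝒜.res hU hD i x) = ℬ.res hU' hD' i' (u.gradedAt U hU U' hU' hle x) := by
  have h1 := congrArg (fun t : 𝒜.presheaf.obj (op U) ⟶ _ => t.hom x) (u.toQHom.map_appLE i hleD)
  have h2 := congrArg (fun t : 𝒜.presheaf.obj (op U) ⟶ _ => t.hom x) (u.toQHom.appLE_map hle i')
  exact h1.trans h2.symm

/-- the point of `Y` below a point of a chart -/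
theorem p_emb_mem (U' : Y'.Opens) (hU' : IsAffineOpen U') (y : ProjectiveSpectrum (ℬ.deg U' hU')) :
    pB (RelProj.emb pB chartB U' hU' y) ∈ U' :=
  image_emb_le pB chartB U' hU' ⊤ ⟨y, trivial, rfl⟩

section transition

variable (n : ℤ) (LA : PA.Modules)
  (lamA : ∀ (U : Y.Opens) (hU : IsAffineOpen U),
    LA ⟶ (Scheme.Modules.pushforward (RelProj.emb pA chartA U hU)).obj (GrTwist.twist (𝒜.deg U hU) n))
  (hLA : RelProj.IsRelTwist 𝒜 pA chartA n LA lamA) (LB : PB.Modules)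
  (lamB : ∀ (U : Y'.Opens) (hU : IsAffineOpen U),
    LB ⟶ (Scheme.Modules.pushforward (RelProj.emb pB chartB U hU)).obj (GrTwist.twist (ℬ.deg U hU) n))
  (hLB : RelProj.IsRelTwist ℬ pB chartB n LB lamB)

include hLA hLB hh in
/-- the transition functions of the frames of `O_{P_ℬ}(n)` reading `u a / u b` are the pullbacks of those of the
frames of `O_{P_𝒜}(n)` reading `a / b`. -/
theorem pullback_transition (hA : RelProj.IsRelProj 𝒜 pA chartA) (hB : RelProj.IsRelProj ℬ pB chartB)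
    (hpp : h ≫ pA = pB ≫ ψ)
    (U₁ : Y.Opens) (hU₁ : IsAffineOpen U₁) (U₂ : Y.Opens) (hU₂ : IsAffineOpen U₂)
    (U'₁ : Y'.Opens) (hU'₁ : IsAffineOpen U'₁) (U'₂ : Y'.Opens) (hU'₂ : IsAffineOpen U'₂)
    (hle₁ : U'₁ ≤ ψ ⁻¹ᵁ U₁) (hle₂ : U'₂ ≤ ψ ⁻¹ᵁ U₂)
    (V₁ V₂ : PA.Opens) (a₁ b₁ : 𝒜.presheaf.obj (op U₁)) (a₂ b₂ : 𝒜.presheaf.obj (op U₂))
    (hb₁ : ∀ y : ((RelProj.emb pA chartA U₁ hU₁) ⁻¹ᵁ V₁ : (Proj (𝒜.deg U₁ hU₁)).Opens),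
      b₁ ∉ y.1.asHomogeneousIdeal)
    (hb₂ : ∀ y : ((RelProj.emb pA chartA U₂ hU₂) ⁻¹ᵁ V₂ : (Proj (𝒜.deg U₂ hU₂)).Opens),
      b₂ ∉ y.1.asHomogeneousIdeal)
    (e₁ : Γ(LA, V₁))
    (he₁ : ∀ y : ((RelProj.emb pA chartA U₁ hU₁) ⁻¹ᵁ V₁ : (Proj (𝒜.deg U₁ hU₁)).Opens),
      GrTwist.val (V := RelProj.emb pA chartA U₁ hU₁ ⁻¹ᵁ V₁) ((lamA U₁ hU₁).app V₁ e₁) y =
        Localization.mk a₁ ⟨b₁, hb₁ y⟩)
    (e₂ : Γ(LA, V₂))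
    (he₂ : ∀ y : ((RelProj.emb pA chartA U₂ hU₂) ⁻¹ᵁ V₂ : (Proj (𝒜.deg U₂ hU₂)).Opens),
      GrTwist.val (V := RelProj.emb pA chartA U₂ hU₂ ⁻¹ᵁ V₂) ((lamA U₂ hU₂).app V₂ e₂) y =
        Localization.mk a₂ ⟨b₂, hb₂ y⟩)
    (W₁ W₂ : PB.Opens) (hW₁ : W₁ ≤ pB ⁻¹ᵁ U'₁) (hW₂ : W₂ ≤ pB ⁻¹ᵁ U'₂)
    (hb'₁ : ∀ y : ((RelProj.emb pB chartB U'₁ hU'₁) ⁻¹ᵁ W₁ : (Proj (ℬ.deg U'₁ hU'₁)).Opens),
      u.gradedAt U₁ hU₁ U'₁ hU'₁ hle₁ b₁ ∉ y.1.asHomogeneousIdeal)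
    (hb'₂ : ∀ y : ((RelProj.emb pB chartB U'₂ hU'₂) ⁻¹ᵁ W₂ : (Proj (ℬ.deg U'₂ hU'₂)).Opens),
      u.gradedAt U₂ hU₂ U'₂ hU'₂ hle₂ b₂ ∉ y.1.asHomogeneousIdeal)
    (e'₁ : Γ(LB, W₁))
    (he'₁ : ∀ y : ((RelProj.emb pB chartB U'₁ hU'₁) ⁻¹ᵁ W₁ : (Proj (ℬ.deg U'₁ hU'₁)).Opens),
      GrTwist.val (V := RelProj.emb pB chartB U'₁ hU'₁ ⁻¹ᵁ W₁) ((lamB U'₁ hU'₁).app W₁ e'₁) y =
        Localization.mk (u.gradedAt U₁ hU₁ U'₁ hU'₁ hle₁ a₁) ⟨u.gradedAt U₁ hU₁ U'₁ hU'₁ hle₁ b₁, hb'₁ y⟩)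
    (e'₂ : Γ(LB, W₂))
    (he'₂ : ∀ y : ((RelProj.emb pB chartB U'₂ hU'₂) ⁻¹ᵁ W₂ : (Proj (ℬ.deg U'₂ hU'₂)).Opens),
      GrTwist.val (V := RelProj.emb pB chartB U'₂ hU'₂ ⁻¹ᵁ W₂) ((lamB U'₂ hU'₂).app W₂ e'₂) y =
        Localization.mk (u.gradedAt U₂ hU₂ U'₂ hU'₂ hle₂ a₂) ⟨u.gradedAt U₂ hU₂ U'₂ hU'₂ hle₂ b₂, hb'₂ y⟩)
    (O : PA.Opens) (hO₁ : O ≤ V₁) (hO₂ : O ≤ V₂) (γ : Γ(PA, O))
    (H : res LA hO₁ e₁ = γ • res LA hO₂ e₂)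
    (O' : PB.Opens) (hO'₁ : O' ≤ W₁) (hO'₂ : O' ≤ W₂) (hO' : O' ≤ h ⁻¹ᵁ O) :
    res LB hO'₁ e'₁ = h.appLE O O' hO' γ • res LB hO'₂ e'₂ := by
  have hψp : ∀ z : PB, ψ (pB z) = pA (h z) := by
    intro z
    rw [← Scheme.Hom.comp_apply, ← Scheme.Hom.comp_apply, hpp]
  have key : ∀ x : O', ∃ (O'' : PB.Opens) (hO'' : O'' ≤ O'), x.1 ∈ O'' ∧
      res LB hO'' (res LB hO'₁ e'₁) = res LB hO'' (h.appLE O O' hO' γ • res LB hO'₂ e'₂) := by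
    intro x
    have hxU'₁ : pB x.1 ∈ U'₁ := hW₁ (hO'₁ x.2)
    have hxU'₂ : pB x.1 ∈ U'₂ := hW₂ (hO'₂ x.2)
    obtain ⟨r, r', hrr', hxr⟩ := exists_basicOpen_le_affine_inter hU₁ hU₂ (ψ (pB x.1))
      ⟨hle₁ hxU'₁, hle₂ hxU'₂⟩
    obtain ⟨s, s', hss', hxs⟩ := exists_basicOpen_le_affine_inter hU'₁ hU'₂ (pB x.1) ⟨hxU'₁, hxU'₂⟩
    -- the common refinements, downstairs and upstairs
    obtain ⟨D, hDr, hDr', hDaff, hDU₁, hDU₂, hxD⟩ : ∃ D : Y.Opens, D = Y.basicOpen r ∧ D = Y.basicOpen r' ∧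
        IsAffineOpen D ∧ D ≤ U₁ ∧ D ≤ U₂ ∧ ψ (pB x.1) ∈ D :=
      ⟨_, rfl, hrr', hU₁.basicOpen r, Y.basicOpen_le r, hrr' ▸ Y.basicOpen_le r', hxr⟩
    obtain ⟨D', hDρ, hDρ', hD'aff, hD'U₁, hD'U₂, hD'D, hxD'⟩ : ∃ D' : Y'.Opens,
        D' = Y'.basicOpen (s * ψ.appLE U₁ U'₁ hle₁ r) ∧ D' = Y'.basicOpen (s' * ψ.appLE U₂ U'₂ hle₂ r') ∧
        IsAffineOpen D' ∧ D' ≤ U'₁ ∧ D' ≤ U'₂ ∧ D' ≤ ψ ⁻¹ᵁ D ∧ pB x.1 ∈ D' := by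
      have hD : Y'.basicOpen (s * ψ.appLE U₁ U'₁ hle₁ r) = Y'.basicOpen (s' * ψ.appLE U₂ U'₂ hle₂ r') := by
        rw [Scheme.basicOpen_mul, Scheme.basicOpen_mul, Scheme.basicOpen_appLE, Scheme.basicOpen_appLE,
          ← hrr', ← hss']
        apply le_antisymm
        · exact le_inf inf_le_left (le_inf (inf_le_left.trans (hss' ▸ Y'.basicOpen_le s'))
            (inf_le_right.trans inf_le_right))
        · exact le_inf inf_le_left (le_inf (inf_le_left.trans (Y'.basicOpen_le s))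
            (inf_le_right.trans inf_le_right))
      refine ⟨_, rfl, hD, hU'₁.basicOpen _, Y'.basicOpen_le _, hD ▸ Y'.basicOpen_le _, ?_, ?_⟩
      · rw [Scheme.basicOpen_mul, Scheme.basicOpen_appLE, hDr]
        exact inf_le_right.trans inf_le_right
      · rw [Scheme.basicOpen_mul, Scheme.basicOpen_appLE]
        exact ⟨hxs, hxU'₁, hxr⟩
    refine ⟨O' ⊓ pB ⁻¹ᵁ D', inf_le_left, ⟨x.2, hxD'⟩, ?_⟩
    rw [res_res, res_smul, res_res]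
    apply (hLB.bijective D' hD'aff _ inf_le_right).1
    apply twist_ext
    intro y''
    -- the point of `Proj 𝒜(D)` below `y''`
    have hxA : (RelProj.emb pA chartA D hDaff)
        (ProjectiveSpectrum.comap (u.gradedAt D hDaff D' hD'aff hD'D) (hirr D hDaff D' hD'aff hD'D) y''.1) ∈
          O ⊓ pA ⁻¹ᵁ D := by
      rw [← emb_comp_apply u hirr pA pB chartA chartB h hh D hDaff D' hD'aff hD'D]
      refine ⟨hO' y''.2.1, ?_⟩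
      rw [emb_comp_apply u hirr pA pB chartA chartB h hh D hDaff D' hD'aff hD'D]
      exact image_emb_le pA chartA _ hDaff ⊤ ⟨_, trivial, rfl⟩
    obtain ⟨hβ₁, v1⟩ := val_lam_res pB chartB n LB lamB hLB hB U'₁ hU'₁ _ D' hD'aff
      hDρ hD'U₁ W₁ e'₁ _ _ hb'₁ he'₁ (O' ⊓ pB ⁻¹ᵁ D') (inf_le_left.trans hO'₁) y''.1 y''.2
    obtain ⟨hβ₂, v2⟩ := val_lam_res pB chartB n LB lamB hLB hB U'₂ hU'₂ _ D' hD'aff
      hDρ' hD'U₂ W₂ e'₂ _ _ hb'₂ he'₂ (O' ⊓ pB ⁻¹ᵁ D') (inf_le_left.trans hO'₂) y''.1 y''.2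
    obtain ⟨hα₁, w1⟩ := val_lam_res pA chartA n LA lamA hLA hA U₁ hU₁ r D hDaff
      hDr hDU₁ V₁ e₁ a₁ b₁ hb₁ he₁ (O ⊓ pA ⁻¹ᵁ D) (inf_le_left.trans hO₁) _ hxA
    obtain ⟨hα₂, w2⟩ := val_lam_res pA chartA n LA lamA hLA hA U₂ hU₂ r' D hDaff
      hDr' hDU₂ V₂ e₂ a₂ b₂ hb₂ he₂ (O ⊓ pA ⁻¹ᵁ D) (inf_le_left.trans hO₂) _ hxA
    -- the pulled back function, restricted
    have hO''A : O' ⊓ pB ⁻¹ᵁ D' ≤ h ⁻¹ᵁ (O ⊓ pA ⁻¹ᵁ D) := by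
      intro z hz
      refine ⟨hO' hz.1, ?_⟩
      change pA (h z) ∈ D
      rw [← hψp]
      exact hD'D hz.2
    have hc : resf (inf_le_left : O' ⊓ pB ⁻¹ᵁ D' ≤ O') (h.appLE O O' hO' γ) =
        h.appLE (O ⊓ pA ⁻¹ᵁ D) (O' ⊓ pB ⁻¹ᵁ D') hO''A
          (resf (inf_le_left : O ⊓ pA ⁻¹ᵁ D ≤ O) γ) := by
      have h1 := congrArg (fun f => f.hom γ)
        (Scheme.Hom.appLE_map h hO' (homOfLE (inf_le_left : O' ⊓ pB ⁻¹ᵁ D' ≤ O')).op)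
      have h2 := congrArg (fun f => f.hom γ)
        (Scheme.Hom.map_appLE h hO''A (homOfLE (inf_le_left : O ⊓ pA ⁻¹ᵁ D ≤ O)).op)
      exact h1.trans h2.symm
    have hfv := funVal_pullback (u.gradedAt D hDaff D' hD'aff hD'D) (hirr D hDaff D' hD'aff hD'D) h
      (RelProj.emb pA chartA D hDaff) (RelProj.emb pB chartB D' hD'aff) (hh D hDaff D' hD'aff hD'D)
      (O ⊓ pA ⁻¹ᵁ D) (resf (inf_le_left : O ⊓ pA ⁻¹ᵁ D ≤ O) γ)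
      (O' ⊓ pB ⁻¹ᵁ D') hO''A y''.1 y''.2 hxA
    -- the `𝒜`-side identity
    have H' := congrArg (res LA (inf_le_left : O ⊓ pA ⁻¹ᵁ D ≤ O)) H
    rw [res_smul, res_res, res_res] at H'
    have H'' := congrArg (fun σ => GrTwist.val
      (V := RelProj.emb pA chartA D hDaff ⁻¹ᵁ (O ⊓ pA ⁻¹ᵁ D))
      ((lamA D hDaff).app (O ⊓ pA ⁻¹ᵁ D) σ) ⟨_, hxA⟩) H'
    simp only at H''
    have hsmA : GrTwist.val
        (V := RelProj.emb pA chartA D hDaff ⁻¹ᵁ (O ⊓ pA ⁻¹ᵁ D))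
        ((lamA D hDaff).app (O ⊓ pA ⁻¹ᵁ D)
          (resf (inf_le_left : O ⊓ pA ⁻¹ᵁ D ≤ O) γ •
            res LA (inf_le_left.trans hO₂) e₂)) ⟨_, hxA⟩ =
        (funVal (𝒜.deg D hDaff) _
          ((RelProj.emb pA chartA D hDaff).app _
            (resf (inf_le_left : O ⊓ pA ⁻¹ᵁ D ≤ O) γ)) _ hxA).val *
        GrTwist.val
          (V := RelProj.emb pA chartA D hDaff ⁻¹ᵁ (O ⊓ pA ⁻¹ᵁ D))
          ((lamA D hDaff).app (O ⊓ pA ⁻¹ᵁ D)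
            (res LA (inf_le_left.trans hO₂) e₂)) ⟨_, hxA⟩ := by
      rw [Scheme.Modules.Hom.app_smul, Groth.Agent.Lib.Helper2.Push.pushforward_smul]
      rfl
    have hsmB : GrTwist.val
        (V := RelProj.emb pB chartB D' hD'aff ⁻¹ᵁ (O' ⊓ pB ⁻¹ᵁ D'))
        ((lamB D' hD'aff).app (O' ⊓ pB ⁻¹ᵁ D')
          (resf (inf_le_left : O' ⊓ pB ⁻¹ᵁ D' ≤ O') (h.appLE O O' hO' γ) •
            res LB (inf_le_left.trans hO'₂) e'₂)) y'' =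
        (funVal (ℬ.deg D' hD'aff) _
          ((RelProj.emb pB chartB D' hD'aff).app _
            (resf (inf_le_left : O' ⊓ pB ⁻¹ᵁ D' ≤ O') (h.appLE O O' hO' γ))) y''.1 y''.2).val *
        GrTwist.val
          (V := RelProj.emb pB chartB D' hD'aff ⁻¹ᵁ (O' ⊓ pB ⁻¹ᵁ D'))
          ((lamB D' hD'aff).app (O' ⊓ pB ⁻¹ᵁ D')
            (res LB (inf_le_left.trans hO'₂) e'₂)) y'' := by
      rw [Scheme.Modules.Hom.app_smul, Groth.Agent.Lib.Helper2.Push.pushforward_smul]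
      rfl
    rw [w1, hsmA, w2] at H''
    rw [v1, hsmB, v2, hc, hfv]
    have H3 := congrArg (GrTwist.locMap (u.gradedAt D hDaff D' hD'aff hD'D)
      (hirr D hDaff D' hD'aff hD'D) y''.1) H''
    rw [map_mul, GrTwist.locMap_mk, GrTwist.locMap_mk] at H3
    rw [← mk_congr _ (gradedAt_res u hU₁ hDaff hU'₁ hD'aff hDU₁ hD'U₁ hle₁ hD'D a₁)
      (gradedAt_res u hU₁ hDaff hU'₁ hD'aff hDU₁ hD'U₁ hle₁ hD'D b₁) _ hβ₁,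
      ← mk_congr _ (gradedAt_res u hU₂ hDaff hU'₂ hD'aff hDU₂ hD'U₂ hle₂ hD'D a₂)
      (gradedAt_res u hU₂ hDaff hU'₂ hD'aff hDU₂ hD'U₂ hle₂ hD'D b₂) _ hβ₂]
    exact H3
  choose O'' hO'' hxO'' hres using key
  refine (modSheaf LB).eq_of_locally_eq' (fun x : O' => O'' x) _ (fun x => homOfLE (hO'' x)) ?_ _ _ hres
  intro x hx'
  exact Opens.mem_iSup.mpr ⟨⟨x, hx'⟩, hxO'' _⟩

end transition

end Groth.Agent.Lib.T2H4.TwistBC
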