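import Mathlib
import Groth.Prelude.Def_RelProj4
import Groth.Agent.Lib.Helper13RLb
import Groth.Agent.Lib.Helper2RelTildeTN
import Groth.Agent.Lib.T2H4TwistBCA

/-!
# The irrelevant-ideal condition for a graded morphism with surjective degree-one part (helper4)

For a graded `q`-morphism `u : 𝒜 → q_* 𝒮` with `𝒮` generated in degree one and such that, locally on the source, the image of
one degree-one section of `𝒜` generates `𝒮_1`, the irrelevant ideal of `𝒮(V)` lies in the ideal generated by the image of the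
irrelevant ideal of `𝒜(U)`, for every affine pair `(U, V)` (Mathlib's hypothesis for `Proj.map`).
-/

set_option autoImplicit false
set_option linter.style.haveILetI false
set_option linter.unusedSectionVars false
set_option linter.unusedVariables false
universe u
open CategoryTheory Limits AlgebraicGeometry TopologicalSpace Opposite
open scoped HomogeneousIdeal

namespace Groth.Agent.Lib.T2H4.RLBridge

variable {X Y : Scheme.{u}} {q : X ⟶ Y} {𝒜 : RelProj.QCGrAlg Y} {𝒮L : RelProj.QCGrAlg X}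
  (u : RelProj.QGrHom q 𝒜 𝒮L)

/-- generation of the degree-one part by one element passes to basic opens -/
theorem deg_one_le_span_res (𝒮 : RelProj.QCGrAlg X) {V D : X.Opens} (hV : IsAffineOpen V)
    (hD : IsAffineOpen D) (ρ : Γ(X, V)) (hDρ : D = X.basicOpen ρ) (hDV : D ≤ V)
    (g : 𝒮.presheaf.obj (op V))
    (hg : ((𝒮.deg V hV 1 : AddSubgroup (𝒮.presheaf.obj (op V))) : Set (𝒮.presheaf.obj (op V))) ⊆
      (Ideal.span {g} : Set (𝒮.presheaf.obj (op V))))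
    {y : 𝒮.presheaf.obj (op D)} (hy : y ∈ 𝒮.deg D hD 1) :
    ∃ c : 𝒮.presheaf.obj (op D), y = c * 𝒮.res hV hD hDV g := by
  subst hDρ
  obtain ⟨k, y₀, hy₀, hres⟩ := Groth.Agent.Helper13RL.exists_lift_deg (𝒮 := 𝒮) hV ρ hy
  obtain ⟨c₀, hc₀⟩ := Ideal.mem_span_singleton'.mp (hg hy₀)
  obtain ⟨w, hw⟩ := Groth.Agent.Helper13RL.isUnit_res_str (𝒮 := 𝒮) hV ρ
  refine ⟨𝒮.res hV hD hDV c₀ * ((w⁻¹ : _ˣ) : 𝒮.presheaf.obj (op (X.basicOpen ρ))) ^ k, ?_⟩
  have h1 : y = 𝒮.res hV hD hDV y₀ * ((w⁻¹ : _ˣ) : 𝒮.presheaf.obj (op (X.basicOpen ρ))) ^ k := by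
    have h2 : 𝒮.res hV hD hDV y₀ = y * (w : 𝒮.presheaf.obj (op (X.basicOpen ρ))) ^ k := by
      rw [hw]; exact hres
    rw [h2, mul_assoc, ← mul_pow, Units.mul_inv, one_pow, mul_one]
  rw [h1, ← hc₀, map_mul]
  ring

/-- the ideal of functions multiplying `t` into `J` -/
def colonIdeal {R B : Type u} [CommRing R] [CommRing B] (str : R →+* B) (J : Ideal B) (t : B) : Ideal R where
  carrier := {a | str a * t ∈ J}
  add_mem' := by
    intro a b ha hb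
    simp only [Set.mem_setOf_eq, map_add, add_mul] at ha hb ⊢
    exact add_mem ha hb
  zero_mem' := by simp
  smul_mem' := by
    intro c a ha
    simp only [smul_eq_mul, Set.mem_setOf_eq, map_mul, mul_assoc] at ha ⊢
    exact J.mul_mem_left _ ha

open Groth.Agent.Lib.T2H4.TwistBC in
/-- **the irrelevant-ideal condition** for a graded `q`-morphism whose degree-one part is surjective onto a target
generated in degree one. -/
theorem irrelevant_le_map_of_surj (hgenL : 𝒮L.IsGenDegOne)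
    (hsurj : ∀ x : X, ∃ (U : Y.Opens) (hU : IsAffineOpen U) (e : 𝒜.presheaf.obj (op U)) (_ : e ∈ 𝒜.deg U hU 1)
        (V : X.Opens) (hV : IsAffineOpen V) (hVU : V ≤ q ⁻¹ᵁ U), x ∈ V ∧
          ((𝒮L.deg V hV 1 : AddSubgroup (𝒮L.presheaf.obj (op V))) : Set (𝒮L.presheaf.obj (op V))) ⊆
            (Ideal.span {(u.appLE U V hVU).hom e} : Set (𝒮L.presheaf.obj (op V))))
    (U : Y.Opens) (hU : IsAffineOpen U) (V : X.Opens) (hV : IsAffineOpen V) (hle : V ≤ q ⁻¹ᵁ U) :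
    (𝒮L.deg V hV)₊ ≤ ((𝒜.deg U hU)₊).map (u.gradedAt U hU V hV hle) := by
  classical
  set φ := u.gradedAt U hU V hV hle with hφ
  set J : Ideal (𝒮L.presheaf.obj (op V)) := Ideal.map φ ((𝒜.deg U hU)₊).toIdeal with hJ
  suffices h1 : ∀ t ∈ 𝒮L.deg V hV 1, t ∈ J by
    change ((𝒮L.deg V hV)₊).toIdeal ≤ J
    rw [Groth.Agent.Lib.Helper2.RelTildeTN.irrelevant_eq_span_of_gen _ (hgenL V hV), Ideal.span_le]
    exact fun t ht => h1 t ht
  intro t ht
  let 𝔞 : Ideal Γ(X, V) := colonIdeal (𝒮L.str.app (op V)).hom J t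
  suffices h𝔞 : 𝔞 = ⊤ by
    have h1 : (1 : Γ(X, V)) ∈ 𝔞 := h𝔞 ▸ Submodule.mem_top
    change (𝒮L.str.app (op V)).hom 1 * t ∈ J at h1
    rwa [map_one, one_mul] at h1
  have key : ∀ x : V, ∃ h ∈ 𝔞, x.1 ∈ X.basicOpen h := by
    rintro ⟨x, hxV⟩
    obtain ⟨U₁, hU₁, e₁, he₁, V₁, hV₁, hVU₁, hxV₁, hspan₁⟩ := hsurj x
    obtain ⟨r, r', hrr', hxr⟩ := exists_basicOpen_le_affine_inter hU hU₁ (q x) ⟨hle hxV, hVU₁ hxV₁⟩
    obtain ⟨s, s', hss', hxs⟩ := exists_basicOpen_le_affine_inter hV hV₁ x ⟨hxV, hxV₁⟩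
    obtain ⟨D, hDr, hDr', hDaff, hDU, hDU₁, hxD⟩ : ∃ D : Y.Opens, D = Y.basicOpen r ∧ D = Y.basicOpen r' ∧
        IsAffineOpen D ∧ D ≤ U ∧ D ≤ U₁ ∧ q x ∈ D :=
      ⟨_, rfl, hrr', hU.basicOpen r, Y.basicOpen_le r, hrr' ▸ Y.basicOpen_le r', hxr⟩
    obtain ⟨D', hDρ, hDρ', hD'aff, hD'V, hD'V₁, hD'D, hxD'⟩ : ∃ D' : X.Opens,
        D' = X.basicOpen (s * q.appLE U V hle r) ∧ D' = X.basicOpen (s' * q.appLE U₁ V₁ hVU₁ r') ∧
        IsAffineOpen D' ∧ D' ≤ V ∧ D' ≤ V₁ ∧ D' ≤ q ⁻¹ᵁ D ∧ x ∈ D' := by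
      have hD : X.basicOpen (s * q.appLE U V hle r) = X.basicOpen (s' * q.appLE U₁ V₁ hVU₁ r') := by
        rw [Scheme.basicOpen_mul, Scheme.basicOpen_mul, Scheme.basicOpen_appLE, Scheme.basicOpen_appLE,
          ← hrr', ← hss']
        apply le_antisymm
        · exact le_inf inf_le_left (le_inf (inf_le_left.trans (hss' ▸ X.basicOpen_le s'))
            (inf_le_right.trans inf_le_right))
        · exact le_inf inf_le_left (le_inf (inf_le_left.trans (X.basicOpen_le s))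
            (inf_le_right.trans inf_le_right))
      refine ⟨_, rfl, hD, hV.basicOpen _, X.basicOpen_le _, hD ▸ X.basicOpen_le _, ?_, ?_⟩
      · rw [Scheme.basicOpen_mul, Scheme.basicOpen_appLE, hDr]
        exact inf_le_right.trans inf_le_right
      · rw [Scheme.basicOpen_mul, Scheme.basicOpen_appLE]
        exact ⟨hxs, hxV, hxr⟩
    subst hDr
    have he₁D : 𝒜.res hU₁ hDaff hDU₁ e₁ ∈ 𝒜.deg (Y.basicOpen r) hDaff 1 :=
      (𝒜.res hU₁ hDaff hDU₁).map_mem he₁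
    obtain ⟨k, e₀, he₀, hres₀⟩ := Groth.Agent.Helper13RL.exists_lift_deg (𝒮 := 𝒜) hU r he₁D
    have htD' : 𝒮L.res hV hD'aff hD'V t ∈ 𝒮L.deg D' hD'aff 1 := (𝒮L.res hV hD'aff hD'V).map_mem ht
    obtain ⟨c, hc⟩ := deg_one_le_span_res 𝒮L hV₁ hD'aff _ hDρ' hD'V₁ _ hspan₁ htD'
    have g1 : 𝒮L.res hV₁ hD'aff hD'V₁ (u.gradedAt U₁ hU₁ V₁ hV₁ hVU₁ e₁) =
        u.gradedAt (Y.basicOpen r) hDaff D' hD'aff hD'D (𝒜.res hU₁ hDaff hDU₁ e₁) :=
      (gradedAt_res u hU₁ hDaff hV₁ hD'aff hDU₁ hD'V₁ hVU₁ hD'D e₁).symm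
    have g2 : 𝒮L.res hV hD'aff hD'V (φ e₀) =
        u.gradedAt (Y.basicOpen r) hDaff D' hD'aff hD'D (𝒜.res hU hDaff hDU e₀) :=
      (gradedAt_res u hU hDaff hV hD'aff hDU hD'V hle hD'D e₀).symm
    obtain ⟨w, hw⟩ : IsUnit (u.gradedAt (Y.basicOpen r) hDaff D' hD'aff hD'D
        (𝒜.res hU hDaff hDU ((𝒜.str.app (op U)).hom r))) :=
      (Groth.Agent.Helper13RL.isUnit_res_str (𝒮 := 𝒜) hU r).map _
    -- `t|_{D'} = c₂ * (φ e₀)|_{D'}`
    have hc₂ : 𝒮L.res hV hD'aff hD'V t =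
        (c * ((w⁻¹ : _ˣ) : 𝒮L.presheaf.obj (op D')) ^ k) * 𝒮L.res hV hD'aff hD'V (φ e₀) := by
      have h3 : 𝒮L.res hV hD'aff hD'V (φ e₀) =
          u.gradedAt (Y.basicOpen r) hDaff D' hD'aff hD'D (𝒜.res hU₁ hDaff hDU₁ e₁) *
            (w : 𝒮L.presheaf.obj (op D')) ^ k := by
        rw [g2, hw, ← map_pow, ← map_mul]
        exact congrArg _ hres₀
      have h4 : (u.appLE U₁ V₁ hVU₁).hom e₁ = u.gradedAt U₁ hU₁ V₁ hV₁ hVU₁ e₁ := rfl
      rw [hc, h4, g1, h3]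
      have h5 : (w : 𝒮L.presheaf.obj (op D')) ^ k * ((w⁻¹ : _ˣ) : 𝒮L.presheaf.obj (op D')) ^ k = 1 := by
        rw [← mul_pow, Units.mul_inv, one_pow]
      calc c * _ = c * u.gradedAt (Y.basicOpen r) hDaff D' hD'aff hD'D (𝒜.res hU₁ hDaff hDU₁ e₁) *
            ((w : 𝒮L.presheaf.obj (op D')) ^ k * ((w⁻¹ : _ˣ) : 𝒮L.presheaf.obj (op D')) ^ k) := by
            rw [h5, mul_one]
        _ = _ := by ring
    subst hDρ
    let _inst := (𝒮L.presheaf.map (homOfLE (X.basicOpen_le (s * q.appLE U V hle r))).op).hom.toAlgebra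
    have hloc : IsLocalization.Away ((𝒮L.str.app (op V)).hom (s * q.appLE U V hle r))
        (𝒮L.presheaf.obj (op (X.basicOpen (s * q.appLE U V hle r)))) := 𝒮L.isQC V hV _
    obtain ⟨⟨c₃, s₃, hs₃⟩, hc₃⟩ := IsLocalization.surj
      (Submonoid.powers ((𝒮L.str.app (op V)).hom (s * q.appLE U V hle r)))
      (c * ((w⁻¹ : _ˣ) : 𝒮L.presheaf.obj (op (X.basicOpen (s * q.appLE U V hle r)))) ^ k)
    obtain ⟨m, rfl⟩ := (Submonoid.mem_powers_iff _ _).mp hs₃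
    have hc₃' : (c * ((w⁻¹ : _ˣ) : 𝒮L.presheaf.obj (op (X.basicOpen (s * q.appLE U V hle r)))) ^ k) *
        𝒮L.res hV hD'aff hD'V ((𝒮L.str.app (op V)).hom (s * q.appLE U V hle r) ^ m) =
        𝒮L.res hV hD'aff hD'V c₃ := hc₃
    have heq : 𝒮L.res hV hD'aff hD'V ((𝒮L.str.app (op V)).hom (s * q.appLE U V hle r) ^ m * t) =
        𝒮L.res hV hD'aff hD'V (c₃ * φ e₀) := by
      rw [map_mul (𝒮L.res hV hD'aff hD'V) _ t, map_mul (𝒮L.res hV hD'aff hD'V) c₃, hc₂, ← hc₃']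
      ring
    have heq' : algebraMap (𝒮L.presheaf.obj (op V)) (𝒮L.presheaf.obj (op (X.basicOpen (s * q.appLE U V hle r))))
        ((𝒮L.str.app (op V)).hom (s * q.appLE U V hle r) ^ m * t) =
        algebraMap (𝒮L.presheaf.obj (op V)) (𝒮L.presheaf.obj (op (X.basicOpen (s * q.appLE U V hle r))))
        (c₃ * φ e₀) := heq
    obtain ⟨⟨_, m', rfl⟩, hm'⟩ := (IsLocalization.eq_iff_exists
      (Submonoid.powers ((𝒮L.str.app (op V)).hom (s * q.appLE U V hle r))) _).mp heq'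
    have hφe₀ : φ e₀ ∈ J :=
      Ideal.mem_map_of_mem _ (HomogeneousIdeal.mem_irrelevant_of_mem _ one_pos he₀)
    refine ⟨(s * q.appLE U V hle r) ^ (m' + m + 1), ?_, ?_⟩
    · change (𝒮L.str.app (op V)).hom ((s * q.appLE U V hle r) ^ (m' + m + 1)) * t ∈ J
      have h6 : (𝒮L.str.app (op V)).hom ((s * q.appLE U V hle r) ^ (m' + m + 1)) * t =
          (𝒮L.str.app (op V)).hom (s * q.appLE U V hle r) *
            ((𝒮L.str.app (op V)).hom (s * q.appLE U V hle r) ^ m' *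
              ((𝒮L.str.app (op V)).hom (s * q.appLE U V hle r) ^ m * t)) := by
        rw [map_pow]
        ring
      rw [h6]
      simp only at hm'
      rw [hm']
      exact J.mul_mem_left _ (J.mul_mem_left _ (J.mul_mem_left _ hφe₀))
    · change x ∈ X.basicOpen ((s * q.appLE U V hle r) ^ (m' + m + 1))
      rw [Scheme.basicOpen_pow _ _ (Nat.succ_pos _)]
      exact hxD'
  rw [← Ideal.span_eq 𝔞, ← hV.iSup_basicOpen_eq_self_iff]
  apply le_antisymm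
  · exact iSup_le fun f => X.basicOpen_le _
  · intro x hx
    obtain ⟨h, hh, hxh⟩ := key ⟨x, hx⟩
    exact Opens.mem_iSup.mpr ⟨⟨h, hh⟩, hxh⟩

end Groth.Agent.Lib.T2H4.RLBridge
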