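import Mathlib
import Groth.Prelude.Def_RelProj4
import Groth.Agent.Lib.Helper13ProjGlue2
import Groth.Agent.Lib.Helper13ProjBC3
import Groth.Agent.Lib.Helper13RLj
import Groth.Agent.Lib.Helper2RelTildeQCoh

/-!
# Under the irrelevant-ideal condition, `Proj(u)` is everywhere defined and chartwise Mathlib's `Proj.map` (helper4)
-/

set_option autoImplicit false
set_option linter.style.haveILetI false
set_option linter.unusedSectionVars false
set_option linter.unusedVariables false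
universe u
open CategoryTheory Limits AlgebraicGeometry TopologicalSpace Opposite
open scoped HomogeneousIdeal

namespace Groth.Agent.Lib.T2H4.RLBridge

open Groth.Agent.Helper13RelProj

section ring
variable {A B σ τ : Type u} [CommRing A] [SetLike σ A] [AddSubgroupClass σ A]
  [CommRing B] [SetLike τ B] [AddSubgroupClass τ B]
  {𝒜 : ℕ → σ} {ℬ : ℕ → τ} [GradedRing 𝒜] [GradedRing ℬ]

theorem isPMap_map (φ : 𝒜 →+*ᵍ ℬ) (hirr : ℬ₊ ≤ 𝒜₊.map φ) :
    IsPMap φ (RelCone.domOpen φ).ι ((RelCone.domOpen φ).ι ≫ Proj.map φ hirr) := by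
  intro d f hd hf c hc
  rw [← Category.assoc, hc, Proj.awayι_comp_map]

end ring

variable {X Y P PL : Scheme.{u}} {q : X ⟶ Y} {𝒜 : RelProj.QCGrAlg Y} {𝒮L : RelProj.QCGrAlg X}
  (u : RelProj.QGrHom q 𝒜 𝒮L)
  (hirr : ∀ (U : Y.Opens) (hU : IsAffineOpen U) (V : X.Opens) (hV : IsAffineOpen V) (hle : V ≤ q ⁻¹ᵁ U),
      (𝒮L.deg V hV)₊ ≤ ((𝒜.deg U hU)₊).map (u.gradedAt U hU V hV hle))
  {p : P ⟶ Y}
  {chart : ∀ (U : Y.Opens) (hU : IsAffineOpen U), (((p ⁻¹ᵁ U : P.Opens) : Scheme.{u}) ≅ Proj (𝒜.deg U hU))}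
  {pL : PL ⟶ X}
  {chartL : ∀ (U : X.Opens) (hU : IsAffineOpen U), (((pL ⁻¹ᵁ U : PL.Opens) : Scheme.{u}) ≅ Proj (𝒮L.deg U hU))}

include hirr in
/-- under the irrelevant-ideal condition, `Proj(u)` is everywhere defined -/
theorem domQ_eq_top_of_irr : RelProj.domQ u pL chartL = ⊤ := by
  rw [eq_top_iff]
  intro z _
  obtain ⟨⟨⟨⟨U, hU⟩, ⟨V, hV⟩⟩, hle⟩, hy⟩ := Groth.Agent.Helper13ProjBC.exists_pair q (pL z)
  replace hU : IsAffineOpen U := hU
  replace hV : IsAffineOpen V := hV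
  have hz : z ∈ pL ⁻¹ᵁ V := hy
  obtain ⟨y, hy⟩ := Groth.Agent.Lib.Helper2.RelTildeQCoh.le_opensRange_emb pL chartL V hV hz
  refine Opens.mem_iSup.mpr ⟨⟨(⟨U, hU⟩, ⟨V, hV⟩), hle⟩, ?_⟩
  refine ⟨y, ?_, hy⟩
  have h1 := Groth.Agent.Helper13ProjBC.domOpen_eq_top_of_irrelevant_le (u.gradedAt U hU V hV hle)
    (hirr U hU V hV hle)
  change y ∈ RelCone.domOpen (u.gradedAt U hU V hV hle)
  rw [h1]
  trivial

include hirr in
/-- under the irrelevant-ideal condition, `Proj(u)` is chartwise `Proj.map` -/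
theorem emb_comp_of_isProjQMapOn (hP : RelProj.IsRelProj 𝒜 p chart) (hPL : RelProj.IsRelProj 𝒮L pL chartL)
    (r : ((RelProj.domQ u pL chartL : PL.Opens) : Scheme.{u}) ⟶ P)
    (hr : RelProj.IsProjQMapOn u p chart pL chartL (RelProj.domQ u pL chartL) r)
    (r' : PL ⟶ P) (hr' : (RelProj.domQ u pL chartL).ι ≫ r' = r)
    (U : Y.Opens) (hU : IsAffineOpen U) (V : X.Opens) (hV : IsAffineOpen V) (hle : V ≤ q ⁻¹ᵁ U) :
    RelProj.emb pL chartL V hV ≫ r' =
      Proj.map (u.gradedAt U hU V hV hle) (hirr U hU V hV hle) ≫ RelProj.emb p chart U hU := by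
  obtain ⟨v, hv⟩ := exists_qmapOn u hP hPL
  have hrv : r = v := qmapOn_unique u hr (isProjQMapOn_of_pieces u v hv)
  let Vp : APair q := ⟨U, hU, V, hV, hle⟩
  have h1 := hv Vp
  have h2 : piecePMap u Vp = (RelCone.domOpen (φV u Vp)).ι ≫ Proj.map (φV u Vp) (hirr U hU V hV hle) :=
    IsPMap.unique (isDomOf_domOpen (φV u Vp)) (isPMap_piecePMap u Vp) (isPMap_map _ _)
  have htop : RelCone.domOpen (φV u Vp) = ⊤ :=
    Groth.Agent.Helper13ProjBC.domOpen_eq_top_of_irrelevant_le _ (hirr U hU V hV hle)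
  haveI : IsIso (RelCone.domOpen (φV u Vp)).ι := Groth.Agent.Helper13RL.isIso_ι_of_eq_top htop
  rw [← cancel_epi (RelCone.domOpen (φV u Vp)).ι]
  have h3 : (RelCone.domOpen (φV u Vp)).ι ≫ RelProj.emb pL chartL V hV ≫ r' =
      pieceEmb u chartL Vp ≫ r := by
    rw [← hr', ← Category.assoc, ← Category.assoc, pieceEmb_ι]
  rw [h3, hrv, h1]
  unfold pieceMap
  rw [h2, Category.assoc]

end Groth.Agent.Lib.T2H4.RLBridge
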