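import Mathlib
import Groth.Prelude.Def_RelProj4
import Groth.Agent.Lib.T2H4RLBridgeI
import Groth.Agent.Lib.T2H4RLBridgeB
import Groth.Agent.Lib.T2H4TwistBCA

/-!
# The morphism `r_{L,ψ}` composed with `X ≅ P(L)` is framed by the sections `ψ♭(e)` (helper4)

`L` invertible on `X`, `pL : P(L) ⟶ X` its projective bundle (an isomorphism), `u : Sym(E) ⟶ q_* Sym(L)` a graded
`q`-morphism satisfying the irrelevant-ideal condition, `r'' : P(L) ⟶ P(E)` chartwise `Proj.map u`, and `t_e` a family of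
sections of `L` with `u(j e) = jL(t_e)`.  Then `(pL)⁻¹ ≫ r''` is framed by `t` (`isFramed_inv_comp`).
-/

set_option autoImplicit false
set_option linter.style.haveILetI false
set_option linter.unusedSectionVars false
set_option linter.unusedVariables false
universe u
open CategoryTheory Limits AlgebraicGeometry TopologicalSpace Opposite HomogeneousLocalization
open scoped HomogeneousIdeal

namespace Groth.Agent.Lib.T2H4.RLBridge

open Groth.Agent.Lib.Helper2GrModSect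
open Groth.Agent.Lib.Helper2.RelTildeQCoh Groth.Agent.Lib.Helper23.SecTw Groth.Agent.Lib.Helper6
  Groth.Agent.Lib.Helper2.Push Groth.Agent.Lib.Helper2.RelTwistGen Groth.Agent.Lib.Helper2.IsGenCover
  Groth.Agent.Lib.Helper2.RelTwistTriv Groth.Agent.Lib.Helper2.RelTwistTensor RelProj
  Groth.Agent.Lib.Helper2.RelTwistInv Groth.Agent.Lib.T2H4.GrSym Groth.Agent.Lib.Helper23.PB
  Groth.Agent.Helper13PullbackUnit Groth.Agent.Lib.T2H4.TwistBC

section line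

variable {X PL : Scheme.{u}} {𝒮L : RelProj.QCGrAlg X} (pL : PL ⟶ X)
  (chartL : ∀ (U : X.Opens) (hU : IsAffineOpen U), (((pL ⁻¹ᵁ U : PL.Opens) : Scheme.{u}) ≅ Proj (𝒮L.deg U hU)))
  (L : X.Modules) (jL : L ⟶ 𝒮L.toModule) (hjL : RelProj.IsGrSymAlg L 𝒮L jL)
  (O1L : PL.Modules)
  (lamL : ∀ (U : X.Opens) (hU : IsAffineOpen U),
    O1L ⟶ (Scheme.Modules.pushforward (RelProj.emb pL chartL U hU)).obj (GrTwist.twist (𝒮L.deg U hU) 1))
  (hO1L : RelProj.IsRelTwist 𝒮L pL chartL 1 O1L lamL)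

/-- over an affine open on which `t₀` generates `L`, the canonical section `jL(t₀) / 1` generates `O_{P(L)}(1)` -/
theorem isGen_canonSec_of_isGen (hLq : Coh.IsQCoh L) (V : X.Opens) (hV : IsAffineOpen V) (t₀ : Γ(L, V))
    (ht₀ : IsGen L V t₀) :
    IsGen O1L (pL ⁻¹ᵁ V)
      (canonSec pL chartL 1 O1L lamL hO1L one_eq V hV (pL ⁻¹ᵁ V) le_rfl (hjL.2 V hV t₀)) := by
  refine isGen_canonSec pL chartL 1 O1L lamL hO1L one_eq V hV _ le_rfl (hjL.2 V hV t₀) (fun y => ?_)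
  refine j_app_not_mem L jL hjL hLq V hV t₀ (fun e => ?_) y.1
  obtain ⟨c, hc⟩ := (ht₀ V le_rfl).2 e
  refine ⟨c, ?_⟩
  have hc' : c • res L (le_refl V) t₀ = e := hc
  rw [res_self] at hc'
  exact hc'.symm

/-- semilinearity of `t ↦ jL(t) / 1` -/
theorem canonSec_j_smul (hPL : RelProj.IsRelProj 𝒮L pL chartL) (V : X.Opens) (hV : IsAffineOpen V)
    (c : Γ(X, V)) (s : Γ(L, V)) :
    canonSec pL chartL 1 O1L lamL hO1L one_eq V hV (pL ⁻¹ᵁ V) le_rfl (hjL.2 V hV (c • s)) =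
      pL.appLE V (pL ⁻¹ᵁ V) le_rfl c •
        canonSec pL chartL 1 O1L lamL hO1L one_eq V hV (pL ⁻¹ᵁ V) le_rfl (hjL.2 V hV s) := by
  have h1 := j_app_smul L jL c s
  rw [canonSec_congr pL chartL 1 O1L lamL hO1L one_eq V hV (pL ⁻¹ᵁ V) le_rfl (hjL.2 V hV (c • s))
    (h1 ▸ hjL.2 V hV (c • s)) h1,
    canonSec_str_mul pL chartL 1 O1L lamL hO1L one_eq hPL V hV (pL ⁻¹ᵁ V) le_rfl c (hjL.2 V hV s)]

end line

variable {X Y P PL : Scheme.{u}} {q : X ⟶ Y} {𝒜 : RelProj.QCGrAlg Y} {𝒮L : RelProj.QCGrAlg X}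
  (u : RelProj.QGrHom q 𝒜 𝒮L)
  (hirr : ∀ (U : Y.Opens) (hU : IsAffineOpen U) (V : X.Opens) (hV : IsAffineOpen V) (hle : V ≤ q ⁻¹ᵁ U),
      (𝒮L.deg V hV)₊ ≤ ((𝒜.deg U hU)₊).map (u.gradedAt U hU V hV hle))
  (p : P ⟶ Y)
  (chart : ∀ (U : Y.Opens) (hU : IsAffineOpen U), (((p ⁻¹ᵁ U : P.Opens) : Scheme.{u}) ≅ Proj (𝒜.deg U hU)))
  (pL : PL ⟶ X)
  (chartL : ∀ (U : X.Opens) (hU : IsAffineOpen U), (((pL ⁻¹ᵁ U : PL.Opens) : Scheme.{u}) ≅ Proj (𝒮L.deg U hU)))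
  (E : Y.Modules) (j : E ⟶ 𝒜.toModule) (hj : RelProj.IsGrSymAlg E 𝒜 j)
  (O1 : P.Modules)
  (lam1 : ∀ (U : Y.Opens) (hU : IsAffineOpen U),
    O1 ⟶ (Scheme.Modules.pushforward (RelProj.emb p chart U hU)).obj (GrTwist.twist (𝒜.deg U hU) 1))
  (hO1 : RelProj.IsRelTwist 𝒜 p chart 1 O1 lam1)
  (L : X.Modules) (jL : L ⟶ 𝒮L.toModule) (hjL : RelProj.IsGrSymAlg L 𝒮L jL)
  (O1L : PL.Modules)
  (lamL : ∀ (U : X.Opens) (hU : IsAffineOpen U),
    O1L ⟶ (Scheme.Modules.pushforward (RelProj.emb pL chartL U hU)).obj (GrTwist.twist (𝒮L.deg U hU) 1))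
  (hO1L : RelProj.IsRelTwist 𝒮L pL chartL 1 O1L lamL)
  (r'' : PL ⟶ P)
  (hh : ∀ (U : Y.Opens) (hU : IsAffineOpen U) (V : X.Opens) (hV : IsAffineOpen V) (hle : V ≤ q ⁻¹ᵁ U),
    RelProj.emb pL chartL V hV ≫ r'' =
      Proj.map (u.gradedAt U hU V hV hle) (hirr U hU V hV hle) ≫ RelProj.emb p chart U hU)
  (t : ∀ (U : Y.Opens) (hU : IsAffineOpen U) (e : Γ(E, U)), Γ(L, q ⁻¹ᵁ U))
  (hut : ∀ (U : Y.Opens) (hU : IsAffineOpen U) (e : Γ(E, U)) (V : X.Opens) (hV : IsAffineOpen V)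
    (hle : V ≤ q ⁻¹ᵁ U),
    (u.appLE U V hle).hom ((j.app U) e : 𝒜.presheaf.obj (op U)) =
      ((jL.app V) (res L hle (t U hU e)) : 𝒮L.presheaf.obj (op V)))

include hh hut hjL hO1L in
/-- **`(pL)⁻¹ ≫ r''` is framed by the sections `t_e`** -/
theorem isFramed_inv_comp (hP : RelProj.IsRelProj 𝒜 p chart) (hPL : RelProj.IsRelProj 𝒮L pL chartL)
    (hL : PicF.IsInvertible L) (hLq : Coh.IsQCoh L) [IsIso pL] (hpp : r'' ≫ p = pL ≫ q) :
    IsFramed p chart E j hj O1 lam1 hO1 q L (inv pL ≫ r'') t := by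
  have hcomp : pL ≫ (inv pL ≫ r'') = r'' := IsIso.hom_inv_id_assoc pL r''
  have hpt : ∀ z : PL, (inv pL ≫ r'') (pL z) = r'' z := by
    intro z
    rw [← Scheme.Hom.comp_apply, hcomp]
  have hiso : ∀ V : X.Opens, IsIso (pL.appLE V (pL ⁻¹ᵁ V) le_rfl) := by
    intro V
    rw [← Scheme.Hom.app_eq_appLE]
    infer_instance
  -- semilinearity of `t ↦ jL(t) / 1`
  have hlin := canonSec_j_smul pL chartL L jL hjL O1L lamL hO1L hPL
  -- injectivity over an affine open trivialising `L`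
  have hinj : ∀ (V : X.Opens) (hV : IsAffineOpen V) (t₀ : Γ(L, V)) (ht₀ : IsGen L V t₀) (s s' : Γ(L, V)),
      canonSec pL chartL 1 O1L lamL hO1L one_eq V hV (pL ⁻¹ᵁ V) le_rfl (hjL.2 V hV s) =
        canonSec pL chartL 1 O1L lamL hO1L one_eq V hV (pL ⁻¹ᵁ V) le_rfl (hjL.2 V hV s') → s = s' := by
    intro V hV t₀ ht₀ s s' hss
    have hg := isGen_canonSec_of_isGen pL chartL L jL hjL O1L lamL hO1L hLq V hV t₀ ht₀
    have e1 := coef_spec ht₀ le_rfl s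
    have e2 := coef_spec ht₀ le_rfl s'
    rw [res_self] at e1 e2
    have hss' : pL.appLE V (pL ⁻¹ᵁ V) le_rfl (coef ht₀ le_rfl s) •
          canonSec pL chartL 1 O1L lamL hO1L one_eq V hV (pL ⁻¹ᵁ V) le_rfl (hjL.2 V hV t₀) =
        pL.appLE V (pL ⁻¹ᵁ V) le_rfl (coef ht₀ le_rfl s') •
          canonSec pL chartL 1 O1L lamL hO1L one_eq V hV (pL ⁻¹ᵁ V) le_rfl (hjL.2 V hV t₀) := by
      rw [← hlin, ← hlin]
      refine Eq.trans ?_ (hss.trans ?_)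
      · exact canonSec_congr pL chartL 1 O1L lamL hO1L one_eq V hV (pL ⁻¹ᵁ V) le_rfl _ _ (by rw [e1])
      · exact canonSec_congr pL chartL 1 O1L lamL hO1L one_eq V hV (pL ⁻¹ᵁ V) le_rfl _ _ (by rw [e2])
    have h3 : pL.appLE V (pL ⁻¹ᵁ V) le_rfl (coef ht₀ le_rfl s) =
        pL.appLE V (pL ⁻¹ᵁ V) le_rfl (coef ht₀ le_rfl s') := by
      apply (hg _ le_rfl).1
      simp only
      rw [res_self]
      exact hss'
    haveI := hiso V
    have h4 : Function.Injective (pL.appLE V (pL ⁻¹ᵁ V) le_rfl).hom :=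
      (ConcreteCategory.bijective_of_isIso (pL.appLE V (pL ⁻¹ᵁ V) le_rfl)).1
    rw [← e1, ← e2, h4 h3]
  refine ⟨?_, ?_, ?_⟩
  · rw [Category.assoc, hpp, IsIso.inv_hom_id_assoc]
  · -- generation
    intro U hU e hle
    have hkey : ∀ x : ((inv pL ≫ r'') ⁻¹ᵁ VF p chart (idxOf E j hj U hU e) : X.Opens),
        ∃ (V : X.Opens) (hV : V ≤ (inv pL ≫ r'') ⁻¹ᵁ VF p chart (idxOf E j hj U hU e)), x.1 ∈ V ∧
          IsGen L V (res L hV (res L hle (t U hU e))) := by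
      intro x
      obtain ⟨W, t₁, hxW, hWaff, ht₁⟩ := exists_affine_gen L hL x.1
      obtain ⟨V, hVaff, hxV, hVle⟩ := exists_isAffineOpen_mem_and_subset (X := X) (x := x.1)
        (U := W ⊓ (inv pL ≫ r'') ⁻¹ᵁ VF p chart (idxOf E j hj U hU e)) ⟨hxW, x.2⟩
      have hVW : V ≤ W := hVle.trans inf_le_left
      have hVΩ : V ≤ (inv pL ≫ r'') ⁻¹ᵁ VF p chart (idxOf E j hj U hU e) := hVle.trans inf_le_right
      have hVU : V ≤ q ⁻¹ᵁ U := hVΩ.trans hle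
      refine ⟨V, hVΩ, hxV, ?_⟩
      rw [res_res]
      have ht₀ : IsGen L V (res L hVW t₁) := ht₁.mono hVW
      have hS0 := isGen_canonSec_of_isGen pL chartL L jL hjL O1L lamL hO1L hLq V hVaff _ ht₀
      -- the section `jL(t_e) / 1` generates over `pL⁻¹ V`
      have hSs : IsGen O1L (pL ⁻¹ᵁ V) (canonSec pL chartL 1 O1L lamL hO1L one_eq V hVaff (pL ⁻¹ᵁ V) le_rfl
          (hjL.2 V hVaff (res L hVU (t U hU e)))) := by
        refine isGen_canonSec pL chartL 1 O1L lamL hO1L one_eq V hVaff _ le_rfl _ (fun y => ?_)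
        rw [← hut U hU e V hVaff hVU]
        have h1 : (inv pL ≫ r'') (pL ((RelProj.emb pL chartL V hVaff) y.1)) ∈
            VF p chart (idxOf E j hj U hU e) := hVΩ y.2
        rw [hpt, emb_comp_apply u hirr p pL chart chartL r'' hh U hU V hVaff hVU] at h1
        have h2 := not_mem_of_mem_VF p chart (idxOf E j hj U hU e) _ h1
        intro hmem
        exact h2 hmem
      have e1 := coef_spec ht₀ le_rfl (res L hVU (t U hU e))
      rw [res_self] at e1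
      have hu : IsUnit (pL.appLE V (pL ⁻¹ᵁ V) le_rfl (coef ht₀ le_rfl (res L hVU (t U hU e)))) := by
        have h3 := isUnit_coef_of_isGen hS0 hSs
        have h4 : pL.appLE V (pL ⁻¹ᵁ V) le_rfl (coef ht₀ le_rfl (res L hVU (t U hU e))) =
            coef hS0 le_rfl (canonSec pL chartL 1 O1L lamL hO1L one_eq V hVaff (pL ⁻¹ᵁ V) le_rfl
              (hjL.2 V hVaff (res L hVU (t U hU e)))) := by
          refine coef_unique hS0 le_rfl _ _ ?_
          rw [res_self, ← hlin]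
          exact canonSec_congr pL chartL 1 O1L lamL hO1L one_eq V hVaff (pL ⁻¹ᵁ V) le_rfl _ _ (by rw [e1])
        rw [h4]
        exact h3
      have hu' : IsUnit (coef ht₀ le_rfl (res L hVU (t U hU e))) := by
        haveI := hiso V
        have h5 := hu.map (inv (pL.appLE V (pL ⁻¹ᵁ V) le_rfl)).hom
        have h6 : (inv (pL.appLE V (pL ⁻¹ᵁ V) le_rfl)).hom
            ((pL.appLE V (pL ⁻¹ᵁ V) le_rfl).hom (coef ht₀ le_rfl (res L hVU (t U hU e)))) =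
            coef ht₀ le_rfl (res L hVU (t U hU e)) :=
          congrArg (fun f : Γ(X, V) ⟶ Γ(X, V) => f.hom (coef ht₀ le_rfl (res L hVU (t U hU e))))
            (IsIso.hom_inv_id (pL.appLE V (pL ⁻¹ᵁ V) le_rfl))
        rw [← h6]
        exact h5
      rw [← e1]
      exact isGen_smul_of_isUnit ht₀ hu'
    choose V hV hxV hgV using hkey
    exact isGen_of_cover L _ _ (fun x => V x) hV (fun x hx => ⟨⟨x, hx⟩, hxV _⟩) hgV
  · -- transitions
    intro U₁ hU₁ e₁ U₂ hU₂ e₂ O hO₁ hO₂ γ H O' hO' h₁ h₂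
    have hkey : ∀ x : O', ∃ (V : X.Opens) (hV : V ≤ O'), x.1 ∈ V ∧
        res L hV (res L h₁ (t U₁ hU₁ e₁)) =
          res L hV ((inv pL ≫ r'').appLE O O' hO' γ • res L h₂ (t U₂ hU₂ e₂)) := by
      intro x
      obtain ⟨W, t₁, hxW, hWaff, ht₁⟩ := exists_affine_gen L hL x.1
      obtain ⟨V, hVaff, hxV, hVle⟩ := exists_isAffineOpen_mem_and_subset (X := X) (x := x.1)
        (U := W ⊓ O') ⟨hxW, x.2⟩
      have hVW : V ≤ W := hVle.trans inf_le_left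
      have hVO' : V ≤ O' := hVle.trans inf_le_right
      have hV₁ : V ≤ q ⁻¹ᵁ U₁ := hVO'.trans h₁
      have hV₂ : V ≤ q ⁻¹ᵁ U₂ := hVO'.trans h₂
      have hVO : V ≤ (inv pL ≫ r'') ⁻¹ᵁ O := hVO'.trans hO'
      refine ⟨V, hVO', hxV, ?_⟩
      rw [res_res, res_smul, res_res]
      have hc : resf hVO' ((inv pL ≫ r'').appLE O O' hO' γ) = (inv pL ≫ r'').appLE O V hVO γ :=
        congr($(Scheme.Hom.appLE_map (inv pL ≫ r'') hO' (homOfLE hVO').op) γ)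
      rw [hc]
      have ht₀ : IsGen L V (res L hVW t₁) := ht₁.mono hVW
      apply hinj V hVaff _ ht₀
      rw [hlin]
      have hPLO : pL ⁻¹ᵁ V ≤ r'' ⁻¹ᵁ O := by
        intro z hz
        have h1 : (inv pL ≫ r'') (pL z) ∈ O := hVO hz
        rw [hpt] at h1
        exact h1
      have hb'₁ : ∀ y : ((RelProj.emb pL chartL V hVaff) ⁻¹ᵁ (pL ⁻¹ᵁ V) : (Proj (𝒮L.deg V hVaff)).Opens),
          u.gradedAt U₁ hU₁ V hVaff hV₁ 1 ∉ y.1.asHomogeneousIdeal := by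
        intro y
        rw [map_one]
        exact one_not_mem y.1
      have hb'₂ : ∀ y : ((RelProj.emb pL chartL V hVaff) ⁻¹ᵁ (pL ⁻¹ᵁ V) : (Proj (𝒮L.deg V hVaff)).Opens),
          u.gradedAt U₂ hU₂ V hVaff hV₂ 1 ∉ y.1.asHomogeneousIdeal := by
        intro y
        rw [map_one]
        exact one_not_mem y.1
      have hm₁ : u.gradedAt U₁ hU₁ V hVaff hV₁ ((j.app U₁) e₁ : 𝒜.presheaf.obj (op U₁)) ∈ 𝒮L.deg V hVaff 1 :=
        (u.gradedAt U₁ hU₁ V hVaff hV₁).map_mem (hj.2 U₁ hU₁ e₁)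
      have hm₂ : u.gradedAt U₂ hU₂ V hVaff hV₂ ((j.app U₂) e₂ : 𝒜.presheaf.obj (op U₂)) ∈ 𝒮L.deg V hVaff 1 :=
        (u.gradedAt U₂ hU₂ V hVaff hV₂).map_mem (hj.2 U₂ hU₂ e₂)
      have hT := pullback_transition u hirr p pL chart chartL r'' hh 1 O1 lam1 hO1 O1L lamL hO1L hP hPL hpp
        U₁ hU₁ U₂ hU₂ V hVaff V hVaff hV₁ hV₂ (p ⁻¹ᵁ U₁) (p ⁻¹ᵁ U₂)
        ((j.app U₁) e₁ : 𝒜.presheaf.obj (op U₁)) 1 ((j.app U₂) e₂ : 𝒜.presheaf.obj (op U₂)) 1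
        (fun y => one_not_mem y.1) (fun y => one_not_mem y.1)
        (sig p chart E j hj O1 lam1 hO1 U₁ hU₁ e₁)
        (fun y => (val_canonSec p chart 1 O1 lam1 hO1 one_eq U₁ hU₁ (p ⁻¹ᵁ U₁) le_rfl (hj.2 U₁ hU₁ e₁) y).trans
          (mk_congr'' _ rfl rfl _ _))
        (sig p chart E j hj O1 lam1 hO1 U₂ hU₂ e₂)
        (fun y => (val_canonSec p chart 1 O1 lam1 hO1 one_eq U₂ hU₂ (p ⁻¹ᵁ U₂) le_rfl (hj.2 U₂ hU₂ e₂) y).trans
          (mk_congr'' _ rfl rfl _ _))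
        (pL ⁻¹ᵁ V) (pL ⁻¹ᵁ V) le_rfl le_rfl hb'₁ hb'₂
        (canonSec pL chartL 1 O1L lamL hO1L one_eq V hVaff (pL ⁻¹ᵁ V) le_rfl hm₁)
        (fun y => (val_canonSec pL chartL 1 O1L lamL hO1L one_eq V hVaff (pL ⁻¹ᵁ V) le_rfl hm₁ y).trans
          (mk_congr'' _ rfl (map_one _).symm _ _))
        (canonSec pL chartL 1 O1L lamL hO1L one_eq V hVaff (pL ⁻¹ᵁ V) le_rfl hm₂)
        (fun y => (val_canonSec pL chartL 1 O1L lamL hO1L one_eq V hVaff (pL ⁻¹ᵁ V) le_rfl hm₂ y).trans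
          (mk_congr'' _ rfl (map_one _).symm _ _))
        O hO₁ hO₂ γ H (pL ⁻¹ᵁ V) le_rfl le_rfl hPLO
      rw [res_self, res_self] at hT
      rw [appLE_appLE_of_comp hcomp O V (pL ⁻¹ᵁ V) hVO le_rfl hPLO γ]
      refine Eq.trans ?_ (hT.trans ?_)
      · exact canonSec_congr pL chartL 1 O1L lamL hO1L one_eq V hVaff (pL ⁻¹ᵁ V) le_rfl _ _
          (hut U₁ hU₁ e₁ V hVaff hV₁).symm
      · congr 1
        exact canonSec_congr pL chartL 1 O1L lamL hO1L one_eq V hVaff (pL ⁻¹ᵁ V) le_rfl _ _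
          (hut U₂ hU₂ e₂ V hVaff hV₂)
    choose V hV hxV hres using hkey
    refine (modSheaf L).eq_of_locally_eq' (fun x : O' => V x) _ (fun x => homOfLE (hV x)) ?_ _ _ hres
    intro x hx
    exact Opens.mem_iSup.mpr ⟨⟨x, hx⟩, hxV _⟩

end Groth.Agent.Lib.T2H4.RLBridge
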