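import Mathlib
import Groth.Prelude.Def_RelProj4
import Groth.Agent.Lib.Helper13SymPullback
import Groth.Agent.Lib.T2H4GrSymA

/-!
# The canonical `ψ`-morphism `Sym(E) ⟶ ψ_* Sym(ψ^* E)` (helper4)

For `ψ : Y' ⟶ Y`, a quasi-coherent module `E` on `Y`, a symmetric algebra `(A, j)` of `E` and a quasi-coherent algebra
`B` on `Y'` with a module map `j' : ψ^* E ⟶ B`, we construct the `ψ`-morphism of algebras `A ⟶ ψ_* B` extending
`E ⟶ ψ_* ψ^* E ⟶ ψ_* B` (`symQHom`, with `symQHom_j`), from its values on affine opens.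
-/

set_option autoImplicit false
set_option linter.style.haveILetI false
set_option linter.unusedSectionVars false
universe u
open CategoryTheory Limits AlgebraicGeometry TopologicalSpace Opposite

namespace Groth.Agent.Lib.T2H4.SymBC

open Groth.Agent.Helper13SymAlg Groth.Agent.Helper13SymLoc Groth.Agent.Helper13PullbackUnit
  Scheme.AffineZariskiSite

noncomputable section

variable {Y Y' : Scheme.{u}} (ψ : Y' ⟶ Y) (E : Y.Modules) [E.IsQuasicoherent]
  {B : RelSpec.QCAlg Y'} (j' : (Scheme.Modules.pullback ψ).obj E ⟶ B.toModule)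

/-- the additive map `E(U) ⟶ ψ^*E(ψ⁻¹ U) ⟶ B(ψ⁻¹ U)` -/
def gAdd (U : Y.Opens) : Γ(E, U) →+ B.presheaf.obj (op (ψ ⁻¹ᵁ U)) :=
  (φAdd ((Scheme.Modules.pullback ψ).obj E) B j' (ψ ⁻¹ᵁ U)).comp
    (((Scheme.Modules.pullbackPushforwardAdjunction ψ).unit.app E).app U).hom

theorem gAdd_apply (U : Y.Opens) (m : Γ(E, U)) :
    gAdd ψ E j' U m = (j'.app (ψ ⁻¹ᵁ U))
      (((Scheme.Modules.pullbackPushforwardAdjunction ψ).unit.app E).app U m) := rfl

theorem app_map'' {X : Scheme.{u}} {A B : X.Modules} (m : A ⟶ B) {W W' : X.Opens} (i : W' ⟶ W)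
    (s : Γ(A, W)) : m.app W' (A.presheaf.map i.op s) = B.presheaf.map i.op (m.app W s) := by
  have := m.mapPresheaf.naturality i.op
  exact congrArg (fun φ => φ s) this

theorem gAdd_smul (U : Y.Opens) (a : Γ(Y, U)) (m : Γ(E, U)) :
    gAdd ψ E j' U (a • m) =
      ((B.str.app (op (ψ ⁻¹ᵁ U))).hom.comp (ψ.app U).hom) a * gAdd ψ E j' U m := by
  have h1 : ((Scheme.Modules.pullbackPushforwardAdjunction ψ).unit.app E).app U (a • m) =
      a • ((Scheme.Modules.pullbackPushforwardAdjunction ψ).unit.app E).app U m :=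
    Scheme.Modules.Hom.app_smul _ a m
  haveI : ((Scheme.Modules.pullback ψ).obj E).IsQuasicoherent :=
    Groth.Agent.Lib.Helper2.PullbackSec.isQuasicoherent_pullback ψ E
  have h2 := φAdd_smul ((Scheme.Modules.pullback ψ).obj E) B j' (ψ ⁻¹ᵁ U) ((ψ.app U).hom a)
    (show Γ((Scheme.Modules.pullback ψ).obj E, ψ ⁻¹ᵁ U) from
      ((Scheme.Modules.pullbackPushforwardAdjunction ψ).unit.app E).app U m)
  rw [gAdd_apply, gAdd_apply, h1]
  exact h2

theorem gAdd_res {U V : Y.Opens} (h : V ≤ U) (m : Γ(E, U)) :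
    gAdd ψ E j' V (resE E h m) =
      (B.presheaf.map (homOfLE (ψ.preimage_mono h)).op).hom (gAdd ψ E j' U m) := by
  rw [gAdd_apply, gAdd_apply]
  have h1 := app_map''
    ((Scheme.Modules.pullbackPushforwardAdjunction ψ).unit.app E) (homOfLE h) m
  have h2 : ((Scheme.Modules.pullbackPushforwardAdjunction ψ).unit.app E).app V (resE E h m) =
      resE ((Scheme.Modules.pullback ψ).obj E) (ψ.preimage_mono h)
        (((Scheme.Modules.pullbackPushforwardAdjunction ψ).unit.app E).app U m) := h1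
  rw [h2]
  haveI : ((Scheme.Modules.pullback ψ).obj E).IsQuasicoherent :=
    Groth.Agent.Lib.Helper2.PullbackSec.isQuasicoherent_pullback ψ E
  exact φAdd_res ((Scheme.Modules.pullback ψ).obj E) B j' (ψ.preimage_mono h) _

/-- the ring homomorphism `Sym(E(U)) ⟶ B(ψ⁻¹ U)` -/
def Λ (U : Y.Opens) : SymmetricAlgebra Γ(Y, U) Γ(E, U) →+* B.presheaf.obj (op (ψ ⁻¹ᵁ U)) :=
  symLift ((B.str.app (op (ψ ⁻¹ᵁ U))).hom.comp (ψ.app U).hom) (gAdd ψ E j' U) (gAdd_smul ψ E j' U)

theorem Λ_nat {U V : Y.Opens} (h : V ≤ U) :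
    (Λ ψ E j' V).comp (symRes E h) =
      (B.presheaf.map (homOfLE (ψ.preimage_mono h)).op).hom.comp (Λ ψ E j' U) := by
  refine ringHom_ext (fun a => ?_) (fun m => ?_)
  · unfold symRes Λ
    rw [RingHom.comp_apply, RingHom.comp_apply, symMap_algebraMap, symLift_algebraMap,
      symLift_algebraMap]
    change (B.str.app (op (ψ ⁻¹ᵁ V))).hom ((ψ.app V).hom (resO h a)) =
      (B.presheaf.map (homOfLE (ψ.preimage_mono h)).op).hom
        ((B.str.app (op (ψ ⁻¹ᵁ U))).hom ((ψ.app U).hom a))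
    have h1 := congrArg (fun t : Γ(Y', ψ ⁻¹ᵁ U) ⟶ _ => t.hom ((ψ.app U).hom a))
      (B.str.naturality (homOfLE (ψ.preimage_mono h)).op)
    have h2 := congrArg (fun t : Γ(Y, U) ⟶ _ => t.hom a) (ψ.naturality (homOfLE h).op)
    have h2' : (ψ.app V).hom (resO h a) =
        (Y'.presheaf.map (homOfLE (ψ.preimage_mono h)).op).hom ((ψ.app U).hom a) := by
      simp only [CommRingCat.hom_comp, RingHom.comp_apply] at h2
      exact h2
    refine Eq.trans ?_ h1
    exact congrArg (B.str.app (op (ψ ⁻¹ᵁ V))).hom h2'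
  · unfold symRes Λ
    rw [RingHom.comp_apply, RingHom.comp_apply, symMap_ι, symLift_ι, symLift_ι, gAdd_res]

variable {A : RelSpec.QCAlg Y} {j : E ⟶ A.toModule} (hA : RelSpec.IsSymAlg E A j)

/-- the `ψ`-morphism over an affine open -/
def dAff (U : Y.Opens) (hU : IsAffineOpen U) :
    A.presheaf.obj (op U) ⟶ B.presheaf.obj (op (ψ ⁻¹ᵁ U)) :=
  (σIso E hA U hU).inv ≫ CommRingCat.ofHom (Λ ψ E j' U)

theorem σ_dAff (U : Y.Opens) (hU : IsAffineOpen U) :
    CommRingCat.ofHom (σ E A j U) ≫ dAff ψ E j' hA U hU = CommRingCat.ofHom (Λ ψ E j' U) := by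
  rw [← σIso_hom E hA U hU, dAff, Iso.hom_inv_id_assoc]

theorem dAff_σ (U : Y.Opens) (hU : IsAffineOpen U) (z : SymmetricAlgebra Γ(Y, U) Γ(E, U)) :
    (dAff ψ E j' hA U hU).hom (σ E A j U z) = Λ ψ E j' U z :=
  congrArg (fun t : CommRingCat.of (SymmetricAlgebra Γ(Y, U) Γ(E, U)) ⟶ _ => t.hom z)
    (σ_dAff ψ E j' hA U hU)

theorem dAff_nat {U V : Y.Opens} (hU : IsAffineOpen U) (hV : IsAffineOpen V) (h : V ≤ U) :
    A.presheaf.map (homOfLE h).op ≫ dAff ψ E j' hA V hV =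
      dAff ψ E j' hA U hU ≫ B.presheaf.map (homOfLE (ψ.preimage_mono h)).op := by
  rw [← cancel_epi (σIso E hA U hU).hom]
  ext1
  refine RingHom.ext fun z => ?_
  change (dAff ψ E j' hA V hV).hom ((A.presheaf.map (homOfLE h).op).hom (σ E A j U z)) =
    (B.presheaf.map (homOfLE (ψ.preimage_mono h)).op).hom ((dAff ψ E j' hA U hU).hom (σ E A j U z))
  have h1 : (A.presheaf.map (homOfLE h).op).hom (σ E A j U z) = σ E A j V (symRes E h z) :=
    (congrArg (fun t : _ →+* _ => t z) (σ_nat E A j h)).symm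
  rw [h1, dAff_σ, dAff_σ]
  exact congrArg (fun t : _ →+* _ => t z) (Λ_nat ψ E j' h)

/-- the direct image of `B`, as a sheaf of rings on `Y` -/
def pushSheaf (B : RelSpec.QCAlg Y') : TopCat.Sheaf CommRingCat.{u} Y.carrier :=
  ⟨ψ.base _* B.presheaf, TopCat.Sheaf.pushforward_sheaf_of_sheaf ψ.base B.isSheaf⟩

/-- the `ψ`-morphism on the affine site -/
def affNat : (toOpensFunctor Y).op ⋙ A.presheaf ⟶ (toOpensFunctor Y).op ⋙ (ψ.base _* B.presheaf) where
  app U := dAff ψ E j' hA U.unop.1 U.unop.2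
  naturality _ _ i := dAff_nat ψ E j' hA _ _ (toOpens_mono i.unop.le)

/-- the `ψ`-morphism `A ⟶ ψ_* B` as a map of presheaves of rings -/
def extHom : A.presheaf ⟶ ψ.base _* B.presheaf :=
  Functor.IsCoverDense.restrictHomEquivHom (G := toOpensFunctor Y)
    (K := Opens.grothendieckTopology Y) (ℱ := A.presheaf) (ℱ' := pushSheaf ψ B) (affNat ψ E j' hA)

theorem extHom_app (U : Y.Opens) (hU : IsAffineOpen U) :
    (extHom ψ E j' hA).app (op U) = dAff ψ E j' hA U hU := by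
  have h := (Functor.IsCoverDense.restrictHomEquivHom (G := toOpensFunctor Y)
    (K := Opens.grothendieckTopology Y) (ℱ := A.presheaf)
    (ℱ' := pushSheaf ψ B)).symm_apply_apply (affNat ψ E j' hA)
  exact NatTrans.congr_app h (op ⟨U, hU⟩)

/-- maps of presheaves of rings into `ψ_* B` agreeing on affine opens are equal -/
theorem hom_ext_affine {F : TopCat.Presheaf CommRingCat.{u} Y.carrier} (f g : F ⟶ ψ.base _* B.presheaf)
    (h : ∀ (U : Y.Opens) (_ : IsAffineOpen U), f.app (op U) = g.app (op U)) : f = g := by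
  apply (Functor.IsCoverDense.restrictHomEquivHom (G := toOpensFunctor Y)
    (K := Opens.grothendieckTopology Y) (ℱ := F) (ℱ' := pushSheaf ψ B)).symm.injective
  ext U : 2
  exact h U.unop.1 U.unop.2

end

end Groth.Agent.Lib.T2H4.SymBC
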