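import Mathlib
import Groth.Prelude.Def_RelProj4
import Groth.Agent.Lib.T2H4SymBCA

/-!
# The canonical `ψ`-morphism `Sym(E) ⟶ ψ_* Sym(ψ^* E)`, part 2: the `QHom` and its characterisation (helper4)
-/

set_option autoImplicit false
set_option linter.style.haveILetI false
set_option linter.unusedSectionVars false
universe u
open CategoryTheory Limits AlgebraicGeometry TopologicalSpace Opposite

namespace Groth.Agent.Lib.T2H4.SymBC

open Groth.Agent.Helper13SymAlg Groth.Agent.Helper13SymLoc Groth.Agent.Helper13PullbackUnit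
  Scheme.AffineZariskiSite

noncomputable section

variable {Y Y' : Scheme.{u}} (ψ : Y' ⟶ Y) (E : Y.Modules) [E.IsQuasicoherent]
  {B : RelSpec.QCAlg Y'} (j' : (Scheme.Modules.pullback ψ).obj E ⟶ B.toModule)
  {A : RelSpec.QCAlg Y} {j : E ⟶ A.toModule} (hA : RelSpec.IsSymAlg E A j)

theorem str_extHom :
    A.str ≫ extHom ψ E j' hA =
      ψ.c ≫ (TopCat.Presheaf.pushforward CommRingCat.{u} ψ.base).map B.str := by
  apply hom_ext_affine
  intro U hU
  rw [NatTrans.comp_app, NatTrans.comp_app, extHom_app ψ E j' hA U hU]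
  ext1
  refine RingHom.ext fun a => ?_
  change (dAff ψ E j' hA U hU).hom ((A.str.app (op U)).hom a) =
    (B.str.app (op (ψ ⁻¹ᵁ U))).hom ((ψ.app U).hom a)
  have h1 : (A.str.app (op U)).hom a = σ E A j U (algebraMap _ _ a) := by
    unfold σ
    rw [symLift_algebraMap]
  rw [h1, dAff_σ]
  unfold Λ
  rw [symLift_algebraMap]
  rfl

/-- **the canonical `ψ`-morphism of algebras `Sym(E) ⟶ ψ_* B`** extending `E ⟶ ψ_* ψ^* E ⟶ ψ_* B` -/
def symQHom : RelSpec.QHom ψ A B where
  app U := (extHom ψ E j' hA).app (op U)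
  naturality {U V} i := ((extHom ψ E j' hA).naturality (homOfLE i).op).symm
  str_app U := NatTrans.congr_app (str_extHom ψ E j' hA) (op U)

theorem symQHom_app (U : Y.Opens) (hU : IsAffineOpen U) :
    (symQHom ψ E j' hA).app U = dAff ψ E j' hA U hU := extHom_app ψ E j' hA U hU

theorem symQHom_j_affine (U : Y.Opens) (hU : IsAffineOpen U) (x : Γ(E, U)) :
    ((symQHom ψ E j' hA).app U).hom ((j.app U) x) = gAdd ψ E j' U x := by
  rw [symQHom_app ψ E j' hA U hU]
  have h1 : ((j.app U) x : A.presheaf.obj (op U)) = σ E A j U (SymmetricAlgebra.ι _ _ x) := by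
    unfold σ
    rw [symLift_ι]
    rfl
  rw [h1, dAff_σ]
  unfold Λ
  rw [symLift_ι]

/-- **the canonical `ψ`-morphism extends the adjunction unit** -/
theorem symQHom_j (U : Y.Opens) (x : Γ(E, U)) :
    ((symQHom ψ E j' hA).app U).hom ((j.app U) x) =
      (j'.app (ψ ⁻¹ᵁ U)) (((Scheme.Modules.pullbackPushforwardAdjunction ψ).unit.app E).app U x) := by
  change _ = gAdd ψ E j' U x
  refine TopCat.Sheaf.eq_of_locally_eq' (⟨B.presheaf, B.isSheaf⟩ : TopCat.Sheaf CommRingCat.{u} Y'.carrier)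
    (fun W : {W : Y.affineOpens // (W : Y.Opens) ≤ U} => ψ ⁻¹ᵁ (W.1 : Y.Opens)) (ψ ⁻¹ᵁ U)
    (fun W => homOfLE (ψ.preimage_mono W.2)) ?_ _ _ (fun W => ?_)
  · intro y hy
    have hy' : ψ y ∈ U := hy
    obtain ⟨_, ⟨W, hW, rfl⟩, hxW, hWU⟩ := Y.isBasis_affineOpens.exists_subset_of_mem_open hy' U.2
    exact Opens.mem_iSup.mpr ⟨⟨⟨W, hW⟩, hWU⟩, hxW⟩
  · have h1 := congrArg (fun t : A.presheaf.obj (op U) ⟶ _ => t.hom ((j.app U) x))
      ((symQHom ψ E j' hA).naturality W.2)
    have h2 : (A.presheaf.map (homOfLE W.2).op).hom ((j.app U) x) =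
        ((j.app (W.1 : Y.Opens)) (resE E W.2 x) : A.presheaf.obj (op (W.1 : Y.Opens))) :=
      (φAdd_res E A j W.2 x).symm
    have h3 := symQHom_j_affine ψ E j' hA W.1.1 W.1.2 (resE E W.2 x)
    have h4 := gAdd_res ψ E j' W.2 x
    change (B.presheaf.map (homOfLE (ψ.preimage_mono W.2)).op).hom
        (((symQHom ψ E j' hA).app U).hom ((j.app U) x)) =
      (B.presheaf.map (homOfLE (ψ.preimage_mono W.2)).op).hom (gAdd ψ E j' U x)
    rw [← h4, ← h3, ← h2]
    exact h1

end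

end Groth.Agent.Lib.T2H4.SymBC
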