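import Mathlib
import Groth.Prelude.Def_RelProj4
import Groth.Agent.Lib.T2H4SymBCB

/-!
# The canonical graded `ψ`-morphism `Sym(E) ⟶ ψ_* Sym(ψ^* E)` and the base change of projective bundles (helper4)

* `mem_symDeg_of_map_mem` : an injective ring homomorphism `Sym_R M → A'` into a graded ring, sending scalars to
  degree `0` and `M` to degree `1`, reflects degrees (so a graded symmetric algebra carries the grading by symmetric
  powers);
* `symQGrHom`, `isQBaseChange_symQGrHom`.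
-/

set_option autoImplicit false
set_option linter.style.haveILetI false
set_option linter.unusedSectionVars false
universe u
open CategoryTheory Limits AlgebraicGeometry TopologicalSpace Opposite

namespace Groth.Agent.Lib.T2H4.SymBC

open Groth.Agent.Helper13SymAlg Groth.Agent.Helper13SymLoc Groth.Agent.Helper13PullbackUnit
  Scheme.AffineZariskiSite Groth.Agent.Lib.T2H4.GrSym

section Ring

variable (R M : Type u) [CommRing R] [AddCommGroup M] [Module R M]

/-- an injective homomorphism out of the symmetric algebra, sending scalars to degree `0` and generators to degree `1`,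
reflects degrees -/
theorem mem_symDeg_of_map_mem {A' σ' : Type u} [CommRing A'] [SetLike σ' A'] [AddSubgroupClass σ' A']
    (𝒜' : ℕ → σ') [GradedRing 𝒜'] (Φ : SymmetricAlgebra R M →+* A') (hinj : Function.Injective Φ)
    (h0 : ∀ r : R, Φ (algebraMap R (SymmetricAlgebra R M) r) ∈ 𝒜' 0)
    (h1 : ∀ m : M, Φ (SymmetricAlgebra.ι R M m) ∈ 𝒜' 1) {d : ℕ} {y : SymmetricAlgebra R M}
    (hy : Φ y ∈ 𝒜' d) : y ∈ symDeg R M d := by
  classical
  let Φg : symDeg R M →+*ᵍ 𝒜' :=
    { Φ with map_mem := fun hx => map_mem_of_mem_symDeg R M 𝒜' Φ h0 h1 hx }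
  have hΦg : ∀ z, Φg z = Φ z := fun _ => rfl
  have hzero : ∀ e : ℕ, e ≠ d → (DirectSum.decompose (symDeg R M) y e : SymmetricAlgebra R M) = 0 := by
    intro e he
    apply hinj
    rw [map_zero, ← hΦg, GradedRingHom.map_directSumDecompose (symDeg R M) 𝒜' Φg, hΦg,
      DirectSum.decompose_of_mem_ne 𝒜' hy (Ne.symm he)]
  rw [← DirectSum.sum_support_decompose (symDeg R M) y]
  refine Submodule.sum_mem _ fun e _ => ?_
  by_cases he : e = d
  · subst he
    exact SetLike.coe_mem _
  · rw [hzero e he]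
    exact zero_mem _

end Ring

noncomputable section

variable {Y Y' : Scheme.{u}} (ψ : Y' ⟶ Y) (E : Y.Modules) [E.IsQuasicoherent]
  {𝒮 : RelProj.QCGrAlg Y} {j : E ⟶ 𝒮.toModule} (hj : RelProj.IsGrSymAlg E 𝒮 j)
  {𝒮' : RelProj.QCGrAlg Y'} {j' : (Scheme.Modules.pullback ψ).obj E ⟶ 𝒮'.toModule}
  (hj' : RelProj.IsGrSymAlg ((Scheme.Modules.pullback ψ).obj E) 𝒮' j')

include hj in
/-- the grading of a graded symmetric algebra is the one by the symmetric powers -/
theorem exists_symDeg_of_mem_deg (U : Y.Opens) (hU : IsAffineOpen U) {d : ℕ}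
    {x : 𝒮.presheaf.obj (op U)} (hx : x ∈ 𝒮.deg U hU d) :
    ∃ y ∈ symDeg Γ(Y, U) Γ(E, U) d, σ E 𝒮.toQCAlg j U y = x := by
  obtain ⟨y, rfl⟩ := (bijective_σ E U hU hj.1).2 x
  refine ⟨y, mem_symDeg_of_map_mem _ _ (𝒮.deg U hU) (σ E 𝒮.toQCAlg j U)
    (bijective_σ E U hU hj.1).1 ?_ ?_ hx, rfl⟩
  · intro r
    unfold σ
    rw [symLift_algebraMap]
    exact 𝒮.str_mem U hU r
  · intro m
    unfold σ
    rw [symLift_ι]
    exact hj.2 U hU m

/-- **the canonical graded `ψ`-morphism `Sym(E) ⟶ ψ_* Sym(ψ^* E)`** -/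
def symQGrHom : RelProj.QGrHom ψ 𝒮 𝒮' where
  toQHom := symQHom ψ E j' hj.1
  map_mem U hU U' hU' hle d x hx := by
    obtain ⟨y, hy, rfl⟩ := exists_symDeg_of_mem_deg E hj U hU hx
    rw [symQHom_app ψ E j' hj.1 U hU, dAff_σ]
    refine map_mem_of_mem_symDeg Γ(Y, U) Γ(E, U) (𝒮'.deg U' hU')
      ((𝒮'.presheaf.map (homOfLE hle).op).hom.comp (Λ ψ E j' U)) (fun r => ?_) (fun m => ?_) hy
    · rw [RingHom.comp_apply]
      unfold Λ
      rw [symLift_algebraMap]
      have h1 := congrArg (fun t : Γ(Y', ψ ⁻¹ᵁ U) ⟶ _ => t.hom ((ψ.app U).hom r))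
        (𝒮'.str.naturality (homOfLE hle).op)
      simp only [CommRingCat.hom_comp, RingHom.comp_apply] at h1
      rw [RingHom.comp_apply, ← h1]
      exact 𝒮'.str_mem U' hU' _
    · rw [RingHom.comp_apply]
      unfold Λ
      rw [symLift_ι, gAdd_apply]
      haveI : ((Scheme.Modules.pullback ψ).obj E).IsQuasicoherent :=
        Groth.Agent.Lib.Helper2.PullbackSec.isQuasicoherent_pullback ψ E
      have h2 := φAdd_res ((Scheme.Modules.pullback ψ).obj E) 𝒮'.toQCAlg j' hle
        (show Γ((Scheme.Modules.pullback ψ).obj E, ψ ⁻¹ᵁ U) from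
          ((Scheme.Modules.pullbackPushforwardAdjunction ψ).unit.app E).app U m)
      refine Eq.mp (congrArg (fun t => t ∈ 𝒮'.deg U' hU' 1) h2) ?_
      exact hj'.2 U' hU' _

include hj' in
/-- **the canonical `ψ`-morphism exhibits `Sym(ψ^* E)` as the base change of `Sym(E)`** -/
theorem isQBaseChange_symQGrHom :
    RelSpec.IsQBaseChange (symQGrHom ψ E hj hj').toQHom :=
  isQBaseChange_sym ψ E hj.1 hj'.1 (symQHom ψ E j' hj.1) (symQHom_j ψ E j' hj.1)

end

end Groth.Agent.Lib.T2H4.SymBC
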