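import Mathlib
import Groth.Prelude.Def_RelProj4
import Groth.Agent.Lib.T2H4RLBridgeJ
import Groth.Agent.Lib.T2H4RLBridgeA
import Groth.Agent.Lib.T2H4SymBCC
import Groth.Agent.Lib.Helper13ProjLine
import Groth.Agent.Lib.Helper13RLn

/-!
# `r_{L,ψ}` for an invertible `L` with local frames among the `ψ♭(e)` : everywhere defined and framed (helper4)

* `exists_eq_j_app_of_mem_deg_one` : the degree-one part of a graded symmetric algebra is the image of the module;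
* `isGradedHom_of_isGrSymAlg` : a homomorphism out of a graded symmetric algebra sending the module to degree one is graded;
* `domQ_eq_top_of_frames`, `isFramed_of_isProjQMapOn` : for `u : Sym(E) ⟶ q_* Sym(L)` with `u(j e) = jL(t_e)`, if every point
  of `X` has a neighbourhood over which some `t_e` generates `L`, then `G(u) = P(L)` and the morphism `X ≅ P(L) ⟶ P(E)`
  induced by `u` is framed by `t`.
-/

set_option autoImplicit false
set_option linter.style.haveILetI false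
set_option linter.unusedSectionVars false
set_option linter.unusedVariables false
universe u
open CategoryTheory Limits AlgebraicGeometry TopologicalSpace Opposite HomogeneousLocalization
open scoped HomogeneousIdeal

namespace Groth.Agent.Lib.T2H4.RLBridge

open Groth.Agent.Lib.Helper2GrModSect
open Groth.Agent.Lib.Helper2.RelTildeQCoh Groth.Agent.Lib.Helper23.SecTw Groth.Agent.Lib.Helper6
  Groth.Agent.Lib.Helper2.Push Groth.Agent.Lib.Helper2.RelTwistGen Groth.Agent.Lib.Helper2.IsGenCover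
  Groth.Agent.Lib.Helper2.RelTwistTriv Groth.Agent.Lib.Helper2.RelTwistTensor RelProj
  Groth.Agent.Lib.Helper2.RelTwistInv Groth.Agent.Lib.T2H4.GrSym Groth.Agent.Lib.Helper23.PB
  Groth.Agent.Helper13PullbackUnit Groth.Agent.Lib.T2H4.TwistBC Groth.Agent.Helper13SymAlg
  Groth.Agent.Helper13SymLoc Groth.Agent.Lib.T2H4.SymBC Groth.Agent.Helper13RelProj

section sym

variable {S : Scheme.{u}} (E : S.Modules) [E.IsQuasicoherent] {𝒮 : RelProj.QCGrAlg S} {j : E ⟶ 𝒮.toModule}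
  (hj : RelProj.IsGrSymAlg E 𝒮 j)

include hj in
/-- the degree-one part of a graded symmetric algebra is the image of the module -/
theorem exists_eq_j_app_of_mem_deg_one (U : S.Opens) (hU : IsAffineOpen U) {b : 𝒮.presheaf.obj (op U)}
    (hb : b ∈ 𝒮.deg U hU 1) : ∃ l : Γ(E, U), ((j.app U) l : 𝒮.presheaf.obj (op U)) = b := by
  obtain ⟨y, hy, rfl⟩ := exists_symDeg_of_mem_deg E hj U hU hb
  unfold symDeg at hy
  rw [pow_one] at hy
  obtain ⟨l, rfl⟩ := hy
  refine ⟨l, ?_⟩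
  unfold σ
  rw [symLift_ι]
  rfl

include hj in
/-- a homomorphism out of a graded symmetric algebra sending the module to degree one is graded -/
theorem isGradedHom_of_isGrSymAlg {𝒯 : RelProj.QCGrAlg S} (ψ : 𝒮.toQCAlg ⟶ 𝒯.toQCAlg)
    (h1 : ∀ (U : S.Opens) (hU : IsAffineOpen U) (m : Γ(E, U)),
      (((j ≫ RelSpec.QCAlg.Hom.toModuleMap ψ).app U) m : 𝒯.presheaf.obj (op U)) ∈ 𝒯.deg U hU 1) :
    RelProj.IsGradedHom ψ := by
  intro U hU d x hx
  obtain ⟨y, hy, rfl⟩ := exists_symDeg_of_mem_deg E hj U hU hx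
  refine map_mem_of_mem_symDeg Γ(S, U) Γ(E, U) (𝒯.deg U hU)
    ((ψ.hom.app (op U)).hom.comp (σ E 𝒮.toQCAlg j U)) (fun r => ?_) (fun m => ?_) hy
  · rw [RingHom.comp_apply]
    unfold σ
    rw [symLift_algebraMap]
    have h0 := NatTrans.congr_app ψ.comm (op U)
    rw [NatTrans.comp_app] at h0
    have h3 : (ψ.hom.app (op U)).hom ((𝒮.str.app (op U)).hom r) = (𝒯.str.app (op U)).hom r := by
      rw [← h0]; rfl
    rw [h3]
    exact 𝒯.str_mem U hU r
  · rw [RingHom.comp_apply]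
    unfold σ
    rw [symLift_ι]
    exact h1 U hU m

end sym

variable {X Y P PL : Scheme.{u}} {q : X ⟶ Y} {𝒜 : RelProj.QCGrAlg Y} {𝒮L : RelProj.QCGrAlg X}
  (u : RelProj.QGrHom q 𝒜 𝒮L)
  (p : P ⟶ Y)
  (chart : ∀ (U : Y.Opens) (hU : IsAffineOpen U), (((p ⁻¹ᵁ U : P.Opens) : Scheme.{u}) ≅ Proj (𝒜.deg U hU)))
  (pL : PL ⟶ X)
  (chartL : ∀ (U : X.Opens) (hU : IsAffineOpen U), (((pL ⁻¹ᵁ U : PL.Opens) : Scheme.{u}) ≅ Proj (𝒮L.deg U hU)))
  (E : Y.Modules) (j : E ⟶ 𝒜.toModule) (hj : RelProj.IsGrSymAlg E 𝒜 j)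
  (O1 : P.Modules)
  (lam1 : ∀ (U : Y.Opens) (hU : IsAffineOpen U),
    O1 ⟶ (Scheme.Modules.pushforward (RelProj.emb p chart U hU)).obj (GrTwist.twist (𝒜.deg U hU) 1))
  (hO1 : RelProj.IsRelTwist 𝒜 p chart 1 O1 lam1)
  (L : X.Modules) (jL : L ⟶ 𝒮L.toModule) (hjL : RelProj.IsGrSymAlg L 𝒮L jL)
  (t : ∀ (U : Y.Opens) (hU : IsAffineOpen U) (e : Γ(E, U)), Γ(L, q ⁻¹ᵁ U))
  (hut : ∀ (U : Y.Opens) (hU : IsAffineOpen U) (e : Γ(E, U)) (V : X.Opens) (hV : IsAffineOpen V)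
    (hle : V ≤ q ⁻¹ᵁ U),
    (u.appLE U V hle).hom ((j.app U) e : 𝒜.presheaf.obj (op U)) =
      ((jL.app V) (res L hle (t U hU e)) : 𝒮L.presheaf.obj (op V)))
  (hfr : ∀ x : X, ∃ (U : Y.Opens) (hU : IsAffineOpen U) (e : Γ(E, U)) (V : X.Opens) (hV : IsAffineOpen V)
    (hVU : V ≤ q ⁻¹ᵁ U), x ∈ V ∧ IsGen L V (res L hVU (t U hU e)))

include hj hjL hut hfr in
/-- the irrelevant-ideal condition, from local frames among the `t_e` -/
theorem irrelevant_le_map_of_frames (hLq : Coh.IsQCoh L)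
    (U : Y.Opens) (hU : IsAffineOpen U) (V : X.Opens) (hV : IsAffineOpen V) (hle : V ≤ q ⁻¹ᵁ U) :
    (𝒮L.deg V hV)₊ ≤ ((𝒜.deg U hU)₊).map (u.gradedAt U hU V hV hle) := by
  haveI : L.IsQuasicoherent := hLq
  have hgenL : 𝒮L.IsGenDegOne := Groth.Agent.Lib.T2H4.VeryAmple.isGenDegOne_of_isGrSymAlg L hLq 𝒮L jL hjL
  refine irrelevant_le_map_of_surj u hgenL (fun x => ?_) U hU V hV hle
  obtain ⟨U₀, hU₀, e, V₀, hV₀, hVU₀, hxV₀, hgen⟩ := hfr x
  refine ⟨U₀, hU₀, ((j.app U₀) e : 𝒜.presheaf.obj (op U₀)), hj.2 U₀ hU₀ e, V₀, hV₀, hVU₀, hxV₀, ?_⟩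
  intro b hb
  obtain ⟨l, rfl⟩ := exists_eq_j_app_of_mem_deg_one L hjL V₀ hV₀ hb
  obtain ⟨c, hc⟩ := (hgen V₀ le_rfl).2 l
  have hc' : c • res L hVU₀ (t U₀ hU₀ e) = l := by
    have := hc
    simp only at this
    rw [res_self] at this
    exact this
  rw [hut U₀ hU₀ e V₀ hV₀ hVU₀, ← hc', SetLike.mem_coe, Ideal.mem_span_singleton']
  exact ⟨(𝒮L.str.app (op V₀)).hom c, (j_app_smul L jL c _).symm⟩

include hj hjL hut hfr in
/-- `Proj(u)` is everywhere defined -/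
theorem domQ_eq_top_of_frames (hLq : Coh.IsQCoh L) : RelProj.domQ u pL chartL = ⊤ :=
  domQ_eq_top_of_irr u (irrelevant_le_map_of_frames u E j hj L jL hjL t hut hfr hLq)

include hj hjL hut hfr in
/-- **the morphism `X ≅ P(L) ⟶ P(E)` induced by `u` is framed by `t`** -/
theorem isFramed_of_isProjQMapOn (hP : RelProj.IsRelProj 𝒜 p chart) (hPL : RelProj.IsRelProj 𝒮L pL chartL)
    (hL : PicF.IsInvertible L) (hLq : Coh.IsQCoh L)
    (O1L : PL.Modules)
    (lamL : ∀ (U : X.Opens) (hU : IsAffineOpen U),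
      O1L ⟶ (Scheme.Modules.pushforward (RelProj.emb pL chartL U hU)).obj (GrTwist.twist (𝒮L.deg U hU) 1))
    (hO1L : RelProj.IsRelTwist 𝒮L pL chartL 1 O1L lamL)
    (r : ((RelProj.domQ u pL chartL : PL.Opens) : Scheme.{u}) ⟶ P)
    (hr : RelProj.IsProjQMapOn u p chart pL chartL (RelProj.domQ u pL chartL) r)
    (i' : X ⟶ P) (hi' : (RelProj.domQ u pL chartL).ι ≫ pL ≫ i' = r) :
    IsFramed p chart E j hj O1 lam1 hO1 q L i' t := by
  haveI : L.IsQuasicoherent := hLq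
  have hirr := irrelevant_le_map_of_frames u E j hj L jL hjL t hut hfr hLq
  have hdom : RelProj.domQ u pL chartL = ⊤ := domQ_eq_top_of_irr u hirr
  haveI : IsIso pL := Groth.Agent.Helper13ProjLine.isIso_relProj L 𝒮L jL hjL pL chartL hPL hL
  haveI : IsIso (RelProj.domQ u pL chartL).ι := Groth.Agent.Helper13RL.isIso_ι_of_eq_top hdom
  have hh := emb_comp_of_isProjQMapOn u hirr hP hPL r hr (pL ≫ i') hi'
  have hpp : (pL ≫ i') ≫ p = pL ≫ q := by
    have h1 := qmapOn_comp u hP hPL hr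
    rw [← hi', Category.assoc] at h1
    exact (cancel_epi (RelProj.domQ u pL chartL).ι).mp h1
  have h2 := isFramed_inv_comp u hirr p chart pL chartL E j hj O1 lam1 hO1 L jL hjL O1L lamL hO1L (pL ≫ i') hh t hut
    hP hPL hL hLq hpp
  rw [IsIso.inv_hom_id_assoc] at h2
  exact h2

end Groth.Agent.Lib.T2H4.RLBridge
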