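import Mathlib
import Groth.Prelude.Def_RelProj4
import Groth.Agent.Lib.T2H4RLBridgeI
import Groth.Agent.Lib.T2H4DblAlgB
import Groth.Agent.Lib.Helper23SecTw6

/-!
# A framed morphism into `P(E)` pulls `O_P(1)` back to `L` (helper4)

`IsFramed.exists_iso` : if `r : X ⟶ P(E)` is framed by the family `t`, there is an isomorphism
`τ : r^* O_P(1) ≅ L` carrying the pull-backs of the canonical sections `e / 1` to the `t_e`.
-/

set_option autoImplicit false
set_option linter.style.haveILetI false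
set_option linter.unusedSectionVars false
set_option linter.unusedVariables false
universe u
open CategoryTheory Limits AlgebraicGeometry TopologicalSpace Opposite HomogeneousLocalization
open scoped HomogeneousIdeal

namespace Groth.Agent.Lib.T2H4.RLBridge

open Groth.Agent.Lib.Helper2GrModSect
open Groth.Agent.Lib.Helper2.RelTildeQCoh Groth.Agent.Lib.Helper23.SecTw Groth.Agent.Lib.Helper6
  Groth.Agent.Lib.Helper2.Push Groth.Agent.Lib.Helper2.RelTwistGen Groth.Agent.Lib.Helper2.IsGenCover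
  Groth.Agent.Lib.Helper2.RelTwistTriv Groth.Agent.Lib.Helper2.RelTwistTensor RelProj
  Groth.Agent.Lib.Helper2.RelTwistInv Groth.Agent.Lib.T2H4.GrSym Groth.Agent.Lib.Helper23.PB
  Groth.Agent.Helper13PullbackUnit

variable {P S : Scheme.{u}} {𝒮 : RelProj.QCGrAlg S} {p : P ⟶ S}
  {chart : ∀ (U : S.Opens) (hU : IsAffineOpen U), (((p ⁻¹ᵁ U : P.Opens) : Scheme.{u}) ≅ Proj (𝒮.deg U hU))}
  {E : S.Modules} {j : E ⟶ 𝒮.toModule} {hj : RelProj.IsGrSymAlg E 𝒮 j}
  {O1 : P.Modules}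
  {lam1 : ∀ (U : S.Opens) (hU : IsAffineOpen U),
    O1 ⟶ (Scheme.Modules.pushforward (RelProj.emb p chart U hU)).obj (GrTwist.twist (𝒮.deg U hU) 1)}
  {hO1 : RelProj.IsRelTwist 𝒮 p chart 1 O1 lam1}
  {X : Scheme.{u}} {g : X ⟶ S} {L : X.Modules}
  {t : ∀ (U : S.Opens) (hU : IsAffineOpen U) (e : Γ(E, U)), Γ(L, g ⁻¹ᵁ U)}

/-- **a framed morphism pulls `O_P(1)` back to `L`, compatibly with the canonical sections** -/
theorem IsFramed.exists_iso (hE : Coh.IsQCoh E) (hP : RelProj.IsRelProj 𝒮 p chart) {r : X ⟶ P}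
    (h : IsFramed p chart E j hj O1 lam1 hO1 g L r t) :
    ∃ τ : (Scheme.Modules.pullback r).obj O1 ≅ L,
      ∀ (U : S.Opens) (hU : IsAffineOpen U) (e : Γ(E, U)) (W : X.Opens) (hW : W ≤ r ⁻¹ᵁ (p ⁻¹ᵁ U))
        (hW' : W ≤ g ⁻¹ᵁ U),
        τ.hom.app W (unitSec r O1 hW (sig p chart E j hj O1 lam1 hO1 U hU e)) = res L hW' (t U hU e) := by
  haveI : O1.IsQuasicoherent := isQuasicoherent_O1 p chart O1 lam1 hO1
  -- the index type: sections of `E` over affine opens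
  let A : Type u := Σ U : S.affineOpens, Γ(E, U.1)
  let idx : A → Idx 𝒮 := fun a => idxOf E j hj a.1.1 a.1.2 a.2
  have hDU : ∀ a : A, VF p chart (idx a) ≤ p ⁻¹ᵁ a.1.1 := fun a => VF_le p chart (idx a)
  let EA : ∀ a : A, Γ(O1, VF p chart (idx a)) := fun a =>
    canonSec p chart 1 O1 lam1 hO1 one_eq a.1.1 a.1.2 (VF p chart (idx a)) (hDU a) (hj.2 a.1.1 a.1.2 a.2)
  have hEA : ∀ a, IsGen O1 (VF p chart (idx a)) (EA a) := by
    intro a
    refine isGen_canonSec p chart 1 O1 lam1 hO1 one_eq a.1.1 a.1.2 _ (hDU a) (hj.2 a.1.1 a.1.2 a.2) (fun y => ?_)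
    exact not_mem_of_mem_VF p chart (idx a) y.1 y.2
  have hEAres : ∀ a : A, res O1 (hDU a) (sig p chart E j hj O1 lam1 hO1 a.1.1 a.1.2 a.2) = EA a := by
    intro a
    unfold sig
    rw [res_canonSec_le]
  have hgA : ∀ a, IsGen ((Scheme.Modules.pullback r).obj O1) (r ⁻¹ᵁ VF p chart (idx a))
      (unitSec r O1 le_rfl (EA a)) := fun a => isGen_unitSec r O1 (isAffineOpen_VF (idx a)) (EA a) (hEA a)
  have hle : ∀ a : A, r ⁻¹ᵁ VF p chart (idx a) ≤ g ⁻¹ᵁ a.1.1 := fun a => h.preimage_VF_le' (idx a)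
  -- every point lies in some standard open
  have hpt : ∀ (U : S.Opens) (hU : IsAffineOpen U) (x : X), r x ∈ p ⁻¹ᵁ U →
      ∃ e' : Γ(E, U), r x ∈ VF p chart (idxOf E j hj U hU e') := by
    intro U hU x hxU
    obtain ⟨y, hy⟩ := le_opensRange_emb p chart U hU hxU
    obtain ⟨e', he'⟩ := Groth.Agent.Lib.T2H4.ProjBundle.exists_not_mem_of_isGrSymAlg E hE 𝒮 j hj U hU y
    exact ⟨e', ⟨y, (ProjectiveSpectrum.mem_basicOpen _ _ y).mpr he', hy⟩⟩
  obtain ⟨Φ, hΦ⟩ := exists_iso_of_frames ((Scheme.Modules.pullback r).obj O1) L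
    (fun a : A => r ⁻¹ᵁ VF p chart (idx a))
    (by
      intro x
      obtain ⟨U, hxU⟩ := exists_affine_mem_preimage p (r x)
      obtain ⟨e', he'⟩ := hpt U.1 U.2 x hxU
      exact ⟨⟨U, e'⟩, he'⟩)
    (fun a => unitSec r O1 le_rfl (EA a)) (fun a => res L (hle a) (t a.1.1 a.1.2 a.2)) hgA
    (fun a => h.gen a.1.1 a.1.2 a.2 (hle a))
    (by
      intro a b
      obtain ⟨c₀, hc₀⟩ := exists_transition' (EA a) (hEA b)
      refine cocycle_of_transition (hgA b)
        (r.appLE (VF p chart (idx a) ⊓ VF p chart (idx b)) _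
          (preimage_inf_le r (VF p chart (idx a)) (VF p chart (idx b))) c₀)
        (res_unitSec_of_transition r O1 (EA a) (EA b) c₀ hc₀) ?_
      have hσ : res O1 (inf_le_left.trans (hDU a)) (sig p chart E j hj O1 lam1 hO1 a.1.1 a.1.2 a.2) =
          c₀ • res O1 (inf_le_right.trans (hDU b)) (sig p chart E j hj O1 lam1 hO1 b.1.1 b.1.2 b.2) := by
        rw [← res_res O1 (hDU a) inf_le_left, ← res_res O1 (hDU b) inf_le_right, hEAres a, hEAres b]
        exact hc₀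
      have ht := h.trans a.1.1 a.1.2 a.2 b.1.1 b.1.2 b.2 _ _ _ c₀ hσ
        (r ⁻¹ᵁ VF p chart (idx a) ⊓ r ⁻¹ᵁ VF p chart (idx b))
        (preimage_inf_le r (VF p chart (idx a)) (VF p chart (idx b)))
        (inf_le_left.trans (hle a)) (inf_le_right.trans (hle b))
      rw [res_res, res_res]
      exact ht)
  refine ⟨Φ, ?_⟩
  intro U hU e W hW hW'
  refine Groth.Agent.Lib.T2H4.DblAlg.eq_of_locally_eq L _ _ (fun x hx => ?_)
  obtain ⟨e', he'⟩ := hpt U hU x (hW hx)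
  set i' : Idx 𝒮 := idxOf E j hj U hU e' with hi'
  have hVle : VF p chart i' ≤ p ⁻¹ᵁ U := VF_le p chart i'
  set γ' : Γ(P, VF p chart i') :=
    chartFun p chart i' (amk (𝒮.deg U hU) i'.2.2 1 ((j.app U) e : 𝒮.presheaf.obj (op U)) (hj.2 U hU e))
    with hγ'
  have hσ : res O1 hVle (sig p chart E j hj O1 lam1 hO1 U hU e) =
      γ' • res O1 hVle (sig p chart E j hj O1 lam1 hO1 U hU e') := by
    unfold sig
    rw [res_canonSec_le, res_canonSec_le]
    exact canonSec_eq_chartFun_smul p chart O1 lam1 hO1 i' (hj.2 U hU e)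
  set O : X.Opens := W ⊓ r ⁻¹ᵁ VF p chart i' with hO
  have hOW : O ≤ W := inf_le_left
  have hOV : O ≤ r ⁻¹ᵁ VF p chart i' := inf_le_right
  refine ⟨O, hOW, ⟨hx, he'⟩, ?_⟩
  have ht := h.trans U hU e U hU e' (VF p chart i') hVle hVle γ' hσ O hOV (hOW.trans hW') (hOW.trans hW')
  rw [res_res, ht]
  have h1 : res ((Scheme.Modules.pullback r).obj O1) hOW
      (unitSec r O1 hW (sig p chart E j hj O1 lam1 hO1 U hU e)) =
      r.appLE (VF p chart i') O hOV γ' •
        res ((Scheme.Modules.pullback r).obj O1) hOV (unitSec r O1 le_rfl (EA ⟨⟨U, hU⟩, e'⟩)) := by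
    rw [res_unitSec r O1 hW hOV hVle hOW, hσ, unitSec_smul,
      res_unitSec r O1 le_rfl hOV le_rfl hOV, res_self]
    congr 2
    exact hEAres ⟨⟨U, hU⟩, e'⟩
  have h2 := hΦ ⟨⟨U, hU⟩, e'⟩ O hOV (r.appLE (VF p chart i') O hOV γ')
  have h3 : res L hOW (Φ.hom.app W (unitSec r O1 hW (sig p chart E j hj O1 lam1 hO1 U hU e))) =
      Φ.hom.app O (res ((Scheme.Modules.pullback r).obj O1) hOW
        (unitSec r O1 hW (sig p chart E j hj O1 lam1 hO1 U hU e))) :=
    (Groth.Agent.Lib.Helper2.ModExact.app_map Φ.hom (homOfLE hOW) _).symm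
  rw [h3, h1, h2, res_res]

end Groth.Agent.Lib.T2H4.RLBridge
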