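import Mathlib
import Groth.Agent.Lib.Helper13PullbackUnit
import Groth.Agent.Lib.Helper23PB
import Groth.Agent.Lib.Helper23SecTw6
import Groth.Agent.Lib.Helper23FinTypeLocal
import Groth.Agent.Lib.Helper2PullbackSec
import Groth.Agent.Lib.Helper2RelTildeQCoh
import Groth.Agent.Lib.T2H4RLBridgeH
set_option backward.isDefEq.respectTransparency.types false

/-!
# Local frames of an invertible quotient of a pull-back (helper4)

* `span_unitSec'` : sections of `g^* E` over an affine open (above an affine open) are spanned by pulled-back sections;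
* `exists_frame_of_epi` : if `s : g^* E ⟶ L` is an epimorphism onto an invertible module, then near every point of `X`
  the image under `s` of some pulled-back section of `E` generates `L`.
-/

set_option autoImplicit false
set_option linter.style.haveILetI false
set_option linter.unusedSectionVars false
set_option linter.unusedVariables false
universe u
open CategoryTheory AlgebraicGeometry TopologicalSpace Opposite

namespace Groth.Agent.Lib.T2H4.RLBridge

open Groth.Agent.Lib.Helper6 Groth.Agent.Lib.Helper23.PB Groth.Agent.Helper13PullbackUnit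
  Groth.Agent.Lib.Helper23.SecTw

variable {X S : Scheme.{u}} (g : X ⟶ S) (E : S.Modules)

/-- sections of a pull-back over an affine open are spanned by the pulled back sections -/
theorem span_unitSec' [E.IsQuasicoherent] {U : S.Opens} (hU : IsAffineOpen U) {V : X.Opens} (hV : IsAffineOpen V)
    (hle : V ≤ g ⁻¹ᵁ U) :
    Submodule.span Γ(X, V) (Set.range (unitSec g E hle)) =
      (⊤ : Submodule Γ(X, V) Γ((Scheme.Modules.pullback g).obj E, V)) := by
  set N := Submodule.span Γ(X, V) (Set.range (unitSec g E hle)) with hN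
  obtain ⟨l', -, huniq⟩ := existsUnique_lift g E hU hV hle
    (Γ((Scheme.Modules.pullback g).obj E, V) ⧸ N) 0 (fun r x => by simp)
  have h1 : N.mkQ = l' := huniq N.mkQ (fun x => by
    change Submodule.Quotient.mk (unitSec g E hle x) = 0
    rw [Submodule.Quotient.mk_eq_zero]
    exact Submodule.subset_span ⟨x, rfl⟩)
  have h2 : (0 : Γ((Scheme.Modules.pullback g).obj E, V) →ₗ[Γ(X, V)] _) = l' :=
    huniq 0 (fun x => rfl)
  rw [eq_top_iff]
  intro z _
  have h3 : N.mkQ z = 0 := by rw [h1, ← h2]; rfl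
  exact (Submodule.Quotient.mk_eq_zero _).1 h3

variable (L : X.Modules) (s : (Scheme.Modules.pullback g).obj E ⟶ L)

/-- the values of `s` on pulled-back sections restrict -/
theorem res_app_unitSec {U U' : S.Opens} {V V' : X.Opens} (hle : V ≤ g ⁻¹ᵁ U) (hle' : V' ≤ g ⁻¹ᵁ U') (hU : U' ≤ U)
    (hV : V' ≤ V) (e : Γ(E, U)) :
    res L hV (s.app V (unitSec g E hle e)) = s.app V' (unitSec g E hle' (res E hU e)) := by
  rw [← res_unitSec g E hle hle' hU hV e]
  exact (Groth.Agent.Lib.Helper2.ModExact.app_map s (homOfLE hV) _).symm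

/-- **near every point, some pulled-back section of `E` is carried by the epimorphism `s` to a generator of the
invertible module `L`** -/
theorem exists_frame_of_epi [E.IsQuasicoherent] (hL : PicF.IsInvertible L) [Epi s] (x : X) :
    ∃ (U : S.Opens) (hU : IsAffineOpen U) (e : Γ(E, U)) (V : X.Opens) (hV : IsAffineOpen V)
      (hVU : V ≤ g ⁻¹ᵁ U), x ∈ V ∧ IsGen L V (s.app V (unitSec g E hVU e)) := by
  haveI : L.IsQuasicoherent := isQuasicoherent_of_isInvertible L hL
  haveI : ((Scheme.Modules.pullback g).obj E).IsQuasicoherent :=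
    Groth.Agent.Lib.Helper2.PullbackSec.isQuasicoherent_pullback g E
  obtain ⟨U, hxU⟩ := Groth.Agent.Lib.Helper2.RelTildeQCoh.exists_affine_mem_preimage g x
  obtain ⟨W, t₀, hxW, hWaff, ht₀⟩ := exists_affine_gen L hL x
  obtain ⟨V₀, hV₀, hxV₀, hV₀le⟩ := exists_isAffineOpen_mem_and_subset (X := X) (x := x)
    (U := W ⊓ g ⁻¹ᵁ U.1) ⟨hxW, hxU⟩
  have hV₀W : V₀ ≤ W := fun z hz => (hV₀le hz).1
  have hV₀U : V₀ ≤ g ⁻¹ᵁ U.1 := fun z hz => (hV₀le hz).2
  set t₁ : Γ(L, V₀) := res L hV₀W t₀ with ht₁def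
  have ht₁ : IsGen L V₀ t₁ := ht₀.mono hV₀W
  obtain ⟨m₀, hm₀⟩ := Groth.Agent.Lib.Helper23.FinType.surjective_app_of_epi s hV₀ t₁
  -- the coefficients
  have hd : ∀ e : Γ(E, U.1), ∃ d : Γ(X, V₀), s.app V₀ (unitSec g E hV₀U e) = d • t₁ := by
    intro e
    obtain ⟨d, hd⟩ := (ht₁ V₀ le_rfl).2 (s.app V₀ (unitSec g E hV₀U e))
    simp only at hd
    rw [res_self] at hd
    exact ⟨d, hd.symm⟩
  choose d hd using hd
  -- some coefficient does not vanish at `x`
  have hex : ∃ e : Γ(E, U.1), x ∈ X.basicOpen (d e) := by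
    by_contra hcon
    push Not at hcon
    let 𝔭 : Ideal Γ(X, V₀) := (IsLocalRing.maximalIdeal (X.presheaf.stalk x)).comap
      (X.presheaf.germ V₀ x hxV₀).hom
    have hmem : ∀ f : Γ(X, V₀), f ∈ 𝔭 ↔ x ∉ X.basicOpen f := by
      intro f
      rw [Scheme.mem_basicOpen X f x hxV₀]
      exact IsLocalRing.mem_maximalIdeal _
    have hall : ∀ m : Γ((Scheme.Modules.pullback g).obj E, V₀), ∃ c ∈ 𝔭, s.app V₀ m = c • t₁ := by
      intro m
      have hm : m ∈ Submodule.span Γ(X, V₀) (Set.range (unitSec g E hV₀U)) := by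
        rw [span_unitSec' g E U.2 hV₀ hV₀U]
        trivial
      refine Submodule.span_induction (p := fun m _ => ∃ c ∈ 𝔭, s.app V₀ m = c • t₁) ?_ ?_ ?_ ?_ hm
      · rintro _ ⟨e, rfl⟩
        exact ⟨d e, (hmem _).2 (hcon e), hd e⟩
      · exact ⟨0, 𝔭.zero_mem, by rw [map_zero, zero_smul]⟩
      · rintro a b _ _ ⟨c, hc, hca⟩ ⟨c', hc', hcb⟩
        exact ⟨c + c', 𝔭.add_mem hc hc', by rw [map_add, hca, hcb, add_smul]⟩
      · rintro r a _ ⟨c, hc, hca⟩
        refine ⟨r * c, 𝔭.mul_mem_left r hc, ?_⟩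
        rw [Scheme.Modules.Hom.app_smul, hca, mul_smul]
    obtain ⟨c, hc, hc'⟩ := hall m₀
    rw [hm₀] at hc'
    have h1 : c = 1 := by
      apply (ht₁ V₀ le_rfl).1
      simp only
      rw [res_self, one_smul]
      exact hc'.symm
    rw [h1] at hc
    exact (Ideal.ne_top_iff_one 𝔭).1 (Ideal.comap_ne_top _ (IsLocalRing.maximalIdeal.isMaximal _).ne_top) hc
  obtain ⟨e, hxe⟩ := hex
  have hVle : X.basicOpen (d e) ≤ V₀ := X.basicOpen_le (d e)
  refine ⟨U.1, U.2, e, X.basicOpen (d e), hV₀.basicOpen (d e), hVle.trans hV₀U, hxe, ?_⟩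
  have h2 := res_app_unitSec g E L s hV₀U (hVle.trans hV₀U) le_rfl hVle e
  rw [res_self] at h2
  rw [← h2, hd e, res_smul]
  exact isGen_smul_of_isUnit (ht₁.mono hVle) (RingedSpace.isUnit_res_basicOpen _ (d e))

end Groth.Agent.Lib.T2H4.RLBridge
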