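import Mathlib
import Groth.Agent.Lib.T2H4CocycleMod
set_option backward.isDefEq.respectTransparency.types false

/-!
# T2H5GlueInv (helper5): gluing an invertible module from local generators of a module defined "on an open part"

Let `P` be an `O_X`-module, `U` an open of `X`, `(T i)` an open cover of `X` with `T i ∩ T j ≤ U` for `i ≠ j` and
`e i ∈ Γ(P, T i)` sections that generate `P` freely on every open `W ≤ T i ∩ U`.  Then there are an invertible module `L`
with generators `ε i` over `T i` and a morphism `ψ : L ⟶ P` with `ψ (ε i) = e i`; it is bijective on the opens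
`W ≤ T i ∩ U`.

Namespace `Groth.Agent.Lib.T2H5.GlueInv`.
-/

set_option autoImplicit false
set_option linter.style.haveILetI false
set_option linter.unusedSectionVars false
set_option linter.unusedVariables false
universe u
open CategoryTheory CategoryTheory.Limits AlgebraicGeometry TopologicalSpace Opposite

namespace Groth.Agent.Lib.T2H5.GlueInv

open Groth.Agent.Lib.Helper6 Groth.Agent.Helper13ModGlue Groth.Agent.Lib.T2H4.Cocycle
  Groth.Agent.Lib.T2H4.CocycleMod

variable {X : Scheme.{u}}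

section cmp
variable (U : X.Opens) (P : X.Modules) {ι : Type u} (T : ι → X.Opens) (e : ∀ i, Γ(P, T i))
  (hgen : ∀ (i : ι) (W : X.Opens) (hW : W ≤ T i), W ≤ U →
    Function.Bijective (fun r : Γ(X, W) => r • res P hW (e i)))

/-- the comparison function: `e i = cmp i j • e j` on `W ≤ T i ∩ T j ∩ U` -/
noncomputable def cmp (i j : ι) (W : X.Opens) (hi : W ≤ T i) (hj : W ≤ T j) (hU : W ≤ U) : Γ(X, W) :=
  ((hgen j W hj hU).2 (res P hi (e i))).choose

theorem cmp_spec (i j : ι) (W : X.Opens) (hi : W ≤ T i) (hj : W ≤ T j) (hU : W ≤ U) :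
    cmp U P T e hgen i j W hi hj hU • res P hj (e j) = res P hi (e i) :=
  ((hgen j W hj hU).2 (res P hi (e i))).choose_spec

theorem cmp_unique (i j : ι) (W : X.Opens) (hi : W ≤ T i) (hj : W ≤ T j) (hU : W ≤ U) (r : Γ(X, W))
    (hr : r • res P hj (e j) = res P hi (e i)) : cmp U P T e hgen i j W hi hj hU = r := by
  apply (hgen j W hj hU).1
  change cmp U P T e hgen i j W hi hj hU • res P hj (e j) = r • res P hj (e j)
  rw [cmp_spec, hr]

theorem cmp_self (i : ι) (W : X.Opens) (hi hi' : W ≤ T i) (hU : W ≤ U) :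
    cmp U P T e hgen i i W hi hi' hU = 1 :=
  cmp_unique U P T e hgen i i W hi hi' hU 1 (one_smul _ _)

theorem cmp_mul (i j k : ι) (W : X.Opens) (hi : W ≤ T i) (hj : W ≤ T j) (hk : W ≤ T k) (hU : W ≤ U) :
    cmp U P T e hgen i k W hi hk hU =
      cmp U P T e hgen i j W hi hj hU * cmp U P T e hgen j k W hj hk hU := by
  apply cmp_unique
  rw [mul_smul, cmp_spec, cmp_spec]

theorem cmp_res (i j : ι) (W W' : X.Opens) (h : W' ≤ W) (hi : W ≤ T i) (hj : W ≤ T j) (hU : W ≤ U) :
    resf h (cmp U P T e hgen i j W hi hj hU) =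
      cmp U P T e hgen i j W' (h.trans hi) (h.trans hj) (h.trans hU) := by
  symm
  apply cmp_unique
  rw [← res_res P hj h, ← res_smul, cmp_spec, res_res]

theorem isUnit_cmp (i j : ι) (W : X.Opens) (hi : W ≤ T i) (hj : W ≤ T j) (hU : W ≤ U) :
    IsUnit (cmp U P T e hgen i j W hi hj hU) := by
  refine isUnit_iff_exists_inv.2 ⟨cmp U P T e hgen j i W hj hi hU, ?_⟩
  rw [← cmp_mul, cmp_self]

variable (hTU : ∀ i j, i ≠ j → T i ⊓ T j ≤ U)

open Classical in
/-- the unit cocycle -/
noncomputable def eta (i j : ι) : (Γ(X, T i ⊓ T j))ˣ :=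
  if h : i = j then 1 else
    (isUnit_cmp U P T e hgen i j (T i ⊓ T j) inf_le_left inf_le_right (hTU i j h)).unit

theorem eta_self (i : ι) : (eta U P T e hgen hTU i i : Γ(X, T i ⊓ T i)) = 1 := by
  rw [eta, dif_pos rfl, Units.val_one]

theorem eta_res (i j : ι) (W : X.Opens) (hW : W ≤ T i ⊓ T j) (hU : W ≤ U) :
    resf hW (eta U P T e hgen hTU i j : Γ(X, T i ⊓ T j)) =
      cmp U P T e hgen i j W (hW.trans inf_le_left) (hW.trans inf_le_right) hU := by
  by_cases h : i = j
  · subst h
    rw [eta_self, resf_one, cmp_self]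
  · rw [eta, dif_neg h, IsUnit.unit_spec, cmp_res]

theorem eta_cocycle (i j k : ι) :
    resf (inf_le_inf_right (T k) inf_le_left : T i ⊓ T j ⊓ T k ≤ T i ⊓ T k)
        (eta U P T e hgen hTU i k : Γ(X, T i ⊓ T k)) =
      resf (inf_le_left : T i ⊓ T j ⊓ T k ≤ T i ⊓ T j) (eta U P T e hgen hTU i j : Γ(X, T i ⊓ T j)) *
        resf (inf_le_inf_right (T k) inf_le_right : T i ⊓ T j ⊓ T k ≤ T j ⊓ T k)
          (eta U P T e hgen hTU j k : Γ(X, T j ⊓ T k)) := by
  by_cases hij : i = j
  · subst hij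
    rw [eta_self, resf_one, one_mul]
  · by_cases hjk : j = k
    · subst hjk
      rw [eta_self, resf_one, mul_one]
    · have hU : T i ⊓ T j ⊓ T k ≤ U := inf_le_left.trans (hTU i j hij)
      rw [eta_res U P T e hgen hTU i k _ _ hU, eta_res U P T e hgen hTU i j _ _ hU,
        eta_res U P T e hgen hTU j k _ _ hU]
      exact cmp_mul U P T e hgen i j k _ _ _ _ hU

include hgen hTU in
/-- **Gluing.** -/
theorem exists_glue (hT : iSup T = ⊤) :
    ∃ (L : X.Modules) (_ : PicF.IsInvertible L) (ε : ∀ i, Γ(L, T i)) (ψ : L ⟶ P),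
      (∀ i, Gen L (ε i)) ∧
      (∀ (i : ι) (W : X.Opens) (hW : W ≤ T i) (r : Γ(X, W)),
        ψ.app W (r • res L hW (ε i)) = r • res P hW (e i)) := by
  let η := eta U P T e hgen hTU
  have hη := eta_cocycle U P T e hgen hTU
  let L := cocycleMod T (ηv T η)
  have hgenL : ∀ i, Gen L (gen T η hη i) := gen_isGen T η hη
  have hT' : ⨆ i, T i = ⊤ := hT
  obtain ⟨ψ, hψ⟩ := exists_hom_of_locFams T hT' L P
    (fun i => locFam L P (gen T η hη i) (hgenL i) (e i) 1) (by
      intro i j W hi hj τ
      rw [locFam_d, locFam_d, resf_one, mul_one, resf_one, mul_one]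
      by_cases hij : i = j
      · subst hij
        rfl
      · have hU : W ≤ U := (le_inf hi hj).trans (hTU i j hij)
        have h1 := res_gen_eq T L (gen T η hη)
          (fun i j => ((η i j : (Γ(X, T i ⊓ T j))ˣ) : Γ(X, T i ⊓ T j))) (gen_transition T η hη) i j hi hj
        have hc : coord L (gen T η hη j) (hgenL j) hj τ =
            coord L (gen T η hη i) (hgenL i) hi τ *
              resf (le_inf hi hj) ((η i j : (Γ(X, T i ⊓ T j))ˣ) : Γ(X, T i ⊓ T j)) := by
          apply coord_unique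
          rw [mul_smul, ← h1, coord_spec]
        rw [hc, mul_smul]
        congr 1
        have h2 : resf (le_inf hi hj) ((η i j : (Γ(X, T i ⊓ T j))ˣ) : Γ(X, T i ⊓ T j)) =
            cmp U P T e hgen i j W hi hj hU := eta_res U P T e hgen hTU i j W (le_inf hi hj) hU
        rw [h2, cmp_spec])
  refine ⟨L, isInvertible_cocycleMod T η hη hT, gen T η hη, ψ, hgenL, fun i W hW r => ?_⟩
  rw [hψ i W hW, locFam_d, resf_one, mul_one]
  have h3 : coord L (gen T η hη i) (hgenL i) hW (r • res L hW (gen T η hη i)) = r :=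
    coord_unique L (gen T η hη i) (hgenL i) hW _ r rfl
  rw [h3]

end cmp

end Groth.Agent.Lib.T2H5.GlueInv
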