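import Mathlib
import Groth.Agent.Lib.T2H5GlueInv
import Groth.Agent.Lib.Helper13AffBC
set_option backward.isDefEq.respectTransparency.types false

/-!
# T2H5GlueInvB (helper5): extending invertible modules across a closed set with "isolated" neighbourhoods

* `exists_invertible_section` : an invertible module with a section whose generating locus is a given open `U`,
  from local equations `g i` of the complement.
* `exists_invertible_restrict_iso` : extension of an invertible module from `U` to `X`, from local generators over the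
  traces on `U` of the members of a cover of `X`.

Namespace `Groth.Agent.Lib.T2H5.GlueInv`.
-/

set_option autoImplicit false
set_option linter.style.haveILetI false
set_option linter.unusedSectionVars false
set_option linter.unusedVariables false
universe u
open CategoryTheory CategoryTheory.Limits AlgebraicGeometry TopologicalSpace Opposite

namespace Groth.Agent.Lib.T2H5.GlueInv

open Groth.Agent.Lib.Helper6 Groth.Agent.Helper13ModGlue Groth.Agent.Lib.T2H4.Cocycle
  Groth.Agent.Lib.T2H4.CocycleMod Groth.Agent.Lib.Helper23.SecTw Groth.Agent.Lib.Helper23.GenLocus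

variable {X : Scheme.{u}}

/-- gluing sections of a module -/
theorem res_glue (L : X.Modules) {κ : Type*} (W : κ → X.Opens) (V : X.Opens) (hW : ∀ a, W a ≤ V)
    (hcov : V ≤ ⨆ a, W a) (sf : ∀ a, Γ(L, W a))
    (hc : ∀ a b, res L (inf_le_left : W a ⊓ W b ≤ W a) (sf a) = res L (inf_le_right : W a ⊓ W b ≤ W b) (sf b)) :
    ∃ s : Γ(L, V), ∀ a, res L (hW a) s = sf a := by
  obtain ⟨s0, hs0, -⟩ := (modSheaf L).existsUnique_gluing' W V (fun a => homOfLE (hW a)) hcov sf hc
  exact ⟨s0, hs0⟩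

section bij
variable (U : X.Opens) (P : X.Modules) {ι : Type u} (T : ι → X.Opens) (e : ∀ i, Γ(P, T i))
  (hgen : ∀ (i : ι) (W : X.Opens) (hW : W ≤ T i), W ≤ U →
    Function.Bijective (fun r : Γ(X, W) => r • res P hW (e i)))
  (L : X.Modules) (ε : ∀ i, Γ(L, T i)) (ψ : L ⟶ P) (hε : ∀ i, Gen L (ε i))
  (hψ : ∀ (i : ι) (W : X.Opens) (hW : W ≤ T i) (r : Γ(X, W)),
    ψ.app W (r • res L hW (ε i)) = r • res P hW (e i))

include hgen hε hψ in
theorem bijective_app (i : ι) (W : X.Opens) (hW : W ≤ T i) (hWU : W ≤ U) :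
    Function.Bijective (ψ.app W) := by
  have h1 := hε i W hW
  have h2 := hgen i W hW hWU
  have h3 : (fun r : Γ(X, W) => r • res P hW (e i)) =
      (fun t : Γ(L, W) => ψ.app W t) ∘ (fun r : Γ(X, W) => r • res L hW (ε i)) := by
    funext r
    exact (hψ i W hW r).symm
  rw [h3] at h2
  exact (Function.Bijective.of_comp_iff _ h1).1 h2

end bij

section part2
variable (U : X.Opens) (N : (↑U : Scheme.{u}).Modules) {ι : Type u} (T : ι → X.Opens)
  (e : ∀ i, Γ(N, U.ι ⁻¹ᵁ T i)) (he : ∀ i, IsGen N (U.ι ⁻¹ᵁ T i) (e i))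
  (hTU : ∀ i j, i ≠ j → T i ⊓ T j ≤ U)

include he hTU in
/-- **Extension of an invertible module from an open `U`**, from generators over the traces of a cover of `X` whose
members meet pairwise inside `U`. -/
theorem exists_invertible_restrict_iso (hT : iSup T = ⊤) :
    ∃ L : X.Modules, PicF.IsInvertible L ∧ Nonempty (L.restrict U.ι ≅ N) := by
  let P : X.Modules := (Scheme.Modules.pushforward U.ι).obj N
  let e' : ∀ i, Γ(P, T i) := fun i => e i
  have hgen : ∀ (i : ι) (W : X.Opens) (hW : W ≤ T i), W ≤ U →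
      Function.Bijective (fun r : Γ(X, W) => r • res P hW (e' i)) := by
    intro i W hW hWU
    have h1 := he i (U.ι ⁻¹ᵁ W) (U.ι.preimage_mono hW)
    haveI : IsIso (U.ι.app W) := Scheme.Hom.isIso_app U.ι W (by rw [Scheme.Opens.opensRange_ι]; exact hWU)
    have h2 : Function.Bijective (U.ι.app W) := ConcreteCategory.bijective_of_isIso (U.ι.app W)
    have h3 : (fun r : Γ(X, W) => r • res P hW (e' i)) =
        (fun r' : Γ((↑U : Scheme.{u}), U.ι ⁻¹ᵁ W) => r' • res N (U.ι.preimage_mono hW) (e i)) ∘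
          (fun r : Γ(X, W) => U.ι.app W r) := by
      funext r
      rfl
    rw [h3]
    exact h1.comp h2
  obtain ⟨L, hL, ε, ψ, hε, hψ⟩ := exists_glue U P T e' hgen hTU hT
  refine ⟨L, hL, ?_⟩
  let φ : L.restrict U.ι ⟶ P.restrict U.ι := (Scheme.Modules.restrictFunctor U.ι).map ψ
  have hcov : ⨆ i, U.ι ⁻¹ᵁ T i = ⊤ := by
    rw [← Scheme.Hom.preimage_iSup]
    have : (⨆ i, T i) = ⊤ := hT
    rw [this]
    rfl
  have hφ : IsIso φ := by
    refine Groth.Agent.Helper13AffBC.isIso_of_bijective_on_basis φ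
      (fun k : (Σ i, {V : (↑U : Scheme.{u}).Opens // V ≤ U.ι ⁻¹ᵁ T i}) => k.2.1)
      (isBasis_small (fun i => U.ι ⁻¹ᵁ T i) hcov) (fun k => ?_)
    obtain ⟨i, V, hV⟩ := k
    have hle : U.ι ''ᵁ V ≤ T i := (U.ι.image_mono hV).trans (U.ι.image_preimage_le (T i))
    have hle' : U.ι ''ᵁ V ≤ U := by
      have := Scheme.Hom.image_le_opensRange U.ι V
      rwa [Scheme.Opens.opensRange_ι] at this
    exact bijective_app U P T e' hgen L ε ψ hε hψ i (U.ι ''ᵁ V) hle hle'
  exact ⟨asIso φ ≪≫ (Scheme.Modules.restrictFunctorAdjCounitIso U.ι).app N⟩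

end part2

section part1
variable (U : X.Opens) {ι : Type u} (T : ι → X.Opens) (g : ∀ i, Γ(X, T i))
  (hg : ∀ i, X.basicOpen (g i) = U ⊓ T i) (hTU : ∀ i j, i ≠ j → T i ⊓ T j ≤ U)

include hg hTU in
/-- **An invertible module with a section whose generating locus is `U`**, from local equations `g i` on the members of
a cover which meet pairwise inside `U`. -/
theorem exists_invertible_section (hT : iSup T = ⊤) :
    ∃ (L : X.Modules) (s : Coh.structureModule X ⟶ L), PicF.IsInvertible L ∧ CohB1.genLocus L s = U := by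
  let P : X.Modules := (Scheme.Modules.pushforward U.ι).obj (Coh.structureModule (↑U : Scheme.{u}))
  -- the images of the local equations are units on the traces
  have ha : ∀ i, IsUnit (U.ι.app (T i) (g i)) := by
    intro i
    have h1 : (↑U : Scheme.{u}).basicOpen (U.ι.app (T i) (g i)) = U.ι ⁻¹ᵁ T i := by
      rw [← Scheme.preimage_basicOpen, hg i]
      ext z
      constructor
      · intro hz
        exact hz.2
      · intro hz
        exact ⟨z.2, hz⟩
    refine (↑U : Scheme.{u}).toRingedSpace.isUnit_of_isUnit_germ _ _ (fun z hz => ?_)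
    have hz' : z ∈ (↑U : Scheme.{u}).basicOpen (U.ι.app (T i) (g i)) := by rw [h1]; exact hz
    exact ((↑U : Scheme.{u}).mem_basicOpen _ z hz).1 hz'
  let e : ∀ i, Γ(P, T i) := fun i => toS (U.ι ⁻¹ᵁ T i) ((ha i).unit⁻¹ : (Γ((↑U : Scheme.{u}), U.ι ⁻¹ᵁ T i))ˣ)
  have hgen : ∀ (i : ι) (W : X.Opens) (hW : W ≤ T i), W ≤ U →
      Function.Bijective (fun r : Γ(X, W) => r • res P hW (e i)) := by
    intro i W hW hWU
    haveI : IsIso (U.ι.app W) := Scheme.Hom.isIso_app U.ι W (by rw [Scheme.Opens.opensRange_ι]; exact hWU)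
    have h2 : Function.Bijective (U.ι.app W) := ConcreteCategory.bijective_of_isIso (U.ι.app W)
    set v : Γ((↑U : Scheme.{u}), U.ι ⁻¹ᵁ W) :=
      (↑U : Scheme.{u}).presheaf.map (homOfLE (U.ι.preimage_mono hW)).op
        (((ha i).unit⁻¹ : (Γ((↑U : Scheme.{u}), U.ι ⁻¹ᵁ T i))ˣ) : Γ((↑U : Scheme.{u}), U.ι ⁻¹ᵁ T i)) with hv
    have hvu : IsUnit v := (Units.isUnit _).map _
    have h3 : (fun r : Γ(X, W) => r • res P hW (e i)) =
        (fun r' : Γ((↑U : Scheme.{u}), U.ι ⁻¹ᵁ W) => toS (U.ι ⁻¹ᵁ W) (r' * v)) ∘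
          (fun r : Γ(X, W) => U.ι.app W r) := by
      funext r
      rfl
    rw [h3]
    refine Function.Bijective.comp ?_ h2
    obtain ⟨w, hw⟩ := hvu
    have h4 : (fun r' : Γ((↑U : Scheme.{u}), U.ι ⁻¹ᵁ W) => toS (U.ι ⁻¹ᵁ W) (r' * v)) =
        ⇑(Units.mulRight w) := by
      funext r'
      rw [← hw]
      rfl
    rw [h4]
    exact (Units.mulRight w).bijective
  obtain ⟨L, hL, ε, ψ, hε, hψ⟩ := exists_glue U P T e hgen hTU hT
  -- `g i • e i = 1`
  have hone : ∀ i, g i • e i = toS (U.ι ⁻¹ᵁ T i) (1 : Γ((↑U : Scheme.{u}), U.ι ⁻¹ᵁ T i)) := by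
    intro i
    change toS (U.ι ⁻¹ᵁ T i) (U.ι.app (T i) (g i) *
      (((ha i).unit⁻¹ : (Γ((↑U : Scheme.{u}), U.ι ⁻¹ᵁ T i))ˣ) : Γ((↑U : Scheme.{u}), U.ι ⁻¹ᵁ T i))) = _
    rw [IsUnit.mul_val_inv]
  have hres1 : ∀ (i : ι) (W : X.Opens) (hW : W ≤ T i),
      res P hW (toS (U.ι ⁻¹ᵁ T i) (1 : Γ((↑U : Scheme.{u}), U.ι ⁻¹ᵁ T i))) =
        toS (U.ι ⁻¹ᵁ W) (1 : Γ((↑U : Scheme.{u}), U.ι ⁻¹ᵁ W)) := by
    intro i W hW
    change toS (U.ι ⁻¹ᵁ W) ((↑U : Scheme.{u}).presheaf.map (homOfLE (U.ι.preimage_mono hW)).op 1) = _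
    rw [map_one]
  -- glue the sections `g i • ε i`
  obtain ⟨σ, hσ⟩ := res_glue L T ⊤ (fun _ => le_top) (by rw [show (⨆ a, T a) = ⊤ from hT])
    (fun i => g i • ε i) (by
      intro i j
      by_cases hij : i = j
      · subst hij
        rfl
      · have hWU : T i ⊓ T j ≤ U := hTU i j hij
        have hb := bijective_app U P T e hgen L ε ψ hε hψ i (T i ⊓ T j) inf_le_left hWU
        apply hb.1
        rw [res_smul, res_smul, hψ i _ inf_le_left, hψ j _ inf_le_right, ← res_smul, ← res_smul, hone i, hone j,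
          hres1, hres1])
  refine ⟨L, secHom L σ, hL, ?_⟩
  have hloc : ∀ i, CohB1.genLocus L (secHom L σ) ⊓ T i = U ⊓ T i := by
    intro i
    rw [← hg i]
    refine genLocus_inf_eq_of_isGen L (secHom L σ) (T i) (ε i) (g i) (hε i) ?_
    rw [sv_secHom]
    exact hσ i
  ext y
  have hy : y ∈ (iSup T : X.Opens) := by rw [hT]; trivial
  obtain ⟨i, hi⟩ := Opens.mem_iSup.1 hy
  constructor
  · intro h
    have h1 : y ∈ CohB1.genLocus L (secHom L σ) ⊓ T i := ⟨h, hi⟩
    rw [hloc i] at h1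
    exact h1.1
  · intro h
    have h1 : y ∈ U ⊓ T i := ⟨h, hi⟩
    rw [← hloc i] at h1
    exact h1.1

end part1

end Groth.Agent.Lib.T2H5.GlueInv
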