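import Mathlib
import Groth.Agent.Lib.T2H5GlueInvB
import Groth.Agent.Lib.Helper23PB
set_option backward.isDefEq.respectTransparency.types false

/-!
# T2H5GlueInvD (helper5): a criterion for `f^* M ≅ L` from a morphism `M ⟶ f_* L` carrying local generators to local
generators

Namespace `Groth.Agent.Lib.T2H5.GlueInv`.
-/

set_option autoImplicit false
set_option linter.style.haveILetI false
set_option linter.unusedSectionVars false
set_option linter.unusedVariables false
universe u
open CategoryTheory CategoryTheory.Limits AlgebraicGeometry TopologicalSpace Opposite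

namespace Groth.Agent.Lib.T2H5.GlueInv

open Groth.Agent.Lib.Helper6 Groth.Agent.Helper13ModGlue Groth.Agent.Lib.Helper23.SecTw
  Groth.Agent.Lib.Helper23.GenLocus Groth.Agent.Lib.Helper23.PB Groth.Agent.Helper13PullbackUnit
  Groth.Agent.Lib.Helper23.Extend

variable {X Y : Scheme.{u}} (f : X ⟶ Y)

/-- the adjoint `f^* M ⟶ L` of `ψ : M ⟶ f_* L` sends the unit sections to the values of `ψ` -/
theorem adj_app_unitSec (M : Y.Modules) (L : X.Modules) (ψ : M ⟶ (Scheme.Modules.pushforward f).obj L)
    (V : Y.Opens) (m : Γ(M, V)) :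
    (((Scheme.Modules.pullbackPushforwardAdjunction f).homEquiv M L).symm ψ).app (f ⁻¹ᵁ V)
      (unitSec f M le_rfl m) = ψ.app V m := by
  set φ := ((Scheme.Modules.pullbackPushforwardAdjunction f).homEquiv M L).symm ψ with hφ
  have h1 : ψ = ((Scheme.Modules.pullbackPushforwardAdjunction f).homEquiv M L) φ := by
    rw [hφ, Equiv.apply_symm_apply]
  rw [h1, Adjunction.homEquiv_unit, unitSec_apply]
  have h2 : ((Scheme.Modules.pullback f).obj M).presheaf.map (homOfLE (le_refl (f ⁻¹ᵁ V))).op
      (((Scheme.Modules.pullbackPushforwardAdjunction f).unit.app M).app V m) =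
      ((Scheme.Modules.pullbackPushforwardAdjunction f).unit.app M).app V m :=
    Groth.Agent.Helper13ModGlue.res_self _ _ _
  rw [h2]
  rfl

/-- **Criterion for `f^* M ≅ L`.** -/
theorem nonempty_pullback_iso_of_gens (M : Y.Modules) [M.IsQuasicoherent] (L : X.Modules)
    (ψ : M ⟶ (Scheme.Modules.pushforward f).obj L) {ι : Type u} (T : ι → Y.Opens) (hT : iSup T = ⊤)
    (hTaff : ∀ i, IsAffineOpen (T i)) (ε : ∀ i, Γ(M, T i)) (hε : ∀ i, IsGen M (T i) (ε i))
    (he : ∀ i, IsGen L (f ⁻¹ᵁ T i) (show Γ(L, f ⁻¹ᵁ T i) from ψ.app (T i) (ε i))) :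
    Nonempty ((Scheme.Modules.pullback f).obj M ≅ L) := by
  set φ := ((Scheme.Modules.pullbackPushforwardAdjunction f).homEquiv M L).symm ψ with hφ
  have hcov : ⨆ i, f ⁻¹ᵁ T i = ⊤ := by
    rw [← Scheme.Hom.preimage_iSup]
    have : (⨆ i, T i) = ⊤ := hT
    rw [this]
    rfl
  have hiso : IsIso φ := by
    refine Groth.Agent.Helper13AffBC.isIso_of_bijective_on_basis φ
      (fun k : (Σ i, {W : X.Opens // W ≤ f ⁻¹ᵁ T i}) => k.2.1)
      (isBasis_small (fun i => f ⁻¹ᵁ T i) hcov) (fun k => ?_)
    obtain ⟨i, W, hW⟩ := k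
    have hu := isGen_unitSec f M (hTaff i) (ε i) (hε i) W hW
    have hl := he i W hW
    have h3 : (fun r : Γ(X, W) => r • res L hW (show Γ(L, f ⁻¹ᵁ T i) from ψ.app (T i) (ε i))) =
        (fun t : Γ((Scheme.Modules.pullback f).obj M, W) => φ.app W t) ∘
          (fun r : Γ(X, W) => r • res ((Scheme.Modules.pullback f).obj M) hW (unitSec f M le_rfl (ε i))) := by
      funext r
      change _ = φ.app W (r • res ((Scheme.Modules.pullback f).obj M) hW (unitSec f M le_rfl (ε i)))
      rw [Scheme.Modules.Hom.app_smul]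
      congr 1
      have h4 := app_map φ (homOfLE hW) (unitSec f M le_rfl (ε i))
      rw [← adj_app_unitSec f M L ψ (T i) (ε i)]
      exact h4.symm
    rw [h3] at hl
    exact (Function.Bijective.of_comp_iff _ hu).1 hl
  exact ⟨asIso φ⟩

end Groth.Agent.Lib.T2H5.GlueInv
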