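import Mathlib
import Groth.Prelude.Def_RelProj4
import Groth.Agent.Lib.T2H4SymBCC
import Groth.Agent.Lib.T2H4RLBridgeN
import Groth.Agent.Lib.T2H5GlueInvD
set_option backward.isDefEq.respectTransparency.types false

/-!
# The graded morphism `Sym(E) ⟶ g_* 𝒮'` induced by a map `g^* E ⟶ 𝒮'` landing in degree one (helper4)

* `symQGrHom'` : variant of `SymBC.symQGrHom` for an arbitrary graded algebra `𝒮'` on the source and a map
  `j' : g^* E ⟶ 𝒮'` with values in degree one;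
* `symQGrHom'_appLE_j` : its value on `j(e)`;
* `tOf`, `res_tOf`, `tOf_eq_homEquiv` : the sections `s(g^* e)` of `L` attached to `s : g^* E ⟶ L`.
-/

set_option autoImplicit false
set_option linter.style.haveILetI false
set_option linter.unusedSectionVars false
set_option linter.unusedVariables false
universe u
open CategoryTheory AlgebraicGeometry TopologicalSpace Opposite

namespace Groth.Agent.Lib.T2H4.RLBridge

open Groth.Agent.Helper13SymAlg Groth.Agent.Helper13SymLoc Groth.Agent.Helper13PullbackUnit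
  Scheme.AffineZariskiSite Groth.Agent.Lib.T2H4.GrSym Groth.Agent.Lib.T2H4.SymBC
  Groth.Agent.Lib.Helper6 Groth.Agent.Lib.Helper23.PB Groth.Agent.Lib.Helper23.SecTw

noncomputable section

variable {Y Y' : Scheme.{u}} (ψ : Y' ⟶ Y) (E : Y.Modules) [E.IsQuasicoherent]
  {𝒮 : RelProj.QCGrAlg Y} {j : E ⟶ 𝒮.toModule} (hj : RelProj.IsGrSymAlg E 𝒮 j)
  {𝒮' : RelProj.QCGrAlg Y'} (j' : (Scheme.Modules.pullback ψ).obj E ⟶ 𝒮'.toModule)
  (h1 : ∀ (U' : Y'.Opens) (hU' : IsAffineOpen U') (x : Γ((Scheme.Modules.pullback ψ).obj E, U')),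
    ((j'.app U') x : 𝒮'.presheaf.obj (op U')) ∈ 𝒮'.deg U' hU' 1)

/-- the graded `ψ`-morphism `Sym(E) ⟶ ψ_* 𝒮'` extending `j' : ψ^* E ⟶ 𝒮'` (with values in degree one) -/
def symQGrHom' : RelProj.QGrHom ψ 𝒮 𝒮' where
  toQHom := symQHom ψ E j' hj.1
  map_mem U hU U' hU' hle d x hx := by
    obtain ⟨y, hy, rfl⟩ := exists_symDeg_of_mem_deg E hj U hU hx
    rw [symQHom_app ψ E j' hj.1 U hU, dAff_σ]
    refine map_mem_of_mem_symDeg Γ(Y, U) Γ(E, U) (𝒮'.deg U' hU')
      ((𝒮'.presheaf.map (homOfLE hle).op).hom.comp (Λ ψ E j' U)) (fun r => ?_) (fun m => ?_) hy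
    · rw [RingHom.comp_apply]
      unfold Λ
      rw [symLift_algebraMap]
      have h1 := congrArg (fun t : Γ(Y', ψ ⁻¹ᵁ U) ⟶ _ => t.hom ((ψ.app U).hom r))
        (𝒮'.str.naturality (homOfLE hle).op)
      simp only [CommRingCat.hom_comp, RingHom.comp_apply] at h1
      rw [RingHom.comp_apply, ← h1]
      exact 𝒮'.str_mem U' hU' _
    · rw [RingHom.comp_apply]
      unfold Λ
      rw [symLift_ι, gAdd_apply]
      haveI : ((Scheme.Modules.pullback ψ).obj E).IsQuasicoherent :=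
        Groth.Agent.Lib.Helper2.PullbackSec.isQuasicoherent_pullback ψ E
      have h2 := φAdd_res ((Scheme.Modules.pullback ψ).obj E) 𝒮'.toQCAlg j' hle
        (show Γ((Scheme.Modules.pullback ψ).obj E, ψ ⁻¹ᵁ U) from
          ((Scheme.Modules.pullbackPushforwardAdjunction ψ).unit.app E).app U m)
      refine Eq.mp (congrArg (fun t => t ∈ 𝒮'.deg U' hU' 1) h2) ?_
      exact h1 U' hU' _

/-- the value of `symQGrHom'` on `j(e)` -/
theorem symQGrHom'_appLE_j (U : Y.Opens) (e : Γ(E, U)) (V : Y'.Opens) (hle : V ≤ ψ ⁻¹ᵁ U) :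
    ((symQGrHom' ψ E hj j' h1).appLE U V hle).hom ((j.app U) e : 𝒮.presheaf.obj (op U)) =
      ((j'.app V) (unitSec ψ E hle e) : 𝒮'.presheaf.obj (op V)) := by
  rw [RelSpec.QHom.appLE_eq]
  have h2 := symQHom_j ψ E j' hj.1 U e
  change (𝒮'.presheaf.map (homOfLE hle).op).hom (((symQHom ψ E j' hj.1).app U).hom ((j.app U) e)) = _
  rw [h2, unitSec_apply]
  exact (Groth.Agent.Lib.Helper2.ModExact.app_map j' (homOfLE hle) _).symm

end

variable {X S : Scheme.{u}} (g : X ⟶ S) (E : S.Modules) (L : X.Modules)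
  (s : (Scheme.Modules.pullback g).obj E ⟶ L)

/-- the section `s(g^* e)` of `L` over `g⁻¹(U)` -/
noncomputable def tOf (U : S.Opens) (e : Γ(E, U)) : Γ(L, g ⁻¹ᵁ U) :=
  s.app (g ⁻¹ᵁ U) (unitSec g E le_rfl e)

theorem res_tOf {U : S.Opens} {V : X.Opens} (hle : V ≤ g ⁻¹ᵁ U) (e : Γ(E, U)) :
    res L hle (tOf g E L s U e) = s.app V (unitSec g E hle e) := by
  unfold tOf
  rw [res_app_unitSec g E L s le_rfl hle le_rfl hle e, res_self]

theorem tOf_eq_homEquiv (U : S.Opens) (e : Γ(E, U)) :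
    tOf g E L s U e = (((Scheme.Modules.pullbackPushforwardAdjunction g).homEquiv E L) s).app U e := by
  have h1 := Groth.Agent.Lib.T2H5.GlueInv.adj_app_unitSec g E L
    (((Scheme.Modules.pullbackPushforwardAdjunction g).homEquiv E L) s) U e
  rw [Equiv.symm_apply_apply] at h1
  exact h1

end Groth.Agent.Lib.T2H4.RLBridge
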