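import Mathlib
import Groth.Prelude.Def_RelProj4
import Groth.Agent.Lib.T2H4RLBridgeK
import Groth.Agent.Lib.T2H4RLBridgeL
import Groth.Agent.Lib.T2H4RLBridgeO
import Groth.Agent.Lib.T2H4GrSymD
import Groth.Agent.Lib.Helper2RelTwistExist
import Groth.Agent.Lib.Helper13ProjGlue2
set_option backward.isDefEq.respectTransparency.types false

/-!
# Existence of a framed morphism into `P(E)` from a module map `E ⟶ g_* L` with local frames (helper4)

`exists_isFramed_of_frames` : if `ψ : E ⟶ g_* L` (`L` invertible) is such that near every point of `X` some `ψ(e)`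
generates `L`, there is a morphism `r : X ⟶ P(E)` over `g` framed by the family `ψ(e)`.
-/

set_option autoImplicit false
set_option linter.style.haveILetI false
set_option linter.unusedSectionVars false
set_option linter.unusedVariables false
universe u
open CategoryTheory AlgebraicGeometry TopologicalSpace Opposite
open scoped HomogeneousIdeal

namespace Groth.Agent.Lib.T2H4.RLBridge

open Groth.Agent.Lib.Helper6 Groth.Agent.Lib.Helper23.PB Groth.Agent.Helper13PullbackUnit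
  Groth.Agent.Lib.Helper23.SecTw Groth.Agent.Lib.T2H4.GrSym

variable {Y P : Scheme.{u}} (E : Y.Modules) (hE : Coh.IsQCoh E)
  (𝒮 : RelProj.QCGrAlg Y) (j : E ⟶ 𝒮.toModule) (hj : RelProj.IsGrSymAlg E 𝒮 j) (p : P ⟶ Y)
  (chart : ∀ (U : Y.Opens) (hU : IsAffineOpen U), ((p ⁻¹ᵁ U : P.Opens) : Scheme.{u}) ≅ Proj (𝒮.deg U hU))
  (hP : RelProj.IsRelProj 𝒮 p chart) (O1 : P.Modules)
  (lam : ∀ (U : Y.Opens) (hU : IsAffineOpen U),
    O1 ⟶ (Scheme.Modules.pushforward (RelProj.emb p chart U hU)).obj (GrTwist.twist (𝒮.deg U hU) 1))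
  (hO1 : RelProj.IsRelTwist 𝒮 p chart 1 O1 lam)
  {X : Scheme.{u}} (g : X ⟶ Y) (L : X.Modules) (hL : PicF.IsInvertible L)
  (ψ : E ⟶ (Scheme.Modules.pushforward g).obj L)

include hE hP hL in
/-- **existence of the morphism into `P(E)` attached to `ψ : E ⟶ g_* L` with local frames** -/
theorem exists_isFramed_of_frames
    (hfr : ∀ x : X, ∃ (U : Y.Opens) (hU : IsAffineOpen U) (e : Γ(E, U)) (V : X.Opens) (hV : IsAffineOpen V)
      (hVU : V ≤ g ⁻¹ᵁ U), x ∈ V ∧ IsGen L V (res L hVU (ψ.app U e))) :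
    ∃ r : X ⟶ P, IsFramed p chart E j hj O1 lam hO1 g L r (fun U _ e => ψ.app U e) := by
  haveI : E.IsQuasicoherent := hE
  have hLq : Coh.IsQCoh L := isQuasicoherent_of_isInvertible L hL
  haveI : L.IsQuasicoherent := hLq
  obtain ⟨𝒮L, jL, hjL, PL, pL, chartL, hPL, O1L, lamL, hO1L⟩ := exists_projBundle L hLq
  obtain ⟨s, hs0⟩ : ∃ s : (Scheme.Modules.pullback g).obj E ⟶ L,
      s = ((Scheme.Modules.pullbackPushforwardAdjunction g).homEquiv E L).symm ψ := ⟨_, rfl⟩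
  have hψ : ∀ (U : Y.Opens) (e : Γ(E, U)), ψ.app U e = tOf g E L s U e := by
    intro U e
    rw [tOf_eq_homEquiv, hs0, Equiv.apply_symm_apply]
  obtain ⟨t, ht0⟩ : ∃ t : ∀ (U : Y.Opens) (hU : IsAffineOpen U) (e : Γ(E, U)), Γ(L, g ⁻¹ᵁ U),
      t = fun U hU e => ψ.app U e := ⟨_, rfl⟩
  have h1 : ∀ (U' : X.Opens) (hU' : IsAffineOpen U') (x : Γ((Scheme.Modules.pullback g).obj E, U')),
      (((s ≫ jL).app U') x : 𝒮L.presheaf.obj (op U')) ∈ 𝒮L.deg U' hU' 1 :=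
    fun U' hU' x => hjL.2 U' hU' (s.app U' x)
  obtain ⟨u, hu0⟩ : ∃ u : RelProj.QGrHom g 𝒮 𝒮L, u = symQGrHom' g E hj (s ≫ jL) h1 := ⟨_, rfl⟩
  have hut : ∀ (U : Y.Opens) (hU : IsAffineOpen U) (e : Γ(E, U)) (V : X.Opens) (hV : IsAffineOpen V)
      (hle : V ≤ g ⁻¹ᵁ U),
      (u.appLE U V hle).hom ((j.app U) e : 𝒮.presheaf.obj (op U)) =
        ((jL.app V) (res L hle (t U hU e)) : 𝒮L.presheaf.obj (op V)) := by
    intro U hU e V hV hle
    rw [hu0, ht0, symQGrHom'_appLE_j g E hj (s ≫ jL) h1 U e V hle]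
    change (jL.app V) (s.app V (unitSec g E hle e)) = (jL.app V) (res L hle (ψ.app U e))
    rw [hψ U e, res_tOf]
  have hfr' : ∀ x : X, ∃ (U : Y.Opens) (hU : IsAffineOpen U) (e : Γ(E, U)) (V : X.Opens) (hV : IsAffineOpen V)
      (hVU : V ≤ g ⁻¹ᵁ U), x ∈ V ∧ IsGen L V (res L hVU (t U hU e)) := by
    intro x
    obtain ⟨U, hU, e, V, hV, hVU, hxV, hgen⟩ := hfr x
    refine ⟨U, hU, e, V, hV, hVU, hxV, ?_⟩
    rw [ht0]
    exact hgen
  have hdef : RelProj.domQ u pL chartL = ⊤ :=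
    domQ_eq_top_of_frames u pL chartL E j hj L jL hjL t hut hfr' hLq
  obtain ⟨r₀, hr₀v⟩ := Groth.Agent.Helper13RelProj.exists_qmapOn u hP hPL
  have hr₀ := Groth.Agent.Helper13RelProj.isProjQMapOn_of_pieces u r₀ hr₀v
  haveI : IsIso pL := Groth.Agent.Helper13ProjLine.isIso_relProj L 𝒮L jL hjL pL chartL hPL hL
  haveI : IsIso (RelProj.domQ u pL chartL).ι := Groth.Agent.Helper13RL.isIso_ι_of_eq_top hdef
  obtain ⟨i', hi'0⟩ : ∃ i' : X ⟶ P, i' = inv pL ≫ inv (RelProj.domQ u pL chartL).ι ≫ r₀ := ⟨_, rfl⟩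
  have hi' : (RelProj.domQ u pL chartL).ι ≫ pL ≫ i' = r₀ := by
    rw [hi'0, IsIso.hom_inv_id_assoc, IsIso.hom_inv_id_assoc]
  have hF2 : IsFramed p chart E j hj O1 lam hO1 g L i' t :=
    isFramed_of_isProjQMapOn u p chart pL chartL E j hj O1 lam hO1 L jL hjL t hut hfr' hP hPL hL hLq O1L lamL hO1L
      r₀ hr₀ i' hi'
  rw [ht0] at hF2
  exact ⟨i', hF2⟩

end Groth.Agent.Lib.T2H4.RLBridge
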