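import Mathlib
import Groth.Prelude.Def_RelProj4
import Groth.Agent.Lib.T2H4RLBridgeH
import Groth.Agent.Lib.Helper23SecTw6
import Groth.Agent.Lib.Helper2IsGenCover

/-!
# Tools for the tensor product of very ample modules (helper4)

* `chartFun_bijective` : `𝒮(U)_(a) ≃ Γ(P, D₊(a))`;
* `IsFramed.mem_VF_of_isGen` : for a morphism `r` framed by `t`, a point near which `t_e` generates `L` is mapped into
  `D₊(e)`;
* `isGen_left_of_isGen_tm`, `isGen_right_of_isGen_tm` : if `a ⊗ b` generates the tensor product of two invertible modules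
  then `a` and `b` generate;
* `isImmersion_of_forall_restrict` : a morphism whose restrictions over a family of opens of the target covering the image
  are immersions is an immersion.
-/

set_option autoImplicit false
set_option linter.style.haveILetI false
set_option linter.unusedSectionVars false
set_option linter.unusedVariables false
universe u
open CategoryTheory Limits AlgebraicGeometry TopologicalSpace Opposite HomogeneousLocalization
open scoped HomogeneousIdeal

namespace Groth.Agent.Lib.T2H4.RLBridge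

open Groth.Agent.Lib.Helper2GrModSect
open Groth.Agent.Lib.Helper2.RelTildeQCoh Groth.Agent.Lib.Helper23.SecTw Groth.Agent.Lib.Helper6
  Groth.Agent.Lib.Helper2.Push Groth.Agent.Lib.Helper2.RelTwistGen Groth.Agent.Lib.Helper2.IsGenCover
  Groth.Agent.Lib.Helper2.RelTwistTriv Groth.Agent.Lib.Helper2.RelTwistTensor RelProj
  Groth.Agent.Lib.Helper2.RelTwistInv Groth.Agent.Lib.T2H4.GrSym Groth.Agent.Lib.Helper23.PB
  Groth.Agent.Helper13SymAlg Groth.Agent.Helper13SymLoc

section chartFun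

variable {P S : Scheme.{u}} {𝒮 : RelProj.QCGrAlg S} (p : P ⟶ S)
  (chart : ∀ (U : S.Opens) (hU : IsAffineOpen U), (((p ⁻¹ᵁ U : P.Opens) : Scheme.{u}) ≅ Proj (𝒮.deg U hU)))

theorem chartFun_bijective (i : Idx 𝒮) : Function.Bijective (chartFun p chart i) := by
  refine ⟨?_, chartFun_surjective p chart i⟩
  have h1 : Function.Bijective
      ((RelProj.emb p chart i.1.1 i.1.2).appIso (Proj.basicOpen (𝒮.deg i.1.1 i.1.2) i.2.1)).inv.hom :=
    ConcreteCategory.bijective_of_isIso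
      ((RelProj.emb p chart i.1.1 i.1.2).appIso (Proj.basicOpen (𝒮.deg i.1.1 i.1.2) i.2.1)).inv
  have h2 : Function.Bijective (Proj.awayToSection (𝒮.deg i.1.1 i.1.2) i.2.1).hom := by
    have h3 : (Proj.basicOpenIsoAway (𝒮.deg i.1.1 i.1.2) i.2.1 i.2.2 Nat.one_pos).hom =
        Proj.awayToSection (𝒮.deg i.1.1 i.1.2) i.2.1 := Proj.basicOpenIsoAway_hom _ _ _ _
    rw [← h3]
    exact ConcreteCategory.bijective_of_isIso _
  intro x y hxy
  exact h2.1 (h1.1 hxy)

end chartFun

section tm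

variable {X : Scheme.{u}}

theorem isGen_left_of_isGen_tm (M N : X.Modules) (hM : PicF.IsInvertible M) (hN : PicF.IsInvertible N)
    (W : X.Opens) (a : Γ(M, W)) (b : Γ(N, W)) (h : IsGen (CohB1.tensorMod M N) W (tm M N W a b)) :
    IsGen M W a := by
  have key : ∀ x : W, ∃ (W' : X.Opens) (hW' : W' ≤ W), x.1 ∈ W' ∧ IsGen M W' (res M hW' a) := by
    intro x
    obtain ⟨W₁, a₀, hx₁, ha₀⟩ := exists_gen M hM x.1
    obtain ⟨W₂, b₀, hx₂, hb₀⟩ := exists_gen N hN x.1
    set W' : X.Opens := W ⊓ (W₁ ⊓ W₂) with hW'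
    have hWW : W' ≤ W := inf_le_left
    have hW1 : W' ≤ W₁ := inf_le_right.trans inf_le_left
    have hW2 : W' ≤ W₂ := inf_le_right.trans inf_le_right
    refine ⟨W', hWW, ⟨x.2, hx₁, hx₂⟩, ?_⟩
    have ga : IsGen M W' (res M hW1 a₀) := ha₀.mono hW1
    have gb : IsGen N W' (res N hW2 b₀) := hb₀.mono hW2
    obtain ⟨c, hc⟩ := (ga W' le_rfl).2 (res M hWW a)
    obtain ⟨d, hd⟩ := (gb W' le_rfl).2 (res N hWW b)
    simp only at hc hd
    rw [res_self] at hc hd
    have g1 : IsGen (CohB1.tensorMod M N) W' (tm M N W' (res M hW1 a₀) (res N hW2 b₀)) :=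
      isGen_tm M N W' _ _ ga gb
    have g2 : IsGen (CohB1.tensorMod M N) W' (tm M N W' (res M hWW a) (res N hWW b)) := by
      have := h.mono hWW
      rwa [res_tm] at this
    have h3 : tm M N W' (res M hWW a) (res N hWW b) =
        (c * d) • tm M N W' (res M hW1 a₀) (res N hW2 b₀) := by
      rw [← hc, ← hd, tm_smul_left, tm_smul_right, mul_smul]
    have h4 : c * d = coef g1 le_rfl (tm M N W' (res M hWW a) (res N hWW b)) :=
      coef_unique g1 le_rfl _ _ (by rw [res_self]; exact h3.symm)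
    have h5 : IsUnit (c * d) := by
      rw [h4]
      exact isUnit_coef_of_isGen g1 g2
    have h6 : IsUnit c := isUnit_of_mul_isUnit_left h5
    rw [← hc]
    exact isGen_smul_of_isUnit ga h6
  choose W' hW' hxW' hgen using key
  exact isGen_of_cover M W a W' hW' (fun x hx => ⟨⟨x, hx⟩, hxW' _⟩) hgen

theorem isGen_right_of_isGen_tm (M N : X.Modules) (hM : PicF.IsInvertible M) (hN : PicF.IsInvertible N)
    (W : X.Opens) (a : Γ(M, W)) (b : Γ(N, W)) (h : IsGen (CohB1.tensorMod M N) W (tm M N W a b)) :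
    IsGen N W b := by
  have key : ∀ x : W, ∃ (W' : X.Opens) (hW' : W' ≤ W), x.1 ∈ W' ∧ IsGen N W' (res N hW' b) := by
    intro x
    obtain ⟨W₁, a₀, hx₁, ha₀⟩ := exists_gen M hM x.1
    obtain ⟨W₂, b₀, hx₂, hb₀⟩ := exists_gen N hN x.1
    set W' : X.Opens := W ⊓ (W₁ ⊓ W₂) with hW'
    have hWW : W' ≤ W := inf_le_left
    have hW1 : W' ≤ W₁ := inf_le_right.trans inf_le_left
    have hW2 : W' ≤ W₂ := inf_le_right.trans inf_le_right
    refine ⟨W', hWW, ⟨x.2, hx₁, hx₂⟩, ?_⟩
    have ga : IsGen M W' (res M hW1 a₀) := ha₀.mono hW1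
    have gb : IsGen N W' (res N hW2 b₀) := hb₀.mono hW2
    obtain ⟨c, hc⟩ := (ga W' le_rfl).2 (res M hWW a)
    obtain ⟨d, hd⟩ := (gb W' le_rfl).2 (res N hWW b)
    simp only at hc hd
    rw [res_self] at hc hd
    have g1 : IsGen (CohB1.tensorMod M N) W' (tm M N W' (res M hW1 a₀) (res N hW2 b₀)) :=
      isGen_tm M N W' _ _ ga gb
    have g2 : IsGen (CohB1.tensorMod M N) W' (tm M N W' (res M hWW a) (res N hWW b)) := by
      have := h.mono hWW
      rwa [res_tm] at this
    have h3 : tm M N W' (res M hWW a) (res N hWW b) =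
        (c * d) • tm M N W' (res M hW1 a₀) (res N hW2 b₀) := by
      rw [← hc, ← hd, tm_smul_left, tm_smul_right, mul_smul]
    have h4 : c * d = coef g1 le_rfl (tm M N W' (res M hWW a) (res N hWW b)) :=
      coef_unique g1 le_rfl _ _ (by rw [res_self]; exact h3.symm)
    have h5 : IsUnit (c * d) := by
      rw [h4]
      exact isUnit_coef_of_isGen g1 g2
    have h6 : IsUnit d := isUnit_of_mul_isUnit_right h5
    rw [← hd]
    exact isGen_smul_of_isUnit gb h6
  choose W' hW' hxW' hgen using key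
  exact isGen_of_cover N W b W' hW' (fun x hx => ⟨⟨x, hx⟩, hxW' _⟩) hgen

end tm

section mem

variable {P S : Scheme.{u}} {𝒮 : RelProj.QCGrAlg S} {p : P ⟶ S}
  {chart : ∀ (U : S.Opens) (hU : IsAffineOpen U), (((p ⁻¹ᵁ U : P.Opens) : Scheme.{u}) ≅ Proj (𝒮.deg U hU))}
  {E : S.Modules} {j : E ⟶ 𝒮.toModule} {hj : RelProj.IsGrSymAlg E 𝒮 j}
  {O1 : P.Modules}
  {lam1 : ∀ (U : S.Opens) (hU : IsAffineOpen U),
    O1 ⟶ (Scheme.Modules.pushforward (RelProj.emb p chart U hU)).obj (GrTwist.twist (𝒮.deg U hU) 1)}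
  {hO1 : RelProj.IsRelTwist 𝒮 p chart 1 O1 lam1}
  {X : Scheme.{u}} {g : X ⟶ S} {L : X.Modules}
  {t : ∀ (U : S.Opens) (hU : IsAffineOpen U) (e : Γ(E, U)), Γ(L, g ⁻¹ᵁ U)}

/-- a point near which `t_e` generates `L` is mapped into `D₊(e)` by a morphism framed by `t` -/
theorem IsFramed.mem_VF_of_isGen (hE : Coh.IsQCoh E) (hP : RelProj.IsRelProj 𝒮 p chart) {r : X ⟶ P}
    (h : IsFramed p chart E j hj O1 lam1 hO1 g L r t) (U : S.Opens) (hU : IsAffineOpen U) (e : Γ(E, U))
    (x : X) (V : X.Opens) (hxV : x ∈ V) (hVU : V ≤ g ⁻¹ᵁ U) (hgen : IsGen L V (res L hVU (t U hU e))) :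
    r x ∈ VF p chart (idxOf E j hj U hU e) := by
  have hgenD : 𝒮.IsGenDegOne := Groth.Agent.Lib.T2H4.VeryAmple.isGenDegOne_of_isGrSymAlg E hE 𝒮 j hj
  have hxU : g x ∈ U := hVU hxV
  have h2U : r x ∈ p ⁻¹ᵁ U := by
    change p (r x) ∈ U
    rw [h.p_apply]
    exact hxU
  obtain ⟨y, hy⟩ := le_opensRange_emb p chart U hU h2U
  obtain ⟨e', he'⟩ := Groth.Agent.Lib.T2H4.ProjBundle.exists_not_mem_of_isGrSymAlg E hE 𝒮 j hj U hU y
  have hx' : r x ∈ VF p chart (idxOf E j hj U hU e') :=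
    ⟨y, (ProjectiveSpectrum.mem_basicOpen _ _ y).mpr he', hy⟩
  set γ' : Γ(P, VF p chart (idxOf E j hj U hU e')) :=
    chartFun p chart (idxOf E j hj U hU e')
      (amk (𝒮.deg U hU) (idxOf E j hj U hU e').2.2 1 ((j.app U) e : 𝒮.presheaf.obj (op U)) (hj.2 U hU e))
    with hγ'
  have hVle : VF p chart (idxOf E j hj U hU e') ≤ p ⁻¹ᵁ U := VF_le p chart (idxOf E j hj U hU e')
  have hσ : res O1 hVle (sig p chart E j hj O1 lam1 hO1 U hU e) =
      γ' • res O1 hVle (sig p chart E j hj O1 lam1 hO1 U hU e') := by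
    unfold sig
    rw [res_canonSec_le, res_canonSec_le]
    exact canonSec_eq_chartFun_smul p chart O1 lam1 hO1 (idxOf E j hj U hU e') (hj.2 U hU e)
  set A : X.Opens := V ⊓ r ⁻¹ᵁ VF p chart (idxOf E j hj U hU e') with hA
  have hA1 : A ≤ g ⁻¹ᵁ U := inf_le_left.trans hVU
  have ht := h.trans U hU e U hU e' (VF p chart (idxOf E j hj U hU e')) hVle hVle γ' hσ A inf_le_right hA1 hA1
  have g1 : IsGen L A (res L hA1 (t U hU e)) := by
    have := hgen.mono (inf_le_left : A ≤ V)
    rwa [res_res] at this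
  have g2 : IsGen L A (res L hA1 (t U hU e')) := by
    have := (h.gen U hU e' (h.preimage_VF_le' (idxOf E j hj U hU e'))).mono (inf_le_right : A ≤ _)
    rwa [res_res] at this
  have hu : IsUnit (r.appLE (VF p chart (idxOf E j hj U hU e')) A inf_le_right γ') := by
    have h3 := isUnit_coef_of_isGen g2 g1
    have h4 : r.appLE (VF p chart (idxOf E j hj U hU e')) A inf_le_right γ' =
        coef g2 le_rfl (res L hA1 (t U hU e)) :=
      coef_unique g2 le_rfl _ _ (by rw [res_self]; exact ht.symm)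
    rw [h4]
    exact h3
  have hxA : x ∈ A := ⟨hxV, hx'⟩
  have hxb : x ∈ X.basicOpen (r.appLE (VF p chart (idxOf E j hj U hU e')) A inf_le_right γ') := by
    rw [Scheme.basicOpen_of_isUnit _ hu]
    exact hxA
  rw [Scheme.basicOpen_appLE] at hxb
  have hxB : r x ∈ P.basicOpen γ' := hxb.2
  set B : P.Opens := P.basicOpen γ' with hB
  have hBle : B ≤ VF p chart (idxOf E j hj U hU e') := P.basicOpen_le γ'
  have hBU : B ≤ p ⁻¹ᵁ U := hBle.trans hVle
  have hunit : IsUnit (resf hBle γ') := RingedSpace.isUnit_res_basicOpen _ γ'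
  have hgen' : IsGen O1 B (canonSec p chart 1 O1 lam1 hO1 one_eq U hU B hBU (hj.2 U hU e')) := by
    refine isGen_canonSec p chart 1 O1 lam1 hO1 one_eq U hU B hBU (hj.2 U hU e') (fun y => ?_)
    exact not_mem_of_mem_VF p chart (idxOf E j hj U hU e') y.1 (hBle y.2)
  have hσB : canonSec p chart 1 O1 lam1 hO1 one_eq U hU B hBU (hj.2 U hU e) =
      resf hBle γ' • canonSec p chart 1 O1 lam1 hO1 one_eq U hU B hBU (hj.2 U hU e') := by
    have h5 := congrArg (res O1 hBle) hσ
    unfold sig at h5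
    rw [res_res, res_smul, res_res, res_canonSec_le, res_canonSec_le] at h5
    exact h5
  have hgenB : IsGen O1 B (canonSec p chart 1 O1 lam1 hO1 one_eq U hU B hBU (hj.2 U hU e)) := by
    rw [hσB]
    exact isGen_smul_of_isUnit hgen' hunit
  obtain ⟨y', hy'⟩ := le_opensRange_emb p chart U hU (hBU hxB)
  have hy'B : y' ∈ RelProj.emb p chart U hU ⁻¹ᵁ B := by
    change (RelProj.emb p chart U hU) y' ∈ B
    rw [hy']
    exact hxB
  have hne := not_mem_of_isGen_canonSec p chart O1 lam1 hO1 hgenD U hU B hBU (hj.2 U hU e) hgenB y' hy'B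
  exact ⟨y', (ProjectiveSpectrum.mem_basicOpen _ _ y').mpr hne, hy'⟩

end mem

section imm

/-- a morphism whose restrictions over a family of opens of the target covering its image are immersions is an
immersion -/
theorem isImmersion_of_forall_restrict {X Y : Scheme.{u}} (f : X ⟶ Y) {κ : Type*} (U : κ → Y.Opens)
    (hU : ∀ x : X, ∃ i, f x ∈ U i) (h : ∀ i, IsImmersion (f ∣_ U i)) : IsImmersion f := by
  set W : Y.Opens := ⨆ i, U i with hW
  have hrange : Set.range f ⊆ Set.range W.ι := by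
    rintro _ ⟨x, rfl⟩
    obtain ⟨i, hi⟩ := hU x
    rw [Scheme.Opens.range_ι]
    exact Opens.mem_iSup.2 ⟨i, hi⟩
  obtain ⟨g, hfac⟩ : ∃ g : X ⟶ W, g ≫ W.ι = f :=
    ⟨IsOpenImmersion.lift W.ι f hrange, IsOpenImmersion.lift_fac _ _ _⟩
  subst hfac
  have hcov : ⨆ i, W.ι ⁻¹ᵁ U i = ⊤ := by
    rw [eq_top_iff]
    intro w _
    obtain ⟨i, hi⟩ := Opens.mem_iSup.1 w.2
    exact Opens.mem_iSup.2 ⟨i, hi⟩
  haveI : IsImmersion g := by
    rw [IsZariskiLocalAtTarget.iff_of_iSup_eq_top (P := @IsImmersion) _ hcov]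
    intro i
    have h1 := h i
    rw [morphismRestrict_comp] at h1
    exact @IsImmersion.of_comp _ _ _ _ (W.ι ∣_ U i) h1
  infer_instance

end imm

end Groth.Agent.Lib.T2H4.RLBridge
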