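import Mathlib
import Groth.Prelude.Def_RelProj4
import Groth.Agent.Lib.T2H4SymBCC
import Groth.Agent.Lib.Helper18Tens1
import Groth.Agent.Lib.Helper23SecTw6
import Groth.Agent.Lib.Helper2ModExact
set_option backward.isDefEq.respectTransparency.types false

/-!
# The tensor product of two families of sections, and graded homomorphisms out of a symmetric algebra over an affine open
(helper4)

* `tensorMap q ψ ψ' : E ⊗ E' ⟶ q_*(L ⊗ L')`, `(e, e') ↦ ψ(e) ⊗ ψ'(e')` (`tensorMap_tm`);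
* `exists_gradedHom_of_linear` : over an affine open `U`, a `Γ(Y, U)`-linear map `ℓ : Γ(E, U) → Γ(E'', U)` induces a graded
  ring homomorphism `Sym(E)(U) → Sym(E'')(U)`.
-/

set_option autoImplicit false
set_option linter.style.haveILetI false
set_option linter.unusedSectionVars false
set_option linter.unusedVariables false
universe u
open CategoryTheory AlgebraicGeometry TopologicalSpace Opposite

namespace Groth.Agent.Lib.T2H4.RLBridge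

open Groth.Agent.Lib.Helper6 Groth.Agent.Lib.Helper23.SecTw Groth.Agent.Helper13SymAlg Groth.Agent.Helper13SymLoc
  Groth.Agent.Lib.T2H4.GrSym Groth.Agent.Lib.T2H4.SymBC

section tensor

variable {X Y : Scheme.{u}} (q : X ⟶ Y) {E E' : Y.Modules} {L L' : X.Modules}
  (ψ : E ⟶ (Scheme.Modules.pushforward q).obj L) (ψ' : E' ⟶ (Scheme.Modules.pushforward q).obj L')

theorem tensorAux_add_left (U : Y.Opens) (m₁ m₂ : Γ(E, U)) (n : Γ(E', U)) :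
    tm L L' (q ⁻¹ᵁ U) (ψ.app U (m₁ + m₂)) (ψ'.app U n) =
      tm L L' (q ⁻¹ᵁ U) (ψ.app U m₁) (ψ'.app U n) + tm L L' (q ⁻¹ᵁ U) (ψ.app U m₂) (ψ'.app U n) := by
  rw [map_add]
  exact tm_add_left L L' _ _ _ _

theorem tensorAux_add_right (U : Y.Opens) (m : Γ(E, U)) (n₁ n₂ : Γ(E', U)) :
    tm L L' (q ⁻¹ᵁ U) (ψ.app U m) (ψ'.app U (n₁ + n₂)) =
      tm L L' (q ⁻¹ᵁ U) (ψ.app U m) (ψ'.app U n₁) + tm L L' (q ⁻¹ᵁ U) (ψ.app U m) (ψ'.app U n₂) := by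
  rw [map_add]
  exact tm_add_right L L' _ _ _ _

theorem tensorAux_smul_left (U : Y.Opens) (a : Γ(Y, U)) (m : Γ(E, U)) (n : Γ(E', U)) :
    tm L L' (q ⁻¹ᵁ U) (ψ.app U (a • m)) (ψ'.app U n) =
      (q.app U a) • tm L L' (q ⁻¹ᵁ U) (ψ.app U m) (ψ'.app U n) := by
  rw [Scheme.Modules.Hom.app_smul]
  exact tm_smul_left L L' _ _ _ _

theorem tensorAux_smul_right (U : Y.Opens) (a : Γ(Y, U)) (m : Γ(E, U)) (n : Γ(E', U)) :
    tm L L' (q ⁻¹ᵁ U) (ψ.app U m) (ψ'.app U (a • n)) =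
      (q.app U a) • tm L L' (q ⁻¹ᵁ U) (ψ.app U m) (ψ'.app U n) := by
  rw [Scheme.Modules.Hom.app_smul]
  exact tm_smul_right L L' _ _ _ _

theorem tensorAux_res {U V : Y.Opens} (h : V ≤ U) (m : Γ(E, U)) (n : Γ(E', U)) :
    res (CohB1.tensorMod L L') (q.preimage_mono h) (tm L L' (q ⁻¹ᵁ U) (ψ.app U m) (ψ'.app U n)) =
      tm L L' (q ⁻¹ᵁ V) (ψ.app V (res E h m)) (ψ'.app V (res E' h n)) := by
  have h1 := Groth.Agent.Lib.Helper2.ModExact.app_map ψ (homOfLE h) m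
  have h2 := Groth.Agent.Lib.Helper2.ModExact.app_map ψ' (homOfLE h) n
  rw [res_tm]
  exact congrArg₂ (tm L L' (q ⁻¹ᵁ V)) h1.symm h2.symm

/-- the map `E ⊗ E' ⟶ q_*(L ⊗ L')`, `(e, e') ↦ ψ(e) ⊗ ψ'(e')` -/
noncomputable def tensorMap :
    CohB1.tensorMod E E' ⟶ (Scheme.Modules.pushforward q).obj (CohB1.tensorMod L L') :=
  Groth.Agent.Helper18Tens.ofBilinSch E E' ((Scheme.Modules.pushforward q).obj (CohB1.tensorMod L L'))
    (fun Z e e' => tm L L' (q ⁻¹ᵁ Z.unop) (ψ.app Z.unop e) (ψ'.app Z.unop e'))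
    (fun Z m₁ m₂ n => tensorAux_add_left q ψ ψ' Z.unop m₁ m₂ n)
    (fun Z a m n => tensorAux_smul_left q ψ ψ' Z.unop a m n)
    (fun Z m n₁ n₂ => tensorAux_add_right q ψ ψ' Z.unop m n₁ n₂)
    (fun Z a m n => tensorAux_smul_right q ψ ψ' Z.unop a m n)
    (fun {Z W} f m n => tensorAux_res q ψ ψ' f.unop.le m n)

theorem tensorMap_tm (U : Y.Opens) (e : Γ(E, U)) (e' : Γ(E', U)) :
    (tensorMap q ψ ψ').app U (tm E E' U e e') = tm L L' (q ⁻¹ᵁ U) (ψ.app U e) (ψ'.app U e') :=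
  Groth.Agent.Helper18Tens.ofBilinSch_tmul E E' ((Scheme.Modules.pushforward q).obj (CohB1.tensorMod L L'))
    (fun Z e e' => tm L L' (q ⁻¹ᵁ Z.unop) (ψ.app Z.unop e) (ψ'.app Z.unop e'))
    (fun Z m₁ m₂ n => tensorAux_add_left q ψ ψ' Z.unop m₁ m₂ n)
    (fun Z a m n => tensorAux_smul_left q ψ ψ' Z.unop a m n)
    (fun Z m n₁ n₂ => tensorAux_add_right q ψ ψ' Z.unop m n₁ n₂)
    (fun Z a m n => tensorAux_smul_right q ψ ψ' Z.unop a m n)
    (fun {Z W} f m n => tensorAux_res q ψ ψ' f.unop.le m n) U e e'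

end tensor

section graded

variable {Y : Scheme.{u}} (E : Y.Modules) [E.IsQuasicoherent]
  {𝒮 : RelProj.QCGrAlg Y} {j : E ⟶ 𝒮.toModule} (hj : RelProj.IsGrSymAlg E 𝒮 j)
  (E'' : Y.Modules) [E''.IsQuasicoherent] {𝒯 : RelProj.QCGrAlg Y} {k : E'' ⟶ 𝒯.toModule} (hk : RelProj.IsGrSymAlg E'' 𝒯 k)

include hj hk in
/-- a linear map `Γ(E, U) → Γ(E'', U)` over an affine open induces a graded homomorphism of the symmetric algebras -/
theorem exists_gradedHom_of_linear (U : Y.Opens) (hU : IsAffineOpen U) (ℓ : Γ(E, U) →+ Γ(E'', U))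
    (hℓ : ∀ (a : Γ(Y, U)) (m : Γ(E, U)), ℓ (a • m) = a • ℓ m) :
    ∃ Φ : 𝒮.deg U hU →+*ᵍ 𝒯.deg U hU,
      (∀ s : Γ(Y, U), Φ ((𝒮.str.app (op U)).hom s) = (𝒯.str.app (op U)).hom s) ∧
      ∀ m : Γ(E, U), Φ ((j.app U) m : 𝒮.presheaf.obj (op U)) = ((k.app U) (ℓ m) : 𝒯.presheaf.obj (op U)) := by
  have hb := bijective_σ E U hU hj.1
  let eσ : SymmetricAlgebra Γ(Y, U) Γ(E, U) ≃+* 𝒮.presheaf.obj (op U) := RingEquiv.ofBijective _ hb
  have heσ : ∀ z, eσ z = σ E 𝒮.toQCAlg j U z := fun _ => rfl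
  let g : Γ(E, U) →+ 𝒯.presheaf.obj (op U) := (φAdd E'' 𝒯.toQCAlg k U).comp ℓ
  have hg : ∀ (a : Γ(Y, U)) (m : Γ(E, U)), g (a • m) = (𝒯.str.app (op U)).hom a * g m := by
    intro a m
    change φAdd E'' 𝒯.toQCAlg k U (ℓ (a • m)) = _
    rw [hℓ, φAdd_smul]
    rfl
  let Φ' : SymmetricAlgebra Γ(Y, U) Γ(E, U) →+* 𝒯.presheaf.obj (op U) :=
    symLift (𝒯.str.app (op U)).hom g hg
  let Φ₀ : 𝒮.presheaf.obj (op U) →+* 𝒯.presheaf.obj (op U) := Φ'.comp eσ.symm.toRingHom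
  have hΦσ : ∀ z, Φ₀ (σ E 𝒮.toQCAlg j U z) = Φ' z := by
    intro z
    change Φ' (eσ.symm (σ E 𝒮.toQCAlg j U z)) = Φ' z
    rw [← heσ, RingEquiv.symm_apply_apply]
  have hmem : ∀ {d : ℕ} {x : 𝒮.presheaf.obj (op U)}, x ∈ 𝒮.deg U hU d → Φ₀ x ∈ 𝒯.deg U hU d := by
    intro d x hx
    obtain ⟨y, hy, rfl⟩ := exists_symDeg_of_mem_deg E hj U hU hx
    rw [hΦσ]
    refine map_mem_of_mem_symDeg Γ(Y, U) Γ(E, U) (𝒯.deg U hU) Φ' (fun r => ?_) (fun m => ?_) hy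
    · change symLift _ g hg _ ∈ _
      rw [symLift_algebraMap]
      exact 𝒯.str_mem U hU r
    · change symLift _ g hg _ ∈ _
      rw [symLift_ι]
      exact hk.2 U hU (ℓ m)
  refine ⟨{ Φ₀ with map_mem := fun hx => hmem hx }, ?_, ?_⟩
  · intro s
    have h1 : ((𝒮.str.app (op U)).hom s : 𝒮.presheaf.obj (op U)) =
        σ E 𝒮.toQCAlg j U (algebraMap Γ(Y, U) _ s) := by
      unfold σ
      rw [symLift_algebraMap]
    change Φ₀ _ = _
    rw [h1, hΦσ]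
    change symLift _ g hg _ = _
    rw [symLift_algebraMap]
  · intro m
    have h1 : ((j.app U) m : 𝒮.presheaf.obj (op U)) =
        σ E 𝒮.toQCAlg j U (SymmetricAlgebra.ι Γ(Y, U) Γ(E, U) m) := by
      unfold σ
      rw [symLift_ι]
      rfl
    change Φ₀ _ = _
    rw [h1, hΦσ]
    change symLift _ g hg _ = _
    rw [symLift_ι]
    rfl

end graded

end Groth.Agent.Lib.T2H4.RLBridge
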