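import Mathlib
import Groth.Prelude.Def_RelProj4
import Groth.Agent.Lib.T2H4RLBridgeQ
import Groth.Agent.Lib.T2H4RLBridgeS
set_option backward.isDefEq.respectTransparency.types false

/-!
# The morphism into `P(E ⊗ E')` attached to a tensor product of families: the local immersion statement (helper4)

Let `i : X ⟶ P(E)` be framed by `ψ : E ⟶ q_* L`, and `r : X ⟶ P(E ⊗ E')` be framed by
`ψ ⊗ ψ' : E ⊗ E' ⟶ q_*(L ⊗ L')`.  Over an affine open `U` of the base and for sections `e` of `E`, `e'` of `E'`, the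
inverse image under `r` of `D₊(e ⊗ e')` lies in `i⁻¹ D₊(e)` (`preimage_VF_tensor_le`), and `i` restricted to it factors
through `r` (`appLE_chartFun_tensor`); hence if `i` is an immersion so is the restriction of `r` over `D₊(e ⊗ e')`
(`isImmersion_restrict_tensor`).
-/

set_option autoImplicit false
set_option linter.style.haveILetI false
set_option linter.unusedSectionVars false
set_option linter.unusedVariables false
universe u
open CategoryTheory AlgebraicGeometry TopologicalSpace Opposite HomogeneousLocalization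
open scoped HomogeneousIdeal

namespace Groth.Agent.Lib.T2H4.RLBridge

open Groth.Agent.Lib.Helper6 Groth.Agent.Lib.Helper23.SecTw Groth.Agent.Lib.T2H4.GrSym
  Groth.Agent.Lib.Helper2.RelTwistTensor Groth.Agent.Lib.Helper23.PB

section away

variable {A B σ τ : Type u} [CommRing A] [SetLike σ A] [AddSubgroupClass σ A] {𝒜 : ℕ → σ} [GradedRing 𝒜]
  [CommRing B] [SetLike τ B] [AddSubgroupClass τ B] {ℬ : ℕ → τ} [GradedRing ℬ]

/-- the homomorphism `A_(f) → B_(f')` induced by a graded homomorphism `Φ` with `Φ f = f'` -/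
def awayMapTo (Φ : 𝒜 →+*ᵍ ℬ) {f : A} {f' : B} (h : Φ f = f') : Away 𝒜 f →+* Away ℬ f' :=
  h ▸ Away.map Φ f

theorem awayMapTo_amk (Φ : 𝒜 →+*ᵍ ℬ) {f : A} (hf : f ∈ 𝒜 1) {f' : B} (hf' : f' ∈ ℬ 1) (h : Φ f = f')
    (k : ℕ) (a : A) (ha : a ∈ 𝒜 k) :
    awayMapTo Φ h (amk 𝒜 hf k a ha) = amk ℬ hf' k (Φ a) (Φ.map_mem ha) := by
  subst h
  exact Away.map_mk Φ f hf k a _

end away

/-- a morphism to an affine open constructed from a ring homomorphism: the compatibility criterion -/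
theorem resLE_comp_of_appLE {X P Q : Scheme.{u}} (r : X ⟶ Q) (i : X ⟶ P) (D : Q.Opens) (DP : P.Opens)
    (hD : IsAffineOpen D) (hDP : IsAffineOpen DP) (W : X.Opens) (hW : W ≤ r ⁻¹ᵁ D) (hWP : W ≤ i ⁻¹ᵁ DP)
    (θ : Γ(P, DP) ⟶ Γ(Q, D)) (h : θ ≫ r.appLE D W hW = i.appLE DP W hWP) :
    r.resLE D W hW ≫ (hD.isoSpec.hom ≫ Spec.map θ ≫ hDP.isoSpec.inv) = i.resLE DP W hWP := by
  haveI : IsAffine (DP : Scheme.{u}) := hDP
  apply ext_of_isAffine
  rw [Scheme.Hom.comp_appTop, Scheme.Hom.comp_appTop, Scheme.Hom.comp_appTop,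
    IsAffineOpen.isoSpec_hom_appTop, IsAffineOpen.isoSpec_inv_appTop]
  have e1 : (r.resLE D W hW).appTop = D.topIso.hom ≫ r.appLE D W hW ≫ W.topIso.inv :=
    Scheme.Hom.resLE_app_top r hW
  have e2 : (i.resLE DP W hWP).appTop = DP.topIso.hom ≫ i.appLE DP W hWP ≫ W.topIso.inv :=
    Scheme.Hom.resLE_app_top i hWP
  rw [e1, e2, ← h]
  have e3 : (Scheme.ΓSpecIso Γ(P, DP)).inv ≫ (Spec.map θ).appTop = θ ≫ (Scheme.ΓSpecIso Γ(Q, D)).inv :=
    (Scheme.ΓSpecIso_inv_naturality θ).symm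
  simp only [Category.assoc]
  rw [reassoc_of% e3, Iso.inv_hom_id_assoc, Iso.inv_hom_id_assoc]

variable {X Y P Q : Scheme.{u}} (q : X ⟶ Y)
  (E : Y.Modules) (hE : Coh.IsQCoh E) (𝒮 : RelProj.QCGrAlg Y) (j : E ⟶ 𝒮.toModule)
  (hj : RelProj.IsGrSymAlg E 𝒮 j) (p : P ⟶ Y)
  (chart : ∀ (U : Y.Opens) (hU : IsAffineOpen U), ((p ⁻¹ᵁ U : P.Opens) : Scheme.{u}) ≅ Proj (𝒮.deg U hU))
  (hP : RelProj.IsRelProj 𝒮 p chart) (O1 : P.Modules)
  (lam : ∀ (U : Y.Opens) (hU : IsAffineOpen U),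
    O1 ⟶ (Scheme.Modules.pushforward (RelProj.emb p chart U hU)).obj (GrTwist.twist (𝒮.deg U hU) 1))
  (hO1 : RelProj.IsRelTwist 𝒮 p chart 1 O1 lam)
  (L : X.Modules) (hL : PicF.IsInvertible L) (i : X ⟶ P)
  (ψ : E ⟶ (Scheme.Modules.pushforward q).obj L)
  (hF : IsFramed p chart E j hj O1 lam hO1 q L i (fun U _ e => ψ.app U e))
  (E' : Y.Modules) (L' : X.Modules) (hL' : PicF.IsInvertible L')
  (ψ' : E' ⟶ (Scheme.Modules.pushforward q).obj L')
  (hE'' : Coh.IsQCoh (CohB1.tensorMod E E')) (𝒯 : RelProj.QCGrAlg Y)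
  (k : CohB1.tensorMod E E' ⟶ 𝒯.toModule) (hk : RelProj.IsGrSymAlg (CohB1.tensorMod E E') 𝒯 k) (pQ : Q ⟶ Y)
  (chartQ : ∀ (U : Y.Opens) (hU : IsAffineOpen U), ((pQ ⁻¹ᵁ U : Q.Opens) : Scheme.{u}) ≅ Proj (𝒯.deg U hU))
  (hQ : RelProj.IsRelProj 𝒯 pQ chartQ) (O1Q : Q.Modules)
  (lamQ : ∀ (U : Y.Opens) (hU : IsAffineOpen U),
    O1Q ⟶ (Scheme.Modules.pushforward (RelProj.emb pQ chartQ U hU)).obj (GrTwist.twist (𝒯.deg U hU) 1))
  (hO1Q : RelProj.IsRelTwist 𝒯 pQ chartQ 1 O1Q lamQ)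
  (r : X ⟶ Q)
  (hF'' : IsFramed pQ chartQ (CohB1.tensorMod E E') k hk O1Q lamQ hO1Q q (CohB1.tensorMod L L') r
    (fun U _ x => (tensorMap q ψ ψ').app U x))

include hE hP hL hL' hF hF'' in
/-- `r⁻¹ D₊(e ⊗ e') ⊆ i⁻¹ D₊(e)` -/
theorem preimage_VF_tensor_le (U : Y.Opens) (hU : IsAffineOpen U) (e : Γ(E, U)) (e' : Γ(E', U)) :
    r ⁻¹ᵁ VF pQ chartQ (idxOf (CohB1.tensorMod E E') k hk U hU (tm E E' U e e')) ≤
      i ⁻¹ᵁ VF p chart (idxOf E j hj U hU e) := by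
  intro x hx
  have hWU := hF''.preimage_VF_le' (idxOf (CohB1.tensorMod E E') k hk U hU (tm E E' U e e'))
  have g1 := hF''.gen U hU (tm E E' U e e') hWU
  simp only at g1
  rw [tensorMap_tm, res_tm] at g1
  have g2 := isGen_left_of_isGen_tm L L' hL hL' _ _ _ g1
  exact hF.mem_VF_of_isGen hE hP U hU e x _ hx hWU g2

include hE hP hQ hF hF'' in
/-- the functions on `D₊(e)` pulled back along `i` are pulled back along `r` from `D₊(e ⊗ e')` -/
theorem appLE_chartFun_tensor (U : Y.Opens) (hU : IsAffineOpen U) (e : Γ(E, U)) (e' : Γ(E', U))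
    (Φ : 𝒮.deg U hU →+*ᵍ 𝒯.deg U hU)
    (hΦs : ∀ s : Γ(Y, U), Φ ((𝒮.str.app (op U)).hom s) = (𝒯.str.app (op U)).hom s)
    (hΦj : ∀ m : Γ(E, U), Φ ((j.app U) m : 𝒮.presheaf.obj (op U)) =
      ((k.app U) (tm E E' U m e') : 𝒯.presheaf.obj (op U)))
    (hWP : r ⁻¹ᵁ VF pQ chartQ (idxOf (CohB1.tensorMod E E') k hk U hU (tm E E' U e e')) ≤
      i ⁻¹ᵁ VF p chart (idxOf E j hj U hU e))
    (z : Away (A := 𝒮.presheaf.obj (op U)) (𝒮.deg U hU) ((j.app U) e)) :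
    r.appLE (VF pQ chartQ (idxOf (CohB1.tensorMod E E') k hk U hU (tm E E' U e e'))) _ le_rfl
        (chartFun pQ chartQ (idxOf (CohB1.tensorMod E E') k hk U hU (tm E E' U e e'))
          (awayMapTo (A := 𝒮.presheaf.obj (op U)) (B := 𝒯.presheaf.obj (op U)) Φ (hΦj e) z)) =
      i.appLE (VF p chart (idxOf E j hj U hU e)) _ hWP (chartFun p chart (idxOf E j hj U hU e) z) := by
  set iP := idxOf E j hj U hU e with hiP
  set iQ := idxOf (CohB1.tensorMod E E') k hk U hU (tm E E' U e e') with hiQ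
  have hWU : r ⁻¹ᵁ VF pQ chartQ iQ ≤ q ⁻¹ᵁ U := hF''.preimage_VF_le' iQ
  have hDU : VF pQ chartQ iQ ≤ pQ ⁻¹ᵁ U := VF_le pQ chartQ iQ
  have hDPU : VF p chart iP ≤ p ⁻¹ᵁ U := VF_le p chart iP
  have gW := hF''.gen U hU (tm E E' U e e') hWU
  have hρ : (r.appLE (VF pQ chartQ iQ) (r ⁻¹ᵁ VF pQ chartQ iQ) le_rfl).hom.comp
        ((chartFun pQ chartQ iQ).comp (awayMapTo (A := 𝒮.presheaf.obj (op U)) (B := 𝒯.presheaf.obj (op U)) Φ (hΦj e))) =
      (i.appLE (VF p chart iP) (r ⁻¹ᵁ VF pQ chartQ iQ) hWP).hom.comp (chartFun p chart iP) := by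
    refine (away_ringHom_ext (A := 𝒮.presheaf.obj (op U)) (𝒮.deg U hU)
      (f := ((j.app U) e : 𝒮.presheaf.obj (op U)))
      (show ((j.app U) e : 𝒮.presheaf.obj (op U)) ∈ 𝒮.deg U hU 1 from hj.2 U hU e)
      (Set.range (𝒮.str.app (op U)).hom)
      (by rintro _ ⟨s, rfl⟩; exact 𝒮.str_mem U hU s)
      (Set.range (fun m : Γ(E, U) => ((j.app U) m : 𝒮.presheaf.obj (op U))))
      (by rintro _ ⟨m, rfl⟩; exact hj.2 U hU m)
      (closure_str_j_eq_top E hE 𝒮 j hj U hU)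
      ((r.appLE (VF pQ chartQ iQ) (r ⁻¹ᵁ VF pQ chartQ iQ) le_rfl).hom.comp
        ((chartFun pQ chartQ iQ).comp
          (awayMapTo (A := 𝒮.presheaf.obj (op U)) (B := 𝒯.presheaf.obj (op U)) Φ (hΦj e))))
      ((i.appLE (VF p chart iP) (r ⁻¹ᵁ VF pQ chartQ iQ) hWP).hom.comp (chartFun p chart iP)) ?_ ?_ :)
    · rintro _ ⟨s, rfl⟩
      change r.appLE _ _ le_rfl (chartFun pQ chartQ iQ (awayMapTo (A := 𝒮.presheaf.obj (op U)) (B := 𝒯.presheaf.obj (op U)) Φ (hΦj e) _)) =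
        i.appLE _ _ hWP (chartFun p chart iP _)
      rw [awayMapTo_amk (A := 𝒮.presheaf.obj (op U)) (B := 𝒯.presheaf.obj (op U)) Φ (hj.2 U hU e) (hk.2 U hU (tm E E' U e e')) (hΦj e)]
      have h3 : chartFun p chart iP
          (amk (𝒮.deg U hU) (hj.2 U hU e) 0 ((𝒮.str.app (op U)).hom s) (𝒮.str_mem U hU s)) =
          p.appLE U (VF p chart iP) hDPU s := chartFun_str p chart hP iP s
      have h4 : chartFun pQ chartQ iQ
          (amk (𝒯.deg U hU) (hk.2 U hU (tm E E' U e e')) 0 ((𝒯.str.app (op U)).hom s) (𝒯.str_mem U hU s)) =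
          pQ.appLE U (VF pQ chartQ iQ) hDU s := chartFun_str pQ chartQ hQ iQ s
      rw [amk_congr (A := 𝒯.presheaf.obj (op U)) (𝒯.deg U hU) (hk.2 U hU (tm E E' U e e')) 0 _ (𝒯.str_mem U hU s) (hΦs s)]
      refine (congrArg _ h4).trans (Eq.trans ?_ (congrArg _ h3).symm)
      exact (appLE_appLE_of_comp hF''.comp U _ _ hDU le_rfl hWU s).trans
        (appLE_appLE_of_comp hF.comp U _ _ hDPU hWP hWU s).symm
    · rintro _ ⟨m, rfl⟩
      change r.appLE _ _ le_rfl (chartFun pQ chartQ iQ (awayMapTo (A := 𝒮.presheaf.obj (op U)) (B := 𝒯.presheaf.obj (op U)) Φ (hΦj e) _)) =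
        i.appLE _ _ hWP (chartFun p chart iP _)
      rw [awayMapTo_amk (A := 𝒮.presheaf.obj (op U)) (B := 𝒯.presheaf.obj (op U)) Φ (hj.2 U hU e) (hk.2 U hU (tm E E' U e e')) (hΦj e),
        amk_congr (A := 𝒯.presheaf.obj (op U)) (𝒯.deg U hU) (hk.2 U hU (tm E E' U e e')) 1 _ (hk.2 U hU (tm E E' U m e')) (hΦj m)]
      have hσQ : res O1Q hDU (sig pQ chartQ (CohB1.tensorMod E E') k hk O1Q lamQ hO1Q U hU (tm E E' U m e')) =
          chartFun pQ chartQ iQ (amk (𝒯.deg U hU) iQ.2.2 1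
              ((k.app U) (tm E E' U m e') : 𝒯.presheaf.obj (op U)) (hk.2 U hU (tm E E' U m e'))) •
            res O1Q hDU (sig pQ chartQ (CohB1.tensorMod E E') k hk O1Q lamQ hO1Q U hU (tm E E' U e e')) := by
        unfold sig
        rw [res_canonSec_le, res_canonSec_le]
        exact canonSec_eq_chartFun_smul pQ chartQ O1Q lamQ hO1Q iQ (hk.2 U hU (tm E E' U m e'))
      have hσP : res O1 hDPU (sig p chart E j hj O1 lam hO1 U hU m) =
          chartFun p chart iP (amk (𝒮.deg U hU) iP.2.2 1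
              ((j.app U) m : 𝒮.presheaf.obj (op U)) (hj.2 U hU m)) •
            res O1 hDPU (sig p chart E j hj O1 lam hO1 U hU e) := by
        unfold sig
        rw [res_canonSec_le, res_canonSec_le]
        exact canonSec_eq_chartFun_smul p chart O1 lam hO1 iP (hj.2 U hU m)
      have t1 := hF''.trans U hU (tm E E' U m e') U hU (tm E E' U e e') _ hDU hDU _ hσQ _ le_rfl hWU hWU
      have t2 := hF.trans U hU m U hU e _ hDPU hDPU _ hσP _ hWP hWU hWU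
      simp only at t1 t2
      rw [tensorMap_tm, tensorMap_tm, res_tm, res_tm, t2, tm_smul_left] at t1
      apply (gW _ le_rfl).1
      simp only
      rw [res_self, tensorMap_tm, res_tm]
      exact t1.symm
  exact DFunLike.congr_fun hρ z

include hE hE'' hP hQ hL hL' hF hF'' in
/-- **the restriction of `r` over `D₊(e ⊗ e')` is an immersion when `i` is** -/
theorem isImmersion_restrict_tensor [IsImmersion i] (U : Y.Opens) (hU : IsAffineOpen U) (e : Γ(E, U))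
    (e' : Γ(E', U)) :
    IsImmersion (r ∣_ VF pQ chartQ (idxOf (CohB1.tensorMod E E') k hk U hU (tm E E' U e e'))) := by
  haveI : E.IsQuasicoherent := hE
  haveI : (CohB1.tensorMod E E').IsQuasicoherent := hE''
  let ℓ : Γ(E, U) →+ Γ(CohB1.tensorMod E E', U) :=
    AddMonoidHom.mk' (fun m => tm E E' U m e') (fun a b => tm_add_left E E' U a b e')
  obtain ⟨Φ, hΦs, hΦj⟩ := exists_gradedHom_of_linear E hj (CohB1.tensorMod E E') hk U hU ℓ
    (fun a m => tm_smul_left E E' U a m e')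
  have hΦj' : ∀ m : Γ(E, U), Φ ((j.app U) m : 𝒮.presheaf.obj (op U)) =
      ((k.app U) (tm E E' U m e') : 𝒯.presheaf.obj (op U)) := hΦj
  have hWP := preimage_VF_tensor_le q E hE 𝒮 j hj p chart hP O1 lam hO1 L hL i ψ hF E' L' hL' ψ' 𝒯 k hk pQ chartQ
    O1Q lamQ hO1Q r hF'' U hU e e'
  set iP := idxOf E j hj U hU e with hiP
  set iQ := idxOf (CohB1.tensorMod E E') k hk U hU (tm E E' U e e') with hiQ
  have hD : IsAffineOpen (VF pQ chartQ iQ) := isAffineOpen_VF iQ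
  have hDP : IsAffineOpen (VF p chart iP) := isAffineOpen_VF iP
  let eχ : Away (A := 𝒮.presheaf.obj (op U)) (𝒮.deg U hU) ((j.app U) e) ≃+* Γ(P, VF p chart iP) :=
    RingEquiv.ofBijective (chartFun p chart iP) (chartFun_bijective p chart iP)
  let θ : Γ(P, VF p chart iP) ⟶ Γ(Q, VF pQ chartQ iQ) :=
    CommRingCat.ofHom (((chartFun pQ chartQ iQ).comp
      (awayMapTo (A := 𝒮.presheaf.obj (op U)) (B := 𝒯.presheaf.obj (op U)) Φ (hΦj' e))).comp
        eχ.symm.toRingHom)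
  have hθ : θ ≫ r.appLE (VF pQ chartQ iQ) (r ⁻¹ᵁ VF pQ chartQ iQ) le_rfl =
      i.appLE (VF p chart iP) (r ⁻¹ᵁ VF pQ chartQ iQ) hWP := by
    ext c
    obtain ⟨z, rfl⟩ := chartFun_surjective p chart iP c
    have hz : eχ.symm (chartFun p chart iP z) = z := eχ.symm_apply_apply z
    change r.appLE _ _ le_rfl (chartFun pQ chartQ iQ
      (awayMapTo (A := 𝒮.presheaf.obj (op U)) (B := 𝒯.presheaf.obj (op U)) Φ (hΦj' e)
        (eχ.symm (chartFun p chart iP z)))) = _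
    rw [hz]
    exact appLE_chartFun_tensor q E hE 𝒮 j hj p chart hP O1 lam hO1 L i ψ hF E' L' ψ' 𝒯 k hk pQ chartQ hQ
      O1Q lamQ hO1Q r hF'' U hU e e' Φ hΦs hΦj' hWP z
  have hcomp := resLE_comp_of_appLE r i (VF pQ chartQ iQ) (VF p chart iP) hD hDP (r ⁻¹ᵁ VF pQ chartQ iQ)
    le_rfl hWP θ hθ
  have h1 : IsImmersion (r.resLE (VF pQ chartQ iQ) (r ⁻¹ᵁ VF pQ chartQ iQ) le_rfl ≫
      (hD.isoSpec.hom ≫ Spec.map θ ≫ hDP.isoSpec.inv)) := by
    rw [hcomp]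
    infer_instance
  have h2 : IsImmersion (r.resLE (VF pQ chartQ iQ) (r ⁻¹ᵁ VF pQ chartQ iQ) le_rfl) :=
    @IsImmersion.of_comp _ _ _ _ (hD.isoSpec.hom ≫ Spec.map θ ≫ hDP.isoSpec.inv) h1
  rw [Scheme.Hom.resLE_eq_morphismRestrict] at h2
  exact h2

end Groth.Agent.Lib.T2H4.RLBridge
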