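import Mathlib
import Groth.Prelude.Def_RelProj4
import Groth.Agent.Lib.T2H4RLBridgeT
import Groth.Agent.Lib.T2H4RLBridgeR
import Groth.Agent.Lib.Helper23TensorQCoh
set_option backward.isDefEq.respectTransparency.types false

/-!
# The tensor product of a very ample module with a module generated by a pull-back is very ample (EGA II 4.4.8)
(helper4)

`isRelVeryAmple_tensor_of_frames` : if `i : X ⟶ P(E)` is an immersion framed by `ψ : E ⟶ q_* L` and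
`ψ' : E' ⟶ q_* L'` has local frames, then `L ⊗ L'` is very ample relative to `q` (via the morphism into `P(E ⊗ E')`
attached to `ψ ⊗ ψ'`).
-/

set_option autoImplicit false
set_option linter.style.haveILetI false
set_option linter.unusedSectionVars false
set_option linter.unusedVariables false
universe u
open CategoryTheory AlgebraicGeometry TopologicalSpace Opposite
open scoped HomogeneousIdeal

namespace Groth.Agent.Lib.T2H4.RLBridge

open Groth.Agent.Lib.Helper6 Groth.Agent.Lib.Helper23.SecTw Groth.Agent.Lib.T2H4.GrSym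
  Groth.Agent.Lib.Helper2.RelTwistTensor Groth.Agent.Lib.Helper23.PB Groth.Agent.Lib.Helper2.RelTildeQCoh

variable {X Y P : Scheme.{u}} (q : X ⟶ Y)
  (E : Y.Modules) (hE : Coh.IsQCoh E) (𝒮 : RelProj.QCGrAlg Y) (j : E ⟶ 𝒮.toModule)
  (hj : RelProj.IsGrSymAlg E 𝒮 j) (p : P ⟶ Y)
  (chart : ∀ (U : Y.Opens) (hU : IsAffineOpen U), ((p ⁻¹ᵁ U : P.Opens) : Scheme.{u}) ≅ Proj (𝒮.deg U hU))
  (hP : RelProj.IsRelProj 𝒮 p chart) (O1 : P.Modules)
  (lam : ∀ (U : Y.Opens) (hU : IsAffineOpen U),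
    O1 ⟶ (Scheme.Modules.pushforward (RelProj.emb p chart U hU)).obj (GrTwist.twist (𝒮.deg U hU) 1))
  (hO1 : RelProj.IsRelTwist 𝒮 p chart 1 O1 lam)
  (L : X.Modules) (hL : PicF.IsInvertible L) (i : X ⟶ P)
  (ψ : E ⟶ (Scheme.Modules.pushforward q).obj L)
  (hF : IsFramed p chart E j hj O1 lam hO1 q L i (fun U _ e => ψ.app U e))
  (E' : Y.Modules) (hE' : Coh.IsQCoh E') (L' : X.Modules) (hL' : PicF.IsInvertible L')
  (ψ' : E' ⟶ (Scheme.Modules.pushforward q).obj L')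

include hE hE' hP hL hL' hF in
/-- **EGA II 4.4.8 in framed form** -/
theorem isRelVeryAmple_tensor_of_frames [IsImmersion i]
    (hfr' : ∀ x : X, ∃ (U : Y.Opens) (hU : IsAffineOpen U) (e' : Γ(E', U)) (V : X.Opens) (hV : IsAffineOpen V)
      (hVU : V ≤ q ⁻¹ᵁ U), x ∈ V ∧ IsGen L' V (res L' hVU (ψ'.app U e'))) :
    RelProj.IsRelVeryAmple q (CohB1.tensorMod L L') := by
  haveI : E.IsQuasicoherent := hE
  haveI : E'.IsQuasicoherent := hE'
  have hE'' : Coh.IsQCoh (CohB1.tensorMod E E') :=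
    Groth.Agent.Lib.Helper23.TensorQCoh.isQuasicoherent_tensorMod E E'
  obtain ⟨𝒯, k, hk, Q, pQ, chartQ, hQ, O1Q, lamQ, hO1Q⟩ := exists_projBundle (CohB1.tensorMod E E') hE''
  have hL'' : PicF.IsInvertible (CohB1.tensorMod L L') := isInvertible_tensorMod hL hL'
  -- local frames of the tensor product
  have hfr3 : ∀ x : X, ∃ (U : Y.Opens) (hU : IsAffineOpen U) (e : Γ(E, U)) (e' : Γ(E', U)) (V : X.Opens)
      (hV : IsAffineOpen V) (hVU : V ≤ q ⁻¹ᵁ U), x ∈ V ∧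
      IsGen (CohB1.tensorMod L L') V
        (res (CohB1.tensorMod L L') hVU ((tensorMap q ψ ψ').app U (tm E E' U e e'))) := by
    intro x
    obtain ⟨U₁, hxU₁⟩ := exists_affine_mem_preimage p (i x)
    obtain ⟨y, hy⟩ := le_opensRange_emb p chart U₁.1 U₁.2 hxU₁
    obtain ⟨e₁, he₁⟩ := Groth.Agent.Lib.T2H4.ProjBundle.exists_not_mem_of_isGrSymAlg E hE 𝒮 j hj U₁.1 U₁.2 y
    have hx₁ : x ∈ i ⁻¹ᵁ VF p chart (idxOf E j hj U₁.1 U₁.2 e₁) :=
      ⟨y, (ProjectiveSpectrum.mem_basicOpen _ _ y).mpr he₁, hy⟩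
    have hle₁ := hF.preimage_VF_le' (idxOf E j hj U₁.1 U₁.2 e₁)
    have g₁ := hF.gen U₁.1 U₁.2 e₁ hle₁
    obtain ⟨U₂, hU₂, e₂, V₂, hV₂, hVU₂, hxV₂, g₂⟩ := hfr' x
    have hqx : q x ∈ U₁.1 ⊓ U₂ := ⟨hle₁ hx₁, hVU₂ hxV₂⟩
    obtain ⟨U, hU, hqxU, hUle⟩ := exists_isAffineOpen_mem_and_subset (X := Y) (x := q x)
      (U := U₁.1 ⊓ U₂) hqx
    have hU1 : U ≤ U₁.1 := fun z hz => (hUle hz).1
    have hU2 : U ≤ U₂ := fun z hz => (hUle hz).2
    obtain ⟨V, hV, hxV, hVle⟩ := exists_isAffineOpen_mem_and_subset (X := X) (x := x)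
      (U := (i ⁻¹ᵁ VF p chart (idxOf E j hj U₁.1 U₁.2 e₁) ⊓ V₂) ⊓ q ⁻¹ᵁ U) ⟨⟨hx₁, hxV₂⟩, hqxU⟩
    have hV1 : V ≤ i ⁻¹ᵁ VF p chart (idxOf E j hj U₁.1 U₁.2 e₁) := fun z hz => (hVle hz).1.1
    have hV2 : V ≤ V₂ := fun z hz => (hVle hz).1.2
    have hVU : V ≤ q ⁻¹ᵁ U := fun z hz => (hVle hz).2
    refine ⟨U, hU, res E hU1 e₁, res E' hU2 e₂, V, hV, hVU, hxV, ?_⟩
    rw [tensorMap_tm, res_tm]
    refine isGen_tm L L' V _ _ ?_ ?_
    · have h1 := Groth.Agent.Lib.Helper2.ModExact.app_map ψ (homOfLE hU1) e₁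
      have h2 : ψ.app U (res E hU1 e₁) = res L (q.preimage_mono hU1) (ψ.app U₁.1 e₁) := h1
      rw [h2, res_res]
      have := g₁.mono hV1
      simp only at this
      rwa [res_res] at this
    · have h1 := Groth.Agent.Lib.Helper2.ModExact.app_map ψ' (homOfLE hU2) e₂
      have h2 : ψ'.app U (res E' hU2 e₂) = res L' (q.preimage_mono hU2) (ψ'.app U₂ e₂) := h1
      rw [h2, res_res]
      have := g₂.mono hV2
      rwa [res_res] at this
  obtain ⟨r, hF''⟩ := exists_isFramed_of_frames (CohB1.tensorMod E E') hE'' 𝒯 k hk pQ chartQ hQ O1Q lamQ hO1Q q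
    (CohB1.tensorMod L L') hL'' (tensorMap q ψ ψ') (fun x => by
      obtain ⟨U, hU, e, e', V, hV, hVU, hxV, hgen⟩ := hfr3 x
      exact ⟨U, hU, tm E E' U e e', V, hV, hVU, hxV, hgen⟩)
  obtain ⟨τ, -⟩ := hF''.exists_iso hE'' hQ
  have himm : IsImmersion r := by
    refine isImmersion_of_forall_restrict r
      (fun a : Σ U : Y.affineOpens, Γ(E, U.1) × Γ(E', U.1) =>
        VF pQ chartQ (idxOf (CohB1.tensorMod E E') k hk a.1.1 a.1.2 (tm E E' a.1.1 a.2.1 a.2.2))) ?_ ?_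
    · intro x
      obtain ⟨U, hU, e, e', V, hV, hVU, hxV, hgen⟩ := hfr3 x
      exact ⟨⟨⟨U, hU⟩, (e, e')⟩, hF''.mem_VF_of_isGen hE'' hQ U hU (tm E E' U e e') x V hxV hVU hgen⟩
    · intro a
      exact isImmersion_restrict_tensor q E hE 𝒮 j hj p chart hP O1 lam hO1 L hL i ψ hF E' L' hL' ψ' hE'' 𝒯 k hk
        pQ chartQ hQ O1Q lamQ hO1Q r hF'' a.1.1 a.1.2 a.2.1 a.2.2
  exact ⟨CohB1.tensorMod E E', hE'', 𝒯, k, hk, Q, pQ, chartQ, hQ, O1Q, lamQ, hO1Q, r, himm, hF''.comp, ⟨τ.symm⟩⟩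

end Groth.Agent.Lib.T2H4.RLBridge
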