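import Mathlib
import Groth.Prelude.Def_RelProj4
import Groth.Agent.Lib.T2H4RLBridgeU
import Groth.Agent.Lib.T2H4RLBridgeE
import Groth.Agent.Lib.T2H4RLBridgeI
import Groth.Agent.Lib.T2H5GlueInvD
import Groth.Agent.Lib.Helper23TensorUnit
set_option backward.isDefEq.respectTransparency.types false

/-!
# Tensor products of very ample modules (EGA II 4.4.8, 4.4.9) (helper4)

* `exists_framed_of_isRelVeryAmple` : a very ample module comes with an immersion into some `P(E)` framed by a module map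
  `ψ : E ⟶ q_* L`;
* `isRelVeryAmple_tensor_of_epi` : `L` very ample, `q^* E' ↠ L'` ⟹ `L ⊗ L'` very ample;
* `isRelVeryAmple_tensor` : `L`, `L'` very ample ⟹ `L ⊗ L'` very ample;
* `isRelVeryAmple_of_iso`, `isRelVeryAmple_tensorPow`.
-/

set_option autoImplicit false
set_option linter.style.haveILetI false
set_option linter.unusedSectionVars false
set_option linter.unusedVariables false
universe u
open CategoryTheory AlgebraicGeometry TopologicalSpace Opposite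
open scoped HomogeneousIdeal

namespace Groth.Agent.Lib.T2H4.RLBridge

open Groth.Agent.Lib.Helper6 Groth.Agent.Lib.Helper23.SecTw Groth.Agent.Lib.T2H4.GrSym
  Groth.Agent.Lib.Helper2.RelTwistTensor Groth.Agent.Lib.Helper23.PB Groth.Agent.Lib.Helper2.RelTildeQCoh
  Groth.Agent.Helper13PullbackUnit

variable {X Y : Scheme.{u}} (q : X ⟶ Y)

/-- a very ample module comes with an immersion into some `P(E)` framed by a module map `E ⟶ q_* L` -/
theorem exists_framed_of_isRelVeryAmple (L : X.Modules) (h : RelProj.IsRelVeryAmple q L) :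
    ∃ (E : Y.Modules) (hE : Coh.IsQCoh E) (𝒮 : RelProj.QCGrAlg Y) (j : E ⟶ 𝒮.toModule)
      (hj : RelProj.IsGrSymAlg E 𝒮 j) (P : Scheme.{u}) (p : P ⟶ Y)
      (chart : ∀ (U : Y.Opens) (hU : IsAffineOpen U), ((p ⁻¹ᵁ U : P.Opens) : Scheme.{u}) ≅ Proj (𝒮.deg U hU))
      (hP : RelProj.IsRelProj 𝒮 p chart) (O1 : P.Modules)
      (lam : ∀ (U : Y.Opens) (hU : IsAffineOpen U),
        O1 ⟶ (Scheme.Modules.pushforward (RelProj.emb p chart U hU)).obj (GrTwist.twist (𝒮.deg U hU) 1))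
      (hO1 : RelProj.IsRelTwist 𝒮 p chart 1 O1 lam) (i : X ⟶ P) (_ : IsImmersion i)
      (ψ : E ⟶ (Scheme.Modules.pushforward q).obj L),
      IsFramed p chart E j hj O1 lam hO1 q L i (fun U _ e => ψ.app U e) := by
  obtain ⟨E, hE, 𝒮, j, hj, P, p, chart, hP, O1, lam, hO1, i, himm, hi, ⟨τ⟩⟩ := h
  subst hi
  haveI : E.IsQuasicoherent := hE
  obtain ⟨φ', hφ'⟩ := exists_canonMap p chart E j hj.2 O1 lam hO1 hP
  obtain ⟨a, ha0⟩ : ∃ a : O1 ⟶ (Scheme.Modules.pushforward i).obj L,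
      a = ((Scheme.Modules.pullbackPushforwardAdjunction i).homEquiv O1 L) τ.inv := ⟨_, rfl⟩
  have ha : ∀ (V : P.Opens) (m : Γ(O1, V)),
      τ.inv.app (i ⁻¹ᵁ V) (unitSec i O1 le_rfl m) = a.app V m := by
    intro V m
    have h1 := Groth.Agent.Lib.T2H5.GlueInv.adj_app_unitSec i O1 L a V m
    rw [ha0, Equiv.symm_apply_apply] at h1
    rw [ha0]
    exact h1
  obtain ⟨sb, hsb0⟩ : ∃ sb : E ⟶ (Scheme.Modules.pushforward (i ≫ p)).obj L,
      sb = φ' ≫ (Scheme.Modules.pushforward p).map a ≫ (Scheme.Modules.pushforwardComp i p).hom.app L :=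
    ⟨_, rfl⟩
  have hsb : ∀ (U : Y.Opens) (e : Γ(E, U)),
      (show Γ(L, (i ≫ p) ⁻¹ᵁ U) from sb.app U e) = a.app (p ⁻¹ᵁ U) (φ'.app U e) := by
    intro U e
    rw [hsb0]
    rfl
  refine ⟨E, hE, 𝒮, j, hj, P, p, chart, hP, O1, lam, hO1, i, himm, sb, ?_⟩
  refine isFramed_of_iso p chart E j hj O1 lam hO1 (i ≫ p) L i rfl τ.symm _ ?_
  intro U hU e W hW hW'
  have h2 : sb.app U e = τ.inv.app (i ⁻¹ᵁ (p ⁻¹ᵁ U))
      (unitSec i O1 le_rfl (sig p chart E j hj O1 lam hO1 U hU e)) := by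
    rw [ha]
    refine (hsb U e).trans ?_
    rw [hφ' U hU e]
  simp only
  rw [h2]
  have h3 := Groth.Agent.Lib.Helper2.ModExact.app_map τ.inv (homOfLE hW)
    (unitSec i O1 le_rfl (sig p chart E j hj O1 lam hO1 U hU e))
  refine Eq.trans ?_ h3
  change τ.inv.app W _ = τ.inv.app W _
  congr 1
  have h4 := res_unitSec i O1 (le_refl (i ⁻¹ᵁ (p ⁻¹ᵁ U))) hW le_rfl hW (sig p chart E j hj O1 lam hO1 U hU e)
  rw [res_self] at h4
  exact h4.symm

variable {P : Scheme.{u}} {E : Y.Modules} {𝒮 : RelProj.QCGrAlg Y} {j : E ⟶ 𝒮.toModule}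
  {hj : RelProj.IsGrSymAlg E 𝒮 j} {p : P ⟶ Y}
  {chart : ∀ (U : Y.Opens) (hU : IsAffineOpen U), ((p ⁻¹ᵁ U : P.Opens) : Scheme.{u}) ≅ Proj (𝒮.deg U hU)}
  {O1 : P.Modules}
  {lam : ∀ (U : Y.Opens) (hU : IsAffineOpen U),
    O1 ⟶ (Scheme.Modules.pushforward (RelProj.emb p chart U hU)).obj (GrTwist.twist (𝒮.deg U hU) 1)}
  {hO1 : RelProj.IsRelTwist 𝒮 p chart 1 O1 lam}
  {L : X.Modules} {i : X ⟶ P}
  {t : ∀ (U : Y.Opens) (hU : IsAffineOpen U) (e : Γ(E, U)), Γ(L, q ⁻¹ᵁ U)}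

/-- the local frames of a framed morphism -/
theorem IsFramed.frames (hE : Coh.IsQCoh E) (hF : IsFramed p chart E j hj O1 lam hO1 q L i t) (x : X) :
    ∃ (U : Y.Opens) (hU : IsAffineOpen U) (e : Γ(E, U)) (V : X.Opens) (hV : IsAffineOpen V)
      (hVU : V ≤ q ⁻¹ᵁ U), x ∈ V ∧ IsGen L V (res L hVU (t U hU e)) := by
  obtain ⟨U, hxU⟩ := exists_affine_mem_preimage p (i x)
  obtain ⟨y, hy⟩ := le_opensRange_emb p chart U.1 U.2 hxU
  obtain ⟨e, he⟩ := Groth.Agent.Lib.T2H4.ProjBundle.exists_not_mem_of_isGrSymAlg E hE 𝒮 j hj U.1 U.2 y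
  have hx : x ∈ i ⁻¹ᵁ VF p chart (idxOf E j hj U.1 U.2 e) :=
    ⟨y, (ProjectiveSpectrum.mem_basicOpen _ _ y).mpr he, hy⟩
  have hle := hF.preimage_VF_le' (idxOf E j hj U.1 U.2 e)
  obtain ⟨V, hVaff, hxV, hVle⟩ := exists_isAffineOpen_mem_and_subset (X := X) (x := x)
    (U := i ⁻¹ᵁ VF p chart (idxOf E j hj U.1 U.2 e)) hx
  refine ⟨U.1, U.2, e, V, hVaff, (show V ≤ _ from hVle).trans hle, hxV, ?_⟩
  have := (hF.gen U.1 U.2 e hle).mono (show V ≤ _ from hVle)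
  rwa [res_res] at this

end Groth.Agent.Lib.T2H4.RLBridge

namespace Groth.Agent.Lib.T2H4.RLBridge

open Groth.Agent.Lib.Helper6 Groth.Agent.Lib.Helper23.SecTw Groth.Agent.Lib.Helper23.PB
  Groth.Agent.Helper13PullbackUnit

variable {X Y : Scheme.{u}} (q : X ⟶ Y)

/-- very ampleness is invariant under isomorphism -/
theorem isRelVeryAmple_of_iso {L L₁ : X.Modules} (e : L ≅ L₁) (h : RelProj.IsRelVeryAmple q L) :
    RelProj.IsRelVeryAmple q L₁ := by
  obtain ⟨E, hE, 𝒮, j, hj, P, p, chart, hP, O1, lam, hO1, i, himm, hi, ⟨τ⟩⟩ := h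
  exact ⟨E, hE, 𝒮, j, hj, P, p, chart, hP, O1, lam, hO1, i, himm, hi, ⟨e.symm ≪≫ τ⟩⟩

/-- **EGA II 4.4.8** -/
theorem isRelVeryAmple_tensor_of_epi (L L' : X.Modules) (hL : PicF.IsInvertible L)
    (hva : RelProj.IsRelVeryAmple q L) (hL' : PicF.IsInvertible L') (E' : Y.Modules) (hE' : Coh.IsQCoh E')
    (φ : (Scheme.Modules.pullback q).obj E' ⟶ L') [Epi φ] :
    RelProj.IsRelVeryAmple q (CohB1.tensorMod L L') := by
  obtain ⟨E, hE, 𝒮, j, hj, P, p, chart, hP, O1, lam, hO1, i, himm, ψ, hF⟩ :=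
    exists_framed_of_isRelVeryAmple q L hva
  haveI : E'.IsQuasicoherent := hE'
  refine isRelVeryAmple_tensor_of_frames q E hE 𝒮 j hj p chart hP O1 lam hO1 L hL i ψ hF E' hE' L' hL'
    (((Scheme.Modules.pullbackPushforwardAdjunction q).homEquiv E' L') φ) (fun x => ?_)
  obtain ⟨U, hU, e', V, hV, hVU, hxV, hgen⟩ := exists_frame_of_epi q E' L' φ hL' x
  refine ⟨U, hU, e', V, hV, hVU, hxV, ?_⟩
  rw [← tOf_eq_homEquiv, res_tOf]
  exact hgen

/-- **EGA II 4.4.9 (i)** -/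
theorem isRelVeryAmple_tensor (L L' : X.Modules) (hL : PicF.IsInvertible L) (hL' : PicF.IsInvertible L')
    (hva : RelProj.IsRelVeryAmple q L) (hva' : RelProj.IsRelVeryAmple q L') :
    RelProj.IsRelVeryAmple q (CohB1.tensorMod L L') := by
  obtain ⟨E, hE, 𝒮, j, hj, P, p, chart, hP, O1, lam, hO1, i, himm, ψ, hF⟩ :=
    exists_framed_of_isRelVeryAmple q L hva
  obtain ⟨E', hE', 𝒮', j', hj', P', p', chart', hP', O1', lam', hO1', i', himm', ψ', hF'⟩ :=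
    exists_framed_of_isRelVeryAmple q L' hva'
  exact isRelVeryAmple_tensor_of_frames q E hE 𝒮 j hj p chart hP O1 lam hO1 L hL i ψ hF E' hE' L' hL' ψ'
    (fun x => hF'.frames q hE' x)

/-- **EGA II 4.4.9 (ii)** -/
theorem isRelVeryAmple_tensorPow (L : X.Modules) (hL : PicF.IsInvertible L)
    (hva : RelProj.IsRelVeryAmple q L) (n : ℕ) (hn : 0 < n) :
    RelProj.IsRelVeryAmple q (CohB1.tensorPow L n) := by
  obtain ⟨m, rfl⟩ : ∃ m, n = m + 1 := ⟨n - 1, by omega⟩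
  clear hn
  induction m with
  | zero =>
    exact isRelVeryAmple_of_iso q (Groth.Agent.Lib.Helper23.TensorUnit.unitTensorIso L).symm hva
  | succ m ih =>
    exact isRelVeryAmple_tensor q (CohB1.tensorPow L (m + 1)) L (isInvertible_tensorPow hL (m + 1)) hL ih hva

end Groth.Agent.Lib.T2H4.RLBridge
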