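import Mathlib
import Groth.Prelude.Def_RelProj4
import Groth.Agent.Lib.T2H4RLBridgeT
set_option backward.isDefEq.respectTransparency.types false

/-!
# Comparing the morphisms into `P(E₀)` and `P(E)` attached to `κ ≫ ψ` and `ψ`, for a module map `κ : E₀ ⟶ E` (helper4)

Let `i : X ⟶ P(E)` be framed by `ψ : E ⟶ q_* L` and `r₀ : X ⟶ P(E₀)` be framed by `ψ₀ : E₀ ⟶ q_* L`, where
`ψ₀(e₀) = ψ(κ e₀)`.  Over an affine open `U` of the base and for a section `e₀` of `E₀`, the inverse images of `D₊(e₀)`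
under `r₀` and of `D₊(κ e₀)` under `i` agree (`preimage_VF_transfer_le`, `preimage_VF_transfer_ge`), and the functions on
`D₊(e₀)` pulled back along `r₀` are the functions on `D₊(κ e₀)` pulled back along `i` (`appLE_chartFun_transfer`).
-/

set_option autoImplicit false
set_option linter.style.haveILetI false
set_option linter.unusedSectionVars false
set_option linter.unusedVariables false
universe u
open CategoryTheory AlgebraicGeometry TopologicalSpace Opposite HomogeneousLocalization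
open scoped HomogeneousIdeal

namespace Groth.Agent.Lib.T2H4.RLBridge

open Groth.Agent.Lib.Helper6 Groth.Agent.Lib.Helper23.SecTw Groth.Agent.Lib.T2H4.GrSym
  Groth.Agent.Lib.Helper2.RelTwistTensor Groth.Agent.Lib.Helper23.PB

variable {X Y P P₀ : Scheme.{u}} (q : X ⟶ Y)
  (E : Y.Modules) (hE : Coh.IsQCoh E) (𝒮 : RelProj.QCGrAlg Y) (j : E ⟶ 𝒮.toModule)
  (hj : RelProj.IsGrSymAlg E 𝒮 j) (p : P ⟶ Y)
  (chart : ∀ (U : Y.Opens) (hU : IsAffineOpen U), ((p ⁻¹ᵁ U : P.Opens) : Scheme.{u}) ≅ Proj (𝒮.deg U hU))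
  (hP : RelProj.IsRelProj 𝒮 p chart) (O1 : P.Modules)
  (lam : ∀ (U : Y.Opens) (hU : IsAffineOpen U),
    O1 ⟶ (Scheme.Modules.pushforward (RelProj.emb p chart U hU)).obj (GrTwist.twist (𝒮.deg U hU) 1))
  (hO1 : RelProj.IsRelTwist 𝒮 p chart 1 O1 lam)
  (L : X.Modules) (i : X ⟶ P)
  (ψ : E ⟶ (Scheme.Modules.pushforward q).obj L)
  (hF : IsFramed p chart E j hj O1 lam hO1 q L i (fun U _ e => ψ.app U e))
  (E₀ : Y.Modules) (hE₀ : Coh.IsQCoh E₀) (𝒮₀ : RelProj.QCGrAlg Y) (j₀ : E₀ ⟶ 𝒮₀.toModule)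
  (hj₀ : RelProj.IsGrSymAlg E₀ 𝒮₀ j₀) (p₀ : P₀ ⟶ Y)
  (chart₀ : ∀ (U : Y.Opens) (hU : IsAffineOpen U), ((p₀ ⁻¹ᵁ U : P₀.Opens) : Scheme.{u}) ≅ Proj (𝒮₀.deg U hU))
  (hP₀ : RelProj.IsRelProj 𝒮₀ p₀ chart₀) (O1₀ : P₀.Modules)
  (lam₀ : ∀ (U : Y.Opens) (hU : IsAffineOpen U),
    O1₀ ⟶ (Scheme.Modules.pushforward (RelProj.emb p₀ chart₀ U hU)).obj (GrTwist.twist (𝒮₀.deg U hU) 1))
  (hO1₀ : RelProj.IsRelTwist 𝒮₀ p₀ chart₀ 1 O1₀ lam₀)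
  (r₀ : X ⟶ P₀)
  (ψ₀ : E₀ ⟶ (Scheme.Modules.pushforward q).obj L)
  (hF₀ : IsFramed p₀ chart₀ E₀ j₀ hj₀ O1₀ lam₀ hO1₀ q L r₀ (fun U _ e => ψ₀.app U e))
  (κ : E₀ ⟶ E) (hκ : ∀ (U : Y.Opens) (e₀ : Γ(E₀, U)), ψ₀.app U e₀ = ψ.app U (κ.app U e₀))

include hE hP hF hF₀ hκ in
/-- `r₀⁻¹ D₊(e₀) ⊆ i⁻¹ D₊(κ e₀)` -/
theorem preimage_VF_transfer_le (U : Y.Opens) (hU : IsAffineOpen U) (e₀ : Γ(E₀, U)) :
    r₀ ⁻¹ᵁ VF p₀ chart₀ (idxOf E₀ j₀ hj₀ U hU e₀) ≤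
      i ⁻¹ᵁ VF p chart (idxOf E j hj U hU (κ.app U e₀)) := by
  intro x hx
  have hWU := hF₀.preimage_VF_le' (idxOf E₀ j₀ hj₀ U hU e₀)
  have g1 := hF₀.gen U hU e₀ hWU
  simp only at g1
  rw [hκ U e₀] at g1
  exact hF.mem_VF_of_isGen hE hP U hU (κ.app U e₀) x _ hx hWU g1

include hE₀ hP₀ hF hF₀ hκ in
/-- `i⁻¹ D₊(κ e₀) ⊆ r₀⁻¹ D₊(e₀)` -/
theorem preimage_VF_transfer_ge (U : Y.Opens) (hU : IsAffineOpen U) (e₀ : Γ(E₀, U)) :
    i ⁻¹ᵁ VF p chart (idxOf E j hj U hU (κ.app U e₀)) ≤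
      r₀ ⁻¹ᵁ VF p₀ chart₀ (idxOf E₀ j₀ hj₀ U hU e₀) := by
  intro x hx
  have hWU := hF.preimage_VF_le' (idxOf E j hj U hU (κ.app U e₀))
  have g1 := hF.gen U hU (κ.app U e₀) hWU
  simp only at g1
  rw [← hκ U e₀] at g1
  exact hF₀.mem_VF_of_isGen hE₀ hP₀ U hU e₀ x _ hx hWU g1

include hE₀ hP hP₀ hF hF₀ hκ in
/-- the functions on `D₊(e₀)` pulled back along `r₀` are pulled back along `i` from `D₊(κ e₀)` -/
theorem appLE_chartFun_transfer (U : Y.Opens) (hU : IsAffineOpen U) (e₀ : Γ(E₀, U))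
    (Φ : 𝒮₀.deg U hU →+*ᵍ 𝒮.deg U hU)
    (hΦs : ∀ s : Γ(Y, U), Φ ((𝒮₀.str.app (op U)).hom s) = (𝒮.str.app (op U)).hom s)
    (hΦj : ∀ m : Γ(E₀, U), Φ ((j₀.app U) m : 𝒮₀.presheaf.obj (op U)) =
      ((j.app U) (κ.app U m) : 𝒮.presheaf.obj (op U)))
    (W : X.Opens) (hW₀ : W ≤ r₀ ⁻¹ᵁ VF p₀ chart₀ (idxOf E₀ j₀ hj₀ U hU e₀))
    (hW : W ≤ i ⁻¹ᵁ VF p chart (idxOf E j hj U hU (κ.app U e₀)))
    (z : Away (A := 𝒮₀.presheaf.obj (op U)) (𝒮₀.deg U hU) ((j₀.app U) e₀)) :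
    i.appLE (VF p chart (idxOf E j hj U hU (κ.app U e₀))) W hW
        (chartFun p chart (idxOf E j hj U hU (κ.app U e₀))
          (awayMapTo (A := 𝒮₀.presheaf.obj (op U)) (B := 𝒮.presheaf.obj (op U)) Φ (hΦj e₀) z)) =
      r₀.appLE (VF p₀ chart₀ (idxOf E₀ j₀ hj₀ U hU e₀)) W hW₀
        (chartFun p₀ chart₀ (idxOf E₀ j₀ hj₀ U hU e₀) z) := by
  set iP := idxOf E j hj U hU (κ.app U e₀) with hiP
  set i₀ := idxOf E₀ j₀ hj₀ U hU e₀ with hi₀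
  have hWU : W ≤ q ⁻¹ᵁ U := hW₀.trans (hF₀.preimage_VF_le' i₀)
  have hDU : VF p chart iP ≤ p ⁻¹ᵁ U := VF_le p chart iP
  have hD₀U : VF p₀ chart₀ i₀ ≤ p₀ ⁻¹ᵁ U := VF_le p₀ chart₀ i₀
  have gW : IsGen L W (res L hWU (ψ₀.app U e₀)) := by
    have := (hF₀.gen U hU e₀ (hF₀.preimage_VF_le' i₀)).mono hW₀
    simp only at this
    rwa [res_res] at this
  have hρ : (i.appLE (VF p chart iP) W hW).hom.comp
        ((chartFun p chart iP).comp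
          (awayMapTo (A := 𝒮₀.presheaf.obj (op U)) (B := 𝒮.presheaf.obj (op U)) Φ (hΦj e₀))) =
      (r₀.appLE (VF p₀ chart₀ i₀) W hW₀).hom.comp (chartFun p₀ chart₀ i₀) := by
    refine (away_ringHom_ext (A := 𝒮₀.presheaf.obj (op U)) (𝒮₀.deg U hU)
      (f := ((j₀.app U) e₀ : 𝒮₀.presheaf.obj (op U)))
      (show ((j₀.app U) e₀ : 𝒮₀.presheaf.obj (op U)) ∈ 𝒮₀.deg U hU 1 from hj₀.2 U hU e₀)
      (Set.range (𝒮₀.str.app (op U)).hom)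
      (by rintro _ ⟨s, rfl⟩; exact 𝒮₀.str_mem U hU s)
      (Set.range (fun m : Γ(E₀, U) => ((j₀.app U) m : 𝒮₀.presheaf.obj (op U))))
      (by rintro _ ⟨m, rfl⟩; exact hj₀.2 U hU m)
      (closure_str_j_eq_top E₀ hE₀ 𝒮₀ j₀ hj₀ U hU)
      ((i.appLE (VF p chart iP) W hW).hom.comp
        ((chartFun p chart iP).comp
          (awayMapTo (A := 𝒮₀.presheaf.obj (op U)) (B := 𝒮.presheaf.obj (op U)) Φ (hΦj e₀))))
      ((r₀.appLE (VF p₀ chart₀ i₀) W hW₀).hom.comp (chartFun p₀ chart₀ i₀)) ?_ ?_ :)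
    · rintro _ ⟨s, rfl⟩
      change i.appLE _ _ hW (chartFun p chart iP (awayMapTo (A := 𝒮₀.presheaf.obj (op U)) (B := 𝒮.presheaf.obj (op U)) Φ (hΦj e₀) _)) =
        r₀.appLE _ _ hW₀ (chartFun p₀ chart₀ i₀ _)
      rw [awayMapTo_amk (A := 𝒮₀.presheaf.obj (op U)) (B := 𝒮.presheaf.obj (op U)) Φ (hj₀.2 U hU e₀)
        (hj.2 U hU (κ.app U e₀)) (hΦj e₀)]
      have h3 : chartFun p₀ chart₀ i₀
          (amk (𝒮₀.deg U hU) (hj₀.2 U hU e₀) 0 ((𝒮₀.str.app (op U)).hom s) (𝒮₀.str_mem U hU s)) =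
          p₀.appLE U (VF p₀ chart₀ i₀) hD₀U s := chartFun_str p₀ chart₀ hP₀ i₀ s
      have h4 : chartFun p chart iP
          (amk (𝒮.deg U hU) (hj.2 U hU (κ.app U e₀)) 0 ((𝒮.str.app (op U)).hom s) (𝒮.str_mem U hU s)) =
          p.appLE U (VF p chart iP) hDU s := chartFun_str p chart hP iP s
      rw [amk_congr (A := 𝒮.presheaf.obj (op U)) (𝒮.deg U hU) (hj.2 U hU (κ.app U e₀)) 0 _ (𝒮.str_mem U hU s)
        (hΦs s)]
      refine (congrArg _ h4).trans (Eq.trans ?_ (congrArg _ h3).symm)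
      exact (appLE_appLE_of_comp hF.comp U _ _ hDU hW hWU s).trans
        (appLE_appLE_of_comp hF₀.comp U _ _ hD₀U hW₀ hWU s).symm
    · rintro _ ⟨m, rfl⟩
      change i.appLE _ _ hW (chartFun p chart iP (awayMapTo (A := 𝒮₀.presheaf.obj (op U)) (B := 𝒮.presheaf.obj (op U)) Φ (hΦj e₀) _)) =
        r₀.appLE _ _ hW₀ (chartFun p₀ chart₀ i₀ _)
      rw [awayMapTo_amk (A := 𝒮₀.presheaf.obj (op U)) (B := 𝒮.presheaf.obj (op U)) Φ (hj₀.2 U hU e₀)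
        (hj.2 U hU (κ.app U e₀)) (hΦj e₀),
        amk_congr (A := 𝒮.presheaf.obj (op U)) (𝒮.deg U hU) (hj.2 U hU (κ.app U e₀)) 1 _
          (hj.2 U hU (κ.app U m)) (hΦj m)]
      have hσP : res O1 hDU (sig p chart E j hj O1 lam hO1 U hU (κ.app U m)) =
          chartFun p chart iP (amk (𝒮.deg U hU) iP.2.2 1
              ((j.app U) (κ.app U m) : 𝒮.presheaf.obj (op U)) (hj.2 U hU (κ.app U m))) •
            res O1 hDU (sig p chart E j hj O1 lam hO1 U hU (κ.app U e₀)) := by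
        unfold sig
        rw [res_canonSec_le, res_canonSec_le]
        exact canonSec_eq_chartFun_smul p chart O1 lam hO1 iP (hj.2 U hU (κ.app U m))
      have hσ₀ : res O1₀ hD₀U (sig p₀ chart₀ E₀ j₀ hj₀ O1₀ lam₀ hO1₀ U hU m) =
          chartFun p₀ chart₀ i₀ (amk (𝒮₀.deg U hU) i₀.2.2 1
              ((j₀.app U) m : 𝒮₀.presheaf.obj (op U)) (hj₀.2 U hU m)) •
            res O1₀ hD₀U (sig p₀ chart₀ E₀ j₀ hj₀ O1₀ lam₀ hO1₀ U hU e₀) := by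
        unfold sig
        rw [res_canonSec_le, res_canonSec_le]
        exact canonSec_eq_chartFun_smul p₀ chart₀ O1₀ lam₀ hO1₀ i₀ (hj₀.2 U hU m)
      have t1 := hF.trans U hU (κ.app U m) U hU (κ.app U e₀) _ hDU hDU _ hσP _ hW hWU hWU
      have t2 := hF₀.trans U hU m U hU e₀ _ hD₀U hD₀U _ hσ₀ _ hW₀ hWU hWU
      simp only at t1 t2
      rw [← hκ U m, ← hκ U e₀] at t1
      apply (gW _ le_rfl).1
      simp only
      rw [res_self]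
      exact t1.symm.trans t2
  exact DFunLike.congr_fun hρ z

end Groth.Agent.Lib.T2H4.RLBridge
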