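import Mathlib
import Groth.Prelude.Def_RelProj4
import Groth.Agent.Lib.T2H4RLBridgeW
set_option backward.isDefEq.respectTransparency.types false

/-!
# Local finite-type data of an immersion into `P(E)` of a morphism locally of finite type (helper4)

Let `i : X ⟶ P(E)` be an immersion framed by `ψ : E ⟶ q_* L`, with `q` locally of finite type.  Near every point of `X`
there are an affine open `U` of the base, a section `e` of `E` over `U`, a function `h` on `D₊(e)` with `G = i⁻¹(D(h))`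
affine, and finitely many sections of `E` over `U` (the finite set `F`) such that the functions on `G` are generated by the
functions on `U`, the inverse of `h` and finitely many functions on `D₊(e)` that can be written with the sections in `F`
(`exists_localFT`).
-/

set_option autoImplicit false
set_option linter.style.haveILetI false
set_option linter.unusedSectionVars false
set_option linter.unusedVariables false
universe u
open CategoryTheory AlgebraicGeometry TopologicalSpace Opposite HomogeneousLocalization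
open scoped HomogeneousIdeal

namespace Groth.Agent.Lib.T2H4.RLBridge

open Groth.Agent.Lib.Helper6 Groth.Agent.Lib.Helper23.SecTw Groth.Agent.Lib.T2H4.GrSym
  Groth.Agent.Lib.Helper2.RelTwistTensor Groth.Agent.Lib.Helper23.PB Groth.Agent.Lib.Helper2.RelTildeQCoh

section alg

/-- an element of the subring generated by `S₀` and a family involves only finitely many members of the family -/
theorem exists_finset_mem_closure {A M : Type*} [Ring A] (S₀ : Set A) (g : M → A) {a : A}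
    (ha : a ∈ Subring.closure (S₀ ∪ Set.range g)) :
    ∃ F : Finset M, a ∈ Subring.closure (S₀ ∪ g '' (F : Set M)) := by
  classical
  have mono : ∀ {F F' : Finset M}, F ⊆ F' → ∀ {b : A}, b ∈ Subring.closure (S₀ ∪ g '' (F : Set M)) →
      b ∈ Subring.closure (S₀ ∪ g '' (F' : Set M)) := fun hFF' b hb =>
    Subring.closure_mono (Set.union_subset_union_right _ (Set.image_mono (Finset.coe_subset.2 hFF'))) hb
  induction ha using Subring.closure_induction with
  | mem x hx =>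
    rcases hx with hx | ⟨m, rfl⟩
    · exact ⟨∅, Subring.subset_closure (Or.inl hx)⟩
    · exact ⟨{m}, Subring.subset_closure (Or.inr ⟨m, by simp, rfl⟩)⟩
  | zero => exact ⟨∅, zero_mem _⟩
  | one => exact ⟨∅, one_mem _⟩
  | add x y _ _ hx hy =>
    obtain ⟨F₁, h₁⟩ := hx
    obtain ⟨F₂, h₂⟩ := hy
    exact ⟨F₁ ∪ F₂, add_mem (mono Finset.subset_union_left h₁) (mono Finset.subset_union_right h₂)⟩
  | neg x _ hx =>
    obtain ⟨F₁, h₁⟩ := hx
    exact ⟨F₁, neg_mem h₁⟩
  | mul x y _ _ hx hy =>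
    obtain ⟨F₁, h₁⟩ := hx
    obtain ⟨F₂, h₂⟩ := hy
    exact ⟨F₁ ∪ F₂, mul_mem (mono Finset.subset_union_left h₁) (mono Finset.subset_union_right h₂)⟩

variable {A B σ τ : Type u} [CommRing A] [SetLike σ A] [AddSubgroupClass σ A] {𝒜 : ℕ → σ} [GradedRing 𝒜]
  [CommRing B] [SetLike τ B] [AddSubgroupClass τ B] {ℬ : ℕ → τ} [GradedRing ℬ]

/-- a fraction `b / f'^k` with `b` in the range of a graded homomorphism `Φ` (with `Φ f = f'`) is in the range of the
induced homomorphism of degree-zero localizations -/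
theorem exists_awayMapTo_eq (Φ : 𝒜 →+*ᵍ ℬ) {f : A} (hf : f ∈ 𝒜 1) {f' : B} (hf' : f' ∈ ℬ 1) (h : Φ f = f')
    (k : ℕ) (b : B) (hb : b ∈ ℬ k) (hrange : b ∈ Set.range Φ) :
    ∃ z₀ : Away 𝒜 f, awayMapTo Φ h z₀ = amk ℬ hf' k b hb := by
  classical
  obtain ⟨a, rfl⟩ := hrange
  refine ⟨amk 𝒜 hf k (DirectSum.decompose 𝒜 a k : A) (SetLike.coe_mem _), ?_⟩
  rw [awayMapTo_amk Φ hf hf' h]
  refine amk_congr ℬ hf' k _ hb ?_
  rw [GradedRingHom.map_directSumDecompose]
  exact DirectSum.decompose_of_mem_same ℬ hb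

end alg

section geom

variable {Y X : Scheme.{u}} (j : Y ⟶ X) [IsImmersion j]

/-- Over an open inside the coborder of the range, an immersion restricts to a closed immersion (helper20's
`ConormalStalk.isClosedImmersion_morphismRestrict`, copied here to keep the imports light). -/
theorem isClosedImmersion_morphismRestrict' (W : X.Opens) (hW : W ≤ j.coborderRange) :
    IsClosedImmersion (j ∣_ W) := by
  refine IsClosedImmersion.of_isPreimmersion _ ?_
  have h1 : Set.range (j ∣_ W) = W.ι ⁻¹' (closure (Set.range j)) := by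
    ext w
    simp only [Set.mem_preimage, Set.mem_range]
    constructor
    · rintro ⟨z, rfl⟩
      apply subset_closure
      exact ⟨z.1, (morphismRestrict_base_coe j W z).symm⟩
    · intro h
      have : W.ι w ∈ closure (Set.range j) ∩ coborder (Set.range j) := ⟨h, hW w.2⟩
      rw [closure_inter_coborder] at this
      obtain ⟨z, hz⟩ := this
      refine ⟨⟨z, ?_⟩, ?_⟩
      · show j z ∈ W
        rw [hz]; exact w.2
      · apply Subtype.ext
        exact (morphismRestrict_base_coe j W _).trans hz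
  rw [h1]
  exact isClosed_closure.preimage W.ι.continuous

theorem isAffineOpen_preimage_of_le_coborder {W : X.Opens} (hWa : IsAffineOpen W) (hW : W ≤ j.coborderRange) :
    IsAffineOpen (j ⁻¹ᵁ W) := by
  have := isClosedImmersion_morphismRestrict' j W hW
  have : IsAffine W.toScheme := hWa
  exact (IsClosedImmersion.isAffine_surjective_of_isAffine (j ∣_ W)).1

theorem app_surjective_of_le_coborder {W : X.Opens} (hWa : IsAffineOpen W) (hW : W ≤ j.coborderRange) :
    Function.Surjective (j.app W) := by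
  have := isClosedImmersion_morphismRestrict' j W hW
  have : IsAffine W.toScheme := hWa
  have h := (IsClosedImmersion.isAffine_surjective_of_isAffine (j ∣_ W)).2
  rw [morphismRestrict_appTop] at h
  have key : ∀ W' : X.Opens, W' = W → Function.Surjective (j.app W') →
      Function.Surjective (j.app W) := by
    rintro W' rfl h; exact h
  refine key _ W.ι_image_top ?_
  intro a
  obtain ⟨b, hb⟩ := h ((Y.presheaf.map
    (eqToHom (image_morphismRestrict_preimage j W ⊤)).op).hom a)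
  refine ⟨b, ?_⟩
  have hinj : Function.Injective (Y.presheaf.map
      (eqToHom (image_morphismRestrict_preimage j W ⊤)).op).hom :=
    (ConcreteCategory.bijective_of_isIso (Y.presheaf.map
      (eqToHom (image_morphismRestrict_preimage j W ⊤)).op)).1
  exact hinj hb

end geom

section gen

variable {X Y P : Scheme.{u}} (q : X ⟶ Y) (i : X ⟶ P)

/-- the functions on `G = i⁻¹(D(h))` are generated by the functions on `U`, finitely many functions on `D` and the inverse
of `h`, when `q` is locally of finite type and `i` is surjective on functions over `D(h)` -/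
theorem exists_finset_gen [LocallyOfFiniteType q] {U : Y.Opens} (hU : IsAffineOpen U) {D : P.Opens}
    (hD : IsAffineOpen D) (h : Γ(P, D)) (hG : IsAffineOpen (i ⁻¹ᵁ P.basicOpen h))
    (hsurj : Function.Surjective (i.app (P.basicOpen h)))
    (hGU : i ⁻¹ᵁ P.basicOpen h ≤ q ⁻¹ᵁ U) (hGD : i ⁻¹ᵁ P.basicOpen h ≤ i ⁻¹ᵁ D) :
    ∃ C : Finset Γ(P, D), ∀ T : Subring Γ(X, i ⁻¹ᵁ P.basicOpen h),
      (∀ s : Γ(Y, U), q.appLE U _ hGU s ∈ T) → (∀ c ∈ C, i.appLE D _ hGD c ∈ T) →
      (∀ w : Γ(X, i ⁻¹ᵁ P.basicOpen h), w * i.appLE D _ hGD h = 1 → w ∈ T) → T = ⊤ := by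
  classical
  have hBD : P.basicOpen h ≤ D := P.basicOpen_le h
  have hαρ : ∀ c : Γ(P, D), i.app (P.basicOpen h) ((P.presheaf.map (homOfLE hBD).op) c) = i.appLE _ _ hGD c := by
    intro c
    rw [Scheme.Hom.app_eq_appLE]
    exact congr($(Scheme.Hom.map_appLE i (le_refl _) (homOfLE hBD).op) c)
  have hv : IsUnit (i.appLE _ _ hGD h) := by
    rw [← hαρ]
    exact (RingedSpace.isUnit_res_basicOpen _ h).map (i.app (P.basicOpen h)).hom
  have hfrac : ∀ t : Γ(X, i ⁻¹ᵁ P.basicOpen h),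
      ∃ (c : Γ(P, D)) (m : ℕ), t * (i.appLE _ _ hGD h) ^ m = i.appLE _ _ hGD c := by
    intro t
    obtain ⟨b, hb⟩ := hsurj t
    haveI := hD.isLocalization_basicOpen h
    obtain ⟨⟨c, ⟨_, m, rfl⟩⟩, hc⟩ := IsLocalization.surj (Submonoid.powers h) b
    refine ⟨c, m, ?_⟩
    rw [← hb, ← hαρ, ← hαρ, ← map_pow, ← map_mul]
    congr 1
    have hc' := hc
    simp only [map_pow] at hc'
    exact hc'
  choose ct mt hct using hfrac
  have hft := LocallyOfFiniteType.finiteType_appLE q hU hG hGU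
  letI : Algebra Γ(Y, U) Γ(X, i ⁻¹ᵁ P.basicOpen h) := (q.appLE U _ hGU).hom.toAlgebra
  have hft' : Algebra.FiniteType Γ(Y, U) Γ(X, i ⁻¹ᵁ P.basicOpen h) := hft
  obtain ⟨T₀, hT₀⟩ := hft'.out
  refine ⟨T₀.image ct, ?_⟩
  intro T hs hz hw
  obtain ⟨w, hwv⟩ := hv.exists_left_inv
  have hwT : w ∈ T := hw w hwv
  let T' : Subalgebra Γ(Y, U) Γ(X, i ⁻¹ᵁ P.basicOpen h) :=
    { T.toSubsemiring with algebraMap_mem' := fun s => hs s }
  have hT' : T' = ⊤ := by
    rw [eq_top_iff, ← hT₀]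
    refine Algebra.adjoin_le ?_
    intro t ht
    have h1 : t = i.appLE _ _ hGD (ct t) * w ^ mt t := by
      rw [← hct t, mul_assoc, ← mul_pow, mul_comm _ w, hwv, one_pow, mul_one]
    change t ∈ T
    rw [h1]
    exact T.mul_mem (hz _ (Finset.mem_image_of_mem ct ht)) (T.pow_mem hwT _)
  rw [eq_top_iff]
  intro t _
  have : t ∈ T' := by rw [hT']; trivial
  exact this

end gen

variable {X Y P : Scheme.{u}} (q : X ⟶ Y)
  (E : Y.Modules) (hE : Coh.IsQCoh E) (𝒮 : RelProj.QCGrAlg Y) (j : E ⟶ 𝒮.toModule)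
  (hj : RelProj.IsGrSymAlg E 𝒮 j) (p : P ⟶ Y)
  (chart : ∀ (U : Y.Opens) (hU : IsAffineOpen U), ((p ⁻¹ᵁ U : P.Opens) : Scheme.{u}) ≅ Proj (𝒮.deg U hU))
  (hP : RelProj.IsRelProj 𝒮 p chart) (O1 : P.Modules)
  (lam : ∀ (U : Y.Opens) (hU : IsAffineOpen U),
    O1 ⟶ (Scheme.Modules.pushforward (RelProj.emb p chart U hU)).obj (GrTwist.twist (𝒮.deg U hU) 1))
  (hO1 : RelProj.IsRelTwist 𝒮 p chart 1 O1 lam)
  (L : X.Modules) (i : X ⟶ P)
  (ψ : E ⟶ (Scheme.Modules.pushforward q).obj L)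
  (hF : IsFramed p chart E j hj O1 lam hO1 q L i (fun U _ e => ψ.app U e))

/-- an element of `𝒮(U)_(j e)` which can be written with the sections in the finite set `F` -/
def Liftable (U : Y.Opens) (hU : IsAffineOpen U) (e : Γ(E, U)) (F : Finset Γ(E, U))
    (z : Away (A := 𝒮.presheaf.obj (op U)) (𝒮.deg U hU) ((j.app U) e)) : Prop :=
  ∃ (k : ℕ) (a : 𝒮.presheaf.obj (op U)) (ha : a ∈ 𝒮.deg U hU k),
    a ∈ Subring.closure (Set.range (𝒮.str.app (op U)).hom ∪
      (fun m : Γ(E, U) => ((j.app U) m : 𝒮.presheaf.obj (op U))) '' (F : Set Γ(E, U))) ∧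
    z = amk (A := 𝒮.presheaf.obj (op U)) (𝒮.deg U hU) (hj.2 U hU e) k a ha

variable {E 𝒮 j hj}

theorem Liftable.mono {U : Y.Opens} {hU : IsAffineOpen U} {e : Γ(E, U)} {F F' : Finset Γ(E, U)} (hFF' : F ⊆ F')
    {z : Away (A := 𝒮.presheaf.obj (op U)) (𝒮.deg U hU) ((j.app U) e)}
    (h : Liftable E 𝒮 j hj U hU e F z) : Liftable E 𝒮 j hj U hU e F' z := by
  obtain ⟨k, a, ha, hmem, hz⟩ := h
  exact ⟨k, a, ha, Subring.closure_mono
    (Set.union_subset_union_right _ (Set.image_mono (Finset.coe_subset.2 hFF'))) hmem, hz⟩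

variable (E 𝒮 j hj)

include hE in
theorem exists_liftable (U : Y.Opens) (hU : IsAffineOpen U) (e : Γ(E, U))
    (z : Away (A := 𝒮.presheaf.obj (op U)) (𝒮.deg U hU) ((j.app U) e)) :
    ∃ F : Finset Γ(E, U), Liftable E 𝒮 j hj U hU e F z := by
  obtain ⟨k, a, ha, rfl⟩ := exists_amk_surjective (A := 𝒮.presheaf.obj (op U)) (𝒮.deg U hU) (hj.2 U hU e) z
  have hmem : a ∈ Subring.closure (Set.range (𝒮.str.app (op U)).hom ∪
      Set.range (fun m : Γ(E, U) => ((j.app U) m : 𝒮.presheaf.obj (op U)))) := by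
    rw [closure_str_j_eq_top E hE 𝒮 j hj U hU]
    trivial
  obtain ⟨F, hF⟩ := exists_finset_mem_closure _ _ hmem
  exact ⟨F, k, a, ha, hF, rfl⟩

/-- the local finite-type data of an immersion -/
structure LocalFT (U : Y.Opens) (hU : IsAffineOpen U) (e : Γ(E, U)) (F : Finset Γ(E, U))
    (zh : Away (A := 𝒮.presheaf.obj (op U)) (𝒮.deg U hU) ((j.app U) e))
    (Z : Finset (Away (A := 𝒮.presheaf.obj (op U)) (𝒮.deg U hU) ((j.app U) e))) : Prop where
  affine : IsAffineOpen (i ⁻¹ᵁ P.basicOpen (chartFun p chart (idxOf E j hj U hU e) zh))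
  gen : ∀ (hGU : i ⁻¹ᵁ P.basicOpen (chartFun p chart (idxOf E j hj U hU e) zh) ≤ q ⁻¹ᵁ U)
    (hGD : i ⁻¹ᵁ P.basicOpen (chartFun p chart (idxOf E j hj U hU e) zh) ≤
      i ⁻¹ᵁ VF p chart (idxOf E j hj U hU e))
    (T : Subring Γ(X, i ⁻¹ᵁ P.basicOpen (chartFun p chart (idxOf E j hj U hU e) zh))),
    (∀ s : Γ(Y, U), q.appLE U _ hGU s ∈ T) →
    (∀ z ∈ Z, i.appLE (VF p chart (idxOf E j hj U hU e)) _ hGD (chartFun p chart (idxOf E j hj U hU e) z) ∈ T) →
    (∀ w : Γ(X, i ⁻¹ᵁ P.basicOpen (chartFun p chart (idxOf E j hj U hU e) zh)),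
      w * i.appLE (VF p chart (idxOf E j hj U hU e)) _ hGD (chartFun p chart (idxOf E j hj U hU e) zh) = 1 →
        w ∈ T) → T = ⊤
  e_mem : e ∈ F
  lift_h : Liftable E 𝒮 j hj U hU e F zh
  lift_Z : ∀ z ∈ Z, Liftable E 𝒮 j hj U hU e F z

include hE hF in
/-- **existence of local finite-type data** -/
theorem exists_localFT [LocallyOfFiniteType q] [IsImmersion i] (x : X) :
    ∃ (U : Y.Opens) (hU : IsAffineOpen U) (e : Γ(E, U)) (F : Finset Γ(E, U))
      (zh : Away (A := 𝒮.presheaf.obj (op U)) (𝒮.deg U hU) ((j.app U) e))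
      (Z : Finset (Away (A := 𝒮.presheaf.obj (op U)) (𝒮.deg U hU) ((j.app U) e))),
      x ∈ i ⁻¹ᵁ P.basicOpen (chartFun p chart (idxOf E j hj U hU e) zh) ∧
        LocalFT q E 𝒮 j hj p chart i U hU e F zh Z := by
  classical
  obtain ⟨U, hxU⟩ := exists_affine_mem_preimage p (i x)
  obtain ⟨y, hy⟩ := le_opensRange_emb p chart U.1 U.2 hxU
  obtain ⟨e, he⟩ := Groth.Agent.Lib.T2H4.ProjBundle.exists_not_mem_of_isGrSymAlg E hE 𝒮 j hj U.1 U.2 y
  have hxD : i x ∈ VF p chart (idxOf E j hj U.1 U.2 e) :=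
    ⟨y, (ProjectiveSpectrum.mem_basicOpen _ _ y).mpr he, hy⟩
  have hD : IsAffineOpen (VF p chart (idxOf E j hj U.1 U.2 e)) := isAffineOpen_VF (idxOf E j hj U.1 U.2 e)
  have hxW : i x ∈ i.coborderRange := subset_coborder ⟨x, rfl⟩
  obtain ⟨h, hhle, hxh⟩ := hD.exists_basicOpen_le
    (V := VF p chart (idxOf E j hj U.1 U.2 e) ⊓ i.coborderRange) ⟨i x, hxD, hxW⟩ hxD
  obtain ⟨zh, rfl⟩ := chartFun_surjective p chart (idxOf E j hj U.1 U.2 e) h
  have hB : IsAffineOpen (P.basicOpen (chartFun p chart (idxOf E j hj U.1 U.2 e) zh)) := hD.basicOpen _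
  have hBW : P.basicOpen (chartFun p chart (idxOf E j hj U.1 U.2 e) zh) ≤ i.coborderRange :=
    hhle.trans inf_le_right
  have hBD : P.basicOpen (chartFun p chart (idxOf E j hj U.1 U.2 e) zh) ≤
      VF p chart (idxOf E j hj U.1 U.2 e) := P.basicOpen_le _
  have hG : IsAffineOpen (i ⁻¹ᵁ P.basicOpen (chartFun p chart (idxOf E j hj U.1 U.2 e) zh)) :=
    isAffineOpen_preimage_of_le_coborder i hB hBW
  have hsurj : Function.Surjective (i.app (P.basicOpen (chartFun p chart (idxOf E j hj U.1 U.2 e) zh))) :=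
    app_surjective_of_le_coborder i hB hBW
  have hGD : i ⁻¹ᵁ P.basicOpen (chartFun p chart (idxOf E j hj U.1 U.2 e) zh) ≤
      i ⁻¹ᵁ VF p chart (idxOf E j hj U.1 U.2 e) := i.preimage_mono hBD
  have hGU : i ⁻¹ᵁ P.basicOpen (chartFun p chart (idxOf E j hj U.1 U.2 e) zh) ≤ q ⁻¹ᵁ U.1 :=
    hGD.trans (hF.preimage_VF_le' (idxOf E j hj U.1 U.2 e))
  obtain ⟨C, hC⟩ := exists_finset_gen q i U.2 hD (chartFun p chart (idxOf E j hj U.1 U.2 e) zh) hG hsurj hGU hGD
  have hpre : ∀ c : Γ(P, VF p chart (idxOf E j hj U.1 U.2 e)),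
      ∃ z : Away (A := 𝒮.presheaf.obj (op U.1)) (𝒮.deg U.1 U.2) ((j.app U.1) e),
        chartFun p chart (idxOf E j hj U.1 U.2 e) z = c := chartFun_surjective p chart (idxOf E j hj U.1 U.2 e)
  choose zc hzc using hpre
  obtain ⟨Z, hZ⟩ : ∃ Z : Finset (Away (A := 𝒮.presheaf.obj (op U.1)) (𝒮.deg U.1 U.2) ((j.app U.1) e)),
      Z = C.image zc := ⟨_, rfl⟩
  have hlift : ∀ z : Away (A := 𝒮.presheaf.obj (op U.1)) (𝒮.deg U.1 U.2) ((j.app U.1) e),
      ∃ F : Finset Γ(E, U.1), Liftable E 𝒮 j hj U.1 U.2 e F z := exists_liftable E hE 𝒮 j hj U.1 U.2 e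
  choose Fz hFz using hlift
  obtain ⟨F, hFdef⟩ : ∃ F : Finset Γ(E, U.1), F = insert e ((insert zh Z).biUnion Fz) := ⟨_, rfl⟩
  refine ⟨U.1, U.2, e, F, zh, Z, hxh, hG, ?_, ?_, ?_, ?_⟩
  · intro hGU' hGD' T hs hz hw
    refine hC T hs (fun c hc => ?_) hw
    have := hz (zc c) (by rw [hZ]; exact Finset.mem_image_of_mem zc hc)
    rwa [hzc c] at this
  · rw [hFdef]
    exact Finset.mem_insert_self _ _
  · refine (hFz zh).mono ?_
    rw [hFdef]
    exact (Finset.subset_biUnion_of_mem Fz (Finset.mem_insert_self zh Z)).trans (Finset.subset_insert _ _)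
  · intro z hz
    refine (hFz z).mono ?_
    rw [hFdef]
    exact (Finset.subset_biUnion_of_mem Fz (Finset.mem_insert_of_mem hz)).trans (Finset.subset_insert _ _)

end Groth.Agent.Lib.T2H4.RLBridge
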