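import Mathlib
import Groth.Prelude.Def_RelProj4
import Groth.Agent.Lib.T2H4RLBridgeX
set_option backward.isDefEq.respectTransparency.types false

/-!
# From local finite-type data to a local closed immersion into `P(E₀)` (helper4)

Let `i : X ⟶ P(E)` be framed by `ψ`, with local finite-type data `(U, e, F, h, Z)` (`LocalFT`), and let `κ : E₀ ⟶ E` be a
module map whose image over `U` contains the finite set `F`.  For `r₀ : X ⟶ P(E₀)` framed by `κ ≫ ψ` there is an open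
`B₀` of `P(E₀)` with `r₀⁻¹(B₀) = i⁻¹(D(h))` over which `r₀` is a closed immersion (`exists_restrict_isClosedImmersion`).
-/

set_option autoImplicit false
set_option linter.style.haveILetI false
set_option linter.unusedSectionVars false
set_option linter.unusedVariables false
universe u
open CategoryTheory AlgebraicGeometry TopologicalSpace Opposite HomogeneousLocalization
open scoped HomogeneousIdeal

namespace Groth.Agent.Lib.T2H4.RLBridge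

open Groth.Agent.Lib.Helper6 Groth.Agent.Lib.Helper23.SecTw Groth.Agent.Lib.T2H4.GrSym
  Groth.Agent.Lib.Helper2.RelTwistTensor Groth.Agent.Lib.Helper23.PB Groth.Agent.Lib.Helper2.RelTildeQCoh

/-- a morphism whose restriction over an affine open has affine source and is surjective on functions restricts to a
closed immersion -/
theorem isClosedImmersion_morphismRestrict_of_surjective {X Y : Scheme.{u}} (f : X ⟶ Y) (B : Y.Opens)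
    (hB : IsAffineOpen B) (G : X.Opens) (hG : IsAffineOpen G) (hGeq : f ⁻¹ᵁ B = G)
    (hsurj : Function.Surjective (f.appLE B G hGeq.ge)) : IsClosedImmersion (f ∣_ B) := by
  subst hGeq
  haveI : IsAffine (B : Scheme.{u}) := hB
  haveI : IsAffine ((f ⁻¹ᵁ B : X.Opens) : Scheme.{u}) := hG
  apply IsClosedImmersion.of_surjective_of_isAffine
  have e1 : (f.resLE B (f ⁻¹ᵁ B) le_rfl).appTop = B.topIso.hom ≫ f.appLE B (f ⁻¹ᵁ B) le_rfl ≫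
      (f ⁻¹ᵁ B).topIso.inv := Scheme.Hom.resLE_app_top f le_rfl
  rw [Scheme.Hom.resLE_eq_morphismRestrict] at e1
  rw [e1]
  intro t
  obtain ⟨b, hb⟩ := hsurj ((f ⁻¹ᵁ B).topIso.hom t)
  refine ⟨B.topIso.inv b, ?_⟩
  change (f ⁻¹ᵁ B).topIso.inv (f.appLE B (f ⁻¹ᵁ B) le_rfl (B.topIso.hom (B.topIso.inv b))) = t
  have h1 : B.topIso.hom (B.topIso.inv b) = b := by
    rw [← CommRingCat.comp_apply, Iso.inv_hom_id]
    rfl
  rw [h1, hb, ← CommRingCat.comp_apply, Iso.hom_inv_id]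
  rfl

variable {X Y P P₀ : Scheme.{u}} (q : X ⟶ Y)
  (E : Y.Modules) (hE : Coh.IsQCoh E) (𝒮 : RelProj.QCGrAlg Y) (j : E ⟶ 𝒮.toModule)
  (hj : RelProj.IsGrSymAlg E 𝒮 j) (p : P ⟶ Y)
  (chart : ∀ (U : Y.Opens) (hU : IsAffineOpen U), ((p ⁻¹ᵁ U : P.Opens) : Scheme.{u}) ≅ Proj (𝒮.deg U hU))
  (hP : RelProj.IsRelProj 𝒮 p chart) (O1 : P.Modules)
  (lam : ∀ (U : Y.Opens) (hU : IsAffineOpen U),
    O1 ⟶ (Scheme.Modules.pushforward (RelProj.emb p chart U hU)).obj (GrTwist.twist (𝒮.deg U hU) 1))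
  (hO1 : RelProj.IsRelTwist 𝒮 p chart 1 O1 lam)
  (L : X.Modules) (i : X ⟶ P)
  (ψ : E ⟶ (Scheme.Modules.pushforward q).obj L)
  (hF : IsFramed p chart E j hj O1 lam hO1 q L i (fun U _ e => ψ.app U e))
  (E₀ : Y.Modules) (hE₀ : Coh.IsQCoh E₀) (𝒮₀ : RelProj.QCGrAlg Y) (j₀ : E₀ ⟶ 𝒮₀.toModule)
  (hj₀ : RelProj.IsGrSymAlg E₀ 𝒮₀ j₀) (p₀ : P₀ ⟶ Y)
  (chart₀ : ∀ (U : Y.Opens) (hU : IsAffineOpen U), ((p₀ ⁻¹ᵁ U : P₀.Opens) : Scheme.{u}) ≅ Proj (𝒮₀.deg U hU))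
  (hP₀ : RelProj.IsRelProj 𝒮₀ p₀ chart₀) (O1₀ : P₀.Modules)
  (lam₀ : ∀ (U : Y.Opens) (hU : IsAffineOpen U),
    O1₀ ⟶ (Scheme.Modules.pushforward (RelProj.emb p₀ chart₀ U hU)).obj (GrTwist.twist (𝒮₀.deg U hU) 1))
  (hO1₀ : RelProj.IsRelTwist 𝒮₀ p₀ chart₀ 1 O1₀ lam₀)
  (r₀ : X ⟶ P₀)
  (ψ₀ : E₀ ⟶ (Scheme.Modules.pushforward q).obj L)
  (hF₀ : IsFramed p₀ chart₀ E₀ j₀ hj₀ O1₀ lam₀ hO1₀ q L r₀ (fun U _ e => ψ₀.app U e))
  (κ : E₀ ⟶ E) (hκ : ∀ (U : Y.Opens) (e₀ : Γ(E₀, U)), ψ₀.app U e₀ = ψ.app U (κ.app U e₀))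

include hE hE₀ hP hP₀ hF hF₀ hκ in
/-- **from local finite-type data to a local closed immersion** -/
theorem exists_restrict_isClosedImmersion (U : Y.Opens) (hU : IsAffineOpen U) (e : Γ(E, U))
    (F : Finset Γ(E, U))
    (zh : Away (A := 𝒮.presheaf.obj (op U)) (𝒮.deg U hU) ((j.app U) e))
    (Z : Finset (Away (A := 𝒮.presheaf.obj (op U)) (𝒮.deg U hU) ((j.app U) e)))
    (hloc : LocalFT q E 𝒮 j hj p chart i U hU e F zh Z)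
    (hFκ : ∀ f ∈ F, ∃ f₀ : Γ(E₀, U), κ.app U f₀ = f) :
    ∃ B₀ : P₀.Opens, r₀ ⁻¹ᵁ B₀ = i ⁻¹ᵁ P.basicOpen (chartFun p chart (idxOf E j hj U hU e) zh) ∧
      IsClosedImmersion (r₀ ∣_ B₀) := by
  classical
  haveI : E.IsQuasicoherent := hE
  haveI : E₀.IsQuasicoherent := hE₀
  obtain ⟨e₀, rfl⟩ := hFκ e hloc.e_mem
  -- the graded homomorphism induced by `κ`
  obtain ⟨Φ, hΦs, hΦj⟩ := exists_gradedHom_of_linear E₀ hj₀ E hj U hU (κ.app U).hom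
    (fun a m => Scheme.Modules.Hom.app_smul κ a m)
  have hΦj' : ∀ m : Γ(E₀, U), Φ ((j₀.app U) m : 𝒮₀.presheaf.obj (op U)) =
      ((j.app U) (κ.app U m) : 𝒮.presheaf.obj (op U)) := hΦj
  -- liftable elements are in the range
  have hrange : ∀ a : 𝒮.presheaf.obj (op U),
      a ∈ Subring.closure (Set.range (𝒮.str.app (op U)).hom ∪
        (fun m : Γ(E, U) => ((j.app U) m : 𝒮.presheaf.obj (op U))) '' (F : Set Γ(E, U))) →
      a ∈ Set.range Φ := by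
    intro a ha
    have hle : Subring.closure (Set.range (𝒮.str.app (op U)).hom ∪
        (fun m : Γ(E, U) => ((j.app U) m : 𝒮.presheaf.obj (op U))) '' (F : Set Γ(E, U))) ≤
        Φ.toRingHom.range := by
      rw [Subring.closure_le]
      rintro _ (⟨s, rfl⟩ | ⟨f, hf, rfl⟩)
      · exact ⟨(𝒮₀.str.app (op U)).hom s, hΦs s⟩
      · obtain ⟨f₀, rfl⟩ := hFκ f hf
        exact ⟨((j₀.app U) f₀ : 𝒮₀.presheaf.obj (op U)), hΦj' f₀⟩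
    obtain ⟨b, hb⟩ := hle ha
    exact ⟨b, hb⟩
  have hlift : ∀ z : Away (A := 𝒮.presheaf.obj (op U)) (𝒮.deg U hU) ((j.app U) (κ.app U e₀)),
      Liftable E 𝒮 j hj U hU (κ.app U e₀) F z →
      ∃ z₀ : Away (A := 𝒮₀.presheaf.obj (op U)) (𝒮₀.deg U hU) ((j₀.app U) e₀),
        awayMapTo (A := 𝒮₀.presheaf.obj (op U)) (B := 𝒮.presheaf.obj (op U)) Φ (hΦj' e₀) z₀ = z := by
    rintro z ⟨k, a, ha, hmem, rfl⟩
    exact exists_awayMapTo_eq (A := 𝒮₀.presheaf.obj (op U)) (B := 𝒮.presheaf.obj (op U)) Φ (hj₀.2 U hU e₀)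
      (hj.2 U hU (κ.app U e₀)) (hΦj' e₀) k a ha (hrange a hmem)
  obtain ⟨zh₀, rfl⟩ := hlift zh hloc.lift_h
  set iP := idxOf E j hj U hU (κ.app U e₀) with hiP
  set i₀ := idxOf E₀ j₀ hj₀ U hU e₀ with hi₀
  have hWle : r₀ ⁻¹ᵁ VF p₀ chart₀ i₀ ≤ i ⁻¹ᵁ VF p chart iP :=
    preimage_VF_transfer_le q E hE 𝒮 j hj p chart hP O1 lam hO1 L i ψ hF E₀ 𝒮₀ j₀ hj₀ p₀ chart₀ O1₀ lam₀ hO1₀ r₀
      ψ₀ hF₀ κ hκ U hU e₀
  have hWge : i ⁻¹ᵁ VF p chart iP ≤ r₀ ⁻¹ᵁ VF p₀ chart₀ i₀ :=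
    preimage_VF_transfer_ge q E 𝒮 j hj p chart O1 lam hO1 L i ψ hF E₀ hE₀ 𝒮₀ j₀ hj₀ p₀ chart₀ hP₀ O1₀ lam₀ hO1₀ r₀
      ψ₀ hF₀ κ hκ U hU e₀
  have htr := appLE_chartFun_transfer q E 𝒮 j hj p chart hP O1 lam hO1 L i ψ hF E₀ hE₀ 𝒮₀ j₀ hj₀ p₀ chart₀ hP₀ O1₀
    lam₀ hO1₀ r₀ ψ₀ hF₀ κ hκ U hU e₀ Φ hΦs hΦj'
  set h₀ := chartFun p₀ chart₀ i₀ zh₀ with hh₀
  set h := chartFun p chart iP
    (awayMapTo (A := 𝒮₀.presheaf.obj (op U)) (B := 𝒮.presheaf.obj (op U)) Φ (hΦj' e₀) zh₀) with hh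
  have hBD : P.basicOpen h ≤ VF p chart iP := P.basicOpen_le h
  have hB₀D₀ : P₀.basicOpen h₀ ≤ VF p₀ chart₀ i₀ := P₀.basicOpen_le h₀
  have hGD : i ⁻¹ᵁ P.basicOpen h ≤ i ⁻¹ᵁ VF p chart iP := i.preimage_mono hBD
  have hGD₀ : i ⁻¹ᵁ P.basicOpen h ≤ r₀ ⁻¹ᵁ VF p₀ chart₀ i₀ := hGD.trans hWge
  have hGU : i ⁻¹ᵁ P.basicOpen h ≤ q ⁻¹ᵁ U := hGD.trans (hF.preimage_VF_le' iP)
  -- the inverse images agree
  have hGeq : r₀ ⁻¹ᵁ P₀.basicOpen h₀ = i ⁻¹ᵁ P.basicOpen h := by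
    have h1 : X.basicOpen (r₀.appLE (VF p₀ chart₀ i₀) (r₀ ⁻¹ᵁ VF p₀ chart₀ i₀) le_rfl h₀) =
        r₀ ⁻¹ᵁ P₀.basicOpen h₀ := by
      rw [Scheme.basicOpen_appLE]
      exact inf_eq_right.2 (r₀.preimage_mono hB₀D₀)
    have h2 : X.basicOpen (i.appLE (VF p chart iP) (r₀ ⁻¹ᵁ VF p₀ chart₀ i₀) hWle h) =
        i ⁻¹ᵁ P.basicOpen h := by
      rw [Scheme.basicOpen_appLE]
      exact inf_eq_right.2 hGD₀
    rw [← h1, ← h2, hh, hh₀, htr _ le_rfl hWle zh₀]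
  have hD₀ : IsAffineOpen (VF p₀ chart₀ i₀) := isAffineOpen_VF i₀
  -- surjectivity
  have hGB₀ : i ⁻¹ᵁ P.basicOpen h ≤ r₀ ⁻¹ᵁ P₀.basicOpen h₀ := hGeq.ge
  have hρ₀ : ∀ c : Γ(P₀, VF p₀ chart₀ i₀),
      r₀.appLE (P₀.basicOpen h₀) _ hGB₀ ((P₀.presheaf.map (homOfLE hB₀D₀).op) c) =
        r₀.appLE (VF p₀ chart₀ i₀) _ hGD₀ c := fun c =>
    congr($(Scheme.Hom.map_appLE r₀ hGB₀ (homOfLE hB₀D₀).op) c)
  have hsurj : Function.Surjective (r₀.appLE (P₀.basicOpen h₀) (i ⁻¹ᵁ P.basicOpen h) hGB₀) := by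
    have hT := hloc.gen hGU hGD (r₀.appLE (P₀.basicOpen h₀) _ hGB₀).hom.range ?_ ?_ ?_
    · intro t
      have : t ∈ (r₀.appLE (P₀.basicOpen h₀) _ hGB₀).hom.range := by rw [hT]; trivial
      exact this
    · intro s
      refine ⟨p₀.appLE U (P₀.basicOpen h₀) (hB₀D₀.trans (VF_le p₀ chart₀ i₀)) s, ?_⟩
      exact appLE_appLE_of_comp hF₀.comp U _ _ _ hGB₀ hGU s
    · intro z hz
      have hl := hloc.lift_Z z hz
      have hl2 := hlift z hl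
      cases hl2 with | intro z₀ hz₀ => ?_
      refine ⟨(P₀.presheaf.map (homOfLE hB₀D₀).op) (chartFun p₀ chart₀ i₀ z₀), ?_⟩
      change r₀.appLE (P₀.basicOpen h₀) _ hGB₀ ((P₀.presheaf.map (homOfLE hB₀D₀).op) (chartFun p₀ chart₀ i₀ z₀)) = _
      rw [hρ₀, ← hz₀]
      exact (htr _ hGD₀ hGD z₀).symm
    · intro w hw
      have hex : ∃ u : Γ(P₀, P₀.basicOpen h₀), u * (P₀.presheaf.map (homOfLE hB₀D₀).op) h₀ = 1 :=
        (RingedSpace.isUnit_res_basicOpen _ h₀).exists_left_inv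
      cases hex with | intro u hu => ?_
      refine ⟨u, ?_⟩
      change r₀.appLE (P₀.basicOpen h₀) _ hGB₀ u = w
      have h3 : r₀.appLE (P₀.basicOpen h₀) _ hGB₀ u * i.appLE (VF p chart iP) _ hGD h = 1 := by
        have e1 : i.appLE (VF p chart iP) _ hGD h = r₀.appLE (VF p₀ chart₀ i₀) _ hGD₀ h₀ :=
          htr _ hGD₀ hGD zh₀
        rw [e1, ← hρ₀, ← map_mul]
        have hu' : u * (P₀.presheaf.map (homOfLE hB₀D₀).op) h₀ = 1 := hu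
        rw [hu', map_one]
      exact left_inv_eq_right_inv h3 ((mul_comm _ _).trans hw)
  exact ⟨P₀.basicOpen h₀, hGeq, isClosedImmersion_morphismRestrict_of_surjective r₀ (P₀.basicOpen h₀)
    (hD₀.basicOpen h₀) (i ⁻¹ᵁ P.basicOpen h) hloc.affine hGeq hsurj⟩

end Groth.Agent.Lib.T2H4.RLBridge
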