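import Mathlib
import Groth.Prelude.Def_RelProj4
import Groth.Agent.Lib.T2H4RLBridgeY
import Groth.Agent.Lib.Helper23FTsub
set_option backward.isDefEq.respectTransparency.types false

/-!
# An immersion into `P(E)` of a morphism of finite type comes from a finite-type submodule of `E` (EGA II 3.8.5 for `P(E)`)
(helper4)

`exists_ft_sub_isImmersion` : `Y` quasi-compact and quasi-separated, `q : X ⟶ Y` of finite type, `i : X ⟶ P(E)` an immersion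
framed by `ψ : E ⟶ q_* L`.  Then there is a quasi-coherent submodule `ι : E₀ ⟶ E` of finite type such that `ι ≫ ψ` has
local frames and every morphism `X ⟶ P(E₀)` framed by `ι ≫ ψ` is an immersion.
-/

set_option autoImplicit false
set_option linter.style.haveILetI false
set_option linter.unusedSectionVars false
set_option linter.unusedVariables false
universe u
open CategoryTheory AlgebraicGeometry TopologicalSpace Opposite HomogeneousLocalization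
open scoped HomogeneousIdeal

namespace Groth.Agent.Lib.T2H4.RLBridge

open Groth.Agent.Lib.Helper6 Groth.Agent.Lib.Helper23.SecTw Groth.Agent.Lib.T2H4.GrSym
  Groth.Agent.Lib.Helper2.RelTwistTensor Groth.Agent.Lib.Helper23.PB Groth.Agent.Lib.Helper2.RelTildeQCoh

variable {X Y P : Scheme.{u}} (q : X ⟶ Y)
  (E : Y.Modules) (hE : Coh.IsQCoh E) (𝒮 : RelProj.QCGrAlg Y) (j : E ⟶ 𝒮.toModule)
  (hj : RelProj.IsGrSymAlg E 𝒮 j) (p : P ⟶ Y)
  (chart : ∀ (U : Y.Opens) (hU : IsAffineOpen U), ((p ⁻¹ᵁ U : P.Opens) : Scheme.{u}) ≅ Proj (𝒮.deg U hU))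
  (hP : RelProj.IsRelProj 𝒮 p chart) (O1 : P.Modules)
  (lam : ∀ (U : Y.Opens) (hU : IsAffineOpen U),
    O1 ⟶ (Scheme.Modules.pushforward (RelProj.emb p chart U hU)).obj (GrTwist.twist (𝒮.deg U hU) 1))
  (hO1 : RelProj.IsRelTwist 𝒮 p chart 1 O1 lam)
  (L : X.Modules) (i : X ⟶ P)
  (ψ : E ⟶ (Scheme.Modules.pushforward q).obj L)
  (hF : IsFramed p chart E j hj O1 lam hO1 q L i (fun U _ e => ψ.app U e))

include hE hP hF in
/-- **EGA II 3.8.5 for projective bundles** -/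
theorem exists_ft_sub_isImmersion [CompactSpace Y] [QuasiSeparatedSpace Y] [QuasiCompact q]
    [LocallyOfFiniteType q] [IsImmersion i] :
    ∃ (E₀ : Y.Modules) (ι : E₀ ⟶ E), Mono ι ∧ Coh.IsQCoh E₀ ∧ CohB1.IsFT E₀ ∧
      (∀ x : X, ∃ (U : Y.Opens) (hU : IsAffineOpen U) (e₀ : Γ(E₀, U)) (V : X.Opens) (hV : IsAffineOpen V)
        (hVU : V ≤ q ⁻¹ᵁ U), x ∈ V ∧ IsGen L V (res L hVU ((ι ≫ ψ).app U e₀))) ∧
      ∀ {P₀ : Scheme.{u}} (𝒮₀ : RelProj.QCGrAlg Y) (j₀ : E₀ ⟶ 𝒮₀.toModule)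
        (hj₀ : RelProj.IsGrSymAlg E₀ 𝒮₀ j₀) (p₀ : P₀ ⟶ Y)
        (chart₀ : ∀ (U : Y.Opens) (hU : IsAffineOpen U),
          ((p₀ ⁻¹ᵁ U : P₀.Opens) : Scheme.{u}) ≅ Proj (𝒮₀.deg U hU))
        (hP₀ : RelProj.IsRelProj 𝒮₀ p₀ chart₀) (O1₀ : P₀.Modules)
        (lam₀ : ∀ (U : Y.Opens) (hU : IsAffineOpen U),
          O1₀ ⟶ (Scheme.Modules.pushforward (RelProj.emb p₀ chart₀ U hU)).obj (GrTwist.twist (𝒮₀.deg U hU) 1))
        (hO1₀ : RelProj.IsRelTwist 𝒮₀ p₀ chart₀ 1 O1₀ lam₀) (r₀ : X ⟶ P₀),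
        IsFramed p₀ chart₀ E₀ j₀ hj₀ O1₀ lam₀ hO1₀ q L r₀ (fun U _ e => (ι ≫ ψ).app U e) → IsImmersion r₀ := by
  classical
  haveI : E.IsQuasicoherent := hE
  haveI : CompactSpace X := QuasiCompact.compactSpace_of_compactSpace q
  choose U hU e F zh Z hxG hloc using exists_localFT q E hE 𝒮 j hj p chart O1 lam hO1 L i ψ hF
  obtain ⟨t, ht⟩ := isCompact_univ.elim_finite_subcover
    (fun x : X => ((i ⁻¹ᵁ P.basicOpen (chartFun p chart (idxOf E j hj (U x) (hU x) (e x)) (zh x)) : X.Opens) : Set X))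
    (fun x => Opens.isOpen _) (fun x _ => Set.mem_iUnion.2 ⟨x, hxG x⟩)
  have hcov : ∀ x : X, ∃ x' ∈ t,
      x ∈ i ⁻¹ᵁ P.basicOpen (chartFun p chart (idxOf E j hj (U x') (hU x') (e x')) (zh x')) := by
    intro x
    have := ht (Set.mem_univ x)
    simp only [Set.mem_iUnion] at this
    obtain ⟨x', hx', hx⟩ := this
    exact ⟨x', hx', hx⟩
  -- the finite-type submodule
  obtain ⟨l, hl⟩ : ∃ l : List (Σ V : Y.affineOpens, Γ(E, V.1)),
      l = t.toList.flatMap (fun x => (F x).toList.map (fun f => ⟨⟨U x, hU x⟩, f⟩)) := ⟨_, rfl⟩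
  obtain ⟨E₀, ι, hι, hq₀, hf₀, hmem⟩ :=
    Groth.Agent.Lib.Helper23.FTsub.exists_ft_sub_list E ⟨⟨⊥, isAffineOpen_bot Y⟩, 0⟩ l
  have hFι : ∀ x ∈ t, ∀ f ∈ F x, ∃ f₀ : Γ(E₀, U x), ι.app (U x) f₀ = f := by
    intro x hx f hf
    have h1 : (⟨⟨U x, hU x⟩, f⟩ : Σ V : Y.affineOpens, Γ(E, V.1)) ∈
        ((⟨⟨⊥, isAffineOpen_bot Y⟩, 0⟩ : Σ V : Y.affineOpens, Γ(E, V.1)) :: l) := by
      refine List.mem_cons_of_mem _ ?_
      rw [hl]
      exact List.mem_flatMap.2 ⟨x, Finset.mem_toList.2 hx,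
        List.mem_map.2 ⟨f, Finset.mem_toList.2 hf, rfl⟩⟩
    exact hmem _ h1
  have hκ : ∀ (V : Y.Opens) (e₀ : Γ(E₀, V)), (ι ≫ ψ).app V e₀ = ψ.app V (ι.app V e₀) := fun V e₀ => rfl
  refine ⟨E₀, ι, hι, hq₀, hf₀, ?_, ?_⟩
  · intro x
    obtain ⟨x', hx't, hxG'⟩ := hcov x
    obtain ⟨e₀, he₀⟩ := hFι x' hx't (e x') (hloc x').e_mem
    have hGD : i ⁻¹ᵁ P.basicOpen (chartFun p chart (idxOf E j hj (U x') (hU x') (e x')) (zh x')) ≤
        i ⁻¹ᵁ VF p chart (idxOf E j hj (U x') (hU x') (e x')) := i.preimage_mono (P.basicOpen_le _)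
    have hDU := hF.preimage_VF_le' (idxOf E j hj (U x') (hU x') (e x'))
    refine ⟨U x', hU x', e₀, _, (hloc x').affine, hGD.trans hDU, hxG', ?_⟩
    rw [hκ, he₀]
    have := (hF.gen (U x') (hU x') (e x') hDU).mono hGD
    simp only at this
    rwa [res_res] at this
  · intro P₀ 𝒮₀ j₀ hj₀ p₀ chart₀ hP₀ O1₀ lam₀ hO1₀ r₀ hF₀
    have hB : ∀ x' : t, ∃ B₀ : P₀.Opens,
        r₀ ⁻¹ᵁ B₀ = i ⁻¹ᵁ P.basicOpen (chartFun p chart (idxOf E j hj (U x'.1) (hU x'.1) (e x'.1)) (zh x'.1)) ∧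
          IsClosedImmersion (r₀ ∣_ B₀) := fun x' =>
      exists_restrict_isClosedImmersion q E hE 𝒮 j hj p chart hP O1 lam hO1 L i ψ hF E₀ hq₀ 𝒮₀ j₀ hj₀ p₀ chart₀ hP₀
        O1₀ lam₀ hO1₀ r₀ (ι ≫ ψ) hF₀ ι hκ (U x'.1) (hU x'.1) (e x'.1) (F x'.1) (zh x'.1) (Z x'.1) (hloc x'.1)
        (hFι x'.1 x'.2)
    choose B₀ hB₀eq hB₀cl using hB
    refine isImmersion_of_forall_restrict r₀ B₀ ?_ (fun x' => ?_)
    · intro x
      obtain ⟨x', hx't, hxG'⟩ := hcov x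
      refine ⟨⟨x', hx't⟩, ?_⟩
      have : x ∈ r₀ ⁻¹ᵁ B₀ ⟨x', hx't⟩ := by
        rw [hB₀eq]
        exact hxG'
      exact this
    · haveI := hB₀cl x'
      infer_instance

end Groth.Agent.Lib.T2H4.RLBridge
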