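import Mathlib
import Groth.Prelude.Def_RelProj4
import Groth.Agent.Lib.T2H4RLBridgeZ
import Groth.Agent.Lib.T2H4RLBridgeV
set_option backward.isDefEq.respectTransparency.types false

/-!
# Very ample modules relative to a morphism of finite type: immersions into `P(E)` with `E` of finite type
(EGA II 4.4.6, 4.4.7) (helper4)

* `exists_ft_framed_immersion` : an immersion `i : X ⟶ P(E)` framed by `ψ` gives a finite-type quasi-coherent submodule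
  `ι : E₀ ⟶ E`, a projective bundle of `E₀` and an immersion `r₀ : X ⟶ P(E₀)` framed by `ι ≫ ψ`;
* `exists_ft_immersion_of_isRelVeryAmple` : the same starting from a very ample module.
-/

set_option autoImplicit false
set_option linter.style.haveILetI false
set_option linter.unusedSectionVars false
set_option linter.unusedVariables false
universe u
open CategoryTheory AlgebraicGeometry TopologicalSpace Opposite
open scoped HomogeneousIdeal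

namespace Groth.Agent.Lib.T2H4.RLBridge

open Groth.Agent.Lib.Helper6 Groth.Agent.Lib.Helper23.SecTw Groth.Agent.Lib.T2H4.GrSym
  Groth.Agent.Lib.Helper2.RelTwistTensor Groth.Agent.Lib.Helper23.PB Groth.Agent.Lib.Helper2.RelTildeQCoh

variable {X Y P : Scheme.{u}} (q : X ⟶ Y)
  (E : Y.Modules) (hE : Coh.IsQCoh E) (𝒮 : RelProj.QCGrAlg Y) (j : E ⟶ 𝒮.toModule)
  (hj : RelProj.IsGrSymAlg E 𝒮 j) (p : P ⟶ Y)
  (chart : ∀ (U : Y.Opens) (hU : IsAffineOpen U), ((p ⁻¹ᵁ U : P.Opens) : Scheme.{u}) ≅ Proj (𝒮.deg U hU))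
  (hP : RelProj.IsRelProj 𝒮 p chart) (O1 : P.Modules)
  (lam : ∀ (U : Y.Opens) (hU : IsAffineOpen U),
    O1 ⟶ (Scheme.Modules.pushforward (RelProj.emb p chart U hU)).obj (GrTwist.twist (𝒮.deg U hU) 1))
  (hO1 : RelProj.IsRelTwist 𝒮 p chart 1 O1 lam)
  (L : X.Modules) (hL : PicF.IsInvertible L) (i : X ⟶ P)
  (ψ : E ⟶ (Scheme.Modules.pushforward q).obj L)
  (hF : IsFramed p chart E j hj O1 lam hO1 q L i (fun U _ e => ψ.app U e))

include hE hP hL hF in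
theorem exists_ft_framed_immersion [CompactSpace Y] [QuasiSeparatedSpace Y] [QuasiCompact q]
    [LocallyOfFiniteType q] [IsImmersion i] :
    ∃ (E₀ : Y.Modules) (ι : E₀ ⟶ E) (_ : Mono ι) (hE₀ : Coh.IsQCoh E₀) (_ : CohB1.IsFT E₀)
      (𝒯 : RelProj.QCGrAlg Y) (k : E₀ ⟶ 𝒯.toModule) (hk : RelProj.IsGrSymAlg E₀ 𝒯 k)
      (Q : Scheme.{u}) (pQ : Q ⟶ Y)
      (chartQ : ∀ (U : Y.Opens) (hU : IsAffineOpen U), ((pQ ⁻¹ᵁ U : Q.Opens) : Scheme.{u}) ≅ Proj (𝒯.deg U hU))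
      (_ : RelProj.IsRelProj 𝒯 pQ chartQ) (O1Q : Q.Modules)
      (lamQ : ∀ (U : Y.Opens) (hU : IsAffineOpen U),
        O1Q ⟶ (Scheme.Modules.pushforward (RelProj.emb pQ chartQ U hU)).obj (GrTwist.twist (𝒯.deg U hU) 1))
      (hO1Q : RelProj.IsRelTwist 𝒯 pQ chartQ 1 O1Q lamQ) (r₀ : X ⟶ Q) (_ : IsImmersion r₀),
      IsFramed pQ chartQ E₀ k hk O1Q lamQ hO1Q q L r₀ (fun U _ e => (ι ≫ ψ).app U e) := by
  obtain ⟨E₀, ι, hι, hq₀, hf₀, hfr, himm⟩ :=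
    exists_ft_sub_isImmersion q E hE 𝒮 j hj p chart hP O1 lam hO1 L i ψ hF
  obtain ⟨𝒯, k, hk, Q, pQ, chartQ, hQ, O1Q, lamQ, hO1Q⟩ := exists_projBundle E₀ hq₀
  obtain ⟨r₀, hF₀⟩ := exists_isFramed_of_frames E₀ hq₀ 𝒯 k hk pQ chartQ hQ O1Q lamQ hO1Q q L hL (ι ≫ ψ) hfr
  exact ⟨E₀, ι, hι, hq₀, hf₀, 𝒯, k, hk, Q, pQ, chartQ, hQ, O1Q, lamQ, hO1Q, r₀,
    himm 𝒯 k hk pQ chartQ hQ O1Q lamQ hO1Q r₀ hF₀, hF₀⟩

/-- **EGA II 4.4.6/4.4.7**: over a quasi-compact quasi-separated base, a module very ample relative to a morphism of finite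
type is the pull-back of `O(1)` by an immersion into `P(E₀)` with `E₀` quasi-coherent of finite type -/
theorem exists_ft_immersion_of_isRelVeryAmple {X Y : Scheme.{u}} [CompactSpace Y] [QuasiSeparatedSpace Y] (q : X ⟶ Y)
    [QuasiCompact q] [LocallyOfFiniteType q] (L : X.Modules) (hL : PicF.IsInvertible L)
    (h : RelProj.IsRelVeryAmple q L) :
    ∃ (E₀ : Y.Modules) (hE₀ : Coh.IsQCoh E₀) (_ : CohB1.IsFT E₀)
      (𝒯 : RelProj.QCGrAlg Y) (k : E₀ ⟶ 𝒯.toModule) (hk : RelProj.IsGrSymAlg E₀ 𝒯 k)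
      (Q : Scheme.{u}) (pQ : Q ⟶ Y)
      (chartQ : ∀ (U : Y.Opens) (hU : IsAffineOpen U), ((pQ ⁻¹ᵁ U : Q.Opens) : Scheme.{u}) ≅ Proj (𝒯.deg U hU))
      (_ : RelProj.IsRelProj 𝒯 pQ chartQ) (O1Q : Q.Modules)
      (lamQ : ∀ (U : Y.Opens) (hU : IsAffineOpen U),
        O1Q ⟶ (Scheme.Modules.pushforward (RelProj.emb pQ chartQ U hU)).obj (GrTwist.twist (𝒯.deg U hU) 1))
      (hO1Q : RelProj.IsRelTwist 𝒯 pQ chartQ 1 O1Q lamQ) (r₀ : X ⟶ Q) (_ : IsImmersion r₀)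
      (ψ₀ : E₀ ⟶ (Scheme.Modules.pushforward q).obj L),
      IsFramed pQ chartQ E₀ k hk O1Q lamQ hO1Q q L r₀ (fun U _ e => ψ₀.app U e) := by
  obtain ⟨E, hE, 𝒮, j, hj, P, p, chart, hP, O1, lam, hO1, i, himm, ψ, hF⟩ :=
    exists_framed_of_isRelVeryAmple q L h
  haveI := himm
  obtain ⟨E₀, ι, hι, hq₀, hf₀, 𝒯, k, hk, Q, pQ, chartQ, hQ, O1Q, lamQ, hO1Q, r₀, himm₀, hF₀⟩ :=
    exists_ft_framed_immersion q E hE 𝒮 j hj p chart hP O1 lam hO1 L hL i ψ hF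
  exact ⟨E₀, hq₀, hf₀, 𝒯, k, hk, Q, pQ, chartQ, hQ, O1Q, lamQ, hO1Q, r₀, himm₀, ι ≫ ψ, hF₀⟩

end Groth.Agent.Lib.T2H4.RLBridge
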