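import Mathlib
import Groth.Prelude.Def_RelProj4
import Groth.Agent.Lib.T2H4RLBridgeAA
set_option backward.isDefEq.respectTransparency.types false

/-!
# Immersions into `P(E)` from immersions into `P(E₀)` along a module map `κ : E₀ ⟶ E` (helper4)

* `isImmersion_of_transfer` : if `r₀ : X ⟶ P(E₀)`, framed by `κ ≫ ψ`, is an immersion then so is `i : X ⟶ P(E)`, framed by
  `ψ` (EGA II 3.8.? : `r_{L,ψ∘κ}` everywhere defined immersion ⟹ `r_{L,ψ}` immersion), in framed form;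
* `deg_one_subset_span_of_isGen` : a generator of `L` over an affine open generates the degree-one part of `Sym(L)`;
* `exists_framed_immersion_pushforward` : for a very ample `L`, the morphism `X ⟶ P(q_* L)` framed by the identity is an
  immersion (EGA II 4.4.4 in framed form).
-/

set_option autoImplicit false
set_option linter.style.haveILetI false
set_option linter.unusedSectionVars false
set_option linter.unusedVariables false
universe u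
open CategoryTheory AlgebraicGeometry TopologicalSpace Opposite HomogeneousLocalization
open scoped HomogeneousIdeal

namespace Groth.Agent.Lib.T2H4.RLBridge

open Groth.Agent.Lib.Helper6 Groth.Agent.Lib.Helper23.SecTw Groth.Agent.Lib.T2H4.GrSym
  Groth.Agent.Lib.Helper2.RelTwistTensor Groth.Agent.Lib.Helper23.PB Groth.Agent.Lib.Helper2.RelTildeQCoh

section transfer

variable {X Y P P₀ : Scheme.{u}} (q : X ⟶ Y)
  (E : Y.Modules) (hE : Coh.IsQCoh E) (𝒮 : RelProj.QCGrAlg Y) (j : E ⟶ 𝒮.toModule)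
  (hj : RelProj.IsGrSymAlg E 𝒮 j) (p : P ⟶ Y)
  (chart : ∀ (U : Y.Opens) (hU : IsAffineOpen U), ((p ⁻¹ᵁ U : P.Opens) : Scheme.{u}) ≅ Proj (𝒮.deg U hU))
  (hP : RelProj.IsRelProj 𝒮 p chart) (O1 : P.Modules)
  (lam : ∀ (U : Y.Opens) (hU : IsAffineOpen U),
    O1 ⟶ (Scheme.Modules.pushforward (RelProj.emb p chart U hU)).obj (GrTwist.twist (𝒮.deg U hU) 1))
  (hO1 : RelProj.IsRelTwist 𝒮 p chart 1 O1 lam)
  (L : X.Modules) (i : X ⟶ P)
  (ψ : E ⟶ (Scheme.Modules.pushforward q).obj L)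
  (hF : IsFramed p chart E j hj O1 lam hO1 q L i (fun U _ e => ψ.app U e))
  (E₀ : Y.Modules) (hE₀ : Coh.IsQCoh E₀) (𝒮₀ : RelProj.QCGrAlg Y) (j₀ : E₀ ⟶ 𝒮₀.toModule)
  (hj₀ : RelProj.IsGrSymAlg E₀ 𝒮₀ j₀) (p₀ : P₀ ⟶ Y)
  (chart₀ : ∀ (U : Y.Opens) (hU : IsAffineOpen U), ((p₀ ⁻¹ᵁ U : P₀.Opens) : Scheme.{u}) ≅ Proj (𝒮₀.deg U hU))
  (hP₀ : RelProj.IsRelProj 𝒮₀ p₀ chart₀) (O1₀ : P₀.Modules)
  (lam₀ : ∀ (U : Y.Opens) (hU : IsAffineOpen U),
    O1₀ ⟶ (Scheme.Modules.pushforward (RelProj.emb p₀ chart₀ U hU)).obj (GrTwist.twist (𝒮₀.deg U hU) 1))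
  (hO1₀ : RelProj.IsRelTwist 𝒮₀ p₀ chart₀ 1 O1₀ lam₀)
  (r₀ : X ⟶ P₀)
  (ψ₀ : E₀ ⟶ (Scheme.Modules.pushforward q).obj L)
  (hF₀ : IsFramed p₀ chart₀ E₀ j₀ hj₀ O1₀ lam₀ hO1₀ q L r₀ (fun U _ e => ψ₀.app U e))
  (κ : E₀ ⟶ E) (hκ : ∀ (U : Y.Opens) (e₀ : Γ(E₀, U)), ψ₀.app U e₀ = ψ.app U (κ.app U e₀))

include hE hE₀ hP hP₀ hF hF₀ hκ in
/-- **if `r₀ : X ⟶ P(E₀)` (framed by `κ ≫ ψ`) is an immersion, so is `i : X ⟶ P(E)` (framed by `ψ`)** -/
theorem isImmersion_of_transfer [IsImmersion r₀] : IsImmersion i := by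
  haveI : E.IsQuasicoherent := hE
  haveI : E₀.IsQuasicoherent := hE₀
  refine isImmersion_of_forall_restrict i
    (fun a : Σ U : Y.affineOpens, Γ(E₀, U.1) => VF p chart (idxOf E j hj a.1.1 a.1.2 (κ.app a.1.1 a.2))) ?_ ?_
  · intro x
    obtain ⟨U, hxU⟩ := exists_affine_mem_preimage p₀ (r₀ x)
    obtain ⟨y, hy⟩ := le_opensRange_emb p₀ chart₀ U.1 U.2 hxU
    obtain ⟨e₀, he₀⟩ := Groth.Agent.Lib.T2H4.ProjBundle.exists_not_mem_of_isGrSymAlg E₀ hE₀ 𝒮₀ j₀ hj₀ U.1 U.2 y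
    have hx : x ∈ r₀ ⁻¹ᵁ VF p₀ chart₀ (idxOf E₀ j₀ hj₀ U.1 U.2 e₀) :=
      ⟨y, (ProjectiveSpectrum.mem_basicOpen _ _ y).mpr he₀, hy⟩
    exact ⟨⟨U, e₀⟩, preimage_VF_transfer_le q E hE 𝒮 j hj p chart hP O1 lam hO1 L i ψ hF E₀ 𝒮₀ j₀ hj₀ p₀ chart₀
      O1₀ lam₀ hO1₀ r₀ ψ₀ hF₀ κ hκ U.1 U.2 e₀ hx⟩
  · rintro ⟨⟨U, hU⟩, e₀⟩
    obtain ⟨Φ, hΦs, hΦj⟩ := exists_gradedHom_of_linear E₀ hj₀ E hj U hU (κ.app U).hom
      (fun a m => Scheme.Modules.Hom.app_smul κ a m)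
    have hΦj' : ∀ m : Γ(E₀, U), Φ ((j₀.app U) m : 𝒮₀.presheaf.obj (op U)) =
        ((j.app U) (κ.app U m) : 𝒮.presheaf.obj (op U)) := hΦj
    have hW₀ : i ⁻¹ᵁ VF p chart (idxOf E j hj U hU (κ.app U e₀)) ≤
        r₀ ⁻¹ᵁ VF p₀ chart₀ (idxOf E₀ j₀ hj₀ U hU e₀) :=
      preimage_VF_transfer_ge q E 𝒮 j hj p chart O1 lam hO1 L i ψ hF E₀ hE₀ 𝒮₀ j₀ hj₀ p₀ chart₀ hP₀ O1₀ lam₀ hO1₀ r₀
        ψ₀ hF₀ κ hκ U hU e₀
    set iP := idxOf E j hj U hU (κ.app U e₀) with hiP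
    set i₀ := idxOf E₀ j₀ hj₀ U hU e₀ with hi₀
    have hD : IsAffineOpen (VF p chart iP) := isAffineOpen_VF iP
    have hD₀ : IsAffineOpen (VF p₀ chart₀ i₀) := isAffineOpen_VF i₀
    let eχ : Away (A := 𝒮₀.presheaf.obj (op U)) (𝒮₀.deg U hU) ((j₀.app U) e₀) ≃+* Γ(P₀, VF p₀ chart₀ i₀) :=
      RingEquiv.ofBijective (chartFun p₀ chart₀ i₀) (chartFun_bijective p₀ chart₀ i₀)
    let θ : Γ(P₀, VF p₀ chart₀ i₀) ⟶ Γ(P, VF p chart iP) :=
      CommRingCat.ofHom (((chartFun p chart iP).comp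
        (awayMapTo (A := 𝒮₀.presheaf.obj (op U)) (B := 𝒮.presheaf.obj (op U)) Φ (hΦj' e₀))).comp
          eχ.symm.toRingHom)
    have hθ : θ ≫ i.appLE (VF p chart iP) (i ⁻¹ᵁ VF p chart iP) le_rfl =
        r₀.appLE (VF p₀ chart₀ i₀) (i ⁻¹ᵁ VF p chart iP) hW₀ := by
      ext c
      obtain ⟨z, rfl⟩ := chartFun_surjective p₀ chart₀ i₀ c
      have hz : eχ.symm (chartFun p₀ chart₀ i₀ z) = z := eχ.symm_apply_apply z
      change i.appLE _ _ le_rfl (chartFun p chart iP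
        (awayMapTo (A := 𝒮₀.presheaf.obj (op U)) (B := 𝒮.presheaf.obj (op U)) Φ (hΦj' e₀)
          (eχ.symm (chartFun p₀ chart₀ i₀ z)))) = _
      rw [hz]
      exact appLE_chartFun_transfer q E 𝒮 j hj p chart hP O1 lam hO1 L i ψ hF E₀ hE₀ 𝒮₀ j₀ hj₀ p₀ chart₀ hP₀ O1₀
        lam₀ hO1₀ r₀ ψ₀ hF₀ κ hκ U hU e₀ Φ hΦs hΦj' _ hW₀ le_rfl z
    have hcomp := resLE_comp_of_appLE i r₀ (VF p chart iP) (VF p₀ chart₀ i₀) hD hD₀ (i ⁻¹ᵁ VF p chart iP)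
      le_rfl hW₀ θ hθ
    have h1 : IsImmersion (i.resLE (VF p chart iP) (i ⁻¹ᵁ VF p chart iP) le_rfl ≫
        (hD.isoSpec.hom ≫ Spec.map θ ≫ hD₀.isoSpec.inv)) := by
      rw [hcomp]
      infer_instance
    have h2 : IsImmersion (i.resLE (VF p chart iP) (i ⁻¹ᵁ VF p chart iP) le_rfl) :=
      @IsImmersion.of_comp _ _ _ _ (hD.isoSpec.hom ≫ Spec.map θ ≫ hD₀.isoSpec.inv) h1
    rw [Scheme.Hom.resLE_eq_morphismRestrict] at h2
    exact h2

end transfer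

section span

variable {X : Scheme.{u}} (L : X.Modules) {𝒮L : RelProj.QCGrAlg X} (jL : L ⟶ 𝒮L.toModule)
  (hjL : RelProj.IsGrSymAlg L 𝒮L jL)

include hjL in
/-- a generator of `L` over an affine open generates the degree-one part of `Sym(L)` -/
theorem deg_one_subset_span_of_isGen (hLq : Coh.IsQCoh L) (V : X.Opens) (hV : IsAffineOpen V) (l₀ : Γ(L, V))
    (hgen : IsGen L V l₀) (g : 𝒮L.presheaf.obj (op V))
    (hg : g = ((jL.app V) l₀ : 𝒮L.presheaf.obj (op V))) :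
    ((𝒮L.deg V hV 1 : AddSubgroup (𝒮L.presheaf.obj (op V))) : Set (𝒮L.presheaf.obj (op V))) ⊆
      (Ideal.span {g} : Set (𝒮L.presheaf.obj (op V))) := by
  haveI : L.IsQuasicoherent := hLq
  intro b hb
  obtain ⟨l, rfl⟩ := exists_eq_j_app_of_mem_deg_one L hjL V hV hb
  obtain ⟨c, hc⟩ := (hgen V le_rfl).2 l
  have hc' : c • l₀ = l := by
    have := hc
    simp only at this
    rw [res_self] at this
    exact this
  rw [SetLike.mem_coe, Ideal.mem_span_singleton']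
  refine ⟨(𝒮L.str.app (op V)).hom c, ?_⟩
  rw [hg, ← hc']
  exact (j_app_smul L jL c _).symm

end span

section pushforward

/-- a relative homogeneous spectrum is separated over its base (helper6's `isSeparated_of_isRelProj`, copied here to keep
the imports light) -/
theorem isSeparated_of_isRelProj' {Y P : Scheme.{u}} (𝒮 : RelProj.QCGrAlg Y) (p : P ⟶ Y)
    (chart : ∀ (U : Y.Opens) (hU : IsAffineOpen U),
      ((p ⁻¹ᵁ U : P.Opens) : Scheme.{u}) ≅ Proj (𝒮.deg U hU))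
    (hp : RelProj.IsRelProj 𝒮 p chart) : IsSeparated p := by
  rw [IsZariskiLocalAtTarget.iff_of_iSup_eq_top (P := @IsSeparated) _
    (iSup_affineOpens_eq_top Y)]
  intro U
  have h1 : (p ∣_ U.1) ≫ U.1.ι = (chart U.1 U.2).hom ≫ Proj.toSpecZero (𝒮.deg U.1 U.2) ≫
      Spec.map (𝒮.strZero U.1 U.2) ≫ U.2.fromSpec := by
    rw [hp.chart_over U.1 U.2, morphismRestrict_ι]
  have h2 : IsSeparated ((p ∣_ U.1) ≫ U.1.ι) := by
    rw [h1]; infer_instance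
  exact IsSeparated.of_comp (p ∣_ U.1) U.1.ι

variable {X Y : Scheme.{u}} (q : X ⟶ Y)

/-- **EGA II 4.4.4 in framed form**: for `L` very ample relative to a quasi-compact `q`, the direct image `q_* L` is
quasi-coherent and any morphism `X ⟶ P(q_* L)` framed by the identity of `q_* L` is an immersion; the identity has local
frames. -/
theorem framed_pushforward_of_isRelVeryAmple [QuasiCompact q] (L : X.Modules) (hL : PicF.IsInvertible L)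
    (h : RelProj.IsRelVeryAmple q L) :
    Coh.IsQCoh ((Scheme.Modules.pushforward q).obj L) ∧
      (∀ x : X, ∃ (U : Y.Opens) (hU : IsAffineOpen U) (e : Γ((Scheme.Modules.pushforward q).obj L, U)) (V : X.Opens)
        (hV : IsAffineOpen V) (hVU : V ≤ q ⁻¹ᵁ U), x ∈ V ∧
          IsGen L V (res L hVU ((𝟙 ((Scheme.Modules.pushforward q).obj L) :
            (Scheme.Modules.pushforward q).obj L ⟶ (Scheme.Modules.pushforward q).obj L).app U e))) ∧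
      ∀ {P₁ : Scheme.{u}} (𝒜 : RelProj.QCGrAlg Y) (jA : (Scheme.Modules.pushforward q).obj L ⟶ 𝒜.toModule)
        (hjA : RelProj.IsGrSymAlg ((Scheme.Modules.pushforward q).obj L) 𝒜 jA) (p₁ : P₁ ⟶ Y)
        (chart₁ : ∀ (U : Y.Opens) (hU : IsAffineOpen U),
          ((p₁ ⁻¹ᵁ U : P₁.Opens) : Scheme.{u}) ≅ Proj (𝒜.deg U hU))
        (hP₁ : RelProj.IsRelProj 𝒜 p₁ chart₁) (O1₁ : P₁.Modules)
        (lam₁ : ∀ (U : Y.Opens) (hU : IsAffineOpen U),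
          O1₁ ⟶ (Scheme.Modules.pushforward (RelProj.emb p₁ chart₁ U hU)).obj (GrTwist.twist (𝒜.deg U hU) 1))
        (hO1₁ : RelProj.IsRelTwist 𝒜 p₁ chart₁ 1 O1₁ lam₁) (i₁ : X ⟶ P₁),
        IsFramed p₁ chart₁ ((Scheme.Modules.pushforward q).obj L) jA hjA O1₁ lam₁ hO1₁ q L i₁
          (fun U _ e => (𝟙 ((Scheme.Modules.pushforward q).obj L) :
            (Scheme.Modules.pushforward q).obj L ⟶ (Scheme.Modules.pushforward q).obj L).app U e) →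
        IsImmersion i₁ := by
  obtain ⟨E', hE', 𝒮', j', hj', P', p', chart', hP', O1', lam', hO1', i, himm, ψ', hF'⟩ :=
    exists_framed_of_isRelVeryAmple q L h
  haveI := himm
  haveI : L.IsQuasicoherent := isQuasicoherent_of_isInvertible L hL
  haveI : IsSeparated p' := isSeparated_of_isRelProj' 𝒮' p' chart' hP'
  haveI : IsSeparated q := by
    rw [← hF'.comp]
    infer_instance
  have hEq : Coh.IsQCoh ((Scheme.Modules.pushforward q).obj L) :=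
    Groth.Agent.Lib.Helper23.QCohLocal.isQuasicoherent_pushforward q L
  refine ⟨hEq, ?_, ?_⟩
  · intro x
    obtain ⟨U, hU, e', V, hV, hVU, hxV, hgen⟩ := hF'.frames q hE' x
    exact ⟨U, hU, ψ'.app U e', V, hV, hVU, hxV, hgen⟩
  · intro P₁ 𝒜 jA hjA p₁ chart₁ hP₁ O1₁ lam₁ hO1₁ i₁ hF₁
    exact isImmersion_of_transfer q _ hEq 𝒜 jA hjA p₁ chart₁ hP₁ O1₁ lam₁ hO1₁ L i₁ (𝟙 _) hF₁ E' hE' 𝒮' j' hj' p'
      chart' hP' O1' lam' hO1' i ψ' hF' ψ' (fun U e₀ => rfl)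

end pushforward

end Groth.Agent.Lib.T2H4.RLBridge
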