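import Mathlib
import Groth.Prelude.Def_RelProj4
import Groth.Agent.Lib.T2H4RLBridgeAB
import Groth.Agent.Lib.Helper20UFDPic
import Groth.Agent.Lib.Helper2FPAff
set_option backward.isDefEq.respectTransparency.types false

/-!
# The degree-one part of a graded `q`-morphism out of a symmetric algebra, as a map of modules (helper4)

* `symmetricAlgebra_ι_injective` : `M → Sym_R(M)` is injective;
* `j_app_injective`, `exists_eq_str_of_mem_deg_zero` : for a graded symmetric algebra `(𝒮, j)` of a quasi-coherent module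
  `E`, over an affine open `j` is injective and the degree-zero part is the image of the structure map;
* `retr hj : 𝒮.toModule ⟶ E`, the projection onto the degree-one part followed by the inverse of `j`;
* `degOneMap` : for a graded `q`-morphism `u : Sym(F) → q_* Sym(L)`, the map of modules `ψ : F ⟶ q_* L` with
  `u (jF f) = jL (ψ f)`.
-/

set_option autoImplicit false
set_option linter.style.haveILetI false
set_option linter.unusedSectionVars false
set_option linter.unusedVariables false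
universe u
open CategoryTheory AlgebraicGeometry TopologicalSpace Opposite HomogeneousLocalization
open scoped HomogeneousIdeal

namespace Groth.Agent.Lib.T2H4.RLBridge

open Groth.Agent.Lib.Helper6 Groth.Agent.Lib.Helper23.SecTw Groth.Agent.Lib.T2H4.GrSym
  Groth.Agent.Helper13SymAlg Groth.Agent.Helper13SymLoc Groth.Agent.Lib.T2H4.SymBC Groth.Agent.Helper13ModAffine
  Scheme.AffineZariskiSite

section ring

variable (R M : Type*) [CommRing R] [AddCommGroup M] [Module R M]

/-- the universal map into the symmetric algebra is injective -/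
theorem symmetricAlgebra_ι_injective : Function.Injective (SymmetricAlgebra.ι R M) := by
  letI : Module Rᵐᵒᵖ M := Module.compHom _ ((RingHom.id R).fromOpposite mul_comm)
  haveI : IsCentralScalar R M := ⟨fun r m => rfl⟩
  let f : SymmetricAlgebra R M →ₐ[R] TrivSqZeroExt R M := SymmetricAlgebra.lift (TrivSqZeroExt.inrHom R M)
  intro x y h
  have h1 := congrArg (fun z => (f z).snd) h
  simpa [f] using h1

end ring

section sym

variable {S : Scheme.{u}} (E : S.Modules) [E.IsQuasicoherent] {𝒮 : RelProj.QCGrAlg S} {j : E ⟶ 𝒮.toModule}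
  (hj : RelProj.IsGrSymAlg E 𝒮 j)

include hj in
/-- over an affine open, the structure map of a graded symmetric algebra is injective -/
theorem j_app_injective (U : S.Opens) (hU : IsAffineOpen U) (l l' : Γ(E, U))
    (h : ((j.app U) l : 𝒮.presheaf.obj (op U)) = ((j.app U) l' : 𝒮.presheaf.obj (op U))) : l = l' := by
  have hb := bijective_σ E U hU hj.1
  have h1 : ∀ m : Γ(E, U), σ E 𝒮.toQCAlg j U (SymmetricAlgebra.ι Γ(S, U) Γ(E, U) m) =
      ((j.app U) m : 𝒮.presheaf.obj (op U)) := by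
    intro m
    unfold σ
    rw [symLift_ι]
    rfl
  rw [← h1, ← h1] at h
  exact symmetricAlgebra_ι_injective _ _ (hb.1 h)

include hj in
/-- the degree-zero part of a graded symmetric algebra is the image of the structure map -/
theorem exists_eq_str_of_mem_deg_zero (U : S.Opens) (hU : IsAffineOpen U) {b : 𝒮.presheaf.obj (op U)}
    (hb : b ∈ 𝒮.deg U hU 0) : ∃ c : Γ(S, U), (𝒮.str.app (op U)).hom c = b := by
  obtain ⟨y, hy, rfl⟩ := exists_symDeg_of_mem_deg E hj U hU hb
  unfold symDeg at hy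
  rw [pow_zero] at hy
  obtain ⟨c, rfl⟩ := Submodule.mem_one.mp hy
  refine ⟨c, ?_⟩
  unfold σ
  rw [symLift_algebraMap]

noncomputable section retraction

/-- the retraction of `j` over an affine open, on elements -/
def retrFun (U : S.Opens) (hU : IsAffineOpen U) (w : 𝒮.presheaf.obj (op U)) : Γ(E, U) :=
  Classical.choose (exists_eq_j_app_of_mem_deg_one E hj U hU
    (b := (DirectSum.decompose (𝒮.deg U hU) w 1 : 𝒮.presheaf.obj (op U))) (SetLike.coe_mem _))

theorem j_retrFun (U : S.Opens) (hU : IsAffineOpen U) (w : 𝒮.presheaf.obj (op U)) :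
    ((j.app U) (retrFun E hj U hU w) : 𝒮.presheaf.obj (op U)) =
      (DirectSum.decompose (𝒮.deg U hU) w 1 : 𝒮.presheaf.obj (op U)) :=
  Classical.choose_spec (exists_eq_j_app_of_mem_deg_one E hj U hU
    (b := (DirectSum.decompose (𝒮.deg U hU) w 1 : 𝒮.presheaf.obj (op U))) (SetLike.coe_mem _))

theorem retrFun_add (U : S.Opens) (hU : IsAffineOpen U) (w w' : 𝒮.presheaf.obj (op U)) :
    retrFun E hj U hU (w + w') = retrFun E hj U hU w + retrFun E hj U hU w' := by
  apply j_app_injective E hj U hU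
  rw [map_add]
  rw [j_retrFun, j_retrFun, j_retrFun, DirectSum.decompose_add]
  rfl

/-- the retraction of `j` over an affine open -/
def retrAff (U : S.Opens) (hU : IsAffineOpen U) : Γ(𝒮.toModule, U) ⟶ Γ(E, U) :=
  let f : 𝒮.presheaf.obj (op U) →+ Γ(E, U) := AddMonoidHom.mk' (retrFun E hj U hU) (retrFun_add E hj U hU)
  (AddCommGrpCat.ofHom f : AddCommGrpCat.of (𝒮.presheaf.obj (op U)) ⟶ AddCommGrpCat.of Γ(E, U))

theorem retrAff_apply (U : S.Opens) (hU : IsAffineOpen U) (w : 𝒮.presheaf.obj (op U)) :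
    (retrAff E hj U hU).hom w = retrFun E hj U hU w := rfl

theorem retr_nat {U V : S.AffineZariskiSite} (i : V ⟶ U) :
    𝒮.toModule.presheaf.map (homOfLE (toOpens_mono i.le)).op ≫ retrAff E hj V.1 V.2 =
      retrAff E hj U.1 U.2 ≫ E.presheaf.map (homOfLE (toOpens_mono i.le)).op := by
  ext w
  change retrFun E hj V.1 V.2 ((𝒮.presheaf.map (homOfLE (toOpens_mono i.le)).op).hom w) =
    res E (toOpens_mono i.le) (retrFun E hj U.1 U.2 w)
  apply j_app_injective E hj V.1 V.2
  rw [j_retrFun, ← res_j_app E j U.2 V.2 (toOpens_mono i.le), j_retrFun]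
  exact decompose_res 𝒮 U.2 V.2 (toOpens_mono i.le) w

theorem retr_lin (U : S.Opens) (hU : IsAffineOpen U) (a : Γ(S, U)) (m : Γ(𝒮.toModule, U)) :
    retrAff E hj U hU (a • m) = a • retrAff E hj U hU m := by
  obtain ⟨w, hw⟩ : ∃ w : 𝒮.presheaf.obj (op U), w = m := ⟨m, rfl⟩
  change retrFun E hj U hU ((𝒮.str.app (op U)).hom a * (show 𝒮.presheaf.obj (op U) from m)) =
    a • retrFun E hj U hU (show 𝒮.presheaf.obj (op U) from m)
  rw [← hw]
  apply j_app_injective E hj U hU
  rw [j_retrFun]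
  refine Eq.trans ?_ (j_app_smul E j a (retrFun E hj U hU w)).symm
  have h1 := j_retrFun E hj U hU w
  refine Eq.trans ?_ (congrArg (fun z => (𝒮.str.app (op U)).hom a * z) h1.symm)
  exact decompose_str_mul 𝒮 U hU a w

/-- **the retraction `Sym(E) ⟶ E` of the structure map of a graded symmetric algebra** (projection onto degree one) -/
def retr : 𝒮.toModule ⟶ E :=
  homOfAffine (fun U hU => retrAff E hj U hU) (fun i => retr_nat E hj i) (fun U hU a m => retr_lin E hj U hU a m)

theorem retr_app (U : S.Opens) (hU : IsAffineOpen U) : (retr E hj).app U = retrAff E hj U hU :=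
  homOfAffine_app (fun U hU => retrAff E hj U hU) (fun i => retr_nat E hj i)
    (fun U hU a m => retr_lin E hj U hU a m) U hU

/-- on a degree-one element over an affine open, `j ∘ retr` is the identity -/
theorem j_retr_of_mem (U : S.Opens) (hU : IsAffineOpen U) (w : 𝒮.presheaf.obj (op U))
    (hw : w ∈ 𝒮.deg U hU 1) :
    ((j.app U) (((retr E hj).app U) (show Γ(𝒮.toModule, U) from w)) : 𝒮.presheaf.obj (op U)) = w := by
  rw [retr_app E hj U hU]
  change ((j.app U) (retrFun E hj U hU w) : 𝒮.presheaf.obj (op U)) = w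
  rw [j_retrFun]
  exact DirectSum.decompose_of_mem_same (𝒮.deg U hU) hw

end retraction

end sym

noncomputable section degOne

variable {X Y : Scheme.{u}} (q : X ⟶ Y) (F : Y.Modules) {𝒯 : RelProj.QCGrAlg Y} (jF : F ⟶ 𝒯.toModule)
  (L : X.Modules) [L.IsQuasicoherent] {𝒮L : RelProj.QCGrAlg X} {jL : L ⟶ 𝒮L.toModule}
  (hjL : RelProj.IsGrSymAlg L 𝒮L jL) (u : RelProj.QGrHom q 𝒯 𝒮L)

/-- `u` over an open, as a map between the sections of the underlying modules -/
def uSec (U : Y.Opens) : Γ(𝒯.toModule, U) ⟶ Γ(𝒮L.toModule, q ⁻¹ᵁ U) :=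
  (AddCommGrpCat.ofHom (u.app U).hom.toAddMonoidHom :
    AddCommGrpCat.of (𝒯.presheaf.obj (op U)) ⟶ AddCommGrpCat.of (𝒮L.presheaf.obj (op (q ⁻¹ᵁ U))))

theorem uSec_apply (U : Y.Opens) (x : 𝒯.presheaf.obj (op U)) :
    ((uSec q u U).hom x : 𝒮L.presheaf.obj (op (q ⁻¹ᵁ U))) = (u.app U).hom x := rfl

theorem uSec_res {U V : Y.Opens} (h : V ≤ U) (x : Γ(𝒯.toModule, U)) :
    (uSec q u V).hom (res 𝒯.toModule h x) = res 𝒮L.toModule (q.preimage_mono h) ((uSec q u U).hom x) := by
  have h2 := congrArg (fun t : 𝒯.presheaf.obj (op U) ⟶ _ => t.hom (show 𝒯.presheaf.obj (op U) from x))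
    (u.naturality h)
  simp only [CommRingCat.hom_comp, RingHom.comp_apply] at h2
  exact h2.symm

theorem uSec_smul (U : Y.Opens) (a : Γ(Y, U)) (x : Γ(𝒯.toModule, U)) :
    (uSec q u U).hom (a • x) = (q.app U).hom a • (uSec q u U).hom x := by
  have h2 := congrArg (fun t : Γ(Y, U) ⟶ _ => t.hom a) (u.str_app U)
  simp only [CommRingCat.hom_comp, RingHom.comp_apply] at h2
  change (u.app U).hom ((𝒯.str.app (op U)).hom a * (show 𝒯.presheaf.obj (op U) from x)) =
    (𝒮L.str.app (op (q ⁻¹ᵁ U))).hom ((q.app U).hom a) * (u.app U).hom (show 𝒯.presheaf.obj (op U) from x)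
  rw [map_mul, h2]

/-- the degree-one part of `u` over an open, as a homomorphism of groups -/
def degOneAff (U : Y.Opens) : Γ(F, U) ⟶ Γ((Scheme.Modules.pushforward q).obj L, U) :=
  jF.app U ≫ uSec q u U ≫ (retr L hjL).app (q ⁻¹ᵁ U)

theorem degOneAff_apply (U : Y.Opens) (f : Γ(F, U)) :
    (degOneAff q F jF L hjL u U).hom f = ((retr L hjL).app (q ⁻¹ᵁ U)).hom ((uSec q u U).hom ((jF.app U).hom f)) :=
  rfl

theorem degOneAff_res {U V : Y.Opens} (h : V ≤ U) (f : Γ(F, U)) :
    (degOneAff q F jF L hjL u V).hom (res F h f) =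
      res L (q.preimage_mono h) ((degOneAff q F jF L hjL u U).hom f) := by
  rw [degOneAff_apply, degOneAff_apply]
  have h1 := Groth.Agent.Lib.Helper2.ModExact.app_map jF (homOfLE h) f
  have h3 := Groth.Agent.Lib.Helper2.ModExact.app_map (retr L hjL) (homOfLE (q.preimage_mono h))
    ((uSec q u U).hom ((jF.app U).hom f))
  refine Eq.trans ?_ h3
  congr 1
  refine Eq.trans ?_ (uSec_res q u h _)
  exact congrArg (uSec q u V).hom h1

theorem degOneAff_smul (U : Y.Opens) (a : Γ(Y, U)) (f : Γ(F, U)) :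
    (degOneAff q F jF L hjL u U).hom (a • f) = a • (degOneAff q F jF L hjL u U).hom f := by
  rw [degOneAff_apply, degOneAff_apply]
  have h1 : (jF.app U).hom (a • f) = a • (jF.app U).hom f := Scheme.Modules.Hom.app_smul jF a f
  rw [h1, uSec_smul]
  exact Scheme.Modules.Hom.app_smul (retr L hjL) ((q.app U).hom a) _

theorem degOne_nat {U V : Y.AffineZariskiSite} (i : V ⟶ U) :
    F.presheaf.map (homOfLE (toOpens_mono i.le)).op ≫ degOneAff q F jF L hjL u V.1 =
      degOneAff q F jF L hjL u U.1 ≫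
        ((Scheme.Modules.pushforward q).obj L).presheaf.map (homOfLE (toOpens_mono i.le)).op := by
  ext f
  exact degOneAff_res q F jF L hjL u (toOpens_mono i.le) f

theorem degOne_lin (U : Y.Opens) (hU : IsAffineOpen U) (a : Γ(Y, U)) (m : Γ(F, U)) :
    degOneAff q F jF L hjL u U (a • m) = a • degOneAff q F jF L hjL u U m :=
  degOneAff_smul q F jF L hjL u U a m

/-- **the degree-one part of a graded `q`-morphism `u : Sym(F) → q_* Sym(L)`, as a map of modules `F ⟶ q_* L`** -/
def degOneMap : F ⟶ (Scheme.Modules.pushforward q).obj L :=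
  homOfAffine (fun U _ => degOneAff q F jF L hjL u U) (fun i => degOne_nat q F jF L hjL u i)
    (fun U hU a m => degOne_lin q F jF L hjL u U hU a m)

theorem degOneMap_app (U : Y.Opens) (hU : IsAffineOpen U) :
    (degOneMap q F jF L hjL u).app U = degOneAff q F jF L hjL u U :=
  homOfAffine_app (fun U _ => degOneAff q F jF L hjL u U) (fun i => degOne_nat q F jF L hjL u i)
    (fun U hU a m => degOne_lin q F jF L hjL u U hU a m) U hU

/-- **the defining property of the degree-one part**: `u (jF f) = jL (ψ f)` over affine pairs -/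
theorem appLE_j_eq_j_degOneMap (hjF : ∀ (U : Y.Opens) (hU : IsAffineOpen U) (x : Γ(F, U)),
      ((jF.app U) x : 𝒯.presheaf.obj (op U)) ∈ 𝒯.deg U hU 1)
    (U : Y.Opens) (hU : IsAffineOpen U) (f : Γ(F, U)) (V : X.Opens) (hV : IsAffineOpen V) (hle : V ≤ q ⁻¹ᵁ U) :
    (u.appLE U V hle).hom ((jF.app U) f : 𝒯.presheaf.obj (op U)) =
      ((jL.app V) (res L hle ((degOneMap q F jF L hjL u).app U f)) : 𝒮L.presheaf.obj (op V)) := by
  rw [degOneMap_app q F jF L hjL u U hU]
  change _ = ((jL.app V) (res L hle ((degOneAff q F jF L hjL u U).hom f)) : 𝒮L.presheaf.obj (op V))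
  rw [degOneAff_apply]
  have h3 := Groth.Agent.Lib.Helper2.ModExact.app_map (retr L hjL) (homOfLE hle)
    ((uSec q u U).hom ((jF.app U).hom f))
  have h4 : res L hle (((retr L hjL).app (q ⁻¹ᵁ U)).hom ((uSec q u U).hom ((jF.app U).hom f))) =
      ((retr L hjL).app V) (show Γ(𝒮L.toModule, V) from
        (u.appLE U V hle).hom ((jF.app U) f : 𝒯.presheaf.obj (op U))) := h3.symm
  rw [h4]
  exact (j_retr_of_mem L hjL V hV _ (u.map_mem U hU V hV hle (hjF U hU f))).symm

end degOne

section spanConv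

variable {X : Scheme.{u}} (L : X.Modules) [L.IsQuasicoherent] {𝒮L : RelProj.QCGrAlg X} {jL : L ⟶ 𝒮L.toModule}
  (hjL : RelProj.IsGrSymAlg L 𝒮L jL)

include hjL in
/-- if the degree-one part of `Sym(L)` over an affine open lies in the ideal generated by `jL l₀`, every section of `L`
there is a multiple of `l₀` -/
theorem exists_smul_eq_of_deg_one_subset_span (V : X.Opens) (hV : IsAffineOpen V) (l₀ : Γ(L, V))
    (g : 𝒮L.presheaf.obj (op V)) (hg : g = ((jL.app V) l₀ : 𝒮L.presheaf.obj (op V)))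
    (h : ((𝒮L.deg V hV 1 : AddSubgroup (𝒮L.presheaf.obj (op V))) : Set (𝒮L.presheaf.obj (op V))) ⊆
      (Ideal.span {g} : Set (𝒮L.presheaf.obj (op V)))) (l : Γ(L, V)) :
    ∃ c : Γ(X, V), c • l₀ = l := by
  obtain ⟨b, hbdef⟩ : ∃ b : 𝒮L.presheaf.obj (op V), b = ((jL.app V) l : 𝒮L.presheaf.obj (op V)) := ⟨_, rfl⟩
  have hb : b ∈ 𝒮L.deg V hV 1 := by rw [hbdef]; exact hjL.2 V hV l
  have hg1 : g ∈ 𝒮L.deg V hV 1 := by rw [hg]; exact hjL.2 V hV l₀
  obtain ⟨a, ha⟩ := Ideal.mem_span_singleton'.mp (h hb)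
  have h1 := DirectSum.coe_decompose_mul_add_of_right_mem (𝒮L.deg V hV) (i := 0) (j := 1) (a := a) hg1
  rw [zero_add, ha] at h1
  have h5 := DirectSum.decompose_of_mem_same (𝒮L.deg V hV) hb
  rw [h5] at h1
  obtain ⟨c, hc⟩ := exists_eq_str_of_mem_deg_zero L hjL V hV
    (SetLike.coe_mem (DirectSum.decompose (𝒮L.deg V hV) a 0))
  refine ⟨c, ?_⟩
  apply j_app_injective L hjL V hV
  rw [← hbdef, h1, ← hc, hg]
  exact j_app_smul L jL c l₀

include hjL in
/-- **the span form of "`l₀` generates `L` over `V`" implies the bijectivity form** -/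
theorem isGen_of_deg_one_subset_span (hL : PicF.IsInvertible L) (V : X.Opens) (hV : IsAffineOpen V) (l₀ : Γ(L, V))
    (g : 𝒮L.presheaf.obj (op V)) (hg : g = ((jL.app V) l₀ : 𝒮L.presheaf.obj (op V)))
    (h : ((𝒮L.deg V hV 1 : AddSubgroup (𝒮L.presheaf.obj (op V))) : Set (𝒮L.presheaf.obj (op V))) ⊆
      (Ideal.span {g} : Set (𝒮L.presheaf.obj (op V)))) :
    IsGen L V l₀ := by
  refine Groth.Agent.Lib.Helper20.UFDPic.isGen_of_local L V l₀ (fun x hx => ?_)
  obtain ⟨W₀, e₀, hxW₀, he₀⟩ := exists_gen L hL x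
  obtain ⟨ρ, hρle, hxρ⟩ := hV.exists_basicOpen_le ⟨x, hxW₀⟩ hx
  have hAV : X.basicOpen ρ ≤ V := X.basicOpen_le ρ
  have hgA : IsGen L (X.basicOpen ρ) (res L hρle e₀) := he₀.mono hρle
  obtain ⟨n, t, ht⟩ := Groth.Agent.Lib.Helper2.QCoh.exists_extension hV L ρ (res L hρle e₀)
  obtain ⟨c, hc⟩ := exists_smul_eq_of_deg_one_subset_span L hjL V hV l₀ g hg h t
  have hd := coef_spec hgA le_rfl (res L hAV l₀)
  rw [res_self] at hd
  have ht' : res L hAV t = (resf hAV ρ) ^ n • res L hρle e₀ := ht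
  have h2 : (resf hAV c * coef hgA le_rfl (res L hAV l₀)) • res L hρle e₀ = (resf hAV ρ) ^ n • res L hρle e₀ := by
    rw [mul_smul, hd, ← res_smul, hc, ht']
  have h3 : resf hAV c * coef hgA le_rfl (res L hAV l₀) = (resf hAV ρ) ^ n := by
    apply (hgA _ le_rfl).1
    change (resf hAV c * coef hgA le_rfl (res L hAV l₀)) • res L le_rfl (res L hρle e₀) =
      (resf hAV ρ) ^ n • res L le_rfl (res L hρle e₀)
    rw [res_self]
    exact h2
  have hu : IsUnit (resf hAV ρ) := RingedSpace.isUnit_res_basicOpen _ ρ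
  have hdu : IsUnit (coef hgA le_rfl (res L hAV l₀)) := by
    have h4 : IsUnit (resf hAV c * coef hgA le_rfl (res L hAV l₀)) := by
      rw [h3]
      exact hu.pow n
    exact isUnit_of_mul_isUnit_right h4
  refine ⟨X.basicOpen ρ, hAV, hxρ, ?_⟩
  rw [← hd]
  exact Groth.Agent.Lib.Helper20.UFDPic.isGen_unit_smul hgA _ hdu

end spanConv

end Groth.Agent.Lib.T2H4.RLBridge
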