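import Mathlib
import Groth.Prelude.Def_RelProj4
import Groth.Agent.Lib.T2H4TwistBCA

/-!
# `h^* O_{Proj 𝒜}(n) ≅ O_{Proj ℬ}(n)` for `h` induced by a graded morphism over a morphism of bases (helper4)
-/

set_option autoImplicit false
set_option linter.style.haveILetI false
set_option linter.unusedSectionVars false
universe u
open CategoryTheory Limits AlgebraicGeometry TopologicalSpace Opposite
open scoped HomogeneousIdeal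

namespace Groth.Agent.Lib.T2H4.TwistBC

open Groth.Agent.Lib.Helper2GrModSect
open Groth.Agent.Lib.Helper2.RelTildeQCoh Groth.Agent.Lib.Helper23.SecTw Groth.Agent.Lib.Helper6
  Groth.Agent.Lib.Helper2.Push Groth.Agent.Lib.Helper2.RelTwistGen Groth.Agent.Lib.Helper2.IsGenCover
  Groth.Agent.Lib.Helper2.RelTwistTriv Groth.Agent.Lib.Helper2.RelTwistTensor RelProj
  Groth.Agent.Lib.Helper23.GenLocus Groth.Agent.Lib.Helper2.RelTwistInv Groth.Agent.Lib.Helper23.PB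
  Groth.Agent.Helper13PullbackUnit Groth.Agent.Lib.Helper2.RelTwistPullback

variable {Y Y' PA PB : Scheme.{u}} {ψ : Y' ⟶ Y} {𝒜 : RelProj.QCGrAlg Y} {ℬ : RelProj.QCGrAlg Y'}
  (u : RelProj.QGrHom ψ 𝒜 ℬ)
  (hirr : ∀ (U : Y.Opens) (hU : IsAffineOpen U) (U' : Y'.Opens) (hU' : IsAffineOpen U') (hle : U' ≤ ψ ⁻¹ᵁ U),
      (ℬ.deg U' hU')₊ ≤ ((𝒜.deg U hU)₊).map (u.gradedAt U hU U' hU' hle))
  (pA : PA ⟶ Y) (pB : PB ⟶ Y')
  (chartA : ∀ (U : Y.Opens) (hU : IsAffineOpen U), (((pA ⁻¹ᵁ U : PA.Opens) : Scheme.{u}) ≅ Proj (𝒜.deg U hU)))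
  (chartB : ∀ (U : Y'.Opens) (hU : IsAffineOpen U), (((pB ⁻¹ᵁ U : PB.Opens) : Scheme.{u}) ≅ Proj (ℬ.deg U hU)))
  (h : PB ⟶ PA)
  (hh : ∀ (U : Y.Opens) (hU : IsAffineOpen U) (U' : Y'.Opens) (hU' : IsAffineOpen U') (hle : U' ≤ ψ ⁻¹ᵁ U),
    RelProj.emb pB chartB U' hU' ≫ h =
      Proj.map (u.gradedAt U hU U' hU' hle) (hirr U hU U' hU' hle) ≫ RelProj.emb pA chartA U hU)
  (n : ℤ) (LA : PA.Modules)
  (lamA : ∀ (U : Y.Opens) (hU : IsAffineOpen U),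
    LA ⟶ (Scheme.Modules.pushforward (RelProj.emb pA chartA U hU)).obj (GrTwist.twist (𝒜.deg U hU) n))
  (hLA : RelProj.IsRelTwist 𝒜 pA chartA n LA lamA) (LB : PB.Modules)
  (lamB : ∀ (U : Y'.Opens) (hU : IsAffineOpen U),
    LB ⟶ (Scheme.Modules.pushforward (RelProj.emb pB chartB U hU)).obj (GrTwist.twist (ℬ.deg U hU) n))
  (hLB : RelProj.IsRelTwist ℬ pB chartB n LB lamB)

/-- the index set of the frames: a degree-one frame downstairs and an affine open upstairs over its base -/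
abbrev JIdx (ψ : Y' ⟶ Y) (𝒜 : RelProj.QCGrAlg Y) : Type u :=
  Σ i : Idx 𝒜, {U' : Y'.affineOpens // (U'.1 : Y'.Opens) ≤ ψ ⁻¹ᵁ i.1.1}

include hLA hLB hh in
/-- **`h^* O_{P_𝒜}(n) ≅ O_{P_ℬ}(n)`** for the morphism `h : P_ℬ ⟶ P_𝒜` over `ψ` induced by a graded `ψ`-morphism
`u : 𝒜 ⟶ ψ_* ℬ`, when `𝒜` is generated in degree one. -/
theorem nonempty_pullback_iso (hA : RelProj.IsRelProj 𝒜 pA chartA) (hB : RelProj.IsRelProj ℬ pB chartB)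
    (hpp : h ≫ pA = pB ≫ ψ) (hgen : 𝒜.IsGenDegOne) :
    Nonempty ((Scheme.Modules.pullback h).obj LA ≅ LB) := by
  have hpq : ((n.toNat : ℕ) : ℤ) = ((-n).toNat : ℕ) + n := by omega
  generalize n.toNat = pp at hpq
  generalize (-n).toNat = qq at hpq
  have hT : ∀ (U : Y.Opens) (hU : IsAffineOpen U),
      (GrTwist.twist (𝒜.deg U hU) n).IsQuasicoherent := by
    intro U hU
    have h0 : GrMod.tilde (𝒜.deg U hU) (𝒜.deg U hU) n = GrTwist.twist (𝒜.deg U hU) n := rfl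
    rw [← h0]
    exact Groth.Agent.Lib.Helper2GrModSect.isQuasicoherent_tilde (𝒜.deg U hU) (𝒜.deg U hU) n
  haveI : LA.IsQuasicoherent := isQuasicoherent_of_relCharts pA chartA LA
    (fun U hU => GrTwist.twist (𝒜.deg U hU) n) hT lamA hLA.bijective
  -- frames of `O_{P_𝒜}(n)`
  have hWA : ∀ (i : Idx 𝒜) (k : ℕ)
      (y : ((RelProj.emb pA chartA i.1.1 i.1.2) ⁻¹ᵁ (VF pA chartA i) : (Proj (𝒜.deg i.1.1 i.1.2)).Opens)),
      i.2.1 ^ k ∉ y.1.asHomogeneousIdeal :=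
    fun i k y hmem => not_mem_of_mem_VF pA chartA i y.1 y.2 (y.1.isPrime.mem_of_pow_mem _ hmem)
  have hfrA : ∀ i : Idx 𝒜, ∃ e : Γ(LA, VF pA chartA i), IsGen LA (VF pA chartA i) e ∧
      ∀ y : ((RelProj.emb pA chartA i.1.1 i.1.2) ⁻¹ᵁ (VF pA chartA i) : (Proj (𝒜.deg i.1.1 i.1.2)).Opens),
        GrTwist.val (V := RelProj.emb pA chartA i.1.1 i.1.2 ⁻¹ᵁ (VF pA chartA i))
          ((lamA i.1.1 i.1.2).app (VF pA chartA i) e) y =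
            Localization.mk (i.2.1 ^ pp) ⟨i.2.1 ^ qq, hWA i qq y⟩ :=
    fun i => exists_frame pA chartA n LA lamA hLA i.1.1 i.1.2 (VF pA chartA i) (VF_le pA chartA i)
      (pow_mem_one i.2.2 pp) (pow_mem_one i.2.2 qq) hpq (hWA i pp) (hWA i qq)
  choose EA hEA vEA using hfrA
  -- frames of `O_{P_ℬ}(n)`
  have hWB : ∀ (a : JIdx ψ 𝒜) (k : ℕ)
      (y : ((RelProj.emb pB chartB a.2.1.1 a.2.1.2) ⁻¹ᵁ (h ⁻¹ᵁ (VF pA chartA a.1) ⊓ pB ⁻¹ᵁ a.2.1.1) :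
        (Proj (ℬ.deg a.2.1.1 a.2.1.2)).Opens)),
      u.gradedAt a.1.1.1 a.1.1.2 a.2.1.1 a.2.1.2 a.2.2 (a.1.2.1 ^ k) ∉ y.1.asHomogeneousIdeal := by
    intro a k y hmem
    have h1 : h ((RelProj.emb pB chartB a.2.1.1 a.2.1.2) y.1) ∈ VF pA chartA a.1 := y.2.1
    rw [emb_comp_apply u hirr pA pB chartA chartB h hh a.1.1.1 a.1.1.2 a.2.1.1 a.2.1.2 a.2.2] at h1
    have h2 := not_mem_of_mem_VF pA chartA a.1 _ h1
    apply h2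
    apply (ProjectiveSpectrum.comap (u.gradedAt a.1.1.1 a.1.1.2 a.2.1.1 a.2.1.2 a.2.2)
      (hirr a.1.1.1 a.1.1.2 a.2.1.1 a.2.1.2 a.2.2) y.1).isPrime.mem_of_pow_mem k
    exact hmem
  have hfrB : ∀ a : JIdx ψ 𝒜, ∃ e : Γ(LB, h ⁻¹ᵁ (VF pA chartA a.1) ⊓ pB ⁻¹ᵁ a.2.1.1),
      IsGen LB (h ⁻¹ᵁ (VF pA chartA a.1) ⊓ pB ⁻¹ᵁ a.2.1.1) e ∧
      ∀ y : ((RelProj.emb pB chartB a.2.1.1 a.2.1.2) ⁻¹ᵁ (h ⁻¹ᵁ (VF pA chartA a.1) ⊓ pB ⁻¹ᵁ a.2.1.1) :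
          (Proj (ℬ.deg a.2.1.1 a.2.1.2)).Opens),
        GrTwist.val (V := RelProj.emb pB chartB a.2.1.1 a.2.1.2 ⁻¹ᵁ
            (h ⁻¹ᵁ (VF pA chartA a.1) ⊓ pB ⁻¹ᵁ a.2.1.1))
          ((lamB a.2.1.1 a.2.1.2).app (h ⁻¹ᵁ (VF pA chartA a.1) ⊓ pB ⁻¹ᵁ a.2.1.1) e) y =
            Localization.mk (u.gradedAt a.1.1.1 a.1.1.2 a.2.1.1 a.2.1.2 a.2.2 (a.1.2.1 ^ pp))
              ⟨u.gradedAt a.1.1.1 a.1.1.2 a.2.1.1 a.2.1.2 a.2.2 (a.1.2.1 ^ qq), hWB a qq y⟩ :=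
    fun a => exists_frame pB chartB n LB lamB hLB a.2.1.1 a.2.1.2
      (h ⁻¹ᵁ (VF pA chartA a.1) ⊓ pB ⁻¹ᵁ a.2.1.1) inf_le_right
      ((u.gradedAt a.1.1.1 a.1.1.2 a.2.1.1 a.2.1.2 a.2.2).map_mem (pow_mem_one a.1.2.2 pp))
      ((u.gradedAt a.1.1.1 a.1.1.2 a.2.1.1 a.2.1.2 a.2.2).map_mem (pow_mem_one a.1.2.2 qq)) hpq
      (hWB a pp) (hWB a qq)
  choose EB hEB vEB using hfrB
  have haff : ∀ i : Idx 𝒜, IsAffineOpen (VF pA chartA i) := fun i =>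
    (Proj.isAffineOpen_basicOpen (𝒜.deg i.1.1 i.1.2) i.2.1 i.2.2 one_pos).image_of_isOpenImmersion _
  have hgA : ∀ a : JIdx ψ 𝒜, IsGen ((Scheme.Modules.pullback h).obj LA)
      (h ⁻¹ᵁ (VF pA chartA a.1) ⊓ pB ⁻¹ᵁ a.2.1.1)
      (res ((Scheme.Modules.pullback h).obj LA) inf_le_left (unitSec h LA le_rfl (EA a.1))) :=
    fun a => (isGen_unitSec h LA (haff a.1) (EA a.1) (hEA a.1)).mono inf_le_left
  obtain ⟨Φ, -⟩ := exists_iso_of_frames ((Scheme.Modules.pullback h).obj LA) LB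
    (fun a : JIdx ψ 𝒜 => h ⁻¹ᵁ (VF pA chartA a.1) ⊓ pB ⁻¹ᵁ a.2.1.1)
    (by
      intro x
      obtain ⟨⟨⟨⟨U, hU⟩, ⟨U', hU'⟩⟩, hle⟩, hy⟩ := Groth.Agent.Helper13ProjBC.exists_pair ψ (pB x)
      replace hU : IsAffineOpen U := hU
      replace hU' : IsAffineOpen U' := hU'
      have hxU' : x ∈ pB ⁻¹ᵁ U' := hy
      obtain ⟨y, hy⟩ := le_opensRange_emb pB chartB U' hU' hxU'
      have hy' : (RelProj.emb pB chartB U' hU') y = x := hy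
      obtain ⟨t, ht, hty⟩ := exists_degOne_not_mem_of_gen (𝒜.deg U hU) (hgen U hU)
        (ProjectiveSpectrum.comap (u.gradedAt U hU U' hU' hle) (hirr U hU U' hU' hle) y)
      refine ⟨⟨⟨⟨U, hU⟩, ⟨t, ht⟩⟩, ⟨⟨U', hU'⟩, hle⟩⟩, ?_, hxU'⟩
      change h x ∈ VF pA chartA ⟨⟨U, hU⟩, ⟨t, ht⟩⟩
      rw [← hy', emb_comp_apply u hirr pA pB chartA chartB h hh U hU U' hU' hle]
      exact ⟨_, (ProjectiveSpectrum.mem_basicOpen _ t _).mpr hty, rfl⟩)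
    (fun a => res ((Scheme.Modules.pullback h).obj LA) inf_le_left (unitSec h LA le_rfl (EA a.1)))
    EB hgA hEB
    (by
      intro a b
      obtain ⟨γ, hγ⟩ := exists_transition' (EA a.1) (hEA b.1)
      have hle : (h ⁻¹ᵁ (VF pA chartA a.1) ⊓ pB ⁻¹ᵁ a.2.1.1) ⊓ (h ⁻¹ᵁ (VF pA chartA b.1) ⊓ pB ⁻¹ᵁ b.2.1.1) ≤
          h ⁻¹ᵁ (VF pA chartA a.1 ⊓ VF pA chartA b.1) := fun z hz => ⟨hz.1.1, hz.2.1⟩
      refine cocycle_of_transition (hgA b)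
        (h.appLE (VF pA chartA a.1 ⊓ VF pA chartA b.1) _ hle γ) ?_ ?_
      · rw [res_res, res_res,
          res_unitSec h LA le_rfl hle inf_le_left (inf_le_left.trans inf_le_left),
          res_unitSec h LA le_rfl hle inf_le_right (inf_le_right.trans inf_le_left), hγ, unitSec_smul]
      · exact pullback_transition u hirr pA pB chartA chartB h hh n LA lamA hLA LB lamB hLB hA hB hpp
          a.1.1.1 a.1.1.2 b.1.1.1 b.1.1.2 a.2.1.1 a.2.1.2 b.2.1.1 b.2.1.2 a.2.2 b.2.2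
          (VF pA chartA a.1) (VF pA chartA b.1) (a.1.2.1 ^ pp) (a.1.2.1 ^ qq)
          (b.1.2.1 ^ pp) (b.1.2.1 ^ qq) (hWA a.1 qq) (hWA b.1 qq) (EA a.1) (vEA a.1) (EA b.1) (vEA b.1)
          _ _ inf_le_right inf_le_right (hWB a qq) (hWB b qq) (EB a) (vEB a) (EB b) (vEB b)
          (VF pA chartA a.1 ⊓ VF pA chartA b.1) inf_le_left inf_le_right γ hγ _ inf_le_left inf_le_right hle)
  exact ⟨Φ⟩

end Groth.Agent.Lib.T2H4.TwistBC
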