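import Mathlib
import Groth.Prelude.Def_RelProj4
import Groth.Agent.Lib.T2H4TwistBCB
import Groth.Agent.Lib.T2H4SymBCC
import Groth.Agent.Lib.T2H4GrSymD
import Groth.Agent.Lib.T2H4VeryAmpleC
import Groth.Agent.S12141

/-!
# Relative very ampleness is stable under base change (helper4)
-/

set_option autoImplicit false
set_option linter.style.haveILetI false
set_option linter.unusedSectionVars false
universe u
open CategoryTheory Limits AlgebraicGeometry TopologicalSpace Opposite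
open scoped HomogeneousIdeal

namespace Groth.Agent.Lib.T2H4.VAmpleBC

open Groth.Agent.Lib.T2H4.GrSym Groth.Agent.Lib.T2H4.SymBC Groth.Agent.Lib.T2H4.TwistBC
  Groth.Agent.Helper13ProjBC

/-- **base change of a projective bundle, with its `O(1)`**: for `g : Y' ⟶ Y` and projective-bundle data of `E` on `Y`,
any projective-bundle data of `g^* E` on `Y'` comes with a cartesian square `P' ⟶ P` over `g` pulling `O(1)` back
to `O(1)`. -/
theorem exists_isPullback_twist {Y Y' P P' : Scheme.{u}} (g : Y' ⟶ Y) (E : Y.Modules) (hE : Coh.IsQCoh E)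
    (𝒮 : RelProj.QCGrAlg Y) (j : E ⟶ 𝒮.toModule) (hj : RelProj.IsGrSymAlg E 𝒮 j) (p : P ⟶ Y)
    (chart : ∀ (U : Y.Opens) (hU : IsAffineOpen U), ((p ⁻¹ᵁ U : P.Opens) : Scheme.{u}) ≅ Proj (𝒮.deg U hU))
    (hP : RelProj.IsRelProj 𝒮 p chart) (O1 : P.Modules)
    (lam : ∀ (U : Y.Opens) (hU : IsAffineOpen U),
      O1 ⟶ (Scheme.Modules.pushforward (RelProj.emb p chart U hU)).obj (GrTwist.twist (𝒮.deg U hU) 1))
    (hO1 : RelProj.IsRelTwist 𝒮 p chart 1 O1 lam)
    (𝒮' : RelProj.QCGrAlg Y') (j' : (Scheme.Modules.pullback g).obj E ⟶ 𝒮'.toModule)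
    (hj' : RelProj.IsGrSymAlg ((Scheme.Modules.pullback g).obj E) 𝒮' j') (p' : P' ⟶ Y')
    (chart' : ∀ (U' : Y'.Opens) (hU' : IsAffineOpen U'),
      ((p' ⁻¹ᵁ U' : P'.Opens) : Scheme.{u}) ≅ Proj (𝒮'.deg U' hU'))
    (hP' : RelProj.IsRelProj 𝒮' p' chart') (O1' : P'.Modules)
    (lam' : ∀ (U : Y'.Opens) (hU : IsAffineOpen U),
      O1' ⟶ (Scheme.Modules.pushforward (RelProj.emb p' chart' U hU)).obj (GrTwist.twist (𝒮'.deg U hU) 1))
    (hO1' : RelProj.IsRelTwist 𝒮' p' chart' 1 O1' lam') :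
    ∃ h : P' ⟶ P, IsPullback h p' p g ∧ Nonempty ((Scheme.Modules.pullback h).obj O1 ≅ O1') := by
  haveI : E.IsQuasicoherent := hE
  have hu := isQBaseChange_symQGrHom g E hj hj'
  obtain ⟨⟨h, hh⟩, hpb⟩ := Groth.Agent.S12141.result g 𝒮 𝒮' (symQGrHom g E hj hj') hu p chart hP p' chart' hP'
  have hpbh := hpb h hh
  have hirr := fun (U : Y.Opens) (hU : IsAffineOpen U) (U' : Y'.Opens) (hU' : IsAffineOpen U')
    (hle : U' ≤ g ⁻¹ᵁ U) => hirr_of_isQBaseChange (symQGrHom g E hj hj') hu U hU U' hU' hle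
  refine ⟨h, hpbh, ?_⟩
  exact nonempty_pullback_iso (symQGrHom g E hj hj') hirr p p' chart chart' h
    (fun U hU U' hU' hle => emb_comp_of_isProjQMap (symQGrHom g E hj hj') hh U hU U' hU' hle _)
    1 O1 lam hO1 O1' lam' hO1' hP hP' hpbh.w
    (Groth.Agent.Lib.T2H4.VeryAmple.isGenDegOne_of_isGrSymAlg E hE 𝒮 j hj)

/-- **relative very ampleness is stable under base change** -/
theorem isRelVeryAmple_baseChange {X Y X' Y' : Scheme.{u}} (f : X ⟶ Y) (g : Y' ⟶ Y) (g' : X' ⟶ X)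
    (f' : X' ⟶ Y') (hsq : IsPullback g' f' f g) (L : X.Modules) (hva : RelProj.IsRelVeryAmple f L) :
    RelProj.IsRelVeryAmple f' ((Scheme.Modules.pullback g').obj L) := by
  obtain ⟨E, hE, 𝒮, j, hj, P, p, chart, hP, O1, lam, hO1, i, hi, hip, ⟨e⟩⟩ := hva
  haveI : E.IsQuasicoherent := hE
  have hE' : Coh.IsQCoh ((Scheme.Modules.pullback g).obj E) :=
    Groth.Agent.Lib.Helper2.PullbackSec.isQuasicoherent_pullback g E
  obtain ⟨𝒮', j', hj', P', p', chart', hP', O1', lam', hO1'⟩ := exists_projBundle _ hE'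
  obtain ⟨h, hpbh, ⟨Φ⟩⟩ := exists_isPullback_twist g E hE 𝒮 j hj p chart hP O1 lam hO1 𝒮' j' hj' p' chart' hP'
    O1' lam' hO1'
  have hs : IsPullback g' f' (i ≫ p) g := hip ▸ hsq
  have hleft := IsPullback.of_bot' hs hpbh
  have himm : IsImmersion (hpbh.lift (g' ≫ i) f' (by rw [Category.assoc, hs.w])) :=
    MorphismProperty.of_isPullback (P := @IsImmersion) hleft hi
  have hi'h : hpbh.lift (g' ≫ i) f' (by rw [Category.assoc, hs.w]) ≫ h = g' ≫ i := hpbh.lift_fst _ _ _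
  refine ⟨_, hE', 𝒮', j', hj', P', p', chart', hP', O1', lam', hO1',
    hpbh.lift (g' ≫ i) f' (by rw [Category.assoc, hs.w]), himm, hpbh.lift_snd _ _ _, ⟨?_⟩⟩
  exact (Scheme.Modules.pullback g').mapIso e ≪≫ (Scheme.Modules.pullbackComp g' i).app O1 ≪≫
    (Scheme.Modules.pullbackCongr hi'h.symm).app O1 ≪≫
    ((Scheme.Modules.pullbackComp _ h).app O1).symm ≪≫ (Scheme.Modules.pullback _).mapIso Φ

end Groth.Agent.Lib.T2H4.VAmpleBC
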