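import Mathlib
import Groth.Prelude.Def_RelProj4
import Groth.Agent.Lib.T2H4RLBridgeAC
import Groth.Agent.Lib.T2H4VAmpleBC
set_option backward.isDefEq.respectTransparency.types false

/-!
# Relative very ampleness restricts to opens of the base (helper4)

* `isRelVeryAmple_restrict` : `L` very ample relative to `q : X ⟶ Y` implies `L|q⁻¹(U)` very ample relative to
  `q⁻¹(U) ⟶ U`, for every open `U` of `Y`.
-/

set_option autoImplicit false
set_option linter.style.haveILetI false
set_option linter.unusedSectionVars false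
set_option linter.unusedVariables false
universe u
open CategoryTheory AlgebraicGeometry TopologicalSpace Opposite HomogeneousLocalization
open scoped HomogeneousIdeal

namespace Groth.Agent.Lib.T2H4.RLBridge

open Groth.Agent.Lib.Helper6 Groth.Agent.Lib.Helper23.SecTw Groth.Agent.Lib.T2H4.GrSym

variable {X Y : Scheme.{u}} (q : X ⟶ Y)

/-- **relative very ampleness restricts to opens of the base** -/
theorem isRelVeryAmple_restrict (L : X.Modules) (h : RelProj.IsRelVeryAmple q L) (U : Y.Opens) :
    RelProj.IsRelVeryAmple (q ∣_ U) (L.restrict (q ⁻¹ᵁ U).ι) := by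
  have hsq : IsPullback (q ⁻¹ᵁ U).ι (q ∣_ U) q U.ι := (isPullback_morphismRestrict q U).flip
  have h1 := Groth.Agent.Lib.T2H4.VAmpleBC.isRelVeryAmple_baseChange q U.ι (q ⁻¹ᵁ U).ι (q ∣_ U) hsq L h
  exact isRelVeryAmple_of_iso (q ∣_ U)
    ((Scheme.Modules.restrictFunctorIsoPullback (q ⁻¹ᵁ U).ι).app L).symm h1

end Groth.Agent.Lib.T2H4.RLBridge
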