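import Mathlib
import Groth.Prelude.Def_RelProj4
import Groth.Agent.Lib.T2H4RLBridgeAD
import Groth.Agent.Lib.Helper23Restr
set_option backward.isDefEq.respectTransparency.types false

/-!
# Comparing a framed morphism over `Y` with a framed morphism over an open `U₀ ⊆ Y` (helper4)

* `exists_gradedHom_of_semilinear` : a semilinear map between the sections of two quasi-coherent modules over affine opens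
  of two schemes induces a graded homomorphism between their graded symmetric algebras.
-/

set_option autoImplicit false
set_option linter.style.haveILetI false
set_option linter.unusedSectionVars false
set_option linter.unusedVariables false
universe u
open CategoryTheory AlgebraicGeometry TopologicalSpace Opposite HomogeneousLocalization
open scoped HomogeneousIdeal

namespace Groth.Agent.Lib.T2H4.RLBridge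

open Groth.Agent.Lib.Helper6 Groth.Agent.Lib.Helper23.SecTw Groth.Agent.Lib.T2H4.GrSym
  Groth.Agent.Helper13SymAlg Groth.Agent.Helper13SymLoc Groth.Agent.Lib.T2H4.SymBC
  Groth.Agent.Lib.Helper2.RelTwistTensor Groth.Agent.Lib.Helper23.PB

section graded

variable {Y₁ Y₂ : Scheme.{u}} (E₁ : Y₁.Modules) [E₁.IsQuasicoherent]
  {𝒮₁ : RelProj.QCGrAlg Y₁} {j₁ : E₁ ⟶ 𝒮₁.toModule} (hj₁ : RelProj.IsGrSymAlg E₁ 𝒮₁ j₁)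
  (E₂ : Y₂.Modules) [E₂.IsQuasicoherent] {𝒮₂ : RelProj.QCGrAlg Y₂} {j₂ : E₂ ⟶ 𝒮₂.toModule}
  (hj₂ : RelProj.IsGrSymAlg E₂ 𝒮₂ j₂)

include hj₁ hj₂ in
/-- a semilinear map `Γ(E₁, U₁) → Γ(E₂, U₂)` over affine opens induces a graded homomorphism of the symmetric algebras -/
theorem exists_gradedHom_of_semilinear (U₁ : Y₁.Opens) (hU₁ : IsAffineOpen U₁) (U₂ : Y₂.Opens) (hU₂ : IsAffineOpen U₂)
    (ρ : Γ(Y₁, U₁) →+* Γ(Y₂, U₂)) (ℓ : Γ(E₁, U₁) →+ Γ(E₂, U₂))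
    (hℓ : ∀ (a : Γ(Y₁, U₁)) (m : Γ(E₁, U₁)), ℓ (a • m) = ρ a • ℓ m) :
    ∃ Φ : 𝒮₁.deg U₁ hU₁ →+*ᵍ 𝒮₂.deg U₂ hU₂,
      (∀ s : Γ(Y₁, U₁), Φ ((𝒮₁.str.app (op U₁)).hom s) = (𝒮₂.str.app (op U₂)).hom (ρ s)) ∧
      ∀ m : Γ(E₁, U₁), Φ ((j₁.app U₁) m : 𝒮₁.presheaf.obj (op U₁)) =
        ((j₂.app U₂) (ℓ m) : 𝒮₂.presheaf.obj (op U₂)) := by
  have hb := bijective_σ E₁ U₁ hU₁ hj₁.1
  let eσ : SymmetricAlgebra Γ(Y₁, U₁) Γ(E₁, U₁) ≃+* 𝒮₁.presheaf.obj (op U₁) := RingEquiv.ofBijective _ hb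
  have heσ : ∀ z, eσ z = σ E₁ 𝒮₁.toQCAlg j₁ U₁ z := fun _ => rfl
  let g : Γ(E₁, U₁) →+ 𝒮₂.presheaf.obj (op U₂) := (φAdd E₂ 𝒮₂.toQCAlg j₂ U₂).comp ℓ
  have hg : ∀ (a : Γ(Y₁, U₁)) (m : Γ(E₁, U₁)),
      g (a • m) = ((𝒮₂.str.app (op U₂)).hom.comp ρ) a * g m := by
    intro a m
    change φAdd E₂ 𝒮₂.toQCAlg j₂ U₂ (ℓ (a • m)) = _
    rw [hℓ, φAdd_smul]
    rfl
  let Φ' : SymmetricAlgebra Γ(Y₁, U₁) Γ(E₁, U₁) →+* 𝒮₂.presheaf.obj (op U₂) :=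
    symLift ((𝒮₂.str.app (op U₂)).hom.comp ρ) g hg
  let Φ₀ : 𝒮₁.presheaf.obj (op U₁) →+* 𝒮₂.presheaf.obj (op U₂) := Φ'.comp eσ.symm.toRingHom
  have hΦσ : ∀ z, Φ₀ (σ E₁ 𝒮₁.toQCAlg j₁ U₁ z) = Φ' z := by
    intro z
    change Φ' (eσ.symm (σ E₁ 𝒮₁.toQCAlg j₁ U₁ z)) = Φ' z
    rw [← heσ, RingEquiv.symm_apply_apply]
  have hmem : ∀ {d : ℕ} {x : 𝒮₁.presheaf.obj (op U₁)}, x ∈ 𝒮₁.deg U₁ hU₁ d → Φ₀ x ∈ 𝒮₂.deg U₂ hU₂ d := by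
    intro d x hx
    obtain ⟨y, hy, rfl⟩ := exists_symDeg_of_mem_deg E₁ hj₁ U₁ hU₁ hx
    rw [hΦσ]
    refine map_mem_of_mem_symDeg Γ(Y₁, U₁) Γ(E₁, U₁) (𝒮₂.deg U₂ hU₂) Φ' (fun r => ?_) (fun m => ?_) hy
    · change symLift _ g hg _ ∈ _
      rw [symLift_algebraMap]
      exact 𝒮₂.str_mem U₂ hU₂ (ρ r)
    · change symLift _ g hg _ ∈ _
      rw [symLift_ι]
      exact hj₂.2 U₂ hU₂ (ℓ m)
  refine ⟨{ Φ₀ with map_mem := fun hx => hmem hx }, ?_, ?_⟩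
  · intro s
    have h1 : ((𝒮₁.str.app (op U₁)).hom s : 𝒮₁.presheaf.obj (op U₁)) =
        σ E₁ 𝒮₁.toQCAlg j₁ U₁ (algebraMap Γ(Y₁, U₁) _ s) := by
      unfold σ
      rw [symLift_algebraMap]
    change Φ₀ _ = _
    rw [h1, hΦσ]
    change symLift _ g hg _ = _
    rw [symLift_algebraMap]
    rfl
  · intro m
    have h1 : ((j₁.app U₁) m : 𝒮₁.presheaf.obj (op U₁)) =
        σ E₁ 𝒮₁.toQCAlg j₁ U₁ (SymmetricAlgebra.ι Γ(Y₁, U₁) Γ(E₁, U₁) m) := by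
      unfold σ
      rw [symLift_ι]
      rfl
    change Φ₀ _ = _
    rw [h1, hΦσ]
    change symLift _ g hg _ = _
    rw [symLift_ι]
    rfl

end graded

section crossBase

variable {X Y P P₀ : Scheme.{u}} (q : X ⟶ Y)
  (E : Y.Modules) (hE : Coh.IsQCoh E) (𝒮 : RelProj.QCGrAlg Y) (j : E ⟶ 𝒮.toModule)
  (hj : RelProj.IsGrSymAlg E 𝒮 j) (p : P ⟶ Y)
  (chart : ∀ (U : Y.Opens) (hU : IsAffineOpen U), ((p ⁻¹ᵁ U : P.Opens) : Scheme.{u}) ≅ Proj (𝒮.deg U hU))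
  (hP : RelProj.IsRelProj 𝒮 p chart) (O1 : P.Modules)
  (lam : ∀ (U : Y.Opens) (hU : IsAffineOpen U),
    O1 ⟶ (Scheme.Modules.pushforward (RelProj.emb p chart U hU)).obj (GrTwist.twist (𝒮.deg U hU) 1))
  (hO1 : RelProj.IsRelTwist 𝒮 p chart 1 O1 lam)
  (L : X.Modules) (i : X ⟶ P)
  (ψ : E ⟶ (Scheme.Modules.pushforward q).obj L)
  (hF : IsFramed p chart E j hj O1 lam hO1 q L i (fun U _ e => ψ.app U e))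
  (U₀ : Y.Opens)
  (E₀ : (U₀ : Scheme.{u}).Modules) (hE₀ : Coh.IsQCoh E₀) (𝒮₀ : RelProj.QCGrAlg (U₀ : Scheme.{u}))
  (j₀ : E₀ ⟶ 𝒮₀.toModule) (hj₀ : RelProj.IsGrSymAlg E₀ 𝒮₀ j₀) (p₀ : P₀ ⟶ (U₀ : Scheme.{u}))
  (chart₀ : ∀ (U : (U₀ : Scheme.{u}).Opens) (hU : IsAffineOpen U),
    ((p₀ ⁻¹ᵁ U : P₀.Opens) : Scheme.{u}) ≅ Proj (𝒮₀.deg U hU))
  (hP₀ : RelProj.IsRelProj 𝒮₀ p₀ chart₀) (O1₀ : P₀.Modules)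
  (lam₀ : ∀ (U : (U₀ : Scheme.{u}).Opens) (hU : IsAffineOpen U),
    O1₀ ⟶ (Scheme.Modules.pushforward (RelProj.emb p₀ chart₀ U hU)).obj (GrTwist.twist (𝒮₀.deg U hU) 1))
  (hO1₀ : RelProj.IsRelTwist 𝒮₀ p₀ chart₀ 1 O1₀ lam₀)
  (r₀ : ((q ⁻¹ᵁ U₀ : X.Opens) : Scheme.{u}) ⟶ P₀)
  (ψ₀ : E₀ ⟶ (Scheme.Modules.pushforward (q ∣_ U₀)).obj (L.restrict (q ⁻¹ᵁ U₀).ι))
  (hF₀ : IsFramed p₀ chart₀ E₀ j₀ hj₀ O1₀ lam₀ hO1₀ (q ∣_ U₀) (L.restrict (q ⁻¹ᵁ U₀).ι) r₀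
    (fun U _ e => ψ₀.app U e))
  (κ : ∀ (U' : (U₀ : Scheme.{u}).Opens), Γ(E₀, U') →+ Γ(E, U₀.ι ''ᵁ U'))
  (hκ : ∀ (U' : (U₀ : Scheme.{u}).Opens) (e₀ : Γ(E₀, U')) (W : ((q ⁻¹ᵁ U₀ : X.Opens) : Scheme.{u}).Opens)
    (hW : W ≤ (q ∣_ U₀) ⁻¹ᵁ U') (hW' : (q ⁻¹ᵁ U₀).ι ''ᵁ W ≤ q ⁻¹ᵁ (U₀.ι ''ᵁ U')),
    res L hW' (ψ.app (U₀.ι ''ᵁ U') (κ U' e₀)) =
      res (L.restrict (q ⁻¹ᵁ U₀).ι) hW (ψ₀.app U' e₀))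

theorem image_le_preimage_image (U' : (U₀ : Scheme.{u}).Opens) (W : ((q ⁻¹ᵁ U₀ : X.Opens) : Scheme.{u}).Opens)
    (hW : W ≤ (q ∣_ U₀) ⁻¹ᵁ U') : (q ⁻¹ᵁ U₀).ι ''ᵁ W ≤ q ⁻¹ᵁ (U₀.ι ''ᵁ U') := by
  rw [← image_morphismRestrict_preimage]
  exact (q ⁻¹ᵁ U₀).ι.image_mono hW

include hE hP hF hF₀ hκ in
/-- `r₀⁻¹ D₊(e₀) ⊆ i⁻¹ D₊(κ e₀)` -/
theorem preimage_VF_cross_le (U' : (U₀ : Scheme.{u}).Opens) (hU' : IsAffineOpen U') (e₀ : Γ(E₀, U'))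
    (x : ((q ⁻¹ᵁ U₀ : X.Opens) : Scheme.{u}))
    (hx : x ∈ r₀ ⁻¹ᵁ VF p₀ chart₀ (idxOf E₀ j₀ hj₀ U' hU' e₀)) :
    i ((q ⁻¹ᵁ U₀).ι x) ∈ VF p chart (idxOf E j hj (U₀.ι ''ᵁ U') (hU'.image_of_isOpenImmersion U₀.ι) (κ U' e₀)) := by
  have hWU := hF₀.preimage_VF_le' (idxOf E₀ j₀ hj₀ U' hU' e₀)
  have g1 := hF₀.gen U' hU' e₀ hWU
  simp only at g1
  have hW' := image_le_preimage_image q U₀ U' _ hWU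
  have g2 := isGen_of_isGen_restrict L (q ⁻¹ᵁ U₀) _ _ g1
  rw [← hκ U' e₀ _ hWU hW'] at g2
  have hx' : (q ⁻¹ᵁ U₀).ι x ∈ (q ⁻¹ᵁ U₀).ι ''ᵁ (r₀ ⁻¹ᵁ VF p₀ chart₀ (idxOf E₀ j₀ hj₀ U' hU' e₀)) :=
    Set.mem_image_of_mem _ hx
  exact hF.mem_VF_of_isGen hE hP (U₀.ι ''ᵁ U') (hU'.image_of_isOpenImmersion U₀.ι) (κ U' e₀)
    ((q ⁻¹ᵁ U₀).ι x) _ hx' hW' g2

theorem preimage_le_of_le_preimage_image (U' : (U₀ : Scheme.{u}).Opens) (W : X.Opens)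
    (hW : W ≤ q ⁻¹ᵁ (U₀.ι ''ᵁ U')) : (q ⁻¹ᵁ U₀).ι ⁻¹ᵁ W ≤ (q ∣_ U₀) ⁻¹ᵁ U' := by
  rw [← image_morphismRestrict_preimage] at hW
  have h1 := (q ⁻¹ᵁ U₀).ι.preimage_mono hW
  rwa [Scheme.Hom.preimage_image_eq] at h1

theorem image_preimage_le (W : X.Opens) : (q ⁻¹ᵁ U₀).ι ''ᵁ ((q ⁻¹ᵁ U₀).ι ⁻¹ᵁ W) ≤ W := by
  rw [Scheme.Hom.image_preimage_eq_opensRange_inf]
  exact inf_le_right

include hE₀ hP₀ hF hF₀ hκ in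
/-- `i⁻¹ D₊(κ e₀) ⊆ r₀⁻¹ D₊(e₀)` (inside `q⁻¹ U₀`) -/
theorem preimage_VF_cross_ge (U' : (U₀ : Scheme.{u}).Opens) (hU' : IsAffineOpen U') (e₀ : Γ(E₀, U')) :
    (q ⁻¹ᵁ U₀).ι ⁻¹ᵁ (i ⁻¹ᵁ VF p chart (idxOf E j hj (U₀.ι ''ᵁ U') (hU'.image_of_isOpenImmersion U₀.ι) (κ U' e₀))) ≤
      r₀ ⁻¹ᵁ VF p₀ chart₀ (idxOf E₀ j₀ hj₀ U' hU' e₀) := by
  intro x hx
  have hWU := hF.preimage_VF_le' (idxOf E j hj (U₀.ι ''ᵁ U') (hU'.image_of_isOpenImmersion U₀.ι) (κ U' e₀))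
  have g1 := hF.gen (U₀.ι ''ᵁ U') (hU'.image_of_isOpenImmersion U₀.ι) (κ U' e₀) hWU
  simp only at g1
  have hle := image_preimage_le q U₀
    (i ⁻¹ᵁ VF p chart (idxOf E j hj (U₀.ι ''ᵁ U') (hU'.image_of_isOpenImmersion U₀.ι) (κ U' e₀)))
  have hW₀ := preimage_le_of_le_preimage_image q U₀ U' _ hWU
  have g2 := g1.mono hle
  rw [res_res, hκ U' e₀ _ hW₀ (hle.trans hWU)] at g2
  have g3 := isGen_restrict_of_isGen L (q ⁻¹ᵁ U₀) _ _ g2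
  exact hF₀.mem_VF_of_isGen hE₀ hP₀ U' hU' e₀ x _ hx hW₀ g3

include hE₀ hP hP₀ hF hF₀ hκ in
/-- the functions on `D₊(e₀)` pulled back along `r₀` are pulled back along `i` from `D₊(κ e₀)` -/
theorem appLE_chartFun_cross (U' : (U₀ : Scheme.{u}).Opens) (hU' : IsAffineOpen U') (e₀ : Γ(E₀, U'))
    (hU : IsAffineOpen (U₀.ι ''ᵁ U'))
    (Φ : 𝒮₀.deg U' hU' →+*ᵍ 𝒮.deg (U₀.ι ''ᵁ U') hU)
    (hΦs : ∀ s : Γ((U₀ : Scheme.{u}), U'), Φ ((𝒮₀.str.app (op U')).hom s) = (𝒮.str.app (op (U₀.ι ''ᵁ U'))).hom s)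
    (hΦj : ∀ m : Γ(E₀, U'), Φ ((j₀.app U') m : 𝒮₀.presheaf.obj (op U')) =
      ((j.app (U₀.ι ''ᵁ U')) (κ U' m) : 𝒮.presheaf.obj (op (U₀.ι ''ᵁ U'))))
    (W : ((q ⁻¹ᵁ U₀ : X.Opens) : Scheme.{u}).Opens)
    (hW₀ : W ≤ r₀ ⁻¹ᵁ VF p₀ chart₀ (idxOf E₀ j₀ hj₀ U' hU' e₀))
    (hW : (q ⁻¹ᵁ U₀).ι ''ᵁ W ≤ i ⁻¹ᵁ VF p chart (idxOf E j hj (U₀.ι ''ᵁ U') hU (κ U' e₀)))
    (z : Away (A := 𝒮₀.presheaf.obj (op U')) (𝒮₀.deg U' hU') ((j₀.app U') e₀)) :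
    i.appLE (VF p chart (idxOf E j hj (U₀.ι ''ᵁ U') hU (κ U' e₀))) ((q ⁻¹ᵁ U₀).ι ''ᵁ W) hW
        (chartFun p chart (idxOf E j hj (U₀.ι ''ᵁ U') hU (κ U' e₀))
          (awayMapTo (A := 𝒮₀.presheaf.obj (op U')) (B := 𝒮.presheaf.obj (op (U₀.ι ''ᵁ U'))) Φ (hΦj e₀) z)) =
      r₀.appLE (VF p₀ chart₀ (idxOf E₀ j₀ hj₀ U' hU' e₀)) W hW₀
        (chartFun p₀ chart₀ (idxOf E₀ j₀ hj₀ U' hU' e₀) z) := by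
  set iP := idxOf E j hj (U₀.ι ''ᵁ U') hU (κ U' e₀) with hiP
  set i₀ := idxOf E₀ j₀ hj₀ U' hU' e₀ with hi₀
  have hW₀U : W ≤ (q ∣_ U₀) ⁻¹ᵁ U' := hW₀.trans (hF₀.preimage_VF_le' i₀)
  have hWU : (q ⁻¹ᵁ U₀).ι ''ᵁ W ≤ q ⁻¹ᵁ (U₀.ι ''ᵁ U') := image_le_preimage_image q U₀ U' W hW₀U
  have hDU : VF p chart iP ≤ p ⁻¹ᵁ (U₀.ι ''ᵁ U') := VF_le p chart iP
  have hD₀U : VF p₀ chart₀ i₀ ≤ p₀ ⁻¹ᵁ U' := VF_le p₀ chart₀ i₀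
  have gW₀ : IsGen (L.restrict (q ⁻¹ᵁ U₀).ι) W (res (L.restrict (q ⁻¹ᵁ U₀).ι) hW₀U (ψ₀.app U' e₀)) := by
    have := (hF₀.gen U' hU' e₀ (hF₀.preimage_VF_le' i₀)).mono hW₀
    simp only at this
    rwa [res_res] at this
  have gW : IsGen L ((q ⁻¹ᵁ U₀).ι ''ᵁ W) (res (L.restrict (q ⁻¹ᵁ U₀).ι) hW₀U (ψ₀.app U' e₀)) :=
    isGen_of_isGen_restrict L (q ⁻¹ᵁ U₀) W _ gW₀
  obtain ⟨ρ₂, hρ₂⟩ : ∃ ρ₂ : Away (A := 𝒮₀.presheaf.obj (op U')) (𝒮₀.deg U' hU') ((j₀.app U') e₀) →+*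
      Γ(X, (q ⁻¹ᵁ U₀).ι ''ᵁ W), ∀ z, ρ₂ z = r₀.appLE (VF p₀ chart₀ i₀) W hW₀ (chartFun p₀ chart₀ i₀ z) :=
    ⟨(r₀.appLE (VF p₀ chart₀ i₀) W hW₀).hom.comp (chartFun p₀ chart₀ i₀), fun _ => rfl⟩
  have hρ : (i.appLE (VF p chart iP) ((q ⁻¹ᵁ U₀).ι ''ᵁ W) hW).hom.comp
        ((chartFun p chart iP).comp
          (awayMapTo (A := 𝒮₀.presheaf.obj (op U')) (B := 𝒮.presheaf.obj (op (U₀.ι ''ᵁ U'))) Φ (hΦj e₀))) = ρ₂ := by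
    refine (away_ringHom_ext (A := 𝒮₀.presheaf.obj (op U')) (𝒮₀.deg U' hU')
      (f := ((j₀.app U') e₀ : 𝒮₀.presheaf.obj (op U')))
      (show ((j₀.app U') e₀ : 𝒮₀.presheaf.obj (op U')) ∈ 𝒮₀.deg U' hU' 1 from hj₀.2 U' hU' e₀)
      (Set.range (𝒮₀.str.app (op U')).hom)
      (by rintro _ ⟨s, rfl⟩; exact 𝒮₀.str_mem U' hU' s)
      (Set.range (fun m : Γ(E₀, U') => ((j₀.app U') m : 𝒮₀.presheaf.obj (op U'))))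
      (by rintro _ ⟨m, rfl⟩; exact hj₀.2 U' hU' m)
      (closure_str_j_eq_top E₀ hE₀ 𝒮₀ j₀ hj₀ U' hU')
      ((i.appLE (VF p chart iP) ((q ⁻¹ᵁ U₀).ι ''ᵁ W) hW).hom.comp
        ((chartFun p chart iP).comp
          (awayMapTo (A := 𝒮₀.presheaf.obj (op U')) (B := 𝒮.presheaf.obj (op (U₀.ι ''ᵁ U'))) Φ (hΦj e₀))))
      ρ₂ ?_ ?_ :)
    · rintro _ ⟨s, rfl⟩
      rw [hρ₂]
      change i.appLE _ _ hW (chartFun p chart iP (awayMapTo (A := 𝒮₀.presheaf.obj (op U'))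
        (B := 𝒮.presheaf.obj (op (U₀.ι ''ᵁ U'))) Φ (hΦj e₀) _)) = _
      rw [awayMapTo_amk (A := 𝒮₀.presheaf.obj (op U')) (B := 𝒮.presheaf.obj (op (U₀.ι ''ᵁ U'))) Φ
        (hj₀.2 U' hU' e₀) (hj.2 (U₀.ι ''ᵁ U') hU (κ U' e₀)) (hΦj e₀)]
      have h3 : chartFun p₀ chart₀ i₀
          (amk (𝒮₀.deg U' hU') (hj₀.2 U' hU' e₀) 0 ((𝒮₀.str.app (op U')).hom s) (𝒮₀.str_mem U' hU' s)) =
          p₀.appLE U' (VF p₀ chart₀ i₀) hD₀U s := chartFun_str p₀ chart₀ hP₀ i₀ s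
      have h4 : chartFun p chart iP
          (amk (𝒮.deg (U₀.ι ''ᵁ U') hU) (hj.2 (U₀.ι ''ᵁ U') hU (κ U' e₀)) 0
            ((𝒮.str.app (op (U₀.ι ''ᵁ U'))).hom s) (𝒮.str_mem (U₀.ι ''ᵁ U') hU s)) =
          p.appLE (U₀.ι ''ᵁ U') (VF p chart iP) hDU s := chartFun_str p chart hP iP s
      rw [amk_congr (A := 𝒮.presheaf.obj (op (U₀.ι ''ᵁ U'))) (𝒮.deg (U₀.ι ''ᵁ U') hU)
        (hj.2 (U₀.ι ''ᵁ U') hU (κ U' e₀)) 0 _ (𝒮.str_mem (U₀.ι ''ᵁ U') hU s) (hΦs s)]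
      refine (congrArg _ h4).trans (Eq.trans ?_ (congrArg _ h3).symm)
      refine (appLE_appLE_of_comp hF.comp (U₀.ι ''ᵁ U') _ _ hDU hW hWU s).trans ?_
      refine Eq.trans ?_ (appLE_appLE_of_comp hF₀.comp U' _ _ hD₀U hW₀ hW₀U s).symm
      rw [morphismRestrict_appLE]
      rfl
    · rintro _ ⟨m, rfl⟩
      rw [hρ₂]
      change i.appLE _ _ hW (chartFun p chart iP (awayMapTo (A := 𝒮₀.presheaf.obj (op U'))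
        (B := 𝒮.presheaf.obj (op (U₀.ι ''ᵁ U'))) Φ (hΦj e₀) _)) = _
      rw [awayMapTo_amk (A := 𝒮₀.presheaf.obj (op U')) (B := 𝒮.presheaf.obj (op (U₀.ι ''ᵁ U'))) Φ
        (hj₀.2 U' hU' e₀) (hj.2 (U₀.ι ''ᵁ U') hU (κ U' e₀)) (hΦj e₀),
        amk_congr (A := 𝒮.presheaf.obj (op (U₀.ι ''ᵁ U'))) (𝒮.deg (U₀.ι ''ᵁ U') hU)
          (hj.2 (U₀.ι ''ᵁ U') hU (κ U' e₀)) 1 _ (hj.2 (U₀.ι ''ᵁ U') hU (κ U' m)) (hΦj m)]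
      have hσP : res O1 hDU (sig p chart E j hj O1 lam hO1 (U₀.ι ''ᵁ U') hU (κ U' m)) =
          chartFun p chart iP (amk (𝒮.deg (U₀.ι ''ᵁ U') hU) iP.2.2 1
              ((j.app (U₀.ι ''ᵁ U')) (κ U' m) : 𝒮.presheaf.obj (op (U₀.ι ''ᵁ U')))
              (hj.2 (U₀.ι ''ᵁ U') hU (κ U' m))) •
            res O1 hDU (sig p chart E j hj O1 lam hO1 (U₀.ι ''ᵁ U') hU (κ U' e₀)) := by
        unfold sig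
        rw [res_canonSec_le, res_canonSec_le]
        exact canonSec_eq_chartFun_smul p chart O1 lam hO1 iP (hj.2 (U₀.ι ''ᵁ U') hU (κ U' m))
      have hσ₀ : res O1₀ hD₀U (sig p₀ chart₀ E₀ j₀ hj₀ O1₀ lam₀ hO1₀ U' hU' m) =
          chartFun p₀ chart₀ i₀ (amk (𝒮₀.deg U' hU') i₀.2.2 1
              ((j₀.app U') m : 𝒮₀.presheaf.obj (op U')) (hj₀.2 U' hU' m)) •
            res O1₀ hD₀U (sig p₀ chart₀ E₀ j₀ hj₀ O1₀ lam₀ hO1₀ U' hU' e₀) := by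
        unfold sig
        rw [res_canonSec_le, res_canonSec_le]
        exact canonSec_eq_chartFun_smul p₀ chart₀ O1₀ lam₀ hO1₀ i₀ (hj₀.2 U' hU' m)
      have t1 := hF.trans (U₀.ι ''ᵁ U') hU (κ U' m) (U₀.ι ''ᵁ U') hU (κ U' e₀) _ hDU hDU _ hσP _ hW hWU hWU
      have t2 := hF₀.trans U' hU' m U' hU' e₀ _ hD₀U hD₀U _ hσ₀ _ hW₀ hW₀U hW₀U
      simp only at t1 t2
      rw [hκ U' m W hW₀U hWU, hκ U' e₀ W hW₀U hWU] at t1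
      rw [smul_restrict_eq] at t2
      apply (gW _ le_rfl).1
      simp only
      rw [res_self]
      exact t1.symm.trans t2
  rw [← hρ₂, ← hρ]
  rfl

end crossBase

end Groth.Agent.Lib.T2H4.RLBridge
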