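import Mathlib
import Groth.Prelude.Def_RelProj4
import Groth.Agent.Lib.T2H4RLBridgeAE
set_option backward.isDefEq.respectTransparency.types false

/-!
# Immersions into `P(E)` from immersions of `q⁻¹ U₀` into `P(E₀)` over an open `U₀ ⊆ Y` (helper4)

* `isIso_morphismRestrict_ι` : `V.ι ∣_ W` is an isomorphism when `W ≤ V`;
* `isImmersion_restrict_cross` : in the situation of `appLE_chartFun_cross`, if `r₀` is an immersion then the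
  restriction of `i` over `D₊(κ e₀)` is an immersion.
-/

set_option autoImplicit false
set_option linter.style.haveILetI false
set_option linter.unusedSectionVars false
set_option linter.unusedVariables false
universe u
open CategoryTheory AlgebraicGeometry TopologicalSpace Opposite HomogeneousLocalization
open scoped HomogeneousIdeal

namespace Groth.Agent.Lib.T2H4.RLBridge

open Groth.Agent.Lib.Helper6 Groth.Agent.Lib.Helper23.SecTw Groth.Agent.Lib.T2H4.GrSym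
  Groth.Agent.Helper13SymAlg Groth.Agent.Helper13SymLoc Groth.Agent.Lib.T2H4.SymBC
  Groth.Agent.Lib.Helper2.RelTwistTensor Groth.Agent.Lib.Helper23.PB

theorem isIso_morphismRestrict_ι {X : Scheme.{u}} (V W : X.Opens) (h : W ≤ V) : IsIso (V.ι ∣_ W) := by
  rw [isIso_iff_isOpenImmersion_and_surjective]
  refine ⟨inferInstance, ⟨fun w => ?_⟩⟩
  refine ⟨⟨⟨w.1, h w.2⟩, w.2⟩, ?_⟩
  apply W.ι.injective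
  rw [← Scheme.Hom.comp_apply, morphismRestrict_ι]
  rfl

section crossBase

variable {X Y P P₀ : Scheme.{u}} (q : X ⟶ Y)
  (E : Y.Modules) (hE : Coh.IsQCoh E) (𝒮 : RelProj.QCGrAlg Y) (j : E ⟶ 𝒮.toModule)
  (hj : RelProj.IsGrSymAlg E 𝒮 j) (p : P ⟶ Y)
  (chart : ∀ (U : Y.Opens) (hU : IsAffineOpen U), ((p ⁻¹ᵁ U : P.Opens) : Scheme.{u}) ≅ Proj (𝒮.deg U hU))
  (hP : RelProj.IsRelProj 𝒮 p chart) (O1 : P.Modules)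
  (lam : ∀ (U : Y.Opens) (hU : IsAffineOpen U),
    O1 ⟶ (Scheme.Modules.pushforward (RelProj.emb p chart U hU)).obj (GrTwist.twist (𝒮.deg U hU) 1))
  (hO1 : RelProj.IsRelTwist 𝒮 p chart 1 O1 lam)
  (L : X.Modules) (i : X ⟶ P)
  (ψ : E ⟶ (Scheme.Modules.pushforward q).obj L)
  (hF : IsFramed p chart E j hj O1 lam hO1 q L i (fun U _ e => ψ.app U e))
  (U₀ : Y.Opens)
  (E₀ : (U₀ : Scheme.{u}).Modules) (hE₀ : Coh.IsQCoh E₀) (𝒮₀ : RelProj.QCGrAlg (U₀ : Scheme.{u}))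
  (j₀ : E₀ ⟶ 𝒮₀.toModule) (hj₀ : RelProj.IsGrSymAlg E₀ 𝒮₀ j₀) (p₀ : P₀ ⟶ (U₀ : Scheme.{u}))
  (chart₀ : ∀ (U : (U₀ : Scheme.{u}).Opens) (hU : IsAffineOpen U),
    ((p₀ ⁻¹ᵁ U : P₀.Opens) : Scheme.{u}) ≅ Proj (𝒮₀.deg U hU))
  (hP₀ : RelProj.IsRelProj 𝒮₀ p₀ chart₀) (O1₀ : P₀.Modules)
  (lam₀ : ∀ (U : (U₀ : Scheme.{u}).Opens) (hU : IsAffineOpen U),
    O1₀ ⟶ (Scheme.Modules.pushforward (RelProj.emb p₀ chart₀ U hU)).obj (GrTwist.twist (𝒮₀.deg U hU) 1))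
  (hO1₀ : RelProj.IsRelTwist 𝒮₀ p₀ chart₀ 1 O1₀ lam₀)
  (r₀ : ((q ⁻¹ᵁ U₀ : X.Opens) : Scheme.{u}) ⟶ P₀)
  (ψ₀ : E₀ ⟶ (Scheme.Modules.pushforward (q ∣_ U₀)).obj (L.restrict (q ⁻¹ᵁ U₀).ι))
  (hF₀ : IsFramed p₀ chart₀ E₀ j₀ hj₀ O1₀ lam₀ hO1₀ (q ∣_ U₀) (L.restrict (q ⁻¹ᵁ U₀).ι) r₀
    (fun U _ e => ψ₀.app U e))
  (κ : ∀ (U' : (U₀ : Scheme.{u}).Opens), Γ(E₀, U') →+ Γ(E, U₀.ι ''ᵁ U'))
  (hκ : ∀ (U' : (U₀ : Scheme.{u}).Opens) (e₀ : Γ(E₀, U')) (W : ((q ⁻¹ᵁ U₀ : X.Opens) : Scheme.{u}).Opens)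
    (hW : W ≤ (q ∣_ U₀) ⁻¹ᵁ U') (hW' : (q ⁻¹ᵁ U₀).ι ''ᵁ W ≤ q ⁻¹ᵁ (U₀.ι ''ᵁ U')),
    res L hW' (ψ.app (U₀.ι ''ᵁ U') (κ U' e₀)) =
      res (L.restrict (q ⁻¹ᵁ U₀).ι) hW (ψ₀.app U' e₀))
  (hκs : ∀ (U' : (U₀ : Scheme.{u}).Opens) (a : Γ((U₀ : Scheme.{u}), U')) (m : Γ(E₀, U')),
    κ U' (a • m) = (by exact a : Γ(Y, U₀.ι ''ᵁ U')) • κ U' m)

include hE hE₀ hP hP₀ hF hF₀ hκ hκs in
/-- if `r₀ : q⁻¹ U₀ ⟶ P(E₀)` is an immersion, the restriction of `i : X ⟶ P(E)` over `D₊(κ e₀)` is an immersion -/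
theorem isImmersion_restrict_cross [IsImmersion r₀] (U' : (U₀ : Scheme.{u}).Opens) (hU' : IsAffineOpen U')
    (e₀ : Γ(E₀, U')) :
    IsImmersion (i ∣_ VF p chart (idxOf E j hj (U₀.ι ''ᵁ U') (hU'.image_of_isOpenImmersion U₀.ι) (κ U' e₀))) := by
  haveI : E.IsQuasicoherent := hE
  haveI : E₀.IsQuasicoherent := hE₀
  have hU := hU'.image_of_isOpenImmersion U₀.ι
  obtain ⟨Φ, hΦs, hΦj⟩ := exists_gradedHom_of_semilinear E₀ hj₀ E hj U' hU' (U₀.ι ''ᵁ U') hU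
    (RingHom.id Γ(Y, U₀.ι ''ᵁ U')) (κ U') (hκs U')
  have hΦs' : ∀ s : Γ((U₀ : Scheme.{u}), U'),
      Φ ((𝒮₀.str.app (op U')).hom s) = (𝒮.str.app (op (U₀.ι ''ᵁ U'))).hom s := hΦs
  have hΦj' : ∀ m : Γ(E₀, U'), Φ ((j₀.app U') m : 𝒮₀.presheaf.obj (op U')) =
      ((j.app (U₀.ι ''ᵁ U')) (κ U' m) : 𝒮.presheaf.obj (op (U₀.ι ''ᵁ U'))) := hΦj
  set iP := idxOf E j hj (U₀.ι ''ᵁ U') hU (κ U' e₀) with hiP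
  set i₀ := idxOf E₀ j₀ hj₀ U' hU' e₀ with hi₀
  have hD : IsAffineOpen (VF p chart iP) := isAffineOpen_VF iP
  have hD₀ : IsAffineOpen (VF p₀ chart₀ i₀) := isAffineOpen_VF i₀
  have hW₀ : ((q ⁻¹ᵁ U₀).ι ≫ i) ⁻¹ᵁ VF p chart iP ≤ r₀ ⁻¹ᵁ VF p₀ chart₀ i₀ :=
    preimage_VF_cross_ge q E 𝒮 j hj p chart O1 lam hO1 L i ψ hF U₀ E₀ hE₀ 𝒮₀ j₀ hj₀ p₀ chart₀ hP₀ O1₀ lam₀ hO1₀ r₀
      ψ₀ hF₀ κ hκ U' hU' e₀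
  have hW : (q ⁻¹ᵁ U₀).ι ''ᵁ (((q ⁻¹ᵁ U₀).ι ≫ i) ⁻¹ᵁ VF p chart iP) ≤ i ⁻¹ᵁ VF p chart iP :=
    image_preimage_le q U₀ (i ⁻¹ᵁ VF p chart iP)
  have hWV : i ⁻¹ᵁ VF p chart iP ≤ q ⁻¹ᵁ U₀ := by
    refine (hF.preimage_VF_le' iP).trans ?_
    exact q.preimage_mono (U₀.ι_image_le U')
  let eχ : Away (A := 𝒮₀.presheaf.obj (op U')) (𝒮₀.deg U' hU') ((j₀.app U') e₀) ≃+* Γ(P₀, VF p₀ chart₀ i₀) :=
    RingEquiv.ofBijective (chartFun p₀ chart₀ i₀) (chartFun_bijective p₀ chart₀ i₀)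
  let θ : Γ(P₀, VF p₀ chart₀ i₀) ⟶ Γ(P, VF p chart iP) :=
    CommRingCat.ofHom (((chartFun p chart iP).comp
      (awayMapTo (A := 𝒮₀.presheaf.obj (op U')) (B := 𝒮.presheaf.obj (op (U₀.ι ''ᵁ U'))) Φ (hΦj' e₀))).comp
        eχ.symm.toRingHom)
  have e1 : ((q ⁻¹ᵁ U₀).ι ≫ i).appLE (VF p chart iP) (((q ⁻¹ᵁ U₀).ι ≫ i) ⁻¹ᵁ VF p chart iP) le_rfl =
      i.appLE (VF p chart iP) ((q ⁻¹ᵁ U₀).ι ''ᵁ (((q ⁻¹ᵁ U₀).ι ≫ i) ⁻¹ᵁ VF p chart iP)) hW := by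
    rw [← Scheme.Hom.appLE_comp_appLE (q ⁻¹ᵁ U₀).ι i (VF p chart iP) (i ⁻¹ᵁ VF p chart iP)
      (((q ⁻¹ᵁ U₀).ι ≫ i) ⁻¹ᵁ VF p chart iP) le_rfl le_rfl, Scheme.Opens.ι_appLE]
    exact Scheme.Hom.appLE_map i _ _
  have hθ : θ ≫ ((q ⁻¹ᵁ U₀).ι ≫ i).appLE (VF p chart iP) (((q ⁻¹ᵁ U₀).ι ≫ i) ⁻¹ᵁ VF p chart iP) le_rfl =
      r₀.appLE (VF p₀ chart₀ i₀) (((q ⁻¹ᵁ U₀).ι ≫ i) ⁻¹ᵁ VF p chart iP) hW₀ := by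
    rw [e1]
    ext c
    obtain ⟨z, rfl⟩ := chartFun_surjective p₀ chart₀ i₀ c
    have hz : eχ.symm (chartFun p₀ chart₀ i₀ z) = z := eχ.symm_apply_apply z
    change i.appLE _ _ hW (chartFun p chart iP
      (awayMapTo (A := 𝒮₀.presheaf.obj (op U')) (B := 𝒮.presheaf.obj (op (U₀.ι ''ᵁ U'))) Φ (hΦj' e₀)
        (eχ.symm (chartFun p₀ chart₀ i₀ z)))) = _
    rw [hz]
    exact appLE_chartFun_cross q E 𝒮 j hj p chart hP O1 lam hO1 L i ψ hF U₀ E₀ hE₀ 𝒮₀ j₀ hj₀ p₀ chart₀ hP₀ O1₀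
      lam₀ hO1₀ r₀ ψ₀ hF₀ κ hκ U' hU' e₀ hU Φ hΦs' hΦj' _ hW₀ hW z
  have hcomp := resLE_comp_of_appLE ((q ⁻¹ᵁ U₀).ι ≫ i) r₀ (VF p chart iP) (VF p₀ chart₀ i₀) hD hD₀
    (((q ⁻¹ᵁ U₀).ι ≫ i) ⁻¹ᵁ VF p chart iP) le_rfl hW₀ θ hθ
  have h1 : IsImmersion (((q ⁻¹ᵁ U₀).ι ≫ i).resLE (VF p chart iP) (((q ⁻¹ᵁ U₀).ι ≫ i) ⁻¹ᵁ VF p chart iP) le_rfl ≫
      (hD.isoSpec.hom ≫ Spec.map θ ≫ hD₀.isoSpec.inv)) := by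
    rw [hcomp]
    infer_instance
  have h2 : IsImmersion (((q ⁻¹ᵁ U₀).ι ≫ i).resLE (VF p chart iP) (((q ⁻¹ᵁ U₀).ι ≫ i) ⁻¹ᵁ VF p chart iP) le_rfl) :=
    @IsImmersion.of_comp _ _ _ _ (hD.isoSpec.hom ≫ Spec.map θ ≫ hD₀.isoSpec.inv) h1
  rw [Scheme.Hom.resLE_eq_morphismRestrict, morphismRestrict_comp] at h2
  have hiso := isIso_morphismRestrict_ι (q ⁻¹ᵁ U₀) (i ⁻¹ᵁ VF p chart iP) hWV
  exact (@MorphismProperty.cancel_left_of_respectsIso _ _ @IsImmersion _ _ _ _ _ _ hiso).1 h2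

end crossBase

end Groth.Agent.Lib.T2H4.RLBridge
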