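import Mathlib

/-!
# Bijectivity of a map of degree-zero localizations (helper4)

`away_map_bijective` : `φ : 𝒜 → ℬ` a graded homomorphism factoring as `A ≅ C → B`; if elements of `C` vanishing in `B` are killed
by a power of `g = υ a` and every element of `B`, times a power of `φ a`, lifts to `C`, then `𝒜_(a) → ℬ_(φ a)` is bijective.
-/

set_option autoImplicit false
universe u
open HomogeneousLocalization

namespace Groth.Agent.Lib.T2H4.PowMap

theorem away_map_bijective {A B C : Type u} [CommRing A] [CommRing B] [CommRing C]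
    (𝒜 : ℕ → AddSubgroup A) [GradedRing 𝒜] (ℬ : ℕ → AddSubgroup B) [GradedRing ℬ]
    (φ : 𝒜 →+*ᵍ ℬ) (υ : A →+* C) (hυ : Function.Bijective υ) (ρ : C →+* B) (hρ : ∀ x, ρ (υ x) = φ x)
    {m : ℕ} {a : A} (ha : a ∈ 𝒜 m)
    (hinj : ∀ t : C, ρ t = 0 → ∃ k : ℕ, υ a ^ k * t = 0)
    (hsurj : ∀ b : B, ∃ (k : ℕ) (t' : C), ρ t' = φ a ^ k * b) :
    Function.Bijective (Away.map φ a) := by
  classical
  constructor
  · rw [injective_iff_map_eq_zero]
    intro α hα
    obtain ⟨k, a', ha', rfl⟩ := Away.mk_surjective 𝒜 ha α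
    rw [Away.map_mk] at hα
    have hv := congrArg HomogeneousLocalization.val hα
    rw [Away.val_mk, HomogeneousLocalization.val_zero, Localization.mk_eq_mk',
      IsLocalization.mk'_eq_zero_iff] at hv
    obtain ⟨⟨_, j, rfl⟩, hj⟩ := hv
    have h1 : ρ (υ (a ^ j * a')) = 0 := by
      rw [hρ, map_mul, map_pow]
      exact hj
    obtain ⟨k', hk'⟩ := hinj _ h1
    have h2 : a ^ (k' + j) * a' = 0 := by
      apply hυ.1
      rw [map_zero, pow_add, mul_assoc, map_mul, map_pow]
      exact hk'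
    apply HomogeneousLocalization.val_injective
    rw [Away.val_mk, HomogeneousLocalization.val_zero, Localization.mk_eq_mk',
      IsLocalization.mk'_eq_zero_iff]
    exact ⟨⟨a ^ (k' + j), k' + j, rfl⟩, h2⟩
  · intro β
    obtain ⟨k, b, hb, rfl⟩ := Away.mk_surjective ℬ (φ.map_mem ha) β
    obtain ⟨k', t', ht'⟩ := hsurj b
    obtain ⟨a'', rfl⟩ := hυ.2 t'
    rw [hρ] at ht'
    have hmem : φ a ^ k' * b ∈ ℬ ((k' + k) • m) := by
      have h1 : φ a ^ k' ∈ ℬ (k' • m) := SetLike.pow_mem_graded k' (φ.map_mem ha)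
      have h2 := SetLike.mul_mem_graded h1 hb
      rwa [← add_smul] at h2
    have h3 : φ ((DirectSum.decompose 𝒜 a'' ((k' + k) • m) : 𝒜 ((k' + k) • m)) : A) = φ a ^ k' * b := by
      rw [GradedRingHom.map_directSumDecompose, ht', DirectSum.decompose_of_mem_same _ hmem]
    refine ⟨Away.mk 𝒜 ha (k' + k) _ (SetLike.coe_mem (DirectSum.decompose 𝒜 a'' ((k' + k) • m))), ?_⟩
    rw [Away.map_mk]
    apply HomogeneousLocalization.val_injective
    rw [Away.val_mk, Away.val_mk, Localization.mk_eq_mk_iff, Localization.r_iff_exists]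
    refine ⟨1, ?_⟩
    simp only [OneMemClass.coe_one, one_mul]
    rw [h3]
    change φ a ^ k * (φ a ^ k' * b) = φ a ^ (k' + k) * b
    ring

end Groth.Agent.Lib.T2H4.PowMap
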