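import Mathlib
import Groth.Agent.Lib.T2H4RLBridgeAO
import Groth.Agent.Lib.T2H4RLBridgeAP
import Groth.Agent.Lib.Helper13RLr
import Groth.Agent.Lib.Helper23SecTw7

/-!
# `r_{L,σ}` over an affine open of the base on which `L` is ample (helper4)

`core` : if `L|f⁻¹(V₀)` is ample and `u : 𝒜(V₀) → 𝒮L(f⁻¹V₀)` is bijective, then every point of `PL` over `V₀` lies in `G(u)` and is
mapped by `r` into a standard open `D₊(a) ⊆ Proj 𝒜(V₀)` over which `r` is an isomorphism.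
-/

set_option autoImplicit false
set_option linter.style.haveILetI false
set_option linter.unusedSectionVars false
universe u
open CategoryTheory CategoryTheory.Limits AlgebraicGeometry TopologicalSpace Opposite
open HomogeneousLocalization
open scoped HomogeneousIdeal

namespace Groth.Agent.Lib.T2H4.PowMap
open Groth.Agent.Lib.Helper23.SecTw Groth.Agent.Lib.Helper23.GenLocus Groth.Agent.Lib.Helper6
open Groth.Agent.Helper13RL Groth.Agent.Helper13RelProj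

variable {X : Scheme.{u}}

theorem rs_bijective_of_eq (𝒮 : RelSpec.QCAlg X) {U V : X.Opens} (h : V = U) :
    Function.Bijective (rs 𝒮 h.le) := by
  subst h
  have : ⇑(rs 𝒮 (le_refl V)) = id := by
    funext x
    exact rs_self 𝒮 x
  rw [this]
  exact Function.bijective_id

theorem opensRange_emb' {PL : Scheme.{u}} {𝒮L : RelProj.QCGrAlg X} (pL : PL ⟶ X)
    (chartL : ∀ (U : X.Opens) (hU : IsAffineOpen U),
      (((pL ⁻¹ᵁ U : PL.Opens) : Scheme.{u}) ≅ Proj (𝒮L.deg U hU)))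
    (U : X.Opens) (hU : IsAffineOpen U) :
    (RelProj.emb pL chartL U hU).opensRange = pL ⁻¹ᵁ U := by
  unfold RelProj.emb
  rw [Scheme.Hom.opensRange_comp_of_isIso, Scheme.Opens.opensRange_ι]

section core

variable {Y P PL : Scheme.{u}} (f : X ⟶ Y) (L : X.Modules) [L.IsQuasicoherent] (hL : PicF.IsInvertible L)
  (𝒮L : RelProj.QCGrAlg X) (jL : L ⟶ 𝒮L.toModule) (hjL : RelProj.IsGrSymAlg L 𝒮L jL)
  {pL : PL ⟶ X}
  {chartL : ∀ (U : X.Opens) (hU : IsAffineOpen U),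
    (((pL ⁻¹ᵁ U : PL.Opens) : Scheme.{u}) ≅ Proj (𝒮L.deg U hU))}
  (hPL : RelProj.IsRelProj 𝒮L pL chartL)
  {𝒜 : RelProj.QCGrAlg Y} (u : RelProj.QGrHom f 𝒜 𝒮L)
  {p : P ⟶ Y}
  {chart : ∀ (U : Y.Opens) (hU : IsAffineOpen U),
    (((p ⁻¹ᵁ U : P.Opens) : Scheme.{u}) ≅ Proj (𝒜.deg U hU))}
  (hP : RelProj.IsRelProj 𝒜 p chart)
  {r : ((RelProj.domQ u pL chartL : PL.Opens) : Scheme.{u}) ⟶ P}
  (hr : RelProj.IsProjQMapOn u p chart pL chartL (RelProj.domQ u pL chartL) r)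
  (V₀ : Y.Opens) (hV₀ : IsAffineOpen V₀)

theorem appLE_eq_rs {W U' : X.Opens} (hW : W ≤ f ⁻¹ᵁ V₀) (hU'W : U' ≤ W) (a : 𝒜.presheaf.obj (op V₀)) :
    (u.appLE V₀ U' (hU'W.trans hW)).hom a =
      rs 𝒮L.toQCAlg hU'W (rs 𝒮L.toQCAlg hW ((u.app V₀).hom a)) := by
  rw [rs_rs]
  rfl

include hL hjL hPL hP hr in
/-- **the core statement** -/
theorem core (hamp : CohB1.IsAmple (L.restrict (f ⁻¹ᵁ V₀).ι)) (hu : Function.Bijective (u.app V₀).hom)
    (y : PL) (hy : pL.base y ∈ f ⁻¹ᵁ V₀) :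
    ∃ (n : ℕ) (_ : 0 < n) (a : 𝒜.presheaf.obj (op V₀)) (_ : a ∈ 𝒜.deg V₀ hV₀ n)
      (hyG : y ∈ RelProj.domQ u pL chartL),
      r.base ⟨y, hyG⟩ ∈ (RelProj.emb p chart V₀ hV₀) ''ᵁ Proj.basicOpen (𝒜.deg V₀ hV₀) a ∧
        IsIso (r ∣_ ((RelProj.emb p chart V₀ hV₀) ''ᵁ Proj.basicOpen (𝒜.deg V₀ hV₀) a)) := by
  classical
  -- the open `W = f⁻¹(V₀)` in the form used for sections
  obtain ⟨W, hWdef⟩ : ∃ W : X.Opens, W = (f ⁻¹ᵁ V₀).ι ''ᵁ ⊤ := ⟨_, rfl⟩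
  have hWle : W ≤ f ⁻¹ᵁ V₀ := hWdef ▸ image_top_le _
  have hleW : f ⁻¹ᵁ V₀ ≤ W := hWdef ▸ le_image_top _
  have hWeq : W = f ⁻¹ᵁ V₀ := le_antisymm hWle hleW
  haveI : CompactSpace ((f ⁻¹ᵁ V₀ : X.Opens) : Scheme.{u}) := hamp.2.1
  haveI : QuasiSeparatedSpace ((f ⁻¹ᵁ V₀ : X.Opens) : Scheme.{u}) := quasiSeparatedSpace_of_isAmple _ hamp
  have hWc : IsCompact (W : Set X) := hWdef ▸ isCompact_image_top _
  have hqs : ∀ V V' : X.Opens, IsAffineOpen V → IsAffineOpen V' → V ≤ W → V' ≤ W →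
      IsCompact ((V ⊓ V' : X.Opens) : Set X) := by
    intro V V' hV hV' hVW hVW'
    exact isCompact_inf_of_quasiSeparatedSpace (f ⁻¹ᵁ V₀) V V' hV hV' (hWdef ▸ hVW) (hWdef ▸ hVW')
  -- the section
  obtain ⟨m, hm, σ, D, hDaff, hDW, hyD, hσ⟩ :
      ∃ (m : ℕ) (_ : 0 < m) (σ : Γ(CohB1.tensorPow L m, W)) (D : X.Opens),
        IsAffineOpen D ∧ D ≤ W ∧ pL.base y ∈ D ∧
          ∀ (V : X.Opens) (hV : V ≤ W),
            (IsGen (CohB1.tensorPow L m) V (res (CohB1.tensorPow L m) hV σ) ↔ V ≤ D) := by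
    subst hWdef
    exact exists_section_of_isAmple_restrict L hL (f ⁻¹ᵁ V₀) hamp (pL.base y) hy
  obtain ⟨g, hg⟩ : ∃ g : 𝒮L.presheaf.obj (op W), g = gSec L 𝒮L jL σ := ⟨_, rfl⟩
  have hloc : LocStr 𝒮L.toQCAlg W g D := hg ▸ locStr_gSec L hL 𝒮L jL σ hσ
  -- the bijection `𝒜(V₀) ≅ 𝒮L(W)`
  obtain ⟨υ, hυ⟩ : ∃ υ : 𝒜.presheaf.obj (op V₀) →+* 𝒮L.presheaf.obj (op W),
      υ = (rs 𝒮L.toQCAlg hWle).comp (u.app V₀).hom := ⟨_, rfl⟩
  have hυbij : Function.Bijective υ := by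
    rw [hυ]
    exact (rs_bijective_of_eq 𝒮L.toQCAlg hWeq).comp hu
  have hυapp : ∀ (U' : X.Opens) (hU'W : U' ≤ W) (a : 𝒜.presheaf.obj (op V₀)),
      (u.appLE V₀ U' (hU'W.trans hWle)).hom a = rs 𝒮L.toQCAlg hU'W (υ a) := by
    intro U' hU'W a
    rw [hυ]
    exact appLE_eq_rs f 𝒮L u V₀ hWle hU'W a
  -- the homogeneous element `a`
  obtain ⟨a₀, ha₀⟩ := hυbij.2 g
  obtain ⟨a, haDef⟩ : ∃ a : 𝒜.presheaf.obj (op V₀),
      a = ((DirectSum.decompose (𝒜.deg V₀ hV₀) a₀ m : 𝒜.deg V₀ hV₀ m) : 𝒜.presheaf.obj (op V₀)) := ⟨_, rfl⟩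
  have ha : a ∈ 𝒜.deg V₀ hV₀ m := haDef ▸ SetLike.coe_mem _
  have hgdeg : ∀ (U' : X.Opens) (hU' : IsAffineOpen U') (hU'W : U' ≤ W),
      rs 𝒮L.toQCAlg hU'W g ∈ 𝒮L.deg U' hU' m := by
    intro U' hU' hU'W
    rw [hg]
    exact gSec_mem_deg L hL 𝒮L jL hjL σ hσ U' hU' hU'W
  have hφa : ∀ (U' : X.Opens) (hU' : IsAffineOpen U') (hU'W : U' ≤ W),
      u.gradedAt V₀ hV₀ U' hU' (hU'W.trans hWle) a = rs 𝒮L.toQCAlg hU'W g := by
    intro U' hU' hU'W
    have h1 := GradedRingHom.map_directSumDecompose _ _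
      (u.gradedAt V₀ hV₀ U' hU' (hU'W.trans hWle)) (x := a₀) (i := m)
    rw [haDef]
    refine h1.trans ?_
    have h2 : u.gradedAt V₀ hV₀ U' hU' (hU'W.trans hWle) a₀ = rs 𝒮L.toQCAlg hU'W g := by
      rw [RelProj.QGrHom.gradedAt_apply, hυapp U' hU'W a₀, ha₀]
    rw [h2, DirectSum.decompose_of_mem_same _ (hgdeg U' hU' hU'W)]
  have hυa : υ a = g := by
    refine rs_ext 𝒮L.toQCAlg (fun U' : {U' : X.affineOpens // (U' : X.Opens) ≤ W} => (U'.1 : X.Opens)) W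
      (fun U' => U'.2) ?_ _ _ ?_
    · intro x hx
      obtain ⟨_, ⟨U', hU', rfl⟩, hxU', hle⟩ := X.isBasis_affineOpens.exists_subset_of_mem_open hx W.2
      exact Opens.mem_iSup.mpr ⟨⟨⟨U', hU'⟩, hle⟩, hxU'⟩
    · intro U'
      rw [← hυapp U'.1.1 U'.2 a, ← RelProj.QGrHom.gradedAt_apply u V₀ hV₀ U'.1.1 U'.1.2]
      exact hφa U'.1.1 U'.1.2 U'.2
  -- the chart data
  have hDle : D ≤ f ⁻¹ᵁ V₀ := hDW.trans hWle
  obtain ⟨φ, hφ⟩ : ∃ φ : 𝒜.deg V₀ hV₀ →+*ᵍ 𝒮L.deg D hDaff, φ = u.gradedAt V₀ hV₀ D hDaff hDle := ⟨_, rfl⟩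
  have hφaD : φ a = rs 𝒮L.toQCAlg hDW g := hφ ▸ hφa D hDaff hDW
  have htop : Proj.basicOpen (𝒮L.deg D hDaff) (φ a) = ⊤ := by
    rw [hφaD, hg]
    exact basicOpen_gSec_eq_top L hL 𝒮L jL hjL σ hσ hPL hm D hDaff hDW le_rfl
  -- bijectivity of the map of degree zero localizations
  have hbij : Function.Bijective (Away.map φ a) := by
    refine away_map_bijective (𝒜.deg V₀ hV₀) (𝒮L.deg D hDaff) φ υ hυbij (rs 𝒮L.toQCAlg hDW) ?_ ha ?_ ?_
    · intro x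
      rw [hφ, RelProj.QGrHom.gradedAt_apply, hυapp D hDW x]
    · intro t ht
      rw [hυa]
      have h0 : rs 𝒮L.toQCAlg (inf_le_right : D ⊓ W ≤ W) t = 0 := by
        have := congrArg (rs 𝒮L.toQCAlg (inf_le_left : D ⊓ W ≤ D)) ht
        rw [rs_rs, map_zero] at this
        exact this
      obtain ⟨k, hk⟩ := exists_pow_mul_eq_zero hloc W le_rfl hWc t h0
      rw [rs_self] at hk
      exact ⟨k, hk⟩
    · intro b
      obtain ⟨k, t', ht'⟩ := exists_extension hDW hloc hWc hqs b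
      refine ⟨k, t', ?_⟩
      rw [ht', hφaD]
  -- the preimage of the standard open
  have hpre : (RelProj.domQ u pL chartL).ι ''ᵁ
      (r ⁻¹ᵁ ((RelProj.emb p chart V₀ hV₀) ''ᵁ Proj.basicOpen (𝒜.deg V₀ hV₀) a)) = pL ⁻¹ᵁ D := by
    ext x
    rw [SetLike.mem_coe, mem_image_preimage_basicOpen_iff u hP hPL hr V₀ hV₀ hm ha x]
    constructor
    · rintro ⟨U', hU', hle, z, hz, rfl⟩
      have hU'W : U' ≤ W := hle.trans hleW
      have h1 : u.gradedAt V₀ hV₀ U' hU' hle a = rs 𝒮L.toQCAlg hU'W g := hφa U' hU' hU'W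
      rw [h1, hg] at hz
      exact mem_of_mem_basicOpen_gSec L hL 𝒮L jL hjL σ hσ hPL U' hU' hU'W z hz
    · intro hx
      obtain ⟨z, hz⟩ := exists_chart_point (chartB := chartL) D hDaff x hx
      refine ⟨D, hDaff, hDle, z, ?_, hz⟩
      rw [← hφ, htop]
      trivial
  have hyG : y ∈ RelProj.domQ u pL chartL := by
    have h1 : y ∈ pL ⁻¹ᵁ D := hyD
    rw [← hpre] at h1
    obtain ⟨y', -, hy'⟩ := h1
    rw [← hy']
    exact y'.2
  refine ⟨m, hm, a, ha, hyG, ?_, ?_⟩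
  · have h1 : y ∈ pL ⁻¹ᵁ D := hyD
    rw [← hpre] at h1
    obtain ⟨y', hy'1, hy'⟩ := h1
    have : y' = ⟨y, hyG⟩ := Subtype.ext hy'
    rw [← this]
    exact hy'1
  · -- the chart square
    have hφmem : φ a ∈ 𝒮L.deg D hDaff m := φ.map_mem ha
    have hrange := RelProj.range_awayEmb_subset_domQ u pL chartL V₀ hV₀ D hDaff hDle hm a ha
    have hcomm := hr V₀ hV₀ D hDaff hDle m hm a ha hrange
    have h0 : IsOpenImmersion (RelProj.awayEmb u pL chartL V₀ hV₀ D hDaff hDle hm a ha) := by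
      unfold RelProj.awayEmb; infer_instance
    haveI : IsOpenImmersion (IsOpenImmersion.lift (RelProj.domQ u pL chartL).ι
        (RelProj.awayEmb u pL chartL V₀ hV₀ D hDaff hDle hm a ha) hrange) := by
      have : IsOpenImmersion (IsOpenImmersion.lift (RelProj.domQ u pL chartL).ι
          (RelProj.awayEmb u pL chartL V₀ hV₀ D hDaff hDle hm a ha) hrange ≫
          (RelProj.domQ u pL chartL).ι) := by
        rw [IsOpenImmersion.lift_fac]; exact h0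
      exact IsOpenImmersion.of_comp _ (RelProj.domQ u pL chartL).ι
    have hpb : IsPullback
        (Spec.map (CommRingCat.ofHom (Away.map (u.gradedAt V₀ hV₀ D hDaff hDle) a)))
        (IsOpenImmersion.lift (RelProj.domQ u pL chartL).ι
          (RelProj.awayEmb u pL chartL V₀ hV₀ D hDaff hDle hm a ha) hrange)
        (stdChart p chart V₀ hV₀ hm ha) r := by
      refine IsOpenImmersion.isPullback _ _ _ _ hcomm ?_
      apply (RelProj.domQ u pL chartL).ι.image_injective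
      dsimp only
      rw [opensRange_stdChart, hpre]
      have h1 : (RelProj.awayEmb u pL chartL V₀ hV₀ D hDaff hDle hm a ha).opensRange = pL ⁻¹ᵁ D := by
        unfold RelProj.awayEmb
        rw [Scheme.Hom.opensRange_comp, Proj.opensRange_awayι]
        change (RelProj.emb pL chartL D hDaff) ''ᵁ
          Proj.basicOpen (𝒮L.deg D hDaff) (u.gradedAt V₀ hV₀ D hDaff hDle a) = _
        rw [← hφ, htop, Scheme.Hom.image_top_eq_opensRange, opensRange_emb']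
      apply Opens.ext
      rw [← h1]
      have h2 : (((RelProj.domQ u pL chartL).ι ''ᵁ
          (IsOpenImmersion.lift (RelProj.domQ u pL chartL).ι
            (RelProj.awayEmb u pL chartL V₀ hV₀ D hDaff hDle hm a ha) hrange).opensRange : PL.Opens) : Set PL) =
          Set.range (IsOpenImmersion.lift (RelProj.domQ u pL chartL).ι
            (RelProj.awayEmb u pL chartL V₀ hV₀ D hDaff hDle hm a ha) hrange ≫
            (RelProj.domQ u pL chartL).ι).base := by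
        rw [Scheme.Hom.comp_base, TopCat.coe_comp, Set.range_comp]
        rfl
      rw [h2, IsOpenImmersion.lift_fac]
      rfl
    have hiso : IsIso (Spec.map (CommRingCat.ofHom (Away.map (u.gradedAt V₀ hV₀ D hDaff hDle) a))) := by
      rw [isIso_SpecMap_iff]
      rw [← hφ]
      exact hbij
    have h3 := (restrict_iff_of_isPullback (MorphismProperty.isomorphisms Scheme.{u}) hpb).mpr hiso
    rw [opensRange_stdChart] at h3
    exact h3

end core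

end Groth.Agent.Lib.T2H4.PowMap
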