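import Mathlib
import Groth.Agent.Lib.T2H4RLBridgeAQ
import Groth.Agent.Lib.T2H4RLBridgeAF

/-!
# Open immersions from local isomorphisms; `r_{L,σ}` for a relatively ample `L` (helper4)

* `isOpenImmersion_of_forall_isIso_restrict`
* `domQ_eq_top_and_isOpenImmersion` : `L` ample relative to `f`, `u` bijective over affine opens: `G(u) = PL` and `r` is an
  open immersion
-/

set_option autoImplicit false
set_option linter.style.haveILetI false
set_option linter.unusedSectionVars false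
universe u
open CategoryTheory CategoryTheory.Limits AlgebraicGeometry TopologicalSpace Opposite
open scoped HomogeneousIdeal

namespace Groth.Agent.Lib.T2H4.PowMap

theorem isIso_restrict_of_eq {A B : Scheme.{u}} {r s : A ⟶ B} (h : s = r) (D : B.Opens) (hD : IsIso (r ∣_ D)) :
    IsIso (s ∣_ D) := by
  subst h
  exact hD

/-- a morphism which is an isomorphism over opens of the target whose preimages cover the source is an open immersion -/
theorem isOpenImmersion_of_forall_isIso_restrict {A B : Scheme.{u}} (r : A ⟶ B)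
    (h : ∀ x : A, ∃ D : B.Opens, r.base x ∈ D ∧ IsIso (r ∣_ D)) : IsOpenImmersion r := by
  choose D hxD hD using h
  obtain ⟨O, hO⟩ : ∃ O : B.Opens, O = ⨆ x, D x := ⟨_, rfl⟩
  have hrange : Set.range r.base ⊆ Set.range O.ι.base := by
    rw [Scheme.Opens.range_ι]
    rintro _ ⟨x, rfl⟩
    rw [hO]
    exact Opens.mem_iSup.mpr ⟨x, hxD x⟩
  obtain ⟨r', hr'⟩ : ∃ r' : A ⟶ (O : Scheme.{u}), r' = IsOpenImmersion.lift O.ι r hrange := ⟨_, rfl⟩
  have hfac : r' ≫ O.ι = r := by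
    rw [hr', IsOpenImmersion.lift_fac]
  have hcov : (⨆ x : A, O.ι ⁻¹ᵁ D x) = ⊤ := by
    rw [eq_top_iff]
    intro w _
    have hmem : ∀ z : B, z ∈ O → z ∈ ⨆ x, D x := fun z hz => by
      rw [hO] at hz
      exact hz
    have hw := hmem w.1 w.2
    obtain ⟨x, hx⟩ := Opens.mem_iSup.mp hw
    exact Opens.mem_iSup.mpr ⟨x, hx⟩
  have hiso : IsIso r' := by
    have := (IsZariskiLocalAtTarget.iff_of_iSup_eq_top (P := MorphismProperty.isomorphisms Scheme.{u})
      (f := r') (fun x : A => O.ι ⁻¹ᵁ D x) hcov).mpr ?_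
    · exact this
    · intro x
      have h1 : IsIso ((r' ≫ O.ι) ∣_ D x) := isIso_restrict_of_eq hfac (D x) (hD x)
      rw [morphismRestrict_comp] at h1
      have hle : D x ≤ O := by
        rw [hO]
        exact le_iSup D x
      haveI := Groth.Agent.Lib.T2H4.RLBridge.isIso_morphismRestrict_ι O (D x) hle
      exact @IsIso.of_isIso_comp_right _ _ _ _ _ _ _ this h1
  rw [← hfac]
  infer_instance

section assembly

variable {X Y P PL : Scheme.{u}} (f : X ⟶ Y) (L : X.Modules) [L.IsQuasicoherent] (hL : PicF.IsInvertible L)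
  (𝒮L : RelProj.QCGrAlg X) (jL : L ⟶ 𝒮L.toModule) (hjL : RelProj.IsGrSymAlg L 𝒮L jL)
  {pL : PL ⟶ X}
  {chartL : ∀ (U : X.Opens) (hU : IsAffineOpen U),
    (((pL ⁻¹ᵁ U : PL.Opens) : Scheme.{u}) ≅ Proj (𝒮L.deg U hU))}
  (hPL : RelProj.IsRelProj 𝒮L pL chartL)
  {𝒜 : RelProj.QCGrAlg Y} (u : RelProj.QGrHom f 𝒜 𝒮L)
  {p : P ⟶ Y}
  {chart : ∀ (U : Y.Opens) (hU : IsAffineOpen U),
    (((p ⁻¹ᵁ U : P.Opens) : Scheme.{u}) ≅ Proj (𝒜.deg U hU))}
  (hP : RelProj.IsRelProj 𝒜 p chart)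
  {r : ((RelProj.domQ u pL chartL : PL.Opens) : Scheme.{u}) ⟶ P}
  (hr : RelProj.IsProjQMapOn u p chart pL chartL (RelProj.domQ u pL chartL) r)

include hL hjL hPL hP hr in
/-- if every point of `PL` lies over an affine open `V₀` of `Y` on whose preimage `L` is ample and over which `u` is
bijective, then `G(u) = PL` and `r` is an open immersion -/
theorem domQ_eq_top_and_isOpenImmersion
    (hcov : ∀ y : PL, ∃ (V₀ : Y.Opens) (_ : IsAffineOpen V₀), pL.base y ∈ f ⁻¹ᵁ V₀ ∧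
      CohB1.IsAmple (L.restrict (f ⁻¹ᵁ V₀).ι) ∧ Function.Bijective (u.app V₀).hom) :
    RelProj.domQ u pL chartL = ⊤ ∧ IsOpenImmersion r := by
  refine ⟨?_, ?_⟩
  · rw [eq_top_iff]
    intro y _
    obtain ⟨V₀, hV₀, hy, hamp, hu⟩ := hcov y
    obtain ⟨n, _, a, _, hyG, _, _⟩ := core f L hL 𝒮L jL hjL hPL u hP hr V₀ hV₀ hamp hu y hy
    exact hyG
  · apply isOpenImmersion_of_forall_isIso_restrict r
    intro x
    obtain ⟨V₀, hV₀, hy, hamp, hu⟩ := hcov x.1
    obtain ⟨n, _, a, _, hyG, h1, h2⟩ := core f L hL 𝒮L jL hjL hPL u hP hr V₀ hV₀ hamp hu x.1 hy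
    refine ⟨_, ?_, h2⟩
    have hx : (⟨x.1, hyG⟩ : ((RelProj.domQ u pL chartL : PL.Opens) : Scheme.{u})) = x := Subtype.ext rfl
    rw [hx] at h1
    exact h1

end assembly

end Groth.Agent.Lib.T2H4.PowMap
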