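import Mathlib
import Groth.Agent.Lib.T2H4GrauertC
import Groth.Agent.Lib.T2H4RLBridgeAR

/-!
# The contraction `q : V(L) ⟶ C` is an isomorphism over the standard opens `D(f)` (helper4)

`σ` a section of `L^{⊗m}` (`m > 0`) over `p⁻¹U`, `U` affine, whose generating locus `D` is affine; `g = gSec σ`,
`f = (0, g) ∈ 𝒮'(U)`.

* `awayMap_bijective` : a criterion for `R_f → S_{φ f}` to be bijective
* `q_ι_mem_iff`, `preimage_eq` : `q⁻¹(D(f)) = D(g|D) ⊆ Spec 𝒮L(D)`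
* `isIso_restrict` : `q` is an isomorphism over `D(f)`
-/

set_option autoImplicit false
set_option linter.style.haveILetI false
set_option linter.unusedSectionVars false
universe u
open CategoryTheory CategoryTheory.Limits AlgebraicGeometry TopologicalSpace Opposite
open scoped HomogeneousIdeal

namespace Groth.Agent.Lib.T2H4.Grauert
open Groth.Agent.Lib.T2H4.PowMap Groth.Agent.Helper13SpecQMap Groth.Agent.Helper13RelProj
open Groth.Agent.Lib.Helper27Cone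
open Groth.Agent.Lib.Helper23.SecTw Groth.Agent.Lib.Helper23.GenLocus Groth.Agent.Lib.Helper6
open Groth.Agent.Helper13RL

theorem awayMap_bijective {R S : Type u} [CommRing R] [CommRing S] (φ : R →+* S) (f : R)
    (hinj : ∀ x, φ x = 0 → ∃ k : ℕ, f ^ k * x = 0)
    (hsurj : ∀ b : S, ∃ (k : ℕ) (x : R), φ x = φ f ^ k * b) :
    Function.Bijective (IsLocalization.Away.map (Localization.Away f) (Localization.Away (φ f)) φ f) := by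
  constructor
  · rw [injective_iff_map_eq_zero]
    intro α hα
    obtain ⟨x, ⟨_, n, rfl⟩, rfl⟩ := IsLocalization.exists_mk'_eq (Submonoid.powers f) α
    rw [IsLocalization.Away.map, IsLocalization.map_mk', IsLocalization.mk'_eq_zero_iff] at hα
    rw [IsLocalization.mk'_eq_zero_iff]
    obtain ⟨⟨_, j, rfl⟩, hj⟩ := hα
    have h1 : φ (f ^ j * x) = 0 := by rw [map_mul, map_pow]; exact hj
    obtain ⟨k, hk⟩ := hinj _ h1
    refine ⟨⟨f ^ (k + j), k + j, rfl⟩, ?_⟩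
    change f ^ (k + j) * x = 0
    rw [pow_add, mul_assoc]; exact hk
  · intro β
    obtain ⟨b, ⟨_, n, rfl⟩, rfl⟩ := IsLocalization.exists_mk'_eq (Submonoid.powers (φ f)) β
    obtain ⟨k, x, hx⟩ := hsurj b
    refine ⟨IsLocalization.mk' _ x (⟨f ^ (k + n), k + n, rfl⟩ : Submonoid.powers f), ?_⟩
    rw [IsLocalization.Away.map, IsLocalization.map_mk', IsLocalization.mk'_eq_iff_eq]
    congr 1
    simp only [map_pow]
    rw [hx]
    ring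

noncomputable section

section core

variable {X Y : Scheme.{u}} {p : X ⟶ Y} {𝒜 : RelSpec.QCAlg X} {aug : 𝒜 ⟶ RelSpec.QCAlg.unit X}
  {h : IsQcqsOver p}
  {q : 𝒜.spec ⟶ (fibAlg p 𝒜 aug h).spec} (hq : RelSpec.IsSpecQMap (fibHom p 𝒜 aug h) q)
  (U : Y.Opens) (hU : IsAffineOpen U)

include hq in
theorem q_ι_apply (W' : X.Opens) (hW' : IsAffineOpen W') (hle : W' ≤ p ⁻¹ᵁ U)
    (𝔳 : Spec (𝒜.presheaf.obj (op W'))) :
    q.base ((𝒜.ι W' hW').base 𝔳) =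
      ((fibAlg p 𝒜 aug h).ι U hU).base ((Spec.map ((fibHom p 𝒜 aug h).appLE U W' hle)).base 𝔳) := by
  rw [← Scheme.Hom.comp_apply, hq U hU W' hW' hle]
  rfl

include hq in
/-- points of `q⁻¹(D(f))` in a chart -/
theorem q_ι_mem_iff (f : (fibAlg p 𝒜 aug h).presheaf.obj (op U))
    (W' : X.Opens) (hW' : IsAffineOpen W') (hle : W' ≤ p ⁻¹ᵁ U) (𝔳 : Spec (𝒜.presheaf.obj (op W'))) :
    q.base ((𝒜.ι W' hW').base 𝔳) ∈ (fibAlg p 𝒜 aug h).ι U hU ''ᵁ PrimeSpectrum.basicOpen f ↔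
      rs 𝒜 hle (fibSnd p 𝒜 aug h U f) ∉ 𝔳.asIdeal := by
  rw [q_ι_apply hq U hU W' hW' hle]
  constructor
  · rintro ⟨𝔠, h𝔠, h𝔠'⟩
    have := ((fibAlg p 𝒜 aug h).ι U hU).isOpenEmbedding.injective h𝔠'
    rw [this] at h𝔠
    exact h𝔠
  · intro h1
    exact ⟨_, h1, rfl⟩

/-- points of `q⁻¹(D(f))` lie over `U` -/
theorem π_mem_of_q_mem (v : 𝒜.spec) (hv : (fibAlg p 𝒜 aug h).π.base (q.base v) ∈ U)
    (hqπ : q ≫ (fibAlg p 𝒜 aug h).π = 𝒜.π ≫ p) : 𝒜.π.base v ∈ p ⁻¹ᵁ U := by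
  rw [← Scheme.Hom.comp_apply, hqπ] at hv
  exact hv

end core

section main

variable {X Y : Scheme.{u}} (p : X ⟶ Y) (L : X.Modules) [L.IsQuasicoherent] (hL : PicF.IsInvertible L)
  (𝒮L : RelProj.QCGrAlg X) (jL : L ⟶ 𝒮L.toModule) (hjL : RelProj.IsGrSymAlg L 𝒮L jL)
  (aug : 𝒮L.toQCAlg ⟶ RelSpec.QCAlg.unit X) (haug : RelCone.IsAugmentation 𝒮L aug) (h : IsQcqsOver p)
  {q : 𝒮L.toQCAlg.spec ⟶ (fibAlg p 𝒮L.toQCAlg aug h).spec}
  (hq : RelSpec.IsSpecQMap (fibHom p 𝒮L.toQCAlg aug h) q)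
  (hqπ : q ≫ (fibAlg p 𝒮L.toQCAlg aug h).π = 𝒮L.toQCAlg.π ≫ p)
  (U : Y.Opens) (hU : IsAffineOpen U) {m : ℕ} (hm : 0 < m) (σ : Γ(CohB1.tensorPow L m, p ⁻¹ᵁ U)) {D : X.Opens}
  (hσ : ∀ (V : X.Opens) (hV : V ≤ p ⁻¹ᵁ U),
    IsGen (CohB1.tensorPow L m) V (res (CohB1.tensorPow L m) hV σ) ↔ V ≤ D)
  (hDaff : IsAffineOpen D) (hDW : D ≤ p ⁻¹ᵁ U)
  (f : (fibAlg p 𝒮L.toQCAlg aug h).presheaf.obj (op U))
  (hf1 : fibFst p 𝒮L.toQCAlg aug h U f = 0) (hf2 : fibSnd p 𝒮L.toQCAlg aug h U f = gSec L 𝒮L jL σ)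

include hL hσ hq hqπ hf2 in
/-- `q⁻¹(D(f)) = D(g|D)` -/
theorem preimage_eq :
    q ⁻¹ᵁ ((fibAlg p 𝒮L.toQCAlg aug h).ι U hU ''ᵁ PrimeSpectrum.basicOpen f) =
      𝒮L.toQCAlg.ι D hDaff ''ᵁ PrimeSpectrum.basicOpen (rs 𝒮L.toQCAlg hDW (gSec L 𝒮L jL σ)) := by
  ext v
  constructor
  · intro hv
    have hv' : q.base v ∈ (fibAlg p 𝒮L.toQCAlg aug h).ι U hU ''ᵁ PrimeSpectrum.basicOpen f := hv
    -- `v` lies over `p⁻¹U`
    have h1 : 𝒮L.toQCAlg.π.base v ∈ p ⁻¹ᵁ U := by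
      refine π_mem_of_q_mem U v ?_ hqπ
      obtain ⟨𝔠, -, h𝔠'⟩ := hv'
      have h𝔠'' : ((fibAlg p 𝒮L.toQCAlg aug h).ι U hU).base 𝔠 = q.base v := h𝔠'
      rw [← h𝔠'']
      exact ι_π_mem (fibAlg p 𝒮L.toQCAlg aug h) hU 𝔠
    obtain ⟨_, ⟨W', hW', rfl⟩, hxW', hle⟩ := X.isBasis_affineOpens.exists_subset_of_mem_open h1 (p ⁻¹ᵁ U).2
    replace hW' : IsAffineOpen W' := hW'
    have hle' : W' ≤ p ⁻¹ᵁ U := hle
    obtain ⟨𝔳, rfl⟩ := (mem_range_ι_iff 𝒮L.toQCAlg hW' v).mpr hxW'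
    have h2 := (q_ι_mem_iff hq U hU f W' hW' hle' 𝔳).mp hv'
    rw [hf2] at h2
    have h3 := π_mem_of_not_mem L hL 𝒮L jL σ hσ W' hW' hle' 𝔳 h2
    obtain ⟨𝔳₂, h𝔳₂⟩ := (mem_range_ι_iff 𝒮L.toQCAlg hDaff _).mpr h3
    have h𝔳₂' : (𝒮L.toQCAlg.ι D hDaff).base 𝔳₂ = (𝒮L.toQCAlg.ι W' hW').base 𝔳 := h𝔳₂
    rw [← h𝔳₂'] at hv'
    have h4 := (q_ι_mem_iff hq U hU f D hDaff hDW 𝔳₂).mp hv'
    rw [hf2] at h4
    exact ⟨𝔳₂, h4, h𝔳₂⟩
  · rintro ⟨𝔳₂, h𝔳₂, rfl⟩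
    have h5 : q.base ((𝒮L.toQCAlg.ι D hDaff).base 𝔳₂) ∈
        (fibAlg p 𝒮L.toQCAlg aug h).ι U hU ''ᵁ PrimeSpectrum.basicOpen f := by
      rw [q_ι_mem_iff hq U hU f D hDaff hDW 𝔳₂, hf2]
      exact h𝔳₂
    exact h5

include hL hjL hσ in
/-- `D(g|D)` is the part of the pointed cone over `D` -/
theorem image_basicOpen_eq (hm : 0 < m) :
    𝒮L.toQCAlg.ι D hDaff ''ᵁ PrimeSpectrum.basicOpen (rs 𝒮L.toQCAlg hDW (gSec L 𝒮L jL σ)) =
      RelCone.pointedCone 𝒮L ⊓ 𝒮L.toQCAlg.π ⁻¹ᵁ D := by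
  ext v
  constructor
  · rintro ⟨𝔳, h𝔳, rfl⟩
    refine ⟨?_, ι_π_mem 𝒮L.toQCAlg hDaff 𝔳⟩
    change (𝒮L.toQCAlg.ι D hDaff) 𝔳 ∈ RelCone.pointedCone 𝒮L
    rw [ι_mem_pointedCone_iff]
    exact (not_mem_iff_mem_vertexCompl L hL 𝒮L jL hjL σ hσ hm D hDaff hDW le_rfl 𝔳).mp h𝔳
  · rintro ⟨hv1, hv2⟩
    obtain ⟨𝔳, rfl⟩ := (mem_range_ι_iff 𝒮L.toQCAlg hDaff v).mpr hv2
    have hv1' : (𝒮L.toQCAlg.ι D hDaff) 𝔳 ∈ RelCone.pointedCone 𝒮L := hv1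
    rw [ι_mem_pointedCone_iff] at hv1'
    exact ⟨𝔳, (not_mem_iff_mem_vertexCompl L hL 𝒮L jL hjL σ hσ hm D hDaff hDW le_rfl 𝔳).mpr hv1', rfl⟩

include hL hσ hq hqπ hf1 hf2 hDaff hDW in
/-- `q` is an isomorphism over `D(f)` -/
theorem isIso_restrict :
    IsIso (q ∣_ ((fibAlg p 𝒮L.toQCAlg aug h).ι U hU ''ᵁ PrimeSpectrum.basicOpen f)) := by
  obtain ⟨g, hg⟩ : ∃ g : 𝒮L.presheaf.obj (op (p ⁻¹ᵁ U)), g = gSec L 𝒮L jL σ := ⟨_, rfl⟩
  have hloc : LocStr 𝒮L.toQCAlg (p ⁻¹ᵁ U) g D := hg ▸ locStr_gSec L hL 𝒮L jL σ hσ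
  have hWc : IsCompact ((p ⁻¹ᵁ U : X.Opens) : Set X) := h.isCompact U hU
  have hqs := h.isCompact_inf U hU
  -- the ring map
  obtain ⟨φ, hφ⟩ : ∃ φ : (fibAlg p 𝒮L.toQCAlg aug h).presheaf.obj (op U) →+* 𝒮L.presheaf.obj (op D),
      φ = ((fibHom p 𝒮L.toQCAlg aug h).appLE U D hDW).hom := ⟨_, rfl⟩
  have hφx : ∀ x, φ x = rs 𝒮L.toQCAlg hDW (fibSnd p 𝒮L.toQCAlg aug h U x) := fun x => by rw [hφ]; rfl
  have hφf : φ f = rs 𝒮L.toQCAlg hDW g := by rw [hφx, hf2, hg]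
  have hfpow1 : ∀ k : ℕ, fibFst p 𝒮L.toQCAlg aug h U (f ^ (k + 1)) = 0 := fun k => by
    rw [map_pow, hf1, zero_pow (Nat.succ_ne_zero k)]
  have hfpow2 : ∀ k : ℕ, fibSnd p 𝒮L.toQCAlg aug h U (f ^ k) = g ^ k := fun k => by
    rw [map_pow, hf2, hg]
  have hf2' : fibSnd p 𝒮L.toQCAlg aug h U f = g := by rw [hf2, hg]
  have haugg : augR 𝒮L.toQCAlg aug (p ⁻¹ᵁ U) g = 0 := by
    rw [← hf2', ← fib_compat, hf1, map_zero]
  have hbij : Function.Bijective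
      (IsLocalization.Away.map (Localization.Away f) (Localization.Away (φ f)) φ f) := by
    refine awayMap_bijective φ f ?_ ?_
    · intro x hx
      rw [hφx] at hx
      have h0 : rs 𝒮L.toQCAlg (inf_le_right : D ⊓ p ⁻¹ᵁ U ≤ p ⁻¹ᵁ U) (fibSnd p 𝒮L.toQCAlg aug h U x) = 0 := by
        have := congrArg (rs 𝒮L.toQCAlg (inf_le_left : D ⊓ p ⁻¹ᵁ U ≤ D)) hx
        rw [rs_rs, map_zero] at this
        exact this
      obtain ⟨k, hk⟩ := exists_pow_mul_eq_zero hloc (p ⁻¹ᵁ U) le_rfl hWc _ h0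
      rw [rs_self] at hk
      refine ⟨k + 1, fib_ext p 𝒮L.toQCAlg aug h ?_ ?_⟩
      · rw [map_mul, hfpow1, zero_mul, map_zero]
      · rw [map_mul, hfpow2, map_zero, pow_succ, mul_comm (g ^ k), mul_assoc, hk, mul_zero]
    · intro b
      obtain ⟨k, t', ht'⟩ := exists_extension hDW hloc hWc hqs b
      have hz : augR 𝒮L.toQCAlg aug (p ⁻¹ᵁ U) (g * t') = 0 := by rw [map_mul, haugg, zero_mul]
      refine ⟨k + 1, mkZero p 𝒮L.toQCAlg aug h U (g * t') hz, ?_⟩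
      rw [hφx, fibSnd_mkZero, map_mul, ht', hφf]
      ring
  -- the two open immersions
  obtain ⟨jC, hjC⟩ : ∃ jC : Spec (CommRingCat.of (Localization.Away f)) ⟶ (fibAlg p 𝒮L.toQCAlg aug h).spec,
      jC = Spec.map (CommRingCat.ofHom (algebraMap ((fibAlg p 𝒮L.toQCAlg aug h).presheaf.obj (op U))
        (Localization.Away f))) ≫
        (fibAlg p 𝒮L.toQCAlg aug h).ι U hU := ⟨_, rfl⟩
  obtain ⟨jV, hjV⟩ : ∃ jV : Spec (CommRingCat.of (Localization.Away (φ f))) ⟶ 𝒮L.toQCAlg.spec,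
      jV = Spec.map (CommRingCat.ofHom (algebraMap (𝒮L.presheaf.obj (op D)) (Localization.Away (φ f)))) ≫
        𝒮L.toQCAlg.ι D hDaff := ⟨_, rfl⟩
  have hrC : ∃ _ : IsOpenImmersion jC,
      jC.opensRange = (fibAlg p 𝒮L.toQCAlg aug h).ι U hU ''ᵁ PrimeSpectrum.basicOpen f := by
    subst hjC
    refine ⟨inferInstance, ?_⟩
    rw [Scheme.Hom.opensRange_comp, Scheme.Hom.opensRange_localizationAway]
  have hrV : ∃ _ : IsOpenImmersion jV,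
      jV.opensRange = 𝒮L.toQCAlg.ι D hDaff ''ᵁ PrimeSpectrum.basicOpen (φ f) := by
    subst hjV
    refine ⟨inferInstance, ?_⟩
    rw [Scheme.Hom.opensRange_comp, Scheme.Hom.opensRange_localizationAway]
  obtain ⟨hoC, hrC⟩ := hrC
  obtain ⟨hoV, hrV⟩ := hrV
  have hcomm : jV ≫ q = Spec.map (CommRingCat.ofHom
      (IsLocalization.Away.map (Localization.Away f) (Localization.Away (φ f)) φ f)) ≫ jC := by
    rw [hjV, hjC, Category.assoc, hq U hU D hDaff hDW, ← Category.assoc, ← Category.assoc, ← Spec.map_comp,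
      ← Spec.map_comp]
    congr 2
    refine CommRingCat.hom_ext ?_
    rw [CommRingCat.hom_comp, CommRingCat.hom_comp, CommRingCat.hom_ofHom, CommRingCat.hom_ofHom,
      CommRingCat.hom_ofHom, ← hφ, IsLocalization.Away.map, IsLocalization.map_comp]
  have hpb : IsPullback (Spec.map (CommRingCat.ofHom
      (IsLocalization.Away.map (Localization.Away f) (Localization.Away (φ f)) φ f))) jV jC q := by
    refine IsOpenImmersion.isPullback _ _ _ _ hcomm ?_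
    rw [hrC, hrV, hφf, hg]
    exact preimage_eq p L hL 𝒮L jL aug h hq hqπ U hU σ hσ hDaff hDW f hf2
  have hiso : IsIso (Spec.map (CommRingCat.ofHom
      (IsLocalization.Away.map (Localization.Away f) (Localization.Away (φ f)) φ f))) := by
    rw [isIso_SpecMap_iff]
    exact hbij
  have h3 := (restrict_iff_of_isPullback (MorphismProperty.isomorphisms Scheme.{u}) hpb).mpr hiso
  rw [hrC] at h3
  exact h3

end main

end

end Groth.Agent.Lib.T2H4.Grauert
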