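import Mathlib
import Groth.Agent.Lib.T2H4GrauertD

/-!
# Grauert's criterion, necessity (EGA II 8.9.1) (helper4)

`exists_contraction_of_isRelAmple` : `p : X ⟶ Y` quasi-compact and quasi-separated, `L` invertible and ample relative to `p`,
`V = V(L)` with zero section `j0` and `V0 = V - j0(X)`: there are `C` affine over `Y` with a section `ε` and `q : V ⟶ C` over `Y`
with `j0 ≫ q = p ≫ ε` whose restriction to `V0` is a quasi-compact open immersion with image disjoint from `ε(Y)`.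
-/

set_option autoImplicit false
set_option linter.style.haveILetI false
set_option linter.unusedSectionVars false
universe u
open CategoryTheory CategoryTheory.Limits AlgebraicGeometry TopologicalSpace Opposite
open scoped HomogeneousIdeal

namespace Groth.Agent.Lib.T2H4.Grauert
open Groth.Agent.Lib.T2H4.PowMap Groth.Agent.Helper13SpecQMap Groth.Agent.Helper13RelProj
open Groth.Agent.Lib.Helper27Cone
open Groth.Agent.Lib.Helper23.SecTw Groth.Agent.Lib.Helper23.GenLocus Groth.Agent.Lib.Helper6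
open Groth.Agent.Helper13RL Groth.Agent.Helper13SymAlg
open Groth.Agent.Helper13GrPoly Groth.Agent.Helper13ProjLine

noncomputable section

theorem isQcqsOver_of {X Y : Scheme.{u}} (p : X ⟶ Y) [QuasiCompact p] [QuasiSeparated p] : IsQcqsOver p where
  isCompact _ hU := p.isCompact_preimage hU.isCompact
  isCompact_inf _ hU V V' hV hV' hVU hV'U :=
    (p.isQuasiSeparated_preimage hU.isQuasiSeparated) V V' hVU V.2 hV.isCompact hV'U V'.2 hV'.isCompact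

section qc

variable {X : Scheme.{u}} (L : X.Modules) [L.IsQuasicoherent] (hL : PicF.IsInvertible L)
  (𝒮L : RelProj.QCGrAlg X) (jL : L ⟶ 𝒮L.toModule) (hjL : RelProj.IsGrSymAlg L 𝒮L jL)

include hjL in
/-- over an affine open with a basis of `L`, the complement of the vertex is a basic open -/
theorem vertexCompl_eq_basicOpen {W' : X.Opens} (hW' : IsAffineOpen W')
    (b : Module.Basis (Fin 1) Γ(X, W') Γ(L, W')) :
    ((RelCone.vertexCompl (𝒮L.deg W' hW') : (Spec (𝒮L.presheaf.obj (op W'))).Opens) :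
        Set (Spec (𝒮L.presheaf.obj (op W')))) =
      (PrimeSpectrum.basicOpen (φAdd L 𝒮L.toQCAlg jL W' (b 0)) : Set (PrimeSpectrum (𝒮L.presheaf.obj (op W')))) := by
  have hT1 : φAdd L 𝒮L.toQCAlg jL W' (b 0) ∈ 𝒮L.deg W' hW' 1 := hjL.2 _ hW' (b 0)
  have hpoly := bijective_eval₂ L 𝒮L jL hjL hW' b
  ext 𝔳
  change 𝔳 ∈ RelCone.vertexCompl (𝒮L.deg W' hW') ↔ φAdd L 𝒮L.toQCAlg jL W' (b 0) ∉ 𝔳.asIdeal
  rw [mem_vertexCompl_iff]
  constructor
  · intro h1 h2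
    apply h1
    refine (irrelevant_le_span (𝒮L.deg W' hW') (𝒮L.str.app (op W')).hom (𝒮L.str_mem _ hW') _ hT1 hpoly).trans ?_
    rw [Ideal.span_singleton_le_iff_mem]
    exact h2
  · intro h1 h2
    exact h1 (h2 (HomogeneousIdeal.mem_irrelevant_of_mem _ one_pos hT1))

include hL hjL in
/-- the pointed cone of `V(L)` is quasi-compact over `X` -/
theorem quasiCompact_pointedCone_ι_π (V0 : 𝒮L.toQCAlg.spec.Opens) (hV0 : V0 = RelCone.pointedCone 𝒮L) :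
    QuasiCompact (V0.ι ≫ 𝒮L.toQCAlg.π) := by
  obtain ⟨r, hr⟩ : ∃ r : (V0 : Scheme.{u}) ⟶ X, r = V0.ι ≫ 𝒮L.toQCAlg.π := ⟨_, rfl⟩
  rw [← hr]
  -- the affine opens with a basis
  have hcov : ∀ x : X, ∃ (W' : X.Opens) (_ : IsAffineOpen W'), x ∈ W' ∧
      Nonempty (Module.Basis (Fin 1) Γ(X, W') Γ(L, W')) := fun x => exists_affine_basis L hL x
  choose W' hW' hxW' hb using hcov
  have hsup : (⨆ x, W' x) = ⊤ := by
    rw [eq_top_iff]
    intro x _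
    exact Opens.mem_iSup.mpr ⟨x, hxW' x⟩
  refine (IsZariskiLocalAtTarget.iff_of_iSup_eq_top (P := @QuasiCompact) (f := r) W' hsup).mpr fun x => ?_
  haveI : IsAffine ((W' x : X.Opens) : Scheme.{u}) := hW' x
  rw [HasAffineProperty.iff_of_isAffine (P := @QuasiCompact)]
  obtain ⟨b⟩ := hb x
  suffices hcs : IsCompact ((r ⁻¹ᵁ W' x : (V0 : Scheme.{u}).Opens) : Set (V0 : Scheme.{u})) from
    isCompact_iff_compactSpace.1 hcs
  -- the preimage in `V`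
  have h1 : ((r ⁻¹ᵁ W' x : (V0 : Scheme.{u}).Opens) : Set (V0 : Scheme.{u})) =
      V0.ι.base ⁻¹' ((𝒮L.toQCAlg.ι (W' x) (hW' x)).base ''
        (PrimeSpectrum.basicOpen (φAdd L 𝒮L.toQCAlg jL (W' x) (b 0)) :
          Set (PrimeSpectrum (𝒮L.presheaf.obj (op (W' x)))))) := by
    ext v
    rw [← vertexCompl_eq_basicOpen L 𝒮L jL hjL (hW' x) b]
    constructor
    · intro hv
      have hv' : 𝒮L.toQCAlg.π.base (V0.ι.base v) ∈ W' x := by
        have : r.base v ∈ W' x := hv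
        rw [hr] at this
        exact this
      obtain ⟨𝔳, h𝔳⟩ := (mem_range_ι_iff 𝒮L.toQCAlg (hW' x) _).mpr hv'
      refine ⟨𝔳, ?_, h𝔳⟩
      have h2 : V0.ι.base v ∈ RelCone.pointedCone 𝒮L := by
        rw [← hV0]
        exact v.2
      have h𝔳' : (𝒮L.toQCAlg.ι (W' x) (hW' x)) 𝔳 = V0.ι.base v := h𝔳
      rw [← h𝔳', ι_mem_pointedCone_iff] at h2
      exact h2
    · rintro ⟨𝔳, h𝔳, h𝔳'⟩
      change r.base v ∈ W' x
      rw [hr]
      change 𝒮L.toQCAlg.π.base (V0.ι.base v) ∈ W' x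
      have h𝔳'' : (𝒮L.toQCAlg.ι (W' x) (hW' x)).base 𝔳 = V0.ι.base v := h𝔳'
      rw [← h𝔳'']
      exact ι_π_mem 𝒮L.toQCAlg (hW' x) 𝔳
  rw [h1]
  refine V0.ι.isOpenEmbedding.isInducing.isCompact_preimage' ?_ ?_
  · exact (PrimeSpectrum.isCompact_basicOpen _).image (𝒮L.toQCAlg.ι (W' x) (hW' x)).continuous
  · rintro _ ⟨𝔳, h𝔳, rfl⟩
    rw [Scheme.Opens.range_ι, hV0]
    change (𝒮L.toQCAlg.ι (W' x) (hW' x)) 𝔳 ∈ RelCone.pointedCone 𝒮L
    rw [ι_mem_pointedCone_iff]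
    have := vertexCompl_eq_basicOpen L 𝒮L jL hjL (hW' x) b
    rw [Set.ext_iff] at this
    exact (this 𝔳).mpr h𝔳

end qc

section necessity

variable {X Y : Scheme.{u}} (p : X ⟶ Y) [QuasiCompact p] [QuasiSeparated p]
  (L : X.Modules) [L.IsQuasicoherent] (hL : PicF.IsInvertible L)
  (𝒮L : RelProj.QCGrAlg X) (jL : L ⟶ 𝒮L.toModule) (hjL : RelProj.IsGrSymAlg L 𝒮L jL)
  (h0 : RelCone.StrZeroBij 𝒮L)
  (aug : 𝒮L.toQCAlg ⟶ RelSpec.QCAlg.unit X) (haug : RelCone.IsAugmentation 𝒮L aug)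
  (j0 : X ⟶ 𝒮L.toQCAlg.spec) (hj0 : RelCone.IsVertex 𝒮L aug j0)
  (V0 : 𝒮L.toQCAlg.spec.Opens) (hV0 : (V0 : Set 𝒮L.toQCAlg.spec) = (Set.range j0.base)ᶜ)

include hL hjL h0 haug hj0 hV0 in
/-- every point of `V0` has a standard neighbourhood of its image over which `q` is an isomorphism -/
theorem exists_standard_open (hamp : RelAmple.IsRelAmple p L)
    {q : 𝒮L.toQCAlg.spec ⟶ (fibAlg p 𝒮L.toQCAlg aug (isQcqsOver_of p)).spec}
    (hq : RelSpec.IsSpecQMap (fibHom p 𝒮L.toQCAlg aug (isQcqsOver_of p)) q)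
    (hqπ : q ≫ (fibAlg p 𝒮L.toQCAlg aug (isQcqsOver_of p)).π = 𝒮L.toQCAlg.π ≫ p)
    (v : 𝒮L.toQCAlg.spec) (hv : v ∈ V0) :
    ∃ (U : Y.Opens) (hU : IsAffineOpen U)
      (f : (fibAlg p 𝒮L.toQCAlg aug (isQcqsOver_of p)).presheaf.obj (op U)),
      fibFst p 𝒮L.toQCAlg aug (isQcqsOver_of p) U f = 0 ∧
      q.base v ∈ (fibAlg p 𝒮L.toQCAlg aug (isQcqsOver_of p)).ι U hU ''ᵁ PrimeSpectrum.basicOpen f ∧
      q ⁻¹ᵁ ((fibAlg p 𝒮L.toQCAlg aug (isQcqsOver_of p)).ι U hU ''ᵁ PrimeSpectrum.basicOpen f) ≤ V0 ∧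
      IsIso (q ∣_ ((fibAlg p 𝒮L.toQCAlg aug (isQcqsOver_of p)).ι U hU ''ᵁ PrimeSpectrum.basicOpen f)) := by
  have hV0' : V0 = RelCone.pointedCone 𝒮L := by
    apply Opens.ext
    rw [hV0]
    exact (pointedCone_eq_compl_range 𝒮L aug h0 haug j0 hj0).symm
  obtain ⟨U, hU, hyU, -⟩ := exists_isAffineOpen_mem_and_subset
    (x := p.base (𝒮L.toQCAlg.π.base v)) (U := ⊤) trivial
  have hz : 𝒮L.toQCAlg.π.base v ∈ p ⁻¹ᵁ U := hyU
  obtain ⟨m, hm, σ₀, D, hDaff, hDW₀, hzD, hσ₀⟩ :=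
    exists_section_of_isAmple_restrict L hL (p ⁻¹ᵁ U) (hamp.2 ⟨U, hU⟩) _ hz
  have hDW : D ≤ p ⁻¹ᵁ U := hDW₀.trans (image_top_le _)
  obtain ⟨σ, hσdef⟩ : ∃ σ : Γ(CohB1.tensorPow L m, p ⁻¹ᵁ U),
      σ = res (CohB1.tensorPow L m) (le_image_top (p ⁻¹ᵁ U)) σ₀ := ⟨_, rfl⟩
  have hσ : ∀ (V : X.Opens) (hV : V ≤ p ⁻¹ᵁ U),
      IsGen (CohB1.tensorPow L m) V (res (CohB1.tensorPow L m) hV σ) ↔ V ≤ D := by
    intro V hV
    rw [hσdef, res_res]
    exact hσ₀ V (hV.trans (le_image_top _))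
  have hg0 := augR_gSec L hL 𝒮L jL hjL σ hσ hm aug haug
  obtain ⟨f, hf⟩ : ∃ f : (fibAlg p 𝒮L.toQCAlg aug (isQcqsOver_of p)).presheaf.obj (op U),
      f = mkZero p 𝒮L.toQCAlg aug (isQcqsOver_of p) U (gSec L 𝒮L jL σ) hg0 := ⟨_, rfl⟩
  have hf1 : fibFst p 𝒮L.toQCAlg aug (isQcqsOver_of p) U f = 0 := by rw [hf]; rfl
  have hf2 : fibSnd p 𝒮L.toQCAlg aug (isQcqsOver_of p) U f = gSec L 𝒮L jL σ := by rw [hf]; rfl
  have hpre := preimage_eq p L hL 𝒮L jL aug (isQcqsOver_of p) hq hqπ U hU σ hσ hDaff hDW f hf2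
  have himg := image_basicOpen_eq p L hL 𝒮L jL hjL U σ hσ hDaff hDW hm
  refine ⟨U, hU, f, hf1, ?_, ?_, ?_⟩
  · have h1 : v ∈ q ⁻¹ᵁ ((fibAlg p 𝒮L.toQCAlg aug (isQcqsOver_of p)).ι U hU ''ᵁ PrimeSpectrum.basicOpen f) := by
      rw [hpre, himg]
      exact ⟨hV0' ▸ hv, hzD⟩
    exact h1
  · rw [hpre, himg, hV0']
    exact inf_le_left
  · exact isIso_restrict p L hL 𝒮L jL aug (isQcqsOver_of p) hq hqπ U hU σ hσ hDaff hDW f hf1 hf2

include hL hjL h0 haug hj0 hV0 in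
/-- **Grauert's criterion, necessity** -/
theorem exists_contraction_of_isRelAmple (hamp : RelAmple.IsRelAmple p L) :
    ∃ (C : Scheme.{u}) (g : C ⟶ Y) (ε : Y ⟶ C) (q : 𝒮L.toQCAlg.spec ⟶ C),
      ε ≫ g = 𝟙 Y ∧ q ≫ g = 𝒮L.toQCAlg.π ≫ p ∧ j0 ≫ q = p ≫ ε ∧ IsAffineHom g ∧
        IsOpenImmersion (V0.ι ≫ q) ∧ QuasiCompact (V0.ι ≫ q) ∧
          Set.range (V0.ι ≫ q).base ∩ Set.range ε.base = ∅ := by
  obtain ⟨q, hq, hqπ⟩ := exists_contraction p 𝒮L.toQCAlg aug (isQcqsOver_of p)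
  have hV0' : V0 = RelCone.pointedCone 𝒮L := by
    apply Opens.ext
    rw [hV0]
    exact (pointedCone_eq_compl_range 𝒮L aug h0 haug j0 hj0).symm
  have hstd := exists_standard_open p L hL 𝒮L jL hjL h0 aug haug j0 hj0 V0 hV0 hamp hq hqπ
  refine ⟨_, (fibAlg p 𝒮L.toQCAlg aug (isQcqsOver_of p)).π, coneε p 𝒮L.toQCAlg aug (isQcqsOver_of p), q,
    coneε_π _ _ _ _, hqπ, ?_, inferInstance, ?_, ?_, ?_⟩
  · exact comp_vertex hq j0 (fun W' hW' => hj0.chart W' hW')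
  · refine isOpenImmersion_of_forall_isIso_restrict _ fun x => ?_
    obtain ⟨U, hU, f, -, hmem, hle, hiso⟩ := hstd (V0.ι.base x) x.2
    refine ⟨_, hmem, ?_⟩
    rw [morphismRestrict_comp]
    have h1 := Groth.Agent.Lib.T2H4.RLBridge.isIso_morphismRestrict_ι V0 _ hle
    exact @IsIso.comp_isIso _ _ _ _ _ _ _ h1 hiso
  · haveI : QuasiCompact (V0.ι ≫ 𝒮L.toQCAlg.π) := quasiCompact_pointedCone_ι_π L hL 𝒮L jL hjL V0 hV0'
    haveI : QuasiCompact ((V0.ι ≫ q) ≫ (fibAlg p 𝒮L.toQCAlg aug (isQcqsOver_of p)).π) := by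
      rw [Category.assoc, hqπ, ← Category.assoc]
      infer_instance
    exact QuasiCompact.of_comp (V0.ι ≫ q) (fibAlg p 𝒮L.toQCAlg aug (isQcqsOver_of p)).π
  · rw [Set.eq_empty_iff_forall_notMem]
    rintro c ⟨⟨x, rfl⟩, hc⟩
    obtain ⟨U, hU, f, hf1, hmem, -, -⟩ := hstd (V0.ι.base x) x.2
    exact not_mem_range_ε_of_mem_basicOpen U hU f hf1 _ hmem hc

end necessity

end

end Groth.Agent.Lib.T2H4.Grauert
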