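import Mathlib
import Groth.Agent.Lib.T2H4RLBridgeAZ
import Groth.Agent.Lib.Helper13SpecQMap
import Groth.Agent.Lib.Helper27Cone2

/-!
# Evaluation of a function along ring-valued points; the ideal of elements of high degree (helper4)

* `ev N F ξ hξ` : the value in `R` of `F ∈ Γ(V, N)` along `ξ : Spec R ⟶ V` with `ξ⁻¹ N = ⊤`; `ev_comp`, `mem_basicOpen_iff`
* `hiIdeal 𝒜 n` : the ideal of the elements of a graded ring whose components of degree `≤ n` vanish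
-/

set_option autoImplicit false
set_option linter.style.haveILetI false
set_option linter.unusedSectionVars false
universe u
open CategoryTheory CategoryTheory.Limits AlgebraicGeometry TopologicalSpace Opposite
open scoped HomogeneousIdeal

namespace Groth.Agent.Lib.T2H4.Grauert

noncomputable section

section ev

variable {V : Scheme.{u}} (N : V.Opens) (F : Γ(V, N))

/-- the value of `F` along an `R`-valued point of `N` -/
def ev {R : CommRingCat.{u}} (ξ : Spec R ⟶ V) (hξ : ξ ⁻¹ᵁ N = ⊤) : R :=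
  (Scheme.ΓSpecIso R).hom.hom ((ξ.appLE N ⊤ (by rw [hξ])).hom F)

theorem ev_congr {R : CommRingCat.{u}} {ξ ξ' : Spec R ⟶ V} (h : ξ = ξ') (hξ : ξ ⁻¹ᵁ N = ⊤)
    (hξ' : ξ' ⁻¹ᵁ N = ⊤) : ev N F ξ hξ = ev N F ξ' hξ' := by
  subst h
  rfl

theorem preimage_comp_eq_top {R R' : CommRingCat.{u}} (φ : R ⟶ R') (ξ : Spec R ⟶ V) (hξ : ξ ⁻¹ᵁ N = ⊤) :
    (Spec.map φ ≫ ξ) ⁻¹ᵁ N = ⊤ := by
  rw [Scheme.Hom.comp_preimage, hξ]
  rfl

theorem ev_comp {R R' : CommRingCat.{u}} (φ : R ⟶ R') (ξ : Spec R ⟶ V) (hξ : ξ ⁻¹ᵁ N = ⊤) :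
    ev N F (Spec.map φ ≫ ξ) (preimage_comp_eq_top N φ ξ hξ) = φ.hom (ev N F ξ hξ) := by
  unfold ev
  have h1 : (Spec.map φ ≫ ξ).appLE N ⊤ (by rw [preimage_comp_eq_top N φ ξ hξ]) =
      ξ.appLE N ⊤ (by rw [hξ]) ≫ (Spec.map φ).appLE ⊤ ⊤ le_top := by
    rw [Scheme.Hom.appLE_comp_appLE]
  rw [h1]
  have h2 : (Spec.map φ).appLE ⊤ ⊤ le_top = (Spec.map φ).appTop := by
    simp [Scheme.Hom.appLE, Scheme.Hom.appTop]
  rw [h2, CommRingCat.comp_apply]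
  have h3 := Scheme.ΓSpecIso_naturality φ
  exact congr($(h3).hom ((ξ.appLE N ⊤ (by rw [hξ])).hom F))

theorem mem_basicOpen_iff {R : CommRingCat.{u}} (ξ : Spec R ⟶ V) (hξ : ξ ⁻¹ᵁ N = ⊤) (𝔯 : Spec R) :
    ξ.base 𝔯 ∈ V.basicOpen F ↔ ev N F ξ hξ ∉ 𝔯.asIdeal := by
  have h1 : ξ.base 𝔯 ∈ V.basicOpen F ↔ 𝔯 ∈ ξ ⁻¹ᵁ V.basicOpen F := Iff.rfl
  have h2 : (Spec R).basicOpen ((ξ.appLE N ⊤ (by rw [hξ])).hom F) = ξ ⁻¹ᵁ V.basicOpen F := by
    rw [Scheme.basicOpen_appLE, top_inf_eq]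
  rw [h1, ← h2, basicOpen_eq_of_affine']
  rfl

end ev

section hi

variable {A : Type u} [CommRing A] (𝒜 : ℕ → AddSubgroup A) [GradedRing 𝒜]

open DirectSum

/-- the ideal of the elements whose components of degree `≤ n` vanish -/
def hiIdeal (n : ℕ) : Ideal A where
  carrier := {x | ∀ m ≤ n, ((decompose 𝒜 x m : 𝒜 m) : A) = 0}
  add_mem' := fun {a b} ha hb m hm => by
    rw [decompose_add, DirectSum.add_apply, AddSubgroup.coe_add, ha m hm, hb m hm, add_zero]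
  zero_mem' := fun m _ => by rw [decompose_zero, DirectSum.zero_apply, ZeroMemClass.coe_zero]
  smul_mem' := fun c x hx m hm => by
    classical
    change ((decompose 𝒜 (c * x) m : 𝒜 m) : A) = 0
    rw [← DirectSum.sum_support_decompose 𝒜 c, Finset.sum_mul, decompose_sum, DFinsupp.finsetSum_apply,
      AddSubmonoidClass.coe_finsetSum]
    refine Finset.sum_eq_zero fun i _ => ?_
    by_cases hi : i ≤ m
    · rw [DirectSum.coe_decompose_mul_of_left_mem_of_le 𝒜 (SetLike.coe_mem _) hi, hx (m - i) (by omega),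
        mul_zero]
    · exact DirectSum.coe_decompose_mul_of_left_mem_of_not_le 𝒜 (SetLike.coe_mem _) hi

theorem mem_hiIdeal {n : ℕ} {x : A} :
    x ∈ hiIdeal 𝒜 n ↔ ∀ m ≤ n, ((decompose 𝒜 x m : 𝒜 m) : A) = 0 := Iff.rfl

theorem hiIdeal_anti {n n' : ℕ} (h : n ≤ n') : hiIdeal 𝒜 n' ≤ hiIdeal 𝒜 n :=
  fun _ hx m hm => hx m (hm.trans h)

theorem mem_hiIdeal_of_mem_deg {n d : ℕ} (hd : n < d) {x : A} (hx : x ∈ 𝒜 d) : x ∈ hiIdeal 𝒜 n := by
  intro m hm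
  rw [decompose_of_mem_ne 𝒜 hx (by omega)]

/-- primes containing `hiIdeal` contain the irrelevant ideal -/
theorem irrelevant_le_of_hiIdeal_le {n : ℕ} {𝔯 : Ideal A} [𝔯.IsPrime] (h : hiIdeal 𝒜 n ≤ 𝔯) :
    (𝒜₊).toIdeal ≤ 𝔯 := by
  rw [HomogeneousIdeal.toIdeal_irrelevant_le]
  intro i hi x hx
  have h1 : x ^ (n + 1) ∈ 𝒜 ((n + 1) • i) := SetLike.pow_mem_graded (n + 1) hx
  have h2 : x ^ (n + 1) ∈ hiIdeal 𝒜 n := by
    refine mem_hiIdeal_of_mem_deg 𝒜 ?_ h1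
    change n < (n + 1) * i
    nlinarith
  exact Ideal.IsPrime.mem_of_pow_mem inferInstance _ (h h2)

/-- an element minus its components of degree `≤ n` lies in `hiIdeal n` -/
theorem sub_sum_mem_hiIdeal (n : ℕ) (x : A) :
    x - ∑ m ∈ Finset.range (n + 1), ((decompose 𝒜 x m : 𝒜 m) : A) ∈ hiIdeal 𝒜 n := by
  classical
  intro k hk
  rw [decompose_sub, DirectSum.sub_apply, AddSubgroupClass.coe_sub, decompose_sum, DFinsupp.finsetSum_apply,
    AddSubmonoidClass.coe_finsetSum, sub_eq_zero]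
  rw [Finset.sum_eq_single k]
  · rw [decompose_of_mem_same 𝒜 (SetLike.coe_mem _)]
  · intro i _ hik
    exact decompose_of_mem_ne 𝒜 (SetLike.coe_mem _) hik
  · intro hk'
    exact absurd (Finset.mem_range.mpr (by omega)) hk'

/-- a graded homomorphism maps `hiIdeal` into `hiIdeal` -/
theorem map_mem_hiIdeal {B : Type u} [CommRing B] (ℬ : ℕ → AddSubgroup B) [GradedRing ℬ] (ψ : 𝒜 →+*ᵍ ℬ)
    {n : ℕ} {x : A} (hx : x ∈ hiIdeal 𝒜 n) : ψ x ∈ hiIdeal ℬ n := by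
  intro m hm
  have h1 := GradedRingHom.map_directSumDecompose 𝒜 ℬ ψ (x := x) (i := m)
  rw [← h1, hx m hm, map_zero]

end hi

end

end Groth.Agent.Lib.T2H4.Grauert
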