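import Mathlib
import Groth.Agent.Lib.T2H4GrauertF

/-!
# Taylor coefficients along the zero section of a function defined near the zero section of a cone (helper4)

`𝒜` a quasi-coherent graded algebra on `X`, `V = Spec(𝒜)`, `N ⊆ V` an open containing the vertex section over `W ⊆ X`,
`F ∈ Γ(V, N)`.

* `tau` : the class of `F` in `𝒜(U) / 𝒜(U)_{> n}`, `U ⊆ W` affine
* `exists_taylor` : sections `t n ∈ 𝒜(W)`, locally homogeneous of degree `n`, with `∑_{m ≤ n} t m ≡ F` modulo degrees `> n`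
* `taylor_local` : if `F = a / h^k` on `D(h) ⊆ Spec 𝒜(U)` then `h^j (a - h^k ∑_{m ≤ n} t m)` has no components of degree `≤ n`
-/

set_option autoImplicit false
set_option linter.style.haveILetI false
set_option linter.unusedSectionVars false
universe u
open CategoryTheory CategoryTheory.Limits AlgebraicGeometry TopologicalSpace Opposite
open scoped HomogeneousIdeal

namespace Groth.Agent.Lib.T2H4.Grauert
open Groth.Agent.Lib.T2H4.PowMap Groth.Agent.Helper13SpecQMap Groth.Agent.Helper13RelProj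

noncomputable section

variable {X : Scheme.{u}} (𝒜 : RelProj.QCGrAlg X)

/-- the ideal of sections over an affine open without components of degree `≤ n` -/
abbrev hiI (U : X.Opens) (hU : IsAffineOpen U) (n : ℕ) : Ideal (𝒜.presheaf.obj (op U)) :=
  hiIdeal (𝒜.deg U hU) n

theorem rs_mem_hiI {U U' : X.Opens} (hU : IsAffineOpen U) (hU' : IsAffineOpen U') (h : U' ≤ U) {n : ℕ}
    {x : 𝒜.presheaf.obj (op U)} (hx : x ∈ hiI 𝒜 U hU n) : rs 𝒜.toQCAlg h x ∈ hiI 𝒜 U' hU' n :=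
  map_mem_hiIdeal (𝒜.deg U hU) (𝒜.deg U' hU') (𝒜.res hU hU' h) hx

/-- the test point `Spec (𝒜(U)/𝒜(U)_{>n}) ⟶ V` -/
def testPt (U : X.Opens) (hU : IsAffineOpen U) (n : ℕ) :
    Spec (CommRingCat.of (𝒜.presheaf.obj (op U) ⧸ hiI 𝒜 U hU n)) ⟶ 𝒜.toQCAlg.spec :=
  Spec.map (CommRingCat.ofHom (Ideal.Quotient.mk (hiI 𝒜 U hU n))) ≫ 𝒜.toQCAlg.ι U hU

/-- the point `Spec 𝒜(U)_h ⟶ V` -/
def awayPt (U : X.Opens) (hU : IsAffineOpen U) (h : 𝒜.presheaf.obj (op U)) :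
    Spec (CommRingCat.of (Localization.Away h)) ⟶ 𝒜.toQCAlg.spec :=
  Spec.map (CommRingCat.ofHom (algebraMap (𝒜.presheaf.obj (op U)) (Localization.Away h))) ≫ 𝒜.toQCAlg.ι U hU

variable (N : 𝒜.toQCAlg.spec.Opens) (F : Γ(𝒜.toQCAlg.spec, N))

/-- `N` contains the vertex section over `W` -/
def ContainsVertex (W : X.Opens) : Prop :=
  ∀ (U : X.Opens) (hU : IsAffineOpen U), U ≤ W → ∀ 𝔳 : Spec (𝒜.presheaf.obj (op U)),
    ((𝒜.deg U hU)₊).toIdeal ≤ 𝔳.asIdeal → (𝒜.toQCAlg.ι U hU).base 𝔳 ∈ N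

variable {𝒜 N}

theorem testPt_preimage {W : X.Opens} (hN : ContainsVertex 𝒜 N W) (U : X.Opens) (hU : IsAffineOpen U)
    (hUW : U ≤ W) (n : ℕ) : testPt 𝒜 U hU n ⁻¹ᵁ N = ⊤ := by
  rw [eq_top_iff]
  intro 𝔯 _
  change (testPt 𝒜 U hU n).base 𝔯 ∈ N
  have h1 : (testPt 𝒜 U hU n).base 𝔯 = (𝒜.toQCAlg.ι U hU).base
      ((Spec.map (CommRingCat.ofHom (Ideal.Quotient.mk (hiI 𝒜 U hU n)))).base 𝔯) := by
    unfold testPt
    rw [Scheme.Hom.comp_apply]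
  rw [h1]
  refine hN U hU hUW _ ?_
  haveI : ((Spec.map (CommRingCat.ofHom (Ideal.Quotient.mk (hiI 𝒜 U hU n)))).base 𝔯).asIdeal.IsPrime :=
    PrimeSpectrum.isPrime _
  refine irrelevant_le_of_hiIdeal_le (𝒜.deg U hU) (n := n) ?_
  intro x hx
  change Ideal.Quotient.mk (hiI 𝒜 U hU n) x ∈ 𝔯.asIdeal
  rw [Ideal.Quotient.eq_zero_iff_mem.mpr hx]
  exact zero_mem _

theorem awayPt_preimage (U : X.Opens) (hU : IsAffineOpen U) (h : 𝒜.presheaf.obj (op U))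
    (hD : ∀ 𝔳 : Spec (𝒜.presheaf.obj (op U)), h ∉ 𝔳.asIdeal → (𝒜.toQCAlg.ι U hU).base 𝔳 ∈ N) :
    awayPt 𝒜 U hU h ⁻¹ᵁ N = ⊤ := by
  rw [eq_top_iff]
  intro 𝔯 _
  change (awayPt 𝒜 U hU h).base 𝔯 ∈ N
  have h1 : (awayPt 𝒜 U hU h).base 𝔯 = (𝒜.toQCAlg.ι U hU).base
      ((Spec.map (CommRingCat.ofHom (algebraMap (𝒜.presheaf.obj (op U)) (Localization.Away h)))).base 𝔯) := by
    unfold awayPt
    rw [Scheme.Hom.comp_apply]
  rw [h1]
  refine hD _ ?_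
  intro hmem
  have h2 : algebraMap (𝒜.presheaf.obj (op U)) (Localization.Away h) h ∈ 𝔯.asIdeal := hmem
  exact 𝔯.isPrime.ne_top (Ideal.eq_top_of_isUnit_mem _ h2 (IsLocalization.Away.algebraMap_isUnit h))

variable (𝒜 N)

/-- the class of `F` modulo degrees `> n` -/
def tau {W : X.Opens} (hN : ContainsVertex 𝒜 N W) (U : X.Opens) (hU : IsAffineOpen U) (hUW : U ≤ W) (n : ℕ) :
    𝒜.presheaf.obj (op U) ⧸ hiI 𝒜 U hU n :=
  ev N F (testPt 𝒜 U hU n) (testPt_preimage hN U hU hUW n)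

variable {𝒜 N}

/-- compatibility of `tau` with restriction -/
theorem tau_rs {W : X.Opens} (hN : ContainsVertex 𝒜 N W) {U U' : X.Opens} (hU : IsAffineOpen U)
    (hU' : IsAffineOpen U') (hUW : U ≤ W) (h : U' ≤ U) (n : ℕ) (x : 𝒜.presheaf.obj (op U))
    (hx : Ideal.Quotient.mk (hiI 𝒜 U hU n) x = tau 𝒜 N F hN U hU hUW n) :
    Ideal.Quotient.mk (hiI 𝒜 U' hU' n) (rs 𝒜.toQCAlg h x) = tau 𝒜 N F hN U' hU' (h.trans hUW) n := by
  obtain ⟨ψ, hψ⟩ : ∃ ψ : (𝒜.presheaf.obj (op U) ⧸ hiI 𝒜 U hU n) →+* (𝒜.presheaf.obj (op U') ⧸ hiI 𝒜 U' hU' n),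
      ψ = Ideal.quotientMap (hiI 𝒜 U' hU' n) (rs 𝒜.toQCAlg h)
        (fun y hy => rs_mem_hiI 𝒜 hU hU' h hy) := ⟨_, rfl⟩
  have hψmk : ∀ y, ψ (Ideal.Quotient.mk _ y) = Ideal.Quotient.mk _ (rs 𝒜.toQCAlg h y) := by
    intro y
    rw [hψ, Ideal.quotientMap_mk]
  have h1 : Spec.map (CommRingCat.ofHom ψ) ≫ testPt 𝒜 U hU n = testPt 𝒜 U' hU' n := by
    unfold testPt
    rw [← ι_res_le 𝒜.toQCAlg hU hU' h, ← Category.assoc, ← Category.assoc, ← Spec.map_comp, ← Spec.map_comp]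
    congr 2
    refine CommRingCat.hom_ext (RingHom.ext fun y => ?_)
    change ψ (Ideal.Quotient.mk _ y) = Ideal.Quotient.mk _ (rs 𝒜.toQCAlg h y)
    exact hψmk y
  have h2 := ev_comp N F (CommRingCat.ofHom ψ) (testPt 𝒜 U hU n) (testPt_preimage hN U hU hUW n)
  rw [ev_congr N F h1 _ (testPt_preimage hN U' hU' (h.trans hUW) n)] at h2
  change tau 𝒜 N F hN U' hU' (h.trans hUW) n = ψ (tau 𝒜 N F hN U hU hUW n) at h2
  rw [h2, ← hx, hψmk]

/-- compatibility of `tau` with the degree -/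
theorem tau_le {W : X.Opens} (hN : ContainsVertex 𝒜 N W) {U : X.Opens} (hU : IsAffineOpen U)
    (hUW : U ≤ W) {n n' : ℕ} (hnn' : n ≤ n') (x : 𝒜.presheaf.obj (op U))
    (hx : Ideal.Quotient.mk (hiI 𝒜 U hU n') x = tau 𝒜 N F hN U hU hUW n') :
    Ideal.Quotient.mk (hiI 𝒜 U hU n) x = tau 𝒜 N F hN U hU hUW n := by
  obtain ⟨ψ, hψ⟩ : ∃ ψ : (𝒜.presheaf.obj (op U) ⧸ hiI 𝒜 U hU n') →+* (𝒜.presheaf.obj (op U) ⧸ hiI 𝒜 U hU n),
      ψ = Ideal.Quotient.factor (hiIdeal_anti (𝒜.deg U hU) hnn') := ⟨_, rfl⟩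
  have hψmk : ∀ y, ψ (Ideal.Quotient.mk _ y) = Ideal.Quotient.mk _ y := by
    intro y
    rw [hψ, Ideal.Quotient.factor_mk]
  have h1 : Spec.map (CommRingCat.ofHom ψ) ≫ testPt 𝒜 U hU n' = testPt 𝒜 U hU n := by
    unfold testPt
    rw [← Category.assoc, ← Spec.map_comp]
    congr 2
    refine CommRingCat.hom_ext (RingHom.ext fun y => ?_)
    change ψ (Ideal.Quotient.mk _ y) = Ideal.Quotient.mk _ y
    exact hψmk y
  have h2 := ev_comp N F (CommRingCat.ofHom ψ) (testPt 𝒜 U hU n') (testPt_preimage hN U hU hUW n')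
  rw [ev_congr N F h1 _ (testPt_preimage hN U hU hUW n)] at h2
  change tau 𝒜 N F hN U hU hUW n = ψ (tau 𝒜 N F hN U hU hUW n') at h2
  rw [h2, ← hx, hψmk]

/-- the component of degree `n` of a representative of `tau n` does not depend on the representative -/
theorem decompose_eq_of_mk_eq {U : X.Opens} (hU : IsAffineOpen U) (n : ℕ) (x y : 𝒜.presheaf.obj (op U))
    (h : Ideal.Quotient.mk (hiI 𝒜 U hU n) x = Ideal.Quotient.mk (hiI 𝒜 U hU n) y) (m : ℕ) (hm : m ≤ n) :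
    ((DirectSum.decompose (𝒜.deg U hU) x m : 𝒜.deg U hU m) : 𝒜.presheaf.obj (op U)) =
      ((DirectSum.decompose (𝒜.deg U hU) y m : 𝒜.deg U hU m) : 𝒜.presheaf.obj (op U)) := by
  have h1 : x - y ∈ hiI 𝒜 U hU n := Ideal.Quotient.eq.mp h
  have h2 := h1 m hm
  rw [DirectSum.decompose_sub, DirectSum.sub_apply, AddSubgroupClass.coe_sub, sub_eq_zero] at h2
  exact h2

/-- **Taylor coefficients** -/
theorem exists_taylor {W : X.Opens} (hN : ContainsVertex 𝒜 N W) :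
    ∃ t : ℕ → 𝒜.presheaf.obj (op W), (∀ n, t n ∈ locDeg 𝒜 W n) ∧
      ∀ (U : X.Opens) (hU : IsAffineOpen U) (hUW : U ≤ W) (n : ℕ),
        Ideal.Quotient.mk (hiI 𝒜 U hU n) (∑ m ∈ Finset.range (n + 1), rs 𝒜.toQCAlg hUW (t m)) =
          tau 𝒜 N F hN U hU hUW n := by
  classical
  -- representatives
  have hrep : ∀ (U : AffIn W) (n : ℕ), ∃ x : 𝒜.presheaf.obj (op U.1),
      Ideal.Quotient.mk (hiI 𝒜 U.1 U.2.1 n) x = tau 𝒜 N F hN U.1 U.2.1 U.2.2 n :=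
    fun U n => Ideal.Quotient.mk_surjective _
  choose x hx using hrep
  -- the components
  obtain ⟨c, hc⟩ : ∃ c : ∀ (n : ℕ) (U : AffIn W), 𝒜.presheaf.obj (op U.1), ∀ n U, c n U =
      ((DirectSum.decompose (𝒜.deg U.1 U.2.1) (x U n) n : 𝒜.deg U.1 U.2.1 n) : 𝒜.presheaf.obj (op U.1)) :=
    ⟨_, fun _ _ => rfl⟩
  -- independence of the representative
  have hind : ∀ (U : AffIn W) (n m : ℕ) (hm : m ≤ n) (y : 𝒜.presheaf.obj (op U.1)),
      Ideal.Quotient.mk (hiI 𝒜 U.1 U.2.1 n) y = tau 𝒜 N F hN U.1 U.2.1 U.2.2 n →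
      ((DirectSum.decompose (𝒜.deg U.1 U.2.1) y m : 𝒜.deg U.1 U.2.1 m) : 𝒜.presheaf.obj (op U.1)) = c m U := by
    intro U n m hm y hy
    have h1 := tau_le F hN U.2.1 U.2.2 hm y hy
    rw [hc]
    exact decompose_eq_of_mk_eq U.2.1 m y (x U m) (h1.trans (hx U m).symm) m le_rfl
  -- compatibility with restriction
  have hres : ∀ (U U' : AffIn W) (h : U'.1 ≤ U.1) (n : ℕ), rs 𝒜.toQCAlg h (c n U) = c n U' := by
    intro U U' h n
    rw [hc n U, rs_decompose 𝒜 U.2.1 U'.2.1 h]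
    exact hind U' n n le_rfl _ (tau_rs F hN U.2.1 U'.2.1 U.2.2 h n (x U n) (hx U n))
  -- glueing
  have hglue : ∀ n : ℕ, ∃ t : 𝒜.presheaf.obj (op W), ∀ U : AffIn W, rs 𝒜.toQCAlg U.2.2 t = c n U := by
    intro n
    have hcompat : TopCat.Presheaf.IsCompatible 𝒜.presheaf (fun U : AffIn W => U.1) (c n) := by
      intro U₁ U₂
      change rs 𝒜.toQCAlg (inf_le_left : U₁.1 ⊓ U₂.1 ≤ U₁.1) (c n U₁) =
        rs 𝒜.toQCAlg (inf_le_right : U₁.1 ⊓ U₂.1 ≤ U₂.1) (c n U₂)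
      refine rs_ext 𝒜.toQCAlg (fun U₃ : AffIn (U₁.1 ⊓ U₂.1) => U₃.1) (U₁.1 ⊓ U₂.1) (fun U₃ => U₃.2.2)
        (le_iSup_affIn _) _ _ (fun U₃ => ?_)
      rw [rs_rs, rs_rs]
      have e1 := hres U₁ ⟨U₃.1, U₃.2.1, U₃.2.2.trans (inf_le_left.trans U₁.2.2)⟩ (U₃.2.2.trans inf_le_left) n
      have e2 := hres U₂ ⟨U₃.1, U₃.2.1, U₃.2.2.trans (inf_le_left.trans U₁.2.2)⟩ (U₃.2.2.trans inf_le_right) n
      exact e1.trans e2.symm
    obtain ⟨t, ht, -⟩ := TopCat.Sheaf.existsUnique_gluing' ⟨𝒜.presheaf, 𝒜.isSheaf⟩ (fun U : AffIn W => U.1) W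
      (fun U => homOfLE U.2.2) (le_iSup_affIn W) (c n) hcompat
    exact ⟨t, fun U => ht U⟩
  choose t ht using hglue
  refine ⟨t, fun n U hU hUW => ?_, fun U hU hUW n => ?_⟩
  · rw [ht n ⟨U, hU, hUW⟩, hc]
    exact SetLike.coe_mem _
  · rw [← hx ⟨U, hU, hUW⟩ n, Ideal.Quotient.eq]
    have h1 : ∑ m ∈ Finset.range (n + 1), rs 𝒜.toQCAlg hUW (t m) =
        ∑ m ∈ Finset.range (n + 1), ((DirectSum.decompose (𝒜.deg U hU) (x ⟨U, hU, hUW⟩ n) m : 𝒜.deg U hU m) :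
          𝒜.presheaf.obj (op U)) := by
      refine Finset.sum_congr rfl fun m hm => ?_
      rw [ht m ⟨U, hU, hUW⟩]
      exact (hind ⟨U, hU, hUW⟩ n m (by rw [Finset.mem_range] at hm; omega) _ (hx ⟨U, hU, hUW⟩ n)).symm
    rw [h1]
    have h2 := sub_sum_mem_hiIdeal (𝒜.deg U hU) n (x ⟨U, hU, hUW⟩ n)
    have h3 := (hiI 𝒜 U hU n).neg_mem h2
    rwa [neg_sub] at h3

/-- **the local form of the Taylor expansion** -/
theorem taylor_local {W : X.Opens} (hN : ContainsVertex 𝒜 N W) (U : X.Opens) (hU : IsAffineOpen U) (hUW : U ≤ W)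
    (n : ℕ) (S : 𝒜.presheaf.obj (op U))
    (hS : Ideal.Quotient.mk (hiI 𝒜 U hU n) S = tau 𝒜 N F hN U hU hUW n)
    (h a : 𝒜.presheaf.obj (op U)) (k : ℕ)
    (hD : ∀ 𝔳 : Spec (𝒜.presheaf.obj (op U)), h ∉ 𝔳.asIdeal → (𝒜.toQCAlg.ι U hU).base 𝔳 ∈ N)
    (hrep : ev N F (awayPt 𝒜 U hU h) (awayPt_preimage U hU h hD) *
      algebraMap (𝒜.presheaf.obj (op U)) (Localization.Away h) h ^ k =
        algebraMap (𝒜.presheaf.obj (op U)) (Localization.Away h) a) :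
    ∃ j : ℕ, h ^ j * (a - h ^ k * S) ∈ hiI 𝒜 U hU n := by
  obtain ⟨J, hJ⟩ : ∃ J : Ideal (𝒜.presheaf.obj (op U)), J = hiI 𝒜 U hU n := ⟨_, rfl⟩
  rw [← hJ]
  -- the two maps to `R' = (A/J)_h`
  obtain ⟨α, hα⟩ : ∃ α : Localization.Away h →+* Localization.Away (Ideal.Quotient.mk J h),
      α = IsLocalization.Away.map (Localization.Away h) (Localization.Away (Ideal.Quotient.mk J h))
        (Ideal.Quotient.mk J) h := ⟨_, rfl⟩
  have hαalg : ∀ y : 𝒜.presheaf.obj (op U), α (algebraMap _ (Localization.Away h) y) =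
      algebraMap (𝒜.presheaf.obj (op U) ⧸ J) (Localization.Away (Ideal.Quotient.mk J h))
        (Ideal.Quotient.mk J y) := by
    intro y
    rw [hα]
    exact IsLocalization.map_eq _ y
  have h1 : Spec.map (CommRingCat.ofHom α) ≫ awayPt 𝒜 U hU h =
      Spec.map (CommRingCat.ofHom (algebraMap (𝒜.presheaf.obj (op U) ⧸ J)
        (Localization.Away (Ideal.Quotient.mk J h)))) ≫
        (Spec.map (CommRingCat.ofHom (Ideal.Quotient.mk J)) ≫ 𝒜.toQCAlg.ι U hU) := by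
    unfold awayPt
    rw [← Category.assoc, ← Category.assoc, ← Spec.map_comp, ← Spec.map_comp]
    congr 2
    refine CommRingCat.hom_ext (RingHom.ext fun y => ?_)
    exact hαalg y
  have e1 := ev_comp N F (CommRingCat.ofHom α) (awayPt 𝒜 U hU h) (awayPt_preimage U hU h hD)
  have hpre : (Spec.map (CommRingCat.ofHom (Ideal.Quotient.mk J)) ≫ 𝒜.toQCAlg.ι U hU) ⁻¹ᵁ N = ⊤ := by
    rw [hJ]
    exact testPt_preimage hN U hU hUW n
  have e2 := ev_comp N F (CommRingCat.ofHom (algebraMap (𝒜.presheaf.obj (op U) ⧸ J)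
    (Localization.Away (Ideal.Quotient.mk J h))))
    (Spec.map (CommRingCat.ofHom (Ideal.Quotient.mk J)) ≫ 𝒜.toQCAlg.ι U hU) hpre
  rw [ev_congr N F h1 _ (preimage_comp_eq_top N _ _ hpre), e2] at e1
  have e3 : ev N F (Spec.map (CommRingCat.ofHom (Ideal.Quotient.mk J)) ≫ 𝒜.toQCAlg.ι U hU) hpre =
      Ideal.Quotient.mk J S := by
    subst hJ
    exact hS.symm
  rw [e3] at e1
  have e4 : algebraMap (𝒜.presheaf.obj (op U) ⧸ J) (Localization.Away (Ideal.Quotient.mk J h))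
      (Ideal.Quotient.mk J S * Ideal.Quotient.mk J h ^ k - Ideal.Quotient.mk J a) = 0 := by
    have e5 := congrArg α hrep
    rw [map_mul, map_pow, hαalg, hαalg] at e5
    change algebraMap _ (Localization.Away (Ideal.Quotient.mk J h)) (Ideal.Quotient.mk J S) = α _ at e1
    rw [← e1] at e5
    rw [map_sub, map_mul, map_pow, e5, sub_self]
  rw [IsLocalization.map_eq_zero_iff (Submonoid.powers (Ideal.Quotient.mk J h))] at e4
  obtain ⟨⟨_, j, rfl⟩, hj⟩ := e4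
  refine ⟨j, ?_⟩
  rw [← Ideal.Quotient.eq_zero_iff_mem, map_mul, map_pow, map_sub, map_mul, map_pow]
  have hj' : Ideal.Quotient.mk J h ^ j *
      (Ideal.Quotient.mk J S * Ideal.Quotient.mk J h ^ k - Ideal.Quotient.mk J a) = 0 := hj
  linear_combination (-1 : 𝒜.presheaf.obj (op U) ⧸ J) * hj'

end

end Groth.Agent.Lib.T2H4.Grauert
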