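import Mathlib
import Groth.Agent.Lib.T2H4GrauertF
import Groth.Agent.Lib.Helper13GrPoly

/-!
# Graded polynomial rings in one variable: coefficients, the generic point of a fibre and the vertex (helper4)

`A` graded, `ι : B → A` landing in degree `0`, `T ∈ A_1` with `B[X] → A`, `X ↦ T`, bijective.

* `pe : B[X] ≃+* A`, `mem_hiIdeal_iff_coeff`
* `genPrime 𝔭` (the prime `𝔭 A`), `vtxPrime 𝔭` (the prime `𝔭 A + (T)`)
* `poly_core`, `taylor_core` : the comparison of a function `a / h^k` with its Taylor polynomial modulo `𝔭`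
-/

set_option autoImplicit false
set_option linter.style.haveILetI false
set_option linter.unusedSectionVars false
universe u
open Polynomial
open scoped HomogeneousIdeal

namespace Groth.Agent.Lib.T2H4.Grauert

theorem coeff_mem_iff_dvd {B : Type u} [CommRing B] (𝔭 : Ideal B) (P : B[X]) (n : ℕ) :
    (∀ m ≤ n, P.coeff m ∈ 𝔭) ↔ (X : (B ⧸ 𝔭)[X]) ^ (n + 1) ∣ P.map (Ideal.Quotient.mk 𝔭) := by
  rw [X_pow_dvd_iff]
  constructor
  · intro h d hd
    rw [coeff_map, Ideal.Quotient.eq_zero_iff_mem]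
    exact h d (by omega)
  · intro h m hm
    have := h m (by omega)
    rwa [coeff_map, Ideal.Quotient.eq_zero_iff_mem] at this

theorem poly_core {B : Type u} [CommRing B] (𝔭 : Ideal B) [𝔭.IsPrime] (a h x : B[X]) (n j k : ℕ)
    (hh : h.coeff 0 ∉ 𝔭)
    (hrel : ∀ m ≤ n, (h ^ j * (a - h ^ k * x)).coeff m = 0) :
    (∀ m ≤ n, x.coeff m ∈ 𝔭) ↔ (∀ m ≤ n, a.coeff m ∈ 𝔭) := by
  rw [coeff_mem_iff_dvd, coeff_mem_iff_dvd]
  have hX : Prime (X : (B ⧸ 𝔭)[X]) := prime_X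
  have hh' : ¬ (X : (B ⧸ 𝔭)[X]) ∣ h.map (Ideal.Quotient.mk 𝔭) := by
    rw [X_dvd_iff, coeff_map, Ideal.Quotient.eq_zero_iff_mem]
    exact hh
  have hhpow : ∀ i : ℕ, ¬ (X : (B ⧸ 𝔭)[X]) ∣ (h.map (Ideal.Quotient.mk 𝔭)) ^ i :=
    fun i hdiv => hh' (hX.dvd_of_dvd_pow hdiv)
  have h1 : (X : (B ⧸ 𝔭)[X]) ^ (n + 1) ∣ (h ^ j * (a - h ^ k * x)).map (Ideal.Quotient.mk 𝔭) := by
    rw [← coeff_mem_iff_dvd]
    intro m hm
    rw [hrel m hm]
    exact zero_mem _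
  rw [Polynomial.map_mul, Polynomial.map_pow, Polynomial.map_sub, Polynomial.map_mul, Polynomial.map_pow] at h1
  have h2 := hX.pow_dvd_of_dvd_mul_left (n + 1) (hhpow j) h1
  constructor
  · intro hx
    have h3 := dvd_mul_of_dvd_right hx ((h.map (Ideal.Quotient.mk 𝔭)) ^ k)
    have := dvd_add h2 h3
    rwa [sub_add_cancel] at this
  · intro ha
    have h3 := dvd_sub ha h2
    rw [sub_sub_cancel] at h3
    exact hX.pow_dvd_of_dvd_mul_left (n + 1) (hhpow k) h3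

noncomputable section

open Groth.Agent.Helper13GrPoly

variable {A B : Type u} [CommRing A] [CommRing B] (𝒜 : ℕ → AddSubgroup A) [GradedRing 𝒜]
  (ι : B →+* A) (hι : ∀ b, ι b ∈ 𝒜 0) (T : A) (hT : T ∈ 𝒜 1)
  (hpoly : Function.Bijective (eval₂RingHom ι T))

/-- the identification with the polynomial ring -/
def pe : B[X] ≃+* A := RingEquiv.ofBijective (eval₂RingHom ι T) hpoly

theorem pe_apply (P : B[X]) : pe ι T hpoly P = eval₂ ι T P := rfl

theorem pe_symm_ι (b : B) : (pe ι T hpoly).symm (ι b) = C b := by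
  rw [RingEquiv.symm_apply_eq, pe_apply, eval₂_C]

theorem pe_symm_T : (pe ι T hpoly).symm T = X := by
  rw [RingEquiv.symm_apply_eq, pe_apply, eval₂_X]

theorem pe_symm_term (b : B) (m : ℕ) : (pe ι T hpoly).symm (ι b * T ^ m) = C b * X ^ m := by
  rw [map_mul, map_pow, pe_symm_ι, pe_symm_T]

include hι hT in
theorem mem_hiIdeal_iff_coeff (y : A) (n : ℕ) :
    y ∈ hiIdeal 𝒜 n ↔ ∀ m ≤ n, ((pe ι T hpoly).symm y).coeff m = 0 := by
  obtain ⟨P, rfl⟩ := (pe ι T hpoly).surjective y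
  rw [RingEquiv.symm_apply_apply, mem_hiIdeal]
  refine forall₂_congr fun m _ => ?_
  rw [pe_apply, proj_eval₂ 𝒜 ι hι T hT P m]
  constructor
  · intro h
    rw [mul_comm] at h
    exact pow_mul_eq_zero ι T hpoly m _ h
  · intro h
    rw [h, map_zero, zero_mul]

/-- the prime `𝔭 A` -/
def genPrime (𝔭 : Ideal B) : Ideal A :=
  Ideal.comap ((pe ι T hpoly).symm : A →+* B[X]) (Ideal.map (C : B →+* B[X]) 𝔭)

/-- the prime `𝔭 A + (T)` -/
def vtxPrime (𝔭 : Ideal B) : Ideal A :=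
  Ideal.comap ((pe ι T hpoly).symm : A →+* B[X])
    (RingHom.ker ((Ideal.Quotient.mk 𝔭).comp (constantCoeff : B[X] →+* B)))

theorem mem_genPrime_iff (𝔭 : Ideal B) (y : A) :
    y ∈ genPrime ι T hpoly 𝔭 ↔ ∀ m, ((pe ι T hpoly).symm y).coeff m ∈ 𝔭 := by
  unfold genPrime
  rw [Ideal.mem_comap]
  exact Ideal.mem_map_C_iff

theorem mem_vtxPrime_iff (𝔭 : Ideal B) (y : A) :
    y ∈ vtxPrime ι T hpoly 𝔭 ↔ ((pe ι T hpoly).symm y).coeff 0 ∈ 𝔭 := by
  unfold vtxPrime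
  rw [Ideal.mem_comap, RingHom.mem_ker, RingHom.comp_apply, Ideal.Quotient.eq_zero_iff_mem]
  rfl

instance isPrime_genPrime (𝔭 : Ideal B) [𝔭.IsPrime] : (genPrime ι T hpoly 𝔭).IsPrime := by
  unfold genPrime
  haveI : (Ideal.map (C : B →+* B[X]) 𝔭).IsPrime := Ideal.isPrime_map_C_of_isPrime
  exact Ideal.comap_isPrime _ _

instance isPrime_vtxPrime (𝔭 : Ideal B) [𝔭.IsPrime] : (vtxPrime ι T hpoly 𝔭).IsPrime := by
  unfold vtxPrime
  haveI : (RingHom.ker ((Ideal.Quotient.mk 𝔭).comp (constantCoeff : B[X] →+* B))).IsPrime :=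
    RingHom.ker_isPrime _
  exact Ideal.comap_isPrime _ _

theorem genPrime_le_vtxPrime (𝔭 : Ideal B) : genPrime ι T hpoly 𝔭 ≤ vtxPrime ι T hpoly 𝔭 := by
  intro y hy
  rw [mem_vtxPrime_iff]
  exact (mem_genPrime_iff ι T hpoly 𝔭 y).mp hy 0

theorem T_mem_vtxPrime (𝔭 : Ideal B) : T ∈ vtxPrime ι T hpoly 𝔭 := by
  rw [mem_vtxPrime_iff, pe_symm_T, coeff_X_zero]
  exact zero_mem _

theorem T_not_mem_genPrime (𝔭 : Ideal B) [h𝔭 : 𝔭.IsPrime] : T ∉ genPrime ι T hpoly 𝔭 := by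
  intro h
  have := (mem_genPrime_iff ι T hpoly 𝔭 T).mp h 1
  rw [pe_symm_T, coeff_X_one] at this
  exact h𝔭.ne_top ((Ideal.eq_top_iff_one _).mpr this)

include hι hT in
theorem irrelevant_le_vtxPrime (𝔭 : Ideal B) : (𝒜₊).toIdeal ≤ vtxPrime ι T hpoly 𝔭 := by
  refine (irrelevant_le_span 𝒜 ι hι T hT hpoly).trans ?_
  rw [Ideal.span_singleton_le_iff_mem]
  exact T_mem_vtxPrime ι T hpoly 𝔭

theorem comap_genPrime (𝔭 : Ideal B) : Ideal.comap ι (genPrime ι T hpoly 𝔭) = 𝔭 := by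
  ext r
  rw [Ideal.mem_comap, mem_genPrime_iff]
  constructor
  · intro h
    have := h 0
    rwa [pe_symm_ι, coeff_C_zero] at this
  · intro h m
    rw [pe_symm_ι, coeff_C]
    split_ifs
    · exact h
    · exact zero_mem _

theorem comap_vtxPrime (𝔭 : Ideal B) : Ideal.comap ι (vtxPrime ι T hpoly 𝔭) = 𝔭 := by
  ext r
  rw [Ideal.mem_comap, mem_vtxPrime_iff, pe_symm_ι, coeff_C_zero]

include hι hT in
/-- **the comparison of `a / h^k` with its Taylor polynomial modulo `𝔭`** -/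
theorem taylor_core (𝔭 : Ideal B) [𝔭.IsPrime] (a h S : A) (n j k : ℕ)
    (hh : h ∉ vtxPrime ι T hpoly 𝔭) (hrel : h ^ j * (a - h ^ k * S) ∈ hiIdeal 𝒜 n) :
    (∀ m ≤ n, ((pe ι T hpoly).symm S).coeff m ∈ 𝔭) ↔ (∀ m ≤ n, ((pe ι T hpoly).symm a).coeff m ∈ 𝔭) := by
  refine poly_core 𝔭 _ ((pe ι T hpoly).symm h) _ n j k ?_ ?_
  · rwa [mem_vtxPrime_iff] at hh
  · have := (mem_hiIdeal_iff_coeff 𝒜 ι hι T hT hpoly _ n).mp hrel
    rwa [map_mul, map_pow, map_sub, map_mul, map_pow] at this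

/-- the coefficients of a sum of monomials -/
theorem coeff_sum_terms (β : ℕ → B) (n m : ℕ) (hm : m ≤ n) :
    ((pe ι T hpoly).symm (∑ i ∈ Finset.range (n + 1), ι (β i) * T ^ i)).coeff m = β m := by
  rw [map_sum, finsetSum_coeff]
  rw [Finset.sum_eq_single m]
  · rw [pe_symm_term, coeff_C_mul, coeff_X_pow, if_pos rfl, mul_one]
  · intro i _ hi
    rw [pe_symm_term, coeff_C_mul, coeff_X_pow, if_neg (Ne.symm hi), mul_zero]
  · intro h
    exact absurd (Finset.mem_range.mpr (by omega)) h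

end

end Groth.Agent.Lib.T2H4.Grauert
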