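import Mathlib
import Groth.Agent.Lib.T2H4GrauertG
import Groth.Agent.Lib.T2H4GrauertH
import Groth.Agent.Lib.T2H4GrauertC

/-!
# The fibre criterion: non-vanishing of a function at the generic point of a fibre of `V(L)` and its Taylor coefficients (helper4)
-/

set_option autoImplicit false
set_option linter.style.haveILetI false
set_option linter.unusedSectionVars false
universe u
open CategoryTheory CategoryTheory.Limits AlgebraicGeometry TopologicalSpace Opposite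
open scoped HomogeneousIdeal

namespace Groth.Agent.Lib.T2H4.Grauert
open Groth.Agent.Lib.T2H4.PowMap Groth.Agent.Helper13SpecQMap Groth.Agent.Helper13RelProj
open Groth.Agent.Lib.Helper27Cone
open Groth.Agent.Helper13SymAlg Groth.Agent.Helper13GrPoly Groth.Agent.Helper13ProjLine

noncomputable section

variable {X : Scheme.{u}} (L : X.Modules) [L.IsQuasicoherent]
  (𝒮L : RelProj.QCGrAlg X) (jL : L ⟶ 𝒮L.toModule) (hjL : RelProj.IsGrSymAlg L 𝒮L jL)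

include hjL in
theorem fibre_criterion (U : X.Opens) (hU : IsAffineOpen U)
    (b : Module.Basis (Fin 1) Γ(X, U) Γ(L, U)) (z : X) (hz : z ∈ U) :
    ∃ v v' : 𝒮L.toQCAlg.spec,
      𝒮L.toQCAlg.π.base v = z ∧ v ∈ RelCone.pointedCone 𝒮L ∧ v' ∉ RelCone.pointedCone 𝒮L ∧
      ∀ (N : 𝒮L.toQCAlg.spec.Opens) (F : Γ(𝒮L.toQCAlg.spec, N)) (W : X.Opens) (hN : ContainsVertex 𝒮L N W)
        (hUW : U ≤ W) (t : ℕ → 𝒮L.presheaf.obj (op W)) (_ : ∀ n, t n ∈ locDeg 𝒮L W n)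
        (_ : ∀ (U : X.Opens) (hU : IsAffineOpen U) (hUW : U ≤ W) (n : ℕ),
          Ideal.Quotient.mk (hiI 𝒮L U hU n) (∑ m ∈ Finset.range (n + 1), rs 𝒮L.toQCAlg hUW (t m)) =
            tau 𝒮L N F hN U hU hUW n),
      v ∈ N ∧ v' ∈ N ∧
      (v ∈ 𝒮L.toQCAlg.spec.basicOpen F ↔ ∃ (m : ℕ) (β : Γ(X, U)),
        rs 𝒮L.toQCAlg hUW (t m) = (𝒮L.str.app (op U)).hom β * (φAdd L 𝒮L.toQCAlg jL U (b 0)) ^ m ∧
          z ∈ X.basicOpen β) ∧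
      (∀ β : Γ(X, U), rs 𝒮L.toQCAlg hUW (t 0) = (𝒮L.str.app (op U)).hom β → z ∈ X.basicOpen β →
        v' ∈ 𝒮L.toQCAlg.spec.basicOpen F) := by
  classical
  obtain ⟨ι, hι⟩ : ∃ ι : Γ(X, U) →+* 𝒮L.presheaf.obj (op U), ι = (𝒮L.str.app (op U)).hom := ⟨_, rfl⟩
  obtain ⟨T, hTdef⟩ : ∃ T : 𝒮L.presheaf.obj (op U), T = φAdd L 𝒮L.toQCAlg jL U (b 0) := ⟨_, rfl⟩
  have hT1 : T ∈ 𝒮L.deg U hU 1 := hTdef ▸ hjL.2 _ hU (b 0)
  have hι0 : ∀ r, ι r ∈ 𝒮L.deg U hU 0 := fun r => hι ▸ 𝒮L.str_mem U hU r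
  have hpoly : Function.Bijective (Polynomial.eval₂RingHom ι T) := by
    rw [hι, hTdef]
    exact bijective_eval₂ L 𝒮L jL hjL hU b
  -- the prime of `z`
  obtain ⟨𝔭pt, h𝔭pt⟩ : ∃ 𝔭pt : Spec Γ(X, U), 𝔭pt = hU.primeIdealOf ⟨z, hz⟩ := ⟨_, rfl⟩
  have hfs : hU.fromSpec.base 𝔭pt = z := by rw [h𝔭pt]; exact hU.fromSpec_primeIdealOf ⟨z, hz⟩
  haveI : 𝔭pt.asIdeal.IsPrime := 𝔭pt.isPrime
  have hzβ : ∀ β : Γ(X, U), z ∈ X.basicOpen β ↔ β ∉ 𝔭pt.asIdeal := by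
    intro β
    rw [← hfs]
    change 𝔭pt ∈ hU.fromSpec ⁻¹ᵁ X.basicOpen β ↔ _
    rw [hU.fromSpec_preimage_basicOpen]
    rfl
  -- the two points
  obtain ⟨𝔳, h𝔳⟩ : ∃ 𝔳 : Spec (𝒮L.presheaf.obj (op U)), 𝔳.asIdeal = genPrime ι T hpoly 𝔭pt.asIdeal :=
    ⟨⟨genPrime ι T hpoly 𝔭pt.asIdeal, inferInstance⟩, rfl⟩
  obtain ⟨𝔮, h𝔮⟩ : ∃ 𝔮 : Spec (𝒮L.presheaf.obj (op U)), 𝔮.asIdeal = vtxPrime ι T hpoly 𝔭pt.asIdeal :=
    ⟨⟨vtxPrime ι T hpoly 𝔭pt.asIdeal, inferInstance⟩, rfl⟩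
  have hirr𝔮 : ((𝒮L.deg U hU)₊).toIdeal ≤ 𝔮.asIdeal :=
    h𝔮 ▸ irrelevant_le_vtxPrime (𝒮L.deg U hU) ι hι0 T hT1 hpoly 𝔭pt.asIdeal
  have h𝔳𝔮 : 𝔳.asIdeal ≤ 𝔮.asIdeal := by
    rw [h𝔳, h𝔮]
    exact genPrime_le_vtxPrime ι T hpoly _
  refine ⟨(𝒮L.toQCAlg.ι U hU).base 𝔳, (𝒮L.toQCAlg.ι U hU).base 𝔮, ?_, ?_, ?_, ?_⟩
  · rw [← Scheme.Hom.comp_apply, 𝒮L.toQCAlg.ι_π, Scheme.Hom.comp_apply]
    have h1 : (Spec.map (𝒮L.str.app (op U))).base 𝔳 = 𝔭pt := by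
      apply PrimeSpectrum.ext
      change Ideal.comap (𝒮L.str.app (op U)).hom 𝔳.asIdeal = 𝔭pt.asIdeal
      rw [h𝔳, ← hι]
      exact comap_genPrime ι T hpoly _
    rw [h1]
    exact hfs
  · change (𝒮L.toQCAlg.ι U hU) 𝔳 ∈ RelCone.pointedCone 𝒮L
    rw [ι_mem_pointedCone_iff, mem_vertexCompl_iff]
    intro h1
    have h2 : T ∈ 𝔳.asIdeal := h1 (HomogeneousIdeal.mem_irrelevant_of_mem _ one_pos hT1)
    rw [h𝔳] at h2
    exact T_not_mem_genPrime ι T hpoly _ h2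
  · change ¬ (𝒮L.toQCAlg.ι U hU) 𝔮 ∈ RelCone.pointedCone 𝒮L
    rw [ι_mem_pointedCone_iff, mem_vertexCompl_iff, not_not]
    exact hirr𝔮
  intro N F W hN hUW t ht1 ht2
  rw [← hι, ← hTdef]
  have hqN : (𝒮L.toQCAlg.ι U hU).base 𝔮 ∈ N := hN U hU hUW 𝔮 hirr𝔮
  -- a basic open neighbourhood
  obtain ⟨h, h𝔮h, hhN⟩ : ∃ h : 𝒮L.presheaf.obj (op U), h ∉ 𝔮.asIdeal ∧
      ∀ 𝔯 : Spec (𝒮L.presheaf.obj (op U)), h ∉ 𝔯.asIdeal → (𝒮L.toQCAlg.ι U hU).base 𝔯 ∈ N := by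
    have hopen : IsOpen ((𝒮L.toQCAlg.ι U hU).base ⁻¹' (N : Set 𝒮L.toQCAlg.spec)) :=
      N.2.preimage (𝒮L.toQCAlg.ι U hU).continuous
    obtain ⟨_, ⟨_, ⟨h, rfl⟩, rfl⟩, h1, h2⟩ := PrimeSpectrum.isBasis_basic_opens.exists_subset_of_mem_open
      (show 𝔮 ∈ (𝒮L.toQCAlg.ι U hU).base ⁻¹' (N : Set 𝒮L.toQCAlg.spec) from hqN) hopen
    exact ⟨h, h1, fun 𝔯 h𝔯 => h2 h𝔯⟩
  have h𝔳h : h ∉ 𝔳.asIdeal := fun hmem => h𝔮h (h𝔳𝔮 hmem)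
  -- the representation of `F` on `D(h)`
  obtain ⟨E, hE⟩ : ∃ E : Localization.Away h,
      E = ev N F (awayPt 𝒮L U hU h) (awayPt_preimage U hU h hhN) := ⟨_, rfl⟩
  obtain ⟨a, k, hrep⟩ : ∃ (a : 𝒮L.presheaf.obj (op U)) (k : ℕ),
      E * algebraMap (𝒮L.presheaf.obj (op U)) (Localization.Away h) h ^ k =
        algebraMap (𝒮L.presheaf.obj (op U)) (Localization.Away h) a := by
    obtain ⟨k, a, hak⟩ := IsLocalization.Away.surj h E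
    exact ⟨a, k, hak⟩
  -- the Taylor relations
  have hTay : ∀ n : ℕ, ∃ j : ℕ,
      h ^ j * (a - h ^ k * ∑ m ∈ Finset.range (n + 1), rs 𝒮L.toQCAlg hUW (t m)) ∈ hiIdeal (𝒮L.deg U hU) n := by
    intro n
    exact taylor_local F hN U hU hUW n _ (ht2 U hU hUW n) h a k hhN (hE ▸ hrep)
  -- the criterion for points of `D(h)`
  have hcrit : ∀ 𝔯 : Spec (𝒮L.presheaf.obj (op U)), h ∉ 𝔯.asIdeal →
      ((𝒮L.toQCAlg.ι U hU).base 𝔯 ∈ 𝒮L.toQCAlg.spec.basicOpen F ↔ a ∉ 𝔯.asIdeal) := by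
    intro 𝔯 h𝔯
    have hrange : 𝔯 ∈ Set.range (PrimeSpectrum.comap
        (algebraMap (𝒮L.presheaf.obj (op U)) (Localization.Away h))) := by
      rw [PrimeSpectrum.localization_away_comap_range (Localization.Away h) h]
      exact h𝔯
    obtain ⟨𝔯', h𝔯'⟩ := hrange
    have h1 : (awayPt 𝒮L U hU h).base 𝔯' = (𝒮L.toQCAlg.ι U hU).base 𝔯 := by
      unfold awayPt
      rw [Scheme.Hom.comp_apply, ← h𝔯']
      rfl
    rw [← h1, mem_basicOpen_iff N F (awayPt 𝒮L U hU h) (awayPt_preimage U hU h hhN) 𝔯', ← hE]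
    have hu : IsUnit (algebraMap (𝒮L.presheaf.obj (op U)) (Localization.Away h) h ^ k) :=
      (IsLocalization.Away.algebraMap_isUnit h).pow k
    have h2 : a ∈ 𝔯.asIdeal ↔ algebraMap (𝒮L.presheaf.obj (op U)) (Localization.Away h) a ∈ 𝔯'.asIdeal := by
      rw [← h𝔯']
      rfl
    rw [h2, ← hrep]
    constructor
    · intro h3 h4
      apply h3
      rcases 𝔯'.isPrime.mem_or_mem h4 with h5 | h5
      · exact h5
      · exact absurd (Ideal.eq_top_of_isUnit_mem _ h5 hu) 𝔯'.isPrime.ne_top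
    · intro h3 h4
      exact h3 (Ideal.mul_mem_right _ _ h4)
  -- the coefficients
  have hβ : ∀ m : ℕ, ∃ β : Γ(X, U), rs 𝒮L.toQCAlg hUW (t m) = ι β * T ^ m :=
    fun m => exists_eq_mul_pow (𝒮L.deg U hU) ι hι0 T hT1 hpoly m _ (ht1 m U hU hUW)
  choose β hβ using hβ
  have hβuniq : ∀ (m : ℕ) (β' : Γ(X, U)), rs 𝒮L.toQCAlg hUW (t m) = ι β' * T ^ m → β' = β m := by
    intro m β' h1
    rw [hβ m] at h1
    have h2 : T ^ m * ι (β m - β') = 0 := by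
      rw [map_sub, mul_sub, mul_comm, h1, mul_comm, sub_self]
    have := pow_mul_eq_zero ι T hpoly m _ h2
    exact (sub_eq_zero.mp this).symm
  have hS : ∀ n : ℕ, ∑ m ∈ Finset.range (n + 1), rs 𝒮L.toQCAlg hUW (t m) =
      ∑ m ∈ Finset.range (n + 1), ι (β m) * T ^ m := fun n => Finset.sum_congr rfl fun m _ => hβ m
  have hcore : ∀ n : ℕ, (∀ m ≤ n, β m ∈ 𝔭pt.asIdeal) ↔
      (∀ m ≤ n, ((pe ι T hpoly).symm a).coeff m ∈ 𝔭pt.asIdeal) := by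
    intro n
    obtain ⟨j, hj⟩ := hTay n
    have h1 := taylor_core (𝒮L.deg U hU) ι hι0 T hT1 hpoly 𝔭pt.asIdeal a h _ n j k (h𝔮 ▸ h𝔮h) hj
    rw [hS n] at h1
    rw [← h1]
    refine forall₂_congr fun m hm => ?_
    rw [coeff_sum_terms ι T hpoly β n m hm]
  refine ⟨hhN 𝔳 h𝔳h, hqN, ?_, ?_⟩
  · rw [hcrit 𝔳 h𝔳h, h𝔳, mem_genPrime_iff]
    constructor
    · intro h1
      push Not at h1
      obtain ⟨m₀, hm₀⟩ := h1
      have h2 : ¬ ∀ m ≤ m₀, β m ∈ 𝔭pt.asIdeal := by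
        rw [hcore m₀]
        intro h3
        exact hm₀ (h3 m₀ le_rfl)
      push Not at h2
      obtain ⟨m, -, hm⟩ := h2
      exact ⟨m, β m, hβ m, (hzβ _).mpr hm⟩
    · rintro ⟨m, β', h1, h2⟩ h3
      rw [hβuniq m β' h1, hzβ] at h2
      exact h2 ((hcore m).mpr (fun m' _ => h3 m') m le_rfl)
  · intro β' h1 h2
    have h1' : rs 𝒮L.toQCAlg hUW (t 0) = ι β' * T ^ 0 := by rw [pow_zero, mul_one]; exact h1
    rw [hβuniq 0 β' h1', hzβ] at h2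
    rw [hcrit 𝔮 h𝔮h, h𝔮, mem_vtxPrime_iff]
    intro h3
    apply h2
    refine (hcore 0).mpr (fun m hm => ?_) 0 le_rfl
    have : m = 0 := by omega
    rw [this]
    exact h3

end

end Groth.Agent.Lib.T2H4.Grauert
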