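import Mathlib
import Groth.Agent.Lib.T2H4RLBridgeAO

/-!
# Sections of `L^{⊗m}` from elements of `𝒮L = ⊕ L^{⊗n}` that are locally homogeneous of degree `m` (helper4)

* `exists_coef_of_mem_deg`, `powAdd_injective_of_isGen` : over an affine open with a generator of `L`
* `powAdd_injective` : `Γ(L^{⊗m}, O) → 𝒮L(O)` is injective
* `exists_section_of_mem_deg` : an element of `𝒮L(W)` homogeneous of degree `m` over all affine opens comes from a section of `L^{⊗m}`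
-/

set_option autoImplicit false
set_option linter.style.haveILetI false
set_option linter.unusedSectionVars false
universe u
open CategoryTheory CategoryTheory.Limits AlgebraicGeometry TopologicalSpace Opposite
open scoped HomogeneousIdeal

namespace Groth.Agent.Lib.T2H4.PowMap
open Groth.Agent.Lib.Helper23.SecTw Groth.Agent.Lib.Helper23.GenLocus Groth.Agent.Lib.Helper6
open Groth.Agent.Helper13RL Groth.Agent.Helper13RelProj Groth.Agent.Helper13SymAlg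
open Groth.Agent.Helper13GrPoly Groth.Agent.Helper13ProjLine Groth.Agent.Lib.Helper23.GenNear

variable {X : Scheme.{u}}

section inverse

variable (L : X.Modules) [L.IsQuasicoherent] (hL : PicF.IsInvertible L)
  (𝒮L : RelProj.QCGrAlg X) (jL : L ⟶ 𝒮L.toModule) (hjL : RelProj.IsGrSymAlg L 𝒮L jL)

include hjL in
theorem exists_coef_of_mem_deg {U : X.Opens} (hU : IsAffineOpen U) (e : Γ(L, U)) (he : IsGen L U e) (m : ℕ)
    (h : 𝒮L.presheaf.obj (op U)) (hh : h ∈ 𝒮L.deg U hU m) :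
    ∃ c : Γ(X, U), powAdd (𝒮 := 𝒮L.toQCAlg) jL m U (c • pw L U e m) = h := by
  obtain ⟨b, hb⟩ := exists_basis_of_isGen L e he
  have hT : φAdd L 𝒮L.toQCAlg jL U (b 0) ∈ 𝒮L.deg U hU 1 := hjL.2 U hU (b 0)
  obtain ⟨c, hc⟩ := exists_eq_mul_pow (𝒮L.deg U hU) (𝒮L.str.app (op U)).hom (𝒮L.str_mem U hU) _ hT
    (bijective_eval₂ L 𝒮L jL hjL hU b) m h hh
  refine ⟨c, ?_⟩
  rw [powAdd_smul, powAdd_pw, hc, hb]
  rfl

include hjL in
theorem powAdd_injective_of_isGen {U : X.Opens} (hU : IsAffineOpen U) (e : Γ(L, U)) (he : IsGen L U e) (m : ℕ)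
    (τ τ' : Γ(CohB1.tensorPow L m, U))
    (h : powAdd (𝒮 := 𝒮L.toQCAlg) jL m U τ = powAdd (𝒮 := 𝒮L.toQCAlg) jL m U τ') : τ = τ' := by
  obtain ⟨b, hb⟩ := exists_basis_of_isGen L e he
  have hpw := isGen_pw L U e he m
  obtain ⟨c, hc⟩ : ∃ c : Γ(X, U), c • pw L U e m = τ := by
    refine ⟨coef hpw le_rfl τ, ?_⟩
    have := coef_spec hpw le_rfl τ
    rwa [res_self] at this
  obtain ⟨c', hc'⟩ : ∃ c : Γ(X, U), c • pw L U e m = τ' := by
    refine ⟨coef hpw le_rfl τ', ?_⟩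
    have := coef_spec hpw le_rfl τ'
    rwa [res_self] at this
  rw [← hc, ← hc'] at h ⊢
  rw [powAdd_smul, powAdd_smul, powAdd_pw] at h
  have hT : φAdd L 𝒮L.toQCAlg jL U (b 0) ∈ 𝒮L.deg U hU 1 := hjL.2 U hU (b 0)
  have h0 : c - c' = 0 := by
    refine pow_mul_eq_zero (𝒮L.str.app (op U)).hom (φAdd L 𝒮L.toQCAlg jL U (b 0))
      (bijective_eval₂ L 𝒮L jL hjL hU b) m (c - c') ?_
    rw [map_sub, mul_sub, hb, mul_comm, mul_comm _ ((𝒮L.str.app (op U)).hom c'), sub_eq_zero]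
    exact h
  rw [sub_eq_zero.mp h0]

include hL in
theorem exists_affine_gen {O : X.Opens} (x : X) (hx : x ∈ O) :
    ∃ (U : X.Opens) (_ : IsAffineOpen U) (_ : U ≤ O) (e : Γ(L, U)), x ∈ U ∧ IsGen L U e := by
  obtain ⟨W₁, e, hxW₁, he⟩ := exists_gen L hL x
  obtain ⟨_, ⟨U, hU, rfl⟩, hxU, hle⟩ := X.isBasis_affineOpens.exists_subset_of_mem_open
    (show x ∈ ((W₁ ⊓ O : X.Opens) : Set X) from ⟨hxW₁, hx⟩) (W₁ ⊓ O).2
  have h1 : U ≤ W₁ := fun y hy => (hle hy).1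
  exact ⟨U, hU, fun y hy => (hle hy).2, res L h1 e, hxU, he.mono h1⟩

include hL hjL in
theorem powAdd_injective (m : ℕ) (O : X.Opens) (τ τ' : Γ(CohB1.tensorPow L m, O))
    (h : powAdd (𝒮 := 𝒮L.toQCAlg) jL m O τ = powAdd (𝒮 := 𝒮L.toQCAlg) jL m O τ') : τ = τ' := by
  have hcov : ∀ x : O, ∃ (U : X.Opens) (_ : IsAffineOpen U) (_ : U ≤ O) (e : Γ(L, U)), x.1 ∈ U ∧ IsGen L U e :=
    fun x => exists_affine_gen L hL x.1 x.2
  choose U hU hUO e hxU he using hcov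
  refine (modSheaf (CohB1.tensorPow L m)).eq_of_locally_eq' (fun x : O => U x) O (fun x => homOfLE (hUO x)) ?_ _ _
    (fun x => ?_)
  · intro y hy
    exact Opens.mem_iSup.mpr ⟨⟨y, hy⟩, hxU ⟨y, hy⟩⟩
  · change res _ (hUO x) τ = res _ (hUO x) τ'
    apply powAdd_injective_of_isGen L 𝒮L jL hjL (hU x) (e x) (he x) m
    rw [powAdd_res, powAdd_res, h]

include hL hjL in
/-- **inverse bridging** -/
theorem exists_section_of_mem_deg {W : X.Opens} (m : ℕ) (g : 𝒮L.presheaf.obj (op W))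
    (hg : ∀ (U : X.Opens) (hU : IsAffineOpen U) (hUW : U ≤ W), rs 𝒮L.toQCAlg hUW g ∈ 𝒮L.deg U hU m) :
    ∃ σ : Γ(CohB1.tensorPow L m, W), powAdd (𝒮 := 𝒮L.toQCAlg) jL m W σ = g := by
  have hcov : ∀ x : W, ∃ (U : X.Opens) (_ : IsAffineOpen U) (_ : U ≤ W) (e : Γ(L, U)), x.1 ∈ U ∧ IsGen L U e :=
    fun x => exists_affine_gen L hL x.1 x.2
  choose U hU hUW e hxU he using hcov
  have hloc : ∀ x : W, ∃ τ : Γ(CohB1.tensorPow L m, U x),
      powAdd (𝒮 := 𝒮L.toQCAlg) jL m (U x) τ = rs 𝒮L.toQCAlg (hUW x) g := by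
    intro x
    obtain ⟨c, hc⟩ := exists_coef_of_mem_deg L 𝒮L jL hjL (hU x) (e x) (he x) m _ (hg (U x) (hU x) (hUW x))
    exact ⟨_, hc⟩
  choose τ hτ using hloc
  have hcovW : W ≤ ⨆ x : W, U x := by
    intro y hy
    exact Opens.mem_iSup.mpr ⟨⟨y, hy⟩, hxU ⟨y, hy⟩⟩
  have hcompat : TopCat.Presheaf.IsCompatible (modSheaf (CohB1.tensorPow L m)).1 (fun x : W => U x) τ := by
    intro x y
    change res _ (inf_le_left : U x ⊓ U y ≤ U x) (τ x) = res _ (inf_le_right : U x ⊓ U y ≤ U y) (τ y)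
    apply powAdd_injective L hL 𝒮L jL hjL m
    rw [powAdd_res, powAdd_res, hτ, hτ]
    exact (rs_rs 𝒮L.toQCAlg (hUW x) inf_le_left g).trans (rs_rs 𝒮L.toQCAlg (hUW y) inf_le_right g).symm
  obtain ⟨σ, hσ, -⟩ := (modSheaf (CohB1.tensorPow L m)).existsUnique_gluing' (fun x : W => U x) W
    (fun x => homOfLE (hUW x)) hcovW τ hcompat
  refine ⟨σ, ?_⟩
  refine rs_ext 𝒮L.toQCAlg (fun x : W => U x) W (fun x => hUW x) hcovW _ _ (fun x => ?_)
  have hσx : res (CohB1.tensorPow L m) (hUW x) σ = τ x := hσ x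
  rw [← hτ x, ← hσx, powAdd_res]
  rfl

end inverse

end Groth.Agent.Lib.T2H4.PowMap
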