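import Mathlib
import Groth.Agent.Lib.T2H4RLBridgeAN
import Groth.Agent.Lib.Helper23SecTw3

/-!
# Generating locus of a section over an open; ampleness of a restriction from sections (helper4)

* `exists_genLocus_of_section` : a section `σ` of `M` over `W` has a largest open on which it generates
* `isAmple_restrict_of_sections` : converse of `exists_section_of_isAmple_restrict`
-/

set_option autoImplicit false
set_option linter.style.haveILetI false
set_option linter.unusedSectionVars false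
universe u
open CategoryTheory CategoryTheory.Limits AlgebraicGeometry TopologicalSpace Opposite

namespace Groth.Agent.Lib.T2H4.PowMap
open Groth.Agent.Lib.Helper23.SecTw Groth.Agent.Lib.Helper23.GenLocus Groth.Agent.Lib.Helper6 Groth.Agent.Lib.Helper23.AmpleIso

variable {X : Scheme.{u}}

/-- the morphism `O_W ⟶ M|_W` attached to a section of `M` over `W`, and its values -/
theorem exists_secHom_restrict (M : X.Modules) (W : X.Opens) (σ : Γ(M, W.ι ''ᵁ ⊤)) :
    ∃ σ'' : Coh.structureModule (↑W : Scheme.{u}) ⟶ M.restrict W.ι,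
      ∀ V' : (↑W : Scheme.{u}).Opens,
        @Eq (Γ(M, W.ι ''ᵁ V')) (sv σ'' V') (res M (W.ι.image_mono le_top) σ) := by
  refine ⟨secHom (M.restrict W.ι) σ, fun V' => ?_⟩
  rw [sv_secHom]
  rfl

theorem genLocus_secHom_iff (M : X.Modules) (W : X.Opens) (σ : Γ(M, W.ι ''ᵁ ⊤))
    (σ'' : Coh.structureModule (↑W : Scheme.{u}) ⟶ M.restrict W.ι)
    (hsv : ∀ V' : (↑W : Scheme.{u}).Opens,
        @Eq (Γ(M, W.ι ''ᵁ V')) (sv σ'' V') (res M (W.ι.image_mono le_top) σ))
    (V : X.Opens) (hV : V ≤ W.ι ''ᵁ ⊤) :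
    IsGen M V (res M hV σ) ↔ V ≤ W.ι ''ᵁ CohB1.genLocus _ σ'' := by
  have hVW : V ≤ W := hV.trans (image_top_le W)
  have hVeq : W.ι ''ᵁ (W.ι ⁻¹ᵁ V) = V := image_preimage_of_le W hVW
  constructor
  · intro hgen
    have h1 : IsGen M (W.ι ''ᵁ (W.ι ⁻¹ᵁ V)) (res M (W.ι.image_mono le_top) σ) := by
      have := isGen_of_eq _ hVeq _ hgen
      rwa [res_res] at this
    rw [← hsv] at h1
    have h2 := isGen_restrict_of_isGen _ W (W.ι ⁻¹ᵁ V) _ h1
    have h3 : W.ι ⁻¹ᵁ V ≤ CohB1.genLocus _ σ'' := le_genLocus_of_isGen _ σ'' _ h2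
    rw [← hVeq]
    exact W.ι.image_mono h3
  · intro hle
    have h3 : W.ι ⁻¹ᵁ V ≤ CohB1.genLocus _ σ'' := by
      have := W.ι.preimage_mono hle
      rwa [Scheme.Hom.preimage_image_eq] at this
    have h2 : IsGen (M.restrict W.ι) (W.ι ⁻¹ᵁ V) (sv σ'' (W.ι ⁻¹ᵁ V)) := by
      have := (isGen_sv_genLocus _ σ'').mono h3
      rwa [res_sv] at this
    have h1 := isGen_of_isGen_restrict _ W (W.ι ⁻¹ᵁ V) _ h2
    rw [hsv] at h1
    refine isGen_of_eq' _ hVeq _ ?_
    rw [res_res]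
    exact h1

/-- the generating locus of a section of `M` over (the image of) `W` -/
theorem exists_genLocus_of_section (M : X.Modules) (W : X.Opens) (σ : Γ(M, W.ι ''ᵁ ⊤)) :
    ∃ D : X.Opens, D ≤ W.ι ''ᵁ ⊤ ∧
      ∀ (V : X.Opens) (hV : V ≤ W.ι ''ᵁ ⊤), IsGen M V (res M hV σ) ↔ V ≤ D := by
  obtain ⟨σ'', hsv⟩ := exists_secHom_restrict M W σ
  exact ⟨W.ι ''ᵁ CohB1.genLocus _ σ'', W.ι.image_mono le_top, fun V hV => genLocus_secHom_iff M W σ σ'' hsv V hV⟩

/-- **converse of `exists_section_of_isAmple_restrict`** -/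
theorem isAmple_restrict_of_sections (L : X.Modules) (hL : PicF.IsInvertible L) (W : X.Opens)
    [CompactSpace (↑W : Scheme.{u})]
    (h : ∀ z : X, z ∈ W → ∃ (m : ℕ) (_ : 0 < m) (σ : Γ(CohB1.tensorPow L m, W.ι ''ᵁ ⊤)) (D : X.Opens),
      IsAffineOpen D ∧ D ≤ W.ι ''ᵁ ⊤ ∧ z ∈ D ∧
        ∀ (V : X.Opens) (hV : V ≤ W.ι ''ᵁ ⊤),
          (IsGen (CohB1.tensorPow L m) V (res (CohB1.tensorPow L m) hV σ) ↔ V ≤ D)) :
    CohB1.IsAmple (L.restrict W.ι) := by
  refine ⟨isInvertible_restrict L hL W, inferInstance, fun x => ?_⟩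
  obtain ⟨m, hm, σ, D, hDaff, hDW, hzD, hσ⟩ := h x.1 x.2
  obtain ⟨n, rfl⟩ : ∃ n, m = n + 1 := ⟨m - 1, by omega⟩
  obtain ⟨σ'', hsv⟩ := exists_secHom_restrict (CohB1.tensorPow L (n + 1)) W σ
  obtain ⟨e⟩ := nonempty_restrict_tensorPow_iso L hL W (n + 1)
  have hDeq : W.ι ''ᵁ CohB1.genLocus _ σ'' = D := by
    apply le_antisymm
    · exact (hσ _ (W.ι.image_mono le_top)).mp
        ((genLocus_secHom_iff _ W σ σ'' hsv _ (W.ι.image_mono le_top)).mpr le_rfl)
    · exact (genLocus_secHom_iff _ W σ σ'' hsv _ hDW).mp ((hσ D hDW).mpr le_rfl)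
  have hgl : CohB1.genLocus _ σ'' = W.ι ⁻¹ᵁ D := by
    rw [← hDeq, Scheme.Hom.preimage_image_eq]
  refine ⟨n, σ'' ≫ e.hom, ?_, ?_⟩
  · rw [genLocus_comp_iso, hgl]
    exact hzD
  · rw [genLocus_comp_iso, hgl]
    exact hDaff.preimage_of_isOpenImmersion W.ι (by
      rw [Scheme.Opens.opensRange_ι]
      exact hDW.trans (image_top_le W))

/-- the generating locus of a section of `M` over an open `W` -/
theorem exists_genLocus_of_section' (M : X.Modules) (W : X.Opens) (σ : Γ(M, W)) :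
    ∃ D : X.Opens, D ≤ W ∧ ∀ (V : X.Opens) (hV : V ≤ W), IsGen M V (res M hV σ) ↔ V ≤ D := by
  obtain ⟨D, hD, h⟩ := exists_genLocus_of_section M W (res M (image_top_le W) σ)
  refine ⟨D, hD.trans (image_top_le W), fun V hV => ?_⟩
  have := h V (hV.trans (le_image_top W))
  rwa [res_res] at this

/-- `isAmple_restrict_of_sections` with sections over `W` itself -/
theorem isAmple_restrict_of_sections' (L : X.Modules) (hL : PicF.IsInvertible L) (W : X.Opens)
    [CompactSpace (↑W : Scheme.{u})]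
    (h : ∀ z : X, z ∈ W → ∃ (m : ℕ) (_ : 0 < m) (σ : Γ(CohB1.tensorPow L m, W)) (D : X.Opens),
      IsAffineOpen D ∧ D ≤ W ∧ z ∈ D ∧
        ∀ (V : X.Opens) (hV : V ≤ W),
          (IsGen (CohB1.tensorPow L m) V (res (CohB1.tensorPow L m) hV σ) ↔ V ≤ D)) :
    CohB1.IsAmple (L.restrict W.ι) := by
  refine isAmple_restrict_of_sections L hL W (fun z hz => ?_)
  obtain ⟨m, hm, σ, D, hDaff, hDW, hzD, hσ⟩ := h z hz
  refine ⟨m, hm, res (CohB1.tensorPow L m) (image_top_le W) σ, D, hDaff, hDW.trans (le_image_top W), hzD,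
    fun V hV => ?_⟩
  have := hσ V (hV.trans (image_top_le W))
  rwa [res_res]

end Groth.Agent.Lib.T2H4.PowMap
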