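import Mathlib
import Groth.Agent.Lib.T2H4GrauertI
import Groth.Agent.Lib.T2H4RLBridgeAX
import Groth.Agent.Lib.T2H4RLBridgeAW
import Groth.Agent.Lib.Helper23RestrJ

/-!
# Grauert's criterion, sufficiency (EGA II 8.9.1) (helper4)

* `genLocus_inf_eq_basicOpen` : the generating locus of a section of `L^{⊗m}` over a chart
* `isAmple_restrict_of_contraction` : the local statement
* `isRelAmple_of_contraction` : sufficiency
-/

set_option autoImplicit false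
set_option linter.style.haveILetI false
set_option linter.unusedSectionVars false
universe u
open CategoryTheory CategoryTheory.Limits AlgebraicGeometry TopologicalSpace Opposite
open scoped HomogeneousIdeal

namespace Groth.Agent.Lib.T2H4.Grauert
open Groth.Agent.Lib.T2H4.PowMap Groth.Agent.Helper13SpecQMap Groth.Agent.Helper13RelProj
open Groth.Agent.Lib.Helper27Cone
open Groth.Agent.Lib.Helper23.SecTw Groth.Agent.Lib.Helper23.GenLocus Groth.Agent.Lib.Helper6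
open Groth.Agent.Helper13RL Groth.Agent.Helper13SymAlg
open Groth.Agent.Helper13GrPoly Groth.Agent.Helper13ProjLine Groth.Agent.Lib.Helper23.GenNear

noncomputable section

section locus

variable {X : Scheme.{u}} (L : X.Modules) [L.IsQuasicoherent] (hL : PicF.IsInvertible L)
  (𝒮L : RelProj.QCGrAlg X) (jL : L ⟶ 𝒮L.toModule) (hjL : RelProj.IsGrSymAlg L 𝒮L jL)
  {W : X.Opens} {m : ℕ} (σ : Γ(CohB1.tensorPow L m, W)) {D : X.Opens}
  (hσ : ∀ (V : X.Opens) (hV : V ≤ W), IsGen (CohB1.tensorPow L m) V (res (CohB1.tensorPow L m) hV σ) ↔ V ≤ D)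

include hL hjL hσ in
/-- the generating locus of `σ` over a chart on which `σ = β e^m` -/
theorem genLocus_inf_eq_basicOpen (W' : X.Opens) (hW' : IsAffineOpen W') (hW'W : W' ≤ W)
    (e : Γ(L, W')) (he : IsGen L W' e) (b : Module.Basis (Fin 1) Γ(X, W') Γ(L, W')) (hb : b 0 = e)
    (β : Γ(X, W'))
    (hβ : rs 𝒮L.toQCAlg hW'W (powAdd (𝒮 := 𝒮L.toQCAlg) jL m W σ) =
      (𝒮L.str.app (op W')).hom β * (φAdd L 𝒮L.toQCAlg jL W' (b 0)) ^ m) :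
    D ⊓ W' = X.basicOpen β := by
  have hpw : IsGen (CohB1.tensorPow L m) W' (pw L W' e m) := isGen_pw L _ _ he m
  have hc : β • pw L W' e m = res (CohB1.tensorPow L m) hW'W σ := by
    apply powAdd_injective L hL 𝒮L jL hjL m
    rw [powAdd_smul, powAdd_pw, powAdd_res]
    refine Eq.trans ?_ hβ.symm
    rw [hb]
    rfl
  apply le_antisymm
  · have hB : D ⊓ W' ≤ W' := inf_le_right
    have h1 : IsGen (CohB1.tensorPow L m) (D ⊓ W')
        (res (CohB1.tensorPow L m) (hB.trans hW'W) σ) := (hσ _ (hB.trans hW'W)).mpr inf_le_left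
    have h2 : res (CohB1.tensorPow L m) (hB.trans hW'W) σ =
        resf hB β • res (CohB1.tensorPow L m) hB (pw L W' e m) := by
      rw [← res_smul, hc, res_res]
    rw [h2] at h1
    have h3 := (isGen_smul_iff (hpw.mono hB) (resf hB β)).mp h1
    exact le_basicOpen_of_isUnit hB β h3
  · refine le_inf ?_ (X.basicOpen_le β)
    have hB : X.basicOpen β ≤ W' := X.basicOpen_le β
    refine (hσ _ (hB.trans hW'W)).mp ?_
    have h2 : res (CohB1.tensorPow L m) (hB.trans hW'W) σ =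
        resf hB β • res (CohB1.tensorPow L m) hB (pw L W' e m) := by
      rw [← res_smul, hc, res_res]
    rw [h2]
    exact (isGen_smul_iff (hpw.mono hB) (resf hB β)).mpr (RingedSpace.isUnit_res_basicOpen _ β)

end locus

section sufficiency

variable {X Y C : Scheme.{u}} (p : X ⟶ Y) [QuasiCompact p]
  (L : X.Modules) [L.IsQuasicoherent] (hL : PicF.IsInvertible L)
  (𝒮L : RelProj.QCGrAlg X) (jL : L ⟶ 𝒮L.toModule) (hjL : RelProj.IsGrSymAlg L 𝒮L jL)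
  (h0 : RelCone.StrZeroBij 𝒮L)
  (aug : 𝒮L.toQCAlg ⟶ RelSpec.QCAlg.unit X) (haug : RelCone.IsAugmentation 𝒮L aug)
  (j0 : X ⟶ 𝒮L.toQCAlg.spec) (hj0 : RelCone.IsVertex 𝒮L aug j0)
  (V0 : 𝒮L.toQCAlg.spec.Opens) (hV0 : (V0 : Set 𝒮L.toQCAlg.spec) = (Set.range j0.base)ᶜ)
  (ε : Y ⟶ C) (q : 𝒮L.toQCAlg.spec ⟶ C) (hjq : j0 ≫ q = p ≫ ε)
  (hoi : IsOpenImmersion (V0.ι ≫ q)) (hdisj : Set.range (V0.ι ≫ q).base ∩ Set.range ε.base = ∅)

include hL hjL h0 haug hj0 hV0 hjq hoi hdisj in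
/-- the local statement -/
theorem isAmple_restrict_of_contraction (Y₁ : Y.Opens) (hY₁ : IsAffineOpen Y₁) (U' : C.Opens)
    (hU' : IsAffineOpen U') (hεU' : ∀ y ∈ Y₁, ε.base y ∈ U') :
    CohB1.IsAmple (L.restrict (p ⁻¹ᵁ Y₁).ι) := by
  have hV0' : V0 = RelCone.pointedCone 𝒮L := by
    apply Opens.ext
    rw [hV0]
    exact (pointedCone_eq_compl_range 𝒮L aug h0 haug j0 hj0).symm
  haveI : CompactSpace ↥((p ⁻¹ᵁ Y₁ : X.Opens) : Scheme.{u}) :=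
    isCompact_iff_compactSpace.1 (p.isCompact_preimage hY₁.isCompact)
  obtain ⟨N, hNdef⟩ : ∃ N : 𝒮L.toQCAlg.spec.Opens, N = q ⁻¹ᵁ U' := ⟨_, rfl⟩
  have hmemN : ∀ v : 𝒮L.toQCAlg.spec, v ∈ N ↔ q.base v ∈ U' := fun v => by rw [hNdef]; rfl
  -- points outside `V0` are in the zero section
  have hnotV0 : ∀ v : 𝒮L.toQCAlg.spec, v ∉ V0 → ∃ x : X, j0.base x = v := by
    intro v hv
    have h1 : v ∉ (V0 : Set 𝒮L.toQCAlg.spec) := hv
    rw [hV0, Set.notMem_compl_iff] at h1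
    exact h1
  have hπj0 : ∀ x : X, 𝒮L.toQCAlg.π.base (j0.base x) = x := by
    intro x
    rw [← Scheme.Hom.comp_apply, hj0.comp_π]
    rfl
  have hqj0 : ∀ x : X, q.base (j0.base x) = ε.base (p.base x) := by
    intro x
    rw [← Scheme.Hom.comp_apply, hjq]
    rfl
  have hN : ContainsVertex 𝒮L N (p ⁻¹ᵁ Y₁) := by
    intro U hU hUW 𝔳 h𝔳
    have h1 : (𝒮L.toQCAlg.ι U hU).base 𝔳 ∉ V0 := by
      rw [hV0']
      change ¬ (𝒮L.toQCAlg.ι U hU) 𝔳 ∈ RelCone.pointedCone 𝒮L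
      rw [ι_mem_pointedCone_iff, mem_vertexCompl_iff, not_not]
      exact h𝔳
    obtain ⟨x, hx⟩ := hnotV0 _ h1
    have hxU : x ∈ U := by
      have h2 := ι_π_mem 𝒮L.toQCAlg hU 𝔳
      rw [← hx, hπj0] at h2
      exact h2
    rw [hmemN, ← hx, hqj0]
    exact hεU' _ (hUW hxU)
  -- the open immersion
  obtain ⟨r, hr⟩ : ∃ r : (V0 : Scheme.{u}) ⟶ C, r = V0.ι ≫ q := ⟨_, rfl⟩
  haveI : IsOpenImmersion r := hr ▸ hoi
  have hrapp : ∀ x : (V0 : Scheme.{u}), r.base x = q.base (V0.ι.base x) := fun x => by rw [hr]; rfl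
  have hrε : ∀ (x : (V0 : Scheme.{u})) (y : Y), r.base x ≠ ε.base y := by
    intro x y hxy
    have h1 : r.base x ∈ Set.range (V0.ι ≫ q).base ∩ Set.range ε.base :=
      ⟨⟨x, by rw [hr]⟩, ⟨y, hxy.symm⟩⟩
    rw [hdisj] at h1
    exact h1
  refine isAmple_restrict_of_sections' L hL (p ⁻¹ᵁ Y₁) (fun z hz => ?_)
  -- a chart at `z`
  obtain ⟨W', hW', hW'W, e, hzW', he⟩ := exists_affine_gen L hL z hz
  obtain ⟨b, hb⟩ := exists_basis_of_isGen L e he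
  obtain ⟨v, v', hπv, hvcone, hv'cone, hcrit⟩ := fibre_criterion L 𝒮L jL hjL W' hW' b z hzW'
  -- the open `O`
  obtain ⟨G₀, hG₀⟩ : ∃ G₀ : (V0 : Scheme.{u}).Opens, G₀ = V0.ι ⁻¹ᵁ (N ⊓ 𝒮L.toQCAlg.π ⁻¹ᵁ W') := ⟨_, rfl⟩
  have hOU' : r ''ᵁ G₀ ≤ U' := by
    rintro _ ⟨x, hx, rfl⟩
    rw [hG₀] at hx
    have h1 : V0.ι.base x ∈ N := hx.1
    rw [hmemN] at h1
    change r.base x ∈ U'
    rw [hrapp]
    exact h1
  -- first: `v ∈ N` (use the criterion with a dummy function)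
  have hvN : v ∈ N := by
    obtain ⟨t, ht1, ht2⟩ := exists_taylor (0 : Γ(𝒮L.toQCAlg.spec, N)) hN
    exact (hcrit N 0 (p ⁻¹ᵁ Y₁) hN hW'W t ht1 ht2).1
  have hvV0 : v ∈ V0 := hV0' ▸ hvcone
  have hqvO : q.base v ∈ r ''ᵁ G₀ := by
    refine ⟨⟨v, hvV0⟩, ?_, ?_⟩
    · rw [hG₀]
      refine ⟨hvN, ?_⟩
      change 𝒮L.toQCAlg.π.base v ∈ W'
      rw [hπv]
      exact hzW'
    · exact hrapp ⟨v, hvV0⟩
  -- the function
  obtain ⟨F₀, hF₀le, hF₀v⟩ := hU'.exists_basicOpen_le (V := r ''ᵁ G₀) ⟨q.base v, hqvO⟩ (hOU' hqvO)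
  have hNle : N ≤ q ⁻¹ᵁ U' := hNdef.le
  obtain ⟨F, hF⟩ : ∃ F : Γ(𝒮L.toQCAlg.spec, N), F = (q.appLE U' N hNle).hom F₀ := ⟨_, rfl⟩
  have hbasic : 𝒮L.toQCAlg.spec.basicOpen F = N ⊓ q ⁻¹ᵁ (C.basicOpen F₀) := by
    rw [hF, Scheme.basicOpen_appLE]
  -- `D(F) ⊆ V0 ∩ π⁻¹(W')`
  have hclaim : ∀ v₁ : 𝒮L.toQCAlg.spec, v₁ ∈ 𝒮L.toQCAlg.spec.basicOpen F →
      v₁ ∈ V0 ∧ 𝒮L.toQCAlg.π.base v₁ ∈ W' := by
    intro v₁ hv₁
    rw [hbasic] at hv₁
    have h1 : q.base v₁ ∈ r ''ᵁ G₀ := hF₀le hv₁.2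
    obtain ⟨x, hx, hxv⟩ := h1
    have hxv' : r.base x = q.base v₁ := hxv
    by_cases hv₁V0 : v₁ ∈ V0
    · refine ⟨hv₁V0, ?_⟩
      have h2 : r.base ⟨v₁, hv₁V0⟩ = r.base x := by rw [hrapp, hxv']; rfl
      have h3 := r.isOpenEmbedding.injective h2
      rw [hG₀] at hx
      have h4 : 𝒮L.toQCAlg.π.base (V0.ι.base x) ∈ W' := hx.2
      rw [← h3] at h4
      exact h4
    · obtain ⟨x₁, hx₁⟩ := hnotV0 v₁ hv₁V0
      rw [← hx₁, hqj0] at hxv'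
      exact absurd hxv' (hrε x _)
  -- the Taylor coefficients
  obtain ⟨t, ht1, ht2⟩ := exists_taylor F hN
  obtain ⟨-, hv'N, hc1, hc2⟩ := hcrit N F (p ⁻¹ᵁ Y₁) hN hW'W t ht1 ht2
  have hvF : v ∈ 𝒮L.toQCAlg.spec.basicOpen F := by
    rw [hbasic]
    exact ⟨hvN, hF₀v⟩
  obtain ⟨m, β, hβ, hzβ⟩ := hc1.mp hvF
  have hm : 0 < m := by
    rcases Nat.eq_zero_or_pos m with h | h
    · exfalso
      subst h
      rw [pow_zero, mul_one] at hβ
      have h1 := (hclaim v' (hc2 β hβ hzβ)).1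
      rw [hV0'] at h1
      exact hv'cone h1
    · exact h
  -- the section
  obtain ⟨σ, hσt⟩ := exists_section_of_mem_deg L hL 𝒮L jL hjL m (t m) (ht1 m)
  obtain ⟨D, hDW, hσ⟩ := exists_genLocus_of_section' (CohB1.tensorPow L m) (p ⁻¹ᵁ Y₁) σ
  have hDβ : D ⊓ W' = X.basicOpen β :=
    genLocus_inf_eq_basicOpen L hL 𝒮L jL hjL σ hσ W' hW' hW'W e he b hb β (hσt ▸ hβ)
  -- `D ⊆ W'`
  have hDW' : D ≤ W' := by
    intro z' hz'
    obtain ⟨W'', hW'', hW''D, e'', hz'W'', he''⟩ := exists_affine_gen L hL z' hz'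
    have hW''W : W'' ≤ p ⁻¹ᵁ Y₁ := hW''D.trans hDW
    obtain ⟨b'', hb''⟩ := exists_basis_of_isGen L e'' he''
    obtain ⟨w, w', hπw, -, -, hcrit''⟩ := fibre_criterion L 𝒮L jL hjL W'' hW'' b'' z' hz'W''
    obtain ⟨-, -, hc1'', -⟩ := hcrit'' N F (p ⁻¹ᵁ Y₁) hN hW''W t ht1 ht2
    have hT1 : φAdd L 𝒮L.toQCAlg jL W'' (b'' 0) ∈ 𝒮L.deg W'' hW'' 1 := hjL.2 _ hW'' (b'' 0)
    obtain ⟨β'', hβ''⟩ := exists_eq_mul_pow (𝒮L.deg W'' hW'') (𝒮L.str.app (op W'')).hom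
      (𝒮L.str_mem W'' hW'') _ hT1 (bijective_eval₂ L 𝒮L jL hjL hW'' b'') m _ (ht1 m W'' hW'' hW''W)
    have hDβ'' : D ⊓ W'' = X.basicOpen β'' :=
      genLocus_inf_eq_basicOpen L hL 𝒮L jL hjL σ hσ W'' hW'' hW''W e'' he'' b'' hb'' β'' (hσt ▸ hβ'')
    have hz'β : z' ∈ X.basicOpen β'' := by
      rw [← hDβ'']
      exact ⟨hz', hz'W''⟩
    have hwF := hc1''.mpr ⟨m, β'', hβ'', hz'β⟩
    have := (hclaim w hwF).2
    rwa [hπw] at this
  have hDeq : D = X.basicOpen β := by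
    rw [← hDβ]
    exact (inf_eq_left.mpr hDW').symm
  refine ⟨m, hm, σ, D, ?_, hDW, ?_, hσ⟩
  · rw [hDeq]
    exact hW'.basicOpen β
  · rw [hDeq]
    exact hzβ

include hL hjL h0 haug hj0 hV0 hjq hoi hdisj in
/-- **Grauert's criterion, sufficiency** -/
theorem isRelAmple_of_contraction : RelAmple.IsRelAmple p L := by
  refine ⟨inferInstance, fun V => ?_⟩
  refine Groth.Agent.Lib.Helper23.RestrJ.isAmple_restrict_preimage_of_basicOpen_cover p L V.1 V.2 (fun y hyV => ?_)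
  obtain ⟨U', hU', hyU', -⟩ := exists_isAffineOpen_mem_and_subset (X := C) (x := ε.base y) (U := ⊤) trivial
  obtain ⟨ρ, hρle, hyρ⟩ := V.2.exists_basicOpen_le (V := ε ⁻¹ᵁ U') ⟨y, hyU'⟩ hyV
  refine ⟨ρ, hyρ, ?_⟩
  exact isAmple_restrict_of_contraction p L hL 𝒮L jL hjL h0 aug haug j0 hj0 V0 hV0 ε q hjq hoi hdisj
    (Y.basicOpen ρ) (V.2.basicOpen ρ) U' hU' (fun y' hy' => hρle hy')

end sufficiency

end

end Groth.Agent.Lib.T2H4.Grauert
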