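import Mathlib
import Groth.Agent.Lib.T2H4GrauertE

/-!
# The contraction `q : V(L) ⟶ C` satisfies the existence part of the valuative criterion (helper4)

`p : X ⟶ Y` universally closed, quasi-separated, `L` invertible and ample relative to `p`.

* `exists_ringHom_lift` : the ring-level statement (a map `B[T] → K` with `B → R` and `c T^m ↦ R`, `c` a unit at `R`, lands in `R`)
* `exists_factor_spec`, `range_subset_of_closedPoint_mem` : morphisms from local spectra factor through affine opens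
* `existence_contraction` : `ValuativeCriterion.Existence q`
-/

set_option autoImplicit false
set_option linter.style.haveILetI false
set_option linter.unusedSectionVars false
universe u
open CategoryTheory CategoryTheory.Limits AlgebraicGeometry TopologicalSpace Opposite
open scoped HomogeneousIdeal

namespace Groth.Agent.Lib.T2H4.Grauert
open Groth.Agent.Lib.T2H4.PowMap Groth.Agent.Helper13SpecQMap Groth.Agent.Helper13RelProj
open Groth.Agent.Lib.Helper27Cone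
open Groth.Agent.Lib.Helper23.SecTw Groth.Agent.Lib.Helper23.GenLocus Groth.Agent.Lib.Helper6
open Groth.Agent.Helper13RL Groth.Agent.Helper13SymAlg
open Groth.Agent.Helper13GrPoly Groth.Agent.Helper13ProjLine

/-- the ring-level lifting statement -/
theorem exists_ringHom_lift {R K A B : Type u} [CommRing R] [IsDomain R] [ValuationRing R] [Field K] [Algebra R K]
    [IsFractionRing R K] [CommRing A] [CommRing B] (str : B →+* A) (T : A)
    (hsurj : Function.Surjective (Polynomial.eval₂RingHom str T))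
    (φ₁ : A →+* K) (ψ : B →+* R) (hψ : φ₁.comp str = (algebraMap R K).comp ψ)
    (c : B) (hc : IsUnit (ψ c)) (m : ℕ) (hm : 0 < m)
    (hT : φ₁ (str c * T ^ m) ∈ (algebraMap R K).range) :
    ∃ φ : A →+* R, (algebraMap R K).comp φ = φ₁ := by
  have hψ' : ∀ b, φ₁ (str b) = algebraMap R K (ψ b) := fun b => RingHom.congr_fun hψ b
  -- `φ₁ T ∈ R`
  have hT1 : φ₁ T ∈ (algebraMap R K).range := by
    obtain ⟨r, hr⟩ := hT
    obtain ⟨u, hu⟩ := hc
    have h1 : φ₁ T ^ m = algebraMap R K (↑u⁻¹ * r) := by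
      rw [map_mul, hr, map_mul, map_pow, hψ', ← hu, ← mul_assoc, ← map_mul, Units.inv_mul, map_one, one_mul]
    have h2 : IsIntegral R (φ₁ T ^ m) := by
      rw [h1]
      exact isIntegral_algebraMap
    obtain ⟨y, hy⟩ := IsIntegrallyClosed.exists_algebraMap_eq_of_isIntegral_pow (R := R) (K := K) hm h2
    exact ⟨y, hy⟩
  have hall : ∀ a : A, φ₁ a ∈ (algebraMap R K).range := by
    intro a
    obtain ⟨P, rfl⟩ := hsurj a
    rw [Polynomial.coe_eval₂RingHom, Polynomial.hom_eval₂, Polynomial.eval₂_eq_sum_range]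
    refine Subring.sum_mem _ fun i _ => ?_
    refine Subring.mul_mem _ ?_ (Subring.pow_mem _ hT1 i)
    rw [RingHom.comp_apply, hψ']
    exact ⟨_, rfl⟩
  have hinj : Function.Injective (algebraMap R K) := IsFractionRing.injective R K
  let e : R ≃+* (algebraMap R K).range := RingEquiv.ofBijective (algebraMap R K).rangeRestrict
    ⟨fun x y hxy => hinj (congrArg Subtype.val hxy), (algebraMap R K).rangeRestrict_surjective⟩
  refine ⟨e.symm.toRingHom.comp (φ₁.codRestrict _ hall), RingHom.ext fun a => ?_⟩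
  have h3 : (algebraMap R K).rangeRestrict (e.symm (φ₁.codRestrict _ hall a)) = φ₁.codRestrict _ hall a :=
    e.apply_symm_apply _
  exact congrArg Subtype.val h3

noncomputable section

/-- a morphism between spectra whose range lies in the range of an open immersion from a spectrum factors -/
theorem exists_factor_spec {Z : Scheme.{u}} {A B : CommRingCat.{u}} (f : Spec A ⟶ Z) (j : Spec B ⟶ Z)
    [IsOpenImmersion j] (h : Set.range f.base ⊆ Set.range j.base) : ∃ φ : B ⟶ A, f = Spec.map φ ≫ j :=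
  ⟨Spec.preimage (IsOpenImmersion.lift j f h), by rw [Spec.map_preimage, IsOpenImmersion.lift_fac]⟩

/-- a morphism from a local spectrum lands in any open containing the image of the closed point -/
theorem range_subset_of_closedPoint_mem {Z : Scheme.{u}} {R : CommRingCat.{u}} [IsLocalRing R] (f : Spec R ⟶ Z)
    (W : Z.Opens) (h : f.base (IsLocalRing.closedPoint R) ∈ W) : Set.range f.base ⊆ (W : Set Z) := by
  rintro _ ⟨x, rfl⟩
  exact ((IsLocalRing.specializes_closedPoint x).map f.continuous).mem_open W.2 h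

section existence

variable {X Y : Scheme.{u}} (p : X ⟶ Y) [QuasiCompact p] [QuasiSeparated p]
  (L : X.Modules) [L.IsQuasicoherent] (hL : PicF.IsInvertible L)
  (𝒮L : RelProj.QCGrAlg X) (jL : L ⟶ 𝒮L.toModule) (hjL : RelProj.IsGrSymAlg L 𝒮L jL)
  (aug : 𝒮L.toQCAlg ⟶ RelSpec.QCAlg.unit X) (haug : RelCone.IsAugmentation 𝒮L aug)

include hL hjL haug in
/-- the contraction satisfies the existence part of the valuative criterion -/
theorem existence_contraction (hamp : RelAmple.IsRelAmple p L) (hp : ValuativeCriterion.Existence p)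
    {q : 𝒮L.toQCAlg.spec ⟶ (fibAlg p 𝒮L.toQCAlg aug (isQcqsOver_of p)).spec}
    (hq : RelSpec.IsSpecQMap (fibHom p 𝒮L.toQCAlg aug (isQcqsOver_of p)) q)
    (hqπ : q ≫ (fibAlg p 𝒮L.toQCAlg aug (isQcqsOver_of p)).π = 𝒮L.toQCAlg.π ≫ p) :
    ValuativeCriterion.Existence q := by
  intro S
  have w := S.commSq.w
  have hc' : CommSq (S.i₁ ≫ 𝒮L.toQCAlg.π) (Spec.map (CommRingCat.ofHom (algebraMap S.R S.K))) p
      (S.i₂ ≫ (fibAlg p 𝒮L.toQCAlg aug (isQcqsOver_of p)).π) :=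
    ⟨by rw [Category.assoc, ← hqπ, ← Category.assoc, w, Category.assoc]⟩
  obtain ⟨⟨xR, hx1, hx2⟩⟩ := (hp ⟨S.R, S.K, S.i₁ ≫ 𝒮L.toQCAlg.π,
    S.i₂ ≫ (fibAlg p 𝒮L.toQCAlg aug (isQcqsOver_of p)).π, hc'⟩).exists_lift
  dsimp only at hx1 hx2
  -- the closed point
  obtain ⟨x0, hx0⟩ : ∃ x0 : X, x0 = xR.base (IsLocalRing.closedPoint S.R) := ⟨_, rfl⟩
  obtain ⟨U, hU, hyU, -⟩ := exists_isAffineOpen_mem_and_subset (x := p.base x0) (U := ⊤) trivial
  have hz : x0 ∈ p ⁻¹ᵁ U := hyU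
  obtain ⟨m, hm, σ₀, D, hDaff, hDW₀, hzD, hσ₀⟩ :=
    exists_section_of_isAmple_restrict L hL (p ⁻¹ᵁ U) (hamp.2 ⟨U, hU⟩) _ hz
  obtain ⟨σ, hσdef⟩ : ∃ σ : Γ(CohB1.tensorPow L m, p ⁻¹ᵁ U),
      σ = res (CohB1.tensorPow L m) (le_image_top (p ⁻¹ᵁ U)) σ₀ := ⟨_, rfl⟩
  have hσ : ∀ (V : X.Opens) (hV : V ≤ p ⁻¹ᵁ U),
      IsGen (CohB1.tensorPow L m) V (res (CohB1.tensorPow L m) hV σ) ↔ V ≤ D := by
    intro V hV
    rw [hσdef, res_res]
    exact hσ₀ V (hV.trans (le_image_top _))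
  have hg0 := augR_gSec L hL 𝒮L jL hjL σ hσ hm aug haug
  obtain ⟨f, hf⟩ : ∃ f : (fibAlg p 𝒮L.toQCAlg aug (isQcqsOver_of p)).presheaf.obj (op U),
      f = mkZero p 𝒮L.toQCAlg aug (isQcqsOver_of p) U (gSec L 𝒮L jL σ) hg0 := ⟨_, rfl⟩
  have hf2 : fibSnd p 𝒮L.toQCAlg aug (isQcqsOver_of p) U f = gSec L 𝒮L jL σ := by rw [hf]; rfl
  -- an affine open around `x0` inside `p⁻¹U`
  obtain ⟨_, ⟨W', hW', rfl⟩, hxW', hle⟩ := X.isBasis_affineOpens.exists_subset_of_mem_open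
    (show x0 ∈ ((p ⁻¹ᵁ U : X.Opens) : Set X) from hz) (p ⁻¹ᵁ U).2
  replace hW' : IsAffineOpen W' := hW'
  have hle' : W' ≤ p ⁻¹ᵁ U := hle
  obtain ⟨ρ, hxρ, b, c, hg, hD⟩ := exists_locStr L hL 𝒮L jL σ hσ W' hW' hle' x0 hxW'
  have hD' : IsAffineOpen (X.basicOpen ρ) := hW'.basicOpen ρ
  have hD'U : X.basicOpen ρ ≤ p ⁻¹ᵁ U := (X.basicOpen_le ρ).trans hle'
  -- factor `xR`
  have hr1 : Set.range xR.base ⊆ ((X.basicOpen ρ : X.Opens) : Set X) :=
    range_subset_of_closedPoint_mem xR _ (hx0 ▸ hxρ)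
  obtain ⟨ψ, hψ⟩ := exists_factor_spec xR hD'.fromSpec (by rw [hD'.range_fromSpec]; exact hr1)
  -- factor `i₁`
  have hr2 : Set.range S.i₁.base ⊆ Set.range (𝒮L.toQCAlg.ι _ hD').base := by
    rintro _ ⟨t, rfl⟩
    rw [mem_range_ι_iff]
    have h1 : 𝒮L.toQCAlg.π.base (S.i₁.base t) =
        xR.base ((Spec.map (CommRingCat.ofHom (algebraMap S.R S.K))).base t) := by
      rw [← Scheme.Hom.comp_apply, ← Scheme.Hom.comp_apply, hx1]
    rw [h1]
    exact hr1 ⟨_, rfl⟩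
  obtain ⟨φ₁, hφ₁⟩ := exists_factor_spec S.i₁ (𝒮L.toQCAlg.ι _ hD') hr2
  -- factor `i₂`
  have hr3 : Set.range S.i₂.base ⊆ Set.range ((fibAlg p 𝒮L.toQCAlg aug (isQcqsOver_of p)).ι U hU).base := by
    rintro _ ⟨t, rfl⟩
    rw [mem_range_ι_iff]
    have h1 : (fibAlg p 𝒮L.toQCAlg aug (isQcqsOver_of p)).π.base (S.i₂.base t) = p.base (xR.base t) := by
      rw [← Scheme.Hom.comp_apply, ← Scheme.Hom.comp_apply, hx2]
    rw [h1]
    exact hD'U (hr1 ⟨_, rfl⟩)
  obtain ⟨φ₂, hφ₂⟩ := exists_factor_spec S.i₂ ((fibAlg p 𝒮L.toQCAlg aug (isQcqsOver_of p)).ι U hU) hr3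
  -- compatibilities
  have hc1 : 𝒮L.str.app (op (X.basicOpen ρ)) ≫ φ₁ = ψ ≫ CommRingCat.ofHom (algebraMap S.R S.K) := by
    apply Spec.map_injective
    rw [← cancel_mono hD'.fromSpec, Spec.map_comp, Spec.map_comp, Category.assoc, Category.assoc, ← hψ, hx1,
      hφ₁, Category.assoc, 𝒮L.toQCAlg.ι_π]
  have hc2 : (fibHom p 𝒮L.toQCAlg aug (isQcqsOver_of p)).appLE U (X.basicOpen ρ) hD'U ≫ φ₁ =
      φ₂ ≫ CommRingCat.ofHom (algebraMap S.R S.K) := by
    apply Spec.map_injective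
    rw [← cancel_mono ((fibAlg p 𝒮L.toQCAlg aug (isQcqsOver_of p)).ι U hU), Spec.map_comp, Spec.map_comp,
      Category.assoc, Category.assoc, ← hφ₂, ← w, hφ₁, Category.assoc, hq U hU _ hD' hD'U]
  -- `c` is a unit at `R`
  have hunit : IsUnit (ψ.hom c) := by
    have h1 : x0 ∈ X.basicOpen c := by
      rw [← hD]
      exact ⟨hzD, hxρ⟩
    rw [hx0, hψ] at h1
    have h2 : (Spec.map ψ).base (IsLocalRing.closedPoint S.R) ∈ hD'.fromSpec ⁻¹ᵁ X.basicOpen c := h1
    rw [hD'.fromSpec_preimage_basicOpen] at h2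
    have h3 : ψ.hom c ∉ IsLocalRing.maximalIdeal S.R := h2
    by_contra hnu
    exact h3 ((IsLocalRing.mem_maximalIdeal _).mpr hnu)
  have hT : φ₁.hom ((𝒮L.str.app (op (X.basicOpen ρ))).hom c *
      (φAdd L 𝒮L.toQCAlg jL (X.basicOpen ρ) (b 0)) ^ m) ∈ (algebraMap S.R S.K).range := by
    rw [← hg]
    have h1 : rs 𝒮L.toQCAlg hD'U (gSec L 𝒮L jL σ) =
        ((fibHom p 𝒮L.toQCAlg aug (isQcqsOver_of p)).appLE U (X.basicOpen ρ) hD'U).hom f := by
      rw [← hf2]
      rfl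
    rw [h1]
    exact ⟨φ₂.hom f, (RingHom.congr_fun (congrArg CommRingCat.Hom.hom hc2) f).symm⟩
  obtain ⟨φ, hφ⟩ := exists_ringHom_lift (𝒮L.str.app (op (X.basicOpen ρ))).hom
    (φAdd L 𝒮L.toQCAlg jL (X.basicOpen ρ) (b 0)) (bijective_eval₂ L 𝒮L jL hjL hD' b).2 φ₁.hom ψ.hom
    (by rw [← CommRingCat.hom_comp, hc1]; rfl) c hunit m hm hT
  have hφ' : CommRingCat.ofHom φ ≫ CommRingCat.ofHom (algebraMap S.R S.K) = φ₁ :=
    CommRingCat.hom_ext hφ
  refine ⟨⟨⟨Spec.map (CommRingCat.ofHom φ) ≫ 𝒮L.toQCAlg.ι _ hD', ?_, ?_⟩⟩⟩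
  · rw [← Category.assoc, ← Spec.map_comp, hφ', hφ₁]
  · rw [Category.assoc, hq U hU _ hD' hD'U, ← Category.assoc, ← Spec.map_comp, hφ₂]
    congr 2
    refine CommRingCat.hom_ext (RingHom.ext fun x => ?_)
    apply IsFractionRing.injective S.R S.K
    have h1 := RingHom.congr_fun (congrArg CommRingCat.Hom.hom hc2) x
    rw [← hφ'] at h1
    exact h1

end existence

end

end Groth.Agent.Lib.T2H4.Grauert
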