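import Mathlib
import Groth.Agent.Lib.T2H4GrauertK
import Groth.Agent.Lib.Helper13RelSpecLocal

/-!
# Grauert's criterion for a proper morphism, necessity (EGA II 8.9.1) (helper4)

* `isNilpotent_of_forall_affine` : a section of a quasi-coherent algebra over a quasi-compact open, nilpotent on every affine open, is nilpotent
* `locallyOfFiniteType_π_lineBundle` : the projection `V(L) ⟶ X` of a line bundle is locally of finite type
* `mem_range_of_not_mem_range_ε` : if the image of the contraction `q` is closed, it contains the complement of the vertex section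
* `isProper_contraction` : `q` is proper when `p` is proper and `L` is ample relative to `p`
* `exists_proper_contraction_of_isRelAmple`
-/

set_option autoImplicit false
set_option linter.style.haveILetI false
set_option linter.unusedSectionVars false
universe u
open CategoryTheory CategoryTheory.Limits AlgebraicGeometry TopologicalSpace Opposite
open scoped HomogeneousIdeal

namespace Groth.Agent.Lib.T2H4.Grauert
open Groth.Agent.Lib.T2H4.PowMap Groth.Agent.Helper13SpecQMap Groth.Agent.Helper13RelProj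
open Groth.Agent.Lib.Helper27Cone
open Groth.Agent.Lib.Helper23.SecTw Groth.Agent.Lib.Helper23.GenLocus Groth.Agent.Lib.Helper6
open Groth.Agent.Helper13RL Groth.Agent.Helper13SymAlg
open Groth.Agent.Helper13GrPoly Groth.Agent.Helper13ProjLine

noncomputable section

section nil

variable {X : Scheme.{u}} (𝒮 : RelSpec.QCAlg X)

/-- a section over a quasi-compact open which is nilpotent on each affine open is nilpotent -/
theorem isNilpotent_of_forall_affine {W : X.Opens} (hc : IsCompact (W : Set X)) (s : 𝒮.presheaf.obj (op W))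
    (hs : ∀ (W' : X.Opens) (_ : IsAffineOpen W') (hle : W' ≤ W), IsNilpotent (rs 𝒮 hle s)) :
    IsNilpotent s := by
  classical
  have hloc : ∀ x : W, ∃ (V : X.Opens) (hVW : V ≤ W) (k : ℕ), x.1 ∈ V ∧ rs 𝒮 hVW s ^ k = 0 := by
    intro x
    obtain ⟨_, ⟨W', hW', rfl⟩, hxW', hle⟩ := X.isBasis_affineOpens.exists_subset_of_mem_open x.2 W.2
    obtain ⟨k, hk⟩ := hs W' hW' hle
    exact ⟨W', hle, k, hxW', hk⟩
  choose V hVW k hxV hk using hloc
  obtain ⟨T, hT⟩ := hc.elim_finite_subcover (fun x : W => ((V x : X.Opens) : Set X)) (fun x => (V x).2)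
    (fun x hx => Set.mem_iUnion.2 ⟨⟨x, hx⟩, hxV ⟨x, hx⟩⟩)
  refine ⟨T.sup k, ?_⟩
  refine rs_ext 𝒮 (fun x : T => V x.1) W (fun x => hVW x.1) ?_ _ _ ?_
  · intro x hx
    have := hT hx
    simp only [Set.mem_iUnion] at this
    obtain ⟨y, hy, hxy⟩ := this
    exact Opens.mem_iSup.mpr ⟨⟨y, hy⟩, hxy⟩
  · intro x
    rw [map_zero, map_pow]
    exact pow_eq_zero_of_le (Finset.le_sup (f := k) x.2) (hk x.1)

end nil

section ft

variable {X : Scheme.{u}} (L : X.Modules) [L.IsQuasicoherent] (hL : PicF.IsInvertible L)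
  (𝒮L : RelProj.QCGrAlg X) (jL : L ⟶ 𝒮L.toModule) (hjL : RelProj.IsGrSymAlg L 𝒮L jL)

include hL hjL in
/-- the projection of a line bundle is locally of finite type -/
theorem locallyOfFiniteType_π_lineBundle : LocallyOfFiniteType 𝒮L.toQCAlg.π := by
  have hcov : ∀ x : X, ∃ (W' : X.Opens) (_ : IsAffineOpen W'), x ∈ W' ∧
      Nonempty (Module.Basis (Fin 1) Γ(X, W') Γ(L, W')) := fun x => exists_affine_basis L hL x
  choose W' hW' hxW' hb using hcov
  let 𝒰 : 𝒮L.toQCAlg.spec.OpenCover :=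
    Scheme.Cover.mkOfCovers X (fun x => Spec (𝒮L.presheaf.obj (op (W' x))))
      (fun x => 𝒮L.toQCAlg.ι (W' x) (hW' x))
      (fun v => ⟨𝒮L.toQCAlg.π.base v, (mem_range_ι_iff 𝒮L.toQCAlg (hW' _) v).mpr (hxW' _)⟩)
      (fun x => inferInstance)
  rw [IsZariskiLocalAtSource.iff_of_openCover (P := @LocallyOfFiniteType) 𝒰]
  intro x
  change LocallyOfFiniteType (𝒮L.toQCAlg.ι (W' x) (hW' x) ≫ 𝒮L.toQCAlg.π)
  rw [𝒮L.toQCAlg.ι_π]
  obtain ⟨b⟩ := hb x
  have hft : (𝒮L.str.app (op (W' x))).hom.FiniteType := by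
    have h1 : (𝒮L.str.app (op (W' x))).hom =
        (Polynomial.eval₂RingHom (𝒮L.str.app (op (W' x))).hom (φAdd L 𝒮L.toQCAlg jL (W' x) (b 0))).comp
          (Polynomial.C) := by
      ext r
      simp
    rw [h1]
    refine RingHom.FiniteType.comp (RingHom.FiniteType.of_surjective _ (bijective_eval₂ L 𝒮L jL hjL (hW' x) b).2) ?_
    rw [← Polynomial.algebraMap_eq, RingHom.finiteType_algebraMap]
    infer_instance
  haveI : LocallyOfFiniteType (Spec.map (𝒮L.str.app (op (W' x)))) :=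
    (HasRingHomProperty.Spec_iff (P := @LocallyOfFiniteType)).mpr hft
  infer_instance

end ft

section range

variable {X Y : Scheme.{u}} {p : X ⟶ Y} {𝒜 : RelSpec.QCAlg X} {aug : 𝒜 ⟶ RelSpec.QCAlg.unit X}
  {h : IsQcqsOver p}
  {q : 𝒜.spec ⟶ (fibAlg p 𝒜 aug h).spec} (hq : RelSpec.IsSpecQMap (fibHom p 𝒜 aug h) q)

theorem fibFst_surjective (U : Y.Opens) : Function.Surjective (fibFst p 𝒜 aug h U) := fun a =>
  ⟨mkFib p 𝒜 aug h U a (strA p 𝒜 U a) (augR_strA p 𝒜 aug U a).symm, rfl⟩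

/-- a point of the chart `Spec 𝒮'(U)` outside the vertex section is outside `V(f)` for some `f = (0, s)` -/
theorem exists_not_mem_of_not_mem_range_ε (U : Y.Opens) (hU : IsAffineOpen U)
    (𝔠 : Spec ((fibAlg p 𝒜 aug h).presheaf.obj (op U)))
    (hc : ((fibAlg p 𝒜 aug h).ι U hU).base 𝔠 ∉ Set.range (coneε p 𝒜 aug h).base) :
    ∃ f : (fibAlg p 𝒜 aug h).presheaf.obj (op U), fibFst p 𝒜 aug h U f = 0 ∧ f ∉ 𝔠.asIdeal := by
  by_contra hne
  push Not at hne
  apply hc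
  have hsurj : Function.Surjective (fibAugHom p 𝒜 aug h U).hom := fibFst_surjective U
  have hker : RingHom.ker (fibAugHom p 𝒜 aug h U).hom ≤ 𝔠.asIdeal := by
    intro f hf
    exact hne f ((RingHom.mem_ker).mp hf)
  haveI : (Ideal.map (fibAugHom p 𝒜 aug h U).hom 𝔠.asIdeal).IsPrime :=
    Ideal.map_isPrime_of_surjective hsurj hker
  let 𝔶 : Spec Γ(Y, U) := ⟨Ideal.map (fibAugHom p 𝒜 aug h U).hom 𝔠.asIdeal, inferInstance⟩
  have h1 : (Spec.map (fibAugHom p 𝒜 aug h U)).base 𝔶 = 𝔠 := by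
    apply PrimeSpectrum.ext
    change Ideal.comap (fibAugHom p 𝒜 aug h U).hom (Ideal.map (fibAugHom p 𝒜 aug h U).hom 𝔠.asIdeal) = 𝔠.asIdeal
    rw [Ideal.comap_map_of_surjective' _ hsurj, sup_eq_left]
    exact hker
  refine ⟨hU.fromSpec.base 𝔶, ?_⟩
  rw [← Scheme.Hom.comp_apply, fromSpec_coneε, Scheme.Hom.comp_apply, h1]

include hq in
/-- if the image of `q` is closed, it contains the complement of the vertex section -/
theorem mem_range_of_not_mem_range_ε (hcl : IsClosed (Set.range q.base)) (c : (fibAlg p 𝒜 aug h).spec)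
    (hc : c ∉ Set.range (coneε p 𝒜 aug h).base) : c ∈ Set.range q.base := by
  by_contra hcq
  obtain ⟨U, hU, hyU, -⟩ := exists_isAffineOpen_mem_and_subset
    (x := (fibAlg p 𝒜 aug h).π.base c) (U := ⊤) trivial
  obtain ⟨𝔠, rfl⟩ := (mem_range_ι_iff (fibAlg p 𝒜 aug h) hU c).mpr hyU
  obtain ⟨f, hf1, hf2⟩ := exists_not_mem_of_not_mem_range_ε U hU 𝔠 hc
  -- a basic open around `𝔠` missing the image of `q`
  have hopen : IsOpen (((fibAlg p 𝒜 aug h).ι U hU).base ⁻¹' (Set.range q.base)ᶜ) :=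
    hcl.isOpen_compl.preimage ((fibAlg p 𝒜 aug h).ι U hU).continuous
  obtain ⟨_, ⟨_, ⟨k, rfl⟩, rfl⟩, h𝔠k, hksub⟩ :=
    PrimeSpectrum.isBasis_basic_opens.exists_subset_of_mem_open (show 𝔠 ∈ _ from hcq) hopen
  -- `fibSnd k` is nilpotent
  have hnil : IsNilpotent (fibSnd p 𝒜 aug h U k) := by
    refine isNilpotent_of_forall_affine 𝒜 (h.isCompact U hU) _ fun W' hW' hle => ?_
    rw [nilpotent_iff_mem_prime]
    intro J hJ
    by_contra hJk
    have h1 := (q_ι_mem_iff hq U hU k W' hW' hle ⟨J, hJ⟩).mpr hJk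
    obtain ⟨𝔠', h𝔠', h𝔠''⟩ := h1
    exact hksub h𝔠' ⟨_, h𝔠''.symm⟩
  obtain ⟨N, hN⟩ := hnil
  have hzero : k ^ N * f = 0 := by
    refine fib_ext p 𝒜 aug h ?_ ?_
    · rw [map_mul, hf1, mul_zero, map_zero]
    · rw [map_mul, map_pow, hN, zero_mul, map_zero]
  have h2 : k ^ N * f ∈ 𝔠.asIdeal := by
    rw [hzero]
    exact zero_mem _
  rcases 𝔠.isPrime.mem_or_mem h2 with h3 | h3
  · exact h𝔠k (𝔠.isPrime.mem_of_pow_mem N h3)
  · exact hf2 h3

end range

section proper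

variable {X Y : Scheme.{u}} (p : X ⟶ Y) [IsProper p]
  (L : X.Modules) [L.IsQuasicoherent] (hL : PicF.IsInvertible L)
  (𝒮L : RelProj.QCGrAlg X) (jL : L ⟶ 𝒮L.toModule) (hjL : RelProj.IsGrSymAlg L 𝒮L jL)
  (h0 : RelCone.StrZeroBij 𝒮L)
  (aug : 𝒮L.toQCAlg ⟶ RelSpec.QCAlg.unit X) (haug : RelCone.IsAugmentation 𝒮L aug)
  (j0 : X ⟶ 𝒮L.toQCAlg.spec) (hj0 : RelCone.IsVertex 𝒮L aug j0)
  (V0 : 𝒮L.toQCAlg.spec.Opens) (hV0 : (V0 : Set 𝒮L.toQCAlg.spec) = (Set.range j0.base)ᶜ)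

include hL hjL haug in
/-- the contraction is proper -/
theorem isProper_contraction (hamp : RelAmple.IsRelAmple p L)
    {q : 𝒮L.toQCAlg.spec ⟶ (fibAlg p 𝒮L.toQCAlg aug (isQcqsOver_of p)).spec}
    (hq : RelSpec.IsSpecQMap (fibHom p 𝒮L.toQCAlg aug (isQcqsOver_of p)) q)
    (hqπ : q ≫ (fibAlg p 𝒮L.toQCAlg aug (isQcqsOver_of p)).π = 𝒮L.toQCAlg.π ≫ p) : IsProper q := by
  haveI : LocallyOfFiniteType 𝒮L.toQCAlg.π := locallyOfFiniteType_π_lineBundle L hL 𝒮L jL hjL
  haveI : IsSeparated (q ≫ (fibAlg p 𝒮L.toQCAlg aug (isQcqsOver_of p)).π) := by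
    rw [hqπ]
    infer_instance
  haveI : QuasiCompact (q ≫ (fibAlg p 𝒮L.toQCAlg aug (isQcqsOver_of p)).π) := by
    rw [hqπ]
    infer_instance
  haveI : LocallyOfFiniteType (q ≫ (fibAlg p 𝒮L.toQCAlg aug (isQcqsOver_of p)).π) := by
    rw [hqπ]
    infer_instance
  haveI : IsSeparated q := IsSeparated.of_comp q (fibAlg p 𝒮L.toQCAlg aug (isQcqsOver_of p)).π
  haveI : QuasiCompact q := QuasiCompact.of_comp q (fibAlg p 𝒮L.toQCAlg aug (isQcqsOver_of p)).π
  haveI : LocallyOfFiniteType q :=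
    locallyOfFiniteType_of_comp q (fibAlg p 𝒮L.toQCAlg aug (isQcqsOver_of p)).π
  have hp : ValuativeCriterion.Existence p := by
    have h1 : (ValuativeCriterion.Existence ⊓ @QuasiCompact) p := by
      rw [← UniversallyClosed.eq_valuativeCriterion]
      infer_instance
    exact h1.1
  haveI : UniversallyClosed q := UniversallyClosed.of_valuativeCriterion q
    (existence_contraction p L hL 𝒮L jL hjL aug haug hamp hp hq hqπ)
  exact {}

include hL hjL h0 haug hj0 hV0 in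
/-- **Grauert's criterion for a proper morphism, necessity** -/
theorem exists_proper_contraction_of_isRelAmple (hamp : RelAmple.IsRelAmple p L) :
    ∃ (C : Scheme.{u}) (g : C ⟶ Y) (ε : Y ⟶ C) (q : 𝒮L.toQCAlg.spec ⟶ C),
      ε ≫ g = 𝟙 Y ∧ q ≫ g = 𝒮L.toQCAlg.π ≫ p ∧ j0 ≫ q = p ≫ ε ∧ IsProper q ∧
        IsOpenImmersion (V0.ι ≫ q) ∧ QuasiCompact (V0.ι ≫ q) ∧
          Set.range (V0.ι ≫ q).base = (Set.range ε.base)ᶜ := by
  obtain ⟨q, hq, hqπ⟩ := exists_contraction p 𝒮L.toQCAlg aug (isQcqsOver_of p)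
  have hV0' : V0 = RelCone.pointedCone 𝒮L := by
    apply Opens.ext
    rw [hV0]
    exact (pointedCone_eq_compl_range 𝒮L aug h0 haug j0 hj0).symm
  have hstd := exists_standard_open p L hL 𝒮L jL hjL h0 aug haug j0 hj0 V0 hV0 hamp hq hqπ
  have hprop : IsProper q := isProper_contraction p L hL 𝒮L jL hjL aug haug hamp hq hqπ
  have hjq : j0 ≫ q = p ≫ coneε p 𝒮L.toQCAlg aug (isQcqsOver_of p) :=
    comp_vertex hq j0 (fun W' hW' => hj0.chart W' hW')
  refine ⟨_, (fibAlg p 𝒮L.toQCAlg aug (isQcqsOver_of p)).π, coneε p 𝒮L.toQCAlg aug (isQcqsOver_of p), q,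
    coneε_π _ _ _ _, hqπ, hjq, hprop, ?_, ?_, ?_⟩
  · refine isOpenImmersion_of_forall_isIso_restrict _ fun x => ?_
    obtain ⟨U, hU, f, -, hmem, hle, hiso⟩ := hstd (V0.ι.base x) x.2
    refine ⟨_, hmem, ?_⟩
    rw [morphismRestrict_comp]
    have h1 := Groth.Agent.Lib.T2H4.RLBridge.isIso_morphismRestrict_ι V0 _ hle
    exact @IsIso.comp_isIso _ _ _ _ _ _ _ h1 hiso
  · haveI : QuasiCompact (V0.ι ≫ 𝒮L.toQCAlg.π) := quasiCompact_pointedCone_ι_π L hL 𝒮L jL hjL V0 hV0'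
    haveI : QuasiCompact ((V0.ι ≫ q) ≫ (fibAlg p 𝒮L.toQCAlg aug (isQcqsOver_of p)).π) := by
      rw [Category.assoc, hqπ, ← Category.assoc]
      infer_instance
    exact QuasiCompact.of_comp (V0.ι ≫ q) (fibAlg p 𝒮L.toQCAlg aug (isQcqsOver_of p)).π
  · apply Set.Subset.antisymm
    · rintro c ⟨x, rfl⟩ hc
      obtain ⟨U, hU, f, hf1, hmem, -, -⟩ := hstd (V0.ι.base x) x.2
      exact not_mem_range_ε_of_mem_basicOpen U hU f hf1 _ hmem hc
    · intro c hc
      have hcl : IsClosed (Set.range q.base) := q.isClosedMap.isClosed_range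
      obtain ⟨v, rfl⟩ := mem_range_of_not_mem_range_ε hq hcl c hc
      have hv : v ∈ V0 := by
        change v ∈ (V0 : Set 𝒮L.toQCAlg.spec)
        rw [hV0]
        rintro ⟨x, rfl⟩
        apply hc
        refine ⟨p.base x, ?_⟩
        rw [← Scheme.Hom.comp_apply, ← hjq]
        rfl
      exact ⟨⟨v, hv⟩, rfl⟩

end proper

end

end Groth.Agent.Lib.T2H4.Grauert
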