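import Mathlib
import Groth.Prelude.Def_RelProj4
import Groth.Agent.Lib.Helper13SpecQMap
import Groth.Agent.S8255

/-!
# The effect on direct-image algebras of a morphism of relative spectra (helper4)

* `appLE_gammaMap` : for a `g`-morphism `u : A → B` of quasi-coherent algebras and `h : Spec(B) ⟶ Spec(A)` with the chart equations
  (`IsSpecQMap u h`), the map `Γ(Spec A, π⁻¹U) → Γ(Spec B, π⁻¹g⁻¹U)` induced by `h` corresponds to `u_U : A(U) → B(g⁻¹U)`
  under the identifications `gammaMap`.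
* `bijective_of_isLocalization_away` : a ring map between two localisations away from corresponding elements, over a bijection, is bijective
* `app_basicOpen_bijective` : if `h.app Z` is bijective for an affine open `Z`, so is `h.app (D(b))` for every `b` (for `h` qcqs)
-/

set_option autoImplicit false
set_option linter.style.haveILetI false
set_option linter.unusedSectionVars false
universe u
open CategoryTheory CategoryTheory.Limits AlgebraicGeometry TopologicalSpace Opposite

namespace Groth.Agent.Lib.T2H4.Grauert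
open Groth.Agent.Helper13SpecQMap

theorem bijective_of_isLocalization_away {R A S1 S2 : Type*} [CommRing R] [CommRing A] [CommRing S1] [CommRing S2]
    [Algebra R S1] [Algebra A S2] (b : R) [IsLocalization.Away b S1] (e : R →+* A) (he : Function.Bijective e)
    [IsLocalization.Away (e b) S2] (g : S1 →+* S2)
    (hg : ∀ r, g (algebraMap R S1 r) = algebraMap A S2 (e r)) : Function.Bijective g := by
  let E : R ≃+* A := RingEquiv.ofBijective e he
  have H : (Submonoid.powers b).map E.toMonoidHom = Submonoid.powers (e b) := by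
    rw [Submonoid.map_powers]
    rfl
  let F : S1 ≃+* S2 := IsLocalization.ringEquivOfRingEquiv S1 S2 E H
  have hF : ∀ x, F x = g x := by
    intro x
    have h1 : (F : S1 →+* S2) = g := by
      refine IsLocalization.ringHom_ext (Submonoid.powers b) (RingHom.ext fun r => ?_)
      rw [RingHom.comp_apply, RingHom.comp_apply, hg]
      change (IsLocalization.ringEquivOfRingEquiv S1 S2 E H) (algebraMap R S1 r) = _
      rw [IsLocalization.ringEquivOfRingEquiv_eq]
      rfl
    exact RingHom.congr_fun h1 x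
  have h2 : (g : S1 → S2) = F := funext fun x => (hF x).symm
  rw [h2]
  exact F.bijective

noncomputable section

theorem app_basicOpen_bijective {V C' : Scheme.{u}} (h : V ⟶ C') [QuasiCompact h] [QuasiSeparated h]
    (Z : C'.Opens) (hZ : IsAffineOpen Z) (hbij : Function.Bijective (h.app Z).hom) (b : Γ(C', Z)) :
    Function.Bijective (h.app (C'.basicOpen b)).hom := by
  letI alg1 : Algebra Γ(C', Z) Γ(C', C'.basicOpen b) :=
    (C'.presheaf.map (homOfLE (C'.basicOpen_le b)).op).hom.toAlgebra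
  haveI loc1 : IsLocalization.Away b Γ(C', C'.basicOpen b) := hZ.isLocalization_basicOpen b
  letI alg2 : Algebra Γ(V, h ⁻¹ᵁ Z) Γ(V, h ⁻¹ᵁ C'.basicOpen b) :=
    (V.presheaf.map (homOfLE (h.preimage_mono (C'.basicOpen_le b))).op).hom.toAlgebra
  haveI loc2 : IsLocalization.Away ((h.app Z).hom b) Γ(V, h ⁻¹ᵁ C'.basicOpen b) :=
    RelSpec.QCAlg.isQC_pushforward h Z hZ b
  refine bijective_of_isLocalization_away b (h.app Z).hom hbij (h.app (C'.basicOpen b)).hom fun r => ?_
  have := h.naturality (homOfLE (C'.basicOpen_le b)).op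
  exact congr($(this).hom r)

section bridge

variable {S S' : Scheme.{u}} {g : S' ⟶ S} {A : RelSpec.QCAlg S} {B : RelSpec.QCAlg S'} (u : RelSpec.QHom g A B)
  {h : B.spec ⟶ A.spec} (hh : RelSpec.IsSpecQMap u h)

theorem appLE_of_eq {T Z : Scheme.{u}} {m₁ m₂ : T ⟶ Z} (hm : m₁ = m₂) (U : Z.Opens) (W : T.Opens)
    (e₁ : W ≤ m₁ ⁻¹ᵁ U) (e₂ : W ≤ m₂ ⁻¹ᵁ U) : m₁.appLE U W e₁ = m₂.appLE U W e₂ := by
  subst hm
  rfl

include hh in
theorem preimage_le (U : S.Opens) : B.π ⁻¹ᵁ (g ⁻¹ᵁ U) ≤ h ⁻¹ᵁ (A.π ⁻¹ᵁ U) := by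
  rw [← Scheme.Hom.comp_preimage, ← Scheme.Hom.comp_preimage, specQMap_π u hh]

include hh in
/-- the bridge between the chart equations and the direct-image algebras -/
theorem appLE_gammaMap (U : S.Opens) (hU : IsAffineOpen U) :
    h.appLE (A.π ⁻¹ᵁ U) (B.π ⁻¹ᵁ (g ⁻¹ᵁ U)) (preimage_le u hh U) ≫ B.gammaMap.app (op (g ⁻¹ᵁ U)) =
      A.gammaMap.app (op U) ≫ u.app U := by
  refine CommRingCat.hom_ext (RingHom.ext fun x => ?_)
  refine TopCat.Sheaf.eq_of_locally_eq' ⟨B.presheaf, B.isSheaf⟩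
    (fun W' : {W' : S'.Opens // IsAffineOpen W' ∧ W' ≤ g ⁻¹ᵁ U} => W'.1) (g ⁻¹ᵁ U)
    (fun W' => homOfLE W'.2.2) ?_ _ _ fun W' => ?_
  · intro y hy
    obtain ⟨_, ⟨W', hW', rfl⟩, hyW', hle⟩ := S'.isBasis_affineOpens.exists_subset_of_mem_open hy (g ⁻¹ᵁ U).2
    exact Opens.mem_iSup.mpr ⟨⟨W', hW', hle⟩, hyW'⟩
  · obtain ⟨W', hW', hle⟩ := W'
    have key : (h.appLE (A.π ⁻¹ᵁ U) (B.π ⁻¹ᵁ (g ⁻¹ᵁ U)) (preimage_le u hh U) ≫ B.gammaMap.app (op (g ⁻¹ᵁ U))) ≫
        B.presheaf.map (homOfLE hle).op =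
        (A.gammaMap.app (op U) ≫ u.app U) ≫ B.presheaf.map (homOfLE hle).op := by
      have hnat := B.gammaMap.naturality (homOfLE hle).op
      rw [Category.assoc, ← hnat, B.gammaMap_app W' hW', A.gammaMap_app U hU]
      unfold RelSpec.QCAlg.gammaAff
      change h.appLE (A.π ⁻¹ᵁ U) (B.π ⁻¹ᵁ (g ⁻¹ᵁ U)) (preimage_le u hh U) ≫
        B.spec.presheaf.map (homOfLE (B.π.preimage_mono hle)).op ≫
          (B.ι W' hW').appLE (B.π ⁻¹ᵁ W') ⊤ (B.top_le_preimage W' hW') ≫ (Scheme.ΓSpecIso _).hom = _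
      rw [Scheme.Hom.appLE_map_assoc, Scheme.Hom.appLE_comp_appLE_assoc,
        appLE_of_eq (hh U hU W' hW' hle) (A.π ⁻¹ᵁ U) ⊤ _
          (le_top.trans (by
            rw [Scheme.Hom.comp_preimage]
            exact fun _ _ => A.top_le_preimage U hU trivial)),
        ← Scheme.Hom.appLE_comp_appLE (Spec.map (u.appLE U W' hle)) (A.ι U hU) (A.π ⁻¹ᵁ U) ⊤ ⊤
          (A.top_le_preimage U hU) le_top]
      rw [Category.assoc, Category.assoc, Category.assoc]
      congr 1
      have h1 : (Spec.map (u.appLE U W' hle)).appLE ⊤ ⊤ le_top = (Spec.map (u.appLE U W' hle)).appTop := by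
        rw [Scheme.Hom.appTop, Scheme.Hom.app_eq_appLE]
        rfl
      rw [h1, Scheme.ΓSpecIso_naturality, RelSpec.QHom.appLE_eq]
    exact congr($(key).hom x)

end bridge

end

end Groth.Agent.Lib.T2H4.Grauert
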