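import Mathlib
import Groth.Agent.Lib.T2H4GrauertM
import Groth.Agent.Lib.T2H4GrauertL
import Groth.Agent.Lib.Helper10RelSpecHom

/-!
# Comparison of the contraction `C = Spec(O_Y ×_{p_* O_X} p_* 𝒜)` with `C' = Spec((π ≫ p)_* O_V)` (helper4)

`p : X ⟶ Y` with `p^♯ : O_Y → p_* O_X` an isomorphism, `V = Spec(𝒜)`, `f = π ≫ p`.

* `algHom_comp`, `algHom_id` : functoriality of `AffAlg.algHom`
* `fibSnd_bijective` : the second projection `𝒮'(U) → 𝒜(p⁻¹U)` is bijective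
* `isIso_algHom_contraction` : the algebra map of the contraction `q : V ⟶ C` is an isomorphism
* `exists_comparison` : an isomorphism `θ : C' ≅ C` over `Y` with `q' ≫ θ = q` for the canonical `q' : V ⟶ C'`
-/

set_option autoImplicit false
set_option linter.style.haveILetI false
set_option linter.unusedSectionVars false
universe u
open CategoryTheory CategoryTheory.Limits AlgebraicGeometry TopologicalSpace Opposite

namespace Groth.Agent.Lib.T2H4.Grauert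
open Groth.Agent.Lib.T2H4.PowMap Groth.Agent.Helper13SpecQMap Groth.Agent.Helper13RelProj
open Groth.Agent.Lib.Helper27Cone Groth.Agent.Lib.Helper10.RelSpecHom

noncomputable section

section alg

variable {X₁ X₂ X₃ S : Scheme.{u}}

theorem algHom_comp (f₁ : X₁ ⟶ S) (f₂ : X₂ ⟶ S) (f₃ : X₃ ⟶ S) (h₁ : X₂ ⟶ X₁) (h₂ : X₃ ⟶ X₂)
    (w₁ : h₁ ≫ f₁ = f₂) (w₂ : h₂ ≫ f₂ = f₃) :
    AffAlg.algHom f₁ f₃ (h₂ ≫ h₁) (by rw [Category.assoc, w₁, w₂]) =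
      AffAlg.algHom f₁ f₂ h₁ w₁ ≫ AffAlg.algHom f₂ f₃ h₂ w₂ := by
  refine hom_ext_affine f₁ f₃ _ _ fun U _ => ?_
  rw [NatTrans.comp_app, algHom_app, algHom_app, algHom_app, Scheme.Hom.appLE_comp_appLE]

theorem algHom_id (f₁ : X₁ ⟶ S) : AffAlg.algHom f₁ f₁ (𝟙 X₁) (Category.id_comp _) = 𝟙 _ := by
  refine hom_ext_affine f₁ f₁ _ _ fun U _ => ?_
  rw [algHom_app, NatTrans.id_app]
  simp only [Scheme.Hom.appLE, Scheme.Hom.id_app]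
  exact (Category.id_comp _).trans (X₁.presheaf.map_id _)

end alg

section cmp

variable {X Y : Scheme.{u}} (p : X ⟶ Y) [QuasiCompact p] [QuasiSeparated p] (𝒜 : RelSpec.QCAlg X)
  (aug : 𝒜 ⟶ RelSpec.QCAlg.unit X) (h : IsQcqsOver p)

theorem fibSnd_bijective (hθ : IsIso p.c) (U : Y.Opens) : Function.Bijective (fibSnd p 𝒜 aug h U) := by
  have hiso : IsIso (p.c.app (op U)) := NatIso.isIso_app_of_isIso p.c (op U)
  have hb : Function.Bijective (p.app U).hom := (ConcreteCategory.isIso_iff_bijective _).mp hiso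
  constructor
  · intro x y hxy
    refine fib_ext p 𝒜 aug h ?_ hxy
    apply hb.1
    rw [fib_compat, fib_compat, hxy]
  · intro s
    obtain ⟨a, ha⟩ := hb.2 (augR 𝒜 aug (p ⁻¹ᵁ U) s)
    exact ⟨mkFib p 𝒜 aug h U a s ha, rfl⟩

end cmp

section cmp2

variable {X Y : Scheme.{u}} (p : X ⟶ Y) [QuasiCompact p] [QuasiSeparated p] (𝒜 : RelSpec.QCAlg X)
  (aug : 𝒜 ⟶ RelSpec.QCAlg.unit X) (h : IsQcqsOver p)
  [QuasiCompact (𝒜.π ≫ p)] [QuasiSeparated (𝒜.π ≫ p)]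
  {q : 𝒜.spec ⟶ (fibAlg p 𝒜 aug h).spec} (hq : RelSpec.IsSpecQMap (fibHom p 𝒜 aug h) q)
  (hqπ : q ≫ (fibAlg p 𝒜 aug h).π = 𝒜.π ≫ p)

include hq in
/-- the algebra map of the contraction is an isomorphism on affine opens -/
theorem isIso_algHom_app (hθ : IsIso p.c) (U : Y.Opens) (hU : IsAffineOpen U) :
    IsIso ((AffAlg.algHom (fibAlg p 𝒜 aug h).π (𝒜.π ≫ p) q hqπ).app (op U)) := by
  rw [algHom_app]
  have hb := appLE_gammaMap (fibHom p 𝒜 aug h) hq U hU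
  have hγ𝒜 : IsIso 𝒜.gammaMap := Groth.Agent.S8255.result 𝒜
  have hγC : IsIso (fibAlg p 𝒜 aug h).gammaMap := Groth.Agent.S8255.result _
  haveI : IsIso (𝒜.gammaMap.app (op (p ⁻¹ᵁ U))) := NatIso.isIso_app_of_isIso _ _
  haveI : IsIso ((fibAlg p 𝒜 aug h).gammaMap.app (op U)) := NatIso.isIso_app_of_isIso _ _
  haveI : IsIso ((fibHom p 𝒜 aug h).app U) := by
    rw [ConcreteCategory.isIso_iff_bijective]
    exact fibSnd_bijective p 𝒜 aug h hθ U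
  have e : q.appLE ((fibAlg p 𝒜 aug h).π ⁻¹ᵁ U) (𝒜.π ⁻¹ᵁ (p ⁻¹ᵁ U)) (preimage_le (fibHom p 𝒜 aug h) hq U) =
      ((fibAlg p 𝒜 aug h).gammaMap.app (op U) ≫ (fibHom p 𝒜 aug h).app U) ≫
        inv (𝒜.gammaMap.app (op (p ⁻¹ᵁ U))) := by
    rw [← hb, Category.assoc, IsIso.hom_inv_id, Category.comp_id]
  have e' : IsIso (q.appLE ((fibAlg p 𝒜 aug h).π ⁻¹ᵁ U) (𝒜.π ⁻¹ᵁ (p ⁻¹ᵁ U))
      (preimage_le (fibHom p 𝒜 aug h) hq U)) := by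
    rw [e]
    infer_instance
  exact e'

include hq in
/-- the algebra map of the contraction is an isomorphism -/
theorem isIso_algHom (hθ : IsIso p.c) :
    IsIso (AffAlg.algHom (fibAlg p 𝒜 aug h).π (𝒜.π ≫ p) q hqπ) := by
  let F : TopCat.Sheaf CommRingCat.{u} Y.carrier :=
    ⟨AffAlg.alg (fibAlg p 𝒜 aug h).π, TopCat.Sheaf.pushforward_sheaf_of_sheaf _ (fibAlg p 𝒜 aug h).spec.sheaf.property⟩
  let G : TopCat.Sheaf CommRingCat.{u} Y.carrier :=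
    ⟨AffAlg.alg (𝒜.π ≫ p), TopCat.Sheaf.pushforward_sheaf_of_sheaf _ 𝒜.spec.sheaf.property⟩
  let φ : F ⟶ G := ⟨AffAlg.algHom (fibAlg p 𝒜 aug h).π (𝒜.π ≫ p) q hqπ⟩
  have hφ : IsIso φ := by
    apply TopCat.Sheaf.isIso_iff_isIso_basis (B := (Subtype.val : Y.affineOpens → Y.Opens))
      (by rw [Subtype.range_coe]; exact Y.isBasis_affineOpens)
    intro U
    exact isIso_algHom_app p 𝒜 aug h hq hqπ hθ U.1 U.2
  have h3 : IsIso ((sheafToPresheaf _ _).map φ) := Functor.map_isIso _ φ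
  exact h3

include hq hqπ in
/-- **comparison**: `C' = Spec((π ≫ p)_* O_V)` is isomorphic over `Y` to `C`, compatibly with the canonical morphisms from `V` -/
theorem exists_comparison (hθ : IsIso p.c)
    (q' : 𝒜.spec ⟶ (RelSpec.QCAlg.directImage (𝒜.π ≫ p)).spec)
    (hq'π : q' ≫ (RelSpec.QCAlg.directImage (𝒜.π ≫ p)).π = 𝒜.π ≫ p)
    (hq' : AffAlg.algHom (RelSpec.QCAlg.directImage (𝒜.π ≫ p)).π (𝒜.π ≫ p) q' hq'π =
      (RelSpec.QCAlg.directImage (𝒜.π ≫ p)).gammaMap) :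
    ∃ θ : (RelSpec.QCAlg.directImage (𝒜.π ≫ p)).spec ⟶ (fibAlg p 𝒜 aug h).spec, IsIso θ ∧
      θ ≫ (fibAlg p 𝒜 aug h).π = (RelSpec.QCAlg.directImage (𝒜.π ≫ p)).π ∧ q' ≫ θ = q := by
  obtain ⟨ℬ, hℬ⟩ : ∃ ℬ : RelSpec.QCAlg Y, ℬ = RelSpec.QCAlg.directImage (𝒜.π ≫ p) := ⟨_, rfl⟩
  obtain ⟨ω, hω⟩ : ∃ ω, ω = AffAlg.algHom (fibAlg p 𝒜 aug h).π (𝒜.π ≫ p) q hqπ := ⟨_, rfl⟩
  haveI hωiso : IsIso ω := hω ▸ isIso_algHom p 𝒜 aug h hq hqπ hθ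
  have hωc : (fibAlg p 𝒜 aug h).π.c ≫ ω = (𝒜.π ≫ p).c := hω ▸ AffAlg.algHom_comm _ _ q hqπ
  obtain ⟨γ', hγ'⟩ : ∃ γ' : AffAlg.alg (RelSpec.QCAlg.directImage (𝒜.π ≫ p)).π ⟶ AffAlg.alg (𝒜.π ≫ p),
      γ' = (RelSpec.QCAlg.directImage (𝒜.π ≫ p)).gammaMap := ⟨_, rfl⟩
  haveI hγ : IsIso γ' := by
    subst hγ'
    exact Groth.Agent.S8255.result _
  have hγc : (RelSpec.QCAlg.directImage (𝒜.π ≫ p)).π.c ≫ γ' = (𝒜.π ≫ p).c := by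
    subst hγ'
    exact (RelSpec.QCAlg.directImage (𝒜.π ≫ p)).π_c_gammaMap
  have hq'' : AffAlg.algHom (RelSpec.QCAlg.directImage (𝒜.π ≫ p)).π (𝒜.π ≫ p) q' hq'π = γ' := by
    rw [hγ']
    exact hq'
  -- the two algebra maps
  obtain ⟨ω₁, hω₁⟩ : ∃ ω₁ : AffAlg.alg (fibAlg p 𝒜 aug h).π ⟶ AffAlg.alg (RelSpec.QCAlg.directImage (𝒜.π ≫ p)).π,
      ω₁ = ω ≫ inv γ' := ⟨_, rfl⟩
  obtain ⟨ω₂, hω₂⟩ : ∃ ω₂ : AffAlg.alg (RelSpec.QCAlg.directImage (𝒜.π ≫ p)).π ⟶ AffAlg.alg (fibAlg p 𝒜 aug h).π,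
      ω₂ = γ' ≫ inv ω := ⟨_, rfl⟩
  have hω₁c : (fibAlg p 𝒜 aug h).π.c ≫ ω₁ = (RelSpec.QCAlg.directImage (𝒜.π ≫ p)).π.c := by
    rw [hω₁, ← Category.assoc, hωc, ← hγc, Category.assoc, IsIso.hom_inv_id, Category.comp_id]
  have hω₂c : (RelSpec.QCAlg.directImage (𝒜.π ≫ p)).π.c ≫ ω₂ = (fibAlg p 𝒜 aug h).π.c := by
    rw [hω₂, ← Category.assoc, hγc, ← hωc, Category.assoc, IsIso.hom_inv_id, Category.comp_id]
  have h12 : ω₁ ≫ ω₂ = 𝟙 _ := by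
    rw [hω₁, hω₂, Category.assoc, IsIso.inv_hom_id_assoc, IsIso.hom_inv_id]
  have h21 : ω₂ ≫ ω₁ = 𝟙 _ := by
    rw [hω₁, hω₂, Category.assoc, IsIso.inv_hom_id_assoc, IsIso.hom_inv_id]
  -- the two morphisms
  obtain ⟨θ, hθ'⟩ : ∃ θ, θ = glued (fibAlg p 𝒜 aug h).π (RelSpec.QCAlg.directImage (𝒜.π ≫ p)).π ω₁ := ⟨_, rfl⟩
  obtain ⟨θ', hθ''⟩ : ∃ θ', θ' = glued (RelSpec.QCAlg.directImage (𝒜.π ≫ p)).π (fibAlg p 𝒜 aug h).π ω₂ := ⟨_, rfl⟩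
  have hθπ : θ ≫ (fibAlg p 𝒜 aug h).π = (RelSpec.QCAlg.directImage (𝒜.π ≫ p)).π := by
    rw [hθ']
    exact glued_comp _ _ _ hω₁c
  have hθ'π : θ' ≫ (RelSpec.QCAlg.directImage (𝒜.π ≫ p)).π = (fibAlg p 𝒜 aug h).π := by
    rw [hθ'']
    exact glued_comp _ _ _ hω₂c
  have hθalg : AffAlg.algHom (fibAlg p 𝒜 aug h).π (RelSpec.QCAlg.directImage (𝒜.π ≫ p)).π θ hθπ = ω₁ := by
    subst hθ'
    exact algHom_glued _ _ _ hω₁c
  have hθ'alg : AffAlg.algHom (RelSpec.QCAlg.directImage (𝒜.π ≫ p)).π (fibAlg p 𝒜 aug h).π θ' hθ'π = ω₂ := by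
    subst hθ''
    exact algHom_glued _ _ _ hω₂c
  have hinj := fun {T : Scheme.{u}} (t : T ⟶ Y) => (bijective_algOf (fibAlg p 𝒜 aug h).π t).1
  have hinj' := fun {T : Scheme.{u}} (t : T ⟶ Y) =>
    (bijective_algOf (RelSpec.QCAlg.directImage (𝒜.π ≫ p)).π t).1
  have hc1 : θ ≫ θ' = 𝟙 _ := by
    have w : (θ ≫ θ') ≫ (RelSpec.QCAlg.directImage (𝒜.π ≫ p)).π = (RelSpec.QCAlg.directImage (𝒜.π ≫ p)).π := by
      rw [Category.assoc, hθ'π, hθπ]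
    have := @hinj' _ (RelSpec.QCAlg.directImage (𝒜.π ≫ p)).π ⟨θ ≫ θ', w⟩ ⟨𝟙 _, Category.id_comp _⟩ (by
      apply Subtype.ext
      change AffAlg.algHom _ _ (θ ≫ θ') w = AffAlg.algHom _ _ (𝟙 _) (Category.id_comp _)
      rw [algHom_id, algHom_comp _ _ _ θ' θ hθ'π hθπ, hθ'alg, hθalg, h21])
    exact congrArg Subtype.val this
  have hc2 : θ' ≫ θ = 𝟙 _ := by
    have w : (θ' ≫ θ) ≫ (fibAlg p 𝒜 aug h).π = (fibAlg p 𝒜 aug h).π := by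
      rw [Category.assoc, hθπ, hθ'π]
    have := @hinj _ (fibAlg p 𝒜 aug h).π ⟨θ' ≫ θ, w⟩ ⟨𝟙 _, Category.id_comp _⟩ (by
      apply Subtype.ext
      change AffAlg.algHom _ _ (θ' ≫ θ) w = AffAlg.algHom _ _ (𝟙 _) (Category.id_comp _)
      rw [algHom_id, algHom_comp _ _ _ θ θ' hθπ hθ'π, hθalg, hθ'alg, h12])
    exact congrArg Subtype.val this
  refine ⟨θ, ⟨θ', hc1, hc2⟩, hθπ, ?_⟩
  have w : (q' ≫ θ) ≫ (fibAlg p 𝒜 aug h).π = 𝒜.π ≫ p := by rw [Category.assoc, hθπ, hq'π]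
  have := @hinj _ (𝒜.π ≫ p) ⟨q' ≫ θ, w⟩ ⟨q, hqπ⟩ (by
    apply Subtype.ext
    change AffAlg.algHom _ _ (q' ≫ θ) w = AffAlg.algHom _ _ q hqπ
    rw [algHom_comp _ _ _ θ q' hθπ hq'π, hθalg, hq'', hω₁, Category.assoc, IsIso.inv_hom_id, Category.comp_id, hω])
  exact congrArg Subtype.val this

end cmp2

end

end Groth.Agent.Lib.T2H4.Grauert
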