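import Mathlib
import Groth.Agent.Lib.T2H4GrauertN
import Groth.Agent.Lib.T2H4FactorA

/-!
# The canonical contraction `q' : V(L) ⟶ C' = Spec((π ≫ p)_* O_V)` and morphisms factoring through it (helper4)

`p : X ⟶ Y` proper with `p^♯` an isomorphism, `L` invertible and ample relative to `p`.

* `surjective_of_isIso_c` : a closed morphism with `p^♯` an isomorphism is surjective
* `fibre_of_contraction` : the fibres of a contraction
* `proper_contraction_facts` : the properties of `q : V ⟶ C = Spec(𝒮')`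
* `canonical_contraction_facts` : the same for `q' : V ⟶ C'`
* `exists_basis_bijective` : `q'.app` is bijective on a basis of `C'`
* `existsUnique_factor_of_contraction` : every contraction `(C₁, ε₁, q₁)` factors uniquely through `q'`
-/

set_option autoImplicit false
set_option linter.style.haveILetI false
set_option linter.unusedSectionVars false
universe u
open CategoryTheory CategoryTheory.Limits AlgebraicGeometry TopologicalSpace Opposite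
open scoped HomogeneousIdeal

namespace Groth.Agent.Lib.T2H4.Grauert
open Groth.Agent.Lib.T2H4.PowMap Groth.Agent.Helper13SpecQMap Groth.Agent.Helper13RelProj
open Groth.Agent.Lib.Helper27Cone Groth.Agent.Lib.Helper10.RelSpecHom
open Groth.Agent.Lib.Helper23.SecTw Groth.Agent.Lib.Helper23.GenLocus Groth.Agent.Lib.Helper6
open Groth.Agent.Helper13RL Groth.Agent.Helper13SymAlg
open Groth.Agent.Helper13GrPoly Groth.Agent.Helper13ProjLine

noncomputable section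

/-- a closed morphism with `p^♯` an isomorphism is surjective -/
theorem surjective_of_isIso_c {X Y : Scheme.{u}} (p : X ⟶ Y) (hcl : IsClosedMap p.base) (hθ : IsIso p.c) :
    Function.Surjective p.base := by
  intro y
  by_contra hy
  have hopen : IsOpen (Set.range p.base)ᶜ := hcl.isClosed_range.isOpen_compl
  obtain ⟨U, hU, hyU, hUle⟩ := exists_isAffineOpen_mem_and_subset (x := y) (U := ⟨_, hopen⟩) hy
  have hempty : p ⁻¹ᵁ U = ⊥ := by
    ext x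
    simp only [Opens.coe_bot, Set.mem_empty_iff_false, iff_false]
    intro hx
    exact hUle hx ⟨x, rfl⟩
  have hiso : IsIso (p.c.app (op U)) := NatIso.isIso_app_of_isIso p.c (op U)
  have hb : Function.Bijective (p.app U).hom := (ConcreteCategory.isIso_iff_bijective _).mp hiso
  haveI : Subsingleton Γ(X, p ⁻¹ᵁ U) := by
    rw [hempty]
    infer_instance
  haveI : Subsingleton Γ(Y, U) := hb.1.subsingleton
  have h1 : y ∈ Y.basicOpen (1 : Γ(Y, U)) := by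
    rw [Scheme.basicOpen_of_isUnit _ isUnit_one]
    exact hyU
  rw [Subsingleton.elim (1 : Γ(Y, U)) 0, Scheme.basicOpen_zero] at h1
  exact h1

/-- the fibres of a contraction -/
theorem fibre_of_contraction {X Y V C₁ : Scheme.{u}} (p : X ⟶ Y) (j0 : X ⟶ V) (q₁ : V ⟶ C₁) (ε₁ : Y ⟶ C₁)
    (g₁ : C₁ ⟶ Y) (hε : ε₁ ≫ g₁ = 𝟙 Y) (hj : j0 ≫ q₁ = p ≫ ε₁) (V0 : V.Opens)
    (hV0 : (V0 : Set V) = (Set.range j0.base)ᶜ) (hoi : IsOpenImmersion (V0.ι ≫ q₁))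
    (hr : Set.range (V0.ι ≫ q₁).base = (Set.range ε₁.base)ᶜ) (v₁ v₂ : V) (h : q₁.base v₁ = q₁.base v₂) :
    v₁ = v₂ ∨ ∃ x₁ x₂, v₁ = j0.base x₁ ∧ v₂ = j0.base x₂ ∧ p.base x₁ = p.base x₂ := by
  have hmem : ∀ v : V, v ∈ V0 ∨ ∃ x, v = j0.base x := by
    intro v
    by_cases hv : v ∈ (V0 : Set V)
    · exact Or.inl hv
    · rw [hV0] at hv
      simp only [Set.mem_compl_iff, not_not] at hv
      obtain ⟨x, rfl⟩ := hv
      exact Or.inr ⟨x, rfl⟩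
  have hqj : ∀ x, q₁.base (j0.base x) = ε₁.base (p.base x) := by
    intro x
    rw [← Scheme.Hom.comp_apply, hj, Scheme.Hom.comp_apply]
  have hV0r : ∀ v (hv : v ∈ V0), q₁.base v ∉ Set.range ε₁.base := by
    intro v hv
    have : q₁.base v ∈ Set.range (V0.ι ≫ q₁).base := ⟨⟨v, hv⟩, rfl⟩
    rw [hr] at this
    exact this
  have hεinj : Function.Injective ε₁.base := by
    intro y₁ y₂ hy
    have := congrArg g₁.base hy
    rw [← Scheme.Hom.comp_apply, ← Scheme.Hom.comp_apply, hε] at this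
    exact this
  rcases hmem v₁ with hv₁ | ⟨x₁, rfl⟩
  · rcases hmem v₂ with hv₂ | ⟨x₂, rfl⟩
    · left
      have hinj : Function.Injective (V0.ι ≫ q₁).base := (Scheme.Hom.isOpenEmbedding _).injective
      have := @hinj ⟨v₁, hv₁⟩ ⟨v₂, hv₂⟩ h
      exact congrArg Subtype.val this
    · exfalso
      apply hV0r v₁ hv₁
      rw [h, hqj]
      exact ⟨_, rfl⟩
  · rcases hmem v₂ with hv₂ | ⟨x₂, rfl⟩
    · exfalso
      apply hV0r v₂ hv₂
      rw [← h, hqj]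
      exact ⟨_, rfl⟩
    · right
      refine ⟨x₁, x₂, rfl, rfl, ?_⟩
      rw [hqj, hqj] at h
      exact hεinj h

section proper

variable {X Y : Scheme.{u}} (p : X ⟶ Y) [IsProper p]
  (L : X.Modules) [L.IsQuasicoherent] (hL : PicF.IsInvertible L)
  (𝒮L : RelProj.QCGrAlg X) (jL : L ⟶ 𝒮L.toModule) (hjL : RelProj.IsGrSymAlg L 𝒮L jL)
  (h0 : RelCone.StrZeroBij 𝒮L)
  (aug : 𝒮L.toQCAlg ⟶ RelSpec.QCAlg.unit X) (haug : RelCone.IsAugmentation 𝒮L aug)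
  (j0 : X ⟶ 𝒮L.toQCAlg.spec) (hj0 : RelCone.IsVertex 𝒮L aug j0)
  (V0 : 𝒮L.toQCAlg.spec.Opens) (hV0 : (V0 : Set 𝒮L.toQCAlg.spec) = (Set.range j0.base)ᶜ)

include hL hjL h0 haug hj0 hV0 in
/-- the properties of the contraction `q : V ⟶ C` -/
theorem proper_contraction_facts (hamp : RelAmple.IsRelAmple p L)
    {q : 𝒮L.toQCAlg.spec ⟶ (fibAlg p 𝒮L.toQCAlg aug (isQcqsOver_of p)).spec}
    (hq : RelSpec.IsSpecQMap (fibHom p 𝒮L.toQCAlg aug (isQcqsOver_of p)) q)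
    (hqπ : q ≫ (fibAlg p 𝒮L.toQCAlg aug (isQcqsOver_of p)).π = 𝒮L.toQCAlg.π ≫ p) :
    IsProper q ∧ j0 ≫ q = p ≫ coneε p 𝒮L.toQCAlg aug (isQcqsOver_of p) ∧
      IsOpenImmersion (V0.ι ≫ q) ∧
        Set.range (V0.ι ≫ q).base = (Set.range (coneε p 𝒮L.toQCAlg aug (isQcqsOver_of p)).base)ᶜ := by
  have hstd := exists_standard_open p L hL 𝒮L jL hjL h0 aug haug j0 hj0 V0 hV0 hamp hq hqπ
  have hprop : IsProper q := isProper_contraction p L hL 𝒮L jL hjL aug haug hamp hq hqπ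
  have hjq : j0 ≫ q = p ≫ coneε p 𝒮L.toQCAlg aug (isQcqsOver_of p) :=
    comp_vertex hq j0 (fun W' hW' => hj0.chart W' hW')
  refine ⟨hprop, hjq, ?_, ?_⟩
  · refine isOpenImmersion_of_forall_isIso_restrict _ fun x => ?_
    obtain ⟨U, hU, f, -, hmem, hle, hiso⟩ := hstd (V0.ι.base x) x.2
    refine ⟨_, hmem, ?_⟩
    rw [morphismRestrict_comp]
    have h1 := Groth.Agent.Lib.T2H4.RLBridge.isIso_morphismRestrict_ι V0 _ hle
    exact @IsIso.comp_isIso _ _ _ _ _ _ _ h1 hiso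
  · apply Set.Subset.antisymm
    · rintro c ⟨x, rfl⟩ hc
      obtain ⟨U, hU, f, hf1, hmem, -, -⟩ := hstd (V0.ι.base x) x.2
      exact not_mem_range_ε_of_mem_basicOpen U hU f hf1 _ hmem hc
    · intro c hc
      have hcl : IsClosed (Set.range q.base) := q.isClosedMap.isClosed_range
      obtain ⟨v, rfl⟩ := mem_range_of_not_mem_range_ε hq hcl c hc
      have hv : v ∈ V0 := by
        change v ∈ (V0 : Set 𝒮L.toQCAlg.spec)
        rw [hV0]
        rintro ⟨x, rfl⟩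
        apply hc
        refine ⟨p.base x, ?_⟩
        rw [← Scheme.Hom.comp_apply, ← hjq]
        rfl
      exact ⟨⟨v, hv⟩, rfl⟩

end proper

section canonical

variable {X Y : Scheme.{u}} (p : X ⟶ Y) [IsProper p]
  (L : X.Modules) [L.IsQuasicoherent] (hL : PicF.IsInvertible L)
  (𝒮L : RelProj.QCGrAlg X) (jL : L ⟶ 𝒮L.toModule) (hjL : RelProj.IsGrSymAlg L 𝒮L jL)
  (h0 : RelCone.StrZeroBij 𝒮L)
  (aug : 𝒮L.toQCAlg ⟶ RelSpec.QCAlg.unit X) (haug : RelCone.IsAugmentation 𝒮L aug)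
  (j0 : X ⟶ 𝒮L.toQCAlg.spec) (hj0 : RelCone.IsVertex 𝒮L aug j0)
  (V0 : 𝒮L.toQCAlg.spec.Opens) (hV0 : (V0 : Set 𝒮L.toQCAlg.spec) = (Set.range j0.base)ᶜ)
  (q' : 𝒮L.toQCAlg.spec ⟶ (RelSpec.QCAlg.directImage (𝒮L.toQCAlg.π ≫ p)).spec)
  (hq'π : q' ≫ (RelSpec.QCAlg.directImage (𝒮L.toQCAlg.π ≫ p)).π = 𝒮L.toQCAlg.π ≫ p)
  (hq' : AffAlg.algHom (RelSpec.QCAlg.directImage (𝒮L.toQCAlg.π ≫ p)).π (𝒮L.toQCAlg.π ≫ p) q' hq'π =
    (RelSpec.QCAlg.directImage (𝒮L.toQCAlg.π ≫ p)).gammaMap)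

include hL hjL h0 haug hj0 hV0 hq' in
/-- the properties of the canonical contraction `q' : V ⟶ C'` -/
theorem canonical_contraction_facts (hθ : IsIso p.c) (hamp : RelAmple.IsRelAmple p L) :
    IsProper q' ∧ ∃ ε' : Y ⟶ (RelSpec.QCAlg.directImage (𝒮L.toQCAlg.π ≫ p)).spec,
      ε' ≫ (RelSpec.QCAlg.directImage (𝒮L.toQCAlg.π ≫ p)).π = 𝟙 Y ∧ j0 ≫ q' = p ≫ ε' ∧
        IsOpenImmersion (V0.ι ≫ q') ∧ Set.range (V0.ι ≫ q').base = (Set.range ε'.base)ᶜ := by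
  obtain ⟨q, hq, hqπ⟩ := exists_contraction p 𝒮L.toQCAlg aug (isQcqsOver_of p)
  obtain ⟨hprop, hjq, hoi, hr⟩ :=
    proper_contraction_facts p L hL 𝒮L jL hjL h0 aug haug j0 hj0 V0 hV0 hamp hq hqπ
  obtain ⟨θ, hθiso, hθπ, hθq⟩ := exists_comparison p 𝒮L.toQCAlg aug (isQcqsOver_of p) hq hqπ hθ q' hq'π hq'
  have hq'eq : q' = q ≫ inv θ := by rw [← hθq, Category.assoc, IsIso.hom_inv_id, Category.comp_id]
  have hinvπ : inv θ ≫ (RelSpec.QCAlg.directImage (𝒮L.toQCAlg.π ≫ p)).π =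
      (fibAlg p 𝒮L.toQCAlg aug (isQcqsOver_of p)).π := by
    rw [← hθπ, IsIso.inv_hom_id_assoc]
  refine ⟨?_, coneε p 𝒮L.toQCAlg aug (isQcqsOver_of p) ≫ inv θ, ?_, ?_, ?_, ?_⟩
  · rw [hq'eq]
    infer_instance
  · rw [Category.assoc, hinvπ, coneε_π]
  · rw [hq'eq, ← Category.assoc, hjq, Category.assoc]
  · rw [hq'eq, ← Category.assoc]
    infer_instance
  · rw [hq'eq, ← Category.assoc, Scheme.Hom.comp_base, Scheme.Hom.comp_base (coneε _ _ _ _)]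
    change Set.range ((inv θ).base ∘ (V0.ι ≫ q).base) = (Set.range ((inv θ).base ∘ (coneε _ _ _ _).base))ᶜ
    rw [Set.range_comp, Set.range_comp, hr]
    have hbij : Function.Bijective (inv θ).base := (inv θ).homeomorph.bijective
    exact Set.image_compl_eq hbij

include hq' in
/-- `q'.app` is bijective over the preimages of the affine opens of `Y` -/
theorem app_preimage_bijective (U : Y.Opens) :
    Function.Bijective (q'.app ((RelSpec.QCAlg.directImage (𝒮L.toQCAlg.π ≫ p)).π ⁻¹ᵁ U)).hom := by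
  have h1 := algHom_app (RelSpec.QCAlg.directImage (𝒮L.toQCAlg.π ≫ p)).π (𝒮L.toQCAlg.π ≫ p) q' hq'π U
  rw [hq'] at h1
  have hγ : IsIso (RelSpec.QCAlg.directImage (𝒮L.toQCAlg.π ≫ p)).gammaMap := Groth.Agent.S8255.result _
  have h2 : IsIso ((RelSpec.QCAlg.directImage (𝒮L.toQCAlg.π ≫ p)).gammaMap.app (op U)) :=
    NatIso.isIso_app_of_isIso _ _
  rw [h1] at h2
  have hle : (𝒮L.toQCAlg.π ≫ p) ⁻¹ᵁ U ≤ q' ⁻¹ᵁ ((RelSpec.QCAlg.directImage (𝒮L.toQCAlg.π ≫ p)).π ⁻¹ᵁ U) := by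
    rw [← Scheme.Hom.comp_preimage, hq'π]
  have heq : q' ⁻¹ᵁ ((RelSpec.QCAlg.directImage (𝒮L.toQCAlg.π ≫ p)).π ⁻¹ᵁ U) = (𝒮L.toQCAlg.π ≫ p) ⁻¹ᵁ U := by
    rw [← Scheme.Hom.comp_preimage, hq'π]
  have h3 : q'.app ((RelSpec.QCAlg.directImage (𝒮L.toQCAlg.π ≫ p)).π ⁻¹ᵁ U) ≫
      𝒮L.toQCAlg.spec.presheaf.map (eqToHom heq.symm).op =
        q'.appLE ((RelSpec.QCAlg.directImage (𝒮L.toQCAlg.π ≫ p)).π ⁻¹ᵁ U) ((𝒮L.toQCAlg.π ≫ p) ⁻¹ᵁ U) hle := by
    rw [Scheme.Hom.app_eq_appLE, Scheme.Hom.appLE_map]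
  have h4 : IsIso (q'.app ((RelSpec.QCAlg.directImage (𝒮L.toQCAlg.π ≫ p)).π ⁻¹ᵁ U) ≫
      𝒮L.toQCAlg.spec.presheaf.map (eqToHom heq.symm).op) := by
    rw [h3]
    exact h2
  have h5 : IsIso (q'.app ((RelSpec.QCAlg.directImage (𝒮L.toQCAlg.π ≫ p)).π ⁻¹ᵁ U)) :=
    IsIso.of_isIso_comp_right _ (𝒮L.toQCAlg.spec.presheaf.map (eqToHom heq.symm).op)
  exact (ConcreteCategory.isIso_iff_bijective _).mp h5

include hq' in
/-- `q'.app` is bijective on a basis of `C'` -/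
theorem exists_basis_bijective [QuasiCompact q'] [QuasiSeparated q']
    (c' : (RelSpec.QCAlg.directImage (𝒮L.toQCAlg.π ≫ p)).spec)
    (N : (RelSpec.QCAlg.directImage (𝒮L.toQCAlg.π ≫ p)).spec.Opens) (hc' : c' ∈ N) :
    ∃ W' : (RelSpec.QCAlg.directImage (𝒮L.toQCAlg.π ≫ p)).spec.Opens, c' ∈ W' ∧ W' ≤ N ∧
      Function.Bijective (q'.app W').hom := by
  obtain ⟨U, hU, hyU, -⟩ := exists_isAffineOpen_mem_and_subset
    (x := (RelSpec.QCAlg.directImage (𝒮L.toQCAlg.π ≫ p)).π.base c') (U := ⊤) trivial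
  have hZ : IsAffineOpen ((RelSpec.QCAlg.directImage (𝒮L.toQCAlg.π ≫ p)).π ⁻¹ᵁ U) :=
    hU.preimage (RelSpec.QCAlg.directImage (𝒮L.toQCAlg.π ≫ p)).π
  obtain ⟨b, hble, hcb⟩ := hZ.exists_basicOpen_le (V := N) ⟨c', hc'⟩ hyU
  exact ⟨_, hcb, hble, app_basicOpen_bijective q' _ hZ (app_preimage_bijective p 𝒮L q' hq'π hq' U) b⟩

include hL hjL h0 haug hj0 hV0 hq' in
/-- the canonical contraction is surjective -/
theorem surjective_canonical (hθ : IsIso p.c) (hamp : RelAmple.IsRelAmple p L) : Function.Surjective q'.base := by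
  obtain ⟨hprop, ε', hε', hjq', hoi', hr'⟩ :=
    canonical_contraction_facts p L hL 𝒮L jL hjL h0 aug haug j0 hj0 V0 hV0 q' hq'π hq' hθ hamp
  intro c'
  by_cases hc : c' ∈ Set.range ε'.base
  · obtain ⟨y, rfl⟩ := hc
    obtain ⟨x, rfl⟩ := surjective_of_isIso_c p p.isClosedMap hθ y
    exact ⟨j0.base x, by rw [← Scheme.Hom.comp_apply, hjq', Scheme.Hom.comp_apply]⟩
  · have h1 : c' ∈ Set.range (V0.ι ≫ q').base := by
      rw [hr']
      exact hc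
    obtain ⟨v, rfl⟩ := h1
    exact ⟨V0.ι.base v, rfl⟩

include hL hjL h0 haug hj0 hV0 hq' in
/-- **every contraction factors uniquely through the canonical one** -/
theorem existsUnique_factor_of_contraction (hθ : IsIso p.c) (hamp : RelAmple.IsRelAmple p L)
    {C : Scheme.{u}} (g : C ⟶ Y) (ε : Y ⟶ C) (q : 𝒮L.toQCAlg.spec ⟶ C)
    (hqg : q ≫ g = 𝒮L.toQCAlg.π ≫ p) (hjq : j0 ≫ q = p ≫ ε) :
    ∃! u : (RelSpec.QCAlg.directImage (𝒮L.toQCAlg.π ≫ p)).spec ⟶ C,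
      u ≫ g = (RelSpec.QCAlg.directImage (𝒮L.toQCAlg.π ≫ p)).π ∧ q' ≫ u = q := by
  obtain ⟨hprop, ε', hε', hjq', hoi', hr'⟩ :=
    canonical_contraction_facts p L hL 𝒮L jL hjL h0 aug haug j0 hj0 V0 hV0 q' hq'π hq' hθ hamp
  haveI := hprop
  have hsurj := surjective_canonical p L hL 𝒮L jL hjL h0 aug haug j0 hj0 V0 hV0 q' hq'π hq' hθ hamp
  have hfib : ∀ v₁ v₂ : 𝒮L.toQCAlg.spec, q'.base v₁ = q'.base v₂ → q.base v₁ = q.base v₂ := by
    intro v₁ v₂ h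
    rcases fibre_of_contraction p j0 q' ε' _ hε' hjq' V0 hV0 hoi' hr' v₁ v₂ h with rfl | ⟨x₁, x₂, rfl, rfl, hx⟩
    · rfl
    · rw [← Scheme.Hom.comp_apply, ← Scheme.Hom.comp_apply, hjq, Scheme.Hom.comp_apply, Scheme.Hom.comp_apply, hx]
  have hfib₂ : ∀ v₁ v₂ : 𝒮L.toQCAlg.spec, q'.base v₁ = q'.base v₂ →
      (𝒮L.toQCAlg.π ≫ p).base v₁ = (𝒮L.toQCAlg.π ≫ p).base v₂ := by
    intro v₁ v₂ h
    rw [← hq'π, Scheme.Hom.comp_apply, Scheme.Hom.comp_apply, h]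
  have hbasis := exists_basis_bijective p 𝒮L q' hq'π hq'
  obtain ⟨u, hu, huniq⟩ := Groth.Agent.Lib.T2H4.Factor.existsUnique_factor q' q q'.isClosedMap hsurj hbasis hfib
  obtain ⟨u₂, -, hu₂⟩ := Groth.Agent.Lib.T2H4.Factor.existsUnique_factor q' (𝒮L.toQCAlg.π ≫ p) q'.isClosedMap
    hsurj hbasis hfib₂
  refine ⟨u, ⟨?_, hu⟩, fun u' hu' => huniq u' hu'.2⟩
  have e1 : q' ≫ u ≫ g = 𝒮L.toQCAlg.π ≫ p := by rw [← Category.assoc, hu, hqg]
  rw [hu₂ (u ≫ g) e1, hu₂ _ hq'π]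

end canonical

end

end Groth.Agent.Lib.T2H4.Grauert
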