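import Mathlib
import Groth.Agent.Lib.T2H4GrauertO

/-!
# The morphism `u : C' ⟶ C` from the canonical contraction to a proper contraction (helper4, EGA II 8.9.? remarks)

* `vertex_point_eq` : a field-valued point of `C = Spec(𝒮')` lying on the vertex section comes from `Y`
* `canonical_contraction_facts'` : the properties of `q' : V ⟶ C'`, with the field-valued points of the vertex section
* `contraction_factor_props` : `u` is universally closed, surjective, universally injective, and an isomorphism from the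
  complement of the vertex section of `C'` onto the complement of `ε(Y)`
-/

set_option autoImplicit false
set_option linter.style.haveILetI false
set_option linter.unusedSectionVars false
universe u
open CategoryTheory CategoryTheory.Limits AlgebraicGeometry TopologicalSpace Opposite
open scoped HomogeneousIdeal

namespace Groth.Agent.Lib.T2H4.Grauert
open Groth.Agent.Lib.T2H4.PowMap Groth.Agent.Helper13SpecQMap Groth.Agent.Helper13RelProj
open Groth.Agent.Lib.Helper27Cone Groth.Agent.Lib.Helper10.RelSpecHom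
open Groth.Agent.Lib.Helper23.SecTw Groth.Agent.Lib.Helper23.GenLocus Groth.Agent.Lib.Helper6
open Groth.Agent.Helper13RL Groth.Agent.Helper13SymAlg
open Groth.Agent.Helper13GrPoly Groth.Agent.Helper13ProjLine

noncomputable section

section vertex

variable {X Y : Scheme.{u}} {p : X ⟶ Y} {𝒜 : RelSpec.QCAlg X} {aug : 𝒜 ⟶ RelSpec.QCAlg.unit X}
  {h : IsQcqsOver p}

/-- a field-valued point of `C` lying on the vertex section comes from `Y` -/
theorem vertex_point_eq {K : Type u} [Field K] (g : Spec (.of K) ⟶ (fibAlg p 𝒜 aug h).spec)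
    (hg : g.base (IsLocalRing.closedPoint K) ∈ Set.range (coneε p 𝒜 aug h).base) :
    g = (g ≫ (fibAlg p 𝒜 aug h).π) ≫ coneε p 𝒜 aug h := by
  obtain ⟨y, hy⟩ := hg
  obtain ⟨U, hU, hyU, -⟩ := exists_isAffineOpen_mem_and_subset (x := y) (U := ⊤) trivial
  have hmem : g.base (IsLocalRing.closedPoint K) ∈ ((fibAlg p 𝒜 aug h).ι U hU).opensRange := by
    change _ ∈ Set.range ((fibAlg p 𝒜 aug h).ι U hU).base
    rw [mem_range_ι_iff, ← hy, ← Scheme.Hom.comp_apply, coneε_π]
    exact hyU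
  obtain ⟨φ, hφ⟩ := exists_factor_spec g ((fibAlg p 𝒜 aug h).ι U hU)
    (range_subset_of_closedPoint_mem g _ hmem)
  obtain ⟨𝔶, rfl⟩ : ∃ 𝔶 : Spec Γ(Y, U), hU.fromSpec.base 𝔶 = y := by
    have : y ∈ Set.range hU.fromSpec.base := by
      rw [hU.range_fromSpec]
      exact hyU
    exact this
  -- the kernel of `fibFst` is killed by `φ`
  have hker : ∀ x, fibFst p 𝒜 aug h U x = 0 → φ.hom x = 0 := by
    intro x hx
    have h1 : ((fibAlg p 𝒜 aug h).ι U hU).base ((Spec.map φ).base (IsLocalRing.closedPoint K)) =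
        ((fibAlg p 𝒜 aug h).ι U hU).base ((Spec.map (fibAugHom p 𝒜 aug h U)).base 𝔶) := by
      rw [← Scheme.Hom.comp_apply, ← hφ, ← hy, ← Scheme.Hom.comp_apply, ← Scheme.Hom.comp_apply,
        fromSpec_coneε]
    have h2 := ((fibAlg p 𝒜 aug h).ι U hU).isOpenEmbedding.injective h1
    have h3 : x ∈ ((Spec.map (fibAugHom p 𝒜 aug h U)).base 𝔶).asIdeal := by
      change (fibAugHom p 𝒜 aug h U).hom x ∈ 𝔶.asIdeal
      rw [fibAugHom_apply, hx]
      exact zero_mem _
    rw [← h2] at h3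
    have h4 : φ.hom x ∈ IsLocalRing.maximalIdeal K := h3
    rw [IsLocalRing.maximalIdeal_eq_bot] at h4
    exact h4
  have hfac : φ = fibAugHom p 𝒜 aug h U ≫ ((fibAlg p 𝒜 aug h).str.app (op U) ≫ φ) := by
    refine CommRingCat.hom_ext (RingHom.ext fun x => ?_)
    change φ.hom x = φ.hom (((fibAlg p 𝒜 aug h).str.app (op U)).hom (fibFst p 𝒜 aug h U x))
    have h5 := hker (x - ((fibAlg p 𝒜 aug h).str.app (op U)).hom (fibFst p 𝒜 aug h U x)) (by
      rw [map_sub, fibFst_str, sub_self])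
    rw [map_sub, sub_eq_zero] at h5
    exact h5
  have hg' : g = (Spec.map ((fibAlg p 𝒜 aug h).str.app (op U) ≫ φ) ≫ hU.fromSpec) ≫ coneε p 𝒜 aug h := by
    rw [Category.assoc, fromSpec_coneε, ← Category.assoc, ← Spec.map_comp, ← hfac]
    exact hφ
  have hπ : g ≫ (fibAlg p 𝒜 aug h).π = Spec.map ((fibAlg p 𝒜 aug h).str.app (op U) ≫ φ) ≫ hU.fromSpec := by
    conv_lhs => rw [hg']
    rw [Category.assoc, coneε_π, Category.comp_id]
  rw [hπ]
  exact hg'

end vertex

section canonical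

variable {X Y : Scheme.{u}} (p : X ⟶ Y) [IsProper p]
  (L : X.Modules) [L.IsQuasicoherent] (hL : PicF.IsInvertible L)
  (𝒮L : RelProj.QCGrAlg X) (jL : L ⟶ 𝒮L.toModule) (hjL : RelProj.IsGrSymAlg L 𝒮L jL)
  (h0 : RelCone.StrZeroBij 𝒮L)
  (aug : 𝒮L.toQCAlg ⟶ RelSpec.QCAlg.unit X) (haug : RelCone.IsAugmentation 𝒮L aug)
  (j0 : X ⟶ 𝒮L.toQCAlg.spec) (hj0 : RelCone.IsVertex 𝒮L aug j0)
  (V0 : 𝒮L.toQCAlg.spec.Opens) (hV0 : (V0 : Set 𝒮L.toQCAlg.spec) = (Set.range j0.base)ᶜ)
  (q' : 𝒮L.toQCAlg.spec ⟶ (RelSpec.QCAlg.directImage (𝒮L.toQCAlg.π ≫ p)).spec)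
  (hq'π : q' ≫ (RelSpec.QCAlg.directImage (𝒮L.toQCAlg.π ≫ p)).π = 𝒮L.toQCAlg.π ≫ p)
  (hq' : AffAlg.algHom (RelSpec.QCAlg.directImage (𝒮L.toQCAlg.π ≫ p)).π (𝒮L.toQCAlg.π ≫ p) q' hq'π =
    (RelSpec.QCAlg.directImage (𝒮L.toQCAlg.π ≫ p)).gammaMap)

include hL hjL h0 haug hj0 hV0 hq' in
/-- the properties of the canonical contraction `q' : V ⟶ C'`, with the field-valued points of the vertex section -/
theorem canonical_contraction_facts' (hθ : IsIso p.c) (hamp : RelAmple.IsRelAmple p L) :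
    IsProper q' ∧ ∃ ε' : Y ⟶ (RelSpec.QCAlg.directImage (𝒮L.toQCAlg.π ≫ p)).spec,
      ε' ≫ (RelSpec.QCAlg.directImage (𝒮L.toQCAlg.π ≫ p)).π = 𝟙 Y ∧ j0 ≫ q' = p ≫ ε' ∧
        IsOpenImmersion (V0.ι ≫ q') ∧ Set.range (V0.ι ≫ q').base = (Set.range ε'.base)ᶜ ∧
          ∀ (K : Type u) [Field K] (g : Spec (.of K) ⟶ (RelSpec.QCAlg.directImage (𝒮L.toQCAlg.π ≫ p)).spec),
            g.base (IsLocalRing.closedPoint K) ∈ Set.range ε'.base →
              g = (g ≫ (RelSpec.QCAlg.directImage (𝒮L.toQCAlg.π ≫ p)).π) ≫ ε' := by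
  obtain ⟨q, hq, hqπ⟩ := exists_contraction p 𝒮L.toQCAlg aug (isQcqsOver_of p)
  obtain ⟨hprop, hjq, hoi, hr⟩ :=
    proper_contraction_facts p L hL 𝒮L jL hjL h0 aug haug j0 hj0 V0 hV0 hamp hq hqπ
  obtain ⟨θ, hθiso, hθπ, hθq⟩ := exists_comparison p 𝒮L.toQCAlg aug (isQcqsOver_of p) hq hqπ hθ q' hq'π hq'
  have hq'eq : q' = q ≫ inv θ := by rw [← hθq, Category.assoc, IsIso.hom_inv_id, Category.comp_id]
  have hinvπ : inv θ ≫ (RelSpec.QCAlg.directImage (𝒮L.toQCAlg.π ≫ p)).π =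
      (fibAlg p 𝒮L.toQCAlg aug (isQcqsOver_of p)).π := by
    rw [← hθπ, IsIso.inv_hom_id_assoc]
  refine ⟨?_, coneε p 𝒮L.toQCAlg aug (isQcqsOver_of p) ≫ inv θ, ?_, ?_, ?_, ?_, ?_⟩
  · rw [hq'eq]
    infer_instance
  · rw [Category.assoc, hinvπ, coneε_π]
  · rw [hq'eq, ← Category.assoc, hjq, Category.assoc]
  · rw [hq'eq, ← Category.assoc]
    infer_instance
  · rw [hq'eq, ← Category.assoc, Scheme.Hom.comp_base, Scheme.Hom.comp_base (coneε _ _ _ _)]
    change Set.range ((inv θ).base ∘ (V0.ι ≫ q).base) = (Set.range ((inv θ).base ∘ (coneε _ _ _ _).base))ᶜ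
    rw [Set.range_comp, Set.range_comp, hr]
    have hbij : Function.Bijective (inv θ).base := (inv θ).homeomorph.bijective
    exact Set.image_compl_eq hbij
  · intro K _ g hg
    have h1 : (g ≫ θ).base (IsLocalRing.closedPoint K) ∈
        Set.range (coneε p 𝒮L.toQCAlg aug (isQcqsOver_of p)).base := by
      obtain ⟨y, hy⟩ := hg
      refine ⟨y, ?_⟩
      rw [Scheme.Hom.comp_apply, ← hy, ← Scheme.Hom.comp_apply, Category.assoc,
        IsIso.inv_hom_id, Category.comp_id]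
    have h2 := vertex_point_eq (g ≫ θ) h1
    rw [Category.assoc g θ, hθπ] at h2
    rw [← Category.assoc, ← h2, Category.assoc, IsIso.hom_inv_id, Category.comp_id]

include hL hjL h0 haug hj0 hV0 hq' in
/-- **the factor `u : C' ⟶ C` of a proper contraction through the canonical one** -/
theorem contraction_factor_props (hθ : IsIso p.c) (hamp : RelAmple.IsRelAmple p L)
    {C : Scheme.{u}} (g : C ⟶ Y) (ε : Y ⟶ C) (q : 𝒮L.toQCAlg.spec ⟶ C)
    (hjq : j0 ≫ q = p ≫ ε) [IsProper q]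
    (hqo : IsOpenImmersion (V0.ι ≫ q)) (hqr : Set.range (V0.ι ≫ q).base = (Set.range ε.base)ᶜ)
    (u : (RelSpec.QCAlg.directImage (𝒮L.toQCAlg.π ≫ p)).spec ⟶ C)
    (hug : u ≫ g = (RelSpec.QCAlg.directImage (𝒮L.toQCAlg.π ≫ p)).π) (hu : q' ≫ u = q) :
    UniversallyClosed u ∧ Function.Surjective u.base ∧ UniversallyInjective u ∧
      ∀ W : (RelSpec.QCAlg.directImage (𝒮L.toQCAlg.π ≫ p)).spec.Opens,
        (W : Set (RelSpec.QCAlg.directImage (𝒮L.toQCAlg.π ≫ p)).spec) = (q'.base '' Set.range j0.base)ᶜ →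
          IsOpenImmersion (W.ι ≫ u) ∧ Set.range (W.ι ≫ u).base = (Set.range ε.base)ᶜ := by
  obtain ⟨hprop, ε', hε', hjq', hoi', hr', hK⟩ :=
    canonical_contraction_facts' p L hL 𝒮L jL hjL h0 aug haug j0 hj0 V0 hV0 q' hq'π hq' hθ hamp
  have hsurj' := surjective_canonical p L hL 𝒮L jL hjL h0 aug haug j0 hj0 V0 hV0 q' hq'π hq' hθ hamp
  have hpsurj := surjective_of_isIso_c p p.isClosedMap hθ
  have hqj' : ∀ x, q'.base (j0.base x) = ε'.base (p.base x) := fun x => by
    rw [← Scheme.Hom.comp_apply, hjq', Scheme.Hom.comp_apply]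
  have hqj : ∀ x, q.base (j0.base x) = ε.base (p.base x) := fun x => by
    rw [← Scheme.Hom.comp_apply, hjq, Scheme.Hom.comp_apply]
  have huq : ∀ v, u.base (q'.base v) = q.base v := fun v => by
    rw [← Scheme.Hom.comp_apply, hu]
  have huε : ∀ y, u.base (ε'.base y) = ε.base y := by
    intro y
    obtain ⟨x, rfl⟩ := hpsurj y
    rw [← hqj', huq, hqj]
  -- the open complement of the vertex section
  have himg : q'.base '' Set.range j0.base = Set.range ε'.base := by
    ext c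
    constructor
    · rintro ⟨_, ⟨x, rfl⟩, rfl⟩
      exact ⟨_, (hqj' x).symm⟩
    · rintro ⟨y, rfl⟩
      obtain ⟨x, rfl⟩ := hpsurj y
      exact ⟨_, ⟨x, rfl⟩, hqj' x⟩
  have h4 : ∀ W : (RelSpec.QCAlg.directImage (𝒮L.toQCAlg.π ≫ p)).spec.Opens,
      (W : Set (RelSpec.QCAlg.directImage (𝒮L.toQCAlg.π ≫ p)).spec) = (q'.base '' Set.range j0.base)ᶜ →
        IsOpenImmersion (W.ι ≫ u) ∧ Set.range (W.ι ≫ u).base = (Set.range ε.base)ᶜ := by
    intro W hW
    have hWeq : W = (V0.ι ≫ q').opensRange := by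
      apply Opens.ext
      rw [hW, himg, ← hr']
      rfl
    subst hWeq
    have e0 : (V0.ι ≫ q').isoOpensRange.hom ≫ (V0.ι ≫ q').opensRange.ι = V0.ι ≫ q' :=
      Scheme.Hom.isoOpensRange_hom_ι _
    have e1 : (V0.ι ≫ q').opensRange.ι ≫ u = (V0.ι ≫ q').isoOpensRange.inv ≫ (V0.ι ≫ q) := by
      rw [Iso.eq_inv_comp, ← Category.assoc, e0, Category.assoc, hu]
    rw [e1]
    refine ⟨inferInstance, ?_⟩
    rw [Scheme.Hom.comp_base]
    change Set.range ((V0.ι ≫ q).base ∘ ((V0.ι ≫ q').isoOpensRange.inv).base) = _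
    have hs : Function.Surjective ((V0.ι ≫ q').isoOpensRange.inv).base :=
      ((V0.ι ≫ q').isoOpensRange.inv).homeomorph.surjective
    rw [hs.range_comp, hqr]
  refine ⟨?_, ?_, ?_, h4⟩
  · haveI : UniversallyClosed (q' ≫ u) := by
      rw [hu]
      infer_instance
    haveI : Surjective q' := ⟨hsurj'⟩
    exact UniversallyClosed.of_comp_surjective q' u
  · intro c
    by_cases hc : c ∈ Set.range ε.base
    · obtain ⟨y, rfl⟩ := hc
      exact ⟨ε'.base y, huε y⟩
    · have h1 : c ∈ Set.range (V0.ι ≫ q).base := by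
        rw [hqr]
        exact hc
      obtain ⟨v, rfl⟩ := h1
      exact ⟨q'.base (V0.ι.base v), huq _⟩
  · have htfae : UniversallyInjective u ↔ ∀ (K : Type u) [Field K],
        Function.Injective (fun g : Spec (.of K) ⟶ _ ↦ g ≫ u) := (tfae_universallyInjective u).out 0 1
    rw [htfae]
    intro K _ g₁ g₂ hg
    have hg' : g₁ ≫ u = g₂ ≫ u := hg
    obtain ⟨hoiW, hrW⟩ := h4 (V0.ι ≫ q').opensRange (by
      rw [himg, ← hr']
      rfl)
    have hpt : ∀ g' : Spec (.of K) ⟶ (RelSpec.QCAlg.directImage (𝒮L.toQCAlg.π ≫ p)).spec,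
        g'.base (IsLocalRing.closedPoint K) ∈ Set.range ε'.base ↔
          (g' ≫ u).base (IsLocalRing.closedPoint K) ∈ Set.range ε.base := by
      intro g'
      constructor
      · rintro ⟨y, hy⟩
        exact ⟨y, by rw [Scheme.Hom.comp_apply, ← hy, huε]⟩
      · intro h5
        by_contra h6
        have h7 : g'.base (IsLocalRing.closedPoint K) ∈ Set.range (V0.ι ≫ q').base := by
          rw [hr']
          exact h6
        obtain ⟨v, hv⟩ := h7
        have h8 : (g' ≫ u).base (IsLocalRing.closedPoint K) ∈ Set.range (V0.ι ≫ q).base := by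
          refine ⟨v, ?_⟩
          rw [Scheme.Hom.comp_apply g' u, ← hv, ← Scheme.Hom.comp_apply, Category.assoc, hu]
        rw [hqr] at h8
        exact h8 h5
    by_cases h1 : g₁.base (IsLocalRing.closedPoint K) ∈ Set.range ε'.base
    · have h2 : g₂.base (IsLocalRing.closedPoint K) ∈ Set.range ε'.base := by
        rw [hpt, ← hg', ← hpt]
        exact h1
      rw [hK K g₁ h1, hK K g₂ h2]
      congr 1
      rw [← hug, ← Category.assoc, ← Category.assoc, hg']
    · have h2 : g₂.base (IsLocalRing.closedPoint K) ∉ Set.range ε'.base := by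
        rw [hpt, ← hg', ← hpt]
        exact h1
      have hmem : ∀ g' : Spec (.of K) ⟶ (RelSpec.QCAlg.directImage (𝒮L.toQCAlg.π ≫ p)).spec,
          g'.base (IsLocalRing.closedPoint K) ∉ Set.range ε'.base →
            Set.range g'.base ⊆ Set.range (V0.ι ≫ q').opensRange.ι.base := by
        intro g' hg''
        rw [Scheme.Opens.range_ι]
        refine range_subset_of_closedPoint_mem g' _ ?_
        change _ ∈ Set.range (V0.ι ≫ q').base
        rw [hr']
        exact hg''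
      have e1 := IsOpenImmersion.lift_fac (V0.ι ≫ q').opensRange.ι g₁ (hmem g₁ h1)
      have e2 := IsOpenImmersion.lift_fac (V0.ι ≫ q').opensRange.ι g₂ (hmem g₂ h2)
      have h3 : IsOpenImmersion.lift (V0.ι ≫ q').opensRange.ι g₁ (hmem g₁ h1) ≫ ((V0.ι ≫ q').opensRange.ι ≫ u) =
          IsOpenImmersion.lift (V0.ι ≫ q').opensRange.ι g₂ (hmem g₂ h2) ≫ ((V0.ι ≫ q').opensRange.ι ≫ u) := by
        rw [← Category.assoc, ← Category.assoc, e1, e2, hg']
      have h4' := (cancel_mono _).mp h3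
      rw [← e1, ← e2, h4']

end canonical

end

end Groth.Agent.Lib.T2H4.Grauert
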