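import Mathlib
import Groth.Agent.Lib.T2H4GrauertQ
import Groth.Agent.Lib.T2H4GrauertM
import Groth.Agent.Lib.Helper10RelSpecHom
import Groth.Agent.Lib.Helper4NormIso
import Groth.Agent.S8255

/-!
# The canonical morphism `q' : V ⟶ Spec_Y(h_* O_V)`; integrality and normality of the target (helper4)

* `app_bijective` : `q'^♯ : O_{C'} → q'_* O_V` is bijective on every open
* `isIntegral_of_bijective_app` : `V` integral ⇒ `C'` integral
* `exists_idem` : the idempotent of a clopen subset
* `stalk_normal_of_bijective_app` : `V` locally integral and normal ⇒ stalks of `C'` are integrally closed domains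
-/

set_option autoImplicit false
set_option linter.style.haveILetI false
set_option linter.unusedSectionVars false
universe u
open CategoryTheory CategoryTheory.Limits AlgebraicGeometry TopologicalSpace Opposite

namespace Groth.Agent.Lib.T2H4.LocInt
open Groth.Agent.Lib.Helper10.RelSpecHom Groth.Agent.Lib.T2H4.Grauert

noncomputable section

section sections

/-- Sections of a normal integral scheme over a nonempty open are integrally closed in the
function field. (copy of `T2H9.NormFF.exists_section_of_isIntegralElem`, to keep imports light) -/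
theorem exists_section_of_isIntegralElem {Z : Scheme.{u}} [IsIntegral Z]
    (hZ : Pi1.IsNormalScheme Z) (V : Z.Opens) [hV : Nonempty V] (x : Z.functionField)
    (hx : (Z.germToFunctionField V).hom.IsIntegralElem x) :
    ∃ s : Γ(Z, V), (Z.germToFunctionField V).hom s = x := by
  have hloc : ∀ W : Z.Opens, IsAffineOpen W → W ≤ V → ∀ hW : Nonempty W,
      ∃ s : Γ(Z, W), (Z.germToFunctionField W).hom s = x := by
    intro W hWa hWV hW
    haveI : IsDomain Γ(Z, W) := IsIntegral.component_integral W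
    haveI := Groth.Agent.Lib.Helper4.NormIso.isIntegrallyClosed_sections hZ W hWa
    haveI := functionField_isFractionRing_of_isAffineOpen Z W hWa
    have hx' : IsIntegral Γ(Z, W) x := by
      obtain ⟨p, hp, hpx⟩ := hx
      refine ⟨p.map (Z.presheaf.map (homOfLE hWV).op).hom, hp.map _, ?_⟩
      rw [Polynomial.eval₂_map]
      have : (algebraMap Γ(Z, W) Z.functionField).comp (Z.presheaf.map (homOfLE hWV).op).hom =
          (Z.germToFunctionField V).hom := by
        change (Z.germToFunctionField W).hom.comp (Z.presheaf.map (homOfLE hWV).op).hom = _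
        rw [← CommRingCat.hom_comp]
        exact congrArg CommRingCat.Hom.hom (Z.presheaf.germ_res (homOfLE hWV) _ _)
      rw [this]
      exact hpx
    exact (IsIntegrallyClosed.isIntegral_iff (R := Γ(Z, W)) (K := Z.functionField)).mp hx'
  let ι := {W : Z.affineOpens // W.1 ≤ V ∧ Nonempty W.1}
  let U : ι → Z.Opens := fun W => W.1.1
  choose! sf hsf using fun W : ι => hloc W.1.1 W.1.2 W.2.1 W.2.2
  have hcompat : TopCat.Presheaf.IsCompatible Z.presheaf U sf := by
    intro i j
    by_cases hij : Nonempty (U i ⊓ U j : Z.Opens)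
    · apply Z.germToFunctionField_injective (U i ⊓ U j)
      haveI := i.2.2
      haveI := j.2.2
      have h1 : (Z.germToFunctionField (U i ⊓ U j)).hom
          ((Z.presheaf.map (TopologicalSpace.Opens.infLELeft (U i) (U j)).op).hom (sf i)) =
          (Z.germToFunctionField (U i)).hom (sf i) := by
        rw [← CommRingCat.comp_apply, Z.presheaf.germ_res]
      have h2 : (Z.germToFunctionField (U i ⊓ U j)).hom
          ((Z.presheaf.map (TopologicalSpace.Opens.infLERight (U i) (U j)).op).hom (sf j)) =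
          (Z.germToFunctionField (U j)).hom (sf j) := by
        rw [← CommRingCat.comp_apply, Z.presheaf.germ_res]
      exact h1.trans ((hsf i).trans ((hsf j).symm.trans h2.symm))
    · have h0 : U i ⊓ U j = ⊥ := by
        ext y
        simp only [TopologicalSpace.Opens.coe_bot, Set.mem_empty_iff_false, iff_false]
        exact fun hy => hij ⟨⟨y, hy⟩⟩
      haveI : Subsingleton Γ(Z, U i ⊓ U j) := by
        rw [h0]; infer_instance
      exact Subsingleton.elim _ _
  have hcover : V ≤ iSup U := by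
    intro y hy
    obtain ⟨_, ⟨W, hW, rfl⟩, hyW, hWV⟩ := Z.isBasis_affineOpens.exists_subset_of_mem_open
      hy V.isOpen
    exact TopologicalSpace.Opens.mem_iSup.mpr ⟨⟨⟨W, hW⟩, hWV, ⟨⟨y, hyW⟩⟩⟩, hyW⟩
  obtain ⟨s, hs, -⟩ := Z.sheaf.existsUnique_gluing' U V (fun i => homOfLE i.2.1) hcover sf hcompat
  refine ⟨s, ?_⟩
  obtain ⟨y, hy⟩ : ∃ y, y ∈ V := ⟨hV.some.1, hV.some.2⟩
  obtain ⟨_, ⟨W, hW, rfl⟩, hyW, hWV⟩ := Z.isBasis_affineOpens.exists_subset_of_mem_open
    hy V.isOpen
  let i : ι := ⟨⟨W, hW⟩, hWV, ⟨⟨_, hyW⟩⟩⟩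
  haveI := i.2.2
  have h3 := hs i
  have h4 : (Z.germToFunctionField W).hom
      ((Z.presheaf.map (homOfLE hWV : W ⟶ V).op).hom s) =
      (Z.germToFunctionField V).hom s :=
    Z.presheaf.germ_res_apply (homOfLE hWV) _ _ s
  exact h4.symm.trans ((congrArg (Z.germToFunctionField W).hom h3).trans (hsf i))

/-- sections of a normal integral scheme over a nonempty open form an integrally closed domain.
(copy of `T2H7.NormalPush.isIntegrallyClosed_sections`) -/
theorem isIntegrallyClosed_sections {Z : Scheme.{u}} [IsIntegral Z] (hZ : Pi1.IsNormalScheme Z)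
    (W : Z.Opens) [Nonempty W] : IsIntegrallyClosed Γ(Z, W) := by
  haveI : IsDomain Γ(Z, W) := IsIntegral.component_integral W
  set gm : Γ(Z, W) →+* Z.functionField := (Z.germToFunctionField W).hom with hgm
  have hgminj : Function.Injective gm := Z.germToFunctionField_injective W
  let ιK : FractionRing Γ(Z, W) →+* Z.functionField := IsFractionRing.lift hgminj
  have hι : ∀ r, ιK (algebraMap _ _ r) = gm r := fun r => IsFractionRing.lift_algebraMap hgminj r
  rw [isIntegrallyClosed_iff (FractionRing Γ(Z, W))]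
  intro t ht
  have hint : gm.IsIntegralElem (ιK t) := by
    obtain ⟨p, hp, hpt⟩ := ht
    refine ⟨p, hp, ?_⟩
    have h1 := congrArg ιK hpt
    rw [map_zero, Polynomial.hom_eval₂] at h1
    have h2 : ιK.comp (algebraMap Γ(Z, W) (FractionRing Γ(Z, W))) = gm := by
      ext r
      exact hι r
    rw [h2] at h1
    exact h1
  obtain ⟨s, hs⟩ := exists_section_of_isIntegralElem hZ W (ιK t) hint
  refine ⟨s, ?_⟩
  apply ιK.injective
  rw [hι, ← hs]

/-- sections over an integral normal open subscheme -/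
theorem isDomain_and_isIntegrallyClosed_of_open {V : Scheme.{u}} (hV : Pi1.IsNormalScheme V) (P : V.Opens)
    [IsIntegral (P : Scheme.{u})] : IsDomain Γ(V, P) ∧ IsIntegrallyClosed Γ(V, P) := by
  have hP : Pi1.IsNormalScheme (P : Scheme.{u}) := isNormalScheme_of_isOpenImmersion P.ι hV
  haveI : Nonempty (⊤ : (P : Scheme.{u}).Opens) := by
    obtain ⟨z⟩ := (inferInstance : Nonempty (P : Scheme.{u}))
    exact ⟨⟨z, trivial⟩⟩
  haveI h1 : IsDomain Γ((P : Scheme.{u}), ⊤) := inferInstance
  haveI h2 : IsIntegrallyClosed Γ((P : Scheme.{u}), ⊤) := isIntegrallyClosed_sections hP ⊤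
  let e : Γ((P : Scheme.{u}), ⊤) ≃+* Γ(V, P) := P.topIso.commRingCatIsoToRingEquiv
  haveI : IsDomain Γ(V, P) := e.symm.toMulEquiv.isDomain _
  exact ⟨inferInstance, IsIntegrallyClosed.of_equiv e⟩

end sections

section canon

variable {V Y : Scheme.{u}} (h : V ⟶ Y) [QuasiCompact h] [QuasiSeparated h]
  (q' : V ⟶ (RelSpec.QCAlg.directImage h).spec)
  (hq'π : q' ≫ (RelSpec.QCAlg.directImage h).π = h)
  (hq' : AffAlg.algHom (RelSpec.QCAlg.directImage h).π h q' hq'π = (RelSpec.QCAlg.directImage h).gammaMap)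

include hq' in
/-- `q'.app` is bijective over the preimages of the opens of `Y` -/
theorem app_preimage_bijective' (U : Y.Opens) :
    Function.Bijective (q'.app ((RelSpec.QCAlg.directImage h).π ⁻¹ᵁ U)).hom := by
  have h1 := algHom_app (RelSpec.QCAlg.directImage h).π h q' hq'π U
  rw [hq'] at h1
  have hγ : IsIso (RelSpec.QCAlg.directImage h).gammaMap := Groth.Agent.S8255.result _
  have h2 : IsIso ((RelSpec.QCAlg.directImage h).gammaMap.app (op U)) :=
    NatIso.isIso_app_of_isIso _ _
  rw [h1] at h2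
  have hle : h ⁻¹ᵁ U ≤ q' ⁻¹ᵁ ((RelSpec.QCAlg.directImage h).π ⁻¹ᵁ U) := by
    rw [← Scheme.Hom.comp_preimage, hq'π]
  have heq : q' ⁻¹ᵁ ((RelSpec.QCAlg.directImage h).π ⁻¹ᵁ U) = h ⁻¹ᵁ U := by
    rw [← Scheme.Hom.comp_preimage, hq'π]
  have h3 : q'.app ((RelSpec.QCAlg.directImage h).π ⁻¹ᵁ U) ≫
      V.presheaf.map (eqToHom heq.symm).op =
        q'.appLE ((RelSpec.QCAlg.directImage h).π ⁻¹ᵁ U) (h ⁻¹ᵁ U) hle := by
    rw [Scheme.Hom.app_eq_appLE, Scheme.Hom.appLE_map]
  have h4 : IsIso (q'.app ((RelSpec.QCAlg.directImage h).π ⁻¹ᵁ U) ≫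
      V.presheaf.map (eqToHom heq.symm).op) := by
    rw [h3]
    exact h2
  have h5 : IsIso (q'.app ((RelSpec.QCAlg.directImage h).π ⁻¹ᵁ U)) :=
    IsIso.of_isIso_comp_right _ (V.presheaf.map (eqToHom heq.symm).op)
  exact (ConcreteCategory.isIso_iff_bijective _).mp h5

include hq'π in
theorem quasiCompact_canonical : QuasiCompact q' := by
  haveI : QuasiCompact (q' ≫ (RelSpec.QCAlg.directImage h).π) := by rw [hq'π]; infer_instance
  exact QuasiCompact.of_comp q' (RelSpec.QCAlg.directImage h).π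

include hq'π in
theorem quasiSeparated_canonical : QuasiSeparated q' := by
  haveI : QuasiSeparated (q' ≫ (RelSpec.QCAlg.directImage h).π) := by rw [hq'π]; infer_instance
  exact QuasiSeparated.of_comp q' (RelSpec.QCAlg.directImage h).π

include hq' in
/-- `q'^♯` is bijective on every open of `C'` -/
theorem app_bijective (W : (RelSpec.QCAlg.directImage h).spec.Opens) : Function.Bijective (q'.app W).hom := by
  haveI := quasiCompact_canonical h q' hq'π
  haveI := quasiSeparated_canonical h q' hq'π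
  let B : (Σ U : Y.affineOpens, Γ((RelSpec.QCAlg.directImage h).spec, (RelSpec.QCAlg.directImage h).π ⁻¹ᵁ U.1)) →
      (RelSpec.QCAlg.directImage h).spec.Opens := fun i => (RelSpec.QCAlg.directImage h).spec.basicOpen i.2
  have hB : Opens.IsBasis (Set.range B) := by
    rw [Opens.isBasis_iff_nbhd]
    intro N c hc
    obtain ⟨U, hU, hyU, -⟩ := exists_isAffineOpen_mem_and_subset
      (x := (RelSpec.QCAlg.directImage h).π.base c) (U := ⊤) trivial
    have hZ : IsAffineOpen ((RelSpec.QCAlg.directImage h).π ⁻¹ᵁ U) :=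
      hU.preimage (RelSpec.QCAlg.directImage h).π
    obtain ⟨b, hble, hcb⟩ := hZ.exists_basicOpen_le (V := N) ⟨c, hc⟩ hyU
    exact ⟨_, ⟨⟨⟨U, hU⟩, b⟩, rfl⟩, hcb, hble⟩
  let φ : (RelSpec.QCAlg.directImage h).spec.sheaf ⟶
      (TopCat.Sheaf.pushforward CommRingCat q'.base).obj V.sheaf := ⟨q'.c⟩
  have hφ : IsIso φ := by
    apply TopCat.Sheaf.isIso_iff_isIso_basis (B := B) hB
    intro i
    change IsIso (q'.app (B i))
    rw [ConcreteCategory.isIso_iff_bijective]
    exact app_basicOpen_bijective q' _ (i.1.2.preimage (RelSpec.QCAlg.directImage h).π)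
      (app_preimage_bijective' h q' hq'π hq' i.1.1) i.2
  haveI := hφ
  haveI : IsIso ((sheafToPresheaf _ _).map φ) := Functor.map_isIso _ φ
  have h6 : IsIso (q'.app W) := NatIso.isIso_app_of_isIso ((sheafToPresheaf _ _).map φ) (op W)
  exact (ConcreteCategory.isIso_iff_bijective _).mp h6

end canon

section transfer

variable {V C : Scheme.{u}} (q' : V ⟶ C) (hbij : ∀ W : C.Opens, Function.Bijective (q'.app W).hom)

include hbij in
theorem nonempty_preimage_of_bijective (U : C.Opens) [hU : Nonempty U] : Nonempty (q' ⁻¹ᵁ U) := by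
  by_contra hne
  rw [not_nonempty_iff] at hne
  have h1 : q' ⁻¹ᵁ U = ⊥ := by
    ext z
    simp only [Opens.coe_bot, Set.mem_empty_iff_false, iff_false]
    exact fun hz => hne.false ⟨z, hz⟩
  have h2 : Subsingleton Γ(V, q' ⁻¹ᵁ U) := by
    rw [h1]
    infer_instance
  have h3 : Subsingleton Γ(C, U) := (hbij U).1.subsingleton
  have h4 : U = ⊥ := by
    rw [← C.basicOpen_one (U := U), Subsingleton.elim (1 : Γ(C, U)) 0, C.basicOpen_zero]
  obtain ⟨⟨c, hc⟩⟩ := hU
  rw [h4] at hc
  exact hc

include hbij in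
/-- if `O_C → q'_* O_V` is bijective and `V` is integral then `C` is integral -/
theorem isIntegral_of_bijective_app [IsIntegral V] : IsIntegral C := by
  refine { nonempty := ?_, component_integral := ?_ }
  · obtain ⟨v⟩ := (inferInstance : Nonempty V)
    exact ⟨q'.base v⟩
  · intro U hU
    haveI := nonempty_preimage_of_bijective q' hbij U
    haveI : IsDomain Γ(V, q' ⁻¹ᵁ U) := IsIntegral.component_integral _
    let e : Γ(C, U) ≃+* Γ(V, q' ⁻¹ᵁ U) := RingEquiv.ofBijective (q'.app U).hom (hbij U)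
    exact e.toMulEquiv.isDomain_iff.mpr inferInstance

end transfer

section idem

variable {V : Scheme.{u}}

/-- the idempotent of a clopen subset: it is invertible exactly on `W ⊓ T`, and equals `1` there -/
theorem exists_idem (T W : V.Opens) (hW : IsClosed (W : Set V)) :
    ∃ e : Γ(V, T), V.basicOpen e = W ⊓ T ∧
      (V.presheaf.map (homOfLE (inf_le_right : W ⊓ T ≤ T)).op).hom (1 - e) = 0 := by
  let W' : V.Opens := ⟨(W : Set V)ᶜ, hW.isOpen_compl⟩
  let A : V.Opens := W ⊓ T
  let B : V.Opens := W' ⊓ T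
  let U : Bool → V.Opens := fun b => if b then A else B
  let sf : ∀ b : Bool, Γ(V, U b) := fun b => if b then 1 else 0
  have hAB : A ⊓ B = ⊥ := by
    ext z
    simp only [A, B, W', Opens.coe_inf, Opens.coe_mk, Opens.coe_bot, Set.mem_inter_iff, Set.mem_compl_iff,
      SetLike.mem_coe, Set.mem_empty_iff_false, iff_false]
    tauto
  have hBA : B ⊓ A = ⊥ := by rw [inf_comm, hAB]
  have hcompat : TopCat.Presheaf.IsCompatible V.presheaf U sf := by
    intro i j
    cases i <;> cases j
    · rfl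
    · haveI : Subsingleton Γ(V, U false ⊓ U true) := by
        change Subsingleton Γ(V, B ⊓ A)
        rw [hBA]; infer_instance
      exact Subsingleton.elim _ _
    · haveI : Subsingleton Γ(V, U true ⊓ U false) := by
        change Subsingleton Γ(V, A ⊓ B)
        rw [hAB]; infer_instance
      exact Subsingleton.elim _ _
    · rfl
  have hUle : ∀ b, U b ≤ T := by
    intro b
    cases b
    · exact inf_le_right
    · exact inf_le_right
  have hcover : T ≤ iSup U := by
    intro z hz
    rw [Opens.mem_iSup]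
    by_cases hzW : z ∈ W
    · exact ⟨true, ⟨hzW, hz⟩⟩
    · exact ⟨false, ⟨hzW, hz⟩⟩
  obtain ⟨e', he, -⟩ := V.sheaf.existsUnique_gluing' U T (fun b => homOfLE (hUle b)) hcover sf hcompat
  obtain ⟨e, hee'⟩ : ∃ e : Γ(V, T), e = e' := ⟨e', rfl⟩
  subst hee'
  have heA : (V.presheaf.map (homOfLE (inf_le_right : A ≤ T)).op).hom e = 1 := he true
  have heB : (V.presheaf.map (homOfLE (inf_le_right : B ≤ T)).op).hom e = 0 := he false
  refine ⟨e, ?_, ?_⟩
  · have h1 : A ⊓ V.basicOpen e = A := by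
      rw [← V.basicOpen_res e (homOfLE (inf_le_right : A ≤ T)).op]
      change V.basicOpen ((V.presheaf.map (homOfLE (inf_le_right : A ≤ T)).op).hom e) = A
      rw [heA, V.basicOpen_one]
    have h2 : B ⊓ V.basicOpen e = ⊥ := by
      rw [← V.basicOpen_res e (homOfLE (inf_le_right : B ≤ T)).op]
      change V.basicOpen ((V.presheaf.map (homOfLE (inf_le_right : B ≤ T)).op).hom e) = ⊥
      rw [heB, V.basicOpen_zero]
    have h3 : V.basicOpen e ≤ A ⊔ B := by
      intro z hz
      have hzT : z ∈ T := V.basicOpen_le e hz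
      by_cases hzW : z ∈ W
      · exact Or.inl ⟨hzW, hzT⟩
      · exact Or.inr ⟨hzW, hzT⟩
    calc V.basicOpen e = (A ⊔ B) ⊓ V.basicOpen e := (inf_eq_right.mpr h3).symm
      _ = (A ⊓ V.basicOpen e) ⊔ (B ⊓ V.basicOpen e) := inf_sup_right _ _ _
      _ = A := by rw [h1, h2, sup_bot_eq]
  · rw [map_sub, map_one, heA, sub_self]

end idem

section normal

variable {V C : Scheme.{u}} (q' : V ⟶ C) (hbij : ∀ W : C.Opens, Function.Bijective (q'.app W).hom)

include hbij in
/-- **normality descends along `q'`** when `O_C → q'_* O_V` is bijective, `V` is locally integral and normal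
and the preimage of an affine open neighbourhood is quasi-compact -/
theorem stalk_normal_of_bijective_app
    (hloc : ∀ v : V, ∃ U : V.Opens, v ∈ U ∧ IsIntegral (U : Scheme.{u})) (hV : Pi1.IsNormalScheme V)
    (Z : C.Opens) (hZ : IsAffineOpen Z) (hqc : IsCompact ((q' ⁻¹ᵁ Z : V.Opens) : Set V)) (c : C) (hc : c ∈ Z) :
    IsDomain (C.presheaf.stalk c) ∧ IsIntegrallyClosed (C.presheaf.stalk c) := by
  classical
  set T : V.Opens := q' ⁻¹ᵁ Z with hT
  -- clopen integral neighbourhoods
  choose Wv hvW hWcl hWint using fun v : V => exists_isClosed_isIntegral hloc v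
  obtain ⟨s, hs⟩ := hqc.elim_finite_subcover (fun v : V => ((Wv v : V.Opens) : Set V)) (fun v => (Wv v).2)
    (fun v _ => Set.mem_iUnion.2 ⟨v, hvW v⟩)
  choose e he1 he2 using fun v : V => exists_idem T (Wv v) (hWcl v)
  -- the product of the complementary idempotents vanishes
  have hprod : ∏ v ∈ s, (1 - e v) = 0 := by
    refine TopCat.Sheaf.eq_of_locally_eq' V.sheaf (fun v : s => Wv v.1 ⊓ T) T
      (fun v => homOfLE inf_le_right) ?_ (∏ v ∈ s, (1 - e v) : Γ(V, T)) (0 : Γ(V, T)) ?_
    · intro z hz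
      have := hs hz
      simp only [Set.mem_iUnion] at this
      obtain ⟨v, hv, hzv⟩ := this
      exact Opens.mem_iSup.mpr ⟨⟨v, hv⟩, ⟨hzv, hz⟩⟩
    · intro v
      change (V.presheaf.map (homOfLE (inf_le_right : Wv v.1 ⊓ T ≤ T)).op).hom (∏ w ∈ s, (1 - e w)) =
        (V.presheaf.map (homOfLE (inf_le_right : Wv v.1 ⊓ T ≤ T)).op).hom 0
      rw [map_prod, map_zero]
      exact Finset.prod_eq_zero v.2 (he2 v.1)
  -- transport to `C`
  let φ : Γ(C, Z) ≃+* Γ(V, T) := RingEquiv.ofBijective (q'.app Z).hom (hbij Z)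
  have hprod' : ∏ v ∈ s, (1 - φ.symm (e v)) = 0 := by
    apply φ.injective
    rw [map_prod, map_zero, ← hprod]
    refine Finset.prod_congr rfl fun v _ => ?_
    rw [map_sub, map_one, RingEquiv.apply_symm_apply]
  -- the prime of non-units at `c`
  let 𝔭 : Ideal Γ(C, Z) := (IsLocalRing.maximalIdeal (C.presheaf.stalk c)).comap (C.presheaf.germ Z c hc).hom
  haveI : 𝔭.IsPrime := Ideal.comap_isPrime _ _
  have h0 : ∏ v ∈ s, (1 - φ.symm (e v)) ∈ 𝔭 := by
    rw [hprod']
    exact 𝔭.zero_mem
  obtain ⟨v, hvs, hv⟩ := (Ideal.IsPrime.prod_mem_iff).mp h0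
  have hcD : c ∈ C.basicOpen (φ.symm (e v)) := by
    rw [Scheme.mem_basicOpen _ _ c hc]
    have h1 : (C.presheaf.germ Z c hc).hom (1 - φ.symm (e v)) ∈ IsLocalRing.maximalIdeal (C.presheaf.stalk c) := hv
    rw [map_sub, map_one] at h1
    have h2 := IsLocalRing.isUnit_one_sub_self_of_mem_nonunits _ h1
    rwa [sub_sub_cancel] at h2
  -- the preimage of this basic open is the integral piece `Wv v ⊓ T`
  have hpre : q' ⁻¹ᵁ C.basicOpen (φ.symm (e v)) = Wv v ⊓ T := by
    rw [Scheme.preimage_basicOpen]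
    change V.basicOpen (φ (φ.symm (e v))) = _
    rw [RingEquiv.apply_symm_apply, he1]
  set D : C.Opens := C.basicOpen (φ.symm (e v)) with hD
  have hDaff : IsAffineOpen D := hZ.basicOpen _
  -- a point of the piece
  haveI : Nonempty D := ⟨⟨c, hcD⟩⟩
  haveI hne : Nonempty (q' ⁻¹ᵁ D) := nonempty_preimage_of_bijective q' hbij D
  haveI : Nonempty ((Wv v ⊓ T : V.Opens) : Scheme.{u}) := by
    obtain ⟨⟨z, hz⟩⟩ := hne
    rw [hpre] at hz
    exact ⟨⟨z, hz⟩⟩
  haveI := hWint v
  haveI : IsIntegral ((Wv v ⊓ T : V.Opens) : Scheme.{u}) :=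
    isIntegral_of_isOpenImmersion (V.homOfLE (inf_le_left : Wv v ⊓ T ≤ Wv v))
  obtain ⟨hd1, hd2⟩ := isDomain_and_isIntegrallyClosed_of_open hV (Wv v ⊓ T)
  have hd3 : IsDomain Γ(V, q' ⁻¹ᵁ D) ∧ IsIntegrallyClosed Γ(V, q' ⁻¹ᵁ D) := by
    rw [hpre]
    exact ⟨hd1, hd2⟩
  obtain ⟨hd4, hd5⟩ := hd3
  let ψ : Γ(C, D) ≃+* Γ(V, q' ⁻¹ᵁ D) := RingEquiv.ofBijective (q'.app D).hom (hbij D)
  haveI : IsDomain Γ(C, D) := ψ.toMulEquiv.isDomain_iff.mpr hd4
  haveI : IsIntegrallyClosed Γ(C, D) := IsIntegrallyClosed.of_equiv ψ.symm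
  exact stalk_normal_of_sections c D hDaff hcD

end normal

end

end Groth.Agent.Lib.T2H4.LocInt
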