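import Mathlib
import Groth.Agent.Lib.T2H4GrauertR
import Groth.Agent.Lib.Helper13ProjLine
import Groth.Agent.Lib.Helper18Dbl2
import Groth.Agent.Lib.Helper13RelSpecLocal

/-!
# The line bundle `V(L) = Spec(Sym L)` of an invertible module: integrality and normality (helper4)

* `bijective_eval₂'` : over an affine open where `L` has a basis, `𝒜(W) ≅ O(W)[T]` (plain quasi-coherent algebra version)
* `surjective_π_lineBundle`
* `locally_integral_lineBundle`, `isNormalScheme_lineBundle`, `isIntegral_lineBundle`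
-/

set_option autoImplicit false
set_option linter.style.haveILetI false
set_option linter.unusedSectionVars false
universe u
open CategoryTheory CategoryTheory.Limits AlgebraicGeometry TopologicalSpace Opposite

namespace Groth.Agent.Lib.T2H4.LocInt
open Groth.Agent.Helper13SymAlg Groth.Agent.Helper13SymLoc Groth.Agent.Helper13GrPoly

noncomputable section

variable {X : Scheme.{u}} (L : X.Modules) [L.IsQuasicoherent]
  (𝒜 : RelSpec.QCAlg X) (jL : L ⟶ 𝒜.toModule) (hA : RelSpec.IsSymAlg L 𝒜 jL)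

/-- invertible modules have, locally inside any open, a basis with one element over affine opens -/
theorem exists_affine_basis_le (hL : PicF.IsInvertible L) (x : X) (N : X.Opens) (hxN : x ∈ N) :
    ∃ (W : X.Opens) (_ : IsAffineOpen W), x ∈ W ∧ W ≤ N ∧
      Nonempty (Module.Basis (Fin 1) Γ(X, W) Γ(L, W)) := by
  obtain ⟨U₀, hx, ⟨e⟩⟩ := hL x
  let e' : L.restrict U₀.ι ≅ FlatMod.freeMod (↑U₀ : Scheme.{u}) 1 :=
    e ≪≫ (coproductUniqueIso (fun _ : Fin 1 => Coh.structureModule (↑U₀ : Scheme.{u}))).symm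
  obtain ⟨W, hW, hxW, hWN, hb⟩ :=
    Groth.Agent.Helper18Dbl.exists_affine_basis_le L U₀.ι e' ⟨x, hx⟩ N hxN
  exact ⟨W, hW, hxW, hWN, hb⟩

include hA in
/-- over an affine open where `L` has a basis `{t₀}`, the algebra `𝒜(W)` is the polynomial ring in
`j(t₀)` over `Γ(X, W)`. -/
theorem bijective_eval₂' {W : X.Opens} (hW : IsAffineOpen W)
    (b : Module.Basis (Fin 1) Γ(X, W) Γ(L, W)) :
    Function.Bijective (Polynomial.eval₂RingHom (𝒜.str.app (op W)).hom
      (φAdd L 𝒜 jL W (b 0))) := by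
  let e₁ := SymmetricAlgebra.equivMvPolynomial b
  let e₂ := MvPolynomial.uniqueAlgEquiv Γ(X, W) (Fin 1)
  have hσ := bijective_σ L W hW hA
  have key : Polynomial.eval₂RingHom (𝒜.str.app (op W)).hom (φAdd L 𝒜 jL W (b 0)) =
      ((σ L 𝒜 jL W).comp e₁.symm.toAlgHom.toRingHom).comp e₂.symm.toAlgHom.toRingHom := by
    refine Polynomial.ringHom_ext (fun r => ?_) ?_
    · have h1 : e₂.symm (Polynomial.C r) = MvPolynomial.C r := by
        rw [AlgEquiv.symm_apply_eq]
        simp [e₂]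
      have h2 : e₁.symm (MvPolynomial.C r) = algebraMap _ _ r := by
        rw [AlgEquiv.symm_apply_eq]
        simp [e₁]
      show Polynomial.eval₂ (𝒜.str.app (op W)).hom _ (Polynomial.C r) =
        (σ L 𝒜 jL W) (e₁.symm (e₂.symm (Polynomial.C r)))
      rw [Polynomial.eval₂_C, h1, h2]
      unfold σ
      rw [symLift_algebraMap]
    · have h1 : e₂.symm Polynomial.X = MvPolynomial.X (0 : Fin 1) := by
        rw [AlgEquiv.symm_apply_eq]
        simp [e₂]
      show Polynomial.eval₂ (𝒜.str.app (op W)).hom _ Polynomial.X =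
        (σ L 𝒜 jL W) (e₁.symm (e₂.symm Polynomial.X))
      rw [Polynomial.eval₂_X, h1, SymmetricAlgebra.equivMvPolynomial_symm_X]
      unfold σ
      rw [symLift_ι]
  rw [key]
  exact (hσ.comp e₁.symm.bijective).comp e₂.symm.bijective

/-- the polynomial-ring description as a ring isomorphism -/
def polyEquiv {W : X.Opens} (hW : IsAffineOpen W) (b : Module.Basis (Fin 1) Γ(X, W) Γ(L, W)) :
    Polynomial Γ(X, W) ≃+* 𝒜.presheaf.obj (op W) :=
  RingEquiv.ofBijective _ (bijective_eval₂' L 𝒜 jL hA hW b)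

theorem polyEquiv_C {W : X.Opens} (hW : IsAffineOpen W) (b : Module.Basis (Fin 1) Γ(X, W) Γ(L, W))
    (r : Γ(X, W)) : polyEquiv L 𝒜 jL hA hW b (Polynomial.C r) = (𝒜.str.app (op W)).hom r := by
  change Polynomial.eval₂ _ _ (Polynomial.C r) = _
  rw [Polynomial.eval₂_C]

include hA in
theorem isDomain_sections {W : X.Opens} (hW : IsAffineOpen W) (b : Module.Basis (Fin 1) Γ(X, W) Γ(L, W))
    [IsDomain Γ(X, W)] : IsDomain (𝒜.presheaf.obj (op W)) :=
  (polyEquiv L 𝒜 jL hA hW b).symm.toMulEquiv.isDomain _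

include hA in
theorem isIntegrallyClosed_sections_alg {W : X.Opens} (hW : IsAffineOpen W)
    (b : Module.Basis (Fin 1) Γ(X, W) Γ(L, W))
    [IsDomain Γ(X, W)] [IsIntegrallyClosed Γ(X, W)] : IsIntegrallyClosed (𝒜.presheaf.obj (op W)) :=
  IsIntegrallyClosed.of_equiv (polyEquiv L 𝒜 jL hA hW b)

include hA in
/-- the structure map `O(W) → 𝒜(W)` has a retraction -/
theorem exists_retraction {W : X.Opens} (hW : IsAffineOpen W) (b : Module.Basis (Fin 1) Γ(X, W) Γ(L, W)) :
    ∃ ρ : 𝒜.presheaf.obj (op W) →+* Γ(X, W), ∀ r, ρ ((𝒜.str.app (op W)).hom r) = r := by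
  refine ⟨(Polynomial.evalRingHom (0 : Γ(X, W))).comp (polyEquiv L 𝒜 jL hA hW b).symm.toRingHom, fun r => ?_⟩
  rw [← polyEquiv_C L 𝒜 jL hA hW b r]
  change Polynomial.eval 0 ((polyEquiv L 𝒜 jL hA hW b).symm (polyEquiv L 𝒜 jL hA hW b (Polynomial.C r))) = r
  rw [RingEquiv.symm_apply_apply, Polynomial.eval_C]

include hA in
/-- the projection of a line bundle is surjective -/
theorem surjective_π_lineBundle (hL : PicF.IsInvertible L) : Function.Surjective 𝒜.π.base := by
  intro x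
  obtain ⟨W, hW, hxW, -, ⟨b⟩⟩ := exists_affine_basis_le L hL x ⊤ trivial
  obtain ⟨ρ, hρ⟩ := exists_retraction L 𝒜 jL hA hW b
  have hx' : x ∈ Set.range hW.fromSpec.base := by
    rw [hW.range_fromSpec]
    exact hxW
  obtain ⟨𝔭, rfl⟩ := hx'
  have h1 : Spec.map (CommRingCat.ofHom ρ) ≫ Spec.map (𝒜.str.app (op W)) = 𝟙 _ := by
    rw [← Spec.map_comp]
    have : 𝒜.str.app (op W) ≫ CommRingCat.ofHom ρ = 𝟙 _ := by
      ext r
      exact hρ r
    rw [this, Spec.map_id]
    rfl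
  have h2 : (Spec.map (𝒜.str.app (op W))).base ((Spec.map (CommRingCat.ofHom ρ)).base 𝔭) = 𝔭 := by
    rw [← Scheme.Hom.comp_apply, h1]
    rfl
  refine ⟨(𝒜.ι W hW).base ((Spec.map (CommRingCat.ofHom ρ)).base 𝔭), ?_⟩
  rw [← Scheme.Hom.comp_apply, 𝒜.ι_π, Scheme.Hom.comp_apply, h2]

/-- sections over an integral open subscheme form a domain -/
theorem isDomain_of_open {V : Scheme.{u}} (P : V.Opens) [IsIntegral (P : Scheme.{u})] : IsDomain Γ(V, P) := by
  haveI h1 : IsDomain Γ((P : Scheme.{u}), ⊤) := inferInstance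
  let e : Γ((P : Scheme.{u}), ⊤) ≃+* Γ(V, P) := P.topIso.commRingCatIsoToRingEquiv
  exact e.symm.toMulEquiv.isDomain _

include hA in
/-- local charts of the line bundle over an integral open of the base -/
theorem exists_chart (hL : PicF.IsInvertible L) (v : 𝒜.spec) (U₀ : X.Opens) (hv : 𝒜.π.base v ∈ U₀)
    [IsIntegral (U₀ : Scheme.{u})] :
    ∃ (W : X.Opens) (hW : IsAffineOpen W), W ≤ U₀ ∧ v ∈ Set.range (𝒜.ι W hW).base ∧
      IsDomain (𝒜.presheaf.obj (op W)) ∧
      (Pi1.IsNormalScheme X → IsIntegrallyClosed (𝒜.presheaf.obj (op W))) := by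
  obtain ⟨W, hW, hxW, hWU, ⟨b⟩⟩ := exists_affine_basis_le L hL (𝒜.π.base v) U₀ hv
  haveI : Nonempty (W : Scheme.{u}) := ⟨⟨_, hxW⟩⟩
  haveI : IsIntegral (W : Scheme.{u}) := isIntegral_of_isOpenImmersion (X.homOfLE hWU)
  haveI : IsDomain Γ(X, W) := isDomain_of_open W
  refine ⟨W, hW, hWU, ?_, isDomain_sections L 𝒜 jL hA hW b, fun hX => ?_⟩
  · have h1 : v ∈ 𝒜.π ⁻¹ᵁ W := hxW
    rw [𝒜.π_preimage W hW] at h1
    exact h1
  · haveI := (isDomain_and_isIntegrallyClosed_of_open hX W).2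
    exact isIntegrallyClosed_sections_alg L 𝒜 jL hA hW b

include hA in
/-- the line bundle of a locally integral scheme is locally integral -/
theorem locally_integral_lineBundle (hL : PicF.IsInvertible L)
    (hloc : ∀ x : X, ∃ U : X.Opens, x ∈ U ∧ IsIntegral (U : Scheme.{u})) (v : 𝒜.spec) :
    ∃ U : 𝒜.spec.Opens, v ∈ U ∧ IsIntegral (U : Scheme.{u}) := by
  obtain ⟨U₀, hxU₀, hU₀⟩ := hloc (𝒜.π.base v)
  obtain ⟨W, hW, -, hvW, hdom, -⟩ := exists_chart L 𝒜 jL hA hL v U₀ hxU₀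
  refine ⟨(𝒜.ι W hW).opensRange, hvW, ?_⟩
  haveI : IsIntegral (Spec (𝒜.presheaf.obj (op W))) := inferInstance
  haveI : Nonempty ((𝒜.ι W hW).opensRange : Scheme.{u}) := ⟨⟨v, hvW⟩⟩
  exact isIntegral_of_isOpenImmersion (𝒜.ι W hW).isoOpensRange.inv

include hA in
/-- the line bundle of a locally integral normal scheme is normal -/
theorem isNormalScheme_lineBundle (hL : PicF.IsInvertible L)
    (hloc : ∀ x : X, ∃ U : X.Opens, x ∈ U ∧ IsIntegral (U : Scheme.{u})) (hX : Pi1.IsNormalScheme X) :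
    Pi1.IsNormalScheme 𝒜.spec := by
  intro v
  obtain ⟨U₀, hxU₀, hU₀⟩ := hloc (𝒜.π.base v)
  obtain ⟨W, hW, -, ⟨𝔮, rfl⟩, hdom, hic⟩ := exists_chart L 𝒜 jL hA hL v U₀ hxU₀
  haveI := hic hX
  exact stalk_normal_of_isOpenImmersion (𝒜.ι W hW) 𝔮 (isNormalScheme_Spec _ 𝔮)

include hA in
/-- the line bundle of an integral scheme is integral -/
theorem isIntegral_lineBundle (hL : PicF.IsInvertible L) [IsIntegral X] : IsIntegral 𝒜.spec := by
  have hloc : ∀ x : X, ∃ U : X.Opens, x ∈ U ∧ IsIntegral (U : Scheme.{u}) := by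
    intro x
    refine ⟨⊤, trivial, ?_⟩
    haveI : Nonempty ((⊤ : X.Opens) : Scheme.{u}) := ⟨⟨x, trivial⟩⟩
    exact isIntegral_of_isOpenImmersion (⊤ : X.Opens).ι
  haveI : IsReduced 𝒜.spec := isReduced_of_locally_integral (locally_integral_lineBundle L 𝒜 jL hA hL hloc)
  haveI : IsIntegral ((⊤ : X.Opens) : Scheme.{u}) := by
    obtain ⟨x⟩ := (inferInstance : Nonempty X)
    haveI : Nonempty ((⊤ : X.Opens) : Scheme.{u}) := ⟨⟨x, trivial⟩⟩
    exact isIntegral_of_isOpenImmersion (⊤ : X.Opens).ι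
  have hπs := surjective_π_lineBundle L 𝒜 jL hA hL
  choose W hW hWtop hvW hdom hic using fun v : 𝒜.spec => exists_chart L 𝒜 jL hA hL v ⊤ trivial
  haveI : Nonempty 𝒜.spec := by
    obtain ⟨x⟩ := (inferInstance : Nonempty X)
    obtain ⟨v, -⟩ := hπs x
    exact ⟨v⟩
  refine isIntegral_of_cover (fun v : 𝒜.spec => (𝒜.ι (W v) (hW v)).opensRange) (fun v => ⟨v, hvW v⟩) ?_ ?_
  · intro v
    haveI := hdom v
    have h1 : IsIrreducible (Set.univ : Set (Spec (𝒜.presheaf.obj (op (W v))))) :=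
      IrreducibleSpace.isIrreducible_univ _
    have h2 := h1.image (𝒜.ι (W v) (hW v)).base (𝒜.ι (W v) (hW v)).continuous.continuousOn
    rw [Set.image_univ] at h2
    exact h2
  · intro v v'
    have hv : 𝒜.π.base v ∈ W v := by
      have := hvW v
      change v ∈ (𝒜.ι (W v) (hW v)).opensRange at this
      rw [← 𝒜.π_preimage (W v) (hW v)] at this
      exact this
    have hv' : 𝒜.π.base v' ∈ W v' := by
      have := hvW v'
      change v' ∈ (𝒜.ι (W v') (hW v')).opensRange at this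
      rw [← 𝒜.π_preimage (W v') (hW v')] at this
      exact this
    obtain ⟨x, hx1, hx2⟩ := nonempty_preirreducible_inter (W v).2 (W v').2 ⟨_, hv⟩ ⟨_, hv'⟩
    obtain ⟨w, rfl⟩ := hπs x
    refine ⟨w, ?_, ?_⟩
    · change w ∈ (𝒜.ι (W v) (hW v)).opensRange
      rw [← 𝒜.π_preimage (W v) (hW v)]
      exact hx1
    · change w ∈ (𝒜.ι (W v') (hW v')).opensRange
      rw [← 𝒜.π_preimage (W v') (hW v')]
      exact hx2

end

end Groth.Agent.Lib.T2H4.LocInt
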