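import Mathlib
import Groth.Agent.Lib.T2H4GrauertR
import Groth.Agent.Lib.T2H4FactorA

/-!
# A universally closed bijective birational morphism onto a normal integral scheme is an isomorphism (helper4)

* `surjective_of_integral_of_birational` : ring lemma
* `isIntegral_app_of_universallyClosed`
* `app_bijective_of_birational`
* `isIso_of_birational_homeo`
-/

set_option autoImplicit false
set_option linter.style.haveILetI false
set_option linter.unusedSectionVars false
universe u
open CategoryTheory CategoryTheory.Limits AlgebraicGeometry TopologicalSpace Opposite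

namespace Groth.Agent.Lib.T2H4.LocInt

/-- an injective integral homomorphism from an integrally closed domain which becomes surjective after
inverting a nonzero element is surjective -/
theorem surjective_of_integral_of_birational {A B : Type*} [CommRing A] [IsDomain A] [IsIntegrallyClosed A]
    [CommRing B] [IsDomain B] (φ : A →+* B) (hinj : Function.Injective φ) (hint : φ.IsIntegral)
    (a : A) (ha : a ≠ 0) (h : ∀ t : B, ∃ (n : ℕ) (r : A), φ a ^ n * t = φ r) : Function.Surjective φ := by
  intro t
  obtain ⟨n, r, hr⟩ := h t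
  have hcomp : Function.Injective ((algebraMap B (FractionRing B)).comp φ) :=
    (IsFractionRing.injective B (FractionRing B)).comp hinj
  let ψ : FractionRing A →+* FractionRing B := IsFractionRing.lift hcomp
  have hψ : ∀ s : A, ψ (algebraMap A (FractionRing A) s) = algebraMap B (FractionRing B) (φ s) :=
    fun s => IsFractionRing.lift_algebraMap hcomp s
  have hψcomp : ψ.comp (algebraMap A (FractionRing A)) = (algebraMap B (FractionRing B)).comp φ :=
    RingHom.ext hψ
  obtain ⟨x, hxdef⟩ : ∃ x : FractionRing A,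
      x = algebraMap A (FractionRing A) r / algebraMap A (FractionRing A) a ^ n := ⟨_, rfl⟩
  have hane : algebraMap B (FractionRing B) (φ a) ≠ 0 := by
    intro h0
    have := hcomp (show ((algebraMap B (FractionRing B)).comp φ) a = ((algebraMap B (FractionRing B)).comp φ) 0 by
      rw [map_zero]; exact h0)
    exact ha this
  have hx : ψ x = algebraMap B (FractionRing B) t := by
    rw [hxdef, map_div₀, map_pow, hψ, hψ, ← hr, map_mul, map_pow]
    exact mul_div_cancel_left₀ _ (pow_ne_zero n hane)
  have hxint : IsIntegral A x := by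
    obtain ⟨p, hp, hpt⟩ := hint t
    refine ⟨p, hp, ?_⟩
    apply ψ.injective
    rw [map_zero, Polynomial.hom_eval₂, hx, hψcomp, ← Polynomial.hom_eval₂, hpt, map_zero]
  obtain ⟨s, hs⟩ := (IsIntegrallyClosed.isIntegral_iff (R := A) (K := FractionRing A)).mp hxint
  refine ⟨s, ?_⟩
  apply IsFractionRing.injective B (FractionRing B)
  rw [← hx, ← hs, hψ]

noncomputable section

variable {C' C : Scheme.{u}} (u : C' ⟶ C)

/-- sections of a universally closed morphism over an affine open are integral -/
theorem isIntegral_app_of_universallyClosed [UniversallyClosed u] (W : C.Opens) (hW : IsAffineOpen W) :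
    (u.app W).hom.IsIntegral := by
  haveI : IsAffine (W : Scheme.{u}) := hW
  haveI : UniversallyClosed (u ∣_ W) :=
    IsZariskiLocalAtTarget.restrict (P := @UniversallyClosed) (inferInstance : UniversallyClosed u) W
  have h1 := isIntegral_appTop_of_universallyClosed (u ∣_ W)
  rw [morphismRestrict_appTop] at h1
  have key : ∀ (W' : C.Opens) (m : Γ(C', u ⁻¹ᵁ W') ⟶ Γ((u ⁻¹ᵁ W : C'.Opens).toScheme, ⊤)),
      Function.Injective m.hom → (u.app W' ≫ m).hom.IsIntegral → (u.app W').hom.IsIntegral := by
    intro W' m hm hi x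
    obtain ⟨p, hp, hpx⟩ := hi (m.hom x)
    refine ⟨p, hp, ?_⟩
    apply hm
    rw [map_zero, Polynomial.hom_eval₂]
    exact hpx
  have h2 := key (W.ι ''ᵁ ⊤) _ ?_ h1
  · rw [Scheme.Opens.ι_image_top] at h2
    exact h2
  · haveI : IsIso (eqToHom (image_morphismRestrict_preimage u W ⊤)).op := inferInstance
    haveI : IsIso (C'.presheaf.map (eqToHom (image_morphismRestrict_preimage u W ⊤)).op) :=
      Functor.map_isIso _ _
    exact (ConcreteCategory.bijective_of_isIso
      (C'.presheaf.map (eqToHom (image_morphismRestrict_preimage u W ⊤)).op)).1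

variable [IsIntegral C'] [IsIntegral C]

/-- a universally closed surjective morphism of integral schemes onto a normal one, which is an isomorphism over a
nonempty open, induces bijections on sections over nonempty affine opens -/
theorem app_bijective_of_birational (hC : Pi1.IsNormalScheme C) [UniversallyClosed u]
    (hsurj : Function.Surjective u.base) (C₀ : C.Opens) [hC₀ : Nonempty C₀]
    (h₀ : ∀ D : C.Opens, D ≤ C₀ → Function.Bijective (u.app D).hom)
    (W : C.Opens) (hW : IsAffineOpen W) [hWne : Nonempty W] : Function.Bijective (u.app W).hom := by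
  haveI : Nonempty (u ⁻¹ᵁ W) := by
    obtain ⟨⟨c, hc⟩⟩ := hWne
    obtain ⟨c', rfl⟩ := hsurj c
    exact ⟨⟨c', hc⟩⟩
  haveI : IsDomain Γ(C, W) := IsIntegral.component_integral W
  haveI : IsDomain Γ(C', u ⁻¹ᵁ W) := IsIntegral.component_integral _
  haveI : IsIntegrallyClosed Γ(C, W) := isIntegrallyClosed_sections hC W
  have hinj : Function.Injective (u.app W).hom := by
    rw [injective_iff_map_eq_zero]
    intro a ha
    rw [← basicOpen_eq_bot_iff] at ha ⊢
    rw [← Scheme.preimage_basicOpen] at ha
    ext c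
    simp only [Opens.coe_bot, Set.mem_empty_iff_false, iff_false]
    intro hc
    obtain ⟨c', rfl⟩ := hsurj c
    have : c' ∈ u ⁻¹ᵁ C.basicOpen a := hc
    rw [ha] at this
    exact this
  refine ⟨hinj, ?_⟩
  -- a nonzero function with `D(a) ≤ C₀`
  obtain ⟨⟨c₁, hc₁⟩⟩ := hWne
  obtain ⟨⟨c₂, hc₂⟩⟩ := hC₀
  obtain ⟨c, hcW, hcC₀⟩ := nonempty_preirreducible_inter W.2 C₀.2 ⟨c₁, hc₁⟩ ⟨c₂, hc₂⟩
  obtain ⟨a, haC₀, hca⟩ := hW.exists_basicOpen_le (V := C₀) ⟨c, hcC₀⟩ hcW
  have ha0 : a ≠ 0 := by
    intro h0
    rw [h0, C.basicOpen_zero] at hca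
    exact hca
  refine surjective_of_integral_of_birational (u.app W).hom hinj
    (isIntegral_app_of_universallyClosed u W hW) a ha0 ?_
  intro t
  -- localisation on `C`
  letI alg1 : Algebra Γ(C, W) Γ(C, C.basicOpen a) :=
    (C.presheaf.map (homOfLE (C.basicOpen_le a)).op).hom.toAlgebra
  haveI loc1 : IsLocalization.Away a Γ(C, C.basicOpen a) := hW.isLocalization_basicOpen a
  obtain ⟨r', hr'⟩ := (h₀ (C.basicOpen a) haC₀).2
    ((C'.presheaf.map (homOfLE (u.preimage_mono (C.basicOpen_le a))).op).hom t)
  obtain ⟨n, r, hnr⟩ := IsLocalization.Away.surj a r'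
  refine ⟨n, r, ?_⟩
  haveI : Nonempty (u ⁻¹ᵁ C.basicOpen a) := by
    obtain ⟨c', rfl⟩ := hsurj c
    exact ⟨⟨c', hca⟩⟩
  apply map_injective_of_isIntegral C' (homOfLE (u.preimage_mono (C.basicOpen_le a)))
  have hnat : ∀ s : Γ(C, W), (C'.presheaf.map (homOfLE (u.preimage_mono (C.basicOpen_le a))).op).hom
      ((u.app W).hom s) = (u.app (C.basicOpen a)).hom (algebraMap Γ(C, W) Γ(C, C.basicOpen a) s) := by
    intro s
    have := u.naturality (homOfLE (C.basicOpen_le a)).op
    exact (congr($(this).hom s)).symm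
  change (C'.presheaf.map (homOfLE (u.preimage_mono (C.basicOpen_le a))).op).hom ((u.app W).hom a ^ n * t) =
    (C'.presheaf.map (homOfLE (u.preimage_mono (C.basicOpen_le a))).op).hom ((u.app W).hom r)
  rw [map_mul, map_pow, hnat, hnat, ← hr', ← map_pow, ← map_mul, ← hnr, mul_comm]

/-- **a universally closed bijective morphism of integral schemes onto a normal one which is an isomorphism over a
nonempty open is an isomorphism** -/
theorem isIso_of_birational_homeo (hC : Pi1.IsNormalScheme C) [UniversallyClosed u]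
    (hsurj : Function.Surjective u.base) (hinj : Function.Injective u.base) (C₀ : C.Opens) [Nonempty C₀]
    (h₀ : ∀ D : C.Opens, D ≤ C₀ → Function.Bijective (u.app D).hom) : IsIso u := by
  have hcl : IsClosedMap u.base := u.isClosedMap
  have hbij : ∀ (c : C) (N : C.Opens), c ∈ N →
      ∃ W' : C.Opens, c ∈ W' ∧ W' ≤ N ∧ Function.Bijective (u.app W').hom := by
    intro c N hc
    obtain ⟨_, ⟨W, hW, rfl⟩, hcW, hWN⟩ := C.isBasis_affineOpens.exists_subset_of_mem_open hc N.2
    haveI : Nonempty W := ⟨⟨c, hcW⟩⟩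
    exact ⟨W, hcW, hWN, app_bijective_of_birational u hC hsurj C₀ h₀ W hW⟩
  obtain ⟨v, hv, -⟩ := Groth.Agent.Lib.T2H4.Factor.existsUnique_factor u (𝟙 C') hcl hsurj hbij
    (fun v₁ v₂ h => hinj h)
  obtain ⟨w, -, hw⟩ := Groth.Agent.Lib.T2H4.Factor.existsUnique_factor u u hcl hsurj hbij
    (fun v₁ v₂ h => h)
  have h1 : v ≫ u = 𝟙 C := by
    rw [hw (v ≫ u) (by show u ≫ v ≫ u = u; rw [← Category.assoc, hv, Category.id_comp]),
      hw (𝟙 C) (Category.comp_id u)]
  exact ⟨⟨v, hv, h1⟩⟩

end

end Groth.Agent.Lib.T2H4.LocInt
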