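import Mathlib
import Groth.Agent.Lib.T2H4GrauertP
import Groth.Agent.Lib.T2H4GrauertI
import Groth.Agent.Lib.T2H4GrauertS
import Groth.Agent.Lib.T2H4GrauertT

/-!
# The factor `u : C' ⟶ C` of a proper contraction onto a normal scheme is an isomorphism (EGA II 8.9.x) (helper4)
-/

set_option autoImplicit false
set_option linter.style.haveILetI false
set_option linter.unusedSectionVars false
universe u
open CategoryTheory CategoryTheory.Limits AlgebraicGeometry TopologicalSpace Opposite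
open scoped HomogeneousIdeal

namespace Groth.Agent.Lib.T2H4.Grauert
open Groth.Agent.Lib.T2H4.PowMap Groth.Agent.Helper13SpecQMap Groth.Agent.Helper13RelProj
open Groth.Agent.Lib.Helper27Cone Groth.Agent.Lib.Helper10.RelSpecHom
open Groth.Agent.Lib.Helper23.SecTw Groth.Agent.Lib.Helper23.GenLocus Groth.Agent.Lib.Helper6
open Groth.Agent.Helper13RL Groth.Agent.Helper13SymAlg
open Groth.Agent.Helper13GrPoly Groth.Agent.Helper13ProjLine
open Groth.Agent.Lib.T2H4.LocInt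

noncomputable section

section canonical

variable {X Y : Scheme.{u}} (p : X ⟶ Y) [IsProper p]
  (L : X.Modules) [L.IsQuasicoherent] (hL : PicF.IsInvertible L)
  (𝒮L : RelProj.QCGrAlg X) (jL : L ⟶ 𝒮L.toModule) (hjL : RelProj.IsGrSymAlg L 𝒮L jL)
  (h0 : RelCone.StrZeroBij 𝒮L)
  (aug : 𝒮L.toQCAlg ⟶ RelSpec.QCAlg.unit X) (haug : RelCone.IsAugmentation 𝒮L aug)
  (j0 : X ⟶ 𝒮L.toQCAlg.spec) (hj0 : RelCone.IsVertex 𝒮L aug j0)
  (V0 : 𝒮L.toQCAlg.spec.Opens) (hV0 : (V0 : Set 𝒮L.toQCAlg.spec) = (Set.range j0.base)ᶜ)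
  (q' : 𝒮L.toQCAlg.spec ⟶ (RelSpec.QCAlg.directImage (𝒮L.toQCAlg.π ≫ p)).spec)
  (hq'π : q' ≫ (RelSpec.QCAlg.directImage (𝒮L.toQCAlg.π ≫ p)).π = 𝒮L.toQCAlg.π ≫ p)
  (hq' : AffAlg.algHom (RelSpec.QCAlg.directImage (𝒮L.toQCAlg.π ≫ p)).π (𝒮L.toQCAlg.π ≫ p) q' hq'π =
    (RelSpec.QCAlg.directImage (𝒮L.toQCAlg.π ≫ p)).gammaMap)

include hL hjL h0 haug hj0 hV0 in
/-- the complement of the zero section of a line bundle over a nonempty base is nonempty -/
theorem nonempty_compl_zero_section [Nonempty X] : Nonempty V0 := by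
  obtain ⟨x⟩ := (inferInstance : Nonempty X)
  obtain ⟨W, hW, hxW, ⟨b⟩⟩ := exists_affine_basis L hL x
  obtain ⟨v, -, -, hv, -⟩ := fibre_criterion L 𝒮L jL hjL W hW b x hxW
  refine ⟨⟨v, ?_⟩⟩
  change v ∈ (V0 : Set 𝒮L.toQCAlg.spec)
  rw [hV0, ← pointedCone_eq_compl_range 𝒮L aug h0 haug j0 hj0]
  exact hv

include hL hjL h0 haug hj0 hV0 hq' in
/-- **the factor `u : C' ⟶ C` of a proper contraction onto a normal scheme is an isomorphism** -/
theorem isIso_contraction_factor (hθ : IsIso p.c) (hamp : RelAmple.IsRelAmple p L) [IsIntegral X]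
    {C : Scheme.{u}} (hC : Pi1.IsNormalScheme C) (g : C ⟶ Y) (ε : Y ⟶ C) (q : 𝒮L.toQCAlg.spec ⟶ C)
    (hjq : j0 ≫ q = p ≫ ε) [IsProper q]
    (hqo : IsOpenImmersion (V0.ι ≫ q)) (hqr : Set.range (V0.ι ≫ q).base = (Set.range ε.base)ᶜ)
    (u : (RelSpec.QCAlg.directImage (𝒮L.toQCAlg.π ≫ p)).spec ⟶ C)
    (hug : u ≫ g = (RelSpec.QCAlg.directImage (𝒮L.toQCAlg.π ≫ p)).π) (hu : q' ≫ u = q) : IsIso u := by
  obtain ⟨hucl, husurj, huinj, -⟩ := contraction_factor_props p L hL 𝒮L jL hjL h0 aug haug j0 hj0 V0 hV0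
    q' hq'π hq' hθ hamp g ε q hjq hqo hqr u hug hu
  obtain ⟨hprop, ε', hε', hjq', hoi', hr'⟩ :=
    canonical_contraction_facts p L hL 𝒮L jL hjL h0 aug haug j0 hj0 V0 hV0 q' hq'π hq' hθ hamp
  have hpsurj := surjective_of_isIso_c p p.isClosedMap hθ
  have huε : ∀ y, u.base (ε'.base y) = ε.base y := by
    intro y
    obtain ⟨x, rfl⟩ := hpsurj y
    rw [← Scheme.Hom.comp_apply, ← Scheme.Hom.comp_apply, ← Category.assoc, ← hjq', Category.assoc, hu, hjq]
    rfl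
  -- integrality of `C'` and `C`
  haveI : IsIntegral 𝒮L.toQCAlg.spec := isIntegral_lineBundle L 𝒮L.toQCAlg jL hjL.1 hL
  have hbij' := app_bijective (𝒮L.toQCAlg.π ≫ p) q' hq'π hq'
  haveI : IsIntegral (RelSpec.QCAlg.directImage (𝒮L.toQCAlg.π ≫ p)).spec := isIntegral_of_bijective_app q' hbij'
  haveI : IsIntegral C := by
    haveI : ∀ c : C, _root_.IsReduced (C.presheaf.stalk c) := fun c => by
      haveI := (hC c).1
      infer_instance
    haveI : IsReduced C := isReduced_of_isReduced_stalk C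
    haveI : IrreducibleSpace C := by
      have h1 := (IrreducibleSpace.isIrreducible_univ
        (RelSpec.QCAlg.directImage (𝒮L.toQCAlg.π ≫ p)).spec).image u.base u.continuous.continuousOn
      rw [Set.image_univ, husurj.range_eq] at h1
      exact (irreducibleSpace_def C).mpr h1
    exact isIntegral_of_irreducibleSpace_of_isReduced C
  -- the open over which `u` is an isomorphism
  haveI := hqo
  haveI := hoi'
  haveI := hucl
  haveI hV0ne : Nonempty V0 := nonempty_compl_zero_section L hL 𝒮L jL hjL h0 aug haug j0 hj0 V0 hV0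
  haveI : Nonempty (V0.ι ≫ q).opensRange := by
    obtain ⟨v⟩ := hV0ne
    exact ⟨⟨(V0.ι ≫ q).base v, ⟨v, rfl⟩⟩⟩
  have h₀ : ∀ D : C.Opens, D ≤ (V0.ι ≫ q).opensRange → Function.Bijective (u.app D).hom := by
    intro D hD
    have hj : (V0.ι ≫ q') ≫ u = V0.ι ≫ q := by rw [Category.assoc, hu]
    have h1 : IsIso ((V0.ι ≫ q).app D) := Scheme.Hom.isIso_app _ D hD
    have hD' : u ⁻¹ᵁ D ≤ (V0.ι ≫ q').opensRange := by
      intro c' hc'
      by_contra hne
      have h2 : c' ∈ Set.range ε'.base := by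
        have h3 : c' ∉ Set.range (V0.ι ≫ q').base := hne
        rw [hr'] at h3
        exact not_not.mp h3
      obtain ⟨y, rfl⟩ := h2
      have h3 : u.base (ε'.base y) ∈ Set.range (V0.ι ≫ q).base := hD hc'
      rw [hqr, huε] at h3
      exact h3 ⟨y, rfl⟩
    haveI h2 : IsIso ((V0.ι ≫ q').app (u ⁻¹ᵁ D)) := Scheme.Hom.isIso_app _ _ hD'
    rw [← hj] at h1
    have h3 : ((V0.ι ≫ q') ≫ u).app D = u.app D ≫ (V0.ι ≫ q').app (u ⁻¹ᵁ D) := Scheme.Hom.comp_app _ _ _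
    rw [h3] at h1
    have h4 : IsIso (u.app D) :=
      @IsIso.of_isIso_comp_right _ _ _ _ _ (u.app D) ((V0.ι ≫ q').app (u ⁻¹ᵁ D)) h2 h1
    exact (ConcreteCategory.isIso_iff_bijective _).mp h4
  exact isIso_of_birational_homeo u hC husurj u.injective (V0.ι ≫ q).opensRange h₀

end canonical

end

end Groth.Agent.Lib.T2H4.Grauert
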