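import Groth.Agent.Lib.T2H4DCompMain
import Groth.Agent.Lib.T2H4RGFinite
import Groth.Agent.S7160

/-!
# Colocalization `RHom_A(A_h, -)` and its composition law (helper4)
-/

set_option autoImplicit false
universe u
open CategoryTheory CategoryTheory.Limits DerivedCategory
attribute [local instance] HasDerivedCategory.standard

namespace Groth.Agent.Lib.T2H4.DComp

open Groth.Agent.Lib.Helper17.KInj Groth.Agent.Lib.Helper1.Extend
  Groth.Agent.Lib.Helper1.Restrict Groth.Agent.Lib.Helper10.DerComplete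
  Groth.Agent.Lib.T2H4.Bousfield Groth.Agent.S14388 Pretriangulated

section Inv

variable {A : Type u} [CommRing A]

/-- `a` acts invertibly on `X`. -/
def Inv (a : A) (X : Dual.D A) : Prop := IsIso (a • 𝟙 X)

lemma Inv.of_iso {a : A} {X Y : Dual.D A} (h : Inv a X) (e : X ≅ Y) : Inv a Y := by
  have h1 : a • 𝟙 Y = e.inv ≫ (a • 𝟙 X) ≫ e.hom := by
    rw [Linear.smul_comp, Linear.comp_smul, Category.id_comp, e.inv_hom_id]
  haveI : IsIso (a • 𝟙 X) := h
  unfold Inv
  rw [h1]
  infer_instance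

lemma Inv.mul {a b : A} {X : Dual.D A} (ha : Inv a X) (hb : Inv b X) : Inv (a * b) X := by
  have h1 : (a * b) • 𝟙 X = (a • 𝟙 X) ≫ (b • 𝟙 X) := by
    rw [Linear.smul_comp, Category.id_comp, smul_smul]
  haveI : IsIso (a • 𝟙 X) := ha
  haveI : IsIso (b • 𝟙 X) := hb
  unfold Inv
  rw [h1]
  infer_instance

lemma Inv.of_mul_left {a b : A} {X : Dual.D A} (h : Inv (a * b) X) : Inv a X := by
  haveI : IsIso ((a * b) • 𝟙 X) := h
  have hw : (a * b) • inv ((a * b) • 𝟙 X) = 𝟙 X := by
    have := IsIso.hom_inv_id ((a * b) • 𝟙 X)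
    rwa [Linear.smul_comp, Category.id_comp] at this
  refine ⟨(b • 𝟙 X) ≫ inv ((a * b) • 𝟙 X), ?_, ?_⟩
  · rw [Linear.smul_comp, Category.id_comp, Linear.smul_comp, Category.id_comp, smul_smul]
    exact hw
  · rw [Linear.smul_comp, Category.id_comp, Linear.smul_comp, Linear.comp_smul, Category.comp_id,
      smul_smul, mul_comm]
    exact hw

lemma Inv.of_mul_right {a b : A} {X : Dual.D A} (h : Inv (a * b) X) : Inv b X := by
  rw [mul_comm] at h
  exact h.of_mul_left

lemma Inv.obj₃ {a : A} (T : Triangle (Dual.D A)) (hT : T ∈ distTriang _)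
    (h₁ : Inv a T.obj₁) (h₂ : Inv a T.obj₂) : Inv a T.obj₃ := by
  let φ : T ⟶ T := Triangle.homMk T T (a • 𝟙 _) (a • 𝟙 _) (a • 𝟙 _)
    (by rw [Linear.comp_smul, Linear.smul_comp, Category.comp_id, Category.id_comp])
    (by rw [Linear.comp_smul, Linear.smul_comp, Category.comp_id, Category.id_comp])
    (by rw [Functor.map_smul, CategoryTheory.Functor.map_id, Linear.comp_smul, Linear.smul_comp,
      Category.comp_id, Category.id_comp])
  exact isIso₃_of_isIso₁₂ φ hT hT h₁ h₂

/-- right adjoints of restriction of scalars are semilinear on identities. -/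
lemma rightAdjoint_map_smul_id {B : Type u} [CommRing B] (φ : A →+* B)
    (R : Dual.D A ⥤ Dual.D B) (adj : DRing.restrictD φ ⊣ R) (a : A) (K : Dual.D A) :
    R.map (a • 𝟙 K) = φ a • 𝟙 (R.obj K) := by
  apply (adj.homEquiv _ _).symm.injective
  rw [adj.homEquiv_counit, adj.homEquiv_counit, adj.counit_naturality, restrictD_map_smul_id,
    Linear.smul_comp, Linear.comp_smul, Category.id_comp, Category.comp_id]

lemma isZero_of_forall_isZero_homology (X : Dual.D A)
    (hX : ∀ i : ℤ, IsZero ((homologyFunctor (ModuleCat.{u} A) i).obj X)) : IsZero X := by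
  have : X.IsLE 0 := by
    rw [DerivedCategory.isLE_iff]
    exact fun i _ => hX i
  have : X.IsGE 1 := by
    rw [DerivedCategory.isGE_iff]
    exact fun i _ => hX i
  exact DerivedCategory.TStructure.t.isZero X 0 1 (by simp)

end Inv

section Loc

variable {A : Type u} [CommRing A] (h : A)

/-- `T_h K = RHom_A(A_h, K)` viewed over `A`. -/
noncomputable abbrev Tl (K : Dual.D A) : Dual.D A :=
  (Fr h).obj ((RG (algebraMap A (Localization.Away h))).obj K)

/-- the counit `T_h K ⟶ K`. -/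
noncomputable abbrev εl (K : Dual.D A) : Tl h K ⟶ K :=
  (adjRG (algebraMap A (Localization.Away h))).counit.app K

lemma inv_Fr (Y : Dual.D (Localization.Away h)) : Inv h ((Fr h).obj Y) := by
  obtain ⟨u, hu⟩ : IsUnit (algebraMap A (Localization.Away h) h) :=
    IsLocalization.Away.algebraMap_isUnit h
  have h1 : IsIso (algebraMap A (Localization.Away h) h • 𝟙 Y) := by
    refine ⟨(↑u⁻¹ : Localization.Away h) • 𝟙 Y, ?_, ?_⟩
    · rw [Linear.smul_comp, Linear.comp_smul, Category.id_comp, smul_smul, ← hu, Units.mul_inv,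
        one_smul]
    · rw [Linear.smul_comp, Linear.comp_smul, Category.id_comp, smul_smul, ← hu, Units.inv_mul,
        one_smul]
  have h2 := restrictD_map_smul_id (algebraMap A (Localization.Away h)) h Y
  unfold Inv
  rw [← h2]
  infer_instance

lemma inv_Tl_of_inv (a : A) (K : Dual.D A) (hK : Inv a K) : Inv a (Tl h K) := by
  have h1 : a • 𝟙 (Tl h K) =
      (Fr h).map ((RG (algebraMap A (Localization.Away h))).map (a • 𝟙 K)) := by
    rw [rightAdjoint_map_smul_id _ _ (adjRG _), restrictD_map_smul_id]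
  haveI : IsIso (a • 𝟙 K) := hK
  unfold Inv
  rw [h1]
  infer_instance

lemma isZero_of_orth_of_inv (C : Dual.D A) (ho : Orth h C) (hi : Inv h C) : IsZero C := by
  have h1 := (cpl_iff_orth h C).2 ho
  have h2 : ∀ i : ℤ, Crit h (Dual.HD A C i) := (V_shift_iff_crit h C).1 (fun n φ => h1 n φ)
  apply isZero_of_forall_isZero_homology
  intro i
  haveI : IsIso (h • 𝟙 C) := hi
  have h3 : IsIso ((homologyFunctor (ModuleCat.{u} A) i).map (h • 𝟙 C)) := inferInstance
  rw [Groth.Agent.S7160.homologyFunctor_map_smul_id] at h3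
  have hs : Function.Surjective (fun x : Dual.HD A C i => h • x) :=
    ((ConcreteCategory.isIso_iff_bijective _).1 h3).2
  have h0 : ∀ x : Dual.HD A C i, x = 0 := (h2 i).eq_zero_of_surjective hs
  haveI : Subsingleton (Dual.HD A C i) := ⟨fun x y => by rw [h0 x, h0 y]⟩
  exact ModuleCat.isZero_of_subsingleton _

lemma isIso_counit_of_inv (K : Dual.D A) (hK : Inv h K) : IsIso (εl h K) := by
  obtain ⟨K', η, δ, hT, horth⟩ := exists_local_cone (Fr h)
    (RG (algebraMap A (Localization.Away h))) (adjRG (algebraMap A (Localization.Away h))) K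
  have h3 : Inv h K' := Inv.obj₃ _ hT (inv_Fr h _) hK
  have hz : IsZero K' := isZero_of_orth_of_inv h K' horth h3
  exact (Triangle.isZero₃_iff_isIso₁ _ hT).1 hz

lemma bijective_comp_counit (L K : Dual.D A) (hL : Inv h L) :
    Function.Bijective (fun g : L ⟶ Tl h K => g ≫ εl h K) := by
  haveI := isIso_counit_of_inv h L hL
  let e : Tl h L ≅ L := asIso (εl h L)
  have key : Function.Bijective
      (fun g : (Fr h).obj ((RG (algebraMap A (Localization.Away h))).obj L) ⟶ Tl h K =>
        g ≫ εl h K) := by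
    constructor
    · intro g g' hgg
      obtain ⟨γ, rfl⟩ := (Fr h).map_surjective g
      obtain ⟨γ', rfl⟩ := (Fr h).map_surjective g'
      have h1 : ((adjRG (algebraMap A (Localization.Away h))).homEquiv _ K).symm γ =
          ((adjRG (algebraMap A (Localization.Away h))).homEquiv _ K).symm γ' := by
        rw [Adjunction.homEquiv_counit, Adjunction.homEquiv_counit]
        exact hgg
      rw [((adjRG (algebraMap A (Localization.Away h))).homEquiv _ K).symm.injective h1]
    · intro ψ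
      refine ⟨(Fr h).map ((adjRG (algebraMap A (Localization.Away h))).homEquiv _ K ψ), ?_⟩
      show (Fr h).map _ ≫ εl h K = ψ
      rw [← Adjunction.homEquiv_counit, Equiv.symm_apply_apply]
  constructor
  · intro g g' hgg
    have hgg' : g ≫ εl h K = g' ≫ εl h K := hgg
    have := key.1 (a₁ := e.hom ≫ g) (a₂ := e.hom ≫ g') (by
      show (e.hom ≫ g) ≫ εl h K = (e.hom ≫ g') ≫ εl h K
      rw [Category.assoc, Category.assoc, hgg'])
    exact (cancel_epi e.hom).1 this
  · intro ψ
    obtain ⟨g₀, hg₀⟩ := key.2 (e.hom ≫ ψ)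
    have hg₀' : g₀ ≫ εl h K = e.hom ≫ ψ := hg₀
    exact ⟨e.inv ≫ g₀, by
      show (e.inv ≫ g₀) ≫ εl h K = ψ
      rw [Category.assoc, hg₀', e.inv_hom_id_assoc]⟩

end Loc

section Comp

variable {A : Type u} [CommRing A]

/-- `RHom(A_f, RHom(A_g, K)) ≅ RHom(A_{fg}, K)`. -/
theorem nonempty_Tl_comp_iso (f g : A) (K : Dual.D A) :
    Nonempty (Tl f (Tl g K) ≅ Tl (f * g) K) := by
  let εX : Tl f (Tl g K) ⟶ K := εl f (Tl g K) ≫ εl g K
  let εY : Tl (f * g) K ⟶ K := εl (f * g) K
  have hX : Inv (f * g) (Tl f (Tl g K)) :=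
    (inv_Fr f _).mul (inv_Tl_of_inv f g _ (inv_Fr g _))
  have hY : Inv (f * g) (Tl (f * g) K) := inv_Fr (f * g) _
  have UX : ∀ L : Dual.D A, Inv (f * g) L →
      Function.Bijective (fun u : L ⟶ Tl f (Tl g K) => u ≫ εX) := by
    intro L hL
    have h1 := bijective_comp_counit f L (Tl g K) hL.of_mul_left
    have h2 := bijective_comp_counit g L K hL.of_mul_right
    have h3 : (fun u : L ⟶ Tl f (Tl g K) => u ≫ εX) =
        (fun v : L ⟶ Tl g K => v ≫ εl g K) ∘ (fun u : L ⟶ Tl f (Tl g K) => u ≫ εl f (Tl g K)) := by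
      funext u
      show u ≫ εl f (Tl g K) ≫ εl g K = (u ≫ εl f (Tl g K)) ≫ εl g K
      rw [Category.assoc]
    rw [h3]
    exact h2.comp h1
  have UY : ∀ L : Dual.D A, Inv (f * g) L →
      Function.Bijective (fun u : L ⟶ Tl (f * g) K => u ≫ εY) :=
    fun L hL => bijective_comp_counit (f * g) L K hL
  obtain ⟨α, hα⟩ := (UY _ hX).2 εX
  obtain ⟨β, hβ⟩ := (UX _ hY).2 εY
  have hα' : α ≫ εY = εX := hα
  have hβ' : β ≫ εX = εY := hβ
  refine ⟨⟨α, β, ?_, ?_⟩⟩
  · apply (UX _ hX).1
    show (α ≫ β) ≫ εX = 𝟙 _ ≫ εX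
    rw [Category.assoc, hβ', hα', Category.id_comp]
  · apply (UY _ hY).1
    show (β ≫ α) ≫ εY = 𝟙 _ ≫ εY
    rw [Category.assoc, hα', hβ', Category.id_comp]

end Comp

end Groth.Agent.Lib.T2H4.DComp
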