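import Groth.Agent.Lib.T2H4GammaComp
import Groth.Agent.Lib.T2H4LocLocal

/-!
# Greenlees–May duality over a Noetherian ring (helper4)
-/

set_option autoImplicit false
universe u
open CategoryTheory CategoryTheory.Limits DerivedCategory Pretriangulated
attribute [local instance] HasDerivedCategory.standard

namespace Groth.Agent.Lib.T2H4.GNoeth

open Groth.Agent.Lib.Helper17.KInj Groth.Agent.Lib.T2H4.DComp Groth.Agent.Lib.T2H4.RGam
  Groth.Agent.Lib.T2H4.Bousfield Groth.Agent.Lib.Helper1.Extend

section CoUniv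

variable {C : Type*} [Category C] [HasZeroObject C] [Preadditive C] [HasShift C ℤ]
  [∀ n : ℤ, (shiftFunctor C n).Additive] [Pretriangulated C]

/-- covariant version of `isUniv_of_distTriang`. -/
lemma bijective_comp_of_distTriang (T : Triangle C) (hT : T ∈ distTriang C) (L : C)
    (h0 : ∀ g : L ⟶ T.obj₁, g = 0) (h1 : ∀ g : L ⟶ T.obj₁⟦(1 : ℤ)⟧, g = 0) :
    Function.Bijective (fun g : L ⟶ T.obj₂ => g ≫ T.mor₂) := by
  refine ⟨fun g₁ g₂ hg => ?_, fun u => ?_⟩
  · dsimp at hg
    have h : (g₁ - g₂) ≫ T.mor₂ = 0 := by rw [Preadditive.sub_comp, hg, sub_self]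
    obtain ⟨w, hw⟩ := Triangle.coyoneda_exact₂ T hT _ h
    rw [h0 w, zero_comp] at hw
    exact sub_eq_zero.1 hw
  · obtain ⟨g, hg⟩ := Triangle.coyoneda_exact₃ T hT u (h1 _)
    exact ⟨g, hg.symm⟩

end CoUniv

section LOrth

variable {A : Type u} [CommRing A]

/-- `L` is left orthogonal to the essential image of `D(A_f)`. -/
def LOrth (f : A) (L : Dual.D A) : Prop :=
  ∀ (E : Dual.D (Localization.Away f)) (g : L ⟶ (Fr f).obj E), g = 0

lemma LOrth.shift {f : A} {L : Dual.D A} (h : LOrth f L) (E : Dual.D (Localization.Away f))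
    (n : ℤ) (g : L ⟶ ((Fr f).obj E)⟦n⟧) : g = 0 := by
  have := h (E⟦n⟧) (g ≫ ((Fr f).commShiftIso n).inv.app E)
  rw [← cancel_mono (((Fr f).commShiftIso n).inv.app E), this, zero_comp]

/-- completion with respect to one element, with the covariant bijection. -/
theorem exists_step_co (f : A) (K : Dual.D A) :
    ∃ (K' : Dual.D A) (η : K ⟶ K'),
      Orth f K' ∧ IsUniv (Orth f) η ∧ (∀ g : A, Orth g K → Orth g K') ∧
      (∀ L : Dual.D A, LOrth f L → Function.Bijective (fun g : L ⟶ K => g ≫ η)) := by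
  obtain ⟨K', η, δ, hT, hloc⟩ := exists_local_cone (Fr f)
    (RG (algebraMap A (Localization.Away f))) (adjRG (algebraMap A (Localization.Away f))) K
  refine ⟨K', η, hloc, ?_, ?_, ?_⟩
  · exact isUniv_of_local_cone (Fr f) (RG (algebraMap A (Localization.Away f)))
      (adjRG (algebraMap A (Localization.Away f))) K _ hT (Iso.refl _)
  · intro g hg
    exact orth_obj₃ (Fr g) (RG (algebraMap A (Localization.Away g)))
      (adjRG (algebraMap A (Localization.Away g))) _ hT (orth_FRG f g K hg) hg
  · intro L hL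
    exact bijective_comp_of_distTriang _ hT L (fun g => hL _ g) (fun g => hL.shift _ 1 g)

theorem exists_completion_co (s : Finset A) : ∀ K : Dual.D A,
    ∃ (K' : Dual.D A) (η : K ⟶ K'),
      (∀ f ∈ s, Orth f K') ∧ IsUniv (fun M => ∀ f ∈ s, Orth f M) η ∧
      (∀ g : A, Orth g K → Orth g K') ∧
      (∀ L : Dual.D A, (∀ f ∈ s, LOrth f L) → Function.Bijective (fun g : L ⟶ K => g ≫ η)) := by
  classical
  induction s using Finset.induction_on with
  | empty =>
    intro K
    refine ⟨K, 𝟙 K, by simp, IsUniv.id _ K, fun g h => h, fun L _ => ?_⟩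
    convert Function.bijective_id using 1
    funext g
    simp
  | insert a s ha ih =>
    intro K
    obtain ⟨K₁, η₁, h1a, h1b, h1c, h1d⟩ := ih K
    obtain ⟨K₂, η₂, h2a, h2b, h2c, h2d⟩ := exists_step_co a K₁
    refine ⟨K₂, η₁ ≫ η₂, ?_, ?_, ?_, ?_⟩
    · intro f hf
      rcases Finset.mem_insert.1 hf with rfl | hf
      · exact h2a
      · exact h2c f (h1a f hf)
    · exact h1b.comp h2b (fun M hM f hf => hM f (Finset.mem_insert_of_mem hf))
        (fun M hM => hM a (Finset.mem_insert_self a s))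
    · exact fun g hg => h2c g (h1c g hg)
    · intro L hL
      have b1 := h1d L (fun f hf => hL f (Finset.mem_insert_of_mem hf))
      have b2 := h2d L (hL a (Finset.mem_insert_self a s))
      have := b2.comp b1
      convert this using 1
      funext g
      simp

/-- the unit of the derived completion induces bijections on maps from objects left orthogonal
to all `D(A_f)`, `f ∈ s`. -/
theorem bijective_comp_toDerivedCompletion (I : Ideal A) (s : Finset A)
    (hs : Ideal.span (s : Set A) = I) [DRing.HasDerivedCompletion I] (K L : Dual.D A)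
    (hL : ∀ f ∈ s, LOrth f L) :
    Function.Bijective (fun g : L ⟶ K => g ≫ DRing.toDerivedCompletion I K) := by
  obtain ⟨K', η, h1, h2, _, h4⟩ := exists_completion_co s K
  have hK' : DRing.IsDerivedComplete I K' := (isDerivedComplete_iff_orth I s hs K').2 h1
  have hη : IsUniv (DRing.IsDerivedComplete I) η :=
    fun M hM => h2 M ((isDerivedComplete_iff_orth I s hs M).1 hM)
  obtain ⟨e, he⟩ := IsUniv.exists_iso hη (isUniv_unit I K) hK'
    ((DRing.derivedCompletion I).obj K).property
  have b := h4 L hL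
  rw [← he]
  refine ⟨fun g₁ g₂ hg => b.1 ?_, fun u => ?_⟩
  · dsimp at hg ⊢
    rw [← Category.assoc, ← Category.assoc] at hg
    exact (cancel_mono e.hom).1 hg
  · obtain ⟨g, hg⟩ := b.2 (u ≫ e.inv)
    refine ⟨g, ?_⟩
    dsimp at hg ⊢
    rw [← Category.assoc, hg, Category.assoc, Iso.inv_hom_id, Category.comp_id]

end LOrth

section Tors

variable {A : Type u} [CommRing A]

lemma subsingleton_tensor_of_torsion (f : A) (H : Type u) [AddCommGroup H] [Module A H]
    (hH : ∀ x : H, ∃ k : ℕ, f ^ k • x = 0) :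
    Subsingleton (TensorProduct A (Localization.Away f) H) := by
  obtain ⟨v, hv⟩ : IsUnit (algebraMap A (Localization.Away f) f) :=
    IsLocalization.Away.algebraMap_isUnit f
  refine ⟨fun a b => ?_⟩
  have h0 : ∀ t : TensorProduct A (Localization.Away f) H, t = 0 := by
    intro t
    induction t using TensorProduct.induction_on with
    | zero => rfl
    | tmul b x =>
      obtain ⟨k, hk⟩ := hH x
      have h1 : b = f ^ k • (b * ((↑(v⁻¹) : Localization.Away f)) ^ k) := by
        rw [Algebra.smul_def, map_pow, ← hv, mul_comm (b : Localization.Away f), ← mul_assoc,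
          ← mul_pow, Units.mul_inv, one_pow, one_mul]
      rw [h1, TensorProduct.smul_tmul, hk, TensorProduct.tmul_zero]
    | add x y hx hy => rw [hx, hy, add_zero]
  rw [h0 a, h0 b]

lemma isZero_ext_of_torsion (f : A) (H : ModuleCat.{u} A) (hH : ∀ x : H, ∃ k : ℕ, f ^ k • x = 0) :
    IsZero ((ext A (Localization.Away f)).obj H) := by
  haveI := subsingleton_tensor_of_torsion f H hH
  haveI : Subsingleton ((ext A (Localization.Away f)).obj H) :=
    (extEquiv (A := A) (B := Localization.Away f) H).injective.subsingleton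
  exact ModuleCat.isZero_of_subsingleton _

/-- complexes with `I`-power torsion cohomology are left orthogonal to `D(A_f)`, `f ∈ I`. -/
lemma lOrth_of_PT (I : Ideal A) (f : A) (hf : f ∈ I) (L : Dual.D A) (hL : PT I L) : LOrth f L := by
  have hz : IsZero ((extD A (Localization.Away f)).obj L) := by
    apply isZero_of_forall_isZero_homology
    intro i
    refine IsZero.of_iso ?_ (homologyMapDIso (ext A (Localization.Away f)) L i)
    apply isZero_ext_of_torsion
    intro x
    obtain ⟨k, hk⟩ := hL i x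
    exact ⟨k, hk _ (Ideal.pow_mem_pow hf k)⟩
  intro E g
  apply ((adjExt f).homEquiv L E).symm.injective
  exact hz.eq_of_src _ _

end Tors

section Part1

variable {A : Type u} [CommRing A] [IsNoetherianRing A] (I : Ideal A) [DRing.HasRgammaI I]

lemma bijective_comp_ε (L X : Dual.D A) (hL : PT I L) :
    Function.Bijective (fun φ : L ⟶ (DRing.RgammaI I).obj X => φ ≫ (DRing.RgammaIε I).app X) := by
  refine ⟨fun φ₁ φ₂ h => comp_ε_injective I L X hL φ₁ φ₂ h, fun ψ => ?_⟩
  haveI := isIso_RgammaIε_app_of_torsion I L hL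
  refine ⟨inv ((DRing.RgammaIε I).app L) ≫ (DRing.RgammaI I).map ψ, ?_⟩
  have n1 : (DRing.RgammaI I).map ψ ≫ (DRing.RgammaIε I).app X =
      (DRing.RgammaIε I).app L ≫ ψ := (DRing.RgammaIε I).naturality ψ
  show (inv ((DRing.RgammaIε I).app L) ≫ (DRing.RgammaI I).map ψ) ≫ (DRing.RgammaIε I).app X = ψ
  rw [Category.assoc, n1, IsIso.inv_hom_id_assoc]

/-- if `η` induces bijections on maps from torsion complexes, `RΓ_I(η)` is an isomorphism. -/
lemma isIso_RgammaI_map_of_bijective {K K' : Dual.D A} (η : K ⟶ K')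
    (hη : ∀ L : Dual.D A, PT I L → Function.Bijective (fun g : L ⟶ K => g ≫ η)) :
    IsIso ((DRing.RgammaI I).map η) := by
  have key : ∀ L : Dual.D A, PT I L →
      Function.Bijective (fun φ : L ⟶ (DRing.RgammaI I).obj K => φ ≫ (DRing.RgammaI I).map η) := by
    intro L hL
    have b1 := bijective_comp_ε I L K hL
    have b2 := bijective_comp_ε I L K' hL
    have b3 := hη L hL
    have n1 : (DRing.RgammaI I).map η ≫ (DRing.RgammaIε I).app K' =
        (DRing.RgammaIε I).app K ≫ η := (DRing.RgammaIε I).naturality η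
    have hcomp : (fun φ : L ⟶ (DRing.RgammaI I).obj K' => φ ≫ (DRing.RgammaIε I).app K') ∘
        (fun φ : L ⟶ (DRing.RgammaI I).obj K => φ ≫ (DRing.RgammaI I).map η) =
        (fun g : L ⟶ K => g ≫ η) ∘
          (fun φ : L ⟶ (DRing.RgammaI I).obj K => φ ≫ (DRing.RgammaIε I).app K) := by
      funext φ
      simp only [Function.comp_apply, Category.assoc, n1]
    have b4 : Function.Bijective
        ((fun φ : L ⟶ (DRing.RgammaI I).obj K' => φ ≫ (DRing.RgammaIε I).app K') ∘
        (fun φ : L ⟶ (DRing.RgammaI I).obj K => φ ≫ (DRing.RgammaI I).map η)) := by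
      rw [hcomp]
      exact b3.comp b1
    exact (Function.Bijective.of_comp_iff' b2 _).1 b4
  obtain ⟨g, hg⟩ := (key _ (PT_RgammaI I K')).2 (𝟙 _)
  dsimp at hg
  refine ⟨g, ?_, hg⟩
  apply (key _ (PT_RgammaI I K)).1
  dsimp
  rw [Category.assoc, hg, Category.comp_id, Category.id_comp]

/-- `RΓ_I(K^) ≅ RΓ_I(K)`. -/
theorem nonempty_RgammaI_completion_iso [DRing.HasDerivedCompletion I] (K : Dual.D A) :
    Nonempty ((DRing.RgammaI I).obj ((DRing.derivedCompletion I).obj K).obj ≅
      (DRing.RgammaI I).obj K) := by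
  obtain ⟨s, hs⟩ := (isNoetherianRing_iff_ideal_fg A).1 inferInstance I
  haveI := isIso_RgammaI_map_of_bijective I (DRing.toDerivedCompletion I K) (fun L hL =>
    bijective_comp_toDerivedCompletion I s hs K L (fun f hf =>
      lOrth_of_PT I f (hs ▸ Ideal.subset_span hf) L hL))
  exact ⟨(asIso ((DRing.RgammaI I).map (DRing.toDerivedCompletion I K))).symm⟩

end Part1

section Quot

variable {A : Type u} [CommRing A] (f : A) (C : CochainComplex (ModuleCat.{u} A) ℤ)

/-- the quotient complex `C / Γ_f C`. -/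
noncomputable def quotCx : CochainComplex (ModuleCat.{u} A) ℤ where
  X n := ModuleCat.of A (C.X n ⧸ DRing.torsionSub (Ideal.span {f}) (C.X n))
  d i j := ModuleCat.ofHom (Submodule.mapQ _ _ (C.d i j).hom
    (fun _ hx => DRing.map_mem_torsionSub _ (C.d i j).hom hx))
  shape i j h := by
    apply ModuleCat.hom_ext
    apply LinearMap.ext
    intro x
    obtain ⟨x, rfl⟩ := Submodule.Quotient.mk_surjective _ x
    show Submodule.Quotient.mk ((C.d i j).hom x) = 0
    rw [C.shape i j h]
    rfl
  d_comp_d' i j k _ _ := by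
    apply ModuleCat.hom_ext
    apply LinearMap.ext
    intro x
    obtain ⟨x, rfl⟩ := Submodule.Quotient.mk_surjective _ x
    show Submodule.Quotient.mk ((C.d j k).hom ((C.d i j).hom x)) = 0
    rw [d_d_apply]
    rfl

/-- the projection `C ⟶ C / Γ_f C`. -/
noncomputable def quotπ : C ⟶ quotCx f C where
  f n := ModuleCat.ofHom (Submodule.mkQ _)
  comm' i j _ := by
    apply ModuleCat.hom_ext
    apply LinearMap.ext
    intro x
    rfl

/-- the short exact sequence `0 → Γ_f C → C → C/Γ_f C → 0`. -/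
noncomputable def quotSES : ShortComplex (CochainComplex (ModuleCat.{u} A) ℤ) :=
  ShortComplex.mk (ιΓ (Ideal.span {f}) C) (quotπ f C) (by
    ext n x
    show Submodule.Quotient.mk (x : DRing.torsionSub (Ideal.span {f}) (C.X n)).1 = 0
    rw [Submodule.Quotient.mk_eq_zero]
    exact x.2)

lemma quotSES_shortExact : (quotSES f C).ShortExact := by
  apply HomologicalComplex.shortExact_of_degreewise_shortExact
  intro n
  refine ShortComplex.ShortExact.mk' ?_ ?_ ?_
  · rw [ShortComplex.moduleCat_exact_iff]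
    intro (x : C.X n) hx
    have hx' : (Submodule.Quotient.mk x : C.X n ⧸ DRing.torsionSub (Ideal.span {f}) (C.X n)) = 0 := hx
    rw [Submodule.Quotient.mk_eq_zero] at hx'
    exact ⟨(⟨x, hx'⟩ : DRing.torsionSub (Ideal.span {f}) (C.X n)), rfl⟩
  · rw [ModuleCat.mono_iff_injective]
    intro (x : DRing.torsionSub (Ideal.span {f}) (C.X n)) y hxy
    exact Subtype.ext hxy
  · rw [ModuleCat.epi_iff_surjective]
    exact Submodule.mkQ_surjective _

lemma mem_torsionSub_span_singleton (M : Type u) [AddCommGroup M] [Module A M] (x : M) :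
    x ∈ DRing.torsionSub (Ideal.span {f}) M ↔ ∃ k : ℕ, f ^ k • x = 0 := by
  constructor
  · rintro ⟨k, hk⟩
    exact ⟨k, hk _ (Ideal.pow_mem_pow (Ideal.mem_span_singleton_self f) k)⟩
  · rintro ⟨k, hk⟩
    refine ⟨k, fun a ha => ?_⟩
    rw [Ideal.span_singleton_pow, Ideal.mem_span_singleton'] at ha
    obtain ⟨c, rfl⟩ := ha
    rw [mul_smul, hk, smul_zero]

/-- `f` acts bijectively on the terms of `C / Γ_f C` when the terms of `C` are `f`-divisible modulo
torsion. -/
lemma bijective_smul_quotCx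
    (hdiv : ∀ (n : ℤ) (w : C.X n), ∃ (w' : C.X n) (N : ℕ), f ^ N • (w - f • w') = 0) (n : ℤ) :
    Function.Bijective (fun x : (quotCx f C).X n => f • x) := by
  constructor
  · intro x y hxy
    obtain ⟨x, rfl⟩ := Submodule.Quotient.mk_surjective _ x
    obtain ⟨y, rfl⟩ := Submodule.Quotient.mk_surjective _ y
    have h1 : (Submodule.Quotient.mk (f • x) :
        C.X n ⧸ DRing.torsionSub (Ideal.span {f}) (C.X n)) = Submodule.Quotient.mk (f • y) := hxy
    rw [Submodule.Quotient.eq, mem_torsionSub_span_singleton] at h1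
    obtain ⟨k, hk⟩ := h1
    show (Submodule.Quotient.mk x : C.X n ⧸ DRing.torsionSub (Ideal.span {f}) (C.X n)) =
      Submodule.Quotient.mk y
    rw [Submodule.Quotient.eq, mem_torsionSub_span_singleton]
    refine ⟨k + 1, ?_⟩
    rw [pow_succ, mul_smul, smul_sub]
    exact hk
  · intro x
    obtain ⟨x, rfl⟩ := Submodule.Quotient.mk_surjective _ x
    obtain ⟨w', N, hN⟩ := hdiv n x
    refine ⟨Submodule.Quotient.mk w', ?_⟩
    show (Submodule.Quotient.mk (f • w') : C.X n ⧸ DRing.torsionSub (Ideal.span {f}) (C.X n)) =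
      Submodule.Quotient.mk x
    rw [eq_comm, Submodule.Quotient.eq, mem_torsionSub_span_singleton]
    exact ⟨N, hN⟩

end Quot

section Step

variable {A : Type u} [CommRing A]

lemma inv_shift {f : A} {X : Dual.D A} (h : Inv f X) (n : ℤ) : Inv f (X⟦n⟧) := by
  haveI : IsIso (f • 𝟙 X) := h
  have h1 : f • 𝟙 (X⟦n⟧) = (f • 𝟙 X)⟦n⟧' := by
    rw [Functor.map_smul, CategoryTheory.Functor.map_id]
  unfold DComp.Inv
  rw [h1]
  infer_instance

lemma hom_eq_zero_of_inv_of_orth (f : A) {X E : Dual.D A} (hX : Inv f X) (hE : Orth f E)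
    (g : X ⟶ E) : g = 0 := by
  haveI := isIso_counit_of_inv f X hX
  have h1 : εl f X ≫ g = 0 := hE _ _
  exact (cancel_epi (εl f X)).1 (h1.trans comp_zero.symm)

lemma inv_Q_of_bijective (f : A) (T : CochainComplex (ModuleCat.{u} A) ℤ)
    (hT : ∀ n, Function.Bijective (fun x : T.X n => f • x)) :
    Inv f ((Q : _ ⥤ Dual.D A).obj T) := by
  have h1 : IsIso (f • 𝟙 T) := by
    haveI : ∀ n, IsIso ((f • 𝟙 T : T ⟶ T).f n) := fun n => by
      rw [ConcreteCategory.isIso_iff_bijective]
      exact hT n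
    exact HomologicalComplex.Hom.isIso_of_components _
  have h2 : f • 𝟙 ((Q : _ ⥤ Dual.D A).obj T) = Q.map (f • 𝟙 T) := by
    rw [Functor.map_smul, CategoryTheory.Functor.map_id]
  unfold DComp.Inv
  rw [h2]
  infer_instance

/-- the class of maps inverted by completion with respect to `f`. -/
def WF (f : A) {X Y : Dual.D A} (g : X ⟶ Y) : Prop :=
  ∀ E : Dual.D A, Orth f E → Function.Bijective (fun u : Y ⟶ E => g ≫ u)

/-- one step: `Γ_f C ⊆ C` is inverted by `f`-completion. -/
lemma wf_Q_ιΓ_span_singleton (f : A) (C : CochainComplex (ModuleCat.{u} A) ℤ)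
    (hdiv : ∀ (n : ℤ) (w : C.X n), ∃ (w' : C.X n) (N : ℕ), f ^ N • (w - f • w') = 0) :
    WF f ((Q : _ ⥤ Dual.D A).map (ιΓ (Ideal.span {f}) C)) := by
  intro E hE
  have hS := quotSES_shortExact f C
  have hT := DerivedCategory.triangleOfSES_distinguished hS
  have hinv : Inv f ((Q : _ ⥤ Dual.D A).obj (quotCx f C)) :=
    inv_Q_of_bijective f _ (bijective_smul_quotCx f C hdiv)
  have hT' := inv_rot_of_distTriang _ hT
  have := isUniv_of_distTriang (P := Orth f) _ hT'
    (fun M hM g => hom_eq_zero_of_inv_of_orth f (inv_shift hinv (-1)) hM g)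
    (fun M hM g => hom_eq_zero_of_inv_of_orth f (inv_shift (inv_shift hinv (-1)) 1) hM g)
  exact this E hE

end Step

section Part2

variable {A : Type u} [CommRing A]

lemma ιΓ_sup_eq (I' : Ideal A) (f : A) (J : CochainComplex (ModuleCat.{u} A) ℤ) :
    ιΓ (I' ⊔ Ideal.span {f}) J =
      (gammaGammaIso I' (Ideal.span {f}) J).inv ≫ ιΓ (Ideal.span {f}) ((gammaCx I').obj J) ≫
        ιΓ I' J := by
  ext n x
  rfl

lemma isIso_leftAdjoint_map_of_bijective {C D : Type*} [Category C] [Category D] {F : C ⥤ D}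
    {G : D ⥤ C} (adj : F ⊣ G) {X Y : C} (g : X ⟶ Y)
    (h : ∀ E : D, Function.Bijective (fun u : Y ⟶ G.obj E => g ≫ u)) : IsIso (F.map g) := by
  have key : ∀ E : D, Function.Bijective (fun v : F.obj Y ⟶ E => F.map g ≫ v) := by
    intro E
    have h1 : (fun v : F.obj Y ⟶ E => F.map g ≫ v) =
        (adj.homEquiv X E).symm ∘ (fun u : Y ⟶ G.obj E => g ≫ u) ∘ (adj.homEquiv Y E) := by
      funext v
      simp only [Function.comp_apply]
      rw [← adj.homEquiv_naturality_left, Equiv.symm_apply_apply]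
    rw [h1]
    exact (adj.homEquiv X E).symm.bijective.comp ((h E).comp (adj.homEquiv Y E).bijective)
  obtain ⟨v, hv⟩ := (key (F.obj X)).2 (𝟙 _)
  dsimp at hv
  refine ⟨v, hv, ?_⟩
  apply (key (F.obj Y)).1
  dsimp
  rw [← Category.assoc, hv, Category.id_comp, Category.comp_id]

variable [IsNoetherianRing A]

/-- `Q(Γ_I J) ⟶ Q(J)` is inverted by derived completion, for a complex `J` of injectives. -/
lemma bijective_Q_ιΓ_comp (J : CochainComplex (ModuleCat.{u} A) ℤ) (hJ : ∀ n, Injective (J.X n))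
    (s : Finset A) : ∀ E : Dual.D A, (∀ f ∈ s, Orth f E) →
      Function.Bijective (fun u : (Q : _ ⥤ Dual.D A).obj J ⟶ E =>
        Q.map (ιΓ (Ideal.span (s : Set A)) J) ≫ u) := by
  classical
  induction s using Finset.induction_on with
  | empty =>
    intro E _
    haveI : QuasiIso (ιΓ (Ideal.span ((∅ : Finset A) : Set A)) J) := by
      apply quasiIso_ιΓ_of_forall_mem
      intro n x
      rw [Finset.coe_empty, Ideal.span_empty]
      exact torsionSub_bot _ x
    haveI : IsIso ((Q : _ ⥤ Dual.D A).map (ιΓ (Ideal.span ((∅ : Finset A) : Set A)) J)) := by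
      rw [DerivedCategory.isIso_Q_map_iff_quasiIso]
      infer_instance
    exact ⟨fun u₁ u₂ h => (cancel_epi _).1 h, fun w => ⟨inv (Q.map (ιΓ _ J)) ≫ w, by simp⟩⟩
  | insert f s hfs ih =>
    intro E hE
    have h3 : Ideal.span ((insert f s : Finset A) : Set A) =
        Ideal.span (s : Set A) ⊔ Ideal.span {f} := by
      rw [Finset.coe_insert, Ideal.span_insert, sup_comm]
    rw [h3, ιΓ_sup_eq]
    have b1 := ih E (fun g hg => hE g (Finset.mem_insert_of_mem hg))
    have hdiv : ∀ (n : ℤ) (w : ((gammaCx (Ideal.span (s : Set A))).obj J).X n),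
        ∃ (w' : ((gammaCx (Ideal.span (s : Set A))).obj J).X n) (N : ℕ),
          f ^ N • (w - f • w') = 0 := by
      intro n w
      haveI : Injective (ModuleCat.of A (J.X n)) := hJ n
      haveI : Module.Injective A (J.X n) := Module.injective_module_of_injective_object A (J.X n)
      obtain ⟨w', hw', N, hN⟩ := exists_div (Ideal.span (s : Set A)) f (J.X n)
        (w : DRing.torsionSub (Ideal.span (s : Set A)) (J.X n)).1
        (w : DRing.torsionSub (Ideal.span (s : Set A)) (J.X n)).2 1
      refine ⟨(⟨w', hw'⟩ : DRing.torsionSub (Ideal.span (s : Set A)) (J.X n)), N, ?_⟩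
      apply Subtype.ext
      rw [pow_one] at hN
      exact hN
    have b2 := wf_Q_ιΓ_span_singleton f ((gammaCx (Ideal.span (s : Set A))).obj J) hdiv E
      (hE f (Finset.mem_insert_self f s))
    have b3 : Function.Bijective (fun u : (Q : _ ⥤ Dual.D A).obj
        ((gammaCx (Ideal.span {f})).obj ((gammaCx (Ideal.span (s : Set A))).obj J)) ⟶ E =>
        Q.map (gammaGammaIso (Ideal.span (s : Set A)) (Ideal.span {f}) J).inv ≫ u) :=
      ⟨fun u₁ u₂ h => (cancel_epi _).1 h,
        fun w => ⟨Q.map (gammaGammaIso (Ideal.span (s : Set A)) (Ideal.span {f}) J).hom ≫ w, by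
          dsimp
          rw [← Category.assoc, ← Functor.map_comp, Iso.inv_hom_id, CategoryTheory.Functor.map_id,
            Category.id_comp]⟩⟩
    have := b3.comp (b2.comp b1)
    convert this using 1
    funext u
    simp only [Function.comp_apply, Functor.map_comp, Category.assoc]

variable (I : Ideal A) [DRing.HasRgammaI I]

/-- `ε_K : RΓ_I K ⟶ K` is inverted by derived completion. -/
lemma bijective_ε_comp (K E : Dual.D A) (hE : DRing.IsDerivedComplete I E) :
    Function.Bijective (fun u : K ⟶ E => (DRing.RgammaIε I).app K ≫ u) := by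
  obtain ⟨s, hs⟩ := (isNoetherianRing_iff_ideal_fg A).1 inferInstance I
  obtain ⟨J, hJ, ⟨e⟩⟩ := exists_fibrant K
  have b1 := bijective_Q_ιΓ_comp J (fun n => injective_X_of_rlp hJ n) s E
    ((isDerivedComplete_iff_orth I s hs E).1 hE)
  rw [hs] at b1
  have h1 : (DRing.RgammaIε I).app K = ((DRing.RgammaI I).map e.hom ≫ (RgammaQIso I J hJ).hom) ≫
      Q.map (ιΓ I J) ≫ e.inv := by
    rw [RgammaIε_app_eq I e, RgammaIε_app_Q I J hJ]
    simp only [Category.assoc]
  rw [h1]
  haveI : IsIso ((DRing.RgammaI I).map e.hom ≫ (RgammaQIso I J hJ).hom) := inferInstance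
  refine ⟨fun u₁ u₂ h => ?_, fun w => ?_⟩
  · dsimp at h
    simp only [Category.assoc] at h
    have h2 := (cancel_epi _).1 h
    have h3 := (cancel_epi _).1 h2
    have h4 := b1.1 h3
    exact (cancel_epi e.inv).1 h4
  · obtain ⟨u, hu⟩ := b1.2 (inv ((DRing.RgammaI I).map e.hom ≫ (RgammaQIso I J hJ).hom) ≫ w)
    refine ⟨e.hom ≫ u, ?_⟩
    dsimp at hu ⊢
    simp only [Category.assoc, Iso.inv_hom_id_assoc]
    rw [hu]
    simp

/-- `(RΓ_I K)^ ≅ K^`. -/
theorem nonempty_completion_RgammaI_iso [DRing.HasDerivedCompletion I] (K : Dual.D A) :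
    Nonempty ((DRing.derivedCompletion I).obj ((DRing.RgammaI I).obj K) ≅
      (DRing.derivedCompletion I).obj K) := by
  haveI := isIso_leftAdjoint_map_of_bijective (DRing.derivedCompletionAdj I)
    ((DRing.RgammaIε I).app K) (fun E => bijective_ε_comp I K E.obj E.property)
  exact ⟨asIso ((DRing.derivedCompletion I).map ((DRing.RgammaIε I).app K))⟩

end Part2

end Groth.Agent.Lib.T2H4.GNoeth
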