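/-
T2H4GrpCohCard: for a finite group G, |G| kills H^{n+1}(G, A) (inhomogeneous cochains homotopy).
-/
import Mathlib

set_option autoImplicit false
universe u
open CategoryTheory groupCohomology

namespace Groth.Agent.Lib.T2H4.GCard

variable {α : Type*} {n : ℕ}

lemma snoc_tail (g : Fin (n + 1) → α) (x : α) :
    (fun i : Fin (n + 1) => (Fin.snoc g x : Fin (n + 2) → α) i.succ) =
      Fin.snoc (fun i : Fin n => g i.succ) x := by
  funext i
  refine Fin.lastCases ?_ (fun i => ?_) i
  · rw [Fin.snoc_last, Fin.succ_last, Fin.snoc_last]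
  · rw [Fin.snoc_castSucc, ← Fin.castSucc_succ, Fin.snoc_castSucc]

lemma contract_last (g : Fin (n + 1) → α) (x : α) (op : α → α → α) :
    Fin.contractNth (Fin.last (n + 1)) op (Fin.snoc g x : Fin (n + 2) → α) = g := by
  funext k
  rw [Fin.contractNth_apply_of_lt _ _ _ _ (by rw [Fin.val_last]; exact k.2), Fin.snoc_castSucc]

lemma contract_castSucc_of_ne (g : Fin (n + 1) → α) (x : α) (op : α → α → α) (j : Fin (n + 1))
    (hj : j ≠ Fin.last n) :
    Fin.contractNth j.castSucc op (Fin.snoc g x : Fin (n + 2) → α) =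
      Fin.snoc (Fin.contractNth j op g) x := by
  have hjn : (j : ℕ) < n := by
    have := j.2
    have h2 : (j : ℕ) ≠ n := fun h => hj (Fin.ext h)
    omega
  funext k
  refine Fin.lastCases ?_ (fun k => ?_) k
  · rw [Fin.snoc_last, Fin.contractNth_apply_of_gt _ _ _ _ (by simpa using hjn), Fin.succ_last,
      Fin.snoc_last]
  · rw [Fin.snoc_castSucc]
    rcases lt_trichotomy (k : ℕ) (j : ℕ) with h | h | h
    · rw [Fin.contractNth_apply_of_lt _ _ _ _ (by simpa using h),
        Fin.contractNth_apply_of_lt _ _ _ _ h, Fin.snoc_castSucc]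
    · rw [Fin.contractNth_apply_of_eq _ _ _ _ (by simpa using h),
        Fin.contractNth_apply_of_eq _ _ _ _ h, Fin.snoc_castSucc, ← Fin.castSucc_succ,
        Fin.snoc_castSucc]
    · rw [Fin.contractNth_apply_of_gt _ _ _ _ (by simpa using h),
        Fin.contractNth_apply_of_gt _ _ _ _ h, ← Fin.castSucc_succ, Fin.snoc_castSucc]

lemma contract_castSucc_last (g : Fin (n + 1) → α) (x : α) (op : α → α → α) :
    Fin.contractNth (Fin.last n).castSucc op (Fin.snoc g x : Fin (n + 2) → α) =
      Fin.snoc (Fin.contractNth (Fin.last n) op g) (op (g (Fin.last n)) x) := by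
  funext k
  refine Fin.lastCases ?_ (fun k => ?_) k
  · rw [Fin.snoc_last, Fin.contractNth_apply_of_eq _ _ _ _ (by simp), Fin.snoc_castSucc,
      Fin.succ_last, Fin.snoc_last]
  · rw [Fin.snoc_castSucc, Fin.contractNth_apply_of_lt _ _ _ _ (by simp),
      Fin.contractNth_apply_of_lt _ _ _ _ (by simp), Fin.snoc_castSucc]

end Groth.Agent.Lib.T2H4.GCard

namespace Groth.Agent.Lib.T2H4.GCard

variable {k G : Type u} [CommRing k] [Group G] [Fintype G] (A : Rep k G)

/-- integrate the last variable -/
noncomputable def avg (n : ℕ) (f : (Fin (n + 1) → G) → A) : (Fin n → G) → A :=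
  fun g => ∑ x : G, f (Fin.snoc g x)

lemma sum_contract (n : ℕ) (f : (Fin (n + 1) → G) → A) (g : Fin (n + 1) → G) (j : Fin (n + 1)) :
    ∑ x : G, f (Fin.contractNth j.castSucc (· * ·) (Fin.snoc g x : Fin (n + 2) → G)) =
      avg A n f (Fin.contractNth j (· * ·) g) := by
  unfold avg
  by_cases hj : j = Fin.last n
  · subst hj
    simp only [contract_castSucc_last]
    exact Fintype.sum_equiv (Equiv.mulLeft (g (Fin.last n))) _ _ (fun x => rfl)
  · simp only [contract_castSucc_of_ne g _ _ j hj]

lemma d_avg (n : ℕ) (f : (Fin (n + 1) → G) → A)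
    (hf : (inhomogeneousCochains.d A (n + 1)).hom f = 0) (g : Fin (n + 1) → G) :
    (inhomogeneousCochains.d A n).hom (avg A n f) g +
      Fintype.card G • ((-1 : k) ^ (n + 2) • f g) = 0 := by
  have H : ∀ x : G, (inhomogeneousCochains.d A (n + 1)).hom f (Fin.snoc g x) = 0 := by
    intro x
    rw [hf]
    rfl
  have e1 : ∀ x : G, (inhomogeneousCochains.d A (n + 1)).hom f (Fin.snoc g x) =
      A.ρ (g 0) (f (Fin.snoc (fun i : Fin n => g i.succ) x)) +
        (∑ j : Fin (n + 1), (-1 : k) ^ ((j : ℕ) + 1) •
            f (Fin.contractNth j.castSucc (· * ·) (Fin.snoc g x : Fin (n + 2) → G)) +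
          (-1 : k) ^ (n + 2) • f g) := by
    intro x
    rw [inhomogeneousCochains.d_hom_apply, Fin.sum_univ_castSucc, snoc_tail, contract_last]
    have h0 : (Fin.snoc g x : Fin (n + 2) → G) 0 = g 0 := by
      rw [← Fin.castSucc_zero, Fin.snoc_castSucc]
    rw [h0]
    rfl
  have H2 : ∑ x : G, (inhomogeneousCochains.d A (n + 1)).hom f (Fin.snoc g x) = 0 :=
    Finset.sum_eq_zero (fun x _ => H x)
  rw [← H2]
  simp only [e1, Finset.sum_add_distrib]
  rw [inhomogeneousCochains.d_hom_apply, add_assoc]
  congr 1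
  · rw [← map_sum]
    rfl
  · congr 1
    · rw [Finset.sum_comm]
      refine Finset.sum_congr rfl (fun j _ => ?_)
      rw [← Finset.smul_sum, sum_contract]
    · rw [Finset.sum_const, Finset.card_univ]

end Groth.Agent.Lib.T2H4.GCard

namespace Groth.Agent.Lib.T2H4.GCard

variable {k G : Type u} [CommRing k] [Group G] [Fintype G] (A : Rep k G)

theorem card_nsmul_eq_zero (n : ℕ) (x : groupCohomology A (n + 1)) : Fintype.card G • x = 0 := by
  induction x using groupCohomology_induction_on with
  | h z =>
    set f : (Fin (n + 1) → G) → A := iCocycles A (n + 1) z with hfdef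
    have hf : (inhomogeneousCochains.d A (n + 1)).hom f = 0 := by
      have h1 : (iCocycles A (n + 1) ≫ (inhomogeneousCochains A).d (n + 1) (n + 2)) z = 0 := by
        rw [HomologicalComplex.iCycles_d]
        rfl
      rw [inhomogeneousCochains.d_def] at h1
      exact h1
    let v : (inhomogeneousCochains A).X n := (-1 : k) ^ (n + 1) • avg A n f
    have hv : (inhomogeneousCochains.d A n).hom v = Fintype.card G • f := by
      funext g
      have h2 := d_avg A n f hf g
      have h3 : (inhomogeneousCochains.d A n).hom v g =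
          (-1 : k) ^ (n + 1) • (inhomogeneousCochains.d A n).hom (avg A n f) g := by
        rw [map_smul]
        rfl
      rw [h3, eq_neg_of_add_eq_zero_left h2]
      change _ = Fintype.card G • f g
      have hs : ((-1 : k)) ^ (n + 1) * (-1) ^ (n + 2) = -1 := by
        rw [← pow_add]
        have : n + 1 + (n + 2) = 2 * (n + 1) + 1 := by ring
        rw [this, pow_succ, pow_mul]
        simp
      rw [smul_neg, smul_comm _ (Fintype.card G) _, smul_smul, hs, ← smul_neg, neg_smul, one_smul,
        neg_neg]
    have hz : toCocycles A n (n + 1) v = Fintype.card G • z := by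
      apply (ModuleCat.mono_iff_injective (iCocycles A (n + 1))).1 inferInstance
      rw [map_nsmul, ← hfdef, ← hv]
      have h4 : (toCocycles A n (n + 1) ≫ iCocycles A (n + 1)) v =
          ((inhomogeneousCochains A).d n (n + 1)) v := by
        rw [HomologicalComplex.toCycles_i]
      rw [inhomogeneousCochains.d_def] at h4
      exact h4
    rw [← map_nsmul, ← hz]
    have h5 : toCocycles A n (n + 1) ≫ π A (n + 1) = 0 :=
      HomologicalComplex.toCycles_comp_homologyπ _ _ _
    have h6 : (toCocycles A n (n + 1) ≫ π A (n + 1)) v = 0 := by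
      rw [h5]
      rfl
    exact h6

end Groth.Agent.Lib.T2H4.GCard
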