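/-
T2H4GrpCohLES: vanishing of H^{n+1}(G,A) when |G| acts invertibly on A; kernel subrepresentation,
short exact sequence and bijectivity from the long exact sequence; Hensel N-th roots of 1-units.
-/
import Mathlib
import Groth.Agent.Lib.T2H4GrpCohCard

set_option autoImplicit false
universe u
open CategoryTheory groupCohomology

namespace Groth.Agent.Lib.T2H4.GCard


variable {k G : Type u} [CommRing k] [Group G]

lemma functor_map_nsmul {A B : Rep k G} (φ : A ⟶ B) (N n : ℕ) :
    (functor k G n).map (N • φ) = N • (functor k G n).map φ := by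
  have h : ∀ ψ : A ⟶ B, (functor k G n).map ψ =
      (HomologicalComplex.homologyFunctor (ModuleCat k) _ n).map ((cochainsFunctor k G).map ψ) :=
    fun ψ => rfl
  rw [h, h, Functor.map_nsmul, Functor.map_nsmul]
  rfl

theorem isZero_of_isIso [Fintype G] (A : Rep k G) (h : IsIso (Fintype.card G • 𝟙 A)) (n : ℕ) :
    Limits.IsZero (groupCohomology A (n + 1)) := by
  have h1 : IsIso ((functor k G (n + 1)).map (Fintype.card G • 𝟙 A)) := inferInstance
  rw [functor_map_nsmul, CategoryTheory.Functor.map_id] at h1
  have h2 : Fintype.card G • 𝟙 ((functor k G (n + 1)).obj A) = 0 := by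
    apply ModuleCat.hom_ext
    apply LinearMap.ext
    intro x
    exact card_nsmul_eq_zero A n x
  rw [h2] at h1
  exact ((Limits.isIsoZero_iff_source_target_isZero _ _).1 h1).1


end Groth.Agent.Lib.T2H4.GCard

namespace Groth.Agent.Lib.T2H4.GCard
open Polynomial IsLocalRing


variable {R : Type*} [CommRing R] [HenselianLocalRing R]

lemma isUnit_natCast (N : ℕ) (hN : (N : ResidueField R) ≠ 0) : IsUnit (N : R) := by
  by_contra h
  have : (N : R) ∈ maximalIdeal R := (mem_maximalIdeal _).2 h
  apply hN
  have h2 := (residue_eq_zero_iff (N : R)).2 this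
  rwa [map_natCast] at h2

lemma exists_root (N : ℕ) (hN0 : 0 < N) (hN : (N : ResidueField R) ≠ 0) (u : R)
    (hu : u - 1 ∈ maximalIdeal R) : ∃ a : R, a ^ N = u ∧ a - 1 ∈ maximalIdeal R := by
  have hmonic : (X ^ N - C u : R[X]).Monic := monic_X_pow_sub_C u hN0.ne'
  obtain ⟨a, ha, ha1⟩ := HenselianLocalRing.is_henselian (X ^ N - C u : R[X]) hmonic 1 (by
      simp only [eval_sub, eval_pow, eval_X, one_pow, eval_C]
      have : (1 : R) - u = -(u - 1) := by ring
      rw [this]
      exact neg_mem hu) (by
      simp only [derivative_sub, derivative_X_pow, derivative_C, sub_zero, eval_mul, eval_pow,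
        eval_X, one_pow, mul_one, eval_C]
      simpa using isUnit_natCast N hN)
  refine ⟨a, ?_, ha1⟩
  simpa [IsRoot, sub_eq_zero] using ha

lemma eq_one_of_pow (N : ℕ) (hN : (N : ResidueField R) ≠ 0) (u : R)
    (hu : u - 1 ∈ maximalIdeal R) (h : u ^ N = 1) : u = 1 := by
  have h1 : (∑ i ∈ Finset.range N, u ^ i) * (u - 1) = 0 := by
    rw [geom_sum_mul, h, sub_self]
  have h2 : IsUnit (∑ i ∈ Finset.range N, u ^ i) := by
    by_contra hc
    have hm : (∑ i ∈ Finset.range N, u ^ i) ∈ maximalIdeal R := (mem_maximalIdeal _).2 hc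
    have h3 := (residue_eq_zero_iff _).2 hm
    have hu1 : residue R u = 1 := by
      have := (residue_eq_zero_iff _).2 hu
      rw [map_sub, map_one, sub_eq_zero] at this
      exact this
    rw [map_sum] at h3
    simp only [map_pow, hu1, one_pow, Finset.sum_const, Finset.card_range, nsmul_eq_mul,
      mul_one] at h3
    exact hN h3
  have := h2.mul_right_eq_zero.1 h1
  exact sub_eq_zero.1 this


end Groth.Agent.Lib.T2H4.GCard

namespace Groth.Agent.Lib.T2H4.GCard


section general
variable {k G : Type u} [CommRing k] [Group G] {A B : Rep k G} (φ : A ⟶ B)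

/-- the kernel sub-representation -/
noncomputable abbrev kerW : Submodule k A := LinearMap.ker φ.hom.toLinearMap

lemma kerW_le_comap (g : G) : kerW φ ≤ (kerW φ).comap (A.ρ g) := by
  intro x hx
  rw [Submodule.mem_comap, LinearMap.mem_ker]
  rw [LinearMap.mem_ker] at hx
  have := Rep.hom_comm_apply φ g x
  change φ.hom (A.ρ g x) = 0
  rw [this]
  change φ.hom x = 0 at hx
  rw [hx, map_zero]

noncomputable abbrev kerRep : Rep k G := A.subrepresentation (kerW φ) (kerW_le_comap φ)

noncomputable abbrev kerι : kerRep φ ⟶ A := A.subtype (kerW φ) (kerW_le_comap φ)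

lemma kerι_comp : kerι φ ≫ φ = 0 := by
  apply Rep.hom_ext
  apply Representation.IntertwiningMap.ext
  apply LinearMap.ext
  intro x
  exact x.2

noncomputable def kerSC : ShortComplex (Rep k G) := ShortComplex.mk (kerι φ) φ (kerι_comp φ)

lemma kerSC_shortExact (hφ : Function.Surjective φ.hom) : (kerSC φ).ShortExact := by
  have hm : Mono (kerι φ) := by
    rw [Rep.mono_iff_injective]
    intro x y h
    exact Subtype.ext h
  have he : Epi φ := (Rep.epi_iff_surjective φ).2 hφ
  refine ShortComplex.ShortExact.mk' ?_ hm he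
  rw [← ShortComplex.exact_map_iff_of_faithful _ (forget₂ (Rep k G) (ModuleCat k))]
  rw [ShortComplex.moduleCat_exact_iff]
  intro x hx
  exact ⟨⟨x, hx⟩, rfl⟩

theorem bijective_of_isZero (hφ : Function.Surjective φ.hom) (n : ℕ)
    (h0 : Limits.IsZero (groupCohomology (kerRep φ) n))
    (h1 : Limits.IsZero (groupCohomology (kerRep φ) (n + 1))) :
    Function.Bijective ((functor k G n).map φ).hom := by
  have hX := kerSC_shortExact φ hφ
  have hS := map_cochainsFunctor_shortExact hX
  have e3 := hS.homology_exact₃ n (n + 1) rfl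
  have e2 := hS.homology_exact₂ n
  have hepi : Epi (HomologicalComplex.homologyMap ((kerSC φ).map (cochainsFunctor k G)).g n) :=
    e3.epi_f (Limits.IsZero.eq_of_tgt h1 _ _)
  have hmono : Mono (HomologicalComplex.homologyMap ((kerSC φ).map (cochainsFunctor k G)).g n) :=
    e2.mono_g (Limits.IsZero.eq_of_src h0 _ _)
  exact ⟨(ModuleCat.mono_iff_injective _).1 hmono, (ModuleCat.epi_iff_surjective _).1 hepi⟩

end general


end Groth.Agent.Lib.T2H4.GCard
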