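import Mathlib
import Groth.Prelude.Def_Cyc
set_option backward.isDefEq.respectTransparency.types false

/-!
# Relative effective Cartier divisors: commutative algebra (helper4)

Namespace `Groth.Agent.Lib.T2H4.GysinFlat`.

* `isSMulRegular_quotient_map_of_flat_of_surjective`: if `a ∈ B` is regular, `B/(a)` is flat over `A`,
  then `a` is regular on `B/JB` for every ideal `J` of `A`.
* `length_quot_map_of_surjective`: `ℓ_C(C/IC) = ℓ_B(B/(I + ker))` for a surjection `B → C`.
-/

set_option autoImplicit false
set_option linter.style.haveILetI false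
universe u
open CategoryTheory CategoryTheory.Limits AlgebraicGeometry TopologicalSpace Opposite TensorProduct

namespace Groth.Agent.Lib.T2H4.GysinFlat

/-- if `a ∈ B` is a nonzerodivisor and `C = B/(a)` is flat over `A`, then `a` is a nonzerodivisor on
`B/JB` for every ideal `J` of `A` -/
theorem isSMulRegular_quotient_map_of_flat_of_surjective {A B C : Type u} [CommRing A]
    [CommRing B] [CommRing C] [Algebra A B] [Algebra A C] [Algebra B C] [IsScalarTower A B C]
    (hσ : Function.Surjective (algebraMap B C)) (a : B)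
    (hker : RingHom.ker (algebraMap B C) = Ideal.span {a}) (ha : IsSMulRegular B a)
    [Module.Flat A C] (J : Ideal A) :
    IsSMulRegular (B ⧸ J.map (algebraMap A B)) a := by
  let g : B →ₗ[A] B := LinearMap.mulLeft A a
  let f : B →ₗ[A] C := (IsScalarTower.toAlgHom A B C).toLinearMap
  have hf : Function.Surjective f := hσ
  have hg : Function.Injective g := fun x y hxy => ha hxy
  have hex : Function.Exact g f := by
    intro b
    constructor
    · intro hb
      have h1 : b ∈ RingHom.ker (algebraMap B C) := hb
      rw [hker, Ideal.mem_span_singleton'] at h1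
      obtain ⟨c, hc⟩ := h1
      exact ⟨c, by change a * c = b; rw [mul_comm]; exact hc⟩
    · rintro ⟨c, rfl⟩
      change algebraMap B C (a * c) = 0
      have h1 : a ∈ RingHom.ker (algebraMap B C) := by
        rw [hker]
        exact Ideal.mem_span_singleton_self a
      rw [map_mul, (RingHom.mem_ker).1 h1, zero_mul]
  have h1 : Function.Injective (g.lTensor (A ⧸ J)) :=
    LinearMap.lTensor_injective_of_exact_of_flat f hf g hg hex (A ⧸ J)
  have h2 : Function.Injective (g.rTensor (A ⧸ J)) := (LinearMap.lTensor_inj_iff_rTensor_inj (A ⧸ J) g).1 h1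
  have h3 : ∀ t : B ⊗[A] (A ⧸ J), a • t = g.rTensor (A ⧸ J) t := by
    intro t
    induction t using TensorProduct.induction_on with
    | zero => simp
    | tmul x y =>
      rw [LinearMap.rTensor_tmul, TensorProduct.smul_tmul']
      rfl
    | add x y hx hy => rw [smul_add, map_add, hx, hy]
  let e := Algebra.TensorProduct.quotIdealMapEquivTensorQuot B J
  intro z w hzw
  have h4 : a • z = a • w := hzw
  have h5 : a • e z = a • e w := by
    rw [← map_smul, ← map_smul, h4]
  rw [h3, h3] at h5
  exact e.injective (h2 h5)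

/-- `ℓ_C(C/IC) = ℓ_B(B/(I + ker))` for a surjective ring homomorphism `B → C` -/
theorem length_quot_map_of_surjective {B C : Type u} [CommRing B] [CommRing C] (σ : B →+* C)
    (hσ : Function.Surjective σ) (I : Ideal B) :
    Module.length C (C ⧸ I.map σ) = Module.length B (B ⧸ (I ⊔ RingHom.ker σ)) := by
  let τ : B →+* C ⧸ I.map σ := (Ideal.Quotient.mk (I.map σ)).comp σ
  have hτ : Function.Surjective τ := Ideal.Quotient.mk_surjective.comp hσ
  have hker : RingHom.ker τ = I ⊔ RingHom.ker σ := by
    change RingHom.ker ((Ideal.Quotient.mk (I.map σ)).comp σ) = _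
    rw [← RingHom.comap_ker, Ideal.mk_ker, Ideal.comap_map_of_surjective σ hσ]
    rfl
  -- `ℓ_C(C/IC) = ℓ_{C/IC}(C/IC)`
  have h1 : Module.length C (C ⧸ I.map σ) = Module.length (C ⧸ I.map σ) (C ⧸ I.map σ) :=
    Module.length_eq_of_surjective Ideal.Quotient.mk_surjective
  -- `ℓ_B(C/IC) = ℓ_{C/IC}(C/IC)` via `τ`
  letI : Algebra B (C ⧸ I.map σ) := τ.toAlgebra
  have h2 : Module.length B (C ⧸ I.map σ) = Module.length (C ⧸ I.map σ) (C ⧸ I.map σ) :=
    Module.length_eq_of_surjective hτ
  -- `B/ker τ ≃ C/IC` as `B`-modules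
  let e : (B ⧸ RingHom.ker τ) ≃ₗ[B] (C ⧸ I.map σ) :=
    { (RingHom.quotientKerEquivOfSurjective hτ).toAddEquiv with
      map_smul' := fun r m => by
        obtain ⟨b, rfl⟩ := Ideal.Quotient.mk_surjective m
        change (RingHom.quotientKerEquivOfSurjective hτ) (r • Ideal.Quotient.mk _ b) =
          τ r * (RingHom.quotientKerEquivOfSurjective hτ) (Ideal.Quotient.mk _ b)
        have h1 : r • (Ideal.Quotient.mk (RingHom.ker τ)) b =
            (Ideal.Quotient.mk _) r * (Ideal.Quotient.mk _) b := rfl
        rw [h1, map_mul]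
        rfl }
  rw [h1, ← h2, ← e.length_eq, hker]

end Groth.Agent.Lib.T2H4.GysinFlat
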