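import Mathlib
import Groth.Agent.S1833
import Groth.Agent.Lib.Helper5SuppDim
import Groth.Agent.Lib.T2H4LenMinPrimesA
set_option backward.isDefEq.respectTransparency.types false

/-!
# The length of `M/bM` as a sum over the non-maximal primes (helper4)

For a Noetherian local ring `R`, a finite `R`-module `M` with support of dimension at most one and
an `M`-regular element `b`:
`length R (M/bM) = Σ_{p ≠ m} length_{R_p}(M_p) · ord_{R/p}(b)` as integers (from `S1833`).

Namespace `Groth.Agent.Lib.T2H4.LenMinPrimes`.
-/

set_option autoImplicit false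
set_option linter.style.haveILetI false
universe u
open Pointwise

namespace Groth.Agent.Lib.T2H4.LenMinPrimes

variable {R : Type u} [CommRing R] [IsNoetherianRing R] [IsLocalRing R]
  (M : Type u) [AddCommGroup M] [Module R M] [Module.Finite R M]

omit [IsNoetherianRing R] [Module.Finite R M] in
/-- a non-maximal prime of the support of a module of dimension at most one is minimal in the
support -/
theorem eq_of_le_of_mem_support (h1 : Module.supportDim R M ≤ 1) (q : PrimeSpectrum R)
    (hqZ : q ∈ Module.support R M) (hqm : q.asIdeal ≠ IsLocalRing.maximalIdeal R)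
    (q' : PrimeSpectrum R) (hq'Z : q' ∈ Module.support R M) (hle : q' ≤ q) : q' = q := by
  by_contra hne
  have hlt : q' < q := lt_of_le_of_ne hle hne
  have hqle : q ≤ IsLocalRing.closedPoint R := IsLocalRing.le_maximalIdeal q.2.ne_top
  have hqlt : q < IsLocalRing.closedPoint R := by
    refine lt_of_le_of_ne hqle (fun h => hqm ?_)
    rw [h]; rfl
  have hmZ : IsLocalRing.closedPoint R ∈ Module.support R M := Module.mem_support_mono hqle hqZ
  let s : LTSeries (Module.support R M) :=
    LTSeries.mk 2 ![⟨q', hq'Z⟩, ⟨q, hqZ⟩, ⟨IsLocalRing.closedPoint R, hmZ⟩] (by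
      rw [Fin.strictMono_iff_lt_succ]
      intro i
      fin_cases i
      · exact hlt
      · exact hqlt)
  have hs := Order.LTSeries.length_le_krullDim s
  have hlen : s.length = 2 := rfl
  unfold Module.supportDim at h1
  rw [hlen] at hs
  have h21 : ((2 : ℕ) : WithBot ℕ∞) ≤ 1 := hs.trans h1
  exact absurd h21 (by decide)

theorem finite_support_ne_maximalIdeal (h1 : Module.supportDim R M ≤ 1) :
    {q : PrimeSpectrum R | q ∈ Module.support R M ∧
      q.asIdeal ≠ IsLocalRing.maximalIdeal R}.Finite := by
  have hmin := Ideal.finite_minimalPrimes_of_isNoetherianRing R (Module.annihilator R M)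
  have hpre : {p : PrimeSpectrum R | p.asIdeal ∈ (Module.annihilator R M).minimalPrimes}.Finite :=
    Set.Finite.preimage (fun a _ b _ h => PrimeSpectrum.ext h) hmin
  refine hpre.subset ?_
  intro q hq
  refine ⟨⟨q.2, Module.annihilator_le_of_mem_support hq.1⟩, ?_⟩
  rintro p' ⟨hp'prime, hp'ann⟩ hp'le
  have hp'Z : (⟨p', hp'prime⟩ : PrimeSpectrum R) ∈ Module.support R M := by
    rw [Module.mem_support_iff_of_finite]
    exact hp'ann
  have := eq_of_le_of_mem_support M h1 q hq.1 hq.2 ⟨p', hp'prime⟩ hp'Z hp'le
  rw [← this]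

omit [IsNoetherianRing R] in
/-- a non-maximal prime of the support is a minimal prime over the annihilator -/
theorem mem_minimalPrimes_annihilator (h1 : Module.supportDim R M ≤ 1) (q : PrimeSpectrum R)
    (hqZ : q ∈ Module.support R M) (hqm : q.asIdeal ≠ IsLocalRing.maximalIdeal R) :
    q.asIdeal ∈ (Module.annihilator R M).minimalPrimes := by
  refine ⟨⟨q.2, Module.annihilator_le_of_mem_support hqZ⟩, ?_⟩
  rintro p' ⟨hp'prime, hp'ann⟩ hp'le
  have hp'Z : (⟨p', hp'prime⟩ : PrimeSpectrum R) ∈ Module.support R M := by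
    rw [Module.mem_support_iff_of_finite]
    exact hp'ann
  have := eq_of_le_of_mem_support M h1 q hqZ hqm ⟨p', hp'prime⟩ hp'Z hp'le
  rw [← this]

/-- a regular element lies in no non-maximal prime of the support -/
theorem notMem_of_isSMulRegular (h1 : Module.supportDim R M ≤ 1) (b : R) (hb : IsSMulRegular M b)
    (q : PrimeSpectrum R) (hqZ : q ∈ Module.support R M)
    (hqm : q.asIdeal ≠ IsLocalRing.maximalIdeal R) : b ∉ q.asIdeal := by
  intro hbq
  have hass : q.asIdeal ∈ associatedPrimes R M :=
    Module.associatedPrimes.minimalPrimes_annihilator_subset_associatedPrimes R M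
      (mem_minimalPrimes_annihilator M h1 q hqZ hqm)
  have h2 : b ∈ ⋃ p ∈ associatedPrimes R M, (p : Set R) :=
    Set.mem_iUnion₂.mpr ⟨q.asIdeal, hass, hbq⟩
  rw [biUnion_associatedPrimes_eq_compl_regular] at h2
  exact h2 hb

omit [IsLocalRing R] in
/-- the localization of `M` at a prime minimal in its support has finite length -/
theorem length_localizedModule_ne_top (p : PrimeSpectrum R)
    (hmin : ∀ q ∈ Module.support R M, q ≤ p → q = p) :
    Module.length (Localization.AtPrime p.asIdeal) (LocalizedModule p.asIdeal.primeCompl M) ≠ ⊤ := by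
  rw [Module.length_ne_top_iff]
  apply Groth.Agent.Lib.Helper5.isFiniteLength_of_supportDim_le_zero
  apply Groth.Agent.Lib.Helper5.supportDim_le_zero_of_forall_isMaximal
  intro q hq
  have hann : ∀ a ∈ Module.annihilator R M,
      algebraMap R (Localization.AtPrime p.asIdeal) a ∈ q.asIdeal := by
    intro a ha
    apply Module.annihilator_le_of_mem_support hq
    rw [Module.mem_annihilator]
    intro z
    induction z using LocalizedModule.induction_on with
    | h m s =>
      rw [algebraMap_smul, LocalizedModule.smul'_mk, Module.mem_annihilator.1 ha m,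
        LocalizedModule.zero_mk]
  set q' : PrimeSpectrum R := PrimeSpectrum.comap (algebraMap R (Localization.AtPrime p.asIdeal)) q
    with hq'
  have hq'Z : q' ∈ Module.support R M := by
    rw [Module.mem_support_iff_of_finite]
    intro a ha
    exact hann a ha
  have hqle : q.asIdeal ≤ IsLocalRing.maximalIdeal (Localization.AtPrime p.asIdeal) :=
    IsLocalRing.le_maximalIdeal q.2.ne_top
  have hq'le : q' ≤ p := by
    intro a ha
    have h2 : algebraMap R (Localization.AtPrime p.asIdeal) a ∈
        IsLocalRing.maximalIdeal (Localization.AtPrime p.asIdeal) := hqle ha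
    have h3 := IsLocalization.AtPrime.under_maximalIdeal (Localization.AtPrime p.asIdeal) p.asIdeal
    rw [← h3]
    exact h2
  have hq'p := hmin q' hq'Z hq'le
  have h4 : q.asIdeal = Ideal.map (algebraMap R (Localization.AtPrime p.asIdeal)) p.asIdeal := by
    have h5 : q'.asIdeal = p.asIdeal := congrArg PrimeSpectrum.asIdeal hq'p
    have h6 := (IsLocalization.map_under p.asIdeal.primeCompl (Localization.AtPrime p.asIdeal)
      q.asIdeal).symm
    refine h6.trans ?_
    exact congrArg (Ideal.map (algebraMap R (Localization.AtPrime p.asIdeal))) h5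
  rw [h4, IsLocalization.AtPrime.map_eq_maximalIdeal]
  infer_instance

theorem ord_ne_top_of_mem_support (h1 : Module.supportDim R M ≤ 1) (b : R)
    (hb : IsSMulRegular M b) (q : PrimeSpectrum R) (hqZ : q ∈ Module.support R M)
    (hqm : q.asIdeal ≠ IsLocalRing.maximalIdeal R) :
    Ring.ord (R ⧸ q.asIdeal) (Ideal.Quotient.mk q.asIdeal b) ≠ ⊤ := by
  have hdimq : ringKrullDim (R ⧸ q.asIdeal) ≤ 1 := by
    have h2 : Module.supportDim R (R ⧸ q.asIdeal) ≤ Module.supportDim R M := by
      unfold Module.supportDim
      refine Order.krullDim_le_of_strictMono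
        (fun z : Module.support R (R ⧸ q.asIdeal) => (⟨z.1, ?_⟩ : Module.support R M))
        (fun a b hab => hab)
      have hz : z.1 ∈ PrimeSpectrum.zeroLocus (q.asIdeal : Set R) := by
        have h3 : Module.support R (R ⧸ q.asIdeal) = PrimeSpectrum.zeroLocus (q.asIdeal : Set R) := by
          rw [Module.support_eq_zeroLocus, Ideal.annihilator_quotient]
        rw [← h3]
        exact z.2
      rw [PrimeSpectrum.mem_zeroLocus] at hz
      exact Module.mem_support_mono (show q ≤ z.1 from hz) hqZ
    rw [Module.supportDim_quotient_eq_ringKrullDim] at h2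
    exact h2.trans h1
  have : Ring.KrullDimLE 1 (R ⧸ q.asIdeal) := Ring.krullDimLE_iff.mpr hdimq
  have hb' : Ideal.Quotient.mk q.asIdeal b ≠ 0 := by
    rw [Ne, Ideal.Quotient.eq_zero_iff_mem]
    exact notMem_of_isSMulRegular M h1 b hb q hqZ hqm
  exact Ring.ord_ne_top (mem_nonZeroDivisors_of_ne_zero hb')

/-- **the length of `M/bM` as a sum over the non-maximal primes** -/
theorem length_quot_smul_eq_finsum (h1 : Module.supportDim R M ≤ 1) (b : R)
    (hb : IsSMulRegular M b) :
    Module.length R (M ⧸ b • (⊤ : Submodule R M)) ≠ ⊤ ∧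
    ((Module.length R (M ⧸ b • (⊤ : Submodule R M))).toNat : ℤ) =
      ∑ᶠ p : PrimeSpectrum R, if p.asIdeal ≠ IsLocalRing.maximalIdeal R then
        ((Module.length (Localization.AtPrime p.asIdeal)
          (LocalizedModule p.asIdeal.primeCompl M)).toNat : ℤ) *
          ((Ring.ord (R ⧸ p.asIdeal) (Ideal.Quotient.mk p.asIdeal b)).toNat : ℤ) else 0 := by
  classical
  have h0 : Module.supportDim R (M ⧸ b • (⊤ : Submodule R M)) ≤ 0 := by
    apply Groth.Agent.Lib.Helper5.supportDim_le_zero_of_forall_isMaximal
    intro p hp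
    have hbp : b ∈ p.asIdeal := by
      apply Module.annihilator_le_of_mem_support hp
      rw [Module.mem_annihilator]
      intro x
      obtain ⟨y, rfl⟩ := Submodule.Quotient.mk_surjective _ x
      rw [← Submodule.Quotient.mk_smul, Submodule.Quotient.mk_eq_zero]
      exact Submodule.smul_mem_pointwise_smul y b ⊤ trivial
    have hpZ : p ∈ Module.support R M :=
      Module.support_subset_of_surjective _ (Submodule.mkQ_surjective _) hp
    have hpm : p.asIdeal = IsLocalRing.maximalIdeal R := by
      by_contra hne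
      exact notMem_of_isSMulRegular M h1 b hb p hpZ hne hbp
    rw [hpm]
    infer_instance
  have res := Groth.Agent.S1833.result R M b h1 h0
  have hker : LinearMap.ker (LinearMap.lsmul R M b) = ⊥ := LinearMap.ker_eq_bot.mpr hb
  rw [hker, Module.length_bot, zero_add] at res
  obtain ⟨F, hF⟩ : ∃ F : Finset (PrimeSpectrum R),
      ∀ p, p ∈ F ↔ p ∈ Module.support R M ∧ p.asIdeal ≠ IsLocalRing.maximalIdeal R :=
    ⟨(finite_support_ne_maximalIdeal M h1).toFinset, fun p => by simp⟩
  have hset : {p : PrimeSpectrum R | p ∈ Module.support R M ∧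
      p.asIdeal ≠ IsLocalRing.maximalIdeal R} = (F : Set (PrimeSpectrum R)) := by
    ext p
    rw [Set.mem_ofPred_eq, Finset.mem_coe, hF]
  have hsum : (∑ᶠ (p : PrimeSpectrum R) (_ : p ∈ Module.support R M ∧
      p.asIdeal ≠ IsLocalRing.maximalIdeal R),
        Ring.ord (R ⧸ p.asIdeal) (Ideal.Quotient.mk p.asIdeal b) *
          Module.length (Localization.AtPrime p.asIdeal)
            (LocalizedModule p.asIdeal.primeCompl M)) =
      ∑ p ∈ F, Ring.ord (R ⧸ p.asIdeal) (Ideal.Quotient.mk p.asIdeal b) *
          Module.length (Localization.AtPrime p.asIdeal)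
            (LocalizedModule p.asIdeal.primeCompl M) := by
    have h2 : (∑ᶠ (p : PrimeSpectrum R) (_ : p ∈ Module.support R M ∧
        p.asIdeal ≠ IsLocalRing.maximalIdeal R),
          Ring.ord (R ⧸ p.asIdeal) (Ideal.Quotient.mk p.asIdeal b) *
            Module.length (Localization.AtPrime p.asIdeal)
              (LocalizedModule p.asIdeal.primeCompl M)) =
        ∑ᶠ p ∈ {p : PrimeSpectrum R | p ∈ Module.support R M ∧
          p.asIdeal ≠ IsLocalRing.maximalIdeal R},
            Ring.ord (R ⧸ p.asIdeal) (Ideal.Quotient.mk p.asIdeal b) *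
              Module.length (Localization.AtPrime p.asIdeal)
                (LocalizedModule p.asIdeal.primeCompl M) := rfl
    rw [h2, hset, finsum_mem_coe_finset]
  rw [hsum] at res
  have hμ : ∀ p ∈ F, Module.length (Localization.AtPrime p.asIdeal)
      (LocalizedModule p.asIdeal.primeCompl M) ≠ ⊤ := fun p hp =>
    length_localizedModule_ne_top M p (fun q hq hle =>
      eq_of_le_of_mem_support M h1 p ((hF p).1 hp).1 ((hF p).1 hp).2 q hq hle)
  have ho : ∀ p ∈ F, Ring.ord (R ⧸ p.asIdeal) (Ideal.Quotient.mk p.asIdeal b) ≠ ⊤ := fun p hp =>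
    ord_ne_top_of_mem_support M h1 b hb p ((hF p).1 hp).1 ((hF p).1 hp).2
  have hterm : ∀ p ∈ F, Ring.ord (R ⧸ p.asIdeal) (Ideal.Quotient.mk p.asIdeal b) *
      Module.length (Localization.AtPrime p.asIdeal)
        (LocalizedModule p.asIdeal.primeCompl M) ≠ ⊤ := fun p hp =>
    WithTop.mul_ne_top (ho p hp) (hμ p hp)
  refine ⟨by rw [res]; exact ENat.sum_ne_top.mpr hterm, ?_⟩
  rw [res, ENat.toNat_sum hterm]
  push_cast
  have hfs : (∑ᶠ p : PrimeSpectrum R, if p.asIdeal ≠ IsLocalRing.maximalIdeal R then
        ((Module.length (Localization.AtPrime p.asIdeal)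
          (LocalizedModule p.asIdeal.primeCompl M)).toNat : ℤ) *
          ((Ring.ord (R ⧸ p.asIdeal) (Ideal.Quotient.mk p.asIdeal b)).toNat : ℤ) else 0) =
      ∑ p ∈ F, ((Module.length (Localization.AtPrime p.asIdeal)
          (LocalizedModule p.asIdeal.primeCompl M)).toNat : ℤ) *
          ((Ring.ord (R ⧸ p.asIdeal) (Ideal.Quotient.mk p.asIdeal b)).toNat : ℤ) := by
    rw [finsum_eq_sum_of_support_subset (s := F)]
    · refine Finset.sum_congr rfl fun p hp => ?_
      rw [if_pos ((hF p).1 hp).2]
    · intro p hp
      rw [Function.mem_support] at hp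
      rw [Finset.mem_coe, hF]
      by_cases hpm : p.asIdeal ≠ IsLocalRing.maximalIdeal R
      · refine ⟨?_, hpm⟩
        rw [if_pos hpm] at hp
        by_contra hns
        apply hp
        have : Subsingleton (LocalizedModule p.asIdeal.primeCompl M) := by
          rw [Module.notMem_support_iff] at hns
          exact hns
        rw [Module.length_eq_zero]
        simp
      · rw [if_neg hpm] at hp
        exact absurd rfl hp
  rw [hfs]
  refine Finset.sum_congr rfl fun p _ => ?_
  rw [ENat.toNat_mul]
  push_cast
  rw [mul_comm]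

end Groth.Agent.Lib.T2H4.LenMinPrimes
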