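import Mathlib
import Groth.Prelude.Def_Cyc
import Groth.Agent.Lib.T2H4LenMinPrimesB
import Groth.Agent.Lib.T2H4LenMinPrimesC
set_option backward.isDefEq.respectTransparency.types false

/-!
# The length formula for modules over the local ring of a scheme (helper4)

Namespace `Groth.Agent.Lib.T2H4.LenMinPrimes`.

* `length_eq_of_isLocalizedModule`: two localizations of a module at the same submonoid, over
  possibly different models of the localized ring, have the same length;
* `length_localizedModule_quotient`: `length_{R_p}((R/I)_p) = length_S(S/IS)` for `S` a localization;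
* `length_quot_smul_eq_finsum_specializes`: the module version of the length formula at a point;
* `length_quot_ideal_eq_finsum_specializes`: the case `M = O_x/I`.
-/

set_option autoImplicit false
set_option linter.style.haveILetI false
universe u
open CategoryTheory AlgebraicGeometry TopologicalSpace Pointwise

namespace Groth.Agent.Lib.T2H4.LenMinPrimes

section Alg

variable {R : Type*} [CommRing R] (p : Submonoid R) (A S : Type*) [CommRing A] [CommRing S]
  [Algebra R A] [Algebra R S] [IsLocalization p A] [IsLocalization p S]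
  {M N₁ N₂ : Type*} [AddCommGroup M] [AddCommGroup N₁] [AddCommGroup N₂] [Module R M]
  [Module R N₁] [Module R N₂] [Module A N₁] [Module S N₂] [IsScalarTower R A N₁]
  [IsScalarTower R S N₂] (f₁ : M →ₗ[R] N₁) (f₂ : M →ₗ[R] N₂) [IsLocalizedModule p f₁]
  [IsLocalizedModule p f₂]

/-- the comparison of two localizations of a module is semilinear for the comparison of the
localized rings -/
theorem linearEquiv_smul (a : A) (n : N₁) :
    IsLocalizedModule.linearEquiv p f₁ f₂ (a • n) =
      (IsLocalization.algEquiv p A S a) • IsLocalizedModule.linearEquiv p f₁ f₂ n := by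
  obtain ⟨r, s, rfl⟩ := IsLocalization.exists_mk'_eq p a
  apply IsLocalizedModule.smul_injective f₂ s
  dsimp only
  have h1 : (s : R) • (IsLocalization.mk' A r s • n) = r • n := by
    calc (s : R) • (IsLocalization.mk' A r s • n)
        = (algebraMap R A s) • (IsLocalization.mk' A r s • n) :=
          (algebraMap_smul A (s : R) (IsLocalization.mk' A r s • n)).symm
      _ = (algebraMap R A s * IsLocalization.mk' A r s) • n := (mul_smul _ _ _).symm
      _ = (algebraMap R A r) • n := by rw [IsLocalization.mk'_spec']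
      _ = r • n := algebraMap_smul A r n
  have h2 : (s : R) • ((IsLocalization.algEquiv p A S (IsLocalization.mk' A r s)) •
      IsLocalizedModule.linearEquiv p f₁ f₂ n) = r • IsLocalizedModule.linearEquiv p f₁ f₂ n := by
    rw [IsLocalization.algEquiv_mk']
    calc (s : R) • (IsLocalization.mk' S r s • IsLocalizedModule.linearEquiv p f₁ f₂ n)
        = (algebraMap R S s) • (IsLocalization.mk' S r s •
            IsLocalizedModule.linearEquiv p f₁ f₂ n) :=
          (algebraMap_smul S (s : R) _).symm
      _ = (algebraMap R S s * IsLocalization.mk' S r s) •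
            IsLocalizedModule.linearEquiv p f₁ f₂ n := (mul_smul _ _ _).symm
      _ = (algebraMap R S r) • IsLocalizedModule.linearEquiv p f₁ f₂ n := by
          rw [IsLocalization.mk'_spec']
      _ = r • IsLocalizedModule.linearEquiv p f₁ f₂ n := algebraMap_smul S r _
  have h3 : (s : R) • IsLocalizedModule.linearEquiv p f₁ f₂ (IsLocalization.mk' A r s • n) =
      r • IsLocalizedModule.linearEquiv p f₁ f₂ n := by
    rw [← map_smul, ← map_smul]
    exact congrArg _ h1
  exact h3.trans h2.symm

/-- two localizations of a module at the same submonoid have the same length -/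
theorem length_eq_of_isLocalizedModule (f₁ : M →ₗ[R] N₁) (f₂ : M →ₗ[R] N₂)
    [IsLocalizedModule p f₁] [IsLocalizedModule p f₂] :
    Module.length A N₁ = Module.length S N₂ := by
  let σ : A →+* S := (IsLocalization.algEquiv p A S : A ≃ₐ[R] S)
  have hσ : Function.Surjective σ := (IsLocalization.algEquiv p A S).surjective
  haveI : RingHomSurjective σ := ⟨hσ⟩
  let f : N₁ →ₛₗ[σ] N₂ :=
    { toFun := IsLocalizedModule.linearEquiv p f₁ f₂
      map_add' := map_add _
      map_smul' := fun a n => linearEquiv_smul p A S f₁ f₂ a n }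
  rw [Module.length, Module.length, WithBot.unbot_inj,
    Order.krullDim_eq_of_orderIso (Submodule.orderIsoMapComapOfBijective f
      (IsLocalizedModule.linearEquiv p f₁ f₂).bijective)]

end Alg

section Quot

variable {R : Type u} [CommRing R] (p : Submonoid R) (S : Type u) [CommRing S] [Algebra R S]
  [IsLocalization p S] (I : Ideal R)

theorem localized'_eq_map :
    I.localized' S p (Algebra.linearMap R S) = Ideal.map (algebraMap R S) I := by
  rw [Submodule.localized'_eq_span]
  rfl

/-- the length of the localization of `R/I` is the length of `S/IS` -/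
theorem length_localizedModule_quotient :
    Module.length (Localization p) (LocalizedModule p (R ⧸ I)) =
      Module.length S (S ⧸ Ideal.map (algebraMap R S) I) := by
  have h1 := length_eq_of_isLocalizedModule p (Localization p) S
    (LocalizedModule.mkLinearMap p (R ⧸ I))
    (I.toLocalizedQuotient' S p (Algebra.linearMap R S))
  rw [h1]
  exact (Submodule.quotEquivOfEq _ _ (localized'_eq_map p S I)).length_eq

end Quot

section Dim

variable {R : Type u} [CommRing R] [IsLocalRing R]
  (M : Type u) [AddCommGroup M] [Module R M] [Module.Finite R M]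

omit [IsLocalRing R] [Module.Finite R M] in
theorem krullDimLE_one_quotient_of_mem_support (h1 : Module.supportDim R M ≤ 1)
    (q : PrimeSpectrum R) (hqZ : q ∈ Module.support R M) :
    Ring.KrullDimLE 1 (R ⧸ q.asIdeal) := by
  have hdimq : ringKrullDim (R ⧸ q.asIdeal) ≤ 1 := by
    have h2 : Module.supportDim R (R ⧸ q.asIdeal) ≤ Module.supportDim R M := by
      unfold Module.supportDim
      refine Order.krullDim_le_of_strictMono
        (fun z : Module.support R (R ⧸ q.asIdeal) => (⟨z.1, ?_⟩ : Module.support R M))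
        (fun a b hab => hab)
      have hz : z.1 ∈ PrimeSpectrum.zeroLocus (q.asIdeal : Set R) := by
        have h3 : Module.support R (R ⧸ q.asIdeal) = PrimeSpectrum.zeroLocus (q.asIdeal : Set R) := by
          rw [Module.support_eq_zeroLocus, Ideal.annihilator_quotient]
        rw [← h3]
        exact z.2
      rw [PrimeSpectrum.mem_zeroLocus] at hz
      exact Module.mem_support_mono (show q ≤ z.1 from hz) hqZ
    rw [Module.supportDim_quotient_eq_ringKrullDim] at h2
    exact h2.trans h1
  exact Ring.krullDimLE_iff.mpr hdimq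

end Dim

section Geom

variable {X : Scheme.{u}} [IsLocallyNoetherian X]

open Classical in
/-- **the length formula for a module over `O_{X,x}`**: for a finite module `M` with support of
dimension at most one and an `M`-regular `b`,
`length M/bM = Σ_{ξ ⤳ x, ξ ≠ x} length(M_ξ) · ord_{ξ ⤳ x}(b|_ξ)` -/
theorem length_quot_smul_eq_finsum_specializes (x : X) (M : Type u) [AddCommGroup M]
    [Module (X.presheaf.stalk x) M] [Module.Finite (X.presheaf.stalk x) M]
    (h1 : Module.supportDim (X.presheaf.stalk x) M ≤ 1) (b : X.presheaf.stalk x)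
    (hb : IsSMulRegular M b) :
    Module.length (X.presheaf.stalk x) (M ⧸ b • (⊤ : Submodule (X.presheaf.stalk x) M)) ≠ ⊤ ∧
    ((Module.length (X.presheaf.stalk x)
        (M ⧸ b • (⊤ : Submodule (X.presheaf.stalk x) M))).toNat : ℤ) =
      ∑ᶠ ξ : X, if h : ξ ⤳ x ∧ ξ ≠ x then
        ((Module.length (Localization.AtPrime (primeOf x ξ h.1).asIdeal)
          (LocalizedModule (primeOf x ξ h.1).asIdeal.primeCompl M)).toNat : ℤ) *
          Cyc.ordAt x ξ h.1 (Cyc.specMap x ξ h.1 b) else 0 := by
  obtain ⟨hfin, hA⟩ := length_quot_smul_eq_finsum M h1 b hb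
  refine ⟨hfin, ?_⟩
  rw [hA]
  set H : X → ℤ := fun ξ => if h : ξ ⤳ x ∧ ξ ≠ x then
        ((Module.length (Localization.AtPrime (primeOf x ξ h.1).asIdeal)
          (LocalizedModule (primeOf x ξ h.1).asIdeal.primeCompl M)).toNat : ℤ) *
          Cyc.ordAt x ξ h.1 (Cyc.specMap x ξ h.1 b) else 0 with hH
  have h1' : ∑ᶠ ξ : X, H ξ = ∑ᶠ ξ : {ξ : X // ξ ⤳ x}, H ξ.1 := by
    refine Groth.Agent.Lib.T2H4.GysinSelf.finsum_comp_of_injective Subtype.val
      Subtype.val_injective H (fun ξ hξ => ?_)
    have hns : ¬ (ξ ⤳ x ∧ ξ ≠ x) := fun hc => hξ ⟨⟨ξ, hc.1⟩, rfl⟩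
    simp only [hH, dif_neg hns]
  rw [h1']
  symm
  refine finsum_eq_of_bijective _ (primeOf_bijective x) (fun ξ => ?_)
  obtain ⟨ξ, h⟩ := ξ
  by_cases hξx : ξ = x
  · have hns : ¬ (ξ ⤳ x ∧ ξ ≠ x) := fun hc => hc.2 hξx
    simp only [hH, dif_neg hns]
    rw [if_neg (not_not.2 ((primeOf_eq_maximalIdeal_iff x ξ h).2 hξx))]
  · have hc : ξ ⤳ x ∧ ξ ≠ x := ⟨h, hξx⟩
    have hne : (primeOf x ξ h).asIdeal ≠ IsLocalRing.maximalIdeal (X.presheaf.stalk x) :=
      fun hm => hξx ((primeOf_eq_maximalIdeal_iff x ξ h).1 hm)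
    simp only [hH, dif_pos hc]
    rw [if_pos hne]
    by_cases hsupp : primeOf x ξ h ∈ Module.support (X.presheaf.stalk x) M
    · haveI := krullDimLE_one_quotient_of_mem_support M h1 (primeOf x ξ h) hsupp
      rw [ordAt_specMap_eq x ξ h b (notMem_of_isSMulRegular M h1 b hb _ hsupp hne)]
    · have : Subsingleton (LocalizedModule (primeOf x ξ h).asIdeal.primeCompl M) := by
        rw [Module.notMem_support_iff] at hsupp
        exact hsupp
      rw [Module.length_eq_zero]
      simp

omit [IsLocallyNoetherian X] in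
theorem length_localizedModule_quotient_stalk (x ξ : X) (h : ξ ⤳ x)
    (I : Ideal (X.presheaf.stalk x)) :
    Module.length (Localization.AtPrime (primeOf x ξ h).asIdeal)
        (LocalizedModule (primeOf x ξ h).asIdeal.primeCompl (X.presheaf.stalk x ⧸ I)) =
      Module.length (X.presheaf.stalk ξ)
        (X.presheaf.stalk ξ ⧸ Ideal.map (X.presheaf.stalkSpecializes h).hom I) := by
  letI algS := (X.presheaf.stalkSpecializes h).hom.toAlgebra
  haveI := isLocalization_stalk x ξ h
  exact length_localizedModule_quotient (primeOf x ξ h).asIdeal.primeCompl (X.presheaf.stalk ξ) I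

theorem smul_top_eq_map_mkQ {R : Type*} [CommRing R] (I : Ideal R) (b : R) :
    b • (⊤ : Submodule R (R ⧸ I)) =
      Submodule.map (Submodule.mkQ (I : Submodule R R)) (Ideal.span {b} : Submodule R R) := by
  ext z
  rw [Submodule.mem_smul_pointwise_iff_exists, Submodule.mem_map]
  constructor
  · rintro ⟨y, -, rfl⟩
    obtain ⟨y, rfl⟩ := Submodule.Quotient.mk_surjective _ y
    refine ⟨b * y, Ideal.mem_span_singleton'.2 ⟨y, mul_comm _ _⟩, ?_⟩
    rfl
  · rintro ⟨y, hy, rfl⟩
    obtain ⟨c, rfl⟩ := Ideal.mem_span_singleton'.1 hy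
    refine ⟨Submodule.Quotient.mk c, trivial, ?_⟩
    change _ = Submodule.Quotient.mk (c * b)
    rw [mul_comm]
    rfl

theorem length_quot_smul_top_quotient {R : Type*} [CommRing R] (I : Ideal R) (b : R) :
    Module.length R ((R ⧸ I) ⧸ b • (⊤ : Submodule R (R ⧸ I))) =
      Module.length R (R ⧸ (I ⊔ Ideal.span {b})) := by
  have e1 : ((R ⧸ I) ⧸ b • (⊤ : Submodule R (R ⧸ I))) ≃ₗ[R]
      ((R ⧸ I) ⧸ Submodule.map (Submodule.mkQ (I : Submodule R R))
        (Ideal.span {b} : Submodule R R)) :=
    Submodule.quotEquivOfEq _ _ (smul_top_eq_map_mkQ I b)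
  have e2 : ((R ⧸ I) ⧸ Submodule.map (Submodule.mkQ (I : Submodule R R))
        (Ideal.span {b} : Submodule R R)) ≃ₗ[R] (R ⧸ (I ⊔ Ideal.span {b})) :=
    Submodule.quotientQuotientEquivQuotientSup (I : Submodule R R) (Ideal.span {b})
  exact (e1.trans e2).length_eq

open Classical in
/-- **the length formula for `O_x/I`**: for an ideal `I` with `dim O_x/I ≤ 1` and `b` regular on
`O_x/I`, `length O_x/(I + (b)) = Σ_{ξ ⤳ x, ξ ≠ x} length(O_ξ/IO_ξ) · ord_{ξ ⤳ x}(b|_ξ)` -/
theorem length_quot_ideal_eq_finsum_specializes (x : X) (I : Ideal (X.presheaf.stalk x))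
    (h1 : ringKrullDim (X.presheaf.stalk x ⧸ I) ≤ 1) (b : X.presheaf.stalk x)
    (hb : IsSMulRegular (X.presheaf.stalk x ⧸ I) b) :
    Module.length (X.presheaf.stalk x) (X.presheaf.stalk x ⧸ (I ⊔ Ideal.span {b})) ≠ ⊤ ∧
    ((Module.length (X.presheaf.stalk x)
        (X.presheaf.stalk x ⧸ (I ⊔ Ideal.span {b}))).toNat : ℤ) =
      ∑ᶠ ξ : X, if h : ξ ⤳ x ∧ ξ ≠ x then
        ((Module.length (X.presheaf.stalk ξ)
          (X.presheaf.stalk ξ ⧸ Ideal.map (X.presheaf.stalkSpecializes h.1).hom I)).toNat : ℤ) *
          Cyc.ordAt x ξ h.1 (Cyc.specMap x ξ h.1 b) else 0 := by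
  have h1' : Module.supportDim (X.presheaf.stalk x) (X.presheaf.stalk x ⧸ I) ≤ 1 := by
    rw [Module.supportDim_quotient_eq_ringKrullDim]
    exact h1
  obtain ⟨hfin, hA⟩ := length_quot_smul_eq_finsum_specializes x (X.presheaf.stalk x ⧸ I) h1' b hb
  rw [length_quot_smul_top_quotient] at hfin hA
  refine ⟨hfin, ?_⟩
  rw [hA]
  refine finsum_congr (fun ξ => ?_)
  split_ifs with h
  · rw [length_localizedModule_quotient_stalk x ξ h.1 I]
  · rfl

end Geom

end Groth.Agent.Lib.T2H4.LenMinPrimes
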