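import Mathlib
import Groth.Prelude.Def_Cyc
import Groth.Agent.Lib.T2H4LenMinPrimesD
import Groth.Agent.Lib.T2H4OrdCongr
set_option backward.isDefEq.respectTransparency.types false

/-!
# Preparations for the flat pullback of principal divisors (helper4)

Namespace `Groth.Agent.Lib.T2H4.PullDivFlat`.

* `isSMulRegular_quotient_map_of_flat`: for `A → B` flat, `a` regular on `A/P` implies `φ a`
  regular on `B/PB`;
* `primeOf_le_iff`: the dictionary generizations ↔ primes is an order isomorphism;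
* `comap_primeOf`: compatibility of `primeOf` with a morphism;
* `ringKrullDim_quotient_le_one`: a bound on `dim O_x/I` from a dimension function.
-/

set_option autoImplicit false
set_option linter.style.haveILetI false
universe u
open CategoryTheory AlgebraicGeometry TopologicalSpace TensorProduct

namespace Groth.Agent.Lib.T2H4.PullDivFlat

open Groth.Agent.Lib.T2H4.LenMinPrimes

section Alg

variable {A B : Type u} [CommRing A] [CommRing B] [Algebra A B] [Module.Flat A B]

theorem isSMulRegular_quotient_map_of_flat (P : Ideal A) (a : A)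
    (ha : IsSMulRegular (A ⧸ P) a) :
    IsSMulRegular (B ⧸ Ideal.map (algebraMap A B) P) (algebraMap A B a) := by
  have h1 : IsSMulRegular ((A ⧸ P) ⊗[A] B) a := by
    have hinj : Function.Injective (LinearMap.lsmul A (A ⧸ P) a) := ha
    have h2 := Module.Flat.rTensor_preserves_injective_linearMap (M := B) _ hinj
    have e : ∀ t : (A ⧸ P) ⊗[A] B, (LinearMap.lsmul A (A ⧸ P) a).rTensor B t = a • t := by
      intro t
      induction t using TensorProduct.induction_on with
      | zero => simp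
      | tmul x y => simp [TensorProduct.smul_tmul']
      | add x y hx hy => rw [map_add, hx, hy, smul_add]
    intro z w hzw
    apply h2
    rw [e, e]
    exact hzw
  have h3 : IsSMulRegular (B ⧸ (P • (⊤ : Submodule A B))) a :=
    ((TensorProduct.quotTensorEquivQuotSMul B P).isSMulRegular_congr a).1 h1
  have hset : ∀ z : B, z ∈ P • (⊤ : Submodule A B) ↔ z ∈ Ideal.map (algebraMap A B) P := by
    intro z
    rw [Ideal.smul_top_eq_map]
    rfl
  have key : ∀ z : B, algebraMap A B a * z ∈ Ideal.map (algebraMap A B) P →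
      z ∈ Ideal.map (algebraMap A B) P := by
    intro z hz
    rw [← hset] at hz ⊢
    have h4 : a • (Submodule.Quotient.mk z : B ⧸ (P • (⊤ : Submodule A B))) = a • 0 := by
      rw [smul_zero, ← Submodule.Quotient.mk_smul, Submodule.Quotient.mk_eq_zero]
      have h5 : a • z = algebraMap A B a * z := Algebra.smul_def a z
      rw [h5]
      exact hz
    exact (Submodule.Quotient.mk_eq_zero _).1 (h3 h4)
  intro z w hzw
  obtain ⟨z, rfl⟩ := Ideal.Quotient.mk_surjective z
  obtain ⟨w, rfl⟩ := Ideal.Quotient.mk_surjective w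
  rw [Ideal.Quotient.eq]
  apply key
  rw [mul_sub, ← Ideal.Quotient.eq]
  exact hzw

end Alg

section Dict

variable {X : Scheme.{u}}

theorem primeOf_le_iff (x ξ ξ' : X) (h : ξ ⤳ x) (h' : ξ' ⤳ x) :
    primeOf x ξ h ≤ primeOf x ξ' h' ↔ ξ ⤳ ξ' := by
  have h1 := (X.fromSpecStalk x).isEmbedding.isInducing.specializes_iff
    (x := primeOf x ξ h) (y := primeOf x ξ' h')
  rw [fromSpecStalk_primeOf, fromSpecStalk_primeOf] at h1
  rw [PrimeSpectrum.le_iff_specializes]
  exact h1.symm

theorem primeOf_lt_iff (x ξ ξ' : X) (h : ξ ⤳ x) (h' : ξ' ⤳ x) :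
    primeOf x ξ h < primeOf x ξ' h' ↔ ξ ⤳ ξ' ∧ ξ ≠ ξ' := by
  rw [lt_iff_le_and_ne, primeOf_le_iff]
  refine and_congr Iff.rfl (not_congr ⟨fun he => ?_, fun he => ?_⟩)
  · have := congrArg (X.fromSpecStalk x) he
    rwa [fromSpecStalk_primeOf, fromSpecStalk_primeOf] at this
  · subst he
    rfl

theorem delta_le_of_specializes (δ : X → ℤ) (hδ : Cyc.IsDimFun X δ) {ξ x : X} (h : ξ ⤳ x) :
    δ x ≤ δ ξ := by
  by_cases he : ξ = x
  · rw [he]
  · exact (hδ ξ x h he).1.le

/-- a bound on the dimension of `O_x/I` from a dimension function -/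
theorem ringKrullDim_quotient_le_one (δ : X → ℤ) (hδ : Cyc.IsDimFun X δ) (x : X)
    (I : Ideal (X.presheaf.stalk x))
    (hI : ∀ (ξ : X) (h : ξ ⤳ x), I ≤ (primeOf x ξ h).asIdeal → δ ξ ≤ δ x + 1) :
    ringKrullDim (X.presheaf.stalk x ⧸ I) ≤ 1 := by
  rw [ringKrullDim_quotient, Order.krullDim_le_one_iff]
  rintro ⟨q, hq⟩
  by_contra hcon
  rw [not_or] at hcon
  obtain ⟨⟨q₀, hq₀⟩, hlt₀⟩ := not_isMin_iff.1 hcon.1
  obtain ⟨⟨q₂, hq₂⟩, hlt₂⟩ := not_isMax_iff.1 hcon.2
  have hlt₀' : q₀ < q := hlt₀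
  have hlt₂' : q < q₂ := hlt₂
  rw [← primeOf_fromSpecStalk x q₀, ← primeOf_fromSpecStalk x q, primeOf_lt_iff] at hlt₀'
  rw [← primeOf_fromSpecStalk x q, ← primeOf_fromSpecStalk x q₂, primeOf_lt_iff] at hlt₂'
  have h1 := (hδ _ _ hlt₀'.1 hlt₀'.2).1
  have h2 := (hδ _ _ hlt₂'.1 hlt₂'.2).1
  have h3 := delta_le_of_specializes δ hδ (fromSpecStalk_specializes x q₂)
  have h4 := hI (X.fromSpecStalk x q₀) (fromSpecStalk_specializes x q₀) (by
    rw [primeOf_fromSpecStalk]
    exact (PrimeSpectrum.mem_zeroLocus _ _).1 hq₀)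
  omega

variable {X' : Scheme.{u}} (p : X' ⟶ X)

theorem comap_primeOf (x' ξ : X') (h : ξ ⤳ x') :
    (primeOf x' ξ h).asIdeal.comap (p.stalkMap x').hom =
      (primeOf (p x') (p ξ) (h.map p.continuous)).asIdeal := by
  ext r
  rw [Ideal.mem_comap, mem_primeOf_iff, mem_primeOf_iff,
    ← Groth.Agent.Lib.T2H4.OrdCongr.specMap_comm p x' ξ h r]
  exact ⟨fun h0 => (RingHom.injective (p.residueFieldMap ξ).hom) (h0.trans (map_zero _).symm),
    fun h0 => by rw [h0, map_zero]⟩

end Dict

end Groth.Agent.Lib.T2H4.PullDivFlat
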