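import Mathlib
import Groth.Prelude.Def_Cyc
import Groth.Agent.Lib.T2H4OrdLen
import Groth.Agent.Lib.T2H4OrdCongr
import Groth.Agent.Lib.T2H4SecOrdGen
import Groth.Agent.Lib.T2H4PullComp
set_option backward.isDefEq.respectTransparency.types false

/-!
# Flat pullback of principal divisors on integral schemes (helper4)

Namespace `Groth.Agent.Lib.T2H4.PullDiv`.
-/

set_option autoImplicit false
set_option linter.style.haveILetI false
universe u
open CategoryTheory CategoryTheory.Limits AlgebraicGeometry TopologicalSpace Opposite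

namespace Groth.Agent.Lib.T2H4.PullDiv

open Groth.Agent.Lib.T2H4.PullComp Groth.Agent.Lib.T2H4.SecOrdGen
  Groth.Agent.Lib.Helper4.DimFormula

section general

variable {X : Scheme.{u}} [IsIntegral X]

theorem specMap_injective (x η : X) (hη : η = genericPoint X) (h : η ⤳ x) :
    Function.Injective (Cyc.specMap x η h) := by
  subst hη
  intro a b hab
  have hρinj : Function.Injective (X.residue (genericPoint X)).hom :=
    RingHom.injective (X.residue (genericPoint X)).hom
  have h1 : algebraMap (X.presheaf.stalk x) X.functionField a =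
      algebraMap (X.presheaf.stalk x) X.functionField b := hρinj hab
  exact IsFractionRing.injective (X.presheaf.stalk x) X.functionField h1

theorem exists_frac (x η : X) (hη : η = genericPoint X) (h : η ⤳ x) (g : X.residueField η) :
    ∃ a b : X.presheaf.stalk x, b ≠ 0 ∧ g = Cyc.specMap x η h a / Cyc.specMap x η h b := by
  subst hη
  have hρsurj : Function.Surjective (X.residue (genericPoint X)).hom :=
    Ideal.Quotient.mk_surjective
  obtain ⟨w, rfl⟩ := hρsurj g
  obtain ⟨a, b, hb, rfl⟩ := IsFractionRing.div_surjective (A := X.presheaf.stalk x) w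
  refine ⟨a, b, nonZeroDivisors.ne_zero hb, ?_⟩
  exact map_div₀ (X.residue (genericPoint X)).hom _ _

variable [IsLocallyNoetherian X]

/-- the order of a regular function as a length, at a point known to be the generic point -/
theorem ordAt_specMap_eq_length (x η : X) (hη : η = genericPoint X) (h : η ⤳ x)
    [Ring.KrullDimLE 1 (X.presheaf.stalk x)] (a : X.presheaf.stalk x) (ha : a ≠ 0) :
    Cyc.ordAt x η h (Cyc.specMap x η h a) =
      ((Module.length (X.presheaf.stalk x) (X.presheaf.stalk x ⧸ Ideal.span {a})).toNat : ℤ) := by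
  subst hη
  exact Groth.Agent.Lib.T2H4.OrdLen.ordAt_eq_length x h a ha

/-- the order of a fraction as a difference of lengths -/
theorem ordAt_frac (x η : X) (hη : η = genericPoint X) (h : η ⤳ x)
    [Ring.KrullDimLE 1 (X.presheaf.stalk x)] (a b : X.presheaf.stalk x) (ha : a ≠ 0) (hb : b ≠ 0) :
    Cyc.ordAt x η h (Cyc.specMap x η h a / Cyc.specMap x η h b) =
      ((Module.length (X.presheaf.stalk x) (X.presheaf.stalk x ⧸ Ideal.span {a})).toNat : ℤ) -
        ((Module.length (X.presheaf.stalk x) (X.presheaf.stalk x ⧸ Ideal.span {b})).toNat : ℤ) := by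
  have hinj := specMap_injective x η hη h
  have ha' : Cyc.specMap x η h a ≠ 0 := fun h0 => ha (hinj (h0.trans (map_zero _).symm))
  have hb' : Cyc.specMap x η h b ≠ 0 := fun h0 => hb (hinj (h0.trans (map_zero _).symm))
  rw [ordAt_div x η h _ _ ha' hb', ordAt_specMap_eq_length x η hη h a ha,
    ordAt_specMap_eq_length x η hη h b hb]

end general

section flat

variable {X Y : Scheme.{u}} [IsIntegral X] [IsIntegral Y] (f : X ⟶ Y) [Flat f]

/-- a flat morphism of integral schemes maps the generic point to the generic point -/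
theorem map_genericPoint : f (genericPoint X) = genericPoint Y := by
  obtain ⟨x', hx', hfx'⟩ := (Flat.generalizingMap (f := f))
    (genericPoint_specializes (f (genericPoint X)))
  have : x' = genericPoint X := (hx'.antisymm (genericPoint_specializes x')).eq
  rw [← this, hfx']

omit [IsIntegral X] [IsIntegral Y] in
/-- the length of `O_{X,x}/(φ a)` for the flat local homomorphism `φ : O_{Y,f x} → O_{X,x}` -/
theorem length_quot_span_stalkMap (x : X) (a : Y.presheaf.stalk (f x)) :
    Module.length (X.presheaf.stalk x) (X.presheaf.stalk x ⧸ Ideal.span {(f.stalkMap x).hom a}) =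
      Module.length (Y.presheaf.stalk (f x)) (Y.presheaf.stalk (f x) ⧸ Ideal.span {a}) *
      Module.length (X.presheaf.stalk x) (X.presheaf.stalk x ⧸
        Ideal.map (f.stalkMap x).hom (IsLocalRing.maximalIdeal (Y.presheaf.stalk (f x)))) := by
  letI : Algebra (Y.presheaf.stalk (f x)) (X.presheaf.stalk x) := (f.stalkMap x).hom.toAlgebra
  haveI : IsLocalHom (algebraMap (Y.presheaf.stalk (f x)) (X.presheaf.stalk x)) :=
    inferInstanceAs (IsLocalHom (f.stalkMap x).hom)
  haveI : Module.Flat (Y.presheaf.stalk (f x)) (X.presheaf.stalk x) := Flat.stalkMap f x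
  have h := length_quot_map_of_flat (Y.presheaf.stalk (f x)) (X.presheaf.stalk x) (Ideal.span {a})
  have hI : Ideal.span {(f.stalkMap x).hom a} =
      (Ideal.span {a}).map (algebraMap (Y.presheaf.stalk (f x)) (X.presheaf.stalk x)) := by
    rw [Ideal.map_span, Set.image_singleton]
    rfl
  rw [hI]
  exact h

omit [IsIntegral X] [IsIntegral Y] in
theorem stalkMap_injective (x : X) : Function.Injective (f.stalkMap x).hom := by
  letI : Algebra (Y.presheaf.stalk (f x)) (X.presheaf.stalk x) := (f.stalkMap x).hom.toAlgebra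
  haveI : IsLocalHom (algebraMap (Y.presheaf.stalk (f x)) (X.presheaf.stalk x)) :=
    inferInstanceAs (IsLocalHom (f.stalkMap x).hom)
  haveI : Module.Flat (Y.presheaf.stalk (f x)) (X.presheaf.stalk x) := Flat.stalkMap f x
  haveI : Module.FaithfullyFlat (Y.presheaf.stalk (f x)) (X.presheaf.stalk x) :=
    Module.FaithfullyFlat.of_flat_of_isLocalHom
  exact FaithfulSMul.algebraMap_injective (Y.presheaf.stalk (f x)) (X.presheaf.stalk x)

variable [IsLocallyNoetherian X]

omit [IsIntegral Y] in
/-- **the order of the pullback of a fraction** at a point of codimension at most one -/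
theorem ordAt_pull (x : X) (h : genericPoint X ⤳ x) [Ring.KrullDimLE 1 (X.presheaf.stalk x)]
    (a b : Y.presheaf.stalk (f x)) (ha : a ≠ 0) (hb : b ≠ 0) :
    Cyc.ordAt x (genericPoint X) h ((f.residueFieldMap (genericPoint X)).hom
      (Cyc.specMap (f x) (f (genericPoint X)) (h.map f.continuous) a /
        Cyc.specMap (f x) (f (genericPoint X)) (h.map f.continuous) b)) =
      (((Module.length (Y.presheaf.stalk (f x))
          (Y.presheaf.stalk (f x) ⧸ Ideal.span {a})).toNat : ℤ) -
        ((Module.length (Y.presheaf.stalk (f x))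
          (Y.presheaf.stalk (f x) ⧸ Ideal.span {b})).toNat : ℤ)) *
      ((Module.length (X.presheaf.stalk x) (X.presheaf.stalk x ⧸
        Ideal.map (f.stalkMap x).hom
          (IsLocalRing.maximalIdeal (Y.presheaf.stalk (f x))))).toNat : ℤ) := by
  rw [map_div₀, Groth.Agent.Lib.T2H4.OrdCongr.specMap_comm f x (genericPoint X) h a,
    Groth.Agent.Lib.T2H4.OrdCongr.specMap_comm f x (genericPoint X) h b]
  have hinj := stalkMap_injective f x
  have ha' : (f.stalkMap x).hom a ≠ 0 := fun h0 => ha (hinj (h0.trans (map_zero _).symm))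
  have hb' : (f.stalkMap x).hom b ≠ 0 := fun h0 => hb (hinj (h0.trans (map_zero _).symm))
  rw [ordAt_frac x (genericPoint X) rfl h _ _ ha' hb', length_quot_span_stalkMap,
    length_quot_span_stalkMap, ENat.toNat_mul, ENat.toNat_mul]
  push_cast
  ring

end flat

section unit

variable {Y : Scheme.{u}}

/-- at `y = η`, an element of the local ring with nonzero image in `κ(η)` is a unit -/
theorem isUnit_of_specMap_ne_zero (y η : Y) (hyη : y = η) (h : η ⤳ y) (a : Y.presheaf.stalk y)
    (ha : Cyc.specMap y η h a ≠ 0) : IsUnit a := by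
  subst hyη
  by_contra hu
  apply ha
  have h1 : a ∈ IsLocalRing.maximalIdeal (Y.presheaf.stalk y) := hu
  unfold Cyc.specMap
  have h2 : (Y.presheaf.stalkSpecializes h).hom a = a := by
    have := TopCat.Presheaf.stalkSpecializes_refl (F := Y.presheaf) y
    have h3 : Y.presheaf.stalkSpecializes h = 𝟙 _ := this
    rw [h3]
    rfl
  change (Y.residue y).hom ((Y.presheaf.stalkSpecializes h).hom a) = 0
  rw [h2]
  exact (IsLocalRing.residue_eq_zero_iff a).2 h1

theorem length_quot_span_of_isUnit {R : Type u} [CommRing R] (a : R) (ha : IsUnit a) :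
    Module.length R (R ⧸ Ideal.span {a}) = 0 := by
  have h1 : Ideal.span {a} = ⊤ := Ideal.span_singleton_eq_top.2 ha
  haveI : Subsingleton (R ⧸ Ideal.span {a}) := Ideal.Quotient.subsingleton_iff.2 h1
  exact Module.length_eq_zero

end unit

section main

variable {X Y : Scheme.{u}} [IsIntegral X] [IsIntegral Y] [IsLocallyNoetherian X]
  [IsLocallyNoetherian Y] (f : X ⟶ Y) [Flat f] [LocallyOfFiniteType f]

/-- **`f^*(div_Y g) = div_X(g ∘ f)`** for a flat morphism of relative dimension `r` between
integral schemes -/
theorem main (δX : X → ℤ) (δY : Y → ℤ) (hδX : Cyc.IsDimFun X δX) (hδY : Cyc.IsDimFun Y δY)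
    (r : ℕ) (hr : Cyc.HasRelDim f r) (hδ : Cyc.DeltaCompat f δX δY)
    (g : Y.residueField (f (genericPoint X))) (hg : g ≠ 0) :
    Cyc.pullFun f δX δY r (Cyc.divFun δY (f (genericPoint X)) g) =
      Cyc.divFun δX (genericPoint X) ((f.residueFieldMap (genericPoint X)).hom g) := by
  funext x
  have hgen : f (genericPoint X) = genericPoint Y := map_genericPoint f
  have hηx : genericPoint X ⤳ x := genericPoint_specializes x
  have hηy : f (genericPoint X) ⤳ f x := hηx.map f.continuous
  have hle : ∀ x, δX x ≤ δY (f x) + r := le_of_hasRelDim f δX δY hδ r hr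
  have hηdim : δX (genericPoint X) = δY (f (genericPoint X)) + r := by
    rw [delta_eq_add_ptTrdeg f δX δY hδ (genericPoint X)]
    have hmax : ∀ y : X, f.base y = f.base (genericPoint X) → y ⤳ genericPoint X →
        y = genericPoint X := fun y _ hy => (hy.antisymm (genericPoint_specializes y)).eq
    have h1 := (Groth.Agent.Lib.Helper3.RelDim.hasRelDim_iff_forall_fibreDimAt_eq f r).1 hr
      (genericPoint X)
    rw [fibreDimAt_eq_ptTrdeg_of_maximal f (genericPoint X) hmax] at h1
    have : ptTrdeg f (genericPoint X) = r := by exact_mod_cast h1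
    rw [this]
  unfold Cyc.pullFun Cyc.divFun
  obtain ⟨a, b, hb, hgab⟩ := exists_frac (f x) (f (genericPoint X)) hgen hηy g
  have ha : a ≠ 0 := by
    rintro rfl
    rw [map_zero, zero_div] at hgab
    exact hg hgab
  have hinjY := specMap_injective (f x) (f (genericPoint X)) hgen hηy
  by_cases hx1 : δX x + 1 = δX (genericPoint X)
  · have hcond : genericPoint X ⤳ x ∧ δX x + 1 = δX (genericPoint X) := ⟨hηx, hx1⟩
    rw [dif_pos hcond]
    haveI : Ring.KrullDimLE 1 (X.presheaf.stalk x) := by
      refine krullDimLE_of_coheight_le (n := 1) ?_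
      refine Groth.Agent.Lib.T2H4.OrdLen.coheight_le_one_of_isDimFun δX hδX (genericPoint X) x
        (fun y _ => ?_) hx1
      by_cases hy : genericPoint X = y
      · rw [hy]
      · exact (hδX _ _ (genericPoint_specializes y) hy).1.le
    rw [hgab, ordAt_pull f x hηx a b ha hb]
    by_cases hx2 : δX x = δY (f x) + r
    · have hy1 : δY (f x) + 1 = δY (f (genericPoint X)) := by omega
      rw [if_pos hx2, dif_pos ⟨hηy, hy1⟩]
      haveI : Ring.KrullDimLE 1 (Y.presheaf.stalk (f x)) := by
        refine krullDimLE_of_coheight_le (n := 1) ?_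
        refine Groth.Agent.Lib.T2H4.OrdLen.coheight_le_one_of_isDimFun δY hδY
          (f (genericPoint X)) (f x) (fun y _ => ?_) hy1
        by_cases hy : f (genericPoint X) = y
        · rw [hy]
        · have hsp : f (genericPoint X) ⤳ y := by
            rw [hgen]
            exact genericPoint_specializes y
          exact (hδY _ _ hsp hy).1.le
      rw [ordAt_frac (f x) (f (genericPoint X)) hgen hηy a b ha hb]
    · rw [if_neg hx2]
      have hfx : f x = f (genericPoint X) := by
        by_contra hne
        have h1 := (hδY (f (genericPoint X)) (f x) hηy (Ne.symm hne)).1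
        have h2 := hle x
        omega
      have ha' : Cyc.specMap (f x) (f (genericPoint X)) hηy a ≠ 0 :=
        fun h0 => ha (hinjY (h0.trans (map_zero _).symm))
      have hb' : Cyc.specMap (f x) (f (genericPoint X)) hηy b ≠ 0 :=
        fun h0 => hb (hinjY (h0.trans (map_zero _).symm))
      rw [length_quot_span_of_isUnit a (isUnit_of_specMap_ne_zero _ _ hfx hηy a ha'),
        length_quot_span_of_isUnit b (isUnit_of_specMap_ne_zero _ _ hfx hηy b hb')]
      simp
  · have hc : ¬ (genericPoint X ⤳ x ∧ δX x + 1 = δX (genericPoint X)) := fun h => hx1 h.2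
    rw [dif_neg hc]
    by_cases hx2 : δX x = δY (f x) + r
    · have hc' : ¬ (f (genericPoint X) ⤳ f x ∧ δY (f x) + 1 = δY (f (genericPoint X))) := by
        rintro ⟨_, h⟩
        omega
      rw [if_pos hx2, dif_neg hc', zero_mul]
    · rw [if_neg hx2]

end main

end Groth.Agent.Lib.T2H4.PullDiv
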