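import Mathlib
import Groth.Prelude.Def_C1
import Groth.Prelude.Def_Cyc
import Groth.Agent.Lib.T2H4SecOrdGen
import Groth.Agent.Lib.T2H4OrdLen
import Groth.Agent.Lib.Helper20InvGen
import Groth.Agent.Lib.T2H4LenMinPrimesB
set_option backward.isDefEq.respectTransparency.types false

/-!
# `[Z(s)]_k = c_1(L) ∩ [Y]_{k+1}` computed with the sections induced by `s` (helper4)

Namespace `Groth.Agent.Lib.T2H4.ZeroSecCap`.
-/

set_option autoImplicit false
set_option linter.style.haveILetI false
universe u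
open CategoryTheory AlgebraicGeometry TopologicalSpace

namespace Groth.Agent.Lib.T2H4.ZeroSecCap

open Groth.Agent.Lib.T2H4.SecOrdGen Groth.Agent.Lib.T2H4.LenMinPrimes

variable {X : Scheme.{u}}

/-- if a dimension function rises by at most one at the generizations of `x` then `O_x` has
dimension at most one -/
theorem coheight_le_one_of_le (δ : X → ℤ) (hδ : Cyc.IsDimFun X δ) (x : X)
    (hmax : ∀ y : X, y ⤳ x → δ y ≤ δ x + 1) : Order.coheight x ≤ 1 := by
  refine Order.coheight_le fun p hp => ?_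
  have hstep : ∀ (i : ℕ) (hi : i < p.length + 1), δ x + i ≤ δ (p ⟨i, hi⟩) ∧ p ⟨i, hi⟩ ⤳ x := by
    intro i
    induction i with
    | zero =>
      intro hi
      have : p ⟨0, hi⟩ = x := hp
      rw [this]
      exact ⟨by simp, specializes_rfl⟩
    | succ i ih =>
      intro hi
      have hi' : i < p.length + 1 := by omega
      obtain ⟨h1, h2⟩ := ih hi'
      have hlt : p ⟨i, hi'⟩ < p ⟨i + 1, hi⟩ := p.strictMono (by simp [Fin.lt_def])
      have hsp : p ⟨i + 1, hi⟩ ⤳ p ⟨i, hi'⟩ := hlt.le
      have hne : p ⟨i + 1, hi⟩ ≠ p ⟨i, hi'⟩ := fun h => (ne_of_lt hlt) h.symm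
      have := (hδ _ _ hsp hne).1
      refine ⟨?_, hsp.trans h2⟩
      push_cast
      omega
  obtain ⟨h1, h2⟩ := hstep p.length (by omega)
  have h3 := hmax _ h2
  have : (p.length : ℤ) ≤ 1 := by omega
  exact_mod_cast this

theorem krullDimLE_one_of_le (δ : X → ℤ) (hδ : Cyc.IsDimFun X δ) (x : X)
    (hmax : ∀ y : X, y ⤳ x → δ y ≤ δ x + 1) : Ring.KrullDimLE 1 (X.presheaf.stalk x) :=
  krullDimLE_of_coheight_le (n := 1) (coheight_le_one_of_le δ hδ x hmax)

/-- a free generator of the stalk of an invertible module at `x` all of whose specializations to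
generizations of `x` are free generators -/
theorem exists_gen_forall (L : X.Modules) (hL : PicF.IsInvertible L) (x : X) :
    ∃ a : L.presheaf.stalk x, Function.Bijective (fun c : X.presheaf.stalk x => c • a) ∧
      ∀ (ξ : X) (h : ξ ⤳ x),
        Function.Bijective (fun c : X.presheaf.stalk ξ => c • sp L h a) := by
  obtain ⟨W, t, hxW, ht⟩ := Groth.Agent.Lib.Helper20.InvGen.exists_local_generator L hL x
  refine ⟨L.presheaf.germ W x hxW t, ht x hxW, fun ξ h => ?_⟩
  have hξW : ξ ∈ W := h.mem_open W.isOpen hxW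
  have hsp : sp L h (L.presheaf.germ W x hxW t) = L.presheaf.germ W ξ hξW t :=
    TopCat.Presheaf.germ_stalkSpecializes_apply L.presheaf hxW h t
  rw [hsp]
  exact ht ξ hξW

/-- the value of `zeroSectionFun` at a point of the right dimension, in terms of any free generator -/
theorem zeroSectionFun_eq (δ : X → ℤ) (k : ℤ) (L : X.Modules) (s : L.presheaf.obj (Opposite.op ⊤))
    (x : X) (hx : δ x = k) (a : L.presheaf.stalk x)
    (ha : Function.Bijective (fun c : X.presheaf.stalk x => c • a)) (f : X.presheaf.stalk x)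
    (hf : (L.presheaf.germ ⊤ x trivial) s = f • a) :
    Cyc.zeroSectionFun δ k L s x =
      ((Module.length (X.presheaf.stalk x) (X.presheaf.stalk x ⧸ Ideal.span {f})).toNat : ℤ) := by
  unfold Cyc.zeroSectionFun
  have ht : ∃ t : L.presheaf.stalk x, Submodule.span (X.presheaf.stalk x) {t} = ⊤ :=
    ⟨a, Groth.Agent.Lib.T2H4.SecOrdAdd.span_eq_top_of_bijective_smul a ha⟩
  rw [if_pos hx, dif_pos ht]
  have ht' := Classical.choose_spec ht
  set t := Classical.choose ht with htdef
  have hf' : ∃ f : X.presheaf.stalk x, (L.presheaf.germ ⊤ x trivial) s = f • t := by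
    have hmem : (L.presheaf.germ ⊤ x trivial) s ∈ Submodule.span (X.presheaf.stalk x) {t} := by
      rw [ht']; trivial
    obtain ⟨f, hf⟩ := Submodule.mem_span_singleton.1 hmem
    exact ⟨f, hf.symm⟩
  rw [dif_pos hf']
  have hf'' := Classical.choose_spec hf'
  set f' := Classical.choose hf' with hfdef
  -- compare the two generators
  obtain ⟨c, hc⟩ : ∃ c : X.presheaf.stalk x, c • t = a := by
    have hmem : a ∈ Submodule.span (X.presheaf.stalk x) {t} := by rw [ht']; trivial
    exact Submodule.mem_span_singleton.1 hmem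
  obtain ⟨d, hd⟩ := ha.2 t
  have hd' : d • a = t := hd
  have hcd : c * d = 1 := by
    apply ha.1
    change (c * d) • a = (1 : X.presheaf.stalk x) • a
    rw [mul_smul, hd', hc, one_smul]
  have hff : f = f' * d := by
    apply ha.1
    change f • a = (f' * d) • a
    rw [mul_smul, hd', ← hf, hf'']
  have hspan : Ideal.span {f'} = Ideal.span {f} := by
    rw [hff]
    apply le_antisymm
    · rw [Ideal.span_singleton_le_span_singleton]
      exact ⟨c, by rw [mul_assoc, mul_comm d c, hcd, mul_one]⟩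
    · rw [Ideal.span_singleton_le_span_singleton]
      exact ⟨d, rfl⟩
  rw [hspan]

/-- the coefficients of `[Y]_k` for the identity of `Y` -/
theorem subschemeFun_id (δ : X → ℤ) (k : ℤ) (ξ : X) (hξ : δ ξ = k) :
    Cyc.subschemeFun δ k (𝟙 X) ξ =
      ((Module.length (X.presheaf.stalk ξ) (X.presheaf.stalk ξ)).toNat : ℤ) := by
  unfold Cyc.subschemeFun
  rw [if_pos hξ]
  have hset : {z : X | (𝟙 X : X ⟶ X) z = ξ} = {ξ} := by
    ext z
    simp
  rw [hset, finsum_mem_singleton]

/-- **`[Z(s)]_k = c_1(L) ∩ [Y]_{k+1}`** (computed with the rational sections induced by `s`) when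
`δ ≤ k + 1` on `Y` and `s` is a nonzerodivisor at the points of `δ`-dimension `k` -/
theorem main (Y : Scheme.{u}) (δ : Y → ℤ) (hY : Cyc.IsSetup Y δ) (L : Y.Modules)
    (hL : PicF.IsInvertible L) (k : ℤ) (hdim : ∀ y : Y, δ y ≤ k + 1)
    (s : L.presheaf.obj (Opposite.op ⊤))
    (hreg : ∀ y : Y, δ y = k → Function.Injective
      (fun a : Y.presheaf.stalk y => a • (L.presheaf.germ ⊤ y trivial) s)) :
    Cyc.zeroSectionFun δ k L s =
      Cyc.c1CapFun δ L (Cyc.subschemeFun δ (k + 1) (𝟙 Y))
        (fun ξ => Submodule.Quotient.mk ((L.presheaf.germ ⊤ ξ trivial) s)) := by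
  funext y
  haveI : IsLocallyNoetherian Y := hY.1
  have hδ := hY.2.2
  unfold Cyc.c1CapFun
  by_cases hy : δ y = k
  · haveI : Ring.KrullDimLE 1 (Y.presheaf.stalk y) :=
      krullDimLE_one_of_le δ hδ y (fun z _ => by rw [hy]; exact hdim z)
    obtain ⟨a, ha, haξ⟩ := exists_gen_forall L hL y
    obtain ⟨f, hf⟩ := ha.2 ((L.presheaf.germ ⊤ y trivial) s)
    have hf' : (L.presheaf.germ ⊤ y trivial) s = f • a := hf.symm
    have hfnzd : f ∈ nonZeroDivisors (Y.presheaf.stalk y) := by
      rw [mem_nonZeroDivisors_iff_right]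
      intro c hc
      apply hreg y hy
      change c • (L.presheaf.germ ⊤ y trivial) s = (0 : Y.presheaf.stalk y) • _
      rw [hf', ← mul_smul, hc, zero_smul, zero_smul]
    rw [zeroSectionFun_eq δ k L s y hy a ha f hf',
      (length_quot_span_eq_finsum_specializes y f hfnzd).2]
    refine finsum_congr (fun ξ => ?_)
    by_cases hc : ξ ⤳ y ∧ ξ ≠ y
    · rw [dif_pos hc]
      have hξ : δ ξ = k + 1 := by
        have h1 := (hδ ξ y hc.1 hc.2).1
        have h2 := hdim ξ
        omega
      have hcond : ξ ⤳ y ∧ δ y + 1 = δ ξ := ⟨hc.1, by omega⟩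
      unfold Cyc.secDivFun
      rw [dif_pos hcond, subschemeFun_id δ (k + 1) ξ hξ]
      congr 1
      have hgerm : (L.presheaf.germ ⊤ ξ trivial) s = spO hc.1 f • sp L hc.1 a := by
        rw [← sp_smul, ← hf']
        exact (Groth.Agent.Lib.T2H4.HomShGlobal.stalkSpecializes_germ L hc.1
          (show y ∈ (⊤ : Y.Opens) from trivial) s).symm
      beta_reduce
      rw [hgerm, secOrdAt_eq L hc.1 a ha (haξ ξ hc.1)]
      rfl
    · rw [dif_neg hc]
      unfold Cyc.secDivFun
      by_cases hsp : ξ ⤳ y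
      · have hξy : ξ = y := by
          by_contra hne
          exact hc ⟨hsp, hne⟩
        have hns : ¬ (ξ ⤳ y ∧ δ y + 1 = δ ξ) := by
          rintro ⟨_, h2⟩
          rw [hξy] at h2
          omega
        rw [dif_neg hns, mul_zero]
      · have hns : ¬ (ξ ⤳ y ∧ δ y + 1 = δ ξ) := fun h => hsp h.1
        rw [dif_neg hns, mul_zero]
  · unfold Cyc.zeroSectionFun
    rw [if_neg hy]
    symm
    apply finsum_eq_zero_of_forall_eq_zero
    intro ξ
    unfold Cyc.subschemeFun Cyc.secDivFun
    by_cases hξ : δ ξ = k + 1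
    · have hns : ¬ (ξ ⤳ y ∧ δ y + 1 = δ ξ) := by
        rintro ⟨_, h2⟩
        omega
      rw [dif_neg hns, mul_zero]
    · rw [if_neg hξ, zero_mul]

end Groth.Agent.Lib.T2H4.ZeroSecCap
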