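import Mathlib
import Groth.Prelude.Def_Cyc
import Groth.Agent.Lib.T2H4PullDiv
import Groth.Agent.Lib.T2H4LenMinPrimesB
import Groth.Agent.Lib.T2H4ZeroSecCap
set_option backward.isDefEq.respectTransparency.types false

/-!
# Flat pullback of a principal divisor to a possibly non-integral scheme (helper4)

`f^*(div_Y g) = Σ_j n_j div_{X_j}(g|_{X_j})` for `f : X → Y` flat of relative dimension `r`, `Y`
integral.

Namespace `Groth.Agent.Lib.T2H4.PullDivGen`.
-/

set_option autoImplicit false
set_option linter.style.haveILetI false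
universe u
open CategoryTheory CategoryTheory.Limits AlgebraicGeometry TopologicalSpace Opposite

namespace Groth.Agent.Lib.T2H4.PullDivGen

open Groth.Agent.Lib.T2H4.PullComp Groth.Agent.Lib.T2H4.SecOrdGen
  Groth.Agent.Lib.Helper4.DimFormula Groth.Agent.Lib.T2H4.LenMinPrimes
  Groth.Agent.Lib.T2H4.PullDiv

section general

variable {X : Scheme.{u}}

/-- the proper generizations of a point whose local ring has dimension at most one are finitely
many -/
theorem finite_specializes_ne [IsLocallyNoetherian X] (x : X)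
    [Ring.KrullDimLE 1 (X.presheaf.stalk x)] : {ξ : X | ξ ⤳ x ∧ ξ ≠ x}.Finite := by
  refine ((finite_ne_maximalIdeal (R := X.presheaf.stalk x)).image (X.fromSpecStalk x)).subset ?_
  rintro ξ ⟨h, hne⟩
  refine ⟨primeOf x ξ h, ?_, fromSpecStalk_primeOf x ξ h⟩
  exact fun hm => hne ((primeOf_eq_maximalIdeal_iff x ξ h).1 hm)

theorem residueFieldCongr_specMap (y η η' : X) (e : η = η') (h : η ⤳ y) (h' : η' ⤳ y)
    (a : X.presheaf.stalk y) :
    (X.residueFieldCongr e).hom (Cyc.specMap y η h a) = Cyc.specMap y η' h' a := by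
  subst e
  simp

end general

section flat

variable {X Y : Scheme.{u}} (f : X ⟶ Y) [Flat f]

/-- a flat morphism to an integral scheme maps maximal points to the generic point -/
theorem map_eq_genericPoint_of_maximal [IsIntegral Y] (ξ : X) (hmax : ∀ x' : X, x' ⤳ ξ → x' = ξ) :
    f ξ = genericPoint Y := by
  obtain ⟨x', hx', hfx'⟩ := (Flat.generalizingMap (f := f)) (genericPoint_specializes (f ξ))
  rw [← hmax x' hx', hfx']

/-- the stalk maps of a flat morphism preserve nonzerodivisors -/
theorem stalkMap_mem_nonZeroDivisors (x : X) (a : Y.presheaf.stalk (f x))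
    (ha : a ∈ nonZeroDivisors (Y.presheaf.stalk (f x))) :
    (f.stalkMap x).hom a ∈ nonZeroDivisors (X.presheaf.stalk x) := by
  letI : Algebra (Y.presheaf.stalk (f x)) (X.presheaf.stalk x) := (f.stalkMap x).hom.toAlgebra
  haveI : Module.Flat (Y.presheaf.stalk (f x)) (X.presheaf.stalk x) := Flat.stalkMap f x
  have h1 : IsSMulRegular (X.presheaf.stalk x) a := Module.Flat.isSMulRegular_of_nonZeroDivisors ha
  rw [mem_nonZeroDivisors_iff_right]
  intro c hc
  apply h1
  change (f.stalkMap x).hom a * c = (f.stalkMap x).hom a * 0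
  rw [mul_zero, mul_comm, hc]

omit [Flat f] in
theorem delta_of_maximal [LocallyOfFiniteType f] (δX : X → ℤ) (δY : Y → ℤ) (r : ℕ)
    (hr : Cyc.HasRelDim f r) (hδ : Cyc.DeltaCompat f δX δY) (ξ : X)
    (hmax : ∀ x' : X, x' ⤳ ξ → x' = ξ) : δX ξ = δY (f ξ) + r := by
  rw [delta_eq_add_ptTrdeg f δX δY hδ ξ]
  have h1 := (Groth.Agent.Lib.Helper3.RelDim.hasRelDim_iff_forall_fibreDimAt_eq f r).1 hr ξ
  rw [fibreDimAt_eq_ptTrdeg_of_maximal f ξ (fun y _ hy => hmax y hy)] at h1
  have : ptTrdeg f ξ = r := by exact_mod_cast h1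
  rw [this]

end flat

section main

variable {X Y : Scheme.{u}} [IsIntegral Y] (f : X ⟶ Y) [Flat f] [LocallyOfFiniteType f]

omit [Flat f] [LocallyOfFiniteType f] in
/-- the restriction of a fraction to a generization of `x` lying over the generic point -/
theorem restrict_frac (x ξ : X) (h : ξ ⤳ x) (e : genericPoint Y = f ξ)
    (a b : Y.presheaf.stalk (f x)) (g : Y.residueField (genericPoint Y))
    (hg : g = Cyc.specMap (f x) (genericPoint Y) (genericPoint_specializes _) a /
      Cyc.specMap (f x) (genericPoint Y) (genericPoint_specializes _) b) :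
    (f.residueFieldMap ξ).hom ((Y.residueFieldCongr e).hom g) =
      Cyc.specMap x ξ h ((f.stalkMap x).hom a) / Cyc.specMap x ξ h ((f.stalkMap x).hom b) := by
  rw [hg, map_div₀, map_div₀,
    residueFieldCongr_specMap (f x) (genericPoint Y) (f ξ) e _ (h.map f.continuous) a,
    residueFieldCongr_specMap (f x) (genericPoint Y) (f ξ) e _ (h.map f.continuous) b,
    Groth.Agent.Lib.T2H4.OrdCongr.specMap_comm f x ξ h a,
    Groth.Agent.Lib.T2H4.OrdCongr.specMap_comm f x ξ h b]

omit [Flat f] [LocallyOfFiniteType f] in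
theorem specMap_stalkMap_ne_zero (x ξ : X) (h : ξ ⤳ x) (e : genericPoint Y = f ξ)
    (a : Y.presheaf.stalk (f x)) (ha : a ≠ 0) :
    Cyc.specMap x ξ h ((f.stalkMap x).hom a) ≠ 0 := by
  rw [← Groth.Agent.Lib.T2H4.OrdCongr.specMap_comm f x ξ h a]
  intro h0
  have h1 := (RingHom.injective (f.residueFieldMap ξ).hom) (h0.trans (map_zero _).symm)
  have hinj := specMap_injective (f x) (f ξ) e.symm (h.map f.continuous)
  exact ha (hinj (h1.trans (map_zero _).symm))

open Classical in
/-- **`f^*(div_Y g) = Σ_j n_j div_{X_j}(g|_{X_j})`** -/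
theorem main (δX : X → ℤ) (δY : Y → ℤ) (hX : Cyc.IsSetup X δX) (hY : Cyc.IsSetup Y δY)
    (r : ℕ) (hr : Cyc.HasRelDim f r) (hδ : Cyc.DeltaCompat f δX δY) (k : ℤ)
    (hk : δY (genericPoint Y) = k) (g : Y.residueField (genericPoint Y)) (hg : g ≠ 0) (x : X) :
    Cyc.pullFun f δX δY r (Cyc.divFun δY (genericPoint Y) g) x =
      ∑ᶠ ξ : {ξ : X // (∀ x' : X, x' ⤳ ξ → x' = ξ) ∧ f ξ = genericPoint Y},
        ((Module.length (X.presheaf.stalk ξ.1) (X.presheaf.stalk ξ.1)).toNat : ℤ) *
          Cyc.divFun δX ξ.1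
            (f.residueFieldMap ξ.1 ((Y.residueFieldCongr ξ.2.2.symm).hom g)) x := by
  haveI : IsLocallyNoetherian X := hX.1
  haveI : IsLocallyNoetherian Y := hY.1
  have hδX := hX.2.2
  have hδY := hY.2.2
  have hηy : genericPoint Y ⤳ f x := genericPoint_specializes (f x)
  have hle := le_of_hasRelDim f δX δY hδ r hr
  have hYle : ∀ y' : Y, δY y' ≤ k := by
    intro y'
    by_cases h : genericPoint Y = y'
    · rw [← h, hk]
    · have := (hδY (genericPoint Y) y' (genericPoint_specializes y') h).1
      omega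
  have hmaxδ : ∀ ξ : X, (∀ x' : X, x' ⤳ ξ → x' = ξ) → f ξ = genericPoint Y → δX ξ = k + r := by
    intro ξ hmax hfξ
    rw [delta_of_maximal f δX δY r hr hδ ξ hmax, hfξ, hk]
  -- the sum over the subtype as a sum over `X`
  set H' : X → ℤ := fun ξ =>
    if hS : (∀ x' : X, x' ⤳ ξ → x' = ξ) ∧ f ξ = genericPoint Y then
      ((Module.length (X.presheaf.stalk ξ) (X.presheaf.stalk ξ)).toNat : ℤ) *
        Cyc.divFun δX ξ (f.residueFieldMap ξ ((Y.residueFieldCongr hS.2.symm).hom g)) x
    else 0 with hH'
  have hsum : (∑ᶠ ξ : {ξ : X // (∀ x' : X, x' ⤳ ξ → x' = ξ) ∧ f ξ = genericPoint Y},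
        ((Module.length (X.presheaf.stalk ξ.1) (X.presheaf.stalk ξ.1)).toNat : ℤ) *
          Cyc.divFun δX ξ.1
            (f.residueFieldMap ξ.1 ((Y.residueFieldCongr ξ.2.2.symm).hom g)) x) =
      ∑ᶠ ξ : X, H' ξ := by
    rw [Groth.Agent.Lib.T2H4.GysinSelf.finsum_comp_of_injective Subtype.val
      Subtype.val_injective H' (fun ξ hξ => ?_)]
    · refine finsum_congr (fun ξ => ?_)
      simp only [hH', dif_pos ξ.2]
    · have hns : ¬ ((∀ x' : X, x' ⤳ ξ → x' = ξ) ∧ f ξ = genericPoint Y) :=
        fun hc => hξ ⟨⟨ξ, hc⟩, rfl⟩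
      simp only [hH', dif_neg hns]
  rw [hsum]
  by_cases hB : δX x + 1 = k + r
  · -- the main case
    haveI : Ring.KrullDimLE 1 (X.presheaf.stalk x) :=
      Groth.Agent.Lib.T2H4.ZeroSecCap.krullDimLE_one_of_le δX hδX x (fun z _ => by
        have h1 := hle z
        have h2 := hYle (f z)
        omega)
    obtain ⟨a, b, hb, hgab⟩ := exists_frac (f x) (genericPoint Y) rfl hηy g
    have ha : a ≠ 0 := by
      rintro rfl
      rw [map_zero, zero_div] at hgab
      exact hg hgab
    have hanzd := stalkMap_mem_nonZeroDivisors f x a (mem_nonZeroDivisors_of_ne_zero ha)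
    have hbnzd := stalkMap_mem_nonZeroDivisors f x b (mem_nonZeroDivisors_of_ne_zero hb)
    obtain ⟨hfa, hA⟩ := length_quot_span_eq_finsum_specializes x _ hanzd
    obtain ⟨hfb, hBB⟩ := length_quot_span_eq_finsum_specializes x _ hbnzd
    -- the right hand side
    have hRHS : ∑ᶠ ξ : X, H' ξ =
        ((Module.length (X.presheaf.stalk x)
          (X.presheaf.stalk x ⧸ Ideal.span {(f.stalkMap x).hom a})).toNat : ℤ) -
        ((Module.length (X.presheaf.stalk x)
          (X.presheaf.stalk x ⧸ Ideal.span {(f.stalkMap x).hom b})).toNat : ℤ) := by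
      rw [hA, hBB, ← finsum_sub_distrib]
      · refine finsum_congr (fun ξ => ?_)
        by_cases hc : ξ ⤳ x ∧ ξ ≠ x
        · rw [dif_pos hc, dif_pos hc]
          have hmax : ∀ x' : X, x' ⤳ ξ → x' = ξ := by
            intro x' hx'
            by_contra hne
            have h1 := (hδX x' ξ hx' hne).1
            have h2 := (hδX ξ x hc.1 hc.2).1
            have h3 := hle x'
            have h4 := hYle (f x')
            omega
          have hfξ : f ξ = genericPoint Y := map_eq_genericPoint_of_maximal f ξ hmax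
          have hS : (∀ x' : X, x' ⤳ ξ → x' = ξ) ∧ f ξ = genericPoint Y := ⟨hmax, hfξ⟩
          have hξδ := hmaxδ ξ hmax hfξ
          have hcond : ξ ⤳ x ∧ δX x + 1 = δX ξ := ⟨hc.1, by omega⟩
          simp only [hH', dif_pos hS]
          unfold Cyc.divFun
          rw [dif_pos hcond]
          have hr1 := restrict_frac f x ξ hc.1 hfξ.symm a b g hgab
          have hr1' : (f.residueFieldMap ξ) ((Y.residueFieldCongr hfξ.symm).hom g) =
              Cyc.specMap x ξ hc.1 ((f.stalkMap x).hom a) /
                Cyc.specMap x ξ hc.1 ((f.stalkMap x).hom b) := hr1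
          rw [hr1', ordAt_div x ξ hc.1 _ _ (specMap_stalkMap_ne_zero f x ξ hc.1 hfξ.symm a ha)
            (specMap_stalkMap_ne_zero f x ξ hc.1 hfξ.symm b hb), mul_sub]
        · rw [dif_neg hc, dif_neg hc, sub_zero]
          simp only [hH']
          split_ifs with hS
          · unfold Cyc.divFun
            have hns : ¬ (ξ ⤳ x ∧ δX x + 1 = δX ξ) := by
              rintro ⟨h1, h2⟩
              have hξx : ξ = x := by
                by_contra hne
                exact hc ⟨h1, hne⟩
              rw [hξx] at h2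
              omega
            rw [dif_neg hns, mul_zero]
          · rfl
      · refine (finite_specializes_ne x).subset (fun ξ hξ => ?_)
        rw [Function.mem_support] at hξ
        by_contra hc
        exact hξ (dif_neg hc)
      · refine (finite_specializes_ne x).subset (fun ξ hξ => ?_)
        rw [Function.mem_support] at hξ
        by_contra hc
        exact hξ (dif_neg hc)
    rw [hRHS]
    unfold Cyc.pullFun
    by_cases hx2 : δX x = δY (f x) + r
    · have hy1 : δY (f x) + 1 = δY (genericPoint Y) := by omega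
      rw [if_pos hx2]
      unfold Cyc.divFun
      rw [dif_pos ⟨hηy, hy1⟩]
      haveI : Ring.KrullDimLE 1 (Y.presheaf.stalk (f x)) :=
        Groth.Agent.Lib.T2H4.ZeroSecCap.krullDimLE_one_of_le δY hδY (f x) (fun z _ => by
          have h2 := hYle z
          omega)
      rw [hgab, ordAt_frac (f x) (genericPoint Y) rfl hηy a b ha hb,
        length_quot_span_stalkMap f x a, length_quot_span_stalkMap f x b, ENat.toNat_mul,
        ENat.toNat_mul]
      push_cast
      ring
    · rw [if_neg hx2]
      have hfx : f x = genericPoint Y := by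
        by_contra hne
        have h1 := (hδY (genericPoint Y) (f x) hηy (Ne.symm hne)).1
        have h2 := hle x
        omega
      have hinjY := specMap_injective (f x) (genericPoint Y) rfl hηy
      have ha' : Cyc.specMap (f x) (genericPoint Y) hηy a ≠ 0 :=
        fun h0 => ha (hinjY (h0.trans (map_zero _).symm))
      have hb' : Cyc.specMap (f x) (genericPoint Y) hηy b ≠ 0 :=
        fun h0 => hb (hinjY (h0.trans (map_zero _).symm))
      have hua : IsUnit ((f.stalkMap x).hom a) :=
        (isUnit_of_specMap_ne_zero _ _ hfx hηy a ha').map _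
      have hub : IsUnit ((f.stalkMap x).hom b) :=
        (isUnit_of_specMap_ne_zero _ _ hfx hηy b hb').map _
      rw [length_quot_span_of_isUnit _ hua, length_quot_span_of_isUnit _ hub]
      simp
  · -- both sides vanish
    have h0 : ∀ ξ : X, H' ξ = 0 := by
      intro ξ
      simp only [hH']
      split_ifs with hS
      · have hξδ := hmaxδ ξ hS.1 hS.2
        unfold Cyc.divFun
        have hns : ¬ (ξ ⤳ x ∧ δX x + 1 = δX ξ) := by
          rintro ⟨_, h2⟩
          omega
        rw [dif_neg hns, mul_zero]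
      · rfl
    rw [finsum_eq_zero_of_forall_eq_zero h0]
    unfold Cyc.pullFun
    split_ifs with hx2
    · unfold Cyc.divFun
      have hns : ¬ (genericPoint Y ⤳ f x ∧ δY (f x) + 1 = δY (genericPoint Y)) := by
        rintro ⟨_, h2⟩
        omega
      rw [dif_neg hns, zero_mul]
    · rfl

end main

end Groth.Agent.Lib.T2H4.PullDivGen
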