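import Mathlib
import Groth.Prelude.Def_Cyc
import Groth.Agent.Lib.T2H4PullDivFlatA
import Groth.Agent.Lib.T2H4PullDivGen
import Groth.Agent.Lib.T2H4PullComp
set_option backward.isDefEq.respectTransparency.types false

/-!
# Flat pullback of a principal divisor (helper4)

For `p : X' → X` flat and dimension functions with a shift `c` at the maximal points of the
fibres: `p^*(div_η g) = Σ_{ξ ↦ η, δ'(ξ) = δ(η) + c} mult(ξ) · div_ξ(g|_ξ)`.

Namespace `Groth.Agent.Lib.T2H4.PullDivFlat`.
-/

set_option autoImplicit false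
set_option linter.style.haveILetI false
universe u
open CategoryTheory AlgebraicGeometry TopologicalSpace Pointwise

namespace Groth.Agent.Lib.T2H4.PullDivFlat

open Groth.Agent.Lib.T2H4.LenMinPrimes Groth.Agent.Lib.T2H4.SecOrdGen
  Groth.Agent.Lib.T2H4.PullComp

section Prep

variable {X : Scheme.{u}}

/-- the order of the restriction of `a ∈ O_x` to `ξ` as the length of `O_x/(𝔮_ξ + (a))` -/
theorem ordAt_specMap_eq_length [IsLocallyNoetherian X] (x ξ : X) (h : ξ ⤳ x)
    [Ring.KrullDimLE 1 (X.presheaf.stalk x ⧸ (primeOf x ξ h).asIdeal)]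
    (a : X.presheaf.stalk x) (ha : a ∉ (primeOf x ξ h).asIdeal) :
    Cyc.ordAt x ξ h (Cyc.specMap x ξ h a) =
      ((Module.length (X.presheaf.stalk x)
        (X.presheaf.stalk x ⧸ ((primeOf x ξ h).asIdeal ⊔ Ideal.span {a}))).toNat : ℤ) := by
  rw [ordAt_specMap_eq x ξ h a ha, ← Groth.Agent.S1833.length_quot_eq_ord a (primeOf x ξ h).asIdeal,
    ← length_quot_smul_top_quotient]

theorem finite_specializes_support [IsLocallyNoetherian X] (x : X)
    (I : Ideal (X.presheaf.stalk x)) (h1 : ringKrullDim (X.presheaf.stalk x ⧸ I) ≤ 1) :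
    {ξ : X | ∃ h : ξ ⤳ x, ξ ≠ x ∧ I ≤ (primeOf x ξ h).asIdeal}.Finite := by
  have h1' : Module.supportDim (X.presheaf.stalk x) (X.presheaf.stalk x ⧸ I) ≤ 1 := by
    rw [Module.supportDim_quotient_eq_ringKrullDim]
    exact h1
  refine ((finite_support_ne_maximalIdeal (X.presheaf.stalk x ⧸ I) h1').image
    (X.fromSpecStalk x)).subset ?_
  rintro ξ ⟨h, hne, hI⟩
  refine ⟨primeOf x ξ h, ⟨?_, ?_⟩, fromSpecStalk_primeOf x ξ h⟩
  · rw [Module.mem_support_iff_of_finite, Ideal.annihilator_quotient]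
    exact hI
  · exact fun hm => hne ((primeOf_eq_maximalIdeal_iff x ξ h).1 hm)

/-- if `I` is not contained in the prime of `ξ` then `I O_ξ` is the unit ideal -/
theorem map_stalkSpecializes_eq_top (x ξ : X) (h : ξ ⤳ x) (I : Ideal (X.presheaf.stalk x))
    (hI : ¬ I ≤ (primeOf x ξ h).asIdeal) :
    Ideal.map (X.presheaf.stalkSpecializes h).hom I = ⊤ := by
  obtain ⟨r, hrI, hr⟩ := SetLike.not_le_iff_exists.1 hI
  have hr' : (X.presheaf.stalkSpecializes h).hom r ∉
      IsLocalRing.maximalIdeal (X.presheaf.stalk ξ) := fun hmem =>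
    hr ((mem_primeOf_iff' x ξ h r).2 hmem)
  exact Ideal.eq_top_of_isUnit_mem _ (Ideal.mem_map_of_mem _ hrI)
    (IsLocalRing.notMem_maximalIdeal.1 hr')

/-- the prime of `ξ` generates the maximal ideal of `O_ξ` -/
theorem map_stalkSpecializes_primeOf (x ξ : X) (h : ξ ⤳ x) :
    Ideal.map (X.presheaf.stalkSpecializes h).hom (primeOf x ξ h).asIdeal =
      IsLocalRing.maximalIdeal (X.presheaf.stalk ξ) := by
  letI algS := (X.presheaf.stalkSpecializes h).hom.toAlgebra
  haveI := isLocalization_stalk x ξ h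
  exact IsLocalization.AtPrime.map_eq_maximalIdeal (primeOf x ξ h).asIdeal (X.presheaf.stalk ξ)

variable {X' : Scheme.{u}} (p : X' ⟶ X)

/-- the ideal generated in `O_ξ` by the prime of `p ξ` in `O_{p x'}` is `𝔪_{p ξ} O_ξ` -/
theorem map_map_primeOf (x' ξ : X') (h : ξ ⤳ x') :
    Ideal.map (X'.presheaf.stalkSpecializes h).hom
        (Ideal.map (p.stalkMap x').hom (primeOf (p x') (p ξ) (h.map p.continuous)).asIdeal) =
      Ideal.map (p.stalkMap ξ).hom (IsLocalRing.maximalIdeal (X.presheaf.stalk (p ξ))) := by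
  rw [Ideal.map_map, ← map_stalkSpecializes_primeOf (p x') (p ξ) (h.map p.continuous),
    Ideal.map_map]
  congr 1
  have := Scheme.Hom.stalkSpecializes_stalkMap p ξ x' h
  exact (congrArg CommRingCat.Hom.hom this).symm

theorem restrict_frac (x' ξ : X') (h : ξ ⤳ x') (η : X) (e : η = p ξ) (hη : η ⤳ p x')
    (a b : X.presheaf.stalk (p x')) (g : X.residueField η)
    (hg : g = Cyc.specMap (p x') η hη a / Cyc.specMap (p x') η hη b) :
    (p.residueFieldMap ξ).hom ((X.residueFieldCongr e).hom g) =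
      Cyc.specMap x' ξ h ((p.stalkMap x').hom a) / Cyc.specMap x' ξ h ((p.stalkMap x').hom b) := by
  rw [hg, map_div₀, map_div₀,
    Groth.Agent.Lib.T2H4.PullDivGen.residueFieldCongr_specMap (p x') η (p ξ) e _
      (h.map p.continuous) a,
    Groth.Agent.Lib.T2H4.PullDivGen.residueFieldCongr_specMap (p x') η (p ξ) e _
      (h.map p.continuous) b,
    Groth.Agent.Lib.T2H4.OrdCongr.specMap_comm p x' ξ h a,
    Groth.Agent.Lib.T2H4.OrdCongr.specMap_comm p x' ξ h b]

end Prep

section Main

variable {X X' : Scheme.{u}} [IsLocallyNoetherian X] [IsLocallyNoetherian X'] (p : X' ⟶ X) [Flat p]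

omit [IsLocallyNoetherian X] in
open Classical in
/-- the main case of the pullback formula, as a difference of lengths -/
theorem sum_main_case (δ : X → ℤ) (δ' : X' → ℤ) (hδ : Cyc.IsDimFun X δ)
    (hδ' : Cyc.IsDimFun X' δ') (c : ℤ)
    (hc : ∀ x' : X', (∀ y, p y = p x' → y ⤳ x' → y = x') → δ' x' = δ (p x') + c)
    (η : X) (x' : X') (hηx : η ⤳ p x') (hx2 : δ' x' = δ (p x') + c) (hx1 : δ (p x') + 1 = δ η)
    (a : X.presheaf.stalk (p x')) (ha : a ∉ (primeOf (p x') η hηx).asIdeal) :
    Module.length (X'.presheaf.stalk x') (X'.presheaf.stalk x' ⧸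
      (Ideal.map (p.stalkMap x').hom (primeOf (p x') η hηx).asIdeal ⊔
        Ideal.span {(p.stalkMap x').hom a})) ≠ ⊤ ∧
    ((Module.length (X'.presheaf.stalk x') (X'.presheaf.stalk x' ⧸
      (Ideal.map (p.stalkMap x').hom (primeOf (p x') η hηx).asIdeal ⊔
        Ideal.span {(p.stalkMap x').hom a}))).toNat : ℤ) =
      ∑ᶠ ξ : X', if h : ξ ⤳ x' ∧ ξ ≠ x' then
        ((Module.length (X'.presheaf.stalk ξ)
          (X'.presheaf.stalk ξ ⧸ Ideal.map (X'.presheaf.stalkSpecializes h.1).hom
            (Ideal.map (p.stalkMap x').hom (primeOf (p x') η hηx).asIdeal))).toNat : ℤ) *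
          Cyc.ordAt x' ξ h.1 (Cyc.specMap x' ξ h.1 ((p.stalkMap x').hom a)) else 0 := by
  letI : Algebra (X.presheaf.stalk (p x')) (X'.presheaf.stalk x') := (p.stalkMap x').hom.toAlgebra
  haveI : Module.Flat (X.presheaf.stalk (p x')) (X'.presheaf.stalk x') := Flat.stalkMap p x'
  have hle := le_of_shift p δ δ' hδ' c hc
  refine length_quot_ideal_eq_finsum_specializes x' _ ?_ _ ?_
  · refine ringKrullDim_quotient_le_one δ' hδ' x' _ (fun ξ₀ h₀ hI => ?_)
    have h1 : (primeOf (p x') η hηx).asIdeal ≤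
        (primeOf (p x') (p ξ₀) (h₀.map p.continuous)).asIdeal := by
      rw [← comap_primeOf p x' ξ₀ h₀]
      exact Ideal.map_le_iff_le_comap.1 hI
    have h2 : η ⤳ p ξ₀ := (primeOf_le_iff (p x') η (p ξ₀) hηx (h₀.map p.continuous)).1 h1
    have h3 := delta_le_of_specializes δ hδ h2
    have h4 := hle ξ₀
    omega
  · haveI : (primeOf (p x') η hηx).asIdeal.IsPrime := (primeOf (p x') η hηx).2
    refine isSMulRegular_quotient_map_of_flat (primeOf (p x') η hηx).asIdeal a ?_
    intro z w hzw
    obtain ⟨z, rfl⟩ := Ideal.Quotient.mk_surjective z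
    obtain ⟨w, rfl⟩ := Ideal.Quotient.mk_surjective w
    rw [Ideal.Quotient.eq]
    have h5 : a * (z - w) ∈ (primeOf (p x') η hηx).asIdeal := by
      rw [mul_sub, ← Ideal.Quotient.eq]
      exact hzw
    exact ((primeOf (p x') η hηx).2.mem_or_mem h5).resolve_left ha

omit [IsLocallyNoetherian X] [IsLocallyNoetherian X'] [Flat p] in
theorem primeOf_congr (x ξ ξ' : X) (e : ξ = ξ') (h : ξ ⤳ x) (h' : ξ' ⤳ x) :
    primeOf x ξ h = primeOf x ξ' h' := by
  subst e
  rfl

omit [IsLocallyNoetherian X] [IsLocallyNoetherian X'] in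
/-- `ℓ(O_{x'}/J O_{x'}) = ℓ(O_x/J) · ℓ(O_{x'}/𝔪_x O_{x'})` for a flat morphism -/
theorem length_quot_map_stalkMap (x' : X') (J : Ideal (X.presheaf.stalk (p x'))) :
    Module.length (X'.presheaf.stalk x') (X'.presheaf.stalk x' ⧸ Ideal.map (p.stalkMap x').hom J) =
      Module.length (X.presheaf.stalk (p x')) (X.presheaf.stalk (p x') ⧸ J) *
      Module.length (X'.presheaf.stalk x') (X'.presheaf.stalk x' ⧸
        Ideal.map (p.stalkMap x').hom (IsLocalRing.maximalIdeal (X.presheaf.stalk (p x')))) := by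
  letI : Algebra (X.presheaf.stalk (p x')) (X'.presheaf.stalk x') := (p.stalkMap x').hom.toAlgebra
  haveI : IsLocalHom (algebraMap (X.presheaf.stalk (p x')) (X'.presheaf.stalk x')) :=
    inferInstanceAs (IsLocalHom (p.stalkMap x').hom)
  haveI : Module.Flat (X.presheaf.stalk (p x')) (X'.presheaf.stalk x') := Flat.stalkMap p x'
  exact length_quot_map_of_flat (X.presheaf.stalk (p x')) (X'.presheaf.stalk x') J

omit [IsLocallyNoetherian X] [IsLocallyNoetherian X'] [Flat p] in
theorem specMap_stalkMap_ne_zero (x' ξ : X') (h : ξ ⤳ x') (a : X.presheaf.stalk (p x'))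
    (ha : a ∉ (primeOf (p x') (p ξ) (h.map p.continuous)).asIdeal) :
    Cyc.specMap x' ξ h ((p.stalkMap x').hom a) ≠ 0 := by
  intro h0
  apply ha
  rw [← comap_primeOf p x' ξ h, Ideal.mem_comap, mem_primeOf_iff]
  exact h0

open Classical in
/-- **flat pullback of a principal divisor**:
`p^*(div_η g) = Σ_{ξ ↦ η, δ'(ξ) = δ(η) + c} ℓ(O_ξ/𝔪_η O_ξ) · div_ξ(g|_ξ)` -/
theorem pullFun_divFun (δ : X → ℤ) (δ' : X' → ℤ) (hδ : Cyc.IsDimFun X δ)
    (hδ' : Cyc.IsDimFun X' δ') (c : ℤ)
    (hc : ∀ x' : X', (∀ y, p y = p x' → y ⤳ x' → y = x') → δ' x' = δ (p x') + c)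
    (η : X) (g : X.residueField η) (hg : g ≠ 0) (x' : X') :
    Cyc.pullFun p δ' δ c (Cyc.divFun δ η g) x' =
      ∑ᶠ ξ : X', if h : p ξ = η ∧ δ' ξ = δ η + c then
        ((Module.length (X'.presheaf.stalk ξ) (X'.presheaf.stalk ξ ⧸
          Ideal.map (p.stalkMap ξ).hom
            (IsLocalRing.maximalIdeal (X.presheaf.stalk (p ξ))))).toNat : ℤ) *
          Cyc.divFun δ' ξ ((p.residueFieldMap ξ).hom ((X.residueFieldCongr h.1.symm).hom g)) x'
      else 0 := by
  have hle := le_of_shift p δ δ' hδ' c hc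
  set T : X' → ℤ := fun ξ => if h : p ξ = η ∧ δ' ξ = δ η + c then
        ((Module.length (X'.presheaf.stalk ξ) (X'.presheaf.stalk ξ ⧸
          Ideal.map (p.stalkMap ξ).hom
            (IsLocalRing.maximalIdeal (X.presheaf.stalk (p ξ))))).toNat : ℤ) *
          Cyc.divFun δ' ξ ((p.residueFieldMap ξ).hom ((X.residueFieldCongr h.1.symm).hom g)) x'
      else 0 with hT
  by_cases hηx : η ⤳ p x'
  swap
  · -- `η` does not specialize to `p x'`
    have hL : Cyc.pullFun p δ' δ c (Cyc.divFun δ η g) x' = 0 := by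
      unfold Cyc.pullFun Cyc.divFun
      rw [dif_neg (fun h => hηx h.1)]
      simp
    rw [hL]
    symm
    apply finsum_eq_zero_of_forall_eq_zero
    intro ξ
    beta_reduce
    split_ifs with h
    · unfold Cyc.divFun
      rw [dif_neg, mul_zero]
      rintro ⟨hsp, -⟩
      apply hηx
      rw [← h.1]
      exact hsp.map p.continuous
    · rfl
  by_cases hB : δ' x' + 1 = δ η + c
  swap
  · -- wrong dimension: both sides vanish
    have hL : Cyc.pullFun p δ' δ c (Cyc.divFun δ η g) x' = 0 := by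
      unfold Cyc.pullFun
      split_ifs with hx2
      · unfold Cyc.divFun
        rw [dif_neg (by rintro ⟨_, h2⟩; omega), zero_mul]
      · rfl
    rw [hL]
    symm
    apply finsum_eq_zero_of_forall_eq_zero
    intro ξ
    beta_reduce
    split_ifs with h
    · unfold Cyc.divFun
      rw [dif_neg, mul_zero]
      rintro ⟨_, h2⟩
      have := h.2
      omega
    · rfl
  obtain ⟨a, b, hb0, hgab⟩ := exists_frac (p x') η hηx g
  have ha0 : Cyc.specMap (p x') η hηx a ≠ 0 := by
    intro h0
    rw [h0, zero_div] at hgab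
    exact hg hgab
  have ha : a ∉ (primeOf (p x') η hηx).asIdeal := fun h => ha0 ((mem_primeOf_iff _ _ _ _).1 h)
  have hb : b ∉ (primeOf (p x') η hηx).asIdeal := fun h => hb0 ((mem_primeOf_iff _ _ _ _).1 h)
  by_cases hx2 : δ' x' = δ (p x') + c
  · -- the main case
    have hx1 : δ (p x') + 1 = δ η := by omega
    obtain ⟨hfa, hA⟩ := sum_main_case p δ δ' hδ hδ' c hc η x' hηx hx2 hx1 a ha
    obtain ⟨hfb, hBB⟩ := sum_main_case p δ δ' hδ hδ' c hc η x' hηx hx2 hx1 b hb
    have hdim' : ringKrullDim (X'.presheaf.stalk x' ⧸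
        Ideal.map (p.stalkMap x').hom (primeOf (p x') η hηx).asIdeal) ≤ 1 := by
      refine ringKrullDim_quotient_le_one δ' hδ' x' _ (fun ξ₀ h₀ hI => ?_)
      have h1 : (primeOf (p x') η hηx).asIdeal ≤
          (primeOf (p x') (p ξ₀) (h₀.map p.continuous)).asIdeal := by
        rw [← comap_primeOf p x' ξ₀ h₀]
        exact Ideal.map_le_iff_le_comap.1 hI
      have h2 : η ⤳ p ξ₀ := (primeOf_le_iff (p x') η (p ξ₀) hηx (h₀.map p.continuous)).1 h1
      have h3 := delta_le_of_specializes δ hδ h2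
      have h4 := hle ξ₀
      omega
    have hfinS := finite_specializes_support x' _ hdim'
    have hsuppfin : ∀ a' : X'.presheaf.stalk x', (Function.support fun ξ : X' =>
        if h : ξ ⤳ x' ∧ ξ ≠ x' then
          ((Module.length (X'.presheaf.stalk ξ)
            (X'.presheaf.stalk ξ ⧸ Ideal.map (X'.presheaf.stalkSpecializes h.1).hom
              (Ideal.map (p.stalkMap x').hom (primeOf (p x') η hηx).asIdeal))).toNat : ℤ) *
            Cyc.ordAt x' ξ h.1 (Cyc.specMap x' ξ h.1 a') else 0).Finite := by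
      intro a'
      refine hfinS.subset (fun ξ hξ => ?_)
      rw [Function.mem_support] at hξ
      by_cases hcξ : ξ ⤳ x' ∧ ξ ≠ x'
      · refine ⟨hcξ.1, hcξ.2, ?_⟩
        by_contra hsupp
        apply hξ
        rw [dif_pos hcξ, map_stalkSpecializes_eq_top x' ξ hcξ.1 _ hsupp]
        have : Subsingleton (X'.presheaf.stalk ξ ⧸ (⊤ : Ideal (X'.presheaf.stalk ξ))) :=
          Ideal.Quotient.subsingleton_iff.2 rfl
        rw [Module.length_eq_zero]
        simp
      · exact absurd (dif_neg hcξ) hξ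
    have hRHS : ∑ᶠ ξ : X', T ξ =
        ((Module.length (X'.presheaf.stalk x') (X'.presheaf.stalk x' ⧸
          (Ideal.map (p.stalkMap x').hom (primeOf (p x') η hηx).asIdeal ⊔
            Ideal.span {(p.stalkMap x').hom a}))).toNat : ℤ) -
        ((Module.length (X'.presheaf.stalk x') (X'.presheaf.stalk x' ⧸
          (Ideal.map (p.stalkMap x').hom (primeOf (p x') η hηx).asIdeal ⊔
            Ideal.span {(p.stalkMap x').hom b}))).toNat : ℤ) := by
      rw [hA, hBB, ← finsum_sub_distrib (hsuppfin _) (hsuppfin _)]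
      refine finsum_congr (fun ξ => ?_)
      by_cases hcξ : ξ ⤳ x' ∧ ξ ≠ x'
      · rw [dif_pos hcξ, dif_pos hcξ]
        by_cases hsupp : Ideal.map (p.stalkMap x').hom (primeOf (p x') η hηx).asIdeal ≤
            (primeOf x' ξ hcξ.1).asIdeal
        · have h1 : (primeOf (p x') η hηx).asIdeal ≤
              (primeOf (p x') (p ξ) (hcξ.1.map p.continuous)).asIdeal := by
            rw [← comap_primeOf p x' ξ hcξ.1]
            exact Ideal.map_le_iff_le_comap.1 hsupp
          have h2 : η ⤳ p ξ :=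
            (primeOf_le_iff (p x') η (p ξ) hηx (hcξ.1.map p.continuous)).1 h1
          have h3 := (hδ' ξ x' hcξ.1 hcξ.2).1
          have hpξ : p ξ = η := by
            by_contra hne
            have h4 := (hδ η (p ξ) h2 (Ne.symm hne)).1
            have h5 := hle ξ
            omega
          have hξδ : δ' ξ = δ η + c := by
            have h5 := hle ξ
            rw [hpξ] at h5
            omega
          have hS : p ξ = η ∧ δ' ξ = δ η + c := ⟨hpξ, hξδ⟩
          have hpr : primeOf (p x') η hηx = primeOf (p x') (p ξ) (hcξ.1.map p.continuous) :=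
            primeOf_congr (p x') η (p ξ) hpξ.symm _ _
          simp only [hT, dif_pos hS]
          unfold Cyc.divFun
          rw [dif_pos ⟨hcξ.1, by omega⟩]
          have hr1 : (p.residueFieldMap ξ).hom ((X.residueFieldCongr hpξ.symm).hom g) =
              Cyc.specMap x' ξ hcξ.1 ((p.stalkMap x').hom a) /
                Cyc.specMap x' ξ hcξ.1 ((p.stalkMap x').hom b) :=
            restrict_frac p x' ξ hcξ.1 η hpξ.symm hηx a b g hgab
          rw [hr1, ordAt_div x' ξ hcξ.1 _ _
            (specMap_stalkMap_ne_zero p x' ξ hcξ.1 a (by rw [← hpr]; exact ha))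
            (specMap_stalkMap_ne_zero p x' ξ hcξ.1 b (by rw [← hpr]; exact hb)), mul_sub, hpr,
            map_map_primeOf p x' ξ hcξ.1]
        · have htop := map_stalkSpecializes_eq_top x' ξ hcξ.1 _ hsupp
          have hsub : Subsingleton (X'.presheaf.stalk ξ ⧸ (⊤ : Ideal (X'.presheaf.stalk ξ))) :=
            Ideal.Quotient.subsingleton_iff.2 rfl
          rw [htop, Module.length_eq_zero]
          have hnS : ¬ (p ξ = η ∧ δ' ξ = δ η + c) := by
            rintro ⟨hpξ, -⟩
            apply hsupp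
            rw [Ideal.map_le_iff_le_comap, comap_primeOf p x' ξ hcξ.1,
              primeOf_congr (p x') η (p ξ) hpξ.symm hηx (hcξ.1.map p.continuous)]
          simp only [hT, dif_neg hnS]
          simp
      · rw [dif_neg hcξ, dif_neg hcξ, sub_zero]
        simp only [hT]
        split_ifs with hS
        · unfold Cyc.divFun
          rw [dif_neg, mul_zero]
          rintro ⟨h1, h2⟩
          have hξx : ξ = x' := by
            by_contra hne
            exact hcξ ⟨h1, hne⟩
          rw [hξx] at h2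
          omega
        · rfl
    rw [hRHS]
    unfold Cyc.pullFun
    rw [if_pos hx2]
    unfold Cyc.divFun
    rw [dif_pos ⟨hηx, hx1⟩]
    haveI : Ring.KrullDimLE 1 (X.presheaf.stalk (p x') ⧸ (primeOf (p x') η hηx).asIdeal) := by
      refine Ring.krullDimLE_iff.2 (ringKrullDim_quotient_le_one δ hδ (p x') _
        (fun ξ₀ h₀ hI => ?_))
      have h2 : η ⤳ ξ₀ := (primeOf_le_iff (p x') η ξ₀ hηx h₀).1 hI
      have h3 := delta_le_of_specializes δ hδ h2
      omega
    rw [hgab, ordAt_div _ _ _ _ _ ha0 hb0, ordAt_specMap_eq_length (p x') η hηx a ha,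
      ordAt_specMap_eq_length (p x') η hηx b hb]
    have hfl : ∀ a' : X.presheaf.stalk (p x'),
        Module.length (X'.presheaf.stalk x') (X'.presheaf.stalk x' ⧸
          (Ideal.map (p.stalkMap x').hom (primeOf (p x') η hηx).asIdeal ⊔
            Ideal.span {(p.stalkMap x').hom a'})) =
        Module.length (X.presheaf.stalk (p x')) (X.presheaf.stalk (p x') ⧸
          ((primeOf (p x') η hηx).asIdeal ⊔ Ideal.span {a'})) *
        Module.length (X'.presheaf.stalk x') (X'.presheaf.stalk x' ⧸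
          Ideal.map (p.stalkMap x').hom
            (IsLocalRing.maximalIdeal (X.presheaf.stalk (p x')))) := by
      intro a'
      have h := length_quot_map_stalkMap p x' ((primeOf (p x') η hηx).asIdeal ⊔ Ideal.span {a'})
      rw [Ideal.map_sup, Ideal.map_span, Set.image_singleton] at h
      exact h
    rw [hfl a, hfl b, ENat.toNat_mul, ENat.toNat_mul]
    push_cast
    ring
  · -- `x'` is not maximal in its fibre: then `η = p x'` and all orders vanish
    have hηeq : η = p x' := by
      by_contra hne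
      have h1 := (hδ η (p x') hηx hne).1
      have h2 := hle x'
      omega
    have hL : Cyc.pullFun p δ' δ c (Cyc.divFun δ η g) x' = 0 := by
      unfold Cyc.pullFun
      rw [if_neg hx2]
    rw [hL]
    symm
    apply finsum_eq_zero_of_forall_eq_zero
    intro ξ
    beta_reduce
    split_ifs with hS
    · unfold Cyc.divFun
      split_ifs with hcond
      · have hm : (primeOf (p x') η hηx).asIdeal =
            IsLocalRing.maximalIdeal (X.presheaf.stalk (p x')) :=
          (primeOf_eq_maximalIdeal_iff (p x') η hηx).2 hηeq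
        have hua : IsUnit a := by
          rw [hm] at ha
          exact IsLocalRing.notMem_maximalIdeal.1 ha
        have hub : IsUnit b := by
          rw [hm] at hb
          exact IsLocalRing.notMem_maximalIdeal.1 hb
        have hr1 : (p.residueFieldMap ξ).hom ((X.residueFieldCongr hS.1.symm).hom g) =
            Cyc.specMap x' ξ hcond.1 ((p.stalkMap x').hom a) /
              Cyc.specMap x' ξ hcond.1 ((p.stalkMap x').hom b) :=
          restrict_frac p x' ξ hcond.1 η hS.1.symm hηx a b g hgab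
        have hua' : IsUnit ((p.stalkMap x').hom a) := hua.map _
        have hub' : IsUnit ((p.stalkMap x').hom b) := hub.map _
        have e1 := Groth.Agent.S8923.ordAt_unit x' ξ hcond.1 _ hua'
        have e2 := Groth.Agent.S8923.ordAt_unit x' ξ hcond.1 _ hub'
        have e1' : Cyc.ordAt x' ξ hcond.1 (Cyc.specMap x' ξ hcond.1 ((p.stalkMap x').hom a)) = 0 :=
          e1
        have e2' : Cyc.ordAt x' ξ hcond.1 (Cyc.specMap x' ξ hcond.1 ((p.stalkMap x').hom b)) = 0 :=
          e2
        rw [hr1, ordAt_div x' ξ hcond.1 _ _ ((hua'.map (Cyc.specMap x' ξ hcond.1)).ne_zero)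
          ((hub'.map (Cyc.specMap x' ξ hcond.1)).ne_zero), e1', e2']
        simp
      · rw [mul_zero]
    · rfl

end Main

end Groth.Agent.Lib.T2H4.PullDivFlat
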