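import Mathlib
import Groth.Prelude.Def_C1
import Groth.Prelude.Def_Cyc
import Groth.Agent.Lib.T2H4GysinFlatA
import Groth.Agent.Lib.T2H4ZeroSecCap
import Groth.Agent.Lib.T2H4PullDivFlatB
import Groth.Agent.Lib.T2H4LenMinPrimesD
import Groth.Agent.Lib.T2H4PushPullB
import Groth.Agent.Lib.Helper4DimFormulaAN
set_option backward.isDefEq.respectTransparency.types false

/-!
# `c_1(L) ∩ p^*α` at a point of a relative effective Cartier divisor (helper4)

Namespace `Groth.Agent.Lib.T2H4.GysinFlat`.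
-/

set_option autoImplicit false
set_option linter.style.haveILetI false
universe u
open CategoryTheory CategoryTheory.Limits AlgebraicGeometry TopologicalSpace Opposite

namespace Groth.Agent.Lib.T2H4.GysinFlat

open Groth.Agent.Lib.T2H4.SecOrdGen Groth.Agent.Lib.T2H4.LenMinPrimes
  Groth.Agent.Lib.T2H4.PullDivFlat Groth.Agent.Lib.T2H4.PullComp
  Groth.Agent.Lib.T2H4.ZeroSecCap Groth.Agent.Lib.T2H4.PushPull

variable {X X' : Scheme.{u}} [IsLocallyNoetherian X'] (p : X' ⟶ X) [Flat p]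

/-- the ideal `𝔪_{p x} O_{X',x}` -/
noncomputable abbrev fibIdeal (x : X') : Ideal (X'.presheaf.stalk x) :=
  Ideal.map (p.stalkMap x).hom (IsLocalRing.maximalIdeal (X.presheaf.stalk (p x)))

omit [IsLocallyNoetherian X'] [Flat p] in
theorem fibIdeal_le_primeOf_iff (x ξ : X') (h : ξ ⤳ x) :
    fibIdeal p x ≤ (primeOf x ξ h).asIdeal ↔ p ξ = p x := by
  rw [fibIdeal, Ideal.map_le_iff_le_comap, comap_primeOf p x ξ h]
  constructor
  · intro hle
    have h1 : (primeOf (p x) (p ξ) (h.map p.continuous)).asIdeal =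
        IsLocalRing.maximalIdeal (X.presheaf.stalk (p x)) :=
      le_antisymm (IsLocalRing.le_maximalIdeal (primeOf (p x) (p ξ) _).2.ne_top) hle
    exact (primeOf_eq_maximalIdeal_iff (p x) (p ξ) _).1 h1
  · intro he
    rw [(primeOf_eq_maximalIdeal_iff (p x) (p ξ) (h.map p.continuous)).2 he]

omit [IsLocallyNoetherian X'] [Flat p] in
theorem map_sp_fibIdeal (x ξ : X') (h : ξ ⤳ x) (he : p ξ = p x) :
    Ideal.map (X'.presheaf.stalkSpecializes h).hom (fibIdeal p x) = fibIdeal p ξ := by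
  rw [fibIdeal, ← (primeOf_eq_maximalIdeal_iff (p x) (p ξ) (h.map p.continuous)).2 he,
    map_map_primeOf p x ξ h]

omit [Flat p] in
open Classical in
/-- **`c_1(L) ∩ p^*α` at a point `x` of codimension one in its fibre**, where the section `s` is a
nonzerodivisor on the fibre: `α(p x) · ℓ(O_x/(𝔪_{p x} O_x + (f)))`, `s = f · (generator)` -/
theorem c1CapFun_pullFun_apply (δ : X → ℤ) (δ' : X' → ℤ) (hδ : Cyc.IsDimFun X δ)
    (hδ' : Cyc.IsDimFun X' δ') (c : ℤ)
    (hc : ∀ x' : X', (∀ y, p y = p x' → y ⤳ x' → y = x') → δ' x' = δ (p x') + c)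
    (L : X'.Modules) (s : L.presheaf.obj (Opposite.op ⊤))
    (w : (ξ : X') → Cyc.secFibre L ξ) (α : X → ℤ) (x : X') (hx : δ' x + 1 = δ (p x) + c)
    (a : L.presheaf.stalk x) (ha : Function.Bijective (fun c : X'.presheaf.stalk x => c • a))
    (haξ : ∀ (ξ : X') (h : ξ ⤳ x),
      Function.Bijective (fun c : X'.presheaf.stalk ξ => c • sp L h a))
    (f : X'.presheaf.stalk x) (hf : (L.presheaf.germ ⊤ x trivial) s = f • a)
    (hreg : IsSMulRegular (X'.presheaf.stalk x ⧸ fibIdeal p x) f) :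
    Cyc.c1CapFun δ' L (Cyc.pullFun p δ' δ c α) (Cyc.gysinChoice L s w) x =
      α (p x) * ((Module.length (X'.presheaf.stalk x)
        (X'.presheaf.stalk x ⧸ (fibIdeal p x ⊔ Ideal.span {f}))).toNat : ℤ) := by
  have hle := le_of_shift p δ δ' hδ' c hc
  have hdim : ringKrullDim (X'.presheaf.stalk x ⧸ fibIdeal p x) ≤ 1 := by
    refine ringKrullDim_quotient_le_one δ' hδ' x _ (fun ξ₀ h₀ hI => ?_)
    have h1 := (fibIdeal_le_primeOf_iff p x ξ₀ h₀).1 hI
    have h2 := hle ξ₀
    rw [h1] at h2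
    omega
  have hsdim : Module.supportDim (X'.presheaf.stalk x) (X'.presheaf.stalk x ⧸ fibIdeal p x) ≤ 1 := by
    rw [Module.supportDim_quotient_eq_ringKrullDim]
    exact hdim
  rw [(length_quot_ideal_eq_finsum_specializes x (fibIdeal p x) hdim f hreg).2, mul_finsum]
  unfold Cyc.c1CapFun
  refine finsum_congr (fun ξ => ?_)
  by_cases hcξ : ξ ⤳ x ∧ ξ ≠ x
  · rw [dif_pos hcξ]
    have hlt := (hδ' ξ x hcξ.1 hcξ.2).1
    by_cases hI : fibIdeal p x ≤ (primeOf x ξ hcξ.1).asIdeal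
    · have hpξ := (fibIdeal_le_primeOf_iff p x ξ hcξ.1).1 hI
      have h2 := hle ξ
      rw [hpξ] at h2
      have hξδ : δ' ξ = δ (p ξ) + c := by rw [hpξ]; omega
      have hcond : ξ ⤳ x ∧ δ' x + 1 = δ' ξ := ⟨hcξ.1, by rw [hpξ] at hξδ; omega⟩
      -- `f` does not vanish at `ξ`
      have hfq : f ∉ (primeOf x ξ hcξ.1).asIdeal := by
        refine notMem_of_isSMulRegular (X'.presheaf.stalk x ⧸ fibIdeal p x) hsdim f hreg
          (primeOf x ξ hcξ.1) ?_ (fun hm => hcξ.2 ((primeOf_eq_maximalIdeal_iff x ξ hcξ.1).1 hm))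
        rw [Module.mem_support_iff_of_finite, Ideal.annihilator_quotient]
        exact hI
      have hfne : X'.residue ξ (spO hcξ.1 f) ≠ 0 := fun h0 =>
        hfq ((mem_primeOf_iff x ξ hcξ.1 f).2 h0)
      have hgerm : (L.presheaf.germ ⊤ ξ trivial) s = spO hcξ.1 f • sp L hcξ.1 a := by
        rw [← sp_smul, ← hf]
        exact (Groth.Agent.Lib.T2H4.HomShGlobal.stalkSpecializes_germ L hcξ.1
          (show x ∈ (⊤ : X'.Opens) from trivial) s).symm
      have hv : Cyc.gysinChoice L s w ξ =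
          (Submodule.Quotient.mk (spO hcξ.1 f • sp L hcξ.1 a) : Cyc.secFibre L ξ) := by
        unfold Cyc.gysinChoice
        rw [hgerm, if_pos]
        rw [Ne, mk_smul_eq_zero_iff L _ (haξ ξ hcξ.1)]
        exact hfne
      unfold Cyc.secDivFun
      rw [dif_pos hcond, hv, secOrdAt_eq L hcξ.1 a ha (haξ ξ hcξ.1), pullFun_eq, if_pos hξδ,
        map_sp_fibIdeal p x ξ hcξ.1 hpξ, hpξ]
      unfold mult
      have : X'.residue ξ (spO hcξ.1 f) = Cyc.specMap x ξ hcξ.1 f := rfl
      rw [this, mul_assoc]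
    · have htop := map_stalkSpecializes_eq_top x ξ hcξ.1 _ hI
      have hsub : Subsingleton (X'.presheaf.stalk ξ ⧸ (⊤ : Ideal (X'.presheaf.stalk ξ))) :=
        Ideal.Quotient.subsingleton_iff.2 rfl
      rw [htop, Module.length_eq_zero]
      have hpξ : p ξ ≠ p x := fun he => hI ((fibIdeal_le_primeOf_iff p x ξ hcξ.1).2 he)
      have hlt2 := (hδ (p ξ) (p x) (hcξ.1.map p.continuous) hpξ).1
      simp only [ENat.toNat_zero, Nat.cast_zero, zero_mul, mul_zero]
      unfold Cyc.secDivFun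
      by_cases hcond : ξ ⤳ x ∧ δ' x + 1 = δ' ξ
      · rw [pullFun_eq, if_neg (by have := hcond.2; omega), zero_mul]
      · rw [dif_neg hcond, mul_zero]
  · rw [dif_neg hcξ, mul_zero]
    unfold Cyc.secDivFun
    rw [dif_neg, mul_zero]
    rintro ⟨hsp, hd⟩
    apply hcξ
    refine ⟨hsp, fun he => ?_⟩
    rw [he] at hd
    omega

variable {D : Scheme.{u}} (i : D ⟶ X')

omit [IsLocallyNoetherian X'] [Flat p] in
/-- the multiplicity of the flat pullback along `D ⟶ X' ⟶ X` at a point of a closed subscheme -/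
theorem length_comp_closedImmersion [IsClosedImmersion i] (d : D) :
    Module.length (D.presheaf.stalk d) (D.presheaf.stalk d ⧸
      Ideal.map ((i ≫ p).stalkMap d).hom
        (IsLocalRing.maximalIdeal (X.presheaf.stalk ((i ≫ p) d)))) =
    Module.length (X'.presheaf.stalk (i d)) (X'.presheaf.stalk (i d) ⧸
      (fibIdeal p (i d) ⊔ RingHom.ker (i.stalkMap d).hom)) := by
  rw [← length_quot_map_of_surjective (i.stalkMap d).hom (i.stalkMap_surjective d)
    (fibIdeal p (i d)), fibIdeal, Ideal.map_map]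
  have h1 : ((i ≫ p).stalkMap d).hom = (i.stalkMap d).hom.comp (p.stalkMap (i d)).hom := by
    rw [Scheme.Hom.stalkMap_comp]
    rfl
  rw [h1]
  rfl

omit [IsLocallyNoetherian X'] [Flat p] in
/-- the induced dimension function on a closed subscheme -/
theorem deltaCompat_comp_closedImmersion [IsClosedImmersion i] [LocallyOfFiniteType p]
    (δ : X → ℤ) (δ' : X' → ℤ) (hp : Cyc.DeltaCompat p δ' δ) :
    Cyc.DeltaCompat (i ≫ p) (fun d => δ' (i d)) δ := by
  intro d
  refine ⟨Groth.Agent.Lib.Helper4.DimFormula.ptTrdeg (i ≫ p) d,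
    Groth.Agent.Lib.Helper4.DimFormula.trdeg_eq_ptTrdeg (i ≫ p) d, ?_⟩
  have h1 := delta_eq_add_ptTrdeg p δ' δ hp (i d)
  have h2 := Groth.Agent.Lib.Helper4.DimFormula.ptTrdeg_comp_of_isPreimmersion i p d
  change δ' (i d) = δ (p (i d)) + _
  rw [h1, h2]

end Groth.Agent.Lib.T2H4.GysinFlat
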