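import Mathlib
import Groth.Prelude.Def_Cyc
import Groth.Agent.Lib.T2H4PullDivFlatB
import Groth.Agent.Lib.Helper4VarDim2
set_option backward.isDefEq.respectTransparency.types false

/-!
# Flat pullback preserves rational equivalence (helper4)

Namespace `Groth.Agent.Lib.T2H4.PullDivFlat`.
-/

set_option autoImplicit false
set_option linter.style.haveILetI false
universe u
open CategoryTheory AlgebraicGeometry TopologicalSpace

namespace Groth.Agent.Lib.T2H4.PullDivFlat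

open Groth.Agent.Lib.T2H4.LenMinPrimes Groth.Agent.Lib.T2H4.SecOrdGen
  Groth.Agent.Lib.T2H4.PullComp Groth.Agent.Lib.Helper4.VarDim

section MaxLF

variable {Y : Scheme.{u}}

/-- the maximal points of a closed subset of a locally Noetherian scheme are locally finite -/
theorem exists_nhds_finite_maximal_of_isClosed [IsLocallyNoetherian Y] (Z : Set Y)
    (hZ : IsClosed Z) (y : Y) :
    ∃ V : Y.Opens, y ∈ V ∧
      {η : Y | η ∈ V ∧ η ∈ Z ∧ ∀ η' : Y, η' ∈ Z → η' ⤳ η → η' = η}.Finite := by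
  obtain ⟨V, hV, hyV, -⟩ := exists_isAffineOpen_mem_and_subset (U := ⊤) (x := y) (by simp)
  haveI : IsNoetherianRing Γ(Y, V) := IsLocallyNoetherian.component_noetherian ⟨V, hV⟩
  refine ⟨V, hyV, ?_⟩
  set Z' : Set (PrimeSpectrum Γ(Y, V)) := hV.fromSpec ⁻¹' Z with hZ'
  have hZ'c : IsClosed Z' := hZ.preimage hV.fromSpec.continuous
  set J : Ideal Γ(Y, V) := PrimeSpectrum.vanishingIdeal Z' with hJ
  have hZJ : PrimeSpectrum.zeroLocus (J : Set Γ(Y, V)) = Z' := by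
    rw [hJ, PrimeSpectrum.zeroLocus_vanishingIdeal_eq_closure, hZ'c.closure_eq]
  have hfin : {q : PrimeSpectrum Γ(Y, V) | q.asIdeal ∈ J.minimalPrimes}.Finite := by
    refine Set.Finite.preimage ?_ (Ideal.finite_minimalPrimes_of_isNoetherianRing Γ(Y, V) J)
    intro p _ q _ h
    exact PrimeSpectrum.ext h
  refine (hfin.image hV.fromSpec).subset ?_
  rintro η ⟨hηV, hηZ, hmax⟩
  refine ⟨hV.primeIdealOf ⟨η, hηV⟩, ?_, hV.fromSpec_primeIdealOf ⟨η, hηV⟩⟩
  have hmem : hV.primeIdealOf ⟨η, hηV⟩ ∈ Z' := by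
    change hV.fromSpec (hV.primeIdealOf ⟨η, hηV⟩) ∈ Z
    rw [hV.fromSpec_primeIdealOf ⟨η, hηV⟩]
    exact hηZ
  refine ⟨⟨(hV.primeIdealOf ⟨η, hηV⟩).2, ?_⟩, fun Q hQ hQq => ?_⟩
  · rw [← hZJ] at hmem
    exact (PrimeSpectrum.mem_zeroLocus _ _).1 hmem
  · have hQV := fromSpec_mem hV ⟨Q, hQ.1⟩
    have hQZ : hV.fromSpec ⟨Q, hQ.1⟩ ∈ Z := by
      have : (⟨Q, hQ.1⟩ : PrimeSpectrum Γ(Y, V)) ∈ PrimeSpectrum.zeroLocus (J : Set Γ(Y, V)) :=
        (PrimeSpectrum.mem_zeroLocus _ _).2 hQ.2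
      rw [hZJ] at this
      exact this
    have h1 : hV.fromSpec ⟨Q, hQ.1⟩ ⤳ η := by
      rw [← primeIdealOf_le_iff hV _ _ hQV hηV, primeIdealOf_fromSpec hV _ hQV]
      exact hQq
    have h2 := hmax _ hQZ h1
    have h3 : (⟨Q, hQ.1⟩ : PrimeSpectrum Γ(Y, V)) = hV.primeIdealOf ⟨η, hηV⟩ := by
      rw [← primeIdealOf_fromSpec hV ⟨Q, hQ.1⟩ hQV]
      congr 1
      exact Subtype.ext h2
    rw [← h3]

end MaxLF

section Family

variable {X X' : Scheme.{u}} (p : X' ⟶ X)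

/-- points over `η` at which the dimension function has the maximal value are maximal points of
the closed subset `p⁻¹(closure η)` -/
theorem maximal_in_preimage_closure (δ : X → ℤ) (δ' : X' → ℤ) (hδ' : Cyc.IsDimFun X' δ') (c : ℤ)
    (hc : ∀ x' : X', (∀ y, p y = p x' → y ⤳ x' → y = x') → δ' x' = δ (p x') + c)
    (η : X) (ζ : X') (h1 : p ζ = η) (h2 : δ' ζ = δ η + c) :
    ζ ∈ p ⁻¹' closure {η} ∧ ∀ ζ' : X', ζ' ∈ p ⁻¹' closure {η} → ζ' ⤳ ζ → ζ' = ζ := by
  refine ⟨?_, fun ζ' hζ' hsp => ?_⟩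
  · change p ζ ∈ closure {η}
    rw [h1]
    exact subset_closure rfl
  · have h3 : η ⤳ p ζ' := specializes_iff_mem_closure.2 hζ'
    have h4 : p ζ' ⤳ η := by
      rw [← h1]
      exact hsp.map p.continuous
    have h5 : p ζ' = p ζ := by
      rw [h1]
      exact (h4.antisymm h3).eq
    have h6 : δ' ζ = δ (p ζ) + c := by rw [h1]; exact h2
    exact (eq_shift_iff p δ δ' hδ' c hc ζ).1 h6 ζ' h5 hsp

/-- the family of the points over the `ξ i` of maximal dimension is locally finite -/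
theorem family_locallyFinite [IsLocallyNoetherian X'] (δ : X → ℤ) (δ' : X' → ℤ)
    (hδ' : Cyc.IsDimFun X' δ') (c : ℤ)
    (hc : ∀ x' : X', (∀ y, p y = p x' → y ⤳ x' → y = x') → δ' x' = δ (p x') + c)
    {ι : Type u} (ξ : ι → X)
    (hloc : ∀ x : X, ∃ U : Set X, IsOpen U ∧ x ∈ U ∧ {i | (closure {ξ i} ∩ U).Nonempty}.Finite)
    (x' : X') :
    ∃ U' : Set X', IsOpen U' ∧ x' ∈ U' ∧
      {j : {j : ι × X' // p j.2 = ξ j.1 ∧ δ' j.2 = δ (ξ j.1) + c} |
        (closure {j.1.2} ∩ U').Nonempty}.Finite := by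
  classical
  obtain ⟨U, hUo, hxU, hF⟩ := hloc (p x')
  have hV : ∀ i : ι, ∃ V : X'.Opens, x' ∈ V ∧
      {η : X' | η ∈ V ∧ η ∈ p ⁻¹' closure {ξ i} ∧
        ∀ η' : X', η' ∈ p ⁻¹' closure {ξ i} → η' ⤳ η → η' = η}.Finite := fun i =>
    exists_nhds_finite_maximal_of_isClosed (p ⁻¹' closure {ξ i})
      (isClosed_closure.preimage p.continuous) x'
  choose V hxV hVfin using hV
  refine ⟨p ⁻¹' U ∩ ⋂ i ∈ hF.toFinset, (V i : Set X'), ?_, ⟨hxU, ?_⟩, ?_⟩
  · exact (hUo.preimage p.continuous).inter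
      (isOpen_biInter_finset (fun i _ => (V i).isOpen))
  · simp only [Set.mem_iInter]
    exact fun i _ => hxV i
  · have hS' : (⋃ i ∈ hF.toFinset, (fun ζ : X' => ((i, ζ) : ι × X')) ''
        {η : X' | η ∈ V i ∧ η ∈ p ⁻¹' closure {ξ i} ∧
          ∀ η' : X', η' ∈ p ⁻¹' closure {ξ i} → η' ⤳ η → η' = η}).Finite :=
      Set.Finite.biUnion hF.toFinset.finite_toSet (fun i _ => (hVfin i).image _)
    refine (Set.Finite.preimage (Subtype.val_injective.injOn) hS').subset ?_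
    rintro ⟨⟨i, ζ⟩, h1, h2⟩ ⟨w, hw, hwU'⟩
    have hζw : ζ ⤳ w := specializes_iff_mem_closure.2 hw
    have hUopen : IsOpen (p ⁻¹' U ∩ ⋂ i ∈ hF.toFinset, (V i : Set X')) :=
      (hUo.preimage p.continuous).inter (isOpen_biInter_finset (fun i _ => (V i).isOpen))
    have hζU' := hζw.mem_open hUopen hwU'
    have hiF : i ∈ hF.toFinset := by
      rw [Set.Finite.mem_toFinset]
      refine ⟨ξ i, subset_closure rfl, ?_⟩
      have : p ζ ∈ U := hζU'.1
      rw [← h1]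
      exact this
    have hζV : ζ ∈ V i := by
      have := hζU'.2
      simp only [Set.mem_iInter] at this
      exact this i hiF
    have hmax := maximal_in_preimage_closure p δ δ' hδ' c hc (ξ i) ζ h1 h2
    rw [Set.mem_preimage]
    simp only [Set.mem_iUnion]
    exact ⟨i, hiF, ζ, ⟨hζV, hmax.1, hmax.2⟩, rfl⟩

end Family

section Thm

variable {X X' : Scheme.{u}}

open Classical in
/-- **flat pullback preserves rational equivalence to zero** -/
theorem ratEquivZero_pullFun (δ : X → ℤ) (δ' : X' → ℤ) (hX : Cyc.IsSetup X δ)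
    (hX' : Cyc.IsSetup X' δ') (p : X' ⟶ X) [Flat p] (c : ℤ)
    (hc : ∀ x' : X', (∀ y, p y = p x' → y ⤳ x' → y = x') → δ' x' = δ (p x') + c) (k : ℤ)
    (α : AlgebraicCycle X ℤ) (h0 : Cyc.RatEquivZero δ k α) (α' : AlgebraicCycle X' ℤ)
    (hα' : ⇑α' = Cyc.pullFun p δ' δ c ⇑α) : Cyc.RatEquivZero δ' (k + c) α' := by
  haveI : IsLocallyNoetherian X := hX.1
  haveI : IsLocallyNoetherian X' := hX'.1
  have hδ := hX.2.2
  have hδ' := hX'.2.2
  obtain ⟨ι, ξ, f, hξ, hf, hloc, hsum⟩ := h0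
  set m : X' → ℤ := fun ζ => ((Module.length (X'.presheaf.stalk ζ) (X'.presheaf.stalk ζ ⧸
    Ideal.map (p.stalkMap ζ).hom
      (IsLocalRing.maximalIdeal (X.presheaf.stalk (p ζ))))).toNat : ℤ) with hm
  set gR : (j : {j : ι × X' // p j.2 = ξ j.1 ∧ δ' j.2 = δ (ξ j.1) + c}) →
      X'.residueField j.1.2 := fun j =>
    (p.residueFieldMap j.1.2).hom ((X.residueFieldCongr j.2.1.symm).hom (f j.1.1)) with hgR
  have hgR0 : ∀ j, gR j ≠ 0 := by
    intro j
    simp only [hgR]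
    rw [Ne, map_eq_zero, map_eq_zero]
    exact hf j.1.1
  refine ⟨{j : ι × X' // p j.2 = ξ j.1 ∧ δ' j.2 = δ (ξ j.1) + c}, fun j => j.1.2,
    fun j => gR j ^ (m j.1.2), ?_, ?_, ?_, ?_⟩
  · intro j
    rw [j.2.2, hξ]
    ring
  · intro j
    exact zpow_ne_zero _ (hgR0 j)
  · exact family_locallyFinite p δ δ' hδ' c hc ξ hloc
  · intro x'
    rw [hα']
    have e1 : Cyc.pullFun p δ' δ c ⇑α x' =
        ∑ᶠ i, Cyc.pullFun p δ' δ c (Cyc.divFun δ (ξ i) (f i)) x' := by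
      unfold Cyc.pullFun
      split_ifs with hx
      · rw [hsum, finsum_mul]
      · simp
    rw [e1]
    set F : ι × X' → ℤ := fun j =>
      if h : p j.2 = ξ j.1 ∧ δ' j.2 = δ (ξ j.1) + c then
        Cyc.divFun δ' j.2 (gR ⟨j, h⟩ ^ (m j.2)) x' else 0 with hF
    have e2 : ∀ i, Cyc.pullFun p δ' δ c (Cyc.divFun δ (ξ i) (f i)) x' = ∑ᶠ ζ : X', F (i, ζ) := by
      intro i
      rw [pullFun_divFun p δ δ' hδ hδ' c hc (ξ i) (f i) (hf i) x']
      refine finsum_congr (fun ζ => ?_)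
      simp only [hF]
      split_ifs with h
      · rw [divFun_zpow δ' ζ _ (hgR0 ⟨(i, ζ), h⟩) (m ζ) x']
      · rfl
    rw [finsum_congr e2]
    obtain ⟨U', hU'o, hxU', hfin⟩ := family_locallyFinite p δ δ' hδ' c hc ξ hloc x'
    have hFfin : Function.HasFiniteSupport F := by
      refine (hfin.image Subtype.val).subset ?_
      intro j hj
      rw [Function.mem_support] at hj
      by_cases h : p j.2 = ξ j.1 ∧ δ' j.2 = δ (ξ j.1) + c
      · refine ⟨⟨j, h⟩, ?_, rfl⟩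
        refine ⟨x', ?_, hxU'⟩
        simp only [hF, dif_pos h] at hj
        have hsp : j.2 ⤳ x' := by
          by_contra hns
          apply hj
          unfold Cyc.divFun
          rw [dif_neg (fun hc' => hns hc'.1)]
        exact specializes_iff_mem_closure.1 hsp
      · simp only [hF, dif_neg h] at hj
        exact absurd rfl hj
    rw [← finsum_curry F hFfin,
      Groth.Agent.Lib.T2H4.GysinSelf.finsum_comp_of_injective Subtype.val
        Subtype.val_injective F (fun j hj => ?_)]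
    · refine finsum_congr (fun j => ?_)
      simp only [hF, dif_pos j.2]
    · have hns : ¬ (p j.2 = ξ j.1 ∧ δ' j.2 = δ (ξ j.1) + c) := fun hc' => hj ⟨⟨j, hc'⟩, rfl⟩
      simp only [hF, dif_neg hns]

/-- the shift condition for a flat morphism of relative dimension `r` with the induced dimension
function -/
theorem shift_of_hasRelDim {X Y : Scheme.{u}} (f : X ⟶ Y) [LocallyOfFiniteType f] (δX : X → ℤ)
    (δY : Y → ℤ) (r : ℕ) (hr : Cyc.HasRelDim f r) (hδ : Cyc.DeltaCompat f δX δY) (x : X)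
    (hmax : ∀ y, f y = f x → y ⤳ x → y = x) : δX x = δY (f x) + r := by
  rw [delta_eq_add_ptTrdeg f δX δY hδ x]
  have h1 := (Groth.Agent.Lib.Helper3.RelDim.hasRelDim_iff_forall_fibreDimAt_eq f r).1 hr x
  rw [Groth.Agent.Lib.Helper4.DimFormula.fibreDimAt_eq_ptTrdeg_of_maximal f x hmax] at h1
  have : Groth.Agent.Lib.Helper4.DimFormula.ptTrdeg f x = r := by exact_mod_cast h1
  rw [this]

theorem pullFun_sub {X Y : Scheme.{u}} (f : X ⟶ Y) (δX : X → ℤ) (δY : Y → ℤ) (c : ℤ)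
    (α β : AlgebraicCycle Y ℤ) (x : X) :
    Cyc.pullFun f δX δY c ⇑(α - β) x =
      Cyc.pullFun f δX δY c ⇑α x - Cyc.pullFun f δX δY c ⇑β x := by
  unfold Cyc.pullFun
  split_ifs
  · have : (α - β) (f x) = α (f x) - β (f x) := rfl
    rw [this, sub_mul]
  · simp

/-- **flat pullback preserves rational equivalence** (relative dimension `r`) -/
theorem ratEquiv_pullFun {X Y : Scheme.{u}} (δX : X → ℤ) (δY : Y → ℤ) (hX : Cyc.IsSetup X δX)
    (hY : Cyc.IsSetup Y δY) (f : X ⟶ Y) [Flat f] [LocallyOfFiniteType f] (r : ℕ)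
    (hr : Cyc.HasRelDim f r) (hδ : Cyc.DeltaCompat f δX δY) (k : ℤ) (α β : AlgebraicCycle Y ℤ)
    (h : Cyc.RatEquiv δY k α β) (α' β' : AlgebraicCycle X ℤ)
    (hα' : ⇑α' = Cyc.pullFun f δX δY r ⇑α) (hβ' : ⇑β' = Cyc.pullFun f δX δY r ⇑β) :
    Cyc.RatEquiv δX (k + r) α' β' := by
  unfold Cyc.RatEquiv at h ⊢
  refine ratEquivZero_pullFun δY δX hY hX f (r : ℤ)
    (fun x hmax => shift_of_hasRelDim f δX δY r hr hδ x hmax) k (α - β) h (α' - β') ?_
  funext x
  rw [pullFun_sub, ← hα', ← hβ']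
  rfl

end Thm

end Groth.Agent.Lib.T2H4.PullDivFlat
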