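import Mathlib
import Groth.Prelude.Def_C1
import Groth.Prelude.Def_Cyc
import Groth.Agent.Lib.T2H4GysinFlatB
import Groth.Agent.Lib.T2H4PullDivFlatC
set_option backward.isDefEq.respectTransparency.types false

/-!
# The Gysin map of a relative effective Cartier divisor and flat pullback (helper4)

Namespace `Groth.Agent.Lib.T2H4.GysinFlat`.
-/

set_option autoImplicit false
set_option linter.style.haveILetI false
universe u
open CategoryTheory CategoryTheory.Limits AlgebraicGeometry TopologicalSpace Opposite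

namespace Groth.Agent.Lib.T2H4.GysinFlat

open Groth.Agent.Lib.T2H4.SecOrdGen Groth.Agent.Lib.T2H4.LenMinPrimes
  Groth.Agent.Lib.T2H4.PullDivFlat Groth.Agent.Lib.T2H4.PullComp
  Groth.Agent.Lib.T2H4.ZeroSecCap Groth.Agent.Lib.T2H4.PushPull

variable {X X' D : Scheme.{u}}

/-- two ways of writing an element with respect to a generator and a free generator give the same
principal ideal -/
theorem span_eq_of_generators {R M : Type*} [CommRing R] [AddCommGroup M] [Module R M] (t a : M)
    (ht : Submodule.span R {t} = ⊤) (ha : Function.Bijective (fun c : R => c • a)) (f f₀ : R)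
    (h : f • t = f₀ • a) : Ideal.span {f} = Ideal.span {f₀} := by
  obtain ⟨c, hc⟩ : ∃ c : R, c • t = a := by
    have hmem : a ∈ Submodule.span R {t} := by rw [ht]; trivial
    exact Submodule.mem_span_singleton.1 hmem
  obtain ⟨d, hd⟩ := ha.2 t
  have hd' : d • a = t := hd
  have hcd : c * d = 1 := by
    apply ha.1
    change (c * d) • a = (1 : R) • a
    rw [mul_smul, hd', hc, one_smul]
  have hff : f₀ = f * d := by
    apply ha.1
    change f₀ • a = (f * d) • a
    rw [mul_smul, hd', h]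
  rw [hff]
  apply le_antisymm
  · rw [Ideal.span_singleton_le_span_singleton]
    exact ⟨c, by rw [mul_assoc, mul_comm d c, hcd, mul_one]⟩
  · rw [Ideal.span_singleton_le_span_singleton]
    exact ⟨d, rfl⟩

/-- **the Gysin pullback of `p^*α` to a relative effective Cartier divisor `D` is `(p|_D)^*α`**,
coefficientwise -/
theorem c1CapFun_pullFun_eq_pullFun (p : X' ⟶ X) [Flat p] [LocallyOfFiniteType p] (δ : X → ℤ)
    (δ' : X' → ℤ) (hX : Cyc.IsSetup X δ) (hX' : Cyc.IsSetup X' δ') (r : ℕ)
    (hr : Cyc.HasRelDim p (r + 1)) (hδ : Cyc.DeltaCompat p δ' δ) (L : X'.Modules)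
    (hL : PicF.IsInvertible L) (s : L.presheaf.obj (Opposite.op ⊤))
    (hreg : ∀ x : X', Function.Injective
      (fun a : X'.presheaf.stalk x => a • (L.presheaf.germ ⊤ x trivial) s))
    (i : D ⟶ X') [IsClosedImmersion i] (hD : Cyc.IsZeroSchemeOf i L s) [Flat (i ≫ p)]
    (hrD : Cyc.HasRelDim (i ≫ p) r) (α : X → ℤ) (w : (ξ : X') → Cyc.secFibre L ξ) (d : D) :
    Cyc.c1CapFun δ' L (Cyc.pullFun p δ' δ (r + 1) α) (Cyc.gysinChoice L s w) (i d) =
      Cyc.pullFun (i ≫ p) (fun d => δ' (i d)) δ r α d := by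
  haveI : IsLocallyNoetherian X' := hX'.1
  have hδfun := hX.2.2
  have hδ'fun := hX'.2.2
  have hc : ∀ x' : X', (∀ y, p y = p x' → y ⤳ x' → y = x') → δ' x' = δ (p x') + ((r : ℤ) + 1) := by
    intro x' hmax
    have := shift_of_hasRelDim p δ' δ (r + 1) hr hδ x' hmax
    push_cast at this
    exact this
  obtain ⟨t, f, hspan, hgerm, hker⟩ := hD.2 d
  obtain ⟨a, ha, haξ⟩ := exists_gen_forall L hL (i d)
  obtain ⟨f₀, hf₀⟩ := ha.2 ((L.presheaf.germ ⊤ (i d) trivial) s)
  have hf₀' : (L.presheaf.germ ⊤ (i d) trivial) s = f₀ • a := hf₀.symm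
  have hspanf : Ideal.span {f} = Ideal.span {f₀} :=
    span_eq_of_generators t a hspan ha f f₀ (by rw [← hgerm, hf₀'])
  have hker₀ : RingHom.ker (i.stalkMap d).hom = Ideal.span {f₀} := by rw [hker, hspanf]
  have hregf : IsSMulRegular (X'.presheaf.stalk (i d)) f₀ := by
    intro c₁ c₂ h12
    apply hreg (i d)
    change c₁ • (L.presheaf.germ ⊤ (i d) trivial) s = c₂ • (L.presheaf.germ ⊤ (i d) trivial) s
    have h12' : f₀ * c₁ = f₀ * c₂ := h12
    rw [hf₀', ← mul_smul, ← mul_smul, mul_comm c₁, mul_comm c₂, h12']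
  -- regularity on the fibre from the flatness of `D` over `X`
  have hregI : IsSMulRegular (X'.presheaf.stalk (i d) ⧸ fibIdeal p (i d)) f₀ := by
    letI algAB : Algebra (X.presheaf.stalk (p (i d))) (X'.presheaf.stalk (i d)) :=
      (p.stalkMap (i d)).hom.toAlgebra
    letI algBC : Algebra (X'.presheaf.stalk (i d)) (D.presheaf.stalk d) :=
      (i.stalkMap d).hom.toAlgebra
    letI algAC : Algebra (X.presheaf.stalk (p (i d))) (D.presheaf.stalk d) :=
      ((i ≫ p).stalkMap d).hom.toAlgebra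
    haveI : IsScalarTower (X.presheaf.stalk (p (i d))) (X'.presheaf.stalk (i d))
        (D.presheaf.stalk d) :=
      IsScalarTower.of_algebraMap_eq (fun c => by
        change ((i ≫ p).stalkMap d).hom c = (i.stalkMap d).hom ((p.stalkMap (i d)).hom c)
        rw [Scheme.Hom.stalkMap_comp]
        rfl)
    haveI : Module.Flat (X.presheaf.stalk (p (i d))) (D.presheaf.stalk d) :=
      Flat.stalkMap (i ≫ p) d
    exact isSMulRegular_quotient_map_of_flat_of_surjective
      (A := X.presheaf.stalk (p (i d))) (B := X'.presheaf.stalk (i d)) (C := D.presheaf.stalk d)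
      (i.stalkMap_surjective d) f₀ hker₀ hregf
      (IsLocalRing.maximalIdeal (X.presheaf.stalk (p (i d))))
  have hleD : δ' (i d) ≤ δ (p (i d)) + r :=
    le_of_hasRelDim (i ≫ p) (fun d => δ' (i d)) δ
      (deltaCompat_comp_closedImmersion p i δ δ' hδ) r hrD d
  by_cases h1 : δ' (i d) = δ (p (i d)) + r
  · rw [c1CapFun_pullFun_apply p δ δ' hδfun hδ'fun ((r : ℤ) + 1) hc L s w α (i d) (by omega) a ha
      haξ f₀ hf₀' hregI, pullFun_eq,
      if_pos (show δ' (i d) = δ ((i ≫ p) d) + (r : ℤ) from h1)]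
    unfold mult
    rw [length_comp_closedImmersion p i d, hker₀]
    rfl
  · rw [pullFun_eq, if_neg (show ¬ δ' (i d) = δ ((i ≫ p) d) + (r : ℤ) from h1)]
    unfold Cyc.c1CapFun
    apply finsum_eq_zero_of_forall_eq_zero
    intro ξ
    by_contra hne
    have h2 : Cyc.pullFun p δ' δ ((r : ℤ) + 1) α ξ ≠ 0 := left_ne_zero_of_mul hne
    have h3 : Cyc.secDivFun δ' L ξ (Cyc.gysinChoice L s w ξ) (i d) ≠ 0 := right_ne_zero_of_mul hne
    have hcond : ξ ⤳ i d ∧ δ' (i d) + 1 = δ' ξ := by
      by_contra hcon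
      apply h3
      unfold Cyc.secDivFun
      rw [dif_neg hcon]
    have hξ : δ' ξ = δ (p ξ) + ((r : ℤ) + 1) := by
      by_contra hcon
      apply h2
      rw [pullFun_eq, if_neg hcon]
    by_cases hp : p ξ = p (i d)
    · rw [hp] at hξ
      have := hcond.2
      omega
    · have := (hδfun (p ξ) (p (i d)) (hcond.1.map p.continuous) hp).1
      have := hcond.2
      omega

end Groth.Agent.Lib.T2H4.GysinFlat
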