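import Mathlib
import Groth.Prelude.Def_C1
import Groth.Prelude.Def_Cyc
import Groth.Agent.Lib.T2H4BCClosedImm
import Groth.Agent.Lib.T2H4GysinFlatA
import Groth.Agent.Lib.T2H4PushPullB
set_option backward.isDefEq.respectTransparency.types false

/-!
# Flat pullback and restriction to a closed subscheme (helper4)

Namespace `Groth.Agent.Lib.T2H4.GysinPull`.
-/

set_option autoImplicit false
set_option linter.style.haveILetI false
universe u
open CategoryTheory CategoryTheory.Limits AlgebraicGeometry TopologicalSpace Opposite

namespace Groth.Agent.Lib.T2H4.GysinPull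

open Groth.Agent.Lib.T2H4.BCClosedImm Groth.Agent.Lib.T2H4.GysinFlat Groth.Agent.Lib.T2H4.PushPull

variable {X X' D : Scheme.{u}} (f : X' ⟶ X) (i : D ⟶ X)

theorem tau_surjective (z : ↥(pullback f i)) : Function.Surjective (tau f i z) :=
  fun c => ⟨tau' f i z c, tau_tau' f i z c⟩

/-- the multiplicity of the flat pullback is unchanged by base change to a closed subscheme -/
theorem mult_snd [IsClosedImmersion i] (z : ↥(pullback f i)) :
    mult (pullback.snd f i) z = mult f (pullback.fst f i z) := by
  unfold mult
  congr 1
  have hσ : Function.Surjective ((pullback.fst f i).stalkMap z).hom :=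
    (pullback.fst f i).stalkMap_surjective z
  set J := Ideal.map (f.stalkMap (pullback.fst f i z)).hom
    (IsLocalRing.maximalIdeal (X.presheaf.stalk (f (pullback.fst f i z)))) with hJ
  have h1 := length_quot_map_of_surjective ((pullback.fst f i).stalkMap z).hom hσ J
  have h2 : J ⊔ RingHom.ker ((pullback.fst f i).stalkMap z).hom = J := by
    rw [sup_eq_left, ker_stalkMap_fst]
    exact Ideal.map_mono (kerBase_le_maximalIdeal f i z)
  have h3 : Ideal.map ((pullback.fst f i).stalkMap z).hom J =
      Ideal.map ((pullback.snd f i).stalkMap z).hom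
        (IsLocalRing.maximalIdeal (D.presheaf.stalk (pullback.snd f i z))) := by
    have hcomp : ((pullback.fst f i).stalkMap z).hom.comp (f.stalkMap (pullback.fst f i z)).hom =
        ((pullback.snd f i).stalkMap z).hom.comp
          ((i.stalkMap (pullback.snd f i z)).hom.comp (tau f i z)) := by
      ext a
      exact stalkMap_square f i z a
    rw [hJ, Ideal.map_map, hcomp, ← Ideal.map_map, ← Ideal.map_map,
      IsLocalRing.map_maximalIdeal_of_surjective (tau f i z) (tau_surjective f i z),
      IsLocalRing.map_maximalIdeal_of_surjective _ (i.stalkMap_surjective (pullback.snd f i z))]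
  rw [h2, h3] at h1
  exact h1

/-- flat pullback commutes with restriction to a closed subscheme, coefficientwise -/
theorem pullFun_snd [IsClosedImmersion i] (δ : X → ℤ) (δ' : X' → ℤ) (r : ℤ) (B : X → ℤ)
    (z : ↥(pullback f i)) :
    Cyc.pullFun (pullback.snd f i) (fun z => δ' (pullback.fst f i z)) (fun d => δ (i d)) r
        (fun d => B (i d)) z =
      Cyc.pullFun f δ' δ r B (pullback.fst f i z) := by
  rw [pullFun_eq, pullFun_eq, mult_snd, apply_eq f i z]

end Groth.Agent.Lib.T2H4.GysinPull
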