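import Mathlib
import Groth.Prelude.Def_C1
import Groth.Prelude.Def_Cyc
import Groth.Agent.Lib.T2H4GysinPullA
import Groth.Agent.Lib.T2H4GysinFlatC
import Groth.Agent.Lib.T2H4PullStalk
import Groth.Agent.Lib.T2H4GysinSelf
set_option backward.isDefEq.respectTransparency.types false

/-!
# Sections with the same zero scheme have the same divisors (helper4)

Namespace `Groth.Agent.Lib.T2H4.GysinPull`.
-/

set_option autoImplicit false
set_option linter.style.haveILetI false
universe u
open CategoryTheory CategoryTheory.Limits AlgebraicGeometry TopologicalSpace Opposite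

namespace Groth.Agent.Lib.T2H4.GysinPull

open Groth.Agent.Lib.T2H4.BCClosedImm Groth.Agent.Lib.T2H4.GysinFlat Groth.Agent.Lib.T2H4.PushPull
  Groth.Agent.Lib.T2H4.SecOrdGen Groth.Agent.Lib.T2H4.PullStalk Groth.Agent.Lib.T2H4.ZeroSecCap

/-- in a local ring, generators of the same principal ideal differ by a unit (for a nonzero
generator) -/
theorem exists_unit_mul_of_span_eq {R : Type*} [CommRing R] [IsLocalRing R] (a b : R)
    (h : Ideal.span {a} = Ideal.span {b}) (ha : a ≠ 0) : ∃ u : R, IsUnit u ∧ a = u * b := by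
  have h1 : a ∈ Ideal.span {b} := h ▸ Ideal.mem_span_singleton_self a
  have h2 : b ∈ Ideal.span {a} := h.symm ▸ Ideal.mem_span_singleton_self b
  obtain ⟨u, hu⟩ := Ideal.mem_span_singleton'.1 h1
  obtain ⟨v, hv⟩ := Ideal.mem_span_singleton'.1 h2
  refine ⟨u, ?_, hu.symm⟩
  by_contra hnu
  have hm : u * v ∈ IsLocalRing.maximalIdeal R :=
    Ideal.mul_mem_right _ _ ((IsLocalRing.mem_maximalIdeal u).2 hnu)
  have hunit : IsUnit (1 - u * v) := by
    by_contra hn
    have h3 : 1 - u * v ∈ IsLocalRing.maximalIdeal R := (IsLocalRing.mem_maximalIdeal _).2 hn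
    have h4 : (1 : R) ∈ IsLocalRing.maximalIdeal R := by
      have := Ideal.add_mem _ h3 hm
      rwa [sub_add_cancel] at this
    exact (IsLocalRing.maximalIdeal.isMaximal R).ne_top ((Ideal.eq_top_iff_one _).2 h4)
  apply ha
  have h5 : a * (1 - u * v) = 0 := by
    rw [mul_sub, mul_one, sub_eq_zero]
    calc a = u * b := hu.symm
      _ = u * (v * a) := by rw [hv]
      _ = a * (u * v) := by ring
  exact (hunit.mul_left_eq_zero).1 h5

variable {X X' D : Scheme.{u}}

/-- the kernel of `O_{X,x} → O_{D,d}` for `x = i d` a point of the zero scheme of `s`, in terms of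
a free generator of `L_x` -/
theorem ker_eq_span_of_isZeroSchemeOf (i : D ⟶ X) (L : X.Modules)
    (s : L.presheaf.obj (Opposite.op ⊤)) (hD : Cyc.IsZeroSchemeOf i L s) (x : X) (d : D)
    (hx : x = i d) (e : L.presheaf.stalk x)
    (he : Function.Bijective (fun c : X.presheaf.stalk x => c • e)) (b₀ : X.presheaf.stalk x)
    (hb₀ : (L.presheaf.germ ⊤ x trivial) s = b₀ • e) :
    RingHom.ker ((i.stalkMap d).hom.comp
      (X.presheaf.stalkSpecializes (specializes_of_eq hx.symm)).hom) = Ideal.span {b₀} := by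
  subst hx
  obtain ⟨t, f_d, hspan, hgerm, hker⟩ := hD.2 d
  have h1 : (X.presheaf.stalkSpecializes (specializes_of_eq (rfl : i d = i d))).hom =
      RingHom.id _ := by
    rw [TopCat.Presheaf.stalkSpecializes_refl]
    rfl
  rw [h1, RingHom.comp_id, hker]
  exact span_eq_of_generators t e hspan he f_d b₀ (by rw [← hgerm, hb₀])

variable (f : X' ⟶ X) (i : D ⟶ X) [IsClosedImmersion i] (L : X.Modules)
  (s : L.presheaf.obj (Opposite.op ⊤))
  (s' : ((Scheme.Modules.pullback f).obj L).presheaf.obj (Opposite.op ⊤))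

/-- **sections with the same zero scheme have the same orders**: at a point `j z` of
`D' = X' ×_X D`, along a specialization `ξ' ⤳ j z` from a point where `s'` does not vanish, the
orders of `s'` and of the pullback of `s` agree -/
theorem secOrdAt_germ_eq (hL : PicF.IsInvertible L) (hD : Cyc.IsZeroSchemeOf i L s)
    (hD' : Cyc.IsZeroSchemeOf (pullback.fst f i) ((Scheme.Modules.pullback f).obj L) s')
    (z : ↥(pullback f i)) (ξ' : X') (h : ξ' ⤳ pullback.fst f i z)
    (hξ' : (Submodule.Quotient.mk
      ((((Scheme.Modules.pullback f).obj L).presheaf.germ ⊤ ξ' trivial) s') :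
        Cyc.secFibre ((Scheme.Modules.pullback f).obj L) ξ') ≠ 0) :
    Cyc.secOrdAt ((Scheme.Modules.pullback f).obj L) ξ' (pullback.fst f i z) h
        (Submodule.Quotient.mk ((((Scheme.Modules.pullback f).obj L).presheaf.germ ⊤ ξ' trivial) s')) =
      Cyc.secOrdAt ((Scheme.Modules.pullback f).obj L) ξ' (pullback.fst f i z) h
        (Submodule.Quotient.mk ((pullStalk f L ξ').hom ((L.presheaf.germ ⊤ (f ξ') trivial) s))) := by
  obtain ⟨e, he, heξ⟩ := exists_gen_forall L hL (f (pullback.fst f i z))
  obtain ⟨b₀, hb₀⟩ := he.2 ((L.presheaf.germ ⊤ (f (pullback.fst f i z)) trivial) s)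
  have hb₀' : (L.presheaf.germ ⊤ (f (pullback.fst f i z)) trivial) s = b₀ • e := hb₀.symm
  set e' := (pullStalk f L (pullback.fst f i z)).hom e with he'def
  have he' : Function.Bijective (fun c : X'.presheaf.stalk (pullback.fst f i z) => c • e') :=
    bijective_smul_pullStalk f L hL (pullback.fst f i z) e he
  have he'ξ : Function.Bijective (fun c : X'.presheaf.stalk ξ' => c • sp ((Scheme.Modules.pullback f).obj L) h e') := by
    have := bijective_smul_pullStalk f L hL ξ' _ (heξ (f ξ') (h.map f.continuous))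
    rwa [pullStalk_sp f L h] at this
  obtain ⟨a, ha⟩ := he'.2 ((((Scheme.Modules.pullback f).obj L).presheaf.germ ⊤ (pullback.fst f i z) trivial) s')
  have ha' : (((Scheme.Modules.pullback f).obj L).presheaf.germ ⊤ (pullback.fst f i z) trivial) s' = a • e' := ha.symm
  -- the two generators of the ideal of `D'` at `(pullback.fst f i z)`
  have hideal : Ideal.span {a} = Ideal.span {(f.stalkMap (pullback.fst f i z)).hom b₀} := by
    obtain ⟨t', f', hspan', hgerm', hker'⟩ := hD'.2 z
    have h1 : Ideal.span {f'} = Ideal.span {a} :=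
      span_eq_of_generators t' e' hspan' he' f' a (by rw [← hgerm', ha'])
    have h2 : kerBase f i z = Ideal.span {b₀} :=
      ker_eq_span_of_isZeroSchemeOf i L s hD (f (pullback.fst f i z)) (pullback.snd f i z) (apply_eq f i z) e he b₀
        hb₀'
    rw [← h1, ← hker', ker_stalkMap_fst, h2, Ideal.map_span, Set.image_singleton]
  -- the germs at `ξ'`
  have hgerm1 : (((Scheme.Modules.pullback f).obj L).presheaf.germ ⊤ ξ' trivial) s' = spO h a • sp ((Scheme.Modules.pullback f).obj L) h e' := by
    rw [← sp_smul, ← ha']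
    exact (Groth.Agent.Lib.T2H4.HomShGlobal.stalkSpecializes_germ ((Scheme.Modules.pullback f).obj L) h
      (show (pullback.fst f i z) ∈ (⊤ : X'.Opens) from trivial) s').symm
  have hgerm2 : (pullStalk f L ξ').hom ((L.presheaf.germ ⊤ (f ξ') trivial) s) =
      spO h ((f.stalkMap (pullback.fst f i z)).hom b₀) • sp ((Scheme.Modules.pullback f).obj L) h e' := by
    have h1 : (L.presheaf.germ ⊤ (f ξ') trivial) s =
        spO (h.map f.continuous) b₀ • sp L (h.map f.continuous) e := by
      rw [← sp_smul, ← hb₀']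
      exact (Groth.Agent.Lib.T2H4.HomShGlobal.stalkSpecializes_germ L (h.map f.continuous)
        (show f (pullback.fst f i z) ∈ (⊤ : X.Opens) from trivial) s).symm
    rw [h1, pullStalk_smul, pullStalk_sp f L h]
    congr 1
    have h2 := Scheme.Hom.stalkSpecializes_stalkMap f ξ' (pullback.fst f i z) h
    exact congrArg (fun φ => φ.hom b₀) h2
  have hane : X'.residue ξ' (spO h a) ≠ 0 := by
    intro h0
    apply hξ'
    rw [hgerm1, mk_smul_eq_zero_iff ((Scheme.Modules.pullback f).obj L) _ he'ξ]
    exact h0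
  have ha0 : a ≠ 0 := by
    intro h0
    apply hane
    rw [h0, map_zero, map_zero]
  obtain ⟨u, hu, hau⟩ := exists_unit_mul_of_span_eq a _ hideal ha0
  rw [hgerm1, hgerm2, secOrdAt_eq ((Scheme.Modules.pullback f).obj L) h e' he' he'ξ, secOrdAt_eq ((Scheme.Modules.pullback f).obj L) h e' he' he'ξ]
  have hmul : X'.residue ξ' (spO h a) =
      X'.residue ξ' (spO h u) * X'.residue ξ' (spO h ((f.stalkMap (pullback.fst f i z)).hom b₀)) := by
    rw [hau, map_mul, map_mul]
  have hune : X'.residue ξ' (spO h u) ≠ 0 := fun h0 => hane (by rw [hmul, h0, zero_mul])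
  have hbne : X'.residue ξ' (spO h ((f.stalkMap (pullback.fst f i z)).hom b₀)) ≠ 0 :=
    fun h0 => hane (by rw [hmul, h0, mul_zero])
  rw [hmul, ordAt_mul (pullback.fst f i z) ξ' h _ _ hune hbne]
  have h0 := Groth.Agent.S8923.ordAt_unit (pullback.fst f i z) ξ' h u hu
  have h0' : Cyc.ordAt (pullback.fst f i z) ξ' h (X'.residue ξ' (spO h u)) = 0 := h0
  rw [h0', zero_add]

end Groth.Agent.Lib.T2H4.GysinPull
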