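import Mathlib
import Groth.Prelude.Def_C1
import Groth.Prelude.Def_Cyc
import Groth.Prelude.Def_Bivar
import Groth.Agent.Lib.T2H4PullDivFlatC
import Groth.Agent.Lib.T2H4ZeroSecCap
import Groth.Agent.Lib.T2H4GysinSelf
import Groth.Agent.Lib.T2H4C1CapRat
set_option backward.isDefEq.respectTransparency.types false

/-!
# Flat pullback commutes with `c_1(L) ∩ -` (helper4)

Namespace `Groth.Agent.Lib.T2H4.PullC1`.

* `pullCycle`: the flat pullback of a cycle as a cycle;
* `pullFun_secDivFun`: flat pullback of the divisor of a rational section.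
-/

set_option autoImplicit false
set_option linter.style.haveILetI false
universe u
open CategoryTheory AlgebraicGeometry TopologicalSpace

namespace Groth.Agent.Lib.T2H4.PullC1

open Groth.Agent.Lib.T2H4.LenMinPrimes Groth.Agent.Lib.T2H4.SecOrdGen
  Groth.Agent.Lib.T2H4.PullComp Groth.Agent.Lib.T2H4.PullDivFlat Groth.Agent.Lib.T2H4.PullStalk
  Groth.Agent.Lib.T2H4.GysinSelf

section Cycle

variable {X X' : Scheme.{u}} (p : X' ⟶ X)

/-- the flat pullback of a cycle, as a cycle -/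
noncomputable def pullCycle [IsLocallyNoetherian X'] (δ : X → ℤ) (δ' : X' → ℤ)
    (hδ' : Cyc.IsDimFun X' δ') (c : ℤ)
    (hc : ∀ x' : X', (∀ y, p y = p x' → y ⤳ x' → y = x') → δ' x' = δ (p x') + c)
    (α : AlgebraicCycle X ℤ) : AlgebraicCycle X' ℤ where
  toFun := Cyc.pullFun p δ' δ c ⇑α
  supportWithinDomain' := by simp
  supportLocallyFiniteWithinDomain' := by
    intro x' _
    have hloc : ∀ x : X, ∃ U : Set X, IsOpen U ∧ x ∈ U ∧
        {i : {ξ : X // α ξ ≠ 0} | (closure {i.1} ∩ U).Nonempty}.Finite := by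
      intro x
      obtain ⟨t, ht, hfin⟩ := α.supportLocallyFiniteWithinDomain' x (Set.mem_univ x)
      obtain ⟨U, hUt, hUo, hxU⟩ := mem_nhds_iff.1 ht
      refine ⟨U, hUo, hxU, ?_⟩
      refine (Set.Finite.preimage (Subtype.val_injective.injOn) hfin).subset ?_
      rintro i ⟨w, hw, hwU⟩
      have hsp : i.1 ⤳ w := specializes_iff_mem_closure.2 hw
      exact ⟨hUt (hsp.mem_open hUo hwU), i.2⟩
    obtain ⟨U', hU'o, hxU', hfin⟩ := family_locallyFinite p δ δ' hδ' c hc
      (fun i : {ξ : X // α ξ ≠ 0} => i.1) hloc x'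
    refine ⟨U', hU'o.mem_nhds hxU', ?_⟩
    refine (hfin.image (fun j => j.1.2)).subset ?_
    rintro ζ ⟨hζU', hζ⟩
    rw [Function.mem_support] at hζ
    unfold Cyc.pullFun at hζ
    split_ifs at hζ with hcond
    · have hα : α (p ζ) ≠ 0 := left_ne_zero_of_mul hζ
      exact ⟨⟨(⟨p ζ, hα⟩, ζ), rfl, hcond⟩, ⟨ζ, subset_closure rfl, hζU'⟩, rfl⟩
    · exact absurd rfl hζ

theorem pullCycle_coe [IsLocallyNoetherian X'] (δ : X → ℤ) (δ' : X' → ℤ)
    (hδ' : Cyc.IsDimFun X' δ') (c : ℤ)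
    (hc : ∀ x' : X', (∀ y, p y = p x' → y ⤳ x' → y = x') → δ' x' = δ (p x') + c)
    (α : AlgebraicCycle X ℤ) :
    ⇑(pullCycle p δ δ' hδ' c hc α) = Cyc.pullFun p δ' δ c ⇑α := rfl

theorem pullCycle_mem_Zk [IsLocallyNoetherian X'] (δ : X → ℤ) (δ' : X' → ℤ)
    (hδ' : Cyc.IsDimFun X' δ') (c : ℤ)
    (hc : ∀ x' : X', (∀ y, p y = p x' → y ⤳ x' → y = x') → δ' x' = δ (p x') + c)
    (k : ℤ) (α : AlgebraicCycle X ℤ) (hα : α ∈ Cyc.Zk X δ k) :
    pullCycle p δ δ' hδ' c hc α ∈ Cyc.Zk X' δ' (k + c) := by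
  intro x' hx'
  change Cyc.pullFun p δ' δ c ⇑α x' = 0
  unfold Cyc.pullFun
  split_ifs with hcond
  · have : δ (p x') ≠ k := fun e => hx' (by rw [hcond, e])
    rw [hα _ this, zero_mul]
  · rfl

end Cycle

section SecGF

variable {X X' : Scheme.{u}} [IsLocallyNoetherian X] [IsLocallyNoetherian X'] (p : X' ⟶ X) [Flat p]
  (L : X.Modules)

open Classical in
/-- **flat pullback of the divisor of a rational section** -/
theorem pullFun_secDivFun (hL : PicF.IsInvertible L) (δ : X → ℤ) (δ' : X' → ℤ)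
    (hδ : Cyc.IsDimFun X δ) (hδ' : Cyc.IsDimFun X' δ') (c : ℤ)
    (hc : ∀ x' : X', (∀ y, p y = p x' → y ⤳ x' → y = x') → δ' x' = δ (p x') + c)
    (l : (ξ : X) → L.presheaf.stalk ξ) (η : X)
    (hη : (Submodule.Quotient.mk (l η) : Cyc.secFibre L η) ≠ 0) (x' : X') :
    Cyc.pullFun p δ' δ c (Cyc.secDivFun δ L η (Submodule.Quotient.mk (l η))) x' =
      ∑ᶠ ζ : X', if p ζ = η ∧ δ' ζ = δ η + c then
        ((Module.length (X'.presheaf.stalk ζ) (X'.presheaf.stalk ζ ⧸
          Ideal.map (p.stalkMap ζ).hom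
            (IsLocalRing.maximalIdeal (X.presheaf.stalk (p ζ))))).toNat : ℤ) *
          Cyc.secDivFun δ' ((Scheme.Modules.pullback p).obj L) ζ
            (Submodule.Quotient.mk ((pullStalk p L ζ).hom (l (p ζ)))) x'
      else 0 := by
  by_cases hηx : η ⤳ p x'
  swap
  · have hL0 : Cyc.pullFun p δ' δ c (Cyc.secDivFun δ L η (Submodule.Quotient.mk (l η))) x' = 0 := by
      unfold Cyc.pullFun Cyc.secDivFun
      rw [dif_neg (fun h => hηx h.1)]
      simp
    rw [hL0]
    symm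
    apply finsum_eq_zero_of_forall_eq_zero
    intro ζ
    split_ifs with h
    · unfold Cyc.secDivFun
      rw [dif_neg, mul_zero]
      rintro ⟨hsp, -⟩
      apply hηx
      rw [← h.1]
      exact hsp.map p.continuous
    · rfl
  obtain ⟨a, ha, haξ⟩ := Groth.Agent.Lib.T2H4.ZeroSecCap.exists_gen_forall L hL (p x')
  obtain ⟨φ, hφ⟩ := (haξ η hηx).2 (l η)
  have hφ' : φ • sp L hηx a = l η := hφ
  have hg : X.residue η φ ≠ 0 := by
    intro h0
    apply hη
    rw [← hφ']
    exact (mk_smul_eq_zero_iff L _ (haξ η hηx) φ).2 h0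
  have hstep1 : Cyc.pullFun p δ' δ c (Cyc.secDivFun δ L η (Submodule.Quotient.mk (l η))) x' =
      Cyc.pullFun p δ' δ c (Cyc.divFun δ η (X.residue η φ)) x' := by
    unfold Cyc.pullFun
    have h1 : Cyc.secDivFun δ L η (Submodule.Quotient.mk (l η)) (p x') =
        Cyc.divFun δ η (X.residue η φ) (p x') := by
      unfold Cyc.secDivFun Cyc.divFun
      split_ifs with h
      · rw [← hφ']
        exact secOrdAt_eq L h.1 a ha (haξ η h.1) φ
      · rfl
    rw [h1]
  rw [hstep1, pullFun_divFun p δ δ' hδ hδ' c hc η (X.residue η φ) hg x']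
  refine finsum_congr (fun ζ => ?_)
  by_cases hS : p ζ = η ∧ δ' ζ = δ η + c
  · rw [dif_pos hS, if_pos hS]
    congr 1
    unfold Cyc.divFun Cyc.secDivFun
    by_cases hcond : ζ ⤳ x' ∧ δ' x' + 1 = δ' ζ
    · rw [dif_pos hcond, dif_pos hcond]
      obtain ⟨hpζ, -⟩ := hS
      subst hpζ
      have hres : (X.residueFieldCongr (rfl : p ζ = p ζ)).hom (X.residue (p ζ) φ) =
          X.residue (p ζ) φ := by
        simp
      rw [hres]
      set a' := (pullStalk p L x').hom a with ha'def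
      have ha' := bijective_smul_pullStalk p L hL x' a ha
      have hsp' : (pullStalk p L ζ).hom (sp L (hcond.1.map p.continuous) a) =
          sp ((Scheme.Modules.pullback p).obj L) hcond.1 a' := pullStalk_sp p L hcond.1 a
      have ha'ζ : Function.Bijective (fun c : X'.presheaf.stalk ζ =>
          c • sp ((Scheme.Modules.pullback p).obj L) hcond.1 a') := by
        rw [← hsp']
        exact bijective_smul_pullStalk p L hL ζ _ (haξ (p ζ) (hcond.1.map p.continuous))
      have hpl : (pullStalk p L ζ).hom (l (p ζ)) =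
          (p.stalkMap ζ).hom φ • sp ((Scheme.Modules.pullback p).obj L) hcond.1 a' := by
        rw [← hφ', pullStalk_smul, ← hsp']
      rw [hpl, secOrdAt_eq ((Scheme.Modules.pullback p).obj L) hcond.1 a' ha' ha'ζ, residue_stalkMap]
    · rw [dif_neg hcond, dif_neg hcond]
  · rw [dif_neg hS, if_neg hS]

end SecGF

end Groth.Agent.Lib.T2H4.PullC1
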