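import Mathlib
import Groth.Prelude.Def_C1
import Groth.Prelude.Def_Cyc
import Groth.Prelude.Def_Bivar
import Groth.Agent.Lib.T2H4PullC1A
import Groth.Agent.Lib.Helper23PB
set_option backward.isDefEq.respectTransparency.types false

/-!
# Flat pullback commutes with `c_1(L) ∩ -` up to rational equivalence (helper4)

Namespace `Groth.Agent.Lib.T2H4.PullC1`.
-/

set_option autoImplicit false
set_option linter.style.haveILetI false
universe u
open CategoryTheory AlgebraicGeometry TopologicalSpace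

namespace Groth.Agent.Lib.T2H4.PullC1

open Groth.Agent.Lib.T2H4.LenMinPrimes Groth.Agent.Lib.T2H4.SecOrdGen
  Groth.Agent.Lib.T2H4.PullComp Groth.Agent.Lib.T2H4.PullDivFlat Groth.Agent.Lib.T2H4.PullStalk
  Groth.Agent.Lib.T2H4.GysinSelf

variable {X X' : Scheme.{u}}

open Classical in
/-- `p^*(c_1(L) ∩ α) = c_1(p^*L) ∩ p^*α` when the right side is computed with the pulled back
rational sections -/
theorem pullFun_c1CapFun [IsLocallyNoetherian X] [IsLocallyNoetherian X'] (p : X' ⟶ X) [Flat p]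
    (L : X.Modules) (hL : PicF.IsInvertible L) (δ : X → ℤ) (δ' : X' → ℤ)
    (hδ : Cyc.IsDimFun X δ) (hδ' : Cyc.IsDimFun X' δ') (c : ℤ)
    (hc : ∀ x' : X', (∀ y, p y = p x' → y ⤳ x' → y = x') → δ' x' = δ (p x') + c)
    (α : AlgebraicCycle X ℤ) (l : (ξ : X) → L.presheaf.stalk ξ)
    (hl : ∀ ξ, (Submodule.Quotient.mk (l ξ) : Cyc.secFibre L ξ) ≠ 0) :
    Cyc.pullFun p δ' δ c (Cyc.c1CapFun δ L ⇑α (fun ξ => Submodule.Quotient.mk (l ξ))) =
      Cyc.c1CapFun δ' ((Scheme.Modules.pullback p).obj L) (Cyc.pullFun p δ' δ c ⇑α)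
        (fun ζ => Submodule.Quotient.mk ((pullStalk p L ζ).hom (l (p ζ)))) := by
  funext x'
  set m : X' → ℤ := fun ζ => ((Module.length (X'.presheaf.stalk ζ) (X'.presheaf.stalk ζ ⧸
    Ideal.map (p.stalkMap ζ).hom
      (IsLocalRing.maximalIdeal (X.presheaf.stalk (p ζ))))).toNat : ℤ) with hm
  set D : X' → ℤ := fun ζ => Cyc.secDivFun δ' ((Scheme.Modules.pullback p).obj L) ζ
      (Submodule.Quotient.mk ((pullStalk p L ζ).hom (l (p ζ)))) x' with hD
  -- the left hand side as a double sum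
  have e1 : Cyc.pullFun p δ' δ c (Cyc.c1CapFun δ L ⇑α (fun ξ => Submodule.Quotient.mk (l ξ))) x' =
      ∑ᶠ ξ : X, α ξ * Cyc.pullFun p δ' δ c
        (Cyc.secDivFun δ L ξ (Submodule.Quotient.mk (l ξ))) x' := by
    unfold Cyc.pullFun Cyc.c1CapFun
    split_ifs with hx
    · rw [finsum_mul]
      exact finsum_congr (fun ξ => mul_assoc _ _ _)
    · simp
  rw [e1]
  set G : X × X' → ℤ := fun j =>
    if p j.2 = j.1 ∧ δ' j.2 = δ j.1 + c then α j.1 * (m j.2 * D j.2) else 0 with hG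
  have e2 : ∀ ξ : X, α ξ * Cyc.pullFun p δ' δ c
      (Cyc.secDivFun δ L ξ (Submodule.Quotient.mk (l ξ))) x' = ∑ᶠ ζ : X', G (ξ, ζ) := by
    intro ξ
    rw [pullFun_secDivFun p L hL δ δ' hδ hδ' c hc l ξ (hl ξ) x', mul_finsum]
    refine finsum_congr (fun ζ => ?_)
    simp only [hG]
    split_ifs with h
    · rfl
    · rw [mul_zero]
  rw [finsum_congr e2]
  -- finiteness
  have hGfin : Function.HasFiniteSupport G := by
    have hfin := Bivar.finite_support_specializes (pullCycle p δ δ' hδ' c hc α) x'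
    refine (hfin.image (fun ζ : X' => ((p ζ, ζ) : X × X'))).subset ?_
    rintro ⟨ξ, ζ⟩ hj
    rw [Function.mem_support] at hj
    simp only [hG] at hj
    split_ifs at hj with h
    · obtain ⟨h1, h2⟩ := h
      subst h1
      refine ⟨ζ, ⟨?_, ?_⟩, rfl⟩
      · by_contra hns
        apply hj
        have : D ζ = 0 := by
          simp only [hD]
          unfold Cyc.secDivFun
          rw [dif_neg (fun hc' => hns hc'.1)]
        rw [this, mul_zero, mul_zero]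
      · rw [pullCycle_coe]
        unfold Cyc.pullFun
        rw [if_pos h2]
        intro h0
        apply hj
        have h0' : α (p ζ) * m ζ = 0 := h0
        rw [← mul_assoc, h0', zero_mul]
    · exact absurd rfl hj
  rw [← finsum_curry G hGfin,
    finsum_comp_of_injective (fun ζ : X' => ((p ζ, ζ) : X × X'))
      (fun a b hab => (Prod.ext_iff.1 hab).2) G (fun j hj => ?_)]
  · unfold Cyc.c1CapFun
    refine finsum_congr (fun ζ => ?_)
    change (if p ζ = p ζ ∧ δ' ζ = δ (p ζ) + c then α (p ζ) * (m ζ * D ζ) else 0) =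
      Cyc.pullFun p δ' δ c ⇑α ζ * D ζ
    unfold Cyc.pullFun
    by_cases h2 : δ' ζ = δ (p ζ) + c
    · rw [if_pos ⟨rfl, h2⟩, if_pos h2, mul_assoc]
    · rw [if_neg (fun h => h2 h.2), if_neg h2, zero_mul]
  · simp only [hG]
    rw [if_neg]
    rintro ⟨h1, -⟩
    exact hj ⟨j.2, Prod.ext h1 rfl⟩

/-- **flat pullback commutes with `c_1(L) ∩ -`** up to rational equivalence (general shift) -/
theorem ratEquiv_pull_c1Cap (δ : X → ℤ) (δ' : X' → ℤ) (hX : Cyc.IsSetup X δ)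
    (hX' : Cyc.IsSetup X' δ') (p : X' ⟶ X) [Flat p] (c : ℤ)
    (hc : ∀ x' : X', (∀ y, p y = p x' → y ⤳ x' → y = x') → δ' x' = δ (p x') + c)
    (L : X.Modules) (hL : PicF.IsInvertible L) (k : ℤ) (α : AlgebraicCycle X ℤ)
    (hα : α ∈ Cyc.Zk X δ k) (v : (ξ : X) → Cyc.secFibre L ξ) (hv : ∀ ξ, v ξ ≠ 0)
    (u : (ξ : X') → Cyc.secFibre ((Scheme.Modules.pullback p).obj L) ξ) (hu : ∀ ξ, u ξ ≠ 0)
    (γ₁ γ₂ : AlgebraicCycle X' ℤ)
    (h₁ : ⇑γ₁ = Cyc.pullFun p δ' δ c (Cyc.c1CapFun δ L ⇑α v))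
    (h₂ : ⇑γ₂ = Cyc.c1CapFun δ' ((Scheme.Modules.pullback p).obj L)
      (Cyc.pullFun p δ' δ c ⇑α) u) :
    Cyc.RatEquiv δ' (k + c - 1) γ₁ γ₂ := by
  haveI : IsLocallyNoetherian X := hX.1
  haveI : IsLocallyNoetherian X' := hX'.1
  have hδ := hX.2.2
  have hδ' := hX'.2.2
  have hlift : ∀ ξ : X, ∃ l : L.presheaf.stalk ξ,
      (Submodule.Quotient.mk l : Cyc.secFibre L ξ) = v ξ :=
    fun ξ => Submodule.Quotient.mk_surjective _ (v ξ)
  choose l hl using hlift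
  have hv' : (fun ξ => (Submodule.Quotient.mk (l ξ) : Cyc.secFibre L ξ)) = v := funext hl
  have hlne : ∀ ξ, (Submodule.Quotient.mk (l ξ) : Cyc.secFibre L ξ) ≠ 0 := by
    intro ξ
    rw [hl]
    exact hv ξ
  have hu₀ : ∀ ζ : X', (Submodule.Quotient.mk ((pullStalk p L ζ).hom (l (p ζ))) :
      Cyc.secFibre ((Scheme.Modules.pullback p).obj L) ζ) ≠ 0 :=
    fun ζ => mk_pullStalk_ne_zero p L hL ζ (l (p ζ)) (hlne (p ζ))
  have hα' : pullCycle p δ δ' hδ' c hc α ∈ Cyc.Zk X' δ' (k + c - 1 + 1) := by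
    rw [sub_add_cancel]
    exact pullCycle_mem_Zk p δ δ' hδ' c hc k α hα
  refine Groth.Agent.Lib.T2H4.C1CapRat.ratEquiv_of_sections δ'
    ((Scheme.Modules.pullback p).obj L) (Groth.Agent.Lib.Helper23.PB.isInvertible_pullback p L hL)
    (k + c - 1) (pullCycle p δ δ' hδ' c hc α) hα' _ u hu₀ hu γ₁ γ₂ ?_ h₂
  rw [h₁, ← hv', pullFun_c1CapFun p L hL δ δ' hδ hδ' c hc α l hlne]
  rfl

/-- **flat pullback commutes with `c_1(L) ∩ -`** for a flat morphism of relative dimension `r` -/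
theorem ratEquiv_pull_c1Cap_relDim {X Y : Scheme.{u}} (δX : X → ℤ) (δY : Y → ℤ)
    (hX : Cyc.IsSetup X δX) (hY : Cyc.IsSetup Y δY) (f : X ⟶ Y) [Flat f] [LocallyOfFiniteType f]
    (r : ℕ) (hr : Cyc.HasRelDim f r) (hδ : Cyc.DeltaCompat f δX δY) (L : Y.Modules)
    (hL : PicF.IsInvertible L) (k : ℤ) (α : AlgebraicCycle Y ℤ) (hα : α ∈ Cyc.Zk Y δY k)
    (v : (η : Y) → Cyc.secFibre L η) (hv : ∀ η, v η ≠ 0)
    (u : (ξ : X) → Cyc.secFibre ((Scheme.Modules.pullback f).obj L) ξ) (hu : ∀ ξ, u ξ ≠ 0)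
    (γ₁ γ₂ : AlgebraicCycle X ℤ)
    (h₁ : ⇑γ₁ = Cyc.pullFun f δX δY r (Cyc.c1CapFun δY L ⇑α v))
    (h₂ : ⇑γ₂ = Cyc.c1CapFun δX ((Scheme.Modules.pullback f).obj L)
      (Cyc.pullFun f δX δY r ⇑α) u) :
    Cyc.RatEquiv δX (k + r - 1) γ₁ γ₂ :=
  ratEquiv_pull_c1Cap δY δX hY hX f (r : ℤ)
    (fun x hmax => shift_of_hasRelDim f δX δY r hr hδ x hmax) L hL k α hα v hv u hu γ₁ γ₂ h₁ h₂

end Groth.Agent.Lib.T2H4.PullC1
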