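import Mathlib
import Groth.Prelude.Def_C1
import Groth.Prelude.Def_Cyc
import Groth.Agent.Lib.T2H4GysinPullB
import Groth.Agent.Lib.T2H4PullC1B
import Groth.Agent.Lib.T2H4ClosedImmCyc
import Groth.Agent.Lib.T2H4C1CapRat
set_option backward.isDefEq.respectTransparency.types false

/-!
# Gysin maps commute with flat pullback (helper4)

Namespace `Groth.Agent.Lib.T2H4.GysinPull`.
-/

set_option autoImplicit false
set_option linter.style.haveILetI false
universe u
open CategoryTheory CategoryTheory.Limits AlgebraicGeometry TopologicalSpace Opposite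

namespace Groth.Agent.Lib.T2H4.GysinPull

open Groth.Agent.Lib.T2H4.BCClosedImm Groth.Agent.Lib.T2H4.GysinFlat Groth.Agent.Lib.T2H4.PushPull
  Groth.Agent.Lib.T2H4.SecOrdGen Groth.Agent.Lib.T2H4.PullStalk Groth.Agent.Lib.T2H4.ZeroSecCap
  Groth.Agent.Lib.T2H4.PullC1 Groth.Agent.Lib.T2H4.PullDivFlat Groth.Agent.Lib.T2H4.GysinSelf
  Groth.Agent.Lib.T2H4.ClosedImmCyc Groth.Agent.Lib.T2H4.C1CapRat

variable {X X' D : Scheme.{u}}

open Classical in
/-- **Gysin maps commute with flat pullback** -/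
theorem gysin_pullFun_ratEquiv (δ : X → ℤ) (δ' : X' → ℤ) (hX : Cyc.IsSetup X δ)
    (hX' : Cyc.IsSetup X' δ') (f : X' ⟶ X) [Flat f] [LocallyOfFiniteType f] (r : ℕ)
    (hr : Cyc.HasRelDim f r) (hδ : Cyc.DeltaCompat f δ' δ) (L : X.Modules)
    (hL : PicF.IsInvertible L) (s : L.presheaf.obj (Opposite.op ⊤)) (i : D ⟶ X)
    [IsClosedImmersion i] (hD : Cyc.IsZeroSchemeOf i L s)
    (s' : ((Scheme.Modules.pullback f).obj L).presheaf.obj (Opposite.op ⊤))
    (hD' : Cyc.IsZeroSchemeOf (pullback.fst f i) ((Scheme.Modules.pullback f).obj L) s') (k : ℤ)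
    (α : AlgebraicCycle X ℤ) (hα : α ∈ Cyc.Zk X δ (k + 1))
    (w : (ξ : X) → Cyc.secFibre L ξ) (hw : ∀ ξ, w ξ ≠ 0)
    (w' : (ξ : X') → Cyc.secFibre ((Scheme.Modules.pullback f).obj L) ξ) (hw' : ∀ ξ, w' ξ ≠ 0)
    (ζ₁ ζ₂ : AlgebraicCycle (pullback f i) ℤ)
    (h₁ : ∀ z, ζ₁ z = Cyc.c1CapFun δ' ((Scheme.Modules.pullback f).obj L)
      (Cyc.pullFun f δ' δ r ⇑α) (Cyc.gysinChoice ((Scheme.Modules.pullback f).obj L) s' w')
      (pullback.fst f i z))
    (h₂ : ⇑ζ₂ = Cyc.pullFun (pullback.snd f i) (fun z => δ' (pullback.fst f i z))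
      (fun d => δ (i d)) r (fun d => Cyc.c1CapFun δ L ⇑α (Cyc.gysinChoice L s w) (i d))) :
    Cyc.RatEquiv (fun z => δ' (pullback.fst f i z)) (k + r) ζ₁ ζ₂ := by
  haveI : IsLocallyNoetherian X := hX.1
  haveI : IsLocallyNoetherian X' := hX'.1
  have hδfun := hX.2.2
  have hδ'fun := hX'.2.2
  have hc : ∀ x' : X', (∀ y, f y = f x' → y ⤳ x' → y = x') → δ' x' = δ (f x') + (r : ℤ) :=
    fun x' hmax => shift_of_hasRelDim f δ' δ r hr hδ x' hmax
  have hM := Groth.Agent.Lib.Helper23.PB.isInvertible_pullback f L hL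
  have hN := Groth.Agent.Lib.Helper23.PB.isInvertible_pullback (pullback.fst f i)
    ((Scheme.Modules.pullback f).obj L) hM
  -- the pulled back cycle
  set β' := pullCycle f δ δ' hδ'fun (r : ℤ) hc α with hβ'
  have hβ'coe : ⇑β' = Cyc.pullFun f δ' δ r ⇑α := rfl
  have hβ'Zk : β' ∈ Cyc.Zk X' δ' (k + 1 + r) := pullCycle_mem_Zk f δ δ' hδ'fun r hc (k + 1) α hα
  -- lifts of the sections downstairs
  let l : (ξ : X) → L.presheaf.stalk ξ := fun ξ =>
    if (Submodule.Quotient.mk ((L.presheaf.germ ⊤ ξ trivial) s) : Cyc.secFibre L ξ) ≠ 0 then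
      (L.presheaf.germ ⊤ ξ trivial) s
    else Classical.choose (Submodule.Quotient.mk_surjective _ (w ξ))
  have hl : ∀ ξ, (Submodule.Quotient.mk (l ξ) : Cyc.secFibre L ξ) = Cyc.gysinChoice L s w ξ := by
    intro ξ
    unfold Cyc.gysinChoice
    by_cases hs : (Submodule.Quotient.mk ((L.presheaf.germ ⊤ ξ trivial) s) : Cyc.secFibre L ξ) ≠ 0
    · simp only [l, if_pos hs]
    · simp only [l, if_neg hs]
      exact Classical.choose_spec (Submodule.Quotient.mk_surjective _ (w ξ))
  have hlne : ∀ ξ, (Submodule.Quotient.mk (l ξ) : Cyc.secFibre L ξ) ≠ 0 := by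
    intro ξ
    rw [hl]
    unfold Cyc.gysinChoice
    by_cases hs : (Submodule.Quotient.mk ((L.presheaf.germ ⊤ ξ trivial) s) : Cyc.secFibre L ξ) ≠ 0
    · rw [if_pos hs]; exact hs
    · rw [if_neg hs]; exact hw ξ
  have hv : Cyc.gysinChoice L s w = fun ξ => Submodule.Quotient.mk (l ξ) := funext (fun ξ => (hl ξ).symm)
  set u : (ζ : X') → Cyc.secFibre ((Scheme.Modules.pullback f).obj L) ζ :=
    fun ζ => Submodule.Quotient.mk ((pullStalk f L ζ).hom (l (f ζ))) with hu
  have hune : ∀ ζ, u ζ ≠ 0 := fun ζ => mk_pullStalk_ne_zero f L hL ζ (l (f ζ)) (hlne (f ζ))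
  set v' := Cyc.gysinChoice ((Scheme.Modules.pullback f).obj L) s' w' with hv'
  have hv'ne : ∀ ζ, v' ζ ≠ 0 := by
    intro ζ
    rw [hv']
    unfold Cyc.gysinChoice
    split_ifs with hs
    · exact hs
    · exact hw' ζ
  -- the second cycle as a first Chern class upstairs
  have h₂' : ∀ z, ζ₂ z = Cyc.c1CapFun δ' ((Scheme.Modules.pullback f).obj L) ⇑β' u
      (pullback.fst f i z) := by
    intro z
    rw [h₂, pullFun_snd f i δ δ' r (Cyc.c1CapFun δ L ⇑α (Cyc.gysinChoice L s w)) z, hv,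
      pullFun_c1CapFun f L hL δ δ' hδfun hδ'fun r hc α l hlne]
    rfl
  -- lifts of the sections upstairs
  have hlift : ∀ z' : ↥(pullback f i), ∃ m : ((Scheme.Modules.pullback f).obj L).presheaf.stalk
      (pullback.fst f i z'), (Submodule.Quotient.mk m :
        Cyc.secFibre ((Scheme.Modules.pullback f).obj L) (pullback.fst f i z')) =
        v' (pullback.fst f i z') :=
    fun z' => Submodule.Quotient.mk_surjective _ _
  choose m₁ hm₁ using hlift
  set t₁ : (z' : ↥(pullback f i)) → Cyc.secFibre ((Scheme.Modules.pullback (pullback.fst f i)).obj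
      ((Scheme.Modules.pullback f).obj L)) z' :=
    fun z' => Submodule.Quotient.mk ((pullStalk (pullback.fst f i)
      ((Scheme.Modules.pullback f).obj L) z').hom (m₁ z')) with ht₁
  set t₂ : (z' : ↥(pullback f i)) → Cyc.secFibre ((Scheme.Modules.pullback (pullback.fst f i)).obj
      ((Scheme.Modules.pullback f).obj L)) z' :=
    fun z' => Submodule.Quotient.mk ((pullStalk (pullback.fst f i)
      ((Scheme.Modules.pullback f).obj L) z').hom
        ((pullStalk f L (pullback.fst f i z')).hom (l (f (pullback.fst f i z'))))) with ht₂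
  have ht₁ne : ∀ z', t₁ z' ≠ 0 := by
    intro z'
    apply mk_pullStalk_ne_zero (pullback.fst f i) _ hM z' (m₁ z')
    rw [hm₁]
    exact hv'ne _
  have ht₂ne : ∀ z', t₂ z' ≠ 0 := by
    intro z'
    apply mk_pullStalk_ne_zero (pullback.fst f i) _ hM z' _
    exact hune _
  -- the restricted cycle
  set β := ofLe (pullback.fst f i) β' (fun z' => β' (pullback.fst f i z')) (fun _ h => h) with hβ
  have hβZk : β ∈ Cyc.Zk (pullback f i) (fun z => δ' (pullback.fst f i z)) (k + r + 1) := by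
    intro z' hz'
    change β' (pullback.fst f i z') = 0
    apply hβ'Zk
    intro h
    apply hz'
    change δ' (pullback.fst f i z') = k + (r : ℤ) + 1
    rw [h]
    ring
  unfold Cyc.RatEquiv
  refine ratEquivZero_of_forall (fun z => δ' (pullback.fst f i z)) (k + r) β hβZk
    (fun z' z => Cyc.secDivFun (fun z => δ' (pullback.fst f i z))
        ((Scheme.Modules.pullback (pullback.fst f i)).obj ((Scheme.Modules.pullback f).obj L))
        z' (t₁ z') z -
      Cyc.secDivFun (fun z => δ' (pullback.fst f i z))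
        ((Scheme.Modules.pullback (pullback.fst f i)).obj ((Scheme.Modules.pullback f).obj L))
        z' (t₂ z') z)
    (fun z' => exists_secDivFun_sub _ hN (fun z => δ' (pullback.fst f i z)) z' (t₁ z') (t₂ z')
      (ht₁ne z') (ht₂ne z')) (ζ₁ - ζ₂) (fun z => ?_)
  have e1 : (ζ₁ - ζ₂) z = ζ₁ z - ζ₂ z := rfl
  rw [e1, h₁ z, h₂' z, ← hβ'coe]
  unfold Cyc.c1CapFun
  rw [← finsum_sub_distrib (finite_support δ' _ β' v' _) (finite_support δ' _ β' u _),
    finsum_comp_of_injective (pullback.fst f i) (injective (pullback.fst f i))]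
  · refine finsum_congr (fun z' => ?_)
    change _ = β' (pullback.fst f i z') * _
    rw [← mul_sub, ht₁, ht₂]
    beta_reduce
    rw [secDivFun_pullStalk (pullback.fst f i) _ hM δ' z' z (m₁ z'),
      secDivFun_pullStalk (pullback.fst f i) _ hM δ' z' z, hm₁]
  · -- off `D'` the two divisors agree
    intro ξ' hξ'
    rw [← mul_sub]
    have hs' : (Submodule.Quotient.mk
        ((((Scheme.Modules.pullback f).obj L).presheaf.germ ⊤ ξ' trivial) s') :
          Cyc.secFibre ((Scheme.Modules.pullback f).obj L) ξ') ≠ 0 := by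
      intro h0
      apply hξ'
      rw [hD'.1]
      exact h0
    have hfξ' : f ξ' ∉ Set.range ⇑i := by
      intro hmem
      apply hξ'
      rw [Scheme.Pullback.range_fst]
      exact hmem
    have hs : (Submodule.Quotient.mk ((L.presheaf.germ ⊤ (f ξ') trivial) s) :
        Cyc.secFibre L (f ξ')) ≠ 0 := by
      intro h0
      apply hfξ'
      rw [hD.1]
      exact h0
    have hv'ξ : v' ξ' = Submodule.Quotient.mk
        ((((Scheme.Modules.pullback f).obj L).presheaf.germ ⊤ ξ' trivial) s') := by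
      rw [hv']
      unfold Cyc.gysinChoice
      rw [if_pos hs']
    have huξ : u ξ' = Submodule.Quotient.mk
        ((pullStalk f L ξ').hom ((L.presheaf.germ ⊤ (f ξ') trivial) s)) := by
      rw [hu]
      simp only [l, if_pos hs]
    have hsec : Cyc.secDivFun δ' ((Scheme.Modules.pullback f).obj L) ξ' (v' ξ')
          (pullback.fst f i z) =
        Cyc.secDivFun δ' ((Scheme.Modules.pullback f).obj L) ξ' (u ξ') (pullback.fst f i z) := by
      unfold Cyc.secDivFun
      by_cases hcond : ξ' ⤳ pullback.fst f i z ∧ δ' (pullback.fst f i z) + 1 = δ' ξ'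
      · rw [dif_pos hcond, dif_pos hcond, hv'ξ, huξ]
        exact secOrdAt_germ_eq f i L s s' hL hD hD' z ξ' hcond.1 hs'
      · rw [dif_neg hcond, dif_neg hcond]
    rw [hsec, sub_self, mul_zero]

end Groth.Agent.Lib.T2H4.GysinPull
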