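import Groth.Agent.Lib.T2H4GammaComp
import Groth.Agent.Lib.Helper1Extend

/-!
# `H^i_I(K|_A) ≅ H^i_{IB}(K)|_A` for Noetherian rings (helper4)

`HDI` of a restriction of scalars, computed through K-injective resolutions, the
`Γ_I`-acyclicity of restrictions of injective `B`-modules (via divisibility modulo torsion).
-/

set_option autoImplicit false
universe u v w
open CategoryTheory CategoryTheory.Limits DerivedCategory
attribute [local instance] HasDerivedCategory.standard

namespace Groth.Agent.Lib.T2H4.GNoeth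

open Groth.Agent.Lib.Helper17.KInj Groth.Agent.Lib.T2H4.DComp Groth.Agent.Lib.T2H4.RGam
open Groth.Agent.Lib.Helper1.BKF

section DivM

variable (A : Type u) [CommRing A]

/-- divisibility modulo torsion in all `Γ_{I'} M`. -/
def DivM (M : Type u) [AddCommGroup M] [Module A M] : Prop :=
  ∀ (I' : Ideal A) (f : A) (w : M), w ∈ DRing.torsionSub I' M → ∀ k : ℕ,
    ∃ w' ∈ DRing.torsionSub I' M, ∃ N : ℕ, f ^ N • (w - f ^ k • w') = 0

variable {A}

lemma divM_of_injective [IsNoetherianRing A] (E : Type u) [AddCommGroup E] [Module A E]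
    [Module.Injective A E] : DivM A E :=
  fun I' f w hw k => exists_div I' f E w hw k

lemma DivM.of_equiv {M N : Type u} [AddCommGroup M] [Module A M] [AddCommGroup N] [Module A N]
    (e : M ≃ₗ[A] N) (h : DivM A M) : DivM A N := by
  intro I' f w hw k
  obtain ⟨w', hw't, n, hn⟩ := h I' f (e.symm w)
    (DRing.map_mem_torsionSub I' e.symm.toLinearMap hw) k
  refine ⟨e w', DRing.map_mem_torsionSub I' e.toLinearMap hw't, n, ?_⟩
  have h1 := congrArg e hn
  rw [map_smul, map_sub, map_smul, LinearEquiv.apply_symm_apply, map_zero] at h1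
  exact h1

lemma DivM.prod {M N : Type u} [AddCommGroup M] [Module A M] [AddCommGroup N] [Module A N]
    (hM : DivM A M) (hN : DivM A N) : DivM A (M × N) := by
  intro I' f w hw k
  obtain ⟨w₁, hw₁t, n₁, hn₁⟩ := hM I' f w.1
    (DRing.map_mem_torsionSub I' (LinearMap.fst A M N) hw) k
  obtain ⟨w₂, hw₂t, n₂, hn₂⟩ := hN I' f w.2
    (DRing.map_mem_torsionSub I' (LinearMap.snd A M N) hw) k
  refine ⟨(w₁, w₂), ?_, n₁ + n₂, ?_⟩
  · have h1 : ((w₁, w₂) : M × N) = LinearMap.inl A M N w₁ + LinearMap.inr A M N w₂ := by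
      simp
    rw [h1]
    exact (DRing.torsionSub I' (M × N)).add_mem
      (DRing.map_mem_torsionSub I' (LinearMap.inl A M N) hw₁t)
      (DRing.map_mem_torsionSub I' (LinearMap.inr A M N) hw₂t)
  · apply Prod.ext
    · show f ^ (n₁ + n₂) • (w.1 - f ^ k • w₁) = 0
      rw [pow_add, mul_comm, mul_smul, hn₁, smul_zero]
    · show f ^ (n₁ + n₂) • (w.2 - f ^ k • w₂) = 0
      rw [pow_add, mul_smul, hn₂, smul_zero]

end DivM

section Restrict

variable {A B : Type u} [CommRing A] [CommRing B] (φ : A →+* B)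

lemma mem_torsionSub_restrict_iff (I : Ideal A) (M : ModuleCat.{u} B) (x : M) :
    (x : (ModuleCat.restrictScalars.{u} φ).obj M) ∈
        DRing.torsionSub I ((ModuleCat.restrictScalars.{u} φ).obj M) ↔
      x ∈ DRing.torsionSub (I.map φ) M := by
  constructor
  · rintro ⟨n, hn⟩
    refine ⟨n, fun b hb => ?_⟩
    rw [← Ideal.map_pow] at hb
    refine Submodule.span_induction (p := fun b _ => b • x = 0) ?_ ?_ ?_ ?_ hb
    · rintro _ ⟨a, ha, rfl⟩
      exact hn a ha
    · exact zero_smul _ _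
    · intro b c _ _ hb hc
      rw [add_smul, hb, hc, add_zero]
    · intro c b _ hb
      rw [smul_eq_mul, mul_smul, hb, smul_zero]
  · rintro ⟨n, hn⟩
    refine ⟨n, fun a ha => ?_⟩
    have h1 : φ a ∈ (I.map φ) ^ n := by
      rw [← Ideal.map_pow]
      exact Ideal.mem_map_of_mem φ ha
    exact hn _ h1

lemma divM_restrict [IsNoetherianRing B] (M : ModuleCat.{u} B) [Module.Injective B M] :
    DivM A ((ModuleCat.restrictScalars.{u} φ).obj M) := by
  intro I' f w hw k
  let wB : M := w
  have hw' : wB ∈ DRing.torsionSub (I'.map φ) M :=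
    (mem_torsionSub_restrict_iff φ I' M wB).1 hw
  obtain ⟨w', hw't, N, hN⟩ := exists_div (I'.map φ) (φ f) M wB hw' k
  let w'A : (ModuleCat.restrictScalars.{u} φ).obj M := w'
  refine ⟨w'A, (mem_torsionSub_restrict_iff φ I' M w').2 hw't, N, ?_⟩
  have h1 : f ^ N • (w - f ^ k • w'A) = ((φ f) ^ N • (wB - (φ f) ^ k • w') : M) := by
    show (φ (f ^ N) • (wB - φ (f ^ k) • w') : M) = _
    rw [map_pow, map_pow]
  exact h1.trans hN

/-- `Γ_I(M|_A) ≃ (Γ_{IB} M)|_A`. -/
def torsionRestrictEquiv (I : Ideal A) (M : ModuleCat.{u} B) :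
    DRing.torsionSub I ((ModuleCat.restrictScalars.{u} φ).obj M) ≃ₗ[A]
      (ModuleCat.restrictScalars.{u} φ).obj (ModuleCat.of B (DRing.torsionSub (I.map φ) M)) where
  toFun x := (⟨x.1, (mem_torsionSub_restrict_iff φ I M x.1).1 x.2⟩ :
    DRing.torsionSub (I.map φ) M)
  invFun y := ⟨(y : DRing.torsionSub (I.map φ) M).1,
    (mem_torsionSub_restrict_iff φ I M _).2 (y : DRing.torsionSub (I.map φ) M).2⟩
  map_add' _ _ := rfl
  map_smul' _ _ := rfl
  left_inv _ := rfl
  right_inv _ := rfl

/-- `Γ_I(C|_A) ≅ (Γ_{IB} C)|_A` for complexes. -/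
noncomputable def gammaResIso (I : Ideal A) (C : CochainComplex (ModuleCat.{u} B) ℤ) :
    (gammaCx I).obj (((ModuleCat.restrictScalars.{u} φ).mapHomologicalComplex
        (ComplexShape.up ℤ)).obj C) ≅
      ((ModuleCat.restrictScalars.{u} φ).mapHomologicalComplex (ComplexShape.up ℤ)).obj
        ((gammaCx (I.map φ)).obj C) :=
  HomologicalComplex.Hom.isoOfComponents
    (fun n => (torsionRestrictEquiv φ I (C.X n)).toModuleIso) (by
      intro i j _
      ext x
      rfl)

/-- restriction of scalars of a linear equivalence, across universes. -/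
def restrictEquiv {M : ModuleCat.{v} B} {N : ModuleCat.{w} B} (e : M ≃ₗ[B] N) :
    (ModuleCat.restrictScalars φ).obj M ≃ₗ[A] (ModuleCat.restrictScalars φ).obj N where
  toFun x := e x
  invFun y := e.symm y
  map_add' x y := e.map_add x y
  map_smul' a x := e.map_smul (φ a) x
  left_inv x := e.symm_apply_apply x
  right_inv y := e.apply_symm_apply y

end Restrict

section Cone

variable {A : Type u} [CommRing A]

lemma div_of_forall (T : CochainComplex (ModuleCat.{u} A) ℤ) (h : ∀ n, DivM A (T.X n)) : Div T :=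
  fun I' f n w hw k => h n I' f w hw k

lemma divM_mappingCone_X {C D : CochainComplex (ModuleCat.{u} A) ℤ} (φ : C ⟶ D)
    (hC : ∀ n, DivM A (C.X n)) (hD : ∀ n, DivM A (D.X n)) (n : ℤ) :
    DivM A ((CochainComplex.mappingCone φ).X n) :=
  DivM.of_equiv
    (HomologicalComplex.homotopyCofiber.XIsoBiprod φ n (n + 1) rfl).symm.toLinearEquiv
    (DivM.of_equiv (ModuleCat.biprodIsoProd (C.X (n + 1)) (D.X n)).symm.toLinearEquiv
      ((hC (n + 1)).prod (hD n)))

variable [IsNoetherianRing A]

/-- `Γ_𝔟` preserves acyclicity of complexes with the divisibility property. -/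
lemma acyclic_gammaCx_of_div (𝔟 : Ideal A) (T : CochainComplex (ModuleCat.{u} A) ℤ)
    (hT : Div T) (hac : T.Acyclic) : ((gammaCx 𝔟).obj T).Acyclic := by
  have hex : ∀ (i j k : ℤ) (_ : i + 1 = j) (_ : j + 1 = k) (z : T.X j), (T.d j k).hom z = 0 →
      ∃ w : T.X i, (T.d i j).hom w = z := by
    intro i j k hij hjk z hz
    have h1 := (T.exactAt_iff' i j k (by simp [← hij]) (by simp [← hjk])).1 (hac j)
    rw [ShortComplex.moduleCat_exact_iff] at h1
    exact h1 z hz
  obtain ⟨s, hs⟩ := (isNoetherianRing_iff_ideal_fg A).1 inferInstance 𝔟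
  have h := ps_pi_span hT s (fun f _ i j k hij hjk z hz => by
    obtain ⟨w, hw⟩ := hex i j k hij hjk z hz
    exact ⟨0, w, by rw [pow_zero, one_smul, hw]⟩)
  rw [hs] at h
  intro j
  rw [((gammaCx 𝔟).obj T).exactAt_iff' (j - 1) j (j + 1) (by simp) (by simp),
    ShortComplex.moduleCat_exact_iff]
  intro (x : DRing.torsionSub 𝔟 (T.X j)) hx
  have hx' : (T.d j (j + 1)).hom x.1 = 0 := congrArg Subtype.val hx
  obtain ⟨w, hw⟩ := hex (j - 1) j (j + 1) (by lia) rfl x.1 hx'
  obtain ⟨w', hw't, hw'⟩ := h.2 (j - 1) j (by lia) x.1 x.2 ⟨w, hw⟩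
  exact ⟨(⟨w', hw't⟩ : DRing.torsionSub 𝔟 (T.X (j - 1))), Subtype.ext hw'⟩

/-- `Γ_𝔟` preserves quasi-isomorphisms whose cone has the divisibility property. -/
lemma quasiIso_gammaCx_map_of_div (𝔟 : Ideal A) {C D : CochainComplex (ModuleCat.{u} A) ℤ}
    (φ : C ⟶ D) [QuasiIso φ] (hdiv : Div (CochainComplex.mappingCone φ)) :
    QuasiIso ((gammaCx 𝔟).map φ) := by
  apply quasiIso_of_acyc_cone
  have h1 : (CochainComplex.mappingCone φ).Acyclic :=
    (acyc_iff_acyclic _).1 (acyc_cone_of_quasiIso φ)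
  have h2 := acyclic_gammaCx_of_div 𝔟 _ hdiv h1
  exact Acyc.of_iso (CochainComplex.mappingCone.mapHomologicalComplexIso φ (DRing.gammaI 𝔟))
    ((acyc_iff_acyclic _).2 h2)

end Cone

section Main

variable {A : Type u} [CommRing A] (I : Ideal A)

/-- `HDI` through a K-injective representative. -/
noncomputable def HDIEquivHq (K : Dual.D A) (J : CochainComplex (ModuleCat.{u} A) ℤ)
    [J.IsKInjective] (e : K ≅ (Q : _ ⥤ Dual.D A).obj J) (q : ℤ) :
    Dual2.HDI A I K q ≃ₗ[A] Hq I J q :=
  ((HasColimit.isoOfNatIso (Functor.isoWhiskerLeft _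
      ((linearYoneda A (Dual.D A)).mapIso
        ((CategoryTheory.shiftFunctor (Dual.D A) q).mapIso e)))).toLinearEquiv).trans
    (ΦEquiv I J q)

end Main

section Thm

open Groth.Agent.Lib.Helper1.Extend

variable (A B : Type u) [CommRing A] [CommRing B] [Algebra A B] [IsNoetherianRing A]
  [IsNoetherianRing B]

/-- **`H^i_I(K|_A) ≅ H^i_{IB}(K)|_A`** for Noetherian rings. -/
theorem nonempty_HDI_restrict_iso (I : Ideal A) (K : Dual.D B) (i : ℤ) :
    Nonempty (Dual2.HDI A I ((DRing.restrictD (algebraMap A B)).obj K) i ≅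
      (ModuleCat.restrictScalars (algebraMap A B)).obj
        (Dual2.HDI B (I.map (algebraMap A B)) K i)) := by
  obtain ⟨JB, hJB, ⟨e⟩⟩ := exists_fibrant K
  haveI : JB.IsKInjective := hJB.isKInjective
  let C : CochainComplex (ModuleCat.{u} A) ℤ :=
    ((ModuleCat.restrictScalars.{u} (algebraMap A B)).mapHomologicalComplex
      (ComplexShape.up ℤ)).obj JB
  let JA := (fibRepl₀.{u} (ModuleCat.{u} A)).obj C
  let q : C ⟶ JA := (fibReplι₀.{u} (ModuleCat.{u} A)).app C
  have hJA : fibrant.{u} (ModuleCat.{u} A) JA := fibrant_fibRepl₀ _ C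
  haveI : QuasiIso q := (trivCof_fibReplι₀ _ C).2
  haveI : JA.IsKInjective := hJA.isKInjective
  haveI : IsIso ((Q : _ ⥤ Dual.D A).map q) := by
    rw [DerivedCategory.isIso_Q_map_iff_quasiIso]
    infer_instance
  let eA : (DRing.restrictD (algebraMap A B)).obj K ≅ (Q : _ ⥤ Dual.D A).obj JA :=
    (DRing.restrictD (algebraMap A B)).mapIso e ≪≫
      ((ModuleCat.restrictScalars.{u} (algebraMap A B)).mapDerivedCategoryFactors.app JB) ≪≫
      asIso ((Q : _ ⥤ Dual.D A).map q)
  let ea := HDIEquivHq I _ JA eA i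
  let eb := (homologyEquiv ((gammaCx I).obj JA) i).symm
  have hdivC : ∀ n, DivM A (C.X n) := by
    intro n
    haveI : Injective (ModuleCat.of B (JB.X n)) := injective_X_of_rlp hJB n
    haveI : Module.Injective B (JB.X n) := Module.injective_module_of_injective_object B (JB.X n)
    exact divM_restrict (algebraMap A B) (JB.X n)
  have hdivJA : ∀ n, DivM A (JA.X n) := by
    intro n
    haveI : Injective (ModuleCat.of A (JA.X n)) := injective_X_of_rlp hJA n
    haveI : Module.Injective A (JA.X n) := Module.injective_module_of_injective_object A (JA.X n)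
    exact divM_of_injective (JA.X n)
  haveI : QuasiIso ((gammaCx I).map q) :=
    quasiIso_gammaCx_map_of_div I q (div_of_forall _ (divM_mappingCone_X q hdivC hdivJA))
  haveI : IsIso ((Q : _ ⥤ Dual.D A).map ((gammaCx I).map q)) := by
    rw [DerivedCategory.isIso_Q_map_iff_quasiIso]
    infer_instance
  let ec := ((DerivedCategory.homologyFunctor (ModuleCat.{u} A) i).mapIso
    (asIso ((Q : _ ⥤ Dual.D A).map ((gammaCx I).map q)))).symm.toLinearEquiv
  let ed := ((DerivedCategory.homologyFunctor (ModuleCat.{u} A) i).mapIso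
    ((Q : _ ⥤ Dual.D A).mapIso (gammaResIso (algebraMap A B) I JB))).toLinearEquiv
  let ee := ((DerivedCategory.homologyFunctor (ModuleCat.{u} A) i).mapIso
    ((ModuleCat.restrictScalars.{u} (algebraMap A B)).mapDerivedCategoryFactors.app
      ((gammaCx (I.map (algebraMap A B))).obj JB)).symm).toLinearEquiv
  let ef := (homologyMapDIso (ModuleCat.restrictScalars.{u} (algebraMap A B))
    ((Q : _ ⥤ Dual.D B).obj ((gammaCx (I.map (algebraMap A B))).obj JB)) i).toLinearEquiv
  let eB := (HDIEquivHq (I.map (algebraMap A B)) K JB e i).trans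
    (homologyEquiv ((gammaCx (I.map (algebraMap A B))).obj JB) i).symm
  let eg := restrictEquiv (algebraMap A B) eB.symm
  exact ⟨(ea.trans (eb.trans (ec.trans (ed.trans (ee.trans (ef.trans eg)))))).toModuleIso⟩

end Thm

end Groth.Agent.Lib.T2H4.GNoeth
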