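import Mathlib
import Groth.Agent.Lib.T2H4HZshDepth
import Groth.Agent.Lib.Helper8CdDim

/-!
# Vanishing of local cohomology sheaves above the dimension (helper4)
-/

set_option autoImplicit false

namespace Groth.Agent.Lib.T2H4.HZshDim

universe u
open CategoryTheory CategoryTheory.Limits TopologicalSpace Opposite AlgebraicGeometry LocCohZ
open Groth.Agent.Lib.Helper16.LocCohShift Groth.Agent.Lib.Helper16.ClosedEmb

section Basis

variable {X : TopCat.{u}} (U : Opens X) (F : CohTop.Ab X) (𝔅 : Set (Opens X))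
  (hB : ∀ (V : Opens X) (x : X), x ∈ V → ∃ V' ∈ 𝔅, x ∈ V' ∧ V' ≤ V)

include hB in
/-- single-degree version of `HZshBasis.HZsh_isZero_of_basis` -/
theorem HZsh_isZero_of_basis' (i : ℕ)
    (h : ∀ V' ∈ 𝔅, Subsingleton (LocCohZ.HZ F i (inf_le_left : V' ⊓ U ≤ V'))) :
    IsZero ((LocCohZ.HZsh U i).obj F) := by
  cases i with
  | zero =>
    exact (HZsh_zero_iff U F).2
      (Groth.Agent.Lib.T2H4.HZshBasis.HZ_zero_of_basis U F 𝔅 hB (fun V' hV' => h V' hV'))
  | succ k =>
    rw [HZsh_succ_iff, locSurj_iff]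
    intro V t x hx
    obtain ⟨V', hV', hxV', hle⟩ := hB V x hx
    have hsurj := (secSurj_iff U ((DD F).g k) V').2 ((homSurj_iff U _ V').1
      ((HZ_succ_iff U F k V').1 (h V' hV')))
    obtain ⟨s, hs⟩ := hsurj (((LocCohZ.sectSuppF U).obj ((DD F).Z (k + 1))).obj.map (homOfLE hle).op t)
    exact ⟨V', hle, ⟨s, hs⟩, hxV'⟩

end Basis

section Alg

open Groth.Agent.Lib.Helper8.CdDim

theorem subsingleton_H_of_forall_dim_lt {R : Type u} [CommRing R] [IsNoetherianRing R]
    (I : Ideal R) (M : Type u) [AddCommGroup M] [Module R M] (i : ℕ)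
    (h : ∀ (P : Ideal R) [P.IsMaximal], I ≤ P →
      ringKrullDim (Localization.AtPrime P) < ((i : ℕ) : WithBot ℕ∞)) :
    Subsingleton (LocCoh.H I i M) := by
  refine Module.subsingleton_of_localization_maximal (R := R) (M := LocCoh.H I i M)
      (fun P _ => LocalizedModule P.primeCompl (LocCoh.H I i M))
      (fun P _ => LocalizedModule.mkLinearMap P.primeCompl (LocCoh.H I i M)) ?_
  intro P hP
  have e1 := (LocalizedModule.equivTensorProduct P.primeCompl (LocCoh.H I i M))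
  obtain ⟨e2⟩ := Groth.Agent.S11617.result R (Localization.AtPrime P) I M i
  have h3 : Subsingleton (LocCoh.H (Ideal.map (algebraMap R (Localization.AtPrime P)) I) i
      (TensorProduct R (Localization.AtPrime P) M)) := by
    by_cases hIP : I ≤ P
    · have hdim := h P hIP
      exact ⟨fun y y' => (Q_all i _ hdim _ _ y).trans (Q_all i _ hdim _ _ y').symm⟩
    · have htop : Ideal.map (algebraMap R (Localization.AtPrime P)) I = ⊤ := by
        obtain ⟨a, haI, haP⟩ := SetLike.not_le_iff_exists.mp hIP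
        apply Ideal.eq_top_of_isUnit_mem _ (Ideal.mem_map_of_mem _ haI)
        exact IsLocalization.map_units (Localization.AtPrime P) (⟨a, haP⟩ : P.primeCompl)
      rw [htop]
      exact ⟨fun y y' => (H_top_eq_zero i _ y).trans (H_top_eq_zero i _ y').symm⟩
  exact (e1.trans e2).toEquiv.subsingleton

end Alg


section Geom

open Groth.Agent.Lib.T2H2.LowCechR Groth.Agent.Lib.T2H4.AffKz Groth.Agent.Lib.T2H4.AffLES
open Groth.Agent.Lib.T2H4.HZshDepth Groth.Agent.Lib.Helper2.QCoh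

variable {X : Scheme.{u}} [IsLocallyNoetherian X] (M : X.Modules) [M.IsQuasicoherent]

omit [IsLocallyNoetherian X] in
lemma dim_aux {W : X.Opens} (hW : IsAffineOpen W) (y : PrimeSpectrum Γ(X, W)) :
    ringKrullDim (Localization.AtPrime y.asIdeal) =
      ringKrullDim (X.presheaf.stalk (hW.fromSpec y)) := by
  have hyW : hW.fromSpec y ∈ W := fromSpec_mem hW y
  letI : Algebra Γ(X, W) (X.presheaf.stalk (hW.fromSpec y)) :=
    TopCat.Presheaf.algebra_section_stalk X.presheaf ⟨hW.fromSpec y, hyW⟩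
  haveI : IsLocalization.AtPrime (X.presheaf.stalk (hW.fromSpec y)) y.asIdeal :=
    hW.isLocalization_stalk' y hyW
  rw [IsLocalization.AtPrime.ringKrullDim_eq_height y.asIdeal (Localization.AtPrime y.asIdeal),
    ← IsLocalization.AtPrime.ringKrullDim_eq_height y.asIdeal
      (X.presheaf.stalk (hW.fromSpec y))]

theorem HZ_affine_of_dim_lt (U V : X.Opens) (hV : IsAffineOpen V) (i : ℕ)
    (hi : ∀ x : X, x ∈ V → x ∉ U →
      ringKrullDim (X.presheaf.stalk x) < ((i : ℕ) : WithBot ℕ∞)) :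
    Subsingleton (LocCohZ.HZ (X := X.carrier) (Coh.toAb M) i (inf_le_left : V ⊓ U ≤ V)) := by
  obtain ⟨fs, hfs⟩ := exists_list V hV U
  have hV1 : V₁ V = V := Scheme.Opens.ι_image_top V
  have hV₁ : IsAffineOpen (V₁ V) := isAffineOpen_V₁ V hV
  rw [HZ_congr _ i _ (WX_le V fs) hfs.symm hV1.symm, subsingleton_HZ_iff_koszul M V hV fs i]
  haveI hN : IsNoetherianRing Γ(X, V₁ V) := IsLocallyNoetherian.component_noetherian ⟨V₁ V, hV₁⟩
  haveI : IsNoetherianRing Γ(V.toScheme, ⊤) := hN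
  obtain ⟨e4⟩ := Groth.Agent.Lib.T2H2.KzCech.nonempty_koszulHLim_equiv_extCechH fs
    (ModuleCat.of Γ(V.toScheme, ⊤) ((M.restrict V.ι).val.obj (op ⊤))) i
  obtain ⟨e5⟩ := Groth.Agent.Lib.Helper1.ExtCech4.nonempty_iso fs
    (ModuleCat.of Γ(V.toScheme, ⊤) ((M.restrict V.ι).val.obj (op ⊤))) i
  rw [(e4.toEquiv.trans e5.toLinearEquiv.toEquiv).subsingleton_congr]
  apply subsingleton_H_of_forall_dim_lt (R := Γ(V.toScheme, ⊤))
  intro P hP hIP
  let y : PrimeSpectrum Γ(X, V₁ V) := ⟨P, hP.isPrime⟩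
  have hyV : hV₁.fromSpec y ∈ V₁ V := fromSpec_mem hV₁ y
  have hyW : hV₁.fromSpec y ∉ WX V fs := by
    rw [mem_WX_iff]
    rintro ⟨f, hf, hxf⟩
    have h1 : Ideal.span {f : Γ(X, V₁ V) | f ∈ fs} ≤
        (hV₁.primeIdealOf ⟨hV₁.fromSpec y, hyV⟩).asIdeal := by
      rw [primeIdealOf_fromSpec hV₁ y]
      exact hIP
    exact (span_le_primeIdealOf_iff hV₁ fs _ hyV).1 h1 f hf hxf
  have hyV' : hV₁.fromSpec y ∈ V := V.ι_image_le ⊤ hyV
  have hd := hi _ hyV' (fun hU => hyW (by rw [hfs]; exact ⟨hyV', hU⟩))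
  exact lt_of_eq_of_lt (dim_aux hV₁ y) hd

theorem main (U : X.Opens) (i : ℕ)
    (hi : ∀ x : X, x ∉ (U : Set X) →
      ringKrullDim (X.presheaf.stalk x) < ((i : ℕ) : WithBot ℕ∞)) :
    IsZero ((LocCohZ.HZsh (X := X.carrier) U i).obj (Coh.toAb M)) := by
  apply HZsh_isZero_of_basis' U (Coh.toAb M) {V : X.Opens | IsAffineOpen V}
  · intro V x hx
    obtain ⟨V', hV', hxV', hle⟩ := exists_isAffineOpen_mem_and_subset (x := x) (U := V) hx
    exact ⟨V', hV', hxV', hle⟩
  · intro V hV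
    exact HZ_affine_of_dim_lt M U V hV i (fun x _ hxU => hi x hxU)

end Geom

end Groth.Agent.Lib.T2H4.HZshDim
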