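import Mathlib
import Groth.Prelude.Def_KZero

/-!
# Hilbert–Serre in `K'₀`: helpers

Classes of finite modules in `KZero.K0sub`, sub-quotient classes inside a fixed module, and
"binomial polynomial" sequences in an abelian group.
-/

namespace Groth.Agent.Lib.T2H4.HilbSerreK

open CategoryTheory

universe u

section KTheory

variable (A : Type u) [CommRing A]

/-- The property of being a finite module. -/
abbrev finP : ObjectProperty (ModuleCat.{u} A) := fun X => Module.Finite A X

/-- The class of a module in `K'₀(A)`. -/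
noncomputable def kcl (X : Type u) [AddCommGroup X] [Module A X] : KZero.K0sub (finP A) :=
  KZero.clSub (finP A) (ModuleCat.of A X)

variable {A}

theorem kcl_ses {X₁ X₂ X₃ : Type u} [AddCommGroup X₁] [Module A X₁] [AddCommGroup X₂]
    [Module A X₂] [AddCommGroup X₃] [Module A X₃] [Module.Finite A X₁] [Module.Finite A X₂]
    [Module.Finite A X₃] (f : X₁ →ₗ[A] X₂) (g : X₂ →ₗ[A] X₃) (hf : Function.Injective f)
    (hg : Function.Surjective g) (hfg : Function.Exact f g) :
    kcl A X₂ = kcl A X₁ + kcl A X₃ := by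
  set S := ModuleCat.shortComplexOfCompEqZero f g hfg.linearMap_comp_eq_zero with hS
  have hSE : S.ShortExact := ModuleCat.shortComplex_shortExact S hfg hf hg
  have h₁ : finP A S.X₁ := (inferInstance : Module.Finite A X₁)
  have h₂ : finP A S.X₂ := (inferInstance : Module.Finite A X₂)
  have h₃ : finP A S.X₃ := (inferInstance : Module.Finite A X₃)
  have hrel : (QuotientAddGroup.mk (FreeAbelianGroup.of (⟨S.X₂, h₂⟩ : Subtype (finP A)) -
      FreeAbelianGroup.of ⟨S.X₁, h₁⟩ - FreeAbelianGroup.of ⟨S.X₃, h₃⟩) :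
      KZero.K0sub (finP A)) = 0 := by
    rw [QuotientAddGroup.eq_zero_iff]
    exact AddSubgroup.subset_closure ⟨S, h₁, h₂, h₃, hSE, rfl⟩
  rw [QuotientAddGroup.mk_sub, QuotientAddGroup.mk_sub] at hrel
  have e₁ : kcl A X₁ = QuotientAddGroup.mk (FreeAbelianGroup.of (⟨S.X₁, h₁⟩ : Subtype (finP A))) := by
    unfold kcl KZero.clSub
    rw [dif_pos h₁]
  have e₂ : kcl A X₂ = QuotientAddGroup.mk (FreeAbelianGroup.of (⟨S.X₂, h₂⟩ : Subtype (finP A))) := by
    unfold kcl KZero.clSub
    rw [dif_pos h₂]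
  have e₃ : kcl A X₃ = QuotientAddGroup.mk (FreeAbelianGroup.of (⟨S.X₃, h₃⟩ : Subtype (finP A))) := by
    unfold kcl KZero.clSub
    rw [dif_pos h₃]
  rw [e₁, e₂, e₃]
  have h2 := sub_eq_zero.1 hrel
  rw [sub_eq_iff_eq_add] at h2
  rw [h2]
  abel

theorem kcl_of_subsingleton (X : Type u) [AddCommGroup X] [Module A X] [Subsingleton X] :
    kcl A X = 0 := by
  have : Module.Finite A X := Module.Finite.of_surjective (0 : X →ₗ[A] X)
    (fun x => ⟨0, Subsingleton.elim _ _⟩)
  have h := kcl_ses (A := A) (LinearMap.id : X →ₗ[A] X) (0 : X →ₗ[A] X) Function.injective_id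
    (fun x => ⟨0, Subsingleton.elim _ _⟩) (fun x => by
      simp only [LinearMap.zero_apply, Set.mem_range, LinearMap.id_coe, id_eq, exists_eq])
  have h2 : kcl A X + 0 = kcl A X + kcl A X := by rw [add_zero]; exact h
  exact (add_left_cancel h2).symm

theorem kcl_equiv {X Y : Type u} [AddCommGroup X] [Module A X] [AddCommGroup Y] [Module A Y]
    [Module.Finite A X] [Module.Finite A Y] (e : X ≃ₗ[A] Y) : kcl A X = kcl A Y := by
  have h := kcl_ses (A := A) e.toLinearMap (0 : Y →ₗ[A] PUnit.{u + 1}) e.injective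
    (fun x => ⟨0, Subsingleton.elim _ _⟩) (fun y => by
      simp only [LinearMap.zero_apply, Set.mem_range, LinearEquiv.coe_coe, true_iff]
      exact ⟨e.symm y, e.apply_symm_apply y⟩)
  rw [h, kcl_of_subsingleton PUnit.{u + 1}, add_zero]

end KTheory

section SubQuot

variable {A : Type u} [CommRing A] {M : Type u} [AddCommGroup M] [Module A M]

/-- The subquotient `U / (U ∩ U')`. -/
abbrev sq (U U' : Submodule A M) : Type u := ↥U ⧸ (U'.comap U.subtype)

/-- The class of a subquotient. -/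
noncomputable def qcl (U U' : Submodule A M) : KZero.K0sub (finP A) := kcl A (sq U U')

theorem qcl_eq_zero_of_le {U U' : Submodule A M} (h : U ≤ U') : qcl U U' = 0 := by
  have : Subsingleton (sq U U') := by
    rw [Submodule.Quotient.subsingleton_iff]
    rw [eq_top_iff]
    intro x _
    exact h x.2
  exact kcl_of_subsingleton _

theorem qcl_add {U U' U'' : Submodule A M} (h1 : U'' ≤ U') (h2 : U' ≤ U)
    [Module.Finite A U] [Module.Finite A U'] : qcl U U'' = qcl U' U'' + qcl U U' := by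
  set f : sq U' U'' →ₗ[A] sq U U'' := Submodule.mapQ _ _ (Submodule.inclusion h2) (by
    intro x hx
    exact hx) with hf
  set g : sq U U'' →ₗ[A] sq U U' :=
    Submodule.factor (Submodule.comap_mono h1) with hg
  have hfinj : Function.Injective f := by
    rw [injective_iff_map_eq_zero]
    intro y
    obtain ⟨x, rfl⟩ := Submodule.mkQ_surjective _ y
    intro hy
    rw [hf, Submodule.mkQ_apply, Submodule.mapQ_apply, Submodule.Quotient.mk_eq_zero] at hy
    rw [Submodule.mkQ_apply, Submodule.Quotient.mk_eq_zero]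
    exact hy
  have hgsurj : Function.Surjective g := by
    intro y
    obtain ⟨x, rfl⟩ := Submodule.mkQ_surjective _ y
    exact ⟨Submodule.mkQ _ x, Submodule.factor_mk _ x⟩
  have hex : Function.Exact f g := by
    intro y
    obtain ⟨x, rfl⟩ := Submodule.mkQ_surjective _ y
    rw [hg, Submodule.factor_mk, Submodule.mkQ_apply, Submodule.Quotient.mk_eq_zero]
    constructor
    · intro hx
      refine ⟨Submodule.mkQ _ ⟨x.1, hx⟩, ?_⟩
      rw [hf, Submodule.mkQ_apply, Submodule.mapQ_apply]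
      rfl
    · rintro ⟨z, hz⟩
      obtain ⟨x', rfl⟩ := Submodule.mkQ_surjective _ z
      rw [hf, Submodule.mkQ_apply, Submodule.mapQ_apply, Submodule.mkQ_apply,
        Submodule.Quotient.eq] at hz
      have h3 : ((Submodule.inclusion h2 x' - x : ↥U) : M) ∈ U'' := hz
      have h4 : (x : M) = (x' : M) - ((Submodule.inclusion h2 x' - x : ↥U) : M) := by
        simp
      show (x : M) ∈ U'
      rw [h4]
      exact U'.sub_mem x'.2 (h1 h3)
  have := kcl_ses f g hfinj hgsurj hex
  unfold qcl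
  rw [this]

theorem qcl_iso (φ : M →ₗ[A] M) {U U₁ V₁ V' : Submodule A M}
    [Module.Finite A U] [Module.Finite A V₁]
    (h1 : ∀ u ∈ U, φ u ∈ V₁) (h2 : ∀ u ∈ U, (φ u ∈ V' ↔ u ∈ U₁))
    (h3 : ∀ v ∈ V₁, ∃ u ∈ U, v - φ u ∈ V') : qcl U U₁ = qcl V₁ V' := by
  set ψ : sq U U₁ →ₗ[A] sq V₁ V' := Submodule.mapQ _ _ (φ.restrict h1) (by
    intro x hx
    exact (h2 x.1 x.2).2 hx) with hψ
  have hinj : Function.Injective ψ := by
    rw [injective_iff_map_eq_zero]
    intro y
    obtain ⟨x, rfl⟩ := Submodule.mkQ_surjective _ y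
    intro hy
    rw [hψ, Submodule.mkQ_apply, Submodule.mapQ_apply, Submodule.Quotient.mk_eq_zero] at hy
    rw [Submodule.mkQ_apply, Submodule.Quotient.mk_eq_zero]
    exact (h2 x.1 x.2).1 hy
  have hsurj : Function.Surjective ψ := by
    intro y
    obtain ⟨v, rfl⟩ := Submodule.mkQ_surjective _ y
    obtain ⟨u, hu, huv⟩ := h3 v.1 v.2
    refine ⟨Submodule.mkQ _ ⟨u, hu⟩, ?_⟩
    rw [hψ, Submodule.mkQ_apply, Submodule.mapQ_apply, Submodule.mkQ_apply, Submodule.Quotient.eq]
    show ((φ.restrict h1 ⟨u, hu⟩ - v : ↥V₁) : M) ∈ V'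
    have : ((φ.restrict h1 ⟨u, hu⟩ - v : ↥V₁) : M) = -(v.1 - φ u) := by
      simp
    rw [this]
    exact V'.neg_mem huv
  exact kcl_equiv (LinearEquiv.ofBijective ψ ⟨hinj, hsurj⟩)

/-- The four-term relation. -/
theorem qcl_four (φ : M →ₗ[A] M) {U U' U₁ V V' V₁ : Submodule A M}
    [IsNoetherian A U] [IsNoetherian A V]
    (hU1 : U' ≤ U₁) (hU2 : U₁ ≤ U) (hV1 : V' ≤ V₁) (hV2 : V₁ ≤ V)
    (h1 : ∀ u ∈ U, φ u ∈ V₁) (h2 : ∀ u ∈ U, (φ u ∈ V' ↔ u ∈ U₁))
    (h3 : ∀ v ∈ V₁, ∃ u ∈ U, v - φ u ∈ V') :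
    qcl U U' + qcl V V₁ = qcl V V' + qcl U₁ U' := by
  have : IsNoetherian A U₁ := isNoetherian_of_le hU2
  have : IsNoetherian A V₁ := isNoetherian_of_le hV2
  rw [qcl_add hU1 hU2, qcl_add hV1 hV2, qcl_iso φ h1 h2 h3]
  abel

end SubQuot

section Binom

variable {G : Type*} [AddCommGroup G]

/-- Eventually a binomial polynomial. -/
def IsBinom (f : ℕ → G) : Prop :=
  ∃ (r : ℕ) (a : ℕ → G) (N : ℕ), (∀ i, r ≤ i → a i = 0) ∧
    ∀ n, N ≤ n → f n = ∑ i ∈ Finset.range r, ((n.choose i : ℕ) : ℤ) • a i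

theorem isBinom_of_eventually_zero {f : ℕ → G} (N : ℕ) (h : ∀ n, N ≤ n → f n = 0) :
    IsBinom f :=
  ⟨0, fun _ => 0, N, fun _ _ => rfl, fun n hn => by simp [h n hn]⟩

theorem sum_range_extend (a : ℕ → G) {r r' : ℕ} (hr : r ≤ r') (ha : ∀ i, r ≤ i → a i = 0)
    (n : ℕ) : ∑ i ∈ Finset.range r', ((n.choose i : ℕ) : ℤ) • a i =
      ∑ i ∈ Finset.range r, ((n.choose i : ℕ) : ℤ) • a i := by
  symm
  apply Finset.sum_subset (Finset.range_subset_range.2 hr)
  intro i _ hi
  rw [Finset.mem_range, not_lt] at hi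
  rw [ha i hi, smul_zero]

theorem IsBinom.add {f g : ℕ → G} (hf : IsBinom f) (hg : IsBinom g) :
    IsBinom (fun n => f n + g n) := by
  obtain ⟨r, a, N, ha, hfa⟩ := hf
  obtain ⟨s, b, N', hb, hgb⟩ := hg
  refine ⟨max r s, fun i => a i + b i, max N N', fun i hi => ?_, fun n hn => ?_⟩
  · simp only
    rw [ha i (le_trans (le_max_left _ _) hi), hb i (le_trans (le_max_right _ _) hi), add_zero]
  · simp only [smul_add, Finset.sum_add_distrib]
    rw [hfa n (le_trans (le_max_left _ _) hn), hgb n (le_trans (le_max_right _ _) hn),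
      sum_range_extend a (le_max_left r s) ha, sum_range_extend b (le_max_right r s) hb]

theorem IsBinom.neg {f : ℕ → G} (hf : IsBinom f) : IsBinom (fun n => - f n) := by
  obtain ⟨r, a, N, ha, hfa⟩ := hf
  refine ⟨r, fun i => - a i, N, fun i hi => by simp [ha i hi], fun n hn => ?_⟩
  simp only [smul_neg, Finset.sum_neg_distrib]
  rw [hfa n hn]

theorem IsBinom.sub {f g : ℕ → G} (hf : IsBinom f) (hg : IsBinom g) :
    IsBinom (fun n => f n - g n) := by
  have := hf.add hg.neg
  simpa [sub_eq_add_neg] using this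

/-- If the difference sequence is eventually binomial, so is the sequence. -/
theorem IsBinom.of_diff {f g : ℕ → G} (hg : IsBinom g) (h : ∀ n, f (n + 1) = f n + g n) :
    IsBinom f := by
  obtain ⟨r, a, N, ha, hga⟩ := hg
  set b0 : G := f N - ∑ i ∈ Finset.range r, ((N.choose (i + 1) : ℕ) : ℤ) • a i with hb0
  set b : ℕ → G := fun i => if i = 0 then b0 else a (i - 1) with hb
  have key : ∀ n, N ≤ n →
      f n = b0 + ∑ i ∈ Finset.range r, ((n.choose (i + 1) : ℕ) : ℤ) • a i := by
    intro n hn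
    induction n, hn using Nat.le_induction with
    | base => rw [hb0]; abel
    | succ n hn ih =>
      rw [h n, ih, hga n hn, add_assoc, ← Finset.sum_add_distrib]
      congr 1
      refine Finset.sum_congr rfl fun i _ => ?_
      rw [Nat.choose_succ_succ, Nat.cast_add, add_smul, add_comm]
  refine ⟨r + 1, b, N, fun i hi => ?_, fun n hn => ?_⟩
  · have hi0 : i ≠ 0 := by omega
    simp only [hb, hi0, if_false]
    exact ha _ (by omega)
  · rw [key n hn, Finset.sum_range_succ']
    simp only [hb, Nat.choose_zero_right, Nat.cast_one, one_smul, if_true, Nat.add_eq_zero_iff,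
      one_ne_zero, and_false, if_false, Nat.add_sub_cancel]
    abel

end Binom

end Groth.Agent.Lib.T2H4.HilbSerreK
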