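import Mathlib
import Groth.Agent.Lib.T2H4HilbSerreK

/-!
# Hilbert–Serre in `K'₀`: graded bookkeeping

Homogeneous submodules of a graded module over an `ℕ`-graded ring, their graded pieces, and the
recurrence relating the classes of the pieces of `N / N'`, `(N' : x) ∩ N / N'` and `N / (xN + N')`.
-/

namespace Groth.Agent.Lib.T2H4.HilbSerreG

open DirectSum Groth.Agent.Lib.T2H4.HilbSerreK

universe u

set_option linter.unusedSectionVars false

section Graded

variable {A S : Type u} [CommRing A] [CommRing S] [Algebra A S] (𝒜 : ℕ → Submodule A S)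
  [GradedAlgebra 𝒜] {M : Type u} [AddCommGroup M] [Module A M] [Module S M] [IsScalarTower A S M]
  (ℳ : ℕ → Submodule A M) [DirectSum.Decomposition ℳ] [SetLike.GradedSMul 𝒜 ℳ]

omit [GradedAlgebra 𝒜] [IsScalarTower A S M] [DirectSum.Decomposition ℳ] in
include 𝒜 in
theorem smul_mem_add {i j : ℕ} {x : S} {m : M} (hx : x ∈ 𝒜 i) (hm : m ∈ ℳ j) :
    x • m ∈ ℳ (i + j) :=
  SetLike.GradedSMul.smul_mem hx hm

theorem decompose_smul_of_mem {i : ℕ} {x : S} (hx : x ∈ 𝒜 i) (m : M) (j : ℕ) :
    (decompose ℳ (x • m) (i + j) : M) = x • (decompose ℳ m j : M) := by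
  induction m using DirectSum.Decomposition.inductionOn ℳ with
  | zero => simp
  | @homogeneous k m =>
    have hxm : x • (m : M) ∈ ℳ (i + k) := smul_mem_add 𝒜 ℳ hx m.2
    by_cases hkj : k = j
    · subst hkj
      rw [decompose_of_mem_same ℳ hxm, decompose_of_mem_same ℳ m.2]
    · rw [decompose_of_mem_ne ℳ hxm (by omega), decompose_of_mem_ne ℳ m.2 hkj, smul_zero]
  | add m m' hm hm' =>
    rw [smul_add, decompose_add, decompose_add, DirectSum.add_apply, DirectSum.add_apply,
      Submodule.coe_add, Submodule.coe_add, hm, hm', smul_add]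

theorem decompose_smul_lt {i : ℕ} {x : S} (hx : x ∈ 𝒜 i) (m : M) {k : ℕ} (hk : k < i) :
    (decompose ℳ (x • m) k : M) = 0 := by
  induction m using DirectSum.Decomposition.inductionOn ℳ with
  | zero => simp
  | @homogeneous j m =>
    have hxm : x • (m : M) ∈ ℳ (i + j) := smul_mem_add 𝒜 ℳ hx m.2
    rw [decompose_of_mem_ne ℳ hxm (by omega)]
  | add m m' hm hm' =>
    rw [smul_add, decompose_add, DirectSum.add_apply, Submodule.coe_add, hm, hm', add_zero]

theorem decompose_smul_mem {d : ℕ} {τ : M} (hτ : τ ∈ ℳ d) (s : S) {n : ℕ} (hdn : d ≤ n) :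
    (decompose ℳ (s • τ) n : M) = (decompose 𝒜 s (n - d) : S) • τ := by
  induction s using DirectSum.Decomposition.inductionOn 𝒜 with
  | zero => simp
  | @homogeneous i s =>
    have hsτ : (s : S) • τ ∈ ℳ (i + d) := smul_mem_add 𝒜 ℳ s.2 hτ
    by_cases hin : i + d = n
    · have : n - d = i := by omega
      rw [this, ← hin, decompose_of_mem_same ℳ hsτ, decompose_of_mem_same 𝒜 s.2]
    · rw [decompose_of_mem_ne ℳ hsτ hin, decompose_of_mem_ne 𝒜 s.2 (by omega), zero_smul]
  | add s s' hs hs' =>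
    rw [add_smul, decompose_add, decompose_add, DirectSum.add_apply, DirectSum.add_apply,
      Submodule.coe_add, Submodule.coe_add, hs, hs', add_smul]

/-- A homogeneous `S`-submodule. -/
def IsHomog (N : Submodule S M) : Prop := ∀ m ∈ N, ∀ i, (decompose ℳ m i : M) ∈ N

/-- The degree `n` piece of a submodule. -/
def piece (N : Submodule S M) (n : ℕ) : Submodule A M := N.restrictScalars A ⊓ ℳ n

omit [DirectSum.Decomposition ℳ] in
variable {ℳ} in
theorem mem_piece {N : Submodule S M} {n : ℕ} {m : M} : m ∈ piece ℳ N n ↔ m ∈ N ∧ m ∈ ℳ n := by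
  simp [piece]

/-- `{m ∈ N | x • m ∈ N'}`. -/
def colon (N N' : Submodule S M) (x : S) : Submodule S M :=
  N ⊓ N'.comap (LinearMap.lsmul S M x)

/-- `x N + N'`. -/
def plus (N N' : Submodule S M) (x : S) : Submodule S M :=
  N.map (LinearMap.lsmul S M x) ⊔ N'

theorem mem_colon {N N' : Submodule S M} {x : S} {m : M} :
    m ∈ colon N N' x ↔ m ∈ N ∧ x • m ∈ N' := by
  simp [colon]

theorem le_colon {N N' : Submodule S M} (h : N' ≤ N) (x : S) : N' ≤ colon N N' x :=
  fun _ hm => mem_colon.2 ⟨h hm, N'.smul_mem x hm⟩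

theorem colon_le (N N' : Submodule S M) (x : S) : colon N N' x ≤ N := inf_le_left

theorem le_plus (N N' : Submodule S M) (x : S) : N' ≤ plus N N' x := le_sup_right

theorem plus_le {N N' : Submodule S M} (h : N' ≤ N) (x : S) : plus N N' x ≤ N := by
  refine sup_le ?_ h
  rintro _ ⟨m, hm, rfl⟩
  exact N.smul_mem x hm

theorem smul_mem_plus {N N' : Submodule S M} {x : S} {m : M} (hm : m ∈ N) :
    x • m ∈ plus N N' x :=
  Submodule.mem_sup_left ⟨m, hm, rfl⟩

theorem isHomog_colon {N N' : Submodule S M} (hN : IsHomog ℳ N) (hN' : IsHomog ℳ N') {x : S}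
    (hx : x ∈ 𝒜 1) : IsHomog ℳ (colon N N' x) := by
  intro m hm i
  rw [mem_colon] at hm ⊢
  refine ⟨hN m hm.1 i, ?_⟩
  rw [← decompose_smul_of_mem 𝒜 ℳ hx m i]
  exact hN' _ hm.2 _

theorem isHomog_plus {N N' : Submodule S M} (hN : IsHomog ℳ N) (hN' : IsHomog ℳ N') {x : S}
    (hx : x ∈ 𝒜 1) : IsHomog ℳ (plus N N' x) := by
  intro y hy k
  obtain ⟨y₁, ⟨m, hm, rfl⟩, m', hm', rfl⟩ := Submodule.mem_sup.1 hy
  rw [decompose_add, DirectSum.add_apply, Submodule.coe_add]
  refine (plus N N' x).add_mem ?_ (le_plus N N' x (hN' m' hm' k))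
  rcases Nat.eq_zero_or_pos k with hk | hk
  · subst hk
    have : (decompose ℳ ((LinearMap.lsmul S M x) m) 0 : M) = 0 :=
      decompose_smul_lt 𝒜 ℳ hx m (by omega)
    rw [this]
    exact Submodule.zero_mem _
  · obtain ⟨j, rfl⟩ : ∃ j, k = 1 + j := ⟨k - 1, by omega⟩
    have : (decompose ℳ ((LinearMap.lsmul S M x) m) (1 + j) : M) = x • (decompose ℳ m j : M) :=
      decompose_smul_of_mem 𝒜 ℳ hx m j
    rw [this]
    exact smul_mem_plus (hN m hm j)

/-- Multiplication by `x` as an `A`-linear map. -/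
def mulx (x : S) : M →ₗ[A] M := (LinearMap.lsmul S M x).restrictScalars A

@[simp] theorem mulx_apply (x : S) (m : M) : mulx (A := A) x m = x • m := rfl

/-- The class of the degree `n` piece of `N / N'`. -/
noncomputable def hf (N N' : Submodule S M) (n : ℕ) : KZero.K0sub (finP A) :=
  qcl (piece ℳ N n) (piece ℳ N' n)

theorem recurrence (hNoeth : ∀ n, IsNoetherian A (ℳ n)) {N N' : Submodule S M} (hle : N' ≤ N)
    (hN : IsHomog ℳ N) (hN' : IsHomog ℳ N') {x : S} (hx : x ∈ 𝒜 1) (n : ℕ) :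
    hf ℳ N N' n + hf ℳ N (plus N N' x) (n + 1) =
      hf ℳ N N' (n + 1) + hf ℳ (colon N N' x) N' n := by
  have : IsNoetherian A (piece ℳ N n) := isNoetherian_of_le (inf_le_right : piece ℳ N n ≤ ℳ n)
  have : IsNoetherian A (piece ℳ N (n + 1)) :=
    isNoetherian_of_le (inf_le_right : piece ℳ N (n + 1) ≤ ℳ (n + 1))
  have hxm : ∀ {u : M}, u ∈ ℳ n → x • u ∈ ℳ (n + 1) := fun {u} hu => by
    have := smul_mem_add 𝒜 ℳ hx hu
    rwa [add_comm] at this
  unfold hf
  refine qcl_four (mulx (A := A) x) ?_ ?_ ?_ ?_ ?_ ?_ ?_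
  · intro m hm
    rw [mem_piece] at hm ⊢
    exact ⟨le_colon hle x hm.1, hm.2⟩
  · intro m hm
    rw [mem_piece] at hm ⊢
    exact ⟨colon_le N N' x hm.1, hm.2⟩
  · intro m hm
    rw [mem_piece] at hm ⊢
    exact ⟨le_plus N N' x hm.1, hm.2⟩
  · intro m hm
    rw [mem_piece] at hm ⊢
    exact ⟨plus_le hle x hm.1, hm.2⟩
  · intro u hu
    rw [mem_piece] at hu
    rw [mulx_apply, mem_piece]
    exact ⟨smul_mem_plus hu.1, hxm hu.2⟩
  · intro u hu
    rw [mem_piece] at hu
    rw [mulx_apply, mem_piece, mem_piece, mem_colon]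
    constructor
    · intro h
      exact ⟨⟨hu.1, h.1⟩, hu.2⟩
    · intro h
      exact ⟨h.1.2, hxm hu.2⟩
  · intro v hv
    rw [mem_piece] at hv
    obtain ⟨y₁, ⟨m, hm, rfl⟩, m', hm', hsum⟩ := Submodule.mem_sup.1 hv.1
    refine ⟨(decompose ℳ m n : M), mem_piece.2 ⟨hN m hm n, (decompose ℳ m n).2⟩, ?_⟩
    have h1 : v = (decompose ℳ v (n + 1) : M) := (decompose_of_mem_same ℳ hv.2).symm
    have h2 : (decompose ℳ v (n + 1) : M) =
        x • (decompose ℳ m n : M) + (decompose ℳ m' (n + 1) : M) := by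
      rw [← hsum, decompose_add, DirectSum.add_apply, Submodule.coe_add]
      congr 1
      have := decompose_smul_of_mem 𝒜 ℳ hx m n
      rw [add_comm] at this
      exact this
    rw [mulx_apply, mem_piece]
    have h3 : v - x • (decompose ℳ m n : M) = (decompose ℳ m' (n + 1) : M) := by
      rw [h1, h2]
      abel
    rw [h3]
    exact ⟨hN' m' hm' _, (decompose ℳ m' (n + 1)).2⟩

theorem isNoetherian_degree [IsNoetherianRing S] [Module.Finite S M]
    (h0 : ∀ s ∈ 𝒜 0, s ∈ Set.range (algebraMap A S)) (n : ℕ) : IsNoetherian A (ℳ n) := by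
  classical
  have hM : IsNoetherian S M := isNoetherian_of_isNoetherianRing_of_finite S M
  constructor
  intro s
  set U : Submodule A M := s.map (ℳ n).subtype with hU_def
  have hUle : U ≤ ℳ n := Submodule.map_subtype_le _ _
  have hfg : (Submodule.span S (U : Set M)).FG := IsNoetherian.noetherian _
  obtain ⟨T, hTU, hT⟩ := (Submodule.fg_span_iff_fg_span_finset_subset (U : Set M)).1 hfg
  have hU : U = Submodule.span A (T : Set M) := by
    apply le_antisymm
    · intro u hu
      have hu' : u ∈ Submodule.span S (T : Set M) := hT ▸ Submodule.subset_span hu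
      obtain ⟨c, -, hc⟩ := Submodule.mem_span_finset.1 hu'
      have hun : u ∈ ℳ n := hUle hu
      have h1 : u = (decompose ℳ u n : M) := (decompose_of_mem_same ℳ hun).symm
      have h2 : (decompose ℳ u n : M) = ∑ t ∈ T, (decompose 𝒜 (c t) 0 : S) • t := by
        rw [← hc, decompose_sum, DFinsupp.finsetSum_apply, AddSubmonoidClass.coe_finsetSum]
        refine Finset.sum_congr rfl fun t ht => ?_
        have htn : t ∈ ℳ n := hUle (hTU ht)
        have := decompose_smul_mem 𝒜 ℳ htn (c t) (le_refl n)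
        rwa [Nat.sub_self] at this
      rw [h1, h2]
      refine Submodule.sum_mem _ fun t ht => ?_
      obtain ⟨a, ha⟩ := h0 _ (decompose 𝒜 (c t) 0).2
      rw [← ha, algebraMap_smul]
      exact Submodule.smul_mem _ _ (Submodule.subset_span ht)
    · exact Submodule.span_le.2 hTU
  have hUfg : U.FG := by
    rw [hU]
    exact Submodule.fg_span T.finite_toSet
  exact Submodule.fg_of_fg_map_injective _ (ℳ n).injective_subtype hUfg

theorem piece_le_of_irrelevant_smul [IsNoetherianRing S] [Module.Finite S M]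
    {N N' : Submodule S M} (hN : IsHomog ℳ N)
    (hkill : ∀ s ∈ (HomogeneousIdeal.irrelevant 𝒜).toIdeal, ∀ m ∈ N, s • m ∈ N') :
    ∃ n₀, ∀ n, n₀ ≤ n → piece ℳ N n ≤ piece ℳ N' n := by
  classical
  have hM : IsNoetherian S M := isNoetherian_of_isNoetherianRing_of_finite S M
  obtain ⟨T, hT⟩ : N.FG := IsNoetherian.noetherian N
  set D : ℕ := T.sup (fun t => (decompose ℳ t).support.sup id) with hD
  refine ⟨D + 1, fun n hn u hu => ?_⟩
  rw [mem_piece] at hu ⊢
  refine ⟨?_, hu.2⟩
  have hu' : u ∈ Submodule.span S (T : Set M) := hT ▸ hu.1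
  obtain ⟨c, -, hc⟩ := Submodule.mem_span_finset.1 hu'
  have h1 : u = (decompose ℳ u n : M) := (decompose_of_mem_same ℳ hu.2).symm
  have hTN : ∀ t ∈ T, t ∈ N := fun t ht => hT ▸ Submodule.subset_span ht
  have h2 : ∀ t ∈ T, (decompose ℳ (c t • t) n : M) ∈ N' := by
    intro t ht
    have ht_sum : t = ∑ i ∈ (decompose ℳ t).support, (decompose ℳ t i : M) :=
      (DirectSum.sum_support_decompose ℳ t).symm
    have h3' : c t • t = ∑ i ∈ (decompose ℳ t).support, c t • (decompose ℳ t i : M) := by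
      rw [← Finset.smul_sum]
      congr 1
    have h3 : (decompose ℳ (c t • t) n : M) =
        ∑ i ∈ (decompose ℳ t).support, (decompose ℳ (c t • (decompose ℳ t i : M)) n : M) := by
      rw [h3', decompose_sum, DFinsupp.finsetSum_apply, AddSubmonoidClass.coe_finsetSum]
    rw [h3]
    refine Submodule.sum_mem _ fun i hi => ?_
    have hiD : i ≤ D := by
      have h4 : i ≤ (decompose ℳ t).support.sup id := Finset.le_sup (f := id) hi
      have h5 : (decompose ℳ t).support.sup id ≤ D :=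
        Finset.le_sup (f := fun t => (decompose ℳ t).support.sup id) ht
      exact h4.trans h5
    have hin : i ≤ n := by omega
    rw [decompose_smul_mem 𝒜 ℳ (decompose ℳ t i).2 (c t) hin]
    refine hkill _ ?_ _ (hN t (hTN t ht) i)
    exact HomogeneousIdeal.mem_irrelevant_of_mem 𝒜 (by omega) (decompose 𝒜 (c t) (n - i)).2
  rw [h1, ← hc, decompose_sum, DFinsupp.finsetSum_apply, AddSubmonoidClass.coe_finsetSum]
  exact Submodule.sum_mem _ h2

theorem isHomog_top : IsHomog ℳ (⊤ : Submodule S M) := fun _ _ _ => Submodule.mem_top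

theorem isHomog_bot : IsHomog ℳ (⊥ : Submodule S M) := by
  intro m hm i
  rw [Submodule.mem_bot] at hm
  subst hm
  simp

theorem isBinom_hf [IsNoetherianRing S] [Module.Finite S M]
    (h0 : ∀ s ∈ 𝒜 0, s ∈ Set.range (algebraMap A S)) (T : Finset S) (hT1 : ∀ x ∈ T, x ∈ 𝒜 1)
    (hT : (HomogeneousIdeal.irrelevant 𝒜).toIdeal = Ideal.span (T : Set S)) :
    ∀ T' : Finset S, T' ⊆ T → ∀ N N' : Submodule S M, N' ≤ N → IsHomog ℳ N → IsHomog ℳ N' →
      (∀ x ∈ T, x ∉ T' → ∀ m ∈ N, x • m ∈ N') → IsBinom (hf ℳ N N') := by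
  classical
  have hNoeth : ∀ n, IsNoetherian A (ℳ n) := isNoetherian_degree 𝒜 ℳ h0
  intro T'
  induction T' using Finset.induction_on with
  | empty =>
    intro _ N N' _ hN _ hkill
    have hkill' : ∀ s ∈ (HomogeneousIdeal.irrelevant 𝒜).toIdeal, ∀ m ∈ N, s • m ∈ N' := by
      intro s hs m hm
      rw [hT] at hs
      induction hs using Submodule.span_induction with
      | mem x hx => exact hkill x hx (Finset.notMem_empty x) m hm
      | zero => rw [zero_smul]; exact N'.zero_mem
      | add x y _ _ hx hy => rw [add_smul]; exact N'.add_mem hx hy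
      | smul r x _ hx => rw [smul_eq_mul, mul_smul]; exact N'.smul_mem r hx
    obtain ⟨n₀, hn₀⟩ := piece_le_of_irrelevant_smul 𝒜 ℳ hN hkill'
    exact isBinom_of_eventually_zero n₀ fun n hn => qcl_eq_zero_of_le (hn₀ n hn)
  | insert x T'' hx ih =>
    intro hsub N N' hle hN hN' hkill
    have hxT : x ∈ T := hsub (Finset.mem_insert_self x T'')
    have hx1 : x ∈ 𝒜 1 := hT1 x hxT
    have hsub' : T'' ⊆ T := (Finset.subset_insert x T'').trans hsub
    have hK : IsBinom (hf ℳ (colon N N' x) N') := by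
      refine ih hsub' _ _ (le_colon hle x) (isHomog_colon 𝒜 ℳ hN hN' hx1) hN' ?_
      intro y hyT hy m hm
      by_cases hyx : y = x
      · subst hyx
        exact (mem_colon.1 hm).2
      · exact hkill y hyT (by simp [hyx, hy]) m (colon_le N N' x hm)
    have hC : IsBinom (hf ℳ N (plus N N' x)) := by
      refine ih hsub' _ _ (plus_le hle x) hN (isHomog_plus 𝒜 ℳ hN hN' hx1) ?_
      intro y hyT hy m hm
      by_cases hyx : y = x
      · subst hyx
        exact smul_mem_plus hm
      · exact le_plus N N' x (hkill y hyT (by simp [hyx, hy]) m hm)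
    have hrec := recurrence 𝒜 ℳ hNoeth hle hN hN' hx1
    have hF : IsBinom (fun n => hf ℳ N N' n - hf ℳ N (plus N N' x) n) := by
      refine IsBinom.of_diff (hC.sub hK) fun n => ?_
      have := hrec n
      have h2 : hf ℳ N N' (n + 1) = hf ℳ N N' n + hf ℳ N (plus N N' x) (n + 1) -
          hf ℳ (colon N N' x) N' n := by
        rw [this]; abel
      show hf ℳ N N' (n + 1) - hf ℳ N (plus N N' x) (n + 1) =
        hf ℳ N N' n - hf ℳ N (plus N N' x) n +
          (hf ℳ N (plus N N' x) n - hf ℳ (colon N N' x) N' n)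
      rw [h2]
      abel
    have := hF.add hC
    simpa using this

/-- Hilbert–Serre in `K'₀(A)`: the classes of the graded pieces are eventually a binomial
polynomial. -/
theorem main [IsNoetherianRing S] [Module.Finite S M]
    (h0 : ∀ s ∈ 𝒜 0, s ∈ Set.range (algebraMap A S))
    (h1 : (HomogeneousIdeal.irrelevant 𝒜).toIdeal = Ideal.span (𝒜 1 : Set S)) :
    IsBinom (fun n => kcl A (ℳ n)) := by
  classical
  have hNoeth : ∀ n, IsNoetherian A (ℳ n) := isNoetherian_degree 𝒜 ℳ h0
  have hfg : ((HomogeneousIdeal.irrelevant 𝒜).toIdeal).FG :=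
    IsNoetherian.noetherian _
  rw [h1] at hfg
  obtain ⟨T, hT1, hT⟩ := (Submodule.fg_span_iff_fg_span_finset_subset (𝒜 1 : Set S)).1 hfg
  have hT' : (HomogeneousIdeal.irrelevant 𝒜).toIdeal = Ideal.span (T : Set S) := h1.trans hT
  have hb := isBinom_hf 𝒜 ℳ h0 T (fun x hx => hT1 hx) hT' T (Finset.Subset.refl T)
    (⊤ : Submodule S M) ⊥ bot_le (isHomog_top ℳ) (isHomog_bot ℳ)
    (fun x hx hx' => absurd hx hx')
  have heq : ∀ n, hf ℳ (⊤ : Submodule S M) ⊥ n = kcl A (ℳ n) := by
    intro n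
    have htop : piece ℳ (⊤ : Submodule S M) n = ℳ n := by
      simp [piece]
    have hbot : (piece ℳ (⊥ : Submodule S M) n).comap (piece ℳ (⊤ : Submodule S M) n).subtype
        = ⊥ := by
      have : piece ℳ (⊥ : Submodule S M) n = ⊥ := by simp [piece]
      rw [this, Submodule.comap_bot, Submodule.ker_subtype]
    have : IsNoetherian A (piece ℳ (⊤ : Submodule S M) n) :=
      isNoetherian_of_le (inf_le_right : piece ℳ (⊤ : Submodule S M) n ≤ ℳ n)
    exact kcl_equiv ((Submodule.quotEquivOfEqBot _ hbot).trans (LinearEquiv.ofEq _ _ htop))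
  have hfun : hf ℳ (⊤ : Submodule S M) ⊥ = fun n => kcl A (ℳ n) := funext heq
  rw [← hfun]
  exact hb

end Graded

end Groth.Agent.Lib.T2H4.HilbSerreG
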