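import Mathlib

/-! Helper library (helper4): Jacobian criterion for smoothness of an affine plane curve
`k[X₀, X₁]/(F)` over a field, via the split-injection criterion for formal smoothness. -/

set_option autoImplicit false
set_option backward.isDefEq.respectTransparency.types false

namespace Groth.Agent.Lib.T2H4.PlaneJac

open MvPolynomial KaehlerDifferential TensorProduct

universe u

variable {k : Type u} [Field k]

local notation "PP" => MvPolynomial (Fin 2) k

/-- The Jacobian ideal of a polynomial in two variables. -/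
noncomputable def jac (F : MvPolynomial (Fin 2) k) : Ideal (MvPolynomial (Fin 2) k) :=
  Ideal.span {F, pderiv 0 F, pderiv 1 F}

theorem D_eq (F : MvPolynomial (Fin 2) k) :
    D k (MvPolynomial (Fin 2) k) F =
      pderiv 0 F • D k (MvPolynomial (Fin 2) k) (X 0) + pderiv 1 F • D k (MvPolynomial (Fin 2) k) (X 1) := by
  have h := (mvPolynomialBasis k (Fin 2)).sum_repr (D k (MvPolynomial (Fin 2) k) F)
  rw [Fin.sum_univ_two] at h
  simp only [mvPolynomialBasis_repr_apply, mvPolynomialBasis_apply] at h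
  exact h.symm

theorem formallySmooth_iff (F : MvPolynomial (Fin 2) k) (hF : F ≠ 0) :
    Algebra.FormallySmooth k (MvPolynomial (Fin 2) k ⧸ Ideal.span ({F} : Set (MvPolynomial (Fin 2) k))) ↔
      jac F = ⊤ := by
  have hsurj : Function.Surjective (algebraMap PP (PP ⧸ Ideal.span ({F} : Set PP))) :=
    Ideal.Quotient.mk_surjective
  let E : Algebra.Extension.{u} k (PP ⧸ Ideal.span ({F} : Set PP)) :=
    ⟨PP, _, Function.surjInv_eq hsurj⟩
  have hker : E.ker = Ideal.span ({F} : Set PP) := by
    change RingHom.ker (algebraMap PP (PP ⧸ Ideal.span ({F} : Set PP))) = _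
    rw [Ideal.Quotient.algebraMap_eq, Ideal.mk_ker]
  have hFker : F ∈ E.ker := by rw [hker]; exact Ideal.subset_span rfl
  haveI : Algebra.FormallySmooth k E.Ring := inferInstanceAs (Algebra.FormallySmooth k PP)
  rw [E.formallySmooth_iff_split_injection]
  constructor
  · rintro ⟨l, hl⟩
    -- images of the basis differentials
    obtain ⟨z0, hz0⟩ := Algebra.Extension.Cotangent.mk_surjective
      (l ((1 : PP ⧸ Ideal.span ({F} : Set PP)) ⊗ₜ[E.Ring] D k E.Ring (X 0 : PP)))
    obtain ⟨z1, hz1⟩ := Algebra.Extension.Cotangent.mk_surjective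
      (l ((1 : PP ⧸ Ideal.span ({F} : Set PP)) ⊗ₜ[E.Ring] D k E.Ring (X 1 : PP)))
    have hz0' : (z0 : PP) ∈ Ideal.span ({F} : Set PP) := (le_of_eq hker) z0.2
    have hz1' : (z1 : PP) ∈ Ideal.span ({F} : Set PP) := (le_of_eq hker) z1.2
    obtain ⟨g0, hg0⟩ := Ideal.mem_span_singleton'.mp hz0'
    obtain ⟨g1, hg1⟩ := Ideal.mem_span_singleton'.mp hz1'
    have h1 : l (E.cotangentComplex (Algebra.Extension.Cotangent.mk (⟨F, hFker⟩ : E.ker))) =
        Algebra.Extension.Cotangent.mk (⟨F, hFker⟩ : E.ker) := by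
      have := LinearMap.congr_fun hl (Algebra.Extension.Cotangent.mk (⟨F, hFker⟩ : E.ker))
      simpa using this
    rw [Algebra.Extension.cotangentComplex_mk] at h1
    have h2 : ((1 : PP ⧸ Ideal.span ({F} : Set PP)) ⊗ₜ[E.Ring] D k E.Ring (F : PP)) =
        (pderiv 0 F : PP) • ((1 : PP ⧸ Ideal.span ({F} : Set PP)) ⊗ₜ[E.Ring] D k E.Ring (X 0 : PP)) +
        (pderiv 1 F : PP) • ((1 : PP ⧸ Ideal.span ({F} : Set PP)) ⊗ₜ[E.Ring] D k E.Ring (X 1 : PP)) := by
      change ((1 : PP ⧸ Ideal.span ({F} : Set PP)) ⊗ₜ[PP] D k PP F) = _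
      rw [D_eq F, TensorProduct.tmul_add, TensorProduct.tmul_smul, TensorProduct.tmul_smul]
    rw [h2, map_add] at h1
    have h3 : ∀ (p : PP) (t : E.CotangentSpace), l (p • t) = p • l t := by
      intro p t
      rw [← algebraMap_smul (PP ⧸ Ideal.span ({F} : Set PP)) p t, map_smul, algebraMap_smul]
    rw [h3, h3, ← hz0, ← hz1, ← map_smul, ← map_smul, ← map_add, eq_comm,
      Algebra.Extension.Cotangent.mk_eq_mk_iff_sub_mem] at h1
    simp only [Submodule.coe_add, Submodule.coe_smul, smul_eq_mul] at h1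
    rw [← hg0, ← hg1, hker, Ideal.span_singleton_pow, Ideal.mem_span_singleton'] at h1
    obtain ⟨h, hh⟩ := h1
    have h4 : F * (h * F + pderiv 0 F * g0 + pderiv 1 F * g1 - 1) = 0 := by
      linear_combination hh
    have h5 : h * F + pderiv 0 F * g0 + pderiv 1 F * g1 - 1 = 0 :=
      (mul_eq_zero.mp h4).resolve_left hF
    rw [Ideal.eq_top_iff_one]
    have h6 : (1 : PP) = h * F + g0 * pderiv 0 F + g1 * pderiv 1 F := by
      linear_combination -h5
    rw [h6, jac]
    refine Ideal.add_mem _ (Ideal.add_mem _ (Ideal.mul_mem_left _ _ (Ideal.subset_span ?_))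
      (Ideal.mul_mem_left _ _ (Ideal.subset_span ?_)))
      (Ideal.mul_mem_left _ _ (Ideal.subset_span ?_)) <;> simp
  · intro hJ
    have h1 : (1 : PP) ∈ jac F := by rw [hJ]; trivial
    rw [jac, Ideal.mem_span_insert] at h1
    obtain ⟨α, z, hz, h1⟩ := h1
    rw [Ideal.mem_span_pair] at hz
    obtain ⟨β0, β1, rfl⟩ := hz
    let mF : E.Cotangent := Algebra.Extension.Cotangent.mk (⟨F, hFker⟩ : E.ker)
    let c : Fin 2 → E.Cotangent := ![β0 • mF, β1 • mF]
    let lam : Ω[PP⁄k] →ₗ[PP] E.Cotangent := (mvPolynomialBasis k (Fin 2)).constr PP c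
    have hlam0 : lam (D k PP (X 0)) = β0 • mF := by
      have := (mvPolynomialBasis k (Fin 2)).constr_basis PP c 0
      rw [mvPolynomialBasis_apply] at this
      exact this
    have hlam1 : lam (D k PP (X 1)) = β1 • mF := by
      have := (mvPolynomialBasis k (Fin 2)).constr_basis PP c 1
      rw [mvPolynomialBasis_apply] at this
      exact this
    refine ⟨LinearMap.liftBaseChange (PP ⧸ Ideal.span ({F} : Set PP)) lam, ?_⟩
    have hFF : (F • mF : E.Cotangent) = 0 := by
      change F • Algebra.Extension.Cotangent.mk (⟨F, hFker⟩ : E.ker) = 0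
      rw [← map_smul, Algebra.Extension.Cotangent.mk_eq_zero_iff]
      simp only [Submodule.coe_smul, smul_eq_mul]
      rw [pow_two]
      exact Ideal.mul_mem_mul hFker hFker
    have hkey : (LinearMap.liftBaseChange (PP ⧸ Ideal.span ({F} : Set PP)) lam)
        (E.cotangentComplex mF) = mF := by
      change (LinearMap.liftBaseChange (PP ⧸ Ideal.span ({F} : Set PP)) lam)
        (E.cotangentComplex (Algebra.Extension.Cotangent.mk (⟨F, hFker⟩ : E.ker))) = mF
      rw [Algebra.Extension.cotangentComplex_mk]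
      change (LinearMap.liftBaseChange (PP ⧸ Ideal.span ({F} : Set PP)) lam)
        ((1 : PP ⧸ Ideal.span ({F} : Set PP)) ⊗ₜ[PP] D k PP F) = mF
      rw [LinearMap.liftBaseChange_tmul, one_smul, D_eq F, map_add, map_smul, map_smul, hlam0,
        hlam1, smul_smul, smul_smul, ← add_smul]
      have : pderiv 0 F * β0 + pderiv 1 F * β1 = 1 - α * F := by linear_combination -h1
      rw [this, sub_smul, one_smul, mul_smul, hFF, smul_zero, sub_zero]
    apply LinearMap.ext
    intro t
    obtain ⟨z, rfl⟩ := Algebra.Extension.Cotangent.mk_surjective t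
    have hz' : (z : PP) ∈ Ideal.span ({F} : Set PP) := (le_of_eq hker) z.2
    obtain ⟨g, hg⟩ := Ideal.mem_span_singleton'.mp hz'
    have hz2 : z = g • (⟨F, hFker⟩ : E.ker) := by
      apply Subtype.ext
      simp only [Submodule.coe_smul, smul_eq_mul]
      exact hg.symm
    rw [hz2, map_smul]
    change (LinearMap.liftBaseChange (PP ⧸ Ideal.span ({F} : Set PP)) lam)
      (E.cotangentComplex (g • mF)) = g • mF
    rw [← algebraMap_smul (PP ⧸ Ideal.span ({F} : Set PP)) g mF, map_smul, map_smul, hkey]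

theorem smooth_iff (F : MvPolynomial (Fin 2) k) (hF : F ≠ 0) :
    Algebra.Smooth k (MvPolynomial (Fin 2) k ⧸ Ideal.span ({F} : Set (MvPolynomial (Fin 2) k))) ↔
      jac F = ⊤ := by
  have hfp : Algebra.FinitePresentation k (PP ⧸ Ideal.span ({F} : Set PP)) :=
    Algebra.FinitePresentation.quotient (Submodule.fg_span_singleton F)
  constructor
  · intro h
    exact (formallySmooth_iff F hF).mp h.1
  · intro h
    exact ⟨(formallySmooth_iff F hF).mpr h, hfp⟩

end Groth.Agent.Lib.T2H4.PlaneJac
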