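import Mathlib
import Groth.Agent.Lib.T2H4PlaneJac

/-! Helper library (helper4) for S19185: smoothness of the four affine charts of the curve
`q u + ξ v = 0` on a Hirzebruch surface versus the resultant of `q` and `ξ`. -/

set_option autoImplicit false
set_option backward.isDefEq.respectTransparency.types false

namespace Groth.Agent.Lib.T2H4.HirzCharts

open Groth.Agent.Lib.T2H4.PlaneJac

universe u

variable {k : Type u} [Field k]

/-- The inclusion `k[X] → k[X₀, X₁]`, `X ↦ X₀`. -/
noncomputable def ι : Polynomial k →ₐ[k] MvPolynomial (Fin 2) k :=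
  Polynomial.aeval (MvPolynomial.X 0)

theorem ι_C (c : k) : ι (Polynomial.C c) = MvPolynomial.C c := by
  simp [ι, MvPolynomial.algebraMap_eq]

theorem ι_X : ι (Polynomial.X : Polynomial k) = MvPolynomial.X 0 := by
  simp [ι]

theorem pderiv_zero_ι (a : Polynomial k) :
    MvPolynomial.pderiv 0 (ι a) = ι (Polynomial.derivative a) := by
  induction a using Polynomial.induction_on' with
  | add p q hp hq => simp only [map_add, hp, hq]
  | monomial n c =>
    rw [← Polynomial.C_mul_X_pow_eq_monomial, Polynomial.derivative_C_mul_X_pow]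
    simp only [map_mul, map_pow, ι_C, ι_X, MvPolynomial.pderiv_C_mul, MvPolynomial.pderiv_pow,
      MvPolynomial.pderiv_X_self, mul_one]
    rw [mul_assoc, map_natCast]

theorem pderiv_one_ι (a : Polynomial k) : MvPolynomial.pderiv 1 (ι a) = 0 := by
  induction a using Polynomial.induction_on' with
  | add p q hp hq => simp only [map_add, hp, hq, add_zero]
  | monomial n c =>
    rw [← Polynomial.C_mul_X_pow_eq_monomial]
    simp only [map_mul, map_pow, ι_C, ι_X, MvPolynomial.pderiv_C_mul, MvPolynomial.pderiv_pow]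
    rw [MvPolynomial.pderiv_X_of_ne (by decide)]
    simp

theorem ι_injective : Function.Injective (ι : Polynomial k → MvPolynomial (Fin 2) k) := by
  intro a b hab
  have h : ∀ c : Polynomial k,
      (MvPolynomial.aeval (![Polynomial.X, 0] : Fin 2 → Polynomial k)) (ι c) = c := by
    intro c
    rw [ι, ← Polynomial.aeval_algHom_apply]
    simp
  rw [← h a, ← h b, hab]

/-- First chart polynomial. -/
noncomputable def G1 (a b : Polynomial k) : MvPolynomial (Fin 2) k := ι a + ι b * MvPolynomial.X 1

/-- Second chart polynomial. -/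
noncomputable def G2 (a b : Polynomial k) : MvPolynomial (Fin 2) k := ι a * MvPolynomial.X 1 + ι b

section evalhom

variable {L : Type*} [Field L] [Algebra k L]

/-- Evaluation at a point of the plane with coordinates in an extension field. -/
noncomputable def ev (θ w : L) : MvPolynomial (Fin 2) k →ₐ[k] L := MvPolynomial.aeval ![θ, w]

theorem ev_ι (θ w : L) (a : Polynomial k) : ev θ w (ι a) = Polynomial.aeval θ a := by
  rw [ι, ← Polynomial.aeval_algHom_apply]
  simp [ev]

theorem ev_X1 (θ w : L) : ev (k := k) θ w (MvPolynomial.X 1) = w := by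
  simp [ev]

theorem jac_ne_top_of_ev (F : MvPolynomial (Fin 2) k) (θ w : L) (h0 : ev θ w F = 0)
    (h1 : ev θ w (MvPolynomial.pderiv 0 F) = 0) (h2 : ev θ w (MvPolynomial.pderiv 1 F) = 0) :
    jac F ≠ ⊤ := by
  intro h
  have hle : jac F ≤ RingHom.ker (ev (k := k) θ w).toRingHom := by
    rw [jac, Ideal.span_le]
    intro x hx
    simp only [Set.mem_insert_iff, Set.mem_singleton_iff] at hx
    rcases hx with rfl | rfl | rfl
    · exact h0
    · exact h1
    · exact h2
  rw [h, top_le_iff, Ideal.eq_top_iff_one, RingHom.mem_ker] at hle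
  simp at hle

end evalhom

theorem pderiv_G1 (a b : Polynomial k) :
    MvPolynomial.pderiv 0 (G1 a b) = ι (Polynomial.derivative a) +
      ι (Polynomial.derivative b) * MvPolynomial.X 1 ∧
    MvPolynomial.pderiv 1 (G1 a b) = ι b := by
  constructor
  · simp only [G1, map_add, Derivation.leibniz, pderiv_zero_ι, smul_eq_mul]
    rw [MvPolynomial.pderiv_X_of_ne (by decide)]
    ring
  · simp only [G1, map_add, Derivation.leibniz, pderiv_one_ι, smul_eq_mul,
      MvPolynomial.pderiv_X_self]
    ring

theorem pderiv_G2 (a b : Polynomial k) :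
    MvPolynomial.pderiv 0 (G2 a b) = ι (Polynomial.derivative a) * MvPolynomial.X 1 +
      ι (Polynomial.derivative b) ∧
    MvPolynomial.pderiv 1 (G2 a b) = ι a := by
  constructor
  · simp only [G2, map_add, Derivation.leibniz, pderiv_zero_ι, smul_eq_mul]
    rw [MvPolynomial.pderiv_X_of_ne (by decide)]
    ring
  · simp only [G2, map_add, Derivation.leibniz, pderiv_one_ι, smul_eq_mul,
      MvPolynomial.pderiv_X_self]
    ring

theorem G1_ne_zero (a b : Polynomial k) (h : a ≠ 0 ∨ b ≠ 0) : G1 a b ≠ 0 := by
  intro h0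
  have h1 : MvPolynomial.pderiv 1 (G1 a b) = 0 := by rw [h0, map_zero]
  rw [(pderiv_G1 a b).2] at h1
  have hb : b = 0 := ι_injective (by rw [h1, map_zero])
  rw [G1, hb, map_zero, zero_mul, add_zero] at h0
  have ha : a = 0 := ι_injective (by rw [h0, map_zero])
  rcases h with h | h
  · exact h ha
  · exact h hb

theorem G2_ne_zero (a b : Polynomial k) (h : a ≠ 0 ∨ b ≠ 0) : G2 a b ≠ 0 := by
  intro h0
  have h1 : MvPolynomial.pderiv 1 (G2 a b) = 0 := by rw [h0, map_zero]
  rw [(pderiv_G2 a b).2] at h1
  have ha : a = 0 := ι_injective (by rw [h1, map_zero])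
  rw [G2, ha, map_zero, zero_mul, zero_add] at h0
  have hb : b = 0 := ι_injective (by rw [h0, map_zero])
  rcases h with h | h
  · exact h ha
  · exact h hb

/-- Both charts over one affine line are nonsingular iff the two polynomials are coprime. -/
theorem jac_charts_iff (a b : Polynomial k) :
    (jac (G1 a b) = ⊤ ∧ jac (G2 a b) = ⊤) ↔ IsCoprime a b := by
  constructor
  · rintro ⟨h1, h2⟩
    by_contra hcop
    rw [Polynomial.isCoprime_iff_aeval_ne_zero_of_isAlgClosed (k := k) (AlgebraicClosure k) a b]
      at hcop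
    push Not at hcop
    obtain ⟨θ, ha, hb⟩ := hcop
    by_cases hd : Polynomial.aeval θ (Polynomial.derivative b) = 0
    · -- use chart 2 with w = 0
      refine jac_ne_top_of_ev (G2 a b) θ 0 ?_ ?_ ?_ h2
      · simp only [G2, map_add, map_mul, ev_ι, ev_X1, ha, hb]; ring
      · rw [(pderiv_G2 a b).1]
        simp only [map_add, map_mul, ev_ι, ev_X1, hd]; ring
      · rw [(pderiv_G2 a b).2, ev_ι, ha]
    · -- use chart 1 with w = - a'(θ)/b'(θ)
      refine jac_ne_top_of_ev (G1 a b) θ
        (-(Polynomial.aeval θ (Polynomial.derivative a)) /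
          Polynomial.aeval θ (Polynomial.derivative b)) ?_ ?_ ?_ h1
      · simp only [G1, map_add, map_mul, ev_ι, ev_X1, ha, hb]; ring
      · rw [(pderiv_G1 a b).1]
        simp only [map_add, map_mul, ev_ι, ev_X1]
        field_simp
        ring
      · rw [(pderiv_G1 a b).2, ev_ι, hb]
  · rintro ⟨u, v, huv⟩
    have key : ∀ J : Ideal (MvPolynomial (Fin 2) k), ι a ∈ J → ι b ∈ J → J = ⊤ := by
      intro J ha hb
      rw [Ideal.eq_top_iff_one]
      have : (1 : MvPolynomial (Fin 2) k) = ι u * ι a + ι v * ι b := by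
        rw [← map_mul, ← map_mul, ← map_add, huv, map_one]
      rw [this]
      exact J.add_mem (J.mul_mem_left _ ha) (J.mul_mem_left _ hb)
    constructor
    · have hb : ι b ∈ jac (G1 a b) := by
        rw [← (pderiv_G1 a b).2]
        exact Ideal.subset_span (by simp)
      have hG : G1 a b ∈ jac (G1 a b) := Ideal.subset_span (by simp)
      have ha : ι a ∈ jac (G1 a b) := by
        have : ι a = G1 a b - ι b * MvPolynomial.X 1 := by rw [G1]; ring
        rw [this]
        exact Ideal.sub_mem _ hG (Ideal.mul_mem_right _ _ hb)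
      exact key _ ha hb
    · have ha : ι a ∈ jac (G2 a b) := by
        rw [← (pderiv_G2 a b).2]
        exact Ideal.subset_span (by simp)
      have hG : G2 a b ∈ jac (G2 a b) := Ideal.subset_span (by simp)
      have hb : ι b ∈ jac (G2 a b) := by
        have : ι b = G2 a b - ι a * MvPolynomial.X 1 := by rw [G2]; ring
        rw [this]
        exact Ideal.sub_mem _ hG (Ideal.mul_mem_right _ _ ha)
      exact key _ ha hb

/-- Smoothness of the two charts over one affine line. -/
theorem smooth_charts_iff (a b : Polynomial k) (h : a ≠ 0 ∨ b ≠ 0) :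
    (Algebra.Smooth k (MvPolynomial (Fin 2) k ⧸
        Ideal.span ({G1 a b} : Set (MvPolynomial (Fin 2) k))) ∧
      Algebra.Smooth k (MvPolynomial (Fin 2) k ⧸
        Ideal.span ({G2 a b} : Set (MvPolynomial (Fin 2) k)))) ↔ IsCoprime a b := by
  rw [smooth_iff _ (G1_ne_zero a b h), smooth_iff _ (G2_ne_zero a b h), jac_charts_iff]

end Groth.Agent.Lib.T2H4.HirzCharts
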