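import Mathlib
import Groth.Agent.Lib.T2H4HirzCharts

/-! Helper library (helper4) for S19185: coefficient-vector polynomials, their reversals, and
the resultant with prescribed size parameters. -/

set_option autoImplicit false
set_option backward.isDefEq.respectTransparency.types false

namespace Groth.Agent.Lib.T2H4.HirzRes

open Groth.Agent.Lib.T2H4.PlaneJac Groth.Agent.Lib.T2H4.HirzCharts
open Polynomial

universe u

variable {k : Type u} [Field k]

/-- The polynomial with coefficient vector `c`. -/
noncomputable def poly {N : ℕ} (c : Fin (N + 1) → k) : k[X] :=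
  ∑ i : Fin (N + 1), C (c i) * X ^ (i : ℕ)

/-- The reversed polynomial with coefficient vector `c`. -/
noncomputable def rpoly {N : ℕ} (c : Fin (N + 1) → k) : k[X] :=
  ∑ i : Fin (N + 1), C (c i) * X ^ (N - (i : ℕ))

theorem coeff_poly {N : ℕ} (c : Fin (N + 1) → k) (i : Fin (N + 1)) :
    (poly c).coeff (i : ℕ) = c i := by
  classical
  rw [poly, finsetSum_coeff]
  rw [Finset.sum_eq_single i]
  · simp
  · intro j _ hji
    rw [coeff_C_mul_X_pow, if_neg]
    intro h
    exact hji (Fin.ext h.symm)
  · intro h; exact absurd (Finset.mem_univ i) h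

theorem natDegree_poly_le {N : ℕ} (c : Fin (N + 1) → k) : (poly c).natDegree ≤ N := by
  rw [poly]
  apply natDegree_sum_le_of_forall_le
  intro i _
  refine (natDegree_C_mul_X_pow_le _ _).trans ?_
  have := i.2
  omega

theorem poly_ne_zero {N : ℕ} (c : Fin (N + 1) → k) (hc : c ≠ 0) : poly c ≠ 0 := by
  intro h
  apply hc
  funext i
  rw [← coeff_poly c i, h, coeff_zero, Pi.zero_apply]

theorem coeff_rpoly {N : ℕ} (c : Fin (N + 1) → k) (i : Fin (N + 1)) :
    (rpoly c).coeff (N - (i : ℕ)) = c i := by
  classical
  rw [rpoly, finsetSum_coeff]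
  rw [Finset.sum_eq_single i]
  · simp
  · intro j _ hji
    rw [coeff_C_mul_X_pow, if_neg]
    intro h
    apply hji
    apply Fin.ext
    have := i.2
    have := j.2
    omega
  · intro h; exact absurd (Finset.mem_univ i) h

theorem rpoly_ne_zero {N : ℕ} (c : Fin (N + 1) → k) (hc : c ≠ 0) : rpoly c ≠ 0 := by
  intro h
  apply hc
  funext i
  rw [← coeff_rpoly c i, h, coeff_zero, Pi.zero_apply]

theorem ι_poly {N : ℕ} (c : Fin (N + 1) → k) :
    ι (poly c) = ∑ i : Fin (N + 1), MvPolynomial.C (c i) * MvPolynomial.X 0 ^ (i : ℕ) := by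
  simp only [poly, map_sum, map_mul, map_pow, ι_C, ι_X]

theorem ι_rpoly {N : ℕ} (c : Fin (N + 1) → k) :
    ι (rpoly c) = ∑ i : Fin (N + 1), MvPolynomial.C (c i) * MvPolynomial.X 0 ^ (N - (i : ℕ)) := by
  simp only [rpoly, map_sum, map_mul, map_pow, ι_C, ι_X]

section ev

variable {L : Type*} [Field L] [Algebra k L]

theorem aeval_rpoly {N : ℕ} (c : Fin (N + 1) → k) (θ : L) (hθ : θ ≠ 0) :
    aeval θ (rpoly c) = θ ^ N * aeval θ⁻¹ (poly c) := by
  simp only [rpoly, poly, map_sum, map_mul, map_pow, aeval_C, aeval_X, Finset.mul_sum]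
  apply Finset.sum_congr rfl
  intro i _
  have hi : (i : ℕ) ≤ N := by have := i.2; omega
  have : θ ^ N = θ ^ (N - (i : ℕ)) * θ ^ (i : ℕ) := by
    rw [← pow_add, Nat.sub_add_cancel hi]
  rw [this, inv_pow]
  field_simp

theorem aeval_zero_rpoly {N : ℕ} (c : Fin (N + 1) → k) :
    aeval (0 : L) (rpoly c) = algebraMap k L (c (Fin.last N)) := by
  classical
  simp only [rpoly, map_sum, map_mul, map_pow, aeval_C, aeval_X]
  rw [Finset.sum_eq_single (Fin.last N)]
  · simp
  · intro j _ hj
    have : N - (j : ℕ) ≠ 0 := by
      intro h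
      apply hj
      apply Fin.ext
      have := j.2
      simp only [Fin.val_last]
      omega
    rw [zero_pow this, mul_zero]
  · intro h; exact absurd (Finset.mem_univ _) h

end ev

/-- Coprimality of the reversed polynomials. -/
theorem isCoprime_rpoly_iff {M N : ℕ} (a : Fin (M + 1) → k) (b : Fin (N + 1) → k)
    (hcop : IsCoprime (poly a) (poly b)) :
    IsCoprime (rpoly a) (rpoly b) ↔ (a (Fin.last M) ≠ 0 ∨ b (Fin.last N) ≠ 0) := by
  rw [Polynomial.isCoprime_iff_aeval_ne_zero_of_isAlgClosed (k := k) (AlgebraicClosure k)]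
  constructor
  · intro h
    have h0 := h 0
    rw [aeval_zero_rpoly, aeval_zero_rpoly] at h0
    rcases h0 with h0 | h0
    · left; intro h1; apply h0; rw [h1, map_zero]
    · right; intro h1; apply h0; rw [h1, map_zero]
  · intro h θ
    by_cases hθ : θ = 0
    · subst hθ
      rw [aeval_zero_rpoly, aeval_zero_rpoly]
      rcases h with h | h
      · left; intro h1; exact h ((algebraMap k (AlgebraicClosure k)).injective (by rw [h1, map_zero]))
      · right; intro h1; exact h ((algebraMap k (AlgebraicClosure k)).injective (by rw [h1, map_zero]))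
    · rw [aeval_rpoly a θ hθ, aeval_rpoly b θ hθ]
      have h2 := (Polynomial.isCoprime_iff_aeval_ne_zero_of_isAlgClosed (k := k)
        (AlgebraicClosure k) (poly a) (poly b)).mp hcop θ⁻¹
      rcases h2 with h2 | h2
      · left; exact mul_ne_zero (pow_ne_zero _ hθ) h2
      · right; exact mul_ne_zero (pow_ne_zero _ hθ) h2

/-- The resultant with size parameters `(M, N)` of two coefficient-vector polynomials. -/
theorem resultant_ne_zero_iff {M N : ℕ} (a : Fin (M + 1) → k) (b : Fin (N + 1) → k)
    (hab : a ≠ 0 ∨ b ≠ 0) :
    resultant (poly a) (poly b) M N ≠ 0 ↔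
      (a (Fin.last M) ≠ 0 ∨ b (Fin.last N) ≠ 0) ∧ IsCoprime (poly a) (poly b) := by
  set f := poly a with hf
  set g := poly b with hg
  have hfd : f.natDegree ≤ M := natDegree_poly_le a
  have hgd : g.natDegree ≤ N := natDegree_poly_le b
  have hfM : f.coeff M = a (Fin.last M) := coeff_poly a (Fin.last M)
  have hgN : g.coeff N = b (Fin.last N) := coeff_poly b (Fin.last N)
  have hfg : f ≠ 0 ∨ g ≠ 0 := by
    rcases hab with h | h
    · left; exact poly_ne_zero a h
    · right; exact poly_ne_zero b h
  have e1 : resultant f g M N =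
      (-1) ^ (N * (M - f.natDegree)) * g.coeff N ^ (M - f.natDegree) *
        (f.coeff f.natDegree ^ (N - g.natDegree) * resultant f g) := by
    have h1 := resultant_add_left_deg f g f.natDegree N (M - f.natDegree) le_rfl
    rw [Nat.add_sub_cancel' hfd] at h1
    have h2 := resultant_add_right_deg f g f.natDegree g.natDegree (N - g.natDegree) le_rfl
    rw [Nat.add_sub_cancel' hgd] at h2
    rw [h1, h2]
  have hres : resultant f g ≠ 0 ↔ IsCoprime f g := by
    rw [Ne, resultant_eq_zero_iff]
    constructor
    · intro h
      by_contra hc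
      exact h ⟨hfg, hc⟩
    · intro h hc
      exact hc.2 h
  rw [e1]
  constructor
  · intro h
    have h1 : g.coeff N ^ (M - f.natDegree) ≠ 0 := by
      intro h0; apply h; rw [h0]; ring
    have h2 : resultant f g ≠ 0 := by
      intro h0; apply h; rw [h0]; ring
    refine ⟨?_, hres.mp h2⟩
    by_cases hb : b (Fin.last N) = 0
    · left
      rw [hgN, hb] at h1
      have h3 : M - f.natDegree = 0 := by
        by_contra h4
        exact h1 (zero_pow h4)
      have h5 : f.natDegree = M := by omega
      have hf0 : f ≠ 0 := by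
        intro h0
        apply h
        rw [hgN, hb, h0]
        simp only [natDegree_zero, coeff_zero]
        by_cases hM : M = 0
        · subst hM
          -- f = 0 and M = 0 : then a = 0; g has b_N = 0
          have hg0 : g.natDegree < N ∨ N = 0 := by
            by_cases hN : N = 0
            · right; exact hN
            · left
              refine lt_of_le_of_ne hgd ?_
              intro h6
              have : g.leadingCoeff = 0 := by
                rw [leadingCoeff, h6, hgN, hb]
              rw [leadingCoeff_eq_zero] at this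
              rw [this] at h6
              simp at h6
              exact hN h6.symm
          rcases hg0 with h7 | h7
          · rw [zero_pow (by omega : N - g.natDegree ≠ 0)]; ring
          · subst h7
            -- both a and b are single zero coefficient: contradiction with hab
            exfalso
            have ha0 : a = 0 := by
              funext i
              have : i = Fin.last 0 := Fin.ext (by have := i.2; simp only [Fin.val_last]; omega)
              rw [this, ← hfM, h0, coeff_zero, Pi.zero_apply]
            have hb0 : b = 0 := by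
              funext i
              have : i = Fin.last 0 := Fin.ext (by have := i.2; simp only [Fin.val_last]; omega)
              rw [this, hb, Pi.zero_apply]
            rcases hab with h8 | h8
            · exact h8 ha0
            · exact h8 hb0
        · rw [Nat.sub_zero, zero_pow hM]; ring
      rw [← hfM, ← h5]
      exact leadingCoeff_ne_zero.mpr hf0
    · right; exact hb
  · rintro ⟨hA, hcop⟩
    have h2 : resultant f g ≠ 0 := hres.mpr hcop
    have h1 : g.coeff N ^ (M - f.natDegree) ≠ 0 := by
      by_cases hb : b (Fin.last N) = 0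
      · have ha : a (Fin.last M) ≠ 0 := by
          rcases hA with h | h
          · exact h
          · exact absurd hb h
        have : M ≤ f.natDegree := le_natDegree_of_ne_zero (by rw [hfM]; exact ha)
        rw [Nat.sub_eq_zero_of_le this, pow_zero]
        exact one_ne_zero
      · rw [hgN]; exact pow_ne_zero _ hb
    have h3 : f.coeff f.natDegree ^ (N - g.natDegree) ≠ 0 := by
      by_cases hf0 : f = 0
      · have ha : a (Fin.last M) = 0 := by rw [← hfM, hf0, coeff_zero]
        have hb : b (Fin.last N) ≠ 0 := by
          rcases hA with h | h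
          · exact absurd ha h
          · exact h
        have : N ≤ g.natDegree := le_natDegree_of_ne_zero (by rw [hgN]; exact hb)
        rw [Nat.sub_eq_zero_of_le this, pow_zero]
        exact one_ne_zero
      · exact pow_ne_zero _ (leadingCoeff_ne_zero.mpr hf0)
    exact mul_ne_zero (mul_ne_zero (pow_ne_zero _ (by norm_num)) h1) (mul_ne_zero h3 h2)

/-- Main statement: the four charts are smooth iff the resultant is nonzero. -/
theorem main {M N : ℕ} (a : Fin (M + 1) → k) (b : Fin (N + 1) → k) (hab : a ≠ 0 ∨ b ≠ 0) :
    (Algebra.Smooth k (MvPolynomial (Fin 2) k ⧸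
        Ideal.span ({G1 (poly a) (poly b)} : Set (MvPolynomial (Fin 2) k))) ∧
      Algebra.Smooth k (MvPolynomial (Fin 2) k ⧸
        Ideal.span ({G2 (poly a) (poly b)} : Set (MvPolynomial (Fin 2) k))) ∧
      Algebra.Smooth k (MvPolynomial (Fin 2) k ⧸
        Ideal.span ({G1 (rpoly a) (rpoly b)} : Set (MvPolynomial (Fin 2) k))) ∧
      Algebra.Smooth k (MvPolynomial (Fin 2) k ⧸
        Ideal.span ({G2 (rpoly a) (rpoly b)} : Set (MvPolynomial (Fin 2) k)))) ↔
    resultant (poly a) (poly b) M N ≠ 0 := by
  have h1 : poly a ≠ 0 ∨ poly b ≠ 0 := by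
    rcases hab with h | h
    · left; exact poly_ne_zero a h
    · right; exact poly_ne_zero b h
  have h2 : rpoly a ≠ 0 ∨ rpoly b ≠ 0 := by
    rcases hab with h | h
    · left; exact rpoly_ne_zero a h
    · right; exact rpoly_ne_zero b h
  rw [← and_assoc, smooth_charts_iff _ _ h1, smooth_charts_iff _ _ h2, resultant_ne_zero_iff a b hab]
  constructor
  · rintro ⟨hc, hr⟩
    exact ⟨(isCoprime_rpoly_iff a b hc).mp hr, hc⟩
  · rintro ⟨hA, hc⟩
    exact ⟨hc, (isCoprime_rpoly_iff a b hc).mpr hA⟩

end Groth.Agent.Lib.T2H4.HirzRes
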