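import Mathlib
import Groth.Prelude.Def_DRing4
import Groth.Agent.Lib.Helper17HOne1
import Groth.Agent.Lib.Helper1LBC

/-!
# Helper library (helper4): the Hom complex out of a K-projective complex

For a K-projective complex `P` of `A`-modules, `Hom•(P, -)` preserves quasi-isomorphisms
(`quasiIso_homCxMap`), hence `Hom•(P, -)` followed by localization inverts quasi-isomorphisms and
the unit `Hom•(P, L) ⟶ RHom(P, L)` of the total right derived functor is an isomorphism.
-/

set_option autoImplicit false
universe u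
open CategoryTheory CategoryTheory.Limits
attribute [local instance] HasDerivedCategory.standard

namespace Groth.Agent.Lib.T2H4.HomCx

open CochainComplex HomComplex DerivedCategory

section general

variable {C : Type*} [Category C] [Abelian C] [HasDerivedCategory C]

/-- postcomposition with a quasi-isomorphism is bijective on homotopy classes of maps out of a
K-projective complex. -/
lemma postcomp_bijective (P L L' : CochainComplex C ℤ) [P.IsKProjective] (f : L ⟶ L')
    [QuasiIso f] (n : ℤ) :
    Function.Bijective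
      (fun g : (HomotopyCategory.quotient C (ComplexShape.up ℤ)).obj P ⟶
          (HomotopyCategory.quotient C (ComplexShape.up ℤ)).obj (L⟦n⟧) =>
        g ≫ (HomotopyCategory.quotient C (ComplexShape.up ℤ)).map (f⟦n⟧')) := by
  have h1 := IsKProjective.Qh_map_bijective P
    ((HomotopyCategory.quotient C (ComplexShape.up ℤ)).obj (L⟦n⟧))
  have h2 := IsKProjective.Qh_map_bijective P
    ((HomotopyCategory.quotient C (ComplexShape.up ℤ)).obj (L'⟦n⟧))
  have hiso : IsIso (Qh.map ((HomotopyCategory.quotient C (ComplexShape.up ℤ)).map (f⟦n⟧'))) :=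
    (DerivedCategory.isIso_Qh_map_iff _).2
      ((HomotopyCategory.quotient_map_mem_quasiIso_iff _).2
        ((HomologicalComplex.mem_quasiIso_iff _).2 inferInstance))
  constructor
  · intro g g' h
    apply h1.1
    have h3 := congrArg (fun t => Qh.map t) h
    simp only [Functor.map_comp] at h3
    exact (cancel_mono _).1 h3
  · intro g'
    obtain ⟨g, hg⟩ := h1.2 (Qh.map g' ≫
      inv (Qh.map ((HomotopyCategory.quotient C (ComplexShape.up ℤ)).map (f⟦n⟧'))))
    refine ⟨g, h2.1 ?_⟩
    simp only [Functor.map_comp]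
    rw [hg, Category.assoc, IsIso.inv_hom_id, Category.comp_id]

omit [HasDerivedCategory C] in
lemma toHom_postcomp {P L L' : CochainComplex C ℤ} (f : L ⟶ L') {n : ℤ} (x : Cocycle P L n) :
    CohomologyClass.toHom (CohomologyClass.mk (x.postcomp f)) =
      CohomologyClass.toHom (CohomologyClass.mk x) ≫
        (HomotopyCategory.quotient C (ComplexShape.up ℤ)).map (f⟦n⟧') := by
  rw [CohomologyClass.toHom_mk, CohomologyClass.toHom_mk, Cocycle.equivHomShift_symm_postcomp,
    Functor.map_comp]

lemma exists_postcomp {P L L' : CochainComplex C ℤ} [P.IsKProjective] (f : L ⟶ L') [QuasiIso f]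
    {n : ℤ} (x' : Cocycle P L' n) :
    ∃ x : Cocycle P L n, CohomologyClass.mk (x.postcomp f) = CohomologyClass.mk x' := by
  obtain ⟨g, hg⟩ := (postcomp_bijective P L L' f n).2 (CohomologyClass.toHom (CohomologyClass.mk x'))
  obtain ⟨c, hc⟩ := (CohomologyClass.toHom_bijective P L n).2 g
  obtain ⟨x, rfl⟩ := c.mk_surjective
  refine ⟨x, (CohomologyClass.toHom_bijective P L' n).1 ?_⟩
  rw [toHom_postcomp, hc]
  exact hg

lemma mk_eq_zero_of_postcomp {P L L' : CochainComplex C ℤ} [P.IsKProjective] (f : L ⟶ L')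
    [QuasiIso f] {n : ℤ} (x : Cocycle P L n)
    (h : CohomologyClass.mk (x.postcomp f) = 0) : CohomologyClass.mk x = 0 := by
  apply (CohomologyClass.toHom_bijective P L n).1
  apply (postcomp_bijective P L L' f n).1
  show CohomologyClass.toHom (CohomologyClass.mk x) ≫ _ = CohomologyClass.toHom 0 ≫ _
  rw [← toHom_postcomp, h, map_zero (CohomologyClass.toHom (K := P) (L := L') (n := n)),
    map_zero (CohomologyClass.toHom (K := P) (L := L) (n := n)), zero_comp]

end general

variable {A : Type u} [CommRing A]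

open Groth.Agent.Lib.Helper17.HOne in
/-- `Hom•(P, -)` preserves quasi-isomorphisms for K-projective `P`. -/
theorem quasiIso_homCxMap (P : DRing.Cx A) [P.IsKProjective] {L L' : DRing.Cx A} (f : L ⟶ L')
    [QuasiIso f] : QuasiIso (DRing.homCxMap P f) := by
  rw [quasiIso_iff]
  intro n
  rw [quasiIsoAt_iff' _ (n - 1) n (n + 1) (by simp) (by simp)]
  apply quasiIso_of_elements
  · intro (x₂ : Cochain P L' n) (hx₂ : δ n (n + 1) x₂ = 0)
    obtain ⟨c, hc⟩ := exists_postcomp f (Cocycle.mk x₂ (n + 1) rfl hx₂)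
    have h0 : CohomologyClass.mk (c.postcomp f - Cocycle.mk x₂ (n + 1) rfl hx₂) = 0 := by
      rw [CohomologyClass.mk_sub, hc, sub_self]
    rw [CohomologyClass.mk_eq_zero_iff, mem_coboundaries_iff _ (n - 1) (by simp)] at h0
    obtain ⟨β, hβ⟩ := h0
    refine ⟨(c.1 : Cochain P L n), Cocycle.δ_eq_zero c (n + 1), (β : Cochain P L' (n - 1)), ?_⟩
    show c.1.comp (Cochain.ofHom f) (add_zero n) = x₂ + δ (n - 1) n β
    rw [hβ]
    simp
  · intro (x₁ : Cochain P L n) (hx₁ : δ n (n + 1) x₁ = 0)
    rintro ⟨(y : Cochain P L' (n - 1)), hy⟩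
    have hy' : x₁.comp (Cochain.ofHom f) (add_zero n) = δ (n - 1) n y := hy
    have h0 : CohomologyClass.mk ((Cocycle.mk x₁ (n + 1) rfl hx₁).postcomp f) = 0 := by
      rw [CohomologyClass.mk_eq_zero_iff, mem_coboundaries_iff _ (n - 1) (by simp)]
      exact ⟨y, hy'.symm⟩
    have h1 := mk_eq_zero_of_postcomp f _ h0
    rw [CohomologyClass.mk_eq_zero_iff, mem_coboundaries_iff _ (n - 1) (by simp)] at h1
    obtain ⟨z, hz⟩ := h1
    exact ⟨(z : Cochain P L (n - 1)), hz⟩

/-- `Hom•(P, -)` followed by localization inverts quasi-isomorphisms for K-projective `P`. -/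
theorem isInvertedBy_homCxQ (P : DRing.Cx A) [P.IsKProjective] :
    (HomologicalComplex.quasiIso (ModuleCat.{u} A) (ComplexShape.up ℤ)).IsInvertedBy
      (DRing.homCxQ P) := by
  intro L L' f hf
  have : QuasiIso f := (HomologicalComplex.mem_quasiIso_iff f).1 hf
  have := quasiIso_homCxMap P f
  exact (isIso_Q_map_iff_quasiIso (φ := DRing.homCxMap P f)).2 inferInstance

/-- `RHom(P, L) ≅ Hom•(P, L)` for K-projective `P`. -/
theorem nonempty_RHomCx_iso (P : DRing.Cx A) [P.IsKProjective] [DRing.HasRHomCx P]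
    (L : DRing.Cx A) :
    Nonempty ((DRing.RHomCx P).obj (DRing.toD L) ≅ DRing.toD (DRing.homCx P L)) := by
  have hiso : IsIso ((DRing.homCxQ P).totalRightDerivedUnit DerivedCategory.Q
      (HomologicalComplex.quasiIso (ModuleCat.{u} A) (ComplexShape.up ℤ))) :=
    Functor.isIso_of_isRightDerivedFunctor_of_inverts _ _ (isInvertedBy_homCxQ P)
  exact ⟨(asIso (((DRing.homCxQ P).totalRightDerivedUnit DerivedCategory.Q
      (HomologicalComplex.quasiIso (ModuleCat.{u} A) (ComplexShape.up ℤ))).app L)).symm⟩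

end Groth.Agent.Lib.T2H4.HomCx
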