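import Mathlib
import Groth.Prelude.Def_DRing4
import Groth.Agent.Lib.Helper1KF2

/-!
# `Hom•(-, K)`: functoriality, homotopies, split short exact sequences, singles (helper4)

`gpre`/`homPre`: precomposition on the frozen `DRing.homCx`; `homPreHomotopy`, `homPreHomotopyEquiv`:
homotopy invariance in the first variable; `homS`, `homSSplitting`, `kflat_homCx_X₂`: degreewise split short
exact sequences; `homSingleUnitIso : Hom•(R[-j], K) ≅ K⟦j⟧`, `kflat_homCx_sR`.
-/

set_option autoImplicit false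

namespace Groth.Agent.Lib.T2H4.HomKFlat

open CategoryTheory Limits HomologicalComplex CochainComplex.HomComplex

universe u

section Gpre

variable {R : Type u} [CommRing R] {X Y Z : DRing.Cx R} (K : DRing.Cx R)

/-- precomposition with a graded map, as a linear map on cochains. -/
noncomputable def gpre (u : ∀ p, X.X p ⟶ Y.X p) (n : ℤ) : Cochain Y K n →ₗ[R] Cochain X K n where
  toFun z := Cochain.mk (fun p q hpq => u p ≫ z.v p q hpq)
  map_add' z z' := by
    ext p q hpq
    simp
  map_smul' a z := by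
    ext p q hpq
    simp

@[simp]
lemma gpre_v (u : ∀ p, X.X p ⟶ Y.X p) (n : ℤ) (z : Cochain Y K n) (p q : ℤ) (hpq : p + n = q) :
    (gpre K u n z).v p q hpq = u p ≫ z.v p q hpq := rfl

lemma gpre_id (n : ℤ) : gpre K (fun p => 𝟙 (X.X p)) n = LinearMap.id := by
  apply LinearMap.ext
  intro z
  ext p q hpq
  simp

lemma gpre_comp (u : ∀ p, X.X p ⟶ Y.X p) (v : ∀ p, Y.X p ⟶ Z.X p) (n : ℤ) :
    gpre K (fun p => u p ≫ v p) n = (gpre K u n).comp (gpre K v n) := by
  apply LinearMap.ext
  intro z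
  ext p q hpq
  simp

lemma gpre_add (u u' : ∀ p, X.X p ⟶ Y.X p) (n : ℤ) :
    gpre K (fun p => u p + u' p) n = gpre K u n + gpre K u' n := by
  apply LinearMap.ext
  intro z
  ext p q hpq
  simp

lemma gpre_zero (n : ℤ) : gpre K (fun p => (0 : X.X p ⟶ Y.X p)) n = 0 := by
  apply LinearMap.ext
  intro z
  ext p q hpq
  simp

/-- `Hom•(s, K) : Hom•(Y, K) ⟶ Hom•(X, K)`. -/
noncomputable def homPre (s : X ⟶ Y) : DRing.homCx Y K ⟶ DRing.homCx X K where
  f n := ModuleCat.ofHom (gpre K (fun p => s.f p) n)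
  comm' i j hij := by
    obtain rfl : i + 1 = j := hij
    apply ModuleCat.hom_ext
    apply LinearMap.ext
    intro (z : Cochain Y K i)
    show δ i (i + 1) (gpre K (fun p => s.f p) i z) = gpre K (fun p => s.f p) (i + 1) (δ i (i + 1) z)
    apply Cochain.ext
    intro p q hpq
    rw [δ_v i (i + 1) rfl _ p q hpq (q - 1) (p + 1) rfl rfl, gpre_v, gpre_v, gpre_v,
      δ_v i (i + 1) rfl _ p q hpq (q - 1) (p + 1) rfl rfl]
    simp

lemma homPre_f (s : X ⟶ Y) (n : ℤ) :
    (homPre K s).f n = ModuleCat.ofHom (gpre K (fun p => s.f p) n) := rfl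

lemma homPre_id : homPre K (𝟙 X) = 𝟙 _ := by
  ext n : 1
  rw [homPre_f]
  have : (fun p => (𝟙 X : X ⟶ X).f p) = fun p => 𝟙 (X.X p) := rfl
  rw [this, gpre_id]
  rfl

lemma homPre_comp (s : X ⟶ Y) (t : Y ⟶ Z) : homPre K (s ≫ t) = homPre K t ≫ homPre K s := by
  ext n : 1
  rw [HomologicalComplex.comp_f, homPre_f, homPre_f, homPre_f]
  have : (fun p => (s ≫ t).f p) = fun p => s.f p ≫ t.f p := rfl
  rw [this, gpre_comp]
  rfl

lemma ofHom_comp_eq_gpre (s : X ⟶ Y) (n : ℤ) (z : Cochain Y K n) :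
    (Cochain.ofHom s).comp z (zero_add n) = gpre K (fun p => s.f p) n z := by
  apply Cochain.ext
  intro p q hpq
  rw [Cochain.zero_cochain_comp_v, Cochain.ofHom_v, gpre_v]

/-- the homotopy operator induced by a homotopy. -/
noncomputable def hpre {s s' : X ⟶ Y} (h : Homotopy s s') (n m : ℤ) (hnm : m + 1 = n) :
    Cochain Y K n →ₗ[R] Cochain X K m where
  toFun z := n.negOnePow • (Cochain.ofHomotopy h).comp z (by omega : -1 + n = m)
  map_add' z z' := by simp
  map_smul' a z := by
    simp only [Cochain.comp_smul, RingHom.id_apply]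
    rw [smul_comm]

lemma hpre_apply {s s' : X ⟶ Y} (h : Homotopy s s') (n m : ℤ) (hnm : m + 1 = n)
    (z : Cochain Y K n) :
    hpre K h n m hnm z = n.negOnePow • (Cochain.ofHomotopy h).comp z (by omega : -1 + n = m) := rfl

/-- the homotopy operator as a morphism. -/
noncomputable def hpreHom {s s' : X ⟶ Y} (h : Homotopy s s') (n m : ℤ) :
    (DRing.homCx Y K).X n ⟶ (DRing.homCx X K).X m :=
  if hnm : m + 1 = n then ModuleCat.ofHom (hpre K h n m hnm) else 0

lemma hpreHom_eq {s s' : X ⟶ Y} (h : Homotopy s s') (n m : ℤ) (hnm : m + 1 = n) :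
    hpreHom K h n m = ModuleCat.ofHom (hpre K h n m hnm) := dif_pos hnm

/-- homotopic maps induce homotopic maps on `Hom•(-, K)`. -/
noncomputable def homPreHomotopy {s s' : X ⟶ Y} (h : Homotopy s s') :
    Homotopy (homPre K s) (homPre K s') where
  hom n m := hpreHom K h n m
  zero n m hnm := dif_neg hnm
  comm n := by
    rw [dNext_eq _ (show (ComplexShape.up ℤ).Rel n (n + 1) from rfl),
      prevD_eq _ (show (ComplexShape.up ℤ).Rel (n - 1) n by simp),
      hpreHom_eq K h (n + 1) n rfl, hpreHom_eq K h n (n - 1) (by omega)]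
    apply ModuleCat.hom_ext
    apply LinearMap.ext
    intro (z : Cochain Y K n)
    show gpre K (fun p => s.f p) n z =
      hpre K h (n + 1) n rfl (δ n (n + 1) z) + δ (n - 1) n (hpre K h n (n - 1) (by omega) z) +
        gpre K (fun p => s'.f p) n z
    rw [hpre_apply, hpre_apply, δ_units_smul,
      δ_comp (Cochain.ofHomotopy h) z (by omega : -1 + n = n - 1) 0 (n + 1) n (by omega) (by omega) rfl,
      δ_ofHomotopy, Cochain.sub_comp, ofHom_comp_eq_gpre, ofHom_comp_eq_gpre, Int.negOnePow_succ]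
    generalize (Cochain.ofHomotopy h).comp (δ n (n + 1) z) _ = A
    generalize gpre K (fun p => s.f p) n z = S
    generalize gpre K (fun p => s'.f p) n z = S'
    generalize n.negOnePow = u
    rw [smul_add, smul_smul, Int.units_mul_self, one_smul, Units.neg_smul]
    abel

/-- `Hom•(-, K)` preserves homotopy equivalences. -/
noncomputable def homPreHomotopyEquiv (e : HomotopyEquiv X Y) :
    HomotopyEquiv (DRing.homCx Y K) (DRing.homCx X K) where
  hom := homPre K e.hom
  inv := homPre K e.inv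
  homotopyHomInvId := (Homotopy.ofEq (homPre_comp K e.inv e.hom).symm).trans
    ((homPreHomotopy K e.homotopyInvHomId).trans (Homotopy.ofEq (homPre_id K)))
  homotopyInvHomId := (Homotopy.ofEq (homPre_comp K e.hom e.inv).symm).trans
    ((homPreHomotopy K e.homotopyHomInvId).trans (Homotopy.ofEq (homPre_id K)))

end Gpre

section SES

variable {R : Type u} [CommRing R] (K : DRing.Cx R)

lemma homPre_zero {X Y : DRing.Cx R} : homPre K (0 : X ⟶ Y) = 0 := by
  ext n : 1
  rw [homPre_f]
  have : (fun p => (0 : X ⟶ Y).f p) = fun p => (0 : X.X p ⟶ Y.X p) := rfl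
  rw [this, gpre_zero]
  rfl

variable (S : ShortComplex (DRing.Cx R))

/-- the short complex `Hom•(X₃,K) ⟶ Hom•(X₂,K) ⟶ Hom•(X₁,K)`. -/
noncomputable def homS : ShortComplex (DRing.Cx R) :=
  ShortComplex.mk (homPre K S.g) (homPre K S.f) (by rw [← homPre_comp, S.zero, homPre_zero])

/-- the degreewise retraction and section of a degreewise split short complex. -/
noncomputable def rσ (σ : ∀ n, (S.map (HomologicalComplex.eval _ _ n)).Splitting) (p : ℤ) :
    S.X₂.X p ⟶ S.X₁.X p := (σ p).r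

/-- the degreewise section. -/
noncomputable def sσ (σ : ∀ n, (S.map (HomologicalComplex.eval _ _ n)).Splitting) (p : ℤ) :
    S.X₃.X p ⟶ S.X₂.X p := (σ p).s

lemma f_rσ (σ : ∀ n, (S.map (HomologicalComplex.eval _ _ n)).Splitting) (p : ℤ) :
    S.f.f p ≫ rσ S σ p = 𝟙 _ := (σ p).f_r

lemma sσ_g (σ : ∀ n, (S.map (HomologicalComplex.eval _ _ n)).Splitting) (p : ℤ) :
    sσ S σ p ≫ S.g.f p = 𝟙 _ := (σ p).s_g

lemma rσ_id (σ : ∀ n, (S.map (HomologicalComplex.eval _ _ n)).Splitting) (p : ℤ) :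
    rσ S σ p ≫ S.f.f p + S.g.f p ≫ sσ S σ p = 𝟙 _ := (σ p).id

/-- degreewise splittings of `homS`. -/
noncomputable def homSSplitting (σ : ∀ n, (S.map (HomologicalComplex.eval _ _ n)).Splitting) (n : ℤ) :
    ((homS K S).map (HomologicalComplex.eval _ _ n)).Splitting where
  r := ModuleCat.ofHom (gpre K (sσ S σ) n)
  s := ModuleCat.ofHom (gpre K (rσ S σ) n)
  f_r := by
    show ModuleCat.ofHom (gpre K (fun p => S.g.f p) n) ≫ ModuleCat.ofHom (gpre K (sσ S σ) n) = 𝟙 _
    rw [← ModuleCat.ofHom_comp, ← gpre_comp]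
    have : (fun p => sσ S σ p ≫ S.g.f p) = fun p => 𝟙 (S.X₃.X p) := funext (sσ_g S σ)
    rw [this, gpre_id]
    rfl
  s_g := by
    show ModuleCat.ofHom (gpre K (rσ S σ) n) ≫ ModuleCat.ofHom (gpre K (fun p => S.f.f p) n) = 𝟙 _
    rw [← ModuleCat.ofHom_comp, ← gpre_comp]
    have : (fun p => S.f.f p ≫ rσ S σ p) = fun p => 𝟙 (S.X₁.X p) := funext (f_rσ S σ)
    rw [this, gpre_id]
    rfl
  id := by
    show ModuleCat.ofHom (gpre K (sσ S σ) n) ≫ ModuleCat.ofHom (gpre K (fun p => S.g.f p) n) +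
      ModuleCat.ofHom (gpre K (fun p => S.f.f p) n) ≫ ModuleCat.ofHom (gpre K (rσ S σ) n) = 𝟙 _
    rw [← ModuleCat.ofHom_comp, ← ModuleCat.ofHom_comp, ← gpre_comp, ← gpre_comp, ← ModuleCat.ofHom_add,
      ← gpre_add]
    have : (fun p => S.g.f p ≫ sσ S σ p + rσ S σ p ≫ S.f.f p) = fun p => 𝟙 (S.X₂.X p) :=
      funext (fun p => by rw [add_comm]; exact rσ_id S σ p)
    rw [this, gpre_id]
    rfl

lemma homS_shortExact (σ : ∀ n, (S.map (HomologicalComplex.eval _ _ n)).Splitting) :
    (homS K S).ShortExact := by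
  rw [HomologicalComplex.shortExact_iff_degreewise_shortExact]
  intro n
  exact (homSSplitting K S σ n).shortExact

open Groth.Agent.Lib.Helper1.KF in
/-- K-flatness of `Hom•(-, K)` along degreewise split short exact sequences. -/
lemma kflat_homCx_X₂ (σ : ∀ n, (S.map (HomologicalComplex.eval _ _ n)).Splitting)
    (h₁ : KFlat (DRing.homCx S.X₁ K)) (h₃ : KFlat (DRing.homCx S.X₃ K)) :
    KFlat (DRing.homCx S.X₂ K) :=
  KFlat.X₂ (S := homS K S)
    (fun L => tensorLeft_shortExact_of_splitting L (homS K S) (homSSplitting K S σ)) h₃ h₁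

end SES

section Single

variable {R : Type u} [CommRing R] (K : DRing.Cx R) (j : ℤ)

/-- the unit module in degree `j`. -/
noncomputable abbrev sR : DRing.Cx R :=
  (CochainComplex.singleFunctor (ModuleCat.{u} R) j).obj (ModuleCat.of R R)

lemma fromSingleEquiv_smul' {M : ModuleCat.{u} R} {n q : ℤ} (h : j + n = q) (a : R)
    (α : Cochain ((CochainComplex.singleFunctor (ModuleCat.{u} R) j).obj M) K n) :
    Cochain.fromSingleEquiv h (a • α) = a • Cochain.fromSingleEquiv h α := by
  show (HomologicalComplex.singleObjXSelf (ComplexShape.up ℤ) j M).inv ≫ (a • α).v j q h =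
    a • ((HomologicalComplex.singleObjXSelf (ComplexShape.up ℤ) j M).inv ≫ α.v j q h)
  rw [Cochain.smul_v]
  exact Linear.comp_smul (R := R) _ _ _ _ a _

/-- the sign. -/
def sgn (n : ℤ) : ℤˣ := (j * n).negOnePow

lemma sgn_succ (n : ℤ) : sgn j (n + 1) = sgn j n * j.negOnePow := by
  unfold sgn
  rw [mul_add, mul_one, Int.negOnePow_add]

lemma fromSingleMk_units_smul {M : ModuleCat.{u} R} {n q : ℤ} (h : j + n = q) (u : ℤˣ)
    (g : M ⟶ K.X q) :
    Cochain.fromSingleMk (p := j) (u • g) h = u • Cochain.fromSingleMk g h := by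
  rcases Int.units_eq_one_or u with rfl | rfl <;> simp

lemma ofHom_toSpanSingleton (N : ModuleCat.{u} R) (f : ModuleCat.of R R ⟶ N) :
    ModuleCat.ofHom (LinearMap.toSpanSingleton R N (f.hom (1 : R))) = f := by
  apply ModuleCat.hom_ext
  apply LinearMap.ext_ring
  simp

/-- forward map. -/
noncomputable def sTo (n : ℤ) (α : Cochain (sR (R := R) j) K n) : K.X (n + j) :=
  sgn j n • (Cochain.fromSingleEquiv (by omega : j + n = n + j) α).hom (1 : R)

/-- backward map. -/
noncomputable def sInv (n : ℤ) (x : K.X (n + j)) : Cochain (sR (R := R) j) K n :=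
  sgn j n • Cochain.fromSingleMk (ModuleCat.ofHom (LinearMap.toSpanSingleton R _ x))
    (by omega : j + n = n + j)

lemma sTo_fromSingleMk (n : ℤ) (f : ModuleCat.of R R ⟶ K.X (n + j)) :
    sTo K j n (Cochain.fromSingleMk f (by omega : j + n = n + j)) = sgn j n • f.hom (1 : R) := by
  unfold sTo
  rw [Cochain.fromSingleEquiv_fromSingleMk]

lemma sInv_sTo (n : ℤ) (α : Cochain (sR (R := R) j) K n) : sInv K j n (sTo K j n α) = α := by
  obtain ⟨f, rfl⟩ := Cochain.fromSingleMk_surjective α (n + j) (by omega)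
  rw [sTo_fromSingleMk]
  unfold sInv
  rcases Int.units_eq_one_or (sgn j n) with h | h
  · rw [h, one_smul, one_smul, ofHom_toSpanSingleton]
  · rw [h]
    simp only [Units.neg_smul, one_smul]
    have : LinearMap.toSpanSingleton R (K.X (n + j)) (-(f.hom (1 : R))) =
        -LinearMap.toSpanSingleton R (K.X (n + j)) (f.hom (1 : R)) := by
      apply LinearMap.ext_ring
      simp
    have h2 : ModuleCat.ofHom (-LinearMap.toSpanSingleton R (K.X (n + j)) (f.hom (1 : R))) =
        -ModuleCat.ofHom (LinearMap.toSpanSingleton R (K.X (n + j)) (f.hom (1 : R))) := rfl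
    rw [this, h2, Cochain.fromSingleMk_neg, neg_neg, ofHom_toSpanSingleton]

lemma sTo_sInv (n : ℤ) (x : K.X (n + j)) : sTo K j n (sInv K j n x) = x := by
  unfold sInv
  rw [← fromSingleMk_units_smul, sTo_fromSingleMk]
  rcases Int.units_eq_one_or (sgn j n) with h | h
  · rw [h, one_smul, one_smul]
    simp
  · rw [h]
    simp

/-- `Hom•(R[-j], K)^n ≃ K^{n+j}`. -/
noncomputable def sEquiv (n : ℤ) : Cochain (sR (R := R) j) K n ≃ₗ[R] K.X (n + j) where
  toFun := sTo K j n
  invFun := sInv K j n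
  left_inv := sInv_sTo K j n
  right_inv := sTo_sInv K j n
  map_add' α β := by
    unfold sTo
    rw [map_add, ModuleCat.hom_add, LinearMap.add_apply, smul_add]
  map_smul' a α := by
    unfold sTo
    rw [fromSingleEquiv_smul', ModuleCat.hom_smul, LinearMap.smul_apply, RingHom.id_apply, smul_comm]

/-- `Hom•(R[-j], K) ≅ K⟦j⟧`. -/
noncomputable def homSingleUnitIso : DRing.homCx (sR (R := R) j) K ≅ K⟦j⟧ :=
  HomologicalComplex.Hom.isoOfComponents (fun n => (sEquiv K j n).toModuleIso) (by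
    rintro n m (hnm : n + 1 = m)
    subst hnm
    apply ModuleCat.hom_ext
    apply LinearMap.ext
    intro (α : Cochain (sR (R := R) j) K n)
    obtain ⟨f, rfl⟩ := Cochain.fromSingleMk_surjective α (n + j) (by omega)
    show (K⟦j⟧).d n (n + 1) (sTo K j n (Cochain.fromSingleMk f _)) =
      sTo K j (n + 1) (δ n (n + 1) (Cochain.fromSingleMk f _))
    rw [Cochain.δ_fromSingleMk f (by omega : j + n = n + j) (n + 1) (n + 1 + j) (by omega),
      sTo_fromSingleMk, sTo_fromSingleMk, CochainComplex.shiftFunctor_obj_d', sgn_succ]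
    show (j.negOnePow • (K.d (n + j) (n + 1 + j)).hom) (sgn j n • f.hom (1 : R)) =
      (sgn j n * j.negOnePow) • (K.d (n + j) (n + 1 + j)).hom (f.hom (1 : R))
    rcases Int.units_eq_one_or (sgn j n) with h | h <;>
    rcases Int.units_eq_one_or (j.negOnePow) with h' | h' <;>
    simp [h, h'])

open Groth.Agent.Lib.Helper1.KF in
lemma kflat_homCx_sR (hK : KFlat K) : KFlat (DRing.homCx (sR (R := R) j) K) := by
  have h1 : KFlat (K⟦j⟧) := hK.shift j
  intro L hL
  exact (h1 L hL).of_iso ((MonoidalCategory.tensorLeft L).mapIso (homSingleUnitIso K j)).symm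

end Single

end Groth.Agent.Lib.T2H4.HomKFlat
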