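import Mathlib
import Groth.Agent.Lib.T2H4HomKFlatA
import Groth.Agent.Lib.Helper1LBC
import Groth.Agent.Lib.Helper1DT2

/-!
# K-flatness of `Hom•(P, K)` for perfect `P` and K-flat `K` (helper4)

`KFlat.of_retract`, `kflat_homCx_of_retract`; `kflat_homCx_single` (finite projective module in one
degree, via finite free modules and `Hom•(R[-j], K) ≅ K⟦j⟧`); `kflat_homCx_of_bounded` (dévissage along the
top term); `kflat_homCx_of_perfect` (homotopy invariance).
-/

set_option autoImplicit false

namespace Groth.Agent.Lib.T2H4.HomKFlat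

open CategoryTheory Limits HomologicalComplex CochainComplex.HomComplex

universe u

section Retract

variable {R : Type u} [CommRing R]

open Groth.Agent.Lib.Helper1.KF MonoidalCategory

lemma KFlat.of_retract {X Y : DRing.Cx R} (i : X ⟶ Y) (r : Y ⟶ X) (h : i ≫ r = 𝟙 X)
    (hY : KFlat Y) : KFlat X := by
  intro L hL n
  have h1 := hY L hL n
  have h2 : (L ◁ i) ≫ (L ◁ r) = 𝟙 (L ⊗ X) := by
    rw [← MonoidalCategory.whiskerLeft_comp, h, MonoidalCategory.whiskerLeft_id]
  rw [IsZero.iff_id_eq_zero]
  have h3 : 𝟙 ((L ⊗ X).homology n) = homologyMap (L ◁ i) n ≫ homologyMap (L ◁ r) n := by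
    rw [← homologyMap_comp, h2, homologyMap_id]
  rw [h3, h1.eq_of_tgt (homologyMap (L ◁ i) n) 0, zero_comp]

variable (K : DRing.Cx R)

lemma kflat_homCx_of_retract {X Y : DRing.Cx R} (s : X ⟶ Y) (p : Y ⟶ X) (hsp : s ≫ p = 𝟙 X)
    (hY : KFlat (DRing.homCx Y K)) : KFlat (DRing.homCx X K) :=
  KFlat.of_retract (homPre K p) (homPre K s) (by rw [← homPre_comp, hsp, homPre_id]) hY

lemma kflat_homCx_of_iso {X Y : DRing.Cx R} (e : X ≅ Y)
    (hY : KFlat (DRing.homCx Y K)) : KFlat (DRing.homCx X K) :=
  kflat_homCx_of_retract K e.hom e.inv e.hom_inv_id hY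

lemma kflat_homCx_of_id_eq_zero {X : DRing.Cx R} (hX : 𝟙 X = 0) (Y : DRing.Cx R)
    (hY : KFlat (DRing.homCx Y K)) : KFlat (DRing.homCx X K) :=
  kflat_homCx_of_retract K (0 : X ⟶ Y) 0 (by rw [hX, zero_comp]) hY

end Retract

section Free

variable {R : Type u} [CommRing R] (K : DRing.Cx R) (j : ℤ)

open Groth.Agent.Lib.Helper1.KF

/-- the single functor. -/
noncomputable abbrev Sg : ModuleCat.{u} R ⥤ DRing.Cx R :=
  CochainComplex.singleFunctor (ModuleCat.{u} R) j

/-- K-flatness of `Hom•(M[-j], K)` for a biproduct. -/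
lemma kflat_homCx_single_biprod (M₁ M₂ : ModuleCat.{u} R)
    (h₁ : KFlat (DRing.homCx ((Sg j).obj M₁) K)) (h₂ : KFlat (DRing.homCx ((Sg j).obj M₂) K)) :
    KFlat (DRing.homCx ((Sg j).obj (M₁ ⊞ M₂)) K) := by
  let σ := ShortComplex.Splitting.ofHasBinaryBiproduct M₁ M₂
  let S := (ShortComplex.mk (biprod.inl : M₁ ⟶ M₁ ⊞ M₂) (biprod.snd : M₁ ⊞ M₂ ⟶ M₂)
    (by simp)).map (Sg (R := R) j)
  exact kflat_homCx_X₂ K S (fun n => (σ.map (Sg (R := R) j)).map (HomologicalComplex.eval _ _ n)) h₁ h₂

/-- K-flatness of `Hom•(R^ι[-j], K)`. -/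
lemma kflat_homCx_single_pi (hK : KFlat K) (ι : Type) [Finite ι] :
    ∀ M : ModuleCat.{u} R, Nonempty (M ≅ ModuleCat.of R (ι → R)) →
      KFlat (DRing.homCx ((Sg j).obj M) K) := by
  induction ι using Finite.induction_empty_option with
  | of_equiv e ih =>
    rintro M ⟨eM⟩
    exact ih M ⟨eM ≪≫ (LinearEquiv.funCongrLeft R R e).toModuleIso⟩
  | h_empty =>
    rintro M ⟨eM⟩
    have hM : IsZero M := by
      have : Subsingleton (ModuleCat.of R (PEmpty → R)) := inferInstanceAs (Subsingleton (PEmpty → R))
      exact (ModuleCat.isZero_of_subsingleton _).of_iso eM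
    have hz : IsZero ((Sg (R := R) j).obj M) := (Sg (R := R) j).map_isZero hM
    exact kflat_homCx_of_id_eq_zero K (hz.eq_of_src _ _) (sR j) (kflat_homCx_sR K j hK)
  | h_option ih =>
    rename_i ι' _
    rintro M ⟨eM⟩
    have e1 : ModuleCat.of R (Option ι' → R) ≅ ModuleCat.of R (R × (ι' → R)) :=
      (LinearEquiv.piOptionEquivProd R (M := fun _ : Option ι' => R)).toModuleIso
    have e2 : ModuleCat.of R R ⊞ ModuleCat.of R (ι' → R) ≅ ModuleCat.of R (R × (ι' → R)) :=
      ModuleCat.biprodIsoProd _ _
    have e : M ≅ ModuleCat.of R R ⊞ ModuleCat.of R (ι' → R) := eM ≪≫ e1 ≪≫ e2.symm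
    have h := kflat_homCx_single_biprod K j (ModuleCat.of R R) (ModuleCat.of R (ι' → R))
      (kflat_homCx_sR K j hK) (ih _ ⟨Iso.refl _⟩)
    exact kflat_homCx_of_iso K ((Sg (R := R) j).mapIso e) h

/-- K-flatness of `Hom•(M[-j], K)` for a finite projective module `M`. -/
lemma kflat_homCx_single (hK : KFlat K) (M : ModuleCat.{u} R) [Module.Finite R M]
    [Module.Projective R M] : KFlat (DRing.homCx ((Sg j).obj M) K) := by
  obtain ⟨N, f, hf⟩ := Module.Finite.exists_fin' R M
  obtain ⟨s, hs⟩ := Module.projective_lifting_property f LinearMap.id hf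
  let sM : M ⟶ ModuleCat.of R (Fin N → R) := ModuleCat.ofHom s
  let pM : ModuleCat.of R (Fin N → R) ⟶ M := ModuleCat.ofHom f
  have hsp : sM ≫ pM = 𝟙 M := by
    apply ModuleCat.hom_ext
    exact hs
  refine kflat_homCx_of_retract K ((Sg (R := R) j).map sM) ((Sg (R := R) j).map pM) ?_
    (kflat_homCx_single_pi K j hK (Fin N) _ ⟨Iso.refl _⟩)
  rw [← Functor.map_comp, hsp, CategoryTheory.Functor.map_id]

end Free

section Bounded

variable {R : Type u} [CommRing R] (K : DRing.Cx R)

open Groth.Agent.Lib.Helper1.KF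

/-- K-flatness of `Hom•(E, K)` for a bounded complex `E` of finite projective modules. -/
theorem kflat_homCx_of_bounded (hK : KFlat K) : ∀ (k : ℕ) (E : DRing.Cx R) (a b : ℤ),
    b + 1 - a ≤ k → DRing.VanishesOutside E a b → DRing.TermwiseFiniteProjective E →
    KFlat (DRing.homCx E K) := by
  intro k
  induction k with
  | zero =>
    intro E a b hk hv _
    have hE : 𝟙 E = 0 := by
      ext i : 1
      exact (hv i (by omega)).eq_of_src _ _
    exact kflat_homCx_of_id_eq_zero K hE (sR 0) (kflat_homCx_sR K 0 hK)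
  | succ k ih =>
    intro E a b hk hv hp
    by_cases hk' : b + 1 - a ≤ k
    · exact ih E a b hk' hv hp
    · obtain ⟨ι, hι⟩ : ∃ ι : (single (ModuleCat.{u} R) (ComplexShape.up ℤ) b).obj (E.X b) ⟶ E,
          ι.f b = (singleObjXSelf (ComplexShape.up ℤ) b (E.X b)).hom :=
        ⟨mkHomFromSingle (𝟙 _) (fun k hk => by
          obtain rfl : b + 1 = k := hk
          exact (hv (b + 1) (by omega)).eq_of_tgt _ _), by
          rw [mkHomFromSingle_f, Category.comp_id]⟩
      have hmono : Mono ι := by
        apply HomologicalComplex.mono_of_mono_f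
        intro i
        by_cases hi : i = b
        · subst hi
          rw [hι]
          infer_instance
        · exact (isZero_single_obj_X (ComplexShape.up ℤ) b (E.X b) i hi).mono _
      let S : ShortComplex (DRing.Cx R) :=
        ShortComplex.mk ι (cokernel.π ι) (cokernel.condition ι)
      have hS : S.ShortExact :=
        { exact := ShortComplex.exact_cokernel ι
          mono_f := hmono
          epi_g := inferInstanceAs (Epi (cokernel.π ι)) }
      have hSi : ∀ i : ℤ, (S.map (eval _ _ i)).ShortExact :=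
        (HomologicalComplex.shortExact_iff_degreewise_shortExact S).1 hS
      have hiso : ∀ i : ℤ, i ≠ b → IsIso ((cokernel.π ι).f i) := fun i hi =>
        (hSi i).isIso_g_iff.2 (isZero_single_obj_X (ComplexShape.up ℤ) b (E.X b) i hi)
      have hzero : IsZero ((cokernel ι).X b) :=
        (hSi b).isIso_f_iff.1 (by
          show IsIso (ι.f b)
          rw [hι]
          infer_instance)
      -- the cokernel is bounded with finite projective terms
      have hCv : DRing.VanishesOutside (cokernel ι) a (b - 1) := by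
        intro i hi
        by_cases hib : i = b
        · subst hib
          exact hzero
        · have := hiso i hib
          exact (hv i (by omega)).of_iso (asIso ((cokernel.π ι).f i)).symm
      have hCp : DRing.TermwiseFiniteProjective (cokernel ι) := by
        intro i
        by_cases hib : i = b
        · subst hib
          have : Subsingleton ((cokernel ι).X i) := ModuleCat.subsingleton_of_isZero hzero
          exact ⟨inferInstance, inferInstance⟩
        · have := hiso i hib
          have e := (asIso ((cokernel.π ι).f i)).toLinearEquiv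
          have := (hp i).1
          have := (hp i).2
          exact ⟨Module.Finite.equiv e, Module.Projective.of_equiv e⟩
      -- degreewise splittings
      have hsec : ∀ n : ℤ, ∃ s : (cokernel ι).X n ⟶ E.X n, s ≫ (cokernel.π ι).f n = 𝟙 _ := by
        intro n
        have hepi : Epi ((cokernel.π ι).f n) := (hSi n).epi_g
        have hsurj : Function.Surjective ((cokernel.π ι).f n).hom :=
          (ModuleCat.epi_iff_surjective _).1 hepi
        have := (hCp n).2
        obtain ⟨s, hs⟩ := Module.projective_lifting_property ((cokernel.π ι).f n).hom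
          LinearMap.id hsurj
        exact ⟨ModuleCat.ofHom s, ModuleCat.hom_ext hs⟩
      choose s hs using hsec
      have hmono_i : ∀ n : ℤ, Mono (ι.f n) := fun n => (hSi n).mono_f
      let σ : ∀ n, (S.map (HomologicalComplex.eval _ _ n)).Splitting := fun n =>
        ShortComplex.Splitting.ofExactOfSection _ (hSi n).exact (s n) (hs n) (hmono_i n)
      have h₃ : KFlat (DRing.homCx (cokernel ι) K) :=
        ih (cokernel ι) a (b - 1) (by omega) hCv hCp
      have := (hp b).1
      have := (hp b).2
      have h₁ : KFlat (DRing.homCx ((Sg (R := R) b).obj (E.X b)) K) :=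
        kflat_homCx_single K b hK (E.X b)
      exact kflat_homCx_X₂ K S σ h₁ h₃

end Bounded

section Main

variable {R : Type u} [CommRing R]

open Groth.Agent.Lib.Helper1.KF Groth.Agent.Lib.Helper1.LDer Groth.Agent.Lib.Helper1.DT

attribute [local instance] HasDerivedCategory.standard

theorem kflat_homCx_of_perfect (P K : DRing.Cx R) (b : ℤ)
    (hPb : DRing.VanishesAbove P b) (hPp : ∀ i : ℤ, Module.Projective R (P.X i))
    (hperf : DRing.IsPerfect R (DRing.toD P)) (hK : KFlat K) : KFlat (DRing.homCx P K) := by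
  obtain ⟨E, a', b', hEv, hEp, ⟨e⟩⟩ := hperf
  have hPK : P.IsKProjective := isKProjective_of_vanishesAbove P b hPb hPp
  have hEK : E.IsKProjective :=
    isKProjective_of_vanishesAbove E b' (fun i hi => hEv i (Or.inr hi)) (fun i => (hEp i).2)
  obtain ⟨φ, hφ⟩ := Q_map_surjective P E e.inv
  have hφi : IsIso (DerivedCategory.Q.map φ) := by rw [hφ]; infer_instance
  have hφq : QuasiIso φ := (DerivedCategory.isIso_Q_map_iff_quasiIso (φ := φ)).1 hφi
  obtain ⟨he, -⟩ := (CochainComplex.IsKProjective.quasiIso_iff φ).1 hφq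
  have h1 : KFlat (DRing.homCx E K) :=
    kflat_homCx_of_bounded K hK (b' + 1 - a').toNat E a' b' (Int.self_le_toNat _) hEv hEp
  exact h1.of_homotopyEquiv (homPreHomotopyEquiv K he)

end Main

end Groth.Agent.Lib.T2H4.HomKFlat
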