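import Mathlib
import Groth.Prelude.Def_Tame

/-!
# Order functions on the fraction field of a discrete valuation ring (helper4)

Namespace `Groth.Agent.Lib.T2H4.Ref1Alg`.
* `IsOrd R K o`: `o : K → ℤ` is additive on nonzero elements, kills units of `R` and is `1` on uniformizers.
* `IsOrd.eq`: two such functions agree on nonzero elements; `IsOrd.nonneg_iff`: `0 ≤ o f ↔ f ∈ R`.
* `isOrd_cycOrdFrac`: the prelude's `CycAlg.ordFrac`, transported along isomorphisms, is such a function.
-/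

set_option autoImplicit false
set_option linter.style.haveILetI false
universe u

namespace Groth.Agent.Lib.T2H4.Ref1Alg

variable (R : Type u) [CommRing R] [IsDomain R] [IsDiscreteValuationRing R]
  (K : Type u) [Field K] [Algebra R K] [IsFractionRing R K]

structure IsOrd (o : K → ℤ) : Prop where
  mul : ∀ a b : K, a ≠ 0 → b ≠ 0 → o (a * b) = o a + o b
  unit : ∀ u : R, IsUnit u → o (algebraMap R K u) = 0
  irr : ∀ π : R, Irreducible π → o (algebraMap R K π) = 1

variable {R K}

namespace IsOrd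

variable {o o' : K → ℤ}

theorem map_ne_zero {a : R} (ha : a ≠ 0) : algebraMap R K a ≠ 0 :=
  (map_ne_zero_iff _ (IsFractionRing.injective R K)).2 ha

theorem pow (h : IsOrd R K o) {π : R} (hπ : Irreducible π) (n : ℕ) :
    o (algebraMap R K (π ^ n)) = n := by
  induction n with
  | zero =>
    rw [pow_zero]
    simpa using h.unit 1 isUnit_one
  | succ k ih =>
    rw [pow_succ, map_mul, h.mul _ _ (map_ne_zero (pow_ne_zero k hπ.ne_zero)) (map_ne_zero hπ.ne_zero),
      ih, h.irr π hπ]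
    push_cast
    ring

theorem unit_mul_pow (h : IsOrd R K o) {π : R} (hπ : Irreducible π) (u : Rˣ) (n : ℕ) :
    o (algebraMap R K ((u : R) * π ^ n)) = n := by
  rw [map_mul, h.mul _ _ (map_ne_zero u.ne_zero) (map_ne_zero (pow_ne_zero n hπ.ne_zero)),
    h.unit _ u.isUnit, h.pow hπ, zero_add]

/-- every nonzero element of `K` is `u π^m / π^n` -/
theorem exists_repr {π : R} (hπ : Irreducible π) (f : K) (hf : f ≠ 0) :
    ∃ (u : Rˣ) (m n : ℕ), f * algebraMap R K (π ^ n) = algebraMap R K ((u : R) * π ^ m) := by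
  obtain ⟨a, b, hb, rfl⟩ := IsFractionRing.div_surjective (A := R) f
  have hb0 : b ≠ 0 := nonZeroDivisors.ne_zero hb
  have ha0 : a ≠ 0 := by
    rintro rfl
    simp at hf
  obtain ⟨m, u, hu⟩ := IsDiscreteValuationRing.eq_unit_mul_pow_irreducible ha0 hπ
  obtain ⟨n, v, hv⟩ := IsDiscreteValuationRing.eq_unit_mul_pow_irreducible hb0 hπ
  refine ⟨u * v⁻¹, m, n, ?_⟩
  have hbK : algebraMap R K b ≠ 0 := map_ne_zero hb0
  rw [div_mul_eq_mul_div, div_eq_iff hbK, ← map_mul, ← map_mul, hu, hv]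
  congr 1
  push_cast
  have : (v : R) * ((v⁻¹ : Rˣ) : R) = 1 := by simp
  calc (u : R) * π ^ m * π ^ n = ((u : R) * π ^ m * π ^ n) * ((v : R) * ((v⁻¹ : Rˣ) : R)) := by
        rw [this, mul_one]
    _ = (u : R) * ((v⁻¹ : Rˣ) : R) * π ^ m * ((v : R) * π ^ n) := by ring

theorem eq_sub (h : IsOrd R K o) {π : R} (hπ : Irreducible π) {f : K} (hf : f ≠ 0) {u : Rˣ} {m n : ℕ}
    (hrep : f * algebraMap R K (π ^ n) = algebraMap R K ((u : R) * π ^ m)) : o f = (m : ℤ) - n := by
  have h1 := h.mul f _ hf (map_ne_zero (pow_ne_zero n hπ.ne_zero))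
  rw [hrep, h.unit_mul_pow hπ, h.pow hπ] at h1
  omega

theorem eq (h : IsOrd R K o) (h' : IsOrd R K o') (f : K) (hf : f ≠ 0) : o f = o' f := by
  obtain ⟨π, hπ⟩ := IsDiscreteValuationRing.exists_irreducible R
  obtain ⟨u, m, n, hrep⟩ := exists_repr hπ f hf
  rw [h.eq_sub hπ hf hrep, h'.eq_sub hπ hf hrep]

theorem nonneg_iff (h : IsOrd R K o) (f : K) (hf : f ≠ 0) :
    0 ≤ o f ↔ f ∈ Set.range (algebraMap R K) := by
  obtain ⟨π, hπ⟩ := IsDiscreteValuationRing.exists_irreducible R
  obtain ⟨u, m, n, hrep⟩ := exists_repr hπ f hf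
  rw [h.eq_sub hπ hf hrep]
  constructor
  · intro hmn
    have hnm : n ≤ m := by omega
    refine ⟨(u : R) * π ^ (m - n), ?_⟩
    have hne : algebraMap R K (π ^ n) ≠ 0 := map_ne_zero (pow_ne_zero n hπ.ne_zero)
    apply mul_right_cancel₀ hne
    rw [hrep, ← map_mul, mul_assoc, ← pow_add, Nat.sub_add_cancel hnm]
  · rintro ⟨a, rfl⟩
    have ha0 : a ≠ 0 := by
      rintro rfl
      simp at hf
    obtain ⟨k, v, hv⟩ := IsDiscreteValuationRing.eq_unit_mul_pow_irreducible ha0 hπ
    have h1 := h.eq_sub hπ hf hrep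
    have h2 : o (algebraMap R K a) = k := by
      rw [hv]
      exact h.unit_mul_pow hπ v k
    omega

end IsOrd

section Transport

variable {R' : Type u} [CommRing R'] {K' : Type u} [Field K'] [Algebra R' K']

/-- the prelude's order function of a ring isomorphic to `R`, with fraction field isomorphic to `K` -/
theorem isOrd_cycOrdFrac (q : R ≃+* R') (ρ : K →+* K') (hρ : Function.Surjective ρ)
    (hcomm : ∀ r, algebraMap R' K' (q r) = ρ (algebraMap R K r)) :
    IsOrd R K (fun α => CycAlg.ordFrac R' K' (ρ α)) := by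
  haveI : IsDomain R' := q.symm.injective.isDomain q.symm.toRingHom
  haveI : IsNoetherianRing R' := isNoetherianRing_of_ringEquiv R q
  haveI : IsPrincipalIdealRing R' := IsPrincipalIdealRing.of_surjective q.toRingHom q.surjective
  haveI : Ring.KrullDimLE 1 R' := by
    rw [Ring.krullDimLE_iff, ← ringKrullDim_eq_of_ringEquiv q]
    exact (Ring.krullDimLE_iff.1 (inferInstance : Ring.KrullDimLE 1 R))
  haveI : Nontrivial R' := inferInstance
  have hinj : Function.Injective (algebraMap R' K') := by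
    intro a b hab
    obtain ⟨a, rfl⟩ := q.surjective a
    obtain ⟨b, rfl⟩ := q.surjective b
    rw [hcomm, hcomm] at hab
    rw [IsFractionRing.injective R K (ρ.injective hab)]
  haveI : FaithfulSMul R' K' := (faithfulSMul_iff_algebraMap_injective R' K').2 hinj
  haveI hfr : IsFractionRing R' K' := by
    refine IsFractionRing.of_field R' K' (fun z => ?_)
    obtain ⟨w, rfl⟩ := hρ z
    obtain ⟨a, b, -, rfl⟩ := IsFractionRing.div_surjective (A := R) w
    exact ⟨q a, q b, by rw [hcomm, hcomm, map_div₀]⟩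
  have hcond : IsNoetherianRing R' ∧ Ring.KrullDimLE 1 R' ∧ Nontrivial R' ∧ IsFractionRing R' K' :=
    ⟨inferInstance, inferInstance, inferInstance, hfr⟩
  have hval : ∀ z : K', CycAlg.ordFrac R' K' z =
      WithZero.recZeroCoe (motive := fun _ => ℤ) 0 (fun z => Multiplicative.toAdd z) (Ring.ordFrac R' z) := by
    intro z
    unfold CycAlg.ordFrac
    rw [dif_pos hcond]
  have hne : ∀ z : K', z ≠ 0 → ∃ c : Multiplicative ℤ, Ring.ordFrac R' z = (c : WithZero (Multiplicative ℤ)) := by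
    intro z hz
    have : Ring.ordFrac R' z ≠ 0 := (_root_.map_ne_zero (Ring.ordFrac R' (K := K'))).2 hz
    exact ⟨WithZero.unzero this, (WithZero.coe_unzero this).symm⟩
  refine ⟨fun a b ha hb => ?_, fun u hu => ?_, fun π hπ => ?_⟩
  · have ha' : ρ a ≠ 0 := (_root_.map_ne_zero ρ).2 ha
    have hb' : ρ b ≠ 0 := (_root_.map_ne_zero ρ).2 hb
    obtain ⟨c, hc⟩ := hne _ ha'
    obtain ⟨d, hd⟩ := hne _ hb'
    change CycAlg.ordFrac R' K' (ρ (a * b)) = CycAlg.ordFrac R' K' (ρ a) + CycAlg.ordFrac R' K' (ρ b)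
    rw [hval, hval, hval, map_mul, map_mul, hc, hd, ← WithZero.coe_mul]
    simp only [WithZero.recZeroCoe_coe]
    exact toAdd_mul c d
  · change CycAlg.ordFrac R' K' (ρ (algebraMap R K u)) = 0
    rw [hval, ← hcomm, Ring.ordFrac_of_isUnit (hu.map q)]
    rfl
  · change CycAlg.ordFrac R' K' (ρ (algebraMap R K π)) = 1
    have hπ' : Irreducible (q π) := (MulEquiv.irreducible_iff q.toMulEquiv).2 hπ
    have hπ0 : q π ≠ 0 := hπ'.ne_zero
    rw [hval, ← hcomm, Ring.ordFrac_eq_ord R' hπ0,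
      Ring.ordMonoidWithZeroHom_eq_coe R' (mem_nonZeroDivisors_of_ne_zero hπ0)
        (n := 1) (by rw [Ring.ord_of_irreducible hπ']; rfl)]
    rfl

end Transport

end Groth.Agent.Lib.T2H4.Ref1Alg
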