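import Mathlib
import Groth.Agent.Lib.T2H4Ref1Alg
set_option backward.isDefEq.respectTransparency.types false

/-!
# More on order functions: inverses, integer powers and finite products (helper4)
-/

set_option autoImplicit false
set_option linter.style.haveILetI false
universe u

namespace Groth.Agent.Lib.T2H4.Ref1Alg

variable {R : Type u} [CommRing R] {K : Type u} [Field K] [Algebra R K]

namespace IsOrd

variable {o : K → ℤ}

theorem one (h : IsOrd R K o) : o 1 = 0 := by
  have := h.unit 1 isUnit_one
  rwa [map_one] at this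

theorem inv (h : IsOrd R K o) {a : K} (ha : a ≠ 0) : o a⁻¹ = - o a := by
  have h1 := h.mul a a⁻¹ ha (inv_ne_zero ha)
  rw [mul_inv_cancel₀ ha, h.one] at h1
  linarith

theorem npow (h : IsOrd R K o) {a : K} (ha : a ≠ 0) (n : ℕ) : o (a ^ n) = n * o a := by
  induction n with
  | zero => rw [pow_zero, h.one]; simp
  | succ k ih =>
    rw [pow_succ, h.mul _ _ (pow_ne_zero k ha) ha, ih]
    push_cast
    ring

theorem zpow (h : IsOrd R K o) {a : K} (ha : a ≠ 0) (n : ℤ) : o (a ^ n) = n * o a := by
  rcases n with n | n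
  · rw [Int.ofNat_eq_natCast, zpow_natCast, h.npow ha]
  · rw [zpow_negSucc, h.inv (pow_ne_zero _ ha), h.npow ha, Int.negSucc_eq]
    push_cast
    ring

theorem prod (h : IsOrd R K o) {ι : Type*} (s : Finset ι) (g : ι → K) (hg : ∀ i ∈ s, g i ≠ 0) :
    o (∏ i ∈ s, g i) = ∑ i ∈ s, o (g i) := by
  classical
  induction s using Finset.induction_on with
  | empty => rw [Finset.prod_empty, Finset.sum_empty, h.one]
  | insert a s ha ih =>
    have hg' : ∀ i ∈ s, g i ≠ 0 := fun i hi => hg i (Finset.mem_insert_of_mem hi)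
    rw [Finset.prod_insert ha, Finset.sum_insert ha,
      h.mul _ _ (hg a (Finset.mem_insert_self a s)) (Finset.prod_ne_zero_iff.2 hg'), ih hg']

end IsOrd

end Groth.Agent.Lib.T2H4.Ref1Alg
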