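import Mathlib
import Groth.Agent.Lib.T2H2LocFactSch
import Groth.Agent.Lib.T2H4Ref1Local
import Groth.Agent.Lib.T2H4OrdExtra
set_option backward.isDefEq.respectTransparency.types false

/-!
# On a locally factorial scheme every Weil divisor is principal near each point (helper4)
-/

set_option autoImplicit false
set_option linter.style.haveILetI false
universe u
open CategoryTheory AlgebraicGeometry TopologicalSpace

namespace Groth.Agent.Lib.T2H4.LocFactRat

open Groth.Agent.Lib.T2H2.LocFactSch Groth.Agent.Lib.T2H4.Ref1Local Groth.Agent.Lib.T2H4.Ref1Alg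

variable {X : Scheme.{u}} [IsIntegral X]

theorem algebraMap_stalkSpecializes {x₀ y : X} (hs : x₀ ⤳ y) (a : X.presheaf.stalk y) :
    algebraMap (X.presheaf.stalk x₀) X.functionField ((X.presheaf.stalkSpecializes hs).hom a) =
      algebraMap (X.presheaf.stalk y) X.functionField a := by
  rw [RingHom.algebraMap_toAlgebra, RingHom.algebraMap_toAlgebra, ← CommRingCat.comp_apply,
    TopCat.Presheaf.stalkSpecializes_comp]

omit [IsIntegral X] in
theorem map_primeOf {x₀ y : X} (hs : x₀ ⤳ y) :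
    (primeOf hs).map (X.presheaf.stalkSpecializes hs).hom =
      IsLocalRing.maximalIdeal (X.presheaf.stalk x₀) := by
  obtain ⟨U, hU, hy, -⟩ := exists_isAffineOpen_mem_and_subset (x := y) (U := ⊤) trivial
  have hx : x₀ ∈ U := hs.mem_open U.2 hy
  rw [primeOf_eq_map hs hU hy, Ideal.map_map]
  have h2 : (X.presheaf.stalkSpecializes hs).hom.comp (X.presheaf.germ U y hy).hom
      = (X.presheaf.germ U x₀ hx).hom := by
    rw [← CommRingCat.hom_comp, X.presheaf.germ_stalkSpecializes hy hs]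
  rw [h2]
  let _ := X.presheaf.algebra_section_stalk ⟨x₀, hx⟩
  have := hU.isLocalization_stalk ⟨x₀, hx⟩
  exact IsLocalization.AtPrime.map_eq_maximalIdeal (hU.primeIdealOf ⟨x₀, hx⟩).asIdeal
    (X.presheaf.stalk x₀)

omit [IsIntegral X] in
theorem primeOf_injective {x₀ x₁ y : X} (hs₀ : x₀ ⤳ y) (hs₁ : x₁ ⤳ y)
    (h : primeOf hs₀ = primeOf hs₁) : x₀ = x₁ := by
  obtain ⟨U, hU, hy, -⟩ := exists_isAffineOpen_mem_and_subset (x := y) (U := ⊤) trivial
  have h0 := comap_germ_primeOf hs₀ hU hy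
  have h1 := comap_germ_primeOf hs₁ hU hy
  rw [h] at h0
  have h3 : (hU.primeIdealOf ⟨x₀, hs₀.mem_open U.2 hy⟩).asIdeal =
      (hU.primeIdealOf ⟨x₁, hs₁.mem_open U.2 hy⟩).asIdeal := h0.symm.trans h1
  have h4 : hU.primeIdealOf ⟨x₀, hs₀.mem_open U.2 hy⟩ = hU.primeIdealOf ⟨x₁, hs₁.mem_open U.2 hy⟩ :=
    PrimeSpectrum.ext h3
  have h5 := congrArg hU.fromSpec h4
  rw [hU.fromSpec_primeIdealOf, hU.fromSpec_primeIdealOf] at h5
  exact h5

variable [IsLocallyNoetherian X]

theorem ord_gen_self (hX : Pi1.IsNormalScheme X) {x₀ y : X} (hx₀ : Order.coheight x₀ = 1)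
    (hs : x₀ ⤳ y) (π : X.presheaf.stalk y) (hπ : primeOf hs = Ideal.span {π}) :
    Scheme.ord (algebraMap (X.presheaf.stalk y) X.functionField π) x₀ = 1 := by
  haveI := isDVR hX x₀ hx₀
  have hmax := map_primeOf hs
  rw [hπ, Ideal.map_span, Set.image_singleton] at hmax
  have hirr : Irreducible ((X.presheaf.stalkSpecializes hs).hom π) :=
    (IsDiscreteValuationRing.irreducible_iff_uniformizer _).2 hmax.symm
  have := (isOrd_schemeOrd hX x₀ hx₀).irr _ hirr
  rwa [algebraMap_stalkSpecializes] at this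

theorem ord_gen_other (hX : Pi1.IsNormalScheme X) {x₀ x₁ y : X} (hx₀ : Order.coheight x₀ = 1)
    (hx₁ : Order.coheight x₁ = 1) (hs₀ : x₀ ⤳ y) (hs₁ : x₁ ⤳ y) (hne : x₁ ≠ x₀)
    (π : X.presheaf.stalk y) (hπ : primeOf hs₀ = Ideal.span {π}) :
    Scheme.ord (algebraMap (X.presheaf.stalk y) X.functionField π) x₁ = 0 := by
  haveI := isDVR hX x₁ hx₁
  have hunit : IsUnit ((X.presheaf.stalkSpecializes hs₁).hom π) := by
    by_contra hnu
    have hmem : π ∈ primeOf hs₁ := by
      change (X.presheaf.stalkSpecializes hs₁).hom π ∈ IsLocalRing.maximalIdeal _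
      rwa [IsLocalRing.mem_maximalIdeal, mem_nonunits_iff]
    have hle : primeOf hs₀ ≤ primeOf hs₁ := by
      rw [hπ, Ideal.span_singleton_le_iff_mem]
      exact hmem
    have hh₀ : (primeOf hs₀).height = 1 := by rw [height_primeOf hs₀, hx₀]
    have hh₁ : (primeOf hs₁).height = 1 := by rw [height_primeOf hs₁, hx₁]
    have heq : primeOf hs₀ = primeOf hs₁ := by
      by_contra hne'
      have hlt : primeOf hs₀ < primeOf hs₁ := lt_of_le_of_ne hle hne'
      have := Ideal.height_strict_mono_of_isPrime hlt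
      rw [hh₀, hh₁] at this
      exact lt_irrefl _ this
    exact hne (primeOf_injective hs₀ hs₁ heq).symm
  have := (isOrd_schemeOrd hX x₁ hx₁).unit _ hunit
  rwa [algebraMap_stalkSpecializes] at this

open Classical in
/-- **on a locally factorial scheme every Weil divisor is principal near each point** -/
theorem exists_ratFun (hX : Pi1.IsNormalScheme X)
    (hUFD : ∀ x : X, UniqueFactorizationMonoid (X.presheaf.stalk x))
    (D : AlgebraicCycle X ℤ) (hD : ∀ x : X, Order.coheight x ≠ 1 → D x = 0) (x : X) :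
    ∃ f : X.functionField, f ≠ 0 ∧
      ∀ y : X, Order.coheight y = 1 → y ⤳ x → Scheme.ord f y = D y := by
  -- the finite set of points of the support specializing to `x`
  obtain ⟨t, ht, hfin⟩ := D.supportLocallyFiniteWithinDomain' x (Set.mem_univ x)
  have hSfin : {y : X | D y ≠ 0 ∧ y ⤳ x}.Finite := by
    refine hfin.subset ?_
    rintro y ⟨hy, hyx⟩
    obtain ⟨V, hVt, hVopen, hxV⟩ := mem_nhds_iff.1 ht
    exact ⟨hVt (hyx.mem_open hVopen hxV), hy⟩
  set S : Finset X := hSfin.toFinset with hS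
  have hSmem : ∀ y, y ∈ S ↔ D y ≠ 0 ∧ y ⤳ x := fun y => hSfin.mem_toFinset
  have hco : ∀ y, D y ≠ 0 → Order.coheight y = 1 := fun y hy => by
    by_contra hne
    exact hy (hD y hne)
  -- generators of the primes
  have hgen : ∀ y : {y : X // Order.coheight y = 1 ∧ y ⤳ x}, ∃ π : X.presheaf.stalk x,
      primeOf y.2.2 = Ideal.span {π} ∧ algebraMap (X.presheaf.stalk x) X.functionField π ≠ 0 :=
    fun y => exists_gen_primeOf hUFD y.2.1 y.2.2
  choose π hπ hπ0 using hgen
  set g : X → X.functionField := fun y =>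
    if h : Order.coheight y = 1 ∧ y ⤳ x then algebraMap (X.presheaf.stalk x) X.functionField (π ⟨y, h⟩)
    else 1 with hg
  have hg0 : ∀ y, g y ≠ 0 := by
    intro y
    rw [hg]
    dsimp only
    split_ifs with h
    · exact hπ0 ⟨y, h⟩
    · exact one_ne_zero
  refine ⟨∏ y ∈ S, g y ^ D y, ?_, ?_⟩
  · exact Finset.prod_ne_zero_iff.2 fun y _ => zpow_ne_zero _ (hg0 y)
  · intro y' hy' hy'x
    haveI := isDVR hX y' hy'
    have hord := isOrd_schemeOrd hX y' hy'
    rw [hord.prod S (fun y => g y ^ D y) (fun y _ => zpow_ne_zero _ (hg0 y))]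
    have hterm : ∀ y ∈ S, Scheme.ord (g y ^ D y) y' = if y = y' then D y' else 0 := by
      intro y hyS
      obtain ⟨hDy, hyx⟩ := (hSmem y).1 hyS
      have hy1 := hco y hDy
      have hgy : g y = algebraMap (X.presheaf.stalk x) X.functionField (π ⟨y, ⟨hy1, hyx⟩⟩) := by
        rw [hg]
        dsimp only
        rw [dif_pos ⟨hy1, hyx⟩]
      rw [hord.zpow (hg0 y), hgy]
      by_cases hyy : y = y'
      · subst hyy
        rw [if_pos rfl, ord_gen_self hX hy1 hyx _ (hπ ⟨y, ⟨hy1, hyx⟩⟩), mul_one]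
      · rw [if_neg hyy, ord_gen_other hX hy1 hy' hyx hy'x (Ne.symm hyy) _ (hπ ⟨y, ⟨hy1, hyx⟩⟩),
          mul_zero]
    rw [Finset.sum_congr rfl hterm, Finset.sum_ite_eq' S y' (fun _ => D y')]
    split_ifs with hmem
    · rfl
    · by_contra hne
      exact hmem ((hSmem y').2 ⟨fun h0 => hne (by rw [h0]), hy'x⟩)

end Groth.Agent.Lib.T2H4.LocFactRat
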