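import Mathlib
import Groth.Agent.Lib.T2H4WeilDivSurj
set_option backward.isDefEq.respectTransparency.types false

/-!
# The rank one reflexive module of a Weil divisor is free at the points not meeting the divisor (helper4)
-/

set_option autoImplicit false
set_option linter.style.haveILetI false
universe u
open CategoryTheory CategoryTheory.Limits AlgebraicGeometry TopologicalSpace TensorProduct

namespace Groth.Agent.Lib.T2H4.WeilDivFree

open Groth.Agent.Lib.T2H4.DivIdeal Groth.Agent.Lib.T2H4.DivIdealMod Groth.Agent.Lib.T2H4.DualOrd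
  Groth.Agent.Lib.T2H4.Ref1Iso Groth.Agent.Lib.T2H4.StalkTensorMod Groth.Agent.Lib.T2H3.Reflexive
  Groth.Agent.Lib.T2H4.WeilDivSurj Groth.Agent.Lib.Helper23.UnitStalk Groth.Agent.Lib.T2H4.SecOrdAdd
  Groth.Agent.Lib.T2H3.HomShStalk Groth.Agent.Lib.T2H3.HomShQCoh

variable {X : Scheme.{u}}

/-- the dual of a coherent module with a free stalk of rank one has a free stalk of rank one -/
theorem exists_free_dual [IsLocallyNoetherian X] (F : X.Modules) (hF : Coh.IsCoh F) (x : X)
    (h : ∃ a : F.presheaf.stalk x, Function.Bijective (fun c : X.presheaf.stalk x => c • a)) :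
    ∃ c : (RefHull.dual F).presheaf.stalk x, Function.Bijective (fun r : X.presheaf.stalk x => r • c) := by
  obtain ⟨a, habij⟩ := h
  have ha : Submodule.span (X.presheaf.stalk x) {a} = ⊤ := span_eq_top_of_bijective_smul a habij
  have hFP := isFP_of_isCoh F hF
  obtain ⟨θ₀, hθ₀⟩ := exists_linearMap_of_bijective_smul
    (N := (Coh.structureModule X).presheaf.stalk x) a habij (one x)
  have hbijx := evalStalk_bijective F (Coh.structureModule X) hFP x
  obtain ⟨c, hc⟩ := hbijx.2 θ₀
  refine ⟨c, ?_, ?_⟩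
  · intro r r' hrr
    have h1 : r • c = r' • c := hrr
    have h2 := congrArg (fun θ => RefHull.evalStalk F (Coh.structureModule X) x θ a) h1
    simp only [map_smul, LinearMap.smul_apply, hc, hθ₀] at h2
    exact toUnitStalk_injective x h2
  · intro c'
    obtain ⟨r, hr⟩ := toUnitStalk_surjective x (RefHull.evalStalk F (Coh.structureModule X) x c' a)
    refine ⟨r, ?_⟩
    apply hbijx.1
    apply linearMap_ext_of_span a ha
    change RefHull.evalStalk F (Coh.structureModule X) x (r • c) a = _
    rw [map_smul, hc, LinearMap.smul_apply, hθ₀, ← hr]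
    rfl

/-- the tensor product of two modules with free stalks of rank one has a free stalk of rank one -/
theorem exists_free_tensorMod (F G : X.Modules) (x : X)
    (hF : ∃ a : F.presheaf.stalk x, Function.Bijective (fun c : X.presheaf.stalk x => c • a))
    (hG : ∃ b : G.presheaf.stalk x, Function.Bijective (fun c : X.presheaf.stalk x => c • b)) :
    ∃ c : (CohB1.tensorMod F G).presheaf.stalk x,
      Function.Bijective (fun r : X.presheaf.stalk x => r • c) := by
  obtain ⟨a, ha⟩ := hF
  obtain ⟨b, hb⟩ := hG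
  refine ⟨τ F G x (a ⊗ₜ b), ?_⟩
  have : (fun r : X.presheaf.stalk x => r • τ F G x (a ⊗ₜ b)) =
      (τ F G x) ∘ (fun r : X.presheaf.stalk x => r • (a ⊗ₜ[X.presheaf.stalk x] b)) := by
    funext r
    simp only [Function.comp_apply, map_smul]
  rw [this]
  exact (τ F G x).bijective.comp (bijective_smul_tmul a b ha hb)

/-- the ideal module `O(-E)` has a free stalk at the points to which no point of the support of `E` specializes -/
theorem exists_free_idealMod (E : X → ℕ) (hE : LocallyFiniteSupport E) (x : X)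
    (hx : ∀ y, E y ≠ 0 → ¬ y ⤳ x) :
    ∃ a : (ClSub.idealMod (divIdeal E hE)).presheaf.stalk x,
      Function.Bijective (fun c : X.presheaf.stalk x => c • a) := by
  have hEx : E x = 0 := by
    by_contra hne
    exact hx x hne specializes_rfl
  obtain ⟨a, ha⟩ := exists_ρ_eq E hE x (fun y hy hyx => absurd hyx (hx y hy)) 1
    (by rw [hEx, pow_zero, Ideal.one_eq_top]; trivial)
  refine ⟨a, ?_, ?_⟩
  · intro r r' hrr
    have h1 : r • a = r' • a := hrr
    have h2 := congrArg (ρ (divIdeal E hE) x) h1
    rwa [map_smul, map_smul, ha, smul_eq_mul, smul_eq_mul, mul_one, mul_one] at h2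
  · intro a'
    refine ⟨ρ (divIdeal E hE) x a', ?_⟩
    apply ρ_injective (divIdeal E hE) x
    change ρ (divIdeal E hE) x (ρ (divIdeal E hE) x a' • a) = _
    rw [map_smul, ha, smul_eq_mul, mul_one]

variable [IsIntegral X] [IsLocallyNoetherian X]

/-- **every Weil divisor is the divisor of a rational section of a rank one reflexive module, free away from the
divisor** -/
theorem main' (hX : Pi1.IsNormalScheme X) (D : AlgebraicCycle X ℤ)
    (hD : ∀ x : X, Order.coheight x ≠ 1 → D x = 0) :
    ∃ (F : X.Modules) (_ : RefHull.IsRef1 F) (s : Cyc.secFibre F (genericPoint X)), s ≠ 0 ∧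
      (∀ (x : X), Order.coheight x = 1 → ∀ h : genericPoint X ⤳ x,
        D x = Cyc.secOrdAt F (genericPoint X) x h s) ∧
      ∀ x : X, (∀ y, D y ≠ 0 → ¬ y ⤳ x) →
        ∃ c : F.presheaf.stalk x, Function.Bijective (fun r : X.presheaf.stalk x => r • c) := by
  set Ep : X → ℕ := fun x => (D x).toNat with hEp
  set En : X → ℕ := fun x => (-D x).toNat with hEn
  have hEpf := locallyFiniteSupport_toNat D
  have hEnf := locallyFiniteSupport_neg_toNat D
  have hEp0 : ∀ x, Order.coheight x ≠ 1 → Ep x = 0 := fun x hx => by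
    change (D x).toNat = 0
    rw [hD x hx]
    rfl
  have hEn0 : ∀ x, Order.coheight x ≠ 1 → En x = 0 := fun x hx => by
    change (-D x).toNat = 0
    rw [hD x hx]
    rfl
  have hIp := isCoh_idealMod (divIdeal Ep hEpf)
  have hIn := isCoh_idealMod (divIdeal En hEnf)
  have hIptf := isTorsionFree_idealMod (divIdeal Ep hEpf)
  have hIntf := isTorsionFree_idealMod (divIdeal En hEnf)
  have hIprk := finrank_generic Ep hEpf hEp0
  have hInrk := finrank_generic En hEnf hEn0
  obtain ⟨sp, hsp0, hsp⟩ := exists_section Ep hEpf hX hEp0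
  obtain ⟨sn, hsn0, hsn⟩ := exists_section En hEnf hX hEn0
  obtain ⟨tp, htp0, htp⟩ := dualOrd hX _ hIp hIptf hIprk sp hsp0
  have hB := isRef1_dual _ hIp hIprk
  obtain ⟨tn, htn0, htn⟩ := dualOrd hX _ hIn hIntf hInrk sn hsn0
  have hA' := isRef1_dual _ hIn hInrk
  obtain ⟨hA'tf, hA'rk⟩ := ref1_facts _ hA'
  obtain ⟨tn', htn'0, htn'⟩ := dualOrd hX _ hA'.1 hA'tf hA'rk tn htn0
  have hA := isRef1_dual _ hA'.1 hA'rk
  obtain ⟨w, hw0, hw⟩ := Groth.Agent.Lib.T2H4.SecOrdAddRef.main hX _ _ hB hA tp htp0 tn' htn'0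
  refine ⟨_, isRef1_ddual_tensorMod _ _ hB hA, w, hw0, ?_, ?_⟩
  · intro x hx h
    rw [hw x hx h, htp x hx h, hsp x hx h, htn' x hx h, htn x hx h, hsn x hx h]
    change D x = - -((D x).toNat : ℤ) + - - -((-D x).toNat : ℤ)
    omega
  · intro x hx
    have hxp : ∀ y, Ep y ≠ 0 → ¬ y ⤳ x := fun y hy => hx y (by
      intro h0
      apply hy
      change (D y).toNat = 0
      rw [h0]
      rfl)
    have hxn : ∀ y, En y ≠ 0 → ¬ y ⤳ x := fun y hy => hx y (by
      intro h0
      apply hy
      change (-D y).toNat = 0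
      rw [h0]
      rfl)
    have h1 := exists_free_dual _ hIp x (exists_free_idealMod Ep hEpf x hxp)
    have h2 := exists_free_dual _ hA'.1 x (exists_free_dual _ hIn x (exists_free_idealMod En hEnf x hxn))
    have h3 := exists_free_tensorMod _ _ x h1 h2
    haveI : (RefHull.dual (ClSub.idealMod (divIdeal Ep hEpf))).IsQuasicoherent := hB.1.1
    haveI : (RefHull.ddual (ClSub.idealMod (divIdeal En hEnf))).IsQuasicoherent := hA.1.1
    haveI : SheafOfModules.IsFiniteType (R := X.ringCatSheaf)
      (RefHull.dual (ClSub.idealMod (divIdeal Ep hEpf))) := hB.1.2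
    haveI : SheafOfModules.IsFiniteType (R := X.ringCatSheaf)
      (RefHull.ddual (ClSub.idealMod (divIdeal En hEnf))) := hA.1.2
    have hT0 : Coh.IsCoh (CohB1.tensorMod (RefHull.dual (ClSub.idealMod (divIdeal Ep hEpf)))
        (RefHull.ddual (ClSub.idealMod (divIdeal En hEnf)))) :=
      ⟨Groth.Agent.Lib.Helper23.TensorQCoh.isQuasicoherent_tensorMod _ _,
        Groth.Agent.Lib.Helper23.TensorQCoh.isFiniteType_tensorMod _ _⟩
    exact exists_free_dual _ (isCoh_dual _ hT0) x (exists_free_dual _ hT0 x h3)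

end Groth.Agent.Lib.T2H4.WeilDivFree
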