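import Mathlib
import Groth.Agent.Lib.T2H4LocFactRat
import Groth.Agent.Lib.T2H4WeilDivFree
import Groth.Agent.Lib.T2H4WeilDivFin
import Groth.Agent.Lib.T2H4InvRef1
set_option backward.isDefEq.respectTransparency.types false

/-!
# On a locally factorial scheme rank one reflexive modules are invertible (helper4)
-/

set_option autoImplicit false
set_option linter.style.haveILetI false
universe u
open CategoryTheory CategoryTheory.Limits AlgebraicGeometry TopologicalSpace

namespace Groth.Agent.Lib.T2H4.LocFactInv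

open Groth.Agent.Lib.T2H4.LocFactRat Groth.Agent.Lib.T2H4.Ref1Local Groth.Agent.Lib.T2H4.Ref1Alg
  Groth.Agent.Lib.T2H4.Ref1Iso Groth.Agent.Lib.T2H4.WeilDivFree Groth.Agent.Lib.T2H4.WeilDivFin
  Groth.Agent.Lib.T2H4.InvRef1 Groth.Agent.Lib.T2H4.SecOrdAdd Groth.Agent.Lib.Helper23.UnitStalk
  Groth.Agent.Lib.Helper2.RankLoc Groth.Agent.Lib.Helper2.LocFree

variable {X : Scheme.{u}} [IsIntegral X] [IsLocallyNoetherian X]

/-- the principal Weil divisor of a nonzero rational function -/
theorem exists_cycle_ratFun (hX : Pi1.IsNormalScheme X) (f : X.functionField) (hf : f ≠ 0) :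
    ∃ Df : AlgebraicCycle X ℤ, (∀ x : X, Order.coheight x ≠ 1 → Df x = 0) ∧
      ∀ x : X, Order.coheight x = 1 → Df x = Scheme.ord f x := by
  have hO : RefHull.IsRef1 (Coh.structureModule X) :=
    isRef1_of_isInvertible _ (Groth.Agent.Lib.Helper23.TensorUnit.isInvertible_structureModule X)
  have hne : (Submodule.Quotient.mk (f • one (genericPoint X)) :
      Cyc.secFibre (Coh.structureModule X) (genericPoint X)) ≠ 0 := by
    intro h0
    have h1 := mk_secFibre_injective _ (h0.trans (Submodule.Quotient.mk_zero _).symm)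
    rcases smul_eq_zero.1 h1 with h | h
    · exact hf h
    · exact one_ne_zero' (genericPoint X) h
  obtain ⟨Df, hDf0, hDf⟩ := exists_cycle hX _ hO _ hne
  refine ⟨Df, hDf0, fun x hx => ?_⟩
  rw [hDf x hx, ord_eq_ordAt hX x hx (genericPoint_specializes x) f hf]
  have ha : Submodule.span (X.presheaf.stalk x) {one x} = ⊤ :=
    span_eq_top_of_bijective_smul _ ⟨toUnitStalk_injective x, toUnitStalk_surjective x⟩
  have hsp := spec_one x (genericPoint_specializes x)
  have hsa : spec (Coh.structureModule X) x (genericPoint_specializes x) (one x) ≠ 0 := by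
    rw [hsp]
    exact one_ne_zero' _
  have := secOrdAt_eq' (Coh.structureModule X) x (genericPoint_specializes x) (one x) ha hsa f
  rw [hsp] at this
  exact this

/-- **on a locally factorial scheme the stalks of a rank one reflexive module are free of rank one** -/
theorem exists_free_stalk_of_ufd (hX : Pi1.IsNormalScheme X)
    (hUFD : ∀ x : X, UniqueFactorizationMonoid (X.presheaf.stalk x))
    (F : X.Modules) (hF : RefHull.IsRef1 F) (x : X) :
    ∃ c : F.presheaf.stalk x, Function.Bijective (fun r : X.presheaf.stalk x => r • c) := by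
  obtain ⟨hFtf, hFrk⟩ := ref1_facts F hF
  obtain ⟨s₀, hs₀, -⟩ := finrank_eq_one_iff'.1 hFrk
  have hs : (Submodule.Quotient.mk s₀ : Cyc.secFibre F (genericPoint X)) ≠ 0 := by
    intro h0
    exact hs₀ (mk_secFibre_injective _ (h0.trans (Submodule.Quotient.mk_zero _).symm))
  obtain ⟨D, hD0, hD⟩ := exists_cycle hX F hF _ hs
  obtain ⟨f, hf, hfD⟩ := exists_ratFun hX hUFD D hD0 x
  obtain ⟨Df, hDf0, hDf⟩ := exists_cycle_ratFun hX f hf
  have hD'0 : ∀ y : X, Order.coheight y ≠ 1 → (D - Df) y = 0 := fun y hy => by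
    rw [Function.locallyFinsuppWithin.coe_sub, Pi.sub_apply, hD0 y hy, hDf0 y hy, sub_zero]
  obtain ⟨G, hG, t, ht0, hGord, hGfree⟩ := main' hX (D - Df) hD'0
  obtain ⟨t₀, rfl⟩ := Submodule.Quotient.mk_surjective _ t
  have ht₀ : t₀ ≠ 0 := by
    rintro rfl
    exact ht0 (Submodule.Quotient.mk_zero _)
  obtain ⟨e⟩ := nonempty_iso_of_ord hX F G hF hG s₀ hs₀ t₀ ht₀ f hf (fun y hy => by
    rw [← hD y hy, ← hGord y hy (genericPoint_specializes y), Function.locallyFinsuppWithin.coe_sub,
      Pi.sub_apply, hDf y hy]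
    ring)
  obtain ⟨c, hc⟩ := hGfree x (fun y hy hyx => by
    apply hy
    have hy1 : Order.coheight y = 1 := by
      by_contra hne
      exact hy (hD'0 y hne)
    rw [Function.locallyFinsuppWithin.coe_sub, Pi.sub_apply, hDf y hy1, hfD y hy1 hyx, sub_self])
  refine ⟨RefHull.stalkMapₗ e.inv x c, ?_⟩
  have hbij : Function.Bijective (RefHull.stalkMapₗ e.inv x) := by
    refine Function.bijective_iff_has_inverse.2 ⟨RefHull.stalkMapₗ e.hom x, fun v => ?_, fun v => ?_⟩
    · rw [← stalkMapₗ_comp, e.inv_hom_id, stalkMapₗ_id]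
    · rw [← stalkMapₗ_comp, e.hom_inv_id, stalkMapₗ_id]
  have : (fun r : X.presheaf.stalk x => r • RefHull.stalkMapₗ e.inv x c) =
      (RefHull.stalkMapₗ e.inv x) ∘ (fun r : X.presheaf.stalk x => r • c) := by
    funext r
    simp only [Function.comp_apply, map_smul]
  rw [this]
  exact hbij.comp hc

omit [IsIntegral X] in
/-- a finitely presented module whose stalks are free of rank one is invertible -/
theorem isInvertible_of_free_stalks (F : X.Modules) (hF : Coh.IsCoh F)
    (h : ∀ x : X, ∃ c : F.presheaf.stalk x, Function.Bijective (fun r : X.presheaf.stalk x => r • c)) :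
    PicF.IsInvertible F := by
  haveI : F.IsQuasicoherent := hF.1
  haveI : SheafOfModules.IsFinitePresentation (R := X.ringCatSheaf) F :=
    Groth.Agent.Lib.T2H3.HomShQCoh.isFP_of_isCoh F hF
  intro x
  obtain ⟨c, hc⟩ := h x
  let ε : X.presheaf.stalk x ≃ₗ[X.presheaf.stalk x] F.presheaf.stalk x :=
    LinearEquiv.ofBijective (LinearMap.toSpanSingleton _ _ c) hc
  haveI : Module.Free (X.presheaf.stalk x) (F.presheaf.stalk x) := Module.Free.of_equiv ε
  have hrk : Module.finrank (X.presheaf.stalk x) (F.presheaf.stalk x) = 1 := by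
    rw [← ε.finrank_eq]
    exact Module.finrank_self _
  have hflat : FlatMod.IsFlatAt F x :=
    (inferInstance : Module.Flat (X.presheaf.stalk x) (F.presheaf.stalk x))
  obtain ⟨D, m, hxD, ⟨e⟩⟩ := exists_restrict_iso_freeMod_of_isFlatAt F x hflat
  have h1 := (fibreRank_eq_of_restrict_iso_freeMod D.ι F e ⟨x, hxD⟩).2
  have h2 : fibreRank F x = 1 :=
    (Module.finrank_baseChange
      (R := IsLocalRing.ResidueField (X.presheaf.stalk x))
      (S := X.presheaf.stalk x)
      (M' := F.presheaf.stalk x)).trans hrk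
  have hm : m = 1 := h1.symm.trans h2
  subst hm
  exact ⟨D, hxD, ⟨e ≪≫ Limits.coproductUniqueIso (fun _ : Fin 1 => Coh.structureModule (↑D : Scheme.{u}))⟩⟩

/-- **on a locally factorial scheme rank one reflexive modules are invertible** -/
theorem isInvertible_of_ufd (hX : Pi1.IsNormalScheme X)
    (hUFD : ∀ x : X, UniqueFactorizationMonoid (X.presheaf.stalk x))
    (F : X.Modules) (hF : RefHull.IsRef1 F) : PicF.IsInvertible F :=
  isInvertible_of_free_stalks F hF.1 (exists_free_stalk_of_ufd hX hUFD F hF)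

end Groth.Agent.Lib.T2H4.LocFactInv
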