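import Mathlib
import Groth.Agent.Lib.T2H4SecOrdAdd
import Groth.Agent.Lib.Helper20InvGen
set_option backward.isDefEq.respectTransparency.types false

/-!
# Additivity of the order of rational sections of invertible modules (helper4)
-/

set_option autoImplicit false
set_option linter.style.haveILetI false
universe u
open CategoryTheory AlgebraicGeometry TopologicalSpace TensorProduct

namespace Groth.Agent.Lib.T2H4.SecOrdAddInv

open Groth.Agent.Lib.T2H4.SecOrdAdd Groth.Agent.Lib.T2H4.Ref1Local Groth.Agent.Lib.T2H4.StalkTensorMod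
  Groth.Agent.Lib.Helper20.InvGen

variable {X : Scheme.{u}} [IsIntegral X]

/-- local data at a point for a rational section of an invertible module -/
theorem exists_data (L : X.Modules) (hL : PicF.IsInvertible L)
    (s₀ : L.presheaf.stalk (genericPoint X)) (hs₀ : s₀ ≠ 0) (x : X) (h : genericPoint X ⤳ x) :
    ∃ (a : L.presheaf.stalk x) (α : X.functionField),
      Submodule.span (X.presheaf.stalk x) {a} = ⊤ ∧
      Function.Bijective (fun c : X.presheaf.stalk (genericPoint X) => c • spec L x h a) ∧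
      s₀ = α • spec L x h a ∧ α ≠ 0 := by
  obtain ⟨W, t, hxW, ht⟩ := exists_local_generator L hL x
  have hηW : genericPoint X ∈ W := h.mem_open W.isOpen hxW
  have hsp : spec L x h (L.presheaf.germ W x hxW t) = L.presheaf.germ W (genericPoint X) hηW t :=
    TopCat.Presheaf.germ_stalkSpecializes_apply L.presheaf hxW h t
  have hbij := ht (genericPoint X) hηW
  obtain ⟨α, hα⟩ := hbij.2 s₀
  refine ⟨L.presheaf.germ W x hxW t, α, span_eq_top_of_bijective_smul _ (ht x hxW), ?_, ?_, ?_⟩
  · rw [hsp]; exact hbij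
  · rw [hsp]; exact hα.symm
  · rintro rfl
    apply hs₀
    rw [← hα]
    exact zero_smul _ _

theorem main (L N : X.Modules)
    (hL : PicF.IsInvertible L) (hN : PicF.IsInvertible N) (s : Cyc.secFibre L (genericPoint X)) (hs : s ≠ 0)
    (t : Cyc.secFibre N (genericPoint X)) (ht : t ≠ 0) :
    ∃ w : Cyc.secFibre (CohB1.tensorMod L N) (genericPoint X), w ≠ 0 ∧
      ∀ (x : X) (h : genericPoint X ⤳ x),
        Cyc.secOrdAt (CohB1.tensorMod L N) (genericPoint X) x h w =
          Cyc.secOrdAt L (genericPoint X) x h s + Cyc.secOrdAt N (genericPoint X) x h t := by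
  obtain ⟨s₀, rfl⟩ := Submodule.Quotient.mk_surjective _ s
  obtain ⟨t₀, rfl⟩ := Submodule.Quotient.mk_surjective _ t
  have hs₀ : s₀ ≠ 0 := by
    rintro rfl
    exact hs (Submodule.Quotient.mk_zero _)
  have ht₀ : t₀ ≠ 0 := by
    rintro rfl
    exact ht (Submodule.Quotient.mk_zero _)
  -- the common computation
  have key : ∀ (x : X) (h : genericPoint X ⤳ x), ∃ (a : L.presheaf.stalk x) (b : N.presheaf.stalk x)
      (α β : X.functionField),
      Submodule.span (X.presheaf.stalk x) {a} = ⊤ ∧ Submodule.span (X.presheaf.stalk x) {b} = ⊤ ∧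
      spec L x h a ≠ 0 ∧ spec N x h b ≠ 0 ∧ s₀ = α • spec L x h a ∧ t₀ = β • spec N x h b ∧
      α ≠ 0 ∧ β ≠ 0 ∧
      Submodule.span (X.presheaf.stalk x) {τ L N x (a ⊗ₜ b)} = ⊤ ∧
      spec (CohB1.tensorMod L N) x h (τ L N x (a ⊗ₜ b)) ≠ 0 ∧
      τ L N (genericPoint X) (s₀ ⊗ₜ t₀) =
        (α * β) • spec (CohB1.tensorMod L N) x h (τ L N x (a ⊗ₜ b)) := by
    intro x h
    obtain ⟨a, α, ha, hsa, hsα, hα⟩ := exists_data L hL s₀ hs₀ x h
    obtain ⟨b, β, hb, hsb, htβ, hβ⟩ := exists_data N hN t₀ ht₀ x h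
    have hspc : spec (CohB1.tensorMod L N) x h (τ L N x (a ⊗ₜ b)) =
        τ L N (genericPoint X) (spec L x h a ⊗ₜ spec N x h b) := stalkSpecializes_τ L N h a b
    refine ⟨a, b, α, β, ha, hb, ne_zero_of_bijective_smul _ hsa, ne_zero_of_bijective_smul _ hsb, hsα, htβ,
      hα, hβ, ?_, ?_, ?_⟩
    · have h1 := span_tmul_eq_top a b ha hb
      have h2 : Submodule.map (τ L N x).toLinearMap (Submodule.span (X.presheaf.stalk x) {a ⊗ₜ b}) = ⊤ := by
        rw [h1, Submodule.map_top, LinearEquiv.range]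
      rw [Submodule.map_span, Set.image_singleton] at h2
      exact h2
    · rw [hspc]
      have h1 := ne_zero_of_bijective_smul _ (bijective_smul_tmul _ _ hsa hsb)
      intro h0
      exact h1 ((τ L N (genericPoint X)).injective (h0.trans (map_zero _).symm))
    · rw [hspc, ← map_smul, hsα, htβ, TensorProduct.smul_tmul_smul]
  refine ⟨Submodule.Quotient.mk (τ L N (genericPoint X) (s₀ ⊗ₜ t₀)), ?_, ?_⟩
  · obtain ⟨a, b, α, β, -, -, -, -, -, -, hα, hβ, -, hc0, hw⟩ := key (genericPoint X) specializes_rfl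
    intro h0
    have h1 := mk_secFibre_injective (CohB1.tensorMod L N) (h0.trans (Submodule.Quotient.mk_zero _).symm)
    rw [hw] at h1
    rcases smul_eq_zero.1 h1 with h2 | h2
    · exact (mul_ne_zero hα hβ) h2
    · exact hc0 h2
  · intro x h
    obtain ⟨a, b, α, β, ha, hb, hsa, hsb, hsα, htβ, hα, hβ, hc, hc0, hw⟩ := key x h
    rw [hw, secOrdAt_eq' _ x h _ hc hc0, hsα, htβ, secOrdAt_eq' L x h a ha hsa, secOrdAt_eq' N x h b hb hsb,
      ordAt_mul x h α β hα hβ]

end Groth.Agent.Lib.T2H4.SecOrdAddInv
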