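import Mathlib
import Groth.Agent.Lib.T2H4RestrictStalk
import Groth.Agent.Lib.T2H4ExtDdual
import Groth.Agent.Lib.T2H4Ref1Local
import Groth.Agent.Lib.T2H4SecOrdAdd
import Groth.Agent.Lib.T2H4SecOrdAddInv
import Groth.Agent.Lib.Helper23Restr
set_option backward.isDefEq.respectTransparency.types false

/-!
# Orders of rational sections and restriction to an open subscheme (helper4)
-/

set_option autoImplicit false
set_option linter.style.haveILetI false
universe u
open CategoryTheory CategoryTheory.Limits AlgebraicGeometry TopologicalSpace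

namespace Groth.Agent.Lib.T2H4.RestrictOrd

open Groth.Agent.Lib.T2H4.RestrictStalk Groth.Agent.Lib.T2H4.HomShGlobal Groth.Agent.Lib.T2H4.ExtDdual
  Groth.Agent.Lib.T2H4.Ref1Local Groth.Agent.Lib.T2H4.Ref1Alg Groth.Agent.Lib.T2H4.SecOrdAdd

theorem isIso_stalkSpecializes_of_eq {C : Type*} [Category C] [HasColimits C]
    {T : TopCat} (F : TopCat.Presheaf C T) {x x' : T} (h : x ⤳ x') (e : x = x') :
    IsIso (F.stalkSpecializes h) := by
  subst e
  have : F.stalkSpecializes h = 𝟙 _ := TopCat.Presheaf.stalkSpecializes_refl F x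
  rw [this]
  infer_instance

variable {X : Scheme.{u}} [IsIntegral X] (U : X.Opens) [Nonempty U]

theorem ι_genericPoint : U.ι (genericPoint ↑U) = genericPoint X :=
  genericPoint_eq_of_isOpenImmersion U.ι

/-- the comparison of generic stalks -/
noncomputable def gσ (M : X.Modules) :
    (M.restrict U.ι).presheaf.stalk (genericPoint ↑U) → M.presheaf.stalk (genericPoint X) :=
  fun m => (M.presheaf.stalkSpecializes (genericPoint_specializes (U.ι (genericPoint ↑U)))).hom
    ((σ U M (genericPoint ↑U)).hom m)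

/-- the comparison of function fields -/
noncomputable def gτ : (↑U : Scheme.{u}).functionField →+* X.functionField :=
  (X.presheaf.stalkSpecializes (genericPoint_specializes (U.ι (genericPoint ↑U)))).hom.comp
    (τ U (genericPoint ↑U)).hom.hom

theorem gσ_bijective (M : X.Modules) : Function.Bijective (gσ U M) := by
  haveI := isIso_stalkSpecializes_of_eq M.presheaf
    (genericPoint_specializes (U.ι (genericPoint ↑U))) (ι_genericPoint U).symm
  exact (ConcreteCategory.bijective_of_isIso
      (M.presheaf.stalkSpecializes (genericPoint_specializes (U.ι (genericPoint ↑U))))).comp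
    (ConcreteCategory.bijective_of_isIso (σ U M (genericPoint ↑U)).hom)

theorem gτ_bijective : Function.Bijective (gτ U) := by
  haveI := isIso_stalkSpecializes_of_eq X.presheaf
    (genericPoint_specializes (U.ι (genericPoint ↑U))) (ι_genericPoint U).symm
  exact (ConcreteCategory.bijective_of_isIso
      (X.presheaf.stalkSpecializes (genericPoint_specializes (U.ι (genericPoint ↑U))))).comp
    (ConcreteCategory.bijective_of_isIso (τ U (genericPoint ↑U)).hom)

theorem gσ_smul (M : X.Modules) (α : (↑U : Scheme.{u}).functionField)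
    (m : (M.restrict U.ι).presheaf.stalk (genericPoint ↑U)) :
    gσ U M (α • m) = gτ U α • gσ U M m := by
  unfold gσ
  rw [σ_smul, stalkSpecializes_smul]
  rfl

theorem gσ_zero (M : X.Modules) : gσ U M 0 = 0 := by
  unfold gσ
  rw [map_zero, map_zero]

theorem gσ_spec (M : X.Modules) (y : U) (h : genericPoint ↑U ⤳ y) (h' : genericPoint X ⤳ U.ι y)
    (m : (M.restrict U.ι).presheaf.stalk y) :
    gσ U M (((M.restrict U.ι).presheaf.stalkSpecializes h).hom m) =
      (M.presheaf.stalkSpecializes h').hom ((σ U M y).hom m) := by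
  unfold gσ
  rw [σ_spec U M h (h.map U.ι.continuous), ← ConcreteCategory.comp_apply,
    TopCat.Presheaf.stalkSpecializes_comp]

theorem gτ_algebraMap (y : U) (r : (↑U : Scheme.{u}).presheaf.stalk y) :
    gτ U (algebraMap ((↑U : Scheme.{u}).presheaf.stalk y) (↑U : Scheme.{u}).functionField r) =
      algebraMap (X.presheaf.stalk (U.ι y)) X.functionField ((τ U y).hom r) := by
  unfold gτ
  rw [RingHom.algebraMap_toAlgebra, RingHom.algebraMap_toAlgebra, RingHom.comp_apply]
  have hs : genericPoint ↑U ⤳ y := genericPoint_specializes (α := (↑U : Scheme.{u})) y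
  have := τ_spec U hs (hs.map U.ι.continuous) r
  change (X.presheaf.stalkSpecializes _).hom ((τ U (genericPoint ↑U)).hom
    (((↑U : Scheme.{u}).presheaf.stalkSpecializes _).hom r)) = _
  rw [this, ← CommRingCat.comp_apply, TopCat.Presheaf.stalkSpecializes_comp]

omit [IsIntegral X] [Nonempty U] in
theorem coheight_ι (y : U) :
    Order.coheight (U.ι y) = Order.coheight (α := (↑U : Scheme.{u})) y := by
  have h1 := ringKrullDim_stalk_eq_coheight (X := X) (U.ι y)
  have h2 := ringKrullDim_stalk_eq_coheight (X := (↑U : Scheme.{u})) y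
  have h3 := ringKrullDim_eq_of_ringEquiv (τ U y).commRingCatIsoToRingEquiv
  rw [h1, h2] at h3
  exact (WithBot.coe_injective h3).symm

omit [IsIntegral X] [Nonempty U] in
theorem isNormalScheme_restrict (hX : Pi1.IsNormalScheme X) : Pi1.IsNormalScheme (↑U : Scheme.{u}) := by
  intro y
  obtain ⟨h1, h2⟩ := hX (U.ι y)
  let e : (↑U : Scheme.{u}).presheaf.stalk y ≃+* X.presheaf.stalk (U.ι y) :=
    (τ U y).commRingCatIsoToRingEquiv
  haveI : IsDomain ((↑U : Scheme.{u}).presheaf.stalk y) := e.toMulEquiv.isDomain _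
  exact ⟨inferInstance, IsIntegrallyClosed.of_equiv e.symm⟩

variable [IsLocallyNoetherian X]

/-- **orders of rational functions are compatible with restriction to an open subscheme** -/
theorem ordAt_restrict (hX : Pi1.IsNormalScheme X) (y : U)
    (hy : Order.coheight (α := (↑U : Scheme.{u})) y = 1)
    (h : genericPoint ↑U ⤳ y) (h' : genericPoint X ⤳ U.ι y)
    (α : (↑U : Scheme.{u}).functionField) (hα : α ≠ 0) :
    Cyc.ordAt (X := (↑U : Scheme.{u})) y (genericPoint ↑U) h
        ((↑U : Scheme.{u}).residue (genericPoint ↑U) α) =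
      Cyc.ordAt (U.ι y) (genericPoint X) h' (X.residue (genericPoint X) (gτ U α)) := by
  have hU := isNormalScheme_restrict U hX
  have hy' : Order.coheight (U.ι y) = 1 := by rw [coheight_ι, hy]
  haveI := isDVR hU y hy
  haveI := isDVR hX (U.ι y) hy'
  have ho₁ := isOrd_cycOrd hU y hy h
  have hoX := isOrd_cycOrd hX (U.ι y) hy' h'
  have hinj := (gτ_bijective U).1
  have ho₂ : IsOrd ((↑U : Scheme.{u}).presheaf.stalk y) (↑U : Scheme.{u}).functionField
      (fun α => Cyc.ordAt (U.ι y) (genericPoint X) h' (X.residue (genericPoint X) (gτ U α))) := by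
    refine ⟨fun a b ha hb => ?_, fun u hu => ?_, fun π hπ => ?_⟩
    · change Cyc.ordAt _ _ _ (X.residue (genericPoint X) (gτ U (a * b))) = _
      rw [map_mul]
      exact ordAt_mul (U.ι y) h' _ _ ((map_ne_zero_iff _ hinj).2 ha) ((map_ne_zero_iff _ hinj).2 hb)
    · change Cyc.ordAt _ _ _ (X.residue (genericPoint X) (gτ U (algebraMap _ _ u))) = _
      rw [gτ_algebraMap]
      exact hoX.unit _ (hu.map (τ U y).hom.hom)
    · change Cyc.ordAt _ _ _ (X.residue (genericPoint X) (gτ U (algebraMap _ _ π))) = _
      rw [gτ_algebraMap]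
      refine hoX.irr _ ?_
      exact (MulEquiv.irreducible_iff (τ U y).commRingCatIsoToRingEquiv).2 hπ
  exact ho₁.eq ho₂ α hα

/-- **orders of rational sections of an invertible module are compatible with restriction to an open subscheme** -/
theorem secOrdAt_restrict (hX : Pi1.IsNormalScheme X) (L : X.Modules) (hL : PicF.IsInvertible L) (y : U)
    (hy : Order.coheight (α := (↑U : Scheme.{u})) y = 1)
    (h : genericPoint ↑U ⤳ y) (h' : genericPoint X ⤳ U.ι y)
    (s₀ : (L.restrict U.ι).presheaf.stalk (genericPoint ↑U)) (hs₀ : s₀ ≠ 0) :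
    Cyc.secOrdAt (L.restrict U.ι) (genericPoint ↑U) y h
        (Submodule.Quotient.mk s₀ : Cyc.secFibre (L.restrict U.ι) (genericPoint ↑U)) =
      Cyc.secOrdAt L (genericPoint X) (U.ι y) h'
        (Submodule.Quotient.mk (gσ U L s₀) : Cyc.secFibre L (genericPoint X)) := by
  have hLU := Groth.Agent.Lib.Helper23.SecTw.isInvertible_restrict L hL U
  obtain ⟨a, α, ha, hab, hs, hα0⟩ :=
    Groth.Agent.Lib.T2H4.SecOrdAddInv.exists_data (X := (↑U : Scheme.{u})) (L.restrict U.ι) hLU s₀ hs₀ y h
  have hsa : spec (X := (↑U : Scheme.{u})) (L.restrict U.ι) y h a ≠ 0 := ne_zero_of_bijective_smul _ hab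
  rw [hs, secOrdAt_eq' (X := (↑U : Scheme.{u})) (L.restrict U.ι) y h a ha hsa α]
  set a' := (σ U L y).hom a with ha'def
  have ha' : Submodule.span (X.presheaf.stalk (U.ι y)) {a'} = ⊤ := by
    rw [eq_top_iff]
    intro m' _
    obtain ⟨m, rfl⟩ := (ConcreteCategory.bijective_of_isIso (σ U L y).hom).2 m'
    have hm : m ∈ Submodule.span ((↑U : Scheme.{u}).presheaf.stalk y) {a} := by rw [ha]; trivial
    obtain ⟨r, rfl⟩ := Submodule.mem_span_singleton.1 hm
    rw [σ_smul]
    exact Submodule.smul_mem _ _ (Submodule.mem_span_singleton_self _)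
  have hSig : gσ U L (α • spec (X := (↑U : Scheme.{u})) (L.restrict U.ι) y h a) =
      gτ U α • spec L (U.ι y) h' a' := by
    rw [gσ_smul]
    congr 1
    exact gσ_spec U L y h h' a
  have hsa' : spec L (U.ι y) h' a' ≠ 0 := by
    intro h0
    have h1 : gσ U L (spec (X := (↑U : Scheme.{u})) (L.restrict U.ι) y h a) = gσ U L 0 := by
      rw [gσ_zero]
      exact (gσ_spec U L y h h' a).trans h0
    exact hsa ((gσ_bijective U L).1 h1)
  rw [hSig, secOrdAt_eq' L (U.ι y) h' a' ha' hsa' (gτ U α)]
  exact ordAt_restrict U hX y hy h h' α hα0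

end Groth.Agent.Lib.T2H4.RestrictOrd
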