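import Mathlib
import Groth.Agent.Lib.T2H4RestrictOrd
import Groth.Agent.Lib.T2H4LocFactInv
import Groth.Agent.Lib.T2H4WeilDivSurj
import Groth.Agent.Lib.T2H4WeilDivFin
import Groth.Agent.Lib.T2H4Ref1Iso
import Groth.Agent.Lib.T2H4InvRef1
set_option backward.isDefEq.respectTransparency.types false

/-!
# On a locally factorial Noetherian integral scheme invertible modules on opens extend (helper4)
-/

set_option autoImplicit false
set_option linter.style.haveILetI false
universe u
open CategoryTheory CategoryTheory.Limits AlgebraicGeometry TopologicalSpace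

namespace Groth.Agent.Lib.T2H4.PicExtReg

open Groth.Agent.Lib.T2H4.RestrictStalk Groth.Agent.Lib.T2H4.RestrictOrd Groth.Agent.Lib.T2H4.Ref1Local
  Groth.Agent.Lib.T2H4.Ref1Alg Groth.Agent.Lib.T2H4.Ref1Iso Groth.Agent.Lib.T2H4.InvRef1
  Groth.Agent.Lib.T2H4.WeilDivFin Groth.Agent.Lib.T2H4.LocFactInv

theorem isZero_of_isEmpty {Y : Scheme.{u}} [IsEmpty Y] (M : Y.Modules) : IsZero M := by
  rw [IsZero.iff_id_eq_zero]
  ext U x
  have hU : U = ⊥ := by
    ext y
    exact isEmptyElim y
  have ht : IsTerminal (M.presheaf.obj (Opposite.op U)) :=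
    TopCat.Sheaf.isTerminalOfEqEmpty ⟨M.presheaf, M.isSheaf⟩ hU
  have hz : IsZero (M.presheaf.obj (Opposite.op U)) := IsZero.of_iso (isZero_zero _)
    (ht.uniqueUpToIso (isZero_zero Ab).isTerminal)
  haveI : Subsingleton (M.presheaf.obj (Opposite.op U)) :=
    AddCommGrpCat.subsingleton_of_isZero hz
  exact Subsingleton.elim (α := (M.presheaf.obj (Opposite.op U))) _ _

variable {X : Scheme.{u}} [IsIntegral X] [IsNoetherian X]

/-- **extension of invertible modules from an open subscheme of a locally factorial scheme** -/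
theorem main (hX : Pi1.IsNormalScheme X)
    (hUFD : ∀ x : X, UniqueFactorizationMonoid (X.presheaf.stalk x)) (U : X.Opens)
    (M : (↑U : Scheme.{u}).Modules) (hM : PicF.IsInvertible M) :
    ∃ L : X.Modules, PicF.IsInvertible L ∧ Nonempty (L.restrict U.ι ≅ M) := by
  by_cases hne : Nonempty U
  · haveI := hne
    have hU := isNormalScheme_restrict U hX
    have hMref : RefHull.IsRef1 M := isRef1_of_isInvertible (X := (↑U : Scheme.{u})) M hM
    obtain ⟨-, hMrk⟩ := ref1_facts (X := (↑U : Scheme.{u})) M hMref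
    obtain ⟨t₀, ht₀, -⟩ := finrank_eq_one_iff'.1 hMrk
    have ht : (Submodule.Quotient.mk t₀ : Cyc.secFibre M (genericPoint ↑U)) ≠ 0 := by
      intro h0
      exact ht₀ (mk_secFibre_injective (X := (↑U : Scheme.{u})) _
        (h0.trans (Submodule.Quotient.mk_zero _).symm))
    obtain ⟨DU, hDU0, hDU⟩ := exists_cycle (X := (↑U : Scheme.{u})) hU M hMref _ ht
    -- the cycle on `X`
    haveI : NoetherianSpace (↑U : Scheme.{u}) := NoetherianSpace.set (U : Set X)
    have hfinU : (Function.support DU).Finite := by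
      have := (Function.locallyFinsupp.locallyFiniteSupport DU).finite_inter_support_of_isCompact
        (W := Set.univ) ((TopologicalSpace.NoetherianSpace.isCompact (Set.univ : Set (↑U : Scheme.{u}))))
      rwa [Set.univ_inter] at this
    classical
    let Dfun : X → ℤ := fun x => if hx : x ∈ U then DU ⟨x, hx⟩ else 0
    have hDfun : ∀ y : U, Dfun (U.ι y) = DU y := fun y => by
      have hy : U.ι y ∈ U := y.2
      change (if hx : U.ι y ∈ U then DU ⟨U.ι y, hx⟩ else 0) = DU y
      rw [dif_pos hy]
      rfl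
    have hsupp : Function.support Dfun ⊆ U.ι '' Function.support DU := by
      intro x hx
      have hxU : x ∈ U := by
        by_contra hn
        apply hx
        change (if hx : x ∈ U then DU ⟨x, hx⟩ else 0) = 0
        rw [dif_neg hn]
      refine ⟨⟨x, hxU⟩, ?_, rfl⟩
      intro h0
      apply hx
      rw [← h0]
      exact hDfun ⟨x, hxU⟩
    let D : AlgebraicCycle X ℤ :=
      { toFun := Dfun
        supportWithinDomain' := fun _ _ => Set.mem_univ _
        supportLocallyFiniteWithinDomain' := fun z _ =>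
          ⟨Set.univ, Filter.univ_mem, ((hfinU.image _).subset hsupp).subset Set.inter_subset_right⟩ }
    have hD0 : ∀ x : X, Order.coheight x ≠ 1 → D x = 0 := by
      intro x hx
      by_cases hxU : x ∈ U
      · have h1 : D x = DU ⟨x, hxU⟩ := hDfun ⟨x, hxU⟩
        rw [h1]
        apply hDU0
        rw [← coheight_ι U ⟨x, hxU⟩]
        exact hx
      · change (if hx : x ∈ U then DU ⟨x, hx⟩ else 0) = 0
        rw [dif_neg hxU]
    obtain ⟨F, hF, s, hs, hord⟩ := Groth.Agent.Lib.T2H4.WeilDivSurj.main hX D hD0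
    have hL := isInvertible_of_ufd hX hUFD F hF
    obtain ⟨s₁, rfl⟩ := Submodule.Quotient.mk_surjective _ s
    have hs₁ : s₁ ≠ 0 := by
      rintro rfl
      exact hs (Submodule.Quotient.mk_zero _)
    obtain ⟨s₀, hs₀eq⟩ := (gσ_bijective U F).2 s₁
    have hs₀ : s₀ ≠ 0 := by
      rintro rfl
      exact hs₁ (by rw [← hs₀eq, gσ_zero])
    have hLU := Groth.Agent.Lib.Helper23.SecTw.isInvertible_restrict F hL U
    have hLUref : RefHull.IsRef1 (F.restrict U.ι) :=
      isRef1_of_isInvertible (X := (↑U : Scheme.{u})) _ hLU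
    refine ⟨F, hL, ?_⟩
    refine nonempty_iso_of_ord (X := (↑U : Scheme.{u})) hU (F.restrict U.ι) M hLUref hMref s₀ hs₀ t₀ ht₀
      1 one_ne_zero (fun y hy => ?_)
    have hy' : Order.coheight (U.ι y) = 1 := by rw [coheight_ι, hy]
    haveI := isDVR hU y hy
    rw [secOrdAt_restrict U hX F hL y hy (genericPoint_specializes (α := (↑U : Scheme.{u})) y)
      (genericPoint_specializes (U.ι y)) s₀ hs₀, hs₀eq, ← hord (U.ι y) hy', ← hDU y hy,
      (isOrd_schemeOrd hU y hy).one, add_zero]
    exact hDfun y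
  · haveI : IsEmpty (↑U : Scheme.{u}) := not_nonempty_iff.1 hne
    exact ⟨Coh.structureModule X, Groth.Agent.Lib.Helper23.TensorUnit.isInvertible_structureModule X,
      ⟨(isZero_of_isEmpty _).iso (isZero_of_isEmpty _)⟩⟩

end Groth.Agent.Lib.T2H4.PicExtReg
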