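import Mathlib
import Groth.Agent.Lib.T2H4LocFactRat
set_option backward.isDefEq.respectTransparency.types false

/-!
# Nonunits of local rings of a normal scheme have positive order along some prime divisor (helper4)
-/

set_option autoImplicit false
set_option linter.style.haveILetI false
universe u
open CategoryTheory AlgebraicGeometry TopologicalSpace

namespace Groth.Agent.Lib.T2H4.PrimeCyc

open Groth.Agent.Lib.T2H2.LocFactSch Groth.Agent.Lib.T2H4.Ref1Local Groth.Agent.Lib.T2H4.Ref1Alg
  Groth.Agent.Lib.T2H4.LocFactRat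

variable {X : Scheme.{u}} [IsIntegral X] [IsLocallyNoetherian X]

/-- a nonzero nonunit of a local ring lies in the prime of a point of codimension one (Krull) -/
theorem exists_coheight_one_of_not_isUnit (x : X) (γ : X.presheaf.stalk x) (hγ0 : γ ≠ 0)
    (hγ : ¬ IsUnit γ) :
    ∃ z : X, Order.coheight z = 1 ∧ ∃ h : z ⤳ x, γ ∈ primeOf h := by
  have hle : Ideal.span {γ} ≤ IsLocalRing.maximalIdeal (X.presheaf.stalk x) := by
    rw [Ideal.span_singleton_le_iff_mem, IsLocalRing.mem_maximalIdeal, mem_nonunits_iff]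
    exact hγ
  obtain ⟨p, hpmin, -⟩ := Ideal.exists_minimalPrimes_le hle
  haveI : p.IsPrime := hpmin.isPrime
  have hpn : p ≠ ⊥ := fun hpb => hγ0 <|
    Ideal.span_singleton_eq_bot.mp <| bot_unique (hpmin.1.2.trans_eq hpb)
  have hh : p.height = 1 := le_antisymm
    (Ideal.height_le_one_of_isPrincipal_of_mem_minimalPrimes _ p hpmin)
    (by simpa [Order.one_le_iff_ne_zero])
  obtain ⟨z, hs, rfl⟩ := exists_primeOf_eq x p
  refine ⟨z, ?_, hs, hpmin.1.2 (Ideal.mem_span_singleton_self γ)⟩
  rw [← height_primeOf hs, hh]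

theorem ord_pos_of_mem_primeOf (hX : Pi1.IsNormalScheme X) {z x : X} (hz : Order.coheight z = 1)
    (h : z ⤳ x) (γ : X.presheaf.stalk x) (hγ0 : γ ≠ 0) (hmem : γ ∈ primeOf h) :
    0 < Scheme.ord (algebraMap (X.presheaf.stalk x) X.functionField γ) z := by
  haveI := isDVR hX z hz
  have hord := isOrd_schemeOrd hX z hz
  set a := (X.presheaf.stalkSpecializes h).hom γ with ha
  have haK : algebraMap (X.presheaf.stalk z) X.functionField a =
      algebraMap (X.presheaf.stalk x) X.functionField γ := algebraMap_stalkSpecializes h γ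
  have ha0 : a ≠ 0 := by
    intro h0
    rw [h0, map_zero] at haK
    exact hγ0 ((map_eq_zero_iff _ (IsFractionRing.injective (X.presheaf.stalk x) X.functionField)).1 haK.symm)
  have hanu : ¬ IsUnit a := by
    have : a ∈ IsLocalRing.maximalIdeal (X.presheaf.stalk z) := hmem
    rwa [IsLocalRing.mem_maximalIdeal, mem_nonunits_iff] at this
  obtain ⟨π, hπ⟩ := IsDiscreteValuationRing.exists_irreducible (X.presheaf.stalk z)
  obtain ⟨n, u, hn⟩ := IsDiscreteValuationRing.eq_unit_mul_pow_irreducible ha0 hπ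
  have hn0 : n ≠ 0 := by
    rintro rfl
    rw [pow_zero, mul_one] at hn
    exact hanu (hn ▸ u.isUnit)
  rw [← haK, hn, hord.unit_mul_pow hπ u n]
  exact_mod_cast Nat.pos_of_ne_zero hn0

/-- an element of a local ring with order zero along all prime divisors through the point is a unit -/
theorem isUnit_of_ord_eq_zero (hX : Pi1.IsNormalScheme X) (x : X) (γ : X.presheaf.stalk x) (hγ0 : γ ≠ 0)
    (h : ∀ z : X, Order.coheight z = 1 → z ⤳ x →
      Scheme.ord (algebraMap (X.presheaf.stalk x) X.functionField γ) z = 0) : IsUnit γ := by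
  by_contra hnu
  obtain ⟨z, hz, hs, hmem⟩ := exists_coheight_one_of_not_isUnit x γ hγ0 hnu
  have := ord_pos_of_mem_primeOf hX hz hs γ hγ0 hmem
  rw [h z hz hs] at this
  exact lt_irrefl _ this

end Groth.Agent.Lib.T2H4.PrimeCyc
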