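import Mathlib
import Groth.Agent.Lib.T2H4PrimeCyc
import Groth.Agent.Lib.T2H4DivIdealMod
import Groth.Agent.Lib.T2H4InvRef1
import Groth.Agent.Lib.T2H4WeilDivFin
import Groth.Agent.Lib.T2H4PicExtReg
set_option backward.isDefEq.respectTransparency.types false

/-!
# Equivalent forms of "locally factorial with trivial Picard group" (helper4)
-/

set_option autoImplicit false
set_option linter.style.haveILetI false
universe u
open CategoryTheory AlgebraicGeometry TopologicalSpace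

namespace Groth.Agent.Lib.T2H4.LocFactTFAE

open Groth.Agent.Lib.T2H2.LocFactSch Groth.Agent.Lib.T2H4.Ref1Local Groth.Agent.Lib.T2H4.Ref1Alg
  Groth.Agent.Lib.T2H4.LocFactRat Groth.Agent.Lib.T2H4.PrimeCyc

variable {X : Scheme.{u}} [IsIntegral X] [IsLocallyNoetherian X]

omit [IsLocallyNoetherian X] in
theorem algebraMap_germ {W : X.Opens} (x : X) (hx : x ∈ W) (g : Γ(X, W)) :
    algebraMap (X.presheaf.stalk x) X.functionField (X.presheaf.germ W x hx g) =
      X.presheaf.germ W (genericPoint X) ((genericPoint_specializes x).mem_open W.isOpen hx) g := by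
  rw [RingHom.algebraMap_toAlgebra]
  exact TopCat.Presheaf.germ_stalkSpecializes_apply X.presheaf hx _ g

/-- (1) ⟹ (2) -/
theorem two_of_one
    (h1 : ∀ ζ : X, Order.coheight ζ = 1 → ∃ g : Γ(X, ⊤),
      (∀ (x : X) (h : ζ ⤳ x),
        (IsLocalRing.maximalIdeal (X.presheaf.stalk ζ)).comap (X.presheaf.stalkSpecializes h).hom =
          Ideal.span {X.presheaf.germ ⊤ x trivial g}) ∧
      ∀ x : X, ¬ ζ ⤳ x → IsUnit (X.presheaf.germ ⊤ x trivial g)) :
    Pi1.IsNormalScheme X ∧ ∀ x₀ : X, Order.coheight x₀ = 1 → ∃ f : X.functionField, f ≠ 0 ∧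
      Scheme.ord f x₀ = 1 ∧ ∀ x : X, x ≠ x₀ → Order.coheight x = 1 → Scheme.ord f x = 0 := by
  have hUFD : ∀ x : X, UniqueFactorizationMonoid (X.presheaf.stalk x) := by
    intro x
    apply UniqueFactorizationMonoid.of_forall_isPrincipal_of_height_eq_one
    intro p hp hph
    obtain ⟨ζ, hs, rfl⟩ := exists_primeOf_eq x p
    have hζ : Order.coheight ζ = 1 := by rw [← height_primeOf hs, hph]
    obtain ⟨g, hg, -⟩ := h1 ζ hζ
    exact ⟨⟨_, hg x hs⟩⟩
  have hX : Pi1.IsNormalScheme X := fun x => by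
    haveI := hUFD x
    exact ⟨inferInstance, inferInstance⟩
  refine ⟨hX, fun x₀ hx₀ => ?_⟩
  obtain ⟨g, hg, hgu⟩ := h1 x₀ hx₀
  have hs : x₀ ⤳ x₀ := specializes_rfl
  have hπ : primeOf hs = Ideal.span {X.presheaf.germ ⊤ x₀ trivial g} := hg x₀ hs
  have hg0 : X.presheaf.germ ⊤ x₀ trivial g ≠ 0 := by
    intro h0
    have hh : (primeOf hs).height = 1 := by rw [height_primeOf hs, hx₀]
    apply Ideal.ne_bot_of_height_eq_one hh
    rw [hπ, h0]
    simp
  refine ⟨algebraMap (X.presheaf.stalk x₀) X.functionField (X.presheaf.germ ⊤ x₀ trivial g), ?_,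
    ord_gen_self hX hx₀ hs _ hπ, fun x hx hx1 => ?_⟩
  · exact (map_ne_zero_iff _ (IsFractionRing.injective (X.presheaf.stalk x₀) X.functionField)).2 hg0
  · have hns : ¬ x₀ ⤳ x := fun hsp =>
      hx (Groth.Agent.Lib.T2H4.DivIdealMod.eq_of_coheight_eq_one hx1 hx₀ hsp).symm
    haveI := isDVR hX x hx1
    have := (isOrd_schemeOrd hX x hx1).unit _ (hgu x hns)
    rwa [algebraMap_germ, ← algebraMap_germ (W := ⊤) x₀ (show x₀ ∈ (⊤ : X.Opens) from trivial) g] at this

/-- orders of two rational functions with the same germ of divisor agree -/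
theorem ord_eq_of_germOf_eq (hX : Pi1.IsNormalScheme X) (x : X) (hx : Order.coheight x = 1)
    (f g : CDiv.KUnits X) (h : CDiv.germOf X x f = CDiv.germOf X x g) :
    Scheme.ord (g : X.functionField) x = Scheme.ord (f : X.functionField) x := by
  haveI := isDVR hX x hx
  have hord := isOrd_schemeOrd hX x hx
  rw [QuotientGroup.eq] at h
  obtain ⟨u, hu⟩ := h
  have hu' : algebraMap (X.presheaf.stalk x) X.functionField (u : X.presheaf.stalk x) =
      (f : X.functionField)⁻¹ * (g : X.functionField) := by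
    have := congrArg Units.val hu
    simpa using this
  have hgeq : (g : X.functionField) = (f : X.functionField) *
      algebraMap (X.presheaf.stalk x) X.functionField (u : X.presheaf.stalk x) := by
    rw [hu', ← mul_assoc, mul_inv_cancel₀ f.ne_zero, one_mul]
  have hune : algebraMap (X.presheaf.stalk x) X.functionField (u : X.presheaf.stalk x) ≠ 0 :=
    IsOrd.map_ne_zero u.ne_zero
  rw [hgeq, hord.mul _ _ f.ne_zero hune, hord.unit _ u.isUnit, add_zero]

/-- (2) ⟹ the local rings are factorial -/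
theorem ufd_of_two (hX : Pi1.IsNormalScheme X)
    (h2 : ∀ x₀ : X, Order.coheight x₀ = 1 → ∃ f : X.functionField, f ≠ 0 ∧
      Scheme.ord f x₀ = 1 ∧ ∀ x : X, x ≠ x₀ → Order.coheight x = 1 → Scheme.ord f x = 0) (x : X) :
    UniqueFactorizationMonoid (X.presheaf.stalk x) := by
  apply ufd_stalk_of_prime_cycles hX
  intro x₀ hx₀
  obtain ⟨f, hf, hf1, hf0⟩ := h2 x₀ hx₀
  refine ⟨CDiv.div (Units.mk0 f hf), fun g hg => ?_, fun z hz hz1 g hg => ?_⟩
  · rw [ord_eq_of_germOf_eq hX x₀ hx₀ (Units.mk0 f hf) g hg]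
    exact hf1
  · rw [ord_eq_of_germOf_eq hX z hz1 (Units.mk0 f hf) g hg]
    exact hf0 z hz hz1

open Classical in
/-- (2) ⟹ every Weil divisor on a quasi-compact scheme is principal -/
theorem exists_ratFun_of_two [CompactSpace X] (hX : Pi1.IsNormalScheme X)
    (h2 : ∀ x₀ : X, Order.coheight x₀ = 1 → ∃ f : X.functionField, f ≠ 0 ∧
      Scheme.ord f x₀ = 1 ∧ ∀ x : X, x ≠ x₀ → Order.coheight x = 1 → Scheme.ord f x = 0)
    (D : AlgebraicCycle X ℤ) (hD : ∀ x : X, Order.coheight x ≠ 1 → D x = 0) :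
    ∃ f : X.functionField, f ≠ 0 ∧ ∀ y : X, Order.coheight y = 1 → Scheme.ord f y = D y := by
  have hfin : (Function.support D).Finite := by
    have := (Function.locallyFinsupp.locallyFiniteSupport D).finite_inter_support_of_isCompact
      (W := Set.univ) isCompact_univ
    rwa [Set.univ_inter] at this
  set S : Finset X := hfin.toFinset with hS
  have hSmem : ∀ y, y ∈ S ↔ D y ≠ 0 := fun y => hfin.mem_toFinset
  have hco : ∀ y, D y ≠ 0 → Order.coheight y = 1 := fun y hy => by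
    by_contra hne
    exact hy (hD y hne)
  have hgen : ∀ y : {y : X // Order.coheight y = 1}, ∃ f : X.functionField, f ≠ 0 ∧
      Scheme.ord f y.1 = 1 ∧ ∀ x : X, x ≠ y.1 → Order.coheight x = 1 → Scheme.ord f x = 0 :=
    fun y => h2 y.1 y.2
  choose φ hφ0 hφ1 hφ using hgen
  set g : X → X.functionField := fun y =>
    if h : Order.coheight y = 1 then φ ⟨y, h⟩ else 1 with hg
  have hg0 : ∀ y, g y ≠ 0 := by
    intro y
    rw [hg]
    dsimp only
    split_ifs with h
    · exact hφ0 ⟨y, h⟩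
    · exact one_ne_zero
  refine ⟨∏ y ∈ S, g y ^ D y, Finset.prod_ne_zero_iff.2 fun y _ => zpow_ne_zero _ (hg0 y), ?_⟩
  intro y' hy'
  haveI := isDVR hX y' hy'
  have hord := isOrd_schemeOrd hX y' hy'
  rw [hord.prod S (fun y => g y ^ D y) (fun y _ => zpow_ne_zero _ (hg0 y))]
  have hterm : ∀ y ∈ S, Scheme.ord (g y ^ D y) y' = if y = y' then D y' else 0 := by
    intro y hyS
    have hy1 := hco y ((hSmem y).1 hyS)
    have hgy : g y = φ ⟨y, hy1⟩ := by
      rw [hg]
      dsimp only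
      rw [dif_pos hy1]
    rw [hord.zpow (hg0 y), hgy]
    by_cases hyy : y = y'
    · subst hyy
      rw [if_pos rfl, hφ1 ⟨y, hy1⟩, mul_one]
    · rw [if_neg hyy, hφ ⟨y, hy1⟩ y' (Ne.symm hyy) hy', mul_zero]
  rw [Finset.sum_congr rfl hterm, Finset.sum_ite_eq' S y' (fun _ => D y')]
  split_ifs with hmem
  · rfl
  · by_contra hne
    exact hmem ((hSmem y').2 fun h0 => hne (by rw [h0]))

/-- (2) ⟹ the Picard group is trivial -/
theorem pic_trivial_of_two [CompactSpace X] (hX : Pi1.IsNormalScheme X)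
    (h2 : ∀ x₀ : X, Order.coheight x₀ = 1 → ∃ f : X.functionField, f ≠ 0 ∧
      Scheme.ord f x₀ = 1 ∧ ∀ x : X, x ≠ x₀ → Order.coheight x = 1 → Scheme.ord f x = 0)
    (L : X.Modules) (hL : PicF.IsInvertible L) : Nonempty (L ≅ Coh.structureModule X) := by
  have hLref := Groth.Agent.Lib.T2H4.InvRef1.isRef1_of_isInvertible L hL
  obtain ⟨-, hLrk⟩ := Groth.Agent.Lib.T2H4.Ref1Iso.ref1_facts L hLref
  obtain ⟨s₀, hs₀, -⟩ := finrank_eq_one_iff'.1 hLrk
  have hs : (Submodule.Quotient.mk s₀ : Cyc.secFibre L (genericPoint X)) ≠ 0 := by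
    intro h0
    exact hs₀ (mk_secFibre_injective _ (h0.trans (Submodule.Quotient.mk_zero _).symm))
  obtain ⟨D, hD0, hD⟩ := Groth.Agent.Lib.T2H4.WeilDivFin.exists_cycle hX L hLref _ hs
  obtain ⟨f, hf, hfD⟩ := exists_ratFun_of_two hX h2 D hD0
  exact Groth.Agent.Lib.T2H4.InvRef1.main hX L hL _ hs f hf (fun x hx => by rw [← hD x hx, hfD x hx])

/-- (3) ⟹ (4) -/
theorem four_of_three [CompactSpace X]
    (hUFD : ∀ x : X, UniqueFactorizationMonoid (X.presheaf.stalk x))
    (hpic : ∀ L : X.Modules, PicF.IsInvertible L → Nonempty (L ≅ Coh.structureModule X)) :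
    Pi1.IsNormalScheme X ∧ ∀ (U : X.Opens) (L : (U : Scheme.{u}).Modules),
      PicF.IsInvertible L → Nonempty (L ≅ Coh.structureModule (U : Scheme.{u})) := by
  have hX : Pi1.IsNormalScheme X := fun x => by
    haveI := hUFD x
    exact ⟨inferInstance, inferInstance⟩
  haveI : IsNoetherian X := {}
  refine ⟨hX, fun U L hL => ?_⟩
  obtain ⟨L', hL', ⟨e⟩⟩ := Groth.Agent.Lib.T2H4.PicExtReg.main hX hUFD U L hL
  obtain ⟨ε⟩ := hpic L' hL'
  exact ⟨e.symm ≪≫ (Scheme.Modules.restrictFunctor U.ι).mapIso ε ≪≫ Scheme.Modules.restrictUnitIso U.ι⟩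

end Groth.Agent.Lib.T2H4.LocFactTFAE
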