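import Mathlib
import Groth.Agent.Lib.T2H4LocFactTFAE
import Groth.Agent.Lib.Helper23FinTypeLocal
set_option backward.isDefEq.respectTransparency.types false

/-!
# The invertible locus of a coherent module (helper4)

For a coherent module `F` on a locally Noetherian scheme, the set of points where the stalk is free of rank
one is open (`invLocus F`), and `F` restricted to it is invertible.
-/

set_option autoImplicit false
set_option linter.style.haveILetI false
universe u
open CategoryTheory CategoryTheory.Limits AlgebraicGeometry TopologicalSpace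

namespace Groth.Agent.Lib.T2H4.InvLocus

open Groth.Agent.Lib.T2H4.RestrictStalk Groth.Agent.Lib.T2H4.Ref1Iso
  Groth.Agent.Lib.Helper23.UnitStalk
  Groth.Agent.Lib.Helper2.RankLoc Groth.Agent.Lib.Helper2.LocFree

variable {X : Scheme.{u}}

/-- freeness of rank one of a stalk passes from the restriction to an open subscheme to the scheme -/
theorem free_of_free_restrict (U : X.Opens) (M : X.Modules) (y : U)
    (h : ∃ c : (M.restrict U.ι).presheaf.stalk y,
      Function.Bijective (fun r : (↑U : Scheme.{u}).presheaf.stalk y => r • c)) :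
    ∃ c : M.presheaf.stalk (U.ι y),
      Function.Bijective (fun r : X.presheaf.stalk (U.ι y) => r • c) := by
  obtain ⟨c, hc⟩ := h
  refine ⟨(σ U M y).hom c, ?_⟩
  have hσ := ConcreteCategory.bijective_of_isIso (σ U M y).hom
  have hτ := ConcreteCategory.bijective_of_isIso (τ U y).inv
  have : (fun r : X.presheaf.stalk (U.ι y) => r • (σ U M y).hom c) =
      (σ U M y).hom ∘ (fun r : (↑U : Scheme.{u}).presheaf.stalk y => r • c) ∘ (τ U y).inv := by
    funext r
    simp only [Function.comp_apply]
    rw [σ_smul]
    congr 1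
    exact (ConcreteCategory.congr_hom (τ U y).inv_hom_id r).symm
  rw [this]
  exact hσ.comp (hc.comp hτ)

/-- freeness of rank one of a stalk passes from the scheme to the restriction to an open subscheme -/
theorem free_restrict_of_free (U : X.Opens) (M : X.Modules) (y : U)
    (h : ∃ c : M.presheaf.stalk (U.ι y),
      Function.Bijective (fun r : X.presheaf.stalk (U.ι y) => r • c)) :
    ∃ c : (M.restrict U.ι).presheaf.stalk y,
      Function.Bijective (fun r : (↑U : Scheme.{u}).presheaf.stalk y => r • c) := by
  obtain ⟨c, hc⟩ := h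
  refine ⟨(σ U M y).inv c, ?_⟩
  have hσ := ConcreteCategory.bijective_of_isIso (σ U M y).inv
  have hτ := ConcreteCategory.bijective_of_isIso (τ U y).hom
  have : (fun r : (↑U : Scheme.{u}).presheaf.stalk y => r • (σ U M y).inv c) =
      (σ U M y).inv ∘ (fun r : X.presheaf.stalk (U.ι y) => r • c) ∘ (τ U y).hom := by
    funext r
    simp only [Function.comp_apply]
    apply (ConcreteCategory.bijective_of_isIso (σ U M y).hom).1
    rw [σ_smul]
    have h1 : (σ U M y).hom ((σ U M y).inv c) = c :=
      ConcreteCategory.congr_hom (σ U M y).inv_hom_id c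
    have h2 : (σ U M y).hom ((σ U M y).inv ((τ U y).hom r • c)) = (τ U y).hom r • c :=
      ConcreteCategory.congr_hom (σ U M y).inv_hom_id _
    rw [h1, h2]
  rw [this]
  exact hσ.comp (hc.comp hτ)

/-- the stalks of a module isomorphic to the structure sheaf are free of rank one -/
theorem exists_free_of_iso {Y : Scheme.{u}} (G : Y.Modules) (e : G ≅ Coh.structureModule Y) (y : Y) :
    ∃ c : G.presheaf.stalk y, Function.Bijective (fun r : Y.presheaf.stalk y => r • c) := by
  refine ⟨RefHull.stalkMapₗ e.inv y (one y), ?_⟩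
  have hbij : Function.Bijective (RefHull.stalkMapₗ e.inv y) := by
    refine Function.bijective_iff_has_inverse.2 ⟨RefHull.stalkMapₗ e.hom y, fun v => ?_, fun v => ?_⟩
    · rw [← stalkMapₗ_comp, e.inv_hom_id, stalkMapₗ_id]
    · rw [← stalkMapₗ_comp, e.hom_inv_id, stalkMapₗ_id]
  have : (fun r : Y.presheaf.stalk y => r • RefHull.stalkMapₗ e.inv y (one y)) =
      (RefHull.stalkMapₗ e.inv y) ∘ (fun r : Y.presheaf.stalk y => r • one y) := by
    funext r
    simp only [Function.comp_apply, map_smul]
  rw [this]
  exact hbij.comp ⟨toUnitStalk_injective y, toUnitStalk_surjective y⟩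

/-- a coherent module whose stalk at `x` is free of rank one is trivial near `x` -/
theorem exists_restrict_iso_of_free_stalk [IsLocallyNoetherian X] (F : X.Modules) (hF : Coh.IsCoh F) (x : X)
    (h : ∃ c : F.presheaf.stalk x, Function.Bijective (fun r : X.presheaf.stalk x => r • c)) :
    ∃ D : X.Opens, x ∈ D ∧ Nonempty (F.restrict D.ι ≅ Coh.structureModule (↑D : Scheme.{u})) := by
  haveI : F.IsQuasicoherent := hF.1
  haveI : SheafOfModules.IsFinitePresentation (R := X.ringCatSheaf) F :=
    Groth.Agent.Lib.T2H3.HomShQCoh.isFP_of_isCoh F hF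
  obtain ⟨c, hc⟩ := h
  let ε : X.presheaf.stalk x ≃ₗ[X.presheaf.stalk x] F.presheaf.stalk x :=
    LinearEquiv.ofBijective (LinearMap.toSpanSingleton _ _ c) hc
  haveI : Module.Free (X.presheaf.stalk x) (F.presheaf.stalk x) := Module.Free.of_equiv ε
  have hrk : Module.finrank (X.presheaf.stalk x) (F.presheaf.stalk x) = 1 := by
    rw [← ε.finrank_eq]
    exact Module.finrank_self _
  have hflat : FlatMod.IsFlatAt F x :=
    (inferInstance : Module.Flat (X.presheaf.stalk x) (F.presheaf.stalk x))
  obtain ⟨D, m, hxD, ⟨e⟩⟩ := exists_restrict_iso_freeMod_of_isFlatAt F x hflat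
  have h1 := (fibreRank_eq_of_restrict_iso_freeMod D.ι F e ⟨x, hxD⟩).2
  have h2 : fibreRank F x = 1 :=
    (Module.finrank_baseChange
      (R := IsLocalRing.ResidueField (X.presheaf.stalk x))
      (S := X.presheaf.stalk x)
      (M' := F.presheaf.stalk x)).trans hrk
  have hm : m = 1 := h1.symm.trans h2
  subst hm
  exact ⟨D, hxD, ⟨e ≪≫ Limits.coproductUniqueIso (fun _ : Fin 1 => Coh.structureModule (↑D : Scheme.{u}))⟩⟩

/-- the locus where a module is locally isomorphic to the structure sheaf -/
noncomputable def invLocus (F : X.Modules) : X.Opens :=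
  sSup {V : X.Opens | Nonempty (F.restrict V.ι ≅ Coh.structureModule (↑V : Scheme.{u}))}

theorem mem_invLocus (F : X.Modules) (x : X) :
    x ∈ invLocus F ↔ ∃ V : X.Opens, x ∈ V ∧
      Nonempty (F.restrict V.ι ≅ Coh.structureModule (↑V : Scheme.{u})) := by
  unfold invLocus
  rw [Opens.mem_sSup]
  constructor
  · rintro ⟨V, hV, hx⟩
    exact ⟨V, hx, hV⟩
  · rintro ⟨V, hx, hV⟩
    exact ⟨V, hV, hx⟩

theorem mem_invLocus_of_free [IsLocallyNoetherian X] (F : X.Modules) (hF : Coh.IsCoh F) (x : X)
    (h : ∃ c : F.presheaf.stalk x, Function.Bijective (fun r : X.presheaf.stalk x => r • c)) :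
    x ∈ invLocus F :=
  (mem_invLocus F x).2 (exists_restrict_iso_of_free_stalk F hF x h)

theorem free_of_mem_invLocus (F : X.Modules) (x : X) (hx : x ∈ invLocus F) :
    ∃ c : F.presheaf.stalk x, Function.Bijective (fun r : X.presheaf.stalk x => r • c) := by
  obtain ⟨V, hxV, ⟨e⟩⟩ := (mem_invLocus F x).1 hx
  exact free_of_free_restrict V F ⟨x, hxV⟩ (exists_free_of_iso (Y := (↑V : Scheme.{u})) _ e ⟨x, hxV⟩)

theorem isCoh_restrict (M : X.Modules) (hM : Coh.IsCoh M) (W : X.Opens) :
    Coh.IsCoh (M.restrict W.ι) := by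
  haveI : M.IsQuasicoherent := hM.1
  haveI : SheafOfModules.IsFiniteType (R := X.ringCatSheaf) M := hM.2
  exact ⟨Scheme.Modules.isQuasicoherent_restrictFunctor W.ι M,
    Groth.Agent.Lib.Helper23.FinType.isFiniteType_restrict W.ι M⟩

/-- **a coherent module is invertible on its invertible locus** -/
theorem isInvertible_restrict_invLocus [IsLocallyNoetherian X] (F : X.Modules) (hF : Coh.IsCoh F) :
    PicF.IsInvertible (F.restrict (invLocus F).ι) := by
  refine Groth.Agent.Lib.T2H4.LocFactInv.isInvertible_of_free_stalks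
    (X := (↑(invLocus F) : Scheme.{u})) _ (isCoh_restrict F hF _) (fun y => ?_)
  exact free_restrict_of_free (invLocus F) F y (free_of_mem_invLocus F _ y.2)

end Groth.Agent.Lib.T2H4.InvLocus
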