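import Groth.Agent.Lib.T2H4InvTwist1

set_option autoImplicit false
set_option linter.style.haveILetI false
universe u
open CategoryTheory CategoryTheory.Limits MonoidalCategory
attribute [local instance] HasDerivedCategory.standard

namespace Groth.Agent.Lib.T2H4.InvTwist

open Groth.Agent.Lib.Helper1.LDer

section Flat

variable {A : Type u} [CommRing A] (M : ModuleCat.{u} A) [Module.Flat A M]

instance preservesFiniteLimits_tensorRight : PreservesFiniteLimits (tensorRight M) :=
  preservesFiniteLimits_of_natIso (BraidedCategory.tensorLeftIsoTensorRight M)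

instance preservesFiniteColimits_tensorRight : PreservesFiniteColimits (tensorRight M) := by
  have : (tensorRight M).IsLeftAdjoint := inferInstance
  infer_instance

/-- the exact functor `- ⊗ M` on `D(A)`. -/
noncomputable abbrev E : Dual.D A ⥤ Dual.D A := (tensorRight M).mapDerivedCategory

instance : (E M).Linear A := inferInstance

instance isIso_ltCounit [DRing.HasLTensor A M] : IsIso (ltCounit M) :=
  NatIso.isIso_of_isIso_app _

/-- `- ⊗^L M ≅ - ⊗ M` for flat `M`. -/
noncomputable def ltIsoE [DRing.HasLTensor A M] : DRing.LTensor A M ≅ E M :=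
  letI : Localization.Lifting DerivedCategory.Q
      (HomologicalComplex.quasiIso (ModuleCat.{u} A) (ComplexShape.up ℤ))
      (tCx M ⋙ DerivedCategory.Q) (DRing.LTensor A M) := ⟨asIso (ltCounit M)⟩
  Localization.liftNatIso DerivedCategory.Q
    (HomologicalComplex.quasiIso (ModuleCat.{u} A) (ComplexShape.up ℤ))
    (tCx M ⋙ DerivedCategory.Q) (tCx M ⋙ DerivedCategory.Q) _ _ (Iso.refl _)

end Flat

section Comp

variable {A : Type u} [CommRing A] (M N L : ModuleCat.{u} A) [Module.Flat A M] [Module.Flat A N]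
  [Module.Flat A L]

/-- `(- ⊗ M) ⊗ N ≅ - ⊗ L` for `M ⊗ N ≅ L`. -/
noncomputable def compIso (e : M ⊗ N ≅ L) : E M ⋙ E N ≅ E L :=
  mapDerivedCategoryCompIso (tensorRight M) (tensorRight N) (tensorRight L)
    ((tensorRightTensor M N).symm ≪≫ (tensoringRight (ModuleCat.{u} A)).mapIso e)

instance : Module.Flat A (𝟙_ (ModuleCat.{u} A)) := inferInstanceAs (Module.Flat A A)

/-- `- ⊗ A ≅ id`. -/
noncomputable def unitIso' : E (𝟙_ (ModuleCat.{u} A)) ≅ 𝟭 (Dual.D A) :=
  mapDerivedCategoryIdIso (tensorRight (𝟙_ (ModuleCat.{u} A))) (rightUnitorNatIso _)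

/-- tensoring with an invertible module is an autoequivalence of `D(A)`. -/
noncomputable def equiv (e : M ⊗ N ≅ 𝟙_ (ModuleCat.{u} A)) (e' : N ⊗ M ≅ 𝟙_ (ModuleCat.{u} A)) :
    Dual.D A ≌ Dual.D A :=
  CategoryTheory.Equivalence.mk (E M) (E N) ((compIso M N _ e ≪≫ unitIso').symm) (compIso N M _ e' ≪≫ unitIso')

end Comp

end Groth.Agent.Lib.T2H4.InvTwist
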