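import Groth.Agent.Lib.T2H4InvTwist2
import Groth.Agent.Lib.T2H4DualShift

set_option autoImplicit false
set_option linter.style.haveILetI false
universe u
open CategoryTheory CategoryTheory.Limits MonoidalCategory
attribute [local instance] HasDerivedCategory.standard

namespace Groth.Agent.Lib.T2H4.InvTwist

open Groth.Agent.Lib.Helper1.LDer DerivedCategory

section Generic

variable {A : Type u} [CommRing A] [IsNoetherianRing A]

/-- a fully faithful linear shift-commuting endofunctor of `D(A)` hitting all modules and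
preserving finiteness of cohomology preserves dualizing complexes. -/
theorem isDualizing_of_fullyFaithful (F : Dual.D A ⥤ Dual.D A) [F.Additive] [F.Linear A]
    [F.CommShift ℤ] (hF : F.FullyFaithful)
    (hmod : ∀ M : ModuleCat.{u} A, ∃ M' : ModuleCat.{u} A,
      Nonempty ((singleFunctor (ModuleCat.{u} A) 0).obj M ≅
        F.obj ((singleFunctor (ModuleCat.{u} A) 0).obj M')))
    (hfin : ∀ (K : Dual.D A) (i : ℤ), Module.Finite A (Dual.HD A K i) →
      Module.Finite A (Dual.HD A (F.obj K) i))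
    (ω : Dual.D A) (hω : Dual.IsDualizing A ω) : Dual.IsDualizing A (F.obj ω) := by
  obtain ⟨a, b, hab⟩ := hω.finite_injective_dimension
  refine ⟨inferInstance, ⟨a, b, ?_⟩, fun i => hfin ω i (hω.finite_cohomology i), ?_, ?_⟩
  · intro M _ _ i hi
    obtain ⟨M', ⟨e⟩⟩ := hmod (ModuleCat.of A M)
    have h1 : Subsingleton ((singleFunctor (ModuleCat.{u} A) 0).obj M' ⟶ ω⟦i⟧) := hab M' i hi
    have h2 : Subsingleton (F.obj ((singleFunctor (ModuleCat.{u} A) 0).obj M') ⟶ F.obj (ω⟦i⟧)) :=
      hF.homEquiv.symm.subsingleton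
    exact @Equiv.subsingleton _ _ (Iso.homCongr e ((F.commShiftIso i).app ω).symm) h2
  · have h : (fun x : A => x • 𝟙 (F.obj ω)) = F.map ∘ (fun x : A => x • 𝟙 ω) := by
      funext x
      simp [Functor.map_smul]
    rw [h]
    exact (hF.map_bijective ω ω).comp hω.toEnd_bijective
  · intro i hi
    have h1 := hω.ext_self_subsingleton i hi
    have h2 : Subsingleton (F.obj ω ⟶ F.obj (ω⟦i⟧)) := hF.homEquiv.symm.subsingleton
    exact @Equiv.subsingleton _ _
      (Iso.homCongr (Iso.refl (F.obj ω)) ((F.commShiftIso i).app ω).symm) h2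

end Generic

section Invertible

variable {A : Type u} [CommRing A] (P : Type u) [AddCommGroup P] [Module A P]
  [Module.Invertible A P]

/-- `P ⊗ P^∨ ≅ A`. -/
noncomputable def isoUnit :
    ModuleCat.of A P ⊗ ModuleCat.of A (Module.Dual A P) ≅ 𝟙_ (ModuleCat.{u} A) :=
  (TensorProduct.comm A P (Module.Dual A P) ≪≫ₗ Module.Invertible.linearEquiv A P).toModuleIso

/-- `P^∨ ⊗ P ≅ A`. -/
noncomputable def isoUnit' :
    ModuleCat.of A (Module.Dual A P) ⊗ ModuleCat.of A P ≅ 𝟙_ (ModuleCat.{u} A) :=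
  (Module.Invertible.linearEquiv A P).toModuleIso

/-- the autoequivalence `- ⊗ P` of `D(A)`. -/
noncomputable def invEquiv : Dual.D A ≌ Dual.D A :=
  equiv (ModuleCat.of A P) (ModuleCat.of A (Module.Dual A P)) (isoUnit P) (isoUnit' P)

/-- every module in degree `0` is in the image of `- ⊗ P`. -/
lemma exists_single_iso (M : ModuleCat.{u} A) : ∃ M' : ModuleCat.{u} A,
    Nonempty ((singleFunctor (ModuleCat.{u} A) 0).obj M ≅
      (E (ModuleCat.of A P)).obj ((singleFunctor (ModuleCat.{u} A) 0).obj M')) := by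
  let P' : ModuleCat.{u} A := ModuleCat.of A (Module.Dual A P)
  let i1 : (M ⊗ P') ⊗ ModuleCat.of A P ≅ M :=
    α_ M P' (ModuleCat.of A P) ≪≫ whiskerLeftIso M (isoUnit' P) ≪≫ ρ_ M
  exact ⟨M ⊗ P', ⟨(singleFunctor (ModuleCat.{u} A) 0).mapIso i1.symm ≪≫
    (((tensorRight (ModuleCat.of A P)).mapDerivedCategorySingleFunctor 0).app (M ⊗ P')).symm⟩⟩

/-- `- ⊗ P` preserves finiteness of cohomology. -/
lemma finite_HD_E (K : Dual.D A) (i : ℤ) (h : Module.Finite A (Dual.HD A K i)) :
    Module.Finite A (Dual.HD A ((E (ModuleCat.of A P)).obj K) i) := by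
  let e := Groth.Agent.Lib.Helper10.DerComplete.homologyMapDerivedCategoryIso
    (tensorRight (ModuleCat.of A P)) K i
  have h1 : Module.Finite A (TensorProduct A (Dual.HD A K i) P) := inferInstance
  exact Module.Finite.equiv (M := TensorProduct A (Dual.HD A K i) P) e.toLinearEquiv.symm

variable [IsNoetherianRing A]

/-- `ω ⊗ P` is dualizing. -/
theorem isDualizing_E (ω : Dual.D A) (hω : Dual.IsDualizing A ω) :
    Dual.IsDualizing A ((E (ModuleCat.of A P)).obj ω) :=
  isDualizing_of_fullyFaithful (E (ModuleCat.of A P)) (invEquiv P).fullyFaithfulFunctor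
    (exists_single_iso P) (finite_HD_E P) ω hω

/-- **S11183**. -/
theorem isDualizing_LTensor_shift [DRing.HasLTensor A (ModuleCat.of A P)] (ω : Dual.D A)
    (hω : Dual.IsDualizing A ω) (n : ℤ) :
    Dual.IsDualizing A (((DRing.LTensor A (ModuleCat.of A P)).obj ω)⟦n⟧) :=
  Groth.Agent.Lib.T2H4.DualFinite.isDualizing_of_iso
    ((shiftFunctor (Dual.D A) n).mapIso ((ltIsoE (ModuleCat.of A P)).app ω).symm)
    (Groth.Agent.Lib.T2H4.DualShift.isDualizing_shift _ (isDualizing_E P ω hω) n)

end Invertible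

end Groth.Agent.Lib.T2H4.InvTwist
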