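import Groth.Agent.Lib.T2H4InvTwist3

set_option autoImplicit false
set_option linter.style.haveILetI false
universe u
open CategoryTheory CategoryTheory.Limits MonoidalCategory
attribute [local instance] HasDerivedCategory.standard

namespace Groth.Agent.Lib.T2H4.InvTwist

open Groth.Agent.Lib.Helper1.LDer DerivedCategory

section Emap

variable {A : Type u} [CommRing A] {M N L : ModuleCat.{u} A} [Module.Flat A M] [Module.Flat A N]
  [Module.Flat A L]

/-- the chain-level natural transformation `- ⊗ M ⟶ - ⊗ N` induced by `f : M ⟶ N`. -/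
noncomputable abbrev cxMap (f : M ⟶ N) : tCx M ⟶ tCx N :=
  NatTrans.mapHomologicalComplex ((tensoringRight (ModuleCat.{u} A)).map f) (ComplexShape.up ℤ)

lemma cxMap_comp (f : M ⟶ N) (g : N ⟶ L) : cxMap (f ≫ g) = cxMap f ≫ cxMap g := by
  unfold cxMap
  rw [Functor.map_comp, NatTrans.mapHomologicalComplex_comp]

lemma cxMap_id : cxMap (𝟙 M) = 𝟙 (tCx M) := by
  unfold cxMap
  rw [CategoryTheory.Functor.map_id, NatTrans.mapHomologicalComplex_id]

lemma cxMap_add (f g : M ⟶ N) (X : DRing.Cx A) :
    (cxMap (f + g)).app X = (cxMap f).app X + (cxMap g).app X := by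
  ext i : 1
  simp [cxMap]
  rfl

lemma cxMap_smul (a : A) (f : M ⟶ N) (X : DRing.Cx A) :
    (cxMap (a • f)).app X = a • (cxMap f).app X := by
  ext i : 1
  simp [cxMap]
  rfl

/-- the natural transformation `E M ⟶ E N` induced by `f : M ⟶ N`. -/
noncomputable def Emap (f : M ⟶ N) : E M ⟶ E N :=
  Localization.liftNatTrans DerivedCategory.Q
    (HomologicalComplex.quasiIso (ModuleCat.{u} A) (ComplexShape.up ℤ))
    (tCx M ⋙ DerivedCategory.Q) (tCx N ⋙ DerivedCategory.Q) (E M) (E N)
    (Functor.whiskerRight (cxMap f) DerivedCategory.Q)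

lemma Emap_app_Q (f : M ⟶ N) (X : DRing.Cx A) :
    (Emap f).app (Q.obj X) = (tensorRight M).mapDerivedCategoryFactors.hom.app X ≫
      Q.map ((cxMap f).app X) ≫ (tensorRight N).mapDerivedCategoryFactors.inv.app X :=
  Localization.liftNatTrans_app _ _ _ _ _ _ _ X

lemma Emap_comp (f : M ⟶ N) (g : N ⟶ L) : Emap (f ≫ g) = Emap f ≫ Emap g := by
  unfold Emap
  rw [Localization.comp_liftNatTrans, cxMap_comp, Functor.whiskerRight_comp]

lemma Emap_id : Emap (𝟙 M) = 𝟙 (E M) := by
  unfold Emap
  rw [cxMap_id, Functor.whiskerRight_id']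
  exact Localization.liftNatTrans_id _ _ _ _

lemma Emap_add (f g : M ⟶ N) : Emap (f + g) = Emap f + Emap g := by
  apply Localization.natTrans_ext DerivedCategory.Q
    (HomologicalComplex.quasiIso (ModuleCat.{u} A) (ComplexShape.up ℤ))
  intro X
  rw [NatTrans.app_add, Emap_app_Q, Emap_app_Q, Emap_app_Q, cxMap_add, Functor.map_add,
    Preadditive.add_comp, Preadditive.comp_add]

lemma Emap_smul (a : A) (f : M ⟶ N) : Emap (a • f) = a • Emap f := by
  apply Localization.natTrans_ext DerivedCategory.Q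
    (HomologicalComplex.quasiIso (ModuleCat.{u} A) (ComplexShape.up ℤ))
  intro X
  rw [NatTrans.app_smul, Emap_app_Q, Emap_app_Q, cxMap_smul, Functor.map_smul,
    Linear.smul_comp, Linear.comp_smul]

end Emap

end Groth.Agent.Lib.T2H4.InvTwist
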