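import Groth.Agent.Lib.T2H4InvTwist4

set_option autoImplicit false
set_option linter.style.haveILetI false
set_option linter.unusedSectionVars false
universe u
open CategoryTheory CategoryTheory.Limits MonoidalCategory TensorProduct
attribute [local instance] HasDerivedCategory.standard

namespace Groth.Agent.Lib.T2H4.InvTwist

open Groth.Agent.Lib.Helper1.LDer DerivedCategory

section DualBasis

variable {A : Type u} [CommRing A] (L : Type u) [AddCommGroup L] [Module A L]

lemma exists_dual_basis [Module.Finite A L] [Module.Projective A L] :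
    ∃ (n : ℕ) (l : Fin n → L) (φ : Fin n → (L →ₗ[A] A)), ∀ x : L, ∑ j, φ j x • l j = x := by
  obtain ⟨n, p, hp⟩ := Module.Finite.exists_fin' A L
  obtain ⟨s, hs⟩ := Module.projective_lifting_property p LinearMap.id hp
  refine ⟨n, fun j => p (Pi.single j 1), fun j => (LinearMap.proj j).comp s, fun x => ?_⟩
  have h1 : p (s x) = x := LinearMap.congr_fun hs x
  conv_rhs => rw [← h1]
  rw [LinearMap.pi_apply_eq_sum_univ p (s x)]
  refine Finset.sum_congr rfl fun j _ => ?_
  show (s x) j • p (Pi.single j 1) = (s x) j • p (fun k => if j = k then 1 else 0)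
  congr 2
  funext k
  simp [Pi.single_apply, eq_comm]

/-- the map `A ⟶ L`, `1 ↦ l`. -/
noncomputable def uMap (l : L) : 𝟙_ (ModuleCat.{u} A) ⟶ ModuleCat.of A L :=
  ModuleCat.ofHom (LinearMap.toSpanSingleton A L l)

/-- a functional as a map `L ⟶ A`. -/
noncomputable def vMap (φ : L →ₗ[A] A) : ModuleCat.of A L ⟶ 𝟙_ (ModuleCat.{u} A) :=
  ModuleCat.ofHom φ

lemma uMap_add (l l' : L) : uMap (A := A) L (l + l') = uMap L l + uMap L l' := by
  apply ModuleCat.hom_ext
  apply LinearMap.ext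
  intro x
  show (LinearMap.toSpanSingleton A L (l + l')) (x : A) =
    (LinearMap.toSpanSingleton A L l) (x : A) + (LinearMap.toSpanSingleton A L l') (x : A)
  simp only [LinearMap.toSpanSingleton_apply, smul_add]

lemma uMap_smul (a : A) (l : L) : uMap (A := A) L (a • l) = a • uMap L l := by
  apply ModuleCat.hom_ext
  apply LinearMap.ext
  intro x
  show (LinearMap.toSpanSingleton A L (a • l)) (x : A) =
    a • (LinearMap.toSpanSingleton A L l) (x : A)
  simp only [LinearMap.toSpanSingleton_apply]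
  exact smul_comm _ _ _

lemma uMap_vMap (l : L) (φ : L →ₗ[A] A) :
    uMap L l ≫ vMap L φ = φ l • 𝟙 (𝟙_ (ModuleCat.{u} A)) := by
  apply ModuleCat.hom_ext
  apply LinearMap.ext
  intro x
  show φ ((LinearMap.toSpanSingleton A L l) (x : A)) = φ l • (x : A)
  simp only [LinearMap.toSpanSingleton_apply, map_smul, smul_eq_mul, mul_comm]

lemma sum_vMap_uMap {n : ℕ} (l : Fin n → L) (φ : Fin n → (L →ₗ[A] A))
    (h : ∀ x : L, ∑ j, φ j x • l j = x) :
    ∑ j, vMap L (φ j) ≫ uMap L (l j) = 𝟙 (ModuleCat.of A L) := by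
  apply ModuleCat.hom_ext
  apply LinearMap.ext
  intro x
  have h2 : ∀ j, ModuleCat.Hom.hom (vMap L (φ j) ≫ uMap L (l j)) x = φ j x • l j := by
    intro j
    show (LinearMap.toSpanSingleton A L (l j)) (φ j x) = _
    rw [LinearMap.toSpanSingleton_apply]
  rw [ModuleCat.hom_sum, LinearMap.sum_apply]
  simp only [h2]
  exact h x

end DualBasis

section HomFormula

variable {A : Type u} [CommRing A] (L : Type u) [AddCommGroup L] [Module A L]
  [Module.Finite A L] [Module.Projective A L]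

/-- `x ↦ x ⊗ l` on `D(A)`. -/
noncomputable def ιL (l : L) : 𝟭 (Dual.D A) ⟶ E (ModuleCat.of A L) :=
  (unitIso' (A := A)).inv ≫ Emap (uMap L l)

/-- `x ⊗ l ↦ φ(l) x` on `D(A)`. -/
noncomputable def εL (φ : L →ₗ[A] A) : E (ModuleCat.of A L) ⟶ 𝟭 (Dual.D A) :=
  Emap (vMap L φ) ≫ (unitIso' (A := A)).hom

lemma ιL_add (l l' : L) : ιL (A := A) L (l + l') = ιL L l + ιL L l' := by
  unfold ιL
  rw [uMap_add, Emap_add, Preadditive.comp_add]

lemma ιL_smul (a : A) (l : L) : ιL (A := A) L (a • l) = a • ιL L l := by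
  unfold ιL
  rw [uMap_smul, Emap_smul, Linear.comp_smul]

lemma ιL_εL (l : L) (φ : L →ₗ[A] A) : ιL L l ≫ εL L φ = φ l • 𝟙 (𝟭 (Dual.D A)) := by
  unfold ιL εL
  rw [Category.assoc, ← Category.assoc (Emap (uMap L l)), ← Emap_comp, uMap_vMap, Emap_smul,
    Emap_id, Linear.smul_comp, Linear.comp_smul, Category.id_comp, Iso.inv_hom_id]

lemma sum_εL_ιL {n : ℕ} (l : Fin n → L) (φ : Fin n → (L →ₗ[A] A))
    (h : ∀ x : L, ∑ j, φ j x • l j = x) :
    ∑ j, εL L (φ j) ≫ ιL L (l j) = 𝟙 (E (ModuleCat.of A L)) := by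
  have h1 : ∀ j, εL L (φ j) ≫ ιL L (l j) = Emap (vMap L (φ j) ≫ uMap L (l j)) := by
    intro j
    unfold ιL εL
    rw [Category.assoc, Iso.hom_inv_id_assoc, Emap_comp]
  simp only [h1]
  have h2 : ∀ (s : Finset (Fin n)), ∑ j ∈ s, Emap (vMap L (φ j) ≫ uMap L (l j)) =
      Emap (∑ j ∈ s, vMap L (φ j) ≫ uMap L (l j)) := by
    intro s
    induction s using Finset.induction_on with
    | empty =>
      simp only [Finset.sum_empty]
      have := Emap_smul (0 : A) (𝟙 (ModuleCat.of A L))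
      rw [zero_smul, zero_smul] at this
      exact this.symm
    | insert a s ha ih => rw [Finset.sum_insert ha, Finset.sum_insert ha, ih, Emap_add]
  rw [h2, sum_vMap_uMap L l φ h, Emap_id]

/-- `Hom(K, K') ⊗ L ≃ Hom(K, K' ⊗ L)` for `L` finite projective. -/
theorem nonempty_homTensorEquiv (K K' : Dual.D A) :
    Nonempty (((K ⟶ K') ⊗[A] L) ≃ₗ[A] (K ⟶ (E (ModuleCat.of A L)).obj K')) := by
  obtain ⟨n, l, φ, h⟩ := exists_dual_basis (A := A) L
  let α₂ : (K ⟶ K') →ₗ[A] L →ₗ[A] (K ⟶ (E (ModuleCat.of A L)).obj K') :=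
    LinearMap.mk₂ A (fun f x => f ≫ (ιL L x).app K')
      (fun f f' x => Preadditive.add_comp _ _ _ _ _ _)
      (fun a f x => Linear.smul_comp _ _ _ _ _ _)
      (fun f x x' => by rw [ιL_add, NatTrans.app_add, Preadditive.comp_add])
      (fun a f x => by rw [ιL_smul, NatTrans.app_smul, Linear.comp_smul])
  let α := TensorProduct.lift α₂
  let β : (K ⟶ (E (ModuleCat.of A L)).obj K') →ₗ[A] ((K ⟶ K') ⊗[A] L) :=
    ∑ j, ((TensorProduct.mk A (K ⟶ K') L).flip (l j)).comp
      (Linear.rightComp A K ((εL L (φ j)).app K'))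
  have hβ : ∀ g, β g = ∑ j, (g ≫ (εL L (φ j)).app K') ⊗ₜ[A] l j := by
    intro g
    simp only [β, LinearMap.sum_apply, LinearMap.comp_apply, LinearMap.flip_apply,
      TensorProduct.mk_apply, Linear.rightComp_apply]
  refine ⟨LinearEquiv.ofLinearMap α β ?_ ?_⟩
  · apply LinearMap.ext
    intro g
    rw [LinearMap.comp_apply, hβ, map_sum, LinearMap.id_apply]
    have h1 : ∀ j, α ((g ≫ (εL L (φ j)).app K') ⊗ₜ[A] l j) =
        g ≫ (εL L (φ j) ≫ ιL L (l j)).app K' := by
      intro j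
      show (g ≫ (εL L (φ j)).app K') ≫ (ιL L (l j)).app K' = _
      rw [Category.assoc, NatTrans.comp_app]
    simp only [h1]
    rw [← Preadditive.comp_sum, ← NatTrans.app_sum, sum_εL_ιL L l φ h, NatTrans.id_app,
      Category.comp_id]
  · apply TensorProduct.ext'
    intro f x
    rw [LinearMap.comp_apply, LinearMap.id_apply]
    have h0 : α (f ⊗ₜ[A] x) = f ≫ (ιL L x).app K' := rfl
    rw [h0, hβ]
    have h1 : ∀ j, (f ≫ (ιL L x).app K') ≫ (εL L (φ j)).app K' = φ j x • f := by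
      intro j
      rw [Category.assoc, ← NatTrans.comp_app, ιL_εL, NatTrans.app_smul, NatTrans.id_app,
        Linear.comp_smul]
      erw [Category.comp_id]
    simp only [h1]
    have h2 : ∀ j, (φ j x • f) ⊗ₜ[A] l j = f ⊗ₜ[A] (φ j x • l j) := fun j =>
      TensorProduct.smul_tmul _ _ _
    simp only [h2]
    rw [← TensorProduct.tmul_sum, h x]

end HomFormula

end Groth.Agent.Lib.T2H4.InvTwist
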