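import Groth.Agent.Lib.T2H4InvTwist5
import Groth.Agent.Lib.T2H4HomRing

set_option autoImplicit false
set_option linter.style.haveILetI false
set_option linter.unusedSectionVars false
universe u
open CategoryTheory CategoryTheory.Limits MonoidalCategory TensorProduct
attribute [local instance] HasDerivedCategory.standard

namespace Groth.Agent.Lib.T2H4.InvTwist

open Groth.Agent.Lib.Helper1.LDer DerivedCategory

section Unique

variable {A : Type u} [CommRing A]

lemma subsingleton_tensor_of_left (M P : Type u) [AddCommGroup M] [Module A M] [AddCommGroup P]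
    [Module A P] [Subsingleton M] : Subsingleton (M ⊗[A] P) := by
  refine ⟨fun x y => ?_⟩
  have h : ∀ z : M ⊗[A] P, z = 0 := by
    intro z
    induction z using TensorProduct.induction_on with
    | zero => rfl
    | tmul m p => rw [Subsingleton.elim m 0, TensorProduct.zero_tmul]
    | add a b ha hb => rw [ha, hb, add_zero]
  rw [h x, h y]

lemma subsingleton_of_tensor_invertible (P : Type u) [AddCommGroup P] [Module A P]
    [Module.Invertible A P] (M : Type u) [AddCommGroup M] [Module A M]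
    (h : Subsingleton (M ⊗[A] P)) : Subsingleton M := by
  let e : M ≃ₗ[A] (M ⊗[A] P) ⊗[A] Module.Dual A P :=
    (TensorProduct.rid A M).symm ≪≫ₗ
      TensorProduct.congr (LinearEquiv.refl A M)
        ((TensorProduct.comm A P (Module.Dual A P)) ≪≫ₗ Module.Invertible.linearEquiv A P).symm ≪≫ₗ
      (TensorProduct.assoc A M P (Module.Dual A P)).symm
  haveI := subsingleton_tensor_of_left (A := A) (M ⊗[A] P) (Module.Dual A P)
  exact e.toEquiv.subsingleton

lemma isZero_of_forall_isZero_homology' (X : Dual.D A)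
    (hX : ∀ i : ℤ, IsZero ((homologyFunctor (ModuleCat.{u} A) i).obj X)) : IsZero X := by
  have : X.IsLE 0 := by
    rw [DerivedCategory.isLE_iff]
    exact fun i _ => hX i
  have : X.IsGE 1 := by
    rw [DerivedCategory.isGE_iff]
    exact fun i _ => hX i
  exact DerivedCategory.TStructure.t.isZero X 0 1 (by simp)

/-- cohomology of a shifted twist. -/
lemma subsingleton_HD_twist_iff (P : Type u) [AddCommGroup P] [Module A P]
    [Module.Invertible A P] (K : Dual.D A) (m i : ℤ) :
    Subsingleton (Dual.HD A (((E (ModuleCat.of A P)).obj K)⟦m⟧) i) ↔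
      Subsingleton (Dual.HD A K (m + i)) := by
  let e1 := (((homologyFunctor (ModuleCat.{u} A) 0).shiftIso m i (m + i) rfl).app
    ((E (ModuleCat.of A P)).obj K)).toLinearEquiv
  let e2 := (Groth.Agent.Lib.Helper10.DerComplete.homologyMapDerivedCategoryIso
    (tensorRight (ModuleCat.of A P)) K (m + i)).toLinearEquiv
  let e : (Dual.HD A (((E (ModuleCat.of A P)).obj K)⟦m⟧) i) ≃ₗ[A]
      ((Dual.HD A K (m + i)) ⊗[A] P) := e1 ≪≫ₗ e2
  constructor
  · intro h
    have h1 : Subsingleton ((Dual.HD A K (m + i)) ⊗[A] P) :=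
      @Equiv.subsingleton _ _ e.symm.toEquiv h
    exact subsingleton_of_tensor_invertible P _ h1
  · intro h
    have h1 := subsingleton_tensor_of_left (A := A) (Dual.HD A K (m + i)) P
    exact @Equiv.subsingleton _ _ e.toEquiv h1

variable [IsNoetherianRing A] [Nontrivial A]

/-- the least degree with nonzero cohomology of a dualizing complex. -/
lemma exists_least_HD (ω : Dual.D A) (hω : Dual.IsDualizing A ω) :
    ∃ j₀ : ℤ, ¬ Subsingleton (Dual.HD A ω j₀) ∧
      ∀ j : ℤ, ¬ Subsingleton (Dual.HD A ω j) → j₀ ≤ j := by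
  obtain ⟨a, b, hab⟩ := hω.finite_injective_dimension
  apply Int.exists_least_of_bdd (P := fun j => ¬ Subsingleton (Dual.HD A ω j))
  · refine ⟨a, fun z hz => ?_⟩
    by_contra hlt
    push Not at hlt
    exact hz ((Groth.Agent.Lib.T2H4.HomRing.subsingleton_hom_inD_self_iff ω z).1
      (hab A z (Or.inl hlt)))
  · by_contra hcon
    push Not at hcon
    have hz : IsZero ω := isZero_of_forall_isZero_homology' ω (fun i => by
      haveI := hcon i
      exact ModuleCat.isZero_of_subsingleton _)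
    have h1 : (1 : A) • 𝟙 ω = (0 : A) • 𝟙 ω := hz.eq_of_src _ _
    exact one_ne_zero (hω.toEnd_bijective.1 h1)

/-- **S11187** for the exact twists. -/
theorem twist_unique_E (ω : Dual.D A) (hω : Dual.IsDualizing A ω)
    (P P' : Type u) [AddCommGroup P] [Module A P] [Module.Invertible A P]
    [AddCommGroup P'] [Module A P'] [Module.Invertible A P'] (n n' : ℤ)
    (h : Nonempty (((E (ModuleCat.of A P)).obj ω)⟦n⟧ ≅ ((E (ModuleCat.of A P')).obj ω)⟦n'⟧)) :
    n = n' ∧ Nonempty (P ≃ₗ[A] P') := by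
  obtain ⟨e⟩ := h
  obtain ⟨j₀, hj₀, hmin⟩ := exists_least_HD ω hω
  have hiff : ∀ i : ℤ, Subsingleton (Dual.HD A ω (n + i)) ↔ Subsingleton (Dual.HD A ω (n' + i)) := by
    intro i
    rw [← subsingleton_HD_twist_iff P ω n i, ← subsingleton_HD_twist_iff P' ω n' i]
    exact ((homologyFunctor (ModuleCat.{u} A) i).mapIso e).toLinearEquiv.toEquiv.subsingleton_congr
  have hnn : n = n' := by
    have h1 : ¬ Subsingleton (Dual.HD A ω (n' + (j₀ - n))) := by
      rw [← hiff]
      rwa [show n + (j₀ - n) = j₀ by ring]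
    have h2 : ¬ Subsingleton (Dual.HD A ω (n + (j₀ - n'))) := by
      rw [hiff]
      rwa [show n' + (j₀ - n') = j₀ by ring]
    have h3 := hmin _ h1
    have h4 := hmin _ h2
    lia
  subst hnn
  refine ⟨rfl, ?_⟩
  let e0 : (E (ModuleCat.of A P)).obj ω ≅ (E (ModuleCat.of A P')).obj ω :=
    (shiftFunctor (Dual.D A) n).preimageIso e
  obtain ⟨t⟩ := nonempty_homTensorEquiv P ω ω
  obtain ⟨t'⟩ := nonempty_homTensorEquiv P' ω ω
  let eEnd : A ≃ₗ[A] (ω ⟶ ω) :=
    LinearEquiv.ofBijective (LinearMap.toSpanSingleton A (ω ⟶ ω) (𝟙 ω)) hω.toEnd_bijective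
  exact ⟨(TensorProduct.lid A P).symm ≪≫ₗ TensorProduct.congr eEnd (LinearEquiv.refl A P) ≪≫ₗ t ≪≫ₗ
    Linear.homCongr A (Iso.refl ω) e0 ≪≫ₗ t'.symm ≪≫ₗ
    (TensorProduct.congr eEnd (LinearEquiv.refl A P')).symm ≪≫ₗ TensorProduct.lid A P'⟩

/-- **S11187**. -/
theorem twist_unique (ω : Dual.D A) (hω : Dual.IsDualizing A ω)
    (P P' : Type u) [AddCommGroup P] [Module A P] [Module.Invertible A P]
    [AddCommGroup P'] [Module A P'] [Module.Invertible A P']
    [DRing.HasLTensor A (ModuleCat.of A P)] [DRing.HasLTensor A (ModuleCat.of A P')] (n n' : ℤ)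
    (h : Nonempty (((DRing.LTensor A (ModuleCat.of A P)).obj ω)⟦n⟧ ≅
      ((DRing.LTensor A (ModuleCat.of A P')).obj ω)⟦n'⟧)) :
    n = n' ∧ Nonempty (P ≃ₗ[A] P') := by
  obtain ⟨e⟩ := h
  exact twist_unique_E ω hω P P' n n'
    ⟨(shiftFunctor (Dual.D A) n).mapIso ((ltIsoE (ModuleCat.of A P)).app ω).symm ≪≫ e ≪≫
      (shiftFunctor (Dual.D A) n').mapIso ((ltIsoE (ModuleCat.of A P')).app ω)⟩

end Unique

end Groth.Agent.Lib.T2H4.InvTwist
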