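import Mathlib
import Groth.Prelude.Def_ega3

/-! Cone long exact sequence with naturality (helper4, for `CohIII.koszulHLim`). -/

set_option autoImplicit false
set_option linter.style.haveILetI false
universe u
open CategoryTheory CategoryTheory.Limits

namespace Groth.Agent.Lib.T2H4.KosLim

open CochainComplex HomologicalComplex

attribute [local instance] HasDerivedCategory.standard

variable {A : Type u} [CommRing A]

section LES

variable {K L : CochainComplex (ModuleCat.{u} A) ℤ} (φ : K ⟶ L)

/-- `H^n(L) ⟶ H^n(cone φ)` -/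
noncomputable abbrev ci (n : ℤ) : L.homology n ⟶ (mappingCone φ).homology n :=
  homologyMap (mappingCone.inr φ) n

/-- the connecting map `H^n(cone φ) ⟶ H^{n+1}(K)` -/
noncomputable abbrev cδ (n n' : ℤ) (h : n + 1 = n') : (mappingCone φ).homology n ⟶ K.homology n' :=
  homologyδOfTriangle (mappingCone.triangle φ) n n' h

lemma ci_map (n : ℤ) (y : K.homology n) : ci φ n (homologyMap φ n y) = 0 := by
  have := homologyMap_comp_eq_zero_of_distTriang (mappingCone.triangle φ)
    (DerivedCategory.mappingCone_triangle_distinguished φ) n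
  exact congrArg (fun t => t.hom y) this

lemma exists_map_of_ci (n : ℤ) (y : L.homology n) (hy : ci φ n y = 0) :
    ∃ w : K.homology n, homologyMap φ n w = y := by
  have := homologyMap_exact₂_of_distTriang (mappingCone.triangle φ)
    (DerivedCategory.mappingCone_triangle_distinguished φ) n
  rw [ShortComplex.moduleCat_exact_iff] at this
  exact this y hy

lemma cδ_ci (n n' : ℤ) (h : n + 1 = n') (y : L.homology n) : cδ φ n n' h (ci φ n y) = 0 := by
  have := homologyMap_homologyδOfTriangle (mappingCone.triangle φ)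
    (DerivedCategory.mappingCone_triangle_distinguished φ) n n' h
  exact congrArg (fun t => t.hom y) this

lemma exists_ci_of_cδ (n n' : ℤ) (h : n + 1 = n') (x : (mappingCone φ).homology n)
    (hx : cδ φ n n' h x = 0) : ∃ y : L.homology n, ci φ n y = x := by
  have := homologyMap_exact₃_of_distTriang (mappingCone.triangle φ)
    (DerivedCategory.mappingCone_triangle_distinguished φ) n n' h
  rw [ShortComplex.moduleCat_exact_iff] at this
  exact this x hx

lemma map_cδ (n n' : ℤ) (h : n + 1 = n') (x : (mappingCone φ).homology n) :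
    homologyMap φ n' (cδ φ n n' h x) = 0 := by
  have := homologyδOfTriangle_homologyMap (mappingCone.triangle φ)
    (DerivedCategory.mappingCone_triangle_distinguished φ) n n' h
  exact congrArg (fun t => t.hom x) this

lemma exists_cδ_of_map (n n' : ℤ) (h : n + 1 = n') (z : K.homology n')
    (hz : homologyMap φ n' z = 0) : ∃ x : (mappingCone φ).homology n, cδ φ n n' h x = z := by
  have := homologyMap_exact₁_of_distTriang (mappingCone.triangle φ)
    (DerivedCategory.mappingCone_triangle_distinguished φ) n n' h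
  rw [ShortComplex.moduleCat_exact_iff] at this
  exact this z hz

end LES

section Nat

variable {K₁ L₁ K₂ L₂ : CochainComplex (ModuleCat.{u} A) ℤ} (φ₁ : K₁ ⟶ L₁) (φ₂ : K₂ ⟶ L₂)
  (a : K₁ ⟶ K₂) (b : L₁ ⟶ L₂) (comm : φ₁ ≫ b = a ≫ φ₂)

lemma ci_nat (n : ℤ) (y : L₁.homology n) :
    homologyMap (mappingCone.map φ₁ φ₂ a b comm) n (ci φ₁ n y) = ci φ₂ n (homologyMap b n y) := by
  have h := (mappingCone.triangleMap φ₁ φ₂ a b comm).comm₂
  have h' : mappingCone.inr φ₁ ≫ mappingCone.map φ₁ φ₂ a b comm = b ≫ mappingCone.inr φ₂ := h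
  have h2 := congrArg (fun t => homologyMap t n) h'
  simp only [homologyMap_comp] at h2
  exact congrArg (fun t => t.hom y) h2

lemma cδ_nat (n n' : ℤ) (hn : n + 1 = n') (x : (mappingCone φ₁).homology n) :
    cδ φ₂ n n' hn (homologyMap (mappingCone.map φ₁ φ₂ a b comm) n x) =
      homologyMap a n' (cδ φ₁ n n' hn x) := by
  have h := (mappingCone.triangleMap φ₁ φ₂ a b comm).comm₃
  have h' : (mappingCone.triangle φ₁).mor₃ ≫ a⟦(1 : ℤ)⟧' =
      mappingCone.map φ₁ φ₂ a b comm ≫ (mappingCone.triangle φ₂).mor₃ := h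
  have h2 : homologyMap (mappingCone.triangle φ₁).mor₃ n ≫ homologyMap (a⟦(1 : ℤ)⟧') n =
      homologyMap (mappingCone.map φ₁ φ₂ a b comm) n ≫
        homologyMap (mappingCone.triangle φ₂).mor₃ n := by
    exact (homologyMap_comp (mappingCone.triangle φ₁).mor₃ (a⟦(1 : ℤ)⟧') n).symm.trans
      ((congrArg (fun t => homologyMap t n) h').trans
        (homologyMap_comp (mappingCone.map φ₁ φ₂ a b comm) (mappingCone.triangle φ₂).mor₃ n))
  have nat := ((homologyFunctor (ModuleCat.{u} A) (ComplexShape.up ℤ) 0).shiftIso 1 n n'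
    (by omega)).hom.naturality a
  have e1 := (congrArg (fun t => t.hom x) h2).symm
  have e2 := congrArg (fun t => t.hom ((homologyMap (mappingCone.triangle φ₁).mor₃ n).hom x)) nat
  exact (congrArg (fun z => (((homologyFunctor (ModuleCat.{u} A) (ComplexShape.up ℤ) 0).shiftIso 1 n n'
    (by omega)).hom.app K₂).hom z) e1).trans e2

end Nat

end Groth.Agent.Lib.T2H4.KosLim
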