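import Mathlib
import Groth.Prelude.Def_ega3
import Groth.Agent.Lib.T2H4KosLim0
import Groth.Agent.Lib.Helper13KzTor

/-! Transition maps of the Koszul complexes of powers: composition, naturality (helper4). -/

set_option autoImplicit false
set_option linter.style.haveILetI false
universe u
open CategoryTheory CategoryTheory.Limits

namespace Groth.Agent.Lib.T2H4.KosLim

open CochainComplex HomologicalComplex CohIII Groth.Agent.Lib.Helper21 Groth.Agent.Helper13Kz

variable {A : Type u} [CommRing A]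

/-- the list of `n`-th powers -/
abbrev pw (fs : List A) (n : ℕ) : List A := fs.map (· ^ n)

lemma map_congr' {K₁ L₁ K₂ L₂ : CochainComplex (ModuleCat.{u} A) ℤ} (φ₁ : K₁ ⟶ L₁) (φ₂ : K₂ ⟶ L₂)
    {a a' : K₁ ⟶ K₂} {b b' : L₁ ⟶ L₂} (ha : a = a') (hb : b = b') (comm : φ₁ ≫ b = a ≫ φ₂)
    (comm' : φ₁ ≫ b' = a' ≫ φ₂) :
    mappingCone.map φ₁ φ₂ a b comm = mappingCone.map φ₁ φ₂ a' b' comm' := by
  subst ha hb
  rfl

lemma trans_cons (M : ModuleCat.{u} A) (n m : ℕ) (h : n ≤ m) (f : A) (fs : List A) :
    koszulTrans M n m h (f :: fs) =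
      mappingCone.map (f ^ n • 𝟙 (koszulCx M (pw fs n))) (f ^ m • 𝟙 (koszulCx M (pw fs m)))
        (koszulTrans M n m h fs) (f ^ (m - n) • koszulTrans M n m h fs) (by
          simp only [Linear.smul_comp, Linear.comp_smul, Category.id_comp, Category.comp_id,
            smul_smul, ← pow_add, Nat.sub_add_cancel h]) := rfl

lemma trans_comp (M : ModuleCat.{u} A) (n m l : ℕ) (h : n ≤ m) (h' : m ≤ l) :
    ∀ fs : List A, koszulTrans M n m h fs ≫ koszulTrans M m l h' fs =
      koszulTrans M n l (h.trans h') fs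
  | [] => Category.id_comp _
  | f :: fs => by
    rw [trans_cons, trans_cons, trans_cons]
    refine (mappingCone.map_comp _ _ _ _ _ _ _ _ _).symm.trans ?_
    apply map_congr'
    · exact trans_comp M n m l h h' fs
    · rw [Linear.smul_comp, Linear.comp_smul, smul_smul, trans_comp M n m l h h' fs, ← pow_add]
      congr 2
      omega

lemma trans_self (M : ModuleCat.{u} A) (n : ℕ) :
    ∀ fs : List A, koszulTrans M n n le_rfl fs = 𝟙 _
  | [] => rfl
  | f :: fs => by
    rw [trans_cons]
    have h1 := trans_self M n fs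
    have h2 : f ^ (n - n) • koszulTrans M n n le_rfl fs = 𝟙 _ := by
      rw [h1, Nat.sub_self, pow_zero, one_smul]
    rw [map_congr' _ _ h1 h2 _ (by simp)]
    exact mappingCone.map_id _

lemma koszulMap_cons {M N : ModuleCat.{u} A} (g : M ⟶ N) (f : A) (fs : List A) :
    koszulMap g (f :: fs) = mappingCone.map (f • 𝟙 (koszulCx M fs)) (f • 𝟙 (koszulCx N fs))
      (koszulMap g fs) (koszulMap g fs) (by
        simp only [Linear.smul_comp, Linear.comp_smul, Category.id_comp, Category.comp_id]) := rfl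

lemma koszulMap_trans {M N : ModuleCat.{u} A} (g : M ⟶ N) (n m : ℕ) (h : n ≤ m) :
    ∀ fs : List A, koszulMap g (pw fs n) ≫ koszulTrans N n m h fs =
      koszulTrans M n m h fs ≫ koszulMap g (pw fs m)
  | [] => by
    show koszulMap g [] ≫ 𝟙 _ = 𝟙 _ ≫ koszulMap g []
    rw [Category.comp_id, Category.id_comp]
  | f :: fs => by
    show koszulMap g (f ^ n :: pw fs n) ≫ koszulTrans N n m h (f :: fs) =
      koszulTrans M n m h (f :: fs) ≫ koszulMap g (f ^ m :: pw fs m)
    rw [trans_cons, trans_cons, koszulMap_cons, koszulMap_cons]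
    refine (mappingCone.map_comp _ _ _ _ _ _ _ _ _).symm.trans
      (Eq.trans ?_ (mappingCone.map_comp _ _ _ _ _ _ _ _ _))
    apply map_congr'
    · exact koszulMap_trans g n m h fs
    · rw [Linear.comp_smul, Linear.smul_comp, koszulMap_trans g n m h fs]

end Groth.Agent.Lib.T2H4.KosLim
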