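import Mathlib
import Groth.Prelude.Def_ega3
import Groth.Agent.Lib.T2H4KosLim1

/-! The bottom Koszul cohomology `H^{-r}(K(gs; M))` embeds in `M` with image the elements
killed by `gs` (helper4). -/

set_option autoImplicit false
set_option linter.style.haveILetI false
universe u
open CategoryTheory CategoryTheory.Limits

namespace Groth.Agent.Lib.T2H4.KosLim

open CochainComplex HomologicalComplex CohIII Groth.Agent.Lib.Helper21 Groth.Agent.Helper13Kz

variable {A : Type u} [CommRing A]

lemma smul_id_apply (K : CochainComplex (ModuleCat.{u} A) ℤ) (a : A) (i : ℤ) (z : K.homology i) :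
    (homologyMap (a • 𝟙 K) i).hom z = a • z := by
  rw [homologyMap_smul_id_hom]
  rfl

lemma smul_map_apply {K L : CochainComplex (ModuleCat.{u} A) ℤ} (φ : K ⟶ L) (a : A) (i : ℤ)
    (z : K.homology i) : (homologyMap (a • φ) i).hom z = a • (homologyMap φ i).hom z := by
  rw [homologyMap_smul']
  rfl

/-- base case -/
noncomputable def single0 (M : ModuleCat.{u} A) (j : ℤ) (hj : j = 0) :
    ((HomologicalComplex.single (ModuleCat.{u} A) (ComplexShape.up ℤ) 0).obj M).homology j ⟶ M := by
  subst hj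
  exact (HomologicalComplex.singleObjHomologySelfIso (ComplexShape.up ℤ) 0 M).hom

lemma single0_bijective (M : ModuleCat.{u} A) (j : ℤ) (hj : j = 0) :
    Function.Bijective (single0 M j hj).hom := by
  subst hj
  exact ConcreteCategory.bijective_of_isIso
    (HomologicalComplex.singleObjHomologySelfIso (ComplexShape.up ℤ) 0 M).hom

lemma single0_nat {M N : ModuleCat.{u} A} (g : M ⟶ N) (j : ℤ) (hj : j = 0)
    (c : ((HomologicalComplex.single (ModuleCat.{u} A) (ComplexShape.up ℤ) 0).obj M).homology j) :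
    (single0 N j hj).hom ((homologyMap
      ((HomologicalComplex.single (ModuleCat.{u} A) (ComplexShape.up ℤ) 0).map g) j).hom c) =
      g.hom ((single0 M j hj).hom c) := by
  subst hj
  have := HomologicalComplex.singleObjHomologySelfIso_hom_naturality (ComplexShape.up ℤ) 0 g
  exact congrArg (fun t => t.hom c) this

/-- the embedding of the bottom Koszul cohomology into `M` -/
noncomputable def ι0 (M : ModuleCat.{u} A) : ∀ (gs : List A) (j : ℤ), j + (gs.length : ℤ) = 0 →
    ((koszulCx M gs).homology j ⟶ M)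
  | [], j, hj => single0 M j (by simpa using hj)
  | g :: gs, j, hj => cδ (g • 𝟙 (koszulCx M gs)) j (j + 1) rfl ≫ ι0 M gs (j + 1) (by
      simp only [List.length_cons, Nat.cast_add, Nat.cast_one] at hj
      omega)

lemma ι0_cons_apply (M : ModuleCat.{u} A) (g : A) (gs : List A) (j : ℤ)
    (hj : j + ((g :: gs).length : ℤ) = 0) (hj' : j + 1 + (gs.length : ℤ) = 0)
    (c : (koszulCx M (g :: gs)).homology j) :
    (ι0 M (g :: gs) j hj).hom c =
      (ι0 M gs (j + 1) hj').hom ((cδ (g • 𝟙 (koszulCx M gs)) j (j + 1) rfl).hom c) := rfl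

theorem ι0_spec (M : ModuleCat.{u} A) : ∀ (gs : List A) (j : ℤ) (hj : j + (gs.length : ℤ) = 0),
    Function.Injective (ι0 M gs j hj).hom ∧
      ∀ x : M, (∃ c, (ι0 M gs j hj).hom c = x) ↔ ∀ g ∈ gs, g • x = 0
  | [], j, hj => ⟨(single0_bijective M j (by simpa using hj)).1, fun x =>
      ⟨fun _ g hg => absurd hg List.not_mem_nil,
        fun _ => (single0_bijective M j (by simpa using hj)).2 x⟩⟩
  | g :: gs, j, hj => by
    have hj' : j + 1 + (gs.length : ℤ) = 0 := by
      simp only [List.length_cons, Nat.cast_add, Nat.cast_one] at hj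
      omega
    obtain ⟨hinj, hrange⟩ := ι0_spec M gs (j + 1) hj'
    have hsub : Subsingleton ((koszulCx M gs).homology j) :=
      ModuleCat.subsingleton_of_isZero
        (isZero_homology_of_isZero_X _ j (isZero_koszulCx_X_neg M gs j (by omega)))
    have hδinj : Function.Injective (cδ (g • 𝟙 (koszulCx M gs)) j (j + 1) rfl).hom := by
      rw [injective_iff_map_eq_zero]
      intro c hc
      obtain ⟨y, rfl⟩ := exists_ci_of_cδ _ j (j + 1) rfl c hc
      rw [Subsingleton.elim y 0, map_zero]
    refine ⟨?_, fun x => ⟨?_, ?_⟩⟩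
    · intro c c' hcc
      rw [ι0_cons_apply M g gs j hj hj', ι0_cons_apply M g gs j hj hj'] at hcc
      exact hδinj (hinj hcc)
    · rintro ⟨c, rfl⟩ g' hg'
      rw [ι0_cons_apply M g gs j hj hj']
      rcases List.mem_cons.1 hg' with rfl | hg''
      · rw [← map_smul, ← smul_id_apply]
        have h0 := map_cδ (g' • 𝟙 (koszulCx M gs)) j (j + 1) rfl c
        exact (congrArg (ι0 M gs (j + 1) hj').hom h0).trans (map_zero _)
      · exact (hrange _).1 ⟨_, rfl⟩ g' hg''
    · intro hx
      obtain ⟨z, rfl⟩ := (hrange x).2 (fun g' hg' => hx g' (List.mem_cons_of_mem _ hg'))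
      have h1 : g • z = 0 := hinj (by
        rw [map_smul, map_zero]
        exact hx g List.mem_cons_self)
      have h2 : (homologyMap (g • 𝟙 (koszulCx M gs)) (j + 1)).hom z = 0 := by
        rw [smul_id_apply]
        exact h1
      obtain ⟨c, hc⟩ := exists_cδ_of_map _ j (j + 1) rfl z h2
      exact ⟨c, (ι0_cons_apply M g gs j hj hj' c).trans (congrArg (ι0 M gs (j + 1) hj').hom hc)⟩

theorem ι0_trans (M : ModuleCat.{u} A) (n m : ℕ) (h : n ≤ m) : ∀ (fs : List A) (j : ℤ)
    (hj : j + ((pw fs n).length : ℤ) = 0) (hj' : j + ((pw fs m).length : ℤ) = 0)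
    (c : (koszulCx M (pw fs n)).homology j),
    (ι0 M (pw fs m) j hj').hom ((homologyMap (koszulTrans M n m h fs) j).hom c) =
      (ι0 M (pw fs n) j hj).hom c
  | [], j, hj, hj', c => by
    have : koszulTrans M n m h [] = 𝟙 _ := rfl
    rw [this, homologyMap_id]
    rfl
  | f :: fs, j, hj, hj', c => by
    have e1 : ((pw (f :: fs) n).length : ℤ) = ((pw fs n).length : ℤ) + 1 := by
      show (((f ^ n :: pw fs n).length : ℕ) : ℤ) = _
      rw [List.length_cons]
      push_cast
      rfl
    have e2 : ((pw (f :: fs) m).length : ℤ) = ((pw fs m).length : ℤ) + 1 := by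
      show (((f ^ m :: pw fs m).length : ℕ) : ℤ) = _
      rw [List.length_cons]
      push_cast
      rfl
    have h1 : j + 1 + ((pw fs n).length : ℤ) = 0 := by omega
    have h2 : j + 1 + ((pw fs m).length : ℤ) = 0 := by omega
    have comm : (f ^ n • 𝟙 (koszulCx M (pw fs n))) ≫ (f ^ (m - n) • koszulTrans M n m h fs) =
        koszulTrans M n m h fs ≫ (f ^ m • 𝟙 (koszulCx M (pw fs m))) := by
      simp only [Linear.smul_comp, Linear.comp_smul, Category.id_comp, Category.comp_id,
        smul_smul, ← pow_add, Nat.sub_add_cancel h]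
    have e := cδ_nat (f ^ n • 𝟙 (koszulCx M (pw fs n))) (f ^ m • 𝟙 (koszulCx M (pw fs m)))
      (koszulTrans M n m h fs) (f ^ (m - n) • koszulTrans M n m h fs) comm j (j + 1) rfl c
    calc (ι0 M (pw (f :: fs) m) j hj').hom ((homologyMap (koszulTrans M n m h (f :: fs)) j).hom c)
        = (ι0 M (pw fs m) (j + 1) h2).hom ((cδ (f ^ m • 𝟙 (koszulCx M (pw fs m))) j (j + 1) rfl).hom
            ((homologyMap (mappingCone.map _ _ (koszulTrans M n m h fs)
              (f ^ (m - n) • koszulTrans M n m h fs) comm) j).hom c)) := rfl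
      _ = (ι0 M (pw fs m) (j + 1) h2).hom ((homologyMap (koszulTrans M n m h fs) (j + 1)).hom
            ((cδ (f ^ n • 𝟙 (koszulCx M (pw fs n))) j (j + 1) rfl).hom c)) :=
          congrArg (ι0 M (pw fs m) (j + 1) h2).hom e
      _ = (ι0 M (pw fs n) (j + 1) h1).hom
            ((cδ (f ^ n • 𝟙 (koszulCx M (pw fs n))) j (j + 1) rfl).hom c) :=
          ι0_trans M n m h fs (j + 1) h1 h2 _
      _ = _ := rfl

theorem ι0_nat {M N : ModuleCat.{u} A} (g : M ⟶ N) : ∀ (gs : List A) (j : ℤ)
    (hj : j + (gs.length : ℤ) = 0) (c : (koszulCx M gs).homology j),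
    (ι0 N gs j hj).hom ((homologyMap (koszulMap g gs) j).hom c) = g.hom ((ι0 M gs j hj).hom c)
  | [], j, hj, c => single0_nat g j (by simpa using hj) c
  | x :: gs, j, hj, c => by
    have h1 : j + 1 + (gs.length : ℤ) = 0 := by
      simp only [List.length_cons, Nat.cast_add, Nat.cast_one] at hj
      omega
    have comm : (x • 𝟙 (koszulCx M gs)) ≫ koszulMap g gs = koszulMap g gs ≫ (x • 𝟙 (koszulCx N gs)) := by
      simp only [Linear.smul_comp, Linear.comp_smul, Category.id_comp, Category.comp_id]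
    have e := cδ_nat (x • 𝟙 (koszulCx M gs)) (x • 𝟙 (koszulCx N gs))
      (koszulMap g gs) (koszulMap g gs) comm j (j + 1) rfl c
    calc (ι0 N (x :: gs) j hj).hom ((homologyMap (koszulMap g (x :: gs)) j).hom c)
        = (ι0 N gs (j + 1) h1).hom ((cδ (x • 𝟙 (koszulCx N gs)) j (j + 1) rfl).hom
            ((homologyMap (mappingCone.map _ _ (koszulMap g gs) (koszulMap g gs) comm) j).hom c)) := rfl
      _ = (ι0 N gs (j + 1) h1).hom ((homologyMap (koszulMap g gs) (j + 1)).hom
            ((cδ (x • 𝟙 (koszulCx M gs)) j (j + 1) rfl).hom c)) :=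
          congrArg (ι0 N gs (j + 1) h1).hom e
      _ = g.hom ((ι0 M gs (j + 1) h1).hom ((cδ (x • 𝟙 (koszulCx M gs)) j (j + 1) rfl).hom c)) :=
          ι0_nat g gs (j + 1) h1 _
      _ = _ := rfl

end Groth.Agent.Lib.T2H4.KosLim
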