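import Mathlib
import Groth.Prelude.Def_ega3
import Groth.Agent.Lib.T2H4KosLim2
import Groth.Agent.Lib.Helper1ExtCech3

/-! Vanishing of the direct limit Koszul cohomology of an injective module (helper4). -/

set_option autoImplicit false
set_option linter.style.haveILetI false
universe u
open CategoryTheory CategoryTheory.Limits

namespace Groth.Agent.Lib.T2H4.KosLim

open CochainComplex HomologicalComplex CohIII Groth.Agent.Lib.Helper21 Groth.Agent.Helper13Kz

variable {A : Type u} [CommRing A]

lemma mem_torsionSub_span_iff (fs : List A) (M : Type u) [AddCommGroup M] [Module A M] (m : M) :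
    m ∈ DRing.torsionSub (Ideal.span {x : A | x ∈ fs}) M ↔ ∀ g ∈ fs, ∃ k : ℕ, g ^ k • m = 0 := by
  induction fs with
  | nil =>
    constructor
    · intro _ g hg
      exact absurd hg List.not_mem_nil
    · intro _
      refine ⟨1, fun a ha => ?_⟩
      have h0 : {x : A | x ∈ ([] : List A)} = ∅ := by
        ext x
        simp
      rw [h0, Ideal.span_empty, pow_one] at ha
      rw [(Ideal.mem_bot.1 ha), zero_smul]
  | cons f fs ih =>
    rw [Groth.Agent.Lib.Helper1.ExtCech.span_cons,
      Groth.Agent.Lib.Helper1.ExtCech.mem_torsionSub_sup_iff, ih]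
    constructor
    · rintro ⟨h1, h2⟩ g hg
      rcases List.mem_cons.1 hg with rfl | hg'
      · exact h2
      · exact h1 g hg'
    · intro h
      exact ⟨fun g hg => h g (List.mem_cons_of_mem _ hg), h f List.mem_cons_self⟩

lemma comm_nm (M : ModuleCat.{u} A) (f : A) (fs : List A) (n m : ℕ) (h : n ≤ m) :
    (f ^ n • 𝟙 (koszulCx M (pw fs n))) ≫ (f ^ (m - n) • koszulTrans M n m h fs) =
      koszulTrans M n m h fs ≫ (f ^ m • 𝟙 (koszulCx M (pw fs m))) := by
  simp only [Linear.smul_comp, Linear.comp_smul, Category.id_comp, Category.comp_id,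
    smul_smul, ← pow_add, Nat.sub_add_cancel h]

theorem dies [IsNoetherianRing A] (E : Type u) [AddCommGroup E] [Module A E]
    [Module.Injective A E] : ∀ (fs : List A) (j : ℤ), 0 < j + (fs.length : ℤ) →
    ∀ (n : ℕ) (c : (koszulCx (ModuleCat.of A E) (pw fs n)).homology j),
      ∃ (m : ℕ) (h : n ≤ m),
        (homologyMap (koszulTrans (ModuleCat.of A E) n m h fs) j).hom c = 0
  | [], j, hj, n, c => by
    have hj' : 0 < j := by simpa using hj
    have hsub : Subsingleton ((koszulCx (ModuleCat.of A E) (pw [] n)).homology j) :=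
      ModuleCat.subsingleton_of_isZero
        (isZero_homology_of_isZero_X _ j (isZero_koszulCx_X_pos (ModuleCat.of A E) [] j hj'))
    exact ⟨n, le_rfl, by rw [Subsingleton.elim c 0, map_zero]⟩
  | f :: fs, j, hj, n, c => by
    have hlen : (((f :: fs).length : ℕ) : ℤ) = (fs.length : ℤ) + 1 := by
      rw [List.length_cons]
      push_cast
      rfl
    have hj1 : 0 < (j + 1) + (fs.length : ℤ) := by omega
    obtain ⟨m₁, h₁, hd⟩ := dies E fs (j + 1) hj1 n
      ((cδ (f ^ n • 𝟙 (koszulCx (ModuleCat.of A E) (pw fs n))) j (j + 1) rfl).hom c)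
    obtain ⟨y, hy⟩ := exists_ci_of_cδ (f ^ m₁ • 𝟙 (koszulCx (ModuleCat.of A E) (pw fs m₁)))
      j (j + 1) rfl
      ((homologyMap (koszulTrans (ModuleCat.of A E) n m₁ h₁ (f :: fs)) j).hom c)
      ((cδ_nat (f ^ n • 𝟙 (koszulCx (ModuleCat.of A E) (pw fs n)))
        (f ^ m₁ • 𝟙 (koszulCx (ModuleCat.of A E) (pw fs m₁)))
        (koszulTrans (ModuleCat.of A E) n m₁ h₁ fs)
        (f ^ (m₁ - n) • koszulTrans (ModuleCat.of A E) n m₁ h₁ fs)
        (comm_nm _ f fs n m₁ h₁) j (j + 1) rfl c).trans hd)
    have key : ∃ (m₂ : ℕ) (h₂ : m₁ ≤ m₂),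
        (homologyMap (koszulTrans (ModuleCat.of A E) m₁ m₂ h₂ (f :: fs)) j).hom
          ((homologyMap (koszulTrans (ModuleCat.of A E) n m₁ h₁ (f :: fs)) j).hom c) = 0 := by
      by_cases hj0 : 0 < j + (fs.length : ℤ)
      · obtain ⟨m₂, h₂, hy2⟩ := dies E fs j hj0 m₁ y
        refine ⟨m₂, h₂, ?_⟩
        have e := ci_nat (f ^ m₁ • 𝟙 (koszulCx (ModuleCat.of A E) (pw fs m₁)))
          (f ^ m₂ • 𝟙 (koszulCx (ModuleCat.of A E) (pw fs m₂)))
          (koszulTrans (ModuleCat.of A E) m₁ m₂ h₂ fs)
          (f ^ (m₂ - m₁) • koszulTrans (ModuleCat.of A E) m₁ m₂ h₂ fs)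
          (comm_nm _ f fs m₁ m₂ h₂) j y
        rw [← hy]
        refine e.trans ?_
        rw [smul_map_apply, hy2, smul_zero, map_zero]
        rfl
      · have hj0' : j + (fs.length : ℤ) = 0 := by omega
        have hlm₁ : j + ((pw fs m₁).length : ℤ) = 0 := by
          rw [show (pw fs m₁).length = fs.length from List.length_map _]
          exact hj0'
        obtain ⟨hinj₁, hr₁⟩ := ι0_spec (ModuleCat.of A E) (pw fs m₁) j hlm₁
        have hxk : ∀ g ∈ pw fs m₁, g • ((ι0 (ModuleCat.of A E) (pw fs m₁) j hlm₁).hom y : E) = 0 :=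
          (hr₁ _).1 ⟨y, rfl⟩
        have hxJ : ((ι0 (ModuleCat.of A E) (pw fs m₁) j hlm₁).hom y : E) ∈
            DRing.torsionSub (Ideal.span {a : A | a ∈ fs}) E := by
          rw [mem_torsionSub_span_iff]
          intro g hg
          exact ⟨m₁, hxk (g ^ m₁) (List.mem_map.2 ⟨g, hg, rfl⟩)⟩
        haveI := Groth.Agent.Lib.Helper1.ExtCech.injective_torsionSub
          (Ideal.span {a : A | a ∈ fs}) E
        obtain ⟨y', t, ht⟩ := Groth.Agent.Lib.Helper1.ExtCech.exists_div_of_injective
          (DRing.torsionSub (Ideal.span {a : A | a ∈ fs}) E) f ⟨_, hxJ⟩ m₁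
        have ht' : f ^ t • (f ^ m₁ • (y' : E)) =
            f ^ t • ((ι0 (ModuleCat.of A E) (pw fs m₁) j hlm₁).hom y : E) := by
          have h0 := congrArg Subtype.val ht
          simp only [Submodule.coe_smul, Submodule.coe_sub, Submodule.coe_zero, smul_sub] at h0
          exact sub_eq_zero.1 h0
        obtain ⟨N', -, hN'⟩ := Groth.Agent.Lib.Helper1.ExtCech.exists_uniform_pow fs (y' : E)
          ((mem_torsionSub_span_iff fs E _).1 y'.2)
        have h₂ : m₁ ≤ max (m₁ + t) N' := le_trans (Nat.le_add_right _ _) (le_max_left _ _)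
        have hlm₂ : j + ((pw fs (max (m₁ + t) N')).length : ℤ) = 0 := by
          rw [show (pw fs (max (m₁ + t) N')).length = fs.length from List.length_map _]
          exact hj0'
        obtain ⟨hinj₂, hr₂⟩ := ι0_spec (ModuleCat.of A E) (pw fs (max (m₁ + t) N')) j hlm₂
        have hy'k : ∀ g ∈ pw fs (max (m₁ + t) N'), g • (y' : E) = 0 := by
          intro g hg
          obtain ⟨g₀, hg₀, rfl⟩ := List.mem_map.1 hg
          have e0 : max (m₁ + t) N' = (max (m₁ + t) N' - N') + N' :=
            (Nat.sub_add_cancel (le_max_right _ _)).symm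
          show g₀ ^ (max (m₁ + t) N') • (y' : E) = 0
          rw [e0, pow_add, mul_smul, hN' g₀ hg₀, smul_zero]
        obtain ⟨z, hz⟩ := (hr₂ (y' : E)).2 hy'k
        refine ⟨max (m₁ + t) N', h₂, ?_⟩
        have e := ci_nat (f ^ m₁ • 𝟙 (koszulCx (ModuleCat.of A E) (pw fs m₁)))
          (f ^ (max (m₁ + t) N') • 𝟙 (koszulCx (ModuleCat.of A E) (pw fs (max (m₁ + t) N'))))
          (koszulTrans (ModuleCat.of A E) m₁ (max (m₁ + t) N') h₂ fs)
          (f ^ (max (m₁ + t) N' - m₁) • koszulTrans (ModuleCat.of A E) m₁ (max (m₁ + t) N') h₂ fs)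
          (comm_nm _ f fs m₁ (max (m₁ + t) N') h₂) j y
        rw [← hy]
        refine e.trans ?_
        have hb : (homologyMap (f ^ (max (m₁ + t) N' - m₁) •
            koszulTrans (ModuleCat.of A E) m₁ (max (m₁ + t) N') h₂ fs) j).hom y =
            (homologyMap (f ^ (max (m₁ + t) N') •
              𝟙 (koszulCx (ModuleCat.of A E) (pw fs (max (m₁ + t) N')))) j).hom z := by
          apply hinj₂
          rw [smul_map_apply, smul_id_apply, map_smul, map_smul,
            ι0_trans (ModuleCat.of A E) m₁ (max (m₁ + t) N') h₂ fs j hlm₁ hlm₂ y, hz]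
          have e3 : f ^ (max (m₁ + t) N') • (y' : E) =
              f ^ (max (m₁ + t) N' - m₁ - t) • (f ^ t • (f ^ m₁ • (y' : E))) := by
            rw [smul_smul, smul_smul, ← pow_add, ← pow_add]
            congr 2
            have := le_max_left (m₁ + t) N'
            omega
          rw [e3, ht', smul_smul, ← pow_add]
          congr 2
          have := le_max_left (m₁ + t) N'
          omega
        rw [hb, ci_map]
        rfl
    obtain ⟨m₂, h₂, hk⟩ := key
    refine ⟨m₂, h₁.trans h₂, ?_⟩
    have e4 := trans_comp (ModuleCat.of A E) n m₁ m₂ h₁ h₂ (f :: fs)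
    rw [← e4, homologyMap_comp]
    exact hk

theorem subsingleton_koszulHLim [IsNoetherianRing A] (fs : List A) (E : Type u) [AddCommGroup E]
    [Module A E] (hE : Module.Injective A E) (i : ℕ) (hi : 0 < i) :
    Subsingleton (koszulHLim fs (ModuleCat.of A E) i) := by
  show Subsingleton (Module.DirectLimit
    (fun n : ℕ => (koszulHPow fs (ModuleCat.of A E) i n : Type u))
    (fun n m h => (homologyMap (koszulTrans (ModuleCat.of A E) n m h fs)
      ((i : ℤ) - fs.length)).hom))
  have key : ∀ z : Module.DirectLimit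
      (fun n : ℕ => (koszulHPow fs (ModuleCat.of A E) i n : Type u))
      (fun n m h => (homologyMap (koszulTrans (ModuleCat.of A E) n m h fs)
        ((i : ℤ) - fs.length)).hom), z = 0 := by
    intro z
    induction z using Module.DirectLimit.induction_on with
    | ih n c =>
      obtain ⟨m, h, hm⟩ := dies E fs ((i : ℤ) - fs.length) (by omega) n c
      rw [← Module.DirectLimit.of_f (hij := h), hm, map_zero]
  exact ⟨fun x y => (key x).trans (key y).symm⟩

end Groth.Agent.Lib.T2H4.KosLim
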