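import Mathlib
import Groth.Prelude.Def_ega3
import Groth.Agent.Lib.T2H4KosLim3
import Groth.Agent.Lib.Helper9DeltaDerived

/-! The direct limit Koszul cohomology as an effaceable δ-functor (helper4). -/

set_option autoImplicit false
set_option linter.style.haveILetI false
universe u
open CategoryTheory CategoryTheory.Limits

namespace Groth.Agent.Lib.T2H4.KosLim

open CochainComplex HomologicalComplex CohIII Groth.Agent.Lib.Helper21 Groth.Agent.Helper13Kz

variable {A : Type u} [CommRing A]

section Basic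

variable (fs : List A)

/-- the degree in which `koszulH fs M p` sits -/
abbrev dg (p : ℕ) : ℤ := (p : ℤ) - (fs.length : ℤ)

lemma dg_succ (p : ℕ) : (ComplexShape.up ℤ).Rel (dg fs p) (dg fs (p + 1)) := by
  show dg fs p + 1 = dg fs (p + 1)
  unfold dg
  push_cast
  ring

/-- the modules of the direct system -/
noncomputable abbrev Gk (M : ModuleCat.{u} A) (p : ℕ) (k : ℕ) : ModuleCat.{u} A :=
  (koszulCx M (pw fs k)).homology (dg fs p)

/-- the transition maps -/
noncomputable abbrev tr (M : ModuleCat.{u} A) (p : ℕ) (n m : ℕ) (h : n ≤ m) :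
    Gk fs M p n →ₗ[A] Gk fs M p m :=
  (homologyMap (koszulTrans M n m h fs) (dg fs p)).hom

/-- the direct limit (definitionally `CohIII.koszulHLim fs M p`) -/
abbrev DL (M : ModuleCat.{u} A) (p : ℕ) : Type u :=
  Module.DirectLimit (fun k => (Gk fs M p k : Type u)) (tr fs M p)

instance directedSystem (M : ModuleCat.{u} A) (p : ℕ) :
    DirectedSystem (fun k => (Gk fs M p k : Type u)) (fun i j h => tr fs M p i j h) where
  map_self i x := by
    show (homologyMap (koszulTrans M i i le_rfl fs) (dg fs p)).hom x = x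
    rw [trans_self, homologyMap_id]
    rfl
  map_map k j i hij hjk x := by
    show (homologyMap (koszulTrans M j k hjk fs) (dg fs p)).hom
      ((homologyMap (koszulTrans M i j hij fs) (dg fs p)).hom x) =
      (homologyMap (koszulTrans M i k (hij.trans hjk) fs) (dg fs p)).hom x
    rw [← trans_comp M i j k hij hjk fs, homologyMap_comp]
    rfl

/-- the level maps induced by a morphism of modules -/
noncomputable abbrev lv {M N : ModuleCat.{u} A} (g : M ⟶ N) (p : ℕ) (k : ℕ) :
    Gk fs M p k →ₗ[A] Gk fs N p k :=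
  (homologyMap (koszulMap g (pw fs k)) (dg fs p)).hom

lemma lv_compat {M N : ModuleCat.{u} A} (g : M ⟶ N) (p : ℕ) (i j : ℕ) (h : i ≤ j) :
    lv fs g p j ∘ₗ tr fs M p i j h = tr fs N p i j h ∘ₗ lv fs g p i := by
  have e := congrArg (fun t => homologyMap t (dg fs p)) (koszulMap_trans g i j h fs)
  simp only [homologyMap_comp] at e
  have e' := congrArg ModuleCat.Hom.hom e
  simp only [ModuleCat.hom_comp] at e'
  exact e'.symm

/-- the induced map on the direct limits -/
noncomputable def dlMap {M N : ModuleCat.{u} A} (g : M ⟶ N) (p : ℕ) : DL fs M p →ₗ[A] DL fs N p :=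
  Module.DirectLimit.map (lv fs g p) (lv_compat fs g p)

lemma dlMap_of {M N : ModuleCat.{u} A} (g : M ⟶ N) (p : ℕ) (k : ℕ) (c : Gk fs M p k) :
    dlMap fs g p (Module.DirectLimit.of A ℕ (fun k => (Gk fs M p k : Type u)) (tr fs M p) k c) =
      Module.DirectLimit.of A ℕ (fun k => (Gk fs N p k : Type u)) (tr fs N p) k
        (lv fs g p k c) :=
  Module.DirectLimit.map_apply_of _ _ _

lemma lv_id (M : ModuleCat.{u} A) (p k : ℕ) : lv fs (𝟙 M) p k = LinearMap.id := by
  show (homologyMap (koszulMap (𝟙 M) (pw fs k)) (dg fs p)).hom = _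
  rw [koszulMap_id, homologyMap_id]
  rfl

lemma lv_comp {M N P : ModuleCat.{u} A} (g : M ⟶ N) (h : N ⟶ P) (p k : ℕ) :
    lv fs (g ≫ h) p k = lv fs h p k ∘ₗ lv fs g p k := by
  show (homologyMap (koszulMap (g ≫ h) (pw fs k)) (dg fs p)).hom = _
  rw [koszulMap_comp, homologyMap_comp]
  rfl

/-- the direct limit Koszul cohomology functors -/
noncomputable def T (p : ℕ) : ModuleCat.{u} A ⥤ ModuleCat.{u} A where
  obj M := ModuleCat.of A (DL fs M p)
  map g := ModuleCat.ofHom (dlMap fs g p)
  map_id M := by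
    apply ModuleCat.hom_ext
    apply LinearMap.ext
    intro z
    induction z using Module.DirectLimit.induction_on with
    | ih k c =>
      simp only [ModuleCat.hom_ofHom, ModuleCat.hom_id, LinearMap.id_apply]
      rw [dlMap_of, lv_id]
      rfl
  map_comp {M N P} g h := by
    apply ModuleCat.hom_ext
    apply LinearMap.ext
    intro z
    induction z using Module.DirectLimit.induction_on with
    | ih k c =>
      simp only [ModuleCat.hom_ofHom, ModuleCat.hom_comp, LinearMap.comp_apply]
      rw [dlMap_of, dlMap_of, dlMap_of, lv_comp]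
      rfl

end Basic

section Delta

open Groth.Agent.Lib.Helper9.DeltaDerived

variable (fs : List A)

lemma se_data (S : ShortComplex (ModuleCat.{u} A)) (hS : S.ShortExact) :
    Function.Injective S.f.hom ∧ Function.Surjective S.g.hom ∧ Function.Exact S.f.hom S.g.hom :=
  ⟨(ModuleCat.mono_iff_injective _).mp hS.mono_f, (ModuleCat.epi_iff_surjective _).mp hS.epi_g,
    (ShortComplex.ShortExact.moduleCat_exact_iff_function_exact S).mp hS.exact⟩

/-- the short complex of Koszul complexes -/
noncomputable def kSC (S : ShortComplex (ModuleCat.{u} A)) (hS : S.ShortExact) (gs : List A) :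
    ShortComplex (CochainComplex (ModuleCat.{u} A) ℤ) :=
  ShortComplex.mk (koszulMap S.f gs) (koszulMap S.g gs)
    (koszulMap_comp_eq_zero S.f S.g (se_data S hS).2.2 gs)

lemma kSC_shortExact (S : ShortComplex (ModuleCat.{u} A)) (hS : S.ShortExact) (gs : List A) :
    (kSC S hS gs).ShortExact :=
  koszul_shortExact S.f S.g (se_data S hS).1 (se_data S hS).2.1 (se_data S hS).2.2 gs

/-- transition morphism of short complexes -/
noncomputable def kSCtrans (S : ShortComplex (ModuleCat.{u} A)) (hS : S.ShortExact) (n m : ℕ)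
    (h : n ≤ m) : kSC S hS (pw fs n) ⟶ kSC S hS (pw fs m) where
  τ₁ := koszulTrans S.X₁ n m h fs
  τ₂ := koszulTrans S.X₂ n m h fs
  τ₃ := koszulTrans S.X₃ n m h fs
  comm₁₂ := (koszulMap_trans S.f n m h fs).symm
  comm₂₃ := (koszulMap_trans S.g n m h fs).symm

/-- morphism induced by a morphism of short complexes -/
noncomputable def kSCmap {S S' : ShortComplex (ModuleCat.{u} A)} (φ : S ⟶ S') (hS : S.ShortExact)
    (hS' : S'.ShortExact) (gs : List A) : kSC S hS gs ⟶ kSC S' hS' gs where
  τ₁ := koszulMap φ.τ₁ gs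
  τ₂ := koszulMap φ.τ₂ gs
  τ₃ := koszulMap φ.τ₃ gs
  comm₁₂ := by
    show koszulMap φ.τ₁ gs ≫ koszulMap S'.f gs = koszulMap S.f gs ≫ koszulMap φ.τ₂ gs
    rw [← koszulMap_comp, ← koszulMap_comp, φ.comm₁₂]
  comm₂₃ := by
    show koszulMap φ.τ₂ gs ≫ koszulMap S'.g gs = koszulMap S.g gs ≫ koszulMap φ.τ₃ gs
    rw [← koszulMap_comp, ← koszulMap_comp, φ.comm₂₃]

/-- level connecting maps -/
noncomputable abbrev dk (S : ShortComplex (ModuleCat.{u} A)) (hS : S.ShortExact) (p k : ℕ) :
    Gk fs S.X₃ p k →ₗ[A] Gk fs S.X₁ (p + 1) k :=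
  ((kSC_shortExact S hS (pw fs k)).δ (dg fs p) (dg fs (p + 1)) (dg_succ fs p)).hom

lemma dk_compat (S : ShortComplex (ModuleCat.{u} A)) (hS : S.ShortExact) (p : ℕ) (i j : ℕ)
    (h : i ≤ j) :
    dk fs S hS p j ∘ₗ tr fs S.X₃ p i j h = tr fs S.X₁ (p + 1) i j h ∘ₗ dk fs S hS p i := by
  have e := HomologySequence.δ_naturality (kSCtrans fs S hS i j h) (kSC_shortExact S hS (pw fs i))
    (kSC_shortExact S hS (pw fs j)) (dg fs p) (dg fs (p + 1)) (dg_succ fs p)
  have e' := congrArg ModuleCat.Hom.hom e
  simp only [ModuleCat.hom_comp] at e'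
  exact e'.symm

/-- the connecting map on the direct limits -/
noncomputable def dlδ (S : ShortComplex (ModuleCat.{u} A)) (hS : S.ShortExact) (p : ℕ) :
    DL fs S.X₃ p →ₗ[A] DL fs S.X₁ (p + 1) :=
  Module.DirectLimit.map (dk fs S hS p) (dk_compat fs S hS p)

lemma dlδ_of (S : ShortComplex (ModuleCat.{u} A)) (hS : S.ShortExact) (p : ℕ) (k : ℕ)
    (c : Gk fs S.X₃ p k) :
    dlδ fs S hS p (Module.DirectLimit.of A ℕ (fun k => (Gk fs S.X₃ p k : Type u))
      (tr fs S.X₃ p) k c) =
      Module.DirectLimit.of A ℕ (fun k => (Gk fs S.X₁ (p + 1) k : Type u)) (tr fs S.X₁ (p + 1)) k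
        (dk fs S hS p k c) :=
  Module.DirectLimit.map_apply_of _ _ _

lemma T_map_apply {M N : ModuleCat.{u} A} (g : M ⟶ N) (p : ℕ) (z : DL fs M p) :
    ((T fs p).map g).hom z = dlMap fs g p z := rfl

/-- the δ-functor structure -/
noncomputable def effDelta [IsNoetherianRing A] : EffDelta (T fs) where
  δ S hS n := ModuleCat.ofHom (dlδ fs S hS n)
  δ_nat {S S'} hS hS' φ n := by
    apply ModuleCat.hom_ext
    apply LinearMap.ext
    intro z
    induction z using Module.DirectLimit.induction_on with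
    | ih k c =>
      show dlδ fs S' hS' n (dlMap fs φ.τ₃ n (Module.DirectLimit.of A ℕ
        (fun k => (Gk fs S.X₃ n k : Type u)) (tr fs S.X₃ n) k c)) =
        dlMap fs φ.τ₁ (n + 1) (dlδ fs S hS n (Module.DirectLimit.of A ℕ
        (fun k => (Gk fs S.X₃ n k : Type u)) (tr fs S.X₃ n) k c))
      rw [dlMap_of, dlδ_of, dlδ_of, dlMap_of]
      congr 1
      have e := HomologySequence.δ_naturality (kSCmap φ hS hS' (pw fs k))
        (kSC_shortExact S hS (pw fs k)) (kSC_shortExact S' hS' (pw fs k))
        (dg fs n) (dg fs (n + 1)) (dg_succ fs n)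
      exact (congrArg (fun t => t.hom c) e).symm
  comp_δ S hS n := by
    apply ModuleCat.hom_ext
    apply LinearMap.ext
    intro z
    induction z using Module.DirectLimit.induction_on with
    | ih k c =>
      show dlδ fs S hS n (dlMap fs S.g n (Module.DirectLimit.of A ℕ
        (fun k => (Gk fs S.X₂ n k : Type u)) (tr fs S.X₂ n) k c)) = 0
      rw [dlMap_of, dlδ_of]
      have e := (kSC_shortExact S hS (pw fs k)).comp_δ (dg fs n) (dg fs (n + 1)) (dg_succ fs n)
      have e' : dk fs S hS n k (lv fs S.g n k c) = 0 := congrArg (fun t => t.hom c) e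
      rw [e', map_zero]
  exact₃ S hS n := by
    rw [ShortComplex.moduleCat_exact_iff]
    intro z hz
    induction z using Module.DirectLimit.induction_on with
    | ih k c =>
      have hz' : dlδ fs S hS n (Module.DirectLimit.of A ℕ (fun k => (Gk fs S.X₃ n k : Type u))
          (tr fs S.X₃ n) k c) = 0 := hz
      rw [dlδ_of] at hz'
      obtain ⟨m, hkm, hm⟩ := Module.DirectLimit.of.zero_exact hz'
      have h1 : dk fs S hS n m (tr fs S.X₃ n k m hkm c) = 0 := by
        have := LinearMap.congr_fun (dk_compat fs S hS n k m hkm) c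
        simp only [LinearMap.comp_apply] at this
        rw [this]
        exact hm
      have hex := (kSC_shortExact S hS (pw fs m)).homology_exact₃ (dg fs n) (dg fs (n + 1))
        (dg_succ fs n)
      rw [ShortComplex.moduleCat_exact_iff] at hex
      obtain ⟨y, hy'⟩ : ∃ y : Gk fs S.X₂ n m, lv fs S.g n m y = tr fs S.X₃ n k m hkm c :=
        hex (tr fs S.X₃ n k m hkm c) h1
      refine ⟨Module.DirectLimit.of A ℕ (fun k => (Gk fs S.X₂ n k : Type u)) (tr fs S.X₂ n) m y, ?_⟩
      show dlMap fs S.g n _ = _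
      rw [dlMap_of, hy', Module.DirectLimit.of_f]
  δ_comp S hS n := by
    apply ModuleCat.hom_ext
    apply LinearMap.ext
    intro z
    induction z using Module.DirectLimit.induction_on with
    | ih k c =>
      show dlMap fs S.f (n + 1) (dlδ fs S hS n (Module.DirectLimit.of A ℕ
        (fun k => (Gk fs S.X₃ n k : Type u)) (tr fs S.X₃ n) k c)) = 0
      rw [dlδ_of, dlMap_of]
      have e := (kSC_shortExact S hS (pw fs k)).δ_comp (dg fs n) (dg fs (n + 1)) (dg_succ fs n)
      have e' : lv fs S.f (n + 1) k (dk fs S hS n k c) = 0 := congrArg (fun t => t.hom c) e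
      rw [e', map_zero]
  exact₁ S hS n := by
    rw [ShortComplex.moduleCat_exact_iff]
    intro z hz
    induction z using Module.DirectLimit.induction_on with
    | ih k c =>
      have hz' : dlMap fs S.f (n + 1) (Module.DirectLimit.of A ℕ
          (fun k => (Gk fs S.X₁ (n + 1) k : Type u)) (tr fs S.X₁ (n + 1)) k c) = 0 := hz
      rw [dlMap_of] at hz'
      obtain ⟨m, hkm, hm⟩ := Module.DirectLimit.of.zero_exact hz'
      have h1 : lv fs S.f (n + 1) m (tr fs S.X₁ (n + 1) k m hkm c) = 0 := by
        have := LinearMap.congr_fun (lv_compat fs S.f (n + 1) k m hkm) c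
        simp only [LinearMap.comp_apply] at this
        rw [this]
        exact hm
      have hex := (kSC_shortExact S hS (pw fs m)).homology_exact₁ (dg fs n) (dg fs (n + 1))
        (dg_succ fs n)
      rw [ShortComplex.moduleCat_exact_iff] at hex
      obtain ⟨y, hy'⟩ : ∃ y : Gk fs S.X₃ n m, dk fs S hS n m y = tr fs S.X₁ (n + 1) k m hkm c :=
        hex (tr fs S.X₁ (n + 1) k m hkm c) h1
      refine ⟨Module.DirectLimit.of A ℕ (fun k => (Gk fs S.X₃ n k : Type u)) (tr fs S.X₃ n) m y, ?_⟩
      show dlδ fs S hS n _ = _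
      rw [dlδ_of, hy', Module.DirectLimit.of_f]
  isZero J _ n := by
    have : Module.Injective A J := Module.injective_module_of_injective_object A J
    have hsub : Subsingleton (koszulHLim fs J (n + 1)) :=
      subsingleton_koszulHLim fs J this (n + 1) (Nat.succ_pos n)
    exact @ModuleCat.isZero_of_subsingleton _ _ _ hsub

end Delta

end Groth.Agent.Lib.T2H4.KosLim
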