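import Mathlib
import Groth.Prelude.Def_ega3
import Groth.Prelude.Def_Wider
import Groth.Agent.Lib.T2H4KosLim4
import Groth.Agent.Lib.Helper9LCDelta
import Groth.Agent.Lib.Helper1ExtCech4

/-! `H^0` of the direct limit Koszul cohomology is `Γ_I`; comparison with local cohomology
(helper4). -/

set_option autoImplicit false
set_option linter.style.haveILetI false
universe u
open CategoryTheory CategoryTheory.Limits

namespace Groth.Agent.Lib.T2H4.KosLim

open CochainComplex HomologicalComplex CohIII Groth.Agent.Lib.Helper21 Groth.Agent.Helper13Kz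

variable {A : Type u} [CommRing A]

section H0

variable (fs : List A)

lemma dg_zero_add (k : ℕ) : dg fs 0 + ((pw fs k).length : ℤ) = 0 := by
  rw [show (pw fs k).length = fs.length from List.length_map _]
  unfold dg
  push_cast
  ring

/-- level maps to `M` -/
noncomputable abbrev i0 (M : ModuleCat.{u} A) (k : ℕ) : Gk fs M 0 k →ₗ[A] M :=
  (ι0 M (pw fs k) (dg fs 0) (dg_zero_add fs k)).hom

/-- the map `colim_k H^0(f^k; M) → M` -/
noncomputable def lift0 (M : ModuleCat.{u} A) : DL fs M 0 →ₗ[A] M :=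
  Module.DirectLimit.lift A ℕ (fun k => (Gk fs M 0 k : Type u)) (tr fs M 0) (i0 fs M)
    (fun i j hij x => ι0_trans M i j hij fs (dg fs 0) (dg_zero_add fs i) (dg_zero_add fs j) x)

lemma lift0_of (M : ModuleCat.{u} A) (k : ℕ) (c : Gk fs M 0 k) :
    lift0 fs M (Module.DirectLimit.of A ℕ (fun k => (Gk fs M 0 k : Type u)) (tr fs M 0) k c) =
      i0 fs M k c :=
  Module.DirectLimit.lift_of _ _ _

lemma lift0_injective (M : ModuleCat.{u} A) : Function.Injective (lift0 fs M) := by
  rw [injective_iff_map_eq_zero]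
  intro z hz
  induction z using Module.DirectLimit.induction_on with
  | ih k c =>
    rw [lift0_of] at hz
    have hinj := (ι0_spec M (pw fs k) (dg fs 0) (dg_zero_add fs k)).1
    have : c = 0 := hinj (hz.trans (map_zero _).symm)
    rw [this, map_zero]

lemma lift0_mem (M : ModuleCat.{u} A) (z : DL fs M 0) :
    lift0 fs M z ∈ DRing.torsionSub (Ideal.span {x : A | x ∈ fs}) M := by
  induction z using Module.DirectLimit.induction_on with
  | ih k c =>
    rw [lift0_of, mem_torsionSub_span_iff]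
    intro g hg
    have hr := ((ι0_spec M (pw fs k) (dg fs 0) (dg_zero_add fs k)).2 (i0 fs M k c)).1 ⟨c, rfl⟩
    exact ⟨k, hr (g ^ k) (List.mem_map.2 ⟨g, hg, rfl⟩)⟩

lemma exists_lift0 (M : ModuleCat.{u} A) (x : M)
    (hx : x ∈ DRing.torsionSub (Ideal.span {x : A | x ∈ fs}) M) : ∃ z, lift0 fs M z = x := by
  rw [mem_torsionSub_span_iff] at hx
  obtain ⟨N, -, hN⟩ := Groth.Agent.Lib.Helper1.ExtCech.exists_uniform_pow fs x hx
  have hk : ∀ g ∈ pw fs N, g • x = 0 := by
    intro g hg
    obtain ⟨g₀, hg₀, rfl⟩ := List.mem_map.1 hg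
    exact hN g₀ hg₀
  obtain ⟨c, hc⟩ := ((ι0_spec M (pw fs N) (dg fs 0) (dg_zero_add fs N)).2 x).2 hk
  exact ⟨Module.DirectLimit.of A ℕ (fun k => (Gk fs M 0 k : Type u)) (tr fs M 0) N c, by
    rw [lift0_of]
    exact hc⟩

lemma lift0_nat {M N : ModuleCat.{u} A} (g : M ⟶ N) (z : DL fs M 0) :
    lift0 fs N (dlMap fs g 0 z) = g.hom (lift0 fs M z) := by
  induction z using Module.DirectLimit.induction_on with
  | ih k c =>
    rw [dlMap_of, lift0_of, lift0_of]
    exact ι0_nat g (pw fs k) (dg fs 0) (dg_zero_add fs k) c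

/-- `H^0` is `Γ_I`, naturally -/
noncomputable def zeroIso : T fs 0 ≅ DRing.gammaI (Ideal.span {x : A | x ∈ fs}) :=
  NatIso.ofComponents (fun M => (LinearEquiv.ofBijective
      (LinearMap.codRestrict (DRing.torsionSub (Ideal.span {x : A | x ∈ fs}) M) (lift0 fs M)
        (lift0_mem fs M))
      ⟨fun x y h => lift0_injective fs M (congrArg Subtype.val h),
        fun ⟨m, hm⟩ => by
          obtain ⟨z, hz⟩ := exists_lift0 fs M m hm
          exact ⟨z, Subtype.ext hz⟩⟩).toModuleIso)
    (fun {M N} g => by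
      apply ModuleCat.hom_ext
      apply LinearMap.ext
      intro z
      apply Subtype.ext
      exact lift0_nat fs g z)

instance additive_T0 : (T fs 0).Additive :=
  Functor.additive_of_iso (zeroIso fs).symm

instance preservesFiniteLimits_T0 : PreservesFiniteLimits (T fs 0) :=
  have : PreservesFiniteLimits (DRing.gammaI (Ideal.span {x : A | x ∈ fs})) := by
    have := Groth.Agent.Lib.Helper9.LCDelta.preservesFiniteLimits_lc_zero
      (Ideal.span {x : A | x ∈ fs})
    exact preservesFiniteLimits_of_natIso (Groth.Agent.Lib.Helper9.LCDelta.zeroIso _)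
  preservesFiniteLimits_of_natIso (zeroIso fs).symm

end H0

section Main

open Groth.Agent.Lib.Helper9.DeltaDerived

theorem nonempty_iso [IsNoetherianRing A] (fs : List A) (M : ModuleCat.{u} A) (i : ℕ) :
    Nonempty ((T fs i).obj M ≅ (localCohomology (Ideal.span {x : A | x ∈ fs}) i).obj M) := by
  obtain ⟨e⟩ := iso_rightDerived (effDelta fs) i
  obtain ⟨e'⟩ := Groth.Agent.Lib.Helper9.LCDelta.nonempty_iso (Ideal.span {x : A | x ∈ fs}) i
  exact ⟨(e ≪≫ RDer.rightDerivedIso (zeroIso fs) i ≪≫ e').app M⟩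

theorem nonempty_linearEquiv [IsNoetherianRing A] (fs : List A) (M : Type u) [AddCommGroup M]
    [Module A M] (i : ℕ) :
    Nonempty (LocCoh.H (Ideal.span {a : A | a ∈ fs}) i M ≃ₗ[A]
      CohIII.koszulHLim fs (ModuleCat.of A M) i) := by
  obtain ⟨e⟩ := nonempty_iso fs (ModuleCat.of A M) i
  exact ⟨e.symm.toLinearEquiv⟩

end Main

end Groth.Agent.Lib.T2H4.KosLim
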