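import Mathlib
import Groth.Prelude.Def_KoszulSh
import Groth.Agent.Lib.Helper13ModAffine

/-!
# Functoriality of Koszul complexes of cosections of `O_X`-modules (helper4)
-/

set_option autoImplicit false
universe u
open CategoryTheory AlgebraicGeometry Opposite TopologicalSpace exteriorPower

namespace Groth.Agent.Lib.T2H4.KoszShMap
open KoszSh Groth.Agent.Helper13ModAffine

/-- two semilinear additive maps agreeing on a spanning set are equal -/
lemma eq_of_semilinear {R R' M N : Type*} [CommRing R] [CommRing R'] [AddCommGroup M] [Module R M]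
    [AddCommGroup N] [Module R' N] (ρ : R →+* R') (g₁ g₂ : M →+ N)
    (h₁ : ∀ (r : R) (x : M), g₁ (r • x) = ρ r • g₁ x)
    (h₂ : ∀ (r : R) (x : M), g₂ (r • x) = ρ r • g₂ x)
    (S : Set M) (hS : Submodule.span R S = ⊤) (h : ∀ x ∈ S, g₁ x = g₂ x) (x : M) :
    g₁ x = g₂ x := by
  have hx : x ∈ Submodule.span R S := by rw [hS]; trivial
  induction hx using Submodule.span_induction with
  | mem x hx => exact h x hx
  | zero => rw [map_zero, map_zero]
  | add x y _ _ hx hy => rw [map_add, map_add, hx, hy]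
  | smul r x _ hx => rw [h₁, h₂, hx]

variable {X : Scheme.{u}} {E F : X.Modules}

/-- a morphism of modules on sections over `U`, as a linear map -/
noncomputable def secLin (f : E ⟶ F) (U : X.Opens) : Γ(E, U) →ₗ[Γ(X, U)] Γ(F, U) where
  toFun e := f.app U e
  map_add' a b := map_add _ a b
  map_smul' r a := Scheme.Modules.Hom.app_smul f r a

@[simp] lemma secLin_apply (f : E ⟶ F) (U : X.Opens) (e : Γ(E, U)) : secLin f U e = f.app U e := rfl

variable {s : E ⟶ Coh.structureModule X} {t : F ⟶ Coh.structureModule X}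

/-- the decomposable sections span -/
lemma span_loc_symm (C : Cx E s) (p : ℕ) (U : X.affineOpens) :
    Submodule.span Γ(X, U.1)
      (Set.range fun e : Fin p → Γ(E, U.1) => (C.loc p U).symm (ιMulti _ p e)) = ⊤ := by
  have h := ιMulti_span Γ(X, U.1) p Γ(E, U.1)
  have h2 : (Set.range fun e : Fin p → Γ(E, U.1) => (C.loc p U).symm (ιMulti _ p e)) =
      (C.loc p U).symm '' (Set.range (ιMulti Γ(X, U.1) p)) := by
    ext x
    constructor
    · rintro ⟨e, rfl⟩
      exact ⟨_, ⟨e, rfl⟩, rfl⟩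
    · rintro ⟨_, ⟨e, rfl⟩, rfl⟩
      exact ⟨e, rfl⟩
  rw [h2]
  have h3 := Submodule.map_span (C.loc p U).symm.toLinearMap (Set.range (ιMulti Γ(X, U.1) p))
  rw [h] at h3
  rw [← LinearEquiv.coe_coe]
  rw [← h3]
  exact Submodule.map_top (C.loc p U).symm.toLinearMap |>.trans
    (LinearMap.range_eq_top.2 (C.loc p U).symm.surjective)

variable (f : E ⟶ F) (C : Cx E s) (D : Cx F t)

/-- the local component of the map of Koszul complexes on an affine open, as a linear map -/
noncomputable def locLin (p : ℕ) (U : X.affineOpens) :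
    Γ(C.K.X p, U.1) →ₗ[Γ(X, U.1)] Γ(D.K.X p, U.1) :=
  (D.loc p U).symm.toLinearMap ∘ₗ exteriorPower.map p (secLin f U.1) ∘ₗ (C.loc p U).toLinearMap

lemma locLin_ιMulti (p : ℕ) (U : X.affineOpens) (e : Fin p → Γ(E, U.1)) :
    locLin f C D p U ((C.loc p U).symm (ιMulti _ p e)) =
      (D.loc p U).symm (ιMulti _ p (fun j => f.app U.1 (e j))) := by
  simp only [locLin, LinearMap.coe_comp, LinearEquiv.coe_coe, Function.comp_apply,
    LinearEquiv.apply_symm_apply, map_apply_ιMulti]
  rfl

/-- the local components as morphisms of abelian groups -/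
noncomputable def dAb (p : ℕ) (U : X.Opens) (hU : IsAffineOpen U) :
    Γ(C.K.X p, U) ⟶ Γ(D.K.X p, U) :=
  AddCommGrpCat.ofHom (locLin f C D p ⟨U, hU⟩).toAddMonoidHom

lemma dAb_apply (p : ℕ) (U : X.Opens) (hU : IsAffineOpen U) (x : Γ(C.K.X p, U)) :
    dAb f C D p U hU x = locLin f C D p ⟨U, hU⟩ x := rfl

lemma dAb_nat (p : ℕ) {U V : X.Opens} (hU : IsAffineOpen U) (hV : IsAffineOpen V) (h : V ≤ U) :
    (C.K.X p).presheaf.map (homOfLE h).op ≫ dAb f C D p V hV =
      dAb f C D p U hU ≫ (D.K.X p).presheaf.map (homOfLE h).op := by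
  ext x
  refine eq_of_semilinear (X.presheaf.map (homOfLE h).op).hom
    (((C.K.X p).presheaf.map (homOfLE h).op ≫ dAb f C D p V hV).hom)
    ((dAb f C D p U hU ≫ (D.K.X p).presheaf.map (homOfLE h).op).hom) ?_ ?_ _
    (span_loc_symm C p ⟨U, hU⟩) ?_ x
  · intro r y
    change locLin f C D p ⟨V, hV⟩ ((C.K.X p).presheaf.map (homOfLE h).op (r • y)) = _
    rw [Scheme.Modules.map_smul, map_smul]
    rfl
  · intro r y
    change (D.K.X p).presheaf.map (homOfLE h).op (locLin f C D p ⟨U, hU⟩ (r • y)) = _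
    rw [map_smul, Scheme.Modules.map_smul]
    rfl
  · rintro _ ⟨e, rfl⟩
    change locLin f C D p ⟨V, hV⟩ ((C.K.X p).presheaf.map (homOfLE h).op
        ((C.loc p ⟨U, hU⟩).symm (ιMulti _ p e))) =
      (D.K.X p).presheaf.map (homOfLE h).op (locLin f C D p ⟨U, hU⟩
        ((C.loc p ⟨U, hU⟩).symm (ιMulti _ p e)))
    rw [locLin_ιMulti]
    have h1 := C.loc_res p ⟨U, hU⟩ ⟨V, hV⟩ h e
    have h2 := D.loc_res p ⟨U, hU⟩ ⟨V, hV⟩ h (fun j => f.app U (e j))
    have h1' : (C.K.X p).presheaf.map (homOfLE h).op ((C.loc p ⟨U, hU⟩).symm (ιMulti _ p e)) =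
        (C.loc p ⟨V, hV⟩).symm (ιMulti _ p (fun j => E.presheaf.map (homOfLE h).op (e j))) := h1
    have h2' : (D.K.X p).presheaf.map (homOfLE h).op
        ((D.loc p ⟨U, hU⟩).symm (ιMulti _ p (fun j => f.app U (e j)))) =
        (D.loc p ⟨V, hV⟩).symm (ιMulti _ p
          (fun j => F.presheaf.map (homOfLE h).op (f.app U (e j)))) := h2
    rw [h1', h2', locLin_ιMulti]
    congr 2
    funext j
    have := ConcreteCategory.congr_hom (f.mapPresheaf.naturality (homOfLE h).op) (e j)
    exact this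

/-- the degree `p` component of the map of Koszul complexes -/
noncomputable def comp (p : ℕ) : C.K.X p ⟶ D.K.X p :=
  homOfAffine (E := C.K.X p) (B := D.K.X p) (fun U hU => dAb f C D p U hU)
    (fun {U V} i => dAb_nat f C D p U.2 V.2 (Scheme.AffineZariskiSite.toOpens_mono i.le))
    (fun U hU a m => (locLin f C D p ⟨U, hU⟩).map_smul a m)

lemma comp_app (p : ℕ) (U : X.affineOpens) (x : Γ(C.K.X p, U.1)) :
    (comp f C D p).app U.1 x = locLin f C D p U x := by
  have h := homOfAffine_app (E := C.K.X p) (B := D.K.X p) (fun U hU => dAb f C D p U hU)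
    (fun {U V} i => dAb_nat f C D p U.2 V.2 (Scheme.AffineZariskiSite.toOpens_mono i.le))
    (fun U hU a m => (locLin f C D p ⟨U, hU⟩).map_smul a m) U.1 U.2
  exact ConcreteCategory.congr_hom h x

lemma comp_app_ιMulti (p : ℕ) (U : X.affineOpens) (e : Fin p → Γ(E, U.1)) :
    (comp f C D p).app U.1 ((C.loc p U).symm (ιMulti _ p e)) =
      (D.loc p U).symm (ιMulti _ p (fun j => f.app U.1 (e j))) := by
  rw [comp_app, locLin_ιMulti]

/-- two morphisms out of a term of a Koszul complex agreeing on decomposable sections over affine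
opens are equal -/
lemma hom_ext_dec {M : X.Modules} (p : ℕ) (g₁ g₂ : C.K.X p ⟶ M)
    (h : ∀ (U : X.affineOpens) (e : Fin p → Γ(E, U.1)),
      g₁.app U.1 ((C.loc p U).symm (ιMulti _ p e)) = g₂.app U.1 ((C.loc p U).symm (ιMulti _ p e))) :
    g₁ = g₂ := by
  apply hom_ext_affine
  intro U hU
  ext x
  refine eq_of_semilinear (RingHom.id Γ(X, U)) (g₁.app U).hom (g₂.app U).hom ?_ ?_ _
    (span_loc_symm C p ⟨U, hU⟩) ?_ x
  · intro r y
    exact Scheme.Modules.Hom.app_smul g₁ r y
  · intro r y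
    exact Scheme.Modules.Hom.app_smul g₂ r y
  · rintro _ ⟨e, rfl⟩
    exact h ⟨U, hU⟩ e

include f in
lemma map_dGen (hf : f ≫ t = s) (p : ℕ) (U : X.Opens) (e : Fin (p + 1) → Γ(E, U)) :
    exteriorPower.map p (secLin f U) (dGen (secForm s U) p e) =
      dGen (secForm t U) p (fun j => f.app U (e j)) := by
  unfold dGen
  rw [map_sum]
  refine Finset.sum_congr rfl (fun i _ => ?_)
  rw [map_smul, map_apply_ιMulti]
  have h1 : secForm t U (f.app U (e i)) = secForm s U (e i) := by
    rw [secForm_apply, secForm_apply, ← hf]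
    rfl
  rw [h1]
  rfl

/-- the map of Koszul complexes -/
noncomputable def chainMap (hf : f ≫ t = s) : C.K ⟶ D.K where
  f p := comp f C D p
  comm' i j hij := by
    have hij' : j + 1 = i := hij
    subst hij'
    apply hom_ext_dec C (j + 1)
    intro U e
    rw [Scheme.Modules.Hom.comp_app, Scheme.Modules.Hom.comp_app]
    change (D.K.d (j + 1) j).app U.1 ((comp f C D (j + 1)).app U.1 _) =
      (comp f C D j).app U.1 ((C.K.d (j + 1) j).app U.1 _)
    rw [comp_app_ιMulti, D.rule, C.rule, comp_app]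
    simp only [locLin, LinearMap.coe_comp, LinearEquiv.coe_coe, Function.comp_apply,
      LinearEquiv.apply_symm_apply]
    rw [map_dGen f hf]

theorem existsUnique_chainMap (hf : f ≫ t = s) :
    ∃! φ : C.K ⟶ D.K, ∀ (p : ℕ) (U : X.affineOpens) (e : Fin p → Γ(E, U.1)),
      (φ.f p).app U.1 ((C.loc p U).symm (exteriorPower.ιMulti _ p e)) =
        (D.loc p U).symm (exteriorPower.ιMulti _ p (fun j => f.app U.1 (e j))) := by
  refine ⟨chainMap f C D hf, fun p U e => comp_app_ιMulti f C D p U e, ?_⟩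
  intro φ hφ
  apply HomologicalComplex.hom_ext
  intro p
  apply hom_ext_dec C p
  intro U e
  rw [hφ p U e]
  exact (comp_app_ιMulti f C D p U e).symm

end Groth.Agent.Lib.T2H4.KoszShMap
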