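import Mathlib

set_option autoImplicit false
set_option linter.style.haveILetI false
universe u
open CategoryTheory CategoryTheory.Limits Pretriangulated

namespace Groth.Agent.Lib.T2H4.Koszul

section TL

variable {𝒜 𝒞 : Type*} [Category 𝒜] [Category 𝒞] [Preadditive 𝒞]
  [HasShift 𝒞 ℤ] [HasZeroObject 𝒞] [∀ n : ℤ, (shiftFunctor 𝒞 n).Additive] [Pretriangulated 𝒞]
  {S : Type*} [CommRing S] [Linear S 𝒞] [∀ n : ℤ, (shiftFunctor 𝒞 n).Linear S]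
  (L X : 𝒜 ⥤ 𝒞) (t : S)

/-- abstract Koszul step: if `L M --t--> L M --π--> X M --δ-->` are distinguished triangles,
natural in the boundary, and `L.map - ≫ π` is bijective, then `X.map - ≫ δ` is bijective. -/
theorem bijective_of_triangles
    (M N : 𝒜) (πM : L.obj M ⟶ X.obj M) (δM : X.obj M ⟶ (L.obj M)⟦(1 : ℤ)⟧)
    (πN : L.obj N ⟶ X.obj N) (δN : X.obj N ⟶ (L.obj N)⟦(1 : ℤ)⟧)
    (hTM : Triangle.mk (t • 𝟙 (L.obj M)) πM δM ∈ distTriang 𝒞)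
    (hTN : Triangle.mk (t • 𝟙 (L.obj N)) πN δN ∈ distTriang 𝒞)
    (hδ : ∀ f : N ⟶ M, X.map f ≫ δM = δN ≫ (L.map f)⟦(1 : ℤ)⟧')
    (hπ : Function.Bijective (fun a : N ⟶ M => L.map a ≫ πM)) :
    Function.Bijective (fun f : N ⟶ M => X.map f ≫ δM) := by
  have hzM : (t • 𝟙 (L.obj M)) ≫ πM = 0 := comp_distTriang_mor_zero₁₂ _ hTM
  have hzM2 : πM ≫ δM = 0 := comp_distTriang_mor_zero₂₃ _ hTM
  have hzN : (t • 𝟙 (L.obj N)) ≫ πN = 0 := comp_distTriang_mor_zero₁₂ _ hTN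
  have hzN3 : δN ≫ (t • 𝟙 (L.obj N))⟦(1 : ℤ)⟧' = 0 := comp_distTriang_mor_zero₃₁ _ hTN
  -- central property of `t`
  have hcomm : ∀ {Y Z : 𝒞} (g : Y ⟶ Z), (t • 𝟙 Y) ≫ g = g ≫ (t • 𝟙 Z) := by
    intro Y Z g
    rw [Linear.smul_comp, Linear.comp_smul, Category.id_comp, Category.comp_id]
  constructor
  · intro f f' hff
    have hff' : X.map f ≫ δM = X.map f' ≫ δM := hff
    have h1 : δN ≫ ((L.map f)⟦(1 : ℤ)⟧' - (L.map f')⟦(1 : ℤ)⟧') = 0 := by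
      rw [Preadditive.comp_sub, ← hδ f, ← hδ f', sub_eq_zero]
      exact hff'
    obtain ⟨g, hg⟩ : ∃ g : (L.obj N)⟦(1 : ℤ)⟧ ⟶ (L.obj M)⟦(1 : ℤ)⟧,
        (L.map f)⟦(1 : ℤ)⟧' - (L.map f')⟦(1 : ℤ)⟧' = (-(t • 𝟙 (L.obj N))⟦(1 : ℤ)⟧') ≫ g :=
      Triangle.yoneda_exact₃ _ (rot_of_distTriang _ hTN) _ h1
    obtain ⟨g₀, rfl⟩ := (shiftFunctor 𝒞 (1 : ℤ)).map_surjective g
    have h2 : L.map f - L.map f' = - ((t • 𝟙 (L.obj N)) ≫ g₀) := by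
      apply (shiftFunctor 𝒞 (1 : ℤ)).map_injective
      rw [Functor.map_sub, hg, Functor.map_neg, Functor.map_comp, Preadditive.neg_comp]
    have h3 : (L.map f - L.map f') ≫ πM = 0 := by
      rw [h2, Preadditive.neg_comp, hcomm, Category.assoc, hzM, comp_zero, neg_zero]
    apply hπ.1
    show L.map f ≫ πM = L.map f' ≫ πM
    rw [← sub_eq_zero, ← Preadditive.sub_comp]
    exact h3
  · intro h
    -- Step 1: πN ≫ h = 0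
    have hy : (πN ≫ h) ≫ (t • 𝟙 ((L.obj M)⟦(1 : ℤ)⟧)) = 0 := by
      rw [← hcomm, ← Category.assoc, hzN, zero_comp]
    have hy' : (πN ≫ h) ≫ (Triangle.mk (t • 𝟙 (L.obj M)) πM δM).mor₁⟦(1 : ℤ)⟧' = 0 := by
      have : (t • 𝟙 (L.obj M))⟦(1 : ℤ)⟧' = t • 𝟙 ((L.obj M)⟦(1 : ℤ)⟧) := by
        rw [Functor.map_smul, CategoryTheory.Functor.map_id]
      show (πN ≫ h) ≫ (t • 𝟙 (L.obj M))⟦(1 : ℤ)⟧' = 0
      rw [this]
      exact hy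
    obtain ⟨y', hy'2⟩ : ∃ y' : L.obj N ⟶ X.obj M, πN ≫ h = y' ≫ δM :=
      Triangle.coyoneda_exact₁ _ hTM _ hy'
    obtain ⟨a', ha'⟩ := hπ.2 y'
    have hpi : πN ≫ h = 0 := by
      rw [hy'2, ← ha']
      show (L.map a' ≫ πM) ≫ δM = 0
      rw [Category.assoc, hzM2, comp_zero]
    -- Step 2
    obtain ⟨k, hk⟩ : ∃ k : (L.obj N)⟦(1 : ℤ)⟧ ⟶ (L.obj M)⟦(1 : ℤ)⟧, h = δN ≫ k :=
      Triangle.yoneda_exact₃ _ hTN h hpi
    obtain ⟨k₀, rfl⟩ := (shiftFunctor 𝒞 (1 : ℤ)).map_surjective k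
    -- Step 3
    obtain ⟨a, ha⟩ := hπ.2 (k₀ ≫ πM)
    have h4 : (k₀ - L.map a) ≫ πM = 0 := by
      rw [Preadditive.sub_comp, sub_eq_zero]
      exact ha.symm
    obtain ⟨z, hz⟩ : ∃ z : L.obj N ⟶ L.obj M, k₀ - L.map a = z ≫ (t • 𝟙 (L.obj M)) :=
      Triangle.coyoneda_exact₂ _ hTM _ h4
    refine ⟨a, ?_⟩
    show X.map a ≫ δM = h
    rw [hδ a, hk]
    show δN ≫ (L.map a)⟦(1 : ℤ)⟧' = δN ≫ k₀⟦(1 : ℤ)⟧'
    have h5 : k₀ = L.map a + (t • 𝟙 (L.obj N)) ≫ z := by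
      have h6 : z ≫ (t • 𝟙 (L.obj M)) = k₀ - L.map a := hz.symm
      rw [hcomm, h6]
      abel
    rw [h5, Functor.map_add, Preadditive.comp_add, Functor.map_comp, ← Category.assoc, hzN3,
      zero_comp, add_zero]

end TL

end Groth.Agent.Lib.T2H4.Koszul
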