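import Mathlib
import Groth.Prelude.Def_DDual2

set_option autoImplicit false
set_option linter.style.haveILetI false
set_option backward.isDefEq.respectTransparency.types false
universe u
open CategoryTheory CategoryTheory.Limits TensorProduct

namespace Groth.Agent.Lib.T2H4.Koszul

/-- the data of a "one variable" extension `ι : B → C` with retraction `χ` whose kernel is
generated by the regular element `t`. -/
structure IsOneVar {B C : Type u} [CommRing B] [CommRing C] (ι : B →+* C) (χ : C →+* B) (t : C) :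
    Prop where
  hχι : ∀ b, χ (ι b) = b
  hreg : ∀ c : C, t * c = 0 → c = 0
  hker : ∀ c : C, χ c = 0 → ∃ c', c = t * c'
  hχt : χ t = 0

section Mod

variable {B C : Type u} [CommRing B] [CommRing C] {ι : B →+* C} {χ : C →+* B} {t : C}
  (h : IsOneVar ι χ t)

/-- the carrier `C` viewed as a `B`-module -/
abbrev PC (ι : B →+* C) : Type u :=
  ↑((ModuleCat.restrictScalars ι).obj (ModuleCat.of C C))

/-- view an element of `C` as an element of `PC` -/
def toPC (ι : B →+* C) (c : C) : PC ι := c
/-- view an element of `PC` as an element of `C` -/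
def ofPC (ι : B →+* C) (p : PC ι) : C := p

include h in
lemma mul_left_cancel' {a b : C} (hab : t * a = t * b) : a = b := by
  have := h.hreg (a - b) (by rw [mul_sub, hab, sub_self])
  exact sub_eq_zero.1 this

include h in
lemma exists_div (c : C) : ∃ c', c - ι (χ c) = t * c' := by
  apply h.hker
  rw [map_sub, h.hχι, sub_self]

/-- the division map -/
noncomputable def dv (c : C) : C := Classical.choose (exists_div h c)

lemma dv_spec (c : C) : c - ι (χ c) = t * dv h c := Classical.choose_spec (exists_div h c)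

lemma dv_zero : dv h 0 = 0 := by
  apply mul_left_cancel' h
  rw [← dv_spec, map_zero, map_zero, sub_zero, mul_zero]

lemma dv_add (a b : C) : dv h (a + b) = dv h a + dv h b := by
  apply mul_left_cancel' h
  rw [mul_add, ← dv_spec, ← dv_spec, ← dv_spec, map_add, map_add]
  ring

lemma dv_smul (r : B) (a : C) : dv h (ι r * a) = ι r * dv h a := by
  apply mul_left_cancel' h
  rw [← dv_spec, mul_left_comm, ← dv_spec, map_mul, h.hχι, map_mul]
  ring

lemma dv_mul_t (a : C) : dv h (t * a) = a := by
  apply mul_left_cancel' h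
  rw [← dv_spec, map_mul, h.hχt, zero_mul, map_zero, sub_zero]

/-- the evaluation map `C ⊗ M → M` as a map of `C`-modules -/
noncomputable def ev (M : ModuleCat.{u} B) :
    (ModuleCat.extendScalars.{u, u, u} ι).obj M ⟶ (ModuleCat.restrictScalars χ).obj M :=
  ((ModuleCat.extendRestrictScalarsAdj ι).homEquiv M
    ((ModuleCat.restrictScalars χ).obj M)).symm
    (ModuleCat.ofHom
      (Y := (ModuleCat.restrictScalars ι).obj ((ModuleCat.restrictScalars χ).obj M))
      { toFun := fun m => m
        map_add' := fun _ _ => rfl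
        map_smul' := fun r m => by
          change r • m = χ (ι r) • m
          rw [h.hχι] })

lemma ev_tmul (M : ModuleCat.{u} B) (p : C) (m : M) :
    (ev h M).hom (p ⊗ₜ m) = (χ p • m : M) := by
  rfl

/-- multiplication by `t` on `C ⊗ M` -/
noncomputable def mulT (ι : B →+* C) (t : C) (M : ModuleCat.{u} B) :
    (ModuleCat.extendScalars.{u, u, u} ι).obj M ⟶
      (ModuleCat.extendScalars.{u, u, u} ι).obj M :=
  t • 𝟙 _

lemma mulT_tmul (M : ModuleCat.{u} B) (p : C) (m : M) :
    (mulT ι t M).hom (p ⊗ₜ m) =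
      ((t * p) ⊗ₜ m : (ModuleCat.extendScalars.{u, u, u} ι).obj M) := by
  rfl

/-- `dv` on `PC` -/
noncomputable def dX (p : PC ι) : PC ι := toPC ι (dv h (ofPC ι p))

lemma dX_zero : dX h (0 : PC ι) = 0 := dv_zero h
lemma dX_add (a b : PC ι) : dX h (a + b) = dX h a + dX h b := dv_add h a b
lemma dX_smul (r : B) (a : PC ι) : dX h (r • a) = r • dX h a := dv_smul h r a

/-- the additive retraction `p ⊗ m ↦ dv p ⊗ m` of `mulT` -/
noncomputable def divHom (M : ModuleCat.{u} B) : PC ι ⊗[B] M →+ PC ι ⊗[B] M :=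
  TensorProduct.liftAddHom
    { toFun := fun p =>
        { toFun := fun m => dX h p ⊗ₜ[B] m
          map_zero' := TensorProduct.tmul_zero _ _
          map_add' := fun a b => TensorProduct.tmul_add _ _ _ }
      map_zero' := by
        ext m
        change dX h (0 : PC ι) ⊗ₜ[B] m = 0
        rw [dX_zero, TensorProduct.zero_tmul]
      map_add' := fun a b => by
        ext m
        change dX h (a + b) ⊗ₜ[B] m = dX h a ⊗ₜ[B] m + dX h b ⊗ₜ[B] m
        rw [dX_add, TensorProduct.add_tmul] }
    (by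
      intro r p m
      change dX h (r • p) ⊗ₜ[B] m = dX h p ⊗ₜ[B] (r • m)
      rw [dX_smul]
      exact TensorProduct.smul_tmul r (dX h p) m)

lemma divHom_tmul (M : ModuleCat.{u} B) (p : PC ι) (m : M) :
    divHom h M (p ⊗ₜ m) = dX h p ⊗ₜ m := by
  rfl

/-- the underlying additive map of `mulT` -/
noncomputable def mulTfun (ι : B →+* C) (t : C) (M : ModuleCat.{u} B) (z : PC ι ⊗[B] M) :
    PC ι ⊗[B] M := (mulT ι t M).hom z

/-- the underlying additive map of `ev` -/
noncomputable def evfun (M : ModuleCat.{u} B) (z : PC ι ⊗[B] M) : M := (ev h M).hom z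

lemma mulTfun_add (M : ModuleCat.{u} B) (a b : PC ι ⊗[B] M) :
    mulTfun ι t M (a + b) = mulTfun ι t M a + mulTfun ι t M b := map_add (mulT ι t M).hom a b

lemma mulTfun_zero (M : ModuleCat.{u} B) : mulTfun ι t M 0 = 0 := map_zero (mulT ι t M).hom

lemma evfun_add (M : ModuleCat.{u} B) (a b : PC ι ⊗[B] M) :
    evfun h M (a + b) = evfun h M a + evfun h M b := map_add (ev h M).hom a b

lemma evfun_zero (M : ModuleCat.{u} B) : evfun h M 0 = 0 := map_zero (ev h M).hom

lemma mulTfun_tmul (M : ModuleCat.{u} B) (p : PC ι) (m : M) :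
    mulTfun ι t M (p ⊗ₜ m) = toPC ι (t * ofPC ι p) ⊗ₜ m := rfl

lemma evfun_tmul (M : ModuleCat.{u} B) (p : PC ι) (m : M) :
    evfun h M (p ⊗ₜ m) = χ (ofPC ι p) • m := rfl

lemma dX_toPC_mul (p : PC ι) : dX h (toPC ι (t * ofPC ι p)) = p := dv_mul_t h (ofPC ι p)

lemma pc_key (p : PC ι) :
    p = toPC ι (t * ofPC ι (dX h p)) + χ (ofPC ι p) • toPC ι (1 : C) := by
  have h1 := dv_spec h (ofPC ι p)
  show ofPC ι p = t * dv h (ofPC ι p) + ι (χ (ofPC ι p)) * 1
  rw [← h1]
  ring

lemma divHom_mulTfun (M : ModuleCat.{u} B) (z : PC ι ⊗[B] M) :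
    divHom h M (mulTfun ι t M z) = z := by
  induction z using TensorProduct.induction_on with
  | zero => rw [mulTfun_zero, map_zero]
  | tmul p m =>
    rw [mulTfun_tmul, divHom_tmul]
    rw [dX_toPC_mul]
  | add a b ha hb => rw [mulTfun_add, map_add, ha, hb]

lemma eq_mulTfun_add (M : ModuleCat.{u} B) (z : PC ι ⊗[B] M) :
    z = mulTfun ι t M (divHom h M z) + toPC ι (1 : C) ⊗ₜ[B] (evfun h M z) := by
  induction z using TensorProduct.induction_on with
  | zero => rw [map_zero, mulTfun_zero, evfun_zero, TensorProduct.tmul_zero, add_zero]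
  | tmul p m =>
    rw [divHom_tmul, mulTfun_tmul, evfun_tmul, ← TensorProduct.smul_tmul, ← TensorProduct.add_tmul]
    rw [← pc_key]
  | add a b ha hb =>
    rw [map_add, mulTfun_add, evfun_add, TensorProduct.tmul_add]
    nth_rw 1 [ha, hb]
    abel

lemma mulT_ev (M : ModuleCat.{u} B) : mulT ι t M ≫ ev h M = 0 := by
  apply ModuleCat.hom_ext
  apply LinearMap.ext
  intro z
  change (ev h M).hom (t • z) = 0
  rw [map_smul]
  exact (show (χ t : B) • (show ↑M from (ev h M).hom z) = 0 by rw [h.hχt, zero_smul])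

/-- the short complex `C ⊗ M → C ⊗ M → M` -/
noncomputable def sc (M : ModuleCat.{u} B) : ShortComplex (ModuleCat.{u} C) :=
  ShortComplex.mk (mulT ι t M) (ev h M) (mulT_ev h M)

lemma sc_shortExact (M : ModuleCat.{u} B) : (sc h M).ShortExact where
  exact := by
    rw [ShortComplex.moduleCat_exact_iff]
    intro (z : PC ι ⊗[B] M) (hz : evfun h M z = 0)
    refine ⟨divHom h M z, ?_⟩
    have h' := eq_mulTfun_add h M z
    rw [hz, TensorProduct.tmul_zero, add_zero] at h'
    exact h'.symm
  mono_f := by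
    rw [ModuleCat.mono_iff_injective]
    intro (a : PC ι ⊗[B] M) (b : PC ι ⊗[B] M) (hab : mulTfun ι t M a = mulTfun ι t M b)
    rw [← divHom_mulTfun h M a, hab, divHom_mulTfun]
  epi_g := by
    rw [ModuleCat.epi_iff_surjective]
    intro (m : M)
    refine ⟨toPC ι (1 : C) ⊗ₜ[B] m, ?_⟩
    change evfun h M (toPC ι (1 : C) ⊗ₜ[B] m) = m
    rw [evfun_tmul]
    change χ (1 : C) • m = m
    rw [map_one, one_smul]

end Mod

section Nat

variable {B C : Type u} [CommRing B] [CommRing C] {ι : B →+* C} {χ : C →+* B} {t : C}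
  (h : IsOneVar ι χ t)

/-- the underlying function of `extendScalars.map f` -/
noncomputable def extfun (ι : B →+* C) {M N : ModuleCat.{u} B} (f : M ⟶ N) (z : PC ι ⊗[B] M) :
    PC ι ⊗[B] N :=
  ((ModuleCat.extendScalars.{u, u, u} ι).map f).hom z

lemma extfun_add {M N : ModuleCat.{u} B} (f : M ⟶ N) (a b : PC ι ⊗[B] M) :
    extfun ι f (a + b) = extfun ι f a + extfun ι f b :=
  map_add ((ModuleCat.extendScalars.{u, u, u} ι).map f).hom a b

lemma extfun_zero {M N : ModuleCat.{u} B} (f : M ⟶ N) : extfun ι f (0 : PC ι ⊗[B] M) = 0 :=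
  map_zero ((ModuleCat.extendScalars.{u, u, u} ι).map f).hom

lemma extfun_tmul {M N : ModuleCat.{u} B} (f : M ⟶ N) (p : PC ι) (m : M) :
    extfun ι f (p ⊗ₜ m) = p ⊗ₜ f.hom m := rfl

lemma mulT_naturality {M N : ModuleCat.{u} B} (f : M ⟶ N) :
    (ModuleCat.extendScalars.{u, u, u} ι).map f ≫ mulT ι t N =
      mulT ι t M ≫ (ModuleCat.extendScalars.{u, u, u} ι).map f := by
  simp [mulT]

lemma ev_naturality {M N : ModuleCat.{u} B} (f : M ⟶ N) :
    (ModuleCat.extendScalars.{u, u, u} ι).map f ≫ ev h N =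
      ev h M ≫ (ModuleCat.restrictScalars χ).map f := by
  apply ModuleCat.hom_ext
  apply LinearMap.ext
  intro (z : PC ι ⊗[B] M)
  change evfun h N (extfun ι f z) = f.hom (evfun h M z)
  induction z using TensorProduct.induction_on with
  | zero => rw [extfun_zero, evfun_zero, evfun_zero, map_zero]
  | tmul p m => rw [extfun_tmul, evfun_tmul, evfun_tmul, map_smul]
  | add a b ha hb => rw [extfun_add, evfun_add, evfun_add, map_add, ha, hb]

/-- `mulT` as a natural transformation -/
noncomputable def mulTNat (ι : B →+* C) (t : C) : ModuleCat.extendScalars.{u, u, u} ι ⟶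
    ModuleCat.extendScalars.{u, u, u} ι where
  app M := mulT ι t M
  naturality _ _ f := mulT_naturality f

/-- `ev` as a natural transformation -/
noncomputable def evNat : ModuleCat.extendScalars.{u, u, u} ι ⟶
    ModuleCat.restrictScalars χ where
  app M := ev h M
  naturality _ _ f := ev_naturality h f

end Nat

section Cx

variable {B C : Type u} [CommRing B] [CommRing C] {ι : B →+* C} {χ : C →+* B} {t : C}
  (h : IsOneVar ι χ t)

/-- extension of scalars of complexes -/
noncomputable abbrev eCx (ι : B →+* C) :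
    CochainComplex (ModuleCat.{u} B) ℤ ⥤ CochainComplex (ModuleCat.{u} C) ℤ :=
  (ModuleCat.extendScalars.{u, u, u} ι).mapHomologicalComplex (ComplexShape.up ℤ)

/-- restriction of scalars of complexes -/
noncomputable abbrev rCx (χ : C →+* B) :
    CochainComplex (ModuleCat.{u} B) ℤ ⥤ CochainComplex (ModuleCat.{u} C) ℤ :=
  (ModuleCat.restrictScalars.{u} χ).mapHomologicalComplex (ComplexShape.up ℤ)

/-- multiplication by `t` on `P ⊗ C` -/
noncomputable def sX (ι : B →+* C) (t : C) (P : CochainComplex (ModuleCat.{u} B) ℤ) :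
    (eCx ι).obj P ⟶ (eCx ι).obj P :=
  (NatTrans.mapHomologicalComplex (mulTNat ι t) (ComplexShape.up ℤ)).app P

/-- evaluation `P ⊗ C → P` -/
noncomputable def eX (P : CochainComplex (ModuleCat.{u} B) ℤ) :
    (eCx ι).obj P ⟶ (rCx χ).obj P :=
  (NatTrans.mapHomologicalComplex (evNat h) (ComplexShape.up ℤ)).app P

lemma sX_eq (P : CochainComplex (ModuleCat.{u} B) ℤ) : sX ι t P = t • 𝟙 _ := by
  apply HomologicalComplex.hom_ext
  intro i
  rfl

lemma sX_eX (P : CochainComplex (ModuleCat.{u} B) ℤ) : sX ι t P ≫ eX h P = 0 := by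
  apply HomologicalComplex.hom_ext
  intro i
  exact mulT_ev h (P.X i)

/-- the short exact sequence `0 → P ⊗ C → P ⊗ C → P → 0` -/
noncomputable def scX (P : CochainComplex (ModuleCat.{u} B) ℤ) :
    ShortComplex (CochainComplex (ModuleCat.{u} C) ℤ) :=
  ShortComplex.mk (sX ι t P) (eX h P) (sX_eX h P)

lemma scX_shortExact (P : CochainComplex (ModuleCat.{u} B) ℤ) : (scX h P).ShortExact :=
  HomologicalComplex.shortExact_of_degreewise_shortExact _ (fun i => sc_shortExact h (P.X i))

/-- the morphism of short complexes induced by a chain map -/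
noncomputable def scXMap {P P' : CochainComplex (ModuleCat.{u} B) ℤ} (f : P ⟶ P') :
    scX h P ⟶ scX h P' where
  τ₁ := (eCx ι).map f
  τ₂ := (eCx ι).map f
  τ₃ := (rCx χ).map f
  comm₁₂ := (NatTrans.mapHomologicalComplex (mulTNat ι t) (ComplexShape.up ℤ)).naturality f
  comm₂₃ := (NatTrans.mapHomologicalComplex (evNat h) (ComplexShape.up ℤ)).naturality f

end Cx

end Groth.Agent.Lib.T2H4.Koszul
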