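import Groth.Agent.Lib.T2H4Koszul1
import Groth.Agent.Lib.T2H4Koszul2
import Groth.Agent.Lib.T2H4TorIndep

set_option autoImplicit false
set_option linter.style.haveILetI false
set_option backward.isDefEq.respectTransparency.types false
universe u
open CategoryTheory CategoryTheory.Limits Pretriangulated TensorProduct
attribute [local instance] HasDerivedCategory.standard

namespace Groth.Agent.Lib.T2H4.Koszul

open DerivedCategory Groth.Agent.Lib.Helper1.LDer Groth.Agent.Lib.Helper1.DT DTen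
  Groth.Agent.Lib.T2H4.TorIndep

section Der

variable {B C : Type u} [CommRing B] [CommRing C] {ι : B →+* C} {χ : C →+* B} {t : C}
  (h : IsOneVar ι χ t) [DRing.HasLBaseChange ι]

/-- the evaluation `E ⊗^L C → E` in `D(C)` -/
noncomputable def piE (E : DRing.Cx B) [E.IsKProjective] :
    (DRing.LBaseChange ι).obj (Q.obj E) ⟶ (DRing.restrictD χ).obj (Q.obj E) :=
  (lbcCounit ι).app E ≫ Q.map (eX h E) ≫ (resFactors χ).inv.app E

/-- the boundary `E → E ⊗^L C [1]` in `D(C)` -/
noncomputable def deltaE (E : DRing.Cx B) [E.IsKProjective] :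
    (DRing.restrictD χ).obj (Q.obj E) ⟶ ((DRing.LBaseChange ι).obj (Q.obj E))⟦(1 : ℤ)⟧ :=
  (resFactors χ).hom.app E ≫ triangleOfSESδ (scX_shortExact h E) ≫
    ((lbcIso ι E).inv)⟦(1 : ℤ)⟧'

lemma triangle_distinguished (E : DRing.Cx B) [E.IsKProjective] :
    Triangle.mk (t • 𝟙 ((DRing.LBaseChange ι).obj (Q.obj E))) (piE h E) (deltaE h E) ∈
      distTriang (Dual.D C) := by
  haveI := isIso_lbcCounit_app ι E
  refine isomorphic_distinguished _ (triangleOfSES_distinguished (scX_shortExact h E)) _ ?_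
  refine Triangle.isoMk _ _ (lbcIso ι E) (lbcIso ι E)
    ((resFactors χ).app E) ?_ ?_ ?_
  · show (t • 𝟙 _) ≫ (lbcCounit ι).app E = (lbcCounit ι).app E ≫ Q.map (sX ι t E)
    rw [sX_eq, Functor.map_smul, CategoryTheory.Functor.map_id, Linear.smul_comp,
      Linear.comp_smul]
    erw [Category.id_comp, Category.comp_id]
  · show piE h E ≫ (resFactors χ).hom.app E = (lbcCounit ι).app E ≫ Q.map (eX h E)
    rw [piE, Category.assoc, Category.assoc, Iso.inv_hom_id_app]
    erw [Category.comp_id]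
  · show deltaE h E ≫ ((lbcCounit ι).app E)⟦(1 : ℤ)⟧' =
      (resFactors χ).hom.app E ≫ triangleOfSESδ (scX_shortExact h E)
    have h1 : (lbcIso ι E).inv ≫ (lbcCounit ι).app E = 𝟙 _ := (lbcIso ι E).inv_hom_id
    rw [deltaE, Category.assoc, Category.assoc, ← Functor.map_comp]
    erw [h1, CategoryTheory.Functor.map_id, Category.comp_id]
    rfl

lemma deltaE_naturality {E E' : DRing.Cx B} [E.IsKProjective] [E'.IsKProjective] (f : E ⟶ E') :
    (DRing.restrictD χ).map (Q.map f) ≫ deltaE h E' =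
      deltaE h E ≫ ((DRing.LBaseChange ι).map (Q.map f))⟦(1 : ℤ)⟧' := by
  have n1 : (DRing.restrictD χ).map (Q.map f) ≫ (resFactors χ).hom.app E' =
      (resFactors χ).hom.app E ≫ Q.map ((rCx χ).map f) := (resFactors χ).hom.naturality f
  have n2 : triangleOfSESδ (scX_shortExact h E) ≫ (Q.map ((eCx ι).map f))⟦(1 : ℤ)⟧' =
      Q.map ((rCx χ).map f) ≫ triangleOfSESδ (scX_shortExact h E') :=
    triangleOfSESδ_naturality (scX_shortExact h E) (scX_shortExact h E') (scXMap h f)
  have n3 : Q.map ((eCx ι).map f) ≫ (lbcIso ι E').inv =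
      (lbcIso ι E).inv ≫ (DRing.LBaseChange ι).map (Q.map f) := by
    rw [Iso.comp_inv_eq, Category.assoc, lbcIso_hom_naturality, Iso.inv_hom_id_assoc]
  have n3' : (Q.map ((eCx ι).map f))⟦(1 : ℤ)⟧' ≫ ((lbcIso ι E').inv)⟦(1 : ℤ)⟧' =
      ((lbcIso ι E).inv)⟦(1 : ℤ)⟧' ≫ ((DRing.LBaseChange ι).map (Q.map f))⟦(1 : ℤ)⟧' := by
    rw [← Functor.map_comp, ← Functor.map_comp, n3]
  simp only [deltaE, Category.assoc]
  rw [reassoc_of% n1]
  have key : Q.map ((rCx χ).map f) ≫ triangleOfSESδ (scX_shortExact h E') ≫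
      ((lbcIso ι E').inv)⟦(1 : ℤ)⟧' = triangleOfSESδ (scX_shortExact h E) ≫
        ((lbcIso ι E).inv)⟦(1 : ℤ)⟧' ≫ ((DRing.LBaseChange ι).map (Q.map f))⟦(1 : ℤ)⟧' :=
    calc Q.map ((rCx χ).map f) ≫ triangleOfSESδ (scX_shortExact h E') ≫
          ((lbcIso ι E').inv)⟦(1 : ℤ)⟧'
        = (Q.map ((rCx χ).map f) ≫ triangleOfSESδ (scX_shortExact h E')) ≫
          ((lbcIso ι E').inv)⟦(1 : ℤ)⟧' := (Category.assoc _ _ _).symm
      _ = (triangleOfSESδ (scX_shortExact h E) ≫ (Q.map ((eCx ι).map f))⟦(1 : ℤ)⟧') ≫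
          ((lbcIso ι E').inv)⟦(1 : ℤ)⟧' := congrArg (· ≫ ((lbcIso ι E').inv)⟦(1 : ℤ)⟧') n2.symm
      _ = triangleOfSESδ (scX_shortExact h E) ≫ ((Q.map ((eCx ι).map f))⟦(1 : ℤ)⟧' ≫
          ((lbcIso ι E').inv)⟦(1 : ℤ)⟧') := Category.assoc _ _ _
      _ = _ := congrArg (triangleOfSESδ (scX_shortExact h E) ≫ ·) n3'
  exact congrArg ((resFactors χ).hom.app E ≫ ·) key

omit [DRing.HasLBaseChange ι] in
/-- the chain level unit composed with evaluation is the identity on elements -/
lemma isIso_unit_ev (E : DRing.Cx B) :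
    IsIso ((extResAdj ι).unit.app E ≫ (resCx ι).map (eX h E)) := by
  haveI : ∀ i, IsIso (((extResAdj ι).unit.app E ≫ (resCx ι).map (eX h E)).f i) := by
    intro i
    rw [ConcreteCategory.isIso_iff_bijective]
    constructor
    · intro m m' hm
      have e1 : ∀ x : E.X i, (ConcreteCategory.hom
          (((extResAdj ι).unit.app E ≫ (resCx ι).map (eX h E)).f i)) x = x := by
        intro x
        show (ev h (E.X i)).hom ((1 : C) ⊗ₜ[B] x) = x
        rw [ev_tmul, map_one, one_smul]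
      rw [e1, e1] at hm
      exact hm
    · intro m
      refine ⟨m, ?_⟩
      show (ev h (E.X i)).hom ((1 : C) ⊗ₜ[B] m) = m
      rw [ev_tmul, map_one, one_smul]
  exact HomologicalComplex.Hom.isIso_of_components _

lemma bijective_map_comp_piE (E : DRing.Cx B) [E.IsKProjective] (N : Dual.D B) :
    Function.Bijective (fun a : N ⟶ Q.obj E => (DRing.LBaseChange ι).map a ≫ piE h E) := by
  have hu : IsIso ((lbcAdj ι).unit.app (Q.obj E) ≫ (DRing.restrictD ι).map (piE h E)) := by
    have e1 := lbcAdj_unit_fac ι E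
    have e2 : Q.map ((resCx ι).map (eX h E)) ≫ (resFactors ι).inv.app ((rCx χ).obj E) =
        (resFactors ι).inv.app ((extCx ι).obj E) ≫ (DRing.restrictD ι).map (Q.map (eX h E)) :=
      (resFactors ι).inv.naturality (eX h E)
    have e3 : (lbcAdj ι).unit.app (Q.obj E) ≫ (DRing.restrictD ι).map (piE h E) =
        Q.map ((extResAdj ι).unit.app E ≫ (resCx ι).map (eX h E)) ≫
          (resFactors ι).inv.app ((rCx χ).obj E) ≫
            (DRing.restrictD ι).map ((resFactors χ).inv.app E) := by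
      rw [piE, Functor.map_comp, Functor.map_comp, reassoc_of% e1, ← reassoc_of% e2,
        Functor.map_comp, Category.assoc]
    rw [e3]
    haveI := isIso_unit_ev h E
    infer_instance
  have heq : ∀ a : N ⟶ Q.obj E, (lbcAdj ι).homEquiv N _
      ((DRing.LBaseChange ι).map a ≫ piE h E) =
        a ≫ ((lbcAdj ι).unit.app (Q.obj E) ≫ (DRing.restrictD ι).map (piE h E)) := by
    intro a
    rw [Adjunction.homEquiv_naturality_left, Adjunction.homEquiv_unit]
  have hfun : (fun a : N ⟶ Q.obj E => (DRing.LBaseChange ι).map a ≫ piE h E) =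
      ((lbcAdj ι).homEquiv N _).symm ∘ (fun a : N ⟶ Q.obj E =>
        a ≫ ((lbcAdj ι).unit.app (Q.obj E) ≫ (DRing.restrictD ι).map (piE h E))) := by
    funext a
    rw [Function.comp, ← heq, Equiv.symm_apply_apply]
  rw [hfun]
  refine (Equiv.bijective _).comp ⟨fun a a' haa => (cancel_mono _).1 haa, fun b => ?_⟩
  exact ⟨b ≫ inv ((lbcAdj ι).unit.app (Q.obj E) ≫ (DRing.restrictD ι).map (piE h E)), by simp⟩

/-- **Koszul step** for K-projective representatives. -/
theorem bijective_map_comp_deltaE (E E' : DRing.Cx B) [E.IsKProjective] [E'.IsKProjective] :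
    Function.Bijective (fun f : Q.obj E' ⟶ Q.obj E => (DRing.restrictD χ).map f ≫ deltaE h E) := by
  refine bijective_of_triangles (DRing.LBaseChange ι) (DRing.restrictD χ) t (Q.obj E) (Q.obj E')
    (piE h E) (deltaE h E) (piE h E') (deltaE h E') (triangle_distinguished h E)
    (triangle_distinguished h E') ?_ (bijective_map_comp_piE h E (Q.obj E'))
  intro f
  obtain ⟨f₀, rfl⟩ := Q_map_surjective E' E f
  exact deltaE_naturality h f₀

include h in
/-- **Koszul step**: `M` represents `N ↦ Hom(N|_C, (M ⊗^L C)[1])`. -/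
theorem exists_delta (M : Dual.D B) :
    ∃ δ : (DRing.restrictD χ).obj M ⟶ ((DRing.LBaseChange ι).obj M)⟦(1 : ℤ)⟧,
      ∀ N : Dual.D B, Function.Bijective (fun f : N ⟶ M => (DRing.restrictD χ).map f ≫ δ) := by
  obtain ⟨E, hE, -, ⟨e⟩⟩ := exists_kproj_iso M
  haveI := hE
  refine ⟨(DRing.restrictD χ).map e.inv ≫ deltaE h E ≫
    ((DRing.LBaseChange ι).map e.hom)⟦(1 : ℤ)⟧', fun N => ?_⟩
  obtain ⟨E', hE', -, ⟨e'⟩⟩ := exists_kproj_iso N
  haveI := hE'
  have hb := bijective_map_comp_deltaE h E E'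
  have hfun : (fun f : N ⟶ M => (DRing.restrictD χ).map f ≫ (DRing.restrictD χ).map e.inv ≫
      deltaE h E ≫ ((DRing.LBaseChange ι).map e.hom)⟦(1 : ℤ)⟧') =
      (fun g : (DRing.restrictD χ).obj (Q.obj E') ⟶ _ => (DRing.restrictD χ).map e'.inv ≫ g ≫
        ((DRing.LBaseChange ι).map e.hom)⟦(1 : ℤ)⟧') ∘
      (fun f : Q.obj E' ⟶ Q.obj E => (DRing.restrictD χ).map f ≫ deltaE h E) ∘
      (fun f : N ⟶ M => e'.hom ≫ f ≫ e.inv) := by
    funext f
    simp only [Function.comp, Functor.map_comp, Category.assoc]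
    rw [← Functor.map_comp_assoc (DRing.restrictD χ) e'.inv e'.hom, Iso.inv_hom_id,
      CategoryTheory.Functor.map_id, Category.id_comp]
  rw [hfun]
  refine Function.Bijective.comp ?_ (Function.Bijective.comp hb ?_)
  · constructor
    · intro g g' hgg
      have h1 := (cancel_epi ((DRing.restrictD χ).map e'.inv)).1 hgg
      exact (cancel_mono (((DRing.LBaseChange ι).map e.hom)⟦(1 : ℤ)⟧')).1 h1
    · intro g
      refine ⟨(DRing.restrictD χ).map e'.hom ≫ g ≫ ((DRing.LBaseChange ι).map e.inv)⟦(1 : ℤ)⟧', ?_⟩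
      simp only [Category.assoc]
      rw [← Functor.map_comp, ← Functor.map_comp, Iso.inv_hom_id, CategoryTheory.Functor.map_id,
        CategoryTheory.Functor.map_id, Category.comp_id, ← Functor.map_comp_assoc, Iso.inv_hom_id,
        CategoryTheory.Functor.map_id, Category.id_comp]
  · constructor
    · intro f f' hff
      have h1 := (cancel_epi e'.hom).1 hff
      exact (cancel_mono e.inv).1 h1
    · intro g
      exact ⟨e'.inv ≫ g ≫ e.hom, by simp⟩

end Der

end Groth.Agent.Lib.T2H4.Koszul
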