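import Groth.Agent.Lib.T2H4Koszul3
import Groth.Agent.Lib.T2H4TwoIdeal

set_option autoImplicit false
set_option linter.style.haveILetI false
set_option backward.isDefEq.respectTransparency.types false
universe u
open CategoryTheory CategoryTheory.Limits Pretriangulated
attribute [local instance] HasDerivedCategory.standard

namespace Groth.Agent.Lib.T2H4.Koszul

section Rep

variable {𝒜 ℬ 𝒞 : Type*} [Category 𝒜] [Category ℬ] [Category 𝒞]

/-- `X` represents the functor `L ↦ Hom(F L, Y)`. -/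
def IsRHom (F : 𝒜 ⥤ ℬ) (Y : ℬ) (X : 𝒜) : Prop :=
  ∃ ε : F.obj X ⟶ Y, ∀ L : 𝒜, Function.Bijective (fun g : L ⟶ X => F.map g ≫ ε)

lemma isRHom_of_adj {F : 𝒜 ⥤ ℬ} {G : ℬ ⥤ 𝒜} (adj : F ⊣ G) (Y : ℬ) : IsRHom F Y (G.obj Y) := by
  refine ⟨adj.counit.app Y, fun L => ?_⟩
  have hfun : (fun g : L ⟶ G.obj Y => F.map g ≫ adj.counit.app Y) = (adj.homEquiv L Y).symm := by
    funext g
    rw [Adjunction.homEquiv_counit]
  rw [hfun]
  exact Equiv.bijective _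

lemma IsRHom.unique {F : 𝒜 ⥤ ℬ} {Y : ℬ} {X X' : 𝒜} (h : IsRHom F Y X) (h' : IsRHom F Y X') :
    Nonempty (X ≅ X') := by
  obtain ⟨ε, hε⟩ := h
  obtain ⟨ε', hε'⟩ := h'
  obtain ⟨u, hu⟩ := (hε' X).2 ε
  obtain ⟨v, hv⟩ := (hε X').2 ε'
  have hu' : F.map u ≫ ε' = ε := hu
  have hv' : F.map v ≫ ε = ε' := hv
  refine ⟨⟨u, v, ?_, ?_⟩⟩
  · apply (hε X).1
    show F.map (u ≫ v) ≫ ε = F.map (𝟙 X) ≫ ε
    rw [Functor.map_comp, Category.assoc, hv', hu', CategoryTheory.Functor.map_id, Category.id_comp]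
  · apply (hε' X').1
    show F.map (v ≫ u) ≫ ε' = F.map (𝟙 X') ≫ ε'
    rw [Functor.map_comp, Category.assoc, hu', hv', CategoryTheory.Functor.map_id, Category.id_comp]

lemma IsRHom.of_iso_target {F : 𝒜 ⥤ ℬ} {Y Y' : ℬ} {X : 𝒜} (h : IsRHom F Y X) (i : Y ≅ Y') :
    IsRHom F Y' X := by
  obtain ⟨ε, hε⟩ := h
  refine ⟨ε ≫ i.hom, fun L => ?_⟩
  have hfun : (fun g : L ⟶ X => F.map g ≫ ε ≫ i.hom) =
      (fun k : F.obj L ⟶ Y => k ≫ i.hom) ∘ (fun g : L ⟶ X => F.map g ≫ ε) := by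
    funext g
    simp
  rw [hfun]
  refine Function.Bijective.comp ?_ (hε L)
  exact ⟨fun k k' hk => (cancel_mono i.hom).1 hk, fun k => ⟨k ≫ i.inv, by simp⟩⟩

lemma IsRHom.of_natIso {F F' : 𝒜 ⥤ ℬ} {Y : ℬ} {X : 𝒜} (h : IsRHom F Y X) (α : F ≅ F') :
    IsRHom F' Y X := by
  obtain ⟨ε, hε⟩ := h
  refine ⟨α.inv.app X ≫ ε, fun L => ?_⟩
  have hfun : (fun g : L ⟶ X => F'.map g ≫ α.inv.app X ≫ ε) =
      (fun k : F.obj L ⟶ Y => α.inv.app L ≫ k) ∘ (fun g : L ⟶ X => F.map g ≫ ε) := by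
    funext g
    simp
  rw [hfun]
  refine Function.Bijective.comp ?_ (hε L)
  exact ⟨fun k k' hk => (cancel_epi (α.inv.app L)).1 hk, fun k => ⟨α.hom.app L ≫ k, by simp⟩⟩

lemma IsRHom.comp {F : 𝒜 ⥤ ℬ} {G : ℬ ⥤ 𝒞} {M : ℬ} {Y : 𝒞} {X : 𝒜} (h : IsRHom F M X)
    (h' : IsRHom G Y M) : IsRHom (F ⋙ G) Y X := by
  obtain ⟨ε, hε⟩ := h
  obtain ⟨δ, hδ⟩ := h'
  refine ⟨G.map ε ≫ δ, fun L => ?_⟩
  have hfun : (fun g : L ⟶ X => (F ⋙ G).map g ≫ G.map ε ≫ δ) =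
      (fun f : F.obj L ⟶ M => G.map f ≫ δ) ∘ (fun g : L ⟶ X => F.map g ≫ ε) := by
    funext g
    simp
  rw [hfun]
  exact (hδ (F.obj L)).comp (hε L)

end Rep

section ResComp

variable {R S T : Type u} [CommRing R] [CommRing S] [CommRing T] (φ₁ : R →+* S) (φ₂ : S →+* T)
  (φ₃ : R →+* T)

/-- restriction of scalars on derived categories is compatible with composition. -/
noncomputable def resCompIso (h : φ₃ = φ₂.comp φ₁) :
    DRing.restrictD φ₂ ⋙ DRing.restrictD φ₁ ≅ DRing.restrictD φ₃ :=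
  Localization.liftNatIso (DerivedCategory.Q (C := ModuleCat.{u} T))
    (HomologicalComplex.quasiIso (ModuleCat.{u} T) (ComplexShape.up ℤ))
    ((ModuleCat.restrictScalars.{u} φ₂).mapHomologicalComplex (ComplexShape.up ℤ) ⋙
      (ModuleCat.restrictScalars.{u} φ₁).mapHomologicalComplex (ComplexShape.up ℤ) ⋙
        DerivedCategory.Q)
    ((ModuleCat.restrictScalars.{u} φ₃).mapHomologicalComplex (ComplexShape.up ℤ) ⋙
      DerivedCategory.Q) _ _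
    (h₁ := TrivBC.liftingRes₂ φ₂ φ₁)
    (h₂ := ⟨(ModuleCat.restrictScalars.{u} φ₃).mapDerivedCategoryFactors⟩)
    ((Functor.associator _ _ _).symm ≪≫ Functor.isoWhiskerRight
      (Functor.mapHomologicalComplexCompIso
        (ModuleCat.restrictScalarsComp' φ₁ φ₂ φ₃ h).symm (ComplexShape.up ℤ)) _)

end ResComp

section Step

variable {A B C : Type u} [CommRing A] [CommRing B] [CommRing C] {ι : B →+* C} {χ : C →+* B}
  {t : C} (h : IsOneVar ι χ t) [DRing.HasLBaseChange ι]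

include h in
/-- the abstract step: passing from a presentation by `B` to one by `C = B[t]`. -/
theorem isRHom_step (ξB : B →+* A) (ξC : C →+* A) (hξ : ξC = ξB.comp χ) (M : Dual.D B)
    (X : Dual.D A) (hX : IsRHom (DRing.restrictD ξB) M X) :
    IsRHom (DRing.restrictD ξC) (((DRing.LBaseChange ι).obj M)⟦(1 : ℤ)⟧) X := by
  have h1 : IsRHom (DRing.restrictD χ) (((DRing.LBaseChange ι).obj M)⟦(1 : ℤ)⟧) M :=
    exists_delta h M
  exact (hX.comp h1).of_natIso (resCompIso χ ξB ξC hξ)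

end Step

section Shift

open Groth.Agent.Lib.T2H4.TorIndep

variable {R S : Type u} [CommRing R] [CommRing S] (φ : R →+* S)

lemma nonempty_lbc_shift_iso [DRing.HasLBaseChange φ] (K : Dual.D R) (a : ℤ) :
    Nonempty ((DRing.LBaseChange φ).obj (K⟦a⟧) ≅ ((DRing.LBaseChange φ).obj K)⟦a⟧) := by
  letI : (DRing.LBaseChange φ).CommShift ℤ := (lbcAdj φ).leftAdjointCommShift ℤ
  exact ⟨((DRing.LBaseChange φ).commShiftIso a).app K⟩

lemma nonempty_rightAdj_shift_iso (G : Dual.D R ⥤ Dual.D S) (adj : DRing.restrictD φ ⊣ G)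
    (Y : Dual.D R) (a : ℤ) : Nonempty (G.obj (Y⟦a⟧) ≅ (G.obj Y)⟦a⟧) := by
  letI : G.CommShift ℤ := adj.rightAdjointCommShift ℤ
  exact ⟨(G.commShiftIso a).app Y⟩

end Shift

section Step2

variable {R A B C : Type u} [CommRing R] [CommRing A] [CommRing B] [CommRing C] {ι : B →+* C}
  {χ : C →+* B} {t : C} (h : IsOneVar ι χ t) (ρB : R →+* B) (ρC : R →+* C)
  [DRing.HasLBaseChange ι] [DRing.HasLBaseChange ρB] [DRing.HasLBaseChange ρC]

include h in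
/-- the abstract step, with base ring and shifts. -/
theorem isRHom_step' (hρ : ι.comp ρB = ρC) (ξB : B →+* A) (ξC : C →+* A) (hξ : ξC = ξB.comp χ)
    (K : Dual.D R) (d d' : ℤ) (hd : d + 1 = d') (X : Dual.D A)
    (hX : IsRHom (DRing.restrictD ξB) (((DRing.LBaseChange ρB).obj K)⟦d⟧) X) :
    IsRHom (DRing.restrictD ξC) (((DRing.LBaseChange ρC).obj K)⟦d'⟧) X := by
  have h1 := isRHom_step h ξB ξC hξ _ X hX
  obtain ⟨e1⟩ := nonempty_lbc_shift_iso ι ((DRing.LBaseChange ρB).obj K) d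
  obtain ⟨e2⟩ := Groth.Agent.Lib.T2H4.TwoIdeal.nonempty_lbc_trans ρB ι ρC hρ K
  exact h1.of_iso_target ((shiftFunctor (Dual.D C) (1 : ℤ)).mapIso
    (e1 ≪≫ (shiftFunctor (Dual.D C) d).mapIso e2) ≪≫
      ((shiftFunctorAdd' (Dual.D C) d 1 d' hd).app _).symm)

end Step2

end Groth.Agent.Lib.T2H4.Koszul
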