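import Groth.Agent.Lib.T2H4Koszul4
import Groth.Agent.Lib.T2H4LDerExist

set_option autoImplicit false
set_option linter.style.haveILetI false
set_option backward.isDefEq.respectTransparency.types false
universe u
open CategoryTheory CategoryTheory.Limits Pretriangulated
attribute [local instance] HasDerivedCategory.standard

namespace Groth.Agent.Lib.T2H4.Koszul

section Poly

variable (R : Type u) [CommRing R] (N : ℕ) (p : Fin (N + 1))

/-- inclusion of the polynomial ring in `N` variables, omitting the variable `p`. -/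
noncomputable def polyι : MvPolynomial (Fin N) R →+* MvPolynomial (Fin (N + 1)) R :=
  (MvPolynomial.rename p.succAbove : MvPolynomial (Fin N) R →ₐ[R] _).toRingHom

/-- substituting `g` for the variable `p`. -/
noncomputable def polyχ (g : MvPolynomial (Fin N) R) :
    MvPolynomial (Fin (N + 1)) R →+* MvPolynomial (Fin N) R :=
  (MvPolynomial.aeval (p.insertNth g MvPolynomial.X :
    Fin (N + 1) → MvPolynomial (Fin N) R)).toRingHom

/-- the identification `R[x_0..x_N] ≃ R[x_i : i ≠ p][x_p]`. -/
noncomputable def polyΘ :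
    MvPolynomial (Fin (N + 1)) R ≃ₐ[R] Polynomial (MvPolynomial (Fin N) R) :=
  (MvPolynomial.renameEquiv R (finSuccEquiv' p)).trans (MvPolynomial.optionEquivLeft R (Fin N))

lemma polyΘ_X_self : polyΘ R N p (MvPolynomial.X p) = Polynomial.X := by
  simp [polyΘ, MvPolynomial.optionEquivLeft_X_none]

lemma polyΘ_X_succAbove (i : Fin N) :
    polyΘ R N p (MvPolynomial.X (p.succAbove i)) = Polynomial.C (MvPolynomial.X i) := by
  simp [polyΘ, MvPolynomial.optionEquivLeft_X_some]

lemma polyΘ_ι (b : MvPolynomial (Fin N) R) : polyΘ R N p (polyι R N p b) = Polynomial.C b := by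
  have : ((polyΘ R N p : MvPolynomial (Fin (N + 1)) R →ₐ[R] _).comp
      (MvPolynomial.rename p.succAbove)) =
      (Polynomial.CAlgHom : MvPolynomial (Fin N) R →ₐ[R] _) := by
    apply MvPolynomial.algHom_ext
    intro i
    simp [polyΘ_X_succAbove]
  exact DFunLike.congr_fun this b

lemma polyχ_eq (g : MvPolynomial (Fin N) R) (c : MvPolynomial (Fin (N + 1)) R) :
    polyχ R N p g c = Polynomial.eval g (polyΘ R N p c) := by
  have : (MvPolynomial.aeval (p.insertNth g MvPolynomial.X :
      Fin (N + 1) → MvPolynomial (Fin N) R)) =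
      ((Polynomial.aeval g : Polynomial (MvPolynomial (Fin N) R) →ₐ[MvPolynomial (Fin N) R] _
        ).restrictScalars R).comp (polyΘ R N p : MvPolynomial (Fin (N + 1)) R →ₐ[R] _) := by
    apply MvPolynomial.algHom_ext
    intro j
    rcases Fin.eq_self_or_eq_succAbove p j with rfl | ⟨i, rfl⟩
    · simp [polyΘ_X_self]
    · simp [polyΘ_X_succAbove]
  have h2 := DFunLike.congr_fun this c
  simpa [polyχ, Polynomial.coe_aeval_eq_eval] using h2

theorem isOneVar_poly (g : MvPolynomial (Fin N) R) :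
    IsOneVar (polyι R N p) (polyχ R N p g) (MvPolynomial.X p - polyι R N p g) where
  hχι b := by
    rw [polyχ_eq, polyΘ_ι, Polynomial.eval_C]
  hreg c hc := by
    have h1 : polyΘ R N p ((MvPolynomial.X p - polyι R N p g) * c) = 0 := by rw [hc, map_zero]
    rw [map_mul, map_sub, polyΘ_X_self, polyΘ_ι] at h1
    have h2 : polyΘ R N p c = 0 :=
      (Polynomial.Monic.mul_right_eq_zero_iff (Polynomial.monic_X_sub_C g)).1 h1
    exact (EmbeddingLike.map_eq_zero_iff (f := polyΘ R N p)).1 h2
  hker c hc := by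
    rw [polyχ_eq] at hc
    have h1 : (Polynomial.X - Polynomial.C g) ∣ polyΘ R N p c :=
      Polynomial.dvd_iff_isRoot.2 hc
    obtain ⟨q, hq⟩ := h1
    refine ⟨(polyΘ R N p).symm q, ?_⟩
    apply (polyΘ R N p).injective
    rw [map_mul, map_sub, polyΘ_X_self, polyΘ_ι, AlgEquiv.apply_symm_apply, hq]
  hχt := by
    rw [polyχ_eq, map_sub, polyΘ_X_self, polyΘ_ι]
    simp

end Poly

section PolyStep

variable (R : Type u) [CommRing R] {A : Type u} [CommRing A] [Algebra R A] (N : ℕ)
  (p : Fin (N + 1))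

theorem isRHom_poly_step (ξ : MvPolynomial (Fin (N + 1)) R →ₐ[R] A)
    (hsurj : Function.Surjective (ξ.comp (MvPolynomial.rename p.succAbove)))
    [DRing.HasLBaseChange (algebraMap R (MvPolynomial (Fin N) R))]
    [DRing.HasLBaseChange (algebraMap R (MvPolynomial (Fin (N + 1)) R))]
    (K : Dual.D R) (X : Dual.D A)
    (hX : IsRHom (DRing.restrictD (ξ.comp (MvPolynomial.rename p.succAbove)).toRingHom)
      (((DRing.LBaseChange (algebraMap R (MvPolynomial (Fin N) R))).obj K)⟦(N : ℤ)⟧) X) :
    IsRHom (DRing.restrictD ξ.toRingHom)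
      (((DRing.LBaseChange (algebraMap R (MvPolynomial (Fin (N + 1)) R))).obj K)⟦((N + 1 : ℕ) : ℤ)⟧)
      X := by
  obtain ⟨g, hg⟩ := hsurj (ξ (MvPolynomial.X p))
  haveI : DRing.HasLBaseChange (polyι R N p) := LDerExist.hasLBaseChange _
  have h := isOneVar_poly R N p g
  have hAlg : ξ = (ξ.comp (MvPolynomial.rename p.succAbove)).comp
      (MvPolynomial.aeval (p.insertNth g MvPolynomial.X :
        Fin (N + 1) → MvPolynomial (Fin N) R)) := by
    apply MvPolynomial.algHom_ext
    intro j
    rcases Fin.eq_self_or_eq_succAbove p j with rfl | ⟨i, rfl⟩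
    · simp only [AlgHom.comp_apply, MvPolynomial.aeval_X, Fin.insertNth_apply_same]
      exact hg.symm
    · simp
  refine isRHom_step' h (algebraMap R _) (algebraMap R _) ?_
    (ξ.comp (MvPolynomial.rename p.succAbove)).toRingHom ξ.toRingHom ?_ K (N : ℤ)
    ((N + 1 : ℕ) : ℤ) (by push_cast; ring) X hX
  · ext r
    simp [polyι]
  · have := congrArg AlgHom.toRingHom hAlg
    exact this

end PolyStep

section Chain

variable (R : Type u) [CommRing R] {A : Type u} [CommRing A] [Algebra R A]

lemma strictMono_fin_eq_id {n : ℕ} (e : Fin n → Fin n) (he : StrictMono e) : e = id := by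
  have hs : Function.Surjective e := Finite.surjective_of_injective he.injective
  have h1 : he.orderIsoOfSurjective e hs = OrderIso.refl _ := Subsingleton.elim _ _
  funext i
  have := congrArg (fun o : Fin n ≃o Fin n => o i) h1
  simpa using this

local instance instHasLBCPoly (N : ℕ) :
    DRing.HasLBaseChange (algebraMap R (MvPolynomial (Fin N) R)) :=
  LDerExist.hasLBaseChange _

theorem isRHom_chain (m₀ : ℕ) (ψ₀ : MvPolynomial (Fin m₀) R →ₐ[R] A)
    (hψ₀ : Function.Surjective ψ₀) (K : Dual.D R) (X : Dual.D A)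
    (hX : IsRHom (DRing.restrictD ψ₀.toRingHom)
      (((DRing.LBaseChange (algebraMap R (MvPolynomial (Fin m₀) R))).obj K)⟦(m₀ : ℤ)⟧) X) :
    ∀ (k N : ℕ) (ξ : MvPolynomial (Fin N) R →ₐ[R] A) (e : Fin m₀ → Fin N), StrictMono e →
      N = m₀ + k → ξ.comp (MvPolynomial.rename e) = ψ₀ →
      IsRHom (DRing.restrictD ξ.toRingHom)
        (((DRing.LBaseChange (algebraMap R (MvPolynomial (Fin N) R))).obj K)⟦(N : ℤ)⟧) X := by
  intro k
  induction k with
  | zero =>
    intro N ξ e he hN hξ
    simp only [add_zero] at hN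
    subst hN
    have he' : e = id := strictMono_fin_eq_id e he
    subst he'
    have : ξ = ψ₀ := by
      rw [← hξ]
      ext i
      simp
    subst this
    exact hX
  | succ k ih =>
    intro N ξ e he hN hξ
    obtain ⟨N', rfl⟩ : ∃ N', N = N' + 1 := ⟨m₀ + k, by omega⟩
    have hN' : N' = m₀ + k := by omega
    have hex : ∃ p : Fin (N' + 1), p ∉ Set.range e := by
      by_contra hcon
      push Not at hcon
      have hs : Function.Surjective e := hcon
      have := Fintype.card_le_of_surjective e hs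
      simp only [Fintype.card_fin] at this
      omega
    obtain ⟨p, hp⟩ := hex
    have hex2 : ∀ i, ∃ j, p.succAbove j = e i := fun i =>
      Fin.exists_succAbove_eq (by rintro h; exact hp ⟨i, h⟩)
    choose eB heB using hex2
    have heB' : p.succAbove ∘ eB = e := funext heB
    have hmono : StrictMono eB := by
      intro i j hij
      have := he hij
      rw [← heB i, ← heB j] at this
      exact (Fin.strictMono_succAbove p).lt_iff_lt.1 this
    have hξB' : (ξ.comp (MvPolynomial.rename p.succAbove)).comp (MvPolynomial.rename eB) = ψ₀ := by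
      rw [← hξ, ← heB']
      ext i
      simp
    have hsurj : Function.Surjective (ξ.comp (MvPolynomial.rename p.succAbove)) := by
      intro a
      obtain ⟨b, hb⟩ := hψ₀ a
      exact ⟨MvPolynomial.rename eB b, by rw [← hb, ← hξB']; rfl⟩
    have ih' := ih N' (ξ.comp (MvPolynomial.rename p.succAbove)) eB hmono hN' hξB'
    exact isRHom_poly_step R N' p ξ hsurj K X ih'

end Chain

section Final

variable (R : Type u) [CommRing R] {A : Type u} [CommRing A] [Algebra R A]

theorem shriekVia_indep (n : ℕ) (ψ : MvPolynomial (Fin n) R →ₐ[R] A)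
    (hψ : Function.Surjective ψ)
    [DRing.HasLBaseChange (algebraMap R (MvPolynomial (Fin n) R))]
    (Rψ : Dual.D (MvPolynomial (Fin n) R) ⥤ Dual.D A)
    (adj : DRing.restrictD ψ.toRingHom ⊣ Rψ) (m : ℕ) (ψ' : MvPolynomial (Fin m) R →ₐ[R] A)
    (hψ' : Function.Surjective ψ')
    [DRing.HasLBaseChange (algebraMap R (MvPolynomial (Fin m) R))]
    (Rψ' : Dual.D (MvPolynomial (Fin m) R) ⥤ Dual.D A)
    (adj' : DRing.restrictD ψ'.toRingHom ⊣ Rψ') (K : Dual.D R) :
    Nonempty
      ((Rψ.obj ((DRing.LBaseChange (algebraMap R (MvPolynomial (Fin n) R))).obj K))⟦(n : ℤ)⟧ ≅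
        (Rψ'.obj ((DRing.LBaseChange (algebraMap R (MvPolynomial (Fin m) R))).obj K))⟦(m : ℤ)⟧) := by
  have h1 := isRHom_of_adj adj
    (((DRing.LBaseChange (algebraMap R (MvPolynomial (Fin n) R))).obj K)⟦(n : ℤ)⟧)
  have h2 := isRHom_of_adj adj'
    (((DRing.LBaseChange (algebraMap R (MvPolynomial (Fin m) R))).obj K)⟦(m : ℤ)⟧)
  obtain ⟨i1⟩ := nonempty_rightAdj_shift_iso ψ.toRingHom Rψ adj
    ((DRing.LBaseChange (algebraMap R (MvPolynomial (Fin n) R))).obj K) (n : ℤ)
  obtain ⟨i2⟩ := nonempty_rightAdj_shift_iso ψ'.toRingHom Rψ' adj'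
    ((DRing.LBaseChange (algebraMap R (MvPolynomial (Fin m) R))).obj K) (m : ℤ)
  let ξ : MvPolynomial (Fin (n + m)) R →ₐ[R] A :=
    MvPolynomial.aeval (Fin.addCases (fun i => ψ (MvPolynomial.X i))
      (fun j => ψ' (MvPolynomial.X j)))
  have hξ1 : ξ.comp (MvPolynomial.rename (Fin.castAdd m)) = ψ := by
    ext i
    simp [ξ]
  have hξ2 : ξ.comp (MvPolynomial.rename (Fin.natAdd n)) = ψ' := by
    ext j
    simp [ξ]
  have c1 := isRHom_chain R n ψ hψ K _ h1 m (n + m) ξ (Fin.castAdd m)
    (Fin.strictMono_castAdd m) rfl hξ1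
  have c2 := isRHom_chain R m ψ' hψ' K _ h2 n (n + m) ξ (Fin.natAdd n)
    (Fin.strictMono_natAdd n) (add_comm n m) hξ2
  obtain ⟨j⟩ := c1.unique c2
  exact ⟨i1.symm ≪≫ j ≪≫ i2⟩

end Final

end Groth.Agent.Lib.T2H4.Koszul
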