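import Groth.Agent.Lib.T2H4LocalDual4
import Groth.Agent.S11662
import Groth.Agent.Lib.T2H4RGDelta

/-!
# `Ext(N, ω)` for modules of finite length (helper4)
-/

set_option autoImplicit false
set_option linter.style.haveILetI false
set_option linter.unusedSectionVars false
set_option backward.isDefEq.respectTransparency.types false
universe u
open CategoryTheory CategoryTheory.Limits
attribute [local instance] HasDerivedCategory.standard

namespace Groth.Agent.Lib.T2H4.LocalDual


open DerivedCategory Pretriangulated Groth.Agent.Lib.T2H4.DualField Groth.Agent.Lib.T2H4.Bidual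
  HomologicalComplex

section Artinian

variable {B : Type u} [CommRing B] [IsLocalRing B] [IsNoetherianRing B]

/-- over an Artinian local ring a normalized dualizing complex is an injective hull of the residue
field in degree `0`. -/
theorem exists_injectiveHull_rep [IsArtinianRing B] (T : Dual.D B) (hT : Dual.IsDualizing B T)
    (hn : Dual.IsNormalized B T) :
    ∃ (W : ModuleCat.{u} B) (f₀ : IsLocalRing.ResidueField B →ₗ[B] W),
      InjHull.IsInjectiveHull f₀ ∧ Nonempty (T ≅ (singleFunctor (ModuleCat.{u} B) 0).obj W) := by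
  have hfl : ∀ J : Ideal B, IsFiniteLength B (B ⧸ J) := fun J =>
    isFiniteLength_iff_isNoetherian_isArtinian.2 ⟨inferInstance, inferInstance⟩
  have h : ∀ (J : Ideal B) (i : ℤ), (i < 0 ∨ 0 < i) →
      Subsingleton (Dual.inD B (B ⧸ J) ⟶ T⟦i⟧) := fun J i hi =>
    subsingleton_hom_of_isFiniteLength (T⟦i⟧) (hn i (by lia)) (B ⧸ J) (hfl J)
  obtain ⟨W, hW, ⟨e⟩⟩ := exists_iso_single_injective T h
  obtain ⟨f₀, hf₀, hgen⟩ := exists_socle_generator T hT hn W e
  have hpt : LocCoh.IsPowerTorsion (IsLocalRing.maximalIdeal B) W := by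
    obtain ⟨n, hn⟩ := (isArtinianRing_iff_isNilpotent_maximalIdeal B).1 inferInstance
    intro x
    refine ⟨n, fun a ha => ?_⟩
    rw [hn] at ha
    rw [(Submodule.mem_bot B).1 ha, zero_smul]
  exact ⟨W, f₀, isInjectiveHull_of_socle W hW hpt f₀ hf₀ hgen, ⟨e⟩⟩

end Artinian

section Killed

variable {A : Type u} [CommRing A] [IsLocalRing A]

/-- a module of finite length over a local ring is killed by a power of the maximal ideal. -/
theorem exists_pow_le_annihilator (N : Type u) [AddCommGroup N] [Module A N]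
    (hN : IsFiniteLength A N) :
    ∃ k : ℕ, IsLocalRing.maximalIdeal A ^ k ≤ Module.annihilator A N := by
  induction hN with
  | of_subsingleton =>
    refine ⟨0, fun a _ => ?_⟩
    rw [Module.mem_annihilator]
    intro x
    exact Subsingleton.elim _ _
  | @of_simple_quotient M _ _ N' hsimple _ ih =>
    obtain ⟨k, hk⟩ := ih
    obtain ⟨I, hI, ⟨e⟩⟩ := isSimpleModule_iff_quot_maximal.mp hsimple
    have hIm : I = IsLocalRing.maximalIdeal A := IsLocalRing.eq_maximalIdeal hI
    subst hIm
    refine ⟨k + 1, ?_⟩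
    rw [pow_succ]
    apply Ideal.mul_le.2
    intro b hb a ha
    rw [Module.mem_annihilator]
    intro x
    have hax : a • x ∈ N' := by
      rw [← Submodule.Quotient.mk_eq_zero, Submodule.Quotient.mk_smul]
      apply e.injective
      rw [map_smul, map_zero]
      obtain ⟨y, hy⟩ := Ideal.Quotient.mk_surjective (e (Submodule.Quotient.mk x))
      rw [← hy, Algebra.smul_def, Ideal.Quotient.algebraMap_eq, ← map_mul,
        Ideal.Quotient.eq_zero_iff_mem]
      exact Ideal.mul_mem_right _ _ ha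
    have hb' := hk hb
    rw [Module.mem_annihilator] at hb'
    have := hb' ⟨a • x, hax⟩
    rw [mul_smul]
    exact congrArg Subtype.val this

end Killed



section Quot

variable {A : Type u} [CommRing A] [IsLocalRing A] [IsNoetherianRing A] (J : Ideal A)

lemma isLocalRing_quot (hJ : J ≤ IsLocalRing.maximalIdeal A) : IsLocalRing (A ⧸ J) := by
  haveI : Nontrivial (A ⧸ J) := Ideal.Quotient.nontrivial_iff.2 (fun h => by
    rw [h] at hJ
    exact (IsLocalRing.maximalIdeal.isMaximal A).ne_top (top_le_iff.1 hJ))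
  exact IsLocalRing.of_surjective' (Ideal.Quotient.mk J) Ideal.Quotient.mk_surjective

lemma isLocalHom_quot (hJ : J ≤ IsLocalRing.maximalIdeal A) :
    IsLocalHom (algebraMap A (A ⧸ J)) := by
  have : J ≤ Ideal.jacobson (⊥ : Ideal A) := by
    rw [IsLocalRing.jacobson_eq_maximalIdeal ⊥ bot_ne_top]
    exact hJ
  exact isLocalHom_of_le_jacobson_bot J this

lemma isArtinianRing_quot (hJ : J ≤ IsLocalRing.maximalIdeal A) (k : ℕ)
    (hk : IsLocalRing.maximalIdeal A ^ k ≤ J) :
    haveI := isLocalRing_quot J hJ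
    IsArtinianRing (A ⧸ J) := by
  haveI := isLocalRing_quot J hJ
  haveI := isLocalHom_quot J hJ
  rw [isArtinianRing_iff_isNilpotent_maximalIdeal]
  refine ⟨k, ?_⟩
  have h1 : IsLocalRing.maximalIdeal (A ⧸ J) =
      Ideal.map (Ideal.Quotient.mk J) (IsLocalRing.maximalIdeal A) :=
    (IsLocalRing.map_maximalIdeal_of_surjective _ Ideal.Quotient.mk_surjective).symm
  rw [h1, ← Ideal.map_pow, Ideal.zero_eq_bot, eq_bot_iff]
  calc Ideal.map (Ideal.Quotient.mk J) (IsLocalRing.maximalIdeal A ^ k)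
      ≤ Ideal.map (Ideal.Quotient.mk J) J := Ideal.map_mono hk
    _ = ⊥ := Ideal.map_quotient_self J

end Quot



section HullTorsion

variable {A : Type u} [CommRing A] [IsLocalRing A] [IsNoetherianRing A] (J : Ideal A)
  [IsLocalRing (A ⧸ J)] [IsLocalHom (algebraMap A (A ⧸ J))]

/-- `κ_A ≃ κ_{A/J}` as `A`-modules. -/
noncomputable def residueEquiv :
    IsLocalRing.ResidueField A ≃ₗ[A] IsLocalRing.ResidueField (A ⧸ J) :=
  LinearEquiv.ofBijective
    (IsScalarTower.toAlgHom A (IsLocalRing.ResidueField A)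
      (IsLocalRing.ResidueField (A ⧸ J))).toLinearMap
    ⟨(algebraMap (IsLocalRing.ResidueField A) (IsLocalRing.ResidueField (A ⧸ J))).injective, by
      intro y
      obtain ⟨y, rfl⟩ := IsLocalRing.residue_surjective y
      obtain ⟨a, rfl⟩ := Ideal.Quotient.mk_surjective y
      exact ⟨IsLocalRing.residue A a, rfl⟩⟩

lemma isInjectiveHull_comp_equiv {M M' E : Type u} [AddCommGroup M] [Module A M] [AddCommGroup M']
    [Module A M'] [AddCommGroup E] [Module A E] (f : M →ₗ[A] E) (hf : InjHull.IsInjectiveHull f)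
    (e : M' ≃ₗ[A] M) : InjHull.IsInjectiveHull (f ∘ₗ e.toLinearMap) := by
  refine ⟨⟨hf.injective.comp e.injective, ?_⟩, hf.isInjective⟩
  have hr : LinearMap.range (f ∘ₗ e.toLinearMap) = LinearMap.range f := by
    rw [LinearMap.range_comp, LinearEquiv.range, Submodule.map_top]
  rw [hr]
  exact hf.essential

/-- the `J`-torsion of an injective hull of `κ_A` is an injective hull of `κ_{A/J}` over `A/J`. -/
theorem exists_hull_torsion (E : Type u) [AddCommGroup E] [Module A E]
    (f : IsLocalRing.ResidueField A →ₗ[A] E) (hf : InjHull.IsInjectiveHull f) :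
    ∃ g : IsLocalRing.ResidueField (A ⧸ J) →ₗ[A ⧸ J] ↥(LocCoh.torsionBy J E),
      InjHull.IsInjectiveHull g := by
  have h1 := isInjectiveHull_comp_equiv f hf (residueEquiv J).symm
  obtain ⟨g, hg, -⟩ := Groth.Agent.S11662.result A J (IsLocalRing.ResidueField (A ⧸ J)) E _ h1
  exact ⟨g, hg⟩

end HullTorsion



open DerivedCategory Groth.Agent.Lib.T2H4.DualField

section Equivs

variable {R : Type u} [CommRing R]

/-- `Hom_R(M, N) ≃ Hom_{D(R)}(M[0], N[0])`. -/
noncomputable def singleHomEquiv (M N : ModuleCat.{u} R) :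
    (M →ₗ[R] N) ≃+ ((singleFunctor (ModuleCat.{u} R) 0).obj M ⟶
      (singleFunctor (ModuleCat.{u} R) 0).obj N) where
  toFun g := (singleFunctor (ModuleCat.{u} R) 0).map (ModuleCat.ofHom g)
  invFun t := ((singleFunctor (ModuleCat.{u} R) 0).preimage t).hom
  left_inv g := by
    show ((singleFunctor (ModuleCat.{u} R) 0).preimage
      ((singleFunctor (ModuleCat.{u} R) 0).map (ModuleCat.ofHom g))).hom = g
    rw [Functor.preimage_map]
    rfl
  right_inv t := by
    show (singleFunctor (ModuleCat.{u} R) 0).map (ModuleCat.ofHom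
      ((singleFunctor (ModuleCat.{u} R) 0).preimage t).hom) = t
    rw [ModuleCat.ofHom_hom, Functor.map_preimage]
  map_add' g g' := by
    have : ModuleCat.ofHom (g + g') = ModuleCat.ofHom g + ModuleCat.ofHom g' := rfl
    rw [this, Functor.map_add]

lemma singleHomEquiv_smul (M N : ModuleCat.{u} R) (c : R) (g : M →ₗ[R] N) :
    singleHomEquiv M N (c • g) = c • singleHomEquiv M N g := by
  show (singleFunctor (ModuleCat.{u} R) 0).map (ModuleCat.ofHom (c • g)) =
    c • (singleFunctor (ModuleCat.{u} R) 0).map (ModuleCat.ofHom g)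
  have : ModuleCat.ofHom (c • g) = c • ModuleCat.ofHom g := rfl
  rw [this, singleFunctor_map_smul]

variable (J : Ideal R) (N E : Type u) [AddCommGroup N] [Module R N] [Module (R ⧸ J) N]
  [IsScalarTower R (R ⧸ J) N] [AddCommGroup E] [Module R E]

/-- maps from an `R/J`-module to `E` land in the `J`-torsion. -/
noncomputable def torsionHomEquiv :
    (N →ₗ[R] E) ≃+ (N →ₗ[R ⧸ J] ↥(LocCoh.torsionBy J E)) where
  toFun h :=
    { toFun := fun x => ⟨h x, by
        rw [Submodule.mem_torsionBySet_iff]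
        rintro ⟨a, ha⟩
        show a • h x = 0
        rw [← map_smul, ← algebraMap_smul (R ⧸ J) a x]
        have : algebraMap R (R ⧸ J) a = 0 := by
          rw [Ideal.Quotient.algebraMap_eq, Ideal.Quotient.eq_zero_iff_mem]
          exact ha
        rw [this, zero_smul, map_zero]⟩
      map_add' := fun x y => Subtype.ext (map_add h x y)
      map_smul' := fun b x => by
        obtain ⟨a, rfl⟩ := Ideal.Quotient.mk_surjective b
        apply Subtype.ext
        show h (Ideal.Quotient.mk J a • x) = a • h x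
        rw [← Ideal.Quotient.algebraMap_eq, algebraMap_smul, map_smul] }
  invFun g :=
    { toFun := fun x => ((g x : LocCoh.torsionBy J E) : E)
      map_add' := fun x y => by rw [map_add]; rfl
      map_smul' := fun a x => by
        rw [← algebraMap_smul (R ⧸ J) a x, map_smul]
        rfl }
  left_inv h := by
    ext x
    rfl
  right_inv g := by
    ext x
    rfl
  map_add' h h' := by
    ext x
    rfl

lemma torsionHomEquiv_smul (a : R) (h : N →ₗ[R] E) :
    torsionHomEquiv J N E (a • h) = (Ideal.Quotient.mk J a) • torsionHomEquiv J N E h := by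
  ext x
  rfl

end Equivs


section Main

variable {A : Type u} [CommRing A] [IsLocalRing A] [IsNoetherianRing A]

open Groth.Agent.Lib.T2H4.DualFinite Groth.Agent.Lib.T2H4.DComp Groth.Agent.Lib.Helper1.Restrict
  DerivedCategory in
theorem nonempty_hom_equiv_of_quot (J : Ideal A) [IsLocalRing (A ⧸ J)]
    [IsLocalHom (algebraMap A (A ⧸ J))] [IsArtinianRing (A ⧸ J)]
    (ω : Dual.D A) (hω : Dual.IsDualizing A ω) (hn : Dual.IsNormalized A ω)
    (E : Type u) [AddCommGroup E] [Module A E] (f : IsLocalRing.ResidueField A →ₗ[A] E)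
    (hf : InjHull.IsInjectiveHull f)
    (N : Type u) [AddCommGroup N] [Module A N] [Module (A ⧸ J) N] [IsScalarTower A (A ⧸ J) N] :
    Nonempty ((Dual.inD A N ⟶ ω) ≃ₗ[A] (N →ₗ[A] E)) := by
  let R := RG (algebraMap A (A ⧸ J))
  let adj := adjRG (algebraMap A (A ⧸ J))
  have hT : Dual.IsDualizing (A ⧸ J) (R.obj ω) := isDualizing_rightAdjoint R adj ω hω
  have hTn : Dual.IsNormalized (A ⧸ J) (R.obj ω) := isNormalized_rightAdjoint R adj ω hn
  obtain ⟨W, f₀, hull₀, ⟨eT⟩⟩ := exists_injectiveHull_rep (R.obj ω) hT hTn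
  obtain ⟨g, hg⟩ := exists_hull_torsion J E f hf
  obtain ⟨eW, -⟩ := Groth.Agent.S0302.result (A ⧸ J) (IsLocalRing.ResidueField (A ⧸ J)) W
    ↥(LocCoh.torsionBy J E) f₀ hull₀ g hg
  let NB : ModuleCat.{u} (A ⧸ J) := ModuleCat.of (A ⧸ J) N
  let X : Dual.D (A ⧸ J) := Dual.inD (A ⧸ J) N
  let eN : ((ModuleCat.restrictScalars.{u} (algebraMap A (A ⧸ J))).obj NB) ≃ₗ[A] N :=
    { toFun := fun x => x
      invFun := fun x => x
      map_add' := fun _ _ => rfl
      map_smul' := fun a x => algebraMap_smul (A ⧸ J) a (show N from x)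
      left_inv := fun _ => rfl
      right_inv := fun _ => rfl }
  let iso2 : (DRing.restrictD (algebraMap A (A ⧸ J))).obj X ≅ Dual.inD A N :=
    restrictDSingleIso (algebraMap A (A ⧸ J)) NB 0 ≪≫
      (singleFunctor (ModuleCat.{u} A) 0).mapIso eN.toModuleIso
  let E1 := torsionHomEquiv J N E
  let E2 : (N →ₗ[A ⧸ J] ↥(LocCoh.torsionBy J E)) ≃ₗ[A ⧸ J] (N →ₗ[A ⧸ J] W) :=
    LinearEquiv.congrRight eW.symm
  let E3 := singleHomEquiv NB W
  let E4 := Linear.homCongr (A ⧸ J) (Iso.refl X) eT.symm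
  let E5 := (adj.homAddEquiv X ω).symm
  let E6 := Linear.homCongr A iso2 (Iso.refl ω)
  let Ψ : (N →ₗ[A] E) ≃+ (Dual.inD A N ⟶ ω) :=
    ((((E1.trans E2.toAddEquiv).trans E3).trans E4.toAddEquiv).trans E5).trans E6.toAddEquiv
  have hE5 : ∀ (a : A) (t : X ⟶ R.obj ω), E5 (algebraMap A (A ⧸ J) a • t) = a • E5 t := by
    intro a t
    apply (adj.homAddEquiv X ω).injective
    show adj.homEquiv X ω (E5 (algebraMap A (A ⧸ J) a • t)) = adj.homEquiv X ω (a • E5 t)
    rw [homEquiv_smul]
    show (adj.homAddEquiv X ω) ((adj.homAddEquiv X ω).symm _) =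
      _ • (adj.homAddEquiv X ω) ((adj.homAddEquiv X ω).symm _)
    rw [AddEquiv.apply_symm_apply, AddEquiv.apply_symm_apply]
  have hΨ : ∀ (a : A) (h : N →ₗ[A] E), Ψ (a • h) = a • Ψ h := by
    intro a h
    show E6 (E5 (E4 (E3 (E2 (E1 (a • h)))))) = a • E6 (E5 (E4 (E3 (E2 (E1 h)))))
    rw [torsionHomEquiv_smul, map_smul, singleHomEquiv_smul, map_smul]
    have := hE5 a (E4 (E3 (E2 (E1 h))))
    rw [show (Ideal.Quotient.mk J a : A ⧸ J) = algebraMap A (A ⧸ J) a from rfl, this, map_smul]
  let L : (N →ₗ[A] E) →ₗ[A] (Dual.inD A N ⟶ ω) :=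
    { toFun := Ψ
      map_add' := Ψ.map_add
      map_smul' := hΨ }
  exact ⟨(LinearEquiv.ofBijective L Ψ.bijective).symm⟩

/-- **S1749**. -/
theorem ext_finiteLength (ω : Dual.D A) (hω : Dual.IsDualizing A ω) (hn : Dual.IsNormalized A ω)
    (E : Type u) [AddCommGroup E] [Module A E] (f : IsLocalRing.ResidueField A →ₗ[A] E)
    (hf : InjHull.IsInjectiveHull f) (N : Type u) [AddCommGroup N] [Module A N]
    (hN : IsFiniteLength A N) :
    (∀ i : ℤ, i ≠ 0 → Subsingleton (Dual.inD A N ⟶ ω⟦i⟧)) ∧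
      Nonempty ((Dual.inD A N ⟶ ω) ≃ₗ[A] (N →ₗ[A] E)) := by
  refine ⟨fun i hi => subsingleton_hom_of_isFiniteLength (ω⟦i⟧) (hn i hi) N hN, ?_⟩
  obtain ⟨k, hk⟩ := exists_pow_le_annihilator N hN
  let J := IsLocalRing.maximalIdeal A ^ (k + 1)
  have hJ : J ≤ IsLocalRing.maximalIdeal A := Ideal.pow_le_self (by lia)
  have hJN : Module.IsTorsionBySet A N J := by
    intro x a
    have h1 := hk (Ideal.pow_le_pow_right (Nat.le_succ k) a.2)
    exact Module.mem_annihilator.1 h1 x
  haveI := isLocalRing_quot J hJ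
  haveI := isLocalHom_quot J hJ
  haveI := isArtinianRing_quot J hJ (k + 1) le_rfl
  letI : Module (A ⧸ J) N := hJN.module
  haveI : IsScalarTower A (A ⧸ J) N := hJN.isScalarTower
  exact nonempty_hom_equiv_of_quot J ω hω hn E f hf N

end Main

end Groth.Agent.Lib.T2H4.LocalDual
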