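import Groth.Agent.Lib.T2H4Bidual5
import Groth.Agent.Lib.T2H4GammaComp
import Groth.Agent.Lib.T2H4HDIRestrict
import Groth.Agent.S1749
import Groth.Agent.S11174
import Groth.Agent.S0302

set_option autoImplicit false
set_option linter.style.haveILetI false
set_option backward.isDefEq.respectTransparency.types false
universe u v
open CategoryTheory CategoryTheory.Limits
attribute [local instance] HasDerivedCategory.standard

namespace Groth.Agent.Lib.T2H4.LD

open CochainComplex HomComplex DerivedCategory HomologicalComplex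
  Groth.Agent.Lib.T2H4.Bidual Groth.Agent.Lib.T2H4.RGam Groth.Agent.Lib.T2H4.GNoeth
  Groth.Agent.Lib.T2H4.DComp

variable {A : Type u} [CommRing A]

section N5

/-- `H^n(Hom•(K, L)) ≃ Hom_{D(A)}(K, L[n])` for `L` K-injective. -/
noncomputable def homologyHomCxEquiv (K L : DRing.Cx A) [L.IsKInjective] (n : ℤ) :
    (DRing.homCx K L).homology n ≃ₗ[A] (Q.obj K ⟶ (Q.obj L)⟦n⟧) := by
  let S := (DRing.homCx K L).sc' (n - 1) n (n + 1)
  let e1 : (DRing.homCx K L).homology n ≅ S.homology :=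
    (DRing.homCx K L).homologyIsoSc' (n - 1) n (n + 1) (by simp) (by simp)
  let e2 := S.moduleCatHomologyIso
  have hker : LinearMap.ker (ΘLin K L n) = LinearMap.range S.moduleCatToCycles := by
    ext z
    rw [LinearMap.mem_ker, LinearMap.mem_range]
    show Θ K L (Cocycle.mk (z.1 : Cochain K L n) (n + 1) rfl z.2) = 0 ↔ _
    rw [Θ_eq_zero_iff]
    constructor
    · rintro ⟨y, hy⟩
      exact ⟨y, Subtype.ext hy⟩
    · rintro ⟨y, hy⟩
      exact ⟨y, congrArg Subtype.val hy⟩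
  let e3 := (ΘLin K L n).quotKerEquivOfSurjective (ΘLin_surjective K L n)
  let e4 := Submodule.quotEquivOfEq _ _ hker
  exact (e1 ≪≫ e2).toLinearEquiv ≪≫ₗ e4.symm ≪≫ₗ e3

end N5

section P1

variable (I : Ideal A) (K C : DRing.Cx A)

lemma homCxMap_f_apply {L L' : DRing.Cx A} (f : L ⟶ L') (n : ℤ) (z : Cochain K L n) :
    ((DRing.homCxMap K f).f n).hom z = z.comp (Cochain.ofHom f) (add_zero n) := rfl

/-- a cochain with values in torsion lifts to `Γ_I C`. -/
noncomputable def liftCochain (n : ℤ) (w : Cochain K C n)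
    (hw : ∀ (p q : ℤ) (hpq : p + n = q) (x : K.X p),
      (w.v p q hpq).hom x ∈ DRing.torsionSub I (C.X q)) :
    Cochain K ((gammaCx I).obj C) n :=
  Cochain.mk (fun p q hpq => ModuleCat.ofHom
    (LinearMap.codRestrict (DRing.torsionSub I (C.X q)) (w.v p q hpq).hom (hw p q hpq)))

lemma liftCochain_comp (n : ℤ) (w : Cochain K C n)
    (hw : ∀ (p q : ℤ) (hpq : p + n = q) (x : K.X p),
      (w.v p q hpq).hom x ∈ DRing.torsionSub I (C.X q)) :
    (liftCochain I K C n w hw).comp (Cochain.ofHom (ιΓ I C)) (add_zero n) = w := by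
  ext p q hpq x
  rw [Cochain.comp_zero_cochain_v, Cochain.ofHom_v]
  rfl

lemma comp_ιΓ_injective (n : ℤ) (z z' : Cochain K ((gammaCx I).obj C) n)
    (h : z.comp (Cochain.ofHom (ιΓ I C)) (add_zero n) =
      z'.comp (Cochain.ofHom (ιΓ I C)) (add_zero n)) : z = z' := by
  ext p q hpq x
  have h1 := congrArg (fun t => t.v p q hpq) h
  simp only [Cochain.comp_zero_cochain_v, Cochain.ofHom_v] at h1
  have h2 := congrArg (fun t => t.hom x) h1
  exact Subtype.ext h2

/-- **P1**: `Hom•(K, Γ_I C) ⟶ Hom•(K, C)` is an isomorphism when the terms of `K` are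
`I`-power torsion. -/
theorem isIso_homCxMap_ιΓ (hK : ∀ (p : ℤ) (x : K.X p), x ∈ DRing.torsionSub I (K.X p)) :
    IsIso (DRing.homCxMap K (ιΓ I C)) := by
  haveI : ∀ n, IsIso ((DRing.homCxMap K (ιΓ I C)).f n) := by
    intro n
    rw [ConcreteCategory.isIso_iff_bijective]
    constructor
    · intro z z' h
      exact comp_ιΓ_injective I K C n z z' h
    · intro w
      refine ⟨liftCochain I K C n w (fun p q hpq x => ?_), liftCochain_comp I K C n w _⟩
      exact DRing.map_mem_torsionSub I (w.v p q hpq).hom (hK p x)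
  exact HomologicalComplex.Hom.isIso_of_components _

end P1

section N1a

variable [IsNoetherianRing A]

lemma bddInj_gammaCx (I₀ : Ideal A) {I : DRing.Cx A} {a b : ℤ} (hI : BddInj I a b) :
    BddInj ((gammaCx I₀).obj I) a b := by
  haveI := hI.ge
  haveI := hI.le
  refine ⟨fun n => injective_gammaCx_X I₀ I hI.inj n, ?_, ?_⟩
  · rw [isStrictlyGE_iff]
    intro i hi
    exact (DRing.gammaI I₀).map_isZero (I.isZero_of_isStrictlyGE a i hi)
  · rw [isStrictlyLE_iff]
    intro i hi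
    exact (DRing.gammaI I₀).map_isZero (I.isZero_of_isStrictlyLE b i hi)

/-- `Hom(K, (Γ_I C)[n]) ≃ Hom(K, C[n])` in `D(A)` for `K` with torsion terms and `C` a bounded
complex of injectives. -/
noncomputable def homEquivΓ (I₀ : Ideal A) {I : DRing.Cx A} {a b : ℤ} (hI : BddInj I a b)
    (K : DRing.Cx A) (hK : ∀ (p : ℤ) (x : K.X p), x ∈ DRing.torsionSub I₀ (K.X p)) (n : ℤ) :
    (Q.obj K ⟶ (Q.obj ((gammaCx I₀).obj I))⟦n⟧) ≃ₗ[A] (Q.obj K ⟶ (Q.obj I)⟦n⟧) :=
  haveI := hI.isKInjective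
  haveI := (bddInj_gammaCx I₀ hI).isKInjective
  haveI := isIso_homCxMap_ιΓ I₀ K I hK
  (homologyHomCxEquiv K _ n).symm ≪≫ₗ
    ((HomologicalComplex.homologyFunctor _ _ n).mapIso
      (asIso (DRing.homCxMap K (ιΓ I₀ I)))).toLinearEquiv ≪≫ₗ
    homologyHomCxEquiv K I n

omit [IsNoetherianRing A] in
lemma mem_torsionSub_sgl (I₀ : Ideal A) (N : ModuleCat.{u} A) (k : ℕ)
    (hN : ∀ (y : N) (a : A), a ∈ I₀ ^ k → a • y = 0) (p : ℤ) (x : (sgl 0 N).X p) :
    x ∈ DRing.torsionSub I₀ ((sgl 0 N).X p) := by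
  refine ⟨k, fun a ha => ?_⟩
  by_cases hp : p = 0
  · subst hp
    let e := HomologicalComplex.singleObjXSelf (ComplexShape.up ℤ) (0 : ℤ) N
    have h1 : x = e.inv.hom (e.hom.hom x) := by
      rw [← ModuleCat.comp_apply, e.hom_inv_id]
      rfl
    rw [h1, ← map_smul, hN, map_zero]
    exact ha
  · haveI := ModuleCat.subsingleton_of_isZero
      (isZero_single_obj_X (ComplexShape.up ℤ) (0 : ℤ) N p hp)
    exact Subsingleton.elim _ _

end N1a

section N1

variable [IsLocalRing A] [IsNoetherianRing A]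

open IsLocalRing

variable (ω : Dual.D A) (hω : Dual.IsDualizing A ω) (hn : Dual.IsNormalized A ω)
  (E : Type u) [AddCommGroup E] [Module A E] (f : ResidueField A →ₗ[A] E)
  (hf : InjHull.IsInjectiveHull f)
  {I : DRing.Cx A} {a b : ℤ} (hI : BddInj I a b) (e : Q.obj I ≅ ω)

include hω hn hf hI e in
lemma subsingleton_Hq (q : ℤ) (hq : q ≠ 0) : Subsingleton (Hq (maximalIdeal A) I q) := by
  haveI := hI.isKInjective
  suffices h : ∀ x : Hq (maximalIdeal A) I q, x = 0 from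
    ⟨fun x y => (h x).trans (h y).symm⟩
  intro x
  obtain ⟨n, u, rfl⟩ := cLin_surjective (maximalIdeal A) I q x
  have h1 : Subsingleton (Dual.inD A (A ⧸ maximalIdeal A ^ n) ⟶ ω⟦q⟧) :=
    (Groth.Agent.S1749.result A ω hω hn E f hf (A ⧸ maximalIdeal A ^ n)
      (Groth.Agent.S0313.isFiniteLength_quotient_pow n)).1 q hq
  have h2 : u = 0 := by
    have h3 : u ≫ e.hom⟦q⟧' = 0 ≫ e.hom⟦q⟧' := Subsingleton.elim _ _
    exact (cancel_mono _).1 h3
  rw [h2, map_zero]

include hω hn hf hI e in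
lemma isZero_homology_gamma (q : ℤ) (hq : q ≠ 0) :
    IsZero ((DerivedCategory.homologyFunctor (ModuleCat.{u} A) q).obj
      (Q.obj ((gammaCx (maximalIdeal A)).obj I))) := by
  haveI := subsingleton_Hq ω hω hn E f hf hI e q hq
  haveI : Subsingleton (Dual.HD A (Q.obj ((gammaCx (maximalIdeal A)).obj I)) q) :=
    (homologyEquiv ((gammaCx (maximalIdeal A)).obj I) q).toEquiv.subsingleton
  exact ModuleCat.isZero_of_subsingleton _

omit [IsLocalRing A] [IsNoetherianRing A] in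
lemma isPowerTorsion_Hq (I₀ : Ideal A) (C : DRing.Cx A) (q : ℤ) :
    LocCoh.IsPowerTorsion I₀ (Hq I₀ C q) := by
  intro x
  obtain ⟨⟨z, hz⟩, rfl⟩ := Submodule.Quotient.mk_surjective _ x
  obtain ⟨n, hn⟩ := (z : DRing.torsionSub I₀ (C.X q)).2
  refine ⟨n, fun a ha => ?_⟩
  rw [← Submodule.Quotient.mk_smul]
  have : a • (⟨z, hz⟩ : LinearMap.ker (scI ((gammaCx I₀).obj C) q).g.hom) = 0 := by
    apply Subtype.ext
    apply Subtype.ext
    exact hn a ha
  rw [this, Submodule.Quotient.mk_zero]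

/-- `singleHomEquiv` as a linear equivalence. -/
noncomputable def singleHomLinearEquiv (M N : ModuleCat.{u} A) :
    (M →ₗ[A] N) ≃ₗ[A] ((DerivedCategory.singleFunctor (ModuleCat.{u} A) 0).obj M ⟶
      (DerivedCategory.singleFunctor (ModuleCat.{u} A) 0).obj N) :=
  { Groth.Agent.Lib.T2H4.LocalDual.singleHomEquiv M N with
    map_smul' := Groth.Agent.Lib.T2H4.LocalDual.singleHomEquiv_smul M N }

include hω hn hf hI e in
lemma nonempty_hom_equiv (M : ModuleCat.{u} A)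
    (eM : Q.obj ((gammaCx (maximalIdeal A)).obj I) ≅
      (DerivedCategory.singleFunctor (ModuleCat.{u} A) 0).obj M)
    (N : Type u) [AddCommGroup N] [Module A N] (hN : IsFiniteLength A N) (k : ℕ)
    (hk : ∀ (y : N) (a : A), a ∈ maximalIdeal A ^ k → a • y = 0) :
    Nonempty ((N →ₗ[A] M) ≃ₗ[A] (N →ₗ[A] E)) := by
  let e1 := singleHomLinearEquiv (ModuleCat.of A N) M
  let e2 : (Dual.inD A N ⟶ (DerivedCategory.singleFunctor (ModuleCat.{u} A) 0).obj M) ≃ₗ[A]
      (Dual.inD A N ⟶ Q.obj ((gammaCx (maximalIdeal A)).obj I)) :=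
    Linear.homCongr A (Iso.refl _) eM.symm
  let e3 : (Dual.inD A N ⟶ Q.obj ((gammaCx (maximalIdeal A)).obj I)) ≃ₗ[A]
      (Q.obj (sgl 0 (ModuleCat.of A N)) ⟶ (Q.obj ((gammaCx (maximalIdeal A)).obj I))⟦(0 : ℤ)⟧) :=
    Linear.homCongr A (Iso.refl _) ((shiftFunctorZero (Dual.D A) ℤ).app _).symm
  let e4 := homEquivΓ (maximalIdeal A) hI (sgl 0 (ModuleCat.of A N))
    (mem_torsionSub_sgl (maximalIdeal A) (ModuleCat.of A N) k hk) 0
  let e5 : (Q.obj (sgl 0 (ModuleCat.of A N)) ⟶ (Q.obj I)⟦(0 : ℤ)⟧) ≃ₗ[A] (Dual.inD A N ⟶ ω) :=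
    Linear.homCongr A (Iso.refl _) ((shiftFunctorZero (Dual.D A) ℤ).app _ ≪≫ e)
  obtain ⟨e6⟩ := (Groth.Agent.S1749.result A ω hω hn E f hf N hN).2
  exact ⟨e1 ≪≫ₗ e2 ≪≫ₗ e3 ≪≫ₗ e4 ≪≫ₗ e5 ≪≫ₗ e6⟩

omit [IsNoetherianRing A] in
lemma smul_quot_pow_eq_zero (k : ℕ) (y : A ⧸ maximalIdeal A ^ k) (a : A)
    (ha : a ∈ maximalIdeal A ^ k) : a • y = 0 := by
  obtain ⟨b, rfl⟩ := Ideal.Quotient.mk_surjective y
  rw [← Ideal.Quotient.mk_eq_mk, ← Submodule.Quotient.mk_smul, Ideal.Quotient.mk_eq_mk,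
    Ideal.Quotient.eq_zero_iff_mem, smul_eq_mul]
  exact Ideal.mul_mem_right _ _ ha

include hω hn hf hI e in
/-- **N1**: `RΓ_𝔪(ω) ≅ E[0]` for a normalized dualizing complex. -/
theorem exists_gamma_iso_hull :
    Nonempty (Q.obj ((gammaCx (maximalIdeal A)).obj I) ≅ Dual.inD A E) := by
  have hz := isZero_homology_gamma ω hω hn E f hf hI e
  haveI : (Q.obj ((gammaCx (maximalIdeal A)).obj I)).IsGE 0 := by
    rw [DerivedCategory.isGE_iff]
    intro i hi
    exact hz i (by lia)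
  haveI : (Q.obj ((gammaCx (maximalIdeal A)).obj I)).IsLE 0 := by
    rw [DerivedCategory.isLE_iff]
    intro i hi
    exact hz i (by lia)
  obtain ⟨M, ⟨eM⟩⟩ := DerivedCategory.exists_iso_singleFunctor_obj_of_isGE_of_isLE
    (Q.obj ((gammaCx (maximalIdeal A)).obj I)) 0
  let eH : M ≃ₗ[A] Hq (maximalIdeal A) I 0 :=
    ((DerivedCategory.singleFunctorCompHomologyFunctorIso (ModuleCat.{u} A) 0).app
      M).symm.toLinearEquiv ≪≫ₗ
    ((DerivedCategory.homologyFunctor (ModuleCat.{u} A) 0).mapIso eM.symm).toLinearEquiv ≪≫ₗ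
    homologyEquiv ((gammaCx (maximalIdeal A)).obj I) 0
  have ha : LocCoh.IsPowerTorsion (maximalIdeal A) M :=
    isPowerTorsion_of_linearEquiv _ eH.symm (isPowerTorsion_Hq _ I 0)
  have key := nonempty_hom_equiv ω hω hn E f hf hI e M eM
  have hb : Nonempty ((ResidueField A →ₗ[A] M) ≃ₗ[A] ResidueField A) := by
    have hfl : IsFiniteLength A (ResidueField A) := by
      have h1 := Groth.Agent.S0313.isFiniteLength_quotient_pow (R := A) 1
      exact IsFiniteLength.of_surjective h1 (f := Submodule.factor (by rw [pow_one]))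
        (Submodule.factor_surjective _)
    obtain ⟨e1⟩ := key (ResidueField A) hfl 1 (fun y a ha => by
      obtain ⟨b, rfl⟩ := Ideal.Quotient.mk_surjective y
      rw [pow_one] at ha
      show a • (Ideal.Quotient.mk (maximalIdeal A) b) = 0
      rw [← Ideal.Quotient.mk_eq_mk, ← Submodule.Quotient.mk_smul, Ideal.Quotient.mk_eq_mk,
        Ideal.Quotient.eq_zero_iff_mem, smul_eq_mul]
      exact Ideal.mul_mem_right _ _ ha)
    haveI := Groth.Agent.S5155.isSimpleModule_hom_of_hull hf.toIsEssentialInj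
    obtain ⟨e2⟩ := Groth.Agent.S5170.nonempty_equiv_residueField_of_simple (A := A)
      (ResidueField A →ₗ[A] E)
    exact ⟨e1 ≪≫ₗ e2⟩
  have hlen : ∀ n : ℕ, Module.length A (A ⧸ maximalIdeal A ^ n) =
      Module.length A ((A ⧸ maximalIdeal A ^ n) →ₗ[A] M) := by
    intro n
    have hfl := Groth.Agent.S0313.isFiniteLength_quotient_pow (R := A) n
    obtain ⟨e1⟩ := key (A ⧸ maximalIdeal A ^ n) hfl n (smul_quot_pow_eq_zero n)
    rw [e1.length_eq, Groth.Agent.S5170.length_hom_eq hf _ hfl]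
  obtain ⟨f', hf'⟩ := Groth.Agent.S11174.result A M ha hb (fun n => maximalIdeal A ^ n)
    (fun n n' h => Ideal.pow_le_pow_right h) (fun n => ⟨n, le_rfl⟩) (fun n => ⟨n, le_rfl⟩) hlen
  obtain ⟨e', -⟩ := Groth.Agent.S0302.result A (ResidueField A) E M f hf f' hf'
  exact ⟨eM ≪≫ (DerivedCategory.singleFunctor (ModuleCat.{u} A) 0).mapIso e'.symm.toModuleIso⟩

omit hI e in
include hω hn hf in
/-- **S1718**. -/
theorem HDI_normalized_dualizing :
    Nonempty (Dual2.HDI A (maximalIdeal A) ω 0 ≃ₗ[A] E) ∧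
      ∀ i : ℤ, i ≠ 0 → Subsingleton (Dual2.HDI A (maximalIdeal A) ω i) := by
  obtain ⟨I, a, b, hI, ⟨e⟩⟩ := exists_dualizingRep ω hω
  haveI := hI.bdd.isKInjective
  constructor
  · obtain ⟨eT⟩ := exists_gamma_iso_hull ω hω hn E f hf hI.bdd e
    exact ⟨HDIEquivHq (maximalIdeal A) ω I e.symm 0 ≪≫ₗ
      (homologyEquiv ((gammaCx (maximalIdeal A)).obj I) 0).symm ≪≫ₗ
      ((DerivedCategory.homologyFunctor (ModuleCat.{u} A) 0).mapIso eT).toLinearEquiv ≪≫ₗ
      ((DerivedCategory.singleFunctorCompHomologyFunctorIso (ModuleCat.{u} A) 0).app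
        (ModuleCat.of A E)).toLinearEquiv⟩
  · intro i hi
    haveI := subsingleton_Hq ω hω hn E f hf hI.bdd e i hi
    exact (HDIEquivHq (maximalIdeal A) ω I e.symm i).toEquiv.subsingleton

end N1

end Groth.Agent.Lib.T2H4.LD
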