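import Groth.Agent.Lib.T2H4LD1

set_option autoImplicit false
set_option linter.style.haveILetI false
set_option backward.isDefEq.respectTransparency.types false
universe u v
open CategoryTheory CategoryTheory.Limits
attribute [local instance] HasDerivedCategory.standard

namespace Groth.Agent.Lib.T2H4.LD

open CochainComplex HomComplex DerivedCategory HomologicalComplex
  Groth.Agent.Lib.T2H4.Bidual Groth.Agent.Lib.T2H4.RGam Groth.Agent.Lib.T2H4.GNoeth
  Groth.Agent.Lib.T2H4.DComp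

variable {A : Type u} [CommRing A]

section LDual

variable {M₁ M₂ M₃ : Type u} [AddCommGroup M₁] [Module A M₁] [AddCommGroup M₂] [Module A M₂]
  [AddCommGroup M₃] [Module A M₃] (f : M₁ →ₗ[A] M₂) (g : M₂ →ₗ[A] M₃)
  (hgf : ∀ x, g (f x) = 0) (E : Type u) [AddCommGroup E] [Module A E]

/-- the explicit homology `ker g / im f`. -/
abbrev HH : Type u :=
  LinearMap.ker g ⧸ LinearMap.range (f.codRestrict (LinearMap.ker g) hgf)

/-- a functional on `M₂` killing `im f` induces a functional on the homology. -/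
noncomputable def dualΦ : LinearMap.ker (LinearMap.lcomp A E f) →ₗ[A] (HH f g hgf →ₗ[A] E) where
  toFun φ := (LinearMap.range (f.codRestrict (LinearMap.ker g) hgf)).liftQ
    (φ.1 ∘ₗ (LinearMap.ker g).subtype) (by
      rintro _ ⟨x, rfl⟩
      have h := φ.2
      rw [LinearMap.mem_ker] at h ⊢
      exact LinearMap.congr_fun h x)
  map_add' φ φ' := by
    apply LinearMap.ext
    intro x
    obtain ⟨z, rfl⟩ := Submodule.Quotient.mk_surjective _ x
    rfl
  map_smul' a φ := by
    apply LinearMap.ext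
    intro x
    obtain ⟨z, rfl⟩ := Submodule.Quotient.mk_surjective _ x
    rfl

lemma dualΦ_mk (φ : LinearMap.ker (LinearMap.lcomp A E f)) (z : LinearMap.ker g) :
    dualΦ f g hgf E φ (Submodule.Quotient.mk z) = φ.1 z.1 := rfl

variable [Module.Injective A E]

lemma dualΦ_surjective : Function.Surjective (dualΦ f g hgf E) := by
  intro χ
  obtain ⟨φ, hφ⟩ := Module.Injective.extension_property A E _ _ (LinearMap.ker g).subtype
    (LinearMap.ker g).injective_subtype
    (χ ∘ₗ (LinearMap.range (f.codRestrict (LinearMap.ker g) hgf)).mkQ)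
  have hφ' : ∀ z : LinearMap.ker g, φ z.1 = χ (Submodule.Quotient.mk z) :=
    fun z => LinearMap.congr_fun hφ z
  refine ⟨⟨φ, ?_⟩, ?_⟩
  · rw [LinearMap.mem_ker]
    apply LinearMap.ext
    intro x
    show φ (f x) = 0
    have h1 := hφ' ⟨f x, hgf x⟩
    rw [h1]
    have h2 : (Submodule.Quotient.mk (⟨f x, hgf x⟩ : LinearMap.ker g) :
        HH f g hgf) = 0 := by
      rw [Submodule.Quotient.mk_eq_zero]
      exact ⟨x, rfl⟩
    rw [h2, map_zero]
  · apply LinearMap.ext
    intro x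
    obtain ⟨z, rfl⟩ := Submodule.Quotient.mk_surjective _ x
    rw [dualΦ_mk]
    exact hφ' z

lemma dualΦ_eq_zero_iff (φ : LinearMap.ker (LinearMap.lcomp A E f)) :
    dualΦ f g hgf E φ = 0 ↔ ∃ h : M₃ →ₗ[A] E, φ.1 = h ∘ₗ g := by
  constructor
  · intro h0
    have h1 : ∀ z : LinearMap.ker g, φ.1 z.1 = 0 := by
      intro z
      rw [← dualΦ_mk f g hgf E φ z, h0, LinearMap.zero_apply]
    -- `φ` factors through `range g`
    have hker : LinearMap.ker g ≤ LinearMap.ker φ.1 := fun x hx => h1 ⟨x, hx⟩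
    let φ' : LinearMap.range g →ₗ[A] E :=
      ((LinearMap.ker g).liftQ φ.1 hker) ∘ₗ (g.quotKerEquivRange).symm.toLinearMap
    obtain ⟨h, hh⟩ := Module.Injective.extension_property A E _ _ (LinearMap.range g).subtype
      (LinearMap.range g).injective_subtype φ'
    refine ⟨h, ?_⟩
    apply LinearMap.ext
    intro x
    have h2 := LinearMap.congr_fun hh ⟨g x, ⟨x, rfl⟩⟩
    rw [LinearMap.comp_apply]
    show φ.1 x = h (g x)
    have h3 : h (g x) = φ' ⟨g x, ⟨x, rfl⟩⟩ := h2
    rw [h3]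
    show φ.1 x = ((LinearMap.ker g).liftQ φ.1 hker) ((g.quotKerEquivRange).symm ⟨g x, ⟨x, rfl⟩⟩)
    have h4 : (g.quotKerEquivRange).symm ⟨g x, ⟨x, rfl⟩⟩ = Submodule.Quotient.mk x := by
      rw [LinearEquiv.symm_apply_eq]
      rfl
    rw [h4]
    rfl
  · rintro ⟨h, hh⟩
    apply LinearMap.ext
    intro x
    obtain ⟨z, rfl⟩ := Submodule.Quotient.mk_surjective _ x
    rw [dualΦ_mk, hh, LinearMap.comp_apply, LinearMap.zero_apply]
    have : g z.1 = 0 := z.2
    rw [this, map_zero]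

end LDual

section N4

variable (X : DRing.Cx A) (E : Type u) [AddCommGroup E] [Module A E]

/-- `E[0]`. -/
noncomputable abbrev sE : DRing.Cx A := sgl 0 (ModuleCat.of A E)

/-- the degree `0` term of `E[0]`. -/
noncomputable abbrev ι0 : (sE E).X 0 ≅ ModuleCat.of A E :=
  singleObjXSelf (ComplexShape.up ℤ) (0 : ℤ) (ModuleCat.of A E)

/-- a cochain `X ⟶ E[0]` of degree `i` is a linear map `X^{-i} → E`. -/
noncomputable def evC (i p : ℤ) (hp : p + i = 0) :
    Cochain X (sE E) i →ₗ[A] (X.X p →ₗ[A] E) where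
  toFun z := (z.v p 0 hp ≫ (ι0 E).hom).hom
  map_add' z z' := by
    rw [Cochain.add_v, Preadditive.add_comp, ModuleCat.hom_add]
  map_smul' a z := by
    rw [Cochain.smul_v, Linear.smul_comp, ModuleCat.hom_smul]
    rfl

/-- the cochain attached to a linear map. -/
noncomputable def ofLin (i p : ℤ) (_hp : p + i = 0) (g : X.X p →ₗ[A] E) : Cochain X (sE E) i :=
  Cochain.single (ModuleCat.ofHom g ≫ (ι0 E).inv) i

lemma evC_ofLin (i p : ℤ) (hp : p + i = 0) (g : X.X p →ₗ[A] E) :
    evC X E i p hp (ofLin X E i p hp g) = g := by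
  show ((Cochain.single (ModuleCat.ofHom g ≫ (ι0 E).inv) i).v p 0 hp ≫ (ι0 E).hom).hom = g
  rw [Cochain.single_v, Category.assoc, Iso.inv_hom_id, Category.comp_id]
  rfl

lemma evC_injective (i p : ℤ) (hp : p + i = 0) : Function.Injective (evC X E i p hp) := by
  intro z z' h
  ext p' q' hpq'
  by_cases hq : q' = 0
  · subst hq
    obtain rfl : p' = p := by lia
    have h1 : z.v p' 0 hp ≫ (ι0 E).hom = z'.v p' 0 hp ≫ (ι0 E).hom := ModuleCat.hom_ext h
    rw [cancel_mono] at h1
    rw [h1]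
  · have h1 : z.v p' q' hpq' = z'.v p' q' hpq' :=
      (isZero_single_obj_X (ComplexShape.up ℤ) (0 : ℤ) (ModuleCat.of A E) q' hq).eq_of_tgt _ _
    rw [h1]

lemma ofLin_evC (i p : ℤ) (hp : p + i = 0) (z : Cochain X (sE E) i) :
    ofLin X E i p hp (evC X E i p hp z) = z :=
  evC_injective X E i p hp (evC_ofLin X E i p hp _)

lemma evC_δ (i j p p' : ℤ) (hij : i + 1 = j) (hp : p + i = 0) (hp' : p' + j = 0)
    (z : Cochain X (sE E) i) :
    evC X E j p' hp' (δ i j z) = j.negOnePow • ((evC X E i p hp z) ∘ₗ (X.d p' p).hom) := by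
  show ((δ i j z).v p' 0 hp' ≫ (ι0 E).hom).hom = _
  rw [δ_v i j hij z p' 0 hp' (-1) p (by lia) (by lia)]
  have h0 : (sE (A := A) E).d (-1) 0 = 0 := by simp
  rw [h0, comp_zero, zero_add]
  rcases Int.even_or_odd j with h | h
  · rw [Int.negOnePow_even _ h, one_smul, one_smul, Category.assoc, ModuleCat.hom_comp]
    rfl
  · rw [Int.negOnePow_odd _ h, Units.neg_smul, one_smul, Units.neg_smul, one_smul,
      Preadditive.neg_comp, Category.assoc, ModuleCat.hom_neg, ModuleCat.hom_comp]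
    rfl

lemma evC_δ' (i j p p' : ℤ) (hij : i + 1 = j) (hp : p + i = 0) (hp' : p' + j = 0)
    (z : Cochain X (sE E) i) :
    evC X E j p' hp' (δ i j z) = (evC X E i p hp z) ∘ₗ (X.d p' p).hom ∨
      evC X E j p' hp' (δ i j z) = -((evC X E i p hp z) ∘ₗ (X.d p' p).hom) := by
  rw [evC_δ X E i j p p' hij hp hp' z]
  rcases Int.even_or_odd j with h | h
  · left
    rw [Int.negOnePow_even _ h, one_smul]
  · right
    rw [Int.negOnePow_odd _ h, Units.neg_smul, one_smul]

lemma δ_eq_zero_iff (i j p p' : ℤ) (hij : i + 1 = j) (hp : p + i = 0) (hp' : p' + j = 0)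
    (z : Cochain X (sE E) i) :
    δ i j z = 0 ↔ (evC X E i p hp z) ∘ₗ (X.d p' p).hom = 0 := by
  constructor
  · intro h
    have h1 := evC_δ' X E i j p p' hij hp hp' z
    rw [h, map_zero] at h1
    rcases h1 with h1 | h1
    · exact h1.symm
    · exact neg_eq_zero.1 h1.symm
  · intro h
    apply evC_injective X E j p' hp'
    have h1 := evC_δ' X E i j p p' hij hp hp' z
    rw [h, neg_zero, or_self] at h1
    rw [h1, map_zero]

/-- `z = δ y` for some `y` iff the linear map of `z` factors through the differential. -/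
lemma exists_δ_eq_iff (i j p p' : ℤ) (hij : i + 1 = j) (hp : p + i = 0) (hp' : p' + j = 0)
    (z : Cochain X (sE E) j) :
    (∃ y : Cochain X (sE E) i, δ i j y = z) ↔
      ∃ h : X.X p →ₗ[A] E, evC X E j p' hp' z = h ∘ₗ (X.d p' p).hom := by
  constructor
  · rintro ⟨y, rfl⟩
    rcases evC_δ' X E i j p p' hij hp hp' y with h1 | h1
    · exact ⟨_, h1⟩
    · refine ⟨-(evC X E i p hp y), ?_⟩
      rw [h1, LinearMap.neg_comp]
  · rintro ⟨h, hh⟩
    rcases evC_δ' X E i j p p' hij hp hp' (ofLin X E i p hp h) with h1 | h1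
    · refine ⟨ofLin X E i p hp h, evC_injective X E j p' hp' ?_⟩
      rw [h1, evC_ofLin, hh]
    · refine ⟨-(ofLin X E i p hp h), evC_injective X E j p' hp' ?_⟩
      rw [δ_neg, map_neg, h1, evC_ofLin, neg_neg, hh]

variable [Module.Injective A E]

/-- **N4'**: `H^i(Hom•(X, E[0])) ≃ Hom_A(H^{-i}(X), E)` for an injective module `E`. -/
noncomputable def homologySingleEquiv (i : ℤ) :
    (DRing.homCx X (sE E)).homology i ≃ₗ[A] (X.homology (-i) →ₗ[A] E) := by
  let S := (DRing.homCx X (sE E)).sc' (i - 1) i (i + 1)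
  let e1 : (DRing.homCx X (sE E)).homology i ≅ S.homology :=
    (DRing.homCx X (sE E)).homologyIsoSc' (i - 1) i (i + 1) (by simp) (by simp)
  let e2 := S.moduleCatHomologyIso
  let SX := X.sc' (-i - 1) (-i) (-i + 1)
  let e1' : X.homology (-i) ≅ SX.homology :=
    X.homologyIsoSc' (-i - 1) (-i) (-i + 1) (by simp) (by simp)
  let e2' := SX.moduleCatHomologyIso
  have hgf : ∀ x, SX.g.hom (SX.f.hom x) = 0 := SX.moduleCat_zero_apply
  let restr : LinearMap.ker S.g.hom →ₗ[A] LinearMap.ker (LinearMap.lcomp A E SX.f.hom) :=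
    LinearMap.codRestrict _ (evC X E i (-i) (by lia) ∘ₗ (LinearMap.ker S.g.hom).subtype)
      (fun z => by
        rw [LinearMap.mem_ker]
        have hz : δ i (i + 1) (z.1 : Cochain X (sE E) i) = 0 := z.2
        exact (δ_eq_zero_iff X E i (i + 1) (-i) (-i - 1) rfl (by lia) (by lia) _).1 hz)
  let Ψ := dualΦ SX.f.hom SX.g.hom hgf E ∘ₗ restr
  have hsurj : Function.Surjective Ψ := by
    intro χ
    obtain ⟨φ, rfl⟩ := dualΦ_surjective SX.f.hom SX.g.hom hgf E χ
    have hφ : φ.1 ∘ₗ (X.d (-i - 1) (-i)).hom = 0 := φ.2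
    have hz : δ i (i + 1) (ofLin X E i (-i) (by lia) φ.1) = 0 := by
      rw [δ_eq_zero_iff X E i (i + 1) (-i) (-i - 1) rfl (by lia) (by lia), evC_ofLin]
      exact hφ
    refine ⟨⟨ofLin X E i (-i) (by lia) φ.1, hz⟩, ?_⟩
    show dualΦ SX.f.hom SX.g.hom hgf E (restr _) = _
    congr 1
    apply Subtype.ext
    exact evC_ofLin X E i (-i) (by lia) φ.1
  have hker : LinearMap.ker Ψ = LinearMap.range S.moduleCatToCycles := by
    ext z
    rw [LinearMap.mem_ker, LinearMap.mem_range]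
    show dualΦ SX.f.hom SX.g.hom hgf E (restr z) = 0 ↔ _
    rw [dualΦ_eq_zero_iff]
    have key := exists_δ_eq_iff X E (i - 1) i (-i + 1) (-i) (by lia) (by lia) (by lia)
      (z.1 : Cochain X (sE E) i)
    constructor
    · intro h
      obtain ⟨y, hy⟩ := key.2 h
      exact ⟨y, Subtype.ext hy⟩
    · rintro ⟨y, hy⟩
      exact key.1 ⟨y, congrArg Subtype.val hy⟩
  exact (e1 ≪≫ e2).toLinearEquiv ≪≫ₗ (Submodule.quotEquivOfEq _ _ hker).symm ≪≫ₗ
    Ψ.quotKerEquivOfSurjective hsurj ≪≫ₗ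
    LinearEquiv.congrLeft E A (e1' ≪≫ e2').toLinearEquiv.symm

end N4

end Groth.Agent.Lib.T2H4.LD
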