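import Groth.Agent.Lib.T2H4LD1

set_option autoImplicit false
set_option linter.style.haveILetI false
set_option backward.isDefEq.respectTransparency.types false
universe u v
open CategoryTheory CategoryTheory.Limits
attribute [local instance] HasDerivedCategory.standard

namespace Groth.Agent.Lib.T2H4.LD

open CochainComplex HomComplex DerivedCategory HomologicalComplex TensorProduct
  Groth.Agent.Lib.T2H4.Bidual Groth.Agent.Lib.T2H4.RGam Groth.Agent.Lib.T2H4.GNoeth
  Groth.Agent.Lib.T2H4.DComp

variable {A : Type u} [CommRing A]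

section N6

lemma injective_of_linearEquiv {M N : Type u} [AddCommGroup M] [Module A M] [AddCommGroup N]
    [Module A N] (e : M ≃ₗ[A] N) [Module.Injective A M] : Module.Injective A N :=
  ⟨fun X Y _ _ _ _ f hf g => by
    obtain ⟨h, hh⟩ := Module.Injective.extension_property A M _ _ f hf (e.symm.toLinearMap ∘ₗ g)
    refine ⟨e.toLinearMap ∘ₗ h, fun x => ?_⟩
    have h1 := LinearMap.congr_fun hh x
    simp only [LinearMap.comp_apply, LinearEquiv.coe_coe] at h1 ⊢
    rw [h1, LinearEquiv.apply_symm_apply]⟩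

lemma injective_linearMap_of_flat (P J : Type u) [AddCommGroup P] [Module A P] [AddCommGroup J]
    [Module A J] [Module.Flat A P] [Module.Injective A J] : Module.Injective A (P →ₗ[A] J) :=
  ⟨fun X Y _ _ _ _ f hf g => by
    let g' : X ⊗[A] P →ₗ[A] J := TensorProduct.lift g
    have hf' : Function.Injective (f.rTensor P) :=
      Module.Flat.rTensor_preserves_injective_linearMap f hf
    obtain ⟨h', hh'⟩ := Module.Injective.extension_property A J _ _ (f.rTensor P) hf' g'
    refine ⟨TensorProduct.curry h', fun x => ?_⟩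
    apply LinearMap.ext
    intro p
    have h1 := LinearMap.congr_fun hh' (x ⊗ₜ p)
    simpa [g'] using h1⟩

lemma injective_hom_of_flat (P J : ModuleCat.{u} A) [Module.Flat A P] [Module.Injective A J] :
    Module.Injective A (P ⟶ J) :=
  haveI := injective_linearMap_of_flat (A := A) P J
  injective_of_linearEquiv (ModuleCat.homLinearEquiv (S := A) (M := P) (N := J)).symm

lemma injective_cochain (F I : DRing.Cx A) (hF : ∀ p, Module.Flat A (F.X p))
    (hI : ∀ q, Module.Injective A (I.X q)) (n : ℤ) : Module.Injective A (Cochain F I n) := by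
  haveI : ∀ T : Triplet n, Module.Injective A (F.X T.p ⟶ I.X T.q) := fun T =>
    haveI := hF T.p
    haveI := hI T.q
    injective_hom_of_flat _ _
  exact inferInstanceAs (Module.Injective A (∀ T : Triplet n, F.X T.p ⟶ I.X T.q))

lemma injective_homCx_X (F I : DRing.Cx A) (hF : ∀ p, Module.Flat A (F.X p))
    (hI : ∀ q, Injective (I.X q)) (n : ℤ) : Injective ((DRing.homCx F I).X n) := by
  haveI := injective_cochain F I hF (fun q =>
    haveI : Injective (ModuleCat.of A (I.X q)) := hI q
    Module.injective_module_of_injective_object A (I.X q)) n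
  exact Module.injective_object_of_injective_module A (Cochain F I n)

end N6

section N3

variable (I₀ : Ideal A) (F C : DRing.Cx A)

lemma exists_pow_smul_comp_eq_zero (hF : ∀ p, Module.Finite A (F.X p)) (n : ℤ)
    (z : Cochain F ((gammaCx I₀).obj C) n) (p q : ℤ) (hpq : p + n = q) :
    ∃ k : ℕ, ∀ c ∈ I₀ ^ k, ∀ x : F.X p,
      c • ((ιΓ I₀ C).f q).hom ((z.v p q hpq).hom x) = 0 := by
  haveI := hF p
  let g : F.X p →ₗ[A] C.X q := ((ιΓ I₀ C).f q).hom ∘ₗ (z.v p q hpq).hom
  have hfg : (LinearMap.range g).FG := by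
    rw [LinearMap.range_eq_map]
    exact (Module.Finite.fg_top).map g
  obtain ⟨k, hk⟩ := exists_pow_forall_smul_eq_zero I₀ (LinearMap.range g) hfg (by
    rintro _ ⟨y, rfl⟩
    exact ((z.v p q hpq).hom y : DRing.torsionSub I₀ (C.X q)).2)
  exact ⟨k, fun c hc x => hk _ ⟨x, rfl⟩ c hc⟩

/-- the image of `Hom•(F, Γ_I C) ⟶ Hom•(F, C)` consists of torsion cochains. -/
lemma comp_ιΓ_mem_torsionSub (d a : ℤ) [F.IsStrictlyLE d] [C.IsStrictlyGE a]
    (hF : ∀ p, Module.Finite A (F.X p)) (n : ℤ) (z : Cochain F ((gammaCx I₀).obj C) n) :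
    z.comp (Cochain.ofHom (ιΓ I₀ C)) (add_zero n) ∈ DRing.torsionSub I₀ (Cochain F C n) := by
  classical
  choose k hk using fun p : ℤ => exists_pow_smul_comp_eq_zero I₀ F C hF n z p (p + n) rfl
  refine ⟨(Finset.Icc (a - n) d).sup k, fun c hc => ?_⟩
  ext p q hpq x
  subst hpq
  rw [Cochain.smul_v, Cochain.comp_zero_cochain_v, Cochain.ofHom_v, Cochain.zero_v]
  show c • ((ιΓ I₀ C).f (p + n)).hom ((z.v p (p + n) rfl).hom x) = 0
  by_cases hp : p ∈ Finset.Icc (a - n) d
  · exact hk p c (Ideal.pow_le_pow_right (Finset.le_sup hp) hc) x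
  · rw [Finset.mem_Icc, not_and_or, not_le, not_le] at hp
    rcases hp with hp | hp
    · haveI := ModuleCat.subsingleton_of_isZero (C.isZero_of_isStrictlyGE a (p + n) (by lia))
      exact Subsingleton.elim _ _
    · haveI := ModuleCat.subsingleton_of_isZero (F.isZero_of_isStrictlyLE d p hp)
      rw [Subsingleton.elim x 0, map_zero, map_zero, smul_zero]

/-- the comparison `Hom•(F, Γ_I C) ⟶ Γ_I Hom•(F, C)`. -/
noncomputable def gammaHomCxHom (d a : ℤ) [F.IsStrictlyLE d] [C.IsStrictlyGE a]
    (hF : ∀ p, Module.Finite A (F.X p)) :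
    DRing.homCx F ((gammaCx I₀).obj C) ⟶ (gammaCx I₀).obj (DRing.homCx F C) where
  f n := ModuleCat.ofHom (LinearMap.codRestrict (DRing.torsionSub I₀ (Cochain F C n))
    (DRing.postcompLin F (ιΓ I₀ C) n) (comp_ιΓ_mem_torsionSub I₀ F C d a hF n))
  comm' i j _ := by
    ext z
    apply Subtype.ext
    exact congrArg (fun t => t.hom z) ((DRing.homCxMap F (ιΓ I₀ C)).comm i j)

lemma gammaHomCxHom_f_apply (d a : ℤ) [F.IsStrictlyLE d] [C.IsStrictlyGE a]
    (hF : ∀ p, Module.Finite A (F.X p)) (n : ℤ) (z : Cochain F ((gammaCx I₀).obj C) n) :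
    (show DRing.torsionSub I₀ (Cochain F C n) from
      ((gammaHomCxHom I₀ F C d a hF).f n).hom z).1 =
      z.comp (Cochain.ofHom (ιΓ I₀ C)) (add_zero n) := rfl

/-- **N3**: `Hom•(F, Γ_I C) ≅ Γ_I Hom•(F, C)` for `F` bounded above with finite terms and `C`
bounded below. -/
instance isIso_gammaHomCxHom (d a : ℤ) [F.IsStrictlyLE d] [C.IsStrictlyGE a]
    (hF : ∀ p, Module.Finite A (F.X p)) : IsIso (gammaHomCxHom I₀ F C d a hF) := by
  haveI : ∀ n, IsIso ((gammaHomCxHom I₀ F C d a hF).f n) := by
    intro n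
    rw [ConcreteCategory.isIso_iff_bijective]
    constructor
    · intro z z' h
      apply comp_ιΓ_injective I₀ F C n z z'
      have h1 := congrArg Subtype.val h
      exact h1
    · intro w'
      obtain ⟨w, hw0⟩ : ∃ w : DRing.torsionSub I₀ (Cochain F C n), w = w' := ⟨w', rfl⟩
      obtain ⟨k, hk⟩ := w.2
      have hw : ∀ (p q : ℤ) (hpq : p + n = q) (x : F.X p),
          (w.1.v p q hpq).hom x ∈ DRing.torsionSub I₀ (C.X q) := by
        intro p q hpq x
        refine ⟨k, fun c hc => ?_⟩
        have h1 : ((c • w.1).v p q hpq).hom x = ((0 : Cochain F C n).v p q hpq).hom x := by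
          rw [hk c hc]
        rw [Cochain.smul_v, Cochain.zero_v] at h1
        exact h1
      refine ⟨liftCochain I₀ F C n w.1 hw, ?_⟩
      rw [← hw0]
      apply Subtype.ext
      exact liftCochain_comp I₀ F C n w.1 hw
  exact HomologicalComplex.Hom.isIso_of_components _

end N3

end Groth.Agent.Lib.T2H4.LD
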