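import Groth.Agent.Lib.T2H4LD2
import Groth.Agent.Lib.T2H4LD3
import Groth.Agent.S6942
import Groth.Agent.Lib.Helper17DBrown3

set_option autoImplicit false
set_option linter.style.haveILetI false
set_option backward.isDefEq.respectTransparency.types false
universe u v
open CategoryTheory CategoryTheory.Limits
attribute [local instance] HasDerivedCategory.standard

namespace Groth.Agent.Lib.T2H4.LD

open CochainComplex HomComplex DerivedCategory HomologicalComplex TensorProduct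
  Groth.Agent.Lib.T2H4.Bidual Groth.Agent.Lib.T2H4.RGam Groth.Agent.Lib.T2H4.GNoeth
  Groth.Agent.Lib.T2H4.DComp Groth.Agent.Lib.T2H4.HomCx

variable {A : Type u} [CommRing A]

section Res

variable [IsNoetherianRing A]

/-- resolutions by bounded above complexes of finite free modules. -/
lemma exists_ff_resolution (X : DRing.Cx A) (hX : FinH X) (d : ℤ) [X.IsLE d] :
    ∃ (F : DRing.Cx A) (φ : F ⟶ X), F.IsStrictlyLE d ∧ (∀ p, Module.Finite A (F.X p)) ∧
      (∀ p, Module.Free A (F.X p)) ∧ QuasiIso φ := by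
  have hle : (Q.obj X).IsLE d := inferInstance
  have hpc : ∀ m : ℤ, DRing.IsPseudoCoherent A m (Q.obj X) := fun m =>
    ((Groth.Agent.S6942.result A m (Q.obj X) PUnit).1).2
      ⟨⟨d, fun i hi => ModuleCat.subsingleton_of_isZero ((Q.obj X).isZero_of_isLE d i hi)⟩,
        fun i _ => (finH_iff X).1 hX i⟩
  obtain ⟨F, hFz, hFF, ⟨eF⟩⟩ := Groth.Agent.Lib.Helper1.PCTower.exists_bddAbove_ff X d hle hpc
  haveI : F.IsStrictlyLE d := (isStrictlyLE_iff F d).2 hFz
  haveI : ∀ n, Projective (F.X n) := fun n => by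
    haveI : Module.Free A (F.X n) := (hFF n).2
    infer_instance
  haveI : F.IsKProjective := isKProjective_of_projective F d
  obtain ⟨φ, hφ⟩ := Groth.Agent.Lib.Helper17.DBrown.exists_Q_map_eq_of_isKProjective eF.hom
  refine ⟨F, φ, inferInstance, fun p => (hFF p).1, fun p => (hFF p).2, ?_⟩
  rw [← isIso_Q_map_iff_quasiIso, hφ]
  infer_instance

end Res

section SE

variable (E : Type u) [AddCommGroup E] [Module A E] [Module.Injective A E]

lemma isKInjective_sE : (sE (A := A) E).IsKInjective := by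
  haveI : (sE (A := A) E).IsStrictlyGE 0 := by
    rw [isStrictlyGE_iff]
    intro i hi
    exact isZero_single_obj_X (ComplexShape.up ℤ) (0 : ℤ) (ModuleCat.of A E) i (by lia)
  haveI : ∀ n, Injective ((sE (A := A) E).X n) := by
    intro n
    by_cases hn : n = 0
    · subst hn
      haveI : Injective (ModuleCat.of A E) := Module.injective_object_of_injective_module A E
      exact Injective.of_iso (ι0 (A := A) E).symm inferInstance
    · have hz := isZero_single_obj_X (ComplexShape.up ℤ) (0 : ℤ) (ModuleCat.of A E) n hn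
      exact ⟨fun g f _ => ⟨0, hz.eq_of_tgt _ _⟩⟩
  exact isKInjective_of_injective _ 0

end SE

section Main

variable [IsLocalRing A] [IsNoetherianRing A]

open IsLocalRing

/-- **Local duality** (`HDI` form): for `K` bounded below with finite cohomology,
`H^i_𝔪(K) ≃ Hom_A(Hom_{D(A)}(K, ω[-i]), E)`. -/
theorem local_duality_HDI (ω : Dual.D A) (hω : Dual.IsDualizing A ω)
    (hn : Dual.IsNormalized A ω) (E : Type u) [AddCommGroup E] [Module A E]
    (f : ResidueField A →ₗ[A] E) (hf : InjHull.IsInjectiveHull f)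
    (K : Dual.D A) (hK : ∀ i : ℤ, Module.Finite A (Dual.HD A K i)) (c : ℤ)
    (hc : ∀ i : ℤ, i < c → Subsingleton (Dual.HD A K i)) (i : ℤ) :
    Nonempty (Dual2.HDI A (maximalIdeal A) K i ≃ₗ[A] ((K ⟶ ω⟦-i⟧) →ₗ[A] E)) := by
  obtain ⟨I, a, b, hI, ⟨e⟩⟩ := exists_dualizingRep ω hω
  haveI := hI.bdd.isKInjective
  haveI := hI.bdd.ge
  haveI := hI.bdd.le
  haveI := hf.isInjective
  have hIfin : FinH I := (finH_iff I).2 (fun i => by
    haveI := hω.finite_cohomology i
    exact Module.Finite.equiv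
      ((DerivedCategory.homologyFunctor (ModuleCat.{u} A) i).mapIso e).symm.toLinearEquiv)
  -- a representative of `K`
  let K₀ : DRing.Cx A := Q.objPreimage K
  let eK : Q.obj K₀ ≅ K := Q.objObjPreimageIso K
  have hKfin : FinH K₀ := (finH_iff K₀).2 (fun j => by
    haveI := hK j
    exact Module.Finite.equiv
      ((DerivedCategory.homologyFunctor (ModuleCat.{u} A) j).mapIso eK).symm.toLinearEquiv)
  haveI : (Q.obj K₀).IsGE c := by
    rw [DerivedCategory.isGE_iff]
    intro j hj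
    haveI := hc j hj
    haveI : Subsingleton (Dual.HD A (Q.obj K₀) j) :=
      ((DerivedCategory.homologyFunctor (ModuleCat.{u} A) j).mapIso eK).toLinearEquiv.toEquiv.subsingleton
    exact ModuleCat.isZero_of_subsingleton _
  haveI : K₀.IsGE c := (DerivedCategory.isGE_Q_obj_iff K₀ c).1 inferInstance
  have hXfin : FinH (DRing.homCx K₀ I) := finH_homCx hI hIfin K₀ hKfin
  haveI : (DRing.homCx K₀ I).IsLE (b - c) := isLE_homCx K₀ I c b
  obtain ⟨F, φ, hFle, hFfin, hFfree, hφ⟩ := exists_ff_resolution (DRing.homCx K₀ I) hXfin (b - c)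
  haveI := hFle
  haveI := hφ
  -- the injective resolution `J = Hom•(F, I)` of `K`
  haveI : (DRing.homCx F I).IsStrictlyGE (a - (b - c)) := isStrictlyGE_homCx F I (b - c) a
  haveI : ∀ n, Injective ((DRing.homCx F I).X n) :=
    injective_homCx_X F I (fun p => by haveI := hFfree p; infer_instance) hI.bdd.inj
  haveI : (DRing.homCx F I).IsKInjective := isKInjective_of_injective _ (a - (b - c))
  haveI : QuasiIso (ev K₀ I) := quasiIso_ev_of_dualizing hI K₀ hKfin
  haveI : QuasiIso (homCxPre φ I) := quasiIso_homCxPre φ I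
  haveI : IsIso (Q.map (ev K₀ I ≫ homCxPre φ I)) := by
    rw [isIso_Q_map_iff_quasiIso]
    infer_instance
  let eJ : K ≅ Q.obj (DRing.homCx F I) := eK.symm ≪≫ asIso (Q.map (ev K₀ I ≫ homCxPre φ I))
  haveI : ((gammaCx (maximalIdeal A)).obj I).IsKInjective :=
    (bddInj_gammaCx (maximalIdeal A) hI.bdd).isKInjective
  haveI := isKInjective_sE (A := A) E
  obtain ⟨eT⟩ := exists_gamma_iso_hull ω hω hn E f hf hI.bdd e
  -- the chain of isomorphisms
  let s1 := HDIEquivHq (maximalIdeal A) K (DRing.homCx F I) eJ i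
  let s2 : Hq (maximalIdeal A) (DRing.homCx F I) i ≃ₗ[A]
      ((gammaCx (maximalIdeal A)).obj (DRing.homCx F I)).homology i :=
    (((gammaCx (maximalIdeal A)).obj (DRing.homCx F I)).homologyIsoSc' (i - 1) i (i + 1)
      (by simp) (by simp) ≪≫
      (scI ((gammaCx (maximalIdeal A)).obj (DRing.homCx F I)) i).moduleCatHomologyIso
        ).toLinearEquiv.symm
  let s3 : ((gammaCx (maximalIdeal A)).obj (DRing.homCx F I)).homology i ≃ₗ[A]
      (DRing.homCx F ((gammaCx (maximalIdeal A)).obj I)).homology i :=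
    ((HomologicalComplex.homologyFunctor _ _ i).mapIso
      (asIso (gammaHomCxHom (maximalIdeal A) F I (b - c) a hFfin))).toLinearEquiv.symm
  let s4 := homologyHomCxEquiv F ((gammaCx (maximalIdeal A)).obj I) i
  let s5 : (Q.obj F ⟶ (Q.obj ((gammaCx (maximalIdeal A)).obj I))⟦i⟧) ≃ₗ[A]
      (Q.obj F ⟶ (Q.obj (sE (A := A) E))⟦i⟧) :=
    Linear.homCongr A (Iso.refl _) ((CategoryTheory.shiftFunctor (Dual.D A) i).mapIso eT)
  let s6 := (homologyHomCxEquiv F (sE (A := A) E) i).symm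
  let s7 := homologySingleEquiv F E i
  let s8 : (F.homology (-i) →ₗ[A] E) ≃ₗ[A] ((DRing.homCx K₀ I).homology (-i) →ₗ[A] E) :=
    LinearEquiv.congrLeft E A (asIso (HomologicalComplex.homologyMap φ (-i))).toLinearEquiv
  let s9 : ((DRing.homCx K₀ I).homology (-i) →ₗ[A] E) ≃ₗ[A]
      ((Q.obj K₀ ⟶ (Q.obj I)⟦-i⟧) →ₗ[A] E) :=
    LinearEquiv.congrLeft E A (homologyHomCxEquiv K₀ I (-i))
  let s10 : ((Q.obj K₀ ⟶ (Q.obj I)⟦-i⟧) →ₗ[A] E) ≃ₗ[A] ((K ⟶ ω⟦-i⟧) →ₗ[A] E) :=
    LinearEquiv.congrLeft E A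
      (Linear.homCongr A eK ((CategoryTheory.shiftFunctor (Dual.D A) (-i)).mapIso e))
  exact ⟨s1 ≪≫ₗ s2 ≪≫ₗ s3 ≪≫ₗ s4 ≪≫ₗ s5 ≪≫ₗ s6 ≪≫ₗ s7 ≪≫ₗ s8 ≪≫ₗ s9 ≪≫ₗ s10⟩

end Main

end Groth.Agent.Lib.T2H4.LD
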