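import Groth.Agent.Lib.T2H4LD4
import Groth.Agent.S0299

set_option autoImplicit false
set_option linter.style.haveILetI false
set_option backward.isDefEq.respectTransparency.types false
universe u v
open CategoryTheory CategoryTheory.Limits
attribute [local instance] HasDerivedCategory.standard

namespace Groth.Agent.Lib.T2H4.LD

open DerivedCategory IsLocalRing

variable {A : Type u} [CommRing A] [IsLocalRing A]

/-- `Hom(X, E) = 0` implies `X = 0` when `E` is injective and contains the residue field. -/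
theorem subsingleton_of_forall_hom_eq_zero (E : Type u) [AddCommGroup E] [Module A E]
    [Module.Injective A E] (f : ResidueField A →ₗ[A] E) (hf : Function.Injective f)
    (X : Type v) [AddCommGroup X] [Module A X] (h : ∀ lam : X →ₗ[A] E, lam = 0) :
    Subsingleton X := by
  refine ⟨fun a b => ?_⟩
  suffices ∀ x : X, x = 0 by rw [this a, this b]
  intro x
  by_contra hx
  let g : A →ₗ[A] X := LinearMap.toSpanSingleton A X x
  let lam : A →ₗ[A] E := f ∘ₗ (Algebra.linearMap A (ResidueField A))
  have hker : LinearMap.ker g ≤ LinearMap.ker lam := by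
    intro b hb
    rw [LinearMap.mem_ker] at hb ⊢
    have hb' : b • x = 0 := hb
    have hbm : b ∈ maximalIdeal A := by
      by_contra hbu
      have hu : IsUnit b := by
        by_contra hnu
        exact hbu ((mem_maximalIdeal b).mpr hnu)
      obtain ⟨u, rfl⟩ := hu
      apply hx
      have h2 := congrArg (fun y => ((u⁻¹ : Aˣ) : A) • y) hb'
      simpa [smul_smul] using h2
    change f (algebraMap A (ResidueField A) b) = 0
    rw [ResidueField.algebraMap_eq, (residue_eq_zero_iff b).mpr hbm, map_zero]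
  let lam' : LinearMap.range g →ₗ[A] E :=
    ((LinearMap.ker g).liftQ lam hker) ∘ₗ (g.quotKerEquivRange).symm.toLinearMap
  obtain ⟨μ, hμ⟩ := Module.Injective.extension_property A E _ _ (LinearMap.range g).subtype
    (LinearMap.range g).injective_subtype lam'
  have h1 := LinearMap.congr_fun hμ ⟨g 1, ⟨1, rfl⟩⟩
  rw [h μ] at h1
  have h4 : (g.quotKerEquivRange).symm ⟨g 1, ⟨1, rfl⟩⟩ = Submodule.Quotient.mk 1 := by
    rw [LinearEquiv.symm_apply_eq]
    rfl
  have h2 : lam' ⟨g 1, ⟨1, rfl⟩⟩ = f 1 := by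
    show ((LinearMap.ker g).liftQ lam hker) ((g.quotKerEquivRange).symm ⟨g 1, ⟨1, rfl⟩⟩) = f 1
    rw [h4]
    show f (algebraMap A (ResidueField A) 1) = f 1
    rw [map_one]
  have h3 : f 1 = 0 := by
    rw [← h2, ← h1]
    rfl
  exact one_ne_zero (hf (h3.trans (map_zero f).symm))

lemma subsingleton_hom_iff (E : Type u) [AddCommGroup E] [Module A E]
    [Module.Injective A E] (f : ResidueField A →ₗ[A] E) (hf : Function.Injective f)
    (X : Type v) [AddCommGroup X] [Module A X] :
    Subsingleton (X →ₗ[A] E) ↔ Subsingleton X := by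
  constructor
  · intro h
    exact subsingleton_of_forall_hom_eq_zero E f hf X (fun lam => Subsingleton.elim _ _)
  · intro h
    exact ⟨fun a b => LinearMap.ext (fun x => by rw [Subsingleton.elim x 0, map_zero, map_zero])⟩

variable [IsNoetherianRing A]

/-- **S19135**. -/
theorem hom_dualizing_vanishing_iff (ω : Dual.D A) (hω : Dual.IsDualizing A ω)
    (hn : Dual.IsNormalized A ω) [DRing.HasRgammaI (maximalIdeal A)] (M : Dual.D A)
    (hfin : ∀ i : ℤ, Module.Finite A (Dual.HD A M i))
    (hbd : ∃ a b : ℤ, ∀ i : ℤ, (i < a ∨ b < i) → Subsingleton (Dual.HD A M i)) :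
    ((∀ i : ℤ, i < 0 → Subsingleton (M ⟶ ω⟦i⟧)) ↔
      (∀ i : ℤ, 0 < i →
        Subsingleton (Dual.HD A ((DRing.RgammaI (maximalIdeal A)).obj M) i))) ∧
    ((∀ i : ℤ, 0 < i → Subsingleton (M ⟶ ω⟦i⟧)) ↔
      (∀ i : ℤ, i < 0 →
        Subsingleton (Dual.HD A ((DRing.RgammaI (maximalIdeal A)).obj M) i))) := by
  obtain ⟨E, _, _, f, hf⟩ := Groth.Agent.S0299.result A (ResidueField A)
  haveI := hf.isInjective
  obtain ⟨a, b, hab⟩ := hbd
  have key : ∀ i : ℤ, Subsingleton (Dual.HD A ((DRing.RgammaI (maximalIdeal A)).obj M) i) ↔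
      Subsingleton (M ⟶ ω⟦-i⟧) := by
    intro i
    obtain ⟨e1⟩ := Groth.Agent.Lib.T2H4.RGam.HD_RgammaI_equiv_HDI (maximalIdeal A) M i
    obtain ⟨e2⟩ := local_duality_HDI ω hω hn E f hf M hfin a (fun j hj => hab j (Or.inl hj)) i
    rw [← subsingleton_hom_iff E f hf.injective (M ⟶ ω⟦-i⟧)]
    exact (e1 ≪≫ₗ e2).toEquiv.subsingleton_congr
  constructor
  · constructor
    · intro h i hi
      rw [key]
      exact h (-i) (by lia)
    · intro h i hi
      have h1 := (key (-i)).1 (h (-i) (by lia))
      rwa [neg_neg] at h1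
  · constructor
    · intro h i hi
      rw [key]
      exact h (-i) (by lia)
    · intro h i hi
      have h1 := (key (-i)).1 (h (-i) (by lia))
      rwa [neg_neg] at h1

end Groth.Agent.Lib.T2H4.LD
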