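import Groth.Agent.Lib.T2H4LD6
import Groth.Agent.Lib.T2H4HDIRestrict

/-!
# Local duality for unbounded complexes over a complete local ring (helper4)

Vanishing of `H^j(Γ_I J)` for `j` large when `J` is a complex of injectives bounded above in
cohomology, truncation arguments for `HDI`.
-/

set_option autoImplicit false
set_option linter.style.haveILetI false
set_option backward.isDefEq.respectTransparency.types false
universe u v
open CategoryTheory CategoryTheory.Limits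
attribute [local instance] HasDerivedCategory.standard

namespace Groth.Agent.Lib.T2H4.LDC

open CochainComplex DerivedCategory HomologicalComplex
  Groth.Agent.Lib.T2H4.RGam Groth.Agent.Lib.T2H4.GNoeth
  Groth.Agent.Lib.T2H4.DComp Groth.Agent.Lib.Helper17.KInj

section Van

variable {A : Type u} [CommRing A] (J : CochainComplex (ModuleCat.{u} A) ℤ)

/-- vanishing of `H^j(Γ_{I'} J)` for `j > q`, elementwise. -/
def VA (I' : Ideal A) (q : ℤ) : Prop :=
  ∀ (i j k : ℤ) (_ : i + 1 = j) (_ : j + 1 = k), q < j → ∀ z : J.X j,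
    z ∈ DRing.torsionSub I' (J.X j) → (J.d j k).hom z = 0 →
      ∃ w ∈ DRing.torsionSub I' (J.X i), (J.d i j).hom w = z

variable {J}

lemma va_step (hdiv : Div J) (I' : Ideal A) (f : A) (q : ℤ) (h : VA J I' q) :
    VA J (I' ⊔ Ideal.span {f}) (q + 1) := by
  intro i j k hij hjk hqj z hz hzc
  rw [mem_torsionSub_sup_span_singleton] at hz
  obtain ⟨hzt, n, hn⟩ := hz
  obtain ⟨w, hwt, hw⟩ := h i j k hij hjk (by lia) z hzt hzc
  have hc : (J.d i j).hom (f ^ n • w) = 0 := by rw [map_smul, hw, hn]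
  obtain ⟨v, hvt, hv⟩ := h (i - 1) i j (by lia) hij (by lia) (f ^ n • w)
    ((DRing.torsionSub I' (J.X i)).smul_mem _ hwt) hc
  obtain ⟨v', hv't, N, hN⟩ := hdiv I' f (i - 1) v hvt n
  refine ⟨w - (J.d (i - 1) i).hom v', ?_, ?_⟩
  · rw [mem_torsionSub_sup_span_singleton]
    refine ⟨(DRing.torsionSub I' (J.X i)).sub_mem hwt (d_mem_torsionSub I' (i - 1) i hv't),
      N + n, ?_⟩
    have h1 : f ^ (N + n) • (w - (J.d (i - 1) i).hom v') =
        (J.d (i - 1) i).hom (f ^ N • (v - f ^ n • v')) := by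
      rw [map_smul, map_sub, map_smul, hv, pow_add, mul_smul, smul_sub]
    rw [h1, hN, map_zero]
  · rw [map_sub, hw, d_d_apply, sub_zero]

lemma va_span (hdiv : Div J) (q : ℤ) (h0 : VA J ⊥ q) (s : Finset A) :
    VA J (Ideal.span (s : Set A)) (q + s.card) := by
  classical
  induction s using Finset.induction_on with
  | empty =>
    rw [Finset.coe_empty, Ideal.span_empty, Finset.card_empty, Nat.cast_zero, add_zero]
    exact h0
  | insert f s hfs ih =>
    have h2 := va_step hdiv (Ideal.span (s : Set A)) f _ ih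
    have h3 : Ideal.span ((insert f s : Finset A) : Set A) =
        Ideal.span (s : Set A) ⊔ Ideal.span {f} := by
      rw [Finset.coe_insert, Ideal.span_insert, sup_comm]
    rw [h3, Finset.card_insert_of_notMem hfs, Nat.cast_add, Nat.cast_one, ← add_assoc]
    exact h2

lemma subsingleton_Hq_of_va (I : Ideal A) (q j : ℤ) (hj : q < j) (h : VA J I q) :
    Subsingleton (Hq I J j) := by
  apply Submodule.Quotient.subsingleton_iff.2
  rw [eq_top_iff]
  rintro ⟨⟨z₀, hz₀⟩, hz⟩ -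
  have hz' : (J.d j (j + 1)).hom z₀ = 0 := by
    have h1 : (scI ((gammaCx I).obj J) j).g.hom ⟨z₀, hz₀⟩ = 0 := hz
    exact congrArg Subtype.val h1
  obtain ⟨w, hwt, hw⟩ := h (j - 1) j (j + 1) (by lia) rfl hj z₀ hz₀ hz'
  refine ⟨(⟨w, hwt⟩ : DRing.torsionSub I (J.X (j - 1))), ?_⟩
  apply Subtype.ext
  apply Subtype.ext
  exact hw

end Van

section Ev

variable {A : Type u} [CommRing A] (I : Ideal A)

/-- every map `A/I^n ⟶ Z` dies after restriction to some `A/I^m`. -/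
def EvZero (Z : Dual.D A) : Prop :=
  ∀ (n : ℕ) (u : (DerivedCategory.singleFunctor (ModuleCat.{u} A) 0).obj
      (ModuleCat.of A (A ⧸ I ^ n)) ⟶ Z),
    ∃ (m : ℕ) (hnm : n ≤ m),
      (DerivedCategory.singleFunctor (ModuleCat.{u} A) 0).map (ρq I hnm) ≫ u = 0

variable {I}

lemma EvZero.of_iso {Z Z' : Dual.D A} (h : EvZero I Z) (e : Z ≅ Z') : EvZero I Z' := by
  intro n u
  obtain ⟨m, hnm, hm⟩ := h n (u ≫ e.inv)
  refine ⟨m, hnm, ?_⟩
  rw [← Category.assoc] at hm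
  exact (cancel_mono e.inv).1 (by rw [hm, zero_comp])

variable (I)

/-- zero criterion in the colimit defining `HDI`. -/
lemma exists_comp_eq_zero_of_ι_eq_zero (Y : Dual.D A) (q : ℤ) (n : ℕ)
    (u : (DerivedCategory.singleFunctor (ModuleCat.{u} A) 0).obj
      (ModuleCat.of A (A ⧸ I ^ n)) ⟶ Y⟦q⟧)
    (hu : (colimit.ι (FD I Y q) (Opposite.op (Opposite.op n))).hom u = 0) :
    ∃ (m : ℕ) (hnm : n ≤ m),
      (DerivedCategory.singleFunctor (ModuleCat.{u} A) 0).map (ρq I hnm) ≫ u = 0 := by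
  obtain ⟨J, hJ, ⟨e⟩⟩ := exists_fibrant Y
  haveI : J.IsKInjective := hJ.isKInjective
  have h1 : HDIEquivHq I Y J e q ((colimit.ι (FD I Y q) (Opposite.op (Opposite.op n))).hom u) =
      cLin I J q n (u ≫ e.hom⟦q⟧') := by
    unfold HDIEquivHq
    rw [LinearEquiv.trans_apply]
    have h2 := HasColimit.isoOfNatIso_ι_hom (Functor.isoWhiskerLeft
      (localCohomology.ringModIdeals (localCohomology.idealPowersDiagram I) ⋙
        DerivedCategory.singleFunctor (ModuleCat.{u} A) 0).op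
      ((linearYoneda A (Dual.D A)).mapIso
        ((CategoryTheory.shiftFunctor (Dual.D A) q).mapIso e))) (Opposite.op (Opposite.op n))
    have h3 := congrArg (fun t => t.hom u) h2
    simp only [ModuleCat.hom_comp, LinearMap.comp_apply] at h3
    erw [h3]
    unfold ΦEquiv
    rw [LinearEquiv.trans_apply, LinearEquiv.ofBijective_apply]
    erw [Φ_ι]
    rfl
  rw [hu, map_zero] at h1
  obtain ⟨m, hnm, hm⟩ := cLin_eq_zero I J q n (u ≫ e.hom⟦q⟧') h1.symm
  refine ⟨m, hnm, ?_⟩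
  rw [← Category.assoc] at hm
  exact (cancel_mono (e.hom⟦q⟧')).1 (by rw [hm, zero_comp])

/-- objects sufficiently far to the left have no eventually nonzero maps from the `A/I^n`. -/
theorem evZero_of_isLE [IsNoetherianRing A] (s : Finset A) (hs : Ideal.span (s : Set A) = I)
    (Z : Dual.D A) (c : ℤ) [Z.IsLE c] (hc : c + s.card < 0) : EvZero I Z := by
  obtain ⟨J, hJ, ⟨e⟩⟩ := exists_fibrant Z
  haveI : J.IsKInjective := hJ.isKInjective
  have hinj : ∀ n, Injective (J.X n) := fun n => injective_X_of_rlp hJ n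
  have hdiv := div_of_injective J hinj
  haveI : (Q.obj J).IsLE c := DerivedCategory.TStructure.t.isLE_of_iso e c
  have h0 : VA J ⊥ c := by
    intro i j k hij hjk hqj z _ hzc
    have hex : J.ExactAt j := by
      rw [exactAt_iff_isZero_homology]
      exact ((Q.obj J).isZero_of_isLE c j hqj).of_iso
        ((DerivedCategory.homologyFunctorFactors (ModuleCat.{u} A) j).app J).symm
    rw [J.exactAt_iff' i j k (by simp [← hij]) (by simp [← hjk]),
      ShortComplex.moduleCat_exact_iff] at hex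
    obtain ⟨w, hw⟩ := hex z hzc
    exact ⟨w, torsionSub_bot _ w, hw⟩
  have hva := va_span hdiv c h0 s
  rw [hs] at hva
  haveI := subsingleton_Hq_of_va I _ 0 hc hva
  intro n u
  obtain ⟨m, hnm, hm⟩ := cLin_eq_zero I J 0 n
    (u ≫ ((shiftFunctorZero (Dual.D A) ℤ).inv.app Z) ≫ e.hom⟦(0 : ℤ)⟧') (Subsingleton.elim _ _)
  refine ⟨m, hnm, ?_⟩
  rw [← Category.assoc] at hm
  exact (cancel_mono (((shiftFunctorZero (Dual.D A) ℤ).inv.app Z) ≫ e.hom⟦(0 : ℤ)⟧')).1
    (by rw [hm, zero_comp])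

end Ev

section Map

open Pretriangulated

variable {A : Type u} [CommRing A] (I : Ideal A)

/-- functoriality of `HDI` in the complex. -/
noncomputable def HDImap {Y Y' : Dual.D A} (g : Y ⟶ Y') (q : ℤ) :
    (Dual2.HDI A I Y q : ModuleCat.{u + 1} A) →ₗ[A] (Dual2.HDI A I Y' q : ModuleCat.{u + 1} A) :=
  (colimMap (Functor.whiskerLeft
    (localCohomology.ringModIdeals (localCohomology.idealPowersDiagram I) ⋙
      DerivedCategory.singleFunctor (ModuleCat.{u} A) 0).op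
    ((linearYoneda A (Dual.D A)).map (g⟦q⟧')))).hom

lemma HDImap_ι {Y Y' : Dual.D A} (g : Y ⟶ Y') (q : ℤ) (n : ℕ)
    (u : (DerivedCategory.singleFunctor (ModuleCat.{u} A) 0).obj
      (ModuleCat.of A (A ⧸ I ^ n)) ⟶ Y⟦q⟧) :
    HDImap I g q ((colimit.ι (FD I Y q) (Opposite.op (Opposite.op n))).hom u) =
      (colimit.ι (FD I Y' q) (Opposite.op (Opposite.op n))).hom (u ≫ g⟦q⟧') := by
  have h := ι_colimMap (Functor.whiskerLeft
    (localCohomology.ringModIdeals (localCohomology.idealPowersDiagram I) ⋙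
      DerivedCategory.singleFunctor (ModuleCat.{u} A) 0).op
    ((linearYoneda A (Dual.D A)).map (g⟦q⟧'))) (Opposite.op (Opposite.op n))
  exact congrArg (fun t => t.hom u) h

lemma ι_ρq (Y : Dual.D A) (q : ℤ) {n m : ℕ} (hnm : n ≤ m)
    (u : (DerivedCategory.singleFunctor (ModuleCat.{u} A) 0).obj
      (ModuleCat.of A (A ⧸ I ^ n)) ⟶ Y⟦q⟧) :
    (colimit.ι (FD I Y q) (Opposite.op (Opposite.op m))).hom
        ((DerivedCategory.singleFunctor (ModuleCat.{u} A) 0).map (ρq I hnm) ≫ u) =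
      (colimit.ι (FD I Y q) (Opposite.op (Opposite.op n))).hom u := by
  let f : (Opposite.op (Opposite.op n) : ℕᵒᵖᵒᵖ) ⟶ Opposite.op (Opposite.op m) :=
    (homOfLE hnm).op.op
  have h1 := colimit.w (FD I Y q) f
  exact congrArg (fun t => t.hom u) h1

lemma ι_ρq' (Y : Dual.D A) (q : ℤ) {n m : ℕ} (hnm : n ≤ m)
    (u : (DerivedCategory.singleFunctor (ModuleCat.{u} A) 0).obj
      (ModuleCat.of A (A ⧸ I ^ n)) ⟶ Y⟦q⟧)
    (w : (DerivedCategory.singleFunctor (ModuleCat.{u} A) 0).obj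
      (ModuleCat.of A (A ⧸ I ^ m)) ⟶ Y⟦q⟧)
    (hw : w = (DerivedCategory.singleFunctor (ModuleCat.{u} A) 0).map (ρq I hnm) ≫ u) :
    (colimit.ι (FD I Y q) (Opposite.op (Opposite.op m))).hom w =
      (colimit.ι (FD I Y q) (Opposite.op (Opposite.op n))).hom u := by
  subst hw
  exact ι_ρq I Y q hnm u

lemma coyoneda_shift₂ (T : Triangle (Dual.D A)) (hT : T ∈ distTriang _) (q : ℤ) {X : Dual.D A}
    (f : X ⟶ T.obj₂⟦q⟧) (hf : f ≫ T.mor₂⟦q⟧' = 0) : ∃ g : X ⟶ T.obj₁⟦q⟧, f = g ≫ T.mor₁⟦q⟧' := by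
  have hTq := Triangle.shift_distinguished T hT q
  obtain ⟨g, hg⟩ := Triangle.coyoneda_exact₂ _ hTq f (by
    show f ≫ (q.negOnePow • T.mor₂⟦q⟧') = 0
    rw [Linear.comp_units_smul, hf, smul_zero])
  let g' : X ⟶ T.obj₁⟦q⟧ := g
  refine ⟨q.negOnePow • g', ?_⟩
  have hg' : f = g' ≫ (q.negOnePow • T.mor₁⟦q⟧') := hg
  rw [Linear.units_smul_comp, hg', Linear.comp_units_smul]

lemma coyoneda_shift₃ (T : Triangle (Dual.D A)) (hT : T ∈ distTriang _) (q : ℤ) {X : Dual.D A}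
    (f : X ⟶ T.obj₃⟦q⟧)
    (hf : f ≫ ((CategoryTheory.shiftFunctor (Triangle (Dual.D A)) q).obj T).mor₃ = 0) :
    ∃ g : X ⟶ T.obj₂⟦q⟧, f = g ≫ T.mor₂⟦q⟧' := by
  have hTq := Triangle.shift_distinguished T hT q
  obtain ⟨g, hg⟩ := Triangle.coyoneda_exact₃ _ hTq f hf
  let g' : X ⟶ T.obj₂⟦q⟧ := g
  refine ⟨q.negOnePow • g', ?_⟩
  have hg' : f = g' ≫ (q.negOnePow • T.mor₂⟦q⟧') := hg
  rw [Linear.units_smul_comp, hg', Linear.comp_units_smul]

/-- `HDI` only sees the truncation `τ_{≥ p}` for `p` small. -/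
theorem HDImap_bijective (T : Triangle (Dual.D A)) (hT : T ∈ distTriang _) (q : ℤ)
    (h1 : EvZero I (T.obj₁⟦q⟧)) (h2 : EvZero I ((T.obj₁⟦q⟧)⟦(1 : ℤ)⟧)) :
    Function.Bijective (HDImap I T.mor₂ q) := by
  constructor
  · rw [injective_iff_map_eq_zero]
    intro x hx
    obtain ⟨⟨⟨n⟩⟩, u, rfl⟩ := colimit_jointly_surjective (FD I T.obj₂ q) x
    rw [HDImap_ι] at hx
    obtain ⟨m, hnm, hm⟩ := exists_comp_eq_zero_of_ι_eq_zero I T.obj₃ q n (u ≫ T.mor₂⟦q⟧') hx
    rw [← Category.assoc] at hm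
    obtain ⟨v, hv⟩ := coyoneda_shift₂ T hT q _ hm
    obtain ⟨m', hmm', hm'⟩ := h1 m v
    have e1 := ι_ρq' I T.obj₂ q hnm u (v ≫ T.mor₁⟦q⟧') hv.symm
    have e2 := ι_ρq' I T.obj₂ q hmm' (v ≫ T.mor₁⟦q⟧') 0 (by
      rw [← Category.assoc, hm', zero_comp])
    exact e1.symm.trans (e2.symm.trans (map_zero _))
  · intro y
    obtain ⟨⟨⟨n⟩⟩, u', rfl⟩ := colimit_jointly_surjective (FD I T.obj₃ q) y
    obtain ⟨m, hnm, hm⟩ := h2 n
      (u' ≫ ((CategoryTheory.shiftFunctor (Triangle (Dual.D A)) q).obj T).mor₃)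
    rw [← Category.assoc] at hm
    obtain ⟨v, hv⟩ := coyoneda_shift₃ T hT q _ hm
    refine ⟨(colimit.ι (FD I T.obj₂ q) (Opposite.op (Opposite.op m))).hom v, ?_⟩
    have e1 := ι_ρq' I T.obj₃ q hnm u' (v ≫ T.mor₂⟦q⟧') hv.symm
    rw [HDImap_ι]
    exact e1

end Map

section Final

open Pretriangulated IsLocalRing Groth.Agent.Lib.T2H4.LD Groth.Agent.Lib.T2H4.Bidual
  Groth.Agent.Lib.T2H4.LocalDual

variable {A : Type u} [CommRing A]

/-- precomposition with `K ⟶ τ_{≥p} K`. -/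
lemma precomp_bijective (T : Triangle (Dual.D A)) (hT : T ∈ distTriang _) (Z : Dual.D A)
    (h1 : ∀ f : T.obj₁ ⟶ Z, f = 0) (h2 : ∀ f : T.obj₁⟦(1 : ℤ)⟧ ⟶ Z, f = 0) :
    Function.Bijective (Linear.leftComp A Z T.mor₂) := by
  constructor
  · rw [injective_iff_map_eq_zero]
    intro v hv
    obtain ⟨w, hw⟩ := Triangle.yoneda_exact₃ T hT v hv
    rw [hw, h2 w, comp_zero]
  · intro f
    obtain ⟨g, hg⟩ := Triangle.yoneda_exact₂ T hT f (h1 _)
    exact ⟨g, hg.symm⟩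

/-- truncation triangles. -/
lemma exists_trunc_triangle (K : Dual.D A) (p : ℤ) :
    ∃ (L K' : Dual.D A) (f : L ⟶ K) (g : K ⟶ K') (h : K' ⟶ L⟦(1 : ℤ)⟧),
      Triangle.mk f g h ∈ distTriang (Dual.D A) ∧ L.IsLE (p - 1) ∧ K'.IsGE p := by
  obtain ⟨L, K', hL, hK', f, g, h, hT⟩ :=
    DerivedCategory.TStructure.t.exists_triangle K (p - 1) p (by lia)
  exact ⟨L, K', f, g, h, hT, ⟨hL⟩, ⟨hK'⟩⟩

variable [IsLocalRing A] [IsNoetherianRing A]

/-- **S1761**: local duality for complexes with finite cohomology over a complete local ring. -/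
theorem local_duality_complete_complex [IsAdicComplete (maximalIdeal A) A]
    (ω : Dual.D A) (hω : Dual.IsDualizing A ω)
    (hn : Dual.IsNormalized A ω) (E : Type u) [AddCommGroup E] [Module A E]
    (f : ResidueField A →ₗ[A] E) (hf : InjHull.IsInjectiveHull f)
    (K : Dual.D A) (hK : ∀ i : ℤ, Module.Finite A (Dual.HD A K i)) (i : ℤ) :
    Nonempty ((K ⟶ ω⟦(-i)⟧) ≃ₗ[A] (Dual2.HDI A (maximalIdeal A) K i →ₗ[A] E)) := by
  obtain ⟨s, hs⟩ := (isNoetherianRing_iff_ideal_fg A).1 inferInstance (maximalIdeal A)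
  obtain ⟨I₀, a, b, hI, ⟨e⟩⟩ := exists_dualizingRep ω hω
  haveI := hI.bdd.ge
  haveI : (Q.obj I₀).IsGE a := inferInstance
  haveI : ω.IsGE a := DerivedCategory.TStructure.t.isGE_of_iso e a
  obtain ⟨L, K', f₁, g₁, h₁, hT, hL, hK'⟩ :=
    exists_trunc_triangle K (min (a + i) (i - s.card))
  generalize hp : min (a + i) (i - (s.card : ℤ)) = p at hT hL hK'
  have hp1 : p ≤ a + i := hp ▸ min_le_left _ _
  have hp2 : p ≤ i - s.card := hp ▸ min_le_right _ _
  haveI := hL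
  haveI := hK'
  haveI : (ω⟦(-i)⟧).IsGE (a + i) :=
    DerivedCategory.TStructure.t.isGE_shift ω a (-i) (a + i) (by lia)
  haveI : (L⟦(1 : ℤ)⟧).IsLE (p - 2) :=
    DerivedCategory.TStructure.t.isLE_shift L (p - 1) 1 (p - 2) (by lia)
  have hb1 : Function.Bijective (Linear.leftComp A (ω⟦(-i)⟧) g₁) :=
    precomp_bijective (Triangle.mk f₁ g₁ h₁) hT _
      (fun v => DerivedCategory.TStructure.t.zero (X := L) (Y := ω⟦(-i)⟧) v (p - 1) (a + i)
        (by lia))
      (fun v => DerivedCategory.TStructure.t.zero (X := L⟦(1 : ℤ)⟧) (Y := ω⟦(-i)⟧) v (p - 2)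
        (a + i) (by lia))
  haveI : (L⟦i⟧).IsLE (p - 1 - i) :=
    DerivedCategory.TStructure.t.isLE_shift L (p - 1) i (p - 1 - i) (by lia)
  haveI : ((L⟦i⟧)⟦(1 : ℤ)⟧).IsLE (p - 2 - i) :=
    DerivedCategory.TStructure.t.isLE_shift (L⟦i⟧) (p - 1 - i) 1 (p - 2 - i) (by lia)
  have hb2 : Function.Bijective (HDImap (maximalIdeal A) g₁ i) :=
    HDImap_bijective (maximalIdeal A) (Triangle.mk f₁ g₁ h₁) hT i
      (evZero_of_isLE (maximalIdeal A) s hs (L⟦i⟧) (p - 1 - i) (by lia))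
      (evZero_of_isLE (maximalIdeal A) s hs ((L⟦i⟧)⟦(1 : ℤ)⟧) (p - 2 - i) (by lia))
  have hK'fin : ∀ j : ℤ, Module.Finite A (Dual.HD A K' j) := by
    intro j
    by_cases hj : j < p
    · haveI : Subsingleton (Dual.HD A K' j) :=
        ModuleCat.subsingleton_of_isZero (K'.isZero_of_isGE p j hj)
      infer_instance
    · have hδ : DerivedCategory.HomologySequence.δ (Triangle.mk f₁ g₁ h₁) j (j + 1) rfl = 0 :=
        (L.isZero_of_isLE (p - 1) (j + 1) (by lia)).eq_of_tgt _ _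
      have hepi := (DerivedCategory.HomologySequence.epi_homologyMap_mor₂_iff
        (Triangle.mk f₁ g₁ h₁) hT j (j + 1) rfl).2 hδ
      have hsurj := (ModuleCat.epi_iff_surjective _).1 hepi
      haveI := hK j
      exact Module.Finite.of_surjective
        ((DerivedCategory.homologyFunctor (ModuleCat.{u} A) j).map g₁).hom hsurj
  have hc : ∀ j : ℤ, j < p → Subsingleton (Dual.HD A K' j) := fun j hj =>
    ModuleCat.subsingleton_of_isZero (K'.isZero_of_isGE p j hj)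
  obtain ⟨e1⟩ := local_duality_HDI ω hω hn E f hf K' hK'fin p hc i
  haveI : Module.Finite A (K ⟶ ω⟦(-i)⟧) :=
    Groth.Agent.S1746.result A K ω hK hω.finite_cohomology
      (hasFiniteInjDim_of_isDualizing ω hω) (-i)
  obtain ⟨X', _, _, _, ⟨e2⟩⟩ := exists_small_model (A := A) (K ⟶ ω⟦(-i)⟧)
  have hbij := (Groth.Agent.S0316.result A E f hf X').2
  let e3 : X' ≃ₗ[A] ((X' →ₗ[A] E) →ₗ[A] E) := LinearEquiv.ofBijective _ hbij
  let eb1 : (K' ⟶ ω⟦(-i)⟧) ≃ₗ[A] (K ⟶ ω⟦(-i)⟧) := LinearEquiv.ofBijective _ hb1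
  let eb2 : (Dual2.HDI A (maximalIdeal A) K i : ModuleCat.{u + 1} A) ≃ₗ[A]
      (Dual2.HDI A (maximalIdeal A) K' i : ModuleCat.{u + 1} A) := LinearEquiv.ofBijective _ hb2
  exact ⟨e2 ≪≫ₗ e3 ≪≫ₗ LinearEquiv.congrLeft E A
    ((eb2 ≪≫ₗ e1 ≪≫ₗ LinearEquiv.congrLeft E A (eb1 ≪≫ₗ e2)).symm)⟩

end Final

end Groth.Agent.Lib.T2H4.LDC
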