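import Mathlib
import Groth.Prelude.Def_LocCohZ
import Groth.Agent.Lib.Helper23DerLES
import Groth.Agent.Lib.Helper21DerAcycNat
import Groth.Agent.Lib.Helper21RelExtSS
import Groth.Agent.Lib.Helper21GammaZ2
import Groth.Agent.Lib.Helper21GammaZNat0
import Groth.Agent.Lib.T2H5RpushQCoh
import Groth.Agent.Lib.Helper23QCohAbelian
import Groth.Agent.Lib.T2H5RpushClosed

/-!
# Quasi-coherence of the local cohomology sheaves `ℋ^q_Z(M)` (helper4)

Namespace `Groth.Agent.Lib.T2H4.LocCohQC`.

For a quasi-compact open immersion `j : U → Y` with closed complement `Z` and `M` quasi-coherent on `Y`: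
`ℋ^0_Z(M) = ker(M → j_* j^* M)`, `ℋ^1_Z(M) = coker(M → j_* j^* M)`, `ℋ^{q+1}_Z(M) = R^q j_*(M|_U)` for `q ≥ 1`;
all quasi-coherent.  The long exact sequence is helper23's `Helper23DerLES` applied to `Γ_Z → 𝟭 → j_* j^*`, which is
short exact on injective modules since these are flasque.
-/

set_option autoImplicit false
set_option linter.style.haveILetI false
set_option linter.unusedSectionVars false
universe u
open CategoryTheory CategoryTheory.Limits AlgebraicGeometry TopologicalSpace Opposite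

namespace Groth.Agent.Lib.T2H4.LocCohQC

open Groth.Agent.Lib.Helper23.QCohLocal Groth.Agent.Lib.Helper23DerLES

attribute [local instance] restrictFunctor_isRightAdjoint

variable {U Y : Scheme.{u}} (j : U ⟶ Y) [IsOpenImmersion j]

/-- `j_* j^*` -/
noncomputable abbrev TT : Y.Modules ⥤ Y.Modules :=
  Scheme.Modules.restrictFunctor j ⋙ Scheme.Modules.pushforward j

/-- the unit `𝟭 ⟶ j_* j^*` -/
noncomputable abbrev β : 𝟭 Y.Modules ⟶ TT j := (Scheme.Modules.restrictAdjunction j).unit

/-- `Γ_Z ⟶ 𝟭` -/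
noncomputable def αΓ : DCoh.gammaZ j ⟶ 𝟭 Y.Modules where
  app F := kernel.ι ((Scheme.Modules.restrictAdjunction j).unit.app F)
  naturality _ _ _ := kernel.lift_ι _ _ _

theorem w : αΓ j ≫ β j = 0 := by
  apply NatTrans.ext
  funext F
  exact kernel.condition _

theorem isZero_rightDerived_id {C : Type*} [Category C] [Abelian C] [HasInjectiveResolutions C]
    (X : C) (n : ℕ) : IsZero (((𝟭 C).rightDerived (n + 1)).obj X) := by
  let I : InjectiveResolution X := injectiveResolution X
  refine IsZero.of_iso ?_ (I.isoRightDerivedObj (𝟭 C) (n + 1))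
  change IsZero ((((𝟭 C).mapHomologicalComplex _).obj I.cocomplex).homology (n + 1))
  rw [← HomologicalComplex.exactAt_iff_isZero_homology,
    HomologicalComplex.exactAt_iff' _ n (n + 1) (n + 2) (by simp)
      (by simp only [CochainComplex.next]; rfl)]
  exact I.exact_succ n

/-- injective modules are flasque -/
theorem isFlasque_of_injective (Q : Y.Modules) (hQ : Injective Q) : TopCat.Sheaf.IsFlasque (Coh.toAb Q) :=
  Groth.Agent.Lib.Helper21.RelExtSS.isFlasque_of_isTotallyAcyclic _
    (@Groth.Agent.Lib.Helper21.GammaZ.isTotallyAcyclic_of_injective _ _ _ Y.sheaf Q hQ)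

/-- the restriction of a flasque module to an open subscheme is flasque -/
theorem isFlasque_restrict (Q : Y.Modules) (h : TopCat.Sheaf.IsFlasque (Coh.toAb Q)) :
    TopCat.Sheaf.IsFlasque (Coh.toAb ((Scheme.Modules.restrictFunctor j).obj Q)) := by
  constructor
  intro V W i
  exact h.epi ((j.opensFunctor.map i.unop).op)

/-- the unit `Q ⟶ j_* j^* Q` is an epimorphism for flasque `Q` -/
theorem epi_unit_of_isFlasque (Q : Y.Modules) (h : TopCat.Sheaf.IsFlasque (Coh.toAb Q)) :
    Epi ((Scheme.Modules.restrictAdjunction j).unit.app Q) := by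
  apply Groth.Agent.Lib.Helper21.GammaZ.epi_of_surjective_app
  intro V
  have h1 := h.epi (homOfLE (j.image_preimage_le V.unop)).op
  rw [AddCommGrpCat.epi_iff_surjective] at h1
  exact h1

theorem hex (Q : Y.Modules) (hQ : Injective Q) :
    (ShortComplex.mk ((αΓ j).app Q) ((β j).app Q) (by
      rw [← NatTrans.comp_app, w]; rfl)).ShortExact := by
  haveI := hQ
  have h1 : Mono ((αΓ j).app Q) := inferInstanceAs (Mono (kernel.ι _))
  have h2 : Epi ((β j).app Q) := epi_unit_of_isFlasque j Q (isFlasque_of_injective Q hQ)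
  exact ShortComplex.ShortExact.mk' (ShortComplex.exact_of_f_is_kernel _ (kernelIsKernel _)) h1 h2

section LeftExact

variable {S : ShortComplex Y.Modules} (hS : S.ShortExact)

theorem αΓ_naturality {A B : Y.Modules} (φ : A ⟶ B) :
    (DCoh.gammaZ j).map φ ≫ (αΓ j).app B = (αΓ j).app A ≫ φ := (αΓ j).naturality φ

theorem β_naturality {A B : Y.Modules} (φ : A ⟶ B) :
    φ ≫ (β j).app B = (β j).app A ≫ (TT j).map φ := (β j).naturality φ

theorem αΓ_β (A : Y.Modules) : (αΓ j).app A ≫ (β j).app A = 0 := kernel.condition _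

instance mono_αΓ (A : Y.Modules) : Mono ((αΓ j).app A) := inferInstanceAs (Mono (kernel.ι _))

theorem fork_cond {T : Y.Modules} (g : T ⟶ (DCoh.gammaZ j).obj S.X₂)
    (hg : g ≫ (DCoh.gammaZ j).map S.g = 0) : (g ≫ (αΓ j).app S.X₂) ≫ S.g = 0 := by
  have e : (g ≫ (αΓ j).app S.X₂) ≫ S.g = (g ≫ (DCoh.gammaZ j).map S.g) ≫ (αΓ j).app S.X₃ := by
    rw [Category.assoc, Category.assoc, αΓ_naturality]
  rw [e, hg, zero_comp]

/-- lift to `X₁` -/
noncomputable def lift₁ {T : Y.Modules} (g : T ⟶ (DCoh.gammaZ j).obj S.X₂)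
    (hg : g ≫ (DCoh.gammaZ j).map S.g = 0) : T ⟶ S.X₁ :=
  hS.fIsKernel.lift (KernelFork.ofι (g ≫ (αΓ j).app S.X₂) (fork_cond j g hg))

theorem lift₁_f {T : Y.Modules} (g : T ⟶ (DCoh.gammaZ j).obj S.X₂)
    (hg : g ≫ (DCoh.gammaZ j).map S.g = 0) : lift₁ j hS g hg ≫ S.f = g ≫ (αΓ j).app S.X₂ :=
  hS.fIsKernel.fac (KernelFork.ofι (g ≫ (αΓ j).app S.X₂) (fork_cond j g hg)) WalkingParallelPair.zero

theorem lift₁_β {T : Y.Modules} (g : T ⟶ (DCoh.gammaZ j).obj S.X₂)
    (hg : g ≫ (DCoh.gammaZ j).map S.g = 0) : lift₁ j hS g hg ≫ (β j).app S.X₁ = 0 := by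
  haveI := hS.mono_f
  haveI : PreservesFiniteLimits (TT j) := inferInstance
  haveI : Mono ((TT j).map S.f) := inferInstance
  rw [← cancel_mono ((TT j).map S.f), Category.assoc, zero_comp, ← β_naturality, ← Category.assoc,
    lift₁_f, Category.assoc, αΓ_β, comp_zero]

/-- lift to `Γ_Z X₁` -/
noncomputable def lift₂ {T : Y.Modules} (g : T ⟶ (DCoh.gammaZ j).obj S.X₂)
    (hg : g ≫ (DCoh.gammaZ j).map S.g = 0) : T ⟶ (DCoh.gammaZ j).obj S.X₁ :=
  kernel.lift _ (lift₁ j hS g hg) (lift₁_β j hS g hg)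

theorem lift₂_α {T : Y.Modules} (g : T ⟶ (DCoh.gammaZ j).obj S.X₂)
    (hg : g ≫ (DCoh.gammaZ j).map S.g = 0) : lift₂ j hS g hg ≫ (αΓ j).app S.X₁ = lift₁ j hS g hg :=
  kernel.lift_ι _ _ _

theorem lift₂_map {T : Y.Modules} (g : T ⟶ (DCoh.gammaZ j).obj S.X₂)
    (hg : g ≫ (DCoh.gammaZ j).map S.g = 0) : lift₂ j hS g hg ≫ (DCoh.gammaZ j).map S.f = g := by
  rw [← cancel_mono ((αΓ j).app S.X₂), Category.assoc, αΓ_naturality, ← Category.assoc, lift₂_α, lift₁_f]

include hS in
theorem mono_gammaZ_map : Mono ((DCoh.gammaZ j).map S.f) := by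
  haveI := hS.mono_f
  haveI : Mono ((DCoh.gammaZ j).map S.f ≫ (αΓ j).app S.X₂) := by
    rw [αΓ_naturality]
    exact mono_comp _ _
  exact mono_of_mono _ ((αΓ j).app S.X₂)

/-- `Γ_Z` is left exact -/
theorem preservesFiniteLimits_gammaZ : PreservesFiniteLimits (DCoh.gammaZ j) := by
  rw [Functor.preservesFiniteLimits_iff_forall_exact_map_and_mono]
  intro S hS
  haveI := mono_gammaZ_map j hS
  refine ⟨?_, mono_gammaZ_map j hS⟩
  refine ShortComplex.exact_of_f_is_kernel _ ?_
  exact KernelFork.IsLimit.ofι _ _ (fun g hg => lift₂ j hS g hg) (fun g hg => lift₂_map j hS g hg)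
    (fun g hg m hm =>
      (cancel_mono ((DCoh.gammaZ j).map S.f)).1 (hm.trans (lift₂_map j hS g hg).symm))

end LeftExact

section Isos

variable [HasInjectiveResolutions Y.Modules]

/-- `ℋ^1_Z ≅ coker(𝟭 ⟶ j_* j^*)` -/
noncomputable def isoOne : cokernel (β j) ≅ (DCoh.gammaZ j).rightDerived 1 :=
  haveI : PreservesFiniteLimits (TT j) := inferInstance
  haveI := isIso_cokernel_desc (αΓ j) (β j) (w j) (hex j) (fun F => isZero_rightDerived_id F 0)
  asIso (cokernel.desc (β j) (γ (αΓ j) (β j) (w j) (hex j)) (β_γ (αΓ j) (β j) (w j) (hex j)))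

/-- the value of the cokernel of `𝟭 ⟶ j_* j^*` -/
noncomputable def cokernelObjIso (M : Y.Modules) : (cokernel (β j)).obj M ≅ cokernel ((β j).app M) :=
  PreservesCokernel.iso ((evaluation Y.Modules Y.Modules).obj M) (β j)

/-- `R^{k+1}(j_* j^*) ≅ ℋ^{k+2}_Z` -/
noncomputable def isoDelta (k : ℕ) : (TT j).rightDerived (k + 1) ≅ (DCoh.gammaZ j).rightDerived (k + 2) :=
  haveI := isIso_δ (αΓ j) (β j) (w j) (hex j) (k + 1) (fun F => isZero_rightDerived_id F k)
    (fun F => isZero_rightDerived_id F (k + 1))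
  asIso (δ (αΓ j) (β j) (w j) (hex j) (k + 1))

theorem preservesFiniteLimits_pushforward : PreservesFiniteLimits (Scheme.Modules.pushforward j) := by
  haveI := (Scheme.Modules.pullbackPushforwardAdjunction j).rightAdjoint_preservesLimits
  infer_instance

/-- restrictions of injective modules to opens are `j_*`-acyclic -/
theorem isZero_Rpush_restrict_of_injective [HasInjectiveResolutions U.Modules] (I : Y.Modules) (hI : Injective I)
    (q : ℕ) (hq : 0 < q) :
    IsZero (((Scheme.Modules.pushforward j).rightDerived q).obj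
      ((Scheme.Modules.restrictFunctor j).obj I)) := by
  obtain ⟨q, rfl⟩ : ∃ k, q = k + 1 := ⟨q - 1, by omega⟩
  exact Groth.Agent.Lib.Helper21.RelExtSS.isZero_Rpush_of_isFlasque j _
    (isFlasque_restrict j I (isFlasque_of_injective I hI)) q

/-- `R^n(j_* j^*) ≅ j^* ⋙ R^n j_*` -/
noncomputable def isoComp [HasInjectiveResolutions U.Modules] [EnoughInjectives U.Modules] (n : ℕ) :
    (TT j).rightDerived n ≅
      Scheme.Modules.restrictFunctor j ⋙ (Scheme.Modules.pushforward j).rightDerived n :=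
  haveI := preservesFiniteLimits_pushforward j
  Groth.Agent.Lib.Helper21.DerAcycNat.compIso (Scheme.Modules.restrictFunctor j)
    (Scheme.Modules.pushforward j) (isZero_Rpush_restrict_of_injective j) n

/-- `ℋ^{k+2}_Z(M) ≅ R^{k+1} j_*(M|_U)` -/
noncomputable def isoSuccSucc [HasInjectiveResolutions U.Modules] [EnoughInjectives U.Modules] (k : ℕ)
    (M : Y.Modules) :
    ((DCoh.gammaZ j).rightDerived (k + 2)).obj M ≅
      (Coh.Rpush j (k + 1)).obj ((Scheme.Modules.restrictFunctor j).obj M) :=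
  ((isoDelta j k).app M).symm ≪≫ (isoComp j (k + 1)).app M

end Isos

section Main

variable [QuasiCompact j] [HasInjectiveResolutions Y.Modules] (M : Y.Modules) [M.IsQuasicoherent]

theorem isQuasicoherent_TT : ((TT j).obj M).IsQuasicoherent := by
  haveI : ((Scheme.Modules.restrictFunctor j).obj M).IsQuasicoherent :=
    Scheme.Modules.isQuasicoherent_restrictFunctor j M
  exact isQuasicoherent_pushforward j _

theorem isQuasicoherent_zero : ((LocCohZ.HZshM j 0).obj M).IsQuasicoherent := by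
  haveI := preservesFiniteLimits_gammaZ j
  have e : (LocCohZ.HZshM j 0).obj M ≅ (DCoh.gammaZ j).obj M :=
    (DCoh.gammaZ j).rightDerivedZeroIsoSelf.app M
  have h2 := isQuasicoherent_TT j M
  have h3 : ((DCoh.gammaZ j).obj M).IsQuasicoherent :=
    @isQuasicoherent_kernel Y M _ inferInstance h2 ((Scheme.Modules.restrictAdjunction j).unit.app M)
  exact (SheafOfModules.isQuasicoherent Y.ringCatSheaf).prop_of_iso e.symm h3

theorem isQuasicoherent_one : ((LocCohZ.HZshM j 1).obj M).IsQuasicoherent := by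
  have h2 := isQuasicoherent_TT j M
  have h3 : (cokernel ((β j).app M)).IsQuasicoherent :=
    @isQuasicoherent_cokernel Y M _ inferInstance h2 ((β j).app M)
  exact (SheafOfModules.isQuasicoherent Y.ringCatSheaf).prop_of_iso
    ((cokernelObjIso j M).symm ≪≫ (isoOne j).app M) h3

theorem isQuasicoherent_succ_succ (k : ℕ) : ((LocCohZ.HZshM j (k + 2)).obj M).IsQuasicoherent := by
  haveI := Groth.Agent.Lib.T2H5.RpushClosed.enoughInjectives_modules U
  haveI : HasInjectiveResolutions U.Modules := inferInstance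
  haveI : ((Scheme.Modules.restrictFunctor j).obj M).IsQuasicoherent :=
    Scheme.Modules.isQuasicoherent_restrictFunctor j M
  have h3 : ((Coh.Rpush j (k + 1)).obj ((Scheme.Modules.restrictFunctor j).obj M)).IsQuasicoherent :=
    Groth.Agent.Lib.T2H5.RpushQCoh.isQuasicoherent_Rpush j _ (k + 1)
  exact (SheafOfModules.isQuasicoherent Y.ringCatSheaf).prop_of_iso (isoSuccSucc j k M).symm h3

/-- **the local cohomology sheaves of a quasi-coherent module are quasi-coherent** -/
theorem isQuasicoherent_HZshM (q : ℕ) : ((LocCohZ.HZshM j q).obj M).IsQuasicoherent := by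
  match q with
  | 0 => exact isQuasicoherent_zero j M
  | 1 => exact isQuasicoherent_one j M
  | k + 2 => exact isQuasicoherent_succ_succ j M k

end Main

end Groth.Agent.Lib.T2H4.LocCohQC
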