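import Mathlib
import Groth.Prelude.Def_Coh
import Groth.Agent.Lib.Helper23QCohLocal
import Groth.Agent.Lib.Helper23QCohAbelian

/-!
# Splitting a quasi-coherent module vanishing on `U ∩ V` (helper5, team 2)

For quasi-compact opens `U, V` of a scheme `X` and a quasi-coherent `F` with `F|_{U ∩ V} = 0`, the kernel `A` of
`F ⟶ j_{U*}(F|_U)` is quasi-coherent, vanishes on `U`, and `F/A` vanishes on `V`.
-/
set_option autoImplicit false
set_option linter.style.haveILetI false
set_option linter.unusedSectionVars false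
universe u
open CategoryTheory Limits AlgebraicGeometry TopologicalSpace Opposite

namespace Groth.Agent.Lib.T2H5.SuppSplit

variable {X : Scheme.{u}}

/-- a module all of whose sections vanish is a zero object -/
theorem isZero_of_subsingleton_sections (M : X.Modules)
    (h : ∀ W : X.Opens, Subsingleton (M.presheaf.obj (op W))) : IsZero M := by
  refine (IsZero.iff_id_eq_zero M).2 ?_
  apply Scheme.Modules.hom_ext
  intro W
  ext s
  exact (h W).elim _ _

/-- sections of a module whose restriction to an open `W₀` is zero vanish on opens inside `W₀` -/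
theorem subsingleton_sections_of_isZero_restrict (M : X.Modules) (W₀ : X.Opens)
    (h : IsZero (M.restrict W₀.ι)) (W : X.Opens) (hW : W ≤ W₀) :
    Subsingleton (M.presheaf.obj (op W)) := by
  have key : ∀ s : (M.restrict W₀.ι).presheaf.obj (op (W₀.ι ⁻¹ᵁ W)), s = 0 := by
    intro s
    have h1 : (𝟙 (M.restrict W₀.ι) : _ ⟶ _) = 0 := h.eq_of_src _ _
    have h2 : (𝟙 (M.restrict W₀.ι) : _ ⟶ _).app (W₀.ι ⁻¹ᵁ W) s = s := rfl
    rw [h1] at h2
    exact h2.symm
  have hWeq : W₀.ι ''ᵁ (W₀.ι ⁻¹ᵁ W) = W := by
    rw [Scheme.Hom.image_preimage_eq_opensRange_inf, Scheme.Opens.opensRange_ι]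
    exact inf_eq_right.2 hW
  have key' : ∀ s : M.presheaf.obj (op (W₀.ι ''ᵁ (W₀.ι ⁻¹ᵁ W))), s = 0 := key
  rw [hWeq] at key'
  exact ⟨fun a b => (key' a).trans (key' b).symm⟩

theorem exists_split (U V : X.Opens) [QuasiCompact U.ι]
    (F : X.Modules) (hF : Coh.IsQCoh F) (h : IsZero ((Scheme.Modules.restrictFunctor (U ⊓ V).ι).obj F)) :
    ∃ (A : X.Modules) (i : A ⟶ F), Mono i ∧ Coh.IsQCoh A ∧
      IsZero ((Scheme.Modules.restrictFunctor U.ι).obj A) ∧
      IsZero ((Scheme.Modules.restrictFunctor V.ι).obj (cokernel i)) := by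
  haveI : F.IsQuasicoherent := hF
  let adj := Scheme.Modules.restrictAdjunction U.ι
  let T : X.Modules := (Scheme.Modules.pushforward U.ι).obj ((Scheme.Modules.restrictFunctor U.ι).obj F)
  let η : F ⟶ T := adj.unit.app F
  haveI : T.IsQuasicoherent :=
    Groth.Agent.Lib.Helper23.QCohLocal.isQuasicoherent_pushforward U.ι (F.restrict U.ι)
  refine ⟨kernel η, kernel.ι η, inferInstance,
    Groth.Agent.Lib.Helper23.QCohLocal.isQuasicoherent_kernel η, ?_, ?_⟩
  · -- restriction to `U` is exact and `R η` is a split monomorphism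
    let R := Scheme.Modules.restrictFunctor U.ι
    haveI : R.IsRightAdjoint := Groth.Agent.Lib.Helper23.QCohLocal.restrictFunctor_isRightAdjoint U.ι
    haveI : IsSplitMono (R.map η) := ⟨⟨⟨_, adj.left_triangle_components F⟩⟩⟩
    have h1 : R.map (kernel.ι η) ≫ R.map η = 0 := by
      rw [← R.map_comp, kernel.condition, R.map_zero]
    have h2 : R.map (kernel.ι η) = 0 := by
      rw [← cancel_mono (R.map η), h1, zero_comp]
    haveI : Mono (R.map (kernel.ι η)) := inferInstance
    exact (IsZero.iff_id_eq_zero _).2 (by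
      rw [← cancel_mono (R.map (kernel.ι η)), h2, comp_zero, comp_zero])
  · let RV := Scheme.Modules.restrictFunctor V.ι
    haveI : RV.IsRightAdjoint := Groth.Agent.Lib.Helper23.QCohLocal.restrictFunctor_isRightAdjoint V.ι
    -- `F / A ↪ T`
    let m : cokernel (kernel.ι η) ⟶ T := Abelian.factorThruCoimage η
    haveI : Mono m := inferInstanceAs (Mono (Abelian.factorThruCoimage η))
    haveI : Mono (RV.map m) := inferInstance
    have hT : IsZero (RV.obj T) := by
      apply isZero_of_subsingleton_sections
      intro W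
      have : Subsingleton (F.presheaf.obj (op (U.ι ''ᵁ (U.ι ⁻¹ᵁ (V.ι ''ᵁ W))))) := by
        apply subsingleton_sections_of_isZero_restrict F (U ⊓ V) h
        refine le_inf ?_ ?_
        · exact (U.ι.image_le_opensRange _).trans (by rw [Scheme.Opens.opensRange_ι])
        · rw [Scheme.Hom.image_preimage_eq_opensRange_inf]
          exact inf_le_right.trans ((V.ι.image_le_opensRange _).trans
            (by rw [Scheme.Opens.opensRange_ι]))
      exact this
    exact IsZero.of_mono (RV.map m) hT

end Groth.Agent.Lib.T2H5.SuppSplit
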