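import Mathlib
import Groth.Agent.Lib.T2H4LocCohQC
import Groth.Agent.Lib.Helper23AffOpen3
import Groth.Agent.Lib.Helper23PushBound
import Groth.Agent.Lib.T2H5RestrOpen
import Groth.Agent.Lib.Helper23ModAbBridge
import Groth.Agent.Lib.T2H5SuppSplit

/-!
# Vanishing of local cohomology sheaves above the number of equations (helper4)

Namespace `Groth.Agent.Lib.T2H4.LocCohVanish`.

If the closed complement `T` of an open `U` of a scheme `X` is, locally on `X`, the zero locus of at most `c` functions, then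
`ℋ^i_T(F) = 0` for `i > c` and `F` quasi-coherent.  For `i = k + 2`, `ℋ^i_T(F) ≅ R^{k+1} j_*(F|_U)` (`T2H4LocCohQC`), which
vanishes since over small affine opens `A`, `U ∩ A` is covered by `c` basic opens of `A`.
-/

set_option autoImplicit false
set_option linter.style.haveILetI false
set_option linter.unusedSectionVars false
universe u
open CategoryTheory CategoryTheory.Limits AlgebraicGeometry TopologicalSpace Opposite

namespace Groth.Agent.Lib.T2H4.LocCohVanish

open Groth.Agent.Lib.Helper23.AffVanish Groth.Agent.Lib.Helper23.QCohLocal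
open Groth.Agent.Lib.T2H4.LocCohQC

variable {X : Scheme.{u}}

/-- variant of `subsingleton_HE_of_list` for a class `P` of affine opens stable under intersection -/
theorem subsingleton_HE_of_list' (P : X.Opens → Prop) (hP : ∀ V, P V → IsAffineOpen V)
    (hPinf : ∀ V W, P V → P W → P (V ⊓ W)) (F : X.Modules) [F.IsQuasicoherent] :
    ∀ (l : List X.Opens), (∀ V ∈ l, P V) → ∀ n : ℕ, l.length ≤ n →
      Subsingleton (HE (ab' F) n (supList l)) := by
  suffices H : ∀ (k : ℕ) (l : List X.Opens), l.length = k → (∀ V ∈ l, P V) → ∀ n : ℕ, k ≤ n →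
      Subsingleton (HE (ab' F) n (supList l)) from fun l hl n hn => H l.length l rfl hl n hn
  intro k
  induction k with
  | zero =>
    intro l hk _ n _
    have : l = [] := List.length_eq_zero_iff.1 hk
    subst this
    exact ⟨fun a b => (HE_eq_zero_of_eq_bot _ n rfl a).trans (HE_eq_zero_of_eq_bot _ n rfl b).symm⟩
  | succ k ih =>
    intro l hk hl n hn
    obtain ⟨V, l, rfl⟩ : ∃ V l', l = V :: l' := by
      cases l with
      | nil => simp at hk
      | cons V l' => exact ⟨V, l', rfl⟩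
    have hk' : l.length = k := by simpa using hk
    have hV : P V := hl V List.mem_cons_self
    have hl' : ∀ W ∈ l, P W := fun W hW => hl W (List.mem_cons_of_mem _ hW)
    obtain ⟨m, rfl⟩ : ∃ m, n = m + 1 := ⟨n - 1, by omega⟩
    have hm : k ≤ m := by omega
    haveI h1 : Subsingleton (HE (ab' F) (m + 1) V) := subsingleton_HE_of_isAffineOpen (hP V hV) F m
    haveI h2 : Subsingleton (HE (ab' F) (m + 1) (supList l)) := ih l hk' hl' (m + 1) (by omega)
    have h3 : Subsingleton (HE (ab' F) m (V ⊓ supList l)) := by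
      rw [inf_supList]
      apply ih (l.map (V ⊓ ·)) (by simpa using hk')
      · intro W hW
        obtain ⟨W', hW', rfl⟩ := List.mem_map.1 hW
        exact hPinf V W' hV (hl' W' hW')
      · exact hm
    refine ⟨fun a b => ?_⟩
    have key : ∀ α : HE (ab' F) (m + 1) (supList (V :: l)), α = 0 := by
      intro α
      exact eq_zero_of_mv (ab' F) m V (supList l) (supList (V :: l)) le_sup_left le_sup_right le_rfl α
        (Subsingleton.elim _ _) (Subsingleton.elim _ _)
        (fun γ => ⟨0, 0, @Subsingleton.elim _ h3 _ _⟩)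
    exact (key a).trans (key b).symm

theorem mem_supList_iff (l : List X.Opens) (y : X) : y ∈ supList l ↔ ∃ V ∈ l, y ∈ V := by
  induction l with
  | nil => simp
  | cons W l ih =>
    rw [supList_cons]
    constructor
    · rintro (h | h)
      · exact ⟨W, List.mem_cons_self, h⟩
      · obtain ⟨V, hV, hy⟩ := ih.1 h
        exact ⟨V, List.mem_cons_of_mem _ hV, hy⟩
    · rintro ⟨V, hV, hy⟩
      rcases List.mem_cons.1 hV with rfl | hV'
      · exact Or.inl hy
      · exact Or.inr (ih.2 ⟨V, hV', hy⟩)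

variable (U : X.Opens)

/-- over an affine open `A` inside `V`, `U ∩ A` is the union of the basic opens of the restricted equations -/
theorem inf_eq_supList {V A : X.Opens} (hAV : A ≤ V) (fs : Finset Γ(X, V))
    (h : X.zeroLocus (U := V) (↑fs : Set Γ(X, V)) ∩ (V : Set X) = (U : Set X)ᶜ ∩ (V : Set X)) :
    U ⊓ A = supList (fs.toList.map (fun f => X.basicOpen ((X.presheaf.map (homOfLE hAV).op).hom f))) := by
  ext y
  change y ∈ U ⊓ A ↔ y ∈ supList _
  rw [mem_supList_iff]
  constructor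
  · rintro ⟨hyU, hyA⟩
    have hyV : y ∈ V := hAV hyA
    have h1 : y ∉ X.zeroLocus (U := V) (↑fs : Set Γ(X, V)) := by
      intro hz
      have : y ∈ (U : Set X)ᶜ ∩ (V : Set X) := by rw [← h]; exact ⟨hz, hyV⟩
      exact this.1 hyU
    rw [Scheme.mem_zeroLocus_iff] at h1
    push_neg at h1
    obtain ⟨f, hf, hyf⟩ := h1
    refine ⟨_, List.mem_map.2 ⟨f, Finset.mem_toList.2 hf, rfl⟩, ?_⟩
    rw [Scheme.basicOpen_res]
    exact ⟨hyA, hyf⟩
  · rintro ⟨W, hW, hyW⟩
    obtain ⟨f, hf, rfl⟩ := List.mem_map.1 hW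
    rw [Scheme.basicOpen_res] at hyW
    obtain ⟨hyA, hyf⟩ := hyW
    have hyV : y ∈ V := hAV hyA
    refine ⟨?_, hyA⟩
    by_contra hyU
    have : y ∈ X.zeroLocus (U := V) (↑fs : Set Γ(X, V)) ∩ (V : Set X) := by
      rw [h]; exact ⟨hyU, hyV⟩
    exact (X.mem_zeroLocus_iff _ _).1 this.1 f (Finset.mem_toList.1 hf) hyf

/-- cohomology of `U ∩ A` vanishes in degrees `≥ c` -/
theorem subsingleton_HE_inf {V A : X.Opens} (hAV : A ≤ V) (hA : IsAffineOpen A) (fs : Finset Γ(X, V))
    (h : X.zeroLocus (U := V) (↑fs : Set Γ(X, V)) ∩ (V : Set X) = (U : Set X)ᶜ ∩ (V : Set X))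
    (F : X.Modules) [F.IsQuasicoherent] (n : ℕ) (hn : fs.card ≤ n) :
    Subsingleton (HE (ab' F) n (U ⊓ A)) := by
  rw [inf_eq_supList U hAV fs h]
  refine subsingleton_HE_of_list' (fun W => ∃ g : Γ(X, A), W = X.basicOpen g) ?_ ?_ F _ ?_ n ?_
  · rintro W ⟨g, rfl⟩
    exact hA.basicOpen g
  · rintro W W' ⟨g, rfl⟩ ⟨g', rfl⟩
    exact ⟨g * g', (X.basicOpen_mul g g').symm⟩
  · intro W hW
    obtain ⟨f, _, rfl⟩ := List.mem_map.1 hW
    exact ⟨_, rfl⟩
  · simpa using hn

section Main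

open Groth.Agent.Lib.Helper16.ClosedEmb

variable (c : ℕ)

/-- the basis of small affine opens -/
def BB : Set (Opens X) := {A | IsAffineOpen A ∧ ∃ (V : X.Opens) (fs : Finset Γ(X, V)), A ≤ V ∧ fs.card ≤ c ∧
  X.zeroLocus (U := V) (↑fs : Set Γ(X, V)) ∩ (V : Set X) = (U : Set X)ᶜ ∩ (V : Set X)}

variable (hT : ∀ x : X, ∃ (V : X.Opens) (fs : Finset Γ(X, V)), x ∈ V ∧ fs.card ≤ c ∧
      X.zeroLocus (U := V) (↑fs : Set Γ(X, V)) ∩ (V : Set X) = (U : Set X)ᶜ ∩ (V : Set X))

include hT in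
theorem isBasis_BB : Opens.IsBasis (BB U c) := by
  rw [Opens.isBasis_iff_nbhd]
  intro W x hx
  obtain ⟨V, fs, hxV, hc, h⟩ := hT x
  obtain ⟨_, ⟨A, hA, rfl⟩, hxA, hle⟩ := X.isBasis_affineOpens.exists_subset_of_mem_open
    (show x ∈ W ⊓ V from ⟨hx, hxV⟩) (W ⊓ V).isOpen
  exact ⟨A, ⟨hA, V, fs, fun y hy => (hle hy).2, hc, h⟩, hxA, fun y hy => (hle hy).1⟩

theorem img_map (A : X.Opens) : img (X := X.carrier) U ((Opens.map U.ι.base).obj A) = U ⊓ A := by
  ext y
  constructor
  · rintro ⟨x, hx, rfl⟩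
    exact ⟨x.2, hx⟩
  · rintro ⟨hyU, hyA⟩
    exact ⟨⟨y, hyU⟩, hyA, rfl⟩

variable (F : X.Modules) [F.IsQuasicoherent]

include hT in
theorem isZero_Rpush_restrict [HasInjectiveResolutions (U : Scheme.{u}).Modules] (k : ℕ) (hk : c ≤ k + 1) :
    IsZero ((Coh.Rpush U.ι (k + 1)).obj ((Scheme.Modules.restrictFunctor U.ι).obj F)) := by
  apply Groth.Agent.Lib.T2H5.RpushClosed.isZero_of_isZero_toAb
  obtain ⟨e⟩ := Groth.Agent.Lib.Helper23.ModAbBridge.nonempty_toAb_Rpush_iso U.ι
    ((Scheme.Modules.restrictFunctor U.ι).obj F) (k + 1)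
  refine IsZero.of_iso ?_ e
  refine Groth.Agent.Lib.Helper23.PushBound.isZero_Rpush_of_basis_bound U.ι.base (BB U c)
    (isBasis_BB U c hT) _ (c - 1) ?_ k (by omega)
  intro A hA i hi
  obtain ⟨hAaff, V, fs, hAV, hc, h⟩ := hA
  have hb := Groth.Agent.Lib.T2H5.RestrOpen.eW_bijective (X := X.carrier) U (Coh.toAb F) (i + 1)
    ((Opens.map U.ι.base).obj A)
  haveI : Subsingleton (HE (Coh.toAb F) (i + 1)
      (img (X := X.carrier) U ((Opens.map U.ι.base).obj A))) := by
    rw [img_map]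
    exact subsingleton_HE_inf U hAV hAaff fs h F (i + 1) (by omega)
  exact hb.2.subsingleton

/-- if `c = 0` then `U` is empty -/
theorem eq_bot_of_zero (hT0 : ∀ x : X, ∃ (V : X.Opens) (fs : Finset Γ(X, V)), x ∈ V ∧ fs.card ≤ 0 ∧
      X.zeroLocus (U := V) (↑fs : Set Γ(X, V)) ∩ (V : Set X) = (U : Set X)ᶜ ∩ (V : Set X)) : U = ⊥ := by
  ext x
  simp only [Opens.coe_bot, Set.mem_empty_iff_false, iff_false]
  intro hxU
  obtain ⟨V, fs, hxV, hc, h⟩ := hT0 x
  have hfs : fs = ∅ := Finset.card_eq_zero.1 (Nat.le_zero.1 hc)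
  subst hfs
  have h1 : x ∈ X.zeroLocus (U := V) (↑(∅ : Finset Γ(X, V)) : Set Γ(X, V)) ∩ (V : Set X) := by
    refine ⟨?_, hxV⟩
    rw [Scheme.mem_zeroLocus_iff]
    intro f hf
    simp at hf
  rw [h] at h1
  exact h1.1 hxU

theorem isZero_TT_of_eq_bot (hU : U = ⊥) : IsZero ((TT U.ι).obj F) := by
  apply Groth.Agent.Lib.T2H5.SuppSplit.isZero_of_subsingleton_sections
  intro W
  have hW : U.ι ''ᵁ (U.ι ⁻¹ᵁ W) = ⊥ := by
    rw [Scheme.Hom.image_preimage_eq_opensRange_inf, Scheme.Opens.opensRange_ι, hU]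
    exact bot_inf_eq _
  have ht : IsTerminal (F.presheaf.obj (op (U.ι ''ᵁ (U.ι ⁻¹ᵁ W)))) :=
    TopCat.Sheaf.isTerminalOfEqEmpty ⟨F.presheaf, F.isSheaf⟩ hW
  have hz : IsZero (F.presheaf.obj (op (U.ι ''ᵁ (U.ι ⁻¹ᵁ W)))) := IsZero.of_iso (isZero_zero _)
    (ht.uniqueUpToIso (isZero_zero Ab).isTerminal)
  exact AddCommGrpCat.subsingleton_of_isZero hz

include hT in
/-- **vanishing of local cohomology sheaves above the number of equations** -/
theorem isZero_gammaZ_rightDerived [HasInjectiveResolutions X.Modules] (i : ℕ) (hi : c < i) :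
    IsZero (((DCoh.gammaZ U.ι).rightDerived i).obj F) := by
  haveI := Groth.Agent.Lib.T2H5.RpushClosed.enoughInjectives_modules (U : Scheme.{u})
  haveI : HasInjectiveResolutions (U : Scheme.{u}).Modules := inferInstance
  match i, hi with
  | 0, hi => exact absurd hi (Nat.not_lt_zero _)
  | 1, hi =>
    have hc : c = 0 := by omega
    subst hc
    have hU : U = ⊥ := eq_bot_of_zero U hT
    have h1 : IsZero (cokernel ((β U.ι).app F)) :=
      IsZero.of_epi (cokernel.π ((β U.ι).app F)) (isZero_TT_of_eq_bot U F hU)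
    exact IsZero.of_iso h1 (((isoOne U.ι).app F).symm ≪≫ cokernelObjIso U.ι F)
  | k + 2, hi =>
    exact IsZero.of_iso (isZero_Rpush_restrict U c hT F k (by omega)) (isoSuccSucc U.ι k F)

end Main

end Groth.Agent.Lib.T2H4.LocCohVanish
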