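import Mathlib.RingTheory.LocalRing.Module
import Mathlib.RingTheory.LocalProperties.Projective
import Mathlib.Algebra.Module.FinitePresentation
import Mathlib.RingTheory.Localization.AtPrime.Basic

/-! Local criterion: a finitely presented module `C` with `C ⊗ I → C` injective for all maximal
ideals `I` is projective. -/

set_option autoImplicit false
universe u v

namespace Groth.Agent.Lib.T2H4.LocCrit

open TensorProduct

section

variable {A : Type u} [CommRing A] (I : Ideal A) [I.IsPrime] (C : Type v) [AddCommGroup C]
  [Module A C]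

/-- `I → 𝔪_S`. -/
noncomputable def jmap : I →ₗ[A] IsLocalRing.maximalIdeal (Localization.AtPrime I) where
  toFun a := ⟨algebraMap A (Localization.AtPrime I) a,
    (IsLocalization.AtPrime.to_map_mem_maximal_iff (Localization.AtPrime I) I a).mpr a.2⟩
  map_add' a b := Subtype.ext (by simp)
  map_smul' r a := Subtype.ext (by simp [Algebra.smul_def])

/-- the natural map `C ⊗[A] I → 𝔪_S ⊗[S] C_I` -/
noncomputable def theta : C ⊗[A] I →ₗ[A]
    (IsLocalRing.maximalIdeal (Localization.AtPrime I)) ⊗[Localization.AtPrime I]
      (LocalizedModule I.primeCompl C) :=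
  (mapOfCompatibleSMul (Localization.AtPrime I) A A
      (IsLocalRing.maximalIdeal (Localization.AtPrime I)) (LocalizedModule I.primeCompl C)) ∘ₗ
    (TensorProduct.map (jmap I) (LocalizedModule.mkLinearMap I.primeCompl C)) ∘ₗ
    (TensorProduct.comm A C I).toLinearMap

theorem theta_tmul (c : C) (a : I) :
    theta I C (c ⊗ₜ a) = (jmap I a) ⊗ₜ (LocalizedModule.mkLinearMap I.primeCompl C c) := rfl


theorem exists_smul_eq_theta
    (z : (IsLocalRing.maximalIdeal (Localization.AtPrime I)) ⊗[Localization.AtPrime I]
      (LocalizedModule I.primeCompl C)) :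
    ∃ (s : I.primeCompl) (w : C ⊗[A] I), (s : A) • z = theta I C w := by
  induction z using TensorProduct.induction_on with
  | zero => exact ⟨1, 0, by simp⟩
  | tmul x y =>
    obtain ⟨x, hx⟩ := x
    obtain ⟨a, s, rfl⟩ := IsLocalization.exists_mk'_eq I.primeCompl x
    have ha : a ∈ I :=
      (IsLocalization.AtPrime.mk'_mem_maximal_iff (Localization.AtPrime I) I a s).mp hx
    induction y using LocalizedModule.induction_on with
    | h c t =>
      refine ⟨s * t, c ⊗ₜ ⟨a, ha⟩, ?_⟩
      rw [theta_tmul, Submonoid.coe_mul, mul_comm, mul_smul, TensorProduct.smul_tmul',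
        ← TensorProduct.tmul_smul]
      congr 1
      · apply Subtype.ext
        show (s : A) • IsLocalization.mk' (Localization.AtPrime I) a s = algebraMap A _ a
        rw [IsLocalization.smul_mk'_self]
      · rw [LocalizedModule.smul'_mk, LocalizedModule.mkLinearMap_apply]
        exact LocalizedModule.mk_cancel t c
  | add z₁ z₂ h₁ h₂ =>
    obtain ⟨s₁, w₁, e₁⟩ := h₁
    obtain ⟨s₂, w₂, e₂⟩ := h₂
    refine ⟨s₁ * s₂, (s₂ : A) • w₁ + (s₁ : A) • w₂, ?_⟩
    rw [map_add, map_smul, map_smul, ← e₁, ← e₂, smul_add, Submonoid.coe_mul, mul_smul, mul_smul,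
      smul_comm (s₁ : A) (s₂ : A) z₁]


/-- multiplication `𝔪_S ⊗[S] C_I → C_I` -/
noncomputable def mu : (IsLocalRing.maximalIdeal (Localization.AtPrime I)) ⊗[Localization.AtPrime I]
      (LocalizedModule I.primeCompl C) →ₗ[Localization.AtPrime I] LocalizedModule I.primeCompl C :=
  (TensorProduct.lid (Localization.AtPrime I) (LocalizedModule I.primeCompl C)).toLinearMap ∘ₗ
    ((IsLocalRing.maximalIdeal (Localization.AtPrime I)).subtype.rTensor
      (LocalizedModule I.primeCompl C))

/-- multiplication `C ⊗[A] I → C` -/
noncomputable def nu : C ⊗[A] I →ₗ[A] C :=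
  (TensorProduct.rid A C).toLinearMap ∘ₗ (I.subtype.lTensor C)

theorem mu_theta (w : C ⊗[A] I) :
    mu I C (theta I C w) = LocalizedModule.mkLinearMap I.primeCompl C (nu I C w) := by
  induction w using TensorProduct.induction_on with
  | zero => simp
  | tmul c a =>
    rw [theta_tmul]
    simp only [mu, nu, jmap, LinearMap.coe_comp, LinearEquiv.coe_coe, Function.comp_apply,
      LinearMap.rTensor_tmul, Submodule.subtype_apply, TensorProduct.lid_tmul,
      LinearMap.lTensor_tmul, TensorProduct.rid_tmul, LinearMap.coe_mk, AddHom.coe_mk,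
      algebraMap_smul, map_smul]
  | add x y hx hy => rw [map_add, map_add, hx, hy, map_add, map_add]

theorem rTensor_injective
    (h : Function.Injective (I.subtype.lTensor C)) :
    Function.Injective ((IsLocalRing.maximalIdeal (Localization.AtPrime I)).subtype.rTensor
      (LocalizedModule I.primeCompl C)) := by
  have hnu : Function.Injective (nu I C) := (TensorProduct.rid A C).injective.comp h
  have hmu : Function.Injective (mu I C) := by
    rw [injective_iff_map_eq_zero]
    intro z hz
    obtain ⟨s, w, hsw⟩ := exists_smul_eq_theta I C z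
    have h1 : LocalizedModule.mkLinearMap I.primeCompl C (nu I C w) = 0 := by
      rw [← mu_theta, ← hsw, ← algebraMap_smul (Localization.AtPrime I) (s : A) z, map_smul, hz,
        smul_zero]
    obtain ⟨t, ht⟩ := (IsLocalizedModule.eq_zero_iff I.primeCompl
      (LocalizedModule.mkLinearMap I.primeCompl C)).mp h1
    have h2 : (t : A) • w = 0 := hnu (by rw [map_smul, map_zero]; exact ht)
    have h3 : ((t : A) * (s : A)) • z = 0 := by
      rw [mul_smul, hsw, ← map_smul, h2, map_zero]
    rw [← algebraMap_smul (Localization.AtPrime I) ((t : A) * (s : A)) z] at h3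
    have hu : IsUnit (algebraMap A (Localization.AtPrime I) ((t : A) * (s : A))) :=
      IsLocalization.map_units (Localization.AtPrime I) (t * s)
    exact (hu.smul_eq_zero).mp h3
  exact Function.Injective.of_comp hmu

end

theorem projective_of_maximal {A : Type u} [CommRing A] (C : Type u) [AddCommGroup C] [Module A C]
    [Module.FinitePresentation A C]
    (h : ∀ (I : Ideal A) [I.IsMaximal], Function.Injective (I.subtype.lTensor C)) :
    Module.Projective A C := by
  apply Module.projective_of_localization_maximal
  intro I hI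
  have : Module.Free (Localization.AtPrime I) (LocalizedModule I.primeCompl C) :=
    Module.free_of_maximalIdeal_rTensor_injective (rTensor_injective I C (h I))
  infer_instance

end Groth.Agent.Lib.T2H4.LocCrit
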