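import Mathlib
import Groth.Prelude.Def_KSix
import Groth.Prelude.Def_PerfAux
import Groth.Prelude.Def_MoreMor
import Groth.Agent.Lib.Helper20LocFree
import Groth.Agent.Lib.Helper2TensorInv
import Groth.Agent.Lib.Helper23SecTw6
import Groth.Agent.Lib.T2H4AmpleFamRes

/-!
# The resolution property from an ample family (helper4)

Namespace `Groth.Agent.Lib.T2H4.ResProp`.

* `isFinLocFree_biproduct` etc.: closure properties of finite locally free modules (copied from helper1's
  `Helper1FLF1`, with a lighter import closure).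
* `isAmpleFamily_of_hasAmpleFamily`: `MoreMor.HasAmpleFamily X` gives a `KSix.IsAmpleFamily` indexed by the points.
* `hasResolutionProperty`: the resolution property.
-/

set_option autoImplicit false
set_option linter.style.haveILetI false
set_option linter.unusedSectionVars false
set_option linter.unusedVariables false
universe u
open CategoryTheory CategoryTheory.Limits AlgebraicGeometry MonoidalCategory Opposite TopologicalSpace

namespace Groth.Agent.Lib.T2H4.ResProp

attribute [local instance] Abelian.hasFiniteBiproducts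

open Groth.Agent.Lib.Helper20.LocFree

variable {X : Scheme.{u}}

/-- a module free over `U` is free over every smaller open -/
lemma nonempty_restrict_iso_freeMod_of_le (M : X.Modules) {U U' : X.Opens} (h : U' ≤ U) {n : ℕ}
    (e : M.restrict U.ι ≅ FlatMod.freeMod (↑U) n) :
    Nonempty (M.restrict U'.ι ≅ FlatMod.freeMod (↑U') n) := by
  let j : (U' : Scheme.{u}) ⟶ U := X.homOfLE h
  have hj : j ≫ U.ι = U'.ι := X.homOfLE_ι h
  exact ⟨(Scheme.Modules.restrictFunctorCongr hj.symm).app M ≪≫
    (Scheme.Modules.restrictFunctorComp j U.ι).app M ≪≫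
    (Scheme.Modules.restrictFunctor j).mapIso e ≪≫ restrictFreeMod j n⟩

lemma isFinLocFree_of_iso {M N : X.Modules} (e : M ≅ N) (h : FlatMod.IsFinLocFree M) :
    FlatMod.IsFinLocFree N := fun x => by
  obtain ⟨U, n, hx, ⟨i⟩⟩ := h x
  exact ⟨U, n, hx, ⟨(Scheme.Modules.restrictFunctor U.ι).mapIso e.symm ≪≫ i⟩⟩

/-- a finite coproduct of free modules is free -/
lemma nonempty_sigma_freeMod_iso {J : Type} [Finite J] (n : J → ℕ) :
    ∃ N : ℕ, Nonempty ((∐ fun j : J => FlatMod.freeMod X (n j)) ≅ FlatMod.freeMod X N) := by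
  have := Fintype.ofFinite J
  let e : (Σ j : J, Fin (n j)) ≃ Fin (Fintype.card (Σ j : J, Fin (n j))) := Fintype.equivFin _
  refine ⟨Fintype.card (Σ j : J, Fin (n j)), ⟨?_⟩⟩
  exact sigmaSigmaIso (fun j : J => Fin (n j)) (fun _ _ => Coh.structureModule X) ≪≫
    Sigma.whiskerEquiv (f := fun _ : (Σ j : J, Fin (n j)) => Coh.structureModule X)
      (g := fun _ : Fin (Fintype.card (Σ j : J, Fin (n j))) => Coh.structureModule X) e
      (fun _ => Iso.refl _)

/-- finitely many finite locally free modules are simultaneously free near a point -/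
lemma exists_common_open {J : Type} [Finite J] (f : J → X.Modules)
    (hf : ∀ j, FlatMod.IsFinLocFree (f j)) (x : X) :
    ∃ (U : X.Opens) (n : J → ℕ), x ∈ U ∧
      ∀ j, Nonempty ((f j).restrict U.ι ≅ FlatMod.freeMod (↑U) (n j)) := by
  choose U n hx e using fun j => hf j x
  refine ⟨⨅ j, U j, n, ?_,
    fun j => nonempty_restrict_iso_freeMod_of_le (f j) (iInf_le U j) (e j).some⟩
  have h : ((⨅ j, U j : X.Opens) : Set X) = ⋂ j, (U j : Set X) := Opens.coe_iInf U
  change x ∈ ((⨅ j, U j : X.Opens) : Set X)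
  rw [h]
  exact Set.mem_iInter.2 hx

/-- a finite biproduct of finite locally free modules is finite locally free -/
theorem isFinLocFree_biproduct {J : Type} [Finite J] (f : J → X.Modules)
    (hf : ∀ j, FlatMod.IsFinLocFree (f j)) : FlatMod.IsFinLocFree (⨁ f) := fun x => by
  obtain ⟨U, n, hx, e⟩ := exists_common_open f hf x
  obtain ⟨N, ⟨eN⟩⟩ := nonempty_sigma_freeMod_iso (X := U) n
  refine ⟨U, N, hx, ⟨?_⟩⟩
  exact (Scheme.Modules.restrictFunctor U.ι).mapBiproduct f ≪≫
    biproduct.mapIso (fun j => (e j).some) ≪≫ biproduct.isoCoproduct _ ≪≫ eN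

/-- invertible modules are finite locally free -/
theorem isFinLocFree_of_isInvertible {L : X.Modules} (h : PicF.IsInvertible L) :
    FlatMod.IsFinLocFree L := by
  intro x
  obtain ⟨U, hxU, ⟨e⟩⟩ := h x
  exact ⟨U, 1, hxU,
    ⟨e ≪≫ (coproductUniqueIso (fun _ : Fin 1 => Coh.structureModule (U : Scheme.{u}))).symm⟩⟩

/-- objects of `L(X)` are finite locally free -/
theorem isFinLocFree_of_inAddL {ι : Type u} (L : ι → X.Modules) (E : X.Modules) (hE : KSix.InAddL L E) :
    FlatMod.IsFinLocFree E := by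
  obtain ⟨k, N, hN, ⟨e⟩⟩ := hE
  refine isFinLocFree_of_iso e.symm (isFinLocFree_biproduct N (fun j => ?_))
  obtain ⟨i, m, hm, ⟨ε⟩⟩ := hN j
  exact isFinLocFree_of_isInvertible
    (Groth.Agent.Lib.Helper2.TensorInv.isInvertible_of_tensor_iso (N j) _ ε)

open Groth.Agent.Lib.Helper23.SecTw in
/-- `MoreMor.HasAmpleFamily X` gives a `KSix.IsAmpleFamily` indexed by the points of `X`. -/
theorem exists_isAmpleFamily (hX : MoreMor.HasAmpleFamily X) :
    ∃ L : X → X.Modules, KSix.IsAmpleFamily L := by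
  obtain ⟨hc, h⟩ := hX
  have h' : ∀ x : X, ∃ (L : X.Modules) (m : ℕ) (s : Coh.structureModule X ⟶ CohB1.tensorPow L (m + 1)),
      PicF.IsInvertible L ∧ x ∈ CohB1.genLocus (CohB1.tensorPow L (m + 1)) s ∧
        IsAffineOpen (CohB1.genLocus (CohB1.tensorPow L (m + 1)) s) := by
    intro x
    obtain ⟨L, n, s, hL, hn, hx, haff⟩ := h x
    obtain ⟨m, rfl⟩ : ∃ m, n = m + 1 := ⟨n - 1, by omega⟩
    exact ⟨L, m, s, hL, hx, haff⟩
  choose L m s hL hx haff using h'
  have hqs : QuasiSeparatedSpace X := by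
    refine Scheme.quasiSeparatedSpace_of_isOpenCover (fun x : X => CohB1.genLocus _ (s x)) ?_ haff
      (fun x y => ?_)
    · rw [IsOpenCover, eq_top_iff]
      intro x _
      exact Opens.mem_iSup.2 ⟨x, hx x⟩
    · exact (isAffineOpen_inf_genLocus _ (isInvertible_tensorPow (hL y) _) (s y) _ (haff x)).isCompact
  exact ⟨L, hc, hqs, hL, fun x => ⟨x, m x, s x, hx x, haff x⟩⟩

theorem hasResolutionProperty (hX : MoreMor.HasAmpleFamily X) : PerfAux.HasResolutionProperty X := by
  obtain ⟨L, hL⟩ := exists_isAmpleFamily hX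
  intro M hM hft
  haveI : M.IsQuasicoherent := hM
  haveI : SheafOfModules.IsFiniteType (R := X.ringCatSheaf) M := hft
  obtain ⟨E, π, hE, hπ⟩ := Groth.Agent.Lib.T2H4.AmpleFamRes.exists_epi L hL M
  exact ⟨E, π, isFinLocFree_of_inAddL L E hE, hπ⟩

end Groth.Agent.Lib.T2H4.ResProp
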