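import Mathlib
import Groth.Agent.Lib.T2H4LocFactAmple
import Groth.Agent.Lib.T2H4RegUFD
import Groth.Agent.Lib.T2H4ResProp
set_option backward.isDefEq.respectTransparency.types false

/-!
# T2H4LocFactAmpleB: Noetherian locally factorial (in particular regular) schemes with affine diagonal have an ample
family of invertible modules, hence the resolution property (helper4)

Namespace `Groth.Agent.Lib.T2H4.LocFactAmpleB`.
-/

set_option autoImplicit false
set_option linter.style.haveILetI false
set_option linter.unusedSectionVars false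
universe u
open CategoryTheory CategoryTheory.Limits AlgebraicGeometry TopologicalSpace Opposite

namespace Groth.Agent.Lib.T2H4.LocFactAmpleB

open Groth.Agent.Lib.T2H4.CodimOne Groth.Agent.Lib.T2H4.LocFactAmple

variable {X : Scheme.{u}}

/-- **A Noetherian locally factorial scheme with affine diagonal has an ample family of invertible modules.** -/
theorem hasAmpleFamily' [IsNoetherian X]
    (hdiag : ∀ U V : X.Opens, IsAffineOpen U → IsAffineOpen V → IsAffineOpen (U ⊓ V))
    (hfact : ∀ x : X, IsDomain (X.presheaf.stalk x) ∧ UniqueFactorizationMonoid (X.presheaf.stalk x)) :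
    MoreMor.HasAmpleFamily X := by
  classical
  choose V hV hxV hVd using fun x : X => exists_dense_affine x
  obtain ⟨S, hS⟩ : ∃ S : Finset X, (Set.univ : Set X) ⊆ ⋃ x ∈ S, (V x : Set X) :=
    isCompact_univ.elim_finite_subcover (fun x => (V x : Set X)) (fun x => (V x).2)
      (fun x _ => Set.mem_iUnion.2 ⟨x, hxV x⟩)
  let pt : Fin S.card → X := fun i => (S.equivFin.symm i).1
  let D : Fin S.card → X.IdealSheafData := fun i =>
    Scheme.IdealSheafData.vanishingIdeal (V (pt i)).compl
  have hsupp : ∀ i, (D i).support = (V (pt i)).compl := fun i =>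
    Closeds.ext (Scheme.IdealSheafData.coe_support_vanishingIdeal (V (pt i)).compl)
  have hD : ∀ i, BlowUp.IsEffCartierIdeal (D i) := fun i =>
    isEffCartierIdeal_vanishingIdeal (V (pt i)) (hVd _) (fun W hW => hdiag W _ hW (hV _)) hfact
      (V (pt i)).compl rfl
  have hcap : ⋂ i, ((D i).support : Set X) = ∅ := by
    rw [Set.eq_empty_iff_forall_notMem]
    intro y hy
    obtain ⟨x₀, hx₀⟩ := Set.mem_iUnion.1 (hS (Set.mem_univ y))
    obtain ⟨hx₀S, hyx₀⟩ := Set.mem_iUnion.1 hx₀
    have h1 := Set.mem_iInter.1 hy (S.equivFin ⟨x₀, hx₀S⟩)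
    rw [hsupp] at h1
    apply h1
    change y ∈ V ((S.equivFin.symm (S.equivFin ⟨x₀, hx₀S⟩)).1)
    rw [Equiv.symm_apply_apply]
    exact hyx₀
  have hcompl : ∀ i, (D i).support.compl = V (pt i) := by
    intro i
    rw [hsupp i, Opens.compl_compl]
  have hamp : ∀ i, CohB1.IsAmple
      ((Coh.structureModule X).restrict (Scheme.Opens.ι (D i).support.compl)) := by
    intro i
    have haff : IsAffineOpen (D i).support.compl := by rw [hcompl i]; exact hV _
    haveI : IsAffine ((D i).support.compl : Scheme.{u}) := haff
    have h1 : CohB1.IsAmple (Coh.structureModule ((D i).support.compl : Scheme.{u})) :=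
      (Groth.Agent.Lib.Helper23.AmpleIso.isQuasiAffine_iff_isAmple_structureModule _).1 inferInstance
    exact Groth.Agent.Lib.Helper23.AmpleIso.isAmple_of_iso
      (Scheme.Modules.restrictUnitIso (Scheme.Opens.ι (D i).support.compl)).symm h1
  exact Groth.Agent.Lib.T2H4.AmpleCartier.hasAmpleFamily D hD hcap (fun _ => Coh.structureModule X)
    (fun _ => Groth.Agent.Lib.Helper23.TensorUnit.isInvertible_structureModule X) hamp


/-- a quasi-compact locally Noetherian regular scheme with affine diagonal has an ample family -/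
theorem hasAmpleFamily_of_regular [CompactSpace X] [IsLocallyNoetherian X]
    (hreg : ∀ x : X, IsRegularLocalRing (X.presheaf.stalk x))
    (hdiag : ∀ U V : X.Opens, IsAffineOpen U → IsAffineOpen V → IsAffineOpen (U ⊓ V)) :
    MoreMor.HasAmpleFamily X := by
  haveI : IsNoetherian X := {}
  refine hasAmpleFamily' hdiag (fun x => ?_)
  haveI := hreg x
  exact ⟨Groth.Agent.Lib.Helper5.isDomain_of_isRegularLocalRing _,
    Groth.Agent.Lib.T2H4.RegUFD.uniqueFactorizationMonoid_of_isRegularLocalRing _⟩

end Groth.Agent.Lib.T2H4.LocFactAmpleB
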