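import Mathlib
import Groth.Agent.Lib.T2H4InvLocus
set_option backward.isDefEq.respectTransparency.types false

/-!
# Trivial Picard groups of all opens force principal prime divisors (helper4)
-/

set_option autoImplicit false
set_option linter.style.haveILetI false
universe u
open CategoryTheory CategoryTheory.Limits AlgebraicGeometry TopologicalSpace

namespace Groth.Agent.Lib.T2H4.LocFactTFAE

open Groth.Agent.Lib.T2H4.RestrictStalk Groth.Agent.Lib.T2H4.RestrictOrd
  Groth.Agent.Lib.T2H4.HomShGlobal Groth.Agent.Lib.T2H4.ExtDdual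
  Groth.Agent.Lib.T2H4.Ref1Local Groth.Agent.Lib.T2H4.Ref1Alg Groth.Agent.Lib.T2H4.SecOrdAdd
  Groth.Agent.Lib.T2H4.Ref1Iso Groth.Agent.Lib.T2H4.InvRef1 Groth.Agent.Lib.T2H4.InvLocus
  Groth.Agent.Lib.Helper23.UnitStalk

section Restrict

variable {X : Scheme.{u}} [IsIntegral X] (U : X.Opens) [Nonempty U] [IsLocallyNoetherian X]

/-- orders of rational sections are compatible with restriction to an open subscheme on which the module is
invertible -/
theorem secOrdAt_restrict' (hX : Pi1.IsNormalScheme X) (L : X.Modules)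
    (hLU : PicF.IsInvertible (L.restrict U.ι)) (y : U)
    (hy : Order.coheight (α := (↑U : Scheme.{u})) y = 1)
    (h : genericPoint ↑U ⤳ y) (h' : genericPoint X ⤳ U.ι y)
    (s₀ : (L.restrict U.ι).presheaf.stalk (genericPoint ↑U)) (hs₀ : s₀ ≠ 0) :
    Cyc.secOrdAt (L.restrict U.ι) (genericPoint ↑U) y h
        (Submodule.Quotient.mk s₀ : Cyc.secFibre (L.restrict U.ι) (genericPoint ↑U)) =
      Cyc.secOrdAt L (genericPoint X) (U.ι y) h'
        (Submodule.Quotient.mk (gσ U L s₀) : Cyc.secFibre L (genericPoint X)) := by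
  obtain ⟨a, α, ha, hab, hs, hα0⟩ :=
    Groth.Agent.Lib.T2H4.SecOrdAddInv.exists_data (X := (↑U : Scheme.{u})) (L.restrict U.ι) hLU s₀ hs₀ y h
  have hsa : spec (X := (↑U : Scheme.{u})) (L.restrict U.ι) y h a ≠ 0 := ne_zero_of_bijective_smul _ hab
  rw [hs, secOrdAt_eq' (X := (↑U : Scheme.{u})) (L.restrict U.ι) y h a ha hsa α]
  set a' := (σ U L y).hom a with ha'def
  have ha' : Submodule.span (X.presheaf.stalk (U.ι y)) {a'} = ⊤ := by
    rw [eq_top_iff]
    intro m' _
    obtain ⟨m, rfl⟩ := (ConcreteCategory.bijective_of_isIso (σ U L y).hom).2 m'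
    have hm : m ∈ Submodule.span ((↑U : Scheme.{u}).presheaf.stalk y) {a} := by rw [ha]; trivial
    obtain ⟨r, rfl⟩ := Submodule.mem_span_singleton.1 hm
    rw [σ_smul]
    exact Submodule.smul_mem _ _ (Submodule.mem_span_singleton_self _)
  have hSig : gσ U L (α • spec (X := (↑U : Scheme.{u})) (L.restrict U.ι) y h a) =
      gτ U α • spec L (U.ι y) h' a' := by
    rw [gσ_smul]
    congr 1
    exact gσ_spec U L y h h' a
  have hsa' : spec L (U.ι y) h' a' ≠ 0 := by
    intro h0
    have h1 : gσ U L (spec (X := (↑U : Scheme.{u})) (L.restrict U.ι) y h a) = gσ U L 0 := by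
      rw [gσ_zero]
      exact (gσ_spec U L y h h' a).trans h0
    exact hsa ((gσ_bijective U L).1 h1)
  rw [hSig, secOrdAt_eq' L (U.ι y) h' a' ha' hsa' (gτ U α)]
  exact ordAt_restrict U hX y hy h h' α hα0

/-- orders of rational functions are compatible with restriction to an open subscheme -/
theorem ord_restrict (hX : Pi1.IsNormalScheme X) (y : U)
    (hy : Order.coheight (α := (↑U : Scheme.{u})) y = 1)
    (α : (↑U : Scheme.{u}).functionField) (hα : α ≠ 0) :
    Scheme.ord (gτ U α) (U.ι y) = Scheme.ord α y := by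
  have hU := isNormalScheme_restrict U hX
  have hy' : Order.coheight (U.ι y) = 1 := by rw [coheight_ι, hy]
  have h := genericPoint_specializes (α := (↑U : Scheme.{u})) y
  have h' := genericPoint_specializes (U.ι y)
  rw [ord_eq_ordAt hX (U.ι y) hy' h' (gτ U α) ((map_ne_zero_iff _ (gτ_bijective U).1).2 hα),
    ord_eq_ordAt (X := (↑U : Scheme.{u})) hU y hy h α hα]
  exact (ordAt_restrict U hX y hy h h' α hα).symm

end Restrict

variable {X : Scheme.{u}} [IsIntegral X] [IsLocallyNoetherian X]

/-- normal with trivial Picard groups of all opens ⟹ every Weil divisor is principal -/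
theorem exists_ratFun_of_four (hX : Pi1.IsNormalScheme X)
    (h4 : ∀ (U : X.Opens) (L : (U : Scheme.{u}).Modules),
      PicF.IsInvertible L → Nonempty (L ≅ Coh.structureModule (U : Scheme.{u})))
    (D : AlgebraicCycle X ℤ) (hD : ∀ x : X, Order.coheight x ≠ 1 → D x = 0) :
    ∃ f : X.functionField, f ≠ 0 ∧ ∀ y : X, Order.coheight y = 1 → Scheme.ord f y = D y := by
  obtain ⟨F, hF, s, hs, hord⟩ := Groth.Agent.Lib.T2H4.WeilDivSurj.main hX D hD
  obtain ⟨hFtf, hFrk⟩ := ref1_facts F hF
  haveI : F.IsQuasicoherent := hF.1.1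
  obtain ⟨s₁, rfl⟩ := Submodule.Quotient.mk_surjective _ s
  have hs₁ : s₁ ≠ 0 := by
    rintro rfl
    exact hs (Submodule.Quotient.mk_zero _)
  -- the invertible locus contains the generic point and all points of codimension one
  have hgen : genericPoint X ∈ invLocus F := by
    apply mem_invLocus_of_free F hF.1
    obtain ⟨e, he0, he⟩ := finrank_eq_one_iff'.1 hFrk
    refine ⟨e, fun r r' hrr => ?_, fun w => ?_⟩
    · have h1 : r • e = r' • e := hrr
      exact smul_left_injective _ he0 h1
    · obtain ⟨c, hc⟩ := he w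
      exact ⟨c, hc⟩
  have hcodim : ∀ x : X, Order.coheight x = 1 → x ∈ invLocus F := by
    intro x hx
    apply mem_invLocus_of_free F hF.1
    have h := genericPoint_specializes x
    obtain ⟨a, ha⟩ := exists_generator_stalk F hX hF.1 hFtf hFrk x hx h
    have ha0 : a ≠ 0 := by
      rintro rfl
      exact spec_generator_ne_zero F hFrk x h 0 ha (map_zero _)
    haveI := hFtf x
    haveI : IsDomain (X.presheaf.stalk x) := (hX x).1
    refine ⟨a, fun r r' hrr => ?_, fun w => ?_⟩
    · have h1 : r • a = r' • a := hrr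
      exact smul_left_injective _ ha0 h1
    · have hw : w ∈ Submodule.span (X.presheaf.stalk x) {a} := by rw [ha]; trivial
      obtain ⟨r, hr⟩ := Submodule.mem_span_singleton.1 hw
      exact ⟨r, hr⟩
  set U := invLocus F with hUdef
  haveI : Nonempty U := ⟨⟨genericPoint X, hgen⟩⟩
  have hU := isNormalScheme_restrict U hX
  have hLU : PicF.IsInvertible (F.restrict U.ι) := isInvertible_restrict_invLocus F hF.1
  obtain ⟨e⟩ := h4 U _ hLU
  have hLUref : RefHull.IsRef1 (F.restrict U.ι) :=
    isRef1_of_isInvertible (X := (↑U : Scheme.{u})) _ hLU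
  have hOref : RefHull.IsRef1 (Coh.structureModule (↑U : Scheme.{u})) :=
    isRef1_of_isInvertible (X := (↑U : Scheme.{u})) _
      (Groth.Agent.Lib.Helper23.TensorUnit.isInvertible_structureModule _)
  obtain ⟨s₀, hs₀eq⟩ := (gσ_bijective U F).2 s₁
  have hs₀ : s₀ ≠ 0 := by
    rintro rfl
    exact hs₁ (by rw [← hs₀eq, gσ_zero])
  obtain ⟨fU, hfU, hfUord⟩ := exists_ord_of_iso (X := (↑U : Scheme.{u})) hU (F.restrict U.ι)
    (Coh.structureModule (↑U : Scheme.{u})) hLUref hOref e s₀ hs₀
    (one (genericPoint (↑U : Scheme.{u}))) (one_ne_zero' _)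
  refine ⟨gτ U fU, (map_ne_zero_iff _ (gτ_bijective U).1).2 hfU, fun x hx => ?_⟩
  have hxU : x ∈ U := hcodim x hx
  set y : U := ⟨x, hxU⟩ with hy
  have hy1 : Order.coheight (α := (↑U : Scheme.{u})) y = 1 := by
    rw [← coheight_ι U y]
    exact hx
  have hxy : U.ι y = x := rfl
  have h1 := hfUord y hy1
  rw [secOrdAt_one (X := (↑U : Scheme.{u})) y, zero_add,
    secOrdAt_restrict' U hX F hLU y hy1 (genericPoint_specializes (α := (↑U : Scheme.{u})) y)
      (genericPoint_specializes (U.ι y)) s₀ hs₀, hs₀eq] at h1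
  have h2 := ord_restrict U hX y hy1 fU hfU
  rw [← hxy, h2, ← h1]
  exact (hord (U.ι y) hx (genericPoint_specializes (U.ι y))).symm

open Classical in
/-- the prime cycle of a point of codimension one -/
noncomputable def primeCycle (x₀ : X) : AlgebraicCycle X ℤ :=
  { toFun := fun x => if x = x₀ then 1 else 0
    supportWithinDomain' := fun _ _ => Set.mem_univ _
    supportLocallyFiniteWithinDomain' := fun z _ =>
      ⟨Set.univ, Filter.univ_mem, (Set.finite_singleton x₀).subset (by
        rintro x ⟨-, hx⟩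
        by_contra hne
        apply hx
        change (if x = x₀ then (1 : ℤ) else 0) = 0
        have hne' : ¬ x = x₀ := fun h => hne h
        rw [if_neg hne'])⟩ }

open Classical in
omit [IsIntegral X] [IsLocallyNoetherian X] in
theorem primeCycle_self (x₀ : X) : primeCycle x₀ x₀ = 1 := by
  change (if x₀ = x₀ then (1 : ℤ) else 0) = 1
  rw [if_pos rfl]

open Classical in
omit [IsIntegral X] [IsLocallyNoetherian X] in
theorem primeCycle_of_ne (x₀ x : X) (h : x ≠ x₀) : primeCycle x₀ x = 0 := by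
  change (if x = x₀ then (1 : ℤ) else 0) = 0
  rw [if_neg h]

/-- (4) ⟹ (2) -/
theorem two_of_four (hX : Pi1.IsNormalScheme X)
    (h4 : ∀ (U : X.Opens) (L : (U : Scheme.{u}).Modules),
      PicF.IsInvertible L → Nonempty (L ≅ Coh.structureModule (U : Scheme.{u}))) :
    Pi1.IsNormalScheme X ∧ ∀ x₀ : X, Order.coheight x₀ = 1 → ∃ f : X.functionField, f ≠ 0 ∧
      Scheme.ord f x₀ = 1 ∧ ∀ x : X, x ≠ x₀ → Order.coheight x = 1 → Scheme.ord f x = 0 := by
  refine ⟨hX, fun x₀ hx₀ => ?_⟩
  obtain ⟨f, hf, hford⟩ := exists_ratFun_of_four hX h4 (primeCycle x₀) (fun x hx => by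
    apply primeCycle_of_ne
    rintro rfl
    exact hx hx₀)
  refine ⟨f, hf, ?_, fun x hne hx => ?_⟩
  · rw [hford x₀ hx₀, primeCycle_self]
  · rw [hford x hx, primeCycle_of_ne x₀ x hne]

end Groth.Agent.Lib.T2H4.LocFactTFAE
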