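import Mathlib
import Groth.Agent.Lib.T2H4LocFactTFAE
set_option backward.isDefEq.respectTransparency.types false

/-!
# Principal prime divisors are cut out by global sections (helper4)
-/

set_option autoImplicit false
set_option linter.style.haveILetI false
universe u
open CategoryTheory CategoryTheory.Limits AlgebraicGeometry TopologicalSpace

namespace Groth.Agent.Lib.T2H4.LocFactTFAE

open Groth.Agent.Lib.T2H2.LocFactSch Groth.Agent.Lib.T2H4.Ref1Local Groth.Agent.Lib.T2H4.Ref1Alg
  Groth.Agent.Lib.T2H4.LocFactRat Groth.Agent.Lib.T2H4.PrimeCyc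

variable {X : Scheme.{u}} [IsIntegral X] [IsLocallyNoetherian X]

/-- a rational function with nonnegative orders at all points of codimension one lies in every local ring -/
theorem exists_stalk_of_ord_nonneg (hX : Pi1.IsNormalScheme X) (f : X.functionField) (hf : f ≠ 0)
    (hord : ∀ x : X, Order.coheight x = 1 → 0 ≤ Scheme.ord f x) (x : X) :
    ∃ a : X.presheaf.stalk x, algebraMap (X.presheaf.stalk x) X.functionField a = f := by
  have heff : CDiv.IsEffective (CDiv.div (Units.mk0 f hf)) := by
    rw [(Groth.Agent.S2876.result X hX (CDiv.div (Units.mk0 f hf))).1]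
    intro z hz g hg
    have hg' : CDiv.germOf X z (Units.mk0 f hf) = CDiv.germOf X z g := hg
    rw [ord_eq_of_germOf_eq hX z hz (Units.mk0 f hf) g hg']
    exact hord z hz
  obtain ⟨a, ha, hga⟩ := heff x
  have hga' : CDiv.germOf X x (Units.mk0 f hf) = CDiv.germOf X x (Units.mk0 _ ha) := hga
  rw [QuotientGroup.eq] at hga'
  obtain ⟨u, hu⟩ := hga'
  have hu' : algebraMap (X.presheaf.stalk x) X.functionField (u : X.presheaf.stalk x) =
      f⁻¹ * algebraMap (X.presheaf.stalk x) X.functionField a := by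
    have := congrArg Units.val hu
    simpa using this
  refine ⟨a * ((u⁻¹ : (X.presheaf.stalk x)ˣ) : X.presheaf.stalk x), ?_⟩
  have h1 : algebraMap (X.presheaf.stalk x) X.functionField a =
      f * algebraMap (X.presheaf.stalk x) X.functionField (u : X.presheaf.stalk x) := by
    rw [hu', ← mul_assoc, mul_inv_cancel₀ hf, one_mul]
  rw [map_mul, h1, mul_assoc, ← map_mul, Units.mul_inv, map_one, mul_one]

/-- a rational function with nonnegative orders at all points of codimension one is a global section -/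
theorem exists_global_of_ord_nonneg (hX : Pi1.IsNormalScheme X) (f : X.functionField) (hf : f ≠ 0)
    (hord : ∀ x : X, Order.coheight x = 1 → 0 ≤ Scheme.ord f x) :
    ∃ g : Γ(X, ⊤), ∀ x : X, algebraMap (X.presheaf.stalk x) X.functionField
      (X.presheaf.germ ⊤ x trivial g) = f := by
  have h1 : ∀ x : X, ∃ (W : X.Opens) (hW : x ∈ W) (s : Γ(X, W)),
      algebraMap (X.presheaf.stalk x) X.functionField (X.presheaf.germ W x hW s) = f := by
    intro x
    obtain ⟨a, ha⟩ := exists_stalk_of_ord_nonneg hX f hf hord x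
    obtain ⟨W, hW, s, rfl⟩ := X.presheaf.exists_germ_eq (x := x) a
    exact ⟨W, hW, s, ha⟩
  choose W hW s hs using h1
  have hgenW : ∀ x, genericPoint X ∈ W x := fun x =>
    (genericPoint_specializes x).mem_open (W x).isOpen (hW x)
  have hsgen : ∀ x, X.presheaf.germ (W x) (genericPoint X) (hgenW x) (s x) = f := fun x => by
    rw [← algebraMap_germ x (hW x) (s x)]
    exact hs x
  have hcompat : TopCat.Presheaf.IsCompatible X.presheaf W s := by
    intro x y
    have hmem : genericPoint X ∈ W x ⊓ W y := ⟨hgenW x, hgenW y⟩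
    apply germ_injective_of_isIntegral X (genericPoint X) hmem
    rw [TopCat.Presheaf.germ_res_apply, TopCat.Presheaf.germ_res_apply, hsgen x, hsgen y]
  obtain ⟨g, hg, -⟩ := X.sheaf.existsUnique_gluing' W ⊤ (fun x => homOfLE le_top)
    (fun x _ => Opens.mem_iSup.2 ⟨x, hW x⟩) s hcompat
  refine ⟨g, fun x => ?_⟩
  have e1 : X.presheaf.map (homOfLE (le_top : W x ≤ ⊤)).op g = s x := hg x
  rw [← hs x, ← e1, TopCat.Presheaf.germ_res_apply]

/-- (2) ⟹ (1) -/
theorem one_of_two (hX : Pi1.IsNormalScheme X)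
    (h2 : ∀ x₀ : X, Order.coheight x₀ = 1 → ∃ f : X.functionField, f ≠ 0 ∧
      Scheme.ord f x₀ = 1 ∧ ∀ x : X, x ≠ x₀ → Order.coheight x = 1 → Scheme.ord f x = 0) :
    ∀ ζ : X, Order.coheight ζ = 1 → ∃ g : Γ(X, ⊤),
      (∀ (x : X) (h : ζ ⤳ x),
        (IsLocalRing.maximalIdeal (X.presheaf.stalk ζ)).comap (X.presheaf.stalkSpecializes h).hom =
          Ideal.span {X.presheaf.germ ⊤ x trivial g}) ∧
      ∀ x : X, ¬ ζ ⤳ x → IsUnit (X.presheaf.germ ⊤ x trivial g) := by
  classical
  intro ζ hζ
  have hUFD := ufd_of_two hX h2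
  obtain ⟨f, hf, hf1, hf0⟩ := h2 ζ hζ
  have hordf : ∀ z : X, Order.coheight z = 1 → Scheme.ord f z = if z = ζ then 1 else 0 := by
    intro z hz
    split_ifs with hzζ
    · rw [hzζ]; exact hf1
    · exact hf0 z hzζ hz
  obtain ⟨g, hg⟩ := exists_global_of_ord_nonneg hX f hf (fun z hz => by
    rw [hordf z hz]
    split_ifs <;> norm_num)
  have hγ0 : ∀ x : X, X.presheaf.germ ⊤ x trivial g ≠ 0 := by
    intro x h0
    have := hg x
    rw [h0, map_zero] at this
    exact hf this.symm
  refine ⟨g, fun x h => ?_, fun x hns => ?_⟩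
  · set γ := X.presheaf.germ ⊤ x trivial g with hγ
    change primeOf h = Ideal.span {γ}
    obtain ⟨π, hπ, hπ0⟩ := exists_gen_primeOf hUFD hζ h
    have hmem : γ ∈ primeOf h := by
      change (X.presheaf.stalkSpecializes h).hom γ ∈ IsLocalRing.maximalIdeal _
      rw [IsLocalRing.mem_maximalIdeal, mem_nonunits_iff]
      intro hu
      haveI := isDVR hX ζ hζ
      have h1 := (isOrd_schemeOrd hX ζ hζ).unit _ hu
      rw [algebraMap_stalkSpecializes h γ, hg x, hf1] at h1
      exact one_ne_zero h1
    rw [hπ, Ideal.mem_span_singleton'] at hmem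
    obtain ⟨δ, hδ⟩ := hmem
    have hδ0 : δ ≠ 0 := by
      rintro rfl
      rw [zero_mul] at hδ
      exact hγ0 x hδ.symm
    have hδK : algebraMap (X.presheaf.stalk x) X.functionField δ ≠ 0 :=
      (map_ne_zero_iff _ (IsFractionRing.injective (X.presheaf.stalk x) X.functionField)).2 hδ0
    have hfeq : f = algebraMap (X.presheaf.stalk x) X.functionField δ *
        algebraMap (X.presheaf.stalk x) X.functionField π := by
      rw [← map_mul, hδ, hg x]
    have hδu : IsUnit δ := by
      apply isUnit_of_ord_eq_zero hX x δ hδ0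
      intro z hz hzx
      haveI := isDVR hX z hz
      have hmul := (isOrd_schemeOrd hX z hz).mul _ _ hδK hπ0
      rw [← hfeq, hordf z hz] at hmul
      by_cases hzζ : z = ζ
      · subst hzζ
        rw [if_pos rfl, ord_gen_self hX hz h π hπ] at hmul
        linarith
      · rw [if_neg hzζ, ord_gen_other hX hζ hz h hzx hzζ π hπ] at hmul
        linarith
    rw [hπ, ← hδ]
    obtain ⟨δu, rfl⟩ := hδu
    rw [mul_comm]
    exact (Ideal.span_singleton_mul_right_unit δu.isUnit π).symm
  · apply isUnit_of_ord_eq_zero hX x _ (hγ0 x)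
    intro z hz hzx
    rw [hg x, hordf z hz, if_neg]
    rintro rfl
    exact hns hzx

end Groth.Agent.Lib.T2H4.LocFactTFAE
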