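import Groth.Agent.Lib.T2H4DimFun1

set_option autoImplicit false
set_option linter.style.haveILetI false
set_option backward.isDefEq.respectTransparency.types false
universe u v
open CategoryTheory CategoryTheory.Limits
attribute [local instance] HasDerivedCategory.standard

namespace Groth.Agent.Lib.T2H4.LocGlob

open DerivedCategory Pretriangulated Groth.Agent.S14388 Groth.Agent.Lib.T2H4.LocalDual
  Groth.Agent.Lib.T2H4.DComp Groth.Agent.Lib.T2H4.TorIndep Groth.Agent.Lib.T2H4.LocKL
  Groth.Agent.Lib.T2H4.DimFun

section Maximal

variable {A : Type u} [CommRing A]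

/-- membership in a submodule can be checked up to units at every maximal ideal. -/
lemma mem_of_forall_maximal {E : Type v} [AddCommGroup E] [Module A E] (N : Submodule A E)
    (f : E) (h : ∀ (m : Ideal A) [m.IsMaximal], ∃ s : A, s ∉ m ∧ s • f ∈ N) : f ∈ N := by
  by_contra hne
  let I : Ideal A := N.comap (LinearMap.toSpanSingleton A E f)
  have hI : I ≠ ⊤ := by
    intro hI
    have h1 : (1 : A) ∈ I := hI ▸ Submodule.mem_top
    have h2 : (1 : A) • f ∈ N := by simpa [I] using h1
    rw [one_smul] at h2
    exact hne h2
  obtain ⟨m, hm, hIm⟩ := Ideal.exists_le_maximal I hI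
  obtain ⟨s, hs, hsf⟩ := h m
  exact hs (hIm (by simpa [I] using hsf))

lemma eq_zero_of_forall_maximal {E : Type v} [AddCommGroup E] [Module A E]
    (f : E) (h : ∀ (m : Ideal A) [m.IsMaximal], ∃ s : A, s ∉ m ∧ s • f = 0) : f = 0 := by
  have := mem_of_forall_maximal (⊥ : Submodule A E) f (fun m _ => by
    obtain ⟨s, hs, h0⟩ := h m
    exact ⟨s, hs, by rw [h0]; exact Submodule.zero_mem _⟩)
  simpa using this

end Maximal

section Main

variable {A : Type u} [CommRing A] [IsNoetherianRing A]

/-- **local-to-global principle for dualizing complexes** (maximal ideals). -/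
theorem isDualizing_of_forall_maximal (K : Dual.D A)
    (hbdd : ∃ a b : ℤ, ∀ i : ℤ, (i < a ∨ b < i) → Subsingleton (Dual.HD A K i))
    (hfin : ∀ i : ℤ, Module.Finite A (Dual.HD A K i))
    (hinj : ∃ a b : ℤ, ∀ (M : Type u) [AddCommGroup M] [Module A M] (i : ℤ),
      (i < a ∨ b < i) → Subsingleton (Dual.inD A M ⟶ K⟦i⟧))
    (hloc : ∀ (m : Ideal A) [m.IsMaximal],
      ∃ _ : DRing.HasLBaseChange (algebraMap A (Localization.AtPrime m)),
        Dual.IsDualizing (Localization.AtPrime m)
          ((DRing.LBaseChange (algebraMap A (Localization.AtPrime m))).obj K)) :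
    Dual.IsDualizing A K := by
  obtain ⟨c, d, hcd⟩ := hbdd
  have hK : ∀ i : ℤ, (i < c ∨ d < i) → IsZero ((homologyFunctor (ModuleCat.{u} A) i).obj K) :=
    fun i hi => by
      haveI := hcd i hi
      exact ModuleCat.isZero_of_subsingleton _
  haveI : K.IsGE c := (DerivedCategory.isGE_iff K c).2 (fun i hi => hK i (Or.inl hi))
  refine ⟨inferInstance, hinj, hfin, ⟨?_, ?_⟩, ?_⟩
  · -- injectivity
    intro x y hxy
    have h0 : (x - y) • 𝟙 K = 0 := by
      rw [sub_smul, sub_eq_zero]
      exact hxy
    suffices hz : x - y = 0 from sub_eq_zero.1 hz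
    generalize x - y = z at h0
    apply eq_zero_of_forall_maximal (A := A) (E := A) z
    intro m _
    obtain ⟨_, hT⟩ := hloc m
    have hΨ : ∀ g : (DRing.LBaseChange (algebraMap A (Localization.AtPrime m))).obj K ⟶
        (DRing.LBaseChange (algebraMap A (Localization.AtPrime m))).obj K,
        (lbcAdj (algebraMap A (Localization.AtPrime m))).homEquiv K _ g =
          ηB (Localization.AtPrime m) K ≫
            (DRing.restrictD (algebraMap A (Localization.AtPrime m))).map g := fun g =>
      (lbcAdj (algebraMap A (Localization.AtPrime m))).homEquiv_unit ..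
    have h1 : (lbcAdj (algebraMap A (Localization.AtPrime m))).homEquiv K _
        (algebraMap A (Localization.AtPrime m) z •
          𝟙 ((DRing.LBaseChange (algebraMap A (Localization.AtPrime m))).obj K)) =
        (lbcAdj (algebraMap A (Localization.AtPrime m))).homEquiv K _ 0 := by
      rw [hΨ, hΨ, restrictD_map_smul, CategoryTheory.Functor.map_id, Functor.map_zero, comp_zero,
        Linear.comp_smul, Category.comp_id]
      have h2 : z • ηB (Localization.AtPrime m) K = (z • 𝟙 K) ≫ ηB (Localization.AtPrime m) K := by
        rw [Linear.smul_comp, Category.id_comp]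
      rw [h2, h0, zero_comp]
    have h3 := ((lbcAdj (algebraMap A (Localization.AtPrime m))).homEquiv K _).injective h1
    have h4 : algebraMap A (Localization.AtPrime m) z = 0 := hT.toEnd_bijective.1 (by
      show algebraMap A (Localization.AtPrime m) z • 𝟙 _ = (0 : Localization.AtPrime m) • 𝟙 _
      rw [h3, zero_smul])
    obtain ⟨s, hs⟩ := (IsLocalization.map_eq_zero_iff m.primeCompl (Localization.AtPrime m) z).1 h4
    exact ⟨s, s.2, hs⟩
  · -- surjectivity
    intro f
    have hmem : f ∈ LinearMap.range (LinearMap.toSpanSingleton A (K ⟶ K) (𝟙 K)) := by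
      apply mem_of_forall_maximal (A := A)
      intro m _
      obtain ⟨_, hT⟩ := hloc m
      have hgood := good_unit m.primeCompl (Localization.AtPrime m) K K c c d hK hfin
      have e0 : K⟦(0 : ℤ)⟧ ≅ K := (shiftFunctorZero (Dual.D A) ℤ).app K
      have hInj : Inj m.primeCompl (ηB (Localization.AtPrime m) K) K := (hgood 0).1.of_iso e0
      have hΨ : ∀ g : (DRing.LBaseChange (algebraMap A (Localization.AtPrime m))).obj K ⟶
          (DRing.LBaseChange (algebraMap A (Localization.AtPrime m))).obj K,
          (lbcAdj (algebraMap A (Localization.AtPrime m))).homEquiv K _ g =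
            ηB (Localization.AtPrime m) K ≫
              (DRing.restrictD (algebraMap A (Localization.AtPrime m))).map g := fun g =>
        (lbcAdj (algebraMap A (Localization.AtPrime m))).homEquiv_unit ..
      have hΨs : ∀ (x : A)
          (g : (DRing.LBaseChange (algebraMap A (Localization.AtPrime m))).obj K ⟶
            (DRing.LBaseChange (algebraMap A (Localization.AtPrime m))).obj K),
          (lbcAdj (algebraMap A (Localization.AtPrime m))).homEquiv K _
            (algebraMap A (Localization.AtPrime m) x • g) =
            x • (lbcAdj (algebraMap A (Localization.AtPrime m))).homEquiv K _ g := by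
        intro x g
        rw [hΨ, hΨ, restrictD_map_smul, Linear.comp_smul]
      have hΨ1 : (lbcAdj (algebraMap A (Localization.AtPrime m))).homEquiv K _
          (𝟙 ((DRing.LBaseChange (algebraMap A (Localization.AtPrime m))).obj K)) =
          ηB (Localization.AtPrime m) K := by
        rw [hΨ, CategoryTheory.Functor.map_id]
        exact Category.comp_id _
      -- the image of `f`
      let g := ((lbcAdj (algebraMap A (Localization.AtPrime m))).homEquiv K _).symm
        (f ≫ ηB (Localization.AtPrime m) K)
      have hg : (lbcAdj (algebraMap A (Localization.AtPrime m))).homEquiv K _ g =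
          f ≫ ηB (Localization.AtPrime m) K := Equiv.apply_symm_apply _ _
      obtain ⟨b, hb⟩ := hT.toEnd_bijective.2 g
      obtain ⟨⟨y, s⟩, hys⟩ := IsLocalization.surj m.primeCompl b
      have h1 : algebraMap A (Localization.AtPrime m) s • g =
          algebraMap A (Localization.AtPrime m) y •
            𝟙 ((DRing.LBaseChange (algebraMap A (Localization.AtPrime m))).obj K) := by
        rw [← hb]
        show algebraMap A (Localization.AtPrime m) s • (b • 𝟙 _) = _
        rw [smul_smul, mul_comm, hys]
      have h2 := congrArg ((lbcAdj (algebraMap A (Localization.AtPrime m))).homEquiv K _) h1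
      rw [hΨs, hΨs, hΨ1, hg] at h2
      have h3 : ((s : A) • f - y • 𝟙 K) ≫ ηB (Localization.AtPrime m) K = 0 := by
        rw [Preadditive.sub_comp, Linear.smul_comp, Linear.smul_comp, Category.id_comp, h2,
          sub_self]
      obtain ⟨t, ht, h4⟩ := hInj _ h3
      refine ⟨t * s, fun hts => ?_, ?_⟩
      · rcases Ideal.IsPrime.mem_or_mem inferInstance hts with h | h
        · exact ht h
        · exact s.2 h
      · rw [smul_sub, sub_eq_zero] at h4
        refine ⟨t * y, ?_⟩
        rw [LinearMap.toSpanSingleton_apply, mul_smul, mul_smul, h4]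
    obtain ⟨y, hy⟩ := hmem
    exact ⟨y, by rw [← hy, LinearMap.toSpanSingleton_apply]⟩
  · -- no self-ext
    intro i hi
    refine ⟨fun f g => ?_⟩
    have key : ∀ f : K ⟶ K⟦i⟧, f = 0 := by
      intro f
      apply eq_zero_of_forall_maximal (A := A)
      intro m _
      obtain ⟨_, hT⟩ := hloc m
      obtain ⟨s, hs, h0⟩ := (subsingleton_hom_lbc_iff m.primeCompl (Localization.AtPrime m) K K c
        c d hK hfin i).1 (hT.ext_self_subsingleton i hi) f
      exact ⟨s, hs, h0⟩
    rw [key f, key g]

end Main

end Groth.Agent.Lib.T2H4.LocGlob
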