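import Groth.Agent.Lib.T2H4LocGlob
import Groth.Agent.S6965

set_option autoImplicit false
set_option linter.style.haveILetI false
set_option backward.isDefEq.respectTransparency.types false
universe u v
open CategoryTheory CategoryTheory.Limits
attribute [local instance] HasDerivedCategory.standard

namespace Groth.Agent.Lib.T2H4.LocGlob

open DerivedCategory Pretriangulated

section FID

variable {A : Type u} [CommRing A]

lemma subsingleton_HD_of_hasInjAmplitudeIn (R : Dual.D A) (a b : ℤ)
    (h : DRing.HasInjAmplitudeIn A a b R) (i : ℤ) (hi : i < a ∨ b < i) :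
    Subsingleton (Dual.HD A R i) := by
  obtain ⟨E, hE, -, ⟨e⟩⟩ := h
  have h1 : IsZero ((HomologicalComplex.homologyFunctor (ModuleCat.{u} A) _ i).obj E) := by
    have := (HomologicalComplex.ExactAt.of_isZero (K := E) (hE i hi))
    rwa [HomologicalComplex.exactAt_iff_isZero_homology] at this
  have h2 : IsZero ((homologyFunctor (ModuleCat.{u} A) i).obj R) :=
    h1.of_iso ((homologyFunctor (ModuleCat.{u} A) i).mapIso e.symm ≪≫
      (homologyFunctorFactors (ModuleCat.{u} A) i).app E)
  exact ModuleCat.subsingleton_of_isZero h2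

variable [IsNoetherianRing A]

/-- **S11360**. -/
theorem isDualizing_of_hasFiniteInjDim (R : Dual.D A)
    (hfin : ∀ i : ℤ, Module.Finite A (Dual.HD A R i)) (hfid : DRing.HasFiniteInjDim A R)
    [∀ p : PrimeSpectrum A, DRing.HasLBaseChange (algebraMap A (Localization.AtPrime p.asIdeal))]
    (h : ∀ p : PrimeSpectrum A, Dual.IsDualizing (Localization.AtPrime p.asIdeal)
      ((DRing.LBaseChange (algebraMap A (Localization.AtPrime p.asIdeal))).obj R)) :
    Dual.IsDualizing A R := by
  obtain ⟨a, b, hab⟩ := hfid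
  refine isDualizing_of_forall_maximal R
    ⟨a, b, fun i hi => subsingleton_HD_of_hasInjAmplitudeIn R a b hab i hi⟩ hfin
    ⟨a, b, fun M _ _ i hi => ?_⟩ (fun m hm => ?_)
  · have h12 : DRing.HasInjAmplitudeIn A a b R ↔
        ∀ (N : Type u) [AddCommGroup N] [Module A N] (i : ℤ), (i < a ∨ b < i) →
          Subsingleton (DRing.ExtD A (Dual.inD A N) R i) :=
      (Groth.Agent.S6965.result A R a b).out 0 1
    exact h12.1 hab M i hi
  · exact ⟨inferInstanceAs (DRing.HasLBaseChange (algebraMap A (Localization.AtPrime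
      (⟨m, hm.isPrime⟩ : PrimeSpectrum A).asIdeal))), h ⟨m, hm.isPrime⟩⟩

end FID

end Groth.Agent.Lib.T2H4.LocGlob
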