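import Groth.Agent.Lib.T2H4LocGlob2

set_option autoImplicit false
set_option linter.style.haveILetI false
set_option backward.isDefEq.respectTransparency.types false
universe u v
open CategoryTheory CategoryTheory.Limits
attribute [local instance] HasDerivedCategory.standard

namespace Groth.Agent.Lib.T2H4.LocGlob

open DerivedCategory Pretriangulated Groth.Agent.S14388 Groth.Agent.Lib.T2H4.LocalDual
  Groth.Agent.Lib.T2H4.DComp Groth.Agent.Lib.T2H4.TorIndep Groth.Agent.Lib.T2H4.LocKL
  Groth.Agent.Lib.T2H4.DimFun

section MainGen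

variable {A : Type u} [CommRing A] [IsNoetherianRing A]

/-- **local-to-global principle for dualizing complexes** (a family of localizations covering all
maximal ideals). -/
theorem isDualizing_of_forall_maximal_exists (K : Dual.D A)
    (hbdd : ∃ a b : ℤ, ∀ i : ℤ, (i < a ∨ b < i) → Subsingleton (Dual.HD A K i))
    (hfin : ∀ i : ℤ, Module.Finite A (Dual.HD A K i))
    (hinj : ∃ a b : ℤ, ∀ (M : Type u) [AddCommGroup M] [Module A M] (i : ℤ),
      (i < a ∨ b < i) → Subsingleton (Dual.inD A M ⟶ K⟦i⟧))
    (hloc : ∀ (m : Ideal A) [m.IsMaximal],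
      ∃ (S : Submonoid A) (B : Type u) (_ : CommRing B) (_ : Algebra A B) (_ : IsLocalization S B)
        (_ : DRing.HasLBaseChange (algebraMap A B)), (∀ s ∈ S, s ∉ m) ∧
        Dual.IsDualizing B ((DRing.LBaseChange (algebraMap A B)).obj K)) :
    Dual.IsDualizing A K := by
  obtain ⟨c, d, hcd⟩ := hbdd
  have hK : ∀ i : ℤ, (i < c ∨ d < i) → IsZero ((homologyFunctor (ModuleCat.{u} A) i).obj K) :=
    fun i hi => by
      haveI := hcd i hi
      exact ModuleCat.isZero_of_subsingleton _
  haveI : K.IsGE c := (DerivedCategory.isGE_iff K c).2 (fun i hi => hK i (Or.inl hi))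
  refine ⟨inferInstance, hinj, hfin, ⟨?_, ?_⟩, ?_⟩
  · -- injectivity
    intro x y hxy
    have h0 : (x - y) • 𝟙 K = 0 := by
      rw [sub_smul, sub_eq_zero]
      exact hxy
    suffices hz : x - y = 0 from sub_eq_zero.1 hz
    generalize x - y = z at h0
    apply eq_zero_of_forall_maximal (A := A) (E := A) z
    intro m _
    obtain ⟨S, B, _, _, _, _, hSm, hT⟩ := hloc m
    have hΨ : ∀ g : (DRing.LBaseChange (algebraMap A B)).obj K ⟶
        (DRing.LBaseChange (algebraMap A B)).obj K,
        (lbcAdj (algebraMap A B)).homEquiv K _ g =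
          ηB B K ≫
            (DRing.restrictD (algebraMap A B)).map g := fun g =>
      (lbcAdj (algebraMap A B)).homEquiv_unit ..
    have h1 : (lbcAdj (algebraMap A B)).homEquiv K _
        (algebraMap A B z •
          𝟙 ((DRing.LBaseChange (algebraMap A B)).obj K)) =
        (lbcAdj (algebraMap A B)).homEquiv K _ 0 := by
      rw [hΨ, hΨ, restrictD_map_smul, CategoryTheory.Functor.map_id, Functor.map_zero, comp_zero,
        Linear.comp_smul, Category.comp_id]
      have h2 : z • ηB B K = (z • 𝟙 K) ≫ ηB B K := by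
        rw [Linear.smul_comp, Category.id_comp]
      rw [h2, h0, zero_comp]
    have h3 := ((lbcAdj (algebraMap A B)).homEquiv K _).injective h1
    have h4 : algebraMap A B z = 0 := hT.toEnd_bijective.1 (by
      show algebraMap A B z • 𝟙 _ = (0 : B) • 𝟙 _
      rw [h3, zero_smul])
    obtain ⟨s, hs⟩ := (IsLocalization.map_eq_zero_iff S B z).1 h4
    exact ⟨s, hSm s s.2, hs⟩
  · -- surjectivity
    intro f
    have hmem : f ∈ LinearMap.range (LinearMap.toSpanSingleton A (K ⟶ K) (𝟙 K)) := by
      apply mem_of_forall_maximal (A := A)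
      intro m _
      obtain ⟨S, B, _, _, _, _, hSm, hT⟩ := hloc m
      have hgood := good_unit S B K K c c d hK hfin
      have e0 : K⟦(0 : ℤ)⟧ ≅ K := (shiftFunctorZero (Dual.D A) ℤ).app K
      have hInj : Inj S (ηB B K) K := (hgood 0).1.of_iso e0
      have hΨ : ∀ g : (DRing.LBaseChange (algebraMap A B)).obj K ⟶
          (DRing.LBaseChange (algebraMap A B)).obj K,
          (lbcAdj (algebraMap A B)).homEquiv K _ g =
            ηB B K ≫
              (DRing.restrictD (algebraMap A B)).map g := fun g =>
        (lbcAdj (algebraMap A B)).homEquiv_unit ..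
      have hΨs : ∀ (x : A)
          (g : (DRing.LBaseChange (algebraMap A B)).obj K ⟶
            (DRing.LBaseChange (algebraMap A B)).obj K),
          (lbcAdj (algebraMap A B)).homEquiv K _
            (algebraMap A B x • g) =
            x • (lbcAdj (algebraMap A B)).homEquiv K _ g := by
        intro x g
        rw [hΨ, hΨ, restrictD_map_smul, Linear.comp_smul]
      have hΨ1 : (lbcAdj (algebraMap A B)).homEquiv K _
          (𝟙 ((DRing.LBaseChange (algebraMap A B)).obj K)) =
          ηB B K := by
        rw [hΨ, CategoryTheory.Functor.map_id]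
        exact Category.comp_id _
      -- the image of `f`
      let g := ((lbcAdj (algebraMap A B)).homEquiv K _).symm
        (f ≫ ηB B K)
      have hg : (lbcAdj (algebraMap A B)).homEquiv K _ g =
          f ≫ ηB B K := Equiv.apply_symm_apply _ _
      obtain ⟨b, hb⟩ := hT.toEnd_bijective.2 g
      obtain ⟨⟨y, s⟩, hys⟩ := IsLocalization.surj S b
      have h1 : algebraMap A B s • g =
          algebraMap A B y •
            𝟙 ((DRing.LBaseChange (algebraMap A B)).obj K) := by
        rw [← hb]
        show algebraMap A B s • (b • 𝟙 _) = _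
        rw [smul_smul, mul_comm, hys]
      have h2 := congrArg ((lbcAdj (algebraMap A B)).homEquiv K _) h1
      rw [hΨs, hΨs, hΨ1, hg] at h2
      have h3 : ((s : A) • f - y • 𝟙 K) ≫ ηB B K = 0 := by
        rw [Preadditive.sub_comp, Linear.smul_comp, Linear.smul_comp, Category.id_comp, h2,
          sub_self]
      obtain ⟨t, ht, h4⟩ := hInj _ h3
      refine ⟨t * s, fun hts => ?_, ?_⟩
      · exact hSm _ (S.mul_mem ht s.2) hts
      · rw [smul_sub, sub_eq_zero] at h4
        refine ⟨t * y, ?_⟩
        rw [LinearMap.toSpanSingleton_apply, mul_smul, mul_smul, h4]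
    obtain ⟨y, hy⟩ := hmem
    exact ⟨y, by rw [← hy, LinearMap.toSpanSingleton_apply]⟩
  · -- no self-ext
    intro i hi
    refine ⟨fun f g => ?_⟩
    have key : ∀ f : K ⟶ K⟦i⟧, f = 0 := by
      intro f
      apply eq_zero_of_forall_maximal (A := A)
      intro m _
      obtain ⟨S, B, _, _, _, _, hSm, hT⟩ := hloc m
      obtain ⟨s, hs, h0⟩ := (subsingleton_hom_lbc_iff S B K K c
        c d hK hfin i).1 (hT.ext_self_subsingleton i hi) f
      exact ⟨s, hSm s hs, h0⟩
    rw [key f, key g]

end MainGen

end Groth.Agent.Lib.T2H4.LocGlob
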