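import Groth.Agent.Lib.T2H4HomRing
import Groth.Agent.Lib.Helper1Devissage

/-!
# Localization of `Hom` in the derived category: abstract dévissage (helper4)

For a morphism `η : N ⟶ N'` of `D(A)` and a submonoid `S` of `A`, `Inj S η X` and `Surj S η X` say that
`Hom(X, N) ⟶ Hom(X, N')` is "injective up to `S`" and "surjective up to `S`".  We show that the class of
`K` with `Inj` and `Surj` for all shifts is triangulated, contains the finite modules as soon as it
contains `A` and `N`, `N'` are bounded below (way-out argument), hence contains `D^b_coh(A)`.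
-/

set_option autoImplicit false
set_option linter.style.haveILetI false
set_option backward.isDefEq.respectTransparency.types false
universe u
open CategoryTheory CategoryTheory.Limits
attribute [local instance] HasDerivedCategory.standard

namespace Groth.Agent.Lib.T2H4.LocKL

open DerivedCategory Pretriangulated Groth.Agent.S14388 Groth.Agent.Lib.T2H4.LocalDual

section Abstract

variable {A : Type u} [CommRing A] (S : Submonoid A) {N N' : Dual.D A} (η : N ⟶ N')

/-- injectivity up to `S` of `Hom(X, N) ⟶ Hom(X, N')`. -/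
def Inj (X : Dual.D A) : Prop := ∀ f : X ⟶ N, f ≫ η = 0 → ∃ s ∈ S, s • f = 0

/-- surjectivity up to `S` of `Hom(X, N) ⟶ Hom(X, N')`. -/
def Surj (X : Dual.D A) : Prop := ∀ g : X ⟶ N', ∃ s ∈ S, ∃ f : X ⟶ N, s • g = f ≫ η

variable {S η}

lemma Inj.of_iso {X Y : Dual.D A} (e : X ≅ Y) (h : Inj S η X) : Inj S η Y := by
  intro f hf
  obtain ⟨s, hs, h0⟩ := h (e.hom ≫ f) (by rw [Category.assoc, hf, comp_zero])
  refine ⟨s, hs, ?_⟩
  rw [← cancel_epi e.hom, Linear.comp_smul, h0, comp_zero]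

lemma Surj.of_iso {X Y : Dual.D A} (e : X ≅ Y) (h : Surj S η X) : Surj S η Y := by
  intro g
  obtain ⟨s, hs, f, hf⟩ := h (e.hom ≫ g)
  refine ⟨s, hs, e.inv ≫ f, ?_⟩
  rw [Category.assoc, ← hf, Linear.comp_smul, Iso.inv_hom_id_assoc]

lemma Inj.of_isZero {X : Dual.D A} (hX : IsZero X) : Inj S η X := fun f _ =>
  ⟨1, S.one_mem, by rw [one_smul]; exact hX.eq_of_src _ _⟩

lemma Surj.of_isZero {X : Dual.D A} (hX : IsZero X) : Surj S η X := fun g =>
  ⟨1, S.one_mem, 0, by rw [one_smul, zero_comp]; exact hX.eq_of_src _ _⟩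

/-- four lemma, injectivity. -/
lemma inj_obj₂ (T : Triangle (Dual.D A)) (hT : T ∈ distTriang (Dual.D A))
    (h1 : Surj S η (T.obj₁⟦(1 : ℤ)⟧)) (h3 : Inj S η T.obj₃) (h1' : Inj S η T.obj₁) :
    Inj S η T.obj₂ := by
  intro f hf
  obtain ⟨s, hs, hsf⟩ := h1' (T.mor₁ ≫ f) (by rw [Category.assoc, hf, comp_zero])
  have h2 : T.mor₁ ≫ (s • f) = 0 := by rw [Linear.comp_smul]; exact hsf
  obtain ⟨h, hh⟩ := Triangle.yoneda_exact₂ T hT (s • f) h2
  have h3a : T.mor₂ ≫ (h ≫ η) = 0 := by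
    rw [← Category.assoc, ← hh, Linear.smul_comp, hf, smul_zero]
  obtain ⟨k', hk'⟩ := Triangle.yoneda_exact₃ T hT (h ≫ η) h3a
  obtain ⟨t, ht, k, hk⟩ := h1 k'
  obtain ⟨r, hr, hrr⟩ := h3 (t • h - T.mor₃ ≫ k) (by
    rw [Preadditive.sub_comp, Linear.smul_comp, hk', Category.assoc, ← hk, Linear.comp_smul,
      sub_self])
  refine ⟨r * t * s, S.mul_mem (S.mul_mem hr ht) hs, ?_⟩
  have h4 : r • t • h = r • (T.mor₃ ≫ k) := by
    rw [smul_sub, sub_eq_zero] at hrr
    exact hrr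
  rw [mul_smul, mul_smul, hh, ← Linear.comp_smul, ← Linear.comp_smul, h4, Linear.comp_smul,
    ← Category.assoc, comp_distTriang_mor_zero₂₃ T hT, zero_comp, smul_zero]

/-- four lemma, surjectivity. -/
lemma surj_obj₂ (T : Triangle (Dual.D A)) (hT : T ∈ distTriang (Dual.D A))
    (h3 : Surj S η T.obj₃) (h1 : Surj S η T.obj₁) (h3' : Inj S η (T.obj₃⟦(-1 : ℤ)⟧)) :
    Surj S η T.obj₂ := by
  intro g
  obtain ⟨s, hs, f₁, hf₁⟩ := h1 (T.mor₁ ≫ g)
  have hT' := inv_rot_of_distTriang T hT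
  obtain ⟨w', hw', hex⟩ : ∃ w' : T.obj₃⟦(-1 : ℤ)⟧ ⟶ T.obj₁, w' ≫ T.mor₁ = 0 ∧
      ∀ (X : Dual.D A) (φ : T.obj₁ ⟶ X), w' ≫ φ = 0 → ∃ ψ : T.obj₂ ⟶ X, φ = T.mor₁ ≫ ψ :=
    ⟨T.invRotate.mor₁, comp_distTriang_mor_zero₁₂ _ hT',
      fun X φ hφ => Triangle.yoneda_exact₂ _ hT' φ hφ⟩
  obtain ⟨t, ht, htt⟩ := h3' (w' ≫ f₁) (by
    rw [Category.assoc, ← hf₁, Linear.comp_smul, ← Category.assoc, hw', zero_comp, smul_zero])
  obtain ⟨f₂, hf₂⟩ := hex N (t • f₁) (by rw [Linear.comp_smul]; exact htt)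
  have h5 : T.mor₁ ≫ (f₂ ≫ η - (t * s) • g) = 0 := by
    rw [Preadditive.comp_sub, ← Category.assoc, ← hf₂, Linear.smul_comp, ← hf₁, Linear.comp_smul,
      mul_smul, sub_self]
  obtain ⟨h', hh'⟩ := Triangle.yoneda_exact₂ T hT _ h5
  obtain ⟨r, hr, h, hh⟩ := h3 h'
  refine ⟨r * t * s, S.mul_mem (S.mul_mem hr ht) hs, r • f₂ - T.mor₂ ≫ h, ?_⟩
  rw [Preadditive.sub_comp, Category.assoc, ← hh, Linear.comp_smul, ← hh', Linear.smul_comp,
    smul_sub, sub_sub_cancel, mul_assoc, mul_smul]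

variable (S η)

/-- the class of objects all of whose shifts satisfy `Inj` and `Surj`. -/
def Good : ObjectProperty (Dual.D A) := fun K => ∀ n : ℤ, Inj S η (K⟦n⟧) ∧ Surj S η (K⟦n⟧)

instance : (Good S η).IsClosedUnderIsomorphisms where
  of_iso e h := fun n =>
    ⟨(h n).1.of_iso ((shiftFunctor (Dual.D A) n).mapIso e),
      (h n).2.of_iso ((shiftFunctor (Dual.D A) n).mapIso e)⟩

variable {S η}

lemma good_of_isZero (K : Dual.D A) (hK : IsZero K) : Good S η K := fun n =>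
  ⟨Inj.of_isZero ((shiftFunctor (Dual.D A) n).map_isZero hK),
    Surj.of_isZero ((shiftFunctor (Dual.D A) n).map_isZero hK)⟩

lemma good_ext (T : Triangle (Dual.D A)) (hT : T ∈ distTriang (Dual.D A))
    (h₁ : Good S η T.obj₁) (h₃ : Good S η T.obj₃) : Good S η T.obj₂ := by
  intro n
  have hTn := Triangle.shift_distinguished T hT n
  have e1 : T.obj₁⟦n + 1⟧ ≅ (T.obj₁⟦n⟧)⟦(1 : ℤ)⟧ :=
    (shiftFunctorAdd' (Dual.D A) n 1 (n + 1) rfl).app T.obj₁
  have e3 : T.obj₃⟦n - 1⟧ ≅ (T.obj₃⟦n⟧)⟦(-1 : ℤ)⟧ :=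
    (shiftFunctorAdd' (Dual.D A) n (-1) (n - 1) (by ring)).app T.obj₃
  exact ⟨inj_obj₂ _ hTn ((h₁ (n + 1)).2.of_iso e1) (h₃ n).1 (h₁ n).1,
    surj_obj₂ _ hTn (h₃ n).2 (h₁ n).2 ((h₃ (n - 1)).1.of_iso e3)⟩

lemma good_shift (K : Dual.D A) (h : Good S η K) (m : ℤ) : Good S η (K⟦m⟧) := by
  intro n
  have e : K⟦m + n⟧ ≅ (K⟦m⟧)⟦n⟧ := (shiftFunctorAdd' (Dual.D A) m n (m + n) rfl).app K
  exact ⟨(h (m + n)).1.of_iso e, (h (m + n)).2.of_iso e⟩

end Abstract


section Modules

variable {A : Type u} [CommRing A] {S : Submonoid A} {N N' : Dual.D A} {η : N ⟶ N'}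

/-- closure under short exact sequences of modules. -/
lemma good_of_ses {N₁ N₂ N₃ : Type u} [AddCommGroup N₁] [Module A N₁] [AddCommGroup N₂]
    [Module A N₂] [AddCommGroup N₃] [Module A N₃] (f : N₁ →ₗ[A] N₂) (g : N₂ →ₗ[A] N₃)
    (hf : Function.Injective f) (hg : Function.Surjective g) (hfg : Function.Exact f g)
    (h₁ : Good S η (Dual.inD A N₁)) (h₃ : Good S η (Dual.inD A N₃)) :
    Good S η (Dual.inD A N₂) :=
  good_ext _ (scOf_shortExact f g hf hg hfg).singleTriangle_distinguished h₁ h₃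

lemma good_free (hA : Good S η (Dual.inD A A)) : ∀ n : ℕ, Good S η (Dual.inD A (Fin n → A))
  | 0 => good_of_isZero _ (Functor.map_isZero _
      (ModuleCat.isZero_of_subsingleton (ModuleCat.of A (Fin 0 → A))))
  | n + 1 => by
    let f : A →ₗ[A] (Fin (n + 1) → A) := LinearMap.single A (fun _ : Fin (n + 1) => A) 0
    let g : (Fin (n + 1) → A) →ₗ[A] (Fin n → A) := LinearMap.funLeft A A Fin.succ
    have hf : Function.Injective f := by
      intro x y h
      have := congrFun h 0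
      simpa [f] using this
    have hg : Function.Surjective g := by
      intro y
      refine ⟨Fin.cons 0 y, ?_⟩
      funext j
      simp [g, LinearMap.funLeft_apply]
    have hfg : Function.Exact f g := by
      intro y
      constructor
      · intro hy
        refine ⟨y 0, ?_⟩
        funext i
        refine Fin.cases ?_ (fun j => ?_) i
        · simp [f]
        · have := congrFun hy j
          simp only [g, LinearMap.funLeft_apply, Pi.zero_apply] at this
          simp [f, this]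
      · rintro ⟨x, rfl⟩
        funext j
        simp [f, g, LinearMap.funLeft_apply]
    exact good_of_ses f g hf hg hfg hA (good_free hA n)

lemma isLE_inD_shift (M : Type u) [AddCommGroup M] [Module A M] (i : ℤ) :
    ((Dual.inD A M)⟦-i⟧).IsLE i :=
  tt.isLE_shift (Dual.inD A M) 0 (-i) i (by lia)

lemma wayout_base (a : ℤ) [N.IsGE a] [N'.IsGE a] (i : ℤ) (hi : i < a) (M : Type u)
    [AddCommGroup M] [Module A M] :
    Inj S η ((Dual.inD A M)⟦-i⟧) ∧ Surj S η ((Dual.inD A M)⟦-i⟧) := by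
  haveI := isLE_inD_shift (A := A) M i
  constructor
  · intro f _
    exact ⟨1, S.one_mem, by
      rw [one_smul]
      exact tt.zero_of_isLE_of_isGE f i a hi inferInstance inferInstance⟩
  · intro g
    exact ⟨1, S.one_mem, 0, by
      rw [one_smul, zero_comp]
      exact tt.zero_of_isLE_of_isGE g i a hi inferInstance inferInstance⟩

variable [IsNoetherianRing A]

lemma wayout_step (hfree : ∀ n : ℕ, Good S η (Dual.inD A (Fin n → A))) (i : ℤ)
    (hprev : ∀ (M : Type u) [AddCommGroup M] [Module A M] [Module.Finite A M],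
      Inj S η ((Dual.inD A M)⟦-(i - 1)⟧) ∧ Surj S η ((Dual.inD A M)⟦-(i - 1)⟧)) :
    ∀ (M : Type u) [AddCommGroup M] [Module A M] [Module.Finite A M],
      Inj S η ((Dual.inD A M)⟦-i⟧) ∧ Surj S η ((Dual.inD A M)⟦-i⟧) := by
  have hinj : ∀ (M : Type u) [AddCommGroup M] [Module A M] [Module.Finite A M],
      Inj S η ((Dual.inD A M)⟦-i⟧) := by
    intro M _ _ _
    obtain ⟨n, p, hp⟩ := Module.Finite.exists_fin' A M
    have hι : Function.Injective (LinearMap.ker p).subtype := Subtype.val_injective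
    have hex : Function.Exact (LinearMap.ker p).subtype p := LinearMap.exact_subtype_ker_map p
    have hT := (scOf_shortExact _ p hι hp hex).singleTriangle_distinguished
    have hTr := rot_of_distTriang _ (Triangle.shift_distinguished _ hT (-i))
    have e1 : (Dual.inD A (Fin n → A))⟦-i + 1⟧ ≅ ((Dual.inD A (Fin n → A))⟦-i⟧)⟦(1 : ℤ)⟧ :=
      (shiftFunctorAdd' (Dual.D A) (-i) 1 (-i + 1) rfl).app _
    have e3 : (Dual.inD A (LinearMap.ker p))⟦-(i - 1)⟧ ≅
        ((Dual.inD A (LinearMap.ker p))⟦-i⟧)⟦(1 : ℤ)⟧ :=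
      (shiftFunctorAdd' (Dual.D A) (-i) 1 (-(i - 1)) (by ring)).app _
    exact inj_obj₂ _ hTr ((hfree n (-i + 1)).2.of_iso e1)
      ((hprev (LinearMap.ker p)).1.of_iso e3) (hfree n (-i)).1
  intro M _ _ _
  refine ⟨hinj M, ?_⟩
  obtain ⟨n, p, hp⟩ := Module.Finite.exists_fin' A M
  have hι : Function.Injective (LinearMap.ker p).subtype := Subtype.val_injective
  have hex : Function.Exact (LinearMap.ker p).subtype p := LinearMap.exact_subtype_ker_map p
  have hT := (scOf_shortExact _ p hι hp hex).singleTriangle_distinguished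
  have hTr := rot_of_distTriang _ (Triangle.shift_distinguished _ hT (-i))
  have e3 : (Dual.inD A (LinearMap.ker p))⟦-(i - 1)⟧ ≅
      ((Dual.inD A (LinearMap.ker p))⟦-i⟧)⟦(1 : ℤ)⟧ :=
    (shiftFunctorAdd' (Dual.D A) (-i) 1 (-(i - 1)) (by ring)).app _
  have e4 : (Dual.inD A (LinearMap.ker p))⟦-i⟧ ≅
      (((Dual.inD A (LinearMap.ker p))⟦-i⟧)⟦(1 : ℤ)⟧)⟦(-1 : ℤ)⟧ :=
    (shiftShiftNeg ((Dual.inD A (LinearMap.ker p))⟦-i⟧) (1 : ℤ)).symm
  exact surj_obj₂ _ hTr ((hprev (LinearMap.ker p)).2.of_iso e3) (hfree n (-i)).2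
    ((hinj (LinearMap.ker p)).of_iso e4)

theorem wayout (hA : Good S η (Dual.inD A A)) (a : ℤ) [N.IsGE a] [N'.IsGE a] :
    ∀ (k : ℕ) (i : ℤ), i < a + k → ∀ (M : Type u) [AddCommGroup M] [Module A M]
      [Module.Finite A M], Inj S η ((Dual.inD A M)⟦-i⟧) ∧ Surj S η ((Dual.inD A M)⟦-i⟧)
  | 0 => fun i hi M _ _ _ => wayout_base a i (by simpa using hi) M
  | k + 1 => fun i hi => by
    by_cases h : i < a + k
    · exact wayout hA a k i h
    · apply wayout_step (good_free hA) i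
      intro M _ _ _
      exact wayout hA a k (i - 1) (by push_cast at hi; lia) M

/-- finite modules are good. -/
theorem good_inD (hA : Good S η (Dual.inD A A)) (a : ℤ) [N.IsGE a] [N'.IsGE a]
    (M : Type u) [AddCommGroup M] [Module A M] [Module.Finite A M] :
    Good S η (Dual.inD A M) := by
  intro n
  have h := wayout hA a (-n - a + 1).toNat (-n) (by lia) M
  rw [neg_neg] at h
  exact h

/-- `D^b_coh` is good. -/
theorem good_of_dbcoh (hA : Good S η (Dual.inD A A)) (a : ℤ) [N.IsGE a] [N'.IsGE a]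
    (K : Dual.D A) (c d : ℤ)
    (hK : ∀ i : ℤ, (i < c ∨ d < i) → IsZero ((homologyFunctor (ModuleCat.{u} A) i).obj K))
    (hfin : ∀ i : ℤ, Module.Finite A (Dual.HD A K i)) : Good S η K := by
  apply Groth.Agent.Lib.Helper1.Devissage.induction_homology' (Good S η) good_of_isZero good_ext
    K c d hK
  intro j _ _
  haveI := hfin j
  have e : (singleFunctor (ModuleCat.{u} A) j).obj ((homologyFunctor (ModuleCat.{u} A) j).obj K) ≅
      (Dual.inD A (Dual.HD A K j))⟦-j⟧ :=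
    (((singleFunctors (ModuleCat.{u} A)).shiftIso (-j) j 0 (by simp)).app
      ((homologyFunctor (ModuleCat.{u} A) j).obj K)).symm
  exact (Good S η).prop_of_iso e.symm (good_shift _ (good_inD hA a (Dual.HD A K j)) (-j))

end Modules

end Groth.Agent.Lib.T2H4.LocKL
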