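import Groth.Agent.Lib.T2H4LocKL
import Groth.Agent.Lib.T2H4RGFinite
import Groth.Agent.Lib.T2H4HDIFlat
import Groth.Agent.Lib.T2H4TorIndep

set_option autoImplicit false
set_option linter.style.haveILetI false
set_option backward.isDefEq.respectTransparency.types false
universe u
open CategoryTheory CategoryTheory.Limits
attribute [local instance] HasDerivedCategory.standard

namespace Groth.Agent.Lib.T2H4.LocKL

open DerivedCategory Pretriangulated Groth.Agent.S14388 Groth.Agent.Lib.T2H4.LocalDual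
  Groth.Agent.Lib.T2H4.DComp Groth.Agent.Lib.Helper17.DBrown CochainComplex.HomComplex

section Chain

variable {A : Type u} [CommRing A]

/-- evaluation of a chain map from `A[-m]` at the generator. -/
noncomputable def ev {C : DRing.Cx A} {m : ℤ} (γ : SB A m ⟶ C) : C.X m := (γ.f m).hom (x₀ A m)

lemma ev_injective {C : DRing.Cx A} {m : ℤ} {γ γ' : SB A m ⟶ C} (h : ev γ = ev γ') : γ = γ' := by
  apply HomologicalComplex.from_single_hom_ext
  rw [← cancel_epi (HomologicalComplex.singleObjXSelf (ComplexShape.up ℤ) m (ModuleCat.of A A)).inv]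
  ext
  exact h

lemma d_ev {C : DRing.Cx A} {m : ℤ} (γ : SB A m ⟶ C) : (C.d m (m + 1)).hom (ev γ) = 0 := by
  have hSd : (SB A m).d m (m + 1) = 0 := HomologicalComplex.single_obj_d _ _ _ _ _
  have h1 : γ.f m ≫ C.d m (m + 1) = 0 := by rw [γ.comm, hSd, zero_comp]
  exact congrArg (fun t => t.hom (x₀ A m)) h1

lemma ev_comp {C C' : DRing.Cx A} {m : ℤ} (γ : SB A m ⟶ C) (u : C ⟶ C') :
    ev (γ ≫ u) = (u.f m).hom (ev γ) := rfl

lemma ev_smul {C : DRing.Cx A} {m : ℤ} (s : A) (γ : SB A m ⟶ C) : ev (s • γ) = s • ev γ := rfl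

lemma ev_ofCycle (C : DRing.Cx A) (m : ℤ) (z : C.X m) (hz : (C.d m (m + 1)).hom z = 0) :
    ev (ofCycle C m z hz) = z := ofCycle_apply C m z hz

lemma Q_map_eq_zero_of_ev_boundary {C : DRing.Cx A} {m : ℤ} (γ : SB A m ⟶ C) (w : C.X (m - 1))
    (h : (C.d (m - 1) m).hom w = ev γ) : (Q : _ ⥤ Dual.D A).map γ = 0 := by
  let wmor : ModuleCat.of A A ⟶ C.X (m - 1) := ModuleCat.ofHom (LinearMap.toSpanSingleton A _ w)
  let γ' : (CochainComplex.singleFunctor (ModuleCat.{u} A) m).obj (ModuleCat.of A A) ⟶ C := γ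
  let z : Cochain ((CochainComplex.singleFunctor (ModuleCat.{u} A) m).obj (ModuleCat.of A A)) C (-1) :=
    Cochain.fromSingleMk wmor (show m + (-1) = m - 1 by ring)
  have hδ : δ (-1) 0 z = Cochain.fromSingleMk (wmor ≫ C.d (m - 1) m) (show m + 0 = m by ring) :=
    Cochain.δ_fromSingleMk wmor (show m + (-1) = m - 1 by ring) 0 m (by ring)
  have hz : Cochain.ofHom γ' = δ (-1) 0 z + Cochain.ofHom 0 := by
    rw [Cochain.ofHom_zero, add_zero, hδ]
    apply (Cochain.fromSingleEquiv (X := ModuleCat.of A A) (K := C)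
      (show m + 0 = m by ring)).injective
    rw [Cochain.fromSingleEquiv_fromSingleMk]
    show (HomologicalComplex.singleObjXSelf (ComplexShape.up ℤ) m (ModuleCat.of A A)).inv ≫
      (Cochain.ofHom γ').v m m _ = _
    rw [Cochain.ofHom_v]
    ext
    show ev γ = (C.d (m - 1) m).hom ((1 : A) • w)
    rw [one_smul, h]
  have H : Homotopy γ' 0 := (Cochain.equivHomotopy γ' 0).symm ⟨z, hz⟩
  have := DerivedCategory.Q_map_eq_of_homotopy _ H
  rw [Functor.map_zero] at this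
  exact this

lemma ev_boundary_of_Q_map_eq_zero {C : DRing.Cx A} {m : ℤ} (γ : SB A m ⟶ C)
    (h : (Q : _ ⥤ Dual.D A).map γ = 0) : ∃ w : C.X (m - 1), (C.d (m - 1) m).hom w = ev γ := by
  have hγ' : (Q : _ ⥤ Dual.D A).map γ = Q.map 0 := by rw [Functor.map_zero]; exact h
  obtain ⟨H⟩ := homotopy_of_Q_map_eq_of_isKProjective hγ'
  have hSd : (SB A m).d m (m + 1) = 0 := HomologicalComplex.single_obj_d _ _ _ _ _
  have hc := H.comm m
  rw [dNext_eq H.hom (show (ComplexShape.up ℤ).Rel m (m + 1) from rfl),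
    prevD_eq H.hom (show (ComplexShape.up ℤ).Rel (m - 1) m by simp), hSd, zero_comp, zero_add,
    HomologicalComplex.zero_f, add_zero] at hc
  refine ⟨(H.hom m (m - 1)).hom (x₀ A m), ?_⟩
  show _ = (γ.f m).hom (x₀ A m)
  rw [hc]
  rfl

variable (S : Submonoid A) {C C' : DRing.Cx A} (u : C ⟶ C')
  (hu : ∀ m : ℤ, IsLocalizedModule S (u.f m).hom)

include hu in
lemma inj_Q_SB (m : ℤ) :
    Inj S ((Q : _ ⥤ Dual.D A).map u) ((Q : _ ⥤ Dual.D A).obj (SB A m)) := by
  intro f hf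
  obtain ⟨γ, rfl⟩ := exists_Q_map_eq_of_isKProjective f
  rw [← Functor.map_comp] at hf
  obtain ⟨w', hw'⟩ := ev_boundary_of_Q_map_eq_zero _ hf
  rw [ev_comp] at hw'
  haveI := hu (m - 1)
  haveI := hu m
  obtain ⟨⟨w, s⟩, hws⟩ := IsLocalizedModule.surj S (u.f (m - 1)).hom w'
  have hcomm : ∀ x : C.X (m - 1), (u.f m).hom ((C.d (m - 1) m).hom x) =
      (C'.d (m - 1) m).hom ((u.f (m - 1)).hom x) := fun x =>
    congrArg (fun t => t.hom x) (u.comm (m - 1) m).symm
  have h1 : (u.f m).hom ((s : A) • ev γ) = (u.f m).hom ((C.d (m - 1) m).hom w) := by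
    rw [hcomm, ← hws, map_smul, ← hw']
    exact (map_smul (C'.d (m - 1) m).hom (s : A) w').symm
  obtain ⟨t, ht⟩ := IsLocalizedModule.exists_of_eq (S := S) h1
  refine ⟨(t : A) * (s : A), S.mul_mem t.2 s.2, ?_⟩
  rw [← Functor.map_smul]
  apply Q_map_eq_zero_of_ev_boundary _ ((t : A) • w)
  rw [map_smul, ev_smul, mul_smul]
  exact ht.symm

include hu in
lemma surj_Q_SB (m : ℤ) :
    Surj S ((Q : _ ⥤ Dual.D A).map u) ((Q : _ ⥤ Dual.D A).obj (SB A m)) := by
  intro g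
  obtain ⟨γ', rfl⟩ := exists_Q_map_eq_of_isKProjective g
  haveI := hu (m + 1)
  haveI := hu m
  obtain ⟨⟨z, s⟩, hzs⟩ := IsLocalizedModule.surj S (u.f m).hom (ev γ')
  have hcomm : ∀ x : C.X m, (u.f (m + 1)).hom ((C.d m (m + 1)).hom x) =
      (C'.d m (m + 1)).hom ((u.f m).hom x) := fun x =>
    congrArg (fun t => t.hom x) (u.comm m (m + 1)).symm
  have h1 : (u.f (m + 1)).hom ((C.d m (m + 1)).hom z) = (u.f (m + 1)).hom 0 := by
    rw [hcomm, ← hzs, map_zero]
    have := map_smul (C'.d m (m + 1)).hom (s : A) (ev γ')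
    rw [d_ev, smul_zero] at this
    exact this
  obtain ⟨t, ht⟩ := IsLocalizedModule.exists_of_eq (S := S) h1
  rw [smul_zero] at ht
  have hcyc : (C.d m (m + 1)).hom ((t : A) • z) = 0 := by
    rw [map_smul]
    exact ht
  refine ⟨(t : A) * (s : A), S.mul_mem t.2 s.2, (Q : _ ⥤ Dual.D A).map (ofCycle C m _ hcyc), ?_⟩
  rw [← Functor.map_smul, ← Functor.map_comp]
  congr 1
  apply ev_injective
  rw [ev_smul, ev_comp, ev_ofCycle, map_smul, ← hzs, mul_smul]
  rfl

include hu in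
lemma good_inD_self : Good S ((Q : _ ⥤ Dual.D A).map u) (Dual.inD A A) := by
  intro n
  have e : (Q : _ ⥤ Dual.D A).obj (SB A (-n)) ≅ (Dual.inD A A)⟦n⟧ :=
    ((singleFunctorIsoCompQ (ModuleCat.{u} A) (-n)).app (ModuleCat.of A A)).symm ≪≫
    (((singleFunctors (ModuleCat.{u} A)).shiftIso n (-n) 0 (by simp)).app (ModuleCat.of A A)).symm
  exact ⟨(inj_Q_SB S u hu (-n)).of_iso e, (surj_Q_SB S u hu (-n)).of_iso e⟩

end Chain

section Transport

variable {A : Type u} [CommRing A] {S : Submonoid A} {N N' M M' : Dual.D A} {η : N ⟶ N'}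

lemma Inj.of_sq (e : N ≅ M) (e' : N' ≅ M') (η' : M ⟶ M') (comm : η ≫ e'.hom = e.hom ≫ η')
    {X : Dual.D A} (h : Inj S η X) : Inj S η' X := by
  intro f hf
  obtain ⟨s, hs, h0⟩ := h (f ≫ e.inv) (by
    rw [← cancel_mono e'.hom, Category.assoc, Category.assoc, comm, Iso.inv_hom_id_assoc, hf,
      zero_comp])
  refine ⟨s, hs, ?_⟩
  rw [← cancel_mono e.inv, Linear.smul_comp, h0, zero_comp]

lemma Surj.of_sq (e : N ≅ M) (e' : N' ≅ M') (η' : M ⟶ M') (comm : η ≫ e'.hom = e.hom ≫ η')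
    {X : Dual.D A} (h : Surj S η X) : Surj S η' X := by
  intro g
  obtain ⟨s, hs, f, hf⟩ := h (g ≫ e'.inv)
  refine ⟨s, hs, f ≫ e.hom, ?_⟩
  rw [Category.assoc, ← comm, ← Category.assoc, ← hf, Linear.smul_comp, Category.assoc,
    Iso.inv_hom_id, Category.comp_id]

lemma Good.of_sq (e : N ≅ M) (e' : N' ≅ M') (η' : M ⟶ M') (comm : η ≫ e'.hom = e.hom ≫ η')
    {X : Dual.D A} (h : Good S η X) : Good S η' X := fun n =>
  ⟨(h n).1.of_sq e e' η' comm, (h n).2.of_sq e e' η' comm⟩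

/-- `N'` is bounded below if `N` is, `S` acts invertibly on `N'` and `A` is good. -/
lemma isGE_of_good (hunit : ∀ s ∈ S, IsIso (s • 𝟙 N')) (hA : Good S η (Dual.inD A A)) (a : ℤ)
    [N.IsGE a] : N'.IsGE a := by
  rw [DerivedCategory.isGE_iff]
  intro j hj
  apply Groth.Agent.Lib.T2H4.HomRing.isZero_homology_of_subsingleton_hom
    (isSeparator_of_self A) N' j
  have e : (Dual.inD A A)⟦-j⟧ ≅ (singleFunctor (ModuleCat.{u} A) j).obj (ModuleCat.of A A) :=
    ((singleFunctors (ModuleCat.{u} A)).shiftIso (-j) j 0 (by simp)).app (ModuleCat.of A A)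
  have hs : Surj S η ((singleFunctor (ModuleCat.{u} A) j).obj (ModuleCat.of A A)) :=
    (hA (-j)).2.of_iso e
  have key : ∀ g : (singleFunctor (ModuleCat.{u} A) j).obj (ModuleCat.of A A) ⟶ N', g = 0 := by
    intro g
    obtain ⟨s, hs', f, hf⟩ := hs g
    have hf0 : f = 0 := tt.zero_of_isLE_of_isGE f j a hj inferInstance inferInstance
    rw [hf0, zero_comp] at hf
    haveI := hunit s hs'
    have h1 : g ≫ (s • 𝟙 N') = 0 := by rw [Linear.comp_smul, Category.comp_id]; exact hf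
    rw [← cancel_mono (s • 𝟙 N'), h1, zero_comp]
  exact ⟨fun g g' => (key g).trans (key g').symm⟩

end Transport

end Groth.Agent.Lib.T2H4.LocKL
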