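import Groth.Agent.Lib.T2H4DualField2

set_option autoImplicit false
set_option linter.style.haveILetI false
set_option backward.isDefEq.respectTransparency.types false
universe u
open CategoryTheory CategoryTheory.Limits
attribute [local instance] HasDerivedCategory.standard

namespace Groth.Agent.Lib.T2H4.LocalDual

open DerivedCategory Pretriangulated Groth.Agent.Lib.T2H4.DualField Groth.Agent.Lib.T2H4.Bidual

section LES

variable {A : Type u} [CommRing A]

/-- the short complex of a short exact sequence of modules. -/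
noncomputable abbrev scOf {N₁ N₂ N₃ : Type u} [AddCommGroup N₁] [Module A N₁] [AddCommGroup N₂]
    [Module A N₂] [AddCommGroup N₃] [Module A N₃] (f : N₁ →ₗ[A] N₂) (g : N₂ →ₗ[A] N₃)
    (hfg : Function.Exact f g) : ShortComplex (ModuleCat.{u} A) :=
  ShortComplex.mk (ModuleCat.ofHom f) (ModuleCat.ofHom g) (by
    ext x
    exact hfg.apply_apply_eq_zero x)

lemma scOf_shortExact {N₁ N₂ N₃ : Type u} [AddCommGroup N₁] [Module A N₁] [AddCommGroup N₂]
    [Module A N₂] [AddCommGroup N₃] [Module A N₃] (f : N₁ →ₗ[A] N₂) (g : N₂ →ₗ[A] N₃)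
    (hf : Function.Injective f) (hg : Function.Surjective g) (hfg : Function.Exact f g) :
    (scOf f g hfg).ShortExact := by
  refine ShortComplex.ShortExact.mk' ?_ ?_ ?_
  · rw [ShortComplex.ShortExact.moduleCat_exact_iff_function_exact]
    exact hfg
  · exact (ModuleCat.mono_iff_injective _).2 hf
  · exact (ModuleCat.epi_iff_surjective _).2 hg

variable {N₁ N₂ N₃ : Type u} [AddCommGroup N₁] [Module A N₁] [AddCommGroup N₂]
    [Module A N₂] [AddCommGroup N₃] [Module A N₃] (f : N₁ →ₗ[A] N₂) (g : N₂ →ₗ[A] N₃)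
    (hf : Function.Injective f) (hg : Function.Surjective g) (hfg : Function.Exact f g)
    (K : Dual.D A)

include hf hg hfg in
/-- middle exactness. -/
lemma exists_factor_of_comp_eq_zero (φ : Dual.inD A N₂ ⟶ K)
    (hφ : (singleFunctor (ModuleCat.{u} A) 0).map (ModuleCat.ofHom f) ≫ φ = 0) :
    ∃ ψ : Dual.inD A N₃ ⟶ K, φ = (singleFunctor (ModuleCat.{u} A) 0).map (ModuleCat.ofHom g) ≫ ψ :=
  Triangle.yoneda_exact₂ _ (scOf_shortExact f g hf hg hfg).singleTriangle_distinguished φ hφ

include hf hg hfg in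
lemma subsingleton_hom_middle (h₁ : Subsingleton (Dual.inD A N₁ ⟶ K))
    (h₃ : Subsingleton (Dual.inD A N₃ ⟶ K)) : Subsingleton (Dual.inD A N₂ ⟶ K) := by
  have key : ∀ φ : Dual.inD A N₂ ⟶ K, φ = 0 := by
    intro φ
    obtain ⟨ψ, hψ⟩ := exists_factor_of_comp_eq_zero f g hf hg hfg K φ (Subsingleton.elim _ _)
    rw [hψ, Subsingleton.elim ψ 0, comp_zero]
  exact ⟨fun φ φ' => (key φ).trans (key φ').symm⟩

include hf hg hfg in
/-- restriction to the submodule is surjective when the next `Ext` of the quotient vanishes. -/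
lemma exists_extension (i : ℤ) (h₃ : Subsingleton (Dual.inD A N₃ ⟶ K⟦i + 1⟧))
    (φ : Dual.inD A N₁ ⟶ K⟦i⟧) :
    ∃ ψ : Dual.inD A N₂ ⟶ K⟦i⟧,
      φ = (singleFunctor (ModuleCat.{u} A) 0).map (ModuleCat.ofHom f) ≫ ψ := by
  have hT := inv_rot_of_distTriang _
    (scOf_shortExact f g hf hg hfg).singleTriangle_distinguished
  have h₃' : Subsingleton ((Dual.inD A N₃)⟦(-1 : ℤ)⟧ ⟶ K⟦i⟧) := by
    apply subsingleton_hom_shift
    have e : i - (-1) = i + 1 := by ring
    rw [e]
    exact h₃
  exact Triangle.yoneda_exact₂ _ hT φ (h₃'.elim _ _)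

end LES

end Groth.Agent.Lib.T2H4.LocalDual
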