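import Groth.Agent.Lib.T2H4LocalDual3
import Groth.Agent.S0302
import Groth.Agent.S0310

set_option autoImplicit false
set_option linter.style.haveILetI false
set_option backward.isDefEq.respectTransparency.types false
universe u
open CategoryTheory CategoryTheory.Limits
attribute [local instance] HasDerivedCategory.standard

namespace Groth.Agent.Lib.T2H4.LocalDual

open DerivedCategory Pretriangulated Groth.Agent.Lib.T2H4.DualField Groth.Agent.Lib.T2H4.Bidual
  HomologicalComplex

section Hull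

variable {A : Type u} [CommRing A] [IsLocalRing A]

/-- a power torsion injective module with one-dimensional socle is an injective hull of the
residue field. -/
theorem isInjectiveHull_of_socle (W : Type u) [AddCommGroup W] [Module A W]
    (hW : Module.Injective A W) (hpt : LocCoh.IsPowerTorsion (IsLocalRing.maximalIdeal A) W)
    (f₀ : IsLocalRing.ResidueField A →ₗ[A] W) (hf₀ : f₀ ≠ 0)
    (hgen : ∀ g : IsLocalRing.ResidueField A →ₗ[A] W, ∃ c : A, g = c • f₀) :
    InjHull.IsInjectiveHull f₀ := by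
  haveI : IsSimpleModule A (IsLocalRing.ResidueField A) := by
    rw [isSimpleModule_iff_quot_maximal]
    exact ⟨IsLocalRing.maximalIdeal A, inferInstance, ⟨LinearEquiv.refl A _⟩⟩
  refine ⟨⟨f₀.injective_or_eq_zero.resolve_right hf₀, ?_⟩, hW⟩
  intro N hN
  obtain ⟨x, hxN, hx0⟩ := Submodule.exists_mem_ne_zero_of_ne_bot hN
  obtain ⟨a, hax, has⟩ := Groth.Agent.S0310.exists_smul_mem_socle hpt hx0
  rw [Submodule.mem_torsionBySet_iff] at has
  have hker : IsLocalRing.maximalIdeal A ≤ LinearMap.ker (LinearMap.toSpanSingleton A W (a • x)) := by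
    intro b hb
    rw [LinearMap.mem_ker, LinearMap.toSpanSingleton_apply]
    exact has ⟨b, hb⟩
  let g : IsLocalRing.ResidueField A →ₗ[A] W :=
    Submodule.liftQ (IsLocalRing.maximalIdeal A) (LinearMap.toSpanSingleton A W (a • x)) hker
  have hg1 : g (IsLocalRing.residue A 1) = a • x := by
    show (LinearMap.toSpanSingleton A W (a • x)) 1 = a • x
    rw [LinearMap.toSpanSingleton_apply, one_smul]
  obtain ⟨c, hc⟩ := hgen g
  intro hbot
  apply hax
  have hmem : a • x ∈ N ⊓ LinearMap.range f₀ := by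
    refine ⟨N.smul_mem a hxN, ?_⟩
    rw [← hg1, hc]
    exact ⟨c • IsLocalRing.residue A 1, by rw [LinearMap.smul_apply, map_smul]⟩
  rw [hbot] at hmem
  exact (Submodule.mem_bot A).1 hmem

end Hull

section Socle

variable {A : Type u} [CommRing A] [IsLocalRing A] [IsNoetherianRing A]

/-- the socle of `W` is one-dimensional when `W[0]` is a normalized dualizing complex. -/
theorem exists_socle_generator (ω : Dual.D A) (hω : Dual.IsDualizing A ω)
    (hn : Dual.IsNormalized A ω) (W : ModuleCat.{u} A)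
    (e : ω ≅ (singleFunctor (ModuleCat.{u} A) 0).obj W) :
    ∃ f₀ : IsLocalRing.ResidueField A →ₗ[A] W, f₀ ≠ 0 ∧
      ∀ g : IsLocalRing.ResidueField A →ₗ[A] W, ∃ c : A, g = c • f₀ := by
  obtain ⟨n, hvan, ⟨L⟩⟩ := ext_residueField_single_degree ω hω (IsLocalRing.maximalIdeal A)
  have hn0 : n = 0 := by
    by_contra hne
    haveI : Subsingleton (Dual.inD A (A ⧸ IsLocalRing.maximalIdeal A) ⟶ ω⟦n⟧) := hn n hne
    have h1 : L.symm 1 = L.symm 0 := Subsingleton.elim _ _
    exact one_ne_zero (L.symm.injective h1)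
  subst hn0
  let F := singleFunctor (ModuleCat.{u} A) 0
  let κ := ModuleCat.of A (IsLocalRing.ResidueField A)
  let Φ : (IsLocalRing.ResidueField A →ₗ[A] W) →
      (Dual.inD A (A ⧸ IsLocalRing.maximalIdeal A) ⟶ ω⟦(0 : ℤ)⟧) := fun g =>
    F.map (ModuleCat.ofHom (X := κ) g) ≫ e.inv ≫
      (CategoryTheory.shiftFunctorZero (Dual.D A) ℤ).inv.app ω
  have hΦsmul : ∀ (c : A) g, Φ (c • g) = c • Φ g := by
    intro c g
    show F.map (ModuleCat.ofHom (X := κ) (c • g)) ≫ _ = c • (F.map (ModuleCat.ofHom (X := κ) g) ≫ _)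
    have : ModuleCat.ofHom (X := κ) (c • g) = c • ModuleCat.ofHom (X := κ) g := rfl
    rw [this, singleFunctor_map_smul, Linear.smul_comp]
    rfl
  have hΦinj : Function.Injective Φ := by
    intro g g' h
    have h1 : F.map (ModuleCat.ofHom (X := κ) g) = F.map (ModuleCat.ofHom (X := κ) g') :=
      (cancel_mono _).1 h
    have h2 := F.map_injective h1
    exact (ModuleCat.hom_ext_iff.1 h2)
  have hΦsurj : Function.Surjective Φ := by
    intro t
    obtain ⟨γ, hγ⟩ := F.map_surjective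
      (t ≫ (CategoryTheory.shiftFunctorZero (Dual.D A) ℤ).hom.app ω ≫ e.hom)
    refine ⟨γ.hom, ?_⟩
    show F.map (ModuleCat.ofHom γ.hom) ≫ _ = t
    rw [ModuleCat.ofHom_hom, hγ]
    simp
  obtain ⟨f₀, hf₀⟩ := hΦsurj (L.symm 1)
  refine ⟨f₀, ?_, ?_⟩
  · intro h0
    have h1 : Φ f₀ = 0 := by
      rw [h0]
      show F.map (ModuleCat.ofHom (X := κ) 0) ≫ _ = 0
      have : ModuleCat.ofHom (X := κ) (0 : IsLocalRing.ResidueField A →ₗ[A] W) = 0 := rfl
      rw [this, Functor.map_zero, zero_comp]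
    rw [hf₀] at h1
    have h2 : (1 : A ⧸ IsLocalRing.maximalIdeal A) = 0 := by
      have := congrArg L h1
      rwa [LinearEquiv.apply_symm_apply, map_zero] at this
    exact one_ne_zero h2
  · intro g
    obtain ⟨c, hc⟩ := Ideal.Quotient.mk_surjective (L (Φ g))
    refine ⟨c, ?_⟩
    apply hΦinj
    rw [hΦsmul, hf₀]
    apply L.injective
    rw [map_smul, LinearEquiv.apply_symm_apply, ← hc]
    show _ = c • (Ideal.Quotient.mk _ 1)
    rw [Algebra.smul_def, Ideal.Quotient.algebraMap_eq, ← map_mul, mul_one]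

end Socle

section DimZero

variable {A : Type u} [CommRing A] [IsLocalRing A] [IsNoetherianRing A]

omit [IsLocalRing A] [IsNoetherianRing A] in
lemma exists_iso_single_injective (ω : Dual.D A)
    (h : ∀ (J : Ideal A) (i : ℤ), (i < 0 ∨ 0 < i) →
      Subsingleton (Dual.inD A (A ⧸ J) ⟶ ω⟦i⟧)) :
    ∃ (W : ModuleCat.{u} A), Module.Injective A W ∧
      Nonempty (ω ≅ (singleFunctor (ModuleCat.{u} A) 0).obj W) := by
  obtain ⟨E, hE, hinj, ⟨e⟩⟩ := Groth.Agent.S6965.rep_of_subsingleton ω 0 0 h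
  haveI : E.IsStrictlyGE 0 := by
    rw [CochainComplex.isStrictlyGE_iff]
    intro i hi
    exact hE i (Or.inl hi)
  haveI : E.IsStrictlyLE 0 := by
    rw [CochainComplex.isStrictlyLE_iff]
    intro i hi
    exact hE i (Or.inr hi)
  obtain ⟨M, ⟨e'⟩⟩ := E.exists_iso_single 0
  refine ⟨M, ?_, ⟨e.symm ≪≫ Q.mapIso e'⟩⟩
  let iso : E.X 0 ≅ M := (HomologicalComplex.eval _ _ 0).mapIso e' ≪≫
    singleObjXSelf (ComplexShape.up ℤ) 0 M
  have h1 : Injective (E.X 0) :=
    Module.injective_object_of_injective_module A (E.X 0) (inj := hinj 0)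
  have h2 : Injective M := Injective.of_iso iso h1
  exact Module.injective_module_of_injective_object A M

/-- **S0375**. -/
theorem iso_injectiveHull_of_dim_zero (h0 : ringKrullDim A = 0) (ω : Dual.D A)
    (hω : Dual.IsDualizing A ω) (hn : Dual.IsNormalized A ω) (E : Type u) [AddCommGroup E]
    [Module A E] (f : IsLocalRing.ResidueField A →ₗ[A] E) (hf : InjHull.IsInjectiveHull f) :
    Nonempty (ω ≅ Dual.inD A E) := by
  haveI : Ring.KrullDimLE 0 A := (Ring.krullDimLE_iff).2 (le_of_eq h0)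
  haveI : IsArtinianRing A := isArtinianRing_iff_krullDimLE_zero.2 inferInstance
  have hfl : ∀ J : Ideal A, IsFiniteLength A (A ⧸ J) := fun J =>
    isFiniteLength_iff_isNoetherian_isArtinian.2 ⟨inferInstance, inferInstance⟩
  have h : ∀ (J : Ideal A) (i : ℤ), (i < 0 ∨ 0 < i) →
      Subsingleton (Dual.inD A (A ⧸ J) ⟶ ω⟦i⟧) := fun J i hi =>
    subsingleton_hom_of_isFiniteLength (ω⟦i⟧) (hn i (by lia)) (A ⧸ J) (hfl J)
  obtain ⟨W, hW, ⟨e⟩⟩ := exists_iso_single_injective ω h
  obtain ⟨f₀, hf₀, hgen⟩ := exists_socle_generator ω hω hn W e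
  have hpt : LocCoh.IsPowerTorsion (IsLocalRing.maximalIdeal A) W := by
    obtain ⟨n, hn⟩ := (isArtinianRing_iff_isNilpotent_maximalIdeal A).1 inferInstance
    intro x
    refine ⟨n, fun a ha => ?_⟩
    rw [hn] at ha
    rw [(Submodule.mem_bot A).1 ha, zero_smul]
  have hull := isInjectiveHull_of_socle W hW hpt f₀ hf₀ hgen
  obtain ⟨eq, -⟩ := Groth.Agent.S0302.result A (IsLocalRing.ResidueField A) E W f hf f₀ hull
  exact ⟨e ≪≫ (singleFunctor (ModuleCat.{u} A) 0).mapIso eq.symm.toModuleIso⟩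

end DimZero

end Groth.Agent.Lib.T2H4.LocalDual
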