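import Mathlib
import Groth.Prelude.Def_Cyc
import Groth.Agent.Lib.T2H4ClosedImmCyc
set_option backward.isDefEq.respectTransparency.types false

/-!
# Mayer–Vietoris for cycles modulo rational equivalence (helper4)

Namespace `Groth.Agent.Lib.T2H4.MV`.
-/

set_option autoImplicit false
set_option linter.style.haveILetI false
universe u
open CategoryTheory AlgebraicGeometry TopologicalSpace

namespace Groth.Agent.Lib.T2H4.MV

open Groth.Agent.Lib.T2H4.ClosedImmCyc Groth.Agent.Lib.T2H4.OrdPreimm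
  Groth.Agent.Lib.T2H4.SecOrdGen

section Cast

variable {X : Scheme.{u}}

/-- transport of a rational function along an equality of points -/
def castRes {x x' : X} (h : x = x') (f : X.residueField x) : X.residueField x' := h ▸ f

theorem castRes_ne_zero {x x' : X} (h : x = x') (f : X.residueField x) (hf : f ≠ 0) :
    castRes h f ≠ 0 := by
  subst h
  exact hf

theorem divFun_castRes (δ : X → ℤ) {x x' : X} (h : x = x') (f : X.residueField x) :
    Cyc.divFun δ x' (castRes h f) = Cyc.divFun δ x f := by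
  subst h
  rfl

/-- the opposite of a cycle rationally equivalent to zero is rationally equivalent to zero -/
theorem ratEquivZero_neg (δ : X → ℤ) (k : ℤ) (α : AlgebraicCycle X ℤ)
    (h : Cyc.RatEquivZero δ k α) : Cyc.RatEquivZero δ k (-α) := by
  obtain ⟨ι, ξ, f, hξ, hf, hloc, hsum⟩ := h
  refine ⟨ι, ξ, fun a => (f a)⁻¹, hξ, fun a => inv_ne_zero (hf a), hloc, fun x => ?_⟩
  have e1 : (-α) x = - α x := rfl
  rw [e1, hsum x, ← finsum_neg_distrib]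
  refine finsum_congr fun a => ?_
  have := divFun_zpow δ (ξ a) (f a) (hf a) (-1) x
  rw [zpow_neg_one] at this
  rw [this]
  ring

end Cast

variable {X X₁ X₂ Y : Scheme.{u}} (δ : X → ℤ) (i₁ : X₁ ⟶ X) (i₂ : X₂ ⟶ X)
  [IsClosedImmersion i₁] [IsClosedImmersion i₂]

/-- a family of principal divisors of `X` based at points of a closed subscheme `Z`, as a family on
`Z` -/
theorem exists_family_on_closed {Z : Scheme.{u}} (i : Z ⟶ X) [IsClosedImmersion i]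
    [IsLocallyNoetherian X] (hδ : Cyc.IsDimFun X δ) (k : ℤ)
    {ι : Type u} (ξ : ι → X) (f : (a : ι) → X.residueField (ξ a)) (hξk : ∀ a, δ (ξ a) = k + 1)
    (hf : ∀ a, f a ≠ 0)
    (hloc : ∀ x : X, ∃ U : Set X, IsOpen U ∧ x ∈ U ∧ {a | (closure {ξ a} ∩ U).Nonempty}.Finite)
    (hmem : ∀ a, ξ a ∈ Set.range i) :
    ∃ D : AlgebraicCycle Z ℤ, Cyc.RatEquivZero (fun z => δ (i z)) k D ∧
      (∀ z, D z = ∑ᶠ a, Cyc.divFun δ (ξ a) (f a) (i z)) ∧ D ∈ Cyc.Zk Z (fun z => δ (i z)) k := by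
  haveI : IsLocallyNoetherian Z := isLocallyNoetherian i
  have hδZ := isDimFun_comp i δ hδ
  choose ζ hζ using hmem
  let g : (a : ι) → Z.residueField (ζ a) := fun a =>
    (i.residueFieldMap (ζ a)).hom (castRes (hζ a).symm (f a))
  have hg : ∀ a, g a ≠ 0 := by
    intro a h0
    have := (residueFieldMap_bijective i (ζ a)).1 (h0.trans (map_zero _).symm)
    exact castRes_ne_zero (hζ a).symm (f a) (hf a) this
  have hdiv : ∀ a z, Cyc.divFun (fun z => δ (i z)) (ζ a) (g a) z =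
      Cyc.divFun δ (ξ a) (f a) (i z) := by
    intro a z
    rw [divFun_preimmersion i δ (ζ a) _ z, divFun_castRes]
  have hlocZ : ∀ z : Z, ∃ U : Set Z, IsOpen U ∧ z ∈ U ∧
      {a | (closure {ζ a} ∩ U).Nonempty}.Finite := by
    intro z
    obtain ⟨U, hUo, hzU, hfin⟩ := hloc (i z)
    refine ⟨i ⁻¹' U, hUo.preimage i.continuous, hzU, hfin.subset ?_⟩
    rintro a ⟨y, hy1, hy2⟩
    refine ⟨i y, ?_, hy2⟩
    have h1 : ζ a ⤳ y := specializes_iff_mem_closure.2 hy1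
    have h2 : i (ζ a) ⤳ i y := h1.map i.continuous
    rw [hζ a] at h2
    exact specializes_iff_mem_closure.1 h2
  obtain ⟨D, hD⟩ := exists_cycle_of_family (fun z => δ (i z)) hδZ ζ g hg hlocZ
  refine ⟨D, ⟨ι, ζ, g, fun a => ?_, hg, hlocZ, hD⟩, fun z => ?_, ?_⟩
  · change δ (i (ζ a)) = k + 1
    rw [hζ a]
    exact hξk a
  · rw [hD z]
    exact finsum_congr fun a => hdiv a z
  · intro z hz
    rw [hD z]
    refine finsum_eq_zero_of_forall_eq_zero fun a => ?_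
    unfold Cyc.divFun
    split_ifs with hc
    · exfalso
      apply hz
      have h1 : δ (i (ζ a)) = k + 1 := by rw [hζ a]; exact hξk a
      have h2 : δ (i z) + 1 = δ (i (ζ a)) := hc.2
      change δ (i z) = k
      omega
    · rfl

theorem finsum_subtype_add_compl {ι : Type u} (p : ι → Prop) (F : ι → ℤ)
    (hF : (Function.support F).Finite) :
    ∑ᶠ a : {a // p a}, F a + ∑ᶠ a : {a // ¬ p a}, F a = ∑ᶠ a, F a := by
  classical
  rw [finsum_subtype_eq_finsum_cond (f := F) p, finsum_subtype_eq_finsum_cond (f := F) (fun a => ¬ p a)]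
  have h1 : ∀ a, (∑ᶠ (_ : p a), F a) = if p a then F a else 0 := fun a => finsum_eq_if
  have h2 : ∀ a, (∑ᶠ (_ : ¬ p a), F a) = if ¬ p a then F a else 0 := fun a => finsum_eq_if
  rw [finsum_congr h1, finsum_congr h2, ← finsum_add_distrib]
  · refine finsum_congr fun a => ?_
    by_cases hp : p a <;> simp [hp]
  · refine hF.subset fun a ha => ?_
    rw [Function.mem_support] at ha ⊢
    intro h0
    apply ha
    simp [h0]
  · refine hF.subset fun a ha => ?_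
    rw [Function.mem_support] at ha ⊢
    intro h0
    apply ha
    simp [h0]

variable (j₁ : Y ⟶ X₁) (j₂ : Y ⟶ X₂) [IsClosedImmersion j₁] [IsClosedImmersion j₂]

/-- **Mayer–Vietoris, exactness in the middle** (sum form) -/
theorem core [IsLocallyNoetherian X] (hδ : Cyc.IsDimFun X δ)
    (hcov : Set.range i₁ ∪ Set.range i₂ = Set.univ)
    (hcomm : j₁ ≫ i₁ = j₂ ≫ i₂) (hY : Set.range (j₁ ≫ i₁) = Set.range i₁ ∩ Set.range i₂) (k : ℤ)
    (α₁ : AlgebraicCycle X₁ ℤ) (α₂ : AlgebraicCycle X₂ ℤ)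
    (h₁ : α₁ ∈ Cyc.Zk X₁ (fun x => δ (i₁ x)) k) (h₂ : α₂ ∈ Cyc.Zk X₂ (fun x => δ (i₂ x)) k)
    (h : Cyc.RatEquivZero δ k
      (AlgebraicCycle.map i₁ (fun x => δ (i₁ x)) δ α₁ +
        AlgebraicCycle.map i₂ (fun x => δ (i₂ x)) δ α₂)) :
    ∃ γ : AlgebraicCycle Y ℤ, γ ∈ Cyc.Zk Y (fun y => δ (i₁ (j₁ y))) k ∧
      Cyc.RatEquivZero (fun x => δ (i₁ x)) k
        (α₁ - AlgebraicCycle.map j₁ (fun y => δ (i₁ (j₁ y))) (fun x => δ (i₁ x)) γ) ∧
      Cyc.RatEquivZero (fun x => δ (i₂ x)) k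
        (α₂ + AlgebraicCycle.map j₂ (fun y => δ (i₁ (j₁ y))) (fun x => δ (i₂ x)) γ) := by
  classical
  obtain ⟨ι, ξ, f, hξk, hf0, hloc, hsum⟩ := h
  -- the two subfamilies
  have hlocsub : ∀ (p : ι → Prop) (x : X), ∃ U : Set X, IsOpen U ∧ x ∈ U ∧
      {a : {a // p a} | (closure {ξ a.1} ∩ U).Nonempty}.Finite := by
    intro p x
    obtain ⟨U, hUo, hxU, hfin⟩ := hloc x
    refine ⟨U, hUo, hxU, ?_⟩
    refine Set.Finite.of_finite_image (f := Subtype.val) (hfin.subset ?_) Subtype.val_injective.injOn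
    rintro _ ⟨a, ha, rfl⟩
    exact ha
  have hmem₂ : ∀ a : {a // ξ a ∉ Set.range i₁}, ξ a.1 ∈ Set.range i₂ := by
    intro a
    have : ξ a.1 ∈ Set.range i₁ ∪ Set.range i₂ := by rw [hcov]; trivial
    exact this.resolve_left a.2
  obtain ⟨D₁, hD₁rat, hD₁, hD₁k⟩ := exists_family_on_closed δ i₁ hδ k
    (fun a : {a // ξ a ∈ Set.range i₁} => ξ a.1) (fun a => f a.1) (fun a => hξk a.1)
    (fun a => hf0 a.1) (hlocsub _) (fun a => a.2)
  obtain ⟨D₂, hD₂rat, hD₂, hD₂k⟩ := exists_family_on_closed δ i₂ hδ k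
    (fun a : {a // ξ a ∉ Set.range i₁} => ξ a.1) (fun a => f a.1) (fun a => hξk a.1)
    (fun a => hf0 a.1) (hlocsub _) hmem₂
  -- the two partial sums on `X`
  let S₁ : X → ℤ := fun x => ∑ᶠ a : {a // ξ a ∈ Set.range i₁}, Cyc.divFun δ (ξ a.1) (f a.1) x
  let S₂ : X → ℤ := fun x => ∑ᶠ a : {a // ξ a ∉ Set.range i₁}, Cyc.divFun δ (ξ a.1) (f a.1) x
  have hS : ∀ x, (AlgebraicCycle.map i₁ (fun x => δ (i₁ x)) δ α₁) x +
      (AlgebraicCycle.map i₂ (fun x => δ (i₂ x)) δ α₂) x = S₁ x + S₂ x := by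
    intro x
    have e1 := hsum x
    have e2 : (AlgebraicCycle.map i₁ (fun x => δ (i₁ x)) δ α₁ +
        AlgebraicCycle.map i₂ (fun x => δ (i₂ x)) δ α₂) x =
        (AlgebraicCycle.map i₁ (fun x => δ (i₁ x)) δ α₁) x +
          (AlgebraicCycle.map i₂ (fun x => δ (i₂ x)) δ α₂) x := rfl
    rw [← e2, e1]
    refine (finsum_subtype_add_compl (fun a => ξ a ∈ Set.range i₁)
      (fun a => Cyc.divFun δ (ξ a) (f a) x) ?_).symm
    obtain ⟨U, hUo, hxU, hfin⟩ := hloc x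
    refine hfin.subset fun a ha => ?_
    rw [Function.mem_support] at ha
    unfold Cyc.divFun at ha
    split_ifs at ha with hc
    · exact ⟨x, specializes_iff_mem_closure.1 hc.1, hxU⟩
    · exact absurd rfl ha
  have hS₁out : ∀ x, x ∉ Set.range i₁ → S₁ x = 0 := by
    intro x hx
    refine finsum_eq_zero_of_forall_eq_zero fun a => ?_
    obtain ⟨z, hz⟩ := a.2
    have := divFun_eq_zero_of_notMem_range i₁ (isClosed_range i₁) δ z
      (castRes hz.symm (f a.1)) x hx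
    rw [divFun_castRes] at this
    exact this
  have hS₂out : ∀ x, x ∉ Set.range i₂ → S₂ x = 0 := by
    intro x hx
    refine finsum_eq_zero_of_forall_eq_zero fun a => ?_
    obtain ⟨z, hz⟩ := hmem₂ a
    have := divFun_eq_zero_of_notMem_range i₂ (isClosed_range i₂) δ z
      (castRes hz.symm (f a.1)) x hx
    rw [divFun_castRes] at this
    exact this
  have hS₁in : ∀ z, S₁ (i₁ z) = D₁ z := fun z => (hD₁ z).symm
  have hS₂in : ∀ z, S₂ (i₂ z) = D₂ z := fun z => (hD₂ z).symm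
  -- the common cycle `θ`
  let θ : X → ℤ := fun x => (AlgebraicCycle.map i₁ (fun x => δ (i₁ x)) δ α₁) x - S₁ x
  have hθ' : ∀ x, θ x = S₂ x - (AlgebraicCycle.map i₂ (fun x => δ (i₂ x)) δ α₂) x := by
    intro x
    have := hS x
    change (AlgebraicCycle.map i₁ (fun x => δ (i₁ x)) δ α₁) x - S₁ x = _
    omega
  have hθ₁ : ∀ z, θ (i₁ z) = α₁ z - D₁ z := by
    intro z
    change (AlgebraicCycle.map i₁ (fun x => δ (i₁ x)) δ α₁) (i₁ z) - S₁ (i₁ z) = _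
    rw [map_apply_self, hS₁in]
  have hθ₁out : ∀ x, x ∉ Set.range i₁ → θ x = 0 := by
    intro x hx
    change (AlgebraicCycle.map i₁ (fun x => δ (i₁ x)) δ α₁) x - S₁ x = _
    rw [map_apply_of_notMem i₁ δ α₁ x hx, hS₁out x hx, sub_zero]
  have hθ₂ : ∀ z, θ (i₂ z) = D₂ z - α₂ z := by
    intro z
    rw [hθ', map_apply_self, hS₂in]
  have hθ₂out : ∀ x, x ∉ Set.range i₂ → θ x = 0 := by
    intro x hx
    rw [hθ', map_apply_of_notMem i₂ δ α₂ x hx, hS₂out x hx, sub_zero]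
  -- the cycle on `Y`
  have hcommpt : ∀ y : Y, i₁ (j₁ y) = i₂ (j₂ y) := by
    intro y
    have := congrArg (fun φ : Y ⟶ X => φ y) hcomm
    simpa using this
  let A₁ : AlgebraicCycle X₁ ℤ := α₁ - D₁
  have hA₁ : ∀ z, A₁ z = α₁ z - D₁ z := fun _ => rfl
  have hA₁supp : ∀ z, A₁ z ≠ 0 → z ∈ Set.range j₁ := by
    intro z hz
    rw [hA₁, ← hθ₁] at hz
    have h2 : i₁ z ∈ Set.range i₂ := by
      by_contra hcon
      exact hz (hθ₂out _ hcon)
    have h3 : i₁ z ∈ Set.range (j₁ ≫ i₁) := by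
      rw [hY]
      exact ⟨⟨z, rfl⟩, h2⟩
    obtain ⟨y, hy⟩ := h3
    refine ⟨y, injective i₁ ?_⟩
    simpa using hy
  let γ : AlgebraicCycle Y ℤ := ofLe j₁ A₁ (fun y => A₁ (j₁ y)) (fun _ h => h)
  have hγ : ∀ y, γ y = A₁ (j₁ y) := fun _ => rfl
  have hpush₁ : AlgebraicCycle.map j₁ (fun y => δ (i₁ (j₁ y))) (fun x => δ (i₁ x)) γ = A₁ :=
    map_ofLe j₁ (fun x => δ (i₁ x)) A₁ hA₁supp
  have hδY : (fun y : Y => δ (i₁ (j₁ y))) = fun y => δ (i₂ (j₂ y)) := by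
    funext y
    rw [hcommpt]
  have hpush₂ : AlgebraicCycle.map j₂ (fun y => δ (i₁ (j₁ y))) (fun x => δ (i₂ x)) γ = D₂ - α₂ := by
    rw [hδY]
    ext x₂
    have e3 : (D₂ - α₂) x₂ = D₂ x₂ - α₂ x₂ := rfl
    by_cases hx : x₂ ∈ Set.range j₂
    · obtain ⟨y, rfl⟩ := hx
      rw [map_apply_self j₂ (fun x => δ (i₂ x)), hγ, hA₁, ← hθ₁, hcommpt, hθ₂, e3]
    · rw [map_apply_of_notMem j₂ (fun x => δ (i₂ x)) γ x₂ hx, e3, ← hθ₂]
      symm
      apply hθ₁out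
      intro hmem
      apply hx
      have h3 : i₂ x₂ ∈ Set.range (j₁ ≫ i₁) := by
        rw [hY]
        exact ⟨hmem, ⟨x₂, rfl⟩⟩
      obtain ⟨y, hy⟩ := h3
      refine ⟨y, injective i₂ ?_⟩
      rw [← hcommpt]
      simpa using hy
  refine ⟨γ, ?_, ?_, ?_⟩
  · intro y hy
    rw [hγ, hA₁, h₁ (j₁ y) hy, hD₁k (j₁ y) hy, sub_zero]
  · rw [hpush₁]
    have : α₁ - A₁ = D₁ := by
      change α₁ - (α₁ - D₁) = D₁
      abel
    rw [this]
    exact hD₁rat
  · rw [hpush₂]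
    have : α₂ + (D₂ - α₂) = D₂ := by abel
    rw [this]
    exact hD₂rat

omit [IsClosedImmersion i₂] in
theorem map_neg (α : AlgebraicCycle X₁ ℤ) :
    AlgebraicCycle.map i₁ (fun x => δ (i₁ x)) δ (-α) =
      -AlgebraicCycle.map i₁ (fun x => δ (i₁ x)) δ α := by
  ext x
  have e1 : (-AlgebraicCycle.map i₁ (fun x => δ (i₁ x)) δ α) x =
      -(AlgebraicCycle.map i₁ (fun x => δ (i₁ x)) δ α) x := rfl
  rw [e1]
  by_cases hx : x ∈ Set.range i₁
  · obtain ⟨z, rfl⟩ := hx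
    rw [map_apply_self, map_apply_self]
    rfl
  · rw [map_apply_of_notMem i₁ δ _ x hx, map_apply_of_notMem i₁ δ _ x hx, neg_zero]

/-- **Mayer–Vietoris, exactness in the middle** (difference form) -/
theorem core_sub [IsLocallyNoetherian X] (hδ : Cyc.IsDimFun X δ)
    (hcov : Set.range i₁ ∪ Set.range i₂ = Set.univ)
    (hcomm : j₁ ≫ i₁ = j₂ ≫ i₂) (hY : Set.range (j₁ ≫ i₁) = Set.range i₁ ∩ Set.range i₂) (k : ℤ)
    (α₁ : AlgebraicCycle X₁ ℤ) (α₂ : AlgebraicCycle X₂ ℤ)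
    (h₁ : α₁ ∈ Cyc.Zk X₁ (fun x => δ (i₁ x)) k) (h₂ : α₂ ∈ Cyc.Zk X₂ (fun x => δ (i₂ x)) k)
    (h : Cyc.RatEquiv δ k (AlgebraicCycle.map i₁ (fun x => δ (i₁ x)) δ α₁)
      (AlgebraicCycle.map i₂ (fun x => δ (i₂ x)) δ α₂)) :
    ∃ γ : AlgebraicCycle Y ℤ, γ ∈ Cyc.Zk Y (fun y => δ (i₁ (j₁ y))) k ∧
      Cyc.RatEquiv (fun x => δ (i₁ x)) k α₁
        (AlgebraicCycle.map j₁ (fun y => δ (i₁ (j₁ y))) (fun x => δ (i₁ x)) γ) ∧
      Cyc.RatEquiv (fun x => δ (i₂ x)) k α₂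
        (AlgebraicCycle.map j₂ (fun y => δ (i₁ (j₁ y))) (fun x => δ (i₂ x)) γ) := by
  have h₂' : -α₂ ∈ Cyc.Zk X₂ (fun x => δ (i₂ x)) k := by
    intro x hx
    have e1 : (-α₂) x = - α₂ x := rfl
    rw [e1, h₂ x hx, neg_zero]
  have h' : Cyc.RatEquivZero δ k
      (AlgebraicCycle.map i₁ (fun x => δ (i₁ x)) δ α₁ +
        AlgebraicCycle.map i₂ (fun x => δ (i₂ x)) δ (-α₂)) := by
    rw [map_neg, ← sub_eq_add_neg]
    exact h
  obtain ⟨γ, hγk, hγ₁, hγ₂⟩ := core δ i₁ i₂ j₁ j₂ hδ hcov hcomm hY k α₁ (-α₂) h₁ h₂' h'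
  refine ⟨γ, hγk, hγ₁, ?_⟩
  unfold Cyc.RatEquiv
  have := ratEquivZero_neg _ k _ hγ₂
  have e : -(-α₂ + AlgebraicCycle.map j₂ (fun y => δ (i₁ (j₁ y))) (fun x => δ (i₂ x)) γ) =
      α₂ - AlgebraicCycle.map j₂ (fun y => δ (i₁ (j₁ y))) (fun x => δ (i₂ x)) γ := by abel
  rw [e] at this
  exact this

end Groth.Agent.Lib.T2H4.MV
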