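import Mathlib
import Groth.Prelude.Def_Cyc
import Groth.Agent.Lib.T2H4MV
import Groth.Agent.Lib.Helper4DimFormulaQ
import Groth.Agent.Lib.Helper28Unmixed
import Groth.Agent.S0603
set_option backward.isDefEq.respectTransparency.types false

/-!
# The setup over a field and Mayer–Vietoris for cycles over a field (helper4)

Namespace `Groth.Agent.Lib.T2H4.MVField`.
-/

set_option autoImplicit false
set_option linter.style.haveILetI false
universe u
open CategoryTheory AlgebraicGeometry TopologicalSpace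

namespace Groth.Agent.Lib.T2H4.MVField

open Groth.Agent.Lib.T2H4.ClosedImmCyc Groth.Agent.Lib.T2H4.MV

theorem isUniversallyCatenary_of_ringEquiv {R R' : Type u} [CommRing R] [CommRing R'] (e : R ≃+* R')
    (h : CAlg.IsUniversallyCatenary R) : CAlg.IsUniversallyCatenary R' := by
  obtain ⟨hN, hcat⟩ := h
  refine ⟨isNoetherianRing_of_ringEquiv R e, ?_⟩
  intro S _ _ hft
  letI : Algebra R S := ((algebraMap R' S).comp (e : R →+* R')).toAlgebra
  refine hcat S ?_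
  obtain ⟨s, hs⟩ := hft
  refine ⟨s, ?_⟩
  rw [eq_top_iff] at hs ⊢
  intro x _
  have hx := hs (Set.mem_univ x)
  refine Algebra.adjoin_induction (p := fun y _ => y ∈ Algebra.adjoin R (s : Set S)) ?_ ?_ ?_ ?_ hx
  · intro y hy
    exact Algebra.subset_adjoin hy
  · intro r
    have : algebraMap R' S r = algebraMap R S (e.symm r) := by
      change _ = (algebraMap R' S) (e (e.symm r))
      rw [RingEquiv.apply_symm_apply]
    rw [this]
    exact Subalgebra.algebraMap_mem _ _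
  · intro y z _ _ hy hz
    exact Subalgebra.add_mem _ hy hz
  · intro y z _ _ hy hz
    exact Subalgebra.mul_mem _ hy hz

variable (k : Type u) [Field k]

/-- the spectrum of a field, with the zero dimension function, is a setup -/
theorem isSetup_Spec_field :
    Cyc.IsSetup (Spec (CommRingCat.of k)) (fun _ => 0) := by
  refine ⟨inferInstance, fun s => ?_, ?_⟩
  · letI : Algebra k ((Spec (CommRingCat.of k)).presheaf.stalk s) :=
      StructureSheaf.stalkAlgebra k s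
    haveI : IsLocalization.AtPrime ((Spec (CommRingCat.of k)).presheaf.stalk s) s.asIdeal :=
      StructureSheaf.IsLocalization.to_stalk k s
    have H : s.asIdeal.primeCompl ≤ IsUnit.submonoid k := by
      intro x hx
      have hx0 : x ≠ 0 := by
        rintro rfl
        exact hx (Ideal.zero_mem _)
      exact (isUnit_iff_ne_zero.2 hx0 : IsUnit x)
    let e : k ≃ₐ[k] (Spec (CommRingCat.of k)).presheaf.stalk s :=
      IsLocalization.atUnits k s.asIdeal.primeCompl H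
    haveI := Groth.Agent.Lib.Helper28.isCohenMacaulayRing_of_field k
    exact isUniversallyCatenary_of_ringEquiv e.toRingEquiv (Groth.Agent.S0603.result k)
  · intro x y _ hne
    exact absurd (Subsingleton.elim x y) hne

variable {k}
variable {X : Scheme.{u}} (c : X ⟶ Spec (CommRingCat.of k)) [LocallyOfFiniteType c]

include c in
theorem isLocallyNoetherian_of_field : IsLocallyNoetherian X :=
  LocallyOfFiniteType.isLocallyNoetherian c

theorem isDimFun_of_field (δ : X → ℤ) (hδ : Cyc.DeltaCompat c δ (fun _ => 0)) :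
    Cyc.IsDimFun X δ :=
  Groth.Agent.Lib.Helper4.DimFormula.isDimFun_of_deltaCompat c (fun _ => 0) (isSetup_Spec_field k)
    δ hδ

section Surj

variable {X₁ X₂ : Scheme.{u}} (δ : X → ℤ) (i₁ : X₁ ⟶ X) (i₂ : X₂ ⟶ X)
  [IsClosedImmersion i₁] [IsClosedImmersion i₂]

omit [LocallyOfFiniteType c] in
/-- every cycle on `X = X₁ ∪ X₂` is a sum of pushforwards -/
theorem exists_sum (hcov : Set.range i₁ ∪ Set.range i₂ = Set.univ) (n : ℤ)
    (α : AlgebraicCycle X ℤ) (hα : α ∈ Cyc.Zk X δ n) :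
    ∃ (α₁ : AlgebraicCycle X₁ ℤ) (α₂ : AlgebraicCycle X₂ ℤ),
      α₁ ∈ Cyc.Zk X₁ (fun x => δ (i₁ x)) n ∧ α₂ ∈ Cyc.Zk X₂ (fun x => δ (i₂ x)) n ∧
      α = AlgebraicCycle.map i₁ (fun x => δ (i₁ x)) δ α₁ +
        AlgebraicCycle.map i₂ (fun x => δ (i₂ x)) δ α₂ := by
  classical
  let α₁ : AlgebraicCycle X₁ ℤ := ofLe i₁ α (fun z => α (i₁ z)) (fun _ h => h)
  let α₂ : AlgebraicCycle X₂ ℤ := ofLe i₂ α
    (fun z => if i₂ z ∈ Set.range i₁ then 0 else α (i₂ z)) (fun z h => by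
      by_cases hz : i₂ z ∈ Set.range i₁
      · rw [if_pos hz] at h
        exact absurd rfl h
      · rw [if_neg hz] at h
        exact h)
  have hα₁ : ∀ z, α₁ z = α (i₁ z) := fun _ => rfl
  have hα₂ : ∀ z, α₂ z = if i₂ z ∈ Set.range i₁ then 0 else α (i₂ z) := fun _ => rfl
  refine ⟨α₁, α₂, fun z hz => ?_, fun z hz => ?_, ?_⟩
  · rw [hα₁]
    exact hα _ hz
  · rw [hα₂]
    split_ifs
    · rfl
    · exact hα _ hz
  · ext x
    have e1 : (AlgebraicCycle.map i₁ (fun x => δ (i₁ x)) δ α₁ +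
        AlgebraicCycle.map i₂ (fun x => δ (i₂ x)) δ α₂) x =
        (AlgebraicCycle.map i₁ (fun x => δ (i₁ x)) δ α₁) x +
          (AlgebraicCycle.map i₂ (fun x => δ (i₂ x)) δ α₂) x := rfl
    rw [e1]
    by_cases hx₁ : x ∈ Set.range i₁
    · have h2 : (AlgebraicCycle.map i₂ (fun x => δ (i₂ x)) δ α₂) x = 0 := by
        by_cases hx₂ : x ∈ Set.range i₂
        · obtain ⟨z₂, rfl⟩ := hx₂
          rw [map_apply_self, hα₂, if_pos hx₁]
        · exact map_apply_of_notMem i₂ δ α₂ x hx₂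
      obtain ⟨z, rfl⟩ := hx₁
      rw [h2, map_apply_self, hα₁, add_zero]
    · have hx₂ : x ∈ Set.range i₂ := by
        have : x ∈ Set.range i₁ ∪ Set.range i₂ := by rw [hcov]; trivial
        exact this.resolve_left hx₁
      rw [map_apply_of_notMem i₁ δ α₁ x hx₁, zero_add]
      obtain ⟨z₂, rfl⟩ := hx₂
      rw [map_apply_self, hα₂, if_neg hx₁]

end Surj

/-- **Mayer–Vietoris for cycles on a scheme locally of finite type over a field** -/
theorem main (δ : X → ℤ) (hδ : Cyc.DeltaCompat c δ (fun _ => 0))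
    {X₁ X₂ Y : Scheme.{u}} (i₁ : X₁ ⟶ X) (i₂ : X₂ ⟶ X) [IsClosedImmersion i₁] [IsClosedImmersion i₂]
    (hcov : Set.range i₁ ∪ Set.range i₂ = Set.univ)
    (j₁ : Y ⟶ X₁) (j₂ : Y ⟶ X₂) [IsClosedImmersion j₁] [IsClosedImmersion j₂]
    (hcomm : j₁ ≫ i₁ = j₂ ≫ i₂) (hY : Set.range (j₁ ≫ i₁) = Set.range i₁ ∩ Set.range i₂) (n : ℤ) :
    (∀ α : AlgebraicCycle X ℤ, α ∈ Cyc.Zk X δ n →
      ∃ (α₁ : AlgebraicCycle X₁ ℤ) (α₂ : AlgebraicCycle X₂ ℤ),
        α₁ ∈ Cyc.Zk X₁ (fun x => δ (i₁ x)) n ∧ α₂ ∈ Cyc.Zk X₂ (fun x => δ (i₂ x)) n ∧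
        α = AlgebraicCycle.map i₁ (fun x => δ (i₁ x)) δ α₁ +
          AlgebraicCycle.map i₂ (fun x => δ (i₂ x)) δ α₂) ∧
    (∀ (α₁ : AlgebraicCycle X₁ ℤ) (α₂ : AlgebraicCycle X₂ ℤ),
      α₁ ∈ Cyc.Zk X₁ (fun x => δ (i₁ x)) n → α₂ ∈ Cyc.Zk X₂ (fun x => δ (i₂ x)) n →
      Cyc.RatEquivZero δ n
        (AlgebraicCycle.map i₁ (fun x => δ (i₁ x)) δ α₁ +
          AlgebraicCycle.map i₂ (fun x => δ (i₂ x)) δ α₂) →
      ∃ γ : AlgebraicCycle Y ℤ, γ ∈ Cyc.Zk Y (fun y => δ (i₁ (j₁ y))) n ∧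
        Cyc.RatEquiv (fun x => δ (i₁ x)) n α₁
          (AlgebraicCycle.map j₁ (fun y => δ (i₁ (j₁ y))) (fun x => δ (i₁ x)) γ) ∧
        Cyc.RatEquiv (fun x => δ (i₂ x)) n α₂
          (-AlgebraicCycle.map j₂ (fun y => δ (i₁ (j₁ y))) (fun x => δ (i₂ x)) γ)) := by
  haveI : IsLocallyNoetherian X := isLocallyNoetherian_of_field c
  have hdim := isDimFun_of_field c δ hδ
  refine ⟨fun α hα => exists_sum δ i₁ i₂ hcov n α hα, fun α₁ α₂ h₁ h₂ h => ?_⟩
  obtain ⟨γ, hγk, hγ₁, hγ₂⟩ := core δ i₁ i₂ j₁ j₂ hdim hcov hcomm hY n α₁ α₂ h₁ h₂ h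
  refine ⟨γ, hγk, hγ₁, ?_⟩
  unfold Cyc.RatEquiv
  rw [sub_neg_eq_add]
  exact hγ₂

end Groth.Agent.Lib.T2H4.MVField
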