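import Std
import Batteries
import Mathlib.Algebra.AddConstMap.Basic
import Mathlib.Algebra.AddConstMap.Equiv
import Mathlib.Algebra.AddTorsor.Basic
import Mathlib.Algebra.AddTorsor.Defs
import Mathlib.Algebra.AffineMonoid.Basic
import Mathlib.Algebra.AffineMonoid.Embedding
import Mathlib.Algebra.AffineMonoid.Irreducible
import Mathlib.Algebra.AffineMonoid.UniqueSums
import Mathlib.Algebra.Algebra.Basic
import Mathlib.Algebra.Algebra.Bilinear
import Mathlib.Algebra.Algebra.Defs
import Mathlib.Algebra.Algebra.Epi
import Mathlib.Algebra.Algebra.Equiv
import Mathlib.Algebra.Algebra.Field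
import Mathlib.Algebra.Algebra.Hom
import Mathlib.Algebra.Algebra.Hom.Rat
import Mathlib.Algebra.Algebra.IsSimpleRing
import Mathlib.Algebra.Algebra.NonUnitalHom
import Mathlib.Algebra.Algebra.NonUnitalSubalgebra
import Mathlib.Algebra.Algebra.Operations
import Mathlib.Algebra.Algebra.Opposite
import Mathlib.Algebra.Algebra.Pi
import Mathlib.Algebra.Algebra.Prod
import Mathlib.Algebra.Algebra.Rat
import Mathlib.Algebra.Algebra.RestrictScalars
import Mathlib.Algebra.Algebra.Shrink
import Mathlib.Algebra.Algebra.Spectrum.Basic
import Mathlib.Algebra.Algebra.Spectrum.Pi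
import Mathlib.Algebra.Algebra.Spectrum.Quasispectrum
import Mathlib.Algebra.Algebra.StrictPositivity
import Mathlib.Algebra.Algebra.Subalgebra.Basic
import Mathlib.Algebra.Algebra.Subalgebra.Centralizer
import Mathlib.Algebra.Algebra.Subalgebra.Directed
import Mathlib.Algebra.Algebra.Subalgebra.IsSimpleOrder
import Mathlib.Algebra.Algebra.Subalgebra.Lattice
import Mathlib.Algebra.Algebra.Subalgebra.Matrix
import Mathlib.Algebra.Algebra.Subalgebra.MulOpposite
import Mathlib.Algebra.Algebra.Subalgebra.Operations
import Mathlib.Algebra.Algebra.Subalgebra.Order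
import Mathlib.Algebra.Algebra.Subalgebra.Pi
import Mathlib.Algebra.Algebra.Subalgebra.Pointwise
import Mathlib.Algebra.Algebra.Subalgebra.Prod
import Mathlib.Algebra.Algebra.Subalgebra.Rank
import Mathlib.Algebra.Algebra.Subalgebra.Tower
import Mathlib.Algebra.Algebra.Subalgebra.Unitization
import Mathlib.Algebra.Algebra.Tower
import Mathlib.Algebra.Algebra.TransferInstance
import Mathlib.Algebra.Algebra.Unitization
import Mathlib.Algebra.Algebra.ZMod
import Mathlib.Algebra.AlgebraicCard
import Mathlib.Algebra.Azumaya.Basic
import Mathlib.Algebra.Azumaya.Defs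
import Mathlib.Algebra.Azumaya.Matrix
import Mathlib.Algebra.BigOperators.Associated
import Mathlib.Algebra.BigOperators.Balance
import Mathlib.Algebra.BigOperators.Expect
import Mathlib.Algebra.BigOperators.Field
import Mathlib.Algebra.BigOperators.Fin
import Mathlib.Algebra.BigOperators.Finprod
import Mathlib.Algebra.BigOperators.Finsupp.Basic
import Mathlib.Algebra.BigOperators.Finsupp.Fin
import Mathlib.Algebra.BigOperators.Group.Finset.Basic
import Mathlib.Algebra.BigOperators.Group.Finset.Defs
import Mathlib.Algebra.BigOperators.Group.Finset.Gaps
import Mathlib.Algebra.BigOperators.Group.Finset.Indicator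
import Mathlib.Algebra.BigOperators.Group.Finset.Interval
import Mathlib.Algebra.BigOperators.Group.Finset.Lemmas
import Mathlib.Algebra.BigOperators.Group.Finset.Pi
import Mathlib.Algebra.BigOperators.Group.Finset.Piecewise
import Mathlib.Algebra.BigOperators.Group.Finset.Powerset
import Mathlib.Algebra.BigOperators.Group.Finset.Preimage
import Mathlib.Algebra.BigOperators.Group.Finset.Sigma
import Mathlib.Algebra.BigOperators.Group.List.Basic
import Mathlib.Algebra.BigOperators.Group.List.Defs
import Mathlib.Algebra.BigOperators.Group.List.Lemmas
import Mathlib.Algebra.BigOperators.Group.Multiset.Basic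
import Mathlib.Algebra.BigOperators.Group.Multiset.Defs
import Mathlib.Algebra.BigOperators.GroupWithZero.Action
import Mathlib.Algebra.BigOperators.GroupWithZero.Finset
import Mathlib.Algebra.BigOperators.Intervals
import Mathlib.Algebra.BigOperators.ModEq
import Mathlib.Algebra.BigOperators.Module
import Mathlib.Algebra.BigOperators.NatAntidiagonal
import Mathlib.Algebra.BigOperators.Option
import Mathlib.Algebra.BigOperators.Pi
import Mathlib.Algebra.BigOperators.Ring.Finset
import Mathlib.Algebra.BigOperators.Ring.List
import Mathlib.Algebra.BigOperators.Ring.Multiset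
import Mathlib.Algebra.BigOperators.Ring.Nat
import Mathlib.Algebra.BigOperators.RingEquiv
import Mathlib.Algebra.BigOperators.Sym
import Mathlib.Algebra.BigOperators.WithTop
import Mathlib.Algebra.BrauerGroup.Defs
import Mathlib.Algebra.Category.AlgCat.Basic
import Mathlib.Algebra.Category.AlgCat.FilteredColimits
import Mathlib.Algebra.Category.AlgCat.Limits
import Mathlib.Algebra.Category.AlgCat.Monoidal
import Mathlib.Algebra.Category.AlgCat.Symmetric
import Mathlib.Algebra.Category.AlgCat.TensorAlgebra
import Mathlib.Algebra.Category.BialgCat.Basic
import Mathlib.Algebra.Category.BialgCat.Monoidal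
import Mathlib.Algebra.Category.BoolRing
import Mathlib.Algebra.Category.CoalgCat.Basic
import Mathlib.Algebra.Category.CoalgCat.ComonEquivalence
import Mathlib.Algebra.Category.CoalgCat.Monoidal
import Mathlib.Algebra.Category.CommAlgCat.Basic
import Mathlib.Algebra.Category.CommAlgCat.FiniteType
import Mathlib.Algebra.Category.CommAlgCat.Monoidal
import Mathlib.Algebra.Category.CommBialgCat
import Mathlib.Algebra.Category.CommHopfAlgCat
import Mathlib.Algebra.Category.FGModuleCat.Abelian
import Mathlib.Algebra.Category.FGModuleCat.Basic
import Mathlib.Algebra.Category.FGModuleCat.Colimits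
import Mathlib.Algebra.Category.FGModuleCat.EssentiallySmall
import Mathlib.Algebra.Category.FGModuleCat.Limits
import Mathlib.Algebra.Category.Grp.AB
import Mathlib.Algebra.Category.Grp.Abelian
import Mathlib.Algebra.Category.Grp.Adjunctions
import Mathlib.Algebra.Category.Grp.Basic
import Mathlib.Algebra.Category.Grp.Biproducts
import Mathlib.Algebra.Category.Grp.CartesianMonoidal
import Mathlib.Algebra.Category.Grp.Colimits
import Mathlib.Algebra.Category.Grp.EnoughInjectives
import Mathlib.Algebra.Category.Grp.EpiMono
import Mathlib.Algebra.Category.Grp.EquivalenceGroupAddGroup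
import Mathlib.Algebra.Category.Grp.FilteredColimits
import Mathlib.Algebra.Category.Grp.FiniteGrp
import Mathlib.Algebra.Category.Grp.ForgetCorepresentable
import Mathlib.Algebra.Category.Grp.Images
import Mathlib.Algebra.Category.Grp.Injective
import Mathlib.Algebra.Category.Grp.IsFinite
import Mathlib.Algebra.Category.Grp.Kernels
import Mathlib.Algebra.Category.Grp.LargeColimits
import Mathlib.Algebra.Category.Grp.LeftExactFunctor
import Mathlib.Algebra.Category.Grp.Limits
import Mathlib.Algebra.Category.Grp.Preadditive
import Mathlib.Algebra.Category.Grp.Shrink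
import Mathlib.Algebra.Category.Grp.Subobject
import Mathlib.Algebra.Category.Grp.Ulift
import Mathlib.Algebra.Category.Grp.Yoneda
import Mathlib.Algebra.Category.Grp.ZModuleEquivalence
import Mathlib.Algebra.Category.Grp.Zero
import Mathlib.Algebra.Category.GrpWithZero
import Mathlib.Algebra.Category.HopfAlgCat.Basic
import Mathlib.Algebra.Category.HopfAlgCat.Monoidal
import Mathlib.Algebra.Category.ModuleCat.AB
import Mathlib.Algebra.Category.ModuleCat.Abelian
import Mathlib.Algebra.Category.ModuleCat.Adjunctions
import Mathlib.Algebra.Category.ModuleCat.Algebra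
import Mathlib.Algebra.Category.ModuleCat.Basic
import Mathlib.Algebra.Category.ModuleCat.Biproducts
import Mathlib.Algebra.Category.ModuleCat.ChangeOfRings
import Mathlib.Algebra.Category.ModuleCat.ChangeOfRingsExact
import Mathlib.Algebra.Category.ModuleCat.Colimits
import Mathlib.Algebra.Category.ModuleCat.Descent
import Mathlib.Algebra.Category.ModuleCat.Differentials.Basic
import Mathlib.Algebra.Category.ModuleCat.Differentials.Presheaf
import Mathlib.Algebra.Category.ModuleCat.EnoughInjectives
import Mathlib.Algebra.Category.ModuleCat.EpiMono
import Mathlib.Algebra.Category.ModuleCat.Ext.Basic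
import Mathlib.Algebra.Category.ModuleCat.Ext.DimensionShifting
import Mathlib.Algebra.Category.ModuleCat.Ext.Finite
import Mathlib.Algebra.Category.ModuleCat.Ext.HasExt
import Mathlib.Algebra.Category.ModuleCat.ExteriorPower
import Mathlib.Algebra.Category.ModuleCat.FilteredColimits
import Mathlib.Algebra.Category.ModuleCat.Free
import Mathlib.Algebra.Category.ModuleCat.Images
import Mathlib.Algebra.Category.ModuleCat.Injective
import Mathlib.Algebra.Category.ModuleCat.InjectiveDimension
import Mathlib.Algebra.Category.ModuleCat.Kernels
import Mathlib.Algebra.Category.ModuleCat.LeftResolution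
import Mathlib.Algebra.Category.ModuleCat.Limits
import Mathlib.Algebra.Category.ModuleCat.Localization
import Mathlib.Algebra.Category.ModuleCat.Monoidal.Adjunction
import Mathlib.Algebra.Category.ModuleCat.Monoidal.Basic
import Mathlib.Algebra.Category.ModuleCat.Monoidal.Closed
import Mathlib.Algebra.Category.ModuleCat.Monoidal.Symmetric
import Mathlib.Algebra.Category.ModuleCat.Presheaf
import Mathlib.Algebra.Category.ModuleCat.Presheaf.Abelian
import Mathlib.Algebra.Category.ModuleCat.Presheaf.ChangeOfRings
import Mathlib.Algebra.Category.ModuleCat.Presheaf.ColimitFunctor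
import Mathlib.Algebra.Category.ModuleCat.Presheaf.Colimits
import Mathlib.Algebra.Category.ModuleCat.Presheaf.EpiMono
import Mathlib.Algebra.Category.ModuleCat.Presheaf.Free
import Mathlib.Algebra.Category.ModuleCat.Presheaf.Generator
import Mathlib.Algebra.Category.ModuleCat.Presheaf.Limits
import Mathlib.Algebra.Category.ModuleCat.Presheaf.Monoidal
import Mathlib.Algebra.Category.ModuleCat.Presheaf.Pullback
import Mathlib.Algebra.Category.ModuleCat.Presheaf.Pushforward
import Mathlib.Algebra.Category.ModuleCat.Presheaf.PushforwardZeroMonoidal
import Mathlib.Algebra.Category.ModuleCat.Presheaf.Sheafification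
import Mathlib.Algebra.Category.ModuleCat.Presheaf.Sheafify
import Mathlib.Algebra.Category.ModuleCat.Presheaf.Submodule
import Mathlib.Algebra.Category.ModuleCat.Products
import Mathlib.Algebra.Category.ModuleCat.Projective
import Mathlib.Algebra.Category.ModuleCat.ProjectiveDimension
import Mathlib.Algebra.Category.ModuleCat.Pseudofunctor
import Mathlib.Algebra.Category.ModuleCat.Semi
import Mathlib.Algebra.Category.ModuleCat.Sheaf
import Mathlib.Algebra.Category.ModuleCat.Sheaf.Abelian
import Mathlib.Algebra.Category.ModuleCat.Sheaf.ChangeOfRings
import Mathlib.Algebra.Category.ModuleCat.Sheaf.Colimits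
import Mathlib.Algebra.Category.ModuleCat.Sheaf.Free
import Mathlib.Algebra.Category.ModuleCat.Sheaf.Generators
import Mathlib.Algebra.Category.ModuleCat.Sheaf.Limits
import Mathlib.Algebra.Category.ModuleCat.Sheaf.Localization
import Mathlib.Algebra.Category.ModuleCat.Sheaf.LocallyFree
import Mathlib.Algebra.Category.ModuleCat.Sheaf.PullbackContinuous
import Mathlib.Algebra.Category.ModuleCat.Sheaf.PullbackFree
import Mathlib.Algebra.Category.ModuleCat.Sheaf.PushforwardContinuous
import Mathlib.Algebra.Category.ModuleCat.Sheaf.Quasicoherent
import Mathlib.Algebra.Category.ModuleCat.Simple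
import Mathlib.Algebra.Category.ModuleCat.Stalk
import Mathlib.Algebra.Category.ModuleCat.Subobject
import Mathlib.Algebra.Category.ModuleCat.Tannaka
import Mathlib.Algebra.Category.ModuleCat.Topology.Basic
import Mathlib.Algebra.Category.ModuleCat.Topology.Homology
import Mathlib.Algebra.Category.ModuleCat.Ulift
import Mathlib.Algebra.Category.MonCat.Adjunctions
import Mathlib.Algebra.Category.MonCat.Basic
import Mathlib.Algebra.Category.MonCat.Colimits
import Mathlib.Algebra.Category.MonCat.FilteredColimits
import Mathlib.Algebra.Category.MonCat.ForgetCorepresentable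
import Mathlib.Algebra.Category.MonCat.Limits
import Mathlib.Algebra.Category.MonCat.Shrink
import Mathlib.Algebra.Category.MonCat.Yoneda
import Mathlib.Algebra.Category.Ring.Adjunctions
import Mathlib.Algebra.Category.Ring.Basic
import Mathlib.Algebra.Category.Ring.Colimits
import Mathlib.Algebra.Category.Ring.Constructions
import Mathlib.Algebra.Category.Ring.Epi
import Mathlib.Algebra.Category.Ring.EqualizerPushout
import Mathlib.Algebra.Category.Ring.FilteredColimits
import Mathlib.Algebra.Category.Ring.FinitePresentation
import Mathlib.Algebra.Category.Ring.Instances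
import Mathlib.Algebra.Category.Ring.Limits
import Mathlib.Algebra.Category.Ring.LinearAlgebra
import Mathlib.Algebra.Category.Ring.Small
import Mathlib.Algebra.Category.Ring.Topology
import Mathlib.Algebra.Category.Ring.Under.Basic
import Mathlib.Algebra.Category.Ring.Under.Limits
import Mathlib.Algebra.Category.Ring.Under.Property
import Mathlib.Algebra.Category.Semigrp.Basic
import Mathlib.Algebra.Central.Basic
import Mathlib.Algebra.Central.Defs
import Mathlib.Algebra.Central.End
import Mathlib.Algebra.Central.Matrix
import Mathlib.Algebra.Central.TensorProduct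
import Mathlib.Algebra.CharP.Algebra
import Mathlib.Algebra.CharP.Basic
import Mathlib.Algebra.CharP.CharAndCard
import Mathlib.Algebra.CharP.Defs
import Mathlib.Algebra.CharP.Frobenius
import Mathlib.Algebra.CharP.IntermediateField
import Mathlib.Algebra.CharP.Invertible
import Mathlib.Algebra.CharP.Lemmas
import Mathlib.Algebra.CharP.LinearMaps
import Mathlib.Algebra.CharP.LocalRing
import Mathlib.Algebra.CharP.MixedCharZero
import Mathlib.Algebra.CharP.Pi
import Mathlib.Algebra.CharP.Quotient
import Mathlib.Algebra.CharP.Reduced
import Mathlib.Algebra.CharP.Subring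
import Mathlib.Algebra.CharP.Two
import Mathlib.Algebra.CharZero.AddMonoidHom
import Mathlib.Algebra.CharZero.Defs
import Mathlib.Algebra.CharZero.Infinite
import Mathlib.Algebra.CharZero.Quotient
import Mathlib.Algebra.Colimit.DirectLimit
import Mathlib.Algebra.Colimit.Finiteness
import Mathlib.Algebra.Colimit.Module
import Mathlib.Algebra.Colimit.Ring
import Mathlib.Algebra.Colimit.TensorProduct
import Mathlib.Algebra.ContinuedFractions.Basic
import Mathlib.Algebra.ContinuedFractions.Computation.ApproximationCorollaries
import Mathlib.Algebra.ContinuedFractions.Computation.Approximations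
import Mathlib.Algebra.ContinuedFractions.Computation.Basic
import Mathlib.Algebra.ContinuedFractions.Computation.CorrectnessTerminating
import Mathlib.Algebra.ContinuedFractions.Computation.TerminatesIffRat
import Mathlib.Algebra.ContinuedFractions.Computation.Translations
import Mathlib.Algebra.ContinuedFractions.ContinuantsRecurrence
import Mathlib.Algebra.ContinuedFractions.ConvergentsEquiv
import Mathlib.Algebra.ContinuedFractions.Determinant
import Mathlib.Algebra.ContinuedFractions.TerminatedStable
import Mathlib.Algebra.ContinuedFractions.Translations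
import Mathlib.Algebra.CubicDiscriminant
import Mathlib.Algebra.DirectSum.AddChar
import Mathlib.Algebra.DirectSum.Algebra
import Mathlib.Algebra.DirectSum.Basic
import Mathlib.Algebra.DirectSum.Decomposition
import Mathlib.Algebra.DirectSum.Finsupp
import Mathlib.Algebra.DirectSum.Idempotents
import Mathlib.Algebra.DirectSum.Internal
import Mathlib.Algebra.DirectSum.LinearMap
import Mathlib.Algebra.DirectSum.Module
import Mathlib.Algebra.DirectSum.Ring
import Mathlib.Algebra.Divisibility.Basic
import Mathlib.Algebra.Divisibility.Finite
import Mathlib.Algebra.Divisibility.Hom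
import Mathlib.Algebra.Divisibility.Prod
import Mathlib.Algebra.Divisibility.Units
import Mathlib.Algebra.DualNumber
import Mathlib.Algebra.DualQuaternion
import Mathlib.Algebra.EuclideanDomain.Basic
import Mathlib.Algebra.EuclideanDomain.Defs
import Mathlib.Algebra.EuclideanDomain.Field
import Mathlib.Algebra.EuclideanDomain.Int
import Mathlib.Algebra.Exact
import Mathlib.Algebra.Exact.Basic
import Mathlib.Algebra.Exact.Sequence
import Mathlib.Algebra.Expr
import Mathlib.Algebra.Field.Action.ConjAct
import Mathlib.Algebra.Field.Basic
import Mathlib.Algebra.Field.Defs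
import Mathlib.Algebra.Field.Equiv
import Mathlib.Algebra.Field.GeomSum
import Mathlib.Algebra.Field.IsField
import Mathlib.Algebra.Field.MinimalAxioms
import Mathlib.Algebra.Field.ModEq
import Mathlib.Algebra.Field.NegOnePow
import Mathlib.Algebra.Field.Opposite
import Mathlib.Algebra.Field.Periodic
import Mathlib.Algebra.Field.Power
import Mathlib.Algebra.Field.Rat
import Mathlib.Algebra.Field.Shrink
import Mathlib.Algebra.Field.Subfield.Basic
import Mathlib.Algebra.Field.Subfield.Defs
import Mathlib.Algebra.Field.TransferInstance
import Mathlib.Algebra.Field.ULift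
import Mathlib.Algebra.Field.ZMod
import Mathlib.Algebra.FiniteSupport.Basic
import Mathlib.Algebra.FiniteSupport.Defs
import Mathlib.Algebra.FiveLemma
import Mathlib.Algebra.Free
import Mathlib.Algebra.FreeAbelianGroup.Finsupp
import Mathlib.Algebra.FreeAbelianGroup.UniqueSums
import Mathlib.Algebra.FreeAlgebra
import Mathlib.Algebra.FreeAlgebra.Cardinality
import Mathlib.Algebra.FreeMonoid.Basic
import Mathlib.Algebra.FreeMonoid.Count
import Mathlib.Algebra.FreeMonoid.FreeSemigroup
import Mathlib.Algebra.FreeMonoid.Symbols
import Mathlib.Algebra.FreeMonoid.UniqueProds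
import Mathlib.Algebra.FreeNonUnitalNonAssocAlgebra
import Mathlib.Algebra.GCDMonoid.Basic
import Mathlib.Algebra.GCDMonoid.Finset
import Mathlib.Algebra.GCDMonoid.FinsetLemmas
import Mathlib.Algebra.GCDMonoid.IntegrallyClosed
import Mathlib.Algebra.GCDMonoid.Multiset
import Mathlib.Algebra.GCDMonoid.Nat
import Mathlib.Algebra.GCDMonoid.PUnit
import Mathlib.Algebra.GradedMonoid
import Mathlib.Algebra.GradedMulAction
import Mathlib.Algebra.Group.Action.Basic
import Mathlib.Algebra.Group.Action.Defs
import Mathlib.Algebra.Group.Action.End
import Mathlib.Algebra.Group.Action.Equidecomp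
import Mathlib.Algebra.Group.Action.Faithful
import Mathlib.Algebra.Group.Action.Hom
import Mathlib.Algebra.Group.Action.Opposite
import Mathlib.Algebra.Group.Action.Option
import Mathlib.Algebra.Group.Action.Pi
import Mathlib.Algebra.Group.Action.Pointwise.Finset
import Mathlib.Algebra.Group.Action.Pointwise.Set.Basic
import Mathlib.Algebra.Group.Action.Pointwise.Set.Finite
import Mathlib.Algebra.Group.Action.Pretransitive
import Mathlib.Algebra.Group.Action.Prod
import Mathlib.Algebra.Group.Action.Sigma
import Mathlib.Algebra.Group.Action.Sum
import Mathlib.Algebra.Group.Action.TransferInstance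
import Mathlib.Algebra.Group.Action.TypeTags
import Mathlib.Algebra.Group.Action.Units
import Mathlib.Algebra.Group.AddChar
import Mathlib.Algebra.Group.Basic
import Mathlib.Algebra.Group.Center
import Mathlib.Algebra.Group.Commutator
import Mathlib.Algebra.Group.Commute.Basic
import Mathlib.Algebra.Group.Commute.Defs
import Mathlib.Algebra.Group.Commute.Hom
import Mathlib.Algebra.Group.Commute.Units
import Mathlib.Algebra.Group.Conj
import Mathlib.Algebra.Group.ConjFinite
import Mathlib.Algebra.Group.Defs
import Mathlib.Algebra.Group.Embedding
import Mathlib.Algebra.Group.End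
import Mathlib.Algebra.Group.Equiv.Basic
import Mathlib.Algebra.Group.Equiv.Defs
import Mathlib.Algebra.Group.Equiv.Finite
import Mathlib.Algebra.Group.Equiv.Opposite
import Mathlib.Algebra.Group.Equiv.TypeTags
import Mathlib.Algebra.Group.Even
import Mathlib.Algebra.Group.EvenFunction
import Mathlib.Algebra.Group.Ext
import Mathlib.Algebra.Group.Fin.Basic
import Mathlib.Algebra.Group.Fin.Tuple
import Mathlib.Algebra.Group.Finsupp
import Mathlib.Algebra.Group.ForwardDiff
import Mathlib.Algebra.Group.Graph
import Mathlib.Algebra.Group.Hom.Basic
import Mathlib.Algebra.Group.Hom.CompTypeclasses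
import Mathlib.Algebra.Group.Hom.Defs
import Mathlib.Algebra.Group.Hom.End
import Mathlib.Algebra.Group.Hom.Instances
import Mathlib.Algebra.Group.Ideal
import Mathlib.Algebra.Group.Idempotent
import Mathlib.Algebra.Group.Indicator
import Mathlib.Algebra.Group.InjSurj
import Mathlib.Algebra.Group.Int.Defs
import Mathlib.Algebra.Group.Int.Even
import Mathlib.Algebra.Group.Int.TypeTags
import Mathlib.Algebra.Group.Int.Units
import Mathlib.Algebra.Group.Invertible.Basic
import Mathlib.Algebra.Group.Invertible.Defs
import Mathlib.Algebra.Group.Irreducible.Defs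
import Mathlib.Algebra.Group.Irreducible.Indecomposable
import Mathlib.Algebra.Group.Irreducible.Lemmas
import Mathlib.Algebra.Group.MinimalAxioms
import Mathlib.Algebra.Group.ModEq
import Mathlib.Algebra.Group.Nat.Defs
import Mathlib.Algebra.Group.Nat.Even
import Mathlib.Algebra.Group.Nat.Hom
import Mathlib.Algebra.Group.Nat.Range
import Mathlib.Algebra.Group.Nat.TypeTags
import Mathlib.Algebra.Group.Nat.Units
import Mathlib.Algebra.Group.NatPowAssoc
import Mathlib.Algebra.Group.Opposite
import Mathlib.Algebra.Group.PNatPowAssoc
import Mathlib.Algebra.Group.PUnit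
import Mathlib.Algebra.Group.Pi.Basic
import Mathlib.Algebra.Group.Pi.Lemmas
import Mathlib.Algebra.Group.Pi.Units
import Mathlib.Algebra.Group.Pointwise.Finset.Basic
import Mathlib.Algebra.Group.Pointwise.Finset.BigOperators
import Mathlib.Algebra.Group.Pointwise.Finset.Density
import Mathlib.Algebra.Group.Pointwise.Finset.Interval
import Mathlib.Algebra.Group.Pointwise.Finset.Scalar
import Mathlib.Algebra.Group.Pointwise.Set.Basic
import Mathlib.Algebra.Group.Pointwise.Set.BigOperators
import Mathlib.Algebra.Group.Pointwise.Set.Card
import Mathlib.Algebra.Group.Pointwise.Set.Finite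
import Mathlib.Algebra.Group.Pointwise.Set.Lattice
import Mathlib.Algebra.Group.Pointwise.Set.ListOfFn
import Mathlib.Algebra.Group.Pointwise.Set.Scalar
import Mathlib.Algebra.Group.Pointwise.Set.Small
import Mathlib.Algebra.Group.Prod
import Mathlib.Algebra.Group.Semiconj.Basic
import Mathlib.Algebra.Group.Semiconj.Defs
import Mathlib.Algebra.Group.Semiconj.Units
import Mathlib.Algebra.Group.Shrink
import Mathlib.Algebra.Group.Subgroup.Actions
import Mathlib.Algebra.Group.Subgroup.Basic
import Mathlib.Algebra.Group.Subgroup.Defs
import Mathlib.Algebra.Group.Subgroup.Even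
import Mathlib.Algebra.Group.Subgroup.Finite
import Mathlib.Algebra.Group.Subgroup.Finsupp
import Mathlib.Algebra.Group.Subgroup.Ker
import Mathlib.Algebra.Group.Subgroup.Lattice
import Mathlib.Algebra.Group.Subgroup.Map
import Mathlib.Algebra.Group.Subgroup.MulOpposite
import Mathlib.Algebra.Group.Subgroup.MulOppositeLemmas
import Mathlib.Algebra.Group.Subgroup.Order
import Mathlib.Algebra.Group.Subgroup.Pointwise
import Mathlib.Algebra.Group.Subgroup.ZPowers.Basic
import Mathlib.Algebra.Group.Subgroup.ZPowers.Lemmas
import Mathlib.Algebra.Group.Submonoid.Basic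
import Mathlib.Algebra.Group.Submonoid.BigOperators
import Mathlib.Algebra.Group.Submonoid.Defs
import Mathlib.Algebra.Group.Submonoid.DistribMulAction
import Mathlib.Algebra.Group.Submonoid.Finite
import Mathlib.Algebra.Group.Submonoid.Finsupp
import Mathlib.Algebra.Group.Submonoid.Membership
import Mathlib.Algebra.Group.Submonoid.MulAction
import Mathlib.Algebra.Group.Submonoid.MulOpposite
import Mathlib.Algebra.Group.Submonoid.Operations
import Mathlib.Algebra.Group.Submonoid.Pointwise
import Mathlib.Algebra.Group.Submonoid.Saturation
import Mathlib.Algebra.Group.Submonoid.Support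
import Mathlib.Algebra.Group.Submonoid.Units
import Mathlib.Algebra.Group.Subsemigroup.Basic
import Mathlib.Algebra.Group.Subsemigroup.Defs
import Mathlib.Algebra.Group.Subsemigroup.Membership
import Mathlib.Algebra.Group.Subsemigroup.MulOpposite
import Mathlib.Algebra.Group.Subsemigroup.Operations
import Mathlib.Algebra.Group.Support
import Mathlib.Algebra.Group.Torsion
import Mathlib.Algebra.Group.TransferInstance
import Mathlib.Algebra.Group.Translate
import Mathlib.Algebra.Group.TypeTags.Basic
import Mathlib.Algebra.Group.TypeTags.Finite
import Mathlib.Algebra.Group.TypeTags.Hom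
import Mathlib.Algebra.Group.TypeTags.Pointwise
import Mathlib.Algebra.Group.ULift
import Mathlib.Algebra.Group.UniqueProds.Basic
import Mathlib.Algebra.Group.UniqueProds.VectorSpace
import Mathlib.Algebra.Group.Units.Basic
import Mathlib.Algebra.Group.Units.Defs
import Mathlib.Algebra.Group.Units.Equiv
import Mathlib.Algebra.Group.Units.Hom
import Mathlib.Algebra.Group.Units.Opposite
import Mathlib.Algebra.Group.WithOne.Basic
import Mathlib.Algebra.Group.WithOne.Defs
import Mathlib.Algebra.Group.WithOne.Map
import Mathlib.Algebra.GroupWithZero.Action.Basic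
import Mathlib.Algebra.GroupWithZero.Action.Center
import Mathlib.Algebra.GroupWithZero.Action.ConjAct
import Mathlib.Algebra.GroupWithZero.Action.Defs
import Mathlib.Algebra.GroupWithZero.Action.End
import Mathlib.Algebra.GroupWithZero.Action.Faithful
import Mathlib.Algebra.GroupWithZero.Action.Hom
import Mathlib.Algebra.GroupWithZero.Action.Opposite
import Mathlib.Algebra.GroupWithZero.Action.Pi
import Mathlib.Algebra.GroupWithZero.Action.Pointwise.Finset
import Mathlib.Algebra.GroupWithZero.Action.Pointwise.Set
import Mathlib.Algebra.GroupWithZero.Action.Prod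
import Mathlib.Algebra.GroupWithZero.Action.TransferInstance
import Mathlib.Algebra.GroupWithZero.Action.Units
import Mathlib.Algebra.GroupWithZero.Associated
import Mathlib.Algebra.GroupWithZero.Basic
import Mathlib.Algebra.GroupWithZero.Center
import Mathlib.Algebra.GroupWithZero.Commute
import Mathlib.Algebra.GroupWithZero.Conj
import Mathlib.Algebra.GroupWithZero.Defs
import Mathlib.Algebra.GroupWithZero.Divisibility
import Mathlib.Algebra.GroupWithZero.Equiv
import Mathlib.Algebra.GroupWithZero.Hom
import Mathlib.Algebra.GroupWithZero.Idempotent
import Mathlib.Algebra.GroupWithZero.Indicator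
import Mathlib.Algebra.GroupWithZero.InjSurj
import Mathlib.Algebra.GroupWithZero.Int
import Mathlib.Algebra.GroupWithZero.Invertible
import Mathlib.Algebra.GroupWithZero.Nat
import Mathlib.Algebra.GroupWithZero.NeZero
import Mathlib.Algebra.GroupWithZero.NonZeroDivisors
import Mathlib.Algebra.GroupWithZero.Opposite
import Mathlib.Algebra.GroupWithZero.Pi
import Mathlib.Algebra.GroupWithZero.Pointwise.Finset
import Mathlib.Algebra.GroupWithZero.Pointwise.Set.Basic
import Mathlib.Algebra.GroupWithZero.Pointwise.Set.Card
import Mathlib.Algebra.GroupWithZero.Prod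
import Mathlib.Algebra.GroupWithZero.ProdHom
import Mathlib.Algebra.GroupWithZero.Range
import Mathlib.Algebra.GroupWithZero.Regular
import Mathlib.Algebra.GroupWithZero.Semiconj
import Mathlib.Algebra.GroupWithZero.Shrink
import Mathlib.Algebra.GroupWithZero.Subgroup
import Mathlib.Algebra.GroupWithZero.Submonoid.CancelMulZero
import Mathlib.Algebra.GroupWithZero.Submonoid.Instances
import Mathlib.Algebra.GroupWithZero.Submonoid.Pointwise
import Mathlib.Algebra.GroupWithZero.Submonoid.Primal
import Mathlib.Algebra.GroupWithZero.Torsion
import Mathlib.Algebra.GroupWithZero.TransferInstance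
import Mathlib.Algebra.GroupWithZero.ULift
import Mathlib.Algebra.GroupWithZero.Units.Basic
import Mathlib.Algebra.GroupWithZero.Units.Equiv
import Mathlib.Algebra.GroupWithZero.Units.Fintype
import Mathlib.Algebra.GroupWithZero.Units.Lemmas
import Mathlib.Algebra.GroupWithZero.WithZero
import Mathlib.Algebra.HierarchyDesign
import Mathlib.Algebra.Homology.Additive
import Mathlib.Algebra.Homology.AlternatingConst
import Mathlib.Algebra.Homology.Augment
import Mathlib.Algebra.Homology.Bifunctor
import Mathlib.Algebra.Homology.BifunctorAssociator
import Mathlib.Algebra.Homology.BifunctorFlip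
import Mathlib.Algebra.Homology.BifunctorHomotopy
import Mathlib.Algebra.Homology.BifunctorShift
import Mathlib.Algebra.Homology.CochainComplexOpposite
import Mathlib.Algebra.Homology.CochainComplexPlus
import Mathlib.Algebra.Homology.CommSq
import Mathlib.Algebra.Homology.ComplexShape
import Mathlib.Algebra.Homology.ComplexShapeSigns
import Mathlib.Algebra.Homology.ConcreteCategory
import Mathlib.Algebra.Homology.DerivedCategory.Basic
import Mathlib.Algebra.Homology.DerivedCategory.DerivabilityStructureInjectives
import Mathlib.Algebra.Homology.DerivedCategory.ExactFunctor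
import Mathlib.Algebra.Homology.DerivedCategory.Ext.Basic
import Mathlib.Algebra.Homology.DerivedCategory.Ext.EnoughInjectives
import Mathlib.Algebra.Homology.DerivedCategory.Ext.EnoughProjectives
import Mathlib.Algebra.Homology.DerivedCategory.Ext.ExactSequences
import Mathlib.Algebra.Homology.DerivedCategory.Ext.ExtClass
import Mathlib.Algebra.Homology.DerivedCategory.Ext.Linear
import Mathlib.Algebra.Homology.DerivedCategory.Ext.Map
import Mathlib.Algebra.Homology.DerivedCategory.Ext.MapBijective
import Mathlib.Algebra.Homology.DerivedCategory.Ext.TStructure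
import Mathlib.Algebra.Homology.DerivedCategory.Fractions
import Mathlib.Algebra.Homology.DerivedCategory.FullyFaithful
import Mathlib.Algebra.Homology.DerivedCategory.HomologySequence
import Mathlib.Algebra.Homology.DerivedCategory.KInjective
import Mathlib.Algebra.Homology.DerivedCategory.KProjective
import Mathlib.Algebra.Homology.DerivedCategory.Linear
import Mathlib.Algebra.Homology.DerivedCategory.Plus
import Mathlib.Algebra.Homology.DerivedCategory.RightDerivedFunctorPlus
import Mathlib.Algebra.Homology.DerivedCategory.ShortExact
import Mathlib.Algebra.Homology.DerivedCategory.SingleTriangle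
import Mathlib.Algebra.Homology.DerivedCategory.SmallShiftedHom
import Mathlib.Algebra.Homology.DerivedCategory.TStructure
import Mathlib.Algebra.Homology.DifferentialObject
import Mathlib.Algebra.Homology.Double
import Mathlib.Algebra.Homology.Embedding.AreComplementary
import Mathlib.Algebra.Homology.Embedding.Basic
import Mathlib.Algebra.Homology.Embedding.Boundary
import Mathlib.Algebra.Homology.Embedding.CochainComplex
import Mathlib.Algebra.Homology.Embedding.Connect
import Mathlib.Algebra.Homology.Embedding.Extend
import Mathlib.Algebra.Homology.Embedding.ExtendHomology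
import Mathlib.Algebra.Homology.Embedding.ExtendHomotopy
import Mathlib.Algebra.Homology.Embedding.HomEquiv
import Mathlib.Algebra.Homology.Embedding.IsSupported
import Mathlib.Algebra.Homology.Embedding.Restriction
import Mathlib.Algebra.Homology.Embedding.RestrictionHomology
import Mathlib.Algebra.Homology.Embedding.StupidTrunc
import Mathlib.Algebra.Homology.Embedding.TruncGE
import Mathlib.Algebra.Homology.Embedding.TruncGEHomology
import Mathlib.Algebra.Homology.Embedding.TruncLE
import Mathlib.Algebra.Homology.Embedding.TruncLEHomology
import Mathlib.Algebra.Homology.EulerCharacteristic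
import Mathlib.Algebra.Homology.ExactSequence
import Mathlib.Algebra.Homology.ExactSequenceFour
import Mathlib.Algebra.Homology.Factorizations.Basic
import Mathlib.Algebra.Homology.Factorizations.CM5a
import Mathlib.Algebra.Homology.Factorizations.CM5b
import Mathlib.Algebra.Homology.FullSubcategory
import Mathlib.Algebra.Homology.Functor
import Mathlib.Algebra.Homology.GrothendieckAbelian
import Mathlib.Algebra.Homology.HasNoLoop
import Mathlib.Algebra.Homology.HomologicalBicomplex
import Mathlib.Algebra.Homology.HomologicalComplex
import Mathlib.Algebra.Homology.HomologicalComplexAbelian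
import Mathlib.Algebra.Homology.HomologicalComplexBiprod
import Mathlib.Algebra.Homology.HomologicalComplexLimits
import Mathlib.Algebra.Homology.HomologicalComplexLimitsEventuallyConstant
import Mathlib.Algebra.Homology.HomologySequence
import Mathlib.Algebra.Homology.HomologySequenceLemmas
import Mathlib.Algebra.Homology.Homotopy
import Mathlib.Algebra.Homology.HomotopyCategory
import Mathlib.Algebra.Homology.HomotopyCategory.Acyclic
import Mathlib.Algebra.Homology.HomotopyCategory.DegreewiseSplit
import Mathlib.Algebra.Homology.HomotopyCategory.HomComplex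
import Mathlib.Algebra.Homology.HomotopyCategory.HomComplexCohomology
import Mathlib.Algebra.Homology.HomotopyCategory.HomComplexInduction
import Mathlib.Algebra.Homology.HomotopyCategory.HomComplexShift
import Mathlib.Algebra.Homology.HomotopyCategory.HomComplexSingle
import Mathlib.Algebra.Homology.HomotopyCategory.HomologicalFunctor
import Mathlib.Algebra.Homology.HomotopyCategory.KInjective
import Mathlib.Algebra.Homology.HomotopyCategory.KProjective
import Mathlib.Algebra.Homology.HomotopyCategory.MappingCocone
import Mathlib.Algebra.Homology.HomotopyCategory.MappingCone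
import Mathlib.Algebra.Homology.HomotopyCategory.Plus
import Mathlib.Algebra.Homology.HomotopyCategory.Pretriangulated
import Mathlib.Algebra.Homology.HomotopyCategory.Shift
import Mathlib.Algebra.Homology.HomotopyCategory.ShiftSequence
import Mathlib.Algebra.Homology.HomotopyCategory.ShortExact
import Mathlib.Algebra.Homology.HomotopyCategory.SingleFunctors
import Mathlib.Algebra.Homology.HomotopyCategory.SpectralObject
import Mathlib.Algebra.Homology.HomotopyCategory.Triangulated
import Mathlib.Algebra.Homology.HomotopyCofiber
import Mathlib.Algebra.Homology.HomotopyFiber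
import Mathlib.Algebra.Homology.ImageToKernel
import Mathlib.Algebra.Homology.LeftResolution.Basic
import Mathlib.Algebra.Homology.LeftResolution.Reduced
import Mathlib.Algebra.Homology.LeftResolution.Transport
import Mathlib.Algebra.Homology.Linear
import Mathlib.Algebra.Homology.LocalCohomology
import Mathlib.Algebra.Homology.Localization
import Mathlib.Algebra.Homology.ModelCategory.Injective
import Mathlib.Algebra.Homology.ModelCategory.Lifting
import Mathlib.Algebra.Homology.Monoidal
import Mathlib.Algebra.Homology.Opposite
import Mathlib.Algebra.Homology.Precylinder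
import Mathlib.Algebra.Homology.QuasiIso
import Mathlib.Algebra.Homology.Refinements
import Mathlib.Algebra.Homology.ShortComplex.Ab
import Mathlib.Algebra.Homology.ShortComplex.Abelian
import Mathlib.Algebra.Homology.ShortComplex.Basic
import Mathlib.Algebra.Homology.ShortComplex.ConcreteCategory
import Mathlib.Algebra.Homology.ShortComplex.Exact
import Mathlib.Algebra.Homology.ShortComplex.ExactFunctor
import Mathlib.Algebra.Homology.ShortComplex.FunctorEquivalence
import Mathlib.Algebra.Homology.ShortComplex.HomologicalComplex
import Mathlib.Algebra.Homology.ShortComplex.Homology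
import Mathlib.Algebra.Homology.ShortComplex.LeftHomology
import Mathlib.Algebra.Homology.ShortComplex.Limits
import Mathlib.Algebra.Homology.ShortComplex.Linear
import Mathlib.Algebra.Homology.ShortComplex.ModuleCat
import Mathlib.Algebra.Homology.ShortComplex.Preadditive
import Mathlib.Algebra.Homology.ShortComplex.PreservesHomology
import Mathlib.Algebra.Homology.ShortComplex.QuasiIso
import Mathlib.Algebra.Homology.ShortComplex.Retract
import Mathlib.Algebra.Homology.ShortComplex.RightHomology
import Mathlib.Algebra.Homology.ShortComplex.ShortExact
import Mathlib.Algebra.Homology.ShortComplex.SnakeLemma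
import Mathlib.Algebra.Homology.Single
import Mathlib.Algebra.Homology.SingleHomology
import Mathlib.Algebra.Homology.SpectralObject.Basic
import Mathlib.Algebra.Homology.SpectralObject.Cycles
import Mathlib.Algebra.Homology.SpectralObject.Differentials
import Mathlib.Algebra.Homology.SpectralObject.EpiMono
import Mathlib.Algebra.Homology.SpectralObject.FirstPage
import Mathlib.Algebra.Homology.SpectralObject.HasSpectralSequence
import Mathlib.Algebra.Homology.SpectralObject.Homology
import Mathlib.Algebra.Homology.SpectralObject.Page
import Mathlib.Algebra.Homology.SpectralObject.SpectralSequence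
import Mathlib.Algebra.Homology.SpectralSequence.Basic
import Mathlib.Algebra.Homology.SpectralSequence.ComplexShape
import Mathlib.Algebra.Homology.Square
import Mathlib.Algebra.Homology.TotalComplex
import Mathlib.Algebra.Homology.TotalComplexShift
import Mathlib.Algebra.Homology.TotalComplexSymmetry
import Mathlib.Algebra.IsPrimePow
import Mathlib.Algebra.Jordan.Basic
import Mathlib.Algebra.Lie.Abelian
import Mathlib.Algebra.Lie.AdjointAction.Basic
import Mathlib.Algebra.Lie.AdjointAction.Derivation
import Mathlib.Algebra.Lie.AdjointAction.JordanChevalley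
import Mathlib.Algebra.Lie.BaseChange
import Mathlib.Algebra.Lie.Basic
import Mathlib.Algebra.Lie.Basis
import Mathlib.Algebra.Lie.Basis.Base
import Mathlib.Algebra.Lie.Basis.Basic
import Mathlib.Algebra.Lie.Basis.Prod
import Mathlib.Algebra.Lie.CartanCriterion
import Mathlib.Algebra.Lie.CartanExists
import Mathlib.Algebra.Lie.CartanSubalgebra
import Mathlib.Algebra.Lie.Character
import Mathlib.Algebra.Lie.Classical
import Mathlib.Algebra.Lie.Cochain
import Mathlib.Algebra.Lie.Derivation.BaseChange
import Mathlib.Algebra.Lie.Derivation.Basic
import Mathlib.Algebra.Lie.Derivation.Killing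
import Mathlib.Algebra.Lie.DirectSum
import Mathlib.Algebra.Lie.Engel
import Mathlib.Algebra.Lie.EngelSubalgebra
import Mathlib.Algebra.Lie.Extension
import Mathlib.Algebra.Lie.Free
import Mathlib.Algebra.Lie.Graded
import Mathlib.Algebra.Lie.Ideal
import Mathlib.Algebra.Lie.IdealOperations
import Mathlib.Algebra.Lie.InvariantForm
import Mathlib.Algebra.Lie.Killing
import Mathlib.Algebra.Lie.LieTheorem
import Mathlib.Algebra.Lie.Loop
import Mathlib.Algebra.Lie.Matrix
import Mathlib.Algebra.Lie.Nilpotent
import Mathlib.Algebra.Lie.NonUnitalNonAssocAlgebra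
import Mathlib.Algebra.Lie.Normalizer
import Mathlib.Algebra.Lie.OfAssociative
import Mathlib.Algebra.Lie.Prod
import Mathlib.Algebra.Lie.Quotient
import Mathlib.Algebra.Lie.Rank
import Mathlib.Algebra.Lie.SemiDirect
import Mathlib.Algebra.Lie.Semisimple.Basic
import Mathlib.Algebra.Lie.Semisimple.Defs
import Mathlib.Algebra.Lie.Semisimple.Lemmas
import Mathlib.Algebra.Lie.SerreConstruction
import Mathlib.Algebra.Lie.SkewAdjoint
import Mathlib.Algebra.Lie.Sl2
import Mathlib.Algebra.Lie.Solvable
import Mathlib.Algebra.Lie.Subalgebra
import Mathlib.Algebra.Lie.Submodule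
import Mathlib.Algebra.Lie.TensorProduct
import Mathlib.Algebra.Lie.TraceForm
import Mathlib.Algebra.Lie.TransferInstance
import Mathlib.Algebra.Lie.UniversalEnveloping
import Mathlib.Algebra.Lie.Weights.Basic
import Mathlib.Algebra.Lie.Weights.Cartan
import Mathlib.Algebra.Lie.Weights.Chain
import Mathlib.Algebra.Lie.Weights.IsSimple
import Mathlib.Algebra.Lie.Weights.Killing
import Mathlib.Algebra.Lie.Weights.Linear
import Mathlib.Algebra.Lie.Weights.RootSystem
import Mathlib.Algebra.LieRinehartAlgebra.Defs
import Mathlib.Algebra.LieRinehartAlgebra.Subalgebra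
import Mathlib.Algebra.LinearRecurrence
import Mathlib.Algebra.ModEq
import Mathlib.Algebra.Module.Basic
import Mathlib.Algebra.Module.BigOperators
import Mathlib.Algebra.Module.Bimodule
import Mathlib.Algebra.Module.Card
import Mathlib.Algebra.Module.CharacterModule
import Mathlib.Algebra.Module.Congruence.Defs
import Mathlib.Algebra.Module.DedekindDomain
import Mathlib.Algebra.Module.Defs
import Mathlib.Algebra.Module.End
import Mathlib.Algebra.Module.Equiv.Basic
import Mathlib.Algebra.Module.Equiv.Defs
import Mathlib.Algebra.Module.Equiv.Opposite
import Mathlib.Algebra.Module.FinitePresentation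
import Mathlib.Algebra.Module.GradedModule
import Mathlib.Algebra.Module.Hom
import Mathlib.Algebra.Module.Injective
import Mathlib.Algebra.Module.Lattice
import Mathlib.Algebra.Module.LinearMap.Basic
import Mathlib.Algebra.Module.LinearMap.Defs
import Mathlib.Algebra.Module.LinearMap.DivisionRing
import Mathlib.Algebra.Module.LinearMap.End
import Mathlib.Algebra.Module.LinearMap.FiniteRange
import Mathlib.Algebra.Module.LinearMap.Index
import Mathlib.Algebra.Module.LinearMap.Polynomial
import Mathlib.Algebra.Module.LinearMap.Prod
import Mathlib.Algebra.Module.LinearMap.Rat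
import Mathlib.Algebra.Module.LinearMap.Star
import Mathlib.Algebra.Module.LocalizedModule.AtPrime
import Mathlib.Algebra.Module.LocalizedModule.Away
import Mathlib.Algebra.Module.LocalizedModule.Basic
import Mathlib.Algebra.Module.LocalizedModule.Exact
import Mathlib.Algebra.Module.LocalizedModule.Int
import Mathlib.Algebra.Module.LocalizedModule.IsLocalization
import Mathlib.Algebra.Module.LocalizedModule.Submodule
import Mathlib.Algebra.Module.MinimalAxioms
import Mathlib.Algebra.Module.NatInt
import Mathlib.Algebra.Module.Opposite
import Mathlib.Algebra.Module.PID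
import Mathlib.Algebra.Module.PUnit
import Mathlib.Algebra.Module.Pi
import Mathlib.Algebra.Module.PointwisePi
import Mathlib.Algebra.Module.Presentation.Basic
import Mathlib.Algebra.Module.Presentation.Cokernel
import Mathlib.Algebra.Module.Presentation.Differentials
import Mathlib.Algebra.Module.Presentation.DirectSum
import Mathlib.Algebra.Module.Presentation.Finite
import Mathlib.Algebra.Module.Presentation.Free
import Mathlib.Algebra.Module.Presentation.RestrictScalars
import Mathlib.Algebra.Module.Presentation.Tautological
import Mathlib.Algebra.Module.Presentation.Tensor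
import Mathlib.Algebra.Module.Prod
import Mathlib.Algebra.Module.Projective
import Mathlib.Algebra.Module.Rat
import Mathlib.Algebra.Module.RingHom
import Mathlib.Algebra.Module.Shrink
import Mathlib.Algebra.Module.SnakeLemma
import Mathlib.Algebra.Module.SpanRank
import Mathlib.Algebra.Module.SpanRankOperations
import Mathlib.Algebra.Module.StablyFree.Basic
import Mathlib.Algebra.Module.StablyFree.FreeOfInvertible
import Mathlib.Algebra.Module.Submodule.Basic
import Mathlib.Algebra.Module.Submodule.Bilinear
import Mathlib.Algebra.Module.Submodule.Defs
import Mathlib.Algebra.Module.Submodule.EqLocus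
import Mathlib.Algebra.Module.Submodule.Equiv
import Mathlib.Algebra.Module.Submodule.Finsupp
import Mathlib.Algebra.Module.Submodule.Invariant
import Mathlib.Algebra.Module.Submodule.IterateMapComap
import Mathlib.Algebra.Module.Submodule.Ker
import Mathlib.Algebra.Module.Submodule.Lattice
import Mathlib.Algebra.Module.Submodule.LinearMap
import Mathlib.Algebra.Module.Submodule.Map
import Mathlib.Algebra.Module.Submodule.Order
import Mathlib.Algebra.Module.Submodule.Pointwise
import Mathlib.Algebra.Module.Submodule.Range
import Mathlib.Algebra.Module.Submodule.RestrictScalars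
import Mathlib.Algebra.Module.Submodule.Union
import Mathlib.Algebra.Module.Torsion.Basic
import Mathlib.Algebra.Module.Torsion.Field
import Mathlib.Algebra.Module.Torsion.Free
import Mathlib.Algebra.Module.Torsion.Pi
import Mathlib.Algebra.Module.Torsion.PrimaryComponent
import Mathlib.Algebra.Module.Torsion.Prod
import Mathlib.Algebra.Module.TransferInstance
import Mathlib.Algebra.Module.ULift
import Mathlib.Algebra.Module.ZLattice.Basic
import Mathlib.Algebra.Module.ZLattice.Covolume
import Mathlib.Algebra.Module.ZLattice.Summable
import Mathlib.Algebra.Module.ZMod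
import Mathlib.Algebra.MonoidAlgebra.Basic
import Mathlib.Algebra.MonoidAlgebra.Cardinal
import Mathlib.Algebra.MonoidAlgebra.Defs
import Mathlib.Algebra.MonoidAlgebra.Degree
import Mathlib.Algebra.MonoidAlgebra.Division
import Mathlib.Algebra.MonoidAlgebra.Grading
import Mathlib.Algebra.MonoidAlgebra.Ideal
import Mathlib.Algebra.MonoidAlgebra.Lift
import Mathlib.Algebra.MonoidAlgebra.MapDomain
import Mathlib.Algebra.MonoidAlgebra.Module
import Mathlib.Algebra.MonoidAlgebra.NoZeroDivisors
import Mathlib.Algebra.MonoidAlgebra.Opposite
import Mathlib.Algebra.MonoidAlgebra.PointwiseSMul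
import Mathlib.Algebra.MonoidAlgebra.Support
import Mathlib.Algebra.MonoidAlgebra.ToDirectSum
import Mathlib.Algebra.MvPolynomial.Basic
import Mathlib.Algebra.MvPolynomial.Cardinal
import Mathlib.Algebra.MvPolynomial.Coeff
import Mathlib.Algebra.MvPolynomial.Comap
import Mathlib.Algebra.MvPolynomial.CommRing
import Mathlib.Algebra.MvPolynomial.Counit
import Mathlib.Algebra.MvPolynomial.Degrees
import Mathlib.Algebra.MvPolynomial.Derivation
import Mathlib.Algebra.MvPolynomial.Division
import Mathlib.Algebra.MvPolynomial.Equiv
import Mathlib.Algebra.MvPolynomial.Eval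
import Mathlib.Algebra.MvPolynomial.Expand
import Mathlib.Algebra.MvPolynomial.Funext
import Mathlib.Algebra.MvPolynomial.Invertible
import Mathlib.Algebra.MvPolynomial.Monad
import Mathlib.Algebra.MvPolynomial.Nilpotent
import Mathlib.Algebra.MvPolynomial.NoZeroDivisors
import Mathlib.Algebra.MvPolynomial.PDeriv
import Mathlib.Algebra.MvPolynomial.Polynomial
import Mathlib.Algebra.MvPolynomial.Rename
import Mathlib.Algebra.MvPolynomial.SchwartzZippel
import Mathlib.Algebra.MvPolynomial.Supported
import Mathlib.Algebra.MvPolynomial.Variables
import Mathlib.Algebra.NeZero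
import Mathlib.Algebra.NoZeroSMulDivisors.Basic
import Mathlib.Algebra.NoZeroSMulDivisors.Defs
import Mathlib.Algebra.NoZeroSMulDivisors.Pi
import Mathlib.Algebra.NoZeroSMulDivisors.Prod
import Mathlib.Algebra.NonAssoc.LieAdmissible.Defs
import Mathlib.Algebra.NonAssoc.PreLie.Basic
import Mathlib.Algebra.Notation
import Mathlib.Algebra.Notation.Defs
import Mathlib.Algebra.Notation.FiniteSupport
import Mathlib.Algebra.Notation.Indicator
import Mathlib.Algebra.Notation.Lemmas
import Mathlib.Algebra.Notation.Pi.Basic
import Mathlib.Algebra.Notation.Pi.Defs
import Mathlib.Algebra.Notation.Prod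
import Mathlib.Algebra.Notation.Support
import Mathlib.Algebra.Opposites
import Mathlib.Algebra.Order.AbsoluteValue.Basic
import Mathlib.Algebra.Order.AbsoluteValue.Euclidean
import Mathlib.Algebra.Order.AddGroupWithTop
import Mathlib.Algebra.Order.AddTorsor
import Mathlib.Algebra.Order.Algebra
import Mathlib.Algebra.Order.Antidiag.Finsupp
import Mathlib.Algebra.Order.Antidiag.FinsuppEquiv
import Mathlib.Algebra.Order.Antidiag.Nat
import Mathlib.Algebra.Order.Antidiag.Pi
import Mathlib.Algebra.Order.Antidiag.Prod
import Mathlib.Algebra.Order.Antidiag.Tendsto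
import Mathlib.Algebra.Order.Archimedean.Basic
import Mathlib.Algebra.Order.Archimedean.Class
import Mathlib.Algebra.Order.Archimedean.Defs
import Mathlib.Algebra.Order.Archimedean.Hom
import Mathlib.Algebra.Order.Archimedean.IndicatorCard
import Mathlib.Algebra.Order.Archimedean.Real.Basic
import Mathlib.Algebra.Order.Archimedean.Real.Hom
import Mathlib.Algebra.Order.Archimedean.Submonoid
import Mathlib.Algebra.Order.BigOperators.Expect
import Mathlib.Algebra.Order.BigOperators.Group.Finset
import Mathlib.Algebra.Order.BigOperators.Group.List
import Mathlib.Algebra.Order.BigOperators.Group.LocallyFinite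
import Mathlib.Algebra.Order.BigOperators.Group.Multiset
import Mathlib.Algebra.Order.BigOperators.GroupWithZero.Finset
import Mathlib.Algebra.Order.BigOperators.GroupWithZero.List
import Mathlib.Algebra.Order.BigOperators.GroupWithZero.Multiset
import Mathlib.Algebra.Order.BigOperators.Ring.Finset
import Mathlib.Algebra.Order.BigOperators.Ring.List
import Mathlib.Algebra.Order.BigOperators.Ring.Multiset
import Mathlib.Algebra.Order.CauSeq.Basic
import Mathlib.Algebra.Order.CauSeq.BigOperators
import Mathlib.Algebra.Order.CauSeq.Completion
import Mathlib.Algebra.Order.Chebyshev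
import Mathlib.Algebra.Order.CompleteField
import Mathlib.Algebra.Order.Disjointed
import Mathlib.Algebra.Order.Field.Basic
import Mathlib.Algebra.Order.Field.Canonical
import Mathlib.Algebra.Order.Field.GeomSum
import Mathlib.Algebra.Order.Field.Pi
import Mathlib.Algebra.Order.Field.Pointwise
import Mathlib.Algebra.Order.Field.Power
import Mathlib.Algebra.Order.Field.Rat
import Mathlib.Algebra.Order.Field.Subfield
import Mathlib.Algebra.Order.Floor.Defs
import Mathlib.Algebra.Order.Floor.Div
import Mathlib.Algebra.Order.Floor.Extended
import Mathlib.Algebra.Order.Floor.Ring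
import Mathlib.Algebra.Order.Floor.Semifield
import Mathlib.Algebra.Order.Floor.Semiring
import Mathlib.Algebra.Order.Group.Abs
import Mathlib.Algebra.Order.Group.Action
import Mathlib.Algebra.Order.Group.Action.End
import Mathlib.Algebra.Order.Group.Action.Flag
import Mathlib.Algebra.Order.Group.Action.Synonym
import Mathlib.Algebra.Order.Group.Basic
import Mathlib.Algebra.Order.Group.Bounds
import Mathlib.Algebra.Order.Group.CompleteLattice
import Mathlib.Algebra.Order.Group.Cone
import Mathlib.Algebra.Order.Group.Cyclic
import Mathlib.Algebra.Order.Group.Defs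
import Mathlib.Algebra.Order.Group.DenselyOrdered
import Mathlib.Algebra.Order.Group.End
import Mathlib.Algebra.Order.Group.Equiv
import Mathlib.Algebra.Order.Group.Finset
import Mathlib.Algebra.Order.Group.Ideal
import Mathlib.Algebra.Order.Group.Indicator
import Mathlib.Algebra.Order.Group.Int
import Mathlib.Algebra.Order.Group.Int.Sum
import Mathlib.Algebra.Order.Group.Lattice
import Mathlib.Algebra.Order.Group.MinMax
import Mathlib.Algebra.Order.Group.Multiset
import Mathlib.Algebra.Order.Group.Nat
import Mathlib.Algebra.Order.Group.Opposite
import Mathlib.Algebra.Order.Group.OrderIso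
import Mathlib.Algebra.Order.Group.PartialSups
import Mathlib.Algebra.Order.Group.PiLex
import Mathlib.Algebra.Order.Group.Pointwise.Bounds
import Mathlib.Algebra.Order.Group.Pointwise.CompleteLattice
import Mathlib.Algebra.Order.Group.Pointwise.Interval
import Mathlib.Algebra.Order.Group.PosPart
import Mathlib.Algebra.Order.Group.Synonym
import Mathlib.Algebra.Order.Group.Unbundled.Abs
import Mathlib.Algebra.Order.Group.Unbundled.Basic
import Mathlib.Algebra.Order.Group.Unbundled.Int
import Mathlib.Algebra.Order.Group.Units
import Mathlib.Algebra.Order.GroupWithZero.Action.Synonym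
import Mathlib.Algebra.Order.GroupWithZero.Basic
import Mathlib.Algebra.Order.GroupWithZero.Bounds
import Mathlib.Algebra.Order.GroupWithZero.Canonical
import Mathlib.Algebra.Order.GroupWithZero.Defs
import Mathlib.Algebra.Order.GroupWithZero.Finset
import Mathlib.Algebra.Order.GroupWithZero.Lex
import Mathlib.Algebra.Order.GroupWithZero.OrderIso
import Mathlib.Algebra.Order.GroupWithZero.Range
import Mathlib.Algebra.Order.GroupWithZero.Submonoid
import Mathlib.Algebra.Order.GroupWithZero.Synonym
import Mathlib.Algebra.Order.GroupWithZero.Unbundled.Basic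
import Mathlib.Algebra.Order.GroupWithZero.Unbundled.Defs
import Mathlib.Algebra.Order.GroupWithZero.Unbundled.OrderIso
import Mathlib.Algebra.Order.GroupWithZero.WithZero
import Mathlib.Algebra.Order.Hom.Basic
import Mathlib.Algebra.Order.Hom.Lattice
import Mathlib.Algebra.Order.Hom.Monoid
import Mathlib.Algebra.Order.Hom.MonoidWithZero
import Mathlib.Algebra.Order.Hom.Ring
import Mathlib.Algebra.Order.Hom.Submonoid
import Mathlib.Algebra.Order.Hom.TypeTags
import Mathlib.Algebra.Order.Hom.Units
import Mathlib.Algebra.Order.Interval.Basic
import Mathlib.Algebra.Order.Interval.Finset.Basic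
import Mathlib.Algebra.Order.Interval.Finset.SuccPred
import Mathlib.Algebra.Order.Interval.Multiset
import Mathlib.Algebra.Order.Interval.Set.Group
import Mathlib.Algebra.Order.Interval.Set.Instances
import Mathlib.Algebra.Order.Interval.Set.Monoid
import Mathlib.Algebra.Order.Interval.Set.SuccPred
import Mathlib.Algebra.Order.Invertible
import Mathlib.Algebra.Order.IsBotOne
import Mathlib.Algebra.Order.Kleene
import Mathlib.Algebra.Order.Module.Archimedean
import Mathlib.Algebra.Order.Module.Basic
import Mathlib.Algebra.Order.Module.Defs
import Mathlib.Algebra.Order.Module.Equiv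
import Mathlib.Algebra.Order.Module.Field
import Mathlib.Algebra.Order.Module.Pointwise
import Mathlib.Algebra.Order.Module.PositiveLinearMap
import Mathlib.Algebra.Order.Module.Rat
import Mathlib.Algebra.Order.Module.Synonym
import Mathlib.Algebra.Order.Monoid.Associated
import Mathlib.Algebra.Order.Monoid.Basic
import Mathlib.Algebra.Order.Monoid.Canonical.Basic
import Mathlib.Algebra.Order.Monoid.Canonical.Defs
import Mathlib.Algebra.Order.Monoid.Defs
import Mathlib.Algebra.Order.Monoid.Lex
import Mathlib.Algebra.Order.Monoid.LocallyFiniteOrder
import Mathlib.Algebra.Order.Monoid.NatCast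
import Mathlib.Algebra.Order.Monoid.OrderDual
import Mathlib.Algebra.Order.Monoid.PNat
import Mathlib.Algebra.Order.Monoid.Prod
import Mathlib.Algebra.Order.Monoid.Submonoid
import Mathlib.Algebra.Order.Monoid.ToMulBot
import Mathlib.Algebra.Order.Monoid.TypeTags
import Mathlib.Algebra.Order.Monoid.Unbundled.Basic
import Mathlib.Algebra.Order.Monoid.Unbundled.Defs
import Mathlib.Algebra.Order.Monoid.Unbundled.ExistsOfLE
import Mathlib.Algebra.Order.Monoid.Unbundled.MinMax
import Mathlib.Algebra.Order.Monoid.Unbundled.OrderDual
import Mathlib.Algebra.Order.Monoid.Unbundled.Pow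
import Mathlib.Algebra.Order.Monoid.Unbundled.TypeTags
import Mathlib.Algebra.Order.Monoid.Unbundled.Units
import Mathlib.Algebra.Order.Monoid.Unbundled.WithTop
import Mathlib.Algebra.Order.Monoid.Units
import Mathlib.Algebra.Order.Monoid.WithTop
import Mathlib.Algebra.Order.Monovary
import Mathlib.Algebra.Order.Nonneg.Basic
import Mathlib.Algebra.Order.Nonneg.Field
import Mathlib.Algebra.Order.Nonneg.Floor
import Mathlib.Algebra.Order.Nonneg.Lattice
import Mathlib.Algebra.Order.Nonneg.Module
import Mathlib.Algebra.Order.Nonneg.Ring
import Mathlib.Algebra.Order.PUnit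
import Mathlib.Algebra.Order.Pi
import Mathlib.Algebra.Order.Positive.Field
import Mathlib.Algebra.Order.Positive.Ring
import Mathlib.Algebra.Order.Quantale
import Mathlib.Algebra.Order.Rearrangement
import Mathlib.Algebra.Order.Ring.Abs
import Mathlib.Algebra.Order.Ring.Archimedean
import Mathlib.Algebra.Order.Ring.Basic
import Mathlib.Algebra.Order.Ring.Canonical
import Mathlib.Algebra.Order.Ring.Cast
import Mathlib.Algebra.Order.Ring.Cone
import Mathlib.Algebra.Order.Ring.Defs
import Mathlib.Algebra.Order.Ring.Finset
import Mathlib.Algebra.Order.Ring.GeomSum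
import Mathlib.Algebra.Order.Ring.Idempotent
import Mathlib.Algebra.Order.Ring.InjSurj
import Mathlib.Algebra.Order.Ring.Int
import Mathlib.Algebra.Order.Ring.Interval
import Mathlib.Algebra.Order.Ring.IsNonarchimedean
import Mathlib.Algebra.Order.Ring.NNRat
import Mathlib.Algebra.Order.Ring.Nat
import Mathlib.Algebra.Order.Ring.Opposite
import Mathlib.Algebra.Order.Ring.Ordering.Basic
import Mathlib.Algebra.Order.Ring.Ordering.Defs
import Mathlib.Algebra.Order.Ring.Pow
import Mathlib.Algebra.Order.Ring.Prod
import Mathlib.Algebra.Order.Ring.Rat
import Mathlib.Algebra.Order.Ring.StandardPart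
import Mathlib.Algebra.Order.Ring.Star
import Mathlib.Algebra.Order.Ring.Synonym
import Mathlib.Algebra.Order.Ring.Unbundled.Basic
import Mathlib.Algebra.Order.Ring.Unbundled.Rat
import Mathlib.Algebra.Order.Ring.Units
import Mathlib.Algebra.Order.Ring.WithTop
import Mathlib.Algebra.Order.Round
import Mathlib.Algebra.Order.Star.Basic
import Mathlib.Algebra.Order.Star.Conjneg
import Mathlib.Algebra.Order.Star.Pi
import Mathlib.Algebra.Order.Star.Prod
import Mathlib.Algebra.Order.Star.Real
import Mathlib.Algebra.Order.Sub.Basic
import Mathlib.Algebra.Order.Sub.Defs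
import Mathlib.Algebra.Order.Sub.Prod
import Mathlib.Algebra.Order.Sub.Unbundled.Basic
import Mathlib.Algebra.Order.Sub.Unbundled.Hom
import Mathlib.Algebra.Order.Sub.WithTop
import Mathlib.Algebra.Order.SuccPred
import Mathlib.Algebra.Order.SuccPred.PartialSups
import Mathlib.Algebra.Order.SuccPred.TypeTags
import Mathlib.Algebra.Order.SuccPred.WithBot
import Mathlib.Algebra.Order.Sum
import Mathlib.Algebra.Order.ToIntervalMod
import Mathlib.Algebra.Order.UpperLower
import Mathlib.Algebra.Order.WithTop.Untop0
import Mathlib.Algebra.Order.ZeroLEOne
import Mathlib.Algebra.PEmptyInstances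
import Mathlib.Algebra.Pointwise.Stabilizer
import Mathlib.Algebra.Polynomial.AlgebraMap
import Mathlib.Algebra.Polynomial.Basic
import Mathlib.Algebra.Polynomial.Basis
import Mathlib.Algebra.Polynomial.BigOperators
import Mathlib.Algebra.Polynomial.Bivariate
import Mathlib.Algebra.Polynomial.CancelLeads
import Mathlib.Algebra.Polynomial.Cardinal
import Mathlib.Algebra.Polynomial.Coeff
import Mathlib.Algebra.Polynomial.CoeffList
import Mathlib.Algebra.Polynomial.CoeffMem
import Mathlib.Algebra.Polynomial.Degree.CardPowDegree
import Mathlib.Algebra.Polynomial.Degree.Definitions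
import Mathlib.Algebra.Polynomial.Degree.Defs
import Mathlib.Algebra.Polynomial.Degree.Domain
import Mathlib.Algebra.Polynomial.Degree.IsMonicOfDegree
import Mathlib.Algebra.Polynomial.Degree.Lemmas
import Mathlib.Algebra.Polynomial.Degree.Monomial
import Mathlib.Algebra.Polynomial.Degree.Operations
import Mathlib.Algebra.Polynomial.Degree.SmallDegree
import Mathlib.Algebra.Polynomial.Degree.Support
import Mathlib.Algebra.Polynomial.Degree.TrailingDegree
import Mathlib.Algebra.Polynomial.Degree.Units
import Mathlib.Algebra.Polynomial.DenomsClearable
import Mathlib.Algebra.Polynomial.Derivation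
import Mathlib.Algebra.Polynomial.Derivative
import Mathlib.Algebra.Polynomial.Div
import Mathlib.Algebra.Polynomial.EraseLead
import Mathlib.Algebra.Polynomial.Eval.Algebra
import Mathlib.Algebra.Polynomial.Eval.Coeff
import Mathlib.Algebra.Polynomial.Eval.Defs
import Mathlib.Algebra.Polynomial.Eval.Degree
import Mathlib.Algebra.Polynomial.Eval.Irreducible
import Mathlib.Algebra.Polynomial.Eval.SMul
import Mathlib.Algebra.Polynomial.Eval.Subring
import Mathlib.Algebra.Polynomial.Expand
import Mathlib.Algebra.Polynomial.FieldDivision
import Mathlib.Algebra.Polynomial.GroupRingAction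
import Mathlib.Algebra.Polynomial.HasseDeriv
import Mathlib.Algebra.Polynomial.Homogenize
import Mathlib.Algebra.Polynomial.Identities
import Mathlib.Algebra.Polynomial.Inductions
import Mathlib.Algebra.Polynomial.Laurent
import Mathlib.Algebra.Polynomial.Lifts
import Mathlib.Algebra.Polynomial.Mirror
import Mathlib.Algebra.Polynomial.Module.AEval
import Mathlib.Algebra.Polynomial.Module.Basic
import Mathlib.Algebra.Polynomial.Module.FiniteDimensional
import Mathlib.Algebra.Polynomial.Module.TensorProduct
import Mathlib.Algebra.Polynomial.Monic
import Mathlib.Algebra.Polynomial.Monomial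
import Mathlib.Algebra.Polynomial.OfFn
import Mathlib.Algebra.Polynomial.PartialFractions
import Mathlib.Algebra.Polynomial.Reverse
import Mathlib.Algebra.Polynomial.RingDivision
import Mathlib.Algebra.Polynomial.Roots
import Mathlib.Algebra.Polynomial.RuleOfSigns
import Mathlib.Algebra.Polynomial.Sequence
import Mathlib.Algebra.Polynomial.Smeval
import Mathlib.Algebra.Polynomial.SpecificDegree
import Mathlib.Algebra.Polynomial.Splits
import Mathlib.Algebra.Polynomial.SumIteratedDerivative
import Mathlib.Algebra.Polynomial.Taylor
import Mathlib.Algebra.Polynomial.UnitTrinomial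
import Mathlib.Algebra.PresentedMonoid.Basic
import Mathlib.Algebra.Prime.Defs
import Mathlib.Algebra.Prime.Lemmas
import Mathlib.Algebra.QuadraticAlgebra.Basic
import Mathlib.Algebra.QuadraticAlgebra.Defs
import Mathlib.Algebra.QuadraticAlgebra.NormDeterminant
import Mathlib.Algebra.QuadraticDiscriminant
import Mathlib.Algebra.Quandle
import Mathlib.Algebra.Quaternion
import Mathlib.Algebra.QuaternionBasis
import Mathlib.Algebra.Quotient
import Mathlib.Algebra.Regular.Basic
import Mathlib.Algebra.Regular.Defs
import Mathlib.Algebra.Regular.Opposite
import Mathlib.Algebra.Regular.Pi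
import Mathlib.Algebra.Regular.Pow
import Mathlib.Algebra.Regular.Prod
import Mathlib.Algebra.Regular.SMul
import Mathlib.Algebra.Regular.ULift
import Mathlib.Algebra.Ring.Action.Basic
import Mathlib.Algebra.Ring.Action.ConjAct
import Mathlib.Algebra.Ring.Action.End
import Mathlib.Algebra.Ring.Action.Field
import Mathlib.Algebra.Ring.Action.Group
import Mathlib.Algebra.Ring.Action.Invariant
import Mathlib.Algebra.Ring.Action.Pointwise.Finset
import Mathlib.Algebra.Ring.Action.Pointwise.Set
import Mathlib.Algebra.Ring.Action.Rat
import Mathlib.Algebra.Ring.Action.Submonoid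
import Mathlib.Algebra.Ring.Action.Subobjects
import Mathlib.Algebra.Ring.AddAut
import Mathlib.Algebra.Ring.Associated
import Mathlib.Algebra.Ring.Associator
import Mathlib.Algebra.Ring.Aut
import Mathlib.Algebra.Ring.Basic
import Mathlib.Algebra.Ring.BooleanRing
import Mathlib.Algebra.Ring.Center
import Mathlib.Algebra.Ring.Centralizer
import Mathlib.Algebra.Ring.CentroidHom
import Mathlib.Algebra.Ring.CharZero
import Mathlib.Algebra.Ring.Commute
import Mathlib.Algebra.Ring.CompTypeclasses
import Mathlib.Algebra.Ring.Defs
import Mathlib.Algebra.Ring.Divisibility.Basic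
import Mathlib.Algebra.Ring.Divisibility.Lemmas
import Mathlib.Algebra.Ring.Equiv
import Mathlib.Algebra.Ring.Ext
import Mathlib.Algebra.Ring.Fin
import Mathlib.Algebra.Ring.GeomSum
import Mathlib.Algebra.Ring.GrindInstances
import Mathlib.Algebra.Ring.Hom.Defs
import Mathlib.Algebra.Ring.Hom.InjSurj
import Mathlib.Algebra.Ring.Idempotent
import Mathlib.Algebra.Ring.Identities
import Mathlib.Algebra.Ring.InjSurj
import Mathlib.Algebra.Ring.Int.Defs
import Mathlib.Algebra.Ring.Int.Field
import Mathlib.Algebra.Ring.Int.Parity
import Mathlib.Algebra.Ring.Int.Units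
import Mathlib.Algebra.Ring.Invertible
import Mathlib.Algebra.Ring.IsFormallyReal
import Mathlib.Algebra.Ring.MinimalAxioms
import Mathlib.Algebra.Ring.Nat
import Mathlib.Algebra.Ring.NegOnePow
import Mathlib.Algebra.Ring.NonZeroDivisors
import Mathlib.Algebra.Ring.Opposite
import Mathlib.Algebra.Ring.PUnit
import Mathlib.Algebra.Ring.Parity
import Mathlib.Algebra.Ring.Periodic
import Mathlib.Algebra.Ring.Pi
import Mathlib.Algebra.Ring.Pointwise.Finset
import Mathlib.Algebra.Ring.Pointwise.Set
import Mathlib.Algebra.Ring.Prod
import Mathlib.Algebra.Ring.Rat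
import Mathlib.Algebra.Ring.Regular
import Mathlib.Algebra.Ring.Semiconj
import Mathlib.Algebra.Ring.Semireal.Defs
import Mathlib.Algebra.Ring.Shrink
import Mathlib.Algebra.Ring.Subgroup
import Mathlib.Algebra.Ring.Submonoid.Basic
import Mathlib.Algebra.Ring.Submonoid.Pointwise
import Mathlib.Algebra.Ring.Subring.Basic
import Mathlib.Algebra.Ring.Subring.Defs
import Mathlib.Algebra.Ring.Subring.IntPolynomial
import Mathlib.Algebra.Ring.Subring.MulOpposite
import Mathlib.Algebra.Ring.Subring.Order
import Mathlib.Algebra.Ring.Subring.Pointwise
import Mathlib.Algebra.Ring.Subring.Units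
import Mathlib.Algebra.Ring.Subsemiring.Basic
import Mathlib.Algebra.Ring.Subsemiring.Defs
import Mathlib.Algebra.Ring.Subsemiring.MulOpposite
import Mathlib.Algebra.Ring.Subsemiring.Order
import Mathlib.Algebra.Ring.Subsemiring.Pointwise
import Mathlib.Algebra.Ring.SumsOfSquares
import Mathlib.Algebra.Ring.Torsion
import Mathlib.Algebra.Ring.TransferInstance
import Mathlib.Algebra.Ring.ULift
import Mathlib.Algebra.Ring.Units
import Mathlib.Algebra.Ring.WithZero
import Mathlib.Algebra.RingQuot
import Mathlib.Algebra.SkewMonoidAlgebra.Basic
import Mathlib.Algebra.SkewMonoidAlgebra.Lift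
import Mathlib.Algebra.SkewMonoidAlgebra.Single
import Mathlib.Algebra.SkewMonoidAlgebra.Support
import Mathlib.Algebra.SkewPolynomial.Basic
import Mathlib.Algebra.Squarefree.Basic
import Mathlib.Algebra.Star.Basic
import Mathlib.Algebra.Star.BigOperators
import Mathlib.Algebra.Star.CHSH
import Mathlib.Algebra.Star.Center
import Mathlib.Algebra.Star.CentroidHom
import Mathlib.Algebra.Star.Conjneg
import Mathlib.Algebra.Star.Free
import Mathlib.Algebra.Star.LinearMap
import Mathlib.Algebra.Star.Module
import Mathlib.Algebra.Star.MonoidHom
import Mathlib.Algebra.Star.NonUnitalSubalgebra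
import Mathlib.Algebra.Star.NonUnitalSubsemiring
import Mathlib.Algebra.Star.Pi
import Mathlib.Algebra.Star.Pointwise
import Mathlib.Algebra.Star.Prod
import Mathlib.Algebra.Star.Rat
import Mathlib.Algebra.Star.RingQuot
import Mathlib.Algebra.Star.SelfAdjoint
import Mathlib.Algebra.Star.StarAlgHom
import Mathlib.Algebra.Star.StarProjection
import Mathlib.Algebra.Star.StarRingHom
import Mathlib.Algebra.Star.Subalgebra
import Mathlib.Algebra.Star.Subsemiring
import Mathlib.Algebra.Star.TensorProduct
import Mathlib.Algebra.Star.TransferInstance
import Mathlib.Algebra.Star.Unitary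
import Mathlib.Algebra.Star.UnitaryStarAlgAut
import Mathlib.Algebra.Symmetrized
import Mathlib.Algebra.Torsor.Basic
import Mathlib.Algebra.Torsor.Defs
import Mathlib.Algebra.TrivSqZeroExt
import Mathlib.Algebra.TrivSqZeroExt.Basic
import Mathlib.Algebra.TrivSqZeroExt.Ideal
import Mathlib.Algebra.Tropical.Basic
import Mathlib.Algebra.Tropical.BigOperators
import Mathlib.Algebra.Tropical.Lattice
import Mathlib.Algebra.WithConv
import Mathlib.AlgebraicGeometry.AffineScheme
import Mathlib.AlgebraicGeometry.AffineSpace
import Mathlib.AlgebraicGeometry.AffineTransitionLimit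
import Mathlib.AlgebraicGeometry.AlgClosed.Basic
import Mathlib.AlgebraicGeometry.AlgebraicCycle.Basic
import Mathlib.AlgebraicGeometry.Artinian
import Mathlib.AlgebraicGeometry.Birational.Birational
import Mathlib.AlgebraicGeometry.Birational.Composition
import Mathlib.AlgebraicGeometry.Birational.Dominant
import Mathlib.AlgebraicGeometry.Birational.RationalMap
import Mathlib.AlgebraicGeometry.ColimitsOver
import Mathlib.AlgebraicGeometry.Cover.Directed
import Mathlib.AlgebraicGeometry.Cover.MorphismProperty
import Mathlib.AlgebraicGeometry.Cover.Open
import Mathlib.AlgebraicGeometry.Cover.Over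
import Mathlib.AlgebraicGeometry.Cover.QuasiCompact
import Mathlib.AlgebraicGeometry.Cover.Sigma
import Mathlib.AlgebraicGeometry.EffectiveEpi
import Mathlib.AlgebraicGeometry.EllipticCurve.Affine.AddSubMap
import Mathlib.AlgebraicGeometry.EllipticCurve.Affine.Basic
import Mathlib.AlgebraicGeometry.EllipticCurve.Affine.Formula
import Mathlib.AlgebraicGeometry.EllipticCurve.Affine.Point
import Mathlib.AlgebraicGeometry.EllipticCurve.DivisionPolynomial.Basic
import Mathlib.AlgebraicGeometry.EllipticCurve.DivisionPolynomial.Degree
import Mathlib.AlgebraicGeometry.EllipticCurve.IsomOfJ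
import Mathlib.AlgebraicGeometry.EllipticCurve.Jacobian.Basic
import Mathlib.AlgebraicGeometry.EllipticCurve.Jacobian.Formula
import Mathlib.AlgebraicGeometry.EllipticCurve.Jacobian.Point
import Mathlib.AlgebraicGeometry.EllipticCurve.LFunction
import Mathlib.AlgebraicGeometry.EllipticCurve.ModelsWithJ
import Mathlib.AlgebraicGeometry.EllipticCurve.NormalForms
import Mathlib.AlgebraicGeometry.EllipticCurve.Projective.Basic
import Mathlib.AlgebraicGeometry.EllipticCurve.Projective.Formula
import Mathlib.AlgebraicGeometry.EllipticCurve.Projective.Point
import Mathlib.AlgebraicGeometry.EllipticCurve.Reduction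
import Mathlib.AlgebraicGeometry.EllipticCurve.VariableChange
import Mathlib.AlgebraicGeometry.EllipticCurve.Weierstrass
import Mathlib.AlgebraicGeometry.Fiber
import Mathlib.AlgebraicGeometry.FunctionField
import Mathlib.AlgebraicGeometry.GammaSpecAdjunction
import Mathlib.AlgebraicGeometry.Geometrically.Basic
import Mathlib.AlgebraicGeometry.Geometrically.Connected
import Mathlib.AlgebraicGeometry.Geometrically.Integral
import Mathlib.AlgebraicGeometry.Geometrically.Irreducible
import Mathlib.AlgebraicGeometry.Geometrically.Reduced
import Mathlib.AlgebraicGeometry.Gluing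
import Mathlib.AlgebraicGeometry.GluingOneHypercover
import Mathlib.AlgebraicGeometry.Group.Abelian
import Mathlib.AlgebraicGeometry.Group.Affine
import Mathlib.AlgebraicGeometry.Group.Smooth
import Mathlib.AlgebraicGeometry.IdealSheaf.Basic
import Mathlib.AlgebraicGeometry.IdealSheaf.Functorial
import Mathlib.AlgebraicGeometry.IdealSheaf.IrreducibleComponent
import Mathlib.AlgebraicGeometry.IdealSheaf.Subscheme
import Mathlib.AlgebraicGeometry.Limits
import Mathlib.AlgebraicGeometry.LimitsOver
import Mathlib.AlgebraicGeometry.Modules.Presheaf
import Mathlib.AlgebraicGeometry.Modules.Sheaf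
import Mathlib.AlgebraicGeometry.Modules.Tilde
import Mathlib.AlgebraicGeometry.Morphisms.Affine
import Mathlib.AlgebraicGeometry.Morphisms.AffineAnd
import Mathlib.AlgebraicGeometry.Morphisms.Basic
import Mathlib.AlgebraicGeometry.Morphisms.ClosedImmersion
import Mathlib.AlgebraicGeometry.Morphisms.Constructors
import Mathlib.AlgebraicGeometry.Morphisms.Descent
import Mathlib.AlgebraicGeometry.Morphisms.Etale
import Mathlib.AlgebraicGeometry.Morphisms.Finite
import Mathlib.AlgebraicGeometry.Morphisms.FinitePresentation
import Mathlib.AlgebraicGeometry.Morphisms.FiniteType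
import Mathlib.AlgebraicGeometry.Morphisms.Flat
import Mathlib.AlgebraicGeometry.Morphisms.FlatDescent
import Mathlib.AlgebraicGeometry.Morphisms.FlatMono
import Mathlib.AlgebraicGeometry.Morphisms.FlatRank
import Mathlib.AlgebraicGeometry.Morphisms.FormallyUnramified
import Mathlib.AlgebraicGeometry.Morphisms.Immersion
import Mathlib.AlgebraicGeometry.Morphisms.Integral
import Mathlib.AlgebraicGeometry.Morphisms.IsIso
import Mathlib.AlgebraicGeometry.Morphisms.LocalClosure
import Mathlib.AlgebraicGeometry.Morphisms.LocalFlatDescent
import Mathlib.AlgebraicGeometry.Morphisms.LocalIso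
import Mathlib.AlgebraicGeometry.Morphisms.OpenImmersion
import Mathlib.AlgebraicGeometry.Morphisms.Preimmersion
import Mathlib.AlgebraicGeometry.Morphisms.Proper
import Mathlib.AlgebraicGeometry.Morphisms.QuasiCompact
import Mathlib.AlgebraicGeometry.Morphisms.QuasiFinite
import Mathlib.AlgebraicGeometry.Morphisms.QuasiSeparated
import Mathlib.AlgebraicGeometry.Morphisms.RingHomProperties
import Mathlib.AlgebraicGeometry.Morphisms.SchemeTheoreticallyDominant
import Mathlib.AlgebraicGeometry.Morphisms.Separated
import Mathlib.AlgebraicGeometry.Morphisms.Smooth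
import Mathlib.AlgebraicGeometry.Morphisms.SmoothFiber
import Mathlib.AlgebraicGeometry.Morphisms.SurjectiveOnStalks
import Mathlib.AlgebraicGeometry.Morphisms.UnderlyingMap
import Mathlib.AlgebraicGeometry.Morphisms.UniversallyClosed
import Mathlib.AlgebraicGeometry.Morphisms.UniversallyInjective
import Mathlib.AlgebraicGeometry.Morphisms.UniversallyOpen
import Mathlib.AlgebraicGeometry.Morphisms.WeaklyEtale
import Mathlib.AlgebraicGeometry.Noetherian
import Mathlib.AlgebraicGeometry.Normalization
import Mathlib.AlgebraicGeometry.OpenImmersion
import Mathlib.AlgebraicGeometry.OrderOfVanishing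
import Mathlib.AlgebraicGeometry.Over
import Mathlib.AlgebraicGeometry.PointsPi
import Mathlib.AlgebraicGeometry.ProjectiveSpectrum.Basic
import Mathlib.AlgebraicGeometry.ProjectiveSpectrum.Functor
import Mathlib.AlgebraicGeometry.ProjectiveSpectrum.Proper
import Mathlib.AlgebraicGeometry.ProjectiveSpectrum.Scheme
import Mathlib.AlgebraicGeometry.ProjectiveSpectrum.StructureSheaf
import Mathlib.AlgebraicGeometry.ProjectiveSpectrum.Topology
import Mathlib.AlgebraicGeometry.Properties
import Mathlib.AlgebraicGeometry.PullbackCarrier
import Mathlib.AlgebraicGeometry.Pullbacks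
import Mathlib.AlgebraicGeometry.QuasiAffine
import Mathlib.AlgebraicGeometry.RationalMap
import Mathlib.AlgebraicGeometry.RelativeGluing
import Mathlib.AlgebraicGeometry.ResidueField
import Mathlib.AlgebraicGeometry.Restrict
import Mathlib.AlgebraicGeometry.Scheme
import Mathlib.AlgebraicGeometry.Sites.Affine
import Mathlib.AlgebraicGeometry.Sites.AffineEtale
import Mathlib.AlgebraicGeometry.Sites.BigZariski
import Mathlib.AlgebraicGeometry.Sites.ConstantSheaf
import Mathlib.AlgebraicGeometry.Sites.ElladicCohomology
import Mathlib.AlgebraicGeometry.Sites.Etale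
import Mathlib.AlgebraicGeometry.Sites.EtalePoint
import Mathlib.AlgebraicGeometry.Sites.Fpqc
import Mathlib.AlgebraicGeometry.Sites.MorphismProperty
import Mathlib.AlgebraicGeometry.Sites.Pretopology
import Mathlib.AlgebraicGeometry.Sites.Proetale
import Mathlib.AlgebraicGeometry.Sites.QuasiCompact
import Mathlib.AlgebraicGeometry.Sites.Representability
import Mathlib.AlgebraicGeometry.Sites.SheafQuasiCompact
import Mathlib.AlgebraicGeometry.Sites.Small
import Mathlib.AlgebraicGeometry.Sites.SmallAffineZariski
import Mathlib.AlgebraicGeometry.Spec
import Mathlib.AlgebraicGeometry.SpreadingOut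
import Mathlib.AlgebraicGeometry.Stalk
import Mathlib.AlgebraicGeometry.StructureSheaf
import Mathlib.AlgebraicGeometry.ValuativeCriterion
import Mathlib.AlgebraicGeometry.ZariskisMainTheorem
import Mathlib.AlgebraicTopology.AlternatingFaceMapComplex
import Mathlib.AlgebraicTopology.CechNerve
import Mathlib.AlgebraicTopology.DoldKan.Compatibility
import Mathlib.AlgebraicTopology.DoldKan.Decomposition
import Mathlib.AlgebraicTopology.DoldKan.Degeneracies
import Mathlib.AlgebraicTopology.DoldKan.Equivalence
import Mathlib.AlgebraicTopology.DoldKan.EquivalenceAdditive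
import Mathlib.AlgebraicTopology.DoldKan.EquivalencePseudoabelian
import Mathlib.AlgebraicTopology.DoldKan.Faces
import Mathlib.AlgebraicTopology.DoldKan.FunctorGamma
import Mathlib.AlgebraicTopology.DoldKan.FunctorN
import Mathlib.AlgebraicTopology.DoldKan.GammaCompN
import Mathlib.AlgebraicTopology.DoldKan.Homotopies
import Mathlib.AlgebraicTopology.DoldKan.HomotopyEquivalence
import Mathlib.AlgebraicTopology.DoldKan.NCompGamma
import Mathlib.AlgebraicTopology.DoldKan.NReflectsIso
import Mathlib.AlgebraicTopology.DoldKan.Normalized
import Mathlib.AlgebraicTopology.DoldKan.Notations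
import Mathlib.AlgebraicTopology.DoldKan.PInfty
import Mathlib.AlgebraicTopology.DoldKan.Projections
import Mathlib.AlgebraicTopology.DoldKan.SplitSimplicialObject
import Mathlib.AlgebraicTopology.EilenbergSteenrod
import Mathlib.AlgebraicTopology.ExtraDegeneracy
import Mathlib.AlgebraicTopology.FundamentalGroupoid.Basic
import Mathlib.AlgebraicTopology.FundamentalGroupoid.FundamentalGroup
import Mathlib.AlgebraicTopology.FundamentalGroupoid.InducedMaps
import Mathlib.AlgebraicTopology.FundamentalGroupoid.PUnit
import Mathlib.AlgebraicTopology.FundamentalGroupoid.Product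
import Mathlib.AlgebraicTopology.FundamentalGroupoid.SimplyConnected
import Mathlib.AlgebraicTopology.ModelCategory.Basic
import Mathlib.AlgebraicTopology.ModelCategory.Bifibrant
import Mathlib.AlgebraicTopology.ModelCategory.BifibrantObjectHomotopy
import Mathlib.AlgebraicTopology.ModelCategory.BrownLemma
import Mathlib.AlgebraicTopology.ModelCategory.CategoryWithCofibrations
import Mathlib.AlgebraicTopology.ModelCategory.CofibrantObjectHomotopy
import Mathlib.AlgebraicTopology.ModelCategory.Cylinder
import Mathlib.AlgebraicTopology.ModelCategory.DerivabilityStructureCofibrant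
import Mathlib.AlgebraicTopology.ModelCategory.DerivabilityStructureFibrant
import Mathlib.AlgebraicTopology.ModelCategory.FibrantObjectHomotopy
import Mathlib.AlgebraicTopology.ModelCategory.FundamentalLemma
import Mathlib.AlgebraicTopology.ModelCategory.Homotopy
import Mathlib.AlgebraicTopology.ModelCategory.Instances
import Mathlib.AlgebraicTopology.ModelCategory.IsCofibrant
import Mathlib.AlgebraicTopology.ModelCategory.JoyalTrick
import Mathlib.AlgebraicTopology.ModelCategory.LeftHomotopy
import Mathlib.AlgebraicTopology.ModelCategory.Opposite
import Mathlib.AlgebraicTopology.ModelCategory.Over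
import Mathlib.AlgebraicTopology.ModelCategory.PathObject
import Mathlib.AlgebraicTopology.ModelCategory.RightHomotopy
import Mathlib.AlgebraicTopology.ModelCategory.Transport
import Mathlib.AlgebraicTopology.MooreComplex
import Mathlib.AlgebraicTopology.Quasicategory.Basic
import Mathlib.AlgebraicTopology.Quasicategory.InnerFibration
import Mathlib.AlgebraicTopology.Quasicategory.Nerve
import Mathlib.AlgebraicTopology.Quasicategory.StrictBicategory
import Mathlib.AlgebraicTopology.Quasicategory.StrictSegal
import Mathlib.AlgebraicTopology.Quasicategory.TwoTruncated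
import Mathlib.AlgebraicTopology.Reedy.Basic
import Mathlib.AlgebraicTopology.RelativeCellComplex.AttachCells
import Mathlib.AlgebraicTopology.RelativeCellComplex.Basic
import Mathlib.AlgebraicTopology.SimplexCategory.Augmented.Basic
import Mathlib.AlgebraicTopology.SimplexCategory.Augmented.Monoidal
import Mathlib.AlgebraicTopology.SimplexCategory.Basic
import Mathlib.AlgebraicTopology.SimplexCategory.Defs
import Mathlib.AlgebraicTopology.SimplexCategory.DeltaZeroIter
import Mathlib.AlgebraicTopology.SimplexCategory.GeneratorsRelations.Basic
import Mathlib.AlgebraicTopology.SimplexCategory.GeneratorsRelations.EpiMono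
import Mathlib.AlgebraicTopology.SimplexCategory.GeneratorsRelations.NormalForms
import Mathlib.AlgebraicTopology.SimplexCategory.MorphismProperty
import Mathlib.AlgebraicTopology.SimplexCategory.Rev
import Mathlib.AlgebraicTopology.SimplexCategory.SemiSimplexCategory
import Mathlib.AlgebraicTopology.SimplexCategory.ToMkOne
import Mathlib.AlgebraicTopology.SimplexCategory.Truncated
import Mathlib.AlgebraicTopology.SimplicialCategory.Basic
import Mathlib.AlgebraicTopology.SimplicialCategory.SimplicialObject
import Mathlib.AlgebraicTopology.SimplicialComplex.Basic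
import Mathlib.AlgebraicTopology.SimplicialNerve
import Mathlib.AlgebraicTopology.SimplicialObject.Basic
import Mathlib.AlgebraicTopology.SimplicialObject.ChainHomotopy
import Mathlib.AlgebraicTopology.SimplicialObject.Coskeletal
import Mathlib.AlgebraicTopology.SimplicialObject.DeltaZeroIter
import Mathlib.AlgebraicTopology.SimplicialObject.Homotopy
import Mathlib.AlgebraicTopology.SimplicialObject.II
import Mathlib.AlgebraicTopology.SimplicialObject.Op
import Mathlib.AlgebraicTopology.SimplicialObject.Split
import Mathlib.AlgebraicTopology.SimplicialSet.AnodyneExtensions.Basic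
import Mathlib.AlgebraicTopology.SimplicialSet.AnodyneExtensions.Inner.Basic
import Mathlib.AlgebraicTopology.SimplicialSet.AnodyneExtensions.Inner.PushoutProduct
import Mathlib.AlgebraicTopology.SimplicialSet.AnodyneExtensions.IsUniquelyCodimOneFace
import Mathlib.AlgebraicTopology.SimplicialSet.AnodyneExtensions.Op
import Mathlib.AlgebraicTopology.SimplicialSet.AnodyneExtensions.Pairing
import Mathlib.AlgebraicTopology.SimplicialSet.AnodyneExtensions.PairingCore
import Mathlib.AlgebraicTopology.SimplicialSet.AnodyneExtensions.PushoutProduct
import Mathlib.AlgebraicTopology.SimplicialSet.AnodyneExtensions.Rank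
import Mathlib.AlgebraicTopology.SimplicialSet.AnodyneExtensions.RankNat
import Mathlib.AlgebraicTopology.SimplicialSet.AnodyneExtensions.RelativeCellComplex
import Mathlib.AlgebraicTopology.SimplicialSet.AnodyneExtensions.UnionProd
import Mathlib.AlgebraicTopology.SimplicialSet.Basic
import Mathlib.AlgebraicTopology.SimplicialSet.Boundary
import Mathlib.AlgebraicTopology.SimplicialSet.CategoryWithFibrations
import Mathlib.AlgebraicTopology.SimplicialSet.CoherentIso
import Mathlib.AlgebraicTopology.SimplicialSet.CompStruct
import Mathlib.AlgebraicTopology.SimplicialSet.CompStructTruncated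
import Mathlib.AlgebraicTopology.SimplicialSet.Coskeletal
import Mathlib.AlgebraicTopology.SimplicialSet.Degenerate
import Mathlib.AlgebraicTopology.SimplicialSet.Dimension
import Mathlib.AlgebraicTopology.SimplicialSet.Finite
import Mathlib.AlgebraicTopology.SimplicialSet.FiniteColimits
import Mathlib.AlgebraicTopology.SimplicialSet.FiniteProd
import Mathlib.AlgebraicTopology.SimplicialSet.HoFunctorMonoidal
import Mathlib.AlgebraicTopology.SimplicialSet.Homology.Basic
import Mathlib.AlgebraicTopology.SimplicialSet.Homology.HomologyZero
import Mathlib.AlgebraicTopology.SimplicialSet.Homology.HomotopyInvariance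
import Mathlib.AlgebraicTopology.SimplicialSet.Homology.Nondegenerate
import Mathlib.AlgebraicTopology.SimplicialSet.Homotopy
import Mathlib.AlgebraicTopology.SimplicialSet.HomotopyCat
import Mathlib.AlgebraicTopology.SimplicialSet.Horn
import Mathlib.AlgebraicTopology.SimplicialSet.HornColimits
import Mathlib.AlgebraicTopology.SimplicialSet.KanComplex
import Mathlib.AlgebraicTopology.SimplicialSet.KanComplex.MulStruct
import Mathlib.AlgebraicTopology.SimplicialSet.Monoidal
import Mathlib.AlgebraicTopology.SimplicialSet.Monomorphisms
import Mathlib.AlgebraicTopology.SimplicialSet.Nerve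
import Mathlib.AlgebraicTopology.SimplicialSet.NerveAdjunction
import Mathlib.AlgebraicTopology.SimplicialSet.NerveCodiscrete
import Mathlib.AlgebraicTopology.SimplicialSet.NerveNondegenerate
import Mathlib.AlgebraicTopology.SimplicialSet.NonDegenerateSimplices
import Mathlib.AlgebraicTopology.SimplicialSet.NonDegenerateSimplicesColimit
import Mathlib.AlgebraicTopology.SimplicialSet.NonDegenerateSimplicesSubcomplex
import Mathlib.AlgebraicTopology.SimplicialSet.Nonempty
import Mathlib.AlgebraicTopology.SimplicialSet.Nonsingular
import Mathlib.AlgebraicTopology.SimplicialSet.NonsingularColimit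
import Mathlib.AlgebraicTopology.SimplicialSet.Op
import Mathlib.AlgebraicTopology.SimplicialSet.Path
import Mathlib.AlgebraicTopology.SimplicialSet.PiZero
import Mathlib.AlgebraicTopology.SimplicialSet.Presentable
import Mathlib.AlgebraicTopology.SimplicialSet.ProdStdSimplex
import Mathlib.AlgebraicTopology.SimplicialSet.ProdStdSimplexOne
import Mathlib.AlgebraicTopology.SimplicialSet.PushoutProduct
import Mathlib.AlgebraicTopology.SimplicialSet.RegularEpi
import Mathlib.AlgebraicTopology.SimplicialSet.RelativeMorphism
import Mathlib.AlgebraicTopology.SimplicialSet.Simplices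
import Mathlib.AlgebraicTopology.SimplicialSet.Skeleton
import Mathlib.AlgebraicTopology.SimplicialSet.Splitting
import Mathlib.AlgebraicTopology.SimplicialSet.StdSimplex
import Mathlib.AlgebraicTopology.SimplicialSet.StdSimplexOne
import Mathlib.AlgebraicTopology.SimplicialSet.StrictSegal
import Mathlib.AlgebraicTopology.SimplicialSet.Subcomplex
import Mathlib.AlgebraicTopology.SimplicialSet.SubcomplexColimits
import Mathlib.AlgebraicTopology.SimplicialSet.SubcomplexEvaluation
import Mathlib.AlgebraicTopology.SimplicialSet.SubcomplexOp
import Mathlib.AlgebraicTopology.SimplicialSet.Subdivision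
import Mathlib.AlgebraicTopology.SimplicialSet.TopAdj
import Mathlib.AlgebraicTopology.SingularHomology.Basic
import Mathlib.AlgebraicTopology.SingularHomology.HomologyZero
import Mathlib.AlgebraicTopology.SingularHomology.HomotopyInvariance
import Mathlib.AlgebraicTopology.SingularHomology.HomotopyInvarianceTopCat
import Mathlib.AlgebraicTopology.SingularSet
import Mathlib.AlgebraicTopology.TopologicalSimplex
import Mathlib.Analysis.AbsoluteValue.Equivalence
import Mathlib.Analysis.Analytic.Basic
import Mathlib.Analysis.Analytic.Binomial
import Mathlib.Analysis.Analytic.CPolynomial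
import Mathlib.Analysis.Analytic.CPolynomialDef
import Mathlib.Analysis.Analytic.ChangeOrigin
import Mathlib.Analysis.Analytic.Composition
import Mathlib.Analysis.Analytic.Constructions
import Mathlib.Analysis.Analytic.ConvergenceRadius
import Mathlib.Analysis.Analytic.Inverse
import Mathlib.Analysis.Analytic.IsolatedZeros
import Mathlib.Analysis.Analytic.IteratedFDeriv
import Mathlib.Analysis.Analytic.Linear
import Mathlib.Analysis.Analytic.OfScalars
import Mathlib.Analysis.Analytic.Order
import Mathlib.Analysis.Analytic.Polynomial
import Mathlib.Analysis.Analytic.RadiusLiminf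
import Mathlib.Analysis.Analytic.Uniqueness
import Mathlib.Analysis.Analytic.WithLp
import Mathlib.Analysis.Analytic.Within
import Mathlib.Analysis.AperiodicOrder.Delone.Basic
import Mathlib.Analysis.Asymptotics.AsymptoticEquivalent
import Mathlib.Analysis.Asymptotics.Completion
import Mathlib.Analysis.Asymptotics.Defs
import Mathlib.Analysis.Asymptotics.ExpGrowth
import Mathlib.Analysis.Asymptotics.Lemmas
import Mathlib.Analysis.Asymptotics.LinearGrowth
import Mathlib.Analysis.Asymptotics.SpecificAsymptotics
import Mathlib.Analysis.Asymptotics.SuperpolynomialDecay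
import Mathlib.Analysis.Asymptotics.TVS
import Mathlib.Analysis.Asymptotics.Theta
import Mathlib.Analysis.BoundedVariation
import Mathlib.Analysis.BoxIntegral.Basic
import Mathlib.Analysis.BoxIntegral.Box.Basic
import Mathlib.Analysis.BoxIntegral.Box.SubboxInduction
import Mathlib.Analysis.BoxIntegral.DivergenceTheorem
import Mathlib.Analysis.BoxIntegral.Integrability
import Mathlib.Analysis.BoxIntegral.Partition.Additive
import Mathlib.Analysis.BoxIntegral.Partition.Basic
import Mathlib.Analysis.BoxIntegral.Partition.Filter
import Mathlib.Analysis.BoxIntegral.Partition.Measure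
import Mathlib.Analysis.BoxIntegral.Partition.Split
import Mathlib.Analysis.BoxIntegral.Partition.SubboxInduction
import Mathlib.Analysis.BoxIntegral.Partition.Tagged
import Mathlib.Analysis.BoxIntegral.UnitPartition
import Mathlib.Analysis.CStarAlgebra.ApproximateUnit
import Mathlib.Analysis.CStarAlgebra.Basic
import Mathlib.Analysis.CStarAlgebra.CStarMatrix
import Mathlib.Analysis.CStarAlgebra.Classes
import Mathlib.Analysis.CStarAlgebra.CompletelyPositiveMap
import Mathlib.Analysis.CStarAlgebra.ContinuousFunctionalCalculus.Basic
import Mathlib.Analysis.CStarAlgebra.ContinuousFunctionalCalculus.Commute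
import Mathlib.Analysis.CStarAlgebra.ContinuousFunctionalCalculus.Continuity
import Mathlib.Analysis.CStarAlgebra.ContinuousFunctionalCalculus.Instances
import Mathlib.Analysis.CStarAlgebra.ContinuousFunctionalCalculus.Integral
import Mathlib.Analysis.CStarAlgebra.ContinuousFunctionalCalculus.Isometric
import Mathlib.Analysis.CStarAlgebra.ContinuousFunctionalCalculus.NonUnital
import Mathlib.Analysis.CStarAlgebra.ContinuousFunctionalCalculus.Note
import Mathlib.Analysis.CStarAlgebra.ContinuousFunctionalCalculus.Order
import Mathlib.Analysis.CStarAlgebra.ContinuousFunctionalCalculus.Pi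
import Mathlib.Analysis.CStarAlgebra.ContinuousFunctionalCalculus.Projection
import Mathlib.Analysis.CStarAlgebra.ContinuousFunctionalCalculus.Range
import Mathlib.Analysis.CStarAlgebra.ContinuousFunctionalCalculus.RealImaginaryPart
import Mathlib.Analysis.CStarAlgebra.ContinuousFunctionalCalculus.Restrict
import Mathlib.Analysis.CStarAlgebra.ContinuousFunctionalCalculus.Unique
import Mathlib.Analysis.CStarAlgebra.ContinuousFunctionalCalculus.Unital
import Mathlib.Analysis.CStarAlgebra.ContinuousFunctionalCalculus.Unitary
import Mathlib.Analysis.CStarAlgebra.ContinuousLinearMap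
import Mathlib.Analysis.CStarAlgebra.ContinuousMap
import Mathlib.Analysis.CStarAlgebra.Exponential
import Mathlib.Analysis.CStarAlgebra.Extreme
import Mathlib.Analysis.CStarAlgebra.Fuglede
import Mathlib.Analysis.CStarAlgebra.GelfandDuality
import Mathlib.Analysis.CStarAlgebra.GelfandNaimarkSegal
import Mathlib.Analysis.CStarAlgebra.Hom
import Mathlib.Analysis.CStarAlgebra.Matrix
import Mathlib.Analysis.CStarAlgebra.Module.Constructions
import Mathlib.Analysis.CStarAlgebra.Module.Defs
import Mathlib.Analysis.CStarAlgebra.Module.Synonym
import Mathlib.Analysis.CStarAlgebra.Multiplier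
import Mathlib.Analysis.CStarAlgebra.PositiveLinearMap
import Mathlib.Analysis.CStarAlgebra.Projection
import Mathlib.Analysis.CStarAlgebra.SpecialFunctions.PosPart
import Mathlib.Analysis.CStarAlgebra.Spectrum
import Mathlib.Analysis.CStarAlgebra.Unitary.Connected
import Mathlib.Analysis.CStarAlgebra.Unitary.Maps
import Mathlib.Analysis.CStarAlgebra.Unitary.Span
import Mathlib.Analysis.CStarAlgebra.Unitization
import Mathlib.Analysis.CStarAlgebra.lpSpace
import Mathlib.Analysis.Calculus.AbsolutelyMonotone
import Mathlib.Analysis.Calculus.AddTorsor.AffineMap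
import Mathlib.Analysis.Calculus.AddTorsor.Coord
import Mathlib.Analysis.Calculus.BumpFunction.Basic
import Mathlib.Analysis.Calculus.BumpFunction.Convolution
import Mathlib.Analysis.Calculus.BumpFunction.FiniteDimension
import Mathlib.Analysis.Calculus.BumpFunction.InnerProduct
import Mathlib.Analysis.Calculus.BumpFunction.Normed
import Mathlib.Analysis.Calculus.BumpFunction.SmoothApprox
import Mathlib.Analysis.Calculus.Conformal.InnerProduct
import Mathlib.Analysis.Calculus.Conformal.NormedSpace
import Mathlib.Analysis.Calculus.ContDiff.Basic
import Mathlib.Analysis.Calculus.ContDiff.Bounds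
import Mathlib.Analysis.Calculus.ContDiff.CPolynomial
import Mathlib.Analysis.Calculus.ContDiff.Comp
import Mathlib.Analysis.Calculus.ContDiff.Convolution
import Mathlib.Analysis.Calculus.ContDiff.Defs
import Mathlib.Analysis.Calculus.ContDiff.Deriv
import Mathlib.Analysis.Calculus.ContDiff.FTaylorSeries
import Mathlib.Analysis.Calculus.ContDiff.FaaDiBruno
import Mathlib.Analysis.Calculus.ContDiff.FiniteDimension
import Mathlib.Analysis.Calculus.ContDiff.Operations
import Mathlib.Analysis.Calculus.ContDiff.Polynomial
import Mathlib.Analysis.Calculus.ContDiff.RCLike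
import Mathlib.Analysis.Calculus.ContDiff.RestrictScalars
import Mathlib.Analysis.Calculus.ContDiff.WithLp
import Mathlib.Analysis.Calculus.ContDiffHolder.Pointwise
import Mathlib.Analysis.Calculus.DSlope
import Mathlib.Analysis.Calculus.Darboux
import Mathlib.Analysis.Calculus.Deriv.Abs
import Mathlib.Analysis.Calculus.Deriv.Add
import Mathlib.Analysis.Calculus.Deriv.AffineMap
import Mathlib.Analysis.Calculus.Deriv.Basic
import Mathlib.Analysis.Calculus.Deriv.Comp
import Mathlib.Analysis.Calculus.Deriv.CompMul
import Mathlib.Analysis.Calculus.Deriv.Inv
import Mathlib.Analysis.Calculus.Deriv.Inverse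
import Mathlib.Analysis.Calculus.Deriv.Linear
import Mathlib.Analysis.Calculus.Deriv.MeanValue
import Mathlib.Analysis.Calculus.Deriv.Mul
import Mathlib.Analysis.Calculus.Deriv.Pi
import Mathlib.Analysis.Calculus.Deriv.Polynomial
import Mathlib.Analysis.Calculus.Deriv.Pow
import Mathlib.Analysis.Calculus.Deriv.Prod
import Mathlib.Analysis.Calculus.Deriv.Shift
import Mathlib.Analysis.Calculus.Deriv.Slope
import Mathlib.Analysis.Calculus.Deriv.Star
import Mathlib.Analysis.Calculus.Deriv.Support
import Mathlib.Analysis.Calculus.Deriv.ZPow
import Mathlib.Analysis.Calculus.DerivativeTest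
import Mathlib.Analysis.Calculus.DiffContOnCl
import Mathlib.Analysis.Calculus.DifferentialForm.Basic
import Mathlib.Analysis.Calculus.DifferentialForm.VectorField
import Mathlib.Analysis.Calculus.FDeriv.Add
import Mathlib.Analysis.Calculus.FDeriv.Affine
import Mathlib.Analysis.Calculus.FDeriv.Analytic
import Mathlib.Analysis.Calculus.FDeriv.Basic
import Mathlib.Analysis.Calculus.FDeriv.Bilinear
import Mathlib.Analysis.Calculus.FDeriv.Comp
import Mathlib.Analysis.Calculus.FDeriv.CompCLM
import Mathlib.Analysis.Calculus.FDeriv.Congr
import Mathlib.Analysis.Calculus.FDeriv.Const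
import Mathlib.Analysis.Calculus.FDeriv.ContinuousAlternatingMap
import Mathlib.Analysis.Calculus.FDeriv.ContinuousMultilinearMap
import Mathlib.Analysis.Calculus.FDeriv.Defs
import Mathlib.Analysis.Calculus.FDeriv.Equiv
import Mathlib.Analysis.Calculus.FDeriv.Extend
import Mathlib.Analysis.Calculus.FDeriv.Linear
import Mathlib.Analysis.Calculus.FDeriv.Measurable
import Mathlib.Analysis.Calculus.FDeriv.Mul
import Mathlib.Analysis.Calculus.FDeriv.Norm
import Mathlib.Analysis.Calculus.FDeriv.OfCompLeft
import Mathlib.Analysis.Calculus.FDeriv.Partial
import Mathlib.Analysis.Calculus.FDeriv.Pi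
import Mathlib.Analysis.Calculus.FDeriv.Pow
import Mathlib.Analysis.Calculus.FDeriv.Prod
import Mathlib.Analysis.Calculus.FDeriv.RestrictScalars
import Mathlib.Analysis.Calculus.FDeriv.Star
import Mathlib.Analysis.Calculus.FDeriv.Symmetric
import Mathlib.Analysis.Calculus.FDeriv.WithLp
import Mathlib.Analysis.Calculus.FormalMultilinearSeries
import Mathlib.Analysis.Calculus.Gradient.Basic
import Mathlib.Analysis.Calculus.Implicit
import Mathlib.Analysis.Calculus.ImplicitContDiff
import Mathlib.Analysis.Calculus.ImplicitFunction.Bivariate
import Mathlib.Analysis.Calculus.ImplicitFunction.ProdDomain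
import Mathlib.Analysis.Calculus.InverseFunctionTheorem.Analytic
import Mathlib.Analysis.Calculus.InverseFunctionTheorem.ApproximatesLinearOn
import Mathlib.Analysis.Calculus.InverseFunctionTheorem.ContDiff
import Mathlib.Analysis.Calculus.InverseFunctionTheorem.Deriv
import Mathlib.Analysis.Calculus.InverseFunctionTheorem.FDeriv
import Mathlib.Analysis.Calculus.InverseFunctionTheorem.FiniteDimensional
import Mathlib.Analysis.Calculus.IteratedDeriv.Analytic
import Mathlib.Analysis.Calculus.IteratedDeriv.ConvergenceOnBall
import Mathlib.Analysis.Calculus.IteratedDeriv.Defs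
import Mathlib.Analysis.Calculus.IteratedDeriv.FaaDiBruno
import Mathlib.Analysis.Calculus.IteratedDeriv.Lemmas
import Mathlib.Analysis.Calculus.IteratedDeriv.WithinZpow
import Mathlib.Analysis.Calculus.LHopital
import Mathlib.Analysis.Calculus.LagrangeMultipliers
import Mathlib.Analysis.Calculus.LineDeriv.Basic
import Mathlib.Analysis.Calculus.LineDeriv.IntegrationByParts
import Mathlib.Analysis.Calculus.LineDeriv.Measurable
import Mathlib.Analysis.Calculus.LineDeriv.QuadraticMap
import Mathlib.Analysis.Calculus.LocalExtr.Basic
import Mathlib.Analysis.Calculus.LocalExtr.LineDeriv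
import Mathlib.Analysis.Calculus.LocalExtr.Polynomial
import Mathlib.Analysis.Calculus.LocalExtr.Rolle
import Mathlib.Analysis.Calculus.LogDeriv
import Mathlib.Analysis.Calculus.LogDerivUniformlyOn
import Mathlib.Analysis.Calculus.MeanValue
import Mathlib.Analysis.Calculus.Monotone
import Mathlib.Analysis.Calculus.ParametricIntegral
import Mathlib.Analysis.Calculus.ParametricIntervalIntegral
import Mathlib.Analysis.Calculus.Rademacher
import Mathlib.Analysis.Calculus.SmoothSeries
import Mathlib.Analysis.Calculus.TangentCone.Basic
import Mathlib.Analysis.Calculus.TangentCone.Defs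
import Mathlib.Analysis.Calculus.TangentCone.DimOne
import Mathlib.Analysis.Calculus.TangentCone.Pi
import Mathlib.Analysis.Calculus.TangentCone.Prod
import Mathlib.Analysis.Calculus.TangentCone.ProperSpace
import Mathlib.Analysis.Calculus.TangentCone.Real
import Mathlib.Analysis.Calculus.TangentCone.Seq
import Mathlib.Analysis.Calculus.Taylor
import Mathlib.Analysis.Calculus.TaylorIntegral
import Mathlib.Analysis.Calculus.UniformLimitsDeriv
import Mathlib.Analysis.Calculus.VectorField
import Mathlib.Analysis.Complex.AbelLimit
import Mathlib.Analysis.Complex.AbsMax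
import Mathlib.Analysis.Complex.Angle
import Mathlib.Analysis.Complex.Arg
import Mathlib.Analysis.Complex.Asymptotics
import Mathlib.Analysis.Complex.Basic
import Mathlib.Analysis.Complex.BorelCaratheodory
import Mathlib.Analysis.Complex.BranchLogRoot
import Mathlib.Analysis.Complex.CanonicalDecomposition
import Mathlib.Analysis.Complex.Cardinality
import Mathlib.Analysis.Complex.CauchyIntegral
import Mathlib.Analysis.Complex.Circle
import Mathlib.Analysis.Complex.Conformal
import Mathlib.Analysis.Complex.Convex
import Mathlib.Analysis.Complex.CoveringMap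
import Mathlib.Analysis.Complex.Exponential
import Mathlib.Analysis.Complex.ExponentialBounds
import Mathlib.Analysis.Complex.Hadamard
import Mathlib.Analysis.Complex.HalfPlane
import Mathlib.Analysis.Complex.Harmonic.Analytic
import Mathlib.Analysis.Complex.Harmonic.Liouville
import Mathlib.Analysis.Complex.Harmonic.MeanValue
import Mathlib.Analysis.Complex.Harmonic.Poisson
import Mathlib.Analysis.Complex.HasPrimitives
import Mathlib.Analysis.Complex.IntegerCompl
import Mathlib.Analysis.Complex.IsIntegral
import Mathlib.Analysis.Complex.Isometry
import Mathlib.Analysis.Complex.JensenFormula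
import Mathlib.Analysis.Complex.Liouville
import Mathlib.Analysis.Complex.LocallyUniformLimit
import Mathlib.Analysis.Complex.MeanValue
import Mathlib.Analysis.Complex.Norm
import Mathlib.Analysis.Complex.OpenMapping
import Mathlib.Analysis.Complex.OperatorNorm
import Mathlib.Analysis.Complex.Order
import Mathlib.Analysis.Complex.Periodic
import Mathlib.Analysis.Complex.PhragmenLindelof
import Mathlib.Analysis.Complex.Poisson
import Mathlib.Analysis.Complex.Polynomial.Basic
import Mathlib.Analysis.Complex.Polynomial.GaussLucas
import Mathlib.Analysis.Complex.Polynomial.UnitTrinomial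
import Mathlib.Analysis.Complex.Positivity
import Mathlib.Analysis.Complex.ReImTopology
import Mathlib.Analysis.Complex.RealDeriv
import Mathlib.Analysis.Complex.RemovableSingularity
import Mathlib.Analysis.Complex.RiemannMapping
import Mathlib.Analysis.Complex.Schwarz
import Mathlib.Analysis.Complex.Spectrum
import Mathlib.Analysis.Complex.SqrtDeriv
import Mathlib.Analysis.Complex.SummableUniformlyOn
import Mathlib.Analysis.Complex.TaylorSeries
import Mathlib.Analysis.Complex.Tietze
import Mathlib.Analysis.Complex.Trigonometric
import Mathlib.Analysis.Complex.UnitDisc.Basic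
import Mathlib.Analysis.Complex.UpperHalfPlane.Basic
import Mathlib.Analysis.Complex.UpperHalfPlane.Exp
import Mathlib.Analysis.Complex.UpperHalfPlane.FixedPoints
import Mathlib.Analysis.Complex.UpperHalfPlane.FunctionsBoundedAtInfty
import Mathlib.Analysis.Complex.UpperHalfPlane.Manifold
import Mathlib.Analysis.Complex.UpperHalfPlane.Measure
import Mathlib.Analysis.Complex.UpperHalfPlane.Metric
import Mathlib.Analysis.Complex.UpperHalfPlane.MoebiusAction
import Mathlib.Analysis.Complex.UpperHalfPlane.ProperAction
import Mathlib.Analysis.Complex.UpperHalfPlane.Topology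
import Mathlib.Analysis.Complex.ValueDistribution.Cartan
import Mathlib.Analysis.Complex.ValueDistribution.CharacteristicFunction
import Mathlib.Analysis.Complex.ValueDistribution.FirstMainTheorem
import Mathlib.Analysis.Complex.ValueDistribution.LogCounting.Asymptotic
import Mathlib.Analysis.Complex.ValueDistribution.LogCounting.Basic
import Mathlib.Analysis.Complex.ValueDistribution.Proximity.Basic
import Mathlib.Analysis.Complex.ValueDistribution.Proximity.IntegralPresentation
import Mathlib.Analysis.ConstantSpeed
import Mathlib.Analysis.Convex.AmpleSet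
import Mathlib.Analysis.Convex.Approximation
import Mathlib.Analysis.Convex.Basic
import Mathlib.Analysis.Convex.Between
import Mathlib.Analysis.Convex.BetweenList
import Mathlib.Analysis.Convex.Birkhoff
import Mathlib.Analysis.Convex.Body
import Mathlib.Analysis.Convex.Caratheodory
import Mathlib.Analysis.Convex.Combination
import Mathlib.Analysis.Convex.Cone.Basic
import Mathlib.Analysis.Convex.Cone.Closure
import Mathlib.Analysis.Convex.Cone.Dual
import Mathlib.Analysis.Convex.Cone.Extension
import Mathlib.Analysis.Convex.Cone.InnerDual
import Mathlib.Analysis.Convex.Cone.TensorProduct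
import Mathlib.Analysis.Convex.Continuous
import Mathlib.Analysis.Convex.ContinuousLinearEquiv
import Mathlib.Analysis.Convex.Contractible
import Mathlib.Analysis.Convex.Deriv
import Mathlib.Analysis.Convex.DoublyStochasticMatrix
import Mathlib.Analysis.Convex.EGauge
import Mathlib.Analysis.Convex.Exposed
import Mathlib.Analysis.Convex.Extrema
import Mathlib.Analysis.Convex.Extreme
import Mathlib.Analysis.Convex.Function
import Mathlib.Analysis.Convex.FunctionTopology
import Mathlib.Analysis.Convex.Gauge
import Mathlib.Analysis.Convex.GaugeRescale
import Mathlib.Analysis.Convex.Hull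
import Mathlib.Analysis.Convex.Independent
import Mathlib.Analysis.Convex.Integral
import Mathlib.Analysis.Convex.Intrinsic
import Mathlib.Analysis.Convex.Jensen
import Mathlib.Analysis.Convex.Join
import Mathlib.Analysis.Convex.KreinMilman
import Mathlib.Analysis.Convex.LinearIsometry
import Mathlib.Analysis.Convex.Measure
import Mathlib.Analysis.Convex.MetricSpace
import Mathlib.Analysis.Convex.Mul
import Mathlib.Analysis.Convex.NNReal
import Mathlib.Analysis.Convex.PartitionOfUnity
import Mathlib.Analysis.Convex.PathConnected
import Mathlib.Analysis.Convex.Piecewise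
import Mathlib.Analysis.Convex.Quasiconvex
import Mathlib.Analysis.Convex.Radon
import Mathlib.Analysis.Convex.Segment
import Mathlib.Analysis.Convex.Side
import Mathlib.Analysis.Convex.SimplicialComplex.AffineIndependentUnion
import Mathlib.Analysis.Convex.SimplicialComplex.Basic
import Mathlib.Analysis.Convex.Slope
import Mathlib.Analysis.Convex.SpecificFunctions.Basic
import Mathlib.Analysis.Convex.SpecificFunctions.Deriv
import Mathlib.Analysis.Convex.SpecificFunctions.Pow
import Mathlib.Analysis.Convex.Star
import Mathlib.Analysis.Convex.StdSimplex
import Mathlib.Analysis.Convex.StoneSeparation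
import Mathlib.Analysis.Convex.Strict
import Mathlib.Analysis.Convex.Strict.Extreme
import Mathlib.Analysis.Convex.StrictCombination
import Mathlib.Analysis.Convex.StrictConvexBetween
import Mathlib.Analysis.Convex.StrictConvexSpace
import Mathlib.Analysis.Convex.Strong
import Mathlib.Analysis.Convex.Topology
import Mathlib.Analysis.Convex.TotallyBounded
import Mathlib.Analysis.Convex.Uniform
import Mathlib.Analysis.Convex.Visible
import Mathlib.Analysis.Convolution
import Mathlib.Analysis.Distribution.AEEqOfIntegralContDiff
import Mathlib.Analysis.Distribution.ContDiffMapSupportedIn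
import Mathlib.Analysis.Distribution.DerivNotation
import Mathlib.Analysis.Distribution.Distribution
import Mathlib.Analysis.Distribution.FourierMultiplier
import Mathlib.Analysis.Distribution.FourierSchwartz
import Mathlib.Analysis.Distribution.SchwartzSpace
import Mathlib.Analysis.Distribution.SchwartzSpace.Basic
import Mathlib.Analysis.Distribution.SchwartzSpace.Deriv
import Mathlib.Analysis.Distribution.SchwartzSpace.Fourier
import Mathlib.Analysis.Distribution.Sobolev
import Mathlib.Analysis.Distribution.Support
import Mathlib.Analysis.Distribution.TemperateGrowth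
import Mathlib.Analysis.Distribution.TemperedDistribution
import Mathlib.Analysis.Distribution.TestFunction
import Mathlib.Analysis.Fourier.AddCircle
import Mathlib.Analysis.Fourier.AddCircleMulti
import Mathlib.Analysis.Fourier.BoundedContinuousFunctionChar
import Mathlib.Analysis.Fourier.Convolution
import Mathlib.Analysis.Fourier.FiniteAbelian.Orthogonality
import Mathlib.Analysis.Fourier.FiniteAbelian.PontryaginDuality
import Mathlib.Analysis.Fourier.FourierTransform
import Mathlib.Analysis.Fourier.FourierTransformDeriv
import Mathlib.Analysis.Fourier.Inversion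
import Mathlib.Analysis.Fourier.LpSpace
import Mathlib.Analysis.Fourier.Notation
import Mathlib.Analysis.Fourier.PoissonSummation
import Mathlib.Analysis.Fourier.RiemannLebesgueLemma
import Mathlib.Analysis.Fourier.ZMod
import Mathlib.Analysis.FunctionalSpaces.SobolevInequality
import Mathlib.Analysis.Hofer
import Mathlib.Analysis.InnerProductSpace.Adjoint
import Mathlib.Analysis.InnerProductSpace.Affine
import Mathlib.Analysis.InnerProductSpace.Basic
import Mathlib.Analysis.InnerProductSpace.Calculus
import Mathlib.Analysis.InnerProductSpace.CanonicalTensor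
import Mathlib.Analysis.InnerProductSpace.Coalgebra
import Mathlib.Analysis.InnerProductSpace.Completion
import Mathlib.Analysis.InnerProductSpace.ConformalLinearMap
import Mathlib.Analysis.InnerProductSpace.Continuous
import Mathlib.Analysis.InnerProductSpace.Convex
import Mathlib.Analysis.InnerProductSpace.Defs
import Mathlib.Analysis.InnerProductSpace.Dual
import Mathlib.Analysis.InnerProductSpace.EuclideanDist
import Mathlib.Analysis.InnerProductSpace.ExteriorPower
import Mathlib.Analysis.InnerProductSpace.GramMatrix
import Mathlib.Analysis.InnerProductSpace.GramSchmidtOrtho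
import Mathlib.Analysis.InnerProductSpace.Harmonic.Basic
import Mathlib.Analysis.InnerProductSpace.Harmonic.Constructions
import Mathlib.Analysis.InnerProductSpace.Harmonic.HarmonicContOnCl
import Mathlib.Analysis.InnerProductSpace.JointEigenspace
import Mathlib.Analysis.InnerProductSpace.Laplacian
import Mathlib.Analysis.InnerProductSpace.LaxMilgram
import Mathlib.Analysis.InnerProductSpace.LinearMap
import Mathlib.Analysis.InnerProductSpace.LinearPMap
import Mathlib.Analysis.InnerProductSpace.MeanErgodic
import Mathlib.Analysis.InnerProductSpace.MulOpposite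
import Mathlib.Analysis.InnerProductSpace.NormDet
import Mathlib.Analysis.InnerProductSpace.NormPow
import Mathlib.Analysis.InnerProductSpace.OfNorm
import Mathlib.Analysis.InnerProductSpace.Orientation
import Mathlib.Analysis.InnerProductSpace.Orthogonal
import Mathlib.Analysis.InnerProductSpace.Orthonormal
import Mathlib.Analysis.InnerProductSpace.PiL2
import Mathlib.Analysis.InnerProductSpace.Positive
import Mathlib.Analysis.InnerProductSpace.ProdL2
import Mathlib.Analysis.InnerProductSpace.Projection.Basic
import Mathlib.Analysis.InnerProductSpace.Projection.FiniteDimensional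
import Mathlib.Analysis.InnerProductSpace.Projection.Minimal
import Mathlib.Analysis.InnerProductSpace.Projection.Reflection
import Mathlib.Analysis.InnerProductSpace.Projection.Submodule
import Mathlib.Analysis.InnerProductSpace.Rayleigh
import Mathlib.Analysis.InnerProductSpace.Reproducing
import Mathlib.Analysis.InnerProductSpace.Semisimple
import Mathlib.Analysis.InnerProductSpace.SingularValues
import Mathlib.Analysis.InnerProductSpace.Spectrum
import Mathlib.Analysis.InnerProductSpace.StandardSubspace
import Mathlib.Analysis.InnerProductSpace.StarOrder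
import Mathlib.Analysis.InnerProductSpace.Subspace
import Mathlib.Analysis.InnerProductSpace.Symmetric
import Mathlib.Analysis.InnerProductSpace.TensorProduct
import Mathlib.Analysis.InnerProductSpace.Trace
import Mathlib.Analysis.InnerProductSpace.TwoDim
import Mathlib.Analysis.InnerProductSpace.WeakOperatorTopology
import Mathlib.Analysis.InnerProductSpace.l2Space
import Mathlib.Analysis.LConvolution
import Mathlib.Analysis.LocallyConvex.AbsConvex
import Mathlib.Analysis.LocallyConvex.AbsConvexOpen
import Mathlib.Analysis.LocallyConvex.BalancedCoreHull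
import Mathlib.Analysis.LocallyConvex.Barrelled
import Mathlib.Analysis.LocallyConvex.Basic
import Mathlib.Analysis.LocallyConvex.Bounded
import Mathlib.Analysis.LocallyConvex.ContinuousOfBounded
import Mathlib.Analysis.LocallyConvex.HahnBanach
import Mathlib.Analysis.LocallyConvex.Montel
import Mathlib.Analysis.LocallyConvex.PointwiseConvergence
import Mathlib.Analysis.LocallyConvex.Polar
import Mathlib.Analysis.LocallyConvex.SeparatingDual
import Mathlib.Analysis.LocallyConvex.Separation
import Mathlib.Analysis.LocallyConvex.StrongTopology
import Mathlib.Analysis.LocallyConvex.WeakDual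
import Mathlib.Analysis.LocallyConvex.WeakOperatorTopology
import Mathlib.Analysis.LocallyConvex.WeakSpace
import Mathlib.Analysis.LocallyConvex.WithSeminorms
import Mathlib.Analysis.Matrix.Hermitian
import Mathlib.Analysis.Matrix.HermitianFunctionalCalculus
import Mathlib.Analysis.Matrix.LDL
import Mathlib.Analysis.Matrix.Normed
import Mathlib.Analysis.Matrix.Order
import Mathlib.Analysis.Matrix.PosDef
import Mathlib.Analysis.Matrix.Spectrum
import Mathlib.Analysis.MeanInequalities
import Mathlib.Analysis.MeanInequalitiesPow
import Mathlib.Analysis.MellinInversion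
import Mathlib.Analysis.MellinTransform
import Mathlib.Analysis.Meromorphic.Basic
import Mathlib.Analysis.Meromorphic.Complex
import Mathlib.Analysis.Meromorphic.Divisor
import Mathlib.Analysis.Meromorphic.FactorizedRational
import Mathlib.Analysis.Meromorphic.IsolatedZeros
import Mathlib.Analysis.Meromorphic.LogDeriv
import Mathlib.Analysis.Meromorphic.NormalForm
import Mathlib.Analysis.Meromorphic.Order
import Mathlib.Analysis.Meromorphic.RCLike
import Mathlib.Analysis.Meromorphic.TrailingCoefficient
import Mathlib.Analysis.Normed.Affine.AddTorsor
import Mathlib.Analysis.Normed.Affine.AddTorsorBases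
import Mathlib.Analysis.Normed.Affine.AsymptoticCone
import Mathlib.Analysis.Normed.Affine.Ceva
import Mathlib.Analysis.Normed.Affine.ContinuousAffineMap
import Mathlib.Analysis.Normed.Affine.Convex
import Mathlib.Analysis.Normed.Affine.Isometry
import Mathlib.Analysis.Normed.Affine.MazurUlam
import Mathlib.Analysis.Normed.Affine.Simplex
import Mathlib.Analysis.Normed.Algebra.Basic
import Mathlib.Analysis.Normed.Algebra.DualNumber
import Mathlib.Analysis.Normed.Algebra.Exponential
import Mathlib.Analysis.Normed.Algebra.GelfandFormula
import Mathlib.Analysis.Normed.Algebra.GelfandMazur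
import Mathlib.Analysis.Normed.Algebra.MatrixExponential
import Mathlib.Analysis.Normed.Algebra.QuaternionExponential
import Mathlib.Analysis.Normed.Algebra.Spectrum
import Mathlib.Analysis.Normed.Algebra.TrivSqZeroExt
import Mathlib.Analysis.Normed.Algebra.Ultra
import Mathlib.Analysis.Normed.Algebra.Unitization
import Mathlib.Analysis.Normed.Algebra.UnitizationL1
import Mathlib.Analysis.Normed.Field.Approximation
import Mathlib.Analysis.Normed.Field.Basic
import Mathlib.Analysis.Normed.Field.Dense
import Mathlib.Analysis.Normed.Field.Instances
import Mathlib.Analysis.Normed.Field.Krasner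
import Mathlib.Analysis.Normed.Field.Lemmas
import Mathlib.Analysis.Normed.Field.ProperSpace
import Mathlib.Analysis.Normed.Field.TransferInstance
import Mathlib.Analysis.Normed.Field.Ultra
import Mathlib.Analysis.Normed.Field.UnitBall
import Mathlib.Analysis.Normed.Field.WithAbs
import Mathlib.Analysis.Normed.Group.AddCircle
import Mathlib.Analysis.Normed.Group.AddTorsor
import Mathlib.Analysis.Normed.Group.BallSphere
import Mathlib.Analysis.Normed.Group.Basic
import Mathlib.Analysis.Normed.Group.Bounded
import Mathlib.Analysis.Normed.Group.CocompactMap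
import Mathlib.Analysis.Normed.Group.Completeness
import Mathlib.Analysis.Normed.Group.Completion
import Mathlib.Analysis.Normed.Group.Constructions
import Mathlib.Analysis.Normed.Group.Continuity
import Mathlib.Analysis.Normed.Group.ControlledClosure
import Mathlib.Analysis.Normed.Group.Defs
import Mathlib.Analysis.Normed.Group.FunctionSeries
import Mathlib.Analysis.Normed.Group.Hom
import Mathlib.Analysis.Normed.Group.HomCompletion
import Mathlib.Analysis.Normed.Group.Indicator
import Mathlib.Analysis.Normed.Group.InfiniteSum
import Mathlib.Analysis.Normed.Group.Int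
import Mathlib.Analysis.Normed.Group.Lemmas
import Mathlib.Analysis.Normed.Group.NullSubmodule
import Mathlib.Analysis.Normed.Group.Pointwise
import Mathlib.Analysis.Normed.Group.Quotient
import Mathlib.Analysis.Normed.Group.Rat
import Mathlib.Analysis.Normed.Group.Real
import Mathlib.Analysis.Normed.Group.SemiNormedGrp
import Mathlib.Analysis.Normed.Group.SemiNormedGrp.Completion
import Mathlib.Analysis.Normed.Group.SemiNormedGrp.Kernels
import Mathlib.Analysis.Normed.Group.Seminorm
import Mathlib.Analysis.Normed.Group.SeparationQuotient
import Mathlib.Analysis.Normed.Group.Subgroup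
import Mathlib.Analysis.Normed.Group.Submodule
import Mathlib.Analysis.Normed.Group.Tannery
import Mathlib.Analysis.Normed.Group.Ultra
import Mathlib.Analysis.Normed.Group.Uniform
import Mathlib.Analysis.Normed.Group.ZeroAtInfty
import Mathlib.Analysis.Normed.Lp.Finsupp
import Mathlib.Analysis.Normed.Lp.LpEquiv
import Mathlib.Analysis.Normed.Lp.Matrix
import Mathlib.Analysis.Normed.Lp.MeasurableSpace
import Mathlib.Analysis.Normed.Lp.PiLp
import Mathlib.Analysis.Normed.Lp.ProdLp
import Mathlib.Analysis.Normed.Lp.SmoothApprox
import Mathlib.Analysis.Normed.Lp.WithLp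
import Mathlib.Analysis.Normed.Lp.lpHolder
import Mathlib.Analysis.Normed.Lp.lpSpace
import Mathlib.Analysis.Normed.Module.Alternating.Basic
import Mathlib.Analysis.Normed.Module.Alternating.Curry
import Mathlib.Analysis.Normed.Module.Alternating.Uncurry.Fin
import Mathlib.Analysis.Normed.Module.Ball.Action
import Mathlib.Analysis.Normed.Module.Ball.Homeomorph
import Mathlib.Analysis.Normed.Module.Ball.Pointwise
import Mathlib.Analysis.Normed.Module.Ball.RadialEquiv
import Mathlib.Analysis.Normed.Module.Bases
import Mathlib.Analysis.Normed.Module.Basic
import Mathlib.Analysis.Normed.Module.Complemented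
import Mathlib.Analysis.Normed.Module.Completion
import Mathlib.Analysis.Normed.Module.Connected
import Mathlib.Analysis.Normed.Module.ContinuousInverse
import Mathlib.Analysis.Normed.Module.Convex
import Mathlib.Analysis.Normed.Module.DoubleDual
import Mathlib.Analysis.Normed.Module.Dual
import Mathlib.Analysis.Normed.Module.Extr
import Mathlib.Analysis.Normed.Module.FiniteDimension
import Mathlib.Analysis.Normed.Module.HahnBanach
import Mathlib.Analysis.Normed.Module.MStructure
import Mathlib.Analysis.Normed.Module.Multilinear.Basic
import Mathlib.Analysis.Normed.Module.Multilinear.Curry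
import Mathlib.Analysis.Normed.Module.MultipliableUniformlyOn
import Mathlib.Analysis.Normed.Module.Normalize
import Mathlib.Analysis.Normed.Module.PiTensorProduct.InjectiveSeminorm
import Mathlib.Analysis.Normed.Module.PiTensorProduct.ProjectiveSeminorm
import Mathlib.Analysis.Normed.Module.RCLike.Basic
import Mathlib.Analysis.Normed.Module.RCLike.Extend
import Mathlib.Analysis.Normed.Module.RCLike.Real
import Mathlib.Analysis.Normed.Module.Ray
import Mathlib.Analysis.Normed.Module.RieszLemma
import Mathlib.Analysis.Normed.Module.Shrink
import Mathlib.Analysis.Normed.Module.Span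
import Mathlib.Analysis.Normed.Module.TransferInstance
import Mathlib.Analysis.Normed.Module.WeakDual
import Mathlib.Analysis.Normed.MulAction
import Mathlib.Analysis.Normed.Operator.Asymptotics
import Mathlib.Analysis.Normed.Operator.Banach
import Mathlib.Analysis.Normed.Operator.BanachSteinhaus
import Mathlib.Analysis.Normed.Operator.Basic
import Mathlib.Analysis.Normed.Operator.Bilinear
import Mathlib.Analysis.Normed.Operator.BoundedLinearMaps
import Mathlib.Analysis.Normed.Operator.Compact
import Mathlib.Analysis.Normed.Operator.Compact.Basic
import Mathlib.Analysis.Normed.Operator.Compact.FiniteDimension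
import Mathlib.Analysis.Normed.Operator.Compact.FredholmAlternative
import Mathlib.Analysis.Normed.Operator.CompleteCodomain
import Mathlib.Analysis.Normed.Operator.Completeness
import Mathlib.Analysis.Normed.Operator.Conformal
import Mathlib.Analysis.Normed.Operator.ContinuousAlgEquiv
import Mathlib.Analysis.Normed.Operator.ContinuousLinearMap
import Mathlib.Analysis.Normed.Operator.Extend
import Mathlib.Analysis.Normed.Operator.Fredholm.Basic
import Mathlib.Analysis.Normed.Operator.FredholmAlternative
import Mathlib.Analysis.Normed.Operator.LinearIsometry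
import Mathlib.Analysis.Normed.Operator.Mul
import Mathlib.Analysis.Normed.Operator.NNNorm
import Mathlib.Analysis.Normed.Operator.NormedSpace
import Mathlib.Analysis.Normed.Operator.Perturbation.StrictByFinite
import Mathlib.Analysis.Normed.Operator.Prod
import Mathlib.Analysis.Normed.Order.Basic
import Mathlib.Analysis.Normed.Order.Hom.Basic
import Mathlib.Analysis.Normed.Order.Hom.Ultra
import Mathlib.Analysis.Normed.Order.Lattice
import Mathlib.Analysis.Normed.Order.UpperLower
import Mathlib.Analysis.Normed.Ring.Basic
import Mathlib.Analysis.Normed.Ring.Finite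
import Mathlib.Analysis.Normed.Ring.InfiniteProd
import Mathlib.Analysis.Normed.Ring.InfiniteSum
import Mathlib.Analysis.Normed.Ring.Int
import Mathlib.Analysis.Normed.Ring.Lemmas
import Mathlib.Analysis.Normed.Ring.TransferInstance
import Mathlib.Analysis.Normed.Ring.Ultra
import Mathlib.Analysis.Normed.Ring.Units
import Mathlib.Analysis.Normed.Ring.WithAbs
import Mathlib.Analysis.Normed.Unbundled.AlgebraNorm
import Mathlib.Analysis.Normed.Unbundled.FiniteExtension
import Mathlib.Analysis.Normed.Unbundled.InvariantExtension
import Mathlib.Analysis.Normed.Unbundled.IsPowMulFaithful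
import Mathlib.Analysis.Normed.Unbundled.RingSeminorm
import Mathlib.Analysis.Normed.Unbundled.SeminormFromBounded
import Mathlib.Analysis.Normed.Unbundled.SeminormFromConst
import Mathlib.Analysis.Normed.Unbundled.SmoothingSeminorm
import Mathlib.Analysis.Normed.Unbundled.SpectralNorm
import Mathlib.Analysis.NormedSpace.FunctionSeries
import Mathlib.Analysis.NormedSpace.OperatorNorm.Completeness
import Mathlib.Analysis.NormedSpace.OperatorNorm.NNNorm
import Mathlib.Analysis.NormedSpace.OperatorNorm.Prod
import Mathlib.Analysis.NormedSpace.RCLike
import Mathlib.Analysis.NormedSpace.Real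
import Mathlib.Analysis.ODE.Basic
import Mathlib.Analysis.ODE.DiscreteGronwall
import Mathlib.Analysis.ODE.ExistUnique
import Mathlib.Analysis.ODE.Gronwall
import Mathlib.Analysis.ODE.PicardLindelof
import Mathlib.Analysis.ODE.Transform
import Mathlib.Analysis.Oscillation
import Mathlib.Analysis.PSeries
import Mathlib.Analysis.PSeriesComplex
import Mathlib.Analysis.Polynomial.Basic
import Mathlib.Analysis.Polynomial.CauchyBound
import Mathlib.Analysis.Polynomial.Factorization
import Mathlib.Analysis.Polynomial.Fourier
import Mathlib.Analysis.Polynomial.MahlerMeasure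
import Mathlib.Analysis.Polynomial.Norm
import Mathlib.Analysis.Polynomial.Order
import Mathlib.Analysis.Quaternion
import Mathlib.Analysis.RCLike.Basic
import Mathlib.Analysis.RCLike.BoundedContinuous
import Mathlib.Analysis.RCLike.ContinuousMap
import Mathlib.Analysis.RCLike.Extend
import Mathlib.Analysis.RCLike.Inner
import Mathlib.Analysis.RCLike.Lemmas
import Mathlib.Analysis.RCLike.Sqrt
import Mathlib.Analysis.RCLike.TangentCone
import Mathlib.Analysis.Rat.NatSqrt.Real
import Mathlib.Analysis.Real.Cardinality
import Mathlib.Analysis.Real.Hyperreal
import Mathlib.Analysis.Real.OfDigits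
import Mathlib.Analysis.Real.Pi.Bounds
import Mathlib.Analysis.Real.Pi.Chudnovsky
import Mathlib.Analysis.Real.Pi.Irrational
import Mathlib.Analysis.Real.Pi.Leibniz
import Mathlib.Analysis.Real.Pi.Wallis
import Mathlib.Analysis.Real.Spectrum
import Mathlib.Analysis.Real.Sqrt
import Mathlib.Analysis.Seminorm
import Mathlib.Analysis.SpecialFunctions.Arcosh
import Mathlib.Analysis.SpecialFunctions.ArithmeticGeometricMean
import Mathlib.Analysis.SpecialFunctions.Arsinh
import Mathlib.Analysis.SpecialFunctions.Artanh
import Mathlib.Analysis.SpecialFunctions.Bernstein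
import Mathlib.Analysis.SpecialFunctions.BinaryEntropy
import Mathlib.Analysis.SpecialFunctions.Choose
import Mathlib.Analysis.SpecialFunctions.CompareExp
import Mathlib.Analysis.SpecialFunctions.Complex.Analytic
import Mathlib.Analysis.SpecialFunctions.Complex.Arctan
import Mathlib.Analysis.SpecialFunctions.Complex.Arg
import Mathlib.Analysis.SpecialFunctions.Complex.Circle
import Mathlib.Analysis.SpecialFunctions.Complex.CircleAddChar
import Mathlib.Analysis.SpecialFunctions.Complex.CircleMap
import Mathlib.Analysis.SpecialFunctions.Complex.Log
import Mathlib.Analysis.SpecialFunctions.Complex.LogBounds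
import Mathlib.Analysis.SpecialFunctions.Complex.LogDeriv
import Mathlib.Analysis.SpecialFunctions.ContinuousFunctionalCalculus.Abs
import Mathlib.Analysis.SpecialFunctions.ContinuousFunctionalCalculus.ExpLog.Basic
import Mathlib.Analysis.SpecialFunctions.ContinuousFunctionalCalculus.ExpLog.Order
import Mathlib.Analysis.SpecialFunctions.ContinuousFunctionalCalculus.PosPart.Basic
import Mathlib.Analysis.SpecialFunctions.ContinuousFunctionalCalculus.PosPart.Isometric
import Mathlib.Analysis.SpecialFunctions.ContinuousFunctionalCalculus.Rpow.Basic
import Mathlib.Analysis.SpecialFunctions.ContinuousFunctionalCalculus.Rpow.ConjSqrt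
import Mathlib.Analysis.SpecialFunctions.ContinuousFunctionalCalculus.Rpow.IntegralRepresentation
import Mathlib.Analysis.SpecialFunctions.ContinuousFunctionalCalculus.Rpow.Isometric
import Mathlib.Analysis.SpecialFunctions.ContinuousFunctionalCalculus.Rpow.Order
import Mathlib.Analysis.SpecialFunctions.ContinuousFunctionalCalculus.Rpow.RingInverseOrder
import Mathlib.Analysis.SpecialFunctions.Elliptic.Weierstrass
import Mathlib.Analysis.SpecialFunctions.Exp
import Mathlib.Analysis.SpecialFunctions.ExpDeriv
import Mathlib.Analysis.SpecialFunctions.Exponential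
import Mathlib.Analysis.SpecialFunctions.FrullaniIntegral
import Mathlib.Analysis.SpecialFunctions.Gamma.Basic
import Mathlib.Analysis.SpecialFunctions.Gamma.Beta
import Mathlib.Analysis.SpecialFunctions.Gamma.BohrMollerup
import Mathlib.Analysis.SpecialFunctions.Gamma.Deligne
import Mathlib.Analysis.SpecialFunctions.Gamma.Deriv
import Mathlib.Analysis.SpecialFunctions.Gamma.Digamma
import Mathlib.Analysis.SpecialFunctions.Gaussian.FourierTransform
import Mathlib.Analysis.SpecialFunctions.Gaussian.GaussianIntegral
import Mathlib.Analysis.SpecialFunctions.Gaussian.PoissonSummation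
import Mathlib.Analysis.SpecialFunctions.ImproperIntegrals
import Mathlib.Analysis.SpecialFunctions.Integrability.Basic
import Mathlib.Analysis.SpecialFunctions.Integrability.LogMeromorphic
import Mathlib.Analysis.SpecialFunctions.Integrals.Basic
import Mathlib.Analysis.SpecialFunctions.Integrals.LogTrigonometric
import Mathlib.Analysis.SpecialFunctions.Integrals.PosLogEqCircleAverage
import Mathlib.Analysis.SpecialFunctions.JapaneseBracket
import Mathlib.Analysis.SpecialFunctions.Log.Base
import Mathlib.Analysis.SpecialFunctions.Log.Basic
import Mathlib.Analysis.SpecialFunctions.Log.Deriv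
import Mathlib.Analysis.SpecialFunctions.Log.ENNRealLog
import Mathlib.Analysis.SpecialFunctions.Log.ENNRealLogExp
import Mathlib.Analysis.SpecialFunctions.Log.ERealExp
import Mathlib.Analysis.SpecialFunctions.Log.InvLog
import Mathlib.Analysis.SpecialFunctions.Log.Monotone
import Mathlib.Analysis.SpecialFunctions.Log.NegMulLog
import Mathlib.Analysis.SpecialFunctions.Log.PosLog
import Mathlib.Analysis.SpecialFunctions.Log.RpowTendsto
import Mathlib.Analysis.SpecialFunctions.Log.Summable
import Mathlib.Analysis.SpecialFunctions.MulExpNegMulSq
import Mathlib.Analysis.SpecialFunctions.MulExpNegMulSqIntegral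
import Mathlib.Analysis.SpecialFunctions.NonIntegrable
import Mathlib.Analysis.SpecialFunctions.OrdinaryHypergeometric
import Mathlib.Analysis.SpecialFunctions.Pochhammer
import Mathlib.Analysis.SpecialFunctions.PolarCoord
import Mathlib.Analysis.SpecialFunctions.PolynomialExp
import Mathlib.Analysis.SpecialFunctions.Pow.Asymptotics
import Mathlib.Analysis.SpecialFunctions.Pow.Complex
import Mathlib.Analysis.SpecialFunctions.Pow.Continuity
import Mathlib.Analysis.SpecialFunctions.Pow.Deriv
import Mathlib.Analysis.SpecialFunctions.Pow.Integral
import Mathlib.Analysis.SpecialFunctions.Pow.NNReal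
import Mathlib.Analysis.SpecialFunctions.Pow.NthRootLemmas
import Mathlib.Analysis.SpecialFunctions.Pow.Real
import Mathlib.Analysis.SpecialFunctions.RegularizedHypergeometric
import Mathlib.Analysis.SpecialFunctions.Sigmoid
import Mathlib.Analysis.SpecialFunctions.SmoothTransition
import Mathlib.Analysis.SpecialFunctions.Sqrt
import Mathlib.Analysis.SpecialFunctions.Stirling
import Mathlib.Analysis.SpecialFunctions.Trigonometric.Angle
import Mathlib.Analysis.SpecialFunctions.Trigonometric.Arctan
import Mathlib.Analysis.SpecialFunctions.Trigonometric.ArctanDeriv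
import Mathlib.Analysis.SpecialFunctions.Trigonometric.Basic
import Mathlib.Analysis.SpecialFunctions.Trigonometric.Bounds
import Mathlib.Analysis.SpecialFunctions.Trigonometric.Chebyshev.Basic
import Mathlib.Analysis.SpecialFunctions.Trigonometric.Chebyshev.ChebyshevGauss
import Mathlib.Analysis.SpecialFunctions.Trigonometric.Chebyshev.Extremal
import Mathlib.Analysis.SpecialFunctions.Trigonometric.Chebyshev.Orthogonality
import Mathlib.Analysis.SpecialFunctions.Trigonometric.Chebyshev.RootsExtrema
import Mathlib.Analysis.SpecialFunctions.Trigonometric.Complex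
import Mathlib.Analysis.SpecialFunctions.Trigonometric.ComplexDeriv
import Mathlib.Analysis.SpecialFunctions.Trigonometric.Cotangent
import Mathlib.Analysis.SpecialFunctions.Trigonometric.Deriv
import Mathlib.Analysis.SpecialFunctions.Trigonometric.DerivHyp
import Mathlib.Analysis.SpecialFunctions.Trigonometric.EulerSineProd
import Mathlib.Analysis.SpecialFunctions.Trigonometric.Inverse
import Mathlib.Analysis.SpecialFunctions.Trigonometric.InverseDeriv
import Mathlib.Analysis.SpecialFunctions.Trigonometric.Meromorphic
import Mathlib.Analysis.SpecialFunctions.Trigonometric.Series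
import Mathlib.Analysis.SpecialFunctions.Trigonometric.Sinc
import Mathlib.Analysis.SpecificLimits.ArithmeticGeometric
import Mathlib.Analysis.SpecificLimits.Basic
import Mathlib.Analysis.SpecificLimits.Fibonacci
import Mathlib.Analysis.SpecificLimits.FloorPow
import Mathlib.Analysis.SpecificLimits.Normed
import Mathlib.Analysis.SpecificLimits.RCLike
import Mathlib.Analysis.Subadditive
import Mathlib.Analysis.SumIntegralComparisons
import Mathlib.Analysis.SumIntegralExpDecay
import Mathlib.Analysis.SumOverResidueClass
import Mathlib.Analysis.VonNeumannAlgebra.Basic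
import Mathlib.CategoryTheory.Abelian.Basic
import Mathlib.CategoryTheory.Abelian.CommSq
import Mathlib.CategoryTheory.Abelian.DiagramLemmas.Four
import Mathlib.CategoryTheory.Abelian.DiagramLemmas.KernelCokernelComp
import Mathlib.CategoryTheory.Abelian.EpiWithInjectiveKernel
import Mathlib.CategoryTheory.Abelian.Exact
import Mathlib.CategoryTheory.Abelian.Ext
import Mathlib.CategoryTheory.Abelian.FreydMitchell
import Mathlib.CategoryTheory.Abelian.FunctorCategory
import Mathlib.CategoryTheory.Abelian.GrothendieckAxioms.Basic
import Mathlib.CategoryTheory.Abelian.GrothendieckAxioms.Colim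
import Mathlib.CategoryTheory.Abelian.GrothendieckAxioms.Connected
import Mathlib.CategoryTheory.Abelian.GrothendieckAxioms.FunctorCategory
import Mathlib.CategoryTheory.Abelian.GrothendieckAxioms.Indization
import Mathlib.CategoryTheory.Abelian.GrothendieckAxioms.Sheaf
import Mathlib.CategoryTheory.Abelian.GrothendieckAxioms.Types
import Mathlib.CategoryTheory.Abelian.GrothendieckCategory.Basic
import Mathlib.CategoryTheory.Abelian.GrothendieckCategory.ColimCoyoneda
import Mathlib.CategoryTheory.Abelian.GrothendieckCategory.Coseparator
import Mathlib.CategoryTheory.Abelian.GrothendieckCategory.EnoughInjectives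
import Mathlib.CategoryTheory.Abelian.GrothendieckCategory.HasExt
import Mathlib.CategoryTheory.Abelian.GrothendieckCategory.ModuleEmbedding.GabrielPopescu
import Mathlib.CategoryTheory.Abelian.GrothendieckCategory.ModuleEmbedding.Opposite
import Mathlib.CategoryTheory.Abelian.GrothendieckCategory.Monomorphisms
import Mathlib.CategoryTheory.Abelian.GrothendieckCategory.Subobject
import Mathlib.CategoryTheory.Abelian.Images
import Mathlib.CategoryTheory.Abelian.Indization
import Mathlib.CategoryTheory.Abelian.Injective.Basic
import Mathlib.CategoryTheory.Abelian.Injective.Dimension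
import Mathlib.CategoryTheory.Abelian.Injective.Ext
import Mathlib.CategoryTheory.Abelian.Injective.Extend
import Mathlib.CategoryTheory.Abelian.Injective.Resolution
import Mathlib.CategoryTheory.Abelian.LeftDerived
import Mathlib.CategoryTheory.Abelian.Monomorphisms
import Mathlib.CategoryTheory.Abelian.NonPreadditive
import Mathlib.CategoryTheory.Abelian.Opposite
import Mathlib.CategoryTheory.Abelian.Preradical.Basic
import Mathlib.CategoryTheory.Abelian.Preradical.Colon
import Mathlib.CategoryTheory.Abelian.Preradical.Radical
import Mathlib.CategoryTheory.Abelian.Projective.Basic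
import Mathlib.CategoryTheory.Abelian.Projective.Dimension
import Mathlib.CategoryTheory.Abelian.Projective.Ext
import Mathlib.CategoryTheory.Abelian.Projective.Extend
import Mathlib.CategoryTheory.Abelian.Projective.Resolution
import Mathlib.CategoryTheory.Abelian.Pseudoelements
import Mathlib.CategoryTheory.Abelian.Refinements
import Mathlib.CategoryTheory.Abelian.RightDerived
import Mathlib.CategoryTheory.Abelian.SerreClass.Basic
import Mathlib.CategoryTheory.Abelian.SerreClass.Bousfield
import Mathlib.CategoryTheory.Abelian.SerreClass.Localization
import Mathlib.CategoryTheory.Abelian.SerreClass.MorphismProperty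
import Mathlib.CategoryTheory.Abelian.ShortExact
import Mathlib.CategoryTheory.Abelian.Subcategory
import Mathlib.CategoryTheory.Abelian.Subobject
import Mathlib.CategoryTheory.Abelian.Transfer
import Mathlib.CategoryTheory.Abelian.Yoneda
import Mathlib.CategoryTheory.Action
import Mathlib.CategoryTheory.Action.Basic
import Mathlib.CategoryTheory.Action.Concrete
import Mathlib.CategoryTheory.Action.Continuous
import Mathlib.CategoryTheory.Action.Limits
import Mathlib.CategoryTheory.Action.Monoidal
import Mathlib.CategoryTheory.Adhesive
import Mathlib.CategoryTheory.Adhesive.Basic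
import Mathlib.CategoryTheory.Adhesive.Over
import Mathlib.CategoryTheory.Adhesive.Subobject
import Mathlib.CategoryTheory.Adjunction.Additive
import Mathlib.CategoryTheory.Adjunction.AdjointFunctorTheorems
import Mathlib.CategoryTheory.Adjunction.Basic
import Mathlib.CategoryTheory.Adjunction.Comma
import Mathlib.CategoryTheory.Adjunction.CompositionIso
import Mathlib.CategoryTheory.Adjunction.Evaluation
import Mathlib.CategoryTheory.Adjunction.FullyFaithful
import Mathlib.CategoryTheory.Adjunction.FullyFaithfulLimits
import Mathlib.CategoryTheory.Adjunction.Lifting.Left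
import Mathlib.CategoryTheory.Adjunction.Lifting.Right
import Mathlib.CategoryTheory.Adjunction.Limits
import Mathlib.CategoryTheory.Adjunction.Mates
import Mathlib.CategoryTheory.Adjunction.Opposites
import Mathlib.CategoryTheory.Adjunction.Parametrized
import Mathlib.CategoryTheory.Adjunction.ParametrizedLimits
import Mathlib.CategoryTheory.Adjunction.PartialAdjoint
import Mathlib.CategoryTheory.Adjunction.Quadruple
import Mathlib.CategoryTheory.Adjunction.Reflective
import Mathlib.CategoryTheory.Adjunction.Restrict
import Mathlib.CategoryTheory.Adjunction.Triple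
import Mathlib.CategoryTheory.Adjunction.Unique
import Mathlib.CategoryTheory.Adjunction.Whiskering
import Mathlib.CategoryTheory.Balanced
import Mathlib.CategoryTheory.Bicategory.Adjunction.Adj
import Mathlib.CategoryTheory.Bicategory.Adjunction.Basic
import Mathlib.CategoryTheory.Bicategory.Adjunction.Cat
import Mathlib.CategoryTheory.Bicategory.Adjunction.Mate
import Mathlib.CategoryTheory.Bicategory.Basic
import Mathlib.CategoryTheory.Bicategory.CatEnriched
import Mathlib.CategoryTheory.Bicategory.Coherence
import Mathlib.CategoryTheory.Bicategory.End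
import Mathlib.CategoryTheory.Bicategory.EqToHom
import Mathlib.CategoryTheory.Bicategory.Extension
import Mathlib.CategoryTheory.Bicategory.Free
import Mathlib.CategoryTheory.Bicategory.Functor.Cat
import Mathlib.CategoryTheory.Bicategory.Functor.Cat.ObjectProperty
import Mathlib.CategoryTheory.Bicategory.Functor.Lax
import Mathlib.CategoryTheory.Bicategory.Functor.LocallyDiscrete
import Mathlib.CategoryTheory.Bicategory.Functor.Oplax
import Mathlib.CategoryTheory.Bicategory.Functor.Prelax
import Mathlib.CategoryTheory.Bicategory.Functor.Pseudofunctor
import Mathlib.CategoryTheory.Bicategory.Functor.StrictPseudofunctor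
import Mathlib.CategoryTheory.Bicategory.Functor.StrictlyUnitary
import Mathlib.CategoryTheory.Bicategory.FunctorBicategory.Lax
import Mathlib.CategoryTheory.Bicategory.FunctorBicategory.Oplax
import Mathlib.CategoryTheory.Bicategory.FunctorBicategory.Pseudo
import Mathlib.CategoryTheory.Bicategory.Grothendieck
import Mathlib.CategoryTheory.Bicategory.InducedBicategory
import Mathlib.CategoryTheory.Bicategory.Kan.Adjunction
import Mathlib.CategoryTheory.Bicategory.Kan.HasKan
import Mathlib.CategoryTheory.Bicategory.Kan.IsKan
import Mathlib.CategoryTheory.Bicategory.LocallyDiscrete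
import Mathlib.CategoryTheory.Bicategory.LocallyGroupoid
import Mathlib.CategoryTheory.Bicategory.Modification.Lax
import Mathlib.CategoryTheory.Bicategory.Modification.Oplax
import Mathlib.CategoryTheory.Bicategory.Modification.Pseudo
import Mathlib.CategoryTheory.Bicategory.Monad.Basic
import Mathlib.CategoryTheory.Bicategory.NaturalTransformation.Lax
import Mathlib.CategoryTheory.Bicategory.NaturalTransformation.Oplax
import Mathlib.CategoryTheory.Bicategory.NaturalTransformation.Pseudo
import Mathlib.CategoryTheory.Bicategory.Opposites
import Mathlib.CategoryTheory.Bicategory.Product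
import Mathlib.CategoryTheory.Bicategory.SingleObj
import Mathlib.CategoryTheory.Bicategory.Span.Basic
import Mathlib.CategoryTheory.Bicategory.Strict.Basic
import Mathlib.CategoryTheory.Bicategory.Strict.Pseudofunctor
import Mathlib.CategoryTheory.Bicategory.Yoneda
import Mathlib.CategoryTheory.CatCommSq
import Mathlib.CategoryTheory.Category.Basic
import Mathlib.CategoryTheory.Category.Bipointed
import Mathlib.CategoryTheory.Category.Cat
import Mathlib.CategoryTheory.Category.Cat.Adjunction
import Mathlib.CategoryTheory.Category.Cat.AsSmall
import Mathlib.CategoryTheory.Category.Cat.CartesianClosed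
import Mathlib.CategoryTheory.Category.Cat.Colimit
import Mathlib.CategoryTheory.Category.Cat.Limit
import Mathlib.CategoryTheory.Category.Cat.Op
import Mathlib.CategoryTheory.Category.Cat.Terminal
import Mathlib.CategoryTheory.Category.Factorisation
import Mathlib.CategoryTheory.Category.GaloisConnection
import Mathlib.CategoryTheory.Category.Grpd
import Mathlib.CategoryTheory.Category.Init
import Mathlib.CategoryTheory.Category.KleisliCat
import Mathlib.CategoryTheory.Category.Pairwise
import Mathlib.CategoryTheory.Category.PartialFun
import Mathlib.CategoryTheory.Category.Pointed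
import Mathlib.CategoryTheory.Category.Preorder
import Mathlib.CategoryTheory.Category.Quiv
import Mathlib.CategoryTheory.Category.ReflQuiv
import Mathlib.CategoryTheory.Category.RelCat
import Mathlib.CategoryTheory.Category.TwoP
import Mathlib.CategoryTheory.Category.ULift
import Mathlib.CategoryTheory.Center.Basic
import Mathlib.CategoryTheory.Center.Linear
import Mathlib.CategoryTheory.Center.Localization
import Mathlib.CategoryTheory.Center.NegOnePow
import Mathlib.CategoryTheory.Center.Preadditive
import Mathlib.CategoryTheory.CodiscreteCategory
import Mathlib.CategoryTheory.CofilteredSystem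
import Mathlib.CategoryTheory.CommSq
import Mathlib.CategoryTheory.Comma.Arrow
import Mathlib.CategoryTheory.Comma.Basic
import Mathlib.CategoryTheory.Comma.CardinalArrow
import Mathlib.CategoryTheory.Comma.CatCommSq
import Mathlib.CategoryTheory.Comma.Final
import Mathlib.CategoryTheory.Comma.LocallySmall
import Mathlib.CategoryTheory.Comma.Over.Basic
import Mathlib.CategoryTheory.Comma.Over.OverClass
import Mathlib.CategoryTheory.Comma.Over.Pullback
import Mathlib.CategoryTheory.Comma.Over.StrictInitial
import Mathlib.CategoryTheory.Comma.Presheaf.Basic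
import Mathlib.CategoryTheory.Comma.Presheaf.Colimit
import Mathlib.CategoryTheory.Comma.StructuredArrow.Basic
import Mathlib.CategoryTheory.Comma.StructuredArrow.CommaMap
import Mathlib.CategoryTheory.Comma.StructuredArrow.Final
import Mathlib.CategoryTheory.Comma.StructuredArrow.Functor
import Mathlib.CategoryTheory.Comma.StructuredArrow.Small
import Mathlib.CategoryTheory.ComposableArrows.Basic
import Mathlib.CategoryTheory.ComposableArrows.Four
import Mathlib.CategoryTheory.ComposableArrows.One
import Mathlib.CategoryTheory.ComposableArrows.Three
import Mathlib.CategoryTheory.ComposableArrows.Two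
import Mathlib.CategoryTheory.ConcreteCategory.Basic
import Mathlib.CategoryTheory.ConcreteCategory.Bundled
import Mathlib.CategoryTheory.ConcreteCategory.BundledHom
import Mathlib.CategoryTheory.ConcreteCategory.Elementwise
import Mathlib.CategoryTheory.ConcreteCategory.EpiMono
import Mathlib.CategoryTheory.ConcreteCategory.Forget
import Mathlib.CategoryTheory.ConcreteCategory.ReflectsIso
import Mathlib.CategoryTheory.ConcreteCategory.Representable
import Mathlib.CategoryTheory.ConcreteCategory.UnbundledHom
import Mathlib.CategoryTheory.Conj
import Mathlib.CategoryTheory.ConnectedComponents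
import Mathlib.CategoryTheory.CopyDiscardCategory.Basic
import Mathlib.CategoryTheory.CopyDiscardCategory.Cartesian
import Mathlib.CategoryTheory.CopyDiscardCategory.Deterministic
import Mathlib.CategoryTheory.CopyDiscardCategory.Widesubcategory
import Mathlib.CategoryTheory.Core
import Mathlib.CategoryTheory.Countable
import Mathlib.CategoryTheory.Dialectica.Basic
import Mathlib.CategoryTheory.Dialectica.Monoidal
import Mathlib.CategoryTheory.DifferentialObject
import Mathlib.CategoryTheory.DinatTrans
import Mathlib.CategoryTheory.Discrete.Basic
import Mathlib.CategoryTheory.Discrete.StructuredArrow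
import Mathlib.CategoryTheory.Discrete.SumsProducts
import Mathlib.CategoryTheory.Distributive.Cartesian
import Mathlib.CategoryTheory.Distributive.Monoidal
import Mathlib.CategoryTheory.EffectiveEpi.Basic
import Mathlib.CategoryTheory.EffectiveEpi.Comp
import Mathlib.CategoryTheory.EffectiveEpi.Coproduct
import Mathlib.CategoryTheory.EffectiveEpi.Enough
import Mathlib.CategoryTheory.EffectiveEpi.Extensive
import Mathlib.CategoryTheory.EffectiveEpi.Preserves
import Mathlib.CategoryTheory.Elements
import Mathlib.CategoryTheory.Elementwise
import Mathlib.CategoryTheory.Endofunctor.Algebra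
import Mathlib.CategoryTheory.Endomorphism
import Mathlib.CategoryTheory.Enriched.Basic
import Mathlib.CategoryTheory.Enriched.EnrichedCat
import Mathlib.CategoryTheory.Enriched.FunctorCategory
import Mathlib.CategoryTheory.Enriched.HomCongr
import Mathlib.CategoryTheory.Enriched.Limits.HasConicalLimits
import Mathlib.CategoryTheory.Enriched.Limits.HasConicalProducts
import Mathlib.CategoryTheory.Enriched.Limits.HasConicalPullbacks
import Mathlib.CategoryTheory.Enriched.Limits.HasConicalTerminal
import Mathlib.CategoryTheory.Enriched.Opposite
import Mathlib.CategoryTheory.Enriched.Ordinary.Basic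
import Mathlib.CategoryTheory.EpiMono
import Mathlib.CategoryTheory.EqToHom
import Mathlib.CategoryTheory.Equivalence
import Mathlib.CategoryTheory.Equivalence.Symmetry
import Mathlib.CategoryTheory.EquivalenceRelation
import Mathlib.CategoryTheory.EssentialImage
import Mathlib.CategoryTheory.EssentiallySmall
import Mathlib.CategoryTheory.Extensive
import Mathlib.CategoryTheory.ExtremalEpi
import Mathlib.CategoryTheory.FiberedCategory.BasedCategory
import Mathlib.CategoryTheory.FiberedCategory.Cartesian
import Mathlib.CategoryTheory.FiberedCategory.Cocartesian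
import Mathlib.CategoryTheory.FiberedCategory.Fiber
import Mathlib.CategoryTheory.FiberedCategory.Fibered
import Mathlib.CategoryTheory.FiberedCategory.Grothendieck
import Mathlib.CategoryTheory.FiberedCategory.HasFibers
import Mathlib.CategoryTheory.FiberedCategory.HomLift
import Mathlib.CategoryTheory.Filtered.Basic
import Mathlib.CategoryTheory.Filtered.Connected
import Mathlib.CategoryTheory.Filtered.CostructuredArrow
import Mathlib.CategoryTheory.Filtered.Final
import Mathlib.CategoryTheory.Filtered.FinallySmall
import Mathlib.CategoryTheory.Filtered.Flat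
import Mathlib.CategoryTheory.Filtered.Grothendieck
import Mathlib.CategoryTheory.Filtered.OfColimitCommutesFiniteLimit
import Mathlib.CategoryTheory.Filtered.Small
import Mathlib.CategoryTheory.FinCategory.AsType
import Mathlib.CategoryTheory.FinCategory.Basic
import Mathlib.CategoryTheory.FintypeCat
import Mathlib.CategoryTheory.Functor.Basic
import Mathlib.CategoryTheory.Functor.Category
import Mathlib.CategoryTheory.Functor.Const
import Mathlib.CategoryTheory.Functor.Currying
import Mathlib.CategoryTheory.Functor.CurryingThree
import Mathlib.CategoryTheory.Functor.Derived.Adjunction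
import Mathlib.CategoryTheory.Functor.Derived.LeftDerived
import Mathlib.CategoryTheory.Functor.Derived.PointwiseLeftDerived
import Mathlib.CategoryTheory.Functor.Derived.PointwiseRightDerived
import Mathlib.CategoryTheory.Functor.Derived.RightDerived
import Mathlib.CategoryTheory.Functor.EpiMono
import Mathlib.CategoryTheory.Functor.Flat
import Mathlib.CategoryTheory.Functor.FullyFaithful
import Mathlib.CategoryTheory.Functor.FunctorHom
import Mathlib.CategoryTheory.Functor.Functorial
import Mathlib.CategoryTheory.Functor.Hom
import Mathlib.CategoryTheory.Functor.KanExtension.Adjunction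
import Mathlib.CategoryTheory.Functor.KanExtension.Basic
import Mathlib.CategoryTheory.Functor.KanExtension.Dense
import Mathlib.CategoryTheory.Functor.KanExtension.DenseAt
import Mathlib.CategoryTheory.Functor.KanExtension.Pointwise
import Mathlib.CategoryTheory.Functor.KanExtension.Preserves
import Mathlib.CategoryTheory.Functor.OfSequence
import Mathlib.CategoryTheory.Functor.ReflectsIso.Balanced
import Mathlib.CategoryTheory.Functor.ReflectsIso.Basic
import Mathlib.CategoryTheory.Functor.ReflectsIso.Exact
import Mathlib.CategoryTheory.Functor.ReflectsIso.Jointly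
import Mathlib.CategoryTheory.Functor.ReflectsIso.Limits
import Mathlib.CategoryTheory.Functor.RegularEpi
import Mathlib.CategoryTheory.Functor.Trifunctor
import Mathlib.CategoryTheory.Functor.TwoSquare
import Mathlib.CategoryTheory.Functor.TypeValuedFlat
import Mathlib.CategoryTheory.Galois.Action
import Mathlib.CategoryTheory.Galois.Basic
import Mathlib.CategoryTheory.Galois.Decomposition
import Mathlib.CategoryTheory.Galois.Equivalence
import Mathlib.CategoryTheory.Galois.EssSurj
import Mathlib.CategoryTheory.Galois.Examples
import Mathlib.CategoryTheory.Galois.Full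
import Mathlib.CategoryTheory.Galois.GaloisObjects
import Mathlib.CategoryTheory.Galois.IsFundamentalgroup
import Mathlib.CategoryTheory.Galois.Prorepresentability
import Mathlib.CategoryTheory.Galois.Topology
import Mathlib.CategoryTheory.Generator.Abelian
import Mathlib.CategoryTheory.Generator.Basic
import Mathlib.CategoryTheory.Generator.HomologicalComplex
import Mathlib.CategoryTheory.Generator.Indization
import Mathlib.CategoryTheory.Generator.Preadditive
import Mathlib.CategoryTheory.Generator.Presheaf
import Mathlib.CategoryTheory.Generator.Sheaf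
import Mathlib.CategoryTheory.Generator.StrongGenerator
import Mathlib.CategoryTheory.Generator.Type
import Mathlib.CategoryTheory.GlueData
import Mathlib.CategoryTheory.GradedObject
import Mathlib.CategoryTheory.GradedObject.Associator
import Mathlib.CategoryTheory.GradedObject.Bifunctor
import Mathlib.CategoryTheory.GradedObject.Braiding
import Mathlib.CategoryTheory.GradedObject.Monoidal
import Mathlib.CategoryTheory.GradedObject.Single
import Mathlib.CategoryTheory.GradedObject.Trifunctor
import Mathlib.CategoryTheory.GradedObject.Unitor
import Mathlib.CategoryTheory.Grothendieck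
import Mathlib.CategoryTheory.Groupoid
import Mathlib.CategoryTheory.Groupoid.Basic
import Mathlib.CategoryTheory.Groupoid.Discrete
import Mathlib.CategoryTheory.Groupoid.FreeGroupoid
import Mathlib.CategoryTheory.Groupoid.FreeGroupoidOfCategory
import Mathlib.CategoryTheory.Groupoid.Grpd.Basic
import Mathlib.CategoryTheory.Groupoid.Subgroupoid
import Mathlib.CategoryTheory.Groupoid.VertexGroup
import Mathlib.CategoryTheory.GuitartExact.Basic
import Mathlib.CategoryTheory.GuitartExact.HorizontalComposition
import Mathlib.CategoryTheory.GuitartExact.KanExtension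
import Mathlib.CategoryTheory.GuitartExact.Opposite
import Mathlib.CategoryTheory.GuitartExact.Over
import Mathlib.CategoryTheory.GuitartExact.Quotient
import Mathlib.CategoryTheory.GuitartExact.VerticalComposition
import Mathlib.CategoryTheory.HomCongr
import Mathlib.CategoryTheory.Idempotents.Basic
import Mathlib.CategoryTheory.Idempotents.Biproducts
import Mathlib.CategoryTheory.Idempotents.FunctorCategories
import Mathlib.CategoryTheory.Idempotents.FunctorExtension
import Mathlib.CategoryTheory.Idempotents.HomologicalComplex
import Mathlib.CategoryTheory.Idempotents.Karoubi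
import Mathlib.CategoryTheory.Idempotents.KaroubiKaroubi
import Mathlib.CategoryTheory.Idempotents.SimplicialObject
import Mathlib.CategoryTheory.InducedCategory
import Mathlib.CategoryTheory.IsConnected
import Mathlib.CategoryTheory.Iso
import Mathlib.CategoryTheory.IsoCat
import Mathlib.CategoryTheory.IsomorphismClasses
import Mathlib.CategoryTheory.Join.Basic
import Mathlib.CategoryTheory.Join.Final
import Mathlib.CategoryTheory.Join.Opposites
import Mathlib.CategoryTheory.Join.Pseudofunctor
import Mathlib.CategoryTheory.Join.Sum
import Mathlib.CategoryTheory.LiftingProperties.Adjunction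
import Mathlib.CategoryTheory.LiftingProperties.Basic
import Mathlib.CategoryTheory.LiftingProperties.Limits
import Mathlib.CategoryTheory.LiftingProperties.Over
import Mathlib.CategoryTheory.LiftingProperties.ParametrizedAdjunction
import Mathlib.CategoryTheory.LiftingProperties.PushoutProduct
import Mathlib.CategoryTheory.Limits.Bicones
import Mathlib.CategoryTheory.Limits.Chosen.End
import Mathlib.CategoryTheory.Limits.ColimitLimit
import Mathlib.CategoryTheory.Limits.Comma
import Mathlib.CategoryTheory.Limits.ConcreteCategory.Basic
import Mathlib.CategoryTheory.Limits.ConcreteCategory.Filtered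
import Mathlib.CategoryTheory.Limits.ConcreteCategory.WithAlgebraicStructures
import Mathlib.CategoryTheory.Limits.ConeCategory
import Mathlib.CategoryTheory.Limits.Cones
import Mathlib.CategoryTheory.Limits.Connected
import Mathlib.CategoryTheory.Limits.Constructions.BinaryProducts
import Mathlib.CategoryTheory.Limits.Constructions.EpiMono
import Mathlib.CategoryTheory.Limits.Constructions.Equalizers
import Mathlib.CategoryTheory.Limits.Constructions.EventuallyConstant
import Mathlib.CategoryTheory.Limits.Constructions.Filtered
import Mathlib.CategoryTheory.Limits.Constructions.FiniteProductsOfBinaryProducts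
import Mathlib.CategoryTheory.Limits.Constructions.LimitsOfProductsAndEqualizers
import Mathlib.CategoryTheory.Limits.Constructions.Over.Basic
import Mathlib.CategoryTheory.Limits.Constructions.Over.Connected
import Mathlib.CategoryTheory.Limits.Constructions.Over.Products
import Mathlib.CategoryTheory.Limits.Constructions.Pullbacks
import Mathlib.CategoryTheory.Limits.Constructions.WeaklyInitial
import Mathlib.CategoryTheory.Limits.Constructions.WidePullbackOfTerminal
import Mathlib.CategoryTheory.Limits.Constructions.ZeroObjects
import Mathlib.CategoryTheory.Limits.Creates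
import Mathlib.CategoryTheory.Limits.Elements
import Mathlib.CategoryTheory.Limits.EpiMono
import Mathlib.CategoryTheory.Limits.EssentiallySmall
import Mathlib.CategoryTheory.Limits.ExactFunctor
import Mathlib.CategoryTheory.Limits.Filtered
import Mathlib.CategoryTheory.Limits.FilteredColimitCommutesFiniteLimit
import Mathlib.CategoryTheory.Limits.FilteredColimitCommutesProduct
import Mathlib.CategoryTheory.Limits.Final
import Mathlib.CategoryTheory.Limits.Final.Connected
import Mathlib.CategoryTheory.Limits.Final.ParallelPair
import Mathlib.CategoryTheory.Limits.Final.Type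
import Mathlib.CategoryTheory.Limits.FinallySmall
import Mathlib.CategoryTheory.Limits.FintypeCat
import Mathlib.CategoryTheory.Limits.FormalCoproducts
import Mathlib.CategoryTheory.Limits.FormalCoproducts.Basic
import Mathlib.CategoryTheory.Limits.FormalCoproducts.Cech
import Mathlib.CategoryTheory.Limits.FormalCoproducts.ExtraDegeneracy
import Mathlib.CategoryTheory.Limits.Fubini
import Mathlib.CategoryTheory.Limits.FullSubcategory
import Mathlib.CategoryTheory.Limits.FunctorCategory.Basic
import Mathlib.CategoryTheory.Limits.FunctorCategory.BinaryBiproducts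
import Mathlib.CategoryTheory.Limits.FunctorCategory.EpiMono
import Mathlib.CategoryTheory.Limits.FunctorCategory.Filtered
import Mathlib.CategoryTheory.Limits.FunctorCategory.Finite
import Mathlib.CategoryTheory.Limits.FunctorCategory.Shapes.Images
import Mathlib.CategoryTheory.Limits.FunctorCategory.Shapes.Kernels
import Mathlib.CategoryTheory.Limits.FunctorCategory.Shapes.Products
import Mathlib.CategoryTheory.Limits.FunctorCategory.Shapes.Pullbacks
import Mathlib.CategoryTheory.Limits.FunctorCategory.Shapes.Terminal
import Mathlib.CategoryTheory.Limits.FunctorToTypes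
import Mathlib.CategoryTheory.Limits.HasLimits
import Mathlib.CategoryTheory.Limits.IndYoneda
import Mathlib.CategoryTheory.Limits.Indization.Category
import Mathlib.CategoryTheory.Limits.Indization.Equalizers
import Mathlib.CategoryTheory.Limits.Indization.FilteredColimits
import Mathlib.CategoryTheory.Limits.Indization.IndObject
import Mathlib.CategoryTheory.Limits.Indization.LocallySmall
import Mathlib.CategoryTheory.Limits.Indization.ParallelPair
import Mathlib.CategoryTheory.Limits.Indization.Products
import Mathlib.CategoryTheory.Limits.IsConnected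
import Mathlib.CategoryTheory.Limits.IsLimit
import Mathlib.CategoryTheory.Limits.Lattice
import Mathlib.CategoryTheory.Limits.MonoCoprod
import Mathlib.CategoryTheory.Limits.MorphismProperty
import Mathlib.CategoryTheory.Limits.Opposites
import Mathlib.CategoryTheory.Limits.Over
import Mathlib.CategoryTheory.Limits.Pi
import Mathlib.CategoryTheory.Limits.Preorder
import Mathlib.CategoryTheory.Limits.Presentation
import Mathlib.CategoryTheory.Limits.Preserves.Basic
import Mathlib.CategoryTheory.Limits.Preserves.Bifunctor
import Mathlib.CategoryTheory.Limits.Preserves.BifunctorCokernel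
import Mathlib.CategoryTheory.Limits.Preserves.Creates.Finite
import Mathlib.CategoryTheory.Limits.Preserves.Creates.Opposites
import Mathlib.CategoryTheory.Limits.Preserves.Creates.Pullbacks
import Mathlib.CategoryTheory.Limits.Preserves.Filtered
import Mathlib.CategoryTheory.Limits.Preserves.Finite
import Mathlib.CategoryTheory.Limits.Preserves.FunctorCategory
import Mathlib.CategoryTheory.Limits.Preserves.Grothendieck
import Mathlib.CategoryTheory.Limits.Preserves.Lattice
import Mathlib.CategoryTheory.Limits.Preserves.Limits
import Mathlib.CategoryTheory.Limits.Preserves.Opposites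
import Mathlib.CategoryTheory.Limits.Preserves.Over
import Mathlib.CategoryTheory.Limits.Preserves.Presheaf
import Mathlib.CategoryTheory.Limits.Preserves.Shapes.AbelianImages
import Mathlib.CategoryTheory.Limits.Preserves.Shapes.BinaryProducts
import Mathlib.CategoryTheory.Limits.Preserves.Shapes.Biproducts
import Mathlib.CategoryTheory.Limits.Preserves.Shapes.Equalizers
import Mathlib.CategoryTheory.Limits.Preserves.Shapes.Images
import Mathlib.CategoryTheory.Limits.Preserves.Shapes.Kernels
import Mathlib.CategoryTheory.Limits.Preserves.Shapes.Multiequalizer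
import Mathlib.CategoryTheory.Limits.Preserves.Shapes.Over
import Mathlib.CategoryTheory.Limits.Preserves.Shapes.Preorder
import Mathlib.CategoryTheory.Limits.Preserves.Shapes.Products
import Mathlib.CategoryTheory.Limits.Preserves.Shapes.Pullbacks
import Mathlib.CategoryTheory.Limits.Preserves.Shapes.Square
import Mathlib.CategoryTheory.Limits.Preserves.Shapes.Terminal
import Mathlib.CategoryTheory.Limits.Preserves.Shapes.Zero
import Mathlib.CategoryTheory.Limits.Preserves.SigmaConst
import Mathlib.CategoryTheory.Limits.Preserves.Ulift
import Mathlib.CategoryTheory.Limits.Preserves.Yoneda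
import Mathlib.CategoryTheory.Limits.Presheaf
import Mathlib.CategoryTheory.Limits.Set
import Mathlib.CategoryTheory.Limits.Shapes.BinaryBiproducts
import Mathlib.CategoryTheory.Limits.Shapes.BinaryProducts
import Mathlib.CategoryTheory.Limits.Shapes.Biproducts
import Mathlib.CategoryTheory.Limits.Shapes.CombinedProducts
import Mathlib.CategoryTheory.Limits.Shapes.ConcreteCategory
import Mathlib.CategoryTheory.Limits.Shapes.Connected
import Mathlib.CategoryTheory.Limits.Shapes.Countable
import Mathlib.CategoryTheory.Limits.Shapes.Diagonal
import Mathlib.CategoryTheory.Limits.Shapes.DisjointCoproduct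
import Mathlib.CategoryTheory.Limits.Shapes.End
import Mathlib.CategoryTheory.Limits.Shapes.Equalizers
import Mathlib.CategoryTheory.Limits.Shapes.Equivalence
import Mathlib.CategoryTheory.Limits.Shapes.FiniteLimits
import Mathlib.CategoryTheory.Limits.Shapes.FiniteMultiequalizer
import Mathlib.CategoryTheory.Limits.Shapes.FiniteProducts
import Mathlib.CategoryTheory.Limits.Shapes.FunctorToTypes
import Mathlib.CategoryTheory.Limits.Shapes.Grothendieck
import Mathlib.CategoryTheory.Limits.Shapes.Images
import Mathlib.CategoryTheory.Limits.Shapes.IsTerminal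
import Mathlib.CategoryTheory.Limits.Shapes.KernelPair
import Mathlib.CategoryTheory.Limits.Shapes.Kernels
import Mathlib.CategoryTheory.Limits.Shapes.Multiequalizer
import Mathlib.CategoryTheory.Limits.Shapes.MultiequalizerPullback
import Mathlib.CategoryTheory.Limits.Shapes.NormalMono.Basic
import Mathlib.CategoryTheory.Limits.Shapes.NormalMono.Equalizers
import Mathlib.CategoryTheory.Limits.Shapes.Opposites.Equalizers
import Mathlib.CategoryTheory.Limits.Shapes.Opposites.Filtered
import Mathlib.CategoryTheory.Limits.Shapes.Opposites.Kernels
import Mathlib.CategoryTheory.Limits.Shapes.Opposites.Products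
import Mathlib.CategoryTheory.Limits.Shapes.Opposites.Pullbacks
import Mathlib.CategoryTheory.Limits.Shapes.PiProd
import Mathlib.CategoryTheory.Limits.Shapes.Preorder.Basic
import Mathlib.CategoryTheory.Limits.Shapes.Preorder.Fin
import Mathlib.CategoryTheory.Limits.Shapes.Preorder.HasIterationOfShape
import Mathlib.CategoryTheory.Limits.Shapes.Preorder.PrincipalSeg
import Mathlib.CategoryTheory.Limits.Shapes.Preorder.TransfiniteCompositionOfShape
import Mathlib.CategoryTheory.Limits.Shapes.Preorder.WellOrderContinuous
import Mathlib.CategoryTheory.Limits.Shapes.Products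
import Mathlib.CategoryTheory.Limits.Shapes.Pullback.Assoc
import Mathlib.CategoryTheory.Limits.Shapes.Pullback.Categorical.Basic
import Mathlib.CategoryTheory.Limits.Shapes.Pullback.Categorical.CatCospanTransform
import Mathlib.CategoryTheory.Limits.Shapes.Pullback.ChosenPullback
import Mathlib.CategoryTheory.Limits.Shapes.Pullback.CommSq
import Mathlib.CategoryTheory.Limits.Shapes.Pullback.Connected
import Mathlib.CategoryTheory.Limits.Shapes.Pullback.Cospan
import Mathlib.CategoryTheory.Limits.Shapes.Pullback.Equalizer
import Mathlib.CategoryTheory.Limits.Shapes.Pullback.Equifibered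
import Mathlib.CategoryTheory.Limits.Shapes.Pullback.EquifiberedLimits
import Mathlib.CategoryTheory.Limits.Shapes.Pullback.HasPullback
import Mathlib.CategoryTheory.Limits.Shapes.Pullback.IsPullback.Basic
import Mathlib.CategoryTheory.Limits.Shapes.Pullback.IsPullback.BicartesianSq
import Mathlib.CategoryTheory.Limits.Shapes.Pullback.IsPullback.Defs
import Mathlib.CategoryTheory.Limits.Shapes.Pullback.IsPullback.Kernels
import Mathlib.CategoryTheory.Limits.Shapes.Pullback.Iso
import Mathlib.CategoryTheory.Limits.Shapes.Pullback.Mono
import Mathlib.CategoryTheory.Limits.Shapes.Pullback.Pasting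
import Mathlib.CategoryTheory.Limits.Shapes.Pullback.PullbackCone
import Mathlib.CategoryTheory.Limits.Shapes.Pullback.PullbackObjObj
import Mathlib.CategoryTheory.Limits.Shapes.Pullback.Square
import Mathlib.CategoryTheory.Limits.Shapes.Reflexive
import Mathlib.CategoryTheory.Limits.Shapes.RegularMono
import Mathlib.CategoryTheory.Limits.Shapes.SequentialProduct
import Mathlib.CategoryTheory.Limits.Shapes.SingleObj
import Mathlib.CategoryTheory.Limits.Shapes.SplitCoequalizer
import Mathlib.CategoryTheory.Limits.Shapes.SplitEqualizer
import Mathlib.CategoryTheory.Limits.Shapes.StrictInitial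
import Mathlib.CategoryTheory.Limits.Shapes.StrongEpi
import Mathlib.CategoryTheory.Limits.Shapes.Terminal
import Mathlib.CategoryTheory.Limits.Shapes.WideEqualizers
import Mathlib.CategoryTheory.Limits.Shapes.WidePullbacks
import Mathlib.CategoryTheory.Limits.Shapes.ZeroMorphisms
import Mathlib.CategoryTheory.Limits.Shapes.ZeroObjects
import Mathlib.CategoryTheory.Limits.Sifted
import Mathlib.CategoryTheory.Limits.Skeleton
import Mathlib.CategoryTheory.Limits.SmallComplete
import Mathlib.CategoryTheory.Limits.Types.Coequalizers
import Mathlib.CategoryTheory.Limits.Types.ColimitType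
import Mathlib.CategoryTheory.Limits.Types.ColimitTypeFiltered
import Mathlib.CategoryTheory.Limits.Types.Colimits
import Mathlib.CategoryTheory.Limits.Types.Coproducts
import Mathlib.CategoryTheory.Limits.Types.End
import Mathlib.CategoryTheory.Limits.Types.Equalizers
import Mathlib.CategoryTheory.Limits.Types.Filtered
import Mathlib.CategoryTheory.Limits.Types.Images
import Mathlib.CategoryTheory.Limits.Types.Limits
import Mathlib.CategoryTheory.Limits.Types.Multicoequalizer
import Mathlib.CategoryTheory.Limits.Types.Multiequalizer
import Mathlib.CategoryTheory.Limits.Types.PreservesLimit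
import Mathlib.CategoryTheory.Limits.Types.Products
import Mathlib.CategoryTheory.Limits.Types.Pullbacks
import Mathlib.CategoryTheory.Limits.Types.Pushouts
import Mathlib.CategoryTheory.Limits.Types.Yoneda
import Mathlib.CategoryTheory.Limits.Unit
import Mathlib.CategoryTheory.Limits.VanKampen
import Mathlib.CategoryTheory.Limits.WeakLimits.Basic
import Mathlib.CategoryTheory.Limits.WeakLimits.WeakEqualizers
import Mathlib.CategoryTheory.Limits.WeakLimits.WeakKernels
import Mathlib.CategoryTheory.Limits.WeakLimits.WeakPullbacks
import Mathlib.CategoryTheory.Limits.Weighted.HasWeightedLimit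
import Mathlib.CategoryTheory.Limits.Yoneda
import Mathlib.CategoryTheory.Linear.Basic
import Mathlib.CategoryTheory.Linear.FunctorCategory
import Mathlib.CategoryTheory.Linear.LinearFunctor
import Mathlib.CategoryTheory.Linear.Yoneda
import Mathlib.CategoryTheory.Localization.Adjunction
import Mathlib.CategoryTheory.Localization.Bifunctor
import Mathlib.CategoryTheory.Localization.Bousfield
import Mathlib.CategoryTheory.Localization.BousfieldTransfiniteComposition
import Mathlib.CategoryTheory.Localization.CalculusOfFractions
import Mathlib.CategoryTheory.Localization.CalculusOfFractions.ComposableArrows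
import Mathlib.CategoryTheory.Localization.CalculusOfFractions.Fractions
import Mathlib.CategoryTheory.Localization.CalculusOfFractions.OfAdjunction
import Mathlib.CategoryTheory.Localization.CalculusOfFractions.Preadditive
import Mathlib.CategoryTheory.Localization.Composition
import Mathlib.CategoryTheory.Localization.Construction
import Mathlib.CategoryTheory.Localization.DerivabilityStructure.Basic
import Mathlib.CategoryTheory.Localization.DerivabilityStructure.Constructor
import Mathlib.CategoryTheory.Localization.DerivabilityStructure.Derives
import Mathlib.CategoryTheory.Localization.DerivabilityStructure.OfFunctorialResolutions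
import Mathlib.CategoryTheory.Localization.DerivabilityStructure.OfLocalizedEquivalences
import Mathlib.CategoryTheory.Localization.DerivabilityStructure.PointwiseRightDerived
import Mathlib.CategoryTheory.Localization.Equivalence
import Mathlib.CategoryTheory.Localization.FiniteProducts
import Mathlib.CategoryTheory.Localization.HasLocalization
import Mathlib.CategoryTheory.Localization.HomEquiv
import Mathlib.CategoryTheory.Localization.Linear
import Mathlib.CategoryTheory.Localization.LocalizerMorphism
import Mathlib.CategoryTheory.Localization.LocallySmall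
import Mathlib.CategoryTheory.Localization.Monoidal.Basic
import Mathlib.CategoryTheory.Localization.Monoidal.Braided
import Mathlib.CategoryTheory.Localization.Monoidal.Functor
import Mathlib.CategoryTheory.Localization.OfQuotient
import Mathlib.CategoryTheory.Localization.Opposite
import Mathlib.CategoryTheory.Localization.Pi
import Mathlib.CategoryTheory.Localization.Preadditive
import Mathlib.CategoryTheory.Localization.Predicate
import Mathlib.CategoryTheory.Localization.Prod
import Mathlib.CategoryTheory.Localization.Quotient
import Mathlib.CategoryTheory.Localization.Resolution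
import Mathlib.CategoryTheory.Localization.SmallHom
import Mathlib.CategoryTheory.Localization.SmallShiftedHom
import Mathlib.CategoryTheory.Localization.StructuredArrow
import Mathlib.CategoryTheory.Localization.Triangulated
import Mathlib.CategoryTheory.Localization.Trifunctor
import Mathlib.CategoryTheory.LocallyCartesianClosed.ChosenPullbacksAlong
import Mathlib.CategoryTheory.LocallyCartesianClosed.ExponentiableMorphism
import Mathlib.CategoryTheory.LocallyCartesianClosed.Over
import Mathlib.CategoryTheory.LocallyCartesianClosed.Sections
import Mathlib.CategoryTheory.LocallyDirected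
import Mathlib.CategoryTheory.MarkovCategory.Basic
import Mathlib.CategoryTheory.MarkovCategory.Positive
import Mathlib.CategoryTheory.Monad.Adjunction
import Mathlib.CategoryTheory.Monad.Algebra
import Mathlib.CategoryTheory.Monad.Basic
import Mathlib.CategoryTheory.Monad.Coequalizer
import Mathlib.CategoryTheory.Monad.Comonadicity
import Mathlib.CategoryTheory.Monad.Equalizer
import Mathlib.CategoryTheory.Monad.EquivMon
import Mathlib.CategoryTheory.Monad.Kleisli
import Mathlib.CategoryTheory.Monad.Limits
import Mathlib.CategoryTheory.Monad.Monadicity
import Mathlib.CategoryTheory.Monad.Products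
import Mathlib.CategoryTheory.Monad.Types
import Mathlib.CategoryTheory.Monoidal.Action.Basic
import Mathlib.CategoryTheory.Monoidal.Action.End
import Mathlib.CategoryTheory.Monoidal.Action.LinearFunctor
import Mathlib.CategoryTheory.Monoidal.Action.Opposites
import Mathlib.CategoryTheory.Monoidal.Arrow
import Mathlib.CategoryTheory.Monoidal.Bimod
import Mathlib.CategoryTheory.Monoidal.Bimon_
import Mathlib.CategoryTheory.Monoidal.Braided.Basic
import Mathlib.CategoryTheory.Monoidal.Braided.Multifunctor
import Mathlib.CategoryTheory.Monoidal.Braided.Opposite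
import Mathlib.CategoryTheory.Monoidal.Braided.PushoutObjObj
import Mathlib.CategoryTheory.Monoidal.Braided.Reflection
import Mathlib.CategoryTheory.Monoidal.Braided.Transport
import Mathlib.CategoryTheory.Monoidal.Cartesian.Basic
import Mathlib.CategoryTheory.Monoidal.Cartesian.Cat
import Mathlib.CategoryTheory.Monoidal.Cartesian.CommGrp_
import Mathlib.CategoryTheory.Monoidal.Cartesian.CommMon_
import Mathlib.CategoryTheory.Monoidal.Cartesian.Comon_
import Mathlib.CategoryTheory.Monoidal.Cartesian.FunctorCategory
import Mathlib.CategoryTheory.Monoidal.Cartesian.Grp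
import Mathlib.CategoryTheory.Monoidal.Cartesian.GrpLimits
import Mathlib.CategoryTheory.Monoidal.Cartesian.Grp_
import Mathlib.CategoryTheory.Monoidal.Cartesian.InfSemilattice
import Mathlib.CategoryTheory.Monoidal.Cartesian.Mod
import Mathlib.CategoryTheory.Monoidal.Cartesian.Mod_
import Mathlib.CategoryTheory.Monoidal.Cartesian.Mon
import Mathlib.CategoryTheory.Monoidal.Cartesian.Mon_
import Mathlib.CategoryTheory.Monoidal.Cartesian.Normal
import Mathlib.CategoryTheory.Monoidal.Cartesian.Over
import Mathlib.CategoryTheory.Monoidal.Cartesian.Ring
import Mathlib.CategoryTheory.Monoidal.Cartesian.ShrinkYoneda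
import Mathlib.CategoryTheory.Monoidal.Category
import Mathlib.CategoryTheory.Monoidal.Center
import Mathlib.CategoryTheory.Monoidal.Closed.Basic
import Mathlib.CategoryTheory.Monoidal.Closed.Braided
import Mathlib.CategoryTheory.Monoidal.Closed.Cartesian
import Mathlib.CategoryTheory.Monoidal.Closed.Enrichment
import Mathlib.CategoryTheory.Monoidal.Closed.Functor
import Mathlib.CategoryTheory.Monoidal.Closed.FunctorCategory.Basic
import Mathlib.CategoryTheory.Monoidal.Closed.FunctorCategory.Complete
import Mathlib.CategoryTheory.Monoidal.Closed.FunctorCategory.Groupoid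
import Mathlib.CategoryTheory.Monoidal.Closed.FunctorToTypes
import Mathlib.CategoryTheory.Monoidal.Closed.Ideal
import Mathlib.CategoryTheory.Monoidal.Closed.InternalCurrying
import Mathlib.CategoryTheory.Monoidal.Closed.Transport
import Mathlib.CategoryTheory.Monoidal.Closed.Types
import Mathlib.CategoryTheory.Monoidal.Closed.Zero
import Mathlib.CategoryTheory.Monoidal.CoherenceLemmas
import Mathlib.CategoryTheory.Monoidal.CommComon_
import Mathlib.CategoryTheory.Monoidal.CommGrp_
import Mathlib.CategoryTheory.Monoidal.CommMon_
import Mathlib.CategoryTheory.Monoidal.Comon_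
import Mathlib.CategoryTheory.Monoidal.Conv
import Mathlib.CategoryTheory.Monoidal.DayConvolution
import Mathlib.CategoryTheory.Monoidal.DayConvolution.Braided
import Mathlib.CategoryTheory.Monoidal.DayConvolution.Closed
import Mathlib.CategoryTheory.Monoidal.DayConvolution.DayFunctor
import Mathlib.CategoryTheory.Monoidal.Discrete
import Mathlib.CategoryTheory.Monoidal.End
import Mathlib.CategoryTheory.Monoidal.ExternalProduct.Basic
import Mathlib.CategoryTheory.Monoidal.ExternalProduct.KanExtension
import Mathlib.CategoryTheory.Monoidal.Free.Basic
import Mathlib.CategoryTheory.Monoidal.Free.Coherence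
import Mathlib.CategoryTheory.Monoidal.Functor
import Mathlib.CategoryTheory.Monoidal.Functor.Types
import Mathlib.CategoryTheory.Monoidal.FunctorCategory
import Mathlib.CategoryTheory.Monoidal.Grp
import Mathlib.CategoryTheory.Monoidal.Grp_
import Mathlib.CategoryTheory.Monoidal.Hopf_
import Mathlib.CategoryTheory.Monoidal.Internal.FunctorCategory
import Mathlib.CategoryTheory.Monoidal.Internal.Limits
import Mathlib.CategoryTheory.Monoidal.Internal.Module
import Mathlib.CategoryTheory.Monoidal.Internal.Types.Basic
import Mathlib.CategoryTheory.Monoidal.Internal.Types.CommGrp_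
import Mathlib.CategoryTheory.Monoidal.Internal.Types.Grp
import Mathlib.CategoryTheory.Monoidal.Internal.Types.Grp_
import Mathlib.CategoryTheory.Monoidal.Limits.Basic
import Mathlib.CategoryTheory.Monoidal.Limits.Cokernels
import Mathlib.CategoryTheory.Monoidal.Limits.Colimits
import Mathlib.CategoryTheory.Monoidal.Limits.HasLimits
import Mathlib.CategoryTheory.Monoidal.Limits.Preserves
import Mathlib.CategoryTheory.Monoidal.Limits.Shapes.Pullback
import Mathlib.CategoryTheory.Monoidal.Linear
import Mathlib.CategoryTheory.Monoidal.Mod
import Mathlib.CategoryTheory.Monoidal.Mod_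
import Mathlib.CategoryTheory.Monoidal.Mon
import Mathlib.CategoryTheory.Monoidal.Mon_
import Mathlib.CategoryTheory.Monoidal.Multifunctor
import Mathlib.CategoryTheory.Monoidal.NaturalTransformation
import Mathlib.CategoryTheory.Monoidal.OfHasFiniteProducts
import Mathlib.CategoryTheory.Monoidal.Opposite
import Mathlib.CategoryTheory.Monoidal.Opposite.Mon
import Mathlib.CategoryTheory.Monoidal.Opposite.Mon_
import Mathlib.CategoryTheory.Monoidal.Preadditive
import Mathlib.CategoryTheory.Monoidal.PushoutProduct
import Mathlib.CategoryTheory.Monoidal.Rigid.Basic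
import Mathlib.CategoryTheory.Monoidal.Rigid.Braided
import Mathlib.CategoryTheory.Monoidal.Rigid.Functor
import Mathlib.CategoryTheory.Monoidal.Rigid.FunctorCategory
import Mathlib.CategoryTheory.Monoidal.Rigid.OfEquivalence
import Mathlib.CategoryTheory.Monoidal.Ring
import Mathlib.CategoryTheory.Monoidal.Skeleton
import Mathlib.CategoryTheory.Monoidal.Subcategory
import Mathlib.CategoryTheory.Monoidal.Tor
import Mathlib.CategoryTheory.Monoidal.Transport
import Mathlib.CategoryTheory.Monoidal.Types.Basic
import Mathlib.CategoryTheory.Monoidal.Types.Coyoneda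
import Mathlib.CategoryTheory.Monoidal.Widesubcategory
import Mathlib.CategoryTheory.MorphismProperty.Basic
import Mathlib.CategoryTheory.MorphismProperty.Comma
import Mathlib.CategoryTheory.MorphismProperty.CommaSites
import Mathlib.CategoryTheory.MorphismProperty.Composition
import Mathlib.CategoryTheory.MorphismProperty.Concrete
import Mathlib.CategoryTheory.MorphismProperty.Descent
import Mathlib.CategoryTheory.MorphismProperty.Factorization
import Mathlib.CategoryTheory.MorphismProperty.FunctorCategory
import Mathlib.CategoryTheory.MorphismProperty.HasCardinalLT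
import Mathlib.CategoryTheory.MorphismProperty.Ind
import Mathlib.CategoryTheory.MorphismProperty.IsInvertedBy
import Mathlib.CategoryTheory.MorphismProperty.IsSmall
import Mathlib.CategoryTheory.MorphismProperty.LiftingProperty
import Mathlib.CategoryTheory.MorphismProperty.Limits
import Mathlib.CategoryTheory.MorphismProperty.Local
import Mathlib.CategoryTheory.MorphismProperty.LocalClosure
import Mathlib.CategoryTheory.MorphismProperty.LocalEpi
import Mathlib.CategoryTheory.MorphismProperty.OfObjectProperty
import Mathlib.CategoryTheory.MorphismProperty.OverAdjunction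
import Mathlib.CategoryTheory.MorphismProperty.Quotient
import Mathlib.CategoryTheory.MorphismProperty.Representable
import Mathlib.CategoryTheory.MorphismProperty.Retract
import Mathlib.CategoryTheory.MorphismProperty.RetractArgument
import Mathlib.CategoryTheory.MorphismProperty.TransfiniteComposition
import Mathlib.CategoryTheory.MorphismProperty.WeakFactorizationSystem
import Mathlib.CategoryTheory.NatIso
import Mathlib.CategoryTheory.NatTrans
import Mathlib.CategoryTheory.Noetherian
import Mathlib.CategoryTheory.ObjectProperty.Basic
import Mathlib.CategoryTheory.ObjectProperty.ClosedUnderIsomorphisms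
import Mathlib.CategoryTheory.ObjectProperty.ClosureShift
import Mathlib.CategoryTheory.ObjectProperty.ColimitsCardinalClosure
import Mathlib.CategoryTheory.ObjectProperty.ColimitsClosure
import Mathlib.CategoryTheory.ObjectProperty.ColimitsOfShape
import Mathlib.CategoryTheory.ObjectProperty.Comma
import Mathlib.CategoryTheory.ObjectProperty.CompleteLattice
import Mathlib.CategoryTheory.ObjectProperty.ContainsZero
import Mathlib.CategoryTheory.ObjectProperty.EpiMono
import Mathlib.CategoryTheory.ObjectProperty.Equivalence
import Mathlib.CategoryTheory.ObjectProperty.Extensions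
import Mathlib.CategoryTheory.ObjectProperty.FiniteProducts
import Mathlib.CategoryTheory.ObjectProperty.FullSubcategory
import Mathlib.CategoryTheory.ObjectProperty.FunctorCategory.PreservesLimits
import Mathlib.CategoryTheory.ObjectProperty.HasCardinalLT
import Mathlib.CategoryTheory.ObjectProperty.Ind
import Mathlib.CategoryTheory.ObjectProperty.InheritedFromHom
import Mathlib.CategoryTheory.ObjectProperty.Kernels
import Mathlib.CategoryTheory.ObjectProperty.LimitsClosure
import Mathlib.CategoryTheory.ObjectProperty.LimitsOfShape
import Mathlib.CategoryTheory.ObjectProperty.Local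
import Mathlib.CategoryTheory.ObjectProperty.Opposite
import Mathlib.CategoryTheory.ObjectProperty.Orthogonal
import Mathlib.CategoryTheory.ObjectProperty.Retract
import Mathlib.CategoryTheory.ObjectProperty.Shift
import Mathlib.CategoryTheory.ObjectProperty.ShiftAdditive
import Mathlib.CategoryTheory.ObjectProperty.SiteLocal
import Mathlib.CategoryTheory.ObjectProperty.Small
import Mathlib.CategoryTheory.Opposites
import Mathlib.CategoryTheory.PEmpty
import Mathlib.CategoryTheory.PUnit
import Mathlib.CategoryTheory.PathCategory.Basic
import Mathlib.CategoryTheory.PathCategory.MorphismProperty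
import Mathlib.CategoryTheory.Pi.Basic
import Mathlib.CategoryTheory.Pi.Monoidal
import Mathlib.CategoryTheory.Preadditive.AdditiveFunctor
import Mathlib.CategoryTheory.Preadditive.Basic
import Mathlib.CategoryTheory.Preadditive.Biproducts
import Mathlib.CategoryTheory.Preadditive.CommGrp_
import Mathlib.CategoryTheory.Preadditive.Comma
import Mathlib.CategoryTheory.Preadditive.EilenbergMoore
import Mathlib.CategoryTheory.Preadditive.EndoFunctor
import Mathlib.CategoryTheory.Preadditive.FreydCategory.Homotopy
import Mathlib.CategoryTheory.Preadditive.FreydCategory.RightFreyd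
import Mathlib.CategoryTheory.Preadditive.FunctorCategory
import Mathlib.CategoryTheory.Preadditive.HomOrthogonal
import Mathlib.CategoryTheory.Preadditive.Indization
import Mathlib.CategoryTheory.Preadditive.Injective.Basic
import Mathlib.CategoryTheory.Preadditive.Injective.InjectiveObject
import Mathlib.CategoryTheory.Preadditive.Injective.LiftingProperties
import Mathlib.CategoryTheory.Preadditive.Injective.Preserves
import Mathlib.CategoryTheory.Preadditive.Injective.Resolution
import Mathlib.CategoryTheory.Preadditive.LeftExact
import Mathlib.CategoryTheory.Preadditive.LiftToFinset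
import Mathlib.CategoryTheory.Preadditive.Mat
import Mathlib.CategoryTheory.Preadditive.OfBiproducts
import Mathlib.CategoryTheory.Preadditive.Opposite
import Mathlib.CategoryTheory.Preadditive.Projective.Basic
import Mathlib.CategoryTheory.Preadditive.Projective.Internal
import Mathlib.CategoryTheory.Preadditive.Projective.LiftingProperties
import Mathlib.CategoryTheory.Preadditive.Projective.Preserves
import Mathlib.CategoryTheory.Preadditive.Projective.Resolution
import Mathlib.CategoryTheory.Preadditive.Schur
import Mathlib.CategoryTheory.Preadditive.SingleObj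
import Mathlib.CategoryTheory.Preadditive.Transfer
import Mathlib.CategoryTheory.Preadditive.Yoneda.Basic
import Mathlib.CategoryTheory.Preadditive.Yoneda.Injective
import Mathlib.CategoryTheory.Preadditive.Yoneda.Limits
import Mathlib.CategoryTheory.Preadditive.Yoneda.Projective
import Mathlib.CategoryTheory.Presentable.Adjunction
import Mathlib.CategoryTheory.Presentable.Basic
import Mathlib.CategoryTheory.Presentable.CardinalDirectedPoset
import Mathlib.CategoryTheory.Presentable.CardinalFilteredPresentation
import Mathlib.CategoryTheory.Presentable.ColimitPresentation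
import Mathlib.CategoryTheory.Presentable.Dense
import Mathlib.CategoryTheory.Presentable.Directed
import Mathlib.CategoryTheory.Presentable.EssentiallyLarge
import Mathlib.CategoryTheory.Presentable.Finite
import Mathlib.CategoryTheory.Presentable.IsCardinalFiltered
import Mathlib.CategoryTheory.Presentable.Limits
import Mathlib.CategoryTheory.Presentable.LocallyPresentable
import Mathlib.CategoryTheory.Presentable.OrthogonalReflection
import Mathlib.CategoryTheory.Presentable.Presheaf
import Mathlib.CategoryTheory.Presentable.Retracts
import Mathlib.CategoryTheory.Presentable.SharplyLT.Basic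
import Mathlib.CategoryTheory.Presentable.StrongGenerator
import Mathlib.CategoryTheory.Presentable.Type
import Mathlib.CategoryTheory.Products.Associator
import Mathlib.CategoryTheory.Products.Basic
import Mathlib.CategoryTheory.Products.Bifunctor
import Mathlib.CategoryTheory.Products.Unitor
import Mathlib.CategoryTheory.Profunctor.Basic
import Mathlib.CategoryTheory.Quotient
import Mathlib.CategoryTheory.Quotient.Linear
import Mathlib.CategoryTheory.Quotient.LocallySmall
import Mathlib.CategoryTheory.Quotient.Preadditive
import Mathlib.CategoryTheory.RegularCategory.Basic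
import Mathlib.CategoryTheory.RepresentedBy
import Mathlib.CategoryTheory.Retract
import Mathlib.CategoryTheory.Shift.Adjunction
import Mathlib.CategoryTheory.Shift.Basic
import Mathlib.CategoryTheory.Shift.CommShift
import Mathlib.CategoryTheory.Shift.CommShiftTwo
import Mathlib.CategoryTheory.Shift.Induced
import Mathlib.CategoryTheory.Shift.InducedShiftSequence
import Mathlib.CategoryTheory.Shift.Linear
import Mathlib.CategoryTheory.Shift.Localization
import Mathlib.CategoryTheory.Shift.Opposite
import Mathlib.CategoryTheory.Shift.Pullback
import Mathlib.CategoryTheory.Shift.Quotient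
import Mathlib.CategoryTheory.Shift.ShiftSequence
import Mathlib.CategoryTheory.Shift.ShiftedHom
import Mathlib.CategoryTheory.Shift.ShiftedHomOpposite
import Mathlib.CategoryTheory.Shift.SingleFunctors
import Mathlib.CategoryTheory.Shift.SingleFunctorsLift
import Mathlib.CategoryTheory.Shift.Twist
import Mathlib.CategoryTheory.ShrinkYoneda
import Mathlib.CategoryTheory.Sigma.Basic
import Mathlib.CategoryTheory.Simple
import Mathlib.CategoryTheory.SingleObj
import Mathlib.CategoryTheory.Sites.Abelian
import Mathlib.CategoryTheory.Sites.Adjunction
import Mathlib.CategoryTheory.Sites.Canonical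
import Mathlib.CategoryTheory.Sites.CartesianClosed
import Mathlib.CategoryTheory.Sites.CartesianMonoidal
import Mathlib.CategoryTheory.Sites.Closed
import Mathlib.CategoryTheory.Sites.Coherent.Basic
import Mathlib.CategoryTheory.Sites.Coherent.CoherentSheaves
import Mathlib.CategoryTheory.Sites.Coherent.CoherentTopology
import Mathlib.CategoryTheory.Sites.Coherent.Comparison
import Mathlib.CategoryTheory.Sites.Coherent.Equivalence
import Mathlib.CategoryTheory.Sites.Coherent.ExtensiveColimits
import Mathlib.CategoryTheory.Sites.Coherent.ExtensiveSheaves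
import Mathlib.CategoryTheory.Sites.Coherent.ExtensiveTopology
import Mathlib.CategoryTheory.Sites.Coherent.LocallySurjective
import Mathlib.CategoryTheory.Sites.Coherent.ReflectsPrecoherent
import Mathlib.CategoryTheory.Sites.Coherent.ReflectsPreregular
import Mathlib.CategoryTheory.Sites.Coherent.RegularSheaves
import Mathlib.CategoryTheory.Sites.Coherent.RegularTopology
import Mathlib.CategoryTheory.Sites.Coherent.SequentialLimit
import Mathlib.CategoryTheory.Sites.Coherent.SheafComparison
import Mathlib.CategoryTheory.Sites.CompatiblePlus
import Mathlib.CategoryTheory.Sites.CompatibleSheafification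
import Mathlib.CategoryTheory.Sites.ConcreteSheafification
import Mathlib.CategoryTheory.Sites.ConstantSheaf
import Mathlib.CategoryTheory.Sites.Continuous
import Mathlib.CategoryTheory.Sites.CoproductSheafCondition
import Mathlib.CategoryTheory.Sites.CoverLifting
import Mathlib.CategoryTheory.Sites.CoverPreserving
import Mathlib.CategoryTheory.Sites.Coverage
import Mathlib.CategoryTheory.Sites.CoversTop
import Mathlib.CategoryTheory.Sites.CoversTop.Basic
import Mathlib.CategoryTheory.Sites.CoversTop.Over
import Mathlib.CategoryTheory.Sites.DenseSubsite.Basic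
import Mathlib.CategoryTheory.Sites.DenseSubsite.InducedTopology
import Mathlib.CategoryTheory.Sites.DenseSubsite.OneHypercoverDense
import Mathlib.CategoryTheory.Sites.DenseSubsite.SheafEquiv
import Mathlib.CategoryTheory.Sites.Descent.DescentData
import Mathlib.CategoryTheory.Sites.Descent.DescentDataAsCoalgebra
import Mathlib.CategoryTheory.Sites.Descent.DescentDataPrime
import Mathlib.CategoryTheory.Sites.Descent.IsPrestack
import Mathlib.CategoryTheory.Sites.Descent.IsStack
import Mathlib.CategoryTheory.Sites.Descent.Precoverage
import Mathlib.CategoryTheory.Sites.EffectiveEpimorphic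
import Mathlib.CategoryTheory.Sites.EpiMono
import Mathlib.CategoryTheory.Sites.EqualizerSheafCondition
import Mathlib.CategoryTheory.Sites.Equivalence
import Mathlib.CategoryTheory.Sites.Finite
import Mathlib.CategoryTheory.Sites.GlobalSections
import Mathlib.CategoryTheory.Sites.Grothendieck
import Mathlib.CategoryTheory.Sites.Hypercover.Homotopy
import Mathlib.CategoryTheory.Sites.Hypercover.IsSheaf
import Mathlib.CategoryTheory.Sites.Hypercover.One
import Mathlib.CategoryTheory.Sites.Hypercover.Saturate
import Mathlib.CategoryTheory.Sites.Hypercover.SheafOfTypes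
import Mathlib.CategoryTheory.Sites.Hypercover.Subcanonical
import Mathlib.CategoryTheory.Sites.Hypercover.Zero
import Mathlib.CategoryTheory.Sites.Hypercover.ZeroFamily
import Mathlib.CategoryTheory.Sites.InducedTopology
import Mathlib.CategoryTheory.Sites.IsSheafFor
import Mathlib.CategoryTheory.Sites.JointlySurjective
import Mathlib.CategoryTheory.Sites.LeftExact
import Mathlib.CategoryTheory.Sites.Limits
import Mathlib.CategoryTheory.Sites.LocalProperties
import Mathlib.CategoryTheory.Sites.LocalSite
import Mathlib.CategoryTheory.Sites.Localization
import Mathlib.CategoryTheory.Sites.LocallyBijective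
import Mathlib.CategoryTheory.Sites.LocallyFullyFaithful
import Mathlib.CategoryTheory.Sites.LocallyInjective
import Mathlib.CategoryTheory.Sites.LocallySurjective
import Mathlib.CategoryTheory.Sites.MayerVietorisSquare
import Mathlib.CategoryTheory.Sites.Monoidal
import Mathlib.CategoryTheory.Sites.MorphismProperty
import Mathlib.CategoryTheory.Sites.NonabelianCohomology.H1
import Mathlib.CategoryTheory.Sites.Over
import Mathlib.CategoryTheory.Sites.Plus
import Mathlib.CategoryTheory.Sites.Point.Basic
import Mathlib.CategoryTheory.Sites.Point.Category
import Mathlib.CategoryTheory.Sites.Point.Comap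
import Mathlib.CategoryTheory.Sites.Point.Conservative
import Mathlib.CategoryTheory.Sites.Point.IsMonoidalW
import Mathlib.CategoryTheory.Sites.Point.Map
import Mathlib.CategoryTheory.Sites.Point.Monoidal
import Mathlib.CategoryTheory.Sites.Point.OfIsCofiltered
import Mathlib.CategoryTheory.Sites.Point.Over
import Mathlib.CategoryTheory.Sites.Point.Presheaf
import Mathlib.CategoryTheory.Sites.Point.Skyscraper
import Mathlib.CategoryTheory.Sites.Precoverage
import Mathlib.CategoryTheory.Sites.Precoverage.Generates
import Mathlib.CategoryTheory.Sites.Precoverage.Subsheaf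
import Mathlib.CategoryTheory.Sites.PrecoverageToGrothendieck
import Mathlib.CategoryTheory.Sites.Preserves
import Mathlib.CategoryTheory.Sites.PreservesLimits
import Mathlib.CategoryTheory.Sites.PreservesLocallyBijective
import Mathlib.CategoryTheory.Sites.PreservesSheafification
import Mathlib.CategoryTheory.Sites.Pretopology
import Mathlib.CategoryTheory.Sites.PseudofunctorSheafOver
import Mathlib.CategoryTheory.Sites.Pullback
import Mathlib.CategoryTheory.Sites.RegularEpi
import Mathlib.CategoryTheory.Sites.Sheaf
import Mathlib.CategoryTheory.Sites.SheafCohomology.Basic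
import Mathlib.CategoryTheory.Sites.SheafCohomology.Cech
import Mathlib.CategoryTheory.Sites.SheafCohomology.MayerVietoris
import Mathlib.CategoryTheory.Sites.SheafHom
import Mathlib.CategoryTheory.Sites.SheafOfTypes
import Mathlib.CategoryTheory.Sites.Sheafification
import Mathlib.CategoryTheory.Sites.Sieves
import Mathlib.CategoryTheory.Sites.Spaces
import Mathlib.CategoryTheory.Sites.Subcanonical
import Mathlib.CategoryTheory.Sites.SubcanonicalOver
import Mathlib.CategoryTheory.Sites.Subsheaf
import Mathlib.CategoryTheory.Sites.Types
import Mathlib.CategoryTheory.Sites.Whiskering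
import Mathlib.CategoryTheory.Skeletal
import Mathlib.CategoryTheory.SmallObject.Basic
import Mathlib.CategoryTheory.SmallObject.Construction
import Mathlib.CategoryTheory.SmallObject.IsCardinalForSmallObjectArgument
import Mathlib.CategoryTheory.SmallObject.Iteration.Basic
import Mathlib.CategoryTheory.SmallObject.Iteration.ExtendToSucc
import Mathlib.CategoryTheory.SmallObject.Iteration.FunctorOfCocone
import Mathlib.CategoryTheory.SmallObject.Iteration.Nonempty
import Mathlib.CategoryTheory.SmallObject.TransfiniteCompositionLifting
import Mathlib.CategoryTheory.SmallObject.TransfiniteIteration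
import Mathlib.CategoryTheory.SmallObject.WellOrderInductionData
import Mathlib.CategoryTheory.SmallRepresentatives
import Mathlib.CategoryTheory.Square
import Mathlib.CategoryTheory.Subfunctor.Basic
import Mathlib.CategoryTheory.Subfunctor.Equalizer
import Mathlib.CategoryTheory.Subfunctor.Finite
import Mathlib.CategoryTheory.Subfunctor.Image
import Mathlib.CategoryTheory.Subfunctor.OfSection
import Mathlib.CategoryTheory.Subfunctor.Sieves
import Mathlib.CategoryTheory.Subfunctor.SubmonoidFunctor
import Mathlib.CategoryTheory.Subfunctor.Subobject
import Mathlib.CategoryTheory.Subobject.ArtinianObject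
import Mathlib.CategoryTheory.Subobject.Basic
import Mathlib.CategoryTheory.Subobject.Classifier.Defs
import Mathlib.CategoryTheory.Subobject.Comma
import Mathlib.CategoryTheory.Subobject.FactorThru
import Mathlib.CategoryTheory.Subobject.HasCardinalLT
import Mathlib.CategoryTheory.Subobject.Lattice
import Mathlib.CategoryTheory.Subobject.Limits
import Mathlib.CategoryTheory.Subobject.MonoOver
import Mathlib.CategoryTheory.Subobject.NoetherianObject
import Mathlib.CategoryTheory.Subobject.Presheaf
import Mathlib.CategoryTheory.Subobject.Types
import Mathlib.CategoryTheory.Subobject.WellPowered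
import Mathlib.CategoryTheory.Subterminal
import Mathlib.CategoryTheory.Sums.Associator
import Mathlib.CategoryTheory.Sums.Basic
import Mathlib.CategoryTheory.Sums.Products
import Mathlib.CategoryTheory.Thin
import Mathlib.CategoryTheory.Topos.Classifier
import Mathlib.CategoryTheory.Topos.Sheaf
import Mathlib.CategoryTheory.Triangulated.Adjunction
import Mathlib.CategoryTheory.Triangulated.Basic
import Mathlib.CategoryTheory.Triangulated.Functor
import Mathlib.CategoryTheory.Triangulated.Generators
import Mathlib.CategoryTheory.Triangulated.HomologicalFunctor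
import Mathlib.CategoryTheory.Triangulated.LocalizingSubcategory
import Mathlib.CategoryTheory.Triangulated.Opposite.Basic
import Mathlib.CategoryTheory.Triangulated.Opposite.Functor
import Mathlib.CategoryTheory.Triangulated.Opposite.OpOp
import Mathlib.CategoryTheory.Triangulated.Opposite.Pretriangulated
import Mathlib.CategoryTheory.Triangulated.Opposite.Subcategory
import Mathlib.CategoryTheory.Triangulated.Opposite.Triangle
import Mathlib.CategoryTheory.Triangulated.Opposite.Triangulated
import Mathlib.CategoryTheory.Triangulated.Orthogonal
import Mathlib.CategoryTheory.Triangulated.Pretriangulated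
import Mathlib.CategoryTheory.Triangulated.Rotate
import Mathlib.CategoryTheory.Triangulated.SpectralObject
import Mathlib.CategoryTheory.Triangulated.Subcategory
import Mathlib.CategoryTheory.Triangulated.TStructure.AbelianSubcategory
import Mathlib.CategoryTheory.Triangulated.TStructure.Basic
import Mathlib.CategoryTheory.Triangulated.TStructure.ETrunc
import Mathlib.CategoryTheory.Triangulated.TStructure.Heart
import Mathlib.CategoryTheory.Triangulated.TStructure.Induced
import Mathlib.CategoryTheory.Triangulated.TStructure.SpectralObject
import Mathlib.CategoryTheory.Triangulated.TStructure.TruncLEGT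
import Mathlib.CategoryTheory.Triangulated.TStructure.TruncLTGE
import Mathlib.CategoryTheory.Triangulated.TriangleShift
import Mathlib.CategoryTheory.Triangulated.Triangulated
import Mathlib.CategoryTheory.Triangulated.WeakKernels
import Mathlib.CategoryTheory.Triangulated.Yoneda
import Mathlib.CategoryTheory.Types.Basic
import Mathlib.CategoryTheory.Types.Epimorphisms
import Mathlib.CategoryTheory.Types.Monomorphisms
import Mathlib.CategoryTheory.Types.Set
import Mathlib.CategoryTheory.UnivLE
import Mathlib.CategoryTheory.Whiskering
import Mathlib.CategoryTheory.Widesubcategory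
import Mathlib.CategoryTheory.WithTerminal.Basic
import Mathlib.CategoryTheory.WithTerminal.Cone
import Mathlib.CategoryTheory.WithTerminal.FinCategory
import Mathlib.CategoryTheory.WithTerminal.Lemmas
import Mathlib.CategoryTheory.Yoneda
import Mathlib.Combinatorics.Additive.AP.Three.Behrend
import Mathlib.Combinatorics.Additive.AP.Three.Defs
import Mathlib.Combinatorics.Additive.ApproximateSubgroup
import Mathlib.Combinatorics.Additive.CauchyDavenport
import Mathlib.Combinatorics.Additive.Convolution
import Mathlib.Combinatorics.Additive.Corner.Defs
import Mathlib.Combinatorics.Additive.Corner.Roth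
import Mathlib.Combinatorics.Additive.CovBySMul
import Mathlib.Combinatorics.Additive.Dissociation
import Mathlib.Combinatorics.Additive.DoublingConst
import Mathlib.Combinatorics.Additive.ETransform
import Mathlib.Combinatorics.Additive.Energy
import Mathlib.Combinatorics.Additive.ErdosGinzburgZiv
import Mathlib.Combinatorics.Additive.FreimanHom
import Mathlib.Combinatorics.Additive.PluenneckeRuzsa
import Mathlib.Combinatorics.Additive.Randomisation
import Mathlib.Combinatorics.Additive.RuzsaCovering
import Mathlib.Combinatorics.Additive.SmallTripling
import Mathlib.Combinatorics.Additive.SubsetSum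
import Mathlib.Combinatorics.Additive.VerySmallDoubling
import Mathlib.Combinatorics.Colex
import Mathlib.Combinatorics.Compactness
import Mathlib.Combinatorics.Configuration
import Mathlib.Combinatorics.Derangements.Basic
import Mathlib.Combinatorics.Derangements.Exponential
import Mathlib.Combinatorics.Derangements.Finite
import Mathlib.Combinatorics.Digraph.Basic
import Mathlib.Combinatorics.Digraph.Orientation
import Mathlib.Combinatorics.Enumerative.Bell
import Mathlib.Combinatorics.Enumerative.Catalan
import Mathlib.Combinatorics.Enumerative.Catalan.Basic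
import Mathlib.Combinatorics.Enumerative.Catalan.Tree
import Mathlib.Combinatorics.Enumerative.Composition
import Mathlib.Combinatorics.Enumerative.DoubleCounting
import Mathlib.Combinatorics.Enumerative.DyckWord
import Mathlib.Combinatorics.Enumerative.IncidenceAlgebra
import Mathlib.Combinatorics.Enumerative.InclusionExclusion
import Mathlib.Combinatorics.Enumerative.Partition.Basic
import Mathlib.Combinatorics.Enumerative.Partition.GenFun
import Mathlib.Combinatorics.Enumerative.Partition.Glaisher
import Mathlib.Combinatorics.Enumerative.Pentagonal
import Mathlib.Combinatorics.Enumerative.Pentagonal.Basic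
import Mathlib.Combinatorics.Enumerative.Pentagonal.PowerSeries
import Mathlib.Combinatorics.Enumerative.Pentagonal.Ring
import Mathlib.Combinatorics.Enumerative.Schroder
import Mathlib.Combinatorics.Enumerative.Stirling
import Mathlib.Combinatorics.Extremal.RuzsaSzemeredi
import Mathlib.Combinatorics.Graph.Basic
import Mathlib.Combinatorics.Graph.Delete
import Mathlib.Combinatorics.Graph.Lattice
import Mathlib.Combinatorics.Graph.Maps
import Mathlib.Combinatorics.Graph.Simple
import Mathlib.Combinatorics.Graph.Subgraph
import Mathlib.Combinatorics.HalesJewett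
import Mathlib.Combinatorics.Hall.Basic
import Mathlib.Combinatorics.Hall.Finite
import Mathlib.Combinatorics.Hindman
import Mathlib.Combinatorics.Hypergraph.Basic
import Mathlib.Combinatorics.KatonaCircle
import Mathlib.Combinatorics.Matroid.Basic
import Mathlib.Combinatorics.Matroid.Circuit
import Mathlib.Combinatorics.Matroid.Closure
import Mathlib.Combinatorics.Matroid.Constructions
import Mathlib.Combinatorics.Matroid.Dual
import Mathlib.Combinatorics.Matroid.IndepAxioms
import Mathlib.Combinatorics.Matroid.Init
import Mathlib.Combinatorics.Matroid.Loop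
import Mathlib.Combinatorics.Matroid.Map
import Mathlib.Combinatorics.Matroid.Minor.Contract
import Mathlib.Combinatorics.Matroid.Minor.Delete
import Mathlib.Combinatorics.Matroid.Minor.Order
import Mathlib.Combinatorics.Matroid.Minor.Restrict
import Mathlib.Combinatorics.Matroid.Rank.Cardinal
import Mathlib.Combinatorics.Matroid.Rank.ENat
import Mathlib.Combinatorics.Matroid.Rank.Finite
import Mathlib.Combinatorics.Matroid.Sum
import Mathlib.Combinatorics.Nullstellensatz
import Mathlib.Combinatorics.Optimization.ValuedCSP
import Mathlib.Combinatorics.Pigeonhole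
import Mathlib.Combinatorics.Quiver.Arborescence
import Mathlib.Combinatorics.Quiver.Basic
import Mathlib.Combinatorics.Quiver.Cast
import Mathlib.Combinatorics.Quiver.ConnectedComponent
import Mathlib.Combinatorics.Quiver.Covering
import Mathlib.Combinatorics.Quiver.Path
import Mathlib.Combinatorics.Quiver.Path.Decomposition
import Mathlib.Combinatorics.Quiver.Path.Vertices
import Mathlib.Combinatorics.Quiver.Path.Weight
import Mathlib.Combinatorics.Quiver.Prefunctor
import Mathlib.Combinatorics.Quiver.Push
import Mathlib.Combinatorics.Quiver.ReflQuiver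
import Mathlib.Combinatorics.Quiver.Schreier
import Mathlib.Combinatorics.Quiver.SingleObj
import Mathlib.Combinatorics.Quiver.Subquiver
import Mathlib.Combinatorics.Quiver.Symmetric
import Mathlib.Combinatorics.Schnirelmann
import Mathlib.Combinatorics.SetFamily.AhlswedeZhang
import Mathlib.Combinatorics.SetFamily.Compression.Down
import Mathlib.Combinatorics.SetFamily.Compression.UV
import Mathlib.Combinatorics.SetFamily.FourFunctions
import Mathlib.Combinatorics.SetFamily.HarrisKleitman
import Mathlib.Combinatorics.SetFamily.Intersecting
import Mathlib.Combinatorics.SetFamily.Kleitman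
import Mathlib.Combinatorics.SetFamily.KruskalKatona
import Mathlib.Combinatorics.SetFamily.LYM
import Mathlib.Combinatorics.SetFamily.Shadow
import Mathlib.Combinatorics.SetFamily.Shatter
import Mathlib.Combinatorics.SimpleGraph.Acyclic
import Mathlib.Combinatorics.SimpleGraph.AdjMatrix
import Mathlib.Combinatorics.SimpleGraph.Basic
import Mathlib.Combinatorics.SimpleGraph.Bipartite
import Mathlib.Combinatorics.SimpleGraph.Cayley
import Mathlib.Combinatorics.SimpleGraph.Circulant
import Mathlib.Combinatorics.SimpleGraph.Clique
import Mathlib.Combinatorics.SimpleGraph.Coloring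
import Mathlib.Combinatorics.SimpleGraph.Coloring.Constructions
import Mathlib.Combinatorics.SimpleGraph.Coloring.EdgeLabeling
import Mathlib.Combinatorics.SimpleGraph.Coloring.Vertex
import Mathlib.Combinatorics.SimpleGraph.Coloring.VertexColoring
import Mathlib.Combinatorics.SimpleGraph.CompleteMultipartite
import Mathlib.Combinatorics.SimpleGraph.ConcreteColorings
import Mathlib.Combinatorics.SimpleGraph.Connectivity.Connected
import Mathlib.Combinatorics.SimpleGraph.Connectivity.EdgeConnectivity
import Mathlib.Combinatorics.SimpleGraph.Connectivity.Finite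
import Mathlib.Combinatorics.SimpleGraph.Connectivity.Represents
import Mathlib.Combinatorics.SimpleGraph.Connectivity.Subgraph
import Mathlib.Combinatorics.SimpleGraph.Connectivity.WalkCounting
import Mathlib.Combinatorics.SimpleGraph.Connectivity.WalkDecomp
import Mathlib.Combinatorics.SimpleGraph.Copy
import Mathlib.Combinatorics.SimpleGraph.CycleGraph
import Mathlib.Combinatorics.SimpleGraph.Dart
import Mathlib.Combinatorics.SimpleGraph.DegreeSum
import Mathlib.Combinatorics.SimpleGraph.DeleteEdges
import Mathlib.Combinatorics.SimpleGraph.Density
import Mathlib.Combinatorics.SimpleGraph.Diam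
import Mathlib.Combinatorics.SimpleGraph.EdgeLabeling
import Mathlib.Combinatorics.SimpleGraph.Ends.Defs
import Mathlib.Combinatorics.SimpleGraph.Ends.Properties
import Mathlib.Combinatorics.SimpleGraph.Extremal.Basic
import Mathlib.Combinatorics.SimpleGraph.Extremal.ErdosStoneSimonovits
import Mathlib.Combinatorics.SimpleGraph.Extremal.Turan
import Mathlib.Combinatorics.SimpleGraph.Extremal.TuranDensity
import Mathlib.Combinatorics.SimpleGraph.Extremal.Zarankiewicz
import Mathlib.Combinatorics.SimpleGraph.Finite
import Mathlib.Combinatorics.SimpleGraph.Finsubgraph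
import Mathlib.Combinatorics.SimpleGraph.FiveWheelLike
import Mathlib.Combinatorics.SimpleGraph.Girth
import Mathlib.Combinatorics.SimpleGraph.Hall
import Mathlib.Combinatorics.SimpleGraph.Hamiltonian
import Mathlib.Combinatorics.SimpleGraph.Hasse
import Mathlib.Combinatorics.SimpleGraph.IncMatrix
import Mathlib.Combinatorics.SimpleGraph.Init
import Mathlib.Combinatorics.SimpleGraph.LapMatrix
import Mathlib.Combinatorics.SimpleGraph.LineGraph
import Mathlib.Combinatorics.SimpleGraph.Maps
import Mathlib.Combinatorics.SimpleGraph.Matching
import Mathlib.Combinatorics.SimpleGraph.Metric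
import Mathlib.Combinatorics.SimpleGraph.Operations
import Mathlib.Combinatorics.SimpleGraph.Partition
import Mathlib.Combinatorics.SimpleGraph.Paths
import Mathlib.Combinatorics.SimpleGraph.Prod
import Mathlib.Combinatorics.SimpleGraph.Regularity.Bound
import Mathlib.Combinatorics.SimpleGraph.Regularity.Chunk
import Mathlib.Combinatorics.SimpleGraph.Regularity.Energy
import Mathlib.Combinatorics.SimpleGraph.Regularity.Equitabilise
import Mathlib.Combinatorics.SimpleGraph.Regularity.Increment
import Mathlib.Combinatorics.SimpleGraph.Regularity.Lemma
import Mathlib.Combinatorics.SimpleGraph.Regularity.Uniform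
import Mathlib.Combinatorics.SimpleGraph.Star
import Mathlib.Combinatorics.SimpleGraph.StronglyRegular
import Mathlib.Combinatorics.SimpleGraph.Subgraph
import Mathlib.Combinatorics.SimpleGraph.Sum
import Mathlib.Combinatorics.SimpleGraph.Trails
import Mathlib.Combinatorics.SimpleGraph.Triangle.Basic
import Mathlib.Combinatorics.SimpleGraph.Triangle.Counting
import Mathlib.Combinatorics.SimpleGraph.Triangle.Removal
import Mathlib.Combinatorics.SimpleGraph.Triangle.Tripartite
import Mathlib.Combinatorics.SimpleGraph.Tutte
import Mathlib.Combinatorics.SimpleGraph.UnitDistance.Basic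
import Mathlib.Combinatorics.SimpleGraph.UniversalVerts
import Mathlib.Combinatorics.SimpleGraph.VertexCover
import Mathlib.Combinatorics.SimpleGraph.Walk.Basic
import Mathlib.Combinatorics.SimpleGraph.Walk.Chord
import Mathlib.Combinatorics.SimpleGraph.Walk.Counting
import Mathlib.Combinatorics.SimpleGraph.Walk.Decomp
import Mathlib.Combinatorics.SimpleGraph.Walk.Maps
import Mathlib.Combinatorics.SimpleGraph.Walk.Operations
import Mathlib.Combinatorics.SimpleGraph.Walk.Subwalks
import Mathlib.Combinatorics.SimpleGraph.Walk.Traversal
import Mathlib.Combinatorics.SimpleGraph.Walks.Basic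
import Mathlib.Combinatorics.SimpleGraph.Walks.Counting
import Mathlib.Combinatorics.SimpleGraph.Walks.Decomp
import Mathlib.Combinatorics.SimpleGraph.Walks.Maps
import Mathlib.Combinatorics.SimpleGraph.Walks.Operations
import Mathlib.Combinatorics.SimpleGraph.Walks.Subwalks
import Mathlib.Combinatorics.SimpleGraph.Walks.Traversal
import Mathlib.Combinatorics.Tiling.Tile
import Mathlib.Combinatorics.Young.SemistandardTableau
import Mathlib.Combinatorics.Young.YoungDiagram
import Mathlib.Computability.Ackermann
import Mathlib.Computability.AkraBazzi.AkraBazzi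
import Mathlib.Computability.AkraBazzi.GrowsPolynomially
import Mathlib.Computability.AkraBazzi.SumTransform
import Mathlib.Computability.ContextFreeGrammar
import Mathlib.Computability.DFA
import Mathlib.Computability.Encoding
import Mathlib.Computability.EpsilonNFA
import Mathlib.Computability.Halting
import Mathlib.Computability.Language
import Mathlib.Computability.MyhillNerode
import Mathlib.Computability.NFA
import Mathlib.Computability.Partrec
import Mathlib.Computability.PartrecBasis
import Mathlib.Computability.PartrecCode
import Mathlib.Computability.PostTuringMachine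
import Mathlib.Computability.Primrec
import Mathlib.Computability.Primrec.Basic
import Mathlib.Computability.Primrec.List
import Mathlib.Computability.RE
import Mathlib.Computability.RecursiveIn
import Mathlib.Computability.Reduce
import Mathlib.Computability.RegularExpressions
import Mathlib.Computability.StateTransition
import Mathlib.Computability.TMComputable
import Mathlib.Computability.TMConfig
import Mathlib.Computability.TMToPartrec
import Mathlib.Computability.Tape
import Mathlib.Computability.TuringDegree
import Mathlib.Computability.TuringMachine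
import Mathlib.Computability.TuringMachine.Computable
import Mathlib.Computability.TuringMachine.Config
import Mathlib.Computability.TuringMachine.PostTuringMachine
import Mathlib.Computability.TuringMachine.StackTuringMachine
import Mathlib.Computability.TuringMachine.Tape
import Mathlib.Computability.TuringMachine.ToPartrec
import Mathlib.Condensed.AB
import Mathlib.Condensed.Basic
import Mathlib.Condensed.CartesianClosed
import Mathlib.Condensed.Discrete.Basic
import Mathlib.Condensed.Discrete.Characterization
import Mathlib.Condensed.Discrete.Colimit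
import Mathlib.Condensed.Discrete.LocallyConstant
import Mathlib.Condensed.Discrete.Module
import Mathlib.Condensed.EffectiveEpi
import Mathlib.Condensed.Epi
import Mathlib.Condensed.Equivalence
import Mathlib.Condensed.Explicit
import Mathlib.Condensed.Functors
import Mathlib.Condensed.Light.AB
import Mathlib.Condensed.Light.Basic
import Mathlib.Condensed.Light.CartesianClosed
import Mathlib.Condensed.Light.EffectiveEpi
import Mathlib.Condensed.Light.Epi
import Mathlib.Condensed.Light.Explicit
import Mathlib.Condensed.Light.Functors
import Mathlib.Condensed.Light.Instances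
import Mathlib.Condensed.Light.InternallyProjective
import Mathlib.Condensed.Light.Limits
import Mathlib.Condensed.Light.Module
import Mathlib.Condensed.Light.Monoidal
import Mathlib.Condensed.Light.Sequence
import Mathlib.Condensed.Light.Small
import Mathlib.Condensed.Light.TopCatAdjunction
import Mathlib.Condensed.Light.TopComparison
import Mathlib.Condensed.Limits
import Mathlib.Condensed.Module
import Mathlib.Condensed.Solid
import Mathlib.Condensed.TopCatAdjunction
import Mathlib.Condensed.TopComparison
import Mathlib.Control.Applicative
import Mathlib.Control.Basic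
import Mathlib.Control.Bifunctor
import Mathlib.Control.Bitraversable.Basic
import Mathlib.Control.Bitraversable.Instances
import Mathlib.Control.Bitraversable.Lemmas
import Mathlib.Control.Combinators
import Mathlib.Control.EquivFunctor
import Mathlib.Control.EquivFunctor.Instances
import Mathlib.Control.Fix
import Mathlib.Control.Fold
import Mathlib.Control.Functor
import Mathlib.Control.Functor.Multivariate
import Mathlib.Control.Lawful
import Mathlib.Control.LawfulFix
import Mathlib.Control.Monad.Basic
import Mathlib.Control.Monad.Cont
import Mathlib.Control.Monad.Writer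
import Mathlib.Control.Random
import Mathlib.Control.Traversable.Basic
import Mathlib.Control.Traversable.Equiv
import Mathlib.Control.Traversable.Instances
import Mathlib.Control.Traversable.Lemmas
import Mathlib.Control.ULift
import Mathlib.Control.ULiftable
import Mathlib.Data.Analysis.Filter
import Mathlib.Data.Analysis.Topology
import Mathlib.Data.Array.Defs
import Mathlib.Data.BitVec
import Mathlib.Data.Bool.AllAny
import Mathlib.Data.Bool.Basic
import Mathlib.Data.Bool.Count
import Mathlib.Data.Bool.Set
import Mathlib.Data.Bracket
import Mathlib.Data.Bundle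
import Mathlib.Data.Char
import Mathlib.Data.Complex.Basic
import Mathlib.Data.Complex.BigOperators
import Mathlib.Data.Countable.Basic
import Mathlib.Data.Countable.Defs
import Mathlib.Data.Countable.Small
import Mathlib.Data.DFinsupp.BigOperators
import Mathlib.Data.DFinsupp.Defs
import Mathlib.Data.DFinsupp.Encodable
import Mathlib.Data.DFinsupp.Ext
import Mathlib.Data.DFinsupp.FiniteInfinite
import Mathlib.Data.DFinsupp.Interval
import Mathlib.Data.DFinsupp.Lex
import Mathlib.Data.DFinsupp.Module
import Mathlib.Data.DFinsupp.Multiset
import Mathlib.Data.DFinsupp.NeLocus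
import Mathlib.Data.DFinsupp.Notation
import Mathlib.Data.DFinsupp.Order
import Mathlib.Data.DFinsupp.Sigma
import Mathlib.Data.DFinsupp.Small
import Mathlib.Data.DFinsupp.Submonoid
import Mathlib.Data.DFinsupp.WellFounded
import Mathlib.Data.DList.Instances
import Mathlib.Data.ENNReal.Action
import Mathlib.Data.ENNReal.Basic
import Mathlib.Data.ENNReal.BigOperators
import Mathlib.Data.ENNReal.Holder
import Mathlib.Data.ENNReal.Inv
import Mathlib.Data.ENNReal.Lemmas
import Mathlib.Data.ENNReal.Operations
import Mathlib.Data.ENNReal.Real
import Mathlib.Data.ENat.Basic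
import Mathlib.Data.ENat.BigOperators
import Mathlib.Data.ENat.Defs
import Mathlib.Data.ENat.Lattice
import Mathlib.Data.ENat.Pow
import Mathlib.Data.EReal.Basic
import Mathlib.Data.EReal.Inv
import Mathlib.Data.EReal.Operations
import Mathlib.Data.Erased
import Mathlib.Data.FP.Basic
import Mathlib.Data.Fin.Basic
import Mathlib.Data.Fin.Embedding
import Mathlib.Data.Fin.Fin2
import Mathlib.Data.Fin.FlagRange
import Mathlib.Data.Fin.Init
import Mathlib.Data.Fin.Parity
import Mathlib.Data.Fin.Pigeonhole
import Mathlib.Data.Fin.Rev
import Mathlib.Data.Fin.SuccPred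
import Mathlib.Data.Fin.SuccPredOrder
import Mathlib.Data.Fin.Tuple.Basic
import Mathlib.Data.Fin.Tuple.BubbleSortInduction
import Mathlib.Data.Fin.Tuple.Curry
import Mathlib.Data.Fin.Tuple.Embedding
import Mathlib.Data.Fin.Tuple.Finset
import Mathlib.Data.Fin.Tuple.NatAntidiagonal
import Mathlib.Data.Fin.Tuple.Reflection
import Mathlib.Data.Fin.Tuple.Sort
import Mathlib.Data.Fin.Tuple.Take
import Mathlib.Data.Fin.VecNotation
import Mathlib.Data.FinEnum
import Mathlib.Data.FinEnum.Option
import Mathlib.Data.Finite.Card
import Mathlib.Data.Finite.Defs
import Mathlib.Data.Finite.Perm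
import Mathlib.Data.Finite.Prod
import Mathlib.Data.Finite.Set
import Mathlib.Data.Finite.Sigma
import Mathlib.Data.Finite.Sum
import Mathlib.Data.Finite.Vector
import Mathlib.Data.Finmap
import Mathlib.Data.Finset.Attach
import Mathlib.Data.Finset.Attr
import Mathlib.Data.Finset.Basic
import Mathlib.Data.Finset.BooleanAlgebra
import Mathlib.Data.Finset.Card
import Mathlib.Data.Finset.CastCard
import Mathlib.Data.Finset.Dedup
import Mathlib.Data.Finset.Defs
import Mathlib.Data.Finset.DenselyOrdered
import Mathlib.Data.Finset.Density
import Mathlib.Data.Finset.Disjoint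
import Mathlib.Data.Finset.Empty
import Mathlib.Data.Finset.Erase
import Mathlib.Data.Finset.Filter
import Mathlib.Data.Finset.Fin
import Mathlib.Data.Finset.Finsupp
import Mathlib.Data.Finset.Fold
import Mathlib.Data.Finset.Functor
import Mathlib.Data.Finset.Grade
import Mathlib.Data.Finset.Image
import Mathlib.Data.Finset.Insert
import Mathlib.Data.Finset.Interval
import Mathlib.Data.Finset.Lattice.Basic
import Mathlib.Data.Finset.Lattice.Fold
import Mathlib.Data.Finset.Lattice.Lemmas
import Mathlib.Data.Finset.Lattice.Pi
import Mathlib.Data.Finset.Lattice.Prod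
import Mathlib.Data.Finset.Lattice.Union
import Mathlib.Data.Finset.Max
import Mathlib.Data.Finset.NAry
import Mathlib.Data.Finset.NatAntidiagonal
import Mathlib.Data.Finset.NatDivisors
import Mathlib.Data.Finset.NoncommProd
import Mathlib.Data.Finset.Option
import Mathlib.Data.Finset.Order
import Mathlib.Data.Finset.PImage
import Mathlib.Data.Finset.Pairwise
import Mathlib.Data.Finset.Pi
import Mathlib.Data.Finset.PiInduction
import Mathlib.Data.Finset.Piecewise
import Mathlib.Data.Finset.Powerset
import Mathlib.Data.Finset.Preimage
import Mathlib.Data.Finset.Prod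
import Mathlib.Data.Finset.Range
import Mathlib.Data.Finset.SDiff
import Mathlib.Data.Finset.SMulAntidiagonal
import Mathlib.Data.Finset.Sigma
import Mathlib.Data.Finset.Slice
import Mathlib.Data.Finset.Sort
import Mathlib.Data.Finset.Sum
import Mathlib.Data.Finset.Sups
import Mathlib.Data.Finset.Sym
import Mathlib.Data.Finset.SymmDiff
import Mathlib.Data.Finset.Union
import Mathlib.Data.Finset.Update
import Mathlib.Data.Finsupp.AList
import Mathlib.Data.Finsupp.Antidiagonal
import Mathlib.Data.Finsupp.Basic
import Mathlib.Data.Finsupp.BigOperators
import Mathlib.Data.Finsupp.Defs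
import Mathlib.Data.Finsupp.Encodable
import Mathlib.Data.Finsupp.Ext
import Mathlib.Data.Finsupp.Fin
import Mathlib.Data.Finsupp.Fintype
import Mathlib.Data.Finsupp.Indicator
import Mathlib.Data.Finsupp.Interval
import Mathlib.Data.Finsupp.Lex
import Mathlib.Data.Finsupp.MonomialOrder
import Mathlib.Data.Finsupp.MonomialOrder.DegLex
import Mathlib.Data.Finsupp.Multiset
import Mathlib.Data.Finsupp.NeLocus
import Mathlib.Data.Finsupp.Notation
import Mathlib.Data.Finsupp.Option
import Mathlib.Data.Finsupp.Order
import Mathlib.Data.Finsupp.PWO
import Mathlib.Data.Finsupp.Pointwise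
import Mathlib.Data.Finsupp.PointwiseSMul
import Mathlib.Data.Finsupp.SMul
import Mathlib.Data.Finsupp.SMulWithZero
import Mathlib.Data.Finsupp.Sigma
import Mathlib.Data.Finsupp.Single
import Mathlib.Data.Finsupp.ToDFinsupp
import Mathlib.Data.Finsupp.Weight
import Mathlib.Data.Finsupp.WellFounded
import Mathlib.Data.Fintype.Basic
import Mathlib.Data.Fintype.BigOperators
import Mathlib.Data.Fintype.Card
import Mathlib.Data.Fintype.CardEmbedding
import Mathlib.Data.Fintype.Defs
import Mathlib.Data.Fintype.EquivFin
import Mathlib.Data.Fintype.Fin
import Mathlib.Data.Fintype.Inv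
import Mathlib.Data.Fintype.Lattice
import Mathlib.Data.Fintype.List
import Mathlib.Data.Fintype.OfMap
import Mathlib.Data.Fintype.Option
import Mathlib.Data.Fintype.Order
import Mathlib.Data.Fintype.Parity
import Mathlib.Data.Fintype.Perm
import Mathlib.Data.Fintype.Pi
import Mathlib.Data.Fintype.Pigeonhole
import Mathlib.Data.Fintype.Powerset
import Mathlib.Data.Fintype.Prod
import Mathlib.Data.Fintype.Quotient
import Mathlib.Data.Fintype.Sets
import Mathlib.Data.Fintype.Shrink
import Mathlib.Data.Fintype.Sigma
import Mathlib.Data.Fintype.Sort
import Mathlib.Data.Fintype.Sum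
import Mathlib.Data.Fintype.Units
import Mathlib.Data.Fintype.Vector
import Mathlib.Data.Fintype.WithTopBot
import Mathlib.Data.FunLike.Basic
import Mathlib.Data.FunLike.Embedding
import Mathlib.Data.FunLike.Equiv
import Mathlib.Data.FunLike.Fintype
import Mathlib.Data.FunLike.Graded
import Mathlib.Data.FunLike.Group
import Mathlib.Data.FunLike.IsApply
import Mathlib.Data.FunLike.Module
import Mathlib.Data.FunLike.Ring
import Mathlib.Data.Holor
import Mathlib.Data.Ineq
import Mathlib.Data.Int.AbsoluteValue
import Mathlib.Data.Int.Associated
import Mathlib.Data.Int.Basic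
import Mathlib.Data.Int.Bitwise
import Mathlib.Data.Int.CardIntervalMod
import Mathlib.Data.Int.Cast.Basic
import Mathlib.Data.Int.Cast.Defs
import Mathlib.Data.Int.Cast.Field
import Mathlib.Data.Int.Cast.Lemmas
import Mathlib.Data.Int.Cast.Pi
import Mathlib.Data.Int.Cast.Prod
import Mathlib.Data.Int.CharZero
import Mathlib.Data.Int.ConditionallyCompleteOrder
import Mathlib.Data.Int.DivMod
import Mathlib.Data.Int.Fib.Basic
import Mathlib.Data.Int.Fib.Lemmas
import Mathlib.Data.Int.GCD
import Mathlib.Data.Int.Init
import Mathlib.Data.Int.Interval
import Mathlib.Data.Int.LeastGreatest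
import Mathlib.Data.Int.Lemmas
import Mathlib.Data.Int.Log
import Mathlib.Data.Int.ModEq
import Mathlib.Data.Int.NatAbs
import Mathlib.Data.Int.NatPrime
import Mathlib.Data.Int.Notation
import Mathlib.Data.Int.Order.Basic
import Mathlib.Data.Int.Order.Lemmas
import Mathlib.Data.Int.Order.Units
import Mathlib.Data.Int.Range
import Mathlib.Data.Int.Sqrt
import Mathlib.Data.Int.Star
import Mathlib.Data.Int.SuccPred
import Mathlib.Data.Int.WithZero
import Mathlib.Data.LawfulXor.Basic
import Mathlib.Data.LawfulXor.Equiv
import Mathlib.Data.List.AList
import Mathlib.Data.List.Basic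
import Mathlib.Data.List.Chain
import Mathlib.Data.List.ChainOfFn
import Mathlib.Data.List.Count
import Mathlib.Data.List.Cycle
import Mathlib.Data.List.Dedup
import Mathlib.Data.List.Defs
import Mathlib.Data.List.Destutter
import Mathlib.Data.List.DropRight
import Mathlib.Data.List.Duplicate
import Mathlib.Data.List.Enum
import Mathlib.Data.List.FinRange
import Mathlib.Data.List.Find
import Mathlib.Data.List.Flatten
import Mathlib.Data.List.Fold
import Mathlib.Data.List.Forall2
import Mathlib.Data.List.GetD
import Mathlib.Data.List.Indexes
import Mathlib.Data.List.Induction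
import Mathlib.Data.List.Infix
import Mathlib.Data.List.InsertIdx
import Mathlib.Data.List.Intervals
import Mathlib.Data.List.Iterate
import Mathlib.Data.List.Lattice
import Mathlib.Data.List.Lemmas
import Mathlib.Data.List.Lex
import Mathlib.Data.List.Lookmap
import Mathlib.Data.List.Map2
import Mathlib.Data.List.MinMax
import Mathlib.Data.List.ModifyLast
import Mathlib.Data.List.Monad
import Mathlib.Data.List.NatAntidiagonal
import Mathlib.Data.List.Nodup
import Mathlib.Data.List.NodupEquivFin
import Mathlib.Data.List.OfFn
import Mathlib.Data.List.OffDiag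
import Mathlib.Data.List.Pairwise
import Mathlib.Data.List.Palindrome
import Mathlib.Data.List.PeriodicityLemma
import Mathlib.Data.List.Perm.Basic
import Mathlib.Data.List.Perm.Lattice
import Mathlib.Data.List.Perm.Subperm
import Mathlib.Data.List.Permutation
import Mathlib.Data.List.Pi
import Mathlib.Data.List.Prime
import Mathlib.Data.List.ProdSigma
import Mathlib.Data.List.Range
import Mathlib.Data.List.ReduceOption
import Mathlib.Data.List.Rotate
import Mathlib.Data.List.Sections
import Mathlib.Data.List.Shortlex
import Mathlib.Data.List.Sigma
import Mathlib.Data.List.Sort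
import Mathlib.Data.List.SplitBy
import Mathlib.Data.List.SplitLengths
import Mathlib.Data.List.SplitOn
import Mathlib.Data.List.Sublists
import Mathlib.Data.List.Sym
import Mathlib.Data.List.TFAE
import Mathlib.Data.List.TakeDrop
import Mathlib.Data.List.TakeWhile
import Mathlib.Data.List.ToFinsupp
import Mathlib.Data.List.Triplewise
import Mathlib.Data.List.Zip
import Mathlib.Data.Matrix.Action
import Mathlib.Data.Matrix.Auto
import Mathlib.Data.Matrix.Basic
import Mathlib.Data.Matrix.Basis
import Mathlib.Data.Matrix.Bilinear
import Mathlib.Data.Matrix.Block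
import Mathlib.Data.Matrix.Cartan
import Mathlib.Data.Matrix.ColumnRowPartitioned
import Mathlib.Data.Matrix.Composition
import Mathlib.Data.Matrix.DMatrix
import Mathlib.Data.Matrix.Diagonal
import Mathlib.Data.Matrix.DualNumber
import Mathlib.Data.Matrix.Invertible
import Mathlib.Data.Matrix.Mul
import Mathlib.Data.Matrix.PEquiv
import Mathlib.Data.Matrix.Reflection
import Mathlib.Data.Multiset.AddSub
import Mathlib.Data.Multiset.Antidiagonal
import Mathlib.Data.Multiset.Basic
import Mathlib.Data.Multiset.Bind
import Mathlib.Data.Multiset.Count
import Mathlib.Data.Multiset.Dedup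
import Mathlib.Data.Multiset.Defs
import Mathlib.Data.Multiset.DershowitzManna
import Mathlib.Data.Multiset.Filter
import Mathlib.Data.Multiset.Find
import Mathlib.Data.Multiset.FinsetOps
import Mathlib.Data.Multiset.Fintype
import Mathlib.Data.Multiset.Fold
import Mathlib.Data.Multiset.Functor
import Mathlib.Data.Multiset.Interval
import Mathlib.Data.Multiset.Lattice
import Mathlib.Data.Multiset.MapFold
import Mathlib.Data.Multiset.NatAntidiagonal
import Mathlib.Data.Multiset.OrderedMonoid
import Mathlib.Data.Multiset.Pairwise
import Mathlib.Data.Multiset.Pi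
import Mathlib.Data.Multiset.Powerset
import Mathlib.Data.Multiset.Range
import Mathlib.Data.Multiset.Replicate
import Mathlib.Data.Multiset.Sections
import Mathlib.Data.Multiset.Sort
import Mathlib.Data.Multiset.Sum
import Mathlib.Data.Multiset.Sym
import Mathlib.Data.Multiset.UnionInter
import Mathlib.Data.Multiset.ZeroCons
import Mathlib.Data.NNRat.BigOperators
import Mathlib.Data.NNRat.Defs
import Mathlib.Data.NNRat.Encodable
import Mathlib.Data.NNRat.Floor
import Mathlib.Data.NNRat.Lemmas
import Mathlib.Data.NNRat.Order
import Mathlib.Data.NNReal.Basic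
import Mathlib.Data.NNReal.Defs
import Mathlib.Data.NNReal.Star
import Mathlib.Data.Nat.Basic
import Mathlib.Data.Nat.BinaryRec
import Mathlib.Data.Nat.BitIndices
import Mathlib.Data.Nat.Bits
import Mathlib.Data.Nat.Bitwise
import Mathlib.Data.Nat.Cast.Basic
import Mathlib.Data.Nat.Cast.Commute
import Mathlib.Data.Nat.Cast.Defs
import Mathlib.Data.Nat.Cast.Field
import Mathlib.Data.Nat.Cast.NeZero
import Mathlib.Data.Nat.Cast.Order.Basic
import Mathlib.Data.Nat.Cast.Order.Field
import Mathlib.Data.Nat.Cast.Order.Ring
import Mathlib.Data.Nat.Cast.Prod
import Mathlib.Data.Nat.Cast.SetInterval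
import Mathlib.Data.Nat.Cast.Synonym
import Mathlib.Data.Nat.Cast.WithTop
import Mathlib.Data.Nat.ChineseRemainder
import Mathlib.Data.Nat.Choose.Basic
import Mathlib.Data.Nat.Choose.Bounds
import Mathlib.Data.Nat.Choose.Cast
import Mathlib.Data.Nat.Choose.Central
import Mathlib.Data.Nat.Choose.Dvd
import Mathlib.Data.Nat.Choose.Factorization
import Mathlib.Data.Nat.Choose.Lucas
import Mathlib.Data.Nat.Choose.Multinomial
import Mathlib.Data.Nat.Choose.Sum
import Mathlib.Data.Nat.Choose.Vandermonde
import Mathlib.Data.Nat.Count
import Mathlib.Data.Nat.Digits.Defs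
import Mathlib.Data.Nat.Digits.Div
import Mathlib.Data.Nat.Digits.Lemmas
import Mathlib.Data.Nat.Dist
import Mathlib.Data.Nat.DvdSequence
import Mathlib.Data.Nat.EvenOddRec
import Mathlib.Data.Nat.Factorial.Basic
import Mathlib.Data.Nat.Factorial.BigOperators
import Mathlib.Data.Nat.Factorial.Cast
import Mathlib.Data.Nat.Factorial.DoubleFactorial
import Mathlib.Data.Nat.Factorial.NatCast
import Mathlib.Data.Nat.Factorial.SuperFactorial
import Mathlib.Data.Nat.Factorization.Basic
import Mathlib.Data.Nat.Factorization.Defs
import Mathlib.Data.Nat.Factorization.Divisors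
import Mathlib.Data.Nat.Factorization.Induction
import Mathlib.Data.Nat.Factorization.LCM
import Mathlib.Data.Nat.Factorization.PrimePow
import Mathlib.Data.Nat.Factorization.Root
import Mathlib.Data.Nat.Factors
import Mathlib.Data.Nat.Fib.Basic
import Mathlib.Data.Nat.Fib.Zeckendorf
import Mathlib.Data.Nat.Find
import Mathlib.Data.Nat.GCD.Basic
import Mathlib.Data.Nat.GCD.BigOperators
import Mathlib.Data.Nat.GCD.Prime
import Mathlib.Data.Nat.Hyperoperation
import Mathlib.Data.Nat.Init
import Mathlib.Data.Nat.Lattice
import Mathlib.Data.Nat.Log
import Mathlib.Data.Nat.MaxPowDiv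
import Mathlib.Data.Nat.ModEq
import Mathlib.Data.Nat.Multiplicity
import Mathlib.Data.Nat.Notation
import Mathlib.Data.Nat.Nth
import Mathlib.Data.Nat.NthRoot.Defs
import Mathlib.Data.Nat.Order.Lemmas
import Mathlib.Data.Nat.PSub
import Mathlib.Data.Nat.Pairing
import Mathlib.Data.Nat.Periodic
import Mathlib.Data.Nat.Prime.Basic
import Mathlib.Data.Nat.Prime.Defs
import Mathlib.Data.Nat.Prime.Factorial
import Mathlib.Data.Nat.Prime.Infinite
import Mathlib.Data.Nat.Prime.Int
import Mathlib.Data.Nat.Prime.Nth
import Mathlib.Data.Nat.Prime.Pow
import Mathlib.Data.Nat.PrimeFin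
import Mathlib.Data.Nat.Set
import Mathlib.Data.Nat.Size
import Mathlib.Data.Nat.Sqrt
import Mathlib.Data.Nat.Squarefree
import Mathlib.Data.Nat.SuccPred
import Mathlib.Data.Nat.Totient
import Mathlib.Data.Nat.Upto
import Mathlib.Data.Nat.WithBot
import Mathlib.Data.Num.Basic
import Mathlib.Data.Num.Bitwise
import Mathlib.Data.Num.Lemmas
import Mathlib.Data.Num.Prime
import Mathlib.Data.Num.ZNum
import Mathlib.Data.Opposite
import Mathlib.Data.Option.Basic
import Mathlib.Data.Option.Defs
import Mathlib.Data.Option.NAry
import Mathlib.Data.Ordering.Basic
import Mathlib.Data.Ordering.Lemmas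
import Mathlib.Data.Ordmap.Invariants
import Mathlib.Data.Ordmap.Ordnode
import Mathlib.Data.Ordmap.Ordset
import Mathlib.Data.PEquiv
import Mathlib.Data.PFun
import Mathlib.Data.PFunctor.Multivariate.Basic
import Mathlib.Data.PFunctor.Multivariate.M
import Mathlib.Data.PFunctor.Multivariate.W
import Mathlib.Data.PFunctor.Univariate.Basic
import Mathlib.Data.PFunctor.Univariate.M
import Mathlib.Data.PNat.Basic
import Mathlib.Data.PNat.Defs
import Mathlib.Data.PNat.Equiv
import Mathlib.Data.PNat.Factors
import Mathlib.Data.PNat.Find
import Mathlib.Data.PNat.Interval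
import Mathlib.Data.PNat.Notation
import Mathlib.Data.PNat.Order
import Mathlib.Data.PNat.Prime
import Mathlib.Data.PNat.Xgcd
import Mathlib.Data.PSigma.Order
import Mathlib.Data.Part
import Mathlib.Data.Pi.Interval
import Mathlib.Data.Prod.Basic
import Mathlib.Data.Prod.Lex
import Mathlib.Data.Prod.PProd
import Mathlib.Data.Prod.TProd
import Mathlib.Data.QPF.Multivariate.Basic
import Mathlib.Data.QPF.Multivariate.Constructions.Cofix
import Mathlib.Data.QPF.Multivariate.Constructions.Comp
import Mathlib.Data.QPF.Multivariate.Constructions.Const
import Mathlib.Data.QPF.Multivariate.Constructions.Fix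
import Mathlib.Data.QPF.Multivariate.Constructions.Prj
import Mathlib.Data.QPF.Multivariate.Constructions.Quot
import Mathlib.Data.QPF.Multivariate.Constructions.Sigma
import Mathlib.Data.QPF.Univariate.Basic
import Mathlib.Data.Quot
import Mathlib.Data.Rat.BigOperators
import Mathlib.Data.Rat.Cardinal
import Mathlib.Data.Rat.Cast.CharZero
import Mathlib.Data.Rat.Cast.Defs
import Mathlib.Data.Rat.Cast.Lemmas
import Mathlib.Data.Rat.Cast.OfScientific
import Mathlib.Data.Rat.Cast.Order
import Mathlib.Data.Rat.Defs
import Mathlib.Data.Rat.Denumerable
import Mathlib.Data.Rat.Encodable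
import Mathlib.Data.Rat.Floor
import Mathlib.Data.Rat.Init
import Mathlib.Data.Rat.Lemmas
import Mathlib.Data.Rat.NatSqrt.Defs
import Mathlib.Data.Rat.NatSqrt.Real
import Mathlib.Data.Rat.Sqrt
import Mathlib.Data.Rat.Star
import Mathlib.Data.Real.Archimedean
import Mathlib.Data.Real.Basic
import Mathlib.Data.Real.CompleteField
import Mathlib.Data.Real.ConjExponents
import Mathlib.Data.Real.ENatENNReal
import Mathlib.Data.Real.Embedding
import Mathlib.Data.Real.Hom
import Mathlib.Data.Real.Pointwise
import Mathlib.Data.Real.Sign
import Mathlib.Data.Real.Sqrt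
import Mathlib.Data.Real.Star
import Mathlib.Data.Real.StarOrdered
import Mathlib.Data.Rel
import Mathlib.Data.Rel.Cover
import Mathlib.Data.Rel.Separated
import Mathlib.Data.SProd
import Mathlib.Data.Semiquot
import Mathlib.Data.Seq.Basic
import Mathlib.Data.Seq.Computation
import Mathlib.Data.Seq.Defs
import Mathlib.Data.Seq.Parallel
import Mathlib.Data.Set.Accumulate
import Mathlib.Data.Set.Basic
import Mathlib.Data.Set.BoolIndicator
import Mathlib.Data.Set.BooleanAlgebra
import Mathlib.Data.Set.Card
import Mathlib.Data.Set.Card.Arithmetic
import Mathlib.Data.Set.CoeSort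
import Mathlib.Data.Set.Constructions
import Mathlib.Data.Set.Countable
import Mathlib.Data.Set.Defs
import Mathlib.Data.Set.Disjoint
import Mathlib.Data.Set.Dissipate
import Mathlib.Data.Set.Enumerate
import Mathlib.Data.Set.Equitable
import Mathlib.Data.Set.Finite.Basic
import Mathlib.Data.Set.Finite.Lattice
import Mathlib.Data.Set.Finite.Lemmas
import Mathlib.Data.Set.Finite.List
import Mathlib.Data.Set.Finite.Monad
import Mathlib.Data.Set.Finite.Powerset
import Mathlib.Data.Set.Finite.Range
import Mathlib.Data.Set.FiniteExhaustion
import Mathlib.Data.Set.Function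
import Mathlib.Data.Set.Functor
import Mathlib.Data.Set.Image
import Mathlib.Data.Set.Inclusion
import Mathlib.Data.Set.Insert
import Mathlib.Data.Set.Lattice
import Mathlib.Data.Set.Lattice.Image
import Mathlib.Data.Set.List
import Mathlib.Data.Set.MemPartition
import Mathlib.Data.Set.Monotone
import Mathlib.Data.Set.MulAntidiagonal
import Mathlib.Data.Set.NAry
import Mathlib.Data.Set.Notation
import Mathlib.Data.Set.Operations
import Mathlib.Data.Set.Opposite
import Mathlib.Data.Set.Order
import Mathlib.Data.Set.Pairwise.Basic
import Mathlib.Data.Set.Pairwise.Chain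
import Mathlib.Data.Set.Pairwise.Lattice
import Mathlib.Data.Set.Pairwise.List
import Mathlib.Data.Set.Piecewise
import Mathlib.Data.Set.Pointwise.Support
import Mathlib.Data.Set.PowersetCard
import Mathlib.Data.Set.Prod
import Mathlib.Data.Set.Restrict
import Mathlib.Data.Set.SMulAntidiagonal
import Mathlib.Data.Set.Semiring
import Mathlib.Data.Set.Sigma
import Mathlib.Data.Set.Subset
import Mathlib.Data.Set.Subsingleton
import Mathlib.Data.Set.Sups
import Mathlib.Data.Set.SymmDiff
import Mathlib.Data.Set.UnionLift
import Mathlib.Data.SetLike.Basic
import Mathlib.Data.SetLike.Fintype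
import Mathlib.Data.Setoid.Basic
import Mathlib.Data.Setoid.Partition
import Mathlib.Data.Setoid.Partition.Card
import Mathlib.Data.Sigma.Basic
import Mathlib.Data.Sigma.Interval
import Mathlib.Data.Sigma.Lex
import Mathlib.Data.Sigma.Order
import Mathlib.Data.Sign.Basic
import Mathlib.Data.Sign.Defs
import Mathlib.Data.Stream.Defs
import Mathlib.Data.Stream.Init
import Mathlib.Data.String.Basic
import Mathlib.Data.String.Defs
import Mathlib.Data.String.Lemmas
import Mathlib.Data.Subtype
import Mathlib.Data.SubtypeNeLift
import Mathlib.Data.Sum.Basic
import Mathlib.Data.Sum.Interval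
import Mathlib.Data.Sum.Lattice
import Mathlib.Data.Sum.Order
import Mathlib.Data.Sym.Basic
import Mathlib.Data.Sym.Card
import Mathlib.Data.Sym.NatCard
import Mathlib.Data.Sym.Sym2
import Mathlib.Data.Sym.Sym2.Finsupp
import Mathlib.Data.Sym.Sym2.Init
import Mathlib.Data.Sym.Sym2.Order
import Mathlib.Data.Tree.Basic
import Mathlib.Data.Tree.Get
import Mathlib.Data.Tree.RBMap
import Mathlib.Data.Tree.Traversable
import Mathlib.Data.TwoPointing
import Mathlib.Data.TypeVec
import Mathlib.Data.UInt
import Mathlib.Data.ULift
import Mathlib.Data.Vector.Basic
import Mathlib.Data.Vector.Defs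
import Mathlib.Data.Vector.MapLemmas
import Mathlib.Data.Vector.Mem
import Mathlib.Data.Vector.Snoc
import Mathlib.Data.Vector.Zip
import Mathlib.Data.Vector3
import Mathlib.Data.W.Basic
import Mathlib.Data.W.Cardinal
import Mathlib.Data.W.Constructions
import Mathlib.Data.WSeq.Basic
import Mathlib.Data.WSeq.Defs
import Mathlib.Data.WSeq.Productive
import Mathlib.Data.WSeq.Relation
import Mathlib.Data.ZMod.Aut
import Mathlib.Data.ZMod.Basic
import Mathlib.Data.ZMod.Coprime
import Mathlib.Data.ZMod.Defs
import Mathlib.Data.ZMod.Factorial
import Mathlib.Data.ZMod.IntUnitsPower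
import Mathlib.Data.ZMod.QuotientGroup
import Mathlib.Data.ZMod.QuotientRing
import Mathlib.Data.ZMod.Units
import Mathlib.Data.ZMod.ValMinAbs
import Mathlib.Deprecated.Aliases
import Mathlib.Dynamics.BirkhoffSum.Average
import Mathlib.Dynamics.BirkhoffSum.Basic
import Mathlib.Dynamics.BirkhoffSum.NormedSpace
import Mathlib.Dynamics.BirkhoffSum.QuasiMeasurePreserving
import Mathlib.Dynamics.Circle.RotationNumber.TranslationNumber
import Mathlib.Dynamics.Ergodic.Action.Basic
import Mathlib.Dynamics.Ergodic.Action.OfMinimal
import Mathlib.Dynamics.Ergodic.Action.Regular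
import Mathlib.Dynamics.Ergodic.AddCircle
import Mathlib.Dynamics.Ergodic.AddCircleAdd
import Mathlib.Dynamics.Ergodic.Conservative
import Mathlib.Dynamics.Ergodic.Ergodic
import Mathlib.Dynamics.Ergodic.Extreme
import Mathlib.Dynamics.Ergodic.Function
import Mathlib.Dynamics.Ergodic.MeasurePreserving
import Mathlib.Dynamics.Ergodic.RadonNikodym
import Mathlib.Dynamics.FixedPoints.Basic
import Mathlib.Dynamics.FixedPoints.Defs
import Mathlib.Dynamics.FixedPoints.Prufer
import Mathlib.Dynamics.FixedPoints.Support
import Mathlib.Dynamics.FixedPoints.Topology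
import Mathlib.Dynamics.Flow
import Mathlib.Dynamics.Minimal
import Mathlib.Dynamics.Newton
import Mathlib.Dynamics.OmegaLimit
import Mathlib.Dynamics.PeriodicPts.Defs
import Mathlib.Dynamics.PeriodicPts.Lemmas
import Mathlib.Dynamics.SymbolicDynamics.Basic
import Mathlib.Dynamics.TopologicalEntropy.CoverEntropy
import Mathlib.Dynamics.TopologicalEntropy.DynamicalEntourage
import Mathlib.Dynamics.TopologicalEntropy.NetEntropy
import Mathlib.Dynamics.TopologicalEntropy.Semiconj
import Mathlib.Dynamics.TopologicalEntropy.Subset
import Mathlib.Dynamics.Transitive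
import Mathlib.FieldTheory.AbelRuffini
import Mathlib.FieldTheory.AbsoluteGaloisGroup
import Mathlib.FieldTheory.AlgebraicClosure
import Mathlib.FieldTheory.AxGrothendieck
import Mathlib.FieldTheory.CardinalEmb
import Mathlib.FieldTheory.Cardinality
import Mathlib.FieldTheory.ChevalleyWarning
import Mathlib.FieldTheory.Differential.Basic
import Mathlib.FieldTheory.Differential.Liouville
import Mathlib.FieldTheory.Extension
import Mathlib.FieldTheory.FinTrdeg
import Mathlib.FieldTheory.Finite.Basic
import Mathlib.FieldTheory.Finite.Extension
import Mathlib.FieldTheory.Finite.GaloisField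
import Mathlib.FieldTheory.Finite.Polynomial
import Mathlib.FieldTheory.Finite.Trace
import Mathlib.FieldTheory.Finite.Valuation
import Mathlib.FieldTheory.Finiteness
import Mathlib.FieldTheory.Fixed
import Mathlib.FieldTheory.Galois.Abelian
import Mathlib.FieldTheory.Galois.Basic
import Mathlib.FieldTheory.Galois.GaloisClosure
import Mathlib.FieldTheory.Galois.Infinite
import Mathlib.FieldTheory.Galois.IsGaloisGroup
import Mathlib.FieldTheory.Galois.NormalBasis
import Mathlib.FieldTheory.Galois.Notation
import Mathlib.FieldTheory.Galois.Profinite
import Mathlib.FieldTheory.IntermediateField.Adjoin.Algebra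
import Mathlib.FieldTheory.IntermediateField.Adjoin.Basic
import Mathlib.FieldTheory.IntermediateField.Adjoin.Defs
import Mathlib.FieldTheory.IntermediateField.Algebraic
import Mathlib.FieldTheory.IntermediateField.Basic
import Mathlib.FieldTheory.IntermediateField.ExtendRight
import Mathlib.FieldTheory.IsAlgClosed.AlgebraicClosure
import Mathlib.FieldTheory.IsAlgClosed.Basic
import Mathlib.FieldTheory.IsAlgClosed.Classification
import Mathlib.FieldTheory.IsAlgClosed.Spectrum
import Mathlib.FieldTheory.IsPerfectClosure
import Mathlib.FieldTheory.IsRealClosed.Basic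
import Mathlib.FieldTheory.IsSepClosed
import Mathlib.FieldTheory.Isaacs
import Mathlib.FieldTheory.JacobsonNoether
import Mathlib.FieldTheory.KrullTopology
import Mathlib.FieldTheory.KummerExtension
import Mathlib.FieldTheory.KummerPolynomial
import Mathlib.FieldTheory.Laurent
import Mathlib.FieldTheory.LinearDisjoint
import Mathlib.FieldTheory.Minpoly.Basic
import Mathlib.FieldTheory.Minpoly.ConjRootClass
import Mathlib.FieldTheory.Minpoly.Field
import Mathlib.FieldTheory.Minpoly.Finite
import Mathlib.FieldTheory.Minpoly.IsConjRoot
import Mathlib.FieldTheory.Minpoly.IsIntegrallyClosed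
import Mathlib.FieldTheory.Minpoly.MinpolyDiv
import Mathlib.FieldTheory.MvRatFunc.Rank
import Mathlib.FieldTheory.Normal.Basic
import Mathlib.FieldTheory.Normal.Closure
import Mathlib.FieldTheory.Normal.Defs
import Mathlib.FieldTheory.NormalizedTrace
import Mathlib.FieldTheory.Perfect
import Mathlib.FieldTheory.PerfectClosure
import Mathlib.FieldTheory.PolynomialGaloisGroup
import Mathlib.FieldTheory.PrimeField
import Mathlib.FieldTheory.PrimitiveElement
import Mathlib.FieldTheory.PurelyInseparable.AdjoinPthRoots
import Mathlib.FieldTheory.PurelyInseparable.Basic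
import Mathlib.FieldTheory.PurelyInseparable.Exponent
import Mathlib.FieldTheory.PurelyInseparable.PerfectClosure
import Mathlib.FieldTheory.PurelyInseparable.Tower
import Mathlib.FieldTheory.RatFunc.AsPolynomial
import Mathlib.FieldTheory.RatFunc.Basic
import Mathlib.FieldTheory.RatFunc.Defs
import Mathlib.FieldTheory.RatFunc.Degree
import Mathlib.FieldTheory.RatFunc.IntermediateField
import Mathlib.FieldTheory.RatFunc.Luroth
import Mathlib.FieldTheory.RatFunc.Valuation
import Mathlib.FieldTheory.Relrank
import Mathlib.FieldTheory.Separable
import Mathlib.FieldTheory.SeparableClosure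
import Mathlib.FieldTheory.SeparableDegree
import Mathlib.FieldTheory.SeparablyGenerated
import Mathlib.FieldTheory.SplittingField.Construction
import Mathlib.FieldTheory.SplittingField.IsSplittingField
import Mathlib.FieldTheory.Tower
import Mathlib.Geometry.Convex.Cone.Basic
import Mathlib.Geometry.Convex.Cone.Dual
import Mathlib.Geometry.Convex.Cone.DualFinite
import Mathlib.Geometry.Convex.Cone.Face.Basic
import Mathlib.Geometry.Convex.Cone.Pointed
import Mathlib.Geometry.Convex.Cone.Simplicial
import Mathlib.Geometry.Convex.Cone.TensorProduct
import Mathlib.Geometry.Convex.ConvexSpace.AffineMap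
import Mathlib.Geometry.Convex.ConvexSpace.AffineSpace
import Mathlib.Geometry.Convex.ConvexSpace.Defs
import Mathlib.Geometry.Convex.ConvexSpace.Module
import Mathlib.Geometry.Convex.ConvexSpace.Prod
import Mathlib.Geometry.Convex.Hull
import Mathlib.Geometry.Convex.Set
import Mathlib.Geometry.Convex.Star
import Mathlib.Geometry.Diffeology.Basic
import Mathlib.Geometry.Euclidean.Altitude
import Mathlib.Geometry.Euclidean.Angle.Bisector
import Mathlib.Geometry.Euclidean.Angle.Incenter
import Mathlib.Geometry.Euclidean.Angle.Oriented.Affine
import Mathlib.Geometry.Euclidean.Angle.Oriented.Basic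
import Mathlib.Geometry.Euclidean.Angle.Oriented.Projection
import Mathlib.Geometry.Euclidean.Angle.Oriented.RightAngle
import Mathlib.Geometry.Euclidean.Angle.Oriented.Rotation
import Mathlib.Geometry.Euclidean.Angle.Sphere
import Mathlib.Geometry.Euclidean.Angle.Unoriented.Affine
import Mathlib.Geometry.Euclidean.Angle.Unoriented.Basic
import Mathlib.Geometry.Euclidean.Angle.Unoriented.Conformal
import Mathlib.Geometry.Euclidean.Angle.Unoriented.CrossProduct
import Mathlib.Geometry.Euclidean.Angle.Unoriented.Projection
import Mathlib.Geometry.Euclidean.Angle.Unoriented.RightAngle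
import Mathlib.Geometry.Euclidean.Angle.Unoriented.TriangleInequality
import Mathlib.Geometry.Euclidean.Basic
import Mathlib.Geometry.Euclidean.Circumcenter
import Mathlib.Geometry.Euclidean.Congruence
import Mathlib.Geometry.Euclidean.Incenter
import Mathlib.Geometry.Euclidean.Inversion.Basic
import Mathlib.Geometry.Euclidean.Inversion.Calculus
import Mathlib.Geometry.Euclidean.Inversion.ImageHyperplane
import Mathlib.Geometry.Euclidean.MongePoint
import Mathlib.Geometry.Euclidean.NinePointCircle
import Mathlib.Geometry.Euclidean.PerpBisector
import Mathlib.Geometry.Euclidean.Projection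
import Mathlib.Geometry.Euclidean.SignedDist
import Mathlib.Geometry.Euclidean.Similarity
import Mathlib.Geometry.Euclidean.Simplex
import Mathlib.Geometry.Euclidean.Sphere.Basic
import Mathlib.Geometry.Euclidean.Sphere.OrthRadius
import Mathlib.Geometry.Euclidean.Sphere.Power
import Mathlib.Geometry.Euclidean.Sphere.Ptolemy
import Mathlib.Geometry.Euclidean.Sphere.SecondInter
import Mathlib.Geometry.Euclidean.Sphere.Tangent
import Mathlib.Geometry.Euclidean.Triangle
import Mathlib.Geometry.Euclidean.Volume.Measure
import Mathlib.Geometry.Group.Growth.LinearLowerBound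
import Mathlib.Geometry.Group.Growth.QuotientInter
import Mathlib.Geometry.Manifold.Algebra.LeftInvariantDerivation
import Mathlib.Geometry.Manifold.Algebra.LieGroup
import Mathlib.Geometry.Manifold.Algebra.Monoid
import Mathlib.Geometry.Manifold.Algebra.SMul
import Mathlib.Geometry.Manifold.Algebra.SmoothFunctions
import Mathlib.Geometry.Manifold.Algebra.Structures
import Mathlib.Geometry.Manifold.Bordism
import Mathlib.Geometry.Manifold.BumpFunction
import Mathlib.Geometry.Manifold.ChartedSpace
import Mathlib.Geometry.Manifold.Complex
import Mathlib.Geometry.Manifold.ConformalGroupoid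
import Mathlib.Geometry.Manifold.ContMDiff.Atlas
import Mathlib.Geometry.Manifold.ContMDiff.Basic
import Mathlib.Geometry.Manifold.ContMDiff.Constructions
import Mathlib.Geometry.Manifold.ContMDiff.Defs
import Mathlib.Geometry.Manifold.ContMDiff.NormedSpace
import Mathlib.Geometry.Manifold.ContMDiffMFDeriv
import Mathlib.Geometry.Manifold.ContMDiffMap
import Mathlib.Geometry.Manifold.DerivationBundle
import Mathlib.Geometry.Manifold.Diffeomorph
import Mathlib.Geometry.Manifold.GroupLieAlgebra
import Mathlib.Geometry.Manifold.HasGroupoid
import Mathlib.Geometry.Manifold.Immersion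
import Mathlib.Geometry.Manifold.Instances.Icc
import Mathlib.Geometry.Manifold.Instances.Quotient
import Mathlib.Geometry.Manifold.Instances.Real
import Mathlib.Geometry.Manifold.Instances.Sphere
import Mathlib.Geometry.Manifold.Instances.UnitsOfNormedAlgebra
import Mathlib.Geometry.Manifold.IntegralCurve.Basic
import Mathlib.Geometry.Manifold.IntegralCurve.ExistUnique
import Mathlib.Geometry.Manifold.IntegralCurve.Transform
import Mathlib.Geometry.Manifold.IntegralCurve.UniformTime
import Mathlib.Geometry.Manifold.IsManifold.Basic
import Mathlib.Geometry.Manifold.IsManifold.ExtChartAt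
import Mathlib.Geometry.Manifold.IsManifold.InteriorBoundary
import Mathlib.Geometry.Manifold.LocalDiffeomorph
import Mathlib.Geometry.Manifold.LocalInvariantProperties
import Mathlib.Geometry.Manifold.LocalSourceTargetProperty
import Mathlib.Geometry.Manifold.MFDeriv.Atlas
import Mathlib.Geometry.Manifold.MFDeriv.Basic
import Mathlib.Geometry.Manifold.MFDeriv.Defs
import Mathlib.Geometry.Manifold.MFDeriv.FDeriv
import Mathlib.Geometry.Manifold.MFDeriv.NormedSpace
import Mathlib.Geometry.Manifold.MFDeriv.SpecificFunctions
import Mathlib.Geometry.Manifold.MFDeriv.Tangent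
import Mathlib.Geometry.Manifold.MFDeriv.UniqueDifferential
import Mathlib.Geometry.Manifold.Metrizable
import Mathlib.Geometry.Manifold.Notation
import Mathlib.Geometry.Manifold.PartitionOfUnity
import Mathlib.Geometry.Manifold.PoincareConjecture
import Mathlib.Geometry.Manifold.Riemannian.Basic
import Mathlib.Geometry.Manifold.Riemannian.PathELength
import Mathlib.Geometry.Manifold.Sheaf.Basic
import Mathlib.Geometry.Manifold.Sheaf.LocallyRingedSpace
import Mathlib.Geometry.Manifold.Sheaf.Smooth
import Mathlib.Geometry.Manifold.SmoothApprox
import Mathlib.Geometry.Manifold.SmoothEmbedding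
import Mathlib.Geometry.Manifold.StructureGroupoid
import Mathlib.Geometry.Manifold.Submersion
import Mathlib.Geometry.Manifold.VectorBundle.Basic
import Mathlib.Geometry.Manifold.VectorBundle.ContMDiffSection
import Mathlib.Geometry.Manifold.VectorBundle.CovariantDerivative.Basic
import Mathlib.Geometry.Manifold.VectorBundle.CovariantDerivative.Metric
import Mathlib.Geometry.Manifold.VectorBundle.CovariantDerivative.Torsion
import Mathlib.Geometry.Manifold.VectorBundle.FiberwiseLinear
import Mathlib.Geometry.Manifold.VectorBundle.Hom
import Mathlib.Geometry.Manifold.VectorBundle.LocalFrame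
import Mathlib.Geometry.Manifold.VectorBundle.MDifferentiable
import Mathlib.Geometry.Manifold.VectorBundle.Pullback
import Mathlib.Geometry.Manifold.VectorBundle.Riemannian
import Mathlib.Geometry.Manifold.VectorBundle.SmoothSection
import Mathlib.Geometry.Manifold.VectorBundle.Tangent
import Mathlib.Geometry.Manifold.VectorBundle.Tensoriality
import Mathlib.Geometry.Manifold.VectorField.LieBracket
import Mathlib.Geometry.Manifold.VectorField.Pullback
import Mathlib.Geometry.Manifold.WhitneyEmbedding
import Mathlib.Geometry.Polygon.Basic
import Mathlib.Geometry.RingedSpace.Basic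
import Mathlib.Geometry.RingedSpace.LocallyRingedSpace
import Mathlib.Geometry.RingedSpace.LocallyRingedSpace.HasColimits
import Mathlib.Geometry.RingedSpace.LocallyRingedSpace.ResidueField
import Mathlib.Geometry.RingedSpace.OpenImmersion
import Mathlib.Geometry.RingedSpace.PresheafedSpace
import Mathlib.Geometry.RingedSpace.PresheafedSpace.Gluing
import Mathlib.Geometry.RingedSpace.PresheafedSpace.HasColimits
import Mathlib.Geometry.RingedSpace.SheafedSpace
import Mathlib.Geometry.RingedSpace.Stalks
import Mathlib.GroupTheory.Abelianization.Defs
import Mathlib.GroupTheory.Abelianization.Finite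
import Mathlib.GroupTheory.Archimedean
import Mathlib.GroupTheory.ArchimedeanDensely
import Mathlib.GroupTheory.ClassEquation
import Mathlib.GroupTheory.Commensurable
import Mathlib.GroupTheory.Commutator.Basic
import Mathlib.GroupTheory.Commutator.Finite
import Mathlib.GroupTheory.CommutingProbability
import Mathlib.GroupTheory.Complement
import Mathlib.GroupTheory.Congruence.Basic
import Mathlib.GroupTheory.Congruence.BigOperators
import Mathlib.GroupTheory.Congruence.Defs
import Mathlib.GroupTheory.Congruence.Hom
import Mathlib.GroupTheory.Congruence.Opposite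
import Mathlib.GroupTheory.Congruence.Star
import Mathlib.GroupTheory.Coprod.Basic
import Mathlib.GroupTheory.CoprodI
import Mathlib.GroupTheory.Coset.Basic
import Mathlib.GroupTheory.Coset.Card
import Mathlib.GroupTheory.Coset.Defs
import Mathlib.GroupTheory.CosetCover
import Mathlib.GroupTheory.Coxeter.Basic
import Mathlib.GroupTheory.Coxeter.Inversion
import Mathlib.GroupTheory.Coxeter.Length
import Mathlib.GroupTheory.Coxeter.Matrix
import Mathlib.GroupTheory.DedekindFinite
import Mathlib.GroupTheory.Descent
import Mathlib.GroupTheory.Divisible
import Mathlib.GroupTheory.DivisibleHull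
import Mathlib.GroupTheory.DoubleCoset
import Mathlib.GroupTheory.EckmannHilton
import Mathlib.GroupTheory.Exponent
import Mathlib.GroupTheory.FiniteAbelian.Basic
import Mathlib.GroupTheory.FiniteAbelian.Duality
import Mathlib.GroupTheory.FiniteIndexNormalSubgroup
import Mathlib.GroupTheory.FinitelyPresentedGroup
import Mathlib.GroupTheory.Finiteness
import Mathlib.GroupTheory.FixedPointFree
import Mathlib.GroupTheory.Focal
import Mathlib.GroupTheory.Frattini
import Mathlib.GroupTheory.FreeAbelianGroup
import Mathlib.GroupTheory.FreeGroup.Basic
import Mathlib.GroupTheory.FreeGroup.CyclicallyReduced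
import Mathlib.GroupTheory.FreeGroup.GeneratorEquiv
import Mathlib.GroupTheory.FreeGroup.IsFreeGroup
import Mathlib.GroupTheory.FreeGroup.NielsenSchreier
import Mathlib.GroupTheory.FreeGroup.Orbit
import Mathlib.GroupTheory.FreeGroup.Reduce
import Mathlib.GroupTheory.Generators
import Mathlib.GroupTheory.Goursat
import Mathlib.GroupTheory.GroupAction.Basic
import Mathlib.GroupTheory.GroupAction.Blocks
import Mathlib.GroupTheory.GroupAction.CardCommute
import Mathlib.GroupTheory.GroupAction.ConjAct
import Mathlib.GroupTheory.GroupAction.Defs
import Mathlib.GroupTheory.GroupAction.DomAct.ActionHom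
import Mathlib.GroupTheory.GroupAction.DomAct.Basic
import Mathlib.GroupTheory.GroupAction.Embedding
import Mathlib.GroupTheory.GroupAction.FixedPoints
import Mathlib.GroupTheory.GroupAction.FixingSubgroup
import Mathlib.GroupTheory.GroupAction.Hom
import Mathlib.GroupTheory.GroupAction.IterateAct
import Mathlib.GroupTheory.GroupAction.Iwasawa
import Mathlib.GroupTheory.GroupAction.Jordan
import Mathlib.GroupTheory.GroupAction.MultiplePrimitivity
import Mathlib.GroupTheory.GroupAction.MultipleTransitivity
import Mathlib.GroupTheory.GroupAction.OfQuotient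
import Mathlib.GroupTheory.GroupAction.Period
import Mathlib.GroupTheory.GroupAction.Pointwise
import Mathlib.GroupTheory.GroupAction.Primitive
import Mathlib.GroupTheory.GroupAction.Quotient
import Mathlib.GroupTheory.GroupAction.Ring
import Mathlib.GroupTheory.GroupAction.SubMulAction
import Mathlib.GroupTheory.GroupAction.SubMulAction.Closure
import Mathlib.GroupTheory.GroupAction.SubMulAction.Combination
import Mathlib.GroupTheory.GroupAction.SubMulAction.OfFixingSubgroup
import Mathlib.GroupTheory.GroupAction.SubMulAction.OfStabilizer
import Mathlib.GroupTheory.GroupAction.SubMulAction.Pointwise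
import Mathlib.GroupTheory.GroupAction.Support
import Mathlib.GroupTheory.GroupAction.Transitive
import Mathlib.GroupTheory.GroupExtension.Basic
import Mathlib.GroupTheory.GroupExtension.Defs
import Mathlib.GroupTheory.HNNExtension
import Mathlib.GroupTheory.Index
import Mathlib.GroupTheory.IndexNSmul
import Mathlib.GroupTheory.IndexNormal
import Mathlib.GroupTheory.IsPerfect
import Mathlib.GroupTheory.IsSubnormal
import Mathlib.GroupTheory.MonoidLocalization.Away
import Mathlib.GroupTheory.MonoidLocalization.Basic
import Mathlib.GroupTheory.MonoidLocalization.Cardinality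
import Mathlib.GroupTheory.MonoidLocalization.DivPairs
import Mathlib.GroupTheory.MonoidLocalization.Divisibility
import Mathlib.GroupTheory.MonoidLocalization.Finite
import Mathlib.GroupTheory.MonoidLocalization.GrothendieckGroup
import Mathlib.GroupTheory.MonoidLocalization.Lemmas
import Mathlib.GroupTheory.MonoidLocalization.Maps
import Mathlib.GroupTheory.MonoidLocalization.MonoidWithZero
import Mathlib.GroupTheory.MonoidLocalization.Order
import Mathlib.GroupTheory.MonoidLocalization.UniqueFactorization
import Mathlib.GroupTheory.Nilpotent
import Mathlib.GroupTheory.NoncommCoprod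
import Mathlib.GroupTheory.NoncommPiCoprod
import Mathlib.GroupTheory.Order.Min
import Mathlib.GroupTheory.OrderOfElement
import Mathlib.GroupTheory.OreLocalization.Basic
import Mathlib.GroupTheory.OreLocalization.Cardinality
import Mathlib.GroupTheory.OreLocalization.OreSet
import Mathlib.GroupTheory.PGroup
import Mathlib.GroupTheory.Perm.Basic
import Mathlib.GroupTheory.Perm.Centralizer
import Mathlib.GroupTheory.Perm.Closure
import Mathlib.GroupTheory.Perm.ClosureSwap
import Mathlib.GroupTheory.Perm.ConjAct
import Mathlib.GroupTheory.Perm.Cycle.Basic
import Mathlib.GroupTheory.Perm.Cycle.Concrete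
import Mathlib.GroupTheory.Perm.Cycle.Factors
import Mathlib.GroupTheory.Perm.Cycle.PossibleTypes
import Mathlib.GroupTheory.Perm.Cycle.Type
import Mathlib.GroupTheory.Perm.DomMulAct
import Mathlib.GroupTheory.Perm.Fin
import Mathlib.GroupTheory.Perm.Finite
import Mathlib.GroupTheory.Perm.List
import Mathlib.GroupTheory.Perm.MaximalSubgroups
import Mathlib.GroupTheory.Perm.Option
import Mathlib.GroupTheory.Perm.Sign
import Mathlib.GroupTheory.Perm.Subgroup
import Mathlib.GroupTheory.Perm.Support
import Mathlib.GroupTheory.Perm.ViaEmbedding
import Mathlib.GroupTheory.PresentedGroup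
import Mathlib.GroupTheory.PushoutI
import Mathlib.GroupTheory.QuotientGroup.Basic
import Mathlib.GroupTheory.QuotientGroup.Defs
import Mathlib.GroupTheory.QuotientGroup.Finite
import Mathlib.GroupTheory.QuotientGroup.ModEq
import Mathlib.GroupTheory.Rank
import Mathlib.GroupTheory.RegularWreathProduct
import Mathlib.GroupTheory.ResiduallyFinite
import Mathlib.GroupTheory.Schreier
import Mathlib.GroupTheory.SchurZassenhaus
import Mathlib.GroupTheory.SemidirectProduct
import Mathlib.GroupTheory.Solvable
import Mathlib.GroupTheory.SpecificGroups.Alternating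
import Mathlib.GroupTheory.SpecificGroups.Alternating.Centralizer
import Mathlib.GroupTheory.SpecificGroups.Alternating.KleinFour
import Mathlib.GroupTheory.SpecificGroups.Alternating.MaximalSubgroups
import Mathlib.GroupTheory.SpecificGroups.Alternating.Simple
import Mathlib.GroupTheory.SpecificGroups.Cyclic
import Mathlib.GroupTheory.SpecificGroups.Cyclic.Basic
import Mathlib.GroupTheory.SpecificGroups.Dihedral
import Mathlib.GroupTheory.SpecificGroups.KleinFour
import Mathlib.GroupTheory.SpecificGroups.Quaternion
import Mathlib.GroupTheory.SpecificGroups.ZGroup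
import Mathlib.GroupTheory.Subgroup.Center
import Mathlib.GroupTheory.Subgroup.Centralizer
import Mathlib.GroupTheory.Subgroup.Saturated
import Mathlib.GroupTheory.Subgroup.Simple
import Mathlib.GroupTheory.Submonoid.Center
import Mathlib.GroupTheory.Submonoid.Centralizer
import Mathlib.GroupTheory.Submonoid.Inverses
import Mathlib.GroupTheory.Subsemigroup.Center
import Mathlib.GroupTheory.Subsemigroup.Centralizer
import Mathlib.GroupTheory.Subsemigroup.Lemmas
import Mathlib.GroupTheory.Sylow
import Mathlib.GroupTheory.Torsion
import Mathlib.GroupTheory.Transfer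
import Mathlib.InformationTheory.Coding.KraftMcMillan
import Mathlib.InformationTheory.Coding.UniquelyDecodable
import Mathlib.InformationTheory.Hamming
import Mathlib.InformationTheory.KullbackLeibler.Basic
import Mathlib.InformationTheory.KullbackLeibler.ChainRule
import Mathlib.InformationTheory.KullbackLeibler.DataProcessing
import Mathlib.InformationTheory.KullbackLeibler.KLFun
import Mathlib.Init
import Mathlib.Lean.ContextInfo
import Mathlib.Lean.CoreM
import Mathlib.Lean.Elab.InfoTree
import Mathlib.Lean.Elab.Tactic.Basic
import Mathlib.Lean.Elab.Tactic.Meta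
import Mathlib.Lean.Elab.Term
import Mathlib.Lean.EnvExtension
import Mathlib.Lean.Environment
import Mathlib.Lean.Exception
import Mathlib.Lean.Expr
import Mathlib.Lean.Expr.Basic
import Mathlib.Lean.Expr.ExtraRecognizers
import Mathlib.Lean.Expr.Rat
import Mathlib.Lean.Expr.ReplaceRec
import Mathlib.Lean.FoldEnvironment
import Mathlib.Lean.GoalsLocation
import Mathlib.Lean.Json
import Mathlib.Lean.Linter
import Mathlib.Lean.LocalContext
import Mathlib.Lean.MessageData.ForExprs
import Mathlib.Lean.MessageData.Trace
import Mathlib.Lean.Meta
import Mathlib.Lean.Meta.Basic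
import Mathlib.Lean.Meta.CongrTheorems
import Mathlib.Lean.Meta.DiscrTree
import Mathlib.Lean.Meta.KAbstractPositions
import Mathlib.Lean.Meta.RefinedDiscrTree
import Mathlib.Lean.Meta.RefinedDiscrTree.Basic
import Mathlib.Lean.Meta.RefinedDiscrTree.Encode
import Mathlib.Lean.Meta.RefinedDiscrTree.Initialize
import Mathlib.Lean.Meta.RefinedDiscrTree.Lookup
import Mathlib.Lean.Meta.Simp
import Mathlib.Lean.Meta.Tactic.Rewrite
import Mathlib.Lean.Name
import Mathlib.Lean.PrettyPrinter.Delaborator
import Mathlib.Lean.Thunk
import Mathlib.LinearAlgebra.AffineSpace.AffineEquiv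
import Mathlib.LinearAlgebra.AffineSpace.AffineMap
import Mathlib.LinearAlgebra.AffineSpace.AffineSubspace.Basic
import Mathlib.LinearAlgebra.AffineSpace.AffineSubspace.Defs
import Mathlib.LinearAlgebra.AffineSpace.AffineSubspace.Shift
import Mathlib.LinearAlgebra.AffineSpace.Basis
import Mathlib.LinearAlgebra.AffineSpace.Centroid
import Mathlib.LinearAlgebra.AffineSpace.Ceva
import Mathlib.LinearAlgebra.AffineSpace.Combination
import Mathlib.LinearAlgebra.AffineSpace.Defs
import Mathlib.LinearAlgebra.AffineSpace.FiniteDimensional
import Mathlib.LinearAlgebra.AffineSpace.Independent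
import Mathlib.LinearAlgebra.AffineSpace.Matrix
import Mathlib.LinearAlgebra.AffineSpace.Midpoint
import Mathlib.LinearAlgebra.AffineSpace.MidpointZero
import Mathlib.LinearAlgebra.AffineSpace.Ordered
import Mathlib.LinearAlgebra.AffineSpace.Pointwise
import Mathlib.LinearAlgebra.AffineSpace.Restrict
import Mathlib.LinearAlgebra.AffineSpace.Simplex.Basic
import Mathlib.LinearAlgebra.AffineSpace.Simplex.Centroid
import Mathlib.LinearAlgebra.AffineSpace.Slope
import Mathlib.LinearAlgebra.Alternating.Basic
import Mathlib.LinearAlgebra.Alternating.Curry
import Mathlib.LinearAlgebra.Alternating.DomCoprod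
import Mathlib.LinearAlgebra.Alternating.Uncurry.Fin
import Mathlib.LinearAlgebra.AnnihilatingPolynomial
import Mathlib.LinearAlgebra.Basis.Basic
import Mathlib.LinearAlgebra.Basis.Bilinear
import Mathlib.LinearAlgebra.Basis.Cardinality
import Mathlib.LinearAlgebra.Basis.Defs
import Mathlib.LinearAlgebra.Basis.Exact
import Mathlib.LinearAlgebra.Basis.Fin
import Mathlib.LinearAlgebra.Basis.Flag
import Mathlib.LinearAlgebra.Basis.MulOpposite
import Mathlib.LinearAlgebra.Basis.Prod
import Mathlib.LinearAlgebra.Basis.SMul
import Mathlib.LinearAlgebra.Basis.Submodule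
import Mathlib.LinearAlgebra.Basis.VectorSpace
import Mathlib.LinearAlgebra.BilinearForm.Basic
import Mathlib.LinearAlgebra.BilinearForm.DualLattice
import Mathlib.LinearAlgebra.BilinearForm.Hom
import Mathlib.LinearAlgebra.BilinearForm.Isometry
import Mathlib.LinearAlgebra.BilinearForm.IsometryEquiv
import Mathlib.LinearAlgebra.BilinearForm.Orthogonal
import Mathlib.LinearAlgebra.BilinearForm.Properties
import Mathlib.LinearAlgebra.BilinearForm.TensorProduct
import Mathlib.LinearAlgebra.BilinearMap
import Mathlib.LinearAlgebra.Center
import Mathlib.LinearAlgebra.Charpoly.BaseChange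
import Mathlib.LinearAlgebra.Charpoly.Basic
import Mathlib.LinearAlgebra.Charpoly.ToMatrix
import Mathlib.LinearAlgebra.CliffordAlgebra.BaseChange
import Mathlib.LinearAlgebra.CliffordAlgebra.Basic
import Mathlib.LinearAlgebra.CliffordAlgebra.CategoryTheory
import Mathlib.LinearAlgebra.CliffordAlgebra.Conjugation
import Mathlib.LinearAlgebra.CliffordAlgebra.Contraction
import Mathlib.LinearAlgebra.CliffordAlgebra.Equivs
import Mathlib.LinearAlgebra.CliffordAlgebra.Even
import Mathlib.LinearAlgebra.CliffordAlgebra.EvenEquiv
import Mathlib.LinearAlgebra.CliffordAlgebra.Fold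
import Mathlib.LinearAlgebra.CliffordAlgebra.Grading
import Mathlib.LinearAlgebra.CliffordAlgebra.Inversion
import Mathlib.LinearAlgebra.CliffordAlgebra.Prod
import Mathlib.LinearAlgebra.CliffordAlgebra.SpinGroup
import Mathlib.LinearAlgebra.CliffordAlgebra.Star
import Mathlib.LinearAlgebra.Coevaluation
import Mathlib.LinearAlgebra.Complex.Determinant
import Mathlib.LinearAlgebra.Complex.FiniteDimensional
import Mathlib.LinearAlgebra.Complex.Module
import Mathlib.LinearAlgebra.Complex.Orientation
import Mathlib.LinearAlgebra.Contraction
import Mathlib.LinearAlgebra.ConvexSpace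
import Mathlib.LinearAlgebra.ConvexSpace.AffineSpace
import Mathlib.LinearAlgebra.Countable
import Mathlib.LinearAlgebra.CrossProduct
import Mathlib.LinearAlgebra.DFinsupp
import Mathlib.LinearAlgebra.Determinant
import Mathlib.LinearAlgebra.Dimension.Basic
import Mathlib.LinearAlgebra.Dimension.Constructions
import Mathlib.LinearAlgebra.Dimension.DivisionRing
import Mathlib.LinearAlgebra.Dimension.ErdosKaplansky
import Mathlib.LinearAlgebra.Dimension.Finite
import Mathlib.LinearAlgebra.Dimension.Finrank
import Mathlib.LinearAlgebra.Dimension.Free
import Mathlib.LinearAlgebra.Dimension.FreeAndStrongRankCondition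
import Mathlib.LinearAlgebra.Dimension.LinearMap
import Mathlib.LinearAlgebra.Dimension.Localization
import Mathlib.LinearAlgebra.Dimension.OrzechProperty
import Mathlib.LinearAlgebra.Dimension.RankNullity
import Mathlib.LinearAlgebra.Dimension.StrongRankCondition
import Mathlib.LinearAlgebra.Dimension.Subsingleton
import Mathlib.LinearAlgebra.Dimension.Torsion.Basic
import Mathlib.LinearAlgebra.Dimension.Torsion.Finite
import Mathlib.LinearAlgebra.DirectSum.Basis
import Mathlib.LinearAlgebra.DirectSum.Finite
import Mathlib.LinearAlgebra.DirectSum.Finsupp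
import Mathlib.LinearAlgebra.DirectSum.TensorProduct
import Mathlib.LinearAlgebra.Dual.BaseChange
import Mathlib.LinearAlgebra.Dual.Basis
import Mathlib.LinearAlgebra.Dual.Defs
import Mathlib.LinearAlgebra.Dual.Lemmas
import Mathlib.LinearAlgebra.Eigenspace.Basic
import Mathlib.LinearAlgebra.Eigenspace.Charpoly
import Mathlib.LinearAlgebra.Eigenspace.ContinuousLinearMap
import Mathlib.LinearAlgebra.Eigenspace.Matrix
import Mathlib.LinearAlgebra.Eigenspace.Minpoly
import Mathlib.LinearAlgebra.Eigenspace.Pi
import Mathlib.LinearAlgebra.Eigenspace.Semisimple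
import Mathlib.LinearAlgebra.Eigenspace.Triangularizable
import Mathlib.LinearAlgebra.Eigenspace.Zero
import Mathlib.LinearAlgebra.ExteriorAlgebra.Basic
import Mathlib.LinearAlgebra.ExteriorAlgebra.Basis
import Mathlib.LinearAlgebra.ExteriorAlgebra.Grading
import Mathlib.LinearAlgebra.ExteriorAlgebra.OfAlternating
import Mathlib.LinearAlgebra.ExteriorPower.Basic
import Mathlib.LinearAlgebra.ExteriorPower.Basis
import Mathlib.LinearAlgebra.ExteriorPower.Pairing
import Mathlib.LinearAlgebra.FiniteDimensional.Basic
import Mathlib.LinearAlgebra.FiniteDimensional.Defs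
import Mathlib.LinearAlgebra.FiniteDimensional.Lemmas
import Mathlib.LinearAlgebra.FiniteSpan
import Mathlib.LinearAlgebra.Finsupp.Defs
import Mathlib.LinearAlgebra.Finsupp.LSum
import Mathlib.LinearAlgebra.Finsupp.LinearCombination
import Mathlib.LinearAlgebra.Finsupp.Pi
import Mathlib.LinearAlgebra.Finsupp.Span
import Mathlib.LinearAlgebra.Finsupp.SumProd
import Mathlib.LinearAlgebra.Finsupp.Supported
import Mathlib.LinearAlgebra.Finsupp.VectorSpace
import Mathlib.LinearAlgebra.FixedSubmodule
import Mathlib.LinearAlgebra.FreeAlgebra
import Mathlib.LinearAlgebra.FreeModule.Basic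
import Mathlib.LinearAlgebra.FreeModule.Determinant
import Mathlib.LinearAlgebra.FreeModule.Finite.Basic
import Mathlib.LinearAlgebra.FreeModule.Finite.CardQuotient
import Mathlib.LinearAlgebra.FreeModule.Finite.Matrix
import Mathlib.LinearAlgebra.FreeModule.Finite.Quotient
import Mathlib.LinearAlgebra.FreeModule.IdealQuotient
import Mathlib.LinearAlgebra.FreeModule.Int
import Mathlib.LinearAlgebra.FreeModule.ModN
import Mathlib.LinearAlgebra.FreeModule.Norm
import Mathlib.LinearAlgebra.FreeModule.PID
import Mathlib.LinearAlgebra.FreeModule.StrongRankCondition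
import Mathlib.LinearAlgebra.FreeProduct.Basic
import Mathlib.LinearAlgebra.GeneralLinearGroup.AlgEquiv
import Mathlib.LinearAlgebra.GeneralLinearGroup.Basic
import Mathlib.LinearAlgebra.Goursat
import Mathlib.LinearAlgebra.InvariantBasisNumber
import Mathlib.LinearAlgebra.Isomorphisms
import Mathlib.LinearAlgebra.JordanChevalley
import Mathlib.LinearAlgebra.Lagrange
import Mathlib.LinearAlgebra.LeftExact
import Mathlib.LinearAlgebra.LinearDisjoint
import Mathlib.LinearAlgebra.LinearIndependent.Algebra
import Mathlib.LinearAlgebra.LinearIndependent.BaseChange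
import Mathlib.LinearAlgebra.LinearIndependent.Basic
import Mathlib.LinearAlgebra.LinearIndependent.Defs
import Mathlib.LinearAlgebra.LinearIndependent.Lemmas
import Mathlib.LinearAlgebra.LinearPMap
import Mathlib.LinearAlgebra.Matrix.AbsoluteValue
import Mathlib.LinearAlgebra.Matrix.Action
import Mathlib.LinearAlgebra.Matrix.Adjugate
import Mathlib.LinearAlgebra.Matrix.BaseChange
import Mathlib.LinearAlgebra.Matrix.Basis
import Mathlib.LinearAlgebra.Matrix.Bilinear
import Mathlib.LinearAlgebra.Matrix.BilinearForm
import Mathlib.LinearAlgebra.Matrix.Block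
import Mathlib.LinearAlgebra.Matrix.Cartan
import Mathlib.LinearAlgebra.Matrix.CharP
import Mathlib.LinearAlgebra.Matrix.Charpoly.Basic
import Mathlib.LinearAlgebra.Matrix.Charpoly.Coeff
import Mathlib.LinearAlgebra.Matrix.Charpoly.Disc
import Mathlib.LinearAlgebra.Matrix.Charpoly.Eigs
import Mathlib.LinearAlgebra.Matrix.Charpoly.FiniteField
import Mathlib.LinearAlgebra.Matrix.Charpoly.LinearMap
import Mathlib.LinearAlgebra.Matrix.Charpoly.Minpoly
import Mathlib.LinearAlgebra.Matrix.Charpoly.Univ
import Mathlib.LinearAlgebra.Matrix.Circulant
import Mathlib.LinearAlgebra.Matrix.ConjTranspose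
import Mathlib.LinearAlgebra.Matrix.Defs
import Mathlib.LinearAlgebra.Matrix.Determinant.Basic
import Mathlib.LinearAlgebra.Matrix.Determinant.Bird.Correctness
import Mathlib.LinearAlgebra.Matrix.Determinant.Bird.Defs
import Mathlib.LinearAlgebra.Matrix.Determinant.Misc
import Mathlib.LinearAlgebra.Matrix.Determinant.TotallyUnimodular
import Mathlib.LinearAlgebra.Matrix.Diagonal
import Mathlib.LinearAlgebra.Matrix.DotProduct
import Mathlib.LinearAlgebra.Matrix.Dual
import Mathlib.LinearAlgebra.Matrix.DualNumber
import Mathlib.LinearAlgebra.Matrix.Echelon.Basic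
import Mathlib.LinearAlgebra.Matrix.Echelon.Decomposition
import Mathlib.LinearAlgebra.Matrix.Echelon.Pivot
import Mathlib.LinearAlgebra.Matrix.FiniteDimensional
import Mathlib.LinearAlgebra.Matrix.FixedDetMatrices
import Mathlib.LinearAlgebra.Matrix.GeneralLinearGroup.Basic
import Mathlib.LinearAlgebra.Matrix.GeneralLinearGroup.Card
import Mathlib.LinearAlgebra.Matrix.GeneralLinearGroup.Defs
import Mathlib.LinearAlgebra.Matrix.GeneralLinearGroup.FinTwo
import Mathlib.LinearAlgebra.Matrix.GeneralLinearGroup.MvPolynomial
import Mathlib.LinearAlgebra.Matrix.GeneralLinearGroup.Projective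
import Mathlib.LinearAlgebra.Matrix.Gershgorin
import Mathlib.LinearAlgebra.Matrix.Hadamard
import Mathlib.LinearAlgebra.Matrix.HadamardMatrix
import Mathlib.LinearAlgebra.Matrix.Hermitian
import Mathlib.LinearAlgebra.Matrix.Ideal
import Mathlib.LinearAlgebra.Matrix.Integer
import Mathlib.LinearAlgebra.Matrix.InvariantBasisNumber
import Mathlib.LinearAlgebra.Matrix.Invertible
import Mathlib.LinearAlgebra.Matrix.Irreducible.Defs
import Mathlib.LinearAlgebra.Matrix.IsDiag
import Mathlib.LinearAlgebra.Matrix.Kronecker
import Mathlib.LinearAlgebra.Matrix.Module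
import Mathlib.LinearAlgebra.Matrix.MvPolynomial
import Mathlib.LinearAlgebra.Matrix.Nondegenerate
import Mathlib.LinearAlgebra.Matrix.Nonsingular
import Mathlib.LinearAlgebra.Matrix.NonsingularInverse
import Mathlib.LinearAlgebra.Matrix.Notation
import Mathlib.LinearAlgebra.Matrix.Orthogonal
import Mathlib.LinearAlgebra.Matrix.Permanent
import Mathlib.LinearAlgebra.Matrix.Permutation
import Mathlib.LinearAlgebra.Matrix.Polynomial
import Mathlib.LinearAlgebra.Matrix.PosDef
import Mathlib.LinearAlgebra.Matrix.ProjectiveSpecialLinearGroup
import Mathlib.LinearAlgebra.Matrix.Rank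
import Mathlib.LinearAlgebra.Matrix.Reindex
import Mathlib.LinearAlgebra.Matrix.RowCol
import Mathlib.LinearAlgebra.Matrix.SchurComplement
import Mathlib.LinearAlgebra.Matrix.SemiringInverse
import Mathlib.LinearAlgebra.Matrix.SesquilinearForm
import Mathlib.LinearAlgebra.Matrix.SpecialLinearGroup
import Mathlib.LinearAlgebra.Matrix.StdBasis
import Mathlib.LinearAlgebra.Matrix.Stochastic
import Mathlib.LinearAlgebra.Matrix.Swap
import Mathlib.LinearAlgebra.Matrix.Symmetric
import Mathlib.LinearAlgebra.Matrix.ToLin
import Mathlib.LinearAlgebra.Matrix.ToLinearEquiv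
import Mathlib.LinearAlgebra.Matrix.Trace
import Mathlib.LinearAlgebra.Matrix.Transvection
import Mathlib.LinearAlgebra.Matrix.Unique
import Mathlib.LinearAlgebra.Matrix.Vec
import Mathlib.LinearAlgebra.Matrix.WithConv
import Mathlib.LinearAlgebra.Matrix.ZMatrix
import Mathlib.LinearAlgebra.Matrix.ZPow
import Mathlib.LinearAlgebra.Multilinear.Basic
import Mathlib.LinearAlgebra.Multilinear.Basis
import Mathlib.LinearAlgebra.Multilinear.Curry
import Mathlib.LinearAlgebra.Multilinear.DFinsupp
import Mathlib.LinearAlgebra.Multilinear.DirectSum
import Mathlib.LinearAlgebra.Multilinear.FiniteDimensional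
import Mathlib.LinearAlgebra.Multilinear.Finsupp
import Mathlib.LinearAlgebra.Multilinear.Pi
import Mathlib.LinearAlgebra.Multilinear.TensorProduct
import Mathlib.LinearAlgebra.Orientation
import Mathlib.LinearAlgebra.PID
import Mathlib.LinearAlgebra.PerfectPairing.Basic
import Mathlib.LinearAlgebra.PerfectPairing.Restrict
import Mathlib.LinearAlgebra.Pi
import Mathlib.LinearAlgebra.PiTensorProduct
import Mathlib.LinearAlgebra.PiTensorProduct.Basic
import Mathlib.LinearAlgebra.PiTensorProduct.Basis
import Mathlib.LinearAlgebra.PiTensorProduct.DFinsupp
import Mathlib.LinearAlgebra.PiTensorProduct.DirectSum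
import Mathlib.LinearAlgebra.PiTensorProduct.Dual
import Mathlib.LinearAlgebra.PiTensorProduct.Finite
import Mathlib.LinearAlgebra.PiTensorProduct.Finsupp
import Mathlib.LinearAlgebra.PiTensorProduct.Generators
import Mathlib.LinearAlgebra.Prod
import Mathlib.LinearAlgebra.Projection
import Mathlib.LinearAlgebra.Projectivization.Action
import Mathlib.LinearAlgebra.Projectivization.Basic
import Mathlib.LinearAlgebra.Projectivization.Cardinality
import Mathlib.LinearAlgebra.Projectivization.Collinear
import Mathlib.LinearAlgebra.Projectivization.Constructions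
import Mathlib.LinearAlgebra.Projectivization.Independence
import Mathlib.LinearAlgebra.Projectivization.PSL.PSL2
import Mathlib.LinearAlgebra.Projectivization.PSL.Stabilizer
import Mathlib.LinearAlgebra.Projectivization.Subspace
import Mathlib.LinearAlgebra.QuadraticForm.AlgClosed
import Mathlib.LinearAlgebra.QuadraticForm.Basic
import Mathlib.LinearAlgebra.QuadraticForm.Basis
import Mathlib.LinearAlgebra.QuadraticForm.Complex
import Mathlib.LinearAlgebra.QuadraticForm.Dual
import Mathlib.LinearAlgebra.QuadraticForm.Isometry
import Mathlib.LinearAlgebra.QuadraticForm.IsometryEquiv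
import Mathlib.LinearAlgebra.QuadraticForm.Prod
import Mathlib.LinearAlgebra.QuadraticForm.QuadraticModuleCat
import Mathlib.LinearAlgebra.QuadraticForm.QuadraticModuleCat.Monoidal
import Mathlib.LinearAlgebra.QuadraticForm.QuadraticModuleCat.Symmetric
import Mathlib.LinearAlgebra.QuadraticForm.Radical
import Mathlib.LinearAlgebra.QuadraticForm.Real
import Mathlib.LinearAlgebra.QuadraticForm.Signature
import Mathlib.LinearAlgebra.QuadraticForm.TensorProduct
import Mathlib.LinearAlgebra.QuadraticForm.TensorProduct.Isometries
import Mathlib.LinearAlgebra.Quotient.Basic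
import Mathlib.LinearAlgebra.Quotient.Bilinear
import Mathlib.LinearAlgebra.Quotient.Card
import Mathlib.LinearAlgebra.Quotient.Defs
import Mathlib.LinearAlgebra.Quotient.Pi
import Mathlib.LinearAlgebra.Ray
import Mathlib.LinearAlgebra.Reflection
import Mathlib.LinearAlgebra.RootSystem.Base
import Mathlib.LinearAlgebra.RootSystem.BaseChange
import Mathlib.LinearAlgebra.RootSystem.BaseExists
import Mathlib.LinearAlgebra.RootSystem.Basic
import Mathlib.LinearAlgebra.RootSystem.CartanMatrix
import Mathlib.LinearAlgebra.RootSystem.Chain
import Mathlib.LinearAlgebra.RootSystem.Defs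
import Mathlib.LinearAlgebra.RootSystem.Finite.CanonicalBilinear
import Mathlib.LinearAlgebra.RootSystem.Finite.G2
import Mathlib.LinearAlgebra.RootSystem.Finite.Lemmas
import Mathlib.LinearAlgebra.RootSystem.Finite.Nondegenerate
import Mathlib.LinearAlgebra.RootSystem.GeckConstruction.Basic
import Mathlib.LinearAlgebra.RootSystem.GeckConstruction.Basis
import Mathlib.LinearAlgebra.RootSystem.GeckConstruction.Lemmas
import Mathlib.LinearAlgebra.RootSystem.GeckConstruction.Relations
import Mathlib.LinearAlgebra.RootSystem.GeckConstruction.Semisimple
import Mathlib.LinearAlgebra.RootSystem.Hom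
import Mathlib.LinearAlgebra.RootSystem.Irreducible
import Mathlib.LinearAlgebra.RootSystem.IsValuedIn
import Mathlib.LinearAlgebra.RootSystem.OfBilinear
import Mathlib.LinearAlgebra.RootSystem.Reduced
import Mathlib.LinearAlgebra.RootSystem.RootPairingCat
import Mathlib.LinearAlgebra.RootSystem.RootPositive
import Mathlib.LinearAlgebra.RootSystem.WeylGroup
import Mathlib.LinearAlgebra.SModEq.Basic
import Mathlib.LinearAlgebra.SModEq.Pointwise
import Mathlib.LinearAlgebra.SModEq.Pow
import Mathlib.LinearAlgebra.Semisimple
import Mathlib.LinearAlgebra.SesquilinearForm.Basic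
import Mathlib.LinearAlgebra.SesquilinearForm.Orthogonal
import Mathlib.LinearAlgebra.SesquilinearForm.Star
import Mathlib.LinearAlgebra.Span.Basic
import Mathlib.LinearAlgebra.Span.Defs
import Mathlib.LinearAlgebra.Span.TensorProduct
import Mathlib.LinearAlgebra.SpecialLinearGroup
import Mathlib.LinearAlgebra.StdBasis
import Mathlib.LinearAlgebra.SymmetricAlgebra.Basic
import Mathlib.LinearAlgebra.SymmetricAlgebra.Basis
import Mathlib.LinearAlgebra.SymplecticGroup
import Mathlib.LinearAlgebra.TensorAlgebra.Basic
import Mathlib.LinearAlgebra.TensorAlgebra.Basis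
import Mathlib.LinearAlgebra.TensorAlgebra.Grading
import Mathlib.LinearAlgebra.TensorAlgebra.ToTensorPower
import Mathlib.LinearAlgebra.TensorPower.Basic
import Mathlib.LinearAlgebra.TensorPower.Pairing
import Mathlib.LinearAlgebra.TensorPower.Symmetric
import Mathlib.LinearAlgebra.TensorProduct.Associator
import Mathlib.LinearAlgebra.TensorProduct.Basic
import Mathlib.LinearAlgebra.TensorProduct.Basis
import Mathlib.LinearAlgebra.TensorProduct.Decomposition
import Mathlib.LinearAlgebra.TensorProduct.Defs
import Mathlib.LinearAlgebra.TensorProduct.DirectLimit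
import Mathlib.LinearAlgebra.TensorProduct.Finiteness
import Mathlib.LinearAlgebra.TensorProduct.Free
import Mathlib.LinearAlgebra.TensorProduct.Graded.External
import Mathlib.LinearAlgebra.TensorProduct.Graded.Internal
import Mathlib.LinearAlgebra.TensorProduct.Map
import Mathlib.LinearAlgebra.TensorProduct.Matrix
import Mathlib.LinearAlgebra.TensorProduct.Opposite
import Mathlib.LinearAlgebra.TensorProduct.Pi
import Mathlib.LinearAlgebra.TensorProduct.Prod
import Mathlib.LinearAlgebra.TensorProduct.Quotient
import Mathlib.LinearAlgebra.TensorProduct.RightExactness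
import Mathlib.LinearAlgebra.TensorProduct.Subalgebra
import Mathlib.LinearAlgebra.TensorProduct.Submodule
import Mathlib.LinearAlgebra.TensorProduct.Tower
import Mathlib.LinearAlgebra.TensorProduct.Vanishing
import Mathlib.LinearAlgebra.Trace
import Mathlib.LinearAlgebra.Transvection
import Mathlib.LinearAlgebra.Transvection.Basic
import Mathlib.LinearAlgebra.Transvection.Generation
import Mathlib.LinearAlgebra.UnitaryGroup
import Mathlib.LinearAlgebra.Vandermonde
import Mathlib.Logic.Basic
import Mathlib.Logic.Denumerable
import Mathlib.Logic.Embedding.Basic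
import Mathlib.Logic.Embedding.Set
import Mathlib.Logic.Encodable.Basic
import Mathlib.Logic.Encodable.Lattice
import Mathlib.Logic.Encodable.Pi
import Mathlib.Logic.Equiv.Array
import Mathlib.Logic.Equiv.Basic
import Mathlib.Logic.Equiv.Bool
import Mathlib.Logic.Equiv.Defs
import Mathlib.Logic.Equiv.Embedding
import Mathlib.Logic.Equiv.Fin.Basic
import Mathlib.Logic.Equiv.Fin.Rotate
import Mathlib.Logic.Equiv.Finset
import Mathlib.Logic.Equiv.Fintype
import Mathlib.Logic.Equiv.Functor
import Mathlib.Logic.Equiv.List
import Mathlib.Logic.Equiv.Multiset
import Mathlib.Logic.Equiv.Nat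
import Mathlib.Logic.Equiv.Option
import Mathlib.Logic.Equiv.Pairwise
import Mathlib.Logic.Equiv.PartialEquiv
import Mathlib.Logic.Equiv.Prod
import Mathlib.Logic.Equiv.Set
import Mathlib.Logic.Equiv.Sum
import Mathlib.Logic.ExistsUnique
import Mathlib.Logic.Function.Basic
import Mathlib.Logic.Function.Coequalizer
import Mathlib.Logic.Function.CompTypeclasses
import Mathlib.Logic.Function.Conjugate
import Mathlib.Logic.Function.Defs
import Mathlib.Logic.Function.DependsOn
import Mathlib.Logic.Function.FiberPartition
import Mathlib.Logic.Function.FromTypes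
import Mathlib.Logic.Function.Iterate
import Mathlib.Logic.Function.OfArity
import Mathlib.Logic.Function.ULift
import Mathlib.Logic.Godel.GodelBetaFunction
import Mathlib.Logic.Hydra
import Mathlib.Logic.IsEmpty
import Mathlib.Logic.IsEmpty.Basic
import Mathlib.Logic.IsEmpty.Defs
import Mathlib.Logic.Lemmas
import Mathlib.Logic.Nonempty
import Mathlib.Logic.Nontrivial.Basic
import Mathlib.Logic.Nontrivial.Defs
import Mathlib.Logic.OpClass
import Mathlib.Logic.Pairwise
import Mathlib.Logic.Relation
import Mathlib.Logic.Relator
import Mathlib.Logic.Small.Basic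
import Mathlib.Logic.Small.Defs
import Mathlib.Logic.Small.List
import Mathlib.Logic.Small.Set
import Mathlib.Logic.Unique
import Mathlib.Logic.UnivLE
import Mathlib.MeasureTheory.Category.MeasCat
import Mathlib.MeasureTheory.Constructions.AddChar
import Mathlib.MeasureTheory.Constructions.BorelSpace.Basic
import Mathlib.MeasureTheory.Constructions.BorelSpace.Complex
import Mathlib.MeasureTheory.Constructions.BorelSpace.ContinuousLinearMap
import Mathlib.MeasureTheory.Constructions.BorelSpace.Metric
import Mathlib.MeasureTheory.Constructions.BorelSpace.Metrizable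
import Mathlib.MeasureTheory.Constructions.BorelSpace.Order
import Mathlib.MeasureTheory.Constructions.BorelSpace.Real
import Mathlib.MeasureTheory.Constructions.BorelSpace.WithTop
import Mathlib.MeasureTheory.Constructions.ClosedCompactCylinders
import Mathlib.MeasureTheory.Constructions.Cylinders
import Mathlib.MeasureTheory.Constructions.HaarToSphere
import Mathlib.MeasureTheory.Constructions.Pi
import Mathlib.MeasureTheory.Constructions.Polish.Basic
import Mathlib.MeasureTheory.Constructions.Polish.EmbeddingReal
import Mathlib.MeasureTheory.Constructions.Polish.StronglyMeasurable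
import Mathlib.MeasureTheory.Constructions.Projective
import Mathlib.MeasureTheory.Constructions.ProjectiveFamilyContent
import Mathlib.MeasureTheory.Constructions.SimpleGraph
import Mathlib.MeasureTheory.Constructions.SubmoduleQuotient
import Mathlib.MeasureTheory.Constructions.UnitInterval
import Mathlib.MeasureTheory.Covering.Besicovitch
import Mathlib.MeasureTheory.Covering.BesicovitchVectorSpace
import Mathlib.MeasureTheory.Covering.DensityTheorem
import Mathlib.MeasureTheory.Covering.Differentiation
import Mathlib.MeasureTheory.Covering.LiminfLimsup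
import Mathlib.MeasureTheory.Covering.OneDim
import Mathlib.MeasureTheory.Covering.Vitali
import Mathlib.MeasureTheory.Covering.VitaliFamily
import Mathlib.MeasureTheory.Function.AEEqFun
import Mathlib.MeasureTheory.Function.AEEqFun.DomAct
import Mathlib.MeasureTheory.Function.AEEqOfIntegral
import Mathlib.MeasureTheory.Function.AEEqOfLIntegral
import Mathlib.MeasureTheory.Function.AEMeasurableOrder
import Mathlib.MeasureTheory.Function.AEMeasurableSequence
import Mathlib.MeasureTheory.Function.AbsolutelyContinuous
import Mathlib.MeasureTheory.Function.ConditionalExpectation.AEMeasurable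
import Mathlib.MeasureTheory.Function.ConditionalExpectation.Basic
import Mathlib.MeasureTheory.Function.ConditionalExpectation.CondJensen
import Mathlib.MeasureTheory.Function.ConditionalExpectation.CondexpL1
import Mathlib.MeasureTheory.Function.ConditionalExpectation.CondexpL2
import Mathlib.MeasureTheory.Function.ConditionalExpectation.Indicator
import Mathlib.MeasureTheory.Function.ConditionalExpectation.LebesgueBochner
import Mathlib.MeasureTheory.Function.ConditionalExpectation.PullOut
import Mathlib.MeasureTheory.Function.ConditionalExpectation.RadonNikodym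
import Mathlib.MeasureTheory.Function.ConditionalExpectation.Real
import Mathlib.MeasureTheory.Function.ConditionalExpectation.Unique
import Mathlib.MeasureTheory.Function.ConditionalLExpectation
import Mathlib.MeasureTheory.Function.ContinuousMapDense
import Mathlib.MeasureTheory.Function.ConvergenceInDistribution
import Mathlib.MeasureTheory.Function.ConvergenceInMeasure
import Mathlib.MeasureTheory.Function.Egorov
import Mathlib.MeasureTheory.Function.EssSup
import Mathlib.MeasureTheory.Function.FactorsThrough
import Mathlib.MeasureTheory.Function.Floor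
import Mathlib.MeasureTheory.Function.Holder
import Mathlib.MeasureTheory.Function.Intersectivity
import Mathlib.MeasureTheory.Function.Jacobian
import Mathlib.MeasureTheory.Function.JacobianOneDim
import Mathlib.MeasureTheory.Function.L1Space.AEEqFun
import Mathlib.MeasureTheory.Function.L1Space.HasFiniteIntegral
import Mathlib.MeasureTheory.Function.L1Space.Integrable
import Mathlib.MeasureTheory.Function.L2Space
import Mathlib.MeasureTheory.Function.LocallyIntegrable
import Mathlib.MeasureTheory.Function.LpOrder
import Mathlib.MeasureTheory.Function.LpSeminorm.Basic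
import Mathlib.MeasureTheory.Function.LpSeminorm.ChebyshevMarkov
import Mathlib.MeasureTheory.Function.LpSeminorm.CompareExp
import Mathlib.MeasureTheory.Function.LpSeminorm.Count
import Mathlib.MeasureTheory.Function.LpSeminorm.Defs
import Mathlib.MeasureTheory.Function.LpSeminorm.Indicator
import Mathlib.MeasureTheory.Function.LpSeminorm.LpNorm
import Mathlib.MeasureTheory.Function.LpSeminorm.Monotonicity
import Mathlib.MeasureTheory.Function.LpSeminorm.Prod
import Mathlib.MeasureTheory.Function.LpSeminorm.SMul
import Mathlib.MeasureTheory.Function.LpSeminorm.TriangleInequality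
import Mathlib.MeasureTheory.Function.LpSeminorm.Trim
import Mathlib.MeasureTheory.Function.LpSpace.Basic
import Mathlib.MeasureTheory.Function.LpSpace.Complete
import Mathlib.MeasureTheory.Function.LpSpace.CompleteOfCompleteLp
import Mathlib.MeasureTheory.Function.LpSpace.ContinuousCompMeasurePreserving
import Mathlib.MeasureTheory.Function.LpSpace.ContinuousFunctions
import Mathlib.MeasureTheory.Function.LpSpace.DomAct.Basic
import Mathlib.MeasureTheory.Function.LpSpace.DomAct.Continuous
import Mathlib.MeasureTheory.Function.LpSpace.Indicator
import Mathlib.MeasureTheory.Function.LpSpace.InfiniteSum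
import Mathlib.MeasureTheory.Function.Piecewise
import Mathlib.MeasureTheory.Function.SimpleFunc
import Mathlib.MeasureTheory.Function.SimpleFuncDense
import Mathlib.MeasureTheory.Function.SimpleFuncDenseLp
import Mathlib.MeasureTheory.Function.SpecialFunctions.Arctan
import Mathlib.MeasureTheory.Function.SpecialFunctions.Basic
import Mathlib.MeasureTheory.Function.SpecialFunctions.Inner
import Mathlib.MeasureTheory.Function.SpecialFunctions.RCLike
import Mathlib.MeasureTheory.Function.SpecialFunctions.Sinc
import Mathlib.MeasureTheory.Function.StronglyMeasurable.AEStronglyMeasurable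
import Mathlib.MeasureTheory.Function.StronglyMeasurable.Basic
import Mathlib.MeasureTheory.Function.StronglyMeasurable.ENNReal
import Mathlib.MeasureTheory.Function.StronglyMeasurable.Inner
import Mathlib.MeasureTheory.Function.StronglyMeasurable.Lemmas
import Mathlib.MeasureTheory.Function.StronglyMeasurable.Lp
import Mathlib.MeasureTheory.Function.UnifTight
import Mathlib.MeasureTheory.Function.UniformIntegrable
import Mathlib.MeasureTheory.Group.AEStabilizer
import Mathlib.MeasureTheory.Group.Action
import Mathlib.MeasureTheory.Group.AddCircle
import Mathlib.MeasureTheory.Group.Arithmetic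
import Mathlib.MeasureTheory.Group.Convolution
import Mathlib.MeasureTheory.Group.Defs
import Mathlib.MeasureTheory.Group.FoelnerFilter
import Mathlib.MeasureTheory.Group.FundamentalDomain
import Mathlib.MeasureTheory.Group.GeometryOfNumbers
import Mathlib.MeasureTheory.Group.Integral
import Mathlib.MeasureTheory.Group.IntegralConvolution
import Mathlib.MeasureTheory.Group.LIntegral
import Mathlib.MeasureTheory.Group.MeasurableEquiv
import Mathlib.MeasureTheory.Group.Measure
import Mathlib.MeasureTheory.Group.ModularCharacter
import Mathlib.MeasureTheory.Group.Pointwise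
import Mathlib.MeasureTheory.Group.Prod
import Mathlib.MeasureTheory.Integral.Asymptotics
import Mathlib.MeasureTheory.Integral.Average
import Mathlib.MeasureTheory.Integral.Bochner.Basic
import Mathlib.MeasureTheory.Integral.Bochner.ContinuousLinearMap
import Mathlib.MeasureTheory.Integral.Bochner.FundThmCalculus
import Mathlib.MeasureTheory.Integral.Bochner.L1
import Mathlib.MeasureTheory.Integral.Bochner.Set
import Mathlib.MeasureTheory.Integral.Bochner.SumMeasure
import Mathlib.MeasureTheory.Integral.Bochner.VitaliCaratheodory
import Mathlib.MeasureTheory.Integral.BoundedContinuousFunction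
import Mathlib.MeasureTheory.Integral.CircleAverage
import Mathlib.MeasureTheory.Integral.CircleIntegral
import Mathlib.MeasureTheory.Integral.CircleTransform
import Mathlib.MeasureTheory.Integral.CompactlySupported
import Mathlib.MeasureTheory.Integral.CurveIntegral.Basic
import Mathlib.MeasureTheory.Integral.CurveIntegral.Poincare
import Mathlib.MeasureTheory.Integral.DivergenceTheorem
import Mathlib.MeasureTheory.Integral.DominatedConvergence
import Mathlib.MeasureTheory.Integral.ExpDecay
import Mathlib.MeasureTheory.Integral.FinMeasAdditive
import Mathlib.MeasureTheory.Integral.Gamma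
import Mathlib.MeasureTheory.Integral.Indicator
import Mathlib.MeasureTheory.Integral.IntegrableOn
import Mathlib.MeasureTheory.Integral.IntegralEqImproper
import Mathlib.MeasureTheory.Integral.IntervalAverage
import Mathlib.MeasureTheory.Integral.IntervalIntegral.AbsolutelyContinuousFun
import Mathlib.MeasureTheory.Integral.IntervalIntegral.Basic
import Mathlib.MeasureTheory.Integral.IntervalIntegral.ContDiff
import Mathlib.MeasureTheory.Integral.IntervalIntegral.DerivIntegrable
import Mathlib.MeasureTheory.Integral.IntervalIntegral.DistLEIntegral
import Mathlib.MeasureTheory.Integral.IntervalIntegral.FundThmCalculus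
import Mathlib.MeasureTheory.Integral.IntervalIntegral.IntegrationByParts
import Mathlib.MeasureTheory.Integral.IntervalIntegral.LebesgueDifferentiationThm
import Mathlib.MeasureTheory.Integral.IntervalIntegral.MeanValue
import Mathlib.MeasureTheory.Integral.IntervalIntegral.Periodic
import Mathlib.MeasureTheory.Integral.IntervalIntegral.Slope
import Mathlib.MeasureTheory.Integral.IntervalIntegral.TrapezoidalRule
import Mathlib.MeasureTheory.Integral.Layercake
import Mathlib.MeasureTheory.Integral.Lebesgue.Add
import Mathlib.MeasureTheory.Integral.Lebesgue.Basic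
import Mathlib.MeasureTheory.Integral.Lebesgue.Countable
import Mathlib.MeasureTheory.Integral.Lebesgue.DominatedConvergence
import Mathlib.MeasureTheory.Integral.Lebesgue.Map
import Mathlib.MeasureTheory.Integral.Lebesgue.Markov
import Mathlib.MeasureTheory.Integral.Lebesgue.Norm
import Mathlib.MeasureTheory.Integral.Lebesgue.Sub
import Mathlib.MeasureTheory.Integral.LebesgueNormedSpace
import Mathlib.MeasureTheory.Integral.Marginal
import Mathlib.MeasureTheory.Integral.MeanInequalities
import Mathlib.MeasureTheory.Integral.MeanValue
import Mathlib.MeasureTheory.Integral.PeakFunction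
import Mathlib.MeasureTheory.Integral.Pi
import Mathlib.MeasureTheory.Integral.Prod
import Mathlib.MeasureTheory.Integral.Regular
import Mathlib.MeasureTheory.Integral.RieszMarkovKakutani.Basic
import Mathlib.MeasureTheory.Integral.RieszMarkovKakutani.NNReal
import Mathlib.MeasureTheory.Integral.RieszMarkovKakutani.Real
import Mathlib.MeasureTheory.Integral.SetToL1
import Mathlib.MeasureTheory.Integral.TorusIntegral
import Mathlib.MeasureTheory.MeasurableSpace.Basic
import Mathlib.MeasureTheory.MeasurableSpace.Card
import Mathlib.MeasureTheory.MeasurableSpace.Constructions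
import Mathlib.MeasureTheory.MeasurableSpace.CountablyGenerated
import Mathlib.MeasureTheory.MeasurableSpace.Defs
import Mathlib.MeasureTheory.MeasurableSpace.Embedding
import Mathlib.MeasureTheory.MeasurableSpace.EventuallyMeasurable
import Mathlib.MeasureTheory.MeasurableSpace.Instances
import Mathlib.MeasureTheory.MeasurableSpace.Invariants
import Mathlib.MeasureTheory.MeasurableSpace.MeasurablyGenerated
import Mathlib.MeasureTheory.MeasurableSpace.NCard
import Mathlib.MeasureTheory.MeasurableSpace.Pi
import Mathlib.MeasureTheory.MeasurableSpace.PreorderRestrict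
import Mathlib.MeasureTheory.MeasurableSpace.Prod
import Mathlib.MeasureTheory.Measure.AEDisjoint
import Mathlib.MeasureTheory.Measure.AEMeasurable
import Mathlib.MeasureTheory.Measure.AbsolutelyContinuous
import Mathlib.MeasureTheory.Measure.AddContent
import Mathlib.MeasureTheory.Measure.CharacteristicFunction
import Mathlib.MeasureTheory.Measure.CharacteristicFunction.Basic
import Mathlib.MeasureTheory.Measure.CharacteristicFunction.TaylorExpansion
import Mathlib.MeasureTheory.Measure.Comap
import Mathlib.MeasureTheory.Measure.Complex
import Mathlib.MeasureTheory.Measure.Content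
import Mathlib.MeasureTheory.Measure.ContinuousPreimage
import Mathlib.MeasureTheory.Measure.Count
import Mathlib.MeasureTheory.Measure.Decomposition.Exhaustion
import Mathlib.MeasureTheory.Measure.Decomposition.Hahn
import Mathlib.MeasureTheory.Measure.Decomposition.IntegralRNDeriv
import Mathlib.MeasureTheory.Measure.Decomposition.Lebesgue
import Mathlib.MeasureTheory.Measure.Decomposition.RadonNikodym
import Mathlib.MeasureTheory.Measure.Dirac
import Mathlib.MeasureTheory.Measure.DiracProba
import Mathlib.MeasureTheory.Measure.Doubling
import Mathlib.MeasureTheory.Measure.EverywherePos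
import Mathlib.MeasureTheory.Measure.FiniteMeasure
import Mathlib.MeasureTheory.Measure.FiniteMeasureExt
import Mathlib.MeasureTheory.Measure.FiniteMeasurePi
import Mathlib.MeasureTheory.Measure.FiniteMeasureProd
import Mathlib.MeasureTheory.Measure.GiryMonad
import Mathlib.MeasureTheory.Measure.Haar.Basic
import Mathlib.MeasureTheory.Measure.Haar.Disintegration
import Mathlib.MeasureTheory.Measure.Haar.DistribChar
import Mathlib.MeasureTheory.Measure.Haar.Extension
import Mathlib.MeasureTheory.Measure.Haar.InnerProductSpace
import Mathlib.MeasureTheory.Measure.Haar.MulEquivHaarChar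
import Mathlib.MeasureTheory.Measure.Haar.NormedSpace
import Mathlib.MeasureTheory.Measure.Haar.OfBasis
import Mathlib.MeasureTheory.Measure.Haar.Quotient
import Mathlib.MeasureTheory.Measure.Haar.Unique
import Mathlib.MeasureTheory.Measure.HasOuterApproxClosed
import Mathlib.MeasureTheory.Measure.HasOuterApproxClosedProd
import Mathlib.MeasureTheory.Measure.Hausdorff
import Mathlib.MeasureTheory.Measure.IntegralCharFun
import Mathlib.MeasureTheory.Measure.Lebesgue.Basic
import Mathlib.MeasureTheory.Measure.Lebesgue.Complex
import Mathlib.MeasureTheory.Measure.Lebesgue.EqHaar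
import Mathlib.MeasureTheory.Measure.Lebesgue.Integral
import Mathlib.MeasureTheory.Measure.Lebesgue.VolumeOfBalls
import Mathlib.MeasureTheory.Measure.LevyConvergence
import Mathlib.MeasureTheory.Measure.LevyProkhorovMetric
import Mathlib.MeasureTheory.Measure.LogLikelihoodRatio
import Mathlib.MeasureTheory.Measure.Map
import Mathlib.MeasureTheory.Measure.MeasureSpace
import Mathlib.MeasureTheory.Measure.MeasureSpaceDef
import Mathlib.MeasureTheory.Measure.MeasuredSets
import Mathlib.MeasureTheory.Measure.MutuallySingular
import Mathlib.MeasureTheory.Measure.NullMeasurable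
import Mathlib.MeasureTheory.Measure.OpenPos
import Mathlib.MeasureTheory.Measure.Portmanteau
import Mathlib.MeasureTheory.Measure.PreVariation
import Mathlib.MeasureTheory.Measure.ProbabilityMeasure
import Mathlib.MeasureTheory.Measure.Prod
import Mathlib.MeasureTheory.Measure.Prokhorov
import Mathlib.MeasureTheory.Measure.QuasiMeasurePreserving
import Mathlib.MeasureTheory.Measure.Real
import Mathlib.MeasureTheory.Measure.Regular
import Mathlib.MeasureTheory.Measure.RegularityCompacts
import Mathlib.MeasureTheory.Measure.ResolventTransform
import Mathlib.MeasureTheory.Measure.Restrict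
import Mathlib.MeasureTheory.Measure.SeparableMeasure
import Mathlib.MeasureTheory.Measure.Stieltjes
import Mathlib.MeasureTheory.Measure.Sub
import Mathlib.MeasureTheory.Measure.SubFinite
import Mathlib.MeasureTheory.Measure.Support
import Mathlib.MeasureTheory.Measure.Tight
import Mathlib.MeasureTheory.Measure.TightNormed
import Mathlib.MeasureTheory.Measure.Tilted
import Mathlib.MeasureTheory.Measure.Trim
import Mathlib.MeasureTheory.Measure.Typeclasses.Finite
import Mathlib.MeasureTheory.Measure.Typeclasses.NoAtoms
import Mathlib.MeasureTheory.Measure.Typeclasses.NullSingletonClass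
import Mathlib.MeasureTheory.Measure.Typeclasses.Probability
import Mathlib.MeasureTheory.Measure.Typeclasses.SFinite
import Mathlib.MeasureTheory.Measure.Typeclasses.ZeroOne
import Mathlib.MeasureTheory.Measure.WithDensity
import Mathlib.MeasureTheory.Measure.WithDensityFinite
import Mathlib.MeasureTheory.Order.Group.Lattice
import Mathlib.MeasureTheory.Order.Lattice
import Mathlib.MeasureTheory.Order.UpperLower
import Mathlib.MeasureTheory.OuterMeasure.AE
import Mathlib.MeasureTheory.OuterMeasure.Basic
import Mathlib.MeasureTheory.OuterMeasure.BorelCantelli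
import Mathlib.MeasureTheory.OuterMeasure.Caratheodory
import Mathlib.MeasureTheory.OuterMeasure.Defs
import Mathlib.MeasureTheory.OuterMeasure.Induced
import Mathlib.MeasureTheory.OuterMeasure.OfAddContent
import Mathlib.MeasureTheory.OuterMeasure.OfFunction
import Mathlib.MeasureTheory.OuterMeasure.Operations
import Mathlib.MeasureTheory.PiSystem
import Mathlib.MeasureTheory.SetAlgebra
import Mathlib.MeasureTheory.SetSemiring
import Mathlib.MeasureTheory.SpecificCodomains.ContinuousMap
import Mathlib.MeasureTheory.SpecificCodomains.ContinuousMapZero
import Mathlib.MeasureTheory.SpecificCodomains.Pi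
import Mathlib.MeasureTheory.SpecificCodomains.WithLp
import Mathlib.MeasureTheory.Topology
import Mathlib.MeasureTheory.VectorMeasure.AddContent
import Mathlib.MeasureTheory.VectorMeasure.Basic
import Mathlib.MeasureTheory.VectorMeasure.BoundedVariation
import Mathlib.MeasureTheory.VectorMeasure.Decomposition.Hahn
import Mathlib.MeasureTheory.VectorMeasure.Decomposition.Jordan
import Mathlib.MeasureTheory.VectorMeasure.Decomposition.JordanSub
import Mathlib.MeasureTheory.VectorMeasure.Decomposition.Lebesgue
import Mathlib.MeasureTheory.VectorMeasure.Decomposition.RadonNikodym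
import Mathlib.MeasureTheory.VectorMeasure.Integral
import Mathlib.MeasureTheory.VectorMeasure.Prod
import Mathlib.MeasureTheory.VectorMeasure.SetIntegral
import Mathlib.MeasureTheory.VectorMeasure.Variation.Basic
import Mathlib.MeasureTheory.VectorMeasure.Variation.Defs
import Mathlib.MeasureTheory.VectorMeasure.Variation.Semivariation
import Mathlib.MeasureTheory.VectorMeasure.Variation.SignedMeasure
import Mathlib.MeasureTheory.VectorMeasure.WithDensity
import Mathlib.MeasureTheory.VectorMeasure.WithDensityVec
import Mathlib.ModelTheory.Algebra.Field.Basic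
import Mathlib.ModelTheory.Algebra.Field.CharP
import Mathlib.ModelTheory.Algebra.Field.IsAlgClosed
import Mathlib.ModelTheory.Algebra.Ring.Basic
import Mathlib.ModelTheory.Algebra.Ring.Definability
import Mathlib.ModelTheory.Algebra.Ring.FreeCommRing
import Mathlib.ModelTheory.Arithmetic.Presburger.Basic
import Mathlib.ModelTheory.Arithmetic.Presburger.Definability
import Mathlib.ModelTheory.Arithmetic.Presburger.Semilinear.Basic
import Mathlib.ModelTheory.Arithmetic.Presburger.Semilinear.Defs
import Mathlib.ModelTheory.Basic
import Mathlib.ModelTheory.Bundled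
import Mathlib.ModelTheory.Complexity
import Mathlib.ModelTheory.Definability
import Mathlib.ModelTheory.DirectLimit
import Mathlib.ModelTheory.ElementaryMaps
import Mathlib.ModelTheory.ElementarySubstructures
import Mathlib.ModelTheory.Encoding
import Mathlib.ModelTheory.Equivalence
import Mathlib.ModelTheory.FinitelyGenerated
import Mathlib.ModelTheory.Fraisse
import Mathlib.ModelTheory.Graph
import Mathlib.ModelTheory.LanguageMap
import Mathlib.ModelTheory.Order
import Mathlib.ModelTheory.PartialEquiv
import Mathlib.ModelTheory.Quotients
import Mathlib.ModelTheory.Satisfiability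
import Mathlib.ModelTheory.Semantics
import Mathlib.ModelTheory.Skolem
import Mathlib.ModelTheory.Substructures
import Mathlib.ModelTheory.Syntax
import Mathlib.ModelTheory.Topology.Types
import Mathlib.ModelTheory.Types
import Mathlib.ModelTheory.Ultraproducts
import Mathlib.NumberTheory.ADEInequality
import Mathlib.NumberTheory.AbelSummation
import Mathlib.NumberTheory.AlmostPrime
import Mathlib.NumberTheory.ArithmeticFunction.Carmichael
import Mathlib.NumberTheory.ArithmeticFunction.Defs
import Mathlib.NumberTheory.ArithmeticFunction.LFunction
import Mathlib.NumberTheory.ArithmeticFunction.Liouville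
import Mathlib.NumberTheory.ArithmeticFunction.Misc
import Mathlib.NumberTheory.ArithmeticFunction.Moebius
import Mathlib.NumberTheory.ArithmeticFunction.VonMangoldt
import Mathlib.NumberTheory.ArithmeticFunction.Zeta
import Mathlib.NumberTheory.Basic
import Mathlib.NumberTheory.Bernoulli
import Mathlib.NumberTheory.BernoulliPolynomials
import Mathlib.NumberTheory.Bertrand
import Mathlib.NumberTheory.Chebyshev
import Mathlib.NumberTheory.ClassNumber.AdmissibleAbs
import Mathlib.NumberTheory.ClassNumber.AdmissibleAbsoluteValue
import Mathlib.NumberTheory.ClassNumber.AdmissibleCardPowDegree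
import Mathlib.NumberTheory.ClassNumber.Finite
import Mathlib.NumberTheory.ClassNumber.FunctionField
import Mathlib.NumberTheory.Cyclotomic.Basic
import Mathlib.NumberTheory.Cyclotomic.CyclotomicCharacter
import Mathlib.NumberTheory.Cyclotomic.Discriminant
import Mathlib.NumberTheory.Cyclotomic.Gal
import Mathlib.NumberTheory.Cyclotomic.PrimitiveRoots
import Mathlib.NumberTheory.Dioph
import Mathlib.NumberTheory.DiophantineApproximation.Basic
import Mathlib.NumberTheory.DiophantineApproximation.ContinuedFractions
import Mathlib.NumberTheory.DirichletCharacter.Basic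
import Mathlib.NumberTheory.DirichletCharacter.Bounds
import Mathlib.NumberTheory.DirichletCharacter.GaussSum
import Mathlib.NumberTheory.DirichletCharacter.Orthogonality
import Mathlib.NumberTheory.Divisors
import Mathlib.NumberTheory.EllipticDivisibilitySequence
import Mathlib.NumberTheory.EulerProduct.Basic
import Mathlib.NumberTheory.EulerProduct.DirichletLSeries
import Mathlib.NumberTheory.EulerProduct.ExpLog
import Mathlib.NumberTheory.FLT.Basic
import Mathlib.NumberTheory.FLT.Four
import Mathlib.NumberTheory.FLT.MasonStothers
import Mathlib.NumberTheory.FLT.Polynomial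
import Mathlib.NumberTheory.FLT.Three
import Mathlib.NumberTheory.FactorisationProperties
import Mathlib.NumberTheory.Fermat
import Mathlib.NumberTheory.FermatPsp
import Mathlib.NumberTheory.FrobeniusNumber
import Mathlib.NumberTheory.FunctionField
import Mathlib.NumberTheory.GaussSum
import Mathlib.NumberTheory.Harmonic.Bounds
import Mathlib.NumberTheory.Harmonic.Defs
import Mathlib.NumberTheory.Harmonic.EulerMascheroni
import Mathlib.NumberTheory.Harmonic.GammaDeriv
import Mathlib.NumberTheory.Harmonic.Int
import Mathlib.NumberTheory.Harmonic.ZetaAsymp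
import Mathlib.NumberTheory.HeckeRing.Defs
import Mathlib.NumberTheory.Height.Basic
import Mathlib.NumberTheory.Height.EllipticCurve
import Mathlib.NumberTheory.Height.MvPolynomial
import Mathlib.NumberTheory.Height.Northcott
import Mathlib.NumberTheory.Height.NumberField
import Mathlib.NumberTheory.Height.Projectivization
import Mathlib.NumberTheory.JacobiSum.Basic
import Mathlib.NumberTheory.KummerDedekind
import Mathlib.NumberTheory.LSeries.AbstractFuncEq
import Mathlib.NumberTheory.LSeries.Basic
import Mathlib.NumberTheory.LSeries.Convergence
import Mathlib.NumberTheory.LSeries.Convolution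
import Mathlib.NumberTheory.LSeries.Deriv
import Mathlib.NumberTheory.LSeries.Dirichlet
import Mathlib.NumberTheory.LSeries.DirichletContinuation
import Mathlib.NumberTheory.LSeries.HurwitzZeta
import Mathlib.NumberTheory.LSeries.HurwitzZetaEven
import Mathlib.NumberTheory.LSeries.HurwitzZetaOdd
import Mathlib.NumberTheory.LSeries.HurwitzZetaValues
import Mathlib.NumberTheory.LSeries.Injectivity
import Mathlib.NumberTheory.LSeries.Linearity
import Mathlib.NumberTheory.LSeries.MellinEqDirichlet
import Mathlib.NumberTheory.LSeries.Nonvanishing
import Mathlib.NumberTheory.LSeries.Positivity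
import Mathlib.NumberTheory.LSeries.PrimesInAP
import Mathlib.NumberTheory.LSeries.RiemannZeta
import Mathlib.NumberTheory.LSeries.SumCoeff
import Mathlib.NumberTheory.LSeries.ZMod
import Mathlib.NumberTheory.LSeries.ZetaZeros
import Mathlib.NumberTheory.LegendreSymbol.AddCharacter
import Mathlib.NumberTheory.LegendreSymbol.Basic
import Mathlib.NumberTheory.LegendreSymbol.Complex
import Mathlib.NumberTheory.LegendreSymbol.GaussEisensteinLemmas
import Mathlib.NumberTheory.LegendreSymbol.JacobiSymbol
import Mathlib.NumberTheory.LegendreSymbol.QuadraticChar.Basic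
import Mathlib.NumberTheory.LegendreSymbol.QuadraticChar.GaussSum
import Mathlib.NumberTheory.LegendreSymbol.QuadraticReciprocity
import Mathlib.NumberTheory.LegendreSymbol.ZModChar
import Mathlib.NumberTheory.LocalField.Basic
import Mathlib.NumberTheory.LucasLehmer
import Mathlib.NumberTheory.LucasPrimality
import Mathlib.NumberTheory.MahlerMeasure
import Mathlib.NumberTheory.MaricaSchoenheim
import Mathlib.NumberTheory.Modular
import Mathlib.NumberTheory.ModularForms.ArithmeticSubgroups
import Mathlib.NumberTheory.ModularForms.Basic
import Mathlib.NumberTheory.ModularForms.BoundedAtCusp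
import Mathlib.NumberTheory.ModularForms.Bounds
import Mathlib.NumberTheory.ModularForms.CongruenceSubgroups
import Mathlib.NumberTheory.ModularForms.CuspFormSubmodule
import Mathlib.NumberTheory.ModularForms.Cusps
import Mathlib.NumberTheory.ModularForms.DedekindEta
import Mathlib.NumberTheory.ModularForms.Delta
import Mathlib.NumberTheory.ModularForms.Derivative
import Mathlib.NumberTheory.ModularForms.DimensionFormulas.LevelOne
import Mathlib.NumberTheory.ModularForms.Discriminant
import Mathlib.NumberTheory.ModularForms.EisensteinSeries.Basic
import Mathlib.NumberTheory.ModularForms.EisensteinSeries.Defs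
import Mathlib.NumberTheory.ModularForms.EisensteinSeries.E2.Defs
import Mathlib.NumberTheory.ModularForms.EisensteinSeries.E2.MDifferentiable
import Mathlib.NumberTheory.ModularForms.EisensteinSeries.E2.Summable
import Mathlib.NumberTheory.ModularForms.EisensteinSeries.E2.Transform
import Mathlib.NumberTheory.ModularForms.EisensteinSeries.IsBoundedAtImInfty
import Mathlib.NumberTheory.ModularForms.EisensteinSeries.MDifferentiable
import Mathlib.NumberTheory.ModularForms.EisensteinSeries.QExpansion
import Mathlib.NumberTheory.ModularForms.EisensteinSeries.Summable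
import Mathlib.NumberTheory.ModularForms.EisensteinSeries.UniformConvergence
import Mathlib.NumberTheory.ModularForms.Identities
import Mathlib.NumberTheory.ModularForms.JacobiTheta.Bounds
import Mathlib.NumberTheory.ModularForms.JacobiTheta.Manifold
import Mathlib.NumberTheory.ModularForms.JacobiTheta.OneVariable
import Mathlib.NumberTheory.ModularForms.JacobiTheta.TwoVariable
import Mathlib.NumberTheory.ModularForms.LFunction
import Mathlib.NumberTheory.ModularForms.LevelOne
import Mathlib.NumberTheory.ModularForms.LevelOne.Basic
import Mathlib.NumberTheory.ModularForms.LevelOne.DimensionFormula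
import Mathlib.NumberTheory.ModularForms.LevelOne.GradedRing
import Mathlib.NumberTheory.ModularForms.NormTrace
import Mathlib.NumberTheory.ModularForms.Petersson
import Mathlib.NumberTheory.ModularForms.ProperlyDiscontinuous
import Mathlib.NumberTheory.ModularForms.QExpansion
import Mathlib.NumberTheory.ModularForms.SlashActions
import Mathlib.NumberTheory.ModularForms.SlashInvariantForms
import Mathlib.NumberTheory.MulChar.Basic
import Mathlib.NumberTheory.MulChar.Duality
import Mathlib.NumberTheory.MulChar.Lemmas
import Mathlib.NumberTheory.Multiplicity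
import Mathlib.NumberTheory.Niven
import Mathlib.NumberTheory.NumberField.AdeleRing
import Mathlib.NumberTheory.NumberField.Basic
import Mathlib.NumberTheory.NumberField.CMField
import Mathlib.NumberTheory.NumberField.CanonicalEmbedding.Basic
import Mathlib.NumberTheory.NumberField.CanonicalEmbedding.ConvexBody
import Mathlib.NumberTheory.NumberField.CanonicalEmbedding.FundamentalCone
import Mathlib.NumberTheory.NumberField.CanonicalEmbedding.NormLeOne
import Mathlib.NumberTheory.NumberField.CanonicalEmbedding.PolarCoord
import Mathlib.NumberTheory.NumberField.ClassNumber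
import Mathlib.NumberTheory.NumberField.Completion.FinitePlace
import Mathlib.NumberTheory.NumberField.Completion.InfinitePlace
import Mathlib.NumberTheory.NumberField.Completion.LiesOverInstances
import Mathlib.NumberTheory.NumberField.Completion.Ramification
import Mathlib.NumberTheory.NumberField.Cyclotomic.Basic
import Mathlib.NumberTheory.NumberField.Cyclotomic.Embeddings
import Mathlib.NumberTheory.NumberField.Cyclotomic.Galois
import Mathlib.NumberTheory.NumberField.Cyclotomic.Ideal
import Mathlib.NumberTheory.NumberField.Cyclotomic.PID
import Mathlib.NumberTheory.NumberField.Cyclotomic.Three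
import Mathlib.NumberTheory.NumberField.DedekindZeta
import Mathlib.NumberTheory.NumberField.DirichletDensity
import Mathlib.NumberTheory.NumberField.Discriminant.Basic
import Mathlib.NumberTheory.NumberField.Discriminant.Defs
import Mathlib.NumberTheory.NumberField.Discriminant.Different
import Mathlib.NumberTheory.NumberField.EquivReindex
import Mathlib.NumberTheory.NumberField.ExistsRamified
import Mathlib.NumberTheory.NumberField.FinitePlaces
import Mathlib.NumberTheory.NumberField.FractionalIdeal
import Mathlib.NumberTheory.NumberField.House
import Mathlib.NumberTheory.NumberField.Ideal.Asymptotics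
import Mathlib.NumberTheory.NumberField.Ideal.Basic
import Mathlib.NumberTheory.NumberField.Ideal.KummerDedekind
import Mathlib.NumberTheory.NumberField.InfiniteAdeleRing
import Mathlib.NumberTheory.NumberField.InfinitePlace.Basic
import Mathlib.NumberTheory.NumberField.InfinitePlace.Completion
import Mathlib.NumberTheory.NumberField.InfinitePlace.Embeddings
import Mathlib.NumberTheory.NumberField.InfinitePlace.Ramification
import Mathlib.NumberTheory.NumberField.InfinitePlace.TotallyRealComplex
import Mathlib.NumberTheory.NumberField.Norm
import Mathlib.NumberTheory.NumberField.ProductFormula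
import Mathlib.NumberTheory.NumberField.Units.Basic
import Mathlib.NumberTheory.NumberField.Units.DirichletTheorem
import Mathlib.NumberTheory.NumberField.Units.Regulator
import Mathlib.NumberTheory.Ostrowski
import Mathlib.NumberTheory.Padics.AddChar
import Mathlib.NumberTheory.Padics.Complex
import Mathlib.NumberTheory.Padics.HeightOneSpectrum
import Mathlib.NumberTheory.Padics.Hensel
import Mathlib.NumberTheory.Padics.MahlerBasis
import Mathlib.NumberTheory.Padics.Measure.Basic
import Mathlib.NumberTheory.Padics.Measure.Topology
import Mathlib.NumberTheory.Padics.PadicIntegers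
import Mathlib.NumberTheory.Padics.PadicNorm
import Mathlib.NumberTheory.Padics.PadicNumbers
import Mathlib.NumberTheory.Padics.PadicVal.Basic
import Mathlib.NumberTheory.Padics.PadicVal.Defs
import Mathlib.NumberTheory.Padics.ProperSpace
import Mathlib.NumberTheory.Padics.RingHoms
import Mathlib.NumberTheory.Padics.ValuativeRel
import Mathlib.NumberTheory.Padics.WithVal
import Mathlib.NumberTheory.Pell
import Mathlib.NumberTheory.PellMatiyasevic
import Mathlib.NumberTheory.PowModTotient
import Mathlib.NumberTheory.PrimeCounting
import Mathlib.NumberTheory.PrimesCongruentOne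
import Mathlib.NumberTheory.Primorial
import Mathlib.NumberTheory.PythagoreanTriples
import Mathlib.NumberTheory.RamificationInertia.Basic
import Mathlib.NumberTheory.RamificationInertia.Galois
import Mathlib.NumberTheory.RamificationInertia.HilbertTheory
import Mathlib.NumberTheory.RamificationInertia.Inertia
import Mathlib.NumberTheory.RamificationInertia.Ramification
import Mathlib.NumberTheory.RamificationInertia.Unramified
import Mathlib.NumberTheory.RamificationInertia.Valuation
import Mathlib.NumberTheory.RatFunc.Ostrowski
import Mathlib.NumberTheory.Rayleigh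
import Mathlib.NumberTheory.Real.GoldenRatio
import Mathlib.NumberTheory.Real.Irrational
import Mathlib.NumberTheory.SelbergSieve
import Mathlib.NumberTheory.SiegelsLemma
import Mathlib.NumberTheory.SmoothNumbers
import Mathlib.NumberTheory.SumFourSquares
import Mathlib.NumberTheory.SumPrimeReciprocals
import Mathlib.NumberTheory.SumTwoSquares
import Mathlib.NumberTheory.Transcendental.Lindemann.AnalyticalPart
import Mathlib.NumberTheory.Transcendental.Liouville.Basic
import Mathlib.NumberTheory.Transcendental.Liouville.LiouvilleNumber
import Mathlib.NumberTheory.Transcendental.Liouville.LiouvilleWith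
import Mathlib.NumberTheory.Transcendental.Liouville.Measure
import Mathlib.NumberTheory.Transcendental.Liouville.Residual
import Mathlib.NumberTheory.TsumDivisorsAntidiagonal
import Mathlib.NumberTheory.WellApproximable
import Mathlib.NumberTheory.Wilson
import Mathlib.NumberTheory.ZetaValues
import Mathlib.NumberTheory.Zsqrtd.Basic
import Mathlib.NumberTheory.Zsqrtd.GaussianInt
import Mathlib.NumberTheory.Zsqrtd.QuadraticReciprocity
import Mathlib.NumberTheory.Zsqrtd.ToReal
import Mathlib.Order.Antichain
import Mathlib.Order.Antisymmetrization
import Mathlib.Order.Atoms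
import Mathlib.Order.Atoms.Finite
import Mathlib.Order.Basic
import Mathlib.Order.Birkhoff
import Mathlib.Order.BooleanAlgebra.Basic
import Mathlib.Order.BooleanAlgebra.Defs
import Mathlib.Order.BooleanAlgebra.Set
import Mathlib.Order.BooleanGenerators
import Mathlib.Order.BooleanSubalgebra
import Mathlib.Order.Booleanisation
import Mathlib.Order.Bounded
import Mathlib.Order.BoundedOrder.Basic
import Mathlib.Order.BoundedOrder.Lattice
import Mathlib.Order.BoundedOrder.Monotone
import Mathlib.Order.Bounds.Basic
import Mathlib.Order.Bounds.Defs
import Mathlib.Order.Bounds.Image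
import Mathlib.Order.Bounds.Lattice
import Mathlib.Order.Bounds.OrderIso
import Mathlib.Order.BourbakiWitt
import Mathlib.Order.Category.BddDistLat
import Mathlib.Order.Category.BddLat
import Mathlib.Order.Category.BddOrd
import Mathlib.Order.Category.BoolAlg
import Mathlib.Order.Category.CompleteLat
import Mathlib.Order.Category.DistLat
import Mathlib.Order.Category.FinBddDistLat
import Mathlib.Order.Category.FinBoolAlg
import Mathlib.Order.Category.FinPartOrd
import Mathlib.Order.Category.Frm
import Mathlib.Order.Category.HeytAlg
import Mathlib.Order.Category.Lat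
import Mathlib.Order.Category.LinOrd
import Mathlib.Order.Category.NonemptyFinLinOrd
import Mathlib.Order.Category.OmegaCompletePartialOrder
import Mathlib.Order.Category.PartOrd
import Mathlib.Order.Category.PartOrdEmb
import Mathlib.Order.Category.Preord
import Mathlib.Order.Category.Semilat
import Mathlib.Order.Circular
import Mathlib.Order.Circular.ZMod
import Mathlib.Order.Closure
import Mathlib.Order.Cofinal
import Mathlib.Order.CompactlyGenerated.Basic
import Mathlib.Order.CompactlyGenerated.Intervals
import Mathlib.Order.Comparable
import Mathlib.Order.Compare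
import Mathlib.Order.CompleteBooleanAlgebra
import Mathlib.Order.CompleteLattice.Basic
import Mathlib.Order.CompleteLattice.Chain
import Mathlib.Order.CompleteLattice.Defs
import Mathlib.Order.CompleteLattice.Finset
import Mathlib.Order.CompleteLattice.Group
import Mathlib.Order.CompleteLattice.Lemmas
import Mathlib.Order.CompleteLattice.MulticoequalizerDiagram
import Mathlib.Order.CompleteLattice.PiLex
import Mathlib.Order.CompleteLattice.SetLike
import Mathlib.Order.CompleteLatticeIntervals
import Mathlib.Order.CompletePartialOrder
import Mathlib.Order.CompleteSublattice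
import Mathlib.Order.Completion
import Mathlib.Order.Concept
import Mathlib.Order.ConditionallyCompleteLattice.Basic
import Mathlib.Order.ConditionallyCompleteLattice.Defs
import Mathlib.Order.ConditionallyCompleteLattice.Finset
import Mathlib.Order.ConditionallyCompleteLattice.Group
import Mathlib.Order.ConditionallyCompleteLattice.Indexed
import Mathlib.Order.ConditionallyCompletePartialOrder.Basic
import Mathlib.Order.ConditionallyCompletePartialOrder.Defs
import Mathlib.Order.ConditionallyCompletePartialOrder.Indexed
import Mathlib.Order.Copy
import Mathlib.Order.CountableDenseLinearOrder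
import Mathlib.Order.CountableSupClosed
import Mathlib.Order.Cover
import Mathlib.Order.Defs.LinearOrder
import Mathlib.Order.Defs.PartialOrder
import Mathlib.Order.Defs.Prop
import Mathlib.Order.Defs.Unbundled
import Mathlib.Order.DirSupClosed
import Mathlib.Order.Directed
import Mathlib.Order.DirectedInverseSystem
import Mathlib.Order.Disjoint
import Mathlib.Order.Disjointed
import Mathlib.Order.Extension.Linear
import Mathlib.Order.Extension.Well
import Mathlib.Order.Filter.AtTopBot.Archimedean
import Mathlib.Order.Filter.AtTopBot.Basic
import Mathlib.Order.Filter.AtTopBot.BigOperators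
import Mathlib.Order.Filter.AtTopBot.CompleteLattice
import Mathlib.Order.Filter.AtTopBot.CountablyGenerated
import Mathlib.Order.Filter.AtTopBot.Defs
import Mathlib.Order.Filter.AtTopBot.Disjoint
import Mathlib.Order.Filter.AtTopBot.Field
import Mathlib.Order.Filter.AtTopBot.Finite
import Mathlib.Order.Filter.AtTopBot.Finset
import Mathlib.Order.Filter.AtTopBot.Floor
import Mathlib.Order.Filter.AtTopBot.Group
import Mathlib.Order.Filter.AtTopBot.Interval
import Mathlib.Order.Filter.AtTopBot.Map
import Mathlib.Order.Filter.AtTopBot.ModEq
import Mathlib.Order.Filter.AtTopBot.Monoid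
import Mathlib.Order.Filter.AtTopBot.Prod
import Mathlib.Order.Filter.AtTopBot.Ring
import Mathlib.Order.Filter.AtTopBot.Tendsto
import Mathlib.Order.Filter.Bases.Basic
import Mathlib.Order.Filter.Bases.Finite
import Mathlib.Order.Filter.Basic
import Mathlib.Order.Filter.CardinalInter
import Mathlib.Order.Filter.Cocardinal
import Mathlib.Order.Filter.Cofinite
import Mathlib.Order.Filter.CountableInter
import Mathlib.Order.Filter.CountableSeparatingOn
import Mathlib.Order.Filter.CountablyGenerated
import Mathlib.Order.Filter.Curry
import Mathlib.Order.Filter.Defs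
import Mathlib.Order.Filter.ENNReal
import Mathlib.Order.Filter.EventuallyConst
import Mathlib.Order.Filter.Extr
import Mathlib.Order.Filter.FilterProduct
import Mathlib.Order.Filter.Finite
import Mathlib.Order.Filter.Germ.Basic
import Mathlib.Order.Filter.Germ.OrderedMonoid
import Mathlib.Order.Filter.IndicatorFunction
import Mathlib.Order.Filter.Interval
import Mathlib.Order.Filter.IsBounded
import Mathlib.Order.Filter.Ker
import Mathlib.Order.Filter.Lift
import Mathlib.Order.Filter.ListTraverse
import Mathlib.Order.Filter.Map
import Mathlib.Order.Filter.NAry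
import Mathlib.Order.Filter.Partial
import Mathlib.Order.Filter.Pi
import Mathlib.Order.Filter.Pointwise
import Mathlib.Order.Filter.Prod
import Mathlib.Order.Filter.Ring
import Mathlib.Order.Filter.SmallSets
import Mathlib.Order.Filter.Subsingleton
import Mathlib.Order.Filter.Tendsto
import Mathlib.Order.Filter.TendstoCofinite
import Mathlib.Order.Filter.Ultrafilter.Basic
import Mathlib.Order.Filter.Ultrafilter.Defs
import Mathlib.Order.Filter.ZeroAndBoundedAtFilter
import Mathlib.Order.Fin.Basic
import Mathlib.Order.Fin.Clamp
import Mathlib.Order.Fin.Finset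
import Mathlib.Order.Fin.InsertNth
import Mathlib.Order.Fin.SuccAboveOrderIso
import Mathlib.Order.Fin.Tuple
import Mathlib.Order.FixedPoints
import Mathlib.Order.GaloisConnection.Basic
import Mathlib.Order.GaloisConnection.Defs
import Mathlib.Order.GameAdd
import Mathlib.Order.Grade
import Mathlib.Order.Height
import Mathlib.Order.Heyting.Basic
import Mathlib.Order.Heyting.Boundary
import Mathlib.Order.Heyting.Hom
import Mathlib.Order.Heyting.Regular
import Mathlib.Order.Hom.Basic
import Mathlib.Order.Hom.Bounded
import Mathlib.Order.Hom.BoundedLattice
import Mathlib.Order.Hom.CompleteLattice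
import Mathlib.Order.Hom.Lattice
import Mathlib.Order.Hom.Lex
import Mathlib.Order.Hom.Order
import Mathlib.Order.Hom.PowersetCard
import Mathlib.Order.Hom.Set
import Mathlib.Order.Hom.WithTopBot
import Mathlib.Order.Ideal
import Mathlib.Order.InitialSeg
import Mathlib.Order.Interval.Basic
import Mathlib.Order.Interval.Finset.Basic
import Mathlib.Order.Interval.Finset.Box
import Mathlib.Order.Interval.Finset.Defs
import Mathlib.Order.Interval.Finset.DenselyOrdered
import Mathlib.Order.Interval.Finset.Fin
import Mathlib.Order.Interval.Finset.Floor
import Mathlib.Order.Interval.Finset.Gaps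
import Mathlib.Order.Interval.Finset.Nat
import Mathlib.Order.Interval.Finset.SuccPred
import Mathlib.Order.Interval.Lex
import Mathlib.Order.Interval.Multiset
import Mathlib.Order.Interval.Set.Basic
import Mathlib.Order.Interval.Set.Defs
import Mathlib.Order.Interval.Set.Disjoint
import Mathlib.Order.Interval.Set.Fin
import Mathlib.Order.Interval.Set.Final
import Mathlib.Order.Interval.Set.Image
import Mathlib.Order.Interval.Set.Infinite
import Mathlib.Order.Interval.Set.InitialSeg
import Mathlib.Order.Interval.Set.IsoIoo
import Mathlib.Order.Interval.Set.Limit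
import Mathlib.Order.Interval.Set.LinearOrder
import Mathlib.Order.Interval.Set.Monotone
import Mathlib.Order.Interval.Set.Nat
import Mathlib.Order.Interval.Set.OrdConnected
import Mathlib.Order.Interval.Set.OrdConnectedComponent
import Mathlib.Order.Interval.Set.OrdConnectedLinear
import Mathlib.Order.Interval.Set.OrderEmbedding
import Mathlib.Order.Interval.Set.OrderIso
import Mathlib.Order.Interval.Set.Pi
import Mathlib.Order.Interval.Set.ProjIcc
import Mathlib.Order.Interval.Set.SuccOrder
import Mathlib.Order.Interval.Set.SuccPred
import Mathlib.Order.Interval.Set.SurjOn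
import Mathlib.Order.Interval.Set.Union
import Mathlib.Order.Interval.Set.UnorderedInterval
import Mathlib.Order.Interval.Set.WithBotTop
import Mathlib.Order.Irreducible
import Mathlib.Order.IsNormal
import Mathlib.Order.Iterate
import Mathlib.Order.JordanHolder
import Mathlib.Order.KonigLemma
import Mathlib.Order.KrullDimension
import Mathlib.Order.Lattice
import Mathlib.Order.Lattice.Congruence
import Mathlib.Order.Lattice.Nat
import Mathlib.Order.LatticeIntervals
import Mathlib.Order.Lex
import Mathlib.Order.LiminfLimsup
import Mathlib.Order.Max
import Mathlib.Order.MinMax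
import Mathlib.Order.Minimal
import Mathlib.Order.ModularLattice
import Mathlib.Order.Monotone.Basic
import Mathlib.Order.Monotone.Defs
import Mathlib.Order.Monotone.Extension
import Mathlib.Order.Monotone.Monovary
import Mathlib.Order.Monotone.MonovaryOrder
import Mathlib.Order.Monotone.Odd
import Mathlib.Order.Monotone.Union
import Mathlib.Order.Nat
import Mathlib.Order.NonemptyFiniteChains
import Mathlib.Order.Northcott
import Mathlib.Order.Notation
import Mathlib.Order.Nucleus
import Mathlib.Order.OmegaCompletePartialOrder
import Mathlib.Order.OrdContinuous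
import Mathlib.Order.OrderDual
import Mathlib.Order.OrderIsoNat
import Mathlib.Order.PFilter
import Mathlib.Order.Part
import Mathlib.Order.PartialSups
import Mathlib.Order.Partition.Basic
import Mathlib.Order.Partition.Equipartition
import Mathlib.Order.Partition.Finpartition
import Mathlib.Order.PiLex
import Mathlib.Order.Preorder.Chain
import Mathlib.Order.Preorder.Finite
import Mathlib.Order.Preorder.Finsupp
import Mathlib.Order.PrimeIdeal
import Mathlib.Order.PrimeSeparator
import Mathlib.Order.Prod.Lex.Hom
import Mathlib.Order.PropInstances
import Mathlib.Order.Quotient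
import Mathlib.Order.Radical
import Mathlib.Order.Rel.GaloisConnection
import Mathlib.Order.RelClasses
import Mathlib.Order.RelIso.Basic
import Mathlib.Order.RelIso.Set
import Mathlib.Order.RelSeries
import Mathlib.Order.Restriction
import Mathlib.Order.SaddlePoint
import Mathlib.Order.ScottContinuity
import Mathlib.Order.ScottContinuity.Complete
import Mathlib.Order.ScottContinuity.Prod
import Mathlib.Order.SemiconjSup
import Mathlib.Order.Set
import Mathlib.Order.SetAccumulate
import Mathlib.Order.SetDissipate
import Mathlib.Order.SetIsMax
import Mathlib.Order.SetNotation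
import Mathlib.Order.Shrink
import Mathlib.Order.Std
import Mathlib.Order.Sublattice
import Mathlib.Order.Sublocale
import Mathlib.Order.SuccPred.Archimedean
import Mathlib.Order.SuccPred.Basic
import Mathlib.Order.SuccPred.CompleteLinearOrder
import Mathlib.Order.SuccPred.InitialSeg
import Mathlib.Order.SuccPred.IntervalSucc
import Mathlib.Order.SuccPred.Limit
import Mathlib.Order.SuccPred.LinearLocallyFinite
import Mathlib.Order.SuccPred.Relation
import Mathlib.Order.SuccPred.Tree
import Mathlib.Order.SuccPred.WithBot
import Mathlib.Order.SupClosed
import Mathlib.Order.SupIndep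
import Mathlib.Order.SymmDiff
import Mathlib.Order.Synonym
import Mathlib.Order.TeichmullerTukey
import Mathlib.Order.TransfiniteIteration
import Mathlib.Order.TypeTags
import Mathlib.Order.Types.Arithmetic
import Mathlib.Order.Types.Defs
import Mathlib.Order.ULift
import Mathlib.Order.UpperLower.Basic
import Mathlib.Order.UpperLower.Closure
import Mathlib.Order.UpperLower.CompleteLattice
import Mathlib.Order.UpperLower.Fibration
import Mathlib.Order.UpperLower.Hom
import Mathlib.Order.UpperLower.LocallyFinite
import Mathlib.Order.UpperLower.Principal
import Mathlib.Order.UpperLower.Prod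
import Mathlib.Order.UpperLower.Relative
import Mathlib.Order.WellFounded
import Mathlib.Order.WellFoundedSet
import Mathlib.Order.WellQuasiOrder
import Mathlib.Order.WithBot
import Mathlib.Order.WithBotTop
import Mathlib.Order.Zorn
import Mathlib.Order.ZornAtoms
import Mathlib.Probability.BorelCantelli
import Mathlib.Probability.BrownianMotion.Basic
import Mathlib.Probability.BrownianMotion.GaussianProjectiveFamily
import Mathlib.Probability.CDF
import Mathlib.Probability.CentralLimitTheorem
import Mathlib.Probability.Combinatorics.BinomialRandomGraph.Defs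
import Mathlib.Probability.CondVar
import Mathlib.Probability.ConditionalExpectation
import Mathlib.Probability.ConditionalProbability
import Mathlib.Probability.Decision.BayesEstimator
import Mathlib.Probability.Decision.Risk.Basic
import Mathlib.Probability.Decision.Risk.Countable
import Mathlib.Probability.Decision.Risk.Defs
import Mathlib.Probability.Density
import Mathlib.Probability.Distributions.Bernoulli
import Mathlib.Probability.Distributions.Beta
import Mathlib.Probability.Distributions.Binomial
import Mathlib.Probability.Distributions.Cauchy
import Mathlib.Probability.Distributions.Exponential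
import Mathlib.Probability.Distributions.Fernique
import Mathlib.Probability.Distributions.Gamma
import Mathlib.Probability.Distributions.Gaussian.Basic
import Mathlib.Probability.Distributions.Gaussian.CharFun
import Mathlib.Probability.Distributions.Gaussian.Fernique
import Mathlib.Probability.Distributions.Gaussian.HasGaussianLaw.Basic
import Mathlib.Probability.Distributions.Gaussian.HasGaussianLaw.Def
import Mathlib.Probability.Distributions.Gaussian.HasGaussianLaw.Independence
import Mathlib.Probability.Distributions.Gaussian.IsGaussianProcess.Basic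
import Mathlib.Probability.Distributions.Gaussian.IsGaussianProcess.Def
import Mathlib.Probability.Distributions.Gaussian.IsGaussianProcess.Independence
import Mathlib.Probability.Distributions.Gaussian.Multivariate
import Mathlib.Probability.Distributions.Gaussian.Real
import Mathlib.Probability.Distributions.Geometric
import Mathlib.Probability.Distributions.Pareto
import Mathlib.Probability.Distributions.Poisson.Basic
import Mathlib.Probability.Distributions.Poisson.PoissonLimitThm
import Mathlib.Probability.Distributions.SetBernoulli
import Mathlib.Probability.Distributions.TwoValued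
import Mathlib.Probability.Distributions.Uniform
import Mathlib.Probability.HasCondDistrib
import Mathlib.Probability.HasLaw
import Mathlib.Probability.HasLawExists
import Mathlib.Probability.IdentDistrib
import Mathlib.Probability.IdentDistribIndep
import Mathlib.Probability.Independence.Basic
import Mathlib.Probability.Independence.BoundedContinuousFunction
import Mathlib.Probability.Independence.CharacteristicFunction
import Mathlib.Probability.Independence.Conditional
import Mathlib.Probability.Independence.InfinitePi
import Mathlib.Probability.Independence.Integrable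
import Mathlib.Probability.Independence.Integration
import Mathlib.Probability.Independence.Kernel.Indep
import Mathlib.Probability.Independence.Kernel.IndepFun
import Mathlib.Probability.Independence.Process.Basic
import Mathlib.Probability.Independence.Process.HasIndepIncrements
import Mathlib.Probability.Independence.Process.HasIndepIncrements.Basic
import Mathlib.Probability.Independence.Process.HasIndepIncrements.IsGaussianProcess
import Mathlib.Probability.Independence.ZeroOne
import Mathlib.Probability.Kernel.Basic
import Mathlib.Probability.Kernel.Category.SFinKer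
import Mathlib.Probability.Kernel.Category.Stoch
import Mathlib.Probability.Kernel.CompProdEqIff
import Mathlib.Probability.Kernel.Composition.AbsolutelyContinuous
import Mathlib.Probability.Kernel.Composition.Comp
import Mathlib.Probability.Kernel.Composition.CompMap
import Mathlib.Probability.Kernel.Composition.CompNotation
import Mathlib.Probability.Kernel.Composition.CompProd
import Mathlib.Probability.Kernel.Composition.IntegralCompProd
import Mathlib.Probability.Kernel.Composition.KernelLemmas
import Mathlib.Probability.Kernel.Composition.Lemmas
import Mathlib.Probability.Kernel.Composition.MapComap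
import Mathlib.Probability.Kernel.Composition.MeasureComp
import Mathlib.Probability.Kernel.Composition.MeasureCompProd
import Mathlib.Probability.Kernel.Composition.ParallelComp
import Mathlib.Probability.Kernel.Composition.Prod
import Mathlib.Probability.Kernel.Composition.RadonNikodym
import Mathlib.Probability.Kernel.CondDistrib
import Mathlib.Probability.Kernel.Condexp
import Mathlib.Probability.Kernel.Defs
import Mathlib.Probability.Kernel.Deterministic
import Mathlib.Probability.Kernel.Disintegration.Basic
import Mathlib.Probability.Kernel.Disintegration.CDFToKernel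
import Mathlib.Probability.Kernel.Disintegration.CondCDF
import Mathlib.Probability.Kernel.Disintegration.Density
import Mathlib.Probability.Kernel.Disintegration.Integral
import Mathlib.Probability.Kernel.Disintegration.MeasurableStieltjes
import Mathlib.Probability.Kernel.Disintegration.StandardBorel
import Mathlib.Probability.Kernel.Disintegration.Unique
import Mathlib.Probability.Kernel.Integral
import Mathlib.Probability.Kernel.Invariance
import Mathlib.Probability.Kernel.IonescuTulcea.Maps
import Mathlib.Probability.Kernel.IonescuTulcea.PartialTraj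
import Mathlib.Probability.Kernel.IonescuTulcea.Traj
import Mathlib.Probability.Kernel.Irreducible
import Mathlib.Probability.Kernel.MeasurableIntegral
import Mathlib.Probability.Kernel.MeasurableLIntegral
import Mathlib.Probability.Kernel.Posterior
import Mathlib.Probability.Kernel.Proper
import Mathlib.Probability.Kernel.RadonNikodym
import Mathlib.Probability.Kernel.Representation
import Mathlib.Probability.Kernel.SetIntegral
import Mathlib.Probability.Kernel.WithDensity
import Mathlib.Probability.Martingale.Basic
import Mathlib.Probability.Martingale.BorelCantelli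
import Mathlib.Probability.Martingale.Centering
import Mathlib.Probability.Martingale.Convergence
import Mathlib.Probability.Martingale.OptionalSampling
import Mathlib.Probability.Martingale.OptionalStopping
import Mathlib.Probability.Martingale.Upcrossing
import Mathlib.Probability.Moments.Basic
import Mathlib.Probability.Moments.ComplexMGF
import Mathlib.Probability.Moments.Covariance
import Mathlib.Probability.Moments.CovarianceBilin
import Mathlib.Probability.Moments.CovarianceBilinDual
import Mathlib.Probability.Moments.IntegrableExpMul
import Mathlib.Probability.Moments.MGFAnalytic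
import Mathlib.Probability.Moments.SubGaussian
import Mathlib.Probability.Moments.Tilted
import Mathlib.Probability.Moments.Variance
import Mathlib.Probability.Notation
import Mathlib.Probability.ProbabilityMassFunction.Basic
import Mathlib.Probability.ProbabilityMassFunction.Binomial
import Mathlib.Probability.ProbabilityMassFunction.Constructions
import Mathlib.Probability.ProbabilityMassFunction.Integrals
import Mathlib.Probability.ProbabilityMassFunction.Monad
import Mathlib.Probability.Process.Adapted
import Mathlib.Probability.Process.Filtration
import Mathlib.Probability.Process.FiniteDimensionalLaws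
import Mathlib.Probability.Process.HittingTime
import Mathlib.Probability.Process.Kolmogorov
import Mathlib.Probability.Process.LocalProperty
import Mathlib.Probability.Process.PartitionFiltration
import Mathlib.Probability.Process.Predictable
import Mathlib.Probability.Process.Stopping
import Mathlib.Probability.ProductMeasure
import Mathlib.Probability.StrongLaw
import Mathlib.Probability.UniformOn
import Mathlib.RepresentationTheory.Action
import Mathlib.RepresentationTheory.AlgebraRepresentation.Basic
import Mathlib.RepresentationTheory.Basic
import Mathlib.RepresentationTheory.Character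
import Mathlib.RepresentationTheory.Coinduced
import Mathlib.RepresentationTheory.Coinvariants
import Mathlib.RepresentationTheory.Continuous.Basic
import Mathlib.RepresentationTheory.Continuous.TopRep
import Mathlib.RepresentationTheory.Equiv
import Mathlib.RepresentationTheory.FDRep
import Mathlib.RepresentationTheory.FinGroupCharZero
import Mathlib.RepresentationTheory.FiniteIndex
import Mathlib.RepresentationTheory.Homological.ContCohomology.Basic
import Mathlib.RepresentationTheory.Homological.ContCohomology.Functoriality
import Mathlib.RepresentationTheory.Homological.ContCohomology.LowDegree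
import Mathlib.RepresentationTheory.Homological.FiniteCyclic
import Mathlib.RepresentationTheory.Homological.GroupCohomology.Basic
import Mathlib.RepresentationTheory.Homological.GroupCohomology.FiniteCyclic
import Mathlib.RepresentationTheory.Homological.GroupCohomology.Functoriality
import Mathlib.RepresentationTheory.Homological.GroupCohomology.Hilbert90
import Mathlib.RepresentationTheory.Homological.GroupCohomology.LongExactSequence
import Mathlib.RepresentationTheory.Homological.GroupCohomology.LowDegree
import Mathlib.RepresentationTheory.Homological.GroupCohomology.Shapiro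
import Mathlib.RepresentationTheory.Homological.GroupHomology.Basic
import Mathlib.RepresentationTheory.Homological.GroupHomology.FiniteCyclic
import Mathlib.RepresentationTheory.Homological.GroupHomology.Functoriality
import Mathlib.RepresentationTheory.Homological.GroupHomology.LongExactSequence
import Mathlib.RepresentationTheory.Homological.GroupHomology.LowDegree
import Mathlib.RepresentationTheory.Homological.GroupHomology.Shapiro
import Mathlib.RepresentationTheory.Homological.Resolution
import Mathlib.RepresentationTheory.Homological.TateCohomology.Basic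
import Mathlib.RepresentationTheory.Induced
import Mathlib.RepresentationTheory.Intertwining
import Mathlib.RepresentationTheory.Invariants
import Mathlib.RepresentationTheory.Irreducible
import Mathlib.RepresentationTheory.Maschke
import Mathlib.RepresentationTheory.Rep.Basic
import Mathlib.RepresentationTheory.Rep.Iso
import Mathlib.RepresentationTheory.Rep.Res
import Mathlib.RepresentationTheory.Semisimple
import Mathlib.RepresentationTheory.Submodule
import Mathlib.RepresentationTheory.Subrepresentation
import Mathlib.RepresentationTheory.Tannaka
import Mathlib.RingTheory.AdicCompletion.Algebra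
import Mathlib.RingTheory.AdicCompletion.AsTensorProduct
import Mathlib.RingTheory.AdicCompletion.Basic
import Mathlib.RingTheory.AdicCompletion.Completeness
import Mathlib.RingTheory.AdicCompletion.Exactness
import Mathlib.RingTheory.AdicCompletion.Functoriality
import Mathlib.RingTheory.AdicCompletion.LocalRing
import Mathlib.RingTheory.AdicCompletion.Noetherian
import Mathlib.RingTheory.AdicCompletion.RingHom
import Mathlib.RingTheory.AdicCompletion.Topology
import Mathlib.RingTheory.Adjoin.Basic
import Mathlib.RingTheory.Adjoin.Dimension
import Mathlib.RingTheory.Adjoin.FG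
import Mathlib.RingTheory.Adjoin.FGBaseChange
import Mathlib.RingTheory.Adjoin.Field
import Mathlib.RingTheory.Adjoin.Polynomial
import Mathlib.RingTheory.Adjoin.Polynomial.Basic
import Mathlib.RingTheory.Adjoin.Polynomial.Bivariate
import Mathlib.RingTheory.Adjoin.PowerBasis
import Mathlib.RingTheory.Adjoin.Singleton
import Mathlib.RingTheory.Adjoin.Tower
import Mathlib.RingTheory.AdjoinRoot
import Mathlib.RingTheory.AlgebraTower
import Mathlib.RingTheory.Algebraic.Basic
import Mathlib.RingTheory.Algebraic.Cardinality
import Mathlib.RingTheory.Algebraic.Defs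
import Mathlib.RingTheory.Algebraic.Denominator
import Mathlib.RingTheory.Algebraic.Integral
import Mathlib.RingTheory.Algebraic.LinearIndependent
import Mathlib.RingTheory.Algebraic.MvPolynomial
import Mathlib.RingTheory.Algebraic.Pi
import Mathlib.RingTheory.Algebraic.StronglyTranscendental
import Mathlib.RingTheory.AlgebraicIndependent.Adjoin
import Mathlib.RingTheory.AlgebraicIndependent.AlgebraicClosure
import Mathlib.RingTheory.AlgebraicIndependent.Basic
import Mathlib.RingTheory.AlgebraicIndependent.Defs
import Mathlib.RingTheory.AlgebraicIndependent.RankAndCardinality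
import Mathlib.RingTheory.AlgebraicIndependent.TranscendenceBasis
import Mathlib.RingTheory.AlgebraicIndependent.Transcendental
import Mathlib.RingTheory.Artinian.Algebra
import Mathlib.RingTheory.Artinian.Defs
import Mathlib.RingTheory.Artinian.Instances
import Mathlib.RingTheory.Artinian.Module
import Mathlib.RingTheory.Artinian.Ring
import Mathlib.RingTheory.Bezout
import Mathlib.RingTheory.Bialgebra.Basic
import Mathlib.RingTheory.Bialgebra.Convolution
import Mathlib.RingTheory.Bialgebra.Equiv
import Mathlib.RingTheory.Bialgebra.GroupLike
import Mathlib.RingTheory.Bialgebra.Hom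
import Mathlib.RingTheory.Bialgebra.MonoidAlgebra
import Mathlib.RingTheory.Bialgebra.Quotient
import Mathlib.RingTheory.Bialgebra.SymmetricAlgebra
import Mathlib.RingTheory.Bialgebra.TensorProduct
import Mathlib.RingTheory.Binomial
import Mathlib.RingTheory.ChainOfDivisors
import Mathlib.RingTheory.ClassGroup
import Mathlib.RingTheory.ClassGroup.Basic
import Mathlib.RingTheory.ClassGroup.ExtendedHom
import Mathlib.RingTheory.Coalgebra.Basic
import Mathlib.RingTheory.Coalgebra.CoassocSimps
import Mathlib.RingTheory.Coalgebra.Convolution
import Mathlib.RingTheory.Coalgebra.Equiv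
import Mathlib.RingTheory.Coalgebra.GroupLike
import Mathlib.RingTheory.Coalgebra.Hom
import Mathlib.RingTheory.Coalgebra.MonoidAlgebra
import Mathlib.RingTheory.Coalgebra.MulOpposite
import Mathlib.RingTheory.Coalgebra.Quotient
import Mathlib.RingTheory.Coalgebra.TensorProduct
import Mathlib.RingTheory.Complex
import Mathlib.RingTheory.Conductor
import Mathlib.RingTheory.Congruence.Basic
import Mathlib.RingTheory.Congruence.BigOperators
import Mathlib.RingTheory.Congruence.Defs
import Mathlib.RingTheory.Congruence.Hom
import Mathlib.RingTheory.Congruence.Opposite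
import Mathlib.RingTheory.Congruence.Star
import Mathlib.RingTheory.Coprime.Basic
import Mathlib.RingTheory.Coprime.Ideal
import Mathlib.RingTheory.Coprime.Lemmas
import Mathlib.RingTheory.DedekindDomain.AdicValuation
import Mathlib.RingTheory.DedekindDomain.Basic
import Mathlib.RingTheory.DedekindDomain.Different
import Mathlib.RingTheory.DedekindDomain.Dvr
import Mathlib.RingTheory.DedekindDomain.Factorization
import Mathlib.RingTheory.DedekindDomain.FiniteAdeleRing
import Mathlib.RingTheory.DedekindDomain.GaussLemma
import Mathlib.RingTheory.DedekindDomain.Ideal.Basic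
import Mathlib.RingTheory.DedekindDomain.Ideal.Lemmas
import Mathlib.RingTheory.DedekindDomain.Instances
import Mathlib.RingTheory.DedekindDomain.IntegralClosure
import Mathlib.RingTheory.DedekindDomain.LinearDisjoint
import Mathlib.RingTheory.DedekindDomain.PID
import Mathlib.RingTheory.DedekindDomain.SInteger
import Mathlib.RingTheory.DedekindDomain.SelmerGroup
import Mathlib.RingTheory.Depth.Rees
import Mathlib.RingTheory.Derivation.Basic
import Mathlib.RingTheory.Derivation.DifferentialRing
import Mathlib.RingTheory.Derivation.Lie
import Mathlib.RingTheory.Derivation.MapCoeffs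
import Mathlib.RingTheory.Derivation.ToSquareZero
import Mathlib.RingTheory.DiscreteValuationRing.Basic
import Mathlib.RingTheory.DiscreteValuationRing.TFAE
import Mathlib.RingTheory.Discriminant
import Mathlib.RingTheory.DividedPowerAlgebra.Init
import Mathlib.RingTheory.DividedPowers.Basic
import Mathlib.RingTheory.DividedPowers.DPMorphism
import Mathlib.RingTheory.DividedPowers.Padic
import Mathlib.RingTheory.DividedPowers.RatAlgebra
import Mathlib.RingTheory.DividedPowers.SubDPIdeal
import Mathlib.RingTheory.DualNumber
import Mathlib.RingTheory.EssentialFiniteness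
import Mathlib.RingTheory.Etale.Basic
import Mathlib.RingTheory.Etale.Descent
import Mathlib.RingTheory.Etale.Field
import Mathlib.RingTheory.Etale.Finite
import Mathlib.RingTheory.Etale.Kaehler
import Mathlib.RingTheory.Etale.Locus
import Mathlib.RingTheory.Etale.Pi
import Mathlib.RingTheory.Etale.QuasiFinite
import Mathlib.RingTheory.Etale.StandardEtale
import Mathlib.RingTheory.Etale.Weakly
import Mathlib.RingTheory.EuclideanDomain
import Mathlib.RingTheory.Extension.Basic
import Mathlib.RingTheory.Extension.Cotangent.BaseChange
import Mathlib.RingTheory.Extension.Cotangent.Basic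
import Mathlib.RingTheory.Extension.Cotangent.Basis
import Mathlib.RingTheory.Extension.Cotangent.Free
import Mathlib.RingTheory.Extension.Cotangent.LocalizationAway
import Mathlib.RingTheory.Extension.ExtendScalars
import Mathlib.RingTheory.Extension.Generators
import Mathlib.RingTheory.Extension.Presentation.Basic
import Mathlib.RingTheory.Extension.Presentation.Core
import Mathlib.RingTheory.Extension.Presentation.Submersive
import Mathlib.RingTheory.FilteredAlgebra.Basic
import Mathlib.RingTheory.Filtration
import Mathlib.RingTheory.FiniteLength
import Mathlib.RingTheory.FinitePresentation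
import Mathlib.RingTheory.FiniteStability
import Mathlib.RingTheory.FiniteType
import Mathlib.RingTheory.Finiteness.Basic
import Mathlib.RingTheory.Finiteness.Bilinear
import Mathlib.RingTheory.Finiteness.Cardinality
import Mathlib.RingTheory.Finiteness.Cofinite
import Mathlib.RingTheory.Finiteness.Defs
import Mathlib.RingTheory.Finiteness.Descent
import Mathlib.RingTheory.Finiteness.FinitePresentationLocal
import Mathlib.RingTheory.Finiteness.FiniteTypeLocal
import Mathlib.RingTheory.Finiteness.Finsupp
import Mathlib.RingTheory.Finiteness.Ideal
import Mathlib.RingTheory.Finiteness.Lattice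
import Mathlib.RingTheory.Finiteness.ModuleFinitePresentation
import Mathlib.RingTheory.Finiteness.Nakayama
import Mathlib.RingTheory.Finiteness.Nilpotent
import Mathlib.RingTheory.Finiteness.NilpotentKer
import Mathlib.RingTheory.Finiteness.Prod
import Mathlib.RingTheory.Finiteness.Projective
import Mathlib.RingTheory.Finiteness.Quotient
import Mathlib.RingTheory.Finiteness.Small
import Mathlib.RingTheory.Finiteness.Subalgebra
import Mathlib.RingTheory.Fintype
import Mathlib.RingTheory.Flat.Basic
import Mathlib.RingTheory.Flat.CategoryTheory
import Mathlib.RingTheory.Flat.Domain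
import Mathlib.RingTheory.Flat.Equalizer
import Mathlib.RingTheory.Flat.EquationalCriterion
import Mathlib.RingTheory.Flat.FaithfullyFlat.Algebra
import Mathlib.RingTheory.Flat.FaithfullyFlat.Basic
import Mathlib.RingTheory.Flat.FaithfullyFlat.Descent
import Mathlib.RingTheory.Flat.IsBaseChange
import Mathlib.RingTheory.Flat.Localization
import Mathlib.RingTheory.Flat.LocallyFree
import Mathlib.RingTheory.Flat.Rank
import Mathlib.RingTheory.Flat.Stability
import Mathlib.RingTheory.Flat.Tensor
import Mathlib.RingTheory.Flat.TorsionFree
import Mathlib.RingTheory.FormalGroup.Basic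
import Mathlib.RingTheory.FractionalIdeal.Basic
import Mathlib.RingTheory.FractionalIdeal.Extended
import Mathlib.RingTheory.FractionalIdeal.Inverse
import Mathlib.RingTheory.FractionalIdeal.Norm
import Mathlib.RingTheory.FractionalIdeal.Operations
import Mathlib.RingTheory.FreeCommRing
import Mathlib.RingTheory.FreeRing
import Mathlib.RingTheory.Frobenius
import Mathlib.RingTheory.GradedAlgebra.AlgHom
import Mathlib.RingTheory.GradedAlgebra.Basic
import Mathlib.RingTheory.GradedAlgebra.FiniteType
import Mathlib.RingTheory.GradedAlgebra.Homogeneous.Ideal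
import Mathlib.RingTheory.GradedAlgebra.Homogeneous.Maps
import Mathlib.RingTheory.GradedAlgebra.Homogeneous.Submodule
import Mathlib.RingTheory.GradedAlgebra.Homogeneous.Subsemiring
import Mathlib.RingTheory.GradedAlgebra.HomogeneousLocalization
import Mathlib.RingTheory.GradedAlgebra.Noetherian
import Mathlib.RingTheory.GradedAlgebra.Radical
import Mathlib.RingTheory.GradedAlgebra.RingHom
import Mathlib.RingTheory.GradedAlgebra.TensorProduct
import Mathlib.RingTheory.Grassmannian
import Mathlib.RingTheory.HahnSeries.Addition
import Mathlib.RingTheory.HahnSeries.Basic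
import Mathlib.RingTheory.Henselian
import Mathlib.RingTheory.HopfAlgebra.Basic
import Mathlib.RingTheory.HopfAlgebra.Convolution
import Mathlib.RingTheory.HopfAlgebra.GroupLike
import Mathlib.RingTheory.HopfAlgebra.MonoidAlgebra
import Mathlib.RingTheory.HopfAlgebra.Quotient
import Mathlib.RingTheory.HopfAlgebra.TensorProduct
import Mathlib.RingTheory.HopkinsLevitzki
import Mathlib.RingTheory.Ideal.AssociatedPrime.Basic
import Mathlib.RingTheory.Ideal.AssociatedPrime.Finiteness
import Mathlib.RingTheory.Ideal.AssociatedPrime.Localization
import Mathlib.RingTheory.Ideal.Basic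
import Mathlib.RingTheory.Ideal.Basis
import Mathlib.RingTheory.Ideal.BigOperators
import Mathlib.RingTheory.Ideal.Colon
import Mathlib.RingTheory.Ideal.Cotangent
import Mathlib.RingTheory.Ideal.CotangentBaseChange
import Mathlib.RingTheory.Ideal.Defs
import Mathlib.RingTheory.Ideal.Finsupp
import Mathlib.RingTheory.Ideal.GoingDown
import Mathlib.RingTheory.Ideal.GoingUp
import Mathlib.RingTheory.Ideal.HasGoingUp
import Mathlib.RingTheory.Ideal.Height
import Mathlib.RingTheory.Ideal.IdempotentFG
import Mathlib.RingTheory.Ideal.Int
import Mathlib.RingTheory.Ideal.IsAugmentation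
import Mathlib.RingTheory.Ideal.IsPrimary
import Mathlib.RingTheory.Ideal.IsPrincipal
import Mathlib.RingTheory.Ideal.IsPrincipalPowQuotient
import Mathlib.RingTheory.Ideal.KrullsHeightTheorem
import Mathlib.RingTheory.Ideal.Lattice
import Mathlib.RingTheory.Ideal.Maps
import Mathlib.RingTheory.Ideal.Maximal
import Mathlib.RingTheory.Ideal.MinimalPrime.Basic
import Mathlib.RingTheory.Ideal.MinimalPrime.Colon
import Mathlib.RingTheory.Ideal.MinimalPrime.Localization
import Mathlib.RingTheory.Ideal.MinimalPrime.Noetherian
import Mathlib.RingTheory.Ideal.MonicSpan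
import Mathlib.RingTheory.Ideal.NatInt
import Mathlib.RingTheory.Ideal.Nonunits
import Mathlib.RingTheory.Ideal.Norm.AbsNorm
import Mathlib.RingTheory.Ideal.Norm.RelNorm
import Mathlib.RingTheory.Ideal.Oka
import Mathlib.RingTheory.Ideal.Operations
import Mathlib.RingTheory.Ideal.Over
import Mathlib.RingTheory.Ideal.Pointwise
import Mathlib.RingTheory.Ideal.Prime
import Mathlib.RingTheory.Ideal.Prod
import Mathlib.RingTheory.Ideal.Pure
import Mathlib.RingTheory.Ideal.Quotient.Basic
import Mathlib.RingTheory.Ideal.Quotient.ChineseRemainder
import Mathlib.RingTheory.Ideal.Quotient.Defs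
import Mathlib.RingTheory.Ideal.Quotient.HasFiniteQuotients
import Mathlib.RingTheory.Ideal.Quotient.Index
import Mathlib.RingTheory.Ideal.Quotient.Nilpotent
import Mathlib.RingTheory.Ideal.Quotient.Noetherian
import Mathlib.RingTheory.Ideal.Quotient.Operations
import Mathlib.RingTheory.Ideal.Quotient.Over
import Mathlib.RingTheory.Ideal.Quotient.PowTransition
import Mathlib.RingTheory.Ideal.Span
import Mathlib.RingTheory.Ideal.UFD
import Mathlib.RingTheory.IdealFilter.Basic
import Mathlib.RingTheory.IdealFilter.Topology
import Mathlib.RingTheory.Idempotents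
import Mathlib.RingTheory.Int.Basic
import Mathlib.RingTheory.IntegralClosure.Algebra.Basic
import Mathlib.RingTheory.IntegralClosure.Algebra.Defs
import Mathlib.RingTheory.IntegralClosure.Algebra.Ideal
import Mathlib.RingTheory.IntegralClosure.GoingDown
import Mathlib.RingTheory.IntegralClosure.IntegralRestrict
import Mathlib.RingTheory.IntegralClosure.IntegrallyClosed
import Mathlib.RingTheory.IntegralClosure.IsIntegral.AlmostIntegral
import Mathlib.RingTheory.IntegralClosure.IsIntegral.Basic
import Mathlib.RingTheory.IntegralClosure.IsIntegral.Defs
import Mathlib.RingTheory.IntegralClosure.IsIntegralClosure.Basic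
import Mathlib.RingTheory.IntegralClosure.IsIntegralClosure.Defs
import Mathlib.RingTheory.IntegralDomain
import Mathlib.RingTheory.Invariant.Basic
import Mathlib.RingTheory.Invariant.Defs
import Mathlib.RingTheory.Invariant.Galois
import Mathlib.RingTheory.Invariant.Profinite
import Mathlib.RingTheory.IsAdjoinRoot
import Mathlib.RingTheory.IsGaloisGroup.Basic
import Mathlib.RingTheory.IsGaloisGroup.Defs
import Mathlib.RingTheory.IsPrimary
import Mathlib.RingTheory.IsTensorProduct
import Mathlib.RingTheory.Jacobson.Artinian
import Mathlib.RingTheory.Jacobson.Ideal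
import Mathlib.RingTheory.Jacobson.Polynomial
import Mathlib.RingTheory.Jacobson.Radical
import Mathlib.RingTheory.Jacobson.Ring
import Mathlib.RingTheory.Jacobson.Semiprimary
import Mathlib.RingTheory.Kaehler.Basic
import Mathlib.RingTheory.Kaehler.JacobiZariski
import Mathlib.RingTheory.Kaehler.Polynomial
import Mathlib.RingTheory.Kaehler.TensorProduct
import Mathlib.RingTheory.KrullDimension.Basic
import Mathlib.RingTheory.KrullDimension.Field
import Mathlib.RingTheory.KrullDimension.LocalRing
import Mathlib.RingTheory.KrullDimension.Module
import Mathlib.RingTheory.KrullDimension.NonZeroDivisors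
import Mathlib.RingTheory.KrullDimension.PID
import Mathlib.RingTheory.KrullDimension.Polynomial
import Mathlib.RingTheory.KrullDimension.Regular
import Mathlib.RingTheory.KrullDimension.Zero
import Mathlib.RingTheory.Lasker
import Mathlib.RingTheory.Length
import Mathlib.RingTheory.LinearDisjoint
import Mathlib.RingTheory.LittleWedderburn
import Mathlib.RingTheory.LocalIso
import Mathlib.RingTheory.LocalProperties.Basic
import Mathlib.RingTheory.LocalProperties.Exactness
import Mathlib.RingTheory.LocalProperties.FinitePresentation
import Mathlib.RingTheory.LocalProperties.Injective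
import Mathlib.RingTheory.LocalProperties.InjectiveDimension
import Mathlib.RingTheory.LocalProperties.IntegrallyClosed
import Mathlib.RingTheory.LocalProperties.Projective
import Mathlib.RingTheory.LocalProperties.ProjectiveDimension
import Mathlib.RingTheory.LocalProperties.Reduced
import Mathlib.RingTheory.LocalProperties.Semilocal
import Mathlib.RingTheory.LocalProperties.Submodule
import Mathlib.RingTheory.LocalRing.Basic
import Mathlib.RingTheory.LocalRing.Defs
import Mathlib.RingTheory.LocalRing.Etale
import Mathlib.RingTheory.LocalRing.Length
import Mathlib.RingTheory.LocalRing.LocalSubring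
import Mathlib.RingTheory.LocalRing.MaximalIdeal.Basic
import Mathlib.RingTheory.LocalRing.MaximalIdeal.Defs
import Mathlib.RingTheory.LocalRing.MaximalIdeal.Square
import Mathlib.RingTheory.LocalRing.Module
import Mathlib.RingTheory.LocalRing.NonLocalRing
import Mathlib.RingTheory.LocalRing.Pullback
import Mathlib.RingTheory.LocalRing.Quotient
import Mathlib.RingTheory.LocalRing.ResidueField.Basic
import Mathlib.RingTheory.LocalRing.ResidueField.Defs
import Mathlib.RingTheory.LocalRing.ResidueField.Fiber
import Mathlib.RingTheory.LocalRing.ResidueField.Ideal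
import Mathlib.RingTheory.LocalRing.ResidueField.Instances
import Mathlib.RingTheory.LocalRing.ResidueField.Polynomial
import Mathlib.RingTheory.LocalRing.RingHom.Basic
import Mathlib.RingTheory.LocalRing.Subring
import Mathlib.RingTheory.Localization.Algebra
import Mathlib.RingTheory.Localization.AsSubring
import Mathlib.RingTheory.Localization.AtPrime.Basic
import Mathlib.RingTheory.Localization.AtPrime.Extension
import Mathlib.RingTheory.Localization.Away.AdjoinRoot
import Mathlib.RingTheory.Localization.Away.Basic
import Mathlib.RingTheory.Localization.Away.Lemmas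
import Mathlib.RingTheory.Localization.BaseChange
import Mathlib.RingTheory.Localization.Basic
import Mathlib.RingTheory.Localization.Cardinality
import Mathlib.RingTheory.Localization.Defs
import Mathlib.RingTheory.Localization.Finiteness
import Mathlib.RingTheory.Localization.FractionRing
import Mathlib.RingTheory.Localization.Free
import Mathlib.RingTheory.Localization.Ideal
import Mathlib.RingTheory.Localization.Integer
import Mathlib.RingTheory.Localization.Integral
import Mathlib.RingTheory.Localization.InvSubmonoid
import Mathlib.RingTheory.Localization.LocalizationLocalization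
import Mathlib.RingTheory.Localization.Module
import Mathlib.RingTheory.Localization.NormTrace
import Mathlib.RingTheory.Localization.NumDen
import Mathlib.RingTheory.Localization.Pi
import Mathlib.RingTheory.Localization.Rat
import Mathlib.RingTheory.Localization.Submodule
import Mathlib.RingTheory.MatrixAlgebra
import Mathlib.RingTheory.MatrixPolynomialAlgebra
import Mathlib.RingTheory.Morita.Basic
import Mathlib.RingTheory.Morita.Matrix
import Mathlib.RingTheory.Multiplicity
import Mathlib.RingTheory.MvPolynomial
import Mathlib.RingTheory.MvPolynomial.Basic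
import Mathlib.RingTheory.MvPolynomial.EulerIdentity
import Mathlib.RingTheory.MvPolynomial.Expand
import Mathlib.RingTheory.MvPolynomial.FreeCommRing
import Mathlib.RingTheory.MvPolynomial.Groebner
import Mathlib.RingTheory.MvPolynomial.Homogeneous
import Mathlib.RingTheory.MvPolynomial.Ideal
import Mathlib.RingTheory.MvPolynomial.IrreducibleQuadratic
import Mathlib.RingTheory.MvPolynomial.Localization
import Mathlib.RingTheory.MvPolynomial.MonomialOrder
import Mathlib.RingTheory.MvPolynomial.MonomialOrder.DegLex
import Mathlib.RingTheory.MvPolynomial.Symmetric.Defs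
import Mathlib.RingTheory.MvPolynomial.Symmetric.FundamentalTheorem
import Mathlib.RingTheory.MvPolynomial.Symmetric.NewtonIdentities
import Mathlib.RingTheory.MvPolynomial.Tower
import Mathlib.RingTheory.MvPolynomial.WeightedHomogeneous
import Mathlib.RingTheory.MvPowerSeries.Basic
import Mathlib.RingTheory.MvPowerSeries.Derivative
import Mathlib.RingTheory.MvPowerSeries.Equiv
import Mathlib.RingTheory.MvPowerSeries.Evaluation
import Mathlib.RingTheory.MvPowerSeries.Expand
import Mathlib.RingTheory.MvPowerSeries.GaussNorm
import Mathlib.RingTheory.MvPowerSeries.Inverse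
import Mathlib.RingTheory.MvPowerSeries.LexOrder
import Mathlib.RingTheory.MvPowerSeries.LinearTopology
import Mathlib.RingTheory.MvPowerSeries.NoZeroDivisors
import Mathlib.RingTheory.MvPowerSeries.Order
import Mathlib.RingTheory.MvPowerSeries.PiTopology
import Mathlib.RingTheory.MvPowerSeries.Rename
import Mathlib.RingTheory.MvPowerSeries.Restricted
import Mathlib.RingTheory.MvPowerSeries.Substitution
import Mathlib.RingTheory.MvPowerSeries.Trunc
import Mathlib.RingTheory.Nakayama
import Mathlib.RingTheory.Nilpotent.Basic
import Mathlib.RingTheory.Nilpotent.Defs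
import Mathlib.RingTheory.Nilpotent.Exp
import Mathlib.RingTheory.Nilpotent.GeometricallyReduced
import Mathlib.RingTheory.Nilpotent.Lemmas
import Mathlib.RingTheory.NoetherNormalization
import Mathlib.RingTheory.Noetherian.Basic
import Mathlib.RingTheory.Noetherian.Defs
import Mathlib.RingTheory.Noetherian.Filter
import Mathlib.RingTheory.Noetherian.Nilpotent
import Mathlib.RingTheory.Noetherian.OfPrime
import Mathlib.RingTheory.Noetherian.Orzech
import Mathlib.RingTheory.Noetherian.UniqueFactorizationDomain
import Mathlib.RingTheory.NonUnitalSubring.Basic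
import Mathlib.RingTheory.NonUnitalSubring.Defs
import Mathlib.RingTheory.NonUnitalSubsemiring.Basic
import Mathlib.RingTheory.NonUnitalSubsemiring.Defs
import Mathlib.RingTheory.Norm.Basic
import Mathlib.RingTheory.Norm.Defs
import Mathlib.RingTheory.Norm.Transitivity
import Mathlib.RingTheory.NormTrace
import Mathlib.RingTheory.NormalClosure
import Mathlib.RingTheory.Nullstellensatz
import Mathlib.RingTheory.OrderOfVanishing.Basic
import Mathlib.RingTheory.OrderOfVanishing.Noetherian
import Mathlib.RingTheory.OreLocalization.Basic
import Mathlib.RingTheory.OreLocalization.Cardinality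
import Mathlib.RingTheory.OreLocalization.NonZeroDivisors
import Mathlib.RingTheory.OreLocalization.OreSet
import Mathlib.RingTheory.OreLocalization.Ring
import Mathlib.RingTheory.OrzechProperty
import Mathlib.RingTheory.Perfection
import Mathlib.RingTheory.Perfectoid.BDeRham
import Mathlib.RingTheory.Perfectoid.FontaineTheta
import Mathlib.RingTheory.Perfectoid.Untilt
import Mathlib.RingTheory.PiTensorProduct
import Mathlib.RingTheory.PicardGroup
import Mathlib.RingTheory.Polynomial.Basic
import Mathlib.RingTheory.Polynomial.Bernstein
import Mathlib.RingTheory.Polynomial.Chebyshev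
import Mathlib.RingTheory.Polynomial.Content
import Mathlib.RingTheory.Polynomial.ContentIdeal
import Mathlib.RingTheory.Polynomial.Cyclotomic.Basic
import Mathlib.RingTheory.Polynomial.Cyclotomic.Eval
import Mathlib.RingTheory.Polynomial.Cyclotomic.Expand
import Mathlib.RingTheory.Polynomial.Cyclotomic.Factorization
import Mathlib.RingTheory.Polynomial.Cyclotomic.Roots
import Mathlib.RingTheory.Polynomial.DegreeLT
import Mathlib.RingTheory.Polynomial.Dickson
import Mathlib.RingTheory.Polynomial.Eisenstein.Basic
import Mathlib.RingTheory.Polynomial.Eisenstein.Criterion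
import Mathlib.RingTheory.Polynomial.Eisenstein.Distinguished
import Mathlib.RingTheory.Polynomial.Eisenstein.IsIntegral
import Mathlib.RingTheory.Polynomial.GaussLemma
import Mathlib.RingTheory.Polynomial.GaussNorm
import Mathlib.RingTheory.Polynomial.Hermite.Basic
import Mathlib.RingTheory.Polynomial.Hermite.Gaussian
import Mathlib.RingTheory.Polynomial.HilbertPoly
import Mathlib.RingTheory.Polynomial.Ideal
import Mathlib.RingTheory.Polynomial.IntegralNormalization
import Mathlib.RingTheory.Polynomial.IrreducibleRing
import Mathlib.RingTheory.Polynomial.IsIntegral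
import Mathlib.RingTheory.Polynomial.Morse
import Mathlib.RingTheory.Polynomial.Nilpotent
import Mathlib.RingTheory.Polynomial.Opposites
import Mathlib.RingTheory.Polynomial.Pochhammer
import Mathlib.RingTheory.Polynomial.Quotient
import Mathlib.RingTheory.Polynomial.Radical
import Mathlib.RingTheory.Polynomial.RationalRoot
import Mathlib.RingTheory.Polynomial.Resultant.Basic
import Mathlib.RingTheory.Polynomial.ScaleRoots
import Mathlib.RingTheory.Polynomial.Selmer
import Mathlib.RingTheory.Polynomial.SeparableDegree
import Mathlib.RingTheory.Polynomial.ShiftedLegendre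
import Mathlib.RingTheory.Polynomial.SmallDegreeVieta
import Mathlib.RingTheory.Polynomial.Subring
import Mathlib.RingTheory.Polynomial.Tower
import Mathlib.RingTheory.Polynomial.UniqueFactorization
import Mathlib.RingTheory.Polynomial.UniversalFactorizationRing
import Mathlib.RingTheory.Polynomial.Vieta
import Mathlib.RingTheory.Polynomial.Wronskian
import Mathlib.RingTheory.PolynomialAlgebra
import Mathlib.RingTheory.PolynomialLaw.Basic
import Mathlib.RingTheory.PowerBasis
import Mathlib.RingTheory.PowerSeries.Basic
import Mathlib.RingTheory.PowerSeries.Binomial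
import Mathlib.RingTheory.PowerSeries.Catalan
import Mathlib.RingTheory.PowerSeries.CoeffMulMem
import Mathlib.RingTheory.PowerSeries.Derivative
import Mathlib.RingTheory.PowerSeries.Evaluation
import Mathlib.RingTheory.PowerSeries.Exp
import Mathlib.RingTheory.PowerSeries.Expand
import Mathlib.RingTheory.PowerSeries.GaussNorm
import Mathlib.RingTheory.PowerSeries.Ideal
import Mathlib.RingTheory.PowerSeries.Inverse
import Mathlib.RingTheory.PowerSeries.Log
import Mathlib.RingTheory.PowerSeries.NoZeroDivisors
import Mathlib.RingTheory.PowerSeries.Order
import Mathlib.RingTheory.PowerSeries.PiTopology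
import Mathlib.RingTheory.PowerSeries.Restricted
import Mathlib.RingTheory.PowerSeries.Schroder
import Mathlib.RingTheory.PowerSeries.Substitution
import Mathlib.RingTheory.PowerSeries.Trunc
import Mathlib.RingTheory.PowerSeries.WeierstrassPreparation
import Mathlib.RingTheory.PowerSeries.WellKnown
import Mathlib.RingTheory.Prime
import Mathlib.RingTheory.PrincipalIdealDomain
import Mathlib.RingTheory.PrincipalIdealDomainOfPrime
import Mathlib.RingTheory.QuasiFinite.Basic
import Mathlib.RingTheory.QuasiFinite.Polynomial
import Mathlib.RingTheory.QuasiFinite.Weakly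
import Mathlib.RingTheory.QuotSMulTop
import Mathlib.RingTheory.Radical
import Mathlib.RingTheory.Radical.Basic
import Mathlib.RingTheory.Radical.NatInt
import Mathlib.RingTheory.RamificationInertia.Basic
import Mathlib.RingTheory.RamificationInertia.Inertia
import Mathlib.RingTheory.RamificationInertia.Ramification
import Mathlib.RingTheory.ReesAlgebra
import Mathlib.RingTheory.Regular.Category
import Mathlib.RingTheory.Regular.Depth
import Mathlib.RingTheory.Regular.Flat
import Mathlib.RingTheory.Regular.Free
import Mathlib.RingTheory.Regular.IsSMulRegular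
import Mathlib.RingTheory.Regular.LinearMap
import Mathlib.RingTheory.Regular.ProjectiveDimension
import Mathlib.RingTheory.Regular.RegularSequence
import Mathlib.RingTheory.RegularLocalRing.Defs
import Mathlib.RingTheory.RegularLocalRing.Polynomial
import Mathlib.RingTheory.RingHom.Bijective
import Mathlib.RingTheory.RingHom.EssFiniteType
import Mathlib.RingTheory.RingHom.Etale
import Mathlib.RingTheory.RingHom.FaithfullyFlat
import Mathlib.RingTheory.RingHom.Finite
import Mathlib.RingTheory.RingHom.FinitePresentation
import Mathlib.RingTheory.RingHom.FiniteType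
import Mathlib.RingTheory.RingHom.Flat
import Mathlib.RingTheory.RingHom.Injective
import Mathlib.RingTheory.RingHom.Integral
import Mathlib.RingTheory.RingHom.Locally
import Mathlib.RingTheory.RingHom.LocallyStandardSmooth
import Mathlib.RingTheory.RingHom.OpenImmersion
import Mathlib.RingTheory.RingHom.PurelyInseparable
import Mathlib.RingTheory.RingHom.QuasiFinite
import Mathlib.RingTheory.RingHom.Smooth
import Mathlib.RingTheory.RingHom.StandardSmooth
import Mathlib.RingTheory.RingHom.Surjective
import Mathlib.RingTheory.RingHom.Unramified
import Mathlib.RingTheory.RingHomProperties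
import Mathlib.RingTheory.RingInvo
import Mathlib.RingTheory.RootsOfUnity.AlgebraicallyClosed
import Mathlib.RingTheory.RootsOfUnity.Basic
import Mathlib.RingTheory.RootsOfUnity.Complex
import Mathlib.RingTheory.RootsOfUnity.CyclotomicUnits
import Mathlib.RingTheory.RootsOfUnity.EnoughRootsOfUnity
import Mathlib.RingTheory.RootsOfUnity.Lemmas
import Mathlib.RingTheory.RootsOfUnity.Minpoly
import Mathlib.RingTheory.RootsOfUnity.PrimitiveRoots
import Mathlib.RingTheory.SimpleModule.Basic
import Mathlib.RingTheory.SimpleModule.InjectiveProjective
import Mathlib.RingTheory.SimpleModule.IsAlgClosed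
import Mathlib.RingTheory.SimpleModule.Isotypic
import Mathlib.RingTheory.SimpleModule.Rank
import Mathlib.RingTheory.SimpleModule.WedderburnArtin
import Mathlib.RingTheory.SimpleRing.Basic
import Mathlib.RingTheory.SimpleRing.Congr
import Mathlib.RingTheory.SimpleRing.Defs
import Mathlib.RingTheory.SimpleRing.DivisionRing
import Mathlib.RingTheory.SimpleRing.Field
import Mathlib.RingTheory.SimpleRing.Matrix
import Mathlib.RingTheory.SimpleRing.Principal
import Mathlib.RingTheory.Smooth.AdicCompletion
import Mathlib.RingTheory.Smooth.Basic
import Mathlib.RingTheory.Smooth.Fiber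
import Mathlib.RingTheory.Smooth.Field
import Mathlib.RingTheory.Smooth.Flat
import Mathlib.RingTheory.Smooth.IntegralClosure
import Mathlib.RingTheory.Smooth.Kaehler
import Mathlib.RingTheory.Smooth.Local
import Mathlib.RingTheory.Smooth.Locus
import Mathlib.RingTheory.Smooth.NoetherianDescent
import Mathlib.RingTheory.Smooth.Pi
import Mathlib.RingTheory.Smooth.Quotient
import Mathlib.RingTheory.Smooth.StandardSmooth
import Mathlib.RingTheory.Smooth.StandardSmoothCotangent
import Mathlib.RingTheory.Smooth.StandardSmoothOfFree
import Mathlib.RingTheory.Spectrum.Maximal.Basic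
import Mathlib.RingTheory.Spectrum.Maximal.Defs
import Mathlib.RingTheory.Spectrum.Maximal.Localization
import Mathlib.RingTheory.Spectrum.Maximal.Topology
import Mathlib.RingTheory.Spectrum.Prime.Basic
import Mathlib.RingTheory.Spectrum.Prime.Chevalley
import Mathlib.RingTheory.Spectrum.Prime.ChevalleyComplexity
import Mathlib.RingTheory.Spectrum.Prime.ConstructibleSet
import Mathlib.RingTheory.Spectrum.Prime.Defs
import Mathlib.RingTheory.Spectrum.Prime.FreeLocus
import Mathlib.RingTheory.Spectrum.Prime.Homeomorph
import Mathlib.RingTheory.Spectrum.Prime.IsOpenComapC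
import Mathlib.RingTheory.Spectrum.Prime.Jacobson
import Mathlib.RingTheory.Spectrum.Prime.LTSeries
import Mathlib.RingTheory.Spectrum.Prime.Module
import Mathlib.RingTheory.Spectrum.Prime.Noetherian
import Mathlib.RingTheory.Spectrum.Prime.Polynomial
import Mathlib.RingTheory.Spectrum.Prime.RingHom
import Mathlib.RingTheory.Spectrum.Prime.TensorProduct
import Mathlib.RingTheory.Spectrum.Prime.Topology
import Mathlib.RingTheory.Support
import Mathlib.RingTheory.SurjectiveOnStalks
import Mathlib.RingTheory.Teichmuller
import Mathlib.RingTheory.TensorProduct.Basic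
import Mathlib.RingTheory.TensorProduct.DirectLimitFG
import Mathlib.RingTheory.TensorProduct.Finite
import Mathlib.RingTheory.TensorProduct.Free
import Mathlib.RingTheory.TensorProduct.IncludeLeftSubRight
import Mathlib.RingTheory.TensorProduct.IsBaseChangeFree
import Mathlib.RingTheory.TensorProduct.IsBaseChangeHom
import Mathlib.RingTheory.TensorProduct.IsBaseChangePi
import Mathlib.RingTheory.TensorProduct.IsBaseChangeRightExact
import Mathlib.RingTheory.TensorProduct.Maps
import Mathlib.RingTheory.TensorProduct.MonoidAlgebra
import Mathlib.RingTheory.TensorProduct.MvPolynomial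
import Mathlib.RingTheory.TensorProduct.Nontrivial
import Mathlib.RingTheory.TensorProduct.Pi
import Mathlib.RingTheory.TensorProduct.Quotient
import Mathlib.RingTheory.TotallySplit
import Mathlib.RingTheory.Trace.Basic
import Mathlib.RingTheory.Trace.Defs
import Mathlib.RingTheory.Trace.Quotient
import Mathlib.RingTheory.TwoSidedIdeal.Basic
import Mathlib.RingTheory.TwoSidedIdeal.BigOperators
import Mathlib.RingTheory.TwoSidedIdeal.Instances
import Mathlib.RingTheory.TwoSidedIdeal.Kernel
import Mathlib.RingTheory.TwoSidedIdeal.Lattice
import Mathlib.RingTheory.TwoSidedIdeal.Operations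
import Mathlib.RingTheory.UniqueFactorizationDomain.Basic
import Mathlib.RingTheory.UniqueFactorizationDomain.ClassGroup
import Mathlib.RingTheory.UniqueFactorizationDomain.Defs
import Mathlib.RingTheory.UniqueFactorizationDomain.FactorSet
import Mathlib.RingTheory.UniqueFactorizationDomain.Finite
import Mathlib.RingTheory.UniqueFactorizationDomain.Finsupp
import Mathlib.RingTheory.UniqueFactorizationDomain.GCDMonoid
import Mathlib.RingTheory.UniqueFactorizationDomain.Ideal
import Mathlib.RingTheory.UniqueFactorizationDomain.Kaplansky
import Mathlib.RingTheory.UniqueFactorizationDomain.Localization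
import Mathlib.RingTheory.UniqueFactorizationDomain.Moebius
import Mathlib.RingTheory.UniqueFactorizationDomain.Multiplicative
import Mathlib.RingTheory.UniqueFactorizationDomain.Multiplicity
import Mathlib.RingTheory.UniqueFactorizationDomain.Nat
import Mathlib.RingTheory.UniqueFactorizationDomain.NormalizedFactors
import Mathlib.RingTheory.Unramified.Basic
import Mathlib.RingTheory.Unramified.Dedekind
import Mathlib.RingTheory.Unramified.Field
import Mathlib.RingTheory.Unramified.Finite
import Mathlib.RingTheory.Unramified.LocalRing
import Mathlib.RingTheory.Unramified.LocalStructure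
import Mathlib.RingTheory.Unramified.Locus
import Mathlib.RingTheory.Unramified.Pi
import Mathlib.RingTheory.Valuation.AlgebraInstances
import Mathlib.RingTheory.Valuation.Archimedean
import Mathlib.RingTheory.Valuation.Basic
import Mathlib.RingTheory.Valuation.Discrete.Basic
import Mathlib.RingTheory.Valuation.Discrete.IsDiscreteValuationRing
import Mathlib.RingTheory.Valuation.Discrete.RankOne
import Mathlib.RingTheory.Valuation.DiscreteValuativeRel
import Mathlib.RingTheory.Valuation.ExtendToLocalization
import Mathlib.RingTheory.Valuation.Extension
import Mathlib.RingTheory.Valuation.FiniteField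
import Mathlib.RingTheory.Valuation.Integers
import Mathlib.RingTheory.Valuation.Integral
import Mathlib.RingTheory.Valuation.IsTrivialOn
import Mathlib.RingTheory.Valuation.LocalSubring
import Mathlib.RingTheory.Valuation.Minpoly
import Mathlib.RingTheory.Valuation.PrimeMultiplicity
import Mathlib.RingTheory.Valuation.Quotient
import Mathlib.RingTheory.Valuation.RamificationGroup
import Mathlib.RingTheory.Valuation.RankOne
import Mathlib.RingTheory.Valuation.ValuationRing
import Mathlib.RingTheory.Valuation.ValuationSubring
import Mathlib.RingTheory.Valuation.ValuativeRel.Basic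
import Mathlib.RingTheory.Valuation.ValuativeRel.Trivial
import Mathlib.RingTheory.WittVector.Basic
import Mathlib.RingTheory.WittVector.Compare
import Mathlib.RingTheory.WittVector.Complete
import Mathlib.RingTheory.WittVector.Defs
import Mathlib.RingTheory.WittVector.DiscreteValuationRing
import Mathlib.RingTheory.WittVector.Domain
import Mathlib.RingTheory.WittVector.Frobenius
import Mathlib.RingTheory.WittVector.FrobeniusFractionField
import Mathlib.RingTheory.WittVector.Identities
import Mathlib.RingTheory.WittVector.InitTail
import Mathlib.RingTheory.WittVector.IsPoly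
import Mathlib.RingTheory.WittVector.Isocrystal
import Mathlib.RingTheory.WittVector.MulCoeff
import Mathlib.RingTheory.WittVector.MulP
import Mathlib.RingTheory.WittVector.StructurePolynomial
import Mathlib.RingTheory.WittVector.Teichmuller
import Mathlib.RingTheory.WittVector.TeichmullerSeries
import Mathlib.RingTheory.WittVector.Truncated
import Mathlib.RingTheory.WittVector.Verschiebung
import Mathlib.RingTheory.WittVector.WittPolynomial
import Mathlib.RingTheory.ZMod
import Mathlib.RingTheory.ZMod.Torsion
import Mathlib.RingTheory.ZMod.UnitsCyclic
import Mathlib.RingTheory.ZariskisMainTheorem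
import Mathlib.SetTheory.Cardinal.Aleph
import Mathlib.SetTheory.Cardinal.Arithmetic
import Mathlib.SetTheory.Cardinal.Basic
import Mathlib.SetTheory.Cardinal.Cofinality
import Mathlib.SetTheory.Cardinal.Cofinality.Basic
import Mathlib.SetTheory.Cardinal.Cofinality.Club
import Mathlib.SetTheory.Cardinal.Cofinality.Enum
import Mathlib.SetTheory.Cardinal.Cofinality.Ordinal
import Mathlib.SetTheory.Cardinal.Continuum
import Mathlib.SetTheory.Cardinal.CountableCover
import Mathlib.SetTheory.Cardinal.Defs
import Mathlib.SetTheory.Cardinal.Divisibility
import Mathlib.SetTheory.Cardinal.ENNReal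
import Mathlib.SetTheory.Cardinal.ENat
import Mathlib.SetTheory.Cardinal.Embedding
import Mathlib.SetTheory.Cardinal.EventuallyConst
import Mathlib.SetTheory.Cardinal.Finite
import Mathlib.SetTheory.Cardinal.Finsupp
import Mathlib.SetTheory.Cardinal.Free
import Mathlib.SetTheory.Cardinal.HasCardinalLT
import Mathlib.SetTheory.Cardinal.NatCard
import Mathlib.SetTheory.Cardinal.NatCount
import Mathlib.SetTheory.Cardinal.Order
import Mathlib.SetTheory.Cardinal.Ordinal
import Mathlib.SetTheory.Cardinal.Pigeonhole
import Mathlib.SetTheory.Cardinal.Rat
import Mathlib.SetTheory.Cardinal.Regular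
import Mathlib.SetTheory.Cardinal.SchroederBernstein
import Mathlib.SetTheory.Cardinal.Subfield
import Mathlib.SetTheory.Cardinal.ToNat
import Mathlib.SetTheory.Cardinal.UnivLE
import Mathlib.SetTheory.Descriptive.Tree
import Mathlib.SetTheory.Lists
import Mathlib.SetTheory.Ordinal.Arithmetic
import Mathlib.SetTheory.Ordinal.Basic
import Mathlib.SetTheory.Ordinal.CantorNormalForm
import Mathlib.SetTheory.Ordinal.Commute
import Mathlib.SetTheory.Ordinal.Enum
import Mathlib.SetTheory.Ordinal.Exponential
import Mathlib.SetTheory.Ordinal.Family
import Mathlib.SetTheory.Ordinal.FixedPoint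
import Mathlib.SetTheory.Ordinal.FixedPointApproximants
import Mathlib.SetTheory.Ordinal.FundamentalSequence
import Mathlib.SetTheory.Ordinal.Notation
import Mathlib.SetTheory.Ordinal.Principal
import Mathlib.SetTheory.Ordinal.Rank
import Mathlib.SetTheory.Ordinal.Topology
import Mathlib.SetTheory.Ordinal.Univ
import Mathlib.SetTheory.Ordinal.Veblen
import Mathlib.SetTheory.ZFC.Basic
import Mathlib.SetTheory.ZFC.Cardinal
import Mathlib.SetTheory.ZFC.Class
import Mathlib.SetTheory.ZFC.Ordinal
import Mathlib.SetTheory.ZFC.PSet
import Mathlib.SetTheory.ZFC.Rank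
import Mathlib.SetTheory.ZFC.VonNeumann
import Mathlib.Tactic
import Mathlib.Tactic.Abel
import Mathlib.Tactic.AdaptationNote
import Mathlib.Tactic.AddGroup
import Mathlib.Tactic.Algebra.AlgebraNF
import Mathlib.Tactic.Algebra.Basic
import Mathlib.Tactic.Algebra.Lemmas
import Mathlib.Tactic.Algebraize
import Mathlib.Tactic.ApplyAt
import Mathlib.Tactic.ApplyCongr
import Mathlib.Tactic.ApplyFun
import Mathlib.Tactic.ApplyWith
import Mathlib.Tactic.ArithMult
import Mathlib.Tactic.ArithMult.Init
import Mathlib.Tactic.Assume
import Mathlib.Tactic.Attr.Core
import Mathlib.Tactic.Attr.Register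
import Mathlib.Tactic.BDSimp
import Mathlib.Tactic.Basic
import Mathlib.Tactic.Bound
import Mathlib.Tactic.Bound.Attribute
import Mathlib.Tactic.Bound.Init
import Mathlib.Tactic.ByCases
import Mathlib.Tactic.ByContra
import Mathlib.Tactic.CancelDenoms
import Mathlib.Tactic.CancelDenoms.Core
import Mathlib.Tactic.Cases
import Mathlib.Tactic.CasesM
import Mathlib.Tactic.CategoryTheory.BicategoricalComp
import Mathlib.Tactic.CategoryTheory.Bicategory.Basic
import Mathlib.Tactic.CategoryTheory.Bicategory.Datatypes
import Mathlib.Tactic.CategoryTheory.Bicategory.Normalize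
import Mathlib.Tactic.CategoryTheory.Bicategory.PureCoherence
import Mathlib.Tactic.CategoryTheory.BicategoryCoherence
import Mathlib.Tactic.CategoryTheory.CancelIso
import Mathlib.Tactic.CategoryTheory.CategoryStar
import Mathlib.Tactic.CategoryTheory.CheckCompositions
import Mathlib.Tactic.CategoryTheory.Coherence
import Mathlib.Tactic.CategoryTheory.Coherence.Basic
import Mathlib.Tactic.CategoryTheory.Coherence.Datatypes
import Mathlib.Tactic.CategoryTheory.Coherence.Normalize
import Mathlib.Tactic.CategoryTheory.Coherence.PureCoherence
import Mathlib.Tactic.CategoryTheory.Elementwise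
import Mathlib.Tactic.CategoryTheory.IsoReassoc
import Mathlib.Tactic.CategoryTheory.Monoidal.Basic
import Mathlib.Tactic.CategoryTheory.Monoidal.Datatypes
import Mathlib.Tactic.CategoryTheory.Monoidal.Normalize
import Mathlib.Tactic.CategoryTheory.Monoidal.PureCoherence
import Mathlib.Tactic.CategoryTheory.MonoidalComp
import Mathlib.Tactic.CategoryTheory.Reassoc
import Mathlib.Tactic.CategoryTheory.Slice
import Mathlib.Tactic.CategoryTheory.ToApp
import Mathlib.Tactic.Change
import Mathlib.Tactic.Check
import Mathlib.Tactic.Choose
import Mathlib.Tactic.Clean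
import Mathlib.Tactic.ClearExcept
import Mathlib.Tactic.ClearExclamation
import Mathlib.Tactic.Clear_
import Mathlib.Tactic.ClickSuggestions
import Mathlib.Tactic.ClickSuggestions.Apply
import Mathlib.Tactic.ClickSuggestions.ApplyAt
import Mathlib.Tactic.ClickSuggestions.FindPremises
import Mathlib.Tactic.ClickSuggestions.GRewrite
import Mathlib.Tactic.ClickSuggestions.Rewrite
import Mathlib.Tactic.ClickSuggestions.SectionState
import Mathlib.Tactic.ClickSuggestions.TryPremises
import Mathlib.Tactic.ClickSuggestions.Unfold
import Mathlib.Tactic.ClickSuggestions.Util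
import Mathlib.Tactic.Coe
import Mathlib.Tactic.Common
import Mathlib.Tactic.ComputeAsymptotics.Lemmas
import Mathlib.Tactic.ComputeAsymptotics.Multiseries.Basic
import Mathlib.Tactic.ComputeAsymptotics.Multiseries.Basis
import Mathlib.Tactic.ComputeAsymptotics.Multiseries.Corecursion
import Mathlib.Tactic.ComputeAsymptotics.Multiseries.Defs
import Mathlib.Tactic.ComputeAsymptotics.Multiseries.Majorized
import Mathlib.Tactic.ComputeAsymptotics.Multiseries.Monomial.Basic
import Mathlib.Tactic.ComputeAsymptotics.Multiseries.Monomial.Predicates
import Mathlib.Tactic.ComputeAsymptotics.Multiseries.Trimming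
import Mathlib.Tactic.ComputeDegree
import Mathlib.Tactic.CongrExclamation
import Mathlib.Tactic.CongrM
import Mathlib.Tactic.Constructor
import Mathlib.Tactic.Continuity
import Mathlib.Tactic.Continuity.Init
import Mathlib.Tactic.ContinuousFunctionalCalculus
import Mathlib.Tactic.Contrapose
import Mathlib.Tactic.Conv
import Mathlib.Tactic.Convert
import Mathlib.Tactic.Core
import Mathlib.Tactic.CrossRefAttribute
import Mathlib.Tactic.DSimpPercent
import Mathlib.Tactic.DeclarationNames
import Mathlib.Tactic.DefEqAbuse
import Mathlib.Tactic.DefEqTransformations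
import Mathlib.Tactic.DepRewrite
import Mathlib.Tactic.DeprecateTo
import Mathlib.Tactic.DeriveCountable
import Mathlib.Tactic.DeriveEncodable
import Mathlib.Tactic.DeriveFintype
import Mathlib.Tactic.DeriveTraversable
import Mathlib.Tactic.Determinant.Bird.Cert
import Mathlib.Tactic.Determinant.Bird.Meta
import Mathlib.Tactic.DuplicateDecls
import Mathlib.Tactic.ENatToNat
import Mathlib.Tactic.Eqns
import Mathlib.Tactic.ErwQuestion
import Mathlib.Tactic.Eval
import Mathlib.Tactic.ExistsI
import Mathlib.Tactic.Explode
import Mathlib.Tactic.Explode.Datatypes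
import Mathlib.Tactic.Explode.Pretty
import Mathlib.Tactic.Ext
import Mathlib.Tactic.ExtendDoc
import Mathlib.Tactic.ExtractGoal
import Mathlib.Tactic.FBinop
import Mathlib.Tactic.FailIfNoProgress
import Mathlib.Tactic.FastInstance
import Mathlib.Tactic.Field
import Mathlib.Tactic.FieldSimp
import Mathlib.Tactic.FieldSimp.Attr
import Mathlib.Tactic.FieldSimp.Discharger
import Mathlib.Tactic.FieldSimp.Lemmas
import Mathlib.Tactic.FinCases
import Mathlib.Tactic.Find
import Mathlib.Tactic.FindSyntax
import Mathlib.Tactic.Finiteness
import Mathlib.Tactic.Finiteness.Attr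
import Mathlib.Tactic.FunProp
import Mathlib.Tactic.FunProp.Attr
import Mathlib.Tactic.FunProp.Core
import Mathlib.Tactic.FunProp.Decl
import Mathlib.Tactic.FunProp.Elab
import Mathlib.Tactic.FunProp.FunctionData
import Mathlib.Tactic.FunProp.Mor
import Mathlib.Tactic.FunProp.Theorems
import Mathlib.Tactic.FunProp.ToBatteries
import Mathlib.Tactic.FunProp.Types
import Mathlib.Tactic.GCongr
import Mathlib.Tactic.GCongr.Core
import Mathlib.Tactic.GCongr.CoreAttrs
import Mathlib.Tactic.GCongr.ForwardAttr
import Mathlib.Tactic.GRewrite
import Mathlib.Tactic.GRewrite.Core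
import Mathlib.Tactic.GRewrite.Elab
import Mathlib.Tactic.Generalize
import Mathlib.Tactic.GrindAttrs
import Mathlib.Tactic.Group
import Mathlib.Tactic.GuardGoalNums
import Mathlib.Tactic.GuardHypNums
import Mathlib.Tactic.Have
import Mathlib.Tactic.HaveI
import Mathlib.Tactic.HigherOrder
import Mathlib.Tactic.Hint
import Mathlib.Tactic.ITauto
import Mathlib.Tactic.InferParam
import Mathlib.Tactic.Inhabit
import Mathlib.Tactic.IntervalCases
import Mathlib.Tactic.IrreducibleDef
import Mathlib.Tactic.Lemma
import Mathlib.Tactic.Lift
import Mathlib.Tactic.Linarith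
import Mathlib.Tactic.Linarith.Datatypes
import Mathlib.Tactic.Linarith.Frontend
import Mathlib.Tactic.Linarith.Lemmas
import Mathlib.Tactic.Linarith.NNRealPreprocessor
import Mathlib.Tactic.Linarith.Oracle.FourierMotzkin
import Mathlib.Tactic.Linarith.Oracle.SimplexAlgorithm
import Mathlib.Tactic.Linarith.Oracle.SimplexAlgorithm.Datatypes
import Mathlib.Tactic.Linarith.Oracle.SimplexAlgorithm.Gauss
import Mathlib.Tactic.Linarith.Oracle.SimplexAlgorithm.PositiveVector
import Mathlib.Tactic.Linarith.Oracle.SimplexAlgorithm.SimplexAlgorithm
import Mathlib.Tactic.Linarith.Parsing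
import Mathlib.Tactic.Linarith.Preprocessing
import Mathlib.Tactic.Linarith.Verification
import Mathlib.Tactic.LinearCombination
import Mathlib.Tactic.LinearCombination.Lemmas
import Mathlib.Tactic.LinearCombinationPrime
import Mathlib.Tactic.Linter
import Mathlib.Tactic.Linter.AuxLemma
import Mathlib.Tactic.Linter.CommandRanges
import Mathlib.Tactic.Linter.CommandStart
import Mathlib.Tactic.Linter.DeprecatedModule
import Mathlib.Tactic.Linter.DeprecatedSyntaxLinter
import Mathlib.Tactic.Linter.DirectoryDependency
import Mathlib.Tactic.Linter.DocPrime
import Mathlib.Tactic.Linter.DocString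
import Mathlib.Tactic.Linter.EmptyLine
import Mathlib.Tactic.Linter.FindDeprecations
import Mathlib.Tactic.Linter.FlexibleLinter
import Mathlib.Tactic.Linter.GlobalAttributeIn
import Mathlib.Tactic.Linter.HashCommandLinter
import Mathlib.Tactic.Linter.HaveILetI
import Mathlib.Tactic.Linter.HaveLetLinter
import Mathlib.Tactic.Linter.Header
import Mathlib.Tactic.Linter.Lint
import Mathlib.Tactic.Linter.MinImports
import Mathlib.Tactic.Linter.Multigoal
import Mathlib.Tactic.Linter.OldObtain
import Mathlib.Tactic.Linter.OverlappingInstances
import Mathlib.Tactic.Linter.PPRoundtrip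
import Mathlib.Tactic.Linter.PrivateModule
import Mathlib.Tactic.Linter.Style
import Mathlib.Tactic.Linter.TacticDocumentation
import Mathlib.Tactic.Linter.TextBased
import Mathlib.Tactic.Linter.TextBased.UnicodeLinter
import Mathlib.Tactic.Linter.UnusedInstancesInType
import Mathlib.Tactic.Linter.UnusedTactic
import Mathlib.Tactic.Linter.UnusedTacticExtension
import Mathlib.Tactic.Linter.UpstreamableDecl
import Mathlib.Tactic.Linter.ValidatePRTitle
import Mathlib.Tactic.Linter.Whitespace
import Mathlib.Tactic.Measurability
import Mathlib.Tactic.Measurability.Init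
import Mathlib.Tactic.MinImports
import Mathlib.Tactic.MkIffOfInductiveProp
import Mathlib.Tactic.ModCases
import Mathlib.Tactic.Module
import Mathlib.Tactic.Monotonicity
import Mathlib.Tactic.Monotonicity.Attr
import Mathlib.Tactic.Monotonicity.Basic
import Mathlib.Tactic.Monotonicity.Lemmas
import Mathlib.Tactic.MoveAdd
import Mathlib.Tactic.NoncommRing
import Mathlib.Tactic.Nontriviality
import Mathlib.Tactic.Nontriviality.Core
import Mathlib.Tactic.NormDet
import Mathlib.Tactic.NormNum
import Mathlib.Tactic.NormNum.Abs
import Mathlib.Tactic.NormNum.Basic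
import Mathlib.Tactic.NormNum.BigOperators
import Mathlib.Tactic.NormNum.Core
import Mathlib.Tactic.NormNum.DivMod
import Mathlib.Tactic.NormNum.Eq
import Mathlib.Tactic.NormNum.GCD
import Mathlib.Tactic.NormNum.Ineq
import Mathlib.Tactic.NormNum.Inv
import Mathlib.Tactic.NormNum.Irrational
import Mathlib.Tactic.NormNum.IsCoprime
import Mathlib.Tactic.NormNum.IsSquare
import Mathlib.Tactic.NormNum.LegendreSymbol
import Mathlib.Tactic.NormNum.ModEq
import Mathlib.Tactic.NormNum.NatFactorial
import Mathlib.Tactic.NormNum.NatFib
import Mathlib.Tactic.NormNum.NatLog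
import Mathlib.Tactic.NormNum.NatSqrt
import Mathlib.Tactic.NormNum.OfScientific
import Mathlib.Tactic.NormNum.Ordinal
import Mathlib.Tactic.NormNum.Parity
import Mathlib.Tactic.NormNum.Pow
import Mathlib.Tactic.NormNum.PowMod
import Mathlib.Tactic.NormNum.Prime
import Mathlib.Tactic.NormNum.RealSqrt
import Mathlib.Tactic.NormNum.Result
import Mathlib.Tactic.NthRewrite
import Mathlib.Tactic.Observe
import Mathlib.Tactic.OfNat
import Mathlib.Tactic.Order
import Mathlib.Tactic.Order.CollectFacts
import Mathlib.Tactic.Order.Graph.Basic
import Mathlib.Tactic.Order.Graph.Tarjan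
import Mathlib.Tactic.Order.Preprocessing
import Mathlib.Tactic.Order.ToInt
import Mathlib.Tactic.PNatToNat
import Mathlib.Tactic.PPWithUniv
import Mathlib.Tactic.Peel
import Mathlib.Tactic.Polynomial.Basic
import Mathlib.Tactic.Polynomial.Core
import Mathlib.Tactic.Polyrith
import Mathlib.Tactic.Positivity
import Mathlib.Tactic.Positivity.Basic
import Mathlib.Tactic.Positivity.Core
import Mathlib.Tactic.Positivity.Finset
import Mathlib.Tactic.ProdAssoc
import Mathlib.Tactic.ProxyType
import Mathlib.Tactic.Push
import Mathlib.Tactic.Push.Attr
import Mathlib.Tactic.Qify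
import Mathlib.Tactic.RSuffices
import Mathlib.Tactic.Recall
import Mathlib.Tactic.Recover
import Mathlib.Tactic.ReduceModChar
import Mathlib.Tactic.ReduceModChar.Ext
import Mathlib.Tactic.Relation.Rfl
import Mathlib.Tactic.Relation.Symm
import Mathlib.Tactic.Rename
import Mathlib.Tactic.RenameBVar
import Mathlib.Tactic.Replace
import Mathlib.Tactic.RewriteSearch
import Mathlib.Tactic.Rify
import Mathlib.Tactic.Ring
import Mathlib.Tactic.Ring.Basic
import Mathlib.Tactic.Ring.Common
import Mathlib.Tactic.Ring.Compare
import Mathlib.Tactic.Ring.NamePolyVars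
import Mathlib.Tactic.Ring.NamePowerVars
import Mathlib.Tactic.Ring.PNat
import Mathlib.Tactic.Ring.RingNF
import Mathlib.Tactic.Sat.FromLRAT
import Mathlib.Tactic.Says
import Mathlib.Tactic.ScopedNS
import Mathlib.Tactic.Set
import Mathlib.Tactic.SetLike
import Mathlib.Tactic.SetNotationForOrder
import Mathlib.Tactic.SimpIntro
import Mathlib.Tactic.SimpRw
import Mathlib.Tactic.Simproc.Divisors
import Mathlib.Tactic.Simproc.ExistsAndEq
import Mathlib.Tactic.Simproc.Factors
import Mathlib.Tactic.Simproc.FinsetInterval
import Mathlib.Tactic.Simproc.VecPerm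
import Mathlib.Tactic.Simps.Basic
import Mathlib.Tactic.Simps.NotationClass
import Mathlib.Tactic.SplitIfs
import Mathlib.Tactic.Spread
import Mathlib.Tactic.StacksAttribute
import Mathlib.Tactic.Subsingleton
import Mathlib.Tactic.Substs
import Mathlib.Tactic.SuccessIfFailWithMsg
import Mathlib.Tactic.SudoSetOption
import Mathlib.Tactic.SuppressCompilation
import Mathlib.Tactic.SwapVar
import Mathlib.Tactic.TFAE
import Mathlib.Tactic.TacticAnalysis
import Mathlib.Tactic.TacticAnalysis.Declarations
import Mathlib.Tactic.Tauto
import Mathlib.Tactic.TautoSet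
import Mathlib.Tactic.TermCongr
import Mathlib.Tactic.ToAdditive
import Mathlib.Tactic.ToDual
import Mathlib.Tactic.ToExpr
import Mathlib.Tactic.ToFun
import Mathlib.Tactic.ToLevel
import Mathlib.Tactic.Trace
import Mathlib.Tactic.Translate.Attributes
import Mathlib.Tactic.Translate.Core
import Mathlib.Tactic.Translate.GuessName
import Mathlib.Tactic.Translate.Reorder
import Mathlib.Tactic.Translate.TagUnfoldBoundary
import Mathlib.Tactic.Translate.ToAdditive
import Mathlib.Tactic.Translate.ToDual
import Mathlib.Tactic.Translate.UnfoldBoundary
import Mathlib.Tactic.TryThis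
import Mathlib.Tactic.TypeCheck
import Mathlib.Tactic.TypeStar
import Mathlib.Tactic.UnsetOption
import Mathlib.Tactic.Use
import Mathlib.Tactic.Variable
import Mathlib.Tactic.WLOG
import Mathlib.Tactic.Widget.Calc
import Mathlib.Tactic.Widget.CommDiag
import Mathlib.Tactic.Widget.CongrM
import Mathlib.Tactic.Widget.Conv
import Mathlib.Tactic.Widget.GCongr
import Mathlib.Tactic.Widget.LibraryRewrite
import Mathlib.Tactic.Widget.SelectInsertParamsClass
import Mathlib.Tactic.Widget.SelectPanelUtils
import Mathlib.Tactic.Widget.StringDiagram
import Mathlib.Tactic.WithoutCDot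
import Mathlib.Tactic.Zify
import Mathlib.Testing.Plausible.Functions
import Mathlib.Testing.Plausible.Sampleable
import Mathlib.Testing.Plausible.Testable
import Mathlib.Topology.AlexandrovDiscrete
import Mathlib.Topology.Algebra.Affine
import Mathlib.Topology.Algebra.AffineSubspace
import Mathlib.Topology.Algebra.Algebra
import Mathlib.Topology.Algebra.Algebra.Equiv
import Mathlib.Topology.Algebra.Algebra.Rat
import Mathlib.Topology.Algebra.AsymptoticCone
import Mathlib.Topology.Algebra.Category.ProfiniteGrp.Basic
import Mathlib.Topology.Algebra.Category.ProfiniteGrp.Completion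
import Mathlib.Topology.Algebra.Category.ProfiniteGrp.Limits
import Mathlib.Topology.Algebra.ClopenNhdofOne
import Mathlib.Topology.Algebra.ConstMulAction
import Mathlib.Topology.Algebra.Constructions
import Mathlib.Topology.Algebra.Constructions.DomMulAct
import Mathlib.Topology.Algebra.ContinuousAffineEquiv
import Mathlib.Topology.Algebra.ContinuousAffineMap
import Mathlib.Topology.Algebra.ContinuousMonoidHom
import Mathlib.Topology.Algebra.Equicontinuity
import Mathlib.Topology.Algebra.Field
import Mathlib.Topology.Algebra.FilterBasis
import Mathlib.Topology.Algebra.Group.AddTorsor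
import Mathlib.Topology.Algebra.Group.Basic
import Mathlib.Topology.Algebra.Group.ClosedSubgroup
import Mathlib.Topology.Algebra.Group.Compact
import Mathlib.Topology.Algebra.Group.CompactOpen
import Mathlib.Topology.Algebra.Group.Defs
import Mathlib.Topology.Algebra.Group.DiscontinuousSubgroup
import Mathlib.Topology.Algebra.Group.Extension
import Mathlib.Topology.Algebra.Group.GroupTopology
import Mathlib.Topology.Algebra.Group.Matrix
import Mathlib.Topology.Algebra.Group.OpenMapping
import Mathlib.Topology.Algebra.Group.Pointwise
import Mathlib.Topology.Algebra.Group.Quotient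
import Mathlib.Topology.Algebra.Group.SubmonoidClosure
import Mathlib.Topology.Algebra.Group.TopologicalAbelianization
import Mathlib.Topology.Algebra.Group.Torsor
import Mathlib.Topology.Algebra.Group.Units
import Mathlib.Topology.Algebra.GroupCompletion
import Mathlib.Topology.Algebra.GroupWithZero
import Mathlib.Topology.Algebra.Indicator
import Mathlib.Topology.Algebra.InfiniteSum.Basic
import Mathlib.Topology.Algebra.InfiniteSum.ConditionalInt
import Mathlib.Topology.Algebra.InfiniteSum.Constructions
import Mathlib.Topology.Algebra.InfiniteSum.Defs
import Mathlib.Topology.Algebra.InfiniteSum.DiscreteConvolution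
import Mathlib.Topology.Algebra.InfiniteSum.ENNReal
import Mathlib.Topology.Algebra.InfiniteSum.Field
import Mathlib.Topology.Algebra.InfiniteSum.Group
import Mathlib.Topology.Algebra.InfiniteSum.GroupCompletion
import Mathlib.Topology.Algebra.InfiniteSum.Module
import Mathlib.Topology.Algebra.InfiniteSum.NatInt
import Mathlib.Topology.Algebra.InfiniteSum.Nonarchimedean
import Mathlib.Topology.Algebra.InfiniteSum.Order
import Mathlib.Topology.Algebra.InfiniteSum.Real
import Mathlib.Topology.Algebra.InfiniteSum.Ring
import Mathlib.Topology.Algebra.InfiniteSum.SummationFilter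
import Mathlib.Topology.Algebra.InfiniteSum.TsumUniformlyOn
import Mathlib.Topology.Algebra.InfiniteSum.UniformOn
import Mathlib.Topology.Algebra.IntermediateField
import Mathlib.Topology.Algebra.IsOpenUnits
import Mathlib.Topology.Algebra.IsUniformGroup.Basic
import Mathlib.Topology.Algebra.IsUniformGroup.Constructions
import Mathlib.Topology.Algebra.IsUniformGroup.Defs
import Mathlib.Topology.Algebra.IsUniformGroup.DiscreteSubgroup
import Mathlib.Topology.Algebra.IsUniformGroup.Order
import Mathlib.Topology.Algebra.LinearMapCompletion
import Mathlib.Topology.Algebra.LinearTopology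
import Mathlib.Topology.Algebra.Localization
import Mathlib.Topology.Algebra.MetricSpace.Lipschitz
import Mathlib.Topology.Algebra.Module.Alternating.Basic
import Mathlib.Topology.Algebra.Module.Alternating.Topology
import Mathlib.Topology.Algebra.Module.Basic
import Mathlib.Topology.Algebra.Module.Cardinality
import Mathlib.Topology.Algebra.Module.ClosedSubmodule
import Mathlib.Topology.Algebra.Module.Compact
import Mathlib.Topology.Algebra.Module.Complement
import Mathlib.Topology.Algebra.Module.ContinuousLinearMap.Basic
import Mathlib.Topology.Algebra.Module.ContinuousLinearMap.Idempotent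
import Mathlib.Topology.Algebra.Module.ContinuousLinearMap.PiProd
import Mathlib.Topology.Algebra.Module.ContinuousLinearMap.Quotient
import Mathlib.Topology.Algebra.Module.ContinuousLinearMap.Restrict
import Mathlib.Topology.Algebra.Module.ContinuousLinearMap.RestrictScalars
import Mathlib.Topology.Algebra.Module.Determinant
import Mathlib.Topology.Algebra.Module.EmbeddingOfLocal
import Mathlib.Topology.Algebra.Module.Equiv
import Mathlib.Topology.Algebra.Module.FiniteDimension
import Mathlib.Topology.Algebra.Module.FiniteDimensionBilinear
import Mathlib.Topology.Algebra.Module.IsWeak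
import Mathlib.Topology.Algebra.Module.LinearMap
import Mathlib.Topology.Algebra.Module.LinearMapPiProd
import Mathlib.Topology.Algebra.Module.LinearPMap
import Mathlib.Topology.Algebra.Module.LocallyConvex
import Mathlib.Topology.Algebra.Module.ModuleTopology
import Mathlib.Topology.Algebra.Module.Multilinear.Basic
import Mathlib.Topology.Algebra.Module.Multilinear.Bounded
import Mathlib.Topology.Algebra.Module.Multilinear.Topology
import Mathlib.Topology.Algebra.Module.PerfectPairing
import Mathlib.Topology.Algebra.Module.PerfectSpace
import Mathlib.Topology.Algebra.Module.Simple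
import Mathlib.Topology.Algebra.Module.Spaces.CharacterSpace
import Mathlib.Topology.Algebra.Module.Spaces.CompactConvergenceCLM
import Mathlib.Topology.Algebra.Module.Spaces.ContinuousLinearMap
import Mathlib.Topology.Algebra.Module.Spaces.PointwiseConvergenceCLM
import Mathlib.Topology.Algebra.Module.Spaces.UniformConvergenceCLM
import Mathlib.Topology.Algebra.Module.Spaces.WeakBilin
import Mathlib.Topology.Algebra.Module.Spaces.WeakDual
import Mathlib.Topology.Algebra.Module.Star
import Mathlib.Topology.Algebra.Module.StrongTopology
import Mathlib.Topology.Algebra.Module.TopDualPairing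
import Mathlib.Topology.Algebra.Module.TransferInstance
import Mathlib.Topology.Algebra.Module.UniformConvergence
import Mathlib.Topology.Algebra.Module.WeakDual
import Mathlib.Topology.Algebra.Monoid
import Mathlib.Topology.Algebra.Monoid.AddChar
import Mathlib.Topology.Algebra.Monoid.Defs
import Mathlib.Topology.Algebra.Monoid.FunOnFinite
import Mathlib.Topology.Algebra.MulAction
import Mathlib.Topology.Algebra.MvPolynomial
import Mathlib.Topology.Algebra.NonUnitalAlgebra
import Mathlib.Topology.Algebra.NonUnitalStarAlgebra
import Mathlib.Topology.Algebra.Nonarchimedean.AdicTopology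
import Mathlib.Topology.Algebra.Nonarchimedean.Bases
import Mathlib.Topology.Algebra.Nonarchimedean.Basic
import Mathlib.Topology.Algebra.Nonarchimedean.Completion
import Mathlib.Topology.Algebra.Nonarchimedean.TotallyDisconnected
import Mathlib.Topology.Algebra.OpenSubgroup
import Mathlib.Topology.Algebra.Order.Archimedean
import Mathlib.Topology.Algebra.Order.ArchimedeanDiscrete
import Mathlib.Topology.Algebra.Order.Field
import Mathlib.Topology.Algebra.Order.Floor
import Mathlib.Topology.Algebra.Order.Group
import Mathlib.Topology.Algebra.Order.LiminfLimsup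
import Mathlib.Topology.Algebra.Order.Module
import Mathlib.Topology.Algebra.Order.Support
import Mathlib.Topology.Algebra.Order.UpperLower
import Mathlib.Topology.Algebra.Polynomial
import Mathlib.Topology.Algebra.PontryaginDual
import Mathlib.Topology.Algebra.ProperAction.AddTorsor
import Mathlib.Topology.Algebra.ProperAction.Basic
import Mathlib.Topology.Algebra.ProperAction.CompactlyGenerated
import Mathlib.Topology.Algebra.ProperAction.ProperlyDiscontinuous
import Mathlib.Topology.Algebra.ProperAction.Torsor
import Mathlib.Topology.Algebra.ProperConstSMul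
import Mathlib.Topology.Algebra.RestrictedProduct.Basic
import Mathlib.Topology.Algebra.RestrictedProduct.TopologicalSpace
import Mathlib.Topology.Algebra.RestrictedProduct.Units
import Mathlib.Topology.Algebra.Ring.Basic
import Mathlib.Topology.Algebra.Ring.Compact
import Mathlib.Topology.Algebra.Ring.Ideal
import Mathlib.Topology.Algebra.Ring.Real
import Mathlib.Topology.Algebra.Semigroup
import Mathlib.Topology.Algebra.SeparationQuotient.Basic
import Mathlib.Topology.Algebra.SeparationQuotient.FiniteDimensional
import Mathlib.Topology.Algebra.SeparationQuotient.Hom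
import Mathlib.Topology.Algebra.SeparationQuotient.Section
import Mathlib.Topology.Algebra.Star
import Mathlib.Topology.Algebra.Star.LinearMap
import Mathlib.Topology.Algebra.Star.Real
import Mathlib.Topology.Algebra.Star.Unitary
import Mathlib.Topology.Algebra.StarSubalgebra
import Mathlib.Topology.Algebra.Support
import Mathlib.Topology.Algebra.TopologicallyNilpotent
import Mathlib.Topology.Algebra.UniformConvergence
import Mathlib.Topology.Algebra.UniformField
import Mathlib.Topology.Algebra.UniformFilterBasis
import Mathlib.Topology.Algebra.UniformMulAction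
import Mathlib.Topology.Algebra.UniformRing
import Mathlib.Topology.Algebra.ValuativeRel.ValuativeTopology
import Mathlib.Topology.Algebra.Valued.LocallyCompact
import Mathlib.Topology.Algebra.Valued.NormedValued
import Mathlib.Topology.Algebra.Valued.ValuationTopology
import Mathlib.Topology.Algebra.Valued.ValuativeRel
import Mathlib.Topology.Algebra.Valued.ValuedField
import Mathlib.Topology.Algebra.Valued.WithVal
import Mathlib.Topology.Algebra.Valued.WithZeroMulInt
import Mathlib.Topology.Algebra.WithZeroTopology
import Mathlib.Topology.ApproximateUnit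
import Mathlib.Topology.Baire.BaireMeasurable
import Mathlib.Topology.Baire.CompleteMetrizable
import Mathlib.Topology.Baire.Lemmas
import Mathlib.Topology.Baire.LocallyCompactRegular
import Mathlib.Topology.Bases
import Mathlib.Topology.Basic
import Mathlib.Topology.Bornology.Absorbs
import Mathlib.Topology.Bornology.Basic
import Mathlib.Topology.Bornology.BoundedOperation
import Mathlib.Topology.Bornology.Constructions
import Mathlib.Topology.Bornology.Hom
import Mathlib.Topology.Bornology.Real
import Mathlib.Topology.CWComplex.Abstract.Basic
import Mathlib.Topology.CWComplex.Classical.Basic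
import Mathlib.Topology.CWComplex.Classical.Finite
import Mathlib.Topology.CWComplex.Classical.Graph
import Mathlib.Topology.CWComplex.Classical.Subcomplex
import Mathlib.Topology.CantorBendixson
import Mathlib.Topology.Category.Born
import Mathlib.Topology.Category.CompHaus.Basic
import Mathlib.Topology.Category.CompHaus.EffectiveEpi
import Mathlib.Topology.Category.CompHaus.Frm
import Mathlib.Topology.Category.CompHaus.Limits
import Mathlib.Topology.Category.CompHaus.Projective
import Mathlib.Topology.Category.CompHausLike.Basic
import Mathlib.Topology.Category.CompHausLike.Cartesian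
import Mathlib.Topology.Category.CompHausLike.EffectiveEpi
import Mathlib.Topology.Category.CompHausLike.Limits
import Mathlib.Topology.Category.CompHausLike.SigmaComparison
import Mathlib.Topology.Category.CompactlyGenerated
import Mathlib.Topology.Category.Compactum
import Mathlib.Topology.Category.DeltaGenerated
import Mathlib.Topology.Category.FinTopCat
import Mathlib.Topology.Category.LightProfinite.AsLimit
import Mathlib.Topology.Category.LightProfinite.Basic
import Mathlib.Topology.Category.LightProfinite.Cartesian
import Mathlib.Topology.Category.LightProfinite.EffectiveEpi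
import Mathlib.Topology.Category.LightProfinite.Extend
import Mathlib.Topology.Category.LightProfinite.Injective
import Mathlib.Topology.Category.LightProfinite.Limits
import Mathlib.Topology.Category.LightProfinite.Sequence
import Mathlib.Topology.Category.Locale
import Mathlib.Topology.Category.Profinite.AsLimit
import Mathlib.Topology.Category.Profinite.Basic
import Mathlib.Topology.Category.Profinite.CofilteredLimit
import Mathlib.Topology.Category.Profinite.EffectiveEpi
import Mathlib.Topology.Category.Profinite.Extend
import Mathlib.Topology.Category.Profinite.Limits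
import Mathlib.Topology.Category.Profinite.Nobeling.Basic
import Mathlib.Topology.Category.Profinite.Nobeling.Induction
import Mathlib.Topology.Category.Profinite.Nobeling.Span
import Mathlib.Topology.Category.Profinite.Nobeling.Successor
import Mathlib.Topology.Category.Profinite.Nobeling.ZeroLimit
import Mathlib.Topology.Category.Profinite.Product
import Mathlib.Topology.Category.Profinite.Projective
import Mathlib.Topology.Category.Sequential
import Mathlib.Topology.Category.Stonean.Adjunctions
import Mathlib.Topology.Category.Stonean.Basic
import Mathlib.Topology.Category.Stonean.EffectiveEpi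
import Mathlib.Topology.Category.Stonean.Limits
import Mathlib.Topology.Category.TopCat.Adjunctions
import Mathlib.Topology.Category.TopCat.Basic
import Mathlib.Topology.Category.TopCat.EffectiveEpi
import Mathlib.Topology.Category.TopCat.EpiMono
import Mathlib.Topology.Category.TopCat.GrothendieckTopology
import Mathlib.Topology.Category.TopCat.Limits.Basic
import Mathlib.Topology.Category.TopCat.Limits.Cofiltered
import Mathlib.Topology.Category.TopCat.Limits.Konig
import Mathlib.Topology.Category.TopCat.Limits.Products
import Mathlib.Topology.Category.TopCat.Limits.Pullbacks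
import Mathlib.Topology.Category.TopCat.Monoidal
import Mathlib.Topology.Category.TopCat.OpenNhds
import Mathlib.Topology.Category.TopCat.Opens
import Mathlib.Topology.Category.TopCat.Sphere
import Mathlib.Topology.Category.TopCat.ULift
import Mathlib.Topology.Category.TopCat.Yoneda
import Mathlib.Topology.Category.TopCommRingCat
import Mathlib.Topology.Category.TopPair
import Mathlib.Topology.Category.UniformSpace
import Mathlib.Topology.Clopen
import Mathlib.Topology.ClopenBox
import Mathlib.Topology.Closure
import Mathlib.Topology.ClusterPt
import Mathlib.Topology.Coherent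
import Mathlib.Topology.CompactOpen
import Mathlib.Topology.Compactification.OnePoint.Basic
import Mathlib.Topology.Compactification.OnePoint.ProjectiveLine
import Mathlib.Topology.Compactification.OnePoint.Sphere
import Mathlib.Topology.Compactification.StoneCech
import Mathlib.Topology.Compactness.Bases
import Mathlib.Topology.Compactness.Compact
import Mathlib.Topology.Compactness.CompactSystem
import Mathlib.Topology.Compactness.CompactlyCoherentSpace
import Mathlib.Topology.Compactness.CompactlyGeneratedSpace
import Mathlib.Topology.Compactness.CountablyCompact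
import Mathlib.Topology.Compactness.DeltaGeneratedSpace
import Mathlib.Topology.Compactness.Lindelof
import Mathlib.Topology.Compactness.LocallyCompact
import Mathlib.Topology.Compactness.LocallyFinite
import Mathlib.Topology.Compactness.NhdsKer
import Mathlib.Topology.Compactness.Paracompact
import Mathlib.Topology.Compactness.SigmaCompact
import Mathlib.Topology.Connected.Basic
import Mathlib.Topology.Connected.CardComponents
import Mathlib.Topology.Connected.Clopen
import Mathlib.Topology.Connected.LocPathConnected
import Mathlib.Topology.Connected.LocallyConnected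
import Mathlib.Topology.Connected.LocallyPathConnected
import Mathlib.Topology.Connected.PathComponentOne
import Mathlib.Topology.Connected.PathConnected
import Mathlib.Topology.Connected.Separation
import Mathlib.Topology.Connected.TotallyDisconnected
import Mathlib.Topology.Constructible
import Mathlib.Topology.Constructions
import Mathlib.Topology.Constructions.SumProd
import Mathlib.Topology.Continuous
import Mathlib.Topology.ContinuousMap.Algebra
import Mathlib.Topology.ContinuousMap.Basic
import Mathlib.Topology.ContinuousMap.Bounded.ArzelaAscoli
import Mathlib.Topology.ContinuousMap.Bounded.Basic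
import Mathlib.Topology.ContinuousMap.Bounded.Normed
import Mathlib.Topology.ContinuousMap.Bounded.Star
import Mathlib.Topology.ContinuousMap.BoundedCompactlySupported
import Mathlib.Topology.ContinuousMap.CocompactMap
import Mathlib.Topology.ContinuousMap.Compact
import Mathlib.Topology.ContinuousMap.CompactlySupported
import Mathlib.Topology.ContinuousMap.ContinuousMapZero
import Mathlib.Topology.ContinuousMap.ContinuousSqrt
import Mathlib.Topology.ContinuousMap.Defs
import Mathlib.Topology.ContinuousMap.Ideals
import Mathlib.Topology.ContinuousMap.Interval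
import Mathlib.Topology.ContinuousMap.Lattice
import Mathlib.Topology.ContinuousMap.LocallyConstant
import Mathlib.Topology.ContinuousMap.LocallyConvex
import Mathlib.Topology.ContinuousMap.Ordered
import Mathlib.Topology.ContinuousMap.Periodic
import Mathlib.Topology.ContinuousMap.Polynomial
import Mathlib.Topology.ContinuousMap.SecondCountableSpace
import Mathlib.Topology.ContinuousMap.Sigma
import Mathlib.Topology.ContinuousMap.Star
import Mathlib.Topology.ContinuousMap.StarOrdered
import Mathlib.Topology.ContinuousMap.StoneWeierstrass
import Mathlib.Topology.ContinuousMap.T0Sierpinski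
import Mathlib.Topology.ContinuousMap.Units
import Mathlib.Topology.ContinuousMap.Weierstrass
import Mathlib.Topology.ContinuousMap.ZeroAtInfty
import Mathlib.Topology.ContinuousOn
import Mathlib.Topology.Convenient.Category
import Mathlib.Topology.Convenient.ContinuousMapGeneratedBy
import Mathlib.Topology.Convenient.GeneratedBy
import Mathlib.Topology.Convenient.HomSpace
import Mathlib.Topology.Convenient.Localization
import Mathlib.Topology.Convenient.OpenClosed
import Mathlib.Topology.Covering.AddCircle
import Mathlib.Topology.Covering.Basic
import Mathlib.Topology.Covering.Quotient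
import Mathlib.Topology.Defs.Basic
import Mathlib.Topology.Defs.Filter
import Mathlib.Topology.Defs.Induced
import Mathlib.Topology.Defs.Sequences
import Mathlib.Topology.Defs.Ultrafilter
import Mathlib.Topology.DenseEmbedding
import Mathlib.Topology.DerivedSet
import Mathlib.Topology.DiscreteQuotient
import Mathlib.Topology.DiscreteSubset
import Mathlib.Topology.EMetricSpace.Basic
import Mathlib.Topology.EMetricSpace.BoundedVariation
import Mathlib.Topology.EMetricSpace.Defs
import Mathlib.Topology.EMetricSpace.Diam
import Mathlib.Topology.EMetricSpace.Lipschitz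
import Mathlib.Topology.EMetricSpace.PairReduction
import Mathlib.Topology.EMetricSpace.Paracompact
import Mathlib.Topology.EMetricSpace.Pi
import Mathlib.Topology.EMetricSpace.VariationOnFromTo
import Mathlib.Topology.EMetricSpace.Weak
import Mathlib.Topology.ExtendFrom
import Mathlib.Topology.ExtremallyDisconnected
import Mathlib.Topology.FiberBundle.Basic
import Mathlib.Topology.FiberBundle.Constructions
import Mathlib.Topology.FiberBundle.IsHomeomorphicTrivialBundle
import Mathlib.Topology.FiberBundle.Trivialization
import Mathlib.Topology.FiberPartition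
import Mathlib.Topology.Filter
import Mathlib.Topology.GDelta.Basic
import Mathlib.Topology.GDelta.MetrizableSpace
import Mathlib.Topology.Germ
import Mathlib.Topology.Gluing
import Mathlib.Topology.Hom.ContinuousEval
import Mathlib.Topology.Hom.ContinuousEvalConst
import Mathlib.Topology.Hom.Open
import Mathlib.Topology.Homeomorph.Defs
import Mathlib.Topology.Homeomorph.Lemmas
import Mathlib.Topology.Homeomorph.Quotient
import Mathlib.Topology.Homeomorph.TransferInstance
import Mathlib.Topology.Homotopy.Affine
import Mathlib.Topology.Homotopy.Basic
import Mathlib.Topology.Homotopy.Contractible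
import Mathlib.Topology.Homotopy.Equiv
import Mathlib.Topology.Homotopy.HSpaces
import Mathlib.Topology.Homotopy.HomotopyGroup
import Mathlib.Topology.Homotopy.Lifting
import Mathlib.Topology.Homotopy.LocallyContractible
import Mathlib.Topology.Homotopy.Path
import Mathlib.Topology.Homotopy.Product
import Mathlib.Topology.Homotopy.TopCat.Basic
import Mathlib.Topology.Homotopy.TopCat.Path
import Mathlib.Topology.Homotopy.TopCat.ToSSet
import Mathlib.Topology.Homotopy.TopCat.ZerothHomotopy
import Mathlib.Topology.IndicatorConstPointwise
import Mathlib.Topology.Inseparable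
import Mathlib.Topology.Instances.AddCircle.Defs
import Mathlib.Topology.Instances.AddCircle.DenseSubgroup
import Mathlib.Topology.Instances.AddCircle.Real
import Mathlib.Topology.Instances.CantorSet
import Mathlib.Topology.Instances.Complex
import Mathlib.Topology.Instances.Discrete
import Mathlib.Topology.Instances.ENNReal.ENatENNReal
import Mathlib.Topology.Instances.ENNReal.Lemmas
import Mathlib.Topology.Instances.ENat
import Mathlib.Topology.Instances.EReal.Lemmas
import Mathlib.Topology.Instances.Int
import Mathlib.Topology.Instances.Irrational
import Mathlib.Topology.Instances.Matrix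
import Mathlib.Topology.Instances.NNReal.Lemmas
import Mathlib.Topology.Instances.Nat
import Mathlib.Topology.Instances.PNat
import Mathlib.Topology.Instances.Rat
import Mathlib.Topology.Instances.RatLemmas
import Mathlib.Topology.Instances.Real.Lemmas
import Mathlib.Topology.Instances.RealVectorSpace
import Mathlib.Topology.Instances.Shrink
import Mathlib.Topology.Instances.Sign
import Mathlib.Topology.Instances.TrivSqZeroExt
import Mathlib.Topology.Instances.ZMod
import Mathlib.Topology.Instances.ZMultiples
import Mathlib.Topology.Irreducible
import Mathlib.Topology.IsClosedRestrict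
import Mathlib.Topology.IsLocalHomeomorph
import Mathlib.Topology.JacobsonSpace
import Mathlib.Topology.KrullDimension
import Mathlib.Topology.List
import Mathlib.Topology.LocalAtTarget
import Mathlib.Topology.LocallyClosed
import Mathlib.Topology.LocallyConstant.Algebra
import Mathlib.Topology.LocallyConstant.Basic
import Mathlib.Topology.LocallyFinite
import Mathlib.Topology.LocallyFinsupp
import Mathlib.Topology.LocallyFinsupp.Pushforward
import Mathlib.Topology.Maps.Basic
import Mathlib.Topology.Maps.OpenQuotient
import Mathlib.Topology.Maps.Proper.Basic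
import Mathlib.Topology.Maps.Proper.CompactlyGenerated
import Mathlib.Topology.Maps.Proper.UniversallyClosed
import Mathlib.Topology.Maps.Strict.Basic
import Mathlib.Topology.Maps.Strict.Group
import Mathlib.Topology.Maps.Strict.Module
import Mathlib.Topology.MetricSpace.Algebra
import Mathlib.Topology.MetricSpace.Antilipschitz
import Mathlib.Topology.MetricSpace.Basic
import Mathlib.Topology.MetricSpace.Bilipschitz
import Mathlib.Topology.MetricSpace.Bounded
import Mathlib.Topology.MetricSpace.BundledFun
import Mathlib.Topology.MetricSpace.CantorScheme
import Mathlib.Topology.MetricSpace.CauSeqFilter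
import Mathlib.Topology.MetricSpace.Cauchy
import Mathlib.Topology.MetricSpace.Closeds
import Mathlib.Topology.MetricSpace.Completion
import Mathlib.Topology.MetricSpace.Congruence
import Mathlib.Topology.MetricSpace.Contracting
import Mathlib.Topology.MetricSpace.Cover
import Mathlib.Topology.MetricSpace.CoveringNumbers
import Mathlib.Topology.MetricSpace.Defs
import Mathlib.Topology.MetricSpace.Dilation
import Mathlib.Topology.MetricSpace.DilationEquiv
import Mathlib.Topology.MetricSpace.Equicontinuity
import Mathlib.Topology.MetricSpace.Gluing
import Mathlib.Topology.MetricSpace.GromovHausdorff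
import Mathlib.Topology.MetricSpace.GromovHausdorffRealized
import Mathlib.Topology.MetricSpace.HausdorffAlexandroff
import Mathlib.Topology.MetricSpace.HausdorffDimension
import Mathlib.Topology.MetricSpace.HausdorffDistance
import Mathlib.Topology.MetricSpace.Holder
import Mathlib.Topology.MetricSpace.HolderNorm
import Mathlib.Topology.MetricSpace.Infsep
import Mathlib.Topology.MetricSpace.IsometricSMul
import Mathlib.Topology.MetricSpace.Isometry
import Mathlib.Topology.MetricSpace.Kuratowski
import Mathlib.Topology.MetricSpace.Lipschitz
import Mathlib.Topology.MetricSpace.MetricSeparated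
import Mathlib.Topology.MetricSpace.PartitionOfUnity
import Mathlib.Topology.MetricSpace.Perfect
import Mathlib.Topology.MetricSpace.PiNat
import Mathlib.Topology.MetricSpace.Polish
import Mathlib.Topology.MetricSpace.ProperSpace
import Mathlib.Topology.MetricSpace.ProperSpace.Lemmas
import Mathlib.Topology.MetricSpace.ProperSpace.Real
import Mathlib.Topology.MetricSpace.Pseudo.Basic
import Mathlib.Topology.MetricSpace.Pseudo.Constructions
import Mathlib.Topology.MetricSpace.Pseudo.Defs
import Mathlib.Topology.MetricSpace.Pseudo.Lemmas
import Mathlib.Topology.MetricSpace.Pseudo.Pi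
import Mathlib.Topology.MetricSpace.Pseudo.Real
import Mathlib.Topology.MetricSpace.Sequences
import Mathlib.Topology.MetricSpace.ShrinkingLemma
import Mathlib.Topology.MetricSpace.Similarity
import Mathlib.Topology.MetricSpace.Snowflaking
import Mathlib.Topology.MetricSpace.ThickenedIndicator
import Mathlib.Topology.MetricSpace.Thickening
import Mathlib.Topology.MetricSpace.TransferInstance
import Mathlib.Topology.MetricSpace.Ultra.Basic
import Mathlib.Topology.MetricSpace.Ultra.ContinuousMaps
import Mathlib.Topology.MetricSpace.Ultra.Pi
import Mathlib.Topology.MetricSpace.Ultra.TotallySeparated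
import Mathlib.Topology.MetricSpace.UniformConvergence
import Mathlib.Topology.Metrizable.Basic
import Mathlib.Topology.Metrizable.CompletelyMetrizable
import Mathlib.Topology.Metrizable.ContinuousMap
import Mathlib.Topology.Metrizable.Real
import Mathlib.Topology.Metrizable.Uniformity
import Mathlib.Topology.Metrizable.Urysohn
import Mathlib.Topology.NatEmbedding
import Mathlib.Topology.Neighborhoods
import Mathlib.Topology.NhdsKer
import Mathlib.Topology.NhdsSet
import Mathlib.Topology.NhdsWithin
import Mathlib.Topology.NoetherianSpace
import Mathlib.Topology.OmegaCompletePartialOrder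
import Mathlib.Topology.OpenPartialHomeomorph.Basic
import Mathlib.Topology.OpenPartialHomeomorph.Composition
import Mathlib.Topology.OpenPartialHomeomorph.Constructions
import Mathlib.Topology.OpenPartialHomeomorph.Continuity
import Mathlib.Topology.OpenPartialHomeomorph.Defs
import Mathlib.Topology.OpenPartialHomeomorph.IsImage
import Mathlib.Topology.Order
import Mathlib.Topology.Order.AtTopBotIxx
import Mathlib.Topology.Order.Basic
import Mathlib.Topology.Order.Bornology
import Mathlib.Topology.Order.Category.AlexDisc
import Mathlib.Topology.Order.Category.FrameAdjunction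
import Mathlib.Topology.Order.Compact
import Mathlib.Topology.Order.Completion
import Mathlib.Topology.Order.CountableSeparating
import Mathlib.Topology.Order.DenselyOrdered
import Mathlib.Topology.Order.ExtendFrom
import Mathlib.Topology.Order.ExtrClosure
import Mathlib.Topology.Order.Filter
import Mathlib.Topology.Order.Hom.Basic
import Mathlib.Topology.Order.Hom.Esakia
import Mathlib.Topology.Order.HullKernel
import Mathlib.Topology.Order.IntermediateValue
import Mathlib.Topology.Order.IsLUB
import Mathlib.Topology.Order.IsLocallyClosed
import Mathlib.Topology.Order.IsNormal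
import Mathlib.Topology.Order.Lattice
import Mathlib.Topology.Order.LawsonTopology
import Mathlib.Topology.Order.LeftRight
import Mathlib.Topology.Order.LeftRightLim
import Mathlib.Topology.Order.LeftRightNhds
import Mathlib.Topology.Order.LiminfLimsup
import Mathlib.Topology.Order.LocalExtr
import Mathlib.Topology.Order.LowerUpperTopology
import Mathlib.Topology.Order.Monotone
import Mathlib.Topology.Order.MonotoneContinuity
import Mathlib.Topology.Order.MonotoneConvergence
import Mathlib.Topology.Order.NhdsSet
import Mathlib.Topology.Order.OrderClosed
import Mathlib.Topology.Order.OrderClosedExtr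
import Mathlib.Topology.Order.PartialSups
import Mathlib.Topology.Order.Priestley
import Mathlib.Topology.Order.ProjIcc
import Mathlib.Topology.Order.Real
import Mathlib.Topology.Order.Rolle
import Mathlib.Topology.Order.ScottTopology
import Mathlib.Topology.Order.SuccPred
import Mathlib.Topology.Order.T5
import Mathlib.Topology.Order.UpperLowerSetTopology
import Mathlib.Topology.Order.WithTop
import Mathlib.Topology.Partial
import Mathlib.Topology.PartialHomeomorph.Basic
import Mathlib.Topology.PartialHomeomorph.Defs
import Mathlib.Topology.PartitionOfUnity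
import Mathlib.Topology.Path
import Mathlib.Topology.Perfect
import Mathlib.Topology.Piecewise
import Mathlib.Topology.PreorderRestrict
import Mathlib.Topology.QuasiSeparated
import Mathlib.Topology.Semicontinuity.Basic
import Mathlib.Topology.Semicontinuity.Defs
import Mathlib.Topology.Semicontinuity.Hemicontinuity
import Mathlib.Topology.Semicontinuity.Lindelof
import Mathlib.Topology.SeparatedMap
import Mathlib.Topology.Separation.AlexandrovDiscrete
import Mathlib.Topology.Separation.Basic
import Mathlib.Topology.Separation.CompletelyRegular
import Mathlib.Topology.Separation.Connected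
import Mathlib.Topology.Separation.CountableSeparatingOn
import Mathlib.Topology.Separation.DisjointCover
import Mathlib.Topology.Separation.GDelta
import Mathlib.Topology.Separation.Hausdorff
import Mathlib.Topology.Separation.Lemmas
import Mathlib.Topology.Separation.LinearUpperLowerSetTopology
import Mathlib.Topology.Separation.NotNormal
import Mathlib.Topology.Separation.PerfectlyNormal
import Mathlib.Topology.Separation.Profinite
import Mathlib.Topology.Separation.Regular
import Mathlib.Topology.Separation.SeparatedNhds
import Mathlib.Topology.Sequences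
import Mathlib.Topology.Sets.BaseChangeNhds
import Mathlib.Topology.Sets.Closeds
import Mathlib.Topology.Sets.CompactOpenCovered
import Mathlib.Topology.Sets.Compacts
import Mathlib.Topology.Sets.OpenCover
import Mathlib.Topology.Sets.Opens
import Mathlib.Topology.Sets.Order
import Mathlib.Topology.Sets.VietorisTopology
import Mathlib.Topology.Sheaves.Abelian
import Mathlib.Topology.Sheaves.AddCommGrpCat
import Mathlib.Topology.Sheaves.Alexandrov
import Mathlib.Topology.Sheaves.CommRingCat
import Mathlib.Topology.Sheaves.EtaleSpace
import Mathlib.Topology.Sheaves.Flasque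
import Mathlib.Topology.Sheaves.Forget
import Mathlib.Topology.Sheaves.Functors
import Mathlib.Topology.Sheaves.Init
import Mathlib.Topology.Sheaves.Limits
import Mathlib.Topology.Sheaves.LocalPredicate
import Mathlib.Topology.Sheaves.LocallySurjective
import Mathlib.Topology.Sheaves.MayerVietoris
import Mathlib.Topology.Sheaves.Module
import Mathlib.Topology.Sheaves.Over
import Mathlib.Topology.Sheaves.PUnit
import Mathlib.Topology.Sheaves.Points
import Mathlib.Topology.Sheaves.Presheaf
import Mathlib.Topology.Sheaves.PresheafOfFunctions
import Mathlib.Topology.Sheaves.Sheaf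
import Mathlib.Topology.Sheaves.SheafCondition.EqualizerProducts
import Mathlib.Topology.Sheaves.SheafCondition.OpensLeCover
import Mathlib.Topology.Sheaves.SheafCondition.PairwiseIntersections
import Mathlib.Topology.Sheaves.SheafCondition.Sites
import Mathlib.Topology.Sheaves.SheafCondition.UniqueGluing
import Mathlib.Topology.Sheaves.SheafOfFunctions
import Mathlib.Topology.Sheaves.Sheafify
import Mathlib.Topology.Sheaves.Skyscraper
import Mathlib.Topology.Sheaves.Stalks
import Mathlib.Topology.ShrinkingLemma
import Mathlib.Topology.Sion
import Mathlib.Topology.SmallInductiveDimension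
import Mathlib.Topology.Sober
import Mathlib.Topology.Specialization
import Mathlib.Topology.Spectral.Basic
import Mathlib.Topology.Spectral.ConstructibleTopology
import Mathlib.Topology.Spectral.Hom
import Mathlib.Topology.Spectral.Prespectral
import Mathlib.Topology.Subpath
import Mathlib.Topology.TietzeExtension
import Mathlib.Topology.Ultrafilter
import Mathlib.Topology.UniformSpace.AbsoluteValue
import Mathlib.Topology.UniformSpace.AbstractCompletion
import Mathlib.Topology.UniformSpace.Ascoli
import Mathlib.Topology.UniformSpace.Basic
import Mathlib.Topology.UniformSpace.Cauchy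
import Mathlib.Topology.UniformSpace.Closeds
import Mathlib.Topology.UniformSpace.Compact
import Mathlib.Topology.UniformSpace.CompactConvergence
import Mathlib.Topology.UniformSpace.CompareReals
import Mathlib.Topology.UniformSpace.CompleteSeparated
import Mathlib.Topology.UniformSpace.Completion
import Mathlib.Topology.UniformSpace.Defs
import Mathlib.Topology.UniformSpace.Dini
import Mathlib.Topology.UniformSpace.DiscreteUniformity
import Mathlib.Topology.UniformSpace.Equicontinuity
import Mathlib.Topology.UniformSpace.Equiv
import Mathlib.Topology.UniformSpace.HeineCantor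
import Mathlib.Topology.UniformSpace.LocallyUniformConvergence
import Mathlib.Topology.UniformSpace.Matrix
import Mathlib.Topology.UniformSpace.OfCompactT2
import Mathlib.Topology.UniformSpace.OfFun
import Mathlib.Topology.UniformSpace.Path
import Mathlib.Topology.UniformSpace.Pi
import Mathlib.Topology.UniformSpace.ProdApproximation
import Mathlib.Topology.UniformSpace.Real
import Mathlib.Topology.UniformSpace.Separation
import Mathlib.Topology.UniformSpace.Ultra.Basic
import Mathlib.Topology.UniformSpace.Ultra.Completion
import Mathlib.Topology.UniformSpace.Ultra.Constructions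
import Mathlib.Topology.UniformSpace.UniformApproximation
import Mathlib.Topology.UniformSpace.UniformConvergence
import Mathlib.Topology.UniformSpace.UniformConvergenceTopology
import Mathlib.Topology.UniformSpace.UniformEmbedding
import Mathlib.Topology.UniformSpace.Uniformizable
import Mathlib.Topology.UnitInterval
import Mathlib.Topology.UrysohnsBounded
import Mathlib.Topology.UrysohnsLemma
import Mathlib.Topology.VectorBundle.Basic
import Mathlib.Topology.VectorBundle.Constructions
import Mathlib.Topology.VectorBundle.ContinuousAlternatingMap
import Mathlib.Topology.VectorBundle.FiniteDimensional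
import Mathlib.Topology.VectorBundle.Hom
import Mathlib.Topology.VectorBundle.Riemannian
import Mathlib.Topology.WithTopology
import Mathlib.Util.AddRelatedDecl
import Mathlib.Util.AliasIn
import Mathlib.Util.AssertNoSorry
import Mathlib.Util.AtLocation
import Mathlib.Util.AtomM
import Mathlib.Util.AtomM.Recurse
import Mathlib.Util.CodeActions
import Mathlib.Util.CodeActions.BinderPlicity
import Mathlib.Util.CompileInductive
import Mathlib.Util.CountHeartbeats
import Mathlib.Util.DelabNonCanonical
import Mathlib.Util.Delaborators
import Mathlib.Util.DischargerAsTactic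
import Mathlib.Util.ElabWithoutMVars
import Mathlib.Util.Export
import Mathlib.Util.FormatTable
import Mathlib.Util.GetAllModules
import Mathlib.Util.LongNames
import Mathlib.Util.MemoFix
import Mathlib.Util.Notation3
import Mathlib.Util.PPOptions
import Mathlib.Util.ParseCommand
import Mathlib.Util.PrintSorries
import Mathlib.Util.Qq
import Mathlib.Util.Simp
import Mathlib.Util.SleepHeartbeats
import Mathlib.Util.Superscript
import Mathlib.Util.SynthesizeUsing
import Mathlib.Util.Tactic
import Mathlib.Util.TermReduce
import Mathlib.Util.TransImports
import Mathlib.Util.WhatsNew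
import Mathlib.Util.WithWeakNamespace

/-!
# All of Mathlib except the Hahn series modules (helper4)

`Mathlib.Data.Finset.MulAntidiagonal` declares a `Finset.antidiagonal` that shadows the exported
`Finset.HasAntidiagonal.antidiagonal`; files whose statements mention `Finset.antidiagonal` need
imports avoiding it.
-/
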