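import Groth.Agent.Lib.T2H4NhPolyA

/-!
# Numerics of divided power monomials (helper4; copy with restricted imports avoiding `Finset.antidiagonal` shadowing)
-/

set_option autoImplicit false
universe u v w

namespace Groth.Agent.Lib.T2H4.NhPoly

open Finset Nat

variable {ι : Type w} [Fintype ι]

/-- `G e = ∏ (e i)!`. -/
def G (e : ι →₀ ℕ) : ℕ := ∏ i, (e i)!

/-- `K e f = ∏ C(e i + f i, e i)`. -/
def K (e f : ι →₀ ℕ) : ℕ := ∏ i, (e i + f i).choose (e i)

lemma G_pos (e : ι →₀ ℕ) : 0 < G e := Finset.prod_pos fun i _ => Nat.factorial_pos _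

lemma G_zero : G (0 : ι →₀ ℕ) = 1 := by simp [G]

lemma K_mul_G (e f : ι →₀ ℕ) : K e f * (G e * G f) = G (e + f) := by
  unfold K G
  rw [← Finset.prod_mul_distrib, ← Finset.prod_mul_distrib]
  refine Finset.prod_congr rfl fun i _ => ?_
  rw [Finsupp.add_apply, ← mul_assoc, Nat.choose_symm_add]
  exact Nat.add_choose_mul_factorial_mul_factorial (e i) (f i)

/-- `(G e)^q ∣ G (q • e)`. -/
lemma G_pow_dvd (q : ℕ) (e : ι →₀ ℕ) : G e ^ q ∣ G (q • e) := by
  unfold G
  rw [← Finset.prod_pow]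
  refine Finset.prod_dvd_prod_of_dvd _ _ fun i _ => ?_
  rw [Finsupp.smul_apply, smul_eq_mul]
  have := Nat.prod_factorial_dvd_factorial_sum (Finset.range q) (fun _ => e i)
  simpa using this

/-- `q! (G e)^q ∣ G (q • e)` for `e ≠ 0`. -/
lemma fact_mul_G_pow_dvd (q : ℕ) {e : ι →₀ ℕ} (he : e ≠ 0) : q ! * G e ^ q ∣ G (q • e) := by
  classical
  obtain ⟨i0, hi0⟩ : ∃ i, e i ≠ 0 := by
    by_contra hne
    push Not at hne
    exact he (Finsupp.ext fun i => by simpa using hne i)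
  unfold G
  rw [← Finset.prod_pow, ← Finset.mul_prod_erase _ _ (Finset.mem_univ i0),
    ← Finset.mul_prod_erase _ _ (Finset.mem_univ i0), ← mul_assoc]
  refine Nat.mul_dvd_mul ?_ (Finset.prod_dvd_prod_of_dvd _ _ fun i _ => ?_)
  · rw [Finsupp.smul_apply, smul_eq_mul, ← Nat.uniformBell_mul_eq q hi0]
    exact ⟨uniformBell q (e i0), by ring⟩
  · rw [Finsupp.smul_apply, smul_eq_mul]
    have := Nat.prod_factorial_dvd_factorial_sum (Finset.range q) (fun _ => e i)
    simpa using this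

/-- The coefficient of the `q`-th divided power of the monomial `e`. -/
noncomputable def c (q : ℕ) (e : ι →₀ ℕ) : ℕ := G (q • e) / (q ! * G e ^ q)

lemma c_spec (q : ℕ) {e : ι →₀ ℕ} (he : e ≠ 0) : c q e * (q ! * G e ^ q) = G (q • e) :=
  Nat.div_mul_cancel (fact_mul_G_pow_dvd q he)

/-- The coefficient of the `q`-th power of the monomial `f`. -/
noncomputable def pwM (q : ℕ) (f : ι →₀ ℕ) : ℕ := G (q • f) / G f ^ q

lemma pwM_spec (q : ℕ) (f : ι →₀ ℕ) : pwM q f * G f ^ q = G (q • f) :=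
  Nat.div_mul_cancel (G_pow_dvd q f)

lemma pwM_succ (q : ℕ) (f : ι →₀ ℕ) : pwM q f * K (q • f) f = pwM (q + 1) f := by
  apply Nat.eq_of_mul_eq_mul_right (pow_pos (G_pos f) (q + 1))
  rw [pwM_spec, succ_nsmul, ← K_mul_G, ← pwM_spec q f, pow_succ]
  ring

lemma pwM_zero (f : ι →₀ ℕ) : pwM 0 f = 1 := by
  simp [pwM, G_zero]

lemma c_zero {e : ι →₀ ℕ} (he : e ≠ 0) : c 0 e = 1 := by
  have := c_spec 0 he
  simpa [G_zero] using this

lemma c_one {e : ι →₀ ℕ} (he : e ≠ 0) : c 1 e = 1 := by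
  have := c_spec 1 he
  rw [one_smul, Nat.factorial_one, one_mul, pow_one] at this
  exact Nat.eq_of_mul_eq_mul_right (G_pos e) (by rw [this, one_mul])

/-- Identity #1: exponential type of the basic series. -/
lemma c_mul_c (q1 q2 : ℕ) {e : ι →₀ ℕ} (he : e ≠ 0) :
    c q1 e * c q2 e * K (q1 • e) (q2 • e) = (q1 + q2).choose q1 * c (q1 + q2) e := by
  apply Nat.eq_of_mul_eq_mul_right
    (Nat.mul_pos (Nat.mul_pos (Nat.factorial_pos q1) (Nat.factorial_pos q2))
      (pow_pos (G_pos e) (q1 + q2)))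
  have h1 := c_spec q1 he
  have h2 := c_spec q2 he
  have h3 := c_spec (q1 + q2) he
  have h4 := K_mul_G (q1 • e) (q2 • e)
  rw [← add_smul] at h4
  have h5 := Nat.add_choose_mul_factorial_mul_factorial q1 q2
  rw [← Nat.choose_symm_add] at h5
  calc c q1 e * c q2 e * K (q1 • e) (q2 • e) * (q1 ! * q2 ! * G e ^ (q1 + q2))
      = K (q1 • e) (q2 • e) * ((c q1 e * (q1 ! * G e ^ q1)) * (c q2 e * (q2 ! * G e ^ q2))) := by
        rw [pow_add]; ring
    _ = G ((q1 + q2) • e) := by rw [h1, h2, h4]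
    _ = c (q1 + q2) e * ((q1 + q2)! * G e ^ (q1 + q2)) := h3.symm
    _ = (q1 + q2).choose q1 * c (q1 + q2) e * (q1 ! * q2 ! * G e ^ (q1 + q2)) := by
        rw [← h5]; ring

/-- Identity #2: homogeneity on monomials. -/
lemma K_pow_mul_c (q : ℕ) (f : ι →₀ ℕ) {e : ι →₀ ℕ} (he : e ≠ 0) :
    K f e ^ q * c q (f + e) = pwM q f * c q e * K (q • f) (q • e) := by
  have hfe : f + e ≠ 0 := by
    intro h
    apply he
    ext i
    have := DFunLike.congr_fun h i
    simp only [Finsupp.add_apply, Finsupp.zero_apply] at this ⊢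
    omega
  apply Nat.eq_of_mul_eq_mul_right
    (Nat.mul_pos (Nat.factorial_pos q) (Nat.mul_pos (pow_pos (G_pos f) q) (pow_pos (G_pos e) q)))
  have h1 := c_spec q hfe
  have h2 := c_spec q he
  have h3 := pwM_spec q f
  have h4 := K_mul_G (q • f) (q • e)
  rw [← smul_add] at h4
  have h5 := K_mul_G f e
  calc K f e ^ q * c q (f + e) * (q ! * (G f ^ q * G e ^ q))
      = c q (f + e) * (q ! * (K f e * (G f * G e)) ^ q) := by ring
    _ = G (q • (f + e)) := by rw [h5, h1]
    _ = K (q • f) (q • e) * ((pwM q f * G f ^ q) * (c q e * (q ! * G e ^ q))) := by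
        rw [h3, h2, mul_comm (G (q • f)), ← h4]; ring
    _ = pwM q f * c q e * K (q • f) (q • e) * (q ! * (G f ^ q * G e ^ q)) := by ring

/-- Identity #3: the composition rule on monomials. -/
lemma c_pow_mul_c (m n : ℕ) (hn : n ≠ 0) {e : ι →₀ ℕ} (he : e ≠ 0) :
    c n e ^ m * c m (n • e) = uniformBell m n * c (m * n) e := by
  have hne : n • e ≠ 0 := by
    intro h
    apply he
    ext i
    have := DFunLike.congr_fun h i
    simp only [Finsupp.smul_apply, smul_eq_mul, Finsupp.zero_apply, mul_eq_zero] at this ⊢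
    tauto
  apply Nat.eq_of_mul_eq_mul_right
    (Nat.mul_pos (Nat.mul_pos (pow_pos (Nat.factorial_pos n) m) (Nat.factorial_pos m))
      (pow_pos (G_pos e) (m * n)))
  have h1 := c_spec n he
  have h2 := c_spec m hne
  have h3 := c_spec (m * n) he
  have h4 := Nat.uniformBell_mul_eq m hn
  rw [smul_smul] at h2
  calc c n e ^ m * c m (n • e) * (n ! ^ m * m ! * G e ^ (m * n))
      = c m (n • e) * (m ! * (c n e * (n ! * G e ^ n)) ^ m) := by
        rw [Nat.mul_comm m n, pow_mul]; ring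
    _ = G ((m * n) • e) := by rw [h1, h2]
    _ = c (m * n) e * ((m * n)! * G e ^ (m * n)) := h3.symm
    _ = uniformBell m n * c (m * n) e * (n ! ^ m * m ! * G e ^ (m * n)) := by
        rw [← h4]; ring

end Groth.Agent.Lib.T2H4.NhPoly
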