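import Groth.Agent.Lib.T2H4NhPolyB

/-!
# Concretely presented divided power polynomial algebras: monomials (helper4; copy with restricted imports avoiding `Finset.antidiagonal` shadowing)
-/

set_option autoImplicit false
universe u v w

namespace Groth.Agent.Lib.T2H4.NhPoly

open Finset Nat

/-- A concrete presentation of the divided power polynomial algebra. -/
structure Pres (R : Type u) [CommRing R] (ι : Type w) (P : Type v) [CommRing P]
    [Algebra R P] where
  x : ι → ℕ → P
  hx0 : ∀ i, x i 0 = 1
  hxmul : ∀ i n m, x i n * x i m = ((n + m).choose n : P) * x i (n + m)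
  b : Module.Basis (ι →₀ ℕ) R P
  hb : ∀ e : ι →₀ ℕ, b e = e.prod (fun i k => x i k)

variable {R : Type u} [CommRing R] {ι : Type w} [Fintype ι] {P : Type v} [CommRing P]
  [Algebra R P] (D : Pres R ι P)

namespace Pres

lemma M_eq (e : ι →₀ ℕ) : D.b e = ∏ i, D.x i (e i) := by
  rw [D.hb, Finsupp.prod_fintype]
  intro i; exact D.hx0 i

lemma M_zero : D.b 0 = 1 := by
  rw [D.M_eq]; simp [D.hx0]

lemma M_mul (e f : ι →₀ ℕ) : D.b e * D.b f = (K e f : P) * D.b (e + f) := by
  rw [D.M_eq, D.M_eq, D.M_eq, ← Finset.prod_mul_distrib, K, Nat.cast_prod,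
    ← Finset.prod_mul_distrib]
  refine Finset.prod_congr rfl fun i _ => ?_
  rw [D.hxmul, Finsupp.add_apply]

lemma M_pow (f : ι →₀ ℕ) (q : ℕ) : D.b f ^ q = (pwM q f : P) * D.b (q • f) := by
  induction q with
  | zero => simp [pwM_zero, D.M_zero]
  | succ q ih =>
    rw [pow_succ, ih, mul_assoc, D.M_mul, ← pwM_succ, succ_nsmul]
    push_cast
    ring

/-- The augmentation ideal. -/
def aug : Ideal P := Ideal.span {y : P | ∃ (i : ι) (n : ℕ), 1 ≤ n ∧ y = D.x i n}

lemma x_eq_M [DecidableEq ι] (i : ι) (n : ℕ) : D.x i n = D.b (Finsupp.single i n) := by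
  rw [D.hb]
  by_cases hn : n = 0
  · subst hn; simp [D.hx0]
  · rw [Finsupp.prod_single_index (D.hx0 i)]

lemma M_mem_aug {e : ι →₀ ℕ} (he : e ≠ 0) : D.b e ∈ D.aug := by
  classical
  obtain ⟨i0, hi0⟩ : ∃ i, e i ≠ 0 := by
    by_contra hne
    push Not at hne
    exact he (Finsupp.ext fun i => by simpa using hne i)
  rw [D.M_eq, ← Finset.mul_prod_erase _ _ (Finset.mem_univ i0)]
  exact Ideal.mul_mem_right _ _ (Ideal.subset_span ⟨i0, e i0, by omega, rfl⟩)

/-- The coordinate at the monomial `1`. -/
noncomputable def coord0 : P →ₗ[R] R := (Finsupp.lapply 0).comp D.b.repr.toLinearMap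

lemma coord0_M_zero : D.coord0 (D.b 0) = 1 := by
  classical
  simp only [coord0, LinearMap.coe_comp, LinearEquiv.coe_coe, Function.comp_apply,
    Module.Basis.repr_self, Finsupp.lapply_apply, Finsupp.single_apply, if_true]

lemma coord0_M_ne {e : ι →₀ ℕ} (he : e ≠ 0) : D.coord0 (D.b e) = 0 := by
  classical
  simp only [coord0, LinearMap.coe_comp, LinearEquiv.coe_coe, Function.comp_apply,
    Module.Basis.repr_self, Finsupp.lapply_apply, Finsupp.single_apply, if_neg he]

/-- multiplication by a monomial preserves vanishing of the constant coordinate -/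
lemma coord0_mul_M {e : ι →₀ ℕ} (he : e ≠ 0) (a : P) : D.coord0 (a * D.b e) = 0 := by
  classical
  have ha : a = ∑ f ∈ (D.b.repr a).support, (D.b.repr a f) • D.b f := by
    conv_lhs => rw [← D.b.linearCombination_repr a]
    rw [Finsupp.linearCombination_apply, Finsupp.sum]
  rw [ha, Finset.sum_mul, map_sum]
  refine Finset.sum_eq_zero fun f _ => ?_
  rw [smul_mul_assoc, map_smul, D.M_mul, ← nsmul_eq_mul, map_nsmul, D.coord0_M_ne,
    smul_zero, smul_zero]
  intro h
  apply he
  ext i
  have := DFunLike.congr_fun h i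
  simp only [Finsupp.add_apply, Finsupp.zero_apply] at this ⊢
  omega

lemma mem_aug_iff (p : P) : p ∈ D.aug ↔ D.coord0 p = 0 := by
  classical
  constructor
  · intro hp
    unfold aug at hp
    induction hp using Submodule.span_induction with
    | mem y hy =>
      obtain ⟨i, n, hn, rfl⟩ := hy
      rw [D.x_eq_M, D.coord0_M_ne]
      intro h
      have := DFunLike.congr_fun h i
      simp at this
      omega
    | zero => simp
    | add y z _ _ hy hz => rw [map_add, hy, hz, add_zero]
    | smul a y hy hcy =>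
      -- `a • y = a * y` with `coord0 y = 0`
      have hy' : y = ∑ f ∈ (D.b.repr y).support, (D.b.repr y f) • D.b f := by
        conv_lhs => rw [← D.b.linearCombination_repr y]
        rw [Finsupp.linearCombination_apply, Finsupp.sum]
      rw [smul_eq_mul, hy', Finset.mul_sum, map_sum]
      refine Finset.sum_eq_zero fun f hf => ?_
      rw [mul_smul_comm, map_smul]
      by_cases hf0 : f = 0
      · subst hf0
        have : D.b.repr y 0 = 0 := hcy
        rw [this, zero_smul]
      · rw [D.coord0_mul_M hf0, smul_zero]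
  · intro hp
    have hp' : p = ∑ f ∈ (D.b.repr p).support, (D.b.repr p f) • D.b f := by
      conv_lhs => rw [← D.b.linearCombination_repr p]
      rw [Finsupp.linearCombination_apply, Finsupp.sum]
    rw [hp']
    refine Ideal.sum_mem _ fun f hf => ?_
    by_cases hf0 : f = 0
    · subst hf0
      have : D.b.repr p 0 = 0 := hp
      rw [this, zero_smul]; exact Ideal.zero_mem _
    · exact Submodule.smul_of_tower_mem _ _ (D.M_mem_aug hf0)

end Pres

end Groth.Agent.Lib.T2H4.NhPoly
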