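import Groth.Agent.Lib.T2H4NhPolyF

/-!
# The divided power polynomial algebra: construction (helper4; copy with restricted imports avoiding `Finset.antidiagonal` shadowing)

`Γ_ℤ ⊆ ℚ[X_1, …, X_t]` is the subring spanned by the divided monomials `X^e / e!`.
-/

set_option autoImplicit false
universe u

namespace Groth.Agent.Lib.T2H4.NhUniv

open MvPolynomial Groth.Agent.Lib.T2H4.NhPoly

variable (t : ℕ)

/-- The divided monomial `X^e / e!`. -/
noncomputable def dm (e : Fin t →₀ ℕ) : MvPolynomial (Fin t) ℚ := monomial e ((G e : ℚ)⁻¹)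

lemma G_ne_zero (e : Fin t →₀ ℕ) : (G e : ℚ) ≠ 0 := by
  exact_mod_cast (G_pos e).ne'

lemma dm_mul (e f : Fin t →₀ ℕ) : dm t e * dm t f = (K e f : ℤ) • dm t (e + f) := by
  unfold dm
  rw [monomial_mul, zsmul_eq_mul, ← map_intCast (C : ℚ →+* MvPolynomial (Fin t) ℚ),
    C_mul_monomial]
  congr 1
  have h := K_mul_G e f
  have h' : ((K e f : ℕ) : ℚ) * ((G e : ℚ) * (G f : ℚ)) = (G (e + f) : ℚ) := by exact_mod_cast h
  rw [Int.cast_natCast, ← h']
  have h1 := G_ne_zero t e
  have h2 := G_ne_zero t f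
  have h3 : ((K e f : ℕ) : ℚ) ≠ 0 := by
    intro h0
    rw [h0, zero_mul] at h'
    exact G_ne_zero t (e + f) h'.symm
  field_simp

lemma dm_zero : dm t 0 = 1 := by
  unfold dm
  rw [G_zero]; simp

/-- The span of the divided monomials. -/
noncomputable def gamSpan : Submodule ℤ (MvPolynomial (Fin t) ℚ) :=
  Submodule.span ℤ (Set.range (dm t))

lemma mul_mem_gamSpan {a b : MvPolynomial (Fin t) ℚ} (ha : a ∈ gamSpan t) (hb : b ∈ gamSpan t) :
    a * b ∈ gamSpan t := by
  unfold gamSpan at ha hb ⊢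
  induction ha using Submodule.span_induction with
  | mem x hx =>
    obtain ⟨e, rfl⟩ := hx
    induction hb using Submodule.span_induction with
    | mem y hy =>
      obtain ⟨f, rfl⟩ := hy
      rw [dm_mul]
      exact Submodule.smul_mem _ _ (Submodule.subset_span ⟨_, rfl⟩)
    | zero => rw [mul_zero]; exact Submodule.zero_mem _
    | add y z _ _ hy hz => rw [mul_add]; exact Submodule.add_mem _ hy hz
    | smul c y _ hy => rw [mul_smul_comm]; exact Submodule.smul_mem _ _ hy
  | zero => rw [zero_mul]; exact Submodule.zero_mem _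
  | add y z _ _ hy hz => rw [add_mul]; exact Submodule.add_mem _ hy hz
  | smul c y _ hy => rw [smul_mul_assoc]; exact Submodule.smul_mem _ _ hy

/-- `Γ_ℤ` as a subring of `ℚ[X]`. -/
noncomputable def Gam : Subring (MvPolynomial (Fin t) ℚ) where
  carrier := gamSpan t
  mul_mem' := mul_mem_gamSpan t
  one_mem' := by
    rw [← dm_zero t]; exact Submodule.subset_span ⟨0, rfl⟩
  add_mem' := Submodule.add_mem _
  zero_mem' := Submodule.zero_mem _
  neg_mem' := Submodule.neg_mem _

lemma dm_mem (e : Fin t →₀ ℕ) : dm t e ∈ Gam t := Submodule.subset_span ⟨e, rfl⟩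

lemma dm_linearIndependent : LinearIndependent ℤ (dm t) := by
  classical
  rw [linearIndependent_iff']
  intro s g hg e he
  have h1 := congrArg (coeff e) hg
  rw [coeff_sum, coeff_zero] at h1
  have h2 : ∀ f ∈ s, coeff e (g f • dm t f) = if f = e then (g f : ℚ) * (G f : ℚ)⁻¹ else 0 := by
    intro f _
    unfold dm
    rw [zsmul_eq_mul, ← map_intCast (C : ℚ →+* MvPolynomial (Fin t) ℚ), C_mul_monomial,
      coeff_monomial]
  rw [Finset.sum_congr rfl h2, Finset.sum_ite_eq' s e, if_pos he] at h1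
  have h3 : (g e : ℚ) = 0 := by
    rcases mul_eq_zero.mp h1 with h | h
    · exact h
    · exact absurd (inv_eq_zero.mp h) (G_ne_zero t e)
  exact_mod_cast h3

/-- The linear equivalence between the span and the subring. -/
noncomputable def spanEquiv : gamSpan t ≃ₗ[ℤ] Gam t where
  toFun x := ⟨x.1, x.2⟩
  invFun x := ⟨x.1, x.2⟩
  left_inv _ := rfl
  right_inv _ := rfl
  map_add' _ _ := rfl
  map_smul' _ _ := rfl

/-- The basis of divided monomials. -/
noncomputable def gamBasis : Module.Basis (Fin t →₀ ℕ) ℤ (Gam t) :=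
  (Module.Basis.span (dm_linearIndependent t)).map (spanEquiv t)

lemma gamBasis_apply (e : Fin t →₀ ℕ) : (gamBasis t e : MvPolynomial (Fin t) ℚ) = dm t e := by
  unfold gamBasis
  rw [Module.Basis.map_apply, Module.Basis.span_apply]
  rfl

end Groth.Agent.Lib.T2H4.NhUniv
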