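import Groth.Agent.Lib.T2H4NhUnivA

/-!
# The divided power polynomial algebra over a ring (helper4; copy with restricted imports avoiding `Finset.antidiagonal` shadowing)
-/

set_option autoImplicit false
universe u

namespace Groth.Agent.Lib.T2H4.NhUniv

open MvPolynomial TensorProduct Groth.Agent.Lib.T2H4.NhPoly

variable (A : Type u) [CommRing A] (t : ℕ)

/-- The divided power polynomial algebra `A⟨X_1, …, X_t⟩`. -/
abbrev DP : Type u := A ⊗[ℤ] Gam t

/-- The element `X_i^[n]` of `Γ_ℤ`. -/
noncomputable def xg (i : Fin t) (n : ℕ) : Gam t := ⟨dm t (Finsupp.single i n), dm_mem t _⟩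

lemma G_single (i : Fin t) (n : ℕ) : G (Finsupp.single i n : Fin t →₀ ℕ) = n.factorial := by
  classical
  unfold G
  rw [Finset.prod_eq_single i]
  · simp
  · intro j _ hj; rw [Finsupp.single_apply, if_neg (Ne.symm hj)]; simp
  · intro h; exact absurd (Finset.mem_univ i) h

lemma K_single (i : Fin t) (n m : ℕ) :
    K (Finsupp.single i n : Fin t →₀ ℕ) (Finsupp.single i m) = (n + m).choose n := by
  classical
  unfold K
  rw [Finset.prod_eq_single i]
  · simp
  · intro j _ hj
    rw [Finsupp.single_apply, Finsupp.single_apply, if_neg (Ne.symm hj)]; simp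
  · intro h; exact absurd (Finset.mem_univ i) h

lemma xg_zero (i : Fin t) : xg t i 0 = 1 := by
  apply Subtype.ext
  change dm t (Finsupp.single i 0) = 1
  rw [Finsupp.single_zero, dm_zero]

lemma xg_mul (i : Fin t) (n m : ℕ) :
    xg t i n * xg t i m = ((n + m).choose n : ℤ) • xg t i (n + m) := by
  apply Subtype.ext
  change dm t (Finsupp.single i n) * dm t (Finsupp.single i m) =
    ((n + m).choose n : ℤ) • dm t (Finsupp.single i (n + m))
  rw [dm_mul, K_single, Finsupp.single_add]

lemma prod_xg (e : Fin t →₀ ℕ) : e.prod (fun i k => xg t i k) = gamBasis t e := by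
  classical
  apply Subtype.ext
  rw [gamBasis_apply, Finsupp.prod, SubmonoidClass.coe_finsetProd]
  change ∏ i ∈ e.support, dm t (Finsupp.single i (e i)) = dm t e
  have h1 : ∀ i ∈ e.support, dm t (Finsupp.single i (e i)) =
      monomial (Finsupp.single i (e i)) ((((e i).factorial : ℕ) : ℚ)⁻¹) := by
    intro i _; unfold dm; rw [G_single]
  rw [Finset.prod_congr rfl h1, ← monomial_sum_prod]
  have h2 : ∑ i ∈ e.support, Finsupp.single i (e i) = e := Finsupp.sum_single e
  rw [h2]
  unfold dm
  congr 1
  unfold G
  rw [Nat.cast_prod, ← Finset.prod_inv_distrib]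
  refine Finset.prod_subset (Finset.subset_univ _) fun i _ hi => ?_
  rw [Finsupp.notMem_support_iff.mp hi]; simp

/-- The presentation of `A⟨X_1, …, X_t⟩`. -/
noncomputable def pres : Pres A (Fin t) (DP A t) where
  x := fun i n => (1 : A) ⊗ₜ[ℤ] xg t i n
  hx0 := fun i => by rw [xg_zero]; rfl
  hxmul := fun i n m => by
    rw [Algebra.TensorProduct.tmul_mul_tmul, mul_one, xg_mul, TensorProduct.tmul_smul,
      zsmul_eq_mul, Int.cast_natCast]
  b := Algebra.TensorProduct.basis A (gamBasis t)
  hb := fun e => by
    rw [Algebra.TensorProduct.basis_apply, ← prod_xg]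
    have := map_prod (Algebra.TensorProduct.includeRight (R := ℤ) (A := A) (B := Gam t))
      (fun i => xg t i (e i)) e.support
    simp only [Algebra.TensorProduct.includeRight_apply] at this
    rw [Finsupp.prod, Finsupp.prod]
    exact this

end Groth.Agent.Lib.T2H4.NhUniv
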