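import Groth.Prelude.Def_W4c5spincurvestfNode
import Mathlib.Algebra.Polynomial.Laurent
import Mathlib.Algebra.Polynomial.AlgebraMap
import Mathlib.Algebra.Polynomial.Div
import Mathlib.Algebra.MvPolynomial.CommRing
import Mathlib.Tactic

set_option autoImplicit false
universe u

open SpinCurv Polynomial

namespace Groth.Agent.Lib.T2H4.Node

variable (R : Type u) [CommRing R]

/-- Two algebra maps out of `R[x,y]/(xy - π)` agreeing on `x`, `y` are equal. -/
lemma algHom_ext' {B : Type*} [Semiring B] [Algebra R B] (π : R)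
    (f g : PolyNodeRing R π →ₐ[R] B)
    (hx : f (PolyNodeRing.x R π) = g (PolyNodeRing.x R π))
    (hy : f (PolyNodeRing.y R π) = g (PolyNodeRing.y R π)) : f = g := by
  apply Ideal.Quotient.algHom_ext
  apply MvPolynomial.algHom_ext
  intro i
  fin_cases i
  · exact hx
  · exact hy

/-- Build an algebra map out of `R[x,y]/(xy - π)`. -/
noncomputable def lift {B : Type*} [CommRing B] [Algebra R B] (π : R) (a b : B)
    (hab : a * b = algebraMap R B π) : PolyNodeRing R π →ₐ[R] B :=
  Ideal.Quotient.liftₐ _ (MvPolynomial.aeval ![a, b]) (by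
    intro z hz
    rw [Ideal.mem_span_singleton'] at hz
    obtain ⟨c, rfl⟩ := hz
    rw [map_mul]
    have : (MvPolynomial.aeval ![a, b])
        (MvPolynomial.X 0 * MvPolynomial.X 1 - MvPolynomial.C π : MvPolynomial (Fin 2) R) = 0 := by
      simp [hab, MvPolynomial.algebraMap_eq]
    rw [this, mul_zero])

@[simp] lemma lift_x {B : Type*} [CommRing B] [Algebra R B] (π : R) (a b : B)
    (hab : a * b = algebraMap R B π) : lift R π a b hab (PolyNodeRing.x R π) = a := by
  simp [lift, PolyNodeRing.x]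

@[simp] lemma lift_y {B : Type*} [CommRing B] [Algebra R B] (π : R) (a b : B)
    (hab : a * b = algebraMap R B π) : lift R π a b hab (PolyNodeRing.y R π) = b := by
  simp [lift, PolyNodeRing.y]

lemma lift_mk {B : Type*} [CommRing B] [Algebra R B] (π : R) (a b : B)
    (hab : a * b = algebraMap R B π) (F : MvPolynomial (Fin 2) R) :
    lift R π a b hab (Ideal.Quotient.mk _ F) = MvPolynomial.aeval ![a, b] F := by
  simp [lift]

/-- Decomposition of a two-variable polynomial. -/
lemma decomp (F : MvPolynomial (Fin 2) R) : ∃ (g0 g1 : R[X]) (H : MvPolynomial (Fin 2) R),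
    F = Polynomial.aeval (MvPolynomial.X 0 : MvPolynomial (Fin 2) R) g0
      + MvPolynomial.X 1 * Polynomial.aeval (MvPolynomial.X 1 : MvPolynomial (Fin 2) R) g1
      + MvPolynomial.X 0 * MvPolynomial.X 1 * H := by
  induction F using MvPolynomial.induction_on with
  | C a =>
    refine ⟨Polynomial.C a, 0, 0, ?_⟩
    simp [MvPolynomial.algebraMap_eq]
  | add p q hp hq =>
    obtain ⟨g0, g1, H, rfl⟩ := hp
    obtain ⟨g0', g1', H', rfl⟩ := hq
    refine ⟨g0 + g0', g1 + g1', H + H', ?_⟩
    simp only [map_add]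
    ring
  | mul_X p i hp =>
    obtain ⟨g0, g1, H, rfl⟩ := hp
    fin_cases i
    · refine ⟨g0 * Polynomial.X, 0,
        Polynomial.aeval (MvPolynomial.X 1 : MvPolynomial (Fin 2) R) g1 + MvPolynomial.X 0 * H, ?_⟩
      simp only [map_mul, Polynomial.aeval_X, map_zero, mul_zero, add_zero, Fin.zero_eta]
      ring
    · refine ⟨0, Polynomial.C (g0.coeff 0) + Polynomial.X * g1,
        Polynomial.aeval (MvPolynomial.X 0 : MvPolynomial (Fin 2) R) (Polynomial.divX g0)
          + MvPolynomial.X 1 * H, ?_⟩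
      have h0 : Polynomial.aeval (MvPolynomial.X 0 : MvPolynomial (Fin 2) R) g0
          = Polynomial.aeval (MvPolynomial.X 0 : MvPolynomial (Fin 2) R) (Polynomial.divX g0)
              * MvPolynomial.X 0 + MvPolynomial.C (g0.coeff 0) := by
        conv_lhs => rw [← Polynomial.divX_mul_X_add g0]
        simp [MvPolynomial.algebraMap_eq]
      simp only [map_mul, map_add, Polynomial.aeval_X, Polynomial.aeval_C, map_zero, zero_add,
        Fin.mk_one, MvPolynomial.algebraMap_eq]
      rw [h0]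
      ring

/-- `x ↦ X, y ↦ 0`. -/
noncomputable def phi0 : PolyNodeRing R 0 →ₐ[R] R[X] :=
  lift R 0 Polynomial.X 0 (by simp)

/-- `x ↦ 0, y ↦ X`. -/
noncomputable def phi1 : PolyNodeRing R 0 →ₐ[R] R[X] :=
  lift R 0 0 Polynomial.X (by simp)

@[simp] lemma phi0_x : phi0 R (PolyNodeRing.x R 0) = Polynomial.X := lift_x R 0 _ _ _
@[simp] lemma phi0_y : phi0 R (PolyNodeRing.y R 0) = 0 := lift_y R 0 _ _ _
@[simp] lemma phi1_x : phi1 R (PolyNodeRing.x R 0) = 0 := lift_x R 0 _ _ _
@[simp] lemma phi1_y : phi1 R (PolyNodeRing.y R 0) = Polynomial.X := lift_y R 0 _ _ _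

lemma X_mul_eq_zero (g : R[X]) (h : Polynomial.X * g = 0) : g = 0 := by
  ext n
  have := congrArg (fun q : R[X] => q.coeff (n + 1)) h
  simpa using this

/-- `(phi0, phi1)` is jointly injective. -/
lemma eq_zero_of_phi (a : PolyNodeRing R 0) (h0 : phi0 R a = 0) (h1 : phi1 R a = 0) : a = 0 := by
  obtain ⟨F, rfl⟩ := Ideal.Quotient.mk_surjective a
  obtain ⟨g0, g1, H, rfl⟩ := decomp R F
  have e0 : phi0 R (Ideal.Quotient.mk _
      (Polynomial.aeval (MvPolynomial.X 0 : MvPolynomial (Fin 2) R) g0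
      + MvPolynomial.X 1 * Polynomial.aeval (MvPolynomial.X 1 : MvPolynomial (Fin 2) R) g1
      + MvPolynomial.X 0 * MvPolynomial.X 1 * H)) = g0 := by
    rw [phi0, lift_mk]
    simp only [map_add, map_mul, MvPolynomial.aeval_X, ← Polynomial.aeval_algHom_apply]
    simp
  have e1 : phi1 R (Ideal.Quotient.mk _
      (Polynomial.aeval (MvPolynomial.X 0 : MvPolynomial (Fin 2) R) g0
      + MvPolynomial.X 1 * Polynomial.aeval (MvPolynomial.X 1 : MvPolynomial (Fin 2) R) g1
      + MvPolynomial.X 0 * MvPolynomial.X 1 * H)) = Polynomial.C (g0.coeff 0) + Polynomial.X * g1 := by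
    rw [phi1, lift_mk]
    simp only [map_add, map_mul, MvPolynomial.aeval_X, ← Polynomial.aeval_algHom_apply]
    have hz : Polynomial.aeval (0 : R[X]) g0 = Polynomial.C (g0.coeff 0) := by
      rw [← Polynomial.algebraMap_eq, Polynomial.coeff_zero_eq_aeval_zero' (A := R[X])]
    simp [hz]
  rw [e0] at h0
  rw [e1, h0] at h1
  simp only [Polynomial.coeff_zero, map_zero, zero_add] at h1
  have hg1 := X_mul_eq_zero R g1 h1
  rw [Ideal.Quotient.eq_zero_iff_mem, Ideal.mem_span_singleton]
  rw [h0, hg1]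
  simp

section Laurent
open LaurentPolynomial

lemma toLaurent_coeff_nat (f : R[X]) (n : ℕ) :
    (Polynomial.toLaurent f).coeff (n : ℤ) = f.coeff n := by
  rw [LaurentPolynomial.coeff_toLaurent]
  have := Finsupp.mapDomain_apply (Nat.castEmbedding (R := ℤ)).injective f.toFinsupp.coeff n
  rw [Polynomial.toFinsupp_apply] at this
  simpa using this

lemma toLaurent_coeff_neg (f : R[X]) (z : ℤ) (hz : z < 0) :
    (Polynomial.toLaurent f).coeff z = 0 := by
  rw [LaurentPolynomial.coeff_toLaurent]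
  apply Finsupp.mapDomain_of_notMem_range
  rintro ⟨n, hn⟩
  simp at hn
  omega

/-- a polynomial in `T` without constant term equal to a polynomial in `T⁻¹`: both vanish. -/
lemma laurent_key (a b : R[X]) (ha : a.coeff 0 = 0)
    (h : Polynomial.toLaurent a = invert (Polynomial.toLaurent b)) : a = 0 ∧ b = 0 := by
  have ha0 : a = 0 := by
    ext n
    rcases Nat.eq_zero_or_pos n with rfl | hn
    · simpa using ha
    · have := congrArg (fun q : R[T;T⁻¹] => q.coeff (n : ℤ)) h
      simp only [invert_apply] at this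
      rw [toLaurent_coeff_nat, toLaurent_coeff_neg R b (-(n : ℤ)) (by omega)] at this
      simpa using this
  refine ⟨ha0, ?_⟩
  rw [ha0, map_zero] at h
  have h2 : invert (Polynomial.toLaurent b) = invert (0 : R[T;T⁻¹]) := by rw [← h, map_zero]
  have h3 := (invert (R := R)).injective h2
  exact Polynomial.toLaurent_eq_zero.mp h3

end Laurent

open LaurentPolynomial in
theorem node_main
    (rU : SpinCurv.PolyNodeRing R 0 →ₐ[R] SpinCurv.PolyNodeRing R 0)
    (hrUx : rU (SpinCurv.PolyNodeRing.x R 0) = 0)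
    (hrUy : rU (SpinCurv.PolyNodeRing.y R 0) = SpinCurv.PolyNodeRing.y R 0)
    (rV : SpinCurv.PolyNodeRing R 0 →ₐ[R] SpinCurv.PolyNodeRing R 0)
    (hrVx : rV (SpinCurv.PolyNodeRing.x R 0) = SpinCurv.PolyNodeRing.y R 0)
    (hrVy : rV (SpinCurv.PolyNodeRing.y R 0) = 0)
    (gU : SpinCurv.PolyNodeRing R 0 →ₐ[R] LaurentPolynomial R)
    (hgUs : gU (SpinCurv.PolyNodeRing.x R 0) = LaurentPolynomial.T 1)
    (hgUy : gU (SpinCurv.PolyNodeRing.y R 0) = 0)
    (gV : SpinCurv.PolyNodeRing R 0 →ₐ[R] LaurentPolynomial R)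
    (hgVt : gV (SpinCurv.PolyNodeRing.x R 0) = LaurentPolynomial.T (-1))
    (hgVx : gV (SpinCurv.PolyNodeRing.y R 0) = 0)
    (g f : SpinCurv.PolyNodeRing R 0) (hsec : gU g = LaurentPolynomial.T 1 * gV f)
    (hx : rU (SpinCurv.PolyNodeRing.x R 0) * g = 0 ∧ rV (SpinCurv.PolyNodeRing.x R 0) * f = 0)
    (hy : rU (SpinCurv.PolyNodeRing.y R 0) * g = 0 ∧ rV (SpinCurv.PolyNodeRing.y R 0) * f = 0) :
    g = 0 ∧ f = 0 := by
  -- y * g = 0 and y * f = 0
  have hyg : SpinCurv.PolyNodeRing.y R 0 * g = 0 := by rw [← hrUy]; exact hy.1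
  have hyf : SpinCurv.PolyNodeRing.y R 0 * f = 0 := by rw [← hrVx]; exact hx.2
  have h1g : phi1 R g = 0 := by
    have := congrArg (phi1 R) hyg
    simp only [map_mul, phi1_y, map_zero] at this
    exact X_mul_eq_zero R _ this
  have h1f : phi1 R f = 0 := by
    have := congrArg (phi1 R) hyf
    simp only [map_mul, phi1_y, map_zero] at this
    exact X_mul_eq_zero R _ this
  -- constant terms
  have hconst : (Polynomial.aeval (0 : R)).comp (phi0 R) = (Polynomial.aeval (0 : R)).comp (phi1 R) := by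
    apply algHom_ext' <;> simp
  have c0g : (phi0 R g).coeff 0 = 0 := by
    have := congrArg (fun φ : SpinCurv.PolyNodeRing R 0 →ₐ[R] R => φ g) hconst
    simp only [AlgHom.comp_apply, h1g, map_zero] at this
    rw [Polynomial.coeff_zero_eq_aeval_zero]; exact this
  have c0f : (phi0 R f).coeff 0 = 0 := by
    have := congrArg (fun φ : SpinCurv.PolyNodeRing R 0 →ₐ[R] R => φ f) hconst
    simp only [AlgHom.comp_apply, h1f, map_zero] at this
    rw [Polynomial.coeff_zero_eq_aeval_zero]; exact this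
  -- the restriction maps
  have hgU : ∀ z, gU z = Polynomial.toLaurent (phi0 R z) := by
    intro z
    have : gU = (Polynomial.toLaurentAlg (R := R)).comp (phi0 R) := by
      apply algHom_ext' <;> simp [hgUs, hgUy]
    rw [this]; rfl
  have hgV : ∀ z, gV z = invert (Polynomial.toLaurent (phi0 R z)) := by
    intro z
    have : gV = ((invert (R := R)).toAlgHom.comp (Polynomial.toLaurentAlg (R := R))).comp
        (phi0 R) := by
      apply algHom_ext' <;> simp [hgVt, hgVx]
    rw [this]; rfl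
  -- write phi0 f = X * b'
  obtain ⟨b', hb'⟩ : ∃ b' : R[X], phi0 R f = Polynomial.X * b' := by
    have := Polynomial.X_dvd_iff.mpr c0f
    exact this
  have hsec' : Polynomial.toLaurent (phi0 R g) = invert (Polynomial.toLaurent b') := by
    have h := hsec
    rw [hgU, hgV] at h
    rw [h, hb', map_mul, Polynomial.toLaurent_X, map_mul, invert_T, ← mul_assoc, ← T_add]
    simp
  obtain ⟨hg0, hb0⟩ := laurent_key R _ _ c0g hsec'
  have hf0 : phi0 R f = 0 := by rw [hb', hb0, mul_zero]
  exact ⟨eq_zero_of_phi R g hg0 h1g, eq_zero_of_phi R f hf0 h1f⟩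

end Groth.Agent.Lib.T2H4.Node
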