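import Groth.Agent.Lib.T2H4Node
import Mathlib.RingTheory.MvPolynomial.Basic
import Mathlib.LinearAlgebra.Finsupp.LinearCombination

set_option autoImplicit false
universe u

open SpinCurv MvPolynomial

namespace Groth.Agent.Lib.T2H4.NodeBasis

variable (R : Type u) [CommRing R] (π : R)

/-- the standard basis elements `x^z` (`z ≥ 0`), `y^(-z)` (`z < 0`). -/
noncomputable def e (z : ℤ) : PolyNodeRing R π :=
  if 0 ≤ z then PolyNodeRing.x R π ^ z.toNat else PolyNodeRing.y R π ^ (-z).toNat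

lemma xy : PolyNodeRing.x R π * PolyNodeRing.y R π = algebraMap R (PolyNodeRing R π) π := by
  have : (Ideal.Quotient.mk (Ideal.span {(X 0 * X 1 - C π : MvPolynomial (Fin 2) R)}))
      (X 0 * X 1 - C π) = 0 := Ideal.Quotient.eq_zero_iff_mem.mpr (Ideal.subset_span rfl)
  rw [map_sub, sub_eq_zero, map_mul] at this
  exact this

/-- `x^a y^b = π^(min a b) * e (a - b)`. -/
lemma x_pow_mul_y_pow' (a b : ℕ) :
    PolyNodeRing.x R π ^ a * PolyNodeRing.y R π ^ b
      = algebraMap R (PolyNodeRing R π) (π ^ min a b) * e R π ((a : ℤ) - b) := by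
  rcases le_total b a with h | h
  · obtain ⟨c, rfl⟩ := Nat.exists_eq_add_of_le h
    have h1 : e R π (((b + c : ℕ) : ℤ) - b) = PolyNodeRing.x R π ^ c := by
      have : ((b + c : ℕ) : ℤ) - b = c := by push_cast; ring
      rw [this, e, if_pos (by omega)]; simp
    rw [h1, min_eq_right (by omega), pow_add, mul_comm (PolyNodeRing.x R π ^ b), mul_assoc,
      ← mul_pow, xy, map_pow, mul_comm]
  · obtain ⟨c, rfl⟩ := Nat.exists_eq_add_of_le h
    rcases Nat.eq_zero_or_pos c with rfl | hc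
    · have h1 : e R π ((a : ℤ) - ((a + 0 : ℕ) : ℤ)) = 1 := by
        have : (a : ℤ) - ((a + 0 : ℕ) : ℤ) = 0 := by push_cast; ring
        rw [this, e, if_pos (le_refl 0)]; simp
      rw [h1, add_zero, min_self, ← mul_pow, xy, map_pow, mul_one]
    · have h1 : e R π ((a : ℤ) - ((a + c : ℕ) : ℤ)) = PolyNodeRing.y R π ^ c := by
        have : (a : ℤ) - ((a + c : ℕ) : ℤ) = -(c : ℤ) := by push_cast; ring
        rw [this, e, if_neg (by omega)]; simp
      rw [h1, min_eq_left (by omega), pow_add, ← mul_assoc, ← mul_pow, xy, map_pow]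

lemma x_pow_mul_y_pow (a b : ℕ) :
    PolyNodeRing.x R π ^ a * PolyNodeRing.y R π ^ b = (π ^ min a b) • e R π ((a : ℤ) - b) := by
  rw [x_pow_mul_y_pow']
  exact (Algebra.smul_def _ _).symm

/-- normal-form map on polynomials -/
noncomputable def N0 : MvPolynomial (Fin 2) R →ₗ[R] (ℤ →₀ R) :=
  (MvPolynomial.basisMonomials (Fin 2) R).constr R
    (fun m => Finsupp.single ((m 0 : ℤ) - m 1) (π ^ min (m 0) (m 1)))

lemma N0_monomial_one (m : Fin 2 →₀ ℕ) :
    N0 R π (monomial m 1) = Finsupp.single ((m 0 : ℤ) - m 1) (π ^ min (m 0) (m 1)) := by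
  have := (MvPolynomial.basisMonomials (Fin 2) R).constr_basis R
    (fun m => Finsupp.single ((m 0 : ℤ) - m 1) (π ^ min (m 0) (m 1))) m
  simpa [N0] using this

lemma N0_monomial (m : Fin 2 →₀ ℕ) (r : R) :
    N0 R π (monomial m r) = Finsupp.single ((m 0 : ℤ) - m 1) (r * π ^ min (m 0) (m 1)) := by
  have : (monomial m r : MvPolynomial (Fin 2) R) = r • monomial m 1 := by
    rw [smul_monomial, smul_eq_mul, mul_one]
  rw [this, map_smul, N0_monomial_one, Finsupp.smul_single, smul_eq_mul]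

lemma N0_mul_gen (G : MvPolynomial (Fin 2) R) : N0 R π (G * (X 0 * X 1 - C π)) = 0 := by
  have key : (N0 R π) ∘ₗ (LinearMap.mulRight R (X 0 * X 1 - C π : MvPolynomial (Fin 2) R)) = 0 := by
    apply (MvPolynomial.basisMonomials (Fin 2) R).ext
    intro m
    simp only [coe_basisMonomials, LinearMap.comp_apply, LinearMap.mulRight_apply,
      LinearMap.zero_apply]
    have h1 : (monomial m 1 : MvPolynomial (Fin 2) R) * (X 0 * X 1 - C π)
        = monomial (m + (Finsupp.single 0 1 + Finsupp.single 1 1)) 1 - monomial m π := by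
      rw [mul_sub, X, X, monomial_mul, monomial_mul, C_apply, monomial_mul]
      simp
    rw [h1, map_sub, N0_monomial, N0_monomial]
    have e0 : (m + (Finsupp.single (0 : Fin 2) (1 : ℕ) + Finsupp.single 1 1) : Fin 2 →₀ ℕ) 0
        = m 0 + 1 := by simp
    have e1 : (m + (Finsupp.single (0 : Fin 2) (1 : ℕ) + Finsupp.single 1 1) : Fin 2 →₀ ℕ) 1
        = m 1 + 1 := by simp
    rw [e0, e1]
    have h2 : ((m 0 + 1 : ℕ) : ℤ) - ((m 1 + 1 : ℕ) : ℤ) = (m 0 : ℤ) - m 1 := by push_cast; ring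
    have h3 : min (m 0 + 1) (m 1 + 1) = min (m 0) (m 1) + 1 := by omega
    rw [h2, h3, pow_succ, one_mul, mul_comm, sub_self]
  have := congrArg (fun φ : MvPolynomial (Fin 2) R →ₗ[R] (ℤ →₀ R) => φ G) key
  simpa using this

/-- the ideal `(xy - π)` -/
noncomputable abbrev II : Ideal (MvPolynomial (Fin 2) R) := Ideal.span {(X 0 * X 1 - C π : MvPolynomial (Fin 2) R)}

lemma N0_le_ker : (II R π).restrictScalars R ≤ LinearMap.ker (N0 R π) := by
  intro F hF
  rw [Submodule.restrictScalars_mem, Ideal.mem_span_singleton'] at hF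
  obtain ⟨G, rfl⟩ := hF
  exact N0_mul_gen R π G

/-- normal-form map on the node ring -/
noncomputable def NN : PolyNodeRing R π →ₗ[R] (ℤ →₀ R) :=
  (((II R π).restrictScalars R).liftQ (N0 R π) (N0_le_ker R π)) ∘ₗ
    (Submodule.Quotient.restrictScalarsEquiv R (II R π)).symm.toLinearMap

lemma NN_mk (F : MvPolynomial (Fin 2) R) :
    NN R π (Ideal.Quotient.mk (II R π) F) = N0 R π F := by
  rfl

/-- reconstruction -/
noncomputable def LL : (ℤ →₀ R) →ₗ[R] PolyNodeRing R π :=
  Finsupp.linearCombination R (e R π)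

lemma LL_single (z : ℤ) (r : R) : LL R π (Finsupp.single z r) = r • e R π z := by
  simp [LL]

lemma e_eq_mk (z : ℤ) : e R π z = Ideal.Quotient.mk (II R π)
    (monomial (Finsupp.single 0 z.toNat + Finsupp.single 1 (-z).toNat) 1) := by
  have hm : (monomial (Finsupp.single (0 : Fin 2) z.toNat + Finsupp.single 1 (-z).toNat) (1 : R))
      = X 0 ^ z.toNat * X 1 ^ (-z).toNat := by
    rw [X_pow_eq_monomial, X_pow_eq_monomial, monomial_mul, one_mul]
  rw [hm, map_mul, map_pow, map_pow]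
  by_cases hz : 0 ≤ z
  · have : (-z).toNat = 0 := by omega
    rw [e, if_pos hz, this, pow_zero, mul_one]
  · have : z.toNat = 0 := by omega
    rw [e, if_neg hz, this, pow_zero, one_mul]

lemma NN_e (z : ℤ) : NN R π (e R π z) = Finsupp.single z 1 := by
  rw [e_eq_mk, NN_mk, N0_monomial_one]
  have h0 : (Finsupp.single (0 : Fin 2) z.toNat + Finsupp.single 1 (-z).toNat : Fin 2 →₀ ℕ) 0
      = z.toNat := by simp
  have h1 : (Finsupp.single (0 : Fin 2) z.toNat + Finsupp.single 1 (-z).toNat : Fin 2 →₀ ℕ) 1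
      = (-z).toNat := by simp
  rw [h0, h1]
  have h2 : ((z.toNat : ℕ) : ℤ) - ((-z).toNat : ℕ) = z := by omega
  have h3 : min z.toNat (-z).toNat = 0 := by omega
  rw [h2, h3, pow_zero]

lemma NN_LL : (NN R π) ∘ₗ (LL R π) = LinearMap.id := by
  apply Finsupp.lhom_ext
  intro z r
  simp only [LinearMap.comp_apply, LL_single, map_smul, NN_e, LinearMap.id_apply,
    Finsupp.smul_single, smul_eq_mul, mul_one]

lemma mk_monomial_one (m : Fin 2 →₀ ℕ) :
    Ideal.Quotient.mk (II R π) (monomial m 1)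
      = PolyNodeRing.x R π ^ (m 0) * PolyNodeRing.y R π ^ (m 1) := by
  have hm : m = Finsupp.single 0 (m 0) + Finsupp.single 1 (m 1) := by
    ext i
    fin_cases i <;> simp
  have : (monomial m (1 : R)) = X 0 ^ (m 0) * X 1 ^ (m 1) := by
    rw [X_pow_eq_monomial, X_pow_eq_monomial, monomial_mul, one_mul, ← hm]
  rw [this, map_mul, map_pow, map_pow]

lemma LL_NN : (LL R π) ∘ₗ (NN R π) = LinearMap.id := by
  have key : ((LL R π) ∘ₗ (NN R π)) ∘ₗ (Ideal.Quotient.mkₐ R (II R π)).toLinearMap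
      = (Ideal.Quotient.mkₐ R (II R π)).toLinearMap := by
    apply (MvPolynomial.basisMonomials (Fin 2) R).ext
    intro m
    simp only [coe_basisMonomials, LinearMap.comp_apply, AlgHom.toLinearMap_apply,
      Ideal.Quotient.mkₐ_eq_mk]
    rw [NN_mk, N0_monomial_one, LL_single, mk_monomial_one, x_pow_mul_y_pow]
  apply LinearMap.ext
  intro a
  obtain ⟨F, rfl⟩ := Ideal.Quotient.mk_surjective a
  have := congrArg (fun φ : MvPolynomial (Fin 2) R →ₗ[R] PolyNodeRing R π => φ F) key
  simpa using this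

/-- The node ring is free with basis `e z`, `z : ℤ`. -/
noncomputable def equiv : PolyNodeRing R π ≃ₗ[R] (ℤ →₀ R) :=
  LinearEquiv.ofLinearMap (NN R π) (LL R π) (NN_LL R π) (LL_NN R π)

@[simp] lemma equiv_e (z : ℤ) : equiv R π (e R π z) = Finsupp.single z 1 := NN_e R π z

@[simp] lemma equiv_symm_single (z : ℤ) (r : R) :
    (equiv R π).symm (Finsupp.single z r) = r • e R π z := LL_single R π z r

end Groth.Agent.Lib.T2H4.NodeBasis
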