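import Groth.Agent.Lib.T2H4NodePS
import Mathlib
/-! Normal form for the complete node ring `R[[x,y]]/(xy - π)` with `R` adically complete and `π` in the ideal: adic summation operator `SS`, normal form coordinates `NN`, kernel and image of `nodeAlpha`. -/

set_option autoImplicit false
universe u

namespace Groth.Agent.Lib.T2H4.NodeCompl

open Finset MvPowerSeries
open Groth.Agent.Lib.T2H4.NodePS (ee ee_zero ee_one eq_ee ee_le_iff ee_sub ee_add ee_le_ee ee_inj)

section Sum

variable {R : Type u} [CommRing R] (I : Ideal R) [IsAdicComplete I R] (π : R) (hπ : π ∈ I)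

lemma smodEq_iff (n : ℕ) (x y : R) :
    x ≡ y [SMOD (I ^ n • ⊤ : Submodule R R)] ↔ x - y ∈ I ^ n := by
  rw [SModEq.sub_mem]
  simp [smul_eq_mul, Ideal.mul_top]

/-- partial sums of `Σ π^k a_k` -/
def psum (a : ℕ → R) (n : ℕ) : R := ∑ k ∈ range n, π ^ k * a k

include hπ in
lemma psum_sub_mem (a : ℕ → R) (m n : ℕ) (h : m ≤ n) : psum π a n - psum π a m ∈ I ^ m := by
  induction n, h using Nat.le_induction with
  | base => simp
  | succ n hmn ih =>
    rw [psum, Finset.sum_range_succ, ← psum]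
    have : psum π a n + π ^ n * a n - psum π a m = (psum π a n - psum π a m) + π ^ n * a n := by ring
    rw [this]
    refine add_mem ih (Ideal.mul_mem_right _ _ ?_)
    exact Ideal.pow_le_pow_right hmn (Ideal.pow_mem_pow hπ n)

include hπ in
lemma exists_limit (a : ℕ → R) : ∃ L : R, ∀ n, psum π a n - L ∈ I ^ n := by
  have hc : ∀ {m n}, m ≤ n → psum π a m ≡ psum π a n [SMOD (I ^ m • ⊤ : Submodule R R)] := by
    intro m n hmn
    rw [smodEq_iff]
    have := psum_sub_mem I π hπ a m n hmn
    rw [← neg_sub]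
    exact neg_mem this
  obtain ⟨L, hL⟩ := IsPrecomplete.prec (inferInstance : IsPrecomplete I R) hc
  exact ⟨L, fun n => (smodEq_iff I n _ _).mp (hL n)⟩

/-- the sum `Σ_k π^k a_k` -/
noncomputable def SS (a : ℕ → R) : R := Classical.choose (exists_limit I π hπ a)

lemma SS_spec (a : ℕ → R) (n : ℕ) : psum π a n - SS I π hπ a ∈ I ^ n :=
  Classical.choose_spec (exists_limit I π hπ a) n

include I in
lemma eq_of_forall_sub_mem (x y : R) (h : ∀ n, x - y ∈ I ^ n) : x = y := by
  have : x - y = 0 := by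
    refine IsHausdorff.haus (inferInstance : IsHausdorff I R) _ fun n => ?_
    rw [smodEq_iff, sub_zero]
    exact h n
  exact sub_eq_zero.mp this

lemma SS_unique (a : ℕ → R) (L : R) (h : ∀ n, psum π a n - L ∈ I ^ n) : SS I π hπ a = L := by
  refine eq_of_forall_sub_mem I _ _ fun n => ?_
  have h1 := SS_spec I π hπ a n
  have : SS I π hπ a - L = (psum π a n - L) - (psum π a n - SS I π hπ a) := by ring
  rw [this]
  exact sub_mem (h n) h1

lemma SS_add (a b : ℕ → R) : SS I π hπ (fun k => a k + b k) = SS I π hπ a + SS I π hπ b := by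
  refine SS_unique I π hπ _ _ fun n => ?_
  have : psum π (fun k => a k + b k) n - (SS I π hπ a + SS I π hπ b) =
      (psum π a n - SS I π hπ a) + (psum π b n - SS I π hπ b) := by
    simp only [psum, mul_add, Finset.sum_add_distrib]; ring
  rw [this]
  exact add_mem (SS_spec I π hπ a n) (SS_spec I π hπ b n)

lemma SS_smul (c : R) (a : ℕ → R) : SS I π hπ (fun k => c * a k) = c * SS I π hπ a := by
  refine SS_unique I π hπ _ _ fun n => ?_
  have : psum π (fun k => c * a k) n - c * SS I π hπ a = c * (psum π a n - SS I π hπ a) := by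
    simp only [psum]
    rw [mul_sub, Finset.mul_sum]
    congr 1
    refine Finset.sum_congr rfl fun k _ => by ring
  rw [this]
  exact Ideal.mul_mem_left _ _ (SS_spec I π hπ a n)

lemma SS_succ (a : ℕ → R) : SS I π hπ a = a 0 + π * SS I π hπ (fun k => a (k + 1)) := by
  refine SS_unique I π hπ _ _ fun n => ?_
  rcases n with _ | n
  · simp
  · have : psum π a (n + 1) - (a 0 + π * SS I π hπ (fun k => a (k + 1))) =
        π * (psum π (fun k => a (k + 1)) n - SS I π hπ (fun k => a (k + 1))) := by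
      rw [psum, Finset.sum_range_succ', psum, mul_sub, Finset.mul_sum]
      simp only [pow_zero, one_mul, pow_succ]
      have : ∑ k ∈ range n, π ^ k * π * a (k + 1) = ∑ i ∈ range n, π * (π ^ i * a (i + 1)) :=
        Finset.sum_congr rfl fun k _ => by ring
      rw [this]; ring
    rw [this, pow_succ']
    exact Ideal.mul_mem_mul hπ (SS_spec I π hπ _ n)

lemma SS_zero : SS I π hπ (fun _ => 0) = 0 := by
  refine SS_unique I π hπ _ _ fun n => ?_
  simp [psum]

lemma SS_single (a : ℕ → R) (h : ∀ k, 1 ≤ k → a k = 0) : SS I π hπ a = a 0 := by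
  rw [SS_succ]
  have : (fun k => a (k + 1)) = fun _ => 0 := funext fun k => h (k + 1) (by omega)
  rw [this, SS_zero, mul_zero, add_zero]

lemma SS_neg (a : ℕ → R) : SS I π hπ (fun k => - a k) = - SS I π hπ a := by
  have := SS_smul I π hπ (-1) a
  simpa using this

lemma SS_sub (a b : ℕ → R) : SS I π hπ (fun k => a k - b k) = SS I π hπ a - SS I π hπ b := by
  have := SS_add I π hπ a (fun k => - b k)
  rw [SS_neg] at this
  simpa [sub_eq_add_neg] using this

end Sum

section Normal

variable {R : Type u} [CommRing R] (I : Ideal R) [IsAdicComplete I R] (π : R) (hπ : π ∈ I)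

abbrev PS (R : Type u) [CommRing R] := MvPowerSeries (Fin 2) R

/-- the generator `xy - π` -/
noncomputable def gen : PS R := X 0 * X 1 - C π

lemma X0X1 : (X 0 * X 1 : PS R) = monomial (ee 1 1) 1 := by
  rw [X_def, X_def, monomial_mul_monomial]; simp [ee]

lemma coeff_mul_gen (G : PS R) (a b : ℕ) :
    coeff (ee a b) (G * gen π) =
      (if 1 ≤ a ∧ 1 ≤ b then coeff (ee (a - 1) (b - 1)) G else 0) - π * coeff (ee a b) G := by
  rw [gen, mul_sub, map_sub, X0X1, coeff_mul_monomial, mul_one]
  congr 1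
  · by_cases h : 1 ≤ a ∧ 1 ≤ b
    · rw [if_pos h, if_pos ((ee_le_ee _ _ _ _).mpr h), ee_sub]
    · rw [if_neg h, if_neg (mt (ee_le_ee _ _ _ _).mp h)]
  · rw [mul_comm, ← smul_eq_C_mul, coeff_smul]

/-- the diagonal point `(z⁺ + k, z⁻ + k)` -/
noncomputable def pt (z : ℤ) (k : ℕ) : Fin 2 →₀ ℕ := ee (z.toNat + k) ((-z).toNat + k)

/-- the `z`-th normal form coordinate -/
noncomputable def NN (z : ℤ) (F : PS R) : R := SS I π hπ (fun k => coeff (pt z k) F)

lemma NN_add (z : ℤ) (F G : PS R) : NN I π hπ z (F + G) = NN I π hπ z F + NN I π hπ z G := by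
  simp only [NN, map_add]
  exact SS_add I π hπ _ _

lemma NN_sub (z : ℤ) (F G : PS R) : NN I π hπ z (F - G) = NN I π hπ z F - NN I π hπ z G := by
  simp only [NN, map_sub]
  exact SS_sub I π hπ _ _

lemma NN_zero (z : ℤ) : NN I π hπ z (0 : PS R) = 0 := by
  simp only [NN, map_zero]
  exact SS_zero I π hπ

lemma toNat_min (z : ℤ) : z.toNat = 0 ∨ (-z).toNat = 0 := by omega

/-- (K1) the normal form coordinates kill the ideal -/
lemma NN_mul_gen (z : ℤ) (G : PS R) : NN I π hπ z (G * gen π) = 0 := by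
  rw [NN]
  refine SS_unique I π hπ _ _ fun n => ?_
  rw [sub_zero]
  -- telescoping
  have key : ∀ n, psum π (fun k => coeff (pt z k) (G * gen π)) n =
      - (π ^ n * (if n = 0 then 0 else coeff (pt z (n - 1)) G)) := by
    intro n
    induction n with
    | zero => simp [psum]
    | succ n ih =>
      rw [psum, Finset.sum_range_succ, ← psum, ih]
      have hc := coeff_mul_gen π G (z.toNat + n) ((-z).toNat + n)
      rw [show pt z n = ee (z.toNat + n) ((-z).toNat + n) from rfl, hc]
      rcases n with _ | n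
      · have h0 : ¬ (1 ≤ z.toNat + 0 ∧ 1 ≤ (-z).toNat + 0) := by
          rcases toNat_min z with h | h <;> omega
        rw [if_neg h0]
        simp [pt]
      · have h1 : (1 ≤ z.toNat + (n + 1) ∧ 1 ≤ (-z).toNat + (n + 1)) := by omega
        rw [if_pos h1]
        simp only [Nat.add_sub_cancel, if_neg (Nat.succ_ne_zero _), pt]
        have e1 : z.toNat + (n + 1) - 1 = z.toNat + n := by omega
        have e2 : (-z).toNat + (n + 1) - 1 = (-z).toNat + n := by omega
        rw [e1, e2]
        ring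
  rw [key]
  refine neg_mem (Ideal.mul_mem_right _ _ (Ideal.pow_mem_pow hπ n))

/-- (K2) elements with vanishing normal form lie in the ideal -/
lemma exists_of_NN_zero (F : PS R) (h : ∀ z, NN I π hπ z F = 0) : ∃ G : PS R, G * gen π = F := by
  let G : PS R := fun m => SS I π hπ (fun j => coeff (m + ee (1 + j) (1 + j)) F)
  have hG : ∀ m, coeff m G = SS I π hπ (fun j => coeff (m + ee (1 + j) (1 + j)) F) := fun m => rfl
  refine ⟨G, ?_⟩
  ext m
  rw [eq_ee m, coeff_mul_gen]
  set a := m 0
  set b := m 1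
  by_cases hab : 1 ≤ a ∧ 1 ≤ b
  · rw [if_pos hab, hG, hG, SS_succ I π hπ (fun j => coeff (ee (a - 1) (b - 1) + ee (1 + j) (1 + j)) F)]
    have e1 : ee (a - 1) (b - 1) + ee (1 + 0) (1 + 0) = ee a b := by
      rw [ee_add]; congr 1 <;> omega
    have e2 : ∀ k, ee (a - 1) (b - 1) + ee (1 + (k + 1)) (1 + (k + 1)) =
        ee a b + ee (1 + k) (1 + k) := by
      intro k; rw [ee_add, ee_add]; congr 1 <;> omega
    simp only [e1, e2]
    ring
  · rw [if_neg hab, hG]
    -- use the vanishing of the normal form on the diagonal through `(a, b)`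
    have hz := h ((a : ℤ) - b)
    rw [NN, SS_succ] at hz
    have hp0 : pt ((a : ℤ) - b) 0 = ee a b := by
      rw [pt]; congr 1 <;> omega
    have hpk : ∀ k, pt ((a : ℤ) - b) (k + 1) = ee a b + ee (1 + k) (1 + k) := by
      intro k; rw [pt, ee_add]; congr 1 <;> omega
    simp only [hp0, hpk] at hz
    linear_combination (-1 : R) * hz

lemma NN_congr (F F' : PS R) (h : F - F' ∈ Ideal.span {gen π}) (z : ℤ) :
    NN I π hπ z F = NN I π hπ z F' := by
  obtain ⟨G, hG⟩ := Ideal.mem_span_singleton'.mp h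
  have := NN_mul_gen I π hπ z G
  rw [hG, NN_sub] at this
  exact sub_eq_zero.mp this

lemma mem_span_of_NN (F : PS R) (h : ∀ z, NN I π hπ z F = 0) : F ∈ Ideal.span {gen π} := by
  obtain ⟨G, hG⟩ := exists_of_NN_zero I π hπ F h
  exact Ideal.mem_span_singleton'.mpr ⟨G, hG⟩

lemma NN_C_mul (c : R) (F : PS R) (z : ℤ) : NN I π hπ z (C c * F) = c * NN I π hπ z F := by
  rw [NN, NN, ← SS_smul]
  congr 1
  funext k
  rw [← smul_eq_C_mul, coeff_smul]

lemma coeff_X0_mul (F : PS R) (a b : ℕ) :
    coeff (ee a b) (X 0 * F) = if 1 ≤ a then coeff (ee (a - 1) b) F else 0 := by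
  have hX : (X 0 : PS R) = monomial (ee 1 0) 1 := by rw [X_def]; simp [ee]
  rw [mul_comm, hX, coeff_mul_monomial, mul_one]
  by_cases h : 1 ≤ a
  · rw [if_pos h, if_pos ((ee_le_ee _ _ _ _).mpr ⟨h, Nat.zero_le _⟩), ee_sub]
    rfl
  · rw [if_neg h, if_neg (fun h' => h ((ee_le_ee _ _ _ _).mp h').1)]

lemma coeff_X1_mul (F : PS R) (a b : ℕ) :
    coeff (ee a b) (X 1 * F) = if 1 ≤ b then coeff (ee a (b - 1)) F else 0 := by
  have hX : (X 1 : PS R) = monomial (ee 0 1) 1 := by rw [X_def]; simp [ee]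
  rw [mul_comm, hX, coeff_mul_monomial, mul_one]
  by_cases h : 1 ≤ b
  · rw [if_pos h, if_pos ((ee_le_ee _ _ _ _).mpr ⟨Nat.zero_le _, h⟩), ee_sub]
    rfl
  · rw [if_neg h, if_neg (fun h' => h ((ee_le_ee _ _ _ _).mp h').2)]

lemma ee_congr {a b c d : ℕ} (h1 : a = c) (h2 : b = d) : ee a b = ee c d := by rw [h1, h2]

lemma NN_X0_mul (F : PS R) (z : ℤ) :
    NN I π hπ z (X 0 * F) = if 1 ≤ z then NN I π hπ (z - 1) F else π * NN I π hπ (z - 1) F := by
  split_ifs with hz
  · rw [NN, NN]
    congr 1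
    funext k
    rw [pt, coeff_X0_mul, if_pos (by omega), pt]
    exact congrArg (fun m => coeff m F) (ee_congr (by omega) (by omega))
  · rw [NN, SS_succ, NN]
    have h0 : coeff (pt z 0) (X 0 * F) = 0 := by
      rw [pt, coeff_X0_mul, if_neg (by omega)]
    rw [h0, zero_add]
    congr 2
    funext k
    rw [pt, coeff_X0_mul, if_pos (by omega), pt]
    exact congrArg (fun m => coeff m F) (ee_congr (by omega) (by omega))

lemma NN_X1_mul (F : PS R) (z : ℤ) :
    NN I π hπ z (X 1 * F) = if z ≤ -1 then NN I π hπ (z + 1) F else π * NN I π hπ (z + 1) F := by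
  split_ifs with hz
  · rw [NN, NN]
    congr 1
    funext k
    rw [pt, coeff_X1_mul, if_pos (by omega), pt]
    exact congrArg (fun m => coeff m F) (ee_congr (by omega) (by omega))
  · rw [NN, SS_succ, NN]
    have h0 : coeff (pt z 0) (X 1 * F) = 0 := by
      rw [pt, coeff_X1_mul, if_neg (by omega)]
    rw [h0, zero_add]
    congr 2
    funext k
    rw [pt, coeff_X1_mul, if_pos (by omega), pt]
    exact congrArg (fun m => coeff m F) (ee_congr (by omega) (by omega))

/-- series in `x` alone -/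
noncomputable abbrev toMv0 (f : PowerSeries R) : PS R := PowerSeries.toMvPowerSeries (σ := Fin 2) 0 f
/-- series in `y` alone -/
noncomputable abbrev toMv1 (f : PowerSeries R) : PS R := PowerSeries.toMvPowerSeries (σ := Fin 2) 1 f

lemma coeff_toMv_single (i : Fin 2) (f : PowerSeries R) (a : ℕ) :
    coeff (Finsupp.single i a) (PowerSeries.toMvPowerSeries (σ := Fin 2) i f) =
      PowerSeries.coeff a f := by
  have := coeff_embDomain_rename (R := R) (Function.Embedding.punit i) f (Finsupp.single () a)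
  rw [Finsupp.embDomain_single] at this
  exact this

lemma coeff_toMv_ne (i j : Fin 2) (hij : j ≠ i) (f : PowerSeries R) (m : Fin 2 →₀ ℕ)
    (hm : m j ≠ 0) : coeff m (PowerSeries.toMvPowerSeries (σ := Fin 2) i f) = 0 := by
  refine coeff_rename_eq_zero (fun _ => i) f ?_
  rintro ⟨y, rfl⟩
  apply hm
  rw [Finsupp.mapDomain_of_notMem_range]
  rintro ⟨_, h⟩
  exact hij h.symm

lemma coeff_toMv0 (f : PowerSeries R) (a b : ℕ) :
    coeff (ee a b) (toMv0 f) = if b = 0 then PowerSeries.coeff a f else 0 := by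
  split_ifs with hb
  · subst hb
    have : ee a 0 = Finsupp.single 0 a := by simp [ee]
    rw [this]
    exact coeff_toMv_single 0 f a
  · exact coeff_toMv_ne 0 1 (by decide) f _ (by simpa using hb)

lemma coeff_toMv1 (f : PowerSeries R) (a b : ℕ) :
    coeff (ee a b) (toMv1 f) = if a = 0 then PowerSeries.coeff b f else 0 := by
  split_ifs with ha
  · subst ha
    have : ee 0 b = Finsupp.single 1 b := by simp [ee]
    rw [this]
    exact coeff_toMv_single 1 f b
  · exact coeff_toMv_ne 1 0 (by decide) f _ (by simpa using ha)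

lemma NN_toMv0 (f : PowerSeries R) (z : ℤ) :
    NN I π hπ z (toMv0 f) = if 0 ≤ z then PowerSeries.coeff z.toNat f else 0 := by
  rw [NN, SS_single]
  · rw [pt, coeff_toMv0]
    by_cases hz : 0 ≤ z
    · rw [if_pos hz, if_pos (by omega)]; rfl
    · rw [if_neg hz, if_neg (by omega)]
  · intro k hk
    rw [pt, coeff_toMv0, if_neg (by omega)]

lemma NN_toMv1 (f : PowerSeries R) (z : ℤ) :
    NN I π hπ z (toMv1 f) = if z ≤ 0 then PowerSeries.coeff (-z).toNat f else 0 := by
  rw [NN, SS_single]
  · rw [pt, coeff_toMv1]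
    by_cases hz : z ≤ 0
    · rw [if_pos hz, if_pos (by omega)]; rfl
    · rw [if_neg hz, if_neg (by omega)]
  · intro k hk
    rw [pt, coeff_toMv1, if_neg (by omega)]

end Normal

section Final

open SpinCurv

variable {R : Type u} [CommRing R] (I : Ideal R) [IsAdicComplete I R] (p q : R) (hπ : p * q ∈ I)

lemma mk_eq_zero_iff (F : PS R) :
    (Ideal.Quotient.mk _ F : NodeRing R (p * q)) = 0 ↔ ∀ z, NN I (p * q) hπ z F = 0 := by
  constructor
  · intro h z
    have hmem : F - 0 ∈ Ideal.span {gen (p * q)} := by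
      rw [sub_zero]; exact Ideal.Quotient.eq_zero_iff_mem.mp h
    rw [NN_congr I (p * q) hπ F 0 hmem z, NN_zero]
  · intro h
    exact Ideal.Quotient.eq_zero_iff_mem.mpr (mem_span_of_NN I (p * q) hπ F h)

lemma mk_eq_iff (F G : PS R) :
    (Ideal.Quotient.mk _ F : NodeRing R (p * q)) = Ideal.Quotient.mk _ G ↔
      ∀ z, NN I (p * q) hπ z F = NN I (p * q) hπ z G := by
  rw [← sub_eq_zero, ← map_sub, mk_eq_zero_iff I p q hπ]
  simp only [NN_sub, sub_eq_zero]

lemma algebraMap_eq (c : R) :
    algebraMap R (NodeRing R (p * q)) c = Ideal.Quotient.mk _ (C c : PS R) := rfl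

lemma mulVec_eq (a b : NodeRing R (p * q)) :
    Matrix.mulVec (nodeAlpha R p q) ![a, b] =
      ![NodeRing.x R (p * q) * a + algebraMap R _ p * b,
        algebraMap R _ q * a + NodeRing.y R (p * q) * b] := by
  funext i
  fin_cases i <;> simp [nodeAlpha, Matrix.mulVec, dotProduct, Fin.sum_univ_two]

include I hπ in
/-- injectivity core -/
lemma inj_core (f g : PowerSeries R)
    (h : Matrix.mulVec (nodeAlpha R p q) ![NodeRing.ofX R (p * q) f, NodeRing.ofY R (p * q) g] = 0) :
    f = 0 ∧ g = 0 := by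
  rw [mulVec_eq] at h
  have h1 := congrFun h 0
  have h2 := congrFun h 1
  simp only [Matrix.cons_val_zero, Matrix.cons_val_one, Pi.zero_apply] at h1 h2
  rw [algebraMap_eq] at h1 h2
  change Ideal.Quotient.mk _ (X 0 * toMv0 f + C p * toMv1 g) = 0 at h1
  change Ideal.Quotient.mk _ (C q * toMv0 f + X 1 * toMv1 g) = 0 at h2
  rw [mk_eq_zero_iff I p q hπ] at h1 h2
  constructor
  · ext n
    have := h1 ((n : ℤ) + 1)
    rw [NN_add, NN_X0_mul, NN_C_mul, if_pos (by omega), NN_toMv0, NN_toMv1, if_pos (by omega),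
      if_neg (by omega), mul_zero, add_zero] at this
    simpa using this
  · ext n
    have := h2 (-(n : ℤ) - 1)
    rw [NN_add, NN_X1_mul, NN_C_mul, if_pos (by omega), NN_toMv0, NN_toMv1, if_neg (by omega),
      if_pos (by omega), mul_zero, zero_add] at this
    have e : (-(-(n : ℤ) - 1 + 1)).toNat = n := by omega
    rw [e] at this
    simpa using this

include I hπ in
/-- first decomposition: `a = ofX f + y * ofY h` -/
lemma decomp1 (a : NodeRing R (p * q)) : ∃ f h : PowerSeries R,
    a = NodeRing.ofX R (p * q) f + NodeRing.y R (p * q) * NodeRing.ofY R (p * q) h := by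
  obtain ⟨F, rfl⟩ := Ideal.Quotient.mk_surjective a
  refine ⟨PowerSeries.mk fun n => NN I (p * q) hπ (n : ℤ) F,
    PowerSeries.mk fun j => NN I (p * q) hπ (-(j : ℤ) - 1) F, ?_⟩
  change _ = Ideal.Quotient.mk _ (toMv0 _ + X 1 * toMv1 _)
  rw [mk_eq_iff I p q hπ]
  intro z
  rw [NN_add, NN_X1_mul, NN_toMv0, NN_toMv1]
  by_cases hz : 0 ≤ z
  · rw [if_pos hz, if_neg (by omega), if_neg (by omega), mul_zero, add_zero, PowerSeries.coeff_mk]
    congr 1
    omega
  · rw [if_neg hz, if_pos (by omega), if_pos (by omega), zero_add, PowerSeries.coeff_mk]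
    congr 1
    omega

include I hπ in
/-- second decomposition: `b = x * ofX e + ofY g` -/
lemma decomp2 (b : NodeRing R (p * q)) : ∃ e g : PowerSeries R,
    b = NodeRing.x R (p * q) * NodeRing.ofX R (p * q) e + NodeRing.ofY R (p * q) g := by
  obtain ⟨F, rfl⟩ := Ideal.Quotient.mk_surjective b
  refine ⟨PowerSeries.mk fun n => NN I (p * q) hπ ((n : ℤ) + 1) F,
    PowerSeries.mk fun j => NN I (p * q) hπ (-(j : ℤ)) F, ?_⟩
  change _ = Ideal.Quotient.mk _ (X 0 * toMv0 _ + toMv1 _)
  rw [mk_eq_iff I p q hπ]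
  intro z
  rw [NN_add, NN_X0_mul, NN_toMv0, NN_toMv1]
  by_cases hz : 1 ≤ z
  · rw [if_pos hz, if_pos (by omega), if_neg (by omega), add_zero, PowerSeries.coeff_mk]
    congr 1
    omega
  · rw [if_neg hz, if_neg (by omega), if_pos (by omega), mul_zero, zero_add, PowerSeries.coeff_mk]
    congr 1
    omega

/-- first generator of the kernel -/
noncomputable def v1 : Fin 2 → NodeRing R (p * q) :=
  ![algebraMap R (NodeRing R (p * q)) p, -NodeRing.x R (p * q)]
/-- second generator of the kernel -/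
noncomputable def v2 : Fin 2 → NodeRing R (p * q) :=
  ![NodeRing.y R (p * q), -algebraMap R (NodeRing R (p * q)) q]

lemma xy_eq : NodeRing.x R (p * q) * NodeRing.y R (p * q) =
    algebraMap R (NodeRing R (p * q)) p * algebraMap R (NodeRing R (p * q)) q := by
  rw [algebraMap_eq, algebraMap_eq, ← map_mul, ← map_mul, ← map_mul, ← sub_eq_zero, ← map_sub]
  exact Ideal.Quotient.eq_zero_iff_mem.mpr (Ideal.subset_span rfl)

lemma v1_ker : Matrix.mulVec (nodeAlpha R p q) (v1 p q) = 0 := by
  rw [v1, mulVec_eq]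
  funext i
  fin_cases i
  · simp; ring
  · simp only [Matrix.cons_val_one, Matrix.cons_val_zero, Pi.zero_apply, Fin.mk_one]
    have := xy_eq p q
    linear_combination (-1 : NodeRing R (p * q)) * this

lemma v2_ker : Matrix.mulVec (nodeAlpha R p q) (v2 p q) = 0 := by
  rw [v2, mulVec_eq]
  funext i
  fin_cases i
  · simp only [Matrix.cons_val_zero, Pi.zero_apply, Fin.zero_eta]
    have := xy_eq p q
    linear_combination this
  · simp; ring

lemma ofX_add_mul (f e : PowerSeries R) :
    NodeRing.ofX R (p * q) (f + PowerSeries.C p * e) =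
      NodeRing.ofX R (p * q) f + algebraMap R _ p * NodeRing.ofX R (p * q) e := by
  simp only [NodeRing.ofX, map_add, map_mul, PowerSeries.toMvPowerSeries_C, algebraMap_eq]

include I hπ in
lemma exists_normal (w : Fin 2 → NodeRing R (p * q)) : ∃ f g : PowerSeries R,
    w - ![NodeRing.ofX R (p * q) f, NodeRing.ofY R (p * q) g] ∈
      Submodule.span (NodeRing R (p * q)) {v1 p q, v2 p q} := by
  obtain ⟨f₀, h, ha⟩ := decomp1 I p q hπ (w 0)
  obtain ⟨e, g, hb⟩ := decomp2 I p q hπ (w 1 + algebraMap R _ q * NodeRing.ofY R (p * q) h)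
  refine ⟨f₀ + PowerSeries.C p * e, g, ?_⟩
  have : w - ![NodeRing.ofX R (p * q) (f₀ + PowerSeries.C p * e), NodeRing.ofY R (p * q) g] =
      NodeRing.ofY R (p * q) h • v2 p q - NodeRing.ofX R (p * q) e • v1 p q := by
    funext i
    fin_cases i
    · simp only [Fin.zero_eta, Pi.sub_apply, Matrix.cons_val_zero, Pi.smul_apply, smul_eq_mul, v1, v2,
        ofX_add_mul]
      rw [ha]; ring
    · simp only [Fin.mk_one, Pi.sub_apply, Matrix.cons_val_one, Matrix.cons_val_zero, Pi.smul_apply,
        smul_eq_mul, v1, v2]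
      have hb' : w 1 = NodeRing.x R (p * q) * NodeRing.ofX R (p * q) e + NodeRing.ofY R (p * q) g -
          algebraMap R _ q * NodeRing.ofY R (p * q) h := by rw [← hb]; ring
      rw [hb']; ring
  rw [this]
  exact sub_mem (Submodule.smul_mem _ _ (Submodule.subset_span (by simp)))
    (Submodule.smul_mem _ _ (Submodule.subset_span (by simp)))

lemma span_le_ker : Submodule.span (NodeRing R (p * q)) {v1 p q, v2 p q} ≤
    LinearMap.ker (Matrix.mulVecLin (nodeAlpha R p q)) := by
  refine Submodule.span_le.mpr ?_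
  intro v hv
  rcases hv with rfl | rfl
  · exact LinearMap.mem_ker.mpr (by rw [Matrix.mulVecLin_apply]; exact v1_ker p q)
  · exact LinearMap.mem_ker.mpr (by rw [Matrix.mulVecLin_apply]; exact v2_ker p q)

include I hπ in
theorem ker_eq : LinearMap.ker (Matrix.mulVecLin (nodeAlpha R p q)) =
    Submodule.span (NodeRing R (p * q)) {v1 p q, v2 p q} := by
  refine le_antisymm ?_ (span_le_ker p q)
  intro w hw
  obtain ⟨f, g, hs⟩ := exists_normal I p q hπ w
  have h0 : Matrix.mulVec (nodeAlpha R p q)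
      ![NodeRing.ofX R (p * q) f, NodeRing.ofY R (p * q) g] = 0 := by
    have h1 := LinearMap.mem_ker.mp (span_le_ker p q hs)
    have h2 := LinearMap.mem_ker.mp hw
    rw [map_sub, h2, zero_sub, neg_eq_zero, Matrix.mulVecLin_apply] at h1
    exact h1
  obtain ⟨rfl, rfl⟩ := inj_core I p q hπ f g h0
  have : (![NodeRing.ofX R (p * q) 0, NodeRing.ofY R (p * q) 0] : Fin 2 → NodeRing R (p * q)) = 0 := by
    funext i
    fin_cases i <;> simp [NodeRing.ofX, NodeRing.ofY]
  rw [this, sub_zero] at hs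
  exact hs

include I hπ in
theorem phi_injective : Function.Injective (fun fg : PowerSeries R × PowerSeries R =>
    Matrix.mulVec (nodeAlpha R p q)
      ![NodeRing.ofX R (p * q) fg.1, NodeRing.ofY R (p * q) fg.2]) := by
  rintro ⟨f, g⟩ ⟨f', g'⟩ h
  simp only at h
  have h0 : Matrix.mulVec (nodeAlpha R p q)
      ![NodeRing.ofX R (p * q) (f - f'), NodeRing.ofY R (p * q) (g - g')] = 0 := by
    have : (![NodeRing.ofX R (p * q) (f - f'), NodeRing.ofY R (p * q) (g - g')] :
        Fin 2 → NodeRing R (p * q)) =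
        ![NodeRing.ofX R (p * q) f, NodeRing.ofY R (p * q) g] -
        ![NodeRing.ofX R (p * q) f', NodeRing.ofY R (p * q) g'] := by
      funext i
      fin_cases i <;> simp [NodeRing.ofX, NodeRing.ofY]
    rw [this, Matrix.mulVec_sub, h, sub_self]
  obtain ⟨h1, h2⟩ := inj_core I p q hπ _ _ h0
  rw [sub_eq_zero] at h1 h2
  rw [h1, h2]

include I hπ in
theorem range_eq : Set.range (fun fg : PowerSeries R × PowerSeries R =>
    Matrix.mulVec (nodeAlpha R p q)
      ![NodeRing.ofX R (p * q) fg.1, NodeRing.ofY R (p * q) fg.2]) =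
    Set.range (Matrix.mulVec (nodeAlpha R p q)) := by
  apply Set.Subset.antisymm
  · rintro _ ⟨fg, rfl⟩
    exact ⟨_, rfl⟩
  · rintro _ ⟨w, rfl⟩
    obtain ⟨f, g, hs⟩ := exists_normal I p q hπ w
    refine ⟨(f, g), ?_⟩
    have h1 := LinearMap.mem_ker.mp (span_le_ker p q hs)
    rw [map_sub, sub_eq_zero, Matrix.mulVecLin_apply, Matrix.mulVecLin_apply] at h1
    exact h1.symm

end Final

end Groth.Agent.Lib.T2H4.NodeCompl
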