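import Groth.Prelude.Def_W4c5spincurvestfNode
import Mathlib.LinearAlgebra.Dimension.Finrank
import Mathlib.LinearAlgebra.Dimension.Constructions
import Mathlib.LinearAlgebra.Isomorphisms
import Mathlib.RingTheory.Ideal.Quotient.Operations
import Mathlib.Tactic

set_option autoImplicit false
universe u

open SpinCurv MvPowerSeries

namespace Groth.Agent.Lib.T2H4.NodePS

variable (k : Type u) [Field k]

abbrev PS := MvPowerSeries (Fin 2) k

/-- exponent vector `(a, b)` -/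
noncomputable def ee (a b : ℕ) : Fin 2 →₀ ℕ := Finsupp.single 0 a + Finsupp.single 1 b

@[simp] lemma ee_zero (a b : ℕ) : ee a b 0 = a := by simp [ee]
@[simp] lemma ee_one (a b : ℕ) : ee a b 1 = b := by simp [ee]

lemma eq_ee (m : Fin 2 →₀ ℕ) : m = ee (m 0) (m 1) := by
  ext i
  fin_cases i <;> simp

lemma ee_le_iff (a b : ℕ) (m : Fin 2 →₀ ℕ) : ee a b ≤ m ↔ a ≤ m 0 ∧ b ≤ m 1 := by
  constructor
  · intro h
    have h0 := h 0
    have h1 := h 1
    simp at h0 h1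
    exact ⟨h0, h1⟩
  · rintro ⟨h0, h1⟩ i
    fin_cases i <;> simp [h0, h1]

lemma X0_pow (n : ℕ) : (X 0 : PS k) ^ n = monomial (ee n 0) 1 := by
  rw [X_pow_eq]; simp [ee]

lemma X1_pow (n : ℕ) : (X 1 : PS k) ^ n = monomial (ee 0 n) 1 := by
  rw [X_pow_eq]; simp [ee]

lemma X0X1 : (X 0 * X 1 : PS k) = monomial (ee 1 1) 1 := by
  rw [X_def, X_def, monomial_mul_monomial]; simp [ee]

/-- The coefficient-extraction map. -/
noncomputable def TT (u v : ℕ) : PS k →ₗ[k] (Fin u → k) × (Fin (v - 1) → k) :=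
  LinearMap.prod (LinearMap.pi fun i : Fin u => MvPowerSeries.coeff (ee (i : ℕ) 0))
    (LinearMap.pi fun j : Fin (v - 1) => MvPowerSeries.coeff (ee 0 ((j : ℕ) + 1)))

lemma TT_surjective (u v : ℕ) : Function.Surjective (TT k u v) := by
  rintro ⟨α, β⟩
  let F : PS k := fun m =>
    if h : m 1 = 0 ∧ m 0 < u then α ⟨m 0, h.2⟩
    else if h' : m 0 = 0 ∧ 1 ≤ m 1 ∧ m 1 - 1 < v - 1 then β ⟨m 1 - 1, h'.2.2⟩ else 0
  refine ⟨F, ?_⟩
  ext i
  · show F (ee (i : ℕ) 0) = α i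
    simp only [F]
    rw [dif_pos]
    · simp
    · simp
  · show F (ee 0 ((i : ℕ) + 1)) = β i
    simp only [F]
    rw [dif_neg, dif_pos]
    · simp
    · have := i.2
      simp
    · simp

lemma coeff_mk (f : (Fin 2 →₀ ℕ) → k) (m : Fin 2 →₀ ℕ) :
    MvPowerSeries.coeff m (f : PS k) = f m := rfl

lemma ee_sub (a b c d : ℕ) : ee a b - ee c d = ee (a - c) (b - d) := by
  ext i
  fin_cases i <;> simp [ee]

lemma ee_add (a b c d : ℕ) : ee a b + ee c d = ee (a + c) (b + d) := by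
  ext i
  fin_cases i <;> simp [ee]

lemma ee_le_ee (a b c d : ℕ) : ee c d ≤ ee a b ↔ c ≤ a ∧ d ≤ b := by
  rw [ee_le_iff]; simp

lemma ee_inj (a b c d : ℕ) (h : ee a b = ee c d) : a = c ∧ b = d := by
  have h0 := congrArg (fun m : Fin 2 →₀ ℕ => m 0) h
  have h1 := congrArg (fun m : Fin 2 →₀ ℕ => m 1) h
  simp at h0 h1
  exact ⟨h0, h1⟩

lemma C_mul_X1_pow (w : k) (v : ℕ) : (C w * X 1 ^ v : PS k) = monomial (ee 0 v) w := by
  rw [X1_pow, ← monomial_zero_eq_C_apply, monomial_mul_monomial]; simp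

lemma TT_gen1 (u v : ℕ) (hu : 1 ≤ u) (G : PS k) : TT k u v (G * X 0 ^ u) = 0 := by
  rw [X0_pow]
  ext i
  · show MvPowerSeries.coeff (ee (i : ℕ) 0) (G * monomial (ee u 0) 1) = 0
    rw [coeff_mul_monomial, if_neg]
    rw [ee_le_ee]; have := i.2; omega
  · show MvPowerSeries.coeff (ee 0 ((i : ℕ) + 1)) (G * monomial (ee u 0) 1) = 0
    rw [coeff_mul_monomial, if_neg]
    rw [ee_le_ee]; omega

lemma TT_gen2 (u v : ℕ) (hv : 1 ≤ v) (w : k) (G : PS k) : TT k u v (G * (C w * X 1 ^ v)) = 0 := by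
  rw [C_mul_X1_pow]
  ext i
  · show MvPowerSeries.coeff (ee (i : ℕ) 0) (G * monomial (ee 0 v) w) = 0
    rw [coeff_mul_monomial, if_neg]
    rw [ee_le_ee]; omega
  · show MvPowerSeries.coeff (ee 0 ((i : ℕ) + 1)) (G * monomial (ee 0 v) w) = 0
    rw [coeff_mul_monomial, if_neg]
    rw [ee_le_ee]; have := i.2; omega

lemma TT_gen3 (u v : ℕ) (G : PS k) : TT k u v (G * (X 0 * X 1 - C 0)) = 0 := by
  rw [X0X1, map_zero, sub_zero]
  ext i
  · show MvPowerSeries.coeff (ee (i : ℕ) 0) (G * monomial (ee 1 1) 1) = 0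
    rw [coeff_mul_monomial, if_neg]
    rw [ee_le_ee]; omega
  · show MvPowerSeries.coeff (ee 0 ((i : ℕ) + 1)) (G * monomial (ee 1 1) 1) = 0
    rw [coeff_mul_monomial, if_neg]
    rw [ee_le_ee]; omega

/-- auxiliary series -/
noncomputable def G1 (u : ℕ) (F : PS k) : PS k :=
  fun m => if m 1 = 0 then MvPowerSeries.coeff (m + ee u 0) F else 0
noncomputable def G2 (v : ℕ) (w : k) (F : PS k) : PS k :=
  fun m => if m 0 = 0 then w⁻¹ * MvPowerSeries.coeff (m + ee 0 v) F else 0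
noncomputable def G3 (F : PS k) : PS k :=
  fun m => MvPowerSeries.coeff (m + ee 1 1) F

lemma coeff_G1 (u : ℕ) (F : PS k) (m : Fin 2 →₀ ℕ) : MvPowerSeries.coeff m (G1 k u F)
    = if m 1 = 0 then MvPowerSeries.coeff (m + ee u 0) F else 0 := rfl
lemma coeff_G2 (v : ℕ) (w : k) (F : PS k) (m : Fin 2 →₀ ℕ) : MvPowerSeries.coeff m (G2 k v w F)
    = if m 0 = 0 then w⁻¹ * MvPowerSeries.coeff (m + ee 0 v) F else 0 := rfl
lemma coeff_G3 (F : PS k) (m : Fin 2 →₀ ℕ) : MvPowerSeries.coeff m (G3 k F)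
    = MvPowerSeries.coeff (m + ee 1 1) F := rfl

lemma decomp (u v : ℕ) (hu : 1 ≤ u) (hv : 1 ≤ v) (w : k) (hw : w ≠ 0) (F : PS k)
    (hF : TT k u v F = 0) :
    ∃ G1 G2 G3 : PS k, F = G1 * X 0 ^ u + G2 * (C w * X 1 ^ v) + G3 * (X 0 * X 1 - C 0) := by
  have hF1 : ∀ i, i < u → MvPowerSeries.coeff (ee i 0) F = 0 := by
    intro i hi
    have := congrArg (fun p : (Fin u → k) × (Fin (v - 1) → k) => p.1 ⟨i, hi⟩) hF
    exact this
  have hF2 : ∀ j, j < v - 1 → MvPowerSeries.coeff (ee 0 (j + 1)) F = 0 := by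
    intro j hj
    have := congrArg (fun p : (Fin u → k) × (Fin (v - 1) → k) => p.2 ⟨j, hj⟩) hF
    exact this
  refine ⟨G1 k u F, G2 k v w F, G3 k F, ?_⟩
  rw [X0_pow, C_mul_X1_pow, X0X1, map_zero, sub_zero]
  ext m
  obtain ⟨a, b, rfl⟩ : ∃ a b, m = ee a b := ⟨m 0, m 1, eq_ee m⟩
  simp only [map_add, coeff_mul_monomial, ee_le_ee, ee_sub, mul_one, coeff_G1, coeff_G2, coeff_G3,
    ee_zero, ee_one, ee_add]
  rcases Nat.eq_zero_or_pos b with rfl | hb
  · -- b = 0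
    rw [if_neg (show ¬ (0 ≤ a ∧ v ≤ 0) by omega), if_neg (show ¬ (1 ≤ a ∧ 1 ≤ 0) by omega),
      add_zero, add_zero]
    by_cases hua : u ≤ a
    · rw [if_pos (show u ≤ a ∧ 0 ≤ 0 from ⟨hua, le_refl 0⟩), if_pos (show 0 - 0 = 0 from rfl)]
      have : a - u + u = a := by omega
      rw [this]
    · rw [if_neg (show ¬ (u ≤ a ∧ 0 ≤ 0) by omega)]
      exact hF1 a (by omega)
  · rcases Nat.eq_zero_or_pos a with rfl | ha
    · -- a = 0, b ≥ 1
      rw [if_neg (show ¬ (u ≤ 0 ∧ 0 ≤ b) by omega), if_neg (show ¬ (1 ≤ 0 ∧ 1 ≤ b) by omega),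
        zero_add, add_zero]
      by_cases hvb : v ≤ b
      · rw [if_pos (show 0 ≤ 0 ∧ v ≤ b from ⟨le_refl 0, hvb⟩), if_pos (show 0 - 0 = 0 from rfl)]
        have : b - v + v = b := by omega
        rw [this]
        have : (0 : ℕ) - 0 + 0 = 0 := rfl
        rw [this]
        field_simp
      · rw [if_neg (show ¬ (0 ≤ 0 ∧ v ≤ b) by omega)]
        have := hF2 (b - 1) (by omega)
        have hb' : b - 1 + 1 = b := by omega
        rw [hb'] at this
        exact this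
    · -- a, b ≥ 1
      rw [if_pos (show 1 ≤ a ∧ 1 ≤ b from ⟨ha, hb⟩)]
      have e1 : (if u ≤ a ∧ 0 ≤ b then
          (if b - 0 = 0 then MvPowerSeries.coeff (ee (a - u + u) (b - 0 + 0)) F else 0) else 0) = 0 := by
        split_ifs with h1 h2
        · omega
        · rfl
        · rfl
      have e2 : (if 0 ≤ a ∧ v ≤ b then
          (if a - 0 = 0 then w⁻¹ * MvPowerSeries.coeff (ee (a - 0 + 0) (b - v + v)) F else 0) * w
            else 0) = 0 := by
        split_ifs with h1 h2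
        · omega
        · simp
        · rfl
      rw [e1, e2, zero_add, zero_add]
      have h1 : a - 1 + 1 = a := by omega
      have h2 : b - 1 + 1 = b := by omega
      rw [h1, h2]

theorem finrank_main (u v : ℕ) (hu : 1 ≤ u) (hv : 1 ≤ v) (w : k) (hw : w ≠ 0) :
    Module.finrank k (SpinCurv.NodeRing k 0 ⧸
      Ideal.span {SpinCurv.NodeRing.x k 0 ^ u,
        algebraMap k (SpinCurv.NodeRing k 0) w * SpinCurv.NodeRing.y k 0 ^ v}) = u + v - 1 := by
  set J : Ideal (SpinCurv.NodeRing k 0) := Ideal.span {SpinCurv.NodeRing.x k 0 ^ u,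
        algebraMap k (SpinCurv.NodeRing k 0) w * SpinCurv.NodeRing.y k 0 ^ v} with hJ
  let I0 : Ideal (PS k) := Ideal.span {(X 0 * X 1 - C 0 : PS k)}
  let π : PS k →ₗ[k] (SpinCurv.NodeRing k 0 ⧸ J) :=
    (Ideal.Quotient.mkₐ k J).toLinearMap ∘ₗ (Ideal.Quotient.mkₐ k I0).toLinearMap
  have hπ : Function.Surjective π :=
    (Ideal.Quotient.mkₐ_surjective k J).comp (Ideal.Quotient.mkₐ_surjective k I0)
  have hπapp : ∀ F : PS k, π F = Ideal.Quotient.mk J (Ideal.Quotient.mk I0 F) := fun F => rfl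
  have hw' : algebraMap k (SpinCurv.NodeRing k 0) w = Ideal.Quotient.mk I0 (C w) := rfl
  have hker : LinearMap.ker π = LinearMap.ker (TT k u v) := by
    ext F
    simp only [LinearMap.mem_ker]
    constructor
    · intro h
      rw [hπapp] at h
      have h' : Ideal.Quotient.mk I0 F ∈ J := Ideal.Quotient.eq_zero_iff_mem.mp h
      rw [hJ, Ideal.mem_span_pair] at h'
      obtain ⟨c, d, hcd⟩ := h'
      obtain ⟨G1, rfl⟩ := Ideal.Quotient.mk_surjective c
      obtain ⟨G2, rfl⟩ := Ideal.Quotient.mk_surjective d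
      have hmem : F - (G1 * X 0 ^ u + G2 * (C w * X 1 ^ v)) ∈ I0 := by
        rw [← Ideal.Quotient.eq, ← hcd, hw']
        simp only [map_add, map_mul, map_pow]
        rfl
      obtain ⟨G3, hG3⟩ := Ideal.mem_span_singleton'.mp hmem
      have hFe : F = G1 * X 0 ^ u + G2 * (C w * X 1 ^ v) + G3 * (X 0 * X 1 - C 0) := by
        rw [hG3]; ring
      rw [hFe, map_add, map_add, TT_gen1 k u v hu, TT_gen2 k u v hv, TT_gen3]
      simp
    · intro h
      obtain ⟨G1, G2, G3, rfl⟩ := decomp k u v hu hv w hw F h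
      rw [hπapp, Ideal.Quotient.eq_zero_iff_mem]
      have h3 : Ideal.Quotient.mk I0 (X 0 * X 1 - C 0) = 0 :=
        Ideal.Quotient.eq_zero_iff_mem.mpr (Ideal.subset_span rfl)
      rw [map_add, map_add, map_mul _ G3, h3, mul_zero, add_zero, map_mul, map_mul, map_mul,
        map_pow, map_pow]
      refine J.add_mem (J.mul_mem_left _ (Ideal.subset_span ?_))
        (J.mul_mem_left _ (Ideal.subset_span ?_))
      · left; rfl
      · right; rfl
  have e1 : (PS k ⧸ LinearMap.ker π) ≃ₗ[k] (SpinCurv.NodeRing k 0 ⧸ J) :=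
    LinearMap.quotKerEquivOfSurjective π hπ
  have e2 : (PS k ⧸ LinearMap.ker (TT k u v)) ≃ₗ[k] (Fin u → k) × (Fin (v - 1) → k) :=
    LinearMap.quotKerEquivOfSurjective _ (TT_surjective k u v)
  have e3 : (PS k ⧸ LinearMap.ker π) ≃ₗ[k] (PS k ⧸ LinearMap.ker (TT k u v)) :=
    Submodule.quotEquivOfEq _ _ hker
  rw [← e1.finrank_eq, e3.finrank_eq, e2.finrank_eq, Module.finrank_prod, Module.finrank_fin_fun,
    Module.finrank_fin_fun]
  omega

end Groth.Agent.Lib.T2H4.NodePS
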