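import Groth.Agent.Lib.T2H4NodeTwist

set_option autoImplicit false
universe u

open SpinCurv LaurentPolynomial

namespace Groth.Agent.Lib.T2H4.NodeSections

open Groth.Agent.Lib.T2H4.NodeBasis Groth.Agent.Lib.T2H4.NodeTwist

variable (R : Type u) [CommRing R] (p q : R)
    (rU : PolyNodeRing R (p * q) →ₐ[R] PolyNodeRing R q)
    (rV : PolyNodeRing R (p * q) →ₐ[R] PolyNodeRing R p)
    (n : ℕ)

lemma smul_def' (π : R) (r : R) (a : PolyNodeRing R π) :
    r • a = algebraMap R (PolyNodeRing R π) r * a := Algebra.smul_def r a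

/-- first component of the section map -/
noncomputable def PsiU : (Fin (n + 1) → PolyNodeRing R (p * q)) →ₗ[R] PolyNodeRing R q :=
  ∑ i : Fin (n + 1), (LinearMap.mulRight R (PolyNodeRing.x R q ^ (n - (i : ℕ)))) ∘ₗ
    rU.toLinearMap ∘ₗ (LinearMap.proj i)

/-- second component of the section map -/
noncomputable def PsiV : (Fin (n + 1) → PolyNodeRing R (p * q)) →ₗ[R] PolyNodeRing R p :=
  ∑ i : Fin (n + 1), (LinearMap.mulRight R (PolyNodeRing.x R p ^ (i : ℕ))) ∘ₗ
    rV.toLinearMap ∘ₗ (LinearMap.proj i)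

lemma PsiU_apply (F : Fin (n + 1) → PolyNodeRing R (p * q)) :
    PsiU R p q rU n F = ∑ i : Fin (n + 1), rU (F i) * PolyNodeRing.x R q ^ (n - (i : ℕ)) := by
  simp [PsiU]

lemma PsiV_apply (F : Fin (n + 1) → PolyNodeRing R (p * q)) :
    PsiV R p q rV n F = ∑ i : Fin (n + 1), rV (F i) * PolyNodeRing.x R p ^ (i : ℕ) := by
  simp [PsiV]

lemma PsiU_single (j : Fin (n + 1)) (a : PolyNodeRing R (p * q)) :
    PsiU R p q rU n (Pi.single j a) = rU a * PolyNodeRing.x R q ^ (n - (j : ℕ)) := by
  rw [PsiU_apply, Finset.sum_eq_single j]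
  · simp
  · intro i _ hij
    simp [Pi.single_eq_of_ne hij]
  · simp

lemma PsiV_single (j : Fin (n + 1)) (a : PolyNodeRing R (p * q)) :
    PsiV R p q rV n (Pi.single j a) = rV a * PolyNodeRing.x R p ^ (j : ℕ) := by
  rw [PsiV_apply, Finset.sum_eq_single j]
  · simp
  · intro i _ hij
    simp [Pi.single_eq_of_ne hij]
  · simp

lemma PsiU_smul (a : PolyNodeRing R (p * q)) (F : Fin (n + 1) → PolyNodeRing R (p * q)) :
    PsiU R p q rU n (a • F) = rU a * PsiU R p q rU n F := by
  rw [PsiU_apply, PsiU_apply, Finset.mul_sum]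
  refine Finset.sum_congr rfl fun i _ => ?_
  simp only [Pi.smul_apply, smul_eq_mul, map_mul]
  ring

lemma PsiV_smul (a : PolyNodeRing R (p * q)) (F : Fin (n + 1) → PolyNodeRing R (p * q)) :
    PsiV R p q rV n (a • F) = rV a * PsiV R p q rV n F := by
  rw [PsiV_apply, PsiV_apply, Finset.mul_sum]
  refine Finset.sum_congr rfl fun i _ => ?_
  simp only [Pi.smul_apply, smul_eq_mul, map_mul]
  ring

section Part1

variable (hrUx : rU (PolyNodeRing.x R (p * q)) = algebraMap R _ p * PolyNodeRing.x R q)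
    (hrUy : rU (PolyNodeRing.y R (p * q)) = PolyNodeRing.y R q)
    (hrVx : rV (PolyNodeRing.x R (p * q)) = PolyNodeRing.y R p)
    (hrVy : rV (PolyNodeRing.y R (p * q)) = algebraMap R _ q * PolyNodeRing.x R p)
    (gU : PolyNodeRing R q →ₐ[R] R[T;T⁻¹]) (gV : PolyNodeRing R p →ₐ[R] R[T;T⁻¹])
    (hgUs : gU (PolyNodeRing.x R q) = T 1)
    (hgUy : gU (PolyNodeRing.y R q) = C q * T (-1))
    (hgVt : gV (PolyNodeRing.x R p) = T (-1))
    (hgVx : gV (PolyNodeRing.y R p) = C p * T 1)

include hrUx hrUy hrVx hrVy hgUs hgUy hgVt hgVx in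
lemma theta_eq : gU.comp rU = gV.comp rV := by
  apply Groth.Agent.Lib.T2H4.Node.algHom_ext'
  · simp only [AlgHom.comp_apply, hrUx, hrVx, map_mul, AlgHom.commutes, hgUs, hgVx,
      C_eq_algebraMap]
  · simp only [AlgHom.comp_apply, hrUy, hrVy, map_mul, AlgHom.commutes, hgUy, hgVt,
      C_eq_algebraMap]

include hrUx hrUy hrVx hrVy hgUs hgUy hgVt hgVx in
lemma Psi_mem_ker (F : Fin (n + 1) → PolyNodeRing R (p * q)) :
    gU (PsiU R p q rU n F) = T (n : ℤ) * gV (PsiV R p q rV n F) := by
  have hθ := theta_eq R p q rU rV hrUx hrUy hrVx hrVy gU gV hgUs hgUy hgVt hgVx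
  rw [PsiU_apply, PsiV_apply, map_sum, map_sum, Finset.mul_sum]
  refine Finset.sum_congr rfl fun i _ => ?_
  have h1 : gU (rU (F i)) = gV (rV (F i)) := by
    have := congrArg (fun φ : PolyNodeRing R (p * q) →ₐ[R] R[T;T⁻¹] => φ (F i)) hθ
    exact this
  rw [map_mul gU, map_mul gV, map_pow gU, map_pow gV, hgUs, hgVt, h1, T_pow, T_pow,
    mul_left_comm, ← T_add]
  congr 2
  have := i.2
  push_cast [Nat.cast_sub (Nat.lt_succ_iff.mp i.2)]
  ring

end Part1

section NF

/-- position of the normal-form vector -/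
def pos (z : ℤ) : Fin (n + 1) := ⟨min ((n : ℤ) - z).toNat n, by omega⟩

/-- exponent of the normal-form vector -/
def shift (z : ℤ) : ℤ := if (n : ℤ) < z then z - n else if 0 ≤ z then 0 else z

/-- normal-form vectors -/
noncomputable def nf (z : ℤ) : Fin (n + 1) → PolyNodeRing R (p * q) :=
  Pi.single (pos n z) (e R (p * q) (shift n z))

/-- the R-linear map onto normal forms -/
noncomputable def nu : (ℤ →₀ R) →ₗ[R] (Fin (n + 1) → PolyNodeRing R (p * q)) :=
  Finsupp.linearCombination R (nf R p q n)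

lemma nu_single (z : ℤ) (r : R) : nu R p q n (Finsupp.single z r) = r • nf R p q n z := by
  simp [nu]

variable (hrUx : rU (PolyNodeRing.x R (p * q)) = algebraMap R _ p * PolyNodeRing.x R q)
    (hrUy : rU (PolyNodeRing.y R (p * q)) = PolyNodeRing.y R q)
    (hrVx : rV (PolyNodeRing.x R (p * q)) = PolyNodeRing.y R p)
    (hrVy : rV (PolyNodeRing.y R (p * q)) = algebraMap R _ q * PolyNodeRing.x R p)

include hrUx hrUy in
lemma PsiU_nf (z : ℤ) :
    PsiU R p q rU n (nf R p q n z) = alpha R p (n : ℤ) z • e R q z := by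
  rw [nf, PsiU_single, smul_def']
  by_cases h1 : (n : ℤ) < z
  · have hpos : ((pos n z : Fin (n + 1)) : ℕ) = 0 := by
      simp only [pos]; omega
    have hz0 : 0 ≤ z := by omega
    have hzn : 0 ≤ z - n := by omega
    rw [shift, if_pos h1, alpha, if_pos ⟨hz0, h1⟩, e, if_pos hzn, e, if_pos hz0, hpos,
      map_pow rU, hrUx, mul_pow, ← map_pow, mul_assoc, ← pow_add]
    congr 2
    omega
  · by_cases h2 : 0 ≤ z
    · have hpos : ((pos n z : Fin (n + 1)) : ℕ) = ((n : ℤ) - z).toNat := by
        simp only [pos]; omega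
      rw [shift, if_neg h1, if_pos h2, alpha, if_neg (by omega), e, if_pos (le_refl 0), e,
        if_pos h2, hpos]
      simp only [Int.toNat_zero, pow_zero, map_one, one_mul]
      congr 1
      omega
    · have hpos : ((pos n z : Fin (n + 1)) : ℕ) = n := by
        simp only [pos]; omega
      rw [shift, if_neg h1, if_neg h2, alpha, if_neg (by omega), e, if_neg h2, hpos,
        map_pow rU, hrUy, e, if_neg h2]
      simp

include hrVx hrVy in
lemma PsiV_nf (z : ℤ) :
    PsiV R p q rV n (nf R p q n z) = lam R q z • e R p ((n : ℤ) - z) := by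
  rw [nf, PsiV_single, smul_def']
  by_cases h1 : (n : ℤ) < z
  · have hpos : ((pos n z : Fin (n + 1)) : ℕ) = 0 := by
      simp only [pos]; omega
    have hz0 : 0 ≤ z := by omega
    have hzn : 0 ≤ z - n := by omega
    rw [shift, if_pos h1, lam, if_pos hz0, e, if_pos hzn, e, if_neg (by omega), hpos,
      map_pow rV, hrVx]
    simp only [pow_zero, mul_one, map_one, one_mul]
    congr 1
    omega
  · by_cases h2 : 0 ≤ z
    · have hpos : ((pos n z : Fin (n + 1)) : ℕ) = ((n : ℤ) - z).toNat := by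
        simp only [pos]; omega
      rw [shift, if_neg h1, if_pos h2, lam, if_pos h2, e, if_pos (le_refl 0), e,
        if_pos (by omega), hpos]
      simp only [Int.toNat_zero, pow_zero, map_one, one_mul]
    · have hpos : ((pos n z : Fin (n + 1)) : ℕ) = n := by
        simp only [pos]; omega
      rw [shift, if_neg h1, if_neg h2, lam, if_neg h2, e, if_neg h2, e, if_pos (by omega), hpos,
        map_pow rV, hrVy, mul_pow, ← map_pow, mul_assoc, ← pow_add]
      congr 2
      omega

include hrUx hrUy hrVx hrVy in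
lemma Psi_nu (u : ℤ →₀ R) :
    (PsiU R p q rU n (nu R p q n u), PsiV R p q rV n (nu R p q n u)) = Emb R p q (n : ℤ) u := by
  have key : ((PsiU R p q rU n).prod (PsiV R p q rV n)) ∘ₗ (nu R p q n) = Emb R p q (n : ℤ) := by
    apply Finsupp.lhom_ext
    intro z r
    rw [LinearMap.comp_apply, nu_single, map_smul, LinearMap.prod_apply]
    show r • (PsiU R p q rU n (nf R p q n z), PsiV R p q rV n (nf R p q n z)) = _
    rw [PsiU_nf R p q rU n hrUx hrUy, PsiV_nf R p q rV n hrVx hrVy, Emb_single]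
    rfl
  have := congrArg (fun φ : (ℤ →₀ R) →ₗ[R] PolyNodeRing R q × PolyNodeRing R p => φ u) key
  exact this

end NF

section Rel

/-- first family of relations -/
noncomputable def r1 (i : Fin n) : Fin (n + 1) → PolyNodeRing R (p * q) :=
  Pi.single (Fin.castSucc i) (algebraMap R (PolyNodeRing R (p * q)) p) -
    Pi.single (Fin.succ i) (PolyNodeRing.x R (p * q))

/-- second family of relations -/
noncomputable def r2 (i : Fin n) : Fin (n + 1) → PolyNodeRing R (p * q) :=
  Pi.single (Fin.castSucc i) (PolyNodeRing.y R (p * q)) -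
    Pi.single (Fin.succ i) (algebraMap R (PolyNodeRing R (p * q)) q)

/-- the module of relations -/
noncomputable def Rel : Submodule (PolyNodeRing R (p * q)) (Fin (n + 1) → PolyNodeRing R (p * q)) :=
  Submodule.span (PolyNodeRing R (p * q)) (Set.range (r1 R p q n) ∪ Set.range (r2 R p q n))

variable (hrUx : rU (PolyNodeRing.x R (p * q)) = algebraMap R _ p * PolyNodeRing.x R q)
    (hrUy : rU (PolyNodeRing.y R (p * q)) = PolyNodeRing.y R q)
    (hrVx : rV (PolyNodeRing.x R (p * q)) = PolyNodeRing.y R p)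
    (hrVy : rV (PolyNodeRing.y R (p * q)) = algebraMap R _ q * PolyNodeRing.x R p)

include hrUx in
lemma PsiU_r1 (i : Fin n) : PsiU R p q rU n (r1 R p q n i) = 0 := by
  rw [r1, map_sub, PsiU_single, PsiU_single, hrUx, AlgHom.commutes]
  have h : n - ((Fin.castSucc i : Fin (n + 1)) : ℕ) = (n - ((Fin.succ i : Fin (n + 1)) : ℕ)) + 1 := by
    have := i.2
    simp only [Fin.val_castSucc, Fin.val_succ]; omega
  rw [h, pow_succ]
  ring

include hrVx in
lemma PsiV_r1 (i : Fin n) : PsiV R p q rV n (r1 R p q n i) = 0 := by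
  rw [r1, map_sub, PsiV_single, PsiV_single, hrVx, AlgHom.commutes]
  have h : ((Fin.succ i : Fin (n + 1)) : ℕ) = ((Fin.castSucc i : Fin (n + 1)) : ℕ) + 1 := by
    simp only [Fin.val_castSucc, Fin.val_succ]
  rw [h, pow_succ, ← xy R p]
  ring

include hrUy in
lemma PsiU_r2 (i : Fin n) : PsiU R p q rU n (r2 R p q n i) = 0 := by
  rw [r2, map_sub, PsiU_single, PsiU_single, hrUy, AlgHom.commutes]
  have h : n - ((Fin.castSucc i : Fin (n + 1)) : ℕ) = (n - ((Fin.succ i : Fin (n + 1)) : ℕ)) + 1 := by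
    have := i.2
    simp only [Fin.val_castSucc, Fin.val_succ]; omega
  rw [h, pow_succ, ← xy R q]
  ring

include hrVy in
lemma PsiV_r2 (i : Fin n) : PsiV R p q rV n (r2 R p q n i) = 0 := by
  rw [r2, map_sub, PsiV_single, PsiV_single, hrVy, AlgHom.commutes]
  have h : ((Fin.succ i : Fin (n + 1)) : ℕ) = ((Fin.castSucc i : Fin (n + 1)) : ℕ) + 1 := by
    simp only [Fin.val_castSucc, Fin.val_succ]
  rw [h, pow_succ]
  ring

include hrUx hrUy hrVx hrVy in
lemma Rel_le_ker (F : Fin (n + 1) → PolyNodeRing R (p * q)) (hF : F ∈ Rel R p q n) :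
    PsiU R p q rU n F = 0 ∧ PsiV R p q rV n F = 0 := by
  induction hF using Submodule.span_induction with
  | mem x hx =>
    rcases hx with ⟨i, rfl⟩ | ⟨i, rfl⟩
    · exact ⟨PsiU_r1 R p q rU n hrUx i, PsiV_r1 R p q rV n hrVx i⟩
    · exact ⟨PsiU_r2 R p q rU n hrUy i, PsiV_r2 R p q rV n hrVy i⟩
  | zero => simp
  | add x y _ _ hx hy => simp [hx.1, hx.2, hy.1, hy.2]
  | smul a x _ hx => rw [PsiU_smul, PsiV_smul, hx.1, hx.2]; simp

end Rel

section Span

/-- the R-submodule generated by relations and normal forms -/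
noncomputable def SS : Submodule R (Fin (n + 1) → PolyNodeRing R (p * q)) :=
  (Rel R p q n).restrictScalars R ⊔ LinearMap.range (nu R p q n)

lemma nf_mem (z : ℤ) : nf R p q n z ∈ SS R p q n := by
  refine Submodule.mem_sup_right ⟨Finsupp.single z 1, ?_⟩
  rw [nu_single, one_smul]

lemma rel_mem (F : Fin (n + 1) → PolyNodeRing R (p * q)) (hF : F ∈ Rel R p q n) :
    F ∈ SS R p q n :=
  Submodule.mem_sup_left hF

/-- `E_i = nf (n - i)` -/
lemma single_one_eq_nf (i : ℕ) (hi : i ≤ n) :
    (Pi.single (⟨i, by omega⟩ : Fin (n + 1)) 1 : Fin (n + 1) → PolyNodeRing R (p * q))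
      = nf R p q n ((n : ℤ) - i) := by
  have hpos : pos n ((n : ℤ) - i) = ⟨i, by omega⟩ := by
    apply Fin.ext; simp only [pos]; omega
  have hshift : shift n ((n : ℤ) - i) = 0 := by
    rw [shift, if_neg (by omega), if_pos (by omega)]
  rw [nf, hpos, hshift, e, if_pos (le_refl 0)]
  simp

/-- `x^k E_0 = nf (n + k)` -/
lemma single_zero_x_pow (k : ℕ) :
    (Pi.single (0 : Fin (n + 1)) (PolyNodeRing.x R (p * q) ^ k) :
      Fin (n + 1) → PolyNodeRing R (p * q)) = nf R p q n ((n : ℤ) + k) := by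
  have hpos : pos n ((n : ℤ) + k) = 0 := by
    apply Fin.ext; simp only [pos]; simp
  have hshift : shift n ((n : ℤ) + k) = k := by
    rw [shift]
    split_ifs <;> omega
  rw [nf, hpos, hshift, e, if_pos (by omega)]
  simp

/-- `y^k E_n = nf (-k)` -/
lemma single_last_y_pow (k : ℕ) :
    (Pi.single (Fin.last n) (PolyNodeRing.y R (p * q) ^ k) :
      Fin (n + 1) → PolyNodeRing R (p * q)) = nf R p q n (-(k : ℤ)) := by
  have hpos : pos n (-(k : ℤ)) = Fin.last n := by
    apply Fin.ext; simp only [pos, Fin.val_last]; omega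
  rcases Nat.eq_zero_or_pos k with rfl | hk
  · have hshift : shift n (-((0 : ℕ) : ℤ)) = 0 := by
      rw [shift]
      split_ifs <;> omega
    rw [nf, hpos, hshift, e, if_pos (le_refl 0)]
    simp
  · have hshift : shift n (-(k : ℤ)) = -(k : ℤ) := by
      rw [shift, if_neg (by omega), if_neg (by omega)]
    rw [nf, hpos, hshift, e, if_neg (by omega)]
    simp

lemma single_x_pow_mem (i : ℕ) (hi : i ≤ n) (k : ℕ) :
    (Pi.single (⟨i, by omega⟩ : Fin (n + 1)) (PolyNodeRing.x R (p * q) ^ k) :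
      Fin (n + 1) → PolyNodeRing R (p * q)) ∈ SS R p q n := by
  induction i generalizing k with
  | zero =>
    have : (⟨0, by omega⟩ : Fin (n + 1)) = 0 := rfl
    rw [this, single_zero_x_pow]
    exact nf_mem R p q n _
  | succ i ih =>
    rcases k with _ | k
    · rw [pow_zero, single_one_eq_nf R p q n (i + 1) hi]
      exact nf_mem R p q n _
    · have hi' : i ≤ n := by omega
      have hin : i < n := by omega
      have key : (Pi.single (⟨i + 1, by omega⟩ : Fin (n + 1)) (PolyNodeRing.x R (p * q) ^ (k + 1)) :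
          Fin (n + 1) → PolyNodeRing R (p * q))
          = p • (Pi.single (⟨i, by omega⟩ : Fin (n + 1)) (PolyNodeRing.x R (p * q) ^ k) :
                Fin (n + 1) → PolyNodeRing R (p * q))
            - (PolyNodeRing.x R (p * q) ^ k) • r1 R p q n ⟨i, hin⟩ := by
        have hc : (Fin.castSucc (⟨i, hin⟩ : Fin n) : Fin (n + 1)) = ⟨i, by omega⟩ := rfl
        have hs : (Fin.succ (⟨i, hin⟩ : Fin n) : Fin (n + 1)) = ⟨i + 1, by omega⟩ := rfl
        rw [r1, hc, hs, smul_sub, ← Pi.single_smul, ← Pi.single_smul, ← Pi.single_smul]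
        simp only [smul_eq_mul, smul_def']
        rw [pow_succ, mul_comm (PolyNodeRing.x R (p * q) ^ k) ((algebraMap R _) p)]
        abel
      rw [key]
      refine Submodule.sub_mem _ (Submodule.smul_mem _ _ (ih hi' k)) (rel_mem R p q n _ ?_)
      exact Submodule.smul_mem _ _ (Submodule.subset_span (Or.inl ⟨_, rfl⟩))

lemma single_y_pow_mem (j : ℕ) (hj : j ≤ n) (k : ℕ) :
    (Pi.single (⟨n - j, by omega⟩ : Fin (n + 1)) (PolyNodeRing.y R (p * q) ^ k) :
      Fin (n + 1) → PolyNodeRing R (p * q)) ∈ SS R p q n := by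
  induction j generalizing k with
  | zero =>
    have : (⟨n - 0, by omega⟩ : Fin (n + 1)) = Fin.last n := by
      apply Fin.ext; simp
    rw [this, single_last_y_pow]
    exact nf_mem R p q n _
  | succ j ih =>
    rcases k with _ | k
    · rw [pow_zero, single_one_eq_nf R p q n (n - (j + 1)) (by omega)]
      exact nf_mem R p q n _
    · have hj' : j ≤ n := by omega
      have hin : n - (j + 1) < n := by omega
      have key : (Pi.single (⟨n - (j + 1), by omega⟩ : Fin (n + 1))
            (PolyNodeRing.y R (p * q) ^ (k + 1)) : Fin (n + 1) → PolyNodeRing R (p * q))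
          = (PolyNodeRing.y R (p * q) ^ k) • r2 R p q n ⟨n - (j + 1), hin⟩
            + q • (Pi.single (⟨n - j, by omega⟩ : Fin (n + 1)) (PolyNodeRing.y R (p * q) ^ k) :
                Fin (n + 1) → PolyNodeRing R (p * q)) := by
        have hc : (Fin.castSucc (⟨n - (j + 1), hin⟩ : Fin n) : Fin (n + 1))
            = ⟨n - (j + 1), by omega⟩ := rfl
        have hs : (Fin.succ (⟨n - (j + 1), hin⟩ : Fin n) : Fin (n + 1)) = ⟨n - j, by omega⟩ := by
          apply Fin.ext; simp only [Fin.val_succ]; omega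
        rw [r2, hc, hs, smul_sub, ← Pi.single_smul, ← Pi.single_smul, ← Pi.single_smul]
        simp only [smul_eq_mul, smul_def']
        rw [pow_succ, mul_comm (PolyNodeRing.y R (p * q) ^ k) ((algebraMap R _) q)]
        abel
      rw [key]
      refine Submodule.add_mem _ (rel_mem R p q n _ ?_) (Submodule.smul_mem _ _ (ih hj' k))
      exact Submodule.smul_mem _ _ (Submodule.subset_span (Or.inr ⟨_, rfl⟩))

lemma single_e_mem (i : Fin (n + 1)) (z : ℤ) :
    (Pi.single i (e R (p * q) z) : Fin (n + 1) → PolyNodeRing R (p * q)) ∈ SS R p q n := by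
  by_cases hz : 0 ≤ z
  · rw [e, if_pos hz]
    exact single_x_pow_mem R p q n i (Nat.lt_succ_iff.mp i.2) _
  · rw [e, if_neg hz]
    have hi := i.2
    have h := single_y_pow_mem R p q n (n - i) (by omega) (-z).toNat
    have : (⟨n - (n - (i : ℕ)), by omega⟩ : Fin (n + 1)) = i := by
      apply Fin.ext; simp only []; omega
    rw [this] at h
    exact h

lemma single_mem (i : Fin (n + 1)) (a : PolyNodeRing R (p * q)) :
    (Pi.single i a : Fin (n + 1) → PolyNodeRing R (p * q)) ∈ SS R p q n := by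
  obtain ⟨c, rfl⟩ := (equiv R (p * q)).symm.surjective a
  induction c using Finsupp.induction_linear with
  | zero => simp
  | add f g hf hg =>
    rw [map_add, Pi.single_add]
    exact Submodule.add_mem _ hf hg
  | single z r =>
    rw [equiv_symm_single, Pi.single_smul]
    exact Submodule.smul_mem _ _ (single_e_mem R p q n i z)

lemma SS_eq_top (F : Fin (n + 1) → PolyNodeRing R (p * q)) : F ∈ SS R p q n := by
  rw [← Finset.univ_sum_single F]
  exact Submodule.sum_mem _ fun i _ => single_mem R p q n i (F i)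

end Span

section Final

variable (hrUx : rU (PolyNodeRing.x R (p * q)) = algebraMap R _ p * PolyNodeRing.x R q)
    (hrUy : rU (PolyNodeRing.y R (p * q)) = PolyNodeRing.y R q)
    (hrVx : rV (PolyNodeRing.x R (p * q)) = PolyNodeRing.y R p)
    (hrVy : rV (PolyNodeRing.y R (p * q)) = algebraMap R _ q * PolyNodeRing.x R p)
    (gU : PolyNodeRing R q →ₐ[R] R[T;T⁻¹]) (gV : PolyNodeRing R p →ₐ[R] R[T;T⁻¹])
    (hgUs : gU (PolyNodeRing.x R q) = T 1)
    (hgUy : gU (PolyNodeRing.y R q) = C q * T (-1))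
    (hgVt : gV (PolyNodeRing.x R p) = T (-1))
    (hgVx : gV (PolyNodeRing.y R p) = C p * T 1)

include hrUx hrUy hrVx hrVy in
lemma ker_le_Rel (F : Fin (n + 1) → PolyNodeRing R (p * q))
    (hU : PsiU R p q rU n F = 0) (hV : PsiV R p q rV n F = 0) : F ∈ Rel R p q n := by
  have hF := SS_eq_top R p q n F
  rw [SS, Submodule.mem_sup] at hF
  obtain ⟨ρ, hρ, ν', ⟨u, rfl⟩, hsum⟩ := hF
  have hρ' : ρ ∈ Rel R p q n := hρ
  obtain ⟨hρU, hρV⟩ := Rel_le_ker R p q rU rV n hrUx hrUy hrVx hrVy ρ hρ'
  have h1 : PsiU R p q rU n (nu R p q n u) = 0 := by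
    have := hU; rw [← hsum, map_add, hρU, zero_add] at this; exact this
  have h2 : PsiV R p q rV n (nu R p q n u) = 0 := by
    have := hV; rw [← hsum, map_add, hρV, zero_add] at this; exact this
  have hE : Emb R p q (n : ℤ) u = 0 := by
    rw [← Psi_nu R p q rU rV n hrUx hrUy hrVx hrVy u, h1, h2]; rfl
  have hu : u = 0 := by
    apply Emb_injective R p q (n : ℤ)
    rw [hE, map_zero]
  rw [← hsum, hu, map_zero, add_zero]
  exact hρ'

include hrUx hrUy hrVx hrVy hgUs hgUy hgVt hgVx in
theorem main :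
    Set.range (fun F : Fin (n + 1) → SpinCurv.PolyNodeRing R (p * q) =>
        (∑ i : Fin (n + 1), rU (F i) * SpinCurv.PolyNodeRing.x R q ^ (n - (i : ℕ)),
         ∑ i : Fin (n + 1), rV (F i) * SpinCurv.PolyNodeRing.x R p ^ (i : ℕ))) =
      {gf : SpinCurv.PolyNodeRing R q × SpinCurv.PolyNodeRing R p |
        gU gf.1 = LaurentPolynomial.T (n : ℤ) * gV gf.2} ∧
    {F : Fin (n + 1) → SpinCurv.PolyNodeRing R (p * q) |
        (∑ i : Fin (n + 1), rU (F i) * SpinCurv.PolyNodeRing.x R q ^ (n - (i : ℕ)),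
         ∑ i : Fin (n + 1), rV (F i) * SpinCurv.PolyNodeRing.x R p ^ (i : ℕ)) = 0} =
      (Submodule.span (SpinCurv.PolyNodeRing R (p * q))
        (Set.range (fun i : Fin n =>
            (Pi.single (Fin.castSucc i) (algebraMap R (SpinCurv.PolyNodeRing R (p * q)) p) -
              Pi.single (Fin.succ i) (SpinCurv.PolyNodeRing.x R (p * q)) : Fin (n + 1) → SpinCurv.PolyNodeRing R (p * q))) ∪
         Set.range (fun i : Fin n =>
            (Pi.single (Fin.castSucc i) (SpinCurv.PolyNodeRing.y R (p * q)) -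
              Pi.single (Fin.succ i) (algebraMap R (SpinCurv.PolyNodeRing R (p * q)) q) : Fin (n + 1) → SpinCurv.PolyNodeRing R (p * q)))) :
        Set (Fin (n + 1) → SpinCurv.PolyNodeRing R (p * q))) := by
  constructor
  · ext gf
    simp only [Set.mem_range, Set.mem_setOf_eq]
    constructor
    · rintro ⟨F, rfl⟩
      have := Psi_mem_ker R p q rU rV n hrUx hrUy hrVx hrVy gU gV hgUs hgUy hgVt hgVx F
      rw [PsiU_apply, PsiV_apply] at this
      exact this
    · intro h
      have hk : gf ∈ LinearMap.ker (Phi R p q gU gV (n : ℤ)) := by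
        rw [LinearMap.mem_ker]
        obtain ⟨g, f⟩ := gf
        rw [Phi_apply, sub_eq_zero]
        exact h
      obtain ⟨u, hu⟩ := ker_le_range R p q gU gV (n : ℤ) hgUs hgUy hgVt hgVx (by omega) hk
      refine ⟨nu R p q n u, ?_⟩
      rw [← hu, ← Psi_nu R p q rU rV n hrUx hrUy hrVx hrVy u, PsiU_apply, PsiV_apply]
  · ext F
    simp only [Set.mem_setOf_eq, SetLike.mem_coe]
    constructor
    · intro h
      have hU : PsiU R p q rU n F = 0 := by
        rw [PsiU_apply]; exact congrArg Prod.fst h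
      have hV : PsiV R p q rV n F = 0 := by
        rw [PsiV_apply]; exact congrArg Prod.snd h
      exact ker_le_Rel R p q rU rV n hrUx hrUy hrVx hrVy F hU hV
    · intro h
      have h' : F ∈ Rel R p q n := h
      obtain ⟨hU, hV⟩ := Rel_le_ker R p q rU rV n hrUx hrUy hrVx hrVy F h'
      rw [PsiU_apply] at hU
      rw [PsiV_apply] at hV
      exact Prod.ext hU hV

end Final

end Groth.Agent.Lib.T2H4.NodeSections
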