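import Groth.Agent.Lib.T2H4NodeBasis
import Mathlib.LinearAlgebra.FreeModule.Basic

set_option autoImplicit false
universe u

open SpinCurv LaurentPolynomial

namespace Groth.Agent.Lib.T2H4.NodeTwist

open Groth.Agent.Lib.T2H4.NodeBasis

variable (R : Type u) [CommRing R]

/-- diagonal-type linear maps into Laurent polynomials, coefficientwise -/
lemma diag_apply_laurent (D : (ℤ →₀ R) →ₗ[R] R[T;T⁻¹]) (a : ℤ → R) (σ : ℤ → ℤ)
    (hσ : Function.Injective σ)
    (h : ∀ w r, D (Finsupp.single w r) = C (a w * r) * T (σ w)) (c : ℤ →₀ R) (w : ℤ) :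
    (D c).coeff (σ w) = a w * c w := by
  induction c using Finsupp.induction_linear with
  | zero => simp
  | add f g hf hg =>
    rw [map_add, AddMonoidAlgebra.coeff_add, Finsupp.add_apply, hf, hg, Finsupp.add_apply, mul_add]
  | single w' r =>
    rw [h, ← single_eq_C_mul_T, AddMonoidAlgebra.coeff_single, Finsupp.single_apply,
      Finsupp.single_apply]
    by_cases hw : w' = w
    · subst hw; simp
    · have : σ w' ≠ σ w := fun e => hw (hσ e)
      simp [hw, this]

/-- diagonal-type linear maps into finsupps, coefficientwise -/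
lemma diag_apply_finsupp (D : (ℤ →₀ R) →ₗ[R] (ℤ →₀ R)) (a : ℤ → R) (σ : ℤ → ℤ)
    (hσ : Function.Injective σ)
    (h : ∀ w r, D (Finsupp.single w r) = Finsupp.single (σ w) (a w * r)) (c : ℤ →₀ R) (w : ℤ) :
    (D c) (σ w) = a w * c w := by
  induction c using Finsupp.induction_linear with
  | zero => simp
  | add f g hf hg =>
    rw [map_add, Finsupp.add_apply, hf, hg, Finsupp.add_apply, mul_add]
  | single w' r =>
    rw [h, Finsupp.single_apply, Finsupp.single_apply]
    by_cases hw : w' = w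
    · subst hw; simp
    · have : σ w' ≠ σ w := fun e => hw (hσ e)
      simp [hw, this]

/-- `gU (e z) = C (lam z) * T z` -/
def lam (q : R) (z : ℤ) : R := if 0 ≤ z then 1 else q ^ (-z).toNat

lemma gU_e (q : R) (gU : PolyNodeRing R q →ₐ[R] R[T;T⁻¹])
    (hgUs : gU (PolyNodeRing.x R q) = T 1)
    (hgUy : gU (PolyNodeRing.y R q) = C q * T (-1)) (z : ℤ) :
    gU (e R q z) = C (lam R q z) * T z := by
  by_cases hz : 0 ≤ z
  · rw [e, if_pos hz, lam, if_pos hz, map_pow, hgUs, T_pow, map_one, one_mul]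
    congr 1
    omega
  · rw [e, if_neg hz, lam, if_neg hz, map_pow, hgUy, mul_pow, T_pow, map_pow]
    congr 2
    omega

/-- `gV (e z) = C (lam z) * T (-z)` -/
lemma gV_e (p : R) (gV : PolyNodeRing R p →ₐ[R] R[T;T⁻¹])
    (hgVt : gV (PolyNodeRing.x R p) = T (-1))
    (hgVx : gV (PolyNodeRing.y R p) = C p * T 1) (z : ℤ) :
    gV (e R p z) = C (lam R p z) * T (-z) := by
  by_cases hz : 0 ≤ z
  · rw [e, if_pos hz, lam, if_pos hz, map_pow, hgVt, T_pow, map_one, one_mul]
    congr 1
    omega
  · rw [e, if_neg hz, lam, if_neg hz, map_pow, hgVx, mul_pow, T_pow, map_pow]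
    congr 2
    omega

section Main

variable (p q : R)
    (gU : PolyNodeRing R q →ₐ[R] R[T;T⁻¹]) (gV : PolyNodeRing R p →ₐ[R] R[T;T⁻¹]) (n : ℤ)

/-- the map whose kernel is the module of sections of `O(n)` -/
noncomputable def Phi : PolyNodeRing R q × PolyNodeRing R p →ₗ[R] R[T;T⁻¹] :=
  gU.toLinearMap.comp (LinearMap.fst R (PolyNodeRing R q) (PolyNodeRing R p)) -
    (LinearMap.mulLeft R (T n)).comp
      (gV.toLinearMap.comp (LinearMap.snd R (PolyNodeRing R q) (PolyNodeRing R p)))

lemma Phi_apply (g : PolyNodeRing R q) (f : PolyNodeRing R p) :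
    Phi R p q gU gV n (g, f) = gU g - T n * gV f := rfl

def alpha (z : ℤ) : R := if 0 ≤ z ∧ n < z then p ^ (z - n).toNat else 1

lemma alpha_lam (hn : -1 ≤ n) (z : ℤ) :
    alpha R p n z * lam R q z = lam R q z * lam R p (n - z) := by
  unfold alpha lam
  by_cases hz : 0 ≤ z
  · by_cases hnz : n < z
    · rw [if_pos ⟨hz, hnz⟩, if_pos hz, if_neg (by omega)]
      have : (-(n - z)).toNat = (z - n).toNat := by congr 1; ring
      rw [this, mul_one, one_mul]
    · rw [if_neg (by omega), if_pos hz, if_pos (by omega)]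
  · rw [if_neg (by omega), if_neg hz, if_pos (by omega), one_mul, mul_one]

/-- the parametrization of the kernel -/
noncomputable def Emb : (ℤ →₀ R) →ₗ[R] PolyNodeRing R q × PolyNodeRing R p :=
  Finsupp.linearCombination R (fun z => (alpha R p n z • e R q z, lam R q z • e R p (n - z)))

lemma Emb_single (z : ℤ) (r : R) : Emb R p q n (Finsupp.single z r)
    = (r • alpha R p n z • e R q z, r • lam R q z • e R p (n - z)) := by
  simp [Emb]

variable (hgUs : gU (PolyNodeRing.x R q) = T 1)
    (hgUy : gU (PolyNodeRing.y R q) = C q * T (-1))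
    (hgVt : gV (PolyNodeRing.x R p) = T (-1))
    (hgVx : gV (PolyNodeRing.y R p) = C p * T 1)

include hgUs hgUy hgVt hgVx in
lemma Phi_Emb (hn : -1 ≤ n) (u : ℤ →₀ R) : Phi R p q gU gV n (Emb R p q n u) = 0 := by
  have key : (Phi R p q gU gV n) ∘ₗ (Emb R p q n) = 0 := by
    apply Finsupp.lhom_ext
    intro z r
    rw [LinearMap.comp_apply, Emb_single, Phi_apply, LinearMap.zero_apply, map_smul, map_smul,
      map_smul, map_smul, gU_e R q gU hgUs hgUy, gV_e R p gV hgVt hgVx, sub_eq_zero]
    rw [smul_eq_C_mul, smul_eq_C_mul, smul_eq_C_mul, smul_eq_C_mul]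
    have h1 : C r * (C (alpha R p n z) * (C (lam R q z) * T z))
        = C r * C (alpha R p n z * lam R q z) * T z := by
      rw [map_mul]; ring
    have h2 : T n * (C r * (C (lam R q z) * (C (lam R p (n - z)) * T (-(n - z)))))
        = C r * C (lam R q z * lam R p (n - z)) * (T n * T (-(n - z))) := by
      rw [map_mul]; ring
    rw [h1, h2, alpha_lam R p q n hn, ← T_add]
    congr 2
    ring
  exact congrArg (fun φ : (ℤ →₀ R) →ₗ[R] R[T;T⁻¹] => φ u) key

/-- first coordinate of `Emb` in the basis -/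
noncomputable def E1 : (ℤ →₀ R) →ₗ[R] (ℤ →₀ R) :=
  (equiv R q).toLinearMap ∘ₗ (LinearMap.fst R _ _) ∘ₗ (Emb R p q n)

/-- second coordinate of `Emb` in the basis -/
noncomputable def E2 : (ℤ →₀ R) →ₗ[R] (ℤ →₀ R) :=
  (equiv R p).toLinearMap ∘ₗ (LinearMap.snd R _ _) ∘ₗ (Emb R p q n)

lemma E1_apply (u : ℤ →₀ R) (w : ℤ) : E1 R p q n u w = alpha R p n w * u w := by
  refine diag_apply_finsupp R (E1 R p q n) (alpha R p n) id Function.injective_id ?_ u w
  intro w r
  simp only [E1, LinearMap.comp_apply, Emb_single, LinearMap.fst_apply, LinearEquiv.coe_coe,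
    map_smul, equiv_e, Finsupp.smul_single, smul_eq_mul, mul_one, id]
  rw [mul_comm]

lemma E2_apply (u : ℤ →₀ R) (w : ℤ) : E2 R p q n u (n - w) = lam R q w * u w := by
  refine diag_apply_finsupp R (E2 R p q n) (lam R q) (fun w => n - w)
    (fun a b h => by simpa using h) ?_ u w
  intro w r
  simp only [E2, LinearMap.comp_apply, Emb_single, LinearMap.snd_apply, LinearEquiv.coe_coe,
    map_smul, equiv_e, Finsupp.smul_single, smul_eq_mul, mul_one]
  rw [mul_comm]

lemma Emb_injective : Function.Injective (Emb R p q n) := by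
  intro u u' h
  ext w
  by_cases hw : 0 ≤ w ∧ n < w
  · have h2 : E2 R p q n u (n - w) = E2 R p q n u' (n - w) := by
      simp only [E2, LinearMap.comp_apply, h]
    rw [E2_apply, E2_apply, lam, if_pos hw.1, one_mul, one_mul] at h2
    exact h2
  · have h1 : E1 R p q n u w = E1 R p q n u' w := by
      simp only [E1, LinearMap.comp_apply, h]
    rw [E1_apply, E1_apply, alpha, if_neg hw, one_mul, one_mul] at h1
    exact h1

end Main

section Kernel

variable (p q : R)
    (gU : PolyNodeRing R q →ₐ[R] R[T;T⁻¹]) (gV : PolyNodeRing R p →ₐ[R] R[T;T⁻¹]) (n : ℤ)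
    (hgUs : gU (PolyNodeRing.x R q) = T 1)
    (hgUy : gU (PolyNodeRing.y R q) = C q * T (-1))
    (hgVt : gV (PolyNodeRing.x R p) = T (-1))
    (hgVx : gV (PolyNodeRing.y R p) = C p * T 1)

/-- `gU` in coordinates -/
noncomputable def GamU : (ℤ →₀ R) →ₗ[R] R[T;T⁻¹] :=
  gU.toLinearMap ∘ₗ (equiv R q).symm.toLinearMap

/-- `T^n * gV` in coordinates -/
noncomputable def GamV : (ℤ →₀ R) →ₗ[R] R[T;T⁻¹] :=
  (LinearMap.mulLeft R (T n)) ∘ₗ gV.toLinearMap ∘ₗ (equiv R p).symm.toLinearMap

include hgUs hgUy in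
lemma GamU_coeff (c : ℤ →₀ R) (w : ℤ) : (GamU R q gU c).coeff w = lam R q w * c w := by
  refine diag_apply_laurent R (GamU R q gU) (lam R q) id Function.injective_id ?_ c w
  intro w r
  simp only [GamU, LinearMap.comp_apply, LinearEquiv.coe_coe, equiv_symm_single, map_smul,
    AlgHom.toLinearMap_apply, gU_e R q gU hgUs hgUy, id]
  rw [smul_eq_C_mul, map_mul]; ring

include hgVt hgVx in
lemma GamV_coeff (d : ℤ →₀ R) (w : ℤ) :
    (GamV R p gV n d).coeff (n - w) = lam R p w * d w := by
  refine diag_apply_laurent R (GamV R p gV n) (lam R p) (fun w => n - w)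
    (fun a b h => by simpa using h) ?_ d w
  intro w r
  simp only [GamV, LinearMap.comp_apply, LinearEquiv.coe_coe, equiv_symm_single, map_smul,
    AlgHom.toLinearMap_apply, gV_e R p gV hgVt hgVx, LinearMap.mulLeft_apply]
  rw [smul_eq_C_mul, map_mul, sub_eq_add_neg, T_add]; ring

include hgUs hgUy hgVt hgVx in
lemma ker_le_range (hn : -1 ≤ n) :
    LinearMap.ker (Phi R p q gU gV n) ≤ LinearMap.range (Emb R p q n) := by
  rintro ⟨g, f⟩ hgf
  rw [LinearMap.mem_ker, Phi_apply, sub_eq_zero] at hgf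
  set c := equiv R q g with hc
  set d := equiv R p f with hd
  have hg : g = (equiv R q).symm c := by simp [hc]
  have hf : f = (equiv R p).symm d := by simp [hd]
  have hU : gU g = GamU R q gU c := by rw [hg]; rfl
  have hV : T n * gV f = GamV R p gV n d := by rw [hf]; rfl
  have hcond : ∀ z, lam R q z * c z = lam R p (n - z) * d (n - z) := by
    intro z
    rw [← GamU_coeff R q gU hgUs hgUy, ← GamV_coeff R p gV n hgVt hgVx, ← hU, ← hV, hgf]
    congr 1
    ring
  -- the parameter
  let u : ℤ →₀ R := Finsupp.onFinset (c.support ∪ d.support.image (fun w => n - w))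
    (fun z => if 0 ≤ z ∧ n < z then d (n - z) else c z) (by
      intro z hz
      by_cases hzz : 0 ≤ z ∧ n < z
      · simp only [if_pos hzz] at hz
        refine Finset.mem_union_right _ (Finset.mem_image.mpr ⟨n - z, ?_, by ring⟩)
        exact Finsupp.mem_support_iff.mpr hz
      · simp only [if_neg hzz] at hz
        exact Finset.mem_union_left _ (Finsupp.mem_support_iff.mpr hz))
  have hu : ∀ z, u z = if 0 ≤ z ∧ n < z then d (n - z) else c z := fun z => rfl
  refine ⟨u, ?_⟩
  have h1 : equiv R q (Emb R p q n u).1 = c := by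
    ext w
    have := E1_apply R p q n u w
    simp only [E1, LinearMap.comp_apply, LinearMap.fst_apply, LinearEquiv.coe_coe] at this
    rw [this, hu]
    by_cases hw : 0 ≤ w ∧ n < w
    · rw [if_pos hw, alpha, if_pos hw]
      have h := hcond w
      rw [lam, if_pos hw.1, one_mul, lam, if_neg (by omega)] at h
      rw [h]
      congr 2
      ring
    · rw [if_neg hw, alpha, if_neg hw, one_mul]
  have h2 : equiv R p (Emb R p q n u).2 = d := by
    ext w'
    obtain ⟨w, rfl⟩ : ∃ w, w' = n - w := ⟨n - w', by ring⟩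
    have := E2_apply R p q n u w
    simp only [E2, LinearMap.comp_apply, LinearMap.snd_apply, LinearEquiv.coe_coe] at this
    rw [this, hu]
    by_cases hw : 0 ≤ w ∧ n < w
    · rw [if_pos hw, lam, if_pos hw.1, one_mul]
    · rw [if_neg hw, hcond w, lam, if_pos (by omega), one_mul]
  have e1 : (Emb R p q n u).1 = g := by
    apply (equiv R q).injective; rw [h1]
  have e2 : (Emb R p q n u).2 = f := by
    apply (equiv R p).injective; rw [h2]
  exact Prod.ext e1 e2

include hgUs hgUy hgVt hgVx in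
lemma ker_eq_range (hn : -1 ≤ n) :
    LinearMap.ker (Phi R p q gU gV n) = LinearMap.range (Emb R p q n) := by
  apply le_antisymm (ker_le_range R p q gU gV n hgUs hgUy hgVt hgVx hn)
  rintro _ ⟨u, rfl⟩
  exact Phi_Emb R p q gU gV n hgUs hgUy hgVt hgVx hn u

include hgUs hgUy hgVt hgVx in
theorem free_ker (hn : -1 ≤ n) : Module.Free R (LinearMap.ker (Phi R p q gU gV n)) := by
  rw [ker_eq_range R p q gU gV n hgUs hgUy hgVt hgVx hn]
  exact Module.Free.of_equiv (LinearEquiv.ofInjective (Emb R p q n) (Emb_injective R p q n))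

end Kernel

end Groth.Agent.Lib.T2H4.NodeTwist
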