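import Groth.Agent.Lib.T2H4CMLocus3

set_option autoImplicit false
set_option linter.style.haveILetI false
set_option backward.isDefEq.respectTransparency.types false
universe u v
open CategoryTheory CategoryTheory.Limits
attribute [local instance] HasDerivedCategory.standard

namespace Groth.Agent.Lib.T2H4.NormAll

open DerivedCategory Pretriangulated Groth.Agent.Lib.T2H4.DimFun Groth.Agent.Lib.T2H4.LocKL
  Groth.Agent.Lib.T2H4.LocalDual Groth.Agent.Lib.Helper28 Groth.Agent.Lib.T2H4.DualShift

section Normalized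

variable {A : Type u} [CommRing A] [IsNoetherianRing A] {ω : Dual.D A}
  (hω : Dual.IsDualizing A ω)

lemma idx_head_add_length_le (s : LTSeries (PrimeSpectrum A)) :
    idx ω hω s.head + s.length ≤ idx ω hω s.last := by
  have h1 : ∀ i : Fin (s.length + 1), idx ω hω (s 0) + (i : ℕ) ≤ idx ω hω (s i) := by
    intro i
    induction i using Fin.induction with
    | zero => simp
    | succ j ih =>
      have := idx_strictMono ω hω (s.step j)
      simp only [Fin.val_succ]
      push_cast
      rw [Fin.val_castSucc] at ih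
      lia
  have h2 := h1 (Fin.last _)
  simp only [Fin.val_last] at h2
  exact h2

variable (hnorm : ∀ (m : Ideal A) (_ : m.IsMaximal) (i : ℤ), i ≠ 0 →
  Subsingleton (Dual.inD A (A ⧸ m) ⟶ ω⟦i⟧))

include hnorm in
lemma idx_maximal (m : PrimeSpectrum A) (hm : m.asIdeal.IsMaximal) : idx ω hω m = 0 := by
  by_contra hne
  have h1 : Van ω m (A ⧸ m.asIdeal) (idx ω hω m) :=
    van_of_subsingleton_hom m _ _ (hnorm m.asIdeal hm _ hne)
  exact (idx_spec ω hω m _).1 h1 rfl

include hnorm in
lemma idx_nonpos (p : PrimeSpectrum A) : idx ω hω p ≤ 0 := by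
  obtain ⟨m, hm, hpm⟩ := Ideal.exists_le_maximal p.asIdeal p.2.ne_top
  have h1 : p ≤ (⟨m, hm.isPrime⟩ : PrimeSpectrum A) := hpm
  have h2 := (idx_strictMono ω hω).monotone h1
  rw [idx_maximal hω hnorm ⟨m, hm.isPrime⟩ hm] at h2
  exact h2

lemma coheight_add_le : ∀ (r : ℕ) (p q : PrimeSpectrum A), p ≤ q →
    idx ω hω q - idx ω hω p = r → Order.coheight q + r ≤ Order.coheight p
  | 0 => by
    intro p q hpq hr
    rcases eq_or_lt_of_le hpq with rfl | hlt
    · simp
    · have := idx_strictMono ω hω hlt
      push_cast at hr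
      lia
  | r + 1 => by
    intro p q hpq hr
    have hlt : p < q := by
      rcases eq_or_lt_of_le hpq with rfl | hlt
      · push_cast at hr
        lia
      · exact hlt
    obtain ⟨x, hpx, hxq⟩ := exists_le_covBy p q hlt
    have h1 := idx_covBy ω hω x q hxq
    have h2 := coheight_add_le r p x hpx (by push_cast at hr ⊢; lia)
    have h3 := Order.coheight_add_one_le hxq.lt
    calc Order.coheight q + ((r + 1 : ℕ) : ℕ∞) = (Order.coheight q + 1) + r := by
          push_cast; ring
      _ ≤ Order.coheight x + r := by gcongr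
      _ ≤ Order.coheight p := h2

include hnorm in
/-- when `ω` is normalized at every maximal ideal, the index is minus the coheight. -/
theorem idx_eq_neg_coheight (p : PrimeSpectrum A) :
    ∃ c : ℕ, Order.coheight p = c ∧ idx ω hω p = -(c : ℤ) := by
  have h0 := idx_nonpos hω hnorm p
  obtain ⟨c, hc⟩ : ∃ c : ℕ, idx ω hω p = -(c : ℤ) := ⟨(-idx ω hω p).toNat, by lia⟩
  refine ⟨c, le_antisymm ?_ ?_, hc⟩
  · rw [Order.coheight_le_iff]
    intro s hs
    have h1 := idx_head_add_length_le hω s
    have h2 := (idx_strictMono ω hω).monotone hs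
    have h3 := idx_nonpos hω hnorm s.last
    have h4 : s.length ≤ c := by lia
    exact_mod_cast h4
  · obtain ⟨m, hm, hpm⟩ := Ideal.exists_le_maximal p.asIdeal p.2.ne_top
    have h1 : p ≤ (⟨m, hm.isPrime⟩ : PrimeSpectrum A) := hpm
    have h2 := coheight_add_le hω c p ⟨m, hm.isPrime⟩ h1 (by
      rw [idx_maximal hω hnorm ⟨m, hm.isPrime⟩ hm, hc]
      ring)
    exact le_trans (le_add_self) h2

end Normalized

end Groth.Agent.Lib.T2H4.NormAll
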