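import Groth.Agent.Lib.T2H4NormAll

set_option autoImplicit false
set_option linter.style.haveILetI false
set_option backward.isDefEq.respectTransparency.types false
universe u v
open CategoryTheory CategoryTheory.Limits
attribute [local instance] HasDerivedCategory.standard

namespace Groth.Agent.Lib.T2H4.NormAll

open DerivedCategory Pretriangulated Groth.Agent.Lib.T2H4.DimFun Groth.Agent.Lib.T2H4.LocKL
  Groth.Agent.Lib.T2H4.LocalDual Groth.Agent.Lib.Helper28 Groth.Agent.Lib.T2H4.DualShift

section SuppHD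

variable {A : Type u} [CommRing A] [IsNoetherianRing A] {ω : Dual.D A}
  (hω : Dual.IsDualizing A ω)

include hω in
/-- the support of `H^l(ω)` is the support of `Ext^l(A, ω)`. -/
lemma mem_support_HD_iff (p : PrimeSpectrum A) (l : ℤ) :
    p ∈ Module.support A (Dual.HD A ω l) ↔
      p ∈ Module.support A (Dual.inD A A ⟶ ω⟦l⟧) := by
  haveI := Groth.Agent.Lib.T2H4.LDerExist.hasLBaseChange
    (algebraMap A (Localization.AtPrime p.asIdeal))
  rw [← not_iff_not, ← van_iff_notMem_support, van_iff_subsingleton_loc ω hω p A l,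
    Module.notMem_support_iff]
  have h1 : Subsingleton (Dual.inD (Localization.AtPrime p.asIdeal)
        (LocalizedModule p.asIdeal.primeCompl A) ⟶
        ((DRing.LBaseChange (algebraMap A (Localization.AtPrime p.asIdeal))).obj ω)⟦l⟧) ↔
      Subsingleton (Dual.inD (Localization.AtPrime p.asIdeal) (Localization.AtPrime p.asIdeal) ⟶
        ((DRing.LBaseChange (algebraMap A (Localization.AtPrime p.asIdeal))).obj ω)⟦l⟧) :=
    ⟨fun h => subsingleton_hom_inD_of_equiv (localizedModuleSelfEquiv p.asIdeal).symm _ h,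
      fun h => subsingleton_hom_inD_of_equiv (localizedModuleSelfEquiv p.asIdeal) _ h⟩
  rw [h1, Groth.Agent.Lib.T2H4.HomRing.subsingleton_hom_inD_self_iff]
  obtain ⟨e⟩ := nonempty_HD_lbc_equiv p.asIdeal.primeCompl (Localization.AtPrime p.asIdeal) ω l
  exact ⟨fun h => @Equiv.subsingleton _ _ e h, fun h => @Equiv.subsingleton _ _ e.symm h⟩

include hω in
lemma support_HD_eq (l : ℤ) :
    Module.support A (Dual.HD A ω l) = Module.support A (Dual.inD A A ⟶ ω⟦l⟧) := by
  ext p
  exact mem_support_HD_iff hω p l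

end SuppHD

section Global

variable {A : Type u} [CommRing A] [IsNoetherianRing A] {ω : Dual.D A}
  (hω : Dual.IsDualizing A ω)
  (hnorm : ∀ (m : Ideal A) (_ : m.IsMaximal) (i : ℤ), i ≠ 0 →
    Subsingleton (Dual.inD A (A ⧸ m) ⟶ ω⟦i⟧))

omit [IsNoetherianRing A] in
lemma supportDim_localizedModule_self (p : PrimeSpectrum A) :
    Module.supportDim (Localization.AtPrime p.asIdeal) (LocalizedModule p.asIdeal.primeCompl A) =
      ((Order.height p : ℕ∞) : WithBot ℕ∞) := by
  rw [Module.supportDim_eq_of_equiv (localizedModuleSelfEquiv p.asIdeal),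
    supportDim_localization_self, PrimeSpectrum.height_eq_orderHeight]

omit [IsNoetherianRing A] in
lemma height_add_coheight_le (n : ℕ) (hd : ringKrullDim A = n) (p : PrimeSpectrum A) :
    Order.height p + Order.coheight p ≤ (n : ℕ∞) := by
  haveI : Nonempty (PrimeSpectrum A) := ⟨p⟩
  have h1 : Order.height p + Order.coheight p ≤
      ⨆ a : PrimeSpectrum A, Order.height a + Order.coheight a :=
    le_iSup (fun a : PrimeSpectrum A => Order.height a + Order.coheight a) p
  have h2 : ((⨆ a : PrimeSpectrum A, Order.height a + Order.coheight a : ℕ∞) : WithBot ℕ∞) =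
      ((n : ℕ∞) : WithBot ℕ∞) := by
    rw [← Order.krullDim_eq_iSup_height_add_coheight_of_nonempty]
    exact hd
  rw [WithBot.coe_inj] at h2
  rw [h2] at h1
  exact h1

include hω hnorm in
/-- the data at every prime for an equidimensional ring with a dualizing complex normalized at all
maximal ideals. -/
theorem global_data (hEq : EGA4.IsEquidim A) (n : ℕ) (hd : ringKrullDim A = n)
    (p : PrimeSpectrum A) :
    ∃ m e c : ℕ, LocCoh.depth (Localization.AtPrime p.asIdeal)
        (LocalizedModule p.asIdeal.primeCompl A) = m ∧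
      Module.supportDim (Localization.AtPrime p.asIdeal)
        (LocalizedModule p.asIdeal.primeCompl A) = e ∧ Order.coheight p = c ∧ m ≤ e ∧ e + c = n ∧
      (∀ l : ℤ, p ∈ Module.support A (Dual.HD A ω l) → -(n : ℤ) ≤ l ∧ l ≤ -(c : ℤ) - m) ∧
      p ∈ Module.support A (Dual.HD A ω (-(c : ℤ) - m)) := by
  have hntp : ∀ q : PrimeSpectrum A,
      ¬ Subsingleton (LocalizedModule q.asIdeal.primeCompl A) := by
    intro q hs
    have : Subsingleton (Localization.AtPrime q.asIdeal) :=
      (localizedModuleSelfEquiv q.asIdeal).symm.toEquiv.subsingleton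
    exact not_subsingleton _ this
  -- the bound `e + c ≤ n`
  have hle : ∀ (q : PrimeSpectrum A) (e c : ℕ),
      Module.supportDim (Localization.AtPrime q.asIdeal)
        (LocalizedModule q.asIdeal.primeCompl A) = e → Order.coheight q = c → e + c ≤ n := by
    intro q e c he hc
    rw [supportDim_localizedModule_self] at he
    have h1 : Order.height q = e := by exact_mod_cast he
    have h2 := height_add_coheight_le n hd q
    rw [h1, hc] at h2
    exact_mod_cast h2
  obtain ⟨c, hc, hidx⟩ := idx_eq_neg_coheight hω hnorm p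
  rcases local_data hω A p (-(c : ℤ)) (by rw [← hidx]; exact idx_spec ω hω p) with
    ⟨hs, -⟩ | ⟨m, e, hm, he, hme, hrange, htop, hbot⟩
  · exact absurd hs (hntp p)
  · have h1 := hle p e c he hc
    -- minimal prime below `p`
    haveI := p.2
    obtain ⟨q, hq, hqp⟩ := Ideal.exists_minimalPrimes_le (I := (⊥ : Ideal A)) (J := p.asIdeal)
      bot_le
    have hqdim : ringKrullDim (A ⧸ q) = n := (hEq q hq).trans hd
    have hcq : Order.coheight (⟨q, hq.1.1⟩ : PrimeSpectrum A) = n :=
      coheight_eq_of_ringKrullDim_quot ⟨q, hq.1.1⟩ n hqdim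
    obtain ⟨c', hc', hidx'⟩ := idx_eq_neg_coheight hω hnorm ⟨q, hq.1.1⟩
    have hc'n : c' = n := by
      rw [hcq] at hc'
      exact_mod_cast hc'.symm
    subst hc'n
    have hq2 : (⟨q, hq.1.1⟩ : PrimeSpectrum A) ∈
        Module.support A (Dual.inD A A ⟶ ω⟦-(c' : ℤ)⟧) := by
      rcases local_data hω A ⟨q, hq.1.1⟩ (-(c' : ℤ))
        (by rw [← hidx']; exact idx_spec ω hω _) with
        ⟨hs, -⟩ | ⟨m', e', hm', he', hme', hrange', htop', hbot'⟩
      · exact absurd hs (hntp _)
      · have h3 := hle ⟨q, hq.1.1⟩ e' c' he' hc'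
        have h4 : e' = 0 := by lia
        subst h4
        have h8 : -(c' : ℤ) - ((0 : ℕ) : ℤ) = -(c' : ℤ) := by simp
        rw [h8] at hbot'
        exact hbot'
    have hp2 : p ∈ Module.support A (Dual.inD A A ⟶ ω⟦-(c' : ℤ)⟧) :=
      Module.mem_support_mono (show (⟨q, hq.1.1⟩ : PrimeSpectrum A) ≤ p from hqp) hq2
    have h5 := (hrange _ hp2).1
    have h6 : e + c = c' := by lia
    refine ⟨m, e, c, hm, he, hc, hme, h6, fun l hl => ?_, ?_⟩
    · have h7 := hrange l ((mem_support_HD_iff hω p l).1 hl)
      constructor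
      · lia
      · exact h7.2
    · exact (mem_support_HD_iff hω p _).2 htop

end Global

end Groth.Agent.Lib.T2H4.NormAll
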