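import Groth.Agent.Lib.T2H4NormAll2

set_option autoImplicit false
set_option linter.style.haveILetI false
set_option backward.isDefEq.respectTransparency.types false
universe u v
open CategoryTheory CategoryTheory.Limits
attribute [local instance] HasDerivedCategory.standard

namespace Groth.Agent.Lib.T2H4.NormAll

open DerivedCategory Pretriangulated Groth.Agent.Lib.T2H4.DimFun Groth.Agent.Lib.T2H4.LocKL
  Groth.Agent.Lib.T2H4.LocalDual Groth.Agent.Lib.Helper28 Groth.Agent.Lib.T2H4.DualShift

section Main

variable {A : Type u} [CommRing A] [IsNoetherianRing A] {ω : Dual.D A}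
  (hω : Dual.IsDualizing A ω)
  (hnorm : ∀ (m : Ideal A) (_ : m.IsMaximal) (i : ℤ), i ≠ 0 →
    Subsingleton (Dual.inD A (A ⧸ m) ⟶ ω⟦i⟧))

include hω hnorm in
/-- **S18721** (without the finite type hypothesis). -/
theorem hasSk_iff_supportDim_cohomology (hEq : EGA4.IsEquidim A) (n : ℕ)
    (hd : ringKrullDim A = n) :
    (∀ i : ℕ, n < i → Subsingleton (Dual.HD A ω (-(i : ℤ)))) ∧
    ∀ k' : ℕ,
      (LocCoh.HasSk k' A A ↔
        ∀ i : ℕ, i ≠ n →
          (i < k' → Subsingleton (Dual.HD A ω (-(i : ℤ)))) ∧
          (k' ≤ i → Module.supportDim A (Dual.HD A ω (-(i : ℤ))) ≤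
            ((i - k' : ℕ) : WithBot ℕ∞))) := by
  constructor
  · intro i hi
    rw [← Module.support_eq_empty_iff (R := A)]
    apply Set.eq_empty_of_forall_notMem
    intro p hp
    obtain ⟨m, e, c, -, -, -, -, -, hrange, -⟩ := global_data hω hnorm hEq n hd p
    have := (hrange _ hp).1
    lia
  · intro k'
    constructor
    · intro hS i hi
      have claim : ∀ p ∈ Module.support A (Dual.HD A ω (-(i : ℤ))), ∀ c : ℕ,
          Order.coheight p = c → c + k' ≤ i := by
        intro p hp c0 hc0
        obtain ⟨m, e, c, hm, he, hc, hme, hsum, hrange, htop⟩ :=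
          global_data hω hnorm hEq n hd p
        have hcc : c0 = c := by
          rw [hc0] at hc
          exact_mod_cast hc
        subst hcc
        have hr := hrange _ hp
        have hme' : m < e := by lia
        have hSp := @hS p.asIdeal p.2
        rw [hm, he] at hSp
        have hkm : k' ≤ m := by
          by_contra hcon
          push Not at hcon
          have h3 : ((m : ℕ∞) : WithBot ℕ∞) < min (k' : WithBot ℕ∞) (e : WithBot ℕ∞) :=
            lt_min (by exact_mod_cast hcon) (by exact_mod_cast hme')
          exact absurd hSp (not_le.2 h3)
        lia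
      constructor
      · intro hlt
        rw [← Module.support_eq_empty_iff (R := A)]
        apply Set.eq_empty_of_forall_notMem
        intro p hp
        obtain ⟨m, e, c, -, -, hc, -, -, -, -⟩ := global_data hω hnorm hEq n hd p
        have := claim p hp c hc
        lia
      · intro hle
        apply supportDim_le_of_forall_coheight_le
        intro p hp
        obtain ⟨m, e, c, -, -, hc, -, -, -, -⟩ := global_data hω hnorm hEq n hd p
        have h1 := claim p hp c hc
        rw [hc]
        have h2 : c ≤ i - k' := by lia
        exact_mod_cast h2
    · intro h p hp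
      obtain ⟨m, e, c, hm, he, hc, hme, hsum, hrange, htop⟩ :=
        global_data hω hnorm hEq n hd ⟨p, hp⟩
      have hm' : LocCoh.depth (Localization.AtPrime p) (LocalizedModule p.primeCompl A) = m := hm
      have he' : Module.supportDim (Localization.AtPrime p) (LocalizedModule p.primeCompl A) = e :=
        he
      rw [hm', he']
      by_cases hlt : m < e
      · obtain ⟨h1, h2⟩ := h (c + m) (by lia)
        have hcm : -(c : ℤ) - m = -((c + m : ℕ) : ℤ) := by push_cast; ring
        rw [hcm] at htop
        have h5 : k' ≤ m := by
          by_contra hcon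
          push Not at hcon
          by_cases hik : c + m < k'
          · haveI := h1 hik
            rw [Module.support_eq_empty] at htop
            exact Set.notMem_empty _ htop
          · have h3 := (coheight_le_supportDim_of_mem _ _ htop).trans (h2 (by lia))
            rw [hc] at h3
            have h3' : ((c : ℕ∞) : WithBot ℕ∞) ≤ (((c + m - k' : ℕ) : ℕ∞) : WithBot ℕ∞) := h3
            have h4 : c ≤ c + m - k' := by
              have := WithBot.coe_le_coe.1 h3'
              exact_mod_cast this
            lia
        exact le_trans (min_le_left _ _) (by exact_mod_cast h5)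
      · have h6 : m = e := by lia
        subst h6
        exact le_trans (min_le_right _ _) (by exact_mod_cast le_rfl)

end Main

end Groth.Agent.Lib.T2H4.NormAll
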