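import Mathlib
import Groth.Prelude
import Groth.Agent.Lib.Helper14Japanese
import Groth.Agent.Lib.Helper28AUNormal
import Groth.Agent.Lib.Helper10RedInd

set_option autoImplicit false
universe u
open CategoryTheory AlgebraicGeometry TopologicalSpace

namespace Groth.Agent.Lib.T2H9.NagataSch

open Groth.Agent.Lib.Helper14 Groth.Agent.Lib.Helper28

/-- Being Nagata is an affine-local property of the ring of sections. -/
theorem isNagata_of_cover {Z : Scheme.{u}} {ι : Type*} (U : ι → Z.affineOpens)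
    (hU : (⨆ i, (U i : Z.Opens)) = ⊤) (h : ∀ i, CAlg.IsNagata Γ(Z, (U i : Z.Opens)))
    (V : Z.affineOpens) : CAlg.IsNagata Γ(Z, (V : Z.Opens)) := by
  refine of_affine_open_cover (P := fun W => CAlg.IsNagata Γ(Z, (W : Z.Opens))) U hU V ?_ ?_ h
  · intro W f hW
    have := W.2.isLocalization_basicOpen f
    change CAlg.IsNagata Γ(Z, Z.basicOpen f)
    exact isNagata_of_isLocalization Γ(Z, (W : Z.Opens)) (Submonoid.powers f) _ hW
  · intro W s hs hP
    have := fun f : s => W.2.isLocalization_basicOpen f.1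
    have hP' : ∀ f : s, CAlg.IsNagata Γ(Z, Z.basicOpen f.1) := hP
    exact isNagata_of_away_cover' Γ(Z, (W : Z.Opens)) (fun f : s => f.1) (by simpa using hs)
      (fun f => Γ(Z, Z.basicOpen f.1)) hP'

/-- Affine opens of a closed subscheme of a scheme with Nagata affine opens are Nagata. -/
theorem isNagata_of_isClosedImmersion {X Z : Scheme.{u}}
    (hX : ∀ U : X.Opens, IsAffineOpen U → CAlg.IsNagata Γ(X, U)) (i : Z ⟶ X) [IsClosedImmersion i]
    (V : Z.Opens) (hV : IsAffineOpen V) : CAlg.IsNagata Γ(Z, V) := by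
  refine isNagata_of_cover (ι := X.affineOpens)
    (fun W => ⟨i ⁻¹ᵁ (W : X.Opens), W.2.preimage i⟩) ?_ (fun W => ?_) ⟨V, hV⟩
  · ext z
    simp only [Opens.coe_iSup, Set.mem_iUnion, Opens.coe_top, Set.mem_univ, iff_true]
    obtain ⟨W, hW, hzW, -⟩ := exists_isAffineOpen_mem_and_subset (x := i z) (U := ⊤) trivial
    exact ⟨⟨W, hW⟩, hzW⟩
  · exact isNagata_of_surjective (i.app (W : X.Opens)).hom (i.app_surjective _ W.2) (hX _ W.2)

open Scheme.IdealSheafData in
/-- For a prime `p` of the coordinate ring of an affine open `U` of `X` there is an integral closed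
subscheme `Z` of `X` whose trace on `U` has coordinate ring `Γ(X, U) ⧸ p`. -/
theorem exists_integral_closed_subscheme {X : Scheme.{u}} (U : X.Opens) (hU : IsAffineOpen U)
    (p : Ideal Γ(X, U)) [hp : p.IsPrime] :
    ∃ (Z : Scheme.{u}) (i : Z ⟶ X) (_ : IsClosedImmersion i) (_ : IsIntegral Z)
      (_ : Nonempty (i ⁻¹ᵁ U)), Nonempty ((Γ(X, U) ⧸ p) ≃+* Γ(Z, i ⁻¹ᵁ U)) := by
  set x : X := hU.fromSpec ⟨p, hp⟩ with hx
  let T : Closeds X := ⟨closure {x}, isClosed_closure⟩
  have hred : IsReduced (vanishingIdeal T).subscheme :=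
    Groth.Agent.Lib.Helper10.RedInd.isReduced_subscheme_vanishingIdeal T
  have hsupp : ((vanishingIdeal T).support : Set X) = closure {x} := coe_support_vanishingIdeal T
  have hirr : IsIrreducible ((vanishingIdeal T).support : Set X) := by
    rw [hsupp]
    exact isIrreducible_singleton.closure
  have hirrS : IrreducibleSpace (vanishingIdeal T).subscheme := Subtype.irreducibleSpace hirr
  have hint : IsIntegral (vanishingIdeal T).subscheme := isIntegral_of_irreducibleSpace_of_isReduced _
  have hxmem : x ∈ Set.range (vanishingIdeal T).subschemeι := by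
    rw [range_subschemeι, hsupp]
    exact subset_closure rfl
  obtain ⟨z, hz⟩ := hxmem
  have hxU : x ∈ U := by
    have : x ∈ Set.range hU.fromSpec := ⟨_, rfl⟩
    rw [hU.range_fromSpec] at this
    exact this
  have hne : Nonempty ((vanishingIdeal T).subschemeι ⁻¹ᵁ U) := ⟨⟨z, by
    change (vanishingIdeal T).subschemeι z ∈ U
    rw [hz]
    exact hxU⟩⟩
  have hideal : (vanishingIdeal T).ideal ⟨U, hU⟩ = p := by
    change PrimeSpectrum.vanishingIdeal (hU.fromSpec ⁻¹' (closure {x})) = p
    have hpre : (hU.fromSpec ⁻¹' (closure {x}) : Set (PrimeSpectrum Γ(X, U))) =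
        PrimeSpectrum.zeroLocus (p : Set Γ(X, U)) := by
      have h1 := hU.fromSpec.isOpenEmbedding.isInducing.closure_eq_preimage_closure_image
        ({(⟨p, hp⟩ : PrimeSpectrum Γ(X, U))} : Set (PrimeSpectrum Γ(X, U)))
      have h3 : (hU.fromSpec '' ({(⟨p, hp⟩ : PrimeSpectrum Γ(X, U))} :
          Set (PrimeSpectrum Γ(X, U)))) = {x} := Set.image_singleton
      have h2 : closure ({(⟨p, hp⟩ : PrimeSpectrum Γ(X, U))} : Set (PrimeSpectrum Γ(X, U))) =
          PrimeSpectrum.zeroLocus (p : Set Γ(X, U)) := PrimeSpectrum.closure_singleton _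
      exact ((congrArg (fun S : Set X => hU.fromSpec ⁻¹' closure S) h3).symm.trans h1.symm).trans h2
    calc PrimeSpectrum.vanishingIdeal (hU.fromSpec ⁻¹' (closure {x}))
        = PrimeSpectrum.vanishingIdeal (PrimeSpectrum.zeroLocus (p : Set Γ(X, U))) :=
          congrArg PrimeSpectrum.vanishingIdeal hpre
      _ = p.radical := PrimeSpectrum.vanishingIdeal_zeroLocus_eq_radical _
      _ = p := hp.radical
  have hsurj : Function.Surjective ((vanishingIdeal T).subschemeι.app U).hom :=
    (vanishingIdeal T).subschemeι.app_surjective U hU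
  have hker : RingHom.ker ((vanishingIdeal T).subschemeι.app U).hom = p :=
    (ker_subschemeι_app (vanishingIdeal T) ⟨U, hU⟩).trans hideal
  refine ⟨_, (vanishingIdeal T).subschemeι, inferInstance, hint, hne, ⟨?_⟩⟩
  exact (Ideal.quotEquivOfEq hker.symm).trans (RingHom.quotientKerEquivOfSurjective hsurj)

theorem main (X : Scheme.{u}) [IsLocallyNoetherian X] :
    (∀ U : X.Opens, IsAffineOpen U → CAlg.IsNagata Γ(X, U)) ↔
      ∀ (Z : Scheme.{u}) (i : Z ⟶ X) [IsClosedImmersion i] [IsIntegral Z]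
        (V : Z.Opens) [Nonempty V], IsAffineOpen V → CAlg.IsN2 Γ(Z, V) := by
  constructor
  · intro hX Z i _ _ V _ hV
    exact isN2_of_isNagata_of_isDomain _ (isNagata_of_isClosedImmersion hX i V hV)
  · intro H U hU
    refine ⟨IsLocallyNoetherian.component_noetherian ⟨U, hU⟩, fun p hp => ?_⟩
    obtain ⟨Z, i, hi, hZ, hne, ⟨e⟩⟩ := exists_integral_closed_subscheme U hU p
    have h2 := H Z i (i ⁻¹ᵁ U) (hU.preimage i)
    exact isN2_of_ringEquiv e.symm h2

end Groth.Agent.Lib.T2H9.NagataSch
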