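import Groth.Agent.Lib.T2H6BlowUpProper
import Groth.Agent.Lib.Helper7NagM
import Groth.Agent.Lib.T2H9NagataSch
import Groth.Agent.Lib.Helper4NormCurve
import Groth.Prelude.Def_Curv2

/-!
# Normalized blowing up of a Nagata scheme at a closed point (helper4)

* `isNagata_of_locallyOfFiniteType`: affine opens of a scheme locally of finite type over a scheme
  with Nagata affine opens are Nagata.
* `main`: the normalized blowing up of an integral locally Noetherian Nagata scheme at a closed point
  is normal, Nagata and proper over the scheme.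
-/

set_option autoImplicit false
set_option linter.style.haveILetI false
set_option linter.unusedSectionVars false
universe u

open CategoryTheory AlgebraicGeometry TopologicalSpace Opposite
open Groth CAlg

namespace Groth.Agent.Lib.T2H4.NormBlowNagata

/-- Affine opens of a scheme locally of finite type over a scheme with Nagata affine opens are
Nagata. -/
theorem isNagata_of_locallyOfFiniteType {Z X : Scheme.{u}} (f : Z ⟶ X) [LocallyOfFiniteType f]
    (hX : ∀ U : X.affineOpens, CAlg.IsNagata Γ(X, U.1)) (V : Z.affineOpens) :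
    CAlg.IsNagata Γ(Z, (V : Z.Opens)) := by
  let ι := {p : X.affineOpens × Z.affineOpens // (p.2 : Z.Opens) ≤ f ⁻¹ᵁ (p.1 : X.Opens)}
  refine Groth.Agent.Lib.T2H9.NagataSch.isNagata_of_cover (ι := ι) (fun p => p.1.2) ?_
    (fun p => ?_) V
  · rw [eq_top_iff]
    intro z _
    obtain ⟨U, hU, hzU, -⟩ := exists_isAffineOpen_mem_and_subset (x := f z) (U := ⊤) trivial
    obtain ⟨W, hW, hzW, hWle⟩ := exists_isAffineOpen_mem_and_subset (x := z) (U := f ⁻¹ᵁ U) hzU
    exact Opens.mem_iSup.mpr ⟨⟨(⟨U, hU⟩, ⟨W, hW⟩), hWle⟩, hzW⟩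
  · obtain ⟨⟨U, W⟩, hle⟩ := p
    have hft : (f.appLE U.1 W.1 hle).hom.FiniteType :=
      HasRingHomProperty.appLE (P := @LocallyOfFiniteType) f inferInstance U W hle
    letI := (f.appLE U.1 W.1 hle).hom.toAlgebra
    haveI : Algebra.FiniteType Γ(X, U.1) Γ(Z, W.1) := hft
    exact Groth.Agent.Lib.Helper7.NagM.isNagata_of_finiteType Γ(X, U.1) (hX U) Γ(Z, W.1)

theorem main (X : Scheme.{u}) [IsIntegral X] [IsLocallyNoetherian X]
    (hN : ∀ U : X.affineOpens, CAlg.IsNagata Γ(X, U.1)) (x : X) (hx : IsClosed ({x} : Set X))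
    (X' : Scheme.{u}) (b : X' ⟶ X)
    (hb : BlowUp.IsBlowUp b (Scheme.IdealSheafData.vanishingIdeal ⟨{x}, hx⟩)) [IsIntegral X']
    [QuasiCompact (X'.fromSpecStalk (genericPoint X'))]
    [QuasiSeparated (X'.fromSpecStalk (genericPoint X'))] :
    Pi1.IsNormalScheme (Curv2.normalization X') ∧
      (∀ U : (Curv2.normalization X').affineOpens,
        CAlg.IsNagata Γ(Curv2.normalization X', U.1)) ∧
      IsProper (Curv2.normalizationι X' ≫ b) := by
  have hFT : BlowUp.IsFiniteTypeIdeal (Scheme.IdealSheafData.vanishingIdeal ⟨{x}, hx⟩) := by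
    intro U
    haveI : IsNoetherianRing Γ(X, U.1) := IsLocallyNoetherian.component_noetherian U
    exact IsNoetherian.noetherian _
  haveI hbp : IsProper b :=
    Groth.Agent.Lib.T2H6.BlowUpProper.isProper_of_isBlowUp b _ hFT hb
  have hN' : ∀ U : X'.affineOpens, CAlg.IsNagata Γ(X', U.1) :=
    isNagata_of_locallyOfFiniteType b hN
  have hg : X'.fromSpecStalk (genericPoint X') =
      Groth.Agent.Lib.Helper4.NormCurve.gen X' X'.functionField (RingHom.id _) :=
    Groth.Agent.Lib.Helper4.NormCurve.fromSpecStalk_eq_gen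
  have hN2 : ∀ (U : X'.Opens), IsAffineOpen U → ∀ (hne : Nonempty ↥U),
      @IsN2 Γ(X', U) _ (@IsIntegral.component_integral X' _ U hne) := by
    intro U hU hne
    haveI := @IsIntegral.component_integral X' _ U hne
    exact Groth.Agent.Lib.Helper28.isN2_of_isNagata_of_isDomain _ (hN' ⟨U, hU⟩)
  haveI hfin : IsFinite (X'.fromSpecStalk (genericPoint X')).fromNormalization :=
    Groth.Agent.Lib.Helper4.NormCurve.isFinite_fromNormalization_of_eq X'.functionField
      (RingHom.id _) _ hg (RingHom.Finite.id _) hN2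
  have hnorm : Pi1.IsNormalScheme (X'.fromSpecStalk (genericPoint X')).normalization :=
    Groth.Agent.Lib.Helper4.NormCurve.isNormalScheme_normalization_of_eq X'.functionField
      (RingHom.id _) _ hg
  refine ⟨hnorm, ?_, ?_⟩
  · haveI hlft : LocallyOfFiniteType (X'.fromSpecStalk (genericPoint X')).fromNormalization :=
      ((IsFinite.iff_isIntegralHom_and_locallyOfFiniteType _).mp hfin).2
    have hN'' : ∀ U : ((X'.fromSpecStalk (genericPoint X')).normalization).affineOpens,
        CAlg.IsNagata Γ((X'.fromSpecStalk (genericPoint X')).normalization, U.1) :=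
      isNagata_of_locallyOfFiniteType
        (X'.fromSpecStalk (genericPoint X')).fromNormalization hN'
    exact hN''
  · show IsProper ((X'.fromSpecStalk (genericPoint X')).fromNormalization ≫ b)
    infer_instance

end Groth.Agent.Lib.T2H4.NormBlowNagata
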