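import Mathlib

/-!
# A one-dimensional Noetherian local ring integrally closed in an overring where a parameter is a unit
is a DVR (helper4)

Ring-level core of S9676 (Stacks 0AXP).
-/

set_option autoImplicit false
set_option linter.style.haveILetI false
set_option linter.unusedSectionVars false

universe u

namespace Groth.Agent.Lib.T2H4.NormDVR

section integral

variable {R C : Type u} [CommRing R] [CommRing C] [Algebra R C]

/-- an element stabilizing (up to the unit `a`) a finitely generated ideal is integral. -/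
theorem isIntegral_of_mul_mem [IsNoetherianRing R] (N : Ideal R) (u ξ : C) (a : R) (haN : a ∈ N)
    (hu : algebraMap R C a * u = 1)
    (hξ : ∀ y ∈ N, ∃ r ∈ N, ξ * algebraMap R C y = algebraMap R C r) : IsIntegral R ξ := by
  let μ : R →ₗ[R] C := (LinearMap.mulRight R u).comp (Algebra.linearMap R C)
  have hμ : ∀ r, μ r = algebraMap R C r * u := fun r => rfl
  let T : Submodule R C := Submodule.map μ N
  have hpow : ∀ k : ℕ, ∀ y ∈ N, ∃ r ∈ N, ξ ^ k * algebraMap R C y = algebraMap R C r := by
    intro k
    induction k with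
    | zero => intro y hy; exact ⟨y, hy, by simp⟩
    | succ k ih =>
      intro y hy
      obtain ⟨r, hr, h1⟩ := hξ y hy
      obtain ⟨r', hr', h2⟩ := ih r hr
      exact ⟨r', hr', by rw [pow_succ, mul_assoc, h1, h2]⟩
  have hT : ∀ k : ℕ, ξ ^ k ∈ T := by
    intro k
    obtain ⟨r, hr, h1⟩ := hpow k a haN
    refine ⟨r, hr, ?_⟩
    rw [hμ, ← h1, mul_assoc, hu, mul_one]
  have hle : Subalgebra.toSubmodule (Algebra.adjoin R {ξ}) ≤ T := by
    rw [Algebra.adjoin_eq_span]
    refine Submodule.span_le.mpr ?_
    intro z hz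
    obtain ⟨k, rfl⟩ := Submonoid.mem_closure_singleton.mp hz
    exact hT k
  have hTfg : T.FG := (IsNoetherian.noetherian N).map μ
  haveI : IsNoetherian R T := isNoetherian_of_fg_of_noetherian T hTfg
  have hfg : (Subalgebra.toSubmodule (Algebra.adjoin R {ξ})).FG :=
    isNoetherian_submodule.mp inferInstance _ hle
  exact IsIntegral.of_mem_of_fg _ hfg ξ (Algebra.subset_adjoin rfl)

end integral

section L

variable {R C : Type u} [CommRing R] [CommRing C] [Algebra R C]

/-- **Key lemma**: a Noetherian local ring of dimension one, integrally closed in an overring `C` in which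
some element `a` of the maximal ideal lying in no minimal prime becomes invertible, is a discrete valuation
ring. -/
theorem isDVR_of_integrallyClosedIn [IsNoetherianRing R] [IsLocalRing R]
    (hinj : Function.Injective (algebraMap R C))
    (hic : ∀ c : C, IsIntegral R c → c ∈ (algebraMap R C).range)
    (hdim : ringKrullDim R = 1)
    (a : R) (ha : a ∈ IsLocalRing.maximalIdeal R) (hamin : ∀ q ∈ minimalPrimes R, a ∉ q)
    (hau : IsUnit (algebraMap R C a)) :
    ∃ _ : IsDomain R, IsDiscreteValuationRing R := by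
  classical
  set m := IsLocalRing.maximalIdeal R with hm
  -- primes containing `a`
  have hprime : ∀ P : Ideal R, P.IsPrime → a ∈ P → P = m := by
    intro P hP haP
    by_contra hne
    have hlt : P < m := lt_of_le_of_ne (IsLocalRing.le_maximalIdeal hP.ne_top) hne
    have hmh : m.height = 1 := by
      have h1 : (m.height : WithBot ℕ∞) = ringKrullDim R :=
        IsLocalRing.maximalIdeal_height_eq_ringKrullDim
      rw [hdim] at h1
      exact_mod_cast h1
    haveI : m.FiniteHeight := by
      rw [Ideal.finiteHeight_iff]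
      right
      rw [hmh]
      exact ENat.one_ne_top
    have h2 : P.height < m.height := Ideal.height_strict_mono_of_isPrime_of_isPrime hlt
    rw [hmh] at h2
    have h3 : P.height = 0 := Order.lt_one_iff.mp h2
    exact hamin P (Ideal.height_eq_zero_iff.mp h3) haP
  have hrad : (Ideal.span {a}).radical = m := by
    rw [Ideal.radical_eq_sInf]
    apply le_antisymm
    · exact sInf_le ⟨(Ideal.span_singleton_le_iff_mem _).mpr ha, inferInstance⟩
    · refine le_sInf ?_
      rintro P ⟨hP1, hP2⟩
      rw [hprime P hP2 ((Ideal.span_singleton_le_iff_mem _).mp hP1)]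
  obtain ⟨n₀, hn₀⟩ : ∃ n : ℕ, m ^ n ≤ Ideal.span {a} :=
    Ideal.exists_pow_le_of_le_radical_of_fg hrad.ge (IsNoetherian.noetherian m)
  let n := Nat.find (⟨n₀, hn₀⟩ : ∃ n : ℕ, m ^ n ≤ Ideal.span {a})
  have hn : m ^ n ≤ Ideal.span {a} := Nat.find_spec (⟨n₀, hn₀⟩ : ∃ n : ℕ, m ^ n ≤ Ideal.span {a})
  have hanu : ¬ IsUnit a := fun h => (IsLocalRing.mem_maximalIdeal a).mp ha h
  have hn0 : n ≠ 0 := by
    intro h0
    rw [h0, pow_zero, Ideal.one_eq_top] at hn
    have : (1 : R) ∈ Ideal.span {a} := hn Submodule.mem_top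
    obtain ⟨c, hc⟩ := Ideal.mem_span_singleton'.mp this
    exact hanu (IsUnit.of_mul_eq_one c (by rw [mul_comm]; exact hc))
  obtain ⟨k, hk⟩ := Nat.exists_eq_succ_of_ne_zero hn0
  have hk' : ¬ m ^ k ≤ Ideal.span {a} := by
    intro h
    have := Nat.find_min' (⟨n₀, hn₀⟩ : ∃ n : ℕ, m ^ n ≤ Ideal.span {a}) h
    change n ≤ k at this
    omega
  obtain ⟨b, hbk, hba⟩ := Set.not_subset.mp hk'
  obtain ⟨u, hu⟩ := hau.exists_right_inv
  set ξ : C := algebraMap R C b * u with hξ
  -- `ξ m ⊆ R`
  have hmul : ∀ y ∈ m, ∃ r : R, ξ * algebraMap R C y = algebraMap R C r := by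
    intro y hy
    have hby : b * y ∈ m ^ n := by
      rw [hk, pow_succ]
      exact Ideal.mul_mem_mul hbk hy
    obtain ⟨r, hr⟩ := Ideal.mem_span_singleton'.mp (hn hby)
    refine ⟨r, ?_⟩
    rw [hξ]
    calc algebraMap R C b * u * algebraMap R C y = algebraMap R C (b * y) * u := by
          rw [map_mul]; ring
      _ = algebraMap R C r * (algebraMap R C a * u) := by rw [← hr, map_mul]; ring
      _ = algebraMap R C r := by rw [hu, mul_one]
  -- not all of these land in `m`
  have hexists : ∃ y ∈ m, ∃ r : R, r ∉ m ∧ ξ * algebraMap R C y = algebraMap R C r := by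
    by_contra hcon
    push Not at hcon
    have hstab : ∀ y ∈ m, ∃ r ∈ m, ξ * algebraMap R C y = algebraMap R C r := by
      intro y hy
      obtain ⟨r, hr⟩ := hmul y hy
      refine ⟨r, ?_, hr⟩
      by_contra hrm
      exact hcon y hy r hrm hr
    have hint : IsIntegral R ξ := isIntegral_of_mul_mem m u ξ a ha hu hstab
    obtain ⟨r₀, hr₀⟩ := hic ξ hint
    apply hba
    have : algebraMap R C b = algebraMap R C (r₀ * a) := by
      rw [map_mul]
      change algebraMap R C r₀ = ξ at hr₀
      rw [hr₀, hξ, mul_assoc, mul_comm u, hu, mul_one]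
    rw [hinj this]
    exact Ideal.mem_span_singleton'.mpr ⟨r₀, rfl⟩
  obtain ⟨y, hy, r, hr, hyr⟩ := hexists
  have hru : IsUnit r := by
    by_contra h
    exact hr ((IsLocalRing.mem_maximalIdeal r).mpr h)
  -- `b` and `y` are units in `C`
  have hCu : IsUnit (algebraMap R C b * algebraMap R C y) := by
    have h1 : algebraMap R C b * algebraMap R C y * u = algebraMap R C r := by
      rw [← hyr, hξ]; ring
    have h2 : IsUnit (algebraMap R C r) := hru.map _
    have h3 : IsUnit (algebraMap R C b * algebraMap R C y * u) := h1 ▸ h2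
    exact (IsUnit.mul_iff.mp h3).1
  have hbu : IsUnit (algebraMap R C b) := (IsUnit.mul_iff.mp hCu).1
  have hyu : IsUnit (algebraMap R C y) := (IsUnit.mul_iff.mp hCu).2
  have huu : IsUnit u := IsUnit.of_mul_eq_one (algebraMap R C a) (by rw [mul_comm]; exact hu)
  have hξu : IsUnit ξ := hbu.mul huu
  -- `m = (y)`
  have hmy : m = Ideal.span {y} := by
    apply le_antisymm
    · intro z hz
      obtain ⟨rz, hrz⟩ := hmul z hz
      obtain ⟨ri, hri⟩ := hru.exists_left_inv
      refine Ideal.mem_span_singleton'.mpr ⟨ri * rz, ?_⟩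
      apply hinj
      apply hξu.mul_left_cancel
      rw [hrz, map_mul, mul_comm (algebraMap R C (ri * rz)), ← mul_assoc, hyr, ← map_mul]
      congr 1
      calc r * (ri * rz) = (ri * r) * rz := by ring
        _ = rz := by rw [hri, one_mul]
    · exact (Ideal.span_singleton_le_iff_mem _).mpr hy
  -- `y` is a nonzerodivisor
  have hyreg : ∀ k : ℕ, ∀ w : R, y ^ k * w = 0 → w = 0 := by
    intro k w hw
    apply hinj
    rw [map_zero]
    have h1 : algebraMap R C (y ^ k) * algebraMap R C w = 0 := by rw [← map_mul, hw, map_zero]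
    have h2 : IsUnit (algebraMap R C (y ^ k)) := by rw [map_pow]; exact hyu.pow k
    exact (h2.mul_right_eq_zero).mp h1
  have hmpow : ∀ k : ℕ, m ^ k = Ideal.span {y ^ k} := by
    intro k
    rw [hmy, Ideal.span_singleton_pow]
  have hmne : m ≠ ⊤ := Ideal.IsPrime.ne_top inferInstance
  have hinf : ⨅ i : ℕ, m ^ i = ⊥ := Ideal.iInf_pow_eq_bot_of_isLocalRing m hmne
  -- every nonzero element is a unit times a power of `y`
  have hfactor : ∀ x : R, x ≠ 0 → ∃ (k : ℕ) (v : R), IsUnit v ∧ x = y ^ k * v := by
    intro x hx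
    have hex : ∃ k : ℕ, x ∉ m ^ k := by
      by_contra hcon
      push Not at hcon
      apply hx
      have : x ∈ ⨅ i : ℕ, m ^ i := (Ideal.mem_iInf).mpr hcon
      rw [hinf] at this
      exact this
    let k := Nat.find hex
    have hkx : x ∉ m ^ k := Nat.find_spec hex
    have hk0 : k ≠ 0 := by
      intro h0
      rw [h0, pow_zero, Ideal.one_eq_top] at hkx
      exact hkx Submodule.mem_top
    obtain ⟨j, hj⟩ := Nat.exists_eq_succ_of_ne_zero hk0
    have hjx : x ∈ m ^ j := by
      by_contra h
      have := Nat.find_min' hex h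
      change k ≤ j at this
      omega
    rw [hmpow j] at hjx
    obtain ⟨v, hv⟩ := Ideal.mem_span_singleton'.mp hjx
    refine ⟨j, v, ?_, by rw [← hv, mul_comm]⟩
    by_contra hvu
    have hvm : v ∈ m := (IsLocalRing.mem_maximalIdeal v).mpr hvu
    rw [hmy] at hvm
    obtain ⟨w, hw⟩ := Ideal.mem_span_singleton'.mp hvm
    apply hkx
    rw [hj, hmpow (j + 1)]
    refine Ideal.mem_span_singleton'.mpr ⟨w, ?_⟩
    rw [← hv, ← hw, pow_succ]
    ring
  haveI hnt : Nontrivial R := inferInstance
  have hdom : IsDomain R := by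
    refine { toNontrivial := hnt, toIsCancelMulZero := ?_ }
    haveI : NoZeroDivisors R := by
      refine ⟨fun {x z} hxz => ?_⟩
      by_contra hcon
      push Not at hcon
      obtain ⟨k, v, hv, rfl⟩ := hfactor x hcon.1
      obtain ⟨l, w, hw, rfl⟩ := hfactor z hcon.2
      have h1 : y ^ (k + l) * (v * w) = 0 := by
        rw [← hxz, pow_add]; ring
      have h2 := hyreg (k + l) (v * w) h1
      exact (hv.mul hw).ne_zero h2
    exact NoZeroDivisors.to_isCancelMulZero R
  refine ⟨hdom, ?_⟩
  have hnf : ¬ IsField R := by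
    intro hf
    letI := hf.toField
    have h1 : ringKrullDim R = 0 := ringKrullDim_eq_zero_of_field R
    rw [hdim] at h1
    exact one_ne_zero h1
  have hpr : (IsLocalRing.maximalIdeal R).IsPrincipal := ⟨⟨y, by rw [← hm, hmy]⟩⟩
  exact ((IsDiscreteValuationRing.TFAE R hnf).out 0 4).mpr hpr

end L

section G

variable {R₀ B : Type u} [CommRing R₀] [CommRing B] [Algebra R₀ B]

/-- integral closedness localizes. -/
theorem mem_range_of_isIntegral_localization
    (hic : ∀ b : B, IsIntegral R₀ b → b ∈ (algebraMap R₀ B).range) (M : Submonoid R₀)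
    (c : Localization (Algebra.algebraMapSubmonoid B M))
    (hc : IsIntegral (Localization M) c) :
    c ∈ (algebraMap (Localization M) (Localization (Algebra.algebraMapSubmonoid B M))).range := by
  obtain ⟨⟨β, s⟩, hβ⟩ := IsLocalization.surj (Algebra.algebraMapSubmonoid B M) c
  obtain ⟨s₀, hs₀, hs₀'⟩ := s.2
  dsimp only at hβ
  obtain ⟨⟨m₁, hm₁⟩, hint₁⟩ := IsIntegral.exists_multiple_integral_of_isLocalization M c hc
  rw [Submonoid.smul_def] at hint₁
  change IsIntegral R₀ (m₁ • c) at hint₁
  -- `(m₁ s₀) • c` is the image of `m₁ • β`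
  have h1 : algebraMap B (Localization (Algebra.algebraMapSubmonoid B M)) (m₁ • β) = (m₁ * s₀) • c := by
    rw [Algebra.smul_def, map_mul, ← hβ, ← hs₀', Algebra.smul_def, map_mul]
    rw [← IsScalarTower.algebraMap_apply R₀ B (Localization (Algebra.algebraMapSubmonoid B M)),
      ← IsScalarTower.algebraMap_apply R₀ B (Localization (Algebra.algebraMapSubmonoid B M))]
    ring
  have h2 : IsIntegral R₀ (algebraMap B (Localization (Algebra.algebraMapSubmonoid B M)) (m₁ • β)) := by
    rw [h1, mul_comm, mul_smul]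
    exact IsIntegral.smul s₀ hint₁
  obtain ⟨m₂, hm₂, hint₂⟩ :=
    IsLocalization.exists_isIntegral_smul_of_isIntegral_map (Sₘ := Localization (Algebra.algebraMapSubmonoid B M)) M h2
  obtain ⟨r, hr⟩ := hic _ hint₂
  change algebraMap R₀ B r = m₂ • m₁ • β at hr
  have hden : m₂ * m₁ * s₀ ∈ M := mul_mem (mul_mem hm₂ hm₁) hs₀
  refine ⟨IsLocalization.mk' (Localization M) r ⟨m₂ * m₁ * s₀, hden⟩, ?_⟩
  have hunit : IsUnit (algebraMap R₀ (Localization (Algebra.algebraMapSubmonoid B M)) (m₂ * m₁ * s₀)) := by
    rw [IsScalarTower.algebraMap_apply R₀ (Localization M) (Localization (Algebra.algebraMapSubmonoid B M))]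
    exact (IsLocalization.map_units (Localization M) ⟨m₂ * m₁ * s₀, hden⟩).map _
  apply hunit.mul_left_cancel
  have e1 : algebraMap R₀ (Localization (Algebra.algebraMapSubmonoid B M)) (m₂ * m₁ * s₀) *
      algebraMap (Localization M) (Localization (Algebra.algebraMapSubmonoid B M))
        (IsLocalization.mk' (Localization M) r ⟨m₂ * m₁ * s₀, hden⟩) =
      algebraMap R₀ (Localization (Algebra.algebraMapSubmonoid B M)) r := by
    rw [IsScalarTower.algebraMap_apply R₀ (Localization M)
      (Localization (Algebra.algebraMapSubmonoid B M)), ← map_mul, mul_comm,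
      IsLocalization.mk'_spec (Localization M) r ⟨m₂ * m₁ * s₀, hden⟩,
      ← IsScalarTower.algebraMap_apply]
  rw [e1, IsScalarTower.algebraMap_apply R₀ B (Localization (Algebra.algebraMapSubmonoid B M)) r, hr,
    Algebra.smul_def, Algebra.smul_def, map_mul, map_mul, ← hβ, ← hs₀',
    ← IsScalarTower.algebraMap_apply R₀ B (Localization (Algebra.algebraMapSubmonoid B M)),
    ← IsScalarTower.algebraMap_apply R₀ B (Localization (Algebra.algebraMapSubmonoid B M)),
    ← IsScalarTower.algebraMap_apply R₀ B (Localization (Algebra.algebraMapSubmonoid B M)),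
    map_mul, map_mul]
  ring

end G

section Gmain

variable {R₀ B : Type u} [CommRing R₀] [CommRing B] [Algebra R₀ B]

/-- prime avoidance: a non-minimal prime of a Noetherian ring contains an element lying in no minimal
prime. -/
theorem exists_mem_notMem_minimalPrimes [IsNoetherianRing R₀] (p : Ideal R₀) [p.IsPrime]
    (hp : p ∉ minimalPrimes R₀) : ∃ a ∈ p, ∀ q ∈ minimalPrimes R₀, a ∉ q := by
  classical
  have hfin : (minimalPrimes R₀).Finite := minimalPrimes.finite_of_isNoetherianRing R₀
  by_contra hcon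
  push Not at hcon
  have hsub : (p : Set R₀) ⊆ ⋃ i ∈ (↑hfin.toFinset : Set (Ideal R₀)), (id i : Ideal R₀) := by
    intro a ha
    obtain ⟨q, hq, haq⟩ := hcon a ha
    exact Set.mem_iUnion₂.mpr ⟨q, by simpa using hq, haq⟩
  obtain ⟨q, hq, hpq⟩ := (Ideal.subset_union_prime (f := fun i : Ideal R₀ => i) p p
    (fun i hi _ _ => Ideal.IsMinimalPrime.isPrime (by simpa using hi))).mp hsub
  have hq' : q ∈ minimalPrimes R₀ := by simpa using hq
  have hqp : q ≤ p := hq'.2 ⟨inferInstance, bot_le⟩ hpq
  have : p = q := le_antisymm hpq hqp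
  exact hp (this ▸ hq')

/-- **Global form**: localization at a height one prime `p` of a Noetherian ring `R₀` integrally closed in a
faithful overring `B`, such that elements of `p` outside all minimal primes become invertible in `B` after
inverting an element outside `p`, is a discrete valuation ring. -/
theorem isDVR_atPrime_of_integrallyClosedIn [IsNoetherianRing R₀]
    (hinj : Function.Injective (algebraMap R₀ B))
    (hic : ∀ b : B, IsIntegral R₀ b → b ∈ (algebraMap R₀ B).range)
    (p : Ideal R₀) [p.IsPrime] (hht : p.height = 1)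
    (hunit : ∀ a ∈ p, (∀ q ∈ minimalPrimes R₀, a ∉ q) →
      ∃ t ∉ p, ∃ c : B, algebraMap R₀ B a * c = algebraMap R₀ B t) :
    ∃ _ : IsDomain (Localization.AtPrime p), IsDiscreteValuationRing (Localization.AtPrime p) := by
  have hpmin : p ∉ minimalPrimes R₀ := by
    intro h
    rw [← Ideal.height_eq_zero_iff, hht] at h
    exact one_ne_zero h
  obtain ⟨a, hap, hamin⟩ := exists_mem_notMem_minimalPrimes p hpmin
  obtain ⟨t, htp, c, hc⟩ := hunit a hap hamin
  haveI : IsNoetherianRing (Localization.AtPrime p) :=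
    IsLocalization.isNoetherianRing p.primeCompl _ inferInstance
  refine isDVR_of_integrallyClosedIn
    (C := Localization (Algebra.algebraMapSubmonoid B p.primeCompl))
    (localizationAlgebra_injective (Localization.AtPrime p)
      (Localization (Algebra.algebraMapSubmonoid B p.primeCompl)) hinj)
    (fun c hc => mem_range_of_isIntegral_localization hic p.primeCompl c hc) ?_
    (algebraMap R₀ (Localization.AtPrime p) a) ?_ ?_ ?_
  · rw [IsLocalization.AtPrime.ringKrullDim_eq_height p (Localization.AtPrime p), hht]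
    rfl
  · exact (IsLocalization.AtPrime.to_map_mem_maximal_iff (Localization.AtPrime p) p a).mpr hap
  · intro Q hQ haQ
    have h1 := IsLocalization.minimalPrimes_map p.primeCompl (Localization.AtPrime p) (⊥ : Ideal R₀)
    rw [Ideal.map_bot] at h1
    have h2 : Q ∈ (⊥ : Ideal (Localization.AtPrime p)).minimalPrimes := hQ
    rw [h1] at h2
    exact hamin _ h2 haQ
  · rw [← IsScalarTower.algebraMap_apply R₀ (Localization.AtPrime p)
      (Localization (Algebra.algebraMapSubmonoid B p.primeCompl)),
      IsScalarTower.algebraMap_apply R₀ B (Localization (Algebra.algebraMapSubmonoid B p.primeCompl))]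
    have h3 : IsUnit (algebraMap B (Localization (Algebra.algebraMapSubmonoid B p.primeCompl))
        (algebraMap R₀ B t)) :=
      IsLocalization.map_units _
        (⟨algebraMap R₀ B t, ⟨t, htp, rfl⟩⟩ : Algebra.algebraMapSubmonoid B p.primeCompl)
    rw [← hc, map_mul] at h3
    exact (IsUnit.mul_iff.mp h3).1

end Gmain

end Groth.Agent.Lib.T2H4.NormDVR
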