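import Mathlib
import Groth.Agent.Lib.T2H4NormDVRA
import Groth.Agent.Lib.Helper4NormFinite

/-!
# Height one points of the relative normalization outside the image are DVR points (helper4)

Scheme-level part of S9676 (Stacks 0AXP).
-/

set_option autoImplicit false
set_option linter.style.haveILetI false
set_option linter.unusedSectionVars false

universe u

open CategoryTheory AlgebraicGeometry TopologicalSpace Opposite

namespace Groth.Agent.Lib.T2H4.NormDVRB

section unitSpread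

/-- over a qcqs open, a section invertible on `D(t)` divides a power of `t`. -/
theorem exists_mul_eq_pow_of_basicOpen_le {X : Scheme.{u}} {V : X.Opens} (hV : IsCompact V.1)
    (hV' : IsQuasiSeparated V.1) (a t : Γ(X, V)) (hle : X.basicOpen t ≤ X.basicOpen a) :
    ∃ (c : Γ(X, V)) (n : ℕ), a * c = t ^ n := by
  have h1 : IsUnit (X.presheaf.map (homOfLE (X.basicOpen_le a)).op a) :=
    RingedSpace.isUnit_res_basicOpen X.toRingedSpace a
  have h2 : IsUnit (X.presheaf.map (homOfLE (X.basicOpen_le t)).op a) := by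
    have : X.presheaf.map (homOfLE (X.basicOpen_le t)).op a =
        X.presheaf.map (homOfLE hle).op (X.presheaf.map (homOfLE (X.basicOpen_le a)).op a) := by
      rw [← CommRingCat.comp_apply, ← Functor.map_comp]
      rfl
    rw [this]
    exact h1.map _
  obtain ⟨u, hu⟩ := h2.exists_right_inv
  obtain ⟨n, c, hc⟩ := exists_eq_pow_mul_of_isCompact_of_isQuasiSeparated X V hV hV' t u
  have h3 : (a * c) |_ X.basicOpen t = (t ^ n) |_ X.basicOpen t := by
    simp only [TopCat.Presheaf.restrictOpenCommRingCat_apply] at hc ⊢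
    rw [map_mul, map_pow, hc]
    calc X.presheaf.map (homOfLE (X.basicOpen_le t)).op a *
          ((X.presheaf.map (homOfLE (X.basicOpen_le t)).op t) ^ n * u)
        = (X.presheaf.map (homOfLE (X.basicOpen_le t)).op t) ^ n *
          (X.presheaf.map (homOfLE (X.basicOpen_le t)).op a * u) := by ring
      _ = _ := by rw [hu, mul_one]
  obtain ⟨m, hm⟩ := exists_of_res_eq_of_qcqs hV hV' h3
  refine ⟨t ^ m * c, m + n, ?_⟩
  rw [pow_add, ← hm]
  ring

end unitSpread

section points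

theorem map_fromSpec_eq {Y N : Scheme.{u}} (g : Y ⟶ N) {W : N.Opens} (hW : IsAffineOpen W)
    {Yi : Y.Opens} (hYi : IsAffineOpen Yi) (h : Yi ≤ g ⁻¹ᵁ W) (q : PrimeSpectrum Γ(Y, Yi)) :
    g (hYi.fromSpec q) = hW.fromSpec (PrimeSpectrum.comap (g.appLE W Yi h).hom q) := by
  have h1 := IsAffineOpen.SpecMap_appLE_fromSpec g hW hYi h
  have h2 := congrArg (fun k : Spec Γ(Y, Yi) ⟶ N => k q) h1
  simp only [Scheme.Hom.comp_apply] at h2
  exact h2.symm

/-- local divisibility: on an affine piece, an element of a height one prime `p'` avoiding the minimal primes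
divides (the image of) an element outside `p'`, provided the point of `p'` is not in the image. -/
theorem exists_notMem_mul_eq {Y N : Scheme.{u}} (g : Y ⟶ N) {W : N.Opens} (hW : IsAffineOpen W)
    {Yi : Y.Opens} (hYi : IsAffineOpen Yi) (h : Yi ≤ g ⁻¹ᵁ W)
    (x' : N) (hx'W : x' ∈ W) (hx' : x' ∉ Set.range g)
    (hht : (hW.primeIdealOf ⟨x', hx'W⟩).asIdeal.height = 1)
    (a : Γ(N, W)) (hamin : ∀ q ∈ minimalPrimes Γ(N, W), a ∉ q) :
    ∃ t : Γ(N, W), t ∉ (hW.primeIdealOf ⟨x', hx'W⟩).asIdeal ∧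
      ∃ b : Γ(Y, Yi), (g.appLE W Yi h).hom a * b = (g.appLE W Yi h).hom t := by
  set p' := (hW.primeIdealOf ⟨x', hx'W⟩).asIdeal with hp'
  set ψ := (g.appLE W Yi h).hom with hψ
  by_contra hcon
  push Not at hcon
  set K : Ideal Γ(N, W) := (Ideal.span {ψ a}).comap ψ with hK
  have hKp : K ≤ p' := by
    intro t ht
    by_contra htp
    obtain ⟨b, hb⟩ := Ideal.mem_span_singleton'.mp (Ideal.mem_comap.mp ht)
    exact hcon t htp b (by rw [mul_comm]; exact hb)
  obtain ⟨𝔮, h𝔮, h𝔮p⟩ := Ideal.exists_minimalPrimes_le hKp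
  obtain ⟨q', hq'prime, hq'le, hq'comap⟩ := Ideal.exists_comap_eq_of_mem_minimalPrimes ψ 𝔮 h𝔮
  haveI := h𝔮.isPrime
  have ha𝔮 : a ∈ 𝔮 := h𝔮.1.2 (Ideal.mem_comap.mpr (Ideal.subset_span rfl))
  haveI : p'.FiniteHeight := by
    rw [Ideal.finiteHeight_iff]
    right
    rw [hht]
    exact ENat.one_ne_top
  rcases eq_or_lt_of_le h𝔮p with heq | hlt
  · -- the point of `q'` maps to `x'`
    apply hx'
    refine ⟨hYi.fromSpec ⟨q', hq'prime⟩, ?_⟩
    rw [map_fromSpec_eq g hW hYi h]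
    have : PrimeSpectrum.comap ψ ⟨q', hq'prime⟩ = hW.primeIdealOf ⟨x', hx'W⟩ := by
      apply PrimeSpectrum.ext
      change q'.comap ψ = p'
      rw [hq'comap, heq]
    rw [this]
    exact hW.fromSpec_primeIdealOf ⟨x', hx'W⟩
  · have h2 : 𝔮.height < p'.height := Ideal.height_strict_mono_of_isPrime_of_isPrime hlt
    rw [hht] at h2
    have h3 : 𝔮.height = 0 := Order.lt_one_iff.mp h2
    exact hamin 𝔮 (Ideal.height_eq_zero_iff.mp h3) ha𝔮

end points

section glob

/-- global divisibility: over a qcqs open `V` mapping into the affine `W`, an element of the height one prime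
`p'` avoiding the minimal primes divides the image of an element outside `p'`. -/
theorem exists_notMem_mul_eq_global {Y N : Scheme.{u}} (g : Y ⟶ N) {W : N.Opens}
    (hW : IsAffineOpen W) {V : Y.Opens} (hV : IsCompact V.1) (hV' : IsQuasiSeparated V.1)
    (h : V ≤ g ⁻¹ᵁ W) (x' : N) (hx'W : x' ∈ W) (hx' : x' ∉ Set.range g)
    (hht : (hW.primeIdealOf ⟨x', hx'W⟩).asIdeal.height = 1)
    (a : Γ(N, W)) (hamin : ∀ q ∈ minimalPrimes Γ(N, W), a ∉ q) :
    ∃ t : Γ(N, W), t ∉ (hW.primeIdealOf ⟨x', hx'W⟩).asIdeal ∧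
      ∃ c : Γ(Y, V), (g.appLE W V h).hom a * c = (g.appLE W V h).hom t := by
  classical
  set p' := (hW.primeIdealOf ⟨x', hx'W⟩).asIdeal with hp'
  set φ := (g.appLE W V h).hom with hφ
  obtain ⟨s, hs, hcov⟩ := isCompact_iff_finite_and_eq_biUnion_affineOpens.mp hV
  have hcov' : V = ⨆ i ∈ s, (i : Y.Opens) := hcov
  have hle : ∀ i ∈ s, (i : Y.Opens) ≤ V := by
    intro i hi
    rw [hcov']
    exact le_iSup₂ (f := fun (i : Y.affineOpens) (_ : i ∈ s) => (i : Y.Opens)) i hi
  have hloc : ∀ i : Y.affineOpens, ∃ t : Γ(N, W), i ∈ s →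
      (t ∉ p' ∧ ∃ b : Γ(Y, i.1), ∀ hi : i.1 ≤ V,
        (Y.presheaf.map (homOfLE hi).op).hom (φ a) * b = (Y.presheaf.map (homOfLE hi).op).hom (φ t)) := by
    intro i
    by_cases hi : i ∈ s
    · obtain ⟨t, ht, b, hb⟩ := exists_notMem_mul_eq g hW i.2 ((hle i hi).trans h) x' hx'W hx' hht a hamin
      refine ⟨t, fun _ => ⟨ht, b, fun hi' => ?_⟩⟩
      have e : ∀ z, (Y.presheaf.map (homOfLE hi').op).hom (φ z) =
          (g.appLE W i.1 ((hle i hi).trans h)).hom z := by
        intro z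
        rw [hφ, ← CommRingCat.comp_apply, Scheme.Hom.appLE_map]
      rw [e, e]
      exact hb
    · exact ⟨0, fun hi' => absurd hi' hi⟩
  choose τ hτ using hloc
  set t := ∏ i ∈ hs.toFinset, τ i with ht
  have htp : t ∉ p' := by
    intro hmem
    obtain ⟨i, hi, hti⟩ := (Ideal.IsPrime.prod_mem_iff).mp hmem
    exact (hτ i (by simpa using hi)).1 hti
  have hbo : Y.basicOpen (φ t) ≤ Y.basicOpen (φ a) := by
    intro y hy
    have hyV : y ∈ V := Y.basicOpen_le _ hy
    rw [hcov'] at hyV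
    obtain ⟨i, hyi⟩ := Opens.mem_iSup.mp hyV
    obtain ⟨hi, hyi⟩ := Opens.mem_iSup.mp hyi
    obtain ⟨-, b, hb⟩ := hτ i hi
    have hb' := hb (hle i hi)
    have hdvd : t = τ i * ∏ j ∈ hs.toFinset.erase i, τ j :=
      (Finset.mul_prod_erase _ _ (by simpa using hi)).symm
    have h1 : y ∈ Y.basicOpen ((Y.presheaf.map (homOfLE (hle i hi)).op).hom (φ t)) := by
      rw [Scheme.basicOpen_res]
      exact ⟨hyi, hy⟩
    rw [hdvd, map_mul, map_mul, ← hb', mul_assoc, Scheme.basicOpen_mul, Scheme.basicOpen_res] at h1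
    exact h1.1.2
  obtain ⟨c, n, hc⟩ := exists_mul_eq_pow_of_basicOpen_le hV hV' (φ a) (φ t) hbo
  refine ⟨t ^ n, fun hmem => htp (Ideal.IsPrime.mem_of_pow_mem inferInstance n hmem), c, ?_⟩
  rw [map_pow]
  exact hc

end glob

section main

open Groth.Agent.Lib.T2H4.NormDVR

variable {X Y : Scheme.{u}} (f : Y ⟶ X)

/-- **S9676** (Stacks 0AXP): points of codimension one of the relative normalization of a Nagata scheme in a
reduced scheme of finite type which are not in the image are discrete valuation ring points. -/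
theorem main [LocallyOfFiniteType f] [QuasiCompact f] [QuasiSeparated f] [IsReduced Y]
    (hX : ∀ U : X.affineOpens, CAlg.IsNagata Γ(X, U))
    (x' : ↥f.normalization) (hdim : ringKrullDim (f.normalization.presheaf.stalk x') = 1)
    (hx' : x' ∉ Set.range f.toNormalization.base) :
    ∃ _ : IsDomain (f.normalization.presheaf.stalk x'),
      IsDiscreteValuationRing (f.normalization.presheaf.stalk x') := by
  obtain ⟨U, hU, hxU, -⟩ := exists_isAffineOpen_mem_and_subset (x := f.fromNormalization x')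
    (U := ⊤) trivial
  have hW : IsAffineOpen (f.fromNormalization ⁻¹ᵁ U) := hU.preimage f.fromNormalization
  have hx'W : x' ∈ f.fromNormalization ⁻¹ᵁ U := hxU
  have hVc : IsCompact (f ⁻¹ᵁ U).1 := f.isCompact_preimage hU.isCompact
  have hVqs : IsQuasiSeparated (f ⁻¹ᵁ U).1 := f.isQuasiSeparated_preimage hU.isQuasiSeparated
  have hVW : f ⁻¹ᵁ U ≤ f.toNormalization ⁻¹ᵁ (f.fromNormalization ⁻¹ᵁ U) := by
    rw [← Scheme.Hom.comp_preimage, f.toNormalization_fromNormalization]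
  letI algAB : Algebra Γ(X, U) Γ(Y, f ⁻¹ᵁ U) := (f.app U).hom.toAlgebra
  have hval := f.normalizationObjIso_hom_val hU
  set iso := f.normalizationObjIso hU with hiso
  set φ := (f.toNormalization.appLE (f.fromNormalization ⁻¹ᵁ U) (f ⁻¹ᵁ U) hVW).hom with hφ
  have hφv : ∀ z, φ z = ((iso.hom.hom z : integralClosure Γ(X, U) Γ(Y, f ⁻¹ᵁ U)) : Γ(Y, f ⁻¹ᵁ U)) := by
    intro z
    have := congrArg (fun k => k.hom z) hval
    exact this.symm
  letI algRB : Algebra Γ(f.normalization, f.fromNormalization ⁻¹ᵁ U) Γ(Y, f ⁻¹ᵁ U) := φ.toAlgebra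
  -- Noetherian
  haveI : IsNoetherianRing Γ(X, U) := (hX ⟨U, hU⟩).1
  haveI hfin : Module.Finite Γ(X, U) (integralClosure Γ(X, U) Γ(Y, f ⁻¹ᵁ U)) :=
    Groth.Agent.Lib.Helper4.NormFinite.finite_integralClosure_sections f U hU (hX ⟨U, hU⟩)
  haveI : IsNoetherianRing (integralClosure Γ(X, U) Γ(Y, f ⁻¹ᵁ U)) :=
    IsNoetherianRing.of_finite Γ(X, U) _
  haveI : IsNoetherianRing Γ(f.normalization, f.fromNormalization ⁻¹ᵁ U) :=
    isNoetherianRing_of_ringEquiv _ iso.commRingCatIsoToRingEquiv.symm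
  -- injectivity
  have hinj : Function.Injective (algebraMap Γ(f.normalization, f.fromNormalization ⁻¹ᵁ U)
      Γ(Y, f ⁻¹ᵁ U)) := by
    intro z z' hzz
    change φ z = φ z' at hzz
    rw [hφv, hφv] at hzz
    exact iso.commRingCatIsoToRingEquiv.injective (Subtype.ext hzz)
  -- integrally closed
  have hic : ∀ b : Γ(Y, f ⁻¹ᵁ U), IsIntegral Γ(f.normalization, f.fromNormalization ⁻¹ᵁ U) b →
      b ∈ (algebraMap Γ(f.normalization, f.fromNormalization ⁻¹ᵁ U) Γ(Y, f ⁻¹ᵁ U)).range := by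
    rintro b ⟨P, hPm, hP⟩
    have hb1 : IsIntegral (integralClosure Γ(X, U) Γ(Y, f ⁻¹ᵁ U)) b := by
      refine ⟨P.map iso.hom.hom, hPm.map _, ?_⟩
      rw [Polynomial.eval₂_map]
      have : (algebraMap (integralClosure Γ(X, U) Γ(Y, f ⁻¹ᵁ U)) Γ(Y, f ⁻¹ᵁ U)).comp iso.hom.hom =
          algebraMap Γ(f.normalization, f.fromNormalization ⁻¹ᵁ U) Γ(Y, f ⁻¹ᵁ U) := by
        ext z
        exact (hφv z).symm
      rw [this]
      exact hP
    have hb2 : IsIntegral Γ(X, U) b := isIntegral_trans b hb1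
    refine ⟨iso.inv.hom ⟨b, hb2⟩, ?_⟩
    change φ _ = b
    rw [hφv]
    have : iso.hom.hom (iso.inv.hom ⟨b, hb2⟩) = ⟨b, hb2⟩ := by
      rw [← CommRingCat.comp_apply, iso.inv_hom_id]
      rfl
    rw [this]
  -- height
  letI := f.normalization.presheaf.algebra_section_stalk ⟨x', hx'W⟩
  haveI hloc := hW.isLocalization_stalk ⟨x', hx'W⟩
  have hht : (hW.primeIdealOf ⟨x', hx'W⟩).asIdeal.height = 1 := by
    have h1 := IsLocalization.AtPrime.ringKrullDim_eq_height (hW.primeIdealOf ⟨x', hx'W⟩).asIdeal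
      (f.normalization.presheaf.stalk x')
    rw [hdim] at h1
    exact_mod_cast h1.symm
  -- units
  have hx'r : x' ∉ Set.range f.toNormalization := fun ⟨y, hy⟩ => hx' ⟨y, hy⟩
  have hunit : ∀ a ∈ (hW.primeIdealOf ⟨x', hx'W⟩).asIdeal,
      (∀ q ∈ minimalPrimes Γ(f.normalization, f.fromNormalization ⁻¹ᵁ U), a ∉ q) →
      ∃ t ∉ (hW.primeIdealOf ⟨x', hx'W⟩).asIdeal, ∃ c : Γ(Y, f ⁻¹ᵁ U),
        algebraMap Γ(f.normalization, f.fromNormalization ⁻¹ᵁ U) Γ(Y, f ⁻¹ᵁ U) a * c =
          algebraMap Γ(f.normalization, f.fromNormalization ⁻¹ᵁ U) Γ(Y, f ⁻¹ᵁ U) t := by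
    intro a _ hamin
    obtain ⟨t, ht, c, hc⟩ := exists_notMem_mul_eq_global f.toNormalization hW hVc hVqs hVW x' hx'W
      hx'r hht a hamin
    exact ⟨t, ht, c, hc⟩
  obtain ⟨hdom, hdvr⟩ := isDVR_atPrime_of_integrallyClosedIn hinj hic
    (hW.primeIdealOf ⟨x', hx'W⟩).asIdeal hht hunit
  let e : Localization.AtPrime (hW.primeIdealOf ⟨x', hx'W⟩).asIdeal ≃+*
      f.normalization.presheaf.stalk x' :=
    (IsLocalization.algEquiv (hW.primeIdealOf ⟨x', hx'W⟩).asIdeal.primeCompl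
      (Localization.AtPrime (hW.primeIdealOf ⟨x', hx'W⟩).asIdeal)
      (f.normalization.presheaf.stalk x')).toRingEquiv
  have hdom' : IsDomain (f.normalization.presheaf.stalk x') := e.symm.toMulEquiv.isDomain _
  exact ⟨hdom', IsDiscreteValuationRing.RingEquivClass.isDiscreteValuationRing e⟩

end main

end Groth.Agent.Lib.T2H4.NormDVRB
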