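import Mathlib.RingTheory.Regular.RegularSequence
import Mathlib.RingTheory.Regular.IsSMulRegular
import Mathlib.RingTheory.Filtration
import Mathlib.RingTheory.Flat.Basic
import Mathlib.Tactic

set_option autoImplicit false
universe u v

open RingTheory.Sequence Function

namespace Groth.Agent.Lib.T2H4.NormFlat

variable {A : Type u} [CommRing A]

/-- Weak regularity is closed under extensions. -/
lemma isWeaklyRegular_of_exact (rs : List A) :
    ∀ {M' M M'' : Type v} [AddCommGroup M'] [AddCommGroup M] [AddCommGroup M'']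
      [Module A M'] [Module A M] [Module A M'']
      (f : M' →ₗ[A] M) (g : M →ₗ[A] M''), Injective f → Exact f g → Surjective g →
      IsWeaklyRegular M' rs → IsWeaklyRegular M'' rs → IsWeaklyRegular M rs := by
  induction rs with
  | nil => intros; exact IsWeaklyRegular.nil A _
  | cons r rs ih =>
    intro M' M M'' _ _ _ _ _ _ f g hf hfg hg h1 h2
    rw [isWeaklyRegular_cons_iff] at h1 h2 ⊢
    refine ⟨isSMulRegular_of_range_eq_ker hf hfg.linearMap_ker_eq.symm h1.1 h2.1, ?_⟩
    have hinj : Injective (QuotSMulTop.map r f) := by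
      have h0 : Exact (0 : M' →ₗ[A] M') f := (LinearMap.exact_zero_iff_injective M' f).mpr hf
      have := QuotSMulTop.map_first_exact_on_four_term_exact_of_isSMulRegular_last h0 hfg h2.1
      rw [map_zero] at this
      exact (LinearMap.exact_zero_iff_injective _ _).mp this
    exact ih (QuotSMulTop.map r f) (QuotSMulTop.map r g) hinj
      (QuotSMulTop.map_exact r hfg hg) (QuotSMulTop.map_surjective r hg) h1.2 h2.2

section Step

variable {N : Type v} [AddCommGroup N] [Module A N]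

/-- one step of a filtration -/
lemma isWeaklyRegular_quot_step (P Q : Submodule A N) (h : P ≤ Q) (rs : List A)
    (h1 : IsWeaklyRegular (↥Q ⧸ P.submoduleOf Q) rs) (h2 : IsWeaklyRegular (N ⧸ Q) rs) :
    IsWeaklyRegular (N ⧸ P) rs := by
  let ι : (↥Q ⧸ P.submoduleOf Q) →ₗ[A] (N ⧸ P) :=
    Submodule.mapQ (P.submoduleOf Q) P Q.subtype (le_refl _)
  let π : (N ⧸ P) →ₗ[A] (N ⧸ Q) := Submodule.factor h
  refine isWeaklyRegular_of_exact rs ι π ?_ ?_ (Submodule.factor_surjective h) h1 h2
  · -- injective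
    rw [← LinearMap.ker_eq_bot, eq_bot_iff]
    rintro x hx
    obtain ⟨y, rfl⟩ := Submodule.Quotient.mk_surjective _ x
    rw [LinearMap.mem_ker] at hx
    have hx' : (Submodule.Quotient.mk (y : N) : N ⧸ P) = 0 := hx
    rw [Submodule.Quotient.mk_eq_zero] at hx'
    rw [Submodule.mem_bot, Submodule.Quotient.mk_eq_zero]
    exact hx'
  · -- exact
    intro z
    obtain ⟨y, rfl⟩ := Submodule.Quotient.mk_surjective _ z
    constructor
    · intro hz
      have hz' : (Submodule.Quotient.mk y : N ⧸ Q) = 0 := hz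
      rw [Submodule.Quotient.mk_eq_zero] at hz'
      exact ⟨Submodule.Quotient.mk ⟨y, hz'⟩, rfl⟩
    · rintro ⟨x, hx⟩
      obtain ⟨w, rfl⟩ := Submodule.Quotient.mk_surjective _ x
      have hx' : (Submodule.Quotient.mk (w : N) : N ⧸ P) = Submodule.Quotient.mk y := hx
      show (Submodule.Quotient.mk y : N ⧸ Q) = 0
      rw [Submodule.Quotient.mk_eq_zero]
      rw [Submodule.Quotient.eq] at hx'
      have : y = (w : N) - ((w : N) - y) := by abel
      rw [this]
      exact Q.sub_mem w.2 (h hx')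

/-- weak regularity on all finite quotients of a filtration -/
lemma isWeaklyRegular_quot_of_filtration (F : ℕ → Submodule A N) (h0 : F 0 = ⊤)
    (hmono : ∀ t, F (t + 1) ≤ F t) (rs : List A)
    (hgr : ∀ t, IsWeaklyRegular (↥(F t) ⧸ (F (t + 1)).submoduleOf (F t)) rs) (t : ℕ) :
    IsWeaklyRegular (N ⧸ F t) rs := by
  induction t with
  | zero =>
    rw [h0]
    have : Subsingleton (N ⧸ (⊤ : Submodule A N)) := Submodule.Quotient.subsingleton_iff.mpr rfl
    refine ⟨fun i hi => ?_⟩
    intro a b _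
    exact Subsingleton.elim _ _
  | succ t ih =>
    exact isWeaklyRegular_quot_step (F (t + 1)) (F t) (hmono t) rs (hgr t) ih

end Step

section Krull

variable {N : Type v} [AddCommGroup N] [Module A N]

lemma smul_top_quot (I : Ideal A) (P : Submodule A N) :
    (I • ⊤ : Submodule A (N ⧸ P)) = (I • ⊤ : Submodule A N).map P.mkQ := by
  rw [Submodule.map_smul'', Submodule.map_top, Submodule.range_mkQ]

lemma isWeaklyRegular_of_forall_quot [IsNoetherianRing A] [IsLocalRing A] (J : Ideal A)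
    (hJ : J ≠ ⊤) [Module.Finite A N] (rs : List A)
    (h : ∀ t : ℕ, IsWeaklyRegular (N ⧸ (J ^ t • ⊤ : Submodule A N)) rs) :
    IsWeaklyRegular N rs := by
  refine ⟨fun i hi => ?_⟩
  rw [isSMulRegular_quotient_iff_mem_of_smul_mem]
  intro x hx
  have key : ∀ t, x ∈ (Ideal.ofList (rs.take i) • ⊤ : Submodule A N) ⊔ J ^ t • ⊤ := by
    intro t
    have ht := (h t).regular_mod_prev i hi
    rw [isSMulRegular_quotient_iff_mem_of_smul_mem] at ht
    have h1 := ht (Submodule.Quotient.mk x) (by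
      rw [← Submodule.Quotient.mk_smul, smul_top_quot]
      exact Submodule.mem_map_of_mem hx)
    rw [smul_top_quot] at h1
    obtain ⟨y, hy, hyx⟩ := h1
    have hyx' : (Submodule.Quotient.mk y : N ⧸ (J ^ t • ⊤ : Submodule A N))
        = Submodule.Quotient.mk x := hyx
    rw [Submodule.Quotient.eq] at hyx'
    have : x = y - (y - x) := by abel
    rw [this]
    exact Submodule.sub_mem _ (Submodule.mem_sup_left hy) (Submodule.mem_sup_right hyx')
  have hK := Ideal.iInf_pow_smul_eq_bot_of_isLocalRing (I := J)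
    (M := N ⧸ (Ideal.ofList (rs.take i) • ⊤ : Submodule A N)) hJ
  have hmem : (Submodule.Quotient.mk x : N ⧸ (Ideal.ofList (rs.take i) • ⊤ : Submodule A N))
      ∈ (⨅ t : ℕ, J ^ t • ⊤ : Submodule A (N ⧸ (Ideal.ofList (rs.take i) • ⊤ : Submodule A N))) := by
    rw [Submodule.mem_iInf]
    intro t
    rw [smul_top_quot]
    obtain ⟨y, hy, z, hz, hyz⟩ := Submodule.mem_sup.mp (key t)
    refine ⟨z, hz, ?_⟩
    show (Submodule.Quotient.mk z : N ⧸ (Ideal.ofList (rs.take i) • ⊤ : Submodule A N))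
        = Submodule.Quotient.mk x
    rw [Submodule.Quotient.eq, ← hyz]
    have : z - (y + z) = -y := by abel
    rw [this]
    exact Submodule.neg_mem _ hy
  rw [hK, Submodule.mem_bot, Submodule.Quotient.mk_eq_zero] at hmem
  exact hmem

end Krull

section Graded

lemma mem_smul_top_iff (I' K : Ideal A) (z : ↥K) :
    z ∈ (I' • ⊤ : Submodule A ↥K) ↔ (z : A) ∈ I' * K := by
  have hmap : (I' • ⊤ : Submodule A ↥K).map K.subtype = I' • K := by
    rw [Submodule.map_smul'', Submodule.map_top, Submodule.range_subtype]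
  rw [← smul_eq_mul, ← hmap]
  constructor
  · intro hz
    exact Submodule.mem_map_of_mem hz
  · rintro ⟨w, hw, hwz⟩
    have : w = z := Subtype.ext hwz
    rw [← this]; exact hw

/-- the graded pieces of the `J`-adic filtration on `J^k` -/
noncomputable def gradedEquiv (J : Ideal A) (k t : ℕ) :
    (↥(J ^ t • ⊤ : Submodule A ↥(J ^ k)) ⧸
        (J ^ (t + 1) • ⊤ : Submodule A ↥(J ^ k)).submoduleOf (J ^ t • ⊤ : Submodule A ↥(J ^ k)))
      ≃ₗ[A] (↥(J ^ (k + t)) ⧸ (J • ⊤ : Submodule A ↥(J ^ (k + t)))) := by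
  have hι : Function.Injective (J ^ k).subtype := Submodule.injective_subtype _
  have heq : (J ^ t • ⊤ : Submodule A ↥(J ^ k)).map (J ^ k).subtype = J ^ (k + t) := by
    rw [Submodule.map_smul'', Submodule.map_top, Submodule.range_subtype, smul_eq_mul, ← pow_add,
      add_comm]
  let e : ↥(J ^ t • ⊤ : Submodule A ↥(J ^ k)) ≃ₗ[A] ↥(J ^ (k + t)) :=
    (Submodule.equivMapOfInjective (J ^ k).subtype hι _).trans (LinearEquiv.ofEq _ _ heq)
  have he : ∀ x, ((e x : ↥(J ^ (k + t))) : A) = ((x : ↥(J ^ k)) : A) := fun x => rfl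
  refine Submodule.Quotient.equiv _ _ e ?_
  ext y
  rw [Submodule.mem_map, mem_smul_top_iff]
  constructor
  · rintro ⟨x, hx, rfl⟩
    rw [LinearEquiv.coe_coe, he]
    have hx' : (x : ↥(J ^ k)) ∈ (J ^ (t + 1) • ⊤ : Submodule A ↥(J ^ k)) := hx
    rw [mem_smul_top_iff] at hx'
    have : J ^ (t + 1) * J ^ k = J * J ^ (k + t) := by ring
    rw [← this]; exact hx'
  · intro hy
    refine ⟨e.symm y, ?_, by simp⟩
    show ((e.symm y : ↥(J ^ t • ⊤ : Submodule A ↥(J ^ k))) : ↥(J ^ k))
      ∈ (J ^ (t + 1) • ⊤ : Submodule A ↥(J ^ k))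
    rw [mem_smul_top_iff, ← he, LinearEquiv.apply_symm_apply]
    have : J ^ (t + 1) * J ^ k = J * J ^ (k + t) := by ring
    rw [this]; exact hy

end Graded

section Main

open TensorProduct

/-- flat over `A/J` and weakly regular on `A/J` gives weakly regular -/
lemma isWeaklyRegular_of_flat (J : Ideal A) {G : Type u} [AddCommGroup G] [Module A G]
    [Module (A ⧸ J) G] [IsScalarTower A (A ⧸ J) G] [Module.Flat (A ⧸ J) G]
    (fs : List A) (hreg : IsWeaklyRegular (A ⧸ J) fs) : IsWeaklyRegular G fs := by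
  have h1 : IsWeaklyRegular (A ⧸ J) (fs.map (algebraMap A (A ⧸ J))) :=
    (isWeaklyRegular_map_algebraMap_iff (A ⧸ J) (A ⧸ J) fs).mpr hreg
  have h2 : IsWeaklyRegular ((A ⧸ J) ⊗[A ⧸ J] G) (fs.map (algebraMap A (A ⧸ J))) :=
    h1.isWeaklyRegular_rTensor
  have h3 : IsWeaklyRegular G (fs.map (algebraMap A (A ⧸ J))) :=
    ((TensorProduct.lid (A ⧸ J) G).isWeaklyRegular_congr _).mp h2
  exact (isWeaklyRegular_map_algebraMap_iff (A ⧸ J) G fs).mp h3

theorem main (A : Type u) [CommRing A] [IsLocalRing A] [IsNoetherianRing A] (J : Ideal A)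
    (hJ : J ≠ ⊤)
    (hflat : ∀ k : ℕ, Module.Flat (A ⧸ J) (↥(J ^ k) ⧸ (J • (⊤ : Submodule A ↥(J ^ k)))))
    (fs : List A) (hreg : RingTheory.Sequence.IsWeaklyRegular (A ⧸ J) fs) (k : ℕ) :
    RingTheory.Sequence.IsWeaklyRegular (↥(J ^ k)) fs ∧
      RingTheory.Sequence.IsWeaklyRegular (↥(J ^ k) ⧸ (J • (⊤ : Submodule A ↥(J ^ k)))) fs := by
  have hG : ∀ m : ℕ, IsWeaklyRegular (↥(J ^ m) ⧸ (J • (⊤ : Submodule A ↥(J ^ m)))) fs := by
    intro m
    haveI := hflat m
    exact isWeaklyRegular_of_flat J fs hreg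
  refine ⟨?_, hG k⟩
  apply isWeaklyRegular_of_forall_quot J hJ fs
  intro t
  apply isWeaklyRegular_quot_of_filtration (fun t => (J ^ t • ⊤ : Submodule A ↥(J ^ k)))
  · simp
  · intro t
    exact Submodule.smul_mono_left (Ideal.pow_le_pow_right (Nat.le_succ t))
  · intro t
    exact ((gradedEquiv J k t).isWeaklyRegular_congr fs).mpr (hG (k + t))

end Main

end Groth.Agent.Lib.T2H4.NormFlat
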