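import Groth.Agent.Lib.Helper11Genus
import Mathlib.Tactic

/-!
Numerical types: the topological genus is at most the genus for minimal types.
-/

namespace Groth.Agent.Lib.T2H4.NumType

open Finset Models Groth.Agent.Lib.Helper11

variable {n : ℕ}

/-- splitting an off-diagonal double sum into unordered pairs -/
theorem sum_erase_eq_sum_lt {M : Type*} [AddCommMonoid M] (f : Fin n → Fin n → M) :
    ∑ i, ∑ j ∈ univ.erase i, f i j =
      ∑ p ∈ univ.filter (fun p : Fin n × Fin n => p.1 < p.2), (f p.1 p.2 + f p.2 p.1) := by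
  have h1 : ∀ i, ∑ j ∈ univ.erase i, f i j =
      ∑ j ∈ univ.filter (fun j => i < j), f i j + ∑ j ∈ univ.filter (fun j => j < i), f i j := by
    intro i
    rw [← Finset.sum_union]
    · refine Finset.sum_congr ?_ fun _ _ => rfl
      ext j
      simp only [mem_erase, mem_univ, and_true, mem_union, mem_filter, true_and]
      constructor
      · intro h
        rcases lt_or_gt_of_ne h with h | h
        · exact Or.inr h
        · exact Or.inl h
      · rintro (h | h)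
        · exact h.ne'
        · exact h.ne
    · rw [Finset.disjoint_left]
      intro j hj hj'
      simp only [mem_filter, mem_univ, true_and] at hj hj'
      exact lt_asymm hj hj'
  simp_rw [h1, Finset.sum_add_distrib]
  have h2 : ∑ i, ∑ j ∈ univ.filter (fun j => j < i), f i j =
      ∑ i, ∑ j ∈ univ.filter (fun j => i < j), f j i := by
    rw [Finset.sum_sigma', Finset.sum_sigma']
    refine Finset.sum_bij' (fun x _ => ⟨x.2, x.1⟩) (fun x _ => ⟨x.2, x.1⟩) ?_ ?_ ?_ ?_ ?_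
    · intro x hx
      simp only [mem_sigma, mem_univ, mem_filter, true_and] at hx ⊢
      exact hx
    · intro x hx
      simp only [mem_sigma, mem_univ, mem_filter, true_and] at hx ⊢
      exact hx
    · intro x _; rfl
    · intro x _; rfl
    · intro x _; rfl
  rw [h2, ← Finset.sum_add_distrib]
  simp_rw [← Finset.sum_add_distrib]
  rw [Finset.sum_sigma']
  refine Finset.sum_bij' (fun x _ => (x.1, x.2)) (fun p _ => ⟨p.1, p.2⟩) ?_ ?_ ?_ ?_ ?_
  · intro x hx
    simp only [mem_sigma, mem_univ, mem_filter, true_and] at hx ⊢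
    exact hx
  · intro p hp
    simp only [mem_sigma, mem_univ, mem_filter, true_and] at hp ⊢
    exact hp
  · intro x _; rfl
  · intro p _; rfl
  · intro x _; rfl

variable (T : Models.NumericalType n)

/-- `k_i = -a_ii / w_i` -/
def kd (i : Fin n) : ℤ := -kk T i i

theorem a_diag_eq (i : Fin n) : T.a i i = -(kd T i * T.w i) := by
  rw [kd, a_eq_kk T i i]; ring

theorem one_le_kd (hn : 1 < n) (i : Fin n) : 1 ≤ kd T i := by
  have h1 := diag_neg T hn i
  have hw := T.w_pos i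
  rw [a_diag_eq] at h1
  by_contra hcon
  have : kd T i ≤ 0 := by omega
  nlinarith

theorem two_le_kd_of_g_zero (hn : 1 < n) (hmin : T.IsMinimal) (i : Fin n) (hg : T.g i = 0) :
    2 ≤ kd T i := by
  have h1 := one_le_kd T hn i
  by_contra hcon
  have hk : kd T i = 1 := by omega
  apply hmin i
  refine ⟨hg, ?_⟩
  rw [a_diag_eq, hk]; ring

/-- `k_i m_i = Σ_{j ≠ i} k_ij m_j` -/
theorem kd_mul_m (i : Fin n) : kd T i * T.m i = ∑ j ∈ univ.erase i, kk T i j * T.m j := by
  have h := kk_row T i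
  rw [← Finset.add_sum_erase univ (fun j => kk T i j * T.m j) (mem_univ i)] at h
  rw [kd]
  linarith

/-- contribution of index `i` bounds `k_i - 2` -/
theorem kd_sub_two_le (hn : 1 < n) (hmin : T.IsMinimal) (i : Fin n) :
    kd T i - 2 ≤ T.m i * (2 * T.w i * (T.g i - 1) - T.a i i) := by
  have hm := T.m_pos i
  have hw := T.w_pos i
  have hg := T.g_nonneg i
  have hk := one_le_kd T hn i
  rw [a_diag_eq]
  have hmw : 1 ≤ T.m i * T.w i := by nlinarith
  have e : T.m i * (2 * T.w i * (T.g i - 1) - -(kd T i * T.w i)) =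
      T.m i * T.w i * (2 * T.g i - 2 + kd T i) := by ring
  rw [e]
  rcases eq_or_lt_of_le hg with h0 | h0
  · have hk2 := two_le_kd_of_g_zero T hn hmin i h0.symm
    rw [← h0]
    nlinarith
  · have : 1 ≤ T.g i := by omega
    nlinarith

/-- `2 e ≤ Σ k_i` -/
theorem two_mul_edgeCount_le : 2 * (T.edgeCount : ℤ) ≤ ∑ i, kd T i := by
  have hmq : ∀ i, (0 : ℚ) < (T.m i : ℚ) := fun i => by exact_mod_cast T.m_pos i
  -- rational form of the row relation
  have hk : ∀ i, ((kd T i : ℤ) : ℚ) =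
      ∑ j ∈ univ.erase i, (kk T i j : ℚ) * (T.m j : ℚ) / (T.m i : ℚ) := by
    intro i
    have h := kd_mul_m T i
    have h' : ((kd T i : ℤ) : ℚ) * (T.m i : ℚ) =
        ∑ j ∈ univ.erase i, (kk T i j : ℚ) * (T.m j : ℚ) := by exact_mod_cast h
    rw [← Finset.sum_div, ← h', mul_div_assoc, div_self (hmq i).ne', mul_one]
  have hsum : ((∑ i, kd T i : ℤ) : ℚ) =
      ∑ p ∈ univ.filter (fun p : Fin n × Fin n => p.1 < p.2),
        ((kk T p.1 p.2 : ℚ) * (T.m p.2 : ℚ) / (T.m p.1 : ℚ) +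
          (kk T p.2 p.1 : ℚ) * (T.m p.1 : ℚ) / (T.m p.2 : ℚ)) := by
    push_cast
    simp_rw [hk]
    exact sum_erase_eq_sum_lt (fun i j => (kk T i j : ℚ) * (T.m j : ℚ) / (T.m i : ℚ))
  have hterm_nonneg : ∀ p ∈ univ.filter (fun p : Fin n × Fin n => p.1 < p.2),
      (0 : ℚ) ≤ (kk T p.1 p.2 : ℚ) * (T.m p.2 : ℚ) / (T.m p.1 : ℚ) +
          (kk T p.2 p.1 : ℚ) * (T.m p.1 : ℚ) / (T.m p.2 : ℚ) := by
    intro p hp
    simp only [mem_filter, mem_univ, true_and] at hp
    have h1 : (0 : ℚ) ≤ (kk T p.1 p.2 : ℚ) := by exact_mod_cast kk_nonneg T hp.ne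
    have h2 : (0 : ℚ) ≤ (kk T p.2 p.1 : ℚ) := by exact_mod_cast kk_nonneg T hp.ne'
    have := hmq p.1
    have := hmq p.2
    positivity
  have hterm_two : ∀ p ∈ univ.filter (fun p : Fin n × Fin n => p.1 < p.2 ∧ 0 < T.a p.1 p.2),
      (2 : ℚ) ≤ (kk T p.1 p.2 : ℚ) * (T.m p.2 : ℚ) / (T.m p.1 : ℚ) +
          (kk T p.2 p.1 : ℚ) * (T.m p.1 : ℚ) / (T.m p.2 : ℚ) := by
    intro p hp
    simp only [mem_filter, mem_univ, true_and] at hp
    have h1 : (1 : ℚ) ≤ (kk T p.1 p.2 : ℚ) := by exact_mod_cast kk_pos T hp.1.ne hp.2.ne'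
    have h2 : (1 : ℚ) ≤ (kk T p.2 p.1 : ℚ) := by exact_mod_cast kk_pos' T hp.1.ne hp.2.ne'
    have ha := hmq p.1
    have hb := hmq p.2
    have e1 : (T.m p.2 : ℚ) / (T.m p.1 : ℚ) ≤ (kk T p.1 p.2 : ℚ) * (T.m p.2 : ℚ) / (T.m p.1 : ℚ) := by
      apply div_le_div_of_nonneg_right _ ha.le
      nlinarith
    have e2 : (T.m p.1 : ℚ) / (T.m p.2 : ℚ) ≤ (kk T p.2 p.1 : ℚ) * (T.m p.1 : ℚ) / (T.m p.2 : ℚ) := by
      apply div_le_div_of_nonneg_right _ hb.le
      nlinarith
    have e3 : (2 : ℚ) ≤ (T.m p.2 : ℚ) / (T.m p.1 : ℚ) + (T.m p.1 : ℚ) / (T.m p.2 : ℚ) := by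
      rw [div_add_div _ _ ha.ne' hb.ne', le_div_iff₀ (mul_pos ha hb)]
      nlinarith [sq_nonneg ((T.m p.1 : ℚ) - (T.m p.2 : ℚ))]
    linarith
  have hsub : univ.filter (fun p : Fin n × Fin n => p.1 < p.2 ∧ 0 < T.a p.1 p.2) ⊆
      univ.filter (fun p : Fin n × Fin n => p.1 < p.2) := by
    intro p hp
    simp only [mem_filter, mem_univ, true_and] at hp ⊢
    exact hp.1
  have hcount : (2 : ℚ) * (T.edgeCount : ℚ) =
      ∑ _p ∈ univ.filter (fun p : Fin n × Fin n => p.1 < p.2 ∧ 0 < T.a p.1 p.2), (2 : ℚ) := by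
    rw [Finset.sum_const, nsmul_eq_mul, NumericalType.edgeCount]
    ring
  have hfinal : (2 : ℚ) * (T.edgeCount : ℚ) ≤ ((∑ i, kd T i : ℤ) : ℚ) := by
    rw [hcount, hsum]
    calc ∑ _p ∈ univ.filter (fun p : Fin n × Fin n => p.1 < p.2 ∧ 0 < T.a p.1 p.2), (2 : ℚ)
        ≤ ∑ p ∈ univ.filter (fun p : Fin n × Fin n => p.1 < p.2 ∧ 0 < T.a p.1 p.2),
          ((kk T p.1 p.2 : ℚ) * (T.m p.2 : ℚ) / (T.m p.1 : ℚ) +
            (kk T p.2 p.1 : ℚ) * (T.m p.1 : ℚ) / (T.m p.2 : ℚ)) := Finset.sum_le_sum hterm_two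
      _ ≤ _ := Finset.sum_le_sum_of_subset_of_nonneg hsub (fun p hp _ => hterm_nonneg p hp)
  exact_mod_cast hfinal

/-- S2177: the topological genus is at most the genus for a minimal type with `n > 1` -/
theorem topGenus_le_genus (hmin : T.IsMinimal) (hn : 1 < n) : T.topGenus ≤ T.genus := by
  have h1 := two_genus T
  have h2 := two_mul_edgeCount_le T
  have h3 : ∑ i, (kd T i - 2) ≤ ∑ i, T.m i * (2 * T.w i * (T.g i - 1) - T.a i i) :=
    Finset.sum_le_sum fun i _ => kd_sub_two_le T hn hmin i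
  rw [Finset.sum_sub_distrib] at h3
  simp only [Finset.sum_const, Finset.card_univ, Fintype.card_fin, nsmul_eq_mul] at h3
  unfold NumericalType.topGenus
  linarith

end Groth.Agent.Lib.T2H4.NumType
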