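import Mathlib
/-! Hochschild–Deligne identity `(bD)^p = b^p D^p + c D` in characteristic `p` (normal ordering `normal_order`, vanishing `cc_prime_vanish`), general Leibniz rule for iterates. -/

set_option autoImplicit false
universe u v

namespace Groth.Agent.Lib.T2H4.PCurv

open Finset

section Leibniz

variable {S : Type*} [CommRing S]

/-- general Leibniz rule for iterates of an additive map satisfying the Leibniz rule -/
theorem iterate_leibniz (δ : S →+ S) (hδ : ∀ x y, δ (x * y) = δ x * y + x * δ y) (n : ℕ) :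
    ∀ x y : S, δ^[n] (x * y) =
      ∑ k ∈ range (n + 1), (n.choose k : S) * (δ^[k] x * δ^[n - k] y) := by
  induction n with
  | zero => intro x y; simp
  | succ n ih =>
    intro x y
    rw [Function.iterate_succ_apply, hδ, iterate_map_add, ih, ih]
    -- rewrite the target
    rw [Finset.sum_range_succ' _ (n + 1)]
    simp only [Nat.choose_succ_succ, Nat.cast_add, add_mul, Finset.sum_add_distrib,
      Nat.choose_zero_right, Nat.cast_one, one_mul, Function.iterate_zero, id_eq, Nat.sub_zero,
      Nat.succ_sub_succ, Nat.add_sub_add_right]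
    -- first sum
    have e1 : ∑ k ∈ range (n + 1), (n.choose k : S) * (δ^[k] (δ x) * δ^[n - k] y) =
        ∑ k ∈ range (n + 1), (n.choose k : S) * (δ^[k + 1] x * δ^[n - k] y) := by
      refine Finset.sum_congr rfl fun k _ => ?_
      rw [Function.iterate_succ_apply]
    have e2 : ∑ k ∈ range (n + 1), (n.choose k : S) * (δ^[k] x * δ^[n - k] (δ y)) =
        ∑ k ∈ range (n + 1), ((n.choose (k + 1) : ℕ) : S) * (δ^[k + 1] x * δ^[n - k] y) +
          x * δ^[n + 1] y := by
      rw [Finset.sum_range_succ' _ n, Finset.sum_range_succ _ n]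
      simp only [Nat.choose_succ_self, Nat.cast_zero, zero_mul, add_zero, Nat.choose_zero_right,
        Nat.cast_one, one_mul, Function.iterate_zero, id_eq, Nat.sub_zero]
      congr 1
      · refine Finset.sum_congr rfl fun k hk => ?_
        rw [Finset.mem_range] at hk
        rw [← Function.iterate_succ_apply, show (n - (k + 1)).succ = n - k by omega]
    rw [e1, e2]
    ring

/-- in characteristic `p`, the `p`-th iterate satisfies the Leibniz rule -/
theorem iterate_prime_leibniz (p : ℕ) [hp : Fact p.Prime] (hS : (p : S) = 0)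
    (δ : S →+ S) (hδ : ∀ x y, δ (x * y) = δ x * y + x * δ y) (x y : S) :
    δ^[p] (x * y) = δ^[p] x * y + x * δ^[p] y := by
  rw [iterate_leibniz δ hδ]
  obtain ⟨m, hm⟩ : ∃ m, p = m + 1 := ⟨p - 1, by have := hp.out.two_le; omega⟩
  have hmid : ∀ k ∈ range m, ((p.choose (k + 1) : ℕ) : S) *
      (δ^[k + 1] x * δ^[p - (k + 1)] y) = 0 := by
    intro k hk
    rw [Finset.mem_range] at hk
    have hdvd : p ∣ p.choose (k + 1) :=
      hp.out.dvd_choose_self (Nat.succ_ne_zero k) (by omega)
    obtain ⟨c, hc⟩ := hdvd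
    rw [hc, Nat.cast_mul, hS, zero_mul, zero_mul]
  have h1 : range (p + 1) = range (m + 1 + 1) := by rw [hm]
  rw [h1, Finset.sum_range_succ, Finset.sum_range_succ', Finset.sum_eq_zero hmid, ← hm]
  simp only [Nat.choose_self, Nat.cast_one, one_mul, Nat.sub_self, Function.iterate_zero, id_eq,
    Nat.choose_zero_right, Nat.sub_zero, zero_add]
  ring

end Leibniz

section Normal

variable {B : Type*} [CommRing B] (θ : B →+ B) (b : B)

/-- coefficients of the normally ordered form of `(b D)^n` -/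
def cc : ℕ → ℕ → B
  | 0, k => if k = 0 then 1 else 0
  | n + 1, k => b * ((if k = 0 then 0 else cc n (k - 1)) + θ (cc n k))

lemma cc_zero (k : ℕ) : cc θ b 0 k = if k = 0 then 1 else 0 := rfl

lemma cc_succ (n k : ℕ) :
    cc θ b (n + 1) k = b * ((if k = 0 then 0 else cc θ b n (k - 1)) + θ (cc θ b n k)) := rfl

lemma cc_eq_zero_of_lt : ∀ (n k : ℕ), n < k → cc θ b n k = 0 := by
  intro n
  induction n with
  | zero => intro k hk; rw [cc_zero, if_neg (by omega)]
  | succ n ih =>
    intro k hk
    rw [cc_succ, if_neg (by omega), ih (k - 1) (by omega), ih k (by omega), map_zero, add_zero,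
      mul_zero]

lemma cc_diag (n : ℕ) : cc θ b n n = b ^ n := by
  induction n with
  | zero => simp [cc_zero]
  | succ n ih =>
    rw [cc_succ, if_neg (by omega), Nat.add_sub_cancel, ih, cc_eq_zero_of_lt θ b n (n + 1) (by omega),
      map_zero, add_zero, pow_succ']

lemma cc_col_zero (hθ1 : θ 1 = 0) (n : ℕ) : cc θ b (n + 1) 0 = 0 := by
  induction n with
  | zero => simp [cc_succ, cc_zero, hθ1]
  | succ n ih => rw [cc_succ, if_pos rfl, ih, map_zero, add_zero, mul_zero]

variable {E : Type*} [Ring E] (ι : B →+* E) (D : E)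

theorem normal_order (hD : ∀ c : B, D * ι c = ι c * D + ι (θ c)) (n : ℕ) :
    (ι b * D) ^ n = ∑ k ∈ range (n + 1), ι (cc θ b n k) * D ^ k := by
  induction n with
  | zero => simp [cc_zero]
  | succ n ih =>
    rw [pow_succ', ih, Finset.mul_sum]
    have e1 : ∀ k, ι b * D * (ι (cc θ b n k) * D ^ k) =
        ι (b * cc θ b n k) * D ^ (k + 1) + ι (b * θ (cc θ b n k)) * D ^ k := by
      intro k
      rw [mul_assoc (ι b) D, ← mul_assoc D, hD, add_mul, mul_add, map_mul, map_mul, pow_succ']
      simp only [mul_assoc]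
    simp only [e1, Finset.sum_add_distrib]
    -- the target
    rw [Finset.sum_range_succ' (fun k => ι (cc θ b (n + 1) k) * D ^ k) (n + 1)]
    simp only [cc_succ, if_neg (Nat.succ_ne_zero _), Nat.add_sub_cancel, if_pos, mul_add, map_add,
      add_mul, Finset.sum_add_distrib, zero_add]
    rw [Finset.sum_range_succ (fun k => ι (b * θ (cc θ b n (k + 1))) * D ^ (k + 1)) n,
      cc_eq_zero_of_lt θ b n (n + 1) (by omega), map_zero, mul_zero, map_zero, zero_mul, add_zero]
    rw [Finset.sum_range_succ' (fun k => ι (b * θ (cc θ b n k)) * D ^ k) n]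
    abel

end Normal

section Vanish

open Polynomial

variable {B : Type*} [CommRing B] (p : ℕ) [hp : Fact p.Prime] (hB : (p : B) = 0)
  (θ : Derivation ℤ B B) (b : B)

/-- coefficientwise derivation on `B[X]` -/
noncomputable def Theta : Derivation ℤ B[X] B[X] :=
  PolynomialModule.equivPolynomialSelf.compDer θ.mapCoeffs

lemma coeff_Theta (f : B[X]) (i : ℕ) : (Theta θ f).coeff i = θ (f.coeff i) := rfl

lemma Theta_C (c : B) : Theta θ (C c) = C (θ c) := by
  ext i
  rw [coeff_Theta, coeff_C, coeff_C]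
  split_ifs <;> simp

lemma Theta_X_pow (j : ℕ) : Theta θ (X ^ j : B[X]) = 0 := by
  ext i
  rw [coeff_Theta, coeff_X_pow]
  split_ifs <;> simp

/-- the derivation `Θ + d/dX` -/
noncomputable def DD : Derivation ℤ B[X] B[X] :=
  Theta θ + (Polynomial.derivative' : Derivation B B[X] B[X]).restrictScalars ℤ

lemma DD_apply (f : B[X]) : DD θ f = Theta θ f + derivative f := rfl

lemma DD_C_mul (c : B) (f : B[X]) : DD θ (C c * f) = C c * DD θ f + C (θ c) * f := by
  rw [Derivation.leibniz, DD_apply θ (C c), Theta_C, derivative_C, add_zero, smul_eq_mul, smul_eq_mul]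
  ring

lemma DD_iterate_X_pow (j k : ℕ) :
    (DD θ)^[k] (X ^ j : B[X]) = (j.descFactorial k : B[X]) * X ^ (j - k) := by
  induction k with
  | zero => simp
  | succ k ih =>
    rw [Function.iterate_succ_apply', ih, ← nsmul_eq_mul, map_nsmul, DD_apply, Theta_X_pow, zero_add,
      derivative_X_pow, Nat.descFactorial_succ, nsmul_eq_mul]
    have : j - k - 1 = j - (k + 1) := by omega
    rw [this, Nat.cast_mul, ← C_eq_natCast (j - k)]
    ring

lemma coeff_zero_DD_iterate (k₀ k : ℕ) :
    ((DD θ)^[k] (X ^ k₀ : B[X])).coeff 0 = if k = k₀ then (k₀.factorial : B) else 0 := by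
  rw [DD_iterate_X_pow, ← C_eq_natCast, coeff_C_mul, coeff_X_pow]
  rcases lt_trichotomy k k₀ with h | h | h
  · rw [if_neg (by omega), if_neg (by omega), mul_zero]
  · subst h
    rw [if_pos (by omega), if_pos rfl, Nat.descFactorial_self, mul_one]
  · rw [Nat.descFactorial_eq_zero_iff_lt.mpr h, if_neg (show ¬ k = k₀ by omega)]
    simp

/-- a derivation as an additive map -/
def toAdd (θ : Derivation ℤ B B) : B →+ B := (θ : B →ₗ[ℤ] B).toAddMonoidHom

@[simp] lemma toAdd_apply (c : B) : toAdd θ c = θ c := rfl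

include hB in
lemma isUnit_factorial (k : ℕ) (hk : k < p) : IsUnit (k.factorial : B) := by
  have hcop : Nat.Coprime k.factorial p := by
    rw [Nat.coprime_comm, Nat.Prime.coprime_iff_not_dvd hp.out, hp.out.dvd_factorial]
    omega
  have h1 : IsCoprime (k.factorial : ℤ) (p : ℤ) := Nat.isCoprime_iff_coprime.mpr hcop
  obtain ⟨u, v, huv⟩ := h1
  have h2 : ((u * k.factorial + v * p : ℤ) : B) = 1 := by rw [huv]; simp
  push_cast at h2
  rw [hB, mul_zero, add_zero] at h2
  exact IsUnit.of_mul_eq_one _ (by rw [mul_comm]; exact h2)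

include hB in
theorem cc_prime_vanish (k₀ : ℕ) (h2 : 2 ≤ k₀) (hk : k₀ < p) : cc (toAdd θ) b p k₀ = 0 := by
  let ι : B →+* Module.End ℤ B[X] := (Algebra.lmul ℤ B[X]).toRingHom.comp C
  let D : Module.End ℤ B[X] := (DD θ : B[X] →ₗ[ℤ] B[X])
  have hι : ∀ (c : B) (f : B[X]), ι c f = C c * f := fun c f => rfl
  have hDf : ∀ f : B[X], D f = DD θ f := fun f => rfl
  have hD : ∀ c : B, D * ι c = ι c * D + ι (toAdd θ c) := by
    intro c
    refine LinearMap.ext fun f => ?_
    simp only [Module.End.mul_apply, LinearMap.add_apply, hι, hDf, toAdd_apply]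
    exact DD_C_mul θ c f
  have hno := normal_order (toAdd θ) b ι D hD p
  -- the additive map `δ = b * DD`
  let δ : B[X] →+ B[X] := ((ι b * D : Module.End ℤ B[X]) : B[X] →ₗ[ℤ] B[X]).toAddMonoidHom
  have hδf : ∀ f : B[X], δ f = C b * DD θ f := fun f => rfl
  have hδ : ∀ x y : B[X], δ (x * y) = δ x * y + x * δ y := by
    intro x y
    rw [hδf, hδf, hδf, Derivation.leibniz, smul_eq_mul, smul_eq_mul]
    ring
  have hS : ((p : ℕ) : B[X]) = 0 := by
    rw [← C_eq_natCast, hB, C_0]
  have hL := iterate_prime_leibniz p hS δ hδ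
  have hX : ∀ j : ℕ, ∃ g : B[X], δ^[p] (X ^ (j + 2)) = X * g := by
    intro j
    induction j with
    | zero =>
      refine ⟨δ^[p] X + δ^[p] X, ?_⟩
      rw [show (X : B[X]) ^ (0 + 2) = X * X by ring, hL]
      ring
    | succ j ih =>
      obtain ⟨g, hg⟩ := ih
      refine ⟨g * X + X ^ (j + 1) * δ^[p] X, ?_⟩
      rw [show (X : B[X]) ^ (j + 1 + 2) = X ^ (j + 2) * X by ring, hL, hg]
      ring
  -- evaluate both sides at `X ^ k₀` and take the constant coefficient
  have hlhs : (((ι b * D) ^ p : Module.End ℤ B[X]) (X ^ k₀)).coeff 0 = 0 := by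
    rw [Module.End.pow_apply]
    obtain ⟨g, hg⟩ := hX (k₀ - 2)
    rw [show k₀ - 2 + 2 = k₀ by omega] at hg
    change (δ^[p] (X ^ k₀)).coeff 0 = 0
    rw [hg, coeff_X_mul_zero]
  rw [hno, LinearMap.sum_apply, finsetSum_coeff] at hlhs
  have hterm : ∀ k ∈ range (p + 1), ((ι (cc (toAdd θ) b p k) * D ^ k : Module.End ℤ B[X])
      (X ^ k₀)).coeff 0 = cc (toAdd θ) b p k * (if k = k₀ then (k₀.factorial : B) else 0) := by
    intro k _
    rw [Module.End.mul_apply, hι, coeff_C_mul, Module.End.pow_apply]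
    change _ * ((DD θ)^[k] (X ^ k₀)).coeff 0 = _
    rw [coeff_zero_DD_iterate]
  rw [Finset.sum_congr rfl hterm] at hlhs
  simp only [mul_ite, mul_zero] at hlhs
  rw [Finset.sum_ite_eq' (range (p + 1)) k₀, if_pos (Finset.mem_range.mpr (by omega))] at hlhs
  exact (isUnit_factorial p hB k₀ hk).mul_left_eq_zero.mp hlhs

end Vanish

end Groth.Agent.Lib.T2H4.PCurv
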