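import Groth.Agent.Lib.T2H4PCurv
import Groth.Prelude.Def_Conn
/-! p-linearity of the p-curvature: `pow_prime` and vanishing of p-curvature from the dual derivation. -/

set_option autoImplicit false
universe u v

namespace Groth.Agent.Lib.T2H4.PCurv

open Finset TensorProduct

section PowPrime

variable {B : Type*} [CommRing B] (p : ℕ) [hp : Fact p.Prime] (hB : (p : B) = 0)
  (θ : Derivation ℤ B B) (b : B) {E : Type*} [Ring E] (ι : B →+* E) (D : E)

include hB in
theorem pow_prime (hD : ∀ c : B, D * ι c = ι c * D + ι (θ c)) :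
    (ι b * D) ^ p = ι (b ^ p) * D ^ p + ι (cc (toAdd θ) b p 1) * D := by
  have h2 := hp.out.two_le
  rw [normal_order (toAdd θ) b ι D hD p]
  have hsub : ({1, p} : Finset ℕ) ⊆ range (p + 1) := by
    intro k hk
    simp only [Finset.mem_insert, Finset.mem_singleton] at hk
    rw [Finset.mem_range]
    omega
  rw [← Finset.sum_subset hsub]
  · rw [Finset.sum_pair (by omega : (1 : ℕ) ≠ p), cc_diag, pow_one, add_comm]
  · intro k hk hk'
    simp only [Finset.mem_insert, Finset.mem_singleton, not_or] at hk'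
    rw [Finset.mem_range] at hk
    rcases Nat.eq_zero_or_pos k with h0 | h0
    · subst h0
      obtain ⟨m, hm⟩ : ∃ m, p = m + 1 := ⟨p - 1, by omega⟩
      rw [hm, cc_col_zero (toAdd θ) b (by simp) m, map_zero, zero_mul]
    · rw [cc_prime_vanish p hB θ b k (by omega) (by omega), map_zero, zero_mul]

end PowPrime

section App

variable {A : Type v} {B M : Type u} [CommRing A] [CommRing B] [Algebra A B]
  [AddCommGroup M] [Module B M] [Module A M] [IsScalarTower A B M]

/-- scalar action as ring hom into `End_A(M)` -/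
noncomputable abbrev iM : B →+* Module.End A M := Module.toModuleEnd A (S := B) M

lemma alongDer_apply (nabla : M →ₗ[A] M ⊗[B] Ω[B⁄A]) (θ : Derivation A B B) (m : M) :
    Conn.alongDer nabla θ m =
      TensorProduct.rid B M (TensorProduct.map LinearMap.id θ.liftKaehlerDifferential (nabla m)) :=
  rfl

lemma alongDer_comb (nabla : M →ₗ[A] M ⊗[B] Ω[B⁄A]) (c₁ c₂ : B) (θ₁ θ₂ : Derivation A B B) :
    Conn.alongDer nabla (c₁ • θ₁ + c₂ • θ₂) =
      iM (A := A) (M := M) c₁ * Conn.alongDer nabla θ₁ + iM (A := A) (M := M) c₂ * Conn.alongDer nabla θ₂ := by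
  refine LinearMap.ext fun m => ?_
  have hl : (c₁ • θ₁ + c₂ • θ₂).liftKaehlerDifferential =
      c₁ • θ₁.liftKaehlerDifferential + c₂ • θ₂.liftKaehlerDifferential := by
    have := map_add (KaehlerDifferential.linearMapEquivDerivation A B (M := B)).symm
      (c₁ • θ₁) (c₂ • θ₂)
    rw [map_smul, map_smul] at this
    exact this
  simp only [alongDer_apply, LinearMap.add_apply, Module.End.mul_apply, hl,
    TensorProduct.map_add_right, TensorProduct.map_smul_right, map_add, map_smul,
    LinearMap.smul_apply]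
  rfl

lemma alongDer_smul_comm (nabla : M →ₗ[A] M ⊗[B] Ω[B⁄A])
    (hc : Conn.IsConn (KaehlerDifferential.D A B) nabla) (θ : Derivation A B B) (c : B) :
    Conn.alongDer nabla θ * iM (A := A) (M := M) c =
      iM (A := A) (M := M) c * Conn.alongDer nabla θ + iM (A := A) (M := M) (θ c) := by
  refine LinearMap.ext fun m => ?_
  simp only [Module.End.mul_apply, LinearMap.add_apply, alongDer_apply]
  change TensorProduct.rid B M (TensorProduct.map LinearMap.id θ.liftKaehlerDifferential
    (nabla (c • m))) = c • _ + θ c • m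
  rw [hc c m, map_add, map_add, map_smul, map_smul, TensorProduct.map_tmul, TensorProduct.rid_tmul,
    Derivation.liftKaehlerDifferential_comp_D]
  rfl

theorem main (p : ℕ) [hp : Fact p.Prime] [CharP B p]
    (bΩ : Module.Basis (Fin 1) B (Ω[B⁄A])) (θ₀ : Derivation A B B)
    (hθ₀ : θ₀.liftKaehlerDifferential (bΩ 0) = 1)
    (nabla : M →ₗ[A] M ⊗[B] Ω[B⁄A])
    (hc : Conn.IsConn (KaehlerDifferential.D A B) nabla)
    (h0 : ∀ θp : Derivation A B B, Conn.IsIterPow θ₀ p θp → Conn.pCurv p nabla θ₀ θp = 0)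
    (θ θp : Derivation A B B) (hθp : Conn.IsIterPow θ p θp) : Conn.pCurv p nabla θ θp = 0 := by
  have hB : ((p : ℕ) : B) = 0 := CharP.cast_eq_zero B p
  set b : B := θ.liftKaehlerDifferential (bΩ 0) with hb
  -- every derivation is a multiple of `θ₀`
  have hθ : θ = b • θ₀ := by
    refine Derivation.ext fun c => ?_
    obtain ⟨r, hr⟩ : ∃ r : B, KaehlerDifferential.D A B c = r • bΩ 0 := by
      refine ⟨bΩ.repr (KaehlerDifferential.D A B c) 0, ?_⟩
      have := bΩ.sum_repr (KaehlerDifferential.D A B c)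
      rw [Fin.sum_univ_one] at this
      exact this.symm
    have e1 : θ c = r * b := by
      rw [← Derivation.liftKaehlerDifferential_comp_D θ c, hr, map_smul, smul_eq_mul]
    have e2 : θ₀ c = r := by
      rw [← Derivation.liftKaehlerDifferential_comp_D θ₀ c, hr, map_smul, hθ₀, smul_eq_mul, mul_one]
    rw [Derivation.smul_apply, e1, e2, smul_eq_mul, mul_comm]
  let θ₀' : Derivation ℤ B B := θ₀.restrictScalars ℤ
  have hθ₀' : ∀ c, θ₀' c = θ₀ c := fun c => rfl
  -- the `p`-th iterate of `θ₀` as a derivation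
  have hL := iterate_prime_leibniz p hB (toAdd θ₀')
    (fun x y => by
      simp only [toAdd_apply, hθ₀', Derivation.leibniz, smul_eq_mul]; ring)
  have hL' : ∀ x y : B, (⇑θ₀)^[p] (x * y) = (⇑θ₀)^[p] x * y + x * (⇑θ₀)^[p] y := hL
  let θ₀p : Derivation A B B := Derivation.mk' ((θ₀ : B →ₗ[A] B) ^ p) (fun x y => by
    rw [Module.End.pow_apply, Module.End.pow_apply, Module.End.pow_apply]
    change (⇑θ₀)^[p] (x * y) = x * (⇑θ₀)^[p] y + y * (⇑θ₀)^[p] x
    rw [hL']; ring)
  have hθ₀p : ∀ c, θ₀p c = (⇑θ₀)^[p] c := fun c => by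
    change ((θ₀ : B →ₗ[A] B) ^ p) c = _
    rw [Module.End.pow_apply]; rfl
  have hiter₀ : Conn.IsIterPow θ₀ p θ₀p := hθ₀p
  set γ : B := cc (toAdd θ₀') b p 1 with hγ
  -- the identity in `End_A(B)`
  let ιB : B →+* Module.End A B := Module.toModuleEnd A (S := B) B
  let DB : Module.End A B := (θ₀ : B →ₗ[A] B)
  have hDB : ∀ c : B, DB * ιB c = ιB c * DB + ιB (θ₀' c) := by
    intro c
    refine LinearMap.ext fun x => ?_
    change θ₀ (c • x) = c • θ₀ x + θ₀ c • x
    rw [smul_eq_mul, Derivation.leibniz, smul_eq_mul, smul_eq_mul, smul_eq_mul, mul_comm x]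
  have hpB := pow_prime p hB θ₀' b ιB DB hDB
  have hθp' : θp = b ^ p • θ₀p + γ • θ₀ := by
    refine Derivation.ext fun c => ?_
    rw [hθp c]
    have hfun : (⇑θ : B → B) = ⇑(ιB b * DB : Module.End A B) := by
      funext x
      rw [hθ]
      rfl
    have h1 := congrArg (fun f : Module.End A B => f c) hpB
    simp only [Module.End.pow_apply, LinearMap.add_apply, Module.End.mul_apply] at h1
    rw [hfun, h1, Derivation.add_apply, Derivation.smul_apply, Derivation.smul_apply, hθ₀p]
    rfl
  -- the identity in `End_A(M)`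
  have hpM := pow_prime p hB θ₀' b (iM (A := A) (M := M)) (Conn.alongDer nabla θ₀)
    (alongDer_smul_comm nabla hc θ₀)
  have halong : Conn.alongDer nabla θ = iM (A := A) (M := M) b * Conn.alongDer nabla θ₀ := by
    have := alongDer_comb nabla b 0 θ₀ θ₀
    rw [zero_smul, add_zero, map_zero, zero_mul, add_zero] at this
    rw [hθ]; exact this
  have h00 := h0 θ₀p hiter₀
  rw [Conn.pCurv, sub_eq_zero] at h00
  rw [Conn.pCurv, halong, hpM, hθp', alongDer_comb, h00, ← hγ]
  abel

end App

end Groth.Agent.Lib.T2H4.PCurv
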