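import Mathlib.NumberTheory.Padics.RingHoms
import Mathlib.LinearAlgebra.FreeModule.PID
import Mathlib.LinearAlgebra.FreeModule.Finite.Quotient
import Mathlib.GroupTheory.Index
import Mathlib.LinearAlgebra.Quotient.Pi
import Mathlib.Algebra.Module.Torsion.Basic
import Mathlib.LinearAlgebra.Dimension.RankNullity
import Mathlib.LinearAlgebra.Dimension.Localization
import Mathlib.Tactic.NoncommRing

/-! Torsion of coinvariants of an order-`ℓ` automorphism of a `ℤ_ℓ`-lattice (S18599). -/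

set_option autoImplicit false
universe u

namespace Groth.Agent.Lib.T2H4.PadicAut

open Pointwise

variable {ℓ : ℕ} [Fact ℓ.Prime]

theorem card_quot_span : Nat.card (ℤ_[ℓ] ⧸ Ideal.span {(ℓ : ℤ_[ℓ])}) = ℓ := by
  rw [← PadicInt.maximalIdeal_eq_span_p]
  show Nat.card (IsLocalRing.ResidueField ℤ_[ℓ]) = ℓ
  rw [Nat.card_congr (PadicInt.residueField (p := ℓ)).toEquiv, Nat.card_zmod]

theorem card_quot_smul_top (N : Type*) [AddCommGroup N] [Module ℤ_[ℓ] N] [Module.Free ℤ_[ℓ] N]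
    [Module.Finite ℤ_[ℓ] N] :
    Nat.card (N ⧸ ((ℓ : ℤ_[ℓ]) • (⊤ : Submodule ℤ_[ℓ] N))) = ℓ ^ Module.finrank ℤ_[ℓ] N := by
  classical
  set c := Module.finrank ℤ_[ℓ] N with hc
  let b := Module.finBasis ℤ_[ℓ] N
  let e := b.equivFun
  let N' : Submodule ℤ_[ℓ] (Fin c → ℤ_[ℓ]) :=
    Submodule.pi Set.univ fun _ => (Ideal.span {(ℓ : ℤ_[ℓ])} : Submodule ℤ_[ℓ] ℤ_[ℓ])
  have hmap : Submodule.map (e : N →ₗ[ℤ_[ℓ]] (Fin c → ℤ_[ℓ])) ((ℓ : ℤ_[ℓ]) • ⊤) = N' := by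
    rw [Submodule.map_pointwise_smul, Submodule.map_top, LinearMap.range_eq_top.mpr e.surjective]
    ext x
    simp only [N', Submodule.mem_pi, Set.mem_univ, forall_true_left,
      Submodule.mem_smul_pointwise_iff_exists, Submodule.mem_top, true_and]
    constructor
    · rintro ⟨s, rfl⟩ i
      exact Ideal.mem_span_singleton.mpr ⟨s i, by simp⟩
    · intro h
      choose t ht using fun i => Ideal.mem_span_singleton.mp (h i)
      exact ⟨t, funext fun i => by simp [ht i]⟩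
  have e1 := Submodule.Quotient.equiv _ N' e hmap
  have e2 := Submodule.quotientPi
    (fun _ : Fin c => (Ideal.span {(ℓ : ℤ_[ℓ])} : Submodule ℤ_[ℓ] ℤ_[ℓ]))
  rw [Nat.card_congr (e1.trans e2).toEquiv, Nat.card_pi, Finset.prod_const]
  simp [card_quot_span]

theorem index_range_pow {R : Type*} [Ring R] {N : Type*} [AddCommGroup N] [Module R N]
    (φ : N →ₗ[R] N) (hφ : Function.Injective φ) (m : ℕ) :
    (LinearMap.range (φ ^ m)).toAddSubgroup.index = (LinearMap.range φ).toAddSubgroup.index ^ m := by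
  induction m with
  | zero => simp [Module.End.one_eq_id]
  | succ m ih =>
    have h1 : LinearMap.range (φ ^ (m + 1)) = Submodule.map φ (LinearMap.range (φ ^ m)) := by
      rw [pow_succ', Module.End.mul_eq_comp, LinearMap.range_comp]
    rw [h1, Submodule.map_toAddSubgroup]
    rw [AddSubgroup.index_map_of_injective (f := (φ : N →+ N)) _ hφ, ih, pow_succ]
    rfl


theorem count {N : Type*} [AddCommGroup N] [Module ℤ_[ℓ] N] [Module.Free ℤ_[ℓ] N]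
    [Module.Finite ℤ_[ℓ] N]
    (φ : N →ₗ[ℤ_[ℓ]] N) (hφ : Function.Injective φ) (m : ℕ) (hm : 0 < m)
    (hr : LinearMap.range (φ ^ m) = (ℓ : ℤ_[ℓ]) • (⊤ : Submodule ℤ_[ℓ] N)) :
    ∃ r : ℕ, r * m = Module.finrank ℤ_[ℓ] N ∧ Nat.card (N ⧸ LinearMap.range φ) = ℓ ^ r := by
  have h1 := index_range_pow φ hφ m
  rw [hr] at h1
  have h2 : ((ℓ : ℤ_[ℓ]) • (⊤ : Submodule ℤ_[ℓ] N)).toAddSubgroup.index
      = ℓ ^ Module.finrank ℤ_[ℓ] N := card_quot_smul_top N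
  rw [h2] at h1
  have hp : Nat.Prime ℓ := Fact.out
  have hdvd : (LinearMap.range φ).toAddSubgroup.index ∣ ℓ ^ Module.finrank ℤ_[ℓ] N :=
    h1 ▸ dvd_pow_self _ hm.ne'
  obtain ⟨r, -, hr'⟩ := (Nat.dvd_prime_pow hp).mp hdvd
  refine ⟨r, ?_, hr'⟩
  rw [hr', ← pow_mul] at h1
  exact Nat.pow_right_injective hp.two_le h1.symm

theorem main_abstract (M : Type u) [AddCommGroup M] [Module ℤ_[ℓ] M] [Module.Free ℤ_[ℓ] M]
    [Module.Finite ℤ_[ℓ] M]
    (f E g : Module.End ℤ_[ℓ] M) (hE : E * E = E) (hfE : f * E = 0) (hEf : E * f = 0)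
    (hfg : f * g = (ℓ : ℤ_[ℓ]) • (1 - E)) (hgf : g * f = (ℓ : ℤ_[ℓ]) • (1 - E))
    (m : ℕ) (hm0 : 0 < m)
    (hm : ∀ x, E x = 0 → ((∃ y, E y = 0 ∧ (f ^ m) y = x) ↔ ∃ y, E y = 0 ∧ x = (ℓ : ℤ_[ℓ]) • y)) :
    (∀ x ∈ Submodule.torsion ℤ_[ℓ] (M ⧸ LinearMap.range f), (ℓ : ℤ_[ℓ]) • x = 0) ∧
      ∃ r : ℕ, r * m = Module.finrank ℤ_[ℓ] M - Module.finrank ℤ_[ℓ] (LinearMap.ker f) ∧
        Nat.card (Submodule.torsion ℤ_[ℓ] (M ⧸ LinearMap.range f)) = ℓ ^ r := by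
  have hℓ : (ℓ : ℤ_[ℓ]) ≠ 0 := by exact_mod_cast (Fact.out : ℓ.Prime).ne_zero
  have hEf' : ∀ x, E (f x) = 0 := fun x => by
    simpa using LinearMap.congr_fun hEf x
  have hfE' : ∀ x, f (E x) = 0 := fun x => by
    simpa using LinearMap.congr_fun hfE x
  have hE' : ∀ x, E (E x) = E x := fun x => by
    simpa using LinearMap.congr_fun hE x
  have hfg' : ∀ x, f (g x) = (ℓ : ℤ_[ℓ]) • (x - E x) := fun x => by
    simpa using LinearMap.congr_fun hfg x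
  have hgf' : ∀ x, g (f x) = (ℓ : ℤ_[ℓ]) • (x - E x) := fun x => by
    simpa using LinearMap.congr_fun hgf x
  let K := LinearMap.ker E
  have hfK : ∀ x ∈ K, f x ∈ K := fun x _ => LinearMap.mem_ker.mpr (hEf' x)
  let φ : K →ₗ[ℤ_[ℓ]] K := f.restrict hfK
  let ψ : K →ₗ[ℤ_[ℓ]] M ⧸ LinearMap.range f := (LinearMap.range f).mkQ ∘ₗ K.subtype
  have hkill : ∀ k ∈ K, (ℓ : ℤ_[ℓ]) • (Submodule.Quotient.mk k : M ⧸ LinearMap.range f) = 0 := by
    intro k hk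
    rw [← Submodule.Quotient.mk_smul, Submodule.Quotient.mk_eq_zero]
    refine ⟨g k, ?_⟩
    rw [hfg', LinearMap.mem_ker.mp hk, sub_zero]
  have hψrange : LinearMap.range ψ = Submodule.torsion ℤ_[ℓ] (M ⧸ LinearMap.range f) := by
    ext x
    constructor
    · rintro ⟨⟨k, hk⟩, rfl⟩
      rw [Submodule.mem_torsion_iff]
      exact ⟨⟨(ℓ : ℤ_[ℓ]), mem_nonZeroDivisors_of_ne_zero hℓ⟩, hkill k hk⟩
    · intro hx
      obtain ⟨a, ha⟩ := (Submodule.mem_torsion_iff _).mp hx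
      obtain ⟨m0, rfl⟩ := Submodule.Quotient.mk_surjective _ x
      rw [Submonoid.smul_def, ← Submodule.Quotient.mk_smul, Submodule.Quotient.mk_eq_zero] at ha
      obtain ⟨y, hy⟩ := ha
      have : E m0 = 0 := by
        have h1 : (a : ℤ_[ℓ]) • E m0 = 0 := by rw [← map_smul, ← hy, hEf']
        exact (smul_eq_zero.mp h1).resolve_left (nonZeroDivisors.coe_ne_zero a)
      exact ⟨⟨m0, this⟩, rfl⟩
  have hψker : LinearMap.ker ψ = LinearMap.range φ := by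
    ext ⟨k, hk⟩
    rw [LinearMap.mem_ker]
    show (Submodule.Quotient.mk k : M ⧸ LinearMap.range f) = 0 ↔ _
    rw [Submodule.Quotient.mk_eq_zero]
    constructor
    · rintro ⟨y, hy⟩
      refine ⟨⟨y - E y, ?_⟩, ?_⟩
      · show E (y - E y) = 0
        rw [map_sub, hE', sub_self]
      · apply Subtype.ext
        show f (y - E y) = k
        rw [map_sub, hfE', sub_zero, hy]
    · rintro ⟨⟨y, hy⟩, h⟩
      exact ⟨y, congrArg Subtype.val h⟩
  have hφinj : Function.Injective φ := by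
    rw [← LinearMap.ker_eq_bot, LinearMap.ker_eq_bot']
    rintro ⟨k, hk⟩ h
    have h1 : f k = 0 := congrArg Subtype.val h
    have h2 : (ℓ : ℤ_[ℓ]) • (k - E k) = 0 := by rw [← hgf', h1, map_zero]
    rw [LinearMap.mem_ker.mp hk, sub_zero] at h2
    apply Subtype.ext
    exact (smul_eq_zero.mp h2).resolve_left hℓ
  have hφpow : LinearMap.range (φ ^ m) = (ℓ : ℤ_[ℓ]) • (⊤ : Submodule ℤ_[ℓ] K) := by
    have hpow : ∀ y : K, ((φ ^ m) y : M) = (f ^ m) y := fun y => by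
      rw [Module.End.pow_restrict]; rfl
    ext ⟨k, hk⟩
    rw [Submodule.mem_smul_pointwise_iff_exists]
    constructor
    · rintro ⟨y, hy⟩
      obtain ⟨y', hy', hxy⟩ := (hm k hk).mp ⟨y, y.2, by rw [← hpow, hy]⟩
      exact ⟨⟨y', hy'⟩, trivial, Subtype.ext hxy.symm⟩
    · rintro ⟨y, -, hy⟩
      obtain ⟨y', hy', h⟩ := (hm k hk).mpr ⟨y, y.2, (congrArg Subtype.val hy).symm⟩
      exact ⟨⟨y', hy'⟩, Subtype.ext (by rw [hpow]; exact h)⟩
  have hkerf : LinearMap.ker f = LinearMap.range E := by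
    ext x
    constructor
    · intro hx
      have h2 : (ℓ : ℤ_[ℓ]) • (x - E x) = 0 := by
        rw [← hgf', LinearMap.mem_ker.mp hx, map_zero]
      have := (smul_eq_zero.mp h2).resolve_left hℓ
      exact ⟨x, (sub_eq_zero.mp this).symm⟩
    · rintro ⟨y, rfl⟩
      exact hfE' y
  have hrank : Module.finrank ℤ_[ℓ] K
      = Module.finrank ℤ_[ℓ] M - Module.finrank ℤ_[ℓ] (LinearMap.ker f) := by
    rw [hkerf]
    have h1 : Module.finrank ℤ_[ℓ] (M ⧸ LinearMap.ker E) + Module.finrank ℤ_[ℓ] K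
        = Module.finrank ℤ_[ℓ] M := (LinearMap.ker E).finrank_quotient_add_finrank
    have h2 := LinearEquiv.finrank_eq E.quotKerEquivRange
    omega
  obtain ⟨r, hr1, hr2⟩ := count φ hφinj m hm0 hφpow
  refine ⟨?_, r, by rw [hr1, hrank], ?_⟩
  · intro x hx
    rw [← hψrange] at hx
    obtain ⟨⟨k, hk⟩, rfl⟩ := hx
    exact hkill k hk
  · rw [← hψrange, ← hr2, ← hψker]
    exact Nat.card_congr ψ.quotKerEquivRange.symm.toEquiv


section cases

variable (M : Type u) [AddCommGroup M] [Module ℤ_[ℓ] M] [Module.Free ℤ_[ℓ] M]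
  [Module.Finite ℤ_[ℓ] M]

theorem smul_eq_mul' (n : ℕ) (X : Module.End ℤ_[ℓ] M) :
    ((n : ℕ) : ℤ_[ℓ]) • X = (n : Module.End ℤ_[ℓ] M) * X := by
  rw [Nat.cast_smul_eq_nsmul, nsmul_eq_mul]

theorem end_tf (n : ℕ) (hn : n ≠ 0) (c : Module.End ℤ_[ℓ] M) (hc : c = (n : Module.End ℤ_[ℓ] M))
    (X : Module.End ℤ_[ℓ] M) (h : c * X = 0) : X = 0 := by
  subst hc
  ext x
  have h1 := LinearMap.congr_fun h x
  rw [Module.End.mul_apply, Module.End.natCast_apply, ← Nat.cast_smul_eq_nsmul ℤ_[ℓ]] at h1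
  exact (smul_eq_zero.mp h1).resolve_left (Nat.cast_ne_zero.mpr hn)

theorem case_two (hℓ : ℓ = 2) (a f B : Module.End ℤ_[ℓ] M) (ha : a * a = 1) (hf : f = a - 1)
    (hB : f = (ℓ : ℤ_[ℓ]) • B) :
    (∀ x ∈ Submodule.torsion ℤ_[ℓ] (M ⧸ LinearMap.range f), (ℓ : ℤ_[ℓ]) • x = 0) ∧
      ∃ r : ℕ, r * 1 = Module.finrank ℤ_[ℓ] M - Module.finrank ℤ_[ℓ] (LinearMap.ker f) ∧
        Nat.card (Submodule.torsion ℤ_[ℓ] (M ⧸ LinearMap.range f)) = ℓ ^ r := by
  have h2 : ((ℓ : ℕ) : Module.End ℤ_[ℓ] M) = 2 :=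
    (congrArg (fun n : ℕ => (n : Module.End ℤ_[ℓ] M)) hℓ).trans Nat.cast_ofNat
  have hB2 : f = 2 * B := by rw [hB, smul_eq_mul', h2]
  have hff : f * f + 2 * f = 0 := by
    have : (f + 1) * (f + 1) = 1 := by rw [hf, sub_add_cancel, ha]
    calc f * f + 2 * f = (f + 1) * (f + 1) - 1 := by noncomm_ring
      _ = 0 := by rw [this, sub_self]
  have hBB : B * B + B = 0 := by
    apply end_tf M 4 (by norm_num) 4 (by norm_num)
    rw [hB2] at hff
    calc (4 : Module.End ℤ_[ℓ] M) * (B * B + B) = 2 * B * (2 * B) + 2 * (2 * B) := by noncomm_ring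
      _ = 0 := hff
  refine main_abstract M f (1 + B) (-1) ?_ ?_ ?_ ?_ ?_ 1 one_pos ?_
  · calc (1 + B) * (1 + B) = 1 + B + (B * B + B) := by noncomm_ring
      _ = 1 + B := by rw [hBB, add_zero]
  · rw [hB2]
    calc 2 * B * (1 + B) = 2 * (B * B + B) := by noncomm_ring
      _ = 0 := by rw [hBB, mul_zero]
  · rw [hB2]
    calc (1 + B) * (2 * B) = 2 * (B * B + B) := by noncomm_ring
      _ = 0 := by rw [hBB, mul_zero]
  · rw [smul_eq_mul', h2, hB2]; noncomm_ring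
  · rw [smul_eq_mul', h2, hB2]; noncomm_ring
  · intro x _
    have hBy : ∀ y, (1 + B) y = 0 → B y = -y := fun y hy => by
      have : y + B y = 0 := by simpa using hy
      exact eq_neg_of_add_eq_zero_right this
    have hfy : ∀ y, (1 + B) y = 0 → f y = -((ℓ : ℤ_[ℓ]) • y) := fun y hy => by
      rw [hB, LinearMap.smul_apply, hBy y hy, smul_neg]
    rw [pow_one]
    constructor
    · rintro ⟨y, hy, rfl⟩
      refine ⟨-y, by rw [map_neg, hy, neg_zero], ?_⟩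
      rw [hfy y hy, smul_neg]
    · rintro ⟨y, hy, rfl⟩
      refine ⟨-y, by rw [map_neg, hy, neg_zero], ?_⟩
      rw [map_neg, hfy y hy, neg_neg]

theorem case_two' (hℓ : ℓ = 2) (a f B : Module.End ℤ_[ℓ] M) (ha : a * a = 1) (hf : f = a - 1)
    (hB : f * f = 4 * B) :
    (∀ x ∈ Submodule.torsion ℤ_[ℓ] (M ⧸ LinearMap.range f), (ℓ : ℤ_[ℓ]) • x = 0) ∧
      ∃ r : ℕ, r * 1 = Module.finrank ℤ_[ℓ] M - Module.finrank ℤ_[ℓ] (LinearMap.ker f) ∧
        Nat.card (Submodule.torsion ℤ_[ℓ] (M ⧸ LinearMap.range f)) = ℓ ^ r := by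
  have h2 : ((ℓ : ℕ) : Module.End ℤ_[ℓ] M) = 2 :=
    (congrArg (fun n : ℕ => (n : Module.End ℤ_[ℓ] M)) hℓ).trans Nat.cast_ofNat
  have hff : f * f + 2 * f = 0 := by
    have : (f + 1) * (f + 1) = 1 := by rw [hf, sub_add_cancel, ha]
    calc f * f + 2 * f = (f + 1) * (f + 1) - 1 := by noncomm_ring
      _ = 0 := by rw [this, sub_self]
  have h1 : f + 2 * B = 0 := by
    apply end_tf M 2 (by norm_num) 2 (by norm_num)
    calc (2 : Module.End ℤ_[ℓ] M) * (f + 2 * B) = 4 * B + 2 * f := by noncomm_ring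
      _ = 0 := by rw [← hB, hff]
  refine case_two M hℓ a f (-B) ha hf ?_
  rw [smul_eq_mul', h2]
  calc f = f + 2 * B - 2 * B := by noncomm_ring
    _ = 2 * -B := by rw [h1]; noncomm_ring

theorem case_three (hℓ : ℓ = 3) (A : M ≃ₗ[ℤ_[ℓ]] M) (f B : Module.End ℤ_[ℓ] M)
    (hA : ∀ x, A (A (A x)) = x) (hf : f = (A : Module.End ℤ_[ℓ] M) - 1)
    (hB : f * f = 3 * B) :
    (∀ x ∈ Submodule.torsion ℤ_[ℓ] (M ⧸ LinearMap.range f), (ℓ : ℤ_[ℓ]) • x = 0) ∧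
      ∃ r : ℕ, r * 2 = Module.finrank ℤ_[ℓ] M - Module.finrank ℤ_[ℓ] (LinearMap.ker f) ∧
        Nat.card (Submodule.torsion ℤ_[ℓ] (M ⧸ LinearMap.range f)) = ℓ ^ r := by
  have h3 : ((ℓ : ℕ) : Module.End ℤ_[ℓ] M) = 3 :=
    (congrArg (fun n : ℕ => (n : Module.End ℤ_[ℓ] M)) hℓ).trans Nat.cast_ofNat
  have hAf : ∀ y, A y = f y + y := fun y => by
    rw [hf]; simp
  have h0 : f * f * f + 3 * (f * f) + 3 * f = 0 := by
    have : (f + 1) * (f + 1) * (f + 1) = 1 := by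
      rw [hf, sub_add_cancel]
      ext x
      exact hA x
    calc f * f * f + 3 * (f * f) + 3 * f = (f + 1) * (f + 1) * (f + 1) - 1 := by noncomm_ring
      _ = 0 := by rw [this, sub_self]
  have hBf : B * f - f * B = 0 := by
    apply end_tf M 3 (by norm_num) 3 (by norm_num)
    calc (3 : Module.End ℤ_[ℓ] M) * (B * f - f * B) = (3 * B) * f - f * (3 * B) := by noncomm_ring
      _ = 0 := by rw [← hB, mul_assoc, sub_self]
  obtain ⟨E, hEdef⟩ : ∃ E : Module.End ℤ_[ℓ] M, E = 1 + f + B := ⟨_, rfl⟩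
  have hfE : f * E = 0 := by
    apply end_tf M 3 (by norm_num) 3 (by norm_num)
    rw [hEdef]
    calc (3 : Module.End ℤ_[ℓ] M) * (f * (1 + f + B)) = 3 * f + 3 * (f * f) + f * (3 * B) := by
          noncomm_ring
      _ = f * f * f + 3 * (f * f) + 3 * f := by rw [← hB]; noncomm_ring
      _ = 0 := h0
  have hEf : E * f = 0 := by
    calc E * f = f * E + (B * f - f * B) := by rw [hEdef]; noncomm_ring
      _ = 0 := by rw [hfE, hBf, add_zero]
  have hEB : E * B = 0 := by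
    apply end_tf M 3 (by norm_num) 3 (by norm_num)
    calc (3 : Module.End ℤ_[ℓ] M) * (E * B) = E * (3 * B) := by noncomm_ring
      _ = (E * f) * f := by rw [← hB, mul_assoc]
      _ = 0 := by rw [hEf, zero_mul]
  have hE : E * E = E := by
    calc E * E = E * (1 + f + B) := by rw [← hEdef]
      _ = E + E * f + E * B := by noncomm_ring
      _ = E := by rw [hEf, hEB, add_zero, add_zero]
  have hfg : f * (-(3 + f)) = (ℓ : ℤ_[ℓ]) • (1 - E) := by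
    rw [smul_eq_mul', h3, hEdef]
    calc f * (-(3 + f)) = -(3 * f) - f * f := by noncomm_ring
      _ = -(3 * f) - 3 * B := by rw [hB]
      _ = 3 * (1 - (1 + f + B)) := by noncomm_ring
  have hgf : (-(3 + f)) * f = (ℓ : ℤ_[ℓ]) • (1 - E) := by
    rw [← hfg]; noncomm_ring
  have hEf' : ∀ y, E (f y) = 0 := fun y => by
    simpa using LinearMap.congr_fun hEf y
  have hEa : ∀ y, E (A y) = E y := fun y => by
    rw [hAf, map_add, hEf', zero_add]
  have hBy : ∀ y, E y = 0 → B y = -(A y) := fun y hy => by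
    rw [hEdef] at hy
    have h1 : y + f y + B y = 0 := by simpa using hy
    rw [hAf]
    have : B y + (f y + y) = 0 := by rw [← h1]; abel
    exact eq_neg_of_add_eq_zero_left this
  have hff : ∀ y, (f ^ 2) y = (ℓ : ℤ_[ℓ]) • B y := fun y => by
    rw [pow_two, hB, ← h3, ← smul_eq_mul', LinearMap.smul_apply]
  refine main_abstract M f E (-(3 + f)) hE hfE hEf hfg hgf 2 two_pos ?_
  intro x _
  constructor
  · rintro ⟨y, hy, rfl⟩
    refine ⟨-(A y), by rw [map_neg, hEa, hy, neg_zero], ?_⟩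
    rw [hff, hBy y hy]
  · rintro ⟨y, hy, rfl⟩
    have hy' : E (A.symm y) = 0 := by
      rw [← hEa, LinearEquiv.apply_symm_apply, hy]
    refine ⟨-(A.symm y), by rw [map_neg, hy', neg_zero], ?_⟩
    rw [map_neg, hff, hBy _ hy', LinearEquiv.apply_symm_apply, smul_neg, neg_neg]

theorem ofNat_smul_eq (n : ℕ) [n.AtLeastTwo] (X : Module.End ℤ_[ℓ] M) :
    (OfNat.ofNat n : ℤ_[ℓ]) • X = (OfNat.ofNat n : Module.End ℤ_[ℓ] M) * X := by
  rw [← Nat.cast_ofNat (R := ℤ_[ℓ]), smul_eq_mul', Nat.cast_ofNat]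

theorem final (A : M ≃ₗ[ℤ_[ℓ]] M) (hA : A ^ ℓ = 1) (f : Module.End ℤ_[ℓ] M)
    (hf : f = (A : M →ₗ[ℤ_[ℓ]] M) - 1)
    (hcase : (ℓ = 2 ∧ ∃ B : Module.End ℤ_[ℓ] M, f = (2 : ℤ_[ℓ]) • B) ∨
      (ℓ = 2 ∧ ∃ B : Module.End ℤ_[ℓ] M, f ^ 2 = (4 : ℤ_[ℓ]) • B) ∨
      (ℓ = 3 ∧ ∃ B : Module.End ℤ_[ℓ] M, f ^ 2 = (3 : ℤ_[ℓ]) • B))
    (c : ℕ) (hc : c = Module.finrank ℤ_[ℓ] M - Module.finrank ℤ_[ℓ] (LinearMap.ker f)) :
    (∀ x ∈ Submodule.torsion ℤ_[ℓ] (M ⧸ LinearMap.range f), (ℓ : ℤ_[ℓ]) • x = 0) ∧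
      ∃ r : ℕ, r * (ℓ - 1) = c ∧
        Nat.card (Submodule.torsion ℤ_[ℓ] (M ⧸ LinearMap.range f)) = ℓ ^ r := by
  have hsq : ℓ = 2 → (A : Module.End ℤ_[ℓ] M) * (A : Module.End ℤ_[ℓ] M) = 1 := by
    intro h2
    have hA2 : A ^ 2 = 1 := by
      rw [← congrArg (fun n : ℕ => A ^ n) h2]; exact hA
    ext x
    have := LinearEquiv.congr_fun hA2 x
    simpa [pow_two] using this
  rcases hcase with ⟨h2, B, hB⟩ | ⟨h2, B, hB⟩ | ⟨h3, B, hB⟩
  · have hB' : f = ((ℓ : ℕ) : ℤ_[ℓ]) • B := by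
      rw [hB, (congrArg (fun n : ℕ => (n : ℤ_[ℓ])) h2).trans Nat.cast_ofNat]
    obtain ⟨k1, r, hr1, hr2⟩ := case_two M h2 (A : Module.End ℤ_[ℓ] M) f B (hsq h2) hf hB'
    refine ⟨k1, r, ?_, hr2⟩
    have : ℓ - 1 = 1 := by omega
    rw [this, hr1, hc]
  · have hB' : f * f = 4 * B := by
      rw [← pow_two, hB, ofNat_smul_eq]
    obtain ⟨k1, r, hr1, hr2⟩ := case_two' M h2 (A : Module.End ℤ_[ℓ] M) f B (hsq h2) hf hB'
    refine ⟨k1, r, ?_, hr2⟩
    have : ℓ - 1 = 1 := by omega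
    rw [this, hr1, hc]
  · have hB' : f * f = 3 * B := by
      rw [← pow_two, hB, ofNat_smul_eq]
    have hA3 : A ^ 3 = 1 := by
      rw [← congrArg (fun n : ℕ => A ^ n) h3]; exact hA
    have hA' : ∀ x, A (A (A x)) = x := fun x => by
      have := LinearEquiv.congr_fun hA3 x
      simpa [pow_succ] using this
    obtain ⟨k1, r, hr1, hr2⟩ := case_three M h3 A f B hA' hf hB'
    refine ⟨k1, r, ?_, hr2⟩
    have : ℓ - 1 = 2 := by omega
    rw [this, hr1, hc]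

end cases

end Groth.Agent.Lib.T2H4.PadicAut
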