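import Mathlib
import Groth.Agent.Lib.Helper1LBC

/-!
# Descent of perfect complexes along filtered colimits of rings (helper4)

A bounded complex of finite projective modules is encoded as a splitting of an idempotent endomorphism
(given by matrices `P i`) of a complex of standard free modules `(Fin N → S)` with differentials given
by matrices `D i` (`Data`, `Data.Fr`, `Data.proj`, `Data.IsSplit`, `exists_data`).  Splittings are
unique up to isomorphism (`Data.IsSplit.unique`), exist (`Data.exists_split`), are bounded complexes of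
finite projective modules (`Data.IsSplit.termwise`, `Data.IsSplit.vanishes`) and are compatible with
termwise extension of scalars (`Data.IsSplit.bc`).  Finite families of elements / equations in a filtered
colimit of rings descend to some stage (`exists_lift_family`, `exists_equalize_family`).
-/

set_option autoImplicit false

namespace Groth.Agent.Lib.T2H4.PerfDescend

open CategoryTheory Limits

universe u

section Colim

variable {J : Type u} [SmallCategory J] [IsFiltered J]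
  (F : J ⥤ CommRingCat.{u}) (c : Cocone F) (hc : IsColimit c)

include hc

/-- a finite family of elements of a filtered colimit of rings lifts to some stage. -/
lemma exists_lift_family {T : Type*} [Finite T] (x : T → c.pt) :
    ∃ (j : J) (y : T → F.obj j), ∀ t, (c.ι.app j).hom (y t) = x t := by
  classical
  have h1 : ∀ t, ∃ (j : J) (y : F.obj j), (c.ι.app j).hom y = x t := fun t =>
    Concrete.isColimit_exists_rep F hc (x t)
  choose jt yt hyt using h1
  have := Fintype.ofFinite T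
  obtain ⟨S, hS⟩ := IsFiltered.sup_objs_exists (Finset.univ.image jt)
  have hS' : ∀ t, Nonempty (jt t ⟶ S) := fun t =>
    hS (Finset.mem_image_of_mem _ (Finset.mem_univ t))
  refine ⟨S, fun t => (F.map (hS' t).some).hom (yt t), fun t => ?_⟩
  rw [← hyt t, ← c.w (hS' t).some]
  rfl

/-- a finite family of equations holding in a filtered colimit of rings holds at some stage. -/
lemma exists_equalize_family {T : Type*} [Finite T] {j : J} (v w : T → F.obj j)
    (h : ∀ t, (c.ι.app j).hom (v t) = (c.ι.app j).hom (w t)) :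
    ∃ (k : J) (f : j ⟶ k), ∀ t, (F.map f).hom (v t) = (F.map f).hom (w t) := by
  classical
  induction T using Finite.induction_empty_option with
  | of_equiv e ih =>
    obtain ⟨k, f, hf⟩ := ih (v ∘ e) (w ∘ e) (fun t => h (e t))
    exact ⟨k, f, fun t => by simpa using hf (e.symm t)⟩
  | h_empty => exact ⟨j, 𝟙 j, fun t => t.elim⟩
  | h_option ih =>
    obtain ⟨k, f, hf⟩ := ih (fun t => v (some t)) (fun t => w (some t)) (fun t => h (some t))
    have h0 : (c.ι.app k).hom ((F.map f).hom (v none)) = (c.ι.app k).hom ((F.map f).hom (w none)) := by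
      have := h none
      rw [← c.w f] at this
      exact this
    obtain ⟨k', g, hg⟩ := (IsColimit.eq_iff' hc _ _).1 h0
    refine ⟨k', f ≫ g, fun t => ?_⟩
    cases t with
    | none => rw [F.map_comp]; exact hg
    | some t =>
      rw [F.map_comp]
      exact congrArg (F.map g).hom (hf t)

end Colim

section Mat

variable {S : Type u} [CommRing S] {N : ℕ}

/-- the endomorphism of the standard free module given by a matrix. -/
noncomputable def mat (M : Matrix (Fin N) (Fin N) S) :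
    ModuleCat.of S (Fin N → S) ⟶ ModuleCat.of S (Fin N → S) :=
  ModuleCat.ofHom (Matrix.toLin' M)

lemma mat_comp (A B : Matrix (Fin N) (Fin N) S) : mat A ≫ mat B = mat (B * A) := by
  unfold mat
  rw [← ModuleCat.ofHom_comp, ← Matrix.toLin'_mul]

lemma mat_zero : mat (0 : Matrix (Fin N) (Fin N) S) = 0 := by
  unfold mat
  simp

lemma mat_apply (A : Matrix (Fin N) (Fin N) S) (v : Fin N → S) :
    (mat A).hom v = A.mulVec v := rfl

lemma mat_injective : Function.Injective (mat : Matrix (Fin N) (Fin N) S → _) := by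
  intro A B h
  have := congrArg ModuleCat.Hom.hom h
  exact Matrix.toLin'.injective this

/-- the matrix of an endomorphism of the standard free module. -/
noncomputable def toMat (g : ModuleCat.of S (Fin N → S) ⟶ ModuleCat.of S (Fin N → S)) :
    Matrix (Fin N) (Fin N) S :=
  LinearMap.toMatrix' g.hom

lemma mat_toMat (g : ModuleCat.of S (Fin N → S) ⟶ ModuleCat.of S (Fin N → S)) :
    mat (toMat g) = g := by
  unfold mat toMat
  rw [Matrix.toLin'_toMatrix']
  rfl

end Mat

section Theta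

variable {S S' : Type u} [CommRing S] [CommRing S'] (φ : S →+* S') (N : ℕ)

open Groth.Agent.Lib.Helper1.LDer

/-- base change of the standard free module. -/
noncomputable def thetaEquiv :
    ((ModuleCat.extendScalars.{u, u, u} φ).obj (ModuleCat.of S (Fin N → S))) ≃ₗ[S'] (Fin N → S') :=
  letI := φ.toAlgebra
  (bcEquiv φ (ModuleCat.of S (Fin N → S))).trans (TensorProduct.piScalarRight S S' S' (Fin N))

open ModuleCat ChangeOfRings in
lemma thetaEquiv_tmul (s : S') (v : Fin N → S) :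
    thetaEquiv φ N (s ⊗ₜ[S,φ] v) = fun i => φ (v i) * s := by
  letI := φ.toAlgebra
  show (TensorProduct.piScalarRight S S' S' (Fin N)) (bcEquiv φ (ModuleCat.of S (Fin N → S)) (s ⊗ₜ[S,φ] v)) = _
  have : bcEquiv φ (ModuleCat.of S (Fin N → S)) (s ⊗ₜ[S,φ] v) = TensorProduct.tmul S s v := rfl
  rw [this]
  simp
  rfl

/-- the iso of module objects. -/
noncomputable def thetaIso :
    (ModuleCat.extendScalars.{u, u, u} φ).obj (ModuleCat.of S (Fin N → S)) ≅
      ModuleCat.of S' (Fin N → S') :=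
  (thetaEquiv φ N).toModuleIso

open ModuleCat ChangeOfRings in
lemma thetaIso_natural (M : Matrix (Fin N) (Fin N) S) :
    (ModuleCat.extendScalars.{u, u, u} φ).map (mat M) ≫ (thetaIso φ N).hom =
      (thetaIso φ N).hom ≫ mat (M.map φ) := by
  apply ModuleCat.ExtendScalars.hom_ext
  intro v
  have h1 : ((ModuleCat.extendScalars.{u, u, u} φ).map (mat M) ≫ (thetaIso φ N).hom)
      ((1 : S') ⊗ₜ[S,φ] v) = thetaEquiv φ N ((1 : S') ⊗ₜ[S,φ] (M.mulVec v)) := rfl
  have h2 : ((thetaIso φ N).hom ≫ mat (M.map φ)) ((1 : S') ⊗ₜ[S,φ] v) =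
      (M.map φ).mulVec (thetaEquiv φ N ((1 : S') ⊗ₜ[S,φ] v)) := rfl
  refine h1.trans (Eq.trans ?_ h2.symm)
  rw [thetaEquiv_tmul, thetaEquiv_tmul]
  funext i
  simp only [mul_one]
  exact RingHom.map_mulVec φ M v i

end Theta

/-- matrix data of a complex of standard free modules with an idempotent endomorphism. -/
@[ext] structure Data (S : Type u) [CommRing S] (N : ℕ) where
  D : ℤ → Matrix (Fin N) (Fin N) S
  P : ℤ → Matrix (Fin N) (Fin N) S
  DD : ∀ i, D (i + 1) * D i = 0
  PP : ∀ i, P i * P i = P i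
  DP : ∀ i, D i * P i = D i
  PD : ∀ i, P (i + 1) * D i = D i

namespace Data

variable {S : Type u} [CommRing S] {N : ℕ} (𝒟 : Data S N)

/-- the complex of standard free modules. -/
noncomputable def Fr : DRing.Cx S :=
  CochainComplex.of (fun _ => ModuleCat.of S (Fin N → S))
    (fun i => mat (𝒟.D i))
    (fun i => by rw [mat_comp, 𝒟.DD, mat_zero])

lemma Fr_d (i : ℤ) : 𝒟.Fr.d i (i + 1) = mat (𝒟.D i) := by
  unfold Fr
  exact CochainComplex.of_d (V := ModuleCat.{u} S) (fun _ => ModuleCat.of S (Fin N → S))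
    (fun i => mat (𝒟.D i)) i

/-- the idempotent endomorphism. -/
noncomputable def proj : 𝒟.Fr ⟶ 𝒟.Fr :=
  CochainComplex.ofHom (X := 𝒟.Fr) (Y := 𝒟.Fr) (fun i => mat (𝒟.P i))
    (fun i => by
      rw [Fr_d]
      show mat (𝒟.P i) ≫ mat (𝒟.D i) = mat (𝒟.D i) ≫ mat (𝒟.P (i + 1))
      rw [mat_comp, mat_comp, 𝒟.DP, 𝒟.PD])

lemma proj_f (i : ℤ) : 𝒟.proj.f i = mat (𝒟.P i) := rfl

lemma proj_idem : 𝒟.proj ≫ 𝒟.proj = 𝒟.proj := by
  ext i : 1
  rw [HomologicalComplex.comp_f, proj_f]
  show mat (𝒟.P i) ≫ mat (𝒟.P i) = mat (𝒟.P i)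
  rw [mat_comp, 𝒟.PP]

/-- `Y` is a splitting of the idempotent. -/
def IsSplit (Y : DRing.Cx S) : Prop :=
  ∃ (s : Y ⟶ 𝒟.Fr) (p : 𝒟.Fr ⟶ Y), s ≫ p = 𝟙 Y ∧ p ≫ s = 𝒟.proj

lemma exists_split : ∃ Y : DRing.Cx S, 𝒟.IsSplit Y := by
  obtain ⟨Y, s, p, h1, h2⟩ := IsIdempotentComplete.idempotents_split 𝒟.Fr 𝒟.proj 𝒟.proj_idem
  exact ⟨Y, s, p, h1, h2⟩

lemma IsSplit.unique {Y Y' : DRing.Cx S} (h : 𝒟.IsSplit Y) (h' : 𝒟.IsSplit Y') :
    Nonempty (Y ≅ Y') := by
  obtain ⟨s, p, h1, h2⟩ := h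
  obtain ⟨s', p', h1', h2'⟩ := h'
  refine ⟨⟨s ≫ p', s' ≫ p, ?_, ?_⟩⟩
  · calc (s ≫ p') ≫ s' ≫ p = s ≫ (p' ≫ s') ≫ p := by simp only [Category.assoc]
      _ = s ≫ (p ≫ s) ≫ p := by rw [h2', h2]
      _ = (s ≫ p) ≫ (s ≫ p) := by simp only [Category.assoc]
      _ = 𝟙 Y := by rw [h1, Category.comp_id]
  · calc (s' ≫ p) ≫ s ≫ p' = s' ≫ (p ≫ s) ≫ p' := by simp only [Category.assoc]
      _ = s' ≫ (p' ≫ s') ≫ p' := by rw [h2', h2]
      _ = (s' ≫ p') ≫ (s' ≫ p') := by simp only [Category.assoc]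
      _ = 𝟙 Y' := by rw [h1', Category.comp_id]

lemma IsSplit.termwise {Y : DRing.Cx S} (h : 𝒟.IsSplit Y) : DRing.TermwiseFiniteProjective Y := by
  obtain ⟨s, p, h1, h2⟩ := h
  intro i
  have h1i : s.f i ≫ p.f i = 𝟙 (Y.X i) := by
    rw [← HomologicalComplex.comp_f, h1, HomologicalComplex.id_f]
  let s' : Y.X i →ₗ[S] (Fin N → S) := (s.f i).hom
  let p' : (Fin N → S) →ₗ[S] Y.X i := (p.f i).hom
  have hc : p'.comp s' = LinearMap.id := by
    have := congrArg ModuleCat.Hom.hom h1i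
    exact this
  have hsurj : Function.Surjective p' := fun y => ⟨s' y, LinearMap.congr_fun hc y⟩
  constructor
  · exact Module.Finite.of_surjective p' hsurj
  · exact Module.Projective.of_split s' p' hc

lemma IsSplit.vanishes {Y : DRing.Cx S} (h : 𝒟.IsSplit Y) (a b : ℤ)
    (h0 : ∀ i : ℤ, i < a ∨ b < i → 𝒟.P i = 0) : DRing.VanishesOutside Y a b := by
  obtain ⟨s, p, h1, h2⟩ := h
  intro i hi
  have h1i : s.f i ≫ p.f i = 𝟙 (Y.X i) := by
    rw [← HomologicalComplex.comp_f, h1, HomologicalComplex.id_f]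
  have h2i : p.f i ≫ s.f i = 0 := by
    rw [← HomologicalComplex.comp_f, h2, proj_f, h0 i hi]
    exact mat_zero
  rw [IsZero.iff_id_eq_zero]
  calc 𝟙 (Y.X i) = (s.f i ≫ p.f i) ≫ (s.f i ≫ p.f i) := by rw [h1i, Category.comp_id]
    _ = s.f i ≫ (p.f i ≫ s.f i) ≫ p.f i := by simp only [Category.assoc]
    _ = 0 := by rw [h2i]; simp

section BC

variable {S' : Type u} [CommRing S'] (φ : S →+* S')

open Groth.Agent.Lib.Helper1.LDer

/-- base change of matrix data. -/
def map : Data S' N where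
  D i := (𝒟.D i).map φ
  P i := (𝒟.P i).map φ
  DD i := by rw [← Matrix.map_mul, 𝒟.DD]; simp
  PP i := by rw [← Matrix.map_mul, 𝒟.PP]
  DP i := by rw [← Matrix.map_mul, 𝒟.DP]
  PD i := by rw [← Matrix.map_mul, 𝒟.PD]

/-- base change of the free complex. -/
noncomputable def thetaCx : (bcCx φ).obj 𝒟.Fr ≅ (𝒟.map φ).Fr :=
  HomologicalComplex.Hom.isoOfComponents (fun _ => thetaIso φ N) (by
    rintro i j (rfl : i + 1 = j)
    rw [Fr_d]
    show _ = (ModuleCat.extendScalars.{u, u, u} φ).map (𝒟.Fr.d i (i + 1)) ≫ _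
    rw [Fr_d]
    exact (thetaIso_natural φ N (𝒟.D i)).symm)

lemma thetaCx_proj : (bcCx φ).map 𝒟.proj ≫ (𝒟.thetaCx φ).hom = (𝒟.thetaCx φ).hom ≫ (𝒟.map φ).proj := by
  ext i : 1
  exact thetaIso_natural φ N (𝒟.P i)

lemma IsSplit.bc {Y : DRing.Cx S} (h : 𝒟.IsSplit Y) : (𝒟.map φ).IsSplit ((bcCx φ).obj Y) := by
  obtain ⟨s, p, h1, h2⟩ := h
  refine ⟨(bcCx φ).map s ≫ (𝒟.thetaCx φ).hom, (𝒟.thetaCx φ).inv ≫ (bcCx φ).map p, ?_, ?_⟩
  · rw [Category.assoc, Iso.hom_inv_id_assoc, ← Functor.map_comp, h1, CategoryTheory.Functor.map_id]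
  · rw [Category.assoc, ← Functor.map_comp_assoc, h2, thetaCx_proj, Iso.inv_hom_id_assoc]

end BC

end Data

section ExistsData

variable {R : Type u} [CommRing R]

lemma exists_data (E : DRing.Cx R) (a b : ℤ) (hv : DRing.VanishesOutside E a b)
    (hp : DRing.TermwiseFiniteProjective E) :
    ∃ (N : ℕ) (𝒟 : Data R N), (∀ i : ℤ, i < a ∨ b < i → 𝒟.P i = 0) ∧ 𝒟.IsSplit E := by
  classical
  have hfin : ∀ i, Module.Finite R (E.X i) := fun i => (hp i).1
  have hproj : ∀ i, Module.Projective R (E.X i) := fun i => (hp i).2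
  obtain ⟨N, f, hf⟩ := Module.Finite.exists_fin' R (∀ i : ↥(Finset.Icc a b), E.X i)
  have hp' : ∀ i : ℤ, ∃ p : (Fin N → R) →ₗ[R] E.X i, Function.Surjective p := by
    intro i
    by_cases h : i ∈ Finset.Icc a b
    · refine ⟨(LinearMap.proj (⟨i, h⟩ : ↥(Finset.Icc a b))).comp f, ?_⟩
      intro y
      obtain ⟨x, hx⟩ := hf (Pi.single (⟨i, h⟩ : ↥(Finset.Icc a b)) y)
      exact ⟨x, by simp [hx]⟩
    · refine ⟨0, ?_⟩
      have : Subsingleton (E.X i) := ModuleCat.subsingleton_of_isZero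
        (hv i (by simp only [Finset.mem_Icc, not_and, not_le] at h; omega))
      intro y
      exact ⟨0, Subsingleton.elim _ _⟩
  choose p hpsurj using hp'
  have hs' : ∀ i, ∃ s : E.X i →ₗ[R] (Fin N → R), (p i).comp s = LinearMap.id := fun i =>
    Module.projective_lifting_property (p i) LinearMap.id (hpsurj i)
  choose s hs using hs'
  let pM : ∀ i, ModuleCat.of R (Fin N → R) ⟶ E.X i := fun i => ModuleCat.ofHom (p i)
  let sM : ∀ i, E.X i ⟶ ModuleCat.of R (Fin N → R) := fun i => ModuleCat.ofHom (s i)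
  have hsp : ∀ i, sM i ≫ pM i = 𝟙 _ := fun i => by
    apply ModuleCat.hom_ext
    exact hs i
  have hz : ∀ i, i < a ∨ b < i → pM i ≫ sM i = 0 := fun i hi => by
    rw [(hv i hi).eq_of_tgt (pM i) 0, zero_comp]
  let Dl : ∀ i : ℤ, ModuleCat.of R (Fin N → R) ⟶ ModuleCat.of R (Fin N → R) :=
    fun i => pM i ≫ E.d i (i + 1) ≫ sM (i + 1)
  let Pl : ∀ i : ℤ, ModuleCat.of R (Fin N → R) ⟶ ModuleCat.of R (Fin N → R) :=
    fun i => pM i ≫ sM i
  have hDD : ∀ i, Dl i ≫ Dl (i + 1) = 0 := fun i => by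
    simp only [Dl, Category.assoc, reassoc_of% (hsp (i + 1)), HomologicalComplex.d_comp_d_assoc,
      zero_comp, comp_zero]
  have hPP : ∀ i, Pl i ≫ Pl i = Pl i := fun i => by
    simp only [Pl, Category.assoc, reassoc_of% (hsp i)]
  have hPD : ∀ i, Pl i ≫ Dl i = Dl i := fun i => by
    simp only [Pl, Dl, Category.assoc, reassoc_of% (hsp i)]
  have hDP : ∀ i, Dl i ≫ Pl (i + 1) = Dl i := fun i => by
    simp only [Pl, Dl, Category.assoc, reassoc_of% (hsp (i + 1))]
  let 𝒟 : Data R N :=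
    { D := fun i => toMat (Dl i)
      P := fun i => toMat (Pl i)
      DD := fun i => mat_injective (by rw [← mat_comp, mat_toMat, mat_toMat, mat_zero, hDD])
      PP := fun i => mat_injective (by rw [← mat_comp, mat_toMat, hPP])
      DP := fun i => mat_injective (by rw [← mat_comp, mat_toMat, mat_toMat, hPD])
      PD := fun i => mat_injective (by rw [← mat_comp, mat_toMat, mat_toMat, hDP]) }
  refine ⟨N, 𝒟, fun i hi => mat_injective ?_, ?_⟩
  · show mat (toMat (Pl i)) = mat 0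
    rw [mat_toMat, mat_zero]
    exact hz i hi
  · refine ⟨{ f := fun i => sM i, comm' := ?_ }, { f := fun i => pM i, comm' := ?_ }, ?_, ?_⟩
    · rintro i j (rfl : i + 1 = j)
      rw [Data.Fr_d]
      show sM i ≫ mat (toMat (Dl i)) = E.d i (i + 1) ≫ sM (i + 1)
      rw [mat_toMat]
      simp only [Dl, reassoc_of% (hsp i)]
    · rintro i j (rfl : i + 1 = j)
      rw [Data.Fr_d]
      show pM i ≫ E.d i (i + 1) = mat (toMat (Dl i)) ≫ pM (i + 1)
      rw [mat_toMat]
      simp only [Dl, Category.assoc, hsp (i + 1), Category.comp_id]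
    · ext i : 1
      exact hsp i
    · ext i : 1
      show pM i ≫ sM i = mat (toMat (Pl i))
      rw [mat_toMat]

end ExistsData

section Rel

variable {S S' : Type u} [CommRing S] [CommRing S'] {N : ℕ}

/-- left sides of the four relations. -/
def lhs (D P : ℤ → Matrix (Fin N) (Fin N) S) (i : ℤ) : Fin 4 → Matrix (Fin N) (Fin N) S
  | 0 => D (i + 1) * D i
  | 1 => P i * P i
  | 2 => D i * P i
  | 3 => P (i + 1) * D i

/-- right sides of the four relations. -/
def rhs (D P : ℤ → Matrix (Fin N) (Fin N) S) (i : ℤ) : Fin 4 → Matrix (Fin N) (Fin N) S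
  | 0 => 0
  | 1 => P i
  | 2 => D i
  | 3 => D i

lemma lhs_map (D P : ℤ → Matrix (Fin N) (Fin N) S) (ψ : S →+* S') (i : ℤ) (q : Fin 4) :
    (lhs D P i q).map ψ = lhs (fun i => (D i).map ψ) (fun i => (P i).map ψ) i q := by
  fin_cases q <;> simp [lhs, Matrix.map_mul]

lemma rhs_map (D P : ℤ → Matrix (Fin N) (Fin N) S) (ψ : S →+* S') (i : ℤ) (q : Fin 4) :
    (rhs D P i q).map ψ = rhs (fun i => (D i).map ψ) (fun i => (P i).map ψ) i q := by
  fin_cases q <;> simp [rhs]

lemma Data.lhs_eq_rhs (𝒟 : Data S N) (i : ℤ) (q : Fin 4) : lhs 𝒟.D 𝒟.P i q = rhs 𝒟.D 𝒟.P i q := by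
  fin_cases q
  · exact 𝒟.DD i
  · exact 𝒟.PP i
  · exact 𝒟.DP i
  · exact 𝒟.PD i

end Rel

section Descend

variable {J : Type u} [SmallCategory J] [IsFiltered J]
  (F : J ⥤ CommRingCat.{u}) (c : Cocone F) (hc : IsColimit c)

include hc in
lemma exists_descend_data {N : ℕ} (𝒟 : Data c.pt N) (a b : ℤ)
    (h0 : ∀ i : ℤ, i < a ∨ b < i → 𝒟.P i = 0) :
    ∃ (j : J) (𝒟j : Data (F.obj j) N), (∀ i : ℤ, i < a ∨ b < i → 𝒟j.P i = 0) ∧
      𝒟j.map (c.ι.app j).hom = 𝒟 := by
  classical
  have h0D : ∀ i : ℤ, i < a ∨ b < i → 𝒟.D i = 0 := fun i hi => by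
    rw [← 𝒟.DP i, h0 i hi, mul_zero]
  have hout : ∀ i : ℤ, i ∉ Finset.Icc a b → i < a ∨ b < i := fun i h => by
    simp only [Finset.mem_Icc, not_and, not_le] at h
    omega
  -- Step 1: lift the entries
  obtain ⟨j₀, y, hy⟩ := exists_lift_family F c hc
    (fun t : Bool × ↥(Finset.Icc a b) × Fin N × Fin N =>
      if t.1 then 𝒟.D t.2.1 t.2.2.1 t.2.2.2 else 𝒟.P t.2.1 t.2.2.1 t.2.2.2)
  let D0 : ℤ → Matrix (Fin N) (Fin N) (F.obj j₀) := fun i =>
    if h : i ∈ Finset.Icc a b then Matrix.of (fun r c' => y (true, ⟨i, h⟩, r, c')) else 0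
  let P0 : ℤ → Matrix (Fin N) (Fin N) (F.obj j₀) := fun i =>
    if h : i ∈ Finset.Icc a b then Matrix.of (fun r c' => y (false, ⟨i, h⟩, r, c')) else 0
  have hD0out : ∀ i, i ∉ Finset.Icc a b → D0 i = 0 := fun i h => by simp only [D0, dif_neg h]
  have hP0out : ∀ i, i ∉ Finset.Icc a b → P0 i = 0 := fun i h => by simp only [P0, dif_neg h]
  have hD0 : ∀ i, (D0 i).map (c.ι.app j₀).hom = 𝒟.D i := by
    intro i
    by_cases h : i ∈ Finset.Icc a b
    · ext r c'
      simp only [D0, dif_pos h, Matrix.map_apply, Matrix.of_apply]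
      exact hy (true, ⟨i, h⟩, r, c')
    · rw [hD0out i h, h0D i (hout i h)]
      simp
  have hP0 : ∀ i, (P0 i).map (c.ι.app j₀).hom = 𝒟.P i := by
    intro i
    by_cases h : i ∈ Finset.Icc a b
    · ext r c'
      simp only [P0, dif_pos h, Matrix.map_apply, Matrix.of_apply]
      exact hy (false, ⟨i, h⟩, r, c')
    · rw [hP0out i h, h0 i (hout i h)]
      simp
  -- Step 2: equalize the relations
  obtain ⟨k, f, hf⟩ := exists_equalize_family F c hc
    (fun t : ↥(Finset.Icc a b) × Fin 4 × Fin N × Fin N => lhs D0 P0 t.1 t.2.1 t.2.2.1 t.2.2.2)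
    (fun t => rhs D0 P0 t.1 t.2.1 t.2.2.1 t.2.2.2) (by
      rintro ⟨i, q, r, c'⟩
      show ((lhs D0 P0 i q).map (c.ι.app j₀).hom) r c' = ((rhs D0 P0 i q).map (c.ι.app j₀).hom) r c'
      rw [lhs_map, rhs_map]
      have e1 : (fun i => (D0 i).map (c.ι.app j₀).hom) = 𝒟.D := funext hD0
      have e2 : (fun i => (P0 i).map (c.ι.app j₀).hom) = 𝒟.P := funext hP0
      rw [e1, e2, 𝒟.lhs_eq_rhs])
  have hrel : ∀ (i : ℤ) (q : Fin 4),
      lhs (fun i => (D0 i).map (F.map f).hom) (fun i => (P0 i).map (F.map f).hom) i q =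
        rhs (fun i => (D0 i).map (F.map f).hom) (fun i => (P0 i).map (F.map f).hom) i q := by
    intro i q
    by_cases h : i ∈ Finset.Icc a b
    · rw [← lhs_map, ← rhs_map]
      ext r c'
      exact hf (⟨i, h⟩, q, r, c')
    · fin_cases q <;> simp [lhs, rhs, hD0out i h, hP0out i h]
  refine ⟨k, { D := fun i => (D0 i).map (F.map f).hom
               P := fun i => (P0 i).map (F.map f).hom
               DD := fun i => hrel i 0
               PP := fun i => hrel i 1
               DP := fun i => hrel i 2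
               PD := fun i => hrel i 3 }, ?_, ?_⟩
  · intro i hi
    have h : i ∉ Finset.Icc a b := by
      simp only [Finset.mem_Icc, not_and, not_le]
      omega
    show (P0 i).map (F.map f).hom = 0
    rw [hP0out i h]
    simp
  · have hw : ∀ M : Matrix (Fin N) (Fin N) (F.obj j₀),
        (M.map (F.map f).hom).map (c.ι.app k).hom = M.map (c.ι.app j₀).hom := by
      intro M
      ext r c'
      simp only [Matrix.map_apply]
      rw [← c.w f]
      rfl
    ext i : 2
    · show ((D0 i).map (F.map f).hom).map (c.ι.app k).hom = 𝒟.D i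
      rw [hw, hD0]
    · show ((P0 i).map (F.map f).hom).map (c.ι.app k).hom = 𝒟.P i
      rw [hw, hP0]

end Descend


end Groth.Agent.Lib.T2H4.PerfDescend
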