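import Groth.Agent.Lib.T2H4DCompAdj

/-!
# Computing `RHom_A(B, -)` on fibrant complexes (helper4)
-/

set_option autoImplicit false
universe u
open CategoryTheory CategoryTheory.Limits DerivedCategory
attribute [local instance] HasDerivedCategory.standard

namespace Groth.Agent.Lib.T2H4.DComp

open Groth.Agent.Lib.Helper17.KInj Groth.Agent.Lib.Helper1.Extend Groth.Agent.Lib.Helper1.Restrict
  Pretriangulated

section Compute

variable {A B : Type u} [CommRing A] [CommRing B] (φ : A →+* B)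

lemma exists_fibrant (K : Dual.D A) :
    ∃ J : CochainComplex (ModuleCat.{u} A) ℤ, fibrant.{u} (ModuleCat.{u} A) J ∧
      Nonempty (K ≅ Q.obj J) := by
  let X := (Q : _ ⥤ Dual.D A).objPreimage K
  have hq : trivCof ((fibReplι₀.{u} (ModuleCat.{u} A)).app X) := trivCof_fibReplι₀ _ X
  haveI : QuasiIso ((fibReplι₀.{u} (ModuleCat.{u} A)).app X) := hq.2
  haveI : IsIso ((Q : _ ⥤ Dual.D A).map ((fibReplι₀.{u} (ModuleCat.{u} A)).app X)) := by
    rw [DerivedCategory.isIso_Q_map_iff_quasiIso]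
    infer_instance
  exact ⟨_, fibrant_fibRepl₀ _ X, ⟨(Q.objObjPreimageIso K).symm ≪≫
    asIso (Q.map ((fibReplι₀.{u} (ModuleCat.{u} A)).app X))⟩⟩

/-- `RHom_A(B, -)` is computed termwise on fibrant complexes. -/
noncomputable def RGQIso (J : CochainComplex (ModuleCat.{u} A) ℤ)
    (hJ : fibrant.{u} (ModuleCat.{u} A) J) :
    (RG φ).obj (Q.obj J) ≅ Q.obj (((ModuleCat.coextendScalars.{u, u, u} φ).mapHomologicalComplex
      (ComplexShape.up ℤ)).obj J) :=
  haveI := isIso_app_of_fibrant.{u} (ModuleCat.restrictScalars.{u} φ)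
    (ModuleCat.coextendScalars.{u, u, u} φ) (ModuleCat.restrictCoextendScalarsAdj.{u, u, u} φ)
    (RG φ) (βRG φ) J hJ
  (asIso ((βRG φ).app J)).symm

/-- the complex `Hom_A(B, J)` viewed over `A`. -/
noncomputable abbrev rcCx (J : CochainComplex (ModuleCat.{u} A) ℤ) :
    CochainComplex (ModuleCat.{u} A) ℤ :=
  (DRing.restrictCx φ).obj (((ModuleCat.coextendScalars.{u, u, u} φ).mapHomologicalComplex
      (ComplexShape.up ℤ)).obj J)

/-- evaluation at `1`: `Hom_A(B, J) ⟶ J`. -/
noncomputable def evOne (J : CochainComplex (ModuleCat.{u} A) ℤ) : rcCx φ J ⟶ J where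
  f n := (ModuleCat.restrictCoextendScalarsAdj.{u, u, u} φ).counit.app (J.X n)
  comm' i j _ := ((ModuleCat.restrictCoextendScalarsAdj.{u, u, u} φ).counit.naturality (J.d i j)).symm

noncomputable def FRGQIso (J : CochainComplex (ModuleCat.{u} A) ℤ)
    (hJ : fibrant.{u} (ModuleCat.{u} A) J) :
    (DRing.restrictD φ).obj ((RG φ).obj (Q.obj J)) ≅ Q.obj (rcCx φ J) :=
  (DRing.restrictD φ).mapIso (RGQIso φ J hJ) ≪≫ restrictQIso φ _

end Compute

end Groth.Agent.Lib.T2H4.DComp
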