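import Groth.Agent.Lib.T2H4HomCxFib
import Groth.Agent.Lib.T2H4RGCompute
import Groth.Agent.Lib.Helper17DBrown3

/-!
# `RHom(E, -)` only depends on the class of `E` in `D(A)`; duals of perfect complexes (helper4)
-/

set_option autoImplicit false
universe u
open CategoryTheory CategoryTheory.Limits
attribute [local instance] HasDerivedCategory.standard

namespace Groth.Agent.Lib.T2H4.HomCx

open CochainComplex HomComplex DerivedCategory Groth.Agent.Lib.Helper17.KInj
  Groth.Agent.Lib.Helper17.DBrown Groth.Agent.Lib.T2H4.DComp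

section general

variable {C : Type*} [Category C] [Abelian C]

lemma toHom_precomp {P E L : CochainComplex C ℤ} (s : P ⟶ E) {n : ℤ} (x : Cocycle E L n) :
    CohomologyClass.toHom (CohomologyClass.mk (x.precomp s)) =
      (HomotopyCategory.quotient C (ComplexShape.up ℤ)).map s ≫
        CohomologyClass.toHom (CohomologyClass.mk x) := by
  rw [CohomologyClass.toHom_mk, CohomologyClass.toHom_mk, Cocycle.equivHomShift_symm_precomp,
    Functor.map_comp]

lemma exists_precomp' {P E L : CochainComplex C ℤ} (s : P ⟶ E) {n : ℤ}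
    (hb : Function.Bijective
      (fun g : (HomotopyCategory.quotient C (ComplexShape.up ℤ)).obj E ⟶
          (HomotopyCategory.quotient C (ComplexShape.up ℤ)).obj (L⟦n⟧) =>
        (HomotopyCategory.quotient C (ComplexShape.up ℤ)).map s ≫ g))
    (x' : Cocycle P L n) :
    ∃ x : Cocycle E L n, CohomologyClass.mk (x.precomp s) = CohomologyClass.mk x' := by
  obtain ⟨g, hg⟩ := hb.2 (CohomologyClass.toHom (CohomologyClass.mk x'))
  obtain ⟨c, hc⟩ := (CohomologyClass.toHom_bijective E L n).2 g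
  obtain ⟨x, rfl⟩ := c.mk_surjective
  refine ⟨x, (CohomologyClass.toHom_bijective P L n).1 ?_⟩
  rw [toHom_precomp, hc]
  exact hg

lemma mk_eq_zero_of_precomp' {P E L : CochainComplex C ℤ} (s : P ⟶ E) {n : ℤ}
    (hb : Function.Bijective
      (fun g : (HomotopyCategory.quotient C (ComplexShape.up ℤ)).obj E ⟶
          (HomotopyCategory.quotient C (ComplexShape.up ℤ)).obj (L⟦n⟧) =>
        (HomotopyCategory.quotient C (ComplexShape.up ℤ)).map s ≫ g))
    (x : Cocycle E L n)
    (h : CohomologyClass.mk (x.precomp s) = 0) : CohomologyClass.mk x = 0 := by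
  apply (CohomologyClass.toHom_bijective E L n).1
  apply hb.1
  show _ ≫ CohomologyClass.toHom (CohomologyClass.mk x) = _ ≫ CohomologyClass.toHom 0
  rw [← toHom_precomp, h, map_zero (CohomologyClass.toHom (K := P) (L := L) (n := n)),
    map_zero (CohomologyClass.toHom (K := E) (L := L) (n := n)), comp_zero]

variable [HasDerivedCategory C]

/-- precomposition with a quasi-isomorphism is bijective on homotopy classes of maps into a
K-injective complex. -/
lemma precomp_bijective {P E : CochainComplex C ℤ} (s : P ⟶ E) [QuasiIso s]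
    (J : CochainComplex C ℤ) [J.IsKInjective] (n : ℤ) :
    Function.Bijective
      (fun g : (HomotopyCategory.quotient C (ComplexShape.up ℤ)).obj E ⟶
          (HomotopyCategory.quotient C (ComplexShape.up ℤ)).obj (J⟦n⟧) =>
        (HomotopyCategory.quotient C (ComplexShape.up ℤ)).map s ≫ g) := by
  have h1 := IsKInjective.Qh_map_bijective
    ((HomotopyCategory.quotient C (ComplexShape.up ℤ)).obj E) (J⟦n⟧)
  have h2 := IsKInjective.Qh_map_bijective
    ((HomotopyCategory.quotient C (ComplexShape.up ℤ)).obj P) (J⟦n⟧)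
  have hiso : IsIso (Qh.map ((HomotopyCategory.quotient C (ComplexShape.up ℤ)).map s)) :=
    (DerivedCategory.isIso_Qh_map_iff _).2
      ((HomotopyCategory.quotient_map_mem_quasiIso_iff _).2
        ((HomologicalComplex.mem_quasiIso_iff _).2 inferInstance))
  constructor
  · intro g g' h
    apply h1.1
    have h3 := congrArg (fun t => Qh.map t) h
    simp only [Functor.map_comp] at h3
    exact (cancel_epi _).1 h3
  · intro g'
    obtain ⟨g, hg⟩ := h1.2
      (inv (Qh.map ((HomotopyCategory.quotient C (ComplexShape.up ℤ)).map s)) ≫ Qh.map g')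
    refine ⟨g, h2.1 ?_⟩
    simp only [Functor.map_comp]
    rw [hg, IsIso.hom_inv_id_assoc]

end general

section Pre

variable {A : Type u} [CommRing A]

/-- precomposition with `s`, as a linear map on cochains. -/
noncomputable def precompLin {K K' : DRing.Cx A} (s : K ⟶ K') (L : DRing.Cx A) (i : ℤ) :
    Cochain K' L i →ₗ[A] Cochain K L i where
  toFun z := (Cochain.ofHom s).comp z (zero_add i)
  map_add' z z' := by simp
  map_smul' a z := by simp

/-- `Hom•(s, L) : Hom•(K', L) ⟶ Hom•(K, L)`. -/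
noncomputable def homCxPre {K K' : DRing.Cx A} (s : K ⟶ K') (L : DRing.Cx A) :
    DRing.homCx K' L ⟶ DRing.homCx K L where
  f i := ModuleCat.ofHom (precompLin s L i)
  comm' i j _ := by
    ext z
    change δ i j ((Cochain.ofHom s).comp z (zero_add i)) =
      (Cochain.ofHom s).comp (δ i j z) (zero_add j)
    exact δ_ofHom_comp s z j

open Groth.Agent.Lib.Helper17.HOne in
theorem quasiIso_homCxPre_of_bijective {P E : DRing.Cx A} (s : P ⟶ E) (L : DRing.Cx A)
    (hb : ∀ n : ℤ, Function.Bijective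
      (fun g : (HomotopyCategory.quotient (ModuleCat.{u} A) (ComplexShape.up ℤ)).obj E ⟶
          (HomotopyCategory.quotient (ModuleCat.{u} A) (ComplexShape.up ℤ)).obj (L⟦n⟧) =>
        (HomotopyCategory.quotient (ModuleCat.{u} A) (ComplexShape.up ℤ)).map s ≫ g)) :
    QuasiIso (homCxPre s L) := by
  rw [quasiIso_iff]
  intro n
  rw [quasiIsoAt_iff' _ (n - 1) n (n + 1) (by simp) (by simp)]
  apply quasiIso_of_elements
  · intro (x₂ : Cochain P L n) (hx₂ : δ n (n + 1) x₂ = 0)
    obtain ⟨c, hc⟩ := exists_precomp' s (hb n) (Cocycle.mk x₂ (n + 1) rfl hx₂)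
    have h0 : CohomologyClass.mk (c.precomp s - Cocycle.mk x₂ (n + 1) rfl hx₂) = 0 := by
      rw [CohomologyClass.mk_sub, hc, sub_self]
    rw [CohomologyClass.mk_eq_zero_iff, mem_coboundaries_iff _ (n - 1) (by simp)] at h0
    obtain ⟨β, hβ⟩ := h0
    refine ⟨(c.1 : Cochain E L n), Cocycle.δ_eq_zero c (n + 1), (β : Cochain P L (n - 1)), ?_⟩
    show (Cochain.ofHom s).comp c.1 (zero_add n) = x₂ + δ (n - 1) n β
    rw [hβ]
    simp
  · intro (x₁ : Cochain E L n) (hx₁ : δ n (n + 1) x₁ = 0)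
    rintro ⟨(y : Cochain P L (n - 1)), hy⟩
    have hy' : (Cochain.ofHom s).comp x₁ (zero_add n) = δ (n - 1) n y := hy
    have h0 : CohomologyClass.mk ((Cocycle.mk x₁ (n + 1) rfl hx₁).precomp s) = 0 := by
      rw [CohomologyClass.mk_eq_zero_iff, mem_coboundaries_iff _ (n - 1) (by simp)]
      exact ⟨y, hy'.symm⟩
    have h1 := mk_eq_zero_of_precomp' s (hb n) _ h0
    rw [CohomologyClass.mk_eq_zero_iff, mem_coboundaries_iff _ (n - 1) (by simp)] at h1
    obtain ⟨z, hz⟩ := h1
    exact ⟨(z : Cochain E L (n - 1)), hz⟩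

/-- `RHom(E, X) ≅ RHom(P, X)` for a quasi-isomorphism `P ⟶ E`. -/
theorem nonempty_RHomCx_iso_of_quasiIso {P E : DRing.Cx A} (s : P ⟶ E) [QuasiIso s]
    [DRing.HasRHomCx P] [DRing.HasRHomCx E] (X : Dual.D A) :
    Nonempty ((DRing.RHomCx E).obj X ≅ (DRing.RHomCx P).obj X) := by
  obtain ⟨J, hJ, ⟨e⟩⟩ := exists_fibrant X
  haveI := hJ.isKInjective
  haveI : QuasiIso (homCxPre s J) :=
    quasiIso_homCxPre_of_bijective s J (fun n => precomp_bijective s J n)
  haveI : IsIso ((Q : _ ⥤ Dual.D A).map (homCxPre s J)) :=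
    (isIso_Q_map_iff_quasiIso (φ := homCxPre s J)).2 inferInstance
  exact ⟨(DRing.RHomCx E).mapIso e ≪≫ RHomCxQIso E J hJ ≪≫
    asIso ((Q : _ ⥤ Dual.D A).map (homCxPre s J)) ≪≫ (RHomCxQIso P J hJ).symm ≪≫
    ((DRing.RHomCx P).mapIso e).symm⟩

/-- `RHom(E, X) ≅ RHom(P, X)` when `P` is K-projective and isomorphic to `E` in `D(A)`. -/
theorem nonempty_RHomCx_iso_of_iso {P E : DRing.Cx A} [P.IsKProjective]
    (e : (Q : _ ⥤ Dual.D A).obj P ≅ Q.obj E)
    [DRing.HasRHomCx P] [DRing.HasRHomCx E] (X : Dual.D A) :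
    Nonempty ((DRing.RHomCx E).obj X ≅ (DRing.RHomCx P).obj X) := by
  obtain ⟨s, hs⟩ := exists_Q_map_eq_of_isKProjective e.hom
  haveI : QuasiIso s := by
    rw [← isIso_Q_map_iff_quasiIso, hs]
    infer_instance
  exact nonempty_RHomCx_iso_of_quasiIso s X

end Pre

section Dual

variable (A : Type u) [CommRing A]

/-- `A[0]`. -/
noncomputable abbrev SA : DRing.Cx A :=
  (CochainComplex.singleFunctor (ModuleCat.{u} A) 0).obj (ModuleCat.of A A)

variable {A}

/-- the dual complex `Hom•(P, A)`. -/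
noncomputable abbrev dualCx (P : DRing.Cx A) : DRing.Cx A := DRing.homCx P (SA A)

lemma toSingleEquiv_smul (P : DRing.Cx A) {n p : ℤ} (h : p + n = 0) (a : A)
    (z : Cochain P (SA A) n) :
    Cochain.toSingleEquiv h (a • z) = a • Cochain.toSingleEquiv h z := by
  show (a • z).v p 0 h ≫ (HomologicalComplex.singleObjXSelf (ComplexShape.up ℤ) 0
      (ModuleCat.of A A)).hom =
    a • (z.v p 0 h ≫ (HomologicalComplex.singleObjXSelf (ComplexShape.up ℤ) 0
      (ModuleCat.of A A)).hom)
  rw [Cochain.smul_v]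
  exact Linear.smul_comp (R := A) _ _ _ a _ _

/-- terms of the dual complex. -/
noncomputable def dualXEquiv (P : DRing.Cx A) {n p : ℤ} (h : p + n = 0) :
    Cochain P (SA A) n ≃ₗ[A] Module.Dual A (P.X p) where
  toFun z := (Cochain.toSingleEquiv h z).hom
  invFun φ := (Cochain.toSingleEquiv h).symm (ModuleCat.ofHom φ)
  left_inv z := by
    show (Cochain.toSingleEquiv h).symm (ModuleCat.ofHom (Cochain.toSingleEquiv h z).hom) = z
    rw [ModuleCat.ofHom_hom, AddEquiv.symm_apply_apply]
  right_inv φ := by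
    show (Cochain.toSingleEquiv h ((Cochain.toSingleEquiv h).symm (ModuleCat.ofHom φ))).hom = φ
    rw [AddEquiv.apply_symm_apply]
    rfl
  map_add' z z' := by rw [map_add]; rfl
  map_smul' a z := by rw [toSingleEquiv_smul]; rfl

lemma dualXEquiv_δ (P : DRing.Cx A) {n m p p' : ℤ} (hm : n + 1 = m) (h : p + n = 0)
    (h' : p' + m = 0) (z : Cochain P (SA A) n) (x : P.X p') :
    dualXEquiv P h' (δ n m z) x =
      (m.negOnePow : ℤ) • (dualXEquiv P h z) ((P.d p' p).hom x) := by
  subst hm
  obtain ⟨f, rfl⟩ := Cochain.toSingleMk_surjective z p h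
  rw [Cochain.δ_toSingleMk f h (n + 1) p' h']
  show (Cochain.toSingleEquiv h' ((n + 1).negOnePow • Cochain.toSingleMk (P.d p' p ≫ f) h')).hom x =
    ((n + 1).negOnePow : ℤ) • (Cochain.toSingleEquiv h (Cochain.toSingleMk f h)).hom
      ((P.d p' p).hom x)
  rw [Units.smul_def, map_zsmul, Cochain.toSingleEquiv_toSingleMk, Cochain.toSingleEquiv_toSingleMk]
  rfl

lemma dualCx_termwiseFiniteProjective (P : DRing.Cx A) (hP : DRing.TermwiseFiniteProjective P) :
    DRing.TermwiseFiniteProjective (dualCx P) := fun n => by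
  obtain ⟨h1, h2⟩ := hP (-n)
  exact ⟨Module.Finite.equiv (dualXEquiv P (neg_add_cancel n)).symm,
    Module.Projective.of_equiv (dualXEquiv P (neg_add_cancel n)).symm⟩

lemma dualCx_vanishesOutside (P : DRing.Cx A) (a b : ℤ) (h : DRing.VanishesOutside P a b) :
    DRing.VanishesOutside (dualCx P) (-b) (-a) := fun n hn => by
  have hz : IsZero (P.X (-n)) := h (-n) (by omega)
  haveI : Subsingleton (P.X (-n)) := ModuleCat.subsingleton_of_isZero hz
  haveI : Subsingleton (Module.Dual A (P.X (-n))) :=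
    ⟨fun f g => LinearMap.ext fun x => by rw [Subsingleton.elim x 0, map_zero, map_zero]⟩
  haveI : Subsingleton ((dualCx P).X n) :=
    (dualXEquiv P (neg_add_cancel n)).injective.subsingleton
  exact ModuleCat.isZero_of_subsingleton _

/-- terms of the double dual complex. -/
noncomputable def dualXEquiv' (P : DRing.Cx A) {n p : ℤ} (h : p + n = 0) :
    Cochain (dualCx P) (SA A) n ≃ₗ[A] Module.Dual A (Cochain P (SA A) p) :=
  dualXEquiv (dualCx P) h

lemma dualXEquiv'_δ (P : DRing.Cx A) {n p p' : ℤ} (h : p + n = 0) (h' : p' + (n + 1) = 0)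
    (w : Cochain (dualCx P) (SA A) n) (z : Cochain P (SA A) p') :
    dualXEquiv' P h' (δ n (n + 1) w) z =
      ((n + 1).negOnePow : ℤ) • (dualXEquiv' P h w) (δ p' p z) :=
  dualXEquiv_δ (dualCx P) rfl h h' w z

/-- the (sign twisted) evaluation `P^n ⟶ (P^∨∨)^n`. -/
noncomputable def evLin (P : DRing.Cx A) (n : ℤ) :
    P.X n →ₗ[A] Cochain (dualCx P) (SA A) n :=
  ((dualXEquiv' P (neg_add_cancel n)).symm.toLinearMap ∘ₗ
    (dualXEquiv P (add_neg_cancel n)).dualMap.toLinearMap ∘ₗ
    (Module.Dual.eval A (P.X n))) ∘ₗ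
    (DistribMulAction.toLinearEquiv A (P.X n) n.negOnePow).toLinearMap

lemma evLin_apply (P : DRing.Cx A) (n : ℤ) (x : P.X n) (z : Cochain P (SA A) (-n)) :
    dualXEquiv' P (neg_add_cancel n) (evLin P n x) z =
      (n.negOnePow : ℤ) • dualXEquiv P (add_neg_cancel n) z x := by
  have h1 : dualXEquiv' P (neg_add_cancel n) (evLin P n x) =
      (dualXEquiv P (add_neg_cancel n)).dualMap
        (Module.Dual.eval A (P.X n) (n.negOnePow • x)) :=
    LinearEquiv.apply_symm_apply _ _
  rw [h1]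
  show dualXEquiv P (add_neg_cancel n) z (n.negOnePow • x) = _
  rw [Units.smul_def, map_zsmul]

lemma evLin_bijective (P : DRing.Cx A) (n : ℤ) [Module.Finite A (P.X n)]
    [Module.Projective A (P.X n)] : Function.Bijective (evLin P n) := by
  have h1 : Function.Bijective (Module.Dual.eval A (P.X n)) := Module.bijective_dual_eval A (P.X n)
  exact ((dualXEquiv' P (neg_add_cancel n)).symm.bijective.comp
    ((dualXEquiv P (add_neg_cancel n)).dualMap.bijective.comp h1)).comp
    (DistribMulAction.toLinearEquiv A (P.X n) n.negOnePow).bijective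

/-- `P ≅ P^∨∨` for a complex of finite projective modules. -/
noncomputable def doubleDualIso (P : DRing.Cx A) (hP : DRing.TermwiseFiniteProjective P) :
    P ≅ dualCx (dualCx P) :=
  HomologicalComplex.Hom.isoOfComponents
    (fun n =>
      haveI := (hP n).1
      haveI := (hP n).2
      (LinearEquiv.ofBijective (evLin P n) (evLin_bijective P n)).toModuleIso) (by
    rintro i j (hij : i + 1 = j)
    subst hij
    ext x
    apply (dualXEquiv' P (neg_add_cancel (i + 1))).injective
    apply LinearMap.ext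
    intro (z : Cochain P (SA A) (-(i + 1)))
    show dualXEquiv' P (neg_add_cancel (i + 1)) (δ i (i + 1) (evLin P i x)) z =
      dualXEquiv' P (neg_add_cancel (i + 1)) (evLin P (i + 1) ((P.d i (i + 1)).hom x)) z
    rw [evLin_apply, dualXEquiv'_δ P (neg_add_cancel i) (neg_add_cancel (i + 1)), evLin_apply,
      dualXEquiv_δ P (by lia : -(i + 1) + 1 = -i) (add_neg_cancel (i + 1)) (add_neg_cancel i)]
    have hs : ((i.negOnePow : ℤˣ) : ℤ) * (((-i).negOnePow : ℤˣ) : ℤ) = 1 := by
      rw [Int.negOnePow_neg, ← Units.val_mul, Int.units_mul_self]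
      rfl
    rw [smul_smul (i.negOnePow : ℤ), hs, one_smul])

end Dual


section PerfDual

variable {A : Type u} [CommRing A]

open Groth.Agent.Lib.Helper1.LDer in
/-- **S6963**: the dual of a perfect complex is perfect, and the double dual is the original. -/
theorem perfect_dual (K : Dual.D A) (hK : DRing.IsPerfect A K)
    (E : DRing.Cx A) (eK : DRing.toD E ≅ K) [DRing.HasRHomCx E] :
    DRing.IsPerfect A ((DRing.RHomCx E).obj (Dual.inD A A)) ∧
      ∀ (E' : DRing.Cx A) (_ : DRing.toD E' ≅ (DRing.RHomCx E).obj (Dual.inD A A))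
        [DRing.HasRHomCx E'], Nonempty ((DRing.RHomCx E').obj (Dual.inD A A) ≅ K) := by
  obtain ⟨P, a, b, hPv, hPp, ⟨eP⟩⟩ := hK
  haveI : P.IsKProjective := isKProjective_of_vanishesAbove P b (fun i hi => hPv i (Or.inr hi))
    (fun i => (hPp i).2)
  haveI : DRing.HasRHomCx P := hasRHomCx P
  have e0 : Dual.inD A A ≅ DRing.toD (SA A) :=
    (singleFunctorIsoCompQ (ModuleCat.{u} A) 0).app (ModuleCat.of A A)
  obtain ⟨e1⟩ := nonempty_RHomCx_iso_of_iso (P := P) (E := E) (eP ≪≫ eK.symm) (Dual.inD A A)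
  obtain ⟨e2⟩ := nonempty_RHomCx_iso P (SA A)
  have e3 : (DRing.RHomCx E).obj (Dual.inD A A) ≅ DRing.toD (dualCx P) :=
    e1 ≪≫ (DRing.RHomCx P).mapIso e0 ≪≫ e2
  have hP'v := dualCx_vanishesOutside P a b hPv
  have hP'p := dualCx_termwiseFiniteProjective P hPp
  refine ⟨⟨dualCx P, -b, -a, hP'v, hP'p, ⟨e3.symm⟩⟩, ?_⟩
  intro E' eK' _
  haveI : (dualCx P).IsKProjective := isKProjective_of_vanishesAbove (dualCx P) (-a)
    (fun i hi => hP'v i (Or.inr hi)) (fun i => (hP'p i).2)
  haveI : DRing.HasRHomCx (dualCx P) := hasRHomCx _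
  obtain ⟨e4⟩ := nonempty_RHomCx_iso_of_iso (P := dualCx P) (E := E') (e3.symm ≪≫ eK'.symm)
    (Dual.inD A A)
  obtain ⟨e5⟩ := nonempty_RHomCx_iso (dualCx P) (SA A)
  exact ⟨e4 ≪≫ (DRing.RHomCx (dualCx P)).mapIso e0 ≪≫ e5 ≪≫
    ((Q : _ ⥤ Dual.D A).mapIso (doubleDualIso P hPp)).symm ≪≫ eP⟩

end PerfDual

end Groth.Agent.Lib.T2H4.HomCx
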