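import Mathlib
import Groth.Agent.Lib.Helper6QCohQcqs
import Groth.Agent.Lib.Helper13ModGlue
import Groth.Agent.Lib.Helper13AffBC
import Groth.Agent.Lib.Helper22Hartogs2
import Groth.Agent.Lib.Helper28Normal
import Groth.Agent.Lib.Helper23SecTw6
import Groth.Agent.Lib.T2H4Cocycle

/-!
# Hartogs extension for invertible modules (helper4)

Namespace `Groth.Agent.Lib.T2H4.PicCodim2`.

On a locally Noetherian scheme `T` and an open `U` such that the local rings at the points outside `U` have
depth at least two: sections of an invertible module extend uniquely from `U` to `T`, and an invertible module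
which is trivial on `U` is trivial.
-/

set_option autoImplicit false
set_option linter.style.haveILetI false
set_option linter.unusedSectionVars false
set_option linter.unusedVariables false
universe u
open CategoryTheory CategoryTheory.Limits AlgebraicGeometry Opposite TopologicalSpace

namespace Groth.Agent.Lib.T2H4.PicCodim2

open Groth.Agent.Lib.Helper6 Groth.Agent.Helper13ModGlue Groth.Agent.Lib.T2H4.Cocycle
  Groth.Agent.Lib.Helper23.SecTw Groth.Agent.Lib.Helper23.GenLocus

variable {T : Scheme.{u}} [IsLocallyNoetherian T] (U : T.Opens)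
  (hdepth : ∀ x : T, x ∉ U → (2 : ℕ∞) ≤ LocCoh.depth (T.presheaf.stalk x) (T.presheaf.stalk x))

include hdepth in
/-- Hartogs for functions -/
theorem bij_resf (V : T.Opens) : Function.Bijective (resf (inf_le_left : V ⊓ U ≤ V)) :=
  Groth.Agent.Lib.Helper22.Hartogs.bijective_res_of_depth U hdepth V (V ⊓ U) inf_le_left le_rfl inf_le_right

include hdepth in
/-- Hartogs for a module with a generator -/
theorem bij_res_of_isGen (L : T.Modules) {W : T.Opens} (e : Γ(L, W)) (he : Gen L e) (V : T.Opens) (hV : V ≤ W) :
    Function.Bijective (res L (inf_le_left : V ⊓ U ≤ V)) := by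
  have hVU : V ⊓ U ≤ W := inf_le_left.trans hV
  constructor
  · intro σ σ' h
    have h1 : coord L e he hVU (res L inf_le_left σ) = coord L e he hVU (res L inf_le_left σ') :=
      congrArg _ h
    rw [coord_res L e he hV inf_le_left, coord_res L e he hV inf_le_left] at h1
    have h2 := (bij_resf U hdepth V).1 h1
    rw [← coord_spec L e he hV σ, ← coord_spec L e he hV σ', h2]
  · intro τ
    obtain ⟨c, hc⟩ := (bij_resf U hdepth V).2 (coord L e he hVU τ)
    refine ⟨c • res L hV e, ?_⟩
    rw [res_smul, res_res, hc, coord_spec]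

include hdepth in
theorem injective_res_top (L : T.Modules) (hL : PicF.IsInvertible L) :
    Function.Injective (res L (le_top : U ≤ ⊤)) := by
  intro σ σ' h
  choose W e hxW hgen using exists_gen L hL
  refine (modSheaf L).eq_of_locally_eq' W ⊤ (fun x => homOfLE le_top) ?_ σ σ' (fun x => ?_)
  · intro x _
    exact Opens.mem_iSup.2 ⟨x, hxW x⟩
  · apply (bij_res_of_isGen U hdepth L (e x) (hgen x) (W x) le_rfl).1
    change res L inf_le_left (res L le_top σ) = res L inf_le_left (res L le_top σ')
    have h1 := congrArg (res L (inf_le_right : W x ⊓ U ≤ U)) h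
    rw [res_res, res_res] at h1 ⊢
    exact h1

include hdepth in
theorem surjective_res_top (L : T.Modules) (hL : PicF.IsInvertible L) :
    Function.Surjective (res L (le_top : U ≤ ⊤)) := by
  intro τ
  choose W e hxW hgen using exists_gen L hL
  have hex : ∀ x : T, ∃ σ : Γ(L, W x), res L (inf_le_left : W x ⊓ U ≤ W x) σ =
      res L (inf_le_right : W x ⊓ U ≤ U) τ :=
    fun x => (bij_res_of_isGen U hdepth L (e x) (hgen x) (W x) le_rfl).2 _
  choose σ hσ using hex
  have hcompat : TopCat.Presheaf.IsCompatible L.presheaf W σ := by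
    intro x y
    apply (bij_res_of_isGen U hdepth L (e x) (hgen x) (W x ⊓ W y) inf_le_left).1
    change res L inf_le_left (res L inf_le_left (σ x)) = res L inf_le_left (res L inf_le_right (σ y))
    have h1 := congrArg (res L (le_inf (inf_le_left.trans inf_le_left) inf_le_right :
      W x ⊓ W y ⊓ U ≤ W x ⊓ U)) (hσ x)
    have h2 := congrArg (res L (le_inf (inf_le_left.trans inf_le_right) inf_le_right :
      W x ⊓ W y ⊓ U ≤ W y ⊓ U)) (hσ y)
    rw [res_res, res_res] at h1 h2 ⊢
    exact h1.trans h2.symm
  have hcov : (⊤ : T.Opens) ≤ ⨆ x, W x := fun x _ => Opens.mem_iSup.2 ⟨x, hxW x⟩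
  obtain ⟨σ0, hσ0, -⟩ := (modSheaf L).existsUnique_gluing' W ⊤ (fun x => homOfLE le_top) hcov σ hcompat
  have hσ0' : ∀ x, res L (le_top : W x ≤ ⊤) σ0 = σ x := hσ0
  refine ⟨σ0, ?_⟩
  refine (modSheaf L).eq_of_locally_eq' (fun x => W x ⊓ U) U (fun x => homOfLE inf_le_right) ?_ _ _
    (fun x => ?_)
  · intro x hx
    exact Opens.mem_iSup.2 ⟨x, hxW x, hx⟩
  · change res L inf_le_right (res L le_top σ0) = res L inf_le_right τ
    rw [← hσ x, ← hσ0' x, res_res, res_res]

include hdepth in
/-- an invertible module with a generator over `U` is trivial -/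
theorem nonempty_iso_of_gen (L : T.Modules) (hL : PicF.IsInvertible L) (eU : Γ(L, U)) (heU : Gen L eU) :
    Nonempty (L ≅ Coh.structureModule T) := by
  obtain ⟨s, hs⟩ := surjective_res_top U hdepth L hL eU
  choose W e hxW hgen using exists_gen L hL
  have hcov : ⨆ x, W x = ⊤ := eq_top_iff.2 (fun x _ => Opens.mem_iSup.2 ⟨x, hxW x⟩)
  let φ : Coh.structureModule T ⟶ L := secHom L s
  have hiso : IsIso φ := by
    refine Groth.Agent.Helper13AffBC.isIso_of_bijective_on_basis φ
      (fun k : (Σ x : T, {V : T.Opens // V ≤ W x}) => k.2.1) (isBasis_small W hcov) (fun k => ?_)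
    obtain ⟨x, V, hV⟩ := k
    change Function.Bijective (φ.app V)
    -- the coefficient of `s` in the local frame
    set c : Γ(T, V) := coord L (e x) (hgen x) hV (res L le_top s) with hc
    have hcs : c • res L hV (e x) = res L le_top s := coord_spec L (e x) (hgen x) hV _
    -- `c` is a unit
    have hVU : V ⊓ U ≤ W x := inf_le_left.trans hV
    have hcU : resf (inf_le_left : V ⊓ U ≤ V) c • res L hVU (e x) = res L (inf_le_right : V ⊓ U ≤ U) eU := by
      have h1 := congrArg (res L (inf_le_left : V ⊓ U ≤ V)) hcs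
      rw [res_smul, res_res, res_res] at h1
      rw [h1, ← hs, res_res]
    set c' : Γ(T, V ⊓ U) := coord L eU heU (inf_le_right : V ⊓ U ≤ U) (res L hVU (e x)) with hc'
    have hc's : c' • res L (inf_le_right : V ⊓ U ≤ U) eU = res L hVU (e x) := coord_spec L eU heU _ _
    have hmul : resf (inf_le_left : V ⊓ U ≤ V) c * c' = 1 := by
      apply (heU (V ⊓ U) inf_le_right).1
      change (resf inf_le_left c * c') • res L inf_le_right eU = (1 : Γ(T, V ⊓ U)) • res L inf_le_right eU
      rw [mul_smul, hc's, hcU, one_smul]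
    have hunit : IsUnit c := by
      obtain ⟨d, hd⟩ := (bij_resf U hdepth V).2 c'
      have h1 : resf (inf_le_left : V ⊓ U ≤ V) (c * d) = resf (inf_le_left : V ⊓ U ≤ V) 1 := by
        rw [Groth.Agent.Lib.T2H4.Cocycle.resf_mul, hd, hmul]
        exact (map_one _).symm
      exact IsUnit.of_mul_eq_one d ((bij_resf U hdepth V).1 h1)
    have hfun : ⇑(φ.app V) = (fun r : Γ(T, V) => r • res L hV (e x)) ∘ (fun r : Γ(T, V) => r * c) ∘ (ofS V) := by
      funext b
      have h1 := app_toS φ V (ofS V b)
      rw [toS_ofS] at h1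
      rw [h1, sv_secHom]
      change ofS V b • res L le_top s = (ofS V b * c) • res L hV (e x)
      rw [mul_smul, hcs]
    rw [hfun]
    refine (hgen x V hV).comp (Function.Bijective.comp ?_ ⟨fun a b h => h, fun b => ⟨b, rfl⟩⟩)
    constructor
    · intro a b hab
      exact hunit.mul_left_injective hab
    · intro b
      obtain ⟨v, hv⟩ := hunit
      refine ⟨b * ↑v⁻¹, ?_⟩
      change b * ↑v⁻¹ * c = b
      rw [← hv, mul_assoc, Units.inv_mul, mul_one]
  exact ⟨(asIso φ).symm⟩

end Groth.Agent.Lib.T2H4.PicCodim2
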