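import Groth.Agent.Lib.T2H4ContractPic
import Mathlib.GroupTheory.Archimedean

/-!
Numerical types of genus at most zero have infinite cyclic Picard group.
-/

namespace Groth.Agent.Lib.T2H4.Contract

open Finset Models Groth.Agent.Lib.Helper11

/-- a group embedding into `ℤ` with nonzero image is infinite cyclic -/
theorem nonempty_addEquiv_int_of_injective {G : Type*} [AddCommGroup G] (ψ : G →+ ℤ)
    (hψ : Function.Injective ψ) (hne : ∃ g, ψ g ≠ 0) : Nonempty (G ≃+ ℤ) := by
  obtain ⟨k, hk⟩ := Int.subgroup_cyclic ψ.range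
  have hmem : ∀ g, ∃ m : ℤ, m * k = ψ g := by
    intro g
    have : ψ g ∈ ψ.range := ⟨g, rfl⟩
    rw [hk, AddSubgroup.mem_closure_singleton] at this
    obtain ⟨m, hm⟩ := this
    exact ⟨m, by rw [← hm]; simp⟩
  have hk0 : k ≠ 0 := by
    rintro rfl
    obtain ⟨g, hg⟩ := hne
    obtain ⟨m, hm⟩ := hmem g
    rw [mul_zero] at hm
    exact hg hm.symm
  have hkmem : ∀ m : ℤ, ∃ g, ψ g = m * k := by
    intro m
    have : m * k ∈ ψ.range := by
      rw [hk, AddSubgroup.mem_closure_singleton]
      exact ⟨m, by simp⟩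
    exact this
  let χ : G →+ ℤ :=
    { toFun := fun g => ψ g / k
      map_zero' := by simp
      map_add' := by
        intro a b
        obtain ⟨m, hm⟩ := hmem a
        obtain ⟨m', hm'⟩ := hmem b
        rw [map_add, ← hm, ← hm', ← add_mul, Int.mul_ediv_cancel _ hk0,
          Int.mul_ediv_cancel _ hk0, Int.mul_ediv_cancel _ hk0] }
  have hχ : ∀ g, χ g = ψ g / k := fun _ => rfl
  refine ⟨AddEquiv.ofBijective χ ⟨?_, ?_⟩⟩
  · rw [injective_iff_map_eq_zero]
    intro g hg
    apply hψ
    rw [map_zero]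
    obtain ⟨m, hm⟩ := hmem g
    rw [hχ, ← hm, Int.mul_ediv_cancel _ hk0] at hg
    rw [← hm, hg, zero_mul]
  · intro m
    obtain ⟨g, hg⟩ := hkmem m
    exact ⟨g, by rw [hχ, hg, Int.mul_ediv_cancel _ hk0]⟩

/-- the case of a single index -/
theorem pic_one (T : Models.NumericalType 1) : Nonempty (T.Pic ≃+ ℤ) := by
  have ha : T.a 0 0 = 0 := by
    have h := row_sum T 0
    rw [Fin.sum_univ_one] at h
    rcases mul_eq_zero.mp h with h | h
    · exact h
    · exact absurd h (T.m_pos 0).ne'
  have hP : T.picMatrix = 0 := by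
    funext i j
    have hi : i = 0 := Subsingleton.elim _ _
    have hj : j = 0 := Subsingleton.elim _ _
    subst hi hj
    show T.a 0 0 / T.w 0 = 0
    rw [ha, Int.zero_ediv]
  have hbot : LinearMap.range (Matrix.mulVecLin T.picMatrix) = ⊥ := by
    rw [hP, Matrix.mulVecLin_zero, LinearMap.range_zero]
  exact ⟨((Submodule.quotEquivOfEqBot _ hbot).trans
    (LinearEquiv.funUnique (Fin 1) ℤ ℤ)).toAddEquiv⟩

theorem pic_equiv_int : ∀ (n : ℕ) (T : Models.NumericalType n), T.genus ≤ 0 →
    Nonempty (T.Pic ≃+ ℤ) := by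
  intro n
  induction n with
  | zero => intro T _; exact absurd T.pos (lt_irrefl 0)
  | succ k ih =>
    intro T hg
    by_cases hmin : T.IsMinimal
    · have hk : k = 0 := by
        by_contra hk
        have := one_le_genus_of_isMinimal T hmin (by omega)
        omega
      subst hk
      exact pic_one T
    · unfold NumericalType.IsMinimal at hmin
      push Not at hmin
      obtain ⟨l, hl⟩ := hmin
      have hg' : (contract hl).genus ≤ 0 := by rw [genus_contract hl]; exact hg
      obtain ⟨e⟩ := ih (contract hl) hg'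
      let ψ : T.Pic →+ ℤ := e.toAddMonoidHom.comp (picMap hl).toAddMonoidHom
      have hψ : Function.Injective ψ := e.injective.comp (picMap_injective hl)
      refine nonempty_addEquiv_int_of_injective ψ hψ ?_
      obtain ⟨x, hx⟩ := picMap_two_smul hl (e.symm 1)
      refine ⟨x, ?_⟩
      show e (picMap hl x) ≠ 0
      rw [← hx, map_nsmul, AddEquiv.apply_symm_apply]
      norm_num

end Groth.Agent.Lib.T2H4.Contract
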