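import Mathlib
import Groth.Prelude.Def_DeRham
import Groth.Agent.Lib.T2H4PoincareA

/-! Helper library (helper4): constant-coefficient forms on a free module with a coordinate
system, the de Rham rule on them, and Cartan's formula for the Euler vector field. -/

set_option autoImplicit false

namespace Groth.Agent.Lib.T2H4.PoincareB

open ExteriorAlgebra Groth.Agent.Lib.T2H4.PoincareA

universe v u w

variable {k : Type v} {A M : Type u} [CommRing k] [CommRing A] [Algebra k A]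
  [AddCommGroup M] [Module A M] [Module k M] [IsScalarTower k A M]
variable {σ : Type w} (e : Module.Basis σ A M)

/-- wedge of basis vectors along a tuple -/
noncomputable def Wt (p : ℕ) (t : Fin p → σ) : ExteriorAlgebra A M :=
  ExteriorAlgebra.ιMulti A p (fun j => e (t j))

lemma Wt_mem (p : ℕ) (t : Fin p → σ) : Wt e p t ∈ ⋀[A]^p M := ιMulti_mem _ _

lemma Wt_zero (t : Fin 0 → σ) : Wt e 0 t = 1 := ExteriorAlgebra.ιMulti_zero_apply _

lemma Wt_succ (p : ℕ) (t : Fin (p + 1) → σ) :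
    Wt e (p + 1) t = ι A (e (t 0)) * Wt e p (fun j => t j.succ) := by
  unfold Wt
  rw [ExteriorAlgebra.ιMulti_succ_apply]
  rfl

lemma Wt_cons (p : ℕ) (i : σ) (t : Fin p → σ) :
    Wt e (p + 1) (Fin.cons i t) = ι A (e i) * Wt e p t := by
  rw [Wt_succ]
  simp

variable (k) in
/-- constant forms -/
noncomputable def Cst (p : ℕ) : Submodule k (ExteriorAlgebra A M) :=
  Submodule.span k (Set.range (Wt e p))

lemma Wt_mem_Cst (p : ℕ) (t : Fin p → σ) : Wt e p t ∈ Cst k e p :=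
  Submodule.subset_span ⟨t, rfl⟩

lemma Cst_le {p : ℕ} {η : ExteriorAlgebra A M} (hη : η ∈ Cst k e p) : η ∈ ⋀[A]^p M := by
  induction hη using Submodule.span_induction with
  | mem x hx =>
    obtain ⟨t, rfl⟩ := hx
    exact Wt_mem e p t
  | zero => exact Submodule.zero_mem _
  | add x y _ _ hx hy => exact Submodule.add_mem _ hx hy
  | smul c x _ hx =>
    rw [← algebraMap_smul A c x]
    exact Submodule.smul_mem _ _ hx

lemma ι_mul_mem_Cst {p : ℕ} (j : σ) {η : ExteriorAlgebra A M} (hη : η ∈ Cst k e p) :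
    ι A (e j) * η ∈ Cst k e (p + 1) := by
  induction hη using Submodule.span_induction with
  | mem x hx =>
    obtain ⟨t, rfl⟩ := hx
    rw [← Wt_cons]
    exact Wt_mem_Cst e _ _
  | zero => rw [mul_zero]; exact Submodule.zero_mem _
  | add x y _ _ hx hy => rw [mul_add]; exact Submodule.add_mem _ hx hy
  | smul c x _ hx => rw [mul_smul_comm]; exact Submodule.smul_mem _ _ hx

lemma coord_smul_mem_Cst [DecidableEq σ] {p : ℕ} (i j : σ) {η : ExteriorAlgebra A M}
    (hη : η ∈ Cst k e p) : e.coord i (e j) • η ∈ Cst k e p := by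
  rw [Module.Basis.coord_apply, Module.Basis.repr_self, Finsupp.single_apply]
  split_ifs
  · rw [one_smul]; exact hη
  · rw [zero_smul]; exact Submodule.zero_mem _

lemma ctr_Wt_mem_Cst (i : σ) :
    ∀ (p : ℕ) (t : Fin (p + 1) → σ), ctr (e.coord i) (Wt e (p + 1) t) ∈ Cst k e p := by
  classical
  intro p
  induction p with
  | zero =>
    intro t
    rw [Wt_succ, ctr_ι_mul, Wt_zero, ctr_one, mul_zero, sub_zero]
    have h1 : (1 : ExteriorAlgebra A M) ∈ Cst k e 0 := by
      rw [← Wt_zero e (fun j => t j.succ)]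
      exact Wt_mem_Cst e _ _
    exact coord_smul_mem_Cst e i (t 0) h1
  | succ p ih =>
    intro t
    rw [Wt_succ, ctr_ι_mul]
    exact Submodule.sub_mem _ (coord_smul_mem_Cst e i (t 0) (Wt_mem_Cst e _ _))
      (ι_mul_mem_Cst e _ (ih _))

lemma ctr_mem_Cst (i : σ) {p : ℕ} {η : ExteriorAlgebra A M} (hη : η ∈ Cst k e (p + 1)) :
    ctr (e.coord i) η ∈ Cst k e p := by
  induction hη using Submodule.span_induction with
  | mem x hx =>
    obtain ⟨t, rfl⟩ := hx
    exact ctr_Wt_mem_Cst e i p t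
  | zero => rw [map_zero]; exact Submodule.zero_mem _
  | add x y _ _ hx hy => rw [map_add]; exact Submodule.add_mem _ hx hy
  | smul c x _ hx =>
    rw [LinearMap.map_smul_of_tower]
    exact Submodule.smul_mem _ _ hx

/-! ### the differential on elements of the exterior algebra -/

variable (d : ∀ p : ℕ, ↥(⋀[A]^p M) →ₗ[k] ↥(⋀[A]^(p + 1) M))

/-- `d` evaluated on an element of the exterior algebra known to be of degree `p` -/
noncomputable def dE (p : ℕ) (ω : ExteriorAlgebra A M) (h : ω ∈ ⋀[A]^p M) : ExteriorAlgebra A M :=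
  ((d p ⟨ω, h⟩ : ↥(⋀[A]^(p + 1) M)) : ExteriorAlgebra A M)

lemma dE_mem (p : ℕ) (ω : ExteriorAlgebra A M) (h : ω ∈ ⋀[A]^p M) :
    dE d p ω h ∈ ⋀[A]^(p + 1) M := Subtype.property _

lemma dE_congr {p : ℕ} {ω ω' : ExteriorAlgebra A M} (h : ω ∈ ⋀[A]^p M) (heq : ω = ω') :
    dE d p ω h = dE d p ω' (heq ▸ h) := by
  subst heq
  rfl

lemma dE_add {p : ℕ} {ω ω' : ExteriorAlgebra A M} (h : ω ∈ ⋀[A]^p M) (h' : ω' ∈ ⋀[A]^p M) :
    dE d p (ω + ω') (Submodule.add_mem _ h h') = dE d p ω h + dE d p ω' h' := by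
  unfold dE
  rw [← Submodule.coe_add, ← map_add]
  rfl

lemma dE_zero {p : ℕ} : dE d p 0 (Submodule.zero_mem _) = 0 := by
  unfold dE
  have : (⟨0, Submodule.zero_mem _⟩ : ↥(⋀[A]^p M)) = 0 := rfl
  rw [this, map_zero]
  rfl

lemma dE_sub {p : ℕ} {ω ω' : ExteriorAlgebra A M} (h : ω ∈ ⋀[A]^p M) (h' : ω' ∈ ⋀[A]^p M) :
    dE d p (ω - ω') (Submodule.sub_mem _ h h') = dE d p ω h - dE d p ω' h' := by
  unfold dE
  rw [← Submodule.coe_sub, ← map_sub]
  rfl

lemma dE_smul {p : ℕ} (c : k) {ω : ExteriorAlgebra A M} (h : ω ∈ ⋀[A]^p M)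
    (h' : c • ω ∈ ⋀[A]^p M) :
    dE d p (c • ω) h' = c • dE d p ω h := by
  unfold dE
  rw [← Submodule.coe_smul_of_tower, ← map_smul]
  rfl

lemma dE_sum {p : ℕ} {ι' : Type*} (s : Finset ι') (a : ι' → ExteriorAlgebra A M)
    (ha : ∀ i, a i ∈ ⋀[A]^p M) (h : ∑ i ∈ s, a i ∈ ⋀[A]^p M) :
    dE d p (∑ i ∈ s, a i) h = ∑ i ∈ s, dE d p (a i) (ha i) := by
  classical
  induction s using Finset.induction_on with
  | empty =>
    simp only [Finset.sum_empty]
    exact dE_zero d
  | insert j s hj ih =>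
    have h1 : ∑ i ∈ s, a i ∈ ⋀[A]^p M := Submodule.sum_mem _ (fun i _ => ha i)
    rw [dE_congr d h (Finset.sum_insert hj), dE_add d (ha j) h1, ih h1, Finset.sum_insert hj]

/-! ### the de Rham rule on constant forms -/

variable (δ : Derivation k A M) (x : σ → A)

lemma dE_smul_Wt (hd : DeRham.IsRule δ d) (hx : ∀ i, δ (x i) = e i) (f : A) (p : ℕ)
    (t : Fin p → σ) (h : f • Wt e p t ∈ ⋀[A]^p M) :
    dE d p (f • Wt e p t) h = ι A (δ f) * Wt e p t := by
  have h1 := hd p f (fun j => x (t j))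
  have h2 : DeRham.gen δ p f (fun j => x (t j)) = ⟨f • Wt e p t, h⟩ := by
    apply Subtype.ext
    unfold DeRham.gen
    rw [Submodule.coe_smul, exteriorPower.ιMulti_apply_coe]
    simp only [hx]
    rfl
  rw [h2] at h1
  unfold dE
  rw [h1, exteriorPower.ιMulti_apply_coe, ExteriorAlgebra.ιMulti_succ_apply]
  have h3 : Matrix.vecTail (Fin.cons (δ f) (fun i => δ (x (t i))) : Fin (p + 1) → M)
      = fun j => e (t j) := by
    funext j
    simp [Matrix.vecTail, hx]
  rw [h3, Fin.cons_zero]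
  rfl

lemma dE_smul_Cst (hd : DeRham.IsRule δ d) (hx : ∀ i, δ (x i) = e i) {p : ℕ}
    {η : ExteriorAlgebra A M} (hη : η ∈ Cst k e p) :
    ∀ (f : A) (h : f • η ∈ ⋀[A]^p M), dE d p (f • η) h = ι A (δ f) * η := by
  induction hη using Submodule.span_induction with
  | mem y hy =>
    obtain ⟨t, rfl⟩ := hy
    intro f h
    exact dE_smul_Wt e d δ x hd hx f p t h
  | zero =>
    intro f h
    rw [dE_congr d h (smul_zero f), dE_zero, mul_zero]
  | add y z hy hz ihy ihz =>
    intro f h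
    have hy' : f • y ∈ ⋀[A]^p M := Submodule.smul_mem _ f (Cst_le e hy)
    have hz' : f • z ∈ ⋀[A]^p M := Submodule.smul_mem _ f (Cst_le e hz)
    rw [dE_congr d h (smul_add f y z), dE_add d hy' hz', ihy f hy', ihz f hz', mul_add]
  | smul c y hy ih =>
    intro f h
    have e1 : f • c • y = (c • f) • y := by
      rw [smul_comm, smul_assoc]
    have hy' : (c • f) • y ∈ ⋀[A]^p M := Submodule.smul_mem _ _ (Cst_le e hy)
    rw [dE_congr d h e1, ih (c • f) hy', δ.map_smul c f, LinearMap.map_smul_of_tower,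
      smul_mul_assoc, mul_smul_comm]

/-! ### Cartan's formula for the Euler field -/

/-- the Euler form `∑ x_i e_i^*` -/
noncomputable def θE [Fintype σ] : Module.Dual A M := ∑ i, x i • e.coord i

lemma ctr_θE [Fintype σ] (ω : ExteriorAlgebra A M) :
    ctr (θE e x) ω = ∑ i, x i • ctr (e.coord i) ω := by
  unfold θE ctr
  rw [map_sum, LinearMap.sum_apply]
  apply Finset.sum_congr rfl
  intro i _
  rw [map_smul, LinearMap.smul_apply]

theorem cartan [Fintype σ] (hd : DeRham.IsRule δ d) (hx : ∀ i, δ (x i) = e i) (f : A) (p : ℕ)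
    (t : Fin (p + 1) → σ)
    (h1 : ctr (θE e x) (f • Wt e (p + 1) t) ∈ ⋀[A]^p M)
    (h2 : f • Wt e (p + 1) t ∈ ⋀[A]^(p + 1) M) :
    dE d p (ctr (θE e x) (f • Wt e (p + 1) t)) h1
      + ctr (θE e x) (dE d (p + 1) (f • Wt e (p + 1) t) h2)
      = (θE e x (δ f) + (p + 1) • f) • Wt e (p + 1) t := by
  obtain ⟨W, hW⟩ : ∃ W, Wt e (p + 1) t = W := ⟨_, rfl⟩
  have hWC : W ∈ Cst k e (p + 1) := hW ▸ Wt_mem_Cst e _ _
  have hWm : W ∈ ⋀[A]^(p + 1) M := hW ▸ Wt_mem e _ _
  have hη : ∀ i, ctr (e.coord i) W ∈ Cst k e p := fun i => ctr_mem_Cst e i hWC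
  have hηm : ∀ i, (f * x i) • ctr (e.coord i) W ∈ ⋀[A]^p M :=
    fun i => Submodule.smul_mem _ _ (Cst_le e (hη i))
  simp only [hW] at h1 h2 ⊢
  have e1 : ctr (θE e x) (f • W) = ∑ i, (f * x i) • ctr (e.coord i) W := by
    rw [map_smul, ctr_θE, Finset.smul_sum]
    apply Finset.sum_congr rfl
    intro i _
    rw [smul_smul]
  have e5 : f • ((p + 1) • W) = ((p + 1) • f) • W := by
    rw [smul_comm, ← smul_assoc]
  have e2 : dE d p (ctr (θE e x) (f • W)) h1
      = ((p + 1) • f) • W + ι A (δ f) * ctr (θE e x) W := by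
    rw [dE_congr d h1 e1, dE_sum d Finset.univ _ hηm]
    have e3 : ∀ i, dE d p ((f * x i) • ctr (e.coord i) W) (hηm i)
        = f • (ι A (e i) * ctr (e.coord i) W) + ι A (δ f) * (x i • ctr (e.coord i) W) := by
      intro i
      rw [dE_smul_Cst e d δ x hd hx (hη i), Derivation.leibniz, hx, map_add, map_smul, map_smul,
        add_mul, smul_mul_assoc, smul_mul_assoc, mul_smul_comm]
    rw [Finset.sum_congr rfl (fun i _ => e3 i), Finset.sum_add_distrib, ← Finset.smul_sum,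
      ← Finset.mul_sum, number e hWm, ← ctr_θE, e5]
  have e4 : ctr (θE e x) (dE d (p + 1) (f • W) h2)
      = θE e x (δ f) • W - ι A (δ f) * ctr (θE e x) W := by
    rw [dE_smul_Cst e d δ x hd hx hWC, ctr_ι_mul]
  rw [e2, e4, add_smul (θE e x (δ f)) ((p + 1) • f) W]
  abel

end Groth.Agent.Lib.T2H4.PoincareB
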