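import Mathlib
import Groth.Prelude.Def_DeRham
import Groth.Agent.Lib.T2H4PoincareB

/-! Helper library (helper4): abstract Poincaré lemma.  A free module with a coordinate system,
a derivation, and "divide by the weight" operators `S q` give a contracting homotopy for any
family `d` satisfying the de Rham rule. -/

set_option autoImplicit false

namespace Groth.Agent.Lib.T2H4.PoincareC

open ExteriorAlgebra Groth.Agent.Lib.T2H4.PoincareA Groth.Agent.Lib.T2H4.PoincareB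

universe v u w

variable {k : Type v} {A M : Type u} [CommRing k] [CommRing A] [Algebra k A]
  [AddCommGroup M] [Module A M] [Module k M] [IsScalarTower k A M]
section

variable {σ : Type w} [LinearOrder σ] [Fintype σ] (e : Module.Basis σ A M)

/-- apply a `k`-linear operator of `A` coefficientwise (in the standard basis) -/
noncomputable def Sform (S : A →ₗ[k] A) (p : ℕ) : ↥(⋀[A]^p M) →ₗ[k] ↥(⋀[A]^p M) :=
  ∑ s : Set.powersetCard σ p,
    ((LinearMap.toSpanSingleton A (↥(⋀[A]^p M)) ((e.exteriorPower p) s)).restrictScalars k).comp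
      (S.comp (((e.exteriorPower p).coord s).restrictScalars k))

lemma Sform_apply (S : A →ₗ[k] A) (p : ℕ) (ω : ↥(⋀[A]^p M)) :
    Sform e S p ω = ∑ s, S ((e.exteriorPower p).repr ω s) • (e.exteriorPower p) s := by
  unfold Sform
  rw [LinearMap.sum_apply]
  rfl

/-- the wedge of basis vectors along a tuple, in the exterior power -/
noncomputable def wt (p : ℕ) (t : Fin p → σ) : ↥(⋀[A]^p M) :=
  exteriorPower.ιMulti A p (fun j => e (t j))

lemma coe_wt (p : ℕ) (t : Fin p → σ) : ((wt e p t : ↥(⋀[A]^p M)) : ExteriorAlgebra A M) = Wt e p t :=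
  rfl

lemma repr_wt (p : ℕ) (t : Fin p → σ) (s : Set.powersetCard σ p) :
    ∃ c : k, (e.exteriorPower p).repr (wt e p t) s = algebraMap k A c := by
  classical
  unfold wt
  rw [exteriorPower.basis_repr_apply, exteriorPower.ιMultiDual_apply_ιMulti]
  refine ⟨(Matrix.of fun i j =>
    if t i = (Set.powersetCard.ofFinEmbEquiv.symm s j) then (1 : k) else 0).det, ?_⟩
  rw [RingHom.map_det]
  congr 1
  ext i j
  simp only [Matrix.of_apply, Module.Basis.coord_apply, Module.Basis.repr_self,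
    Finsupp.single_apply, RingHom.mapMatrix_apply, Matrix.map_apply]
  split_ifs <;> simp

lemma Sform_smul_wt (S : A →ₗ[k] A) (p : ℕ) (t : Fin p → σ) (f : A) :
    Sform e S p (f • wt e p t) = S f • wt e p t := by
  rw [Sform_apply]
  have h : ∀ s, S ((e.exteriorPower p).repr (f • wt e p t) s) • (e.exteriorPower p) s
      = S f • ((e.exteriorPower p).repr (wt e p t) s • (e.exteriorPower p) s) := by
    intro s
    obtain ⟨c, hc⟩ := repr_wt (k := k) e p t s
    rw [map_smul, Finsupp.smul_apply, hc, smul_eq_mul, mul_comm, ← Algebra.smul_def, map_smul,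
      smul_assoc, algebraMap_smul, smul_comm]
  rw [Finset.sum_congr rfl (fun s _ => h s), ← Finset.smul_sum, Module.Basis.sum_repr]

/-! ### the homotopy -/

variable (δ : Derivation k A M) (x : σ → A)
variable (d : ∀ p : ℕ, ↥(⋀[A]^p M) →ₗ[k] ↥(⋀[A]^(p + 1) M))

/-- contraction with the Euler field, between exterior powers -/
noncomputable def ctrE (p : ℕ) : ↥(⋀[A]^(p + 1) M) →ₗ[A] ↥(⋀[A]^p M) :=
  (ctr (θE e x)).restrict (fun _ h => ctr_mem (θE e x) h)

lemma coe_ctrE (p : ℕ) (ω : ↥(⋀[A]^(p + 1) M)) :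
    ((ctrE e x p ω : ↥(⋀[A]^p M)) : ExteriorAlgebra A M) = ctr (θE e x) (ω : ExteriorAlgebra A M) :=
  rfl

/-- the homotopy operator -/
noncomputable def hop (S : ℕ → A →ₗ[k] A) (p : ℕ) : ↥(⋀[A]^(p + 1) M) →ₗ[k] ↥(⋀[A]^p M) :=
  ((ctrE e x p).restrictScalars k).comp (Sform e (S (p + 1)) (p + 1))

lemma hop_apply (S : ℕ → A →ₗ[k] A) (p : ℕ) (ω : ↥(⋀[A]^(p + 1) M)) :
    hop e x S p ω = ctrE e x p (Sform e (S (p + 1)) (p + 1) ω) := rfl

/-- `d` of a generator, expanded in generators -/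
lemma d_smul_wt (hd : DeRham.IsRule δ d) (hx : ∀ i, δ (x i) = e i) (f : A) (p : ℕ)
    (t : Fin p → σ) :
    d p (f • wt e p t) = ∑ i, e.coord i (δ f) • wt e (p + 1) (Fin.cons i t) := by
  apply Subtype.ext
  have h0 : ((f • wt e p t : ↥(⋀[A]^p M)) : ExteriorAlgebra A M) = f • Wt e p t := rfl
  have h1 := dE_smul_Wt e d δ x hd hx f p t (h0 ▸ Subtype.property _)
  unfold dE at h1
  have h2 : (⟨f • Wt e p t, h0 ▸ Subtype.property _⟩ : ↥(⋀[A]^p M)) = f • wt e p t :=
    Subtype.ext h0.symm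
  rw [h2] at h1
  rw [h1, Submodule.coe_sum]
  have h3 : δ f = ∑ i, e.coord i (δ f) • e i := (e.sum_repr (δ f)).symm
  conv_lhs => rw [h3]
  rw [map_sum, Finset.sum_mul]
  apply Finset.sum_congr rfl
  intro i _
  rw [map_smul, smul_mul_assoc, Submodule.coe_smul, coe_wt, Wt_cons]

theorem homotopy_gen (S : ℕ → A →ₗ[k] A)
    (hS1 : ∀ (q : ℕ) (f : A), θE e x (δ (S (q + 1) f)) + (q + 1) • S (q + 1) f = f)
    (hS2 : ∀ (q : ℕ) (f : A) (i : σ),
      e.coord i (δ (S (q + 1) f)) = S (q + 2) (e.coord i (δ f)))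
    (hd : DeRham.IsRule δ d) (hx : ∀ i, δ (x i) = e i) (p : ℕ) (f : A) (t : Fin (p + 1) → σ) :
    d p (hop e x S p (f • wt e (p + 1) t)) + hop e x S (p + 1) (d (p + 1) (f • wt e (p + 1) t))
      = f • wt e (p + 1) t := by
  obtain ⟨f', hf'⟩ : ∃ f', S (p + 1) f = f' := ⟨_, rfl⟩
  -- first term
  have a1 : hop e x S p (f • wt e (p + 1) t) = ctrE e x p (f' • wt e (p + 1) t) := by
    rw [hop_apply, Sform_smul_wt, hf']
  -- second term
  have a2 : Sform e (S (p + 1 + 1)) (p + 1 + 1) (d (p + 1) (f • wt e (p + 1) t))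
      = d (p + 1) (f' • wt e (p + 1) t) := by
    rw [d_smul_wt e δ x d hd hx, d_smul_wt e δ x d hd hx, map_sum]
    apply Finset.sum_congr rfl
    intro i _
    rw [Sform_smul_wt, ← hf', hS2 p f i]
  have a3 : hop e x S (p + 1) (d (p + 1) (f • wt e (p + 1) t))
      = ctrE e x (p + 1) (d (p + 1) (f' • wt e (p + 1) t)) := by
    rw [hop_apply, a2]
  rw [a1, a3]
  apply Subtype.ext
  rw [Submodule.coe_add, coe_ctrE]
  have hm2 : f' • Wt e (p + 1) t ∈ ⋀[A]^(p + 1) M := Submodule.smul_mem _ _ (Wt_mem e _ _)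
  have hm1 : ctr (θE e x) (f' • Wt e (p + 1) t) ∈ ⋀[A]^p M := ctr_mem _ hm2
  have hc := cartan e d δ x hd hx f' p t hm1 hm2
  have b1 : ((d p (ctrE e x p (f' • wt e (p + 1) t)) : ↥(⋀[A]^(p + 1) M)) : ExteriorAlgebra A M)
      = dE d p (ctr (θE e x) (f' • Wt e (p + 1) t)) hm1 := rfl
  have b2 : ((d (p + 1) (f' • wt e (p + 1) t) : ↥(⋀[A]^(p + 1 + 1) M)) : ExteriorAlgebra A M)
      = dE d (p + 1) (f' • Wt e (p + 1) t) hm2 := rfl
  rw [b1, b2, hc, ← hf', hS1 p f]
  rfl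

theorem homotopy (S : ℕ → A →ₗ[k] A)
    (hS1 : ∀ (q : ℕ) (f : A), θE e x (δ (S (q + 1) f)) + (q + 1) • S (q + 1) f = f)
    (hS2 : ∀ (q : ℕ) (f : A) (i : σ),
      e.coord i (δ (S (q + 1) f)) = S (q + 2) (e.coord i (δ f)))
    (hd : DeRham.IsRule δ d) (hx : ∀ i, δ (x i) = e i) (p : ℕ) (ω : ↥(⋀[A]^(p + 1) M)) :
    d p (hop e x S p ω) + hop e x S (p + 1) (d (p + 1) ω) = ω := by
  have hω := (e.exteriorPower (p + 1)).sum_repr ω
  have hB : ∀ s : Set.powersetCard σ (p + 1), (e.exteriorPower (p + 1)) s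
      = wt e (p + 1) (fun j => Set.powersetCard.ofFinEmbEquiv.symm s j) := by
    intro s
    rw [exteriorPower.basis_apply]
    rfl
  rw [← hω]
  simp only [map_sum]
  rw [← Finset.sum_add_distrib]
  apply Finset.sum_congr rfl
  intro s _
  rw [hB s]
  exact homotopy_gen e δ x d S hS1 hS2 hd hx p _ _

end

/-- **Abstract Poincaré lemma**: closed forms of positive degree are exact. -/
theorem poincare {σ : Type w} [Fintype σ] (e : Module.Basis σ A M) (δ : Derivation k A M)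
    (x : σ → A) (d : ∀ p : ℕ, ↥(⋀[A]^p M) →ₗ[k] ↥(⋀[A]^(p + 1) M)) (S : ℕ → A →ₗ[k] A)
    (hS1 : ∀ (q : ℕ) (f : A), θE e x (δ (S (q + 1) f)) + (q + 1) • S (q + 1) f = f)
    (hS2 : ∀ (q : ℕ) (f : A) (i : σ),
      e.coord i (δ (S (q + 1) f)) = S (q + 2) (e.coord i (δ f)))
    (hd : DeRham.IsRule δ d) (hx : ∀ i, δ (x i) = e i) (p : ℕ) :
    LinearMap.ker (d (p + 1)) ≤ LinearMap.range (d p) := by
  classical
  obtain ⟨lo, _⟩ := exists_wellOrder σ
  intro ω hω
  rw [LinearMap.mem_ker] at hω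
  have h := @homotopy k A M _ _ _ _ _ _ _ σ lo _ e δ x d S hS1 hS2 hd hx p ω
  rw [hω, map_zero, add_zero] at h
  exact ⟨_, h⟩

end Groth.Agent.Lib.T2H4.PoincareC
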