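import Mathlib
import Groth.Prelude.Def_DeRham
import Groth.Agent.Lib.T2H4PoincareC

/-! Helper library (helper4): the "divide by weight" operators on `k[[σ]]` in characteristic
zero, and the formal Poincaré lemma. -/

set_option autoImplicit false

namespace Groth.Agent.Lib.T2H4.PoincarePS

open MvPowerSeries Groth.Agent.Lib.T2H4.PoincareB Groth.Agent.Lib.T2H4.PoincareC

universe u

variable {k : Type u} [Field k] [CharZero k] {σ : Type u}

/-- divide the coefficient of `x^m` by `|m| + q` -/
noncomputable def Sq (q : ℕ) : MvPowerSeries σ k →ₗ[k] MvPowerSeries σ k where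
  toFun f := fun m => (((m.degree + q : ℕ) : k))⁻¹ * coeff m f
  map_add' f g := by
    funext m
    show _ * coeff m (f + g) = _ * coeff m f + _ * coeff m g
    rw [map_add, mul_add]
  map_smul' c f := by
    funext m
    show _ * coeff m (c • f) = c • (_ * coeff m f)
    rw [map_smul, smul_eq_mul, smul_eq_mul]
    ring

lemma coeff_Sq (q : ℕ) (f : MvPowerSeries σ k) (m : σ →₀ ℕ) :
    coeff m (Sq q f) = (((m.degree + q : ℕ) : k))⁻¹ * coeff m f := rfl

lemma pderiv_Sq (q : ℕ) (f : MvPowerSeries σ k) (i : σ) :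
    pderiv k i (Sq (q + 1) f) = Sq (q + 2) (pderiv k i f) := by
  ext m
  rw [coeff_pderiv, coeff_Sq, coeff_Sq, coeff_pderiv, map_add, Finsupp.degree_single]
  have : m.degree + 1 + (q + 1) = m.degree + (q + 2) := by ring
  rw [this]
  ring

lemma euler_Sq [Fintype σ] (q : ℕ) (f : MvPowerSeries σ k) :
    ∑ i, X i * pderiv k i (Sq (q + 1) f) + (q + 1) • Sq (q + 1) f = f := by
  classical
  ext m
  have h1 : ∀ i, coeff m (X i * pderiv k i (Sq (q + 1) f))
      = (m i : k) * coeff m (Sq (q + 1) f) := by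
    intro i
    rw [X_def, coeff_monomial_mul, one_mul]
    split_ifs with h
    · rw [coeff_pderiv]
      have hi : 1 ≤ m i := by
        have := h i
        simpa using this
      have e1 : m - Finsupp.single i 1 + Finsupp.single i 1 = m := tsub_add_cancel_of_le h
      rw [e1, Finsupp.tsub_apply, Finsupp.single_eq_same]
      have : ((m i - 1 : ℕ) : k) + 1 = (m i : k) := by
        rw [Nat.cast_sub hi]
        ring
      rw [this, mul_comm]
    · have hi : m i = 0 := by
        by_contra hne
        apply h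
        rw [Finsupp.single_le_iff]
        exact Nat.one_le_iff_ne_zero.mpr hne
      rw [hi, Nat.cast_zero, zero_mul]
  rw [map_add, map_sum, Finset.sum_congr rfl (fun i _ => h1 i), ← Finset.sum_mul, map_nsmul,
    nsmul_eq_mul, ← add_mul, coeff_Sq, ← Nat.cast_sum, ← Finsupp.degree_eq_sum]
  have hne : ((m.degree + (q + 1) : ℕ) : k) ≠ 0 := by
    rw [Nat.cast_ne_zero]
    omega
  have e2 : (m.degree : k) + ((q + 1 : ℕ) : k) = ((m.degree + (q + 1) : ℕ) : k) := by
    push_cast
    ring
  rw [e2, ← mul_assoc, mul_inv_cancel₀ hne, one_mul]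

/-- **Formal Poincaré lemma** for any family satisfying the de Rham rule. -/
theorem poincare_powerSeries [Finite σ]
    (δ : Derivation k (MvPowerSeries σ k) (σ → MvPowerSeries σ k))
    (hδ : ∀ (f : MvPowerSeries σ k) (i : σ), δ f i = MvPowerSeries.pderiv k i f)
    (d : ∀ p : ℕ, ↥(⋀[MvPowerSeries σ k]^p (σ → MvPowerSeries σ k)) →ₗ[k]
      ↥(⋀[MvPowerSeries σ k]^(p + 1) (σ → MvPowerSeries σ k)))
    (hd : DeRham.IsRule δ d) (p : ℕ) :
    LinearMap.ker (d (p + 1)) ≤ LinearMap.range (d p) := by
  classical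
  haveI := Fintype.ofFinite σ
  have hcoord : ∀ (i : σ) (v : σ → MvPowerSeries σ k),
      (Pi.basisFun (MvPowerSeries σ k) σ).coord i v = v i := by
    intro i v
    rw [Module.Basis.coord_apply, Pi.basisFun_repr]
  refine poincare (Pi.basisFun (MvPowerSeries σ k) σ) δ (fun i => X i) d Sq ?_ ?_ hd ?_ p
  · intro q f
    refine Eq.trans ?_ (euler_Sq q f)
    congr 1
    unfold θE
    rw [LinearMap.sum_apply]
    apply Finset.sum_congr rfl
    intro i _
    rw [LinearMap.smul_apply, hcoord, hδ, smul_eq_mul]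
  · intro q f i
    rw [hcoord, hcoord, hδ, hδ, pderiv_Sq]
  · intro i
    funext j
    rw [hδ, pderiv_X, Pi.basisFun_apply]
    simp [Pi.single_apply, eq_comm]

end Groth.Agent.Lib.T2H4.PoincarePS
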