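import Mathlib
import Groth.Prelude.Def_DeRham
import Groth.Agent.Lib.T2H4PoincareC

/-! Helper library (helper4): the "divide by weight" operators on `k[σ]` in characteristic
zero, and the algebraic Poincaré lemma for polynomial rings. -/

set_option autoImplicit false

namespace Groth.Agent.Lib.T2H4.PoincarePoly

open MvPolynomial Groth.Agent.Lib.T2H4.PoincareA Groth.Agent.Lib.T2H4.PoincareB
  Groth.Agent.Lib.T2H4.PoincareC

universe u w

variable {k : Type u} [Field k] [CharZero k] {σ : Type w}

/-- divide the coefficient of `x^m` by `|m| + q` -/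
noncomputable def Sq (q : ℕ) : MvPolynomial σ k →ₗ[k] MvPolynomial σ k :=
  (MvPolynomial.basisMonomials σ k).constr k
    (fun m => MvPolynomial.monomial m ((((m.degree + q : ℕ) : k))⁻¹))

lemma Sq_monomial (q : ℕ) (m : σ →₀ ℕ) (a : k) :
    Sq q (monomial m a) = monomial m ((((m.degree + q : ℕ) : k))⁻¹ * a) := by
  have h : monomial m a = a • (MvPolynomial.basisMonomials σ k) m := by
    rw [coe_basisMonomials, smul_monomial, smul_eq_mul, mul_one]
  rw [h, map_smul, Sq, Module.Basis.constr_basis, smul_monomial, smul_eq_mul, mul_comm]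

lemma coeff_Sq (q : ℕ) (f : MvPolynomial σ k) (m : σ →₀ ℕ) :
    coeff m (Sq q f) = (((m.degree + q : ℕ) : k))⁻¹ * coeff m f := by
  classical
  induction f using MvPolynomial.induction_on' with
  | monomial m' a =>
    rw [Sq_monomial, coeff_monomial, coeff_monomial]
    split_ifs with h
    · subst h; rfl
    · rw [mul_zero]
  | add p q hp hq => rw [map_add, coeff_add, coeff_add, hp, hq, mul_add]

lemma pderiv_Sq (q : ℕ) (f : MvPolynomial σ k) (i : σ) :
    pderiv i (Sq (q + 1) f) = Sq (q + 2) (pderiv i f) := by
  ext m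
  rw [coeff_pderiv, coeff_Sq, coeff_Sq, coeff_pderiv, map_add, Finsupp.degree_single]
  have : m.degree + 1 + (q + 1) = m.degree + (q + 2) := by ring
  rw [this]
  ring

lemma euler_Sq [Fintype σ] (q : ℕ) (f : MvPolynomial σ k) :
    ∑ i, X i * pderiv i (Sq (q + 1) f) + (q + 1) • Sq (q + 1) f = f := by
  classical
  ext m
  have h1 : ∀ i, coeff m (X i * pderiv i (Sq (q + 1) f))
      = (m i : k) * coeff m (Sq (q + 1) f) := by
    intro i
    rw [coeff_X_mul']
    split_ifs with h
    · rw [coeff_pderiv]
      have hi : 1 ≤ m i := by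
        rw [Finsupp.mem_support_iff] at h
        exact Nat.one_le_iff_ne_zero.mpr h
      have hle : Finsupp.single i 1 ≤ m := by
        rw [Finsupp.single_le_iff]
        exact hi
      have e1 : m - Finsupp.single i 1 + Finsupp.single i 1 = m := tsub_add_cancel_of_le hle
      rw [e1, Finsupp.tsub_apply, Finsupp.single_eq_same]
      have : ((m i - 1 : ℕ) : k) + 1 = (m i : k) := by
        rw [Nat.cast_sub hi]
        ring
      rw [this, mul_comm]
    · have hi : m i = 0 := by
        rw [Finsupp.mem_support_iff, not_not] at h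
        exact h
      rw [hi, Nat.cast_zero, zero_mul]
  rw [coeff_add, coeff_sum, Finset.sum_congr rfl (fun i _ => h1 i), ← Finset.sum_mul,
    coeff_smul, nsmul_eq_mul, ← add_mul, coeff_Sq, ← Nat.cast_sum, ← Finsupp.degree_eq_sum]
  have hne : ((m.degree + (q + 1) : ℕ) : k) ≠ 0 := by
    rw [Nat.cast_ne_zero]
    omega
  have e2 : (m.degree : k) + ((q + 1 : ℕ) : k) = ((m.degree + (q + 1) : ℕ) : k) := by
    push_cast
    ring
  rw [e2, ← mul_assoc, mul_inv_cancel₀ hne, one_mul]

/-- a polynomial all of whose partial derivatives vanish is constant (characteristic zero) -/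
lemma eq_C_of_pderiv_eq_zero (f : MvPolynomial σ k) (h : ∀ i, pderiv i f = 0) :
    f = C (coeff 0 f) := by
  classical
  ext m
  rw [coeff_C]
  split_ifs with hm
  · rw [← hm]
  · have : ∃ i, m i ≠ 0 := by
      by_contra hc
      push Not at hc
      apply hm
      ext i
      rw [hc i]
      rfl
    obtain ⟨i, hi⟩ := this
    have hle : Finsupp.single i 1 ≤ m := by
      rw [Finsupp.single_le_iff]
      exact Nat.one_le_iff_ne_zero.mpr hi
    have e1 : m - Finsupp.single i 1 + Finsupp.single i 1 = m := tsub_add_cancel_of_le hle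
    have h2 := coeff_pderiv (i := i) f (m - Finsupp.single i 1)
    rw [h i, coeff_zero, e1] at h2
    rcases mul_eq_zero.mp h2.symm with h4 | h4
    · exact h4
    · exact absurd h4 (Nat.cast_add_one_ne_zero _)

/-- **Algebraic Poincaré lemma** for polynomial rings, for any family satisfying the de Rham rule
on Kähler differentials. -/
theorem poincare_polynomial [Finite σ]
    (d : ∀ p : ℕ, ↥(⋀[MvPolynomial σ k]^p (KaehlerDifferential k (MvPolynomial σ k))) →ₗ[k]
      ↥(⋀[MvPolynomial σ k]^(p + 1) (KaehlerDifferential k (MvPolynomial σ k))))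
    (hd : DeRham.IsRule (KaehlerDifferential.D k (MvPolynomial σ k)) d) (p : ℕ) :
    LinearMap.ker (d (p + 1)) ≤ LinearMap.range (d p) := by
  classical
  haveI := Fintype.ofFinite σ
  have hcoord : ∀ (i : σ) (f : MvPolynomial σ k),
      (KaehlerDifferential.mvPolynomialBasis k σ).coord i
        (KaehlerDifferential.D k (MvPolynomial σ k) f) = pderiv i f := by
    intro i f
    rw [Module.Basis.coord_apply, KaehlerDifferential.mvPolynomialBasis_repr_apply]
  refine poincare (KaehlerDifferential.mvPolynomialBasis k σ)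
    (KaehlerDifferential.D k (MvPolynomial σ k)) (fun i => X i) d Sq ?_ ?_ hd ?_ p
  · intro q f
    refine Eq.trans ?_ (euler_Sq q f)
    congr 1
    unfold θE
    rw [LinearMap.sum_apply]
    apply Finset.sum_congr rfl
    intro i _
    rw [LinearMap.smul_apply, hcoord, smul_eq_mul]
  · intro q f i
    rw [hcoord, hcoord, pderiv_Sq]
  · intro i
    rw [KaehlerDifferential.mvPolynomialBasis_apply]

end Groth.Agent.Lib.T2H4.PoincarePoly
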