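import Mathlib
import Groth.Prelude.Def_DeRham
import Groth.Agent.Lib.T2H4PoincarePoly

/-! Helper library (helper4): exactness of the de Rham complex of a polynomial ring in
characteristic zero, for a differential given as a graded derivation of the exterior algebra. -/

set_option autoImplicit false

namespace Groth.Agent.Lib.T2H4.PoincarePolyB

open MvPolynomial ExteriorAlgebra Groth.Agent.Lib.T2H4.PoincareA Groth.Agent.Lib.T2H4.PoincarePoly

universe u w

variable {k : Type u} [Field k] [CharZero k] {σ : Type w}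


variable (d : (ExteriorAlgebra (MvPolynomial σ k) (KaehlerDifferential k (MvPolynomial σ k))) →ₗ[k] (ExteriorAlgebra (MvPolynomial σ k) (KaehlerDifferential k (MvPolynomial σ k))))
  (h0 : ∀ a : (MvPolynomial σ k), d (algebraMap (MvPolynomial σ k) (ExteriorAlgebra (MvPolynomial σ k) (KaehlerDifferential k (MvPolynomial σ k))) a) = ι (MvPolynomial σ k) (KaehlerDifferential.D k (MvPolynomial σ k) a))
  (hdeg : ∀ (p : ℕ) (ω : (ExteriorAlgebra (MvPolynomial σ k) (KaehlerDifferential k (MvPolynomial σ k)))), ω ∈ ⋀[(MvPolynomial σ k)]^p (KaehlerDifferential k (MvPolynomial σ k)) → d ω ∈ ⋀[(MvPolynomial σ k)]^(p + 1) (KaehlerDifferential k (MvPolynomial σ k)))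
  (hder : ∀ (p : ℕ) (ω η : (ExteriorAlgebra (MvPolynomial σ k) (KaehlerDifferential k (MvPolynomial σ k)))), ω ∈ ⋀[(MvPolynomial σ k)]^p (KaehlerDifferential k (MvPolynomial σ k)) → d (ω * η) = d ω * η + (-1) ^ p * ω * d η)
  (hdd : ∀ ω, d (d ω) = 0)

/-- the family of maps between exterior powers induced by `d` -/
noncomputable def dfam (p : ℕ) : ↥(⋀[(MvPolynomial σ k)]^p (KaehlerDifferential k (MvPolynomial σ k))) →ₗ[k] ↥(⋀[(MvPolynomial σ k)]^(p + 1) (KaehlerDifferential k (MvPolynomial σ k))) where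
  toFun ω := ⟨d ω, hdeg p ω ω.2⟩
  map_add' ω η := by
    apply Subtype.ext
    show d ((ω + η : ↥(⋀[(MvPolynomial σ k)]^p (KaehlerDifferential k (MvPolynomial σ k)))) : (ExteriorAlgebra (MvPolynomial σ k) (KaehlerDifferential k (MvPolynomial σ k)))) = d ω + d η
    rw [Submodule.coe_add, map_add]
  map_smul' c ω := by
    apply Subtype.ext
    show d ((c • ω : ↥(⋀[(MvPolynomial σ k)]^p (KaehlerDifferential k (MvPolynomial σ k)))) : (ExteriorAlgebra (MvPolynomial σ k) (KaehlerDifferential k (MvPolynomial σ k)))) = c • d ω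
    rw [Submodule.coe_smul_of_tower, map_smul]

lemma coe_dfam (p : ℕ) (ω : ↥(⋀[(MvPolynomial σ k)]^p (KaehlerDifferential k (MvPolynomial σ k)))) : ((dfam d hdeg p ω : ↥(⋀[(MvPolynomial σ k)]^(p + 1) (KaehlerDifferential k (MvPolynomial σ k)))) : (ExteriorAlgebra (MvPolynomial σ k) (KaehlerDifferential k (MvPolynomial σ k)))) = d ω := rfl

include h0 hder hdd in
lemma d_wedge_D : ∀ (p : ℕ) (b : Fin p → (MvPolynomial σ k)),
    d (ExteriorAlgebra.ιMulti (MvPolynomial σ k) p (fun j => KaehlerDifferential.D k (MvPolynomial σ k) (b j))) = 0 := by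
  intro p
  induction p with
  | zero =>
    intro b
    rw [ExteriorAlgebra.ιMulti_zero_apply]
    have := h0 1
    rw [map_one, Derivation.map_one_eq_zero, map_zero] at this
    exact this
  | succ p ih =>
    intro b
    rw [ExteriorAlgebra.ιMulti_succ_apply]
    have hm : ι (MvPolynomial σ k) (KaehlerDifferential.D k (MvPolynomial σ k) (b 0)) ∈ ⋀[(MvPolynomial σ k)]^1 (KaehlerDifferential k (MvPolynomial σ k)) := by
      have := ι_mul_mem (A := (MvPolynomial σ k)) (KaehlerDifferential.D k (MvPolynomial σ k) (b 0)) (one_mem_zero (A := (MvPolynomial σ k)) (M := (KaehlerDifferential k (MvPolynomial σ k))))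
      rwa [mul_one] at this
    have e1 : d (ι (MvPolynomial σ k) (KaehlerDifferential.D k (MvPolynomial σ k) (b 0))) = 0 := by
      rw [← h0, hdd]
    have e2 : Matrix.vecTail (fun j => KaehlerDifferential.D k (MvPolynomial σ k) (b j))
        = fun j : Fin p => KaehlerDifferential.D k (MvPolynomial σ k) (b j.succ) := rfl
    rw [hder 1 _ _ hm, e1, zero_mul, zero_add, e2, ih (fun j => b j.succ), mul_zero]

include h0 hder hdd in
lemma isRule : DeRham.IsRule (KaehlerDifferential.D k (MvPolynomial σ k)) (dfam d hdeg) := by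
  intro p b₀ b
  apply Subtype.ext
  rw [coe_dfam, exteriorPower.ιMulti_apply_coe, ExteriorAlgebra.ιMulti_succ_apply]
  have e0 : ((DeRham.gen (KaehlerDifferential.D k (MvPolynomial σ k)) p b₀ b : ↥(⋀[(MvPolynomial σ k)]^p (KaehlerDifferential k (MvPolynomial σ k)))) : (ExteriorAlgebra (MvPolynomial σ k) (KaehlerDifferential k (MvPolynomial σ k))))
      = algebraMap (MvPolynomial σ k) (ExteriorAlgebra (MvPolynomial σ k) (KaehlerDifferential k (MvPolynomial σ k))) b₀ * ExteriorAlgebra.ιMulti (MvPolynomial σ k) p (fun j => KaehlerDifferential.D k (MvPolynomial σ k) (b j)) := by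
    unfold DeRham.gen
    rw [Submodule.coe_smul, exteriorPower.ιMulti_apply_coe, Algebra.smul_def]
  have hm : algebraMap (MvPolynomial σ k) (ExteriorAlgebra (MvPolynomial σ k) (KaehlerDifferential k (MvPolynomial σ k))) b₀ ∈ ⋀[(MvPolynomial σ k)]^0 (KaehlerDifferential k (MvPolynomial σ k)) := by
    have := Submodule.smul_mem _ b₀ (one_mem_zero (A := (MvPolynomial σ k)) (M := (KaehlerDifferential k (MvPolynomial σ k))))
    rwa [Algebra.smul_def, mul_one] at this
  have e2 : Matrix.vecTail (Fin.cons (KaehlerDifferential.D k (MvPolynomial σ k) b₀)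
      (fun i => KaehlerDifferential.D k (MvPolynomial σ k) (b i)) : Fin (p + 1) → (KaehlerDifferential k (MvPolynomial σ k)))
        = fun j => KaehlerDifferential.D k (MvPolynomial σ k) (b j) := by
    funext j
    simp [Matrix.vecTail]
  rw [e0, hder 0 _ _ hm, h0, d_wedge_D d h0 hder hdd p b, mul_zero, add_zero, e2, Fin.cons_zero]

include h0 hdeg hder hdd in
/-- exactness of the polynomial de Rham complex -/
theorem exact [Finite σ] :
    (∀ a : (MvPolynomial σ k), d (algebraMap (MvPolynomial σ k) (ExteriorAlgebra (MvPolynomial σ k) (KaehlerDifferential k (MvPolynomial σ k))) a) = 0 → ∃ c : k, a = MvPolynomial.C c) ∧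
    ∀ (p : ℕ) (ω : (ExteriorAlgebra (MvPolynomial σ k) (KaehlerDifferential k (MvPolynomial σ k)))), ω ∈ ⋀[(MvPolynomial σ k)]^(p + 1) (KaehlerDifferential k (MvPolynomial σ k)) → d ω = 0 → ∃ θ ∈ ⋀[(MvPolynomial σ k)]^p (KaehlerDifferential k (MvPolynomial σ k)), d θ = ω := by
  constructor
  · intro a ha
    rw [h0] at ha
    have h1 : KaehlerDifferential.D k (MvPolynomial σ k) a = 0 := by
      exact (ExteriorAlgebra.ι_eq_zero_iff _).mp ha
    refine ⟨coeff 0 a, eq_C_of_pderiv_eq_zero a (fun i => ?_)⟩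
    rw [← KaehlerDifferential.mvPolynomialBasis_repr_apply, h1, map_zero]
    rfl
  · intro p ω hω hdω
    have h := poincare_polynomial (dfam d hdeg) (isRule d h0 hdeg hder hdd) p
    have hk : (⟨ω, hω⟩ : ↥(⋀[(MvPolynomial σ k)]^(p + 1) (KaehlerDifferential k (MvPolynomial σ k)))) ∈ LinearMap.ker (dfam d hdeg (p + 1)) := by
      rw [LinearMap.mem_ker]
      apply Subtype.ext
      rw [coe_dfam]
      exact hdω
    obtain ⟨θ, hθ⟩ := h hk
    refine ⟨θ.1, θ.2, ?_⟩
    have := congrArg Subtype.val hθ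
    rw [coe_dfam] at this
    exact this

end Groth.Agent.Lib.T2H4.PoincarePolyB
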