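import Mathlib.Algebra.Polynomial.Module.TensorProduct
import Mathlib.LinearAlgebra.TensorProduct.Tower
import Mathlib.RingTheory.TensorProduct.Basic
import Mathlib.Algebra.Exact
import Mathlib.Tactic

/-!
# The characteristic sequence of a module over a polynomial ring (helper4)

For an `A[X]`-module `N` there is a short exact sequence of `A[X]`-modules
`0 → A[X] ⊗_A N → A[X] ⊗_A N → N → 0`.
-/

set_option autoImplicit false
universe u

namespace Groth.Agent.Lib.T2H4.Poly

open Polynomial TensorProduct

variable (A : Type u) [CommRing A] (N : Type u) [AddCommGroup N] [Module A N] [Module A[X] N]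
  [IsScalarTower A A[X] N]

/-- multiplication by `X` on `N`, as an `A`-linear map. -/
noncomputable def mulX : N →ₗ[A] N := (LinearMap.lsmul A[X] N X).restrictScalars A

@[simp] lemma mulX_apply (n : N) : mulX A N n = (X : A[X]) • n := rfl

/-- the augmentation `A[X] ⊗_A N → N`. -/
noncomputable def charμ : A[X] ⊗[A] N →ₗ[A[X]] N :=
  LinearMap.liftBaseChange A[X] (LinearMap.id : N →ₗ[A] N)

@[simp] lemma charμ_tmul (p : A[X]) (n : N) : charμ A N (p ⊗ₜ n) = p • n := rfl

/-- the characteristic map `X ⊗ 1 - 1 ⊗ X`. -/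
noncomputable def charφ : A[X] ⊗[A] N →ₗ[A[X]] A[X] ⊗[A] N :=
  LinearMap.lsmul A[X] (A[X] ⊗[A] N) X - LinearMap.baseChange A[X] (mulX A N)

lemma charφ_tmul (p : A[X]) (n : N) :
    charφ A N (p ⊗ₜ n) = (X * p) ⊗ₜ n - p ⊗ₜ ((X : A[X]) • n) := by
  simp [charφ, TensorProduct.smul_tmul']

lemma charμ_charφ (y : A[X] ⊗[A] N) : charμ A N (charφ A N y) = 0 := by
  induction y using TensorProduct.induction_on with
  | zero => simp
  | add x y hx hy => rw [map_add, map_add, hx, hy, add_zero]
  | tmul p n =>
    rw [charφ_tmul, map_sub, charμ_tmul, charμ_tmul, ← mul_smul, mul_comm, sub_self]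

lemma charμ_surjective : Function.Surjective (charμ A N) := fun n =>
  ⟨1 ⊗ₜ n, by simp⟩

lemma exists_charφ_eq_tmul (p : A[X]) :
    ∀ n : N, ∃ y, p ⊗ₜ[A] n - (1 : A[X]) ⊗ₜ[A] (p • n) = charφ A N y := by
  induction p using Polynomial.induction_on with
  | C a =>
    intro n
    refine ⟨0, ?_⟩
    rw [map_zero, sub_eq_zero, Polynomial.C_eq_algebraMap, algebraMap_smul,
      Algebra.algebraMap_eq_smul_one, TensorProduct.smul_tmul]
  | add p q hp hq =>
    intro n
    obtain ⟨y₁, h₁⟩ := hp n
    obtain ⟨y₂, h₂⟩ := hq n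
    refine ⟨y₁ + y₂, ?_⟩
    rw [map_add, ← h₁, ← h₂, add_smul, TensorProduct.add_tmul, TensorProduct.tmul_add]
    abel
  | monomial k a ih =>
    intro n
    obtain ⟨y', h'⟩ := ih ((X : A[X]) • n)
    refine ⟨(C a * X ^ k) ⊗ₜ n + y', ?_⟩
    rw [map_add, charφ_tmul, ← h']
    have e1 : C a * X ^ (k + 1) = X * (C a * X ^ k) := by ring
    have e2 : (C a * X ^ (k + 1)) • n = (C a * X ^ k) • ((X : A[X]) • n) := by
      rw [← mul_smul]
      congr 1
      ring
    rw [e1, ← e1, e2, e1]
    abel

lemma exists_charφ_eq (y : A[X] ⊗[A] N) :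
    ∃ z, y - (1 : A[X]) ⊗ₜ[A] (charμ A N y) = charφ A N z := by
  induction y using TensorProduct.induction_on with
  | zero => exact ⟨0, by simp⟩
  | add x y hx hy =>
    obtain ⟨z₁, h₁⟩ := hx
    obtain ⟨z₂, h₂⟩ := hy
    refine ⟨z₁ + z₂, ?_⟩
    rw [map_add, map_add, ← h₁, ← h₂, TensorProduct.tmul_add]
    abel
  | tmul p n => exact exists_charφ_eq_tmul A N p n

lemma exact_charφ_charμ : Function.Exact (charφ A N) (charμ A N) := by
  intro y
  constructor
  · intro hy
    obtain ⟨z, hz⟩ := exists_charφ_eq A N y
    rw [hy, TensorProduct.tmul_zero, sub_zero] at hz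
    exact ⟨z, hz.symm⟩
  · rintro ⟨z, rfl⟩
    exact charμ_charφ A N z

section Injective

open PolynomialModule

omit [Module A[X] N] [IsScalarTower A A[X] N] in
lemma equiv_tmul (p : A[X]) (n : N) :
    polynomialTensorProductLEquivPolynomialModule A N (p ⊗ₜ n) = p • lsingle A 0 n := rfl

omit [Module A[X] N] [IsScalarTower A A[X] N] in
lemma coeff_map (f : N →ₗ[A] N) (g : PolynomialModule A N) (k : ℕ) :
    (PolynomialModule.map A f g).coeff k = f (g.coeff k) := by
  induction g using PolynomialModule.induction_linear with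
  | zero => simp
  | add p q hp hq => simp [hp, hq]
  | single i m =>
    rw [map_single, coeff_single, coeff_single, Finsupp.single_apply, Finsupp.single_apply]
    split_ifs <;> simp

omit [Module A[X] N] [IsScalarTower A A[X] N] in
lemma coeff_X_smul_succ (g : PolynomialModule A N) (k : ℕ) :
    ((X : A[X]) • g).coeff (k + 1) = g.coeff k := by
  have := monomial_smul_apply (R := A) 1 (1 : A) g (k + 1)
  rw [monomial_one_one_eq_X] at this
  rw [this]
  simp

lemma equiv_charφ (y : A[X] ⊗[A] N) :
    polynomialTensorProductLEquivPolynomialModule A N (charφ A N y) =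
      (X : A[X]) • polynomialTensorProductLEquivPolynomialModule A N y -
        PolynomialModule.map A (mulX A N) (polynomialTensorProductLEquivPolynomialModule A N y) := by
  induction y using TensorProduct.induction_on with
  | zero => simp
  | add a b ha hb =>
    simp only [map_add, ha, hb, smul_add]
    abel
  | tmul p n =>
    rw [charφ_tmul, map_sub, equiv_tmul, equiv_tmul, equiv_tmul, mul_smul,
      PolynomialModule.map_smul, map_lsingle, Algebra.algebraMap_self, Polynomial.map_id, mulX_apply]

lemma charφ_injective : Function.Injective (charφ A N) := by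
  rw [injective_iff_map_eq_zero]
  intro y hy
  have h1 := equiv_charφ A N y
  rw [hy, map_zero] at h1
  set g := polynomialTensorProductLEquivPolynomialModule A N y with hg
  have hrec : ∀ k : ℕ, g.coeff k = (X : A[X]) • g.coeff (k + 1) := by
    intro k
    have h2 := congrArg (fun t : PolynomialModule A N => t.coeff (k + 1)) h1
    simp only [PolynomialModule.coeff_zero, Finsupp.coe_zero, Pi.zero_apply] at h2
    have h3 : ((X : A[X]) • g - PolynomialModule.map A (mulX A N) g).coeff (k + 1) =
        ((X : A[X]) • g).coeff (k + 1) - (PolynomialModule.map A (mulX A N) g).coeff (k + 1) := by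
      have h4 : ((X : A[X]) • g - PolynomialModule.map A (mulX A N) g).coeff =
          ((X : A[X]) • g).coeff - (PolynomialModule.map A (mulX A N) g).coeff :=
        map_sub (PolynomialModule.coeffAddEquiv (R := A) (M := N)) _ _
      rw [h4, Finsupp.sub_apply]
    rw [h3, coeff_X_smul_succ, coeff_map, mulX_apply] at h2
    exact sub_eq_zero.1 h2.symm
  have hzero : ∀ d : ℕ, (∀ k, d ≤ k → g.coeff k = 0) → ∀ k, g.coeff k = 0 := by
    intro d
    induction d with
    | zero => exact fun h k => h k (Nat.zero_le k)
    | succ d ih =>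
      intro h
      apply ih
      intro k hk
      rcases Nat.eq_or_lt_of_le hk with rfl | hlt
      · rw [hrec, h (d + 1) le_rfl, smul_zero]
      · exact h k hlt
  have hg0 : g = 0 := by
    rw [← PolynomialModule.coeff_eq_zero]
    ext k
    refine hzero (g.coeff.support.sup id + 1) (fun k hk => ?_) k
    by_contra hne
    have hmem : k ∈ g.coeff.support := Finsupp.mem_support_iff.2 hne
    have : k ≤ g.coeff.support.sup id := Finset.le_sup (f := id) hmem
    lia
  exact (polynomialTensorProductLEquivPolynomialModule A N).injective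
    (hg0.trans (map_zero _).symm)

end Injective

end Groth.Agent.Lib.T2H4.Poly
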