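import Groth.Agent.Lib.T2H4Poly1
import Groth.Agent.S0300
import Groth.Agent.S6965
import Groth.Agent.Lib.T2H4LD3
import Groth.Agent.Lib.T2H4FlatHom5
import Groth.Agent.Lib.T2H4Bidual4
import Groth.Agent.Lib.T2H4LDerExist

/-!
# Derived base change to the polynomial ring and injective dimension (helper4)
-/

set_option autoImplicit false
set_option linter.style.haveILetI false
set_option backward.isDefEq.respectTransparency.types false
universe u
open CategoryTheory CategoryTheory.Limits TensorProduct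
attribute [local instance] HasDerivedCategory.standard

namespace Groth.Agent.Lib.T2H4.Poly

open DerivedCategory Pretriangulated Groth.Agent.Lib.T2H4.LocKL
  Groth.Agent.Lib.T2H4.TorIndep Groth.Agent.Lib.Helper1.Extend
  Groth.Agent.Lib.T2H4.LocalDual Groth.Agent.Lib.T2H4.LD Polynomial

section Bass

variable (A : Type u) [CommRing A] [IsNoetherianRing A]

/-- `A[X] ⊗_A E` is an injective `A`-module for `E` injective (`A` Noetherian). -/
lemma injective_polyTensor (E : Type u) [AddCommGroup E] [Module A E] [Module.Injective A E] :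
    Module.Injective A (A[X] ⊗[A] E) := by
  let e1 : A[X] ⊗[A] E ≃ₗ[A] PolynomialModule A E :=
    (PolynomialModule.polynomialTensorProductLEquivPolynomialModule A E).restrictScalars A
  let e2 : PolynomialModule A E ≃ₗ[A] (ℕ →₀ E) := PolynomialModule.coeffLinearEquiv A A
  let e3 : (ℕ →₀ E) ≃ₗ[A] (ULift.{u} ℕ →₀ E) := Finsupp.domLCongr Equiv.ulift.symm
  let e4 : (ULift.{u} ℕ →₀ E) ≃ₗ[A] DirectSum (ULift.{u} ℕ) (fun _ => E) :=
    finsuppLEquivDirectSum A E _
  haveI := Groth.Agent.S0300.result A (fun _ : ULift.{u} ℕ => E) (fun _ => inferInstance)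
  exact injective_of_linearEquiv (e1 ≪≫ₗ e2 ≪≫ₗ e3 ≪≫ₗ e4).symm

end Bass

section General

variable (A B : Type u) [CommRing A] [CommRing B] [Algebra A B]

/-- the `A`-module underlying the extension of scalars of `M`. -/
noncomputable def resExtEquiv (M : Type u) [AddCommGroup M] [Module A M] :
    ((ModuleCat.restrictScalars.{u} (algebraMap A B)).obj
      ((ext A B).obj (ModuleCat.of A M))) ≃ₗ[A] B ⊗[A] M where
  toFun x := extEquiv (A := A) (B := B) M x
  invFun y := (extEquiv (A := A) (B := B) M).symm y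
  left_inv x := (extEquiv (A := A) (B := B) M).symm_apply_apply x
  right_inv y := (extEquiv (A := A) (B := B) M).apply_symm_apply y
  map_add' x y := (extEquiv (A := A) (B := B) M).map_add x y
  map_smul' a x := by
    let x' : ((ext A B).obj (ModuleCat.of A M)) := x
    show extEquiv (A := A) (B := B) M ((algebraMap A B a) • x') =
      a • extEquiv (A := A) (B := B) M x'
    exact ((extEquiv (A := A) (B := B) M).map_smul _ _).trans (algebraMap_smul B a _)

variable [Module.Flat A B]

/-- restriction of the extension of a complex of injective amplitude `[a, b]`. -/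
theorem hasInjAmp_res_ext
    (hB : ∀ (E : Type u) [AddCommGroup E] [Module A E], Module.Injective A E →
      Module.Injective A (B ⊗[A] E))
    (K : Dual.D A) (a b : ℤ) (h : DRing.HasInjAmplitudeIn A a b K) :
    DRing.HasInjAmplitudeIn A a b
      ((DRing.restrictD (algebraMap A B)).obj ((extD A B).obj K)) := by
  obtain ⟨E, hE, hinj, ⟨e⟩⟩ := h
  refine ⟨((ModuleCat.restrictScalars.{u} (algebraMap A B)).mapHomologicalComplex
      (ComplexShape.up ℤ)).obj ((extCx A B).obj E), fun i hi => ?_, fun i => ?_, ⟨?_⟩⟩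
  · exact (ModuleCat.restrictScalars.{u} (algebraMap A B)).map_isZero
      ((ext A B).map_isZero (hE i hi))
  · haveI := hinj i
    haveI := hB (E.X i) inferInstance
    exact injective_of_linearEquiv (resExtEquiv A B (E.X i)).symm
  · exact (mapQIso (ModuleCat.restrictScalars.{u} (algebraMap A B)) _).symm ≪≫
      (DRing.restrictD (algebraMap A B)).mapIso
        ((mapQIso (ext A B) E).symm ≪≫ (extD A B).mapIso e)

variable [DRing.HasLBaseChange (algebraMap A B)]

/-- `Ext^i_B(B ⊗_A N, K ⊗_A B)` vanishes outside the injective amplitude of `K`. -/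
theorem subsingleton_hom_lbc_inD
    (hB : ∀ (E : Type u) [AddCommGroup E] [Module A E], Module.Injective A E →
      Module.Injective A (B ⊗[A] E))
    (K : Dual.D A) (a b : ℤ) (h : DRing.HasInjAmplitudeIn A a b K)
    (N : Type u) [AddCommGroup N] [Module A N] (i : ℤ) (hi : i < a ∨ b < i) :
    Subsingleton (Dual.inD B (B ⊗[A] N) ⟶ ((DRing.LBaseChange (algebraMap A B)).obj K)⟦i⟧) := by
  obtain ⟨eK⟩ := nonempty_lbc_iso_extD A B K
  obtain ⟨eN⟩ := nonempty_lbc_inD_iso A B N
  have h1 := hasInjAmp_res_ext A B hB K a b h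
  have h2 : Subsingleton (Dual.inD A N ⟶
      ((DRing.restrictD (algebraMap A B)).obj ((extD A B).obj K))⟦i⟧) := by
    have htfae := Groth.Agent.S6965.result A
      ((DRing.restrictD (algebraMap A B)).obj ((extD A B).obj K)) a b
    have h12 : ∀ (N : Type u) [AddCommGroup N] [Module A N] (i : ℤ), (i < a ∨ b < i) →
        Subsingleton (DRing.ExtD A (Dual.inD A N)
          ((DRing.restrictD (algebraMap A B)).obj ((extD A B).obj K)) i) :=
      (htfae.out 0 1).1 h1
    exact h12 N i hi
  let e : (DRing.restrictD (algebraMap A B)).obj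
        (((DRing.LBaseChange (algebraMap A B)).obj K)⟦i⟧) ≅
      ((DRing.restrictD (algebraMap A B)).obj ((extD A B).obj K))⟦i⟧ :=
    ((DRing.restrictD (algebraMap A B)).commShiftIso i).app _ ≪≫
      (shiftFunctor (Dual.D A) i).mapIso ((DRing.restrictD (algebraMap A B)).mapIso eK)
  have h3 : Subsingleton (Dual.inD A N ⟶ (DRing.restrictD (algebraMap A B)).obj
      (((DRing.LBaseChange (algebraMap A B)).obj K)⟦i⟧)) :=
    ⟨fun f g => by
      rw [← cancel_mono e.hom]
      exact h2.elim _ _⟩
  have h4 : Subsingleton ((DRing.LBaseChange (algebraMap A B)).obj (Dual.inD A N) ⟶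
      ((DRing.LBaseChange (algebraMap A B)).obj K)⟦i⟧) :=
    ((lbcAdj (algebraMap A B)).homEquiv _ _).subsingleton
  exact ⟨fun f g => by
    rw [← cancel_epi eN.hom]
    exact h4.elim _ _⟩

end General

section PolyMain

variable (A : Type u) [CommRing A] [IsNoetherianRing A]
  [DRing.HasLBaseChange (algebraMap A A[X])]

/-- the injective amplitude of `K ⊗_A A[X]` is at most one more than that of `K`. -/
theorem subsingleton_hom_poly (K : Dual.D A) (a b : ℤ) (h : DRing.HasInjAmplitudeIn A a b K)
    (N : Type u) [AddCommGroup N] [Module A[X] N] (i : ℤ) (hi : i < a ∨ b + 1 < i) :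
    Subsingleton (Dual.inD A[X] N ⟶ ((DRing.LBaseChange (algebraMap A A[X])).obj K)⟦i⟧) := by
  letI : Module A N := Module.compHom N (algebraMap A A[X])
  haveI : IsScalarTower A A[X] N := IsScalarTower.of_algebraMap_smul (fun _ _ => rfl)
  have hB : ∀ (E : Type u) [AddCommGroup E] [Module A E], Module.Injective A E →
      Module.Injective A (A[X] ⊗[A] E) := fun E _ _ hE => injective_polyTensor A E
  have hT1 : Subsingleton (Dual.inD A[X] (A[X] ⊗[A] N) ⟶
      ((DRing.LBaseChange (algebraMap A A[X])).obj K)⟦i⟧) :=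
    subsingleton_hom_lbc_inD A A[X] hB K a b h N i (by lia)
  have hT2 : Subsingleton (Dual.inD A[X] (A[X] ⊗[A] N) ⟶
      ((DRing.LBaseChange (algebraMap A A[X])).obj K)⟦i - 1⟧) :=
    subsingleton_hom_lbc_inD A A[X] hB K a b h N (i - 1) (by lia)
  have hT3 : Subsingleton ((Dual.inD A[X] (A[X] ⊗[A] N))⟦(1 : ℤ)⟧ ⟶
      ((DRing.LBaseChange (algebraMap A A[X])).obj K)⟦i⟧) :=
    Groth.Agent.Lib.T2H4.Bidual.subsingleton_hom_shift _ _ 1 i hT2
  have hSE := scOf_shortExact (charφ A N) (charμ A N) (charφ_injective A N)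
    (charμ_surjective A N) (exact_charφ_charμ A N)
  have key : ∀ F : Dual.inD A[X] N ⟶
      ((DRing.LBaseChange (algebraMap A A[X])).obj K)⟦i⟧, F = 0 := by
    intro F
    obtain ⟨ψ, hψ⟩ := Triangle.yoneda_exact₃ _ hSE.singleTriangle_distinguished F
      (hT1.elim _ _)
    have hψ0 : ψ = 0 := hT3.elim ψ 0
    rw [hψ, hψ0]
    exact Limits.comp_zero
  exact ⟨fun F G => (key F).trans (key G).symm⟩

omit [IsNoetherianRing A] [DRing.HasLBaseChange (algebraMap A A[X])] in
lemma hasInjAmp_inD_of_injective (E : Type u) [AddCommGroup E] [Module A E]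
    [Module.Injective A E] : DRing.HasInjAmplitudeIn A 0 0 (Dual.inD A E) := by
  refine ⟨(CochainComplex.singleFunctor (ModuleCat.{u} A) 0).obj (ModuleCat.of A E),
    fun i hi => ?_, fun i => ?_,
    ⟨((singleFunctorIsoCompQ (ModuleCat.{u} A) 0).app (ModuleCat.of A E)).symm⟩⟩
  · exact HomologicalComplex.isZero_single_obj_X (ComplexShape.up ℤ) 0 _ i (by lia)
  · by_cases h : i = 0
    · subst h
      exact injective_of_linearEquiv (HomologicalComplex.singleObjXSelf (ComplexShape.up ℤ) 0
        (ModuleCat.of A E)).toLinearEquiv.symm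
    · have hz := HomologicalComplex.isZero_single_obj_X (ComplexShape.up ℤ) 0
        (ModuleCat.of A E) i h
      have hs : Subsingleton (((CochainComplex.singleFunctor (ModuleCat.{u} A) 0).obj
          (ModuleCat.of A E)).X i) := ModuleCat.subsingleton_of_isZero hz
      exact ⟨fun X Y _ _ _ _ f hf g => ⟨0, fun x => hs.elim _ _⟩⟩

omit [DRing.HasLBaseChange (algebraMap A A[X])] in
/-- **S1748**. -/
theorem hasInjAmp_polyTensor (E : Type u) [AddCommGroup E] [Module A E] [Module.Injective A E] :
    DRing.HasInjAmplitudeIn A[X] 0 1 (Dual.inD A[X] (A[X] ⊗[A] E)) := by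
  haveI : DRing.HasLBaseChange (algebraMap A A[X]) :=
    Groth.Agent.Lib.T2H4.LDerExist.hasLBaseChange _
  obtain ⟨eN⟩ := nonempty_lbc_inD_iso A A[X] E
  have h0 := hasInjAmp_inD_of_injective A E
  have htfae := Groth.Agent.S6965.result A[X]
    ((DRing.LBaseChange (algebraMap A A[X])).obj (Dual.inD A E)) 0 1
  have h21 : (∀ (N : Type u) [AddCommGroup N] [Module A[X] N] (i : ℤ), (i < 0 ∨ 1 < i) →
      Subsingleton (DRing.ExtD A[X] (Dual.inD A[X] N)
        ((DRing.LBaseChange (algebraMap A A[X])).obj (Dual.inD A E)) i)) →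
      DRing.HasInjAmplitudeIn A[X] 0 1
        ((DRing.LBaseChange (algebraMap A A[X])).obj (Dual.inD A E)) := (htfae.out 1 0).1
  obtain ⟨C, hC1, hC2, ⟨eC⟩⟩ := h21 (fun N _ _ i hi =>
    subsingleton_hom_poly A (Dual.inD A E) 0 0 h0 N i (by lia))
  exact ⟨C, hC1, hC2, ⟨eC ≪≫ eN⟩⟩

/-- **S1776**: the base change of a dualizing complex to the polynomial ring is dualizing. -/
theorem isDualizing_lbc_polynomial (ω : Dual.D A) (hω : Dual.IsDualizing A ω) :
    Dual.IsDualizing A[X] ((DRing.LBaseChange (algebraMap A A[X])).obj ω) := by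
  obtain ⟨a, b, hab⟩ := hω.finite_injective_dimension
  have hK : ∀ i : ℤ, (i < a ∨ b < i) →
      IsZero ((homologyFunctor (ModuleCat.{u} A) i).obj ω) := by
    intro i hi
    have := (Groth.Agent.Lib.T2H4.HomRing.subsingleton_hom_inD_self_iff ω i).1 (hab A i hi)
    exact ModuleCat.isZero_of_subsingleton _
  haveI : ω.IsGE a := (DerivedCategory.isGE_iff ω a).2 (fun i hi => hK i (Or.inl hi))
  have htfae := Groth.Agent.S6965.result A ω a b
  have h21 : (∀ (N : Type u) [AddCommGroup N] [Module A N] (i : ℤ), (i < a ∨ b < i) →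
      Subsingleton (DRing.ExtD A (Dual.inD A N) ω i)) →
      DRing.HasInjAmplitudeIn A a b ω := (htfae.out 1 0).1
  have hamp : DRing.HasInjAmplitudeIn A a b ω := h21 (fun N _ _ i hi => hab N i hi)
  refine ⟨inferInstance, ⟨a, b + 1, fun M _ _ i hi => subsingleton_hom_poly A ω a b hamp M i hi⟩,
    fun i => finite_HD_lbc A A[X] ω i (hω.finite_cohomology i),
    Groth.Agent.Lib.T2H4.FlatHom.toEnd_bijective_lbc_flat A[X] ω a a b hK hω.finite_cohomology
      hω.toEnd_bijective,
    fun i hi => Groth.Agent.Lib.T2H4.FlatHom.subsingleton_hom_lbc_flat A[X] ω ω a a b hK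
      hω.finite_cohomology i (hω.ext_self_subsingleton i hi)⟩

end PolyMain

end Groth.Agent.Lib.T2H4.Poly
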