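import Mathlib
import Groth.Prelude.Def_RelProj3
import Groth.Agent.Lib.T2H4ProjBundleA
import Groth.Agent.Lib.Helper2RelTwistInv
import Groth.Agent.Lib.Helper23CounitEpi

/-!
# On the projective bundle `P(E)`, the canonical morphism `p^* E → O_P(1)` is an epimorphism (helper4)
-/

set_option autoImplicit false
set_option linter.style.haveILetI false
universe u
open CategoryTheory Limits AlgebraicGeometry TopologicalSpace Opposite
open scoped HomogeneousIdeal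

namespace Groth.Agent.Lib.T2H4.ProjBundle

open Groth.Agent.Lib.Helper2.RelTildeQCoh Groth.Agent.Lib.Helper23.SecTw Groth.Agent.Lib.Helper6
  Groth.Agent.Lib.Helper2.Push Groth.Agent.Lib.Helper2.RelTwistGen
  Groth.Agent.Lib.Helper2.RelTwistTriv RelProj
  Groth.Agent.Lib.Helper2.RelTwistInv Groth.Agent.Lib.Helper23.CounitEpi Groth.Agent.Lib.Helper23.Extend

variable {P S : Scheme.{u}} {𝒮 : RelProj.QCGrAlg S} (p : P ⟶ S)
  (chart : ∀ (U : S.Opens) (hU : IsAffineOpen U), (((p ⁻¹ᵁ U : P.Opens) : Scheme.{u}) ≅ Proj (𝒮.deg U hU)))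

/-- **the canonical morphism `p^* E → O_P(1)` on the projective bundle is an epimorphism.** -/
theorem epi_adjunct_fundamental (E : S.Modules) (hE : Coh.IsQCoh E) (j : E ⟶ 𝒮.toModule)
    (hj : RelProj.IsGrSymAlg E 𝒮 j) (O1 : P.Modules)
    (lam : ∀ (U : S.Opens) (hU : IsAffineOpen U),
      O1 ⟶ (Scheme.Modules.pushforward (RelProj.emb p chart U hU)).obj (GrTwist.twist (𝒮.deg U hU) 1))
    (hO1 : RelProj.IsRelTwist 𝒮 p chart 1 O1 lam)
    (φ : E ⟶ (Scheme.Modules.pushforward p).obj O1)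
    (hφ : ∀ (U : S.Opens) (hU : IsAffineOpen U) (e : Γ(E, U))
      (y : ↥(RelProj.emb p chart U hU ⁻¹ᵁ (p ⁻¹ᵁ U))),
      GrTwist.val (V := RelProj.emb p chart U hU ⁻¹ᵁ (p ⁻¹ᵁ U))
          ((lam U hU).app (p ⁻¹ᵁ U) ((φ.app U) e)) y =
        algebraMap (𝒮.presheaf.obj (op U)) (GrTwist.Loc (𝒮.deg U hU) y.1)
          ((j.app U) e : 𝒮.presheaf.obj (op U))) :
    Epi (((Scheme.Modules.pullbackPushforwardAdjunction p).homEquiv E O1).symm φ) := by
  refine ⟨fun {Q} α β hαβ => ?_⟩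
  rw [← Adjunction.homEquiv_naturality_right_symm, ← Adjunction.homEquiv_naturality_right_symm] at hαβ
  have h2 : φ ≫ (Scheme.Modules.pushforward p).map α = φ ≫ (Scheme.Modules.pushforward p).map β :=
    (((Scheme.Modules.pullbackPushforwardAdjunction p).homEquiv E Q).symm).injective hαβ
  have hsec : ∀ (U : S.Opens) (e : Γ(E, U)),
      α.app (p ⁻¹ᵁ U) ((φ.app U) e) = β.app (p ⁻¹ᵁ U) ((φ.app U) e) := by
    intro U e
    exact congrArg (fun χ : E ⟶ (Scheme.Modules.pushforward p).obj Q =>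
      Scheme.Modules.Hom.app χ U e) h2
  apply hom_ext_of_cover
  intro z
  obtain ⟨V, hzV⟩ := exists_affine_mem_preimage p z
  obtain ⟨y, hy⟩ := le_opensRange_emb p chart V.1 V.2 hzV
  have hy' : (RelProj.emb p chart V.1 V.2) y = z := hy
  obtain ⟨e, hey⟩ := exists_not_mem_of_isGrSymAlg E hE 𝒮 j hj V.1 V.2 y
  obtain ⟨g, hgdef⟩ : ∃ g : 𝒮.presheaf.obj (op V.1), g = ((j.app V.1) e : 𝒮.presheaf.obj (op V.1)) :=
    ⟨_, rfl⟩
  have hg : g ∈ 𝒮.deg V.1 V.2 1 := hgdef ▸ hj.2 V.1 V.2 e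
  rw [← hgdef] at hey
  obtain ⟨D, hD⟩ : ∃ D : P.Opens,
      D = (RelProj.emb p chart V.1 V.2) ''ᵁ (Proj.basicOpen (𝒮.deg V.1 V.2) g) := ⟨_, rfl⟩
  have hDle : D ≤ p ⁻¹ᵁ V.1 := hD ▸ image_emb_le p chart V.1 V.2 _
  have hzD : z ∈ D := by
    rw [hD]
    exact ⟨y, (ProjectiveSpectrum.mem_basicOpen _ g y).mpr hey, hy'⟩
  refine ⟨D, hzD, ?_⟩
  have h1mem : (1 : 𝒮.presheaf.obj (op V.1)) ∈ 𝒮.deg V.1 V.2 0 := SetLike.GradedOne.one_mem
  have hij : ((1 : ℕ) : ℤ) = ((0 : ℕ) : ℤ) + 1 := by simp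
  have hDg : ∀ y' : ((RelProj.emb p chart V.1 V.2) ⁻¹ᵁ D : (Proj (𝒮.deg V.1 V.2)).Opens),
      g ∉ y'.1.asHomogeneousIdeal := by
    rintro ⟨y', h1⟩
    rw [hD, (RelProj.emb p chart V.1 V.2).preimage_image_eq] at h1
    exact (ProjectiveSpectrum.mem_basicOpen _ _ y').mp h1
  obtain ⟨Eg, hEg, vEg⟩ := exists_frame p chart 1 O1 lam hO1 V.1 V.2 D hDle hg h1mem hij hDg
    (fun y' => GrMod.one_nin y'.1)
  -- the restriction of `φ e` to `D` is the frame
  have hres : res O1 hDle ((φ.app V.1) e) = Eg := by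
    apply (hO1.bijective V.1 V.2 D hDle).1
    refine twist_ext (𝒮.deg V.1 V.2) _ _ _ (fun y' => ?_)
    rw [vEg y']
    have hn := app_map' (lam V.1 V.2) (homOfLE hDle) ((φ.app V.1) e)
    have h3 : GrTwist.val (V := RelProj.emb p chart V.1 V.2 ⁻¹ᵁ D)
        ((lam V.1 V.2).app D (res O1 hDle ((φ.app V.1) e))) y' =
        GrTwist.val (V := RelProj.emb p chart V.1 V.2 ⁻¹ᵁ (p ⁻¹ᵁ V.1))
          ((lam V.1 V.2).app (p ⁻¹ᵁ V.1) ((φ.app V.1) e)) ⟨y'.1, hDle y'.2⟩ := by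
      change GrTwist.val (V := RelProj.emb p chart V.1 V.2 ⁻¹ᵁ D)
        ((lam V.1 V.2).app D (O1.presheaf.map (homOfLE hDle).op ((φ.app V.1) e))) y' = _
      rw [hn]
      rfl
    rw [h3, hφ V.1 V.2 e ⟨y'.1, hDle y'.2⟩, ← hgdef]
    exact (Localization.mk_one_eq_algebraMap g).symm
  intro W hW
  ext m
  obtain ⟨c, hc⟩ := (hEg W hW).2 m
  simp only at hc
  have hα : α.app W (res O1 hW Eg) = β.app W (res O1 hW Eg) := by
    rw [← hres, res_res]
    have e1 := app_map α (homOfLE (hW.trans hDle)) ((φ.app V.1) e)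
    have e2 := app_map β (homOfLE (hW.trans hDle)) ((φ.app V.1) e)
    change α.app W (O1.presheaf.map (homOfLE (hW.trans hDle)).op ((φ.app V.1) e)) =
      β.app W (O1.presheaf.map (homOfLE (hW.trans hDle)).op ((φ.app V.1) e))
    rw [e1, e2, hsec V.1 e]
  rw [← hc]
  change α.app W (c • res O1 hW Eg) = β.app W (c • res O1 hW Eg)
  rw [Scheme.Modules.Hom.app_smul, Scheme.Modules.Hom.app_smul, hα]

end Groth.Agent.Lib.T2H4.ProjBundle
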