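import Mathlib
import Groth.Prelude.Def_CohB1
import Groth.Prelude.Def_GrMod2
import Groth.Agent.Lib.T2H4ProjSec
import Groth.Agent.Lib.T2H4CechHom
import Groth.Agent.Lib.T2H4CechKz
import Groth.Agent.Lib.Helper16Restr
import Groth.Agent.Lib.Helper23AffOpen2

set_option autoImplicit false
universe u

/-!
# Čech cohomology of the twists `M(n)~` on `Proj` versus the Koszul colimit (helper4)
-/

namespace Groth.Agent.Lib.T2H4.ProjCech

open AlgebraicGeometry CategoryTheory Opposite TopologicalSpace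
open Groth.Agent.Lib.Helper6 Groth.Agent.Lib.T2H2.LowCechR Groth.Agent.Lib.T2H2.FlasqueKz
open Groth.Agent.Lib.Helper16.CechLow Groth.Agent.Lib.Helper16.CechH1
open Groth.Agent.Lib.T2H4.SecLoc Groth.Agent.Lib.T2H4.YVan Groth.Agent.Lib.Helper23.AffVanish
open Groth.Agent.Lib.T2H4.ProjSec Groth.Agent.Lib.Helper27GrTildeSect

section

variable {R A : Type u} [CommRing R] [CommRing A] [Algebra R A] (𝒜 : ℕ → Submodule R A)
  [GradedAlgebra 𝒜]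

lemma proj_basicOpen_prod {m : ℕ} (s : Fin m → A) :
    Proj.basicOpen 𝒜 (∏ k, s k) = ⨅ k, Proj.basicOpen 𝒜 (s k) := by
  induction m with
  | zero =>
    rw [Finset.univ_eq_empty, Finset.prod_empty, Proj.basicOpen_one, iInf_of_empty]
  | succ m ih =>
    rw [Fin.prod_univ_succ, Proj.basicOpen_mul, ih, iInf_fin_succ]

variable {ι : Type u} (a : ι → A)

/-- the family `D₊(a i)` -/
def UP (i : ι) : (Proj 𝒜).Opens := Proj.basicOpen 𝒜 (a i)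

lemma Ux_UP {n : ℕ} (σ : Fin (n + 1) → ι) :
    Ux (UP 𝒜 a) σ = Proj.basicOpen 𝒜 (gprod a σ) := by
  rw [Groth.Agent.S0493.prod_eq_iInf (UP 𝒜 a) σ, gprod, proj_basicOpen_prod]
  rfl

variable (dg : ι → ℕ) (hdg : ∀ i, 0 < dg i) (ha : ∀ i, a i ∈ 𝒜 (dg i))

/-- the degree of the product -/
def DD {n : ℕ} (σ : Fin (n + 1) → ι) : ℕ := ∑ k, dg (σ k)

include hdg in
lemma DD_pos {n : ℕ} (σ : Fin (n + 1) → ι) : 0 < DD dg σ := by
  unfold DD
  rw [Fin.sum_univ_succ]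
  have := hdg (σ 0)
  omega

include ha in
lemma gprod_mem {n : ℕ} (σ : Fin (n + 1) → ι) : gprod a σ ∈ 𝒜 (DD dg σ) :=
  SetLike.prod_mem_graded 𝒜 _ _ (fun k _ => ha (σ k))

lemma DD_succAbove {n : ℕ} (σ : Fin (n + 2) → ι) (i : Fin (n + 2)) :
    DD dg σ = dg (σ i) + DD dg (σ ∘ Fin.succAbove i) :=
  Fin.sum_univ_succAbove (fun k => dg (σ k)) i

end

section Main

variable {R A : Type u} [CommRing R] [CommRing A] [Algebra R A] (𝒜 : ℕ → Submodule R A)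
  [GradedAlgebra 𝒜] {M : Type u} [AddCommGroup M] [Module R M] [Module A M]
  [IsScalarTower R A M] (ℳ : ℕ → Submodule R M) [DirectSum.Decomposition ℳ]
  [SetLike.GradedSMul 𝒜 ℳ]
  {ι : Type u} (a : ι → A) (dg : ι → ℕ) (hdg : ∀ i, 0 < dg i) (ha : ∀ i, a i ∈ 𝒜 (dg i))

/-- the localisation map on the affine side -/
noncomputable def lY {n : ℕ} (σ : Fin (n + 1) → ι) :
    M →ₗ[A] SecR (FM A M) (φA A) (Ux (fam (φA A) a) σ) :=
  Groth.Agent.Lib.T2H4.CechX.lX (FM A M) (φA A) (ModuleCat.of A M) (eM A M) a σ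

instance lY_loc {n : ℕ} (σ : Fin (n + 1) → ι) :
    IsLocalizedModule (Submonoid.powers (gprod a σ)) (lY (M := M) a σ) :=
  Groth.Agent.Lib.T2H4.CechX.instIsLocalizedModuleCarrierSecRUxOpensFamPowersGprodLX
    (FM A M) (φA A) (ModuleCat.of A M) (eM A M) a σ

/-- the comparison maps on sections -/
noncomputable def tt (j : ℤ) (n : ℕ) (σ : Fin (n + 1) → ι) :
    (GrTilde.tilde 𝒜 ℳ j).presheaf.obj (op (Ux (UP 𝒜 a) σ)) →+
      (FM A M).presheaf.obj (op (Ux (fam (φA A) a) σ)) :=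
  thetaHom (ℳ := ℳ) (N := SecR (FM A M) (φA A) (Ux (fam (φA A) a) σ)) j (DD_pos dg hdg σ)
    (gprod_mem 𝒜 a dg ha σ) (Ux_UP 𝒜 a σ) (lY (M := M) a σ)

end Main

section Main2

variable {R A : Type u} [CommRing R] [CommRing A] [Algebra R A] (𝒜 : ℕ → Submodule R A)
  [GradedAlgebra 𝒜] {M : Type u} [AddCommGroup M] [Module R M] [Module A M]
  [IsScalarTower R A M] (ℳ : ℕ → Submodule R M) [DirectSum.Decomposition ℳ]
  [SetLike.GradedSMul 𝒜 ℳ]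
  {ι : Type u} (a : ι → A) (dg : ι → ℕ) (hdg : ∀ i, 0 < dg i) (ha : ∀ i, a i ∈ 𝒜 (dg i))

lemma theta_congr_deg {N : Type u} [AddCommGroup N] [Module A N] (n : ℤ) {W : (Proj 𝒜).Opens}
    {g : A} {d d' : ℕ} (h : d = d') (hd : 0 < d) (hg : g ∈ 𝒜 d) (hd' : 0 < d') (hg' : g ∈ 𝒜 d')
    (hW : W = Proj.basicOpen 𝒜 g) (l : M →ₗ[A] N) [IsLocalizedModule (Submonoid.powers g) l]
    (s : Γ(GrTilde.tilde 𝒜 ℳ n, W)) :
    theta (ℳ := ℳ) n hd hg hW l s = theta n hd' hg' hW l s := by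
  subst h
  rfl

lemma tt_face (j : ℤ) (n : ℕ) (σ : Fin (n + 2) → ι) (i : Fin (n + 2))
    (y : (GrTilde.tilde 𝒜 ℳ j).presheaf.obj (op (Ux (UP 𝒜 a) (σ ∘ Fin.succAbove i)))) :
    tt 𝒜 ℳ a dg hdg ha j (n + 1) σ
        ((GrTilde.tilde 𝒜 ℳ j).presheaf.map (face (UP 𝒜 a) σ i).op y) =
      (FM A M).presheaf.map (face (fam (φA A) a) σ i).op
        (tt 𝒜 ℳ a dg hdg ha j n (σ ∘ Fin.succAbove i) y) := by
  rw [map_hom_eq (GrTilde.tilde 𝒜 ℳ j).presheaf (face (UP 𝒜 a) σ i).op (face (UP 𝒜 a) σ i).le,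
    map_hom_eq (FM A M).presheaf (face (fam (φA A) a) σ i).op (face (fam (φA A) a) σ i).le]
  have hD := DD_succAbove dg σ i
  have hd' : 0 < dg (σ i) + DD dg (σ ∘ Fin.succAbove i) := by
    rw [← hD]
    exact DD_pos dg hdg σ
  have hg' : gprod a σ ∈ 𝒜 (dg (σ i) + DD dg (σ ∘ Fin.succAbove i)) := by
    rw [← hD]
    exact gprod_mem 𝒜 a dg ha σ
  have key := theta_res (ℳ := ℳ) (N := SecR (FM A M) (φA A) (Ux (fam (φA A) a) (σ ∘ Fin.succAbove i)))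
    (N' := SecR (FM A M) (φA A) (Ux (fam (φA A) a) σ)) j (face (UP 𝒜 a) σ i).le (DD_pos dg hdg (σ ∘ Fin.succAbove i))
    (gprod_mem 𝒜 a dg ha (σ ∘ Fin.succAbove i)) (ha (σ i))
    (Groth.Agent.Lib.T2H4.CechX.gprod_succAbove a σ i)
    (Ux_UP 𝒜 a (σ ∘ Fin.succAbove i)) (Ux_UP 𝒜 a σ)
    (lY (M := M) a (σ ∘ Fin.succAbove i)) (lY (M := M) a σ)
    (resR (FM A M) (φA A) (face (fam (φA A) a) σ i).le)
    (fun m => Groth.Agent.Lib.T2H4.CechX.resR_lX (FM A M) (φA A) (ModuleCat.of A M) (eM A M) a σ i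
      (face (fam (φA A) a) σ i).le m) hd' hg' y
  refine Eq.trans ?_ key
  exact theta_congr_deg (N := SecR (FM A M) (φA A) (Ux (fam (φA A) a) σ)) 𝒜 ℳ j hD
    (DD_pos dg hdg σ) (gprod_mem 𝒜 a dg ha σ) hd' hg' (Ux_UP 𝒜 a σ) (lY (M := M) a σ) _

lemma tt_bijective (n : ℕ) (σ : Fin (n + 1) → ι) :
    Function.Bijective (Groth.Agent.Lib.T2H4.CechHom.secSum (UP 𝒜 a) (fam (φA A) a)
      (fun j : ℤ => (GrTilde.tilde 𝒜 ℳ j).presheaf) (FM A M).presheaf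
      (tt 𝒜 ℳ a dg hdg ha) n σ) :=
  psi_bijective (ℳ := ℳ) (N := SecR (FM A M) (φA A) (Ux (fam (φA A) a) σ)) (DD_pos dg hdg σ)
    (gprod_mem 𝒜 a dg ha σ) (Ux_UP 𝒜 a σ) (lY (M := M) a σ)

include dg hdg ha in
theorem cech_sum_equiv [Finite ι] (p : ℕ) :
    Nonempty ((DirectSum ℤ fun j => (CK (UP 𝒜 a) (GrTilde.tilde 𝒜 ℳ j).presheaf).homology p) ≃+
      (CK (fam (φA A) a) (FM A M).presheaf).homology p) :=
  Groth.Agent.Lib.T2H4.CechHom.nonempty_homology_equiv (UP 𝒜 a) (fam (φA A) a)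
    (fun j : ℤ => (GrTilde.tilde 𝒜 ℳ j).presheaf) (FM A M).presheaf
    (tt 𝒜 ℳ a dg hdg ha) (tt_face 𝒜 ℳ a dg hdg ha) (tt_bijective 𝒜 ℳ a dg hdg ha) p

end Main2

section Final

variable {R A : Type u} [CommRing R] [CommRing A] [Algebra R A] (𝒜 : ℕ → Submodule R A)
  [GradedAlgebra 𝒜] {M : Type u} [AddCommGroup M] [Module R M] [Module A M]
  [IsScalarTower R A M] (ℳ : ℕ → Submodule R M) [DirectSum.Decomposition ℳ]
  [SetLike.GradedSMul 𝒜 ℳ]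
  {ι : Type u} (a : ι → A) (dg : ι → ℕ) (hdg : ∀ i, 0 < dg i) (ha : ∀ i, a i ∈ 𝒜 (dg i))

omit [DirectSum.Decomposition ℳ] [SetLike.GradedSMul 𝒜 ℳ] [IsScalarTower R A M] [Module R M] in
/-- Čech-to-derived for a family with affine finite intersections -/
theorem step1_gen (X : Scheme.{u}) (F : X.Modules) [F.IsQuasicoherent] {κ : Type u} (V : κ → X.Opens)
    (haff : ∀ (p : ℕ) (σ : Fin (p + 1) → κ), IsAffineOpen (iInf fun k => V (σ k))) (q : ℕ) :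
    Nonempty (Coh.HHon X F (iSup V) q ≃+ (CK V F.presheaf).homology q) := by
  obtain ⟨e1⟩ := Groth.Agent.Lib.Helper16.Restr.nonempty_HU_equiv (X := X.carrier)
    (iSup V) (Coh.toAb F) q
  have e1' : CohTop.HU (Coh.toAb F) q (iSup V) ≃+ Coh.HHon X F (iSup V) q := e1
  have h : ∀ (p : ℕ) (σ : Fin (p + 1) → κ) (r : ℕ),
      Subsingleton (CohTop.HU (ab' F) (r + 1) (iInf fun k => V (σ k))) :=
    fun p σ r => subsingleton_HE_of_isAffineOpen (haff p σ) F r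
  obtain ⟨e2⟩ := Groth.Agent.S0464.result (ab' F) V h q
  exact ⟨e1'.symm.trans e2.symm⟩

include dg hdg ha in
/-- Čech-to-derived on the `Proj` side -/
theorem step1 (j : ℤ) (q : ℕ) :
    Nonempty (Coh.HHon (Proj 𝒜) (GrTilde.tilde 𝒜 ℳ j) (iSup (UP 𝒜 a)) q ≃+
      (CK (UP 𝒜 a) (GrTilde.tilde 𝒜 ℳ j).presheaf).homology q) := by
  have : (GrTilde.tilde 𝒜 ℳ j).IsQuasicoherent := isQuasicoherent_tilde 𝒜 ℳ j
  refine step1_gen (Proj 𝒜) (GrTilde.tilde 𝒜 ℳ j) (UP 𝒜 a) ?_ q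
  intro p σ
  rw [← Groth.Agent.S0493.prod_eq_iInf (UP 𝒜 a) σ, Ux_UP]
  exact Proj.isAffineOpen_basicOpen 𝒜 _ (gprod_mem 𝒜 a dg ha σ) (DD_pos dg hdg σ)

end Final

section Final2

variable {A : Type u} [CommRing A] (fs : List A) (M : Type u) [AddCommGroup M] [Module A M]

/-- the affine side -/
theorem step3 (p : ℕ) (hp : 1 ≤ p) :
    Nonempty ((CK (fam (φA A) (aa fs)) (FM A M).presheaf).homology p ≃+
      CohIII.koszulHLim fs (ModuleCat.of A M) (p + 1)) := by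
  obtain ⟨e2⟩ := nonempty_cech_equiv fs M p
  have h3 := (Groth.Agent.S6031.result (Spec (CommRingCat.of A)) (FM A M) inferInstance
    (UU fs)).2 p hp
  let e3 := AddEquiv.ofBijective _ h3
  obtain ⟨e4⟩ := nonempty_koszulHLim_equiv_HZM fs M (p + 1)
  rw [puncturedOpen_eq] at e4
  exact ⟨e2.trans (e3.trans e4.symm)⟩

end Final2

end Groth.Agent.Lib.T2H4.ProjCech
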