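import Mathlib
import Groth.Prelude.Def_RelProj3
import Groth.Agent.Lib.T2H4VeryAmpleC
import Groth.Agent.Lib.T2H4GrSymA
import Groth.Agent.Lib.Helper23FinType2

/-!
# Projective morphisms: degree-one parts of graded symmetric algebras and of graded quotients (helper4)

* `exists_j_eq_of_mem_deg_one` : the degree-one part of a graded symmetric algebra of `E` is the image of `E`.
* `isFTDeg_one_of_isGrSymAlg` : if `E` is of finite type, the degree-one part is of finite type.
* `exists_mem_deg_of_surjective`, `isGenDegOne_of_surjective`, `isFTDeg_of_surjective` : transfer along a graded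
  homomorphism surjective over affine opens.
-/

set_option autoImplicit false
set_option linter.style.haveILetI false
set_option linter.unusedSectionVars false
universe u
open CategoryTheory Limits AlgebraicGeometry TopologicalSpace Opposite

namespace Groth.Agent.Lib.T2H4.ProjMor

open RelProj Groth.Agent.Helper13SymAlg Groth.Agent.Helper13SymLoc Groth.Agent.Lib.T2H4.GrSym

theorem exists_ι_eq_of_mem_symDeg_one {R M : Type*} [CommRing R] [AddCommGroup M] [Module R M]
    {x : SymmetricAlgebra R M} (hx : x ∈ symDeg R M 1) : ∃ m : M, SymmetricAlgebra.ι R M m = x := by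
  unfold symDeg at hx
  rw [pow_one] at hx
  exact hx

/-- rewriting a linear combination over a finite set as a linear combination over its image -/
theorem exists_coeff_image {R A M : Type*} [CommRing R] [CommRing A] (ρ : R →+* A) (G : Finset M)
    (jU : M → A) (f : M → R) [DecidableEq A] :
    ∃ c : A → R, ∑ g ∈ G, ρ (f g) * jU g = ∑ t ∈ G.image jU, ρ (c t) * t := by
  refine ⟨fun t => ∑ g ∈ G.filter (fun g => jU g = t), f g, ?_⟩
  refine (Finset.sum_image' (s := G) (g := jU)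
    (f := fun t => ρ (∑ g ∈ G.filter (fun g => jU g = t), f g) * t)
    (fun g => ρ (f g) * jU g) ?_).symm
  intro i _
  rw [map_sum, Finset.sum_mul]
  refine Finset.sum_congr rfl fun g hg => ?_
  rw [(Finset.mem_filter.mp hg).2]

section sym

variable {S : Scheme.{u}} (E : S.Modules) (hE : Coh.IsQCoh E) (𝒯 : RelProj.QCGrAlg S)
  (j : E ⟶ 𝒯.toModule) (h : RelProj.IsGrSymAlg E 𝒯 j)

include hE h in
/-- the degree-one part of a graded symmetric algebra of `E` is the image of `E` -/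
theorem exists_j_eq_of_mem_deg_one (U : S.Opens) (hU : IsAffineOpen U) {x : 𝒯.presheaf.obj (op U)}
    (hx : x ∈ 𝒯.deg U hU 1) : ∃ m : Γ(E, U), ((j.app U) m : 𝒯.presheaf.obj (op U)) = x := by
  classical
  haveI : E.IsQuasicoherent := hE
  obtain ⟨y, rfl⟩ := (bijective_σ E U hU h.1).2 x
  have h0 : ∀ r : Γ(S, U), σ E 𝒯.toQCAlg j U (algebraMap _ _ r) ∈ 𝒯.deg U hU 0 := by
    intro r
    unfold σ
    rw [symLift_algebraMap]
    exact 𝒯.str_mem U hU r
  have h1 : ∀ m : Γ(E, U), σ E 𝒯.toQCAlg j U (SymmetricAlgebra.ι _ _ m) ∈ 𝒯.deg U hU 1 := by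
    intro m
    unfold σ
    rw [symLift_ι]
    exact h.2 U hU m
  let g : symDeg Γ(S, U) Γ(E, U) →+*ᵍ 𝒯.deg U hU :=
    { σ E 𝒯.toQCAlg j U with
      map_mem := fun hz => map_mem_of_mem_symDeg _ _ (𝒯.deg U hU) (σ E 𝒯.toQCAlg j U) h0 h1 hz }
  have h2 := GradedRingHom.map_directSumDecompose (symDeg Γ(S, U) Γ(E, U)) (𝒯.deg U hU) g
    (x := y) (i := 1)
  have h3 : ((DirectSum.decompose (𝒯.deg U hU) (g y) 1 : 𝒯.deg U hU 1) : 𝒯.presheaf.obj (op U)) =
      σ E 𝒯.toQCAlg j U y := DirectSum.decompose_of_mem_same (𝒯.deg U hU) hx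
  have h4 : ((DirectSum.decompose (symDeg Γ(S, U) Γ(E, U)) y 1 : symDeg Γ(S, U) Γ(E, U) 1) :
      SymmetricAlgebra Γ(S, U) Γ(E, U)) ∈ symDeg Γ(S, U) Γ(E, U) 1 := SetLike.coe_mem _
  obtain ⟨m, hm⟩ := exists_ι_eq_of_mem_symDeg_one h4
  refine ⟨m, ?_⟩
  rw [← h3, ← h2, ← hm]
  change _ = σ E 𝒯.toQCAlg j U (SymmetricAlgebra.ι _ _ m)
  unfold σ
  rw [symLift_ι]
  rfl

include hE h in
/-- the degree-one part of a graded symmetric algebra of a module of finite type is of finite type -/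
theorem isFTDeg_one_of_isGrSymAlg (hft : CohB1.IsFT E) : 𝒯.IsFTDeg 1 := by
  classical
  haveI : E.IsQuasicoherent := hE
  haveI : SheafOfModules.IsFiniteType (R := S.ringCatSheaf) E := hft
  intro U hU
  have hfin : Module.Finite Γ(S, U) Γ(E, U) :=
    Groth.Agent.Lib.Helper23.FinType.finite_of_isFiniteType E hU
  obtain ⟨G, hG⟩ := hfin.fg_top
  let jU : Γ(E, U) → 𝒯.presheaf.obj (op U) := fun m => (j.app U) m
  refine ⟨G.image jU, ?_, ?_⟩
  · intro y hy
    obtain ⟨m, _, rfl⟩ := Finset.mem_image.1 hy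
    exact h.2 U hU m
  · intro x hx
    obtain ⟨m, rfl⟩ := exists_j_eq_of_mem_deg_one E hE 𝒯 j h U hU hx
    have hm : m ∈ Submodule.span Γ(S, U) (G : Set Γ(E, U)) := by rw [hG]; trivial
    obtain ⟨f, -, hf⟩ := Submodule.mem_span_finset.1 hm
    obtain ⟨c, hc⟩ := exists_coeff_image (𝒯.str.app (op U)).hom G jU f
    refine ⟨c, ?_⟩
    rw [← hc, ← hf]
    change jU (∑ g ∈ G, f g • g) = _
    have hadd : ∀ (T : Finset Γ(E, U)) (φ : Γ(E, U) → Γ(E, U)),
        jU (∑ g ∈ T, φ g) = ∑ g ∈ T, jU (φ g) := by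
      intro T φ
      exact map_sum (j.app U).hom φ T
    rw [hadd]
    refine Finset.sum_congr rfl fun g _ => ?_
    change ((j.app U) (f g • g) : 𝒯.presheaf.obj (op U)) = _
    rw [Scheme.Modules.Hom.app_smul]
    rfl

end sym

section transfer

variable {S : Scheme.{u}} {𝒜 ℬ : RelProj.QCGrAlg S} (φ : 𝒜.toQCAlg ⟶ ℬ.toQCAlg)
  (hφ : RelProj.IsGradedHom φ)
  (hsurj : ∀ (U : S.Opens), IsAffineOpen U → Function.Surjective (φ.hom.app (op U)).hom)

include hφ hsurj in
/-- a graded homomorphism surjective over affine opens is surjective in every degree -/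
theorem exists_mem_deg_of_surjective (U : S.Opens) (hU : IsAffineOpen U) {d : ℕ}
    {y : ℬ.presheaf.obj (op U)} (hy : y ∈ ℬ.deg U hU d) :
    ∃ x ∈ 𝒜.deg U hU d, (φ.hom.app (op U)).hom x = y := by
  classical
  obtain ⟨x, rfl⟩ := hsurj U hU y
  refine ⟨(DirectSum.decompose (𝒜.deg U hU) x d : 𝒜.presheaf.obj (op U)), SetLike.coe_mem _, ?_⟩
  have h2 := GradedRingHom.map_directSumDecompose (𝒜.deg U hU) (ℬ.deg U hU)
    (RelProj.gradedHomAt φ hφ U hU) (x := x) (i := d)
  have h3 : ((DirectSum.decompose (ℬ.deg U hU) (RelProj.gradedHomAt φ hφ U hU x) d :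
      ℬ.deg U hU d) : ℬ.presheaf.obj (op U)) = (φ.hom.app (op U)).hom x :=
    DirectSum.decompose_of_mem_same (ℬ.deg U hU) hy
  exact h2.trans h3

include hφ hsurj in
theorem isGenDegOne_of_surjective (h𝒜 : 𝒜.IsGenDegOne) : ℬ.IsGenDegOne := by
  intro U hU
  rw [eq_top_iff]
  rintro y -
  obtain ⟨x, rfl⟩ := hsurj U hU y
  have hx : x ∈ Subring.closure ((𝒜.deg U hU 0 : Set (𝒜.presheaf.obj (op U))) ∪
      (𝒜.deg U hU 1 : Set _)) := by rw [h𝒜 U hU]; trivial
  induction hx using Subring.closure_induction with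
  | mem z hz =>
    refine Subring.subset_closure ?_
    rcases hz with hz | hz
    · exact Or.inl (hφ U hU 0 z hz)
    · exact Or.inr (hφ U hU 1 z hz)
  | zero => rw [map_zero]; exact Subring.zero_mem _
  | one => rw [map_one]; exact Subring.one_mem _
  | add a b _ _ ha hb => rw [map_add]; exact Subring.add_mem _ ha hb
  | neg a _ ha => rw [map_neg]; exact Subring.neg_mem _ ha
  | mul a b _ _ ha hb => rw [map_mul]; exact Subring.mul_mem _ ha hb

include hφ hsurj in
theorem isFTDeg_of_surjective (d : ℕ) (h𝒜 : 𝒜.IsFTDeg d) : ℬ.IsFTDeg d := by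
  classical
  intro U hU
  obtain ⟨T, hT, hgen⟩ := h𝒜 U hU
  refine ⟨T.image (φ.hom.app (op U)).hom, ?_, ?_⟩
  · intro y hy
    obtain ⟨t, ht, rfl⟩ := Finset.mem_image.1 hy
    exact hφ U hU d t (hT ht)
  · intro y hy
    obtain ⟨x, hx, rfl⟩ := exists_mem_deg_of_surjective φ hφ hsurj U hU hy
    obtain ⟨c, hc⟩ := hgen x hx
    obtain ⟨c', hc'⟩ := exists_coeff_image (ℬ.str.app (op U)).hom T (φ.hom.app (op U)).hom c
    refine ⟨c', ?_⟩
    rw [← hc']
    conv_lhs => rw [hc]
    rw [map_sum]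
    refine Finset.sum_congr rfl fun t _ => ?_
    rw [map_mul]
    congr 1
    exact congr($(NatTrans.congr_app φ.comm (op U)).hom (c t))

end transfer

end Groth.Agent.Lib.T2H4.ProjMor
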