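import Mathlib
import Groth.Agent.Lib.Helper13ProjGlue2
import Groth.Agent.Lib.Helper13ProjQMap

/-!
# `RelProj.IsProjQMap` from the chart equations on the diagonal pairs `(U, U)` (helper4)

For a graded homomorphism `φ : 𝒜 ⟶ ℬ` of quasi-coherent graded algebras on `S` whose induced morphisms
`Proj ℬ(U) ⟶ Proj 𝒜(U)` are everywhere defined, a morphism `h` of the relative `Proj`s satisfying the chart
equations of `RelProj.IsProjQMap` on the pairs `(U, U)` satisfies all of them.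
-/

set_option autoImplicit false
universe u
open CategoryTheory CategoryTheory.Limits AlgebraicGeometry Opposite TopologicalSpace
open HomogeneousLocalization
open scoped HomogeneousIdeal

namespace Groth.Agent.Lib.T2H4.ProjQMapDiag

open Groth.Agent.Helper13RelProj

variable {S : Scheme.{u}} {𝒜 ℬ : RelProj.QCGrAlg S}
  {φ : 𝒜.toQCAlg ⟶ ℬ.toQCAlg} {hφ : RelProj.IsGradedHom φ}
  {PA PB : Scheme.{u}} {pA : PA ⟶ S} {pB : PB ⟶ S}
  {chartA : ∀ (U : S.Opens) (hU : IsAffineOpen U),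
    ((pA ⁻¹ᵁ U : PA.Opens) : Scheme.{u}) ≅ Proj (𝒜.deg U hU)}
  {chartB : ∀ (U : S.Opens) (hU : IsAffineOpen U),
    ((pB ⁻¹ᵁ U : PB.Opens) : Scheme.{u}) ≅ Proj (ℬ.deg U hU)}

theorem isProjQMap_of_isQMapDiag (hA : RelProj.IsRelProj 𝒜 pA chartA)
    (hB : RelProj.IsRelProj ℬ pB chartB)
    (hdom : ∀ (U : S.Opens) (hU : IsAffineOpen U),
      IsDomOf (ψAt φ hφ U hU) (𝟙 (Proj (ℬ.deg U hU))))
    {h : PB ⟶ PA} (hh : IsQMapDiag φ hφ chartA chartB h) :
    RelProj.IsProjQMap (RelProj.QGrHom.ofHom φ hφ) pA chartA pB chartB h := by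
  have hG : RelProj.domQ (RelProj.QGrHom.ofHom φ hφ) pB chartB = ⊤ :=
    domQ_eq_top_of_isDomOf hdom
  obtain ⟨v, hv⟩ := exists_qmapOn (RelProj.QGrHom.ofHom φ hφ) hA hB
  have hvOn := isProjQMapOn_of_pieces (RelProj.QGrHom.ofHom φ hφ) v hv
  have : IsIso (RelProj.domQ (RelProj.QGrHom.ofHom φ hφ) pB chartB).ι := by
    rw [hG]
    exact (show IsIso (Scheme.topIso PB).hom from inferInstance)
  have hh' : RelProj.IsProjQMap (RelProj.QGrHom.ofHom φ hφ) pA chartA pB chartB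
      (inv (RelProj.domQ (RelProj.QGrHom.ofHom φ hφ) pB chartB).ι ≫ v) := by
    refine ⟨hG, ?_⟩
    intro U hU U' hU' hle d hd f hf
    have hW := RelProj.range_awayEmb_subset_domQ (RelProj.QGrHom.ofHom φ hφ) pB chartB
      U hU U' hU' hle hd f hf
    have h1 := hvOn U hU U' hU' hle d hd f hf hW
    rw [← h1, ← Category.assoc]
    congr 1
    rw [← cancel_mono (RelProj.domQ (RelProj.QGrHom.ofHom φ hφ) pB chartB).ι, Category.assoc,
      IsIso.inv_hom_id, Category.comp_id, IsOpenImmersion.lift_fac]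
  have heq : inv (RelProj.domQ (RelProj.QGrHom.ofHom φ hφ) pB chartB).ι ≫ v = h := by
    refine hom_ext_of_openImmersions _ _ fun x => ?_
    obtain ⟨_, ⟨U, hU, rfl⟩, hxU, -⟩ := S.isBasis_affineOpens.exists_subset_of_mem_open
      (Set.mem_univ (pB.base x)) isOpen_univ
    replace hU : IsAffineOpen U := hU
    obtain ⟨z, hz⟩ := exists_chart_point (chartB := chartB) U hU x hxU
    obtain ⟨d, f, hd, hf, hzf⟩ := (hdom U hU z).mp ⟨z, rfl⟩
    rw [← Proj.opensRange_awayι (ℬ.deg U hU) _ (Graded.map_mem (ψAt φ hφ U hU) hf) hd] at hzf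
    obtain ⟨w, hw⟩ := hzf
    refine ⟨_, Proj.awayι (ℬ.deg U hU) (ψAt φ hφ U hU f) (Graded.map_mem (ψAt φ hφ U hU) hf) hd ≫
      RelProj.emb pB chartB U hU, inferInstance, ⟨w, ?_⟩, ?_⟩
    · rw [Scheme.Hom.comp_apply, hw, hz]
    · simp only [Category.assoc]
      rw [hh U hU d hd f hf, (isQMapDiag_of_isProjQMap φ hφ chartA chartB hh') U hU d hd f hf]
  rw [← heq]
  exact hh'

end Groth.Agent.Lib.T2H4.ProjQMapDiag
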