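import Mathlib

/-!
# Ideal systems on the homogeneous localizations of a graded ring (helper4)

Pure graded algebra towards: a closed subscheme of `Proj 𝒜` is `Proj (𝒜 ⧸ I)`.

* `sat N f` : the saturation `{z | ∃ n, f ^ n * z ∈ N}`.
* `IdealSys 𝒜` : ideals `J f ⊆ Away 𝒜 f` compatible with the maps `awayMap`.
* `num S hf` : the homogeneous ideal of `A` generated by the numerators of the fractions in `J f`.
* `mk_mem_J_of_mem_num` : a homogeneous element of `num S hf` of degree `q • d` gives a fraction in `J f`.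
-/

set_option autoImplicit false
set_option linter.unusedSectionVars false
universe u
open HomogeneousLocalization DirectSum

namespace Groth.Agent.Lib.T2H4.ProjQuot

variable {A : Type u} [CommRing A] {σ : Type*} [SetLike σ A] [AddSubgroupClass σ A]
  (𝒜 : ℕ → σ) [GradedRing 𝒜]

section frac

variable {𝒜} {f : A} {d : ℕ} (hf : f ∈ 𝒜 d)

theorem mk_eq_mk_iff (p q : ℕ) (x y : A) (hx : x ∈ 𝒜 (p • d)) (hy : y ∈ 𝒜 (q • d)) :
    Away.mk 𝒜 hf p x hx = Away.mk 𝒜 hf q y hy ↔ ∃ M : ℕ, f ^ M * (f ^ q * x) = f ^ M * (f ^ p * y) := by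
  rw [HomogeneousLocalization.ext_iff_val, Away.val_mk, Away.val_mk, Localization.mk_eq_mk_iff,
    Localization.r_iff_exists]
  constructor
  · rintro ⟨⟨c, M, rfl⟩, h⟩
    exact ⟨M, h⟩
  · rintro ⟨M, h⟩
    exact ⟨⟨f ^ M, M, rfl⟩, h⟩

theorem mk_congr {d' : ℕ} (hf' : f ∈ 𝒜 d') (q : ℕ) (x : A) (hx : x ∈ 𝒜 (q • d)) (hx' : x ∈ 𝒜 (q • d')) :
    Away.mk 𝒜 hf q x hx = Away.mk 𝒜 hf' q x hx' := by
  rw [HomogeneousLocalization.ext_iff_val, Away.val_mk, Away.val_mk]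

theorem mk_congr_num (q : ℕ) {x y : A} (h : x = y) (hx : x ∈ 𝒜 (q • d)) (hy : y ∈ 𝒜 (q • d)) :
    Away.mk 𝒜 hf q x hx = Away.mk 𝒜 hf q y hy := by
  subst h; rfl

theorem mk_zero (q : ℕ) (h0 : (0 : A) ∈ 𝒜 (q • d)) : Away.mk 𝒜 hf q 0 h0 = 0 := by
  rw [HomogeneousLocalization.ext_iff_val, Away.val_mk, HomogeneousLocalization.val_zero,
    Localization.mk_zero]

theorem mk_add (q : ℕ) (x y : A) (hx : x ∈ 𝒜 (q • d)) (hy : y ∈ 𝒜 (q • d)) :
    Away.mk 𝒜 hf q (x + y) (add_mem hx hy) = Away.mk 𝒜 hf q x hx + Away.mk 𝒜 hf q y hy := by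
  rw [HomogeneousLocalization.ext_iff_val, HomogeneousLocalization.val_add, Away.val_mk, Away.val_mk,
    Away.val_mk, Localization.add_mk_self]

theorem mk_mul_mk (p q : ℕ) (x y : A) (hx : x ∈ 𝒜 (p • d)) (hy : y ∈ 𝒜 (q • d)) :
    Away.mk 𝒜 hf p x hx * Away.mk 𝒜 hf q y hy =
      Away.mk 𝒜 hf (p + q) (x * y) (by rw [add_smul]; exact SetLike.mul_mem_graded hx hy) := by
  rw [HomogeneousLocalization.ext_iff_val, HomogeneousLocalization.val_mul, Away.val_mk, Away.val_mk,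
    Away.val_mk, Localization.mk_mul]
  congr 1
  ext
  simp [pow_add]

theorem mk_pow_mul (n q : ℕ) (x : A) (hx : x ∈ 𝒜 (q • d)) :
    Away.mk 𝒜 hf (n + q) (f ^ n * x)
      (by rw [add_smul]; exact SetLike.mul_mem_graded (SetLike.pow_mem_graded n hf) hx) =
      Away.mk 𝒜 hf q x hx := by
  rw [mk_eq_mk_iff]
  exact ⟨0, by ring⟩

end frac

section sat

/-- the saturation of an ideal with respect to the powers of an element -/
def sat (N : Ideal A) (f : A) : Ideal A where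
  carrier := {z | ∃ n : ℕ, f ^ n * z ∈ N}
  add_mem' := by
    rintro a b ⟨n, hn⟩ ⟨m, hm⟩
    refine ⟨n + m, ?_⟩
    have : f ^ (n + m) * (a + b) = f ^ m * (f ^ n * a) + f ^ n * (f ^ m * b) := by ring
    rw [this]
    exact N.add_mem (N.mul_mem_left _ hn) (N.mul_mem_left _ hm)
  zero_mem' := ⟨0, by simp⟩
  smul_mem' := by
    rintro c a ⟨n, hn⟩
    refine ⟨n, ?_⟩
    have : f ^ n * (c • a) = c * (f ^ n * a) := by rw [smul_eq_mul]; ring
    rw [this]
    exact N.mul_mem_left _ hn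

theorem mem_sat {N : Ideal A} {f z : A} : z ∈ sat N f ↔ ∃ n : ℕ, f ^ n * z ∈ N := Iff.rfl

theorem le_sat (N : Ideal A) (f : A) : N ≤ sat N f := fun z hz => ⟨0, by simpa using hz⟩

theorem sat_mono {N N' : Ideal A} (h : N ≤ N') (f : A) : sat N f ≤ sat N' f :=
  fun _ ⟨n, hn⟩ => ⟨n, h hn⟩

theorem mem_sat_of_pow_mul_mem {N : Ideal A} {f z : A} (k : ℕ) (h : f ^ k * z ∈ sat N f) : z ∈ sat N f := by
  obtain ⟨n, hn⟩ := h
  refine ⟨n + k, ?_⟩
  have : f ^ (n + k) * z = f ^ n * (f ^ k * z) := by ring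
  rw [this]; exact hn

theorem sat_sat (N : Ideal A) (f : A) : sat (sat N f) f = sat N f := by
  refine le_antisymm (fun z ⟨n, hn⟩ => mem_sat_of_pow_mul_mem n hn) (le_sat _ _)

theorem sat_isHomogeneous {N : Ideal A} (hN : N.IsHomogeneous 𝒜) {f : A} {d : ℕ} (hf : f ∈ 𝒜 d) :
    (sat N f).IsHomogeneous 𝒜 := by
  intro i z hz
  obtain ⟨n, hn⟩ := hz
  refine ⟨n, ?_⟩
  have h1 := hN (n • d + i) hn
  have h2 : (decompose 𝒜 (f ^ n * z) (n • d + i) : A) = f ^ n * (decompose 𝒜 z i : A) :=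
    DirectSum.coe_decompose_mul_add_of_left_mem 𝒜 (SetLike.pow_mem_graded n hf)
  rwa [h2] at h1

end sat

end Groth.Agent.Lib.T2H4.ProjQuot
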