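import Mathlib
import Groth.Agent.Lib.T2H4ProjQuotA

/-!
# Ideal systems: numerator ideals (helper4)
-/

set_option autoImplicit false
set_option linter.unusedSectionVars false
universe u
open HomogeneousLocalization DirectSum

namespace Groth.Agent.Lib.T2H4.ProjQuot

variable {A : Type u} [CommRing A] {σ : Type*} [SetLike σ A] [AddSubgroupClass σ A]
  {𝒜 : ℕ → σ} [GradedRing 𝒜]

variable (𝒜) in
/-- a system of ideals of the homogeneous localizations, compatible with the localization maps -/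
structure IdealSys where
  /-- the ideals -/
  J : ∀ f : A, Ideal (Away 𝒜 f)
  compat : ∀ {f g x : A} {d e : ℕ} (_ : f ∈ 𝒜 d) (hg : g ∈ 𝒜 e) (_ : 0 < d) (_ : 0 < e) (hx : x = f * g),
    J x = (J f).map (awayMap 𝒜 hg hx)

variable (S : IdealSys 𝒜) {f : A} {d : ℕ} (hf : f ∈ 𝒜 d)

/-- the numerators of the fractions in `J f` -/
def IdealSys.numSet : Set A := {x | ∃ (q : ℕ) (hx : x ∈ 𝒜 (q • d)), Away.mk 𝒜 hf q x hx ∈ S.J f}

/-- the ideal generated by the numerators of the fractions in `J f` -/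
def IdealSys.num : Ideal A := Ideal.span (S.numSet hf)

theorem IdealSys.num_isHomogeneous : (S.num hf).IsHomogeneous 𝒜 := by
  refine Ideal.homogeneous_span 𝒜 _ ?_
  rintro x ⟨q, hx, -⟩
  exact ⟨_, hx⟩

/-- the condition cutting out the largest homogeneous ideal whose degree-zero localization lies in `J f` -/
def IdealSys.Good (z : A) : Prop :=
  ∀ (j k q : ℕ) (b : A) (hb : b ∈ 𝒜 k) (h : j + k = q • d),
    Away.mk 𝒜 hf q ((decompose 𝒜 z j : A) * b)
      (by rw [← h]; exact SetLike.mul_mem_graded (SetLike.coe_mem _) hb) ∈ S.J f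

theorem IdealSys.good_zero : S.Good hf 0 := by
  intro j k q b hb h
  have h0 : ((decompose 𝒜 (0 : A) j : A) * b) = 0 := by rw [decompose_zero]; simp
  rw [mk_congr_num hf q h0 _ (zero_mem _), mk_zero]
  exact zero_mem _

theorem IdealSys.good_add {z w : A} (hz : S.Good hf z) (hw : S.Good hf w) : S.Good hf (z + w) := by
  intro j k q b hb h
  have h0 : ((decompose 𝒜 (z + w) j : A) * b) =
      (decompose 𝒜 z j : A) * b + (decompose 𝒜 w j : A) * b := by
    rw [decompose_add, DirectSum.add_apply, AddMemClass.coe_add, add_mul]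
  have hzm : (decompose 𝒜 z j : A) * b ∈ 𝒜 (q • d) := by
    rw [← h]; exact SetLike.mul_mem_graded (SetLike.coe_mem _) hb
  have hwm : (decompose 𝒜 w j : A) * b ∈ 𝒜 (q • d) := by
    rw [← h]; exact SetLike.mul_mem_graded (SetLike.coe_mem _) hb
  rw [mk_congr_num hf q h0 _ (add_mem hzm hwm), mk_add hf q _ _ hzm hwm]
  exact add_mem (hz j k q b hb h) (hw j k q b hb h)

theorem IdealSys.good_mul_of_mem {c : A} {i : ℕ} (hc : c ∈ 𝒜 i) {z : A} (hz : S.Good hf z) :
    S.Good hf (c * z) := by
  intro j k q b hb h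
  by_cases hij : i ≤ j
  · have h0 : ((decompose 𝒜 (c * z) j : A) * b) = (decompose 𝒜 z (j - i) : A) * (c * b) := by
      rw [DirectSum.coe_decompose_mul_of_left_mem_of_le 𝒜 hc hij]; ring
    have h' : (j - i) + (i + k) = q • d := by omega
    have := hz (j - i) (i + k) q (c * b) (SetLike.mul_mem_graded hc hb) h'
    have hm : (decompose 𝒜 z (j - i) : A) * (c * b) ∈ 𝒜 (q • d) := by
      rw [← h']
      exact SetLike.mul_mem_graded (SetLike.coe_mem _) (SetLike.mul_mem_graded hc hb)
    rw [mk_congr_num hf q h0 _ hm]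
    exact this
  · have h0 : ((decompose 𝒜 (c * z) j : A) * b) = 0 := by
      rw [DirectSum.coe_decompose_mul_of_left_mem_of_not_le 𝒜 hc hij]; simp
    rw [mk_congr_num hf q h0 _ (zero_mem _), mk_zero]
    exact zero_mem _

theorem IdealSys.good_mul (c : A) {z : A} (hz : S.Good hf z) : S.Good hf (c * z) := by
  classical
  induction c using DirectSum.Decomposition.inductionOn 𝒜 with
  | zero => rw [zero_mul]; exact S.good_zero hf
  | homogeneous a => exact S.good_mul_of_mem hf a.2 hz
  | add a b ha hb => rw [add_mul]; exact S.good_add hf ha hb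

/-- the largest homogeneous ideal whose degree-zero localization at `f` lies in `J f` -/
def IdealSys.big : Ideal A where
  carrier := {z | S.Good hf z}
  add_mem' := fun hz hw => S.good_add hf hz hw
  zero_mem' := S.good_zero hf
  smul_mem' := fun c _ hz => S.good_mul hf c hz

theorem IdealSys.numSet_subset_big (hd : 0 < d) : S.numSet hf ⊆ S.big hf := by
  rintro x ⟨q', hx, hxJ⟩
  intro j k q b hb h
  by_cases hj : j = q' • d
  · subst hj
    have hq : q' ≤ q := by
      by_contra hlt
      push Not at hlt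
      have : q • d < q' • d := by
        simp only [smul_eq_mul]
        exact Nat.mul_lt_mul_of_pos_right hlt hd
      omega
    have h0 : ((decompose 𝒜 x (q' • d) : A) * b) = x * b := by
      rw [DirectSum.decompose_of_mem_same 𝒜 hx]
    have hk : k = (q - q') • d := by
      have e1 : (q - q') • d = q • d - q' • d := by
        simp only [smul_eq_mul]; exact Nat.sub_mul q q' d
      omega
    subst hk
    have hxb : x * b ∈ 𝒜 (q • d) := by rw [← h]; exact SetLike.mul_mem_graded hx hb
    have h1 : Away.mk 𝒜 hf q (x * b) hxb =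
        Away.mk 𝒜 hf q' x hx * Away.mk 𝒜 hf (q - q') b hb := by
      rw [mk_mul_mk, mk_eq_mk_iff]
      refine ⟨0, ?_⟩
      rw [Nat.add_sub_cancel' hq]
    rw [mk_congr_num hf q h0 _ hxb, h1]
    exact Ideal.mul_mem_right _ _ hxJ
  · have h0 : ((decompose 𝒜 x j : A) * b) = 0 := by
      rw [DirectSum.decompose_of_mem_ne 𝒜 hx (Ne.symm hj)]; simp
    rw [mk_congr_num hf q h0 _ (zero_mem _), mk_zero]
    exact zero_mem _

theorem IdealSys.num_le_big (hd : 0 < d) : S.num hf ≤ S.big hf := Ideal.span_le.2 (S.numSet_subset_big hf hd)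

/-- **contraction**: a homogeneous element of the numerator ideal gives a fraction in `J f` -/
theorem IdealSys.mk_mem_J_of_mem_num (hd : 0 < d) {q : ℕ} {x : A} (hx : x ∈ 𝒜 (q • d)) (hxN : x ∈ S.num hf) :
    Away.mk 𝒜 hf q x hx ∈ S.J f := by
  have hg := S.num_le_big hf hd hxN (q • d) 0 q 1 SetLike.GradedOne.one_mem (add_zero _)
  have h0 : ((decompose 𝒜 x (q • d) : A) * 1) = x := by
    rw [DirectSum.decompose_of_mem_same 𝒜 hx, mul_one]
  rwa [mk_congr_num hf q h0 _ hx] at hg

theorem IdealSys.mk_mem_J_of_mem_sat (hd : 0 < d) {q : ℕ} {x : A} (hx : x ∈ 𝒜 (q • d))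
    (hxN : x ∈ sat (S.num hf) f) :
    Away.mk 𝒜 hf q x hx ∈ S.J f := by
  obtain ⟨n, hn⟩ := hxN
  rw [← mk_pow_mul hf n q x hx]
  exact S.mk_mem_J_of_mem_num hf hd _ hn

theorem IdealSys.mem_num_of_mk_mem {q : ℕ} {x : A} (hx : x ∈ 𝒜 (q • d)) (h : Away.mk 𝒜 hf q x hx ∈ S.J f) :
    x ∈ S.num hf := Ideal.subset_span ⟨q, hx, h⟩

end Groth.Agent.Lib.T2H4.ProjQuot
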