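import Mathlib
import Groth.Agent.Lib.T2H4ProjQuotB

/-!
# Ideal systems: the homogeneous ideal of an ideal system (helper4)

* `awayIdeal N hf` : the fractions of `Away 𝒜 f` with a numerator in `N`.
* `IdealSys.ideal` : `I = ⋂_f sat (num f) f`.
* `IdealSys.mk_mem_J_iff` : under a finite cover, `x / f ^ q ∈ J f ↔ ∃ N, f ^ N * x ∈ I`.
-/

set_option autoImplicit false
set_option linter.unusedSectionVars false
universe u
open HomogeneousLocalization DirectSum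

namespace Groth.Agent.Lib.T2H4.ProjQuot

variable {A : Type u} [CommRing A] {σ : Type*} [SetLike σ A] [AddSubgroupClass σ A]
  {𝒜 : ℕ → σ} [GradedRing 𝒜]

section awayIdeal

variable {f : A} {d : ℕ} (hf : f ∈ 𝒜 d)

theorem mk_eq_of {p q : ℕ} {x y : A} (hx : x ∈ 𝒜 (p • d)) (hy : y ∈ 𝒜 (q • d))
    (h : f ^ q * x = f ^ p * y) : Away.mk 𝒜 hf p x hx = Away.mk 𝒜 hf q y hy :=
  (mk_eq_mk_iff hf p q x y hx hy).2 ⟨0, by rw [h]⟩

/-- the ideal of `Away 𝒜 f` of the fractions having a numerator in `N` -/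
def awayIdeal (N : Ideal A) : Ideal (Away 𝒜 f) where
  carrier := {w | ∃ (q : ℕ) (x : A) (hx : x ∈ 𝒜 (q • d)), x ∈ N ∧ w = Away.mk 𝒜 hf q x hx}
  add_mem' := by
    rintro _ _ ⟨q, x, hx, hxN, rfl⟩ ⟨q', x', hx', hxN', rfl⟩
    have h1 : f ^ q' * x ∈ 𝒜 ((q' + q) • d) := by
      rw [add_smul]; exact SetLike.mul_mem_graded (SetLike.pow_mem_graded q' hf) hx
    have h2 : f ^ q * x' ∈ 𝒜 ((q' + q) • d) := by
      rw [add_comm, add_smul]; exact SetLike.mul_mem_graded (SetLike.pow_mem_graded q hf) hx'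
    refine ⟨q' + q, f ^ q' * x + f ^ q * x', add_mem h1 h2,
      N.add_mem (N.mul_mem_left _ hxN) (N.mul_mem_left _ hxN'), ?_⟩
    rw [mk_add hf _ _ _ h1 h2]
    congr 1
    · exact mk_eq_of hf _ _ (by ring)
    · exact mk_eq_of hf _ _ (by ring)
  zero_mem' := ⟨0, 0, zero_mem _, N.zero_mem, (mk_zero hf 0 (zero_mem _)).symm⟩
  smul_mem' := by
    rintro c _ ⟨q, x, hx, hxN, rfl⟩
    obtain ⟨p, c0, hc0, rfl⟩ := Away.mk_surjective 𝒜 hf c
    refine ⟨p + q, c0 * x, by rw [add_smul]; exact SetLike.mul_mem_graded hc0 hx,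
      N.mul_mem_left _ hxN, ?_⟩
    rw [smul_eq_mul, mk_mul_mk]

theorem mem_awayIdeal {N : Ideal A} {w : Away 𝒜 f} :
    w ∈ awayIdeal hf N ↔ ∃ (q : ℕ) (x : A) (hx : x ∈ 𝒜 (q • d)), x ∈ N ∧ w = Away.mk 𝒜 hf q x hx :=
  Iff.rfl

theorem exists_pow_mul_mem_of_mk_mem_awayIdeal {N : Ideal A} {q : ℕ} {c : A} (hc : c ∈ 𝒜 (q • d))
    (h : Away.mk 𝒜 hf q c hc ∈ awayIdeal hf N) : ∃ M : ℕ, f ^ M * c ∈ N := by
  obtain ⟨q', x, hx, hxN, h⟩ := h
  rw [mk_eq_mk_iff] at h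
  obtain ⟨M, hM⟩ := h
  refine ⟨M + q', ?_⟩
  have : f ^ (M + q') * c = f ^ M * (f ^ q * x) := by rw [← hM]; ring
  rw [this]
  exact N.mul_mem_left _ (N.mul_mem_left _ hxN)

theorem awayIdeal_congr {d' : ℕ} (hf' : f ∈ 𝒜 d') (hdd : d = d') (N : Ideal A) :
    awayIdeal hf N = awayIdeal hf' N := by
  subst hdd; rfl

theorem map_awayMap_awayIdeal_le (N : Ideal A) {g : A} {e : ℕ} (hg : g ∈ 𝒜 e) {x : A} (hx : x = f * g)
    (hxd : x ∈ 𝒜 (d + e)) : (awayIdeal hf N).map (awayMap 𝒜 hg hx) ≤ awayIdeal hxd N := by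
  rw [Ideal.map_le_iff_le_comap]
  rintro _ ⟨q, a, ha, haN, rfl⟩
  change awayMap 𝒜 hg hx (Away.mk 𝒜 hf q a ha) ∈ awayIdeal hxd N
  rw [awayMap_mk]
  exact ⟨q, a * g ^ q, _, N.mul_mem_right _ haN, rfl⟩

end awayIdeal

section single

variable (S : IdealSys 𝒜) {f : A} {d : ℕ} (hf : f ∈ 𝒜 d)

theorem IdealSys.J_le_awayIdeal : S.J f ≤ awayIdeal hf (S.num hf) := by
  intro w hw
  obtain ⟨q, x, hx, rfl⟩ := Away.mk_surjective 𝒜 hf w
  exact ⟨q, x, hx, S.mem_num_of_mk_mem hf hx hw, rfl⟩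

/-- **passing to another chart**: a fraction of `J f` has, up to a power of `f`, its numerator in the saturated
numerator ideal at `g` -/
theorem IdealSys.exists_pow_mul_mem_sat_num {g : A} {e : ℕ} (hg : g ∈ 𝒜 e) (hd : 0 < d) (he : 0 < e)
    {q : ℕ} {x : A} (hx : x ∈ 𝒜 (q • d)) (h : Away.mk 𝒜 hf q x hx ∈ S.J f) :
    ∃ M : ℕ, f ^ M * x ∈ sat (S.num hg) g := by
  have hX' : f * g = g * f := mul_comm f g
  have hXe : f * g ∈ 𝒜 (e + d) := by rw [hX']; exact SetLike.mul_mem_graded hg hf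
  have h1 : awayMap 𝒜 hg rfl (Away.mk 𝒜 hf q x hx) ∈ S.J (f * g) := by
    rw [S.compat hf hg hd he rfl]; exact Ideal.mem_map_of_mem _ h
  have h2 : S.J (f * g) = (S.J g).map (awayMap 𝒜 hf hX') := S.compat hg hf he hd hX'
  have h3 : S.J (f * g) ≤ awayIdeal hXe (S.num hg) := by
    rw [h2]
    exact (Ideal.map_mono (S.J_le_awayIdeal hg)).trans (map_awayMap_awayIdeal_le hg _ hf hX' hXe)
  have h4 := h3 h1
  rw [awayMap_mk] at h4
  have hnum : x * g ^ q ∈ 𝒜 (q • (e + d)) := by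
    rw [smul_add, add_comm]; exact SetLike.mul_mem_graded hx (SetLike.pow_mem_graded q hg)
  rw [mk_congr _ hXe q _ _ hnum] at h4
  obtain ⟨M, hM⟩ := exists_pow_mul_mem_of_mk_mem_awayIdeal hXe hnum h4
  refine ⟨M, M + q, ?_⟩
  have : g ^ (M + q) * (f ^ M * x) = (f * g) ^ M * (x * g ^ q) := by ring
  rw [this]; exact hM

end single

end Groth.Agent.Lib.T2H4.ProjQuot
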