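import Mathlib
import Groth.Agent.Lib.T2H4ProjQuotC

/-!
# Ideal systems: locality and the ideal `I` (helper4)
-/

set_option autoImplicit false
set_option linter.unusedSectionVars false
set_option linter.style.haveILetI false
universe u
open HomogeneousLocalization DirectSum

namespace Groth.Agent.Lib.T2H4.ProjQuot

variable {A : Type u} [CommRing A] {σ : Type*} [SetLike σ A] [AddSubgroupClass σ A]
  {𝒜 : ℕ → σ} [GradedRing 𝒜]

variable (S : IdealSys 𝒜)

/-- an element of the numerator ideal at `f` lies, up to a power of `f`, in the saturated numerator ideal at `g` -/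
theorem IdealSys.exists_pow_mul_mem_sat_of_mem_num {f g : A} {d e : ℕ} (hf : f ∈ 𝒜 d) (hg : g ∈ 𝒜 e)
    (hd : 0 < d) (he : 0 < e) {z : A} (hz : z ∈ S.num hf) : ∃ M : ℕ, f ^ M * z ∈ sat (S.num hg) g := by
  induction hz using Submodule.span_induction with
  | mem x hx =>
    obtain ⟨q, hxq, hxJ⟩ := hx
    exact S.exists_pow_mul_mem_sat_num hf hg hd he hxq hxJ
  | zero => exact ⟨0, by simp⟩
  | add x y _ _ hx hy =>
    obtain ⟨M, hM⟩ := hx
    obtain ⟨M', hM'⟩ := hy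
    refine ⟨M + M', ?_⟩
    have : f ^ (M + M') * (x + y) = f ^ M' * (f ^ M * x) + f ^ M * (f ^ M' * y) := by ring
    rw [this]
    exact add_mem (Ideal.mul_mem_left _ _ hM) (Ideal.mul_mem_left _ _ hM')
  | smul c x _ hx =>
    obtain ⟨M, hM⟩ := hx
    refine ⟨M, ?_⟩
    have : f ^ M * (c • x) = c * (f ^ M * x) := by rw [smul_eq_mul]; ring
    rw [this]
    exact Ideal.mul_mem_left _ _ hM

theorem IdealSys.exists_pow_mul_mem_sat_of_mem_sat {f g : A} {d e : ℕ} (hf : f ∈ 𝒜 d) (hg : g ∈ 𝒜 e)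
    (hd : 0 < d) (he : 0 < e) {z : A} (hz : z ∈ sat (S.num hf) f) :
    ∃ M : ℕ, f ^ M * z ∈ sat (S.num hg) g := by
  obtain ⟨n, hn⟩ := hz
  obtain ⟨M, hM⟩ := S.exists_pow_mul_mem_sat_of_mem_num hf hg hd he hn
  refine ⟨M + n, ?_⟩
  have : f ^ (M + n) * z = f ^ M * (f ^ n * z) := by ring
  rw [this]; exact hM

/-- **locality**: membership in the saturated numerator ideals can be tested on a finite cover -/
theorem IdealSys.mem_sat_num_of_cover {g : A} {e : ℕ} (hg : g ∈ 𝒜 e) (he : 0 < e)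
    {ι : Type*} [Finite ι] (G : ι → A) (eG : ι → ℕ) (hG : ∀ i, G i ∈ 𝒜 (eG i)) (hGpos : ∀ i, 0 < eG i)
    (hrad : g ∈ (Ideal.span (Set.range G)).radical) {a : A}
    (ha : ∀ i, a ∈ sat (S.num (hG i)) (G i)) : a ∈ sat (S.num hg) g := by
  have h1 : ∀ i, ∃ M : ℕ, G i ^ M * a ∈ sat (S.num hg) g := fun i =>
    S.exists_pow_mul_mem_sat_of_mem_sat (hG i) hg (hGpos i) he (ha i)
  choose K hK using h1
  have h2 : g ∈ (Ideal.span (Set.range fun i => G i ^ K i)).radical := by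
    have h3 : Ideal.span (Set.range G) ≤ (Ideal.span (Set.range fun i => G i ^ K i)).radical := by
      rw [Ideal.span_le]
      rintro _ ⟨i, rfl⟩
      exact ⟨K i, Ideal.subset_span ⟨i, rfl⟩⟩
    have h4 := Ideal.radical_mono h3
    rw [Ideal.radical_idem] at h4
    exact h4 hrad
  obtain ⟨n, hn⟩ := h2
  apply mem_sat_of_pow_mul_mem n
  have h5 : ∀ c ∈ Ideal.span (Set.range fun i => G i ^ K i), c * a ∈ sat (S.num hg) g := by
    intro c hc
    induction hc using Submodule.span_induction with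
    | mem x hx =>
      obtain ⟨i, rfl⟩ := hx
      exact hK i
    | zero => rw [zero_mul]; exact zero_mem _
    | add x y _ _ hx hy => rw [add_mul]; exact add_mem hx hy
    | smul c x _ hx =>
      rw [smul_eq_mul, mul_assoc]; exact Ideal.mul_mem_left _ _ hx
  exact h5 _ hn

variable (𝒜) in
/-- the homogeneous elements of positive degree -/
def HPos : Type u := {p : A × ℕ // p.1 ∈ 𝒜 p.2 ∧ 0 < p.2}

/-- **the homogeneous ideal of an ideal system** -/
def IdealSys.ideal : Ideal A := ⨅ p : HPos 𝒜, sat (S.num p.2.1) p.1.1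

theorem IdealSys.mem_ideal {a : A} :
    a ∈ S.ideal ↔ ∀ (f : A) (d : ℕ) (hf : f ∈ 𝒜 d), 0 < d → a ∈ sat (S.num hf) f := by
  rw [IdealSys.ideal, Ideal.mem_iInf]
  exact ⟨fun h f d hf hd => h ⟨(f, d), hf, hd⟩, fun h p => h p.1.1 p.1.2 p.2.1 p.2.2⟩

theorem IdealSys.ideal_isHomogeneous : S.ideal.IsHomogeneous 𝒜 :=
  Ideal.IsHomogeneous.iInf fun p => sat_isHomogeneous 𝒜 (S.num_isHomogeneous p.2.1) p.2.1

/-- a fraction whose numerator lies, up to a power of `f`, in `I` belongs to `J f` -/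
theorem IdealSys.mk_mem_J_of_pow_mul_mem_ideal {f : A} {d : ℕ} (hf : f ∈ 𝒜 d) (hd : 0 < d) {q : ℕ} {x : A}
    (hx : x ∈ 𝒜 (q • d)) {N : ℕ} (h : f ^ N * x ∈ S.ideal) : Away.mk 𝒜 hf q x hx ∈ S.J f :=
  S.mk_mem_J_of_mem_sat hf hd hx (mem_sat_of_pow_mul_mem N (S.mem_ideal.1 h f d hf hd))

variable (𝒜) in
/-- a finite family of homogeneous elements of positive degree whose non-vanishing loci cover `Proj 𝒜` -/
structure FinCover where
  /-- the index type -/
  ι : Type u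
  fin : Finite ι
  /-- the elements -/
  G : ι → A
  /-- their degrees -/
  e : ι → ℕ
  mem : ∀ i, G i ∈ 𝒜 (e i)
  pos : ∀ i, 0 < e i
  le : (HomogeneousIdeal.irrelevant 𝒜).toIdeal ≤ (Ideal.span (Set.range G)).radical

theorem IdealSys.mem_ideal_of_cover (C : FinCover 𝒜) {a : A}
    (ha : ∀ i, a ∈ sat (S.num (C.mem i)) (C.G i)) : a ∈ S.ideal := by
  rw [S.mem_ideal]
  intro g e hg he
  haveI := C.fin
  exact S.mem_sat_num_of_cover hg he C.G C.e C.mem C.pos
    (C.le (HomogeneousIdeal.mem_irrelevant_of_mem _ he hg)) ha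

/-- under a finite cover, the numerator of a fraction of `J f` lies in `I` up to a power of `f` -/
theorem IdealSys.exists_pow_mul_mem_ideal (C : FinCover 𝒜) {f : A} {d : ℕ} (hf : f ∈ 𝒜 d) (hd : 0 < d)
    {q : ℕ} {x : A} (hx : x ∈ 𝒜 (q • d)) (h : Away.mk 𝒜 hf q x hx ∈ S.J f) :
    ∃ N : ℕ, f ^ N * x ∈ S.ideal := by
  haveI := C.fin
  have h1 : ∀ i, ∃ M : ℕ, f ^ M * x ∈ sat (S.num (C.mem i)) (C.G i) := fun i =>
    S.exists_pow_mul_mem_sat_num hf (C.mem i) hd (C.pos i) hx h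
  choose M hM using h1
  obtain ⟨N, hN⟩ : ∃ N : ℕ, ∀ i, M i ≤ N := by
    cases nonempty_fintype C.ι
    exact ⟨Finset.univ.sup M, fun i => Finset.le_sup (Finset.mem_univ i)⟩
  refine ⟨N, S.mem_ideal_of_cover C fun i => ?_⟩
  have : f ^ N * x = f ^ (N - M i) * (f ^ (M i) * x) := by
    rw [← mul_assoc, ← pow_add, Nat.sub_add_cancel (hN i)]
  rw [this]
  exact Ideal.mul_mem_left _ _ (hM i)

end Groth.Agent.Lib.T2H4.ProjQuot
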