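import Mathlib
import Groth.Agent.Lib.T2H4ProjQuotD

/-!
# Ideal systems: compatibility with localization at an element of degree zero (helper4)
-/

set_option autoImplicit false
set_option linter.unusedSectionVars false
set_option linter.style.haveILetI false
universe u
open HomogeneousLocalization DirectSum Graded

namespace Groth.Agent.Lib.T2H4.ProjQuot

variable {A : Type u} [CommRing A] {σ : Type*} [SetLike σ A] [AddSubgroupClass σ A]
  {𝒜 : ℕ → σ} [GradedRing 𝒜]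
  {A' : Type u} [CommRing A'] {σ' : Type*} [SetLike σ' A'] [AddSubgroupClass σ' A']
  {𝒜' : ℕ → σ'} [GradedRing 𝒜']

section quot

/-- the quotients of a localization at an element by compatible ideals form a localization -/
theorem isLocalization_quotient [Algebra A A'] (r : A) [IsLocalization.Away r A'] (I : Ideal A)
    (I' : Ideal A') (h1 : ∀ a ∈ I, algebraMap A A' a ∈ I')
    (h2 : ∀ a, algebraMap A A' a ∈ I' → ∃ M : ℕ, r ^ M * a ∈ I)
    (ψ : A ⧸ I →+* A' ⧸ I')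
    (hψ : ∀ a, ψ (Ideal.Quotient.mk I a) = Ideal.Quotient.mk I' (algebraMap A A' a)) :
    letI := ψ.toAlgebra
    IsLocalization.Away (Ideal.Quotient.mk I r) (A' ⧸ I') := by
  letI := ψ.toAlgebra
  have halg : ∀ q, algebraMap (A ⧸ I) (A' ⧸ I') q = ψ q := fun q => rfl
  have hunit : IsUnit (algebraMap A A' r) := IsLocalization.Away.algebraMap_isUnit r
  show IsLocalization (Submonoid.powers (Ideal.Quotient.mk I r)) _
  rw [isLocalization_iff]
  refine ⟨?_, ?_, ?_⟩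
  · rintro ⟨_, k, rfl⟩
    show IsUnit (algebraMap _ _ ((Ideal.Quotient.mk I r) ^ k))
    rw [halg, map_pow, hψ]
    exact (hunit.map (Ideal.Quotient.mk I')).pow k
  · intro z
    obtain ⟨a', rfl⟩ := Ideal.Quotient.mk_surjective z
    obtain ⟨⟨a, ⟨_, k, rfl⟩⟩, ha⟩ := IsLocalization.surj (Submonoid.powers r) a'
    refine ⟨(Ideal.Quotient.mk I a, ⟨(Ideal.Quotient.mk I r) ^ k, k, rfl⟩), ?_⟩
    show _ * algebraMap _ _ ((Ideal.Quotient.mk I r) ^ k) = algebraMap _ _ _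
    rw [halg, halg, hψ, map_pow, hψ, ← map_pow, ← map_mul, ← map_pow]
    exact congrArg _ ha
  · intro x y hxy
    obtain ⟨a, rfl⟩ := Ideal.Quotient.mk_surjective x
    obtain ⟨b, rfl⟩ := Ideal.Quotient.mk_surjective y
    rw [halg, halg, hψ, hψ, Ideal.Quotient.eq, ← map_sub] at hxy
    obtain ⟨M, hM⟩ := h2 _ hxy
    refine ⟨⟨(Ideal.Quotient.mk I r) ^ M, M, rfl⟩, ?_⟩
    show (Ideal.Quotient.mk I r) ^ M * _ = (Ideal.Quotient.mk I r) ^ M * _
    rw [← map_pow, ← map_mul, ← map_mul, Ideal.Quotient.eq, ← mul_sub]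
    exact hM

end quot

section loc

variable (ρ : 𝒜 →+*ᵍ 𝒜') (S : IdealSys 𝒜) (S' : IdealSys 𝒜')
  (hJ : ∀ {f : A} {d : ℕ} (_ : f ∈ 𝒜 d), 0 < d → S'.J (ρ f) = (S.J f).map (Away.map ρ f))

include hJ in
theorem map_num_le {f : A} {d : ℕ} (hf : f ∈ 𝒜 d) (hd : 0 < d) :
    (S.num hf).map ρ.toRingHom ≤ S'.num (map_mem ρ hf) := by
  rw [Ideal.map_le_iff_le_comap, IdealSys.num, Ideal.span_le]
  rintro x ⟨q, hx, hxJ⟩
  refine Ideal.subset_span ⟨q, map_mem ρ hx, ?_⟩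
  rw [hJ hf hd]
  have := Ideal.mem_map_of_mem (Away.map ρ f) hxJ
  rwa [Away.map_mk] at this

include hJ in
theorem map_mem_sat_num {f : A} {d : ℕ} (hf : f ∈ 𝒜 d) (hd : 0 < d) {a : A}
    (ha : a ∈ sat (S.num hf) f) : ρ a ∈ sat (S'.num (map_mem ρ hf)) (ρ f) := by
  obtain ⟨n, hn⟩ := ha
  refine ⟨n, ?_⟩
  have := map_num_le ρ S S' hJ hf hd (Ideal.mem_map_of_mem ρ.toRingHom hn)
  simpa using this

theorem map_awayMap'_awayIdeal_le {f : A} {d : ℕ} (hf : f ∈ 𝒜 d) (N : Ideal A) :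
    (awayIdeal hf N).map (Away.map ρ f) ≤ awayIdeal (map_mem ρ hf) (N.map ρ.toRingHom) := by
  rw [Ideal.map_le_iff_le_comap]
  rintro _ ⟨q, a, ha, haN, rfl⟩
  change Away.map ρ f (Away.mk 𝒜 hf q a ha) ∈ awayIdeal (map_mem ρ hf) (N.map ρ.toRingHom)
  rw [Away.map_mk]
  exact ⟨q, ρ a, _, Ideal.mem_map_of_mem ρ.toRingHom haN, rfl⟩

include hJ in
theorem num_le_sat_map {f : A} {d : ℕ} (hf : f ∈ 𝒜 d) (hd : 0 < d) :
    S'.num (map_mem ρ hf) ≤ sat ((S.num hf).map ρ.toRingHom) (ρ f) := by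
  rw [IdealSys.num, Ideal.span_le]
  rintro x' ⟨q, hx', hxJ⟩
  rw [hJ hf hd] at hxJ
  have h1 := (Ideal.map_mono (S.J_le_awayIdeal hf)).trans (map_awayMap'_awayIdeal_le ρ hf _) hxJ
  obtain ⟨M, hM⟩ := exists_pow_mul_mem_of_mk_mem_awayIdeal (map_mem ρ hf) hx' h1
  exact ⟨M, hM⟩

variable [Algebra A A'] (hρ : ∀ a, ρ a = algebraMap A A' a) (r : A) (hr : r ∈ 𝒜 0)
  [IsLocalization.Away r A']

include hρ in
theorem exists_pow_mul_mem_of_map_mem_map (N : Ideal A) {b : A} (hb : ρ b ∈ N.map ρ.toRingHom) :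
    ∃ k : ℕ, r ^ k * b ∈ N := by
  have e : ρ.toRingHom = algebraMap A A' := RingHom.ext hρ
  rw [e, hρ, IsLocalization.mem_map_algebraMap_iff (Submonoid.powers r)] at hb
  obtain ⟨⟨⟨n, hn⟩, ⟨_, k, rfl⟩⟩, h⟩ := hb
  simp only at h
  rw [← map_mul] at h
  obtain ⟨⟨_, k', rfl⟩, hk'⟩ := (IsLocalization.eq_iff_exists (Submonoid.powers r) A').1 h
  simp only at hk'
  refine ⟨k' + k, ?_⟩
  have : r ^ (k' + k) * b = r ^ k' * (b * r ^ k) := by ring
  rw [this, hk']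
  exact N.mul_mem_left _ hn

include hρ hr in
/-- homogeneous elements of the localization come from homogeneous elements -/
theorem exists_map_eq_pow_mul {g' : A'} {e : ℕ} (hg' : g' ∈ 𝒜' e) :
    ∃ (k : ℕ) (g : A), g ∈ 𝒜 e ∧ ρ r ^ k * g' = ρ g := by
  classical
  obtain ⟨⟨a, ⟨_, k, rfl⟩⟩, ha⟩ := IsLocalization.surj (Submonoid.powers r) g'
  simp only at ha
  refine ⟨k, (decompose 𝒜 a e : A), SetLike.coe_mem _, ?_⟩
  have h1 : ρ r ^ k * g' ∈ 𝒜' e := by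
    have := SetLike.mul_mem_graded (SetLike.pow_mem_graded k (map_mem ρ hr)) hg'
    simpa using this
  have h2 : ρ a = ρ r ^ k * g' := by
    rw [hρ a, ← ha, hρ r, map_pow]; ring
  rw [GradedRingHom.map_directSumDecompose 𝒜 𝒜' ρ, h2, DirectSum.decompose_of_mem_same 𝒜' h1]

include hJ hρ hr in
/-- the image of `I` lies in `I'` -/
theorem map_mem_ideal {a : A} (ha : a ∈ S.ideal) : ρ a ∈ S'.ideal := by
  rw [S'.mem_ideal]
  intro g' e hg' he
  obtain ⟨k, g, hg, hkg⟩ := exists_map_eq_pow_mul ρ hρ r hr hg'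
  have hunit : IsUnit (ρ r) := by rw [hρ]; exact IsLocalization.Away.algebraMap_isUnit r
  refine S'.mem_sat_num_of_cover hg' he (fun _ : Unit => ρ g) (fun _ => e) (fun _ => map_mem ρ hg)
    (fun _ => he) ?_ (fun _ => map_mem_sat_num ρ S S' hJ hg he (S.mem_ideal.1 ha g e hg he))
  apply Ideal.le_radical
  obtain ⟨u, hu⟩ := hunit.pow k
  have : g' = ↑u⁻¹ * ρ g := by
    rw [← hkg, ← hu, ← mul_assoc, Units.inv_mul, one_mul]
  rw [this]
  exact Ideal.mul_mem_left _ _ (Ideal.subset_span ⟨(), rfl⟩)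

include hJ hρ in
/-- an element mapping into `I'` lies in `I` up to a power of `r` -/
theorem exists_pow_mul_mem_ideal_of_map_mem (C : FinCover 𝒜) {a : A} (ha : ρ a ∈ S'.ideal) :
    ∃ M : ℕ, r ^ M * a ∈ S.ideal := by
  haveI := C.fin
  have h1 : ∀ i, ∃ k : ℕ, r ^ k * a ∈ sat (S.num (C.mem i)) (C.G i) := by
    intro i
    have h2 := S'.mem_ideal.1 ha (ρ (C.G i)) (C.e i) (map_mem ρ (C.mem i)) (C.pos i)
    obtain ⟨n, hn⟩ := h2
    obtain ⟨n', hn'⟩ := num_le_sat_map ρ S S' hJ (C.mem i) (C.pos i) hn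
    have h3 : ρ (C.G i ^ (n' + n) * a) ∈ (S.num (C.mem i)).map ρ.toRingHom := by
      have : ρ (C.G i ^ (n' + n) * a) = ρ (C.G i) ^ n' * (ρ (C.G i) ^ n * ρ a) := by
        rw [map_mul, map_pow, pow_add]; ring
      rw [this]; exact hn'
    obtain ⟨k, hk⟩ := exists_pow_mul_mem_of_map_mem_map ρ hρ r _ h3
    refine ⟨k, n' + n, ?_⟩
    have : C.G i ^ (n' + n) * (r ^ k * a) = r ^ k * (C.G i ^ (n' + n) * a) := by ring
    rw [this]; exact hk
  choose k hk using h1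
  obtain ⟨K, hK⟩ : ∃ K : ℕ, ∀ i, k i ≤ K := by
    cases nonempty_fintype C.ι
    exact ⟨Finset.univ.sup k, fun i => Finset.le_sup (Finset.mem_univ i)⟩
  refine ⟨K, S.mem_ideal_of_cover C fun i => ?_⟩
  have : r ^ K * a = r ^ (K - k i) * (r ^ (k i) * a) := by
    rw [← mul_assoc, ← pow_add, Nat.sub_add_cancel (hK i)]
  rw [this]
  exact Ideal.mul_mem_left _ _ (hk i)

end loc

end Groth.Agent.Lib.T2H4.ProjQuot
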