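import Mathlib
import Groth.Agent.Lib.T2H4ProjQuotF
import Groth.Agent.Lib.Helper27RelProj4

/-!
# Closed subschemes of `Proj 𝒜` as `Proj` of a graded quotient (helper4)

* `irrelevant_le_radical` : if the `D₊(G i)` cover `Proj 𝒜` then `𝒜₊ ⊆ √(G i)`.
* `nonempty_finCover` : a quasi-compact `Proj 𝒜` has a finite cover by `D₊(G i)`.
* `sysOf ℐ` : the ideal system of an ideal sheaf on `Proj 𝒜`.
* `ker_projMap_eq` : for a surjective graded `φ : 𝒜 → ℬ` with kernel `(sysOf ℐ).ideal`, `(Proj.map φ).ker = ℐ`.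
-/

set_option autoImplicit false
set_option linter.unusedSectionVars false
set_option linter.style.haveILetI false
universe u
open HomogeneousLocalization DirectSum Graded CategoryTheory AlgebraicGeometry TopologicalSpace
open scoped HomogeneousIdeal

namespace Groth.Agent.Lib.T2H4.ProjQuot

variable {A : Type u} [CommRing A] {σ : Type*} [SetLike σ A] [AddSubgroupClass σ A]
  (𝒜 : ℕ → σ) [GradedRing 𝒜]

section cover

theorem irrelevant_le_radical {ι : Type*} (G : ι → A) (hG : ∀ i, SetLike.IsHomogeneousElem 𝒜 (G i))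
    (h : ⨆ i, Proj.basicOpen 𝒜 (G i) = ⊤) :
    (HomogeneousIdeal.irrelevant 𝒜).toIdeal ≤ (Ideal.span (Set.range G)).radical := by
  intro f hf
  by_contra hfr
  rw [Ideal.radical_eq_sInf, Submodule.mem_sInf] at hfr
  push Not at hfr
  obtain ⟨𝔭₀, ⟨hle, hp⟩, hfp⟩ := hfr
  obtain ⟨𝔭, rfl⟩ : ∃ 𝔭 : Ideal A, 𝔭 = 𝔭₀ := ⟨𝔭₀, rfl⟩
  have hq : (Ideal.homogeneousCore 𝒜 𝔭).toIdeal.IsPrime := Ideal.IsPrime.homogeneousCore hp
  have hspan : Ideal.span (Set.range G) ≤ (Ideal.homogeneousCore 𝒜 𝔭).toIdeal := by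
    have hh : (Ideal.span (Set.range G)).IsHomogeneous 𝒜 :=
      Ideal.homogeneous_span 𝒜 _ (by rintro _ ⟨i, rfl⟩; exact hG i)
    rw [← hh.toIdeal_homogeneousCore_eq_self]
    exact Ideal.homogeneousCore_mono 𝒜 hle
  have hirr : ¬ HomogeneousIdeal.irrelevant 𝒜 ≤ Ideal.homogeneousCore 𝒜 𝔭 := fun hle' =>
    hfp (Ideal.toIdeal_homogeneousCore_le 𝒜 𝔭 (hle' hf))
  let x : Proj 𝒜 := (⟨Ideal.homogeneousCore 𝒜 𝔭, hq, hirr⟩ : ProjectiveSpectrum 𝒜)
  have hx : x ∈ (⊤ : (Proj 𝒜).Opens) := trivial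
  rw [← h, Opens.mem_iSup] at hx
  obtain ⟨i, hi⟩ := hx
  rw [Proj.mem_basicOpen] at hi
  exact hi (hspan (Ideal.subset_span ⟨i, rfl⟩))

theorem iSup_basicOpen_hPos : ⨆ p : HPos 𝒜, Proj.basicOpen 𝒜 p.1.1 = ⊤ := by
  apply Proj.iSup_basicOpen_eq_top
  refine (HomogeneousIdeal.toIdeal_irrelevant_le _).mpr fun i hi x hx => ?_
  exact Ideal.subset_span ⟨⟨(x, i), hx, hi⟩, rfl⟩

theorem nonempty_finCover [CompactSpace (Proj 𝒜)] : Nonempty (FinCover 𝒜) := by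
  classical
  have hcov := iSup_basicOpen_hPos 𝒜
  have hc : IsCompact (Set.univ : Set (Proj 𝒜)) := isCompact_univ
  obtain ⟨t, ht⟩ := hc.elim_finite_subcover (fun p : HPos 𝒜 => (Proj.basicOpen 𝒜 p.1.1 : Set (Proj 𝒜)))
    (fun p => (Proj.basicOpen 𝒜 p.1.1).2) (by
      intro x _
      have hx : x ∈ (⊤ : (Proj 𝒜).Opens) := trivial
      rw [← hcov, Opens.mem_iSup] at hx
      obtain ⟨p, hp⟩ := hx
      exact Set.mem_iUnion.2 ⟨p, hp⟩)
  refine ⟨⟨{p : HPos 𝒜 // p ∈ t}, inferInstance, fun p => p.1.1.1, fun p => p.1.1.2,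
    fun p => p.1.2.1, fun p => p.1.2.2, ?_⟩⟩
  apply irrelevant_le_radical 𝒜 _ (fun p => ⟨_, p.1.2.1⟩)
  rw [eq_top_iff]
  intro x _
  obtain ⟨p, hp⟩ := Set.mem_iUnion.1 (ht (Set.mem_univ x))
  obtain ⟨hpt, hxp⟩ := Set.mem_iUnion.1 hp
  exact Opens.mem_iSup.2 ⟨⟨p, hpt⟩, hxp⟩

end cover

section transport

theorem comap_map_eq_map_comap {R R' T T' : Type*} [CommRing R] [CommRing R'] [CommRing T] [CommRing T']
    (e : R ≃+* T) (e' : R' ≃+* T') (φ : R →+* R') (ψ : T →+* T')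
    (hc : ∀ x, ψ (e x) = e' (φ x)) (𝔞 : Ideal T) :
    (𝔞.map ψ).comap (e' : R' →+* T') = (𝔞.comap (e : R →+* T)).map φ := by
  apply le_antisymm
  · intro y hy
    have h1 : e' y ∈ 𝔞.map ψ := hy
    have h2 : ∀ z ∈ 𝔞.map ψ, e'.symm z ∈ (𝔞.comap (e : R →+* T)).map φ := by
      intro z hz
      induction hz using Submodule.span_induction with
      | mem z hz =>
        obtain ⟨t, ht, rfl⟩ := hz
        have h3 : e'.symm (ψ t) = φ (e.symm t) := by
          rw [RingEquiv.symm_apply_eq, ← hc, RingEquiv.apply_symm_apply]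
        rw [h3]
        refine Ideal.mem_map_of_mem φ ?_
        change e (e.symm t) ∈ 𝔞
        rwa [RingEquiv.apply_symm_apply]
      | zero => rw [map_zero]; exact zero_mem _
      | add a b _ _ ha hb => rw [map_add]; exact add_mem ha hb
      | smul c a _ ha =>
        rw [smul_eq_mul, map_mul]; exact Ideal.mul_mem_left _ _ ha
    have := h2 _ h1
    rwa [RingEquiv.symm_apply_apply] at this
  · rw [Ideal.map_le_iff_le_comap]
    intro y hy
    change e' (φ y) ∈ 𝔞.map ψ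
    rw [← hc]
    exact Ideal.mem_map_of_mem ψ hy

theorem comap_map_eq_map_comap' {R R' T T' : Type*} [CommRing R] [CommRing R'] [CommRing T] [CommRing T']
    (e : R →+* T) (he : Function.Bijective e) (e' : R' →+* T') (he' : Function.Bijective e')
    (φ : R →+* R') (ψ : T →+* T') (hc : ∀ x, ψ (e x) = e' (φ x)) (𝔞 : Ideal T) :
    (𝔞.map ψ).comap e' = (𝔞.comap e).map φ :=
  comap_map_eq_map_comap (RingEquiv.ofBijective e he) (RingEquiv.ofBijective e' he') φ ψ hc 𝔞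

end transport

section sys

variable {𝒜} (ℐ : (Proj 𝒜).IdealSheafData)

theorem bijective_awayToSection {f : A} {d : ℕ} (hf : f ∈ 𝒜 d) (hd : 0 < d) :
    Function.Bijective (Proj.awayToSection 𝒜 f).hom := by
  have := ConcreteCategory.bijective_of_isIso (Proj.basicOpenIsoAway 𝒜 f hf hd).hom
  rwa [Proj.basicOpenIsoAway_hom] at this

open Classical in
/-- the ideals of the homogeneous localizations given by an ideal sheaf on `Proj 𝒜` -/
noncomputable def sysJ (f : A) : Ideal (Away 𝒜 f) :=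
  if h : IsAffineOpen (Proj.basicOpen 𝒜 f) then
    (ℐ.ideal ⟨_, h⟩).comap (Proj.awayToSection 𝒜 f).hom
  else ⊤

theorem sysJ_eq {f : A} {d : ℕ} (hf : f ∈ 𝒜 d) (hd : 0 < d) :
    sysJ ℐ f = (ℐ.ideal ⟨_, Proj.isAffineOpen_basicOpen 𝒜 f hf hd⟩).comap
      (Proj.awayToSection 𝒜 f).hom := by
  unfold sysJ
  rw [dif_pos (Proj.isAffineOpen_basicOpen 𝒜 f hf hd)]

/-- **the ideal system of an ideal sheaf on `Proj 𝒜`** -/
noncomputable def sysOf : IdealSys 𝒜 where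
  J := sysJ ℐ
  compat := by
    intro f g x d e hf hg hd he hx
    have hxd : x ∈ 𝒜 (d + e) := hx ▸ SetLike.mul_mem_graded hf hg
    have hxpos : 0 < d + e := by omega
    rw [sysJ_eq ℐ hf hd, sysJ_eq ℐ hxd hxpos]
    have hle : (⟨_, Proj.isAffineOpen_basicOpen 𝒜 x hxd hxpos⟩ : (Proj 𝒜).affineOpens) ≤
        ⟨_, Proj.isAffineOpen_basicOpen 𝒜 f hf hd⟩ := Proj.basicOpen_mono _ _ _ ⟨_, hx⟩
    rw [← ℐ.map_ideal hle]
    refine comap_map_eq_map_comap' _ (bijective_awayToSection hf hd) _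
      (bijective_awayToSection hxd hxpos) (awayMap 𝒜 hg hx) _ (fun y => ?_) _
    exact (congr($(Proj.awayMap_awayToSection 𝒜 hg hx) y)).symm

theorem sysOf_J (f : A) : (sysOf ℐ).J f = sysJ ℐ f := rfl

end sys

section kerAway

variable {A : Type u} [CommRing A] {σ : Type*} [SetLike σ A] [AddSubgroupClass σ A]
  {𝒜 : ℕ → σ} [GradedRing 𝒜] {B : Type u} [CommRing B] {τ : Type*} [SetLike τ B]
  [AddSubgroupClass τ B] {ℬ : ℕ → τ}
  [GradedRing ℬ] (φ : 𝒜 →+*ᵍ ℬ) (S : IdealSys 𝒜)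
  (hker : ∀ a, φ a = 0 ↔ a ∈ S.ideal)

include hker in
/-- **the kernel of the map of homogeneous localizations induced by the quotient by `I`** -/
theorem ker_awayMap_eq (C : FinCover 𝒜) {f : A} {d : ℕ} (hf : f ∈ 𝒜 d) (hd : 0 < d) :
    RingHom.ker (Away.map φ f) = S.J f := by
  ext w
  obtain ⟨q, x, hx, rfl⟩ := Away.mk_surjective 𝒜 hf w
  rw [RingHom.mem_ker, Away.map_mk]
  have h0 : (0 : Away ℬ (φ f)) = Away.mk ℬ (map_mem φ hf) 0 0 (zero_mem _) :=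
    (mk_zero (map_mem φ hf) 0 (zero_mem _)).symm
  rw [h0, mk_eq_mk_iff]
  constructor
  · rintro ⟨M, hM⟩
    have h1 : φ (f ^ M * x) = 0 := by
      rw [map_mul, map_pow]
      simpa using hM
    exact S.mk_mem_J_of_pow_mul_mem_ideal hf hd hx ((hker _).1 h1)
  · intro h
    obtain ⟨N, hN⟩ := S.exists_pow_mul_mem_ideal C hf hd hx h
    refine ⟨N, ?_⟩
    have h1 := (hker _).2 hN
    rw [map_mul, map_pow] at h1
    simp [h1]

end kerAway

section kerq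

variable {A B : Type u} [CommRing A] [CommRing B] {σ τ : Type u} [SetLike σ A] [AddSubgroupClass σ A]
  [SetLike τ B] [AddSubgroupClass τ B] {𝒜 : ℕ → σ} {ℬ : ℕ → τ} [GradedRing 𝒜] [GradedRing ℬ]
  (ℐ : (Proj 𝒜).IdealSheafData) (φ : 𝒜 →+*ᵍ ℬ) (hφ : ℬ₊ ≤ 𝒜₊.map φ)

theorem ker_projMap_ideal_basicOpen (C : FinCover 𝒜) (hsurj : Function.Surjective φ)
    (hker : ∀ a, φ a = 0 ↔ a ∈ (sysOf ℐ).ideal) {f : A} {d : ℕ} (hf : f ∈ 𝒜 d) (hd : 0 < d) :
    (Proj.map φ hφ).ker.ideal ⟨Proj.basicOpen 𝒜 f, Proj.isAffineOpen_basicOpen 𝒜 f hf hd⟩ =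
      ℐ.ideal ⟨Proj.basicOpen 𝒜 f, Proj.isAffineOpen_basicOpen 𝒜 f hf hd⟩ := by
  haveI : IsClosedImmersion (Proj.map φ hφ) :=
    Groth.Agent.Lib.Helper27RelProj4.map_isClosedImmersion φ hφ hsurj
  rw [Scheme.Hom.ker_apply]
  apply Ideal.comap_injective_of_surjective (Proj.awayToSection 𝒜 f).hom
    (bijective_awayToSection hf hd).2
  have h1 : ((Proj.map φ hφ).app (Proj.basicOpen 𝒜 f)).hom.comp (Proj.awayToSection 𝒜 f).hom =
      (Proj.awayToSection ℬ (φ f)).hom.comp (Away.map φ f) := by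
    have := Proj.awayToSection_comp_appLE φ hφ hf
    have h2 : (Proj.map φ hφ).app (Proj.basicOpen 𝒜 f) =
        Scheme.Hom.appLE (Proj.map φ hφ) (Proj.basicOpen 𝒜 f) (Proj.basicOpen ℬ (φ f)) (by rfl) :=
      Scheme.Hom.app_eq_appLE _
    rw [← h2] at this
    exact congrArg CommRingCat.Hom.hom this
  have e1 : Ideal.comap (Proj.awayToSection 𝒜 f).hom
      (RingHom.ker ((Proj.map φ hφ).app (Proj.basicOpen 𝒜 f)).hom) =
      RingHom.ker (Away.map φ f) := by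
    rw [RingHom.comap_ker, h1]
    ext w
    simp only [RingHom.mem_ker]
    exact map_eq_zero_iff _ (bijective_awayToSection (map_mem φ hf) hd).1
  have e2 := ker_awayMap_eq φ (sysOf ℐ) hker C hf hd
  have e3 := sysJ_eq ℐ hf hd
  rw [sysOf_J] at e2
  exact (e1.trans e2).trans e3

/-- **the closed subscheme `Proj (𝒜 ⧸ I)` of `Proj 𝒜` has ideal sheaf `ℐ`** -/
theorem ker_projMap_eq (C : FinCover 𝒜) (hsurj : Function.Surjective φ)
    (hker : ∀ a, φ a = 0 ↔ a ∈ (sysOf ℐ).ideal) : (Proj.map φ hφ).ker = ℐ := by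
  refine Scheme.IdealSheafData.ext_of_iSup_eq_top
    (fun p : HPos 𝒜 => (⟨Proj.basicOpen 𝒜 p.1.1, Proj.isAffineOpen_basicOpen 𝒜 p.1.1 p.2.1 p.2.2⟩ :
      (Proj 𝒜).affineOpens)) (iSup_basicOpen_hPos 𝒜) (fun p => ?_)
  exact ker_projMap_ideal_basicOpen ℐ φ hφ C hsurj hker p.2.1 p.2.2

end kerq

end Groth.Agent.Lib.T2H4.ProjQuot
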