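import Mathlib
import Groth.Agent.Lib.T2H4ProjQuotG

/-!
# Ideal systems and open immersions `Proj 𝒜' ⟶ Proj 𝒜` (helper4)

* `ker_ideal_eq_map_appLE` : in a pullback square along an open immersion `iV`, the kernel ideal sheaf of the base
  change is generated by the kernel ideal sheaf of the original morphism.
* `sysOf_J_of_isPullback` : the compatibility `hJ` of `T2H4ProjQuotE` for `Proj.map ρ` an open immersion.
-/

set_option autoImplicit false
set_option linter.unusedSectionVars false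
set_option linter.style.haveILetI false
universe u
open HomogeneousLocalization DirectSum Graded CategoryTheory CategoryTheory.Limits AlgebraicGeometry
  TopologicalSpace
open scoped HomogeneousIdeal

namespace Groth.Agent.Lib.T2H4.ProjQuot

theorem ker_ideal_eq_map_appLE {X Y U V : Scheme.{u}} (f : X ⟶ Y) (f' : U ⟶ V) (iU : U ⟶ X)
    (iV : V ⟶ Y) [IsOpenImmersion iV] [QuasiCompact f] (H : IsPullback f' iU iV f)
    (W : Y.affineOpens) (W' : V.affineOpens) (hle : W'.1 ≤ iV ⁻¹ᵁ W.1) :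
    f'.ker.ideal W' = (f.ker.ideal W).map (iV.appLE W.1 W'.1 hle).hom := by
  rw [Scheme.ker_ideal_of_isPullback_of_isOpenImmersion f f' iU iV H W']
  have hle' : (⟨iV ''ᵁ W'.1, W'.2.image_of_isOpenImmersion _⟩ : Y.affineOpens) ≤ W := by
    change iV ''ᵁ W'.1 ≤ W.1
    exact ((iV.image_le_image_iff _ _).2 hle).trans (iV.image_preimage_le W.1)
  rw [← f.ker.map_ideal hle']
  have := comap_map_eq_map_comap' (RingHom.id Γ(Y, W.1)) Function.bijective_id
    (iV.appIso W'.1).inv.hom (ConcreteCategory.bijective_of_isIso (iV.appIso W'.1).inv)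
    (iV.appLE W.1 W'.1 hle).hom (Y.presheaf.map (homOfLE hle').op).hom (fun x => ?_) (f.ker.ideal W)
  · rw [this, Ideal.comap_id]
  · have h1 : iV.appLE W.1 W'.1 hle = Y.presheaf.map (homOfLE hle').op ≫ (iV.appIso W'.1).hom := by
      rw [Scheme.Hom.appIso_hom', Scheme.Hom.map_appLE]
    rw [h1]
    simp

section pb

variable {A A' : Type u} [CommRing A] [CommRing A'] {σ σ' : Type u} [SetLike σ A]
  [AddSubgroupClass σ A] [SetLike σ' A'] [AddSubgroupClass σ' A'] {𝒜 : ℕ → σ} {𝒜' : ℕ → σ'}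
  [GradedRing 𝒜] [GradedRing 𝒜'] (ρ : 𝒜 →+*ᵍ 𝒜') (hρ : 𝒜'₊ ≤ 𝒜₊.map ρ)

/-- **the ideal systems of a closed subscheme and of its restriction to an open `Proj 𝒜' ⊆ Proj 𝒜`** -/
theorem sysOf_J_of_isPullback [IsOpenImmersion (Proj.map ρ hρ)] {Z Z' : Scheme.{u}}
    (k : Z ⟶ Proj 𝒜) [QuasiCompact k] (k' : Z' ⟶ Proj 𝒜') (j : Z' ⟶ Z)
    (H : IsPullback k' j (Proj.map ρ hρ) k) {f : A} {d : ℕ} (hf : f ∈ 𝒜 d) (hd : 0 < d) :
    (sysOf k'.ker).J (ρ f) = ((sysOf k.ker).J f).map (Away.map ρ f) := by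
  rw [sysOf_J, sysOf_J, sysJ_eq _ hf hd, sysJ_eq _ (map_mem ρ hf) hd,
    ker_ideal_eq_map_appLE k k' j (Proj.map ρ hρ) H
      ⟨Proj.basicOpen 𝒜 f, Proj.isAffineOpen_basicOpen 𝒜 f hf hd⟩
      ⟨Proj.basicOpen 𝒜' (ρ f), Proj.isAffineOpen_basicOpen 𝒜' (ρ f) (map_mem ρ hf) hd⟩
      (le_of_eq rfl)]
  refine comap_map_eq_map_comap' _ (bijective_awayToSection hf hd) _
    (bijective_awayToSection (map_mem ρ hf) hd) (Away.map ρ f) _ (fun y => ?_) _
  exact congr($(Proj.awayToSection_comp_appLE ρ hρ hf) y)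

end pb

end Groth.Agent.Lib.T2H4.ProjQuot
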