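import Mathlib
import Groth.Prelude.Def_RelProj
import Groth.Agent.Lib.T2H4ProjQuotH

/-!
# The graded ideal of a closed subscheme of a relative `Proj` (helper4)

For `p : P ⟶ S` a relative `Proj` of `𝒜` (with charts) and `i : Z ⟶ P` a closed immersion:
`kU` : the closed immersion `Z_U ⟶ Proj 𝒜(U)`; `sys` its ideal system; `idl` the homogeneous ideal of `𝒜(U)`;
`res_mem_idl`, `exists_pow_mul_mem_idl` : compatibility with restriction to basic opens.
-/

set_option autoImplicit false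
set_option linter.unusedSectionVars false
set_option linter.style.haveILetI false
universe u
open HomogeneousLocalization DirectSum Graded CategoryTheory CategoryTheory.Limits AlgebraicGeometry
  TopologicalSpace Opposite
open scoped HomogeneousIdeal

namespace Groth.Agent.Lib.T2H4.ProjQuot

section rel

variable {S P Z : Scheme.{u}} (𝒜 : RelProj.QCGrAlg S) (p : P ⟶ S)
  (chart : ∀ (U : S.Opens) (hU : IsAffineOpen U),
    (((p ⁻¹ᵁ U : P.Opens) : Scheme.{u}) ≅ Proj (𝒜.deg U hU)))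
  (i : Z ⟶ P)

/-- the closed immersion `Z_U ⟶ Proj 𝒜(U)` -/
noncomputable def kU (U : S.Opens) (hU : IsAffineOpen U) :
    ((i ⁻¹ᵁ (p ⁻¹ᵁ U) : Z.Opens) : Scheme.{u}) ⟶ Proj (𝒜.deg U hU) :=
  (i ∣_ (p ⁻¹ᵁ U)) ≫ (chart U hU).hom

instance isClosedImmersion_kU [IsClosedImmersion i] (U : S.Opens) (hU : IsAffineOpen U) :
    IsClosedImmersion (kU 𝒜 p chart i U hU) := by
  unfold kU; infer_instance

/-- the ideal system of `Z_U ⊆ Proj 𝒜(U)` -/
noncomputable def sys (U : S.Opens) (hU : IsAffineOpen U) : IdealSys (𝒜.deg U hU) :=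
  sysOf (kU 𝒜 p chart i U hU).ker

/-- the homogeneous ideal of `Z` over `U` -/
noncomputable def idl (U : S.Opens) (hU : IsAffineOpen U) : Ideal (𝒜.presheaf.obj (op U)) :=
  (sys 𝒜 p chart i U hU).ideal

theorem idl_isHomogeneous (U : S.Opens) (hU : IsAffineOpen U) :
    (idl 𝒜 p chart i U hU).IsHomogeneous (𝒜.deg U hU) :=
  (sys 𝒜 p chart i U hU).ideal_isHomogeneous

include chart in
theorem compactSpace_proj [QuasiCompact p] (U : S.Opens) (hU : IsAffineOpen U) :
    CompactSpace (Proj (𝒜.deg U hU)) := by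
  have h1 : IsCompact ((p ⁻¹ᵁ U : P.Opens) : Set P) := p.isCompact_preimage hU.isCompact
  haveI : CompactSpace ((p ⁻¹ᵁ U : P.Opens) : Scheme.{u}) := isCompact_iff_compactSpace.mp h1
  exact (Scheme.homeoOfIso (chart U hU)).compactSpace

include chart in
theorem nonempty_finCover_deg [QuasiCompact p] (U : S.Opens) (hU : IsAffineOpen U) :
    Nonempty (FinCover (𝒜.deg U hU)) := by
  haveI := compactSpace_proj 𝒜 p chart U hU
  exact nonempty_finCover (𝒜.deg U hU)

variable (hP : RelProj.IsRelProj 𝒜 p chart)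

include hP in
theorem isOpenImmersion_projMap_res (U : S.Opens) (hU : IsAffineOpen U) (r : Γ(S, U)) :
    IsOpenImmersion (Proj.map (𝒜.res hU (hU.basicOpen r) (S.basicOpen_le r))
      (𝒜.irrelevant_le_map U hU r)) := by
  have h := hP.chart_res U hU r
  have h2 : Proj.map (𝒜.res hU (hU.basicOpen r) (S.basicOpen_le r)) (𝒜.irrelevant_le_map U hU r) =
      (chart (S.basicOpen r) (hU.basicOpen r)).inv ≫
        P.homOfLE (p.preimage_mono (S.basicOpen_le r)) ≫ (chart U hU).hom := by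
    rw [h, Iso.inv_hom_id_assoc]
  rw [h2]
  infer_instance

theorem isPullback_restrict {V' U' : P.Opens} (hle : V' ≤ U') :
    IsPullback (i ∣_ V') (Z.homOfLE (i.preimage_mono hle)) (P.homOfLE hle) (i ∣_ U') := by
  have t' : IsPullback (i ⁻¹ᵁ U').ι (i ∣_ U') i U'.ι := (isPullback_morphismRestrict i U').flip
  have t : IsPullback (Z.homOfLE (i.preimage_mono hle) ≫ (i ⁻¹ᵁ U').ι) (i ∣_ V') i
      (P.homOfLE hle ≫ U'.ι) := by
    rw [Scheme.homOfLE_ι, Scheme.homOfLE_ι]
    exact (isPullback_morphismRestrict i V').flip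
  refine (IsPullback.of_right t ?_ t').flip
  rw [← cancel_mono U'.ι, Category.assoc, Category.assoc, Scheme.homOfLE_ι, morphismRestrict_ι,
    morphismRestrict_ι, Scheme.homOfLE_ι_assoc]

include hP in
theorem isPullback_kU (U : S.Opens) (hU : IsAffineOpen U) (r : Γ(S, U)) :
    IsPullback (kU 𝒜 p chart i (S.basicOpen r) (hU.basicOpen r))
      (Z.homOfLE (i.preimage_mono (p.preimage_mono (S.basicOpen_le r))))
      (Proj.map (𝒜.res hU (hU.basicOpen r) (S.basicOpen_le r)) (𝒜.irrelevant_le_map U hU r))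
      (kU 𝒜 p chart i U hU) := by
  unfold kU
  refine (isPullback_restrict i (p.preimage_mono (S.basicOpen_le r))).paste_horiz ?_
  exact IsPullback.of_horiz_isIso ⟨(hP.chart_res U hU r).symm⟩

include hP in
theorem sys_J_res [IsClosedImmersion i] (U : S.Opens) (hU : IsAffineOpen U) (r : Γ(S, U))
    {f : 𝒜.presheaf.obj (op U)} {d : ℕ} (hf : f ∈ 𝒜.deg U hU d) (hd : 0 < d) :
    (sys 𝒜 p chart i (S.basicOpen r) (hU.basicOpen r)).J
        (𝒜.res hU (hU.basicOpen r) (S.basicOpen_le r) f) =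
      ((sys 𝒜 p chart i U hU).J f).map
        (Away.map (𝒜.res hU (hU.basicOpen r) (S.basicOpen_le r)) f) := by
  haveI := isOpenImmersion_projMap_res 𝒜 p chart hP U hU r
  exact sysOf_J_of_isPullback _ (𝒜.irrelevant_le_map U hU r) _ _ _
    (isPullback_kU 𝒜 p chart i hP U hU r) hf hd

include hP in
theorem res_mem_idl [IsClosedImmersion i] (U : S.Opens) (hU : IsAffineOpen U) (r : Γ(S, U))
    {a : 𝒜.presheaf.obj (op U)} (ha : a ∈ idl 𝒜 p chart i U hU) :
    (𝒜.presheaf.map (homOfLE (S.basicOpen_le r)).op).hom a ∈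
      idl 𝒜 p chart i (S.basicOpen r) (hU.basicOpen r) := by
  letI := (𝒜.presheaf.map (homOfLE (S.basicOpen_le r)).op).hom.toAlgebra
  haveI : IsLocalization.Away ((𝒜.str.app (op U)).hom r)
    (𝒜.presheaf.obj (op (S.basicOpen r))) := 𝒜.isQC U hU r
  exact map_mem_ideal (𝒜.res hU (hU.basicOpen r) (S.basicOpen_le r)) _ _
    (fun hf hd => sys_J_res 𝒜 p chart i hP U hU r hf hd) (fun _ => rfl)
    ((𝒜.str.app (op U)).hom r) (𝒜.str_mem U hU r) ha

include hP in
theorem exists_pow_mul_mem_idl [IsClosedImmersion i] [QuasiCompact p] (U : S.Opens)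
    (hU : IsAffineOpen U) (r : Γ(S, U)) {a : 𝒜.presheaf.obj (op U)}
    (ha : (𝒜.presheaf.map (homOfLE (S.basicOpen_le r)).op).hom a ∈
      idl 𝒜 p chart i (S.basicOpen r) (hU.basicOpen r)) :
    ∃ M : ℕ, (𝒜.str.app (op U)).hom r ^ M * a ∈ idl 𝒜 p chart i U hU := by
  letI := (𝒜.presheaf.map (homOfLE (S.basicOpen_le r)).op).hom.toAlgebra
  haveI : IsLocalization.Away ((𝒜.str.app (op U)).hom r)
    (𝒜.presheaf.obj (op (S.basicOpen r))) := 𝒜.isQC U hU r
  obtain ⟨C⟩ := nonempty_finCover_deg 𝒜 p chart U hU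
  exact exists_pow_mul_mem_ideal_of_map_mem (𝒜.res hU (hU.basicOpen r) (S.basicOpen_le r)) _ _
    (fun hf hd => sys_J_res 𝒜 p chart i hP U hU r hf hd) (fun _ => rfl)
    ((𝒜.str.app (op U)).hom r) C ha

end rel

end Groth.Agent.Lib.T2H4.ProjQuot
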