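import Mathlib
import Groth.Agent.Lib.T2H4ProjQuotI
import Groth.Agent.Lib.T2H6QCGrOfAffine

/-!
# The graded quotient algebra `𝒜 / I_Z` of a closed subscheme `Z` of a relative `Proj` (helper4)

`F` : the presheaf `U ↦ 𝒜(U) ⧸ I_Z(U)` on the affine site, `α` its structure map, `coequifibered`;
`gr` the quotient gradings; `quotAlg` the resulting `RelProj.QCGrAlg`.
-/

set_option autoImplicit false
set_option linter.unusedSectionVars false
set_option linter.style.haveILetI false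
universe u
open HomogeneousLocalization DirectSum Graded CategoryTheory CategoryTheory.Limits AlgebraicGeometry
  TopologicalSpace Opposite Scheme.AffineZariskiSite
open scoped HomogeneousIdeal

namespace Groth.Agent.Lib.T2H4.ProjQuot

noncomputable section

variable {S P Z : Scheme.{u}} (𝒜 : RelProj.QCGrAlg S) (p : P ⟶ S)
  (chart : ∀ (U : S.Opens) (hU : IsAffineOpen U),
    (((p ⁻¹ᵁ U : P.Opens) : Scheme.{u}) ≅ Proj (𝒜.deg U hU)))
  (hP : RelProj.IsRelProj 𝒜 p chart) (i : Z ⟶ P) [IsClosedImmersion i]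

/-- restriction of sections of `𝒜` -/
abbrev resA {U V : S.Opens} (h : V ≤ U) : 𝒜.presheaf.obj (op U) →+* 𝒜.presheaf.obj (op V) :=
  (𝒜.presheaf.map (homOfLE h).op).hom

include hP in
theorem res_mem_idl_site {U V : S.AffineZariskiSite} (h : V ≤ U) {a : 𝒜.presheaf.obj (op U.1)}
    (ha : a ∈ idl 𝒜 p chart i U.1 U.2) :
    resA 𝒜 (toOpens_mono h) a ∈ idl 𝒜 p chart i V.1 V.2 := by
  obtain ⟨r, hr⟩ := h
  obtain rfl : U.basicOpen r = V := Subtype.ext hr
  exact res_mem_idl 𝒜 p chart i hP U.1 U.2 r ha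

/-- the quotient ring over `U` -/
abbrev Q (U : S.AffineZariskiSite) : Type u := 𝒜.presheaf.obj (op U.1) ⧸ idl 𝒜 p chart i U.1 U.2

/-- the transition maps -/
def qmap {U V : S.AffineZariskiSite} (h : V ≤ U) : Q 𝒜 p chart i U →+* Q 𝒜 p chart i V :=
  Ideal.quotientMap (idl 𝒜 p chart i V.1 V.2) (resA 𝒜 (toOpens_mono h))
    (fun _ ha => res_mem_idl_site 𝒜 p chart hP i h ha)

@[simp] theorem qmap_mk {U V : S.AffineZariskiSite} (h : V ≤ U) (a : 𝒜.presheaf.obj (op U.1)) :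
    qmap 𝒜 p chart hP i h (Ideal.Quotient.mk _ a) =
      Ideal.Quotient.mk _ (resA 𝒜 (toOpens_mono h) a) :=
  Ideal.quotientMap_mk

theorem qmap_id (U : S.AffineZariskiSite) (x : Q 𝒜 p chart i U) :
    qmap 𝒜 p chart hP i (le_refl U) x = x := by
  obtain ⟨a, rfl⟩ := Ideal.Quotient.mk_surjective x
  rw [qmap_mk]
  congr 1
  change (𝒜.presheaf.map (𝟙 _)).hom a = a
  rw [𝒜.presheaf.map_id]; rfl

theorem qmap_comp {U V W : S.AffineZariskiSite} (h : V ≤ U) (h' : W ≤ V) (x : Q 𝒜 p chart i U) :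
    qmap 𝒜 p chart hP i h' (qmap 𝒜 p chart hP i h x) = qmap 𝒜 p chart hP i (h'.trans h) x := by
  obtain ⟨a, rfl⟩ := Ideal.Quotient.mk_surjective x
  rw [qmap_mk, qmap_mk, qmap_mk]
  congr 1
  change (𝒜.presheaf.map _).hom ((𝒜.presheaf.map _).hom a) = (𝒜.presheaf.map _).hom a
  rw [← CommRingCat.comp_apply, ← Functor.map_comp]
  rfl

/-- the presheaf of rings `U ↦ 𝒜(U) ⧸ I_Z(U)` on the affine site -/
abbrev F : S.AffineZariskiSiteᵒᵖ ⥤ CommRingCat.{u} where
  obj U := CommRingCat.of (Q 𝒜 p chart i U.unop)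
  map {U V} j := CommRingCat.ofHom (qmap 𝒜 p chart hP i j.unop.le)
  map_id U := by
    refine CommRingCat.hom_ext (RingHom.ext fun x => ?_)
    exact qmap_id 𝒜 p chart hP i _ x
  map_comp {U V W} j k := by
    refine CommRingCat.hom_ext (RingHom.ext fun x => ?_)
    exact (qmap_comp 𝒜 p chart hP i j.unop.le k.unop.le x).symm

/-- the structure map on the affine site -/
def α : (toOpensFunctor S).op ⋙ S.presheaf ⟶ F 𝒜 p chart hP i where
  app U := CommRingCat.ofHom ((Ideal.Quotient.mk (idl 𝒜 p chart i U.unop.1 U.unop.2)).comp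
    (𝒜.str.app (op U.unop.1)).hom)
  naturality {U V} j := by
    refine CommRingCat.hom_ext (RingHom.ext fun r => ?_)
    change Ideal.Quotient.mk _ ((𝒜.str.app (op V.unop.1)).hom
        ((S.presheaf.map (homOfLE (toOpens_mono j.unop.le)).op).hom r)) =
      qmap 𝒜 p chart hP i j.unop.le (Ideal.Quotient.mk _ ((𝒜.str.app (op U.unop.1)).hom r))
    rw [qmap_mk]
    congr 1
    exact congr($(𝒜.str.naturality (homOfLE (toOpens_mono j.unop.le)).op).hom r)

theorem α_apply (U : S.AffineZariskiSite) (r : Γ(S, U.1)) :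
    ((α 𝒜 p chart hP i).app (op U)).hom r =
      Ideal.Quotient.mk (idl 𝒜 p chart i U.1 U.2) ((𝒜.str.app (op U.1)).hom r) := rfl

theorem coequifibered [QuasiCompact p] : (α 𝒜 p chart hP i).Coequifibered := by
  rw [coequifibered_iff_forall_isLocalizationAway]
  intro U r
  letI : Algebra (𝒜.presheaf.obj (op U.1)) (𝒜.presheaf.obj (op (S.basicOpen r))) :=
    (𝒜.presheaf.map (homOfLE (S.basicOpen_le r)).op).hom.toAlgebra
  haveI : IsLocalization.Away ((𝒜.str.app (op U.1)).hom r)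
    (𝒜.presheaf.obj (op (S.basicOpen r))) := 𝒜.isQC U.1 U.2 r
  have h1 : ∀ a ∈ idl 𝒜 p chart i U.1 U.2,
      algebraMap (𝒜.presheaf.obj (op U.1)) (𝒜.presheaf.obj (op (S.basicOpen r))) a ∈
        idl 𝒜 p chart i (S.basicOpen r) (U.2.basicOpen r) :=
    fun a ha => res_mem_idl 𝒜 p chart i hP U.1 U.2 r ha
  have h2 : ∀ a, algebraMap (𝒜.presheaf.obj (op U.1)) (𝒜.presheaf.obj (op (S.basicOpen r))) a ∈
        idl 𝒜 p chart i (S.basicOpen r) (U.2.basicOpen r) →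
      ∃ M : ℕ, (𝒜.str.app (op U.1)).hom r ^ M * a ∈ idl 𝒜 p chart i U.1 U.2 :=
    fun a ha => exists_pow_mul_mem_idl 𝒜 p chart i hP U.1 U.2 r ha
  have key := isLocalization_quotient ((𝒜.str.app (op U.1)).hom r) (idl 𝒜 p chart i U.1 U.2)
    (idl 𝒜 p chart i (S.basicOpen r) (U.2.basicOpen r)) h1 h2
    (qmap 𝒜 p chart hP i (U := U) (V := U.basicOpen r) (U.basicOpen_le r))
    (fun a => qmap_mk 𝒜 p chart hP i (U := U) (V := U.basicOpen r) (U.basicOpen_le r) a)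
  exact key

/-- the grading of the quotient -/
abbrev gr (U : S.AffineZariskiSite) : ℕ → AddSubgroup (Q 𝒜 p chart i U) :=
  qgr (𝒜.deg U.1 U.2) (idl 𝒜 p chart i U.1 U.2)

instance gradedRing_gr (U : S.AffineZariskiSite) : GradedRing (gr 𝒜 p chart i U) :=
  gradedRingQuot (𝒜.deg U.1 U.2) (idl 𝒜 p chart i U.1 U.2) (idl_isHomogeneous 𝒜 p chart i U.1 U.2)

theorem hmap {U V : S.AffineZariskiSite} (j : V ⟶ U) {d : ℕ} {x : (F 𝒜 p chart hP i).obj (op U)}
    (hx : x ∈ gr 𝒜 p chart i U d) : ((F 𝒜 p chart hP i).map j.op).hom x ∈ gr 𝒜 p chart i V d := by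
  obtain ⟨a, ha, rfl⟩ := hx
  refine ⟨resA 𝒜 (toOpens_mono j.le) a, 𝒜.map_mem U.2 V.2 (toOpens_mono j.le) ha, ?_⟩
  exact (qmap_mk 𝒜 p chart hP i j.le a).symm

theorem hstr (U : S.AffineZariskiSite) (r : Γ(S, U.1)) :
    ((α 𝒜 p chart hP i).app (op U)).hom r ∈ gr 𝒜 p chart i U 0 :=
  ⟨(𝒜.str.app (op U.1)).hom r, 𝒜.str_mem U.1 U.2 r, rfl⟩

/-- **the quasi-coherent graded quotient algebra `𝒜 / I_Z`** -/
def quotAlg [QuasiCompact p] : RelProj.QCGrAlg S :=
  Groth.Agent.Lib.T2H6.QCGrOfAffine.qcGrAlg (σ := fun U => AddSubgroup (Q 𝒜 p chart i U))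
    (coequifibered 𝒜 p chart hP i) (gr 𝒜 p chart i)
    (fun j _ _ hx => hmap 𝒜 p chart hP i j hx) (hstr 𝒜 p chart hP i)

end

end Groth.Agent.Lib.T2H4.ProjQuot
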