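import Mathlib
import Groth.Agent.Lib.T2H4ProjQuotJ
import Groth.Agent.Lib.Helper27RelProj4
import Groth.Agent.Lib.Helper13RelProjA

/-!
# The closed subscheme `Z` of a relative `Proj` is the relative `Proj` of the graded quotient (helper4)

`eU` : the charts `Z_U ≅ Proj (𝒜(U) ⧸ I_Z(U))`; `isRelProj_quotAlg` : `Z ⟶ P ⟶ S` with these charts is the
relative `Proj` of `quotAlg`.
-/

set_option autoImplicit false
set_option linter.unusedSectionVars false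
set_option linter.style.haveILetI false
universe u
open HomogeneousLocalization DirectSum Graded CategoryTheory CategoryTheory.Limits AlgebraicGeometry
  TopologicalSpace Opposite Scheme.AffineZariskiSite
open scoped HomogeneousIdeal

namespace Groth.Agent.Lib.T2H4.ProjQuot

noncomputable section

variable {S P Z : Scheme.{u}} (𝒜 : RelProj.QCGrAlg S) (p : P ⟶ S)
  (chart : ∀ (U : S.Opens) (hU : IsAffineOpen U),
    (((p ⁻¹ᵁ U : P.Opens) : Scheme.{u}) ≅ Proj (𝒜.deg U hU)))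
  (hP : RelProj.IsRelProj 𝒜 p chart) (i : Z ⟶ P) [IsClosedImmersion i]

/-- the quotient map `𝒜(U) → 𝒜(U) ⧸ I_Z(U)` as a graded ring homomorphism -/
def πU (U : S.AffineZariskiSite) : 𝒜.deg U.1 U.2 →+*ᵍ gr 𝒜 p chart i U :=
  quotHom (𝒜.deg U.1 U.2) (idl 𝒜 p chart i U.1 U.2)

theorem πU_apply (U : S.AffineZariskiSite) (a : 𝒜.presheaf.obj (op U.1)) :
    πU 𝒜 p chart i U a = Ideal.Quotient.mk (idl 𝒜 p chart i U.1 U.2) a := rfl

theorem πU_surjective (U : S.AffineZariskiSite) : Function.Surjective (πU 𝒜 p chart i U) :=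
  quotHom_surjective _ _

theorem irr_πU (U : S.AffineZariskiSite) :
    (gr 𝒜 p chart i U)₊ ≤ ((𝒜.deg U.1 U.2)₊).map (πU 𝒜 p chart i U) := by
  rw [HomogeneousIdeal.irrelevant_le]
  rintro n hn _ ⟨a, ha, rfl⟩
  exact Ideal.mem_map_of_mem _ (HomogeneousIdeal.mem_irrelevant_of_mem _ hn ha)

/-- the closed immersion `Proj (𝒜(U) ⧸ I_Z(U)) ⟶ Proj 𝒜(U)` -/
def qU (U : S.AffineZariskiSite) : Proj (gr 𝒜 p chart i U) ⟶ Proj (𝒜.deg U.1 U.2) :=
  Proj.map (πU 𝒜 p chart i U) (irr_πU 𝒜 p chart i U)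

instance isClosedImmersion_qU (U : S.AffineZariskiSite) : IsClosedImmersion (qU 𝒜 p chart i U) :=
  Groth.Agent.Lib.Helper27RelProj4.map_isClosedImmersion _ _ (πU_surjective 𝒜 p chart i U)

theorem ker_qU [QuasiCompact p] (U : S.AffineZariskiSite) :
    (qU 𝒜 p chart i U).ker = (kU 𝒜 p chart i U.1 U.2).ker := by
  obtain ⟨C⟩ := nonempty_finCover_deg 𝒜 p chart U.1 U.2
  exact ker_projMap_eq _ (πU 𝒜 p chart i U) (irr_πU 𝒜 p chart i U) C (πU_surjective 𝒜 p chart i U)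
    (fun a => quotHom_eq_zero_iff _ _ a)

/-- the charts of `Z` -/
def eU [QuasiCompact p] (U : S.AffineZariskiSite) :
    ((i ⁻¹ᵁ (p ⁻¹ᵁ U.1) : Z.Opens) : Scheme.{u}) ≅ Proj (gr 𝒜 p chart i U) :=
  haveI := IsClosedImmersion.isIso_lift (qU 𝒜 p chart i U) (kU 𝒜 p chart i U.1 U.2)
    (ker_qU 𝒜 p chart i U)
  asIso (IsClosedImmersion.lift (qU 𝒜 p chart i U) (kU 𝒜 p chart i U.1 U.2)
    (ker_qU 𝒜 p chart i U).le)

@[reassoc]
theorem eU_hom_qU [QuasiCompact p] (U : S.AffineZariskiSite) :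
    (eU 𝒜 p chart i U).hom ≫ qU 𝒜 p chart i U = kU 𝒜 p chart i U.1 U.2 :=
  IsClosedImmersion.lift_fac _ _ _

open Groth.Agent.Lib.T2H6.QCGrOfAffine in
theorem strZ_eq (U : S.AffineZariskiSite) :
    strZ (gr 𝒜 p chart i) (hstr 𝒜 p chart hP i) U =
      𝒜.strZero U.1 U.2 ≫ CommRingCat.ofHom (πU 𝒜 p chart i U).gradedZeroRingHom := by
  ext r
  rfl

/-- the charts of `Z` over `S`, as charts of `i ≫ p` -/
def cU [QuasiCompact p] (U : S.AffineZariskiSite) :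
    ((((i ≫ p) ⁻¹ᵁ U.1 : Z.Opens) : Scheme.{u})) ≅ Proj (gr 𝒜 p chart i U) :=
  eU 𝒜 p chart i U

open Groth.Agent.Lib.T2H6.QCGrOfAffine in
include hP in
theorem hover [QuasiCompact p] (U : S.AffineZariskiSite) :
    (cU 𝒜 p chart i U).hom ≫ Proj.toSpecZero (gr 𝒜 p chart i U) ≫
        Spec.map (strZ (gr 𝒜 p chart i) (hstr 𝒜 p chart hP i) U) ≫ U.2.fromSpec =
      ((i ≫ p) ⁻¹ᵁ U.1).ι ≫ i ≫ p := by
  rw [strZ_eq, Spec.map_comp]
  have h1 := Groth.Agent.Helper13RelProj.map_toSpecZero (πU 𝒜 p chart i U) (irr_πU 𝒜 p chart i U)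
  change (eU 𝒜 p chart i U).hom ≫ _ = _
  rw [Category.assoc, ← reassoc_of% h1]
  change (eU 𝒜 p chart i U).hom ≫ qU 𝒜 p chart i U ≫ _ = _
  rw [eU_hom_qU_assoc]
  unfold kU
  rw [Category.assoc, hP.chart_over U.1 U.2, morphismRestrict_ι_assoc]
  rfl

open Groth.Agent.Lib.T2H6.QCGrOfAffine in
include hP in
theorem hres [QuasiCompact p] (U : S.AffineZariskiSite) (r : Γ(S, U.1)) :
    Z.homOfLE ((i ≫ p).preimage_mono (S.basicOpen_le r)) ≫ (cU 𝒜 p chart i U).hom =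
      (cU 𝒜 p chart i (U.basicOpen r)).hom ≫
        Proj.map (Fres (gr 𝒜 p chart i) (fun j _ _ hx => hmap 𝒜 p chart hP i j hx)
          (homOfLE (U.basicOpen_le r)))
          (hirr (coequifibered 𝒜 p chart hP i) (gr 𝒜 p chart i)
            (fun j _ _ hx => hmap 𝒜 p chart hP i j hx) (hstr 𝒜 p chart hP i) _) := by
  rw [← cancel_mono (qU 𝒜 p chart i U)]
  change (Z.homOfLE (i.preimage_mono (p.preimage_mono (S.basicOpen_le r))) ≫
    (eU 𝒜 p chart i U).hom) ≫ _ = ((eU 𝒜 p chart i (U.basicOpen r)).hom ≫ _) ≫ _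
  rw [Category.assoc, eU_hom_qU, (isPullback_kU 𝒜 p chart i hP U.1 U.2 r).w.symm, Category.assoc]
  unfold qU
  rw [← Proj.map_comp]
  have h2 : Proj.map ((Fres (gr 𝒜 p chart i) (fun j _ _ hx => hmap 𝒜 p chart hP i j hx)
      (homOfLE (U.basicOpen_le r))).comp (πU 𝒜 p chart i U))
      (HomogeneousIdeal.irrelevant_le_map_comp (irr_πU 𝒜 p chart i U)
        (hirr (coequifibered 𝒜 p chart hP i) (gr 𝒜 p chart i)
          (fun j _ _ hx => hmap 𝒜 p chart hP i j hx) (hstr 𝒜 p chart hP i) _)) =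
      Proj.map ((πU 𝒜 p chart i (U.basicOpen r)).comp
        (𝒜.res U.2 (U.2.basicOpen r) (S.basicOpen_le r)))
        (HomogeneousIdeal.irrelevant_le_map_comp (𝒜.irrelevant_le_map U.1 U.2 r)
          (irr_πU 𝒜 p chart i (U.basicOpen r))) := by
    apply projMap_congr
    ext a
    exact qmap_mk 𝒜 p chart hP i (U := U) (V := U.basicOpen r) (U.basicOpen_le r) a
  rw [h2]
  have h3 := Proj.map_comp (𝒜.res U.2 (U.2.basicOpen r) (S.basicOpen_le r))
    (πU 𝒜 p chart i (U.basicOpen r)) (𝒜.irrelevant_le_map U.1 U.2 r)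
    (irr_πU 𝒜 p chart i (U.basicOpen r))
  refine Eq.trans ?_ (congrArg (fun z => (eU 𝒜 p chart i (U.basicOpen r)).hom ≫ z) h3.symm)
  change _ = (eU 𝒜 p chart i (U.basicOpen r)).hom ≫ qU 𝒜 p chart i (U.basicOpen r) ≫ _
  rw [eU_hom_qU_assoc]
  rfl

open Groth.Agent.Lib.T2H6.QCGrOfAffine in
/-- **`Z ⟶ S` is the relative `Proj` of the graded quotient `𝒜 / I_Z`** -/
theorem isRelProj_quotAlg [QuasiCompact p] :
    RelProj.IsRelProj (quotAlg 𝒜 p chart hP i) (i ≫ p)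
      (fun U hU => cU 𝒜 p chart i (Groth.Agent.Helper13QCAlgOfAffine.aff U hU) ≪≫
        projIso (coequifibered 𝒜 p chart hP i) (gr 𝒜 p chart i)
          (fun j _ _ hx => hmap 𝒜 p chart hP i j hx) (hstr 𝒜 p chart hP i) U hU) :=
  isRelProj_of_charts (coequifibered 𝒜 p chart hP i) (gr 𝒜 p chart i)
    (fun j _ _ hx => hmap 𝒜 p chart hP i j hx) (hstr 𝒜 p chart hP i) (i ≫ p)
    (cU 𝒜 p chart i) (fun U => hover 𝒜 p chart hP i U) (fun U r => hres 𝒜 p chart hP i U r)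

end

end Groth.Agent.Lib.T2H4.ProjQuot
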