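import Mathlib
import Groth.Agent.Lib.T2H4ProjQuotK
import Groth.Agent.Lib.T2H4ProjQMapDiag
import Groth.Agent.Lib.Helper13SymAlg

/-!
# The quotient homomorphism `𝒜 ⟶ 𝒜 / I_Z` and the closed immersion `Z ⟶ P` as `Proj` of it (helper4)
-/

set_option autoImplicit false
set_option linter.unusedSectionVars false
set_option linter.style.haveILetI false
universe u
open HomogeneousLocalization DirectSum Graded CategoryTheory CategoryTheory.Limits AlgebraicGeometry
  TopologicalSpace Opposite Scheme.AffineZariskiSite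
open scoped HomogeneousIdeal

namespace Groth.Agent.Lib.T2H4.ProjQuot

open Groth.Agent.Helper13QCAlgOfAffine Groth.Agent.Lib.T2H6.QCGrOfAffine

noncomputable section

variable {S P Z : Scheme.{u}} (𝒜 : RelProj.QCGrAlg S) (p : P ⟶ S)
  (chart : ∀ (U : S.Opens) (hU : IsAffineOpen U),
    (((p ⁻¹ᵁ U : P.Opens) : Scheme.{u}) ≅ Proj (𝒜.deg U hU)))
  (hP : RelProj.IsRelProj 𝒜 p chart) (i : Z ⟶ P) [IsClosedImmersion i] [QuasiCompact p]

/-- the quotient map over an affine open, into the sections of `quotAlg` -/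
def φAff (U : S.Opens) (hU : IsAffineOpen U) :
    𝒜.presheaf.obj (op U) ⟶
      Γ(spec (coequifibered 𝒜 p chart hP i), π (coequifibered 𝒜 p chart hP i) ⁻¹ᵁ U) :=
  CommRingCat.ofHom (Ideal.Quotient.mk (idl 𝒜 p chart i U hU)) ≫
    inv (gammaAff (coequifibered 𝒜 p chart hP i) U hU)

theorem φAff_gammaAff (U : S.Opens) (hU : IsAffineOpen U) (a : 𝒜.presheaf.obj (op U)) :
    (gammaAff (coequifibered 𝒜 p chart hP i) U hU).hom ((φAff 𝒜 p chart hP i U hU).hom a) =
      Ideal.Quotient.mk (idl 𝒜 p chart i U hU) a := by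
  unfold φAff
  rw [CommRingCat.comp_apply, ← CommRingCat.comp_apply (inv _), IsIso.inv_hom_id]
  rfl

theorem gammaAff_injective (U : S.Opens) (hU : IsAffineOpen U) :
    Function.Injective (gammaAff (coequifibered 𝒜 p chart hP i) U hU).hom :=
  (ConcreteCategory.bijective_of_isIso (gammaAff (coequifibered 𝒜 p chart hP i) U hU)).1

theorem φAff_nat {U V : S.AffineZariskiSite} (j : V ⟶ U) :
    𝒜.presheaf.map (homOfLE (toOpens_mono j.le)).op ≫ φAff 𝒜 p chart hP i V.1 V.2 =
      φAff 𝒜 p chart hP i U.1 U.2 ≫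
        (quotAlg 𝒜 p chart hP i).presheaf.map (homOfLE (toOpens_mono j.le)).op := by
  refine CommRingCat.hom_ext (RingHom.ext fun a => gammaAff_injective 𝒜 p chart hP i V.1 V.2 ?_)
  have h := congr($(gammaAff_naturality (coequifibered 𝒜 p chart hP i) j).hom
    ((φAff 𝒜 p chart hP i U.1 U.2).hom a))
  simp only [CommRingCat.hom_comp, RingHom.coe_comp, Function.comp_apply] at h
  change (gammaAff (coequifibered 𝒜 p chart hP i) V.1 V.2).hom
      ((φAff 𝒜 p chart hP i V.1 V.2).hom ((𝒜.presheaf.map (homOfLE (toOpens_mono j.le)).op).hom a)) =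
    (gammaAff (coequifibered 𝒜 p chart hP i) V.1 V.2).hom
      (((spec (coequifibered 𝒜 p chart hP i)).presheaf.map (homOfLE
        ((π (coequifibered 𝒜 p chart hP i)).preimage_mono (toOpens_mono j.le))).op).hom
          ((φAff 𝒜 p chart hP i U.1 U.2).hom a))
  rw [h, φAff_gammaAff, φAff_gammaAff]
  exact (qmap_mk 𝒜 p chart hP i j.le a).symm

/-- the quotient map as a map of presheaves -/
def φHom : 𝒜.presheaf ⟶ (quotAlg 𝒜 p chart hP i).presheaf :=
  Groth.Agent.Helper13SymAlg.extendSite (quotAlg 𝒜 p chart hP i).toQCAlg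
    (φAff 𝒜 p chart hP i) (fun j => φAff_nat 𝒜 p chart hP i j)

theorem φHom_app (U : S.Opens) (hU : IsAffineOpen U) :
    (φHom 𝒜 p chart hP i).app (op U) = φAff 𝒜 p chart hP i U hU :=
  Groth.Agent.Helper13SymAlg.extendSite_app _ _ _ U hU

theorem φHom_comm : 𝒜.str ≫ φHom 𝒜 p chart hP i = (quotAlg 𝒜 p chart hP i).str := by
  apply Groth.Agent.Helper13QCAlgPO.presheaf_hom_ext_affine (quotAlg 𝒜 p chart hP i).toQCAlg
  intro U hU
  rw [NatTrans.comp_app, φHom_app 𝒜 p chart hP i U hU]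
  refine CommRingCat.hom_ext (RingHom.ext fun r => gammaAff_injective 𝒜 p chart hP i U hU ?_)
  have h := congr($(π_app_gammaAff (coequifibered 𝒜 p chart hP i) U hU).hom r)
  simp only [CommRingCat.hom_comp, RingHom.coe_comp, Function.comp_apply] at h
  change (gammaAff (coequifibered 𝒜 p chart hP i) U hU).hom
      ((φAff 𝒜 p chart hP i U hU).hom ((𝒜.str.app (op U)).hom r)) =
    (gammaAff (coequifibered 𝒜 p chart hP i) U hU).hom
      (((π (coequifibered 𝒜 p chart hP i)).app U).hom r)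
  rw [h, φAff_gammaAff]
  rfl

/-- **the quotient homomorphism `𝒜 ⟶ 𝒜 / I_Z`** -/
def φ : 𝒜.toQCAlg ⟶ (quotAlg 𝒜 p chart hP i).toQCAlg :=
  ⟨φHom 𝒜 p chart hP i, φHom_comm 𝒜 p chart hP i⟩

theorem φ_app (U : S.Opens) (hU : IsAffineOpen U) :
    (φ 𝒜 p chart hP i).hom.app (op U) = φAff 𝒜 p chart hP i U hU :=
  φHom_app 𝒜 p chart hP i U hU

theorem isGradedHom_φ : RelProj.IsGradedHom (φ 𝒜 p chart hP i) := by
  intro U hU d x hx
  rw [φ_app 𝒜 p chart hP i U hU]
  have h1 : (gammaAff (coequifibered 𝒜 p chart hP i) U hU).hom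
      ((φAff 𝒜 p chart hP i U hU).hom x) ∈ gr 𝒜 p chart i (aff U hU) d := by
    rw [φAff_gammaAff]
    exact mk_mem_qgr _ _ hx
  exact h1

theorem φ_surjective (U : S.Opens) (hU : IsAffineOpen U) :
    Function.Surjective ((φ 𝒜 p chart hP i).hom.app (op U)).hom := by
  rw [φ_app 𝒜 p chart hP i U hU]
  intro y
  obtain ⟨a, ha⟩ := Ideal.Quotient.mk_surjective
    ((gammaAff (coequifibered 𝒜 p chart hP i) U hU).hom y)
  refine ⟨a, ?_⟩
  have h1 : (gammaAff (coequifibered 𝒜 p chart hP i) U hU).hom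
      ((φAff 𝒜 p chart hP i U hU).hom a) =
      (gammaAff (coequifibered 𝒜 p chart hP i) U hU).hom y := by
    rw [φAff_gammaAff]
    exact ha
  exact gammaAff_injective 𝒜 p chart hP i U hU h1

end

end Groth.Agent.Lib.T2H4.ProjQuot
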