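import Mathlib
import Groth.Agent.Lib.T2H4ProjQuotL

/-!
# A closed subscheme of a quasi-compact relative `Proj` is the `Proj` of a graded quotient (helper4)

`exists_gradedQuotient` : the statement of `Divisors.exists_gradedQuotient_relProj_iso_of_isClosedImmersion`.
-/

set_option autoImplicit false
set_option linter.unusedSectionVars false
set_option linter.style.haveILetI false
universe u
open HomogeneousLocalization DirectSum Graded CategoryTheory CategoryTheory.Limits AlgebraicGeometry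
  TopologicalSpace Opposite Scheme.AffineZariskiSite
open scoped HomogeneousIdeal

namespace Groth.Agent.Lib.T2H4.ProjQuot

open Groth.Agent.Helper13QCAlgOfAffine Groth.Agent.Lib.T2H6.QCGrOfAffine Groth.Agent.Helper13RelProj

noncomputable section

variable {S P Z : Scheme.{u}} (𝒜 : RelProj.QCGrAlg S) (p : P ⟶ S)
  (chart : ∀ (U : S.Opens) (hU : IsAffineOpen U),
    (((p ⁻¹ᵁ U : P.Opens) : Scheme.{u}) ≅ Proj (𝒜.deg U hU)))
  (hP : RelProj.IsRelProj 𝒜 p chart) (i : Z ⟶ P) [IsClosedImmersion i] [QuasiCompact p]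

/-- the charts of `Z ⟶ S` as the relative `Proj` of `quotAlg` -/
def chartB (U : S.Opens) (hU : IsAffineOpen U) :
    ((((i ≫ p) ⁻¹ᵁ U : Z.Opens) : Scheme.{u})) ≅ Proj ((quotAlg 𝒜 p chart hP i).deg U hU) :=
  cU 𝒜 p chart i (aff U hU) ≪≫
    projIso (coequifibered 𝒜 p chart hP i) (gr 𝒜 p chart i)
      (fun j _ _ hx => hmap 𝒜 p chart hP i j hx) (hstr 𝒜 p chart hP i) U hU

theorem isRelProj_chartB :
    RelProj.IsRelProj (quotAlg 𝒜 p chart hP i) (i ≫ p) (chartB 𝒜 p chart hP i) :=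
  isRelProj_quotAlg 𝒜 p chart hP i

theorem exists_mem_deg_φ {U : S.Opens} {hU : IsAffineOpen U} {k : ℕ}
    {y : (quotAlg 𝒜 p chart hP i).presheaf.obj (op U)}
    (hy : y ∈ (quotAlg 𝒜 p chart hP i).deg U hU k) :
    ∃ x ∈ 𝒜.deg U hU k, ((φ 𝒜 p chart hP i).hom.app (op U)).hom x = y := by
  have h1 : (gammaAff (coequifibered 𝒜 p chart hP i) U hU).hom y ∈ gr 𝒜 p chart i (aff U hU) k := hy
  obtain ⟨a, ha, hay⟩ := h1
  refine ⟨a, ha, ?_⟩
  rw [φ_app 𝒜 p chart hP i U hU]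
  have h2 : (gammaAff (coequifibered 𝒜 p chart hP i) U hU).hom
      ((φAff 𝒜 p chart hP i U hU).hom a) =
      (gammaAff (coequifibered 𝒜 p chart hP i) U hU).hom y := by
    rw [φAff_gammaAff]
    exact hay
  exact gammaAff_injective 𝒜 p chart hP i U hU h2

theorem isDomOf_φ (U : S.Opens) (hU : IsAffineOpen U) :
    IsDomOf (ψAt (φ 𝒜 p chart hP i) (isGradedHom_φ 𝒜 p chart hP i) U hU)
      (𝟙 (Proj ((quotAlg 𝒜 p chart hP i).deg U hU))) :=
  isDomOf_of_TN 0 (fun _ _ _ _ _ hy => exists_mem_deg_φ 𝒜 p chart hP i hy) U hU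

theorem irr_ψ (U : S.Opens) (hU : IsAffineOpen U) :
    ((quotAlg 𝒜 p chart hP i).deg U hU)₊ ≤
      ((𝒜.deg U hU)₊).map (ψAt (φ 𝒜 p chart hP i) (isGradedHom_φ 𝒜 p chart hP i) U hU) := by
  rw [HomogeneousIdeal.irrelevant_le]
  intro n hn y hy
  obtain ⟨x, hx, rfl⟩ := exists_mem_deg_φ 𝒜 p chart hP i hy
  rw [← ψAt_apply (φ 𝒜 p chart hP i) (isGradedHom_φ 𝒜 p chart hP i) U hU x]
  exact Ideal.mem_map_of_mem _ (HomogeneousIdeal.mem_irrelevant_of_mem _ hn hx)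

instance gradedRing_qgr_idl (U : S.Opens) (hU : IsAffineOpen U) :
    GradedRing (qgr (𝒜.deg U hU) (idl 𝒜 p chart i U hU)) :=
  gradedRing_gr 𝒜 p chart i (aff U hU)

theorem qU_eq (U : S.Opens) (hU : IsAffineOpen U) :
    qU 𝒜 p chart i (aff U hU) =
      (projIso (coequifibered 𝒜 p chart hP i) (gr 𝒜 p chart i)
        (fun j _ _ hx => hmap 𝒜 p chart hP i j hx) (hstr 𝒜 p chart hP i) U hU).hom ≫
        Proj.map (ψAt (φ 𝒜 p chart hP i) (isGradedHom_φ 𝒜 p chart hP i) U hU)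
          (irr_ψ 𝒜 p chart hP i U hU) := by
  unfold qU projIso
  rw [asIso_hom, ← Proj.map_comp]
  apply projMap_congr
  ext a
  change Ideal.Quotient.mk (idl 𝒜 p chart i U hU) a =
    (gammaAff (coequifibered 𝒜 p chart hP i) U hU).hom
      (ψAt (φ 𝒜 p chart hP i) (isGradedHom_φ 𝒜 p chart hP i) U hU a)
  rw [ψAt_apply, φ_app 𝒜 p chart hP i U hU]
  exact (φAff_gammaAff 𝒜 p chart hP i U hU a).symm

theorem emb_comp_i (U : S.Opens) (hU : IsAffineOpen U) :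
    RelProj.emb (i ≫ p) (chartB 𝒜 p chart hP i) U hU ≫ i =
      Proj.map (ψAt (φ 𝒜 p chart hP i) (isGradedHom_φ 𝒜 p chart hP i) U hU)
        (irr_ψ 𝒜 p chart hP i U hU) ≫ RelProj.emb p chart U hU := by
  have hA : (i ⁻¹ᵁ (p ⁻¹ᵁ U)).ι ≫ i = (i ∣_ (p ⁻¹ᵁ U)) ≫ (p ⁻¹ᵁ U).ι :=
    (morphismRestrict_ι i (p ⁻¹ᵁ U)).symm
  have hB : (eU 𝒜 p chart i (aff U hU)).inv ≫ (i ∣_ (p ⁻¹ᵁ U)) =
      qU 𝒜 p chart i (aff U hU) ≫ (chart U hU).inv := by
    rw [Iso.inv_comp_eq, ← Category.assoc, Iso.eq_comp_inv]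
    exact (eU_hom_qU 𝒜 p chart i (aff U hU)).symm
  unfold RelProj.emb chartB
  rw [Iso.trans_inv, Category.assoc, Category.assoc]
  change _ ≫ (eU 𝒜 p chart i (aff U hU)).inv ≫ (i ⁻¹ᵁ (p ⁻¹ᵁ U)).ι ≫ i = _
  rw [hA, reassoc_of% hB, qU_eq 𝒜 p chart hP i U hU, Category.assoc]
  exact Iso.inv_hom_id_assoc _ _

theorem isQMapDiag_i :
    IsQMapDiag (φ 𝒜 p chart hP i) (isGradedHom_φ 𝒜 p chart hP i) chart (chartB 𝒜 p chart hP i) i := by
  intro U hU d hd f hf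
  rw [emb_comp_i 𝒜 p chart hP i U hU, ← Category.assoc,
    Proj.awayι_comp_map (ψAt (φ 𝒜 p chart hP i) (isGradedHom_φ 𝒜 p chart hP i) U hU)
      (irr_ψ 𝒜 p chart hP i U hU) hd f hf, Category.assoc]

include hP in
/-- **a closed subscheme of a quasi-compact relative `Proj` is the relative `Proj` of a graded quotient** -/
theorem exists_gradedQuotient :
    ∃ (ℬ : RelProj.QCGrAlg S) (φ : 𝒜.toQCAlg ⟶ ℬ.toQCAlg) (hφ : RelProj.IsGradedHom φ)
      (PB : Scheme.{u}) (pB : PB ⟶ S)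
      (chartB : ∀ (U : S.Opens) (hU : IsAffineOpen U),
        (((pB ⁻¹ᵁ U : PB.Opens) : Scheme.{u}) ≅ Proj (ℬ.deg U hU)))
      (h : PB ⟶ P) (e : PB ≅ Z),
      (∀ (U : S.Opens), IsAffineOpen U → Function.Surjective (φ.hom.app (op U)).hom) ∧
        RelProj.IsRelProj ℬ pB chartB ∧
        RelProj.IsProjQMap (RelProj.QGrHom.ofHom φ hφ) p chart pB chartB h ∧
        e.hom ≫ i = h :=
  ⟨quotAlg 𝒜 p chart hP i, φ 𝒜 p chart hP i, isGradedHom_φ 𝒜 p chart hP i, Z, i ≫ p,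
    chartB 𝒜 p chart hP i, i, Iso.refl Z, fun U hU => φ_surjective 𝒜 p chart hP i U hU,
    isRelProj_chartB 𝒜 p chart hP i,
    Groth.Agent.Lib.T2H4.ProjQMapDiag.isProjQMap_of_isQMapDiag hP (isRelProj_chartB 𝒜 p chart hP i)
      (fun U hU => isDomOf_φ 𝒜 p chart hP i U hU) (isQMapDiag_i 𝒜 p chart hP i),
    Category.id_comp i⟩

end

end Groth.Agent.Lib.T2H4.ProjQuot
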