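import Mathlib
import Groth.Prelude.Def_RelProj
import Groth.Agent.Lib.Helper13RelProjA
import Groth.Agent.Lib.Helper27RelProj5
import Groth.Agent.S9705

/-!
# helper6 (team 2): projective morphisms (`RelProj.IsProjective`) are proper
-/

set_option autoImplicit false
set_option linter.unusedSectionVars false
universe u

open CategoryTheory CategoryTheory.Limits AlgebraicGeometry TopologicalSpace Opposite
open scoped HomogeneousIdeal

namespace Groth.Agent.Lib.T2H6.ProjProper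

noncomputable section

section Ring

variable {R A σ : Type u} [CommRing R] [CommRing A] [SetLike σ A] [AddSubgroupClass σ A]
  (𝒜 : ℕ → σ) [GradedRing 𝒜] (ρ : R →+* A) (hρ : ∀ r, ρ r ∈ 𝒜 0)
  (n : ℕ) (t : Fin (n + 1) → A) (ht : ∀ i, t i ∈ 𝒜 1)

include hρ ht in
theorem eval₂_mem {p : MvPolynomial (Fin (n + 1)) R} {d : ℕ}
    (hp : p ∈ CohB1.polyGrading n R d) : MvPolynomial.eval₂ ρ t p ∈ 𝒜 d := by
  classical
  rw [p.as_sum, MvPolynomial.eval₂_sum]
  refine sum_mem fun m hm => ?_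
  rw [MvPolynomial.eval₂_monomial]
  have hdeg : Finsupp.weight 1 m = d := hp (MvPolynomial.mem_support_iff.mp hm)
  have h1 := SetLike.prod_pow_mem_graded 𝒜 (fun _ : Fin (n + 1) => 1) t (fun i => m i)
    (F := m.support) (fun k _ => ht k)
  have h2 : (∑ k ∈ m.support, m k • 1) = d := by
    rw [← hdeg, Finsupp.weight_apply]
    rfl
  rw [h2] at h1
  have h3 := SetLike.mul_mem_graded (hρ (MvPolynomial.coeff m p)) h1
  rw [zero_add] at h3
  exact h3

/-- the graded ring homomorphism from the polynomial ring defined by elements of degree one -/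
def φ : CohB1.polyGrading n R →+*ᵍ 𝒜 where
  toRingHom := MvPolynomial.eval₂Hom ρ t
  map_mem := fun hx => eval₂_mem 𝒜 ρ hρ n t ht hx

theorem φ_apply (p : MvPolynomial (Fin (n + 1)) R) :
    φ 𝒜 ρ hρ n t ht p = MvPolynomial.eval₂ ρ t p := rfl

variable (hspan : ∀ x ∈ 𝒜 1, ∃ c : Fin (n + 1) → R, x = ∑ i, ρ (c i) * t i)
  (hgen : Subring.closure ((𝒜 0 : Set A) ∪ (𝒜 1 : Set A)) = ⊤)

include hspan hgen in
theorem φ_surjective_pos (d : ℕ) (hd : 0 < d) (b : A) (hb : b ∈ 𝒜 d) :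
    ∃ a ∈ CohB1.polyGrading n R d, φ 𝒜 ρ hρ n t ht a = b := by
  refine Groth.Agent.Lib.Helper27RelProj5.surjective_pos_of_gen (φ 𝒜 ρ hρ n t ht) hgen ?_ d hd b hb
  intro x hx
  obtain ⟨c, rfl⟩ := hspan x hx
  refine ⟨∑ i, MvPolynomial.C (c i) * MvPolynomial.X i, ?_⟩
  rw [φ_apply, MvPolynomial.eval₂_sum]
  refine Finset.sum_congr rfl fun i _ => ?_
  rw [MvPolynomial.eval₂_mul, MvPolynomial.eval₂_C, MvPolynomial.eval₂_X]

include hspan hgen in
theorem irrelevant_le : 𝒜₊ ≤ ((CohB1.polyGrading n R)₊).map (φ 𝒜 ρ hρ n t ht) := by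
  rw [HomogeneousIdeal.irrelevant_le]
  intro i hi b hb
  obtain ⟨a, ha, rfl⟩ := φ_surjective_pos 𝒜 ρ hρ n t ht hspan hgen i hi b hb
  exact Ideal.mem_map_of_mem _ (HomogeneousIdeal.mem_irrelevant_of_mem _ hi ha)

set_option backward.isDefEq.respectTransparency false in
include hρ ht hspan hgen in
/-- `Proj 𝒜 ⟶ Spec R` is proper when `𝒜` is generated in degree one over degree zero and `𝒜 1` is spanned over `R`
by finitely many elements. -/
theorem isProper_toSpecZero_comp (ρ₀ : R →+* 𝒜 0) (hρ₀ : ∀ r, (ρ₀ r : A) = ρ r) :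
    IsProper (Proj.toSpecZero 𝒜 ≫ Spec.map (CommRingCat.ofHom ρ₀)) := by
  have hirr := irrelevant_le 𝒜 ρ hρ n t ht hspan hgen
  have hci : IsClosedImmersion (Proj.map (φ 𝒜 ρ hρ n t ht) hirr) :=
    Groth.Agent.Helper13RelProj.isClosedImmersion_map_of_surjective_pos _ hirr
      (φ_surjective_pos 𝒜 ρ hρ n t ht hspan hgen)
  have hprop : IsProper (CohB1.ProjSpace.toSpec n R) := Groth.Agent.S9705.isProper_projSpace_toSpec n R
  have hcomp : Proj.toSpecZero 𝒜 ≫ Spec.map (CommRingCat.ofHom ρ₀) =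
      Proj.map (φ 𝒜 ρ hρ n t ht) hirr ≫ CohB1.ProjSpace.toSpec n R := by
    unfold CohB1.ProjSpace.toSpec
    rw [Groth.Agent.Helper13RelProj.map_toSpecZero_assoc, ← Spec.map_comp]
    congr 2
    ext r
    change (ρ₀ r : A) = φ 𝒜 ρ hρ n t ht (MvPolynomial.C r)
    rw [hρ₀, φ_apply, MvPolynomial.eval₂_C]
  rw [hcomp]
  exact MorphismProperty.comp_mem @IsProper _ _ inferInstance hprop

end Ring

section Scheme

open RelProj

variable {S P : Scheme.{u}} (𝒮 : RelProj.QCGrAlg S) (p : P ⟶ S)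
  (chart : ∀ (U : S.Opens) (hU : IsAffineOpen U), ((p ⁻¹ᵁ U : P.Opens) : Scheme.{u}) ≅ Proj (𝒮.deg U hU))

/-- the relative `Proj` of a graded algebra generated in degree one with degree-one part of finite type is proper. -/
theorem isProper_of_isRelProj (hp : RelProj.IsRelProj 𝒮 p chart) (hgen : 𝒮.IsGenDegOne)
    (hft : 𝒮.IsFTDeg 1) : IsProper p := by
  classical
  rw [IsZariskiLocalAtTarget.iff_of_iSup_eq_top (P := @IsProper) _ (iSup_affineOpens_eq_top S)]
  intro U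
  obtain ⟨T, hT1, hTspan⟩ := hft U.1 U.2
  let T' : Finset (𝒮.presheaf.obj (op U.1)) := insert 0 T
  obtain ⟨n, hn⟩ : ∃ n, T'.card = n + 1 :=
    ⟨T'.card - 1, by
      have : 0 < T'.card := Finset.card_pos.2 ⟨0, Finset.mem_insert_self 0 T⟩
      omega⟩
  let e : T' ≃ Fin (n + 1) := T'.equivFinOfCardEq hn
  let t : Fin (n + 1) → 𝒮.presheaf.obj (op U.1) := fun i => (e.symm i).1
  have ht : ∀ i, t i ∈ 𝒮.deg U.1 U.2 1 := by
    intro i
    rcases Finset.mem_insert.1 (e.symm i).2 with h | h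
    · rw [show t i = 0 from h]; exact zero_mem _
    · exact hT1 h
  have hspan : ∀ x ∈ 𝒮.deg U.1 U.2 1, ∃ c : Fin (n + 1) → Γ(S, U.1),
      x = ∑ i, (𝒮.str.app (op U.1)).hom (c i) * t i := by
    intro x hx
    obtain ⟨c, hc⟩ := hTspan x hx
    refine ⟨fun i => c (t i), ?_⟩
    rw [hc]
    have h1 : ∑ i, (𝒮.str.app (op U.1)).hom (c (t i)) * t i =
        ∑ y : T', (𝒮.str.app (op U.1)).hom (c y.1) * y.1 :=
      Fintype.sum_equiv e.symm _ _ (fun i => rfl)
    rw [h1, Finset.sum_coe_sort T' (fun y => (𝒮.str.app (op U.1)).hom (c y) * y)]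
    rw [Finset.sum_insert_of_eq_zero_if_notMem (fun _ => mul_zero _)]
  have hproper := isProper_toSpecZero_comp (𝒮.deg U.1 U.2) (𝒮.str.app (op U.1)).hom (𝒮.str_mem U.1 U.2)
    n t ht hspan (hgen U.1 U.2) (𝒮.strZero U.1 U.2).hom (fun r => rfl)
  rw [CommRingCat.ofHom_hom] at hproper
  have h1 : (p ∣_ U.1) ≫ U.1.ι = ((chart U.1 U.2).hom ≫ (Proj.toSpecZero (𝒮.deg U.1 U.2) ≫
      Spec.map (𝒮.strZero U.1 U.2)) ≫ U.2.isoSpec.inv) ≫ U.1.ι := by
    rw [morphismRestrict_ι, ← hp.chart_over U.1 U.2]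
    simp only [Category.assoc]
    rw [IsAffineOpen.isoSpec_inv_ι]
  have h2 := (cancel_mono U.1.ι).1 h1
  rw [h2]
  infer_instance

/-- **projective morphisms are proper.** -/
theorem isProper_of_isProjective {X : Scheme.{u}} (f : X ⟶ S) (hf : RelProj.IsProjective f) : IsProper f := by
  obtain ⟨𝒮, P, p, chart, e, hgen, hft, hp, rfl⟩ := hf
  have := isProper_of_isRelProj 𝒮 p chart hp hgen hft
  infer_instance

end Scheme

end

end Groth.Agent.Lib.T2H6.ProjProper
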