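import Mathlib
import Groth.Agent.Lib.T2H4ProjMorA
import Groth.Agent.Lib.T2H4ProjQuotM
import Groth.Agent.Lib.T2H6ProjProper

/-!
# A closed subscheme of a projective bundle `P(E)`, `E` of finite type, is projective (helper4)
-/

set_option autoImplicit false
set_option linter.style.haveILetI false
set_option linter.unusedSectionVars false
universe u
open CategoryTheory Limits AlgebraicGeometry TopologicalSpace Opposite

namespace Groth.Agent.Lib.T2H4.ProjMor

open RelProj Groth.Agent.Helper13RelProj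

/-- a closed subscheme of the relative `Proj` of a graded algebra generated in degree one with degree-one part of
finite type is projective over the base -/
theorem isProjective_of_isClosedImmersion_relProj {X Y P : Scheme.{u}} (f : X ⟶ Y)
    (𝒯 : RelProj.QCGrAlg Y) (p : P ⟶ Y)
    (chart : ∀ (U : Y.Opens) (hU : IsAffineOpen U),
      ((p ⁻¹ᵁ U : P.Opens) : Scheme.{u}) ≅ Proj (𝒯.deg U hU))
    (hP : RelProj.IsRelProj 𝒯 p chart) (hgen : 𝒯.IsGenDegOne) (hftT : 𝒯.IsFTDeg 1)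
    (i : X ⟶ P) [IsClosedImmersion i] (hi : i ≫ p = f) : RelProj.IsProjective f := by
  haveI : IsProper p := Groth.Agent.Lib.T2H6.ProjProper.isProper_of_isRelProj 𝒯 p chart hP hgen hftT
  haveI : QuasiCompact p := inferInstance
  obtain ⟨ℬ, φ, hφ, PB, pB, chartB, h, e, hsurj, hRel, hQ, he⟩ :=
    Groth.Agent.Lib.T2H4.ProjQuot.exists_gradedQuotient 𝒯 p chart hP i
  have hdom : ∀ (U : Y.Opens) (hU : IsAffineOpen U),
      IsDomOf (ψAt φ hφ U hU) (𝟙 (Proj (ℬ.deg U hU))) :=
    isDomOf_of_TN 0 (fun _ _ U hU _ hy => exists_mem_deg_of_surjective φ hφ hsurj U hU hy)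
  have hcomp : h ≫ p = pB :=
    qmap_comp hP hRel hdom (isQMapDiag_of_isProjQMap φ hφ chart chartB hQ)
  refine ⟨ℬ, PB, pB, chartB, e.symm, isGenDegOne_of_surjective φ hφ hsurj hgen,
    isFTDeg_of_surjective φ hφ hsurj 1 hftT, hRel, ?_⟩
  rw [Iso.symm_hom, ← hcomp, ← he, Category.assoc, Iso.inv_hom_id_assoc, hi]

/-- a closed subscheme of a projective bundle `P(E)`, `E` quasi-coherent of finite type, is projective -/
theorem isProjective_of_isClosedImmersion_projBundle {X Y P : Scheme.{u}} (f : X ⟶ Y)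
    (E : Y.Modules) (𝒯 : RelProj.QCGrAlg Y) (j : E ⟶ 𝒯.toModule) (p : P ⟶ Y)
    (chart : ∀ (U : Y.Opens) (hU : IsAffineOpen U),
      ((p ⁻¹ᵁ U : P.Opens) : Scheme.{u}) ≅ Proj (𝒯.deg U hU))
    (i : X ⟶ P) (hE : Coh.IsQCoh E) (hft : CohB1.IsFT E) (hsym : RelProj.IsGrSymAlg E 𝒯 j)
    (hP : RelProj.IsRelProj 𝒯 p chart) [IsClosedImmersion i] (hi : i ≫ p = f) :
    RelProj.IsProjective f :=
  isProjective_of_isClosedImmersion_relProj f 𝒯 p chart hP
    (Groth.Agent.Lib.T2H4.VeryAmple.isGenDegOne_of_isGrSymAlg E hE 𝒯 j hsym)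
    (isFTDeg_one_of_isGrSymAlg E hE 𝒯 j hsym hft) i hi

end Groth.Agent.Lib.T2H4.ProjMor
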