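import Mathlib
import Groth.Agent.Lib.T2H4GrSymD
import Groth.Agent.Lib.Helper23QCohAbelian

/-!
# A projective morphism factors through a closed immersion into `P(E)` with `E` of finite type (helper4)

* `exists_closedImmersion_of_degOne` : `Proj(𝒮)`, `𝒮` generated in degree one, is a closed subscheme of `P(E)` for any
  quasi-coherent `E` with a map `E ⟶ 𝒮` onto the degree-one part.
* `degOne 𝒮` : the degree-one part of `𝒮` as a quasi-coherent module (the kernel of `1 - proj1`).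
-/

set_option autoImplicit false
set_option linter.style.haveILetI false
set_option linter.unusedSectionVars false
universe u
open CategoryTheory Limits AlgebraicGeometry TopologicalSpace Opposite
open scoped HomogeneousIdeal

namespace Groth.Agent.Lib.T2H4.ProjMor

open RelProj Groth.Agent.Helper13SymAlg Groth.Agent.Helper13ProjBC Groth.Agent.Lib.T2H4.GrSym

variable {S : Scheme.{u}}

/-- **a relative Proj of an algebra generated in degree one is a closed subscheme of `P(E)`** for any quasi-coherent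
`E` mapping onto the degree-one part -/
theorem exists_closedImmersion_of_degOne {P : Scheme.{u}} (𝒮 : RelProj.QCGrAlg S) (h𝒮 : 𝒮.IsGenDegOne)
    (p : P ⟶ S)
    (chart : ∀ (U : S.Opens) (hU : IsAffineOpen U), ((p ⁻¹ᵁ U : P.Opens) : Scheme.{u}) ≅ Proj (𝒮.deg U hU))
    (hP : RelProj.IsRelProj 𝒮 p chart) (E : S.Modules) (hE : Coh.IsQCoh E) (ι : E ⟶ 𝒮.toModule)
    (h1 : ∀ (U : S.Opens) (hU : IsAffineOpen U) (m : Γ(E, U)),
      ((ι.app U) m : 𝒮.presheaf.obj (op U)) ∈ 𝒮.deg U hU 1)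
    (h2 : ∀ (U : S.Opens) (hU : IsAffineOpen U) (b : 𝒮.presheaf.obj (op U)), b ∈ 𝒮.deg U hU 1 →
      ∃ m : Γ(E, U), ((ι.app U) m : 𝒮.presheaf.obj (op U)) = b) :
    ∃ (𝒯 : RelProj.QCGrAlg S) (j : E ⟶ 𝒯.toModule) (_ : RelProj.IsGrSymAlg E 𝒯 j) (P' : Scheme.{u})
      (p' : P' ⟶ S)
      (chart' : ∀ (U : S.Opens) (hU : IsAffineOpen U),
        (((p' ⁻¹ᵁ U : P'.Opens) : Scheme.{u}) ≅ Proj (𝒯.deg U hU)))
      (_ : RelProj.IsRelProj 𝒯 p' chart') (h : P ⟶ P'), IsClosedImmersion h ∧ h ≫ p' = p := by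
  haveI : E.IsQuasicoherent := hE
  obtain ⟨ψ₀, hψ, -⟩ := (isSymAlg E) 𝒮.toQCAlg ι
  obtain ⟨ψ, rfl⟩ : ∃ ψ : (grSymAlg E).toQCAlg ⟶ 𝒮.toQCAlg, ψ = ψ₀ := ⟨ψ₀, rfl⟩
  have hψ' : jGr E ≫ RelSpec.QCAlg.Hom.toModuleMap ψ = ι := hψ
  have hgr : RelProj.IsGradedHom ψ := by
    refine isGradedHom_of_deg_one E 𝒮 ψ (fun U hU m => ?_)
    rw [hψ']
    exact h1 U hU m
  have hsurj : ∀ (U : S.Opens) (hU : IsAffineOpen U) (n : ℕ), 0 < n → ∀ y ∈ 𝒮.deg U hU n,
      ∃ x ∈ (grSymAlg E).deg U hU n, RelProj.gradedHomAt ψ hgr U hU x = y := by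
    intro U hU n hn y hy
    refine Groth.Agent.Lib.Helper27RelProj5.surjective_pos_of_gen (RelProj.gradedHomAt ψ hgr U hU)
      (h𝒮 U hU) (fun b hb => ?_) n hn y hy
    obtain ⟨m, hm⟩ := h2 U hU b hb
    refine ⟨((jGr E).app U) m, ?_⟩
    have h3 := congrArg (fun φ : E ⟶ 𝒮.toModule => (φ.app U) m) hψ'
    exact h3.trans hm
  have hirr : ∀ (U : S.Opens) (hU : IsAffineOpen U),
      (𝒮.deg U hU)₊ ≤ (((grSymAlg E).deg U hU)₊).map (RelProj.gradedHomAt ψ hgr U hU) := by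
    intro U hU
    rw [HomogeneousIdeal.irrelevant_le]
    intro i hi b hb
    obtain ⟨a, ha, rfl⟩ := hsurj U hU i hi b hb
    exact Ideal.mem_map_of_mem _ (HomogeneousIdeal.mem_irrelevant_of_mem _ hi ha)
  have hP' := isRelProj_relProj (grSymAlg E)
  obtain ⟨h, hh⟩ := Groth.Agent.Helper13RelProj.exists_relProjMap ψ hgr hirr hP' hP
  have hci : IsClosedImmersion h :=
    Groth.Agent.Lib.Helper27RelProj4.relProjMap_of_charts (P := @IsClosedImmersion) ψ hgr hirr hP' hP hh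
      (fun U hU => Groth.Agent.Helper13RelProj.isClosedImmersion_map_of_surjective_pos _ _ (hsurj U hU))
  have hover : h ≫ relProjπ (grSymAlg E) = p :=
    Groth.Agent.Lib.Helper27RelProj4.relProjMap_over ψ hgr hirr hP' hP hh
  exact ⟨grSymAlg E, jGr E, isGrSymAlg E, _, _, _, hP', h, hci, hover⟩

section degOne

open Groth.Agent.Helper13ModAffine

variable (𝒮 : RelProj.QCGrAlg S)

theorem proj1_idem : proj1 𝒮 ≫ proj1 𝒮 = proj1 𝒮 := by
  refine hom_ext_affine _ _ (fun U hU => ?_)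
  ext x
  change ((proj1 𝒮).app U) (((proj1 𝒮).app U) x) = ((proj1 𝒮).app U) x
  exact proj1_app_of_mem 𝒮 U hU _ (proj1_app_mem 𝒮 U hU x)

/-- the degree-one part of a quasi-coherent graded algebra, as a module -/
noncomputable def degOne : S.Modules := kernel (𝟙 𝒮.toModule - proj1 𝒮)

/-- the inclusion of the degree-one part -/
noncomputable def degOneι : degOne 𝒮 ⟶ 𝒮.toModule := kernel.ι _

/-- the projection onto the degree-one part -/
noncomputable def degOneπ : 𝒮.toModule ⟶ degOne 𝒮 :=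
  kernel.lift _ (proj1 𝒮) (by rw [Preadditive.comp_sub, Category.comp_id, proj1_idem, sub_self])

theorem degOneπ_ι : degOneπ 𝒮 ≫ degOneι 𝒮 = proj1 𝒮 := kernel.lift_ι _ _ _

theorem degOneι_proj1 : degOneι 𝒮 ≫ proj1 𝒮 = degOneι 𝒮 := by
  have h := kernel.condition (𝟙 𝒮.toModule - proj1 𝒮)
  rw [Preadditive.comp_sub, Category.comp_id, sub_eq_zero] at h
  exact h.symm

theorem degOneι_π : degOneι 𝒮 ≫ degOneπ 𝒮 = 𝟙 _ := by
  haveI : Mono (degOneι 𝒮) := equalizer.ι_mono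
  rw [← cancel_mono (degOneι 𝒮), Category.assoc, degOneπ_ι, degOneι_proj1, Category.id_comp]

theorem isQCoh_degOne : Coh.IsQCoh (degOne 𝒮) := by
  haveI : (𝒮.toModule).IsQuasicoherent :=
    Groth.Agent.Helper18QCAlg.isQuasicoherent_toModule 𝒮.toQCAlg
  exact Groth.Agent.Lib.Helper23.QCohLocal.isQuasicoherent_kernel _

theorem degOneι_app_mem (U : S.Opens) (hU : IsAffineOpen U) (m : Γ(degOne 𝒮, U)) :
    (((degOneι 𝒮).app U) m : 𝒮.presheaf.obj (op U)) ∈ 𝒮.deg U hU 1 := by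
  have h := congrArg (fun φ : degOne 𝒮 ⟶ 𝒮.toModule => (φ.app U) m) (degOneι_proj1 𝒮)
  change ((proj1 𝒮).app U) (((degOneι 𝒮).app U) m) = ((degOneι 𝒮).app U) m at h
  rw [← h]
  exact proj1_app_mem 𝒮 U hU _

theorem degOneι_app_π (U : S.Opens) (hU : IsAffineOpen U) (b : 𝒮.presheaf.obj (op U))
    (hb : b ∈ 𝒮.deg U hU 1) :
    (((degOneι 𝒮).app U) (((degOneπ 𝒮).app U) (show Γ(𝒮.toModule, U) from b)) :
      𝒮.presheaf.obj (op U)) = b := by
  have h := congrArg (fun φ : 𝒮.toModule ⟶ 𝒮.toModule => (φ.app U) (show Γ(𝒮.toModule, U) from b))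
    (degOneπ_ι 𝒮)
  exact h.trans (proj1_app_of_mem 𝒮 U hU b hb)

theorem degOneπ_app_ι (U : S.Opens) (m : Γ(degOne 𝒮, U)) :
    ((degOneπ 𝒮).app U) (((degOneι 𝒮).app U) m) = m :=
  congrArg (fun φ : degOne 𝒮 ⟶ degOne 𝒮 => (φ.app U) m) (degOneι_π 𝒮)

theorem isFT_degOne (hft : 𝒮.IsFTDeg 1) : CohB1.IsFT (degOne 𝒮) := by
  classical
  haveI : (degOne 𝒮).IsQuasicoherent := isQCoh_degOne 𝒮
  rw [CohB1.IsFT, Groth.Agent.Lib.Helper23.FinType.isFiniteType_iff_forall_affine]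
  intro U hU
  obtain ⟨T, hT, hgen⟩ := hft U hU
  let πU : 𝒮.presheaf.obj (op U) → Γ(degOne 𝒮, U) :=
    fun b => ((degOneπ 𝒮).app U) (show Γ(𝒮.toModule, U) from b)
  refine ⟨⟨T.image πU, ?_⟩⟩
  rw [eq_top_iff]
  rintro m -
  obtain ⟨c, hc⟩ := hgen _ (degOneι_app_mem 𝒮 U hU m)
  have h1 : m = ∑ t ∈ T, c t • πU t := by
    rw [← degOneπ_app_ι 𝒮 U m]
    have h2 : (((degOneι 𝒮).app U) m : Γ(𝒮.toModule, U)) =
        ∑ t ∈ T, c t • (show Γ(𝒮.toModule, U) from t) := hc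
    rw [h2, map_sum]
    refine Finset.sum_congr rfl fun t _ => ?_
    rw [Scheme.Modules.Hom.app_smul]
  rw [h1]
  refine Submodule.sum_mem _ fun t ht => Submodule.smul_mem _ _ (Submodule.subset_span ?_)
  exact Finset.mem_coe.2 (Finset.mem_image_of_mem _ ht)

end degOne

/-- **a projective morphism factors through a closed immersion into `P(E)` with `E` quasi-coherent of finite type** -/
theorem exists_closedImmersion_of_isProjective {X Y : Scheme.{u}} (f : X ⟶ Y)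
    (hf : RelProj.IsProjective f) :
    ∃ (E : Y.Modules) (𝒯 : RelProj.QCGrAlg Y) (j : E ⟶ 𝒯.toModule) (P : Scheme.{u}) (p : P ⟶ Y)
      (chart : ∀ (U : Y.Opens) (hU : IsAffineOpen U),
        ((p ⁻¹ᵁ U : P.Opens) : Scheme.{u}) ≅ Proj (𝒯.deg U hU))
      (i : X ⟶ P),
      Coh.IsQCoh E ∧ CohB1.IsFT E ∧ RelProj.IsGrSymAlg E 𝒯 j ∧ RelProj.IsRelProj 𝒯 p chart ∧
        IsClosedImmersion i ∧ i ≫ p = f := by
  obtain ⟨𝒮, P₀, p₀, chart₀, e, hgen, hft, hP₀, he⟩ := hf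
  obtain ⟨𝒯, j, hsym, P, p, chart, hP, h, hci, hover⟩ :=
    exists_closedImmersion_of_degOne 𝒮 hgen p₀ chart₀ hP₀ (degOne 𝒮) (isQCoh_degOne 𝒮) (degOneι 𝒮)
      (fun U hU m => degOneι_app_mem 𝒮 U hU m)
      (fun U hU b hb => ⟨_, degOneι_app_π 𝒮 U hU b hb⟩)
  refine ⟨degOne 𝒮, 𝒯, j, P, p, chart, e.hom ≫ h, isQCoh_degOne 𝒮, isFT_degOne 𝒮 hft, hsym, hP,
    inferInstance, ?_⟩
  rw [Category.assoc, hover, he]

end Groth.Agent.Lib.T2H4.ProjMor
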