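import Groth.Agent.Lib.T2H4Uniq4
import Groth.Agent.Lib.T2H4FlatHom5
import Groth.Agent.Lib.T2H4RGFinite
import Groth.Agent.Lib.T2H4DualShift

/-!
# Recognition of dualizing complexes over a local ring by `Ext(k, -)` (helper4)
-/

set_option autoImplicit false
set_option linter.style.haveILetI false
set_option backward.isDefEq.respectTransparency.types false
universe u
open CategoryTheory CategoryTheory.Limits
attribute [local instance] HasDerivedCategory.standard

namespace Groth.Agent.Lib.T2H4.Recog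

open CochainComplex HomComplex DerivedCategory HomologicalComplex Groth.Agent.Lib.T2H4.Bidual
  Groth.Agent.Lib.T2H4.HomCx Groth.Agent.Lib.T2H4.LD Groth.Agent.Lib.T2H4.Uniq
  Groth.Agent.Lib.T2H4.DualField IsLocalRing Groth.Agent.Lib.T2H4.FlatHom Groth.Agent.S14388
  Groth.Agent.Lib.T2H4.DComp

variable {A : Type u} [CommRing A]

section FinHom

variable [IsNoetherianRing A]

/-- `Ext^i(M, K)` is finite for `M` finite and `K ∈ D^+_coh`. -/
lemma finite_hom_inD_of_isGE (K : Dual.D A) (a : ℤ) [K.IsGE a]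
    (hfin : ∀ i : ℤ, Module.Finite A (Dual.HD A K i)) (M : Type u) [AddCommGroup M] [Module A M]
    [Module.Finite A M] (i : ℤ) : Module.Finite A (Dual.inD A M ⟶ K⟦i⟧) := by
  haveI : (K⟦i⟧).IsGE (a - i) := tt.isGE_shift K a i (a - i) (by lia)
  have eI : ∀ j : ℤ, (homologyFunctor (ModuleCat.{u} A) j).obj ((CategoryTheory.shiftFunctor (Dual.D A) i).obj K) ≅
      (homologyFunctor (ModuleCat.{u} A) (i + j)).obj K := fun j =>
    ((homologyFunctor (ModuleCat.{u} A) 0).shiftIso i j (i + j) rfl).app K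
  exact finite_hom_single_of_isGE (ModuleCat.of A M) 0 (K⟦i⟧) (a - i) (fun j => by
    haveI := hfin (i + j)
    exact Module.Finite.equiv (eI j).symm.toLinearEquiv)

end FinHom

section Main

variable [IsLocalRing A] [IsNoetherianRing A]

/-- **Recognition**: over a local ring with a dualizing complex `ω`, an object of `D^+_coh` with
`Ext^•(k, R)` one-dimensional is a shift of `ω`. -/
theorem exists_iso_shift_of_single_degree (ω : Dual.D A) (hω : Dual.IsDualizing A ω)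
    (R : Dual.D A) (hfin : ∀ i : ℤ, Module.Finite A (Dual.HD A R i)) (a : ℤ) [R.IsGE a] (d : ℤ)
    (hvan : ∀ i : ℤ, i ≠ d → Subsingleton (Dual.inD A (kk A) ⟶ R⟦i⟧))
    (θ : (Dual.inD A (kk A) ⟶ R⟦d⟧) ≃ₗ[A] kk A) : ∃ n : ℤ, Nonempty (R ≅ ω⟦n⟧) := by
  have hfinH : ∀ (M : Type u) [AddCommGroup M] [Module A M] [Module.Finite A M] (i : ℤ),
      Module.Finite A (Dual.inD A M ⟶ R⟦i⟧) := fun M _ _ _ i =>
    finite_hom_inD_of_isGE R a hfin M i
  have hmax : ∀ (𝔪 : Ideal A), 𝔪.IsMaximal → ∀ i : ℤ, d < i →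
      Subsingleton (Dual.inD A (A ⧸ 𝔪) ⟶ R⟦i⟧) := by
    intro 𝔪 h𝔪 i hi
    obtain rfl := IsLocalRing.eq_maximalIdeal h𝔪
    exact hvan i (ne_of_gt hi)
  have hKa : ∀ i : ℤ, i < a → IsZero ((homologyFunctor (ModuleCat.{u} A) i).obj R) :=
    (DerivedCategory.isGE_iff R a).1 inferInstance
  have hK : ∀ i : ℤ, (i < a ∨ d < i) → IsZero ((homologyFunctor (ModuleCat.{u} A) i).obj R) := by
    rintro i (hi | hi)
    · exact hKa i hi
    · have h1 := Groth.Agent.Lib.T2H4.Bass.subsingleton_hom_of_finite R hfinH d hmax A i hi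
      have := (Groth.Agent.Lib.T2H4.HomRing.subsingleton_hom_inD_self_iff R i).1 h1
      exact ModuleCat.isZero_of_subsingleton _
  have hinj : ∀ (M : Type u) [AddCommGroup M] [Module A M] (i : ℤ), (i < a ∨ d < i) →
      Subsingleton (Dual.inD A M ⟶ R⟦i⟧) := fun M _ _ i hi =>
    subsingleton_hom_of_maximal R a d hK hfin d hmax M i hi
  obtain ⟨I', hI'v, hI'inj, ⟨e'⟩⟩ := Groth.Agent.S6965.rep_of_subsingleton R a d
    (fun J i hi => hinj (A ⧸ J) i hi)
  have hI' : BddInj I' a d := ⟨fun n => Module.injective_object_of_injective_module A (I'.X n)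
    (inj := hI'inj n), (isStrictlyGE_iff _ _).2 (fun i hi => hI'v i (Or.inl hi)),
    (isStrictlyLE_iff _ _).2 (fun i hi => hI'v i (Or.inr hi))⟩
  obtain ⟨I, a₀, b₀, hI, ⟨e⟩⟩ := exists_dualizingRep ω hω
  have hIfin : FinH I := (finH_iff I).2 (fun i => by
    haveI := hω.finite_cohomology i
    exact Module.Finite.equiv
      ((DerivedCategory.homologyFunctor (ModuleCat.{u} A) i).mapIso e).symm.toLinearEquiv)
  have hI'fin : FinH I' := (finH_iff I').2 (fun i => by
    haveI := hfin i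
    exact Module.Finite.equiv
      ((DerivedCategory.homologyFunctor (ModuleCat.{u} A) i).mapIso e').symm.toLinearEquiv)
  obtain ⟨m, hm, ⟨θm⟩⟩ := ext_residueField_single_degree ω hω (maximalIdeal A)
  have c : ∀ i : ℤ, (Dual.inD A (kk A) ⟶ (Q.obj I)⟦i⟧) ≃ₗ[A] (Dual.inD A (kk A) ⟶ ω⟦i⟧) :=
    fun i => Linear.homCongr A (Iso.refl _) ((CategoryTheory.shiftFunctor (Dual.D A) i).mapIso e)
  have c' : ∀ i : ℤ, (Dual.inD A (kk A) ⟶ (Q.obj I')⟦i⟧) ≃ₗ[A] (Dual.inD A (kk A) ⟶ R⟦i⟧) :=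
    fun i => Linear.homCongr A (Iso.refl _) ((CategoryTheory.shiftFunctor (Dual.D A) i).mapIso e')
  obtain ⟨ι⟩ := nonempty_iso_shift_of_rep' hI hI' hIfin hI'fin m
    (fun i hi => by haveI := hm i hi; exact (c i).toEquiv.subsingleton) (c m ≪≫ₗ θm) d
    (fun i hi => by haveI := hvan i hi; exact (c' i).toEquiv.subsingleton) (c' d ≪≫ₗ θ)
  exact ⟨m - d, ⟨e'.symm ≪≫ ι ≪≫ (CategoryTheory.shiftFunctor (Dual.D A) (m - d)).mapIso e⟩⟩

/-- the dualizing property in the presence of a dualizing complex. -/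
theorem isDualizing_of_single_degree_of_isDualizing (ω : Dual.D A) (hω : Dual.IsDualizing A ω)
    (R : Dual.D A) (hfin : ∀ i : ℤ, Module.Finite A (Dual.HD A R i)) (a : ℤ) [R.IsGE a] (d : ℤ)
    (hvan : ∀ i : ℤ, i ≠ d → Subsingleton (Dual.inD A (kk A) ⟶ R⟦i⟧))
    (θ : (Dual.inD A (kk A) ⟶ R⟦d⟧) ≃ₗ[A] kk A) : Dual.IsDualizing A R := by
  obtain ⟨n, ⟨φ⟩⟩ := exists_iso_shift_of_single_degree ω hω R hfin a d hvan θ
  exact Groth.Agent.Lib.T2H4.DualFinite.isDualizing_of_iso φ.symm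
    (Groth.Agent.Lib.T2H4.DualShift.isDualizing_shift ω hω n)

end Main

end Groth.Agent.Lib.T2H4.Recog
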