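import Groth.Agent.Lib.T2H4DimFun5
import Groth.Agent.Lib.T2H4Recog1

/-!
# Pointwise dualizing complexes: the index function (helper4)
-/

set_option autoImplicit false
set_option linter.style.haveILetI false
set_option backward.isDefEq.respectTransparency.types false
universe u
open CategoryTheory CategoryTheory.Limits
attribute [local instance] HasDerivedCategory.standard

namespace Groth.Agent.Lib.T2H4.PtDual

open DerivedCategory Pretriangulated Groth.Agent.S14388 Groth.Agent.Lib.T2H4.LocalDual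
  Groth.Agent.Lib.T2H4.DComp Groth.Agent.Lib.T2H4.TorIndep Groth.Agent.Lib.Helper1.Extend
  Groth.Agent.Lib.Helper1.LDer Groth.Agent.Lib.T2H4.DualField Groth.Agent.Lib.T2H4.LocKL
  Groth.Agent.Lib.T2H4.DimFun Groth.Agent.Lib.T2H4.Recog

variable {A : Type u} [CommRing A] [IsNoetherianRing A]

section Van

variable (ω : Dual.D A)

/-- vanishing at `p` of `Ext^i(A/p, ω)` in terms of the localization at `p` (for `ω` bounded
below). -/
lemma van_quot_iff' (a : ℤ) [ω.IsGE a] (p : PrimeSpectrum A)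
    [DRing.HasLBaseChange (algebraMap A (Localization.AtPrime p.asIdeal))] (i : ℤ) :
    Van ω p (A ⧸ p.asIdeal) i ↔
      Subsingleton (Dual.inD (Localization.AtPrime p.asIdeal)
        (Localization.AtPrime p.asIdeal ⧸ IsLocalRing.maximalIdeal (Localization.AtPrime p.asIdeal)) ⟶
        ((DRing.LBaseChange (algebraMap A (Localization.AtPrime p.asIdeal))).obj ω)⟦i⟧) := by
  have hcomap : (IsLocalRing.maximalIdeal (Localization.AtPrime p.asIdeal)).comap
      (algebraMap A (Localization.AtPrime p.asIdeal)) = p.asIdeal :=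
    IsLocalization.AtPrime.under_maximalIdeal (Localization.AtPrime p.asIdeal) p.asIdeal
  obtain ⟨e⟩ := nonempty_inD_quot_iso p.asIdeal.primeCompl (Localization.AtPrime p.asIdeal)
    (IsLocalRing.maximalIdeal (Localization.AtPrime p.asIdeal))
  have e0 : (A ⧸ (IsLocalRing.maximalIdeal (Localization.AtPrime p.asIdeal)).comap
      (algebraMap A (Localization.AtPrime p.asIdeal))) ≃ₗ[A] (A ⧸ p.asIdeal) :=
    Submodule.quotEquivOfEq _ _ hcomap
  have h1 := subsingleton_hom_lbc_iff p.asIdeal.primeCompl (Localization.AtPrime p.asIdeal)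
    (Dual.inD A (A ⧸ (IsLocalRing.maximalIdeal (Localization.AtPrime p.asIdeal)).comap
      (algebraMap A (Localization.AtPrime p.asIdeal)))) ω a 0 0 (isZero_HD_inD _)
      (finite_HD_inD _) i
  have h2 : Subsingleton (Dual.inD (Localization.AtPrime p.asIdeal)
        (Localization.AtPrime p.asIdeal ⧸ IsLocalRing.maximalIdeal (Localization.AtPrime p.asIdeal)) ⟶
        ((DRing.LBaseChange (algebraMap A (Localization.AtPrime p.asIdeal))).obj ω)⟦i⟧) ↔
      Subsingleton ((DRing.LBaseChange (algebraMap A (Localization.AtPrime p.asIdeal))).obj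
        (Dual.inD A (A ⧸ (IsLocalRing.maximalIdeal (Localization.AtPrime p.asIdeal)).comap
          (algebraMap A (Localization.AtPrime p.asIdeal)))) ⟶
        ((DRing.LBaseChange (algebraMap A (Localization.AtPrime p.asIdeal))).obj ω)⟦i⟧) :=
    ⟨fun h => ⟨fun f g => by
      rw [← cancel_epi e.hom]
      exact h.elim _ _⟩, fun h => ⟨fun f g => by
      rw [← cancel_epi e.inv]
      exact h.elim _ _⟩⟩
  rw [h2, h1]
  constructor
  · intro h f
    obtain ⟨s, hs, h0⟩ := van_of_equiv p e0 i h f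
    exact ⟨s, hs, h0⟩
  · intro h
    apply van_of_equiv p e0.symm i
    intro f
    obtain ⟨s, hs, h0⟩ := h f
    exact ⟨s, hs, h0⟩

/-- the index of a prime at which the localization is dualizing. -/
theorem exists_index' (a : ℤ) [ω.IsGE a] (p : PrimeSpectrum A)
    [DRing.HasLBaseChange (algebraMap A (Localization.AtPrime p.asIdeal))]
    (hT : Dual.IsDualizing (Localization.AtPrime p.asIdeal)
      ((DRing.LBaseChange (algebraMap A (Localization.AtPrime p.asIdeal))).obj ω)) :
    ∃ n : ℤ, ∀ i : ℤ, Van ω p (A ⧸ p.asIdeal) i ↔ i ≠ n := by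
  haveI : IsNoetherianRing (Localization.AtPrime p.asIdeal) :=
    IsLocalization.isNoetherianRing p.asIdeal.primeCompl _ inferInstance
  obtain ⟨n, hvan, ⟨e⟩⟩ := ext_residueField_single_degree _ hT
    (IsLocalRing.maximalIdeal (Localization.AtPrime p.asIdeal))
  refine ⟨n, fun i => ?_⟩
  rw [van_quot_iff' ω a p i]
  constructor
  · intro h hi
    subst hi
    haveI : Nontrivial (Localization.AtPrime p.asIdeal ⧸
        IsLocalRing.maximalIdeal (Localization.AtPrime p.asIdeal)) :=
      Ideal.Quotient.nontrivial_iff.2 (IsLocalRing.maximalIdeal.isMaximal _).ne_top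
    exact not_subsingleton _ e.symm.toEquiv.subsingleton
  · exact hvan i


open scoped Pointwise in
/-- the Nakayama step for supports (for `ω ∈ D^+_coh`). -/
lemma van_of_regular' (a : ℤ) [ω.IsGE a]
    (hfin : ∀ i : ℤ, Module.Finite A (Dual.HD A ω i)) (q : PrimeSpectrum A)
    (M : Type u) [AddCommGroup M] [Module A M] [Module.Finite A M] (x : A) (hx : x ∈ q.asIdeal)
    (hreg : IsSMulRegular M x) (i : ℤ) (h : Van ω q (QuotSMulTop x M) (i + 1)) :
    Van ω q M i := by
  haveI := q.2
  haveI := finite_hom_inD_of_isGE ω a hfin M i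
  let f₁ : M →ₗ[A] M := LinearMap.lsmul A M x
  let g₁ : M →ₗ[A] QuotSMulTop x M := (x • (⊤ : Submodule A M)).mkQ
  have hf₁ : Function.Injective f₁ := hreg
  have hg₁ : Function.Surjective g₁ := Submodule.mkQ_surjective _
  have hfg₁ : Function.Exact f₁ g₁ := LinearMap.exact_lsmul_mkQ_smul_top M x
  have hf2 : ModuleCat.ofHom f₁ = x • 𝟙 (ModuleCat.of A M) := rfl
  have stepa : ∀ f : Dual.inD A M ⟶ ω⟦i⟧, ∃ s : A, s ∉ q.asIdeal ∧
      ∃ g : Dual.inD A M ⟶ ω⟦i⟧, s • f = x • g := by
    intro f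
    obtain ⟨s, hs, ψ, hψ⟩ := exists_smul_extension q f₁ g₁ hf₁ hg₁ hfg₁ i h f
    refine ⟨s, hs, ψ, ?_⟩
    rw [hψ, hf2, singleFunctor_map_smul, CategoryTheory.Functor.map_id, Linear.smul_comp,
      Category.id_comp]
  haveI : Module.Finite (Localization.AtPrime q.asIdeal)
      (LocalizedModule q.asIdeal.primeCompl (Dual.inD A M ⟶ ω⟦i⟧)) :=
    Module.Finite.of_isLocalizedModule q.asIdeal.primeCompl
      (LocalizedModule.mkLinearMap q.asIdeal.primeCompl (Dual.inD A M ⟶ ω⟦i⟧))
  have hsub : Subsingleton (LocalizedModule q.asIdeal.primeCompl (Dual.inD A M ⟶ ω⟦i⟧)) := by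
    apply subsingleton_of_smul_surjective (A := Localization.AtPrime q.asIdeal) _
      (algebraMap A (Localization.AtPrime q.asIdeal) x)
      ((IsLocalization.AtPrime.to_map_mem_maximal_iff _ q.asIdeal x).2 hx)
    intro y
    induction y using LocalizedModule.induction_on with
    | h f t =>
      obtain ⟨s, hs, g, hg⟩ := stepa f
      refine ⟨LocalizedModule.mk g ((⟨s, hs⟩ : q.asIdeal.primeCompl) * t), ?_⟩
      rw [← Localization.mk_one_eq_algebraMap, LocalizedModule.mk_smul_mk, one_mul, ← hg]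
      exact (LocalizedModule.mk_cancel_common_left (⟨s, hs⟩ : q.asIdeal.primeCompl) t f).symm
  intro f
  have h0 : LocalizedModule.mk f (1 : q.asIdeal.primeCompl) =
      LocalizedModule.mk 0 (1 : q.asIdeal.primeCompl) := hsub.elim _ _
  rw [LocalizedModule.mk_eq] at h0
  obtain ⟨u, hu⟩ := h0
  refine ⟨u, u.2, ?_⟩
  have hu' : u • f = 0 := by simpa using hu
  exact hu'

open scoped Pointwise in
/-- the step lemma: along a covering `p ⋖ q`, the index goes up by one. -/
theorem index_step' (a : ℤ) [ω.IsGE a]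
    (hfin : ∀ i : ℤ, Module.Finite A (Dual.HD A ω i)) (p q : PrimeSpectrum A) (hpq : p ⋖ q)
    (np nq : ℤ) (hp : ∀ i, Van ω p (A ⧸ p.asIdeal) i ↔ i ≠ np)
    (hq : ∀ i, Van ω q (A ⧸ q.asIdeal) i ↔ i ≠ nq) : np + 1 = nq := by
  haveI := p.2
  haveI := q.2
  obtain ⟨x, hxq, hxp⟩ : ∃ x ∈ q.asIdeal, x ∉ p.asIdeal := Set.not_subset.1 hpq.lt.not_ge
  have hreg : IsSMulRegular (A ⧸ p.asIdeal) x :=
    Groth.Agent.Lib.T2H4.Depth.isSMulRegular_quot_prime p.asIdeal x hxp
  haveI : Module.Finite A (QuotSMulTop x (A ⧸ p.asIdeal)) :=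
    inferInstanceAs (Module.Finite A ((A ⧸ p.asIdeal) ⧸ _))
  have hA : ∀ j : ℤ, j ≠ nq → Van ω q (QuotSMulTop x (A ⧸ p.asIdeal)) j := by
    apply van_of_support ω q (fun j => j ≠ nq) (fun j hj => (hq j).2 hj)
    intro p' hp' hle
    rw [Module.support_quotSMulTop, Set.mem_inter_iff, mem_support_quot_iff,
      PrimeSpectrum.mem_zeroLocus, Set.singleton_subset_iff] at hp'
    obtain ⟨h1, h2⟩ := hp'
    have hlt : p < p' := lt_of_le_of_ne h1 (fun h => hxp (h ▸ h2))
    by_contra hne
    exact hpq.2 hlt (lt_of_le_of_ne hle hne)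
  by_contra hne
  have h1 : Van ω q (A ⧸ p.asIdeal) np :=
    van_of_regular' ω a hfin q (A ⧸ p.asIdeal) x hxq hreg np (hA _ hne)
  exact (hp np).1 (van_of_le hpq.le _ np h1) rfl

end Van

end Groth.Agent.Lib.T2H4.PtDual
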