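import Groth.Agent.Lib.T2H4PtDual1
import Groth.Agent.Lib.T2H4FibGor4
import Groth.Agent.Lib.T2H4FlatHom5

/-!
# Pointwise dualizing complexes over a finite-dimensional Noetherian ring are dualizing (helper4)
-/

set_option autoImplicit false
set_option linter.style.haveILetI false
set_option backward.isDefEq.respectTransparency.types false
universe u
open CategoryTheory CategoryTheory.Limits TensorProduct
attribute [local instance] HasDerivedCategory.standard

namespace Groth.Agent.Lib.T2H4.PtDual

open DerivedCategory Pretriangulated Groth.Agent.S14388 Groth.Agent.Lib.T2H4.LocalDual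
  Groth.Agent.Lib.T2H4.DComp Groth.Agent.Lib.T2H4.TorIndep Groth.Agent.Lib.Helper1.Extend
  Groth.Agent.Lib.Helper1.LDer Groth.Agent.Lib.T2H4.DualField Groth.Agent.Lib.T2H4.LocKL
  Groth.Agent.Lib.T2H4.DimFun Groth.Agent.Lib.T2H4.Recog Groth.Agent.Lib.T2H4.FlatHom
  Groth.Agent.Lib.T2H4.FibGor

variable {A : Type u} [CommRing A] [IsNoetherianRing A]

section Idx

variable (R : Dual.D A) (a : ℤ) [R.IsGE a]
  [hL : ∀ p : PrimeSpectrum A,
    DRing.HasLBaseChange (algebraMap A (Localization.AtPrime p.asIdeal))]
  (hpt : ∀ p : PrimeSpectrum A, Dual.IsDualizing (Localization.AtPrime p.asIdeal)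
    ((DRing.LBaseChange (algebraMap A (Localization.AtPrime p.asIdeal))).obj R))

/-- the index of a prime for a pointwise dualizing complex. -/
noncomputable def idx' (p : PrimeSpectrum A) : ℤ :=
  Classical.choose (exists_index' R a p (hpt p))

lemma idx'_spec (p : PrimeSpectrum A) (i : ℤ) :
    Van R p (A ⧸ p.asIdeal) i ↔ i ≠ idx' R a hpt p :=
  Classical.choose_spec (exists_index' R a p (hpt p)) i

variable (hfin : ∀ i : ℤ, Module.Finite A (Dual.HD A R i))

include hfin in
lemma idx'_covBy (p q : PrimeSpectrum A) (hpq : p ⋖ q) :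
    idx' R a hpt p + 1 = idx' R a hpt q :=
  index_step' R a hfin p q hpq _ _ (idx'_spec R a hpt p) (idx'_spec R a hpt q)

include hfin in
lemma idx'_le_aux (D : ℤ) (hD : ∀ p : PrimeSpectrum A, IsMin p → idx' R a hpt p ≤ D) :
    ∀ (k : ℕ) (p : PrimeSpectrum A), Order.height p ≤ k → idx' R a hpt p ≤ D + k
  | 0 => by
    intro p hp
    have : IsMin p := Order.height_eq_zero.1 (by simpa using hp)
    simpa using hD p this
  | k + 1 => by
    intro p hp
    by_cases hmin : IsMin p
    · have := hD p hmin
      push_cast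
      lia
    · obtain ⟨q, hq⟩ := not_isMin_iff.1 hmin
      obtain ⟨x, -, hxp⟩ := exists_le_covBy q p hq
      have h1 := idx'_covBy R a hpt hfin x p hxp
      have h2 : Order.height x ≤ k := by
        have h3 := Order.height_strictMono hxp.lt (height_lt_top x)
        have h4 : Order.height x < (k : ℕ∞) + 1 := lt_of_lt_of_le h3 (by simpa using hp)
        exact Order.le_of_lt_add_one h4
      have := idx'_le_aux D hD k x h2
      push_cast
      lia

include hfin in
/-- the index function is bounded above when the dimension is finite. -/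
lemma exists_idx'_le (hdim : ringKrullDim A < ⊤) : ∃ b : ℤ, ∀ p : PrimeSpectrum A,
    idx' R a hpt p ≤ b := by
  have hfinite : {p : PrimeSpectrum A | IsMin p}.Finite := by
    have h1 : {p : PrimeSpectrum A | IsMin p} = PrimeSpectrum.asIdeal ⁻¹' (minimalPrimes A) := by
      ext p
      exact PrimeSpectrum.isMin_iff
    rw [h1]
    exact (minimalPrimes.finite_of_isNoetherianRing A).preimage
      (fun x _ y _ h => PrimeSpectrum.ext h)
  obtain ⟨D, hD⟩ := (hfinite.image (idx' R a hpt)).bddAbove
  have hD' : ∀ p : PrimeSpectrum A, IsMin p → idx' R a hpt p ≤ D := fun p hp =>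
    hD ⟨p, hp, rfl⟩
  obtain ⟨N, hN⟩ : ∃ N : ℕ, ∀ p : PrimeSpectrum A, Order.height p ≤ N := by
    have h0 : ∀ p : PrimeSpectrum A, ((Order.height p : ℕ∞) : WithBot ℕ∞) ≤ ringKrullDim A :=
      fun p => Order.height_le_krullDim p
    by_cases hne : Nonempty (PrimeSpectrum A)
    · obtain ⟨p₀⟩ := hne
      have hbot : ringKrullDim A ≠ ⊥ := fun hb => by
        have := h0 p₀
        rw [hb] at this
        simp at this
      obtain ⟨x, hx⟩ := WithBot.ne_bot_iff_exists.1 hbot
      have hxt : x ≠ ⊤ := fun ht => by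
        rw [← hx, ht] at hdim
        exact lt_irrefl _ hdim
      obtain ⟨N, hN⟩ := ENat.ne_top_iff_exists.1 hxt
      refine ⟨N, fun p => ?_⟩
      have := h0 p
      rw [← hx, ← hN] at this
      exact_mod_cast this
    · exact ⟨0, fun p => (hne ⟨p⟩).elim⟩
  exact ⟨D + N, fun p => idx'_le_aux R a hpt hfin D hD' N p (hN p)⟩

end Idx

end Groth.Agent.Lib.T2H4.PtDual
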