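import Groth.Agent.Lib.T2H4PtDual2
import Groth.Agent.Lib.T2H4FibGor4
import Groth.Agent.Lib.T2H4FlatHom5

/-!
# Pointwise dualizing complexes over a finite-dimensional Noetherian ring are dualizing (helper4)
-/

set_option autoImplicit false
set_option linter.style.haveILetI false
set_option backward.isDefEq.respectTransparency.types false
universe u
open CategoryTheory CategoryTheory.Limits TensorProduct
attribute [local instance] HasDerivedCategory.standard

namespace Groth.Agent.Lib.T2H4.PtDual

open DerivedCategory Pretriangulated Groth.Agent.S14388 Groth.Agent.Lib.T2H4.LocalDual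
  Groth.Agent.Lib.T2H4.DComp Groth.Agent.Lib.T2H4.TorIndep Groth.Agent.Lib.Helper1.Extend
  Groth.Agent.Lib.Helper1.LDer Groth.Agent.Lib.T2H4.DualField Groth.Agent.Lib.T2H4.LocKL
  Groth.Agent.Lib.T2H4.DimFun Groth.Agent.Lib.T2H4.Recog Groth.Agent.Lib.T2H4.FlatHom
  Groth.Agent.Lib.T2H4.FibGor

variable {A : Type u} [CommRing A] [IsNoetherianRing A]

section Main

/-- **S11173**: a pointwise dualizing complex over a finite-dimensional Noetherian ring is
dualizing. -/
theorem isDualizing_of_pointwise (R : Dual.D A) (a : ℤ) [R.IsGE a]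
    [hL : ∀ p : PrimeSpectrum A,
      DRing.HasLBaseChange (algebraMap A (Localization.AtPrime p.asIdeal))]
    (hpt : ∀ p : PrimeSpectrum A, Dual.IsDualizing (Localization.AtPrime p.asIdeal)
      ((DRing.LBaseChange (algebraMap A (Localization.AtPrime p.asIdeal))).obj R))
    (hfin : ∀ i : ℤ, Module.Finite A (Dual.HD A R i))
    (hdim : ringKrullDim A < ⊤) : Dual.IsDualizing A R := by
  obtain ⟨b, hb⟩ := exists_idx'_le R a hpt hfin hdim
  have hmax : ∀ (𝔪 : Ideal A), 𝔪.IsMaximal → ∀ i : ℤ, b < i →
      Subsingleton (Dual.inD A (A ⧸ 𝔪) ⟶ R⟦i⟧) := by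
    intro 𝔪 h𝔪 i hi
    haveI := h𝔪
    let p : PrimeSpectrum A := ⟨𝔪, h𝔪.isPrime⟩
    have h1 : Van R p (A ⧸ p.asIdeal) i := (idx'_spec R a hpt p i).2 (by have := hb p; lia)
    have h2 := (van_quot_iff' R a p i).1 h1
    haveI := hL p
    exact subsingleton_hom_of_localization 𝔪 R a i h2
  have hfinH : ∀ (M : Type u) [AddCommGroup M] [Module A M] [Module.Finite A M] (i : ℤ),
      Module.Finite A (Dual.inD A M ⟶ R⟦i⟧) := fun M _ _ _ i =>
    finite_hom_inD_of_isGE R a hfin M i
  have hKa : ∀ i : ℤ, i < a → IsZero ((homologyFunctor (ModuleCat.{u} A) i).obj R) :=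
    (DerivedCategory.isGE_iff R a).1 inferInstance
  have hK : ∀ i : ℤ, (i < a ∨ b < i) → IsZero ((homologyFunctor (ModuleCat.{u} A) i).obj R) := by
    rintro i (hi | hi)
    · exact hKa i hi
    · have h1 := Groth.Agent.Lib.T2H4.Bass.subsingleton_hom_of_finite R hfinH b hmax A i hi
      have := (Groth.Agent.Lib.T2H4.HomRing.subsingleton_hom_inD_self_iff R i).1 h1
      exact ModuleCat.isZero_of_subsingleton _
  refine ⟨inferInstance, ⟨a, b, fun M _ _ i hi =>
    subsingleton_hom_of_maximal R a b hK hfin b hmax M i hi⟩, hfin, ?_, ?_⟩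
  · -- `A → End(R)` is bijective, locally
    let τ : A →ₗ[A] (R ⟶ R) := LinearMap.toSpanSingleton A _ (𝟙 R)
    show Function.Bijective τ
    refine bijective_of_isLocalized_maximal
      (fun P _ => Localization.AtPrime P ⊗[A] A)
      (fun P _ => TensorProduct.mk A (Localization.AtPrime P) A 1)
      (fun P _ => Localization.AtPrime P ⊗[A] (R ⟶ R))
      (fun P _ => TensorProduct.mk A (Localization.AtPrime P) (R ⟶ R) 1) τ (fun P hP => ?_)
    let B := Localization.AtPrime P
    have hmap : IsLocalizedModule.map P.primeCompl (TensorProduct.mk A B A 1)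
        (TensorProduct.mk A B (R ⟶ R) 1) τ = LinearMap.lTensor B τ := by
      apply IsLocalizedModule.linearMap_ext P.primeCompl (TensorProduct.mk A B A 1)
        (TensorProduct.mk A B (R ⟶ R) 1)
      rw [IsLocalizedModule.map_comp]
      ext
      simp
    rw [hmap]
    let p : PrimeSpectrum A := ⟨P, hP.isPrime⟩
    haveI := hL p
    haveI : Module.Flat A B := IsLocalization.flat B P.primeCompl
    have e0 : R⟦(0 : ℤ)⟧ ≅ R := (shiftFunctorZero (Dual.D A) ℤ).app R
    have hΘ : Function.Bijective (ΘN B (ηB B R) R) :=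
      ΘN_of_iso B e0 (bijective_ΘN_unit B R R a a b hK hfin 0)
    have hcomp : (⇑(ΘN B (ηB B R) R) ∘ ⇑(LinearMap.lTensor B τ)) ∘ ⇑(TensorProduct.rid A B).symm =
        ⇑((lbcAdj (algebraMap A B)).homEquiv R _) ∘
          (fun x : B => x • 𝟙 ((DRing.LBaseChange (algebraMap A B)).obj R)) := by
      funext x
      simp only [Function.comp_apply]
      rw [TensorProduct.rid_symm_apply, LinearMap.lTensor_tmul, ΘN_tmul,
        (lbcAdj (algebraMap A B)).homEquiv_unit]
      show ((1 : A) • 𝟙 R) ≫ _ = _
      rw [one_smul, Category.id_comp]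
    have h1 : Function.Bijective (⇑((lbcAdj (algebraMap A B)).homEquiv R _) ∘
        (fun x : B => x • 𝟙 ((DRing.LBaseChange (algebraMap A B)).obj R))) :=
      ((lbcAdj (algebraMap A B)).homEquiv R _).bijective.comp (hpt p).toEnd_bijective
    rw [← hcomp] at h1
    have h2 : Function.Bijective (⇑(ΘN B (ηB B R) R) ∘ ⇑(LinearMap.lTensor B τ)) :=
      (Function.Bijective.of_comp_iff _ (TensorProduct.rid A B).symm.bijective).1 h1
    exact (Function.Bijective.of_comp_iff' hΘ _).1 h2
  · -- no self-extensions, locally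
    intro i hi
    have key : ∀ f : R ⟶ R⟦i⟧, f = 0 := by
      intro f
      let I : Ideal A :=
        { carrier := {s | s • f = 0}
          add_mem' := fun {x y} hx hy => by
            show (x + y) • f = 0
            rw [add_smul, hx, hy, add_zero]
          zero_mem' := zero_smul _ _
          smul_mem' := fun c x hx => by
            show (c • x) • f = 0
            rw [smul_eq_mul, mul_smul, hx, smul_zero] }
      have hI : I = ⊤ := by
        by_contra hne
        obtain ⟨𝔪, h𝔪, hle⟩ := Ideal.exists_le_maximal I hne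
        let p : PrimeSpectrum A := ⟨𝔪, h𝔪.isPrime⟩
        have h1 := (hpt p).ext_self_subsingleton i hi
        obtain ⟨s, hs, hsf⟩ := (subsingleton_hom_lbc_iff p.asIdeal.primeCompl
          (Localization.AtPrime p.asIdeal) R R a a b hK hfin i).1 h1 f
        exact hs (hle hsf)
      have h1 : (1 : A) ∈ I := hI ▸ Submodule.mem_top
      have h2 : (1 : A) • f = 0 := h1
      rwa [one_smul] at h2
    exact ⟨fun f g => (key f).trans (key g).symm⟩

end Main

end Groth.Agent.Lib.T2H4.PtDual
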