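import Mathlib
import Groth.Prelude.Def_Cyc
import Groth.Agent.Lib.Helper1Sky3
import Groth.Agent.Lib.T2H4PullComp
set_option backward.isDefEq.respectTransparency.types false

/-!
# Flat pullback of the cycle of a coherent module (helper4)

Namespace `Groth.Agent.Lib.T2H4.PullSheafFun`.
-/

set_option autoImplicit false
set_option linter.style.haveILetI false
universe u
open CategoryTheory CategoryTheory.Limits AlgebraicGeometry TopologicalSpace Opposite TensorProduct

namespace Groth.Agent.Lib.T2H4.PullSheafFun

open Groth.Agent.Lib.Helper1.Sky Groth.Agent.Lib.Helper1.StalkTensor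
  Groth.Agent.Lib.Helper4.DimFormula Groth.Agent.Lib.T2H4.PullComp

variable {X Y : Scheme.{u}} (f : X ⟶ Y) (F : Y.Modules)

/-- the stalk of a pullback is the base change of the stalk -/
noncomputable def stalkEquiv (x : X) :
    letI : Algebra (Y.presheaf.stalk (f x)) (X.presheaf.stalk x) := (f.stalkMap x).hom.toAlgebra
    ((Scheme.Modules.pullback f).obj F).presheaf.stalk x ≃ₗ[X.presheaf.stalk x]
      (X.presheaf.stalk x ⊗[Y.presheaf.stalk (f x)] F.presheaf.stalk (f x)) :=
  ((stalkPullbackIso f x).app F).toLinearEquiv

/-- the length of the stalk of a flat pullback -/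
theorem length_stalk_pullback [Flat f] (x : X) :
    Module.length (X.presheaf.stalk x) (((Scheme.Modules.pullback f).obj F).presheaf.stalk x) =
      Module.length (Y.presheaf.stalk (f x)) (F.presheaf.stalk (f x)) *
        Module.length (X.presheaf.stalk x) (X.presheaf.stalk x ⧸
          Ideal.map (f.stalkMap x).hom (IsLocalRing.maximalIdeal (Y.presheaf.stalk (f x)))) := by
  letI : Algebra (Y.presheaf.stalk (f x)) (X.presheaf.stalk x) := (f.stalkMap x).hom.toAlgebra
  haveI : IsLocalHom (algebraMap (Y.presheaf.stalk (f x)) (X.presheaf.stalk x)) :=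
    inferInstanceAs (IsLocalHom (f.stalkMap x).hom)
  haveI : Module.Flat (Y.presheaf.stalk (f x)) (X.presheaf.stalk x) := Flat.stalkMap f x
  rw [(stalkEquiv f F x).length_eq]
  exact IsLocalRing.length_baseChange _ _ _

/-- the support of a pullback lies over the support -/
theorem nontrivial_of_nontrivial_pullback (x : X)
    (h : Nontrivial (((Scheme.Modules.pullback f).obj F).presheaf.stalk x)) :
    Nontrivial (F.presheaf.stalk (f x)) := by
  letI : Algebra (Y.presheaf.stalk (f x)) (X.presheaf.stalk x) := (f.stalkMap x).hom.toAlgebra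
  by_contra hn
  rw [not_nontrivial_iff_subsingleton] at hn
  haveI : Subsingleton (X.presheaf.stalk x ⊗[Y.presheaf.stalk (f x)] F.presheaf.stalk (f x)) :=
    inferInstance
  have : Subsingleton (((Scheme.Modules.pullback f).obj F).presheaf.stalk x) :=
    (stalkEquiv f F x).toEquiv.subsingleton
  exact not_subsingleton _ this

variable [Flat f] [LocallyOfFiniteType f]

/-- **`f^*[F]_k = [f^*F]_{k+r}`** -/
theorem main (δX : X → ℤ) (δY : Y → ℤ) (r : ℕ) (hr : Cyc.HasRelDim f r)
    (hδ : Cyc.DeltaCompat f δX δY) (k : ℤ)
    (hdim : ∀ y : Y, Nontrivial (F.presheaf.stalk y) → δY y ≤ k) :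
    (∀ x : X, Nontrivial (((Scheme.Modules.pullback f).obj F).presheaf.stalk x) → δX x ≤ k + r) ∧
      Cyc.pullFun f δX δY r (Cyc.sheafFun δY k F) =
        Cyc.sheafFun δX (k + r) ((Scheme.Modules.pullback f).obj F) := by
  have hle : ∀ x, ptTrdeg f x ≤ r := ptTrdeg_le f r hr
  have hdx : ∀ x, δX x = δY (f x) + ptTrdeg f x := delta_eq_add_ptTrdeg f δX δY hδ
  constructor
  · intro x hx
    have h1 := hdim (f x) (nontrivial_of_nontrivial_pullback f F x hx)
    have h2 := hle x
    rw [hdx x]
    omega
  · funext x
    unfold Cyc.pullFun Cyc.sheafFun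
    have h2 := hle x
    have h3 := hdx x
    by_cases h1 : δX x = δY (f x) + r
    · by_cases h4 : δY (f x) = k
      · rw [if_pos h1, if_pos h4, if_pos (by omega), length_stalk_pullback, ENat.toNat_mul]
        push_cast
        ring
      · rw [if_pos h1, if_neg h4, if_neg (by omega), zero_mul]
    · rw [if_neg h1]
      by_cases h5 : δX x = k + r
      · rw [if_pos h5]
        have h6 : ¬ Nontrivial (F.presheaf.stalk (f x)) := fun hn => by
          have := hdim (f x) hn
          omega
        have h7 : ¬ Nontrivial (((Scheme.Modules.pullback f).obj F).presheaf.stalk x) :=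
          fun hn => h6 (nontrivial_of_nontrivial_pullback f F x hn)
        rw [not_nontrivial_iff_subsingleton] at h7
        rw [Module.length_eq_zero]
        simp
      · rw [if_neg h5]

end Groth.Agent.Lib.T2H4.PullSheafFun
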