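import Mathlib
import Groth.Prelude.Def_Cyc
import Groth.Agent.Lib.T2H4PullSheafFun
import Groth.Agent.Lib.Helper4DimFormulaQ
set_option backward.isDefEq.respectTransparency.types false

/-!
# Flat pullback of cycles in the base change setting (helper4)

Namespace `Groth.Agent.Lib.T2H4.PullBC`.
-/

set_option autoImplicit false
set_option linter.style.haveILetI false
universe u
open CategoryTheory CategoryTheory.Limits AlgebraicGeometry TopologicalSpace Opposite TensorProduct

namespace Groth.Agent.Lib.T2H4.PullBC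

open Groth.Agent.Lib.T2H4.PullComp Groth.Agent.Lib.T2H4.PullSheafFun

section sheafFun

variable {X Y : Scheme.{u}} (f : X ⟶ Y) [Flat f] (F : Y.Modules)

/-- **`f^*[F]_k = [f^*F]_{k+a}`**, for dimension functions rising by at most `a` along `f` -/
theorem sheafFun_of_le (δX : X → ℤ) (δY : Y → ℤ) (a : ℤ) (hle : ∀ x, δX x ≤ δY (f x) + a) (k : ℤ)
    (hdim : ∀ y : Y, Nontrivial (F.presheaf.stalk y) → δY y ≤ k) :
    (∀ x : X, Nontrivial (((Scheme.Modules.pullback f).obj F).presheaf.stalk x) → δX x ≤ k + a) ∧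
      Cyc.pullFun f δX δY a (Cyc.sheafFun δY k F) =
        Cyc.sheafFun δX (k + a) ((Scheme.Modules.pullback f).obj F) := by
  constructor
  · intro x hx
    have h1 := hdim (f x) (nontrivial_of_nontrivial_pullback f F x hx)
    have h2 := hle x
    omega
  · funext x
    unfold Cyc.pullFun Cyc.sheafFun
    have h2 := hle x
    by_cases h1 : δX x = δY (f x) + a
    · by_cases h4 : δY (f x) = k
      · rw [if_pos h1, if_pos h4, if_pos (by omega), length_stalk_pullback, ENat.toNat_mul]
        push_cast
        ring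
      · rw [if_pos h1, if_neg h4, if_neg (by omega), zero_mul]
    · rw [if_neg h1]
      by_cases h5 : δX x = k + a
      · rw [if_pos h5]
        have h6 : ¬ Nontrivial (F.presheaf.stalk (f x)) := fun hn => by
          have := hdim (f x) hn
          omega
        have h7 : ¬ Nontrivial (((Scheme.Modules.pullback f).obj F).presheaf.stalk x) :=
          fun hn => h6 (nontrivial_of_nontrivial_pullback f F x hn)
        rw [not_nontrivial_iff_subsingleton] at h7
        rw [Module.length_eq_zero]
        simp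
      · rw [if_neg h5]

end sheafFun

section comp

variable {X X' X'' : Scheme.{u}} (p : X' ⟶ X) (p' : X'' ⟶ X')

/-- the shift condition for a composite -/
theorem shift_comp [Flat p'] (δ : X → ℤ) (δ' : X' → ℤ) (δ'' : X'' → ℤ) (c c' : ℤ)
    (hc : ∀ x' : X', (∀ y, p y = p x' → y ⤳ x' → y = x') → δ' x' = δ (p x') + c)
    (hc' : ∀ x'' : X'', (∀ y, p' y = p' x'' → y ⤳ x'' → y = x'') → δ'' x'' = δ' (p' x'') + c')
    (x'' : X'') (hmax : ∀ y, (p' ≫ p) y = (p' ≫ p) x'' → y ⤳ x'' → y = x'') :
    δ'' x'' = δ ((p' ≫ p) x'') + (c + c') := by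
  have h1 : ∀ y, p' y = p' x'' → y ⤳ x'' → y = x'' := fun y hy hyx =>
    hmax y (congrArg p hy) hyx
  have h2 : ∀ y', p y' = p (p' x'') → y' ⤳ p' x'' → y' = p' x'' := by
    intro y' hy' hyx
    obtain ⟨y'', hy'', rfl⟩ := (Flat.generalizingMap (f := p')) hyx
    rw [hmax y'' hy' hy'']
  have h3 := hc' x'' h1
  have h4 := hc (p' x'') h2
  have hz : (p' ≫ p) x'' = p (p' x'') := rfl
  rw [hz]
  omega

end comp

end Groth.Agent.Lib.T2H4.PullBC
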