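import Mathlib

/-!
# Pure ideals and closed subsets stable under generalization (helper4)

Ring-level input for S9352 (Stacks 04PU, 052U):

* `pureOf J`: the ideal `{x | x ∈ x J}`.
* `exists_pure_zeroLocus_eq`: a closed subset of `Spec R` stable under generalization is the zero locus of a
  pure ideal.
* `pure_map`: the extension of a pure ideal along a ring map is pure.
* `isOpen_zeroLocus_of_pure`: if `R ⧸ I` is finitely presented and `I` is pure, `V(I)` is open.
-/

set_option autoImplicit false
set_option linter.style.haveILetI false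

namespace Groth.Agent.Lib.T2H4.Pure

open PrimeSpectrum TensorProduct

variable {R : Type*} [CommRing R]

/-- the ideal `{x | x ∈ x J}`. -/
def pureOf (J : Ideal R) : Ideal R where
  carrier := {x | ∃ j ∈ J, x = x * j}
  add_mem' := by
    rintro x y ⟨f, hf, hx⟩ ⟨g, hg, hy⟩
    refine ⟨f + g - f * g, J.sub_mem (J.add_mem hf hg) (J.mul_mem_left _ hg), ?_⟩
    have h : (x + y) * (f + g - f * g) =
        x * f + (x * g - (x * f) * g) + (y * f - (y * g) * f) + y * g := by ring
    rw [h, ← hx, ← hy]
    ring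
  zero_mem' := ⟨0, J.zero_mem, by simp⟩
  smul_mem' := by
    rintro c x ⟨f, hf, hx⟩
    exact ⟨f, hf, by rw [smul_eq_mul, mul_assoc, ← hx]⟩

theorem mem_pureOf {J : Ideal R} {x : R} : x ∈ pureOf J ↔ ∃ j ∈ J, x = x * j := Iff.rfl

theorem pureOf_le (J : Ideal R) : pureOf J ≤ J := by
  rintro x ⟨j, hj, hx⟩
  rw [hx]
  exact J.mul_mem_left _ hj

/-- the submonoid `(R ∖ p)(1 + J)`. -/
def avoidMonoid (p J : Ideal R) [p.IsPrime] : Submonoid R where
  carrier := {x | ∃ s, s ∉ p ∧ ∃ j ∈ J, x = s * (1 + j)}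
  mul_mem' := by
    rintro a b ⟨s, hs, j, hj, rfl⟩ ⟨t, ht, k, hk, rfl⟩
    refine ⟨s * t, fun h => ?_, j + k + j * k, J.add_mem (J.add_mem hj hk) (J.mul_mem_left _ hk), by ring⟩
    rcases Ideal.IsPrime.mem_or_mem inferInstance h with h | h
    · exact hs h
    · exact ht h
  one_mem' := ⟨1, Ideal.IsPrime.one_notMem inferInstance, 0, J.zero_mem, by simp⟩

theorem zeroLocus_pureOf (J : Ideal R)
    (hJ : StableUnderGeneralization (zeroLocus (J : Set R))) :
    zeroLocus (pureOf J : Set R) = zeroLocus (J : Set R) := by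
  apply Set.Subset.antisymm
  · intro p hp
    rw [mem_zeroLocus, SetLike.coe_subset_coe] at hp ⊢
    haveI := p.isPrime
    have h0 : Disjoint ((⊥ : Ideal R) : Set R) (avoidMonoid p.asIdeal J) := by
      rw [Set.disjoint_left]
      rintro x hx ⟨s, hs, j, hj, hxs⟩
      have hx0 : x = 0 := hx
      apply hs
      apply hp
      refine ⟨-j, J.neg_mem hj, ?_⟩
      have : s * (1 + j) = 0 := by rw [← hxs, hx0]
      linear_combination this
    obtain ⟨q, hq, -, hdisj⟩ := Ideal.exists_le_prime_disjoint (⊥ : Ideal R) _ h0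
    rw [Set.disjoint_left] at hdisj
    have hqp : q ≤ p.asIdeal := by
      intro a ha
      by_contra hap
      exact hdisj ha ⟨a, hap, 0, J.zero_mem, by simp⟩
    have hqJ : q ⊔ J ≠ ⊤ := by
      intro htop
      have h1 : (1 : R) ∈ q ⊔ J := by rw [htop]; trivial
      obtain ⟨a, ha, j, hj, haj⟩ := Submodule.mem_sup.mp h1
      exact hdisj ha ⟨1, Ideal.IsPrime.one_notMem inferInstance, -j, J.neg_mem hj, by
        linear_combination haj⟩
    obtain ⟨m, hm, hle⟩ := Ideal.exists_le_maximal _ hqJ
    have hmZ : (⟨m, hm.isPrime⟩ : PrimeSpectrum R) ∈ zeroLocus (J : Set R) := by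
      rw [mem_zeroLocus, SetLike.coe_subset_coe]
      exact le_trans le_sup_right hle
    have hspec : (⟨q, hq⟩ : PrimeSpectrum R) ⤳ ⟨m, hm.isPrime⟩ := by
      rw [← PrimeSpectrum.le_iff_specializes]
      exact (show q ≤ m from le_trans le_sup_left hle)
    have hqZ := hJ hspec hmZ
    rw [mem_zeroLocus, SetLike.coe_subset_coe] at hqZ
    exact le_trans hqZ hqp
  · exact zeroLocus_anti_mono (pureOf_le J)

theorem pure_of_forall_exists_eq_mul (I : Ideal R) (h : ∀ x ∈ I, ∃ y ∈ I, x = x * y) : I.Pure := by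
  apply Ideal.Pure.of_inf_eq_mul
  intro K _
  apply le_antisymm
  · rintro x ⟨hxI, hxK⟩
    obtain ⟨y, hy, hxy⟩ := h x hxI
    rw [hxy, mul_comm x y]
    exact Ideal.mul_mem_mul hy hxK
  · exact Ideal.mul_le_inf

theorem pure_pureOf (J : Ideal R)
    (hJ : StableUnderGeneralization (zeroLocus (J : Set R))) : (pureOf J).Pure := by
  apply pure_of_forall_exists_eq_mul
  rintro x ⟨j, hj, hx⟩
  have hrad : J ≤ (pureOf J).radical := by
    rw [← PrimeSpectrum.zeroLocus_subset_zeroLocus_iff, zeroLocus_pureOf J hJ]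
  obtain ⟨n, hn⟩ := hrad hj
  refine ⟨j ^ n, hn, ?_⟩
  clear hn
  induction n with
  | zero => simp
  | succ n ih => rw [pow_succ, ← mul_assoc, ← ih, ← hx]

/-- Stacks 04PU: closed subsets stable under generalization are zero loci of pure ideals. -/
theorem exists_pure_zeroLocus_eq (Z : Set (PrimeSpectrum R)) (hZ : IsClosed Z)
    (hg : StableUnderGeneralization Z) : ∃ I : Ideal R, I.Pure ∧ zeroLocus (I : Set R) = Z := by
  have hZ' : zeroLocus (vanishingIdeal Z : Set R) = Z := by
    rw [zeroLocus_vanishingIdeal_eq_closure, hZ.closure_eq]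
  have hg' : StableUnderGeneralization (zeroLocus (vanishingIdeal Z : Set R)) := by rwa [hZ']
  exact ⟨pureOf (vanishingIdeal Z), pure_pureOf _ hg', (zeroLocus_pureOf _ hg').trans hZ'⟩

/-- the extension of a pure ideal is pure. -/
theorem pure_map {S : Type*} [CommRing S] [Algebra R S] (I : Ideal R) [I.Pure] :
    (I.map (algebraMap R S)).Pure := by
  have : Module.Flat S (S ⊗[R] (R ⧸ I)) := inferInstance
  exact Module.Flat.of_linearEquiv
    (Algebra.TensorProduct.quotIdealMapEquivTensorQuot S I).toLinearEquiv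

theorem zeroLocus_singleton_of_isIdempotentElem {e : R} (he : IsIdempotentElem e) :
    zeroLocus ({e} : Set R) = (basicOpen (1 - e) : Set (PrimeSpectrum R)) := by
  ext p
  simp only [mem_zeroLocus, Set.singleton_subset_iff, SetLike.mem_coe, mem_basicOpen]
  constructor
  · intro h1 h2
    exact p.isPrime.one_notMem (by simpa using p.asIdeal.add_mem h1 h2)
  · intro h
    have h0 : e * (1 - e) ∈ p.asIdeal := by
      have : e * (1 - e) = 0 := by rw [mul_sub, mul_one, he.eq, sub_self]
      rw [this]; exact p.asIdeal.zero_mem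
    exact (p.isPrime.mem_or_mem h0).resolve_right h

/-- Stacks 04PV/052U: a pure ideal with finitely presented quotient has open zero locus. -/
theorem isOpen_zeroLocus_of_pure (I : Ideal R) [I.Pure] [Module.FinitePresentation R (R ⧸ I)] :
    IsOpen (zeroLocus (I : Set R)) := by
  have hfg : I.FG := by
    have := Module.FinitePresentation.fg_ker (Submodule.mkQ I) (Submodule.mkQ_surjective I)
    rwa [Submodule.ker_mkQ] at this
  obtain ⟨e, he, hI⟩ := (Ideal.isIdempotentElem_iff_of_fg I hfg).mp (Ideal.isIdempotentElem_of_pure I)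
  have : zeroLocus (I : Set R) = zeroLocus ({e} : Set R) := by
    rw [hI]
    exact zeroLocus_span _
  rw [this, zeroLocus_singleton_of_isIdempotentElem he]
  exact (basicOpen (1 - e)).isOpen

end Groth.Agent.Lib.T2H4.Pure
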