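import Mathlib
import Groth.Prelude.Def_ClSub2
import Groth.Agent.Lib.T2H4PureA
import Groth.Agent.Lib.Helper23GenLocus
import Groth.Agent.Lib.T2H5GenIsoD
import Groth.Agent.Lib.T2H5GenIsoF
import Groth.Agent.Lib.Helper26ModLocFree
import Groth.Agent.Lib.Helper2LocFree

/-!
# The pure ideal sheaf of a closed subset stable under generalization (helper4)

The other direction of S9352 (Stacks 052U): if every finite type flat quasi-coherent module is finite locally
free, closed subsets stable under generalization are open.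
-/

set_option autoImplicit false
set_option linter.style.haveILetI false
set_option linter.unusedSectionVars false
universe u

open CategoryTheory AlgebraicGeometry TopologicalSpace Opposite PrimeSpectrum

namespace Groth.Agent.Lib.T2H4.PureC

open Groth.Agent.Lib.T2H4.Pure Groth.Agent.Lib.Helper23.GenLocus Groth.Agent.Lib.Helper2.LocFree
  Groth.Agent.Lib.Helper20.PullbackAff Groth.Agent.Lib.Helper20.Thickening

variable {X : Scheme.{u}} (Z : Set X)

/-- the trace of `Z` on the spectrum of an affine open. -/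
def trace (U : X.affineOpens) : Set (PrimeSpectrum Γ(X, U.1)) := U.2.fromSpec ⁻¹' Z

variable {Z}

theorem isClosed_trace (hZ : IsClosed Z) (U : X.affineOpens) : IsClosed (trace Z U) :=
  hZ.preimage U.2.fromSpec.continuous

theorem stable_trace (hg : StableUnderGeneralization Z) (U : X.affineOpens) :
    StableUnderGeneralization (trace Z U) := by
  intro p q hqp hp
  exact hg (hqp.map U.2.fromSpec.continuous) hp

variable (hZ : IsClosed Z) (hg : StableUnderGeneralization Z)

/-- the pure ideal of the trace of `Z`. -/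
noncomputable def pIdeal (U : X.affineOpens) : Ideal Γ(X, U.1) :=
  (exists_pure_zeroLocus_eq (trace Z U) (isClosed_trace hZ U) (stable_trace hg U)).choose

theorem pure_pIdeal (U : X.affineOpens) : (pIdeal hZ hg U).Pure :=
  (exists_pure_zeroLocus_eq (trace Z U) (isClosed_trace hZ U) (stable_trace hg U)).choose_spec.1

theorem zeroLocus_pIdeal (U : X.affineOpens) :
    zeroLocus (pIdeal hZ hg U : Set Γ(X, U.1)) = trace Z U :=
  (exists_pure_zeroLocus_eq (trace Z U) (isClosed_trace hZ U) (stable_trace hg U)).choose_spec.2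

theorem trace_basicOpen (U : X.affineOpens) (f : Γ(X, U.1)) :
    trace Z (X.affineBasicOpen f) =
      PrimeSpectrum.comap (X.presheaf.map (homOfLE (X.basicOpen_le f)).op).hom ⁻¹' trace Z U := by
  have h := U.2.map_fromSpec (X.affineBasicOpen f).2 (homOfLE (X.basicOpen_le f)).op
  ext p
  have hp : U.2.fromSpec
      (PrimeSpectrum.comap (X.presheaf.map (homOfLE (X.basicOpen_le f)).op).hom p) =
      (X.affineBasicOpen f).2.fromSpec p := by
    rw [← h]
    rfl
  show (X.affineBasicOpen f).2.fromSpec p ∈ Z ↔ U.2.fromSpec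
    (PrimeSpectrum.comap (X.presheaf.map (homOfLE (X.basicOpen_le f)).op).hom p) ∈ Z
  rw [hp]

theorem map_pIdeal (U : X.affineOpens) (f : Γ(X, U.1)) :
    (pIdeal hZ hg U).map (X.presheaf.map (homOfLE (X.basicOpen_le f)).op).hom =
      pIdeal hZ hg (X.affineBasicOpen f) := by
  letI : Algebra Γ(X, U.1) Γ(X, (X.affineBasicOpen f).1) :=
    (X.presheaf.map (homOfLE (X.basicOpen_le f)).op).hom.toAlgebra
  haveI := pure_pIdeal hZ hg U
  haveI h1 : ((pIdeal hZ hg U).map (algebraMap Γ(X, U.1) Γ(X, (X.affineBasicOpen f).1))).Pure :=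
    pure_map (pIdeal hZ hg U)
  haveI h2 := pure_pIdeal hZ hg (X.affineBasicOpen f)
  refine (Ideal.zeroLocus_inj_of_pure (I := (pIdeal hZ hg U).map
    (algebraMap Γ(X, U.1) Γ(X, (X.affineBasicOpen f).1)))
    (J := pIdeal hZ hg (X.affineBasicOpen f))).mp ?_
  rw [zeroLocus_pIdeal, trace_basicOpen, ← zeroLocus_pIdeal hZ hg U, preimage_comap_zeroLocus,
    Ideal.map, zeroLocus_span]
  rfl

/-- the pure ideal sheaf with support `Z`. -/
noncomputable def pSheaf : X.IdealSheafData where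
  ideal U := pIdeal hZ hg U
  map_ideal_basicOpen U f := map_pIdeal hZ hg U f

theorem pSheaf_ideal (U : X.affineOpens) : (pSheaf hZ hg).ideal U = pIdeal hZ hg U := rfl

section quot

variable (I : X.IdealSheafData) {W : X.Opens} (hW : IsAffineOpen W)

/-- the class of a function in `O/I`, as a linear map. -/
noncomputable def clsₗ : Γ(X, W) →ₗ[Γ(X, W)] Γ(ClSub.quotMod I, W) where
  toFun b := (ClSub.toSubscheme I).app W (toS W b)
  map_add' a b := by
    have : toS W (a + b) = toS W a + toS W b := rfl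
    rw [this, map_add]
  map_smul' r b := by
    rw [RingHom.id_apply, ← Scheme.Modules.Hom.app_smul, smul_toS]
    rfl

include hW in
theorem clsₗ_surjective : Function.Surjective (clsₗ I (W := W)) :=
  fun s => I.subschemeι_app_surjective ⟨W, hW⟩ s

theorem ker_clsₗ : LinearMap.ker (clsₗ I (W := W)) = I.ideal ⟨W, hW⟩ := by
  ext a
  rw [LinearMap.mem_ker, ← Scheme.IdealSheafData.ker_subschemeι_app I ⟨W, hW⟩, RingHom.mem_ker]
  rfl

/-- sections of `O/I` over an affine open. -/
noncomputable def quotEquiv : (Γ(X, W) ⧸ I.ideal ⟨W, hW⟩) ≃ₗ[Γ(X, W)] Γ(ClSub.quotMod I, W) :=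
  (Submodule.quotEquivOfEq _ _ (ker_clsₗ I hW).symm).trans
    ((clsₗ I (W := W)).quotKerEquivOfSurjective (clsₗ_surjective I hW))

end quot

theorem isCoh_quotMod (I : X.IdealSheafData) : Coh.IsCoh (ClSub.quotMod I) :=
  Groth.Agent.Lib.T2H5.GenIsoD.isCoh_pushforward I.subschemeι _
    Groth.Agent.Lib.T2H5.GenIsoF.isCoh_structureModule

theorem isFlat_quotMod_pSheaf : FlatMod.IsFlat (ClSub.quotMod (pSheaf hZ hg)) := by
  haveI : (ClSub.quotMod (pSheaf hZ hg)).IsQuasicoherent := (isCoh_quotMod _).1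
  intro x
  obtain ⟨V, hV, hxV, -⟩ := exists_isAffineOpen_mem_and_subset (x := x) (U := ⊤) trivial
  haveI : ((pSheaf hZ hg).ideal ⟨V, hV⟩).Pure := pure_pIdeal hZ hg ⟨V, hV⟩
  have hfl : Module.Flat Γ(X, V) Γ(ClSub.quotMod (pSheaf hZ hg), V) :=
    Module.Flat.of_linearEquiv (quotEquiv (pSheaf hZ hg) hV).symm
  exact isFlatAt_of_flat_sections _ hV hfl x hxV

include hZ hg in
theorem isOpen_of_forall_isFinLocFree
    (H : ∀ F : X.Modules, Coh.IsQCoh F → CohB1.IsFT F → FlatMod.IsFlat F → FlatMod.IsFinLocFree F) :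
    IsOpen Z := by
  have hcoh := isCoh_quotMod (pSheaf hZ hg)
  haveI : (ClSub.quotMod (pSheaf hZ hg)).IsQuasicoherent := hcoh.1
  have hlf := H _ hcoh.1 hcoh.2 (isFlat_quotMod_pSheaf hZ hg)
  rw [isOpen_iff_forall_mem_open]
  intro x hx
  obtain ⟨V, hV, hxV, -⟩ := exists_isAffineOpen_mem_and_subset (x := x) (U := ⊤) trivial
  haveI : ((pSheaf hZ hg).ideal ⟨V, hV⟩).Pure := pure_pIdeal hZ hg ⟨V, hV⟩
  obtain ⟨hfp, -⟩ := Groth.Agent.Lib.Helper26.ModLocFree.fp_flat_sections_of_isFinLocFree _ hlf hV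
  haveI : Module.FinitePresentation Γ(X, V) (Γ(X, V) ⧸ (pSheaf hZ hg).ideal ⟨V, hV⟩) :=
    Module.FinitePresentation.of_equiv
      ((ΓUEquiv hV (ClSub.quotMod (pSheaf hZ hg))).symm.trans (quotEquiv (pSheaf hZ hg) hV).symm)
  have hop : IsOpen (trace Z ⟨V, hV⟩) := by
    rw [← zeroLocus_pIdeal hZ hg ⟨V, hV⟩]
    exact isOpen_zeroLocus_of_pure ((pSheaf hZ hg).ideal ⟨V, hV⟩)
  refine ⟨hV.fromSpec '' trace Z ⟨V, hV⟩, ?_, hV.fromSpec.isOpenEmbedding.isOpenMap _ hop, ?_⟩
  · rintro _ ⟨p, hp, rfl⟩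
    exact hp
  · refine ⟨hV.primeIdealOf ⟨x, hxV⟩, ?_, hV.fromSpec_primeIdealOf ⟨x, hxV⟩⟩
    show hV.fromSpec (hV.primeIdealOf ⟨x, hxV⟩) ∈ Z
    rw [hV.fromSpec_primeIdealOf ⟨x, hxV⟩]
    exact hx

end Groth.Agent.Lib.T2H4.PureC
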