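import Mathlib
import Groth.Agent.Lib.Helper28Depth
import Groth.Agent.Lib.Helper28DepthLoc

/-!
# Algebra for the depth of direct images (helper4)

* `exists_smul_eq_zero_of_flat`, `exists_smul_eq_smul_of_flat`: regularity and divisibility "up to a
  multiplicative set" on a flat module, from a weakly regular sequence on the localization.
* `two_le_depth_of_forall`: a depth-two criterion over a Noetherian local ring in terms of generators of the
  maximal ideal.
* `one_le_depth_of_isSMulRegular`, `two_le_depth_of_isSMulRegular`: elementary lower bounds on the depth.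
-/

set_option autoImplicit false
universe u
open RingTheory.Sequence TensorProduct Pointwise

namespace Groth.Agent.Lib.T2H4.PushDepthAlg

open Groth.Agent.Lib.Helper28

section Flat

variable {R : Type*} [CommRing R] (T : Submonoid R) (A : Type*) [CommRing A] [Algebra R A]
  [IsLocalization T A] (N : Type*) [AddCommGroup N] [Module R N] [Module.Flat R N]

theorem isWeaklyRegular_tensor_of_flat {rs : List A} (h : IsWeaklyRegular A rs) :
    IsWeaklyRegular (A ⊗[R] N) rs := by
  have h1 : IsWeaklyRegular ((A ⊗[R] N) ⊗[A] A) rs := h.isWeaklyRegular_lTensor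
  exact ((TensorProduct.rid A (A ⊗[R] N)).isWeaklyRegular_congr rs).mp h1

include T in
theorem exists_smul_eq_zero_of_tmul_eq_zero (n : N) (hn : (1 : A) ⊗ₜ[R] n = 0) :
    ∃ h ∈ T, h • n = 0 := by
  have h1 : TensorProduct.mk R A N 1 n = 0 := hn
  rw [IsLocalizedModule.eq_zero_iff T] at h1
  obtain ⟨c, hc⟩ := h1
  exact ⟨c.1, c.2, hc⟩

theorem algebraMap_smul_one_tmul (x : R) (n : N) :
    algebraMap R A x • ((1 : A) ⊗ₜ[R] n) = (1 : A) ⊗ₜ[R] (x • n) := by
  rw [TensorProduct.smul_tmul', smul_eq_mul, mul_one, Algebra.algebraMap_eq_smul_one,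
    TensorProduct.smul_tmul]

include T in
/-- If `x` is a nonzerodivisor on the localization `A = T⁻¹R` and `N` is `R`-flat, then `x n = 0` implies
`h n = 0` for some `h ∈ T`. -/
theorem exists_smul_eq_zero_of_flat (x : R) (hx : IsSMulRegular A (algebraMap R A x)) (n : N)
    (hn : x • n = 0) : ∃ h ∈ T, h • n = 0 := by
  have hw : IsWeaklyRegular (A ⊗[R] N) [algebraMap R A x] :=
    isWeaklyRegular_tensor_of_flat A N ((isWeaklyRegular_singleton_iff A _).mpr hx)
  have hreg : IsSMulRegular (A ⊗[R] N) (algebraMap R A x) :=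
    (isWeaklyRegular_singleton_iff _ _).mp hw
  apply exists_smul_eq_zero_of_tmul_eq_zero T A N n
  apply hreg
  change algebraMap R A x • ((1 : A) ⊗ₜ[R] n) = algebraMap R A x • 0
  rw [algebraMap_smul_one_tmul, hn, TensorProduct.tmul_zero, smul_zero]

include T in
/-- If `[x, y]` is a weakly regular sequence on the localization `A = T⁻¹R` and `N` is `R`-flat, then
`y n ∈ x N` up to `T` implies `n ∈ x N` up to `T`. -/
theorem exists_smul_eq_smul_of_flat (x y : R)
    (hxy : IsWeaklyRegular A [algebraMap R A x, algebraMap R A y]) (n : N)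
    (hn : ∃ h ∈ T, ∃ v : N, h • y • n = x • v) : ∃ h ∈ T, ∃ v : N, h • n = x • v := by
  obtain ⟨h, hT, v, hv⟩ := hn
  have hw : IsWeaklyRegular (A ⊗[R] N) [algebraMap R A x, algebraMap R A y] :=
    isWeaklyRegular_tensor_of_flat A N hxy
  rw [isWeaklyRegular_cons_iff, isWeaklyRegular_singleton_iff] at hw
  obtain ⟨-, hy⟩ := hw
  -- the class of `1 ⊗ n` modulo `x` is killed by `y`
  have hu : IsUnit (algebraMap R A h) := IsLocalization.map_units A ⟨h, hT⟩
  obtain ⟨u, hu'⟩ := hu
  have h1 : algebraMap R A y • ((1 : A) ⊗ₜ[R] n) =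
      algebraMap R A x • ((↑u⁻¹ : A) • ((1 : A) ⊗ₜ[R] v)) := by
    have h2 : algebraMap R A h • (algebraMap R A y • ((1 : A) ⊗ₜ[R] n)) =
        algebraMap R A x • ((1 : A) ⊗ₜ[R] v) := by
      rw [algebraMap_smul_one_tmul, algebraMap_smul_one_tmul, algebraMap_smul_one_tmul, hv]
    have h3 : (↑u⁻¹ : A) • (algebraMap R A h • (algebraMap R A y • ((1 : A) ⊗ₜ[R] n))) =
        (↑u⁻¹ : A) • (algebraMap R A x • ((1 : A) ⊗ₜ[R] v)) := by rw [h2]
    rw [← hu', smul_smul, Units.inv_mul, one_smul] at h3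
    rw [h3, smul_comm]
  have h4 : Submodule.Quotient.mk (p := algebraMap R A x • (⊤ : Submodule A (A ⊗[R] N)))
      ((1 : A) ⊗ₜ[R] n) = 0 := by
    apply hy
    change algebraMap R A y • Submodule.Quotient.mk (p := algebraMap R A x • (⊤ : Submodule A (A ⊗[R] N)))
      ((1 : A) ⊗ₜ[R] n) = algebraMap R A y • 0
    rw [smul_zero, ← Submodule.Quotient.mk_smul, Submodule.Quotient.mk_eq_zero, h1]
    exact Submodule.smul_mem_pointwise_smul _ _ _ Submodule.mem_top
  rw [Submodule.Quotient.mk_eq_zero, Submodule.mem_smul_pointwise_iff_exists] at h4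
  obtain ⟨w, -, hw⟩ := h4
  obtain ⟨⟨v', t'⟩, ht'⟩ := IsLocalizedModule.surj T (TensorProduct.mk R A N 1) w
  have ht'' : (t' : R) • w = (1 : A) ⊗ₜ[R] v' := ht'
  have h5 : (1 : A) ⊗ₜ[R] ((t' : R) • n - x • v') = 0 := by
    have e1 : (1 : A) ⊗ₜ[R] ((t' : R) • n) = algebraMap R A t' • (algebraMap R A x • w) := by
      rw [← algebraMap_smul_one_tmul, hw]
    have e2 : (1 : A) ⊗ₜ[R] (x • v') = algebraMap R A x • (algebraMap R A t' • w) := by
      rw [← algebraMap_smul_one_tmul, ← ht'', algebraMap_smul A (t' : R) w]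
    rw [TensorProduct.tmul_sub, e1, e2, smul_comm, sub_self]
  obtain ⟨c, hc, hc'⟩ := exists_smul_eq_zero_of_tmul_eq_zero T A N _ h5
  refine ⟨c * t', T.mul_mem hc t'.2, c • v', ?_⟩
  rw [smul_sub, sub_eq_zero] at hc'
  rw [mul_smul, hc', smul_comm]

end Flat

section Depth

variable {A : Type u} [CommRing A] [IsLocalRing A] {M : Type u} [AddCommGroup M] [Module A M]

theorem one_le_depth_of_isSMulRegular (x : A) (hx : x ∈ IsLocalRing.maximalIdeal A)
    (hxr : IsSMulRegular M x) : (1 : ℕ∞) ≤ LocCoh.depth A M := by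
  have h := length_le_idealDepth (I := IsLocalRing.maximalIdeal A) (M := M) (rs := [x])
    ((isWeaklyRegular_singleton_iff M x).mpr hxr) (by simpa using hx)
  simpa [LocCoh.depth] using h

theorem isSMulRegular_quotSMulTop_of_forall (x y : A)
    (hyr : ∀ t : M, (∃ v : M, y • t = x • v) → ∃ v : M, t = x • v) :
    IsSMulRegular (QuotSMulTop x M) y := by
  rw [isSMulRegular_iff_right_eq_zero_of_smul]
  intro q hq
  obtain ⟨t, rfl⟩ := Submodule.Quotient.mk_surjective _ q
  rw [← Submodule.Quotient.mk_smul, Submodule.Quotient.mk_eq_zero,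
    Submodule.mem_smul_pointwise_iff_exists] at hq
  obtain ⟨v, -, hv⟩ := hq
  obtain ⟨v', rfl⟩ := hyr t ⟨v, hv.symm⟩
  rw [Submodule.Quotient.mk_eq_zero]
  exact Submodule.smul_mem_pointwise_smul _ _ _ Submodule.mem_top

theorem two_le_depth_of_isSMulRegular (x y : A) (hx : x ∈ IsLocalRing.maximalIdeal A)
    (hy : y ∈ IsLocalRing.maximalIdeal A) (hxr : IsSMulRegular M x)
    (hyr : ∀ t : M, (∃ v : M, y • t = x • v) → ∃ v : M, t = x • v) :
    (2 : ℕ∞) ≤ LocCoh.depth A M := by
  have hw : IsWeaklyRegular M [x, y] := by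
    rw [isWeaklyRegular_cons_iff, isWeaklyRegular_singleton_iff]
    exact ⟨hxr, isSMulRegular_quotSMulTop_of_forall x y hyr⟩
  have h := length_le_idealDepth (I := IsLocalRing.maximalIdeal A) (M := M) (rs := [x, y]) hw
    (by
      intro r hr
      simp only [List.mem_cons, List.not_mem_nil, or_false] at hr
      rcases hr with rfl | rfl
      · exact hx
      · exact hy)
  simpa [LocCoh.depth] using h

variable [IsNoetherianRing A] [Module.Finite A M]

/-- A depth-two criterion: `a i` generate the maximal ideal; no nonzero element of `M` is killed by all `a i`, and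
for every `M`-regular `x` in the maximal ideal no nonzero element of `M/xM` is killed by all `a i`. -/
theorem two_le_depth_of_forall {ι : Type*} (a : ι → A)
    (ha : Ideal.span (Set.range a) = IsLocalRing.maximalIdeal A)
    (P1 : ∀ t : M, (∀ i, a i • t = 0) → t = 0)
    (P2 : ∀ x ∈ IsLocalRing.maximalIdeal A, IsSMulRegular M x →
      ∀ t : M, (∀ i, ∃ v : M, a i • t = x • v) → ∃ v : M, t = x • v) :
    (2 : ℕ∞) ≤ LocCoh.depth A M := by
  rcases subsingleton_or_nontrivial M with hM | hM
  · rw [depth_eq_top_of_subsingleton]; exact le_top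
  have hmem : ∀ i, a i ∈ IsLocalRing.maximalIdeal A := fun i =>
    ha ▸ Ideal.subset_span (Set.mem_range_self i)
  -- a general consequence: an element killed by the maximal ideal is killed by all `a i`
  have hIM : IsLocalRing.maximalIdeal A • (⊤ : Submodule A M) ≠ ⊤ := maximalIdeal_smul_top_ne_top
  have h0 : LocCoh.depth A M ≠ 0 := by
    intro hass
    rw [depth_eq_zero_iff] at hass
    obtain ⟨-, t, ht⟩ := (isAssociatedPrime_iff (M := M)).mp hass
    have ht0 : t = 0 := P1 t (fun i => by
      have h1 : a i ∈ Submodule.colon (⊥ : Submodule A M) {t} := ht ▸ hmem i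
      rw [Submodule.mem_colon_singleton, Submodule.mem_bot] at h1
      exact h1)
    have h1 : (1 : A) ∈ IsLocalRing.maximalIdeal A := by
      rw [ht, Submodule.mem_colon_singleton, ht0, smul_zero]
      exact (Submodule.mem_bot A).mpr rfl
    exact (Ideal.ne_top_iff_one _).mp (IsLocalRing.maximalIdeal.isMaximal A).ne_top h1
  have h1 : (1 : ℕ∞) ≤ LocCoh.depth A M := Order.one_le_iff_ne_zero.mpr h0
  obtain ⟨x, hx, hxr⟩ := (one_le_idealDepth_iff hIM).mp h1
  have hadd := idealDepth_quotSMulTop_add_one (IsLocalRing.maximalIdeal A) M hIM x hx hxr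
  have hQ0 : LocCoh.depth A (QuotSMulTop x M) ≠ 0 := by
    intro hass
    rw [depth_eq_zero_iff] at hass
    obtain ⟨-, q, hq⟩ := (isAssociatedPrime_iff (M := QuotSMulTop x M)).mp hass
    obtain ⟨t, rfl⟩ := Submodule.Quotient.mk_surjective _ q
    have ht : ∃ v : M, t = x • v := P2 x hx hxr t (fun i => by
      have h1 : a i ∈ Submodule.colon (⊥ : Submodule A (QuotSMulTop x M))
          {Submodule.Quotient.mk t} := hq ▸ hmem i
      rw [Submodule.mem_colon_singleton, Submodule.mem_bot, ← Submodule.Quotient.mk_smul,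
        Submodule.Quotient.mk_eq_zero, Submodule.mem_smul_pointwise_iff_exists] at h1
      obtain ⟨v, -, hv⟩ := h1
      exact ⟨v, hv.symm⟩)
    obtain ⟨v, rfl⟩ := ht
    have h2 : Submodule.Quotient.mk (p := x • (⊤ : Submodule A M)) (x • v) = 0 := by
      rw [Submodule.Quotient.mk_eq_zero]
      exact Submodule.smul_mem_pointwise_smul _ _ _ Submodule.mem_top
    have h1 : (1 : A) ∈ IsLocalRing.maximalIdeal A := by
      rw [hq, Submodule.mem_colon_singleton, h2, smul_zero]
      exact (Submodule.mem_bot A).mpr rfl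
    exact (Ideal.ne_top_iff_one _).mp (IsLocalRing.maximalIdeal.isMaximal A).ne_top h1
  have hQ1 : (1 : ℕ∞) ≤ LocCoh.depth A (QuotSMulTop x M) := Order.one_le_iff_ne_zero.mpr hQ0
  have h2 : (2 : ℕ∞) ≤ LocCoh.idealDepth (IsLocalRing.maximalIdeal A) (QuotSMulTop x M) + 1 := by
    have : (2 : ℕ∞) = 1 + 1 := by norm_num
    rw [this]
    exact add_le_add_left hQ1 1
  rw [hadd] at h2
  exact h2

end Depth

end Groth.Agent.Lib.T2H4.PushDepthAlg
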