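import Groth.Agent.Lib.T2H4PushDepthSh
import Groth.Agent.Lib.T2H4PushDepthAlg
import Groth.Agent.Lib.Helper2FlatOver
import Groth.Agent.Lib.Helper23QCohLocal

/-!
# Depth of the stalks of a direct image along a quasi-compact quasi-separated morphism (helper4)
-/

set_option autoImplicit false
universe u
open CategoryTheory Limits AlgebraicGeometry TopologicalSpace Opposite

namespace Groth.Agent.Lib.T2H4.PushDepth

open Groth.Agent.Lib.Helper6 Groth.Agent.Lib.Helper2 Groth.Agent.Lib.Helper2.QCoh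
  Groth.Agent.Lib.Helper2.Push Groth.Agent.Lib.T2H4.PushDepthSh Groth.Agent.Lib.T2H4.PushDepthAlg

variable {X S : Scheme.{u}} (f : X ⟶ S) (F : X.Modules)
  {s : S} {V : S.Opens} (hV : IsAffineOpen V) (hs : s ∈ V)

/-- the ring hom `Γ(S,V) → Γ(X, f⁻¹V)` -/
noncomputable abbrev rho (V : S.Opens) : Γ(S, V) →+* Γ(X, f ⁻¹ᵁ V) := (f.app V).hom

/-- functions on `V` not vanishing at `s` -/
noncomputable abbrev Tset : Submonoid Γ(S, V) := (hV.primeIdealOf ⟨s, hs⟩).asIdeal.primeCompl

theorem mem_Tset_iff (h : Γ(S, V)) : h ∈ Tset hV hs ↔ s ∈ S.basicOpen h :=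
  (mem_basicOpen_iff_notMem_primeIdealOf hV s hs h).symm

theorem isUnit_germ_of_mem {h : Γ(S, V)} (hh : h ∈ Tset hV hs) :
    IsUnit (S.presheaf.germ V s hs h) := by
  rw [← Scheme.mem_basicOpen S h s hs, ← mem_Tset_iff hV hs]
  exact hh

/-- germ at `s` of a section of `F` over `f⁻¹V`, in the stalk of the direct image -/
noncomputable def germP (τ : Γ(F, f ⁻¹ᵁ V)) :
    ((Scheme.Modules.pushforward f).obj F).presheaf.stalk s :=
  ((Scheme.Modules.pushforward f).obj F).presheaf.germ V s hs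
    (show Γ((Scheme.Modules.pushforward f).obj F, V) from τ)

theorem germP_sub (τ τ' : Γ(F, f ⁻¹ᵁ V)) :
    germP f F hs (τ - τ') = germP f F hs τ - germP f F hs τ' :=
  map_sub (((Scheme.Modules.pushforward f).obj F).presheaf.germ V s hs).hom _ _

theorem germP_zero : germP f F hs (0 : Γ(F, f ⁻¹ᵁ V)) = 0 :=
  map_zero (((Scheme.Modules.pushforward f).obj F).presheaf.germ V s hs).hom

theorem germP_act (x : Γ(S, V)) (τ : Γ(F, f ⁻¹ᵁ V)) :
    germP f F hs (act F (rho f V) le_rfl x τ) = S.presheaf.germ V s hs x • germP f F hs τ := by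
  rw [act_le_rfl]
  exact germ_smul ((Scheme.Modules.pushforward f).obj F) s V hs x
    (show Γ((Scheme.Modules.pushforward f).obj F, V) from τ)

theorem appLE_apply {W' : X.Opens} (e : W' ≤ f ⁻¹ᵁ V) (x : Γ(S, V)) :
    (f.appLE V W' e).hom x = resf e ((f.app V).hom x) := rfl

section QC

variable [QuasiCompact f] [QuasiSeparated f] [F.IsQuasicoherent]

include hV in
theorem exists_germP_eq (y : ((Scheme.Modules.pushforward f).obj F).presheaf.stalk s) :
    ∃ h ∈ Tset hV hs, ∃ τ : Γ(F, f ⁻¹ᵁ V), S.presheaf.germ V s hs h • y = germP f F hs τ := by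
  haveI := Groth.Agent.Lib.Helper23.QCohLocal.isQuasicoherent_pushforward f F
  obtain ⟨h, m, hh, hm⟩ := exists_smul_eq_germ hV ((Scheme.Modules.pushforward f).obj F) s hs y
  exact ⟨h, (mem_Tset_iff hV hs h).mpr hh, m, hm⟩

include hV in
theorem exists_act_eq_zero_of_germP_eq_zero (τ : Γ(F, f ⁻¹ᵁ V)) (h0 : germP f F hs τ = 0) :
    ∃ h ∈ Tset hV hs, act F (rho f V) le_rfl h τ = 0 := by
  haveI := Groth.Agent.Lib.Helper23.QCohLocal.isQuasicoherent_pushforward f F
  obtain ⟨h, hh, hm⟩ := exists_smul_eq_zero_of_germ_eq_zero hV ((Scheme.Modules.pushforward f).obj F)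
    s hs (show Γ((Scheme.Modules.pushforward f).obj F, V) from τ) h0
  refine ⟨h, (mem_Tset_iff hV hs h).mpr hh, ?_⟩
  rw [act_le_rfl]
  exact hm

theorem smul_eq_zero_of_mem {h : Γ(S, V)} (hh : h ∈ Tset hV hs)
    {y : ((Scheme.Modules.pushforward f).obj F).presheaf.stalk s}
    (hy : S.presheaf.germ V s hs h • y = 0) : y = 0 :=
  germ_smul_eq_zero_of_isUnit (isUnit_germ_of_mem hV hs hh) hy

include hV in
/-- `PReg` on `f⁻¹V` gives regularity on the stalk of the direct image. -/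
theorem isSMulRegular_of_PReg (x : Γ(S, V))
    (h : PReg F (rho f V) (Tset hV hs) x (le_refl (f ⁻¹ᵁ V))) :
    IsSMulRegular (((Scheme.Modules.pushforward f).obj F).presheaf.stalk s)
      (S.presheaf.germ V s hs x) := by
  rw [isSMulRegular_iff_right_eq_zero_of_smul]
  intro y hy
  obtain ⟨g, hg, τ, hτ⟩ := exists_germP_eq f F hV hs y
  have h1 : germP f F hs (act F (rho f V) le_rfl x τ) = 0 := by
    rw [germP_act, ← hτ, smul_comm, hy, smul_zero]
  obtain ⟨g', hg', h2⟩ := exists_act_eq_zero_of_germP_eq_zero f F hV hs _ h1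
  rw [act_comm] at h2
  obtain ⟨g'', hg'', h3⟩ := h _ h2
  have h4 : germP f F hs (act F (rho f V) le_rfl g'' (act F (rho f V) le_rfl g' τ)) = 0 := by
    rw [h3, germP_zero]
  rw [germP_act, germP_act] at h4
  have h5 := smul_eq_zero_of_mem f F hV hs hg' (smul_eq_zero_of_mem f F hV hs hg'' h4)
  rw [← hτ] at h5
  exact smul_eq_zero_of_mem f F hV hs hg h5

include hV in
/-- regularity on the stalk of the direct image gives `PReg` on `f⁻¹V`. -/
theorem PReg_of_isSMulRegular (x : Γ(S, V))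
    (h : IsSMulRegular (((Scheme.Modules.pushforward f).obj F).presheaf.stalk s)
      (S.presheaf.germ V s hs x)) :
    PReg F (rho f V) (Tset hV hs) x (le_refl (f ⁻¹ᵁ V)) := by
  intro σ hσ
  apply exists_act_eq_zero_of_germP_eq_zero f F hV hs
  rw [isSMulRegular_iff_right_eq_zero_of_smul] at h
  apply h
  rw [← germP_act, hσ, germP_zero]

include hV in
theorem exists_eq_smul_of_PDiv (x : Γ(S, V)) (τ : Γ(F, f ⁻¹ᵁ V))
    (h : PDiv F (rho f V) (Tset hV hs) x (le_refl (f ⁻¹ᵁ V)) τ) :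
    ∃ v : ((Scheme.Modules.pushforward f).obj F).presheaf.stalk s,
      germP f F hs τ = S.presheaf.germ V s hs x • v := by
  obtain ⟨g, hg, v, hv⟩ := h
  have h1 := congrArg (germP f F hs) hv
  rw [germP_act, germP_act] at h1
  obtain ⟨u, hu⟩ := isUnit_germ_of_mem hV hs hg
  refine ⟨(↑u⁻¹ : S.presheaf.stalk s) • germP f F hs v, ?_⟩
  rw [smul_comm, ← h1, ← hu, smul_smul, Units.inv_mul, one_smul]

include hV in
theorem PDiv_of_exists_eq_smul (x : Γ(S, V)) (τ : Γ(F, f ⁻¹ᵁ V))
    (h : ∃ v : ((Scheme.Modules.pushforward f).obj F).presheaf.stalk s,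
      germP f F hs τ = S.presheaf.germ V s hs x • v) :
    PDiv F (rho f V) (Tset hV hs) x (le_refl (f ⁻¹ᵁ V)) τ := by
  obtain ⟨v, hv⟩ := h
  obtain ⟨g, hg, v', hv'⟩ := exists_germP_eq f F hV hs v
  have h1 : germP f F hs (act F (rho f V) le_rfl g τ - act F (rho f V) le_rfl x v') = 0 := by
    rw [germP_sub, germP_act, germP_act, hv, ← hv', smul_comm, sub_self]
  obtain ⟨g', hg', h2⟩ := exists_act_eq_zero_of_germP_eq_zero f F hV hs _ h1
  refine ⟨g' * g, (Tset hV hs).mul_mem hg' hg, act F (rho f V) le_rfl g' v', ?_⟩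
  rw [act_sub, sub_eq_zero] at h2
  rw [act_mul, h2, act_comm]

end QC

section Cover

theorem exists_finite_affine_cover (W : X.Opens) (hc : IsCompact (W : Set X)) :
    ∃ (ι : Type u) (_ : Finite ι) (U : ι → X.Opens), (∀ i, IsAffineOpen (U i)) ∧ (∀ i, U i ≤ W) ∧
      W ≤ ⨆ i, U i := by
  obtain ⟨𝒮, h𝒮, e⟩ := isCompact_iff_finite_and_eq_biUnion_affineOpens.mp hc
  refine ⟨↥𝒮, h𝒮.to_subtype, fun i => (i.1 : X.Opens), fun i => i.1.2, fun i => ?_, ?_⟩
  · rw [e]
    exact le_iSup₂_of_le i.1 i.2 le_rfl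
  · rw [e, iSup_subtype']

end Cover

section Flat

variable [QuasiCompact f] [QuasiSeparated f] [F.IsQuasicoherent]

include hV in
omit [QuasiCompact f] [QuasiSeparated f] in
theorem PReg_of_isFlatOver_affine (hflat : FlatMod.IsFlatOver f F) {W' : X.Opens}
    (hW' : IsAffineOpen W') (e : W' ≤ f ⁻¹ᵁ V) (x : Γ(S, V))
    (hx : IsSMulRegular (S.presheaf.stalk s) (S.presheaf.germ V s hs x)) :
    PReg F (rho f V) (Tset hV hs) x e := by
  letI : Module Γ(S, V) Γ(F, W') := Module.compHom Γ(F, W') (f.appLE V W' e).hom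
  haveI : Module.Flat Γ(S, V) Γ(F, W') :=
    Groth.Agent.Lib.Helper2.FlatOver.flat_sections_of_isFlatOverAt f F hW' hV e (fun x _ => hflat x)
  letI := S.presheaf.algebra_section_stalk ⟨s, hs⟩
  haveI : IsLocalization (Tset hV hs) (S.presheaf.stalk s) := hV.isLocalization_stalk ⟨s, hs⟩
  intro σ hσ
  exact exists_smul_eq_zero_of_flat (Tset hV hs) (S.presheaf.stalk s) Γ(F, W') x hx σ hσ

include hV in
omit [QuasiCompact f] [QuasiSeparated f] in
theorem PDiv_of_isFlatOver_affine (hflat : FlatMod.IsFlatOver f F) {W' : X.Opens}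
    (hW' : IsAffineOpen W') (e : W' ≤ f ⁻¹ᵁ V) (x y : Γ(S, V))
    (hxy : RingTheory.Sequence.IsWeaklyRegular (S.presheaf.stalk s)
      [S.presheaf.germ V s hs x, S.presheaf.germ V s hs y]) (τ : Γ(F, W'))
    (h : PDiv F (rho f V) (Tset hV hs) x e (act F (rho f V) e y τ)) :
    PDiv F (rho f V) (Tset hV hs) x e τ := by
  letI : Module Γ(S, V) Γ(F, W') := Module.compHom Γ(F, W') (f.appLE V W' e).hom
  haveI : Module.Flat Γ(S, V) Γ(F, W') :=
    Groth.Agent.Lib.Helper2.FlatOver.flat_sections_of_isFlatOverAt f F hW' hV e (fun x _ => hflat x)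
  letI := S.presheaf.algebra_section_stalk ⟨s, hs⟩
  haveI : IsLocalization (Tset hV hs) (S.presheaf.stalk s) := hV.isLocalization_stalk ⟨s, hs⟩
  exact exists_smul_eq_smul_of_flat (Tset hV hs) (S.presheaf.stalk s) Γ(F, W') x y hxy τ h

include hV in
omit [QuasiCompact f] [QuasiSeparated f] in
theorem PReg_of_isFlatOver (hflat : FlatMod.IsFlatOver f F) {W' : X.Opens}
    (hW' : IsCompact (W' : Set X)) (e : W' ≤ f ⁻¹ᵁ V) (x : Γ(S, V))
    (hx : IsSMulRegular (S.presheaf.stalk s) (S.presheaf.germ V s hs x)) :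
    PReg F (rho f V) (Tset hV hs) x e := by
  obtain ⟨ι, hι, U, hU, hUW, hcov⟩ := exists_finite_affine_cover W' hW'
  exact PReg.of_cover e U hUW hcov x
    (fun i => PReg_of_isFlatOver_affine f F hV hs hflat (hU i) ((hUW i).trans e) x hx)

include hV in
/-- flat case: a regular element of the local ring of the base is regular on the stalk of the direct image -/
theorem isSMulRegular_of_isFlatOver (hflat : FlatMod.IsFlatOver f F) (x : Γ(S, V))
    (hx : IsSMulRegular (S.presheaf.stalk s) (S.presheaf.germ V s hs x)) :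
    IsSMulRegular (((Scheme.Modules.pushforward f).obj F).presheaf.stalk s)
      (S.presheaf.germ V s hs x) :=
  isSMulRegular_of_PReg f F hV hs x
    (PReg_of_isFlatOver f F hV hs hflat (f.isCompact_preimage hV.isCompact) le_rfl x hx)

include hV in
/-- flat case: the second element of a regular sequence -/
theorem exists_eq_smul_of_isFlatOver (hflat : FlatMod.IsFlatOver f F) (x y : Γ(S, V))
    (hxy : RingTheory.Sequence.IsWeaklyRegular (S.presheaf.stalk s)
      [S.presheaf.germ V s hs x, S.presheaf.germ V s hs y])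
    (t : ((Scheme.Modules.pushforward f).obj F).presheaf.stalk s)
    (ht : ∃ v : ((Scheme.Modules.pushforward f).obj F).presheaf.stalk s,
      S.presheaf.germ V s hs y • t = S.presheaf.germ V s hs x • v) :
    ∃ v : ((Scheme.Modules.pushforward f).obj F).presheaf.stalk s,
      t = S.presheaf.germ V s hs x • v := by
  have hx : IsSMulRegular (S.presheaf.stalk s) (S.presheaf.germ V s hs x) :=
    ((RingTheory.Sequence.isWeaklyRegular_cons_iff _ _ _).mp hxy).1
  obtain ⟨v, hv⟩ := ht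
  obtain ⟨g, hg, τ, hτ⟩ := exists_germP_eq f F hV hs t
  have hc : IsCompact ((f ⁻¹ᵁ V : X.Opens) : Set X) := f.isCompact_preimage hV.isCompact
  have hqs : IsQuasiSeparated ((f ⁻¹ᵁ V : X.Opens) : Set X) :=
    f.isQuasiSeparated_preimage hV.isQuasiSeparated
  -- `y τ` is divisible by `x`
  have h1 : PDiv F (rho f V) (Tset hV hs) x (le_refl (f ⁻¹ᵁ V))
      (act F (rho f V) le_rfl y τ) := by
    apply PDiv_of_exists_eq_smul f F hV hs
    refine ⟨S.presheaf.germ V s hs g • v, ?_⟩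
    rw [germP_act, ← hτ, smul_comm, hv, smul_comm]
  obtain ⟨ι, hι, U, hU, hUW, hcov⟩ := exists_finite_affine_cover (f ⁻¹ᵁ V) hc
  have h2 : PDiv F (rho f V) (Tset hV hs) x (le_refl (f ⁻¹ᵁ V)) τ := by
    refine PDiv.of_cover le_rfl U hUW hcov x (fun i j => ?_) τ (fun i => ?_)
    · refine PReg_of_isFlatOver f F hV hs hflat ?_ _ x hx
      exact hqs (U i) (U j) (hUW i) (U i).isOpen (hU i).isCompact (hUW j) (U j).isOpen (hU j).isCompact
    · apply PDiv_of_isFlatOver_affine f F hV hs hflat (hU i) _ x y hxy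
      have h3 := h1.restrict (hUW i)
      rwa [res_act] at h3
  obtain ⟨v', hv'⟩ := exists_eq_smul_of_PDiv f F hV hs x τ h2
  obtain ⟨u, hu⟩ := isUnit_germ_of_mem hV hs hg
  refine ⟨(↑u⁻¹ : S.presheaf.stalk s) • v', ?_⟩
  rw [smul_comm, ← hv', ← hτ, ← hu, smul_smul, Units.inv_mul, one_smul]

end Flat

section Germs

include hV in
theorem exists_germ_eq (a : S.presheaf.stalk s) :
    ∃ h ∈ Tset hV hs, ∃ r : Γ(S, V),
      S.presheaf.germ V s hs h * a = S.presheaf.germ V s hs r := by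
  letI := S.presheaf.algebra_section_stalk ⟨s, hs⟩
  haveI : IsLocalization (Tset hV hs) (S.presheaf.stalk s) := hV.isLocalization_stalk ⟨s, hs⟩
  obtain ⟨⟨r, h⟩, hrh⟩ := IsLocalization.surj (Tset hV hs) a
  refine ⟨h.1, h.2, r, ?_⟩
  rw [mul_comm]
  exact hrh

theorem exists_affine_germ₂ (x y : S.presheaf.stalk s) :
    ∃ (V : S.Opens) (_ : IsAffineOpen V) (hs : s ∈ V) (x₀ y₀ : Γ(S, V)),
      S.presheaf.germ V s hs x₀ = x ∧ S.presheaf.germ V s hs y₀ = y := by
  obtain ⟨U₁, h₁, x₁, rfl⟩ := S.presheaf.exists_germ_eq x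
  obtain ⟨U₂, h₂, y₂, rfl⟩ := S.presheaf.exists_germ_eq y
  obtain ⟨_, ⟨V, hV, rfl⟩, hsV, hVU⟩ := S.isBasis_affineOpens.exists_subset_of_mem_open
    (show s ∈ ((U₁ ⊓ U₂ : S.Opens) : Set S) from ⟨h₁, h₂⟩) (U₁ ⊓ U₂).isOpen
  have hV' : IsAffineOpen V := hV
  have hle₁ : V ≤ U₁ := fun z hz => (hVU hz).1
  have hle₂ : V ≤ U₂ := fun z hz => (hVU hz).2
  refine ⟨V, hV', hsV, S.presheaf.map (homOfLE hle₁).op x₁, S.presheaf.map (homOfLE hle₂).op y₂, ?_, ?_⟩
  · exact S.presheaf.germ_res_apply (homOfLE hle₁) s hsV x₁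
  · exact S.presheaf.germ_res_apply (homOfLE hle₂) s hsV y₂

end Germs

section NotMemRange

include hV in
/-- if `s` is not in the image of the affine open `U`, some function not vanishing at `s` pulls back into the ideal
generated by the pullbacks of generators of the maximal ideal -/
theorem exists_map_mem_span {U : X.Opens} (hU : IsAffineOpen U) (e : U ≤ f ⁻¹ᵁ V)
    (hs' : s ∉ Set.range f) {ι : Type*} (a : ι → Γ(S, V))
    (ha : Ideal.span (Set.range fun i => S.presheaf.germ V s hs (a i)) =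
      IsLocalRing.maximalIdeal (S.presheaf.stalk s)) :
    ∃ g ∈ Tset hV hs, (f.appLE V U e).hom g ∈
      Ideal.span (Set.range fun i => (f.appLE V U e).hom (a i)) := by
  by_contra H
  push Not at H
  set φ := (f.appLE V U e).hom with hφ
  set J := Ideal.span (Set.range fun i => φ (a i)) with hJ
  have hdisj : Disjoint (J : Set Γ(X, U)) ((Tset hV hs).map φ : Submonoid Γ(X, U)) := by
    rw [Set.disjoint_left]
    rintro b hbJ ⟨g, hg, rfl⟩
    exact H g hg hbJ
  obtain ⟨P, hP, hJP, hPdisj⟩ := Ideal.exists_le_prime_disjoint J _ hdisj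
  letI := S.presheaf.algebra_section_stalk ⟨s, hs⟩
  haveI loc : IsLocalization (Tset hV hs) (S.presheaf.stalk s) := hV.isLocalization_stalk ⟨s, hs⟩
  have hq : (P.comap φ).IsPrime := Ideal.comap_isPrime φ P
  have hqle : P.comap φ ≤ (hV.primeIdealOf ⟨s, hs⟩).asIdeal := by
    intro r hr
    by_contra hrp
    exact Set.disjoint_left.mp hPdisj hr ⟨r, hrp, rfl⟩
  have hqdisj : Disjoint ((Tset hV hs : Submonoid Γ(S, V)) : Set Γ(S, V)) (P.comap φ : Set Γ(S, V)) := by
    rw [Set.disjoint_left]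
    intro r hrT hrq
    exact hrT (hqle hrq)
  have haq : ∀ i, a i ∈ P.comap φ := fun i =>
    hJP (Ideal.subset_span (Set.mem_range_self i))
  have hple : (hV.primeIdealOf ⟨s, hs⟩).asIdeal ≤ P.comap φ := by
    intro r hr
    have h1 : algebraMap Γ(S, V) (S.presheaf.stalk s) r ∈
        IsLocalRing.maximalIdeal (S.presheaf.stalk s) :=
      (germ_mem_maximalIdeal_iff hV s hs r).mpr hr
    rw [← ha] at h1
    have h2 : Ideal.span (Set.range fun i => S.presheaf.germ V s hs (a i)) ≤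
        Ideal.map (algebraMap Γ(S, V) (S.presheaf.stalk s)) (P.comap φ) := by
      rw [Ideal.span_le]
      rintro _ ⟨i, rfl⟩
      exact Ideal.mem_map_of_mem _ (haq i)
    have h3 := h2 h1
    have h4 := IsLocalization.under_map_of_isPrime_disjoint (Tset hV hs) (S.presheaf.stalk s)
      hq hqdisj
    rw [← h4]
    exact h3
  have hqeq : P.comap φ = (hV.primeIdealOf ⟨s, hs⟩).asIdeal := le_antisymm hqle hple
  -- the point of `U` given by `P` maps to `s`
  have hmem := fromSpec_mem hU ⟨P, hP⟩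
  have h5 := IsAffineOpen.comap_primeIdealOf_appLE (f := f) V hV U hU e hmem
  rw [primeIdealOf_fromSpec] at h5
  have h6 : hV.primeIdealOf ⟨f (hU.fromSpec ⟨P, hP⟩), e hmem⟩ = hV.primeIdealOf ⟨s, hs⟩ := by
    rw [← h5]
    exact PrimeSpectrum.ext hqeq
  have h7 : f (hU.fromSpec ⟨P, hP⟩) = s := by
    have h8 := congrArg hV.fromSpec h6
    rwa [hV.fromSpec_primeIdealOf, hV.fromSpec_primeIdealOf] at h8
  exact hs' ⟨_, h7⟩

variable (s) in
/-- **Covering data**: if `s` is not in the image of the quasi-compact `f` and the local ring at `s` is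
Noetherian, some affine neighbourhood `V` of `s` carries finitely many functions generating the maximal
ideal at `s` whose nonvanishing loci cover `f⁻¹V`. -/
theorem exists_cover_data [QuasiCompact f] (hs' : s ∉ Set.range f)
    [IsNoetherianRing (S.presheaf.stalk s)] :
    ∃ (V : S.Opens) (_ : IsAffineOpen V) (hs : s ∈ V) (ι : Type u) (_ : Finite ι) (a : ι → Γ(S, V)),
      Ideal.span (Set.range fun i => S.presheaf.germ V s hs (a i)) =
        IsLocalRing.maximalIdeal (S.presheaf.stalk s) ∧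
      f ⁻¹ᵁ V ≤ ⨆ i, X.basicOpen ((f.app V).hom (a i)) := by
  classical
  obtain ⟨_, ⟨V₀, hV₀', rfl⟩, hs₀, -⟩ := S.isBasis_affineOpens.exists_subset_of_mem_open
    (Set.mem_univ s) isOpen_univ
  have hV₀ : IsAffineOpen V₀ := hV₀'
  letI := S.presheaf.algebra_section_stalk ⟨s, hs₀⟩
  haveI loc : IsLocalization.AtPrime (S.presheaf.stalk s) (hV₀.primeIdealOf ⟨s, hs₀⟩).asIdeal :=
    hV₀.isLocalization_stalk ⟨s, hs₀⟩
  -- finitely many generators of the maximal ideal coming from `V₀`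
  have hmap : Ideal.span (algebraMap Γ(S, V₀) (S.presheaf.stalk s) ''
      ((hV₀.primeIdealOf ⟨s, hs₀⟩).asIdeal : Set Γ(S, V₀))) =
      IsLocalRing.maximalIdeal (S.presheaf.stalk s) :=
    IsLocalization.AtPrime.map_eq_maximalIdeal (hV₀.primeIdealOf ⟨s, hs₀⟩).asIdeal
      (S.presheaf.stalk s)
  have hfg : (Ideal.span (algebraMap Γ(S, V₀) (S.presheaf.stalk s) ''
      ((hV₀.primeIdealOf ⟨s, hs₀⟩).asIdeal : Set Γ(S, V₀)))).FG := by
    rw [hmap]
    exact IsNoetherian.noetherian _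
  obtain ⟨s', hs'sub, hs'span⟩ := (Submodule.fg_span_iff_fg_span_finset_subset _).mp hfg
  have hch : ∀ i : ↥s', ∃ r : Γ(S, V₀), r ∈ (hV₀.primeIdealOf ⟨s, hs₀⟩).asIdeal ∧
      S.presheaf.germ V₀ s hs₀ r = i.1 := fun i => hs'sub i.2
  choose a₀ ha₀mem ha₀ using hch
  have hspan₀ : Ideal.span (Set.range fun i => S.presheaf.germ V₀ s hs₀ (a₀ i)) =
      IsLocalRing.maximalIdeal (S.presheaf.stalk s) := by
    rw [← hmap]
    have : (Set.range fun i : ↥s' => S.presheaf.germ V₀ s hs₀ (a₀ i)) = (↑s' : Set (S.presheaf.stalk s)) := by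
      ext z
      constructor
      · rintro ⟨i, rfl⟩
        show S.presheaf.germ V₀ s hs₀ (a₀ i) ∈ (↑s' : Set (S.presheaf.stalk s))
        rw [ha₀]; exact i.2
      · intro hz
        exact ⟨⟨z, hz⟩, ha₀ ⟨z, hz⟩⟩
    rw [this]
    exact hs'span.symm
  -- finite affine cover of `f⁻¹V₀`
  obtain ⟨κ, hκ, U, hU, hUW, hcov⟩ := exists_finite_affine_cover (f ⁻¹ᵁ V₀)
    (f.isCompact_preimage hV₀.isCompact)
  haveI := Fintype.ofFinite κ
  have hg : ∀ j, ∃ g ∈ Tset hV₀ hs₀, (f.appLE V₀ (U j) (hUW j)).hom g ∈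
      Ideal.span (Set.range fun i => (f.appLE V₀ (U j) (hUW j)).hom (a₀ i)) := fun j =>
    exists_map_mem_span f hV₀ hs₀ (hU j) (hUW j) hs' a₀ hspan₀
  choose g hgT hg using hg
  have hGT : (∏ j, g j) ∈ Tset hV₀ hs₀ := prod_mem (fun j _ => hgT j)
  have hsV : s ∈ S.basicOpen (∏ j, g j) := (mem_Tset_iff hV₀ hs₀ _).mp hGT
  refine ⟨S.basicOpen (∏ j, g j), hV₀.basicOpen _, hsV, ↥s', inferInstance,
    fun i => S.presheaf.map (homOfLE (S.basicOpen_le (∏ j, g j))).op (a₀ i), ?_, ?_⟩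
  · rw [← hspan₀]
    congr 2
    funext i
    exact S.presheaf.germ_res_apply (homOfLE (S.basicOpen_le (∏ j, g j))) s hsV (a₀ i)
  · intro x hx
    have hx₀ : x ∈ f ⁻¹ᵁ V₀ := S.basicOpen_le _ hx
    obtain ⟨j, hxj⟩ := Opens.mem_iSup.mp (hcov hx₀)
    -- the prime of `x` in `U j`
    have h1 : (f.appLE V₀ (U j) (hUW j)).hom (∏ j, g j) ∈
        Ideal.span (Set.range fun i => (f.appLE V₀ (U j) (hUW j)).hom (a₀ i)) := by
      rw [← Finset.prod_erase_mul Finset.univ g (Finset.mem_univ j), map_mul]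
      exact Ideal.mul_mem_left _ _ (hg j)
    have h2 : x ∈ X.basicOpen ((f.appLE V₀ (U j) (hUW j)).hom (∏ j, g j)) := by
      rw [appLE_apply]
      have h3 : x ∈ X.basicOpen ((f.app V₀).hom (∏ j, g j)) := by
        have := Scheme.preimage_basicOpen f (∏ j, g j)
        rw [← this]
        exact hx
      have h4 := Scheme.basicOpen_res X ((f.app V₀).hom (∏ j, g j)) (homOfLE (hUW j)).op
      rw [h4]
      exact ⟨hxj, h3⟩
    rw [mem_basicOpen_iff_notMem_primeIdealOf (hU j) x hxj] at h2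
    have h5 : ∃ i, (f.appLE V₀ (U j) (hUW j)).hom (a₀ i) ∉ ((hU j).primeIdealOf ⟨x, hxj⟩).asIdeal := by
      by_contra hall
      push Not at hall
      apply h2
      have : Ideal.span (Set.range fun i => (f.appLE V₀ (U j) (hUW j)).hom (a₀ i)) ≤
          ((hU j).primeIdealOf ⟨x, hxj⟩).asIdeal := by
        rw [Ideal.span_le]
        rintro _ ⟨i, rfl⟩
        exact hall i
      exact this h1
    obtain ⟨i, hi⟩ := h5
    rw [← mem_basicOpen_iff_notMem_primeIdealOf (hU j) x hxj, appLE_apply] at hi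
    have h6 := Scheme.basicOpen_res X ((f.app V₀).hom (a₀ i)) (homOfLE (hUW j)).op
    rw [h6] at hi
    have h7 : x ∈ f ⁻¹ᵁ S.basicOpen (a₀ i) := by
      rw [Scheme.preimage_basicOpen]
      exact hi.2
    apply Opens.mem_iSup.mpr
    refine ⟨i, ?_⟩
    have h8 := Scheme.preimage_basicOpen f
      (S.presheaf.map (homOfLE (S.basicOpen_le (∏ j, g j))).op (a₀ i))
    rw [← h8]
    have h9 := Scheme.basicOpen_res S (a₀ i) (homOfLE (S.basicOpen_le (∏ j, g j))).op
    change f x ∈ S.basicOpen (S.presheaf.map (homOfLE (S.basicOpen_le (∏ j, g j))).op (a₀ i))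
    rw [h9]
    exact ⟨hx, h7⟩

end NotMemRange

section Main

theorem exists_eq_smul_of_isUnit_smul {A M : Type*} [CommRing A] [AddCommGroup M] [Module A M]
    {u x : A} (hu : IsUnit u) {t w : M} (h : u • t = x • w) : ∃ v : M, t = x • v := by
  obtain ⟨u', rfl⟩ := hu
  refine ⟨(↑u'⁻¹ : A) • w, ?_⟩
  rw [smul_comm, ← h, smul_smul, Units.inv_mul, one_smul]

theorem exists_smul_eq_mul_smul {A M : Type*} [CommRing A] [AddCommGroup M] [Module A M]
    {h₀ x : A} (hu : IsUnit h₀) (m : M) : ∃ v : M, x • m = (h₀ * x) • v := by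
  obtain ⟨u', rfl⟩ := hu
  refine ⟨(↑u'⁻¹ : A) • m, ?_⟩
  rw [mul_smul, smul_comm (↑u' : A) x, smul_smul (↑u' : A), Units.mul_inv, one_smul]

variable [QuasiCompact f] [QuasiSeparated f] [F.IsQuasicoherent]

variable (s) in
/-- **Depth of a direct image at a point outside the image.** -/
theorem two_le_depth_of_notMem_range (hs' : s ∉ Set.range f)
    [IsNoetherianRing (S.presheaf.stalk s)]
    [Module.Finite (S.presheaf.stalk s)
      (((Scheme.Modules.pushforward f).obj F).presheaf.stalk s)] :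
    (2 : ℕ∞) ≤ LocCoh.depth (S.presheaf.stalk s)
      (((Scheme.Modules.pushforward f).obj F).presheaf.stalk s) := by
  obtain ⟨V, hV, hs, ι, hι, a, hspan, hcov⟩ := exists_cover_data f s hs'
  have hc : IsCompact ((f ⁻¹ᵁ V : X.Opens) : Set X) := f.isCompact_preimage hV.isCompact
  have hqs : IsQuasiSeparated ((f ⁻¹ᵁ V : X.Opens) : Set X) :=
    f.isQuasiSeparated_preimage hV.isQuasiSeparated
  have hcov' : f ⁻¹ᵁ V ≤ ⨆ i, X.basicOpen (resf (le_refl (f ⁻¹ᵁ V)) (rho f V (a i))) := by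
    simpa only [resf_le_rfl] using hcov
  refine two_le_depth_of_forall (fun i => S.presheaf.germ V s hs (a i)) hspan ?_ ?_
  · -- no element is killed by all `a i`
    intro t ht
    obtain ⟨g, hg, τ, hτ⟩ := exists_germP_eq f F hV hs t
    have h1 : ∀ i, ∃ g' ∈ Tset hV hs,
        act F (rho f V) le_rfl g' (act F (rho f V) le_rfl (a i) τ) = 0 := by
      intro i
      apply exists_act_eq_zero_of_germP_eq_zero f F hV hs
      rw [germP_act, ← hτ, smul_comm, ht i, smul_zero]
    obtain ⟨g', hg', h2⟩ := exists_act_eq_zero_of_cover le_rfl a hcov' τ h1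
    have h3 : germP f F hs (act F (rho f V) le_rfl g' τ) = 0 := by rw [h2, germP_zero]
    rw [germP_act] at h3
    have h4 := smul_eq_zero_of_mem f F hV hs hg' h3
    rw [← hτ] at h4
    exact smul_eq_zero_of_mem f F hV hs hg h4
  · -- divisibility by a regular element
    intro x hx hxr t ht
    obtain ⟨h₀, hh₀, r, hr⟩ := exists_germ_eq hV hs x
    have hu₀ := isUnit_germ_of_mem hV hs hh₀
    have hrr : IsSMulRegular (((Scheme.Modules.pushforward f).obj F).presheaf.stalk s)
        (S.presheaf.germ V s hs r) := by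
      rw [← hr]
      exact (hu₀.isSMulRegular _).mul hxr
    have hPReg := PReg_of_isSMulRegular f F hV hs r hrr
    obtain ⟨g, hg, τ, hτ⟩ := exists_germP_eq f F hV hs t
    have hug := isUnit_germ_of_mem hV hs hg
    have hdiv : ∀ i, PDiv F (rho f V) (Tset hV hs) r
        ((X.basicOpen_le (resf (le_refl (f ⁻¹ᵁ V)) (rho f V (a i)))).trans le_rfl)
        (res F (X.basicOpen_le (resf (le_refl (f ⁻¹ᵁ V)) (rho f V (a i)))) τ) := by
      intro i
      apply PDiv.basicOpen_of_act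
      apply PDiv_of_exists_eq_smul f F hV hs
      obtain ⟨v, hv⟩ := ht i
      have h1 : germP f F hs (act F (rho f V) le_rfl (a i) τ) =
          x • (S.presheaf.germ V s hs g • v) := by
        rw [germP_act, ← hτ, smul_comm, hv, smul_comm]
      rw [h1, ← hr]
      exact exists_smul_eq_mul_smul hu₀ _
    have hreg : ∀ i j, PReg F (rho f V) (Tset hV hs) r
        (((inf_le_left : X.basicOpen (resf (le_refl (f ⁻¹ᵁ V)) (rho f V (a i))) ⊓
            X.basicOpen (resf (le_refl (f ⁻¹ᵁ V)) (rho f V (a j))) ≤ _).trans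
          (X.basicOpen_le (resf (le_refl (f ⁻¹ᵁ V)) (rho f V (a i))))).trans le_rfl) := by
      intro i j
      have h1 := PReg.basicOpen (le_refl (f ⁻¹ᵁ V)) hc hqs r (a i * a j) hPReg
      refine PReg.of_eq ?_ _ _ h1
      rw [map_mul, resf_mul', Scheme.basicOpen_mul]
    have h2 := PDiv.of_cover le_rfl
      (fun i => X.basicOpen (resf (le_refl (f ⁻¹ᵁ V)) (rho f V (a i))))
      (fun i => X.basicOpen_le _) hcov' r hreg τ hdiv
    obtain ⟨v', hv'⟩ := exists_eq_smul_of_PDiv f F hV hs r τ h2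
    have h3 : S.presheaf.germ V s hs g • t = x • (S.presheaf.germ V s hs h₀ • v') := by
      rw [hτ, hv', ← hr, mul_comm, mul_smul]
    exact exists_eq_smul_of_isUnit_smul hug h3

variable (s) in
/-- **Depth of a direct image of a module flat over the base.** -/
theorem min_two_depth_le_of_isFlatOver (hflat : FlatMod.IsFlatOver f F) :
    min (2 : ℕ∞) (LocCoh.depth (S.presheaf.stalk s) (S.presheaf.stalk s)) ≤
      LocCoh.depth (S.presheaf.stalk s)
        (((Scheme.Modules.pushforward f).obj F).presheaf.stalk s) := by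
  have hIA : IsLocalRing.maximalIdeal (S.presheaf.stalk s) •
      (⊤ : Submodule (S.presheaf.stalk s) (S.presheaf.stalk s)) ≠ ⊤ :=
    Groth.Agent.Lib.Helper28.maximalIdeal_smul_top_ne_top
  by_cases h2 : (2 : ℕ∞) ≤ LocCoh.depth (S.presheaf.stalk s) (S.presheaf.stalk s)
  · rw [min_eq_left h2]
    have h2' : ((2 : ℕ) : ℕ∞) ≤ LocCoh.idealDepth (IsLocalRing.maximalIdeal (S.presheaf.stalk s))
        (S.presheaf.stalk s) := h2
    obtain ⟨rs, hlen, hmem, hreg⟩ := (Groth.Agent.Lib.Helper28.natCast_le_idealDepth_iff hIA 2).mp h2'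
    match rs, hlen with
    | [x, y], _ =>
      obtain ⟨V, hV, hs, x₀, y₀, rfl, rfl⟩ := exists_affine_germ₂ x y
      have hw := hreg.toIsWeaklyRegular
      have hx := ((RingTheory.Sequence.isWeaklyRegular_cons_iff _ _ _).mp hw).1
      exact two_le_depth_of_isSMulRegular _ _ (hmem _ (by simp)) (hmem _ (by simp))
        (isSMulRegular_of_isFlatOver f F hV hs hflat x₀ hx)
        (fun t ht => exists_eq_smul_of_isFlatOver f F hV hs hflat x₀ y₀ hw t ht)
  · rw [not_le] at h2
    rw [min_eq_right h2.le]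
    by_cases h1 : (1 : ℕ∞) ≤ LocCoh.depth (S.presheaf.stalk s) (S.presheaf.stalk s)
    · have h3 : LocCoh.depth (S.presheaf.stalk s) (S.presheaf.stalk s) ≤ 1 := by
        have : (2 : ℕ∞) = 1 + 1 := by norm_num
        rw [this] at h2
        exact Order.le_of_lt_add_one h2
      refine h3.trans ?_
      obtain ⟨x, hx, hxr⟩ := (Groth.Agent.Lib.Helper28.one_le_idealDepth_iff hIA).mp h1
      obtain ⟨V, hV, hs, x₀, _, rfl, -⟩ := exists_affine_germ₂ x x
      exact one_le_depth_of_isSMulRegular _ hx (isSMulRegular_of_isFlatOver f F hV hs hflat x₀ hxr)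
    · rw [not_le] at h1
      have : LocCoh.depth (S.presheaf.stalk s) (S.presheaf.stalk s) = 0 :=
        Order.lt_one_iff.mp h1
      rw [this]
      exact zero_le

end Main

end Groth.Agent.Lib.T2H4.PushDepth
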