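import Mathlib
import Groth.Prelude.Def_Cyc
import Groth.Agent.Lib.T2H4PushPullB
import Groth.Agent.Lib.T2H4PullDivFlatC
import Groth.Agent.Lib.Helper4DimFormulaAL
import Groth.Agent.Lib.Helper4DimFormulaQ
import Groth.Agent.Lib.Helper3RelDim
set_option backward.isDefEq.respectTransparency.types false

/-!
# Proper pushforward commutes with flat pullback of relative dimension `r` (helper4)

Namespace `Groth.Agent.Lib.T2H4.PushPull`.
-/

set_option autoImplicit false
set_option linter.style.haveILetI false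
universe u
open CategoryTheory CategoryTheory.Limits AlgebraicGeometry TopologicalSpace Opposite

namespace Groth.Agent.Lib.T2H4.PushPull

open Groth.Agent.Lib.T2H4.PullComp Groth.Agent.Lib.Helper4.DimFormula

variable {X Y Y' : Scheme.{u}} (f : X ⟶ Y) (g : Y' ⟶ Y)

theorem ptTrdeg_congr {P Q : Scheme.{u}} (a b : P ⟶ Q) [LocallyOfFiniteType a]
    [LocallyOfFiniteType b] (h : a = b) (x : P) : ptTrdeg a x = ptTrdeg b x := by
  subst h
  rfl

/-- the dimension function on the fibre product induced from `Y'` is also induced from `X` -/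
theorem deltaCompat_fst [LocallyOfFiniteType f] [LocallyOfFiniteType g] (δX : X → ℤ)
    (δY : Y → ℤ) (δY' : Y' → ℤ) (δX' : ↥(pullback f g) → ℤ) (hf : Cyc.DeltaCompat f δX δY)
    (hg : Cyc.DeltaCompat g δY' δY) (hX' : Cyc.DeltaCompat (pullback.snd f g) δX' δY') :
    Cyc.DeltaCompat (pullback.fst f g) δX' δX := by
  intro x'
  refine ⟨ptTrdeg (pullback.fst f g) x', trdeg_eq_ptTrdeg (pullback.fst f g) x', ?_⟩
  have h1 := delta_eq_add_ptTrdeg (pullback.snd f g) δX' δY' hX' x'
  have h2 := delta_eq_add_ptTrdeg g δY' δY hg (pullback.snd f g x')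
  have h3 := delta_eq_add_ptTrdeg f δX δY hf (pullback.fst f g x')
  have h4 := ptTrdeg_comp (pullback.snd f g) g x'
  have h5 := ptTrdeg_comp (pullback.fst f g) f x'
  have h6 := ptTrdeg_congr (pullback.fst f g ≫ f) (pullback.snd f g ≫ g) pullback.condition x'
  have h7 : f (pullback.fst f g x') = g (pullback.snd f g x') := by
    rw [← Scheme.Hom.comp_apply, ← Scheme.Hom.comp_apply, pullback.condition]
  rw [h7] at h3
  omega

/-- **flat pullback of relative dimension `r` commutes with proper pushforward** -/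
theorem map_pullFun_eq_relDim [IsProper f] [Flat g] [LocallyOfFiniteType g] (δX : X → ℤ)
    (δY : Y → ℤ) (δY' : Y' → ℤ) (δX' : ↥(pullback f g) → ℤ) (r : ℕ) (hr : Cyc.HasRelDim g r)
    (hY' : Cyc.IsSetup Y' δY')
    (hf : Cyc.DeltaCompat f δX δY) (hg : Cyc.DeltaCompat g δY' δY)
    (hX' : Cyc.DeltaCompat (pullback.snd f g) δX' δY')
    (α : AlgebraicCycle X ℤ) (α' : AlgebraicCycle (pullback f g) ℤ)
    (hα' : ⇑α' = Cyc.pullFun (pullback.fst f g) δX' δX r ⇑α) :
    ⇑(AlgebraicCycle.map (pullback.snd f g) δX' δY' α') =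
      Cyc.pullFun g δY' δY r ⇑(AlgebraicCycle.map f δX δY α) := by
  haveI : LocallyOfFiniteType (pullback.snd f g) := inferInstance
  haveI : LocallyOfFiniteType (pullback.fst f g) := inferInstance
  have hfst := deltaCompat_fst f g δX δY δY' δX' hf hg hX'
  have hrel : Cyc.HasRelDim (pullback.fst f g) r :=
    Groth.Agent.Lib.Helper3.RelDim.hasRelDim_of_isPullback g f (pullback.snd f g)
      (pullback.fst f g) (IsPullback.of_hasPullback f g).flip r hr
  exact (pullFun_map_eq f g δY δY' δX δX' hY'.2.2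
    (isDimFun_of_deltaCompat (pullback.snd f g) δY' hY' δX' hX') hf hX' (r : ℤ)
    (fun y' hmax => Groth.Agent.Lib.T2H4.PullDivFlat.shift_of_hasRelDim g δY' δY r hr hg y' hmax)
    (fun x' hmax => Groth.Agent.Lib.T2H4.PullDivFlat.shift_of_hasRelDim (pullback.fst f g)
      δX' δX r hrel hfst x' hmax) α α' hα').symm

end Groth.Agent.Lib.T2H4.PushPull
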