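import Mathlib
import Groth.Agent.Lib.T2H4QCohAlgG
import Groth.Agent.Lib.Helper23FinType2
import Groth.Prelude.Def_RelSpec2

/-!
# Finite type over the direct image algebra of an affine morphism (helper4)
-/

set_option autoImplicit false
universe u
open CategoryTheory CategoryTheory.Limits AlgebraicGeometry TopologicalSpace Opposite

namespace Groth.Agent.Lib.T2H4.QCohAlg

open Groth.Agent.Lib.Helper23.QCohLocal

section General

variable {X : Scheme.{u}} {R : Sheaf (Opens.grothendieckTopology X) RingCat.{u}}
  (α : X.ringCatSheaf ⟶ R)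

/-- `Ψ (M.over U)` is quasi-coherent when `res M` is -/
theorem isQuasicoherent_Ψ_over (U : X.Opens) (M : SheafOfModules.{u} R)
    (hG : ((SheafOfModules.restrictScalars.{u} α).obj M).IsQuasicoherent) :
    ((Ψ α U).obj (M.over U)).IsQuasicoherent := by
  have h1 : ((Scheme.Modules.restrictFunctor U.ι).obj
      ((SheafOfModules.restrictScalars.{u} α).obj M)).IsQuasicoherent :=
    Scheme.Modules.isQuasicoherent_restrictFunctor U.ι _
  exact (SheafOfModules.isQuasicoherent (U : Scheme.{u}).ringCatSheaf).prop_of_iso
    (ΨOverIso α U M).symm h1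

/-- an `R`-module with `res M` quasi-coherent whose sections over affine opens are finite modules is of finite type -/
theorem isFiniteType_of_finite_sections
    (hB : ((SheafOfModules.restrictScalars.{u} α).obj (SheafOfModules.unit.{u} R)).IsQuasicoherent)
    (M : SheafOfModules.{u} R) (hG : ((SheafOfModules.restrictScalars.{u} α).obj M).IsQuasicoherent)
    (h : ∀ V : X.affineOpens, Module.Finite (R.obj.obj (op (V : X.Opens))) (M.val.obj (op (V : X.Opens)))) :
    M.IsFiniteType := by
  have key : ∀ V : X.affineOpens, ∃ G : (M.over (V : X.Opens)).GeneratingSections, G.IsFiniteType := by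
    intro V
    haveI : Module.Finite ((R.over (V : X.Opens)).obj.obj (op (Tt (V : X.Opens))))
        ((M.over (V : X.Opens)).val.obj (op (Tt (V : X.Opens)))) :=
      finite_transfer M (Tt_left (V : X.Opens)).symm (h V)
    exact exists_finite_generators α V.1 V.2 (isQuasicoherent_Ψ_unit α V.1 hB) _
      (isQuasicoherent_Ψ_over α V.1 M hG)
  choose G hG' using key
  let σ : SheafOfModules.LocalGeneratorsData.{u, u, u, u} M :=
    { I := X.affineOpens
      X := fun V => (V : X.Opens)
      coversTop := (Opens.coversTop_iff _ _).2 (iSup_affineOpens_eq_top X)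
      generators := G }
  have hσ : σ.IsFiniteType := { isFiniteType := fun V => hG' V }
  exact { exists_localGeneratorsData := ⟨σ, hσ⟩ }

/-- an `R`-module of finite type with `res M` quasi-coherent has finite modules of sections over small affine opens -/
theorem exists_cover_finite_sections
    (hB : ((SheafOfModules.restrictScalars.{u} α).obj (SheafOfModules.unit.{u} R)).IsQuasicoherent)
    (M : SheafOfModules.{u} R) (hG : ((SheafOfModules.restrictScalars.{u} α).obj M).IsQuasicoherent)
    [M.IsFiniteType] :
    ∃ W : X → X.Opens, (∀ x, x ∈ W x) ∧ ∀ (x : X) (V : X.Opens), IsAffineOpen V → V ≤ W x →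
      Module.Finite (R.obj.obj (op V)) (M.val.obj (op V)) := by
  obtain ⟨σ, hσ⟩ := SheafOfModules.IsFiniteType.exists_localGeneratorsData M
  have hcov : IsOpenCover σ.X := (Opens.coversTop_iff _ σ.X).1 σ.coversTop
  have hx : ∀ x : X, ∃ i, x ∈ σ.X i := by
    intro x
    have hx : x ∈ (⨆ i, σ.X i : X.Opens) := by
      rw [hcov.iSup_eq_top]; trivial
    exact TopologicalSpace.Opens.mem_iSup.1 hx
  choose i hi using hx
  refine ⟨fun x => σ.X (i x), hi, fun x V hV hle => ?_⟩
  haveI : Finite (σ.generators (i x)).I := (hσ.isFiniteType (i x)).finite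
  exact finite_sections_of_generators α hB M hG (σ.X (i x)) (σ.generators (i x)) hV hle

end General

end Groth.Agent.Lib.T2H4.QCohAlg

namespace Groth.Agent.Lib.T2H4.QCohAlg

open Groth.Agent.Lib.Helper23.QCohLocal

section DirImg

variable {X S : Scheme.{u}} (f : X ⟶ S) [IsAffineHom f]

/-- the direct image of the structure sheaf is the unit of the direct image algebra -/
noncomputable def dirImgUnitIso :
    (AMod.dirImg f).obj (SheafOfModules.unit.{u} X.ringCatSheaf) ≅
      SheafOfModules.unit.{u} (AMod.ringSheaf (RelSpec.QCAlg.directImage f)) :=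
  (SheafOfModules.fullyFaithfulForget _).preimageIso (PresheafOfModules.isoMk (fun U => Iso.refl _))

theorem isQuasicoherent_res_unit_directImage :
    ((SheafOfModules.restrictScalars.{u} (AMod.strHom (RelSpec.QCAlg.directImage f))).obj
      (SheafOfModules.unit.{u} (AMod.ringSheaf (RelSpec.QCAlg.directImage f)))).IsQuasicoherent := by
  haveI h0 : (SheafOfModules.unit.{u} X.ringCatSheaf).IsQuasicoherent := by
    have h : (SheafOfModules.free (R := X.ringCatSheaf) PUnit.{u+1}).IsQuasicoherent := inferInstance
    exact (SheafOfModules.isQuasicoherent X.ringCatSheaf).prop_of_iso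
      (coproductUniqueIso (fun (_ : PUnit.{u+1}) ↦ SheafOfModules.unit X.ringCatSheaf)) h
  have h1 : ((Scheme.Modules.pushforward f).obj (SheafOfModules.unit.{u} X.ringCatSheaf)).IsQuasicoherent :=
    isQuasicoherent_pushforward f _
  exact (SheafOfModules.isQuasicoherent S.ringCatSheaf).prop_of_iso
    ((AMod.toOS (RelSpec.QCAlg.directImage f)).mapIso (dirImgUnitIso f)) h1

end DirImg

end Groth.Agent.Lib.T2H4.QCohAlg
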