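import Groth.Agent.Lib.T2H4FBC3
import Groth.Agent.Lib.T2H4FibGor1
import Groth.Agent.Lib.T2H4LocGlob4
import Groth.Prelude.Def_Disc

/-!
# Upper shriek for quasi-finite maps: `H^0(φ^! A) = B ⊗_{B'} Hom_A(B', A)` (helper4)
-/

set_option autoImplicit false
set_option linter.style.haveILetI false
set_option backward.isDefEq.respectTransparency.types false
universe u
open CategoryTheory CategoryTheory.Limits TensorProduct
attribute [local instance] HasDerivedCategory.standard

namespace Groth.Agent.Lib.T2H4.QFShriek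

open DerivedCategory Pretriangulated
open Groth.Agent.Lib.T2H4.Koszul Groth.Agent.Lib.T2H4.Frob Groth.Agent.Lib.T2H4.TorIndep
  Groth.Agent.Lib.T2H4.DComp Groth.Agent.Lib.T2H4.FBC Groth.Agent.Lib.Helper1.Restrict
  Groth.Agent.Lib.Helper1.Extend Groth.Agent.Lib.T2H4.LocKL

attribute [local instance] Groth.Agent.Lib.T2H4.LDerExist.hasLBaseChange

section OpenImm0

variable (B' B : Type u) [CommRing B'] [CommRing B] [Algebra B' B]
  (hopen : AlgebraicGeometry.IsOpenImmersion (AlgebraicGeometry.Spec.map (CommRingCat.ofHom (algebraMap B' B))))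

include hopen

lemma flat_of_isOpenImmersion : Module.Flat B' B := by
  haveI := hopen
  have h : AlgebraicGeometry.Flat (AlgebraicGeometry.Spec.map (CommRingCat.ofHom (algebraMap B' B))) := inferInstance
  rw [AlgebraicGeometry.Flat.SpecMap_iff] at h
  exact RingHom.flat_algebraMap_iff.1 h

lemma isEpi_of_isOpenImmersion : Algebra.IsEpi B' B := by
  haveI := hopen
  rw [← CommRingCat.epi_iff_epi]
  have h : Mono (AlgebraicGeometry.Spec.map (CommRingCat.ofHom (algebraMap B' B))) := inferInstance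
  have h2 : Mono (CommRingCat.ofHom (algebraMap B' B)).op :=
    Functor.mono_of_mono_map AlgebraicGeometry.Scheme.Spec h
  exact (op_mono_iff _).1 h2

lemma isPushout_of_isOpenImmersion : Algebra.IsPushout B' B B B := by
  haveI := isEpi_of_isOpenImmersion B' B hopen
  rw [Algebra.isPushout_iff]
  refine IsBaseChange.of_equiv (TensorProduct.lid' B' B B) (fun x => ?_)
  simp

end OpenImm0

section ResId

variable {R : Type u} [CommRing R] (f : R →+* R) (hf : f = RingHom.id R)

/-- restriction of scalars along the identity is the identity, on derived categories. -/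
noncomputable def restrictDIdIso : DRing.restrictD f ≅ 𝟭 (Dual.D R) :=
  Localization.liftNatIso (DerivedCategory.Q (C := ModuleCat.{u} R))
    (HomologicalComplex.quasiIso (ModuleCat.{u} R) (ComplexShape.up ℤ))
    ((ModuleCat.restrictScalars.{u} f).mapHomologicalComplex (ComplexShape.up ℤ) ⋙
      DerivedCategory.Q)
    (DerivedCategory.Q) _ _
    (h₁ := ⟨(ModuleCat.restrictScalars.{u} f).mapDerivedCategoryFactors⟩)
    (h₂ := ⟨Functor.rightUnitor _⟩)
    (Functor.isoWhiskerRight
      (NatIso.mapHomologicalComplex (ModuleCat.restrictScalarsId' f hf) (ComplexShape.up ℤ) ≪≫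
        Functor.mapHomologicalComplexIdIso _ _) _ ≪≫ Functor.leftUnitor _)

include hf in
lemma isRHom_id (K : Dual.D R) : IsRHom (DRing.restrictD f) K K := by
  refine ⟨(restrictDIdIso f hf).hom.app K, fun L => ?_⟩
  have hfun : (fun g : L ⟶ K => (DRing.restrictD f).map g ≫ (restrictDIdIso f hf).hom.app K) =
      (fun k : L ⟶ K => (restrictDIdIso f hf).hom.app L ≫ k) := by
    funext g
    exact (restrictDIdIso f hf).hom.naturality g
  rw [hfun]
  exact ⟨fun k k' hk => (cancel_epi ((restrictDIdIso f hf).hom.app L)).1 hk,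
    fun k => ⟨(restrictDIdIso f hf).inv.app L ≫ k, by simp⟩⟩

include hf in
lemma nonempty_lbc_id_iso (K : Dual.D R) : Nonempty ((DRing.LBaseChange f).obj K ≅ K) := by
  have hb : Function.Bijective f := by
    subst hf
    exact Function.bijective_id
  exact (isRHom_frob (frobDataOfBijective f hb) K).unique (isRHom_id f hf K)

end ResId

section OpenImm

variable (R S : Type u) [CommRing R] [CommRing S] [Algebra R S] [IsNoetherianRing R]
  [Module.Flat R S] [Algebra.IsPushout R S S S]

/-- upper shriek along a flat epimorphism of finite type is derived base change, on `D^+`. -/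
theorem nonempty_iso_lbc_of_flat_epi (n : ℕ) (ψ : MvPolynomial (Fin n) R →ₐ[R] S)
    (hψ : Function.Surjective ψ) (K : Dual.D R) (c : ℤ) [K.IsGE c] (X₁ : Dual.D S)
    (h : IsRHom (DRing.restrictD ψ.toRingHom)
      (((DRing.LBaseChange (algebraMap R (MvPolynomial (Fin n) R))).obj K)⟦(n : ℤ)⟧) X₁) :
    Nonempty (X₁ ≅ (DRing.LBaseChange (algebraMap R S)).obj K) := by
  have h2 := isRHom_shriek_flat_bc R S S S n ψ hψ K c X₁ h
  have h3 := isRHom_id (algebraMap S S) rfl ((DRing.LBaseChange (algebraMap R S)).obj K)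
  have h4 := isRHom_finite_chain S _ _ h3 n (bcPres R S S S n ψ)
  obtain ⟨e1⟩ := h2.unique h4
  obtain ⟨e2⟩ := nonempty_lbc_id_iso (algebraMap S S) rfl X₁
  exact ⟨e2.symm ≪≫ e1⟩

end OpenImm

section H0

variable (A B' : Type u) [CommRing A] [CommRing B'] [Algebra A B']

/-- `B'[0]` restricted to `A` is `B'[0]`. -/
noncomputable def formIso :
    (DRing.restrictD (algebraMap A B')).obj (Dual.inD B' B') ≅ Dual.inD A B' :=
  restrictDSingleIso (algebraMap A B') (ModuleCat.of B' B') 0 ≪≫
    (singleFunctor (ModuleCat.{u} A) 0).mapIso (restrictScalarsAlgebraIso (A := A) (B := B') B')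

/-- multiplication by `b` on `B'`, as a morphism of `B'`-modules. -/
noncomputable abbrev mulB (b : B') : ModuleCat.of B' B' ⟶ ModuleCat.of B' B' :=
  b • 𝟙 (ModuleCat.of B' B')

/-- multiplication by `b` on `B'`, as a morphism of `A`-modules. -/
noncomputable abbrev mulA (b : B') : ModuleCat.of A B' ⟶ ModuleCat.of A B' :=
  ModuleCat.ofHom (LinearMap.mulLeft A b)

lemma formIso_naturality (b : B') :
    (formIso A B').inv ≫ (DRing.restrictD (algebraMap A B')).map
      ((singleFunctor (ModuleCat.{u} B') 0).map (mulB B' b)) =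
    (singleFunctor (ModuleCat.{u} A) 0).map (mulA A B' b) ≫ (formIso A B').inv := by
  rw [Iso.inv_comp_eq, ← Category.assoc, Iso.eq_comp_inv]
  unfold formIso
  have h1 := ((ModuleCat.restrictScalars.{u} (algebraMap A B')).mapDerivedCategorySingleFunctor
    0).hom.naturality (mulB B' b)
  simp only [Functor.comp_map] at h1
  simp only [Iso.trans_hom, Functor.mapIso_hom, restrictDSingleIso, Iso.app_hom, Category.assoc]
  rw [← Category.assoc, h1, Category.assoc, ← Functor.map_comp, ← Functor.map_comp]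
  congr 2

/-- the linear form attached to a morphism `B'[0] ⟶ RHom_A(B', A)`. -/
noncomputable def toForm (g : Dual.inD B' B' ⟶ (RG (algebraMap A B')).obj (Dual.inD A A)) :
    B' →ₗ[A] A :=
  ((singleFunctor (ModuleCat.{u} A) 0).preimage
    ((formIso A B').inv ≫ ((adjRG (algebraMap A B')).homEquiv _ _).symm g)).hom

/-- the inverse construction. -/
noncomputable def ofForm (l : B' →ₗ[A] A) :
    Dual.inD B' B' ⟶ (RG (algebraMap A B')).obj (Dual.inD A A) :=
  (adjRG (algebraMap A B')).homEquiv _ _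
    ((formIso A B').hom ≫ (singleFunctor (ModuleCat.{u} A) 0).map (ModuleCat.ofHom l))

lemma toForm_ofForm (l : B' →ₗ[A] A) : toForm A B' (ofForm A B' l) = l := by
  unfold toForm ofForm
  rw [Equiv.symm_apply_apply, Iso.inv_hom_id_assoc, Functor.preimage_map]
  rfl

lemma ofForm_toForm (g : Dual.inD B' B' ⟶ (RG (algebraMap A B')).obj (Dual.inD A A)) :
    ofForm A B' (toForm A B' g) = g := by
  unfold toForm ofForm
  rw [ModuleCat.ofHom_hom, Functor.map_preimage, Iso.hom_inv_id_assoc, Equiv.apply_symm_apply]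

lemma toForm_add (g g' : Dual.inD B' B' ⟶ (RG (algebraMap A B')).obj (Dual.inD A A)) :
    toForm A B' (g + g') = toForm A B' g + toForm A B' g' := by
  have h : ofForm A B' (toForm A B' g + toForm A B' g') = g + g' := by
    unfold ofForm
    rw [ModuleCat.ofHom_add, Functor.map_add, Preadditive.comp_add,
      Adjunction.homAddEquiv_add]
    exact congrArg₂ (· + ·) (ofForm_toForm A B' g) (ofForm_toForm A B' g')
  rw [← h, toForm_ofForm]

lemma toForm_smul (b : B') (g : Dual.inD B' B' ⟶ (RG (algebraMap A B')).obj (Dual.inD A A)) :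
    toForm A B' (b • g) = (toForm A B' g).comp (LinearMap.mulLeft A b) := by
  have h1 : b • g = (singleFunctor (ModuleCat.{u} B') 0).map (mulB B' b) ≫ g := by
    rw [Functor.map_smul, CategoryTheory.Functor.map_id, Linear.smul_comp, Category.id_comp]
  unfold toForm
  rw [h1, Adjunction.homEquiv_naturality_left_symm, ← Category.assoc, formIso_naturality,
    Category.assoc]
  have h2 : (singleFunctor (ModuleCat.{u} A) 0).preimage
      ((singleFunctor (ModuleCat.{u} A) 0).map (mulA A B' b) ≫ (formIso A B').inv ≫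
        ((adjRG (algebraMap A B')).homEquiv _ _).symm g) =
      mulA A B' b ≫ (singleFunctor (ModuleCat.{u} A) 0).preimage
        ((formIso A B').inv ≫ ((adjRG (algebraMap A B')).homEquiv _ _).symm g) := by
    apply (singleFunctor (ModuleCat.{u} A) 0).map_injective
    rw [Functor.map_preimage, Functor.map_comp, Functor.map_preimage]
  rw [h2]
  rfl

/-- `Hom(B'[0], RHom_A(B', A)) ≃ ω_{B'/A}`, `B'`-linearly. -/
noncomputable def homOmegaEquiv :
    (Dual.inD B' B' ⟶ (RG (algebraMap A B')).obj (Dual.inD A A)) ≃ₗ[B'] Disc.Omega A B' where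
  toFun g := ⟨toForm A B' g⟩
  map_add' g g' := by
    ext x
    rw [toForm_add]
    rfl
  map_smul' b g := by
    ext x
    rw [toForm_smul]
    rfl
  invFun w := ofForm A B' w.toLinearMap
  left_inv g := ofForm_toForm A B' g
  right_inv w := by
    ext x
    show (toForm A B' (ofForm A B' w.toLinearMap)) x = w.toLinearMap x
    rw [toForm_ofForm]

end H0

section HDFlat

variable (A B : Type u) [CommRing A] [CommRing B] [Algebra A B] [Module.Flat A B]

/-- cohomology commutes with flat base change, `B`-linearly. -/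
lemma nonempty_HD_lbc_linearEquiv_of_flat (K : Dual.D A) (i : ℤ) :
    Nonempty (Dual.HD B ((DRing.LBaseChange (algebraMap A B)).obj K) i ≃ₗ[B]
      TensorProduct A B (Dual.HD A K i)) := by
  obtain ⟨e⟩ := nonempty_lbc_iso_extD A B K
  have e2 : (homologyFunctor (ModuleCat.{u} B) i).obj ((DRing.LBaseChange (algebraMap A B)).obj K) ≅
      (ext A B).obj ((homologyFunctor (ModuleCat.{u} A) i).obj K) :=
    (homologyFunctor (ModuleCat.{u} B) i).mapIso e ≪≫ homologyMapDIso (ext A B) K i
  have e3 := extEquiv (A := A) (B := B) (Dual.HD A K i)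
  exact ⟨e2.toLinearEquiv ≪≫ₗ e3⟩

end HDFlat

section Main

variable (A B B' : Type u) [CommRing A] [CommRing B] [CommRing B'] [IsNoetherianRing A]
  [Algebra A B] [Algebra A B'] [Algebra B' B] [IsScalarTower A B' B] [Module.Finite A B']
  [Module.Flat B' B] [Algebra.IsPushout B' B B B]

omit [IsNoetherianRing A] [Module.Finite A B'] in
/-- `H^0(RHom_A(B', A)) = ω_{B'/A}`. -/
lemma nonempty_HD_RG_omega :
    Nonempty (Dual.HD B' ((RG (algebraMap A B')).obj (Dual.inD A A)) 0 ≃ₗ[B']
      Disc.Omega A B') := by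
  obtain ⟨e1⟩ := Groth.Agent.Lib.T2H4.FibGor.nonempty_homSelfEquiv
    ((RG (algebraMap A B')).obj (Dual.inD A A)) 0
  exact ⟨e1.symm ≪≫ₗ Linear.homCongr B' (Iso.refl _)
    ((shiftFunctorZero (Dual.D B') ℤ).app _) ≪≫ₗ homOmegaEquiv A B'⟩

theorem nonempty_HD_shriek_equiv (n : ℕ) (ψ : MvPolynomial (Fin n) A →ₐ[A] B)
    (hψ : Function.Surjective ψ)
    (Rψ : Dual.D (MvPolynomial (Fin n) A) ⥤ Dual.D B) (adj : DRing.restrictD ψ.toRingHom ⊣ Rψ) :
    Nonempty (Dual.HD B (Dual2.shriekVia n Rψ (Dual.inD A A)) 0 ≃ₗ[B]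
      (B ⊗[B'] Disc.Omega A B')) := by
  haveI : IsNoetherianRing B' := IsNoetherianRing.of_finite A B'
  obtain ⟨n₁, ψ₁, hψ₁⟩ := Algebra.FiniteType.iff_quotient_mvPolynomial''.1
    (inferInstance : Algebra.FiniteType A B')
  have hχ : Function.Surjective (bcPres A B' B B n ψ) := by
    intro b
    obtain ⟨p, rfl⟩ := hψ b
    exact ⟨MvPolynomial.map (algebraMap A B') p, bcPres_map A B' B B n ψ p⟩
  have h1 := isRHom_of_adj (adjRG ψ₁.toRingHom)
    (((DRing.LBaseChange (algebraMap A (MvPolynomial (Fin n₁) A))).obj (Dual.inD A A))⟦(n₁ : ℤ)⟧)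
  haveI : Algebra.IsIntegral A B' := Algebra.IsIntegral.of_finite A B'
  have h1' := isRHom_finite_chain A (Dual.inD A A) _
    (isRHom_of_adj (adjRG (algebraMap A B')) (Dual.inD A A)) n₁ ψ₁
  obtain ⟨eX⟩ := h1.unique h1'
  haveI hY : ((RG (algebraMap A B')).obj (Dual.inD A A)).IsGE 0 :=
    Groth.Agent.Lib.T2H4.Shriek.isGE_rightAdjoint (algebraMap A B') _ (adjRG _) (Dual.inD A A) 0
      inferInstance
  haveI hX₁ : ((RG ψ₁.toRingHom).obj (((DRing.LBaseChange (algebraMap A
      (MvPolynomial (Fin n₁) A))).obj (Dual.inD A A))⟦(n₁ : ℤ)⟧)).IsGE 0 :=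
    DerivedCategory.TStructure.t.isGE_of_iso eX.symm 0
  have hZ := isRHom_of_adj (adjRG (bcPres A B' B B n ψ).toRingHom)
    (((DRing.LBaseChange (algebraMap B' (MvPolynomial (Fin n) B'))).obj
      ((RG ψ₁.toRingHom).obj (((DRing.LBaseChange (algebraMap A
        (MvPolynomial (Fin n₁) A))).obj (Dual.inD A A))⟦(n₁ : ℤ)⟧)))⟦(n : ℤ)⟧)
  obtain ⟨eZ⟩ := nonempty_iso_lbc_of_flat_epi B' B n (bcPres A B' B B n ψ) hχ _ 0 _ hZ
  obtain ⟨Ξ, hΞ, hR⟩ := isRHom_comp_poly A B' B n₁ ψ₁ hψ₁ n (bcPres A B' B B n ψ) hχ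
    (Dual.inD A A) 0 _ h1 _ hZ
  have h4 := isRHom_of_adj adj
    (((DRing.LBaseChange (algebraMap A (MvPolynomial (Fin n) A))).obj (Dual.inD A A))⟦(n : ℤ)⟧)
  obtain ⟨e4⟩ := isRHom_indep A (n + n₁) Ξ hΞ n ψ hψ (Dual.inD A A) _ _ hR h4
  obtain ⟨e5⟩ := nonempty_rightAdj_shift_iso ψ.toRingHom Rψ adj
    ((DRing.LBaseChange (algebraMap A (MvPolynomial (Fin n) A))).obj (Dual.inD A A)) (n : ℤ)
  have eT : Dual2.shriekVia n Rψ (Dual.inD A A) ≅
      (DRing.LBaseChange (algebraMap B' B)).obj ((RG (algebraMap A B')).obj (Dual.inD A A)) :=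
    e5.symm ≪≫ e4.symm ≪≫ eZ ≪≫ (DRing.LBaseChange (algebraMap B' B)).mapIso eX
  obtain ⟨l1⟩ := nonempty_HD_lbc_linearEquiv_of_flat B' B
    ((RG (algebraMap A B')).obj (Dual.inD A A)) 0
  obtain ⟨l2⟩ := nonempty_HD_RG_omega A B'
  exact ⟨((homologyFunctor (ModuleCat.{u} B) 0).mapIso eT).toLinearEquiv ≪≫ₗ l1 ≪≫ₗ
    LinearEquiv.baseChange B' B _ _ l2⟩

end Main

end Groth.Agent.Lib.T2H4.QFShriek
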