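import Mathlib

/-!
# Quasi-homeomorphisms and sheaves, part A

If `U ↦ f⁻¹ U` is a bijection on opens, then pushforward (hence pullback) of sheaves along `f`
is an equivalence of categories.
-/

open CategoryTheory TopologicalSpace Opposite

namespace Groth.Agent.Lib.T2H4.QHomeo

universe u v w

section OrderIso

variable {Y Y' : TopCat.{u}}

/-- An order isomorphism between the frames of opens is cocontinuous. -/
theorem isCocontinuous_of_orderIso (e : Opens Y ≃o Opens Y') :
    (e.monotone.functor).IsCocontinuous (Opens.grothendieckTopology Y)
      (Opens.grothendieckTopology Y') where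
  cover_lift := by
    intro U S hS
    -- the set of opens below `U` whose image lies in `S`
    let T : Set (Opens Y) := {V | ∃ h : V ≤ U, S.arrows (e.monotone.functor.map (homOfLE h))}
    have hle : U ≤ sSup T := by
      rw [← e.le_iff_le]
      intro x₀ hx₀
      obtain ⟨W, g, hg, hxW⟩ := hS x₀ hx₀
      have hWU : e.symm W ≤ U := by
        rw [← e.le_iff_le, e.apply_symm_apply]
        exact g.le
      have hmem : e.symm W ∈ T := by
        refine ⟨hWU, ?_⟩
        have h1 : e (e.symm W) ≤ W := (e.apply_symm_apply W).le
        have : e.monotone.functor.map (homOfLE hWU) = homOfLE h1 ≫ g := Subsingleton.elim _ _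
        rw [this]
        exact S.downward_closed hg _
      have h2 : e.symm W ≤ sSup T := le_sSup hmem
      have h3 : W ≤ e (sSup T) := by
        rw [← e.apply_symm_apply W]
        exact e.monotone h2
      exact h3 hxW
    intro x hx
    obtain ⟨V, hV, hxV⟩ := Opens.mem_sSup.1 (hle hx)
    obtain ⟨h, hS'⟩ := hV
    exact ⟨V, homOfLE h, hS', hxV⟩

end OrderIso

section Main

variable {X₀ X : TopCat.{u}} (f : X₀ ⟶ X)

theorem map_le_iff (hf : Function.Bijective (fun U : Opens X => (Opens.map f).obj U))
    {U V : Opens X} : (Opens.map f).obj U ≤ (Opens.map f).obj V ↔ U ≤ V := by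
  constructor
  · intro h
    have h1 : (Opens.map f).obj (U ⊓ V) = (Opens.map f).obj U := by
      apply le_antisymm
      · exact (Opens.map f).monotone inf_le_left
      · intro x hx
        exact ⟨hx, h hx⟩
    have h2 : U ⊓ V = U := hf.1 h1
    rw [← h2]
    exact inf_le_right
  · exact fun h => (Opens.map f).monotone h

/-- The order isomorphism on opens induced by a quasi-homeomorphism. -/
noncomputable def opensIso (hf : Function.Bijective (fun U : Opens X => (Opens.map f).obj U)) :
    Opens X ≃o Opens X₀ where
  toEquiv := Equiv.ofBijective _ hf
  map_rel_iff' := map_le_iff f hf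

@[simp]
theorem opensIso_apply (hf : Function.Bijective (fun U : Opens X => (Opens.map f).obj U))
    (U : Opens X) : opensIso f hf U = (Opens.map f).obj U := rfl

variable (A : Type w) [Category.{v} A]

/-- The equivalence of categories of opens induced by a quasi-homeomorphism. -/
noncomputable def opensEquiv (hf : Function.Bijective (fun U : Opens X => (Opens.map f).obj U)) :
    Opens X ≌ Opens X₀ := (opensIso f hf).equivalence

theorem pushforward_isEquivalence
    (hf : Function.Bijective (fun U : Opens X => (Opens.map f).obj U)) :
    (TopCat.Sheaf.pushforward A f).IsEquivalence := by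
  let E := opensEquiv f hf
  let J := Opens.grothendieckTopology X
  let K := Opens.grothendieckTopology X₀
  have h1 : E.functor.IsCocontinuous J K := isCocontinuous_of_orderIso (opensIso f hf)
  have h2 : E.inverse.IsCocontinuous K J := isCocontinuous_of_orderIso (opensIso f hf).symm
  have h3 : E.inverse.IsDenseSubsite K J :=
    Equivalence.isDenseSubsite_inverse_of_isCocontinuous J K E
  let Eq := E.sheafCongr J K A
  let α : Opens.map f ≅ E.functor :=
    NatIso.ofComponents (fun U => Iso.refl _) (by intros; apply Subsingleton.elim)
  let iso : TopCat.Sheaf.pushforward A f ≅ Eq.inverse :=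
    NatIso.ofComponents
      (fun F => ObjectProperty.isoMk _ (Functor.isoWhiskerRight (NatIso.op α.symm) F.obj))
      (by
        intro F G φ
        apply Sheaf.hom_ext
        ext U
        change φ.hom.app _ ≫ G.obj.map _ = F.obj.map _ ≫ φ.hom.app _
        exact (φ.hom.naturality _).symm)
  exact Functor.isEquivalence_of_iso iso.symm

theorem pullback_isEquivalence (A : Type w) [Category.{u} A]
    {FA : A → A → Type*} {CA : A → Type u}
    [∀ X Y, FunLike (FA X Y) (CA X) (CA Y)] [ConcreteCategory.{u} A FA] [Limits.HasColimits A]
    [Limits.HasLimits A] [Limits.PreservesLimits (CategoryTheory.forget A)]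
    [Limits.PreservesFilteredColimits (CategoryTheory.forget A)]
    [(CategoryTheory.forget A).ReflectsIsomorphisms]
    (hf : Function.Bijective (fun U : Opens X => (Opens.map f).obj U)) :
    (TopCat.Sheaf.pullback A f).IsEquivalence := by
  have := pushforward_isEquivalence f A hf
  exact (TopCat.Sheaf.pullbackPushforwardAdjunction A f).isEquivalence_left_of_isEquivalence_right

end Main

end Groth.Agent.Lib.T2H4.QHomeo
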