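import Mathlib

/-!
# Quasi-homeomorphisms and sheaves, part B

If pushforward of sheaves (with values in a concrete category with at least one object having two
distinct elements and terminal objects with subsingleton carrier) along `f` is an equivalence,
then `U ↦ f⁻¹ U` is a bijection on opens.
-/

open CategoryTheory CategoryTheory.Limits TopologicalSpace Opposite TopCat

namespace Groth.Agent.Lib.T2H4.QHomeo

universe u w

attribute [local instance] Classical.propDecidable

section Sky

variable {Y : TopCat.{u}} {A : Type w} [Category.{u} A] [HasTerminal A] (z : Y) (B : A)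

/-- the value of the skyscraper sheaf on an open containing the point -/
noncomputable def skyIso {V : Opens Y} (h : z ∈ V) :
    (skyscraperSheaf z B).obj.obj (op V) ≅ B :=
  eqToIso (if_pos h)

lemma sky_map {V V' : Opens Y} (hV' : z ∈ V') (hle : V' ≤ V) :
    (skyscraperSheaf z B).obj.map (homOfLE hle).op ≫ (skyIso z B hV').hom =
      (skyIso z B (hle hV')).hom := by
  change (skyscraperPresheaf z B).map (homOfLE hle).op ≫ _ = _
  rw [skyscraperPresheaf_map, dif_pos hV']
  simp only [skyIso, eqToIso.hom]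
  exact eqToHom_trans _ _

lemma isIso_sky_map {V V' : Opens Y} (hV' : z ∈ V') (hle : V' ≤ V) :
    IsIso ((skyscraperSheaf z B).obj.map (homOfLE hle).op) := by
  have h := sky_map z B hV' hle
  have : (skyscraperSheaf z B).obj.map (homOfLE hle).op =
      (skyIso z B (hle hV')).hom ≫ (skyIso z B hV').inv := by
    rw [← h]; simp
  rw [this]
  infer_instance

end Sky

section Inj

variable {X₀ X : TopCat.{u}} (f : X₀ ⟶ X) (A : Type w) [Category.{u} A]
  {FA : A → A → Type*} {CA : A → Type u}
  [∀ X Y, FunLike (FA X Y) (CA X) (CA Y)] [ConcreteCategory.{u} A FA] [HasTerminal A]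

/-- If pushforward is essentially surjective, restriction maps between opens with the same
preimage are isomorphisms, for every sheaf on the target. -/
lemma isIso_map_of_map_eq [(TopCat.Sheaf.pushforward A f).EssSurj] (F : TopCat.Sheaf A X)
    {U V : Opens X} (hle : V ≤ U) (h : (Opens.map f).obj V = (Opens.map f).obj U) :
    IsIso (F.obj.map (homOfLE hle).op) := by
  let G := (TopCat.Sheaf.pushforward A f).objPreimage F
  let α : (TopCat.Sheaf.pushforward A f).obj G ≅ F :=
    (TopCat.Sheaf.pushforward A f).objObjPreimageIso F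
  let β : ((Presheaf.pushforward A f).obj G.obj) ≅ F.obj := (sheafToPresheaf _ A).mapIso α
  have nat := β.hom.naturality (homOfLE hle).op
  have h1 : IsIso ((Opens.map f).map (homOfLE hle)) :=
    ⟨homOfLE h.ge, Subsingleton.elim _ _, Subsingleton.elim _ _⟩
  have h2 : IsIso (((Presheaf.pushforward A f).obj G.obj).map (homOfLE hle).op) := by
    change IsIso (G.obj.map ((Opens.map f).map (homOfLE hle)).op)
    infer_instance
  have h3 : F.obj.map (homOfLE hle).op =
      (β.app (op U)).inv ≫ ((Presheaf.pushforward A f).obj G.obj).map (homOfLE hle).op ≫ (β.app (op V)).hom := by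
    rw [Iso.eq_inv_comp]
    exact nat.symm
  rw [h3]
  infer_instance

lemma le_of_map_eq (hT : ∀ T : A, IsTerminal T → Subsingleton (ToType T)) (B : A)
    (b₀ b₁ : ToType B) (hb : b₀ ≠ b₁) [(TopCat.Sheaf.pushforward A f).EssSurj]
    {U V : Opens X} (hle : V ≤ U) (h : (Opens.map f).obj V = (Opens.map f).obj U) : U ≤ V := by
  intro x hxU
  by_contra hxV
  have hiso := isIso_map_of_map_eq f A (skyscraperSheaf x B) hle h
  have hterm : IsTerminal ((skyscraperSheaf x B).obj.obj (op V)) := by
    change IsTerminal (if x ∈ V then B else ⊤_ A)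
    rw [if_neg hxV]
    exact terminalIsTerminal
  have hsub := hT _ hterm
  have hbij := ConcreteCategory.bijective_of_isIso ((skyscraperSheaf x B).obj.map (homOfLE hle).op)
  let e := skyIso x B hxU
  have h1 : e.inv b₀ = e.inv b₁ := hbij.1 (Subsingleton.elim _ _)
  have h2 := congrArg (fun t => e.hom t) h1
  simp only [← ConcreteCategory.comp_apply, Iso.inv_hom_id, ConcreteCategory.id_apply] at h2
  exact hb h2

theorem map_injective (hT : ∀ T : A, IsTerminal T → Subsingleton (ToType T)) (B : A)
    (b₀ b₁ : ToType B) (hb : b₀ ≠ b₁) [(TopCat.Sheaf.pushforward A f).EssSurj] :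
    Function.Injective (fun U : Opens X => (Opens.map f).obj U) := by
  intro U V h
  have h' : (Opens.map f).obj U = (Opens.map f).obj V := h
  have h1 : (Opens.map f).obj (U ⊓ V) = (Opens.map f).obj U := by
    apply le_antisymm
    · exact (Opens.map f).monotone inf_le_left
    · intro x hx
      refine ⟨hx, ?_⟩
      change x ∈ (Opens.map f).obj V
      rw [← h']
      exact hx
  have h2 : (Opens.map f).obj (U ⊓ V) = (Opens.map f).obj V := h1.trans h'
  exact le_antisymm
    (le_trans (le_of_map_eq f A hT B b₀ b₁ hb inf_le_left h1) inf_le_right)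
    (le_trans (le_of_map_eq f A hT B b₀ b₁ hb inf_le_right h2) inf_le_left)

end Inj

section Prod

variable (A : Type w) [Category.{u} A]
  {FA : A → A → Type*} {CA : A → Type u}
  [∀ X Y, FunLike (FA X Y) (CA X) (CA Y)] [ConcreteCategory.{u} A FA]
  [HasLimits A] [PreservesLimits (forget A)]
variable {Y : TopCat.{u}} {ι : Type u} (M : ι → TopCat.Sheaf A Y) (V : Opens Y)

/-- the sections functor -/
noncomputable abbrev secF : TopCat.Sheaf A Y ⥤ A :=
  sheafToPresheaf _ A ⋙ (evaluation _ _).obj (op V)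

instance preservesLimit_secF : PreservesLimit (Discrete.functor M) (secF A V) := by
  have h : PreservesLimitsOfShape (Discrete ι) ((evaluation (Opens Y)ᵒᵖ A).obj (op V)) :=
    inferInstance
  have h' : PreservesLimit (Discrete.functor M ⋙ sheafToPresheaf _ A)
      ((evaluation (Opens Y)ᵒᵖ A).obj (op V)) := h.preservesLimit
  have h0 : PreservesLimitsOfShape (Discrete ι)
      (sheafToPresheaf (Opens.grothendieckTopology Y) A) := inferInstance
  have h0' : PreservesLimit (Discrete.functor M)
      (sheafToPresheaf (Opens.grothendieckTopology Y) A) := h0.preservesLimit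
  exact comp_preservesLimit _ _

/-- sections of a product are families of sections: the comparison map is bijective -/
lemma bijective_prod :
    Function.Bijective (fun (s : ToType ((∏ᶜ M : TopCat.Sheaf A Y).obj.obj (op V))) (j : ι) =>
      (Pi.π M j).hom.app (op V) s) := by
  let e := PreservesProduct.iso (secF A V) M
  let e' := Concrete.productEquiv (fun j => (secF A V).obj (M j))
  have hcomp : (fun (s : ToType ((∏ᶜ M : TopCat.Sheaf A Y).obj.obj (op V))) (j : ι) =>
      (Pi.π M j).hom.app (op V) s) = fun s => e' (e.hom s) := by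
    funext s j
    have h1 : e' (e.hom s) j = Pi.π (fun j => (secF A V).obj (M j)) j (e.hom s) :=
      Concrete.productEquiv_apply_apply _ _ _
    rw [h1]
    have h2 : e.hom ≫ Pi.π (fun j => (secF A V).obj (M j)) j = (secF A V).map (Pi.π M j) := by
      have h4 : e.hom = piComparison (secF A V) M := PreservesProduct.iso_hom _ _
      rw [h4]
      exact piComparison_comp_π _ _ _
    have h3 := ConcreteCategory.congr_hom h2 s
    rw [ConcreteCategory.comp_apply] at h3
    exact h3.symm
  rw [hcomp]
  exact e'.bijective.comp (ConcreteCategory.bijective_of_isIso e.hom)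

lemma prod_ext (s s' : ToType ((∏ᶜ M : TopCat.Sheaf A Y).obj.obj (op V)))
    (h : ∀ j, (Pi.π M j).hom.app (op V) s = (Pi.π M j).hom.app (op V) s') : s = s' :=
  (bijective_prod A M V).1 (funext h)

lemma exists_prod_mk (c : ∀ j, ToType ((M j).obj.obj (op V))) :
    ∃ s : ToType ((∏ᶜ M : TopCat.Sheaf A Y).obj.obj (op V)),
      ∀ j, (Pi.π M j).hom.app (op V) s = c j := by
  obtain ⟨s, hs⟩ := (bijective_prod A M V).2 c
  exact ⟨s, fun j => congrFun hs j⟩

end Prod

section Surj

variable {X₀ X : TopCat.{u}} (f : X₀ ⟶ X) (A : Type w) [Category.{u} A]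
  {FA : A → A → Type*} {CA : A → Type u}
  [∀ X Y, FunLike (FA X Y) (CA X) (CA Y)] [ConcreteCategory.{u} A FA]
  [HasLimits A] [HasColimits A] [PreservesLimits (forget A)]
  [PreservesFilteredColimits (forget A)]

theorem exists_nhd (hT : ∀ T : A, IsTerminal T → Subsingleton (ToType T)) (B : A)
    (b₀ b₁ : ToType B) (hb : b₀ ≠ b₁) [(TopCat.Sheaf.pushforward A f).Full]
    (W : Opens X₀) (x₀ : X₀) (hx₀ : x₀ ∈ W) :
    ∃ V : Opens X, f x₀ ∈ V ∧ (Opens.map f).obj V ≤ W := by
  let Z := {z : X₀ // z ∉ W}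
  let M : Z → TopCat.Sheaf A X₀ := fun z => skyscraperSheaf z.1 B
  let Q : TopCat.Sheaf A X₀ := ∏ᶜ M
  let V₀ : Opens X₀ := (Opens.map f).obj ⊤
  have hV₀ : ∀ z : X₀, z ∈ V₀ := fun z => trivial
  obtain ⟨s, hs⟩ := exists_prod_mk A M V₀ (fun z => (skyIso z.1 B (hV₀ z.1)).inv b₁)
  obtain ⟨t, ht⟩ := exists_prod_mk A M V₀ (fun z => (skyIso z.1 B (hV₀ z.1)).inv b₀)
  -- sections `s` and `t` agree exactly on opens inside `W`
  have key1 : ∀ (V' : Opens X₀) (hle : V' ≤ V₀),
      Q.obj.map (homOfLE hle).op s = Q.obj.map (homOfLE hle).op t → V' ≤ W := by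
    intro V' hle h z hzV'
    by_contra hzW
    let zz : Z := ⟨z, hzW⟩
    have h1 := congrArg (fun σ => (Pi.π M zz).hom.app (op V') σ) h
    have nat := (Pi.π M zz).hom.naturality (homOfLE hle).op
    have h2 : ∀ σ, (Pi.π M zz).hom.app (op V') (Q.obj.map (homOfLE hle).op σ) =
        (M zz).obj.map (homOfLE hle).op ((Pi.π M zz).hom.app (op V₀) σ) := by
      intro σ
      have := ConcreteCategory.congr_hom nat σ
      simpa only [ConcreteCategory.comp_apply] using this
    have h1' : (M zz).obj.map (homOfLE hle).op ((skyIso z B (hV₀ z)).inv b₁) =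
        (M zz).obj.map (homOfLE hle).op ((skyIso z B (hV₀ z)).inv b₀) := by
      rw [← hs zz, ← ht zz, ← h2, ← h2]
      exact h1
    have h3 : (skyIso z B hzV').hom
          ((M zz).obj.map (homOfLE hle).op ((skyIso z B (hV₀ z)).inv b₁)) =
        (skyIso z B hzV').hom
          ((M zz).obj.map (homOfLE hle).op ((skyIso z B (hV₀ z)).inv b₀)) := by
      rw [h1']
    have h4 : ∀ b : ToType B, (skyIso z B hzV').hom
        ((M zz).obj.map (homOfLE hle).op ((skyIso z B (hV₀ z)).inv b)) = b := by
      intro b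
      have h5 := sky_map z B hzV' hle
      have h6 := ConcreteCategory.congr_hom h5 ((skyIso z B (hV₀ z)).inv b)
      rw [ConcreteCategory.comp_apply] at h6
      rw [h6, ← ConcreteCategory.comp_apply, Iso.inv_hom_id, ConcreteCategory.id_apply]
    rw [h4, h4] at h3
    exact hb h3.symm
  have hWV₀ : W ≤ V₀ := fun z _ => hV₀ z
  have key2 : Q.obj.map (homOfLE hWV₀).op s = Q.obj.map (homOfLE hWV₀).op t := by
    apply prod_ext A M W
    intro zz
    have hterm : IsTerminal ((M zz).obj.obj (op W)) := by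
      change IsTerminal (if zz.1 ∈ W then B else ⊤_ A)
      rw [if_neg zz.2]
      exact terminalIsTerminal
    have := hT _ hterm
    exact Subsingleton.elim _ _
  -- the stalk of the pushforward at `f x₀`
  let P : TopCat.Sheaf A X := (TopCat.Sheaf.pushforward A f).obj Q
  let C : A := TopCat.Presheaf.stalk P.obj (f x₀)
  let ψ₀ : P.obj ⟶ skyscraperPresheaf (f x₀) C :=
    StalkSkyscraperPresheafAdjunctionAuxs.toSkyscraperPresheaf (f x₀)
      (𝟙 (TopCat.Presheaf.stalk P.obj (f x₀)))
  let ψ : P ⟶ (TopCat.Sheaf.pushforward A f).obj (skyscraperSheaf x₀ C) := ⟨ψ₀⟩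
  obtain ⟨ψ', hψ'⟩ := (TopCat.Sheaf.pushforward A f).map_surjective ψ
  have hy : f x₀ ∈ (⊤ : Opens X) := trivial
  have e1 : ψ.hom.app (op ⊤) = ψ'.hom.app (op V₀) := by
    rw [← hψ']; rfl
  have e2 : ψ.hom.app (op ⊤) = TopCat.Presheaf.germ P.obj ⊤ (f x₀) hy ≫ 𝟙 _ ≫ eqToHom (if_pos hy).symm := by
    change ψ₀.app (op ⊤) = _
    rw [StalkSkyscraperPresheafAdjunctionAuxs.toSkyscraperPresheaf_app, dif_pos hy]
    rfl
  have e3 : ψ'.hom.app (op V₀) s = ψ'.hom.app (op V₀) t := by
    have hiso := isIso_sky_map x₀ C hx₀ hWV₀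
    have hinj := (ConcreteCategory.bijective_of_isIso
      ((skyscraperSheaf x₀ C).obj.map (homOfLE hWV₀).op)).1
    apply hinj
    have nat := ψ'.hom.naturality (homOfLE hWV₀).op
    have n1 := ConcreteCategory.congr_hom nat s
    have n2 := ConcreteCategory.congr_hom nat t
    rw [ConcreteCategory.comp_apply, ConcreteCategory.comp_apply] at n1 n2
    rw [← n1, ← n2, key2]
  have e4 : TopCat.Presheaf.germ P.obj ⊤ (f x₀) hy s = TopCat.Presheaf.germ P.obj ⊤ (f x₀) hy t := by
    have h := e3
    rw [← e1, e2] at h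
    rw [Category.id_comp] at h
    have c1 := ConcreteCategory.comp_apply (TopCat.Presheaf.germ P.obj ⊤ (f x₀) hy)
      (eqToHom (if_pos hy).symm : C ⟶ (if f x₀ ∈ (⊤ : Opens X) then C else ⊤_ A)) s
    have c2 := ConcreteCategory.comp_apply (TopCat.Presheaf.germ P.obj ⊤ (f x₀) hy)
      (eqToHom (if_pos hy).symm : C ⟶ (if f x₀ ∈ (⊤ : Opens X) then C else ⊤_ A)) t
    exact (ConcreteCategory.bijective_of_isIso
      (eqToHom (if_pos hy).symm : C ⟶ (if f x₀ ∈ (⊤ : Opens X) then C else ⊤_ A))).1
      (c1.symm.trans (h.trans c2))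
  obtain ⟨V', hyV', iU, iV, hst⟩ := TopCat.Presheaf.germ_eq P.obj (f x₀) hy hy s t e4
  refine ⟨V', hyV', key1 ((Opens.map f).obj V') ((Opens.map f).monotone le_top) ?_⟩
  exact hst

theorem map_surjective (hT : ∀ T : A, IsTerminal T → Subsingleton (ToType T)) (B : A)
    (b₀ b₁ : ToType B) (hb : b₀ ≠ b₁) [(TopCat.Sheaf.pushforward A f).Full] :
    Function.Surjective (fun U : Opens X => (Opens.map f).obj U) := by
  intro W
  refine ⟨sSup {V : Opens X | (Opens.map f).obj V ≤ W}, le_antisymm ?_ ?_⟩
  · intro x₀ hx₀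
    obtain ⟨V, hV, hxV⟩ := Opens.mem_sSup.1 (show f x₀ ∈ sSup _ from hx₀)
    exact hV hxV
  · intro x₀ hx₀
    obtain ⟨V, hyV, hVW⟩ := exists_nhd f A hT B b₀ b₁ hb W x₀ hx₀
    exact Opens.mem_sSup.2 ⟨V, hVW, hyV⟩

theorem map_bijective_of_isEquivalence (hT : ∀ T : A, IsTerminal T → Subsingleton (ToType T))
    (B : A) (b₀ b₁ : ToType B) (hb : b₀ ≠ b₁) [(TopCat.Sheaf.pushforward A f).IsEquivalence] :
    Function.Bijective (fun U : Opens X => (Opens.map f).obj U) :=
  ⟨map_injective f A hT B b₀ b₁ hb, map_surjective f A hT B b₀ b₁ hb⟩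

theorem map_bijective_of_pullback_isEquivalence [(forget A).ReflectsIsomorphisms]
    (hT : ∀ T : A, IsTerminal T → Subsingleton (ToType T))
    (B : A) (b₀ b₁ : ToType B) (hb : b₀ ≠ b₁) [(TopCat.Sheaf.pullback A f).IsEquivalence] :
    Function.Bijective (fun U : Opens X => (Opens.map f).obj U) := by
  have : (TopCat.Sheaf.pushforward A f).IsEquivalence :=
    (TopCat.Sheaf.pullbackPushforwardAdjunction A f).isEquivalence_right_of_isEquivalence_left
  exact map_bijective_of_isEquivalence f A hT B b₀ b₁ hb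

end Surj

end Groth.Agent.Lib.T2H4.QHomeo
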