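import Groth.Agent.Lib.T2H4RGCompute

/-!
# `RHom_A(A/f, K)` is the fibre of multiplication by a nonzerodivisor `f` (helper4)
-/

set_option autoImplicit false
universe u
open CategoryTheory CategoryTheory.Limits DerivedCategory
attribute [local instance] HasDerivedCategory.standard

namespace Groth.Agent.Lib.T2H4.DComp

open Groth.Agent.Lib.Helper17.KInj Groth.Agent.Lib.Helper1.Extend Groth.Agent.Lib.Helper1.Restrict
  Pretriangulated

section Quot

variable {A : Type u} [CommRing A] (f : A)

/-- `A/f` as an `A`-module via restriction of scalars. -/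
abbrev Bq : Type u := ((ModuleCat.restrictScalars.{u} (Ideal.Quotient.mk (Ideal.span ({f} : Set A)))).obj
  (ModuleCat.of (A ⧸ Ideal.span ({f} : Set A)) (A ⧸ Ideal.span ({f} : Set A))) : Type u)

/-- the counit `Hom_A(A/f, M) ⟶ M` is evaluation at `1`. -/
lemma counit_apply (M : ModuleCat.{u} A)
    (h : (ModuleCat.restrictScalars.{u} (Ideal.Quotient.mk (Ideal.span ({f} : Set A)))).obj
      ((ModuleCat.coextendScalars.{u, u, u} (Ideal.Quotient.mk (Ideal.span ({f} : Set A)))).obj M)) :
    (ModuleCat.restrictCoextendScalarsAdj.{u, u, u}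
      (Ideal.Quotient.mk (Ideal.span ({f} : Set A)))).counit.app M h =
      (ModuleCat.CoextendScalars.equiv (Ideal.Quotient.mk (Ideal.span ({f} : Set A))) M h)
        (1 : A ⧸ Ideal.span ({f} : Set A)) := rfl

lemma coext_apply_mk (M : ModuleCat.{u} A) (h : Bq f →ₗ[A] M) (a : A) :
    h (show Bq f from Ideal.Quotient.mk (Ideal.span ({f} : Set A)) a) =
      a • h (show Bq f from (1 : A ⧸ Ideal.span ({f} : Set A))) := by
  rw [← h.map_smul]
  congr 1
  show _ = Ideal.Quotient.mk (Ideal.span ({f} : Set A)) a * 1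
  rw [mul_one]

lemma counit_injective (M : ModuleCat.{u} A) :
    Function.Injective ((ModuleCat.restrictCoextendScalarsAdj.{u, u, u}
      (Ideal.Quotient.mk (Ideal.span ({f} : Set A)))).counit.app M) := by
  intro h₁ h₂ h
  rw [counit_apply, counit_apply] at h
  apply (ModuleCat.CoextendScalars.equiv (Ideal.Quotient.mk (Ideal.span ({f} : Set A))) M).injective
  apply LinearMap.ext
  intro b
  obtain ⟨a, rfl⟩ := Ideal.Quotient.mk_surjective (I := Ideal.span ({f} : Set A)) b
  exact (coext_apply_mk f M _ a).trans ((congrArg (fun t => a • t) h).trans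
    (coext_apply_mk f M _ a).symm)

lemma smul_counit (M : ModuleCat.{u} A)
    (h : (ModuleCat.restrictScalars.{u} (Ideal.Quotient.mk (Ideal.span ({f} : Set A)))).obj
      ((ModuleCat.coextendScalars.{u, u, u} (Ideal.Quotient.mk (Ideal.span ({f} : Set A)))).obj M)) :
    f • ((ModuleCat.restrictCoextendScalarsAdj.{u, u, u}
      (Ideal.Quotient.mk (Ideal.span ({f} : Set A)))).counit.app M h) = 0 := by
  rw [counit_apply]
  refine (coext_apply_mk f M _ f).symm.trans ?_
  have : Ideal.Quotient.mk (Ideal.span ({f} : Set A)) f = 0 :=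
    Ideal.Quotient.eq_zero_iff_mem.2 (Ideal.mem_span_singleton_self f)
  rw [this]
  exact map_zero _

lemma exists_counit_eq (M : ModuleCat.{u} A) (x : M) (hx : f • x = 0) :
    ∃ h, (ModuleCat.restrictCoextendScalarsAdj.{u, u, u}
      (Ideal.Quotient.mk (Ideal.span ({f} : Set A)))).counit.app M h = x := by
  have hle : (Ideal.span ({f} : Set A) : Submodule A A) ≤
      LinearMap.ker (LinearMap.toSpanSingleton A M x) := by
    rw [Ideal.span_le]
    rintro a ha
    rw [Set.mem_singleton_iff.1 ha]
    show LinearMap.toSpanSingleton A M x f = 0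
    rw [LinearMap.toSpanSingleton_apply, hx]
  let l : (A ⧸ Ideal.span ({f} : Set A)) →ₗ[A] M :=
    Submodule.liftQ _ (LinearMap.toSpanSingleton A M x) hle
  let h' : Bq f →ₗ[A] M :=
    { toFun := fun b => l (show A ⧸ Ideal.span ({f} : Set A) from b)
      map_add' := fun b c => l.map_add _ _
      map_smul' := fun a b => by
        have : (show A ⧸ Ideal.span ({f} : Set A) from (a • b : Bq f)) =
            a • (show A ⧸ Ideal.span ({f} : Set A) from b) := by
          show Ideal.Quotient.mk (Ideal.span ({f} : Set A)) a *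
            (show A ⧸ Ideal.span ({f} : Set A) from b) = _
          rw [Algebra.smul_def]
          rfl
        exact (congrArg l this).trans (l.map_smul a _) }
  refine ⟨(ModuleCat.CoextendScalars.equiv (Ideal.Quotient.mk (Ideal.span ({f} : Set A))) M).symm h',
    ?_⟩
  show l (Submodule.Quotient.mk 1) = x
  rw [Submodule.liftQ_apply, LinearMap.toSpanSingleton_apply, one_smul]

lemma smul_surjective_of_injective (M : ModuleCat.{u} A) [Injective M]
    (hf : f ∈ nonZeroDivisors A) : Function.Surjective (fun x : M => f • x) := by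
  intro x
  let m : ModuleCat.of A A ⟶ ModuleCat.of A A := ModuleCat.ofHom (LinearMap.toSpanSingleton A A f)
  haveI : Mono m := by
    rw [ModuleCat.mono_iff_injective]
    intro a b hab
    have h1 : a • f = b • f := hab
    have h2 : (a - b) * f = 0 := by
      rw [sub_mul]
      exact sub_eq_zero.2 h1
    exact sub_eq_zero.1 ((mem_nonZeroDivisors_iff_right.1 hf) _ h2)
  let g : ModuleCat.of A A ⟶ M := ModuleCat.ofHom (LinearMap.toSpanSingleton A M x)
  refine ⟨(Injective.factorThru g m) (1 : A), ?_⟩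
  have h1 : m ≫ Injective.factorThru g m = g := Injective.comp_factorThru g m
  have h2 := congrArg (fun t => t.hom (1 : A)) h1
  simp only [ModuleCat.hom_comp, LinearMap.comp_apply] at h2
  have h3 : m.hom (1 : A) = f • (1 : A) := by
    show LinearMap.toSpanSingleton A A f 1 = _
    rw [LinearMap.toSpanSingleton_apply, one_smul, smul_eq_mul, mul_one]
  have h4 : g.hom (1 : A) = x := by
    show LinearMap.toSpanSingleton A M x 1 = _
    rw [LinearMap.toSpanSingleton_apply, one_smul]
  rw [h3, h4, map_smul] at h2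
  exact h2


/-- the short complex `Hom_A(A/f, J) ⟶ J ⟶ J`. -/
noncomputable abbrev sesQuot (J : CochainComplex (ModuleCat.{u} A) ℤ) :
    ShortComplex (CochainComplex (ModuleCat.{u} A) ℤ) :=
  ShortComplex.mk (evOne (Ideal.Quotient.mk (Ideal.span ({f} : Set A))) J) (f • 𝟙 J) (by
    ext n x
    rw [HomologicalComplex.comp_f, HomologicalComplex.smul_f_apply, HomologicalComplex.id_f,
      HomologicalComplex.zero_f]
    show (f • 𝟙 (J.X n) : J.X n ⟶ J.X n).hom
      ((ModuleCat.restrictCoextendScalarsAdj.{u, u, u}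
        (Ideal.Quotient.mk (Ideal.span ({f} : Set A)))).counit.app (J.X n) x) = 0
    rw [ModuleCat.hom_smul, LinearMap.smul_apply, ModuleCat.hom_id, LinearMap.id_apply]
    exact smul_counit f (J.X n) x)

lemma sesQuot_shortExact (J : CochainComplex (ModuleCat.{u} A) ℤ) (hJ : ∀ n, Injective (J.X n))
    (hf : f ∈ nonZeroDivisors A) : (sesQuot f J).ShortExact := by
  apply HomologicalComplex.shortExact_of_degreewise_shortExact
  intro i
  have hg : ∀ x : J.X i, ((sesQuot f J).map (HomologicalComplex.eval _ _ i)).g x = f • x := by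
    intro x
    show ((f • 𝟙 J : J ⟶ J).f i).hom x = f • x
    rw [HomologicalComplex.smul_f_apply, HomologicalComplex.id_f, ModuleCat.hom_smul,
      LinearMap.smul_apply, ModuleCat.hom_id, LinearMap.id_apply]
  exact
    { exact := by
        rw [ShortComplex.moduleCat_exact_iff]
        intro x hx
        have hx' : f • (show J.X i from x) = 0 := (hg x).symm.trans hx
        exact exists_counit_eq f (J.X i) x hx'
      mono_f := by
        rw [ModuleCat.mono_iff_injective]
        exact counit_injective f (J.X i)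
      epi_g := by
        rw [ModuleCat.epi_iff_surjective]
        intro x
        haveI := hJ i
        obtain ⟨y, hy⟩ := smul_surjective_of_injective f (J.X i) hf x
        exact ⟨y, (hg y).trans hy⟩ }

/-- For a nonzerodivisor `f`, `RHom_A(A/f, K)` is the fibre of `f : K ⟶ K`. -/
theorem exists_triangle_quot (hf : f ∈ nonZeroDivisors A)
    (R : Dual.D A ⥤ Dual.D (A ⧸ Ideal.span ({f} : Set A)))
    (adj : DRing.restrictD (Ideal.Quotient.mk (Ideal.span ({f} : Set A))) ⊣ R) (K : Dual.D A) :
    ∃ (u : (DRing.restrictD (Ideal.Quotient.mk (Ideal.span ({f} : Set A)))).obj (R.obj K) ⟶ K)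
      (w : K ⟶ ((DRing.restrictD (Ideal.Quotient.mk (Ideal.span ({f} : Set A)))).obj
        (R.obj K))⟦(1 : ℤ)⟧),
      Triangle.mk u (f • 𝟙 K) w ∈ distTriang (Dual.D A) := by
  obtain ⟨J, hJ, ⟨e⟩⟩ := exists_fibrant K
  have hJinj : ∀ n, Injective (J.X n) := fun n => injective_X_of_rlp hJ n
  have hS := sesQuot_shortExact f J hJinj hf
  let iso₁ : (DRing.restrictD (Ideal.Quotient.mk (Ideal.span ({f} : Set A)))).obj (R.obj K) ≅
      Q.obj (rcCx (Ideal.Quotient.mk (Ideal.span ({f} : Set A))) J) :=
    (DRing.restrictD (Ideal.Quotient.mk (Ideal.span ({f} : Set A)))).mapIso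
      ((adj.rightAdjointUniq (adjRG (Ideal.Quotient.mk (Ideal.span ({f} : Set A))))).app K ≪≫
        (RG (Ideal.Quotient.mk (Ideal.span ({f} : Set A)))).mapIso e) ≪≫
      FRGQIso (Ideal.Quotient.mk (Ideal.span ({f} : Set A))) J hJ
  refine ⟨iso₁.hom ≫ Q.map (evOne (Ideal.Quotient.mk (Ideal.span ({f} : Set A))) J) ≫ e.inv,
    e.hom ≫ triangleOfSESδ hS ≫ iso₁.inv⟦(1 : ℤ)⟧', ?_⟩
  refine isomorphic_distinguished _ (triangleOfSES_distinguished hS) _ ?_
  refine Triangle.isoMk _ _ iso₁ e e ?_ ?_ ?_
  · show (iso₁.hom ≫ Q.map (evOne (Ideal.Quotient.mk (Ideal.span ({f} : Set A))) J) ≫ e.inv) ≫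
      e.hom = iso₁.hom ≫ Q.map (evOne (Ideal.Quotient.mk (Ideal.span ({f} : Set A))) J)
    simp only [Category.assoc, Iso.inv_hom_id, Category.comp_id]
  · show (f • 𝟙 K) ≫ e.hom = e.hom ≫ Q.map (f • 𝟙 J)
    rw [Functor.map_smul, CategoryTheory.Functor.map_id, Linear.smul_comp, Linear.comp_smul,
      Category.id_comp, Category.comp_id]
  · show (e.hom ≫ triangleOfSESδ hS ≫ iso₁.inv⟦(1 : ℤ)⟧') ≫ iso₁.hom⟦(1 : ℤ)⟧' =
      e.hom ≫ triangleOfSESδ hS
    have h1 : (iso₁.inv⟦(1 : ℤ)⟧' : _ ⟶ _) ≫ iso₁.hom⟦(1 : ℤ)⟧' = 𝟙 _ := by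
      rw [← Functor.map_comp, Iso.inv_hom_id, CategoryTheory.Functor.map_id]
    rw [Category.assoc, Category.assoc, h1, Category.comp_id]

end Quot

end Groth.Agent.Lib.T2H4.DComp
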