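import Groth.Agent.Lib.T2H4RGCompute
import Groth.Agent.Lib.Helper17KInjD5

/-!
# Computing `RΓ_I` on fibrant complexes (helper4)
-/

set_option autoImplicit false
universe u
open CategoryTheory CategoryTheory.Limits DerivedCategory
attribute [local instance] HasDerivedCategory.standard

namespace Groth.Agent.Lib.T2H4.RGam

open Groth.Agent.Lib.Helper17.KInj Groth.Agent.Lib.T2H4.DComp

section Compute

variable {A : Type u} [CommRing A] (I : Ideal A)

/-- `Γ_I` termwise on complexes. -/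
noncomputable abbrev gammaCx :
    CochainComplex (ModuleCat.{u} A) ℤ ⥤ CochainComplex (ModuleCat.{u} A) ℤ :=
  (DRing.gammaI I).mapHomologicalComplex (ComplexShape.up ℤ)

variable [DRing.HasRgammaI I]

/-- the unit of `RΓ_I` on the level of complexes. -/
noncomputable def βΓ : gammaCx I ⋙ Q ⟶ Q ⋙ DRing.RgammaI I :=
  unitOfK (DRing.gammaI I) (DRing.RgammaI I)
    ((DRing.gammaIKh I).totalRightDerivedUnit Qh
      (HomotopyCategory.quasiIso (ModuleCat.{u} A) (ComplexShape.up ℤ)))

instance : (DRing.RgammaI I).IsRightDerivedFunctor (βΓ I)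
    (HomologicalComplex.quasiIso (ModuleCat.{u} A) (ComplexShape.up ℤ)) := by
  unfold βΓ
  infer_instance

lemma isIso_βΓ_app (J : CochainComplex (ModuleCat.{u} A) ℤ)
    (hJ : fibrant.{u} (ModuleCat.{u} A) J) : IsIso ((βΓ I).app J) :=
  isIso_app_of_fibrant'.{u} (DRing.gammaI I) (DRing.RgammaI I) (βΓ I) J hJ

/-- `RΓ_I` is computed termwise on fibrant complexes. -/
noncomputable def RgammaQIso (J : CochainComplex (ModuleCat.{u} A) ℤ)
    (hJ : fibrant.{u} (ModuleCat.{u} A) J) :
    (DRing.RgammaI I).obj (Q.obj J) ≅ Q.obj ((gammaCx I).obj J) :=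
  haveI := isIso_βΓ_app I J hJ
  (asIso ((βΓ I).app J)).symm

end Compute

section Vanish

variable {A : Type u} [CommRing A]

lemma homologyMap_smul_id (C : CochainComplex (ModuleCat.{u} A) ℤ) (f : A) (n : ℤ) :
    HomologicalComplex.homologyMap (f • 𝟙 C) n = f • 𝟙 (C.homology n) := by
  have h4 : (HomologicalComplex.shortComplexFunctor (ModuleCat.{u} A) (ComplexShape.up ℤ) n).map
      (f • 𝟙 C) = f • 𝟙 _ := by
    ext <;> rfl
  unfold HomologicalComplex.homologyMap
  rw [h4, ShortComplex.homologyMap_smul, ShortComplex.homologyMap_id]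
  rfl

/-- A complex with `f`-power torsion terms on which multiplication by `f` is a quasi-isomorphism
is acyclic. -/
lemma exactAt_of_quasiIso_smul_of_torsion (C : CochainComplex (ModuleCat.{u} A) ℤ) (f : A)
    (hq : QuasiIso (f • 𝟙 C)) (ht : ∀ (n : ℤ) (x : C.X n), ∃ m : ℕ, f ^ m • x = 0) (n : ℤ) :
    C.ExactAt n := by
  rw [HomologicalComplex.exactAt_iff_isZero_homology]
  have hiso : IsIso (HomologicalComplex.homologyMap (f • 𝟙 C) n) := inferInstance
  rw [homologyMap_smul_id] at hiso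
  have hinj : ∀ x : C.homology n, f • x = 0 → x = 0 := by
    intro x hx
    have hb := ((ConcreteCategory.isIso_iff_bijective (f • 𝟙 (C.homology n))).1 hiso).1
    apply hb
    rw [map_zero]
    exact hx
  have h0 : ∀ z : C.homology n, z = 0 := by
    intro z
    obtain ⟨c, rfl⟩ : ∃ c : C.cycles n, (C.homologyπ n).hom c = z :=
      (ModuleCat.epi_iff_surjective (C.homologyπ n)).1 inferInstance z
    obtain ⟨m, hm⟩ := ht n ((C.iCycles n).hom c)
    have hc : f ^ m • c = 0 := by
      apply (ModuleCat.mono_iff_injective (C.iCycles n)).1 inferInstance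
      rw [map_smul, hm, map_zero]
    have hz : f ^ m • (C.homologyπ n).hom c = 0 := by rw [← map_smul, hc, map_zero]
    generalize (C.homologyπ n).hom c = z at hz
    clear hc hm
    induction m with
    | zero => simpa using hz
    | succ m ih =>
      apply ih
      apply hinj
      rw [← mul_smul, ← pow_succ']
      exact hz
  haveI : Subsingleton (C.homology n) := ⟨fun x y => by rw [h0 x, h0 y]⟩
  exact ModuleCat.isZero_of_subsingleton _

lemma isZero_Q_obj_of_exactAt (C : CochainComplex (ModuleCat.{u} A) ℤ)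
    (hex : ∀ n : ℤ, C.ExactAt n) : IsZero ((Q : _ ⥤ Dual.D A).obj C) := by
  have h1 : CochainComplex.IsLE C 0 := by
    rw [CochainComplex.isLE_iff]
    exact fun i _ => hex i
  have h2 : CochainComplex.IsGE C 1 := by
    rw [CochainComplex.isGE_iff]
    exact fun i _ => hex i
  have : (Q.obj C).IsLE 0 := (DerivedCategory.isLE_Q_obj_iff _ _).2 h1
  have : (Q.obj C).IsGE 1 := (DerivedCategory.isGE_Q_obj_iff _ _).2 h2
  exact DerivedCategory.TStructure.t.isZero (Q.obj C) 0 1 (by simp)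

lemma gammaCx_map_smul_id (I : Ideal A) (J : CochainComplex (ModuleCat.{u} A) ℤ) (f : A) :
    (gammaCx I).map (f • 𝟙 J) = f • 𝟙 ((gammaCx I).obj J) := by
  ext n x
  rfl

/-- **S8933**: `RΓ_I(K) = 0` if some `f ∈ I` acts bijectively on every term of `K`. -/
theorem isZero_RgammaI_of_smul_bijective (I : Ideal A) [DRing.HasRgammaI I]
    (K : CochainComplex (ModuleCat.{u} A) ℤ) (f : A) (hf : f ∈ I)
    (hK : ∀ n : ℤ, Function.Bijective (fun x : K.X n => f • x)) :
    IsZero ((DRing.RgammaI I).obj (Q.obj K)) := by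
  let J := (fibRepl₀.{u} (ModuleCat.{u} A)).obj K
  let ι : K ⟶ J := (fibReplι₀.{u} (ModuleCat.{u} A)).app K
  have hJ : fibrant.{u} (ModuleCat.{u} A) J := fibrant_fibRepl₀ _ K
  haveI : QuasiIso ι := (trivCof_fibReplι₀.{u} (ModuleCat.{u} A) K).2
  haveI : IsIso ((Q : _ ⥤ Dual.D A).map ι) := by
    rw [DerivedCategory.isIso_Q_map_iff_quasiIso]
    infer_instance
  refine IsZero.of_iso ?_
    ((DRing.RgammaI I).mapIso (asIso ((Q : _ ⥤ Dual.D A).map ι)) ≪≫ RgammaQIso I J hJ)
  have h1 : IsIso (f • 𝟙 K) := by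
    haveI : ∀ n, IsIso ((f • 𝟙 K : K ⟶ K).f n) := fun n => by
      rw [ConcreteCategory.isIso_iff_bijective]
      exact hK n
    exact HomologicalComplex.Hom.isIso_of_components _
  have h2 : IsIso ((Q : _ ⥤ Dual.D A).map (f • 𝟙 J)) := by
    have hn : (Q : _ ⥤ Dual.D A).map ι ≫ Q.map (f • 𝟙 J) = Q.map (f • 𝟙 K) ≫ Q.map ι := by
      rw [← Functor.map_comp, ← Functor.map_comp, Linear.comp_smul, Linear.smul_comp,
        Category.comp_id, Category.id_comp]
    have : (Q : _ ⥤ Dual.D A).map (f • 𝟙 J) = inv (Q.map ι) ≫ Q.map (f • 𝟙 K) ≫ Q.map ι := by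
      rw [← hn, IsIso.inv_hom_id_assoc]
    rw [this]
    infer_instance
  have h3 : IsIso ((Q : _ ⥤ Dual.D A).map ((gammaCx I).map (f • 𝟙 J))) := by
    haveI := isIso_βΓ_app I J hJ
    have nat := (βΓ I).naturality (f • 𝟙 J)
    have : (Q : _ ⥤ Dual.D A).map ((gammaCx I).map (f • 𝟙 J)) =
        ((βΓ I).app J ≫ (DRing.RgammaI I).map (Q.map (f • 𝟙 J))) ≫ inv ((βΓ I).app J) :=
      (IsIso.eq_comp_inv _).2 nat
    rw [this]
    infer_instance
  have h4 : QuasiIso (f • 𝟙 ((gammaCx I).obj J)) := by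
    rw [← gammaCx_map_smul_id]
    exact (DerivedCategory.isIso_Q_map_iff_quasiIso (φ := (gammaCx I).map (f • 𝟙 J))).1 h3
  apply isZero_Q_obj_of_exactAt
  intro n
  apply exactAt_of_quasiIso_smul_of_torsion _ f h4
  intro n x
  obtain ⟨m, hm⟩ := x.2
  exact ⟨m, Subtype.ext (hm _ (Ideal.pow_mem_pow hf m))⟩

end Vanish

end Groth.Agent.Lib.T2H4.RGam
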