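import Mathlib
import Groth.Prelude.Def_RelProj4
import Groth.Agent.Lib.T2H4RLBridgeAF
set_option backward.isDefEq.respectTransparency.types false

/-!
# Relative very ampleness is local on the base (helper4)

* `κres` : the identification `Γ((q|U₀)_* (L|q⁻¹U₀), U') = Γ(q_* L, U₀.ι '' U')`, with `res_κres`, `κres_smul`;
* `isRelVeryAmple_of_forall_restrict` : if `L|q⁻¹(U_k)` is very ample relative to `q⁻¹(U_k) ⟶ U_k` for an open cover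
  `(U_k)` of `Y` then `L` is very ample relative to `q` (`q` quasi-compact) (EGA II 4.4.5).
-/

set_option autoImplicit false
set_option linter.style.haveILetI false
set_option linter.unusedSectionVars false
set_option linter.unusedVariables false
universe u
open CategoryTheory AlgebraicGeometry TopologicalSpace Opposite HomogeneousLocalization
open scoped HomogeneousIdeal

namespace Groth.Agent.Lib.T2H4.RLBridge

open Groth.Agent.Lib.Helper6 Groth.Agent.Lib.Helper23.SecTw Groth.Agent.Lib.T2H4.GrSym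
  Groth.Agent.Lib.Helper2.RelTwistTensor Groth.Agent.Lib.Helper23.PB Groth.Agent.Lib.Helper2.RelTildeQCoh

section assembly

variable {X Y : Scheme.{u}} (q : X ⟶ Y) (L : X.Modules) (U₀ : Y.Opens)

/-- the identification `Γ((q|U₀)_* (L|q⁻¹U₀), U') = Γ(q_* L, U₀.ι '' U')` -/
noncomputable def κres (U' : (U₀ : Scheme.{u}).Opens) :
    Γ((Scheme.Modules.pushforward (q ∣_ U₀)).obj (L.restrict (q ⁻¹ᵁ U₀).ι), U') →+
      Γ((Scheme.Modules.pushforward q).obj L, U₀.ι ''ᵁ U') :=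
  (L.presheaf.map (homOfLE (image_morphismRestrict_preimage q U₀ U').ge).op).hom

theorem κres_apply (U' : (U₀ : Scheme.{u}).Opens)
    (m : Γ((Scheme.Modules.pushforward (q ∣_ U₀)).obj (L.restrict (q ⁻¹ᵁ U₀).ι), U')) :
    κres q L U₀ U' m = res L (image_morphismRestrict_preimage q U₀ U').ge m := rfl

theorem res_κres (U' : (U₀ : Scheme.{u}).Opens)
    (e₀ : Γ((Scheme.Modules.pushforward (q ∣_ U₀)).obj (L.restrict (q ⁻¹ᵁ U₀).ι), U'))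
    (W : ((q ⁻¹ᵁ U₀ : X.Opens) : Scheme.{u}).Opens)
    (hW : W ≤ (q ∣_ U₀) ⁻¹ᵁ U') (hW' : (q ⁻¹ᵁ U₀).ι ''ᵁ W ≤ q ⁻¹ᵁ (U₀.ι ''ᵁ U')) :
    res L hW' ((𝟙 ((Scheme.Modules.pushforward q).obj L) :
        (Scheme.Modules.pushforward q).obj L ⟶ (Scheme.Modules.pushforward q).obj L).app (U₀.ι ''ᵁ U')
          (κres q L U₀ U' e₀)) =
      res (L.restrict (q ⁻¹ᵁ U₀).ι) hW
        ((𝟙 ((Scheme.Modules.pushforward (q ∣_ U₀)).obj (L.restrict (q ⁻¹ᵁ U₀).ι)) :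
          (Scheme.Modules.pushforward (q ∣_ U₀)).obj (L.restrict (q ⁻¹ᵁ U₀).ι) ⟶
            (Scheme.Modules.pushforward (q ∣_ U₀)).obj (L.restrict (q ⁻¹ᵁ U₀).ι)).app U' e₀) := by
  change res L hW' (res L (image_morphismRestrict_preimage q U₀ U').ge e₀) = res L ((q ⁻¹ᵁ U₀).ι.image_mono hW) e₀
  rw [res_res]

theorem κres_smul (U' : (U₀ : Scheme.{u}).Opens) (a : Γ((U₀ : Scheme.{u}), U'))
    (m : Γ((Scheme.Modules.pushforward (q ∣_ U₀)).obj (L.restrict (q ⁻¹ᵁ U₀).ι), U')) :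
    κres q L U₀ U' (a • m) = (by exact a : Γ(Y, U₀.ι ''ᵁ U')) • κres q L U₀ U' m := by
  have h1 : (a • m : Γ((Scheme.Modules.pushforward (q ∣_ U₀)).obj (L.restrict (q ⁻¹ᵁ U₀).ι), U')) =
      ((by exact (q ∣_ U₀).app U' a : Γ(X, (q ⁻¹ᵁ U₀).ι ''ᵁ ((q ∣_ U₀) ⁻¹ᵁ U'))) •
        (show Γ(L, (q ⁻¹ᵁ U₀).ι ''ᵁ ((q ∣_ U₀) ⁻¹ᵁ U')) from m) :
          Γ(L, (q ⁻¹ᵁ U₀).ι ''ᵁ ((q ∣_ U₀) ⁻¹ᵁ U'))) :=
    smul_restrict_eq L (q ⁻¹ᵁ U₀) ((q ∣_ U₀) ⁻¹ᵁ U') ((q ∣_ U₀).app U' a) m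
  rw [κres_apply, κres_apply, h1, res_smul]
  have h2 : resf (image_morphismRestrict_preimage q U₀ U').ge
      (by exact (q ∣_ U₀).app U' a : Γ(X, (q ⁻¹ᵁ U₀).ι ''ᵁ ((q ∣_ U₀) ⁻¹ᵁ U'))) =
      q.app (U₀.ι ''ᵁ U') (by exact a : Γ(Y, U₀.ι ''ᵁ U')) := by
    rw [morphismRestrict_app]
    change (X.presheaf.map _ ≫ X.presheaf.map _) _ = _
    rw [← Functor.map_comp]
    have : ∀ (f : op (q ⁻¹ᵁ (U₀.ι ''ᵁ U')) ⟶ op (q ⁻¹ᵁ (U₀.ι ''ᵁ U'))) (y : Γ(X, q ⁻¹ᵁ (U₀.ι ''ᵁ U'))),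
        X.presheaf.map f y = y := by
      intro f y
      have : f = 𝟙 _ := Subsingleton.elim _ _
      rw [this, X.presheaf.map_id]
      rfl
    exact this _ _
  rw [h2]
  rfl

/-- a morphism carrying a relatively very ample module is separated -/
theorem isSeparated_of_isRelVeryAmple (h : RelProj.IsRelVeryAmple q L) : IsSeparated q := by
  obtain ⟨E', hE', 𝒮', j', hj', P', p', chart', hP', O1', lam', hO1', i, himm, hcomp, -⟩ := h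
  haveI := himm
  haveI : IsSeparated p' := isSeparated_of_isRelProj' 𝒮' p' chart' hP'
  rw [← hcomp]
  infer_instance

/-- frames for the identity of `q_* L` near the points of `q⁻¹ U₀` from very ampleness over `U₀` -/
theorem exists_frame_of_restrict [QuasiCompact q] (hL : PicF.IsInvertible L)
    (h : RelProj.IsRelVeryAmple (q ∣_ U₀) (L.restrict (q ⁻¹ᵁ U₀).ι))
    (x₀ : ((q ⁻¹ᵁ U₀ : X.Opens) : Scheme.{u})) :
    ∃ (U : Y.Opens) (hU : IsAffineOpen U) (e : Γ((Scheme.Modules.pushforward q).obj L, U)) (V : X.Opens)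
      (hV : IsAffineOpen V) (hVU : V ≤ q ⁻¹ᵁ U), (q ⁻¹ᵁ U₀).ι x₀ ∈ V ∧
        IsGen L V (res L hVU ((𝟙 ((Scheme.Modules.pushforward q).obj L) :
          (Scheme.Modules.pushforward q).obj L ⟶ (Scheme.Modules.pushforward q).obj L).app U e)) := by
  have hL₀ := isInvertible_restrict L hL (q ⁻¹ᵁ U₀)
  obtain ⟨hE₀, hfr₀, -⟩ := framed_pushforward_of_isRelVeryAmple (q ∣_ U₀) _ hL₀ h
  obtain ⟨U', hU', e₀, V₀, hV₀, hV₀U, hxV₀, hgen⟩ := hfr₀ x₀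
  have hVU := image_le_preimage_image q U₀ U' V₀ hV₀U
  refine ⟨U₀.ι ''ᵁ U', hU'.image_of_isOpenImmersion U₀.ι, κres q L U₀ U' e₀, (q ⁻¹ᵁ U₀).ι ''ᵁ V₀,
    hV₀.image_of_isOpenImmersion _, hVU, ⟨x₀, hxV₀, rfl⟩, ?_⟩
  rw [res_κres q L U₀ U' e₀ V₀ hV₀U hVU]
  exact isGen_of_isGen_restrict L (q ⁻¹ᵁ U₀) V₀ _ hgen

/-- the morphism `X ⟶ P(q_* L)` framed by the identity is an immersion near the points of `q⁻¹ U₀` when `L|q⁻¹ U₀` is very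
ample over `U₀` -/
theorem exists_isImmersion_restrict [QuasiCompact q] (hL : PicF.IsInvertible L)
    (hE : Coh.IsQCoh ((Scheme.Modules.pushforward q).obj L))
    {P : Scheme.{u}} (𝒮 : RelProj.QCGrAlg Y) (j : (Scheme.Modules.pushforward q).obj L ⟶ 𝒮.toModule)
    (hj : RelProj.IsGrSymAlg ((Scheme.Modules.pushforward q).obj L) 𝒮 j) (p : P ⟶ Y)
    (chart : ∀ (U : Y.Opens) (hU : IsAffineOpen U), ((p ⁻¹ᵁ U : P.Opens) : Scheme.{u}) ≅ Proj (𝒮.deg U hU))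
    (hP : RelProj.IsRelProj 𝒮 p chart) (O1 : P.Modules)
    (lam : ∀ (U : Y.Opens) (hU : IsAffineOpen U),
      O1 ⟶ (Scheme.Modules.pushforward (RelProj.emb p chart U hU)).obj (GrTwist.twist (𝒮.deg U hU) 1))
    (hO1 : RelProj.IsRelTwist 𝒮 p chart 1 O1 lam) (r : X ⟶ P)
    (hF : IsFramed p chart ((Scheme.Modules.pushforward q).obj L) j hj O1 lam hO1 q L r
      (fun U _ e => (𝟙 ((Scheme.Modules.pushforward q).obj L) :
        (Scheme.Modules.pushforward q).obj L ⟶ (Scheme.Modules.pushforward q).obj L).app U e))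
    (h : RelProj.IsRelVeryAmple (q ∣_ U₀) (L.restrict (q ⁻¹ᵁ U₀).ι))
    (x₀ : ((q ⁻¹ᵁ U₀ : X.Opens) : Scheme.{u})) :
    ∃ V : P.Opens, r ((q ⁻¹ᵁ U₀).ι x₀) ∈ V ∧ IsImmersion (r ∣_ V) := by
  have hL₀ := isInvertible_restrict L hL (q ⁻¹ᵁ U₀)
  obtain ⟨hE₀, hfr₀, himm₀⟩ := framed_pushforward_of_isRelVeryAmple (q ∣_ U₀) _ hL₀ h
  obtain ⟨𝒮₀, j₀, hj₀, P₀, p₀, chart₀, hP₀, O1₀, lam₀, hO1₀⟩ := exists_projBundle _ hE₀
  obtain ⟨r₀, hF₀⟩ := exists_isFramed_of_frames _ hE₀ 𝒮₀ j₀ hj₀ p₀ chart₀ hP₀ O1₀ lam₀ hO1₀ (q ∣_ U₀) _ hL₀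
    (𝟙 _) hfr₀
  haveI : IsImmersion r₀ := himm₀ 𝒮₀ j₀ hj₀ p₀ chart₀ hP₀ O1₀ lam₀ hO1₀ r₀ hF₀
  obtain ⟨U', hxU⟩ := exists_affine_mem_preimage p₀ (r₀ x₀)
  obtain ⟨y, hy⟩ := le_opensRange_emb p₀ chart₀ U'.1 U'.2 hxU
  obtain ⟨e₀, he₀⟩ := Groth.Agent.Lib.T2H4.ProjBundle.exists_not_mem_of_isGrSymAlg _ hE₀ 𝒮₀ j₀ hj₀ U'.1 U'.2 y
  have hx : x₀ ∈ r₀ ⁻¹ᵁ VF p₀ chart₀ (idxOf _ j₀ hj₀ U'.1 U'.2 e₀) :=
    ⟨y, (ProjectiveSpectrum.mem_basicOpen _ _ y).mpr he₀, hy⟩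
  refine ⟨VF p chart (idxOf _ j hj (U₀.ι ''ᵁ U'.1) (U'.2.image_of_isOpenImmersion U₀.ι) (κres q L U₀ U'.1 e₀)),
    ?_, ?_⟩
  · exact preimage_VF_cross_le q _ hE 𝒮 j hj p chart hP O1 lam hO1 L r (𝟙 _) hF U₀ _ 𝒮₀ j₀ hj₀ p₀ chart₀ O1₀ lam₀
      hO1₀ r₀ (𝟙 _) hF₀ (κres q L U₀) (res_κres q L U₀) U'.1 U'.2 e₀ x₀ hx
  · exact isImmersion_restrict_cross q _ hE 𝒮 j hj p chart hP O1 lam hO1 L r (𝟙 _) hF U₀ _ hE₀ 𝒮₀ j₀ hj₀ p₀ chart₀
      hP₀ O1₀ lam₀ hO1₀ r₀ (𝟙 _) hF₀ (κres q L U₀) (res_κres q L U₀) (κres_smul q L U₀) U'.1 U'.2 e₀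

/-- **relative very ampleness is local on the base** (EGA II 4.4.5) -/
theorem isRelVeryAmple_of_forall_restrict [QuasiCompact q] (hL : PicF.IsInvertible L) {ι : Type*}
    (U : ι → Y.Opens) (hU : ⨆ k, U k = ⊤)
    (h : ∀ k, RelProj.IsRelVeryAmple (q ∣_ U k) (L.restrict (q ⁻¹ᵁ U k).ι)) :
    RelProj.IsRelVeryAmple q L := by
  haveI : L.IsQuasicoherent := isQuasicoherent_of_isInvertible L hL
  haveI : IsSeparated q := by
    rw [IsZariskiLocalAtTarget.iff_of_iSup_eq_top (P := @IsSeparated) U hU]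
    exact fun k => isSeparated_of_isRelVeryAmple _ _ (h k)
  have hE : Coh.IsQCoh ((Scheme.Modules.pushforward q).obj L) :=
    Groth.Agent.Lib.Helper23.QCohLocal.isQuasicoherent_pushforward q L
  have hcov : ∀ x : X, ∃ k, ∃ x₀ : ((q ⁻¹ᵁ U k : X.Opens) : Scheme.{u}), (q ⁻¹ᵁ U k).ι x₀ = x := by
    intro x
    have hx : q x ∈ (⨆ k, U k) := by rw [hU]; trivial
    obtain ⟨k, hk⟩ := Opens.mem_iSup.1 hx
    exact ⟨k, ⟨x, hk⟩, rfl⟩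
  have hfr : ∀ x : X, ∃ (U : Y.Opens) (hU : IsAffineOpen U) (e : Γ((Scheme.Modules.pushforward q).obj L, U))
      (V : X.Opens) (hV : IsAffineOpen V) (hVU : V ≤ q ⁻¹ᵁ U), x ∈ V ∧
        IsGen L V (res L hVU ((𝟙 ((Scheme.Modules.pushforward q).obj L) :
          (Scheme.Modules.pushforward q).obj L ⟶ (Scheme.Modules.pushforward q).obj L).app U e)) := by
    intro x
    obtain ⟨k, x₀, rfl⟩ := hcov x
    exact exists_frame_of_restrict q L (U k) hL (h k) x₀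
  obtain ⟨𝒮, j, hj, P, p, chart, hP, O1, lam, hO1⟩ := exists_projBundle _ hE
  obtain ⟨r, hF⟩ := exists_isFramed_of_frames _ hE 𝒮 j hj p chart hP O1 lam hO1 q L hL (𝟙 _) hfr
  have himm : IsImmersion r := by
    refine isImmersion_of_forall_restrict r (fun V : {V : P.Opens // IsImmersion (r ∣_ V)} => V.1) ?_
      (fun V => V.2)
    intro x
    obtain ⟨k, x₀, rfl⟩ := hcov x
    obtain ⟨V, hxV, hV⟩ := exists_isImmersion_restrict q L (U k) hL hE 𝒮 j hj p chart hP O1 lam hO1 r hF (h k) x₀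
    exact ⟨⟨V, hV⟩, hxV⟩
  obtain ⟨τ, -⟩ := hF.exists_iso hE hP
  exact ⟨_, hE, 𝒮, j, hj, P, p, chart, hP, O1, lam, hO1, r, himm, hF.comp, ⟨τ.symm⟩⟩

end assembly

end Groth.Agent.Lib.T2H4.RLBridge
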