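import Mathlib
import Groth.Prelude.Def_RelProj4
import Groth.Agent.Lib.T2H4RLBridgeAG
set_option backward.isDefEq.respectTransparency.types false

/-!
# A generation criterion for a framed morphism to be a closed immersion over a standard open (helper4)

* `isClosedImmersion_restrict_of_gen` : for `i : X ⟶ P(E)` framed by `ψ : E ⟶ q_* L`, if `i⁻¹ D₊(e)` is affine and its
  functions are generated by the functions of the base and the ratios `ψ(m)/ψ(e)`, then `i` restricted over `D₊(e)` is a closed
  immersion.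
-/

set_option autoImplicit false
set_option linter.style.haveILetI false
set_option linter.unusedSectionVars false
set_option linter.unusedVariables false
universe u
open CategoryTheory AlgebraicGeometry TopologicalSpace Opposite HomogeneousLocalization
open scoped HomogeneousIdeal

namespace Groth.Agent.Lib.T2H4.RLBridge

open Groth.Agent.Lib.Helper6 Groth.Agent.Lib.Helper23.SecTw Groth.Agent.Lib.T2H4.GrSym
  Groth.Agent.Lib.Helper2.RelTwistTensor Groth.Agent.Lib.Helper23.PB Groth.Agent.Lib.Helper2.RelTildeQCoh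

section gen

variable {X Y P : Scheme.{u}} (q : X ⟶ Y)
  (E : Y.Modules) (hE : Coh.IsQCoh E) (𝒮 : RelProj.QCGrAlg Y) (j : E ⟶ 𝒮.toModule)
  (hj : RelProj.IsGrSymAlg E 𝒮 j) (p : P ⟶ Y)
  (chart : ∀ (U : Y.Opens) (hU : IsAffineOpen U), ((p ⁻¹ᵁ U : P.Opens) : Scheme.{u}) ≅ Proj (𝒮.deg U hU))
  (hP : RelProj.IsRelProj 𝒮 p chart) (O1 : P.Modules)
  (lam : ∀ (U : Y.Opens) (hU : IsAffineOpen U),
    O1 ⟶ (Scheme.Modules.pushforward (RelProj.emb p chart U hU)).obj (GrTwist.twist (𝒮.deg U hU) 1))
  (hO1 : RelProj.IsRelTwist 𝒮 p chart 1 O1 lam)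
  (L : X.Modules) (i : X ⟶ P)
  (ψ : E ⟶ (Scheme.Modules.pushforward q).obj L)
  (hF : IsFramed p chart E j hj O1 lam hO1 q L i (fun U _ e => ψ.app U e))

include hP hF in
/-- **generation criterion**: if `i⁻¹ D₊(e)` is affine and its functions are generated by those of the base and the
ratios `ψ(m)/ψ(e)`, then `i` restricted over `D₊(e)` is a closed immersion -/
theorem isClosedImmersion_restrict_of_gen (U : Y.Opens) (hU : IsAffineOpen U) (e : Γ(E, U))
    (haff : IsAffineOpen (i ⁻¹ᵁ VF p chart (idxOf E j hj U hU e)))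
    (hgen : ∀ T : Subring Γ(X, i ⁻¹ᵁ VF p chart (idxOf E j hj U hU e)),
      (∀ s : Γ(Y, U), q.appLE U _ (hF.preimage_VF_le' (idxOf E j hj U hU e)) s ∈ T) →
      (∀ (m : Γ(E, U)) (a : Γ(X, i ⁻¹ᵁ VF p chart (idxOf E j hj U hU e))),
        a • res L (hF.preimage_VF_le' (idxOf E j hj U hU e)) (ψ.app U e) =
          res L (hF.preimage_VF_le' (idxOf E j hj U hU e)) (ψ.app U m) → a ∈ T) → T = ⊤) :
    IsClosedImmersion (i ∣_ VF p chart (idxOf E j hj U hU e)) := by
  set iP := idxOf E j hj U hU e with hiP
  have hD : IsAffineOpen (VF p chart iP) := isAffineOpen_VF iP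
  have hWU := hF.preimage_VF_le' iP
  have hDU : VF p chart iP ≤ p ⁻¹ᵁ U := VF_le p chart iP
  have hsurj : Function.Surjective (i.appLE (VF p chart iP) (i ⁻¹ᵁ VF p chart iP) le_rfl) := by
    have htop : (i.appLE (VF p chart iP) (i ⁻¹ᵁ VF p chart iP) le_rfl).hom.range = ⊤ := by
      refine hgen _ (fun s => ?_) (fun m a ha => ?_)
      · refine ⟨chartFun p chart iP (amk (𝒮.deg U hU) iP.2.2 0 ((𝒮.str.app (op U)).hom s) (𝒮.str_mem U hU s)), ?_⟩
        have h3 : chartFun p chart iP
            (amk (𝒮.deg U hU) iP.2.2 0 ((𝒮.str.app (op U)).hom s) (𝒮.str_mem U hU s)) =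
            p.appLE U (VF p chart iP) hDU s := chartFun_str p chart hP iP s
        rw [h3]
        have h4 := appLE_appLE_of_comp hF.comp U _ _ hDU le_rfl hWU s
        exact h4
      · have hσP : res O1 hDU (sig p chart E j hj O1 lam hO1 U hU m) =
            chartFun p chart iP (amk (𝒮.deg U hU) iP.2.2 1
                ((j.app U) m : 𝒮.presheaf.obj (op U)) (hj.2 U hU m)) •
              res O1 hDU (sig p chart E j hj O1 lam hO1 U hU e) := by
          unfold sig
          rw [res_canonSec_le, res_canonSec_le]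
          exact canonSec_eq_chartFun_smul p chart O1 lam hO1 iP (hj.2 U hU m)
        have t1 := hF.trans U hU m U hU e _ hDU hDU _ hσP _ le_rfl hWU hWU
        simp only at t1
        have g := hF.gen U hU e hWU
        simp only at g
        refine ⟨chartFun p chart iP (amk (𝒮.deg U hU) iP.2.2 1
                ((j.app U) m : 𝒮.presheaf.obj (op U)) (hj.2 U hU m)), ?_⟩
        apply (g _ le_rfl).1
        simp only
        rw [res_self]
        exact t1.symm.trans ha.symm
    intro s
    have hs : s ∈ (i.appLE (VF p chart iP) (i ⁻¹ᵁ VF p chart iP) le_rfl).hom.range := by rw [htop]; trivial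
    exact hs
  exact isClosedImmersion_morphismRestrict_of_surjective i _ hD _ haff rfl hsurj

end gen

end Groth.Agent.Lib.T2H4.RLBridge
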