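import Groth.Agent.Lib.T2H6VAmpleB
import Groth.Agent.Lib.T2H6SegreC
import Groth.Agent.S3573
import Groth.Agent.S3572

/-!
# helper6 (team 2): very ample tensor globally generated is very ample (via the Segre embedding)
-/

set_option autoImplicit false
set_option linter.unusedSectionVars false
universe u

open CategoryTheory CategoryTheory.Limits AlgebraicGeometry TopologicalSpace Opposite
  HomogeneousLocalization

namespace Groth.Agent.Lib.T2H6.VAmpleC

open Groth.Agent.Helper13ProjUP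
open Groth.Agent.Lib.Helper27GrTildeSect Groth.Agent.Helper13GrTildeFrac
  Groth.Agent.Helper13Dehom Groth.Agent.Helper13AffMor Groth.Agent.Helper13SymGr
open Groth.Agent.Lib.Helper23.SecTw Groth.Agent.Lib.Helper6 Groth.Agent.Lib.Helper23.GenLocus
open Groth.Agent.Lib.Helper23.PB Groth.Agent.Helper13PullbackUnit Groth.Agent.Lib.Helper23.Extend
open Groth.Agent.Lib.T2H6.VAmple Groth.Agent.Lib.T2H6.Segre Groth.Agent.Lib.T2H6.SegreB

variable {R : Type u} [CommRing R] {X : Scheme.{u}}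

theorem transport_chart {A : Type u} [CommRing A] [Algebra R A] {𝒜 : ℕ → Submodule R A} [GradedAlgebra 𝒜]
    (r : X ⟶ Proj 𝒜) (O : X.Opens) {f f' g g' : A} (hf : f ∈ 𝒜 1) (hf' : f' ∈ 𝒜 1) (hff' : f = f')
    (hgg' : g = g') (hle : O ≤ r ⁻¹ᵁ Proj.basicOpen 𝒜 f) (hle' : O ≤ r ⁻¹ᵁ Proj.basicOpen 𝒜 f') :
    pb r (Proj.basicOpen 𝒜 f') O hle' (dehom hf' g') = pb r (Proj.basicOpen 𝒜 f) O hle (dehom hf g) := by
  subst hff' hgg'
  rfl

/-- the morphism to `P^n_R` attached to generating sections, with its chart data. -/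
theorem exists_mor_Pn (n : ℕ) (q : X ⟶ Spec (CommRingCat.of R)) (L : X.Modules) (hL : PicF.IsInvertible L)
    (s : Fin (n + 1) → ProjUP.Γm L) (hs : ProjUP.GeneratedBy L s) :
    ∃ (r : X ⟶ CohB1.ProjSpace n R), r ≫ CohB1.ProjSpace.toSpec n R = q ∧
      (∀ k, ∃ hle : CohB1.genLocus L (secHom L (s k)) ≤ r ⁻¹ᵁ D R n k,
        r ⁻¹ᵁ D R n k ≤ CohB1.genLocus L (secHom L (s k)) ∧
        ∀ k', pb r (D R n k) _ hle (dehom (hX R n k) (MvPolynomial.X k')) •
          res L (le_top : CohB1.genLocus L (secHom L (s k)) ≤ ⊤) (s k) = res L le_top (s k')) ∧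
      ∃ τ : (Scheme.Modules.pullback r).obj (Twist.twistProjSpace n R 1) ≅ L,
        ∀ k, τ.hom.app ⊤ (ProjUP.pullSec r (Twist.twistProjSpace n R 1) (ProjUP.coord n R k)) = s k := by
  classical
  let b : Module.Basis (Fin (n + 1)) R (Fin (n + 1) → R) := Pi.basisFun R (Fin (n + 1))
  let ι : (Fin (n + 1) → R) →ₗ[R] MvPolynomial (Fin (n + 1)) R :=
    Module.Basis.constr b R (MvPolynomial.X : Fin (n + 1) → MvPolynomial (Fin (n + 1)) R)
  have hsym : IsSymmetricAlgebra ι := SymmetricAlgebra.IsSymmetricAlgebra.mvPolynomial (Fin (n + 1)) b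
  have hιb : ∀ i, ι (Pi.single i 1) = MvPolynomial.X i := by
    intro i
    have := Module.Basis.constr_basis b R (MvPolynomial.X : Fin (n + 1) → MvPolynomial (Fin (n + 1)) R) i
    rwa [Pi.basisFun_apply] at this
  have hι : ∀ m, ι m ∈ CohB1.polyGrading n R 1 := by
    intro m
    have hm : m = ∑ i, m i • (Pi.single i (1 : R) : Fin (n + 1) → R) := by
      ext j
      simp [Finset.sum_apply, Pi.single_apply]
    rw [hm, map_sum]
    refine Submodule.sum_mem _ (fun i _ => ?_)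
    rw [map_smul, hιb]
    exact Submodule.smul_mem _ _ (MvPolynomial.isHomogeneous_X R i)
  let v : (Fin (n + 1) → R) →+ ProjUP.Γm L :=
    { toFun := fun m => ∑ i, ProjUP.toGlobal q (m i) • s i
      map_zero' := by simp
      map_add' := fun m m' => by
        simp only [Pi.add_apply, map_add, add_smul, Finset.sum_add_distrib] }
  have hv : ∀ (c : R) (m : Fin (n + 1) → R), v (c • m) = ProjUP.toGlobal q c • v m := by
    intro c m
    change ∑ i, ProjUP.toGlobal q ((c • m) i) • s i = ProjUP.toGlobal q c • ∑ i, ProjUP.toGlobal q (m i) • s i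
    rw [Finset.smul_sum]
    refine Finset.sum_congr rfl (fun i _ => ?_)
    rw [Pi.smul_apply, smul_eq_mul, map_mul, mul_smul]
  have hvb : ∀ i, v (Pi.single i 1) = s i := by
    intro i
    change ∑ j, ProjUP.toGlobal q ((Pi.single i (1 : R) : Fin (n + 1) → R) j) • s j = s i
    rw [Finset.sum_eq_single i]
    · rw [Pi.single_eq_same, map_one, one_smul]
    · intro j _ hj
      rw [Pi.single_eq_of_ne hj, map_zero, zero_smul]
    · intro h
      exact absurd (Finset.mem_univ i) h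
  have hgenv : ProjUP.GeneratedBy L v := by
    intro x
    rw [eq_top_iff, ← hs x]
    apply Submodule.span_mono
    rintro _ ⟨i, rfl⟩
    exact ⟨Pi.single i 1, by simp only [hvb]⟩
  obtain ⟨r, hle, hrq, hcf, hpre, τ, hτ⟩ :=
    exists_mor_iso' (CohB1.polyGrading n R) ι q L v hι hsym hL hv hgenv
  refine ⟨r, hrq, fun k => ?_, τ, fun k => ?_⟩
  · have h1 : ∃ hle' : XL L v (Pi.single k 1) ≤ r ⁻¹ᵁ D R n k,
        r ⁻¹ᵁ D R n k ≤ XL L v (Pi.single k 1) ∧
        ∀ k', pb r (D R n k) _ hle' (dehom (hX R n k) (MvPolynomial.X k')) •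
          res L (le_top : XL L v (Pi.single k 1) ≤ ⊤) (v (Pi.single k 1)) =
            res L le_top (v (Pi.single k' 1)) := by
      have hD : Proj.basicOpen (CohB1.polyGrading n R) (ι (Pi.single k 1)) = D R n k := by rw [hιb]
      refine ⟨hD ▸ hle (Pi.single k 1), hD ▸ hpre (Pi.single k 1), fun k' => ?_⟩
      rw [transport_chart r _ (hι (Pi.single k 1)) (hX R n k) (hιb k) (hιb k') (hle (Pi.single k 1)),
        hcf]
      exact cf_spec L v _ _
    revert h1
    unfold XL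
    rw [hvb k]
    rintro ⟨hle', h1, h2⟩
    exact ⟨hle', h1, fun k' => (h2 k').trans (congrArg _ (hvb k'))⟩
  · have h1 := hτ (Pi.single k 1)
    rw [Groth.Agent.S3572.unitSec_top, hvb] at h1
    rw [← h1]
    congr 2
    exact (Groth.Agent.S3572.gsec_congr (CohB1.polyGrading n R) (hι (Pi.single k 1))
      (MvPolynomial.isHomogeneous_X R k) (hιb k)).symm


/-- for an isomorphism `Φ : r^* O(1) ≅ L`, the preimage of `D₊(T_k)` lies in the generating locus of `Φ(r^* T_k)`. -/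
theorem preimage_le_genLocus (n : ℕ) (r : X ⟶ CohB1.ProjSpace n R) (L : X.Modules)
    (Φ : (Scheme.Modules.pullback r).obj (Twist.twistProjSpace n R 1) ≅ L) (k : Fin (n + 1)) :
    r ⁻¹ᵁ D R n k ≤ CohB1.genLocus L (secHom L
      (Φ.hom.app ⊤ (ProjUP.pullSec r (Twist.twistProjSpace n R 1) (ProjUP.coord n R k)))) := by
  set σ := Φ.hom.app ⊤ (ProjUP.pullSec r (Twist.twistProjSpace n R 1) (ProjUP.coord n R k)) with hσ
  set V := r ⁻¹ᵁ D R n k with hV
  have hg : IsGen ((Scheme.Modules.pullback r).obj (O1 (CohB1.polyGrading n R))) V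
      (pcoord r (hX R n k) (le_refl V)) := isGen_pcoord r (hX R n k) le_rfl
  have hg2 := isGen_of_iso Φ hg
  have h5 : Φ.hom.app V (pcoord r (hX R n k) (le_refl V)) = sv (secHom L σ) V := by
    rw [sv_secHom, hσ, ← Groth.Agent.S3572.unitSec_top]
    have h6 := res_unitSec r (O1 (CohB1.polyGrading n R)) (le_top : (⊤ : X.Opens) ≤ r ⁻¹ᵁ ⊤)
      (le_refl V) (le_top : D R n k ≤ ⊤) le_top (gsec (CohB1.polyGrading n R) 1 ⊤ (hX R n k))
    have h7 : pcoord r (hX R n k) (le_refl V) =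
        res ((Scheme.Modules.pullback r).obj (O1 (CohB1.polyGrading n R))) (le_top : V ≤ ⊤)
          (unitSec r (O1 (CohB1.polyGrading n R)) (le_top : (⊤ : X.Opens) ≤ r ⁻¹ᵁ ⊤)
            (gsec (CohB1.polyGrading n R) 1 ⊤ (hX R n k))) := h6.symm
    rw [h7]
    exact app_map Φ.hom (homOfLE le_top) _
  rw [h5] at hg2
  exact le_genLocus_of_isGen L _ V hg2

/-- chart data of a morphism `r` to `P^n_R` in terms of an isomorphism `Φ : r^* O(1) ≅ L`. -/
theorem chart_data_of_iso (n : ℕ) (r : X ⟶ CohB1.ProjSpace n R) (L : X.Modules) (hL : PicF.IsInvertible L)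
    (Φ : (Scheme.Modules.pullback r).obj (Twist.twistProjSpace n R 1) ≅ L)
    (t : Fin (n + 1) → ProjUP.Γm L)
    (ht : ∀ k, t k = Φ.hom.app ⊤ (ProjUP.pullSec r (Twist.twistProjSpace n R 1) (ProjUP.coord n R k))) :
    ProjUP.GeneratedBy L t ∧
    ∀ k, ∃ hle : CohB1.genLocus L (secHom L (t k)) ≤ r ⁻¹ᵁ D R n k,
      r ⁻¹ᵁ D R n k ≤ CohB1.genLocus L (secHom L (t k)) ∧
      ∀ k', pb r (D R n k) _ hle (dehom (hX R n k) (MvPolynomial.X k')) •
        res L (le_top : CohB1.genLocus L (secHom L (t k)) ≤ ⊤) (t k) = res L le_top (t k') := by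
  have hs : ProjUP.GeneratedBy L t := by
    refine generatedBy_of_cover L t (fun x => ?_)
    obtain ⟨k, hk⟩ := D_cover R n (r x)
    refine ⟨k, ?_⟩
    rw [ht k]
    exact preimage_le_genLocus n r L Φ k hk
  refine ⟨hs, ?_⟩
  obtain ⟨r', hr', hchart, τ, hτ⟩ := exists_mor_Pn n (r ≫ CohB1.ProjSpace.toSpec n R) L hL t hs
  have heq : r = r' := by
    refine Groth.Agent.S3573.result n r r' hr'.symm (Φ ≪≫ τ.symm) (fun k => ?_)
    change τ.inv.app ⊤ (Φ.hom.app ⊤ _) = _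
    rw [← ht k, ← hτ k]
    change (τ.hom ≫ τ.inv).app ⊤ _ = _
    rw [τ.hom_inv_id]
    rfl
  subst heq
  exact hchart


section SegreComp

open MvPolynomial

/-- a morphism to `P^N` whose chart maps are the products of those of `r₁` and `r₂` is the composite of `(r₁, r₂)`
with the Segre morphism. -/
theorem eq_lift_comp_segre (hR : ∀ (B : Type u) [CommRing B] (f g : R →+* B), f = g)
    (n m : ℕ) {N : ℕ} (e : Fin (n + 1) × Fin (m + 1) ≃ Fin (N + 1))
    (r₁ : X ⟶ Proj (CohB1.polyGrading n R)) (r₂ : X ⟶ Proj (CohB1.polyGrading m R))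
    (r₃ : X ⟶ Proj (CohB1.polyGrading N R))
    (hc : r₁ ≫ CohB1.ProjSpace.toSpec n R = r₂ ≫ CohB1.ProjSpace.toSpec m R)
    (rseg : PP R n m ⟶ Proj (CohB1.polyGrading N R))
    (hseg : ∀ κ, ∃ hle : W R n m κ ≤ rseg ⁻¹ᵁ D R N (e κ),
      ∀ a, pb rseg (D R N (e κ)) (W R n m κ) hle (dehom (hX R N (e κ)) a) = ψ R n m e κ a)
    (V : Fin (n + 1) × Fin (m + 1) → X.Opens) (hV : ∀ x : X, ∃ κ, x ∈ V κ)
    (h₁ : ∀ κ, V κ ≤ r₁ ⁻¹ᵁ D R n κ.1) (h₂ : ∀ κ, V κ ≤ r₂ ⁻¹ᵁ D R m κ.2)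
    (h₃ : ∀ κ, V κ ≤ r₃ ⁻¹ᵁ D R N (e κ))
    (hprod : ∀ κ κ', pb r₃ (D R N (e κ)) (V κ) (h₃ κ) (dehom (hX R N (e κ)) (MvPolynomial.X (e κ'))) =
      pb r₁ (D R n κ.1) (V κ) (h₁ κ) (dehom (hX R n κ.1) (MvPolynomial.X κ'.1)) *
        pb r₂ (D R m κ.2) (V κ) (h₂ κ) (dehom (hX R m κ.2) (MvPolynomial.X κ'.2))) :
    r₃ = pullback.lift r₁ r₂ hc ≫ rseg := by
  set g : X ⟶ PP R n m := pullback.lift r₁ r₂ hc with hg
  have hg1 : g ≫ p₁ R n m = r₁ := pullback.lift_fst _ _ _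
  have hg2 : g ≫ p₂ R n m = r₂ := pullback.lift_snd _ _ _
  refine Groth.Agent.Lib.T2H6.SegreB.hom_ext_opens V hV _ _ (fun κ => ?_)
  obtain ⟨hleS, hS⟩ := hseg κ
  have hgW : V κ ≤ g ⁻¹ᵁ W R n m κ := by
    intro x hx
    refine ⟨?_, ?_⟩
    · change (g ≫ p₁ R n m) x ∈ D R n κ.1
      rw [hg1]; exact h₁ κ hx
    · change (g ≫ p₂ R n m) x ∈ D R m κ.2
      rw [hg2]; exact h₂ κ hx
  have hle' : V κ ≤ (g ≫ rseg) ⁻¹ᵁ D R N (e κ) := fun x hx => hleS (hgW hx)
  refine ι_comp_eq_of_appLE_eq (isAffineOpen_basicOpen (hX R N (e κ))) r₃ (g ≫ rseg) (h₃ κ) hle' ?_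
  have key : (pb r₃ (D R N (e κ)) (V κ) (h₃ κ)).comp (dehom (hX R N (e κ))) =
      (pb (g ≫ rseg) (D R N (e κ)) (V κ) hle').comp (dehom (hX R N (e κ))) := by
    apply MvPolynomial.ringHom_ext
    · intro c
      exact RingHom.congr_fun (hR _ (((pb r₃ (D R N (e κ)) (V κ) (h₃ κ)).comp
        (dehom (hX R N (e κ)))).comp MvPolynomial.C) (((pb (g ≫ rseg) (D R N (e κ)) (V κ) hle').comp
        (dehom (hX R N (e κ)))).comp MvPolynomial.C)) c
    · intro t
      obtain ⟨κ', rfl⟩ := e.surjective t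
      rw [RingHom.comp_apply, RingHom.comp_apply, hprod]
      have e1 := Scheme.Hom.appLE_comp_appLE g rseg (D R N (e κ)) (W R n m κ) (V κ) hleS hgW
      have e2 : pb (g ≫ rseg) (D R N (e κ)) (V κ) hle' (dehom (hX R N (e κ)) (MvPolynomial.X (e κ'))) =
          pb g (W R n m κ) (V κ) hgW (pb rseg (D R N (e κ)) (W R n m κ) hleS
            (dehom (hX R N (e κ)) (MvPolynomial.X (e κ')))) :=
        (congrArg (fun φ => φ.hom (dehom (hX R N (e κ)) (MvPolynomial.X (e κ')))) e1).symm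
      rw [e2, hS, ψ_X', map_mul]
      congr 1
      · have e3 := Scheme.Hom.appLE_comp_appLE g (p₁ R n m) (D R n κ.1) (W R n m κ) (V κ)
          (W_le₁ R n m κ) hgW
        have e4 := appLE_congr_hom hg1 (D R n κ.1) (V κ) (by rw [hg1]; exact h₁ κ)
        rw [e4] at e3
        exact (congrArg (fun φ => φ.hom (dehom (hX R n κ.1) (MvPolynomial.X κ'.1))) e3).symm
      · have e3 := Scheme.Hom.appLE_comp_appLE g (p₂ R n m) (D R m κ.2) (W R n m κ) (V κ)
          (W_le₂ R n m κ) hgW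
        have e4 := appLE_congr_hom hg2 (D R m κ.2) (V κ) (by rw [hg2]; exact h₂ κ)
        rw [e4] at e3
        exact (congrArg (fun φ => φ.hom (dehom (hX R m κ.2) (MvPolynomial.X κ'.2))) e3).symm
  ext z
  obtain ⟨j, a, ha, rfl⟩ := exists_dehom_eq (hX R N (e κ)) z
  exact RingHom.congr_fun key a

end SegreComp


section Main

open Groth.Agent.Lib.T2H6.SegreC Groth.Agent.Lib.T2H6.VAmpleB

/-- base change of the Segre morphism, remembering its first component. -/
theorem baseChange_segre' {Z Pn Pm PN S : Scheme.{u}} (hZ : IsTerminal Z) (πn : Pn ⟶ Z) (πm : Pm ⟶ Z)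
    (πN : PN ⟶ Z) (t : S ⟶ Z) (r : pullback πn πm ⟶ PN) (hr : IsClosedImmersion r) :
    ∃ φ : pullback (pullback.snd πn t) (pullback.snd πm t) ⟶ pullback πN t,
      IsClosedImmersion φ ∧ φ ≫ pullback.snd πN t = pullback.fst _ _ ≫ pullback.snd πn t ∧
      φ ≫ pullback.fst πN t = amap hZ πn πm t ≫ r := by
  let a := amap hZ πn πm t
  let q := pullback.fst (pullback.snd πn t) (pullback.snd πm t) ≫ pullback.snd πn t
  let φ : pullback (pullback.snd πn t) (pullback.snd πm t) ⟶ pullback πN t :=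
    pullback.lift (a ≫ r) q (hZ.hom_ext _ _)
  have e1 : φ ≫ pullback.snd πN t = q := pullback.lift_snd _ _ _
  have e0 : φ ≫ pullback.fst πN t = a ≫ r := pullback.lift_fst _ _ _
  refine ⟨φ, ?_, e1, e0⟩
  have e2 : r ≫ πN = pullback.fst πn πm ≫ πn := hZ.hom_ext _ _
  have hout : IsPullback (φ ≫ pullback.snd πN t) a t (r ≫ πN) := by
    rw [e1, e2]
    exact (isPullback_amap hZ πn πm t).flip
  have hleft : IsPullback φ a (pullback.fst πN t) r :=
    IsPullback.of_right hout e0 (IsPullback.of_hasPullback πN t).flip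
  exact MorphismProperty.of_isPullback (P := @IsClosedImmersion) hleft.flip hr

theorem ringHom_ulift_int_ext (B : Type u) [CommRing B] (f g : ULift.{u} ℤ →+* B) : f = g := by
  have h := RingHom.ext_int (f.comp (ULift.ringEquiv.symm : ℤ ≃+* ULift.{u} ℤ).toRingHom)
    (g.comp (ULift.ringEquiv.symm : ℤ ≃+* ULift.{u} ℤ).toRingHom)
  ext x
  have h1 := RingHom.congr_fun h x.down
  have h2 : (ULift.ringEquiv.symm : ℤ ≃+* ULift.{u} ℤ) x.down = x := rfl
  change f ((ULift.ringEquiv.symm : ℤ ≃+* ULift.{u} ℤ) x.down) =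
    g ((ULift.ringEquiv.symm : ℤ ≃+* ULift.{u} ℤ) x.down) at h1
  rwa [h2] at h1

end Main

end Groth.Agent.Lib.T2H6.VAmpleC
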