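import Mathlib
import Groth.Prelude.Def_RelProj4
import Groth.Agent.Lib.T2H4RLBridgeAH
import Groth.Agent.Lib.T2H6VAmpleC
import Groth.Agent.Lib.T2H5Twist
import Groth.Agent.S9705
set_option backward.isDefEq.respectTransparency.types false

/-!
# `O(1)` on projective space is relatively very ample in the `P(E)` sense (helper4)

* `isRelVeryAmple_twistProjSpace` : `O(1)` on `P^n_R` is very ample relative to `P^n_R ⟶ Spec R` (an immersion into the projective
  bundle of the direct image of `O(1)`).
-/

set_option autoImplicit false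
set_option linter.style.haveILetI false
set_option linter.unusedSectionVars false
set_option linter.unusedVariables false
universe u
open CategoryTheory AlgebraicGeometry TopologicalSpace Opposite HomogeneousLocalization
open scoped HomogeneousIdeal

namespace Groth.Agent.Lib.T2H4.RLBridge

open Groth.Agent.Lib.Helper6 Groth.Agent.Lib.Helper23.SecTw Groth.Agent.Lib.T2H4.GrSym
  Groth.Agent.Lib.Helper2.RelTwistTensor Groth.Agent.Lib.Helper23.PB Groth.Agent.Lib.Helper2.RelTildeQCoh
  Groth.Agent.Lib.T2H6.Segre Groth.Agent.Lib.T2H6.SegreB Groth.Agent.Helper13Dehom Groth.Agent.Helper13ProjUP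
  Groth.Agent.Lib.Helper23.GenLocus

/-- a morphism to an affine scheme on an affine open of the source, from its composition with `fromSpec` -/
theorem appLE_top_eq_of_fromSpec {X : Scheme.{u}} {A : CommRingCat.{u}} (f : X ⟶ Spec A) {V : X.Opens}
    (hV : IsAffineOpen V) (φ : A ⟶ Γ(X, V)) (h : hV.fromSpec ≫ f = Spec.map φ) :
    (Scheme.ΓSpecIso A).inv ≫ f.appLE ⊤ V le_top = φ := by
  apply Spec.map_injective
  rw [Spec.map_comp, ← h, ← IsAffineOpen.SpecMap_appLE_fromSpec f (isAffineOpen_top (Spec A)) hV le_top,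
    IsAffineOpen.fromSpec_top, Scheme.isoSpec_Spec_inv]

/-- pulling back along the identity and restricting back -/
theorem resf_pb_id {X : Scheme.{u}} (U G : X.Opens) (hle : G ≤ (𝟙 X) ⁻¹ᵁ U) (hge : U ≤ G) (c : Γ(X, U)) :
    resf hge (pb (𝟙 X) U G hle c) = c := by
  have h1 : resf hge (pb (𝟙 X) U G hle c) = pb (𝟙 X) U U (hge.trans hle) c := rs_pb (𝟙 X) hle hge c
  rw [h1]
  have h0 : ((𝟙 X : X ⟶ X).app U).hom c = c := congrArg (fun φ => φ.hom c) (Scheme.Hom.id_app (X := X) U)
  have h2 : ∀ (e : U ≤ U) (y : Γ(X, U)), (X.presheaf.map (homOfLE e).op).hom y = y := by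
    intro e y
    have h : (homOfLE e).op = 𝟙 (op U) := Subsingleton.elim _ _
    rw [h]
    exact congrArg (fun φ => φ.hom y) (X.presheaf.map_id (op U))
  change (X.presheaf.map (homOfLE (hge.trans hle)).op).hom (((𝟙 X : X ⟶ X).app U).hom c) = c
  exact (congrArg (X.presheaf.map (homOfLE (hge.trans hle)).op).hom h0).trans (h2 _ c)

section Pn

variable (n : ℕ) (R : Type u) [CommRing R]

/-- the constants as functions on `D₊(X_k)` -/
theorem toSpec_appLE_D (k : Fin (n + 1)) (c : R) :
    (toBase (CohB1.polyGrading n R)).appLE ⊤ (D R n k) le_top ((Scheme.ΓSpecIso (CommRingCat.of R)).inv c) =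
      dehom (hX R n k) (MvPolynomial.C c) := by
  have h1 := appLE_top_eq_of_fromSpec (toBase (CohB1.polyGrading n R)) (isAffineOpen_basicOpen (hX R n k))
    (strMap (hX R n k)) (fromSpec_toBase (hX R n k))
  have h2 := congrArg (fun φ => φ.hom c) h1
  exact h2

/-- the functions on an open equal to `D₊(X_k)` are generated by the constants and the ratios `X_k' / X_k` -/
theorem subring_eq_top_of_eq_D (k : Fin (n + 1)) (O : (Proj (CohB1.polyGrading n R)).Opens) (hO : O = D R n k)
    (T : Subring Γ(Proj (CohB1.polyGrading n R), O))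
    (h1 : ∀ s : Γ(Spec (CommRingCat.of R), ⊤), (toBase (CohB1.polyGrading n R)).appLE ⊤ O le_top s ∈ T)
    (h2 : ∀ k' : Fin (n + 1),
      ((Proj (CohB1.polyGrading n R)).presheaf.map (homOfLE hO.le).op) (dehom (hX R n k) (MvPolynomial.X k')) ∈ T) :
    T = ⊤ := by
  subst hO
  have hid : ∀ x : Γ(Proj (CohB1.polyGrading n R), D R n k),
      ((Proj (CohB1.polyGrading n R)).presheaf.map (homOfLE (le_refl (D R n k))).op) x = x := by
    intro x
    have h : (homOfLE (le_refl (D R n k))).op = 𝟙 (op (D R n k)) := Subsingleton.elim _ _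
    rw [h]
    exact congrArg (fun φ => φ.hom x) ((Proj (CohB1.polyGrading n R)).presheaf.map_id (op (D R n k)))
  rw [eq_top_iff]
  rintro b -
  obtain ⟨d, a, ha, rfl⟩ := exists_dehom_eq (hX R n k) b
  clear ha
  induction a using MvPolynomial.induction_on with
  | C c =>
    rw [← toSpec_appLE_D n R k c]
    exact h1 _
  | add p q hp hq =>
    rw [map_add]
    exact add_mem hp hq
  | mul_X p k' hp =>
    rw [map_mul]
    refine mul_mem hp ?_
    have := h2 k'
    rwa [hid] at this

/-- `O(1)` on `P^n_R` is very ample relative to `P^n_R ⟶ Spec R` (in `Proj` form) -/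
theorem isRelVeryAmple_twist_polyGrading :
    RelProj.IsRelVeryAmple (toBase (CohB1.polyGrading n R)) (Twist.twist (CohB1.polyGrading n R) 1) := by
  classical
  have hL₀ : PicF.IsInvertible (Twist.twist (CohB1.polyGrading n R) 1) :=
    Groth.Agent.Lib.T2H5.Twist.isInvertible_twist n R 1
  haveI : IsProper (toBase (CohB1.polyGrading n R)) := Groth.Agent.S9705.isProper_projSpace_toSpec n R
  haveI : (Twist.twist (CohB1.polyGrading n R) 1).IsQuasicoherent := isQuasicoherent_of_isInvertible _ hL₀
  have hE : Coh.IsQCoh ((Scheme.Modules.pushforward (toBase (CohB1.polyGrading n R))).obj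
      (Twist.twist (CohB1.polyGrading n R) 1)) :=
    Groth.Agent.Lib.Helper23.QCohLocal.isQuasicoherent_pushforward _ _
  -- chart data of the identity
  obtain ⟨t, ht⟩ : ∃ t : Fin (n + 1) → ProjUP.Γm (Twist.twist (CohB1.polyGrading n R) 1), ∀ k, t k =
      ((Scheme.Modules.pullbackId (Proj (CohB1.polyGrading n R))).app (Twist.twist (CohB1.polyGrading n R) 1)).hom.app ⊤
        (ProjUP.pullSec (𝟙 (Proj (CohB1.polyGrading n R))) (Twist.twist (CohB1.polyGrading n R) 1)
          (ProjUP.coord n R k)) :=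
    ⟨_, fun _ => rfl⟩
  obtain ⟨-, hchart⟩ := Groth.Agent.Lib.T2H6.VAmpleC.chart_data_of_iso n (𝟙 (Proj (CohB1.polyGrading n R)))
    (Twist.twist (CohB1.polyGrading n R) 1) hL₀
    ((Scheme.Modules.pullbackId (Proj (CohB1.polyGrading n R))).app (Twist.twist (CohB1.polyGrading n R) 1)) t ht
  -- `t k` generates over `D₊(X_k)`, and the ratios
  have hDG : ∀ k, D R n k ≤ CohB1.genLocus (Twist.twist (CohB1.polyGrading n R) 1)
      (secHom (Twist.twist (CohB1.polyGrading n R) 1) (t k)) := by
    intro k
    obtain ⟨hle, hge, -⟩ := hchart k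
    exact hge
  have hGD : ∀ k, CohB1.genLocus (Twist.twist (CohB1.polyGrading n R) 1)
      (secHom (Twist.twist (CohB1.polyGrading n R) 1) (t k)) ≤ D R n k := by
    intro k
    obtain ⟨hle, hge, -⟩ := hchart k
    exact hle
  have hg : ∀ k, IsGen (Twist.twist (CohB1.polyGrading n R) 1) (D R n k)
      (res (Twist.twist (CohB1.polyGrading n R) 1) le_top (t k)) := by
    intro k
    have h1 := (isGen_sv_genLocus (Twist.twist (CohB1.polyGrading n R) 1)
      (secHom (Twist.twist (CohB1.polyGrading n R) 1) (t k))).mono (hDG k)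
    rwa [sv_secHom, res_res] at h1
  have hratio : ∀ k k', dehom (hX R n k) (MvPolynomial.X k') •
      res (Twist.twist (CohB1.polyGrading n R) 1) (le_top : D R n k ≤ ⊤) (t k) =
      res (Twist.twist (CohB1.polyGrading n R) 1) (le_top : D R n k ≤ ⊤) (t k') := by
    intro k k'
    obtain ⟨hle, hge, hr⟩ := hchart k
    have h1 := congrArg (res (Twist.twist (CohB1.polyGrading n R) 1) hge) (hr k')
    rw [res_smul, res_res, res_res] at h1
    have h2 := resf_pb_id (X := Proj (CohB1.polyGrading n R)) (D R n k) _ hle hge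
      (dehom (hX R n k) (MvPolynomial.X k'))
    exact (congrArg (fun a => a • res (Twist.twist (CohB1.polyGrading n R) 1) (le_top : D R n k ≤ ⊤) (t k))
      h2).symm.trans h1
  -- frames
  have htop : IsAffineOpen (⊤ : (Spec (CommRingCat.of R)).Opens) := isAffineOpen_top _
  have hfr : ∀ x : Proj (CohB1.polyGrading n R), ∃ (U : (Spec (CommRingCat.of R)).Opens) (hU : IsAffineOpen U)
      (e : Γ((Scheme.Modules.pushforward (toBase (CohB1.polyGrading n R))).obj
        (Twist.twist (CohB1.polyGrading n R) 1), U)) (V : (Proj (CohB1.polyGrading n R)).Opens)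
      (hV : IsAffineOpen V) (hVU : V ≤ toBase (CohB1.polyGrading n R) ⁻¹ᵁ U), x ∈ V ∧
        IsGen (Twist.twist (CohB1.polyGrading n R) 1) V (res (Twist.twist (CohB1.polyGrading n R) 1) hVU
          ((𝟙 ((Scheme.Modules.pushforward (toBase (CohB1.polyGrading n R))).obj
            (Twist.twist (CohB1.polyGrading n R) 1)) :
              (Scheme.Modules.pushforward (toBase (CohB1.polyGrading n R))).obj
                (Twist.twist (CohB1.polyGrading n R) 1) ⟶ _).app U e)) := by
    intro x
    obtain ⟨k, hk⟩ := D_cover R n x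
    exact ⟨⊤, htop, t k, D R n k, isAffineOpen_basicOpen (hX R n k), le_top, hk, hg k⟩
  obtain ⟨𝒮, j, hj, P, p, chart, hP, O1, lam, hO1⟩ := exists_projBundle _ hE
  obtain ⟨r, hF⟩ := exists_isFramed_of_frames _ hE 𝒮 j hj p chart hP O1 lam hO1 (toBase (CohB1.polyGrading n R))
    (Twist.twist (CohB1.polyGrading n R) 1) hL₀ (𝟙 _) hfr
  -- preimages of the standard opens
  have hW : ∀ k, r ⁻¹ᵁ VF p chart (idxOf _ j hj ⊤ htop (t k)) = D R n k := by
    intro k
    apply le_antisymm
    · have g1 := hF.gen ⊤ htop (t k) (hF.preimage_VF_le' _)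
      simp only at g1
      have g2 : IsGen (Twist.twist (CohB1.polyGrading n R) 1) (r ⁻¹ᵁ VF p chart (idxOf _ j hj ⊤ htop (t k)))
          (sv (secHom (Twist.twist (CohB1.polyGrading n R) 1) (t k))
            (r ⁻¹ᵁ VF p chart (idxOf _ j hj ⊤ htop (t k)))) := by
        rw [sv_secHom]
        exact g1
      exact (le_genLocus_of_isGen _ _ _ g2).trans (hGD k)
    · intro x hx
      exact hF.mem_VF_of_isGen hE hP ⊤ htop (t k) x (D R n k) hx le_top (hg k)
  have himm : IsImmersion r := by
    refine isImmersion_of_forall_restrict r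
      (fun k : Fin (n + 1) => VF p chart (idxOf _ j hj ⊤ htop (t k))) ?_ ?_
    · intro x
      obtain ⟨k, hk⟩ := D_cover R n x
      refine ⟨k, ?_⟩
      have : x ∈ r ⁻¹ᵁ VF p chart (idxOf _ j hj ⊤ htop (t k)) := by rw [hW k]; exact hk
      exact this
    · intro k
      haveI : IsClosedImmersion (r ∣_ VF p chart (idxOf _ j hj ⊤ htop (t k))) := by
        refine isClosedImmersion_restrict_of_gen (toBase (CohB1.polyGrading n R)) _ 𝒮 j hj p chart hP O1 lam hO1
          (Twist.twist (CohB1.polyGrading n R) 1) r (𝟙 _) hF ⊤ htop (t k) ?_ ?_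
        · rw [hW k]
          exact isAffineOpen_basicOpen (hX R n k)
        · intro T h1 h2
          refine subring_eq_top_of_eq_D n R k _ (hW k) T (fun s => h1 s) (fun k' => ?_)
          refine h2 (t k') _ ?_
          have h3 := congrArg (res (Twist.twist (CohB1.polyGrading n R) 1) (hW k).le) (hratio k k')
          rw [res_smul, res_res, res_res] at h3
          exact h3
      infer_instance
  obtain ⟨τ, -⟩ := hF.exists_iso hE hP
  exact ⟨_, hE, 𝒮, j, hj, P, p, chart, hP, O1, lam, hO1, r, himm, hF.comp, ⟨τ.symm⟩⟩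

/-- **`O(1)` on `P^n_R` is very ample relative to `P^n_R ⟶ Spec R`** -/
theorem isRelVeryAmple_twistProjSpace :
    RelProj.IsRelVeryAmple (CohB1.ProjSpace.toSpec n R) (Twist.twistProjSpace n R 1) :=
  isRelVeryAmple_twist_polyGrading n R

end Pn

end Groth.Agent.Lib.T2H4.RLBridge
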