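import Mathlib
import Groth.Prelude.Def_RelProj4
import Groth.Agent.Lib.T2H4RLBridgeAI
set_option backward.isDefEq.respectTransparency.types false

/-!
# Very ampleness in the `P^n` sense implies very ampleness in the `P(E)` sense (helper4)

* `isRelVeryAmple_twistOver` : `O(1)` on `P^n_S` is very ample relative to `P^n_S ⟶ S`;
* `isRelVeryAmple_pullback_of_isImmersion` : the inverse image of a relatively very ample module along an immersion is
  relatively very ample;
* `isRelVeryAmple_of_isRelVeryAmplePn` : `RelAmple.IsRelVeryAmplePn f L → RelProj.IsRelVeryAmple f L`;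
* `isRelVeryAmple_of_forall_restrict_Pn` : local (on the base) very ampleness in the `P^n` sense implies very ampleness.
-/

set_option autoImplicit false
set_option linter.style.haveILetI false
set_option linter.unusedSectionVars false
set_option linter.unusedVariables false
universe u
open CategoryTheory CategoryTheory.Limits AlgebraicGeometry TopologicalSpace Opposite

namespace Groth.Agent.Lib.T2H4.RLBridge

/-- **`O(1)` on `P^n_S` is very ample relative to `P^n_S ⟶ S`** -/
theorem isRelVeryAmple_twistOver (n : ℕ) (S : Scheme.{u}) :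
    RelProj.IsRelVeryAmple (pullback.snd (CohB1.ProjSpace.toSpec n (ULift.{u} ℤ)) (specULiftZIsTerminal.from S))
      (Twist.twistOver n S 1) :=
  Groth.Agent.Lib.T2H4.VAmpleBC.isRelVeryAmple_baseChange (CohB1.ProjSpace.toSpec n (ULift.{u} ℤ))
    (specULiftZIsTerminal.from S) (pullback.fst _ _) (pullback.snd _ _) (IsPullback.of_hasPullback _ _)
    (Twist.twistProjSpace n (ULift.{u} ℤ) 1) (isRelVeryAmple_twistProjSpace n (ULift.{u} ℤ))

/-- the inverse image of a relatively very ample module along an immersion is relatively very ample -/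
theorem isRelVeryAmple_pullback_of_isImmersion {X P₀ S : Scheme.{u}} (i : X ⟶ P₀) [IsImmersion i] (p₀ : P₀ ⟶ S)
    (L₀ : P₀.Modules) (h : RelProj.IsRelVeryAmple p₀ L₀) :
    RelProj.IsRelVeryAmple (i ≫ p₀) ((Scheme.Modules.pullback i).obj L₀) := by
  obtain ⟨E, hE, 𝒮, j, hj, P, p, chart, hP, O1, lam, hO1, r, himm, hcomp, ⟨e⟩⟩ := h
  haveI := himm
  refine ⟨E, hE, 𝒮, j, hj, P, p, chart, hP, O1, lam, hO1, i ≫ r, inferInstance, ?_, ⟨?_⟩⟩
  · rw [Category.assoc, hcomp]
  · exact (Scheme.Modules.pullback i).mapIso e ≪≫ (Scheme.Modules.pullbackComp i r).app O1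

/-- **very ampleness in the `P^n` sense implies very ampleness in the `P(E)` sense** -/
theorem isRelVeryAmple_of_isRelVeryAmplePn {X S : Scheme.{u}} (f : X ⟶ S) (L : X.Modules)
    (h : RelAmple.IsRelVeryAmplePn f L) : RelProj.IsRelVeryAmple f L := by
  obtain ⟨n, i, hi, hcomp, ⟨e⟩⟩ := h
  haveI := hi
  have h1 := isRelVeryAmple_pullback_of_isImmersion i _ _ (isRelVeryAmple_twistOver n S)
  rw [hcomp] at h1
  exact isRelVeryAmple_of_iso f e.symm h1

/-- local (on the base) very ampleness in the `P^n` sense implies very ampleness (EGA II 4.4.5 + 4.4.2) -/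
theorem isRelVeryAmple_of_forall_restrict_Pn {X S : Scheme.{u}} (f : X ⟶ S) [QuasiCompact f] (L : X.Modules)
    (hL : PicF.IsInvertible L) {ι : Type*} (V : ι → S.Opens) (hV : ⨆ k, V k = ⊤)
    (h : ∀ k, RelAmple.IsRelVeryAmplePn (f ∣_ V k) (L.restrict (f ⁻¹ᵁ V k).ι)) :
    RelProj.IsRelVeryAmple f L :=
  isRelVeryAmple_of_forall_restrict f L hL V hV (fun k => isRelVeryAmple_of_isRelVeryAmplePn _ _ (h k))

end Groth.Agent.Lib.T2H4.RLBridge
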