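import Mathlib
import Groth.Prelude.Def_RelProj4
import Groth.Agent.Lib.T2H4RLBridgeAJ
import Groth.Agent.Lib.T2H6VAmpleE
set_option backward.isDefEq.respectTransparency.types false

/-!
# Relatively ample modules over a quasi-compact base have very ample powers (helper4)

* `exists_pow_tensor_isRelVeryAmple` : `Y` quasi-compact, `f : X ⟶ Y` of finite type, `L` relatively ample, `L'` invertible:
  `L^{⊗ n} ⊗ L'` is very ample relative to `f` for all large `n` (EGA II 4.6.11 / 4.6.13).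
-/

set_option autoImplicit false
set_option linter.style.haveILetI false
set_option linter.unusedSectionVars false
set_option linter.unusedVariables false
universe u
open CategoryTheory CategoryTheory.Limits AlgebraicGeometry TopologicalSpace Opposite

namespace Groth.Agent.Lib.T2H4.RLBridge

open Groth.Agent.Lib.Helper23.SecTw Groth.Agent.Lib.Helper6 Groth.Agent.Lib.Helper23.GenLocus
open Groth.Agent.Lib.Helper23.Extend Groth.Agent.Lib.Helper23.TensorUnit Groth.Agent.Lib.Helper23.AmpleIso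
open Groth.Agent.Lib.T2H6.VAmple Groth.Agent.Lib.T2H6.VAmpleB Groth.Agent.Lib.T2H6.VAmpleD

/-- **`L^{⊗ n} ⊗ L'` is very ample relative to `f` for all large `n`** (`Y` quasi-compact, `f` of finite type, `L` ample
relative to `f`, `L'` invertible) -/
theorem exists_pow_tensor_isRelVeryAmple {X Y : Scheme.{u}} [CompactSpace Y] (f : X ⟶ Y) [QuasiCompact f]
    [LocallyOfFiniteType f] (L L' : X.Modules) (hL : PicF.IsInvertible L) (hL' : PicF.IsInvertible L')
    (h : RelAmple.IsRelAmple f L) :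
    ∃ n₀ : ℕ, ∀ n : ℕ, n₀ ≤ n → RelProj.IsRelVeryAmple f (CohB1.tensorMod (CohB1.tensorPow L n) L') := by
  classical
  obtain ⟨s, hs⟩ := IsOpenCover.exists_finite_of_compactSpace (u := fun U : Y.affineOpens => (U : Y.Opens))
    (iSup_affineOpens_eq_top Y)
  have key : ∀ V : Y.affineOpens, ∃ n₀ : ℕ, ∀ n, n₀ ≤ n → RelAmple.IsRelVeryAmplePn (f ∣_ V.1)
      ((CohB1.tensorMod (CohB1.tensorPow L n) L').restrict (f ⁻¹ᵁ V.1).ι) := by
    intro V
    obtain ⟨n₀, hn₀⟩ := Groth.Agent.Lib.T2H6.VAmpleE.eventually_veryAmple (f ∣_ V.1) (L.restrict (f ⁻¹ᵁ V.1).ι)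
      (h.2 V) (L'.restrict (f ⁻¹ᵁ V.1).ι) (isInvertible_restrict L' hL' _)
    refine ⟨n₀, fun n hn => ?_⟩
    obtain ⟨e1⟩ := nonempty_restrict_tensorMod_iso (CohB1.tensorPow L n) L' (isInvertible_tensorPow hL n) hL'
      (f ⁻¹ᵁ V.1)
    obtain ⟨e2⟩ := nonempty_restrict_tensorPow_iso L hL (f ⁻¹ᵁ V.1) n
    exact of_iso _ (e1 ≪≫ tensorModIso e2 (Iso.refl _)).symm (hn₀ n hn)
  choose N hN using key
  refine ⟨s.sup N, fun n hn => ?_⟩
  exact isRelVeryAmple_of_forall_restrict_Pn f _ (isInvertible_tensorMod (isInvertible_tensorPow hL n) hL')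
    (fun k : s => (k.1 : Y.Opens)) hs.iSup_eq_top (fun k => hN k.1 n ((Finset.le_sup k.2).trans hn))

/-- **`L^{⊗ n}` is very ample relative to `f` for all large `n`** -/
theorem exists_pow_isRelVeryAmple {X Y : Scheme.{u}} [CompactSpace Y] (f : X ⟶ Y) [QuasiCompact f]
    [LocallyOfFiniteType f] (L : X.Modules) (hL : PicF.IsInvertible L) (h : RelAmple.IsRelAmple f L) :
    ∃ n₀ : ℕ, 0 < n₀ ∧ ∀ n : ℕ, n₀ ≤ n → RelProj.IsRelVeryAmple f (CohB1.tensorPow L n) := by
  obtain ⟨n₀, hn₀⟩ := exists_pow_tensor_isRelVeryAmple f L (Coh.structureModule X) hL (isInvertible_structureModule X) h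
  refine ⟨n₀ + 1, Nat.succ_pos _, fun n hn => ?_⟩
  exact isRelVeryAmple_of_iso f (tensorUnitIso _) (hn₀ n (by omega))

end Groth.Agent.Lib.T2H4.RLBridge
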