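import Mathlib
import Groth.Agent.Lib.T2H4RLBridgeAR
import Groth.Agent.Lib.Helper13RLk

/-!
# Dominance of `Proj(u)` for an injective `u`; `r_{L,σ}` for `L` relatively ample (helper4)
-/

set_option autoImplicit false
set_option linter.style.haveILetI false
set_option linter.unusedSectionVars false
universe u
open CategoryTheory CategoryTheory.Limits AlgebraicGeometry TopologicalSpace Opposite
open scoped HomogeneousIdeal

namespace Groth.Agent.Lib.T2H4.PowMap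

section dominant

variable {Y X : Scheme.{u}} {q : X ⟶ Y} {𝒮 : RelProj.QCGrAlg Y} {𝒮L : RelProj.QCGrAlg X}
  (u : RelProj.QGrHom q 𝒮 𝒮L)
  {P PL : Scheme.{u}} {p : P ⟶ Y}
  {chart : ∀ (U : Y.Opens) (hU : IsAffineOpen U),
    ((p ⁻¹ᵁ U : P.Opens) : Scheme.{u}) ≅ Proj (𝒮.deg U hU)}
  {pL : PL ⟶ X}
  {chartL : ∀ (U : X.Opens) (hU : IsAffineOpen U),
    ((pL ⁻¹ᵁ U : PL.Opens) : Scheme.{u}) ≅ Proj (𝒮L.deg U hU)}

/-- `q` quasi-compact and `u` injective on sections over affine opens: `Proj(u)` is dominant -/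
theorem isDominant_of_injective [QuasiCompact q] (hP : RelProj.IsRelProj 𝒮 p chart)
    (hPL : RelProj.IsRelProj 𝒮L pL chartL)
    {r : ((RelProj.domQ u pL chartL : PL.Opens) : Scheme.{u}) ⟶ P}
    (hr : RelProj.IsProjQMapOn u p chart pL chartL (RelProj.domQ u pL chartL) r)
    (hu : ∀ (U : Y.Opens), IsAffineOpen U → Function.Injective (u.app U).hom) : IsDominant r := by
  classical
  rw [Groth.Agent.Helper13RL.isDominant_iff_pairs u hP hPL hr]
  intro U hU n hn s hs hloc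
  have hc : IsCompact ((q ⁻¹ᵁ U : X.Opens) : Set X) :=
    QuasiCompact.isCompact_preimage (f := q) _ U.2 hU.isCompact
  have hcov : ∀ x : (q ⁻¹ᵁ U : X.Opens), ∃ (V : X.Opens), IsAffineOpen V ∧ x.1 ∈ V ∧ V ≤ q ⁻¹ᵁ U := by
    intro x
    obtain ⟨_, ⟨V, hV, rfl⟩, hxV, hle⟩ :=
      X.isBasis_affineOpens.exists_subset_of_mem_open x.2 (q ⁻¹ᵁ U).2
    exact ⟨V, hV, hxV, hle⟩
  choose V hV hxV hle using hcov
  have hnil : ∀ x, ∃ N : ℕ, (u.appLE U (V x) (hle x)).hom s ^ N = 0 := fun x => hloc (V x) (hV x) (hle x)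
  choose N hN using hnil
  obtain ⟨T, hT⟩ := hc.elim_finite_subcover (fun x => ((V x : X.Opens) : Set X)) (fun x => (V x).2)
    (fun x hx => Set.mem_iUnion.2 ⟨⟨x, hx⟩, hxV ⟨x, hx⟩⟩)
  refine ⟨T.sup N, ?_⟩
  apply hu U hU
  rw [map_zero]
  refine TopCat.Sheaf.eq_of_locally_eq' ⟨𝒮L.presheaf, 𝒮L.isSheaf⟩
    (fun x : T => V x.1) (q ⁻¹ᵁ U) (fun x => homOfLE (hle x.1)) ?_ _ _ ?_
  · intro x hx
    have := hT hx
    simp only [Set.mem_iUnion] at this
    obtain ⟨y, hy, hxy⟩ := this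
    exact Opens.mem_iSup.mpr ⟨⟨y, hy⟩, hxy⟩
  · intro x
    rw [map_zero]
    have h1 : (u.appLE U (V x.1) (hle x.1)).hom (s ^ T.sup N) = 0 := by
      rw [map_pow]
      have hle' : N x.1 ≤ T.sup N := Finset.le_sup (f := N) x.2
      obtain ⟨k, hk⟩ := Nat.exists_eq_add_of_le hle'
      rw [hk, pow_add, hN x.1, zero_mul]
    rw [RelSpec.QHom.appLE_eq] at h1
    exact h1

end dominant

section relAmple

variable {X Y P PL : Scheme.{u}} (f : X ⟶ Y) (L : X.Modules) [L.IsQuasicoherent] (hL : PicF.IsInvertible L)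
  (𝒮L : RelProj.QCGrAlg X) (jL : L ⟶ 𝒮L.toModule) (hjL : RelProj.IsGrSymAlg L 𝒮L jL)
  {pL : PL ⟶ X}
  {chartL : ∀ (U : X.Opens) (hU : IsAffineOpen U),
    (((pL ⁻¹ᵁ U : PL.Opens) : Scheme.{u}) ≅ Proj (𝒮L.deg U hU))}
  (hPL : RelProj.IsRelProj 𝒮L pL chartL)
  {𝒜 : RelProj.QCGrAlg Y} (u : RelProj.QGrHom f 𝒜 𝒮L)
  {p : P ⟶ Y}
  {chart : ∀ (U : Y.Opens) (hU : IsAffineOpen U),
    (((p ⁻¹ᵁ U : P.Opens) : Scheme.{u}) ≅ Proj (𝒜.deg U hU))}
  (hP : RelProj.IsRelProj 𝒜 p chart)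
  {r : ((RelProj.domQ u pL chartL : PL.Opens) : Scheme.{u}) ⟶ P}
  (hr : RelProj.IsProjQMapOn u p chart pL chartL (RelProj.domQ u pL chartL) r)

include hL hjL hPL hP hr in
/-- **EGA II 4.6.3 (⇒), relative form**: `L` ample relative to `f` and `u` bijective over affine opens: `r_{L,σ}` is everywhere
defined and a dominant open immersion -/
theorem relAmple_core (hu : ∀ (U : Y.Opens), IsAffineOpen U → Function.Bijective (u.app U).hom)
    (h : RelAmple.IsRelAmple f L) :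
    RelProj.domQ u pL chartL = ⊤ ∧ IsOpenImmersion r ∧ IsDominant r := by
  haveI : QuasiCompact f := h.1
  have h12 := domQ_eq_top_and_isOpenImmersion f L hL 𝒮L jL hjL hPL u hP hr (by
    intro y
    obtain ⟨_, ⟨V₀, hV₀, rfl⟩, hyV, -⟩ :=
      Y.isBasis_affineOpens.exists_subset_of_mem_open (Set.mem_univ (f.base (pL.base y))) isOpen_univ
    exact ⟨V₀, hV₀, hyV, h.2 ⟨V₀, hV₀⟩, hu V₀ hV₀⟩)
  exact ⟨h12.1, h12.2, isDominant_of_injective u hP hPL hr (fun U hU => (hu U hU).1)⟩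

end relAmple

end Groth.Agent.Lib.T2H4.PowMap
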