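import Mathlib
import Groth.Agent.Lib.T2H4RLBridgeAS
import Groth.Agent.Lib.Helper13ProjLine

/-!
# `r_{L,σ}` is an isomorphism for `f` universally closed and `L` relatively ample (helper4)
-/

set_option autoImplicit false
set_option linter.style.haveILetI false
set_option linter.unusedSectionVars false
universe u
open CategoryTheory CategoryTheory.Limits AlgebraicGeometry TopologicalSpace Opposite
open scoped HomogeneousIdeal

namespace Groth.Agent.Lib.T2H4.PowMap

section relAmple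

variable {X Y P PL : Scheme.{u}} (f : X ⟶ Y) (L : X.Modules) [L.IsQuasicoherent] (hL : PicF.IsInvertible L)
  (𝒮L : RelProj.QCGrAlg X) (jL : L ⟶ 𝒮L.toModule) (hjL : RelProj.IsGrSymAlg L 𝒮L jL)
  {pL : PL ⟶ X}
  {chartL : ∀ (U : X.Opens) (hU : IsAffineOpen U),
    (((pL ⁻¹ᵁ U : PL.Opens) : Scheme.{u}) ≅ Proj (𝒮L.deg U hU))}
  (hPL : RelProj.IsRelProj 𝒮L pL chartL)
  {𝒜 : RelProj.QCGrAlg Y} (u : RelProj.QGrHom f 𝒜 𝒮L)
  {p : P ⟶ Y}
  {chart : ∀ (U : Y.Opens) (hU : IsAffineOpen U),
    (((p ⁻¹ᵁ U : P.Opens) : Scheme.{u}) ≅ Proj (𝒜.deg U hU))}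
  (hP : RelProj.IsRelProj 𝒜 p chart)
  {r : ((RelProj.domQ u pL chartL : PL.Opens) : Scheme.{u}) ⟶ P}
  (hr : RelProj.IsProjQMapOn u p chart pL chartL (RelProj.domQ u pL chartL) r)

include hL hjL hPL hP hr in
/-- **EGA II 4.6.3 / 4.6.4 supplement**: `f` universally closed, `L` ample relative to `f`, `u` bijective over affine opens:
`r_{L,σ} : X ≅ Proj(⊕ f_* L^n)` -/
theorem relAmple_isIso [UniversallyClosed f]
    (hu : ∀ (U : Y.Opens), IsAffineOpen U → Function.Bijective (u.app U).hom)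
    (h : RelAmple.IsRelAmple f L) :
    RelProj.domQ u pL chartL = ⊤ ∧ IsIso r := by
  obtain ⟨h1, h2, h3⟩ := relAmple_core f L hL 𝒮L jL hjL hPL u hP hr hu h
  refine ⟨h1, ?_⟩
  haveI : IsIso pL := Groth.Agent.Helper13ProjLine.isIso_relProj L 𝒮L jL hjL pL chartL hPL hL
  haveI : IsIso (RelProj.domQ u pL chartL).ι := Groth.Agent.Helper13RL.isIso_ι_of_eq_top h1
  have hcomp := Groth.Agent.Helper13RelProj.qmapOn_comp u hP hPL hr
  haveI : UniversallyClosed (r ≫ p) := by
    rw [hcomp]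
    infer_instance
  haveI : IsSeparated p := Groth.Agent.Lib.T2H4.RLBridge.isSeparated_of_isRelProj' 𝒜 p chart hP
  haveI : UniversallyClosed r := .of_comp_of_isSeparated r p
  haveI : Surjective r := by
    constructor
    have hcl : IsClosed (Set.range r.base) := r.isClosedMap.isClosed_range
    have hd : Dense (Set.range r.base) := h3.denseRange
    rw [← Set.range_eq_univ, ← hcl.closure_eq]
    exact hd.closure_eq
  exact (isIso_iff_isOpenImmersion_and_surjective r).mpr ⟨h2, inferInstance⟩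

end relAmple

end Groth.Agent.Lib.T2H4.PowMap
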