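import Mathlib
import Groth.Agent.Lib.T2H4RLBridgeAS
import Groth.Agent.Lib.Helper13RLr

/-!
# Scheme-theoretic dominance of `Proj(u)` for an injective `u` (helper4)
-/

set_option autoImplicit false
set_option linter.style.haveILetI false
set_option linter.unusedSectionVars false
universe u
open CategoryTheory CategoryTheory.Limits AlgebraicGeometry TopologicalSpace Opposite
open HomogeneousLocalization
open scoped HomogeneousIdeal

namespace Groth.Agent.Lib.T2H4.PowMap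

section abstract

theorem appLE_eq_of_eq {A B : Scheme.{u}} {m₁ m₂ : A ⟶ B} (h : m₁ = m₂) (D : B.Opens) (V : A.Opens)
    (e₁ : V ≤ m₁ ⁻¹ᵁ D) (e₂ : V ≤ m₂ ⁻¹ᵁ D) : m₁.appLE D V e₁ = m₂.appLE D V e₂ := by
  subst h
  rfl

/-- a section over a standard chart `j : Spec R ⟶ P` killed by `r` is killed by the ring map of every chart square -/
theorem chart_kernel {W P : Scheme.{u}} (r : W ⟶ P) {R R' : CommRingCat.{u}} (j : Spec R ⟶ P) [IsOpenImmersion j]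
    (t : Γ(P, j ''ᵁ ⊤)) (ht : (r.app (j ''ᵁ ⊤)).hom t = 0)
    (c : Spec R' ⟶ W) (φ : R ⟶ R') (hsq : c ≫ r = Spec.map φ ≫ j) :
    φ.hom ((Scheme.ΓSpecIso R).hom.hom ((j.appIso ⊤).hom.hom t)) = 0 := by
  have hjle : (⊤ : (Spec R).Opens) ≤ j ⁻¹ᵁ (j ''ᵁ ⊤) := by
    rw [Scheme.Hom.preimage_image_eq]
  have e1 : (⊤ : (Spec R').Opens) ≤ (c ≫ r) ⁻¹ᵁ (j ''ᵁ ⊤) := by
    rw [hsq]
    intro z _
    exact hjle (Set.mem_univ ((Spec.map φ).base z))
  have e2 : (⊤ : (Spec R').Opens) ≤ (Spec.map φ ≫ j) ⁻¹ᵁ (j ''ᵁ ⊤) := by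
    rw [← hsq]
    exact e1
  have h1 : (c ≫ r).appLE (j ''ᵁ ⊤) ⊤ e1 = r.app (j ''ᵁ ⊤) ≫ c.appLE (r ⁻¹ᵁ (j ''ᵁ ⊤)) ⊤ e1 :=
    Scheme.Hom.comp_appLE c r _ _ e1
  have h2 : j.appLE (j ''ᵁ ⊤) ⊤ hjle ≫ (Spec.map φ).appLE ⊤ ⊤ le_top =
      (Spec.map φ ≫ j).appLE (j ''ᵁ ⊤) ⊤ e2 :=
    Scheme.Hom.appLE_comp_appLE (Spec.map φ) j _ _ _ hjle le_top
  have h3 : (Spec.map φ).appLE ⊤ ⊤ le_top = (Spec.map φ).appTop := by
    simp [Scheme.Hom.appLE]
  have h4 := appLE_eq_of_eq hsq (j ''ᵁ ⊤) ⊤ e1 e2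
  have h5 : (j.appIso ⊤).hom = j.appLE (j ''ᵁ ⊤) ⊤ hjle := j.appIso_hom' ⊤
  have h6 : ((Spec.map φ).appTop).hom ((j.appIso ⊤).hom.hom t) = 0 := by
    rw [h5, ← h3]
    change (j.appLE (j ''ᵁ ⊤) ⊤ hjle ≫ (Spec.map φ).appLE ⊤ ⊤ le_top).hom t = 0
    rw [h2, ← h4, h1]
    change (c.appLE (r ⁻¹ᵁ (j ''ᵁ ⊤)) ⊤ e1).hom ((r.app (j ''ᵁ ⊤)).hom t) = 0
    rw [ht, map_zero]
  have h7 := Scheme.ΓSpecIso_naturality φ
  have h8 : ((Spec.map φ).appTop ≫ (Scheme.ΓSpecIso R').hom).hom ((j.appIso ⊤).hom.hom t) = 0 := by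
    change (Scheme.ΓSpecIso R').hom.hom (((Spec.map φ).appTop).hom ((j.appIso ⊤).hom.hom t)) = 0
    rw [h6, map_zero]
  rw [h7] at h8
  exact h8

theorem eq_zero_of_chart {P : Scheme.{u}} {R : CommRingCat.{u}} (j : Spec R ⟶ P) [IsOpenImmersion j]
    (t : Γ(P, j ''ᵁ ⊤)) (ht : (Scheme.ΓSpecIso R).hom.hom ((j.appIso ⊤).hom.hom t) = 0) : t = 0 := by
  have h1 : Function.Injective ((j.appIso ⊤).hom ≫ (Scheme.ΓSpecIso R).hom).hom :=
    (ConcreteCategory.bijective_of_isIso ((j.appIso ⊤).hom ≫ (Scheme.ΓSpecIso R).hom)).1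
  apply h1
  rw [map_zero]
  exact ht

end abstract

section algebra

theorem exists_pow_of_away_map_mk_eq_zero {A B : Type u} [CommRing A] [CommRing B]
    (𝒜 : ℕ → AddSubgroup A) [GradedRing 𝒜] (ℬ : ℕ → AddSubgroup B) [GradedRing ℬ]
    (φ : 𝒜 →+*ᵍ ℬ) {n : ℕ} {a : A} (ha : a ∈ 𝒜 n) (k : ℕ) (b : A) (hb : b ∈ 𝒜 (k • n))
    (h : Away.map φ a (Away.mk 𝒜 ha k b hb) = 0) : ∃ j : ℕ, φ (a ^ j * b) = 0 := by
  rw [Away.map_mk] at h
  have hv := congrArg HomogeneousLocalization.val h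
  rw [Away.val_mk, HomogeneousLocalization.val_zero, Localization.mk_eq_mk',
    IsLocalization.mk'_eq_zero_iff] at hv
  obtain ⟨⟨_, j, rfl⟩, hj⟩ := hv
  refine ⟨j, ?_⟩
  rw [map_mul, map_pow]
  exact hj

theorem away_mk_eq_zero {A : Type u} [CommRing A]
    (𝒜 : ℕ → AddSubgroup A) [GradedRing 𝒜] {n : ℕ} {a : A} (ha : a ∈ 𝒜 n) (k : ℕ) (b : A) (hb : b ∈ 𝒜 (k • n))
    (M : ℕ) (h : a ^ M * b = 0) : Away.mk 𝒜 ha k b hb = 0 := by
  apply HomogeneousLocalization.val_injective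
  rw [Away.val_mk, HomogeneousLocalization.val_zero, Localization.mk_eq_mk',
    IsLocalization.mk'_eq_zero_iff]
  exact ⟨⟨a ^ M, M, rfl⟩, h⟩

end algebra

section main

open Groth.Agent.Helper13RL Groth.Agent.Helper13RelProj

variable {Y X : Scheme.{u}} {q : X ⟶ Y} {𝒮 : RelProj.QCGrAlg Y} {𝒮L : RelProj.QCGrAlg X}
  (u : RelProj.QGrHom q 𝒮 𝒮L)
  {P PL : Scheme.{u}} {p : P ⟶ Y}
  {chart : ∀ (U : Y.Opens) (hU : IsAffineOpen U),
    ((p ⁻¹ᵁ U : P.Opens) : Scheme.{u}) ≅ Proj (𝒮.deg U hU)}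
  {pL : PL ⟶ X}
  {chartL : ∀ (U : X.Opens) (hU : IsAffineOpen U),
    ((pL ⁻¹ᵁ U : PL.Opens) : Scheme.{u}) ≅ Proj (𝒮L.deg U hU)}

/-- `q` quasi-compact, `u` injective over the affine open `U`: an element `a ^ j * b` killed by `u` locally on `q⁻¹(U)` (with `j`
depending on the affine open) is killed by a power of `a` -/
theorem exists_pow_mul_eq_zero_of_cover [QuasiCompact q] (U : Y.Opens) (hU : IsAffineOpen U)
    (hu : Function.Injective (u.app U).hom) (a b : 𝒮.presheaf.obj (op U))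
    (hloc : ∀ (U' : X.Opens) (_ : IsAffineOpen U') (hle : U' ≤ q ⁻¹ᵁ U),
      ∃ j : ℕ, (u.appLE U U' hle).hom (a ^ j * b) = 0) :
    ∃ M : ℕ, a ^ M * b = 0 := by
  classical
  have hc : IsCompact ((q ⁻¹ᵁ U : X.Opens) : Set X) :=
    QuasiCompact.isCompact_preimage (f := q) _ U.2 hU.isCompact
  have hcov : ∀ x : (q ⁻¹ᵁ U : X.Opens), ∃ (V : X.Opens), IsAffineOpen V ∧ x.1 ∈ V ∧ V ≤ q ⁻¹ᵁ U := by
    intro x
    obtain ⟨_, ⟨V, hV, rfl⟩, hxV, hle⟩ :=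
      X.isBasis_affineOpens.exists_subset_of_mem_open x.2 (q ⁻¹ᵁ U).2
    exact ⟨V, hV, hxV, hle⟩
  choose V hV hxV hle using hcov
  have hnil : ∀ x, ∃ N : ℕ, (u.appLE U (V x) (hle x)).hom (a ^ N * b) = 0 :=
    fun x => hloc (V x) (hV x) (hle x)
  choose N hN using hnil
  obtain ⟨T, hT⟩ := hc.elim_finite_subcover (fun x => ((V x : X.Opens) : Set X)) (fun x => (V x).2)
    (fun x hx => Set.mem_iUnion.2 ⟨⟨x, hx⟩, hxV ⟨x, hx⟩⟩)
  refine ⟨T.sup N, ?_⟩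
  apply hu
  rw [map_zero]
  refine TopCat.Sheaf.eq_of_locally_eq' ⟨𝒮L.presheaf, 𝒮L.isSheaf⟩
    (fun x : T => V x.1) (q ⁻¹ᵁ U) (fun x => homOfLE (hle x.1)) ?_ _ _ ?_
  · intro x hx
    have := hT hx
    simp only [Set.mem_iUnion] at this
    obtain ⟨y, hy, hxy⟩ := this
    exact Opens.mem_iSup.mpr ⟨⟨y, hy⟩, hxy⟩
  · intro x
    rw [map_zero]
    have h1 : (u.appLE U (V x.1) (hle x.1)).hom (a ^ T.sup N * b) = 0 := by
      have hle' : N x.1 ≤ T.sup N := Finset.le_sup (f := N) x.2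
      obtain ⟨k, hk⟩ := Nat.exists_eq_add_of_le hle'
      have : a ^ T.sup N * b = a ^ k * (a ^ N x.1 * b) := by
        rw [hk]
        ring
      rw [this, map_mul, hN x.1, mul_zero]
    rw [RelSpec.QHom.appLE_eq] at h1
    exact h1

/-- index type for the standard charts of `P` over a family `ℬ` of affine opens of the base -/
structure StdIdx (𝒮 : RelProj.QCGrAlg Y) (ℬ : Set Y.Opens) where
  U : Y.Opens
  hUℬ : U ∈ ℬ
  hU : IsAffineOpen U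
  n : ℕ
  hn : 0 < n
  a : 𝒮.presheaf.obj (op U)
  ha : a ∈ 𝒮.deg U hU n

theorem iSup_stdChart_eq_top (ℬ : Set Y.Opens) (hℬ : ∀ U ∈ ℬ, IsAffineOpen U)
    (hcov : ∀ y : Y, ∃ U ∈ ℬ, y ∈ U) :
    (⨆ i : StdIdx 𝒮 ℬ, (stdChart p chart i.U i.hU i.hn i.ha) ''ᵁ ⊤) = ⊤ := by
  rw [eq_top_iff]
  intro z _
  obtain ⟨U, hUℬ, hzU⟩ := hcov (p.base z)
  have hU := hℬ U hUℬ
  obtain ⟨w, hw⟩ := Groth.Agent.Helper13RelProj.exists_chart_point (chartB := chart) U hU z hzU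
  obtain ⟨n, a, hn, ha, hwa⟩ := exists_mem_basicOpen_pos (𝒮.deg U hU) w
  refine Opens.mem_iSup.mpr ⟨⟨U, hUℬ, hU, n, hn, a, ha⟩, ?_⟩
  rw [Scheme.Hom.image_top_eq_opensRange, opensRange_stdChart]
  exact ⟨w, hwa, hw⟩

/-- **`q` quasi-compact and `u` injective on sections over a covering family of affine opens: `Proj(u)`, if quasi-compact, is
scheme-theoretically dominant** -/
theorem isSchemeTheoreticallyDominant_of_injective_of_cover [QuasiCompact q]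
    {r : ((RelProj.domQ u pL chartL : PL.Opens) : Scheme.{u}) ⟶ P} [QuasiCompact r]
    (hr : RelProj.IsProjQMapOn u p chart pL chartL (RelProj.domQ u pL chartL) r)
    (ℬ : Set Y.Opens) (hℬ : ∀ U ∈ ℬ, IsAffineOpen U) (hcov : ∀ y : Y, ∃ U ∈ ℬ, y ∈ U)
    (hu : ∀ U ∈ ℬ, Function.Injective (u.app U).hom) :
    IsSchemeTheoreticallyDominant r := by
  rw [isSchemeTheoreticallyDominant_iff]
  refine Scheme.IdealSheafData.ext_of_iSup_eq_top (ι := StdIdx 𝒮 ℬ)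
    (fun i => ⟨(stdChart p chart i.U i.hU i.hn i.ha) ''ᵁ ⊤,
      (isAffineOpen_top _).image_of_isOpenImmersion _⟩) (iSup_stdChart_eq_top ℬ hℬ hcov) ?_
  intro i
  rw [Scheme.Hom.ker_apply, Scheme.IdealSheafData.ideal_bot, Pi.bot_apply, ← le_bot_iff]
  intro t ht
  rw [RingHom.mem_ker] at ht
  rw [Ideal.mem_bot]
  obtain ⟨U, hUℬ, hU, n, hn, a, ha⟩ := i
  apply eq_zero_of_chart (stdChart p chart U hU hn ha) t
  obtain ⟨τ, hτ⟩ : ∃ τ : Away (𝒮.deg U hU) a,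
    τ = (Scheme.ΓSpecIso (.of (Away (𝒮.deg U hU) a))).hom.hom
      (((stdChart p chart U hU hn ha).appIso ⊤).hom.hom t) := ⟨_, rfl⟩
  rw [← hτ]
  have key : ∀ (U' : X.Opens) (hU' : IsAffineOpen U') (hle : U' ≤ q ⁻¹ᵁ U),
      Away.map (u.gradedAt U hU U' hU' hle) a τ = 0 := by
    intro U' hU' hle
    have hW := RelProj.range_awayEmb_subset_domQ u pL chartL U hU U' hU' hle hn a ha
    have hsq := hr U hU U' hU' hle n hn a ha hW
    have := chart_kernel r (stdChart p chart U hU hn ha) t ht _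
      (CommRingCat.ofHom (Away.map (u.gradedAt U hU U' hU' hle) a)) hsq
    rw [← hτ] at this
    exact this
  obtain ⟨k, b, hb, rfl⟩ := Away.mk_surjective (𝒮.deg U hU) ha τ
  obtain ⟨M, hM⟩ := exists_pow_mul_eq_zero_of_cover u U hU (hu U hUℬ) a b (by
    intro U' hU' hle
    exact exists_pow_of_away_map_mk_eq_zero (𝒮.deg U hU) (𝒮L.deg U' hU') (u.gradedAt U hU U' hU' hle) ha k b hb
      (key U' hU' hle))
  exact away_mk_eq_zero (𝒮.deg U hU) ha k b hb M hM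

/-- `q` quasi-compact and `u` injective on sections over all affine opens: `Proj(u)`, if quasi-compact, is scheme-theoretically
dominant -/
theorem isSchemeTheoreticallyDominant_of_injective [QuasiCompact q]
    {r : ((RelProj.domQ u pL chartL : PL.Opens) : Scheme.{u}) ⟶ P} [QuasiCompact r]
    (hr : RelProj.IsProjQMapOn u p chart pL chartL (RelProj.domQ u pL chartL) r)
    (hu : ∀ (U : Y.Opens), IsAffineOpen U → Function.Injective (u.app U).hom) :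
    IsSchemeTheoreticallyDominant r := by
  refine isSchemeTheoreticallyDominant_of_injective_of_cover u hr {U | IsAffineOpen U} (fun U hU => hU) ?_
    (fun U hU => hu U hU)
  intro y
  obtain ⟨_, ⟨U, hU, rfl⟩, hyU, -⟩ :=
    Y.isBasis_affineOpens.exists_subset_of_mem_open (Set.mem_univ y) isOpen_univ
  exact ⟨U, hU, hyU⟩

end main

end Groth.Agent.Lib.T2H4.PowMap
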