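import Mathlib
import Groth.Agent.Lib.T2H4RLBridgeAU
import Groth.Agent.Lib.Helper13ProjLine
import Groth.Agent.Lib.Helper23Restr

/-!
# `r_{L,σ}` for `L` ample on a quasi-compact scheme over an affine base (EGA II 4.5.2 (a) ⇒ (b)) (helper4)
-/

set_option autoImplicit false
set_option linter.style.haveILetI false
set_option linter.unusedSectionVars false
universe u
open CategoryTheory CategoryTheory.Limits AlgebraicGeometry TopologicalSpace Opposite
open scoped HomogeneousIdeal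

namespace Groth.Agent.Lib.T2H4.PowMap

section ample

variable {X Y P PL : Scheme.{u}} (f : X ⟶ Y) (L : X.Modules) [L.IsQuasicoherent] (hL : PicF.IsInvertible L)
  (𝒮L : RelProj.QCGrAlg X) (jL : L ⟶ 𝒮L.toModule) (hjL : RelProj.IsGrSymAlg L 𝒮L jL)
  {pL : PL ⟶ X}
  {chartL : ∀ (U : X.Opens) (hU : IsAffineOpen U),
    (((pL ⁻¹ᵁ U : PL.Opens) : Scheme.{u}) ≅ Proj (𝒮L.deg U hU))}
  (hPL : RelProj.IsRelProj 𝒮L pL chartL)
  {𝒜 : RelProj.QCGrAlg Y} (u : RelProj.QGrHom f 𝒜 𝒮L)
  {p : P ⟶ Y}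
  {chart : ∀ (U : Y.Opens) (hU : IsAffineOpen U),
    (((p ⁻¹ᵁ U : P.Opens) : Scheme.{u}) ≅ Proj (𝒜.deg U hU))}
  (hP : RelProj.IsRelProj 𝒜 p chart)
  {r : ((RelProj.domQ u pL chartL : PL.Opens) : Scheme.{u}) ⟶ P}
  (hr : RelProj.IsProjQMapOn u p chart pL chartL (RelProj.domQ u pL chartL) r)

include hL hjL hPL hP hr in
/-- **EGA II 4.5.2 (a) ⇒ (b)**: `X` quasi-compact, `L` ample, `Y` affine, `u` bijective on global sections: `r` is everywhere
defined and a quasi-compact scheme-theoretically dominant open immersion -/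
theorem ample_core [CompactSpace X] [QuasiCompact f] (hY : IsAffineOpen (⊤ : Y.Opens))
    (hLa : CohB1.IsAmple L) (hu : Function.Bijective (u.app ⊤).hom) :
    RelProj.domQ u pL chartL = ⊤ ∧ IsOpenImmersion r ∧ QuasiCompact r ∧ IsSchemeTheoreticallyDominant r := by
  have hc : IsCompact ((f ⁻¹ᵁ (⊤ : Y.Opens) : X.Opens) : Set X) := by
    rw [Scheme.Hom.preimage_top]
    exact isCompact_univ
  have hamp : CohB1.IsAmple (L.restrict (f ⁻¹ᵁ (⊤ : Y.Opens)).ι) :=
    Groth.Agent.Lib.Helper23.SecTw.isAmple_restrict L hLa _ hc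
  have h12 := domQ_eq_top_and_isOpenImmersion f L hL 𝒮L jL hjL hPL u hP hr (by
    intro y
    exact ⟨⊤, hY, trivial, hamp, hu⟩)
  have htop := h12.1
  haveI : IsIso pL := Groth.Agent.Helper13ProjLine.isIso_relProj L 𝒮L jL hjL pL chartL hPL hL
  haveI : IsIso (RelProj.domQ u pL chartL).ι := Groth.Agent.Helper13RL.isIso_ι_of_eq_top htop
  haveI hqc : QuasiCompact r := by
    have : IsAffine Y := by
      have : IsAffine (⊤ : Y.Opens).toScheme := hY
      exact .of_isIso Y.topIso.inv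
    have : IsSeparated p := Groth.Agent.Lib.T2H4.RLBridge.isSeparated_of_isRelProj' 𝒜 p chart hP
    have : QuasiSeparatedSpace P := quasiSeparatedSpace_of_quasiSeparated p
    have : CompactSpace ((RelProj.domQ u pL chartL : PL.Opens) : Scheme.{u}) :=
      (Scheme.homeoOfIso (asIso ((RelProj.domQ u pL chartL).ι ≫ pL))).symm.compactSpace
    infer_instance
  refine ⟨htop, h12.2, hqc, ?_⟩
  refine isSchemeTheoreticallyDominant_of_injective_of_cover u hr {⊤} ?_ ?_ ?_
  · intro U hU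
    rw [Set.mem_singleton_iff] at hU
    rw [hU]
    exact hY
  · intro y
    exact ⟨⊤, rfl, trivial⟩
  · intro U hU
    rw [Set.mem_singleton_iff] at hU
    rw [hU]
    exact hu.1

end ample

end Groth.Agent.Lib.T2H4.PowMap
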