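import Mathlib
import Groth.Agent.Lib.T2H4RLBridgeAW
import Groth.Agent.Lib.T2H4RLBridgeAX
import Groth.Agent.Lib.T2H4RLBridgeAQ
import Groth.Agent.Lib.Helper13ProjLine

/-!
# `r_{L,σ}` a topological embedding ⇒ `L` relatively ample (EGA II 4.6.3, (b') ⇒ (a)) (helper4)
-/

set_option autoImplicit false
set_option linter.style.haveILetI false
set_option linter.unusedSectionVars false
universe u
open CategoryTheory CategoryTheory.Limits AlgebraicGeometry TopologicalSpace Opposite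
open HomogeneousLocalization
open scoped HomogeneousIdeal

namespace Groth.Agent.Lib.T2H4.PowMap
open Groth.Agent.Lib.Helper23.SecTw Groth.Agent.Lib.Helper23.GenLocus Groth.Agent.Lib.Helper6
open Groth.Agent.Helper13RL Groth.Agent.Helper13RelProj Groth.Agent.Lib.Helper23.GenNear

section converse

variable {X Y P PL : Scheme.{u}} (f : X ⟶ Y) (L : X.Modules) [L.IsQuasicoherent] (hL : PicF.IsInvertible L)
  (𝒮L : RelProj.QCGrAlg X) (jL : L ⟶ 𝒮L.toModule) (hjL : RelProj.IsGrSymAlg L 𝒮L jL)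
  {pL : PL ⟶ X}
  {chartL : ∀ (U : X.Opens) (hU : IsAffineOpen U),
    (((pL ⁻¹ᵁ U : PL.Opens) : Scheme.{u}) ≅ Proj (𝒮L.deg U hU))}
  (hPL : RelProj.IsRelProj 𝒮L pL chartL)
  {𝒜 : RelProj.QCGrAlg Y} (u : RelProj.QGrHom f 𝒜 𝒮L)
  {p : P ⟶ Y}
  {chart : ∀ (U : Y.Opens) (hU : IsAffineOpen U),
    (((p ⁻¹ᵁ U : P.Opens) : Scheme.{u}) ≅ Proj (𝒜.deg U hU))}
  (hP : RelProj.IsRelProj 𝒜 p chart)
  {r : ((RelProj.domQ u pL chartL : PL.Opens) : Scheme.{u}) ⟶ P}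
  (hr : RelProj.IsProjQMapOn u p chart pL chartL (RelProj.domQ u pL chartL) r)

include hL hjL hPL hP hr in
/-- the key local statement -/
theorem exists_section_of_isEmbedding (htop : RelProj.domQ u pL chartL = ⊤)
    (hemb : Topology.IsEmbedding r.base) (V₀ : Y.Opens) (hV₀ : IsAffineOpen V₀) (z : X) (hz : z ∈ f ⁻¹ᵁ V₀) :
    ∃ (m : ℕ) (_ : 0 < m) (σ : Γ(CohB1.tensorPow L m, f ⁻¹ᵁ V₀)) (D : X.Opens),
      IsAffineOpen D ∧ D ≤ f ⁻¹ᵁ V₀ ∧ z ∈ D ∧
        ∀ (V : X.Opens) (hV : V ≤ f ⁻¹ᵁ V₀),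
          (IsGen (CohB1.tensorPow L m) V (res (CohB1.tensorPow L m) hV σ) ↔ V ≤ D) := by
  classical
  haveI : IsIso pL := Groth.Agent.Helper13ProjLine.isIso_relProj L 𝒮L jL hjL pL chartL hPL hL
  have hsurj : ∀ x' : X, ∃ y' : PL, pL.base y' = x' :=
    fun x' => (Scheme.homeoOfIso (asIso pL)).surjective x'
  have hG : ∀ y' : PL, y' ∈ RelProj.domQ u pL chartL := fun y' => htop ▸ trivial
  obtain ⟨y, hy⟩ := hsurj z
  -- a trivializing affine neighbourhood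
  obtain ⟨U, hU, hUW, e, hzU, he⟩ := exists_affine_gen L hL (O := f ⁻¹ᵁ V₀) z hz
  -- the open `O` of `P` with `r⁻¹(O) = pL⁻¹(U)`
  obtain ⟨Oset, hOopen, hOpre⟩ := hemb.isInducing.isOpen_iff.mp
    (((RelProj.domQ u pL chartL).ι ≫ pL) ⁻¹ᵁ U).2
  obtain ⟨O, hOdef⟩ : ∃ O : P.Opens, O = ⟨Oset, hOopen⟩ := ⟨_, rfl⟩
  have hrO : ∀ y' : ((RelProj.domQ u pL chartL : PL.Opens) : Scheme.{u}),
      r.base y' ∈ O ↔ pL.base ((RelProj.domQ u pL chartL).ι.base y') ∈ U := by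
    intro y'
    have := Set.ext_iff.mp hOpre y'
    rw [hOdef]
    exact this
  have hcomp := qmapOn_comp u hP hPL hr
  have hpr : ∀ y' : ((RelProj.domQ u pL chartL : PL.Opens) : Scheme.{u}),
      p.base (r.base y') = f.base (pL.base ((RelProj.domQ u pL chartL).ι.base y')) := by
    intro y'
    rw [← Scheme.Hom.comp_apply, ← Scheme.Hom.comp_apply, ← Scheme.Hom.comp_apply, hcomp]
  -- the homogeneous element `a`
  have hpr0 : p.base (r.base ⟨y, hG y⟩) ∈ V₀ := by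
    rw [hpr]
    change f.base (pL.base y) ∈ V₀
    rw [hy]
    exact hz
  obtain ⟨w, hw⟩ := exists_chart_point (chartB := chart) V₀ hV₀ (r.base ⟨y, hG y⟩) hpr0
  obtain ⟨n, a, hn, ha, hwa, haO⟩ := exists_homogeneous_basicOpen_le (𝒜.deg V₀ hV₀)
    ((RelProj.emb p chart V₀ hV₀) ⁻¹ᵁ O) w (by
      change (RelProj.emb p chart V₀ hV₀).base w ∈ O
      rw [hw, hrO]
      change pL.base y ∈ U
      rw [hy]
      exact hzU)
  -- the element `g = u(a)` and the section `σ`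
  obtain ⟨g, hgdef⟩ : ∃ g : 𝒮L.presheaf.obj (op (f ⁻¹ᵁ V₀)), g = (u.app V₀).hom a := ⟨_, rfl⟩
  have hgU : ∀ (U' : X.Opens) (hU' : IsAffineOpen U') (hle : U' ≤ f ⁻¹ᵁ V₀),
      rs 𝒮L.toQCAlg hle g = u.gradedAt V₀ hV₀ U' hU' hle a := by
    intro U' hU' hle
    rw [hgdef]
    rfl
  have hgdeg : ∀ (U' : X.Opens) (hU' : IsAffineOpen U') (hle : U' ≤ f ⁻¹ᵁ V₀),
      rs 𝒮L.toQCAlg hle g ∈ 𝒮L.deg U' hU' n := by
    intro U' hU' hle
    rw [hgU U' hU' hle]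
    exact (u.gradedAt V₀ hV₀ U' hU' hle).map_mem ha
  obtain ⟨σ, hσg⟩ := exists_section_of_mem_deg L hL 𝒮L jL hjL n g hgdeg
  obtain ⟨D, hDW, hσ⟩ := exists_genLocus_of_section' (CohB1.tensorPow L n) (f ⁻¹ᵁ V₀) σ
  have hgs : gSec L 𝒮L jL σ = g := hσg
  -- (A) `z ∈ D`
  have hzD : z ∈ D := by
    have h1 : y ∈ (RelProj.domQ u pL chartL).ι ''ᵁ
        (r ⁻¹ᵁ ((RelProj.emb p chart V₀ hV₀) ''ᵁ Proj.basicOpen (𝒜.deg V₀ hV₀) a)) := by
      refine ⟨⟨y, hG y⟩, ?_, rfl⟩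
      change r.base ⟨y, hG y⟩ ∈ (RelProj.emb p chart V₀ hV₀) ''ᵁ Proj.basicOpen (𝒜.deg V₀ hV₀) a
      rw [← hw]
      exact ⟨w, hwa, rfl⟩
    obtain ⟨U', hU', hle, z', hz', hz'y⟩ :=
      (mem_image_preimage_basicOpen_iff u hP hPL hr V₀ hV₀ hn ha y).mp h1
    rw [← hgU U' hU' hle, ← hgs] at hz'
    have h2 := mem_of_mem_basicOpen_gSec L hL 𝒮L jL hjL σ hσ hPL U' hU' hle z' hz'
    have h3 : (RelProj.emb pL chartL U' hU').base z' = y := hz'y
    rw [h3, hy] at h2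
    exact h2
  -- (B) `D ≤ U`
  have hDU : D ≤ U := by
    intro x' hx'
    obtain ⟨y', hy'⟩ := hsurj x'
    obtain ⟨_, ⟨U'', hU'', rfl⟩, hxU'', hU''D⟩ :=
      X.isBasis_affineOpens.exists_subset_of_mem_open hx' D.2
    replace hU'' : IsAffineOpen U'' := hU''
    have hU''D' : U'' ≤ D := hU''D
    have hU''W : U'' ≤ f ⁻¹ᵁ V₀ := hU''D'.trans hDW
    have htop' := basicOpen_gSec_eq_top L hL 𝒮L jL hjL σ hσ hPL hn U'' hU'' hU''W hU''D'
    obtain ⟨z'', hz''⟩ := exists_chart_point (chartB := chartL) U'' hU'' y' (by rw [hy']; exact hxU'')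
    have h1 : y' ∈ (RelProj.emb pL chartL U'' hU'') ''ᵁ
        Proj.basicOpen (𝒮L.deg U'' hU'') (u.gradedAt V₀ hV₀ U'' hU'' hU''W a) := by
      rw [← hgU U'' hU'' hU''W, ← hgs, htop']
      exact ⟨z'', trivial, hz''⟩
    obtain ⟨yt, hyt, hyty⟩ :=
      (mem_image_preimage_basicOpen_iff u hP hPL hr V₀ hV₀ hn ha y').mpr ⟨U'', hU'', hU''W, h1⟩
    obtain ⟨w', hw'a, hw'⟩ := hyt
    have h2 : r.base yt ∈ O := by
      have h4 : (RelProj.emb p chart V₀ hV₀).base w' = r.base yt := hw'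
      rw [← h4]
      exact haO hw'a
    rw [hrO] at h2
    have h3 : (RelProj.domQ u pL chartL).ι.base yt = y' := hyty
    rw [h3, hy'] at h2
    exact h2
  -- (C) `D` is a basic open of `U`
  have hpw : IsGen (CohB1.tensorPow L n) U (pw L U e n) := isGen_pw L U e he n
  obtain ⟨c, hc⟩ : ∃ c : Γ(X, U), c • pw L U e n = res (CohB1.tensorPow L n) hUW σ := by
    refine ⟨coef hpw le_rfl (res (CohB1.tensorPow L n) hUW σ), ?_⟩
    have := coef_spec hpw le_rfl (res (CohB1.tensorPow L n) hUW σ)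
    rwa [res_self] at this
  have hDeq : D = X.basicOpen c := by
    apply le_antisymm
    · have h1 : IsGen (CohB1.tensorPow L n) D (res (CohB1.tensorPow L n) hDW σ) := (hσ D hDW).mpr le_rfl
      have h2 : res (CohB1.tensorPow L n) hDW σ =
          resf hDU c • res (CohB1.tensorPow L n) hDU (pw L U e n) := by
        rw [← res_smul, hc, res_res]
      rw [h2] at h1
      have h3 := (isGen_smul_iff (hpw.mono hDU) (resf hDU c)).mp h1
      exact le_basicOpen_of_isUnit hDU c h3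
    · have hB : X.basicOpen c ≤ U := X.basicOpen_le c
      refine (hσ _ (hB.trans hUW)).mp ?_
      have h2 : res (CohB1.tensorPow L n) (hB.trans hUW) σ =
          resf hB c • res (CohB1.tensorPow L n) hB (pw L U e n) := by
        rw [← res_smul, hc, res_res]
      rw [h2]
      exact (isGen_smul_iff (hpw.mono hB) (resf hB c)).mpr (RingedSpace.isUnit_res_basicOpen _ c)
  exact ⟨n, hn, σ, D, hDeq ▸ hU.basicOpen c, hDW, hzD, hσ⟩

include hL hjL hPL hP hr in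
/-- **EGA II 4.6.3 (b') ⇒ (a)** -/
theorem relAmple_of_isEmbedding [QuasiCompact f] (htop : RelProj.domQ u pL chartL = ⊤)
    (hemb : Topology.IsEmbedding r.base) : RelAmple.IsRelAmple f L := by
  refine ⟨inferInstance, fun V₀' => ?_⟩
  obtain ⟨V₀, hV₀⟩ := V₀'
  haveI : CompactSpace ((f ⁻¹ᵁ V₀ : X.Opens) : Scheme.{u}) :=
    isCompact_iff_compactSpace.mp (QuasiCompact.isCompact_preimage (f := f) _ V₀.2 hV₀.isCompact)
  exact isAmple_restrict_of_sections' L hL (f ⁻¹ᵁ V₀)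
    (fun z hz => exists_section_of_isEmbedding f L hL 𝒮L jL hjL hPL u hP hr htop hemb V₀ hV₀ z hz)

end converse

end Groth.Agent.Lib.T2H4.PowMap
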