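import Mathlib
import Groth.Agent.Lib.T2H4RLBridgeBA
import Groth.Agent.Lib.T2H4RLBridgeAT
import Groth.Agent.Lib.T2H4RLBridgeAY
import Groth.Agent.Lib.T2H4GrSymB
import Groth.Agent.Lib.Helper13ProjBC
import Groth.Agent.Lib.Helper23TensorUnit
import Groth.Agent.Lib.Helper23Restr2

/-!
# `X_s` is affine over the base for `f` universally closed and `L` relatively ample (helper4)
-/

set_option autoImplicit false
set_option linter.style.haveILetI false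
set_option linter.unusedSectionVars false
universe u
open CategoryTheory CategoryTheory.Limits AlgebraicGeometry TopologicalSpace Opposite
open HomogeneousLocalization
open scoped HomogeneousIdeal

namespace Groth.Agent.Lib.T2H4.PowMap
open Groth.Agent.Lib.Helper23.SecTw Groth.Agent.Lib.Helper23.GenLocus Groth.Agent.Lib.Helper6
open Groth.Agent.Helper13RL Groth.Agent.Helper13RelProj Groth.Agent.Lib.Helper23.GenNear
open Groth.Agent.Lib.Helper23.AmpleIso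

section affine

variable {X Y P PL : Scheme.{u}} (f : X ⟶ Y) (L : X.Modules) [L.IsQuasicoherent] (hL : PicF.IsInvertible L)
  (𝒮L : RelProj.QCGrAlg X) (jL : L ⟶ 𝒮L.toModule) (hjL : RelProj.IsGrSymAlg L 𝒮L jL)
  {pL : PL ⟶ X}
  {chartL : ∀ (U : X.Opens) (hU : IsAffineOpen U),
    (((pL ⁻¹ᵁ U : PL.Opens) : Scheme.{u}) ≅ Proj (𝒮L.deg U hU))}
  (hPL : RelProj.IsRelProj 𝒮L pL chartL)
  {𝒜 : RelProj.QCGrAlg Y} (u : RelProj.QGrHom f 𝒜 𝒮L)
  {p : P ⟶ Y}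
  {chart : ∀ (U : Y.Opens) (hU : IsAffineOpen U),
    (((p ⁻¹ᵁ U : P.Opens) : Scheme.{u}) ≅ Proj (𝒜.deg U hU))}
  (hP : RelProj.IsRelProj 𝒜 p chart)
  {r : ((RelProj.domQ u pL chartL : PL.Opens) : Scheme.{u}) ⟶ P}
  (hr : RelProj.IsProjQMapOn u p chart pL chartL (RelProj.domQ u pL chartL) r)

include hL hjL hPL hP hr in
/-- if `r` is an isomorphism, the generating locus of a section `σ` of `L^{⊗m}` over `f⁻¹(V₀)` whose element of `𝒮L` comes from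
`a ∈ 𝒜(V₀)_m` is affine -/
theorem isAffineOpen_of_isIso [IsIso r]
    (V₀ : Y.Opens) (hV₀ : IsAffineOpen V₀) {m : ℕ} (hm : 0 < m) (σ : Γ(CohB1.tensorPow L m, f ⁻¹ᵁ V₀))
    (D : X.Opens) (hDW : D ≤ f ⁻¹ᵁ V₀)
    (hσ : ∀ (V : X.Opens) (hV : V ≤ f ⁻¹ᵁ V₀),
      IsGen (CohB1.tensorPow L m) V (res (CohB1.tensorPow L m) hV σ) ↔ V ≤ D)
    (a : 𝒜.presheaf.obj (op V₀)) (ha : a ∈ 𝒜.deg V₀ hV₀ m)
    (hag : (u.app V₀).hom a = gSec L 𝒮L jL σ) : IsAffineOpen D := by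
  classical
  haveI : IsIso pL := Groth.Agent.Helper13ProjLine.isIso_relProj L 𝒮L jL hjL pL chartL hPL hL
  have hsurj : ∀ x' : X, ∃ y' : PL, pL.base y' = x' :=
    fun x' => (Scheme.homeoOfIso (asIso pL)).surjective x'
  have hgU : ∀ (U' : X.Opens) (hU' : IsAffineOpen U') (hle : U' ≤ f ⁻¹ᵁ V₀),
      rs 𝒮L.toQCAlg hle (gSec L 𝒮L jL σ) = u.gradedAt V₀ hV₀ U' hU' hle a := by
    intro U' hU' hle
    rw [← hag]
    rfl
  -- pointwise description of the preimage of `D₊(a)`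
  have hpt : ∀ y' : PL, y' ∈ (RelProj.domQ u pL chartL).ι ''ᵁ
      (r ⁻¹ᵁ ((RelProj.emb p chart V₀ hV₀) ''ᵁ Proj.basicOpen (𝒜.deg V₀ hV₀) a)) ↔ pL.base y' ∈ D := by
    intro y'
    constructor
    · intro h1
      obtain ⟨U', hU', hle, z', hz', hz'y⟩ :=
        (mem_image_preimage_basicOpen_iff u hP hPL hr V₀ hV₀ hm ha y').mp h1
      rw [← hgU U' hU' hle] at hz'
      have h2 := mem_of_mem_basicOpen_gSec L hL 𝒮L jL hjL σ hσ hPL U' hU' hle z' hz'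
      have h3 : (RelProj.emb pL chartL U' hU').base z' = y' := hz'y
      rw [h3] at h2
      exact h2
    · intro hx'
      obtain ⟨_, ⟨U'', hU'', rfl⟩, hxU'', hU''D⟩ :=
        X.isBasis_affineOpens.exists_subset_of_mem_open hx' D.2
      replace hU'' : IsAffineOpen U'' := hU''
      have hU''D' : U'' ≤ D := hU''D
      have hU''W : U'' ≤ f ⁻¹ᵁ V₀ := hU''D'.trans hDW
      have htop' := basicOpen_gSec_eq_top L hL 𝒮L jL hjL σ hσ hPL hm U'' hU'' hU''W hU''D'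
      obtain ⟨z'', hz''⟩ := exists_chart_point (chartB := chartL) U'' hU'' y' hxU''
      have h1 : y' ∈ (RelProj.emb pL chartL U'' hU'') ''ᵁ
          Proj.basicOpen (𝒮L.deg U'' hU'') (u.gradedAt V₀ hV₀ U'' hU'' hU''W a) := by
        rw [← hgU U'' hU'' hU''W, htop']
        exact ⟨z'', trivial, hz''⟩
      exact (mem_image_preimage_basicOpen_iff u hP hPL hr V₀ hV₀ hm ha y').mpr ⟨U'', hU'', hU''W, h1⟩
  -- `D` is the image of the preimage of `D₊(a)` under the isomorphism `G(u) ≅ X`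
  obtain ⟨Da, hDa⟩ : ∃ Da : P.Opens, Da = (RelProj.emb p chart V₀ hV₀) ''ᵁ Proj.basicOpen (𝒜.deg V₀ hV₀) a :=
    ⟨_, rfl⟩
  have hDaff : IsAffineOpen Da := by
    rw [hDa, ← opensRange_stdChart V₀ hV₀ hm ha]
    exact isAffineOpen_opensRange _
  have hDeq : D = ((RelProj.domQ u pL chartL).ι ≫ pL) ''ᵁ (r ⁻¹ᵁ Da) := by
    ext x
    constructor
    · intro hx
      obtain ⟨y', hy'⟩ := hsurj x
      rw [← hy'] at hx
      obtain ⟨yt, hyt, hyty⟩ := (hpt y').mpr hx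
      refine ⟨yt, ?_, ?_⟩
      · rw [hDa]
        exact hyt
      · have h3 : (RelProj.domQ u pL chartL).ι.base yt = y' := hyty
        change pL.base ((RelProj.domQ u pL chartL).ι.base yt) = x
        rw [h3, hy']
    · rintro ⟨yt, hyt, rfl⟩
      have h1 : (RelProj.domQ u pL chartL).ι.base yt ∈ (RelProj.domQ u pL chartL).ι ''ᵁ
          (r ⁻¹ᵁ ((RelProj.emb p chart V₀ hV₀) ''ᵁ Proj.basicOpen (𝒜.deg V₀ hV₀) a)) := by
        refine ⟨yt, ?_, rfl⟩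
        rw [← hDa]
        exact hyt
      exact (hpt _).mp h1
  rw [hDeq]
  exact (hDaff.preimage_of_isIso r).image_of_isOpenImmersion _

end affine

/-- **Stacks 0C4L**: for `f` universally closed and `L` ample relative to `f`, the open `X_s` of a global section `s` of `L` is affine
over the base -/
theorem isAffineHom_genLocus_of_isRelAmple {X S : Scheme.{u}} (f : X ⟶ S) [UniversallyClosed f]
    (L : X.Modules) (hL : RelAmple.IsRelAmple f L) (s : Coh.structureModule X ⟶ L) :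
    IsAffineHom ((CohB1.genLocus L s).ι ≫ f) := by
  classical
  have hLinv : PicF.IsInvertible L := isInvertible_of_isRelAmple f L hL
  haveI : L.IsQuasicoherent := isQuasicoherent_of_isInvertible L hLinv
  haveI : QuasiCompact f := hL.1
  have hq : IsQcqsOver f := by
    refine ⟨fun U hU => QuasiCompact.isCompact_preimage (f := f) _ U.2 hU.isCompact,
      fun U hU V V' hV hV' hVW hV'W => ?_⟩
    haveI : QuasiSeparatedSpace ((f ⁻¹ᵁ U : X.Opens) : Scheme.{u}) :=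
      quasiSeparatedSpace_of_isAmple _ (hL.2 ⟨U, hU⟩)
    exact isCompact_inf_of_quasiSeparatedSpace (f ⁻¹ᵁ U) V V' hV hV' (hVW.trans (le_image_top _))
      (hV'W.trans (le_image_top _))
  -- the data
  obtain ⟨𝒮L, jL, hjL⟩ : ∃ (𝒮L : RelProj.QCGrAlg X) (jL : L ⟶ 𝒮L.toModule), RelProj.IsGrSymAlg L 𝒮L jL :=
    ⟨Groth.Agent.Lib.T2H4.GrSym.grSymAlg L, Groth.Agent.Lib.T2H4.GrSym.jGr L,
      Groth.Agent.Lib.T2H4.GrSym.isGrSymAlg L⟩
  obtain ⟨PL, pL, chartL, hPL⟩ : ∃ (PL : Scheme.{u}) (pL : PL ⟶ X)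
      (chartL : ∀ (U : X.Opens) (hU : IsAffineOpen U), (((pL ⁻¹ᵁ U : PL.Opens) : Scheme.{u}) ≅ Proj (𝒮L.deg U hU))),
      RelProj.IsRelProj 𝒮L pL chartL :=
    ⟨Groth.Agent.Helper13ProjBC.relProj 𝒮L, Groth.Agent.Helper13ProjBC.relProjπ 𝒮L,
      Groth.Agent.Helper13ProjBC.relProjChart 𝒮L, Groth.Agent.Helper13ProjBC.isRelProj_relProj 𝒮L⟩
  obtain ⟨𝒜, u, hu, hdeg⟩ : ∃ (𝒜 : RelProj.QCGrAlg S) (u : RelProj.QGrHom f 𝒜 𝒮L),
      (∀ U : S.Opens, Function.Bijective (u.app U).hom) ∧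
      ∀ (U : S.Opens) (hU : IsAffineOpen U) (n : ℕ) (x : 𝒜.presheaf.obj (op U)),
        (u.app U).hom x ∈ locDeg 𝒮L (f ⁻¹ᵁ U) n → x ∈ 𝒜.deg U hU n :=
    ⟨pushGr f 𝒮L hq, pushHom f 𝒮L hq, fun U => pushHom_bijective f 𝒮L hq U, fun U hU n x hx => hx⟩
  obtain ⟨P, p, chart, hP⟩ : ∃ (P : Scheme.{u}) (p : P ⟶ S)
      (chart : ∀ (U : S.Opens) (hU : IsAffineOpen U), (((p ⁻¹ᵁ U : P.Opens) : Scheme.{u}) ≅ Proj (𝒜.deg U hU))),
      RelProj.IsRelProj 𝒜 p chart :=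
    ⟨Groth.Agent.Helper13ProjBC.relProj 𝒜, Groth.Agent.Helper13ProjBC.relProjπ 𝒜,
      Groth.Agent.Helper13ProjBC.relProjChart 𝒜, Groth.Agent.Helper13ProjBC.isRelProj_relProj 𝒜⟩
  obtain ⟨r, hv⟩ := exists_qmapOn u hP hPL
  have hr := isProjQMapOn_of_pieces u r hv
  obtain ⟨htop, hiso⟩ := relAmple_isIso f L hLinv 𝒮L jL hjL hPL u hP hr (fun U _ => hu U) hL
  apply isAffineHom_of_forall_exists_isAffineOpen
  intro x
  obtain ⟨_, ⟨V₀, hV₀, rfl⟩, hxV, -⟩ :=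
    S.isBasis_affineOpens.exists_subset_of_mem_open (Set.mem_univ x) isOpen_univ
  replace hV₀ : IsAffineOpen V₀ := hV₀
  refine ⟨V₀, hxV, hV₀, ?_⟩
  -- the section of `L^{⊗1}`
  obtain ⟨e1⟩ : Nonempty (CohB1.tensorPow L 1 ≅ L) :=
    ⟨Groth.Agent.Lib.Helper23.TensorUnit.unitTensorIso L⟩
  obtain ⟨s', hs'⟩ : ∃ s' : Coh.structureModule X ⟶ CohB1.tensorPow L 1, s' = s ≫ e1.inv := ⟨_, rfl⟩
  have hgl : CohB1.genLocus (CohB1.tensorPow L 1) s' = CohB1.genLocus L s := by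
    rw [hs']
    exact genLocus_comp_iso e1.symm s
  obtain ⟨σ, hσdef⟩ : ∃ σ : Γ(CohB1.tensorPow L 1, f ⁻¹ᵁ V₀), σ = sv s' (f ⁻¹ᵁ V₀) := ⟨_, rfl⟩
  obtain ⟨D, hDdef⟩ : ∃ D : X.Opens, D = CohB1.genLocus L s ⊓ f ⁻¹ᵁ V₀ := ⟨_, rfl⟩
  have hσ : ∀ (V : X.Opens) (hV : V ≤ f ⁻¹ᵁ V₀),
      IsGen (CohB1.tensorPow L 1) V (res (CohB1.tensorPow L 1) hV σ) ↔ V ≤ D := by
    intro V hV
    rw [hσdef, res_sv, hDdef]
    constructor
    · intro h
      refine le_inf ?_ hV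
      rw [← hgl]
      exact le_genLocus_of_isGen _ s' V h
    · intro h
      have h1 : V ≤ CohB1.genLocus _ s' := by
        rw [hgl]
        exact h.trans inf_le_left
      have := (isGen_sv_genLocus _ s').mono h1
      rwa [res_sv] at this
  obtain ⟨a, haeq⟩ := (hu V₀).2 (gSec L 𝒮L jL σ)
  have ha : a ∈ 𝒜.deg V₀ hV₀ 1 := by
    apply hdeg V₀ hV₀ 1 a
    rw [haeq]
    exact fun U hU hUW => gSec_mem_deg L hLinv 𝒮L jL hjL σ hσ U hU hUW
  have hD : IsAffineOpen D :=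
    isAffineOpen_of_isIso f L hLinv 𝒮L jL hjL hPL u hP hr V₀ hV₀ one_pos σ D
      (hDdef ▸ inf_le_right) hσ a ha haeq
  have hpre : ((CohB1.genLocus L s).ι ≫ f) ⁻¹ᵁ V₀ = (CohB1.genLocus L s).ι ⁻¹ᵁ D := by
    ext y
    rw [hDdef]
    constructor
    · intro hy
      exact ⟨y.2, hy⟩
    · intro hy
      exact hy.2
  rw [hpre]
  refine hD.preimage_of_isOpenImmersion _ ?_
  rw [Scheme.Opens.opensRange_ι, hDdef]
  exact inf_le_left

end Groth.Agent.Lib.T2H4.PowMap
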