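import Mathlib
import Groth.Prelude.Def_RelProj4
import Groth.Agent.Lib.T2H4ProjMorB
import Groth.Agent.Lib.Helper2RelTwistExist
import Groth.Agent.Lib.Helper2RelTwistPullback

/-!
# A quasi-compact immersion into `Proj(𝒯)` is an open dense immersion into `Proj` of a graded quotient (helper4)
-/

set_option autoImplicit false
set_option linter.style.haveILetI false
set_option linter.unusedSectionVars false
universe u
open CategoryTheory Limits AlgebraicGeometry TopologicalSpace Opposite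
open scoped HomogeneousIdeal

namespace Groth.Agent.Lib.T2H4.QProj

open RelProj Groth.Agent.Helper13RelProj

section relmap

variable {S : Scheme.{u}} {𝒜 ℬ : RelProj.QCGrAlg S}
  (φ : 𝒜.toQCAlg ⟶ ℬ.toQCAlg) (hφ : RelProj.IsGradedHom φ)
  {PA PB : Scheme.{u}} {pA : PA ⟶ S} {pB : PB ⟶ S}
  {chartA : ∀ (U : S.Opens) (hU : IsAffineOpen U),
    ((pA ⁻¹ᵁ U : PA.Opens) : Scheme.{u}) ≅ Proj (𝒜.deg U hU)}
  {chartB : ∀ (U : S.Opens) (hU : IsAffineOpen U),
    ((pB ⁻¹ᵁ U : PB.Opens) : Scheme.{u}) ≅ Proj (ℬ.deg U hU)}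

theorem projMap_congr' {A B σ τ : Type u} [CommRing A] [SetLike σ A] [AddSubgroupClass σ A]
    [CommRing B] [SetLike τ B] [AddSubgroupClass τ B]
    {𝒜 : ℕ → σ} {ℬ : ℕ → τ} [GradedRing 𝒜] [GradedRing ℬ]
    {f f' : 𝒜 →+*ᵍ ℬ} (h : f = f') (hf : ℬ₊ ≤ 𝒜₊.map f) (hf' : ℬ₊ ≤ 𝒜₊.map f') :
    Proj.map f hf = Proj.map f' hf' := by
  subst h; rfl

theorem ψAt_eq_gradedHomAt (U : S.Opens) (hU : IsAffineOpen U) :
    ψAt φ hφ U hU = RelProj.gradedHomAt φ hφ U hU := by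
  ext a
  exact ψAt_apply φ hφ U hU a

/-- a morphism satisfying the diagonal chart equations of `Proj(φ)`, for `φ` satisfying Mathlib's condition on
irrelevant ideals, is the frozen `IsRelProjMap` -/
theorem isRelProjMap_of_isQMapDiag (hA : RelProj.IsRelProj 𝒜 pA chartA) (hB : RelProj.IsRelProj ℬ pB chartB)
    (hirr : ∀ (U : S.Opens) (hU : IsAffineOpen U),
      (ℬ.deg U hU)₊ ≤ ((𝒜.deg U hU)₊).map (RelProj.gradedHomAt φ hφ U hU))
    (hdom : ∀ (U : S.Opens) (hU : IsAffineOpen U),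
      IsDomOf (ψAt φ hφ U hU) (𝟙 (Proj (ℬ.deg U hU))))
    {h : PB ⟶ PA} (hh : IsQMapDiag φ hφ chartA chartB h) :
    RelProj.IsRelProjMap φ hφ hirr chartA chartB h := by
  have hcomp : h ≫ pA = pB := qmap_comp hA hB hdom hh
  intro U hU
  have hirr' : (ℬ.deg U hU)₊ ≤ ((𝒜.deg U hU)₊).map (ψAt φ hφ U hU) := by
    rw [ψAt_eq_gradedHomAt]; exact hirr U hU
  have h1 : IsPMap (ψAt φ hφ U hU) (𝟙 _) (localMap chartA chartB hcomp U hU) :=
    isPMap_localMap hcomp hh U hU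
  have h2 : IsPMap (ψAt φ hφ U hU) (𝟙 (Proj (ℬ.deg U hU))) (Proj.map (ψAt φ hφ U hU) hirr') := by
    intro d f hd hf c hc
    rw [Category.comp_id] at hc
    subst hc
    exact Proj.awayι_comp_map _ _ hd f hf
  have h3 : localMap chartA chartB hcomp U hU = Proj.map (ψAt φ hφ U hU) hirr' :=
    IsPMap.unique (hdom U hU) h1 h2
  have h4 : Proj.map (ψAt φ hφ U hU) hirr' = Proj.map (RelProj.gradedHomAt φ hφ U hU) (hirr U hU) :=
    projMap_congr' (ψAt_eq_gradedHomAt φ hφ U hU) _ _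
  have h5 := localMap_emb (chartA := chartA) (chartB := chartB) hcomp U hU
  rw [h3, h4] at h5
  unfold RelProj.emb at h5
  rw [← cancel_epi (chartB U hU).inv, Iso.inv_hom_id_assoc]
  simpa only [Category.assoc] using h5.symm

end relmap

section core

variable {X Y Q : Scheme.{u}} (𝒯 : RelProj.QCGrAlg Y) (pQ : Q ⟶ Y)
  (chartQ : ∀ (U : Y.Opens) (hU : IsAffineOpen U), ((pQ ⁻¹ᵁ U : Q.Opens) : Scheme.{u}) ≅ Proj (𝒯.deg U hU))

/-- **a quasi-compact immersion into `Proj(𝒯)`, `𝒯` generated in degree one with degree-one part of finite type, is an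
open immersion with dense image into the relative `Proj` of a graded quotient of `𝒯`**, compatibly with `O(1)` -/
theorem exists_openImmersion_relProj (hQ : RelProj.IsRelProj 𝒯 pQ chartQ) (hgen : 𝒯.IsGenDegOne)
    (hft : 𝒯.IsFTDeg 1) (O1Q : Q.Modules)
    (lamQ : ∀ (U : Y.Opens) (hU : IsAffineOpen U),
      O1Q ⟶ (Scheme.Modules.pushforward (RelProj.emb pQ chartQ U hU)).obj (GrTwist.twist (𝒯.deg U hU) 1))
    (hO1Q : RelProj.IsRelTwist 𝒯 pQ chartQ 1 O1Q lamQ)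
    (r₀ : X ⟶ Q) [IsImmersion r₀] [QuasiCompact r₀] :
    ∃ (ℬ : RelProj.QCGrAlg Y) (PB : Scheme.{u}) (pB : PB ⟶ Y)
      (chartB : ∀ (U : Y.Opens) (hU : IsAffineOpen U),
        ((pB ⁻¹ᵁ U : PB.Opens) : Scheme.{u}) ≅ Proj (ℬ.deg U hU))
      (O1B : PB.Modules)
      (lamB : ∀ (U : Y.Opens) (hU : IsAffineOpen U),
        O1B ⟶ (Scheme.Modules.pushforward (RelProj.emb pB chartB U hU)).obj (GrTwist.twist (ℬ.deg U hU) 1))
      (i : X ⟶ PB),
      ℬ.IsGenDegOne ∧ ℬ.IsFTDeg 1 ∧ RelProj.IsRelProj ℬ pB chartB ∧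
        RelProj.IsRelTwist ℬ pB chartB 1 O1B lamB ∧
        IsOpenImmersion i ∧ Dense (Set.range i.base) ∧ i ≫ pB = r₀ ≫ pQ ∧
        Nonempty ((Scheme.Modules.pullback r₀).obj O1Q ≅ (Scheme.Modules.pullback i).obj O1B) := by
  haveI : IsProper pQ := Groth.Agent.Lib.T2H6.ProjProper.isProper_of_isRelProj 𝒯 pQ chartQ hQ hgen hft
  haveI : QuasiCompact pQ := inferInstance
  obtain ⟨ℬ, φ, hφ, PB, pB, chartB, h, e, hsurj, hRel, hQm, he⟩ :=
    Groth.Agent.Lib.T2H4.ProjQuot.exists_gradedQuotient 𝒯 pQ chartQ hQ r₀.imageι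
  have hdom : ∀ (U : Y.Opens) (hU : IsAffineOpen U),
      IsDomOf (ψAt φ hφ U hU) (𝟙 (Proj (ℬ.deg U hU))) :=
    isDomOf_of_TN 0 (fun _ _ U hU _ hy => ProjMor.exists_mem_deg_of_surjective φ hφ hsurj U hU hy)
  have hdiag := isQMapDiag_of_isProjQMap φ hφ chartQ chartB hQm
  have hcomp : h ≫ pQ = pB := qmap_comp hQ hRel hdom hdiag
  have hirr : ∀ (U : Y.Opens) (hU : IsAffineOpen U),
      (ℬ.deg U hU)₊ ≤ ((𝒯.deg U hU)₊).map (RelProj.gradedHomAt φ hφ U hU) := by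
    intro U hU
    rw [HomogeneousIdeal.irrelevant_le]
    intro n hn y hy
    obtain ⟨x, hx, rfl⟩ := ProjMor.exists_mem_deg_of_surjective φ hφ hsurj U hU hy
    exact Ideal.mem_map_of_mem _ (HomogeneousIdeal.mem_irrelevant_of_mem _ hn hx)
  have hmap := isRelProjMap_of_isQMapDiag φ hφ hQ hRel hirr hdom hdiag
  obtain ⟨O1B, lamB, hO1B⟩ := Groth.Agent.Lib.Helper2.RelTwistExist.exists_isRelTwist pB chartB hRel 1
  obtain ⟨θ⟩ := Groth.Agent.Lib.Helper2.RelTwistPullback.nonempty_pullback_iso φ hφ hirr pQ pB chartQ chartB h 1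
    O1Q lamQ hO1Q O1B lamB hO1B hQ hRel hmap hgen
  have hi : (r₀.toImage ≫ e.inv) ≫ h = r₀ := by
    rw [Category.assoc, ← he, Iso.inv_hom_id_assoc, Scheme.Hom.toImage_imageι]
  refine ⟨ℬ, PB, pB, chartB, O1B, lamB, r₀.toImage ≫ e.inv,
    ProjMor.isGenDegOne_of_surjective φ hφ hsurj hgen,
    ProjMor.isFTDeg_of_surjective φ hφ hsurj 1 hft, hRel, hO1B, inferInstance, ?_, ?_, ?_⟩
  · have h1 : DenseRange r₀.toImage.base := r₀.toImage.denseRange
    have h2 : Function.Surjective e.inv.base := e.inv.surjective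
    have h3 : DenseRange (e.inv.base ∘ r₀.toImage.base) :=
      h2.denseRange.comp h1 e.inv.continuous
    exact h3
  · rw [← hcomp, ← Category.assoc, hi]
  · exact ⟨(Scheme.Modules.pullbackCongr hi.symm).app O1Q ≪≫
      ((Scheme.Modules.pullbackComp (r₀.toImage ≫ e.inv) h).app O1Q).symm ≪≫
      (Scheme.Modules.pullback (r₀.toImage ≫ e.inv)).mapIso θ⟩

end core

end Groth.Agent.Lib.T2H4.QProj
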