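import Mathlib
import Groth.Prelude.Def_RelProj4
import Groth.Agent.Lib.T2H4RLBridgeBC
import Groth.Agent.Lib.T2H4RLBridgeAA
import Groth.Agent.Lib.T2H4RLBridgeAK
import Groth.Agent.Lib.T2H4RLBridgeL
import Groth.Agent.Lib.T2H4ProjMorC
import Groth.Agent.Lib.Helper23Restr2
import Groth.Agent.Lib.Helper23SecTw6

/-!
# Quasi-projective morphisms are open dense subschemes of relative `Proj`s (helper4)
-/

set_option autoImplicit false
set_option linter.style.haveILetI false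
set_option linter.unusedSectionVars false
universe u
open CategoryTheory Limits AlgebraicGeometry TopologicalSpace Opposite
open scoped HomogeneousIdeal

namespace Groth.Agent.Lib.T2H4.QProj

open RelProj Groth.Agent.Helper13RelProj Groth.Agent.Lib.T2H4.RLBridge

/-- **EGA II 4.4.7 / 5.3.2**: over a quasi-compact quasi-separated base, a module very ample relative to a morphism of
finite type is the pull-back of `O(1)` along an open immersion with dense image into the relative `Proj` of a graded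
algebra generated by its degree-one part, of finite type -/
theorem exists_openImmersion_of_isRelVeryAmple {X Y : Scheme.{u}} [CompactSpace Y] [QuasiSeparatedSpace Y]
    (q : X ⟶ Y) [QuasiCompact q] [LocallyOfFiniteType q]
    (L : X.Modules) (hL : PicF.IsInvertible L) (h : RelProj.IsRelVeryAmple q L) :
    ∃ (𝒮 : RelProj.QCGrAlg Y) (P : Scheme.{u}) (p : P ⟶ Y)
      (chart : ∀ (U : Y.Opens) (hU : IsAffineOpen U), ((p ⁻¹ᵁ U : P.Opens) : Scheme.{u}) ≅ Proj (𝒮.deg U hU))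
      (O1 : P.Modules)
      (lam : ∀ (U : Y.Opens) (hU : IsAffineOpen U),
        O1 ⟶ (Scheme.Modules.pushforward (RelProj.emb p chart U hU)).obj (GrTwist.twist (𝒮.deg U hU) 1))
      (i : X ⟶ P),
      𝒮.IsGenDegOne ∧ 𝒮.IsFTDeg 1 ∧ RelProj.IsRelProj 𝒮 p chart ∧ RelProj.IsRelTwist 𝒮 p chart 1 O1 lam ∧
        IsOpenImmersion i ∧ Dense (Set.range i.base) ∧ i ≫ p = q ∧
        Nonempty (L ≅ (Scheme.Modules.pullback i).obj O1) := by
  obtain ⟨E₀, hE₀, hft, 𝒯, k, hk, Q, pQ, chartQ, hQ, O1Q, lamQ, hO1Q, r₀, hr₀, ψ₀, hF⟩ :=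
    exists_ft_immersion_of_isRelVeryAmple q L hL h
  have hcomp : r₀ ≫ pQ = q := hF.comp
  obtain ⟨τ, -⟩ := hF.exists_iso hE₀ hQ
  have hgen : 𝒯.IsGenDegOne := Groth.Agent.Lib.T2H4.VeryAmple.isGenDegOne_of_isGrSymAlg E₀ hE₀ 𝒯 k hk
  have hftT : 𝒯.IsFTDeg 1 := ProjMor.isFTDeg_one_of_isGrSymAlg E₀ hE₀ 𝒯 k hk hft
  haveI : IsProper pQ := Groth.Agent.Lib.T2H6.ProjProper.isProper_of_isRelProj 𝒯 pQ chartQ hQ hgen hftT
  haveI : QuasiCompact (r₀ ≫ pQ) := by rw [hcomp]; infer_instance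
  haveI : QuasiCompact r₀ := QuasiCompact.of_comp r₀ pQ
  obtain ⟨ℬ, PB, pB, chartB, O1B, lamB, i, h1, h2, h3, h4, h5, h6, h7, ⟨θ⟩⟩ :=
    exists_openImmersion_relProj 𝒯 pQ chartQ hQ hgen hftT O1Q lamQ hO1Q r₀
  exact ⟨ℬ, PB, pB, chartB, O1B, lamB, i, h1, h2, h3, h4, h5, h6, h7.trans hcomp, ⟨τ.symm ≪≫ θ⟩⟩

/-- **EGA II 5.3.2, (a) ⇒ (c)**: a quasi-projective morphism over a quasi-compact quasi-separated base is an open dense
subscheme of a relative `Proj` -/
theorem exists_openImmersion_of_isQuasiProjective {X Y : Scheme.{u}} [CompactSpace Y] [QuasiSeparatedSpace Y]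
    (f : X ⟶ Y) (hf : RelProj.IsQuasiProjective f) :
    ∃ (𝒮 : RelProj.QCGrAlg Y) (P : Scheme.{u}) (p : P ⟶ Y)
      (chart : ∀ (U : Y.Opens) (hU : IsAffineOpen U), ((p ⁻¹ᵁ U : P.Opens) : Scheme.{u}) ≅ Proj (𝒮.deg U hU))
      (j : X ⟶ P), 𝒮.IsGenDegOne ∧ 𝒮.IsFTDeg 1 ∧ RelProj.IsRelProj 𝒮 p chart ∧
        IsOpenImmersion j ∧ Dense (Set.range j.base) ∧ j ≫ p = f := by
  obtain ⟨hlft, hqc, L, hL⟩ := hf
  have hinv : PicF.IsInvertible L := Groth.Agent.Lib.Helper23.SecTw.isInvertible_of_isRelAmple f L hL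
  obtain ⟨n₀, -, hn₀⟩ := exists_pow_isRelVeryAmple f L hinv hL
  obtain ⟨𝒮, P, p, chart, O1, lam, i, h1, h2, h3, -, h5, h6, h7, -⟩ :=
    exists_openImmersion_of_isRelVeryAmple f (CohB1.tensorPow L n₀)
      (Groth.Agent.Lib.Helper23.SecTw.isInvertible_tensorPow hinv n₀) (hn₀ n₀ le_rfl)
  exact ⟨𝒮, P, p, chart, i, h1, h2, h3, h5, h6, h7⟩

/-- **EGA II 5.3.2, (c) ⇒ (a)**: a quasi-compact immersion into a relative `Proj` of an algebra generated in degree one
with degree-one part of finite type is quasi-projective over the base when of finite type -/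
theorem isQuasiProjective_of_immersion {X Y P : Scheme.{u}} (f : X ⟶ Y) [LocallyOfFiniteType f] [QuasiCompact f]
    (𝒮 : RelProj.QCGrAlg Y) (p : P ⟶ Y)
    (chart : ∀ (U : Y.Opens) (hU : IsAffineOpen U), ((p ⁻¹ᵁ U : P.Opens) : Scheme.{u}) ≅ Proj (𝒮.deg U hU))
    (hgen : 𝒮.IsGenDegOne) (hP : RelProj.IsRelProj 𝒮 p chart) (j : X ⟶ P) [IsImmersion j] (hj : j ≫ p = f) :
    RelProj.IsQuasiProjective f := by
  obtain ⟨𝒯, jj, hsym, P', p', chart', hP', h, hci, hover⟩ :=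
    ProjMor.exists_closedImmersion_of_degOne 𝒮 hgen p chart hP (ProjMor.degOne 𝒮) (ProjMor.isQCoh_degOne 𝒮)
      (ProjMor.degOneι 𝒮) (fun U hU m => ProjMor.degOneι_app_mem 𝒮 U hU m)
      (fun U hU b hb => ⟨_, ProjMor.degOneι_app_π 𝒮 U hU b hb⟩)
  obtain ⟨O1, lam, hO1⟩ := Groth.Agent.Lib.Helper2.RelTwistExist.exists_isRelTwist p' chart' hP' 1
  have hva : RelProj.IsRelVeryAmple f ((Scheme.Modules.pullback (j ≫ h)).obj O1) :=
    ⟨ProjMor.degOne 𝒮, ProjMor.isQCoh_degOne 𝒮, 𝒯, jj, hsym, P', p', chart', hP', O1, lam, hO1, j ≫ h,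
      inferInstance, by rw [Category.assoc, hover, hj], ⟨Iso.refl _⟩⟩
  exact ⟨inferInstance, inferInstance, _,
    Groth.Agent.Lib.T2H4.VeryAmple.isRelAmple_of_isRelVeryAmple f _ hva⟩

/-- **EGA II 5.5.3 (ii)**: a proper quasi-projective morphism over a quasi-compact quasi-separated base is projective -/
theorem isProjective_of_isProper_of_isQuasiProjective {X Y : Scheme.{u}} [CompactSpace Y] [QuasiSeparatedSpace Y]
    (f : X ⟶ Y) [IsProper f] (hf : RelProj.IsQuasiProjective f) : RelProj.IsProjective f := by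
  obtain ⟨𝒮, P, p, chart, j, h1, h2, h3, h5, h6, h7⟩ := exists_openImmersion_of_isQuasiProjective f hf
  haveI : IsProper p := Groth.Agent.Lib.T2H6.ProjProper.isProper_of_isRelProj 𝒮 p chart h3 h1 h2
  haveI : IsProper (j ≫ p) := by rw [h7]; infer_instance
  haveI : IsProper j := IsProper.of_comp j p
  have hcl : IsClosed (Set.range j.base) := j.isClosedMap.isClosed_range
  have hsurj : Function.Surjective j.base := by
    rw [← Set.range_eq_univ, ← hcl.closure_eq]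
    exact h6.closure_eq
  haveI : Surjective j := ⟨hsurj⟩
  haveI : IsIso j := IsOpenImmersion.isIso j
  exact ⟨𝒮, P, p, chart, asIso j, h1, h2, h3, h7⟩

end Groth.Agent.Lib.T2H4.QProj
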