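import Groth.Agent.Lib.T2H6ProjProper
import Groth.Agent.Lib.Helper2RelTwistAmpleB
import Groth.Agent.Lib.Helper2RelTwistExist
import Groth.Agent.Lib.Helper2RelTwistGen

/-!
# helper6 (team 2): projective morphisms (`RelProj.IsProjective`) are quasi-projective
-/

set_option autoImplicit false
set_option linter.unusedSectionVars false
universe u

open CategoryTheory CategoryTheory.Limits AlgebraicGeometry TopologicalSpace Opposite
open scoped HomogeneousIdeal

namespace Groth.Agent.Lib.T2H6.ProjQProj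

open RelProj

variable {S P : Scheme.{u}} (𝒮 : RelProj.QCGrAlg S) (p : P ⟶ S)
  (chart : ∀ (U : S.Opens) (hU : IsAffineOpen U), ((p ⁻¹ᵁ U : P.Opens) : Scheme.{u}) ≅ Proj (𝒮.deg U hU))

/-- `O(1)` on the relative `Proj` of a graded algebra generated in degree one with degree-one part of finite type
is invertible and relatively ample. -/
theorem exists_isRelAmple_of_isRelProj (hp : RelProj.IsRelProj 𝒮 p chart) (hgen : 𝒮.IsGenDegOne)
    (hft : 𝒮.IsFTDeg 1) : ∃ L : P.Modules, PicF.IsInvertible L ∧ RelAmple.IsRelAmple p L := by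
  obtain ⟨L, lam, hL⟩ := Groth.Agent.Lib.Helper2.RelTwistExist.exists_isRelTwist p chart hp ((1 : ℕ) : ℤ)
  have hcov : ∀ (V : S.Opens) (hV : IsAffineOpen V) (y : ProjectiveSpectrum (𝒮.deg V hV)),
      ∃ g ∈ 𝒮.deg V hV 1, g ∉ y.asHomogeneousIdeal := fun V hV y =>
    Groth.Agent.Lib.Helper2.RelTwistGen.exists_degOne_not_mem_of_gen (𝒮.deg V hV) (hgen V hV) y
  have hinv : PicF.IsInvertible L :=
    Groth.Agent.Lib.Helper2.RelTwistAmpleB.isInvertible_of_cover p chart 1 L lam hL hcov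
  haveI : IsProper p := Groth.Agent.Lib.T2H6.ProjProper.isProper_of_isRelProj 𝒮 p chart hp hgen hft
  refine ⟨L, hinv, inferInstance, fun V => ?_⟩
  have hc : IsCompact ((p ⁻¹ᵁ V.1 : P.Opens) : Set P) :=
    QuasiCompact.isCompact_preimage (f := p) _ V.1.2 V.2.isCompact
  haveI : CompactSpace ((p ⁻¹ᵁ V.1 : P.Opens) : Scheme.{u}) := isCompact_iff_compactSpace.1 hc
  haveI : CompactSpace (Proj (𝒮.deg V.1 V.2)) :=
    QuasiCompact.compactSpace_of_compactSpace (chart V.1 V.2).inv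
  exact Groth.Agent.Lib.Helper2.RelTwistAmpleB.isAmple_restrict_preimage p chart L V.1 V.2
    (Groth.Agent.Lib.Helper2.RelTwistAmple.isAmple_restrict_emb p chart 1 L lam hL Nat.one_pos hinv V.1 V.2
      (hcov V.1 V.2))

end Groth.Agent.Lib.T2H6.ProjQProj

namespace Groth.Agent.Lib.T2H6.ProjQProj

open Groth.Agent.Lib.Helper23.RestrJ

/-- relative ampleness is invariant under isomorphisms of the source. -/
theorem isRelAmple_of_iso {X P S : Scheme.{u}} (e : X ⟶ P) [IsIso e] (p : P ⟶ S) (L : P.Modules)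
    (hL : RelAmple.IsRelAmple p L) : RelAmple.IsRelAmple (e ≫ p) (L.restrict e) := by
  haveI := hL.1
  refine ⟨inferInstance, fun V => ?_⟩
  have h1 := hL.2 V
  change CohB1.IsAmple ((L.restrict e).restrict (e ⁻¹ᵁ (p ⁻¹ᵁ V.1)).ι)
  have heq : (e ⁻¹ᵁ (p ⁻¹ᵁ V.1)).ι ≫ e = (e ∣_ (p ⁻¹ᵁ V.1)) ≫ (p ⁻¹ᵁ V.1).ι :=
    (morphismRestrict_ι e (p ⁻¹ᵁ V.1)).symm
  rw [isAmple_restrict_comp_iff, isAmple_restrict_iff_of_eq L heq]
  have h2 : CohB1.IsAmple ((L.restrict (p ⁻¹ᵁ V.1).ι).restrict (e ∣_ (p ⁻¹ᵁ V.1))) :=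
    (isAmple_restrict_iff_of_isIso _ _).2 h1
  exact (isAmple_restrict_comp_iff L _ _).1 h2

/-- **projective morphisms are quasi-projective.** -/
theorem isQuasiProjective_of_isProjective {X S : Scheme.{u}} (f : X ⟶ S) (hf : RelProj.IsProjective f) :
    RelProj.IsQuasiProjective f := by
  have hprop := Groth.Agent.Lib.T2H6.ProjProper.isProper_of_isProjective f hf
  obtain ⟨𝒮, P, p, chart, e, hgen, hft, hp, rfl⟩ := hf
  obtain ⟨L, -, hL⟩ := exists_isRelAmple_of_isRelProj 𝒮 p chart hp hgen hft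
  exact ⟨inferInstance, inferInstance, L.restrict e.hom, isRelAmple_of_iso e.hom p L hL⟩

end Groth.Agent.Lib.T2H6.ProjQProj
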