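import Mathlib
import Groth.Prelude.Def_RelProj4
import Groth.Agent.Lib.T2H4RLBridgeBD
import Groth.Agent.Lib.T2H6ProjQProj
import Groth.Agent.S2331

/-!
# The composite of projective morphisms over a quasi-compact quasi-separated base is projective (helper4)
-/

set_option autoImplicit false
set_option linter.style.haveILetI false
set_option linter.unusedSectionVars false
universe u
open CategoryTheory Limits AlgebraicGeometry TopologicalSpace Opposite

namespace Groth.Agent.Lib.T2H4.QProj

/-- **EGA II 5.5.5 (ii)** -/
theorem isProjective_comp {X Y S : Scheme.{u}} [CompactSpace S] [QuasiSeparatedSpace S]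
    (f : X ⟶ Y) (g : Y ⟶ S) (hf : RelProj.IsProjective f) (hg : RelProj.IsProjective g) :
    RelProj.IsProjective (f ≫ g) := by
  haveI : IsProper f := Groth.Agent.Lib.T2H6.ProjProper.isProper_of_isProjective f hf
  haveI : IsProper g := Groth.Agent.Lib.T2H6.ProjProper.isProper_of_isProjective g hg
  obtain ⟨-, -, L, hL⟩ := Groth.Agent.Lib.T2H6.ProjQProj.isQuasiProjective_of_isProjective f hf
  obtain ⟨-, -, K, hK⟩ := Groth.Agent.Lib.T2H6.ProjQProj.isQuasiProjective_of_isProjective g hg
  obtain ⟨n₀, -, hn⟩ := Groth.Agent.S2331.result f g L K hL hK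
  exact isProjective_of_isProper_of_isQuasiProjective (f ≫ g)
    ⟨inferInstance, inferInstance, _, hn n₀ le_rfl⟩

end Groth.Agent.Lib.T2H4.QProj
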