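import Mathlib
import Groth.Prelude.Def_RelProj4
import Groth.Agent.Lib.T2H4RLBridgeAB
import Groth.Agent.Lib.T2H4RLBridgeR
import Groth.Agent.Lib.T2H4ProjMorB

/-!
# A proper morphism with a very ample module whose direct image is of finite type is projective (helper4)
-/

set_option autoImplicit false
set_option linter.style.haveILetI false
set_option linter.unusedSectionVars false
universe u
open CategoryTheory Limits AlgebraicGeometry TopologicalSpace Opposite

namespace Groth.Agent.Lib.T2H4.QProj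

open Groth.Agent.Lib.T2H4.RLBridge Groth.Agent.Lib.T2H4.GrSym

/-- **EGA II 5.5.4 (ii)** -/
theorem isProjective_of_isProper_of_isRelVeryAmple {X Y : Scheme.{u}} (f : X ⟶ Y) [IsProper f]
    (L : X.Modules) (hL : PicF.IsInvertible L) (hva : RelProj.IsRelVeryAmple f L)
    (hft : CohB1.IsFT ((Scheme.Modules.pushforward f).obj L)) : RelProj.IsProjective f := by
  obtain ⟨hEq, hfr, himm⟩ := framed_pushforward_of_isRelVeryAmple f L hL hva
  obtain ⟨𝒯, k, hk, Q, pQ, chartQ, hQ, O1Q, lamQ, hO1Q⟩ :=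
    exists_projBundle ((Scheme.Modules.pushforward f).obj L) hEq
  obtain ⟨r₀, hF₀⟩ := exists_isFramed_of_frames ((Scheme.Modules.pushforward f).obj L) hEq 𝒯 k hk pQ chartQ hQ
    O1Q lamQ hO1Q f L hL (𝟙 _) hfr
  haveI : IsImmersion r₀ := himm 𝒯 k hk pQ chartQ hQ O1Q lamQ hO1Q r₀ hF₀
  have hcomp : r₀ ≫ pQ = f := hF₀.comp
  haveI : IsSeparated pQ := isSeparated_of_isRelProj' 𝒯 pQ chartQ hQ
  haveI : IsProper (r₀ ≫ pQ) := by rw [hcomp]; infer_instance
  haveI : IsProper r₀ := IsProper.of_comp r₀ pQ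
  haveI : IsClosedImmersion r₀ := IsClosedImmersion.of_isPreimmersion r₀ r₀.isClosedMap.isClosed_range
  exact ProjMor.isProjective_of_isClosedImmersion_projBundle f _ 𝒯 k pQ chartQ r₀ hEq hft hk hQ hcomp

end Groth.Agent.Lib.T2H4.QProj
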