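import Groth.Agent.Lib.Helper13ProjUPb
import Groth.Agent.Lib.T2H6SegreB

/-!
# helper6 (team 2): very ampleness from sections

`exists_mor_iso'` : the morphism to `Proj` of a symmetric algebra attached to generating sections of an invertible
module, with its chart data, the isomorphism `r^* O(1) ≅ L`, and `r⁻¹ D₊(ι m) = X_{v m}`.
`isImmersion_of_cover` : immersion criterion on a family of affine opens of the target covering the image.
-/

set_option autoImplicit false
set_option linter.unusedSectionVars false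
universe u

open CategoryTheory CategoryTheory.Limits AlgebraicGeometry TopologicalSpace Opposite
  HomogeneousLocalization

namespace Groth.Agent.Lib.T2H6.VAmple

open Groth.Agent.Helper13ProjUP
open Groth.Agent.Lib.Helper27GrTildeSect Groth.Agent.Helper13GrTildeFrac
  Groth.Agent.Helper13Dehom Groth.Agent.Helper13AffMor Groth.Agent.Helper13SymGr
open Groth.Agent.Lib.Helper23.SecTw Groth.Agent.Lib.Helper6 Groth.Agent.Lib.Helper23.GenLocus
open Groth.Agent.Lib.Helper23.PB Groth.Agent.Helper13PullbackUnit Groth.Agent.Lib.Helper23.Extend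

variable {R A : Type u} [CommRing R] [CommRing A] [Algebra R A] (𝒜 : ℕ → Submodule R A)
  [GradedAlgebra 𝒜]
variable {M : Type u} [AddCommGroup M] [Module R M] (ι : M →ₗ[R] A)
variable {X : Scheme.{u}} (q : X ⟶ Spec (CommRingCat.of R)) (L : X.Modules)
  (v : M →+ ProjUP.Γm L)

theorem exists_mor_iso' (hι : ∀ m, ι m ∈ 𝒜 1) (hsym : IsSymmetricAlgebra ι) (hL : PicF.IsInvertible L)
    (hv : ∀ (c : R) (m : M), v (c • m) = ProjUP.toGlobal q c • v m) (hgen : ProjUP.GeneratedBy L v) :
    ∃ (r : X ⟶ Proj 𝒜) (hle : ∀ m, XL L v m ≤ r ⁻¹ᵁ Proj.basicOpen 𝒜 (ι m)),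
      r ≫ toBase 𝒜 = q ∧
      (∀ m m', (r.appLE (Proj.basicOpen 𝒜 (ι m)) (XL L v m) (hle m)).hom (dehom (hι m) (ι m')) =
        cf L v m m') ∧
      (∀ m, r ⁻¹ᵁ Proj.basicOpen 𝒜 (ι m) ≤ XL L v m) ∧
      ∃ τ : (Scheme.Modules.pullback r).obj (O1 𝒜) ≅ L,
        ∀ m, τ.hom.app ⊤ (unitSec r (O1 𝒜) (le_top : (⊤ : X.Opens) ≤ r ⁻¹ᵁ ⊤) (gsec 𝒜 1 ⊤ (hι m))) = v m := by
  obtain ⟨r, hle, hrq, hcf⟩ := exists_mor 𝒜 ι q L v hι hsym hL hv hgen
  have hcov : ∀ x : X, ∃ m, x ∈ XL L v m := fun x => exists_mem_genLocus L hL v hgen x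
  set P := (Scheme.Modules.pullback r).obj (O1 𝒜) with hP
  obtain ⟨Φ, hΦ⟩ := exists_iso_of_frames P L (fun m => XL L v m) hcov
    (fun m => pcoord r (hι m) (hle m)) (fun m => eL L v m)
    (fun m => isGen_pcoord r (hι m) (hle m)) (fun m => isGen_eL L v m)
    (fun m m' => by
      refine cocycle_of_transition (isGen_pcoord r (hι m') (hle m'))
        (resf inf_le_right (cf L v m' m)) ?_ ?_
      · rw [res_pcoord, res_pcoord]
        have h1 := unitSec_gsec r (hι m') (hι m)
          ((inf_le_right : XL L v m ⊓ XL L v m' ≤ XL L v m').trans (hle m'))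
          ((inf_le_left : XL L v m ⊓ XL L v m' ≤ XL L v m).trans (hle m))
        change pcoord r (hι m) _ = _
        unfold pcoord at h1 ⊢
        rw [h1]
        congr 1
        rw [← hcf m' m]
        have h3 := r.appLE_map (hle m') (homOfLE (inf_le_right : XL L v m ⊓ XL L v m' ≤ XL L v m')).op
        have h4 := congrArg (fun φ => φ.hom (dehom (hι m') (ι m))) h3
        exact h4.symm
      · rw [← res_smul, cf_spec, res_res, res_eL])
  have hτ : ∀ m, Φ.hom.app ⊤ (unitSec r (O1 𝒜) (le_top : (⊤ : X.Opens) ≤ r ⁻¹ᵁ ⊤)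
      (gsec 𝒜 1 ⊤ (hι m))) = v m := by
    intro m
    refine sec_ext_cover L (fun m => XL L v m) hcov _ _ (fun m' => ?_)
    obtain ⟨σ, hσ⟩ : ∃ σ : Γ(P, ⊤), σ = unitSec r (O1 𝒜) (le_top : (⊤ : X.Opens) ≤ r ⁻¹ᵁ ⊤)
      (gsec 𝒜 1 ⊤ (hι m)) := ⟨_, rfl⟩
    rw [← hσ]
    have key : res L (le_top : XL L v m' ≤ ⊤) (Φ.hom.app ⊤ σ) =
        Φ.hom.app (XL L v m') (res P le_top σ) := (app_map Φ.hom (homOfLE le_top) σ).symm
    change res L (le_top : XL L v m' ≤ ⊤) (Φ.hom.app ⊤ σ) = _
    rw [key]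
    have h2 := res_unitSec r (O1 𝒜) (le_top : (⊤ : X.Opens) ≤ r ⁻¹ᵁ ⊤)
      (le_top : XL L v m' ≤ r ⁻¹ᵁ ⊤) le_rfl le_top (gsec 𝒜 1 ⊤ (hι m))
    rw [res_self] at h2
    have h2' : res P (le_top : XL L v m' ≤ ⊤) σ =
        cf L v m' m • pcoord r (hι m') (hle m') := by
      rw [hσ]
      change res ((Scheme.Modules.pullback r).obj (O1 𝒜)) _ _ = _
      rw [h2, unitSec_gsec r (hι m') (hι m) (hle m'), hcf]
    rw [h2']
    have h3 := hΦ m' (XL L v m') le_rfl (cf L v m' m)
    rw [res_self, res_self] at h3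
    rw [h3, cf_spec]
  refine ⟨r, hle, hrq, hcf, fun m => ?_, Φ, hτ⟩
  -- the preimage of `D₊(ι m)` is contained in `X_{v m}`
  set V := r ⁻¹ᵁ Proj.basicOpen 𝒜 (ι m) with hV
  have hg : IsGen P V (pcoord r (hι m) (le_refl V)) := isGen_pcoord r (hι m) le_rfl
  have hg2 := isGen_of_iso Φ hg
  have h5 : Φ.hom.app V (pcoord r (hι m) (le_refl V)) = sv (secHom L (v m)) V := by
    rw [sv_secHom, ← hτ m]
    have h6 := res_unitSec r (O1 𝒜) (le_top : (⊤ : X.Opens) ≤ r ⁻¹ᵁ ⊤)
      (le_refl V) (le_top : Proj.basicOpen 𝒜 (ι m) ≤ ⊤) le_top (gsec 𝒜 1 ⊤ (hι m))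
    rw [res_gsec] at h6
    unfold pcoord
    rw [← h6]
    exact app_map Φ.hom (homOfLE le_top) _
  rw [h5] at hg2
  exact le_genLocus_of_isGen L _ V hg2


/-- immersion criterion on a family of affine opens of the target covering the image -/
theorem isImmersion_of_cover {X Y : Scheme.{u}} (f : X ⟶ Y) {κ : Type*} (U : κ → Y.Opens)
    (hU : ∀ x : X, ∃ i, f x ∈ U i) (hUa : ∀ i, IsAffineOpen (U i))
    (hfa : ∀ i, IsAffineOpen (f ⁻¹ᵁ U i)) (hs : ∀ i, Function.Surjective (f.app (U i)).hom) :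
    IsImmersion f := by
  set W : Y.Opens := ⨆ i, U i with hW
  have hrange : Set.range f ⊆ Set.range W.ι := by
    rintro _ ⟨x, rfl⟩
    obtain ⟨i, hi⟩ := hU x
    rw [Scheme.Opens.range_ι]
    exact Opens.mem_iSup.2 ⟨i, hi⟩
  set g := IsOpenImmersion.lift W.ι f hrange with hg
  have hfac : g ≫ W.ι = f := IsOpenImmersion.lift_fac _ _ _
  have hUW : ∀ i, U i ≤ W.ι.opensRange := by
    intro i
    rw [Scheme.Opens.opensRange_ι]
    exact le_iSup U i
  have hpre : ∀ i, g ⁻¹ᵁ (W.ι ⁻¹ᵁ U i) = f ⁻¹ᵁ U i := by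
    intro i
    rw [← Scheme.Hom.comp_preimage, hfac]
  haveI : IsClosedImmersion g := by
    refine Groth.Agent.Lib.T2H6.SegreB.isClosedImmersion_of_cover g (fun i => W.ι ⁻¹ᵁ U i) ?_ ?_ ?_ ?_
    · intro w
      obtain ⟨i, hi⟩ := Opens.mem_iSup.1 w.2
      exact ⟨i, hi⟩
    · intro i
      exact (hUa i).preimage_of_isOpenImmersion W.ι (hUW i)
    · intro i
      rw [hpre i]
      exact hfa i
    · intro i y
      -- transport along the equality of opens
      have e := hpre i
      obtain ⟨z, hz⟩ := hs i (X.presheaf.map (eqToHom e.symm).op y)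
      refine ⟨(W.ι.app (U i)).hom z, ?_⟩
      have h1 : f.app (U i) = (W.ι.app (U i) ≫ g.app (W.ι ⁻¹ᵁ U i)) ≫
          X.presheaf.map (eqToHom e.symm).op := by
        rw [← Scheme.Hom.comp_app]
        exact Scheme.Hom.congr_app hfac.symm (U i)
      rw [h1] at hz
      have h2 : X.presheaf.map (eqToHom e.symm).op
          ((g.app (W.ι ⁻¹ᵁ U i)).hom ((W.ι.app (U i)).hom z)) =
          X.presheaf.map (eqToHom e.symm).op y := hz
      have hinj : Function.Injective (X.presheaf.map (eqToHom e.symm).op) :=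
        (ConcreteCategory.bijective_of_isIso _).1
      exact hinj h2
  rw [← hfac]
  infer_instance



section Gen
variable {X : Scheme.{u}}

/-- global sections whose generating loci cover generate the module. -/
theorem generatedBy_of_cover (L : X.Modules) {κ : Type*} (s : κ → ProjUP.Γm L)
    (h : ∀ x : X, ∃ i, x ∈ CohB1.genLocus L (secHom L (s i))) : ProjUP.GeneratedBy L s := by
  intro x
  obtain ⟨i, hi⟩ := h x
  rw [eq_top_iff]
  intro z _
  obtain ⟨W, hxW, m, rfl⟩ := L.presheaf.exists_germ_eq z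
  set U := CohB1.genLocus L (secHom L (s i)) with hU
  have hgen : IsGen L U (res L le_top (s i)) := by
    have := isGen_sv_genLocus L (secHom L (s i))
    rw [sv_secHom] at this
    exact this
  obtain ⟨c, hc⟩ := (hgen (W ⊓ U) inf_le_right).2 (res L inf_le_left m)
  have hx : x ∈ W ⊓ U := ⟨hxW, hi⟩
  have h1 : L.presheaf.germ W x hxW m = L.presheaf.germ (W ⊓ U) x hx (res L inf_le_left m) :=
    (TopCat.Presheaf.germ_res_apply L.presheaf (homOfLE (inf_le_left : W ⊓ U ≤ W)) x hx m).symm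
  have h2 : (L.presheaf.germ ⊤ x trivial).hom (s i) =
      L.presheaf.germ (W ⊓ U) x hx (res L le_top (s i)) :=
    (TopCat.Presheaf.germ_res_apply L.presheaf (homOfLE (le_top : W ⊓ U ≤ ⊤)) x hx (s i)).symm
  have h3 : res L (inf_le_right : W ⊓ U ≤ U) (res L le_top (s i)) = res L le_top (s i) := res_res _ _ _ _
  rw [h1, ← hc]
  change L.presheaf.germ (W ⊓ U) x hx (c • res L inf_le_right (res L le_top (s i))) ∈ _
  rw [h3, Groth.Agent.Lib.Helper2.QCoh.germ_smul, ← h2]
  exact Submodule.smul_mem _ _ (Submodule.subset_span ⟨i, rfl⟩)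

end Gen

section Crit

open Groth.Agent.Lib.T2H6.SegreB Groth.Agent.Lib.T2H6.Segre

variable {X S : Scheme.{u}} (q : X ⟶ S) (L : X.Modules)

/-- the chart opens of `P^n_S` over an open `V` of `S`. -/
noncomputable abbrev UU (n : ℕ) (S : Scheme.{u}) (m : Fin (n + 1)) (V : S.Opens) :
    (CohB1.ProjSpaceOver n S).Opens :=
  OO (CohB1.ProjSpace.toSpec n (ULift.{u} ℤ)) (specULiftZIsTerminal.from S)
    (Proj.basicOpen (CohB1.polyGrading n (ULift.{u} ℤ)) (MvPolynomial.X m)) V

/-- **Criterion for very ampleness** (`P^n` form), from generating sections: for a subfamily `I` of the sections whose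
generating loci are affine, cover `X` and map into affine opens `V m` of the base, it suffices that the functions on
`X_{s m}` are generated by the ratios `s m' / s m` and the functions on `V m`. -/
theorem isRelVeryAmplePn_of_sections (hL : PicF.IsInvertible L) (n : ℕ) (s : Fin (n + 1) → ProjUP.Γm L)
    (hs : ProjUP.GeneratedBy L s) (I : Set (Fin (n + 1))) (V : Fin (n + 1) → S.Opens)
    (hV : ∀ m ∈ I, IsAffineOpen (V m))
    (hqV : ∀ m ∈ I, CohB1.genLocus L (secHom L (s m)) ≤ q ⁻¹ᵁ V m)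
    (hcov : ∀ x : X, ∃ m ∈ I, x ∈ CohB1.genLocus L (secHom L (s m)))
    (haff : ∀ m ∈ I, IsAffineOpen (CohB1.genLocus L (secHom L (s m))))
    (hgen : ∀ (m : Fin (n + 1)) (hm : m ∈ I), ∀ T : Subring Γ(X, CohB1.genLocus L (secHom L (s m))),
      (∀ m', ∃ a ∈ T, a • res L (le_top : CohB1.genLocus L (secHom L (s m)) ≤ ⊤) (s m) =
        res L (le_top : CohB1.genLocus L (secHom L (s m)) ≤ ⊤) (s m')) →
      (∀ c : Γ(S, V m), pb q (V m) (CohB1.genLocus L (secHom L (s m))) (hqV m hm) c ∈ T) → T = ⊤) :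
    RelAmple.IsRelVeryAmplePn q L := by
  classical
  let R := ULift.{u} ℤ
  let q₀ : X ⟶ Spec (CommRingCat.of R) := specULiftZIsTerminal.from X
  let b : Module.Basis (Fin (n + 1)) R (Fin (n + 1) → R) := Pi.basisFun R (Fin (n + 1))
  let ι : (Fin (n + 1) → R) →ₗ[R] MvPolynomial (Fin (n + 1)) R :=
    Module.Basis.constr b R (MvPolynomial.X : Fin (n + 1) → MvPolynomial (Fin (n + 1)) R)
  have hsym : IsSymmetricAlgebra ι := SymmetricAlgebra.IsSymmetricAlgebra.mvPolynomial (Fin (n + 1)) b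
  have hιb : ∀ i, ι (Pi.single i 1) = MvPolynomial.X i := by
    intro i
    have := Module.Basis.constr_basis b R (MvPolynomial.X : Fin (n + 1) → MvPolynomial (Fin (n + 1)) R) i
    rwa [Pi.basisFun_apply] at this
  have hι : ∀ m, ι m ∈ CohB1.polyGrading n R 1 := by
    intro m
    have hm : m = ∑ i, m i • (Pi.single i (1 : R) : Fin (n + 1) → R) := by
      ext j
      simp [Finset.sum_apply, Pi.single_apply]
    rw [hm, map_sum]
    refine Submodule.sum_mem _ (fun i _ => ?_)
    rw [map_smul, hιb]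
    exact Submodule.smul_mem _ _ (MvPolynomial.isHomogeneous_X R i)
  let v : (Fin (n + 1) → R) →+ ProjUP.Γm L :=
    { toFun := fun m => ∑ i, ProjUP.toGlobal q₀ (m i) • s i
      map_zero' := by simp
      map_add' := fun m m' => by
        simp only [Pi.add_apply, map_add, add_smul, Finset.sum_add_distrib] }
  have hv : ∀ (c : R) (m : Fin (n + 1) → R), v (c • m) = ProjUP.toGlobal q₀ c • v m := by
    intro c m
    change ∑ i, ProjUP.toGlobal q₀ ((c • m) i) • s i = ProjUP.toGlobal q₀ c • ∑ i, ProjUP.toGlobal q₀ (m i) • s i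
    rw [Finset.smul_sum]
    refine Finset.sum_congr rfl (fun i _ => ?_)
    rw [Pi.smul_apply, smul_eq_mul, map_mul, mul_smul]
  have hvb : ∀ i, v (Pi.single i 1) = s i := by
    intro i
    change ∑ j, ProjUP.toGlobal q₀ ((Pi.single i (1 : R) : Fin (n + 1) → R) j) • s j = s i
    rw [Finset.sum_eq_single i]
    · rw [Pi.single_eq_same, map_one, one_smul]
    · intro j _ hj
      rw [Pi.single_eq_of_ne hj, map_zero, zero_smul]
    · intro h
      exact absurd (Finset.mem_univ i) h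
  have hgenv : ProjUP.GeneratedBy L v := by
    intro x
    rw [eq_top_iff, ← hs x]
    apply Submodule.span_mono
    rintro _ ⟨i, rfl⟩
    exact ⟨Pi.single i 1, by simp only [hvb]⟩
  obtain ⟨r, hle, hrq, hcf, hpre, τ, hτ⟩ :=
    exists_mor_iso' (CohB1.polyGrading n R) ι q₀ L v hι hsym hL hv hgenv
  -- rewrite the hypotheses in terms of `v`
  have hcov' : ∀ x : X, ∃ m ∈ I, x ∈ XL L v (Pi.single m 1) := by
    intro x
    obtain ⟨m, hm, hx⟩ := hcov x
    refine ⟨m, hm, ?_⟩
    unfold XL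
    rw [hvb]
    exact hx
  have haff' : ∀ m ∈ I, IsAffineOpen (XL L v (Pi.single m 1)) := by
    intro m hm
    unfold XL
    rw [hvb]
    exact haff m hm
  have hqV' : ∀ m ∈ I, XL L v (Pi.single m 1) ≤ q ⁻¹ᵁ V m := by
    intro m hm
    unfold XL
    rw [hvb]
    exact hqV m hm
  have hgen' : ∀ (m : Fin (n + 1)) (hm : m ∈ I), ∀ T : Subring Γ(X, XL L v (Pi.single m 1)),
      (∀ m', ∃ a ∈ T, a • res L (le_top : XL L v (Pi.single m 1) ≤ ⊤) (v (Pi.single m 1)) =
        res L (le_top : XL L v (Pi.single m 1) ≤ ⊤) (v (Pi.single m' 1))) →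
      (∀ c : Γ(S, V m), pb q (V m) (XL L v (Pi.single m 1)) (hqV' m hm) c ∈ T) → T = ⊤ := by
    intro m hm
    have h := hgen m hm
    have hq := hqV m hm
    revert h
    generalize_proofs pf1 pf2 pf3
    revert pf1 pf2 pf3
    unfold XL
    rw [hvb m]
    intro pf1 pf2 pf3 h T h1 h2
    refine h T (fun m' => ?_) h2
    obtain ⟨a, ha, hab⟩ := h1 m'
    exact ⟨a, ha, hab.trans (congrArg _ (hvb m'))⟩
  -- the morphism to `P^n_S`
  have hcond : r ≫ CohB1.ProjSpace.toSpec n R = q ≫ specULiftZIsTerminal.from S :=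
    specULiftZIsTerminal.hom_ext _ _
  let i : X ⟶ CohB1.ProjSpaceOver n S := pullback.lift r q hcond
  have hi1 : i ≫ pullback.fst _ _ = r := pullback.lift_fst _ _ _
  have hi2 : i ≫ pullback.snd _ _ = q := pullback.lift_snd _ _ _
  have hD : ∀ m : Fin (n + 1), Proj.basicOpen (CohB1.polyGrading n R) (ι (Pi.single m 1)) =
      Proj.basicOpen (CohB1.polyGrading n R) (MvPolynomial.X m) := fun m => by rw [hιb]
  have hpreU : ∀ m ∈ I, i ⁻¹ᵁ UU n S m (V m) = XL L v (Pi.single m 1) := by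
    intro m hm
    show i ⁻¹ᵁ (pullback.fst (CohB1.ProjSpace.toSpec n R) (specULiftZIsTerminal.from S) ⁻¹ᵁ
      Proj.basicOpen (CohB1.polyGrading n R) (MvPolynomial.X m) ⊓
      pullback.snd (CohB1.ProjSpace.toSpec n R) (specULiftZIsTerminal.from S) ⁻¹ᵁ V m) = _
    rw [Scheme.Hom.preimage_inf, ← Scheme.Hom.comp_preimage, ← Scheme.Hom.comp_preimage, hi1, hi2, ← hD m]
    have h1 : r ⁻¹ᵁ Proj.basicOpen (CohB1.polyGrading n R) (ι (Pi.single m 1)) = XL L v (Pi.single m 1) :=
      le_antisymm (hpre _) (hle _)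
    exact (congrArg (· ⊓ q ⁻¹ᵁ V m) h1).trans (inf_eq_left.2 (hqV' m hm))
  refine ⟨n, i, ?_, hi2, ?_⟩
  · refine isImmersion_of_cover i (fun m : I => UU n S m.1 (V m.1)) ?_ ?_ ?_ ?_
    · intro x
      obtain ⟨m, hm, hx⟩ := hcov' x
      refine ⟨⟨m, hm⟩, ?_⟩
      have : x ∈ i ⁻¹ᵁ UU n S m (V m) := by rw [hpreU m hm]; exact hx
      exact this
    · intro m
      exact isAffineOpen_OO _ _ (isAffineOpen_basicOpen (MvPolynomial.isHomogeneous_X R m.1))
        (hV m.1 m.2)
    · intro m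
      rw [hpreU m.1 m.2]
      exact haff' m.1 m.2
    · rintro ⟨m, hm⟩
      have hleU : XL L v (Pi.single m 1) ≤ i ⁻¹ᵁ UU n S m (V m) := (hpreU m hm).ge
      have hsurj : Function.Surjective (pb i (UU n S m (V m)) (XL L v (Pi.single m 1)) hleU) := by
        rw [← RingHom.range_eq_top]
        refine hgen' m hm _ ?_ ?_
        · intro m'
          refine ⟨cf L v (Pi.single m 1) (Pi.single m' 1), ?_, cf_spec L v _ _⟩
          rw [← hcf]
          have hle1 : UU n S m (V m) ≤
              pullback.fst (CohB1.ProjSpace.toSpec n R) (specULiftZIsTerminal.from S) ⁻¹ᵁ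
              Proj.basicOpen (CohB1.polyGrading n R) (ι (Pi.single m 1)) := by
            rw [hD]; exact inf_le_left
          have e1 := Scheme.Hom.appLE_comp_appLE i (pullback.fst (CohB1.ProjSpace.toSpec n R)
            (specULiftZIsTerminal.from S)) _ (UU n S m (V m)) (XL L v (Pi.single m 1)) hle1 hleU
          have e2 := appLE_congr_hom hi1 (Proj.basicOpen (CohB1.polyGrading n R) (ι (Pi.single m 1)))
            (XL L v (Pi.single m 1)) (by rw [hi1]; exact hle _)
          rw [e2] at e1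
          refine ⟨(pullback.fst (CohB1.ProjSpace.toSpec n R) (specULiftZIsTerminal.from S)).appLE _
            (UU n S m (V m)) hle1 (dehom (hι (Pi.single m 1)) (ι (Pi.single m' 1))), ?_⟩
          exact congrArg (fun φ => φ.hom (dehom (hι (Pi.single m 1)) (ι (Pi.single m' 1)))) e1
        · intro c
          have e1 := Scheme.Hom.appLE_comp_appLE i (pullback.snd (CohB1.ProjSpace.toSpec n R)
            (specULiftZIsTerminal.from S)) (V m) (UU n S m (V m)) (XL L v (Pi.single m 1)) inf_le_right hleU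
          have e2 := appLE_congr_hom hi2 (V m) (XL L v (Pi.single m 1))
            (by rw [hi2]; exact hqV' m hm)
          rw [e2] at e1
          refine ⟨(pullback.snd (CohB1.ProjSpace.toSpec n R) (specULiftZIsTerminal.from S)).appLE (V m)
            (UU n S m (V m)) inf_le_right c, ?_⟩
          exact congrArg (fun φ => φ.hom c) e1
      have key : ∀ (O : X.Opens) (h : O = i ⁻¹ᵁ UU n S m (V m)),
          Function.Surjective (pb i (UU n S m (V m)) O h.le) →
          Function.Surjective (i.app (UU n S m (V m))).hom := by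
        rintro O rfl hs
        rw [Scheme.Hom.app_eq_appLE]
        exact hs
      exact key _ (hpreU m hm).symm hsurj
  · exact ⟨τ.symm ≪≫ ((Scheme.Modules.pullbackCongr hi1).app _).symm ≪≫
      ((Scheme.Modules.pullbackComp i (pullback.fst _ _)).app _).symm⟩


/-- the criterion for an arbitrary finite index type. -/
theorem isRelVeryAmplePn_of_sections' (hL : PicF.IsInvertible L) {κ : Type*} [Finite κ] (s : κ → ProjUP.Γm L)
    (I : Set κ) (V : κ → S.Opens)
    (hV : ∀ m ∈ I, IsAffineOpen (V m))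
    (hqV : ∀ m ∈ I, CohB1.genLocus L (secHom L (s m)) ≤ q ⁻¹ᵁ V m)
    (hcov : ∀ x : X, ∃ m ∈ I, x ∈ CohB1.genLocus L (secHom L (s m)))
    (haff : ∀ m ∈ I, IsAffineOpen (CohB1.genLocus L (secHom L (s m))))
    (hgen : ∀ (m : κ) (hm : m ∈ I), ∀ T : Subring Γ(X, CohB1.genLocus L (secHom L (s m))),
      (∀ m', ∃ a ∈ T, a • res L (le_top : CohB1.genLocus L (secHom L (s m)) ≤ ⊤) (s m) =
        res L (le_top : CohB1.genLocus L (secHom L (s m)) ≤ ⊤) (s m')) →
      (∀ c : Γ(S, V m), pb q (V m) (CohB1.genLocus L (secHom L (s m))) (hqV m hm) c ∈ T) → T = ⊤) :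
    RelAmple.IsRelVeryAmplePn q L := by
  rcases isEmpty_or_nonempty κ with hκ | hκ
  · have hX : IsEmpty X := ⟨fun x => by obtain ⟨m, -, -⟩ := hcov x; exact hκ.false m⟩
    refine isRelVeryAmplePn_of_sections q L hL 0 (fun _ => 0) (fun x => (hX.false x).elim) ∅ (fun _ => ⊤)
      (fun m hm => (Set.notMem_empty m hm).elim) (fun m hm => (Set.notMem_empty m hm).elim)
      (fun x => (hX.false x).elim) (fun m hm => (Set.notMem_empty m hm).elim)
      (fun m hm => (Set.notMem_empty m hm).elim)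
  · haveI := Fintype.ofFinite κ
    obtain ⟨n, hn⟩ : ∃ n, Fintype.card κ = n + 1 :=
      Nat.exists_eq_succ_of_ne_zero Fintype.card_ne_zero
    let e : κ ≃ Fin (n + 1) := (Fintype.equivFin κ).trans (finCongr hn)
    have hs : ProjUP.GeneratedBy L (fun m : Fin (n + 1) => s (e.symm m)) := by
      refine generatedBy_of_cover L _ (fun x => ?_)
      obtain ⟨m, -, hx⟩ := hcov x
      exact ⟨e m, by rw [e.symm_apply_apply]; exact hx⟩
    refine isRelVeryAmplePn_of_sections q L hL n (fun m => s (e.symm m)) hs {m | e.symm m ∈ I}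
      (fun m => V (e.symm m)) (fun m hm => hV _ hm) (fun m hm => hqV _ hm) ?_ (fun m hm => haff _ hm) ?_
    · intro x
      obtain ⟨m, hm, hx⟩ := hcov x
      refine ⟨e m, ?_, ?_⟩
      · change e.symm (e m) ∈ I
        rw [e.symm_apply_apply]; exact hm
      · rw [e.symm_apply_apply]; exact hx
    · intro m hm T h1 h2
      refine hgen (e.symm m) hm T (fun k => ?_) h2
      obtain ⟨a, ha, hab⟩ := h1 (e k)
      refine ⟨a, ha, ?_⟩
      rw [e.symm_apply_apply] at hab
      exact hab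

end Crit

end Groth.Agent.Lib.T2H6.VAmple
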