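import Mathlib
import Groth.Prelude.Def_RelProj4
import Groth.Agent.Lib.T2H4RLBridgeQ
import Groth.Agent.Lib.T2H4RLBridgeF
import Groth.Agent.Lib.T2H4ProjMorA
import Groth.Agent.Lib.T2H4RelTwistPowA
import Groth.Agent.Lib.Helper2RelTwistAmpleB
import Groth.Agent.Lib.Helper23SecTw10
import Groth.Agent.Lib.Helper23SecTw7
import Groth.Agent.Lib.T2H6VAmple

/-!
# `O(1)` on `P(E)`, `E` of finite type over an affine base, is very ample in the `P^n` form (helper4)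
-/

set_option autoImplicit false
set_option linter.style.haveILetI false
set_option linter.unusedSectionVars false
universe u
open CategoryTheory Limits AlgebraicGeometry TopologicalSpace Opposite HomogeneousLocalization
open scoped HomogeneousIdeal

namespace Groth.Agent.Lib.T2H4.QProj

open Groth.Agent.Lib.Helper2GrModSect
open Groth.Agent.Lib.Helper2.RelTildeQCoh Groth.Agent.Lib.Helper23.SecTw Groth.Agent.Lib.Helper6
  Groth.Agent.Lib.Helper2.RelTwistGen Groth.Agent.Lib.Helper2.RelTwistTensor RelProj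
  Groth.Agent.Lib.T2H4.GrSym Groth.Agent.Lib.T2H4.RLBridge

variable {Y Q : Scheme.{u}} (E₀ : Y.Modules) (hE₀ : Coh.IsQCoh E₀)
  (𝒯 : RelProj.QCGrAlg Y) (k : E₀ ⟶ 𝒯.toModule) (hk : RelProj.IsGrSymAlg E₀ 𝒯 k) (pQ : Q ⟶ Y)
  (chartQ : ∀ (U : Y.Opens) (hU : IsAffineOpen U), ((pQ ⁻¹ᵁ U : Q.Opens) : Scheme.{u}) ≅ Proj (𝒯.deg U hU))
  (hQ : RelProj.IsRelProj 𝒯 pQ chartQ) (O1Q : Q.Modules)
  (lamQ : ∀ (U : Y.Opens) (hU : IsAffineOpen U),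
    O1Q ⟶ (Scheme.Modules.pushforward (RelProj.emb pQ chartQ U hU)).obj (GrTwist.twist (𝒯.deg U hU) 1))
  (hO1Q : RelProj.IsRelTwist 𝒯 pQ chartQ 1 O1Q lamQ)

/-- the global canonical section `k(e) / 1` of `O(1)` -/
noncomputable def gsig (U : Y.Opens) (hU : IsAffineOpen U) (hle : (⊤ : Q.Opens) ≤ pQ ⁻¹ᵁ U) (e : Γ(E₀, U)) :
    Γ(O1Q, ⊤) :=
  canonSec pQ chartQ 1 O1Q lamQ hO1Q one_eq U hU ⊤ hle (hk.2 U hU e)

include hE₀ in
/-- the generating locus of the canonical section `k(e)/1` is `D₊(k e)` -/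
theorem genLocus_gsig (U : Y.Opens) (hU : IsAffineOpen U) (hle : (⊤ : Q.Opens) ≤ pQ ⁻¹ᵁ U) (e : Γ(E₀, U)) :
    CohB1.genLocus O1Q (secHom O1Q (gsig E₀ 𝒯 k hk pQ chartQ O1Q lamQ hO1Q U hU hle e)) =
      VF pQ chartQ (idxOf E₀ k hk U hU e) := by
  have hgenD : 𝒯.IsGenDegOne := Groth.Agent.Lib.T2H4.VeryAmple.isGenDegOne_of_isGrSymAlg E₀ hE₀ 𝒯 k hk
  apply le_antisymm
  · intro x hx
    set B := CohB1.genLocus O1Q (secHom O1Q (gsig E₀ 𝒯 k hk pQ chartQ O1Q lamQ hO1Q U hU hle e)) with hB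
    have hBU : B ≤ pQ ⁻¹ᵁ U := le_top.trans hle
    have h1 := isGen_sv_genLocus O1Q (secHom O1Q (gsig E₀ 𝒯 k hk pQ chartQ O1Q lamQ hO1Q U hU hle e))
    rw [sv_secHom] at h1
    unfold gsig at h1
    rw [res_canonSec_le] at h1
    obtain ⟨y, hy⟩ := le_opensRange_emb pQ chartQ U hU (hBU hx)
    have hyB : y ∈ RelProj.emb pQ chartQ U hU ⁻¹ᵁ B := by
      change (RelProj.emb pQ chartQ U hU) y ∈ B
      rw [show (RelProj.emb pQ chartQ U hU) y = x from hy]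
      exact hx
    have hne := not_mem_of_isGen_canonSec pQ chartQ O1Q lamQ hO1Q hgenD U hU B hBU (hk.2 U hU e) h1 y hyB
    exact ⟨y, (ProjectiveSpectrum.mem_basicOpen _ _ y).mpr hne, hy⟩
  · refine le_genLocus_of_isGen O1Q _ _ ?_
    rw [sv_secHom]
    unfold gsig
    rw [res_canonSec_le]
    refine isGen_canonSec pQ chartQ 1 O1Q lamQ hO1Q one_eq U hU _ (VF_le pQ chartQ (idxOf E₀ k hk U hU e))
      (hk.2 U hU e) (fun y => ?_)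
    exact not_mem_of_mem_VF pQ chartQ (idxOf E₀ k hk U hU e) y.1 y.2

include hE₀ hQ in
/-- the generation condition of helper6's criterion for `O(1)` on `P(E)` over an affine base -/
theorem subring_eq_top_of_ratios [IsAffine Y] (Tset : Finset (𝒯.presheaf.obj (op (⊤ : Y.Opens))))
    (hT1 : (↑Tset : Set (𝒯.presheaf.obj (op (⊤ : Y.Opens)))) ⊆ (𝒯.deg ⊤ (isAffineOpen_top Y) 1 : Set _))
    (hspan : ∀ x ∈ 𝒯.deg ⊤ (isAffineOpen_top Y) 1, ∃ c : (𝒯.presheaf.obj (op (⊤ : Y.Opens))) → Γ(Y, ⊤),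
      x = ∑ t ∈ Tset, (𝒯.str.app (op ⊤)).hom (c t) * t)
    (ee : Tset → Γ(E₀, ⊤))
    (hee : ∀ t : Tset, ((k.app ⊤) (ee t) : 𝒯.presheaf.obj (op (⊤ : Y.Opens))) = t.1)
    (hle : (⊤ : Q.Opens) ≤ pQ ⁻¹ᵁ ⊤) (m : Tset)
    (f : 𝒯.presheaf.obj (op (⊤ : Y.Opens))) (hf : f ∈ 𝒯.deg ⊤ (isAffineOpen_top Y) 1)
    (hf0 : f = ((k.app ⊤) (ee m) : 𝒯.presheaf.obj (op (⊤ : Y.Opens))))
    (G : Q.Opens)
    (hG : G = VF pQ chartQ ⟨⟨⊤, isAffineOpen_top Y⟩, ⟨f, hf⟩⟩) (hGle : G ≤ pQ ⁻¹ᵁ ⊤)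
    (T' : Subring Γ(Q, G))
    (h1 : ∀ m' : Tset, ∃ a ∈ T',
      a • res O1Q (le_top : G ≤ ⊤) (gsig E₀ 𝒯 k hk pQ chartQ O1Q lamQ hO1Q ⊤ (isAffineOpen_top Y) hle (ee m)) =
        res O1Q (le_top : G ≤ ⊤) (gsig E₀ 𝒯 k hk pQ chartQ O1Q lamQ hO1Q ⊤ (isAffineOpen_top Y) hle (ee m')))
    (h2 : ∀ c : Γ(Y, ⊤), (pQ.appLE ⊤ G hGle).hom c ∈ T') : T' = ⊤ := by
  classical
  subst hG
  have hTop : IsAffineOpen (⊤ : Y.Opens) := isAffineOpen_top Y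
  let i : Idx 𝒯 := ⟨⟨⊤, hTop⟩, ⟨f, hf⟩⟩
  -- the generator on `D₊(f)`
  have hgen0 : IsGen O1Q (VF pQ chartQ i)
      (canonSec pQ chartQ 1 O1Q lamQ hO1Q one_eq ⊤ hTop (VF pQ chartQ i) (VF_le pQ chartQ i) hf) :=
    isGen_canonSec pQ chartQ 1 O1Q lamQ hO1Q one_eq ⊤ hTop _ (VF_le pQ chartQ i) hf
      (fun y => not_mem_of_mem_VF pQ chartQ i y.1 y.2)
  -- pull the subring back to the degree-zero localization
  let cf : Away (𝒯.deg ⊤ hTop) f →+* Γ(Q, VF pQ chartQ i) := chartFun pQ chartQ i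
  have hclos : Subring.closure (Set.range (𝒯.str.app (op (⊤ : Y.Opens))).hom ∪
      (↑Tset : Set (𝒯.presheaf.obj (op (⊤ : Y.Opens))))) = ⊤ := by
    have h0 := closure_str_j_eq_top E₀ hE₀ 𝒯 k hk ⊤ hTop
    rw [eq_top_iff, ← h0]
    refine Subring.closure_le.2 ?_
    rintro x (hx | ⟨e, rfl⟩)
    · exact Subring.subset_closure (Or.inl hx)
    · obtain ⟨c, hc⟩ := hspan _ (hk.2 ⊤ hTop e)
      change ((k.app ⊤) e : 𝒯.presheaf.obj (op (⊤ : Y.Opens))) ∈ _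
      rw [hc]
      refine Subring.sum_mem _ fun t ht => Subring.mul_mem _ ?_ ?_
      · exact Subring.subset_closure (Or.inl ⟨c t, rfl⟩)
      · exact Subring.subset_closure (Or.inr ht)
  have hS₀ : ∀ s ∈ Set.range (𝒯.str.app (op (⊤ : Y.Opens))).hom, s ∈ 𝒯.deg ⊤ hTop 0 := by
    rintro _ ⟨c, rfl⟩
    exact 𝒯.str_mem ⊤ hTop c
  have hGG : ∀ g ∈ (↑Tset : Set (𝒯.presheaf.obj (op (⊤ : Y.Opens)))), g ∈ 𝒯.deg ⊤ hTop 1 :=
    fun g hg => hT1 hg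
  have htop : T'.comap cf = ⊤ := by
    refine away_subring_eq_top (𝒯.deg ⊤ hTop) hf _ hS₀ _ hGG hclos (T'.comap cf) ?_ ?_
    · rintro _ ⟨c, rfl⟩
      change chartFun pQ chartQ i _ ∈ T'
      have h3 := chartFun_str pQ chartQ hQ i c
      exact h3 ▸ h2 c
    · intro g hg
      change chartFun pQ chartQ i _ ∈ T'
      obtain ⟨a, haT, ha⟩ := h1 ⟨g, hg⟩
      have hg' : ((k.app ⊤) (ee ⟨g, hg⟩) : 𝒯.presheaf.obj (op (⊤ : Y.Opens))) = g := hee ⟨g, hg⟩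
      unfold gsig at ha
      rw [res_canonSec_le, res_canonSec_le] at ha
      have hb : g ∈ 𝒯.deg ⊤ hTop 1 := hT1 hg
      have h3 := canonSec_eq_chartFun_smul pQ chartQ O1Q lamQ hO1Q i hb
      have h4 : canonSec pQ chartQ 1 O1Q lamQ hO1Q one_eq ⊤ hTop (VF pQ chartQ i) (le_top.trans hle)
          (hk.2 ⊤ hTop (ee ⟨g, hg⟩)) =
          canonSec pQ chartQ 1 O1Q lamQ hO1Q one_eq ⊤ hTop (VF pQ chartQ i) (VF_le pQ chartQ i) hb :=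
        canonSec_congr pQ chartQ 1 O1Q lamQ hO1Q one_eq ⊤ hTop (VF pQ chartQ i) _ _ _ hg'
      have h4' : canonSec pQ chartQ 1 O1Q lamQ hO1Q one_eq ⊤ hTop (VF pQ chartQ i) (le_top.trans hle)
          (hk.2 ⊤ hTop (ee m)) =
          canonSec pQ chartQ 1 O1Q lamQ hO1Q one_eq ⊤ hTop (VF pQ chartQ i) (VF_le pQ chartQ i) hf :=
        canonSec_congr pQ chartQ 1 O1Q lamQ hO1Q one_eq ⊤ hTop (VF pQ chartQ i) _ _ _ hf0.symm
      rw [h4, h4'] at ha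
      have h5 : a = chartFun pQ chartQ i (amk (𝒯.deg ⊤ hTop) hf 1 g hb) := by
        apply (hgen0 (VF pQ chartQ i) le_rfl).1
        change a • res O1Q le_rfl _ = chartFun pQ chartQ i _ • res O1Q le_rfl _
        rw [res_self]
        exact ha.trans h3
      rw [← h5]
      exact haT
  rw [eq_top_iff]
  intro γ _
  obtain ⟨x, rfl⟩ := chartFun_surjective pQ chartQ i γ
  have : x ∈ T'.comap cf := by rw [htop]; trivial
  exact this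

include hE₀ hk hQ hO1Q in
/-- **over an affine base, `O(1)` on `P(E)`, `E` quasi-coherent of finite type, is the pull-back of `O(1)` by an
immersion into some `P^n`** -/
theorem isRelVeryAmplePn_projBundle [IsAffine Y] (hft : CohB1.IsFT E₀) : RelAmple.IsRelVeryAmplePn pQ O1Q := by
  classical
  have hTop : IsAffineOpen (⊤ : Y.Opens) := isAffineOpen_top Y
  have hgenD : 𝒯.IsGenDegOne := Groth.Agent.Lib.T2H4.VeryAmple.isGenDegOne_of_isGrSymAlg E₀ hE₀ 𝒯 k hk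
  obtain ⟨Tset, hT1, hspan⟩ := ProjMor.isFTDeg_one_of_isGrSymAlg E₀ hE₀ 𝒯 k hk hft ⊤ hTop
  have hpre : ∀ t : Tset, ∃ m : Γ(E₀, ⊤), ((k.app ⊤) m : 𝒯.presheaf.obj (op (⊤ : Y.Opens))) = t.1 :=
    fun t => ProjMor.exists_j_eq_of_mem_deg_one E₀ hE₀ 𝒯 k hk ⊤ hTop (hT1 t.2)
  choose ee hee using hpre
  obtain ⟨lam', hO1'⟩ := Groth.Agent.Lib.T2H4.RelTwistPow.exists_isRelTwist_cast pQ chartQ (k := 1)
    (k' := ((1 : ℕ) : ℤ)) Nat.cast_one.symm O1Q lamQ hO1Q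
  have hinv : PicF.IsInvertible O1Q :=
    Groth.Agent.Lib.Helper2.RelTwistAmpleB.isInvertible_of_cover pQ chartQ 1 O1Q lam' hO1'
      (fun V hV y => exists_degOne_not_mem_of_gen (𝒯.deg V hV) (hgenD V hV) y)
  have hle : (⊤ : Q.Opens) ≤ pQ ⁻¹ᵁ ⊤ := fun _ _ => trivial
  have hloc : ∀ t : Tset, CohB1.genLocus O1Q
      (secHom O1Q (gsig E₀ 𝒯 k hk pQ chartQ O1Q lamQ hO1Q ⊤ hTop hle (ee t))) =
      VF pQ chartQ (idxOf E₀ k hk ⊤ hTop (ee t)) :=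
    fun t => genLocus_gsig E₀ hE₀ 𝒯 k hk pQ chartQ O1Q lamQ hO1Q ⊤ hTop hle (ee t)
  refine Groth.Agent.Lib.T2H6.VAmple.isRelVeryAmplePn_of_sections' pQ O1Q hinv
    (fun t : Tset => gsig E₀ 𝒯 k hk pQ chartQ O1Q lamQ hO1Q ⊤ hTop hle (ee t)) Set.univ (fun _ => ⊤)
    (fun _ _ => hTop) (fun _ _ => le_top.trans hle) ?_ ?_ ?_
  · intro x
    obtain ⟨y, hy⟩ := le_opensRange_emb pQ chartQ ⊤ hTop (hle (Set.mem_univ x) : x ∈ pQ ⁻¹ᵁ ⊤)
    obtain ⟨b, hb, hby⟩ := exists_degOne_not_mem_of_gen (𝒯.deg ⊤ hTop) (hgenD ⊤ hTop) y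
    obtain ⟨c, hc⟩ := hspan b hb
    have hex : ∃ t ∈ Tset, t ∉ y.asHomogeneousIdeal := by
      by_contra hcon
      push Not at hcon
      apply hby
      rw [hc]
      exact Ideal.sum_mem _ fun t ht => Ideal.mul_mem_left _ _ (hcon t ht)
    obtain ⟨t, ht, hty⟩ := hex
    refine ⟨⟨t, ht⟩, Set.mem_univ _, ?_⟩
    rw [hloc]
    refine ⟨y, (ProjectiveSpectrum.mem_basicOpen _ _ y).mpr ?_, hy⟩
    change ((k.app ⊤) (ee ⟨t, ht⟩) : 𝒯.presheaf.obj (op (⊤ : Y.Opens))) ∉ y.asHomogeneousIdeal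
    rw [hee ⟨t, ht⟩]
    exact hty
  · intro m _
    rw [hloc]
    exact isAffineOpen_VF _
  · intro m hm T' h1 h2
    exact subring_eq_top_of_ratios E₀ hE₀ 𝒯 k hk pQ chartQ hQ O1Q lamQ hO1Q Tset hT1 hspan ee hee hle m
      _ (hk.2 ⊤ hTop (ee m)) rfl _ (hloc m) _ T' h1 h2

end Groth.Agent.Lib.T2H4.QProj
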