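import Mathlib
import Groth.Prelude.Def_RelProj4
import Groth.Agent.Lib.T2H4RLBridgeBG
import Groth.Agent.Lib.T2H4RLBridgeAA
import Groth.Agent.Lib.T2H4RLBridgeAD
import Groth.Agent.Lib.T2H4RLBridgeL
import Groth.Agent.Lib.Helper23Restr

/-!
# Very ample relative to a morphism of finite type over an affine base is very ample in the `P^n` form (helper4)
-/

set_option autoImplicit false
set_option linter.style.haveILetI false
set_option linter.unusedSectionVars false
universe u
open CategoryTheory Limits AlgebraicGeometry TopologicalSpace Opposite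

namespace Groth.Agent.Lib.T2H4.QProj

open Groth.Agent.Lib.T2H4.RLBridge

/-- the `P^n` form of very ampleness pulls back along immersions -/
theorem isRelVeryAmplePn_of_immersion {X Q S : Scheme.{u}} (q : X ⟶ S) (pQ : Q ⟶ S) (O1Q : Q.Modules)
    (h : RelAmple.IsRelVeryAmplePn pQ O1Q) (r₀ : X ⟶ Q) [IsImmersion r₀] (hr : r₀ ≫ pQ = q)
    (L : X.Modules) (e : L ≅ (Scheme.Modules.pullback r₀).obj O1Q) : RelAmple.IsRelVeryAmplePn q L := by
  obtain ⟨n, i, hi, hip, ⟨θ⟩⟩ := h
  haveI := hi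
  exact ⟨n, r₀ ≫ i, inferInstance, by rw [Category.assoc, hip, hr],
    ⟨e ≪≫ (Scheme.Modules.pullback r₀).mapIso θ ≪≫ (Scheme.Modules.pullbackComp r₀ i).app _⟩⟩

/-- **over an affine base, a module very ample relative to a morphism of finite type is the pull-back of `O(1)` by an
immersion into some `P^n`** -/
theorem isRelVeryAmplePn_of_isRelVeryAmple {X S : Scheme.{u}} [IsAffine S] (f : X ⟶ S)
    [LocallyOfFiniteType f] [QuasiCompact f] (L : X.Modules) (hLinv : PicF.IsInvertible L)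
    (hL : RelProj.IsRelVeryAmple f L) : RelAmple.IsRelVeryAmplePn f L := by
  obtain ⟨E₀, hE₀, hft, 𝒯, k, hk, Q, pQ, chartQ, hQ, O1Q, lamQ, hO1Q, r₀, hr₀, ψ₀, hF⟩ :=
    exists_ft_immersion_of_isRelVeryAmple f L hLinv hL
  haveI := hr₀
  obtain ⟨τ, -⟩ := hF.exists_iso hE₀ hQ
  exact isRelVeryAmplePn_of_immersion f pQ O1Q
    (isRelVeryAmplePn_projBundle E₀ hE₀ 𝒯 k hk pQ chartQ hQ O1Q lamQ hO1Q hft) r₀ hF.comp L τ.symm

/-- **a module very ample relative to a morphism of finite type is, locally on the base, the pull-back of `O(1)` by an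
immersion into some `P^n`** -/
theorem exists_cover_isRelVeryAmplePn {X S : Scheme.{u}} (f : X ⟶ S)
    [LocallyOfFiniteType f] [QuasiCompact f] (L : X.Modules) (hLinv : PicF.IsInvertible L)
    (hL : RelProj.IsRelVeryAmple f L) :
    ∃ (ι : Type u) (V : ι → S.Opens), (⨆ j, V j) = ⊤ ∧
      ∀ j, RelAmple.IsRelVeryAmplePn (f ∣_ V j) (L.restrict (f ⁻¹ᵁ V j).ι) := by
  refine ⟨S.affineOpens, fun V => V.1, iSup_affineOpens_eq_top S, fun V => ?_⟩
  haveI : IsAffine (V.1 : Scheme.{u}) := V.2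
  exact isRelVeryAmplePn_of_isRelVeryAmple (f ∣_ V.1) _
    (Groth.Agent.Lib.Helper23.SecTw.isInvertible_restrict L hLinv (f ⁻¹ᵁ V.1))
    (isRelVeryAmple_restrict f L hL V.1)

end Groth.Agent.Lib.T2H4.QProj
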