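import Mathlib
import Groth.Prelude.Def_RelProj4
import Groth.Agent.Lib.T2H4GrSymI
import Groth.Agent.Lib.T2H4TwistBCB
import Groth.Agent.Lib.Helper2RelTwistExist
import Groth.Agent.Lib.Helper20WeakAss

/-!
# `L ≅ r^* O_P(1)` for the morphism `r = r_{L,ψ}` attached to a graded morphism with surjective degree-one part (helper4)

* `isGrSymAlg_of_iso` : the graded symmetric algebra along an isomorphism of modules;
* `nonempty_iso_pullback_inv` : on `PL = Proj(Sym L) ≅ X`, the module `O(1)` corresponds to `L`;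
* `nonempty_iso_pullback_of_irr` : `L ≅ (pL⁻¹ ≫ r')^* O_P(1)` for `r' : PL ⟶ P` given chartwise by `Proj.map`.
-/

set_option autoImplicit false
set_option linter.style.haveILetI false
set_option linter.unusedSectionVars false
set_option linter.unusedVariables false
universe u
open CategoryTheory Limits AlgebraicGeometry TopologicalSpace Opposite
open scoped HomogeneousIdeal

namespace Groth.Agent.Lib.T2H4.RLBridge

open Groth.Agent.Lib.Helper23.SecTw Groth.Agent.Lib.Helper6 RelProj Groth.Agent.Lib.Helper23.PB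
  Groth.Agent.Lib.Helper23.GenLocus Groth.Agent.Lib.Helper23.AmpleIso Groth.Agent.Lib.T2H4.GrSym

theorem isGrSymAlg_of_iso {S : Scheme.{u}} {E E' : S.Modules} (e : E' ≅ E) {𝒮 : RelProj.QCGrAlg S}
    {j : E ⟶ 𝒮.toModule} (h : RelProj.IsGrSymAlg E 𝒮 j) : RelProj.IsGrSymAlg E' 𝒮 (e.hom ≫ j) := by
  refine ⟨?_, ?_⟩
  · intro B φ'
    obtain ⟨ψ, hψ, huniq⟩ := h.1 B (e.inv ≫ φ')
    refine ⟨ψ, ?_, ?_⟩
    · change (e.hom ≫ j) ≫ RelSpec.QCAlg.Hom.toModuleMap ψ = φ'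
      rw [Category.assoc, hψ, Iso.hom_inv_id_assoc]
    · intro ψ' hψ'
      apply huniq
      rw [← hψ', ← Category.assoc, ← Category.assoc, Iso.inv_hom_id, Category.id_comp]
  · intro U hU x
    exact h.2 U hU ((e.hom.app U) x)

variable {X PL : Scheme.{u}}

/-- on `PL = Proj(Sym L) ≅ X`, the fundamental sheaf corresponds to `L` -/
theorem nonempty_iso_pullback_inv (L : X.Modules) (hL : PicF.IsInvertible L) {𝒮L : RelProj.QCGrAlg X}
    (jL : L ⟶ 𝒮L.toModule) (hjL : RelProj.IsGrSymAlg L 𝒮L jL) (pL : PL ⟶ X)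
    (chartL : ∀ (U : X.Opens) (hU : IsAffineOpen U), (((pL ⁻¹ᵁ U : PL.Opens) : Scheme.{u}) ≅ Proj (𝒮L.deg U hU)))
    (hPL : RelProj.IsRelProj 𝒮L pL chartL) (O1L : PL.Modules)
    (lamL : ∀ (U : X.Opens) (hU : IsAffineOpen U),
      O1L ⟶ (Scheme.Modules.pushforward (RelProj.emb pL chartL U hU)).obj (GrTwist.twist (𝒮L.deg U hU) 1))
    (hO1L : RelProj.IsRelTwist 𝒮L pL chartL 1 O1L lamL) [IsIso pL] :
    Nonempty (L ≅ (Scheme.Modules.pullback (inv pL)).obj O1L) := by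
  haveI : L.IsQuasicoherent := Groth.Agent.Lib.Helper20.WeakAss.isQuasicoherent_of_isInvertible L hL
  have hE : Coh.IsQCoh ((Scheme.Modules.pushforward (𝟙 X)).obj L) :=
    Groth.Agent.Lib.Helper23.QCohLocal.isQuasicoherent_pushforward (𝟙 X) L
  let e : (Scheme.Modules.pushforward (𝟙 X)).obj L ≅ L := (Scheme.Modules.pushforwardId X).app L
  have hj' := isGrSymAlg_of_iso e hjL
  let W : AFr L → X.Opens := fun a => (𝟙 X) ''ᵁ a.1.1
  have hWle : ∀ a : AFr L, (𝟙 X) ⁻¹ᵁ W a ≤ a.1.1 := fun a => le_of_eq (Scheme.Hom.preimage_image_eq (𝟙 X) _)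
  let t : ∀ a : AFr L, Γ(L, (𝟙 X) ⁻¹ᵁ W a) := fun a => res L (hWle a) a.1.2
  have hW : ∀ a, IsAffineOpen (W a) := fun a => a.2.1.image_of_isOpenImmersion (𝟙 X)
  have hgL : ∀ a, IsGen L ((𝟙 X) ⁻¹ᵁ W a) (t a) := fun a => a.2.2.mono (hWle a)
  have hgE : ∀ a, IsGen ((Scheme.Modules.pushforward (𝟙 X)).obj L) (W a) (t a) := fun a =>
    isGen_pushforward (𝟙 X) L (Scheme.Hom.image_le_opensRange (𝟙 X) _) (t a) (hgL a)
  have hcov : ∀ x : X, ∃ a, (𝟙 X) x ∈ W a := by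
    intro x
    obtain ⟨V, e, hxV, hV, he⟩ := exists_affine_gen L hL x
    exact ⟨⟨⟨V, e⟩, hV, he⟩, ⟨x, hxV, rfl⟩⟩
  exact nonempty_iso_pullback_of_frames (𝟙 X) L (e.hom ≫ jL) hj' pL chartL O1L lamL hO1L (inv pL) hPL
    (IsIso.inv_hom_id pL) hE W hW t hgL hgE hcov

variable {Y P : Scheme.{u}} {q : X ⟶ Y} {𝒜 : RelProj.QCGrAlg Y} {𝒮L : RelProj.QCGrAlg X}
  (u : RelProj.QGrHom q 𝒜 𝒮L)
  (hirr : ∀ (U : Y.Opens) (hU : IsAffineOpen U) (V : X.Opens) (hV : IsAffineOpen V) (hle : V ≤ q ⁻¹ᵁ U),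
      (𝒮L.deg V hV)₊ ≤ ((𝒜.deg U hU)₊).map (u.gradedAt U hU V hV hle))
  (p : P ⟶ Y)
  (chart : ∀ (U : Y.Opens) (hU : IsAffineOpen U), (((p ⁻¹ᵁ U : P.Opens) : Scheme.{u}) ≅ Proj (𝒜.deg U hU)))
  (pL : PL ⟶ X)
  (chartL : ∀ (U : X.Opens) (hU : IsAffineOpen U), (((pL ⁻¹ᵁ U : PL.Opens) : Scheme.{u}) ≅ Proj (𝒮L.deg U hU)))

/-- **`L ≅ (pL⁻¹ ≫ r')^* O_P(1)`** for `r' : PL = Proj(Sym L) ⟶ P` given chartwise by `Proj.map` of a graded morphism, when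
`𝒜` is generated in degree one. -/
theorem nonempty_iso_pullback_of_irr (L : X.Modules) (hL : PicF.IsInvertible L)
    (jL : L ⟶ 𝒮L.toModule) (hjL : RelProj.IsGrSymAlg L 𝒮L jL)
    (hP : RelProj.IsRelProj 𝒜 p chart) (hPL : RelProj.IsRelProj 𝒮L pL chartL) (h1 : 𝒜.IsGenDegOne)
    (O1 : P.Modules)
    (lam : ∀ (U : Y.Opens) (hU : IsAffineOpen U),
      O1 ⟶ (Scheme.Modules.pushforward (RelProj.emb p chart U hU)).obj (GrTwist.twist (𝒜.deg U hU) 1))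
    (hO1 : RelProj.IsRelTwist 𝒜 p chart 1 O1 lam)
    (r' : PL ⟶ P)
    (hh : ∀ (U : Y.Opens) (hU : IsAffineOpen U) (V : X.Opens) (hV : IsAffineOpen V) (hle : V ≤ q ⁻¹ᵁ U),
      RelProj.emb pL chartL V hV ≫ r' =
        Proj.map (u.gradedAt U hU V hV hle) (hirr U hU V hV hle) ≫ RelProj.emb p chart U hU)
    (hpp : r' ≫ p = pL ≫ q) [IsIso pL] :
    Nonempty (L ≅ (Scheme.Modules.pullback (inv pL ≫ r')).obj O1) := by
  obtain ⟨O1L, lamL, hO1L⟩ := Groth.Agent.Lib.Helper2.RelTwistExist.exists_isRelTwist pL chartL hPL 1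
  obtain ⟨e1⟩ := Groth.Agent.Lib.T2H4.TwistBC.nonempty_pullback_iso u hirr p pL chart chartL r' hh 1 O1 lam hO1
    O1L lamL hO1L hP hPL hpp h1
  obtain ⟨e2⟩ := nonempty_iso_pullback_inv L hL jL hjL pL chartL hPL O1L lamL hO1L
  exact ⟨e2 ≪≫ (Scheme.Modules.pullback (inv pL)).mapIso e1.symm ≪≫
    (Scheme.Modules.pullbackComp (inv pL) r').app O1⟩

end Groth.Agent.Lib.T2H4.RLBridge
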