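import Mathlib
import Groth.Agent.Lib.T2H5ResLE
import Groth.Agent.Lib.T2H5GlueInvD
import Groth.Agent.Lib.Helper23PB
import Groth.Agent.Lib.Helper23SecTw6
import Groth.Agent.Lib.Helper13ModAffine
set_option backward.isDefEq.respectTransparency.types false

/-!
# The adjoint equation `r^*(a) ≫ τ = s` in terms of sections (helper4)

For `r : X ⟶ P`, `p : P ⟶ S`, `g = r ≫ p`, `φ : E ⟶ p_* O1` with adjoint `a : p^* E ⟶ O1`, `τ : r^* O1 ⟶ L` and
`s : g^* E ⟶ L`, the equation
`g^* E ≅ (r ≫ p)^* E ≅ r^* p^* E --r^*(a)--> r^* O1 --τ--> L  =  s`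
holds iff `τ` carries the pull-back of the section `φ(e)` to the value at `e` of the adjoint `E ⟶ g_* L` of `s`
(`adj_eq_iff`).
-/

set_option autoImplicit false
set_option linter.style.haveILetI false
set_option linter.unusedSectionVars false
set_option linter.unusedVariables false
universe u
open CategoryTheory AlgebraicGeometry TopologicalSpace Opposite

namespace Groth.Agent.Lib.T2H4.RLBridge

open Groth.Agent.Lib.Helper6 Groth.Agent.Lib.Helper23.PB Groth.Agent.Helper13PullbackUnit Scheme.Modules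

variable {X P S : Scheme.{u}}

/-- the value of the adjoint of the composite on a section -/
theorem homEquiv_comp_app (r : X ⟶ P) (p : P ⟶ S) (E : S.Modules) (O1 : P.Modules) (L : X.Modules)
    (φ : E ⟶ (pushforward p).obj O1) (τ : (pullback r).obj O1 ⟶ L) (U : S.Opens) (e : Γ(E, U)) :
    (((pullbackPushforwardAdjunction (r ≫ p)).homEquiv E L)
      ((pullbackComp r p).inv.app E ≫
        (pullback r).map (((pullbackPushforwardAdjunction p).homEquiv E O1).symm φ) ≫ τ)).app U e =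
      τ.app (r ⁻¹ᵁ (p ⁻¹ᵁ U)) (unitSec r O1 le_rfl (φ.app U e)) := by
  rw [Adjunction.homEquiv_unit, Groth.Agent.Lib.T2H5.ResLE.L4 r p E]
  have h1 := Groth.Agent.Lib.T2H5.GlueInv.adj_app_unitSec p E O1 φ U e
  have h2 := map_unitSec r (((pullbackPushforwardAdjunction p).homEquiv E O1).symm φ)
    (le_refl (r ⁻¹ᵁ (p ⁻¹ᵁ U))) (unitSec p E le_rfl e)
  rw [h1] at h2
  rw [← h2]
  have h3 : unitSec p E (le_refl (p ⁻¹ᵁ U)) e = ((pullbackPushforwardAdjunction p).unit.app E).app U e := by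
    rw [unitSec_apply]
    exact Groth.Agent.Helper13ModGlue.res_self _ _ _
  have h4 : unitSec r ((pullback p).obj E) (le_refl (r ⁻¹ᵁ (p ⁻¹ᵁ U)))
        (((pullbackPushforwardAdjunction p).unit.app E).app U e) =
      ((pullbackPushforwardAdjunction r).unit.app ((pullback p).obj E)).app (p ⁻¹ᵁ U)
        (((pullbackPushforwardAdjunction p).unit.app E).app U e) := by
    rw [unitSec_apply]
    exact Groth.Agent.Helper13ModGlue.res_self _ _ _
  rw [h3, h4]
  rfl

/-- **the adjoint equation, read on sections** -/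
theorem adj_eq_iff (r : X ⟶ P) (p : P ⟶ S) (g : X ⟶ S) (hr : r ≫ p = g) (E : S.Modules) (O1 : P.Modules)
    (L : X.Modules) (φ : E ⟶ (pushforward p).obj O1) (τ : (pullback r).obj O1 ⟶ L)
    (s : (pullback g).obj E ⟶ L) :
    (pullbackCongr hr).inv.app E ≫ (pullbackComp r p).inv.app E ≫
        (pullback r).map (((pullbackPushforwardAdjunction p).homEquiv E O1).symm φ) ≫ τ = s ↔
      ∀ (U : S.Opens) (e : Γ(E, U)) (hW' : r ⁻¹ᵁ (p ⁻¹ᵁ U) ≤ g ⁻¹ᵁ U),
        τ.app (r ⁻¹ᵁ (p ⁻¹ᵁ U)) (unitSec r O1 le_rfl (φ.app U e)) =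
          res L hW' ((((pullbackPushforwardAdjunction g).homEquiv E L) s).app U e) := by
  subst hr
  have h0 : (pullbackCongr (rfl : r ≫ p = r ≫ p)).inv.app E = 𝟙 _ := rfl
  rw [h0, Category.id_comp]
  constructor
  · intro h U e hW'
    rw [← h, homEquiv_comp_app]
    exact (Groth.Agent.Lib.Helper23.SecTw.res_self _ _).symm
  · intro h
    apply ((pullbackPushforwardAdjunction (r ≫ p)).homEquiv E L).injective
    ext U e
    rw [homEquiv_comp_app, h U e le_rfl]
    exact Groth.Agent.Lib.Helper23.SecTw.res_self _ _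

/-- the adjoint equation follows from its form on sections over affine opens -/
theorem adj_eq_of_affine (r : X ⟶ P) (p : P ⟶ S) (g : X ⟶ S) (hr : r ≫ p = g) (E : S.Modules) (O1 : P.Modules)
    (L : X.Modules) (φ : E ⟶ (pushforward p).obj O1) (τ : (pullback r).obj O1 ⟶ L)
    (s : (pullback g).obj E ⟶ L)
    (h : ∀ (U : S.Opens) (_ : IsAffineOpen U) (e : Γ(E, U)) (hW' : r ⁻¹ᵁ (p ⁻¹ᵁ U) ≤ g ⁻¹ᵁ U),
        τ.app (r ⁻¹ᵁ (p ⁻¹ᵁ U)) (unitSec r O1 le_rfl (φ.app U e)) =
          res L hW' ((((pullbackPushforwardAdjunction g).homEquiv E L) s).app U e)) :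
    (pullbackCongr hr).inv.app E ≫ (pullbackComp r p).inv.app E ≫
        (pullback r).map (((pullbackPushforwardAdjunction p).homEquiv E O1).symm φ) ≫ τ = s := by
  subst hr
  have h0 : (pullbackCongr (rfl : r ≫ p = r ≫ p)).inv.app E = 𝟙 _ := rfl
  rw [h0, Category.id_comp]
  apply ((pullbackPushforwardAdjunction (r ≫ p)).homEquiv E L).injective
  apply Groth.Agent.Helper13ModAffine.hom_ext_affine
  intro U hU
  refine ConcreteCategory.hom_ext _ _ (fun e => ?_)
  rw [homEquiv_comp_app, h U hU e le_rfl]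
  exact Groth.Agent.Lib.Helper23.SecTw.res_self _ _

end Groth.Agent.Lib.T2H4.RLBridge
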