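import Mathlib
import Groth.Prelude.Def_RelProj4
import Groth.Agent.Lib.T2H4RLBridgeK
import Groth.Agent.Lib.T2H4RLBridgeL
import Groth.Agent.Lib.T2H4RLBridgeM
import Groth.Agent.Lib.T2H4RLBridgeO
import Groth.Agent.Lib.T2H4GrSymD
import Groth.Agent.Lib.Helper2RelTwistExist
import Groth.Agent.Lib.Helper13ProjGlue2
set_option backward.isDefEq.respectTransparency.types false

/-!
# Morphisms into `P(E)` and invertible quotients of `g^* E` (EGA II 4.2.3) (helper4)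

`existsUnique_to_projBundle` : for `s : g^* E ⟶ L` an epimorphism onto an invertible module there is exactly one
`r : X ⟶ P(E)` over `g` with `τ : r^* O_P(1) ≅ L` carrying `r^*(a)` to `s`.
-/

set_option autoImplicit false
set_option linter.style.haveILetI false
set_option linter.unusedSectionVars false
set_option linter.unusedVariables false
universe u
open CategoryTheory AlgebraicGeometry TopologicalSpace Opposite
open scoped HomogeneousIdeal

namespace Groth.Agent.Lib.T2H4.RLBridge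

open Groth.Agent.Lib.Helper6 Groth.Agent.Lib.Helper23.PB Groth.Agent.Helper13PullbackUnit
  Groth.Agent.Lib.Helper23.SecTw Groth.Agent.Lib.T2H4.GrSym

variable {Y P : Scheme.{u}} (E : Y.Modules) (hE : Coh.IsQCoh E)
  (𝒮 : RelProj.QCGrAlg Y) (j : E ⟶ 𝒮.toModule) (hj : RelProj.IsGrSymAlg E 𝒮 j) (p : P ⟶ Y)
  (chart : ∀ (U : Y.Opens) (hU : IsAffineOpen U), ((p ⁻¹ᵁ U : P.Opens) : Scheme.{u}) ≅ Proj (𝒮.deg U hU))
  (hP : RelProj.IsRelProj 𝒮 p chart) (O1 : P.Modules)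
  (lam : ∀ (U : Y.Opens) (hU : IsAffineOpen U),
    O1 ⟶ (Scheme.Modules.pushforward (RelProj.emb p chart U hU)).obj (GrTwist.twist (𝒮.deg U hU) 1))
  (hO1 : RelProj.IsRelTwist 𝒮 p chart 1 O1 lam)
  (φ : E ⟶ (Scheme.Modules.pushforward p).obj O1)
  (hφ : ∀ (U : Y.Opens) (hU : IsAffineOpen U) (e : Γ(E, U)),
    φ.app U e = sig p chart E j hj O1 lam hO1 U hU e)
  {X : Scheme.{u}} (g : X ⟶ Y) (L : X.Modules) (hL : PicF.IsInvertible L)
  (s : (Scheme.Modules.pullback g).obj E ⟶ L)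

include hφ in
/-- the adjoint equation is equivalent to `τ` tracking the canonical sections -/
theorem tracked_of_adj_eq (r : X ⟶ P) (hr : r ≫ p = g) (τ : (Scheme.Modules.pullback r).obj O1 ≅ L)
    (h : (Scheme.Modules.pullbackCongr hr).inv.app E ≫ (Scheme.Modules.pullbackComp r p).inv.app E ≫
        (Scheme.Modules.pullback r).map
          (((Scheme.Modules.pullbackPushforwardAdjunction p).homEquiv E O1).symm φ) ≫ τ.hom = s)
    (U : Y.Opens) (hU : IsAffineOpen U) (e : Γ(E, U)) (W : X.Opens) (hW : W ≤ r ⁻¹ᵁ (p ⁻¹ᵁ U))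
    (hW' : W ≤ g ⁻¹ᵁ U) :
    τ.hom.app W (unitSec r O1 hW (sig p chart E j hj O1 lam hO1 U hU e)) = res L hW' (tOf g E L s U e) := by
  have hle : r ⁻¹ᵁ (p ⁻¹ᵁ U) ≤ g ⁻¹ᵁ U := by
    subst hr
    exact le_rfl
  have h1 := (adj_eq_iff r p g hr E O1 L φ τ.hom s).1 h U e hle
  rw [← tOf_eq_homEquiv, hφ U hU e] at h1
  have h2 := res_unitSec r O1 (le_refl (r ⁻¹ᵁ (p ⁻¹ᵁ U))) hW le_rfl hW (sig p chart E j hj O1 lam hO1 U hU e)
  rw [res_self] at h2
  rw [← h2]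
  have h3 := Groth.Agent.Lib.Helper2.ModExact.app_map τ.hom (homOfLE hW)
    (unitSec r O1 le_rfl (sig p chart E j hj O1 lam hO1 U hU e))
  refine h3.trans ?_
  change res L hW (τ.hom.app (r ⁻¹ᵁ (p ⁻¹ᵁ U)) _) = _
  rw [h1, res_res]

include hφ in
theorem adj_eq_of_tracked (r : X ⟶ P) (hr : r ≫ p = g) (τ : (Scheme.Modules.pullback r).obj O1 ≅ L)
    (h : ∀ (U : Y.Opens) (hU : IsAffineOpen U) (e : Γ(E, U)) (W : X.Opens) (hW : W ≤ r ⁻¹ᵁ (p ⁻¹ᵁ U))
      (hW' : W ≤ g ⁻¹ᵁ U),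
      τ.hom.app W (unitSec r O1 hW (sig p chart E j hj O1 lam hO1 U hU e)) = res L hW' (tOf g E L s U e)) :
    (Scheme.Modules.pullbackCongr hr).inv.app E ≫ (Scheme.Modules.pullbackComp r p).inv.app E ≫
        (Scheme.Modules.pullback r).map
          (((Scheme.Modules.pullbackPushforwardAdjunction p).homEquiv E O1).symm φ) ≫ τ.hom = s := by
  refine adj_eq_of_affine r p g hr E O1 L φ τ.hom s (fun U hU e hW' => ?_)
  rw [← tOf_eq_homEquiv, hφ U hU e]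
  exact h U hU e _ le_rfl hW'

include hE hP hφ hL in
/-- **EGA II 4.2.3** -/
theorem existsUnique_to_projBundle [Epi s] :
    ∃! r : X ⟶ P, ∃ (hr : r ≫ p = g) (τ : (Scheme.Modules.pullback r).obj O1 ≅ L),
      (Scheme.Modules.pullbackCongr hr).inv.app E ≫ (Scheme.Modules.pullbackComp r p).inv.app E ≫
        (Scheme.Modules.pullback r).map
          (((Scheme.Modules.pullbackPushforwardAdjunction p).homEquiv E O1).symm φ) ≫ τ.hom = s := by
  haveI : E.IsQuasicoherent := hE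
  have hLq : Coh.IsQCoh L := isQuasicoherent_of_isInvertible L hL
  haveI : L.IsQuasicoherent := hLq
  obtain ⟨𝒮L, jL, hjL, PL, pL, chartL, hPL, O1L, lamL, hO1L⟩ := exists_projBundle L hLq
  obtain ⟨t, ht0⟩ : ∃ t : ∀ (U : Y.Opens) (hU : IsAffineOpen U) (e : Γ(E, U)), Γ(L, g ⁻¹ᵁ U),
      t = fun U hU e => tOf g E L s U e := ⟨_, rfl⟩
  have h1 : ∀ (U' : X.Opens) (hU' : IsAffineOpen U') (x : Γ((Scheme.Modules.pullback g).obj E, U')),
      (((s ≫ jL).app U') x : 𝒮L.presheaf.obj (op U')) ∈ 𝒮L.deg U' hU' 1 :=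
    fun U' hU' x => hjL.2 U' hU' (s.app U' x)
  obtain ⟨u, hu0⟩ : ∃ u : RelProj.QGrHom g 𝒮 𝒮L, u = symQGrHom' g E hj (s ≫ jL) h1 := ⟨_, rfl⟩
  have hut : ∀ (U : Y.Opens) (hU : IsAffineOpen U) (e : Γ(E, U)) (V : X.Opens) (hV : IsAffineOpen V)
      (hle : V ≤ g ⁻¹ᵁ U),
      (u.appLE U V hle).hom ((j.app U) e : 𝒮.presheaf.obj (op U)) =
        ((jL.app V) (res L hle (t U hU e)) : 𝒮L.presheaf.obj (op V)) := by
    intro U hU e V hV hle
    rw [hu0, ht0, symQGrHom'_appLE_j g E hj (s ≫ jL) h1 U e V hle]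
    change (jL.app V) (s.app V (unitSec g E hle e)) = _
    rw [res_tOf]
  have hfr : ∀ x : X, ∃ (U : Y.Opens) (hU : IsAffineOpen U) (e : Γ(E, U)) (V : X.Opens) (hV : IsAffineOpen V)
      (hVU : V ≤ g ⁻¹ᵁ U), x ∈ V ∧ IsGen L V (res L hVU (t U hU e)) := by
    intro x
    obtain ⟨U, hU, e, V, hV, hVU, hxV, hgen⟩ := exists_frame_of_epi g E L s hL x
    refine ⟨U, hU, e, V, hV, hVU, hxV, ?_⟩
    rw [ht0]
    change IsGen L V (res L hVU (tOf g E L s U e))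
    rw [res_tOf]
    exact hgen
  have hdef : RelProj.domQ u pL chartL = ⊤ :=
    domQ_eq_top_of_frames u pL chartL E j hj L jL hjL t hut hfr hLq
  obtain ⟨r₀, hr₀v⟩ := Groth.Agent.Helper13RelProj.exists_qmapOn u hP hPL
  have hr₀ := Groth.Agent.Helper13RelProj.isProjQMapOn_of_pieces u r₀ hr₀v
  haveI : IsIso pL := Groth.Agent.Helper13ProjLine.isIso_relProj L 𝒮L jL hjL pL chartL hPL hL
  haveI : IsIso (RelProj.domQ u pL chartL).ι := Groth.Agent.Helper13RL.isIso_ι_of_eq_top hdef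
  obtain ⟨i', hi'0⟩ : ∃ i' : X ⟶ P, i' = inv pL ≫ inv (RelProj.domQ u pL chartL).ι ≫ r₀ := ⟨_, rfl⟩
  have hi' : (RelProj.domQ u pL chartL).ι ≫ pL ≫ i' = r₀ := by
    rw [hi'0, IsIso.hom_inv_id_assoc, IsIso.hom_inv_id_assoc]
  have hF2 : IsFramed p chart E j hj O1 lam hO1 g L i' t :=
    isFramed_of_isProjQMapOn u p chart pL chartL E j hj O1 lam hO1 L jL hjL t hut hfr hP hPL hL hLq O1L lamL hO1L
      r₀ hr₀ i' hi'
  obtain ⟨τ, hτ⟩ := hF2.exists_iso hE hP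
  refine ⟨i', ⟨hF2.comp, τ, ?_⟩, ?_⟩
  · refine adj_eq_of_tracked E 𝒮 j hj p chart O1 lam hO1 φ hφ g L s i' hF2.comp τ ?_
    intro U hU e W hW hW'
    rw [hτ U hU e W hW hW', ht0]
  · rintro r ⟨hr, τ', hτ'⟩
    have hF1 : IsFramed p chart E j hj O1 lam hO1 g L r t := by
      refine isFramed_of_iso p chart E j hj O1 lam hO1 g L r hr τ' t ?_
      intro U hU e W hW hW'
      rw [ht0]
      exact tracked_of_adj_eq E 𝒮 j hj p chart O1 lam hO1 φ hφ g L s r hr τ' hτ' U hU e W hW hW'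
    exact IsFramed.unique hE hP hF1 hF2

end Groth.Agent.Lib.T2H4.RLBridge
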