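import Mathlib

/-!
# A finitely generated torsion-free module of rank one over a domain embeds into the ring
-/

set_option autoImplicit false
universe u

namespace Groth.Agent.Lib.T2H4.RankOneEmb

open TensorProduct

theorem exists_injective_to_ring (R : Type u) [CommRing R] [IsDomain R] (M : Type u)
    [AddCommGroup M] [Module R M] [Module.Finite R M] [NoZeroSMulDivisors R M]
    (hrk : Module.finrank (FractionRing R) (TensorProduct R (FractionRing R) M) = 1) :
    ∃ ι : M →ₗ[R] R, Function.Injective ι := by
  classical
  have hfin : Module.Finite (FractionRing R) (TensorProduct R (FractionRing R) M) :=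
    Module.finite_of_finrank_pos (by omega)
  have e : TensorProduct R (FractionRing R) M ≃ₗ[FractionRing R] FractionRing R :=
    LinearEquiv.ofFinrankEq _ _ (by rw [hrk, Module.finrank_self])
  let φ : M →ₗ[R] FractionRing R :=
    (e.restrictScalars R).toLinearMap ∘ₗ (TensorProduct.mk R (FractionRing R) M 1)
  have hφ : Function.Injective φ := by
    rw [← LinearMap.ker_eq_bot, LinearMap.ker_eq_bot']
    intro m hm
    have h1 : (TensorProduct.mk R (FractionRing R) M 1) m = 0 := by
      apply (e.restrictScalars R).injective
      rw [map_zero]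
      exact hm
    rw [IsLocalizedModule.eq_zero_iff (nonZeroDivisors R)] at h1
    obtain ⟨s, hs⟩ := h1
    have hs0 : (s : R) ≠ 0 := nonZeroDivisors.coe_ne_zero s
    exact (smul_eq_zero.1 hs).resolve_left hs0
  obtain ⟨gens, hgens⟩ := Module.Finite.fg_top (R := R) (M := M)
  obtain ⟨b, hb⟩ := IsLocalization.exist_integer_multiples_of_finset (nonZeroDivisors R)
    (gens.image φ)
  let ψ : M →ₗ[R] FractionRing R := (b : R) • φ
  have hψ : Function.Injective ψ := by
    intro x y hxy
    apply hφ
    have hb0 : algebraMap R (FractionRing R) (b : R) ≠ 0 := by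
      rw [Ne, IsFractionRing.to_map_eq_zero_iff]
      exact nonZeroDivisors.coe_ne_zero b
    have : (b : R) • φ x = (b : R) • φ y := hxy
    rw [Algebra.smul_def, Algebra.smul_def] at this
    exact mul_left_cancel₀ hb0 this
  have hrange : ∀ m : M, ψ m ∈ LinearMap.range (Algebra.linearMap R (FractionRing R)) := by
    intro m
    have hm : m ∈ Submodule.span R (gens : Set M) := by rw [hgens]; trivial
    induction hm using Submodule.span_induction with
    | mem x hx =>
      obtain ⟨r, hr⟩ := hb (φ x) (Finset.mem_image_of_mem φ hx)
      exact ⟨r, hr⟩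
    | zero => rw [map_zero]; exact Submodule.zero_mem _
    | add x y _ _ hx hy => rw [map_add]; exact Submodule.add_mem _ hx hy
    | smul a x _ hx => rw [map_smul]; exact Submodule.smul_mem _ a hx
  have hinj : Function.Injective (Algebra.linearMap R (FractionRing R)) :=
    IsFractionRing.injective R (FractionRing R)
  let ι : M →ₗ[R] R :=
    (LinearEquiv.ofInjective (Algebra.linearMap R (FractionRing R)) hinj).symm.toLinearMap ∘ₗ
      (ψ.codRestrict _ hrange)
  refine ⟨ι, ?_⟩
  intro x y hxy
  apply hψ
  have h2 := (LinearEquiv.ofInjective (Algebra.linearMap R (FractionRing R)) hinj).symm.injective hxy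
  exact congrArg Subtype.val h2

end Groth.Agent.Lib.T2H4.RankOneEmb
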