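import Groth.Agent.Lib.T2H4Conductor
import Groth.Agent.Lib.T2H4GapCount
import Groth.Agent.Lib.T2H4RankOneEmb

/-!
# Normal form of rank-one lattices over a closed subalgebra `A ⊆ k⟦X⟧`
-/

set_option autoImplicit false
universe u

namespace Groth.Agent.Lib.T2H4.RankOneLattice

open PowerSeries Groth.Agent.Lib.T2H4

variable {k : Type u} [Field k] (A : Subalgebra k (PowerSeries k))

/-- The value semigroup contains all large integers. -/
theorem exists_conductor (hA : Module.Finite ↥A (PowerSeries k))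
    (hbir : ∀ f : PowerSeries k, ∃ a ∈ A, a ≠ 0 ∧ a * f ∈ A) :
    ∃ e : ℕ, ∀ n, e ≤ n → ∃ f ∈ A, PowerSeries.order f = n := by
  classical
  obtain ⟨gens, hgens⟩ := Module.Finite.fg_top (R := ↥A) (M := PowerSeries k)
  choose a haA ha0 hag using hbir
  have hprod0 : (∏ g ∈ gens, a g) ≠ 0 := Finset.prod_ne_zero_iff.2 fun g _ => ha0 g
  have hprodA : (∏ g ∈ gens, a g) ∈ A := Subalgebra.prod_mem _ fun g _ => haA g
  have hmul : ∀ f : PowerSeries k, (∏ g ∈ gens, a g) * f ∈ A := by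
    intro f
    have hf : f ∈ Submodule.span ↥A (gens : Set (PowerSeries k)) := by rw [hgens]; trivial
    induction hf using Submodule.span_induction with
    | mem x hx =>
      have h1 : (∏ g ∈ gens, a g) * x = (∏ g ∈ gens.erase x, a g) * (a x * x) := by
        rw [← Finset.mul_prod_erase gens a hx]; ring
      rw [h1]
      exact A.mul_mem (Subalgebra.prod_mem _ fun g _ => haA g) (hag x)
    | zero => rw [mul_zero]; exact A.zero_mem
    | add x y _ _ hx hy => rw [mul_add]; exact A.add_mem hx hy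
    | smul b x _ hx =>
      rw [Subalgebra.smul_def, smul_eq_mul, mul_left_comm]
      exact A.mul_mem b.2 hx
  obtain ⟨e, he⟩ : ∃ e : ℕ, (e : ℕ∞) = order (∏ g ∈ gens, a g) := ⟨_, coe_toNat_order hprod0⟩
  refine ⟨e, fun n hn => ⟨_, hmul (X ^ (n - e)), ?_⟩⟩
  rw [order_mul, order_X_pow, ← he]
  norm_cast
  omega

/-- **Normal form.** -/
theorem main (hA : Module.Finite ↥A (PowerSeries k))
    (hcl : ∀ f : PowerSeries k, (∀ n : ℕ, ∃ g ∈ A, (n : ℕ∞) ≤ PowerSeries.order (f - g)) → f ∈ A)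
    (hbir : ∀ f : PowerSeries k, ∃ a ∈ A, a ≠ 0 ∧ a * f ∈ A)
    (Γ : Set ℕ) (hΓ : ∀ n : ℕ, n ∈ Γ ↔ ∃ f ∈ A, PowerSeries.order f = n)
    (M : Type u) [AddCommGroup M] [Module ↥A M] [Nontrivial M]
    (ι : M →ₗ[↥A] PowerSeries k) (hι : Function.Injective ι) :
    ∃ M' : Submodule ↥A (PowerSeries k),
      (Ideal.span {(PowerSeries.X : PowerSeries k) ^ (2 * Γᶜ.ncard)}).restrictScalars ↥A ≤ M' ∧
      Nonempty (M ≃ₗ[↥A] ↥M') ∧
      Module.finrank k (PowerSeries k ⧸ M'.restrictScalars k) = Γᶜ.ncard := by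
  classical
  obtain ⟨e, he⟩ := exists_conductor A hA hbir
  have hΓe : ∀ n, e ≤ n → n ∈ Γ := fun n hn => (hΓ n).2 (he n hn)
  -- the image and an element of minimal order
  obtain ⟨x0, hx0⟩ := exists_ne (0 : M)
  have hne : ∃ n : ℕ, ∃ f ∈ LinearMap.range ι, order f = n := by
    have h0 : ι x0 ≠ 0 := fun h => hx0 (hι (by rw [h, map_zero]))
    exact ⟨_, ι x0, ⟨x0, rfl⟩, (coe_toNat_order h0).symm⟩
  obtain ⟨g0, hg0M, hg0o⟩ := Nat.find_spec hne
  have hmin : ∀ f ∈ LinearMap.range ι, ((Nat.find hne : ℕ) : ℕ∞) ≤ order f := by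
    intro f hf
    by_cases hf0 : f = 0
    · rw [hf0, order_zero]; exact le_top
    · rw [← coe_toNat_order hf0]
      exact_mod_cast Nat.find_min' hne ⟨f, hf, (coe_toNat_order hf0).symm⟩
  obtain ⟨m, hm⟩ : ∃ m : ℕ, m = Nat.find hne := ⟨_, rfl⟩
  rw [← hm] at hg0o hmin
  have hg00 : g0 ≠ 0 := by
    rintro rfl
    rw [order_zero] at hg0o
    exact ENat.top_ne_natCast m hg0o
  have hg0w : X ^ m * divXPowOrder g0 = g0 := by
    have := X_pow_order_mul_divXPowOrder (f := g0)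
    rwa [hg0o, ENat.toNat_natCast] at this
  have hv0 : constantCoeff (divXPowOrder g0) ≠ 0 := by
    rwa [Ne, constantCoeff_divXPowOrder_eq_zero_iff]
  have hvu : IsUnit (divXPowOrder g0) := by
    rw [isUnit_iff_constantCoeff]
    exact isUnit_iff_ne_zero.2 hv0
  obtain ⟨v', hv'⟩ := hvu.exists_right_inv
  have hdvd : ∀ f ∈ LinearMap.range ι, ∃ h, g0 * h = f := by
    intro f hf
    have h1 : X ^ m ∣ f := by
      rw [X_pow_dvd_iff]
      intro i hi
      exact coeff_of_lt_order i (lt_of_lt_of_le (by exact_mod_cast hi) (hmin f hf))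
    obtain ⟨h, rfl⟩ := h1
    refine ⟨v' * h, ?_⟩
    rw [← hg0w]
    calc X ^ m * divXPowOrder g0 * (v' * h) = X ^ m * ((divXPowOrder g0 * v') * h) := by ring
      _ = X ^ m * h := by rw [hv', one_mul]
  -- M₁
  let mul0 : PowerSeries k →ₗ[↥A] PowerSeries k := LinearMap.mulLeft ↥A g0
  have hmul0inj : Function.Injective mul0 := fun x y hxy => mul_left_cancel₀ hg00 hxy
  let M1 : Submodule ↥A (PowerSeries k) := (LinearMap.range ι).comap mul0
  have h1M1 : (1 : PowerSeries k) ∈ M1 := by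
    change g0 * 1 ∈ LinearMap.range ι
    rwa [mul_one]
  let μ : ↥M1 →ₗ[↥A] ↥(LinearMap.range ι) := mul0.restrict (fun x hx => hx)
  have hμ : Function.Bijective μ := by
    constructor
    · intro x y hxy
      apply Subtype.ext
      apply hmul0inj
      exact congrArg Subtype.val hxy
    · rintro ⟨f, hf⟩
      obtain ⟨h, hh⟩ := hdvd f hf
      refine ⟨⟨h, ?_⟩, Subtype.ext hh⟩
      change g0 * h ∈ LinearMap.range ι
      rwa [hh]
  -- value set of M₁
  obtain ⟨Δ, hΔ⟩ : ∃ Δ : Set ℕ, ∀ n, n ∈ Δ ↔ ∃ f ∈ M1, order f = n := ⟨{n | ∃ f ∈ M1, order f = n}, fun n => Iff.rfl⟩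
  have h0Δ : 0 ∈ Δ := (hΔ 0).2 ⟨1, h1M1, by simp⟩
  have hadd : ∀ a ∈ Γ, ∀ b ∈ Δ, a + b ∈ Δ := by
    intro a ha b hb
    obtain ⟨fa, hfa, hfao⟩ := (hΓ a).1 ha
    obtain ⟨fb, hfb, hfbo⟩ := (hΔ b).1 hb
    refine (hΔ _).2 ⟨fa * fb, ?_, ?_⟩
    · have := M1.smul_mem (⟨fa, hfa⟩ : ↥A) hfb
      rwa [Subalgebra.smul_def, smul_eq_mul] at this
    · rw [order_mul, hfao, hfbo]; norm_cast
  have hdle : Δᶜ.ncard ≤ Γᶜ.ncard := GapCount.ncard_le Γ Δ e hΓe h0Δ hadd
  have hΔc : ∀ n, Γᶜ.ncard + Δᶜ.ncard ≤ n → n ∈ Δ := by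
    intro n hn
    by_contra hc
    have := GapCount.gap_lt Γ Δ e hΓe h0Δ hadd n hc
    omega
  have hcond : ∀ g : PowerSeries k, X ^ (Γᶜ.ncard + Δᶜ.ncard) * g ∈ M1 :=
    Conductor.X_pow_mul_mem A hA hcl M1 _ (fun n hn => (hΔ n).1 (hΔc n hn))
  -- M'
  obtain ⟨s, hs⟩ : ∃ s : ℕ, s = Γᶜ.ncard - Δᶜ.ncard := ⟨_, rfl⟩
  let mulS : PowerSeries k →ₗ[↥A] PowerSeries k := LinearMap.mulLeft ↥A (X ^ s)
  have hmulSinj : Function.Injective mulS :=
    fun x y hxy => mul_left_cancel₀ (pow_ne_zero s X_ne_zero) hxy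
  have h2δ : s + (Γᶜ.ncard + Δᶜ.ncard) = 2 * Γᶜ.ncard := by omega
  have hcond' : ∀ g : PowerSeries k, X ^ (2 * Γᶜ.ncard) * g ∈ M1.map mulS := by
    intro g
    refine ⟨X ^ (Γᶜ.ncard + Δᶜ.ncard) * g, hcond g, ?_⟩
    change X ^ s * (X ^ (Γᶜ.ncard + Δᶜ.ncard) * g) = _
    rw [← mul_assoc, ← pow_add, h2δ]
  refine ⟨M1.map mulS, ?_, ?_, ?_⟩
  · intro x hx
    obtain ⟨y, rfl⟩ := Ideal.mem_span_singleton'.1 hx
    rw [mul_comm]
    exact hcond' y
  · exact ⟨(LinearEquiv.ofInjective ι hι).trans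
      ((LinearEquiv.ofBijective μ hμ).symm.trans (Submodule.equivMapOfInjective mulS hmulSinj M1))⟩
  · have hV : ∀ g : PowerSeries k, X ^ (2 * Γᶜ.ncard) * g ∈ (M1.map mulS).restrictScalars k :=
      fun g => hcond' g
    rw [(GapCount.finrank_quotient_eq_gaps (2 * Γᶜ.ncard) _ hV).2, ← h2δ,
      GapCount.gaps_shift s (Γᶜ.ncard + Δᶜ.ncard) Δ, GapCount.gaps_eq_ncard _ Δ hΔc]
    · omega
    · intro n
      constructor
      · rintro ⟨f, ⟨h, hh, rfl⟩, hfo⟩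
        change order (X ^ s * h) = n at hfo
        rw [order_mul, order_X_pow] at hfo
        have hh0 : h ≠ 0 := by
          rintro rfl
          rw [order_zero] at hfo
          simp at hfo
        refine ⟨(order h).toNat, (hΔ _).2 ⟨h, hh, (coe_toNat_order hh0).symm⟩, ?_⟩
        rw [← coe_toNat_order hh0] at hfo
        exact_mod_cast hfo.symm
      · rintro ⟨a, ha, rfl⟩
        obtain ⟨h, hh, hho⟩ := (hΔ a).1 ha
        refine ⟨X ^ s * h, ⟨h, hh, rfl⟩, ?_⟩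
        rw [order_mul, order_X_pow, hho]
        norm_cast

end Groth.Agent.Lib.T2H4.RankOneLattice
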