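import Mathlib
import Groth.Prelude.Def_Cyc
import Groth.Agent.Lib.T2H4OrdCongr
import Groth.Agent.Lib.T2H4DivFin
set_option backward.isDefEq.respectTransparency.types false

/-!
# Rational equivalence on an open subscheme extends up to a cycle on the complement (helper4)

Namespace `Groth.Agent.Lib.T2H4.RatOpen`.
-/

set_option autoImplicit false
set_option linter.style.haveILetI false
universe u
open CategoryTheory AlgebraicGeometry TopologicalSpace

namespace Groth.Agent.Lib.T2H4.RatOpen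

open Groth.Agent.Lib.T2H4.OrdCongr Groth.Agent.Lib.T2H4.DivFin

variable {X : Scheme.{u}}

/-- a family of points of an open `U`, locally finite in `U`, meets a Noetherian open `V` of the
ambient space in finitely many members -/
theorem finite_of_locallyFinite_open (U V : X.Opens) [NoetherianSpace (↑V : Scheme.{u})]
    {ι : Type u}
    (ξ : ι → (↑U : Scheme.{u}))
    (hloc : ∀ u : (↑U : Scheme.{u}), ∃ W : Set (↑U : Scheme.{u}), IsOpen W ∧ u ∈ W ∧
      {i | (closure {ξ i} ∩ W).Nonempty}.Finite) :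
    {i | U.ι (ξ i) ∈ V}.Finite := by
  choose W hWo hmem hfin using hloc
  let K : Set (↑U : Scheme.{u}) := {u | U.ι u ∈ V}
  have hK : IsCompact K := by
    have h1 : IsCompact (V.ι '' {v : (↑V : Scheme.{u}) | V.ι v ∈ U}) :=
      (NoetherianSpace.isCompact _).image V.ι.continuous
    have h2 : K = U.ι ⁻¹' (V.ι '' {v : (↑V : Scheme.{u}) | V.ι v ∈ U}) := by
      ext u
      constructor
      · intro hu
        exact ⟨⟨U.ι u, hu⟩, u.2, rfl⟩
      · rintro ⟨v, -, hv⟩
        change U.ι u ∈ V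
        rw [← hv]
        exact v.2
    rw [h2]
    refine (U.ι.isOpenEmbedding.isInducing.isCompact_preimage_iff ?_).2 h1
    rintro _ ⟨v, hv, rfl⟩
    exact ⟨⟨V.ι v, hv⟩, rfl⟩
  obtain ⟨t, -, ht⟩ := hK.elim_nhds_subcover W (fun u _ => (hWo u).mem_nhds (hmem u))
  refine (Set.Finite.biUnion t.finite_toSet (fun u _ => hfin u)).subset ?_
  intro i hi
  have hiK : ξ i ∈ K := hi
  obtain ⟨u, hut, hu⟩ := Set.mem_iUnion₂.1 (ht hiK)
  exact Set.mem_iUnion₂.2 ⟨u, hut, ⟨ξ i, subset_closure rfl, hu⟩⟩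

/-- **extension of rational equivalences from an open subscheme** -/
theorem main (δ : X → ℤ) (hX : Cyc.IsSetup X δ) (U : X.Opens) (k : ℤ)
    (α β : AlgebraicCycle X ℤ) (hα : α ∈ Cyc.Zk X δ k) (hβ : β ∈ Cyc.Zk X δ k)
    (αU βU : AlgebraicCycle (↑U : Scheme.{u}) ℤ) (hαU : ∀ u : ↥U, αU u = α (U.ι u))
    (hβU : ∀ u : ↥U, βU u = β (U.ι u))
    (h : Cyc.RatEquiv (fun u : ↥U => δ (U.ι u)) k αU βU) :
    ∃ γ : AlgebraicCycle X ℤ, γ ∈ Cyc.Zk X δ k ∧ (∀ x : X, x ∈ U → γ x = 0) ∧
      Cyc.RatEquiv δ k α (β + γ) := by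
  haveI : IsLocallyNoetherian X := hX.1
  have hδ := hX.2.2
  obtain ⟨ι, ξ, f, hξk, hf0, hloc, hsum⟩ := h
  -- transport the functions to `X`
  have hrm : ∀ i, Function.Bijective (U.ι.residueFieldMap (ξ i)).hom := fun i =>
    ConcreteCategory.bijective_of_isIso (U.ι.residueFieldMap (ξ i))
  choose f' hf' using fun i => (hrm i).2 (f i)
  have hf'0 : ∀ i, f' i ≠ 0 := by
    intro i h0
    apply hf0 i
    rw [← hf' i, h0, map_zero]
  -- finiteness in Noetherian affine opens
  have hfinV : ∀ V : X.Opens, IsAffineOpen V → {i | U.ι (ξ i) ∈ V}.Finite := by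
    intro V hV
    haveI : IsNoetherianRing Γ(X, V) := IsLocallyNoetherian.component_noetherian ⟨V, hV⟩
    haveI : NoetherianSpace V := noetherianSpace_of_isAffineOpen V hV
    exact finite_of_locallyFinite_open U V ξ hloc
  -- the cycle `Σ div(f' i)`
  let D : X → ℤ := fun x => ∑ᶠ i, Cyc.divFun δ (U.ι (ξ i)) (f' i) x
  have hDsupp : ∀ (V : X.Opens), IsAffineOpen V →
      ((V : Set X) ∩ Function.support D).Finite := by
    intro V hV
    haveI : IsNoetherianRing Γ(X, V) := IsLocallyNoetherian.component_noetherian ⟨V, hV⟩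
    have hfin1 := hfinV V hV
    have hfin2 : (⋃ i ∈ {i | U.ι (ξ i) ∈ V},
        {x : X | x ∈ V ∧ Cyc.divFun δ (U.ι (ξ i)) (f' i) x ≠ 0}).Finite :=
      Set.Finite.biUnion hfin1 (fun i _ => finite_divFun_support δ hδ hV _ (f' i) (hf'0 i))
    refine hfin2.subset ?_
    rintro x ⟨hxV, hx⟩
    rw [Function.mem_support] at hx
    obtain ⟨i, hi⟩ : ∃ i, Cyc.divFun δ (U.ι (ξ i)) (f' i) x ≠ 0 := by
      by_contra hcon
      push Not at hcon
      exact hx (finsum_eq_zero_of_forall_eq_zero hcon)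
    have hi' := hi
    unfold Cyc.divFun at hi'
    split_ifs at hi' with hc
    · exact Set.mem_iUnion₂.2 ⟨i, hc.1.mem_open V.isOpen hxV, hxV, hi⟩
    · exact absurd rfl hi'
  let Dc : AlgebraicCycle X ℤ :=
    { toFun := D
      supportWithinDomain' := by simp
      supportLocallyFiniteWithinDomain' := by
        intro x _
        obtain ⟨V, hV, hxV, -⟩ :=
          (TopologicalSpace.Opens.isBasis_iff_nbhd.mp X.isBasis_affineOpens) (Opens.mem_top x)
        exact ⟨V, V.isOpen.mem_nhds hxV, hDsupp V hV⟩ }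
  have hDc : ∀ x, Dc x = D x := fun _ => rfl
  -- the values on `U`
  have hDU : ∀ u : ↥U, D (U.ι u) = α (U.ι u) - β (U.ι u) := by
    intro u
    have h1 := hsum u
    have e1 : (αU - βU) u = αU u - βU u := rfl
    rw [e1, hαU, hβU] at h1
    rw [h1]
    refine finsum_congr fun i => ?_
    rw [← hf' i]
    exact (divFun_openImmersion U.ι δ (ξ i) (f' i) u).symm
  refine ⟨α - β - Dc, ?_, ?_, ?_⟩
  · intro x hx
    have e1 : (α - β - Dc) x = α x - β x - D x := rfl
    rw [e1, hα x hx, hβ x hx]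
    have : D x = 0 := by
      refine finsum_eq_zero_of_forall_eq_zero fun i => ?_
      unfold Cyc.divFun
      split_ifs with hc
      · exfalso
        have h3 : δ (U.ι (ξ i)) = k + 1 := hξk i
        apply hx
        omega
      · rfl
    rw [this]
    simp
  · intro x hxU
    have e1 : (α - β - Dc) x = α x - β x - D x := rfl
    have := hDU ⟨x, hxU⟩
    have hx : U.ι ⟨x, hxU⟩ = x := rfl
    rw [hx] at this
    rw [e1, this]
    ring
  · unfold Cyc.RatEquiv
    have e2 : α - (β + (α - β - Dc)) = Dc := by abel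
    rw [e2]
    refine ⟨ι, fun i => U.ι (ξ i), f', hξk, hf'0, ?_, fun x => rfl⟩
    intro x
    obtain ⟨V, hV, hxV, -⟩ :=
      (TopologicalSpace.Opens.isBasis_iff_nbhd.mp X.isBasis_affineOpens) (Opens.mem_top x)
    refine ⟨V, V.isOpen, hxV, (hfinV V hV).subset ?_⟩
    rintro i ⟨y, hy1, hy2⟩
    have hsp : U.ι (ξ i) ⤳ y := specializes_iff_mem_closure.2 hy1
    exact hsp.mem_open V.isOpen hy2

end Groth.Agent.Lib.T2H4.RatOpen
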