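import Groth.Agent.Lib.T2H4FibGor2
import Groth.Agent.Lib.T2H4Recog1
import Groth.Agent.Lib.T2H4FlatHom6
import Groth.Agent.Lib.T2H4Compl
import Groth.Agent.Lib.T2H4Shriek
import Groth.Agent.Lib.Helper19ComplDim2
import Groth.Agent.Lib.Helper19Jacobson

set_option autoImplicit false
set_option linter.style.haveILetI false
set_option backward.isDefEq.respectTransparency.types false
universe u
open CategoryTheory CategoryTheory.Limits TensorProduct
attribute [local instance] HasDerivedCategory.standard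

namespace Groth.Agent.Lib.T2H4.Recog

open DerivedCategory Pretriangulated Groth.Agent.Lib.T2H4.LocKL
  Groth.Agent.Lib.T2H4.TorIndep Groth.Agent.Lib.T2H4.FlatHom Groth.Agent.Lib.T2H4.DComp
  Groth.Agent.Lib.Helper1.Extend Groth.Agent.Lib.Helper1.Restrict Groth.Agent.Lib.T2H4.LocalDual
  Groth.Agent.Lib.T2H4.Uniq Groth.Agent.S14388 Groth.Agent.Lib.T2H4.FibGor

section BC

variable {R : Type u} [CommRing R] [IsNoetherianRing R] (S : Type u) [CommRing S] [Algebra R S]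
  [Module.Flat R S] [DRing.HasLBaseChange (algebraMap R S)]

/-- flat base change of `Ext^j(R/𝔪, K)`. -/
theorem nonempty_hom_quot_map_equiv (m : Ideal R) (K : Dual.D R) (a : ℤ) [K.IsGE a] (j : ℤ) :
    Nonempty ((S ⊗[R] (Dual.inD R (R ⧸ m) ⟶ K⟦j⟧)) ≃ₗ[S]
      (Dual.inD S (S ⧸ m.map (algebraMap R S)) ⟶
        ((DRing.LBaseChange (algebraMap R S)).obj K)⟦j⟧)) := by
  letI : (DRing.LBaseChange (algebraMap R S)).CommShift ℤ :=
    (lbcAdj (algebraMap R S)).leftAdjointCommShift ℤ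
  let X := Dual.inD R (R ⧸ m)
  obtain ⟨eX⟩ := nonempty_inD_quot_map_iso S m
  let σ : (DRing.LBaseChange (algebraMap R S)).obj (K⟦j⟧) ≅
      ((DRing.LBaseChange (algebraMap R S)).obj K)⟦j⟧ :=
    ((DRing.LBaseChange (algebraMap R S)).commShiftIso j).app K
  haveI : (K⟦j⟧).IsGE (a - j) := tt.isGE_shift K a j (a - j) (by lia)
  have e0 : X⟦(0 : ℤ)⟧ ≅ X := (shiftFunctorZero (Dual.D R) ℤ).app X
  have hΘ : Function.Bijective (ΘN S (ηB S (K⟦j⟧)) X) :=
    ΘN_of_iso S e0 (bijective_ΘN_unit S X (K⟦j⟧) (a - j) 0 0 (isZero_HD_inD _)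
      (finite_HD_inD (R ⧸ m)) 0)
  have hbij := lbcHom_bijective S X (K⟦j⟧) hΘ
  let Φl : (S ⊗[R] (X ⟶ K⟦j⟧)) →ₗ[S]
      ((DRing.LBaseChange (algebraMap R S)).obj X ⟶
        (DRing.LBaseChange (algebraMap R S)).obj (K⟦j⟧)) :=
    { toFun := lbcHom S X (K⟦j⟧)
      map_add' := lbcHom_add S X (K⟦j⟧)
      map_smul' := fun s z => lbcHom_smul S X (K⟦j⟧) s z }
  let Φ := LinearEquiv.ofBijective Φl hbij
  exact ⟨Φ ≪≫ₗ Linear.homCongr S eX.symm σ⟩

end BC

section Main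

variable (A : Type u) [CommRing A] [IsLocalRing A] [IsNoetherianRing A]

/-- **S11171**: an object of `D^+_coh` over a Noetherian local ring whose `Ext^•(k, R)` is
one-dimensional is a dualizing complex. -/
theorem isDualizing_of_single_degree (R : Dual.D A)
    (hfin : ∀ i : ℤ, Module.Finite A (Dual.HD A R i)) (a : ℤ) [R.IsGE a] (d : ℤ)
    (hvan : ∀ i : ℤ, i ≠ d → Subsingleton (Dual.inD A (kk A) ⟶ R⟦i⟧))
    (θ : (Dual.inD A (kk A) ⟶ R⟦d⟧) ≃ₗ[A] kk A) : Dual.IsDualizing A R := by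
  let m := IsLocalRing.maximalIdeal A
  let B := AdicCompletion m A
  have hmtop : m ≠ ⊤ := (IsLocalRing.maximalIdeal.isMaximal A).ne_top
  have fg : m.FG := IsNoetherian.noetherian m
  haveI : IsNoetherianRing B := Groth.Agent.S0543.result A m
  haveI : IsLocalRing B := Groth.Agent.Lib.Helper19.isLocalRing_adicCompletion A hmtop
  have hmax := AdicCompletion.isMaximal_map_of_le m m le_rfl fg
  have hmap : m.map (algebraMap A B) = IsLocalRing.maximalIdeal B :=
    IsLocalRing.eq_maximalIdeal hmax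
  haveI hc : IsAdicComplete (IsLocalRing.maximalIdeal B) B := by
    rw [← hmap]
    exact AdicCompletion.isAdicComplete_self m fg
  haveI : Module.FaithfullyFlat A B :=
    Groth.Agent.Lib.Helper19.faithfullyFlat_adicCompletion_of_le_jacobson A m
      (IsLocalRing.maximalIdeal_le_jacobson ⊥)
  haveI : Module.Flat A B := inferInstance
  haveI : DRing.HasLBaseChange (algebraMap A B) := LDerExist.hasLBaseChange _
  obtain ⟨ω, hω⟩ := Groth.Agent.Lib.T2H4.EssFT.hasDualizing_of_complete_local B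
  let RB := (DRing.LBaseChange (algebraMap A B)).obj R
  haveI : RB.IsGE a := Groth.Agent.Lib.T2H4.Shriek.isGE_lbc_of_flat A B R a inferInstance
  have hfinB : ∀ i : ℤ, Module.Finite B (Dual.HD B RB i) :=
    fun i => finite_HD_lbc A B R i (hfin i)
  have hvanB : ∀ i : ℤ, i ≠ d → Subsingleton (Dual.inD B (kk B) ⟶ RB⟦i⟧) := by
    intro i hi
    have h1 := subsingleton_hom_quot_map B R a m i (hvan i hi)
    rw [hmap] at h1
    exact h1
  obtain ⟨Ψ⟩ := nonempty_hom_quot_map_equiv B m R a d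
  let e2 : (B ⧸ m.map (algebraMap A B)) ≃ₗ[B] B ⊗[A] (A ⧸ m) :=
    (Algebra.TensorProduct.quotIdealMapEquivTensorQuot B m).toLinearEquiv
  let e3 : (B ⊗[A] (Dual.inD A (A ⧸ m) ⟶ R⟦d⟧)) ≃ₗ[B] B ⊗[A] (A ⧸ m) :=
    TensorProduct.AlgebraTensorModule.congr (LinearEquiv.refl B B) θ
  let θ' : (Dual.inD B (B ⧸ m.map (algebraMap A B)) ⟶ RB⟦d⟧) ≃ₗ[B]
      (B ⧸ m.map (algebraMap A B)) := Ψ.symm ≪≫ₗ e3 ≪≫ₗ e2.symm
  have θB : Nonempty ((Dual.inD B (kk B) ⟶ RB⟦d⟧) ≃ₗ[B] kk B) := by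
    rw [hmap] at θ'
    exact ⟨θ'⟩
  obtain ⟨θB⟩ := θB
  have hRB : Dual.IsDualizing B RB :=
    isDualizing_of_single_degree_of_isDualizing ω hω RB hfinB a d hvanB θB
  exact isDualizing_of_lbc B R hRB

end Main

end Groth.Agent.Lib.T2H4.Recog
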