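import Groth.Agent.Lib.T2H4Ref1Alg

/-!
# Lattices of rank one over a discrete valuation ring (helper4)

A finite `R`-module `M` embedded semilinearly into a one-dimensional `K`-vector space `V` and spanning it is generated by
one element; the image of `M` is `{α • ι a | α ∈ R}` for any generator `a`.
-/

set_option autoImplicit false
set_option linter.style.haveILetI false
universe u

namespace Groth.Agent.Lib.T2H4.Ref1Alg

variable {R : Type u} [CommRing R] [IsDomain R] [IsDiscreteValuationRing R]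
  {K : Type u} [Field K] [Algebra R K] [IsFractionRing R K]
  {M : Type u} [AddCommGroup M] [Module R M] {V : Type u} [AddCommGroup V] [Module K V]

theorem exists_generator {o : K → ℤ} (ho : IsOrd R K o) (ι : M → V)
    (hsl : ∀ (r : R) (m : M), ι (r • m) = algebraMap R K r • ι m)
    (hzero : ι 0 = 0)
    (hinj : Function.Injective ι) [Module.Finite R M] (hV : Module.finrank K V = 1) :
    ∃ a : M, Submodule.span R {a} = ⊤ := by
  classical
  obtain ⟨e, he0, he⟩ := finrank_eq_one_iff'.1 hV
  obtain ⟨S, hS⟩ := Module.Finite.fg_top (R := R) (M := M)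
  choose α hα using fun m : M => he (ι m)
  by_cases hex : ∃ m ∈ S, α m ≠ 0
  · obtain ⟨m₁, hm₁S, hm₁⟩ := hex
    let S' := S.filter (fun m => α m ≠ 0)
    have hS'ne : S'.Nonempty := ⟨m₁, Finset.mem_filter.2 ⟨hm₁S, hm₁⟩⟩
    obtain ⟨m₀, hm₀S', hmin⟩ := Finset.exists_min_image S' (fun m => o (α m)) hS'ne
    have hα₀ : α m₀ ≠ 0 := (Finset.mem_filter.1 hm₀S').2
    refine ⟨m₀, ?_⟩
    rw [eq_top_iff, ← hS, Submodule.span_le]
    intro m hm
    by_cases hαm : α m = 0
    · have h0 : m = 0 := hinj (by rw [← hα m, hαm, zero_smul, hzero])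
      rw [h0]
      exact Submodule.zero_mem _
    · have hm' : m ∈ S' := Finset.mem_filter.2 ⟨hm, hαm⟩
      have hle := hmin m hm'
      have hq : α m / α m₀ ≠ 0 := div_ne_zero hαm hα₀
      have hnn : 0 ≤ o (α m / α m₀) := by
        have h1 := ho.mul (α m / α m₀) (α m₀) hq hα₀
        rw [div_mul_cancel₀ _ hα₀] at h1
        omega
      obtain ⟨r, hr⟩ := (ho.nonneg_iff _ hq).1 hnn
      have h2 : m = r • m₀ := hinj (by
        rw [hsl, hr, ← hα m, ← hα m₀, smul_smul, div_mul_cancel₀ _ hα₀])
      rw [h2]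
      exact Submodule.smul_mem _ _ (Submodule.mem_span_singleton_self _)
  · refine ⟨0, ?_⟩
    rw [eq_top_iff, ← hS, Submodule.span_le]
    intro m hm
    have hαm : α m = 0 := by
      by_contra hne
      exact hex ⟨m, hm, hne⟩
    have h0 : m = 0 := hinj (by rw [← hα m, hαm, zero_smul, hzero])
    rw [h0]
    exact Submodule.zero_mem _

/-- for a generator `a` of `M`, `α • ι a` lies in the image of `M` iff `α ∈ R` -/
theorem smul_mem_range_iff (ι : M → V)
    (hsl : ∀ (r : R) (m : M), ι (r • m) = algebraMap R K r • ι m)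
    (a : M) (ha : Submodule.span R {a} = ⊤) (hιa : ι a ≠ 0) (α : K) :
    α • ι a ∈ Set.range ι ↔ α ∈ Set.range (algebraMap R K) := by
  constructor
  · rintro ⟨m, hm⟩
    have hmem : m ∈ Submodule.span R {a} := by rw [ha]; trivial
    obtain ⟨r, rfl⟩ := Submodule.mem_span_singleton.1 hmem
    rw [hsl] at hm
    exact ⟨r, smul_left_injective K hιa hm⟩
  · rintro ⟨r, rfl⟩
    exact ⟨r • a, hsl r a⟩

end Groth.Agent.Lib.T2H4.Ref1Alg
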