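import Mathlib
import Groth.Agent.Lib.Helper28Normal
set_option backward.isDefEq.respectTransparency.types false

/-!
# Algebra for S16084 (helper4): a socle element of `M / A m₀` forces dimension one
-/

set_option autoImplicit false
set_option linter.style.haveILetI false
set_option linter.unusedSectionVars false
universe u

namespace Groth.Agent.Lib.T2H4.RefSecAlg

/-- a reflexive module over a domain is torsion-free -/
theorem eq_zero_of_smul_eq_zero_of_isReflexive {A : Type*} [CommRing A] [IsDomain A] {M : Type*}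
    [AddCommGroup M] [Module A M] [Module.IsReflexive A M] {a : A} (ha : a ≠ 0) {v : M}
    (h : a • v = 0) : v = 0 := by
  apply (Module.bijective_dual_eval A M).1
  rw [map_zero]
  ext f
  rw [Module.Dual.eval_apply, LinearMap.zero_apply]
  have h1 : a * f v = 0 := by
    rw [← smul_eq_mul, ← map_smul, h, map_zero]
  exact (mul_eq_zero.1 h1).resolve_left ha

/-- Let `M` be a finite module over a Noetherian local ring and `m₀ ∈ M` not generating `M`, such
that for every prime `𝔭 ≠ 𝔪` and every `u ∈ M` some `t ∉ 𝔭` has `t u ∈ A m₀`.  Then there is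
`u ∉ A m₀` with `𝔪 u ⊆ A m₀`. -/
theorem exists_socle {A : Type*} [CommRing A] [IsLocalRing A] [IsNoetherianRing A] {M : Type*}
    [AddCommGroup M] [Module A M] [Module.Finite A M] (m₀ : M)
    (hns : ∃ u : M, ∀ c : A, c • m₀ ≠ u)
    (hloc : ∀ (𝔭 : Ideal A), 𝔭.IsPrime → 𝔭 ≠ IsLocalRing.maximalIdeal A → ∀ u : M,
      ∃ t : A, t ∉ 𝔭 ∧ ∃ c : A, t • u = c • m₀) :
    ∃ u : M, (∀ c : A, c • m₀ ≠ u) ∧
      ∀ a ∈ IsLocalRing.maximalIdeal A, ∃ c : A, a • u = c • m₀ := by
  obtain ⟨S, hS⟩ : ∃ S : Submodule A M, S = Submodule.span A {m₀} := ⟨_, rfl⟩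
  have hmemS : ∀ v : M, v ∈ S ↔ ∃ c : A, c • m₀ = v := by
    intro v
    rw [hS, Submodule.mem_span_singleton]
  haveI : Nontrivial (M ⧸ S) := by
    obtain ⟨u, hu⟩ := hns
    refine ⟨⟨S.mkQ u, 0, ?_⟩⟩
    intro h
    rw [Submodule.mkQ_apply, Submodule.Quotient.mk_eq_zero, hmemS] at h
    obtain ⟨c, hc⟩ := h
    exact hu c hc
  obtain ⟨p, hp⟩ := associatedPrimes.nonempty A (M ⧸ S)
  obtain ⟨hpp, qb, hq⟩ := (isAssociatedPrime_iff).1 hp
  obtain ⟨u, rfl⟩ := S.mkQ_surjective qb
  have hmemp : ∀ a : A, a ∈ p ↔ a • u ∈ S := by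
    intro a
    rw [hq, Submodule.mem_colon_singleton, Submodule.mem_bot, ← map_smul, Submodule.mkQ_apply,
      Submodule.Quotient.mk_eq_zero]
  have hpm : p = IsLocalRing.maximalIdeal A := by
    by_contra hne
    obtain ⟨t, htp, c, hc⟩ := hloc p hpp hne u
    apply htp
    rw [hmemp, hmemS]
    exact ⟨c, hc.symm⟩
  refine ⟨u, ?_, ?_⟩
  · intro c hc
    apply hpp.ne_top
    rw [Ideal.eq_top_iff_one, hmemp, one_smul, hmemS]
    exact ⟨c, hc⟩
  · intro a ha
    rw [← hpm, hmemp, hmemS] at ha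
    obtain ⟨c, hc⟩ := ha
    exact ⟨c, hc.symm⟩

variable {A : Type u} [CommRing A] [IsLocalRing A] [IsNoetherianRing A] [IsDomain A]
  [IsIntegrallyClosed A]

/-- Let `A` be a normal Noetherian local domain which is not a field, `M` a torsion-free module,
`m₀ ≠ 0` in `M` and `u ∉ A m₀` with `𝔪 u ⊆ A m₀`.  Then `dim A = 1`. -/
theorem ringKrullDim_eq_one_of_socle (hA : ¬ IsField A) {M : Type*} [AddCommGroup M] [Module A M]
    (htf : ∀ a : A, a ≠ 0 → ∀ v : M, a • v = 0 → v = 0) (m₀ u : M) (hm₀ : m₀ ≠ 0)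
    (hu : ∀ c : A, c • m₀ ≠ u)
    (hmu : ∀ a ∈ IsLocalRing.maximalIdeal A, ∃ c : A, a • u = c • m₀) :
    ringKrullDim A = 1 := by
  have hinj : ∀ c c' : A, c • m₀ = c' • m₀ → c = c' := by
    intro c c' h
    by_contra hne
    apply hm₀
    apply htf (c - c') (sub_ne_zero.2 hne)
    rw [sub_smul, h, sub_self]
  have hmne : IsLocalRing.maximalIdeal A ≠ ⊥ := by
    intro h
    exact hA (IsLocalRing.isField_iff_maximalIdeal_eq.2 h)
  obtain ⟨x, hxm, hx0⟩ := Submodule.exists_mem_ne_zero_of_ne_bot hmne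
  obtain ⟨b, hb⟩ := hmu x hxm
  have hprin : (IsLocalRing.maximalIdeal A).IsPrincipal := by
    refine Groth.Agent.Lib.Helper28.isPrincipal_maximalIdeal_of_colon (a := x) (b := b) hx0 hxm ?_ ?_
    · intro hbx
      obtain ⟨c, hc⟩ := Ideal.mem_span_singleton'.1 hbx
      apply hu c
      apply sub_eq_zero.1
      apply htf x hx0
      rw [smul_sub, hb, ← hc, smul_smul, mul_comm x c, sub_self]
    · intro a ha
      obtain ⟨c, hc⟩ := hmu a ha
      rw [Ideal.mem_span_singleton']
      refine ⟨c, ?_⟩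
      apply hinj
      calc (c * x) • m₀ = x • (c • m₀) := by rw [smul_smul, mul_comm]
        _ = x • (a • u) := by rw [hc]
        _ = a • (x • u) := smul_comm _ _ _
        _ = a • (b • m₀) := by rw [hb]
        _ = (b * a) • m₀ := by rw [smul_smul, mul_comm]
  have hle : (IsLocalRing.maximalIdeal A).height ≤ 1 := by
    obtain ⟨g, hg⟩ := hprin
    have hmin : IsLocalRing.maximalIdeal A ∈ (Ideal.span {g}).minimalPrimes := by
      have hgeq : Ideal.span {g} = IsLocalRing.maximalIdeal A := by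
        rw [hg]
      rw [hgeq]
      exact ⟨⟨inferInstance, le_rfl⟩, fun q hq _ => hq.2⟩
    exact Ideal.height_le_one_of_isPrincipal_of_mem_minimalPrimes (Ideal.span {g})
      (IsLocalRing.maximalIdeal A) hmin
  have hne0 : (IsLocalRing.maximalIdeal A).height ≠ 0 := by
    intro h0
    exact hmne (Ideal.height_eq_zero_iff_eq_bot.1 h0)
  have h1 : (IsLocalRing.maximalIdeal A).height = 1 :=
    le_antisymm hle (Order.one_le_iff_pos.2 (pos_iff_ne_zero.2 hne0))
  rw [← IsLocalRing.maximalIdeal_height_eq_ringKrullDim, h1]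
  rfl

end Groth.Agent.Lib.T2H4.RefSecAlg
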