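import Mathlib
import Groth.Agent.Lib.T2H4RefSecAlg
import Groth.Agent.Lib.Helper2QCoh
import Groth.Agent.Lib.T2H3ReflexiveHom
import Groth.Agent.Lib.T2H4GenRank
set_option backward.isDefEq.respectTransparency.types false

/-!
# The non-isomorphism locus of a section of a rank one reflexive module has pure codimension one
(helper4, S16084)
-/

set_option autoImplicit false
set_option linter.style.haveILetI false
set_option linter.unusedSectionVars false
universe u

open AlgebraicGeometry CategoryTheory Limits TopologicalSpace Opposite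

namespace Groth.Agent.Lib.T2H4.RefSec

open Groth.Agent.Lib.Helper2.QCoh

variable {X : Scheme.{u}}

/-- the generic point of an integral scheme lies in every nonempty open -/
theorem genericPoint_mem [IsIntegral X] (W : X.Opens) (x : X) (hx : x ∈ W) : genericPoint X ∈ W :=
  ((genericPoint_spec X).mem_open_set_iff W.2).2 ⟨x, Set.mem_univ x, hx⟩

/-- on an integral scheme, a global section of a quasi-coherent module with torsion-free stalks has
either all germs zero or all germs nonzero -/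
theorem germ_ne_zero_of_ne_zero [IsIntegral X] (F : X.Modules) [F.IsQuasicoherent]
    (htf : ∀ (x : X) (a : X.presheaf.stalk x), a ≠ 0 → ∀ v : F.presheaf.stalk x, a • v = 0 → v = 0)
    (s : Γ(F, ⊤)) (hs : s ≠ 0) (x : X) : F.presheaf.germ ⊤ x trivial s ≠ 0 := by
  intro h0
  apply hs
  -- the germ at the generic point vanishes
  have hη : F.presheaf.germ ⊤ (genericPoint X) trivial s = 0 := by
    have h0' : F.presheaf.germ ⊤ x trivial s = F.presheaf.germ ⊤ x trivial 0 := by
      rw [h0, map_zero]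
    obtain ⟨W, hxW, i₁, i₂, hW⟩ := F.presheaf.germ_eq x (Opens.mem_top x) (Opens.mem_top x) s 0 h0'
    rw [map_zero] at hW
    have hηW := genericPoint_mem W x hxW
    rw [← TopCat.Presheaf.germ_res_apply F.presheaf i₁ (genericPoint X) hηW s, hW, map_zero]
  -- all germs vanish
  refine TopCat.Presheaf.section_ext ⟨F.presheaf, F.isSheaf⟩ ⊤ _ _ (fun x' hx' => ?_)
  change F.presheaf.germ ⊤ x' hx' s = F.presheaf.germ ⊤ x' hx' 0
  rw [map_zero]
  obtain ⟨U, hU, hx'U, -⟩ :=
    (TopologicalSpace.Opens.isBasis_iff_nbhd.mp X.isBasis_affineOpens) (Opens.mem_top x')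
  have hηU := genericPoint_mem U x' hx'U
  obtain ⟨n, hn⟩ : ∃ n : Γ(F, U), n = F.presheaf.map (homOfLE (le_top : U ≤ ⊤)).op s := ⟨_, rfl⟩
  have hgn : ∀ (y : X) (hy : y ∈ U), F.presheaf.germ U y hy n = F.presheaf.germ ⊤ y trivial s := by
    intro y hy
    rw [hn]
    exact TopCat.Presheaf.germ_res_apply F.presheaf (homOfLE (le_top : U ≤ ⊤)) y hy s
  have hηn : F.presheaf.germ U (genericPoint X) hηU n = 0 := by rw [hgn, hη]
  obtain ⟨r, hηr, hrn⟩ := exists_smul_eq_zero_of_germ_eq_zero hU F (genericPoint X) hηU n hηn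
  have hr0 : r ≠ 0 := by
    intro h
    rw [h, Scheme.basicOpen_zero] at hηr
    exact hηr
  have hgr : X.presheaf.germ U x' hx'U r ≠ 0 := by
    intro h
    apply hr0
    apply germ_injective_of_isIntegral X x' hx'U
    rw [h, map_zero]
  rw [← hgn x' hx'U]
  apply htf x' _ hgr
  rw [← germ_smul, hrn, map_zero]

/-- every element of the local ring at a point of an affine open is a fraction of germs -/
theorem exists_germ_mul_eq {U : X.Opens} (hU : IsAffineOpen U) (y : X) (hyU : y ∈ U)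
    (a : X.presheaf.stalk y) :
    ∃ r t : Γ(X, U), t ∉ (hU.primeIdealOf ⟨y, hyU⟩).asIdeal ∧
      a * X.presheaf.germ U y hyU t = X.presheaf.germ U y hyU r := by
  letI : Algebra Γ(X, U) (X.presheaf.stalk y) :=
    TopCat.Presheaf.algebra_section_stalk X.presheaf (⟨y, hyU⟩ : U)
  haveI : IsLocalization.AtPrime (X.presheaf.stalk y) (hU.primeIdealOf ⟨y, hyU⟩).asIdeal :=
    hU.isLocalization_stalk ⟨y, hyU⟩
  obtain ⟨⟨r, t⟩, h⟩ := IsLocalization.surj (hU.primeIdealOf ⟨y, hyU⟩).asIdeal.primeCompl a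
  exact ⟨r, t.1, t.2, h⟩

/-- If `a ↦ a • s_y` is surjective at all proper generizations `y` of `z`, then for every
non-maximal prime `𝔭` of `O_{X,z}` and every `u ∈ F_z`, some `t ∉ 𝔭` has `t u ∈ O_{X,z} s_z`. -/
theorem exists_smul_eq_smul_germ (F : X.Modules) [F.IsQuasicoherent] (s : Γ(F, ⊤)) (z : X)
    (hsurj : ∀ y : X, y ⤳ z → y ≠ z →
      Function.Surjective (fun a : X.presheaf.stalk y => a • F.presheaf.germ ⊤ y trivial s))
    (𝔭 : Ideal (X.presheaf.stalk z)) (h𝔭 : 𝔭.IsPrime)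
    (hne : 𝔭 ≠ IsLocalRing.maximalIdeal (X.presheaf.stalk z)) (u : F.presheaf.stalk z) :
    ∃ t : X.presheaf.stalk z, t ∉ 𝔭 ∧
      ∃ c : X.presheaf.stalk z, t • u = c • F.presheaf.germ ⊤ z trivial s := by
  obtain ⟨U, hU, hzU, -⟩ :=
    (TopologicalSpace.Opens.isBasis_iff_nbhd.mp X.isBasis_affineOpens) (Opens.mem_top z)
  obtain ⟨n, hn⟩ : ∃ n : Γ(F, U), n = F.presheaf.map (homOfLE (le_top : U ≤ ⊤)).op s := ⟨_, rfl⟩
  have hgn : ∀ (y : X) (hy : y ∈ U), F.presheaf.germ U y hy n = F.presheaf.germ ⊤ y trivial s := by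
    intro y hy
    rw [hn]
    exact TopCat.Presheaf.germ_res_apply F.presheaf (homOfLE (le_top : U ≤ ⊤)) y hy s
  -- the prime of `Γ(X, U)` below `𝔭`
  obtain ⟨q, hq⟩ : ∃ q : PrimeSpectrum Γ(X, U),
      q.asIdeal = 𝔭.comap (X.presheaf.germ U z hzU).hom :=
    ⟨⟨𝔭.comap (X.presheaf.germ U z hzU).hom, Ideal.comap_isPrime _ _⟩, rfl⟩
  have hmemq : ∀ r : Γ(X, U), r ∈ q.asIdeal ↔ X.presheaf.germ U z hzU r ∈ 𝔭 := by
    intro r
    rw [hq]
    rfl
  have h𝔭le : 𝔭 ≤ IsLocalRing.maximalIdeal (X.presheaf.stalk z) :=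
    IsLocalRing.le_maximalIdeal h𝔭.ne_top
  have hqle : q.asIdeal ≤ (hU.primeIdealOf ⟨z, hzU⟩).asIdeal := by
    intro r hr
    rw [← germ_mem_maximalIdeal_iff hU z hzU]
    exact h𝔭le ((hmemq r).1 hr)
  obtain ⟨y, hy⟩ : ∃ y : X, y = hU.fromSpec q := ⟨_, rfl⟩
  have hyU : y ∈ U := by rw [hy]; exact fromSpec_mem hU q
  have hyq : hU.primeIdealOf ⟨y, hyU⟩ = q := by
    subst hy
    exact primeIdealOf_fromSpec hU q
  have hyz : y ⤳ z := by
    rw [hy]
    exact fromSpec_specializes hU q z hzU hqle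
  have hynez : y ≠ z := by
    intro heq
    apply hne
    refine le_antisymm h𝔭le ?_
    intro a ha
    obtain ⟨r, t, ht, hat⟩ := exists_germ_mul_eq hU z hzU a
    have hqP : q = hU.primeIdealOf ⟨z, hzU⟩ := by
      rw [← hyq]
      congr 1
      exact Subtype.ext heq
    have htu : IsUnit (X.presheaf.germ U z hzU t) := by
      by_contra hnu
      exact ht ((germ_mem_maximalIdeal_iff hU z hzU t).1
        ((IsLocalRing.mem_maximalIdeal _).2 hnu))
    have hr : r ∈ q.asIdeal := by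
      rw [hqP, ← germ_mem_maximalIdeal_iff hU z hzU, ← hat]
      exact Ideal.mul_mem_right _ _ ha
    have hr' := (hmemq r).1 hr
    rw [← hat] at hr'
    exact (h𝔭.mem_or_mem hr').resolve_right (fun h => h𝔭.ne_top (Ideal.eq_top_of_isUnit_mem _ h htu))
  -- write `u` as a fraction
  obtain ⟨t₀, w', hzt₀, ht₀⟩ := exists_smul_eq_germ hU F z hzU u
  obtain ⟨a, ha⟩ := hsurj y hyz hynez (F.presheaf.germ U y hyU w')
  have ha' : a • F.presheaf.germ U y hyU n = F.presheaf.germ U y hyU w' := by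
    rw [hgn]; exact ha
  obtain ⟨r, t₁, ht₁, hat₁⟩ := exists_germ_mul_eq hU y hyU a
  have hzero : F.presheaf.germ U y hyU (t₁ • w' - r • n) = 0 := by
    rw [map_sub, germ_smul, germ_smul, ← ha', smul_smul, mul_comm, hat₁, sub_self]
  obtain ⟨t₂, hyt₂, ht₂⟩ := exists_smul_eq_zero_of_germ_eq_zero hU F y hyU _ hzero
  rw [smul_sub, sub_eq_zero] at ht₂
  refine ⟨X.presheaf.germ U z hzU (t₂ * t₁ * t₀), ?_, X.presheaf.germ U z hzU (t₂ * r), ?_⟩
  · rw [← hmemq]
    intro hmem
    rcases q.isPrime.mem_or_mem hmem with h12 | h0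
    · rcases q.isPrime.mem_or_mem h12 with h2 | h1
      · rw [hy, mem_basicOpen_fromSpec_iff] at hyt₂
        exact hyt₂ h2
      · rw [hyq] at ht₁
        exact ht₁ h1
    · have := (Groth.Agent.Lib.Helper2.mem_basicOpen_iff_notMem_primeIdealOf hU z hzU t₀).1 hzt₀
      exact this (hqle h0)
  · rw [map_mul, mul_smul, ht₀, ← germ_smul, mul_smul, ht₂, ← mul_smul, germ_smul, hgn]

/-- **S16084.** -/
theorem main (X : Scheme.{u}) [IsIntegral X] [IsLocallyNoetherian X]
    (hX : Pi1.IsNormalScheme X) (F : X.Modules) (hF : RefHull.IsRef1 F) (s : Γ(F, ⊤)) (hs : s ≠ 0)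
    (z : X)
    (hz : ¬ Function.Bijective fun a : X.presheaf.stalk z => a • F.presheaf.germ ⊤ z trivial s)
    (hmax : ∀ y : X,
      ¬ Function.Bijective (fun a : X.presheaf.stalk y => a • F.presheaf.germ ⊤ y trivial s) →
      y ⤳ z → y = z) :
    ringKrullDim (X.presheaf.stalk z) = 1 := by
  obtain ⟨hcoh, href, hgen⟩ := hF
  haveI : F.IsQuasicoherent := hcoh.1
  have hrefl := (Groth.Agent.Lib.T2H3.Reflexive.isReflexive_iff_forall_isReflexiveAt F hcoh).1 href
  have htf : ∀ (x : X) (a : X.presheaf.stalk x), a ≠ 0 → ∀ v : F.presheaf.stalk x,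
      a • v = 0 → v = 0 := by
    intro x a ha v hv
    haveI := (hX x).1
    haveI : Module.IsReflexive (X.presheaf.stalk x) (F.presheaf.stalk x) := hrefl x
    exact Groth.Agent.Lib.T2H4.RefSecAlg.eq_zero_of_smul_eq_zero_of_isReflexive ha hv
  have hm₀ := germ_ne_zero_of_ne_zero F htf s hs
  have hinj : ∀ x : X, Function.Injective
      (fun a : X.presheaf.stalk x => a • F.presheaf.germ ⊤ x trivial s) := by
    intro x a b hab
    by_contra hne
    apply hm₀ x
    apply htf x (a - b) (sub_ne_zero.2 hne)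
    rw [sub_smul]
    exact sub_eq_zero.2 hab
  have hsurj : ∀ y : X, y ⤳ z → y ≠ z → Function.Surjective
      (fun a : X.presheaf.stalk y => a • F.presheaf.germ ⊤ y trivial s) := by
    intro y hyz hne
    by_contra hns
    exact hne (hmax y (fun hb => hns hb.2) hyz)
  have hnsz : ¬ Function.Surjective
      (fun a : X.presheaf.stalk z => a • F.presheaf.germ ⊤ z trivial s) :=
    fun h => hz ⟨hinj z, h⟩
  haveI := (hX z).1
  haveI := (hX z).2
  by_cases hfield : IsField (X.presheaf.stalk z)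
  · exfalso
    have hdim0 : ringKrullDim (X.presheaf.stalk z) = 0 := ringKrullDim_eq_zero_of_isField hfield
    rw [ringKrullDim_stalk_eq_coheight] at hdim0
    have hmaxz : IsMax z := Order.coheight_eq_zero.1 (by exact_mod_cast hdim0)
    have h1 : genericPoint X ⤳ z := (genericPoint_spec X).specializes (Set.mem_univ z)
    have h2 : z ⤳ genericPoint X := hmaxz (show z ≤ genericPoint X from h1)
    have hzη : z = genericPoint X := (h2.antisymm h1).eq
    subst hzη
    exact hnsz (Groth.Agent.Lib.T2H4.GenRank.surjective_smul_generic F hgen _ (hm₀ _))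
  · haveI := Groth.Agent.Lib.T2H3.ReflexiveHom.finite_stalk_of_isCoh F hcoh z
    have hns : ∃ u : F.presheaf.stalk z, ∀ c : X.presheaf.stalk z,
        c • F.presheaf.germ ⊤ z trivial s ≠ u := by
      by_contra hcon
      push Not at hcon
      exact hnsz hcon
    obtain ⟨u, hu, hmu⟩ := Groth.Agent.Lib.T2H4.RefSecAlg.exists_socle
      (F.presheaf.germ ⊤ z trivial s) hns
      (fun 𝔭 h𝔭 hne u => exists_smul_eq_smul_germ F s z hsurj 𝔭 h𝔭 hne u)
    exact Groth.Agent.Lib.T2H4.RefSecAlg.ringKrullDim_eq_one_of_socle hfield (htf z) _ u (hm₀ z)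
      hu hmu

end Groth.Agent.Lib.T2H4.RefSec
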