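import Mathlib
import Groth.Agent.Lib.Helper23Extend2

/-!
# Extension of finite type quasi-coherent submodules on schemes with locally Noetherian space (T2 helper5)

Sections-level toolkit for monomorphisms of `X.Modules`, and the Zorn argument extending a quasi-coherent module
which is of finite type on an open to a finite type quasi-coherent submodule.
-/

set_option autoImplicit false
set_option linter.style.haveILetI false
set_option linter.unusedSectionVars false
universe u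
open CategoryTheory Limits AlgebraicGeometry TopologicalSpace Opposite

namespace Groth.Agent.Lib.T2H5.ExtLN

open Groth.Agent.Lib.Helper23.QCohLocal Groth.Agent.Lib.Helper2.Push Groth.Agent.Lib.Helper2.QCoh
  Groth.Agent.Lib.Helper23.FinType Groth.Agent.Lib.Helper23.ModLocal Groth.Agent.Lib.Helper23.Extend

variable {X : Scheme.{u}}

section Sections

/-- the sections functor over an open -/
noncomputable def secF (V : X.Opens) : X.Modules ⥤ Ab.{u} :=
  Scheme.Modules.toPresheaf X ⋙ (evaluation (Opens ↥X)ᵒᵖ Ab.{u}).obj (op V)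

noncomputable instance instPLEval (V : X.Opens) :
    PreservesLimitsOfSize.{u, u} ((evaluation (Opens ↥X)ᵒᵖ Ab.{u}).obj (op V)) := inferInstance

noncomputable instance instPLSecF (V : X.Opens) : PreservesLimitsOfSize.{u, u} (secF (X := X) V) := by
  unfold secF
  have := instPLEval (X := X) V
  exact comp_preservesLimits _ _

theorem secF_map (V : X.Opens) {M N : X.Modules} (φ : M ⟶ N) : (secF V).map φ = φ.app V := rfl

instance (V : X.Opens) : (secF (X := X) V).PreservesZeroMorphisms where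
  map_zero := fun _ _ => rfl

theorem comp_app_apply {A B C : X.Modules} (φ : A ⟶ B) (ψ : B ⟶ C) (V : X.Opens) (x : Γ(A, V)) :
    (φ ≫ ψ).app V x = ψ.app V (φ.app V x) := rfl

/-- left exactness of sections -/
theorem exact_app (S : ShortComplex X.Modules) (hS : S.Exact) [Mono S.f] (V : X.Opens) (x : Γ(S.X₂, V))
    (hx : S.g.app V x = 0) : ∃ y : Γ(S.X₁, V), S.f.app V y = x := by
  have h := hS.map_of_mono_of_preservesKernel (secF V) inferInstance inferInstance
  rw [ShortComplex.ab_exact_iff] at h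
  exact h x hx

/-- sections in the range of a monomorphism are those killed by the cokernel projection -/
theorem mem_range_iff_cokernel {F H : X.Modules} (ψ : F ⟶ H) [Mono ψ] (V : X.Opens) (s : Γ(H, V)) :
    (∃ t : Γ(F, V), ψ.app V t = s) ↔ (cokernel.π ψ).app V s = 0 := by
  constructor
  · rintro ⟨t, rfl⟩
    rw [← comp_app_apply, cokernel.condition]
    rfl
  · intro h
    exact exact_app (ShortComplex.mk ψ (cokernel.π ψ) (cokernel.condition ψ))
      (ShortComplex.exact_cokernel ψ) V s h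

/-- sections in the range of a kernel inclusion -/
theorem mem_range_kernel_iff {H Q : X.Modules} (f : H ⟶ Q) (V : X.Opens) (s : Γ(H, V)) :
    (∃ t : Γ(kernel f, V), (kernel.ι f).app V t = s) ↔ f.app V s = 0 := by
  constructor
  · rintro ⟨t, rfl⟩
    rw [← comp_app_apply, kernel.condition]
    rfl
  · intro h
    exact exact_app (ShortComplex.mk (kernel.ι f) f (kernel.condition f))
      (ShortComplex.exact_kernel f) V s h

/-- factorization through a monomorphism from containment of ranges of sections -/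
theorem exists_factor {F₁ F₂ H : X.Modules} (ψ₁ : F₁ ⟶ H) (ψ₂ : F₂ ⟶ H) [Mono ψ₂]
    (h : ∀ (V : X.Opens) (t : Γ(F₁, V)), ∃ t' : Γ(F₂, V), ψ₂.app V t' = ψ₁.app V t) :
    ∃ a : F₁ ⟶ F₂, a ≫ ψ₂ = ψ₁ := by
  have h0 : ψ₁ ≫ cokernel.π ψ₂ = 0 := by
    refine Scheme.Modules.hom_ext _ _ (fun V => ?_)
    ext t
    rw [comp_app_apply]
    exact (mem_range_iff_cokernel ψ₂ V _).1 (h V t)
  exact ⟨Abelian.monoLift ψ₂ ψ₁ h0, Abelian.monoLift_comp _ _ _⟩

/-- a section of a product vanishes if all its components vanish -/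
theorem eq_zero_of_pi {ι : Type u} (Q : ι → X.Modules) (V : X.Opens) (x : Γ(∏ᶜ Q, V))
    (h : ∀ i, (Pi.π Q i).app V x = 0) : x = 0 := by
  have hl := isLimitOfPreserves (secF V) (productIsProduct Q)
  refine Concrete.isLimit_ext _ hl x 0 (fun j => ?_)
  obtain ⟨i⟩ := j
  have h1 := h i
  have h2 : ((secF V).mapCone (Fan.mk (∏ᶜ Q) (Pi.π Q))).π.app ⟨i⟩ (0 : Γ(∏ᶜ Q, V)) = 0 := map_zero _
  exact h1.trans h2.symm

end Sections

section Res

/-- restriction of sections -/
noncomputable def res (M : X.Modules) {V₁ V₂ : X.Opens} (h : V₂ ≤ V₁) (s : Γ(M, V₁)) : Γ(M, V₂) :=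
  M.presheaf.map (homOfLE h).op s

theorem res_res (M : X.Modules) {V₁ V₂ V₃ : X.Opens} (h : V₂ ≤ V₁) (h' : V₃ ≤ V₂) (s : Γ(M, V₁)) :
    res M h' (res M h s) = res M (h'.trans h) s := by
  unfold res
  rw [← CategoryTheory.comp_apply, ← Functor.map_comp]
  rfl

theorem res_self (M : X.Modules) {V : X.Opens} (h : V ≤ V) (s : Γ(M, V)) : res M h s = s := by
  unfold res
  have : (homOfLE h).op = 𝟙 (op V) := rfl
  rw [this, M.presheaf.map_id]
  rfl

theorem app_res {A B : X.Modules} (m : A ⟶ B) {V₁ V₂ : X.Opens} (h : V₂ ≤ V₁) (s : Γ(A, V₁)) :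
    m.app V₂ (res A h s) = res B h (m.app V₁ s) :=
  app_map m (homOfLE h) s

/-- the sections of `H` in the image of `ψ` -/
def rng {F H : X.Modules} (ψ : F ⟶ H) (V : X.Opens) : Set Γ(H, V) := Set.range (ψ.app V)

theorem res_mem_rng {F H : X.Modules} (ψ : F ⟶ H) {V₁ V₂ : X.Opens} (h : V₂ ≤ V₁) {s : Γ(H, V₁)}
    (hs : s ∈ rng ψ V₁) : res H h s ∈ rng ψ V₂ := by
  obtain ⟨t, rfl⟩ := hs
  exact ⟨res F h t, app_res ψ h t⟩

theorem rng_comp_subset {F₁ F₂ H : X.Modules} (a : F₁ ⟶ F₂) (ψ : F₂ ⟶ H) (V : X.Opens) :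
    rng (a ≫ ψ) V ⊆ rng ψ V := by
  rintro _ ⟨t, rfl⟩
  exact ⟨a.app V t, rfl⟩

/-- the morphism whose kernel is the saturation of the image of `ψ` with respect to the open `W` -/
noncomputable def satMap {F H : X.Modules} (ψ : F ⟶ H) (W : X.Opens) :
    H ⟶ (Scheme.Modules.pushforward W.ι).obj ((Scheme.Modules.restrictFunctor W.ι).obj (cokernel ψ)) :=
  cokernel.π ψ ≫ (Scheme.Modules.restrictAdjunction W.ι).unit.app (cokernel ψ)

theorem mem_rng_sat_iff {F H : X.Modules} (ψ : F ⟶ H) [Mono ψ] (W V : X.Opens) (s : Γ(H, V)) :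
    s ∈ rng (kernel.ι (satMap ψ W)) V ↔
      res H (W.ι.image_preimage_le V) s ∈ rng ψ (W.ι ''ᵁ W.ι ⁻¹ᵁ V) := by
  have h1 : s ∈ rng (kernel.ι (satMap ψ W)) V ↔ (satMap ψ W).app V s = 0 :=
    mem_range_kernel_iff (satMap ψ W) V s
  have h2 : (satMap ψ W).app V s =
      (cokernel.π ψ).app (W.ι ''ᵁ W.ι ⁻¹ᵁ V) (res H (W.ι.image_preimage_le V) s) := by
    rw [app_res]
    rfl
  rw [h1, h2]
  exact (mem_range_iff_cokernel ψ _ _).symm

end Res

section Top

/-- the underlying space is locally Noetherian -/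
def LocNoeth (X : Scheme.{u}) : Prop :=
  ∀ x : X, ∃ U : X.Opens, x ∈ U ∧ NoetherianSpace (U : Set X)

/-- every subset of a quasi-compact subset is quasi-compact -/
theorem isCompact_of_subset (hX : LocNoeth X) {K t : Set X} (hK : IsCompact K) (ht : t ⊆ K) :
    IsCompact t := by
  classical
  choose U hxU hU using hX
  obtain ⟨T, hT⟩ := hK.elim_finite_subcover (fun x : X => ((U x : X.Opens) : Set X))
    (fun x => (U x).isOpen) (fun x _ => Set.mem_iUnion.2 ⟨x, hxU x⟩)
  have h1 : t = ⋃ x ∈ T, t ∩ (U x : Set X) := by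
    rw [← Set.inter_iUnion₂]
    exact (Set.inter_eq_left.2 (ht.trans hT)).symm
  rw [h1]
  exact T.isCompact_biUnion (fun x _ => (noetherianSpace_set_iff _).1 (hU x) _ Set.inter_subset_right)

theorem quasiSeparatedSpace (hX : LocNoeth X) : QuasiSeparatedSpace X :=
  ⟨fun _ _ _ hUc _ _ => isCompact_of_subset hX hUc Set.inter_subset_left⟩

theorem quasiCompact_ι (hX : LocNoeth X) (W : X.Opens) : QuasiCompact W.ι := by
  constructor
  intro K _ hKc
  rw [W.ι.isOpenEmbedding.isInducing.isCompact_iff]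
  exact isCompact_of_subset hX hKc (Set.image_preimage_subset _ _)

theorem isCompact_inter_of_affine (hX : LocNoeth X) (W V : X.Opens) (hV : IsAffineOpen V) :
    IsCompact ((W : Set X) ∩ (V : Set X)) :=
  isCompact_of_subset hX hV.isCompact Set.inter_subset_right

end Top

section Zorn

theorem isIso_app_of_bijective {A B : X.Modules} (m : A ⟶ B) (V : X.Opens)
    (h : Function.Bijective (m.app V)) : IsIso (m.app V) :=
  (ConcreteCategory.isIso_iff_bijective (m.app V)).2 h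

/-- finite type transfers to the target of a morphism which is an isomorphism on an open -/
theorem ftOn_of_isoOn' {A B : X.Modules} (m : A ⟶ B) {U : X.Opens} (hm : IsoOn m U) (hA : FTOn A U) :
    FTOn B U := by
  intro W hW hWle
  have := hA W hW hWle
  have := hm W hWle
  have hbij : Function.Bijective (m.app W) := ConcreteCategory.bijective_of_isIso (m.app W)
  let e : Γ(A, W) ≃ₗ[Γ(X, W)] Γ(B, W) :=
    LinearEquiv.ofBijective
      { toFun := fun x => m.app W x
        map_add' := fun x y => map_add _ x y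
        map_smul' := fun r x => Scheme.Modules.Hom.app_smul m r x } hbij
  exact Module.Finite.equiv e

/-- a morphism between subobjects of `H` is an isomorphism on `U` as soon as the ranges agree on opens inside `U` -/
theorem isoOn_of_rng {F₁ F₂ H : X.Modules} (ψ₁ : F₁ ⟶ H) (ψ₂ : F₂ ⟶ H) [Mono ψ₁] [Mono ψ₂] (a : F₁ ⟶ F₂)
    (ha : a ≫ ψ₂ = ψ₁) (U : X.Opens) (h : ∀ V : X.Opens, V ≤ U → rng ψ₂ V ⊆ rng ψ₁ V) : IsoOn a U := by
  intro V hV
  have : Mono a := mono_of_mono_fac ha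
  refine isIso_app_of_bijective a V ⟨injective_app_of_mono a V, fun t => ?_⟩
  obtain ⟨t₁, ht₁⟩ := h V hV ⟨t, rfl⟩
  refine ⟨t₁, injective_app_of_mono ψ₂ V ?_⟩
  rw [← comp_app_apply, ha]
  exact ht₁

variable (H : X.Modules) (U : X.Opens)

/-- a stage of the extension process: an open `W ⊇ U` and a saturated quasi-coherent subobject of `H` (given through its
sections) which is of finite type on `W` and agrees with `H` on `U`. -/
structure Stage where
  W : X.Opens
  N : ∀ V : X.Opens, Set Γ(H, V)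
  hU : U ≤ W
  real : ∃ (F : X.Modules) (ψ : F ⟶ H), Mono ψ ∧ F.IsQuasicoherent ∧ FTOn F W ∧ ∀ V, rng ψ V = N V
  sat : ∀ (V : X.Opens) (s : Γ(H, V)),
    (∀ (V' : X.Opens) (h : V' ≤ V), V' ≤ W → res H h s ∈ N V') → s ∈ N V
  base : ∀ V : X.Opens, V ≤ U → N V = Set.univ

variable {H U}

theorem Stage.res_mem (a : Stage H U) {V₁ V₂ : X.Opens} (h : V₂ ≤ V₁) {s : Γ(H, V₁)} (hs : s ∈ a.N V₁) :
    res H h s ∈ a.N V₂ := by
  obtain ⟨F, ψ, -, -, -, hr⟩ := a.real
  rw [← hr] at hs ⊢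
  exact res_mem_rng ψ h hs

instance : Preorder (Stage H U) where
  le a b := a.W ≤ b.W ∧ (∀ V, b.N V ⊆ a.N V) ∧ (∀ V, V ≤ a.W → a.N V ⊆ b.N V)
  le_refl a := ⟨le_rfl, fun _ => subset_rfl, fun _ _ => subset_rfl⟩
  le_trans a b c hab hbc := ⟨hab.1.trans hbc.1, fun V => (hbc.2.1 V).trans (hab.2.1 V),
    fun V hV => (hab.2.2 V hV).trans (hbc.2.2 V (hV.trans hab.1))⟩

theorem Stage.le_def (a b : Stage H U) :
    a ≤ b ↔ a.W ≤ b.W ∧ (∀ V, b.N V ⊆ a.N V) ∧ (∀ V, V ≤ a.W → a.N V ⊆ b.N V) := Iff.rfl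

variable (H U) in
/-- the initial stage -/
noncomputable def Stage.bot [H.IsQuasicoherent] (hH : FTOn H U) : Stage H U where
  W := U
  N := fun _ => Set.univ
  hU := le_rfl
  real := ⟨H, 𝟙 H, inferInstance, inferInstance, hH, fun V => by
    ext s
    simp only [Set.mem_univ, iff_true]
    exact ⟨s, rfl⟩⟩
  sat := fun _ _ _ => trivial
  base := fun _ _ => rfl

/-- upper bounds of nonempty chains of stages -/
theorem exists_upper (hX : LocNoeth X) [H.IsQuasicoherent] (c : Set (Stage H U))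
    (hc : IsChain (· ≤ ·) c) (hne : c.Nonempty) : ∃ b : Stage H U, ∀ a ∈ c, a ≤ b := by
  classical
  haveI : Nonempty ↥c := hne.to_subtype
  choose F ψ hmono hq hft hrng using fun a : ↥c => a.1.real
  let Q : ↥c → X.Modules := fun a => cokernel (ψ a)
  let f : H ⟶ ∏ᶜ Q := Pi.lift (fun a => cokernel.π (ψ a))
  let Ws : X.Opens := ⨆ a : ↥c, a.1.W
  let Ns : ∀ V : X.Opens, Set Γ(H, V) := fun V => ⋂ a : ↥c, a.1.N V
  have hfπ : ∀ a, f ≫ Pi.π Q a = cokernel.π (ψ a) := fun a => Pi.lift_π _ _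
  -- ranges of the kernel
  have hrs : ∀ V, rng (kernel.ι f) V = Ns V := by
    intro V
    ext s
    simp only [Ns, Set.mem_iInter]
    constructor
    · intro hs a
      have h1 : f.app V s = 0 := (mem_range_kernel_iff f V s).1 hs
      have h2 : (cokernel.π (ψ a)).app V s = 0 := by
        rw [← hfπ a, comp_app_apply, h1, map_zero]
      rw [← hrng a V]
      haveI := hmono a
      exact (mem_range_iff_cokernel (ψ a) V s).2 h2
    · intro hs
      refine (mem_range_kernel_iff f V s).2 (eq_zero_of_pi Q V _ (fun a => ?_))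
      rw [← comp_app_apply, hfπ a]
      haveI := hmono a
      refine (mem_range_iff_cokernel (ψ a) V s).1 ?_
      have := hs a
      rw [← hrng a V] at this
      exact this
  -- agreement with a member of the chain on suitable opens
  have hstar : ∀ (a : ↥c) (V : X.Opens), V ⊓ Ws ≤ a.1.W → ∀ V₁ : X.Opens, V₁ ≤ V → Ns V₁ = a.1.N V₁ := by
    intro a V hVa V₁ hV₁
    refine Set.Subset.antisymm (Set.iInter_subset _ a) ?_
    intro s hs
    simp only [Ns, Set.mem_iInter]
    intro b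
    rcases hc.total a.2 b.2 with hab | hba
    · refine b.1.sat V₁ s (fun V' h hV'b => ?_)
      have hV'a : V' ≤ a.1.W :=
        le_trans (le_inf (h.trans hV₁) (hV'b.trans (le_iSup (fun a : ↥c => a.1.W) b))) hVa
      exact hab.2.2 V' hV'a (a.1.res_mem h hs)
    · exact hba.2.1 V₁ hs
  -- directedness and compactness
  have hdir : Directed (· ⊆ ·) (fun a : ↥c => ((a.1.W : X.Opens) : Set X)) := by
    intro a b
    rcases hc.total a.2 b.2 with hab | hba
    · exact ⟨b, hab.1, subset_rfl⟩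
    · exact ⟨a, subset_rfl, hba.1⟩
  have hcpt : ∀ V : X.Opens, IsCompact (V : Set X) → ∃ a : ↥c, V ⊓ Ws ≤ a.1.W := by
    intro V hV
    have hK : IsCompact ((V : Set X) ∩ (Ws : Set X)) := isCompact_of_subset hX hV Set.inter_subset_left
    obtain ⟨a, ha⟩ := hK.elim_directed_cover (fun a : ↥c => ((a.1.W : X.Opens) : Set X))
      (fun a => a.1.W.isOpen) (by
        intro x hx
        have : x ∈ Ws := hx.2
        obtain ⟨a, ha⟩ := Opens.mem_iSup.1 this
        exact Set.mem_iUnion.2 ⟨a, ha⟩) hdir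
    exact ⟨a, ha⟩
  -- comparison maps
  have hfac : ∀ a : ↥c, ∃ m : kernel f ⟶ F a, m ≫ ψ a = kernel.ι f := by
    intro a
    haveI := hmono a
    refine exists_factor (kernel.ι f) (ψ a) (fun V t => ?_)
    have h1 : (kernel.ι f).app V t ∈ rng (kernel.ι f) V := ⟨t, rfl⟩
    rw [hrs V] at h1
    have h2 := Set.mem_iInter.1 h1 a
    rw [← hrng a V] at h2
    exact h2
  choose m hm using hfac
  have hiso : ∀ (a : ↥c) (V : X.Opens), V ⊓ Ws ≤ a.1.W → IsoOn (m a) V := by
    intro a V hVa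
    haveI := hmono a
    refine isoOn_of_rng (kernel.ι f) (ψ a) (m a) (hm a) V (fun V₁ hV₁ => ?_)
    rw [hrs V₁, hstar a V hVa V₁ hV₁, hrng a V₁]
  -- quasi-coherence
  have hqs : (kernel f).IsQuasicoherent := by
    refine isQuasicoherent_of_open_cover (kernel f) (fun V : X.affineOpens => V.1)
      (iSup_affineOpens_eq_top X) (fun V => ?_)
    obtain ⟨a, ha⟩ := hcpt V.1 V.2.isCompact
    have h1 : IsIso ((Scheme.Modules.restrictFunctor V.1.ι).map (m a)) := by
      rw [isIso_restrict_iff, Scheme.Opens.opensRange_ι]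
      exact hiso a V.1 ha
    haveI := hq a
    exact (SheafOfModules.isQuasicoherent (V.1 : Scheme.{u}).ringCatSheaf).prop_of_iso
      (asIso ((Scheme.Modules.restrictFunctor V.1.ι).map (m a))).symm inferInstance
  have hfts : FTOn (kernel f) Ws := by
    intro V hV hVle
    obtain ⟨a, ha⟩ := hcpt V hV.isCompact
    have hVa : V ≤ a.1.W := le_trans (le_inf le_rfl hVle) ha
    exact FTOn.of_isoOn (m a) (hiso a V ha) ((hft a).mono hVa) V hV le_rfl
  obtain ⟨a₀⟩ := ‹Nonempty ↥c›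
  refine ⟨⟨Ws, Ns, a₀.1.hU.trans (le_iSup (fun a : ↥c => a.1.W) a₀),
    ⟨kernel f, kernel.ι f, inferInstance, hqs, hfts, hrs⟩, ?_, ?_⟩, ?_⟩
  · intro V s hs
    simp only [Ns, Set.mem_iInter]
    intro a
    refine a.1.sat V s (fun V' h hV'a => ?_)
    have := hs V' h (hV'a.trans (le_iSup (fun a : ↥c => a.1.W) a))
    exact Set.mem_iInter.1 this a
  · intro V hV
    ext s
    simp only [Ns, Set.mem_iInter, Set.mem_univ, iff_true]
    intro a
    rw [a.1.base V hV]
    trivial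
  · intro a ha
    refine ⟨le_iSup (fun a : ↥c => a.1.W) ⟨a, ha⟩, fun V => Set.iInter_subset _ (⟨a, ha⟩ : ↥c), fun V hV => ?_⟩
    have := hstar ⟨a, ha⟩ V (inf_le_left.trans hV) V le_rfl
    exact this.symm.subset

/-- a stage whose open is not everything can be strictly enlarged -/
theorem exists_gt (hX : LocNoeth X) [H.IsQuasicoherent] (m : Stage H U) (x : X) (hx : x ∉ m.W) :
    ∃ b : Stage H U, m ≤ b ∧ ¬ b.W ≤ m.W := by
  obtain ⟨F, ψ, hmono, hq, hft, hrng⟩ := m.real
  haveI := hmono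
  haveI := hq
  haveI := quasiSeparatedSpace hX
  obtain ⟨V, hV, hxV, -⟩ := (Opens.isBasis_iff_nbhd.1 X.isBasis_affineOpens) (show x ∈ (⊤ : X.Opens) from trivial)
  obtain ⟨F₂, ψ₂, hm₂, hq₂, hft₂, hiso₂⟩ :=
    exists_sub_ftOn_sup F m.W V hV (isCompact_inter_of_affine hX m.W V hV) hft
  haveI := hm₂
  haveI := hq₂
  let W' : X.Opens := m.W ⊔ V
  let ψ₂' : F₂ ⟶ H := ψ₂ ≫ ψ
  haveI : Mono ψ₂' := mono_comp _ _
  let g := satMap ψ₂' W'
  have himg : ∀ V₁ : X.Opens, V₁ ≤ W' → V₁ ≤ W'.ι ''ᵁ W'.ι ⁻¹ᵁ V₁ := by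
    intro V₁ hV₁
    rw [Scheme.Hom.image_preimage_eq_opensRange_inf, Scheme.Opens.opensRange_ι]
    exact le_inf hV₁ le_rfl
  have himg' : ∀ V₁ : X.Opens, W'.ι ''ᵁ W'.ι ⁻¹ᵁ V₁ ≤ W' := by
    intro V₁
    rw [Scheme.Hom.image_preimage_eq_opensRange_inf, Scheme.Opens.opensRange_ι]
    exact inf_le_left
  have f1 : ∀ V₁, rng ψ₂' V₁ ⊆ rng (kernel.ι g) V₁ := by
    intro V₁ s hs
    exact (mem_rng_sat_iff ψ₂' W' V₁ s).2 (res_mem_rng ψ₂' _ hs)
  have f2 : ∀ V₁ : X.Opens, V₁ ≤ W' → rng (kernel.ι g) V₁ ⊆ rng ψ₂' V₁ := by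
    intro V₁ hV₁ s hs
    have h1 := (mem_rng_sat_iff ψ₂' W' V₁ s).1 hs
    have h2 := res_mem_rng ψ₂' (himg V₁ hV₁) h1
    rw [res_res, res_self] at h2
    exact h2
  have f3 : ∀ (V₁ : X.Opens) (s : Γ(H, V₁)),
      (∀ (V' : X.Opens) (h : V' ≤ V₁), V' ≤ W' → res H h s ∈ rng (kernel.ι g) V') →
        s ∈ rng (kernel.ι g) V₁ := by
    intro V₁ s hs
    refine (mem_rng_sat_iff ψ₂' W' V₁ s).2 ?_
    exact f2 _ (himg' V₁) (hs _ (W'.ι.image_preimage_le V₁) (himg' V₁))
  haveI : QuasiCompact W'.ι := quasiCompact_ι hX W'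
  haveI : (cokernel ψ₂').IsQuasicoherent := isQuasicoherent_cokernel ψ₂'
  haveI : ((Scheme.Modules.pushforward W'.ι).obj
      ((Scheme.Modules.restrictFunctor W'.ι).obj (cokernel ψ₂'))).IsQuasicoherent :=
    isQuasicoherent_pushforward W'.ι _
  have f4 : (kernel g).IsQuasicoherent := isQuasicoherent_kernel g
  obtain ⟨a₂, ha₂⟩ := exists_factor ψ₂' (kernel.ι g) (fun V₁ t => f1 V₁ ⟨t, rfl⟩)
  have hiso₃ : IsoOn a₂ W' := isoOn_of_rng ψ₂' (kernel.ι g) a₂ ha₂ W' f2
  have f5 : FTOn (kernel g) W' := ftOn_of_isoOn' a₂ hiso₃ hft₂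
  -- ranges on opens inside `m.W`
  have f6 : ∀ V₁ : X.Opens, V₁ ≤ m.W → m.N V₁ ⊆ rng (kernel.ι g) V₁ := by
    intro V₁ hV₁ s hs
    rw [← hrng V₁] at hs
    obtain ⟨t, rfl⟩ := hs
    haveI := hiso₂ V₁ hV₁
    obtain ⟨t₂, rfl⟩ := (ConcreteCategory.bijective_of_isIso (ψ₂.app V₁)).2 t
    exact f1 V₁ ⟨t₂, rfl⟩
  refine ⟨⟨W', fun V₁ => rng (kernel.ι g) V₁, m.hU.trans le_sup_left,
    ⟨kernel g, kernel.ι g, inferInstance, f4, f5, fun _ => rfl⟩, f3, ?_⟩, ⟨le_sup_left, ?_, f6⟩, ?_⟩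
  · intro V₁ hV₁
    refine Set.eq_univ_of_univ_subset ?_
    rw [← m.base V₁ hV₁]
    exact f6 V₁ (hV₁.trans m.hU)
  · intro V₁ s hs
    refine m.sat V₁ s (fun V' h hV' => ?_)
    have h1 : res H h s ∈ rng (kernel.ι g) V' := res_mem_rng _ h hs
    have h2 := f2 V' (hV'.trans le_sup_left) h1
    rw [← hrng V']
    exact rng_comp_subset ψ₂ ψ V' h2
  · intro hle
    exact hx (hle (Or.inr hxV))

/-- **Extension on schemes with locally Noetherian underlying space**: a quasi-coherent module which is of finite type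
on an open `U` has a quasi-coherent submodule of finite type agreeing with it on `U`. -/
theorem exists_sub_isFiniteType_locNoeth (hX : LocNoeth X) (H : X.Modules) [H.IsQuasicoherent]
    (U : X.Opens) (hH : FTOn H U) :
    ∃ (F : X.Modules) (ψ : F ⟶ H), Mono ψ ∧ F.IsQuasicoherent ∧
      SheafOfModules.IsFiniteType (R := X.ringCatSheaf) F ∧ IsoOn ψ U := by
  haveI : Nonempty (Stage H U) := ⟨Stage.bot H U hH⟩
  obtain ⟨m, hm⟩ := zorn_le_nonempty (α := Stage H U) (fun c hc hne => exists_upper hX c hc hne)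
  have hW : m.W = ⊤ := by
    by_contra hne
    have : ∃ x : X, x ∉ m.W := by
      by_contra hall
      exact hne (eq_top_iff.2 (fun x _ => by_contra (fun hx => hall ⟨x, hx⟩)))
    obtain ⟨x, hx⟩ := this
    obtain ⟨b, hmb, hb⟩ := exists_gt hX m x hx
    exact hb (hm hmb).1
  obtain ⟨F, ψ, hmono, hq, hft, hrng⟩ := m.real
  haveI := hmono
  haveI := hq
  refine ⟨F, ψ, hmono, hq, isFiniteType_of_ftOn_top F (by rw [← hW]; exact hft), fun V hV => ?_⟩
  refine isIso_app_of_bijective ψ V ⟨injective_app_of_mono ψ V, fun s => ?_⟩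
  have : s ∈ rng ψ V := by
    rw [hrng V, m.base V hV]
    trivial
  exact this

end Zorn

end Groth.Agent.Lib.T2H5.ExtLN
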