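import Groth.Agent.Lib.T2H4ReflExtAlg
import Groth.Agent.Lib.Helper20ZClos23
import Groth.Agent.Lib.T2H3ReflexiveHom
import Groth.Agent.Lib.T2H8StalkRestrict
import Groth.Agent.S2250

/-!
# Reflexive coherent modules and opens whose complement has depth `≥ 2` (helper4)

* `isIso_unit_of_isReflexive`: `F ⟶ j_* j^* F` is an isomorphism for `F` coherent with reflexive stalks, when the local
  rings outside `U` have depth `≥ 2`.
* `pushforward_isCoh_and_isReflexive`: `j_* G` is coherent with reflexive stalks for such `G` on `U`.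
-/

set_option autoImplicit false
set_option linter.style.haveILetI false
universe u
open CategoryTheory Limits AlgebraicGeometry TopologicalSpace Opposite

namespace Groth.Agent.Lib.T2H4.ReflExt

open Groth.Agent.Lib.T2H4.ReflExtAlg Groth.Agent.Lib.T2H8.StalkRestrict
  Groth.Agent.Lib.Helper1.Sky Groth.Agent.Lib.T2H3.Reflexive Groth.Agent.Lib.T2H3.ReflexiveHom
  Groth.Agent.Lib.T2H3.HomShQCoh Groth.Agent.Lib.T2H3.HomShStalk Groth.Agent.Lib.T2H3.ReflexiveAlg
  TensorProduct

section Ext

variable {R S : Type u} [CommRing R] [CommRing S] (σ : R →+* S) (N : ModuleCat.{u} R)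

theorem isReflexive_extendScalars_iff (h : Function.Bijective σ) :
    Module.IsReflexive S ((ModuleCat.extendScalars σ).obj N) ↔ Module.IsReflexive R N := by
  letI := σ.toAlgebra
  have hb : Function.Bijective (algebraMap R S) := h
  have h1 : Module.IsReflexive S ((ModuleCat.extendScalars σ).obj N) ↔
      Module.IsReflexive S (S ⊗[R] N) :=
    ⟨fun _ => Module.equiv (Groth.Agent.S2380.bridge R S N),
      fun _ => Module.equiv (Groth.Agent.S2380.bridge R S N).symm⟩
  have h2 : Module.IsReflexive S (S ⊗[R] N) ↔ Module.IsReflexive R (S ⊗[R] N) :=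
    isReflexive_iff_of_bijective hb (S ⊗[R] N)
  let ψ : N ≃ₗ[R] S ⊗[R] N := (TensorProduct.lid R N).symm ≪≫ₗ
    TensorProduct.congr (LinearEquiv.ofBijective (Algebra.linearMap R S) hb) (LinearEquiv.refl R N)
  have h3 : Module.IsReflexive R (S ⊗[R] N) ↔ Module.IsReflexive R N :=
    ⟨fun _ => Module.equiv ψ.symm, fun _ => Module.equiv ψ⟩
  exact h1.trans (h2.trans h3)

end Ext

section Stalk

variable {X U : Scheme.{u}} (j : U ⟶ X) [IsOpenImmersion j]

theorem isReflexive_stalk_restrict_iff (M : X.Modules) (y : U) :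
    Module.IsReflexive (U.presheaf.stalk y) ((M.restrict j).presheaf.stalk y) ↔
      Module.IsReflexive (X.presheaf.stalk (j y)) (M.presheaf.stalk (j y)) := by
  have h1 : Module.IsReflexive (U.presheaf.stalk y) ((stalkFun y).obj (M.restrict j)) ↔
      Module.IsReflexive (U.presheaf.stalk y) ((ModuleCat.extendScalars.{u, u, u}
        (j.stalkMap y).hom).obj ((stalkFun (j y)).obj M)) :=
    ⟨fun _ => Module.equiv (stalkRestrictIso j M y).toLinearEquiv,
      fun _ => Module.equiv (stalkRestrictIso j M y).symm.toLinearEquiv⟩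
  exact h1.trans
    (isReflexive_extendScalars_iff (j.stalkMap y).hom ((stalkFun (j y)).obj M) (bijective_stalkMap j y))

end Stalk

variable {X : Scheme.{u}}

section Ddual

variable [IsIntegral X] [IsLocallyNoetherian X]

/-- the stalks of a double dual are reflexive -/
theorem isReflexiveAt_ddual (F : X.Modules) (hF : Coh.IsCoh F) (x : X) :
    Module.IsReflexive (X.presheaf.stalk x) ((RefHull.ddual F).presheaf.stalk x) := by
  have hO : Coh.IsCoh (Coh.structureModule X) := Groth.Agent.Lib.T2H5.GenIsoF.isCoh_structureModule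
  have hd : Coh.IsCoh (RefHull.dual F) := isCoh_dual F hF
  haveI := finite_stalk_of_isCoh (RefHull.dual F) hd x
  haveI := finite_stalk_of_isCoh (Coh.structureModule X) hO x
  haveI : Module.IsReflexive (X.presheaf.stalk x) ((Coh.structureModule X).presheaf.stalk x) :=
    Module.equiv (Groth.Agent.Lib.Helper23.UnitStalk.unitStalkEquiv x)
  have hbij := evalStalk_bijective (RefHull.dual F) (Coh.structureModule X) (isFP_of_isCoh _ hd) x
  let e := LinearEquiv.ofBijective (RefHull.evalStalk (RefHull.dual F) (Coh.structureModule X) x) hbij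
  haveI : Module.IsReflexive (X.presheaf.stalk x)
      (RefHull.StalkHom (RefHull.dual F) (Coh.structureModule X) x) :=
    isReflexive_hom (R := X.presheaf.stalk x) ((RefHull.dual F).presheaf.stalk x)
      ((Coh.structureModule X).presheaf.stalk x)
  exact Module.equiv e.symm

end Ddual

section A

variable [IsLocallyNoetherian X]

/-- **(a)**: the unit `F ⟶ j_* j^* F` is an isomorphism for coherent `F` with reflexive stalks when the local rings
outside `U` have depth at least `2`. -/
theorem isIso_unit_of_isReflexive (U : X.Opens)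
    (hU : ∀ x : X, x ∉ U → (2 : ℕ∞) ≤ LocCoh.depth (X.presheaf.stalk x) (X.presheaf.stalk x))
    (F : X.Modules) (hF : Coh.IsCoh F)
    (hr : ∀ x : X, Module.IsReflexive (X.presheaf.stalk x) (F.presheaf.stalk x)) :
    IsIso ((Scheme.Modules.restrictAdjunction U.ι).unit.app F) := by
  haveI : F.IsQuasicoherent := hF.1
  let K : Closeds X := ⟨(U : Set X)ᶜ, U.isOpen.isClosed_compl⟩
  have hK : K.compl = U := Opens.ext (compl_compl _)
  have h := Groth.Agent.Lib.Helper20.ZClosLib.isIso_unit_of_regPair K F (fun x hx => by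
    haveI := finite_stalk_of_isCoh F hF x
    haveI := hr x
    exact Groth.Agent.Lib.Helper20.IsoDepth.exists_regular_pair
      (two_le_depth_of_isReflexive (F.presheaf.stalk x) (hU x hx)))
  rw [hK] at h
  exact h

end A

section B

theorem isIso_restrict_map_of_stalk (U : X.Opens) {A B : X.Modules} (φ : A ⟶ B)
    (h : ∀ x : X, x ∈ U → Function.Bijective ((TopCat.Presheaf.stalkFunctor AddCommGrpCat.{u} x).map
      (Scheme.Modules.Hom.mapPresheaf φ))) :
    IsIso ((Scheme.Modules.restrictFunctor U.ι).map φ) := by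
  rw [Groth.Agent.Lib.Helper23.Extend.isIso_restrict_iff, Scheme.Opens.opensRange_ι]
  intro W' hW'
  rw [ConcreteCategory.isIso_iff_bijective]
  let A' : TopCat.Sheaf AddCommGrpCat.{u} X.carrier := ⟨A.presheaf, A.isSheaf⟩
  let B' : TopCat.Sheaf AddCommGrpCat.{u} X.carrier := ⟨B.presheaf, B.isSheaf⟩
  let f' : A' ⟶ B' := ⟨Scheme.Modules.Hom.mapPresheaf φ⟩
  exact TopCat.Presheaf.app_bijective_of_stalkFunctor_map_bijective f' W' (fun x hx => h x (hW' hx))

variable [IsIntegral X] [IsLocallyNoetherian X]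

theorem locNoeth : ∀ x : X, ∃ W : X.Opens, x ∈ W ∧ NoetherianSpace (W : Set X) := by
  intro x
  obtain ⟨W, hW, hxW, -⟩ := exists_isAffineOpen_mem_and_subset (x := x) (U := ⊤) trivial
  haveI : IsNoetherianRing Γ(X, W) := IsLocallyNoetherian.component_noetherian ⟨W, hW⟩
  exact ⟨W, hxW, noetherianSpace_of_isAffineOpen W hW⟩

/-- **(b)**: the direct image of a coherent module with reflexive stalks is coherent with reflexive stalks. -/
theorem pushforward_isCoh_and_isReflexive (U : X.Opens)
    (hU : ∀ x : X, x ∉ U → (2 : ℕ∞) ≤ LocCoh.depth (X.presheaf.stalk x) (X.presheaf.stalk x))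
    (G : (U : Scheme.{u}).Modules) (hG : Coh.IsCoh G)
    (hr : ∀ y : ↥(U : Scheme.{u}), Module.IsReflexive ((U : Scheme.{u}).presheaf.stalk y) (G.presheaf.stalk y)) :
    Coh.IsCoh ((Scheme.Modules.pushforward U.ι).obj G) ∧
      ∀ x : X, Module.IsReflexive (X.presheaf.stalk x)
        (((Scheme.Modules.pushforward U.ι).obj G).presheaf.stalk x) := by
  have hX' := locNoeth (X := X)
  haveI : QuasiCompact U.ι := Groth.Agent.Lib.T2H5.ExtLN.quasiCompact_ι hX' U
  haveI hGq : G.IsQuasicoherent := hG.1
  haveI hHq : ((Scheme.Modules.pushforward U.ι).obj G).IsQuasicoherent :=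
    Groth.Agent.Lib.Helper23.QCohLocal.isQuasicoherent_pushforward U.ι G
  haveI : Coh.IsQCoh ((Scheme.Modules.pushforward U.ι).obj G) := hHq
  haveI : Coh.IsQCoh G := hGq
  let i : G ⟶ ((Scheme.Modules.pushforward U.ι).obj G).restrict U.ι :=
    inv ((Scheme.Modules.restrictAdjunction U.ι).counit.app G)
  obtain ⟨F₁, i', e, hmono, hq, hft, -⟩ := Groth.Agent.S2250.result hX' U
    ((Scheme.Modules.pushforward U.ι).obj G) G i hG.2
  have hF₁ : Coh.IsCoh F₁ := ⟨hq, hft⟩
  -- reflexivity of the stalks of `F₁` at points of `U`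
  have hrefl : ∀ x : X, x ∈ U → Module.IsReflexive (X.presheaf.stalk x) (F₁.presheaf.stalk x) := by
    intro x hx
    have h1 := (isReflexive_stalk_restrict_iff U.ι F₁ (⟨x, hx⟩ : ↥(U : Scheme.{u}))).1 (by
      haveI := hr ⟨x, hx⟩
      exact Module.equiv (stalkEquivOfIso e.symm (⟨x, hx⟩ : ↥(U : Scheme.{u}))))
    exact h1
  have hβ : IsIso ((Scheme.Modules.restrictFunctor U.ι).map (RefHull.bidualMap F₁)) := by
    refine isIso_restrict_map_of_stalk U _ (fun x hx => ?_)
    exact (bijective_stalkMap_bidualMap_iff F₁ hF₁ x).2 (hrefl x hx)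
  have hF₂ : Coh.IsCoh (RefHull.ddual F₁) := isCoh_ddual F₁ hF₁
  haveI hη : IsIso ((Scheme.Modules.restrictAdjunction U.ι).unit.app (RefHull.ddual F₁)) :=
    isIso_unit_of_isReflexive U hU _ hF₂ (fun x => isReflexiveAt_ddual F₁ hF₁ x)
  let Φ : RefHull.ddual F₁ ≅ (Scheme.Modules.pushforward U.ι).obj G :=
    asIso ((Scheme.Modules.restrictAdjunction U.ι).unit.app (RefHull.ddual F₁)) ≪≫
      (Scheme.Modules.pushforward U.ι).mapIso
        ((asIso ((Scheme.Modules.restrictFunctor U.ι).map (RefHull.bidualMap F₁))).symm ≪≫ e)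
  refine ⟨⟨hHq, ?_⟩, fun x => ?_⟩
  · haveI : SheafOfModules.IsFiniteType (R := X.ringCatSheaf) (RefHull.ddual F₁) := hF₂.2
    exact Groth.Agent.Lib.Helper23.FinType.isFiniteType_of_iso Φ
  · haveI := isReflexiveAt_ddual F₁ hF₁ x
    exact Module.equiv (stalkEquivOfIso Φ x)

end B

end Groth.Agent.Lib.T2H4.ReflExt
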