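import Mathlib
import Groth.Agent.Lib.Helper28Depth

/-!
# Reflexive modules: invariance under a bijective change of rings, depth of reflexive modules (helper4)
-/

set_option autoImplicit false
universe u

namespace Groth.Agent.Lib.T2H4.ReflExtAlg

open Module

section Transfer

variable {R S : Type*} [CommRing R] [CommRing S] [Algebra R S]
  (h : Function.Bijective (algebraMap R S))
  (M : Type*) [AddCommGroup M] [Module R M] [Module S M] [IsScalarTower R S M]

/-- the ring isomorphism -/
noncomputable abbrev tau : R ≃+* S := RingEquiv.ofBijective (algebraMap R S) h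

omit [IsScalarTower R S M] in
theorem tau_apply (r : R) : tau h r = algebraMap R S r := rfl

theorem algebraMap_tau_symm (s : S) : algebraMap R S ((tau h).symm s) = s :=
  (tau h).apply_symm_apply s

include h in
theorem tau_symm_smul (s : S) (m : M) : (tau h).symm s • m = s • m := by
  rw [← algebraMap_smul S ((tau h).symm s) m, algebraMap_tau_symm]

/-- `S`-linear forms to `R`-linear forms -/
noncomputable def toR (f : M →ₗ[S] S) : M →ₗ[R] R where
  toFun m := (tau h).symm (f m)
  map_add' a b := by rw [map_add, map_add]
  map_smul' r m := by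
    rw [← algebraMap_smul S r m, map_smul, smul_eq_mul, map_mul, RingHom.id_apply, smul_eq_mul]
    congr 1
    exact (tau h).symm_apply_apply r

/-- `R`-linear forms to `S`-linear forms -/
noncomputable def toS (g : M →ₗ[R] R) : M →ₗ[S] S where
  toFun m := tau h (g m)
  map_add' a b := by rw [map_add, map_add]
  map_smul' s m := by
    rw [← tau_symm_smul h M s m, map_smul, smul_eq_mul, map_mul, RingHom.id_apply, smul_eq_mul]
    congr 1
    exact (tau h).apply_symm_apply s

theorem toS_toR (f : M →ₗ[S] S) : toS h M (toR h M f) = f := by
  ext m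
  exact (tau h).apply_symm_apply _

theorem toR_toS (g : M →ₗ[R] R) : toR h M (toS h M g) = g := by
  ext m
  exact (tau h).symm_apply_apply _

theorem toS_add (g g' : M →ₗ[R] R) : toS h M (g + g') = toS h M g + toS h M g' := by
  ext m
  change tau h ((g + g') m) = tau h (g m) + tau h (g' m)
  rw [LinearMap.add_apply, map_add]

theorem toS_smul (r : R) (g : M →ₗ[R] R) : toS h M (r • g) = algebraMap R S r • toS h M g := by
  ext m
  change tau h ((r • g) m) = algebraMap R S r • tau h (g m)
  rw [LinearMap.smul_apply, smul_eq_mul, map_mul, smul_eq_mul]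
  rfl

theorem toR_add (f f' : M →ₗ[S] S) : toR h M (f + f') = toR h M f + toR h M f' := by
  ext m
  change (tau h).symm ((f + f') m) = (tau h).symm (f m) + (tau h).symm (f' m)
  rw [LinearMap.add_apply, map_add]

theorem toR_smul (s : S) (f : M →ₗ[S] S) : toR h M (s • f) = (tau h).symm s • toR h M f := by
  ext m
  change (tau h).symm ((s • f) m) = (tau h).symm s • (tau h).symm (f m)
  rw [LinearMap.smul_apply, smul_eq_mul, map_mul, smul_eq_mul]

/-- bidual over `S` to bidual over `R` -/
noncomputable def bidualToR (A : Dual S (Dual S M)) : Dual R (Dual R M) where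
  toFun g := (tau h).symm (A (toS h M g))
  map_add' g g' := by rw [toS_add, map_add, map_add]
  map_smul' r g := by
    rw [toS_smul, map_smul, smul_eq_mul, map_mul, RingHom.id_apply, smul_eq_mul]
    congr 1
    exact (tau h).symm_apply_apply r

/-- bidual over `R` to bidual over `S` -/
noncomputable def bidualToS (B : Dual R (Dual R M)) : Dual S (Dual S M) where
  toFun f := tau h (B (toR h M f))
  map_add' f f' := by rw [toR_add, map_add, map_add]
  map_smul' s f := by
    rw [toR_smul, map_smul, smul_eq_mul, map_mul, RingHom.id_apply, smul_eq_mul]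
    congr 1
    exact (tau h).apply_symm_apply s

theorem bidualToR_bidualToS (B : Dual R (Dual R M)) : bidualToR h M (bidualToS h M B) = B := by
  ext g
  change (tau h).symm (tau h (B (toR h M (toS h M g)))) = B g
  rw [(tau h).symm_apply_apply, toR_toS]

theorem bidualToS_bidualToR (A : Dual S (Dual S M)) : bidualToS h M (bidualToR h M A) = A := by
  ext f
  change tau h ((tau h).symm (A (toS h M (toR h M f)))) = A f
  rw [(tau h).apply_symm_apply, toS_toR]

theorem bidualToR_eval (m : M) : bidualToR h M (Dual.eval S M m) = Dual.eval R M m := by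
  ext g
  change (tau h).symm (tau h (g m)) = g m
  exact (tau h).symm_apply_apply _

theorem bijective_bidualToR : Function.Bijective (bidualToR h M) :=
  ⟨fun A A' hAA => by rw [← bidualToS_bidualToR h M A, hAA, bidualToS_bidualToR],
    fun B => ⟨bidualToS h M B, bidualToR_bidualToS h M B⟩⟩

include h in
/-- reflexivity does not depend on which of two isomorphic rings acts -/
theorem isReflexive_iff_of_bijective : IsReflexive S M ↔ IsReflexive R M := by
  have hcomp : (Dual.eval R M : M → Dual R (Dual R M)) = bidualToR h M ∘ (Dual.eval S M) := by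
    funext m
    exact (bidualToR_eval h M m).symm
  constructor
  · intro hS
    refine ⟨?_⟩
    rw [hcomp]
    exact (bijective_bidualToR h M).comp hS.bijective_dual_eval'
  · intro hR
    refine ⟨?_⟩
    have := hR.bijective_dual_eval'
    rw [hcomp] at this
    exact ((bijective_bidualToR h M).of_comp_iff' _).mp this

end Transfer

section Depth

open Groth.Agent.Lib.Helper28

variable {O : Type u} [CommRing O] [IsLocalRing O] [IsNoetherianRing O]
  (M : Type u) [AddCommGroup M] [Module O M] [Module.Finite O M] [Module.IsReflexive O M]

/-- a finite reflexive module over a Noetherian local ring of depth `≥ 2` has depth `≥ 2` -/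
theorem two_le_depth_of_isReflexive (h : (2 : ℕ∞) ≤ LocCoh.depth O O) : (2 : ℕ∞) ≤ LocCoh.depth O M := by
  have e : M ≃ₗ[O] Dual O (Dual O M) := Module.evalEquiv O M
  haveI : Module.Finite O (Dual O M) := inferInstance
  unfold LocCoh.depth at h ⊢
  rw [idealDepth_congr e]
  exact two_le_idealDepth_dual _ (Dual O M) h

end Depth

end Groth.Agent.Lib.T2H4.ReflExtAlg
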