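import Mathlib
import Groth.Agent.Lib.T2H4FibreDim
import Groth.Agent.Lib.T2H4TorIndep
import Groth.Agent.Lib.T2H4LDerExist
import Groth.Agent.S6974
import Groth.Agent.S0563
set_option backward.isDefEq.respectTransparency.types false

set_option autoImplicit false
set_option linter.style.haveILetI false
universe u
open CategoryTheory CategoryTheory.Limits HomologicalComplex MonoidalCategory
attribute [local instance] HasDerivedCategory.standard

namespace Groth.Agent.Lib.T2H4.RegFibre

open Groth.Agent.Lib.Helper1.KF Groth.Agent.Lib.Helper1.Tor Groth.Agent.Lib.Helper1.DT DTen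
  DerivedCategory Groth.Agent.Lib.Helper1.TorM Groth.Agent.Lib.Helper1.LDer
  Groth.Agent.Lib.T2H4.TorRes Groth.Agent.Lib.T2H4.FibreDim Groth.Agent.Lib.T2H4.TorIndep
  Groth.Agent.Lib.Helper1.TorN

section general

variable {A κ : Type u} [CommRing A] [CommRing κ] (φ : A →+* κ) [DRing.HasLBaseChange φ]

/-- vanishing of `H^i(X ⊗^L κ)` gives exactness of `X ⊗ κ` for K-flat `X` -/
lemma exactAt_ext_of_subsingleton_HD (X : DRing.Cx A) (hX : KFlat X) (i : ℤ)
    (h : Subsingleton (Dual.HD κ ((DRing.LBaseChange φ).obj (Q.obj X)) i)) :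
    ((extCx φ).obj X).ExactAt i := by
  obtain ⟨P, π, hP, -, hπ, -⟩ := exists_kprojective_resolution X
  haveI := hP
  haveI := hπ
  have hq := quasiIso_extCx_map_of_kflat φ π (kflat_of_isKProjective P) hX
  haveI := isIso_lbcCounit_of_quasiIso_ext φ X P π hq
  rw [exactAt_iff_isZero_H]
  have hz : IsZero ((homologyFunctor (ModuleCat.{u} κ) i).obj
      ((DRing.LBaseChange φ).obj (Q.obj X))) := ModuleCat.isZero_of_subsingleton _
  exact hz.of_iso
    ((homologyFunctor (ModuleCat.{u} κ) i).mapIso (asIso ((lbcCounit φ).app X)).symm)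

end general


section pushoutQuot

variable (A B : Type u) [CommRing A] [CommRing B] [Algebra A B] (p : Ideal A)

/-- `B/pB` is the pushout of `A/p` and `B` over `A` -/
instance isPushout_quotient :
    Algebra.IsPushout A (A ⧸ p) B (B ⧸ p.map (algebraMap A B)) := by
  constructor
  refine IsBaseChange.of_equiv
    (Algebra.TensorProduct.quotIdealMapEquivQuotTensor B p).symm.toLinearEquiv ?_
  intro x
  show (Algebra.TensorProduct.quotIdealMapEquivQuotTensor B p).symm (1 ⊗ₜ[A] x) = _
  rw [AlgEquiv.symm_apply_eq]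
  rfl

end pushoutQuot


section main

open Groth.Agent.Lib.Helper1.Extend in
theorem isPerfect_of_regular_fibre {A B : Type u} [CommRing A] [CommRing B] [IsLocalRing A]
    [IsLocalRing B] [Algebra A B] [IsLocalHom (algebraMap A B)] [Module.Flat A B] (d : ℕ)
    [IsRegularLocalRing (B ⧸ (IsLocalRing.maximalIdeal A).map (algebraMap A B))]
    (hd : ringKrullDim (B ⧸ (IsLocalRing.maximalIdeal A).map (algebraMap A B)) = d)
    [DRing.HasLBaseChange (IsLocalRing.residue A)] (a b : ℤ) (K : Dual.D B)
    (hK : DRing.IsPseudoCoherent' B K)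
    (h : ∀ i : ℤ, (i < a ∨ b < i) → Subsingleton (Dual.HD (IsLocalRing.ResidueField A)
      ((DRing.LBaseChange (IsLocalRing.residue A)).obj
        ((DRing.restrictD (algebraMap A B)).obj K)) i)) :
    DRing.IsPerfect B K ∧ DRing.HasTorAmplitudeIn B (a - d) b K := by
  haveI : ∀ m : Ideal B, DRing.HasLBaseChange (Ideal.Quotient.mk m) :=
    fun m => LDerExist.hasLBaseChange _
  obtain ⟨F, bF, hFb, hFf, ⟨e⟩⟩ := id hK
  have hFp : ∀ i : ℤ, Module.Projective B (F.X i) := fun i =>
    have := (hFf i).2
    Module.Projective.of_free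
  haveI hFK : F.IsKProjective := isKProjective_of_vanishesAbove F bF hFb hFp
  refine Groth.Agent.S6974.result B K hK (a - d) b ?_
  intro m hm i hi
  -- res F is K-flat over A
  have hresFlat : DRing.TermwiseFlat ((resCx (algebraMap A B)).obj F) := fun j => by
    haveI := (hFf j).2
    have hfl : Module.Flat B (F.X j) := inferInstance
    haveI : Module.Flat B ((ModuleCat.restrictScalars (algebraMap A B)).obj (F.X j)) := hfl
    exact Module.Flat.trans A B ((ModuleCat.restrictScalars (algebraMap A B)).obj (F.X j))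
  have hresK : KFlat ((resCx (algebraMap A B)).obj F) :=
    kflat_of_boundedAbove_flat _ bF
      (fun j hj => (ModuleCat.restrictScalars (algebraMap A B)).map_isZero (hFb j hj)) hresFlat
  -- exactness of the residue fibre of res F
  have hexκ : ∀ j : ℤ, (j < a ∨ b < j) →
      ((extCx (IsLocalRing.residue A)).obj ((resCx (algebraMap A B)).obj F)).ExactAt j := by
    intro j hj
    apply exactAt_ext_of_subsingleton_HD _ _ hresK
    have iso : (DRing.restrictD (algebraMap A B)).obj K ≅
        Q.obj ((resCx (algebraMap A B)).obj F) :=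
      (DRing.restrictD (algebraMap A B)).mapIso e.symm ≪≫ (resFactors (algebraMap A B)).app F
    have hz : IsZero ((homologyFunctor (ModuleCat.{u} (IsLocalRing.ResidueField A)) j).obj
        ((DRing.LBaseChange (IsLocalRing.residue A)).obj
          ((DRing.restrictD (algebraMap A B)).obj K))) :=
      have := h j hj
      ModuleCat.isZero_of_subsingleton _
    exact ModuleCat.subsingleton_of_isZero (hz.of_iso
      ((homologyFunctor _ j).mapIso ((DRing.LBaseChange (IsLocalRing.residue A)).mapIso iso.symm)))
  -- exactness of the closed fibre `G = F ⊗_B C`, `C = B/m_A B`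
  have hG : ∀ j : ℤ, (j < a ∨ b < j) →
      ((extCx (algebraMap B (B ⧸ (IsLocalRing.maximalIdeal A).map (algebraMap A B)))).obj
        F).ExactAt j := by
    intro j hj
    refine exactAt_extCx_of_exactAt_TC_res (A := A) (κ := A ⧸ IsLocalRing.maximalIdeal A) F j ?_
    have h1 := (exactAt_extCx_iff (IsLocalRing.residue A) _ j).1 (hexκ j hj)
    exact exactAt_TC_of_iso
      (resAEquiv (A := A) (B := A ⧸ IsLocalRing.maximalIdeal A)).toModuleIso.symm _ j h1
  -- the closed fibre ring and the map to the residue field of `B`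
  have hJm : (IsLocalRing.maximalIdeal A).map (algebraMap A B) ≤ m := by
    rw [IsLocalRing.eq_maximalIdeal hm]
    exact ((IsLocalRing.local_hom_TFAE (algebraMap A B)).out 0 2).mp ‹_›
  let q : (B ⧸ (IsLocalRing.maximalIdeal A).map (algebraMap A B)) →+* B ⧸ m :=
    Ideal.Quotient.factor hJm
  have hcomp : q.comp (algebraMap B (B ⧸ (IsLocalRing.maximalIdeal A).map (algebraMap A B))) =
      Ideal.Quotient.mk m := by
    ext x
    rfl
  have hpd : HasProjectiveDimensionLT (ModuleCat.of _ (resA q)) (d + 1) :=
    Groth.Agent.S0563.result _ d hd (resA q)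
  set G := (extCx (algebraMap B (B ⧸ (IsLocalRing.maximalIdeal A).map (algebraMap A B)))).obj F
    with hGdef
  have hGflat : DRing.TermwiseFlat G := termwiseFlat_bc _ F (fun j =>
    have := (hFf j).2
    inferInstance)
  have hGK : KFlat G := kflat_of_boundedAbove_flat G bF (vanishesAbove_bc _ F bF hFb) hGflat
  have hq : ((extCx q).obj G).ExactAt i := by
    rw [exactAt_extCx_iff]
    rcases hi with hi | hi
    · exact exactAt_TC_of_hasProjectiveDimensionLT G hGflat a (fun j hj => hG j (Or.inl hj)) d
        (resA q) hpd i hi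
    · exact exactAt_TC_of_exactAt_above G hGK b (fun j hj => hG j (Or.inr hj)) (resA q) i hi
  have hmk : ((extCx (Ideal.Quotient.mk m)).obj F).ExactAt i := by
    have e1 := (extCompCx (algebraMap B (B ⧸ (IsLocalRing.maximalIdeal A).map (algebraMap A B)))
      q).app F
    rw [hcomp] at e1
    exact (exactAt_iff_of_iso e1 i).1 hq
  have e' : (DRing.LBaseChange (Ideal.Quotient.mk m)).obj K ≅
      Q.obj ((bcCx (Ideal.Quotient.mk m)).obj F) :=
    (DRing.LBaseChange (Ideal.Quotient.mk m)).mapIso e.symm ≪≫ lbcIso (Ideal.Quotient.mk m) F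
  rw [exactAt_iff_isZero_H] at hmk
  exact ModuleCat.subsingleton_of_isZero
    (hmk.of_iso ((homologyFunctor (ModuleCat.{u} (B ⧸ m)) i).mapIso e'))

end main

end Groth.Agent.Lib.T2H4.RegFibre
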