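import Mathlib
import Groth.Agent.Lib.T2H4TorRes3
import Groth.Agent.Lib.Helper1TensPerf
import Groth.Agent.Lib.Helper1PCTower
import Groth.Agent.Lib.Helper1LBC
import Groth.Prelude.Def_DualSh
set_option backward.isDefEq.respectTransparency.types false

set_option autoImplicit false
set_option linter.style.haveILetI false
universe u
open CategoryTheory CategoryTheory.Limits HomologicalComplex MonoidalCategory
attribute [local instance] HasDerivedCategory.standard

namespace Groth.Agent.Lib.T2H4.RelPerf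

open Groth.Agent.Lib.Helper1.BKF Groth.Agent.Lib.Helper1.KBC Groth.Agent.Lib.Helper1.KF
  Groth.Agent.Lib.Helper1.Tor Groth.Agent.Lib.Helper1.DT DTen DerivedCategory
  Groth.Agent.Lib.Helper1.TorO Groth.Agent.Lib.Helper1.TorL Groth.Agent.Lib.T2H4.TorRes

section

variable {A B : Type u} [CommRing A] [CommRing B] (φ : A →+* B)

/-- symmetric version of `torAmp_restrict_LTensorCx`: `K|_A` of tor amplitude `[c, d]`, `L` a
bounded flat complex in `[a, b]` over `B` -/
theorem torAmp_restrict_LTensorCx' (K : Dual.D B) (a b c d : ℤ)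
    (hK : DRing.HasTorAmplitudeIn A c d ((DRing.restrictD φ).obj K)) (L : Cx B)
    (hL : DRing.VanishesOutside L a b) (hLf : DRing.TermwiseFlat L) [DRing.HasLTensorCx B L] :
    DRing.HasTorAmplitudeIn A (a + c) (b + d)
      ((DRing.restrictD φ).obj ((DRing.LTensorCx B L).obj K)) := by
  obtain ⟨P, hP, -, ⟨eP⟩⟩ := exists_kproj_iso K
  have := isIso_counit_LTensorCx L P
  have iso : (DRing.LTensorCx B L).obj K ≅ Q.obj (P ⊗ L) :=
    (DRing.LTensorCx B L).mapIso eP.symm ≪≫
      asIso (((DRing.tensorCxQ B L).totalLeftDerivedCounit Q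
        (HomologicalComplex.quasiIso (ModuleCat.{u} B) (ComplexShape.up ℤ))).app P)
  have hP' : DRing.HasTorAmplitudeIn A c d ((DRing.restrictD φ).obj (Q.obj P)) :=
    hasTorAmp_of_iso ((DRing.restrictD φ).mapIso eP.symm) hK
  refine hasTorAmp_of_iso ((DRing.restrictD φ).mapIso iso.symm)
    (hasTorAmp_of_mix φ (P ⊗ L) _ _ ?_)
  intro M
  obtain ⟨F, π, hF, hπ⟩ := exists_kflat_resolution M
  refine ⟨F, π, hF, hπ, fun i hi => ?_⟩
  have e : (P ⊗ L) ⊗ (extCx φ).obj F ≅ L ⊗ (P ⊗ (extCx φ).obj F) :=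
    whiskerRightIso (swapIso P L) _ ≪≫ α_ L P ((extCx φ).obj F)
  rw [exactAt_iff_of_iso e]
  exact exactAt_tensor_of_bounds L (P ⊗ (extCx φ).obj F) a b c d hL hLf
    (fun j hj => mix_of_hasTorAmp φ P c d hP' M F hF π j hj) i hi

end


section relPerfect

open Groth.Agent.Lib.Helper1.PC Groth.Agent.Lib.Helper1.PCTower

theorem isRelPerfect_LTensorCx (R A : Type u) [CommRing R] [CommRing A] [Algebra R A]
    (E : DRing.Cx A) (a b : ℤ)
    (hEb : DRing.VanishesOutside E a b) (hEp : DRing.TermwiseFiniteProjective E)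
    [DRing.HasLTensorCx A E]
    (M : Dual.D A) (hM : Dual2.IsRelPerfect R A M) :
    Dual2.IsRelPerfect R A ((DRing.LTensorCx A E).obj M) := by
  obtain ⟨hpc, c, d, htor⟩ := hM
  have hE' : DRing.IsPseudoCoherent' A (DRing.toD E) :=
    isPseudoCoherent'_of_forall _
      (fun m => isPC_of_bddAbove_finProj E b (fun i hi => hEb i (Or.inr hi)) hEp m)
  refine ⟨Groth.Agent.Lib.Helper1.TensPerf.isPseudoCoherent'_LTensorCx M hpc E hE', a + c, b + d, ?_⟩
  refine torAmp_restrict_LTensorCx' (algebraMap R A) M a b c d htor E hEb (fun i => ?_)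
  have := (hEp i).2
  infer_instance

end relPerfect

end Groth.Agent.Lib.T2H4.RelPerf
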