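import Mathlib
import Groth.Agent.Lib.T2H4TorIndep
import Groth.Agent.Lib.T2H4LDerExist
import Groth.Agent.Lib.Helper1PCNil2
import Groth.Agent.Lib.Helper1TorDim
import Groth.Prelude.Def_DualSh
set_option backward.isDefEq.respectTransparency.types false

set_option autoImplicit false
set_option linter.style.haveILetI false
universe u
open CategoryTheory CategoryTheory.Limits HomologicalComplex MonoidalCategory
attribute [local instance] HasDerivedCategory.standard

namespace Groth.Agent.Lib.T2H4.RelPerfNil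

open Groth.Agent.Lib.Helper1 Groth.Agent.Lib.Helper1.KF Groth.Agent.Lib.Helper1.Tor
  Groth.Agent.Lib.Helper1.DT DTen
  DerivedCategory Groth.Agent.Lib.Helper1.TorM Groth.Agent.Lib.Helper1.LDer
  Groth.Agent.Lib.T2H4.TorRes TrivBC Groth.Agent.Lib.Helper1.TorO
  Groth.Agent.Lib.T2H4.TorIndep

open TensorProduct

section ring

variable (R' A' R : Type u) [CommRing R'] [CommRing A'] [Algebra R' A'] [CommRing R] [Algebra R' R]

lemma includeRight_surjective (hs : Function.Surjective (algebraMap R' R)) :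
    Function.Surjective (Algebra.TensorProduct.includeRight.toRingHom : A' →+* R ⊗[R'] A') := by
  intro z
  induction z using TensorProduct.induction_on with
  | zero => exact ⟨0, map_zero _⟩
  | tmul r a =>
    obtain ⟨r₀, rfl⟩ := hs r
    refine ⟨r₀ • a, ?_⟩
    show (1 : R) ⊗ₜ[R'] (r₀ • a) = algebraMap R' R r₀ ⊗ₜ[R'] a
    rw [TensorProduct.tmul_smul, TensorProduct.smul_tmul', Algebra.smul_def, mul_one]
  | add x y hx hy =>
    obtain ⟨x', rfl⟩ := hx
    obtain ⟨y', rfl⟩ := hy
    exact ⟨x' + y', map_add _ _ _⟩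

lemma includeRight_ker_nilpotent (hs : Function.Surjective (algebraMap R' R))
    (hn : IsNilpotent (RingHom.ker (algebraMap R' R))) :
    IsNilpotent (RingHom.ker
      (Algebra.TensorProduct.includeRight.toRingHom : A' →+* R ⊗[R'] A')) := by
  obtain ⟨k, hk⟩ := hn
  refine ⟨k, ?_⟩
  let f : R' →ₐ[R'] R := Algebra.ofId R' R
  have hf : Function.Surjective f := hs
  have hker := Algebra.TensorProduct.rTensor_ker (R := R') (S := R') (C := A') f hf
  let β : A' →+* R' ⊗[R'] A' :=
    (Algebra.TensorProduct.includeRight : A' →ₐ[R'] R' ⊗[R'] A').toRingHom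
  have hβ : Function.Injective β := by
    intro x y hxy
    have := congrArg (Algebra.TensorProduct.lid R' A') hxy
    simpa [β] using this
  have hcomp : (Algebra.TensorProduct.includeRight.toRingHom : A' →+* R ⊗[R'] A') =
      (Algebra.TensorProduct.map f (AlgHom.id R' A')).toRingHom.comp β := by
    ext a
    simp [β]
  have hle : RingHom.ker (Algebra.TensorProduct.includeRight.toRingHom : A' →+* R ⊗[R'] A') ≤
      Ideal.comap β ((RingHom.ker f).map
        (Algebra.TensorProduct.includeLeft : R' →ₐ[R'] R' ⊗[R'] A')) := by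
    intro x hx
    rw [Ideal.mem_comap, ← hker, RingHom.mem_ker]
    rw [RingHom.mem_ker, hcomp] at hx
    exact hx
  have hpow : ((RingHom.ker f).map
      (Algebra.TensorProduct.includeLeft : R' →ₐ[R'] R' ⊗[R'] A')) ^ k = ⊥ := by
    have : RingHom.ker f ^ k = ⊥ := hk
    rw [← Ideal.map_pow, this, Ideal.map_bot]
  show RingHom.ker (Algebra.TensorProduct.includeRight.toRingHom : A' →+* R ⊗[R'] A') ^ k = ⊥
  rw [eq_bot_iff]
  calc RingHom.ker (Algebra.TensorProduct.includeRight.toRingHom : A' →+* R ⊗[R'] A') ^ k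
      ≤ (Ideal.comap β ((RingHom.ker f).map
        (Algebra.TensorProduct.includeLeft : R' →ₐ[R'] R' ⊗[R'] A'))) ^ k := Ideal.pow_right_mono hle k
    _ ≤ Ideal.comap β (((RingHom.ker f).map
        (Algebra.TensorProduct.includeLeft : R' →ₐ[R'] R' ⊗[R'] A')) ^ k) := Ideal.le_comap_pow _ _
    _ = Ideal.comap β ⊥ := by rw [hpow]
    _ = ⊥ := by
      rw [← RingHom.ker_eq_comap_bot]
      exact (RingHom.injective_iff_ker_eq_bot β).1 hβ

end ring


section main

attribute [local instance] Algebra.TensorProduct.rightAlgebra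

variable (R' A' R : Type u) [CommRing R'] [CommRing A'] [Algebra R' A'] [CommRing R] [Algebra R' R]

theorem isRelPerfect_of_LBaseChange_nilpotent [Module.Flat R' A']
    (hs : Function.Surjective (algebraMap R' R)) (hn : IsNilpotent (RingHom.ker (algebraMap R' R)))
    [DRing.HasLBaseChange (Algebra.TensorProduct.includeRight.toRingHom : A' →+* R ⊗[R'] A')]
    (K' : Dual.D A')
    (hK : Dual2.IsRelPerfect R (R ⊗[R'] A')
      ((DRing.LBaseChange (Algebra.TensorProduct.includeRight.toRingHom : A' →+* R ⊗[R'] A')).obj K')) :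
    Dual2.IsRelPerfect R' A' K' := by
  obtain ⟨hpc, a, b, htor⟩ := hK
  refine ⟨Groth.Agent.Lib.Helper1.PCNil.isPseudoCoherent'_of_LBC _
    (includeRight_surjective R' A' R hs) (includeRight_ker_nilpotent R' A' R hs hn) K' hpc,
    a, b, ?_⟩
  -- the base change square
  haveI : DRing.HasLBaseChange (algebraMap R' R) := LDerExist.hasLBaseChange _
  haveI : DRing.HasLBaseChange (algebraMap A' (R ⊗[R'] A')) :=
    (inferInstance : DRing.HasLBaseChange
      (Algebra.TensorProduct.includeRight.toRingHom : A' →+* R ⊗[R'] A'))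
  have h : (algebraMap A' (R ⊗[R'] A')).comp (algebraMap R' A') =
      (algebraMap R (R ⊗[R'] A')).comp (algebraMap R' R) :=
    (IsScalarTower.algebraMap_eq R' A' (R ⊗[R'] A')).symm.trans
      (IsScalarTower.algebraMap_eq R' R (R ⊗[R'] A'))
  have hT : ∀ p : ℕ, 1 ≤ p → Subsingleton (DRing.Tor R' p A' R) := fun p hp =>
    (Groth.Agent.Lib.Helper1.TorDim.hasTorDimLE_zero_iff_flat A').2 inferInstance R p (by lia)
  haveI ic := isIso_cmp R' A' R (R ⊗[R'] A') hT (lbcAdj (algebraMap R' R))
    (lbcAdj (algebraMap A' (R ⊗[R'] A'))) h K'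
  -- a K-projective model of the restriction
  obtain ⟨G, hG, hGp, ⟨eG⟩⟩ := exists_kproj_iso ((DRing.restrictD (algebraMap R' A')).obj K')
  haveI := hG
  have hGf : DRing.TermwiseFlat G := fun i =>
    have := hGp i
    have : Module.Projective R' (G.X i) := ModuleCat.projective_of_module_projective _
    inferInstance
  have iso : Q.obj ((extCx (algebraMap R' R)).obj G) ≅
      (DRing.restrictD (algebraMap R (R ⊗[R'] A'))).obj
        ((DRing.LBaseChange (algebraMap A' (R ⊗[R'] A'))).obj K') :=
    (lbcIso (algebraMap R' R) G).symm ≪≫ (DRing.LBaseChange (algebraMap R' R)).mapIso eG ≪≫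
      asIso (TrivBC.cmp (lbcAdj (algebraMap R' R)) (lbcAdj (algebraMap A' (R ⊗[R'] A'))) h K')
  obtain ⟨E, hE, hEf, ⟨e⟩⟩ := htor
  have hv : TorVan ((extCx (algebraMap R' R)).obj G) a b :=
    torVan_of_iso_kflat _ E (kflat_of_isKProjective _) a b hE hEf (e ≪≫ iso.symm)
  have hv' : TorVan G a b := torVan_of_torVan_extCx (algebraMap R' R) hs hn G hGf a b hv
  exact hasTorAmp_of_iso eG (hasTorAmp_of_torVan_kflat G (kflat_of_isKProjective G) a b hv')

end main

end Groth.Agent.Lib.T2H4.RelPerfNil
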