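import Mathlib
import Groth.Prelude.Def_CInt
import Groth.Prelude.Def_TorSh
import Groth.Agent.Lib.T2H3FreeLocus
import Groth.Agent.Lib.Helper6SmRegSch
import Groth.Agent.Lib.Helper28NormalLift
import Groth.Agent.Lib.Helper28Catenary
import Groth.Agent.Lib.Helper5RLR
set_option backward.isDefEq.respectTransparency.types false

/-!
# A module flat over the base with torsion-free fibres is free near fibre points of codimension ≤ 1 (helper4)
-/

set_option autoImplicit false
set_option linter.style.haveILetI false
universe u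
open CategoryTheory CategoryTheory.Limits AlgebraicGeometry TopologicalSpace

namespace Groth.Agent.Lib.T2H4.RelTfFree

open Groth.Agent.Lib.T2H3.FreeBC Groth.Agent.Lib.Helper2.LocFree Groth.Agent.Lib.Helper2.PullbackSec

theorem main {P S : Scheme.{u}} (f : P ⟶ S) [Smooth f]
    (F : P.Modules) (hfp : CohB1.IsFP F)
    (hfl : FlatMod.IsFlatOver f F)
    (htf : ∀ s : S, TorSh.IsTorsionFree ((Scheme.Modules.pullback (f.fiberι s)).obj F))
    (x : P) (hx : ringKrullDim (CInt.fiberStalk f x) ≤ 1) :
    ∃ (V : P.Opens) (n : ℕ), x ∈ V ∧ Nonempty (F.restrict V.ι ≅ FlatMod.freeMod (↑V) n) := by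
  haveI : SheafOfModules.IsFinitePresentation (R := P.ringCatSheaf) F := hfp
  haveI : F.IsQuasicoherent := inferInstance
  haveI : ((Scheme.Modules.pullback (f.fiberι (f x))).obj F).IsQuasicoherent :=
    isQuasicoherent_pullback (f.fiberι (f x)) F
  haveI : SheafOfModules.IsFinitePresentation (R := (f.fiber (f x)).ringCatSheaf)
      ((Scheme.Modules.pullback (f.fiberι (f x))).obj F) :=
    Groth.Agent.Helper18Strict.isFP_pullback (f.fiberι (f x)) F inferInstance
  haveI : Smooth (f.fiberToSpecResidueField (f x)) := by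
    unfold Scheme.Hom.fiberToSpecResidueField
    exact MorphismProperty.pullback_snd (P := @Smooth) _ _ inferInstance
  haveI hreg : IsRegularLocalRing ((f.fiber (f x)).presheaf.stalk (f.asFiber x)) :=
    Groth.Agent.Lib.Helper6.SmRegSch.isRegularLocalRing_stalk_of_smooth_over_field
      (k := S.residueField (f x)) (f.fiber (f x)) (f.fiberToSpecResidueField (f x)) (f.asFiber x)
  haveI := Groth.Agent.Lib.Helper5.isDomain_of_isRegularLocalRing
    ((f.fiber (f x)).presheaf.stalk (f.asFiber x))
  haveI := Groth.Agent.Lib.Helper28.isIntegrallyClosed_of_isRegularLocalRing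
    ((f.fiber (f x)).presheaf.stalk (f.asFiber x))
  haveI : IsPrincipalIdealRing ((f.fiber (f x)).presheaf.stalk (f.asFiber x)) :=
    Groth.Agent.Lib.Helper28.isPrincipalIdealRing_of_isIntegrallyClosed_of_dim_le_one hx
  haveI := finitePresentation_stalk ((Scheme.Modules.pullback (f.fiberι (f x))).obj F) (f.asFiber x)
  haveI : Module.IsTorsionFree ((f.fiber (f x)).presheaf.stalk (f.asFiber x))
      (((Scheme.Modules.pullback (f.fiberι (f x))).obj F).presheaf.stalk (f.asFiber x)) :=
    htf (f x) (f.asFiber x)
  have hfree : Module.Free ((f.fiber (f x)).presheaf.stalk (f.asFiber x))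
      (((Scheme.Modules.pullback (f.fiberι (f x))).obj F).presheaf.stalk (f.asFiber x)) :=
    inferInstance
  have hc : IsPullback (f.fiberι (f x)) (f.fiberToSpecResidueField (f x)) f
      (S.fromSpecResidueField (f x)) := IsPullback.of_hasPullback f _
  have h1 := free_stalk_of_free_stalk_pullback hc F (f.asFiber x) (hfl _) hfree
  have h2 := (free_stalk_iff_isFlatAt F _).1 h1
  obtain ⟨D, m, hxD, he⟩ := exists_restrict_iso_freeMod_of_isFlatAt F _ h2
  rw [f.fiberι_asFiber x] at hxD
  exact ⟨D, m, hxD, he⟩

end Groth.Agent.Lib.T2H4.RelTfFree
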