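import Mathlib
import Groth.Prelude.Def_RelProj3
import Groth.Agent.Lib.Helper2ProjLocSect
import Groth.Agent.Lib.Helper2GrModQCoh
import Groth.Agent.Lib.Helper2GrModComapIso
import Groth.Agent.Lib.Helper2RelTildeInj

/-!
# Sections of `M(n)~` on `Proj` of a degree-zero localisation (helper4, module version of helper2's `ProjLocSect`)

For a graded homomorphism `ψ : 𝒜 → ℬ` which is the localisation at an element `c` of degree zero and a
`ψ`-semilinear degree-preserving map `v : M → N` which is the localisation of `M` at `c`, the comparison map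
`GrMod.comapApp` is bijective on sections over opens matched by `Proj ℬ → Proj 𝒜`.
-/

set_option autoImplicit false
universe u
open CategoryTheory Limits AlgebraicGeometry TopologicalSpace Opposite
open scoped HomogeneousIdeal

namespace Groth.Agent.Lib.T2H4.RelTildeLoc

open Groth.Agent.Lib.Helper6 Groth.Agent.Lib.Helper2.IsGenCover Groth.Agent.Lib.Helper2GrModSect
  Groth.Agent.Lib.Helper2.ProjLocSect

variable {A B σ τ : Type u} [CommRing A] [SetLike σ A] [AddSubgroupClass σ A] {𝒜 : ℕ → σ} [GradedRing 𝒜]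
  [CommRing B] [SetLike τ B] [AddSubgroupClass τ B] {ℬ : ℕ → τ} [GradedRing ℬ]
  {M σM : Type u} [AddCommGroup M] [Module A M] [SetLike σM M] [AddSubgroupClass σM M] {ℳ : ℕ → σM}
  [SetLike.GradedSMul 𝒜 ℳ] [DirectSum.Decomposition ℳ]
  {N σN : Type u} [AddCommGroup N] [Module B N] [SetLike σN N] [AddSubgroupClass σN N] {𝒩 : ℕ → σN}
  [SetLike.GradedSMul ℬ 𝒩] [DirectSum.Decomposition 𝒩]
  (ψ : 𝒜 →+*ᵍ ℬ) (irr : ℬ₊ ≤ (𝒜₊).map ψ) (v : M →ₛₗ[ψ.toRingHom] N)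
  (hv : ∀ (i : ℕ) (m : M), m ∈ ℳ i → v m ∈ 𝒩 i)
  (c : A) (hc : c ∈ 𝒜 0)
  (hunit : IsUnit (ψ c))
  (hsurj : ∀ b : B, ∃ (a : A) (k : ℕ), b * ψ c ^ k = ψ a)
  (hsurjM : ∀ ν : N, ∃ (m : M) (k : ℕ), ψ c ^ k • ν = v m)
  (hkerM : ∀ m : M, v m = 0 → ∃ k : ℕ, c ^ k • m = 0)

omit [DirectSum.Decomposition ℳ] [DirectSum.Decomposition 𝒩] [SetLike.GradedSMul 𝒜 ℳ] [SetLike.GradedSMul ℬ 𝒩]
  [AddSubgroupClass σM M] [AddSubgroupClass σN N] in
include hunit hsurj hkerM in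
theorem locModMap_injective (y : ProjectiveSpectrum ℬ) :
    Function.Injective (GrMod.locModMap ψ irr v y) := by
  rw [injective_iff_map_eq_zero]
  intro q hq
  induction q using LocalizedModule.induction_on with
  | h m s =>
    rw [GrMod.locModMap_mk, Groth.Agent.Lib.Helper2.RelTildeInj.mk_eq_zero_iff'] at hq
    rw [Groth.Agent.Lib.Helper2.RelTildeInj.mk_eq_zero_iff']
    obtain ⟨t', ht'⟩ := hq
    obtain ⟨x, k, hx⟩ := hsurj (t' : B)
    have hc₀ := psi_c_not_mem ψ c hunit y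
    have hvx : v (x • m) = 0 := by
      rw [LinearMap.map_smulₛₗ]
      change ψ x • v m = 0
      rw [← hx, mul_comm, mul_smul, ht', smul_zero]
    obtain ⟨b, hb⟩ := hkerM _ hvx
    refine ⟨⟨c ^ b * x, ?_⟩, by rw [mul_smul]; exact hb⟩
    intro h
    have h' : ψ (c ^ b * x) ∈ y.asHomogeneousIdeal.toIdeal := h
    rw [map_mul, map_pow, ← hx] at h'
    rcases y.isPrime.mem_or_mem h' with h' | h'
    · exact hc₀ (y.isPrime.mem_of_pow_mem _ h')
    · rcases y.isPrime.mem_or_mem h' with h' | h'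
      · exact t'.2 h'
      · exact hc₀ (y.isPrime.mem_of_pow_mem _ h')

omit [SetLike.GradedSMul 𝒜 ℳ] in
include hc hv hsurjM in
theorem exists_graded_lift_mod {i : ℕ} {α : N} (hα : α ∈ 𝒩 i) :
    ∃ a ∈ ℳ i, ∃ k : ℕ, ψ c ^ k • α = v a := by
  classical
  obtain ⟨x, k, hx⟩ := hsurjM α
  have hc0 : ψ c ^ k ∈ ℬ 0 := by
    have h1 : ψ c ^ k ∈ ℬ (k • 0) := SetLike.pow_mem_graded k (ψ.map_mem hc)
    rwa [smul_zero] at h1
  have hbi : ψ c ^ k • α ∈ 𝒩 i := by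
    have h2 : ψ c ^ k • α ∈ 𝒩 (0 + i) := SetLike.GradedSMul.smul_mem hc0 hα
    rwa [zero_add] at h2
  refine ⟨(DirectSum.decompose ℳ x i : M), SetLike.coe_mem _, k, ?_⟩
  rw [← Groth.Agent.Lib.Helper2.GrModComapIso.decompose_map ψ ℳ 𝒩 v hv x i, ← hx,
    DirectSum.decompose_of_mem_same _ hbi]

omit [DirectSum.Decomposition ℳ] [DirectSum.Decomposition 𝒩] in
include hc in
theorem pow_smul_mem {i : ℕ} {a : M} (ha : a ∈ ℳ i) (l : ℕ) : c ^ l • a ∈ ℳ i := by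
  have h1 : c ^ l ∈ 𝒜 (l • 0) := SetLike.pow_mem_graded l hc
  rw [smul_zero] at h1
  have h2 : c ^ l • a ∈ ℳ (0 + i) := SetLike.GradedSMul.smul_mem h1 ha
  rwa [zero_add] at h2

variable (n : ℤ) (Ω : Opens (ProjectiveSpectrum.top 𝒜)) (Ω' : Opens (ProjectiveSpectrum.top ℬ))
  (hsub : Ω'.1 ⊆ ProjectiveSpectrum.comap ψ irr ⁻¹' Ω.1)
  (hcov : ∀ y ∈ Ω, ∃ y'' ∈ Ω', ProjectiveSpectrum.comap ψ irr y'' = y)

omit [DirectSum.Decomposition ℳ] [DirectSum.Decomposition 𝒩] in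
include hunit hsurj hkerM hcov in
theorem comapApp_injective : Function.Injective (GrMod.comapApp ψ irr v hv n Ω Ω' hsub) := by
  intro s₁ s₂ h
  refine Subtype.ext (funext fun y => Subtype.ext ?_)
  obtain ⟨y, hy⟩ := y
  obtain ⟨y'', hy'', rfl⟩ := hcov y hy
  apply locModMap_injective ψ irr v c hunit hsurj hkerM y''
  have h1 := congrArg (fun t : GrMod.sect ℬ 𝒩 n (op Ω') => ((t.1 ⟨y'', hy''⟩ : GrMod.tildeAt ℬ 𝒩 n y'') :
    GrMod.LocMod ℬ (M := N) y'')) h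
  exact h1

include hc hunit hsurj hsurjM hkerM hcov in
theorem comapApp_surjective (hinj : Function.Injective (ProjectiveSpectrum.comap ψ irr))
    (hopen : IsOpenMap (ProjectiveSpectrum.comap ψ irr)) :
    Function.Surjective (GrMod.comapApp ψ irr v hv n Ω Ω' hsub) := by
  intro τ₀
  have hc₀ := psi_c_not_mem ψ c hunit
  -- local lifts
  have hloc : ∀ z : Ω', ∃ (Nb : (Proj 𝒜).Opens) (_ : Nb ≤ Ω) (t : Γ(GrMod.tilde 𝒜 ℳ n, Nb)),
      ProjectiveSpectrum.comap ψ irr z.1 ∈ Nb ∧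
      ∀ (z' : ProjectiveSpectrum ℬ) (hz' : z' ∈ Ω') (hz'N : ProjectiveSpectrum.comap ψ irr z' ∈ Nb),
        GrMod.locModMap ψ irr v z' (GrMod.val t ⟨_, hz'N⟩) =
          ((τ₀.1 ⟨z', hz'⟩ : GrMod.tildeAt ℬ 𝒩 n z') : GrMod.LocMod ℬ (M := N) z') := by
    intro z
    obtain ⟨N', hzN', iN', i, j, α, β, hβ, hij, hfrac⟩ := τ₀.2 z
    let Nb : (Proj 𝒜).Opens := ⟨ProjectiveSpectrum.comap ψ irr '' N'.1, hopen _ N'.2⟩
    have hNΩ : Nb ≤ Ω := by
      rintro _ ⟨z', hz', rfl⟩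
      exact hsub (iN'.le hz')
    have hmemN : ∀ z' : ProjectiveSpectrum ℬ, ProjectiveSpectrum.comap ψ irr z' ∈ Nb → z' ∈ N' := by
      rintro z' ⟨z'', hz'', e⟩
      rw [← hinj e]; exact hz''
    rcases hij with hij | hα
    · obtain ⟨a, ha, k, hak⟩ := exists_graded_lift_mod ψ v hv c hc hsurjM α.2
      obtain ⟨b, hb, l, hbl⟩ := exists_graded_lift ψ c hc hsurj β.2
      have hWb : ∀ y : Nb, b * c ^ k ∉ y.1.asHomogeneousIdeal := by
        rintro ⟨_, z', hz', rfl⟩ h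
        have h' : ψ (b * c ^ k) ∈ z'.asHomogeneousIdeal.toIdeal := h
        rw [map_mul, map_pow, ← hbl] at h'
        rcases z'.isPrime.mem_or_mem h' with h' | h'
        · rcases z'.isPrime.mem_or_mem h' with h' | h'
          · exact hβ ⟨z', hz'⟩ h'
          · exact hc₀ z' (z'.isPrime.mem_of_pow_mem _ h')
        · exact hc₀ z' (z'.isPrime.mem_of_pow_mem _ h')
      refine ⟨Nb, hNΩ, fracOn 𝒜 ℳ n Nb (pow_smul_mem c hc ha l) (mul_pow_mem c hc hb k) hij hWb,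
        ⟨z.1, hzN', rfl⟩, ?_⟩
      intro z' hz' hz'N
      have hz'N' := hmemN z' hz'N
      have h1 := hfrac ⟨z', hz'N'⟩
      change GrMod.locModMap ψ irr v z' (LocalizedModule.mk (c ^ l • a) ⟨b * c ^ k, _⟩) = _
      rw [GrMod.locModMap_mk]
      refine Eq.trans ?_ h1.symm
      rw [LocalizedModule.mk_eq]
      refine ⟨1, ?_⟩
      rw [one_smul, one_smul]
      change (β : B) • v (c ^ l • a) = ψ (b * c ^ k) • (α : N)
      rw [LinearMap.map_smulₛₗ, ← hak]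
      change (β : B) • ψ (c ^ l) • ψ c ^ k • (α : N) = ψ (b * c ^ k) • (α : N)
      rw [map_mul, map_pow, map_pow, ← hbl, smul_smul, smul_smul]
    · refine ⟨Nb, hNΩ, 0, ⟨z.1, hzN', rfl⟩, ?_⟩
      intro z' hz' hz'N
      have h1 := hfrac ⟨z', hmemN z' hz'N⟩
      have h0 : GrMod.val (0 : Γ(GrMod.tilde 𝒜 ℳ n, Nb)) ⟨_, hz'N⟩ = 0 := rfl
      rw [h0, map_zero]
      refine Eq.trans ?_ h1.symm
      rw [hα, LocalizedModule.zero_mk]
  choose Nb hN t hzN ht using hloc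
  -- glue
  obtain ⟨s, hs⟩ := exists_section_of_cover (GrMod.tilde 𝒜 ℳ n) Ω Nb hN (fun y hy => by
      obtain ⟨y'', hy'', rfl⟩ := hcov y hy
      exact ⟨⟨y'', hy''⟩, hzN ⟨y'', hy''⟩⟩) t (by
    intro z₁ z₂
    apply sec_ext
    intro y hy
    obtain ⟨y'', hy'', rfl⟩ := hcov y (hN z₁ hy.1)
    apply locModMap_injective ψ irr v c hunit hsurj hkerM y''
    exact (ht z₁ y'' hy'' hy.1).trans (ht z₂ y'' hy'' hy.2).symm)
  refine ⟨s, ?_⟩
  refine Subtype.ext (funext fun z => Subtype.ext ?_)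
  have h1 := ht z z.1 z.2 (hzN z)
  have h2 := congrArg (fun σ : Γ(GrMod.tilde 𝒜 ℳ n, Nb z) => GrMod.val σ ⟨_, hzN z⟩) (hs z)
  exact (congrArg (GrMod.locModMap ψ irr v z.1) h2).trans h1

include hc hunit hsurj hsurjM hkerM hcov in
theorem comapApp_bijective (hinj : Function.Injective (ProjectiveSpectrum.comap ψ irr))
    (hopen : IsOpenMap (ProjectiveSpectrum.comap ψ irr)) :
    Function.Bijective (GrMod.comapApp ψ irr v hv n Ω Ω' hsub) :=
  ⟨comapApp_injective ψ irr v hv c hunit hsurj hkerM n Ω Ω' hsub hcov,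
    comapApp_surjective ψ irr v hv c hc hunit hsurj hsurjM hkerM n Ω Ω' hsub hcov hinj hopen⟩

end Groth.Agent.Lib.T2H4.RelTildeLoc
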