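import Mathlib
import Groth.Prelude.Def_RelProj3
import Groth.Agent.Lib.T2H4RelTwistPowA
import Groth.Agent.Lib.Helper23RestrTensor
import Groth.Agent.Lib.Helper23RelAmpleCounit
import Groth.Agent.Lib.Helper23FinTypeLocal
import Groth.Agent.Lib.Helper23LocGen

/-!
# The counit `p^* p_* F(n) → F(n)` on a relative Proj is eventually an epimorphism (helper4)
-/

set_option autoImplicit false
universe u
open CategoryTheory Limits AlgebraicGeometry TopologicalSpace Opposite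
open scoped HomogeneousIdeal

namespace Groth.Agent.Lib.T2H4.RelTwistPow

open RelProj Groth.Agent.Lib.Helper2.RelTwistTensor Groth.Agent.Lib.Helper2.RelTwistExist
  Groth.Agent.Lib.Helper2.RelTwistGen Groth.Agent.Lib.Helper2.RelTwistAmpleB
  Groth.Agent.Lib.Helper23.RestrTensor Groth.Agent.Lib.Helper23.RelAmpleCounit
  Groth.Agent.Lib.Helper23.CounitEpi

variable {P S : Scheme.{u}} {𝒮 : RelProj.QCGrAlg S} (p : P ⟶ S)
  (chart : ∀ (U : S.Opens) (hU : IsAffineOpen U), (((p ⁻¹ᵁ U : P.Opens) : Scheme.{u}) ≅ Proj (𝒮.deg U hU)))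

theorem compactSpace_chart (hgen : 𝒮.IsGenDegOne) (hft : 𝒮.IsFTDeg 1) (V : S.Opens) (hV : IsAffineOpen V) :
    CompactSpace (Proj (𝒮.deg V hV)) := by
  obtain ⟨T, hT, hspan⟩ := hft V hV
  refine compactSpace_proj_of_gen (𝒮.deg V hV) (hgen V hV) T hT fun x hx => ?_
  obtain ⟨c, hc⟩ := hspan x hx
  exact ⟨fun t => (𝒮.str.app (op V)).hom (c t), hc⟩

/-- `O_P(1)` is invertible and ample over the preimage of every affine open. -/
theorem isAmple_twist_one (hP : RelProj.IsRelProj 𝒮 p chart) (hgen : 𝒮.IsGenDegOne) (hft : 𝒮.IsFTDeg 1)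
    (L₁ : P.Modules)
    (lam₁ : ∀ (U : S.Opens) (hU : IsAffineOpen U),
      L₁ ⟶ (Scheme.Modules.pushforward (RelProj.emb p chart U hU)).obj
        (GrTwist.twist (𝒮.deg U hU) ((1 : ℕ) : ℤ)))
    (hL₁ : RelProj.IsRelTwist 𝒮 p chart ((1 : ℕ) : ℤ) L₁ lam₁) :
    PicF.IsInvertible L₁ ∧ ∀ (V : S.Opens) (hV : IsAffineOpen V), CohB1.IsAmple (L₁.restrict (p ⁻¹ᵁ V).ι) := by
  have hcov1 : ∀ (V : S.Opens) (hV : IsAffineOpen V) (y : ProjectiveSpectrum (𝒮.deg V hV)),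
      ∃ g ∈ 𝒮.deg V hV 1, g ∉ y.asHomogeneousIdeal :=
    fun V hV y => exists_degOne_not_mem_of_gen (𝒮.deg V hV) (hgen V hV) y
  have hinv : PicF.IsInvertible L₁ := isInvertible_of_cover p chart 1 L₁ lam₁ hL₁ hcov1
  refine ⟨hinv, fun V hV => ?_⟩
  haveI : CompactSpace (Proj (𝒮.deg V hV)) := compactSpace_chart hgen hft V hV
  exact isAmple_restrict_preimage p chart L₁ V hV
    (Groth.Agent.Lib.Helper2.RelTwistAmple.isAmple_restrict_emb p chart 1 L₁ lam₁ hL₁ Nat.one_pos hinv V hV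
      (hcov1 V hV))

/-- **the counit `p^* p_* (F ⊗ O_P(n)) → F ⊗ O_P(n)` is an epimorphism for `n ≫ 0`.** -/
theorem counit_epi_eventually [CompactSpace S] (hP : RelProj.IsRelProj 𝒮 p chart) (hgen : 𝒮.IsGenDegOne)
    (hft : 𝒮.IsFTDeg 1) (F : P.Modules) (hFq : Coh.IsQCoh F) (hFt : CohB1.IsFT F) :
    ∃ n₀ : ℤ, ∀ (n : ℤ), n₀ ≤ n → ∀ (L : P.Modules)
      (lam : ∀ (U : S.Opens) (hU : IsAffineOpen U),
      L ⟶ (Scheme.Modules.pushforward (RelProj.emb p chart U hU)).obj (GrTwist.twist (𝒮.deg U hU) n)),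
      RelProj.IsRelTwist 𝒮 p chart n L lam →
        Epi ((Scheme.Modules.pullbackPushforwardAdjunction p).counit.app (CohB1.tensorMod F L)) := by
  haveI : F.IsQuasicoherent := hFq
  haveI : SheafOfModules.IsFiniteType (R := P.ringCatSheaf) F := hFt
  obtain ⟨L₁, lam₁, hL₁⟩ := exists_isRelTwist p chart hP ((1 : ℕ) : ℤ)
  obtain ⟨hinv, hamp⟩ := isAmple_twist_one p chart hP hgen hft L₁ lam₁ hL₁
  obtain ⟨lam₁', hL₁'⟩ := exists_isRelTwist_cast p chart (k := ((1 : ℕ) : ℤ)) (k' := 1) Nat.cast_one L₁ lam₁ hL₁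
  have key : ∀ V : S.affineOpens, ∃ n₀ : ℕ, ∀ n, n₀ ≤ n →
      Curv2.IsGloballyGenerated ((CohB1.tensorMod F (CohB1.tensorPow L₁ n)).restrict (p ⁻¹ᵁ V.1).ι) := by
    intro V
    haveI : (F.restrict (p ⁻¹ᵁ V.1).ι).IsQuasicoherent :=
      Scheme.Modules.isQuasicoherent_restrictFunctor (p ⁻¹ᵁ V.1).ι F
    haveI : SheafOfModules.IsFiniteType (R := ((p ⁻¹ᵁ V.1 : P.Opens) : Scheme.{u}).ringCatSheaf)
        (F.restrict (p ⁻¹ᵁ V.1).ι) :=
      Groth.Agent.Lib.Helper23.FinType.isFiniteType_restrict (p ⁻¹ᵁ V.1).ι F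
    obtain ⟨n₀, hn₀⟩ := Groth.Agent.Lib.Helper23.LocGen.isGloballyGenerated_twist_eventually
      (L₁.restrict (p ⁻¹ᵁ V.1).ι) (hamp V.1 V.2) (F.restrict (p ⁻¹ᵁ V.1).ι)
    refine ⟨n₀, fun n hn => ?_⟩
    obtain ⟨e⟩ := nonempty_restrict_twist_iso F L₁ hinv (p ⁻¹ᵁ V.1) n
    exact isGloballyGenerated_of_iso e.symm (hn₀ n hn)
  choose N hN using key
  have hcov : ∀ x : S, ∃ V : S.affineOpens, x ∈ V.1 := by
    intro x
    obtain ⟨V, hV, hxV, -⟩ := Opens.isBasis_iff_nbhd.1 S.isBasis_affineOpens (Opens.mem_top x)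
    exact ⟨⟨V, hV⟩, hxV⟩
  choose V hV using hcov
  obtain ⟨T, hT⟩ : ∃ T : Finset S, (Set.univ : Set S) ⊆ ⋃ x ∈ T, (((V x).1 : S.Opens) : Set S) :=
    isCompact_univ.elim_finite_subcover (fun x => (((V x).1 : S.Opens) : Set S))
      (fun x => (V x).1.2) (fun x _ => Set.mem_iUnion.2 ⟨x, hV x⟩)
  refine ⟨((max (T.sup fun x => N (V x)) 1 : ℕ) : ℤ), fun n hn L lam hL => ?_⟩
  obtain ⟨m, rfl⟩ : ∃ m : ℕ, n = ((m + 1 : ℕ) : ℤ) := by
    have h1 : (1 : ℤ) ≤ n := le_trans (by exact_mod_cast le_max_right _ _) hn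
    exact ⟨(n - 1).toNat, by push_cast; omega⟩
  have hm : max (T.sup fun x => N (V x)) 1 ≤ m + 1 := by exact_mod_cast hn
  obtain ⟨e⟩ := nonempty_tensorPow_iso p chart hP hgen L₁ lam₁' hL₁' m L lam hL
  apply epi_counit_of_isGloballyGenerated p
  intro y
  obtain ⟨x, hx⟩ := Set.mem_iUnion.1 (hT (Set.mem_univ (p y)))
  obtain ⟨hxT, hyx⟩ := Set.mem_iUnion.1 hx
  refine ⟨(V x).1, hyx, ?_⟩
  have h1 := hN (V x) (m + 1) (le_trans (Finset.le_sup (f := fun x => N (V x)) hxT)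
    (le_trans (le_max_left _ _) hm))
  exact isGloballyGenerated_of_iso ((Scheme.Modules.restrictFunctor (p ⁻¹ᵁ (V x).1).ι).mapIso
    (Groth.Agent.Lib.Helper23.AmpleIso.tensorModIso (Iso.refl F) e)) h1

end Groth.Agent.Lib.T2H4.RelTwistPow
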