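import Mathlib
import Groth.Prelude.Def_RelProj3
import Groth.Agent.Lib.T2H4RelTwistPowB

/-!
# On a relative Proj, `F(n)` is eventually generated by its sections over the preimages of a finite affine cover (helper4)
-/

set_option autoImplicit false
set_option linter.style.haveILetI false
universe u
open CategoryTheory Limits AlgebraicGeometry TopologicalSpace Opposite
open scoped HomogeneousIdeal

namespace Groth.Agent.Lib.T2H4.RelTwistPow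

open RelProj Groth.Agent.Lib.Helper2.RelTwistTensor Groth.Agent.Lib.Helper2.RelTwistExist
  Groth.Agent.Lib.Helper2.RelTwistGen Groth.Agent.Lib.Helper2.RelTwistAmpleB
  Groth.Agent.Lib.Helper23.RestrTensor Groth.Agent.Lib.Helper23.RelAmpleCounit
  Groth.Agent.Lib.Helper23.CounitEpi Groth.Agent.Lib.Helper23.LocGen

variable {P S : Scheme.{u}} {𝒮 : RelProj.QCGrAlg S} (p : P ⟶ S)
  (chart : ∀ (U : S.Opens) (hU : IsAffineOpen U), (((p ⁻¹ᵁ U : P.Opens) : Scheme.{u}) ≅ Proj (𝒮.deg U hU)))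

/-- **`F ⊗ O_P(n)` is, for `n ≫ 0`, locally generated by its sections over `p⁻¹(V)`**, for `V` in a finite affine cover
of the base. -/
theorem locGen_eventually [CompactSpace S] (hP : RelProj.IsRelProj 𝒮 p chart) (hgen : 𝒮.IsGenDegOne)
    (hft : 𝒮.IsFTDeg 1) (F : P.Modules) (hFq : Coh.IsQCoh F) (hFt : CohB1.IsFT F) :
    ∃ T : Finset S.affineOpens, (∀ x : S, ∃ V ∈ T, x ∈ V.1) ∧ ∃ n₀ : ℤ, ∀ (n : ℤ), n₀ ≤ n → ∀ (L : P.Modules)
      (lam : ∀ (U : S.Opens) (hU : IsAffineOpen U),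
      L ⟶ (Scheme.Modules.pushforward (RelProj.emb p chart U hU)).obj (GrTwist.twist (𝒮.deg U hU) n)),
      RelProj.IsRelTwist 𝒮 p chart n L lam → ∀ V ∈ T,
        ∀ y : ((p ⁻¹ᵁ V.1 : P.Opens) : Scheme.{u}), ∃ A : ((p ⁻¹ᵁ V.1 : P.Opens) : Scheme.{u}).Opens, y ∈ A ∧
          LocGen ((CohB1.tensorMod F L).restrict (p ⁻¹ᵁ V.1).ι) A := by
  classical
  haveI : F.IsQuasicoherent := hFq
  haveI : SheafOfModules.IsFiniteType (R := P.ringCatSheaf) F := hFt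
  obtain ⟨L₁, lam₁, hL₁⟩ := exists_isRelTwist p chart hP ((1 : ℕ) : ℤ)
  obtain ⟨hinv, hamp⟩ := isAmple_twist_one p chart hP hgen hft L₁ lam₁ hL₁
  obtain ⟨lam₁', hL₁'⟩ := exists_isRelTwist_cast p chart (k := ((1 : ℕ) : ℤ)) (k' := 1) Nat.cast_one L₁ lam₁ hL₁
  have key : ∀ V : S.affineOpens, ∃ n₀ : ℕ, ∀ n, n₀ ≤ n →
      ∀ y : ((p ⁻¹ᵁ V.1 : P.Opens) : Scheme.{u}), ∃ A : ((p ⁻¹ᵁ V.1 : P.Opens) : Scheme.{u}).Opens, y ∈ A ∧
        LocGen ((CohB1.tensorMod F (CohB1.tensorPow L₁ n)).restrict (p ⁻¹ᵁ V.1).ι) A := by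
    intro V
    haveI : (F.restrict (p ⁻¹ᵁ V.1).ι).IsQuasicoherent :=
      Scheme.Modules.isQuasicoherent_restrictFunctor (p ⁻¹ᵁ V.1).ι F
    haveI : SheafOfModules.IsFiniteType (R := ((p ⁻¹ᵁ V.1 : P.Opens) : Scheme.{u}).ringCatSheaf)
        (F.restrict (p ⁻¹ᵁ V.1).ι) :=
      Groth.Agent.Lib.Helper23.FinType.isFiniteType_restrict (p ⁻¹ᵁ V.1).ι F
    haveI : CompactSpace ((p ⁻¹ᵁ V.1 : P.Opens) : Scheme.{u}) := (hamp V.1 V.2).2.1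
    choose A N hyA hN using exists_locGen_nhd (L₁.restrict (p ⁻¹ᵁ V.1).ι) (hamp V.1 V.2)
      (F.restrict (p ⁻¹ᵁ V.1).ι)
    obtain ⟨Tt, hTt⟩ : ∃ Tt : Finset ((p ⁻¹ᵁ V.1 : P.Opens) : Scheme.{u}),
        (Set.univ : Set ((p ⁻¹ᵁ V.1 : P.Opens) : Scheme.{u})) ⊆
          ⋃ x ∈ Tt, ((A x : ((p ⁻¹ᵁ V.1 : P.Opens) : Scheme.{u}).Opens) :
            Set ((p ⁻¹ᵁ V.1 : P.Opens) : Scheme.{u})) :=
      isCompact_univ.elim_finite_subcover
        (fun x => ((A x : ((p ⁻¹ᵁ V.1 : P.Opens) : Scheme.{u}).Opens) :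
            Set ((p ⁻¹ᵁ V.1 : P.Opens) : Scheme.{u})))
        (fun x => (A x).2) (fun x _ => Set.mem_iUnion.2 ⟨x, hyA x⟩)
    refine ⟨Tt.sup N, fun n hn y => ?_⟩
    obtain ⟨z, hz⟩ := Set.mem_iUnion.1 (hTt (Set.mem_univ y))
    obtain ⟨hzT, hyz⟩ := Set.mem_iUnion.1 hz
    obtain ⟨e⟩ := nonempty_restrict_twist_iso F L₁ hinv (p ⁻¹ᵁ V.1) n
    exact ⟨A z, hyz, LocGen.of_iso e.symm (hN z n (le_trans (Finset.le_sup (f := N) hzT) hn))⟩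
  choose N hN using key
  have hcov : ∀ x : S, ∃ V : S.affineOpens, x ∈ V.1 := by
    intro x
    obtain ⟨V, hV, hxV, -⟩ := Opens.isBasis_iff_nbhd.1 S.isBasis_affineOpens (Opens.mem_top x)
    exact ⟨⟨V, hV⟩, hxV⟩
  choose V hV using hcov
  obtain ⟨T, hT⟩ : ∃ T : Finset S, (Set.univ : Set S) ⊆ ⋃ x ∈ T, (((V x).1 : S.Opens) : Set S) :=
    isCompact_univ.elim_finite_subcover (fun x => (((V x).1 : S.Opens) : Set S))
      (fun x => (V x).1.2) (fun x _ => Set.mem_iUnion.2 ⟨x, hV x⟩)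
  refine ⟨T.image V, fun x => ?_, ((max ((T.image V).sup N) 1 : ℕ) : ℤ), fun n hn L lam hL W hW y => ?_⟩
  · obtain ⟨z, hz⟩ := Set.mem_iUnion.1 (hT (Set.mem_univ x))
    obtain ⟨hzT, hxz⟩ := Set.mem_iUnion.1 hz
    exact ⟨V z, Finset.mem_image_of_mem V hzT, hxz⟩
  obtain ⟨m, rfl⟩ : ∃ m : ℕ, n = ((m + 1 : ℕ) : ℤ) := by
    have h1 : (1 : ℤ) ≤ n := le_trans (by exact_mod_cast le_max_right _ _) hn
    exact ⟨(n - 1).toNat, by push_cast; omega⟩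
  have hm : max ((T.image V).sup N) 1 ≤ m + 1 := by exact_mod_cast hn
  obtain ⟨e⟩ := nonempty_tensorPow_iso p chart hP hgen L₁ lam₁' hL₁' m L lam hL
  obtain ⟨A, hyA, hA⟩ := hN W (m + 1) (le_trans (Finset.le_sup (f := N) hW)
    (le_trans (le_max_left _ _) hm)) y
  exact ⟨A, hyA, LocGen.of_iso ((Scheme.Modules.restrictFunctor (p ⁻¹ᵁ W.1).ι).mapIso
    (Groth.Agent.Lib.Helper23.AmpleIso.tensorModIso (Iso.refl F) e)) hA⟩

end Groth.Agent.Lib.T2H4.RelTwistPow
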