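import Mathlib
import Groth.Agent.Lib.Helper21Dual12
import Groth.Agent.Lib.Helper21Dual9
import Groth.Agent.Lib.Helper21ModLocalIso
import Groth.Agent.Lib.T2H5Twist
import Groth.Agent.Lib.Helper2TensorInv
import Groth.Agent.Lib.Helper23RestrTensor
import Groth.Agent.Lib.Helper23PB

/-!
# T2H9TensorInv (helper9): the tensor inverse of an invertible module

Built on helper21's duality for sheaves of modules on a site (`Helper21Dual*`).
* `isIso_of_perfect_of_iso_unit`, `isIso_of_perfect_of_locally_iso_unit`: a perfect pairing `D ⊗ E ⟶ O` with `E` (locally)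
  isomorphic to `O` is an isomorphism;
* `isIso_evStd`: for `L` invertible on a scheme the evaluation `L^∨ ⊗ L ⟶ O` is an isomorphism;
* `inv L`, `invTensorIso`, `tensorInvIso`, `isInvertible_inv`: the inverse `L^∨` with `L^∨ ⊗ L ≅ O ≅ L ⊗ L^∨`;
* `nonempty_pullback_twist_iso`: `h^*L ≅ h^*M ⇒ h^*(M ⊗ L^∨) ≅ O`;
* `nonempty_restrict_iso_of_twist`: `(M ⊗ L^∨)|_V ≅ O_V ⇒ M|_V ≅ L|_V`.
-/

set_option autoImplicit false
set_option linter.style.haveILetI false
universe u
open CategoryTheory CategoryTheory.Limits AlgebraicGeometry MonoidalCategory Opposite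

namespace Groth.Agent.Lib.T2H9.TensorInv

open Groth.Agent.Lib.Helper21.ModTensor Groth.Agent.Lib.Helper21.ModTensor2
  Groth.Agent.Lib.Helper21.ModTensor3 Groth.Agent.Lib.Helper21.ModTensor4
  Groth.Agent.Lib.Helper21.ModTensor5
  Groth.Agent.Lib.Helper21.ModTensor6 Groth.Agent.Lib.Helper21.ModTensor7 Groth.Agent.Lib.Helper21.ModRestr
  Groth.Agent.Lib.Helper21.LocFact Groth.Agent.Lib.Helper21.RestrExact
  Groth.Agent.Lib.Helper21.Dual

attribute [local instance] Groth.Agent.Lib.Helper21.ExtShDelta.hasSheafHom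

section site
variable {C : Type u} [SmallCategory C] {J : GrothendieckTopology C} (O : Sheaf J CommRingCat.{u})

/-- `- ⊗ E` is an equivalence when `E ≅ O`. -/
theorem isEquivalence_tR_of_iso_unit (E : ModSite.Mod O) (e : E ≅ ModSite.unit O) :
    (tR O E).IsEquivalence := by
  have i1 : tR O E ≅ tR O (ModSite.unit O) := (ModSite.tensorBi O).flip.mapIso e
  have i2 : tR O (ModSite.unit O) ≅ 𝟭 (ModSite.Mod O) :=
    ((brd O).app (ModSite.unit O)).symm ≪≫ tLUnitIso O
  exact Functor.isEquivalence_of_iso (i1 ≪≫ i2).symm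

/-- a perfect pairing with a module isomorphic to `O` is an isomorphism. -/
theorem isIso_of_perfect_of_iso_unit {D E : ModSite.Mod O}
    (ev : ((ModSite.tensorBi O).obj D).obj E ⟶ ModSite.unit O)
    (hperf : IsIso ((ModSite.sheafHomAdj E).homEquiv D (ModSite.unit O) ev))
    (e : E ≅ ModSite.unit O) : IsIso ev := by
  haveI : ((ModSite.tensorBi O).flip.obj E).IsEquivalence := isEquivalence_tR_of_iso_unit O E e
  set ê := (ModSite.sheafHomAdj E).homEquiv D (ModSite.unit O) ev with hê
  have h1 : ev = ((ModSite.tensorBi O).flip.obj E).map ê ≫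
      (ModSite.sheafHomAdj E).counit.app (ModSite.unit O) := by
    have := (ModSite.sheafHomAdj E).homEquiv_counit (X := D) (Y := ModSite.unit O) (g := ê)
    rw [← this, hê, Equiv.symm_apply_apply]
  rw [h1]
  haveI : IsIso (ModSite.sheafHomAdj E).counit := inferInstance
  infer_instance

/-- a perfect pairing with a module locally isomorphic to `O` is an isomorphism. -/
theorem isIso_of_perfect_of_locally_iso_unit {K : Type*} (X : K → C) (hX : J.CoversTop X)
    {D E : ModSite.Mod O}
    (ev : ((ModSite.tensorBi O).obj D).obj E ⟶ ModSite.unit O)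
    (hperf : IsIso ((ModSite.sheafHomAdj E).homEquiv D (ModSite.unit O) ev))
    (e : ∀ k, Nonempty ((ModSite.restr O (X k)).obj E ≅ ModSite.unit (O.over (X k)))) : IsIso ev := by
  refine Groth.Agent.Lib.Helper21.ModLocalIso.isIso_of_isIso_restr O X hX ev (fun k => ?_)
  have h1 : IsIso (evRes O (X k) ev) :=
    isIso_of_perfect_of_iso_unit (O.over (X k)) _ (isIso_adjunct_evRes O (X k) ev hperf) (e k).some
  have h2 : (ModSite.restr O (X k)).map ev =
      (μP O (X k) ((fgt O).obj D) ((fgt O).obj E)).hom ≫ evRes O (X k) ev :=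
    (Iso.hom_inv_id_assoc (μP O (X k) ((fgt O).obj D) ((fgt O).obj E)) _).symm
  rw [h2]
  exact IsIso.comp_isIso' (Iso.isIso_hom _) h1

end site

section scheme
variable {X : Scheme.{u}}

/-- a trivialization of `L` on `U` gives one of `L.over U`. -/
noncomputable def overIsoUnit (L : X.Modules) (U : X.Opens)
    (e : L.restrict U.ι ≅ Coh.structureModule (↑U : Scheme.{u})) :
    (ModSite.restr X.sheaf U).obj L ≅ ModSite.unit (X.sheaf.over U) := by
  let Φ : SheafOfModules.{u} (X.ringCatSheaf.over U) ⥤ (↑U : Scheme.{u}).Modules :=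
    (Scheme.Modules.overEquiv U).functor
  let i1 : Φ.obj ((SheafOfModules.overFunctor X.ringCatSheaf U).obj L) ≅ L.restrict U.ι :=
    (Scheme.Modules.overFunctorEquiv U).app L
  exact Φ.preimageIso (i1 ≪≫ e)

/-- the evaluation pairing `L^∨ ⊗ L ⟶ O` of an invertible module is an isomorphism. -/
theorem isIso_evStd (L : X.Modules) (hL : PicF.IsInvertible L) :
    IsIso (evStd (O := X.sheaf) L) := by
  choose U hxU he using hL
  exact isIso_of_perfect_of_locally_iso_unit X.sheaf U (coversTop_of_mem U hxU) _ (hperf_std _)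
    (fun x => ⟨overIsoUnit L (U x) (he x).some⟩)

/-- the dual of an invertible module, as an `O_X`-module. -/
noncomputable def inv (L : X.Modules) : X.Modules := dual (O := X.sheaf) L

/-- `L^∨ ⊗ L ≅ O` for `L` invertible. -/
noncomputable def invTensorIso (L : X.Modules) (hL : PicF.IsInvertible L) :
    CohB1.tensorMod (inv L) L ≅ Coh.structureModule X :=
  @asIso _ _ _ _ (evStd (O := X.sheaf) L) (isIso_evStd L hL)

/-- `L ⊗ L^∨ ≅ O` for `L` invertible. -/
noncomputable def tensorInvIso (L : X.Modules) (hL : PicF.IsInvertible L) :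
    CohB1.tensorMod L (inv L) ≅ Coh.structureModule X :=
  ((brd X.sheaf).app L).app (inv L) ≪≫ invTensorIso L hL

theorem isInvertible_inv (L : X.Modules) (hL : PicF.IsInvertible L) : PicF.IsInvertible (inv L) :=
  Groth.Agent.Lib.Helper2.TensorInv.isInvertible_of_tensor_iso _ _ (invTensorIso L hL)

open Groth.Agent.Lib.Helper23.RestrTensor Groth.Agent.Lib.Helper23.PB Groth.Agent.Lib.T2H5.Twist in
/-- if `h^*L ≅ h^*M` then `h^*(M ⊗ L^∨) ≅ O`. -/
theorem nonempty_pullback_twist_iso {Z : Scheme.{u}} (h : Z ⟶ X) (L M : X.Modules)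
    (hL : PicF.IsInvertible L)
    (ψ : (Scheme.Modules.pullback h).obj L ≅ (Scheme.Modules.pullback h).obj M) :
    Nonempty ((Scheme.Modules.pullback h).obj (CohB1.tensorMod M (inv L)) ≅
      Coh.structureModule Z) :=
  ⟨pullbackTensorIso M (inv L) h ≪≫ PicGrp.tensorModIso ψ.symm (Iso.refl _) ≪≫
    (pullbackTensorIso L (inv L) h).symm ≪≫
    (Scheme.Modules.pullback h).mapIso (tensorInvIso L hL) ≪≫ pullbackUnitIso h⟩

open Groth.Agent.Lib.Helper23.RestrTensor Groth.Agent.Lib.Helper23.PB Groth.Agent.Lib.T2H5.Twist in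
/-- if `(M ⊗ L^∨)|_V ≅ O_V` then `M|_V ≅ L|_V`. -/
theorem nonempty_restrict_iso_of_twist (L M : X.Modules) (hL : PicF.IsInvertible L) (V : X.Opens)
    (φ : (CohB1.tensorMod M (inv L)).restrict V.ι ≅ Coh.structureModule (↑V : Scheme.{u})) :
    Nonempty (M.restrict V.ι ≅ L.restrict V.ι) := by
  have i1 : M ≅ CohB1.tensorMod M (Coh.structureModule X) := (trUnitIso.app M).symm
  have i2 : CohB1.tensorMod M (Coh.structureModule X) ≅
      CohB1.tensorMod M (CohB1.tensorMod (inv L) L) :=
    PicGrp.tensorModIso (Iso.refl _) (invTensorIso L hL).symm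
  have i3 : CohB1.tensorMod M (CohB1.tensorMod (inv L) L) ≅
      CohB1.tensorMod (CohB1.tensorMod M (inv L)) L := ((trComp (inv L) L).app M).symm
  have i4 : M.restrict V.ι ≅ (CohB1.tensorMod (CohB1.tensorMod M (inv L)) L).restrict V.ι :=
    (Scheme.Modules.restrictFunctor V.ι).mapIso (i1 ≪≫ i2 ≪≫ i3)
  have i5 := restrictTensorIso (CohB1.tensorMod M (inv L)) L V.ι
  have i6 : CohB1.tensorMod ((CohB1.tensorMod M (inv L)).restrict V.ι) (L.restrict V.ι) ≅
      CohB1.tensorMod (Coh.structureModule (↑V : Scheme.{u})) (L.restrict V.ι) :=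
    PicGrp.tensorModIso φ (Iso.refl _)
  have i7 : CohB1.tensorMod (Coh.structureModule (↑V : Scheme.{u})) (L.restrict V.ι) ≅
      L.restrict V.ι := (tLUnitIso (↑V : Scheme.{u}).sheaf).app (L.restrict V.ι)
  exact ⟨i4 ≪≫ i5 ≪≫ i6 ≪≫ i7⟩

end scheme
end Groth.Agent.Lib.T2H9.TensorInv
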