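import Mathlib
import Groth.Prelude.Def_RelProj3
import Groth.Agent.Lib.T2H4RelTwistPowC
import Groth.Agent.Lib.T2H4FinGenB
import Groth.Agent.Lib.T2H4AmpleAffine
import Groth.Agent.Lib.T2H9TensorInv
import Groth.Agent.Lib.T2H6ProjProper

/-!
# On a relative Proj, a finite type quasi-coherent module is a quotient of `(p^* G)(-n)` (helper4)

* `nonempty_twist_zero_iso` : `O_P(0) ≅ O_P`
* `exists_epi_pullback_twist` : EGA II 3.4.8-type statement.
-/

set_option autoImplicit false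
set_option linter.style.haveILetI false
universe u
open CategoryTheory Limits AlgebraicGeometry TopologicalSpace Opposite
open scoped HomogeneousIdeal

namespace Groth.Agent.Lib.T2H4.RelTwistPow

open RelProj Groth.Agent.Lib.Helper2.RelTwistTensor Groth.Agent.Lib.Helper2.RelTwistExist
  Groth.Agent.Lib.Helper2.RelTwistGen Groth.Agent.Lib.Helper2.RelTwistAmpleB
  Groth.Agent.Lib.Helper23.LocGen Groth.Agent.Lib.Helper23.AmpleIso Groth.Agent.Lib.Helper23.TensorUnit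
  Groth.Agent.Lib.T2H9.TensorInv Groth.Agent.Lib.T2H4.AmpleAffine Groth.Agent.Lib.T2H4.FinGen

variable {P S : Scheme.{u}} {𝒮 : RelProj.QCGrAlg S} (p : P ⟶ S)
  (chart : ∀ (U : S.Opens) (hU : IsAffineOpen U), (((p ⁻¹ᵁ U : P.Opens) : Scheme.{u}) ≅ Proj (𝒮.deg U hU)))

/-- an invertible module `Z` with `Z ⊗ Z ≅ Z` is trivial -/
theorem nonempty_iso_unit_of_idem {X : Scheme.{u}} (Z : X.Modules) (hZ : PicF.IsInvertible Z)
    (e : CohB1.tensorMod Z Z ≅ Z) : Nonempty (Z ≅ Coh.structureModule X) :=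
  ⟨(tensorUnitIso Z).symm ≪≫ tensorModIso (Iso.refl Z) (tensorInvIso Z hZ).symm ≪≫
    (tensorAssoc Z Z (inv Z)).symm ≪≫ tensorModIso e (Iso.refl (inv Z)) ≪≫ tensorInvIso Z hZ⟩

/-- **`O_P(0) ≅ O_P`** -/
theorem nonempty_twist_zero_iso (hP : RelProj.IsRelProj 𝒮 p chart) (hgen : 𝒮.IsGenDegOne) (L₀ : P.Modules)
    (lam₀ : ∀ (U : S.Opens) (hU : IsAffineOpen U),
      L₀ ⟶ (Scheme.Modules.pushforward (RelProj.emb p chart U hU)).obj (GrTwist.twist (𝒮.deg U hU) 0))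
    (hL₀ : RelProj.IsRelTwist 𝒮 p chart 0 L₀ lam₀) : Nonempty (L₀ ≅ Coh.structureModule P) := by
  obtain ⟨lam₀', hL₀'⟩ := exists_isRelTwist_cast p chart (k := 0) (k' := ((0 : ℕ) : ℤ)) Nat.cast_zero.symm
    L₀ lam₀ hL₀
  have hinv : PicF.IsInvertible L₀ := isInvertible_of_cover p chart 0 L₀ lam₀' hL₀'
    (fun V hV y => ⟨1, SetLike.GradedOne.one_mem, GrMod.one_nin y⟩)
  obtain ⟨lam₀'', hL₀''⟩ := exists_isRelTwist_cast p chart (k := 0) (k' := 0 + 0) (zero_add 0).symm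
    L₀ lam₀ hL₀
  obtain ⟨e⟩ := nonempty_tensor_iso p chart hP hgen 0 0 L₀ lam₀ hL₀ L₀ lam₀ hL₀ L₀ lam₀'' hL₀''
  exact nonempty_iso_unit_of_idem L₀ hinv e

/-- **On a relative Proj over a quasi-compact quasi-separated base, a quasi-coherent module of finite type `F` is, for
`n ≫ 0`, a quotient of `p^* G ⊗ O_P(-n)` with `G` quasi-coherent of finite type on the base.** -/
theorem exists_epi_pullback_twist [CompactSpace S] [QuasiSeparatedSpace S] (hP : RelProj.IsRelProj 𝒮 p chart)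
    (hgen : 𝒮.IsGenDegOne) (hft : 𝒮.IsFTDeg 1) (F : P.Modules) (hFq : Coh.IsQCoh F) (hFt : CohB1.IsFT F) :
    ∃ n₀ : ℤ, ∀ (n : ℤ), n₀ ≤ n → ∀ (L : P.Modules)
      (lam : ∀ (U : S.Opens) (hU : IsAffineOpen U),
      L ⟶ (Scheme.Modules.pushforward (RelProj.emb p chart U hU)).obj (GrTwist.twist (𝒮.deg U hU) (-n))),
      RelProj.IsRelTwist 𝒮 p chart (-n) L lam →
        ∃ (G : S.Modules) (π : CohB1.tensorMod ((Scheme.Modules.pullback p).obj G) L ⟶ F),
          Coh.IsQCoh G ∧ CohB1.IsFT G ∧ Epi π := by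
  haveI : F.IsQuasicoherent := hFq
  haveI : SheafOfModules.IsFiniteType (R := P.ringCatSheaf) F := hFt
  haveI : IsProper p := Groth.Agent.Lib.T2H6.ProjProper.isProper_of_isRelProj 𝒮 p chart hP hgen hft
  obtain ⟨T, hT, n₀, h⟩ := locGen_eventually p chart hP hgen hft F hFq hFt
  refine ⟨n₀, fun n hn L lam hL => ?_⟩
  obtain ⟨Ln, lamn, hLn⟩ := exists_isRelTwist p chart hP n
  obtain ⟨L₀, lam₀, hL₀⟩ := exists_isRelTwist p chart hP (n + -n)
  obtain ⟨lam₀', hL₀'⟩ := exists_isRelTwist_cast p chart (k := n + -n) (k' := 0) (add_neg_cancel n) L₀ lam₀ hL₀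
  obtain ⟨e₁⟩ := nonempty_tensor_iso p chart hP hgen n (-n) Ln lamn hLn L lam hL L₀ lam₀ hL₀
  obtain ⟨e₀⟩ := nonempty_twist_zero_iso p chart hP hgen L₀ lam₀' hL₀'
  let e : CohB1.tensorMod Ln L ≅ Coh.structureModule P := e₁ ≪≫ e₀
  have hinv : PicF.IsInvertible Ln := Groth.Agent.Lib.Helper2.TensorInv.isInvertible_of_tensor_iso Ln L e
  obtain ⟨hMq, hMf⟩ := isCoh_tensor_of_isInvertible F Ln hinv
  haveI := hMq
  haveI := hMf
  obtain ⟨G, i, hq, hf, hepi⟩ := exists_ft_epi p (CohB1.tensorMod F Ln) T hT (h n hn Ln lamn hLn)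
  let φ : CohB1.tensorMod (CohB1.tensorMod F Ln) L ≅ F :=
    tensorAssoc F Ln L ≪≫ tensorModIso (Iso.refl F) e ≪≫ tensorUnitIso F
  haveI : PreservesFiniteColimits (tr L) := preservesFiniteColimits_tr L
  haveI := hepi
  haveI hq' : Epi ((tr L).map
      (((Scheme.Modules.pullbackPushforwardAdjunction p).homEquiv G (CohB1.tensorMod F Ln)).symm i)) :=
    inferInstance
  have hepi' : Epi ((tr L).map
      (((Scheme.Modules.pullbackPushforwardAdjunction p).homEquiv G (CohB1.tensorMod F Ln)).symm i) ≫ φ.hom) :=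
    epi_comp _ _
  exact ⟨G, (tr L).map
      (((Scheme.Modules.pullbackPushforwardAdjunction p).homEquiv G (CohB1.tensorMod F Ln)).symm i) ≫ φ.hom,
    hq, hf, hepi'⟩

end Groth.Agent.Lib.T2H4.RelTwistPow
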