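import Mathlib
/-! Counting pairs (binary quadratic, binary n-ic) over a finite field with nonzero resultant: reduction of `resultant f g 2 n` by division, and linear-algebra counting (`card_filter_comp_surj`). -/

set_option autoImplicit false
universe u

namespace Groth.Agent.Lib.T2H4.ResCount

open Polynomial Finset

section Tools

variable {F : Type u} [Field F] [Fintype F]

/-- counting through a surjective linear map -/
lemma card_filter_comp_surj {V W : Type*} [AddCommGroup V] [Module F V] [Fintype V]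
    [AddCommGroup W] [Module F W] [Fintype W] [DecidableEq V] [DecidableEq W]
    (φ : V →ₗ[F] W) (hφ : Function.Surjective φ) (P : W → Prop) [DecidablePred P] :
    (univ.filter (fun v => P (φ v))).card * Fintype.card W =
      (univ.filter P).card * Fintype.card V := by
  classical
  let s : W → V := Function.surjInv hφ
  have hs : ∀ w, φ (s w) = w := Function.surjInv_eq hφ
  let e : V ≃ W × LinearMap.ker φ :=
    { toFun := fun v => (φ v, ⟨v - s (φ v), by simp [LinearMap.mem_ker, hs]⟩)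
      invFun := fun c => s c.1 + c.2
      left_inv := fun v => by simp
      right_inv := fun c => by
        rcases c with ⟨w, k, hk⟩
        have hk' : φ k = 0 := hk
        simp [hs, hk'] }
  have h1 : Fintype.card V = Fintype.card W * Fintype.card (LinearMap.ker φ) := by
    rw [Fintype.card_congr e, Fintype.card_prod]
  have h2 : (univ.filter (fun v => P (φ v))).card =
      (univ.filter P).card * Fintype.card (LinearMap.ker φ) := by
    rw [← Fintype.card_subtype, ← Fintype.card_subtype]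
    have e3 : {c : W × LinearMap.ker φ // P c.1} ≃ {w // P w} × LinearMap.ker φ :=
      { toFun := fun c => (⟨c.1.1, c.2⟩, c.1.2)
        invFun := fun c => ⟨(c.1.1, c.2), c.1.2⟩
        left_inv := fun c => rfl
        right_inv := fun c => rfl }
    have e2 : {v // P (φ v)} ≃ {w // P w} × LinearMap.ker φ :=
      (e.subtypeEquiv (p := fun v => P (φ v)) (q := fun c => P c.1) (fun v => Iff.rfl)).trans e3
    rw [Fintype.card_congr e2, Fintype.card_prod]
  rw [h1, h2]
  ring

/-- counting boxes in `Fin k → F` -/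
lemma card_filter_pi {k : ℕ} [DecidableEq F] (S : Fin k → Finset F) :
    (univ.filter (fun u : Fin k → F => ∀ i, u i ∈ S i)).card = ∏ i, (S i).card := by
  rw [← Fintype.card_piFinset]
  congr 1
  ext u
  simp [Fintype.mem_piFinset]

lemma card_ne_zero [DecidableEq F] : (univ.filter (fun a : F => a ≠ 0)).card = Fintype.card F - 1 := by
  rw [Finset.filter_ne' univ (0 : F), Finset.card_erase_of_mem (Finset.mem_univ _), Finset.card_univ]

end Tools


section Poly

variable {F : Type u} [Field F]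

/-- polynomial with given coefficient vector -/
noncomputable def poly (k : ℕ) (v : Fin k → F) : F[X] := ∑ i : Fin k, C (v i) * X ^ (i : ℕ)

/-- `poly` as a linear map -/
noncomputable def polyL (k : ℕ) : (Fin k → F) →ₗ[F] F[X] where
  toFun := poly k
  map_add' v w := by simp [poly, add_mul, Finset.sum_add_distrib]
  map_smul' c v := by simp [poly, Finset.smul_sum, smul_eq_C_mul, mul_assoc]

@[simp] lemma polyL_apply (k : ℕ) (v : Fin k → F) : polyL k v = poly k v := rfl

lemma poly_coeff (k : ℕ) (v : Fin k → F) (j : ℕ) :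
    (poly k v).coeff j = if h : j < k then v ⟨j, h⟩ else 0 := by
  rw [poly, finsetSum_coeff]
  simp only [coeff_C_mul_X_pow]
  split_ifs with h
  · rw [Finset.sum_eq_single ⟨j, h⟩]
    · simp
    · intro b _ hb
      rw [if_neg]
      intro h'
      exact hb (Fin.ext h'.symm)
    · intro h'; exact absurd (Finset.mem_univ _) h'
  · refine Finset.sum_eq_zero fun i _ => ?_
    rw [if_neg]
    intro h'
    exact h (h' ▸ i.2)

lemma poly_natDegree_le (k : ℕ) (v : Fin (k + 1) → F) : (poly (k + 1) v).natDegree ≤ k := by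
  rw [natDegree_le_iff_coeff_eq_zero]
  intro N hN
  rw [poly_coeff, dif_neg (by omega)]

lemma poly_of_coeff (k : ℕ) (p : F[X]) (hp : p.natDegree < k) :
    poly k (fun j => p.coeff j) = p := by
  ext j
  rw [poly_coeff]
  split_ifs with h
  · rfl
  · exact (coeff_eq_zero_of_natDegree_lt (by omega)).symm

lemma eval_poly (k : ℕ) (v : Fin k → F) (c : F) : eval c (poly k v) = ∑ i : Fin k, v i * c ^ (i : ℕ) := by
  simp [poly, eval_finsetSum]

lemma poly_three (u : Fin 3 → F) : poly 3 u = C (u 0) + C (u 1) * X + C (u 2) * X ^ 2 := by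
  simp [poly, Fin.sum_univ_three]

/-- the binary quadratic "norm form" -/
def NN (u : Fin 3 → F) (w : Fin 2 → F) : F := u 2 * w 0 ^ 2 - u 1 * w 0 * w 1 + u 0 * w 1 ^ 2

/-- the resultant in the statement -/
noncomputable def RR (n : ℕ) (u : Fin 3 → F) (v : Fin (n + 1) → F) : F :=
  resultant (poly 3 u) (poly (n + 1) v) 2 n

lemma res21 {R : Type*} [CommRing R] (f g : R[X]) :
    resultant f g 2 1 = f.coeff 2 * g.coeff 0 ^ 2 - f.coeff 1 * g.coeff 0 * g.coeff 1 +
      f.coeff 0 * g.coeff 1 ^ 2 := by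
  rw [resultant, Matrix.det_fin_three]
  simp [sylvester, Fin.addCases, Matrix.of_apply]
  ring

lemma resA (n : ℕ) (hn : 2 ≤ n) (u : Fin 3 → F) (hu : u 2 ≠ 0) :
    ∃ φ : (Fin (n + 1) → F) →ₗ[F] (Fin 2 → F), Function.Surjective φ ∧
      ∀ v, RR n u v = (u 2) ^ (n - 1) * NN u (φ v) := by
  set f := poly 3 u with hf
  have hc0 : f.coeff 0 = u 0 := by rw [hf, poly_coeff]; simp
  have hc1 : f.coeff 1 = u 1 := by rw [hf, poly_coeff]; simp
  have hc2 : f.coeff 2 = u 2 := by rw [hf, poly_coeff]; simp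
  have hfd : f.natDegree ≤ 2 := poly_natDegree_le 2 u
  have hfd2 : f.natDegree = 2 := natDegree_eq_of_le_of_coeff_ne_zero hfd (by rw [hc2]; exact hu)
  have hlc : f.leadingCoeff = u 2 := by rw [leadingCoeff, hfd2, hc2]
  set ft := C (u 2)⁻¹ * f with hft
  have hm : ft.Monic := monic_C_mul_of_mul_leadingCoeff_eq_one (by rw [hlc]; exact inv_mul_cancel₀ hu)
  have hftd : ft.natDegree = 2 := by
    rw [hft, natDegree_C_mul (inv_ne_zero hu), hfd2]
  let φ : (Fin (n + 1) → F) →ₗ[F] (Fin 2 → F) :=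
    (toFn 2) ∘ₗ (modByMonicHom ft) ∘ₗ (polyL (n + 1))
  have hφ : ∀ v i, φ v i = (poly (n + 1) v %ₘ ft).coeff i := by
    intro v i
    simp [φ, toFn]
  refine ⟨φ, ?_, ?_⟩
  · intro w
    let p : F[X] := C (w 1) * X + C (w 0)
    have hpd : p.natDegree ≤ 1 := natDegree_linear_le
    refine ⟨fun j => p.coeff j, ?_⟩
    funext i
    rw [hφ, poly_of_coeff _ _ (by omega)]
    have : p %ₘ ft = p := by
      rw [modByMonic_eq_self_iff hm]
      refine degree_lt_degree ?_
      rw [hftd]; omega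
    rw [this]
    fin_cases i <;> simp [p]
  · intro v
    set g := poly (n + 1) v with hg
    have hgd : g.natDegree ≤ n := poly_natDegree_le n v
    set r := g %ₘ ft with hr
    set h := g /ₘ ft with hh
    have hdecomp : g = r + f * (C (u 2)⁻¹ * h) := by
      have := modByMonic_add_div g ft
      rw [← this, hft]
      ring
    have hrd : r.natDegree ≤ 1 := by
      have h1 : r.degree < ft.degree := degree_modByMonic_lt g hm
      rw [degree_eq_natDegree hm.ne_zero, hftd] at h1
      by_cases hr0 : r = 0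
      · rw [hr0]; simp
      · rw [degree_eq_natDegree hr0] at h1
        have : r.natDegree < 2 := by exact_mod_cast h1
        omega
    have hhd : (C (u 2)⁻¹ * h).natDegree + 2 ≤ n := by
      have h1 : h.natDegree = g.natDegree - 2 := by
        rw [hh, natDegree_divByMonic g hm, hftd]
      have h2 := natDegree_C_mul_le (u 2)⁻¹ h
      omega
    have hn1 : n = 1 + (n - 1) := by omega
    have hφv : φ v 0 = r.coeff 0 ∧ φ v 1 = r.coeff 1 := ⟨hφ v 0, hφ v 1⟩
    rw [RR, ← hg, ← hf, hdecomp, resultant_add_mul_right _ _ _ _ _ hhd hfd]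
    conv_lhs => rw [hn1]
    rw [resultant_add_right_deg _ _ _ _ _ hrd, res21, hc0, hc1, hc2, NN, hφv.1, hφv.2]

lemma poly_coeff_last (n : ℕ) (v : Fin (n + 1) → F) : (poly (n + 1) v).coeff n = v (Fin.last n) := by
  rw [poly_coeff, dif_pos (by omega)]
  rfl

lemma resBC (n : ℕ) (u : Fin 3 → F) (hu2 : u 2 = 0) (v : Fin (n + 1) → F) :
    RR n u v = (-1) ^ n * v (Fin.last n) *
      resultant (C (u 1) * X + C (u 0)) (poly (n + 1) v) 1 n := by
  have hf : poly 3 u = C (u 1) * X + C (u 0) := by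
    rw [poly_three, hu2]; simp; ring
  rw [RR, hf]
  have := resultant_succ_left_deg (C (u 1) * X + C (u 0)) (poly (n + 1) v) 1 n natDegree_linear_le
  rw [poly_coeff_last] at this
  exact this

lemma resB (n : ℕ) (u : Fin 3 → F) (hu2 : u 2 = 0) (hu1 : u 1 ≠ 0) (v : Fin (n + 1) → F) :
    RR n u v = (-1) ^ n * v (Fin.last n) *
      ((u 1) ^ n * ∑ j : Fin (n + 1), v j * (-(u 0 / u 1)) ^ (j : ℕ)) := by
  rw [resBC n u hu2]
  have h1 : C (u 1) * X + C (u 0) = C (u 1) * (X + C (u 0 / u 1)) := by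
    rw [mul_add, ← C_mul, mul_div_cancel₀ _ hu1]
  rw [h1, resultant_C_mul_left, resultant_X_add_C_left _ _ _ (poly_natDegree_le n v), eval_poly]

lemma resC (n : ℕ) (u : Fin 3 → F) (hu2 : u 2 = 0) (hu1 : u 1 = 0) (v : Fin (n + 1) → F) :
    RR n u v = (-1) ^ n * v (Fin.last n) * ((-1) ^ (1 * n) * v (Fin.last n) ^ 1 * (u 0) ^ n) := by
  rw [resBC n u hu2, hu1, map_zero, zero_mul, zero_add, resultant_C_left, poly_coeff_last]

end Poly


section Count

open Classical

variable {F : Type u} [Field F] [Fintype F]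

local notation "q" => Fintype.card F

/-- number of `v` with nonzero resultant, for fixed `u` -/
noncomputable def cnt (n : ℕ) (u : Fin 3 → F) : ℕ :=
  (univ.filter (fun v : Fin (n + 1) → F => RR n u v ≠ 0)).card

/-- number of `w` with nonzero norm form -/
noncomputable def nu (u : Fin 3 → F) : ℕ := (univ.filter (fun w : Fin 2 → F => NN u w ≠ 0)).card

/-- number of `u` with `u 2 ≠ 0` and nonzero norm form at `w` -/
noncomputable def mu (w : Fin 2 → F) : ℕ :=
  (univ.filter (fun u : Fin 3 → F => u 2 ≠ 0 ∧ NN u w ≠ 0)).card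

lemma card_fun (k : ℕ) : Fintype.card (Fin k → F) = q ^ k := by simp

lemma card_two_ne : (univ.filter (fun w : Fin 2 → F => w 0 ≠ 0 ∧ w 1 ≠ 0)).card = (q - 1) ^ 2 := by
  have := card_filter_pi (F := F) (k := 2) (fun _ => univ.filter (fun a : F => a ≠ 0))
  simp only [Fin.forall_fin_two, Finset.mem_filter, Finset.mem_univ, true_and, card_ne_zero,
    Finset.prod_const, Finset.card_univ, Fintype.card_fin] at this
  exact this

lemma cntA (n : ℕ) (hn : 2 ≤ n) (u : Fin 3 → F) (hu : u 2 ≠ 0) :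
    cnt n u * q ^ 2 = nu u * q ^ (n + 1) := by
  obtain ⟨φ, hφs, hφ⟩ := resA n hn u hu
  have := card_filter_comp_surj φ hφs (fun w => NN u w ≠ 0)
  rw [card_fun, card_fun] at this
  rw [nu, ← this, cnt]
  congr 2
  ext v
  simp only [Finset.mem_filter, Finset.mem_univ, true_and, hφ v]
  exact mul_ne_zero_iff.trans (and_iff_right (pow_ne_zero _ hu))

/-- evaluation-type linear map for case B -/
noncomputable def phiB (n : ℕ) (d : F) : (Fin (n + 1) → F) →ₗ[F] (Fin 2 → F) where
  toFun v := ![v (Fin.last n), ∑ j : Fin (n + 1), v j * d ^ (j : ℕ)]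
  map_add' v w := by
    funext i
    fin_cases i
    · simp
    · simp [add_mul, Finset.sum_add_distrib]
  map_smul' c v := by
    funext i
    fin_cases i
    · simp
    · simp [Finset.mul_sum, mul_assoc]

lemma phiB_surjective (n : ℕ) (hn : 1 ≤ n) (d : F) : Function.Surjective (phiB n d) := by
  intro w
  have h0 : (0 : Fin (n + 1)) ≠ Fin.last n := by
    intro h
    have := congrArg Fin.val h
    simp at this
    omega
  refine ⟨Pi.single 0 (w 1 - w 0 * d ^ n) + Pi.single (Fin.last n) (w 0), ?_⟩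
  funext i
  fin_cases i
  · simp [phiB, Pi.single_apply, h0.symm]
  · simp only [phiB, LinearMap.coe_mk, AddHom.coe_mk, Pi.add_apply, add_mul,
      Finset.sum_add_distrib, Pi.single_apply, ite_mul, zero_mul, Finset.sum_ite_eq',
      Finset.mem_univ, if_true]
    simp

lemma cntB (n : ℕ) (hn : 1 ≤ n) (u : Fin 3 → F) (hu2 : u 2 = 0) (hu1 : u 1 ≠ 0) :
    cnt n u * q ^ 2 = (q - 1) ^ 2 * q ^ (n + 1) := by
  have := card_filter_comp_surj (phiB n (-(u 0 / u 1))) (phiB_surjective n hn _)
    (fun w => w 0 ≠ 0 ∧ w 1 ≠ 0)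
  rw [card_fun, card_fun, card_two_ne] at this
  rw [← this, cnt]
  congr 2
  ext v
  simp only [Finset.mem_filter, Finset.mem_univ, true_and, resB n u hu2 hu1 v]
  have hpow : ((-1 : F)) ^ n ≠ 0 := pow_ne_zero _ (by simp)
  have hu1n : (u 1) ^ n ≠ 0 := pow_ne_zero _ hu1
  simp [phiB, mul_ne_zero_iff, hpow, hu1n]

lemma cntC (n : ℕ) (hn : 1 ≤ n) (u : Fin 3 → F) (hu2 : u 2 = 0) (hu1 : u 1 = 0) (hu0 : u 0 ≠ 0) :
    cnt n u * q = (q - 1) * q ^ (n + 1) := by
  have := card_filter_comp_surj (LinearMap.proj (R := F) (φ := fun _ : Fin (n + 1) => F) (Fin.last n))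
    (Function.surjective_eval _) (fun a : F => a ≠ 0)
  rw [card_fun, card_ne_zero] at this
  rw [← this, cnt]
  congr 2
  ext v
  simp only [Finset.mem_filter, Finset.mem_univ, true_and, resC n u hu2 hu1 v]
  have hpow : ((-1 : F)) ^ n ≠ 0 := pow_ne_zero _ (by simp)
  have hu0n : (u 0) ^ n ≠ 0 := pow_ne_zero _ hu0
  simp [mul_ne_zero_iff, hpow, hu0n]

lemma cntD (n : ℕ) (hn : 1 ≤ n) (u : Fin 3 → F) (hu2 : u 2 = 0) (hu1 : u 1 = 0) (hu0 : u 0 = 0) :
    cnt n u = 0 := by
  rw [cnt, Finset.card_eq_zero, Finset.filter_eq_empty_iff]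
  intro v _
  rw [resC n u hu2 hu1 v, hu0, zero_pow (by omega)]
  simp

/-- linear map `u ↦ (u 2, N_u(w))` -/
noncomputable def phiE (w : Fin 2 → F) : (Fin 3 → F) →ₗ[F] (Fin 2 → F) where
  toFun u := ![u 2, NN u w]
  map_add' u u' := by
    funext i
    fin_cases i
    · simp
    · simp [NN]; ring
  map_smul' c u := by
    funext i
    fin_cases i
    · simp
    · simp [NN]; ring

lemma phiE_surjective (w : Fin 2 → F) (hw : w 1 ≠ 0) : Function.Surjective (phiE w) := by
  intro t
  refine ⟨![(t 1 - t 0 * w 0 ^ 2) / (w 1) ^ 2, 0, t 0], ?_⟩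
  funext i
  fin_cases i
  · simp [phiE]
  · simp [phiE, NN]
    field_simp
    ring

lemma muE1 (w : Fin 2 → F) (hw : w 1 ≠ 0) : mu w * q ^ 2 = (q - 1) ^ 2 * q ^ 3 := by
  have := card_filter_comp_surj (phiE w) (phiE_surjective w hw) (fun t => t 0 ≠ 0 ∧ t 1 ≠ 0)
  rw [card_fun, card_fun, card_two_ne] at this
  rw [← this, mu]
  congr 2

lemma muE2 (w : Fin 2 → F) (hw1 : w 1 = 0) (hw0 : w 0 ≠ 0) : mu w * q = (q - 1) * q ^ 3 := by
  have := card_filter_comp_surj (LinearMap.proj (R := F) (φ := fun _ : Fin 3 => F) 2)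
    (Function.surjective_eval _) (fun a : F => a ≠ 0)
  rw [card_fun, card_ne_zero] at this
  rw [← this, mu]
  congr 2
  ext u
  simp only [Finset.mem_filter, Finset.mem_univ, true_and, NN, hw1]
  have : w 0 ^ 2 ≠ 0 := pow_ne_zero _ hw0
  simp [this]

lemma muE3 (w : Fin 2 → F) (hw1 : w 1 = 0) (hw0 : w 0 = 0) : mu w = 0 := by
  rw [mu, Finset.card_eq_zero, Finset.filter_eq_empty_iff]
  intro u _
  simp [NN, hw1, hw0]

lemma sum_nu_eq_sum_mu :
    ∑ u : Fin 3 → F, (if u 2 ≠ 0 then nu u else 0) = ∑ w : Fin 2 → F, mu w := by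
  simp only [nu, mu, Finset.card_filter]
  rw [Finset.sum_comm]
  refine Finset.sum_congr rfl fun u _ => ?_
  split_ifs with h
  · refine Finset.sum_congr rfl fun w _ => ?_
    simp [h]
  · refine (Finset.sum_eq_zero fun w _ => ?_).symm
    simp [h]

lemma sum_ite_const {α : Type*} [Fintype α] (P : α → Prop) [DecidablePred P] (K : ℕ) :
    ∑ a : α, (if P a then K else 0) = (univ.filter P).card * K := by
  rw [← Finset.sum_filter, Finset.sum_const, smul_eq_mul]

lemma card_w1 : (univ.filter (fun w : Fin 2 → F => w 1 ≠ 0)).card = q * (q - 1) := by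
  have := card_filter_pi (F := F) (k := 2) ![univ, univ.filter (fun a : F => a ≠ 0)]
  simp only [Fin.forall_fin_two, Fin.prod_univ_two, Matrix.cons_val_zero, Matrix.cons_val_one,
    Finset.mem_filter, Finset.mem_univ, true_and, card_ne_zero, Finset.card_univ] at this
  exact this

lemma card_w2 : (univ.filter (fun w : Fin 2 → F => w 1 = 0 ∧ w 0 ≠ 0)).card = q - 1 := by
  have := card_filter_pi (F := F) (k := 2) ![univ.filter (fun a : F => a ≠ 0), {0}]
  simp only [Fin.forall_fin_two, Fin.prod_univ_two, Matrix.cons_val_zero, Matrix.cons_val_one,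
    Finset.mem_filter, Finset.mem_univ, true_and, card_ne_zero, Finset.card_singleton,
    Finset.mem_singleton, mul_one] at this
  rw [← this]
  congr 1
  ext w
  simp [and_comm]

lemma card_u1 : (univ.filter (fun u : Fin 3 → F => u 2 = 0 ∧ u 1 ≠ 0)).card = q * (q - 1) := by
  have := card_filter_pi (F := F) (k := 3) ![univ, univ.filter (fun a : F => a ≠ 0), {0}]
  simp only [Fin.forall_fin_succ, Fin.prod_univ_succ, Matrix.cons_val_zero, Matrix.cons_val_succ,
    Finset.mem_filter, Finset.mem_univ, true_and, card_ne_zero, Finset.card_singleton,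
    Finset.mem_singleton, mul_one, Finset.card_univ, Fin.succ_zero_eq_one,
    IsEmpty.forall_iff, and_true, Finset.univ_eq_empty, Finset.prod_empty] at this
  rw [← this]
  congr 1
  ext u
  simp [and_comm]

lemma card_u2 :
    (univ.filter (fun u : Fin 3 → F => u 2 = 0 ∧ u 1 = 0 ∧ u 0 ≠ 0)).card = q - 1 := by
  have := card_filter_pi (F := F) (k := 3) ![univ.filter (fun a : F => a ≠ 0), {0}, {0}]
  simp only [Fin.forall_fin_succ, Fin.prod_univ_succ, Matrix.cons_val_zero, Matrix.cons_val_succ,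
    Finset.mem_filter, Finset.mem_univ, true_and, card_ne_zero, Finset.card_singleton,
    Finset.mem_singleton, mul_one, Finset.card_univ, Fin.succ_zero_eq_one,
    IsEmpty.forall_iff, and_true, Finset.univ_eq_empty, Finset.prod_empty] at this
  rw [← this]
  congr 1
  ext u
  simp
  tauto

lemma sum_mu : (∑ w : Fin 2 → F, mu w) = (q - 1) ^ 2 * q ^ 3 := by
  have hq : 0 < q := Fintype.card_pos
  have hpt : ∀ w : Fin 2 → F, mu w * q ^ 2 = (if w 1 ≠ 0 then (q - 1) ^ 2 * q ^ 3 else 0) +
      (if w 1 = 0 ∧ w 0 ≠ 0 then (q - 1) * q ^ 4 else 0) := by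
    intro w
    by_cases h1 : w 1 = 0
    · by_cases h0 : w 0 = 0
      · simp [h1, h0, muE3 w h1 h0]
      · have := muE2 w h1 h0
        simp only [h1, h0, ne_eq, not_true_eq_false, if_false, zero_add, not_false_eq_true,
          and_self, if_true]
        rw [pow_two, ← mul_assoc, this]
        ring
    · simp [h1, muE1 w h1]
  have h : (∑ w : Fin 2 → F, mu w) * q ^ 2 = ((q - 1) ^ 2 * q ^ 3) * q ^ 2 := by
    rw [Finset.sum_mul]
    simp_rw [hpt]
    rw [Finset.sum_add_distrib, sum_ite_const, sum_ite_const, card_w1, card_w2]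
    obtain ⟨k, hk⟩ : ∃ k, q = k + 1 := Nat.exists_eq_succ_of_ne_zero Fintype.card_ne_zero
    rw [hk]
    simp only [Nat.add_sub_cancel]
    ring
  exact Nat.eq_of_mul_eq_mul_right (pow_pos hq 2) h

lemma sum_cnt (n : ℕ) (hn : 2 ≤ n) :
    (∑ u : Fin 3 → F, cnt n u) = (q - 1) ^ 2 * (q + 1) * q ^ (n + 1) := by
  have hq : 0 < q := Fintype.card_pos
  have hpt : ∀ u : Fin 3 → F, cnt n u * q ^ 2 = (if u 2 ≠ 0 then nu u else 0) * q ^ (n + 1) +
      (if u 2 = 0 ∧ u 1 ≠ 0 then (q - 1) ^ 2 * q ^ (n + 1) else 0) +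
      (if u 2 = 0 ∧ u 1 = 0 ∧ u 0 ≠ 0 then (q - 1) * q ^ (n + 2) else 0) := by
    intro u
    by_cases h2 : u 2 = 0
    · by_cases h1 : u 1 = 0
      · by_cases h0 : u 0 = 0
        · simp [h2, h1, h0, cntD n (by omega) u h2 h1 h0]
        · have := cntC n (by omega) u h2 h1 h0
          simp only [h2, h1, h0, ne_eq, not_true_eq_false, if_false, zero_mul, zero_add,
            and_false, not_false_eq_true, and_self, if_true]
          rw [pow_two, ← mul_assoc, this]
          ring
      · simp [h2, h1, cntB n (by omega) u h2 h1]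
    · simp [h2, cntA n hn u h2]
  have h : (∑ u : Fin 3 → F, cnt n u) * q ^ 2 = ((q - 1) ^ 2 * (q + 1) * q ^ (n + 1)) * q ^ 2 := by
    rw [Finset.sum_mul]
    simp_rw [hpt]
    rw [Finset.sum_add_distrib, Finset.sum_add_distrib, ← Finset.sum_mul, sum_nu_eq_sum_mu, sum_mu,
      sum_ite_const, sum_ite_const, card_u1, card_u2]
    obtain ⟨k, hk⟩ : ∃ k, q = k + 1 := Nat.exists_eq_succ_of_ne_zero Fintype.card_ne_zero
    rw [hk]
    simp only [Nat.add_sub_cancel]
    ring
  exact Nat.eq_of_mul_eq_mul_right (pow_pos hq 2) h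

lemma card_filter_RR (n : ℕ) :
    (univ.filter (fun p : (Fin 3 → F) × (Fin (n + 1) → F) => RR n p.1 p.2 ≠ 0)).card =
      ∑ u : Fin 3 → F, cnt n u := by
  rw [Finset.card_filter, Fintype.sum_prod_type]
  refine Finset.sum_congr rfl fun u _ => ?_
  rw [cnt, Finset.card_filter]

theorem main_ne (n : ℕ) (hn : 2 ≤ n) :
    Nat.card {p : (Fin 3 → F) × (Fin (n + 1) → F) // RR n p.1 p.2 ≠ 0} =
      q ^ (n + 4) - q ^ (n + 3) - q ^ (n + 2) + q ^ (n + 1) := by
  rw [Nat.card_eq_fintype_card, Fintype.card_subtype, card_filter_RR, sum_cnt n hn]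
  obtain ⟨j, hj⟩ : ∃ j, q = j + 2 := by
    have := Fintype.one_lt_card (α := F)
    exact ⟨q - 2, by omega⟩
  rw [hj]
  have e1 : (j + 2) ^ (n + 4) - (j + 2) ^ (n + 3) = (j + 1) * (j + 2) ^ (n + 3) := by
    apply Nat.sub_eq_of_eq_add; ring
  have e2 : (j + 1) * (j + 2) ^ (n + 3) - (j + 2) ^ (n + 2) =
      (j ^ 2 + 3 * j + 1) * (j + 2) ^ (n + 2) := by
    apply Nat.sub_eq_of_eq_add; ring
  rw [e1, e2]
  simp only [show j + 2 - 1 = j + 1 from rfl]
  ring

end Count

end Groth.Agent.Lib.T2H4.ResCount
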