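import Groth.Agent.Lib.T2H4ResCount
/-! Pairs with resultant exactly 1 (n odd): scaling bijections between resultant fibres. -/

set_option autoImplicit false
universe u

namespace Groth.Agent.Lib.T2H4.ResCount

open Polynomial Finset

section One

open Classical

variable {F : Type u} [Field F] [Fintype F]

local notation "q" => Fintype.card F

lemma poly_smul (k : ℕ) (c : F) (v : Fin k → F) : poly k (c • v) = C c * poly k v := by
  have := (polyL (F := F) k).map_smul c v
  simp only [polyL_apply] at this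
  rw [this, smul_eq_C_mul]

lemma RR_smul (n : ℕ) (a b : F) (u : Fin 3 → F) (v : Fin (n + 1) → F) :
    RR n (a • u) (b • v) = a ^ n * b ^ 2 * RR n u v := by
  rw [RR, poly_smul, poly_smul, resultant_C_mul_left, resultant_C_mul_right, RR]
  ring

/-- fibre of the resultant -/
abbrev TT (n : ℕ) (c : F) : Type u := {p : (Fin 3 → F) × (Fin (n + 1) → F) // RR n p.1 p.2 = c}

noncomputable def fibreEquiv (n k : ℕ) (hn : n = 2 * k + 1) (c : F) (hc : c ≠ 0) :
    TT n (1 : F) ≃ TT n c where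
  toFun p := ⟨(c • p.1.1, (c ^ k)⁻¹ • p.1.2), by
    rw [RR_smul, p.2, mul_one, hn, inv_pow, ← pow_mul, pow_succ, mul_comm k 2]
    field_simp⟩
  invFun p := ⟨(c⁻¹ • p.1.1, (c ^ k) • p.1.2), by
    rw [RR_smul, p.2, hn, inv_pow, ← pow_mul, pow_succ, mul_comm k 2]
    field_simp⟩
  left_inv p := by
    apply Subtype.ext
    apply Prod.ext
    · simp [smul_smul, inv_mul_cancel₀ hc]
    · simp [smul_smul, mul_inv_cancel₀ (pow_ne_zero k hc)]
  right_inv p := by
    apply Subtype.ext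
    apply Prod.ext
    · simp [smul_smul, mul_inv_cancel₀ hc]
    · simp [smul_smul, inv_mul_cancel₀ (pow_ne_zero k hc)]

lemma card_ne (n : ℕ) (hn : 2 ≤ n) :
    Fintype.card {p : (Fin 3 → F) × (Fin (n + 1) → F) // RR n p.1 p.2 ≠ 0} =
      (q - 1) ^ 2 * (q + 1) * q ^ (n + 1) := by
  rw [Fintype.card_subtype, card_filter_RR, sum_cnt n hn]

theorem main_one (n : ℕ) (hodd : Odd n) (h3 : 3 ≤ n) :
    Nat.card {p : (Fin 3 → F) × (Fin (n + 1) → F) // RR n p.1 p.2 = 1} =
      q ^ (n + 3) - q ^ (n + 1) := by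
  obtain ⟨k, hk⟩ := hodd
  have e : (Σ y : {c : F // c ≠ 0}, {x : (Fin 3 → F) × (Fin (n + 1) → F) // RR n x.1 x.2 = y}) ≃
      {p : (Fin 3 → F) × (Fin (n + 1) → F) // RR n p.1 p.2 ≠ 0} :=
    Equiv.sigmaSubtypeFiberEquivSubtype (fun x : (Fin 3 → F) × (Fin (n + 1) → F) => RR n x.1 x.2)
      (fun x => Iff.rfl)
  have h1 := card_ne (F := F) n (by omega)
  rw [← Fintype.card_congr e, Fintype.card_sigma] at h1
  have h2 : ∀ y : {c : F // c ≠ 0},
      Fintype.card {x : (Fin 3 → F) × (Fin (n + 1) → F) // RR n x.1 x.2 = y} =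
      Fintype.card (TT n (1 : F)) := fun y =>
    (Fintype.card_congr (fibreEquiv n k hk y.1 y.2)).symm
  simp_rw [h2] at h1
  rw [Finset.sum_const, Finset.card_univ, Fintype.card_subtype, card_ne_zero, smul_eq_mul] at h1
  rw [Nat.card_eq_fintype_card]
  obtain ⟨j, hj⟩ : ∃ j, q = j + 2 := by
    have := Fintype.one_lt_card (α := F)
    exact ⟨q - 2, by omega⟩
  rw [hj] at h1 ⊢
  simp only [show j + 2 - 1 = j + 1 from rfl] at h1
  have h3 : Fintype.card (TT n (1 : F)) = (j + 1) * (j + 2 + 1) * (j + 2) ^ (n + 1) := by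
    refine Nat.eq_of_mul_eq_mul_left (show 0 < j + 1 by omega) ?_
    rw [h1]; ring
  rw [h3]
  symm
  apply Nat.sub_eq_of_eq_add
  ring

end One

end Groth.Agent.Lib.T2H4.ResCount
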