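import Mathlib
import Groth.Agent.Lib.T2H2LocFactSch
import Groth.Agent.Lib.T2H4SecOrdAddInv
import Groth.Agent.Lib.T2H4Ref1Local
import Groth.Agent.Lib.T2H4OrdExtra
import Groth.Agent.Lib.Helper20InvGen
set_option backward.isDefEq.respectTransparency.types false

/-!
# The Cartier divisor of a rational section of an invertible module (helper4)
-/

set_option autoImplicit false
set_option linter.style.haveILetI false
universe u
open CategoryTheory AlgebraicGeometry TopologicalSpace

namespace Groth.Agent.Lib.T2H4.SecDivisor

open Groth.Agent.Lib.T2H4.Ref1Local Groth.Agent.Lib.T2H4.Ref1Alg Groth.Agent.Lib.T2H4.SecOrdAdd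
  Groth.Agent.Lib.T2H4.SecOrdAddInv Groth.Agent.Lib.T2H4.HomShGlobal CDiv

variable {X : Scheme.{u}} [IsIntegral X] [IsLocallyNoetherian X]

/-- **the Cartier divisor of a nonzero rational section of an invertible module**: its local equations have the
orders of the section at the points of codimension one -/
theorem exists_divisor_of_invertible (hX : Pi1.IsNormalScheme X) (L : X.Modules)
    (hL : PicF.IsInvertible L) (s₀ : L.presheaf.stalk (genericPoint X)) (hs₀ : s₀ ≠ 0) :
    ∃ D : CDiv.Divisor X, ∀ x : X, Order.coheight x = 1 → ∀ g : CDiv.KUnits X,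
      D.1 x = CDiv.germOf X x g →
        Scheme.ord (g : X.functionField) x =
          Cyc.secOrdAt L (genericPoint X) x (genericPoint_specializes x)
            (Submodule.Quotient.mk s₀ : Cyc.secFibre L (genericPoint X)) := by
  have hdata := fun y : X => exists_data L hL s₀ hs₀ y (genericPoint_specializes y)
  choose a α ha hab hs hα0 using hdata
  have hmem : (fun y => germOf X y (Units.mk0 (α y) (hα0 y))) ∈ divisorGroup X := by
    intro y
    obtain ⟨W, t, hyW, ht⟩ := Groth.Agent.Lib.Helper20.InvGen.exists_local_generator L hL y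
    have hηW : genericPoint X ∈ W := (genericPoint_specializes y).mem_open W.isOpen hyW
    obtain ⟨f, hf⟩ := (ht (genericPoint X) hηW).2 s₀
    have hf' : f • L.presheaf.germ W (genericPoint X) hηW t = s₀ := hf
    have hf0 : f ≠ 0 := by
      rintro rfl
      exact hs₀ (by rw [← hf', zero_smul])
    refine ⟨W, Units.mk0 f hf0, hyW, fun z hz => ?_⟩
    -- compare the two generators of `L_z`
    obtain ⟨u, hu⟩ := (ht z hz).2 (a z)
    have hu' : u • L.presheaf.germ W z hz t = a z := hu
    have hmem : L.presheaf.germ W z hz t ∈ Submodule.span (X.presheaf.stalk z) {a z} := by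
      rw [ha z]; trivial
    obtain ⟨v, hv⟩ := Submodule.mem_span_singleton.1 hmem
    have hvu : v * u = 1 := by
      apply (ht z hz).1
      change (v * u) • L.presheaf.germ W z hz t = (1 : X.presheaf.stalk z) • L.presheaf.germ W z hz t
      rw [mul_smul, hu', hv, one_smul]
    have huu : IsUnit u := IsUnit.of_mul_eq_one v (by rw [mul_comm]; exact hvu)
    have hsp : spec L z (genericPoint_specializes z) (a z) =
        algebraMap (X.presheaf.stalk z) X.functionField u •
          L.presheaf.germ W (genericPoint X) hηW t := by
      rw [← hu', spec_smul]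
      congr 1
      exact stalkSpecializes_germ L (genericPoint_specializes z) hz t
    have hfeq : f = α z * algebraMap (X.presheaf.stalk z) X.functionField u := by
      apply (ht (genericPoint X) hηW).1
      change f • L.presheaf.germ W (genericPoint X) hηW t =
        (α z * algebraMap (X.presheaf.stalk z) X.functionField u) • L.presheaf.germ W (genericPoint X) hηW t
      rw [hf', mul_smul, ← hsp]
      exact hs z
    change germOf X z (Units.mk0 (α z) (hα0 z)) = germOf X z (Units.mk0 f hf0)
    rw [QuotientGroup.eq]
    refine ⟨huu.unit, ?_⟩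
    apply Units.ext
    simp only [RingHom.toMonoidHom_eq_coe, Units.coe_map, MonoidHom.coe_coe, Units.val_mul,
      Units.val_inv_eq_inv_val, Units.val_mk0, IsUnit.unit_spec]
    rw [hfeq]
    field_simp [hα0 z]
  refine ⟨⟨_, hmem⟩, fun x hx g hg => ?_⟩
  haveI := isDVR hX x hx
  have hord := isOrd_schemeOrd hX x hx
  have hg' : germOf X x (Units.mk0 (α x) (hα0 x)) = germOf X x g := hg
  rw [QuotientGroup.eq] at hg'
  obtain ⟨u, hu⟩ := hg'
  have hu' : algebraMap (X.presheaf.stalk x) X.functionField (u : X.presheaf.stalk x) =
      (α x)⁻¹ * (g : X.functionField) := by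
    have := congrArg Units.val hu
    simpa using this
  have hgeq : (g : X.functionField) = α x * algebraMap (X.presheaf.stalk x) X.functionField
      (u : X.presheaf.stalk x) := by
    rw [hu', ← mul_assoc, mul_inv_cancel₀ (hα0 x), one_mul]
  have hune : algebraMap (X.presheaf.stalk x) X.functionField (u : X.presheaf.stalk x) ≠ 0 :=
    IsOrd.map_ne_zero u.ne_zero
  have hsa : spec L x (genericPoint_specializes x) (a x) ≠ 0 :=
    ne_zero_of_bijective_smul _ (hab x)
  rw [hgeq, hord.mul _ _ (hα0 x) hune, hord.unit _ u.isUnit, add_zero, hs x,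
    secOrdAt_eq' L x (genericPoint_specializes x) (a x) (ha x) hsa (α x),
    ord_eq_ordAt hX x hx (genericPoint_specializes x) (α x) (hα0 x)]

end Groth.Agent.Lib.T2H4.SecDivisor
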