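import Mathlib

/-!
# Serre's lemma: an extension `0 → A → M → I → 0` with `pd I ≤ 1` is free iff its class generates
-/

set_option autoImplicit false
universe u

namespace Groth.Agent.Lib.T2H4.SerreFree

open CategoryTheory Abelian

section Cat

variable {A : Type u} [CommRing A] (S : ShortComplex (ModuleCat.{u} A)) (hS : S.ShortExact)

/-- The class generates `Ext¹(X₃, X₁)` iff `Ext¹(X₂, X₁) = 0` (for `X₁` projective). -/
theorem generates_iff [Projective S.X₁] :
    (∀ x : Ext S.X₃ S.X₁ 1, ∃ f : S.X₁ ⟶ S.X₁,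
      hS.extClass.comp (Ext.mk₀ f) (add_zero 1) = x) ↔ Subsingleton (Ext S.X₂ S.X₁ 1) := by
  constructor
  · intro h
    refine ⟨fun a b => ?_⟩
    suffices h0 : ∀ y : Ext S.X₂ S.X₁ 1, y = 0 by rw [h0 a, h0 b]
    intro y
    have h1 : (Ext.mk₀ S.f).comp y (zero_add 1) = 0 := Ext.eq_zero_of_projective _
    obtain ⟨x₃, hx₃⟩ := Ext.contravariant_sequence_exact₂ hS S.X₁ y h1
    obtain ⟨f, hf⟩ := h x₃
    rw [← hx₃, ← hf]
    exact hS.comp_extClass_assoc (Ext.mk₀ f) (add_zero 1)
  · intro h x
    have h1 : (Ext.mk₀ S.g).comp x (zero_add 1) = 0 := Subsingleton.elim _ _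
    obtain ⟨x₁, hx₁⟩ := Ext.contravariant_sequence_exact₃ hS S.X₁ x h1 (n₀ := 0) (add_zero 1)
    obtain ⟨f, rfl⟩ := (Ext.mk₀_bijective S.X₁ S.X₁).2 x₁
    exact ⟨f, hx₁⟩

end Cat

section Mod

variable {A : Type u} [CommRing A]

/-- If `F → M` is a surjection from a free module with finite free kernel and `Ext¹(M, A) = 0`,
then `M` is projective. -/
theorem projective_of_ext_zero {F M : Type u} [AddCommGroup F] [Module A F] [AddCommGroup M]
    [Module A M] (π : F →ₗ[A] M) (hπ : Function.Surjective π) [Module.Free A F]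
    [Module.Free A (LinearMap.ker π)] [Module.Finite A (LinearMap.ker π)]
    (hE : Subsingleton (Ext (ModuleCat.of A M) (ModuleCat.of A A) 1)) : Module.Projective A M := by
  classical
  let b := Module.Free.chooseBasis A (LinearMap.ker π)
  have hS' := LinearMap.shortExact_shortComplexKer hπ
  have hext : ∀ j, ∃ ρ : F →ₗ[A] A, ρ ∘ₗ (LinearMap.ker π).subtype = b.coord j := by
    intro j
    obtain ⟨x₂, hx₂⟩ := Ext.contravariant_sequence_exact₁ hS' (ModuleCat.of A A)
      (Ext.mk₀ (ModuleCat.ofHom (b.coord j))) (n₁ := 1) (add_zero 1) (Subsingleton.elim _ _)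
    obtain ⟨r, rfl⟩ := (Ext.mk₀_bijective _ _).2 x₂
    rw [Ext.mk₀_comp_mk₀] at hx₂
    have h1 := (Ext.mk₀_bijective _ _).1 hx₂
    exact ⟨r.hom, congrArg ModuleCat.Hom.hom h1⟩
  choose ρ hρ using hext
  let R : F →ₗ[A] LinearMap.ker π := ∑ j, (ρ j).smulRight (b j)
  have hR : ∀ k : LinearMap.ker π, R (k : F) = k := by
    intro k
    have h2 : ∀ j, ρ j (k : F) = b.coord j k := fun j => LinearMap.congr_fun (hρ j) k
    simp only [R, LinearMap.sum_apply, LinearMap.smulRight_apply, h2, Module.Basis.coord_apply]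
    exact b.sum_repr k
  let s₀ : F →ₗ[A] F := LinearMap.id - (LinearMap.ker π).subtype ∘ₗ R
  have hs₀ : LinearMap.ker π ≤ LinearMap.ker s₀ := by
    intro x hx
    rw [LinearMap.mem_ker]
    have := hR ⟨x, hx⟩
    simp only [s₀, LinearMap.sub_apply, LinearMap.id_apply, LinearMap.comp_apply,
      Submodule.subtype_apply]
    rw [this]
    simp
  let s : M →ₗ[A] F :=
    (LinearMap.ker π).liftQ s₀ hs₀ ∘ₗ (π.quotKerEquivOfSurjective hπ).symm.toLinearMap
  have hs : π ∘ₗ s = LinearMap.id := by
    apply LinearMap.ext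
    intro m
    obtain ⟨x, rfl⟩ := hπ m
    simp only [s, LinearMap.comp_apply, LinearEquiv.coe_coe,
      LinearMap.quotKerEquivOfSurjective_symm_apply, Submodule.liftQ_apply, LinearMap.id_apply]
    simp only [s₀, LinearMap.sub_apply, LinearMap.id_apply, LinearMap.comp_apply,
      Submodule.subtype_apply, map_sub]
    have : π ((R x : LinearMap.ker π) : F) = 0 := (R x).2
    rw [this, sub_zero]
  exact Module.Projective.of_split s π hs

end Mod

section Main

theorem main (A : Type u) [CommRing A] [IsNoetherianRing A] [IsLocalRing A] (I : Ideal A)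
    (hres : ∃ (q : ℕ) (φ : (Fin q → A) →ₗ[A] ↥I), Function.Surjective φ ∧
      Module.Free A ↥(LinearMap.ker φ))
    (S : ShortComplex (ModuleCat.{u} A)) (hS : S.ShortExact)
    (h₁ : Nonempty (S.X₁ ≅ ModuleCat.of A A)) (h₃ : Nonempty (S.X₃ ≅ ModuleCat.of A ↥I)) :
    Module.Free A S.X₂ ↔
      ∀ x : Ext S.X₃ S.X₁ 1, ∃ f : S.X₁ ⟶ S.X₁,
        hS.extClass.comp (Ext.mk₀ f) (add_zero 1) = x := by
  obtain ⟨e₁⟩ := h₁
  obtain ⟨e₃⟩ := h₃
  have hprojA : Projective (ModuleCat.of A A) :=
    (IsProjective.iff_projective (R := A) A).1 inferInstance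
  have hproj₁ : Projective S.X₁ := Projective.of_iso e₁.symm hprojA
  rw [generates_iff S hS]
  constructor
  · intro hfree
    have hp2 : Projective S.X₂ :=
      (IsProjective.iff_projective (R := A) ↑S.X₂).1 inferInstance
    exact ⟨fun a b => by rw [Ext.eq_zero_of_projective a, Ext.eq_zero_of_projective b]⟩
  · intro hsub
    have hE : Subsingleton (Ext S.X₂ (ModuleCat.of A A) 1) := by
      refine ⟨fun a b => ?_⟩
      suffices h0 : ∀ y : Ext S.X₂ (ModuleCat.of A A) 1, y = 0 by rw [h0 a, h0 b]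
      intro y
      have h1 : (y.comp (Ext.mk₀ e₁.inv) (add_zero 1)).comp (Ext.mk₀ e₁.hom) (add_zero 1) = y := by
        rw [Ext.comp_assoc_of_third_deg_zero, Ext.mk₀_comp_mk₀, e₁.inv_hom_id, Ext.comp_mk₀_id]
      rw [← h1, Subsingleton.elim (y.comp (Ext.mk₀ e₁.inv) (add_zero 1)) 0, Ext.zero_comp]
    obtain ⟨q, φ, hφ, hfree⟩ := hres
    have hf : Function.Injective S.f.hom := hS.moduleCat_injective_f
    have hg : Function.Surjective S.g.hom := hS.moduleCat_surjective_g
    have hex : Function.Exact S.f.hom S.g.hom :=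
      (ShortComplex.ShortExact.moduleCat_exact_iff_function_exact S).1 hS.exact
    let ε : ↑S.X₃ ≃ₗ[A] I := e₃.toLinearEquiv
    obtain ⟨φt, hφt⟩ := Module.projective_lifting_property S.g.hom (ε.symm.toLinearMap ∘ₗ φ) hg
    let π : (↑S.X₁ × (Fin q → A)) →ₗ[A] ↑S.X₂ := S.f.hom.coprod φt
    have hπ : Function.Surjective π := by
      intro m
      obtain ⟨v, hv⟩ := hφ (ε (S.g.hom m))
      have h2 : S.g.hom (m - φt v) = 0 := by
        rw [map_sub]
        have := LinearMap.congr_fun hφt v
        simp only [LinearMap.comp_apply, LinearEquiv.coe_coe] at this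
        rw [this, hv, ε.symm_apply_apply, sub_self]
      obtain ⟨a, ha⟩ := (hex _).1 h2
      refine ⟨(a, v), ?_⟩
      simp only [π, LinearMap.coprod_apply]
      rw [ha]; abel
    have hker : ∀ x : ↑S.X₁ × (Fin q → A), π x = 0 → φ x.2 = 0 := by
      intro x hx
      have h3 : S.g.hom (π x) = 0 := by rw [hx, map_zero]
      simp only [π, LinearMap.coprod_apply, map_add] at h3
      have h4 : S.g.hom (S.f.hom x.1) = 0 := (hex _).2 ⟨_, rfl⟩
      have h5 := LinearMap.congr_fun hφt x.2
      simp only [LinearMap.comp_apply, LinearEquiv.coe_coe] at h5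
      rw [h4, zero_add, h5] at h3
      simpa using h3
    let κ : LinearMap.ker π →ₗ[A] LinearMap.ker φ :=
      { toFun := fun x => ⟨x.1.2, hker x.1 x.2⟩
        map_add' := fun x y => rfl
        map_smul' := fun c x => rfl }
    have hκ : Function.Bijective κ := by
      constructor
      · intro x y hxy
        have h6 : x.1.2 = y.1.2 := congrArg Subtype.val hxy
        apply Subtype.ext
        apply Prod.ext _ h6
        apply hf
        have hx := x.2
        have hy := y.2
        simp only [LinearMap.mem_ker, π, LinearMap.coprod_apply] at hx hy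
        have h7 : S.f.hom x.1.1 = -φt x.1.2 := eq_neg_of_add_eq_zero_left hx
        have h8 : S.f.hom y.1.1 = -φt y.1.2 := eq_neg_of_add_eq_zero_left hy
        rw [h7, h8, h6]
      · rintro ⟨v, hv⟩
        have h9 : S.g.hom (φt v) = 0 := by
          have := LinearMap.congr_fun hφt v
          simp only [LinearMap.comp_apply, LinearEquiv.coe_coe] at this
          rw [this, LinearMap.mem_ker.1 hv, map_zero]
        obtain ⟨a, ha⟩ := (hex _).1 h9
        refine ⟨⟨(-a, v), ?_⟩, rfl⟩
        simp only [LinearMap.mem_ker, π, LinearMap.coprod_apply, map_neg, ha]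
        abel
    have : Module.Free A (LinearMap.ker π) :=
      Module.Free.of_equiv (LinearEquiv.ofBijective κ hκ).symm
    have : Module.Free A ↑S.X₁ := Module.Free.of_equiv e₁.toLinearEquiv.symm
    have : Module.Finite A ↑S.X₁ := Module.Finite.equiv e₁.toLinearEquiv.symm
    have hP := projective_of_ext_zero π hπ hE
    have : Module.Finite A ↑S.X₂ := Module.Finite.of_surjective π hπ
    exact Module.free_of_flat_of_isLocalRing

end Main

end Groth.Agent.Lib.T2H4.SerreFree
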