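import Groth.Agent.Lib.Helper28FibreTrans
import Groth.Agent.Lib.Helper28FGDim
import Groth.Agent.Lib.Helper28DepthFlat
import Groth.Agent.Lib.Helper14LocalDim
import Groth.Agent.Lib.Helper3SmDim
import Groth.Agent.Lib.Helper4FibDimE

/-!
# A regular sequence in the kernel of a presentation, from the fibre dimension (helper4)
-/

set_option autoImplicit false
set_option linter.style.haveILetI false
universe u
open CategoryTheory AlgebraicGeometry TensorProduct

namespace Groth.Agent.Lib.T2H4.ShriekLow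

open Groth.Agent.Lib.Helper4.FibDim Groth.Agent.Lib.Helper14.LocalDim

section FibreDims

variable {R A : Type u} [CommRing R] [CommRing A] [Algebra R A] [Algebra.FiniteType R A]

/-- the fibre dimension at `q` is `ht Q + dim F/Q` in the fibre ring. -/
theorem exists_fibre_dims (q : PrimeSpectrum A) (d : ℕ)
    (hd : FlatMor.fibreDimAt (Spec.map (CommRingCat.ofHom (algebraMap R A))) q = d) :
    ∃ (Q : Ideal ((q.asIdeal.comap (algebraMap R A)).Fiber A)) (_ : Q.IsPrime) (a e : ℕ),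
      Q.comap (Algebra.TensorProduct.includeRight :
        A →ₐ[R] (q.asIdeal.comap (algebraMap R A)).Fiber A).toRingHom = q.asIdeal ∧
      Q.height = a ∧ ringKrullDim ((q.asIdeal.comap (algebraMap R A)).Fiber A ⧸ Q) = e ∧
      d = a + e := by
  have hd' : fibLD (PrimeSpectrum.comap (algebraMap R A)) q = d :=
    (fibreDimAt_eq_fibLD (Spec.map (CommRingCat.ofHom (algebraMap R A))) q).symm.trans hd
  rw [fibLD_comap_eq] at hd'
  set p := PrimeSpectrum.comap (algebraMap R A) q with hp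
  set Qs := PrimeSpectrum.preimageHomeomorphFiber R A p ⟨q, rfl⟩ with hQs
  haveI : Qs.asIdeal.IsPrime := Qs.2
  obtain ⟨a, e, ha, he, -, he'⟩ := exists_dims (k := p.asIdeal.ResidueField) Qs.asIdeal
  have h1 := localDim_eq (k := p.asIdeal.ResidueField) Qs.asIdeal a e ha he he'
  have h2 : (⟨Qs.asIdeal, inferInstance⟩ : PrimeSpectrum (p.asIdeal.Fiber A)) = Qs := rfl
  rw [h2, hd'] at h1
  refine ⟨Qs.asIdeal, Qs.2, a, e, ?_, ha, he, ?_⟩
  · have h3 := (PrimeSpectrum.preimageHomeomorphFiber R A p).symm_apply_apply ⟨q, rfl⟩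
    have h4 := congrArg (fun x => x.1.asIdeal) h3
    exact h4
  · exact_mod_cast h1

end FibreDims

section PolyDims

variable {R : Type u} [CommRing R] (n : ℕ)

/-- in the fibre rings of `R[x₁..xₙ]`, `ht Q' + dim F/Q' = n`. -/
theorem exists_poly_fibre_dims (𝔭 : Ideal R) [𝔭.IsPrime]
    (Q' : Ideal (𝔭.Fiber (MvPolynomial (Fin n) R))) [Q'.IsPrime] :
    ∃ (a' e' : ℕ), Q'.height = a' ∧
      ringKrullDim (𝔭.Fiber (MvPolynomial (Fin n) R) ⧸ Q') = e' ∧ n = a' + e' := by
  let e : 𝔭.Fiber (MvPolynomial (Fin n) R) ≃+* MvPolynomial (Fin n) 𝔭.ResidueField :=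
    (MvPolynomial.algebraTensorAlgEquiv R 𝔭.ResidueField).toRingEquiv
  have h0 : FlatMor.localDim (PrimeSpectrum (𝔭.Fiber (MvPolynomial (Fin n) R)))
      ⟨Q', inferInstance⟩ = (n : WithBot ℕ∞) :=
    (localDim_eq_of_homeomorph (PrimeSpectrum.homeomorphOfRingEquiv e) _).trans
      (Groth.Agent.Lib.Helper3.SmDim.localDim_mvPolynomial 𝔭.ResidueField n _)
  obtain ⟨a, e', ha, he, -, he'⟩ := exists_dims (k := 𝔭.ResidueField) Q'
  have h1 := localDim_eq (k := 𝔭.ResidueField) Q' a e' ha he he'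
  rw [h0] at h1
  exact ⟨a, e', ha, he, by exact_mod_cast h1⟩

end PolyDims

section FibreMap

variable {R P A : Type u} [CommRing R] [CommRing P] [CommRing A] [Algebra R P] [Algebra R A]
  (ψ : P →ₐ[R] A) (𝔭 : Ideal R) [𝔭.IsPrime]

/-- the induced map of fibre rings. -/
noncomputable def fibMap : 𝔭.Fiber P →ₐ[R] 𝔭.Fiber A :=
  Algebra.TensorProduct.map (AlgHom.id R 𝔭.ResidueField) ψ

lemma fibMap_surjective (hψ : Function.Surjective ψ) : Function.Surjective (fibMap ψ 𝔭) := by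
  have h : ⇑(fibMap ψ 𝔭) =
      ⇑(TensorProduct.map (AlgHom.id R 𝔭.ResidueField).toLinearMap ψ.toLinearMap) := rfl
  rw [h]
  exact TensorProduct.map_surjective Function.surjective_id hψ

lemma fibMap_includeRight (x : P) :
    fibMap ψ 𝔭 ((Algebra.TensorProduct.includeRight : P →ₐ[R] 𝔭.Fiber P) x) =
      (Algebra.TensorProduct.includeRight : A →ₐ[R] 𝔭.Fiber A) (ψ x) := by
  simp [fibMap]

theorem comap_fibMap (Q : Ideal (𝔭.Fiber A)) :
    (Q.comap (fibMap ψ 𝔭).toRingHom).comap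
        (Algebra.TensorProduct.includeRight : P →ₐ[R] 𝔭.Fiber P).toRingHom =
      (Q.comap (Algebra.TensorProduct.includeRight : A →ₐ[R] 𝔭.Fiber A).toRingHom).comap
        ψ.toRingHom := by
  ext x
  simp only [Ideal.mem_comap, AlgHom.toRingHom_eq_coe, RingHom.coe_coe]
  rw [fibMap_includeRight]

theorem ringKrullDim_quot_comap_fibMap (hψ : Function.Surjective ψ) (Q : Ideal (𝔭.Fiber A)) :
    ringKrullDim (𝔭.Fiber P ⧸ Q.comap (fibMap ψ 𝔭).toRingHom) = ringKrullDim (𝔭.Fiber A ⧸ Q) :=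
  ringKrullDim_eq_of_ringEquiv (RingEquiv.ofBijective
    (Ideal.quotientMap Q (fibMap ψ 𝔭).toRingHom le_rfl)
    ⟨Ideal.quotientMap_injective, Ideal.quotientMap_surjective (fibMap_surjective ψ 𝔭 hψ)⟩)

end FibreMap

end Groth.Agent.Lib.T2H4.ShriekLow
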