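import Mathlib

set_option autoImplicit false
set_option linter.style.haveILetI false
universe u

namespace Groth.Agent.Lib.T2H4.ShriekLow

section LocSurj

variable {P A : Type u} [CommRing P] [CommRing A] (ψ : P →+* A) (hψ : Function.Surjective ψ)
  (q : Ideal A) [q.IsPrime] (q' : Ideal P) [q'.IsPrime] (hq' : q' = q.comap ψ)

include hψ in
lemma localRingHom_surjective :
    Function.Surjective (Localization.localRingHom q' q ψ hq') := by
  intro y
  obtain ⟨a, s, rfl⟩ := IsLocalization.exists_mk'_eq q.primeCompl y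
  obtain ⟨a', rfl⟩ := hψ a
  obtain ⟨s', hs'⟩ := hψ s.1
  have hs'q : s' ∈ q'.primeCompl := by
    intro h
    have h2 : s' ∈ q.comap ψ := (le_of_eq hq') h
    exact s.2 (hs' ▸ h2)
  refine ⟨IsLocalization.mk' _ a' ⟨s', hs'q⟩, ?_⟩
  rw [Localization.localRingHom_mk']
  congr 1
  exact Subtype.ext hs'

include hψ in
lemma ker_localRingHom :
    RingHom.ker (Localization.localRingHom q' q ψ hq') =
      (RingHom.ker ψ).map (algebraMap P (Localization.AtPrime q')) := by
  ext x
  rw [RingHom.mem_ker, IsLocalization.mem_map_algebraMap_iff q'.primeCompl]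
  constructor
  · intro hx
    obtain ⟨a, s, rfl⟩ := IsLocalization.exists_mk'_eq q'.primeCompl x
    rw [Localization.localRingHom_mk', IsLocalization.mk'_eq_zero_iff] at hx
    obtain ⟨m, hm⟩ := hx
    obtain ⟨t, ht⟩ := hψ m.1
    have htq : t ∈ q'.primeCompl := by
      intro h
      have h2 : t ∈ q.comap ψ := (le_of_eq hq') h
      exact m.2 (ht ▸ h2)
    have hker : t * a ∈ RingHom.ker ψ := by
      rw [RingHom.mem_ker, map_mul, ht]
      exact hm
    refine ⟨(⟨t * a, hker⟩, s * ⟨t, htq⟩), ?_⟩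
    simp only [Submonoid.coe_mul, map_mul]
    rw [← mul_assoc, IsLocalization.mk'_spec]
    ring
  · rintro ⟨⟨i, m⟩, h⟩
    have h1 := congrArg (Localization.localRingHom q' q ψ hq') h
    rw [map_mul, Localization.localRingHom_to_map, Localization.localRingHom_to_map,
      (RingHom.mem_ker).1 i.2, map_zero] at h1
    have hu : IsUnit (algebraMap A (Localization.AtPrime q) (ψ m.1)) := by
      apply IsLocalization.map_units (Localization.AtPrime q) (⟨ψ m.1, ?_⟩ : q.primeCompl)
      intro h
      have h2 : m.1 ∈ q.comap ψ := Ideal.mem_comap.2 h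
      have h3 : q.comap ψ ≤ q' := le_of_eq hq'.symm
      exact m.2 (h3 h2)
    exact (hu.mul_left_eq_zero).1 h1

end LocSurj

section QuotKer

variable {X Y : Type u} [CommRing X] [CommRing Y] (g : X →+* Y) (hg : Function.Surjective g)
  (J' : Ideal X) (J : Ideal Y) (hJ : J'.map g = J)

include hg hJ in
/-- the kernel of the map induced on quotients by a surjection. -/
lemma ker_quotientMap (hle : J' ≤ J.comap g) :
    RingHom.ker (Ideal.quotientMap J g hle) = (RingHom.ker g).map (Ideal.Quotient.mk J') := by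
  ext x
  obtain ⟨x, rfl⟩ := Ideal.Quotient.mk_surjective x
  rw [RingHom.mem_ker, Ideal.quotientMap_mk, Ideal.Quotient.eq_zero_iff_mem,
    Ideal.mem_map_iff_of_surjective _ Ideal.Quotient.mk_surjective]
  constructor
  · intro hx
    rw [← hJ, Ideal.mem_map_iff_of_surjective g hg] at hx
    obtain ⟨j, hj, hjx⟩ := hx
    refine ⟨x - j, ?_, ?_⟩
    · rw [RingHom.mem_ker, map_sub, hjx, sub_self]
    · rw [map_sub, (Ideal.Quotient.eq_zero_iff_mem).2 hj, sub_zero]
  · rintro ⟨k, hk, hkx⟩
    have h1 : x - k ∈ J' := by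
      rw [← Ideal.Quotient.eq_zero_iff_mem, map_sub, hkx, sub_self]
    have h2 : g x = g (x - k) := by
      rw [map_sub, (RingHom.mem_ker).1 hk, sub_zero]
    rw [h2, ← hJ]
    exact Ideal.mem_map_of_mem g h1

include hg hJ in
lemma ringKrullDim_quot_ker_map (hle : J' ≤ J.comap g) :
    ringKrullDim ((X ⧸ J') ⧸ (RingHom.ker g).map (Ideal.Quotient.mk J')) =
      ringKrullDim (Y ⧸ J) := by
  have hs : Function.Surjective (Ideal.quotientMap J g hle) := Ideal.quotientMap_surjective hg
  have e1 := RingHom.quotientKerEquivOfSurjective hs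
  have e2 : ((X ⧸ J') ⧸ (RingHom.ker g).map (Ideal.Quotient.mk J')) ≃+*
      ((X ⧸ J') ⧸ RingHom.ker (Ideal.quotientMap J g hle)) :=
    Ideal.quotEquivOfEq (ker_quotientMap g hg J' J hJ hle).symm
  exact ringKrullDim_eq_of_ringEquiv (e2.trans e1)

end QuotKer

end Groth.Agent.Lib.T2H4.ShriekLow
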