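import Groth.Agent.Lib.Helper28DepthFlat

set_option autoImplicit false
set_option linter.style.haveILetI false
universe u
open RingTheory.Sequence TensorProduct
open scoped Pointwise

namespace Groth.Agent.Lib.T2H4.ShriekLow

open Groth.Agent.Lib.Helper28

section Lift

variable {R₀ S₀ : Type u} [CommRing R₀] [CommRing S₀] [IsLocalRing R₀] [IsLocalRing S₀]
  [IsNoetherianRing R₀] [IsNoetherianRing S₀] [Algebra R₀ S₀] [IsLocalHom (algebraMap R₀ S₀)]

/-- a sequence which is weakly regular on the closed fibre of a flat module is weakly regular. -/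
theorem isWeaklyRegular_of_quotient : ∀ (fs : List S₀) (N : Type u) [AddCommGroup N]
    [Module S₀ N] [Module R₀ N] [IsScalarTower R₀ S₀ N] [Module.Finite S₀ N] [Module.Flat R₀ N],
    IsWeaklyRegular (N ⧸ ((IsLocalRing.maximalIdeal R₀).map (algebraMap R₀ S₀) • ⊤ :
      Submodule S₀ N)) fs → IsWeaklyRegular N fs
  | [] => fun N _ _ _ _ _ _ _ => IsWeaklyRegular.nil S₀ N
  | f :: fs => by
    intro N _ _ _ _ _ _ h
    rw [isWeaklyRegular_cons_iff] at h ⊢
    obtain ⟨hf, hrest⟩ := h
    constructor
    · have h1 := isSMulRegular_tensor_of_isSMulRegular_quotient (R := R₀) (S := S₀) (N := N) f hf R₀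
      exact (LinearEquiv.isSMulRegular_congr
        (TensorProduct.AlgebraTensorModule.rid R₀ S₀ N) f).1 h1
    · haveI : Module.Flat R₀ (QuotSMulTop f N) :=
        flat_quotSMulTop_of_isSMulRegular_quotient (R := R₀) (S := S₀) (N := N) f hf
      apply isWeaklyRegular_of_quotient fs (QuotSMulTop f N)
      exact ((quotSMulTopQuotEquiv (N := N) f
        ((IsLocalRing.maximalIdeal R₀).map (algebraMap R₀ S₀))).isWeaklyRegular_congr fs).2 hrest

end Lift

end Groth.Agent.Lib.T2H4.ShriekLow
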