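import Groth.Agent.Lib.T2H4ShriekLow1
import Groth.Agent.Lib.T2H4ShriekLow2
import Groth.Agent.Lib.T2H4ShriekLow3
import Groth.Agent.Lib.Helper28PolyCM
import Groth.Agent.Lib.Helper28FlatNormal

/-!
# A regular sequence in the kernel of a presentation, from the fibre dimension, II (helper4)
-/

set_option autoImplicit false
set_option linter.style.haveILetI false
universe u
open CategoryTheory AlgebraicGeometry TensorProduct RingTheory.Sequence

namespace Groth.Agent.Lib.T2H4.ShriekLow

open Groth.Agent.Lib.Helper4.FibDim Groth.Agent.Lib.Helper14.LocalDim Groth.Agent.Lib.Helper28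

section Gens

variable {S : Type u} [CommRing S] [IsNoetherianRing S]

/-- an ideal with `spanRank = c` is generated by a list of length `c`. -/
lemma exists_list_of_spanRank (J : Ideal S) (c : ℕ) (h : J.spanRank = (c : Cardinal)) :
    ∃ ys : List S, ys.length = c ∧ Ideal.ofList ys = J := by
  classical
  have hfg : Submodule.FG J := IsNoetherian.noetherian J
  have hfin : J.generators.Finite := Submodule.FG.finite_generators hfg
  have h1 : J.generators.ncard = J.spanFinrank := Submodule.FG.generators_ncard hfg
  have h2 : J.spanRank = (J.spanFinrank : Cardinal) :=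
    (Submodule.fg_iff_spanRank_eq_spanFinrank).2 hfg
  have h3 : J.spanFinrank = c := by
    rw [h2] at h
    exact_mod_cast h
  refine ⟨hfin.toFinset.toList, ?_, ?_⟩
  · rw [Finset.length_toList, ← Set.ncard_eq_toFinset_card _ hfin, h1, h3]
  · have : {r | r ∈ hfin.toFinset.toList} = J.generators := by
      ext r
      simp
    show Ideal.span {r | r ∈ hfin.toFinset.toList} = J
    rw [this]
    exact J.span_generators

end Gens

section Main

variable (R A : Type u) [CommRing R] [CommRing A] [IsNoetherianRing R]
  [Algebra R A]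

set_option maxHeartbeats 1600000 in
/-- **the regular sequence**: in `P_{q'}` the kernel of the presentation contains a regular
sequence of length `n - d`, `d` the fibre dimension at `q`. -/
theorem exists_regular_sequence (n : ℕ) (ψ : MvPolynomial (Fin n) R →ₐ[R] A)
    (hψ : Function.Surjective ψ) (q : PrimeSpectrum A) (d : ℕ)
    (hd : FlatMor.fibreDimAt (Spec.map (CommRingCat.ofHom (algebraMap R A))) q = d)
    (q' : Ideal (MvPolynomial (Fin n) R)) [q'.IsPrime] (hq' : q' = q.asIdeal.comap ψ.toRingHom) :
    ∃ fs : List (Localization.AtPrime q'),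
      fs.length + d = n ∧
      (∀ f ∈ fs, f ∈ (RingHom.ker ψ.toRingHom).map
        (algebraMap (MvPolynomial (Fin n) R) (Localization.AtPrime q'))) ∧
      IsWeaklyRegular (Localization.AtPrime q') fs := by
  classical
  haveI : Algebra.FiniteType R A := Algebra.FiniteType.of_surjective ψ hψ
  obtain ⟨Q, hQp, a, e, hQq, ha, he, hdae⟩ := exists_fibre_dims q d hd
  set 𝔭 : Ideal R := q.asIdeal.comap (algebraMap R A) with h𝔭
  let Q' : Ideal (𝔭.Fiber (MvPolynomial (Fin n) R)) := Q.comap (fibMap ψ 𝔭).toRingHom
  haveI hQ'p : Q'.IsPrime := Ideal.comap_isPrime _ _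
  have hQ'q' : q' = Q'.comap (Algebra.TensorProduct.includeRight :
      MvPolynomial (Fin n) R →ₐ[R] 𝔭.Fiber (MvPolynomial (Fin n) R)) := by
    have := comap_fibMap ψ 𝔭 Q
    rw [hQq] at this
    rw [hq']
    exact this.symm
  obtain ⟨a', e', ha', he', hn⟩ := exists_poly_fibre_dims n 𝔭 Q'
  have hee' : e' = e := by
    have := ringKrullDim_quot_comap_fibMap ψ 𝔭 hψ Q
    rw [he] at this
    have h2 : ringKrullDim (𝔭.Fiber (MvPolynomial (Fin n) R) ⧸ Q') = e := this
    rw [he'] at h2
    exact_mod_cast h2
  -- the fibre local rings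
  obtain ⟨eS⟩ := nonempty_localization_fiber_equiv 𝔭 Q' q' hQ'q'
  obtain ⟨eT⟩ := nonempty_localization_fiber_equiv 𝔭 Q q.asIdeal hQq.symm
  haveI hCMk : LocCoh.IsCohenMacaulayRing 𝔭.ResidueField := isCohenMacaulayRing_of_field _
  haveI hCMpoly : LocCoh.IsCohenMacaulayRing (MvPolynomial (Fin n) 𝔭.ResidueField) :=
    isCohenMacaulayRing_mvPolynomial_fin n
  haveI hCMF : LocCoh.IsCohenMacaulayRing (𝔭.Fiber (MvPolynomial (Fin n) R)) :=
    isCohenMacaulayRing_of_ringEquiv
      (MvPolynomial.algebraTensorAlgEquiv R 𝔭.ResidueField).toRingEquiv.symm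
  haveI hCMloc : LocCoh.IsCohenMacaulayLocalRing (Localization.AtPrime Q') :=
    hCMF.isCohenMacaulayLocalRing_localization Q'
  haveI hCMS : LocCoh.IsCohenMacaulayLocalRing (EGA4.FibLocRing R (MvPolynomial (Fin n) R) q') :=
    isCohenMacaulayLocalRing_of_ringEquiv (R := Localization.AtPrime Q') eS
  have hdimS : ringKrullDim (EGA4.FibLocRing R (MvPolynomial (Fin n) R) q') = a' := by
    rw [← ringKrullDim_eq_of_ringEquiv eS, IsLocalization.AtPrime.ringKrullDim_eq_height Q' (Localization.AtPrime Q'), ha']
    rfl
  have hdimT : ringKrullDim (EGA4.FibLocRing R A q.asIdeal) = a := by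
    rw [← ringKrullDim_eq_of_ringEquiv eT, IsLocalization.AtPrime.ringKrullDim_eq_height Q (Localization.AtPrime Q), ha]
    rfl
  -- the natural surjection
  let g : Localization.AtPrime q' →+* Localization.AtPrime q.asIdeal :=
    Localization.localRingHom q' q.asIdeal ψ.toRingHom hq'
  have hg : Function.Surjective g := localRingHom_surjective ψ.toRingHom hψ q.asIdeal q' hq'
  have hker : RingHom.ker g = (RingHom.ker ψ.toRingHom).map
      (algebraMap (MvPolynomial (Fin n) R) (Localization.AtPrime q')) :=
    ker_localRingHom ψ.toRingHom hψ q.asIdeal q' hq'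
  let J' : Ideal (Localization.AtPrime q') :=
    (q'.comap (algebraMap R (MvPolynomial (Fin n) R))).map (algebraMap R (Localization.AtPrime q'))
  let J : Ideal (Localization.AtPrime q.asIdeal) :=
    (q.asIdeal.comap (algebraMap R A)).map (algebraMap R (Localization.AtPrime q.asIdeal))
  have hcomp : g.comp (algebraMap R (Localization.AtPrime q')) =
      algebraMap R (Localization.AtPrime q.asIdeal) := by
    ext r
    simp only [RingHom.comp_apply]
    rw [IsScalarTower.algebraMap_apply R (MvPolynomial (Fin n) R) (Localization.AtPrime q'),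
      Localization.localRingHom_to_map,
      IsScalarTower.algebraMap_apply R A (Localization.AtPrime q.asIdeal)]
    congr 1
    exact ψ.commutes r
  have hcomapeq : q'.comap (algebraMap R (MvPolynomial (Fin n) R)) =
      q.asIdeal.comap (algebraMap R A) := by
    ext r
    rw [hq']
    simp only [Ideal.mem_comap, AlgHom.toRingHom_eq_coe, RingHom.coe_coe]
    rw [ψ.commutes]
  have hJ : J'.map g = J := by
    show ((q'.comap (algebraMap R (MvPolynomial (Fin n) R))).map
      (algebraMap R (Localization.AtPrime q'))).map g = _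
    rw [Ideal.map_map, hcomp, hcomapeq]
  have hle : J' ≤ J.comap g := by
    rw [← hJ]
    exact Ideal.le_comap_map
  have hdimq := ringKrullDim_quot_ker_map g hg J' J hJ hle
  -- `S = L' ⧸ J'`, `T = L ⧸ J`
  let Jk : Ideal (EGA4.FibLocRing R (MvPolynomial (Fin n) R) q') :=
    (RingHom.ker g).map (Ideal.Quotient.mk J')
  have hdimq' : ringKrullDim (EGA4.FibLocRing R (MvPolynomial (Fin n) R) q' ⧸ Jk) = a :=
    hdimq.trans hdimT
  have hJk_ne : Jk ≠ ⊤ := by
    intro h
    have h1 : Subsingleton (EGA4.FibLocRing R (MvPolynomial (Fin n) R) q' ⧸ Jk) := by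
      rw [h]
      exact Ideal.Quotient.subsingleton_iff.2 rfl
    have h2 : ringKrullDim (EGA4.FibLocRing R (MvPolynomial (Fin n) R) q' ⧸ Jk) = ⊥ :=
      ringKrullDim_eq_bot_of_subsingleton
    rw [hdimq'] at h2
    exact absurd h2 (by simp)
  have hht := height_add_ringKrullDim_quotient_eq_of_isCohenMacaulayLocalRing Jk hJk_ne
  rw [hdimq', hdimS] at hht
  obtain ⟨c, hc⟩ := ENat.ne_top_iff_exists.1 (Ideal.height_ne_top hJk_ne)
  rw [← hc] at hht
  have hca : c + a = a' := by exact_mod_cast hht
  -- generators
  obtain ⟨J₀, hJ₀le, hJ₀rank, hJ₀ht⟩ := Ideal.exists_spanRank_eq_and_height_eq Jk hJk_ne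
  have hrank : J₀.spanRank = (c : Cardinal) := by
    rw [hJ₀rank, ← hc]
    simp
  obtain ⟨ys, hyslen, hysJ⟩ := exists_list_of_spanRank J₀ c hrank
  haveI hlocS : IsLocalRing (EGA4.FibLocRing R (MvPolynomial (Fin n) R) q') :=
    isLocalRing_fibLocRing (A := R) q'
  have hmem : ∀ y ∈ ys, y ∈ IsLocalRing.maximalIdeal
      (EGA4.FibLocRing R (MvPolynomial (Fin n) R) q') := by
    intro y hy
    have h1 : y ∈ J₀ := hysJ ▸ Ideal.subset_span hy
    exact IsLocalRing.le_maximalIdeal hJk_ne (hJ₀le h1)
  have hhtys : (ys.length : ℕ∞) ≤ (Ideal.ofList ys).height := by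
    rw [hysJ, hJ₀ht, hyslen, hc]
  obtain ⟨hreg, -, -⟩ := isWeaklyRegular_of_length_le_height ys hmem hhtys
  -- lift
  have hlift : ∀ y ∈ ys, ∃ f : Localization.AtPrime q', f ∈ RingHom.ker g ∧
      Ideal.Quotient.mk J' f = y := by
    intro y hy
    have h1 : y ∈ Jk := hJ₀le (hysJ ▸ Ideal.subset_span hy)
    exact (Ideal.mem_map_iff_of_surjective _ Ideal.Quotient.mk_surjective).1 h1
  choose! F hF using hlift
  let fs : List (Localization.AtPrime q') := ys.map F
  have hfsmap : fs.map (algebraMap (Localization.AtPrime q')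
      (EGA4.FibLocRing R (MvPolynomial (Fin n) R) q')) = ys := by
    show (ys.map F).map _ = ys
    rw [List.map_map]
    conv_rhs => rw [← List.map_id ys]
    apply List.map_congr_left
    intro y hy
    exact (hF y hy).2
  refine ⟨fs, ?_, ?_, ?_⟩
  · show (ys.map F).length + d = n
    rw [List.length_map, hyslen, hdae, hn, hee', ← hca]
    ring
  · intro f hf
    obtain ⟨y, hy, rfl⟩ := List.mem_map.1 hf
    rw [← hker]
    exact (hF y hy).1
  · -- regularity on the closed fibre
    have h1 : IsWeaklyRegular (EGA4.FibLocRing R (MvPolynomial (Fin n) R) q') fs := by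
      rw [← isWeaklyRegular_map_algebraMap_iff
        (S := EGA4.FibLocRing R (MvPolynomial (Fin n) R) q'), hfsmap]
      exact hreg
    -- the base local ring
    let p₀ : Ideal R := q'.comap (algebraMap R (MvPolynomial (Fin n) R))
    haveI hp₀ : p₀.IsPrime := Ideal.comap_isPrime _ _
    haveI hlies : q'.LiesOver p₀ := ⟨rfl⟩
    letI alg : Algebra (Localization.AtPrime p₀) (Localization.AtPrime q') :=
      Localization.AtPrime.algebraOfLiesOver p₀ q'
    haveI hflat1 : Module.Flat (MvPolynomial (Fin n) R) (Localization.AtPrime q') :=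
      IsLocalization.flat _ q'.primeCompl
    haveI hflat2 : Module.Flat R (Localization.AtPrime q') :=
      Module.Flat.trans R (MvPolynomial (Fin n) R) _
    haveI hflat : Module.Flat (Localization.AtPrime p₀) (Localization.AtPrime q') :=
      (Module.flat_iff_of_isLocalization (Localization.AtPrime p₀) p₀.primeCompl _).mpr hflat2
    haveI : IsNoetherianRing (Localization.AtPrime p₀) :=
      IsLocalization.isNoetherianRing p₀.primeCompl _ inferInstance
    haveI : IsNoetherianRing (Localization.AtPrime q') :=
      IsLocalization.isNoetherianRing q'.primeCompl _ inferInstance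
    have hmap : J' = (IsLocalRing.maximalIdeal (Localization.AtPrime p₀)).map
        (algebraMap (Localization.AtPrime p₀) (Localization.AtPrime q')) := by
      show p₀.map (algebraMap R (Localization.AtPrime q')) = _
      rw [← IsLocalization.AtPrime.map_eq_maximalIdeal p₀ (Localization.AtPrime p₀),
        Ideal.map_map, ← IsScalarTower.algebraMap_eq]
    apply isWeaklyRegular_of_quotient (R₀ := Localization.AtPrime p₀) fs (Localization.AtPrime q')
    have hsub : ((IsLocalRing.maximalIdeal (Localization.AtPrime p₀)).map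
        (algebraMap (Localization.AtPrime p₀) (Localization.AtPrime q')) • ⊤ :
        Submodule (Localization.AtPrime q') (Localization.AtPrime q')) = J' := by
      rw [← hmap]
      exact Ideal.mul_top J'
    exact ((Submodule.quotEquivOfEq _ _ hsub).isWeaklyRegular_congr fs).2 h1

end Main

end Groth.Agent.Lib.T2H4.ShriekLow
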