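import Groth.Agent.Lib.T2H4DimFun5
import Groth.Agent.Lib.T2H4LDerExist
import Groth.Agent.S11179
import Mathlib.RingTheory.Depth.Rees

/-!
# Vanishing of `Ext^j(M, B)` at a prime from a regular sequence in the annihilator (helper4)
-/

set_option autoImplicit false
set_option linter.style.haveILetI false
set_option backward.isDefEq.respectTransparency.types false
universe u
open CategoryTheory CategoryTheory.Limits TensorProduct RingTheory.Sequence
attribute [local instance] HasDerivedCategory.standard

namespace Groth.Agent.Lib.T2H4.ShriekLow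

open DerivedCategory Pretriangulated Groth.Agent.Lib.T2H4.DimFun Groth.Agent.Lib.T2H4.LocKL
  Groth.Agent.Lib.T2H4.LocalDual

section Local

variable {L : Type u} [CommRing L] [IsNoetherianRing L] [IsLocalRing L]

/-- Rees' theorem in derived form, over a local ring. -/
theorem subsingleton_hom_of_isWeaklyRegular (I : Ideal L) (hI : I ≠ ⊤)
    (N : Type u) [AddCommGroup N] [Module L N] [Module.Finite L N]
    (hN : ∀ x ∈ I, ∀ m : N, x • m = 0)
    (fs : List L) (hfs : ∀ f ∈ fs, f ∈ I) (hreg : IsWeaklyRegular L fs) (j : ℤ)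
    (hj : j < fs.length) :
    Subsingleton (Dual.inD L N ⟶ (Dual.inD L L)⟦j⟧) := by
  by_cases hneg : j < 0
  · exact Groth.Agent.S11179.subsingleton_neg _ _ j hneg
  push Not at hneg
  obtain ⟨m, rfl⟩ : ∃ m : ℕ, j = m := ⟨j.toNat, (Int.toNat_of_nonneg hneg).symm⟩
  have hm : m < fs.length := by exact_mod_cast hj
  have hImax : I ≤ IsLocalRing.maximalIdeal L := IsLocalRing.le_maximalIdeal hI
  have hreg' : IsRegular (ModuleCat.of L L) fs :=
    IsRegular.of_isWeaklyRegular_of_mem_maximalIdeal (L := L) (fun r hr => hImax (hfs r hr)) hreg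
  have hsupp : Module.support L (ModuleCat.of L N) ⊆ PrimeSpectrum.zeroLocus I := by
    rw [Module.support_eq_zeroLocus]
    apply PrimeSpectrum.zeroLocus_anti_mono
    intro x hx
    exact Module.mem_annihilator.2 (hN x hx)
  have hlt : I • (⊤ : Submodule L (ModuleCat.of L L)) < ⊤ := by
    rw [lt_top_iff_ne_top]
    intro h
    apply hI
    have h2 : I • (⊤ : Submodule L L) = I := Ideal.mul_top I
    exact h2.symm.trans h
  have hs := ModuleCat.subsingleton_ext_of_exists_isRegular I (ModuleCat.of L N) hsupp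
    (ModuleCat.of L L) hlt fs hfs hreg' m hm
  exact (Abelian.Ext.homEquiv (X := ModuleCat.of L N) (Y := ModuleCat.of L L) (n := m)).symm.subsingleton

end Local

section Global

variable {B : Type u} [CommRing B] [IsNoetherianRing B]

/-- `Ext^j_B(M, B)` vanishes at `𝔮` for `j` less than the length of a regular sequence of `B_𝔮`
contained in `I B_𝔮`, when `I` kills `M`. -/
theorem exists_smul_eq_zero_of_isWeaklyRegular (𝔮 : Ideal B) [𝔮.IsPrime] (I : Ideal B)
    (hI : I ≤ 𝔮) (M : Type u) [AddCommGroup M] [Module B M] [Module.Finite B M]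
    (hM : ∀ x ∈ I, ∀ m : M, x • m = 0) (fs : List (Localization.AtPrime 𝔮))
    (hfs : ∀ f ∈ fs, f ∈ I.map (algebraMap B (Localization.AtPrime 𝔮)))
    (hreg : IsWeaklyRegular (Localization.AtPrime 𝔮) fs) (j : ℤ) (hj : j < fs.length)
    (f : Dual.inD B M ⟶ (Dual.inD B B)⟦j⟧) : ∃ s ∈ 𝔮.primeCompl, s • f = 0 := by
  haveI := Groth.Agent.Lib.T2H4.LDerExist.hasLBaseChange (algebraMap B (Localization.AtPrime 𝔮))
  haveI : Module.Flat B (Localization.AtPrime 𝔮) := IsLocalization.flat _ 𝔮.primeCompl
  haveI : IsNoetherianRing (Localization.AtPrime 𝔮) :=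
    IsLocalization.isNoetherianRing 𝔮.primeCompl _ inferInstance
  revert f
  rw [← subsingleton_hom_lbc_iff 𝔮.primeCompl (Localization.AtPrime 𝔮) (Dual.inD B M)
    (Dual.inD B B) 0 0 0 (isZero_HD_inD M) (finite_HD_inD M) j]
  obtain ⟨e1⟩ := nonempty_lbc_inD_iso B (Localization.AtPrime 𝔮) M
  obtain ⟨e2⟩ := nonempty_lbc_inD_iso B (Localization.AtPrime 𝔮) B
  let e3 : Dual.inD (Localization.AtPrime 𝔮) (Localization.AtPrime 𝔮 ⊗[B] B) ≅
      Dual.inD (Localization.AtPrime 𝔮) (Localization.AtPrime 𝔮) :=
    (singleFunctor (ModuleCat.{u} (Localization.AtPrime 𝔮)) 0).mapIso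
      (TensorProduct.AlgebraTensorModule.rid B (Localization.AtPrime 𝔮)
        (Localization.AtPrime 𝔮)).toModuleIso
  have hI' : I.map (algebraMap B (Localization.AtPrime 𝔮)) ≠ ⊤ := by
    intro h
    have h1 : I.map (algebraMap B (Localization.AtPrime 𝔮)) ≤
        IsLocalRing.maximalIdeal (Localization.AtPrime 𝔮) := by
      rw [← Localization.AtPrime.map_eq_maximalIdeal]
      exact Ideal.map_mono hI
    rw [h] at h1
    exact (IsLocalRing.maximalIdeal.isMaximal _).ne_top (top_le_iff.1 h1)
  have hN : ∀ x ∈ I.map (algebraMap B (Localization.AtPrime 𝔮)),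
      ∀ m : Localization.AtPrime 𝔮 ⊗[B] M, x • m = 0 := by
    have hle : I.map (algebraMap B (Localization.AtPrime 𝔮)) ≤
        Module.annihilator (Localization.AtPrime 𝔮) (Localization.AtPrime 𝔮 ⊗[B] M) := by
      rw [Ideal.map_le_iff_le_comap]
      intro i hi
      rw [Ideal.mem_comap, Module.mem_annihilator]
      intro z
      induction z using TensorProduct.induction_on with
      | zero => exact smul_zero _
      | tmul x m =>
        rw [TensorProduct.smul_tmul', smul_eq_mul, ← Algebra.smul_def, TensorProduct.smul_tmul,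
          hM i hi m, TensorProduct.tmul_zero]
      | add a b ha hb => rw [smul_add, ha, hb, add_zero]
    intro x hx m
    exact Module.mem_annihilator.1 (hle hx) m
  have hs := subsingleton_hom_of_isWeaklyRegular (I.map (algebraMap B (Localization.AtPrime 𝔮)))
    hI' (Localization.AtPrime 𝔮 ⊗[B] M) hN fs hfs hreg j hj
  exact (Iso.homCongr e1 ((shiftFunctor (Dual.D (Localization.AtPrime 𝔮)) j).mapIso
    (e2 ≪≫ e3))).subsingleton

end Global

end Groth.Agent.Lib.T2H4.ShriekLow
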