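import Groth.Agent.Lib.T2H4ShriekLow4
import Groth.Agent.Lib.T2H4ShriekLow5
import Groth.Agent.Lib.T2H4RGDelta
import Groth.Agent.Lib.T2H4FibGor4

/-!
# The lower bound for the cohomology of `φ^!(R)` (helper4)
-/

set_option autoImplicit false
set_option linter.style.haveILetI false
set_option backward.isDefEq.respectTransparency.types false
universe u
open CategoryTheory CategoryTheory.Limits TensorProduct RingTheory.Sequence AlgebraicGeometry
attribute [local instance] HasDerivedCategory.standard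

namespace Groth.Agent.Lib.T2H4.ShriekLow

open DerivedCategory Pretriangulated Groth.Agent.Lib.T2H4.DimFun Groth.Agent.Lib.T2H4.LocKL
  Groth.Agent.Lib.T2H4.LocalDual Groth.Agent.Lib.T2H4.DComp Groth.Agent.Lib.T2H4.FibGor
  Groth.Agent.Lib.Helper1.Restrict

section Main

variable (R A : Type u) [CommRing R] [CommRing A] [IsNoetherianRing R] [IsNoetherianRing A]
  [Algebra R A]

/-- **S1785**. -/
theorem HD_shriekVia_self_lower (n : ℕ) (ψ : MvPolynomial (Fin n) R →ₐ[R] A)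
    (hψ : Function.Surjective ψ) [DRing.HasLBaseChange (algebraMap R (MvPolynomial (Fin n) R))]
    (Rψ : Dual.D (MvPolynomial (Fin n) R) ⥤ Dual.D A) (adj : DRing.restrictD ψ.toRingHom ⊣ Rψ)
    (q : PrimeSpectrum A) (d : ℕ)
    (hd : FlatMor.fibreDimAt (Spec.map (CommRingCat.ofHom (algebraMap R A))) q = d) (i : ℤ)
    (h : Nontrivial (LocalizedModule q.asIdeal.primeCompl
      (Dual.HD A (Dual2.shriekVia n Rψ (Dual.inD R R)) i))) : -(d : ℤ) ≤ i := by
  by_contra hlt
  push Not at hlt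
  letI algPA : Algebra (MvPolynomial (Fin n) R) A := ψ.toRingHom.toAlgebra
  haveI : Module.Finite (MvPolynomial (Fin n) R) A :=
    Module.Finite.of_surjective (Algebra.linearMap (MvPolynomial (Fin n) R) A) hψ
  let q' : Ideal (MvPolynomial (Fin n) R) := q.asIdeal.comap ψ.toRingHom
  haveI : q'.IsPrime := Ideal.comap_isPrime _ _
  obtain ⟨fs, hlen, hfsI, hreg⟩ := exists_regular_sequence R A n ψ hψ q d hd q' rfl
  have hj : (n : ℤ) + i < fs.length := by
    have : (fs.length : ℤ) + d = n := by exact_mod_cast hlen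
    lia
  have hIq' : RingHom.ker ψ.toRingHom ≤ q' := by
    intro x hx
    show ψ.toRingHom x ∈ q.asIdeal
    rw [(RingHom.mem_ker).1 hx]
    exact Ideal.zero_mem _
  have hM : ∀ x ∈ RingHom.ker ψ.toRingHom, ∀ m : A, x • m = 0 := by
    intro x hx m
    rw [Algebra.smul_def]
    show ψ.toRingHom x * m = 0
    rw [(RingHom.mem_ker).1 hx, zero_mul]
  have hvan := exists_smul_eq_zero_of_isWeaklyRegular q' (RingHom.ker ψ.toRingHom) hIq' A hM fs
    hfsI hreg ((n : ℤ) + i) hj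
  -- the semilinear bijection
  let Z : Dual.D (MvPolynomial (Fin n) R) :=
    (DRing.LBaseChange (algebraMap R (MvPolynomial (Fin n) R))).obj (Dual.inD R R)
  obtain ⟨eZ0⟩ := nonempty_lbc_inD_iso R (MvPolynomial (Fin n) R) R
  let isoZ : Z ≅ Dual.inD (MvPolynomial (Fin n) R) (MvPolynomial (Fin n) R) :=
    eZ0 ≪≫ (singleFunctor (ModuleCat.{u} (MvPolynomial (Fin n) R)) 0).mapIso
      (TensorProduct.AlgebraTensorModule.rid R (MvPolynomial (Fin n) R)
        (MvPolynomial (Fin n) R)).toModuleIso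
  letI : Rψ.CommShift ℤ := adj.rightAdjointCommShift ℤ
  let X : Dual.D A := Dual.inD A A
  let K : Dual.D A := Dual2.shriekVia n Rψ (Dual.inD R R)
  let iso2 : (DRing.restrictD (algebraMap (MvPolynomial (Fin n) R) A)).obj X ≅
      Dual.inD (MvPolynomial (Fin n) R) A :=
    restrictDSingleIso (algebraMap (MvPolynomial (Fin n) R) A) (ModuleCat.of A A) 0 ≪≫
      (singleFunctor (ModuleCat.{u} (MvPolynomial (Fin n) R)) 0).mapIso
        (restrictEquiv (MvPolynomial (Fin n) R) A A).toModuleIso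
  let iso1 : Rψ.obj (Z⟦(n : ℤ) + i⟧) ≅ K⟦i⟧ :=
    (Rψ.commShiftIso ((n : ℤ) + i)).app Z ≪≫
      (shiftFunctorAdd' (Dual.D A) (n : ℤ) i ((n : ℤ) + i) rfl).app (Rψ.obj Z)
  let L1 := Linear.homCongr (MvPolynomial (Fin n) R) iso2.symm
    ((shiftFunctor (Dual.D (MvPolynomial (Fin n) R)) ((n : ℤ) + i)).mapIso isoZ.symm)
  let L3 := Linear.homCongr A (Iso.refl X) iso1
  let Φ : (Dual.inD (MvPolynomial (Fin n) R) A ⟶
        (Dual.inD (MvPolynomial (Fin n) R) (MvPolynomial (Fin n) R))⟦(n : ℤ) + i⟧) ≃+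
      (X ⟶ K⟦i⟧) :=
    (L1.toAddEquiv.trans (adj.homAddEquiv X (Z⟦(n : ℤ) + i⟧))).trans L3.toAddEquiv
  have hΦ : ∀ (t : MvPolynomial (Fin n) R) (m : Dual.inD (MvPolynomial (Fin n) R) A ⟶
      (Dual.inD (MvPolynomial (Fin n) R) (MvPolynomial (Fin n) R))⟦(n : ℤ) + i⟧),
      Φ (t • m) = algebraMap (MvPolynomial (Fin n) R) A t • Φ m := by
    intro t m
    show L3 (adj.homEquiv X (Z⟦(n : ℤ) + i⟧) (L1 (t • m))) =
      algebraMap (MvPolynomial (Fin n) R) A t • L3 (adj.homEquiv X (Z⟦(n : ℤ) + i⟧) (L1 m))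
    rw [map_smul, homEquiv_smul, map_smul]
  obtain ⟨e⟩ := nonempty_homSelfEquiv K i
  -- contradiction
  apply (not_subsingleton_iff_nontrivial.2 h)
  rw [LocalizedModule.subsingleton_iff]
  intro x
  obtain ⟨s, hs, hsm⟩ := hvan (Φ.symm (e.symm x))
  refine ⟨algebraMap (MvPolynomial (Fin n) R) A s, fun hsq => hs hsq, ?_⟩
  have h1 : Φ (s • Φ.symm (e.symm x)) = 0 := by rw [hsm, map_zero]
  rw [hΦ, AddEquiv.apply_symm_apply] at h1
  have h2 := congrArg e h1
  rw [map_smul, LinearEquiv.apply_symm_apply, map_zero] at h2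
  exact h2

end Main

end Groth.Agent.Lib.T2H4.ShriekLow
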