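import Groth.Agent.Lib.T2H4DimFun5
import Groth.Agent.Lib.T2H4FlatHom5
import Groth.Agent.Lib.T2H4MvPoly
import Groth.Agent.Lib.T2H4FibGor4
import Groth.Agent.Lib.Helper14FTDim

/-!
# Normalization of `φ^!` of a normalized dualizing complex at closed points (helper4)
-/

set_option autoImplicit false
set_option linter.style.haveILetI false
set_option backward.isDefEq.respectTransparency.types false
universe u
open CategoryTheory CategoryTheory.Limits TensorProduct
attribute [local instance] HasDerivedCategory.standard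

namespace Groth.Agent.Lib.T2H4.ShriekNorm

open DerivedCategory Pretriangulated Groth.Agent.Lib.T2H4.DimFun Groth.Agent.Lib.T2H4.LocKL
  Groth.Agent.Lib.T2H4.FlatHom Groth.Agent.Lib.T2H4.FibGor Groth.Agent.Lib.Helper1.Restrict
  Groth.Agent.Lib.T2H4.DualField

section Chain

variable {B : Type u} [CommRing B] [IsNoetherianRing B] (ω : Dual.D B)
  (hω : Dual.IsDualizing B ω) (I : Ideal B)

/-- the closed embedding `Spec B/I → Spec B`. -/
noncomputable def ι (q : PrimeSpectrum (B ⧸ I)) : PrimeSpectrum B :=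
  ((Ideal.primeSpectrumQuotientOrderIsoZeroLocus I) q).1

omit [IsNoetherianRing B] in
lemma ι_asIdeal (q : PrimeSpectrum (B ⧸ I)) :
    (ι I q).asIdeal = q.asIdeal.comap (Ideal.Quotient.mk I) := rfl

omit [IsNoetherianRing B] in
lemma ι_covBy (q₁ q₂ : PrimeSpectrum (B ⧸ I)) (h : q₁ ⋖ q₂) : ι I q₁ ⋖ ι I q₂ := by
  let e := Ideal.primeSpectrumQuotientOrderIsoZeroLocus I
  refine ⟨?_, fun r hr1 hr2 => ?_⟩
  · exact (e.lt_iff_lt).2 h.lt
  · have hrI : r ∈ PrimeSpectrum.zeroLocus (I : Set B) := by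
      intro x hx
      exact hr1.le ((e q₁).2 hx)
    have h1 : q₁ < e.symm ⟨r, hrI⟩ := by
      rw [← e.lt_iff_lt, e.apply_symm_apply]
      exact hr1
    have h2 : e.symm ⟨r, hrI⟩ < q₂ := by
      rw [← e.lt_iff_lt, e.apply_symm_apply]
      exact hr2
    exact h.2 h1 h2

lemma height_lt_top' (q : PrimeSpectrum (B ⧸ I)) : Order.height q < ⊤ :=
  height_lt_top q

/-- along the closed subset `V(I)`, the index grows with the height in `B/I`. -/
theorem idx_ι_of_height (d : ℤ)
    (hd : ∀ q₀ : PrimeSpectrum (B ⧸ I), IsMin q₀ → idx ω hω (ι I q₀) = d) :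
    ∀ (j : ℕ) (q : PrimeSpectrum (B ⧸ I)), Order.height q = j → idx ω hω (ι I q) = d + j
  | 0 => by
    intro q hq
    have : IsMin q := Order.height_eq_zero.1 (by simpa using hq)
    simpa using hd q this
  | j + 1 => by
    intro q hq
    obtain ⟨-, ⟨y, hy, hyj⟩, hall⟩ := Order.height_eq_coe_add_one_iff.1
      (show Order.height q = (j : ℕ∞) + 1 by simpa using hq)
    have hcov : y ⋖ q := by
      refine ⟨hy, fun r hr1 hr2 => ?_⟩
      have h1 := Order.height_strictMono hr1 (height_lt_top' I y)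
      have h2 := hall r hr2
      rw [hyj] at h1
      exact absurd (lt_of_lt_of_le h1 h2) (lt_irrefl _)
    have h3 := idx_covBy ω hω _ _ (ι_covBy I y q hcov)
    have h4 := idx_ι_of_height d hd j y hyj
    push_cast
    lia

end Chain

section Maximal

variable {B : Type u} [CommRing B]

/-- at a maximal ideal `m`, vanishing of `Ext^i(B/m, ω)` at `m` is global vanishing. -/
lemma subsingleton_hom_of_van_maximal (ω : Dual.D B) (m : Ideal B) [hm : m.IsMaximal] (i : ℤ)
    (h : Van ω ⟨m, hm.isPrime⟩ (B ⧸ m) i) : Subsingleton (Dual.inD B (B ⧸ m) ⟶ ω⟦i⟧) := by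
  suffices hz : ∀ f : Dual.inD B (B ⧸ m) ⟶ ω⟦i⟧, f = 0 from
    ⟨fun f g => (hz f).trans (hz g).symm⟩
  intro f
  obtain ⟨s, hs, h0⟩ := h f
  obtain ⟨y, x, hx, hyx⟩ := Ideal.IsMaximal.exists_inv hm hs
  have hxf : x • f = 0 := by
    have h1 : x • 𝟙 (ModuleCat.of B (B ⧸ m)) = 0 := by
      ext
      change Ideal.Quotient.mk m (x * 1) = 0
      rw [Ideal.Quotient.eq_zero_iff_mem]
      exact m.mul_mem_right _ hx
    have h2 : x • f = (singleFunctor (ModuleCat.{u} B) 0).map
        (x • 𝟙 (ModuleCat.of B (B ⧸ m))) ≫ f := by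
      rw [singleFunctor_map_smul, CategoryTheory.Functor.map_id, Linear.smul_comp,
        Category.id_comp]
    rw [h2, h1, Functor.map_zero, zero_comp]
  calc f = (1 : B) • f := (one_smul _ _).symm
    _ = (y * s + x) • f := by rw [hyx]
    _ = y • (s • f) + x • f := by rw [add_smul, mul_smul]
    _ = 0 := by rw [h0, hxf, smul_zero, add_zero]

end Maximal

section Poly

variable (R : Type u) [CommRing R] [IsNoetherianRing R] [IsLocalRing R] (n : ℕ)

/-- the ideal `𝔪 R[x₁, …, xₙ]`. -/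
noncomputable abbrev mP : Ideal (MvPolynomial (Fin n) R) :=
  (IsLocalRing.maximalIdeal R).map (algebraMap R (MvPolynomial (Fin n) R))

/-- `R[x]/𝔪R[x] ≃ k[x]`. -/
noncomputable def quotEquiv : (MvPolynomial (Fin n) R ⧸ mP R n) ≃+*
    MvPolynomial (Fin n) (R ⧸ IsLocalRing.maximalIdeal R) :=
  (MvPolynomial.quotientEquivQuotientMvPolynomial (σ := Fin n)
    (IsLocalRing.maximalIdeal R)).symm.toRingEquiv

instance : IsDomain (MvPolynomial (Fin n) R ⧸ mP R n) :=
  MulEquiv.isDomain _ (quotEquiv R n).toMulEquiv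

instance mP_isPrime : (mP R n).IsPrime := (Ideal.Quotient.isDomain_iff_prime _).1 inferInstance

variable [DRing.HasLBaseChange (algebraMap R (MvPolynomial (Fin n) R))]
  (ω : Dual.D R) (hω : Dual.IsDualizing R ω) (hn : Dual.IsNormalized R ω)
  (hωP : Dual.IsDualizing (MvPolynomial (Fin n) R)
    ((DRing.LBaseChange (algebraMap R (MvPolynomial (Fin n) R))).obj ω))

include hω hn in
/-- the index of `𝔪R[x]` for `ω ⊗ R[x]` is `0`, for normalized `ω`. -/
theorem idx_mP : idx _ hωP ⟨mP R n, inferInstance⟩ = 0 := by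
  by_contra hne
  obtain ⟨a, b, hab⟩ := isZero_HD_of_isDualizing ω hω
  haveI : ω.IsGE a := (DerivedCategory.isGE_iff ω a).2 (fun i hi => hab i (Or.inl hi))
  have h0 := hn _ hne
  have h1 := subsingleton_hom_quot_map (MvPolynomial (Fin n) R) ω a (IsLocalRing.maximalIdeal R)
    _ h0
  exact (idx_spec _ hωP ⟨mP R n, inferInstance⟩ _).1 (van_of_subsingleton_hom _ _ _ h1) rfl

include hω hn in
/-- the index of a maximal ideal of `R[x₁, …, xₙ]` over `𝔪` is `n`. -/
theorem idx_maximal (m' : Ideal (MvPolynomial (Fin n) R)) [hm' : m'.IsMaximal]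
    (hle : mP R n ≤ m') : idx _ hωP ⟨m', hm'.isPrime⟩ = n := by
  let e := Ideal.primeSpectrumQuotientOrderIsoZeroLocus (mP R n)
  have hmem : (⟨m', hm'.isPrime⟩ : PrimeSpectrum (MvPolynomial (Fin n) R)) ∈
      PrimeSpectrum.zeroLocus (mP R n : Set (MvPolynomial (Fin n) R)) := hle
  let q : PrimeSpectrum (MvPolynomial (Fin n) R ⧸ mP R n) := e.symm ⟨⟨m', hm'.isPrime⟩, hmem⟩
  have hq : ι (mP R n) q = ⟨m', hm'.isPrime⟩ := congrArg Subtype.val (e.apply_symm_apply _)
  have hqa : q.asIdeal = m'.map (Ideal.Quotient.mk (mP R n)) := rfl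
  haveI hqmax : q.asIdeal.IsMaximal := by
    rcases Ideal.map_eq_top_or_isMaximal_of_surjective (Ideal.Quotient.mk (mP R n))
      Ideal.Quotient.mk_surjective hm' with h | h
    · exact absurd (hqa.trans h) q.2.ne_top
    · rw [hqa]; exact h
  have hht : Order.height q = n := by
    rw [← PrimeSpectrum.height_eq_orderHeight, ← RingEquiv.height_map (quotEquiv R n)]
    haveI : (Ideal.map (quotEquiv R n) q.asIdeal).IsMaximal :=
      Ideal.map_isMaximal_of_equiv (quotEquiv R n)
    letI : Field (R ⧸ IsLocalRing.maximalIdeal R) := Ideal.Quotient.field _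
    exact Groth.Agent.Lib.Helper14.FTDim.height_of_isMaximal n _
  have hd : ∀ q₀ : PrimeSpectrum (MvPolynomial (Fin n) R ⧸ mP R n), IsMin q₀ →
      idx _ hωP (ι (mP R n) q₀) = 0 := by
    intro q₀ hq₀
    have hbot : q₀ = ⟨⊥, Ideal.isPrime_bot⟩ := by
      have hle : (⟨⊥, Ideal.isPrime_bot⟩ : PrimeSpectrum (MvPolynomial (Fin n) R ⧸ mP R n)) ≤ q₀ :=
        bot_le (α := Ideal (MvPolynomial (Fin n) R ⧸ mP R n))
      exact le_antisymm (hq₀ hle) hle
    have h2 : ι (mP R n) q₀ = ⟨mP R n, inferInstance⟩ := by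
      apply PrimeSpectrum.ext
      rw [ι_asIdeal, hbot]
      show Ideal.comap (Ideal.Quotient.mk _) ⊥ = _
      rw [← RingHom.ker_eq_comap_bot, Ideal.mk_ker]
    rw [h2]
    exact idx_mP R n ω hω hn hωP
  have := idx_ι_of_height _ hωP (mP R n) 0 hd n q hht
  rw [hq] at this
  simpa using this

end Poly

end Groth.Agent.Lib.T2H4.ShriekNorm
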