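import Groth.Agent.Lib.T2H4ShriekNorm1

/-!
# Normalization of `φ^!` of a normalized dualizing complex at closed points, II (helper4)
-/

set_option autoImplicit false
set_option linter.style.haveILetI false
set_option backward.isDefEq.respectTransparency.types false
universe u
open CategoryTheory CategoryTheory.Limits TensorProduct
attribute [local instance] HasDerivedCategory.standard

namespace Groth.Agent.Lib.T2H4.ShriekNorm

open DerivedCategory Pretriangulated Groth.Agent.Lib.T2H4.DimFun Groth.Agent.Lib.T2H4.LocKL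
  Groth.Agent.Lib.T2H4.FlatHom Groth.Agent.Lib.T2H4.FibGor Groth.Agent.Lib.Helper1.Restrict
  Groth.Agent.Lib.T2H4.DualField

section Adj

variable {S F : Type u} [CommRing S] [CommRing F] (f : S →+* F)

/-- the adjunction bijection `Hom_S(N, Z[i]) = Hom_F(N, G(Z)[i])` for an `F`-module `N` and any
right adjoint `G` of restriction of scalars. -/
lemma nonempty_adj_equiv' (G : Dual.D S ⥤ Dual.D F) (adj : DRing.restrictD f ⊣ G)
    (N : ModuleCat.{u} F) (Z : Dual.D S) (i : ℤ) :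
    Nonempty (((DerivedCategory.singleFunctor (ModuleCat.{u} S) 0).obj
        ((ModuleCat.restrictScalars f).obj N) ⟶ Z⟦i⟧) ≃
      ((DerivedCategory.singleFunctor (ModuleCat.{u} F) 0).obj N ⟶ (G.obj Z)⟦i⟧)) := by
  letI : G.CommShift ℤ := adj.rightAdjointCommShift ℤ
  let X := (DerivedCategory.singleFunctor (ModuleCat.{u} F) 0).obj N
  let iso2 := restrictDSingleIso f N 0
  let iso1 : G.obj (Z⟦i⟧) ≅ (G.obj Z)⟦i⟧ := (G.commShiftIso i).app Z
  exact ⟨((Iso.homCongr iso2.symm (Iso.refl (Z⟦i⟧))).trans (adj.homEquiv X (Z⟦i⟧))).trans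
    (Iso.homCongr (Iso.refl X) iso1)⟩

/-- `S/f⁻¹(m) ≃ F/m` as `S`-modules, for surjective `f`. -/
noncomputable def quotComapEquiv (hf : Function.Surjective f) (m : Ideal F) :
    (S ⧸ m.comap f) ≃ₗ[S] ((ModuleCat.restrictScalars f).obj (ModuleCat.of F (F ⧸ m))) := by
  let g : S →ₗ[S] ((ModuleCat.restrictScalars f).obj (ModuleCat.of F (F ⧸ m))) :=
    { toFun := fun s => (Ideal.Quotient.mk m (f s) : F ⧸ m)
      map_add' := fun x y => by
        show Ideal.Quotient.mk m (f (x + y)) = Ideal.Quotient.mk m (f x) + Ideal.Quotient.mk m (f y)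
        rw [map_add, map_add]
      map_smul' := fun c x => by
        show Ideal.Quotient.mk m (f (c * x)) = f c • Ideal.Quotient.mk m (f x)
        rw [map_mul, map_mul]
        rfl }
  have hg : Function.Surjective g := by
    intro y
    obtain ⟨y, rfl⟩ := Ideal.Quotient.mk_surjective (show F ⧸ m from y)
    obtain ⟨x, rfl⟩ := hf y
    exact ⟨x, rfl⟩
  have hker : LinearMap.ker g = m.comap f := by
    ext x
    rw [LinearMap.mem_ker, Ideal.mem_comap]
    exact Ideal.Quotient.eq_zero_iff_mem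
  exact (Submodule.quotEquivOfEq _ _ hker).symm ≪≫ₗ g.quotKerEquivOfSurjective hg

/-- vanishing of `Ext_F(F/m, G(Z)[n][i])` from that of `Ext_S(S/f⁻¹m, Z[n+i])`. -/
lemma subsingleton_hom_shriek (hf : Function.Surjective f) (G : Dual.D S ⥤ Dual.D F)
    (adj : DRing.restrictD f ⊣ G) (m : Ideal F) (Z : Dual.D S) (n i : ℤ)
    (h : Subsingleton (Dual.inD S (S ⧸ m.comap f) ⟶ Z⟦n + i⟧)) :
    Subsingleton (Dual.inD F (F ⧸ m) ⟶ ((G.obj Z)⟦n⟧)⟦i⟧) := by
  obtain ⟨e⟩ := nonempty_adj_equiv' f G adj (ModuleCat.of F (F ⧸ m)) Z (n + i)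
  let τ : Dual.inD S (S ⧸ m.comap f) ≅ (DerivedCategory.singleFunctor (ModuleCat.{u} S) 0).obj
      ((ModuleCat.restrictScalars f).obj (ModuleCat.of F (F ⧸ m))) :=
    (DerivedCategory.singleFunctor (ModuleCat.{u} S) 0).mapIso
      (quotComapEquiv f hf m).toModuleIso
  let σ : ((G.obj Z)⟦n⟧)⟦i⟧ ≅ (G.obj Z)⟦n + i⟧ :=
    ((shiftFunctorAdd' (Dual.D F) n i (n + i) rfl).app (G.obj Z)).symm
  let E : (Dual.inD F (F ⧸ m) ⟶ ((G.obj Z)⟦n⟧)⟦i⟧) ≃ (Dual.inD S (S ⧸ m.comap f) ⟶ Z⟦n + i⟧) :=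
    ((Iso.homCongr (Iso.refl _) σ).trans e.symm).trans (Iso.homCongr τ.symm (Iso.refl _))
  exact E.subsingleton

end Adj

section Main

variable (R A : Type u) [CommRing R] [CommRing A] [IsNoetherianRing R] [IsNoetherianRing A]
  [Algebra R A]

/-- **S1789**. -/
theorem isNormalized_shriekVia_localization (n : ℕ) (ψ : MvPolynomial (Fin n) R →ₐ[R] A)
    (hψ : Function.Surjective ψ) [DRing.HasLBaseChange (algebraMap R (MvPolynomial (Fin n) R))]
    (Rψ : Dual.D (MvPolynomial (Fin n) R) ⥤ Dual.D A) (adj : DRing.restrictD ψ.toRingHom ⊣ Rψ)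
    [IsLocalRing R] (m : Ideal A) [hmax : m.IsMaximal]
    (hm : m.comap (algebraMap R A) = IsLocalRing.maximalIdeal R) (ω : Dual.D R)
    (hω : Dual.IsDualizing R ω) (hn : Dual.IsNormalized R ω)
    [DRing.HasLBaseChange (algebraMap A (Localization.AtPrime m))] :
    Dual.IsDualizing (Localization.AtPrime m)
        ((DRing.LBaseChange (algebraMap A (Localization.AtPrime m))).obj
          (Dual2.shriekVia n Rψ ω)) ∧
      Dual.IsNormalized (Localization.AtPrime m)
        ((DRing.LBaseChange (algebraMap A (Localization.AtPrime m))).obj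
          (Dual2.shriekVia n Rψ ω)) := by
  have hK : Dual.IsDualizing A (Dual2.shriekVia n Rψ ω) :=
    Groth.Agent.Lib.T2H4.MvPoly.isDualizing_shriekVia R A n ψ hψ Rψ adj ω hω
  refine ⟨isDualizing_lbc m.primeCompl (Localization.AtPrime m) _ hK, ?_⟩
  intro i hi
  have hωP := Groth.Agent.Lib.T2H4.MvPoly.isDualizing_lbc_mvPolynomial R ω hω n
  let m' : Ideal (MvPolynomial (Fin n) R) := m.comap ψ.toRingHom
  haveI hm' : m'.IsMaximal := Ideal.comap_isMaximal_of_surjective ψ.toRingHom hψ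
  have hle : mP R n ≤ m' := by
    rw [Ideal.map_le_iff_le_comap, Ideal.comap_comap]
    have hcomp : ψ.toRingHom.comp (algebraMap R (MvPolynomial (Fin n) R)) = algebraMap R A :=
      ψ.comp_algebraMap
    rw [hcomp, hm]
  have h1 := idx_maximal R n ω hω hn hωP m' hle
  have h2 : Van _ ⟨m', hm'.isPrime⟩ (MvPolynomial (Fin n) R ⧸ m') ((n : ℤ) + i) :=
    (idx_spec _ hωP ⟨m', hm'.isPrime⟩ ((n : ℤ) + i)).2 (by rw [h1]; lia)
  have h3 := subsingleton_hom_of_van_maximal _ m' ((n : ℤ) + i) h2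
  have h4 := subsingleton_hom_shriek ψ.toRingHom hψ Rψ adj m _ (n : ℤ) i h3
  have h5 : Van (Dual2.shriekVia n Rψ ω) ⟨m, hmax.isPrime⟩ (A ⧸ m) i :=
    van_of_subsingleton_hom _ _ _ h4
  exact (van_quot_iff _ hK ⟨m, hmax.isPrime⟩ i).1 h5

end Main

end Groth.Agent.Lib.T2H4.ShriekNorm
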