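import Groth.Agent.Lib.T2H4CMLocus2
import Groth.Agent.Lib.Helper5CodepthOpen

set_option autoImplicit false
set_option linter.style.haveILetI false
set_option backward.isDefEq.respectTransparency.types false
universe u
open CategoryTheory CategoryTheory.Limits
attribute [local instance] HasDerivedCategory.standard

namespace Groth.Agent.Lib.T2H4.SkOpen

open Groth.Agent.Lib.Helper5.CodepthOpen Groth.Agent.Lib.Helper5.GenDepth PrimeSpectrum

variable {A : Type u} [CommRing A] [IsNoetherianRing A]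

theorem cmu_of_dualizing (hA : ∃ ω : Dual.D A, Dual.IsDualizing A ω) : CMU A := by
  intro p hp
  obtain ⟨hopen, -⟩ := Groth.Agent.Lib.T2H4.CMLocus.isOpen_cm_locus_module hA (A ⧸ p)
  obtain ⟨ω, hω⟩ := hA
  have hmin : p ∈ (Module.annihilator A (A ⧸ p)).minimalPrimes := by
    rw [Ideal.annihilator_quotient]
    exact ⟨⟨hp, le_rfl⟩, fun q hq _ => hq.2⟩
  have hpU : (⟨p, hp⟩ : PrimeSpectrum A) ∈ {q : PrimeSpectrum A |
      Subsingleton (LocalizedModule q.asIdeal.primeCompl (A ⧸ p)) ∨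
      LocCoh.IsCohenMacaulayModule (Localization.AtPrime q.asIdeal)
        (LocalizedModule q.asIdeal.primeCompl (A ⧸ p))} :=
    Or.inr (Groth.Agent.Lib.T2H4.CMLocus.cm_of_minimal hω (A ⧸ p) ⟨p, hp⟩ hmin)
  obtain ⟨_, ⟨f, rfl⟩, hfp, hfU⟩ :=
    PrimeSpectrum.isTopologicalBasis_basic_opens.exists_subset_of_mem_open hpU hopen
  refine ⟨f, hfp, fun q hq hpq hfq => ?_⟩
  have hqU := hfU (show (⟨q, hq⟩ : PrimeSpectrum A) ∈ (PrimeSpectrum.basicOpen f : Set _) from hfq)
  rcases hqU with h | h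
  · exfalso
    have hs : (⟨q, hq⟩ : PrimeSpectrum A) ∈ Module.support A (A ⧸ p) :=
      mem_support_quotient p q hpq
    haveI := Module.mem_support_iff.1 hs
    exact not_subsingleton _ h
  · exact h

/-- **S18715**. -/
theorem isOpen_hasSkAt_of_dualizing (hA : ∃ ω : Dual.D A, Dual.IsDualizing A ω) (M : Type u)
    [AddCommGroup M] [Module A M] [Module.Finite A M] (k : ℕ) :
    IsOpen {p : PrimeSpectrum A | EGA4.HasSkAt k A M p.asIdeal} :=
  isOpen_hasSkAt k (genSk_of_cmu k (cmu_of_dualizing hA)) M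

end Groth.Agent.Lib.T2H4.SkOpen
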