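import Groth.Agent.Lib.T2H4ShriekLow1
import Groth.Agent.Lib.Helper5GorRing
import Groth.Agent.S9408

/-!
# Fibre local rings of smooth maps: dimension and Gorenstein property (helper4)
-/

set_option autoImplicit false
set_option linter.style.haveILetI false
universe u
open CategoryTheory AlgebraicGeometry TensorProduct

namespace Groth.Agent.Lib.T2H4.SmIdx

open Groth.Agent.Lib.Helper4.FibDim Groth.Agent.Lib.Helper14.LocalDim
  Groth.Agent.Lib.Helper3.SmDim

section FibreData

variable {A B : Type u} [CommRing A] [CommRing B] [Algebra A B]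

theorem smooth_of_smoothRelDim (n : ℕ) (hs : FlatCA.SmoothRelDim n A B) : Algebra.Smooth A B := by
  have h1 : Smooth (Spec.map (CommRingCat.ofHom (algebraMap A B))) := hs.smooth
  have h3 := (HasRingHomProperty.Spec_iff (P := @Smooth)).mp h1
  exact RingHom.smooth_algebraMap.mp h3

/-- the residue field of a prime of the fibre ring is the residue field of its contraction,
compatibly with the residue field of the base prime. -/
theorem trdeg_fiber_prime (p : Ideal A) [p.IsPrime] (q : Ideal B) [q.IsPrime]
    (hpq : p = q.comap (Algebra.ofId A B).toRingHom)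
    (Q : Ideal (p.Fiber B)) [Q.IsPrime]
    (hqQ : q = Q.comap (Algebra.TensorProduct.includeRight : B →ₐ[A] p.Fiber B).toRingHom)
    [alg' : Algebra p.ResidueField Q.ResidueField]
    [IsScalarTower A p.ResidueField Q.ResidueField] :
    @Algebra.trdeg p.ResidueField q.ResidueField _ _
      (Ideal.ResidueField.mapₐ p q (Algebra.ofId A B) hpq).toRingHom.toAlgebra =
    Algebra.trdeg p.ResidueField Q.ResidueField := by
  letI alg : Algebra p.ResidueField q.ResidueField :=
    (Ideal.ResidueField.mapₐ p q (Algebra.ofId A B) hpq).toRingHom.toAlgebra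
  have hsurj : (Algebra.TensorProduct.includeRight : B →ₐ[A] p.Fiber B).toRingHom.SurjectiveOnStalks :=
    RingHom.SurjectiveOnStalks.baseChange' (Ideal.surjectiveOnStalks_residueField p)
  have hbij := hsurj.residueFieldMap_bijective q Q hqQ
  let σ : q.ResidueField ≃+* Q.ResidueField := RingEquiv.ofBijective _ hbij
  have hcompat : ∀ x : p.ResidueField,
      σ (algebraMap p.ResidueField q.ResidueField x) = algebraMap p.ResidueField Q.ResidueField x := by
    intro x
    have h : (σ : q.ResidueField →+* Q.ResidueField).comp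
        (algebraMap p.ResidueField q.ResidueField) = algebraMap p.ResidueField Q.ResidueField := by
      apply Ideal.ResidueField.ringHom_ext
      ext a
      simp only [RingHom.coe_comp, Function.comp_apply, RingHom.coe_coe]
      have e1 : (algebraMap p.ResidueField q.ResidueField) ((algebraMap A p.ResidueField) a) =
          algebraMap B q.ResidueField (algebraMap A B a) :=
        Ideal.ResidueField.map_algebraMap p q _ hpq a
      rw [e1]
      have e2 : σ (algebraMap B q.ResidueField (algebraMap A B a)) =
          algebraMap (p.Fiber B) Q.ResidueField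
            ((Algebra.TensorProduct.includeRight : B →ₐ[A] p.Fiber B) (algebraMap A B a)) :=
        Ideal.ResidueField.map_algebraMap q Q _ hqQ _
      rw [e2, AlgHom.commutes, ← IsScalarTower.algebraMap_apply, ← IsScalarTower.algebraMap_apply]
    exact congrArg (fun f : p.ResidueField →+* Q.ResidueField => f x) h
  exact (AlgEquiv.ofRingEquiv (f := σ) hcompat).trdeg_eq

/-- the fibre local ring of a smooth map of relative dimension `n` at a prime with residue
transcendence degree `t` is Gorenstein of dimension `n - t`. -/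
theorem exists_fibre_data [IsNoetherianRing A] (n : ℕ) (hs : FlatCA.SmoothRelDim n A B)
    (q : Ideal B) [q.IsPrime] (t : ℕ)
    (ht : @Algebra.trdeg (q.comap (algebraMap A B)).ResidueField q.ResidueField _ _
      (Ideal.ResidueField.mapₐ (q.comap (algebraMap A B)) q (Algebra.ofId A B)
        rfl).toRingHom.toAlgebra = (t : Cardinal.{u})) :
    ∃ c : ℕ, c + t = n ∧ ringKrullDim (EGA4.FibLocRing A B q) = c ∧
      LocCoh.IsGorensteinLocalRing (EGA4.FibLocRing A B q) := by
  haveI hsm : Algebra.Smooth A B := smooth_of_smoothRelDim n hs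
  haveI : Algebra.FinitePresentation A B := inferInstance
  haveI : Algebra.FiniteType A B := inferInstance
  haveI : IsNoetherianRing B := Algebra.FiniteType.isNoetherianRing A B
  let qs : PrimeSpectrum B := ⟨q, inferInstance⟩
  set P := PrimeSpectrum.comap (algebraMap A B) qs with hP
  set Qs := PrimeSpectrum.preimageHomeomorphFiber A B P ⟨qs, rfl⟩ with hQs
  haveI : Qs.asIdeal.IsPrime := Qs.2
  haveI : SmoothOfRelativeDimension n (Spec.map (CommRingCat.ofHom (algebraMap A B))) := hs
  have h1 := fibreDimAt_eq_of_smoothOfRelativeDimension n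
    (Spec.map (CommRingCat.ofHom (algebraMap A B))) qs
  have h2 : fibLD (PrimeSpectrum.comap (algebraMap A B)) qs = (n : WithBot ℕ∞) :=
    (fibreDimAt_eq_fibLD (Spec.map (CommRingCat.ofHom (algebraMap A B))) qs).symm.trans h1
  rw [fibLD_comap_eq] at h2
  obtain ⟨a, e, ha, he, htr, he'⟩ := exists_dims (k := P.asIdeal.ResidueField) Qs.asIdeal
  have h3 := localDim_eq (k := P.asIdeal.ResidueField) Qs.asIdeal a e ha he he'
  have h4 : (⟨Qs.asIdeal, inferInstance⟩ : PrimeSpectrum (P.asIdeal.Fiber B)) = Qs := rfl
  rw [h4, h2] at h3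
  have hn : n = a + e := by exact_mod_cast h3
  have hqQ : q = Qs.asIdeal.comap
      (Algebra.TensorProduct.includeRight : B →ₐ[A] P.asIdeal.Fiber B).toRingHom := by
    have h5 := (PrimeSpectrum.preimageHomeomorphFiber A B P).symm_apply_apply ⟨qs, rfl⟩
    have h6 := congrArg (fun x => x.1.asIdeal) h5
    exact h6.symm
  have htr2 := trdeg_fiber_prime P.asIdeal q rfl Qs.asIdeal hqQ
    (alg' := IsLocalRing.ResidueField.algebra (R := Localization.AtPrime Qs.asIdeal)
      (R₀ := P.asIdeal.ResidueField))
  have het : e = t := by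
    have : ((e : ℕ) : Cardinal.{u}) = (t : Cardinal.{u}) :=
      htr.symm.trans (htr2.symm.trans ht)
    exact_mod_cast this
  obtain ⟨ε⟩ := Groth.Agent.Lib.Helper28.nonempty_localization_fiber_equiv P.asIdeal Qs.asIdeal q hqQ
  refine ⟨a, by lia, ?_, ?_⟩
  · rw [← ringKrullDim_eq_of_ringEquiv ε,
      IsLocalization.AtPrime.ringKrullDim_eq_height Qs.asIdeal (Localization.AtPrime Qs.asIdeal), ha]
    rfl
  · haveI : Algebra.Smooth P.asIdeal.ResidueField (P.asIdeal.Fiber B) := inferInstance
    haveI : IsRegularRing P.asIdeal.ResidueField := inferInstance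
    haveI : IsRegularRing (P.asIdeal.Fiber B) :=
      Groth.Agent.S9408.isRegularRing_of_smooth P.asIdeal.ResidueField (P.asIdeal.Fiber B)
    have hG := Groth.Agent.Lib.Helper5.GorRing.gorRing_of_isRegularRing (P.asIdeal.Fiber B)
    exact @Groth.Agent.Lib.Helper5.GorRing.gorLocal_of_ringEquiv _ _ _ _ ε
      (hG.isGorensteinLocalRing_localization Qs.asIdeal)

end FibreData

end Groth.Agent.Lib.T2H4.SmIdx
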