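import Groth.Agent.Lib.T2H4FibGor5

/-!
# The index of a flat base change of a dualizing complex at a prime with Gorenstein fibre (helper4)
-/

set_option autoImplicit false
set_option linter.style.haveILetI false
set_option backward.isDefEq.respectTransparency.types false
universe u
open CategoryTheory CategoryTheory.Limits TensorProduct
attribute [local instance] HasDerivedCategory.standard

namespace Groth.Agent.Lib.T2H4.SmIdx

open DerivedCategory Pretriangulated Groth.Agent.Lib.T2H4.LocKL
  Groth.Agent.Lib.T2H4.TorIndep Groth.Agent.Lib.T2H4.FlatHom Groth.Agent.Lib.T2H4.DComp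
  Groth.Agent.Lib.Helper1.Extend Groth.Agent.Lib.Helper1.Restrict Groth.Agent.Lib.T2H4.LocalDual
  Groth.Agent.Lib.T2H4.Uniq Groth.Agent.Lib.T2H4.GorOpen Groth.Agent.Lib.T2H4.DualField
  Groth.Agent.Lib.T2H4.DualFinite Groth.Agent.Lib.T2H4.FibGor

section Main

variable {A B : Type u} [CommRing A] [CommRing B] [IsNoetherianRing A]
  [Algebra A B] [Module.Flat A B]

/-- the index of `ω ⊗ B` at a prime `Q` with Gorenstein fibre local ring of dimension `c` is the
index of `ω` at the contraction plus `c`. -/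
theorem nontrivial_hom_residue_lbc (ω : Dual.D A) (hω : Dual.IsDualizing A ω)
    (Q : Ideal B) [Q.IsPrime]
    [DRing.HasLBaseChange (algebraMap A (Localization.AtPrime (Q.comap (algebraMap A B))))]
    [DRing.HasLBaseChange (algebraMap A (Localization.AtPrime Q))]
    (d : ℤ)
    (hd : Nontrivial (Dual.inD (Localization.AtPrime (Q.comap (algebraMap A B)))
        (Localization.AtPrime (Q.comap (algebraMap A B)) ⧸
          IsLocalRing.maximalIdeal (Localization.AtPrime (Q.comap (algebraMap A B)))) ⟶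
      ((DRing.LBaseChange (algebraMap A
        (Localization.AtPrime (Q.comap (algebraMap A B))))).obj ω)⟦d⟧))
    (c : ℕ) (hG : LocCoh.IsGorensteinLocalRing (EGA4.FibLocRing A B Q))
    (hdim : ringKrullDim (EGA4.FibLocRing A B Q) = c) :
    Nontrivial (Dual.inD (Localization.AtPrime Q)
        (Localization.AtPrime Q ⧸ IsLocalRing.maximalIdeal (Localization.AtPrime Q)) ⟶
      ((DRing.LBaseChange (algebraMap A (Localization.AtPrime Q))).obj ω)⟦d + (c : ℤ)⟧) := by
  let p : Ideal A := Q.comap (algebraMap A B)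
  haveI hlies : Q.LiesOver p := ⟨rfl⟩
  let R := Localization.AtPrime p
  let S := Localization.AtPrime Q
  letI alg : Algebra R S := Localization.AtPrime.algebraOfLiesOver p Q
  haveI hflatB : Module.Flat B S := IsLocalization.flat _ Q.primeCompl
  haveI hflatA : Module.Flat A S := Module.Flat.trans A B _
  haveI hflatR : Module.Flat A R := IsLocalization.flat _ p.primeCompl
  haveI hflat : Module.Flat R S :=
    (Module.flat_iff_of_isLocalization R p.primeCompl _).mpr hflatA
  haveI : IsNoetherianRing R := IsLocalization.isNoetherianRing p.primeCompl R inferInstance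
  have hmap : p.map (algebraMap A S) = (IsLocalRing.maximalIdeal R).map (algebraMap R S) := by
    rw [← IsLocalization.AtPrime.map_eq_maximalIdeal p R, Ideal.map_map,
      ← IsScalarTower.algebraMap_eq]
  haveI h2 : DRing.HasLBaseChange (algebraMap R S) := LDerExist.hasLBaseChange _
  let K : Dual.D R := (DRing.LBaseChange (algebraMap A R)).obj ω
  have hK : Dual.IsDualizing R K := isDualizing_lbc p.primeCompl R ω hω
  obtain ⟨i1⟩ := Groth.Agent.Lib.T2H4.TwoIdeal.nonempty_lbc_trans (algebraMap A R) (algebraMap R S)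
    (algebraMap A S) (IsScalarTower.algebraMap_eq A R S).symm ω
  obtain ⟨a, b, hab⟩ := hω.finite_injective_dimension
  have hKz : ∀ j : ℤ, j < a → IsZero ((homologyFunctor (ModuleCat.{u} A) j).obj ω) := by
    intro j hj
    have := (Groth.Agent.Lib.T2H4.HomRing.subsingleton_hom_inD_self_iff ω j).1
      (hab A j (Or.inl hj))
    exact ModuleCat.isZero_of_subsingleton _
  haveI : ω.IsGE a := (DerivedCategory.isGE_iff ω a).2 hKz
  haveI : K.IsGE a := Groth.Agent.Lib.T2H4.Shriek.isGE_lbc_of_flat A R ω a inferInstance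
  obtain ⟨d', hvan, ⟨θ⟩⟩ := ext_residueField_single_degree K hK (IsLocalRing.maximalIdeal R)
  have hdd : d = d' := by
    by_contra hne
    have := hvan d hne
    exact not_subsingleton _ this
  subst hdd
  -- the fibre ring
  let I : Ideal S := (IsLocalRing.maximalIdeal R).map (algebraMap R S)
  let e : (S ⧸ I) ≃+* EGA4.FibLocRing A B Q := Ideal.quotEquivOfEq hmap.symm
  haveI hGF : LocCoh.IsGorensteinLocalRing (S ⧸ I) :=
    Groth.Agent.Lib.Helper5.GorRing.gorLocal_of_ringEquiv e.symm
  have hdimF : ringKrullDim (S ⧸ I) = c := (ringKrullDim_eq_of_ringEquiv e).trans hdim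
  have hIJ : I ≤ IsLocalRing.maximalIdeal S := by
    have : IsLocalHom (algebraMap R S) := by
      rw [RingHom.algebraMap_toAlgebra]
      exact Localization.isLocalHom_localRingHom p Q (algebraMap A B) Ideal.LiesOver.over
    exact ((IsLocalRing.local_hom_TFAE (algebraMap R S)).out 0 2).1 this
  have hJ' : (IsLocalRing.maximalIdeal S).map (Ideal.Quotient.mkₐ S I) =
      IsLocalRing.maximalIdeal (S ⧸ I) := by
    have hsurj : Function.Surjective (Ideal.Quotient.mkₐ S I) := Ideal.Quotient.mkₐ_surjective S I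
    rcases Ideal.map_eq_top_or_isMaximal_of_surjective (Ideal.Quotient.mkₐ S I) hsurj
      (IsLocalRing.maximalIdeal.isMaximal S) with h | h
    · exfalso
      have h1 := Ideal.comap_map_of_surjective (Ideal.Quotient.mkₐ S I) hsurj
        (IsLocalRing.maximalIdeal S)
      rw [h, Ideal.comap_top] at h1
      have h2 : Ideal.comap (Ideal.Quotient.mkₐ S I) ⊥ = I := by
        ext x
        simp [Ideal.mem_comap, Ideal.Quotient.eq_zero_iff_mem]
      rw [h2, sup_eq_left.2 hIJ] at h1
      exact (IsLocalRing.maximalIdeal.isMaximal S).ne_top h1.symm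
    · exact IsLocalRing.eq_maximalIdeal h
  let F := S ⧸ I
  let N : ModuleCat.{u} F := ModuleCat.of F
    (F ⧸ (IsLocalRing.maximalIdeal S).map (Ideal.Quotient.mkₐ S I))
  have hext : Nontrivial (Abelian.Ext.{u} N (ModuleCat.of F F) c) := by
    show Nontrivial (Abelian.Ext.{u} (ModuleCat.of (S ⧸ I)
      ((S ⧸ I) ⧸ (IsLocalRing.maximalIdeal S).map (Ideal.Quotient.mkₐ S I)))
      (ModuleCat.of (S ⧸ I) (S ⧸ I)) c)
    rw [hJ']
    exact Groth.Agent.Lib.Helper29Gorenstein.ext_residue_nontrivial (S ⧸ I) c hdimF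
  let X := (DerivedCategory.singleFunctor (ModuleCat.{u} F) 0).obj N
  have h1 : Nontrivial (X ⟶ (Dual.inD F F)⟦(c : ℤ)⟧) :=
    (Abelian.Ext.homEquiv (X := N) (Y := ModuleCat.of F F) (n := c)).symm.nontrivial
  obtain ⟨ψ⟩ := nonempty_RG_lbc_iso_single S (IsLocalRing.maximalIdeal R) K a d hvan θ
  obtain ⟨eadj⟩ := nonempty_adj_equiv (algebraMap S F) N
    ((DRing.LBaseChange (algebraMap R S)).obj K) (d + (c : ℤ))
  let iso : ((RG (algebraMap S F)).obj ((DRing.LBaseChange (algebraMap R S)).obj K))⟦d + (c : ℤ)⟧ ≅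
      (Dual.inD F F)⟦(c : ℤ)⟧ :=
    (shiftFunctor (Dual.D F) (d + (c : ℤ))).mapIso
      (ψ ≪≫ (shiftSingleIso F (ModuleCat.of F F) (-d) d (by lia)).symm) ≪≫
      ((shiftFunctorAdd' (Dual.D F) (-d) (d + (c : ℤ)) (c : ℤ) (by lia)).app (Dual.inD F F)).symm
  have h2 : Nontrivial (X ⟶ ((RG (algebraMap S F)).obj
      ((DRing.LBaseChange (algebraMap R S)).obj K))⟦d + (c : ℤ)⟧) :=
    (Iso.homCongr (Iso.refl X) iso).nontrivial
  have h3 := eadj.nontrivial
  let eN : (S ⧸ IsLocalRing.maximalIdeal S) ≃ₗ[S]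
      ((ModuleCat.restrictScalars (algebraMap S F)).obj N) :=
    (DoubleQuot.quotQuotEquivQuotOfLEₐ S hIJ).symm.toLinearEquiv ≪≫ₗ
      (restrictEquiv S F (F ⧸ (IsLocalRing.maximalIdeal S).map (Ideal.Quotient.mkₐ S I))).symm
  let isoN : Dual.inD S (S ⧸ IsLocalRing.maximalIdeal S) ≅
      (DerivedCategory.singleFunctor (ModuleCat.{u} S) 0).obj
        ((ModuleCat.restrictScalars (algebraMap S F)).obj N) :=
    (DerivedCategory.singleFunctor (ModuleCat.{u} S) 0).mapIso eN.toModuleIso
  exact (Iso.homCongr isoN ((shiftFunctor (Dual.D S) (d + (c : ℤ))).mapIso i1.symm)).nontrivial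

end Main

end Groth.Agent.Lib.T2H4.SmIdx
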