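import Groth.Agent.Lib.T2H4TorsionBC3
import Groth.Agent.Lib.Helper1KF11
import Groth.Agent.Lib.Helper1KF12
import Groth.Agent.Lib.Helper1TorL
import Groth.Agent.Lib.Helper1TorN
import Groth.Agent.Lib.Helper1LT
import Groth.Agent.Lib.Helper1ProjRes
import Groth.Agent.Lib.Helper10DerComplete6
import Groth.Agent.Lib.T2H4DerNak
import Groth.Agent.Lib.Helper1TensPerf
import Groth.Agent.Lib.Helper1TorD

/-!
# Derived completion commutes with `- ⊗^L M` for finite `M` (helper4, T2H4)

* `LDC`: objects left orthogonal to the derived complete objects; `TensLike Θ`: the properties of an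
  additive endofunctor `Θ` of complexes (`M ⊗ -` termwise, or `- ⊗ F`) used in the dévissage.
* `ldc_of_cechX`, `isUniv_Q_Θ_of_PTBij`: if `i : P ⟶ Z` is a degreewise split monomorphism with
  `Q i` bijective on maps out of torsion complexes, then `Q (Θ i)` is universal among maps to
  derived complete complexes (as soon as `Θ` preserves acyclicity of the Čech complexes of the cokernel).
* `isDerivedComplete_TC_of_finite`: `M ⊗ P'` is derived complete for finite `M` over a Noetherian ring,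
  `P'` bounded above, termwise flat and derived complete.
* `core_mod`, `ltensor_completion_finite` (S7095).
-/

set_option autoImplicit false
universe u v w
open CategoryTheory CategoryTheory.Limits DerivedCategory Pretriangulated MonoidalCategory
attribute [local instance] HasDerivedCategory.standard

namespace Groth.Agent.Lib.T2H4.TensComp

open Groth.Agent.Lib.T2H4.DComp Groth.Agent.Lib.T2H4.GNoeth Groth.Agent.Lib.T2H4.Bousfield
  Groth.Agent.Lib.T2H4.TorsBC Groth.Agent.Lib.T2H4.TorsBC3 Groth.Agent.Lib.Helper1.KF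
  Groth.Agent.Lib.Helper10.DerComplete

section LDC

variable {A : Type u} [CommRing A]

/-- left orthogonal to the derived complete objects. -/
def LDC (I : Ideal A) (Z : Dual.D A) : Prop :=
  ∀ E : Dual.D A, DRing.IsDerivedComplete I E → ∀ g : Z ⟶ E, g = 0

lemma LDC.of_iso {I : Ideal A} {Z Z' : Dual.D A} (h : LDC I Z) (e : Z ≅ Z') : LDC I Z' := by
  intro E hE g
  have := h E hE (e.hom ≫ g)
  rw [← cancel_epi e.hom, this, comp_zero]

lemma LDC.shift {I : Ideal A} {Z : Dual.D A} (h : LDC I Z) (n : ℤ) : LDC I (Z⟦n⟧) := by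
  intro E hE g
  let e : (E⟦-n⟧)⟦n⟧ ≅ E := (shiftFunctorCompIsoId (Dual.D A) (-n) n (by simp)).app E
  obtain ⟨g', hg'⟩ := (CategoryTheory.shiftFunctor (Dual.D A) n).map_surjective (g ≫ e.inv)
  have h0 : g' = 0 := h _ (isDerivedComplete_shift I E (-n) hE) g'
  rw [h0, Functor.map_zero] at hg'
  rw [← cancel_mono e.inv, ← hg', zero_comp]

lemma LDC.of_shift {I : Ideal A} {Z : Dual.D A} (n : ℤ) (h : LDC I (Z⟦n⟧)) : LDC I Z :=
  (h.shift (-n)).of_iso ((shiftFunctorCompIsoId (Dual.D A) n (-n) (by simp)).app Z)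

lemma LDC.obj₂ {I : Ideal A} (T : Triangle (Dual.D A)) (hT : T ∈ distTriang _)
    (h₁ : LDC I T.obj₁) (h₃ : LDC I T.obj₃) : LDC I T.obj₂ := by
  intro E hE g
  obtain ⟨g', hg'⟩ := Triangle.yoneda_exact₂ T hT g (h₁ E hE _)
  rw [hg', h₃ E hE g', comp_zero]

lemma LDC.of_isZero {I : Ideal A} {Z : Dual.D A} (h : IsZero Z) : LDC I Z :=
  fun _ _ _ => h.eq_of_src _ _

lemma LDC.of_inv (I : Ideal A) (s : Finset A) (hs : Ideal.span (s : Set A) = I) {f : A}
    (hf : f ∈ s) {Z : Dual.D A} (h : DComp.Inv f Z) : LDC I Z := by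
  intro E hE g
  exact hom_eq_zero_of_inv_of_orth f h ((isDerivedComplete_iff_orth I s hs E).1 hE f hf) g

end LDC

section Theta

variable {A : Type u} [CommRing A]

/-- the properties of `- ⊗ F` on complexes used below. -/
structure TensLike (Θ : DRing.Cx A ⥤ DRing.Cx A) [Θ.Additive] : Prop where
  ses : ∀ (S : ShortComplex (DRing.Cx A)),
    (∀ n : ℤ, (S.map (HomologicalComplex.eval _ _ n)).Splitting) → S.ShortExact →
      (S.map Θ).ShortExact
  shift : ∀ (X : DRing.Cx A) (n : ℤ), Nonempty (Θ.obj (X⟦n⟧) ≅ (Θ.obj X)⟦n⟧)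
  smul : ∀ (f : A) (X : DRing.Cx A), Θ.map (f • 𝟙 X) = f • 𝟙 (Θ.obj X)

variable (Θ : DRing.Cx A ⥤ DRing.Cx A) [Θ.Additive] (hΘ : TensLike Θ)

include hΘ in
lemma inv_Q_Θ (f : A) (L : DRing.Cx A) (hL : IsIso (f • 𝟙 L)) :
    DComp.Inv f ((Q : _ ⥤ Dual.D A).obj (Θ.obj L)) := by
  have h2 : f • 𝟙 ((Q : _ ⥤ Dual.D A).obj (Θ.obj L)) = Q.map (Θ.map (f • 𝟙 L)) := by
    rw [hΘ.smul, Functor.map_smul, CategoryTheory.Functor.map_id]
  unfold DComp.Inv
  rw [h2]
  infer_instance

lemma isIso_smul_locCx (f : A) (Y : DRing.Cx A) :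
    IsIso (f • 𝟙 ((DerCA.locCx (Submonoid.powers f)).obj Y)) := by
  haveI : ∀ n, IsIso ((f • 𝟙 ((DerCA.locCx (Submonoid.powers f)).obj Y) :
      (DerCA.locCx (Submonoid.powers f)).obj Y ⟶ _).f n) := fun n => by
    rw [ConcreteCategory.isIso_iff_bijective]
    exact bijective_smul_loc f (Y.X n)
  exact HomologicalComplex.Hom.isIso_of_components _

include hΘ in
theorem ldc_of_cechX (I : Ideal A) (s : Finset A) (hs : Ideal.span (s : Set A) = I) :
    ∀ (fs : List A) (X : DRing.Cx A), (∀ f ∈ fs, f ∈ s) →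
      LDC I ((Q : _ ⥤ Dual.D A).obj (Θ.obj (cechX fs X))) →
      LDC I ((Q : _ ⥤ Dual.D A).obj (Θ.obj X))
  | [], _, _, h => h
  | f :: fs, X, hfs, h => by
    apply ldc_of_cechX I s hs fs X (fun g hg => hfs g (List.mem_cons_of_mem _ hg))
    let Y := cechX fs X
    let u := DerCA.locCxUnit (Submonoid.powers f) Y
    have h' : LDC I ((Q : _ ⥤ Dual.D A).obj (Θ.obj ((CochainComplex.mappingCone u)⟦(-1 : ℤ)⟧))) := h
    obtain ⟨e1⟩ := hΘ.shift (CochainComplex.mappingCone u) (-1)
    have h2 : LDC I (((Q : _ ⥤ Dual.D A).obj (Θ.obj (CochainComplex.mappingCone u)))⟦(-1 : ℤ)⟧) :=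
      h'.of_iso (Q.mapIso e1 ≪≫ ((Q : _ ⥤ Dual.D A).commShiftIso (-1 : ℤ)).app _)
    have h3 : LDC I ((Q : _ ⥤ Dual.D A).obj (Θ.obj (CochainComplex.mappingCone u))) := LDC.of_shift (-1) h2
    have hS := hΘ.ses (CochainComplex.mappingCone.triangleRotateShortComplex u)
      (fun n => CochainComplex.mappingCone.triangleRotateShortComplexSplitting u n)
      (coneSES_shortExact u)
    have hT := triangleOfSES_distinguished hS
    have hinv : DComp.Inv f ((Q : _ ⥤ Dual.D A).obj
        (Θ.obj ((DerCA.locCx (Submonoid.powers f)).obj Y))) :=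
      inv_Q_Θ Θ hΘ f _ (isIso_smul_locCx f Y)
    have hL : LDC I (((Q : _ ⥤ Dual.D A).obj
        (Θ.obj ((DerCA.locCx (Submonoid.powers f)).obj Y)))⟦(1 : ℤ)⟧) :=
      LDC.of_inv I s hs (hfs f List.mem_cons_self) (inv_shift hinv 1)
    have h4 : LDC I ((Q : _ ⥤ Dual.D A).obj (Θ.obj (Y⟦(1 : ℤ)⟧))) :=
      LDC.obj₂ _ (rot_of_distTriang _ hT) h3 hL
    obtain ⟨e2⟩ := hΘ.shift Y 1
    have h5 : LDC I (((Q : _ ⥤ Dual.D A).obj (Θ.obj Y))⟦(1 : ℤ)⟧) :=
      h4.of_iso (Q.mapIso e2 ≪≫ ((Q : _ ⥤ Dual.D A).commShiftIso (1 : ℤ)).app _)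
    exact LDC.of_shift 1 h5

include hΘ in
theorem isUniv_Q_Θ_of_PTBij (I : Ideal A) (s : Finset A) (hs : Ideal.span (s : Set A) = I)
    (S : ShortComplex (DRing.Cx A)) (hS : S.ShortExact)
    (σ : ∀ n : ℤ, (S.map (HomologicalComplex.eval _ _ n)).Splitting)
    (hpt : PTBij I ((Q : _ ⥤ Dual.D A).map S.f))
    (hacyc : ∀ fs : List A, IsZero ((Q : _ ⥤ Dual.D A).obj (cechX fs S.X₃)) →
      IsZero ((Q : _ ⥤ Dual.D A).obj (Θ.obj (cechX fs S.X₃)))) :
    IsUniv (DRing.IsDerivedComplete I) ((Q : _ ⥤ Dual.D A).map (Θ.map S.f)) := by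
  classical
  have hT := triangleOfSES_distinguished hS
  have hloc : ILocal I ((Q : _ ⥤ Dual.D A).obj S.X₃) := iLocal_of_PTBij I _ hT hpt
  let fs : List A := s.toList
  have hspan : Ideal.span {a : A | a ∈ fs} = I := by
    rw [← hs]
    congr 1
    ext a
    simp [fs]
  have hz := isZero_Q_cechX fs S.X₃ (by rw [hspan]; exact hloc)
  have hz' := hacyc fs hz
  have h3 : LDC I ((Q : _ ⥤ Dual.D A).obj (Θ.obj S.X₃)) :=
    ldc_of_cechX Θ hΘ I s hs fs S.X₃ (fun f hf => Finset.mem_toList.1 hf) (LDC.of_isZero hz')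
  have hS' := hΘ.ses S σ hS
  have hT' := triangleOfSES_distinguished hS'
  have hT'' := inv_rot_of_distTriang _ hT'
  exact isUniv_of_distTriang _ hT'' (fun M hM g => (h3.shift (-1)) M hM g)
    (fun M hM g => ((h3.shift (-1)).shift 1) M hM g)

end Theta

section Instances

variable {A : Type u} [CommRing A]

open Groth.Agent.Lib.Helper1.Tor

lemma tensLike_tensorRight (F : DRing.Cx A) : TensLike (tensorRight F) where
  ses S σ _ := tensorRight_shortExact_of_splitting F S σ
  shift X n := ⟨tensorShiftLeftIso X F n⟩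
  smul f X := by
    show (f • 𝟙 X) ▷ F = f • 𝟙 (X ⊗ F)
    refine HomologicalComplex.hom_ext _ _ (fun n => ?_)
    apply tensor_hom_ext
    intro p q hpq
    rw [ι_whiskerRight]
    simp only [HomologicalComplex.smul_f_apply, HomologicalComplex.id_f,
      MonoidalLinear.smul_whiskerRight, id_whiskerRight, Linear.smul_comp, Category.id_comp,
      Linear.comp_smul]
    exact (congrArg (f • ·) (Category.comp_id _)).symm

lemma tensLike_TC (M : ModuleCat.{u} A) : TensLike (TC M) where
  ses S σ _ := by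
    apply HomologicalComplex.shortExact_of_degreewise_shortExact
    intro n
    exact ((σ n).map (tensorLeft M)).shortExact
  shift X n := ⟨((TC M).commShiftIso n).app X⟩
  smul f X := by
    refine HomologicalComplex.hom_ext _ _ (fun n => ?_)
    simp

end Instances

section AMod

variable {A : Type u} [CommRing A]

open Groth.Agent.Lib.Helper1.Tor Groth.Agent.Lib.Helper1.TorM Groth.Agent.Lib.T2H4.DerNak
  Groth.Agent.Lib.Helper1.TensPerf

lemma isDerivedComplete_of_isZero (I : Ideal A) {Z : Dual.D A} (hZ : IsZero Z) :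
    DRing.IsDerivedComplete I Z := by
  intro f hf n
  have : IsZero (Z⟦n⟧) := (CategoryTheory.shiftFunctor (Dual.D A) n).map_isZero hZ
  exact ⟨fun a b => this.eq_of_tgt a b⟩

lemma isDerivedComplete_obj₂ (I : Ideal A) (s : Finset A) (hs : Ideal.span (s : Set A) = I)
    (T : Triangle (Dual.D A)) (hT : T ∈ distTriang _) (h₁ : DRing.IsDerivedComplete I T.obj₁)
    (h₃ : DRing.IsDerivedComplete I T.obj₃) : DRing.IsDerivedComplete I T.obj₂ := by
  have hT' := inv_rot_of_distTriang _ hT
  exact isDerivedComplete_obj₃ I s hs _ hT' (isDerivedComplete_shift I _ (-1) h₃) h₁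

variable (I : Ideal A) (P' : DRing.Cx A)

/-- `N ⊗ P'` is derived complete. -/
def DCT (N : ModuleCat.{u} A) : Prop :=
  DRing.IsDerivedComplete I ((Q : _ ⥤ Dual.D A).obj ((TC N).obj P'))

variable {I P'}

lemma DCT.of_iso {N N' : ModuleCat.{u} A} (h : DCT I P' N) (e : N ≅ N') : DCT I P' N' :=
  isDerivedComplete_of_iso I (Q.mapIso ((TCiso e).app P')) h

lemma DCT.unit (hc : DRing.IsDerivedComplete I ((Q : _ ⥤ Dual.D A).obj P')) :
    DCT I P' (ModuleCat.of A A) :=
  isDerivedComplete_of_iso I (Q.mapIso (TCunitIso P').symm) hc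

lemma isZero_TC_of_subsingleton (N : ModuleCat.{u} A) [Subsingleton N] (P' : DRing.Cx A) :
    IsZero ((TC N).obj P') := by
  rw [IsZero.iff_id_eq_zero]
  refine HomologicalComplex.hom_ext _ _ (fun n => ?_)
  exact (isZero_tensorObj_of_isZero_left (ModuleCat.isZero_of_subsingleton N)).eq_of_src _ _

lemma DCT.of_subsingleton (N : ModuleCat.{u} A) [Subsingleton N] : DCT I P' N :=
  isDerivedComplete_of_isZero I (Q.map_isZero (isZero_TC_of_subsingleton N P'))

lemma DCT.prod (s : Finset A) (hs : Ideal.span (s : Set A) = I) (hflat : DRing.TermwiseFlat P')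
    {N₁ N₂ : ModuleCat.{u} A} (h₁ : DCT I P' N₁) (h₂ : DCT I P' N₂) :
    DCT I P' (ModuleCat.of A (N₁ × N₂)) := by
  let S : ShortComplex (ModuleCat.{u} A) :=
    ShortComplex.mk (ModuleCat.ofHom (LinearMap.inl A N₁ N₂))
      (ModuleCat.ofHom (LinearMap.snd A N₁ N₂)) (by
        apply ModuleCat.hom_ext
        apply LinearMap.ext
        intro x
        rfl)
  have hS : S.ShortExact := by
    have hex : S.Exact := by
      rw [ShortComplex.ShortExact.moduleCat_exact_iff_function_exact]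
      exact Function.Exact.inl_snd
    exact
      { exact := hex
        mono_f := (ModuleCat.mono_iff_injective _).2 LinearMap.inl_injective
        epi_g := (ModuleCat.epi_iff_surjective _).2 LinearMap.snd_surjective }
  have hT := triangleOfSES_distinguished (TCshort_shortExact S hS P' hflat)
  exact isDerivedComplete_obj₂ I s hs _ hT h₁ h₂

theorem DCT.pi (s : Finset A) (hs : Ideal.span (s : Set A) = I) (hflat : DRing.TermwiseFlat P')
    (hc : DRing.IsDerivedComplete I ((Q : _ ⥤ Dual.D A).obj P')) (ι : Type u) [Finite ι] :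
    DCT I P' (ModuleCat.of A (ι → A)) := by
  refine Finite.induction_empty_option
    (P := fun ι : Type u => DCT I P' (ModuleCat.of A (ι → A))) ?_ ?_ ?_ ι
  · intro α β e h
    exact h.of_iso (LinearEquiv.toModuleIso (LinearEquiv.funCongrLeft A A e.symm))
  · exact DCT.of_subsingleton _
  · intro α _ h
    have e : (A × (α → A)) ≃ₗ[A] (Option α → A) :=
      (LinearEquiv.piOptionEquivProd (ι := α) (M := fun _ => A) A).symm
    exact (DCT.prod s hs hflat (DCT.unit hc) h).of_iso (LinearEquiv.toModuleIso e)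

theorem DCT.of_finite_free (s : Finset A) (hs : Ideal.span (s : Set A) = I)
    (hflat : DRing.TermwiseFlat P')
    (hc : DRing.IsDerivedComplete I ((Q : _ ⥤ Dual.D A).obj P'))
    (N : ModuleCat.{u} A) [Module.Finite A N] [Module.Free A N] : DCT I P' N :=
  (DCT.pi s hs hflat hc (Module.Free.ChooseBasisIndex A N)).of_iso
    (LinearEquiv.toModuleIso (Module.Free.chooseBasis A N).equivFun.symm)

end AMod

section AModMain

variable {A : Type u} [CommRing A] [IsNoetherianRing A]

open Groth.Agent.Lib.Helper1.Tor Groth.Agent.Lib.Helper1.TorM Groth.Agent.Lib.T2H4.DerNak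
  Groth.Agent.Lib.Helper1.TensPerf

theorem V_TC_of_finite (I : Ideal A) (s : Finset A) (hs : Ideal.span (s : Set A) = I)
    (P' : DRing.Cx A) (b : ℤ) (hb : DRing.VanishesAbove P' b) (hflat : DRing.TermwiseFlat P')
    (hc : DRing.IsDerivedComplete I ((Q : _ ⥤ Dual.D A).obj P')) (f : A) (hf : f ∈ I) (k : ℕ) :
    ∀ (M : Type u) [AddCommGroup M] [Module A M] [Module.Finite A M] (n : ℤ), b + 1 < n + k →
      V f (((Q : _ ⥤ Dual.D A).obj ((TC (ModuleCat.of A M)).obj P'))⟦n⟧) := by
  induction k with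
  | zero =>
    intro M _ _ _ n hn
    haveI h1 : ((TC (ModuleCat.of A M)).obj P').IsStrictlyLE b := by
      rw [CochainComplex.isStrictlyLE_iff]
      intro i hi
      exact isZero_tensorObj_of_isZero_right (hb i hi)
    haveI h2 : ((Q : _ ⥤ Dual.D A).obj ((TC (ModuleCat.of A M)).obj P')).IsLE b := inferInstance
    haveI h3 : (((Q : _ ⥤ Dual.D A).obj ((TC (ModuleCat.of A M)).obj P'))⟦n⟧).IsLE (b - n) :=
      DerivedCategory.TStructure.t.isLE_shift _ b n (b - n) (by ring)
    haveI h4 : (((Q : _ ⥤ Dual.D A).obj ((TC (ModuleCat.of A M)).obj P'))⟦n⟧).IsLE (-2) :=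
      DerivedCategory.TStructure.t.isLE_of_le _ (b - n) (-2) (by push_cast at hn; omega)
    exact V_of_isLE f _
  | succ k ih =>
    intro M _ _ _ n hn
    obtain ⟨r, π, hπ⟩ := Module.Finite.exists_fin' A M
    let S : ShortComplex (ModuleCat.{u} A) :=
      ShortComplex.mk (ModuleCat.ofHom (LinearMap.ker π).subtype) (ModuleCat.ofHom π) (by
        apply ModuleCat.hom_ext
        apply LinearMap.ext
        intro x
        exact x.2)
    have hS : S.ShortExact := by
      have hex : S.Exact := by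
        rw [ShortComplex.ShortExact.moduleCat_exact_iff_function_exact]
        exact LinearMap.exact_subtype_ker_map π
      exact
        { exact := hex
          mono_f := (ModuleCat.mono_iff_injective _).2 (Submodule.injective_subtype _)
          epi_g := (ModuleCat.epi_iff_surjective _).2 hπ }
    have hT := triangleOfSES_distinguished (TCshort_shortExact S hS P' hflat)
    have hT2 := Triangle.shift_distinguished _ (rot_of_distTriang _ hT) n
    apply V_of_triangle f _ hT2
    · have hdc : DCT I P' (ModuleCat.of A (Fin r → A)) := DCT.of_finite_free s hs hflat hc _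
      exact (isDerivedComplete_iff_V I _).1 hdc f hf n
    · have h5 := ih (LinearMap.ker π) (n + 1) (by push_cast at hn ⊢; omega)
      exact h5.of_iso ((shiftFunctorAdd' (Dual.D A) 1 n (n + 1) (by ring)).app _)

theorem isDerivedComplete_TC_of_finite (I : Ideal A) (s : Finset A)
    (hs : Ideal.span (s : Set A) = I)
    (P' : DRing.Cx A) (b : ℤ) (hb : DRing.VanishesAbove P' b) (hflat : DRing.TermwiseFlat P')
    (hc : DRing.IsDerivedComplete I ((Q : _ ⥤ Dual.D A).obj P'))
    (M : Type u) [AddCommGroup M] [Module A M] [Module.Finite A M] :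
    DRing.IsDerivedComplete I ((Q : _ ⥤ Dual.D A).obj ((TC (ModuleCat.of A M)).obj P')) := by
  rw [isDerivedComplete_iff_V]
  intro f hf n
  obtain ⟨k, hk⟩ : ∃ k : ℕ, b + 1 < n + k := ⟨(b + 2 - n).toNat, by omega⟩
  exact V_TC_of_finite I s hs P' b hb hflat hc f hf k M n hk

end AModMain

section BMod

variable {A : Type u} [CommRing A]

open Groth.Agent.Lib.Helper1.Tor Groth.Agent.Lib.Helper1.TorM

lemma termwiseFlat_locCx (f : A) (Y : DRing.Cx A) (hY : DRing.TermwiseFlat Y) :
    DRing.TermwiseFlat ((DerCA.locCx (Submonoid.powers f)).obj Y) := by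
  intro n
  have := hY n
  have : Module.Flat (Localization (Submonoid.powers f))
      (LocalizedModule (Submonoid.powers f) (Y.X n)) := inferInstance
  exact Module.Flat.trans A (Localization (Submonoid.powers f))
    (LocalizedModule (Submonoid.powers f) (Y.X n))

lemma vanishesAbove_locCx (f : A) (Y : DRing.Cx A) (b : ℤ) (hY : DRing.VanishesAbove Y b) :
    DRing.VanishesAbove ((DerCA.locCx (Submonoid.powers f)).obj Y) b := by
  intro n hn
  exact (DerCA.locFunctor (Submonoid.powers f)).map_isZero (hY n hn)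

lemma termwiseFlat_cechX : ∀ (fs : List A) (X : DRing.Cx A), DRing.TermwiseFlat X →
    DRing.TermwiseFlat (cechX fs X)
  | [], _, h => h
  | f :: fs, X, h => by
    have h1 := termwiseFlat_cechX fs X h
    have h2 := termwiseFlat_mappingCone (DerCA.locCxUnit (Submonoid.powers f) (cechX fs X)) h1
      (termwiseFlat_locCx f _ h1)
    intro n
    exact h2 (n + (-1))

lemma vanishesAbove_cechX : ∀ (fs : List A) (X : DRing.Cx A) (b : ℤ), DRing.VanishesAbove X b →
    DRing.VanishesAbove (cechX fs X) (b + fs.length)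
  | [], X, b, h => by
    intro n hn
    exact h n (by simpa using hn)
  | f :: fs, X, b, h => by
    have h1 := vanishesAbove_cechX fs X b h
    have h2 := vanishesAbove_mappingCone (DerCA.locCxUnit (Submonoid.powers f) (cechX fs X)) _ _ h1
      (vanishesAbove_locCx f _ _ h1)
    intro n hn
    exact h2 (n + (-1)) (by simp only [List.length_cons, Nat.cast_add, Nat.cast_one, max_self] at hn ⊢; omega)

lemma isZero_Q_TC_cechX (M : ModuleCat.{u} A) (N : DRing.Cx A) (b : ℤ)
    (hb : DRing.VanishesAbove N b) (hflat : DRing.TermwiseFlat N) (fs : List A)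
    (hz : IsZero ((Q : _ ⥤ Dual.D A).obj (cechX fs N))) :
    IsZero ((Q : _ ⥤ Dual.D A).obj ((TC M).obj (cechX fs N))) := by
  apply isZero_Q_of_exactAt
  intro j
  exact exactAt_TC_of_flat _ _ (vanishesAbove_cechX fs N b hb) (termwiseFlat_cechX fs N hflat)
    (j - 1) (fun k _ => exactAt_of_isZero_Q _ hz k) M j (by omega)

end BMod

section Cyl

variable {A : Type u} [CommRing A] {K L : DRing.Cx A} (a : K ⟶ L)

open Groth.Agent.Lib.Helper1.Tor

/-- the cylinder short complex `K ⟶ cyl K L ⟶ coker`. -/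
noncomputable def cylS : ShortComplex (DRing.Cx A) :=
  ShortComplex.mk (cylι a) (cokernel.π (cylι a)) (cokernel.condition _)

lemma cylS_shortExact : (cylS a).ShortExact :=
  { exact := ShortComplex.exact_cokernel _
    mono_f := mono_cylι a
    epi_g := inferInstanceAs (Epi (cokernel.π (cylι a))) }

/-- the cylinder short complex is degreewise split. -/
noncomputable def cylSSplitting (n : ℤ) :
    ((cylS a).map (HomologicalComplex.eval _ _ n)).Splitting := by
  have hS := cylS_shortExact a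
  have := hS.mono_f
  have := hS.epi_g
  have hn : ((cylS a).map (HomologicalComplex.eval _ _ n)).ShortExact :=
    hS.map_of_exact (HomologicalComplex.eval _ _ n)
  refine ShortComplex.Splitting.ofExactOfRetraction _ hn.exact
    ((biprod.snd : cyl K L ⟶ CochainComplex.mappingCone (𝟙 K)).f n ≫
      (CochainComplex.mappingCone.snd (𝟙 K)).v n n (add_zero n)) ?_ hn.epi_g
  show (cylι a).f n ≫ (biprod.snd : cyl K L ⟶ CochainComplex.mappingCone (𝟙 K)).f n ≫
      (CochainComplex.mappingCone.snd (𝟙 K)).v n n (add_zero n) = 𝟙 _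
  rw [← Category.assoc, ← HomologicalComplex.comp_f]
  have h1 : cylι a ≫ (biprod.snd : cyl K L ⟶ CochainComplex.mappingCone (𝟙 K)) =
      CochainComplex.mappingCone.inr (𝟙 K) := biprod.lift_snd _ _
  rw [h1]
  exact CochainComplex.mappingCone.inr_f_snd_v (𝟙 K) n

lemma termwiseFlat_cyl (hK : DRing.TermwiseFlat K) (hL : DRing.TermwiseFlat L) :
    DRing.TermwiseFlat (cyl K L) := by
  intro n
  have := hL n
  have := termwiseFlat_mappingCone (𝟙 K) hK hK n
  exact Module.Flat.of_linearEquiv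
    (HomologicalComplex.biprodXIso L (CochainComplex.mappingCone (𝟙 K)) n).toLinearEquiv

lemma vanishesAbove_cyl (b : ℤ) (hK : DRing.VanishesAbove K b) (hL : DRing.VanishesAbove L b) :
    DRing.VanishesAbove (cyl K L) b := by
  intro n hn
  have h1 := hL n hn
  have h2 := vanishesAbove_mappingCone (𝟙 K) b b hK hK n (by simpa using hn)
  refine IsZero.of_iso ?_ (HomologicalComplex.biprodXIso L (CochainComplex.mappingCone (𝟙 K)) n)
  rw [IsZero.iff_id_eq_zero]
  apply biprod.hom_ext
  · exact h1.eq_of_tgt _ _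
  · exact h2.eq_of_tgt _ _

lemma termwiseFlat_cylS_X₃ (hK : DRing.TermwiseFlat K) (hL : DRing.TermwiseFlat L) :
    DRing.TermwiseFlat (cylS a).X₃ := by
  intro n
  have hfl : Module.Flat A ((cyl K L).X n) := termwiseFlat_cyl (K := K) (L := L) hK hL n
  let σ := cylSSplitting a n
  exact Module.Flat.of_retract (f := hfl) σ.s.hom ((cokernel.π (cylι a)).f n).hom (by
    have := σ.s_g
    exact congrArg ModuleCat.Hom.hom this)

lemma vanishesAbove_cylS_X₃ (b : ℤ) (hK : DRing.VanishesAbove K b)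
    (hL : DRing.VanishesAbove L b) : DRing.VanishesAbove (cylS a).X₃ b := by
  intro n hn
  have h1 := vanishesAbove_cyl (K := K) (L := L) b hK hL n hn
  let σ := cylSSplitting a n
  rw [IsZero.iff_id_eq_zero]
  have h2 : σ.s = 0 := h1.eq_of_tgt _ _
  have h3 := σ.s_g
  rw [h2, zero_comp] at h3
  exact h3.symm

end Cyl

section CoreMod

variable {A : Type u} [CommRing A] [IsNoetherianRing A]

open Groth.Agent.Lib.Helper1.Tor Groth.Agent.Lib.Helper1.TorM

/-- the chain-level statement for `M ⊗ -`, `M` a finite module. -/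
theorem core_mod (I : Ideal A) (s : Finset A) (hs : Ideal.span (s : Set A) = I) (b : ℤ)
    (P P₀ : DRing.Cx A) (a₀ : P ⟶ P₀)
    (hPb : DRing.VanishesAbove P b) (hPf : DRing.TermwiseFlat P)
    (hP₀b : DRing.VanishesAbove P₀ b) (hP₀f : DRing.TermwiseFlat P₀)
    (hc : DRing.IsDerivedComplete I ((Q : _ ⥤ Dual.D A).obj P₀))
    (hpt : PTBij I ((Q : _ ⥤ Dual.D A).map a₀))
    (M : Type u) [AddCommGroup M] [Module A M] [Module.Finite A M] :
    DRing.IsDerivedComplete I ((Q : _ ⥤ Dual.D A).obj ((TC (ModuleCat.of A M)).obj P₀)) ∧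
      IsUniv (DRing.IsDerivedComplete I)
        ((Q : _ ⥤ Dual.D A).map ((TC (ModuleCat.of A M)).map a₀)) := by
  refine ⟨isDerivedComplete_TC_of_finite I s hs P₀ b hP₀b hP₀f hc M, ?_⟩
  have hfst : QuasiIso (biprod.fst : cyl P P₀ ⟶ P₀) := quasiIso_cyl_fst P P₀
  have hfstQ : IsIso ((Q : _ ⥤ Dual.D A).map (biprod.fst : cyl P P₀ ⟶ P₀)) :=
    (DerivedCategory.isIso_Q_map_iff_quasiIso (φ := (biprod.fst : cyl P P₀ ⟶ P₀))).2 hfst
  have hpt' : PTBij I ((Q : _ ⥤ Dual.D A).map (cylι a₀)) := by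
    have h1 : (Q : _ ⥤ Dual.D A).map (cylι a₀) =
        Q.map a₀ ≫ inv (Q.map (biprod.fst : cyl P P₀ ⟶ P₀)) := by
      have h0 : (Q : _ ⥤ Dual.D A).map (cylι a₀) ≫ Q.map (biprod.fst : cyl P P₀ ⟶ P₀) =
          Q.map a₀ := by
        rw [← Functor.map_comp, cylι_fst]
      rw [← h0, Category.assoc, IsIso.hom_inv_id, Category.comp_id]
    rw [h1]
    exact hpt.comp (PTBij.of_isIso _)
  have hU : IsUniv (DRing.IsDerivedComplete I)
      ((Q : _ ⥤ Dual.D A).map ((TC (ModuleCat.of A M)).map (cylS a₀).f)) :=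
    isUniv_Q_Θ_of_PTBij (TC (ModuleCat.of A M)) (tensLike_TC _) I s hs (cylS a₀)
      (cylS_shortExact a₀) (cylSSplitting a₀) hpt'
      (fun fs hz => isZero_Q_TC_cechX _ _ b (vanishesAbove_cylS_X₃ a₀ b hPb hP₀b)
        (termwiseFlat_cylS_X₃ a₀ hPf hP₀f) fs hz)
  have hiso : IsIso ((Q : _ ⥤ Dual.D A).map
      ((TC (ModuleCat.of A M)).map (biprod.fst : cyl P P₀ ⟶ P₀))) :=
    isIso_Q_map_TC _ b b (vanishesAbove_cyl b hPb hP₀b) hP₀b (termwiseFlat_cyl hPf hP₀f) hP₀f
      hfstQ _
  have h2 : (Q : _ ⥤ Dual.D A).map ((TC (ModuleCat.of A M)).map a₀) =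
      Q.map ((TC (ModuleCat.of A M)).map (cylι a₀)) ≫
        Q.map ((TC (ModuleCat.of A M)).map (biprod.fst : cyl P P₀ ⟶ P₀)) := by
    rw [← Functor.map_comp, ← Functor.map_comp, cylι_fst]
  rw [h2]
  exact hU.of_iso (@asIso _ _ _ _ _ hiso)

end CoreMod

section S7095

variable {A : Type u} [CommRing A] [IsNoetherianRing A]

open Groth.Agent.Lib.Helper1.Tor Groth.Agent.Lib.Helper1.TorM Groth.Agent.Lib.Helper1.LDer
  Groth.Agent.Lib.Helper1.DT Groth.Agent.Lib.Helper1.ProjRes

omit [IsNoetherianRing A] in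
lemma flat_of_projective_cat (X : ModuleCat.{u} A) [Projective X] : Module.Flat A X := by
  have hp : Module.Projective A X := X.projective_of_module_projective
  infer_instance

theorem ltensor_completion_finite (I : Ideal A)
    [DRing.HasDerivedCompletion I] (M : Type u) [AddCommGroup M] [Module A M] [Module.Finite A M]
    [DRing.HasLTensor A (ModuleCat.of A M)] (K : Dual.D A) (b : ℤ)
    (hK : ∀ i : ℤ, b < i → Subsingleton (Dual.HD A K i)) :
    DRing.IsDerivedComplete I ((DRing.LTensor A (ModuleCat.of A M)).obj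
        ((DRing.derivedCompletion I).obj K).obj) ∧
      IsUniv (DRing.IsDerivedComplete I)
        ((DRing.LTensor A (ModuleCat.of A M)).map (DRing.toDerivedCompletion I K)) := by
  obtain ⟨s, hs⟩ := (IsNoetherian.noetherian I : I.FG)
  let N : ModuleCat.{u} A := ModuleCat.of A M
  let T := DRing.LTensor A N
  let α := DRing.toDerivedCompletion I K
  let Kh : Dual.D A := ((DRing.derivedCompletion I).obj K).obj
  have hKh : DRing.IsDerivedComplete I Kh := ((DRing.derivedCompletion I).obj K).property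
  haveI hKle : K.IsLE b := (DerivedCategory.isLE_iff K b).2 (fun i hi => by
    have := hK i hi
    exact ModuleCat.isZero_of_subsingleton _)
  haveI hKhle : Kh.IsLE b := (DerivedCategory.isLE_iff Kh b).2 (fun i hi =>
    (bounds_of_isUniv I s hs α hKh (isUniv_unit I K)).2 i
      (fun j hj => DerivedCategory.isZero_of_isLE K b j (by omega)))
  obtain ⟨P, hPle, hPproj, ⟨eP⟩⟩ := exists_iso_Q_proj K b
  obtain ⟨P₀, hP₀le, hP₀proj, ⟨eP₀⟩⟩ := exists_iso_Q_proj Kh b
  haveI : P.IsKProjective := CochainComplex.isKProjective_of_projective P b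
  haveI : P₀.IsKProjective := CochainComplex.isKProjective_of_projective P₀ b
  obtain ⟨a₀, ha₀⟩ := Q_map_surjective P P₀ (eP.hom ≫ α ≫ eP₀.inv)
  have hptα : PTBij I α := fun L hL =>
    bijective_comp_toDerivedCompletion I s hs K L
      (fun f hf => lOrth_of_PT I f (hs ▸ Ideal.subset_span hf) L hL)
  have hpt : PTBij I ((Q : _ ⥤ Dual.D A).map a₀) := by
    rw [ha₀]
    exact (PTBij.of_isIso eP.hom).comp (hptα.comp (PTBij.of_isIso eP₀.inv))
  have hc : DRing.IsDerivedComplete I ((Q : _ ⥤ Dual.D A).obj P₀) :=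
    isDerivedComplete_of_iso I eP₀.symm hKh
  obtain ⟨h1, h2⟩ := core_mod I s hs b P P₀ a₀
    (fun i hi => P.isZero_of_isStrictlyLE b i hi) (fun i => flat_of_projective_cat (P.X i))
    (fun i hi => P₀.isZero_of_isStrictlyLE b i hi) (fun i => flat_of_projective_cat (P₀.X i))
    hc hpt M
  let ι₁ : T.obj (Q.obj P) ≅ Q.obj ((TC N).obj P) :=
    ltIso N P ≪≫ Q.mapIso ((tCxIsoTC N).app P)
  let ι₂ : T.obj (Q.obj P₀) ≅ Q.obj ((TC N).obj P₀) :=
    ltIso N P₀ ≪≫ Q.mapIso ((tCxIsoTC N).app P₀)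
  have nat : T.map (Q.map a₀) ≫ ι₂.hom = ι₁.hom ≫ Q.map ((TC N).map a₀) := by
    show T.map (Q.map a₀) ≫ (ltIso N P₀).hom ≫ Q.map ((tCxIsoTC N).hom.app P₀) =
      ((ltIso N P).hom ≫ Q.map ((tCxIsoTC N).hom.app P)) ≫ Q.map ((TC N).map a₀)
    rw [← Category.assoc, ltIso_hom_naturality, Category.assoc, Category.assoc,
      ← Functor.map_comp, ← Functor.map_comp, (tCxIsoTC N).hom.naturality]
  have hα : T.map α = (T.mapIso eP.symm ≪≫ ι₁).hom ≫ Q.map ((TC N).map a₀) ≫
      (ι₂.symm ≪≫ T.mapIso eP₀).hom := by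
    have h3 : α = eP.inv ≫ Q.map a₀ ≫ eP₀.hom := by
      rw [ha₀]
      simp
    show T.map α = (T.map eP.inv ≫ ι₁.hom) ≫ Q.map ((TC N).map a₀) ≫ (ι₂.inv ≫ T.map eP₀.hom)
    have nat' : T.map (Q.map a₀) = ι₁.hom ≫ Q.map ((TC N).map a₀) ≫ ι₂.inv := by
      rw [← Category.assoc, ← nat, Category.assoc, Iso.hom_inv_id, Category.comp_id]
    rw [h3, Functor.map_comp, Functor.map_comp, nat']
    simp only [Category.assoc]
  constructor
  · exact isDerivedComplete_of_iso I (ι₂.symm ≪≫ T.mapIso eP₀) h1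
  · rw [hα]
    exact (h2.of_iso (ι₂.symm ≪≫ T.mapIso eP₀)).of_iso_left (T.mapIso eP.symm ≪≫ ι₁)

end S7095

end Groth.Agent.Lib.T2H4.TensComp
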