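import Mathlib
import Groth.Agent.Lib.T2H4TensComp
import Groth.Agent.Lib.Helper1DT2

/-!
# Isomorphic perfect complexes are stably isomorphic (helper4)

Two bounded complexes of finite projective modules which are isomorphic in `D(R)` become isomorphic as
complexes after adding contractible bounded complexes of finite projective modules
(`exists_stable_iso`: `M ⊞ coker ≅ N ⊞ Cone(𝟙 M)` via the cylinder).  A degreewise split short exact
sequence of complexes with contractible cokernel splits (`nonempty_iso_biprod_of_contractible`).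
Finitely many finite projective modules become free after inverting one element outside a given prime
(`exists_freeAway_family`); the base change of a contractible complex has free boundary modules when the
boundary modules become free (`free_range_bc`).
-/

set_option autoImplicit false

namespace Groth.Agent.Lib.T2H4.StableIso

open CategoryTheory Limits HomologicalComplex TensorProduct

universe u

attribute [local instance] HasDerivedCategory.standard

section Split

variable {A : Type u} [CommRing A]

/-- the degreewise section. -/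
noncomputable def sσ (S : ShortComplex (DRing.Cx A))
    (σ : ∀ n, (S.map (HomologicalComplex.eval _ _ n)).Splitting) (n : ℤ) : S.X₃.X n ⟶ S.X₂.X n :=
  (σ n).s

lemma sσ_g (S : ShortComplex (DRing.Cx A))
    (σ : ∀ n, (S.map (HomologicalComplex.eval _ _ n)).Splitting) (n : ℤ) :
    sσ S σ n ≫ S.g.f n = 𝟙 _ := (σ n).s_g

/-- the section of a degreewise split epimorphism of complexes onto a contractible complex. -/
noncomputable def secOfContractible (S : ShortComplex (DRing.Cx A))
    (σ : ∀ n, (S.map (HomologicalComplex.eval _ _ n)).Splitting) (h : Homotopy (𝟙 S.X₃) 0) :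
    S.X₃ ⟶ S.X₂ where
  f i := S.X₃.d i (i + 1) ≫ h.hom (i + 1) i ≫ sσ S σ i +
    h.hom i (i - 1) ≫ sσ S σ (i - 1) ≫ S.X₂.d (i - 1) i
  comm' i j hij := by
    obtain rfl : i + 1 = j := hij
    simp only [Preadditive.add_comp, Preadditive.comp_add, Category.assoc, d_comp_d, comp_zero,
      add_zero, d_comp_d_assoc, zero_comp, zero_add]
    have : i + 1 - 1 = i := by omega
    rw [this]

lemma secOfContractible_g (S : ShortComplex (DRing.Cx A))
    (σ : ∀ n, (S.map (HomologicalComplex.eval _ _ n)).Splitting) (h : Homotopy (𝟙 S.X₃) 0) :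
    secOfContractible S σ h ≫ S.g = 𝟙 S.X₃ := by
  ext i : 1
  have h1 := sσ_g S σ i
  have h2 := sσ_g S σ (i - 1)
  have hc := h.comm i
  rw [dNext_eq h.hom (show (ComplexShape.up ℤ).Rel i (i + 1) from rfl),
    prevD_eq h.hom (show (ComplexShape.up ℤ).Rel (i - 1) i by simp)] at hc
  simp only [HomologicalComplex.comp_f, secOfContractible, Preadditive.add_comp, Category.assoc, h1,
    Category.comp_id]
  rw [← S.g.comm (i - 1) i, reassoc_of% h2, HomologicalComplex.id_f]
  rw [HomologicalComplex.id_f, HomologicalComplex.zero_f, add_zero] at hc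
  exact hc.symm

/-- a degreewise split short exact sequence of complexes with contractible cokernel splits. -/
lemma nonempty_iso_biprod_of_contractible (S : ShortComplex (DRing.Cx A)) (hS : S.ShortExact)
    (σ : ∀ n, (S.map (HomologicalComplex.eval _ _ n)).Splitting) (h : Homotopy (𝟙 S.X₃) 0) :
    Nonempty (S.X₂ ≅ S.X₁ ⊞ S.X₃) := by
  have := hS.mono_f
  exact ⟨(ShortComplex.Splitting.ofExactOfSection S hS.exact (secOfContractible S σ h)
    (secOfContractible_g S σ h) inferInstance).isoBinaryBiproduct⟩

end Split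

section Stable

variable {A : Type u} [CommRing A]

open Groth.Agent.Lib.Helper1.KF Groth.Agent.Lib.Helper1.LDer Groth.Agent.Lib.T2H4.TensComp
  Groth.Agent.Lib.Helper1.DT

/-- bounded, termwise finite projective, contractible. -/
structure IsTriv (C : DRing.Cx A) (a b : ℤ) : Prop where
  vanishes : DRing.VanishesOutside C a b
  termwise : DRing.TermwiseFiniteProjective C
  contr : Nonempty (Homotopy (𝟙 C) 0)

lemma finproj_biprod (X Y : ModuleCat.{u} A) (hX : Module.Finite A X ∧ Module.Projective A X)
    (hY : Module.Finite A Y ∧ Module.Projective A Y) :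
    Module.Finite A ↑(X ⊞ Y) ∧ Module.Projective A ↑(X ⊞ Y) := by
  have := hX.1
  have := hX.2
  have := hY.1
  have := hY.2
  have e := (ModuleCat.biprodIsoProd X Y).toLinearEquiv
  exact ⟨Module.Finite.equiv e.symm, Module.Projective.of_equiv e.symm⟩

lemma termwiseFP_mappingCone {P E : DRing.Cx A} (f : P ⟶ E) (hP : DRing.TermwiseFiniteProjective P)
    (hE : DRing.TermwiseFiniteProjective E) :
    DRing.TermwiseFiniteProjective (CochainComplex.mappingCone f) := by
  intro i
  have := HomologicalComplex.HasHomotopyCofiber.hasBinaryBiproduct f i (i + 1) rfl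
  have h := finproj_biprod _ _ (hP (i + 1)) (hE i)
  have := h.1
  have := h.2
  have e := (HomologicalComplex.homotopyCofiber.XIsoBiprod f i (i + 1) rfl).toLinearEquiv
  exact ⟨Module.Finite.equiv e.symm, Module.Projective.of_equiv e.symm⟩

lemma vanishesOutside_mappingCone {P E : DRing.Cx A} (f : P ⟶ E) (a b : ℤ)
    (hP : DRing.VanishesOutside P a b) (hE : DRing.VanishesOutside E a b) :
    DRing.VanishesOutside (CochainComplex.mappingCone f) (a - 1) b := by
  intro i hi
  rw [CochainComplex.mappingCone.isZero_X_iff]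
  exact ⟨hP _ (by omega), hE _ (by omega)⟩

lemma isTriv_cone_id (M : DRing.Cx A) (a b : ℤ) (hM : DRing.VanishesOutside M a b)
    (hMp : DRing.TermwiseFiniteProjective M) : IsTriv (CochainComplex.mappingCone (𝟙 M)) (a - 1) b :=
  ⟨vanishesOutside_mappingCone _ a b hM hM, termwiseFP_mappingCone _ hMp hMp,
    ⟨CochainComplex.mappingCone.homotopyToZeroOfId M⟩⟩

lemma termwiseFP_cyl {K L : DRing.Cx A} (hK : DRing.TermwiseFiniteProjective K)
    (hL : DRing.TermwiseFiniteProjective L) : DRing.TermwiseFiniteProjective (cyl K L) := by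
  intro n
  have h := finproj_biprod _ _ (hL n) (termwiseFP_mappingCone (𝟙 K) hK hK n)
  have := h.1
  have := h.2
  have e := (HomologicalComplex.biprodXIso L (CochainComplex.mappingCone (𝟙 K)) n).toLinearEquiv
  exact ⟨Module.Finite.equiv e.symm, Module.Projective.of_equiv e.symm⟩

lemma vanishesOutside_cyl {K L : DRing.Cx A} (a b : ℤ) (hK : DRing.VanishesOutside K a b)
    (hL : DRing.VanishesOutside L a b) : DRing.VanishesOutside (cyl K L) (a - 1) b := by
  intro n hn
  have h1 := hL n (by omega)
  have h2 := vanishesOutside_mappingCone (𝟙 K) a b hK hK n hn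
  refine IsZero.of_iso ?_ (HomologicalComplex.biprodXIso L (CochainComplex.mappingCone (𝟙 K)) n)
  rw [IsZero.iff_id_eq_zero]
  apply biprod.hom_ext
  · exact h1.eq_of_tgt _ _
  · exact h2.eq_of_tgt _ _

theorem exists_stable_iso (M N : DRing.Cx A) (a b : ℤ) (hM : DRing.VanishesOutside M a b)
    (hN : DRing.VanishesOutside N a b) (hMp : DRing.TermwiseFiniteProjective M)
    (hNp : DRing.TermwiseFiniteProjective N) (h : Nonempty (DRing.toD M ≅ DRing.toD N)) :
    ∃ C₁ C₂ : DRing.Cx A, IsTriv C₁ (a - 1) b ∧ IsTriv C₂ (a - 1) b ∧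
      Nonempty (M ⊞ C₁ ≅ N ⊞ C₂) := by
  obtain ⟨e⟩ := h
  have hMK : M.IsKProjective :=
    isKProjective_of_vanishesAbove M b (fun i hi => hM i (Or.inr hi)) (fun i => (hMp i).2)
  obtain ⟨φ, hφ⟩ := Q_map_surjective M N e.hom
  have hφi : IsIso (DerivedCategory.Q.map φ) := by rw [hφ]; infer_instance
  have hφq : QuasiIso φ := (DerivedCategory.isIso_Q_map_iff_quasiIso (φ := φ)).1 hφi
  have hfst : QuasiIso (biprod.fst : cyl M N ⟶ N) := quasiIso_cyl_fst M N
  have hι : QuasiIso (cylι φ) := by
    have h1 : QuasiIso (cylι φ ≫ (biprod.fst : cyl M N ⟶ N)) := by rw [cylι_fst]; exact hφq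
    exact quasiIso_of_comp_right (cylι φ) (biprod.fst : cyl M N ⟶ N)
  have hS := cylS_shortExact φ
  have hac : (cylS φ).X₃.Acyclic := hS.acyclic_X₃ hι
  -- termwise properties of the cokernel
  have hX₃v : DRing.VanishesOutside (cylS φ).X₃ (a - 1) b := by
    intro n hn
    have h1 := vanishesOutside_cyl (K := M) (L := N) a b hM hN n hn
    let σ := cylSSplitting φ n
    rw [IsZero.iff_id_eq_zero]
    have h2 : σ.s = 0 := h1.eq_of_tgt _ _
    have h3 := σ.s_g
    rw [h2, zero_comp] at h3
    exact h3.symm
  have hX₃p : DRing.TermwiseFiniteProjective (cylS φ).X₃ := by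
    intro n
    have hfp := termwiseFP_cyl (K := M) (L := N) hMp hNp n
    have := hfp.1
    have := hfp.2
    let σ := cylSSplitting φ n
    let s' : ((cylS φ).X₃.X n) →ₗ[A] ((cyl M N).X n) := σ.s.hom
    let g' : ((cyl M N).X n) →ₗ[A] ((cylS φ).X₃.X n) := ((cokernel.π (cylι φ)).f n).hom
    have hc : g'.comp s' = LinearMap.id := congrArg ModuleCat.Hom.hom σ.s_g
    have hsurj : Function.Surjective g' := fun y => ⟨s' y, LinearMap.congr_fun hc y⟩
    exact ⟨Module.Finite.of_surjective g' hsurj, Module.Projective.of_split s' g' hc⟩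
  have hX₃K : (cylS φ).X₃.IsKProjective :=
    isKProjective_of_vanishesAbove _ b (fun i hi => hX₃v i (Or.inr hi)) (fun i => (hX₃p i).2)
  have hcontr : Homotopy (𝟙 (cylS φ).X₃) 0 :=
    CochainComplex.IsKProjective.homotopyZero (𝟙 (cylS φ).X₃) hac
  obtain ⟨e'⟩ := nonempty_iso_biprod_of_contractible (cylS φ) hS (cylSSplitting φ) hcontr
  exact ⟨(cylS φ).X₃, CochainComplex.mappingCone (𝟙 M), ⟨hX₃v, hX₃p, ⟨hcontr⟩⟩,
    isTriv_cone_id M a b hM hMp, ⟨e'.symm⟩⟩

end Stable

section Free

variable {R : Type u} [CommRing R]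

/-- `T` becomes free after inverting `r`. -/
def FreeAway (r : R) (T : Type u) [AddCommGroup T] [Module R T] : Prop :=
  Module.Free (Localization.Away r) (Localization.Away r ⊗[R] T)

lemma FreeAway.mul_right {r : R} {T : Type u} [AddCommGroup T] [Module R T] (h : FreeAway r T)
    (g : R) : FreeAway (r * g) T := by
  unfold FreeAway at h ⊢
  let ψ : Localization.Away r →+* Localization.Away (r * g) :=
    IsLocalization.Away.awayToAwayRight r g
  letI : Algebra (Localization.Away r) (Localization.Away (r * g)) := ψ.toAlgebra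
  haveI : IsScalarTower R (Localization.Away r) (Localization.Away (r * g)) :=
    IsScalarTower.of_algebraMap_eq (fun a =>
      (IsLocalization.Away.awayToAwayRight_eq (S := Localization.Away r)
        (P := Localization.Away (r * g)) r g a).symm)
  have e := TensorProduct.AlgebraTensorModule.cancelBaseChange R (Localization.Away r)
    (Localization.Away (r * g)) (Localization.Away (r * g)) T
  exact Module.Free.of_equiv e

lemma FreeAway.mul_left {r : R} {T : Type u} [AddCommGroup T] [Module R T] (h : FreeAway r T)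
    (g : R) : FreeAway (g * r) T := by
  rw [mul_comm]
  exact h.mul_right g

lemma exists_freeAway (p : Ideal R) [p.IsPrime] (T : Type u) [AddCommGroup T] [Module R T]
    [Module.Finite R T] [Module.Projective R T] : ∃ r : R, r ∉ p ∧ FreeAway r T := by
  have : Module.FinitePresentation R T := Module.finitePresentation_of_projective R T
  have hfree : Module.Free (Localization.AtPrime p) (LocalizedModule p.primeCompl T) :=
    Module.free_of_flat_of_isLocalRing
  obtain ⟨r, hr, hf, -⟩ := Module.FinitePresentation.exists_free_localizedModule_powers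
    p.primeCompl (LocalizedModule.mkLinearMap p.primeCompl T) (Localization.AtPrime p)
  refine ⟨r, hr, ?_⟩
  unfold FreeAway
  have hb := LocalizedModule.isBaseChange (Submonoid.powers r) T
  exact Module.Free.of_equiv hb.equiv.symm

lemma exists_freeAway_family (p : Ideal R) [p.IsPrime] {ι : Type*} [Finite ι] (T : ι → ModuleCat.{u} R)
    (hT : ∀ k, Module.Finite R (T k) ∧ Module.Projective R (T k)) :
    ∃ f : R, f ∉ p ∧ ∀ k, FreeAway f (T k) := by
  classical
  have := Fintype.ofFinite ι
  have h1 : ∀ k, ∃ r : R, r ∉ p ∧ FreeAway r (T k) := fun k =>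
    have := (hT k).1
    have := (hT k).2
    exists_freeAway p (T k)
  choose r hr hfree using h1
  refine ⟨∏ k, r k, ?_, fun k => ?_⟩
  · intro hmem
    obtain ⟨k, -, hk⟩ := (Ideal.IsPrime.prod_mem_iff).1 hmem
    exact hr k hk
  · rw [← Finset.mul_prod_erase Finset.univ r (Finset.mem_univ k)]
    exact (hfree k).mul_right _

end Free

section BC

variable {R : Type u} [CommRing R]

open Groth.Agent.Lib.Helper1.LDer

lemma free_ext_of_freeAway (f : R) (T : ModuleCat.{u} R) (h : FreeAway f T) :
    Module.Free (Localization.Away f)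
      ((ModuleCat.extendScalars.{u, u, u} (algebraMap R (Localization.Away f))).obj T) := by
  unfold FreeAway at h
  exact Module.Free.of_equiv
    (Groth.Agent.Lib.Helper1.Extend.extEquiv (A := R) (B := Localization.Away f) T).symm

lemma d_h_d (C : DRing.Cx R) (h : Homotopy (𝟙 C) 0) (i : ℤ) :
    C.d i (i + 1) ≫ h.hom (i + 1) i ≫ C.d i (i + 1) = C.d i (i + 1) := by
  have hc := h.comm i
  rw [dNext_eq h.hom (show (ComplexShape.up ℤ).Rel i (i + 1) from rfl),
    prevD_eq h.hom (show (ComplexShape.up ℤ).Rel (i - 1) i by simp),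
    HomologicalComplex.id_f, HomologicalComplex.zero_f, add_zero] at hc
  have := congrArg (· ≫ C.d i (i + 1)) hc
  simp only [Category.id_comp, Preadditive.add_comp, Category.assoc, d_comp_d, comp_zero,
    add_zero] at this
  exact this.symm

/-- extension of scalars to the localization. -/
noncomputable abbrev extF (f : R) : ModuleCat.{u} R ⥤ ModuleCat.{u} (Localization.Away f) :=
  ModuleCat.extendScalars.{u, u, u} (algebraMap R (Localization.Away f))

/-- boundary modules of the base change of a contractible complex. -/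
lemma free_range_bc (f : R) (C : DRing.Cx R) (h : Homotopy (𝟙 C) 0) (i : ℤ)
    (hB : FreeAway f (LinearMap.range (C.d i (i + 1)).hom)) :
    Module.Free (Localization.Away f)
      (LinearMap.range (((bcCx (algebraMap R (Localization.Away f))).obj C).d i (i + 1)).hom) := by
  let Bm : ModuleCat.{u} R := ModuleCat.of R (LinearMap.range (C.d i (i + 1)).hom)
  let π : C.X i ⟶ Bm := ModuleCat.ofHom (LinearMap.rangeRestrict (C.d i (i + 1)).hom)
  let ι : Bm ⟶ C.X (i + 1) := ModuleCat.ofHom (Submodule.subtype _)
  have hπι : π ≫ ι = C.d i (i + 1) := rfl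
  have hιhπ : ι ≫ h.hom (i + 1) i ≫ π = 𝟙 Bm := by
    apply ModuleCat.hom_ext
    apply LinearMap.ext
    rintro ⟨x, y, rfl⟩
    apply Subtype.ext
    have := congrArg (fun g => g.hom y) (d_h_d C h i)
    exact this
  have h1 : (extF f).map ι ≫ (extF f).map (h.hom (i + 1) i ≫ π) = 𝟙 _ := by
    rw [← (extF f).map_comp, hιhπ, (extF f).map_id]
  have h2 : (extF f).map (ι ≫ h.hom (i + 1) i) ≫ (extF f).map π = 𝟙 _ := by
    rw [← (extF f).map_comp, Category.assoc, hιhπ, (extF f).map_id]
  have hinj : Function.Injective ((extF f).map ι).hom := by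
    intro x y hxy
    have := congrArg ((extF f).map (h.hom (i + 1) i ≫ π)).hom hxy
    have e1 : ∀ z, ((extF f).map (h.hom (i + 1) i ≫ π)).hom (((extF f).map ι).hom z) = z := fun z =>
      congrArg (fun g => g.hom z) h1
    rwa [e1, e1] at this
  have hsurj : Function.Surjective ((extF f).map π).hom := fun z =>
    ⟨((extF f).map (ι ≫ h.hom (i + 1) i)).hom z, congrArg (fun g => g.hom z) h2⟩
  have hrange : LinearMap.range (((bcCx (algebraMap R (Localization.Away f))).obj C).d i (i + 1)).hom =
      LinearMap.range ((extF f).map ι).hom := by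
    show LinearMap.range ((extF f).map (C.d i (i + 1))).hom = _
    rw [← hπι, (extF f).map_comp, ModuleCat.hom_comp]
    exact LinearMap.range_comp_of_range_eq_top _ (LinearMap.range_eq_top.2 hsurj)
  have hfree : Module.Free (Localization.Away f) ((extF f).obj Bm) := free_ext_of_freeAway f Bm hB
  exact Module.Free.of_equiv ((LinearEquiv.ofInjective ((extF f).map ι).hom hinj).trans
    (LinearEquiv.ofEq _ _ hrange.symm))

end BC

section Main

variable {R : Type u} [CommRing R]

open Groth.Agent.Lib.Helper1.LDer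

lemma freeAway_of_subsingleton (f : R) (T : Type u) [AddCommGroup T] [Module R T] [Subsingleton T] :
    FreeAway f T := by
  unfold FreeAway
  have : Subsingleton (Localization.Away f ⊗[R] T) := inferInstance
  exact Module.Free.of_subsingleton _ _

/-- boundary modules of a contractible complex of finite projective modules are finite projective. -/
lemma boundary_finproj (C : DRing.Cx R) (hp : DRing.TermwiseFiniteProjective C)
    (h : Homotopy (𝟙 C) 0) (i : ℤ) :
    Module.Finite R (LinearMap.range (C.d i (i + 1)).hom) ∧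
      Module.Projective R (LinearMap.range (C.d i (i + 1)).hom) := by
  have := (hp i).1
  have := (hp (i + 1)).2
  refine ⟨Module.Finite.range _, ?_⟩
  refine Module.Projective.of_split (M := C.X (i + 1)) (Submodule.subtype _)
    ((LinearMap.rangeRestrict (C.d i (i + 1)).hom).comp (h.hom (i + 1) i).hom) ?_
  apply LinearMap.ext
  rintro ⟨x, y, rfl⟩
  apply Subtype.ext
  exact congrArg (fun g => g.hom y) (d_h_d C h i)

/-- base change of a trivial complex has the required properties. -/
lemma triv_bc (f : R) (C : DRing.Cx R) (a b : ℤ) (hC : IsTriv C a b)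
    (hX : ∀ i, FreeAway f (C.X i)) (hB : ∀ i, FreeAway f (LinearMap.range (C.d i (i + 1)).hom)) :
    (∃ a' b' : ℤ, DRing.VanishesOutside ((bcCx (algebraMap R (Localization.Away f))).obj C) a' b') ∧
      DRing.TermwiseFiniteFree ((bcCx (algebraMap R (Localization.Away f))).obj C) ∧
      (∀ i : ℤ, Module.Free (Localization.Away f)
        (LinearMap.range (((bcCx (algebraMap R (Localization.Away f))).obj C).d i (i + 1)).hom)) ∧
      Nonempty (Homotopy (𝟙 ((bcCx (algebraMap R (Localization.Away f))).obj C)) 0) := by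
  obtain ⟨h⟩ := hC.contr
  refine ⟨⟨a, b, vanishesOutside_bc _ C a b hC.vanishes⟩, fun i => ⟨?_, ?_⟩, fun i => ?_, ⟨?_⟩⟩
  · have := (hC.termwise i).1
    exact finite_bc _ (C.X i)
  · exact free_ext_of_freeAway f (C.X i) (hX i)
  · exact free_range_bc f C h i (hB i)
  · exact (Homotopy.ofEq (by simp)).trans (((extF f).mapHomotopy h).trans (Homotopy.ofEq (by simp)))

theorem main (p : Ideal R) [p.IsPrime]
    (M N : DRing.Cx R) (a b : ℤ) (hM : DRing.VanishesOutside M a b) (hN : DRing.VanishesOutside N a b)
    (hMp : DRing.TermwiseFiniteProjective M) (hNp : DRing.TermwiseFiniteProjective N)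
    (h : Nonempty (DRing.toD M ≅ DRing.toD N)) :
    ∃ f : R, f ∉ p ∧ ∃ P Q : DRing.Cx (Localization.Away f),
      ((∃ a' b' : ℤ, DRing.VanishesOutside P a' b') ∧ DRing.TermwiseFiniteFree P ∧
          (∀ i : ℤ, Module.Free (Localization.Away f) (LinearMap.range (P.d i (i + 1)).hom)) ∧
            Nonempty (Homotopy (𝟙 P) 0)) ∧
      ((∃ a' b' : ℤ, DRing.VanishesOutside Q a' b') ∧ DRing.TermwiseFiniteFree Q ∧
          (∀ i : ℤ, Module.Free (Localization.Away f) (LinearMap.range (Q.d i (i + 1)).hom)) ∧
            Nonempty (Homotopy (𝟙 Q) 0)) ∧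
      Nonempty (((bcCx (algebraMap R (Localization.Away f))).obj M) ⊞ P ≅
        ((bcCx (algebraMap R (Localization.Away f))).obj N) ⊞ Q) := by
  classical
  obtain ⟨C₁, C₂, hC₁, hC₂, ⟨e⟩⟩ := exists_stable_iso M N a b hM hN hMp hNp h
  obtain ⟨h₁⟩ := hC₁.contr
  obtain ⟨h₂⟩ := hC₂.contr
  let T : Fin 4 × ↥(Finset.Icc (a - 1) b) → ModuleCat.{u} R := fun k =>
    match k.1 with
    | 0 => C₁.X k.2
    | 1 => ModuleCat.of R (LinearMap.range (C₁.d k.2 (k.2 + 1)).hom)
    | 2 => C₂.X k.2
    | 3 => ModuleCat.of R (LinearMap.range (C₂.d k.2 (k.2 + 1)).hom)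
  have hT : ∀ k, Module.Finite R (T k) ∧ Module.Projective R (T k) := by
    rintro ⟨q, i⟩
    fin_cases q
    · exact hC₁.termwise i
    · exact boundary_finproj C₁ hC₁.termwise h₁ i
    · exact hC₂.termwise i
    · exact boundary_finproj C₂ hC₂.termwise h₂ i
  obtain ⟨f, hf, hfree⟩ := exists_freeAway_family p T hT
  have key : ∀ (C : DRing.Cx R), IsTriv C (a - 1) b →
      (∀ i : ↥(Finset.Icc (a - 1) b), FreeAway f (C.X i)) →
      (∀ i : ↥(Finset.Icc (a - 1) b), FreeAway f (LinearMap.range (C.d i (i + 1)).hom)) →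
      (∀ i, FreeAway f (C.X i)) ∧ (∀ i, FreeAway f (LinearMap.range (C.d i (i + 1)).hom)) := by
    intro C hC h1 h2
    have hz : ∀ i : ℤ, i ∉ Finset.Icc (a - 1) b → Subsingleton (C.X i) := fun i hi =>
      ModuleCat.subsingleton_of_isZero (hC.vanishes i (by
        simp only [Finset.mem_Icc, not_and, not_le] at hi; omega))
    constructor
    · intro i
      by_cases hi : i ∈ Finset.Icc (a - 1) b
      · exact h1 ⟨i, hi⟩
      · have := hz i hi
        exact freeAway_of_subsingleton f _
    · intro i
      by_cases hi : i ∈ Finset.Icc (a - 1) b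
      · exact h2 ⟨i, hi⟩
      · have := hz i hi
        have : Subsingleton (LinearMap.range (C.d i (i + 1)).hom) := by
          constructor
          rintro ⟨x, y, rfl⟩ ⟨x', y', rfl⟩
          rw [Subsingleton.elim y y']
        exact freeAway_of_subsingleton f _
  obtain ⟨k1, k2⟩ := key C₁ hC₁ (fun i => hfree (0, i)) (fun i => hfree (1, i))
  obtain ⟨k3, k4⟩ := key C₂ hC₂ (fun i => hfree (2, i)) (fun i => hfree (3, i))
  haveI : PreservesBinaryBiproducts (bcCx (algebraMap R (Localization.Away f))) :=
    preservesBinaryBiproducts_of_preservesBiproducts _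
  refine ⟨f, hf, (bcCx (algebraMap R (Localization.Away f))).obj C₁,
    (bcCx (algebraMap R (Localization.Away f))).obj C₂,
    triv_bc f C₁ (a - 1) b hC₁ k1 k2, triv_bc f C₂ (a - 1) b hC₂ k3 k4, ⟨?_⟩⟩
  exact ((bcCx (algebraMap R (Localization.Away f))).mapBiprod M C₁).symm ≪≫
    (bcCx (algebraMap R (Localization.Away f))).mapIso e ≪≫
    (bcCx (algebraMap R (Localization.Away f))).mapBiprod N C₂

end Main

end Groth.Agent.Lib.T2H4.StableIso
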