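import Mathlib
import Groth.Agent.Lib.T2H4ExtDdual
import Groth.Agent.Lib.T2H2LocFactSch
import Groth.Agent.Lib.Helper5SuppDim
import Groth.Agent.Lib.Helper23StalkLin
set_option backward.isDefEq.respectTransparency.types false

/-!
# Lengths of stalks of coherent modules at generic points of their supports (helper4)

* `exists_smul_eq_zero_of_stalkSpecializes_eq_zero`: the kernel of a specialization map of a quasi-coherent module
  is torsion with respect to the complement of the corresponding prime;
* `isFiniteLength_stalk`: the stalk of a coherent module at a point all of whose proper generizations lie outside the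
  support has finite length;
* `length_stalk_shortExact`: additivity of lengths of stalks in short exact sequences.
-/

set_option autoImplicit false
set_option linter.style.haveILetI false
universe u
open CategoryTheory CategoryTheory.Limits AlgebraicGeometry TopologicalSpace

namespace Groth.Agent.Lib.T2H4.StalkLen

open Groth.Agent.Lib.Helper2.QCoh Groth.Agent.Lib.Helper2.FlatOver Groth.Agent.Lib.T2H4.HomShGlobal
  Groth.Agent.Lib.T2H4.ExtDdual Groth.Agent.Lib.T2H2.LocFactSch Groth.Agent.Lib.Helper5
  Groth.Agent.Lib.Helper4.NormDelta Groth.Agent.Lib.Helper23.StalkLin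
  Groth.Agent.Lib.T2H3.ReflexiveHom

variable {X : Scheme.{u}}

/-- the kernel of a specialization map of a quasi-coherent module is torsion with respect to the elements becoming
invertible at the generization -/
theorem exists_smul_eq_zero_of_stalkSpecializes_eq_zero (L : X.Modules) [L.IsQuasicoherent] {x y : X}
    (h : y ⤳ x) (m : L.presheaf.stalk x) (hm : (L.presheaf.stalkSpecializes h).hom m = 0) :
    ∃ r : X.presheaf.stalk x, IsUnit ((X.presheaf.stalkSpecializes h).hom r) ∧ r • m = 0 := by
  obtain ⟨_, ⟨V, hV, rfl⟩, hxV, -⟩ :=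
    X.isBasis_affineOpens.exists_subset_of_mem_open (Set.mem_univ x) isOpen_univ
  have hyV : y ∈ V := h.mem_open V.isOpen hxV
  have e2 : ∀ z : Γ(X, V), (X.presheaf.stalkSpecializes h).hom (X.presheaf.germ _ x hxV z) =
      X.presheaf.germ _ y hyV z := fun z =>
    ConcreteCategory.congr_hom (TopCat.Presheaf.germ_stalkSpecializes X.presheaf hxV h) z
  -- write `m` as a fraction
  obtain ⟨m₀, s, hs, hms⟩ : ∃ (m₀ : Γ(L, V)) (s : Γ(X, V)),
      s ∉ (hV.primeIdealOf ⟨x, hxV⟩).asIdeal ∧
        X.presheaf.germ V x hxV s • m = L.presheaf.germ V x hxV m₀ := by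
    letI := moduleStalkSections L V x hxV
    haveI := isLocalizedModule_germ hV L x hxV
    obtain ⟨⟨m₀, s⟩, hms⟩ := IsLocalizedModule.surj (hV.primeIdealOf ⟨x, hxV⟩).asIdeal.primeCompl
      (germₗ L V x hxV) m
    exact ⟨m₀, s.1, s.2, hms⟩
  have hsu : IsUnit (X.presheaf.germ V x hxV s) := by
    rw [← germ_mem_maximalIdeal_iff hV x hxV s] at hs
    exact IsLocalRing.notMem_maximalIdeal.1 hs
  have h1 : L.presheaf.germ V y hyV m₀ = 0 := by
    have := congrArg (L.presheaf.stalkSpecializes h).hom hms
    rw [stalkSpecializes_smul, hm, smul_zero, stalkSpecializes_germ] at this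
    exact this.symm
  obtain ⟨t, ht, htm⟩ : ∃ t : Γ(X, V), t ∉ (hV.primeIdealOf ⟨y, hyV⟩).asIdeal ∧ t • m₀ = 0 := by
    letI := moduleStalkSections L V y hyV
    haveI := isLocalizedModule_germ hV L y hyV
    obtain ⟨t, ht⟩ := (IsLocalizedModule.eq_zero_iff (hV.primeIdealOf ⟨y, hyV⟩).asIdeal.primeCompl
      (germₗ L V y hyV)).1 h1
    exact ⟨t.1, t.2, ht⟩
  have htu : IsUnit (X.presheaf.germ V y hyV t) := by
    rw [← germ_mem_maximalIdeal_iff hV y hyV t] at ht
    exact IsLocalRing.notMem_maximalIdeal.1 ht
  refine ⟨X.presheaf.germ V x hxV t * X.presheaf.germ V x hxV s, ?_, ?_⟩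
  · rw [map_mul, e2, e2]
    refine htu.mul ?_
    rw [← e2]
    exact hsu.map _
  · rw [mul_smul, hms, ← germ_smul, htm, map_zero]

theorem primeOf_refl (x : X) (hs : x ⤳ x) :
    primeOf hs = IsLocalRing.maximalIdeal (X.presheaf.stalk x) := by
  unfold primeOf
  rw [TopCat.Presheaf.stalkSpecializes_refl]
  rfl

variable [IsLocallyNoetherian X]

/-- the stalk of a coherent module at a point all of whose proper generizations lie outside the support has finite
length -/
theorem isFiniteLength_stalk (G : X.Modules) (hG : Coh.IsCoh G) (x : X)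
    (h : ∀ y : X, y ⤳ x → y ≠ x → Subsingleton (G.presheaf.stalk y)) :
    IsFiniteLength (X.presheaf.stalk x) (G.presheaf.stalk x) := by
  haveI : G.IsQuasicoherent := hG.1
  haveI := finite_stalk_of_isCoh G hG x
  apply isFiniteLength_of_supportDim_le_zero
  apply supportDim_le_zero_of_forall_isMaximal
  intro q hq
  haveI : q.asIdeal.IsPrime := q.2
  obtain ⟨y, hs, hy⟩ := exists_primeOf_eq x q.asIdeal
  by_cases hyx : y = x
  · subst hyx
    rw [← hy, primeOf_refl]
    infer_instance
  · exfalso
    haveI := h y hs hyx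
    rw [Module.mem_support_iff'] at hq
    obtain ⟨m, hm⟩ := hq
    obtain ⟨r, hr, hrm⟩ := exists_smul_eq_zero_of_stalkSpecializes_eq_zero G hs m
      (Subsingleton.elim _ _)
    refine hm r ?_ hrm
    rw [← hy]
    intro hmem
    have : (X.presheaf.stalkSpecializes hs).hom r ∈ IsLocalRing.maximalIdeal (X.presheaf.stalk y) := hmem
    exact (IsLocalRing.mem_maximalIdeal _).1 this hr

omit [IsLocallyNoetherian X] in
/-- lengths of stalks are additive in short exact sequences -/
theorem length_stalk_shortExact (T : ShortComplex X.Modules) (hT : T.ShortExact) (x : X) :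
    Module.length (X.presheaf.stalk x) (T.X₂.presheaf.stalk x) =
      Module.length (X.presheaf.stalk x) (T.X₁.presheaf.stalk x) +
        Module.length (X.presheaf.stalk x) (T.X₃.presheaf.stalk x) := by
  haveI := hT.mono_f
  haveI := hT.epi_g
  exact Module.length_eq_add_of_exact (stalkLin T.f x) (stalkLin T.g x) (stalkLin_injective T.f x)
    (stalkLin_surjective T.g x) (stalkLin_exact T hT x)

end Groth.Agent.Lib.T2H4.StalkLen
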