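import Mathlib
import Groth.Prelude.Def_MoreMor
import Groth.Agent.Lib.Helper22ThickAffine

/-!
# Affine stratifications: geometry (helper4)

Namespace `Groth.Agent.Lib.T2H4.StratGeom`.

* `isAffine_of_surjective_immersion`: the target of a surjective immersion from an affine scheme is affine.
* `isAffineOpen_of_range_eq`, `isAffineHom_ι_of_range_eq`: an open subset which is the image of an affine
  immersion from an affine scheme is affine, and its inclusion is an affine morphism.
* `hasAffineStratification_of_closed`: a closed subscheme missing the top stratum inherits a shorter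
  affine stratification.
-/

set_option autoImplicit false
set_option linter.style.haveILetI false
set_option linter.deprecated false
universe u
open CategoryTheory CategoryTheory.Limits AlgebraicGeometry TopologicalSpace

namespace Groth.Agent.Lib.T2H4.StratGeom

variable {X : Scheme.{u}}

/-- a surjective immersion is a closed immersion -/
theorem isClosedImmersion_of_surjective {T : Scheme.{u}} (ι : T ⟶ X) [IsImmersion ι]
    (h : Function.Surjective ι) : IsClosedImmersion ι := by
  apply IsClosedImmersion.of_isPreimmersion
  rw [Set.range_eq_univ.2 h]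
  exact isClosed_univ

/-- the target of a surjective immersion from an affine scheme is affine -/
theorem isAffine_of_surjective_immersion {T : Scheme.{u}} (ι : T ⟶ X) [IsImmersion ι] [IsAffine T]
    (h : Function.Surjective ι) : IsAffine X := by
  haveI := isClosedImmersion_of_surjective ι h
  exact Groth.Agent.Lib.Helper22.ThickAffine.isAffine_of_thickening ι h

/-- an open subset which is the image of an immersion from an affine scheme is affine -/
theorem isAffineOpen_of_range_eq {T : Scheme.{u}} (ι : T ⟶ X) [IsImmersion ι] [IsAffine T]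
    (U : X.Opens) (hU : Set.range ι = (U : Set X)) : IsAffineOpen U := by
  have hr : Set.range ι ⊆ Set.range U.ι := by
    rw [Scheme.Opens.range_ι, hU]
  let ι' : T ⟶ U := IsOpenImmersion.lift U.ι ι hr
  have h1 : ι' ≫ U.ι = ι := IsOpenImmersion.lift_fac _ _ _
  haveI : IsImmersion (ι' ≫ U.ι) := by rw [h1]; infer_instance
  haveI : IsImmersion ι' := IsImmersion.of_comp ι' U.ι
  have hs : Function.Surjective ι' := by
    intro y
    have hy : (U.ι y : X) ∈ Set.range ι := by
      rw [hU]; exact y.2
    obtain ⟨t, ht⟩ := hy
    refine ⟨t, ?_⟩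
    apply U.ι.isOpenEmbedding.injective
    rw [← ht, ← h1]
    rfl
  exact isAffine_of_surjective_immersion ι' hs

/-- the inclusion of an open subset which is the image of an affine immersion is an affine morphism -/
theorem isAffineHom_ι_of_range_eq {T : Scheme.{u}} (ι : T ⟶ X) [IsImmersion ι] [IsAffineHom ι]
    (U : X.Opens) (hU : Set.range ι = (U : Set X)) : IsAffineHom U.ι := by
  refine ⟨fun V hV => ?_⟩
  have hTV : IsAffineOpen (ι ⁻¹ᵁ V) := hV.preimage ι
  haveI : IsAffine (ι ⁻¹ᵁ V) := hTV
  have h2 : IsAffineOpen (U ⊓ V) := by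
    refine isAffineOpen_of_range_eq ((ι ⁻¹ᵁ V).ι ≫ ι) (U ⊓ V) ?_
    rw [Scheme.Hom.comp_base, TopCat.coe_comp, Set.range_comp, Scheme.Opens.range_ι]
    ext x
    simp only [Set.mem_image, Opens.coe_inf, Set.mem_inter_iff, SetLike.mem_coe]
    constructor
    · rintro ⟨t, ht, rfl⟩
      refine ⟨?_, ht⟩
      have : (ι t : X) ∈ Set.range ι := ⟨t, rfl⟩
      rw [hU] at this
      exact this
    · rintro ⟨hxU, hxV⟩
      have : x ∈ Set.range ι := by rw [hU]; exact hxU
      obtain ⟨t, rfl⟩ := this
      exact ⟨t, hxV, rfl⟩
  have h3 : U.ι ''ᵁ (U.ι ⁻¹ᵁ V) = U ⊓ V := by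
    rw [Scheme.Hom.image_preimage_eq_opensRange_inf, Scheme.Opens.opensRange_ι]
  rw [← h3] at h2
  exact (U.ι.isAffineOpen_iff_of_isOpenImmersion).1 h2

set_option backward.isDefEq.respectTransparency.types false in
/-- A closed subscheme missing the top stratum inherits an affine stratification with one stratum less. -/
theorem hasAffineStratification_of_closed {Z : Scheme.{u}} (i : Z ⟶ X) [IsClosedImmersion i] (n : ℕ)
    (s : X → Fin (n + 2)) (hs : ∀ k : Fin (n + 2), IsClosed {x : X | s x ≤ k})
    (hst : ∀ k : Fin (n + 2), ∃ (T : Scheme.{u}) (ι : T ⟶ X),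
      IsImmersion ι ∧ IsAffine T ∧ IsAffineHom ι ∧ Set.range ι = {x : X | s x = k})
    (hZ : ∀ z : Z, s (i z) ≠ Fin.last (n + 1)) :
    MoreMor.HasAffineStratification Z n := by
  refine ⟨fun z => (s (i z)).castPred (hZ z), ?_, ?_⟩
  · intro k
    have : {z : Z | (s (i z)).castPred (hZ z) ≤ k} = i ⁻¹' {x : X | s x ≤ k.castSucc} := by
      ext z
      simp only [Set.mem_setOf_eq, Set.mem_preimage]
      rw [← Fin.castSucc_le_castSucc_iff, Fin.castSucc_castPred]
    rw [this]
    exact (hs k.castSucc).preimage i.continuous
  · intro k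
    obtain ⟨T, ι, h1, h2, h3, h4⟩ := hst k.castSucc
    haveI := h1
    haveI := h2
    haveI := h3
    have h5 : IsAffineHom (pullback.snd ι i) := MorphismProperty.pullback_snd _ _ h3
    refine ⟨pullback ι i, pullback.snd ι i, inferInstance, inferInstance, h5, ?_⟩
    rw [Scheme.Pullback.range_snd, h4]
    ext z
    simp only [Set.mem_preimage, Set.mem_setOf_eq]
    constructor
    · intro h
      apply Fin.castSucc_injective
      rw [Fin.castSucc_castPred]
      exact h
    · intro h
      rw [← h, Fin.castSucc_castPred]

end Groth.Agent.Lib.T2H4.StratGeom
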