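import Mathlib
import Groth.Prelude.Def_Coh
import Groth.Prelude.Def_CohB1
import Groth.Prelude.Def_MoreMor
import Groth.Agent.S0786
import Groth.Agent.S1435
import Groth.Agent.S0012
import Groth.Agent.S0007
import Groth.Agent.Lib.T2H4StratGeom
import Groth.Agent.Lib.T2H4FtColim
import Groth.Agent.Lib.T2H5AnnIdeal
import Groth.Agent.Lib.T2H9FBCAcyc
import Groth.Agent.Lib.Helper20StalkExact
import Groth.Agent.Lib.Helper23Support
import Groth.Agent.Lib.Helper23QCohExt
import Groth.Agent.Lib.Helper2PullbackSec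

/-!
# Cohomological dimension of schemes with an affine stratification (helper4)

Namespace `Groth.Agent.Lib.T2H4.StratVanish`.

`vanish`: if `X` has an affine stratification with index set `{0, …, n}` then `H^p(X, F) = 0` for all quasi-coherent
`F` and `p > n` (Stacks 0F2Y).
-/

set_option autoImplicit false
set_option linter.style.haveILetI false
set_option linter.unusedSectionVars false
set_option linter.deprecated false
universe u
open CategoryTheory CategoryTheory.Limits AlgebraicGeometry TopologicalSpace Opposite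

namespace Groth.Agent.Lib.T2H4.StratVanish

open Groth.Agent.Lib.Helper23.QCohLocal Groth.Agent.Lib.T2H4.StratGeom

variable {X : Scheme.{u}}

section LES

/-- `0 → ker f → P → im f → 0` -/
noncomputable def scA {P Q : X.Modules} (f : P ⟶ Q) : ShortComplex X.Modules :=
  ShortComplex.mk (kernel.ι f) (Abelian.factorThruImage f) (by
    rw [← cancel_mono (Abelian.image.ι f), Category.assoc, Abelian.image.fac, kernel.condition, zero_comp])

lemma scA_shortExact {P Q : X.Modules} (f : P ⟶ Q) : (scA f).ShortExact := by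
  have h1 : Mono (scA f).f := inferInstanceAs (Mono (kernel.ι f))
  have h2 : Epi (scA f).g := inferInstanceAs (Epi (Abelian.factorThruImage f))
  refine ShortComplex.ShortExact.mk' ?_ h1 h2
  exact ShortComplex.exact_of_f_is_kernel (scA f)
    (isKernelOfComp (Abelian.image.ι f) f (kernelIsKernel f) (scA f).zero (Abelian.image.fac f))

/-- `0 → im f → Q → coker f → 0` -/
noncomputable def scB {P Q : X.Modules} (f : P ⟶ Q) : ShortComplex X.Modules :=
  ShortComplex.mk (Abelian.image.ι f) (cokernel.π f) (kernel.condition _)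

lemma scB_shortExact {P Q : X.Modules} (f : P ⟶ Q) : (scB f).ShortExact := by
  have h1 : Mono (scB f).f := inferInstanceAs (Mono (Abelian.image.ι f))
  have h2 : Epi (scB f).g := inferInstanceAs (Epi (cokernel.π f))
  exact ShortComplex.ShortExact.mk' (ShortComplex.exact_of_f_is_kernel (scB f) (kernelIsKernel (cokernel.π f)))
    h1 h2

/-- From the long exact sequence: `H^{i+1}(X₁)` vanishes if `H^i(X₃)` and `H^{i+1}(X₂)` do. -/
theorem subsingleton_left (S : ShortComplex X.Modules) (hS : S.ShortExact) (i : ℕ)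
    (h3 : Subsingleton (Coh.HH X S.X₃ i)) (h2 : Subsingleton (Coh.HH X S.X₂ (i + 1))) :
    Subsingleton (Coh.HH X S.X₁ (i + 1)) := by
  refine ⟨fun a b => ?_⟩
  have h0 : ∀ x : Coh.HH X S.X₁ (i + 1), x = 0 := by
    intro x
    obtain ⟨y, hy⟩ := Abelian.Ext.covariant_sequence_exact₁ _ (shortExact_toAbF S hS) x
      (@Subsingleton.elim _ h2 _ _) rfl
    have hy0 : y = 0 := @Subsingleton.elim _ h3 y 0
    rw [hy0] at hy
    exact hy.symm.trans (Abelian.Ext.zero_comp _ _ _ _ _)
  rw [h0 a, h0 b]

/-- From the long exact sequence: `H^i(X₂)` vanishes if `H^i(X₁)` and `H^i(X₃)` do. -/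
theorem subsingleton_mid (S : ShortComplex X.Modules) (hS : S.ShortExact) (i : ℕ)
    (h1 : Subsingleton (Coh.HH X S.X₁ i)) (h3 : Subsingleton (Coh.HH X S.X₃ i)) :
    Subsingleton (Coh.HH X S.X₂ i) := by
  refine ⟨fun a b => ?_⟩
  have h0 : ∀ x : Coh.HH X S.X₂ i, x = 0 := by
    intro x
    obtain ⟨y, hy⟩ := Abelian.Ext.covariant_sequence_exact₂ _ (shortExact_toAbF S hS) x
      (@Subsingleton.elim _ h3 _ _)
    have hy0 : y = 0 := @Subsingleton.elim _ h1 y 0
    rw [hy0] at hy
    exact hy.symm.trans (Abelian.Ext.zero_comp _ _ _ _ _)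
  rw [h0 a, h0 b]

end LES

section ZeroOn

/-- sections of a zero module vanish -/
theorem subsingleton_sections_of_isZero {Y : Scheme.{u}} (M : Y.Modules) (h : IsZero M) (W : Y.Opens) :
    Subsingleton Γ(M, W) := by
  refine ⟨fun a b => ?_⟩
  have h0 : (𝟙 M : M ⟶ M) = 0 := (IsZero.iff_id_eq_zero M).1 h
  have key : ∀ s : Γ(M, W), s = 0 := fun s => by
    have h1 := congrArg (fun φ : M ⟶ M => φ.app W s) h0
    simpa using h1
  rw [key a, key b]

/-- `G` vanishes on the open `U` -/
def ZeroOn (G : X.Modules) (U : X.Opens) : Prop := ∀ V : X.Opens, V ≤ U → Subsingleton Γ(G, V)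

theorem ZeroOn.of_isZero_restrict {G : X.Modules} {U : X.Opens}
    (h : IsZero ((Scheme.Modules.restrictFunctor U.ι).obj G)) : ZeroOn G U := by
  intro V hV
  have h1 : Subsingleton Γ(G.restrict U.ι, U.ι ⁻¹ᵁ V) := subsingleton_sections_of_isZero _ h _
  have h2 : U.ι ''ᵁ (U.ι ⁻¹ᵁ V) = V := by
    rw [Scheme.Hom.image_preimage_eq_opensRange_inf, Scheme.Opens.opensRange_ι]
    exact inf_eq_right.2 hV
  have h3 : Subsingleton Γ(G, U.ι ''ᵁ (U.ι ⁻¹ᵁ V)) := h1
  rwa [h2] at h3

theorem ZeroOn.of_mono {K' G : X.Modules} (i : K' ⟶ G) [Mono i] {U : X.Opens} (h : ZeroOn G U) :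
    ZeroOn K' U := by
  intro V hV
  haveI := h V hV
  exact (Groth.Agent.Lib.Helper20.StalkExact.injective_app_of_mono i V).subsingleton

theorem ZeroOn.stalk {G : X.Modules} {U : X.Opens} (h : ZeroOn G U) (x : X) (hx : x ∈ U) :
    Subsingleton (G.presheaf.stalk x) := by
  apply Groth.Agent.Lib.Helper23.Support.subsingleton_stalk_of_forall_res_eq_zero
  intro W hxW s
  refine ⟨W ⊓ U, inf_le_left, ⟨hxW, hx⟩, ?_⟩
  haveI := h (W ⊓ U) inf_le_right
  exact Subsingleton.elim _ _

end ZeroOn

section Closed

open Groth.Agent.Lib.T2H5.AnnIdeal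

/-- the inductive hypothesis -/
def Hyp (n : ℕ) : Prop :=
  ∀ (Z : Scheme.{u}), MoreMor.HasAffineStratification Z n → ∀ (F : Z.Modules), F.IsQuasicoherent →
    ∀ p : ℕ, n < p → Subsingleton (Coh.HH Z F p)

variable (n : ℕ) (IH : Hyp.{u} n) (s : X → Fin (n + 2))
  (hs : ∀ k : Fin (n + 2), IsClosed {x : X | s x ≤ k})
  (hst : ∀ k : Fin (n + 2), ∃ (T : Scheme.{u}) (ι : T ⟶ X),
    IsImmersion ι ∧ IsAffine T ∧ IsAffineHom ι ∧ Set.range ι = {x : X | s x = k})
  (U : X.Opens) (hU : (U : Set X) = {x : X | s x = Fin.last (n + 1)})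

include IH hs hst hU

/-- finite type quasi-coherent modules vanishing on the top stratum: push forward from the scheme-theoretic support -/
theorem subsingleton_HH_of_ft_zeroOn (G : X.Modules) [G.IsQuasicoherent]
    [SheafOfModules.IsFiniteType (R := X.ringCatSheaf) G] (hG : ZeroOn G U) (p : ℕ) (hp : n < p) :
    Subsingleton (Coh.HH X G p) := by
  let I := annIdeal G
  let i := I.subschemeι
  have hk : ∀ (V : X.affineOpens) (r : Γ(X, V.1)), r ∈ i.ker.ideal V → ∀ m : Γ(G, V.1), r • m = 0 := by
    intro V r hr m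
    rw [Scheme.IdealSheafData.ker_subschemeι] at hr
    exact Module.mem_annihilator.1 hr m
  haveI := Groth.Agent.S0786.isIso_unit_closedImmersion i G hk
  let e : G ≅ (Scheme.Modules.pushforward i).obj ((Scheme.Modules.pullback i).obj G) :=
    asIso ((Scheme.Modules.pullbackPushforwardAdjunction i).unit.app G)
  haveI : ((Scheme.Modules.pullback i).obj G).IsQuasicoherent :=
    Groth.Agent.Lib.Helper2.PullbackSec.isQuasicoherent_pullback i G
  refine Groth.Agent.Lib.T2H9.FBCAcyc.subsingleton_HH_of_iso e p ?_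
  obtain ⟨θ⟩ := Groth.Agent.S0012.result i ((Scheme.Modules.pullback i).obj G) p
  have hZ : ∀ z : I.subscheme, s (i z) ≠ Fin.last (n + 1) := by
    intro z hz
    have h1 : (i z : X) ∈ Set.range i := ⟨z, rfl⟩
    rw [Scheme.IdealSheafData.range_subschemeι, support_annIdeal] at h1
    have h2 : (i z : X) ∈ U := by
      rw [← SetLike.mem_coe, hU]
      exact hz
    exact h1 (hG.stalk _ h2)
  have hstrat := hasAffineStratification_of_closed i n s hs hst hZ
  haveI : Subsingleton (Coh.HH I.subscheme ((Scheme.Modules.pullback i).obj G) p) :=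
    IH I.subscheme hstrat ((Scheme.Modules.pullback i).obj G) inferInstance p hp
  exact θ.symm.toEquiv.subsingleton

/-- quasi-coherent modules vanishing on the top stratum -/
theorem subsingleton_HH_of_zeroOn [CompactSpace X] [QuasiSeparatedSpace X] (G : X.Modules) [G.IsQuasicoherent]
    (hG : ZeroOn G U) (p : ℕ) (hp : n < p) : Subsingleton (Coh.HH X G p) := by
  apply Groth.Agent.Lib.T2H4.FtColim.subsingleton_HH_of_ft G p
  intro K' i hi hq hf
  haveI := hi
  haveI := hq
  haveI := hf
  exact subsingleton_HH_of_ft_zeroOn n IH s hs hst U hU K' (hG.of_mono i) p hp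

end Closed

section Main

/-- the unit of the restriction adjunction becomes an isomorphism after restriction -/
theorem isIso_restrict_unit (U : X.Opens) (F : X.Modules) :
    IsIso ((Scheme.Modules.restrictFunctor U.ι).map
      ((Scheme.Modules.restrictAdjunction U.ι).unit.app F)) := by
  have h1 := (Scheme.Modules.restrictAdjunction U.ι).left_triangle_components F
  haveI : IsIso ((Scheme.Modules.restrictAdjunction U.ι).counit.app
      ((Scheme.Modules.restrictFunctor U.ι).obj F)) := inferInstance
  haveI : IsIso ((Scheme.Modules.restrictFunctor U.ι).map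
      ((Scheme.Modules.restrictAdjunction U.ι).unit.app F) ≫
      (Scheme.Modules.restrictAdjunction U.ι).counit.app
        ((Scheme.Modules.restrictFunctor U.ι).obj F)) := by
    rw [h1]; infer_instance
  exact IsIso.of_isIso_comp_right _ ((Scheme.Modules.restrictAdjunction U.ι).counit.app
      ((Scheme.Modules.restrictFunctor U.ι).obj F))

theorem zeroOn_kernel (U : X.Opens) (F : X.Modules) :
    ZeroOn (kernel ((Scheme.Modules.restrictAdjunction U.ι).unit.app F)) U := by
  apply ZeroOn.of_isZero_restrict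
  haveI := restrictFunctor_isRightAdjoint U.ι
  haveI := isIso_restrict_unit U F
  haveI : (Scheme.Modules.restrictFunctor U.ι).Additive :=
    (Scheme.Modules.restrictAdjunction U.ι).left_adjoint_additive
  exact (isZero_kernel_of_mono ((Scheme.Modules.restrictFunctor U.ι).map
    ((Scheme.Modules.restrictAdjunction U.ι).unit.app F))).of_iso
      (PreservesKernel.iso (Scheme.Modules.restrictFunctor U.ι)
        ((Scheme.Modules.restrictAdjunction U.ι).unit.app F))

theorem zeroOn_cokernel (U : X.Opens) (F : X.Modules) :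
    ZeroOn (cokernel ((Scheme.Modules.restrictAdjunction U.ι).unit.app F)) U := by
  apply ZeroOn.of_isZero_restrict
  haveI := isIso_restrict_unit U F
  haveI : (Scheme.Modules.restrictFunctor U.ι).Additive :=
    (Scheme.Modules.restrictAdjunction U.ι).left_adjoint_additive
  exact (isZero_cokernel_of_epi ((Scheme.Modules.restrictFunctor U.ι).map
    ((Scheme.Modules.restrictAdjunction U.ι).unit.app F))).of_iso
      (PreservesCokernel.iso (Scheme.Modules.restrictFunctor U.ι)
        ((Scheme.Modules.restrictAdjunction U.ι).unit.app F))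

theorem base : Hyp.{u} 0 := by
  intro X hX F hF p hp
  haveI := hF
  obtain ⟨s, hs, hst⟩ := hX
  obtain ⟨T, ι, h1, h2, h3, h4⟩ := hst 0
  haveI := h1
  haveI := h2
  have hsurj : Function.Surjective ι := by
    intro x
    have hx : x ∈ {x : X | s x = 0} := Fin.ext (by have := (s x).isLt; simp only [Fin.val_zero]; omega)
    rw [← h4] at hx
    exact hx
  haveI : IsAffine X := isAffine_of_surjective_immersion ι hsurj
  exact Groth.Agent.S0007.result X F p hp

theorem step (n : ℕ) (IH : Hyp.{u} n) : Hyp.{u} (n + 1) := by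
  intro X hX F hF p hp
  haveI := hF
  obtain ⟨hc, hq⟩ := (Groth.Agent.S1435.result X).1 ⟨n + 1, hX⟩
  haveI := hc
  haveI := hq
  obtain ⟨s, hs, hst⟩ := hX
  have hopen : IsOpen {x : X | s x = Fin.last (n + 1)} := by
    have h : {x : X | s x = Fin.last (n + 1)} = {x : X | s x ≤ (Fin.last n).castSucc}ᶜ := by
      ext x
      simp only [Set.mem_setOf_eq, Set.mem_compl_iff, not_le]
      rw [Fin.lt_def, Fin.ext_iff, Fin.val_last, Fin.coe_castSucc, Fin.val_last]
      have := (s x).isLt
      omega
    rw [h]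
    exact (hs _).isOpen_compl
  let U : X.Opens := ⟨{x : X | s x = Fin.last (n + 1)}, hopen⟩
  have hU : (U : Set X) = {x : X | s x = Fin.last (n + 1)} := rfl
  obtain ⟨T, ι, h1, h2, h3, h4⟩ := hst (Fin.last (n + 1))
  haveI := h1
  haveI := h2
  haveI := h3
  have hUaff : IsAffineOpen U := isAffineOpen_of_range_eq ι U h4
  haveI : IsAffine U := hUaff
  haveI : IsAffineHom U.ι := isAffineHom_ι_of_range_eq ι U h4
  haveI : ((Scheme.Modules.restrictFunctor U.ι).obj F).IsQuasicoherent := inferInstance
  haveI hJq : ((Scheme.Modules.pushforward U.ι).obj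
      ((Scheme.Modules.restrictFunctor U.ι).obj F)).IsQuasicoherent :=
    isQuasicoherent_pushforward U.ι _
  obtain ⟨q, rfl⟩ : ∃ q, p = q + 1 := ⟨p - 1, by omega⟩
  have hJ : Subsingleton (Coh.HH X ((Scheme.Modules.pushforward U.ι).obj
      ((Scheme.Modules.restrictFunctor U.ι).obj F)) (q + 1)) :=
    Groth.Agent.Lib.T2H9.FBCAcyc.subsingleton_HH_pushforward U.ι _ (q + 1) (by omega)
  haveI : ((𝟭 X.Modules).obj F).IsQuasicoherent := hF
  haveI : ((Scheme.Modules.restrictFunctor U.ι ⋙ Scheme.Modules.pushforward U.ι).obj F).IsQuasicoherent :=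
    hJq
  haveI : (kernel ((Scheme.Modules.restrictAdjunction U.ι).unit.app F)).IsQuasicoherent :=
    isQuasicoherent_kernel _
  haveI : (cokernel ((Scheme.Modules.restrictAdjunction U.ι).unit.app F)).IsQuasicoherent :=
    isQuasicoherent_cokernel _
  have vK : Subsingleton (Coh.HH X (kernel ((Scheme.Modules.restrictAdjunction U.ι).unit.app F)) (q + 1)) :=
    subsingleton_HH_of_zeroOn n IH s hs hst U hU _ (zeroOn_kernel U F) (q + 1) (by omega)
  have vQ : Subsingleton (Coh.HH X (cokernel ((Scheme.Modules.restrictAdjunction U.ι).unit.app F)) q) :=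
    subsingleton_HH_of_zeroOn n IH s hs hst U hU _ (zeroOn_cokernel U F) q (by omega)
  have vI : Subsingleton (Coh.HH X (Abelian.image ((Scheme.Modules.restrictAdjunction U.ι).unit.app F))
      (q + 1)) :=
    subsingleton_left (scB ((Scheme.Modules.restrictAdjunction U.ι).unit.app F)) (scB_shortExact _) q vQ hJ
  exact subsingleton_mid (scA ((Scheme.Modules.restrictAdjunction U.ι).unit.app F)) (scA_shortExact _)
    (q + 1) vK vI

/-- **Cohomological dimension of a scheme with an affine stratification** (Stacks 0F2Y). -/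
theorem vanish : ∀ n : ℕ, Hyp.{u} n
  | 0 => base
  | n + 1 => step n (vanish n)

end Main

end Groth.Agent.Lib.T2H4.StratVanish
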