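import Mathlib
/-! Universal splitting algebra `R[t]/(e_i(t) - a_i)` is free with the staircase monomial basis (Artin basis). -/ 

set_option autoImplicit false
universe u

namespace Groth.Agent.Lib.T2H4.SymBasis

open Polynomial

variable {R : Type u} [CommRing R]

/-- The monic polynomial `T^n - a_0 T^(n-1) + a_1 T^(n-2) - ...`. -/
noncomputable def fpoly (n : ℕ) (a : Fin n → R) : R[X] :=
  X ^ n + ∑ k : Fin n, C ((-1) ^ ((k : ℕ) + 1) * a k) * X ^ (n - ((k : ℕ) + 1))

lemma map_fpoly {S : Type*} [CommRing S] (φ : R →+* S) (n : ℕ) (a : Fin n → R) :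
    (fpoly n a).map φ = fpoly n (fun k => φ (a k)) := by
  simp [fpoly, Polynomial.map_sum]

lemma vieta {S : Type*} [CommRing S] [Algebra R S] (n : ℕ) (s : Fin n → S) :
    ∏ i, (X - C (s i)) =
      fpoly n (fun k => MvPolynomial.aeval s (MvPolynomial.esymm (Fin n) R ((k : ℕ) + 1))) := by
  have h := Multiset.prod_X_sub_X_eq_sum_esymm (Finset.univ.val.map s)
  rw [Multiset.map_map, Multiset.card_map, Finset.card_val, Finset.card_univ, Fintype.card_fin,
    Finset.sum_range_succ'] at h
  rw [Finset.prod_eq_multiset_prod]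
  change _ = _ at h
  rw [show (Multiset.map (fun i => X - C (s i)) Finset.univ.val) =
    Multiset.map ((fun t => X - C t) ∘ s) Finset.univ.val from rfl, h, fpoly, add_comm]
  congr 1
  · simp [Multiset.esymm]
  · rw [← Fin.sum_univ_eq_sum_range (fun k => (-1 : S[X]) ^ (k + 1) *
      (C ((Multiset.map s Finset.univ.val).esymm (k + 1)) * X ^ (n - (k + 1)))) n]
    refine Finset.sum_congr rfl fun k _ => ?_
    rw [MvPolynomial.aeval_esymm_eq_multiset_esymm]
    simp [mul_assoc]

lemma fpoly_monic (n : ℕ) (a : Fin n → R) : (fpoly n a).Monic := by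
  refine Polynomial.monic_X_pow_add ?_
  refine lt_of_le_of_lt (Polynomial.degree_sum_le _ _) ?_
  rw [Finset.sup_lt_iff (by exact WithBot.bot_lt_coe n)]
  intro k _
  refine lt_of_le_of_lt (Polynomial.degree_C_mul_X_pow_le _ _) ?_
  have := k.2
  exact_mod_cast (by omega : n - ((k : ℕ) + 1) < n)

lemma fpoly_natDegree [Nontrivial R] (n : ℕ) (a : Fin n → R) : (fpoly n a).natDegree = n := by
  rw [fpoly, Polynomial.natDegree_add_eq_left_of_degree_lt, natDegree_X_pow]
  rw [degree_X_pow]
  refine lt_of_le_of_lt (Polynomial.degree_sum_le _ _) ?_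
  rw [Finset.sup_lt_iff (by exact WithBot.bot_lt_coe n)]
  intro k _
  refine lt_of_le_of_lt (Polynomial.degree_C_mul_X_pow_le _ _) ?_
  have := k.2
  exact_mod_cast (by omega : n - ((k : ℕ) + 1) < n)

lemma coeff_fpoly (n : ℕ) (a : Fin n → R) (k : Fin n) :
    (fpoly n a).coeff (n - ((k : ℕ) + 1)) = (-1) ^ ((k : ℕ) + 1) * a k := by
  have hk := k.2
  rw [fpoly, coeff_add, coeff_X_pow, if_neg (by omega), zero_add, finsetSum_coeff,
    Finset.sum_eq_single k]
  · rw [coeff_C_mul_X_pow, if_pos rfl]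
  · intro j _ hj
    rw [coeff_C_mul_X_pow, if_neg]
    intro h
    apply hj
    have := j.2
    apply Fin.ext
    omega
  · intro h; exact absurd (Finset.mem_univ k) h

lemma fpoly_inj (n : ℕ) (a b : Fin n → R) (h : fpoly n a = fpoly n b) : a = b := by
  funext k
  have h1 := coeff_fpoly n a k
  rw [h, coeff_fpoly] at h1
  have h2 : ((-1 : R) ^ ((k : ℕ) + 1)) * ((-1) ^ ((k : ℕ) + 1) * b k) =
      ((-1 : R) ^ ((k : ℕ) + 1)) * ((-1) ^ ((k : ℕ) + 1) * a k) := by rw [h1]
  rw [← mul_assoc, ← mul_assoc, ← pow_add, ← two_mul, pow_mul, neg_one_sq, one_pow, one_mul,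
    one_mul] at h2
  exact h2.symm

/-- key equivalence -/
lemma prod_eq_iff {S : Type*} [CommRing S] [Algebra R S] (n : ℕ) (a : Fin n → R) (s : Fin n → S) :
    (∏ i, (X - C (s i)) = (fpoly n a).map (algebraMap R S)) ↔
      ∀ k : Fin n, MvPolynomial.aeval s (MvPolynomial.esymm (Fin n) R ((k : ℕ) + 1)) =
        algebraMap R S (a k) := by
  rw [vieta (R := R), map_fpoly]
  constructor
  · intro h k
    exact congrFun (fpoly_inj n _ _ h) k
  · intro h
    congr 1
    funext k
    exact h k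


/-- A splitting model for the monic polynomial `f` of degree `n` with staircase bounds `m`. -/
def HasModel (R : Type u) [CommRing R] (n : ℕ) (m : Fin n → ℕ) (f : R[X]) : Prop :=
  ∃ (S : Type u) (_ : CommRing S) (_ : Algebra R S) (s : Fin n → S),
    (∏ i, (X - C (s i)) = f.map (algebraMap R S)) ∧
    (∃ b : Module.Basis (Π i, Fin (m i)) R S, ∀ d, b d = ∏ i, s i ^ ((d i : ℕ))) ∧
    (∀ (S' : Type u) [CommRing S'] [Algebra R S'] (s' : Fin n → S'),
      ∏ i, (X - C (s' i)) = f.map (algebraMap R S') →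
      ∃ g : S →ₐ[R] S', ∀ i, g (s i) = s' i)

theorem hasModel (n : ℕ) : ∀ (R : Type u) [CommRing R] (m : Fin n → ℕ)
    (_ : ∀ i, m i = n - (i : ℕ)) (f : R[X]) (_ : f.Monic) (_ : f.natDegree = n),
    HasModel R n m f := by
  induction n with
  | zero =>
    intro R _ m hm f hf hdeg
    have hf1 : f = 1 := Polynomial.eq_one_of_monic_natDegree_zero hf hdeg
    refine ⟨R, inferInstance, inferInstance, Fin.elim0, ?_, ⟨?_, ?_⟩, ?_⟩
    · simp [hf1]
    · exact Module.Basis.singleton _ R
    · intro d; simp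
    · intro S' _ _ s' _
      exact ⟨Algebra.ofId R S', fun i => i.elim0⟩
  | succ n ih =>
    intro R _ m hm f hf hdeg
    -- the first root
    let R' := AdjoinRoot f
    let r : R' := AdjoinRoot.root f
    let f' : R'[X] := f.map (AdjoinRoot.of f)
    let f₁ : R'[X] := f' /ₘ (X - C r)
    have hmul : (X - C r) * f₁ = f' :=
      Polynomial.mul_divByMonic_eq_iff_isRoot.mpr (AdjoinRoot.isRoot_root f)
    have hf' : f'.Monic := hf.map _
    have hf₁ : f₁.Monic := (Polynomial.monic_X_sub_C r).of_mul_monic_left (hmul ▸ hf')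
    haveI : Nontrivial R := by
      by_contra hnt
      rw [not_nontrivial_iff_subsingleton] at hnt
      have h1 : f.natDegree = 0 := by
        rw [Subsingleton.elim f 0]; simp
      omega
    haveI : Nontrivial R' := by
      have h0 : 0 < (AdjoinRoot.powerBasis' hf).dim := by
        rw [AdjoinRoot.powerBasis'_dim, hdeg]; omega
      have := (AdjoinRoot.powerBasis' hf).basis.ne_zero ⟨0, h0⟩
      exact ⟨⟨_, _, this⟩⟩
    have hdeg₁ : f₁.natDegree = n := by
      have h2 : f'.natDegree = n + 1 := by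
        rw [hf.natDegree_map]; exact hdeg
      have := Polynomial.natDegree_divByMonic f' (Polynomial.monic_X_sub_C r)
      rw [Polynomial.natDegree_X_sub_C, h2] at this
      exact this
    obtain ⟨S, instS, algS, s', h1', ⟨b', hb'⟩, hU'⟩ :=
      ih R' (fun j => m j.succ) (fun j => by rw [hm j.succ, Fin.val_succ]; omega) f₁ hf₁ hdeg₁
    letI algRS : Algebra R S := ((algebraMap R' S).comp (algebraMap R R')).toAlgebra
    haveI towS : IsScalarTower R R' S := IsScalarTower.of_algebraMap_eq (fun _ => rfl)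
    refine ⟨S, instS, algRS, Fin.cons (algebraMap R' S r) s', ?_, ?_, ?_⟩
    · -- product formula
      rw [Fin.prod_univ_succ]
      simp only [Fin.cons_zero, Fin.cons_succ]
      rw [h1', IsScalarTower.algebraMap_eq R R' S, ← Polynomial.map_map]
      change _ = Polynomial.map (algebraMap R' S) f'
      rw [← hmul, Polynomial.map_mul, Polynomial.map_sub, Polynomial.map_X, Polynomial.map_C]
    · -- basis
      let pb := AdjoinRoot.powerBasis' hf
      have hdim : pb.dim = m 0 := by
        rw [AdjoinRoot.powerBasis'_dim, hdeg, hm 0]; simp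
      let ε : Fin pb.dim × (Π j : Fin n, Fin (m j.succ)) ≃ Π i : Fin (n + 1), Fin (m i) :=
        (Equiv.prodCongr (finCongr hdim) (Equiv.refl _)).trans (Fin.consEquiv (fun i => Fin (m i)))
      refine ⟨(pb.basis.smulTower b').reindex ε, fun d => ?_⟩
      rw [Module.Basis.reindex_apply, Module.Basis.smulTower_apply, hb', Fin.prod_univ_succ]
      simp only [Fin.cons_zero, Fin.cons_succ]
      rw [PowerBasis.coe_basis, Algebra.smul_def, map_pow]
      rfl
    · -- universal property
      intro S'' _ _ s'' h''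
      have hroot : f.eval₂ (Algebra.ofId R S'' : R →+* S'') (s'' 0) = 0 := by
        have : (f.map (algebraMap R S'')).eval (s'' 0) = 0 := by
          rw [← h'', Polynomial.eval_prod]
          exact Finset.prod_eq_zero (Finset.mem_univ 0) (by simp)
        rwa [Polynomial.eval_map] at this
      let φ : R' →ₐ[R] S'' := AdjoinRoot.liftAlgHom f (Algebra.ofId R S'') (s'' 0) hroot
      letI alg' : Algebra R' S'' := φ.toRingHom.toAlgebra
      haveI tow' : IsScalarTower R R' S'' :=
        IsScalarTower.of_algebraMap_eq (fun x => (φ.commutes x).symm)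
      have hφr : algebraMap R' S'' r = s'' 0 := AdjoinRoot.liftAlgHom_root f _ _ hroot
      have hprod' : ∏ j : Fin n, (X - C (s'' j.succ)) = f₁.map (algebraMap R' S'') := by
        have h3 : (X - C (s'' 0)) * ∏ j : Fin n, (X - C (s'' j.succ)) =
            (X - C (s'' 0)) * f₁.map (algebraMap R' S'') := by
          rw [← Fin.prod_univ_succ (fun i => X - C (s'' i)), h'',
            IsScalarTower.algebraMap_eq R R' S'', ← Polynomial.map_map]
          change Polynomial.map (algebraMap R' S'') f' = _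
          rw [← hmul, Polynomial.map_mul, Polynomial.map_sub, Polynomial.map_X, Polynomial.map_C,
            hφr]
        exact (Polynomial.monic_X_sub_C (s'' 0)).isRegular.left h3
      obtain ⟨g', hg'⟩ := @hU' S'' _ alg' (fun j => s'' j.succ) hprod'
      refine ⟨g'.restrictScalars R, ?_⟩
      intro i
      refine Fin.cases ?_ (fun j => ?_) i
      · simp only [Fin.cons_zero, AlgHom.coe_restrictScalars']
        rw [AlgHom.commutes, hφr]
      · simp only [Fin.cons_succ, AlgHom.coe_restrictScalars']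
        exact hg' j


/-- The ideal generated by `e_{k+1}(t) - a_k`. -/
noncomputable def Ia (n : ℕ) (a : Fin n → R) : Ideal (MvPolynomial (Fin n) R) :=
  Ideal.span (Set.range fun i : Fin n =>
    MvPolynomial.esymm (Fin n) R ((i : ℕ) + 1) - MvPolynomial.C (a i))

theorem exists_basis (n : ℕ) (a : Fin n → R) (m : Fin n → ℕ) (hm : ∀ i, m i = n - (i : ℕ)) :
    ∃ b : Module.Basis (Π i, Fin (m i)) R (MvPolynomial (Fin n) R ⧸ Ia n a),
      ∀ d, b d = Ideal.Quotient.mk _ (∏ i, MvPolynomial.X i ^ ((d i : ℕ))) := by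
  rcases subsingleton_or_nontrivial R with hR | hR
  · haveI : Subsingleton (MvPolynomial (Fin n) R ⧸ Ia n a) := Module.subsingleton R _
    haveI : Subsingleton ((Π i, Fin (m i)) →₀ R) := Module.subsingleton R _
    exact ⟨Module.Basis.ofRepr (LinearEquiv.ofSubsingleton _ _), fun d => Subsingleton.elim _ _⟩
  obtain ⟨S, _, _, s, h1, ⟨b, hb⟩, hU⟩ :=
    hasModel n R m hm (fpoly n a) (fpoly_monic n a) (fpoly_natDegree n a)
  let π : MvPolynomial (Fin n) R →ₐ[R] S := MvPolynomial.aeval s
  have hπ : ∀ x ∈ Ia n a, π x = 0 := by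
    have : Ia n a ≤ RingHom.ker (π : MvPolynomial (Fin n) R →+* S) := by
      refine Ideal.span_le.mpr ?_
      rintro _ ⟨i, rfl⟩
      change π _ = 0
      rw [map_sub, (prod_eq_iff n a s).mp h1 i]
      simp [π]
    exact fun x hx => this hx
  let π' : (MvPolynomial (Fin n) R ⧸ Ia n a) →ₐ[R] S := Ideal.Quotient.liftₐ (Ia n a) π hπ
  let q : Fin n → (MvPolynomial (Fin n) R ⧸ Ia n a) :=
    fun i => Ideal.Quotient.mk _ (MvPolynomial.X i)
  have haq : (MvPolynomial.aeval q : MvPolynomial (Fin n) R →ₐ[R] _) =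
      Ideal.Quotient.mkₐ R (Ia n a) := by
    refine MvPolynomial.algHom_ext fun i => ?_
    simp [q]
  have hq : ∏ i, (X - C (q i)) =
      (fpoly n a).map (algebraMap R (MvPolynomial (Fin n) R ⧸ Ia n a)) := by
    refine (prod_eq_iff n a q).mpr fun k => ?_
    rw [haq]
    change Ideal.Quotient.mk _ _ = Ideal.Quotient.mk _ (MvPolynomial.C (a k))
    exact Ideal.Quotient.eq.mpr (Ideal.subset_span ⟨k, rfl⟩)
  obtain ⟨g, hg⟩ := hU _ q hq
  have hπq : ∀ i, π' (q i) = s i := by
    intro i
    change π' (Ideal.Quotient.mk _ _) = _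
    rw [Ideal.Quotient.liftₐ_apply, Ideal.Quotient.lift_mk]
    simp [π]
  have h_left : g.comp π' = AlgHom.id R _ := by
    refine Ideal.Quotient.algHom_ext _ ?_
    refine MvPolynomial.algHom_ext fun i => ?_
    change g (π' (q i)) = q i
    rw [hπq, hg]
  have h_right : π'.toLinearMap ∘ₗ g.toLinearMap = LinearMap.id := by
    refine b.ext fun d => ?_
    change π' (g (b d)) = b d
    rw [hb, map_prod, map_prod]
    refine Finset.prod_congr rfl fun i _ => ?_
    rw [map_pow, map_pow, hg, hπq]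
  let e : S ≃ₗ[R] (MvPolynomial (Fin n) R ⧸ Ia n a) :=
    LinearEquiv.ofLinearMap g.toLinearMap π'.toLinearMap
      (LinearMap.ext fun x => congrArg (fun h : _ →ₐ[R] _ => h x) h_left) h_right
  refine ⟨b.map e, fun d => ?_⟩
  rw [Module.Basis.map_apply, hb]
  change g _ = _
  rw [map_prod, map_prod]
  refine Finset.prod_congr rfl fun i _ => ?_
  rw [map_pow, map_pow, hg]


/-- The staircase sum attached to a coefficient family. -/
noncomputable def stairSum (n : ℕ) (m : Fin n → ℕ) (γ : (Π i, Fin (m i)) → R) :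
    MvPolynomial (Fin n) R :=
  ∑ d : (Π i, Fin (m i)), MvPolynomial.C (γ d) * ∏ i : Fin n, MvPolynomial.X i ^ ((d i : ℕ))

lemma mk_stairSum (n : ℕ) (a : Fin n → R) (m : Fin n → ℕ)
    (b : Module.Basis (Π i, Fin (m i)) R (MvPolynomial (Fin n) R ⧸ Ia n a))
    (hb : ∀ d, b d = Ideal.Quotient.mk _ (∏ i, MvPolynomial.X i ^ ((d i : ℕ))))
    (γ : (Π i, Fin (m i)) → R) :
    Ideal.Quotient.mk (Ia n a) (stairSum n m γ) = ∑ d, γ d • b d := by
  rw [stairSum, map_sum]
  refine Finset.sum_congr rfl fun d _ => ?_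
  rw [hb, ← MvPolynomial.smul_eq_C_mul]
  rfl

lemma exists_stairSum (n : ℕ) (a : Fin n → R) (m : Fin n → ℕ) (hm : ∀ i, m i = n - (i : ℕ))
    (x : MvPolynomial (Fin n) R) :
    ∃ γ : (Π i, Fin (m i)) → R, x - stairSum n m γ ∈ Ia n a := by
  obtain ⟨b, hb⟩ := exists_basis n a m hm
  refine ⟨b.equivFun (Ideal.Quotient.mk _ x), ?_⟩
  rw [← Ideal.Quotient.eq, mk_stairSum n a m b hb]
  exact (b.sum_equivFun _).symm

lemma stairSum_mem_iff_zero (n : ℕ) (a : Fin n → R) (m : Fin n → ℕ) (hm : ∀ i, m i = n - (i : ℕ))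
    (γ : (Π i, Fin (m i)) → R) (h : stairSum n m γ ∈ Ia n a) : ∀ d, γ d = 0 := by
  obtain ⟨b, hb⟩ := exists_basis n a m hm
  have h0 : ∑ d, γ d • b d = 0 := by
    rw [← mk_stairSum n a m b hb, Ideal.Quotient.eq_zero_iff_mem]
    exact h
  exact Fintype.linearIndependent_iff.mp b.linearIndependent γ h0

lemma mem_of_stairSum_mem (n : ℕ) (a : Fin n → R) (J : Ideal R) (m : Fin n → ℕ)
    (hm : ∀ i, m i = n - (i : ℕ)) (γ : (Π i, Fin (m i)) → R)
    (h : stairSum n m γ ∈ Ia n a ⊔ Ideal.map (MvPolynomial.C : R →+* MvPolynomial (Fin n) R) J) :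
    ∀ d, γ d ∈ J := by
  let ρ : MvPolynomial (Fin n) R →+* MvPolynomial (Fin n) (R ⧸ J) :=
    MvPolynomial.map (Ideal.Quotient.mk J)
  have hle : Ia n a ⊔ Ideal.map (MvPolynomial.C : R →+* MvPolynomial (Fin n) R) J ≤
      Ideal.comap ρ (Ia n (fun i => Ideal.Quotient.mk J (a i))) := by
    refine sup_le ?_ ?_
    · refine Ideal.span_le.mpr ?_
      rintro _ ⟨i, rfl⟩
      refine Ideal.mem_comap.mpr ?_
      rw [map_sub, MvPolynomial.map_esymm, MvPolynomial.map_C]
      exact Ideal.subset_span ⟨i, rfl⟩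
    · refine Ideal.map_le_iff_le_comap.mpr fun j hj => ?_
      refine Ideal.mem_comap.mpr (Ideal.mem_comap.mpr ?_)
      rw [MvPolynomial.map_C, Ideal.Quotient.eq_zero_iff_mem.mpr hj, map_zero]
      exact zero_mem _
  have h2 : stairSum n m (fun d => Ideal.Quotient.mk J (γ d)) ∈
      Ia n (fun i => Ideal.Quotient.mk J (a i)) := by
    have := Ideal.mem_comap.mp (hle h)
    rw [stairSum, map_sum] at this
    rw [stairSum]
    convert this using 2 with d
    simp [ρ]
  intro d
  exact Ideal.Quotient.eq_zero_iff_mem.mp (stairSum_mem_iff_zero n _ m hm _ h2 d)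

lemma stairSum_mem_map (n : ℕ) (J : Ideal R) (m : Fin n → ℕ) (γ : (Π i, Fin (m i)) → R)
    (h : ∀ d, γ d ∈ J) :
    stairSum n m γ ∈ Ideal.map (MvPolynomial.C : R →+* MvPolynomial (Fin n) R) J :=
  Ideal.sum_mem _ fun d _ => Ideal.mul_mem_right _ _ (Ideal.mem_map_of_mem _ (h d))

lemma stairSum_sub (n : ℕ) (m : Fin n → ℕ) (α β : (Π i, Fin (m i)) → R) :
    stairSum n m α - stairSum n m β = stairSum n m (fun d => α d - β d) := by
  simp only [stairSum, ← Finset.sum_sub_distrib, map_sub, sub_mul]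

theorem main3 (n : ℕ) (a : Fin n → R) (J : Ideal R) (m : Fin n → ℕ)
    (hm : ∀ i, m i = n - (i : ℕ)) (α β : (Π i, Fin (m i)) → R) :
    stairSum n m α - stairSum n m β ∈
      Ia n a ⊔ Ideal.map (MvPolynomial.C : R →+* MvPolynomial (Fin n) R) J ↔
    ∀ d, α d - β d ∈ J := by
  rw [stairSum_sub]
  constructor
  · exact mem_of_stairSum_mem n a J m hm _
  · intro h
    exact Ideal.mem_sup_right (stairSum_mem_map n J m _ h)

theorem main4 (n : ℕ) (a : Fin n → R) (J : Ideal R) (m : Fin n → ℕ)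
    (hm : ∀ i, m i = n - (i : ℕ)) (x : MvPolynomial (Fin n) R) :
    x ∈ Ia n a ⊔ Ideal.map (MvPolynomial.C : R →+* MvPolynomial (Fin n) R) J ↔
    ∃ j : (Π i, Fin (m i)) → R, (∀ d, j d ∈ J) ∧ x - stairSum n m j ∈ Ia n a := by
  constructor
  · intro hx
    obtain ⟨γ, hγ⟩ := exists_stairSum n a m hm x
    refine ⟨γ, ?_, hγ⟩
    refine mem_of_stairSum_mem n a J m hm γ ?_
    have : stairSum n m γ = x - (x - stairSum n m γ) := by ring
    rw [this]
    exact sub_mem hx (Ideal.mem_sup_left hγ)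
  · rintro ⟨j, hj, hx⟩
    have : x = (x - stairSum n m j) + stairSum n m j := by ring
    rw [this]
    exact add_mem (Ideal.mem_sup_left hx) (Ideal.mem_sup_right (stairSum_mem_map n J m j hj))

end Groth.Agent.Lib.T2H4.SymBasis
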