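import Groth.Agent.Lib.T2H4SymBasis
/-! `ℤ[t]` is free over `ℤ[e_1..e_n]` with the staircase basis (via `T2H4SymBasis.exists_basis`). -/

set_option autoImplicit false
universe u

namespace Groth.Agent.Lib.T2H4.SymBasis

open MvPolynomial

section IntCase

variable (n : ℕ)

/-- coefficient ring `ℤ[c]` -/
abbrev PP := MvPolynomial (Fin n) ℤ

/-- elementary symmetric polynomials -/
noncomputable def ee : Fin n → MvPolynomial (Fin n) ℤ :=
  fun i => MvPolynomial.esymm (Fin n) ℤ ((i : ℕ) + 1)

/-- the substitution `c_i ↦ e_i(t)` on `ℤ[c][t] → ℤ[t]`. -/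
noncomputable def psi : MvPolynomial (Fin n) (PP n) →+* MvPolynomial (Fin n) ℤ :=
  MvPolynomial.eval₂Hom
    ((MvPolynomial.aeval (ee n) : PP n →ₐ[ℤ] MvPolynomial (Fin n) ℤ) : PP n →+* _) MvPolynomial.X

/-- inclusion `ℤ[t] → ℤ[c][t]`. -/
noncomputable def iot : MvPolynomial (Fin n) ℤ →+* MvPolynomial (Fin n) (PP n) :=
  MvPolynomial.map (algebraMap ℤ (PP n))

lemma psi_esymm (j : ℕ) : psi n (MvPolynomial.esymm (Fin n) (PP n) j) =
    MvPolynomial.esymm (Fin n) ℤ j := by
  simp only [MvPolynomial.esymm, map_sum, map_prod, psi, MvPolynomial.eval₂Hom_X']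

lemma psi_mem (x : MvPolynomial (Fin n) (PP n))
    (hx : x ∈ Ia n (fun i => (MvPolynomial.X i : PP n))) : psi n x = 0 := by
  have : Ia n (fun i => (MvPolynomial.X i : PP n)) ≤ RingHom.ker (psi n) := by
    refine Ideal.span_le.mpr ?_
    rintro _ ⟨i, rfl⟩
    change psi n _ = 0
    rw [map_sub, psi_esymm]
    simp [psi, ee]
  exact this hx

lemma psi_iot : (psi n).comp (iot n) = RingHom.id _ := by
  refine MvPolynomial.ringHom_ext (fun z => ?_) (fun i => ?_)
  · simp [psi, iot]
  · simp [psi, iot]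

lemma mk_iot_psi :
    (Ideal.Quotient.mk (Ia n (fun i => (MvPolynomial.X i : PP n)))).comp ((iot n).comp (psi n)) =
      Ideal.Quotient.mk (Ia n (fun i => (MvPolynomial.X i : PP n))) := by
  refine MvPolynomial.ringHom_ext (fun p => ?_) (fun i => ?_)
  · -- two ring homs `PP n → Q`
    have : ((Ideal.Quotient.mk (Ia n (fun i => (MvPolynomial.X i : PP n)))).comp
        ((iot n).comp (psi n))).comp MvPolynomial.C =
        (Ideal.Quotient.mk (Ia n (fun i => (MvPolynomial.X i : PP n)))).comp MvPolynomial.C := by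
      refine MvPolynomial.ringHom_ext (fun z => ?_) (fun k => ?_)
      · simp [psi, iot]
      · simp only [RingHom.comp_apply]
        have h1 : psi n (MvPolynomial.C (MvPolynomial.X k)) = ee n k := by simp [psi]
        rw [h1, ee, iot, MvPolynomial.map_esymm]
        exact Ideal.Quotient.eq.mpr (Ideal.subset_span ⟨k, rfl⟩)
    exact congrArg (fun h : PP n →+* _ => h p) this
  · simp [psi, iot]

theorem main2 (m : Fin n → ℕ) (hm : ∀ i, m i = n - (i : ℕ)) :
    Function.Bijective (fun p : (Π i, Fin (m i)) → MvPolynomial (Fin n) ℤ =>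
      ∑ d : (Π i, Fin (m i)),
        (MvPolynomial.aeval (fun i : Fin n => MvPolynomial.esymm (Fin n) ℤ ((i : ℕ) + 1))) (p d) *
          ∏ i : Fin n, MvPolynomial.X i ^ ((d i : ℕ))) := by
  obtain ⟨b, hb⟩ := exists_basis n (fun i => (MvPolynomial.X i : PP n)) m hm
  let ψ' : (MvPolynomial (Fin n) (PP n) ⧸ Ia n (fun i => (MvPolynomial.X i : PP n))) →+*
      MvPolynomial (Fin n) ℤ := Ideal.Quotient.lift _ (psi n) (psi_mem n)
  have hbij : Function.Bijective ψ' := by
    constructor
    · rw [injective_iff_map_eq_zero]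
      intro y hy
      obtain ⟨x, rfl⟩ := Ideal.Quotient.mk_surjective y
      have h0 : psi n x = 0 := hy
      have h1 := congrArg (fun h : _ →+* _ => h x) (mk_iot_psi n)
      simp only [RingHom.comp_apply] at h1
      rw [← h1, h0, map_zero, map_zero]
    · intro y
      refine ⟨Ideal.Quotient.mk _ (iot n y), ?_⟩
      change psi n (iot n y) = y
      exact congrArg (fun h : _ →+* _ => h y) (psi_iot n)
  have hF : (fun p : (Π i, Fin (m i)) → MvPolynomial (Fin n) ℤ =>
      ∑ d : (Π i, Fin (m i)),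
        (MvPolynomial.aeval (fun i : Fin n => MvPolynomial.esymm (Fin n) ℤ ((i : ℕ) + 1))) (p d) *
          ∏ i : Fin n, MvPolynomial.X i ^ ((d i : ℕ))) = ψ' ∘ b.equivFun.symm := by
    funext p
    rw [Function.comp_apply, Module.Basis.equivFun_symm_apply, map_sum]
    refine Finset.sum_congr rfl fun d _ => ?_
    have h2 : p d • b d = Ideal.Quotient.mk _
        (MvPolynomial.C (p d) * ∏ i : Fin n, MvPolynomial.X i ^ ((d i : ℕ))) := by
      rw [hb, ← MvPolynomial.smul_eq_C_mul]
      rfl
    rw [h2]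
    change _ = psi n _
    rw [map_mul, map_prod]
    simp only [map_pow]
    have h3 : psi n (MvPolynomial.C (p d)) =
        (MvPolynomial.aeval (fun i : Fin n => MvPolynomial.esymm (Fin n) ℤ ((i : ℕ) + 1))) (p d) := by
      simp [psi]; rfl
    have h4 : ∀ i : Fin n, psi n (MvPolynomial.X i) = MvPolynomial.X i := by
      intro i; simp [psi]
    rw [h3]
    simp only [h4]
  rw [hF]
  exact hbij.comp b.equivFun.symm.bijective

end IntCase

end Groth.Agent.Lib.T2H4.SymBasis
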