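import Mathlib
import Groth.Agent.Lib.Helper13TorMore

/-!
# `Tor_1` against finite length quotients over one-dimensional domains
-/

set_option autoImplicit false
universe u
open CategoryTheory CategoryTheory.Limits MonoidalCategory TensorProduct
open Groth.Agent.Helper13Tor

namespace Groth.Agent.Lib.T2H4.TFTor

section alg

variable {O : Type u} [CommRing O] [IsDomain O]

/-- a finitely generated module of finite length over a domain which is not a field is killed by
a nonzero element. -/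
theorem exists_ne_zero_smul_eq_zero (hO : ¬ IsField O) (T : Type u) [AddCommGroup T] [Module O T]
    [Module.Finite O T] (hT : IsFiniteLength O T) : ∃ r : O, r ≠ 0 ∧ ∀ t : T, r • t = 0 := by
  classical
  obtain ⟨hN, hA⟩ := isFiniteLength_iff_isNoetherian_isArtinian.1 hT
  have htors : ∀ t : T, ∃ r : O, r ≠ 0 ∧ r • t = 0 := by
    intro t
    by_contra hcon
    push Not at hcon
    have hinj : Function.Injective (LinearMap.toSpanSingleton O T t) := by
      rw [← LinearMap.ker_eq_bot, eq_bot_iff]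
      intro a ha
      by_contra ha0
      exact hcon a ha0 ha
    have : IsArtinian O O := isArtinian_of_injective _ hinj
    have : IsArtinianRing O := ‹_›
    exact hO (IsArtinianRing.isField_of_isDomain O)
  obtain ⟨s, hs⟩ := (Module.Finite.fg_top (R := O) (M := T))
  choose c hc0 hc using htors
  refine ⟨∏ t ∈ s, c t, Finset.prod_ne_zero_iff.2 fun t _ => hc0 t, ?_⟩
  intro t
  have ht : t ∈ Submodule.span O (s : Set T) := by rw [hs]; trivial
  refine Submodule.span_induction ?_ ?_ ?_ ?_ ht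
  · intro x hx
    rw [← Finset.mul_prod_erase s c hx, mul_comm, mul_smul, hc, smul_zero]
  · simp
  · intro x y _ _ hx hy
    rw [smul_add, hx, hy, add_zero]
  · intro a x _ hx
    rw [smul_comm, hx, smul_zero]

variable {A B : Type u} [AddCommGroup A] [Module O A] [AddCommGroup B] [Module O B]

omit [IsDomain O] in
/-- a quasi-inverse up to multiplication by `r`. -/
theorem exists_quasiInverse (g : A →ₗ[O] B) (hg : Function.Injective g) (r : O)
    (hr : ∀ t : B ⧸ LinearMap.range g, r • t = 0) :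
    ∃ h : B →ₗ[O] A, (∀ a, h (g a) = r • a) ∧ (∀ b, g (h b) = r • b) := by
  have hmem : ∀ b : B, r • b ∈ LinearMap.range g := by
    intro b
    have := hr (Submodule.Quotient.mk b)
    rw [← Submodule.Quotient.mk_smul, Submodule.Quotient.mk_eq_zero] at this
    exact this
  let e := LinearEquiv.ofInjective g hg
  let h : B →ₗ[O] A := e.symm.toLinearMap ∘ₗ
    (LinearMap.codRestrict (LinearMap.range g) (r • LinearMap.id) (fun b => hmem b))
  have h2 : ∀ b, g (h b) = r • b := by
    intro b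
    have : (e (h b) : B) = r • b := by
      simp [h]
    exact this
  refine ⟨h, ?_, h2⟩
  intro a
  apply hg
  rw [h2, map_smul]

section tensor

variable (X : Type u) [AddCommGroup X] [Module O X] [NoZeroSMulDivisors O X]

instance noZeroSMulDivisors_tensor_pi (n : ℕ) :
    NoZeroSMulDivisors O (X ⊗[O] (Fin n → O)) :=
  Function.Injective.noZeroSMulDivisors (TensorProduct.piScalarRight O O X (Fin n))
    (LinearEquiv.injective _) (map_zero _) (fun c x => map_smul _ c x)

variable {M : Type u} [AddCommGroup M] [Module O M] {n : ℕ}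

theorem lTensor_injective_of_quasiInverse (f : (Fin n → O) →ₗ[O] M) (h : M →ₗ[O] (Fin n → O))
    (r : O) (hr : r ≠ 0) (hhf : ∀ a, h (f a) = r • a) :
    Function.Injective (LinearMap.lTensor X f) := by
  have hcomp : (LinearMap.lTensor X h) ∘ₗ (LinearMap.lTensor X f) = r • LinearMap.id := by
    rw [← LinearMap.lTensor_comp]
    have : h ∘ₗ f = r • LinearMap.id := LinearMap.ext hhf
    rw [this, LinearMap.lTensor_smul, LinearMap.lTensor_id]
  intro z z' hz
  have h1 : r • z = r • z' := by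
    have e1 := LinearMap.congr_fun hcomp z
    have e2 := LinearMap.congr_fun hcomp z'
    simp only [LinearMap.comp_apply, LinearMap.smul_apply, LinearMap.id_apply] at e1 e2
    rw [← e1, ← e2, hz]
  exact smul_right_injective _ hr h1

theorem torsion_eq_ker_lTensor (g : M →ₗ[O] (Fin n → O)) (h : (Fin n → O) →ₗ[O] M)
    (r : O) (hr : r ≠ 0) (hhg : ∀ a, h (g a) = r • a) :
    Submodule.torsion O (X ⊗[O] M) = LinearMap.ker (LinearMap.lTensor X g) := by
  have hcomp : (LinearMap.lTensor X h) ∘ₗ (LinearMap.lTensor X g) = r • LinearMap.id := by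
    rw [← LinearMap.lTensor_comp]
    have : h ∘ₗ g = r • LinearMap.id := LinearMap.ext hhg
    rw [this, LinearMap.lTensor_smul, LinearMap.lTensor_id]
  ext z
  rw [Submodule.mem_torsion_iff, LinearMap.mem_ker]
  constructor
  · rintro ⟨⟨s, hs⟩, hsz⟩
    have hs0 : s ≠ 0 := nonZeroDivisors.ne_zero hs
    have h1 : s • (LinearMap.lTensor X g z) = 0 := by
      rw [← map_smul]
      have : s • z = 0 := hsz
      rw [this, map_zero]
    exact (smul_eq_zero.1 h1).resolve_left hs0
  · intro hz
    refine ⟨⟨r, mem_nonZeroDivisors_of_ne_zero hr⟩, ?_⟩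
    have e1 := LinearMap.congr_fun hcomp z
    simp only [LinearMap.comp_apply, LinearMap.smul_apply, LinearMap.id_apply] at e1
    show r • z = 0
    rw [← e1, hz, map_zero]

end tensor

end alg

section tor

variable {R : Type u} [CommRing R]

/-- second variable: for `0 → Y₁ → Y₂ → Y₃ → 0` with `Tor_1(X, Y₂) = 0`,
`Tor_1(X, Y₃) ≃ ker (X ⊗ Y₁ → X ⊗ Y₂)`. -/
theorem tor₂_one_equiv_ker (X : ModuleCat.{u} R) (S : ShortComplex (ModuleCat.{u} R))
    (hS : S.ShortExact) (h₂ : IsZero (((Tor (ModuleCat.{u} R) 1).obj X).obj S.X₂)) :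
    Nonempty ((((Tor (ModuleCat.{u} R) 1).obj X).obj S.X₃) ≃ₗ[R]
      LinearMap.ker (LinearMap.lTensor X S.f.hom)) := by
  obtain ⟨δ, w₁, w₂, hex₁, hex₂⟩ := tor₂_exists_δ X S hS 0
  have hδ : Mono δ := hex₁.mono_g (h₂.eq_of_src _ _)
  let e₁ := (torZeroIso.app X).app S.X₁
  let e₂ := (torZeroIso.app X).app S.X₂
  have nat : ((Tor (ModuleCat.{u} R) 0).obj X).map S.f ≫ e₂.hom = e₁.hom ≫ (X ◁ S.f) :=
    (torZeroIso (R := R).app X).hom.naturality S.f
  have w' : (δ ≫ e₁.hom) ≫ (X ◁ S.f) = 0 := by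
    rw [Category.assoc, ← nat, reassoc_of% w₂, zero_comp]
  have hex : (ShortComplex.mk (δ ≫ e₁.hom) (X ◁ S.f) w').Exact := by
    refine ShortComplex.exact_of_iso (ShortComplex.isoMk (S₁ := ShortComplex.mk _ _ w₂)
      (S₂ := ShortComplex.mk (δ ≫ e₁.hom) (X ◁ S.f) w') (Iso.refl _) e₁ e₂ ?_ ?_) hex₂
    · simp
    · exact nat.symm
  have inj : Function.Injective (δ ≫ e₁.hom).hom :=
    (ModuleCat.mono_iff_injective _).1 (mono_comp _ _)
  have rng := (ShortComplex.moduleCat_exact_iff_range_eq_ker _).1 hex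
  exact ⟨(LinearEquiv.ofInjective (δ ≫ e₁.hom).hom inj).trans (LinearEquiv.ofEq _ _ rng)⟩

/-- second variable: for `0 → Y₁ → Y₂ → Y₃ → 0` with `Tor_1(X, Y₁) = 0` and `X ⊗ Y₁ → X ⊗ Y₂`
injective, `Tor_1(X, Y₂) ≅ Tor_1(X, Y₃)`. -/
theorem tor₂_one_iso (X : ModuleCat.{u} R) (S : ShortComplex (ModuleCat.{u} R))
    (hS : S.ShortExact) (h₁ : IsZero (((Tor (ModuleCat.{u} R) 1).obj X).obj S.X₁))
    (hinj : Function.Injective (LinearMap.lTensor X S.f.hom)) :
    Nonempty ((((Tor (ModuleCat.{u} R) 1).obj X).obj S.X₂) ≅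
      (((Tor (ModuleCat.{u} R) 1).obj X).obj S.X₃)) := by
  obtain ⟨δ, w₁, w₂, hex₁, hex₂⟩ := tor₂_exists_δ X S hS 0
  have hmono0 : Mono (((Tor (ModuleCat.{u} R) 0).obj X).map S.f) :=
    (mono_tor_zero_map_iff X S.f).2 hinj
  have hδ : δ = 0 := by
    rw [← cancel_mono (((Tor (ModuleCat.{u} R) 0).obj X).map S.f), w₂, zero_comp]
  have hepi : Epi (((Tor (ModuleCat.{u} R) (0 + 1)).obj X).map S.g) := hex₁.epi_f hδ
  have hmono : Mono (((Tor (ModuleCat.{u} R) 1).obj X).map S.g) :=
    (tor₂_exact₂ X S hS 1).mono_g (h₁.eq_of_src _ _)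
  have : IsIso (((Tor (ModuleCat.{u} R) 1).obj X).map S.g) :=
    isIso_of_mono_of_epi _
  exact ⟨asIso (((Tor (ModuleCat.{u} R) 1).obj X).map S.g)⟩

end tor

section final

variable {O : Type u} [CommRing O] [IsDomain O]
  (X : Type u) [AddCommGroup X] [Module O X] [NoZeroSMulDivisors O X]
  {A B : Type u} [AddCommGroup A] [Module O A] [AddCommGroup B] [Module O B]

/-- `0 → A → B → B / range g → 0`. -/
noncomputable def quotSC (g : A →ₗ[O] B) : ShortComplex (ModuleCat.{u} O) :=
  ShortComplex.mk (ModuleCat.ofHom g) (ModuleCat.ofHom (LinearMap.range g).mkQ) (by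
    ext x
    exact (Submodule.Quotient.mk_eq_zero _).2 ⟨x, rfl⟩)

omit [IsDomain O] in
theorem quotSC_shortExact (g : A →ₗ[O] B) (hg : Function.Injective g) :
    (quotSC g).ShortExact := by
  have hex : (quotSC g).Exact := by
    rw [ShortComplex.moduleCat_exact_iff]
    intro x hx
    exact (Submodule.Quotient.mk_eq_zero _).1 hx
  refine ShortComplex.ShortExact.mk' hex ?_ ?_
  · exact (ModuleCat.mono_iff_injective _).2 hg
  · exact (ModuleCat.epi_iff_surjective _).2 (Submodule.mkQ_surjective _)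

theorem main1 (hO : ¬ IsField O) {M : Type u} [AddCommGroup M] [Module O M] [Module.Finite O M]
    (n : ℕ) (f : (Fin n → O) →ₗ[O] M) (hf : Function.Injective f)
    (hT : IsFiniteLength O (M ⧸ LinearMap.range f)) :
    Nonempty (((Tor (ModuleCat.{u} O) 1).obj (ModuleCat.of O X)).obj (ModuleCat.of O M) ≅
      ((Tor (ModuleCat.{u} O) 1).obj (ModuleCat.of O X)).obj
        (ModuleCat.of O (M ⧸ LinearMap.range f))) ∧
      Function.Injective (LinearMap.lTensor X f) := by
  obtain ⟨r, hr0, hr⟩ := exists_ne_zero_smul_eq_zero hO (M ⧸ LinearMap.range f) hT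
  obtain ⟨h, hhf, -⟩ := exists_quasiInverse f hf r hr
  have inj := lTensor_injective_of_quasiInverse X f h r hr0 hhf
  refine ⟨?_, inj⟩
  have hfl : Module.Flat O ((quotSC f).X₁) := inferInstanceAs (Module.Flat O (Fin n → O))
  exact tor₂_one_iso (ModuleCat.of O X) (quotSC f) (quotSC_shortExact f hf)
    (isZero_tor_of_flat_right _ _ 1 Nat.one_pos) inj

theorem main2 (hO : ¬ IsField O) {M : Type u} [AddCommGroup M] [Module O M]
    (n : ℕ) (g : M →ₗ[O] (Fin n → O)) (hg : Function.Injective g)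
    (hT : IsFiniteLength O ((Fin n → O) ⧸ LinearMap.range g)) :
    Nonempty (↥(Submodule.torsion O (TensorProduct O X M)) ≃ₗ[O]
      ↑(((Tor (ModuleCat.{u} O) 1).obj (ModuleCat.of O X)).obj
        (ModuleCat.of O ((Fin n → O) ⧸ LinearMap.range g)))) := by
  obtain ⟨r, hr0, hr⟩ := exists_ne_zero_smul_eq_zero hO ((Fin n → O) ⧸ LinearMap.range g) hT
  obtain ⟨h, hhg, -⟩ := exists_quasiInverse g hg r hr
  have heq := torsion_eq_ker_lTensor X g h r hr0 hhg
  have hfl : Module.Flat O ((quotSC g).X₂) := inferInstanceAs (Module.Flat O (Fin n → O))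
  obtain ⟨e⟩ := tor₂_one_equiv_ker (ModuleCat.of O X) (quotSC g) (quotSC_shortExact g hg)
    (isZero_tor_of_flat_right _ _ 1 Nat.one_pos)
  exact ⟨(LinearEquiv.ofEq _ _ heq).trans e.symm⟩

theorem noZeroSMulDivisors_integralClosure (K : Type u) [Field K] [Algebra O K]
    [IsFractionRing O K] : NoZeroSMulDivisors O ↥(integralClosure O K) := by
  refine ⟨fun {c x} h => ?_⟩
  have h1 : algebraMap O K c * (x : K) = 0 := by
    have := congrArg (fun y : ↥(integralClosure O K) => (y : K)) h
    simpa [Algebra.smul_def] using this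
  rcases mul_eq_zero.1 h1 with h2 | h2
  · left
    exact (IsFractionRing.injective O K) (by rw [h2, map_zero])
  · right
    exact Subtype.ext h2

end final

end Groth.Agent.Lib.T2H4.TFTor
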