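import Groth.Agent.Lib.T2H4TensComp

/-!
# Derived completion commutes with `- ⊗^L F`, `F` pseudo-coherent (helper4, T2H4)

* `exists_peel`: peeling off the top term of a bounded above complex (chain level).
* `tensorSingleIso`: `P₀ ⊗ N[-c] ≅ (N ⊗ P₀)[-c]`.
* `isDerivedComplete_tensor_of_finiteFree`: `P₀ ⊗ F` is derived complete for `P₀` bounded above,
  termwise flat and derived complete and `F` a bounded above complex of finite free modules.
* `core_cx`, `ltensorCx_completion` (S7103).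
-/

set_option autoImplicit false
universe u v w
open CategoryTheory CategoryTheory.Limits DerivedCategory Pretriangulated MonoidalCategory
attribute [local instance] HasDerivedCategory.standard

namespace Groth.Agent.Lib.T2H4.TensComp

open Groth.Agent.Lib.T2H4.DComp Groth.Agent.Lib.T2H4.GNoeth Groth.Agent.Lib.T2H4.Bousfield
  Groth.Agent.Lib.T2H4.TorsBC Groth.Agent.Lib.T2H4.TorsBC3 Groth.Agent.Lib.Helper1.KF
  Groth.Agent.Lib.Helper10.DerComplete

section ACx

variable {A : Type u} [CommRing A]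

open Groth.Agent.Lib.Helper1.Tor Groth.Agent.Lib.Helper1.TorM Groth.Agent.Lib.Helper1.TensPerf
  Groth.Agent.Lib.Helper1.DT HomologicalComplex

/-- peeling off the top term of a bounded above complex, at the chain level. -/
lemma exists_peel (E : DRing.Cx A) (c : ℤ) (hE : DRing.VanishesAbove E c) :
    ∃ (C : DRing.Cx A) (ι : (single (ModuleCat.{u} A) (ComplexShape.up ℤ) c).obj (E.X c) ⟶ E)
      (π : E ⟶ C) (w : ι ≫ π = 0), (ShortComplex.mk ι π w).ShortExact ∧ IsZero (C.X c) ∧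
        ∀ i : ℤ, i ≠ c → Nonempty (E.X i ≅ C.X i) := by
  obtain ⟨ι, hι⟩ : ∃ ι : (single (ModuleCat.{u} A) (ComplexShape.up ℤ) c).obj (E.X c) ⟶ E,
      ι.f c = (singleObjXSelf (ComplexShape.up ℤ) c (E.X c)).hom :=
    ⟨mkHomFromSingle (𝟙 _) (fun k hk => by
      obtain rfl : c + 1 = k := hk
      exact (hE (c + 1) (by lia)).eq_of_tgt _ _), by
      rw [mkHomFromSingle_f, Category.comp_id]⟩
  have hmono : Mono ι := by
    apply HomologicalComplex.mono_of_mono_f
    intro i
    by_cases hi : i = c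
    · subst hi
      rw [hι]
      infer_instance
    · exact (isZero_single_obj_X (ComplexShape.up ℤ) c (E.X c) i hi).mono _
  let S : ShortComplex (DRing.Cx A) :=
    ShortComplex.mk ι (cokernel.π ι) (cokernel.condition ι)
  have hS : S.ShortExact :=
    { exact := ShortComplex.exact_cokernel ι
      mono_f := hmono
      epi_g := inferInstanceAs (Epi (cokernel.π ι)) }
  have hSi : ∀ i : ℤ, (S.map (eval _ _ i)).ShortExact :=
    (HomologicalComplex.shortExact_iff_degreewise_shortExact S).1 hS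
  have hiso : ∀ i : ℤ, i ≠ c → IsIso ((cokernel.π ι).f i) := fun i hi =>
    (hSi i).isIso_g_iff.2 (isZero_single_obj_X (ComplexShape.up ℤ) c (E.X c) i hi)
  have hzero : IsZero ((cokernel ι).X c) :=
    (hSi c).isIso_f_iff.1 (by
      show IsIso (ι.f c)
      rw [hι]
      infer_instance)
  refine ⟨cokernel ι, ι, cokernel.π ι, cokernel.condition ι, hS, hzero, fun i hi => ?_⟩
  have := hiso i hi
  exact ⟨asIso ((cokernel.π ι).f i)⟩

/-- `P₀ ⊗ N[-c] ≅ (N ⊗ P₀)[-c]`. -/
noncomputable def tensorSingleIso (P₀ : DRing.Cx A) (N : ModuleCat.{u} A) (c : ℤ) :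
    P₀ ⊗ (single (ModuleCat.{u} A) (ComplexShape.up ℤ) c).obj N ≅ ((TC N).obj P₀)⟦-c⟧ :=
  whiskerLeftIso P₀ (((CochainComplex.singleFunctors (ModuleCat.{u} A)).shiftIso (-c) c 0
      (by omega)).app N).symm ≪≫
    tensorShiftRightIso P₀ (sgl N) (-c) ≪≫
    (CategoryTheory.shiftFunctor (DRing.Cx A) (-c)).mapIso
      (swapIso P₀ (sgl N) ≪≫ (singleTensorIso N P₀).symm)

theorem V_tensor_of_finiteFree (I : Ideal A) (s : Finset A) (hs : Ideal.span (s : Set A) = I)
    (P₀ : DRing.Cx A) (b : ℤ) (hb : DRing.VanishesAbove P₀ b) (hflat : DRing.TermwiseFlat P₀)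
    (hc : DRing.IsDerivedComplete I ((Q : _ ⥤ Dual.D A).obj P₀)) (f : A) (hf : f ∈ I) (k : ℕ) :
    ∀ (G : DRing.Cx A) (c : ℤ), DRing.VanishesAbove G c → DRing.TermwiseFiniteFree G →
      ∀ n : ℤ, b + c + 1 < n + k → V f (((Q : _ ⥤ Dual.D A).obj (P₀ ⊗ G))⟦n⟧) := by
  induction k with
  | zero =>
    intro G c hGc hGf n hn
    haveI h1 : (P₀ ⊗ G).IsStrictlyLE (b + c) := by
      rw [CochainComplex.isStrictlyLE_iff]
      intro i hi
      exact isZero_tensor_X P₀ G i (fun p q hpq => by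
        by_cases hp : b < p
        · exact Or.inl (hb p hp)
        · exact Or.inr (hGc q (by omega)))
    haveI h2 : ((Q : _ ⥤ Dual.D A).obj (P₀ ⊗ G)).IsLE (b + c) := inferInstance
    haveI h3 : (((Q : _ ⥤ Dual.D A).obj (P₀ ⊗ G))⟦n⟧).IsLE (b + c - n) :=
      DerivedCategory.TStructure.t.isLE_shift _ (b + c) n (b + c - n) (by ring)
    haveI h4 : (((Q : _ ⥤ Dual.D A).obj (P₀ ⊗ G))⟦n⟧).IsLE (-2) :=
      DerivedCategory.TStructure.t.isLE_of_le _ (b + c - n) (-2) (by push_cast at hn; omega)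
    exact V_of_isLE f _
  | succ k ih =>
    intro G c hGc hGf n hn
    obtain ⟨C, ι, π, w, hS, hCz, hCi⟩ := exists_peel G c hGc
    have hCc : DRing.VanishesAbove C (c - 1) := fun i hi => by
      by_cases hic : i = c
      · subst hic
        exact hCz
      · obtain ⟨e⟩ := hCi i hic
        exact (hGc i (by omega)).of_iso e.symm
    have hCf : DRing.TermwiseFiniteFree C := fun i => by
      by_cases hic : i = c
      · subst hic
        haveI := ModuleCat.subsingleton_of_isZero hCz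
        exact ⟨inferInstance, inferInstance⟩
      · obtain ⟨e⟩ := hCi i hic
        have := (hGf i).1
        have := (hGf i).2
        exact ⟨Module.Finite.equiv e.toLinearEquiv, Module.Free.of_equiv e.toLinearEquiv⟩
    have hS' := tensorLeft_shortExact_of_termwiseFlat P₀ _ hS (fun i => by
      have := (hCf i).2
      infer_instance)
    have hT := triangleOfSES_distinguished hS'
    have hT2 := Triangle.shift_distinguished _ hT n
    apply V_of_triangle f _ hT2
    · have := (hGf c).1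
      have := (hGf c).2
      have hdc : DRing.IsDerivedComplete I ((Q : _ ⥤ Dual.D A).obj
          (P₀ ⊗ (single (ModuleCat.{u} A) (ComplexShape.up ℤ) c).obj (G.X c))) :=
        isDerivedComplete_of_iso I
          (Q.mapIso (tensorSingleIso P₀ (G.X c) c) ≪≫
            ((Q : _ ⥤ Dual.D A).commShiftIso (-c)).app _).symm
          (isDerivedComplete_shift I _ (-c) (DCT.of_finite_free s hs hflat hc (G.X c)))
      exact (isDerivedComplete_iff_V I _).1 hdc f hf n
    · exact ih C (c - 1) hCc hCf n (by push_cast at hn ⊢; omega)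

theorem isDerivedComplete_tensor_of_finiteFree (I : Ideal A) (s : Finset A)
    (hs : Ideal.span (s : Set A) = I)
    (P₀ : DRing.Cx A) (b : ℤ) (hb : DRing.VanishesAbove P₀ b) (hflat : DRing.TermwiseFlat P₀)
    (hc : DRing.IsDerivedComplete I ((Q : _ ⥤ Dual.D A).obj P₀))
    (F : DRing.Cx A) (c : ℤ) (hFc : DRing.VanishesAbove F c) (hFf : DRing.TermwiseFiniteFree F) :
    DRing.IsDerivedComplete I ((Q : _ ⥤ Dual.D A).obj (P₀ ⊗ F)) := by
  rw [isDerivedComplete_iff_V]
  intro f hf n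
  obtain ⟨k, hk⟩ : ∃ k : ℕ, b + c + 1 < n + k := ⟨(b + c + 2 - n).toNat, by omega⟩
  exact V_tensor_of_finiteFree I s hs P₀ b hb hflat hc f hf k F c hFc hFf n hk

end ACx

section CoreCx

variable {A : Type u} [CommRing A]

open Groth.Agent.Lib.Helper1.Tor Groth.Agent.Lib.Helper1.TorM

/-- the chain-level statement for `- ⊗ F`, `F` a bounded above complex of finite free modules. -/
theorem core_cx (I : Ideal A) (s : Finset A) (hs : Ideal.span (s : Set A) = I) (b c : ℤ)
    (F : DRing.Cx A) (hFc : DRing.VanishesAbove F c) (hFf : DRing.TermwiseFiniteFree F)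
    (P P₀ : DRing.Cx A) (a₀ : P ⟶ P₀)
    (hP₀b : DRing.VanishesAbove P₀ b) (hP₀f : DRing.TermwiseFlat P₀)
    (hc : DRing.IsDerivedComplete I ((Q : _ ⥤ Dual.D A).obj P₀))
    (hpt : PTBij I ((Q : _ ⥤ Dual.D A).map a₀)) :
    DRing.IsDerivedComplete I ((Q : _ ⥤ Dual.D A).obj (P₀ ⊗ F)) ∧
      IsUniv (DRing.IsDerivedComplete I) ((Q : _ ⥤ Dual.D A).map (a₀ ▷ F)) := by
  refine ⟨isDerivedComplete_tensor_of_finiteFree I s hs P₀ b hP₀b hP₀f hc F c hFc hFf, ?_⟩
  have hKF : KFlat F := kflat_of_boundedAbove_flat F c hFc (fun q => by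
    have := (hFf q).2
    infer_instance)
  have hfst : QuasiIso (biprod.fst : cyl P P₀ ⟶ P₀) := quasiIso_cyl_fst P P₀
  have hfstQ : IsIso ((Q : _ ⥤ Dual.D A).map (biprod.fst : cyl P P₀ ⟶ P₀)) :=
    (DerivedCategory.isIso_Q_map_iff_quasiIso (φ := (biprod.fst : cyl P P₀ ⟶ P₀))).2 hfst
  have hpt' : PTBij I ((Q : _ ⥤ Dual.D A).map (cylι a₀)) := by
    have h1 : (Q : _ ⥤ Dual.D A).map (cylι a₀) =
        Q.map a₀ ≫ inv (Q.map (biprod.fst : cyl P P₀ ⟶ P₀)) := by
      have h0 : (Q : _ ⥤ Dual.D A).map (cylι a₀) ≫ Q.map (biprod.fst : cyl P P₀ ⟶ P₀) =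
          Q.map a₀ := by
        rw [← Functor.map_comp, cylι_fst]
      rw [← h0, Category.assoc, IsIso.hom_inv_id, Category.comp_id]
    rw [h1]
    exact hpt.comp (PTBij.of_isIso _)
  have hU : IsUniv (DRing.IsDerivedComplete I)
      ((Q : _ ⥤ Dual.D A).map ((tensorRight F).map (cylS a₀).f)) :=
    isUniv_Q_Θ_of_PTBij (tensorRight F) (tensLike_tensorRight F) I s hs (cylS a₀)
      (cylS_shortExact a₀) (cylSSplitting a₀) hpt'
      (fun fs hz => by
        apply isZero_Q_of_exactAt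
        intro j
        rw [HomologicalComplex.exactAt_iff_isZero_homology]
        exact hKF _ (fun i => by
          rw [← HomologicalComplex.exactAt_iff_isZero_homology]
          exact exactAt_of_isZero_Q _ hz i) j)
  have hq : QuasiIso ((biprod.fst : cyl P P₀ ⟶ P₀) ▷ F) :=
    quasiIso_whiskerRight_of_kflat _ F hKF
  have hiso : IsIso ((Q : _ ⥤ Dual.D A).map ((biprod.fst : cyl P P₀ ⟶ P₀) ▷ F)) :=
    (DerivedCategory.isIso_Q_map_iff_quasiIso (φ := (biprod.fst : cyl P P₀ ⟶ P₀) ▷ F)).2 hq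
  have h2 : (Q : _ ⥤ Dual.D A).map (a₀ ▷ F) =
      Q.map (cylι a₀ ▷ F) ≫ Q.map ((biprod.fst : cyl P P₀ ⟶ P₀) ▷ F) := by
    rw [← Functor.map_comp, ← comp_whiskerRight, cylι_fst]
  rw [h2]
  exact hU.of_iso (@asIso _ _ _ _ _ hiso)

end CoreCx

section S7103

variable {A : Type u} [CommRing A] [IsNoetherianRing A]

open Groth.Agent.Lib.Helper1.Tor Groth.Agent.Lib.Helper1.TorM Groth.Agent.Lib.Helper1.LDer
  Groth.Agent.Lib.Helper1.DT Groth.Agent.Lib.Helper1.ProjRes Groth.Agent.Lib.Helper1.TorL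

theorem ltensorCx_completion (I : Ideal A) [DRing.HasDerivedCompletion I] (F : DRing.Cx A) (c : ℤ)
    (hFc : DRing.VanishesAbove F c) (hFf : DRing.TermwiseFiniteFree F) [DRing.HasLTensorCx A F]
    (K : Dual.D A) (b : ℤ) (hK : ∀ i : ℤ, b < i → Subsingleton (Dual.HD A K i)) :
    DRing.IsDerivedComplete I ((DRing.LTensorCx A F).obj
        ((DRing.derivedCompletion I).obj K).obj) ∧
      IsUniv (DRing.IsDerivedComplete I)
        ((DRing.LTensorCx A F).map (DRing.toDerivedCompletion I K)) := by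
  obtain ⟨s, hs⟩ := (IsNoetherian.noetherian I : I.FG)
  let T := DRing.LTensorCx A F
  let α := DRing.toDerivedCompletion I K
  let Kh : Dual.D A := ((DRing.derivedCompletion I).obj K).obj
  have hKh : DRing.IsDerivedComplete I Kh := ((DRing.derivedCompletion I).obj K).property
  haveI hKle : K.IsLE b := (DerivedCategory.isLE_iff K b).2 (fun i hi => by
    have := hK i hi
    exact ModuleCat.isZero_of_subsingleton _)
  haveI hKhle : Kh.IsLE b := (DerivedCategory.isLE_iff Kh b).2 (fun i hi =>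
    (bounds_of_isUniv I s hs α hKh (isUniv_unit I K)).2 i
      (fun j hj => DerivedCategory.isZero_of_isLE K b j (by omega)))
  obtain ⟨P, hPle, hPproj, ⟨eP⟩⟩ := exists_iso_Q_proj K b
  obtain ⟨P₀, hP₀le, hP₀proj, ⟨eP₀⟩⟩ := exists_iso_Q_proj Kh b
  haveI : P.IsKProjective := CochainComplex.isKProjective_of_projective P b
  haveI : P₀.IsKProjective := CochainComplex.isKProjective_of_projective P₀ b
  obtain ⟨a₀, ha₀⟩ := Q_map_surjective P P₀ (eP.hom ≫ α ≫ eP₀.inv)
  have hptα : PTBij I α := fun L hL =>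
    bijective_comp_toDerivedCompletion I s hs K L
      (fun f hf => lOrth_of_PT I f (hs ▸ Ideal.subset_span hf) L hL)
  have hpt : PTBij I ((Q : _ ⥤ Dual.D A).map a₀) := by
    rw [ha₀]
    exact (PTBij.of_isIso eP.hom).comp (hptα.comp (PTBij.of_isIso eP₀.inv))
  have hc : DRing.IsDerivedComplete I ((Q : _ ⥤ Dual.D A).obj P₀) :=
    isDerivedComplete_of_iso I eP₀.symm hKh
  obtain ⟨h1, h2⟩ := core_cx I s hs b c F hFc hFf P P₀ a₀
    (fun i hi => P₀.isZero_of_isStrictlyLE b i hi) (fun i => flat_of_projective_cat (P₀.X i))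
    hc hpt
  let ε := (DRing.tensorCxQ A F).totalLeftDerivedCounit Q
    (HomologicalComplex.quasiIso (ModuleCat.{u} A) (ComplexShape.up ℤ))
  haveI i1 : IsIso (ε.app P) := isIso_counit_LTensorCx F P
  haveI i2 : IsIso (ε.app P₀) := isIso_counit_LTensorCx F P₀
  let ι₁ : T.obj (Q.obj P) ≅ Q.obj (P ⊗ F) := asIso (ε.app P)
  let ι₂ : T.obj (Q.obj P₀) ≅ Q.obj (P₀ ⊗ F) := asIso (ε.app P₀)
  have nat : T.map (Q.map a₀) ≫ ι₂.hom = ι₁.hom ≫ Q.map (a₀ ▷ F) := ε.naturality a₀
  have hα : T.map α = (T.mapIso eP.symm ≪≫ ι₁).hom ≫ Q.map (a₀ ▷ F) ≫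
      (ι₂.symm ≪≫ T.mapIso eP₀).hom := by
    have h3 : α = eP.inv ≫ Q.map a₀ ≫ eP₀.hom := by
      rw [ha₀]
      simp
    show T.map α = (T.map eP.inv ≫ ι₁.hom) ≫ Q.map (a₀ ▷ F) ≫ (ι₂.inv ≫ T.map eP₀.hom)
    have nat' : T.map (Q.map a₀) = ι₁.hom ≫ Q.map (a₀ ▷ F) ≫ ι₂.inv := by
      rw [← Category.assoc, ← nat, Category.assoc, Iso.hom_inv_id, Category.comp_id]
    rw [h3, Functor.map_comp, Functor.map_comp, nat']
    simp only [Category.assoc]
  constructor
  · exact isDerivedComplete_of_iso I (ι₂.symm ≪≫ T.mapIso eP₀) h1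
  · rw [hα]
    exact (h2.of_iso (ι₂.symm ≪≫ T.mapIso eP₀)).of_iso_left (T.mapIso eP.symm ≪≫ ι₁)

end S7103

end Groth.Agent.Lib.T2H4.TensComp
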