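import Mathlib
import Groth.Prelude.Def_DRing4
import Groth.Agent.Lib.Helper1KF9

/-!
# Chain-level tensor–Hom adjunction (helper4)

`homCxTensorIso K L M : Hom•(K, Hom•(L, M)) ≅ Hom•(K ⊗ L, M)` as complexes of `R`-modules, for the frozen
`DRing.homCx` and Mathlib's tensor product of complexes.  With Mathlib's sign conventions the naive
formula `Φ(φ)(x ⊗ y) = φ(x)(y)` is a chain map (`Θfun_δ`); `Θ K L M n` is the degreewise linear equivalence.
-/

set_option autoImplicit false
set_option backward.isDefEq.respectTransparency.types false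

namespace Groth.Agent.Lib.T2H4.TensHom

open CategoryTheory Limits MonoidalCategory HomologicalComplex CochainComplex.HomComplex

universe u

variable {R : Type u} [CommRing R] (K L M : DRing.Cx R)

/-- evaluation of a cochain at a degree, as a linear map. -/
noncomputable def evL (q q' k : ℤ) (h : q + k = q') : Cochain L M k →ₗ[R] (L.X q →ₗ[R] M.X q') where
  toFun z := (z.v q q' h).hom
  map_add' z z' := by simp
  map_smul' a z := by simp

variable {K L M}

/-- the component `K^p ⊗ L^q ⟶ M^{m'}` of the adjoint cochain. -/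
noncomputable def compo {n : ℤ} (φ : Cochain K (DRing.homCx L M) n) (p p' q m' : ℤ) (hp : p + n = p')
    (h : q + p' = m') : K.X p ⊗ L.X q ⟶ M.X m' :=
  ModuleCat.ofHom (TensorProduct.lift ((evL L M q m' p' h).comp (φ.v p p' hp).hom))

lemma compo_tmul {n : ℤ} (φ : Cochain K (DRing.homCx L M) n) (p p' q m' : ℤ) (hp : p + n = p')
    (h : q + p' = m') (x : K.X p) (y : L.X q) :
    (compo φ p p' q m' hp h).hom (x ⊗ₜ y) =
      (((φ.v p p' hp).hom x : Cochain L M p').v q m' h).hom y := rfl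

lemma compo_tmul' {n : ℤ} (φ : Cochain K (DRing.homCx L M) n) (p p' q m' : ℤ) (hp : p + n = p')
    (h : q + p' = m') (x : K.X p) (y : L.X q) :
    (compo φ p p' q m' hp h).hom (x ⊗ₜ y) = evL L M q m' p' h ((φ.v p p' hp).hom x) y := rfl

/-- the adjoint cochain. -/
noncomputable def Θfun {n : ℤ} (φ : Cochain K (DRing.homCx L M) n) : Cochain (K ⊗ L) M n :=
  Cochain.mk (fun m m' hm => mapBifunctorDesc (K₁ := K) (K₂ := L) (F := curriedTensor (ModuleCat.{u} R))
    (c := ComplexShape.up ℤ) (fun p q (hpq : p + q = m) => compo φ p (p + n) q m' rfl (by omega)))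

lemma ι_Θfun {n : ℤ} (φ : Cochain K (DRing.homCx L M) n) (p p' q m m' : ℤ) (hpq : p + q = m)
    (hm : m + n = m') (hp : p + n = p') :
    ιTensorObj K L p q m hpq ≫ (Θfun φ).v m m' hm = compo φ p p' q m' hp (by omega) := by
  subst hp
  simp [Θfun]

/-- the linear map `L^q → M^{q'}` obtained from a cochain on the tensor product and `x ∈ K^p`. -/
noncomputable def slice {n : ℤ} (Ψ : Cochain (K ⊗ L) M n) (p q q' : ℤ) (h : p + q + n = q') (x : K.X p) :
    L.X q →ₗ[R] M.X q' :=
  ((ιTensorObj K L p q (p + q) rfl ≫ Ψ.v (p + q) q' (by omega)).hom).comp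
    (TensorProduct.mk R (K.X p) (L.X q) x)

lemma slice_apply {n : ℤ} (Ψ : Cochain (K ⊗ L) M n) (p q q' : ℤ) (h : p + q + n = q') (x : K.X p)
    (y : L.X q) :
    slice Ψ p q q' h x y =
      (ιTensorObj K L p q (p + q) rfl ≫ Ψ.v (p + q) q' (by omega)).hom (x ⊗ₜ y) := rfl

/-- the cochain `L → M` attached to `x ∈ K^p`. -/
noncomputable def sliceCochain {n : ℤ} (Ψ : Cochain (K ⊗ L) M n) (p p' : ℤ) (hp : p + n = p') (x : K.X p) :
    Cochain L M p' :=
  Cochain.mk (fun q q' hq => ModuleCat.ofHom (slice Ψ p q q' (by omega) x))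

lemma sliceCochain_v {n : ℤ} (Ψ : Cochain (K ⊗ L) M n) (p p' : ℤ) (hp : p + n = p') (x : K.X p)
    (q q' : ℤ) (hq : q + p' = q') :
    (sliceCochain Ψ p p' hp x).v q q' hq = ModuleCat.ofHom (slice Ψ p q q' (by omega) x) := rfl

/-- the inverse adjoint cochain. -/
noncomputable def Ξfun {n : ℤ} (Ψ : Cochain (K ⊗ L) M n) : Cochain K (DRing.homCx L M) n :=
  Cochain.mk (fun p p' hp => ModuleCat.ofHom
    { toFun := fun x => sliceCochain Ψ p p' hp x
      map_add' := fun x x' => by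
        ext q q' hq y
        rw [Cochain.add_v, sliceCochain_v, sliceCochain_v, sliceCochain_v]
        show slice Ψ p q q' _ (x + x') y = slice Ψ p q q' _ x y + slice Ψ p q q' _ x' y
        rw [slice_apply, slice_apply, slice_apply, TensorProduct.add_tmul, map_add]
      map_smul' := fun a x => by
        ext q q' hq y
        rw [RingHom.id_apply, Cochain.smul_v, sliceCochain_v, sliceCochain_v]
        show slice Ψ p q q' _ (a • x) y = a • slice Ψ p q q' _ x y
        rw [slice_apply, slice_apply, ← TensorProduct.smul_tmul', map_smul] })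

lemma Ξfun_v_apply {n : ℤ} (Ψ : Cochain (K ⊗ L) M n) (p p' : ℤ) (hp : p + n = p') (x : K.X p) :
    ((Ξfun Ψ).v p p' hp).hom x = sliceCochain Ψ p p' hp x := rfl

open Groth.Agent.Lib.Helper1.KF in
lemma Θfun_Ξfun {n : ℤ} (Ψ : Cochain (K ⊗ L) M n) : Θfun (Ξfun Ψ) = Ψ := by
  apply Cochain.ext
  intro m m' hm
  apply tensor_hom_ext
  intro p q hpq
  cases hpq
  rw [ι_Θfun _ p (p + n) q _ _ rfl hm rfl]
  apply ModuleCat.MonoidalCategory.tensor_ext
  intro x y
  rw [compo_tmul]
  rfl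

lemma Ξfun_Θfun {n : ℤ} (φ : Cochain K (DRing.homCx L M) n) : Ξfun (Θfun φ) = φ := by
  ext p p' hp x
  show sliceCochain (Θfun φ) p p' hp x = (φ.v p p' hp).hom x
  ext q q' hq y
  rw [sliceCochain_v]
  show slice (Θfun φ) p q q' _ x y = _
  rw [slice_apply, ι_Θfun _ p p' q _ _ rfl _ hp, compo_tmul]

open Groth.Agent.Lib.Helper1.KF in
lemma Θfun_add {n : ℤ} (φ φ' : Cochain K (DRing.homCx L M) n) :
    Θfun (φ + φ') = Θfun φ + Θfun φ' := by
  apply Cochain.ext
  intro m m' hm
  apply tensor_hom_ext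
  intro p q hpq
  rw [Cochain.add_v, Preadditive.comp_add, ι_Θfun _ p (p + n) q _ _ hpq hm rfl,
    ι_Θfun _ p (p + n) q _ _ hpq hm rfl, ι_Θfun _ p (p + n) q _ _ hpq hm rfl]
  apply ModuleCat.MonoidalCategory.tensor_ext
  intro x y
  rw [ModuleCat.hom_add, LinearMap.add_apply, compo_tmul', compo_tmul', compo_tmul', Cochain.add_v,
    ModuleCat.hom_add, LinearMap.add_apply]
  exact LinearMap.congr_fun ((evL L M q m' (p + n) (by omega)).map_add _ _) y

open Groth.Agent.Lib.Helper1.KF in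
lemma Θfun_smul {n : ℤ} (a : R) (φ : Cochain K (DRing.homCx L M) n) :
    Θfun (a • φ) = a • Θfun φ := by
  apply Cochain.ext
  intro m m' hm
  apply tensor_hom_ext
  intro p q hpq
  rw [Cochain.smul_v, Linear.comp_smul, ι_Θfun _ p (p + n) q _ _ hpq hm rfl,
    ι_Θfun _ p (p + n) q _ _ hpq hm rfl]
  apply ModuleCat.MonoidalCategory.tensor_ext
  intro x y
  rw [ModuleCat.hom_smul, LinearMap.smul_apply, compo_tmul', compo_tmul', Cochain.smul_v,
    ModuleCat.hom_smul, LinearMap.smul_apply]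
  exact LinearMap.congr_fun ((evL L M q m' (p + n) (by omega)).map_smul a _) y

/-- the adjunction equivalence in each degree. -/
noncomputable def Θ (K L M : DRing.Cx R) (n : ℤ) :
    Cochain K (DRing.homCx L M) n ≃ₗ[R] Cochain (K ⊗ L) M n where
  toFun := Θfun
  invFun := Ξfun
  left_inv := Ξfun_Θfun
  right_inv := Θfun_Ξfun
  map_add' := Θfun_add
  map_smul' := Θfun_smul

lemma homCx_d_apply (i j : ℤ) (ψ : Cochain L M i) :
    ((DRing.homCx L M).d i j).hom ψ = δ i j ψ := rfl

open Groth.Agent.Lib.Helper1.KF in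
lemma Θfun_δ {n n' : ℤ} (hn : n + 1 = n') (φ : Cochain K (DRing.homCx L M) n) :
    Θfun (δ n n' φ) = δ n n' (Θfun φ) := by
  apply Cochain.ext
  intro m m' hm
  apply tensor_hom_ext
  intro p q hpq
  cases hpq
  rw [ι_Θfun _ p (p + n') q _ _ rfl hm rfl]
  rw [δ_v n n' hn (Θfun φ) (p + q) m' hm (m' - 1) (p + q + 1) rfl rfl]
  rw [Preadditive.comp_add, ← Category.assoc, ι_Θfun _ p (p + n) q _ _ rfl _ rfl,
    Linear.comp_units_smul, ← Category.assoc (ιTensorObj K L p q (p + q) rfl),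
    ι_tensor_d K L p q (p + q) rfl (p + 1) (q + 1) (p + q + 1) rfl rfl rfl,
    Preadditive.add_comp, Category.assoc, ι_Θfun _ (p + 1) (p + n') q _ _ _ _ (by omega),
    Linear.units_smul_comp, Category.assoc, ι_Θfun _ p (p + n) (q + 1) _ _ _ _ rfl]
  apply ModuleCat.MonoidalCategory.tensor_ext
  intro x y
  have e1 : (δ n n' φ).v p (p + n') rfl = φ.v p (p + n) rfl ≫ (DRing.homCx L M).d (p + n) (p + n') +
      n'.negOnePow • K.d p (p + 1) ≫ φ.v (p + 1) (p + n') (by omega) :=
    δ_v n n' hn φ p (p + n') rfl (p + n) (p + 1) (by omega) rfl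
  let ψ : Cochain L M (p + n) := (φ.v p (p + n) rfl).hom x
  let ψ' : Cochain L M (p + n') := (φ.v (p + 1) (p + n') (by omega)).hom ((K.d p (p + 1)).hom x)
  have e2 : (δ (p + n) (p + n') ψ).v q m' (by omega) =
      ψ.v q (m' - 1) (by omega) ≫ M.d (m' - 1) m' +
        (p + n').negOnePow • L.d q (q + 1) ≫ ψ.v (q + 1) m' (by omega) :=
    δ_v (p + n) (p + n') (by omega) ψ q m' (by omega) (m' - 1) (q + 1) rfl rfl
  have hL : (compo (δ n n' φ) p (p + n') q m' rfl (by omega)).hom (x ⊗ₜ y) =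
      ((δ (p + n) (p + n') ψ).v q m' (by omega)).hom y + n'.negOnePow • (ψ'.v q m' (by omega)).hom y := by
    rw [compo_tmul, e1]
    rfl
  have hR : (compo φ p (p + n) q (m' - 1) rfl (by omega) ≫ M.d (m' - 1) m' +
          n'.negOnePow •
            (K.d p (p + 1) ▷ L.X q ≫ compo φ (p + 1) (p + n') q m' (by omega) (by omega) +
              p.negOnePow • K.X p ◁ L.d q (q + 1) ≫ compo φ p (p + n) (q + 1) m' rfl (by omega))).hom
      (x ⊗ₜ y) = (M.d (m' - 1) m').hom ((ψ.v q (m' - 1) (by omega)).hom y) +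
        n'.negOnePow • ((ψ'.v q m' (by omega)).hom y +
          p.negOnePow • (ψ.v (q + 1) m' (by omega)).hom ((L.d q (q + 1)).hom y)) := rfl
  rw [hL, hR, e2]
  have hs : (p + n').negOnePow = n'.negOnePow * p.negOnePow := by
    rw [Int.negOnePow_add, mul_comm]
  have e3 : (ψ.v q (m' - 1) (by omega) ≫ M.d (m' - 1) m' +
        (p + n').negOnePow • L.d q (q + 1) ≫ ψ.v (q + 1) m' (by omega)).hom y =
      (M.d (m' - 1) m').hom ((ψ.v q (m' - 1) (by omega)).hom y) +
        (p + n').negOnePow • (ψ.v (q + 1) m' (by omega)).hom ((L.d q (q + 1)).hom y) := rfl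
  rw [e3, hs, smul_add, smul_smul]
  abel

/-- `Hom•(K, Hom•(L, M)) ≅ Hom•(K ⊗ L, M)` as complexes. -/
noncomputable def homCxTensorIso (K L M : DRing.Cx R) :
    DRing.homCx K (DRing.homCx L M) ≅ DRing.homCx (K ⊗ L) M :=
  HomologicalComplex.Hom.isoOfComponents (fun n => (Θ K L M n).toModuleIso) (by
    rintro i j (hij : i + 1 = j)
    apply ModuleCat.hom_ext
    apply LinearMap.ext
    intro φ
    exact (Θfun_δ hij φ).symm)

end Groth.Agent.Lib.T2H4.TensHom
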