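import Mathlib
import Groth.Agent.Lib.Helper13ModGlue
import Groth.Agent.Lib.Helper23SecTw6

/-!
# `F' ≅ F ⊗ L` from local identifications twisted by the transition functions of frames of `L` (helper4)
-/

set_option autoImplicit false
universe u
open CategoryTheory Limits AlgebraicGeometry TopologicalSpace Opposite

namespace Groth.Agent.Lib.T2H4.TensorFrame

open Groth.Agent.Lib.Helper23.SecTw Groth.Agent.Lib.Helper6 Groth.Agent.Helper13ModGlue

variable {X : Scheme.{u}}

/-- Let `L` have frames `e i` over the members of an open cover `V i`, and let `D i : F'|_{V i} → F|_{V i}` be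
natural linear bijective families which transform, on overlaps, by the transition functions of the frames:
if `e i = g • e j` then `D j = g • D i`.  Then `F' ≅ F ⊗ L` (through `τ ↦ D i τ ⊗ e i`). -/
theorem nonempty_iso_tensor_of_frames (F' F L : X.Modules) {κ : Type u} (V : κ → X.Opens)
    (hcov : ⨆ i, V i = ⊤)
    (e : ∀ i, Γ(L, V i)) (he : ∀ i, IsGen L (V i) (e i))
    (D : ∀ i, LocFam (V i) F' F)
    (hbij : ∀ (i : κ) (W : X.Opens) (hW : W ≤ V i), Function.Bijective ((D i).d W hW))
    (htrans : ∀ (i j : κ) (W : X.Opens) (hi : W ≤ V i) (hj : W ≤ V j) (g : Γ(X, W)),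
      res L hi (e i) = g • res L hj (e j) → ∀ τ : Γ(F', W), (D j).d W hj τ = g • (D i).d W hi τ) :
    Nonempty (F' ≅ CohB1.tensorMod F L) := by
  let E : ∀ i, LocFam (V i) F' (CohB1.tensorMod F L) := fun i =>
    { d := fun W hW =>
        { toFun := fun τ => tm F L W ((D i).d W hW τ) (res L hW (e i))
          map_zero' := by rw [map_zero, tm_zero_left]
          map_add' := fun τ τ' => by rw [map_add, tm_add_left] }
      nat := fun W W' hW hW' τ => by
        change res (CohB1.tensorMod F L) hW' (tm F L W ((D i).d W hW τ) (res L hW (e i))) =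
          tm F L W' ((D i).d W' (hW'.trans hW) (res F' hW' τ)) (res L (hW'.trans hW) (e i))
        rw [res_tm, (D i).nat W W' hW hW' τ, res_res]
      lin := fun W hW a τ => by
        change tm F L W ((D i).d W hW (a • τ)) (res L hW (e i)) =
          a • tm F L W ((D i).d W hW τ) (res L hW (e i))
        rw [(D i).lin, tm_smul_left] }
  obtain ⟨ψ, hψ⟩ := exists_hom_of_locFams V hcov F' (CohB1.tensorMod F L) E (by
    intro i j W hi hj τ
    change tm F L W ((D i).d W hi τ) (res L hi (e i)) = tm F L W ((D j).d W hj τ) (res L hj (e j))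
    obtain ⟨g, hg⟩ := (he j W hj).2 (res L hi (e i))
    have hg' : g • res L hj (e j) = res L hi (e i) := hg
    rw [htrans i j W hi hj g hg'.symm τ, ← hg', tm_smul_right, tm_smul_left])
  have hiso : IsIso ψ := by
    refine Groth.Agent.Helper13AffBC.isIso_of_bijective_on_basis ψ
      (fun k : (Σ i, {W : X.Opens // W ≤ V i}) => k.2.1) (isBasis_small V hcov) fun k => ?_
    have h1 : (fun τ : Γ(F', k.2.1) => ψ.app k.2.1 τ) =
        (fun t : Γ(F, k.2.1) => tm F L k.2.1 t (res L k.2.2 (e k.1))) ∘ ((D k.1).d k.2.1 k.2.2) := by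
      funext τ
      exact hψ k.1 k.2.1 k.2.2 τ
    have h2 : Function.Bijective (fun τ : Γ(F', k.2.1) => ψ.app k.2.1 τ) := by
      rw [h1]
      exact (bijective_tm_of_isGen F L (V k.1) (e k.1) (he k.1) k.2.1 k.2.2).comp (hbij k.1 k.2.1 k.2.2)
    exact h2
  exact ⟨asIso ψ⟩

end Groth.Agent.Lib.T2H4.TensorFrame
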