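import Mathlib
import Groth.Prelude.Def_RelProj3
import Groth.Agent.Lib.Helper2RelTwistTensor
import Groth.Agent.Lib.Helper2GrModBridge

/-!
# Multiplication of sections of `M(n)~` by the fractions `t^a / t^b`, `t` of degree one (helper4)
-/

set_option autoImplicit false
universe u
open CategoryTheory Limits AlgebraicGeometry TopologicalSpace Opposite

namespace Groth.Agent.Lib.T2H4.MulFrac

open Groth.Agent.Lib.Helper2.RelTwistTensor Groth.Agent.Lib.Helper2GrModSect Groth.Agent.Lib.Helper6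

variable {A σ : Type u} [CommRing A] [SetLike σ A] [AddSubgroupClass σ A] (𝒜 : ℕ → σ) [GradedRing 𝒜]
variable {M τ : Type u} [AddCommGroup M] [Module A M] [SetLike τ M] [AddSubgroupClass τ M] (ℳ : ℕ → τ)
  [SetLike.GradedSMul 𝒜 ℳ] [DirectSum.Decomposition ℳ]

omit [AddSubgroupClass τ M] [DirectSum.Decomposition ℳ] in
theorem zv_smul_mem {t : A} (ht1 : t ∈ 𝒜 1) (y : ProjectiveSpectrum 𝒜) (hty : t ∉ y.asHomogeneousIdeal)
    (a b : ℕ) (n n' : ℤ) (h : (a : ℤ) + n = b + n') {q : GrMod.LocMod 𝒜 (M := M) y}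
    (hq : q ∈ GrMod.tildeAt 𝒜 ℳ n y) : zv y t hty a b • q ∈ GrMod.tildeAt 𝒜 ℳ n' y := by
  induction hq using Submodule.span_induction with
  | mem q hq =>
    obtain ⟨i, j, m, s, hs, hij, rfl⟩ := hq
    unfold zv
    rw [LocalizedModule.mk_smul_mk]
    have hta : t ^ a ∈ 𝒜 a := by simpa using SetLike.pow_mem_graded a ht1
    have htb : t ^ b ∈ 𝒜 b := by simpa using SetLike.pow_mem_graded b ht1
    exact Submodule.subset_span ⟨a + i, b + j, ⟨t ^ a • (m : M), SetLike.GradedSMul.smul_mem hta m.2⟩,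
      ⟨t ^ b * (s : A), SetLike.mul_mem_graded htb s.2⟩, _, by push_cast; omega, rfl⟩
  | zero => rw [smul_zero]; exact zero_mem _
  | add q q' _ _ h1 h2 => rw [smul_add]; exact add_mem h1 h2
  | smul c q _ h1 =>
    rw [GrMod.a0_smul_def, smul_comm]
    exact Submodule.smul_mem _ c h1

variable {𝒜 ℳ}

omit [DirectSum.Decomposition ℳ] in
/-- pointwise multiplication of a dependent function by `t^a / t^b`. -/
noncomputable def mulFn {t : A} (ht1 : t ∈ 𝒜 1) (U : Opens (ProjectiveSpectrum.top 𝒜))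
    (hU : ∀ y : U, t ∉ y.1.asHomogeneousIdeal) (a b : ℕ) (n n' : ℤ) (h : (a : ℤ) + n = b + n')
    (f : ∀ x : U, GrMod.tildeAt 𝒜 ℳ n x.1) (x : U) : GrMod.tildeAt 𝒜 ℳ n' x.1 :=
  ⟨zv x.1 t (hU x) a b • (f x).1, zv_smul_mem 𝒜 ℳ ht1 x.1 (hU x) a b n n' h (f x).2⟩

omit [AddSubgroupClass τ M] [DirectSum.Decomposition ℳ] in
theorem isLocFrac_mulFn {t : A} (ht1 : t ∈ 𝒜 1) (U : Opens (ProjectiveSpectrum.top 𝒜))
    (hU : ∀ y : U, t ∉ y.1.asHomogeneousIdeal) (a b : ℕ) (n n' : ℤ) (h : (a : ℤ) + n = b + n')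
    (f : ∀ x : U, GrMod.tildeAt 𝒜 ℳ n x.1) (hf : (GrMod.isLocFrac 𝒜 ℳ n).pred f) :
    (GrMod.isLocFrac 𝒜 ℳ n').pred (mulFn ht1 U hU a b n n' h f) := fun x => by
  rcases hf x with ⟨V, mV, iV, i, j, m, s, nin, c, w⟩
  have hta : t ^ a ∈ 𝒜 a := by simpa using SetLike.pow_mem_graded a ht1
  have htb : t ^ b ∈ 𝒜 b := by simpa using SetLike.pow_mem_graded b ht1
  have nin' : ∀ y : V, t ^ b * (s : A) ∉ y.1.asHomogeneousIdeal := fun y hh =>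
    (y.1.isPrime.mem_or_mem hh).elim (fun h1 => hU (iV y) (y.1.isPrime.mem_of_pow_mem _ h1)) (nin y)
  refine ⟨V, mV, iV, a + i, b + j, ⟨t ^ a • (m : M), SetLike.GradedSMul.smul_mem hta m.2⟩,
    ⟨t ^ b * (s : A), SetLike.mul_mem_graded htb s.2⟩, nin', ?_, fun y => ?_⟩
  · rcases c with c | c
    · exact Or.inl (by push_cast; omega)
    · exact Or.inr (show t ^ a • (m : M) = 0 by rw [c, smul_zero])
  · change zv (iV y).1 t (hU (iV y)) a b • (f (iV y)).1 = _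
    rw [w y]
    unfold zv
    rw [LocalizedModule.mk_smul_mk]
    rfl

/-- multiplication by `t^a / t^b` on sections over an open inside `D₊(t)`. -/
noncomputable def mulFrac {t : A} (ht1 : t ∈ 𝒜 1) (O : (Proj 𝒜).Opens)
    (hO : ∀ y : O, t ∉ y.1.asHomogeneousIdeal) (a b : ℕ) (n n' : ℤ) (h : (a : ℤ) + n = b + n') :
    Γ(GrMod.tilde 𝒜 ℳ n, O) →+ Γ(GrMod.tilde 𝒜 ℳ n', O) where
  toFun s := ofSect 𝒜 ℳ n' O ⟨mulFn ht1 O hO a b n n' h (toSect 𝒜 ℳ n O s).1,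
    isLocFrac_mulFn ht1 O hO a b n n' h _ (toSect 𝒜 ℳ n O s).2⟩
  map_zero' := by
    apply sec_ext
    intro y hy
    change zv y t (hO ⟨y, hy⟩) a b • (0 : GrMod.LocMod 𝒜 (M := M) y) = 0
    rw [smul_zero]
  map_add' s s' := by
    apply sec_ext
    intro y hy
    change zv y t (hO ⟨y, hy⟩) a b • (secVal 𝒜 ℳ n O s y hy + secVal 𝒜 ℳ n O s' y hy) =
      zv y t (hO ⟨y, hy⟩) a b • secVal 𝒜 ℳ n O s y hy + zv y t (hO ⟨y, hy⟩) a b • secVal 𝒜 ℳ n O s' y hy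
    rw [smul_add]

theorem secVal_mulFrac {t : A} (ht1 : t ∈ 𝒜 1) (O : (Proj 𝒜).Opens)
    (hO : ∀ y : O, t ∉ y.1.asHomogeneousIdeal) (a b : ℕ) (n n' : ℤ) (h : (a : ℤ) + n = b + n')
    (s : Γ(GrMod.tilde 𝒜 ℳ n, O)) (y : ProjectiveSpectrum 𝒜) (hy : y ∈ O) :
    secVal 𝒜 ℳ n' O (mulFrac ht1 O hO a b n n' h s) y hy =
      zv y t (hO ⟨y, hy⟩) a b • secVal 𝒜 ℳ n O s y hy := rfl

theorem mulFrac_smul {t : A} (ht1 : t ∈ 𝒜 1) (O : (Proj 𝒜).Opens)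
    (hO : ∀ y : O, t ∉ y.1.asHomogeneousIdeal) (a b : ℕ) (n n' : ℤ) (h : (a : ℤ) + n = b + n')
    (c : Γ(Proj 𝒜, O)) (s : Γ(GrMod.tilde 𝒜 ℳ n, O)) :
    mulFrac ht1 O hO a b n n' h (c • s) = c • mulFrac ht1 O hO a b n n' h s := by
  apply sec_ext
  intro y hy
  rw [secVal_mulFrac, secVal_smul, secVal_smul, secVal_mulFrac, smul_comm]

theorem mulFrac_res {t : A} (ht1 : t ∈ 𝒜 1) {O O' : (Proj 𝒜).Opens} (hle : O' ≤ O)
    (hO : ∀ y : O, t ∉ y.1.asHomogeneousIdeal) (a b : ℕ) (n n' : ℤ) (h : (a : ℤ) + n = b + n')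
    (s : Γ(GrMod.tilde 𝒜 ℳ n, O)) :
    res (GrMod.tilde 𝒜 ℳ n') hle (mulFrac ht1 O hO a b n n' h s) =
      mulFrac ht1 O' (fun y => hO ⟨y.1, hle y.2⟩) a b n n' h (res (GrMod.tilde 𝒜 ℳ n) hle s) := rfl

theorem mulFrac_mulFrac {t : A} (ht1 : t ∈ 𝒜 1) (O : (Proj 𝒜).Opens)
    (hO : ∀ y : O, t ∉ y.1.asHomogeneousIdeal) (a b : ℕ) (n n' : ℤ) (h : (a : ℤ) + n = b + n')
    (s : Γ(GrMod.tilde 𝒜 ℳ n, O)) :
    mulFrac ht1 O hO b a n' n (by omega) (mulFrac ht1 O hO a b n n' h s) = s := by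
  apply sec_ext
  intro y hy
  rw [secVal_mulFrac, secVal_mulFrac, smul_smul, zv_mul y t (hO ⟨y, hy⟩) b a a b 0 0 (by omega)]
  have h1 : zv y t (hO ⟨y, hy⟩) 0 0 = 1 := by
    unfold zv
    simp only [pow_zero]
    exact Localization.mk_one
  rw [h1, one_smul]

theorem mulFrac_bijective {t : A} (ht1 : t ∈ 𝒜 1) (O : (Proj 𝒜).Opens)
    (hO : ∀ y : O, t ∉ y.1.asHomogeneousIdeal) (a b : ℕ) (n n' : ℤ) (h : (a : ℤ) + n = b + n') :
    Function.Bijective (mulFrac (ℳ := ℳ) ht1 O hO a b n n' h) :=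
  Function.bijective_iff_has_inverse.2 ⟨mulFrac ht1 O hO b a n' n (by omega),
    fun s => mulFrac_mulFrac ht1 O hO a b n n' h s,
    fun s => mulFrac_mulFrac ht1 O hO b a n' n (by omega) s⟩

end Groth.Agent.Lib.T2H4.MulFrac
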