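import Mathlib
import Groth.Prelude.Def_RelProj3
import Groth.Agent.Lib.T2H4TensorFrameA
import Groth.Agent.Lib.T2H4TensorFrameB

/-!
# `(ℳ(n))~ ≅ ℳ~ ⊗ O_P(n)` on a relative Proj generated in degree one (helper4)
-/

set_option autoImplicit false
universe u
open CategoryTheory Limits AlgebraicGeometry TopologicalSpace Opposite

namespace Groth.Agent.Lib.T2H4.TensorFrameRel

open Groth.Agent.Lib.Helper2.RelTildeQCoh Groth.Agent.Lib.Helper23.SecTw Groth.Agent.Lib.Helper6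
  Groth.Agent.Lib.Helper2.Push Groth.Agent.Lib.Helper2.RelTwistGen Groth.Agent.Lib.Helper2.IsGenCover
  Groth.Agent.Lib.Helper2.RelTwistTriv Groth.Agent.Lib.Helper2.RelTwistTensor RelProj
  Groth.Agent.Lib.Helper2GrModSect Groth.Agent.Lib.T2H4.MulFrac Groth.Agent.Helper13ModGlue

variable {P S : Scheme.{u}} {𝒮 : RelProj.QCGrAlg S} (p : P ⟶ S)
  (chart : ∀ (U : S.Opens) (hU : IsAffineOpen U), (((p ⁻¹ᵁ U : P.Opens) : Scheme.{u}) ≅ Proj (𝒮.deg U hU)))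
  (ℳ : RelProj.GrModule 𝒮)

section alg

variable {A σ : Type u} [CommRing A] [SetLike σ A] [AddSubgroupClass σ A] {𝒜 : ℕ → σ} [GradedRing 𝒜]
variable {M τ : Type u} [AddCommGroup M] [Module A M] [SetLike τ M] [AddSubgroupClass τ M] {ℳ' : ℕ → τ}
  [SetLike.GradedSMul 𝒜 ℳ']
variable {B σ' : Type u} [CommRing B] [SetLike σ' B] [AddSubgroupClass σ' B] {ℬ : ℕ → σ'} [GradedRing ℬ]
variable {N τ' : Type u} [AddCommGroup N] [Module B N] [SetLike τ' N] [AddSubgroupClass τ' N] {𝒩 : ℕ → τ'}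
  [SetLike.GradedSMul ℬ 𝒩]

theorem mk_congr' {R : Type*} [CommRing R] (T : Submonoid R) {a a' b b' : R} (ha : a = a') (hb : b = b')
    (h : b ∈ T) (h' : b' ∈ T) :
    (Localization.mk a ⟨b, h⟩ : Localization T) = Localization.mk a' ⟨b', h'⟩ := by
  subst ha; subst hb; rfl

open scoped HomogeneousIdeal in
omit [AddSubgroupClass τ M] [SetLike.GradedSMul 𝒜 ℳ'] [AddSubgroupClass τ' N] [SetLike.GradedSMul ℬ 𝒩] in
theorem locModMap_zv_smul (ψ : 𝒜 →+*ᵍ ℬ) (hψ : ℬ₊ ≤ (𝒜₊).map ψ) (v : M →ₛₗ[ψ.toRingHom] N)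
    (y : ProjectiveSpectrum ℬ) (t : A)
    (ht : t ∉ (ProjectiveSpectrum.comap ψ hψ y).asHomogeneousIdeal) (ht' : ψ t ∉ y.asHomogeneousIdeal)
    (a b : ℕ) (q : GrMod.LocMod 𝒜 (M := M) (ProjectiveSpectrum.comap ψ hψ y)) :
    GrMod.locModMap ψ hψ v y (zv (ProjectiveSpectrum.comap ψ hψ y) t ht a b • q) =
      zv y (ψ t) ht' a b • GrMod.locModMap ψ hψ v y q := by
  rw [GrMod.locModMap_smul]
  congr 1
  unfold zv
  rw [GrTwist.locMap_mk]
  exact mk_congr' _ (map_pow ψ t a) (map_pow ψ t b) _ _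

end alg

section fam

variable (n : ℤ) (F : P.Modules)
  (lam : ∀ (U : S.Opens) (hU : IsAffineOpen U),
    F ⟶ (Scheme.Modules.pushforward (RelProj.emb p chart U hU)).obj (GrMod.tilde (𝒮.deg U hU) (ℳ.deg U hU) 0))
  (hF : RelProj.IsRelTilde 𝒮 p chart ℳ 0 F lam) (F' : P.Modules)
  (lam' : ∀ (U : S.Opens) (hU : IsAffineOpen U),
    F' ⟶ (Scheme.Modules.pushforward (RelProj.emb p chart U hU)).obj (GrMod.tilde (𝒮.deg U hU) (ℳ.deg U hU) n))
  (hF' : RelProj.IsRelTilde 𝒮 p chart ℳ n F' lam')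
  (a b : ℕ) (hab : (b : ℤ) + n = a + 0)

theorem not_mem_of_le_VF (i : Idx 𝒮) (W : P.Opens) (hW : W ≤ VF p chart i)
    (y : ((RelProj.emb p chart i.1.1 i.1.2) ⁻¹ᵁ W : (Proj (𝒮.deg i.1.1 i.1.2)).Opens)) :
    i.2.1 ∉ y.1.asHomogeneousIdeal :=
  not_mem_of_mem_VF p chart i y.1 (hW y.2)

/-- `lam` over `W ≤ VF i` as an additive equivalence. -/
noncomputable def lamEquiv (i : Idx 𝒮) (W : P.Opens) (hW : W ≤ VF p chart i) :
    Γ(F, W) ≃+ Γ(GrMod.tilde (𝒮.deg i.1.1 i.1.2) (ℳ.deg i.1.1 i.1.2) 0, RelProj.emb p chart i.1.1 i.1.2 ⁻¹ᵁ W) :=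
  AddEquiv.ofBijective ((lam i.1.1 i.1.2).app W).hom
    (hF.bijective i.1.1 i.1.2 W (hW.trans (VF_le p chart i)))

theorem lamEquiv_apply (i : Idx 𝒮) (W : P.Opens) (hW : W ≤ VF p chart i) (σ₀ : Γ(F, W)) :
    lamEquiv p chart ℳ F lam hF i W hW σ₀ = (lam i.1.1 i.1.2).app W σ₀ := rfl

/-- the local map `F'(W) → F(W)`: read in the chart, multiply by `t^b / t^a`, read back. -/
noncomputable def dmap (i : Idx 𝒮) (W : P.Opens) (hW : W ≤ VF p chart i) : Γ(F', W) →+ Γ(F, W) :=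
  ((lamEquiv p chart ℳ F lam hF i W hW).symm.toAddMonoidHom).comp
    ((mulFrac i.2.2 (RelProj.emb p chart i.1.1 i.1.2 ⁻¹ᵁ W) (not_mem_of_le_VF p chart i W hW) b a n 0 hab).comp
      ((lam' i.1.1 i.1.2).app W).hom)

theorem lam_dmap (i : Idx 𝒮) (W : P.Opens) (hW : W ≤ VF p chart i) (τ₀ : Γ(F', W)) :
    (lam i.1.1 i.1.2).app W (dmap p chart ℳ n F lam hF F' lam' a b hab i W hW τ₀) =
      mulFrac i.2.2 (RelProj.emb p chart i.1.1 i.1.2 ⁻¹ᵁ W) (not_mem_of_le_VF p chart i W hW) b a n 0 hab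
        ((lam' i.1.1 i.1.2).app W τ₀) :=
  (lamEquiv p chart ℳ F lam hF i W hW).apply_symm_apply _

theorem eq_dmap (i : Idx 𝒮) (W : P.Opens) (hW : W ≤ VF p chart i) (τ₀ : Γ(F', W)) (σ₀ : Γ(F, W))
    (h : (lam i.1.1 i.1.2).app W σ₀ =
      mulFrac i.2.2 (RelProj.emb p chart i.1.1 i.1.2 ⁻¹ᵁ W) (not_mem_of_le_VF p chart i W hW) b a n 0 hab
        ((lam' i.1.1 i.1.2).app W τ₀)) :
    σ₀ = dmap p chart ℳ n F lam hF F' lam' a b hab i W hW τ₀ := by
  have h1 := lam_dmap p chart ℳ n F lam hF F' lam' a b hab i W hW τ₀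
  exact (hF.bijective i.1.1 i.1.2 W (hW.trans (VF_le p chart i))).1 (h.trans h1.symm)

include hF' in
theorem dmap_bijective (i : Idx 𝒮) (W : P.Opens) (hW : W ≤ VF p chart i) :
    Function.Bijective (dmap p chart ℳ n F lam hF F' lam' a b hab i W hW) := by
  have h1 := (lamEquiv p chart ℳ F lam hF i W hW).symm.bijective
  have h2 := mulFrac_bijective (ℳ := ℳ.deg i.1.1 i.1.2) i.2.2 (RelProj.emb p chart i.1.1 i.1.2 ⁻¹ᵁ W)
    (not_mem_of_le_VF p chart i W hW) b a n 0 hab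
  have h3 := hF'.bijective i.1.1 i.1.2 W (hW.trans (VF_le p chart i))
  exact h1.comp (h2.comp h3)

theorem dmap_nat (i : Idx 𝒮) (W W' : P.Opens) (hW : W ≤ VF p chart i) (hW' : W' ≤ W) (τ₀ : Γ(F', W)) :
    res F hW' (dmap p chart ℳ n F lam hF F' lam' a b hab i W hW τ₀) =
      dmap p chart ℳ n F lam hF F' lam' a b hab i W' (hW'.trans hW) (res F' hW' τ₀) := by
  refine eq_dmap p chart ℳ n F lam hF F' lam' a b hab i W' (hW'.trans hW) (res F' hW' τ₀) _ ?_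
  have h1 := app_map' (lam i.1.1 i.1.2) (homOfLE hW') (dmap p chart ℳ n F lam hF F' lam' a b hab i W hW τ₀)
  have h2 := app_map' (lam' i.1.1 i.1.2) (homOfLE hW') τ₀
  refine h1.trans ?_
  rw [lam_dmap]
  refine Eq.trans ?_ (congrArg (mulFrac i.2.2 (RelProj.emb p chart i.1.1 i.1.2 ⁻¹ᵁ W')
    (not_mem_of_le_VF p chart i W' (hW'.trans hW)) b a n 0 hab) h2.symm)
  rfl

theorem dmap_lin (i : Idx 𝒮) (W : P.Opens) (hW : W ≤ VF p chart i) (c : Γ(P, W)) (τ₀ : Γ(F', W)) :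
    dmap p chart ℳ n F lam hF F' lam' a b hab i W hW (c • τ₀) =
      c • dmap p chart ℳ n F lam hF F' lam' a b hab i W hW τ₀ := by
  symm
  refine eq_dmap p chart ℳ n F lam hF F' lam' a b hab i W hW (c • τ₀) _ ?_
  have e1 : (lam i.1.1 i.1.2).app W (c • dmap p chart ℳ n F lam hF F' lam' a b hab i W hW τ₀) =
      c • (lam i.1.1 i.1.2).app W (dmap p chart ℳ n F lam hF F' lam' a b hab i W hW τ₀) :=
    Scheme.Modules.Hom.app_smul _ _ _
  have e2 : (lam' i.1.1 i.1.2).app W (c • τ₀) = c • (lam' i.1.1 i.1.2).app W τ₀ :=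
    Scheme.Modules.Hom.app_smul _ _ _
  have e3 := pushforward_smul (f := RelProj.emb p chart i.1.1 i.1.2)
    (GrMod.tilde (𝒮.deg i.1.1 i.1.2) (ℳ.deg i.1.1 i.1.2) 0) W c
    ((lam i.1.1 i.1.2).app W (dmap p chart ℳ n F lam hF F' lam' a b hab i W hW τ₀))
  have e4 := pushforward_smul (f := RelProj.emb p chart i.1.1 i.1.2)
    (GrMod.tilde (𝒮.deg i.1.1 i.1.2) (ℳ.deg i.1.1 i.1.2) n) W c ((lam' i.1.1 i.1.2).app W τ₀)
  have e5 := mulFrac_smul (ℳ := ℳ.deg i.1.1 i.1.2) i.2.2 (RelProj.emb p chart i.1.1 i.1.2 ⁻¹ᵁ W)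
    (not_mem_of_le_VF p chart i W hW)
    b a n 0 hab ((RelProj.emb p chart i.1.1 i.1.2).app W c) ((lam' i.1.1 i.1.2).app W τ₀)
  have e6 := lam_dmap p chart ℳ n F lam hF F' lam' a b hab i W hW τ₀
  refine e1.trans (e3.trans ?_)
  refine Eq.trans ?_ (congrArg (mulFrac i.2.2 (RelProj.emb p chart i.1.1 i.1.2 ⁻¹ᵁ W)
    (not_mem_of_le_VF p chart i W hW) b a n 0 hab) (e2.trans e4).symm)
  refine Eq.trans ?_ e5.symm
  exact congrArg (fun z : Γ(GrMod.tilde (𝒮.deg i.1.1 i.1.2) (ℳ.deg i.1.1 i.1.2) 0,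
    RelProj.emb p chart i.1.1 i.1.2 ⁻¹ᵁ W) => ((RelProj.emb p chart i.1.1 i.1.2).app W c) • z) e6

/-- the local families. -/
noncomputable def fam (i : Idx 𝒮) : LocFam (VF p chart i) F' F where
  d W hW := dmap p chart ℳ n F lam hF F' lam' a b hab i W hW
  nat W W' hW hW' τ₀ := dmap_nat p chart ℳ n F lam hF F' lam' a b hab i W W' hW hW' τ₀
  lin W hW c τ₀ := dmap_lin p chart ℳ n F lam hF F' lam' a b hab i W hW c τ₀

include hF' in
/-- the local map, read in the chart over a basic open `U'' ⊆ U`. -/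
theorem val_lam_dmap_res (hP : RelProj.IsRelProj 𝒮 p chart) (i : Idx 𝒮) (r : Γ(S, i.1.1))
    (U'' : S.Opens) (hU'' : IsAffineOpen U'') (hr : U'' = S.basicOpen r) (hle : U'' ≤ i.1.1)
    (W : P.Opens) (hW : W ≤ VF p chart i) (τ₀ : Γ(F', W))
    (O : P.Opens) (hOW : O ≤ W) (y'' : ProjectiveSpectrum (𝒮.deg U'' hU''))
    (hy'' : (RelProj.emb p chart U'' hU'') y'' ∈ O) :
    GrMod.val (V := RelProj.emb p chart U'' hU'' ⁻¹ᵁ O)
        ((lam U'' hU'').app O (res F hOW (dmap p chart ℳ n F lam hF F' lam' a b hab i W hW τ₀))) ⟨y'', hy''⟩ =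
      zv y'' (𝒮.res i.1.2 hU'' hle i.2.1)
          (res_not_mem p chart hP i r U'' hU'' hr hle y'' (hW (hOW hy''))) b a •
        GrMod.val (V := RelProj.emb p chart U'' hU'' ⁻¹ᵁ O)
          ((lam' U'' hU'').app O (res F' hOW τ₀)) ⟨y'', hy''⟩ := by
  subst hr
  have hy' : (RelProj.emb p chart i.1.1 i.1.2) (ProjectiveSpectrum.comap
      (𝒮.res i.1.2 (i.1.2.basicOpen r) (S.basicOpen_le r)) (𝒮.irrelevant_le_map i.1.1 i.1.2 r) y'') ∈ O := by
    have e1 := RelProj.map_res_emb hP i.1.1 i.1.2 r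
    have e2 : (RelProj.emb p chart (S.basicOpen r) (i.1.2.basicOpen r)) y'' =
        (RelProj.emb p chart i.1.1 i.1.2) ((Proj.map (𝒮.res i.1.2 (i.1.2.basicOpen r) (S.basicOpen_le r))
          (𝒮.irrelevant_le_map i.1.1 i.1.2 r)) y'') := by
      rw [← Scheme.Hom.comp_apply, e1]
    rw [e2] at hy''
    exact hy''
  have hc := hF.compat i.1.1 i.1.2 r O
    (res F hOW (dmap p chart ℳ n F lam hF F' lam' a b hab i W hW τ₀)) y'' hy'' hy'
  have hc' := hF'.compat i.1.1 i.1.2 r O (res F' hOW τ₀) y'' hy'' hy'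
  have e_nat := dmap_nat p chart ℳ n F lam hF F' lam' a b hab i W O hW hOW τ₀
  have e_lam := lam_dmap p chart ℳ n F lam hF F' lam' a b hab i O (hOW.trans hW) (res F' hOW τ₀)
  have e_comb : (lam i.1.1 i.1.2).app O (res F hOW (dmap p chart ℳ n F lam hF F' lam' a b hab i W hW τ₀)) =
      mulFrac i.2.2 (RelProj.emb p chart i.1.1 i.1.2 ⁻¹ᵁ O) (not_mem_of_le_VF p chart i O (hOW.trans hW))
        b a n 0 hab ((lam' i.1.1 i.1.2).app O (res F' hOW τ₀)) :=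
    (congrArg (fun z : Γ(F, O) => (lam i.1.1 i.1.2).app O z) e_nat).trans e_lam
  have h1 : GrMod.val (V := RelProj.emb p chart i.1.1 i.1.2 ⁻¹ᵁ O)
      ((lam i.1.1 i.1.2).app O (res F hOW (dmap p chart ℳ n F lam hF F' lam' a b hab i W hW τ₀)))
      ⟨_, hy'⟩ =
      zv _ i.2.1 (not_mem_of_mem_VF p chart i _ (hW (hOW hy'))) b a •
        GrMod.val (V := RelProj.emb p chart i.1.1 i.1.2 ⁻¹ᵁ O)
          ((lam' i.1.1 i.1.2).app O (res F' hOW τ₀)) ⟨_, hy'⟩ :=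
    (congrArg (fun z : Γ(GrMod.tilde (𝒮.deg i.1.1 i.1.2) (ℳ.deg i.1.1 i.1.2) 0,
      RelProj.emb p chart i.1.1 i.1.2 ⁻¹ᵁ O) => GrMod.val (V := RelProj.emb p chart i.1.1 i.1.2 ⁻¹ᵁ O) z
        ⟨_, hy'⟩) e_comb).trans rfl
  refine hc.trans ((congrArg (GrMod.locModMap (𝒮.res i.1.2 (i.1.2.basicOpen r) (S.basicOpen_le r))
    (𝒮.irrelevant_le_map i.1.1 i.1.2 r) (ℳ.res i.1.2 (i.1.2.basicOpen r) (S.basicOpen_le r)) y'') h1).trans
    ((locModMap_zv_smul _ _ _ _ _ _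
      (res_not_mem p chart hP i r (S.basicOpen r) (i.1.2.basicOpen r) rfl hle y'' (hW (hOW hy''))) _ _ _).trans
      ?_))
  exact congrArg (fun z => zv y'' (𝒮.res i.1.2 (i.1.2.basicOpen r) hle i.2.1)
    (res_not_mem p chart hP i r (S.basicOpen r) (i.1.2.basicOpen r) rfl hle y'' (hW (hOW hy''))) b a • z)
    hc'.symm

end fam

section main

variable (n : ℤ) (F : P.Modules)
  (lam : ∀ (U : S.Opens) (hU : IsAffineOpen U),
    F ⟶ (Scheme.Modules.pushforward (RelProj.emb p chart U hU)).obj (GrMod.tilde (𝒮.deg U hU) (ℳ.deg U hU) 0))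
  (hF : RelProj.IsRelTilde 𝒮 p chart ℳ 0 F lam) (F' : P.Modules)
  (lam' : ∀ (U : S.Opens) (hU : IsAffineOpen U),
    F' ⟶ (Scheme.Modules.pushforward (RelProj.emb p chart U hU)).obj (GrMod.tilde (𝒮.deg U hU) (ℳ.deg U hU) n))
  (hF' : RelProj.IsRelTilde 𝒮 p chart ℳ n F' lam') (L : P.Modules)
  (lamL : ∀ (U : S.Opens) (hU : IsAffineOpen U),
    L ⟶ (Scheme.Modules.pushforward (RelProj.emb p chart U hU)).obj (GrTwist.twist (𝒮.deg U hU) n))
  (hL : RelProj.IsRelTwist 𝒮 p chart n L lamL)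
  (a b : ℕ) (hab : (b : ℤ) + n = a + 0) (hn : (a : ℤ) = b + n)

include hF' in
theorem dmap_trans (hP : RelProj.IsRelProj 𝒮 p chart) (i j : Idx 𝒮) (W : P.Opens)
    (hi : W ≤ VF p chart i) (hj : W ≤ VF p chart j) (g : Γ(P, W))
    (hg : res L hi (eF p chart n L lamL hL a b hn i) = g • res L hj (eF p chart n L lamL hL a b hn j))
    (τ₀ : Γ(F', W)) :
    dmap p chart ℳ n F lam hF F' lam' a b hab j W hj τ₀ =
      g • dmap p chart ℳ n F lam hF F' lam' a b hab i W hi τ₀ := by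
  have key : ∀ x : W, ∃ (O : P.Opens) (hO : O ≤ W), x.1 ∈ O ∧
      res F hO (dmap p chart ℳ n F lam hF F' lam' a b hab j W hj τ₀) =
      res F hO (g • dmap p chart ℳ n F lam hF F' lam' a b hab i W hi τ₀) := by
    intro x
    obtain ⟨r, r', hrr', hx⟩ := exists_basicOpen_le_affine_inter i.1.2 j.1.2 (p x.1)
      ⟨VF_le p chart i (hi x.2), VF_le p chart j (hj x.2)⟩
    have hle' : S.basicOpen r ≤ j.1.1 := hrr' ▸ S.basicOpen_le r'
    refine ⟨W ⊓ p ⁻¹ᵁ (S.basicOpen r), inf_le_left, ⟨x.2, hx⟩, ?_⟩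
    have hg2 := congrArg (res L (inf_le_left : W ⊓ p ⁻¹ᵁ (S.basicOpen r) ≤ W)) hg
    rw [res_smul, res_res, res_res] at hg2
    have v := (res_eF_eq_smul_iff p chart n L lamL hL a b hn hP i j r r' (S.basicOpen r)
      (i.1.2.basicOpen r) rfl hrr' (S.basicOpen_le r) hle' _ _ _ inf_le_right _).mp hg2
    apply (hF.bijective (S.basicOpen r) (i.1.2.basicOpen r) _ inf_le_right).1
    apply sec_ext
    intro y'' hy''
    have hy2 : (RelProj.emb p chart (S.basicOpen r) (i.1.2.basicOpen r)) y'' ∈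
        W ⊓ p ⁻¹ᵁ (S.basicOpen r) := hy''
    have f1 := val_lam_dmap_res p chart ℳ n F lam hF F' lam' hF' a b hab hP j r' (S.basicOpen r)
      (i.1.2.basicOpen r) hrr' hle' W hj τ₀ _ inf_le_left y'' hy2
    have f2 := val_lam_dmap_res p chart ℳ n F lam hF F' lam' hF' a b hab hP i r (S.basicOpen r)
      (i.1.2.basicOpen r) rfl (S.basicOpen_le r) W hi τ₀ _ inf_le_left y'' hy2
    have v' := v y'' hy2
    have k1 := zv_mul y'' (𝒮.res i.1.2 (i.1.2.basicOpen r) (S.basicOpen_le r) i.2.1)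
      (res_not_mem p chart hP i r (S.basicOpen r) (i.1.2.basicOpen r) rfl (S.basicOpen_le r) y''
        (hi hy2.1)) a b b a 0 0 (by omega)
    have k2 := zv_mul y'' (𝒮.res j.1.2 (i.1.2.basicOpen r) hle' j.2.1)
      (res_not_mem p chart hP j r' (S.basicOpen r) (i.1.2.basicOpen r) hrr' hle' y''
        (hj hy2.1)) a b b a 0 0 (by omega)
    have k0 : ∀ (t : 𝒮.presheaf.obj (op (S.basicOpen r))) (ht : t ∉ y''.asHomogeneousIdeal),
        zv y'' t ht 0 0 = 1 := by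
      intro t ht
      unfold zv
      simp only [pow_zero]
      exact Localization.mk_one
    rw [k0] at k1 k2
    have e1 := res_smul (F := F) (inf_le_left : W ⊓ p ⁻¹ᵁ (S.basicOpen r) ≤ W) g
      (dmap p chart ℳ n F lam hF F' lam' a b hab i W hi τ₀)
    have e2 : (lam (S.basicOpen r) (i.1.2.basicOpen r)).app (W ⊓ p ⁻¹ᵁ (S.basicOpen r))
        (resf (inf_le_left : W ⊓ p ⁻¹ᵁ (S.basicOpen r) ≤ W) g •
          res F (inf_le_left : W ⊓ p ⁻¹ᵁ (S.basicOpen r) ≤ W)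
            (dmap p chart ℳ n F lam hF F' lam' a b hab i W hi τ₀)) =
        resf (inf_le_left : W ⊓ p ⁻¹ᵁ (S.basicOpen r) ≤ W) g •
          (lam (S.basicOpen r) (i.1.2.basicOpen r)).app (W ⊓ p ⁻¹ᵁ (S.basicOpen r))
            (res F (inf_le_left : W ⊓ p ⁻¹ᵁ (S.basicOpen r) ≤ W)
              (dmap p chart ℳ n F lam hF F' lam' a b hab i W hi τ₀)) :=
      Scheme.Modules.Hom.app_smul _ _ _
    have e3 := pushforward_smul (f := RelProj.emb p chart (S.basicOpen r) (i.1.2.basicOpen r))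
      (GrMod.tilde (𝒮.deg (S.basicOpen r) (i.1.2.basicOpen r)) (ℳ.deg (S.basicOpen r) (i.1.2.basicOpen r)) 0)
      (W ⊓ p ⁻¹ᵁ (S.basicOpen r)) (resf (inf_le_left : W ⊓ p ⁻¹ᵁ (S.basicOpen r) ≤ W) g)
      ((lam (S.basicOpen r) (i.1.2.basicOpen r)).app (W ⊓ p ⁻¹ᵁ (S.basicOpen r))
        (res F (inf_le_left : W ⊓ p ⁻¹ᵁ (S.basicOpen r) ≤ W)
          (dmap p chart ℳ n F lam hF F' lam' a b hab i W hi τ₀)))
    have eR := (congrArg (fun z : Γ(F, W ⊓ p ⁻¹ᵁ (S.basicOpen r)) =>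
      (lam (S.basicOpen r) (i.1.2.basicOpen r)).app (W ⊓ p ⁻¹ᵁ (S.basicOpen r)) z) e1).trans (e2.trans e3)
    have eRv := (congrArg (fun z : Γ(GrMod.tilde (𝒮.deg (S.basicOpen r) (i.1.2.basicOpen r))
      (ℳ.deg (S.basicOpen r) (i.1.2.basicOpen r)) 0,
      RelProj.emb p chart (S.basicOpen r) (i.1.2.basicOpen r) ⁻¹ᵁ (W ⊓ p ⁻¹ᵁ (S.basicOpen r))) =>
      secVal (𝒮.deg (S.basicOpen r) (i.1.2.basicOpen r)) (ℳ.deg (S.basicOpen r) (i.1.2.basicOpen r)) 0 _ z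
        y'' hy'') eR).trans (secVal_smul _ _ _ _ _ _ y'' hy'')
    refine Eq.trans f1 (Eq.trans ?_ eRv.symm)
    refine Eq.trans ?_ (congrArg (fun z => (funVal (𝒮.deg (S.basicOpen r) (i.1.2.basicOpen r)) _
      ((RelProj.emb p chart (S.basicOpen r) (i.1.2.basicOpen r)).app _
        (resf (inf_le_left : W ⊓ p ⁻¹ᵁ (S.basicOpen r) ≤ W) g)) y'' hy'').val • z) f2.symm)
    rw [smul_smul]
    congr 1
    linear_combination
      (zv y'' (𝒮.res i.1.2 (i.1.2.basicOpen r) (S.basicOpen_le r) i.2.1)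
        (res_not_mem p chart hP i r (S.basicOpen r) (i.1.2.basicOpen r) rfl (S.basicOpen_le r) y''
          (hi hy2.1)) b a *
       zv y'' (𝒮.res j.1.2 (i.1.2.basicOpen r) hle' j.2.1)
        (res_not_mem p chart hP j r' (S.basicOpen r) (i.1.2.basicOpen r) hrr' hle' y''
          (hj hy2.1)) b a) * v' -
      zv y'' (𝒮.res j.1.2 (i.1.2.basicOpen r) hle' j.2.1)
        (res_not_mem p chart hP j r' (S.basicOpen r) (i.1.2.basicOpen r) hrr' hle' y''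
          (hj hy2.1)) b a * k1 +
      (funVal (𝒮.deg (S.basicOpen r) (i.1.2.basicOpen r)) _
        ((RelProj.emb p chart (S.basicOpen r) (i.1.2.basicOpen r)).app _
          (resf (inf_le_left : W ⊓ p ⁻¹ᵁ (S.basicOpen r) ≤ W) g)) y'' hy'').val *
       zv y'' (𝒮.res i.1.2 (i.1.2.basicOpen r) (S.basicOpen_le r) i.2.1)
        (res_not_mem p chart hP i r (S.basicOpen r) (i.1.2.basicOpen r) rfl (S.basicOpen_le r) y''
          (hi hy2.1)) b a * k2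
  choose O hO hxO hres using key
  refine (modSheaf F).eq_of_locally_eq' O _ (fun x => homOfLE (hO x)) ?_ _ _ hres
  intro x hx'
  exact Opens.mem_iSup.mpr ⟨⟨x, hx'⟩, hxO _⟩

include hF hF' hL in
/-- **`(ℳ(n))~ ≅ ℳ~ ⊗ O_P(n)`** on a relative Proj generated in degree one. -/
theorem nonempty_iso_tensor (hP : RelProj.IsRelProj 𝒮 p chart) (hgen : 𝒮.IsGenDegOne) :
    Nonempty (F' ≅ CohB1.tensorMod F L) := by
  have hn : ((n.toNat : ℕ) : ℤ) = ((-n).toNat : ℕ) + n := by omega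
  have hab : (((-n).toNat : ℕ) : ℤ) + n = (n.toNat : ℕ) + 0 := by omega
  have hcov : ⨆ i, VF p chart i = (⊤ : P.Opens) := by
    apply top_unique
    intro x _
    obtain ⟨i, hi⟩ := exists_mem_VF p chart hgen x
    exact Opens.mem_iSup.mpr ⟨i, hi⟩
  exact Groth.Agent.Lib.T2H4.TensorFrame.nonempty_iso_tensor_of_frames F' F L (VF p chart) hcov
    (fun i => eF p chart n L lamL hL n.toNat (-n).toNat hn i)
    (fun i => isGen_eF p chart n L lamL hL n.toNat (-n).toNat hn i)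
    (fun i => fam p chart ℳ n F lam hF F' lam' n.toNat (-n).toNat hab i)
    (fun i W hW => dmap_bijective p chart ℳ n F lam hF F' lam' hF' n.toNat (-n).toNat hab i W hW)
    (fun i j W hi hj g hg τ₀ => dmap_trans p chart ℳ n F lam hF F' lam' hF' L lamL hL n.toNat (-n).toNat
      hab hn hP i j W hi hj g hg τ₀)

end main

end Groth.Agent.Lib.T2H4.TensorFrameRel
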