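import Mathlib
import Groth.Agent.Lib.Helper13TorNat

/-!
# Kernel of `K ⊗ N → P₁ ⊗ N` and `Tor` of the cokernel for a map of flat modules
-/

set_option autoImplicit false
universe u
open CategoryTheory CategoryTheory.Limits MonoidalCategory
open Groth.Agent.Helper13Tor

namespace Groth.Agent.Lib.T2H4.TorKer

variable {R : Type u} [CommRing R]

theorem tor_succ_iso (S : ShortComplex (ModuleCat.{u} R)) (hS : S.ShortExact) (Y : ModuleCat.{u} R)
    (i : ℕ)
    (h₁ : IsZero (((Tor (ModuleCat.{u} R) (i + 1)).obj S.X₂).obj Y))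
    (h₀ : IsZero (((Tor (ModuleCat.{u} R) i).obj S.X₂).obj Y)) :
    Nonempty ((((Tor (ModuleCat.{u} R) (i + 1)).obj S.X₃).obj Y) ≅
      (((Tor (ModuleCat.{u} R) i).obj S.X₁).obj Y)) := by
  obtain ⟨δ, w₁, w₂, hex₁, hex₂⟩ := exists_δ S hS Y i
  have : Mono δ := hex₁.mono_g (h₁.eq_of_src _ _)
  have : Epi δ := hex₂.epi_f (h₀.eq_of_tgt _ _)
  have : IsIso δ := isIso_of_mono_of_epi δ
  exact ⟨asIso δ⟩

theorem tor_one_equiv_ker (S : ShortComplex (ModuleCat.{u} R)) (hS : S.ShortExact)
    (Y : ModuleCat.{u} R)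
    (h₁ : IsZero (((Tor (ModuleCat.{u} R) 1).obj S.X₂).obj Y)) :
    Nonempty ((((Tor (ModuleCat.{u} R) 1).obj S.X₃).obj Y) ≃ₗ[R]
      LinearMap.ker (S.f.hom.rTensor Y)) := by
  obtain ⟨δ, w₁, w₂, hex₁, hex₂⟩ := exists_δ S hS Y 0
  have hδ : Mono δ := hex₁.mono_g (h₁.eq_of_src _ _)
  let e₁ := (torZeroIso.app S.X₁).app Y
  let e₂ := (torZeroIso.app S.X₂).app Y
  have nat : ((Tor (ModuleCat.{u} R) 0).map S.f).app Y ≫ e₂.hom = e₁.hom ≫ (S.f ▷ Y) := by
    have := congrArg (fun t => t.app Y) (torZeroIso (R := R).hom.naturality S.f)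
    exact this
  have w' : (δ ≫ e₁.hom) ≫ (S.f ▷ Y) = 0 := by
    rw [Category.assoc, ← nat, reassoc_of% w₂, zero_comp]
  have hex : (ShortComplex.mk (δ ≫ e₁.hom) (S.f ▷ Y) w').Exact := by
    refine ShortComplex.exact_of_iso (ShortComplex.isoMk (S₁ := ShortComplex.mk _ _ w₂)
      (S₂ := ShortComplex.mk (δ ≫ e₁.hom) (S.f ▷ Y) w') (Iso.refl _) e₁ e₂ ?_ ?_) hex₂
    · simp
    · exact nat.symm
  have inj : Function.Injective (δ ≫ e₁.hom).hom :=
    (ModuleCat.mono_iff_injective _).1 (mono_comp _ _)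
  have rng := (ShortComplex.moduleCat_exact_iff_range_eq_ker _).1 hex
  exact ⟨(LinearEquiv.ofInjective (δ ≫ e₁.hom).hom inj).trans (LinearEquiv.ofEq _ _ rng)⟩

section main

variable {P₁ P₀ N : Type u} [AddCommGroup P₁] [Module R P₁] [AddCommGroup P₀] [Module R P₀]
  [AddCommGroup N] [Module R N] (d : P₁ →ₗ[R] P₀)

/-- `0 → ker d → P₁ → range d → 0`. -/
noncomputable def S1 : ShortComplex (ModuleCat.{u} R) :=
  ShortComplex.mk (ModuleCat.ofHom (LinearMap.ker d).subtype) (ModuleCat.ofHom d.rangeRestrict) (by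
    ext x
    exact x.2)

/-- `0 → range d → P₀ → coker d → 0`. -/
noncomputable def S2 : ShortComplex (ModuleCat.{u} R) :=
  ShortComplex.mk (ModuleCat.ofHom (LinearMap.range d).subtype)
    (ModuleCat.ofHom (LinearMap.range d).mkQ) (by
    ext x
    exact (Submodule.Quotient.mk_eq_zero _).2 x.2)

theorem S1_shortExact : (S1 d).ShortExact := by
  have hex : (S1 d).Exact := by
    rw [ShortComplex.moduleCat_exact_iff]
    intro x hx
    exact ⟨⟨x, congrArg Subtype.val hx⟩, rfl⟩
  refine ShortComplex.ShortExact.mk' hex ?_ ?_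
  · exact (ModuleCat.mono_iff_injective _).2 (Submodule.injective_subtype _)
  · exact (ModuleCat.epi_iff_surjective _).2 d.surjective_rangeRestrict

theorem S2_shortExact : (S2 d).ShortExact := by
  have hex : (S2 d).Exact := by
    rw [ShortComplex.moduleCat_exact_iff]
    intro x hx
    exact ⟨⟨x, (Submodule.Quotient.mk_eq_zero _).1 hx⟩, rfl⟩
  refine ShortComplex.ShortExact.mk' hex ?_ ?_
  · exact (ModuleCat.mono_iff_injective _).2 (Submodule.injective_subtype _)
  · exact (ModuleCat.epi_iff_surjective _).2 (Submodule.mkQ_surjective _)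

variable (N) in
theorem eB_equiv [Module.Flat R P₁] :
    Nonempty (((Tor (ModuleCat.{u} R) 1).obj (ModuleCat.of R (LinearMap.range d))).obj
          (ModuleCat.of R N) ≃ₗ[R] LinearMap.ker ((LinearMap.ker d).subtype.rTensor N)) := by
  have hP₁ : Module.Flat R ((S1 d).X₂) := ‹Module.Flat R P₁›
  exact tor_one_equiv_ker (S1 d) (S1_shortExact d) (ModuleCat.of R N)
    (isZero_tor_of_flat _ _ 1 Nat.one_pos)

variable (N) in
theorem eC_equiv [Module.Flat R P₀] :
    Nonempty (((Tor (ModuleCat.{u} R) 1).obj (ModuleCat.of R (P₀ ⧸ LinearMap.range d))).obj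
          (ModuleCat.of R N) ≃ₗ[R] LinearMap.ker ((LinearMap.range d).subtype.rTensor N)) := by
  have hP₀ : Module.Flat R ((S2 d).X₂) := ‹Module.Flat R P₀›
  exact tor_one_equiv_ker (S2 d) (S2_shortExact d) (ModuleCat.of R N)
    (isZero_tor_of_flat _ _ 1 Nat.one_pos)

variable (N) in
theorem e2_equiv [Module.Flat R P₀] :
    Nonempty (((Tor (ModuleCat.{u} R) 2).obj (ModuleCat.of R (P₀ ⧸ LinearMap.range d))).obj
          (ModuleCat.of R N) ≃ₗ[R]
      ((Tor (ModuleCat.{u} R) 1).obj (ModuleCat.of R (LinearMap.range d))).obj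
          (ModuleCat.of R N)) := by
  have hP₀ : Module.Flat R ((S2 d).X₂) := ‹Module.Flat R P₀›
  obtain ⟨e2⟩ := tor_succ_iso (S2 d) (S2_shortExact d) (ModuleCat.of R N) 1
    (isZero_tor_of_flat _ _ 2 (by omega)) (isZero_tor_of_flat _ _ 1 Nat.one_pos)
  exact ⟨e2.toLinearEquiv⟩

variable (N) in
theorem third :
    Nonempty ((↥(LinearMap.ker (d.rTensor N)) ⧸
          Submodule.comap (LinearMap.ker (d.rTensor N)).subtype
            (LinearMap.range ((LinearMap.ker d).subtype.rTensor N))) ≃ₗ[R]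
        LinearMap.ker ((LinearMap.range d).subtype.rTensor N)) := by
  let p : TensorProduct R P₁ N →ₗ[R] TensorProduct R (LinearMap.range d) N :=
    d.rangeRestrict.rTensor N
  let j : TensorProduct R (LinearMap.range d) N →ₗ[R] TensorProduct R P₀ N :=
    (LinearMap.range d).subtype.rTensor N
  have hjp : j ∘ₗ p = d.rTensor N := by
    rw [← LinearMap.rTensor_comp]
    rfl
  have hp : Function.Surjective p := LinearMap.rTensor_surjective N d.surjective_rangeRestrict
  have hexp : Function.Exact ((LinearMap.ker d).subtype.rTensor N) p := by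
    refine rTensor_exact N ?_ d.surjective_rangeRestrict
    intro x
    constructor
    · intro hx
      exact ⟨⟨x, by simpa [Subtype.ext_iff] using hx⟩, rfl⟩
    · rintro ⟨y, rfl⟩
      apply Subtype.ext
      exact y.2
  let φ : LinearMap.ker (d.rTensor N) →ₗ[R] LinearMap.ker j :=
    LinearMap.codRestrict _ (p ∘ₗ (LinearMap.ker (d.rTensor N)).subtype) (by
      intro x
      rw [LinearMap.mem_ker, LinearMap.comp_apply, ← LinearMap.comp_apply, hjp]
      exact x.2)
  have hφ : Function.Surjective φ := by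
    rintro ⟨y, hy⟩
    obtain ⟨x, rfl⟩ := hp y
    have hx : x ∈ LinearMap.ker (d.rTensor N) := by
      rw [← hjp]
      exact hy
    exact ⟨⟨x, hx⟩, Subtype.ext rfl⟩
  have hker : LinearMap.ker φ = Submodule.comap (LinearMap.ker (d.rTensor N)).subtype
      (LinearMap.range ((LinearMap.ker d).subtype.rTensor N)) := by
    ext x
    rw [LinearMap.mem_ker, Submodule.mem_comap, LinearMap.mem_range]
    have := hexp x.1
    rw [Set.mem_range] at this
    rw [Submodule.subtype_apply, ← this, Subtype.ext_iff]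
    rfl
  have e1 := LinearMap.quotKerEquivOfSurjective (R := R) (M := LinearMap.ker (d.rTensor N))
    (M₂ := LinearMap.ker j) φ hφ
  rw [hker] at e1
  exact ⟨e1⟩

variable (N) in
theorem main [Module.Flat R P₁] [Module.Flat R P₀] :
    Nonempty (LinearMap.ker ((LinearMap.ker d).subtype.rTensor N) ≃ₗ[R]
        ((Tor (ModuleCat.{u} R) 2).obj (ModuleCat.of R (P₀ ⧸ LinearMap.range d))).obj
          (ModuleCat.of R N)) ∧
      LinearMap.range ((LinearMap.ker d).subtype.rTensor N) ≤ LinearMap.ker (d.rTensor N) ∧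
      Nonempty ((↥(LinearMap.ker (d.rTensor N)) ⧸
          Submodule.comap (LinearMap.ker (d.rTensor N)).subtype
            (LinearMap.range ((LinearMap.ker d).subtype.rTensor N))) ≃ₗ[R]
        ((Tor (ModuleCat.{u} R) 1).obj (ModuleCat.of R (P₀ ⧸ LinearMap.range d))).obj
          (ModuleCat.of R N)) := by
  have hle : LinearMap.range ((LinearMap.ker d).subtype.rTensor N) ≤
      LinearMap.ker (d.rTensor N) := by
    rintro _ ⟨x, rfl⟩
    rw [LinearMap.mem_ker, ← LinearMap.comp_apply, ← LinearMap.rTensor_comp]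
    have : d ∘ₗ (LinearMap.ker d).subtype = 0 := by
      ext x; exact x.2
    rw [this, LinearMap.rTensor_zero, LinearMap.zero_apply]
  obtain ⟨eB⟩ := eB_equiv N d
  obtain ⟨eC⟩ := eC_equiv N d
  obtain ⟨e2⟩ := e2_equiv N d
  obtain ⟨e3⟩ := third N d
  exact ⟨⟨eB.symm.trans e2.symm⟩, hle, ⟨e3.trans eC.symm⟩⟩

end main

end Groth.Agent.Lib.T2H4.TorKer
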