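import Mathlib.LinearAlgebra.Matrix.Rank
import Mathlib.LinearAlgebra.Matrix.ToLin
import Mathlib.LinearAlgebra.Matrix.Symmetric
import Mathlib.FieldTheory.Finiteness
import Mathlib.Data.ZMod.Basic
import Mathlib.Algebra.Module.Torsion.Basic
import Mathlib.LinearAlgebra.Quotient.Basic
import Mathlib.SetTheory.Cardinal.Finite
import Mathlib.Tactic

set_option autoImplicit false
open Finset

namespace Groth.Agent.Lib.T2H4.Torsion

variable {n : ℕ} (A : Matrix (Fin n) (Fin n) ℤ) (m : Fin n → ℤ) (ℓ : ℕ)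

/-- The edge set: pairs `i < j` with `0 < A i j`. -/
abbrev E := {p : Fin n × Fin n // p.1 < p.2 ∧ 0 < A p.1 p.2}

/-- The coboundary matrix (edges × vertices) over `ZMod ℓ`. -/
def B : Matrix (E A) (Fin n) (ZMod ℓ) := fun p i =>
  (if p.1.1 = i then 1 else 0) - (if p.1.2 = i then 1 else 0)

lemma B_mulVec (f : Fin n → ZMod ℓ) (p : E A) :
    (B A ℓ).mulVec f p = f p.1.1 - f p.1.2 := by
  simp [Matrix.mulVec, dotProduct, B, sub_mul, Finset.sum_sub_distrib]

/-- Connectivity: a function constant along edges is constant. -/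
lemma const_of_conn {β : Type*}
    (hconn : ∀ I : Finset (Fin n), I.Nonempty → I ≠ univ → ∃ i ∈ I, ∃ j ∉ I, A i j ≠ 0)
    (g : Fin n → β) (hg : ∀ i j, i ≠ j → A i j ≠ 0 → g i = g j) (i0 : Fin n) :
    ∀ i, g i = g i0 := by
  classical
  by_contra hne
  push Not at hne
  obtain ⟨i1, hi1⟩ := hne
  let I : Finset (Fin n) := univ.filter fun i => g i = g i0
  have hI1 : I.Nonempty := ⟨i0, by simp [I]⟩
  have hI2 : I ≠ univ := by
    intro h
    have : i1 ∈ I := h ▸ mem_univ i1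
    simp [I] at this
    exact hi1 this
  obtain ⟨i, hi, j, hj, hij⟩ := hconn I hI1 hI2
  have hi' : g i = g i0 := by simpa [I] using hi
  have hj' : ¬ g j = g i0 := by simpa [I] using hj
  have hne : i ≠ j := by
    rintro rfl
    exact hj' hi'
  exact hj' ((hg i j hne hij).symm.trans hi')

/-- The kernel of the coboundary is spanned by the constant function `1`. -/
lemma ker_B_le
    (hsymm : A.IsSymm) (hA : ∀ i j, i ≠ j → 0 ≤ A i j)
    (hconn : ∀ I : Finset (Fin n), I.Nonempty → I ≠ univ → ∃ i ∈ I, ∃ j ∉ I, A i j ≠ 0) :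
    LinearMap.ker (B A ℓ).mulVecLin ≤ Submodule.span (ZMod ℓ) {(fun _ => 1 : Fin n → ZMod ℓ)} := by
  intro f hf
  rw [LinearMap.mem_ker, Matrix.mulVecLin_apply] at hf
  have hedge : ∀ i j, i ≠ j → A i j ≠ 0 → f i = f j := by
    intro i j hij hAij
    rcases lt_or_gt_of_ne hij with h | h
    · have hpos : 0 < A i j := lt_of_le_of_ne (hA i j hij) (Ne.symm hAij)
      have := congrFun hf ⟨(i, j), h, hpos⟩
      rw [B_mulVec] at this
      simpa [sub_eq_zero] using this
    · have hAji : A j i = A i j := hsymm.apply i j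
      have hpos : 0 < A j i := by
        rw [hAji]; exact lt_of_le_of_ne (hA i j hij) (Ne.symm hAij)
      have := congrFun hf ⟨(j, i), h, hpos⟩
      rw [B_mulVec] at this
      have h2 : f j = f i := by simpa [sub_eq_zero] using this
      exact h2.symm
  rcases isEmpty_or_nonempty (Fin n) with hn | ⟨⟨i0⟩⟩
  · have : f = 0 := Subsingleton.elim _ _
    rw [this]; exact Submodule.zero_mem _
  · rw [Submodule.mem_span_singleton]
    refine ⟨f i0, ?_⟩
    funext i
    simp [const_of_conn A hconn f hedge i0 i]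

lemma finrank_ker_transpose_le
    (hsymm : A.IsSymm) (hA : ∀ i j, i ≠ j → 0 ≤ A i j)
    (hconn : ∀ I : Finset (Fin n), I.Nonempty → I ≠ univ → ∃ i ∈ I, ∃ j ∉ I, A i j ≠ 0)
    [Fact ℓ.Prime] :
    Module.finrank (ZMod ℓ) (LinearMap.ker (B A ℓ).transpose.mulVecLin)
      ≤ Fintype.card (E A) + 1 - n := by
  have h1 := LinearMap.finrank_range_add_finrank_ker (B A ℓ).transpose.mulVecLin
  have h2 := LinearMap.finrank_range_add_finrank_ker (B A ℓ).mulVecLin
  have h3 : (B A ℓ).transpose.rank = (B A ℓ).rank := Matrix.rank_transpose _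
  rw [Matrix.rank, Matrix.rank] at h3
  rw [Module.finrank_fintype_fun_eq_card] at h1 h2
  have h4 : Module.finrank (ZMod ℓ) (LinearMap.ker (B A ℓ).mulVecLin) ≤ 1 := by
    refine (Submodule.finrank_mono (ker_B_le A ℓ hsymm hA hconn)).trans ?_
    refine (finrank_span_le_card _).trans ?_
    simp
  simp only [Fintype.card_fin] at h2
  omega

/-- the integer-valued antisymmetric "flow" -/
def tt (y : Fin n → ℤ) (a b : Fin n) : ℤ := A a b * (m b * y a - m a * y b)

/-- The current attached to `y`. -/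
def cur (y : Fin n → ℤ) : E A → ZMod ℓ := fun p => ((tt A m y p.1.1 p.1.2 : ℤ) : ZMod ℓ)

/-- edge-indicator version of `tt`. -/
def GG (y : Fin n → ℤ) (a b : Fin n) : ZMod ℓ :=
  if a < b ∧ 0 < A a b then ((tt A m y a b : ℤ) : ZMod ℓ) else 0

lemma GG_sub (hsymm : A.IsSymm) (hA : ∀ i j, i ≠ j → 0 ≤ A i j) (y : Fin n → ℤ) (i j : Fin n) :
    GG A m ℓ y i j - GG A m ℓ y j i = ((tt A m y i j : ℤ) : ZMod ℓ) := by
  have hAji : A j i = A i j := hsymm.apply i j
  rcases lt_trichotomy i j with h | h | h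
  · have h' : ¬ j < i := not_lt.mpr h.le
    by_cases hpos : 0 < A i j
    · simp [GG, h, h', hpos]
    · have : A i j = 0 := le_antisymm (not_lt.mp hpos) (hA i j h.ne)
      simp [GG, h, h', tt, this]
  · subst h
    simp [GG, tt]
  · have h' : ¬ i < j := not_lt.mpr h.le
    by_cases hpos : 0 < A i j
    · have hpos' : 0 < A j i := by rw [hAji]; exact hpos
      simp only [GG, h, h', hpos', false_and, true_and, if_true, if_false, zero_sub]
      rw [← Int.cast_neg]
      congr 1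
      simp only [tt, hAji]
      ring
    · have : A i j = 0 := le_antisymm (not_lt.mp hpos) (hA i j h.ne')
      have hpos' : ¬ 0 < A j i := by rw [hAji]; exact hpos
      simp [GG, h, h', tt, this, hpos']

lemma sum_tt (hAm : A.mulVec m = 0) (y x : Fin n → ℤ) (hy : A.mulVec y = (ℓ : ℤ) • x) (i : Fin n) :
    ∑ j, tt A m y i j = - (m i * ((ℓ : ℤ) * x i)) := by
  have h1 : ∑ j, A i j * m j = 0 := by
    have := congrFun hAm i
    simpa [Matrix.mulVec, dotProduct] using this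
  have h2 : ∑ j, A i j * y j = (ℓ : ℤ) * x i := by
    have := congrFun hy i
    simpa [Matrix.mulVec, dotProduct] using this
  calc ∑ j, tt A m y i j = y i * ∑ j, A i j * m j - m i * ∑ j, A i j * y j := by
        rw [Finset.mul_sum, Finset.mul_sum, ← Finset.sum_sub_distrib]
        refine Finset.sum_congr rfl fun j _ => ?_
        simp only [tt]; ring
    _ = _ := by rw [h1, h2]; ring

lemma cur_mem (hsymm : A.IsSymm) (hA : ∀ i j, i ≠ j → 0 ≤ A i j) (hAm : A.mulVec m = 0)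
    (y x : Fin n → ℤ) (hy : A.mulVec y = (ℓ : ℤ) • x) :
    cur A m ℓ y ∈ LinearMap.ker (B A ℓ).transpose.mulVecLin := by
  rw [LinearMap.mem_ker, Matrix.mulVecLin_apply]
  funext i
  have key : ((B A ℓ).transpose.mulVec (cur A m ℓ y)) i
      = ∑ a, ∑ b, ((if a = i then 1 else 0) - (if b = i then 1 else 0)) * GG A m ℓ y a b := by
    rw [← Fintype.sum_prod_type (f := fun q : Fin n × Fin n =>
      ((if q.1 = i then (1 : ZMod ℓ) else 0) - (if q.2 = i then 1 else 0)) * GG A m ℓ y q.1 q.2)]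
    have : ∀ q : Fin n × Fin n,
        ((if q.1 = i then (1 : ZMod ℓ) else 0) - (if q.2 = i then 1 else 0)) * GG A m ℓ y q.1 q.2
        = if q.1 < q.2 ∧ 0 < A q.1 q.2 then
            ((if q.1 = i then (1 : ZMod ℓ) else 0) - (if q.2 = i then 1 else 0))
              * ((tt A m y q.1 q.2 : ℤ) : ZMod ℓ) else 0 := by
      intro q
      simp only [GG]
      split_ifs <;> simp
    simp_rw [this]
    rw [← Finset.sum_filter]
    have hs := Finset.sum_subtype (univ.filter fun q : Fin n × Fin n => q.1 < q.2 ∧ 0 < A q.1 q.2)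
      (p := fun q : Fin n × Fin n => q.1 < q.2 ∧ 0 < A q.1 q.2) (F := inferInstance) (by simp)
      (fun q => ((if q.1 = i then (1 : ZMod ℓ) else 0) - (if q.2 = i then 1 else 0))
              * ((tt A m y q.1 q.2 : ℤ) : ZMod ℓ))
    rw [hs]
    simp [Matrix.mulVec, dotProduct, B, cur]
  rw [key]
  simp only [sub_mul, Finset.sum_sub_distrib, ite_mul, one_mul, zero_mul]
  simp only [Finset.sum_ite_eq', Finset.mem_univ, if_true]
  rw [Finset.sum_comm]
  simp only [Finset.sum_ite_eq', Finset.mem_univ, if_true]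
  rw [← Finset.sum_sub_distrib]
  simp_rw [GG_sub A m ℓ hsymm hA y]
  rw [← Int.cast_sum, sum_tt A m ℓ hAm y x hy i]
  simp

lemma inj_key (hsymm : A.IsSymm) (hA : ∀ i j, i ≠ j → 0 ≤ A i j) (hAm : A.mulVec m = 0)
    (hconn : ∀ I : Finset (Fin n), I.Nonempty → I ≠ univ → ∃ i ∈ I, ∃ j ∉ I, A i j ≠ 0)
    [Fact ℓ.Prime]
    (hℓA : ∀ i j, A i j ≠ 0 → ¬ ((ℓ : ℤ) ∣ A i j)) (hℓm : ∀ i, ¬ ((ℓ : ℤ) ∣ m i))
    (y y' x x' : Fin n → ℤ) (hy : A.mulVec y = (ℓ : ℤ) • x) (hy' : A.mulVec y' = (ℓ : ℤ) • x')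
    (hc : cur A m ℓ y = cur A m ℓ y') : ∃ w, A.mulVec w = x - x' := by
  rcases isEmpty_or_nonempty (Fin n) with hn | ⟨⟨i0⟩⟩
  · exact ⟨0, Subsingleton.elim _ _⟩
  have hm0 : ∀ i, ((m i : ℤ) : ZMod ℓ) ≠ 0 := fun i h =>
    hℓm i ((ZMod.intCast_zmod_eq_zero_iff_dvd _ _).mp h)
  let g : Fin n → ZMod ℓ := fun i => (((y i - y' i : ℤ)) : ZMod ℓ) * ((m i : ℤ) : ZMod ℓ)⁻¹
  have hedge' : ∀ a b (h : a < b) (hpos : 0 < A a b), g a = g b := by
    intro a b h hpos
    have := congrFun hc ⟨(a, b), h, hpos⟩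
    simp only [cur, tt] at this
    have hA0 : ((A a b : ℤ) : ZMod ℓ) ≠ 0 := fun h0 =>
      hℓA a b hpos.ne' ((ZMod.intCast_zmod_eq_zero_iff_dvd _ _).mp h0)
    push_cast at this
    have h3 := mul_left_cancel₀ hA0 this
    have ha := hm0 a
    have hb := hm0 b
    simp only [g, Int.cast_sub]
    field_simp
    linear_combination h3
  have hedge : ∀ i j, i ≠ j → A i j ≠ 0 → g i = g j := by
    intro i j hij hAij
    rcases lt_or_gt_of_ne hij with h | h
    · exact hedge' i j h (lt_of_le_of_ne (hA i j hij) (Ne.symm hAij))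
    · have hAji : A j i = A i j := hsymm.apply i j
      exact (hedge' j i h (by rw [hAji]; exact lt_of_le_of_ne (hA i j hij) (Ne.symm hAij))).symm
  have hconst := const_of_conn A hconn g hedge i0
  obtain ⟨S, hS⟩ := ZMod.intCast_surjective (g i0)
  have hdvd : ∀ i, (ℓ : ℤ) ∣ (y i - y' i) - S * m i := by
    intro i
    rw [← ZMod.intCast_zmod_eq_zero_iff_dvd]
    have hi := hm0 i
    push_cast
    rw [hS, ← hconst i]
    simp only [g, Int.cast_sub]
    field_simp
    ring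
  choose w hw using hdvd
  refine ⟨w, ?_⟩
  have h1 : A.mulVec (y - y') = (ℓ : ℤ) • (x - x') := by
    rw [Matrix.mulVec_sub, hy, hy', smul_sub]
  have h2 : y - y' = S • m + (ℓ : ℤ) • w := by
    funext i
    have := hw i
    simp only [Pi.add_apply, Pi.smul_apply, Pi.sub_apply, smul_eq_mul]
    linarith
  rw [h2, Matrix.mulVec_add, Matrix.mulVec_smul, Matrix.mulVec_smul, hAm, smul_zero, zero_add] at h1
  funext i
  have := congrFun h1 i
  simp only [Pi.smul_apply, smul_eq_mul] at this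
  have hl : (ℓ : ℤ) ≠ 0 := by exact_mod_cast (Fact.out : ℓ.Prime).ne_zero
  exact mul_left_cancel₀ hl this

theorem main (hsymm : A.IsSymm) (hA : ∀ i j, i ≠ j → 0 ≤ A i j)
    (hAm : A.mulVec m = 0)
    (hconn : ∀ I : Finset (Fin n), I.Nonempty → I ≠ univ → ∃ i ∈ I, ∃ j ∉ I, A i j ≠ 0)
    (hℓ : ℓ.Prime) (hℓA : ∀ i j, A i j ≠ 0 → ¬ ((ℓ : ℤ) ∣ A i j))
    (hℓm : ∀ i, ¬ ((ℓ : ℤ) ∣ m i)) :
    Nat.card (Submodule.torsionBy ℤ ((Fin n → ℤ) ⧸ LinearMap.range (Matrix.mulVecLin A)) (ℓ : ℤ))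
      ≤ ℓ ^ ((univ.filter fun p : Fin n × Fin n => p.1 < p.2 ∧ 0 < A p.1 p.2).card + 1 - n) := by
  haveI : Fact ℓ.Prime := ⟨hℓ⟩
  have hex : ∀ t : Submodule.torsionBy ℤ
      ((Fin n → ℤ) ⧸ LinearMap.range (Matrix.mulVecLin A)) (ℓ : ℤ),
      ∃ y x : Fin n → ℤ, A.mulVec y = (ℓ : ℤ) • x ∧
        (Submodule.Quotient.mk x : (Fin n → ℤ) ⧸ LinearMap.range (Matrix.mulVecLin A)) = t.1 := by
    intro t
    obtain ⟨x, hx⟩ := Submodule.Quotient.mk_surjective _ t.1
    have ht : (ℓ : ℤ) • t.1 = 0 := (Submodule.mem_torsionBy_iff _ _).mp t.2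
    rw [← hx, ← Submodule.Quotient.mk_smul, Submodule.Quotient.mk_eq_zero] at ht
    obtain ⟨y, hy⟩ := ht
    exact ⟨y, x, hy, hx⟩
  choose Y X hYX hX using hex
  let Φ : Submodule.torsionBy ℤ
      ((Fin n → ℤ) ⧸ LinearMap.range (Matrix.mulVecLin A)) (ℓ : ℤ) →
      LinearMap.ker (B A ℓ).transpose.mulVecLin := fun t =>
    ⟨cur A m ℓ (Y t), cur_mem A m ℓ hsymm hA hAm (Y t) (X t) (hYX t)⟩
  have hΦ : Function.Injective Φ := by
    intro t t' h
    have hc : cur A m ℓ (Y t) = cur A m ℓ (Y t') := congrArg Subtype.val h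
    obtain ⟨w, hw⟩ := inj_key A m ℓ hsymm hA hAm hconn hℓA hℓm (Y t) (Y t') (X t) (X t')
      (hYX t) (hYX t') hc
    apply Subtype.ext
    rw [← hX t, ← hX t', ← sub_eq_zero, ← Submodule.Quotient.mk_sub, Submodule.Quotient.mk_eq_zero]
    exact ⟨w, hw⟩
  haveI : Fintype (LinearMap.ker (B A ℓ).transpose.mulVecLin) := Fintype.ofFinite _
  calc Nat.card (Submodule.torsionBy ℤ
        ((Fin n → ℤ) ⧸ LinearMap.range (Matrix.mulVecLin A)) (ℓ : ℤ))
      ≤ Nat.card (LinearMap.ker (B A ℓ).transpose.mulVecLin) :=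
        Nat.card_le_card_of_injective Φ hΦ
    _ = ℓ ^ Module.finrank (ZMod ℓ) (LinearMap.ker (B A ℓ).transpose.mulVecLin) := by
        rw [Nat.card_eq_fintype_card, Module.card_eq_pow_finrank (K := ZMod ℓ), ZMod.card]
    _ ≤ _ := by
        apply Nat.pow_le_pow_right hℓ.pos
        have := finrank_ker_transpose_le A ℓ hsymm hA hconn
        rwa [Fintype.card_subtype] at this

end Groth.Agent.Lib.T2H4.Torsion
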