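import Groth.Agent.Lib.T2H4HDIFlat
import Groth.Agent.Lib.T2H4GreenleesMay

/-!
# Base change of `Ext` out of power-torsion modules along a flat map `A → B` with `A/I ≅ B/IB`

Part 1: the unit `M → B ⊗_A M` is an isomorphism for `I`-power torsion `M`; the derived adjunction
`extD A B ⊣ restrictD` for flat `B` and its unit on complexes with torsion cohomology.
-/

set_option autoImplicit false
universe u v w
open CategoryTheory CategoryTheory.Limits DerivedCategory
attribute [local instance] HasDerivedCategory.standard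

namespace Groth.Agent.Lib.T2H4.TorsBC

open Groth.Agent.Lib.Helper17.KInj Groth.Agent.Lib.T2H4.DComp Groth.Agent.Lib.T2H4.RGam
open Groth.Agent.Lib.Helper1.Extend Groth.Agent.Lib.Helper1.LDer Groth.Agent.Lib.T2H4.GNoeth
open Groth.Agent.Lib.Helper17 TensorProduct ChangeOfRings

section TorsionUnit

variable {A B : Type u} [CommRing A] [CommRing B] [Algebra A B]

lemma tm_add_left (M : ModuleCat.{u} A) (b b' : B) (m : M) :
    tm M (b + b') m = tm M b m + tm M b' m :=
  TensorProduct.add_tmul _ _ _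

lemma tm_sub_left (M : ModuleCat.{u} A) (b b' : B) (m : M) :
    tm M (b - b') m = tm M b m - tm M b' m :=
  TensorProduct.sub_tmul _ _ _

lemma tm_add_right (M : ModuleCat.{u} A) (b : B) (m m' : M) :
    tm M b (m + m') = tm M b m + tm M b m' :=
  TensorProduct.tmul_add _ _ _

variable (I : Ideal A)
  (hs : Function.Surjective
    ((Ideal.Quotient.mk (I.map (algebraMap A B))).comp (algebraMap A B)))

include hs in
lemma exists_sub_mem_smul_top (n : ℕ) (b : B) :
    ∃ a : A, b - algebraMap A B a ∈ (I ^ n • ⊤ : Submodule A B) := by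
  induction n generalizing b with
  | zero =>
    refine ⟨0, ?_⟩
    rw [pow_zero, Ideal.one_eq_top, Submodule.top_smul]
    trivial
  | succ n ih =>
    obtain ⟨a, ha⟩ := ih b
    have key : ∀ c ∈ (I ^ n • ⊤ : Submodule A B),
        ∃ a' : A, c - algebraMap A B a' ∈ (I ^ (n + 1) • ⊤ : Submodule A B) := by
      intro c hc
      refine Submodule.smul_induction_on hc ?_ ?_
      · intro x hx b' _
        obtain ⟨a'', ha''⟩ := hs (Ideal.Quotient.mk _ b')
        have he : b' - algebraMap A B a'' ∈ I.map (algebraMap A B) := by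
          rw [← Ideal.Quotient.eq]
          exact ha''.symm
        refine ⟨x * a'', ?_⟩
        have h1 : x • b' - algebraMap A B (x * a'') = x • (b' - algebraMap A B a'') := by
          rw [smul_sub, map_mul, Algebra.smul_def, Algebra.smul_def]
        rw [h1, pow_succ, Submodule.mul_smul]
        apply Submodule.smul_mem_smul hx
        rw [Ideal.smul_top_eq_map]
        exact he
      · rintro c₁ c₂ ⟨a₁, h₁⟩ ⟨a₂, h₂⟩
        refine ⟨a₁ + a₂, ?_⟩
        have h3 : c₁ + c₂ - algebraMap A B (a₁ + a₂) =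
            (c₁ - algebraMap A B a₁) + (c₂ - algebraMap A B a₂) := by
          rw [map_add]
          abel
        rw [h3]
        exact Submodule.add_mem _ h₁ h₂
    obtain ⟨a', ha'⟩ := key _ ha
    refine ⟨a + a', ?_⟩
    have h4 : b - algebraMap A B (a + a') = (b - algebraMap A B a) - algebraMap A B a' := by
      rw [map_add]
      abel
    rw [h4]
    exact ha'

lemma tm_eq_zero_of_mem_smul_top (M : ModuleCat.{u} A) (n : ℕ) (m : M)
    (hm : ∀ a ∈ I ^ n, a • m = 0) (c : B) (hc : c ∈ (I ^ n • ⊤ : Submodule A B)) :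
    tm M c m = 0 := by
  refine Submodule.smul_induction_on hc ?_ ?_
  · intro x hx b _
    rw [Algebra.smul_def, ← tm_smul, hm x hx, tm_zero]
  · intro c₁ c₂ h₁ h₂
    rw [tm_add_left, h₁, h₂, add_zero]

include hs in
lemma exists_tm_one_eq (M : ModuleCat.{u} A) (hM : LocCoh.IsPowerTorsion I M)
    (y : (ext A B).obj M) : ∃ m : M, tm M 1 m = y := by
  induction y using ext_induction with
  | h0 => exact ⟨0, tm_zero M 1⟩
  | ht b m =>
    obtain ⟨n, hn⟩ := hM m
    obtain ⟨a, ha⟩ := exists_sub_mem_smul_top I hs n b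
    refine ⟨a • m, ?_⟩
    have h1 := tm_eq_zero_of_mem_smul_top I M n m hn _ ha
    rw [tm_sub_left, sub_eq_zero] at h1
    rw [tm_smul, mul_one, h1]
  | ha x y hx hy =>
    obtain ⟨m₁, rfl⟩ := hx
    obtain ⟨m₂, rfl⟩ := hy
    exact ⟨m₁ + m₂, tm_add_right M 1 m₁ m₂⟩

end TorsionUnit

section Inj

variable {A B : Type u} [CommRing A] [CommRing B] [Algebra A B] (I : Ideal A)
  (hs : Function.Surjective
    ((Ideal.Quotient.mk (I.map (algebraMap A B))).comp (algebraMap A B)))
  (hk : RingHom.ker ((Ideal.Quotient.mk (I.map (algebraMap A B))).comp (algebraMap A B)) = I)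

/-- `A/I ≃ B/IB`. -/
noncomputable def quotEquiv : (A ⧸ I) ≃+* (B ⧸ I.map (algebraMap A B)) :=
  (Ideal.quotEquivOfEq hk).symm.trans (RingHom.quotientKerEquivOfSurjective hs)

lemma quotEquiv_mk (a : A) :
    quotEquiv I hs hk (Ideal.Quotient.mk I a) = Ideal.Quotient.mk _ (algebraMap A B a) := rfl

/-- the retraction `B → A/𝔟` for `I ≤ 𝔟`. -/
noncomputable def ψ (𝔟 : Ideal A) (h𝔟 : I ≤ 𝔟) : B →+* A ⧸ 𝔟 :=
  (Ideal.Quotient.factor h𝔟).comp
    (((quotEquiv I hs hk).symm : (B ⧸ I.map (algebraMap A B)) →+* (A ⧸ I)).comp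
      (Ideal.Quotient.mk (I.map (algebraMap A B))))

lemma ψ_algebraMap (𝔟 : Ideal A) (h𝔟 : I ≤ 𝔟) (a : A) :
    ψ I hs hk 𝔟 h𝔟 (algebraMap A B a) = Ideal.Quotient.mk 𝔟 a := by
  have h1 : (quotEquiv I hs hk).symm (Ideal.Quotient.mk _ (algebraMap A B a)) =
      Ideal.Quotient.mk I a := by
    rw [RingEquiv.symm_apply_eq]
    rfl
  show Ideal.Quotient.factor h𝔟 ((quotEquiv I hs hk).symm
    (Ideal.Quotient.mk _ (algebraMap A B a))) = _
  rw [h1]
  rfl

/-- the retraction `B ⊗_A A/𝔟 → A/𝔟`. -/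
noncomputable def retr (𝔟 : Ideal A) (h𝔟 : I ≤ 𝔟) :
    (ext A B).obj (ModuleCat.of A (A ⧸ 𝔟)) →+ A ⧸ 𝔟 :=
  letI : Module A B := Module.compHom B (algebraMap A B)
  (TensorProduct.lift (LinearMap.mk₂ A
    (fun (b : B) (x : A ⧸ 𝔟) => ψ I hs hk 𝔟 h𝔟 b * x)
    (fun b b' x => by
      rw [map_add, add_mul])
    (fun a b x => by
      show ψ I hs hk 𝔟 h𝔟 (algebraMap A B a * b) * x = a • (ψ I hs hk 𝔟 h𝔟 b * x)
      rw [map_mul, ψ_algebraMap, mul_assoc, Algebra.smul_def]
      rfl)
    (fun b x x' => mul_add _ _ _)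
    (fun a b x => by
      rw [mul_smul_comm]))).toAddMonoidHom

lemma retr_tm (𝔟 : Ideal A) (h𝔟 : I ≤ 𝔟) (b : B) (x : A ⧸ 𝔟) :
    retr I hs hk 𝔟 h𝔟 (tm (ModuleCat.of A (A ⧸ 𝔟)) b x) = ψ I hs hk 𝔟 h𝔟 b * x := rfl

include hs hk in
lemma eq_zero_of_tm_one_eq_zero [Module.Flat A B] (M : ModuleCat.{u} A)
    (hM : LocCoh.IsPowerTorsion I M) (m : M) (h : tm (B := B) M 1 m = 0) : m = 0 := by
  obtain ⟨n, hn⟩ := hM m
  let 𝔞 : Ideal A := LinearMap.ker (LinearMap.toSpanSingleton A M m)
  have h𝔞 : I ^ n ≤ 𝔞 := fun a ha => by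
    show LinearMap.toSpanSingleton A M m a = 0
    rw [LinearMap.toSpanSingleton_apply]
    exact hn a ha
  let ι : (A ⧸ 𝔞) →ₗ[A] M := Submodule.liftQ 𝔞 (LinearMap.toSpanSingleton A M m) le_rfl
  have hι : Function.Injective ι := by
    rw [← LinearMap.ker_eq_bot]
    exact Submodule.ker_liftQ_eq_bot _ _ _ le_rfl
  haveI : Mono (ModuleCat.ofHom ι) := (ModuleCat.mono_iff_injective _).2 hι
  have hinj := (ModuleCat.mono_iff_injective _).1
    (inferInstance : Mono ((ext A B).map (ModuleCat.ofHom ι)))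
  have h1 : tm (B := B) (ModuleCat.of A (A ⧸ 𝔞)) 1 (Submodule.Quotient.mk 1) = 0 := by
    apply hinj
    rw [map_tm, map_zero]
    have h2 : (ModuleCat.ofHom ι).hom (Submodule.Quotient.mk 1) = m := by
      show (1 : A) • m = m
      exact one_smul _ _
    rw [h2]
    exact h
  let 𝔟 : Ideal A := 𝔞 ⊔ I
  let π : (A ⧸ 𝔞) →ₗ[A] (A ⧸ 𝔟) := Submodule.mapQ 𝔞 𝔟 LinearMap.id le_sup_left
  have h3 : tm (B := B) (ModuleCat.of A (A ⧸ 𝔟)) 1 (Submodule.Quotient.mk 1) = 0 := by
    have h4 := congrArg ((ext A B).map (ModuleCat.ofHom π)).hom h1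
    rw [map_tm, map_zero] at h4
    exact h4
  have h5 : (Ideal.Quotient.mk 𝔟 1) = 0 := by
    have h6 := congrArg (retr I hs hk 𝔟 le_sup_right) h3
    rw [retr_tm, map_one, one_mul, map_zero] at h6
    exact h6
  have h7 : 𝔟 = ⊤ := by
    rw [Ideal.eq_top_iff_one]
    exact Ideal.Quotient.eq_zero_iff_mem.1 h5
  have h8 : 𝔞 ⊔ I ^ n = ⊤ := Ideal.sup_pow_eq_top h7
  have h9 : 𝔞 = ⊤ := by
    rw [← h8]
    exact (sup_eq_left.2 h𝔞).symm
  have h10 : (1 : A) ∈ 𝔞 := h9 ▸ Submodule.mem_top
  have h11 : LinearMap.toSpanSingleton A M m 1 = 0 := h10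
  rw [LinearMap.toSpanSingleton_apply, one_smul] at h11
  exact h11

include hs hk in
/-- the unit `M → B ⊗_A M` is an isomorphism for `I`-power torsion `M`. -/
lemma isIso_unit_app_of_torsion [Module.Flat A B] (M : ModuleCat.{u} A)
    (hM : LocCoh.IsPowerTorsion I M) :
    IsIso ((ModuleCat.extendRestrictScalarsAdj.{u, u, u} (algebraMap A B)).unit.app M) := by
  rw [ConcreteCategory.isIso_iff_bijective]
  constructor
  · rw [injective_iff_map_eq_zero]
    intro m hm
    exact eq_zero_of_tm_one_eq_zero I hs hk M hM m hm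
  · intro y
    obtain ⟨m, hm⟩ := exists_tm_one_eq I hs M hM y
    exact ⟨m, hm⟩

end Inj

section Adj

variable (A B : Type u) [CommRing A] [CommRing B] [Algebra A B] [Module.Flat A B]

/-- `Q ⋙ restrictD` is computed termwise. -/
noncomputable def βresB :
    (ModuleCat.restrictScalars.{u} (algebraMap A B)).mapHomologicalComplex (ComplexShape.up ℤ) ⋙
      DerivedCategory.Q ⟶ DerivedCategory.Q ⋙ DRing.restrictD (algebraMap A B) :=
  (ModuleCat.restrictScalars.{u} (algebraMap A B)).mapDerivedCategoryFactors.inv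

instance : (DRing.restrictD (algebraMap A B)).IsRightDerivedFunctor (βresB A B)
    (HomologicalComplex.quasiIso (ModuleCat.{u} B) (ComplexShape.up ℤ)) :=
  Functor.isRightDerivedFunctor_of_inverts _ _
    (ModuleCat.restrictScalars.{u} (algebraMap A B)).mapDerivedCategoryFactors

/-- derived extension of scalars along a flat map is left adjoint to restriction. -/
noncomputable def adjExtFlat : extD A B ⊣ DRing.restrictD (algebraMap A B) :=
  derivedAdjunction.{u} (ext A B) (ModuleCat.restrictScalars.{u} (algebraMap A B))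
    (ModuleCat.extendRestrictScalarsAdj.{u, u, u} (algebraMap A B))
    (DRing.restrictD (algebraMap A B)) (βresB A B)

lemma adjExtFlat_unit_fac (X : CochainComplex (ModuleCat.{u} A) ℤ) :
    (adjExtFlat A B).unit.app (Q.obj X) ≫ (DRing.restrictD (algebraMap A B)).map
        ((ext A B).mapDerivedCategoryFactors.hom.app X) =
      Q.map ((SerreLoc.unitHC (ModuleCat.extendRestrictScalarsAdj.{u, u, u} (algebraMap A B))
        (ComplexShape.up ℤ)).app X) ≫
        (βresB A B).app (((ext A B).mapHomologicalComplex (ComplexShape.up ℤ)).obj X) := by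
  haveI := isRightDerivedFunctor_comp_mapDerivedCategory.{u} (ext A B)
    (ModuleCat.restrictScalars.{u} (algebraMap A B))
    (ModuleCat.extendRestrictScalarsAdj.{u, u, u} (algebraMap A B))
    (DRing.restrictD (algebraMap A B)) (βresB A B)
  exact Adjunction.derivedη_fac_app
    (SerreLoc.adjHC (ModuleCat.extendRestrictScalarsAdj.{u, u, u} (algebraMap A B))
      (ComplexShape.up ℤ))
    (HomologicalComplex.quasiIso (ModuleCat.{u} A) (ComplexShape.up ℤ))
    (ext A B).mapDerivedCategoryFactors.hom (βresB A B) X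

end Adj

section UnitQIso

variable {A B : Type u} [CommRing A] [CommRing B] [Algebra A B] [Module.Flat A B]

/-- the termwise unit `X → (B ⊗ X)|_A` is a quasi-isomorphism as soon as the units of the
cohomology modules are isomorphisms. -/
lemma quasiIso_unitHC (X : CochainComplex (ModuleCat.{u} A) ℤ)
    (h : ∀ q : ℤ, IsIso ((ModuleCat.extendRestrictScalarsAdj.{u, u, u} (algebraMap A B)).unit.app
      (X.homology q))) :
    QuasiIso ((SerreLoc.unitHC (ModuleCat.extendRestrictScalarsAdj.{u, u, u} (algebraMap A B))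
      (ComplexShape.up ℤ)).app X) := by
  rw [quasiIso_iff]
  intro q
  rw [quasiIsoAt_iff_isIso_homologyMap]
  have h1 := NatTrans.app_homology
    (ModuleCat.extendRestrictScalarsAdj.{u, u, u} (algebraMap A B)).unit (X.sc q)
  haveI : IsIso ((ModuleCat.extendRestrictScalarsAdj.{u, u, u} (algebraMap A B)).unit.app
      (X.sc q).homology) := h q
  have h2 : IsIso (ShortComplex.homologyMap ((X.sc q).mapNatTrans
      (ModuleCat.extendRestrictScalarsAdj.{u, u, u} (algebraMap A B)).unit)) := by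
    have h3 : ShortComplex.homologyMap ((X.sc q).mapNatTrans
        (ModuleCat.extendRestrictScalarsAdj.{u, u, u} (algebraMap A B)).unit) =
        ((X.sc q).mapHomologyIso (𝟭 _)).hom ≫
          (ModuleCat.extendRestrictScalarsAdj.{u, u, u} (algebraMap A B)).unit.app
            (X.sc q).homology ≫ ((X.sc q).mapHomologyIso
              (ModuleCat.extendScalars.{u, u, u} (algebraMap A B) ⋙
                ModuleCat.restrictScalars.{u} (algebraMap A B))).inv := by
      rw [h1]
      simp only [Category.assoc, Iso.hom_inv_id_assoc, Iso.hom_inv_id, Category.comp_id]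
    rw [h3]
    infer_instance
  exact h2

end UnitQIso

end Groth.Agent.Lib.T2H4.TorsBC
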