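import Groth.Agent.Lib.T2H4TorsionBC
import Groth.Agent.Lib.Helper1ExtCech4
import Groth.Agent.Lib.Helper1PC

/-!
# Base change of `Ext` out of power-torsion modules, part 2

`extD A B` is fully faithful on maps into complexes with `I`-power torsion cohomology; dévissage
along the extended Čech complex; the final isomorphism
`Hom_{D(A)}(M, N[i]) ≃+ Hom_{D(B)}(B ⊗ M, (B ⊗ N)[i])` for `I`-power torsion `M`.
-/

set_option autoImplicit false
universe u v w
open CategoryTheory CategoryTheory.Limits DerivedCategory Pretriangulated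
attribute [local instance] HasDerivedCategory.standard

namespace Groth.Agent.Lib.T2H4.TorsBC

open Groth.Agent.Lib.Helper17.KInj Groth.Agent.Lib.T2H4.DComp Groth.Agent.Lib.T2H4.RGam
open Groth.Agent.Lib.Helper1.Extend Groth.Agent.Lib.Helper1.LDer Groth.Agent.Lib.T2H4.GNoeth
open Groth.Agent.Lib.Helper17 TensorProduct ChangeOfRings

section UnitIso

variable {A B : Type u} [CommRing A] [CommRing B] [Algebra A B] [Module.Flat A B]

lemma isIso_adjExtFlat_unit_app_Q (X : CochainComplex (ModuleCat.{u} A) ℤ)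
    (h : ∀ q : ℤ, IsIso ((ModuleCat.extendRestrictScalarsAdj.{u, u, u} (algebraMap A B)).unit.app
      (X.homology q))) :
    IsIso ((adjExtFlat A B).unit.app (Q.obj X)) := by
  have h1 := adjExtFlat_unit_fac A B X
  haveI := quasiIso_unitHC X h
  haveI : IsIso ((βresB A B).app (((ext A B).mapHomologicalComplex (ComplexShape.up ℤ)).obj X)) := by
    unfold βresB
    infer_instance
  haveI : IsIso ((adjExtFlat A B).unit.app (Q.obj X) ≫ (DRing.restrictD (algebraMap A B)).map
        ((ext A B).mapDerivedCategoryFactors.hom.app X)) := by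
    rw [h1]
    infer_instance
  exact IsIso.of_isIso_comp_right _ ((DRing.restrictD (algebraMap A B)).map
        ((ext A B).mapDerivedCategoryFactors.hom.app X))

variable (I : Ideal A)
  (hs : Function.Surjective
    ((Ideal.Quotient.mk (I.map (algebraMap A B))).comp (algebraMap A B)))
  (hk : RingHom.ker ((Ideal.Quotient.mk (I.map (algebraMap A B))).comp (algebraMap A B)) = I)

include hs hk in
lemma isIso_adjExtFlat_unit_app (Y : Dual.D A) (hY : PT I Y) :
    IsIso ((adjExtFlat A B).unit.app Y) := by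
  rw [← NatTrans.isIso_app_iff_of_iso _ (Q.objObjPreimageIso Y)]
  apply isIso_adjExtFlat_unit_app_Q
  intro q
  apply isIso_unit_app_of_torsion I hs hk
  have e : (DerivedCategory.homologyFunctor (ModuleCat.{u} A) q).obj Y ≅
      (Q.objPreimage Y).homology q :=
    (DerivedCategory.homologyFunctor (ModuleCat.{u} A) q).mapIso (Q.objObjPreimageIso Y).symm ≪≫
      (homologyFunctorFactors (ModuleCat.{u} A) q).app _
  exact isPowerTorsion_of_linearEquiv I e.toLinearEquiv (hY q)

include hs hk in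
/-- `extD` is fully faithful on maps into complexes with `I`-power torsion cohomology. -/
lemma bijective_extD_map (T Y : Dual.D A) (hY : PT I Y) :
    Function.Bijective (fun g : T ⟶ Y => (extD A B).map g) := by
  haveI := isIso_adjExtFlat_unit_app I hs hk Y hY
  have h1 : (fun g : T ⟶ Y => (extD A B).map g) =
      ((adjExtFlat A B).homEquiv T ((extD A B).obj Y)).symm ∘
        (fun g : T ⟶ Y => g ≫ (adjExtFlat A B).unit.app Y) := by
    funext g
    apply ((adjExtFlat A B).homEquiv T ((extD A B).obj Y)).injective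
    rw [Function.comp_apply, Equiv.apply_symm_apply, Adjunction.homEquiv_unit]
    exact ((adjExtFlat A B).unit.naturality g).symm
  rw [h1]
  refine Function.Bijective.comp (Equiv.bijective _) ⟨?_, ?_⟩
  · intro g₁ g₂ h
    exact (cancel_mono _).1 h
  · intro v
    exact ⟨v ≫ inv ((adjExtFlat A B).unit.app Y), by simp⟩

end UnitIso

section PTLemmas

variable {A B : Type u} [CommRing A] [CommRing B] [Algebra A B]

lemma mem_torsionSub_ext (I : Ideal A) (M : ModuleCat.{u} A) (hM : LocCoh.IsPowerTorsion I M)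
    (x : (ext A B).obj M) :
    x ∈ DRing.torsionSub (I.map (algebraMap A B)) ((ext A B).obj M) := by
  induction x using ext_induction with
  | h0 => exact Submodule.zero_mem _
  | ht b m =>
    obtain ⟨n, hn⟩ := hM m
    refine mem_torsionSub_map_of I _ n (fun a ha => ?_)
    rw [smul_tm, ← tm_smul, hn a ha, tm_zero]
  | ha x y hx hy => exact Submodule.add_mem _ hx hy

lemma isPowerTorsion_ext (I : Ideal A) (M : ModuleCat.{u} A) (hM : LocCoh.IsPowerTorsion I M) :
    LocCoh.IsPowerTorsion (I.map (algebraMap A B)) ((ext A B).obj M) :=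
  fun x => mem_torsionSub_ext I M hM x

lemma PT_extD [Module.Flat A B] (I : Ideal A) (Y : Dual.D A) (hY : PT I Y) :
    PT (I.map (algebraMap A B)) ((extD A B).obj Y) := fun i =>
  isPowerTorsion_of_linearEquiv _ (homologyMapDIso (ext A B) Y i).symm.toLinearEquiv
    (isPowerTorsion_ext I _ (hY i))

lemma PT_shift (I : Ideal A) (Y : Dual.D A) (hY : PT I Y) (n : ℤ) : PT I (Y⟦n⟧) := fun i =>
  isPowerTorsion_of_linearEquiv I
    (((DerivedCategory.homologyFunctor (ModuleCat.{u} A) 0).shiftIso n i (n + i) rfl).app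
      Y).symm.toLinearEquiv (hY (n + i))

lemma PT_inD (I : Ideal A) (M : Type u) [AddCommGroup M] [Module A M]
    (hM : LocCoh.IsPowerTorsion I M) : PT I (Dual.inD A M) := by
  intro i
  by_cases hi : i = 0
  · subst hi
    exact isPowerTorsion_of_linearEquiv I
      (Groth.Agent.Lib.Helper1.PC.homologySingleIso (ModuleCat.of A M) 0).symm.toLinearEquiv hM
  · intro x
    haveI := ModuleCat.subsingleton_of_isZero
      (Groth.Agent.Lib.Helper1.PC.isZero_homology_single (ModuleCat.of A M) 0 i hi)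
    refine ⟨0, fun a _ => ?_⟩
    exact Subsingleton.elim _ _

lemma PT_extCech (fs : List A) (N : ModuleCat.{u} A) :
    PT (Ideal.span {a : A | a ∈ fs}) ((Q : _ ⥤ Dual.D A).obj (DerCA.extCech N fs)) := by
  intro i
  refine isPowerTorsion_of_linearEquiv _
    ((homologyFunctorFactors (ModuleCat.{u} A) i).app (DerCA.extCech N fs)).symm.toLinearEquiv ?_
  intro x
  have hle : Ideal.span {a : A | a ∈ fs} ≤ (Ideal.torsionOf A _ x).radical := by
    rw [Ideal.span_le]
    intro a ha
    obtain ⟨n, hn⟩ := Groth.Agent.Lib.Helper1.ExtCech.pt_extCechH fs N a ha i x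
    exact ⟨n, (Ideal.mem_torsionOf_iff _ _).2 hn⟩
  have hfg : (Ideal.span {a : A | a ∈ fs}).FG := by
    classical
    refine ⟨fs.toFinset, ?_⟩
    rw [List.coe_toFinset]
  obtain ⟨k, hk⟩ := Ideal.exists_pow_le_of_le_radical_of_fg hle hfg
  exact ⟨k, fun a ha => (Ideal.mem_torsionOf_iff _ _).1 (hk ha)⟩

end PTLemmas

section PTBij

variable {A : Type u} [CommRing A] (I : Ideal A)

lemma hom_eq_zero_of_PT_of_inv (f : A) (hf : f ∈ I) {T X : Dual.D A} (hT : PT I T)
    (hX : Inv f X) (g : T ⟶ X) : g = 0 := by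
  haveI := isIso_counit_of_inv f X hX
  have h1 : g ≫ inv (εl f X) = 0 := lOrth_of_PT I f hf T hT _ _
  have h2 := congrArg (· ≫ εl f X) h1
  simpa using h2

/-- composition with `α` is bijective on maps out of complexes with `I`-power torsion
cohomology. -/
def PTBij {X Y : Dual.D A} (α : X ⟶ Y) : Prop :=
  ∀ T : Dual.D A, PT I T → Function.Bijective (fun g : T ⟶ X => g ≫ α)

variable {I}

lemma PTBij.comp {X Y Z : Dual.D A} {α : X ⟶ Y} {β : Y ⟶ Z} (hα : PTBij I α)
    (hβ : PTBij I β) : PTBij I (α ≫ β) := by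
  intro T hT
  have h : (fun g : T ⟶ X => g ≫ α ≫ β) =
      (fun g : T ⟶ Y => g ≫ β) ∘ (fun g : T ⟶ X => g ≫ α) := by
    funext g
    simp
  rw [h]
  exact (hβ T hT).comp (hα T hT)

lemma PTBij.of_isIso {X Y : Dual.D A} (α : X ⟶ Y) [IsIso α] : PTBij I α := by
  intro T _
  refine ⟨fun g₁ g₂ h => (cancel_mono α).1 h, fun v => ⟨v ≫ inv α, by simp⟩⟩

lemma PTBij.of_distTriang (f : A) (hf : f ∈ I) (T : Triangle (Dual.D A))
    (hT : T ∈ distTriang (Dual.D A)) (h3 : Inv f T.obj₃) : PTBij I T.mor₁ := by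
  intro T₀ hT₀
  have hT' := inv_rot_of_distTriang _ hT
  exact bijective_comp_of_distTriang _ hT' T₀
    (fun g => hom_eq_zero_of_PT_of_inv I f hf hT₀ (inv_shift h3 (-1)) g)
    (fun g => hom_eq_zero_of_PT_of_inv I f hf hT₀ (inv_shift (inv_shift h3 (-1)) 1) g)

lemma PTBij.shift {X Y : Dual.D A} {α : X ⟶ Y} (hα : PTBij I α) (i : ℤ) :
    PTBij I (α⟦i⟧') := by
  intro T hT
  have hb := hα (T⟦-i⟧) (PT_shift I T hT (-i))
  have e : shiftFunctor (Dual.D A) i ⋙ shiftFunctor (Dual.D A) (-i) ≅ 𝟭 _ :=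
    shiftFunctorCompIsoId (Dual.D A) i (-i) (by omega)
  have hnat : (α⟦i⟧')⟦-i⟧' ≫ e.hom.app Y = e.hom.app X ≫ α := e.hom.naturality α
  have hnat' : e.inv.app X ≫ (α⟦i⟧')⟦-i⟧' = α ≫ e.inv.app Y := (e.inv.naturality α).symm
  refine ⟨fun g₁ g₂ h => ?_, fun v => ?_⟩
  · have h1 : (g₁⟦-i⟧' ≫ e.hom.app X) ≫ α = (g₂⟦-i⟧' ≫ e.hom.app X) ≫ α := by
      have h2 : (g₁ ≫ α⟦i⟧')⟦-i⟧' ≫ e.hom.app Y = (g₂ ≫ α⟦i⟧')⟦-i⟧' ≫ e.hom.app Y := by
        rw [show g₁ ≫ α⟦i⟧' = g₂ ≫ α⟦i⟧' from h]
      rw [Functor.map_comp, Functor.map_comp, Category.assoc, Category.assoc, hnat] at h2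
      rw [Category.assoc, Category.assoc]
      exact h2
    have h4 := hb.1 h1
    have h5 := (cancel_mono _).1 h4
    exact (shiftFunctor (Dual.D A) (-i)).map_injective h5
  · obtain ⟨w, hw⟩ := hb.2 (v⟦-i⟧' ≫ e.hom.app Y)
    have hw' : w ≫ α = v⟦-i⟧' ≫ e.hom.app Y := hw
    refine ⟨(shiftFunctor (Dual.D A) (-i)).preimage (w ≫ e.inv.app X), ?_⟩
    apply (shiftFunctor (Dual.D A) (-i)).map_injective
    show ((shiftFunctor (Dual.D A) (-i)).preimage (w ≫ e.inv.app X) ≫ α⟦i⟧')⟦-i⟧' = v⟦-i⟧'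
    rw [Functor.map_comp, Functor.map_preimage, Category.assoc, hnat', ← Category.assoc, hw',
      Category.assoc, Iso.hom_inv_id_app]
    exact Category.comp_id _

end PTBij

section Aug

open DerCA Groth.Agent.Lib.Helper1.ExtCech4

variable {A : Type u} [CommRing A]

lemma bijective_smul_loc (f : A) (M : ModuleCat.{u} A) :
    Function.Bijective (fun x : (DerCA.locFunctor (Submonoid.powers f)).obj M => f • x) := by
  have h := IsLocalizedModule.map_units (LocalizedModule.mkLinearMap (Submonoid.powers f) M)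
    ⟨f, Submonoid.mem_powers f⟩
  rw [Module.End.isUnit_iff] at h
  exact h

lemma inv_Q_locCx (f : A) (E : DRing.Cx A) :
    Inv f ((Q : _ ⥤ Dual.D A).obj ((DerCA.locCx (Submonoid.powers f)).obj E)) :=
  inv_Q_of_bijective f _ (fun n => bijective_smul_loc f (E.X n))

lemma ptBij_Q_fst (I : Ideal A) (f : A) (hf : f ∈ I) (E : DRing.Cx A) :
    PTBij I ((Q : _ ⥤ Dual.D A).map
      (CochainComplex.mappingCocone.fst (DerCA.locCxUnit (Submonoid.powers f) E))) :=
  PTBij.of_distTriang f hf _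
    (DerivedCategory.mappingCocone_triangle_distinguished
      (DerCA.locCxUnit (Submonoid.powers f) E)) (inv_Q_locCx f E)

lemma ptBij_Q_aug (I : Ideal A) (N : ModuleCat.{u} A) :
    ∀ (fs : List A), (∀ f ∈ fs, f ∈ I) → PTBij I ((Q : _ ⥤ Dual.D A).map (aug N fs))
  | [], _ => by
    show PTBij I (Q.map (𝟙 _))
    rw [CategoryTheory.Functor.map_id]
    exact PTBij.of_isIso _
  | f :: fs, h => by
    have h2 := (ptBij_Q_fst I f (h f List.mem_cons_self) (extCech N fs)).comp
      (ptBij_Q_aug I N fs (fun g hg => h g (List.mem_cons_of_mem _ hg)))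
    rw [← Functor.map_comp] at h2
    exact h2

variable {B : Type u} [CommRing B] [Algebra A B]

lemma bijective_smul_ext (M : ModuleCat.{u} A) (f : A)
    (h : Function.Bijective (fun x : M => f • x)) :
    Function.Bijective (fun x : (ext A B).obj M => algebraMap A B f • x) := by
  haveI : IsIso (ModuleCat.ofHom (f • LinearMap.id : M →ₗ[A] M)) := by
    rw [ConcreteCategory.isIso_iff_bijective]
    exact h
  have h2 : IsIso ((ext A B).map (ModuleCat.ofHom (f • LinearMap.id : M →ₗ[A] M))) :=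
    inferInstance
  rw [ConcreteCategory.isIso_iff_bijective] at h2
  have h3 : (fun x : (ext A B).obj M => algebraMap A B f • x) =
      ⇑(ConcreteCategory.hom ((ext A B).map (ModuleCat.ofHom (f • LinearMap.id : M →ₗ[A] M)))) := by
    funext x
    exact (ext_map_smul_apply M f x).symm
  rw [h3]
  exact h2

variable [Module.Flat A B]

lemma inv_extD_Q_locCx (f : A) (E : DRing.Cx A) :
    Inv (algebraMap A B f)
      ((extD A B).obj (Q.obj ((DerCA.locCx (Submonoid.powers f)).obj E))) :=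
  Inv.of_iso (inv_Q_of_bijective (algebraMap A B f)
      ((extCx A B).obj ((DerCA.locCx (Submonoid.powers f)).obj E))
      (fun n => bijective_smul_ext _ f (bijective_smul_loc f (E.X n))))
    (mapQIso (ext A B) _).symm

lemma ptBij_extD_Q_fst (I : Ideal A) (f : A) (hf : f ∈ I) (E : DRing.Cx A) :
    PTBij (I.map (algebraMap A B)) ((extD A B).map ((Q : _ ⥤ Dual.D A).map
      (CochainComplex.mappingCocone.fst (DerCA.locCxUnit (Submonoid.powers f) E)))) :=
  PTBij.of_distTriang (algebraMap A B f) (Ideal.mem_map_of_mem _ hf)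
    ((extD A B).mapTriangle.obj (Q.mapTriangle.obj
      (CochainComplex.mappingCocone.triangle (DerCA.locCxUnit (Submonoid.powers f) E))))
    ((extD A B).map_distinguished _
      (DerivedCategory.mappingCocone_triangle_distinguished
        (DerCA.locCxUnit (Submonoid.powers f) E))) (inv_extD_Q_locCx f E)

lemma ptBij_extD_Q_aug (I : Ideal A) (N : ModuleCat.{u} A) :
    ∀ (fs : List A), (∀ f ∈ fs, f ∈ I) →
      PTBij (I.map (algebraMap A B)) ((extD A B).map ((Q : _ ⥤ Dual.D A).map (aug N fs)))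
  | [], _ => by
    show PTBij _ ((extD A B).map (Q.map (𝟙 _)))
    rw [CategoryTheory.Functor.map_id, CategoryTheory.Functor.map_id]
    exact PTBij.of_isIso _
  | f :: fs, h => by
    have h2 := (ptBij_extD_Q_fst (B := B) I f (h f List.mem_cons_self) (extCech N fs)).comp
      (ptBij_extD_Q_aug I N fs (fun g hg => h g (List.mem_cons_of_mem _ hg)))
    rw [← Functor.map_comp, ← Functor.map_comp] at h2
    exact h2

end Aug

section Main

open DerCA Groth.Agent.Lib.Helper1.ExtCech4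

/-- transport of hom groups along isomorphisms. -/
def homAddEquivOfIsos {C : Type*} [Category C] [Preadditive C] {X X' Y Y' : C}
    (e : X ≅ X') (e' : Y ≅ Y') : (X ⟶ Y) ≃+ (X' ⟶ Y') where
  toFun g := e.inv ≫ g ≫ e'.hom
  invFun g := e.hom ≫ g ≫ e'.inv
  left_inv g := by simp
  right_inv g := by simp
  map_add' g g' := by
    rw [Preadditive.add_comp, Preadditive.comp_add]

variable (A B : Type u) [CommRing A] [CommRing B] [Algebra A B] [Module.Flat A B]
  (I : Ideal A) (hI : I.FG)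
  (hs : Function.Surjective
    ((Ideal.Quotient.mk (I.map (algebraMap A B))).comp (algebraMap A B)))
  (hk : RingHom.ker ((Ideal.Quotient.mk (I.map (algebraMap A B))).comp (algebraMap A B)) = I)

include hI hs hk in
theorem nonempty_hom_addEquiv (M N : Type u) [AddCommGroup M] [Module A M] [AddCommGroup N]
    [Module A N] (hM : LocCoh.IsPowerTorsion I M) (i : ℤ) :
    Nonempty ((Dual.inD A M ⟶ (Dual.inD A N)⟦i⟧) ≃+
      (Dual.inD B (B ⊗[A] M) ⟶ (Dual.inD B (B ⊗[A] N))⟦i⟧)) := by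
  classical
  obtain ⟨s, hs'⟩ := hI
  let fs : List A := s.toList
  have hfs : ∀ f ∈ fs, f ∈ I := fun f hf => by
    rw [← hs']
    exact Ideal.subset_span (Finset.mem_coe.2 (Finset.mem_toList.1 hf))
  have hspan : Ideal.span {a : A | a ∈ fs} = I := by
    rw [← hs']
    congr 1
    ext a
    simp [fs]
  let N' : ModuleCat.{u} A := ModuleCat.of A N
  let E : DRing.Cx A := DerCA.extCech N' fs
  let e₁ : Dual.inD A N ≅ (Q : _ ⥤ Dual.D A).obj
      ((HomologicalComplex.single (ModuleCat.{u} A) (ComplexShape.up ℤ) 0).obj N') :=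
    (DerivedCategory.singleFunctorIsoCompQ (ModuleCat.{u} A) 0).app N'
  let β : (Q : _ ⥤ Dual.D A).obj E ⟶ Dual.inD A N := Q.map (aug N' fs) ≫ e₁.inv
  have hβ : PTBij I β := (ptBij_Q_aug I N' fs hfs).comp (PTBij.of_isIso _)
  let γ : (extD A B).obj ((Q : _ ⥤ Dual.D A).obj E) ⟶ Dual.inD B (B ⊗[A] N) :=
    (extD A B).map (Q.map (aug N' fs)) ≫ (extD A B).map e₁.inv ≫ (extDInDIso N).hom
  have hγ : PTBij (I.map (algebraMap A B)) γ :=
    (ptBij_extD_Q_aug I N' fs hfs).comp (PTBij.of_isIso _)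
  have hT : PT I (Dual.inD A M) := PT_inD I M hM
  have hE : PT I (((Q : _ ⥤ Dual.D A).obj E)⟦i⟧) := by
    have h1 := PT_extCech fs N'
    rw [hspan] at h1
    exact PT_shift I _ h1 i
  have hT' : PT (I.map (algebraMap A B)) (Dual.inD B (B ⊗[A] M)) :=
    PT.of_iso _ (extDInDIso M) (PT_extD I _ hT)
  let e_a : (Dual.inD A M ⟶ ((Q : _ ⥤ Dual.D A).obj E)⟦i⟧) ≃+
      (Dual.inD A M ⟶ (Dual.inD A N)⟦i⟧) :=
    AddEquiv.ofBijective (Preadditive.rightComp _ (β⟦i⟧')) (hβ.shift i _ hT)
  let e_b : (Dual.inD A M ⟶ ((Q : _ ⥤ Dual.D A).obj E)⟦i⟧) ≃+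
      ((extD A B).obj (Dual.inD A M) ⟶ (extD A B).obj (((Q : _ ⥤ Dual.D A).obj E)⟦i⟧)) :=
    AddEquiv.ofBijective (extD A B).mapAddHom (bijective_extD_map I hs hk _ _ hE)
  let e_c : ((extD A B).obj (Dual.inD A M) ⟶
        (extD A B).obj (((Q : _ ⥤ Dual.D A).obj E)⟦i⟧)) ≃+
      (Dual.inD B (B ⊗[A] M) ⟶ ((extD A B).obj ((Q : _ ⥤ Dual.D A).obj E))⟦i⟧) :=
    homAddEquivOfIsos (extDInDIso M) (((extD A B).commShiftIso i).app _)
  let e_d : (Dual.inD B (B ⊗[A] M) ⟶ ((extD A B).obj ((Q : _ ⥤ Dual.D A).obj E))⟦i⟧) ≃+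
      (Dual.inD B (B ⊗[A] M) ⟶ (Dual.inD B (B ⊗[A] N))⟦i⟧) :=
    AddEquiv.ofBijective (Preadditive.rightComp _ (γ⟦i⟧')) (hγ.shift i _ hT')
  exact ⟨e_a.symm.trans (e_b.trans (e_c.trans e_d))⟩

end Main

end Groth.Agent.Lib.T2H4.TorsBC
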