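import Groth.Agent.Lib.T2H4FrobRGamma
import Groth.Agent.Lib.Helper1ExtCech

/-!
# Čech dévissage for arbitrary complexes; the flat unit is bijective on maps out of torsion complexes

For a complex `X` and a list `fs`, `cechX fs X` is the iterated cocone `Γ_{f₁} ⋯ Γ_{f_r} X` with its
augmentation `augX fs X : cechX fs X ⟶ X`.  Its cohomology is `(fs)`-power torsion and the
augmentation is bijective on maps out of complexes with power-torsion cohomology.  Consequences:
* `extD A B` is fully faithful on maps *out of* torsion complexes when `A → B` is flat with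
  `A/I ≅ B/IB` (complex version of S1731);
* the unit `K ⟶ (B ⊗_A K)|_A` is `PTBij`;
* a complex receiving no maps from torsion complexes (an "`I`-local" complex) has no maps to
  derived complete complexes; a `PTBij` map to a derived complete complex is a derived completion.
-/

set_option autoImplicit false
universe u v w
open CategoryTheory CategoryTheory.Limits DerivedCategory Pretriangulated
attribute [local instance] HasDerivedCategory.standard

namespace Groth.Agent.Lib.T2H4.TorsBC3

open Groth.Agent.Lib.Helper17.KInj Groth.Agent.Lib.T2H4.DComp Groth.Agent.Lib.T2H4.RGam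
open Groth.Agent.Lib.Helper1.Extend Groth.Agent.Lib.Helper1.LDer Groth.Agent.Lib.T2H4.GNoeth
open Groth.Agent.Lib.Helper17 Groth.Agent.Lib.T2H4.TorsBC Groth.Agent.Lib.T2H4.FrobRG
  TensorProduct ChangeOfRings
open DerCA Groth.Agent.Lib.Helper1.ExtCech4

section Cech

variable {A : Type u} [CommRing A]

/-- iterated cocones `Γ_{f₁} ⋯ Γ_{f_r} X`. -/
noncomputable def cechX : List A → DRing.Cx A → DRing.Cx A
  | [], X => X
  | f :: fs, X =>
      CochainComplex.mappingCocone (DerCA.locCxUnit (Submonoid.powers f) (cechX fs X))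

/-- the augmentation `cechX fs X ⟶ X`. -/
noncomputable def augX : ∀ (fs : List A) (X : DRing.Cx A), cechX fs X ⟶ X
  | [], X => 𝟙 X
  | f :: fs, X =>
      CochainComplex.mappingCocone.fst (DerCA.locCxUnit (Submonoid.powers f) (cechX fs X)) ≫
        augX fs X

lemma ptBij_Q_augX (I : Ideal A) (X : DRing.Cx A) :
    ∀ (fs : List A), (∀ f ∈ fs, f ∈ I) → PTBij I ((Q : _ ⥤ Dual.D A).map (augX fs X))
  | [], _ => by
    show PTBij I (Q.map (𝟙 _))
    rw [CategoryTheory.Functor.map_id]
    exact PTBij.of_isIso _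
  | f :: fs, h => by
    have h2 := (ptBij_Q_fst I f (h f List.mem_cons_self) (cechX fs X)).comp
      (ptBij_Q_augX I X fs (fun g hg => h g (List.mem_cons_of_mem _ hg)))
    rw [← Functor.map_comp] at h2
    exact h2

open Groth.Agent.Lib.Helper1.ExtCech in
/-- the cohomology of `cechX fs X` is `g`-power torsion for every `g ∈ fs`. -/
theorem pt_cechX (fs : List A) (X : DRing.Cx A) (g : A) (hg : g ∈ fs) (q : ℤ) :
    Groth.Agent.Lib.Helper1.ExtCech.PT g ((cechX fs X).homology q) := by
  induction fs generalizing q with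
  | nil => simp at hg
  | cons f fs ih =>
    set K := cechX fs X with hK
    set φ := locCxUnit (Submonoid.powers f) K with hφ
    have hloc := fun n : ℤ => isLocalizedModule_homologyMap (Submonoid.powers f) K n
    suffices key : ∀ x : ↑((CochainComplex.mappingCocone φ).homology q), ∃ n : ℕ, g ^ n • x = 0
      from key
    intro x
    by_cases hgf : g = f
    · subst hgf
      have h0 : hb φ q (ha φ q x) = 0 := hb_ha φ q x
      have := hloc q
      obtain ⟨⟨s, ⟨m, rfl⟩⟩, hs⟩ := (IsLocalizedModule.eq_zero_iff (Submonoid.powers g)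
        (HomologicalComplex.homologyMap φ q).hom).1 h0
      have hs' : g ^ m • ha φ q x = 0 := hs
      have h1 : ha φ q (g ^ m • x) = 0 := by rw [map_smul, hs']
      obtain ⟨z, hz⟩ := exists_hδ φ (q - 1) q (by omega) _ h1
      have := hloc (q - 1)
      obtain ⟨⟨w, ⟨t, ⟨k, rfl⟩⟩⟩, ht⟩ := IsLocalizedModule.surj (Submonoid.powers g)
        (HomologicalComplex.homologyMap φ (q - 1)).hom z
      have ht' : g ^ k • z = hb φ (q - 1) w := ht
      refine ⟨k + m, ?_⟩
      rw [pow_add, mul_smul, ← hz, ← map_smul, ht', hδ_hb]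
    · have hg' : g ∈ fs := by
        rcases List.mem_cons.1 hg with h | h
        · exact absurd h hgf
        · exact h
      obtain ⟨n, hn⟩ := ih hg' q (ha φ q x)
      have h1 : ha φ q (g ^ n • x) = 0 := by rw [map_smul, hn]
      obtain ⟨z, hz⟩ := exists_hδ φ (q - 1) q (by omega) _ h1
      have := hloc (q - 1)
      have hpt : Groth.Agent.Lib.Helper1.ExtCech.PT g
          (((locCx (Submonoid.powers f)).obj K).homology (q - 1)) :=
        Groth.Agent.Lib.Helper1.ExtCech.PT.of_isLocalizedModule (Submonoid.powers f)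
          (HomologicalComplex.homologyMap φ (q - 1)).hom g (ih hg' (q - 1))
      obtain ⟨m, hm⟩ := hpt z
      refine ⟨m + n, ?_⟩
      rw [pow_add, mul_smul, ← hz, ← map_smul, hm, map_zero]

lemma PT_cechX (fs : List A) (X : DRing.Cx A) :
    GNoeth.PT (Ideal.span {a : A | a ∈ fs}) ((Q : _ ⥤ Dual.D A).obj (cechX fs X)) := by
  intro i
  refine isPowerTorsion_of_linearEquiv _
    ((homologyFunctorFactors (ModuleCat.{u} A) i).app (cechX fs X)).symm.toLinearEquiv ?_
  exact isPowerTorsion_span_of_forall fs _ (fun f hf x => pt_cechX fs X f hf i x)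

variable {B : Type u} [CommRing B] [Algebra A B] [Module.Flat A B]

lemma ptBij_extD_Q_augX (I : Ideal A) (X : DRing.Cx A) :
    ∀ (fs : List A), (∀ f ∈ fs, f ∈ I) →
      PTBij (I.map (algebraMap A B)) ((extD A B).map ((Q : _ ⥤ Dual.D A).map (augX fs X)))
  | [], _ => by
    show PTBij _ ((extD A B).map (Q.map (𝟙 _)))
    rw [CategoryTheory.Functor.map_id, CategoryTheory.Functor.map_id]
    exact PTBij.of_isIso _
  | f :: fs, h => by
    have h2 := (ptBij_extD_Q_fst (B := B) I f (h f List.mem_cons_self) (cechX fs X)).comp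
      (ptBij_extD_Q_augX I X fs (fun g hg => h g (List.mem_cons_of_mem _ hg)))
    rw [← Functor.map_comp, ← Functor.map_comp] at h2
    exact h2

end Cech

section Main

variable {A B : Type u} [CommRing A] [CommRing B] [Algebra A B] [Module.Flat A B]
  (I : Ideal A) (hI : I.FG)
  (hs : Function.Surjective
    ((Ideal.Quotient.mk (I.map (algebraMap A B))).comp (algebraMap A B)))
  (hk : RingHom.ker ((Ideal.Quotient.mk (I.map (algebraMap A B))).comp (algebraMap A B)) = I)

include hI hs hk in
/-- `extD` is fully faithful on maps out of complexes with `I`-power torsion cohomology. -/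
theorem bijective_extD_map_of_PT (T K : Dual.D A) (hT : GNoeth.PT I T) :
    Function.Bijective (fun g : T ⟶ K => (extD A B).map g) := by
  classical
  obtain ⟨s, hs'⟩ := hI
  let fs : List A := s.toList
  have hfs : ∀ f ∈ fs, f ∈ I := fun f hf => by
    rw [← hs']
    exact Ideal.subset_span (Finset.mem_coe.2 (Finset.mem_toList.1 hf))
  have hspan : Ideal.span {a : A | a ∈ fs} = I := by
    rw [← hs']
    congr 1
    ext a
    simp [fs]
  let X := (Q : _ ⥤ Dual.D A).objPreimage K
  let e : (Q : _ ⥤ Dual.D A).obj X ≅ K := Q.objObjPreimageIso K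
  let C : Dual.D A := (Q : _ ⥤ Dual.D A).obj (cechX fs X)
  let α : C ⟶ K := Q.map (augX fs X) ≫ e.hom
  have hα : PTBij I α := (ptBij_Q_augX I X fs hfs).comp (PTBij.of_isIso _)
  have hα' : PTBij (I.map (algebraMap A B)) ((extD A B).map α) := by
    rw [Functor.map_comp]
    exact (ptBij_extD_Q_augX I X fs hfs).comp (PTBij.of_isIso _)
  have hC : GNoeth.PT I C := by
    have h1 := PT_cechX fs X
    rw [hspan] at h1
    exact h1
  have b1 := hα T hT
  have b2 := bijective_extD_map I hs hk T C hC
  have b3 := hα' ((extD A B).obj T) (PT_extD I T hT)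
  have hsq : (fun g : T ⟶ K => (extD A B).map g) ∘ (fun g : T ⟶ C => g ≫ α) =
      (fun g : (extD A B).obj T ⟶ (extD A B).obj C => g ≫ (extD A B).map α) ∘
        (fun g : T ⟶ C => (extD A B).map g) := by
    funext g
    simp
  have b4 : Function.Bijective
      ((fun g : T ⟶ K => (extD A B).map g) ∘ (fun g : T ⟶ C => g ≫ α)) := by
    rw [hsq]
    exact b3.comp b2
  exact (Function.Bijective.of_comp_iff _ b1).1 b4

include hI hs hk in
/-- the unit `K ⟶ (B ⊗_A K)|_A` is bijective on maps out of torsion complexes. -/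
theorem ptBij_unit (K : Dual.D A) : PTBij I ((adjExtFlat A B).unit.app K) := by
  intro T hT
  have h1 : (fun g : T ⟶ K => g ≫ (adjExtFlat A B).unit.app K) =
      ((adjExtFlat A B).homEquiv T ((extD A B).obj K)) ∘
        (fun g : T ⟶ K => (extD A B).map g) := by
    funext g
    rw [Function.comp_apply, Adjunction.homEquiv_unit]
    exact (adjExtFlat A B).unit.naturality g
  have h2 := (Equiv.bijective ((adjExtFlat A B).homEquiv T ((extD A B).obj K))).comp
    (bijective_extD_map_of_PT (B := B) I hI hs hk T K hT)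
  rw [← h1] at h2
  exact h2

end Main

section Local

variable {A : Type u} [CommRing A]

/-- `C` receives no nonzero maps from complexes with `I`-power torsion cohomology. -/
def ILocal (I : Ideal A) (C : Dual.D A) : Prop :=
  ∀ L : Dual.D A, GNoeth.PT I L → ∀ g : L ⟶ C, g = 0

lemma ILocal.of_iso {I : Ideal A} {C C' : Dual.D A} (h : ILocal I C) (e : C ≅ C') :
    ILocal I C' := by
  intro L hL g
  have h1 : g ≫ e.inv = 0 := h L hL _
  rw [← cancel_mono e.inv, h1, zero_comp]

lemma ILocal.shift {I : Ideal A} {C : Dual.D A} (h : ILocal I C) (n : ℤ) :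
    ILocal I (C⟦n⟧) := by
  intro L hL g
  have e : shiftFunctor (Dual.D A) n ⋙ shiftFunctor (Dual.D A) (-n) ≅ 𝟭 _ :=
    shiftFunctorCompIsoId (Dual.D A) n (-n) (by omega)
  have h1 : g⟦-n⟧' ≫ e.hom.app C = 0 := h _ (PT_shift I L hL (-n)) _
  have h2 : g⟦-n⟧' = 0 := by
    rw [← cancel_mono (e.hom.app C), h1, zero_comp]
  exact (shiftFunctor (Dual.D A) (-n)).map_injective (h2.trans (Functor.map_zero _ _ _).symm)

/-- the cone of a `PTBij` map is `I`-local. -/
lemma iLocal_of_PTBij (I : Ideal A) (T : Triangle (Dual.D A)) (hT : T ∈ distTriang (Dual.D A))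
    (h : PTBij I T.mor₁) : ILocal I T.obj₃ := by
  intro L hL g
  have h1 : (g ≫ T.mor₃) ≫ T.mor₁⟦(1 : ℤ)⟧' = 0 := by
    rw [Category.assoc, comp_distTriang_mor_zero₃₁ _ hT, comp_zero]
  have h2 : g ≫ T.mor₃ = 0 := by
    apply ((h.shift 1) L hL).1
    dsimp
    rw [h1, zero_comp]
  obtain ⟨v, hv⟩ := Triangle.coyoneda_exact₃ T hT g h2
  obtain ⟨w, hw⟩ := (h L hL).2 v
  dsimp at hw
  rw [hv, ← hw, Category.assoc, comp_distTriang_mor_zero₁₂ _ hT, comp_zero]

/-- an `I`-local complex has acyclic Čech complex. -/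
lemma isZero_Q_cechX (fs : List A) (X : DRing.Cx A)
    (hX : ILocal (Ideal.span {a : A | a ∈ fs}) ((Q : _ ⥤ Dual.D A).obj X)) :
    IsZero ((Q : _ ⥤ Dual.D A).obj (cechX fs X)) := by
  have hb := ptBij_Q_augX (Ideal.span {a : A | a ∈ fs}) X fs
    (fun f hf => Ideal.subset_span hf) _ (PT_cechX fs X)
  rw [IsZero.iff_id_eq_zero]
  apply hb.1
  dsimp
  rw [hX _ (PT_cechX fs X) (𝟙 _ ≫ Q.map (augX fs X)), hX _ (PT_cechX fs X) (0 ≫ Q.map (augX fs X))]

/-- dévissage: maps out of `X` into an object orthogonal to all `D(A_f)` vanish as soon as maps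
out of the Čech complex of `X` do. -/
lemma hom_eq_zero_of_cechX (E : Dual.D A) : ∀ (fs : List A) (X : DRing.Cx A),
    (∀ f ∈ fs, Orth f E) →
    (∀ g : (Q : _ ⥤ Dual.D A).obj (cechX fs X) ⟶ E, g = 0) →
    ∀ g : (Q : _ ⥤ Dual.D A).obj X ⟶ E, g = 0
  | [], _, _, h => h
  | f :: fs, X, hE, h => by
    apply hom_eq_zero_of_cechX E fs X (fun g hg => hE g (List.mem_cons_of_mem _ hg))
    intro g
    have hT := DerivedCategory.mappingCocone_triangle_distinguished
      (DerCA.locCxUnit (Submonoid.powers f) (cechX fs X))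
    obtain ⟨g', hg'⟩ := Triangle.yoneda_exact₂ _ hT g (h _)
    have hz : g' = 0 := hom_eq_zero_of_inv_of_orth f (inv_Q_locCx f (cechX fs X))
      (hE f List.mem_cons_self) g'
    rw [hg', hz]
    exact comp_zero

/-- an `I`-local complex has no nonzero maps to derived complete complexes. -/
theorem hom_eq_zero_of_iLocal (I : Ideal A) (s : Finset A) (hs : Ideal.span (s : Set A) = I)
    {C E : Dual.D A} (hC : ILocal I C) (hE : DRing.IsDerivedComplete I E) (g : C ⟶ E) :
    g = 0 := by
  classical
  let fs : List A := s.toList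
  have hspan : Ideal.span {a : A | a ∈ fs} = I := by
    rw [← hs]
    congr 1
    ext a
    simp [fs]
  let X := (Q : _ ⥤ Dual.D A).objPreimage C
  let e : (Q : _ ⥤ Dual.D A).obj X ≅ C := Q.objObjPreimageIso C
  have hX : ILocal (Ideal.span {a : A | a ∈ fs}) ((Q : _ ⥤ Dual.D A).obj X) := by
    rw [hspan]
    exact hC.of_iso e.symm
  have hz := isZero_Q_cechX fs X hX
  have hO := (isDerivedComplete_iff_orth I s hs E).1 hE
  have h1 := hom_eq_zero_of_cechX E fs X (fun f hf => hO f (Finset.mem_toList.1 hf))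
    (fun g => hz.eq_of_src _ _) (e.hom ≫ g)
  rw [← cancel_epi e.hom, h1, comp_zero]

/-- a `PTBij` map is universal among maps to derived complete complexes. -/
theorem isUniv_of_PTBij (I : Ideal A) (s : Finset A) (hs : Ideal.span (s : Set A) = I)
    {X Y : Dual.D A} (α : X ⟶ Y) (hα : PTBij I α) :
    Groth.Agent.Lib.T2H4.Bousfield.IsUniv (DRing.IsDerivedComplete I) α := by
  obtain ⟨C, β, γ, hT⟩ := Pretriangulated.distinguished_cocone_triangle α
  have hC : ILocal I C := iLocal_of_PTBij I _ hT hα
  have hT' := inv_rot_of_distTriang _ hT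
  exact Groth.Agent.Lib.T2H4.Bousfield.isUniv_of_distTriang _ hT'
    (fun M hM g => hom_eq_zero_of_iLocal I s hs (hC.shift (-1)) hM g)
    (fun M hM g => hom_eq_zero_of_iLocal I s hs ((hC.shift (-1)).shift 1) hM g)

end Local

end Groth.Agent.Lib.T2H4.TorsBC3
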