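import Mathlib

/-!
# A finitely generated torsion-free module over a domain embeds into a finite free module
-/

set_option autoImplicit false
universe u

namespace Groth.Agent.Lib.T2H4.TorsionFreeEmb

open TensorProduct

theorem exists_injective_to_free (R : Type u) [CommRing R] [IsDomain R] (M : Type u)
    [AddCommGroup M] [Module R M] [Module.Finite R M] [NoZeroSMulDivisors R M] :
    ∃ (r : ℕ) (ι : M →ₗ[R] (Fin r → R)), Function.Injective ι := by
  classical
  let K := FractionRing R
  let V := TensorProduct R K M
  let r := Module.finrank K V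
  let e : V ≃ₗ[K] (Fin r → K) := (Module.finBasis K V).equivFun
  let φ : M →ₗ[R] (Fin r → K) :=
    (e.restrictScalars R).toLinearMap ∘ₗ (TensorProduct.mk R K M 1)
  have hφ : Function.Injective φ := by
    rw [← LinearMap.ker_eq_bot, LinearMap.ker_eq_bot']
    intro m hm
    have h1 : (TensorProduct.mk R K M 1) m = 0 := by
      apply (e.restrictScalars R).injective
      rw [map_zero]
      exact hm
    rw [IsLocalizedModule.eq_zero_iff (nonZeroDivisors R)] at h1
    obtain ⟨s, hs⟩ := h1
    have hs0 : (s : R) ≠ 0 := nonZeroDivisors.coe_ne_zero s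
    exact (smul_eq_zero.1 hs).resolve_left hs0
  obtain ⟨gens, hgens⟩ := Module.Finite.fg_top (R := R) (M := M)
  obtain ⟨b, hb⟩ := IsLocalization.exist_integer_multiples_of_finset (nonZeroDivisors R)
    ((gens ×ˢ (Finset.univ : Finset (Fin r))).image fun gj => φ gj.1 gj.2)
  have hb0 : algebraMap R K (b : R) ≠ 0 := by
    rw [Ne, IsFractionRing.to_map_eq_zero_iff]
    exact nonZeroDivisors.coe_ne_zero b
  let ψ : Fin r → (M →ₗ[R] K) := fun j => (b : R) • ((LinearMap.proj j) ∘ₗ φ)
  have hrange : ∀ (j : Fin r) (m : M), ψ j m ∈ LinearMap.range (Algebra.linearMap R K) := by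
    intro j m
    have hm : m ∈ Submodule.span R (gens : Set M) := by rw [hgens]; trivial
    induction hm using Submodule.span_induction with
    | mem x hx =>
      obtain ⟨c, hc⟩ := hb (φ x j) (Finset.mem_image.2 ⟨(x, j), Finset.mem_product.2
        ⟨hx, Finset.mem_univ _⟩, rfl⟩)
      exact ⟨c, hc⟩
    | zero => rw [map_zero]; exact Submodule.zero_mem _
    | add x y _ _ hx hy => rw [map_add]; exact Submodule.add_mem _ hx hy
    | smul a x _ hx => rw [map_smul]; exact Submodule.smul_mem _ a hx
  have hinj : Function.Injective (Algebra.linearMap R K) := IsFractionRing.injective R K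
  let ι : M →ₗ[R] (Fin r → R) := LinearMap.pi fun j =>
    (LinearEquiv.ofInjective (Algebra.linearMap R K) hinj).symm.toLinearMap ∘ₗ
      ((ψ j).codRestrict _ (hrange j))
  refine ⟨r, ι, ?_⟩
  intro x y hxy
  apply hφ
  funext j
  have h1 := congrFun hxy j
  have h2 := (LinearEquiv.ofInjective (Algebra.linearMap R K) hinj).symm.injective h1
  have h3 : (b : R) • φ x j = (b : R) • φ y j := congrArg Subtype.val h2
  rw [Algebra.smul_def, Algebra.smul_def] at h3
  exact mul_left_cancel₀ hb0 h3

end Groth.Agent.Lib.T2H4.TorsionFreeEmb
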