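import Groth.Agent.Lib.T2H4DualFinite2
import Groth.Agent.Lib.T2H4PerfDual
import Groth.Agent.Lib.T2H4LD6

set_option autoImplicit false
set_option linter.style.haveILetI false
set_option backward.isDefEq.respectTransparency.types false
universe u
open CategoryTheory CategoryTheory.Limits
attribute [local instance] HasDerivedCategory.standard

namespace Groth.Agent.Lib.T2H4.Tri

open CochainComplex HomComplex DerivedCategory HomologicalComplex
  Groth.Agent.Lib.T2H4.HomCx

variable {A : Type u} [CommRing A]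

/-- `M[0]` -/
noncomputable abbrev sg (M : ModuleCat.{u} A) : DRing.Cx A :=
  (CochainComplex.singleFunctor (ModuleCat.{u} A) 0).obj M

section SES

variable (S₀ : ShortComplex (ModuleCat.{u} A)) (J : DRing.Cx A)

/-- the short complex `Hom•(M₃[0], J) ⟶ Hom•(M₂[0], J) ⟶ Hom•(M₁[0], J)`. -/
noncomputable def homSES : ShortComplex (DRing.Cx A) :=
  ShortComplex.mk (homCxPre ((CochainComplex.singleFunctor (ModuleCat.{u} A) 0).map S₀.g) J)
    (homCxPre ((CochainComplex.singleFunctor (ModuleCat.{u} A) 0).map S₀.f) J) (by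
      refine HomologicalComplex.hom_ext _ _ fun n => ModuleCat.hom_ext (LinearMap.ext fun z => ?_)
      show (Cochain.ofHom ((CochainComplex.singleFunctor (ModuleCat.{u} A) 0).map S₀.f)).comp
        ((Cochain.ofHom ((CochainComplex.singleFunctor (ModuleCat.{u} A) 0).map S₀.g)).comp z
          (zero_add n)) (zero_add n) = 0
      rw [← Cochain.comp_assoc_of_first_is_zero_cochain, ← Cochain.ofHom_comp,
        ← Functor.map_comp, S₀.zero, Functor.map_zero, Cochain.ofHom_zero, Cochain.zero_comp])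

variable {S₀ J}

lemma homSES_shortExact (hS₀ : S₀.ShortExact) (hJ : ∀ n, Injective (J.X n)) :
    (homSES S₀ J).ShortExact := by
  haveI := hS₀.mono_f
  haveI := hS₀.epi_g
  apply HomologicalComplex.shortExact_of_degreewise_shortExact
  intro n
  have hmk : ∀ {M : ModuleCat.{u} A} (f : M ⟶ J.X n),
      Cochain.fromSingleMk f (zero_add n) = 0 → f = 0 := by
    intro M f hf
    have := congrArg (Cochain.fromSingleEquiv (zero_add n)) hf
    rwa [Cochain.fromSingleEquiv_fromSingleMk, map_zero] at this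
  refine ShortComplex.ShortExact.mk' ?_ ?_ ?_
  · rw [ShortComplex.moduleCat_exact_iff]
    intro (z₂ : Cochain (sg S₀.X₂) J n) hz₂
    obtain ⟨f₂, rfl⟩ := Cochain.fromSingleMk_surjective z₂ n (zero_add n)
    have h1 : Cochain.fromSingleMk (S₀.f ≫ f₂) (zero_add n) = 0 := by
      rw [Cochain.fromSingleMk_precomp]
      exact hz₂
    have h2 := hmk _ h1
    refine ⟨Cochain.fromSingleMk (hS₀.exact.desc f₂ h2) (zero_add n), ?_⟩
    show (Cochain.ofHom ((CochainComplex.singleFunctor (ModuleCat.{u} A) 0).map S₀.g)).comp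
      (Cochain.fromSingleMk (hS₀.exact.desc f₂ h2) (zero_add n)) (zero_add n) = _
    rw [← Cochain.fromSingleMk_precomp, ShortComplex.Exact.g_desc]
  · rw [ModuleCat.mono_iff_injective]
    intro (z : Cochain (sg S₀.X₃) J n) (z' : Cochain (sg S₀.X₃) J n) hzz
    obtain ⟨f, rfl⟩ := Cochain.fromSingleMk_surjective z n (zero_add n)
    obtain ⟨f', rfl⟩ := Cochain.fromSingleMk_surjective z' n (zero_add n)
    have h1 : Cochain.fromSingleMk (S₀.g ≫ f) (zero_add n) =
        Cochain.fromSingleMk (S₀.g ≫ f') (zero_add n) := by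
      rw [Cochain.fromSingleMk_precomp, Cochain.fromSingleMk_precomp]
      exact hzz
    have h2 := congrArg (Cochain.fromSingleEquiv (zero_add n)) h1
    rw [Cochain.fromSingleEquiv_fromSingleMk, Cochain.fromSingleEquiv_fromSingleMk] at h2
    rw [(cancel_epi S₀.g).1 h2]
  · rw [ModuleCat.epi_iff_surjective]
    intro (z : Cochain (sg S₀.X₁) J n)
    obtain ⟨f, rfl⟩ := Cochain.fromSingleMk_surjective z n (zero_add n)
    haveI := hJ n
    refine ⟨Cochain.fromSingleMk (Injective.factorThru f S₀.f) (zero_add n), ?_⟩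
    show (Cochain.ofHom ((CochainComplex.singleFunctor (ModuleCat.{u} A) 0).map S₀.f)).comp
      (Cochain.fromSingleMk (Injective.factorThru f S₀.f) (zero_add n)) (zero_add n) = _
    rw [← Cochain.fromSingleMk_precomp, Injective.comp_factorThru]

end SES


section Unit

variable (J : DRing.Cx A)

lemma fromSingleEquiv_smul' {M : ModuleCat.{u} A} {n q : ℤ} (h : 0 + n = q) (a : A)
    (α : Cochain (sg M) J n) :
    Cochain.fromSingleEquiv h (a • α) = a • Cochain.fromSingleEquiv h α := by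
  show (HomologicalComplex.singleObjXSelf (ComplexShape.up ℤ) 0 M).inv ≫
      (a • α).v 0 q h =
    a • ((HomologicalComplex.singleObjXSelf (ComplexShape.up ℤ) 0 M).inv ≫
      α.v 0 q h)
  rw [Cochain.smul_v]
  exact Linear.comp_smul (R := A) _ _ _ _ a _

/-- `Hom•(A[0], J)^n ≃ J^n`. -/
noncomputable def unitEquiv (n : ℤ) :
    Cochain (sg (ModuleCat.of A A)) J n ≃ₗ[A] J.X n where
  toFun α := (Cochain.fromSingleEquiv (zero_add n) α).hom (1 : A)
  invFun x := Cochain.fromSingleMk (ModuleCat.ofHom (LinearMap.toSpanSingleton A (J.X n) x))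
    (zero_add n)
  left_inv α := by
    obtain ⟨f, rfl⟩ := Cochain.fromSingleMk_surjective α n (zero_add n)
    dsimp only
    rw [Cochain.fromSingleEquiv_fromSingleMk]
    congr 1
    ext
    simp
  right_inv x := by
    dsimp only
    rw [Cochain.fromSingleEquiv_fromSingleMk]
    simp
  map_add' α β := by
    rw [map_add]
    rfl
  map_smul' a α := by
    rw [fromSingleEquiv_smul']
    rfl

/-- `Hom•(A[0], J) ≅ J`. -/
noncomputable def unitIso : DRing.homCx (sg (ModuleCat.of A A)) J ≅ J :=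
  HomologicalComplex.Hom.isoOfComponents (fun n => (unitEquiv J n).toModuleIso) (by
    rintro i j (hij : i + 1 = j)
    subst hij
    ext α
    obtain ⟨f, rfl⟩ := Cochain.fromSingleMk_surjective α i (zero_add i)
    show (J.d i (i + 1)).hom ((unitEquiv J i) (Cochain.fromSingleMk f (zero_add i))) =
      (unitEquiv J (i + 1)) (δ i (i + 1) (Cochain.fromSingleMk f (zero_add i)))
    rw [Cochain.δ_fromSingleMk f (zero_add i) (i + 1) (i + 1) (zero_add (i + 1))]
    show (J.d i (i + 1)).hom ((Cochain.fromSingleEquiv (zero_add i)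
        (Cochain.fromSingleMk f (zero_add i))).hom (1 : A)) =
      (Cochain.fromSingleEquiv (zero_add (i + 1))
        (Cochain.fromSingleMk (f ≫ J.d i (i + 1)) (zero_add (i + 1)))).hom (1 : A)
    rw [Cochain.fromSingleEquiv_fromSingleMk, Cochain.fromSingleEquiv_fromSingleMk]
    rfl)

end Unit


section Third

open IsLocalRing Groth.Agent.Lib.T2H4.LD

variable [IsLocalRing A] [IsNoetherianRing A] (ω : Dual.D A) (hω : Dual.IsDualizing A ω)
  (hn : Dual.IsNormalized A ω)
  (E : Type u) [AddCommGroup E] [Module A E] (f : ResidueField A →ₗ[A] E)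
  (hf : InjHull.IsInjectiveHull f)
  (J : DRing.Cx A) [J.IsKInjective] (e : Q.obj J ≅ ω)
  (N : Type u) [AddCommGroup N] [Module A N] (hN : IsFiniteLength A N)

/-- cohomology of `Hom•(N[0], J)` -/
noncomputable def homologyThirdEquiv (j : ℤ) :
    (DerivedCategory.homologyFunctor (ModuleCat.{u} A) j).obj
      (Q.obj (DRing.homCx (sg (ModuleCat.of A N)) J)) ≃ₗ[A] (Dual.inD A N ⟶ ω⟦j⟧) :=
  (((DerivedCategory.homologyFunctorFactors (ModuleCat.{u} A) j).app
      (DRing.homCx (sg (ModuleCat.of A N)) J)).toLinearEquiv ≪≫ₗ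
    homologyHomCxEquiv (sg (ModuleCat.of A N)) J j) ≪≫ₗ
    Linear.homCongr A (Iso.refl _) ((CategoryTheory.shiftFunctor (Dual.D A) j).mapIso e)

include hω hn hf hN e in
theorem nonempty_third_iso :
    Nonempty (Q.obj (DRing.homCx (sg (ModuleCat.of A N)) J) ≅ Dual.inD A (N →ₗ[A] E)) := by
  obtain ⟨hvan, ⟨e0⟩⟩ := Groth.Agent.Lib.T2H4.LocalDual.ext_finiteLength ω hω hn E f hf N hN
  set X := Q.obj (DRing.homCx (sg (ModuleCat.of A N)) J) with hX
  have hz : ∀ j : ℤ, j ≠ 0 →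
      IsZero ((DerivedCategory.homologyFunctor (ModuleCat.{u} A) j).obj X) := by
    intro j hj
    haveI := hvan j hj
    haveI : Subsingleton ((DerivedCategory.homologyFunctor (ModuleCat.{u} A) j).obj X) :=
      (homologyThirdEquiv ω J e N j).toEquiv.subsingleton
    exact ModuleCat.isZero_of_subsingleton _
  haveI : X.IsGE 0 := (DerivedCategory.isGE_iff X 0).2 (fun i hi => hz i (by lia))
  haveI : X.IsLE 0 := (DerivedCategory.isLE_iff X 0).2 (fun i hi => hz i (by lia))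
  obtain ⟨Y, ⟨eY⟩⟩ := DerivedCategory.exists_iso_singleFunctor_obj_of_isGE_of_isLE X 0
  let l1 : Y ≃ₗ[A] (DerivedCategory.homologyFunctor (ModuleCat.{u} A) 0).obj X :=
    (((DerivedCategory.singleFunctorCompHomologyFunctorIso (ModuleCat.{u} A) 0).app Y).symm ≪≫
      (DerivedCategory.homologyFunctor (ModuleCat.{u} A) 0).mapIso eY.symm).toLinearEquiv
  let l2 : (Dual.inD A N ⟶ ω⟦(0 : ℤ)⟧) ≃ₗ[A] (Dual.inD A N ⟶ ω) :=
    Linear.homCongr A (Iso.refl _) ((CategoryTheory.shiftFunctorZero (Dual.D A) ℤ).app ω)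
  let l : Y ≃ₗ[A] (N →ₗ[A] E) := l1 ≪≫ₗ homologyThirdEquiv ω J e N 0 ≪≫ₗ l2 ≪≫ₗ e0
  exact ⟨eY ≪≫ (DerivedCategory.singleFunctor (ModuleCat.{u} A) 0).mapIso l.toModuleIso⟩

end Third


section Main

open IsLocalRing Groth.Agent.Lib.T2H4.LD Groth.Agent.Lib.T2H4.Bidual
  Groth.Agent.Lib.T2H4.DualFinite Groth.Agent.Lib.T2H4.DComp Groth.Agent.Lib.Helper17.KInj
  Groth.Agent.Lib.Helper1.Extend Groth.Agent.Lib.Helper1.Restrict Pretriangulated

variable [IsLocalRing A] [IsNoetherianRing A] (ω : Dual.D A) (hω : Dual.IsDualizing A ω)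
  (hn : Dual.IsNormalized A ω) (I₀ : Ideal A) (hIl : IsFiniteLength A I₀)
  (E : Type u) [AddCommGroup E] [Module A E] (f : ResidueField A →ₗ[A] E)
  (hf : InjHull.IsInjectiveHull f)
  (R : Dual.D A ⥤ Dual.D (A ⧸ I₀)) (adj : DRing.restrictD (Ideal.Quotient.mk I₀) ⊣ R)

/-- the short exact sequence `0 → I₀ → A → A/I₀ → 0` in `ModuleCat A`. -/
noncomputable def idealSES : ShortComplex (ModuleCat.{u} A) :=
  ShortComplex.mk (ModuleCat.ofHom (I₀.subtype : I₀ →ₗ[A] A))
    (ModuleCat.ofHom (Algebra.linearMap A (A ⧸ I₀))) (by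
      ext x
      exact Ideal.Quotient.eq_zero_iff_mem.2 x.2)

lemma idealSES_shortExact : (idealSES I₀).ShortExact := by
  refine ShortComplex.ShortExact.mk' ?_ ?_ ?_
  · rw [ShortComplex.moduleCat_exact_iff]
    intro (x : A) hx
    have hx' : Ideal.Quotient.mk I₀ x = 0 := hx
    exact ⟨⟨x, Ideal.Quotient.eq_zero_iff_mem.1 hx'⟩, rfl⟩
  · rw [ModuleCat.mono_iff_injective]
    exact Subtype.val_injective
  · rw [ModuleCat.epi_iff_surjective]
    intro (y : A ⧸ I₀)
    obtain ⟨x, rfl⟩ := Ideal.Quotient.mk_surjective y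
    exact ⟨x, rfl⟩

include hω hn hIl hf adj in
/-- **S8945**. -/
theorem exists_triangle :
    ∃ (u : (DRing.restrictD (Ideal.Quotient.mk I₀)).obj (R.obj ω) ⟶ ω)
      (v : ω ⟶ Dual.inD A (I₀ →ₗ[A] E))
      (w : Dual.inD A (I₀ →ₗ[A] E) ⟶
        ((DRing.restrictD (Ideal.Quotient.mk I₀)).obj (R.obj ω))⟦(1 : ℤ)⟧),
      Triangle.mk u v w ∈ distinguishedTriangles := by
  obtain ⟨J, a, b, hJ, ⟨e⟩⟩ := exists_dualizingRep ω hω
  haveI := hJ.bdd.isKInjective
  have hS := homSES_shortExact (idealSES_shortExact I₀) (J := J) hJ.bdd.inj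
  have hT' := DerivedCategory.triangleOfSES_distinguished hS
  set T' := DerivedCategory.triangleOfSES hS with hT'def
  let isoR : Q.obj (JB (A ⧸ I₀) J) ≅ R.obj ω :=
    (RGQIso (algebraMap A (A ⧸ I₀)) J hJ.fibrant).symm ≪≫
      (RG (algebraMap A (A ⧸ I₀))).mapIso e ≪≫
      ((adj.rightAdjointUniq (adjRG (algebraMap A (A ⧸ I₀)))).app ω).symm
  let i₁ : (DRing.restrictD (Ideal.Quotient.mk I₀)).obj (R.obj ω) ≅ T'.obj₁ :=
    (DRing.restrictD (Ideal.Quotient.mk I₀)).mapIso isoR.symm ≪≫ EIso (A ⧸ I₀) J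
  let i₂ : T'.obj₂ ≅ ω := Q.mapIso (unitIso J) ≪≫ e
  obtain ⟨i₃⟩ : Nonempty (T'.obj₃ ≅ Dual.inD A (I₀ →ₗ[A] E)) :=
    nonempty_third_iso ω hω hn E f hf J e I₀ hIl
  refine ⟨i₁.hom ≫ T'.mor₁ ≫ i₂.hom, i₂.inv ≫ T'.mor₂ ≫ i₃.hom,
    i₃.inv ≫ T'.mor₃ ≫ (CategoryTheory.shiftFunctor (Dual.D A) (1 : ℤ)).map i₁.inv, ?_⟩
  refine isomorphic_distinguished T' hT' _ (Triangle.isoMk _ _ i₁ i₂.symm i₃.symm ?_ ?_ ?_)
  · show (i₁.hom ≫ T'.mor₁ ≫ i₂.hom) ≫ i₂.inv = i₁.hom ≫ T'.mor₁
    rw [Category.assoc, Category.assoc, Iso.hom_inv_id, Category.comp_id]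
  · show (i₂.inv ≫ T'.mor₂ ≫ i₃.hom) ≫ i₃.inv = i₂.inv ≫ T'.mor₂
    rw [Category.assoc, Category.assoc, Iso.hom_inv_id, Category.comp_id]
  · show (i₃.inv ≫ T'.mor₃ ≫ (CategoryTheory.shiftFunctor (Dual.D A) (1 : ℤ)).map i₁.inv) ≫
      (CategoryTheory.shiftFunctor (Dual.D A) (1 : ℤ)).map i₁.hom = i₃.inv ≫ T'.mor₃
    rw [Category.assoc, Category.assoc, ← Functor.map_comp, Iso.inv_hom_id,
      CategoryTheory.Functor.map_id, Category.comp_id]

end Main

end Groth.Agent.Lib.T2H4.Tri
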