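import Mathlib
import Groth.Agent.Lib.T2H4BasicElt

/-!
# Unimodular elements, Serre splitting and Bass cancellation

Consequences of the Eisenbud–Evans lemma (`T2H4BasicElt`): over a Noetherian ring of Krull dimension
`≤ d`, a finite projective module whose rank at every prime exceeds `d` has a unimodular element
(`exists_unimodular`), more precisely Bass' stable range form (`exists_unimodular_add`);
cancellation `P × Rᵐ ≃ P' × Rᵐ → P ≃ P'` (`cancel`) and splitting off free summands (`split`).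
-/

namespace Groth.Agent.Lib.T2H4.Unimodular

open Module Submodule Groth.Agent.Lib.T2H4.BasicElt

universe u v

section Coht

variable {R : Type*} [CommRing R]

/-- coheight of a prime, as a natural number. -/
noncomputable def cohtNat (𝔭 : PrimeSpectrum R) : ℕ := (Order.coheight 𝔭).toNat

theorem coheight_le {d : ℕ} (hd : ringKrullDim R ≤ d) (𝔭 : PrimeSpectrum R) :
    Order.coheight 𝔭 ≤ (d : ℕ∞) := by
  have h1 : (Order.coheight 𝔭 : WithBot ℕ∞) ≤ Order.krullDim (PrimeSpectrum R) :=
    Order.coheight_le_krullDim 𝔭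
  have h2 : (Order.coheight 𝔭 : WithBot ℕ∞) ≤ ((d : ℕ∞) : WithBot ℕ∞) := h1.trans hd
  exact WithBot.coe_le_coe.1 h2

theorem cohtNat_le {d : ℕ} (hd : ringKrullDim R ≤ d) (𝔭 : PrimeSpectrum R) : cohtNat 𝔭 ≤ d :=
  ENat.toNat_le_of_le_natCast (coheight_le hd 𝔭)

theorem cohtNat_lt {d : ℕ} (hd : ringKrullDim R ≤ d) {𝔮 𝔭 : PrimeSpectrum R} (h : 𝔮 < 𝔭) :
    cohtNat 𝔭 + 1 ≤ cohtNat 𝔮 := by
  have h1 := Order.coheight_add_one_le h
  have hq := coheight_le hd 𝔮
  have hp := coheight_le hd 𝔭
  unfold cohtNat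
  generalize Order.coheight 𝔭 = x at *
  generalize Order.coheight 𝔮 = y at *
  have hx : x ≠ ⊤ := ne_top_of_le_ne_top (ENat.natCast_ne_top d) hp
  have hy : y ≠ ⊤ := ne_top_of_le_ne_top (ENat.natCast_ne_top d) hq
  lift x to ℕ using hx
  lift y to ℕ using hy
  simp only [ENat.toNat_natCast]
  exact_mod_cast h1

end Coht

section Pres

variable {R : Type u} [CommRing R] {P : Type v} [AddCommGroup P] [Module R P]

theorem exists_pres [Module.Finite R P] [Module.Projective R P] :
    ∃ (k : ℕ) (π : (Fin (k + 1) → R) →ₗ[R] P) (σ : P →ₗ[R] (Fin (k + 1) → R)),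
      π ∘ₗ σ = LinearMap.id := by
  obtain ⟨n, f, hf⟩ := Module.Finite.exists_fin' R P
  set π : (Fin (n + 1) → R) →ₗ[R] P := f ∘ₗ LinearMap.funLeft R R (Fin.succ : Fin n → Fin (n + 1))
  have hπ : Function.Surjective π := by
    intro x
    obtain ⟨y, rfl⟩ := hf x
    refine ⟨Fin.cons 0 y, ?_⟩
    simp only [π, LinearMap.comp_apply]
    congr 1
  obtain ⟨σ, hσ⟩ := Module.projective_lifting_property π LinearMap.id hπ
  exact ⟨n, π, σ, hσ⟩

theorem range_eq_span_single {K V : Type*} [Field K] [AddCommGroup V] [Module K V] {k : ℕ}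
    (f : (Fin k → K) →ₗ[K] V) :
    LinearMap.range f = span K (Set.range fun s => f (Pi.single s 1)) := by
  rw [LinearMap.range_eq_map, ← (Pi.basisFun K (Fin k)).span_eq, Submodule.map_span,
    ← Set.range_comp]
  congr 2
  funext s
  simp

theorem rk_pres_eq [Module.Finite R P] [Module.Projective R P] {k : ℕ}
    (π : (Fin k → R) →ₗ[R] P) (σ : P →ₗ[R] (Fin k → R)) (h : π ∘ₗ σ = LinearMap.id)
    (𝔭 : PrimeSpectrum R) :
    rk 𝔭 (fun s => σ (π (Pi.single s 1))) = Module.rankAtStalk P 𝔭 := by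
  classical
  set κ := 𝔭.asIdeal.ResidueField with hκ
  set E := TensorProduct.piScalarRight R κ κ (Fin k) with hE
  set θ : TensorProduct R κ P →ₗ[κ] (Fin k → κ) := E.toLinearMap ∘ₗ σ.baseChange κ with hθ
  set ψ : (Fin k → κ) →ₗ[κ] TensorProduct R κ P := π.baseChange κ ∘ₗ E.symm.toLinearMap with hψ
  have hcomp : π.baseChange κ ∘ₗ σ.baseChange κ = LinearMap.id := by
    rw [← LinearMap.baseChange_comp, h, LinearMap.baseChange_id]
  have hθinj : Function.Injective θ := by
    have h1 : Function.Injective (σ.baseChange κ) :=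
      Function.LeftInverse.injective (g := π.baseChange κ) fun x => by
        have := congrArg (fun f => f x) hcomp
        simpa using this
    exact E.injective.comp h1
  have hψsurj : Function.Surjective ψ := by
    have h1 : Function.Surjective (π.baseChange κ) :=
      Function.RightInverse.surjective (g := σ.baseChange κ) fun x => by
        have := congrArg (fun f => f x) hcomp
        simpa using this
    exact h1.comp E.symm.surjective
  have hrange : LinearMap.range θ = LinearMap.range (θ ∘ₗ ψ) := by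
    rw [LinearMap.range_comp_of_range_eq_top _ (LinearMap.range_eq_top.2 hψsurj)]
  have hsingle : ∀ s, (θ ∘ₗ ψ) (Pi.single s 1) = red 𝔭 (σ (π (Pi.single s 1))) := by
    intro s
    simp only [hθ, hψ, LinearMap.comp_apply, LinearEquiv.coe_coe, hE,
      TensorProduct.piScalarRight_symm_single, LinearMap.baseChange_tmul,
      TensorProduct.piScalarRight_apply, TensorProduct.piScalarRightHom_tmul]
    funext j
    simp only [red]
    exact (Algebra.algebraMap_eq_smul_one _).symm
  unfold rk dimSpan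
  rw [Module.rankAtStalk_eq, ← LinearMap.finrank_range_of_inj hθinj, hrange, range_eq_span_single]
  have hfun : (fun s => (θ ∘ₗ ψ) (Pi.single s 1)) = fun s => red 𝔭 (σ (π (Pi.single s 1))) :=
    funext hsingle
  rw [hfun]

end Pres

section Unimod

variable {R : Type u} [CommRing R] {P : Type v} [AddCommGroup P] [Module R P]

theorem apply_eq_sum_single {M : Type*} [AddCommGroup M] [Module R M] {k : ℕ}
    (f : (Fin k → R) →ₗ[R] M) (x : Fin k → R) : f x = ∑ s, x s • f (Pi.single s 1) := by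
  classical
  rw [LinearMap.pi_apply_eq_sum_univ f x]
  refine Finset.sum_congr rfl fun i _ => ?_
  congr 2
  funext j
  simp [Pi.single_apply, eq_comm]

variable [IsNoetherianRing R] [Module.Finite R P] [Module.Projective R P]

/-- Bass' stable range form of the existence of unimodular elements. -/
theorem exists_unimodular_add {d : ℕ} (hd : ringKrullDim R ≤ d)
    (hrk : ∀ 𝔭 : PrimeSpectrum R, d < Module.rankAtStalk P 𝔭)
    (p : P) (a : R) (ψ : P →ₗ[R] R) (c : R) (hu : ψ p + c * a = 1) :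
    ∃ (q : P) (φ : P →ₗ[R] R), φ (p + a • q) = 1 := by
  classical
  obtain ⟨k, π, σ, hπσ⟩ := exists_pres (R := R) (P := P)
  have hπσ' : ∀ x, π (σ x) = x := fun x => by
    have := congrArg (fun f => f x) hπσ
    simpa using this
  set e : Fin (k + 1) → P := fun s => π (Pi.single s 1) with he
  set v : Fin (k + 2) → (Fin (k + 1) → R) := Fin.cons (σ p) (fun s => a • σ (e s)) with hv
  set Pr : Set (PrimeSpectrum R) := {𝔭 | a ∉ 𝔭.asIdeal} with hPr
  have hPr_gen : ∀ 𝔭 ∈ Pr, ∀ 𝔮 : PrimeSpectrum R, 𝔮 ≤ 𝔭 → 𝔮 ∈ Pr := by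
    intro 𝔭 h𝔭 𝔮 hle ha
    exact h𝔭 (hle ha)
  have hδ : ∀ 𝔭 ∈ Pr, ∀ 𝔮 : PrimeSpectrum R, 𝔮 < 𝔭 → cohtNat 𝔭 + 1 ≤ cohtNat 𝔮 :=
    fun 𝔭 _ 𝔮 h => cohtNat_lt hd h
  have hvrk : ∀ 𝔭 ∈ Pr, min (k + 1 + 1) (cohtNat 𝔭 + 1) ≤ rk 𝔭 v := by
    intro 𝔭 h𝔭
    have h1 : rk 𝔭 (fun s => σ (e s)) ≤ rk 𝔭 v := by
      unfold rk dimSpan
      apply Submodule.finrank_mono
      rw [span_le]
      rintro _ ⟨s, rfl⟩
      have hne : algebraMap R 𝔭.asIdeal.ResidueField a ≠ 0 := fun h0 =>
        h𝔭 (Ideal.algebraMap_residueField_eq_zero.1 h0)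
      have h2 : red 𝔭 (σ (e s)) =
          (algebraMap R 𝔭.asIdeal.ResidueField a)⁻¹ • red 𝔭 (v s.succ) := by
        funext j
        simp only [red, hv, Fin.cons_succ, Pi.smul_apply, smul_eq_mul, map_mul]
        rw [← mul_assoc, inv_mul_cancel₀ hne, one_mul]
      show red 𝔭 (σ (e s)) ∈ span 𝔭.asIdeal.ResidueField (Set.range fun i => red 𝔭 (v i))
      rw [h2]
      exact smul_mem _ _ (subset_span ⟨s.succ, rfl⟩)
    have h3 : rk 𝔭 (fun s => σ (e s)) = Module.rankAtStalk P 𝔭 := rk_pres_eq π σ hπσ 𝔭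
    have h4 := hrk 𝔭
    have h5 := cohtNat_le hd 𝔭
    have h6 : cohtNat 𝔭 + 1 ≤ rk 𝔭 v := by omega
    exact (min_le_right _ _).trans h6
  obtain ⟨c', hc0, hc'⟩ := ee Pr hPr_gen cohtNat hδ (k + 1) v hvrk
  set q : P := ∑ s : Fin (k + 1), c' s.succ • e s with hq
  have hu_eq : ∑ s, c' s • v s = σ (p + a • q) := by
    rw [Fin.sum_univ_succ, hc0, one_smul]
    simp only [hv, Fin.cons_zero, Fin.cons_succ, map_add, map_smul, hq, map_sum, Finset.smul_sum]
    congr 1
    refine Finset.sum_congr rfl fun s _ => ?_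
    rw [smul_comm]
  set u := σ (p + a • q) with hu_def
  have hall : ∀ 𝔭 : PrimeSpectrum R, ∃ j, u j ∉ 𝔭.asIdeal := by
    intro 𝔭
    by_cases ha : a ∈ 𝔭.asIdeal
    · by_contra hcon
      push Not at hcon
      have h1 : ψ (p + a • q) ∈ 𝔭.asIdeal := by
        have h0 : p + a • q = ∑ j, u j • e j := by
          rw [← apply_eq_sum_single π u, hu_def, hπσ']
        rw [h0, map_sum]
        refine sum_mem fun j _ => ?_
        rw [map_smul, smul_eq_mul]
        exact Ideal.mul_mem_right _ _ (hcon j)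
      have h2 : (1 : R) = ψ (p + a • q) + a * (c - ψ q) := by
        rw [map_add, map_smul, smul_eq_mul, ← hu]
        ring
      have h3 : (1 : R) ∈ 𝔭.asIdeal := by
        rw [h2]
        exact add_mem h1 (Ideal.mul_mem_right _ _ ha)
      exact 𝔭.isPrime.ne_top ((Ideal.eq_top_iff_one _).2 h3)
    · obtain ⟨j, hj⟩ := hc' 𝔭 ha
      exact ⟨j, by rwa [hu_eq] at hj⟩
  have htop : Ideal.span (Set.range u) = ⊤ := by
    by_contra hne
    obtain ⟨𝔪, h𝔪, hle⟩ := Ideal.exists_le_maximal _ hne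
    obtain ⟨j, hj⟩ := hall ⟨𝔪, h𝔪.isPrime⟩
    exact hj (hle (Ideal.subset_span ⟨j, rfl⟩))
  have h1 : (1 : R) ∈ Ideal.span (Set.range u) := by
    rw [htop]
    trivial
  obtain ⟨r, hr⟩ := (Ideal.mem_span_range_iff_exists_fun).1 h1
  refine ⟨q, (∑ j, r j • LinearMap.proj (R := R) (φ := fun _ : Fin (k + 1) => R) j) ∘ₗ σ, ?_⟩
  simp only [LinearMap.comp_apply, LinearMap.sum_apply, LinearMap.smul_apply,
    LinearMap.proj_apply, smul_eq_mul]
  exact hr

/-- Serre: a finite projective module of rank `> dim R` has a unimodular element. -/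
theorem exists_unimodular {d : ℕ} (hd : ringKrullDim R ≤ d)
    (hrk : ∀ 𝔭 : PrimeSpectrum R, d < Module.rankAtStalk P 𝔭) :
    ∃ (p : P) (φ : P →ₗ[R] R), φ p = 1 := by
  obtain ⟨q, φ, h⟩ := exists_unimodular_add hd hrk (0 : P) 1 0 1 (by simp)
  exact ⟨q, φ, by simpa using h⟩

end Unimod

section Cancel

variable {R : Type u} [CommRing R] {P : Type v} [AddCommGroup P] [Module R P]

/-- The shear `(x, r) ↦ (x + r • q, r)`. -/
def shear1 (q : P) : (P × R) ≃ₗ[R] (P × R) where
  toFun x := (x.1 + x.2 • q, x.2)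
  invFun x := (x.1 - x.2 • q, x.2)
  map_add' x y := Prod.ext (by simp only [Prod.fst_add, Prod.snd_add, add_smul]; abel) rfl
  map_smul' c x := Prod.ext (by simp [mul_smul, smul_add]) rfl
  left_inv x := Prod.ext (by simp) rfl
  right_inv x := Prod.ext (by simp) rfl

/-- The shear `(x, r) ↦ (x, r + φ x)`. -/
def shear2 (φ : P →ₗ[R] R) : (P × R) ≃ₗ[R] (P × R) where
  toFun x := (x.1, x.2 + φ x.1)
  invFun x := (x.1, x.2 - φ x.1)
  map_add' x y := Prod.ext rfl (by simp only [Prod.fst_add, Prod.snd_add, map_add]; abel)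
  map_smul' c x := Prod.ext rfl (by simp [mul_add])
  left_inv x := Prod.ext rfl (by simp)
  right_inv x := Prod.ext rfl (by simp)

theorem fst_apply_fst_zero {P' : Type*} [AddCommGroup P'] [Module R P']
    (E : (P × R) →ₗ[R] (P' × R)) (hE : E (0, 1) = (0, 1)) (z : P × R) :
    (E (z.1, 0)).1 = (E z).1 := by
  have h : ((z.1, 0) : P × R) = z - z.2 • ((0, 1) : P × R) := by
    ext <;> simp
  rw [h, map_sub, map_smul, hE]
  simp

/-- An isomorphism `P × R ≃ P' × R` fixing `(0,1)` induces `P ≃ P'`. -/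
noncomputable def isoOfFix {P' : Type*} [AddCommGroup P'] [Module R P']
    (E : (P × R) ≃ₗ[R] (P' × R)) (hE : E (0, 1) = (0, 1)) : P ≃ₗ[R] P' :=
  have hE' : E.symm (0, 1) = (0, 1) := by
    rw [LinearEquiv.symm_apply_eq, hE]
  LinearEquiv.ofLinearMap
    (LinearMap.fst R P' R ∘ₗ E.toLinearMap ∘ₗ LinearMap.inl R P R)
    (LinearMap.fst R P R ∘ₗ E.symm.toLinearMap ∘ₗ LinearMap.inl R P' R)
    (by
      ext y
      simp only [LinearMap.comp_apply, LinearMap.inl_apply, LinearEquiv.coe_coe,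
        LinearMap.fst_apply, LinearMap.id_apply]
      have := fst_apply_fst_zero E.toLinearMap hE (E.symm (y, 0))
      simp only [LinearEquiv.coe_coe, LinearEquiv.apply_symm_apply] at this
      exact this)
    (by
      ext y
      simp only [LinearMap.comp_apply, LinearMap.inl_apply, LinearEquiv.coe_coe,
        LinearMap.fst_apply, LinearMap.id_apply]
      have := fst_apply_fst_zero E.symm.toLinearMap hE' (E (y, 0))
      simp only [LinearEquiv.coe_coe, LinearEquiv.symm_apply_apply] at this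
      exact this)

theorem cancel_one [IsNoetherianRing R] [Module.Finite R P] [Module.Projective R P]
    {P' : Type*} [AddCommGroup P'] [Module R P'] {d : ℕ} (hd : ringKrullDim R ≤ d)
    (hrk : ∀ 𝔭 : PrimeSpectrum R, d < Module.rankAtStalk P 𝔭)
    (e : (P × R) ≃ₗ[R] (P' × R)) : Nonempty (P ≃ₗ[R] P') := by
  obtain ⟨⟨p, a⟩, hz⟩ : ∃ z : P × R, z = e.symm (0, 1) := ⟨_, rfl⟩
  set lam : (P × R) →ₗ[R] R := LinearMap.snd R P' R ∘ₗ e.toLinearMap with hlam_def
  have hlam : lam (p, a) = 1 := by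
    simp [hlam_def, hz]
  set ψ : P →ₗ[R] R := lam ∘ₗ LinearMap.inl R P R with hψ
  set c : R := lam (0, 1) with hc
  have hu : ψ p + c * a = 1 := by
    have h : ((p, a) : P × R) = (p, 0) + a • ((0 : P), (1 : R)) := by
      ext <;> simp
    rw [h, map_add, map_smul] at hlam
    simpa [hψ, hc, mul_comm] using hlam
  obtain ⟨q, φ, hφ⟩ := exists_unimodular_add hd hrk p a ψ c hu
  set τ : (P × R) ≃ₗ[R] (P × R) :=
    (shear1 q).trans ((shear2 ((1 - a) • φ)).trans (shear1 (-(p + a • q)))) with hτ_def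
  have hτ : τ (p, a) = (0, 1) := by
    simp only [hτ_def, LinearEquiv.trans_apply, shear1, shear2, LinearEquiv.coe_mk,
      LinearMap.coe_mk, AddHom.coe_mk, LinearMap.smul_apply, hφ, smul_eq_mul, mul_one]
    ext <;> simp
  set E := τ.symm.trans e with hE_def
  have hE : E (0, 1) = (0, 1) := by
    simp only [hE_def, LinearEquiv.trans_apply]
    rw [← hτ, τ.symm_apply_apply, hz, e.apply_symm_apply]
  exact ⟨isoOfFix E hE⟩

end Cancel

section CancelInd

variable {R : Type u} [CommRing R] [IsNoetherianRing R]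

/-- Bass cancellation. -/
theorem cancel {d : ℕ} (hd : ringKrullDim R ≤ d) :
    ∀ (m : ℕ) (P : Type u) [AddCommGroup P] [Module R P] [Module.Finite R P]
      [Module.Projective R P] (P' : Type u) [AddCommGroup P'] [Module R P'],
      (∀ 𝔭 : PrimeSpectrum R, d < Module.rankAtStalk P 𝔭) →
      ((P × (Fin m → R)) ≃ₗ[R] (P' × (Fin m → R))) → Nonempty (P ≃ₗ[R] P') := by
  intro m
  induction m with
  | zero =>
    intro P _ _ _ _ P' _ _ _ e
    exact ⟨(LinearEquiv.prodUnique (R := R) (M := P) (M₂ := Fin 0 → R)).symm.trans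
      (e.trans LinearEquiv.prodUnique)⟩
  | succ m ih =>
    intro P _ _ _ _ P' _ _ hrk e
    have A : ∀ (Q : Type u) [AddCommGroup Q] [Module R Q],
        (Q × (Fin (m + 1) → R)) ≃ₗ[R] ((Q × R) × (Fin m → R)) := fun Q _ _ =>
      (LinearEquiv.prodCongr (LinearEquiv.refl R Q)
        (Fin.consLinearEquiv R (fun _ : Fin (m + 1) => R)).symm).trans
        (LinearEquiv.prodAssoc R Q R (Fin m → R)).symm
    have e' : ((P × R) × (Fin m → R)) ≃ₗ[R] ((P' × R) × (Fin m → R)) :=
      (A P).symm.trans (e.trans (A P'))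
    have hrk' : ∀ 𝔭 : PrimeSpectrum R, d < Module.rankAtStalk (P × R) 𝔭 := by
      intro 𝔭
      have h1 := congrFun (Module.rankAtStalk_prod (R := R) P R) 𝔭
      rw [h1, Pi.add_apply]
      have := hrk 𝔭
      omega
    obtain ⟨e1⟩ := ih (P × R) (P' × R) hrk' e'
    exact cancel_one hd hrk e1

/-- Serre splitting: split off a free summand of rank `j` when the rank is at least `d + j`. -/
theorem split {d : ℕ} (hd : ringKrullDim R ≤ d) :
    ∀ (j : ℕ) (P : Type u) [AddCommGroup P] [Module R P] [Module.Finite R P]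
      [Module.Projective R P],
      (∀ 𝔭 : PrimeSpectrum R, d + j ≤ Module.rankAtStalk P 𝔭) →
      ∃ (f : (Fin j → R) →ₗ[R] P) (g : P →ₗ[R] (Fin j → R)), g ∘ₗ f = LinearMap.id := by
  intro j
  induction j with
  | zero =>
    intro P _ _ _ _ _
    exact ⟨0, 0, by ext x i; exact i.elim0⟩
  | succ j ih =>
    intro P _ _ _ _ hrk
    obtain ⟨p, φ, hφ⟩ := exists_unimodular (P := P) hd (fun 𝔭 => by have := hrk 𝔭; omega)
    set K := LinearMap.ker φ with hK
    let projK : P →ₗ[R] K :=
      (LinearMap.id - (LinearMap.toSpanSingleton R P p) ∘ₗ φ).codRestrict K (fun y => by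
        simp [hK, hφ])
    have hprojK : ∀ y, (projK y : P) = y - φ y • p := fun y => rfl
    have hφK : ∀ y : K, φ (y : P) = 0 := fun y => LinearMap.mem_ker.1 y.2
    have hsplit : projK ∘ₗ K.subtype = LinearMap.id := by
      ext y
      simp [hprojK, hφK]
    have : Module.Finite R K := Module.Finite.of_surjective projK (fun y => ⟨y, by
      have := congrArg (fun f => f y) hsplit
      simpa using this⟩)
    have : Module.Projective R K := Module.Projective.of_split K.subtype projK hsplit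
    let eK : P ≃ₗ[R] K × R := LinearEquiv.ofLinearMap (projK.prod φ)
      (K.subtype.coprod (LinearMap.toSpanSingleton R P p))
      (by
        refine LinearMap.ext fun ⟨y, r⟩ => Prod.ext (Subtype.ext ?_) ?_
        · simp [hprojK, hφK, hφ]
        · simp [hφK, hφ])
      (by
        ext y
        simp [hprojK])
    have hrkK : ∀ 𝔭 : PrimeSpectrum R, d + j ≤ Module.rankAtStalk K 𝔭 := by
      intro 𝔭
      have := 𝔭.nontrivial
      have h1 := congrFun (Module.rankAtStalk_eq_of_equiv eK) 𝔭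
      have h2 := congrFun (Module.rankAtStalk_prod (R := R) K R) 𝔭
      have h3 := congrFun (Module.rankAtStalk_self (R := R)) 𝔭
      rw [Pi.add_apply, h3, Pi.one_apply] at h2
      have := hrk 𝔭
      omega
    obtain ⟨f', g', hfg⟩ := ih K hrkK
    have hfg' : ∀ x, g' (f' x) = x := fun x => by
      have := congrArg (fun f => f x) hfg
      simpa using this
    let consEq := Fin.consLinearEquiv R (fun _ : Fin (j + 1) => R)
    refine ⟨((LinearMap.toSpanSingleton R P p).coprod (K.subtype ∘ₗ f')) ∘ₗ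
      consEq.symm.toLinearMap, consEq.toLinearMap ∘ₗ (φ.prod (g' ∘ₗ projK)), ?_⟩
    have hmid : (φ.prod (g' ∘ₗ projK)) ∘ₗ
        ((LinearMap.toSpanSingleton R P p).coprod (K.subtype ∘ₗ f')) = LinearMap.id := by
      refine LinearMap.ext fun ⟨r, x⟩ => Prod.ext ?_ ?_
      · simp [hφK, hφ]
      · have hk : projK (r • p + (f' x : P)) = f' x := by
          apply Subtype.ext
          simp [hprojK, hφK, hφ]
        simp [hk, hfg']
    refine LinearMap.ext fun x => ?_
    have := congrArg (fun f => f (consEq.symm x)) hmid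
    simp only [LinearMap.comp_apply, LinearMap.id_apply] at this
    show consEq ((φ.prod (g' ∘ₗ projK)) (((LinearMap.toSpanSingleton R P p).coprod
      (K.subtype ∘ₗ f')) (consEq.symm x))) = x
    rw [this, LinearEquiv.apply_symm_apply]

end CancelInd

section Misc

variable {R : Type*} [CommRing R]

theorem isCompl_ker_range {M N : Type*} [AddCommGroup M] [Module R M] [AddCommGroup N]
    [Module R N] (f : N →ₗ[R] M) (g : M →ₗ[R] N) (hfg : g ∘ₗ f = LinearMap.id) :
    IsCompl (LinearMap.ker g) (LinearMap.range f) := by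
  have hfg' : ∀ x, g (f x) = x := fun x => by
    have := congrArg (fun h => h x) hfg
    simpa using this
  constructor
  · rw [Submodule.disjoint_def]
    rintro x hx ⟨y, rfl⟩
    have h0 : g (f y) = 0 := LinearMap.mem_ker.1 hx
    rw [hfg'] at h0
    rw [h0, map_zero]
  · rw [codisjoint_iff, eq_top_iff']
    intro x
    rw [Submodule.mem_sup]
    refine ⟨x - f (g x), ?_, f (g x), ⟨_, rfl⟩, by abel⟩
    rw [LinearMap.mem_ker, map_sub, hfg', sub_self]

theorem projective_pi_fin {P : Type*} [AddCommGroup P] [Module R P] [Module.Projective R P]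
    (N : ℕ) : Module.Projective R (Fin N → P) :=
  Module.Projective.of_equiv
    (DFinsupp.linearEquivFunOnFintype (R := R) (ι := Fin N) (M := fun _ => P))

/-- A rearrangement `X × (A × F) ≃ A × (X × F)`. -/
def rearr (R X A F : Type*) [CommRing R] [AddCommGroup X] [Module R X] [AddCommGroup A]
    [Module R A] [AddCommGroup F] [Module R F] : (X × (A × F)) ≃ₗ[R] (A × (X × F)) :=
  (LinearEquiv.prodAssoc R X A F).symm.trans
    ((LinearEquiv.prodCongr (LinearEquiv.prodComm R X A) (LinearEquiv.refl R F)).trans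
      (LinearEquiv.prodAssoc R A X F))

/-- `Xᴺ⁺¹ × F ≃ X × (Xᴺ × F)`. -/
def consProd (R X F : Type*) [CommRing R] [AddCommGroup X] [Module R X]
    [AddCommGroup F] [Module R F] (N : ℕ) :
    ((Fin (N + 1) → X) × F) ≃ₗ[R] (X × ((Fin N → X) × F)) :=
  (LinearEquiv.prodCongr (Fin.consLinearEquiv R (fun _ : Fin (N + 1) => X)).symm
    (LinearEquiv.refl R F)).trans (LinearEquiv.prodAssoc R X (Fin N → X) F)

/-- Stable isomorphism is inherited by direct powers. -/
theorem nonempty_pow_stable {P Q F : Type*} [AddCommGroup P] [Module R P] [AddCommGroup Q]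
    [Module R Q] [AddCommGroup F] [Module R F] (e : (P × F) ≃ₗ[R] (Q × F)) :
    ∀ N : ℕ, Nonempty (((Fin N → P) × F) ≃ₗ[R] ((Fin N → Q) × F)) := by
  intro N
  induction N with
  | zero =>
    exact ⟨(LinearEquiv.uniqueProd (R := R) (M := F) (M₂ := Fin 0 → P)).trans
      (LinearEquiv.uniqueProd (R := R) (M := F) (M₂ := Fin 0 → Q)).symm⟩
  | succ N ih =>
    obtain ⟨eN⟩ := ih
    exact ⟨(consProd R P F N).trans
      ((LinearEquiv.prodCongr (LinearEquiv.refl R P) eN).trans
        ((rearr R P (Fin N → Q) F).trans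
          ((LinearEquiv.prodCongr (LinearEquiv.refl R (Fin N → Q)) e).trans
            ((rearr R (Fin N → Q) Q F).trans (consProd R Q F N).symm))))⟩

end Misc

end Groth.Agent.Lib.T2H4.Unimodular
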