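import Groth.Agent.Lib.T2H4LD1
import Groth.Agent.Lib.T2H4TensHom
import Groth.Agent.Lib.Helper1KF10
import Groth.Agent.Lib.Helper17DBrown3

/-!
# `Hom•(P, L)` for K-projective `P`, and the swap isomorphism (helper4)
-/

set_option autoImplicit false
set_option linter.style.haveILetI false
set_option backward.isDefEq.respectTransparency.types false
universe u
open CategoryTheory CategoryTheory.Limits
attribute [local instance] HasDerivedCategory.standard

namespace Groth.Agent.Lib.T2H4.Uniq

open CochainComplex HomComplex DerivedCategory HomologicalComplex Groth.Agent.Lib.T2H4.Bidual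
  Groth.Agent.Lib.T2H4.HomCx Groth.Agent.Lib.Helper17.DBrown

variable {A : Type u} [CommRing A]

section KProj

variable {K L : DRing.Cx A}

lemma Θ_surjective' [K.IsKProjective] (n : ℤ) :
    Function.Surjective (Θ K L (n := n)) := by
  intro g
  obtain ⟨f, hf⟩ := exists_Q_map_eq_of_isKProjective
    (K := K) (L := L⟦n⟧) (g ≫ (Q.commShiftIso n).inv.app L)
  refine ⟨Cocycle.equivHomShift f, ?_⟩
  unfold Θ
  rw [AddEquiv.symm_apply_apply, hf, Category.assoc, Iso.inv_hom_id_app]
  exact Category.comp_id g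

lemma Θ_eq_zero_iff' [K.IsKProjective] {n : ℤ} (z : Cocycle K L n) :
    Θ K L z = 0 ↔ ∃ y : Cochain K L (n - 1), δ (n - 1) n y = z := by
  rw [← mem_coboundaries_iff z (n - 1) (by simp), ← CohomologyClass.toHom_mk_eq_zero_iff,
    CohomologyClass.toHom_mk]
  unfold Θ
  have h1 := IsKProjective.Qh_map_bijective K
    ((HomotopyCategory.quotient (ModuleCat.{u} A) (ComplexShape.up ℤ)).obj (L⟦n⟧))
  constructor
  · intro h
    apply h1.1
    have h2 : Q.map (Cocycle.equivHomShift.symm z) = 0 := by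
      have := congrArg (fun t => t ≫ (Q.commShiftIso n).inv.app L) h
      simpa using this
    rw [Functor.map_zero]
    exact h2
  · intro h
    have h2 : Q.map (Cocycle.equivHomShift.symm z) = 0 := by
      have := congrArg (fun t => Qh.map t) h
      rw [Functor.map_zero] at this
      exact this
    rw [h2, zero_comp]

variable (K L)

/-- `H^n(Hom•(K, L)) ≃ Hom_{D(A)}(K, L[n])` for `K` K-projective. -/
noncomputable def homologyHomCxEquiv' [K.IsKProjective] (n : ℤ) :
    (DRing.homCx K L).homology n ≃ₗ[A] (Q.obj K ⟶ (Q.obj L)⟦n⟧) := by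
  let S := (DRing.homCx K L).sc' (n - 1) n (n + 1)
  let e1 : (DRing.homCx K L).homology n ≅ S.homology :=
    (DRing.homCx K L).homologyIsoSc' (n - 1) n (n + 1) (by simp) (by simp)
  let e2 := S.moduleCatHomologyIso
  have hsurj : Function.Surjective (ΘLin K L n) := by
    intro g
    obtain ⟨z, hz⟩ := Θ_surjective' (K := K) (L := L) n g
    exact ⟨⟨z.1, Cocycle.δ_eq_zero z (n + 1)⟩, hz⟩
  have hker : LinearMap.ker (ΘLin K L n) = LinearMap.range S.moduleCatToCycles := by
    ext z
    rw [LinearMap.mem_ker, LinearMap.mem_range]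
    show Θ K L (Cocycle.mk (z.1 : Cochain K L n) (n + 1) rfl z.2) = 0 ↔ _
    rw [Θ_eq_zero_iff']
    constructor
    · rintro ⟨y, hy⟩
      exact ⟨y, Subtype.ext hy⟩
    · rintro ⟨y, hy⟩
      exact ⟨y, congrArg Subtype.val hy⟩
  let e3 := (ΘLin K L n).quotKerEquivOfSurjective hsurj
  let e4 := Submodule.quotEquivOfEq _ _ hker
  exact (e1 ≪≫ e2).toLinearEquiv ≪≫ₗ e4.symm ≪≫ₗ e3

end KProj

section Swap

open MonoidalCategory Groth.Agent.Lib.T2H4.TensHom Groth.Agent.Lib.Helper1.KF

/-- `Hom•(-, M)` applied to an isomorphism. -/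
noncomputable def homCxPreIso {K K' : DRing.Cx A} (e : K ≅ K') (M : DRing.Cx A) :
    DRing.homCx K' M ≅ DRing.homCx K M where
  hom := homCxPre e.hom M
  inv := homCxPre e.inv M
  hom_inv_id := by rw [← homCxPre_comp, e.inv_hom_id, homCxPre_id]
  inv_hom_id := by rw [← homCxPre_comp, e.hom_inv_id, homCxPre_id]

/-- the swap isomorphism `Hom•(K, Hom•(L, M)) ≅ Hom•(L, Hom•(K, M))`. -/
noncomputable def homCxSwapIso (K L M : DRing.Cx A) :
    DRing.homCx K (DRing.homCx L M) ≅ DRing.homCx L (DRing.homCx K M) :=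
  homCxTensorIso K L M ≪≫ homCxPreIso (swapIso L K) M ≪≫ (homCxTensorIso L K M).symm

end Swap

end Groth.Agent.Lib.T2H4.Uniq
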