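import Groth.Agent.Lib.T2H4Uniq3

/-!
# Recognition of shifts of a dualizing complex over a local ring (helper4)

Generalization of `T2H4Uniq3`: the second complex need only be a bounded complex of injectives with
finite cohomology and one-dimensional `Ext(k, -)`.
-/

set_option autoImplicit false
set_option linter.style.haveILetI false
set_option backward.isDefEq.respectTransparency.types false
universe u
open CategoryTheory CategoryTheory.Limits
attribute [local instance] HasDerivedCategory.standard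

namespace Groth.Agent.Lib.T2H4.Uniq

open CochainComplex HomComplex DerivedCategory HomologicalComplex Groth.Agent.Lib.T2H4.Bidual
  Groth.Agent.Lib.T2H4.HomCx Groth.Agent.Lib.Helper17.DBrown Groth.Agent.Lib.T2H4.LD
  Groth.Agent.Lib.Helper1.KF Groth.Agent.Lib.T2H4.DualField IsLocalRing

variable {A : Type u} [CommRing A]

section Main

variable [IsLocalRing A] [IsNoetherianRing A]

/-- the computation of `Ext^•(RHom(ω', ω), k)`. -/
theorem nonempty_hom_kS_equiv' {I I' : DRing.Cx A} {a b a' b' : ℤ} (hI : DualizingRep I a b)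
    (hI' : BddInj I' a' b') (hIfin : FinH I) (hI'fin : FinH I') (m : ℤ)
    (hm : ∀ i : ℤ, i ≠ m → Subsingleton (Dual.inD A (kk A) ⟶ (Q.obj I)⟦i⟧))
    (θm : (Dual.inD A (kk A) ⟶ (Q.obj I)⟦m⟧) ≃ₗ[A] kk A) (j : ℤ) :
    Nonempty ((Q.obj (DRing.homCx I' I) ⟶ kS A (m - j)) ≃ₗ[A]
      (Dual.inD A (kk A) ⟶ (Q.obj I')⟦j⟧)) := by
  haveI := hI.bdd.isKInjective
  haveI := hI'.isKInjective
  -- resolutions
  obtain ⟨F, πF, hF, -, hπF, -⟩ := exists_kprojective_resolution
    ((CochainComplex.singleFunctor (ModuleCat.{u} A) 0).obj (ModuleCat.of A (kk A)))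
  haveI := hF
  haveI := hπF
  haveI : IsIso (Q.map πF) := (isIso_Q_map_iff_quasiIso (φ := πF)).2 inferInstance
  let εF : Q.obj F ≅ Dual.inD A (kk A) :=
    asIso (Q.map πF) ≪≫
      ((singleFunctorIsoCompQ (ModuleCat.{u} A) 0).app (ModuleCat.of A (kk A))).symm
  obtain ⟨P, πP, hP, -, hπP, -⟩ := exists_kprojective_resolution (DRing.homCx I' I)
  haveI := hP
  haveI := hπP
  haveI : IsIso (Q.map πP) := (isIso_Q_map_iff_quasiIso (φ := πP)).2 inferInstance
  let εP : Q.obj P ≅ Q.obj (DRing.homCx I' I) := asIso (Q.map πP)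
  -- `RHom(k, ω) = k[-m]`
  have hK1 : ∀ r : ℤ, (((homologyFunctor (ModuleCat.{u} A) r).obj (Q.obj (DRing.homCx F I))) ≃ₗ[A]
      (Dual.inD A (kk A) ⟶ (Q.obj I)⟦r⟧)) := fun r =>
    homologyQEquiv _ r ≪≫ₗ homologyHomCxEquiv F I r ≪≫ₗ
      Linear.homCongr A εF (Iso.refl _)
  obtain ⟨κ⟩ : Nonempty (Q.obj (DRing.homCx F I) ≅ kS A m) := by
    apply nonempty_iso_single_of_homology _ m (ModuleCat.of A (kk A))
    · intro i hi
      haveI := hm i hi
      haveI : Subsingleton ((homologyFunctor (ModuleCat.{u} A) i).obj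
        (Q.obj (DRing.homCx F I))) := (hK1 i).toEquiv.subsingleton
      exact ModuleCat.isZero_of_subsingleton _
    · exact hK1 m ≪≫ₗ θm
  -- `RHom(RHom(ω', ω), ω) = ω'`
  haveI := quasiIso_ev_of_dualizing hI I' hI'fin
  haveI := quasiIso_homCxPre πP I
  haveI : IsIso (Q.map (ev I' I)) := (isIso_Q_map_iff_quasiIso (φ := ev I' I)).2 inferInstance
  haveI : IsIso (Q.map (homCxPre πP I)) :=
    (isIso_Q_map_iff_quasiIso (φ := homCxPre πP I)).2 inferInstance
  let εY : Q.obj (DRing.homCx P I) ≅ Q.obj I' :=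
    (asIso (Q.map (ev I' I)) ≪≫ asIso (Q.map (homCxPre πP I))).symm
  -- the chain of equivalences
  let σ : (kS A m)⟦j⟧ ≅ kS A (m - j) :=
    ((DerivedCategory.singleFunctors (ModuleCat.{u} A)).shiftIso j (m - j) m (by lia)).app _
  let s1 : (Q.obj (DRing.homCx I' I) ⟶ kS A (m - j)) ≃ₗ[A]
      (Q.obj P ⟶ (Q.obj (DRing.homCx F I))⟦j⟧) :=
    Linear.homCongr A εP.symm
      (σ.symm ≪≫ (CategoryTheory.shiftFunctor (Dual.D A) j).mapIso κ.symm)
  let s2 := (homologyHomCxEquiv' P (DRing.homCx F I) j).symm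
  let s3 : (DRing.homCx P (DRing.homCx F I)).homology j ≃ₗ[A]
      (DRing.homCx F (DRing.homCx P I)).homology j :=
    ((HomologicalComplex.homologyFunctor (ModuleCat.{u} A) (ComplexShape.up ℤ) j).mapIso
      (homCxSwapIso F P I).symm).toLinearEquiv
  let s4 := homologyHomCxEquiv' F (DRing.homCx P I) j
  let s5 : (Q.obj F ⟶ (Q.obj (DRing.homCx P I))⟦j⟧) ≃ₗ[A]
      (Dual.inD A (kk A) ⟶ (Q.obj I')⟦j⟧) :=
    Linear.homCongr A εF ((CategoryTheory.shiftFunctor (Dual.D A) j).mapIso εY)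
  exact ⟨s1 ≪≫ₗ s2 ≪≫ₗ s3 ≪≫ₗ s4 ≪≫ₗ s5⟩

/-- uniqueness of dualizing complexes, at the level of representatives. -/
theorem nonempty_iso_shift_of_rep' {I I' : DRing.Cx A} {a b a' b' : ℤ} (hI : DualizingRep I a b)
    (hI' : BddInj I' a' b') (hIfin : FinH I) (hI'fin : FinH I')
    (m : ℤ) (hm : ∀ i : ℤ, i ≠ m → Subsingleton (Dual.inD A (kk A) ⟶ (Q.obj I)⟦i⟧))
    (θm : (Dual.inD A (kk A) ⟶ (Q.obj I)⟦m⟧) ≃ₗ[A] kk A)
    (m' : ℤ) (hm' : ∀ i : ℤ, i ≠ m' → Subsingleton (Dual.inD A (kk A) ⟶ (Q.obj I')⟦i⟧))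
    (θm' : (Dual.inD A (kk A) ⟶ (Q.obj I')⟦m'⟧) ≃ₗ[A] kk A) :
    Nonempty (Q.obj I' ≅ (Q.obj I)⟦m - m'⟧) := by
  haveI := hI.bdd.isKInjective
  haveI := hI.bdd.ge
  haveI := hI.bdd.le
  haveI := hI'.ge
  haveI := hI'.le
  let G := DRing.homCx I' I
  haveI : G.IsStrictlyGE (a - b') := isStrictlyGE_homCx I' I b' a
  haveI : G.IsStrictlyLE (b - a') := isStrictlyLE_homCx I' I a' b
  have hX : ∀ i : ℤ, (i < a - b' ∨ b - a' < i) →
      IsZero ((DerivedCategory.homologyFunctor (ModuleCat.{u} A) i).obj (Q.obj G)) := by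
    intro i hi
    have hz : IsZero (G.X i) := by
      rcases hi with hi | hi
      · exact G.isZero_of_isStrictlyGE (a - b') i hi
      · exact G.isZero_of_isStrictlyLE (b - a') i hi
    haveI : Subsingleton (G.homology i) :=
      ModuleCat.subsingleton_of_isZero (isZero_homology_of_isZero_X G i hz)
    haveI : Subsingleton ((DerivedCategory.homologyFunctor (ModuleCat.{u} A) i).obj (Q.obj G)) :=
      (homologyQEquiv G i).toEquiv.subsingleton
    exact ModuleCat.isZero_of_subsingleton _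
  have hfin : ∀ i : ℤ, Module.Finite A
      ((DerivedCategory.homologyFunctor (ModuleCat.{u} A) i).obj (Q.obj G)) :=
    fun i => (finH_iff G).1 (finH_homCx hI hIfin I' hI'fin) i
  have hvan : ∀ j : ℤ, j ≠ m - m' → Subsingleton (Q.obj G ⟶ kS A j) := by
    intro j hj
    obtain ⟨e⟩ := nonempty_hom_kS_equiv' hI hI' hIfin hI'fin m hm θm (m - j)
    have h1 : m - (m - j) = j := by lia
    rw [h1] at e
    haveI := hm' (m - j) (by lia)
    exact e.toEquiv.subsingleton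
  have hone : Nonempty ((Q.obj G ⟶ kS A (m - m')) ≃ₗ[A] kk A) := by
    obtain ⟨e⟩ := nonempty_hom_kS_equiv' hI hI' hIfin hI'fin m hm θm m'
    exact ⟨e ≪≫ₗ θm'⟩
  obtain ⟨φ⟩ := nonempty_iso_aS (Q.obj G) (a - b') (b - a') hX hfin (m - m') hvan hone
  generalize m - m' = t at φ ⊢
  let ψ : Q.obj (sgl t (ModuleCat.of A A)) ≅ Q.obj G :=
    ((singleFunctorIsoCompQ (ModuleCat.{u} A) t).app (ModuleCat.of A A)).symm ≪≫ φ
  obtain ⟨γ, hγ⟩ := exists_Q_map_eq_of_isKProjective (K := sgl t (ModuleCat.of A A)) (L := G) ψ.hom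
  haveI : IsIso (Q.map γ) := by rw [hγ]; infer_instance
  haveI : QuasiIso γ := (isIso_Q_map_iff_quasiIso (φ := γ)).1 inferInstance
  haveI := quasiIso_homCxPre γ I
  haveI := quasiIso_ev_of_dualizing hI I' hI'fin
  haveI : IsIso (Q.map (ev I' I)) := (isIso_Q_map_iff_quasiIso (φ := ev I' I)).2 inferInstance
  haveI : IsIso (Q.map (homCxPre γ I)) :=
    (isIso_Q_map_iff_quasiIso (φ := homCxPre γ I)).2 inferInstance
  exact ⟨asIso (Q.map (ev I' I)) ≪≫ asIso (Q.map (homCxPre γ I)) ≪≫ uIso I t⟩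

end Main

end Groth.Agent.Lib.T2H4.Uniq
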