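import Mathlib
import Groth.Prelude.Def_RelProj3
import Groth.Agent.Lib.T2H4VeryAmpleC
import Groth.Agent.Lib.T2H4FinGenC
import Groth.Agent.Lib.Helper6Proper

/-!
# Consequences of relative very ampleness (helper4)

* `isSeparated_of_isRelVeryAmple`
* `exists_ft_epi_of_isRelVeryAmple`
-/

set_option autoImplicit false
set_option linter.style.haveILetI false
universe u
open CategoryTheory Limits AlgebraicGeometry TopologicalSpace Opposite

namespace Groth.Agent.Lib.T2H4.VeryAmple

open RelProj Groth.Agent.Lib.T2H4.FinGen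

/-- a morphism carrying a relatively very ample module is separated -/
theorem isSeparated_of_isRelVeryAmple {X Y : Scheme.{u}} (f : X ⟶ Y) (L : X.Modules)
    (h : RelProj.IsRelVeryAmple f L) : IsSeparated f := by
  obtain ⟨E, hE, 𝒮, j, hsym, P, p, chart, hP, O1, lam, hO1, i, hi, hif, -⟩ := h
  haveI := hi
  haveI : IsSeparated p := Groth.Agent.Lib.Helper6.isSeparated_of_isRelProj 𝒮 p chart hP
  rw [← hif]
  infer_instance

/-- `E ⊗ K^m` is a quotient of `g^* F`, `F` quasi-coherent of finite type, for `K` relatively very ample and `m ≫ 0`. -/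
theorem exists_ft_epi_of_isRelVeryAmple {Y Z : Scheme.{u}} [CompactSpace Z] [QuasiSeparatedSpace Z]
    (g : Y ⟶ Z) [QuasiCompact g] (K : Y.Modules) (hK : PicF.IsInvertible K)
    (hKva : RelProj.IsRelVeryAmple g K) (E : Y.Modules) (hE : Coh.IsQCoh E) (hEft : CohB1.IsFT E) :
    ∃ m₀ : ℕ, ∀ m : ℕ, m₀ ≤ m →
      ∃ (F : Z.Modules) (φ : (Scheme.Modules.pullback g).obj F ⟶ CohB1.tensorMod E (CohB1.tensorPow K m)),
        Coh.IsQCoh F ∧ CohB1.IsFT F ∧ Epi φ := by
  haveI : IsSeparated g := isSeparated_of_isRelVeryAmple g K hKva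
  exact exists_ft_epi_of_isRelAmple g K hK (isRelAmple_of_isRelVeryAmple g K hKva) E hE hEft

end Groth.Agent.Lib.T2H4.VeryAmple
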