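import Mathlib
import Groth.Prelude.Def_RelProj3
import Groth.Agent.Lib.T2H4VeryAmpleC
import Groth.Agent.Lib.Helper23CounitEpi
import Groth.Agent.Lib.Helper23RestrTensor

/-!
# The counit `q^* q_* L → L` is an epimorphism for a relatively very ample `L` (helper4)
-/

set_option autoImplicit false
set_option linter.style.haveILetI false
universe u
open CategoryTheory Limits AlgebraicGeometry TopologicalSpace Opposite

namespace Groth.Agent.Lib.T2H4.VeryAmple

open Groth.Agent.Lib.Helper2.RelTildeQCoh Groth.Agent.Lib.Helper2.RelTwistGen RelProj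
  Groth.Agent.Lib.Helper2.RelTwistAmpleB Groth.Agent.Lib.Helper23.PB Groth.Agent.Lib.Helper23.AmpleIso
  Groth.Agent.Lib.Helper23.SecTw Groth.Agent.Lib.Helper23.CounitEpi Groth.Agent.Lib.Helper23.RestrTensor

variable {P S X : Scheme.{u}} {𝒮 : RelProj.QCGrAlg S} (p : P ⟶ S)
  (chart : ∀ (U : S.Opens) (hU : IsAffineOpen U), (((p ⁻¹ᵁ U : P.Opens) : Scheme.{u}) ≅ Proj (𝒮.deg U hU)))

set_option backward.isDefEq.respectTransparency.types false in
/-- pullback of a free module is free -/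
noncomputable def pullbackFreeIso' {X' X : Scheme.{u}} (f : X' ⟶ X) (I : Type u) :
    (Scheme.Modules.pullback f).obj (SheafOfModules.free (R := X.ringCatSheaf) I) ≅
      SheafOfModules.free (R := X'.ringCatSheaf) I :=
  SheafOfModules.pullbackObjFreeIso.{u} f.toRingCatSheafHom I

/-- the pullback of a globally generated module is globally generated -/
theorem isGloballyGenerated_pullback' {X' X : Scheme.{u}} (f : X' ⟶ X) (M : X.Modules)
    (h : Curv2.IsGloballyGenerated M) : Curv2.IsGloballyGenerated ((Scheme.Modules.pullback f).obj M) := by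
  obtain ⟨ι, p, hp⟩ := h
  have h1 : (Scheme.Modules.pullback f).PreservesEpimorphisms :=
    Functor.preservesEpimorphisms_of_adjunction (Scheme.Modules.pullbackPushforwardAdjunction f)
  have h2 : Epi ((Scheme.Modules.pullback f).map p) :=
    @Functor.map_epi _ _ _ _ (Scheme.Modules.pullback f) h1 _ _ p hp
  exact ⟨ι, (pullbackFreeIso' f ι).inv ≫ (Scheme.Modules.pullback f).map p,
    @epi_comp _ _ _ _ _ _ inferInstance _ h2⟩

/-- the pullback of `O_P(1)` along any morphism `i : X → P` into a relative Proj generated in degree one is generated by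
its sections over the preimage of every affine open of the base. -/
theorem isGloballyGenerated_restrict_pullback (hgen : 𝒮.IsGenDegOne) (O1 : P.Modules)
    (lam : ∀ (U : S.Opens) (hU : IsAffineOpen U),
      O1 ⟶ (Scheme.Modules.pushforward (RelProj.emb p chart U hU)).obj
        (GrTwist.twist (𝒮.deg U hU) ((1 : ℕ) : ℤ)))
    (hO1 : RelProj.IsRelTwist 𝒮 p chart ((1 : ℕ) : ℤ) O1 lam)
    (i : X ⟶ P) (V : S.Opens) (hV : IsAffineOpen V) :
    Curv2.IsGloballyGenerated (((Scheme.Modules.pullback i).obj O1).restrict (i ⁻¹ᵁ (p ⁻¹ᵁ V)).ι) := by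
  have hcov1 : ∀ y : ProjectiveSpectrum (𝒮.deg V hV), ∃ g ∈ 𝒮.deg V hV 1, g ∉ y.asHomogeneousIdeal :=
    fun y => exists_degOne_not_mem_of_gen (𝒮.deg V hV) (hgen V hV) y
  obtain ⟨XV, hXV⟩ : ∃ XV : X.Opens, XV = i ⁻¹ᵁ (p ⁻¹ᵁ V) := ⟨_, rfl⟩
  rw [← hXV]
  have hrange : Set.range (XV.ι ≫ i).base ⊆ Set.range (RelProj.emb p chart V hV).base := by
    rintro _ ⟨z, rfl⟩
    have h1 : (XV.ι ≫ i) z ∈ p ⁻¹ᵁ V := by
      have h2 : z.1 ∈ i ⁻¹ᵁ (p ⁻¹ᵁ V) := hXV ▸ z.2
      exact h2
    exact le_opensRange_emb p chart V hV h1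
  let i₀ : (XV : Scheme.{u}) ⟶ Proj (𝒮.deg V hV) :=
    IsOpenImmersion.lift (RelProj.emb p chart V hV) (XV.ι ≫ i) hrange
  have hi₀ : i₀ ≫ RelProj.emb p chart V hV = XV.ι ≫ i := IsOpenImmersion.lift_fac _ _ _
  have hgg : Curv2.IsGloballyGenerated (O1.restrict (RelProj.emb p chart V hV)) := by
    refine isGloballyGenerated_of_forall_mem_genLocus _ (fun y => ?_)
    obtain ⟨g, hg, hgy⟩ := hcov1 y
    obtain ⟨σ, hσ⟩ := exists_sec_genLocus p chart 1 O1 lam hO1 V hV hcov1 g hg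
    refine ⟨secHom _ σ, ?_⟩
    rw [hσ]
    exact (ProjectiveSpectrum.mem_basicOpen _ g y).mpr hgy
  have h1 := isGloballyGenerated_pullback' i₀ _ hgg
  exact isGloballyGenerated_of_iso (pullbackRestrictIso' i O1 XV.ι (RelProj.emb p chart V hV) i₀ hi₀).symm h1

open Groth.Agent.Lib.T2H4.RelTwistPow in
/-- **for a relatively very ample `L`, the counit `q^* q_* L → L` is an epimorphism.** -/
theorem epi_counit_of_isRelVeryAmple {X Y : Scheme.{u}} (q : X ⟶ Y) (L : X.Modules)
    (h : RelProj.IsRelVeryAmple q L) :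
    Epi ((Scheme.Modules.pullbackPushforwardAdjunction q).counit.app L) := by
  obtain ⟨E, hE, 𝒮, j, hsym, P, p, chart, hP, O1, lam, hO1, i, hi, hif, ⟨e⟩⟩ := h
  subst hif
  have hgen : 𝒮.IsGenDegOne := isGenDegOne_of_isGrSymAlg E hE 𝒮 j hsym
  obtain ⟨lam', hO1'⟩ := exists_isRelTwist_cast p chart (k := 1) (k' := ((1 : ℕ) : ℤ)) Nat.cast_one.symm
    O1 lam hO1
  apply epi_counit_of_isGloballyGenerated (i ≫ p)
  intro x
  obtain ⟨V, hV, hxV, -⟩ := Opens.isBasis_iff_nbhd.1 Y.isBasis_affineOpens (Opens.mem_top ((i ≫ p) x))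
  refine ⟨V, hxV, ?_⟩
  have h1 := isGloballyGenerated_restrict_pullback p chart hgen O1 lam' hO1' i V hV
  exact isGloballyGenerated_of_iso ((Scheme.Modules.restrictFunctor ((i ≫ p) ⁻¹ᵁ V).ι).mapIso e.symm) h1

end Groth.Agent.Lib.T2H4.VeryAmple
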