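import Mathlib
import Groth.Prelude.Def_CurvBase

/-!
# Sections of a base change to a field extension over the preimage of an affine open (T2 helper4)

For a `k`-scheme `X`, a field extension `K/k` and an affine open `U` of `X`, the preimage `V` of `U`
in `X_K` is affine and `Γ(X_K, V) = Γ(X, U) ⊗_k K` (pushout square of commutative rings).
-/
set_option autoImplicit false
universe u
open CategoryTheory CategoryTheory.Limits AlgebraicGeometry TopologicalSpace

namespace Groth.Agent.Lib.T2H4.WeakAssBCField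

variable (k : Type u) [Field k] (K : Type u) [Field K] [Algebra k K] (X : Scheme.{u})
  [X.Over (Spec (CommRingCat.of k))]

/-- the structure map `k → Γ(X, U)`. -/
noncomputable def kToSec (U : X.Opens) : k →+* Γ(X, U) :=
  ((Scheme.ΓSpecIso (CommRingCat.of k)).inv ≫
    (X ↘ Spec (CommRingCat.of k)).appLE ⊤ U le_top).hom

/-- the structure map `K → Γ(X_K, V)`. -/
noncomputable def KToSec (V : (Curv2.bc k X K).Opens) : K →+* Γ(Curv2.bc k X K, V) :=
  ((Scheme.ΓSpecIso (CommRingCat.of K)).inv ≫ (Curv2.bcSnd k X K).appLE ⊤ V le_top).hom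

instance isAffineHom_bcFst : IsAffineHom (Curv2.bcFst k X K) :=
  MorphismProperty.pullback_fst _ _ inferInstance

theorem isAffineOpen_preimage {U : X.Opens} (hU : IsAffineOpen U) :
    IsAffineOpen ((Curv2.bcFst k X K) ⁻¹ᵁ U) :=
  hU.preimage (Curv2.bcFst k X K)

theorem isPushout_sections {U : X.Opens} (hU : IsAffineOpen U) :
    IsPushout (CommRingCat.ofHom (kToSec k X U)) (CommRingCat.ofHom (algebraMap k K))
      ((Curv2.bcFst k X K).app U)
      (CommRingCat.ofHom (KToSec k K X ((Curv2.bcFst k X K) ⁻¹ᵁ U))) := by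
  let iX := X ↘ Spec (CommRingCat.of k)
  let f₀ := Spec.map (CommRingCat.ofHom (algebraMap k K))
  have H : IsPullback (Curv2.bcFst k X K) (Curv2.bcSnd k X K) iX f₀ := IsPullback.of_hasPullback iX f₀
  have hUST : (⊤ : (Spec (CommRingCat.of K)).Opens) ≤ f₀ ⁻¹ᵁ ⊤ := le_top
  have hUSX : U ≤ iX ⁻¹ᵁ ⊤ := le_top
  have hUY : (Curv2.bcFst k X K) ⁻¹ᵁ U =
      (Curv2.bcFst k X K) ⁻¹ᵁ U ⊓ (Curv2.bcSnd k X K) ⁻¹ᵁ ⊤ := by simp
  haveI := isIso_pushoutSection_of_isAffineOpen H hUST hUSX hUY (isAffineOpen_top _)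
    (isAffineOpen_top _) hU
  have hpush := (isIso_pushoutSection_iff H hUST hUSX hUY).1 this
  refine hpush.of_iso (Scheme.ΓSpecIso (CommRingCat.of k)) (Iso.refl _)
    (Scheme.ΓSpecIso (CommRingCat.of K)) (Iso.refl _) ?_ ?_ ?_ ?_
  · simp [kToSec, iX]
  · have := Scheme.ΓSpecIso_naturality (CommRingCat.ofHom (algebraMap k K))
    rw [← this]
    congr 1
  · simp [Scheme.Hom.appLE]
  · simp [KToSec]

end Groth.Agent.Lib.T2H4.WeakAssBCField
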