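import Mathlib
import Groth.Prelude.Def_FlatCA
import Groth.Agent.Lib.Helper13WeakAss
import Groth.Agent.Lib.T2H2WeakAssLoc

/-!
# Weakly associated primes: from stalks back to sections (T2 helper4)

Abstract form of: for a morphism `pr : Y → X`, affine opens `U ⊆ X`, `V = pr⁻¹ U`, a point `y ∈ V` over
`x`, and a quasi-coherent `F`, a prime of `O_y` weakly associated to `O_y ⊗_{O_x} F_x` contracts to a
prime of `Γ(V)` weakly associated to `Γ(V) ⊗_{Γ(U)} Γ(U, F)`.
-/
set_option autoImplicit false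
universe u

namespace Groth.Agent.Lib.T2H4.WeakAssBCField

open TensorProduct

theorem comap_mem_weakAss_tensor_of_localizations {A B Ox Oy : Type u} [CommRing A] [CommRing B]
    [CommRing Ox] [CommRing Oy] [Algebra A B] [Algebra A Ox] [Algebra B Oy] [Algebra Ox Oy]
    [Algebra A Oy] [IsScalarTower A Ox Oy] [IsScalarTower A B Oy] (Sx : Submonoid A)
    [IsLocalization Sx Ox] (Sy : Submonoid B) [IsLocalization Sy Oy] {M Fx : Type u}
    [AddCommGroup M] [Module A M] [AddCommGroup Fx] [Module Ox Fx] [Module A Fx]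
    [IsScalarTower A Ox Fx] (γ : M →ₗ[A] Fx) [IsLocalizedModule Sx γ] (Q : Ideal Oy) [Q.IsPrime]
    (hQ : Q ∈ FlatCA.weakAss Oy (Oy ⊗[Ox] Fx)) :
    Q.comap (algebraMap B Oy) ∈ FlatCA.weakAss B (B ⊗[A] M) := by
  have hγ : IsBaseChange Ox γ := IsLocalizedModule.isBaseChange Sx Ox γ
  have hmk : IsBaseChange Oy (TensorProduct.mk Ox Oy Fx 1) := TensorProduct.isBaseChange Ox Fx Oy
  have hcomp : IsBaseChange Oy (((TensorProduct.mk Ox Oy Fx 1).restrictScalars A).comp γ) :=
    IsBaseChange.comp hγ hmk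
  let j : B ⊗[A] M →ₗ[B] Oy ⊗[Ox] Fx :=
    (TensorProduct.isBaseChange A M B).lift
      (((TensorProduct.mk Ox Oy Fx 1).restrictScalars A).comp γ)
  have hj : IsBaseChange Oy j := by
    refine IsBaseChange.of_comp (TensorProduct.isBaseChange A M B) ?_
    rw [IsBaseChange.lift_comp]
    exact hcomp
  haveI : IsLocalizedModule Sy j := (isLocalizedModule_iff_isBaseChange Sy Oy j).2 hj
  exact (Groth.Agent.Lib.T2H2.WeakAssLoc.mem_weakAss_iff_comap Sy j Q).1 hQ

/-- a maximal ideal equal to the radical of an annihilator is weakly associated. -/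
theorem mem_weakAss_of_radical_eq {O N : Type u} [CommRing O] [AddCommGroup N] [Module O N]
    (P : Ideal O) [hP : P.IsPrime] (n : N)
    (h : Ideal.radical (LinearMap.ker (LinearMap.toSpanSingleton O N n)) = P) :
    P ∈ FlatCA.weakAss O N := by
  refine ⟨n, ⟨hP, ?_⟩, ?_⟩
  · intro a ha
    rw [← h]
    apply Ideal.le_radical
    rw [Submodule.mem_annihilator_span_singleton] at ha
    simpa [LinearMap.mem_ker, LinearMap.toSpanSingleton_apply] using ha
  · rintro Q' ⟨hQ', hle⟩ -
    rw [← h]
    rw [hQ'.radical_le_iff]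
    intro a ha
    apply hle
    rw [Submodule.mem_annihilator_span_singleton]
    simpa [LinearMap.mem_ker, LinearMap.toSpanSingleton_apply] using ha

end Groth.Agent.Lib.T2H4.WeakAssBCField
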