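import Mathlib
import Groth.Prelude.Def_CurvBase
import Groth.Prelude.Def_Coh
import Groth.Agent.Lib.Helper1Sky3
import Groth.Agent.Lib.Helper2Ass
import Groth.Agent.Lib.Helper2FlatOver
import Groth.Agent.Lib.T2H2WeakAssLoc
import Groth.Agent.Lib.T1H4WeakAssFieldC
import Groth.Agent.Lib.T2H4WeakAssBCFieldA
import Groth.Agent.Lib.T2H4WeakAssBCFieldB

/-!
# Weakly associated points and base change of the ground field (T2 helper4)

Stacks 0CUC (scheme form of 0CUB): for a `k`-scheme `X`, a quasi-coherent module `F` and a field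
extension `K/k`, a point of `X_K` weakly associated to the pullback of `F` maps to a point of `X`
weakly associated to `F`.
-/
set_option autoImplicit false
universe u
open CategoryTheory CategoryTheory.Limits AlgebraicGeometry TopologicalSpace

namespace Groth.Agent.Lib.T2H4.WeakAssBCField

open TensorProduct Groth.Agent.Lib.Helper1.Sky Groth.Agent.Lib.Helper1.StalkTensor
  Groth.Agent.Lib.Helper2.QCoh Groth.Agent.Lib.Helper2.Ass Groth.Agent.Lib.Helper2.FlatOver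
  Groth.Agent.Lib.T1H4.WeakAssField

theorem main (k : Type u) [Field k] (K : Type u) [Field K] [Algebra k K] (X : Scheme.{u})
    [X.Over (Spec (CommRingCat.of k))] (F : X.Modules) (hF : Coh.IsQCoh F)
    (y : ↥(Curv2.bc k X K))
    (hy : Curv2.IsWeakAssPoint ((Scheme.Modules.pullback (Curv2.bcFst k X K)).obj F) y) :
    Curv2.IsWeakAssPoint F (Curv2.bcFst k X K y) := by
  haveI : F.IsQuasicoherent := hF
  obtain ⟨U, hU, hxU, -⟩ := (Opens.isBasis_iff_nbhd.1 X.isBasis_affineOpens)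
    (show Curv2.bcFst k X K y ∈ (⊤ : X.Opens) from trivial)
  have hU' : IsAffineOpen U := hU
  have hV : IsAffineOpen ((Curv2.bcFst k X K) ⁻¹ᵁ U) := isAffineOpen_preimage k K X hU'
  have hyV : y ∈ (Curv2.bcFst k X K) ⁻¹ᵁ U := hxU
  -- algebra structures on sections
  letI algkA : Algebra k Γ(X, U) := (kToSec k X U).toAlgebra
  letI algKB : Algebra K Γ(Curv2.bc k X K, (Curv2.bcFst k X K) ⁻¹ᵁ U) :=
    (KToSec k K X ((Curv2.bcFst k X K) ⁻¹ᵁ U)).toAlgebra
  letI algAB : Algebra Γ(X, U) Γ(Curv2.bc k X K, (Curv2.bcFst k X K) ⁻¹ᵁ U) :=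
    ((Curv2.bcFst k X K).app U).hom.toAlgebra
  letI algkB : Algebra k Γ(Curv2.bc k X K, (Curv2.bcFst k X K) ⁻¹ᵁ U) :=
    ((algebraMap Γ(X, U) Γ(Curv2.bc k X K, (Curv2.bcFst k X K) ⁻¹ᵁ U)).comp
      (algebraMap k Γ(X, U))).toAlgebra
  haveI : IsScalarTower k Γ(X, U) Γ(Curv2.bc k X K, (Curv2.bcFst k X K) ⁻¹ᵁ U) :=
    IsScalarTower.of_algebraMap_eq (fun _ => rfl)
  have hsq := isPushout_sections k K X hU'
  haveI : IsScalarTower k K Γ(Curv2.bc k X K, (Curv2.bcFst k X K) ⁻¹ᵁ U) :=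
    IsScalarTower.of_algebraMap_eq (fun c => by
      have := congrArg (fun φ => φ.hom c) hsq.w
      exact this)
  have hpo' : Algebra.IsPushout k Γ(X, U) K Γ(Curv2.bc k X K, (Curv2.bcFst k X K) ⁻¹ᵁ U) :=
    (CommRingCat.isPushout_iff_isPushout (R := k) (R' := Γ(X, U)) (S := K)
      (S' := Γ(Curv2.bc k X K, (Curv2.bcFst k X K) ⁻¹ᵁ U))).1 hsq
  haveI hpo : Algebra.IsPushout k K Γ(X, U) Γ(Curv2.bc k X K, (Curv2.bcFst k X K) ⁻¹ᵁ U) :=
    hpo'.symm
  -- algebra structures on stalks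
  letI algAOx : Algebra Γ(X, U) (X.presheaf.stalk (Curv2.bcFst k X K y)) :=
    TopCat.Presheaf.algebra_section_stalk X.presheaf (⟨Curv2.bcFst k X K y, hxU⟩ : U)
  haveI locx : IsLocalization.AtPrime (X.presheaf.stalk (Curv2.bcFst k X K y))
      (hU'.primeIdealOf ⟨Curv2.bcFst k X K y, hxU⟩).asIdeal :=
    hU'.isLocalization_stalk ⟨Curv2.bcFst k X K y, hxU⟩
  letI algBOy : Algebra Γ(Curv2.bc k X K, (Curv2.bcFst k X K) ⁻¹ᵁ U)
      ((Curv2.bc k X K).presheaf.stalk y) :=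
    TopCat.Presheaf.algebra_section_stalk (Curv2.bc k X K).presheaf
      (⟨y, hyV⟩ : ((Curv2.bcFst k X K) ⁻¹ᵁ U : (Curv2.bc k X K).Opens))
  haveI locy : IsLocalization.AtPrime ((Curv2.bc k X K).presheaf.stalk y)
      (hV.primeIdealOf ⟨y, hyV⟩).asIdeal := hV.isLocalization_stalk ⟨y, hyV⟩
  letI algOxOy : Algebra (X.presheaf.stalk (Curv2.bcFst k X K y))
      ((Curv2.bc k X K).presheaf.stalk y) := ((Curv2.bcFst k X K).stalkMap y).hom.toAlgebra
  letI algAOy : Algebra Γ(X, U) ((Curv2.bc k X K).presheaf.stalk y) :=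
    ((algebraMap (X.presheaf.stalk (Curv2.bcFst k X K y)) ((Curv2.bc k X K).presheaf.stalk y)).comp
      (algebraMap Γ(X, U) (X.presheaf.stalk (Curv2.bcFst k X K y)))).toAlgebra
  haveI : IsScalarTower Γ(X, U) (X.presheaf.stalk (Curv2.bcFst k X K y))
      ((Curv2.bc k X K).presheaf.stalk y) := IsScalarTower.of_algebraMap_eq (fun _ => rfl)
  haveI : IsScalarTower Γ(X, U) Γ(Curv2.bc k X K, (Curv2.bcFst k X K) ⁻¹ᵁ U)
      ((Curv2.bc k X K).presheaf.stalk y) := IsScalarTower.of_algebraMap_eq (fun a => by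
    change ((Curv2.bcFst k X K).stalkMap y).hom
        (X.presheaf.germ U (Curv2.bcFst k X K y) hxU a) =
      (Curv2.bc k X K).presheaf.germ ((Curv2.bcFst k X K) ⁻¹ᵁ U) y hyV
        (((Curv2.bcFst k X K).app U).hom a)
    exact Scheme.Hom.germ_stalkMap_apply (Curv2.bcFst k X K) U y hxU a)
  -- the stalk of `F`
  letI modAFx : Module Γ(X, U) (F.presheaf.stalk (Curv2.bcFst k X K y)) :=
    moduleStalkSections F U (Curv2.bcFst k X K y) hxU
  haveI : IsScalarTower Γ(X, U) (X.presheaf.stalk (Curv2.bcFst k X K y))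
      (F.presheaf.stalk (Curv2.bcFst k X K y)) := ⟨fun a b m => by
    change (algebraMap Γ(X, U) (X.presheaf.stalk (Curv2.bcFst k X K y)) a * b) • m =
      X.presheaf.germ U (Curv2.bcFst k X K y) hxU a • (b • m)
    rw [mul_smul]
    rfl⟩
  haveI hlocF : IsLocalizedModule (hU'.primeIdealOf ⟨Curv2.bcFst k X K y, hxU⟩).asIdeal.primeCompl
      (germₗ F U (Curv2.bcFst k X K y) hxU) := isLocalizedModule_germ hU' F _ hxU
  -- the weakly associated prime upstairs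
  obtain ⟨m', hm'⟩ := hy
  let e : ((stalkFun y).obj ((Scheme.Modules.pullback (Curv2.bcFst k X K)).obj F)) ≃ₗ[Ox y]
      (Ox y) ⊗[Ox (Curv2.bcFst k X K y)] ((stalkFun (Curv2.bcFst k X K y)).obj F) :=
    ((stalkPullbackIso (Curv2.bcFst k X K) y).app F).toLinearEquiv
  have h1 : IsLocalRing.maximalIdeal ((Curv2.bc k X K).presheaf.stalk y) ∈
      FlatCA.weakAss (Ox y) ((stalkFun y).obj ((Scheme.Modules.pullback (Curv2.bcFst k X K)).obj F)) :=
    mem_weakAss_of_radical_eq _ m' hm'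
  have hQ : IsLocalRing.maximalIdeal ((Curv2.bc k X K).presheaf.stalk y) ∈
      FlatCA.weakAss (Ox y)
        ((Ox y) ⊗[Ox (Curv2.bcFst k X K y)] ((stalkFun (Curv2.bcFst k X K y)).obj F)) :=
    weakAss_congr e h1
  have key := comap_mem_weakAss_tensor_of_localizations (A := Γ(X, U))
    (B := Γ(Curv2.bc k X K, (Curv2.bcFst k X K) ⁻¹ᵁ U))
    (Ox := X.presheaf.stalk (Curv2.bcFst k X K y)) (Oy := (Curv2.bc k X K).presheaf.stalk y)
    (hU'.primeIdealOf ⟨Curv2.bcFst k X K y, hxU⟩).asIdeal.primeCompl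
    (hV.primeIdealOf ⟨y, hyV⟩).asIdeal.primeCompl
    (germₗ F U (Curv2.bcFst k X K y) hxU)
    (IsLocalRing.maximalIdeal ((Curv2.bc k X K).presheaf.stalk y)) hQ
  have hq : (IsLocalRing.maximalIdeal ((Curv2.bc k X K).presheaf.stalk y)).comap
      (algebraMap Γ(Curv2.bc k X K, (Curv2.bcFst k X K) ⁻¹ᵁ U)
        ((Curv2.bc k X K).presheaf.stalk y)) = (hV.primeIdealOf ⟨y, hyV⟩).asIdeal :=
    IsLocalization.AtPrime.under_maximalIdeal _ _
  rw [hq] at key
  have h5 := desc_all k K Γ(X, U) Γ(Curv2.bc k X K, (Curv2.bcFst k X K) ⁻¹ᵁ U) Γ(F, U)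
    (Γ(Curv2.bc k X K, (Curv2.bcFst k X K) ⁻¹ᵁ U) ⊗[Γ(X, U)] Γ(F, U))
    (TensorProduct.mk Γ(X, U) Γ(Curv2.bc k X K, (Curv2.bcFst k X K) ⁻¹ᵁ U) Γ(F, U) 1)
    (TensorProduct.isBaseChange Γ(X, U) Γ(F, U) Γ(Curv2.bc k X K, (Curv2.bcFst k X K) ⁻¹ᵁ U))
    (hV.primeIdealOf ⟨y, hyV⟩).asIdeal key
  have h6 : (hV.primeIdealOf ⟨y, hyV⟩).asIdeal.comap
      (algebraMap Γ(X, U) Γ(Curv2.bc k X K, (Curv2.bcFst k X K) ⁻¹ᵁ U)) =
      (hU'.primeIdealOf ⟨Curv2.bcFst k X K y, hxU⟩).asIdeal := by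
    ext a
    rw [Ideal.mem_comap, ← germ_mem_maximalIdeal_iff hV y hyV,
      ← germ_mem_maximalIdeal_iff hU' (Curv2.bcFst k X K y) hxU]
    have h := Scheme.Hom.germ_stalkMap_apply (Curv2.bcFst k X K) U y hxU a
    change (Curv2.bc k X K).presheaf.germ ((Curv2.bcFst k X K) ⁻¹ᵁ U) y hyV
      (((Curv2.bcFst k X K).app U).hom a) ∈ _ ↔ _
    rw [← h, IsLocalRing.mem_maximalIdeal, IsLocalRing.mem_maximalIdeal, mem_nonunits_iff,
      mem_nonunits_iff, isUnit_map_iff]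
  rw [h6] at h5
  obtain ⟨m, hm⟩ := h5
  have hann : ann F m = (Submodule.span Γ(X, U) {m}).annihilator := by
    ext a
    rw [mem_ann, Submodule.mem_annihilator_span_singleton]
  have h7 := isWeakAssPoint_fromSpec_of_minimalPrimes hU' F m
    (hU'.primeIdealOf ⟨Curv2.bcFst k X K y, hxU⟩) (by rw [hann]; exact hm)
  rwa [hU'.fromSpec_primeIdealOf ⟨Curv2.bcFst k X K y, hxU⟩] at h7

end Groth.Agent.Lib.T2H4.WeakAssBCField
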