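import Mathlib.LinearAlgebra.ExteriorAlgebra.OfAlternating
import Mathlib.LinearAlgebra.Matrix.Determinant.Basic
import Mathlib.GroupTheory.Perm.Fin
import Mathlib.Algebra.CharZero.Defs
import Mathlib.Tactic.NoncommRing

/-! Exterior-algebra computation for the cycle space of K₄ (S19221). -/

set_option autoImplicit false
universe u

namespace Groth.Agent.Lib.T2H4.Wedge

open Equiv

/-- Integer model of the cycle vectors. -/
def zc (c : Fin 2) (i j l : Fin 4) (c' : Fin 2) (a b : Fin 4) : ℤ :=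
  if c' = c then
        ((if a = i ∧ b = j then 1 else 0) + (if a = j ∧ b = l then 1 else 0) + (if a = l ∧ b = i then 1 else 0)
          - (if a = j ∧ b = i then 1 else 0) - (if a = l ∧ b = j then 1 else 0) - (if a = i ∧ b = l then 1 else 0))
      else 0

/-- Integer determinant attached to a permutation. -/
def G (σ : Perm (Fin 4)) : ℤ :=
  Matrix.det (Matrix.of fun i j =>
    (![zc 0 (σ 0) (σ 1) (σ 2), zc 1 (σ 0) (σ 1) (σ 2), zc 0 (σ 0) (σ 2) (σ 3), zc 1 (σ 0) (σ 2) (σ 3)] i)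
      (![0, 0, 1, 1] j) (![1, 2, 1, 2] j) (![2, 3, 2, 3] j))

set_option maxRecDepth 100000 in
theorem sum_G : ∑ σ : Perm (Fin 4), G σ = -12 := by decide +kernel

variable (k : Type u) [Field k]

abbrev V := Fin 2 → Fin 4 → Fin 4 → k

/-- The four coordinate functionals. -/
def phi : V k →ₗ[k] (Fin 4 → k) where
  toFun v := fun j => v (![0, 0, 1, 1] j) (![1, 2, 1, 2] j) (![2, 3, 2, 3] j)
  map_add' _ _ := rfl
  map_smul' _ _ := rfl

/-- The alternating 4-form. -/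
noncomputable def D : (V k) [⋀^Fin 4]→ₗ[k] k :=
  (Matrix.detRowAlternating (n := Fin 4) (R := k)).compLinearMap (phi k)

noncomputable def fam : ∀ n : ℕ, (V k) [⋀^Fin n]→ₗ[k] k
  | 4 => D k
  | _ => 0

noncomputable def L : ExteriorAlgebra k (V k) →ₗ[k] k :=
  ExteriorAlgebra.liftAlternating (fam k)

theorem prod_eq_ιMulti (v0 v1 v2 v3 : V k) :
    ExteriorAlgebra.ι k v0 * ExteriorAlgebra.ι k v1 * ExteriorAlgebra.ι k v2 * ExteriorAlgebra.ι k v3
      = ExteriorAlgebra.ιMulti k 4 ![v0, v1, v2, v3] := by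
  simp [ExteriorAlgebra.ιMulti_apply, mul_assoc]

theorem L_prod (v0 v1 v2 v3 : V k) :
    L k (ExteriorAlgebra.ι k v0 * ExteriorAlgebra.ι k v1 * ExteriorAlgebra.ι k v2 * ExteriorAlgebra.ι k v3)
      = Matrix.det (Matrix.of fun i j => (![v0, v1, v2, v3] i)
          (![0, 0, 1, 1] j) (![1, 2, 1, 2] j) (![2, 3, 2, 3] j)) := by
  rw [prod_eq_ιMulti, L, ExteriorAlgebra.liftAlternating_apply_ιMulti]
  rfl


theorem zc_swap : ∀ (c : Fin 2) (i j l : Fin 4) (c' : Fin 2) (a b : Fin 4),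
    zc c j i l c' a b = - zc c i j l c' a b := by decide +kernel

theorem zc_rot : ∀ (c : Fin 2) (i j l : Fin 4) (c' : Fin 2) (a b : Fin 4),
    zc c j l i c' a b = zc c i j l c' a b := by decide +kernel

theorem swap_pairs {E : Type*} [Ring E] (a0 a1 b0 b1 : E) (h00 : b0 * a0 = -(a0 * b0))
    (h01 : b0 * a1 = -(a1 * b0)) (h10 : b1 * a0 = -(a0 * b1)) (h11 : b1 * a1 = -(a1 * b1)) :
    b0 * b1 * a0 * a1 = a0 * a1 * b0 * b1 := by
  calc b0 * b1 * a0 * a1 = b0 * (b1 * a0) * a1 := by noncomm_ring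
    _ = -((b0 * a0) * (b1 * a1)) := by rw [h10]; noncomm_ring
    _ = -((-(a0 * b0)) * (-(a1 * b1))) := by rw [h00, h11]
    _ = -(a0 * (b0 * a1) * b1) := by noncomm_ring
    _ = -(a0 * (-(a1 * b0)) * b1) := by rw [h01]
    _ = a0 * a1 * b0 * b1 := by noncomm_ring

section main

variable {k}
variable (P : Perm (Fin 4) → (V k →ₗ[k] V k))
  (hP : ∀ (σ : Perm (Fin 4)) (f : V k) (c : Fin 2) (a b : Fin 4),
      P σ f c a b = f c (σ.symm a) (σ.symm b))
  (z : Fin 2 → Fin 4 → Fin 4 → Fin 4 → V k)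
  (hz : ∀ (c : Fin 2) (i j l : Fin 4) (c' : Fin 2) (a b : Fin 4), z c i j l c' a b =
      if c' = c then
        ((if a = i ∧ b = j then 1 else 0) + (if a = j ∧ b = l then 1 else 0) + (if a = l ∧ b = i then 1 else 0)
          - (if a = j ∧ b = i then 1 else 0) - (if a = l ∧ b = j then 1 else 0) - (if a = i ∧ b = l then 1 else 0))
      else 0)

include hz in
theorem z_eq_cast (c : Fin 2) (i j l : Fin 4) (c' : Fin 2) (a b : Fin 4) :
    z c i j l c' a b = ((zc c i j l c' a b : ℤ) : k) := by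
  rw [hz, zc]
  push_cast
  rfl

include hz in
theorem z_swap (c : Fin 2) (i j l : Fin 4) : z c j i l = - z c i j l := by
  funext c' a b
  simp only [Pi.neg_apply]
  rw [z_eq_cast z hz, z_eq_cast z hz, zc_swap]
  push_cast
  rfl

include hz in
theorem z_rot (c : Fin 2) (i j l : Fin 4) : z c j l i = z c i j l := by
  funext c' a b
  rw [z_eq_cast z hz, z_eq_cast z hz, zc_rot]

include hP hz in
theorem P_z (σ : Perm (Fin 4)) (c : Fin 2) (i j l : Fin 4) :
    P σ (z c i j l) = z c (σ i) (σ j) (σ l) := by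
  funext c' a b
  rw [hP, hz, hz]
  simp only [Equiv.symm_apply_eq]


theorem ι_anti (x y : V k) :
    ExteriorAlgebra.ι k x * ExteriorAlgebra.ι k y = -(ExteriorAlgebra.ι k y * ExteriorAlgebra.ι k x) :=
  eq_neg_of_add_eq_zero_left (ExteriorAlgebra.ι_add_mul_swap x y)

/-- The image of `ω` under `σ`. -/
theorem map_ω (σ : Perm (Fin 4)) (i0 i1 i2 i3 : Fin 4) :
    ExteriorAlgebra.map (P σ) (ExteriorAlgebra.ι k (z 0 i0 i1 i2) * ExteriorAlgebra.ι k (z 1 i0 i1 i2) *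
      ExteriorAlgebra.ι k (z 0 i0 i2 i3) * ExteriorAlgebra.ι k (z 1 i0 i2 i3)) =
    ExteriorAlgebra.ι k (P σ (z 0 i0 i1 i2)) * ExteriorAlgebra.ι k (P σ (z 1 i0 i1 i2)) *
      ExteriorAlgebra.ι k (P σ (z 0 i0 i2 i3)) * ExteriorAlgebra.ι k (P σ (z 1 i0 i2 i3)) := by
  simp only [map_mul, ExteriorAlgebra.map_apply_ι]

include hP hz in
theorem part1 :
    ExteriorAlgebra.map (P (Equiv.swap 0 2)) (ExteriorAlgebra.ι k (z 0 0 1 2) * ExteriorAlgebra.ι k (z 1 0 1 2) *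
      ExteriorAlgebra.ι k (z 0 0 2 3) * ExteriorAlgebra.ι k (z 1 0 2 3)) =
    ExteriorAlgebra.ι k (z 0 0 1 2) * ExteriorAlgebra.ι k (z 1 0 1 2) *
      ExteriorAlgebra.ι k (z 0 0 2 3) * ExteriorAlgebra.ι k (z 1 0 2 3) := by
  rw [map_ω]
  simp only [P_z P hP z hz]
  have e0 : (Equiv.swap (0 : Fin 4) 2) 0 = 2 := by decide
  have e1 : (Equiv.swap (0 : Fin 4) 2) 1 = 1 := by decide
  have e2 : (Equiv.swap (0 : Fin 4) 2) 2 = 0 := by decide
  have e3 : (Equiv.swap (0 : Fin 4) 2) 3 = 3 := by decide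
  rw [e0, e1, e2, e3]
  have h1 : ∀ c, z c 2 1 0 = - z c 0 1 2 := fun c => by
    rw [z_swap z hz c 1 2 0, z_rot z hz c 0 1 2]
  have h2 : ∀ c, z c 2 0 3 = - z c 0 2 3 := fun c => z_swap z hz c 0 2 3
  rw [h1, h1, h2, h2]
  simp only [map_neg, neg_mul, mul_neg, neg_neg]

include hP hz in
theorem part2 :
    ExteriorAlgebra.map (P (Equiv.swap 1 3)) (ExteriorAlgebra.ι k (z 0 0 1 2) * ExteriorAlgebra.ι k (z 1 0 1 2) *
      ExteriorAlgebra.ι k (z 0 0 2 3) * ExteriorAlgebra.ι k (z 1 0 2 3)) =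
    ExteriorAlgebra.ι k (z 0 0 1 2) * ExteriorAlgebra.ι k (z 1 0 1 2) *
      ExteriorAlgebra.ι k (z 0 0 2 3) * ExteriorAlgebra.ι k (z 1 0 2 3) := by
  rw [map_ω]
  simp only [P_z P hP z hz]
  have e0 : (Equiv.swap (1 : Fin 4) 3) 0 = 0 := by decide
  have e1 : (Equiv.swap (1 : Fin 4) 3) 1 = 3 := by decide
  have e2 : (Equiv.swap (1 : Fin 4) 3) 2 = 2 := by decide
  have e3 : (Equiv.swap (1 : Fin 4) 3) 3 = 1 := by decide
  rw [e0, e1, e2, e3]
  have h1 : ∀ c, z c 0 3 2 = - z c 0 2 3 := fun c => by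
    rw [z_swap z hz c 3 0 2, z_rot z hz c 2 3 0, z_rot z hz c 0 2 3]
  have h2 : ∀ c, z c 0 2 1 = - z c 0 1 2 := fun c => by
    rw [z_swap z hz c 2 0 1, z_rot z hz c 1 2 0, z_rot z hz c 0 1 2]
  rw [h1, h1, h2, h2]
  simp only [map_neg, neg_mul, mul_neg, neg_neg]
  exact swap_pairs _ _ _ _ (ι_anti _ _) (ι_anti _ _) (ι_anti _ _) (ι_anti _ _)

include hP hz in
theorem L_map (σ : Perm (Fin 4)) :
    L k (ExteriorAlgebra.map (P σ) (ExteriorAlgebra.ι k (z 0 0 1 2) * ExteriorAlgebra.ι k (z 1 0 1 2) *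
      ExteriorAlgebra.ι k (z 0 0 2 3) * ExteriorAlgebra.ι k (z 1 0 2 3))) = ((G σ : ℤ) : k) := by
  rw [map_ω]
  simp only [P_z P hP z hz]
  rw [L_prod, G, Int.cast_det]
  congr 1
  ext i j
  fin_cases i <;> simp [z_eq_cast z hz]

include hP hz in
theorem part3 [CharZero k] :
    (∑ σ : Perm (Fin 4), ExteriorAlgebra.map (P σ) (ExteriorAlgebra.ι k (z 0 0 1 2) *
      ExteriorAlgebra.ι k (z 1 0 1 2) *
      ExteriorAlgebra.ι k (z 0 0 2 3) * ExteriorAlgebra.ι k (z 1 0 2 3))) ≠ 0 := by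
  intro h
  have h2 := congrArg (L k) h
  rw [map_sum, map_zero] at h2
  simp only [L_map P hP z hz] at h2
  rw [← Int.cast_sum, sum_G] at h2
  norm_num at h2

end main

end Groth.Agent.Lib.T2H4.Wedge
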