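import Mathlib
import Groth.Prelude.Def_C1
import Groth.Prelude.Def_Cyc
import Groth.Agent.Lib.T2H4ZeroSecCap
import Groth.Agent.Lib.T2H4GysinSelf
import Groth.Agent.Lib.T2H4C1CapRat
import Groth.Agent.Lib.T2H4ClosedImmCyc
import Groth.Agent.Lib.Helper4VarDim2
set_option backward.isDefEq.respectTransparency.types false

/-!
# `c_1(L) ∩ [Y]_{k+1} ∼ ι_*[Z(s)]_k` (helper4)

Namespace `Groth.Agent.Lib.T2H4.ZeroSecPush`.

* `exists_nhds_finite_maximal`: the maximal points of a locally Noetherian scheme are locally finite;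
* `subschemeCycle`: `[Y]_k` as a cycle on `X` for a closed subscheme `Y` of `δ`-dimension `≤ k`;
* `exists_pullStalk_eq`: `L_{f y} → (f^*L)_y` is surjective when the stalk map of `f` is;
* `main`: the theorem.
-/

set_option autoImplicit false
set_option linter.style.haveILetI false
universe u
open CategoryTheory AlgebraicGeometry TopologicalSpace

namespace Groth.Agent.Lib.T2H4.ZeroSecPush

open Groth.Agent.Lib.T2H4.SecOrdGen Groth.Agent.Lib.T2H4.PullStalk Groth.Agent.Lib.T2H4.GysinSelf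
  Groth.Agent.Lib.T2H4.ClosedImmCyc Groth.Agent.Lib.Helper4.VarDim

section Top

variable {Y : Scheme.{u}}

/-- the maximal points of a locally Noetherian scheme form a locally finite set -/
theorem exists_nhds_finite_maximal [IsLocallyNoetherian Y] (y : Y) :
    ∃ V : Y.Opens, y ∈ V ∧ {η : Y | η ∈ V ∧ ∀ η' : Y, η' ⤳ η → η' = η}.Finite := by
  obtain ⟨V, hV, hyV, -⟩ := exists_isAffineOpen_mem_and_subset (U := ⊤) (x := y) (by simp)
  haveI : IsNoetherianRing Γ(Y, V) := IsLocallyNoetherian.component_noetherian ⟨V, hV⟩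
  refine ⟨V, hyV, ?_⟩
  have hfin : {q : PrimeSpectrum Γ(Y, V) | q.asIdeal ∈ minimalPrimes Γ(Y, V)}.Finite := by
    refine Set.Finite.preimage ?_ (minimalPrimes.finite_of_isNoetherianRing Γ(Y, V))
    intro p _ q _ h
    exact PrimeSpectrum.ext h
  refine (hfin.image hV.fromSpec).subset ?_
  rintro η ⟨hηV, hmax⟩
  refine ⟨hV.primeIdealOf ⟨η, hηV⟩, ?_, hV.fromSpec_primeIdealOf ⟨η, hηV⟩⟩
  refine ⟨⟨(hV.primeIdealOf ⟨η, hηV⟩).2, bot_le⟩, fun Q hQ hQq => ?_⟩
  have hQV := fromSpec_mem hV ⟨Q, hQ.1⟩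
  have h1 : hV.fromSpec ⟨Q, hQ.1⟩ ⤳ η := by
    rw [← primeIdealOf_le_iff hV _ _ hQV hηV, primeIdealOf_fromSpec hV _ hQV]
    exact hQq
  have h2 := hmax _ h1
  have h3 : (⟨Q, hQ.1⟩ : PrimeSpectrum Γ(Y, V)) = hV.primeIdealOf ⟨η, hηV⟩ := by
    rw [← primeIdealOf_fromSpec hV ⟨Q, hQ.1⟩ hQV]
    congr 1
    exact Subtype.ext h2
  rw [← h3]

end Top

section Cycle

variable {X Y : Scheme.{u}} (ι : Y ⟶ X) [IsClosedImmersion ι] (δ : X → ℤ)

omit [IsClosedImmersion ι] in
theorem subschemeFun_of_notMem_range (k : ℤ) (x : X) (hx : x ∉ Set.range ι) :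
    Cyc.subschemeFun δ k ι x = 0 := by
  unfold Cyc.subschemeFun
  split_ifs
  · have hset : {z : Y | ι z = x} = ∅ := by
      ext z
      simp only [Set.mem_ofPred_eq, Set.mem_empty_iff_false, iff_false]
      exact fun h => hx ⟨z, h⟩
    rw [hset, finsum_mem_empty]
  · rfl

theorem subschemeFun_apply (k : ℤ) (y : Y) :
    Cyc.subschemeFun δ k ι (ι y) = if δ (ι y) = k then
      ((Module.length (Y.presheaf.stalk y) (Y.presheaf.stalk y)).toNat : ℤ) else 0 := by
  unfold Cyc.subschemeFun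
  have hset : {z : Y | ι z = ι y} = {y} := by
    ext z
    simp only [Set.mem_ofPred_eq, Set.mem_singleton_iff]
    exact ⟨fun h => injective ι h, fun h => by rw [h]⟩
  rw [hset, finsum_mem_singleton]

theorem subschemeFun_apply' (k : ℤ) (y : Y) :
    Cyc.subschemeFun δ k ι (ι y) = Cyc.subschemeFun (fun y => δ (ι y)) k (𝟙 Y) y := by
  rw [subschemeFun_apply]
  split_ifs with h
  · rw [Groth.Agent.Lib.T2H4.ZeroSecCap.subschemeFun_id (fun y => δ (ι y)) k y h]
  · unfold Cyc.subschemeFun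
    rw [if_neg h]

/-- `[Y]_k` as a cycle on `X`, for a closed subscheme `Y` of `δ`-dimension at most `k` -/
noncomputable def subschemeCycle [IsLocallyNoetherian X] (hδ : Cyc.IsDimFun X δ) (k : ℤ)
    (hk : ∀ y : Y, δ (ι y) ≤ k) : AlgebraicCycle X ℤ where
  toFun := Cyc.subschemeFun δ k ι
  supportWithinDomain' := by simp
  supportLocallyFiniteWithinDomain' := by
    intro x _
    haveI : IsLocallyNoetherian Y := isLocallyNoetherian ι
    by_cases hx : x ∈ Set.range ι
    · obtain ⟨y, rfl⟩ := hx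
      obtain ⟨V, hyV, hfin⟩ := exists_nhds_finite_maximal y
      obtain ⟨U, hUo, hUV⟩ := ι.isEmbedding.isInducing.isOpen_iff.1 V.isOpen
      refine ⟨U, hUo.mem_nhds (by
        have : y ∈ ι ⁻¹' U := by rw [hUV]; exact hyV
        exact this), ?_⟩
      refine (hfin.image ι).subset ?_
      rintro x ⟨hxU, hx⟩
      rw [Function.mem_support] at hx
      have hxr : x ∈ Set.range ι := by
        by_contra hn
        exact hx (subschemeFun_of_notMem_range ι δ k x hn)
      obtain ⟨η, rfl⟩ := hxr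
      refine ⟨η, ⟨?_, ?_⟩, rfl⟩
      · have : η ∈ ι ⁻¹' U := hxU
        rw [hUV] at this
        exact this
      · intro η' hsp
        by_contra hne
        have h1 := (hδ (ι η') (ι η) (hsp.map ι.continuous) (fun h => hne (injective ι h))).1
        have h2 : δ (ι η) = k := by
          by_contra hk'
          apply hx
          rw [subschemeFun_apply, if_neg hk']
        have h3 := hk η'
        omega
    · refine ⟨(Set.range ι)ᶜ, (isClosed_range ι).isOpen_compl.mem_nhds hx, ?_⟩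
      convert Set.finite_empty
      ext x'
      simp only [Set.mem_inter_iff, Set.mem_compl_iff, Function.mem_support, ne_eq,
        Set.mem_empty_iff_false, iff_false, not_and, not_not]
      exact fun hx' => subschemeFun_of_notMem_range ι δ k x' hx'

theorem subschemeCycle_coe [IsLocallyNoetherian X] (hδ : Cyc.IsDimFun X δ) (k : ℤ)
    (hk : ∀ y : Y, δ (ι y) ≤ k) :
    ⇑(subschemeCycle ι δ hδ k hk) = Cyc.subschemeFun δ k ι := rfl

theorem subschemeCycle_mem_Zk [IsLocallyNoetherian X] (hδ : Cyc.IsDimFun X δ) (k : ℤ)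
    (hk : ∀ y : Y, δ (ι y) ≤ k) : subschemeCycle ι δ hδ k hk ∈ Cyc.Zk X δ k := by
  intro x hx
  change Cyc.subschemeFun δ k ι x = 0
  unfold Cyc.subschemeFun
  rw [if_neg hx]

end Cycle

section Main

variable {X Y : Scheme.{u}} (f : Y ⟶ X) (L : X.Modules)

/-- `L_{f y} → (f^*L)_y` is surjective when the stalk map of `f` at `y` is -/
theorem exists_pullStalk_eq (hL : PicF.IsInvertible L) (y : Y)
    (hsurj : Function.Surjective (f.stalkMap y).hom)
    (m : ((Scheme.Modules.pullback f).obj L).presheaf.stalk y) :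
    ∃ l : L.presheaf.stalk (f y), (pullStalk f L y).hom l = m := by
  obtain ⟨b, hb⟩ := exists_free_gen L hL (f y)
  have hb' := bijective_smul_pullStalk f L hL y b hb
  obtain ⟨φ, hφ⟩ := hb'.2 m
  obtain ⟨φ', rfl⟩ := hsurj φ
  exact ⟨φ' • b, by rw [pullStalk_smul]; exact hφ⟩

/-- vanishing in the fibre is preserved by pullback -/
theorem mk_pullStalk_eq_zero (hL : PicF.IsInvertible L) (y : Y) (l : L.presheaf.stalk (f y))
    (hl : (Submodule.Quotient.mk l : Cyc.secFibre L (f y)) = 0) :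
    (Submodule.Quotient.mk ((pullStalk f L y).hom l) :
      Cyc.secFibre ((Scheme.Modules.pullback f).obj L) y) = 0 := by
  obtain ⟨b, hb⟩ := exists_free_gen L hL (f y)
  obtain ⟨φ, rfl⟩ := hb.2 l
  have hb' := bijective_smul_pullStalk f L hL y b hb
  change (Submodule.Quotient.mk (φ • b) : Cyc.secFibre L (f y)) = 0 at hl
  change (Submodule.Quotient.mk ((pullStalk f L y).hom (φ • b)) :
      Cyc.secFibre ((Scheme.Modules.pullback f).obj L) y) = 0
  rw [pullStalk_smul, mk_smul_eq_zero_iff _ _ hb', residue_stalkMap]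
  rw [mk_smul_eq_zero_iff L b hb] at hl
  rw [hl, map_zero]

end Main

section Thm

/-- quotients of universally catenary rings are universally catenary -/
theorem isUniversallyCatenary_of_surjective {R R' : Type u} [CommRing R] [CommRing R']
    (φ : R →+* R') (hφ : Function.Surjective φ) (h : CAlg.IsUniversallyCatenary R) :
    CAlg.IsUniversallyCatenary R' := by
  haveI := h.1
  refine ⟨isNoetherianRing_of_surjective R R' φ hφ, fun S _ _ hS => ?_⟩
  letI : Algebra R R' := φ.toAlgebra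
  letI : Algebra R S := ((algebraMap R' S).comp φ).toAlgebra
  haveI : IsScalarTower R R' S := IsScalarTower.of_algebraMap_eq (fun _ => rfl)
  have h1 : Algebra.FiniteType R R' := Algebra.FiniteType.of_surjective (Algebra.ofId R R') hφ
  exact h.2 S (Algebra.FiniteType.trans h1 hS)

variable {X Y : Scheme.{u}}

/-- **`c_1(L) ∩ [Y]_{k+1} ∼_rat ι_*[Z(s)]_k`** -/
theorem main (δ : X → ℤ) (hX : Cyc.IsSetup X δ) (L : X.Modules) (hL : PicF.IsInvertible L)
    (ι : Y ⟶ X) [IsClosedImmersion ι] (k : ℤ) (hY : ∀ y : Y, δ (ι y) ≤ k + 1)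
    (s : ((Scheme.Modules.pullback ι).obj L).presheaf.obj (Opposite.op ⊤))
    (hZ : ∀ y : Y, (((Scheme.Modules.pullback ι).obj L).presheaf.germ ⊤ y trivial) s ∈
      IsLocalRing.maximalIdeal (Y.presheaf.stalk y) •
        (⊤ : Submodule (Y.presheaf.stalk y)
          (((Scheme.Modules.pullback ι).obj L).presheaf.stalk y)) → δ (ι y) ≤ k)
    (hreg : ∀ y : Y, δ (ι y) = k → Function.Injective (fun a : Y.presheaf.stalk y =>
      a • (((Scheme.Modules.pullback ι).obj L).presheaf.germ ⊤ y trivial) s))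
    (v : (ξ : X) → Cyc.secFibre L ξ) (hv : ∀ ξ, v ξ ≠ 0) (γ : AlgebraicCycle X ℤ)
    (hγ : ⇑γ = Cyc.c1CapFun δ L (Cyc.subschemeFun δ (k + 1) ι) v) (ζ : AlgebraicCycle Y ℤ)
    (hζ : ⇑ζ = Cyc.zeroSectionFun (fun y => δ (ι y)) k ((Scheme.Modules.pullback ι).obj L) s) :
    Cyc.RatEquiv δ k γ (AlgebraicCycle.map ι (fun y => δ (ι y)) δ ζ) := by
  haveI : IsLocallyNoetherian X := hX.1
  haveI : IsLocallyNoetherian Y := isLocallyNoetherian ι
  have hδ : Cyc.IsDimFun X δ := hX.2.2
  have hδY : Cyc.IsDimFun Y (fun y => δ (ι y)) := isDimFun_comp ι δ hδ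
  have hL' : PicF.IsInvertible ((Scheme.Modules.pullback ι).obj L) :=
    Groth.Agent.Lib.Helper23.PB.isInvertible_pullback ι L hL
  -- lifts of the germs of `s`
  have hlift : ∀ η : Y, ∃ l : L.presheaf.stalk (ι η), (pullStalk ι L η).hom l =
      (((Scheme.Modules.pullback ι).obj L).presheaf.germ ⊤ η trivial) s :=
    fun η => exists_pullStalk_eq ι L hL η (ι.stalkMap_surjective η) _
  choose l hl using hlift
  have hlne : ∀ η : Y, δ (ι η) = k + 1 →
      (Submodule.Quotient.mk (l η) : Cyc.secFibre L (ι η)) ≠ 0 := by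
    intro η hη h0
    have h1 := mk_pullStalk_eq_zero ι L hL η (l η) h0
    rw [hl, Submodule.Quotient.mk_eq_zero] at h1
    have := hZ η h1
    omega
  -- the family of sections on `X`
  have hex : ∀ ξ : X, ∃ t : Cyc.secFibre L ξ, t ≠ 0 ∧ ∀ η : Y, ξ = ι η → δ ξ = k + 1 →
      ∀ x, Cyc.secDivFun δ L ξ t x = Cyc.secDivFun δ L (ι η) (Submodule.Quotient.mk (l η)) x := by
    intro ξ
    by_cases h : ∃ η : Y, ξ = ι η ∧ δ ξ = k + 1
    · obtain ⟨η, rfl, hη⟩ := h
      refine ⟨Submodule.Quotient.mk (l η), hlne η hη, fun η' he _ x => ?_⟩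
      have : η = η' := injective ι he
      subst this
      rfl
    · exact ⟨v ξ, hv ξ, fun η he hη => absurd ⟨η, he, hη⟩ h⟩
  choose t ht0 ht using hex
  set α := subschemeCycle ι δ hδ (k + 1) hY with hα
  refine Groth.Agent.Lib.T2H4.C1CapRat.ratEquiv_of_sections δ L hL k α
    (subschemeCycle_mem_Zk ι δ hδ (k + 1) hY) v t hv ht0 γ _ hγ ?_
  -- the pushforward of `[Z(s)]_k`
  have hS := Groth.Agent.Lib.T2H4.ZeroSecCap.main Y (fun y => δ (ι y)) ⟨inferInstance,
    fun y => isUniversallyCatenary_of_surjective (ι.stalkMap y).hom (ι.stalkMap_surjective y)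
      (hX.2.1 (ι y)), hδY⟩
    ((Scheme.Modules.pullback ι).obj L) hL' k hY s hreg
  funext x
  rw [subschemeCycle_coe]
  unfold Cyc.c1CapFun
  by_cases hx : x ∈ Set.range ι
  · obtain ⟨y, rfl⟩ := hx
    rw [map_apply_self, hζ, hS]
    unfold Cyc.c1CapFun
    rw [finsum_comp_of_injective ι (injective ι)]
    · refine finsum_congr (fun η => ?_)
      rw [subschemeFun_apply']
      by_cases hη : δ (ι η) = k + 1
      · rw [ht (ι η) η rfl hη, ← secDivFun_pullStalk ι L hL δ η y (l η), hl]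
      · have h0 : Cyc.subschemeFun (fun y => δ (ι y)) (k + 1) (𝟙 Y) η = 0 := by
          unfold Cyc.subschemeFun
          rw [if_neg hη]
        rw [h0, zero_mul, zero_mul]
    · intro b hb
      rw [subschemeFun_of_notMem_range ι δ (k + 1) b hb, zero_mul]
  · rw [map_apply_of_notMem ι δ ζ x hx]
    symm
    apply finsum_eq_zero_of_forall_eq_zero
    intro ξ
    by_cases hξ : ξ ∈ Set.range ι
    · have h0 : Cyc.secDivFun δ L ξ (t ξ) x = 0 := by
        unfold Cyc.secDivFun
        rw [dif_neg]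
        rintro ⟨hsp, -⟩
        apply hx
        have : x ∈ closure {ξ} := specializes_iff_mem_closure.1 hsp
        exact ((isClosed_range ι).closure_subset_iff.2 (Set.singleton_subset_iff.2 hξ)) this
      rw [h0, mul_zero]
    · rw [subschemeFun_of_notMem_range ι δ (k + 1) ξ hξ, zero_mul]

end Thm

end Groth.Agent.Lib.T2H4.ZeroSecPush
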