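import Groth.Agent.Lib.T2H5SqZeroPicD

/-!
# Čech vanishing in the ideal of a square-zero thickening from a model of the ideal (helper5)

`KrModel I M`: the module `M` is a model of the sheaf of functions vanishing on the closed subscheme of `I`
(natural additive bijections `Γ(M, V) ≃ Kr I V`).  For such a model, `H¹(X, M) = 0` gives `H1Van I`, and
`H²(X, M) = 0` gives `H2Van I` when `X` is separated and `M` quasi-coherent.
-/

set_option autoImplicit false
set_option backward.isDefEq.respectTransparency.types false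
set_option linter.style.haveILetI false
set_option linter.unusedSectionVars false
set_option linter.unusedVariables false
universe u

open CategoryTheory CategoryTheory.Limits AlgebraicGeometry TopologicalSpace Opposite

namespace Groth.Agent.Lib.T2H5.SqZeroPic

open Groth.Agent.Lib.Helper6 Groth.Agent.Lib.Helper23.SecTw Groth.Agent.Lib.Helper23.GenLocus
  Groth.Agent.Lib.Helper23.PB Groth.Agent.Helper13PullbackUnit Groth.Agent.Lib.Helper23.Extend
  Groth.Agent.Lib.Helper20.IdealModSec Groth.Agent.Lib.T2H5.CechH2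

variable {X : Scheme.{u}}

/-- a module whose sections are, naturally, the functions vanishing on the closed subscheme of `I` -/
structure KrModel (I : X.IdealSheafData) (M : X.Modules) where
  /-- the function underlying a section -/
  kap : ∀ V : X.Opens, Γ(M, V) →+ Γ(X, V)
  kap_mem : ∀ (V : X.Opens) (j : Γ(M, V)), kap V j ∈ Kr I V
  kap_injective : ∀ V : X.Opens, Function.Injective (kap V)
  exists_kap_eq : ∀ (V : X.Opens) (a : Γ(X, V)), a ∈ Kr I V → ∃ j : Γ(M, V), kap V j = a
  kap_res : ∀ {V V' : X.Opens} (h : V' ≤ V) (j : Γ(M, V)), kap V' (res M h j) = resf h (kap V j)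

variable {I : X.IdealSheafData} {M : X.Modules}

theorem h1Van_of_model (m : KrModel I M) (h : Subsingleton (Coh.HH X M 1)) : H1Van I := by
  intro κ W _ hcov a ha hcoc
  choose α hα using fun k l => m.exists_kap_eq (W k ⊓ W l) (a k l) (ha k l)
  obtain ⟨β, hβ⟩ := Groth.Agent.Lib.T2H5.SqZeroCech.exists_coboundary_of_subsingleton X
    M h W hcov α (fun k l m' => by
      apply m.kap_injective
      rw [map_add, map_sub, map_zero]
      have e1 := m.kap_res (le_inf (inf_le_left.trans inf_le_right) inf_le_right :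
        W k ⊓ W l ⊓ W m' ≤ W l ⊓ W m') (α l m')
      have e2 := m.kap_res (le_inf (inf_le_left.trans inf_le_left) inf_le_right :
        W k ⊓ W l ⊓ W m' ≤ W k ⊓ W m') (α k m')
      have e3 := m.kap_res (inf_le_left : W k ⊓ W l ⊓ W m' ≤ W k ⊓ W l) (α k l)
      rw [hα] at e1 e2 e3
      exact (congrArg₂ (· + ·) (congrArg₂ (· - ·) e1 e2) e3).trans (hcoc k l m'))
  refine ⟨fun k => m.kap (W k) (β k), fun k => m.kap_mem _ _, fun k l => ?_⟩
  have e1 := m.kap_res (inf_le_right : W k ⊓ W l ≤ W l) (β l)
  have e2 := m.kap_res (inf_le_left : W k ⊓ W l ≤ W k) (β k)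
  rw [← hα k l, hβ k l, map_sub]
  exact congrArg₂ (· - ·) e1 e2

theorem h2Van_of_model [X.IsSeparated] [M.IsQuasicoherent] (m : KrModel I M)
    (h : Subsingleton (Coh.HH X M 2)) : H2Van I := by
  intro κ W hWaff hcov a ha hcoc
  choose α hα using fun k l m' => m.exists_kap_eq (W k ⊓ W l ⊓ W m') (a k l m') (ha k l m')
  have hWfin : ∀ s : Finset κ, s.Nonempty → IsAffineOpen (⨅ i ∈ s, W i) := fun s hs =>
    IsAffineOpen.biInf (s : Set κ) s.finite_toSet hs (fun i _ => hWaff i)
  obtain ⟨β, hβ⟩ := exists_coboundary2_of_subsingleton X M h W hcov hWfin α (fun k l m' n => by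
      apply m.kap_injective
      rw [map_sub, map_add, map_sub, map_zero]
      have e1 := m.kap_res (le4_123 W k l m' n) (α l m' n)
      have e2 := m.kap_res (le4_023 W k l m' n) (α k m' n)
      have e3 := m.kap_res (le4_013 W k l m' n) (α k l n)
      have e4 := m.kap_res (le4_012 W k l m' n) (α k l m')
      rw [hα] at e1 e2 e3 e4
      exact (congrArg₂ (· - ·) (congrArg₂ (· + ·) (congrArg₂ (· - ·) e1 e2) e3) e4).trans
        (hcoc k l m' n))
  refine ⟨fun k l => m.kap (W k ⊓ W l) (β k l), fun k l => m.kap_mem _ _, fun k l m' => ?_⟩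
  have e1 := m.kap_res (le_inf (inf_le_left.trans inf_le_right) inf_le_right :
    W k ⊓ W l ⊓ W m' ≤ W l ⊓ W m') (β l m')
  have e2 := m.kap_res (le_inf (inf_le_left.trans inf_le_left) inf_le_right :
    W k ⊓ W l ⊓ W m' ≤ W k ⊓ W m') (β k m')
  have e3 := m.kap_res (inf_le_left : W k ⊓ W l ⊓ W m' ≤ W k ⊓ W l) (β k l)
  rw [← hα k l m', hβ k l m', map_add, map_sub]
  exact congrArg₂ (· + ·) (congrArg₂ (· - ·) e1 e2) e3

end Groth.Agent.Lib.T2H5.SqZeroPic
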