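import Groth.Agent.Lib.T2H9Thick4
import Groth.Agent.Lib.T2H9InvFlat
import Groth.Agent.Lib.T2H5T2Les

/-!
# Cohomology of the ideal of an infinitesimal thickening of the closed fibre (helper5)

`Y` flat over a Noetherian ring `B`, `𝔪` a maximal ideal of `B` with `𝔪 ^ (N + 1) = ⊥`, `𝔞` an ideal with `𝔪 * 𝔞 = ⊥`;
`i : Z ⟶ Y` the base change of `V(𝔞)` and `j : Z₀ ⟶ Y` the base change of `V(𝔪)`.  If `H^{p+1}(Z₀, O_{Z₀}) = 0` then
`H^{p+1}(Y, ker (O_Y → i_* i^* O_Y)) = 0` (`subsingleton_HH_kernel_η`).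
-/

set_option autoImplicit false
set_option linter.style.haveILetI false
set_option linter.unusedSectionVars false
set_option linter.unusedVariables false
universe u

open CategoryTheory CategoryTheory.Limits AlgebraicGeometry TopologicalSpace Opposite

namespace Groth.Agent.Lib.T2H5.AdicPic

open Groth.Agent.Lib.T2H2.AlgzB Groth.Agent.Lib.T2H9.FibQuot Groth.Agent.Lib.T2H9.FlatFib
  Groth.Agent.Lib.T2H9.Thick Groth.Agent.Lib.Helper23.PB

variable {B : Type u} [CommRing B] [IsNoetherianRing B]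
variable (Y : Scheme.{u}) [Y.Over (Spec (CommRingCat.of B))]
variable {Z T Z₀ T₀ : Scheme.{u}} (i : Z ⟶ Y) (q : Z ⟶ T) (f : T ⟶ Spec (CommRingCat.of B))
  (hpb : IsPullback i q (Y ↘ Spec (CommRingCat.of B)) f) [IsClosedImmersion f] [IsClosedImmersion i]
  (j : Z₀ ⟶ Y) (q₀ : Z₀ ⟶ T₀) (f₀ : T₀ ⟶ Spec (CommRingCat.of B))
  (hpb₀ : IsPullback j q₀ (Y ↘ Spec (CommRingCat.of B)) f₀) [IsClosedImmersion f₀] [IsClosedImmersion j]
  (𝔞 𝔪 : Ideal B) (h𝔞 : RingHom.ker (φT f) = 𝔞) (h𝔪 : RingHom.ker (φT f₀) = 𝔪) [h𝔪max : 𝔪.IsMaximal]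
  (hm𝔞 : 𝔪 * 𝔞 = ⊥) (N : ℕ) (hN : 𝔪 ^ (N + 1) = ⊥)
  [hflat : Flat (Y ↘ Spec (CommRingCat.of B))]

theorem killedBy_bot (F : Y.Modules) (J : Ideal B) (hJ : J = ⊥) : Formal.KilledBy J F := by
  intro a ha
  rw [hJ] at ha
  have h0 : a = 0 := ha
  rw [h0]
  exact Groth.Agent.Lib.T2H9.FFGeom.smulMod_zero Y F

include hpb hpb₀ h𝔞 h𝔪 h𝔪max hm𝔞 hN hflat in
/-- **vanishing of the cohomology of the ideal of a thickening of the closed fibre** -/
theorem subsingleton_HH_kernel_η (p : ℕ)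
    (h : Subsingleton (Coh.HH Z₀ (Coh.structureModule Z₀) (p + 1))) :
    Subsingleton (Coh.HH Y (kernel (η i (Coh.structureModule Y))) (p + 1)) := by
  obtain ⟨F, hF⟩ : ∃ F : Y.Modules, F = Coh.structureModule Y := ⟨_, rfl⟩
  have hinv : PicF.IsInvertible F := hF ▸ Groth.Agent.Lib.Helper23.TensorUnit.isInvertible_structureModule Y
  haveI : F.IsQuasicoherent := Groth.Agent.Lib.Helper23.SecTw.isQuasicoherent_of_isInvertible F hinv
  have hfl : FlatMod.IsFlatOver (Y ↘ Spec (CommRingCat.of B)) F :=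
    Groth.Agent.Lib.T2H9.InvFlat.isFlatOver_of_isInvertible _ _ hinv
  have e : Coh.structureModule Z₀ ≅ (Scheme.Modules.pullback j).obj F := hF ▸ (pullbackUnitIso j).symm
  have hvan : Subsingleton (Coh.HH Y (cokernel (Formal.smulFamily 𝔪 F)) (p + 1)) :=
    subsingleton_HH_cokernel Y F j q₀ f₀ hpb₀ 𝔪 h𝔪 _ e (p + 1) h
  -- `H^{p+1}(Y, F) = 0`
  have hF0 : Subsingleton (Coh.HH Y F (p + 1)) := by
    have h1 := subsingleton_modPow Y F hfl 𝔪 (p + 1) hvan N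
    obtain ⟨c₁, -⟩ := (isQuotBy_modPowπ 𝔪 (N + 1) F).exists_iso
      (isQuotBy_id Y F (killedBy_bot Y F _ hN))
    exact Groth.Agent.Lib.T2H5.PnStruct.subsingleton_HH_of_iso c₁ (p + 1) h1
  -- surjectivity of `H^p(η)`
  have hsurj : Function.Surjective (Canon.HHlin B (η i F) p) := by
    have s1 := surjective_tJ Y F hfl 𝔪 p hvan ⊥ 𝔞 bot_le (by rw [hm𝔞])
    obtain ⟨c, hc⟩ := (isQuotBy_cokernelπ 𝔞 F).exists_iso (isQuotBy_η Y i q f hpb 𝔞 h𝔞 F)
    obtain ⟨c₀, hc₀⟩ := (isQuotBy_cokernelπ (⊥ : Ideal B) F).exists_iso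
      (isQuotBy_id Y F (killedBy_bot Y F _ rfl))
    have hπ : cokernel.π (Formal.smulFamily (⊥ : Ideal B) F) = c₀.inv := by
      rw [← Category.comp_id (cokernel.π (Formal.smulFamily (⊥ : Ideal B) F)), ← c₀.hom_inv_id,
        ← Category.assoc, hc₀, Category.id_comp]
    have hη : η i F = cokernel.π (Formal.smulFamily (⊥ : Ideal B) F) ≫ tJ Y F ⊥ 𝔞 bot_le ≫ c.hom := by
      rw [← Category.assoc, π_tJ, hc]
    intro y
    obtain ⟨z, hz⟩ := s1 (Canon.HHlin B c.inv p y)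
    refine ⟨Canon.HHlin B c₀.hom p z, ?_⟩
    rw [hη, HHlin_comp, HHlin_comp, hπ, ← HHlin_comp Y c₀.hom c₀.inv, c₀.hom_inv_id, HHlin_id, hz,
      ← HHlin_comp Y c.inv c.hom, c.inv_hom_id, HHlin_id]
  -- the long exact sequence
  let S : ShortComplex Y.Modules := ShortComplex.mk (kernel.ι (η i F)) (η i F) (kernel.condition _)
  haveI : Epi S.g := inferInstanceAs (Epi (η i F))
  haveI : Mono S.f := inferInstanceAs (Mono (kernel.ι (η i F)))
  have hS : S.ShortExact := { exact := ShortComplex.exact_kernel (η i F) }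
  subst hF
  refine ⟨fun x y => ?_⟩
  have key : ∀ z : Coh.HH Y (kernel (η i (Coh.structureModule Y))) (p + 1), z = 0 := by
    intro z
    have h1 : z ∈ LinearMap.ker (Canon.HHlin B S.f (p + 1)) := Subsingleton.elim _ _
    rw [Groth.Agent.Lib.T2H5.T2Les.exact₁ S hS p] at h1
    obtain ⟨w, hw⟩ := h1
    have h2 : w ∈ LinearMap.range (Canon.HHlin B S.g p) := hsurj w
    rw [← Groth.Agent.Lib.T2H5.HHLes.exact₃ (A := B) S hS p] at h2
    rw [← hw]
    exact h2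
  rw [key x, key y]

end Groth.Agent.Lib.T2H5.AdicPic
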