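import Groth.Agent.Lib.T2H5AdicPicA
import Groth.Agent.Lib.T2H5AdicPicB

/-!
# The kernel of `O_Y → i_* i^* O_Y` as a model of the ideal of a closed immersion (helper5)

For a closed immersion `i : Z ⟶ Y`: `krModelKernelη i : KrModel i.ker (kernel (η i O_Y))`; `ker_mul_ker_eq_bot`:
`i.ker * i.ker = ⊥` when `i` is the base change of `V(𝔞)` with `𝔞 * 𝔞 = ⊥`; pullbacks along isomorphisms.
-/

set_option autoImplicit false
set_option backward.isDefEq.respectTransparency.types false
set_option linter.style.haveILetI false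
set_option linter.unusedSectionVars false
set_option linter.unusedVariables false
universe u

open CategoryTheory CategoryTheory.Limits AlgebraicGeometry TopologicalSpace Opposite

namespace Groth.Agent.Lib.T2H5.AdicPic

open Groth.Agent.Lib.Helper6 Groth.Agent.Lib.Helper23.GenLocus Groth.Agent.Lib.Helper23.PB
  Groth.Agent.Lib.Helper23.Extend Groth.Agent.Lib.T2H5.SqZeroPic Groth.Agent.Lib.T2H9.FibQuot
  Groth.Agent.Lib.Helper20.StalkExact Groth.Agent.Lib.Helper2.QCoh Groth.Agent.Lib.Helper20.InvGen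

section kernelSec

variable {Y : Scheme.{u}} {M N : Y.Modules} (φ : M ⟶ N)

theorem kernel_ι_app_comp (V : Y.Opens) (j : Γ(kernel φ, V)) :
    φ.app V ((kernel.ι φ).app V j) = 0 := by
  have h : kernel.ι φ ≫ φ = 0 := kernel.condition _
  have h2 : (kernel.ι φ ≫ φ).app V = 0 := by rw [h]; rfl
  exact ConcreteCategory.congr_hom h2 j

theorem exists_eq_kernel_ι (V : Y.Opens) (a : Γ(M, V)) (ha : φ.app V a = 0) :
    ∃ j : Γ(kernel φ, V), (kernel.ι φ).app V j = a := by
  let E : ShortComplex Y.Modules := ShortComplex.mk (kernel.ι φ) φ (kernel.condition _)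
  have hE : E.Exact := ShortComplex.exact_of_f_is_kernel E (kernelIsKernel φ)
  haveI : Mono E.f := inferInstanceAs (Mono (kernel.ι φ))
  haveI : (secF (X := Y) V).PreservesZeroMorphisms := ⟨fun _ _ => rfl⟩
  have h1 : (E.map (secF V)).Exact :=
    hE.map_of_mono_of_preservesKernel (secF V) inferInstance inferInstance
  rw [ShortComplex.ab_exact_iff] at h1
  exact h1 a ha

end kernelSec

section unit

variable {Y Z : Scheme.{u}} (i : Z ⟶ Y)

/-- the unit `O_Y → i_* i^* O_Y` followed by `i^* O_Y ≅ O_Z` is `i^♯` -/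
theorem pullbackUnitHom_η (V : Y.Opens) (s : Γ(Y, V)) :
    (pullbackUnitHom i).app (i ⁻¹ᵁ V)
      (((Scheme.Modules.pullbackPushforwardAdjunction i).unit.app (Coh.structureModule Y)).app V (toS V s)) =
      toS (i ⁻¹ᵁ V) ((i.app V).hom s) := by
  have h := SheafOfModules.pullbackPushforwardAdjunction_homEquiv_pullbackObjUnitToUnit.{u}
    i.toRingCatSheafHom
  rw [Adjunction.homEquiv_unit] at h
  have h2 := congrArg (fun t => t.val.app (op V) s) h
  simp only [SheafOfModules.unitToPushforwardObjUnit_val_app_apply] at h2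
  refine Eq.trans ?_ (h2.trans ?_)
  · rfl
  · rfl

theorem η_app_eq_zero_iff (V : Y.Opens) (s : Γ(Y, V)) :
    ((Scheme.Modules.pullbackPushforwardAdjunction i).unit.app (Coh.structureModule Y)).app V (toS V s) = 0 ↔
      (i.app V).hom s = 0 := by
  constructor
  · intro h
    have h1 := pullbackUnitHom_η i V s
    have h2 : (pullbackUnitHom i).app (i ⁻¹ᵁ V)
        (((Scheme.Modules.pullbackPushforwardAdjunction i).unit.app (Coh.structureModule Y)).app V (toS V s)) =
        (pullbackUnitHom i).app (i ⁻¹ᵁ V) 0 := congrArg ((pullbackUnitHom i).app (i ⁻¹ᵁ V)) h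
    rw [map_zero] at h2
    exact h1.symm.trans h2
  · intro h
    have h1 := pullbackUnitHom_η i V s
    rw [h] at h1
    have h2 := congrArg ((pullbackUnitIso i).inv.app (i ⁻¹ᵁ V)) h1
    have h3 : ∀ x, (pullbackUnitIso i).inv.app (i ⁻¹ᵁ V) ((pullbackUnitHom i).app (i ⁻¹ᵁ V) x) = x := by
      intro x
      have := congrArg (fun t => t.app (i ⁻¹ᵁ V) x) (pullbackUnitIso i).hom_inv_id
      exact this
    rw [h3] at h2
    rw [h2]
    exact map_zero _

end unit

section ker

theorem app_eq_zero_iff_of_comp {Z Z' Y : Scheme.{u}} (g : Z ⟶ Y) (a : Z ⟶ Z') (b : Z' ⟶ Y) [IsIso a]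
    (hg : a ≫ b = g) (V : Y.Opens) (s : Γ(Y, V)) :
    (g.app V).hom s = 0 ↔ (b.app V).hom s = 0 := by
  subst hg
  have hinj : Function.Injective (a.app (b ⁻¹ᵁ V)).hom :=
    ((ConcreteCategory.isIso_iff_bijective (a.app (b ⁻¹ᵁ V))).1 inferInstance).1
  constructor
  · intro h
    apply hinj
    rw [map_zero]
    exact h
  · intro h
    change (a.app (b ⁻¹ᵁ V)).hom ((b.app V).hom s) = 0
    rw [h, map_zero]

variable {Y Z : Scheme.{u}} (i : Z ⟶ Y) [IsClosedImmersion i]

theorem mem_Kr_ker_iff (V : Y.Opens) (s : Γ(Y, V)) : s ∈ Kr i.ker V ↔ (i.app V).hom s = 0 := by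
  rw [mem_Kr]
  exact (app_eq_zero_iff_of_comp i i.toImage i.ker.subschemeι i.toImage_imageι V s).symm

/-- **the kernel of `O_Y → i_* i^* O_Y` is a model of the ideal of `i`** -/
noncomputable def krModelKernelη : KrModel i.ker (kernel (η i (Coh.structureModule Y))) where
  kap V := AddMonoidHom.mk' (fun j => ofS V ((kernel.ι (η i (Coh.structureModule Y))).app V j))
    (fun a b => map_add _ _ _)
  kap_mem V j := by
    rw [mem_Kr_ker_iff]
    have h1 := kernel_ι_app_comp (η i (Coh.structureModule Y)) V j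
    exact (η_app_eq_zero_iff i V _).1 h1
  kap_injective V := Groth.Agent.Lib.Helper20.StalkExact.injective_app_of_mono _ V
  exists_kap_eq V a ha := by
    rw [mem_Kr_ker_iff] at ha
    exact exists_eq_kernel_ι (η i (Coh.structureModule Y)) V (toS V a) ((η_app_eq_zero_iff i V a).2 ha)
  kap_res h j := app_map (kernel.ι (η i (Coh.structureModule Y))) (homOfLE h) j

end ker

end Groth.Agent.Lib.T2H5.AdicPic
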