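import Mathlib

/-!
# Subobjects of `L P` for an exact fully faithful left adjoint with monic counit (helper5, team 2)

Let `L ⊣ R` be an adjunction of exact additive functors between abelian categories such that every counit
`L R M ⟶ M` is a monomorphism (extension by zero along an open immersion).  Then:
* `isIso_counit_obj`: the counit at `L P` is an isomorphism;
* `isIso_counit_of_mono`: the counit at any subobject `A ↪ L P` is an isomorphism;
* `isIso_of_isIso_map`: a morphism `A ⟶ B` of subobjects of `L P` is an isomorphism as soon as `R` maps it to one.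
-/
set_option autoImplicit false
set_option linter.style.haveILetI false
set_option linter.unusedSectionVars false
universe v₁ v₂ u₁ u₂
open CategoryTheory Limits

namespace Groth.Agent.Lib.T2H5.AdjSub

variable {𝒜 : Type u₁} [Category.{v₁} 𝒜] [Abelian 𝒜] {ℬ : Type u₂} [Category.{v₂} ℬ] [Abelian ℬ]
  {L : 𝒜 ⥤ ℬ} {R : ℬ ⥤ 𝒜} (adj : L ⊣ R) [L.Additive] [R.Additive]
  [PreservesFiniteLimits L] [PreservesFiniteColimits L]
  [PreservesFiniteLimits R] [PreservesFiniteColimits R]
  (hε : ∀ M : ℬ, Mono (adj.counit.app M))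

include hε in
theorem isIso_counit_obj (P : 𝒜) : IsIso (adj.counit.app (L.obj P)) := by
  haveI := hε (L.obj P)
  haveI : IsSplitEpi (adj.counit.app (L.obj P)) :=
    ⟨⟨⟨_, adj.left_triangle_components P⟩⟩⟩
  exact isIso_of_mono_of_isSplitEpi _

include hε in
theorem isIso_counit_of_mono {A : ℬ} {P : 𝒜} (a : A ⟶ L.obj P) [Mono a] :
    IsIso (adj.counit.app A) := by
  haveI := hε A
  haveI := isIso_counit_obj adj hε P
  let S : ShortComplex ℬ := ShortComplex.mk a (cokernel.π a) (cokernel.condition a)
  have hS : S.ShortExact :=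
    { exact := ShortComplex.exact_cokernel a
      mono_f := inferInstanceAs (Mono a)
      epi_g := inferInstanceAs (Epi (cokernel.π a)) }
  have hSF : (S.map (R ⋙ L)).ShortExact := hS.map_of_exact (R ⋙ L)
  haveI : Mono (S.map (R ⋙ L)).f := hSF.mono_f
  haveI := hε (cokernel a)
  have hnat : L.map (R.map (cokernel.π a)) ≫ adj.counit.app (cokernel a) =
      adj.counit.app (L.obj P) ≫ cokernel.π a := adj.counit.naturality (cokernel.π a)
  let k : A ⟶ L.obj (R.obj (L.obj P)) := a ≫ inv (adj.counit.app (L.obj P))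
  have hk0 : k ≫ L.map (R.map (cokernel.π a)) = 0 := by
    rw [← cancel_mono (adj.counit.app (cokernel a)), Category.assoc, Category.assoc, hnat,
      IsIso.inv_hom_id_assoc, cokernel.condition, zero_comp]
  have hk : (show A ⟶ (S.map (R ⋙ L)).X₂ from k) ≫ (S.map (R ⋙ L)).g = 0 := hk0
  let s : A ⟶ L.obj (R.obj A) := hSF.exact.lift _ hk
  have hs : s ≫ L.map (R.map a) = a ≫ inv (adj.counit.app (L.obj P)) := hSF.exact.lift_f _ hk
  have hnat2 : L.map (R.map a) ≫ adj.counit.app (L.obj P) = adj.counit.app A ≫ a :=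
    adj.counit.naturality a
  have hsε : s ≫ adj.counit.app A = 𝟙 A := by
    rw [← cancel_mono a, Category.assoc, ← hnat2, ← Category.assoc, hs,
      Category.assoc, Category.id_comp, IsIso.inv_hom_id, Category.comp_id]
  haveI : IsSplitEpi (adj.counit.app A) := ⟨⟨⟨s, hsε⟩⟩⟩
  exact isIso_of_mono_of_isSplitEpi _

include hε in
theorem isIso_of_isIso_map {A B : ℬ} {P : 𝒜} (a : A ⟶ L.obj P) (b : B ⟶ L.obj P) [Mono a] [Mono b]
    (i : A ⟶ B) [IsIso (R.map i)] : IsIso i := by
  haveI := isIso_counit_of_mono adj hε a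
  haveI := isIso_counit_of_mono adj hε b
  have hnat : L.map (R.map i) ≫ adj.counit.app B = adj.counit.app A ≫ i := adj.counit.naturality i
  have : i = inv (adj.counit.app A) ≫ L.map (R.map i) ≫ adj.counit.app B := by
    rw [hnat, IsIso.inv_hom_id_assoc]
  rw [this]
  infer_instance

include hε in
/-- Maps from a subobject `A ↪ L P` to `F` extend to `L P` as soon as `R F` is injective. -/
theorem exists_extend_of_injective {A : ℬ} {P : 𝒜} (a : A ⟶ L.obj P) [Mono a] (F : ℬ)
    [Injective (R.obj F)] (φ : A ⟶ F) : ∃ ψ : L.obj P ⟶ F, a ≫ ψ = φ := by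
  haveI := isIso_counit_of_mono adj hε a
  haveI := isIso_counit_obj adj hε P
  -- transpose `φ` and extend along the monomorphism `R a`
  let φ'' : R.obj A ⟶ R.obj F := R.map φ
  let ψ'' : R.obj (L.obj P) ⟶ R.obj F := Injective.factorThru φ'' (R.map a)
  have hψ'' : R.map a ≫ ψ'' = φ'' := Injective.comp_factorThru _ _
  refine ⟨inv (adj.counit.app (L.obj P)) ≫ L.map ψ'' ≫ adj.counit.app F, ?_⟩
  have hnat : L.map (R.map a) ≫ adj.counit.app (L.obj P) = adj.counit.app A ≫ a :=
    adj.counit.naturality a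
  have h1 : a ≫ inv (adj.counit.app (L.obj P)) = inv (adj.counit.app A) ≫ L.map (R.map a) := by
    rw [IsIso.eq_inv_comp, ← Category.assoc, ← hnat, Category.assoc, IsIso.hom_inv_id,
      Category.comp_id]
  have hnat2 : L.map (R.map φ) ≫ adj.counit.app F = adj.counit.app A ≫ φ :=
    adj.counit.naturality φ
  rw [← Category.assoc, h1, Category.assoc, ← Category.assoc (L.map (R.map a)), ← L.map_comp,
    hψ'', hnat2, IsIso.inv_hom_id_assoc]

end Groth.Agent.Lib.T2H5.AdjSub
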