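import Mathlib
import Groth.Agent.Lib.T2H6HProjChart
import Groth.Agent.S0024
import Groth.Agent.S4471
import Groth.Agent.Lib.Helper18PBUnit2
import Groth.Agent.Lib.Helper23TensorUnit
import Groth.Agent.Lib.Helper23SecTw3
import Groth.Prelude.Def_KRR
import Groth.Agent.Lib.Helper17K0a
import Groth.Agent.Lib.Helper1FLF1
set_option backward.isDefEq.respectTransparency.types false

/-!
# T2H5PushUnit: `p_* O_P ≅ O_Y` for `p : P^n_Y ⟶ Y`, and `O_P` is a regular sheaf (helper5)

Namespace `Groth.Agent.Lib.T2H5.PushUnit`.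
-/

set_option autoImplicit false
set_option linter.style.haveILetI false
set_option linter.unusedSectionVars false
universe u
open CategoryTheory CategoryTheory.Limits AlgebraicGeometry TopologicalSpace Opposite ZeroObject

namespace Groth.Agent.Lib.T2H5.PushUnit

open Groth.Agent.Lib.T2H6.HProjChart

theorem isIso_app_of_eq {X Y : Scheme.{u}} (f : X ⟶ Y) {U V : Y.Opens} (e : U = V)
    (h : IsIso (f.app V)) : IsIso (f.app U) := by
  subst e; exact h

theorem isIso_presheaf_map_eqToHom {X : Scheme.{u}} {A B : X.Opens} (e : A = B) :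
    IsIso (X.presheaf.map (eqToHom e).op) := by
  subst e
  rw [eqToHom_refl, op_id, X.presheaf.map_id]
  infer_instance

theorem isBasis_range_affine (Y : Scheme.{u}) :
    Opens.IsBasis (Set.range (Subtype.val : Y.affineOpens → Y.Opens)) := by
  rw [Subtype.range_coe]
  exact Y.isBasis_affineOpens

/-- a morphism of schemes which induces isomorphisms on sections over all affine opens of the target does so over
all opens -/
theorem isIso_app_of_affine {X Y : Scheme.{u}} (f : X ⟶ Y)
    (h : ∀ U : Y.Opens, IsAffineOpen U → IsIso (f.app U)) (V : Y.Opens) : IsIso (f.app V) := by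
  let φ : Y.sheaf ⟶ (TopCat.Sheaf.pushforward CommRingCat f.base).obj X.sheaf := ⟨f.c⟩
  have hφ : IsIso φ := by
    apply TopCat.Sheaf.isIso_iff_isIso_basis (B := (Subtype.val : Y.affineOpens → Y.Opens))
      (isBasis_range_affine Y)
    intro U
    exact h U.1 U.2
  haveI := hφ
  haveI : IsIso ((sheafToPresheaf _ _).map φ) := Functor.map_isIso _ φ
  exact NatIso.isIso_app_of_isIso ((sheafToPresheaf _ _).map φ) (op V)

variable (n : ℕ) (Y : Scheme.{u})

theorem isIso_app_toBase_of_isAffineOpen {V : Y.Opens} (hV : IsAffineOpen V) :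
    IsIso ((CohB1.ProjSpaceOver.toBase n Y).app V) := by
  have sq := embU_toBase n hV
  have h1 := Scheme.Hom.congr_app sq V
  rw [Scheme.Hom.comp_app, Scheme.Hom.comp_app] at h1
  haveI i1 : IsIso ((embU n hV).app (CohB1.ProjSpaceOver.toBase n Y ⁻¹ᵁ V)) :=
    Scheme.Hom.isIso_app (embU n hV) _ (opensRange_embU n hV).ge
  haveI i2 : IsIso (hV.fromSpec.app V) :=
    Scheme.Hom.isIso_app hV.fromSpec _ hV.opensRange_fromSpec.ge
  haveI i3 : IsIso ((CohB1.ProjSpace.toSpec n Γ(Y, V)).app (hV.fromSpec ⁻¹ᵁ V)) :=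
    isIso_app_of_eq _ hV.fromSpec_preimage_self (Groth.Agent.S0024.result n Γ(Y, V))
  have h2 : IsIso ((CohB1.ProjSpaceOver.toBase n Y).app V ≫
      (embU n hV).app (CohB1.ProjSpaceOver.toBase n Y ⁻¹ᵁ V)) := by
    rw [h1]
    exact IsIso.comp_isIso' (IsIso.comp_isIso' i2 i3) (isIso_presheaf_map_eqToHom _)
  exact IsIso.of_isIso_comp_right _ ((embU n hV).app (CohB1.ProjSpaceOver.toBase n Y ⁻¹ᵁ V))

theorem isIso_app_toBase (V : Y.Opens) : IsIso ((CohB1.ProjSpaceOver.toBase n Y).app V) :=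
  isIso_app_of_affine _ (fun _ hU => isIso_app_toBase_of_isAffineOpen n Y hU) V

/-- `p_* O_P ≅ O_Y` for the projection `p : P^n_Y ⟶ Y` -/
noncomputable def pushUnitIso :
    (Scheme.Modules.pushforward (CohB1.ProjSpaceOver.toBase n Y)).obj
      (Coh.structureModule (CohB1.ProjSpaceOver n Y)) ≅ Coh.structureModule Y :=
  haveI := Groth.Agent.Helper18PBUnit.isIso_strToPush (CohB1.ProjSpaceOver.toBase n Y)
    (fun U => by
      haveI := isIso_app_toBase n Y U
      exact ConcreteCategory.bijective_of_isIso _)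
  (asIso (Groth.Agent.Helper18PBUnit.strToPush (CohB1.ProjSpaceOver.toBase n Y))).symm

theorem isFinLocFree_structureModule (X : Scheme.{u}) : FlatMod.IsFinLocFree (Coh.structureModule X) := by
  have h : FlatMod.IsFinLocFreeOfRank 1 (Coh.structureModule X) :=
    Groth.Agent.Lib.Helper23.SecTw.isFinLocFreeOfRank_one_of_isInvertible _
      (Groth.Agent.Lib.Helper23.TensorUnit.isInvertible_structureModule X)
  intro x
  obtain ⟨U, hx, e⟩ := h x
  exact ⟨U, 1, hx, e⟩

/-- the structure sheaf of `P^n_Y` is regular -/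
theorem isRegSheaf_structureModule :
    KRR.IsRegSheaf n Y (Coh.structureModule (KRR.PY n Y)) := by
  intro i hi
  have h0 : ¬ ((i = 0 ∧ 0 ≤ (-(i : ℤ))) ∨ (i = n ∧ (-(i : ℤ)) ≤ -((n : ℤ) + 1))) := by
    rintro (⟨h, -⟩ | ⟨h, h'⟩)
    · omega
    · subst h; omega
  have h1 := Groth.Agent.S4471.result Y n i (-(i : ℤ)) h0
  let e : KRR.twF n Y (-(i : ℤ)) (Coh.structureModule (KRR.PY n Y)) ≅ Twist.twistOver n Y (-(i : ℤ)) :=
    Groth.Agent.Lib.Helper23.TensorUnit.tensorUnitIso (Twist.twistOver n Y (-(i : ℤ)))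
  exact IsZero.of_iso h1 ((Coh.RpushAb (KRR.pr n Y) i).mapIso
    ((SheafOfModules.toSheaf _).mapIso e))

theorem isFinLocFree_of_isZero {X : Scheme.{u}} {M : X.Modules} (h : IsZero M) : FlatMod.IsFinLocFree M := by
  intro x
  refine ⟨⊤, 0, trivial, ⟨IsZero.iso ?_ ?_⟩⟩
  · exact (Scheme.Modules.restrictFunctor (⊤ : X.Opens).ι).map_isZero h
  · exact (IsZero.iff_id_eq_zero _).2 (Sigma.hom_ext _ _ (fun i => i.elim0))

instance (X : Scheme.{u}) : (KRR.vbP X).IsClosedUnderIsomorphisms :=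
  ⟨fun e h => Groth.Agent.Lib.Helper1.FLF.isFinLocFree_of_iso e h⟩

instance (X : Scheme.{u}) : (KRR.vbP X).ContainsZero :=
  ⟨⟨0, isZero_zero _, isFinLocFree_of_isZero (isZero_zero _)⟩⟩

/-- isomorphic finite locally free modules have the same class in `K(X)` -/
theorem cl_eq_of_iso {X : Scheme.{u}} {M N : X.Modules} (e : M ≅ N) : KRR.cl X M = KRR.cl X N := by
  by_cases h : FlatMod.IsFinLocFree M
  · exact Groth.Agent.Lib.Helper17.K0a.clSub_of_iso (KRR.vbP X) e h
  · have h' : ¬ FlatMod.IsFinLocFree N := fun hN =>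
      h (Groth.Agent.Lib.Helper1.FLF.isFinLocFree_of_iso e.symm hN)
    classical
    unfold KRR.cl KZero.clSub
    rw [dif_neg h, dif_neg h']

end Groth.Agent.Lib.T2H5.PushUnit
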