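import Mathlib
import Groth.Agent.Lib.T2H5ExtSec
import Groth.Agent.Lib.Helper23FTsub
import Groth.Agent.Lib.Helper26ModLim2
import Groth.Agent.Lib.Helper23FinTypeLocal
import Groth.Agent.Lib.Helper2LocFree
import Groth.Agent.Lib.Helper18Strict6
import Groth.Agent.Lib.T2H5PushUnit
import Groth.Agent.Lib.T2H5ResPropAff
import Groth.Agent.Lib.Helper20StalkExact
set_option backward.isDefEq.respectTransparency.types false

/-!
# T2H5ExtSec2: sections over the complement of the zero locus of a cosection are hit by vector bundles (helper5)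

Namespace `Groth.Agent.Lib.T2H5.ExtSec`.

* `exists_mN_app_eq`: over the locus where `e : E ⟶ O_X` is surjective, the iterated multiplications are surjective.
* `exists_hom_of_section`: for a finite locally free `E` with cosection `e` on a quasi-compact quasi-separated scheme,
  `U` the (affine) open where `e` is surjective, `F` quasi-coherent and `s ∈ F(U)`, there is a finite locally free
  `T` with `ψ : T ⟶ F` whose image contains `s` locally on `U`.
-/

set_option autoImplicit false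
set_option linter.style.haveILetI false
set_option linter.unusedSectionVars false
universe u
open CategoryTheory CategoryTheory.Limits AlgebraicGeometry TopologicalSpace Opposite

namespace Groth.Agent.Lib.T2H5.ExtSec

open Groth.Agent.Lib.Helper23.SecTw Groth.Agent.Lib.Helper23.GenLocus Groth.Agent.Lib.Helper6
open Groth.Agent.Lib.Helper23.LocGen Groth.Agent.Lib.Helper23.TensorMap
open Groth.Agent.Lib.T2H5.RegSES Groth.Agent.Lib.Helper23.QCohLocal Groth.Agent.Lib.Helper23.Extend
open Groth.Agent.Lib.T2H5.MulTrick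

variable {X : Scheme.{u}}

section Surj

variable (E : X.Modules) (e : E ⟶ Coh.structureModule X) (U : X.Opens)

/-- over the locus where `e` is surjective, the iterated multiplication is surjective on sections, locally -/
theorem exists_mN_app_eq
    (h1 : ∀ x ∈ U, ∃ (V : X.Opens) (d : Γ(E, V)), x ∈ V ∧ e.app V d = toS V 1) (N : ℕ) (B : X.Modules)
    (x : X) (hxU : x ∈ U) (V : X.Opens) (hx : x ∈ V) (w : Γ(B, V)) :
    ∃ (V' : X.Opens) (hV' : V' ≤ V) (z : Γ((PhiN E N).obj B, V')), x ∈ V' ∧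
      ((mN E e N).app B).app V' z = res B hV' w := by
  induction N with
  | zero =>
    refine ⟨V, le_rfl, w, hx, ?_⟩
    rw [res_self]
    rfl
  | succ N ih =>
    obtain ⟨V₁, hV₁, z₀, hxV₁, hz₀⟩ := ih
    obtain ⟨V₂, d, hxV₂, hd⟩ := h1 x hxU
    refine ⟨V₁ ⊓ V₂, inf_le_left.trans hV₁,
      tm E ((PhiN E N).obj B) (V₁ ⊓ V₂) (res E inf_le_right d) (res _ inf_le_left z₀), ⟨hxV₁, hxV₂⟩, ?_⟩
    rw [mN_succ_app_tm]
    have h2 : e.app (V₁ ⊓ V₂) (res E inf_le_right d) = toS (V₁ ⊓ V₂) 1 := by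
      rw [app_map e (homOfLE (inf_le_right : V₁ ⊓ V₂ ≤ V₂)) d, hd]
      change resf inf_le_right (1 : Γ(X, V₂)) = 1
      exact map_one _
    have h3 : ((mN E e N).app B).app (V₁ ⊓ V₂) (res _ inf_le_left z₀) = res B (inf_le_left.trans hV₁) w := by
      let μ : (PhiN E N).obj B ⟶ B := (mN E e N).app B
      have h4 : μ.app (V₁ ⊓ V₂) (res _ inf_le_left z₀) = res B inf_le_left (μ.app V₁ z₀) :=
        app_map μ (homOfLE (inf_le_left : V₁ ⊓ V₂ ≤ V₁)) z₀
      have h5 : μ.app V₁ z₀ = res B hV₁ w := hz₀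
      rw [h5, res_res] at h4
      exact h4
    rw [h2, h3, ofS_toS, one_smul]

end Surj

section FTSub

open Groth.Agent.Lib.Helper23.FinType Groth.Agent.Lib.Helper23.FTsub

/-- on a quasi-compact quasi-separated scheme, an epimorphism from a quasi-coherent module onto a quasi-coherent module
of finite type restricts to an epimorphism on some quasi-coherent submodule of finite type -/
theorem exists_ft_sub_epi [CompactSpace X] [QuasiSeparatedSpace X] {P T : X.Modules} [P.IsQuasicoherent]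
    [T.IsQuasicoherent] [SheafOfModules.IsFiniteType (R := X.ringCatSheaf) T] (π : P ⟶ T) [Epi π] :
    ∃ (P' : X.Modules) (i : P' ⟶ P), Mono i ∧ P'.IsQuasicoherent ∧
      SheafOfModules.IsFiniteType (R := X.ringCatSheaf) P' ∧ Epi (i ≫ π) := by
  classical
  -- a finite affine cover
  have haff : ∀ x : X, ∃ W : X.Opens, IsAffineOpen W ∧ x ∈ W := by
    intro x
    obtain ⟨_, ⟨W, hW, rfl⟩, hxW, -⟩ :=
      X.isBasis_affineOpens.exists_subset_of_mem_open (Set.mem_univ x) isOpen_univ
    exact ⟨W, hW, hxW⟩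
  choose W hW hxW using haff
  obtain ⟨T₀, hT₀⟩ : ∃ T₀ : Finset X, (⊤ : X.Opens) ≤ ⨆ x : T₀, W x := by
    have hc : IsCompact ((⊤ : X.Opens) : Set X) := by
      simpa using isCompact_univ
    obtain ⟨T₀, hT₀⟩ := hc.elim_finite_subcover (fun x => (W x : Set X)) (fun x => (W x).2)
      (fun x _ => Set.mem_iUnion.2 ⟨x, hxW x⟩)
    refine ⟨T₀, fun x hx => ?_⟩
    obtain ⟨y, hy⟩ := Set.mem_iUnion.1 (hT₀ hx)
    obtain ⟨hyT, hxy⟩ := Set.mem_iUnion.1 hy
    exact Opens.mem_iSup.2 ⟨⟨y, hyT⟩, hxy⟩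
  -- generators and their lifts
  have hgen : ∀ x : X, ∃ (n : ℕ) (t : Fin n → Γ(T, W x)), Submodule.span Γ(X, W x) (Set.range t) = ⊤ := by
    intro x
    haveI : Module.Finite Γ(X, W x) Γ(T, W x) := finite_of_isFiniteType T (hW x)
    exact Module.Finite.exists_fin
  choose n t ht using hgen
  have hlift : ∀ (x : X) (k : Fin (n x)), ∃ u : Γ(P, W x), π.app (W x) u = t x k := fun x k =>
    surjective_app_of_epi π (hW x) (t x k)
  choose u hu using hlift
  let a₀ : Σ V : X.affineOpens, Γ(P, V.1) := ⟨⟨⊥, isAffineOpen_bot X⟩, 0⟩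
  let l : List (Σ V : X.affineOpens, Γ(P, V.1)) :=
    T₀.toList.flatMap (fun x => (List.finRange (n x)).map (fun k => ⟨⟨W x, hW x⟩, u x k⟩))
  obtain ⟨P', i, hi, hq, hf, hmem⟩ := exists_ft_sub_list P a₀ l
  haveI := hq
  refine ⟨P', i, hi, hq, hf, ?_⟩
  refine Groth.Agent.Lib.T2H5.ResPropAff.epi_of_surjective_app_cover (i ≫ π) (fun x : T₀ => W x.1) ?_
    (fun x => hW x.1) (fun x => ?_)
  · rw [IsOpenCover, eq_top_iff]
    exact hT₀
  · -- surjectivity over `W x`
    let L : Γ(P', W x.1) →ₗ[Γ(X, W x.1)] Γ(T, W x.1) :=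
      { toFun := fun g => (i ≫ π).app (W x.1) g
        map_add' := fun a b => map_add _ a b
        map_smul' := fun r a => Scheme.Modules.Hom.app_smul (i ≫ π) r a }
    have hrange : LinearMap.range L = ⊤ := by
      rw [eq_top_iff, ← ht x.1]
      refine Submodule.span_le.2 ?_
      rintro _ ⟨k, rfl⟩
      have hk : (⟨⟨W x.1, hW x.1⟩, u x.1 k⟩ : Σ V : X.affineOpens, Γ(P, V.1)) ∈ a₀ :: l := by
        refine List.mem_cons_of_mem _ (List.mem_flatMap.2 ⟨x.1, Finset.mem_toList.2 x.2, ?_⟩)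
        exact List.mem_map.2 ⟨k, List.mem_finRange k, rfl⟩
      obtain ⟨g, hg⟩ := hmem _ hk
      refine ⟨g, ?_⟩
      change π.app (W x.1) (i.app (W x.1) g) = t x.1 k
      rw [hg, hu]
    intro y
    have hy : y ∈ LinearMap.range L := by rw [hrange]; trivial
    obtain ⟨g, hg⟩ := hy
    exact ⟨g, hg⟩

end FTSub

section Main

open Groth.Agent.Lib.Helper23.FinType

variable [CompactSpace X] [QuasiSeparatedSpace X] (E : X.Modules) (hE : FlatMod.IsFinLocFree E)
  (e : E ⟶ Coh.structureModule X) (U : X.Opens) (hUaff : IsAffineOpen U)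

include hE hUaff in
/-- **extension of sections by vector bundles**: let `e : E ⟶ O_X` be a cosection of a finite locally free module on a
quasi-compact quasi-separated scheme and `U` an affine open such that `e` is surjective over `U` and `D(e d) ⊆ U` for
every local section `d` of `E`. Then for every quasi-coherent `F` and `s ∈ F(U)` there is a finite locally free `T`
and `ψ : T ⟶ F` whose image contains `s` locally on `U`. -/
theorem exists_hom_of_section
    (h1 : ∀ x ∈ U, ∃ (V : X.Opens) (d : Γ(E, V)), x ∈ V ∧ e.app V d = toS V 1)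
    (h2 : ∀ (W : X.Opens) (d : Γ(E, W)), X.basicOpen (ofS W (e.app W d)) ≤ U)
    (F : X.Modules) [F.IsQuasicoherent] (s : Γ(F, U)) :
    ∃ (T : X.Modules) (ψ : T ⟶ F), FlatMod.IsFinLocFree T ∧
      ∀ x ∈ U, ∃ (V : X.Opens) (hV : V ≤ U) (t : Γ(T, V)), x ∈ V ∧ ψ.app V t = res F hV s := by
  classical
  -- instances
  have hEfp := Groth.Agent.Lib.Helper2.LocFree.isFP_of_isFinLocFree E hE
  haveI : E.IsQuasicoherent := Groth.Agent.Helper18Strict.isQCoh_of_isFP E hEfp
  haveI : SheafOfModules.IsFinitePresentation (R := X.ringCatSheaf) E := hEfp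
  haveI : SheafOfModules.IsFiniteType (R := X.ringCatSheaf) E := inferInstance
  haveI : IsAffine (U : Scheme.{u}) := hUaff
  haveI : QuasiCompact U.ι := inferInstance
  haveI : QuasiSeparated U.ι := inferInstance
  haveI : (F.restrict U.ι).IsQuasicoherent := Scheme.Modules.isQuasicoherent_restrictFunctor U.ι F
  haveI : (H U F).IsQuasicoherent := isQuasicoherent_pushforward U.ι _
  haveI : (Coh.structureModule X).IsQuasicoherent :=
    Groth.Agent.Lib.Helper20.OmegaAff.isQuasicoherent_structureModule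
  haveI : (G U F s).IsQuasicoherent := isQuasicoherent_pullback _ _
  haveI : SheafOfModules.IsFiniteType (R := X.ringCatSheaf) (Coh.structureModule X) := by
    have h := Groth.Agent.Lib.Helper2.LocFree.isFP_of_isFinLocFree _
      (Groth.Agent.Lib.T2H5.PushUnit.isFinLocFree_structureModule X)
    haveI := h
    infer_instance
  set p : G U F s ⟶ Coh.structureModule X := pG U F s with hp
  set q : G U F s ⟶ F := qG U F s with hq
  -- Step 1: the cokernel of `p` vanishes on `U`, hence is killed by an iterated multiplication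
  let C : X.Modules := cokernel p
  let c : Coh.structureModule X ⟶ C := cokernel.π p
  haveI : C.IsQuasicoherent := isQuasicoherent_cokernel p
  haveI : SheafOfModules.IsFiniteType (R := X.ringCatSheaf) C := isFiniteType_of_epi c
  have hC0 : ∀ (V : X.Opens), V ≤ U → ∀ m : Γ(C, V), m = 0 := by
    intro V hV m
    have hloc : ∀ y ∈ V, ∃ (V' : X.Opens) (hV' : V' ≤ V), y ∈ V' ∧ res C hV' m = 0 := by
      intro y hy
      obtain ⟨_, ⟨V', hV'a, rfl⟩, hyV', hV'V⟩ := X.isBasis_affineOpens.exists_subset_of_mem_open hy V.2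
      have hV'a' : IsAffineOpen V' := hV'a
      refine ⟨V', hV'V, hyV', ?_⟩
      obtain ⟨r, hr⟩ := surjective_app_of_epi c hV'a' (res C hV'V m)
      obtain ⟨g, hg⟩ := exists_pG_app_eq U F s (hV'V.trans hV) (ofS V' r)
      have h3 : c.app V' (p.app V' g) = 0 := by
        have h4 : p ≫ c = 0 := cokernel.condition p
        exact congrArg (fun φ : G U F s ⟶ C => φ.app V' g) h4
      rw [← hr, ← toS_ofS V' r, ← hg]
      exact h3
    choose V' hV' hyV' hres using hloc
    refine (modSheaf C).eq_of_locally_eq' (fun x : V => V' x.1 x.2) V (fun x => homOfLE (hV' x.1 x.2)) ?_ _ _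
      (fun x => ?_)
    · intro y hy
      exact Opens.mem_iSup.2 ⟨⟨y, hy⟩, hyV' y hy⟩
    · change res C (hV' x.1 x.2) m = res C (hV' x.1 x.2) 0
      rw [hres x.1 x.2, res_zero]
  obtain ⟨N₁, hN₁⟩ := exists_mN_app_eq_zero (e := e) C U h2 hC0
  let T₁ : X.Modules := (PhiN E N₁).obj (Coh.structureModule X)
  let ε₁ : T₁ ⟶ Coh.structureModule X := (mN E e N₁).app (Coh.structureModule X)
  have hε₁c : ε₁ ≫ c = 0 := by
    have h3 := (mN E e N₁).naturality c
    change (PhiN E N₁).map c ≫ (mN E e N₁).app C = ε₁ ≫ c at h3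
    rw [← h3, hN₁, comp_zero]
  have hT₁ : FlatMod.IsFinLocFree T₁ :=
    isFinLocFree_PhiN E hE N₁ _ (Groth.Agent.Lib.T2H5.PushUnit.isFinLocFree_structureModule X)
  have hT₁fp := Groth.Agent.Lib.Helper2.LocFree.isFP_of_isFinLocFree T₁ hT₁
  haveI : T₁.IsQuasicoherent := Groth.Agent.Helper18Strict.isQCoh_of_isFP T₁ hT₁fp
  haveI : SheafOfModules.IsFinitePresentation (R := X.ringCatSheaf) T₁ := hT₁fp
  haveI : SheafOfModules.IsFiniteType (R := X.ringCatSheaf) T₁ := inferInstance
  -- Step 2: `ε₁` factors through the image of `p`; pull back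
  let Im : X.Modules := kernel c
  haveI : Im.IsQuasicoherent := isQuasicoherent_kernel c
  let p' : G U F s ⟶ Im := Abelian.factorThruImage p
  haveI : Epi p' := inferInstanceAs (Epi (Abelian.factorThruImage p))
  have hp' : p' ≫ kernel.ι c = p := Abelian.image.fac p
  let ε₁' : T₁ ⟶ Im := kernel.lift c ε₁ hε₁c
  have hε₁' : ε₁' ≫ kernel.ι c = ε₁ := kernel.lift_ι c ε₁ hε₁c
  let P : X.Modules := pullback p' ε₁'
  haveI : P.IsQuasicoherent := isQuasicoherent_pullback p' ε₁'
  let pr₁ : P ⟶ G U F s := pullback.fst p' ε₁'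
  let pr₂ : P ⟶ T₁ := pullback.snd p' ε₁'
  haveI : Epi pr₂ := inferInstanceAs (Epi (pullback.snd p' ε₁'))
  have hsq : pr₁ ≫ p = pr₂ ≫ ε₁ := by
    rw [← hp', ← hε₁', ← Category.assoc, ← Category.assoc]
    congr 1
    exact pullback.condition
  -- Step 3: a finite type submodule of `P` still surjecting onto `T₁`
  obtain ⟨P', i, hi, hP'q, hP'f, hP'epi⟩ := exists_ft_sub_epi pr₂
  haveI := hi
  haveI := hP'q
  haveI := hP'f
  haveI := hP'epi
  let g : P' ⟶ T₁ := i ≫ pr₂
  let K' : X.Modules := kernel g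
  haveI : K'.IsQuasicoherent := isQuasicoherent_kernel g
  haveI : SheafOfModules.IsFiniteType (R := X.ringCatSheaf) K' :=
    Groth.Agent.Lib.Helper26.ModLim2.isFiniteType_kernel_of_epi hP'f hT₁fp g
  have hK0 : ∀ (V : X.Opens), V ≤ U → ∀ m : Γ(K', V), m = 0 := by
    intro V hV m
    apply Groth.Agent.Lib.Helper20.StalkExact.injective_app_of_mono (kernel.ι g) V
    rw [map_zero]
    apply Groth.Agent.Lib.Helper20.StalkExact.injective_app_of_mono i V
    rw [map_zero]
    set y : Γ(P, V) := i.app V ((kernel.ι g).app V m) with hy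
    have hy2 : pr₂.app V y = 0 := by
      have h4 : kernel.ι g ≫ g = 0 := kernel.condition g
      exact congrArg (fun φ : K' ⟶ T₁ => φ.app V m) h4
    have hy1 : pr₁.app V y = 0 := by
      apply pG_app_injective U F s hV
      have h5 : p.app V (pr₁.app V y) = ε₁.app V (pr₂.app V y) :=
        congrArg (fun φ : P ⟶ Coh.structureModule X => φ.app V y) hsq
      rw [h5, hy2, map_zero]
    apply pullback_sections_ext p' ε₁' V
    · change pr₁.app V y = pr₁.app V 0
      rw [hy1, map_zero]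
    · change pr₂.app V y = pr₂.app V 0
      rw [hy2, map_zero]
  -- Step 4: the tensor trick
  obtain ⟨N₂, hN₂⟩ := exists_mN_app_eq_zero (e := e) K' U h2 hK0
  let S : ShortComplex X.Modules := ShortComplex.mk (kernel.ι g) g (kernel.condition g)
  have hS : S.ShortExact :=
    { exact := ShortComplex.exact_kernel g
      mono_f := inferInstanceAs (Mono (kernel.ι g))
      epi_g := inferInstanceAs (Epi g) }
  obtain ⟨lam, -, hlam⟩ := exists_lift_of_mN_eq_zero E e hE S hS N₂ hN₂
  let T₂ : X.Modules := (PhiN E N₂).obj T₁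
  have hT₂ : FlatMod.IsFinLocFree T₂ := isFinLocFree_PhiN E hE N₂ T₁ hT₁
  let lam' : T₂ ⟶ P' := lam
  have hlam' : lam' ≫ g = (mN E e N₂).app T₁ := hlam
  let γ : T₂ ⟶ G U F s := lam' ≫ i ≫ pr₁
  have hγ : γ ≫ p = (mN E e N₂).app T₁ ≫ ε₁ := by
    change (lam' ≫ i ≫ pr₁) ≫ p = _
    rw [Category.assoc, Category.assoc, hsq, ← Category.assoc i, ← Category.assoc lam']
    change (lam' ≫ g) ≫ ε₁ = _
    rw [hlam']
  refine ⟨T₂, γ ≫ q, hT₂, fun x hxU => ?_⟩
  -- Step 5: the image contains `s` near `x`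
  obtain ⟨V₁, hV₁, t₁, hxV₁, ht₁⟩ :=
    exists_mN_app_eq E e U h1 N₁ (Coh.structureModule X) x hxU U hxU (toS U 1)
  obtain ⟨V₂, hV₂, t₂, hxV₂, ht₂⟩ := exists_mN_app_eq E e U h1 N₂ T₁ x hxU V₁ hxV₁ t₁
  have hV₂U : V₂ ≤ U := hV₂.trans hV₁
  refine ⟨V₂, hV₂U, t₂, hxV₂, ?_⟩
  have h6 : p.app V₂ (γ.app V₂ t₂) = toS V₂ 1 := by
    have h7 : p.app V₂ (γ.app V₂ t₂) = ε₁.app V₂ (((mN E e N₂).app T₁).app V₂ t₂) :=
      congrArg (fun φ : T₂ ⟶ Coh.structureModule X => φ.app V₂ t₂) hγ
    have h8 : ε₁.app V₂ (res T₁ hV₂ t₁) = res _ hV₂ (ε₁.app V₁ t₁) :=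
      app_map ε₁ (homOfLE hV₂) t₁
    have h9 : ε₁.app V₁ t₁ = res (Coh.structureModule X) hV₁ (toS U 1) := ht₁
    rw [h7, ht₂, h8, h9, res_res]
    change resf hV₂U (1 : Γ(X, U)) = 1
    exact map_one _
  change q.app V₂ (γ.app V₂ t₂) = res F hV₂U s
  rw [hq, qG_app_eq U F s hV₂U, ← hp, h6, ofS_toS, one_smul]

end Main

end Groth.Agent.Lib.T2H5.ExtSec
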