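import Mathlib
import Groth.Agent.Lib.T2H5ExtSec2
import Groth.Agent.Lib.Helper23Serre
import Groth.Agent.Lib.Helper1FLF1
set_option backward.isDefEq.respectTransparency.types false

/-!
# T2H5ResPropIdeal: the resolution property from cosections of vector bundles cutting out an affine cover (helper5)

Namespace `Groth.Agent.Lib.T2H5.ResPropIdeal`.

* `locImSub φ V x hx`: sections of the target which are, near `x`, in the image of `φ`.
* `hasResolutionProperty_of_cosections`: if `X` is quasi-compact and quasi-separated with a finite affine open cover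
  `U j`, and for every `j` there is a finite locally free `E j` with a cosection `e j : E j ⟶ O_X` which is surjective
  exactly over `U j`, then `X` has the resolution property.
-/

set_option autoImplicit false
set_option linter.style.haveILetI false
set_option linter.unusedSectionVars false
universe u
open CategoryTheory CategoryTheory.Limits AlgebraicGeometry TopologicalSpace Opposite

namespace Groth.Agent.Lib.T2H5.ResPropIdeal

open Groth.Agent.Lib.Helper23.SecTw Groth.Agent.Lib.Helper23.GenLocus Groth.Agent.Lib.Helper6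
open Groth.Agent.Lib.Helper23.LocGen Groth.Agent.Lib.Helper23.TensorMap
open Groth.Agent.Lib.T2H5.RegSES Groth.Agent.Lib.Helper23.QCohLocal Groth.Agent.Lib.Helper23.Extend
open Groth.Agent.Lib.T2H5.MulTrick Groth.Agent.Lib.T2H5.ExtSec Groth.Agent.Lib.Helper2.Push

variable {X : Scheme.{u}}

/-- the sections of `N` over `V` which are in the image of `φ` near the point `x` -/
noncomputable def locImSub {M N : X.Modules} (φ : M ⟶ N) (V : X.Opens) (x : X) (hx : x ∈ V) :
    Submodule Γ(X, V) Γ(N, V) where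
  carrier := {t | ∃ (V' : X.Opens) (hV' : V' ≤ V), x ∈ V' ∧ ∃ a : Γ(M, V'), φ.app V' a = res N hV' t}
  zero_mem' := ⟨V, le_rfl, hx, 0, by rw [map_zero, res_zero]⟩
  add_mem' := by
    rintro t t' ⟨V₁, hV₁, hx₁, a₁, h₁⟩ ⟨V₂, hV₂, hx₂, a₂, h₂⟩
    refine ⟨V₁ ⊓ V₂, inf_le_left.trans hV₁, ⟨hx₁, hx₂⟩, res M inf_le_left a₁ + res M inf_le_right a₂, ?_⟩
    have e1 : φ.app (V₁ ⊓ V₂) (res M inf_le_left a₁) = res N inf_le_left (φ.app V₁ a₁) :=
      app_map φ (homOfLE (inf_le_left : V₁ ⊓ V₂ ≤ V₁)) a₁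
    have e2 : φ.app (V₁ ⊓ V₂) (res M inf_le_right a₂) = res N inf_le_right (φ.app V₂ a₂) :=
      app_map φ (homOfLE (inf_le_right : V₁ ⊓ V₂ ≤ V₂)) a₂
    rw [map_add, e1, e2, h₁, h₂, res_res, res_res, res_add']
  smul_mem' := by
    rintro r t ⟨V₁, hV₁, hx₁, a₁, h₁⟩
    refine ⟨V₁, hV₁, hx₁, resf hV₁ r • a₁, ?_⟩
    rw [Scheme.Modules.Hom.app_smul, h₁, res_smul]

theorem mem_locImSub {M N : X.Modules} (φ : M ⟶ N) (V : X.Opens) (x : X) (hx : x ∈ V) (t : Γ(N, V)) :
    t ∈ locImSub φ V x hx ↔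
      ∃ (V' : X.Opens) (hV' : V' ≤ V), x ∈ V' ∧ ∃ a : Γ(M, V'), φ.app V' a = res N hV' t := Iff.rfl

/-- **resolution property from cosections**: a quasi-compact quasi-separated scheme with a finite affine open cover
`U j`, each `U j` being exactly the locus where a cosection `e j : E j ⟶ O_X` of a finite locally free module is
surjective, has the resolution property. -/
theorem hasResolutionProperty_of_cosections [CompactSpace X] [QuasiSeparatedSpace X] {m : ℕ}
    (U : Fin m → X.Opens) (hUaff : ∀ j, IsAffineOpen (U j)) (hcov : ⨆ j, U j = ⊤)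
    (E : Fin m → X.Modules) (hE : ∀ j, FlatMod.IsFinLocFree (E j))
    (e : ∀ j, E j ⟶ Coh.structureModule X)
    (h1 : ∀ j, ∀ x ∈ U j, ∃ (V : X.Opens) (d : Γ(E j, V)), x ∈ V ∧ (e j).app V d = toS V 1)
    (h2 : ∀ j, ∀ (W : X.Opens) (d : Γ(E j, W)), X.basicOpen (ofS W ((e j).app W d)) ≤ U j) :
    PerfAux.HasResolutionProperty X := by
  classical
  intro F hFq hFf
  haveI : F.IsQuasicoherent := hFq
  haveI : SheafOfModules.IsFiniteType (R := X.ringCatSheaf) F := hFf
  -- generators of `F` over each `U j`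
  have hgen : ∀ j, ∃ (r : ℕ) (sg : Fin r → Γ(F, U j)), Submodule.span Γ(X, U j) (Set.range sg) = ⊤ := by
    intro j
    haveI : Module.Finite Γ(X, U j) Γ(F, U j) :=
      Groth.Agent.Lib.Helper23.FinType.finite_of_isFiniteType F (hUaff j)
    exact Module.Finite.exists_fin
  choose r sg hsg using hgen
  have hls : ∀ j, LocSpan F (U j) (sg j) := fun j =>
    locSpan_of_isLocOn (hUaff j) (IsLocOn.of_isQuasicoherent (hUaff j) F) (sg j) (hsg j)
  -- vector bundles hitting the generators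
  have hex : ∀ (j : Fin m) (k : Fin (r j)), ∃ (T : X.Modules) (ψ : T ⟶ F), FlatMod.IsFinLocFree T ∧
      ∀ x ∈ U j, ∃ (V : X.Opens) (hV : V ≤ U j) (t : Γ(T, V)), x ∈ V ∧ ψ.app V t = res F hV (sg j k) :=
    fun j k => exists_hom_of_section (E j) (hE j) (e j) (U j) (hUaff j) (h1 j) (h2 j) F (sg j k)
  choose T ψ hT hψ using hex
  let f : (Σ j : Fin m, Fin (r j)) → X.Modules := fun p => T p.1 p.2
  let Φ : (⨁ f) ⟶ F := biproduct.desc (fun p => ψ p.1 p.2)
  refine ⟨⨁ f, Φ, Groth.Agent.Lib.Helper1.FLF.isFinLocFree_biproduct f (fun p => hT p.1 p.2), ?_⟩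
  apply Groth.Agent.Lib.Helper23.Serre.epi_of_locally_surjective
  intro V t x hx
  obtain ⟨j, hxj⟩ : ∃ j, x ∈ U j := by
    have hxtop : x ∈ (⨆ j, U j : X.Opens) := by rw [hcov]; trivial
    exact Opens.mem_iSup.1 hxtop
  obtain ⟨V', hV', hxV', hmem⟩ := hls j (V ⊓ U j) inf_le_right (res F inf_le_left t) x ⟨hx, hxj⟩
  have hsub : Submodule.span Γ(X, V') (Set.range fun k => res F (hV'.trans inf_le_right) (sg j k)) ≤
      locImSub Φ V' x hxV' := by
    refine Submodule.span_le.2 ?_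
    rintro _ ⟨k, rfl⟩
    obtain ⟨V'', hV'', tk, hxV'', htk⟩ := hψ j k x hxj
    refine ⟨V' ⊓ V'', inf_le_left, ⟨hxV', hxV''⟩,
      (biproduct.ι f ⟨j, k⟩).app (V' ⊓ V'') (res (T j k) inf_le_right tk), ?_⟩
    have e1 : Φ.app (V' ⊓ V'') ((biproduct.ι f ⟨j, k⟩).app (V' ⊓ V'') (res (T j k) inf_le_right tk)) =
        (ψ j k).app (V' ⊓ V'') (res (T j k) inf_le_right tk) := by
      have h3 : biproduct.ι f ⟨j, k⟩ ≫ Φ = ψ j k := biproduct.ι_desc _ _
      exact congrArg (fun φ : T j k ⟶ F => φ.app (V' ⊓ V'') (res (T j k) inf_le_right tk)) h3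
    have e2 : (ψ j k).app (V' ⊓ V'') (res (T j k) inf_le_right tk) =
        res F inf_le_right ((ψ j k).app V'' tk) :=
      app_map (ψ j k) (homOfLE (inf_le_right : V' ⊓ V'' ≤ V'')) tk
    rw [e1, e2, htk, res_res, res_res]
  obtain ⟨V₃, hV₃, hxV₃, a, ha⟩ := hsub hmem
  refine ⟨V₃, hV₃.trans (hV'.trans inf_le_left), hxV₃, a, ?_⟩
  rw [ha, res_res, res_res]

end Groth.Agent.Lib.T2H5.ResPropIdeal
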