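import Mathlib
import Groth.Agent.Lib.T2H5ResPropIdeal
import Groth.Agent.Lib.Helper23IdealSec
import Groth.Agent.Lib.Helper20OmegaAff
set_option backward.isDefEq.respectTransparency.types false

/-!
# T2H5ResPropIdeal2: the resolution property and the ideals of the complements of an affine cover (helper5)

Namespace `Groth.Agent.Lib.T2H5.ResPropIdeal`.

* `fg_ideal_of_isFT`, `isCompact_inf_of_support`, `quasiSeparatedSpace_of_ideals`, `compactSpace_of_cover`.
* `cosection_surjective`, `basicOpen_cosection_le`: a quotient `E ⟶ I` of an ideal with `V(I) = X ∖ U` gives a cosection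
  of `E` surjective exactly over `U`.
* `main`: **S7242**.
-/

set_option autoImplicit false
set_option linter.style.haveILetI false
set_option linter.unusedSectionVars false
universe u
open CategoryTheory CategoryTheory.Limits AlgebraicGeometry TopologicalSpace Opposite

namespace Groth.Agent.Lib.T2H5.ResPropIdeal

open Groth.Agent.Lib.Helper23.SecTw Groth.Agent.Lib.Helper23.GenLocus Groth.Agent.Lib.Helper6
open Groth.Agent.Lib.Helper23.LocGen Groth.Agent.Lib.Helper23.TensorMap
open Groth.Agent.Lib.T2H5.RegSES Groth.Agent.Lib.Helper23.QCohLocal Groth.Agent.Lib.Helper23.Extend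
open Groth.Agent.Lib.T2H5.MulTrick Groth.Agent.Lib.T2H5.ExtSec Groth.Agent.Lib.Helper2.Push
open Groth.Agent.Lib.Helper23.IdealSec Groth.Agent.Lib.Helper20.OmegaAff

variable {X : Scheme.{u}}

/-- a finite type ideal module has finitely generated ideals over affine opens -/
theorem fg_ideal_of_isFT (J : X.IdealSheafData) (hJ : CohB1.IsFT (ClSub.idealMod J)) (W : X.affineOpens) :
    (J.ideal W).FG := by
  haveI : SheafOfModules.IsFiniteType (R := X.ringCatSheaf) (ClSub.idealMod J) := hJ
  haveI : Module.Finite Γ(X, W.1) Γ(ClSub.idealMod J, W.1) :=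
    Groth.Agent.Lib.Helper23.FinType.finite_of_isFiniteType (ClSub.idealMod J) W.2
  let L : Γ(ClSub.idealMod J, W.1) →ₗ[Γ(X, W.1)] Γ(X, W.1) :=
    { toFun := fun j => ofS W.1 ((ClSub.idealModι J).app W.1 j)
      map_add' := fun a b => by rw [map_add]; rfl
      map_smul' := fun r a => by rw [Scheme.Modules.Hom.app_smul]; rfl }
  have hrange : LinearMap.range L = J.ideal W := by
    apply le_antisymm
    · rintro _ ⟨j, rfl⟩
      exact ι_mem_ideal J W j
    · intro a ha
      obtain ⟨j, hj⟩ := exists_ι_eq J W a ha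
      exact ⟨j, by change ofS W.1 ((ClSub.idealModι J).app W.1 j) = a; rw [hj, ofS_toS]⟩
  rw [← hrange, LinearMap.range_eq_map]
  exact Submodule.FG.map L Module.Finite.fg_top

/-- the complement of the support of a finite type ideal meets an affine open in a compact set -/
theorem isCompact_inf_of_support (J : X.IdealSheafData) (W : X.affineOpens) (hfg : (J.ideal W).FG)
    (U : X.Opens) (hsupp : (J.support : Set X) = (U : Set X)ᶜ) : IsCompact ((U : Set X) ∩ (W.1 : Set X)) := by
  classical
  obtain ⟨S, hS⟩ := hfg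
  have hS' : Ideal.span (S : Set Γ(X, W.1)) = J.ideal W := hS
  have heq : (U : Set X) ∩ (W.1 : Set X) = ⋃ f ∈ S, (X.basicOpen f : Set X) := by
    ext y
    simp only [Set.mem_inter_iff, Set.mem_iUnion, SetLike.mem_coe, exists_prop]
    constructor
    · rintro ⟨hyU, hyW⟩
      have hy : y ∉ J.support := by
        intro h
        have : y ∈ (J.support : Set X) := h
        rw [hsupp] at this
        exact this hyU
      rw [Scheme.IdealSheafData.mem_support_iff_of_mem (U := W) hyW, ← hS', Scheme.zeroLocus_span,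
        Scheme.mem_zeroLocus_iff] at hy
      push Not at hy
      obtain ⟨f, hf, hyf⟩ := hy
      exact ⟨f, hf, hyf⟩
    · rintro ⟨f, hf, hyf⟩
      have hyW : y ∈ W.1 := X.basicOpen_le f hyf
      refine ⟨?_, hyW⟩
      by_contra hyU
      have hy : y ∈ J.support := by
        have : y ∈ (J.support : Set X) := by rw [hsupp]; exact hyU
        exact this
      have hfJ : f ∈ J.ideal W := by rw [← hS']; exact Ideal.subset_span hf
      exact not_mem_basicOpen_of_mem_support J W f hfJ y hyW hy hyf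
  rw [heq]
  exact S.isCompact_biUnion (fun f _ => (W.2.basicOpen f).isCompact)

theorem compactSpace_of_cover {m : ℕ} (U : Fin m → X.Opens) (hUaff : ∀ j, IsAffineOpen (U j))
    (hcov : ⨆ j, U j = ⊤) : CompactSpace X := by
  constructor
  have h : (Set.univ : Set X) = ⋃ j, (U j : Set X) := by
    have h1 : ((⨆ j, U j : X.Opens) : Set X) = ⋃ j, (U j : Set X) := Opens.coe_iSup U
    rw [← h1, hcov]
    rfl
  rw [h]
  exact isCompact_iUnion (fun j => (hUaff j).isCompact)

theorem quasiSeparatedSpace_of_ideals {m : ℕ} (U : Fin m → X.Opens) (hUaff : ∀ j, IsAffineOpen (U j))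
    (hcov : ⨆ j, U j = ⊤) (I : Fin m → X.IdealSheafData)
    (hIft : ∀ j, CohB1.IsFT (ClSub.idealMod (I j)))
    (hIsupp : ∀ j, ((I j).support : Set X) = (U j : Set X)ᶜ) : QuasiSeparatedSpace X := by
  refine Scheme.quasiSeparatedSpace_of_isOpenCover U ?_ hUaff (fun j k => ?_)
  · rw [IsOpenCover, hcov]
  · exact isCompact_inf_of_support (I j) ⟨U k, hUaff k⟩ (fg_ideal_of_isFT (I j) (hIft j) ⟨U k, hUaff k⟩)
      (U j) (hIsupp j)

section Cosection

variable (J : X.IdealSheafData) (U : X.Opens) (hsupp : (J.support : Set X) = (U : Set X)ᶜ)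
  (E : X.Modules) (π : E ⟶ ClSub.idealMod J)

include hsupp in
/-- `D(e d) ⊆ U` for the cosection `e = E ⟶ J ⟶ O_X` -/
theorem basicOpen_cosection_le (W : X.Opens) (d : Γ(E, W)) :
    X.basicOpen (ofS W ((π ≫ ClSub.idealModι J).app W d)) ≤ U := by
  intro y hy
  by_contra hyU
  have hyW : y ∈ W := X.basicOpen_le _ hy
  have hysupp : y ∈ J.support := by
    have : y ∈ (J.support : Set X) := by rw [hsupp]; exact hyU
    exact this
  obtain ⟨_, ⟨W', hW'a, rfl⟩, hyW', hW'W⟩ := X.isBasis_affineOpens.exists_subset_of_mem_open hyW W.2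
  have hW'a' : IsAffineOpen W' := hW'a
  have h1 : ofS W' ((ClSub.idealModι J).app W' (π.app W' (res E hW'W d))) ∈ J.ideal ⟨W', hW'a'⟩ :=
    ι_mem_ideal J ⟨W', hW'a'⟩ _
  have h2 : ofS W' ((ClSub.idealModι J).app W' (π.app W' (res E hW'W d))) =
      resf hW'W (ofS W ((π ≫ ClSub.idealModι J).app W d)) := by
    have h3 : (π ≫ ClSub.idealModι J).app W' (res E hW'W d) =
        res _ hW'W ((π ≫ ClSub.idealModι J).app W d) :=
      app_map (π ≫ ClSub.idealModι J) (homOfLE hW'W) d
    exact congrArg (ofS W') h3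
  rw [h2] at h1
  have h4 : y ∈ X.basicOpen (resf hW'W (ofS W ((π ≫ ClSub.idealModι J).app W d))) := by
    rw [Scheme.basicOpen_res]
    exact ⟨hyW', hy⟩
  exact not_mem_basicOpen_of_mem_support J ⟨W', hW'a'⟩ _ h1 y hyW' hysupp h4

include hsupp in
/-- the cosection `e = E ⟶ J ⟶ O_X` is surjective over `U` -/
theorem cosection_surjective [E.IsQuasicoherent] [Epi π] (x : X) (hx : x ∈ U) :
    ∃ (V : X.Opens) (d : Γ(E, V)), x ∈ V ∧ (π ≫ ClSub.idealModι J).app V d = toS V 1 := by
  have hxs : x ∉ J.support := by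
    intro h
    have : x ∈ (J.support : Set X) := h
    rw [hsupp] at this
    exact this hx
  obtain ⟨_, ⟨W, hWa, rfl⟩, hxW, -⟩ :=
    X.isBasis_affineOpens.exists_subset_of_mem_open (Set.mem_univ x) isOpen_univ
  have hWa' : IsAffineOpen W := hWa
  rw [Scheme.IdealSheafData.mem_support_iff_of_mem (U := ⟨W, hWa'⟩) hxW, Scheme.mem_zeroLocus_iff] at hxs
  push Not at hxs
  obtain ⟨f, hf, hxf⟩ := hxs
  obtain ⟨j, hj⟩ := exists_ι_eq J ⟨W, hWa'⟩ f hf
  obtain ⟨d₀, hd₀⟩ := Groth.Agent.Lib.Helper23.FinType.surjective_app_of_epi π hWa' j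
  have hunit : IsUnit (resf (X.basicOpen_le f) f) := RingedSpace.isUnit_res_basicOpen _ f
  obtain ⟨u, hu⟩ := hunit
  refine ⟨X.basicOpen f, (↑u⁻¹ : Γ(X, X.basicOpen f)) • res E (X.basicOpen_le f) d₀, hxf, ?_⟩
  have h1 : (π ≫ ClSub.idealModι J).app (X.basicOpen f) (res E (X.basicOpen_le f) d₀) =
      res _ (X.basicOpen_le f) ((π ≫ ClSub.idealModι J).app W d₀) :=
    app_map (π ≫ ClSub.idealModι J) (homOfLE (X.basicOpen_le f)) d₀
  have h2 : (π ≫ ClSub.idealModι J).app W d₀ = toS W f := by
    change (ClSub.idealModι J).app W (π.app W d₀) = toS W f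
    rw [hd₀, hj]
  rw [Scheme.Modules.Hom.app_smul, h1, h2]
  change (↑u⁻¹ : Γ(X, X.basicOpen f)) • toS (X.basicOpen f) (resf (X.basicOpen_le f) f) = toS (X.basicOpen f) 1
  rw [smul_toS, ← hu, Units.inv_mul]

end Cosection

/-- **S7242** -/
theorem main (X : Scheme.{u}) {m : ℕ} (U : Fin m → X.Opens)
    (hUaff : ∀ j, IsAffineOpen (U j)) (hcov : ⨆ j, U j = ⊤) (I : Fin m → X.IdealSheafData)
    (hIft : ∀ j, CohB1.IsFT (ClSub.idealMod (I j)))
    (hIsupp : ∀ j, ((I j).support : Set ↥X) = (U j : Set ↥X)ᶜ) :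
    PerfAux.HasResolutionProperty X ↔
      ∀ j, ∃ (E : X.Modules) (π : E ⟶ ClSub.idealMod (I j)), FlatMod.IsFinLocFree E ∧ Epi π := by
  constructor
  · intro hRP j
    exact hRP (ClSub.idealMod (I j)) (isQuasicoherent_idealMod (I j)) (hIft j)
  · intro h
    choose E π hE hπ using h
    haveI : CompactSpace X := compactSpace_of_cover U hUaff hcov
    haveI : QuasiSeparatedSpace X := quasiSeparatedSpace_of_ideals U hUaff hcov I hIft hIsupp
    refine hasResolutionProperty_of_cosections U hUaff hcov E hE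
      (fun j => π j ≫ ClSub.idealModι (I j)) (fun j x hx => ?_) (fun j W d => ?_)
    · haveI : (E j).IsQuasicoherent :=
        Groth.Agent.Helper18Strict.isQCoh_of_isFP (E j)
          (Groth.Agent.Lib.Helper2.LocFree.isFP_of_isFinLocFree (E j) (hE j))
      haveI : Epi (π j) := hπ j
      exact cosection_surjective (I j) (U j) (hIsupp j) (E j) (π j) x hx
    · exact basicOpen_cosection_le (I j) (U j) (hIsupp j) (E j) (π j) W d

end Groth.Agent.Lib.T2H5.ResPropIdeal
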