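import Mathlib
import Groth.Agent.Lib.T2H5ResPropIdeal2
import Groth.Agent.Lib.T2H5ModLimB
import Groth.Agent.Lib.Helper23PB
set_option backward.isDefEq.respectTransparency.types false

/-!
# T2H5CosLocusA: the surjectivity locus of a cosection `e : E ⟶ O_X` (helper5)

Namespace `Groth.Agent.Lib.T2H5.CosLocus`.

* `cosLocus e`: the points near which `1` is in the image of `e`.
* `mem_cosLocus_of_mem_basicOpen`, `isOpen_cosLocus`, `cosLocus_iso_comp`.
* `cosLocus_inter_eq`: over an affine open where `E` is generated by finitely many sections `b i`, the locus is the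
  union of the `D(e (b i))`; `isCompact_cosLocus_inter`, `isCompact_cosLocus`.
* `cosLocus_pullback`: for an affine morphism `f`, a quasi-coherent `E` and ANY identification
  `γ : f^* O_Y ≅ O_X`, the locus of `f^* e ≫ γ` is the preimage of the locus of `e`.
-/

set_option autoImplicit false
set_option linter.style.haveILetI false
set_option linter.unusedSectionVars false
universe u
open CategoryTheory CategoryTheory.Limits AlgebraicGeometry TopologicalSpace Opposite

namespace Groth.Agent.Lib.T2H5.CosLocus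

open Groth.Agent.Lib.Helper23.SecTw Groth.Agent.Lib.Helper23.GenLocus Groth.Agent.Lib.Helper6
open Groth.Agent.Lib.Helper23.Extend Groth.Agent.Lib.T2H5.MulTrick Groth.Agent.Lib.Helper2.Push

variable {X : Scheme.{u}}

/-- the locus where the cosection `e` is surjective -/
def cosLocus {E : X.Modules} (e : E ⟶ Coh.structureModule X) : Set X :=
  {x | ∃ (V : X.Opens) (d : Γ(E, V)), x ∈ V ∧ e.app V d = toS V 1}

theorem isOpen_cosLocus {E : X.Modules} (e : E ⟶ Coh.structureModule X) : IsOpen (cosLocus e) := by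
  rw [isOpen_iff_forall_mem_open]
  rintro x ⟨V, d, hxV, hd⟩
  exact ⟨V, fun y hy => ⟨V, d, hy, hd⟩, V.2, hxV⟩

theorem mem_cosLocus_of_mem_basicOpen {E : X.Modules} (e : E ⟶ Coh.structureModule X) (W : X.Opens)
    (d : Γ(E, W)) (x : X) (hx : x ∈ X.basicOpen (ofS W (e.app W d))) : x ∈ cosLocus e := by
  obtain ⟨a, ha⟩ : ∃ a : Γ(X, W), a = ofS W (e.app W d) := ⟨_, rfl⟩
  rw [← ha] at hx
  have hunit : IsUnit (resf (X.basicOpen_le a) a) := RingedSpace.isUnit_res_basicOpen _ a
  obtain ⟨u, hu⟩ := hunit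
  refine ⟨X.basicOpen a, (↑u⁻¹ : Γ(X, X.basicOpen a)) • res E (X.basicOpen_le a) d, hx, ?_⟩
  have h1 : e.app (X.basicOpen a) (res E (X.basicOpen_le a) d) =
      res _ (X.basicOpen_le a) (e.app W d) := app_map e (homOfLE (X.basicOpen_le a)) d
  have h2 : e.app W d = toS W a := by rw [ha]; rfl
  rw [Scheme.Modules.Hom.app_smul, h1, h2]
  change (↑u⁻¹ : Γ(X, X.basicOpen a)) • toS (X.basicOpen a) (resf (X.basicOpen_le a) a) = toS (X.basicOpen a) 1
  rw [smul_toS, ← hu, Units.inv_mul]

theorem cosLocus_iso_comp {E E' : X.Modules} (α : E' ≅ E) (e : E ⟶ Coh.structureModule X) :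
    cosLocus (α.hom ≫ e) = cosLocus e := by
  ext x
  constructor
  · rintro ⟨V, d, hxV, hd⟩
    exact ⟨V, α.hom.app V d, hxV, hd⟩
  · rintro ⟨V, d, hxV, hd⟩
    refine ⟨V, α.inv.app V d, hxV, ?_⟩
    change e.app V (α.hom.app V (α.inv.app V d)) = toS V 1
    have : α.hom.app V (α.inv.app V d) = d := by
      rw [← ConcreteCategory.comp_apply, ← Scheme.Modules.Hom.comp_app, Iso.inv_hom_id]
      rfl
    rw [this, hd]

/-- a function in the ideal generated by `S` which does not vanish at `x`: some element of `S` does not vanish at `x` -/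
theorem exists_mem_basicOpen_of_mem_span {V : X.Opens} (S : Set Γ(X, V)) (a : Γ(X, V))
    (ha : a ∈ Ideal.span S) (x : X) (hx : x ∈ X.basicOpen a) : ∃ s ∈ S, x ∈ X.basicOpen s := by
  by_contra hcon
  push Not at hcon
  have hxV : x ∈ V := X.basicOpen_le a hx
  have hle : Ideal.span S ≤ RingHom.ker (X.evaluation V x hxV).hom := by
    refine Ideal.span_le.2 (fun s hs => ?_)
    rw [SetLike.mem_coe, RingHom.mem_ker]
    exact (X.evaluation_eq_zero_iff_notMem_basicOpen x hxV s).2 (hcon s hs)
  have h0 := hle ha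
  rw [RingHom.mem_ker] at h0
  exact (X.evaluation_eq_zero_iff_notMem_basicOpen x hxV a).1 h0 hx

/-- over an open `W` where `E` is locally generated by the `b i`, the locus is the union of the `D(e (b i))` -/
theorem cosLocus_inter_eq {E : X.Modules} (e : E ⟶ Coh.structureModule X) (W : X.Opens) {r : ℕ}
    (b : Fin r → Γ(E, W)) (hb : LocSpan E W b) :
    cosLocus e ∩ (W : Set X) = ⋃ i, (X.basicOpen (ofS W (e.app W (b i))) : Set X) := by
  ext x
  simp only [Set.mem_inter_iff, Set.mem_iUnion, SetLike.mem_coe]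
  constructor
  · rintro ⟨⟨V, d, hxV, hd⟩, hxW⟩
    obtain ⟨V', hV', hxV', hmem⟩ := hb (V ⊓ W) inf_le_right (res E inf_le_left d) x ⟨hxV, hxW⟩
    have h1 := ofS_app_mem_span (e := e) (hV'.trans inf_le_right) b hmem
    have h2 : ofS V' (e.app V' (res E hV' (res E inf_le_left d))) = 1 := by
      rw [res_res, app_map e (homOfLE (hV'.trans inf_le_left)) d, hd, map_toS, map_one]
      rfl
    rw [h2] at h1
    have hx1 : x ∈ X.basicOpen (1 : Γ(X, V')) := by
      rw [Scheme.basicOpen_of_isUnit _ isUnit_one]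
      exact hxV'
    obtain ⟨s, ⟨g, rfl⟩, hxs⟩ := exists_mem_basicOpen_of_mem_span _ _ h1 x hx1
    rw [Scheme.basicOpen_res] at hxs
    obtain ⟨s, ⟨i', rfl⟩, hi⟩ := exists_mem_basicOpen_of_mem_span _ g.1 g.2 x hxs.2
    exact ⟨i', hi⟩
  · rintro ⟨i, hi⟩
    exact ⟨mem_cosLocus_of_mem_basicOpen e W (b i) x hi, X.basicOpen_le _ hi⟩

theorem isCompact_cosLocus_inter {E : X.Modules} [E.IsQuasicoherent]
    [SheafOfModules.IsFiniteType (R := X.ringCatSheaf) E] (e : E ⟶ Coh.structureModule X)
    (W : X.Opens) (hW : IsAffineOpen W) : IsCompact (cosLocus e ∩ (W : Set X)) := by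
  haveI : Module.Finite Γ(X, W) Γ(E, W) :=
    Groth.Agent.Lib.Helper23.FinType.finite_of_isFiniteType E hW
  obtain ⟨r, b, hb⟩ := Module.Finite.exists_fin (R := Γ(X, W)) (M := Γ(E, W))
  have hls : LocSpan E W b := locSpan_of_isLocOn hW (IsLocOn.of_isQuasicoherent hW E) b hb
  rw [cosLocus_inter_eq e W b hls]
  exact isCompact_iUnion (fun i => (hW.basicOpen _).isCompact)

theorem isCompact_cosLocus [CompactSpace X] {E : X.Modules} [E.IsQuasicoherent]
    [SheafOfModules.IsFiniteType (R := X.ringCatSheaf) E] (e : E ⟶ Coh.structureModule X) :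
    IsCompact (cosLocus e) := by
  have h : cosLocus e = ⋃ i : X.affineCover.finiteSubcover.I₀,
      cosLocus e ∩ ((X.affineCover.finiteSubcover.f i).opensRange : Set X) := by
    rw [← Set.inter_iUnion]
    have hcov : ⋃ i : X.affineCover.finiteSubcover.I₀,
        ((X.affineCover.finiteSubcover.f i).opensRange : Set X) = Set.univ := by
      rw [Set.eq_univ_iff_forall]
      intro x
      obtain ⟨i, y, hy⟩ := X.affineCover.finiteSubcover.exists_eq x
      exact Set.mem_iUnion.2 ⟨i, y, hy⟩
    rw [hcov, Set.inter_univ]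
  rw [h]
  haveI : Finite X.affineCover.finiteSubcover.I₀ := inferInstance
  exact isCompact_iUnion (fun i => isCompact_cosLocus_inter e _
    (isAffineOpen_opensRange (X.affineCover.finiteSubcover.f i)))

end Groth.Agent.Lib.T2H5.CosLocus
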