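import Mathlib
import Groth.Agent.Lib.T2H5CosLocusA
set_option backward.isDefEq.respectTransparency.types false

/-!
# T2H5CosLocusB: the surjectivity locus of a cosection and pull-back along an affine morphism (helper5)

Namespace `Groth.Agent.Lib.T2H5.CosLocus`.

* `cosLocus_pullback`: for an affine morphism `f : X ⟶ Y`, a quasi-coherent `E` on `Y`, a cosection `e : E ⟶ O_Y`
  and ANY identification `γ : f^* O_Y ≅ O_X`, the locus of `f^* e ≫ γ` is the preimage of the locus of `e`.
-/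

set_option autoImplicit false
set_option linter.style.haveILetI false
set_option linter.unusedSectionVars false
universe u
open CategoryTheory CategoryTheory.Limits AlgebraicGeometry TopologicalSpace Opposite

namespace Groth.Agent.Lib.T2H5.CosLocus

open Groth.Agent.Lib.Helper23.SecTw Groth.Agent.Lib.Helper23.GenLocus Groth.Agent.Lib.Helper6
open Groth.Agent.Lib.Helper23.Extend Groth.Agent.Lib.T2H5.MulTrick Groth.Agent.Lib.Helper2.Push
open Groth.Agent.Lib.Helper23.PB Groth.Agent.Helper13PullbackUnit Groth.Agent.Lib.T2H5.ModLimB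

variable {X Y : Scheme.{u}} (f : X ⟶ Y) (E : Y.Modules) (e : E ⟶ Coh.structureModule Y)
  (γ : (Scheme.Modules.pullback f).obj (Coh.structureModule Y) ≅ Coh.structureModule X)

/-- the pulled back cosection -/
noncomputable def pbCos : (Scheme.Modules.pullback f).obj E ⟶ Coh.structureModule X :=
  (Scheme.Modules.pullback f).map e ≫ γ.hom

/-- the unit by which `γ` differs from the canonical generator over `f⁻¹ W` -/
noncomputable def uu (W : Y.Opens) : Γ(X, f ⁻¹ᵁ W) :=
  ofS (f ⁻¹ᵁ W) (γ.hom.app (f ⁻¹ᵁ W) (unitSec f (Coh.structureModule Y) le_rfl (toS W 1)))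

theorem isUnit_uu {W : Y.Opens} (hW : IsAffineOpen W) : IsUnit (uu f γ W) := by
  haveI : (Coh.structureModule Y).IsQuasicoherent :=
    Groth.Agent.Lib.Helper23.Serre.isQuasicoherent_structureModule' Y
  have hω := isGen_unitSec f (Coh.structureModule Y) hW (toS W 1) (isGen_one W)
  have hγ := isGen_of_iso γ hω
  have h1 := isUnit_coef_of_isGen (isGen_one (f ⁻¹ᵁ W)) hγ
  have h2 := coef_spec (isGen_one (f ⁻¹ᵁ W)) le_rfl
    (γ.hom.app (f ⁻¹ᵁ W) (unitSec f (Coh.structureModule Y) le_rfl (toS W 1)))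
  rw [res_self, smul_toS, mul_one] at h2
  have h3 : uu f γ W = coef (isGen_one (f ⁻¹ᵁ W)) le_rfl
      (γ.hom.app (f ⁻¹ᵁ W) (unitSec f (Coh.structureModule Y) le_rfl (toS W 1))) :=
    congrArg (ofS (f ⁻¹ᵁ W)) h2.symm
  rw [h3]
  exact h1

/-- the value of the pulled back cosection on a pulled back section -/
theorem pbCos_unitSec (W : Y.Opens) (d : Γ(E, W)) :
    ofS (f ⁻¹ᵁ W) ((pbCos f E e γ).app (f ⁻¹ᵁ W) (unitSec f E le_rfl d)) =
      f.app W (ofS W (e.app W d)) * uu f γ W := by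
  have h1 : (pbCos f E e γ).app (f ⁻¹ᵁ W) (unitSec f E le_rfl d) =
      γ.hom.app (f ⁻¹ᵁ W) (((Scheme.Modules.pullback f).map e).app (f ⁻¹ᵁ W) (unitSec f E le_rfl d)) := rfl
  obtain ⟨s, hs⟩ : ∃ s : Γ(Y, W), s = ofS W (e.app W d) := ⟨_, rfl⟩
  have h2 : e.app W d = s • toS W 1 := by rw [smul_toS, mul_one, hs, toS_ofS]
  rw [h1, map_unitSec, ← hs, h2, unitSec_smul, Scheme.Modules.Hom.app_smul, Scheme.Hom.appLE_eq_app]
  rfl

variable [IsAffineHom f] [E.IsQuasicoherent]

/-- **the locus of a pulled back cosection** -/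
theorem cosLocus_pullback : cosLocus (pbCos f E e γ) = f ⁻¹' cosLocus e := by
  haveI : ((Scheme.Modules.pullback f).obj E).IsQuasicoherent :=
    Groth.Agent.Lib.Helper20.PullbackAff.isQuasicoherent_pullback f E
  ext x
  rw [Set.mem_preimage]
  constructor
  · rintro ⟨V', d', hxV', hd'⟩
    by_contra hfx
    obtain ⟨W, hW, hfxW, -⟩ := exists_isAffineOpen_mem_and_subset (X := Y) (x := f x) (U := ⊤) trivial
    have hW' : IsAffineOpen (f ⁻¹ᵁ W) := hW.preimage f
    have hxW' : x ∈ f ⁻¹ᵁ W := hfxW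
    obtain ⟨g, hgle, hxg⟩ := hW'.exists_basicOpen_le (V := V' ⊓ f ⁻¹ᵁ W) ⟨x, ⟨hxV', hxW'⟩⟩ hxW'
    have hloc := IsLocOn.of_isQuasicoherent hW' ((Scheme.Modules.pullback f).obj E)
    obtain ⟨n, t, ht⟩ := hloc.exists_extension g
      (res ((Scheme.Modules.pullback f).obj E) (hgle.trans inf_le_left) d')
    -- the value of the cosection on `t` does not vanish at `x`
    have hxt : x ∈ X.basicOpen (ofS (f ⁻¹ᵁ W) ((pbCos f E e γ).app (f ⁻¹ᵁ W) t)) := by
      have h1 : resf (X.basicOpen_le g) (ofS (f ⁻¹ᵁ W) ((pbCos f E e γ).app (f ⁻¹ᵁ W) t)) =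
          (resf (X.basicOpen_le g) g) ^ n := by
        have h2 := app_map (pbCos f E e γ) (homOfLE (X.basicOpen_le g)) t
        have h3 : (pbCos f E e γ).app (X.basicOpen g)
            (res ((Scheme.Modules.pullback f).obj E) (X.basicOpen_le g) t) =
            toS (X.basicOpen g) ((resf (X.basicOpen_le g) g) ^ n) := by
          change (pbCos f E e γ).app (X.basicOpen g)
            (((Scheme.Modules.pullback f).obj E).presheaf.map (homOfLE (X.basicOpen_le g)).op t) = _
          rw [ht, Scheme.Modules.Hom.app_smul,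
            app_map (pbCos f E e γ) (homOfLE (hgle.trans inf_le_left)) d', hd', map_toS, map_one, smul_toS,
            mul_one]
        have h4 := h2.symm.trans h3
        exact congrArg (ofS (X.basicOpen g)) h4
      have h5 : x ∈ X.basicOpen (resf (X.basicOpen_le g)
          (ofS (f ⁻¹ᵁ W) ((pbCos f E e γ).app (f ⁻¹ᵁ W) t))) := by
        have hu : IsUnit (resf (X.basicOpen_le g) g ^ n) := (RingedSpace.isUnit_res_basicOpen _ g).pow n
        rw [h1, Scheme.basicOpen_of_isUnit _ hu]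
        exact hxg
      rw [Scheme.basicOpen_res] at h5
      exact h5.2
    -- but it vanishes at `x` by induction
    have hvan : ∀ z : Γ((Scheme.Modules.pullback f).obj E, f ⁻¹ᵁ W),
        (X.evaluation (f ⁻¹ᵁ W) x hxW').hom (ofS (f ⁻¹ᵁ W) ((pbCos f E e γ).app (f ⁻¹ᵁ W) z)) = 0 := by
      intro z
      refine unit_induction f E hW hW' (motive := fun z =>
        (X.evaluation (f ⁻¹ᵁ W) x hxW').hom (ofS (f ⁻¹ᵁ W) ((pbCos f E e γ).app (f ⁻¹ᵁ W) z)) = 0)
        ?_ ?_ ?_ ?_ z
      · rw [map_zero]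
        exact map_zero _
      · intro d
        rw [← unitSec_rfl, pbCos_unitSec, map_mul]
        have h0 : (X.evaluation (f ⁻¹ᵁ W) x hxW').hom (f.app W (ofS W (e.app W d))) = 0 := by
          rw [X.evaluation_eq_zero_iff_notMem_basicOpen x hxW']
          intro hmem
          rw [← Scheme.preimage_basicOpen] at hmem
          exact hfx (mem_cosLocus_of_mem_basicOpen e W d (f x) hmem)
        rw [h0, zero_mul]
      · intro b z hz
        rw [Scheme.Modules.Hom.app_smul]
        change (X.evaluation (f ⁻¹ᵁ W) x hxW').hom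
          (b * ofS (f ⁻¹ᵁ W) ((pbCos f E e γ).app (f ⁻¹ᵁ W) z)) = 0
        rw [map_mul, hz, mul_zero]
      · intro z z' hz hz'
        rw [map_add]
        change (X.evaluation (f ⁻¹ᵁ W) x hxW').hom
          (ofS (f ⁻¹ᵁ W) ((pbCos f E e γ).app (f ⁻¹ᵁ W) z) +
            ofS (f ⁻¹ᵁ W) ((pbCos f E e γ).app (f ⁻¹ᵁ W) z')) = 0
        rw [map_add, hz, hz', add_zero]
    exact (X.evaluation_eq_zero_iff_notMem_basicOpen x hxW' _).1 (hvan t) hxt
  · rintro ⟨V, d, hfxV, hd⟩
    obtain ⟨W, hW, hfxW, hWV⟩ := exists_isAffineOpen_mem_and_subset (X := Y) (x := f x) (U := V) hfxV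
    have h1 : e.app W (res E hWV d) = toS W 1 := by
      rw [app_map e (homOfLE hWV) d, hd, map_toS, map_one]
    have h2 := pbCos_unitSec f E e γ W (res E hWV d)
    rw [h1, ofS_toS, map_one, one_mul] at h2
    refine mem_cosLocus_of_mem_basicOpen (pbCos f E e γ) (f ⁻¹ᵁ W) (unitSec f E le_rfl (res E hWV d)) x ?_
    rw [h2, Scheme.basicOpen_of_isUnit _ (isUnit_uu f γ hW)]
    exact hfxW

end Groth.Agent.Lib.T2H5.CosLocus
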