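import Mathlib
import Groth.Agent.Lib.T2H5CosLocusB
import Groth.Agent.Lib.T2H5ModLimF
import Groth.Agent.Lib.Helper26ModLocFree
import Groth.Agent.Lib.Helper3LimConstr
set_option backward.isDefEq.respectTransparency.types false

/-!
# T2H5CosLocusC: descending a cosection of a vector bundle with prescribed locus to a stage (helper5)

Namespace `Groth.Agent.Lib.T2H5.CosLocus`.

* `exists_stage_cosection`: `X = lim X_i` (qcqs, affine transitions), `U₁` a quasi-compact open of a stage `X_{i₁}`,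
  `E` finite locally free on `X` with a cosection whose locus is the preimage of `U₁`; then at some stage `k`
  over `i₁` there is a finite locally free module with a cosection whose locus is the preimage of `U₁`.
-/

set_option autoImplicit false
set_option linter.style.haveILetI false
set_option linter.unusedSectionVars false
universe u
open CategoryTheory CategoryTheory.Limits AlgebraicGeometry TopologicalSpace Opposite Topology

namespace Groth.Agent.Lib.T2H5.CosLocus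

open Groth.Agent.Lib.Helper23.SecTw Groth.Agent.Lib.Helper23.GenLocus Groth.Agent.Lib.Helper6
open Groth.Agent.Lib.Helper23.PB Groth.Agent.Lib.T2H5.ModLimB Groth.Agent.Helper18Strict

variable {I : Type u} [SmallCategory I] [IsCofiltered I] (D : I ⥤ Scheme.{u}) (c : Cone D)
  (hc : IsLimit c) [∀ (i j : I) (f : i ⟶ j), IsAffineHom (D.map f)]
  [∀ i, CompactSpace (D.obj i)] [∀ i, QuasiSeparatedSpace (D.obj i)]

theorem isFT_of_isFinLocFree {X : Scheme.{u}} (E : X.Modules) (hE : FlatMod.IsFinLocFree E) :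
    SheafOfModules.IsFiniteType (R := X.ringCatSheaf) E :=
  isFT_of_isFP E (Groth.Agent.Lib.Helper2.LocFree.isFP_of_isFinLocFree E hE)

include hc in
/-- the locus of a cosection at a stage, pulled back to the limit, when the cosection induces `e` -/
theorem exists_cosection_stage (i₁ : I) (E : c.pt.Modules) (hE : FlatMod.IsFinLocFree E)
    (e : E ⟶ Coh.structureModule c.pt) :
    ∃ (k : I) (_ : k ⟶ i₁) (Ek : (D.obj k).Modules) (ek : Ek ⟶ Coh.structureModule (D.obj k)),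
      FlatMod.IsFinLocFree Ek ∧ (c.π.app k) ⁻¹' cosLocus ek = cosLocus e := by
  haveI : E.IsQuasicoherent := Groth.Agent.Lib.T2H5.ResPropAff.isQuasicoherent_of_isFinLocFree E hE
  have hEfp : SheafOfModules.IsFinitePresentation (R := c.pt.ringCatSheaf) E :=
    Groth.Agent.Lib.Helper2.LocFree.isFP_of_isFinLocFree E hE
  obtain ⟨i, a, Fi, hFiq, hFifp, ⟨α⟩⟩ := Groth.Agent.Lib.T2H5.ModLimF.fp_descends D c hc i₁ E hEfp
  haveI := hFiq
  have hlf : FlatMod.IsFinLocFree ((Scheme.Modules.pullback (c.π.app i)).obj Fi) :=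
    Groth.Agent.Lib.Helper26.ModLocFree.isFinLocFree_of_iso α.symm hE
  obtain ⟨j, φ, hj⟩ :=
    (Groth.Agent.Lib.Helper26.ModLocFree.isFinLocFree_pullback_stage_iff D c hc i Fi hFifp).1 hlf
  obtain ⟨Fj, hFj⟩ : ∃ Fj : (D.obj j).Modules, Fj = (Scheme.Modules.pullback (D.map φ)).obj Fi := ⟨_, rfl⟩
  haveI : Fj.IsQuasicoherent := by
    rw [hFj]; exact Groth.Agent.Lib.Helper20.PullbackAff.isQuasicoherent_pullback (D.map φ) Fi
  haveI hFjfp : SheafOfModules.IsFinitePresentation (R := (D.obj j).ringCatSheaf) Fj := by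
    rw [hFj]; exact isFP_pullback (D.map φ) Fi hFifp
  have hFjlf : FlatMod.IsFinLocFree Fj := by rw [hFj]; exact hj
  obtain ⟨β⟩ : Nonempty ((Scheme.Modules.pullback (c.π.app j)).obj Fj ≅
      (Scheme.Modules.pullback (c.π.app i)).obj Fi) := by
    rw [hFj]; exact ⟨ModLimB.cmp (c.π.app j) (D.map φ) (c.π.app i) (c.w φ) Fi⟩
  haveI : (Coh.structureModule (D.obj j)).IsQuasicoherent :=
    Groth.Agent.Lib.Helper23.Serre.isQuasicoherent_structureModule' (D.obj j)
  obtain ⟨k, ψ, hk, hhk⟩ := Groth.Agent.Lib.T2H5.ModLimE.hom_surjective D c hc j Fj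
    (Coh.structureModule (D.obj j)) (β.hom ≫ α.hom ≫ e ≫ (pullbackUnitIso (c.π.app j)).inv)
  haveI : IsAffineHom (c.π.app k) := isAffineHom_π_app D c hc k
  obtain ⟨Ek, hEk⟩ : ∃ Ek : (D.obj k).Modules, Ek = (Scheme.Modules.pullback (D.map ψ)).obj Fj := ⟨_, rfl⟩
  subst hEk
  have hEklf : FlatMod.IsFinLocFree ((Scheme.Modules.pullback (D.map ψ)).obj Fj) :=
    Groth.Agent.Lib.Helper26.ModLocFree.isFinLocFree_pullback (D.map ψ) Fj hFjlf
  haveI : ((Scheme.Modules.pullback (D.map ψ)).obj Fj).IsQuasicoherent :=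
    Groth.Agent.Lib.Helper20.PullbackAff.isQuasicoherent_pullback (D.map ψ) Fj
  refine ⟨k, ψ ≫ φ ≫ a, (Scheme.Modules.pullback (D.map ψ)).obj Fj,
    hk ≫ (pullbackUnitIso (D.map ψ)).hom, hEklf, ?_⟩
  obtain ⟨iso1, hiso1⟩ : ∃ iso1, iso1 = ((Scheme.Modules.pullbackComp (c.π.app k) (D.map ψ) ≪≫
      Scheme.Modules.pullbackCongr (c.w ψ)).app Fj) := ⟨_, rfl⟩
  obtain ⟨iso2, hiso2⟩ : ∃ iso2, iso2 = ((Scheme.Modules.pullbackComp (c.π.app k) (D.map ψ) ≪≫
      Scheme.Modules.pullbackCongr (c.w ψ)).app (Coh.structureModule (D.obj j))) := ⟨_, rfl⟩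
  rw [← hiso1, ← hiso2] at hhk
  let γ : (Scheme.Modules.pullback (c.π.app k)).obj (Coh.structureModule (D.obj k)) ≅
      Coh.structureModule c.pt :=
    (Scheme.Modules.pullback (c.π.app k)).mapIso (pullbackUnitIso (D.map ψ)).symm ≪≫ iso2 ≪≫
      pullbackUnitIso (c.π.app j)
  rw [← cosLocus_pullback (c.π.app k) _ (hk ≫ (pullbackUnitIso (D.map ψ)).hom) γ]
  have hkey : pbCos (c.π.app k) _ (hk ≫ (pullbackUnitIso (D.map ψ)).hom) γ =
      (iso1 ≪≫ β ≪≫ α).hom ≫ e := by
    have h1 : (Scheme.Modules.pullback (c.π.app k)).map hk ≫ iso2.hom =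
        iso1.hom ≫ β.hom ≫ α.hom ≫ e ≫ (pullbackUnitIso (c.π.app j)).inv := by
      rw [← hhk, Iso.hom_inv_id_assoc]
    unfold pbCos
    simp only [γ, Iso.trans_hom, Functor.mapIso_hom, Iso.symm_hom, Category.assoc]
    rw [← CategoryTheory.Functor.map_comp_assoc, Category.assoc, Iso.hom_inv_id, Category.comp_id,
      reassoc_of% h1, Iso.inv_hom_id, Category.comp_id]
  rw [hkey, cosLocus_iso_comp]

include hc in
/-- **descending a cosection with prescribed locus** -/
theorem exists_stage_cosection (i₁ : I) (U₁ : (D.obj i₁).Opens) (hU₁ : IsCompact (U₁ : Set (D.obj i₁)))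
    (E : c.pt.Modules) (hE : FlatMod.IsFinLocFree E) (e : E ⟶ Coh.structureModule c.pt)
    (hloc : cosLocus e = (c.π.app i₁) ⁻¹' (U₁ : Set (D.obj i₁))) :
    ∃ (k : I) (φ : k ⟶ i₁) (Ek : (D.obj k).Modules) (ek : Ek ⟶ Coh.structureModule (D.obj k)),
      FlatMod.IsFinLocFree Ek ∧ cosLocus ek = (D.map φ) ⁻¹' (U₁ : Set (D.obj i₁)) := by
  obtain ⟨k, θ₀, Ek, ek, hEk, hpre⟩ := exists_cosection_stage D c hc i₁ E hE e
  haveI : Ek.IsQuasicoherent := Groth.Agent.Lib.T2H5.ResPropAff.isQuasicoherent_of_isFinLocFree Ek hEk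
  haveI : SheafOfModules.IsFiniteType (R := (D.obj k).ringCatSheaf) Ek := isFT_of_isFinLocFree Ek hEk
  have hB : IsConstructible (cosLocus ek) := (isCompact_cosLocus ek).isConstructible (isOpen_cosLocus ek)
  have hUk : IsConstructible ((D.map θ₀) ⁻¹' (U₁ : Set (D.obj i₁))) :=
    IsCompact.isConstructible (X := D.obj k) ((D.map θ₀).isCompact_preimage hU₁)
      (U₁.2.preimage (D.map θ₀).continuous)
  have hcons : IsConstructible (symmDiff (cosLocus ek) ((D.map θ₀) ⁻¹' (U₁ : Set (D.obj i₁)))) :=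
    (hB.sdiff hUk).union (hUk.sdiff hB)
  have hempty : (c.π.app k) ⁻¹' (symmDiff (cosLocus ek) ((D.map θ₀) ⁻¹' (U₁ : Set (D.obj i₁)))) = ∅ := by
    have h1 : (c.π.app k) ⁻¹' ((D.map θ₀) ⁻¹' (U₁ : Set (D.obj i₁))) = cosLocus e := by
      rw [hloc]
      ext x
      simp only [Set.mem_preimage]
      rw [← Scheme.Hom.comp_apply, c.w θ₀]
    rw [Set.preimage_symmDiff, hpre, h1, symmDiff_self]
    rfl
  obtain ⟨l, θ, hl⟩ := Groth.Agent.Lib.Helper3.LimConstr.exists_preimage_eq_empty D c hc k _ hcons hempty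
  refine ⟨l, θ ≫ θ₀, (Scheme.Modules.pullback (D.map θ)).obj Ek,
    pbCos (D.map θ) Ek ek (pullbackUnitIso (D.map θ)),
    Groth.Agent.Lib.Helper26.ModLocFree.isFinLocFree_pullback (D.map θ) Ek hEk, ?_⟩
  rw [cosLocus_pullback]
  rw [Set.preimage_symmDiff] at hl
  have h2 : (D.map θ) ⁻¹' cosLocus ek = (D.map θ) ⁻¹' ((D.map θ₀) ⁻¹' (U₁ : Set (D.obj i₁))) :=
    symmDiff_eq_bot.1 hl
  rw [h2]
  ext x
  simp only [Set.mem_preimage]
  rw [← Scheme.Hom.comp_apply, ← D.map_comp]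

end Groth.Agent.Lib.T2H5.CosLocus
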