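-- helper6 (team 2): closures in the total space of closed subschemes of the interior of a modulus pair.
import Mathlib
import Groth.Prelude.Def_BlowUp2
import Groth.Prelude.Def_W4c6modpairsegaMP
import Groth.Agent.Lib.Helper20EffCartier
import Groth.Agent.Lib.T2H6ModulusProd
import Groth.Agent.Lib.T2H6ModulusClosure

set_option autoImplicit false
set_option backward.isDefEq.respectTransparency false
set_option backward.isDefEq.respectTransparency.types false
open CategoryTheory CategoryTheory.Limits AlgebraicGeometry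

universe u

namespace Groth.Agent.Lib.T2H6.ModulusCover

open nonZeroDivisors Groth.Agent.Lib.T2H6.ModulusClosure Groth.Agent.Lib.T2H6.ModulusProd

theorem isUnit_of_basicOpen_eq {X : Scheme.{u}} {U : X.Opens} (f : Γ(X, U))
    (h : X.basicOpen f = U) : IsUnit f := by
  apply X.toRingedSpace.isUnit_of_isUnit_germ U f
  intro x hx
  exact (X.mem_basicOpen f x hx).1 (by rw [h]; exact hx)

theorem quasiCompact_interior_ι {S : Scheme.{u}} (I : S.IdealSheafData)
    (hI : BlowUp.IsEffCartierIdeal I) : QuasiCompact (ModPair.interior I).ι :=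
  quasiCompact_ι_of_cover _ (fun z => by
    obtain ⟨W, hz, f, -, hf⟩ := hI z
    exact ⟨W, f, hz, interior_inf I W f hf⟩)

open Groth.Agent.Lib.Helper20.EffCartier in
/-- For a quasi-compact `h : V ⟶ P` and `L(P') = (t)` with `h^♯ t` a unit, the pullback of `L` to
the scheme-theoretic image of `h` is generated over the preimage of `P'` by a nonzerodivisor. -/
theorem exists_gen_comap_imageι' {V P : Scheme.{u}} (h : V ⟶ P) [QuasiCompact h]
    (L : P.IdealSheafData) (P' : P.affineOpens) (t : Γ(P, P'.1))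
    (hL : L.ideal P' = Ideal.span {t}) (hu : IsUnit ((h.app P'.1).hom t)) :
    ∃ (hY' : IsAffineOpen (h.imageι ⁻¹ᵁ P'.1)) (y : Γ(h.image, h.imageι ⁻¹ᵁ P'.1)),
      y ∈ Γ(h.image, h.imageι ⁻¹ᵁ P'.1)⁰ ∧
      (L.comap h.imageι).ideal ⟨h.imageι ⁻¹ᵁ P'.1, hY'⟩ = Ideal.span {y} := by
  have hY' : IsAffineOpen (h.imageι ⁻¹ᵁ P'.1) := P'.2.preimage h.imageι
  let θ := (h.imageι.app P'.1).hom
  have hsurj : Function.Surjective θ := h.ker.subschemeι_app_surjective P'
  have hker : RingHom.ker θ = RingHom.ker (h.app P'.1).hom := by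
    rw [← Scheme.Hom.ker_apply h P']
    exact h.ker.ker_subschemeι_app P'
  refine ⟨hY', θ t, ?_, ?_⟩
  · rw [mem_nonZeroDivisors_iff_right]
    intro y hy
    obtain ⟨b, rfl⟩ := hsurj y
    have h1 : b * t ∈ RingHom.ker (h.app P'.1).hom := by
      rw [← hker, RingHom.mem_ker, map_mul, hy]
    rw [RingHom.mem_ker, map_mul] at h1
    have h2 : (h.app P'.1).hom b = 0 := by
      have := congrArg (fun z => z * ((hu.unit⁻¹ : _ˣ) : Γ(V, h ⁻¹ᵁ P'.1))) h1
      simpa [mul_assoc] using this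
    have h3 : b ∈ RingHom.ker θ := by
      rw [hker, RingHom.mem_ker]
      exact h2
    exact h3
  · rw [ideal_comap_eq_map h.imageι L hY' P'.2 le_rfl]
    change (L.ideal P').map _ = _
    rw [hL, Ideal.map_span, Set.image_singleton, Scheme.Hom.appLE_eq_app]

theorem quasiCompact_comp {S V : Scheme.{u}} (I : S.IdealSheafData)
    (hI : BlowUp.IsEffCartierIdeal I) (g : V ⟶ (ModPair.interior I : Scheme.{u}))
    [IsClosedImmersion g] : QuasiCompact (g ≫ (ModPair.interior I).ι) := by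
  have := quasiCompact_interior_ι I hI
  infer_instance

theorem isEffCartier_comap_imageι {S V : Scheme.{u}} (I : S.IdealSheafData)
    (hI : BlowUp.IsEffCartierIdeal I) (g : V ⟶ (ModPair.interior I : Scheme.{u}))
    [IsClosedImmersion g] :
    BlowUp.IsEffCartierIdeal (I.comap (g ≫ (ModPair.interior I).ι).imageι) := by
  have := quasiCompact_comp I hI g
  intro y
  obtain ⟨W, hz, f, -, hf⟩ := hI ((g ≫ (ModPair.interior I).ι).imageι y)
  have hu : IsUnit (((g ≫ (ModPair.interior I).ι).app W.1).hom f) := by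
    apply isUnit_of_basicOpen_eq
    rw [← Scheme.preimage_basicOpen, ← interior_inf I W f hf]
    ext v
    constructor
    · intro hv
      exact hv.2
    · intro hv
      exact ⟨(g v).2, hv⟩
  obtain ⟨hY', s, hs, hIs⟩ :=
    exists_gen_comap_imageι' (g ≫ (ModPair.interior I).ι) I W f hf hu
  exact ⟨⟨_, hY'⟩, hz, s, hs, hIs⟩

theorem exists_generization_mem_interior {S : Scheme.{u}} (I : S.IdealSheafData)
    (hI : BlowUp.IsEffCartierIdeal I) (s : S) :
    ∃ η : S, η ∈ ModPair.interior I ∧ η ⤳ s := by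
  obtain ⟨W, hs, f, hf, hIf⟩ := hI s
  let p := W.2.primeIdealOf ⟨s, hs⟩
  obtain ⟨q, hq, hqp⟩ := Ideal.exists_minimalPrimes_le
    (I := (⊥ : Ideal Γ(S, W.1))) (J := p.asIdeal) bot_le
  have hqprime : q.IsPrime := hq.1.1
  have hfq : f ∉ q := fun h =>
    Set.disjoint_left.1 (Ideal.disjoint_nonZeroDivisors_of_mem_minimalPrimes hq) h hf
  let η' : PrimeSpectrum Γ(S, W.1) := ⟨q, hqprime⟩
  refine ⟨W.2.fromSpec η', ?_, ?_⟩
  · have h1 : η' ∈ W.2.fromSpec ⁻¹ᵁ S.basicOpen f := by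
      rw [W.2.fromSpec_preimage_basicOpen]
      exact hfq
    have h2 : W.2.fromSpec η' ∈ S.basicOpen f := h1
    rw [← interior_inf I W f hIf] at h2
    exact h2.1
  · have h3 : η' ⤳ p := (PrimeSpectrum.le_iff_specializes η' p).1 hqp
    have h4 := h3.map W.2.fromSpec.continuous
    rwa [W.2.fromSpec_primeIdealOf ⟨s, hs⟩] at h4

/-- The closure of a closed subscheme `g : V ⟶ U` of an open `U`, intersected with `U`, is `V`. -/
theorem isOpenImmersion_toImage_aux {S V : Scheme.{u}} (U : S.Opens) (g : V ⟶ (U : Scheme.{u}))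
    [IsClosedImmersion g] [QuasiCompact (g ≫ U.ι)] :
    IsOpenImmersion (g ≫ U.ι).toImage ∧
      Set.range (g ≫ U.ι).toImage.base = (g ≫ U.ι).imageι.base ⁻¹' (U : Set S) := by
  have hτ₀ : (g ≫ U.ι).toImage ≫ (g ≫ U.ι).imageι = g ≫ U.ι := (g ≫ U.ι).toImage_imageι
  have hr : Set.range (g ≫ U.ι).toImage ⊆ Set.range ((g ≫ U.ι).imageι ⁻¹ᵁ U).ι := by
    rintro _ ⟨v, rfl⟩
    rw [Scheme.Opens.range_ι]
    change (g ≫ U.ι).imageι ((g ≫ U.ι).toImage v) ∈ U
    rw [← Scheme.Hom.comp_apply, hτ₀]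
    exact (g v).2
  let τ := IsOpenImmersion.lift ((g ≫ U.ι).imageι ⁻¹ᵁ U).ι (g ≫ U.ι).toImage hr
  have hτ : τ ≫ ((g ≫ U.ι).imageι ⁻¹ᵁ U).ι = (g ≫ U.ι).toImage := IsOpenImmersion.lift_fac _ _ _
  have hci : IsClosedImmersion ((g ≫ U.ι).imageι ∣_ U) :=
    IsZariskiLocalAtTarget.restrict (P := @IsClosedImmersion) inferInstance U
  have hfac : τ ≫ ((g ≫ U.ι).imageι ∣_ U) = g := by
    rw [← cancel_mono U.ι, Category.assoc, morphismRestrict_ι, ← Category.assoc, hτ, hτ₀]
  have hr2 : Set.range (𝟙 V : V ⟶ V) ⊆ Set.range ((g ≫ U.ι) ⁻¹ᵁ U).ι := by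
    rintro _ ⟨v, rfl⟩
    rw [Scheme.Opens.range_ι]
    exact (g v).2
  let e := IsOpenImmersion.lift ((g ≫ U.ι) ⁻¹ᵁ U).ι (𝟙 V) hr2
  have he : e ≫ ((g ≫ U.ι) ⁻¹ᵁ U).ι = 𝟙 V := IsOpenImmersion.lift_fac _ _ _
  have heiso : IsIso e := by
    refine ⟨((g ≫ U.ι) ⁻¹ᵁ U).ι, he, ?_⟩
    rw [← cancel_mono ((g ≫ U.ι) ⁻¹ᵁ U).ι, Category.assoc, he, Category.comp_id,
      Category.id_comp]
  have hge : e ≫ ((g ≫ U.ι) ∣_ U) = g := by
    rw [← cancel_mono U.ι, Category.assoc, morphismRestrict_ι, ← Category.assoc, he,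
      Category.id_comp]
  have hker1 : g.ker = ((g ≫ U.ι) ∣_ U).ker := by
    have h1 : (e ≫ ((g ≫ U.ι) ∣_ U)).ker = ((g ≫ U.ι) ∣_ U).ker :=
      Scheme.Hom.ker_comp_of_isIso _ _
    rw [hge] at h1
    exact h1
  have hker : g.ker = ((g ≫ U.ι).imageι ∣_ U).ker := by
    rw [hker1]
    ext A : 2
    rw [Scheme.ker_morphismRestrict_ideal, Scheme.ker_morphismRestrict_ideal,
      Scheme.IdealSheafData.ker_subschemeι]
  have hτiso : IsIso τ :=
    IsClosedImmersion.isIso_of_ker_eq g ((g ≫ U.ι).imageι ∣_ U) τ hfac hker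
  constructor
  · rw [← hτ]
    infer_instance
  · have h1 : Set.range (g ≫ U.ι).toImage = Set.range ((g ≫ U.ι).imageι ⁻¹ᵁ U).ι := by
      apply le_antisymm hr
      rintro _ ⟨y, rfl⟩
      refine ⟨inv τ y, ?_⟩
      rw [← hτ, ← Scheme.Hom.comp_apply, IsIso.inv_hom_id_assoc]
    change Set.range (g ≫ U.ι).toImage = _
    rw [h1, Scheme.Opens.range_ι]
    rfl

theorem main {S : Scheme.{u}} (I : S.IdealSheafData)
    (hI : BlowUp.IsEffCartierIdeal I) {ι : Type u} (V : ι → Scheme.{u})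
    (g : ∀ i, V i ⟶ (ModPair.interior I : Scheme.{u})) [∀ i, IsClosedImmersion (g i)]
    (hsurj : ∀ u : (ModPair.interior I : Scheme.{u}), ∃ (i : ι) (v : V i), (g i).base v = u) :
    (∀ s : S, ∃ (i : ι) (v : (g i ≫ (ModPair.interior I).ι).image),
        (g i ≫ (ModPair.interior I).ι).imageι.base v = s) ∧
      (∀ i, BlowUp.IsEffCartierIdeal (I.comap (g i ≫ (ModPair.interior I).ι).imageι)) ∧
      ∀ i, IsOpenImmersion (g i ≫ (ModPair.interior I).ι).toImage ∧
        Set.range (g i ≫ (ModPair.interior I).ι).toImage.base =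
          (g i ≫ (ModPair.interior I).ι).imageι.base ⁻¹' (ModPair.interior I : Set S) := by
  refine ⟨?_, fun i => isEffCartier_comap_imageι I hI (g i), fun i => ?_⟩
  · intro s
    obtain ⟨η, hη, hηs⟩ := exists_generization_mem_interior I hI s
    obtain ⟨i, v, hv⟩ := hsurj ⟨η, hη⟩
    refine ⟨i, ?_⟩
    have hcl : IsClosed (Set.range (g i ≫ (ModPair.interior I).ι).imageι) :=
      (g i ≫ (ModPair.interior I).ι).imageι.isClosedEmbedding.isClosed_range
    have hmem : η ∈ Set.range (g i ≫ (ModPair.interior I).ι).imageι := by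
      refine ⟨(g i ≫ (ModPair.interior I).ι).toImage v, ?_⟩
      rw [← Scheme.Hom.comp_apply, Scheme.Hom.toImage_imageι, Scheme.Hom.comp_apply]
      have : (g i) v = ⟨η, hη⟩ := hv
      rw [this]
      rfl
    obtain ⟨w, hw⟩ := hηs.mem_closed hcl hmem
    exact ⟨w, hw⟩
  · have := quasiCompact_comp I hI (g i)
    exact isOpenImmersion_toImage_aux (ModPair.interior I) (g i)

end Groth.Agent.Lib.T2H6.ModulusCover
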