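-- helper6 (team 2): on a quasi-compact quasi-separated scheme, the complement of a quasi-compact
-- open is the support of a finite type ideal sheaf (Stacks 01PH); extension of a Zariski covering of
-- the interior of a modulus pair after an admissible blow-up.
import Mathlib
import Groth.Prelude.Def_BlowUp2
import Groth.Prelude.Def_W4c6modpairsegaMP
import Groth.Agent.Lib.Helper22FTIdeal
import Groth.Agent.Lib.Helper14FtPts
import Groth.Agent.Lib.T2H6ModulusCover
import Groth.Agent.Lib.T2H6BlowUpMul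
import Groth.Agent.Lib.T2H6BlowUpGlue
import Groth.Agent.Lib.T2H6BlowUpSeparate

set_option autoImplicit false
set_option backward.isDefEq.respectTransparency false
set_option backward.isDefEq.respectTransparency.types false
open CategoryTheory CategoryTheory.Limits AlgebraicGeometry

universe u

namespace Groth.Agent.Lib.T2H6.FTSupport

open Scheme.IdealSheafData Groth.Agent.Lib.Helper22.FTIdeal

/-- a section of an ideal sheaf which does not vanish at a point witnesses that the point is not in
the support. -/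
theorem not_mem_support_of_mem_basicOpen {X : Scheme.{u}} (J : X.IdealSheafData)
    (W : X.affineOpens) (c : Γ(X, W.1)) (hc : c ∈ J.ideal W) (x : X) (hx : x ∈ X.basicOpen c) :
    x ∉ J.support := by
  intro h
  have hxW : x ∈ W.1 := X.basicOpen_le c hx
  rw [mem_support_iff_of_mem (U := W) hxW, Scheme.mem_zeroLocus_iff] at h
  exact h c hc hx

/-- a point outside the support has a nonvanishing local section. -/
theorem exists_mem_basicOpen_of_not_mem_support {X : Scheme.{u}} (J : X.IdealSheafData)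
    (W : X.affineOpens) (x : X) (hxW : x ∈ W.1) (hx : x ∉ J.support) :
    ∃ c ∈ J.ideal W, x ∈ X.basicOpen c := by
  rw [mem_support_iff_of_mem (U := W) hxW, Scheme.mem_zeroLocus_iff] at hx
  push Not at hx
  exact hx

/-- Stacks 01PH. -/
theorem exists_ft_support_eq {X : Scheme.{u}} [CompactSpace X] [QuasiSeparatedSpace X]
    (V : X.Opens) (hV : IsCompact (V : Set X)) :
    ∃ J : X.IdealSheafData, BlowUp.IsFiniteTypeIdeal J ∧ (J.support : Set X) = (V : Set X)ᶜ := by
  classical
  let Z : TopologicalSpace.Closeds X := ⟨(V : Set X)ᶜ, V.isOpen.isClosed_compl⟩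
  have key : ∀ v : V, ∃ (J : X.IdealSheafData) (N : X.Opens), J ≤ vanishingIdeal Z ∧ FT J ∧
      v.1 ∈ N ∧ ∀ y ∈ N, y ∉ J.support := by
    rintro ⟨v, hv⟩
    obtain ⟨_, ⟨W, hW, rfl⟩, hvW, -⟩ :=
      X.isBasis_affineOpens.exists_subset_of_mem_open (Set.mem_univ v) isOpen_univ
    have hvZ : v ∉ (vanishingIdeal Z).support := by
      rw [← SetLike.mem_coe, coe_support_vanishingIdeal]
      exact fun h => h hv
    obtain ⟨c, hc, hvc⟩ := exists_mem_basicOpen_of_not_mem_support _ ⟨W, hW⟩ v hvW hvZ
    obtain ⟨J, hJle, hJft, hcJ⟩ := exists_ft_le_mem (vanishingIdeal Z) ⟨W, hW⟩ c hc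
    exact ⟨J, X.basicOpen c, hJle, hJft, hvc, fun y hy =>
      not_mem_support_of_mem_basicOpen J ⟨W, hW⟩ c hcJ y hy⟩
  choose J N hJle hJft hvN hN using key
  obtain ⟨T, hT⟩ := hV.elim_finite_subcover (fun v : V => ((N v : X.Opens) : Set X))
    (fun v => (N v).isOpen) (fun x hx => Set.mem_iUnion.2 ⟨⟨x, hx⟩, hvN ⟨x, hx⟩⟩)
  refine ⟨T.sup J, ?_, ?_⟩
  · refine Finset.sup_induction (p := fun K => BlowUp.IsFiniteTypeIdeal K) ?_ ?_ ?_
    · exact ft_bot
    · intro K₁ h₁ K₂ h₂
      exact FT.sup h₁ h₂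
    · intro v _
      exact hJft v
  · apply Set.Subset.antisymm
    · intro x hx hxV
      obtain ⟨v, hvT, hxN⟩ := Set.mem_iUnion₂.1 (hT hxV)
      have hle : J v ≤ T.sup J := Finset.le_sup hvT
      exact hN v x hxN (support_antitone hle hx)
    · have hle : T.sup J ≤ vanishingIdeal Z := Finset.sup_le (fun v _ => hJle v)
      have h1 := support_antitone hle
      intro x hx
      have h2 : x ∈ ((vanishingIdeal Z).support : Set X) := by
        rw [coe_support_vanishingIdeal]
        exact hx
      exact h1 h2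

theorem isCompact_interior {S : Scheme.{u}} [CompactSpace S] (I : S.IdealSheafData)
    (hI : BlowUp.IsEffCartierIdeal I) : IsCompact (ModPair.interior I : Set S) := by
  haveI := Groth.Agent.Lib.T2H6.ModulusCover.quasiCompact_interior_ι I hI
  have h := QuasiCompact.isCompact_preimage (f := (ModPair.interior I).ι) (Set.univ : Set S)
    isOpen_univ isCompact_univ
  have h2 : IsCompact ((ModPair.interior I).ι '' ((ModPair.interior I).ι ⁻¹' Set.univ)) :=
    h.image (ModPair.interior I).ι.continuous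
  rw [Set.preimage_univ, Set.image_univ, Scheme.Opens.range_ι] at h2
  exact h2

theorem main {S : Scheme.{u}} [CompactSpace S] [QuasiSeparatedSpace S] (I : S.IdealSheafData)
    (hI : BlowUp.IsEffCartierIdeal I) {ι : Type u} (V : ι → S.Opens)
    (hVqc : ∀ i, IsCompact (V i : Set S))
    (hcov : ModPair.interior I ≤ ⨆ i, V i) :
    ∃ (F : S.IdealSheafData) (Y : Scheme.{u}) (b : Y ⟶ S) (κ : Type u) (W : κ → Y.Opens),
      BlowUp.IsAdmissibleFor (ModPair.interior I) F ∧ BlowUp.IsBlowUp b F ∧
        BlowUp.IsEffCartierIdeal (I.comap b) ∧ (∀ k, IsCompact (W k : Set Y)) ∧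
        (⨆ k, W k) = ⊤ ∧ ∀ k, ∃ i, W k ⊓ b ⁻¹ᵁ ModPair.interior I ≤ b ⁻¹ᵁ V i := by
  classical
  have hUc := isCompact_interior I hI
  obtain ⟨T, hT⟩ := hUc.elim_finite_subcover (fun i => ((V i : S.Opens) : Set S))
    (fun i => (V i).isOpen) (fun x hx => by
      obtain ⟨i, hi⟩ := TopologicalSpace.Opens.mem_iSup.1 (hcov hx)
      exact Set.mem_iUnion.2 ⟨i, hi⟩)
  have hex := fun i => exists_ft_support_eq (V i) (hVqc i)
  choose Fi hFft hFsupp using hex
  have hFT : BlowUp.IsFiniteTypeIdeal (T.sup Fi) := by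
    refine Finset.sup_induction (p := fun K => BlowUp.IsFiniteTypeIdeal K) ?_ ?_ ?_
    · exact ft_bot
    · intro K₁ h₁ K₂ h₂
      exact FT.sup h₁ h₂
    · intro i _
      exact hFft i
  have hdisj : Disjoint ((T.sup Fi).support : Set S) (ModPair.interior I : Set S) := by
    rw [Set.disjoint_left]
    intro x hxF hxU
    obtain ⟨i, hiT, hxV⟩ := Set.mem_iUnion₂.1 (hT hxU)
    have hle : Fi i ≤ T.sup Fi := Finset.le_sup hiT
    have h1 : x ∈ ((Fi i).support : Set S) := support_antitone hle hxF
    rw [hFsupp i] at h1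
    exact h1 hxV
  obtain ⟨Y, b, hb⟩ := Groth.Agent.Lib.T2H6.BlowUpGlue.exists_isBlowUp S (T.sup Fi)
  have hloc : ∀ y : Y, ∃ (C : Y.affineOpens) (c : Γ(Y, C.1)) (i : ι), y ∈ Y.basicOpen c ∧
      Y.basicOpen c ⊓ b ⁻¹ᵁ ModPair.interior I ≤ b ⁻¹ᵁ V i := by
    intro y
    obtain ⟨C, hyC, t, ht, hLt⟩ := hb.1 y
    have hex2 : ∃ i ∈ T, ∃ c : Γ(Y, C.1), t * c ∈ ((Fi i).comap b).ideal C ∧ y ∈ Y.basicOpen c := by
      by_contra hcon
      push Not at hcon
      have hp : ∀ K : S.IdealSheafData, K ≤ T.sup Fi →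
          (∀ l ∈ (K.comap b).ideal C, ∀ c : Γ(Y, C.1), l = t * c → y ∉ Y.basicOpen c) →
          (K.comap b).ideal C ≤ Ideal.span {t} * (C.2.primeIdealOf ⟨y, hyC⟩).asIdeal := by
        intro K hK hKc l hl
        have hl' : l ∈ Ideal.span {t} := by
          rw [← hLt]
          exact comap_mono b hK C hl
        obtain ⟨c, rfl⟩ := Ideal.mem_span_singleton'.1 hl'
        have hc := hKc _ hl c (mul_comm c t)
        rw [Groth.Agent.Lib.Helper14.mem_basicOpen_iff_notMem_primeIdealOf C.2 y hyC, not_not] at hc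
        have hct : c * t = t * c := mul_comm c t
        rw [hct]
        exact Ideal.mul_mem_mul (Ideal.subset_span (Set.mem_singleton t)) hc
      have hsup : ((T.sup Fi).comap b).ideal C ≤
          Ideal.span {t} * (C.2.primeIdealOf ⟨y, hyC⟩).asIdeal := by
        have hgen : ∀ T' : Finset ι, T' ⊆ T → ((T'.sup Fi).comap b).ideal C ≤
            Ideal.span {t} * (C.2.primeIdealOf ⟨y, hyC⟩).asIdeal := by
          intro T'
          induction T' using Finset.induction_on with
          | empty =>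
            intro _
            rw [Finset.sup_empty, comap_bot]
            exact bot_le
          | insert a T'' ha ih =>
            intro hsub
            rw [Finset.sup_insert, comap_sup, ideal_sup]
            refine sup_le ?_ (ih (fun x hx => hsub (Finset.mem_insert_of_mem hx)))
            have haT : a ∈ T := hsub (Finset.mem_insert_self a T'')
            exact hp (Fi a) (Finset.le_sup haT) (fun l hl c hlc => by
              subst hlc
              exact hcon a haT c hl)
        exact hgen T (Finset.Subset.refl T)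
      rw [hLt] at hsup
      have htm : t ∈ Ideal.span {t} * (C.2.primeIdealOf ⟨y, hyC⟩).asIdeal :=
        hsup (Ideal.subset_span (Set.mem_singleton t))
      rw [Ideal.mem_span_singleton_mul] at htm
      obtain ⟨z, hz, hzt⟩ := htm
      have hz1 : z = 1 := by
        have h0 : t * (z - 1) = 0 := by rw [mul_sub, hzt, mul_one, sub_self]
        have := ht.1 _ h0
        exact sub_eq_zero.1 this
      rw [hz1] at hz
      exact (C.2.primeIdealOf ⟨y, hyC⟩).2.ne_top ((Ideal.eq_top_iff_one _).2 hz)
    obtain ⟨i, hiT, c, hc, hyc⟩ := hex2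
    refine ⟨C, c, i, hyc, ?_⟩
    rintro w ⟨hwc, hwU⟩
    have hwC : w ∈ C.1 := Y.basicOpen_le c hwc
    have hwF : w ∉ ((T.sup Fi).comap b).support := by
      rw [Groth.Agent.Lib.T2H6.BlowUpSeparate.mem_support_comap]
      intro h
      exact Set.disjoint_left.1 hdisj h hwU
    obtain ⟨l, hl, hwl⟩ := exists_mem_basicOpen_of_not_mem_support _ C w hwC hwF
    rw [hLt] at hl
    obtain ⟨a, rfl⟩ := Ideal.mem_span_singleton'.1 hl
    have hwt : w ∈ Y.basicOpen t := by
      rw [Scheme.basicOpen_mul] at hwl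
      exact hwl.2
    have hwtc : w ∈ Y.basicOpen (t * c) := by
      rw [Scheme.basicOpen_mul]
      exact ⟨hwt, hwc⟩
    have h1 := not_mem_support_of_mem_basicOpen _ C (t * c) hc w hwtc
    rw [Groth.Agent.Lib.T2H6.BlowUpSeparate.mem_support_comap, ← SetLike.mem_coe, hFsupp i] at h1
    exact not_not.1 h1
  choose C c i hyc hW using hloc
  refine ⟨T.sup Fi, Y, b, Y, fun y => Y.basicOpen (c y), ⟨hFT, hdisj⟩, hb,
    Groth.Agent.Lib.T2H6.BlowUpMul.isEffCartierIdeal_comap_of_isBlowUp b _ hb I hI,
    fun y => ((C y).2.basicOpen (c y)).isCompact, ?_, fun y => ⟨i y, hW y⟩⟩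
  rw [eq_top_iff]
  intro y _
  exact TopologicalSpace.Opens.mem_iSup.2 ⟨y, hyc y⟩

end Groth.Agent.Lib.T2H6.FTSupport
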