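import Mathlib
import Groth.Agent.Lib.T2H5CosLocusC
import Groth.Agent.Lib.T2H6FTSupport
import Groth.Agent.Lib.Helper23RelAmpleCounit
set_option backward.isDefEq.respectTransparency.types false

/-!
# T2H5CosLocusD: the resolution property of a limit holds at a stage (helper5)

Namespace `Groth.Agent.Lib.T2H5.CosLocus`.

* `exists_cosection_of_hasResolutionProperty`: on a qcqs scheme with the resolution property, every quasi-compact
  open is the locus of a cosection of a finite locally free module.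
* `exists_stage_of_hasResolutionProperty`: if `X = lim X_i` (qcqs stages, affine transitions) has the resolution
  property then so does some `X_i`.
* `hasResolutionProperty_iff_exists_stage`: **S7258**.
-/

set_option autoImplicit false
set_option linter.style.haveILetI false
set_option linter.unusedSectionVars false
universe u
open CategoryTheory CategoryTheory.Limits AlgebraicGeometry TopologicalSpace Opposite Topology

namespace Groth.Agent.Lib.T2H5.CosLocus

open Groth.Agent.Lib.Helper23.SecTw Groth.Agent.Lib.Helper23.GenLocus Groth.Agent.Lib.Helper6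
open Groth.Agent.Lib.Helper23.PB Groth.Agent.Lib.T2H5.ModLimB Groth.Agent.Helper18Strict
open Groth.Agent.Lib.T2H5.ResPropIdeal

/-- on a qcqs scheme with the resolution property, a quasi-compact open is the locus of a cosection of a vector
bundle -/
theorem exists_cosection_of_hasResolutionProperty {X : Scheme.{u}} [CompactSpace X] [QuasiSeparatedSpace X]
    (hRP : PerfAux.HasResolutionProperty X) (V : X.Opens) (hV : IsCompact (V : Set X)) :
    ∃ (E : X.Modules) (e : E ⟶ Coh.structureModule X), FlatMod.IsFinLocFree E ∧ cosLocus e = (V : Set X) := by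
  obtain ⟨J, hJft, hJsupp⟩ := Groth.Agent.Lib.T2H6.FTSupport.exists_ft_support_eq V hV
  obtain ⟨E, π, hE, hπ⟩ := hRP (ClSub.idealMod J)
    (Groth.Agent.Lib.Helper20.OmegaAff.isQuasicoherent_idealMod J)
    (Groth.Agent.Lib.Helper23.RelAmpleCounit.isFT_idealMod J hJft)
  haveI := hπ
  haveI : E.IsQuasicoherent := Groth.Agent.Lib.T2H5.ResPropAff.isQuasicoherent_of_isFinLocFree E hE
  refine ⟨E, π ≫ ClSub.idealModι J, hE, ?_⟩
  ext x
  constructor
  · rintro ⟨W, d, hxW, hd⟩
    have h1 := basicOpen_cosection_le J V hJsupp E π W d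
    apply h1
    rw [hd, ofS_toS, Scheme.basicOpen_of_isUnit _ isUnit_one]
    exact hxW
  · intro hx
    exact cosection_surjective J V hJsupp E π x hx

variable {I : Type u} [SmallCategory I] [IsCofiltered I] (D : I ⥤ Scheme.{u}) (c : Cone D)
  (hc : IsLimit c) [∀ (i j : I) (f : i ⟶ j), IsAffineHom (D.map f)]
  [∀ i, CompactSpace (D.obj i)] [∀ i, QuasiSeparatedSpace (D.obj i)]

include hc in
theorem exists_stage_of_hasResolutionProperty (hRP : PerfAux.HasResolutionProperty c.pt) :
    ∃ i : I, PerfAux.HasResolutionProperty (D.obj i) := by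
  classical
  obtain ⟨i₀⟩ := IsCofiltered.nonempty (C := I)
  haveI : IsAffineHom (c.π.app i₀) := isAffineHom_π_app D c hc i₀
  haveI : CompactSpace c.pt := QuasiCompact.compactSpace_of_compactSpace (c.π.app i₀)
  haveI : QuasiSeparatedSpace c.pt := quasiSeparatedSpace_of_quasiSeparated (c.π.app i₀)
  obtain ⟨s, hs⟩ := Groth.Agent.Lib.Helper26.ModLim.exists_finite_affine_cover (D.obj i₀)
  -- reindex by `Fin m`
  obtain ⟨m, U, hUaff, hcov⟩ : ∃ (m : ℕ) (U : Fin m → (D.obj i₀).Opens),
      (∀ j, IsAffineOpen (U j)) ∧ ⨆ j, U j = ⊤ := by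
    refine ⟨s.card, fun j => ((s.equivFin.symm j).1 : (D.obj i₀).Opens), fun j => (s.equivFin.symm j).1.2, ?_⟩
    have h1 : (⨆ j : Fin s.card, ((s.equivFin.symm j).1 : (D.obj i₀).Opens)) =
        ⨆ k : s, (k.1 : (D.obj i₀).Opens) :=
      s.equivFin.symm.iSup_comp (g := fun k : s => (k.1 : (D.obj i₀).Opens))
    rw [h1]
    exact hs.iSup_eq_top
  -- cosections on the limit
  have hex : ∀ j : Fin m, ∃ (k : I) (φ : k ⟶ i₀) (Ek : (D.obj k).Modules)
      (ek : Ek ⟶ Coh.structureModule (D.obj k)),
      FlatMod.IsFinLocFree Ek ∧ cosLocus ek = (D.map φ) ⁻¹' (U j : Set (D.obj i₀)) := by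
    intro j
    have hVc : IsCompact (((c.π.app i₀) ⁻¹ᵁ U j : c.pt.Opens) : Set c.pt) :=
      ((hUaff j).preimage (c.π.app i₀)).isCompact
    obtain ⟨E, e, hE, hloc⟩ := exists_cosection_of_hasResolutionProperty hRP _ hVc
    exact exists_stage_cosection D c hc i₀ (U j) (hUaff j).isCompact E hE e hloc
  choose k φ Ek ek hEk hloc using hex
  -- a common stage
  obtain ⟨S, hS⟩ := IsCofiltered.inf_objs_exists
    (Finset.univ.image (fun j : Fin m => Over.mk (φ j)))
  have hψ : ∀ j : Fin m, ∃ ψ : S.left ⟶ k j, ψ ≫ φ j = S.hom := fun j => by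
    obtain ⟨g⟩ := hS (Finset.mem_image_of_mem (fun j : Fin m => Over.mk (φ j)) (Finset.mem_univ j))
    exact ⟨g.left, Over.w g⟩
  choose ψ hψ using hψ
  refine ⟨S.left, ?_⟩
  have hloc' : ∀ j, cosLocus (pbCos (D.map (ψ j)) (Ek j) (ek j) (pullbackUnitIso (D.map (ψ j)))) =
      (((D.map S.hom) ⁻¹ᵁ U j : (D.obj S.left).Opens) : Set (D.obj S.left)) := by
    intro j
    haveI : (Ek j).IsQuasicoherent :=
      Groth.Agent.Lib.T2H5.ResPropAff.isQuasicoherent_of_isFinLocFree (Ek j) (hEk j)
    rw [cosLocus_pullback, hloc j]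
    ext x
    simp only [Set.mem_preimage, Scheme.Hom.coe_preimage]
    rw [← Scheme.Hom.comp_apply, ← D.map_comp, hψ j]
  refine hasResolutionProperty_of_cosections (fun j => (D.map S.hom) ⁻¹ᵁ U j)
    (fun j => (hUaff j).preimage (D.map S.hom)) ?_
    (fun j => (Scheme.Modules.pullback (D.map (ψ j))).obj (Ek j))
    (fun j => by
      haveI : (Ek j).IsQuasicoherent :=
        Groth.Agent.Lib.T2H5.ResPropAff.isQuasicoherent_of_isFinLocFree (Ek j) (hEk j)
      exact Groth.Agent.Lib.Helper26.ModLocFree.isFinLocFree_pullback (D.map (ψ j)) (Ek j) (hEk j))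
    (fun j => pbCos (D.map (ψ j)) (Ek j) (ek j) (pullbackUnitIso (D.map (ψ j))))
    (fun j x hx => ?_) (fun j W d => ?_)
  · have h1 : (D.map S.hom) ⁻¹ᵁ (⨆ j, U j) = ⨆ j, (D.map S.hom) ⁻¹ᵁ U j := by
      ext x
      simp only [Scheme.Hom.coe_preimage, Opens.coe_iSup, Set.preimage_iUnion]
    rw [← h1, hcov]
    rfl
  · have hx' : x ∈ cosLocus (pbCos (D.map (ψ j)) (Ek j) (ek j) (pullbackUnitIso (D.map (ψ j)))) := by
      rw [hloc' j]; exact hx
    exact hx'
  · intro y hy
    have hy' := mem_cosLocus_of_mem_basicOpen _ W d y hy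
    rw [hloc' j] at hy'
    exact hy'

include hc in
/-- **S7258** -/
theorem hasResolutionProperty_iff_exists_stage :
    PerfAux.HasResolutionProperty c.pt ↔ ∃ i : I, PerfAux.HasResolutionProperty (D.obj i) := by
  constructor
  · exact exists_stage_of_hasResolutionProperty D c hc
  · rintro ⟨i, hi⟩
    haveI : IsAffineHom (c.π.app i) := isAffineHom_π_app D c hc i
    exact Groth.Agent.Lib.T2H5.ResPropAff.hasResolutionProperty_of_isAffineHom (c.π.app i) hi

end Groth.Agent.Lib.T2H5.CosLocus
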