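import Mathlib
import Groth.Agent.Lib.T2H5CosLocusD
import Groth.Agent.Lib.T2H2UFDCartierSch
import Groth.Agent.Lib.T2H4ResProp
set_option backward.isDefEq.respectTransparency.types false

/-!
# T2H5AffDiag: the resolution property implies affine diagonal (helper5)

Namespace `Groth.Agent.Lib.T2H5.AffDiag`.

* `exists_frame`: a module free of rank `n` over an open `V'` has sections `σ k` over `V'` such that every local
  section over an open inside `V'` is a combination of the `σ k`.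
* `isAffineOpen_inf_of_free`: if the affine open `U` is the locus of a cosection `e` of `E` with `e d = 1` for some
  `d ∈ E(U)`, and `E` is free over the affine open `V'`, then `U ⊓ V'` is affine.
* `isAffineOpen_inf`: **S1009**: on a qcqs scheme with the resolution property the intersection of two affine opens
  is affine.
-/

set_option autoImplicit false
set_option linter.style.haveILetI false
set_option linter.unusedSectionVars false
universe u
open CategoryTheory CategoryTheory.Limits AlgebraicGeometry TopologicalSpace Opposite Topology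

namespace Groth.Agent.Lib.T2H5.AffDiag

open Groth.Agent.Lib.Helper23.SecTw Groth.Agent.Lib.Helper23.GenLocus Groth.Agent.Lib.Helper6
open Groth.Agent.Lib.T2H5.CosLocus Groth.Agent.Lib.T2H5.ResPropIdeal Groth.Agent.Lib.Helper23.IdealSec
open Groth.Agent.Lib.Helper23.Extend

variable {X : Scheme.{u}}

theorem sum_app {ι : Type*} (s : Finset ι) {M N : X.Modules} (φ : ι → (M ⟶ N)) (W : X.Opens)
    (m : Γ(M, W)) : (∑ i ∈ s, φ i).app W m = ∑ i ∈ s, (φ i).app W m := by
  classical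
  induction s using Finset.induction_on with
  | empty => simp
  | insert a s ha ih =>
    rw [Finset.sum_insert ha, Finset.sum_insert ha, Scheme.Modules.Hom.add_app]
    change (φ a).app W m + (∑ i ∈ s, φ i).app W m = _
    rw [ih]

/-- coordinates on a free module -/
theorem exists_coord {Y : Scheme.{u}} (M : Y.Modules) {n : ℕ} (ε : M ≅ FlatMod.freeMod Y n) :
    ∃ (s : Fin n → (Coh.structureModule Y ⟶ M)) (c : Fin n → (M ⟶ Coh.structureModule Y)),
      ∑ k, c k ≫ s k = 𝟙 M := by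
  let f : Fin n → Y.Modules := fun _ => Coh.structureModule Y
  let ε' : M ≅ ⨁ f := ε ≪≫ (biproduct.isoCoproduct f).symm
  refine ⟨fun k => biproduct.ι f k ≫ ε'.inv, fun k => ε'.hom ≫ biproduct.π f k, ?_⟩
  have h1 : ∀ k, (ε'.hom ≫ biproduct.π f k) ≫ biproduct.ι f k ≫ ε'.inv =
      ε'.hom ≫ (biproduct.π f k ≫ biproduct.ι f k) ≫ ε'.inv := fun k => by
    simp only [Category.assoc]
  simp only [h1]
  rw [← Preadditive.comp_sum, ← Preadditive.sum_comp, biproduct.total, Category.id_comp, Iso.hom_inv_id]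

/-- sections of a free module over `Y` are combinations of the frame -/
theorem exists_frame_aux {Y : Scheme.{u}} (M : Y.Modules) {n : ℕ} (ε : M ≅ FlatMod.freeMod Y n) :
    ∃ σ : Fin n → Γ(M, ⊤), ∀ (W : Y.Opens) (t : Γ(M, W)),
      ∃ b : Fin n → Γ(Y, W), t = ∑ k, b k • res M le_top (σ k) := by
  obtain ⟨s, c, hsc⟩ := exists_coord M ε
  refine ⟨fun k => (s k).app ⊤ (toS ⊤ 1), fun W t => ⟨fun k => ofS W ((c k).app W t), ?_⟩⟩
  have h1 : t = (∑ k, c k ≫ s k).app W t := by rw [hsc]; rfl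
  rw [sum_app] at h1
  refine h1.trans (Finset.sum_congr rfl (fun k _ => ?_))
  change (s k).app W ((c k).app W t) = _
  have h2 : (c k).app W t = ofS W ((c k).app W t) • toS W 1 := by
    rw [smul_toS, mul_one, toS_ofS]
  have h3 : (s k).app W (toS W 1) = res M le_top ((s k).app ⊤ (toS ⊤ 1)) := by
    have h4 := app_map (s k) (homOfLE (le_top : W ≤ ⊤)) (toS ⊤ 1)
    rw [map_toS, map_one] at h4
    exact h4
  rw [h2, Scheme.Modules.Hom.app_smul, h3]

/-- a module free of rank `n` over the open `V'` has a frame over `V'` -/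
theorem exists_frame (E : X.Modules) (V' : X.Opens) {n : ℕ}
    (ε : E.restrict V'.ι ≅ FlatMod.freeMod (↑V' : Scheme.{u}) n) :
    ∃ σ : Fin n → Γ(E, V'.ι ''ᵁ ⊤), ∀ (W : (↑V' : Scheme.{u}).Opens) (t : Γ(E, V'.ι ''ᵁ W)),
      ∃ b : Fin n → Γ(X, V'.ι ''ᵁ W),
        t = ∑ k, b k • res E (V'.ι.image_mono (le_top : W ≤ ⊤)) (σ k) := by
  obtain ⟨σ, hσ⟩ := exists_frame_aux (E.restrict V'.ι) ε
  refine ⟨σ, fun W t => ?_⟩
  obtain ⟨b, hb⟩ := hσ W t
  exact ⟨fun k => (V'.ι.appIso W).inv (b k), hb⟩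

/-- the key case: `E` free over the affine open `V'` -/
theorem isAffineOpen_inf_of_free (U : X.Opens) (E : X.Modules) (e : E ⟶ Coh.structureModule X)
    (hloc : cosLocus e = (U : Set X)) (d : Γ(E, U)) (hd : e.app U d = toS U 1)
    (V' : X.Opens) (hV' : IsAffineOpen V') {n : ℕ}
    (ε : E.restrict V'.ι ≅ FlatMod.freeMod (↑V' : Scheme.{u}) n) : IsAffineOpen (U ⊓ V') := by
  classical
  obtain ⟨σ, hσ⟩ := exists_frame E V' ε
  haveI : IsAffine (↑V' : Scheme.{u}) := hV'
  have hTop : IsAffineOpen (V'.ι ''ᵁ ⊤) := (isAffineOpen_top (↑V' : Scheme.{u})).image_of_isOpenImmersion V'.ι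
  have hW : V'.ι ''ᵁ (V'.ι ⁻¹ᵁ U) ≤ U := V'.ι.image_preimage_le U
  obtain ⟨b, hb⟩ := hσ (V'.ι ⁻¹ᵁ U) (res E hW d)
  have hle : V'.ι ''ᵁ (V'.ι ⁻¹ᵁ U) ≤ V'.ι ''ᵁ ⊤ := V'.ι.image_mono le_top
  obtain ⟨g, hg⟩ : ∃ g : Fin n → Γ(X, V'.ι ''ᵁ ⊤), g = fun k => ofS _ (e.app _ (σ k)) := ⟨_, rfl⟩
  -- the relation `1 = ∑ b k * g k`
  have key : (1 : Γ(X, V'.ι ''ᵁ (V'.ι ⁻¹ᵁ U))) = ∑ k, b k * resf hle (g k) := by
    have h1 := congrArg (e.app (V'.ι ''ᵁ (V'.ι ⁻¹ᵁ U))) hb
    rw [app_map e (homOfLE hW) d, hd, map_toS, map_one, map_sum] at h1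
    have h2 : ∀ k, e.app (V'.ι ''ᵁ (V'.ι ⁻¹ᵁ U)) (b k • res E hle (σ k)) =
        toS _ (b k * resf hle (g k)) := by
      intro k
      rw [Scheme.Modules.Hom.app_smul, app_map e (homOfLE hle) (σ k), hg]
      rfl
    simp only [h2] at h1
    have h3 : ∀ (s : Finset (Fin n)) (a : Fin n → Γ(X, V'.ι ''ᵁ (V'.ι ⁻¹ᵁ U))),
        ∑ k ∈ s, toS (V'.ι ''ᵁ (V'.ι ⁻¹ᵁ U)) (a k) = toS _ (∑ k ∈ s, a k) := by
      intro s a
      induction s using Finset.induction_on with
      | empty => simp only [Finset.sum_empty]; rfl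
      | insert x s hx ih => rw [Finset.sum_insert hx, Finset.sum_insert hx, ih]; rfl
    rw [h3] at h1
    exact congrArg (ofS _) h1
  have hspan : Ideal.span (Set.range fun k => resf hle (g k)) = ⊤ := by
    rw [Ideal.eq_top_iff_one, key]
    exact Ideal.sum_mem _ (fun k _ => Ideal.mul_mem_left _ _ (Ideal.subset_span ⟨k, rfl⟩))
  have haff : IsAffineOpen (V'.ι ''ᵁ (V'.ι ⁻¹ᵁ U)) := by
    refine isAffineOpen_of_isAffineOpen_basicOpen _ _ hspan ?_
    rintro _ ⟨k, rfl⟩
    have h1 : X.basicOpen (resf hle (g k)) = X.basicOpen (g k) := by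
      rw [Scheme.basicOpen_res]
      refine inf_eq_right.2 (fun y hy => ?_)
      have hyU : y ∈ (U : Set X) := by
        rw [← hloc]
        refine mem_cosLocus_of_mem_basicOpen e _ (σ k) y ?_
        rw [hg] at hy
        exact hy
      have hyT : y ∈ V'.ι ''ᵁ ⊤ := X.basicOpen_le _ hy
      obtain ⟨y', -, rfl⟩ := hyT
      exact ⟨y', hyU, rfl⟩
    rw [h1]
    exact hTop.basicOpen (g k)
  have heq : U ⊓ V' = V'.ι ''ᵁ (V'.ι ⁻¹ᵁ U) := by
    rw [Scheme.Hom.image_preimage_eq_opensRange_inf, Scheme.Opens.opensRange_ι, inf_comm]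
  rw [heq]
  exact haff

/-- **S1009**: the resolution property implies affine diagonal -/
theorem isAffineOpen_inf [CompactSpace X] [QuasiSeparatedSpace X] (hRP : PerfAux.HasResolutionProperty X)
    (U V : X.Opens) (hU : IsAffineOpen U) (hV : IsAffineOpen V) : IsAffineOpen (U ⊓ V) := by
  -- the cosection
  obtain ⟨J, hJft, hJsupp⟩ := Groth.Agent.Lib.T2H6.FTSupport.exists_ft_support_eq U hU.isCompact
  obtain ⟨E, π, hE, hπ⟩ := hRP (ClSub.idealMod J)
    (Groth.Agent.Lib.Helper20.OmegaAff.isQuasicoherent_idealMod J)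
    (Groth.Agent.Lib.Helper23.RelAmpleCounit.isFT_idealMod J hJft)
  haveI := hπ
  haveI : E.IsQuasicoherent := Groth.Agent.Lib.T2H5.ResPropAff.isQuasicoherent_of_isFinLocFree E hE
  haveI : (ClSub.idealMod J).IsQuasicoherent := Groth.Agent.Lib.Helper20.OmegaAff.isQuasicoherent_idealMod J
  have hloc : cosLocus (π ≫ ClSub.idealModι J) = (U : Set X) := by
    ext x
    constructor
    · rintro ⟨W, d, hxW, hd⟩
      have h1 := basicOpen_cosection_le J U hJsupp E π W d
      apply h1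
      rw [hd, ofS_toS, Scheme.basicOpen_of_isUnit _ isUnit_one]
      exact hxW
    · intro hx
      exact cosection_surjective J U hJsupp E π x hx
  have htop : J.ideal ⟨U, hU⟩ = ⊤ := by
    apply Groth.Agent.Lib.T2H2.UFDCartierSch.ideal_eq_top_of_disjoint
    rw [hJsupp]
    exact disjoint_compl_left
  obtain ⟨j, hj⟩ := exists_ι_eq J ⟨U, hU⟩ 1 (by rw [htop]; trivial)
  obtain ⟨d, hd⟩ := Groth.Agent.Lib.Helper23.FinType.surjective_app_of_epi π hU j
  have hd' : (π ≫ ClSub.idealModι J).app U d = toS U 1 := by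
    change (ClSub.idealModι J).app U (π.app U d) = toS U 1
    rw [hd, hj]
  -- `U ⟶ X` is affine
  haveI : IsAffineHom U.ι := by
    apply isAffineHom_of_forall_exists_isAffineOpen
    intro x
    obtain ⟨V₀, n, hxV₀, ⟨ε₀⟩⟩ := hE x
    obtain ⟨V', hV'aff, hxV', hV'V₀⟩ := exists_isAffineOpen_mem_and_subset (X := X) (x := x) (U := V₀) hxV₀
    obtain ⟨ε⟩ := Groth.Agent.Lib.T2H4.ResProp.nonempty_restrict_iso_freeMod_of_le E hV'V₀ ε₀
    refine ⟨V', hxV', hV'aff, ?_⟩
    rw [← U.ι.isAffineOpen_iff_of_isOpenImmersion, Scheme.Hom.image_preimage_eq_opensRange_inf,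
      Scheme.Opens.opensRange_ι]
    exact isAffineOpen_inf_of_free U E _ hloc d hd' V' hV'aff ε
  have h1 : IsAffineOpen (U.ι ⁻¹ᵁ V) := hV.preimage U.ι
  rw [← U.ι.isAffineOpen_iff_of_isOpenImmersion, Scheme.Hom.image_preimage_eq_opensRange_inf,
    Scheme.Opens.opensRange_ι] at h1
  exact h1

end Groth.Agent.Lib.T2H5.AffDiag
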