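import Groth.Agent.Lib.T2H5ProperSupport
import Groth.Agent.Lib.T2H5ClosedLin
import Groth.Agent.Lib.T2H5T2Main
import Groth.Agent.Lib.T2H5T2Les

/-!
# Finiteness of the cohomology of a coherent module with proper support (helper9)
-/

set_option autoImplicit false
set_option linter.style.haveILetI false
set_option linter.unusedSectionVars false
universe u
open CategoryTheory CategoryTheory.Limits Opposite TopologicalSpace AlgebraicGeometry

namespace Groth.Agent.Lib.T2H9.FFSupp

open Groth.Agent.Lib.T2H5.AnnIdeal Groth.Agent.Lib.T2H5.RpushClosed Groth.Agent.Lib.T2H5.ProperThick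

/-- a coherent module with proper support is the direct image of a coherent module on a closed
subscheme which is proper over the base -/
theorem exists_closedImmersion_of_properSupport {X S : Scheme.{u}} (f : X ⟶ S)
    [LocallyOfFiniteType f] [IsLocallyNoetherian S] (F : X.Modules) (hF : Coh.IsCoh F)
    (hs : ClSub.IsProperOver f (CohB1.support F)) :
    ∃ (Z : Scheme.{u}) (i : Z ⟶ X), IsClosedImmersion i ∧ IsProper (i ≫ f) ∧
      ∃ G : Z.Modules, Coh.IsCoh G ∧ Nonempty ((Scheme.Modules.pushforward i).obj G ≅ F) := by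
  haveI := hF.1
  haveI : SheafOfModules.IsFiniteType (R := X.ringCatSheaf) F := hF.2
  obtain ⟨hZ, hprop⟩ := hs
  have hsupp : ((annIdeal F).support : Set X) = CohB1.support F := support_annIdeal F
  have hle : annIdeal F ≤ Scheme.IdealSheafData.vanishingIdeal ⟨CohB1.support F, hZ⟩ := by
    rw [← Scheme.IdealSheafData.le_support_iff_le_vanishingIdeal]
    intro x hx
    change x ∈ ((annIdeal F).support : Set X)
    rw [hsupp]
    exact hx
  let g := Scheme.IdealSheafData.inclusion hle
  have hg : g ≫ (annIdeal F).subschemeι =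
      (Scheme.IdealSheafData.vanishingIdeal ⟨CohB1.support F, hZ⟩).subschemeι :=
    Scheme.IdealSheafData.inclusion_subschemeι hle
  haveI : IsClosedImmersion g := by
    haveI : IsClosedImmersion (g ≫ (annIdeal F).subschemeι) := by rw [hg]; infer_instance
    exact IsClosedImmersion.of_comp g (annIdeal F).subschemeι
  haveI : Surjective g := by
    refine ⟨fun z' => ?_⟩
    have h1 : (annIdeal F).subschemeι z' ∈
        Set.range (Scheme.IdealSheafData.vanishingIdeal ⟨CohB1.support F, hZ⟩).subschemeι := by
      rw [Scheme.IdealSheafData.range_subschemeι, Scheme.IdealSheafData.coe_support_vanishingIdeal]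
      change _ ∈ CohB1.support F
      rw [← hsupp, ← Scheme.IdealSheafData.range_subschemeι]
      exact ⟨z', rfl⟩
    obtain ⟨z, hz⟩ := h1
    refine ⟨z, ?_⟩
    apply (annIdeal F).subschemeι.isClosedEmbedding.injective
    rw [← hz, ← hg]
    rfl
  haveI : IsProper (g ≫ ((annIdeal F).subschemeι ≫ f)) := by
    rw [← Category.assoc, hg]
    exact hprop
  haveI : IsProper ((annIdeal F).subschemeι ≫ f) :=
    isProper_of_comp_surjective_closedImmersion g ((annIdeal F).subschemeι ≫ f)
  haveI : IsLocallyNoetherian X := LocallyOfFiniteType.isLocallyNoetherian f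
  obtain ⟨G, hG, ⟨e⟩⟩ := Groth.Agent.S0786.result (annIdeal F).subschemeι F hF (by
    rw [Scheme.IdealSheafData.ker_subschemeι]
    exact killedBy_annIdeal F)
  exact ⟨(annIdeal F).subscheme, (annIdeal F).subschemeι, inferInstance, inferInstance, G, hG, ⟨e⟩⟩

/-- the cohomology of a coherent module with proper support is finite -/
theorem finite_HH_of_properSupport (A : Type u) [CommRing A] [IsNoetherianRing A] (X : Scheme.{u})
    [X.Over (Spec (CommRingCat.of A))] [LocallyOfFiniteType (X ↘ Spec (CommRingCat.of A))]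
    (F : X.Modules) (hF : Coh.IsCoh F)
    (hs : ClSub.IsProperOver (X ↘ Spec (CommRingCat.of A)) (CohB1.support F)) (p : ℕ) :
    Module.Finite A (Coh.HH X F p) := by
  obtain ⟨Z, i, hi, hprop, G, hG, ⟨e⟩⟩ :=
    exists_closedImmersion_of_properSupport (X ↘ Spec (CommRingCat.of A)) F hF hs
  letI : Z.Over (Spec (CommRingCat.of A)) := ⟨i ≫ (X ↘ Spec (CommRingCat.of A))⟩
  haveI : IsProper (Z ↘ Spec (CommRingCat.of A)) := hprop
  obtain ⟨ℓ⟩ := Groth.Agent.Lib.T2H5.ClosedLin.nonempty_linearEquiv i A rfl G p
  haveI h1 : Module.Finite A (Coh.HH Z G p) :=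
    Groth.Agent.Lib.T2H5.T2Main.finite_HH_of_isProper A Z G hG p
  have h2 : Module.Finite A (Coh.HH X ((Scheme.Modules.pushforward i).obj G) p) :=
    Module.Finite.equiv ℓ
  exact Groth.Agent.Lib.T2H5.T2Les.finite_HH_of_iso e.symm p h2

end Groth.Agent.Lib.T2H9.FFSupp
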