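import Groth.Agent.Lib.T2H9FFGen
import Groth.Agent.Lib.T2H9FFSupp
import Groth.Agent.S0794
import Groth.Agent.S0796

/-!
# Formal functions for coherent modules with proper support (helper9)
-/

set_option autoImplicit false
set_option linter.style.haveILetI false
set_option linter.unusedSectionVars false
set_option linter.unusedVariables false
universe u
open CategoryTheory AlgebraicGeometry Limits TopologicalSpace Opposite

namespace Groth.Agent.Lib.T2H9.FFSuppMain

open Groth.Agent.Lib.T2H9.FFGeom Groth.Agent.Lib.T2H9.FFGen Groth.Agent.Lib.T2H9.FFSupp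

variable (A : Type u) [CommRing A] [IsNoetherianRing A] (I : Ideal A) (X : Scheme.{u})
  [X.Over (Spec (CommRingCat.of A))] [LocallyOfFiniteType (X ↘ Spec (CommRingCat.of A))]
  (F : X.Modules)

instance : LocallyOfFiniteType (XB I X ↘ Spec (CommRingCat.of (RB I))) := by
  change LocallyOfFiniteType (pullback.snd (X ↘ Spec (CommRingCat.of A)) (qB I))
  infer_instance

instance : LocallyOfFiniteType (fB I X) := by
  change LocallyOfFiniteType (pullback.snd (X ↘ Spec (CommRingCat.of A)) (qB I))
  infer_instance

theorem isProperOver_support_GB (hF : Coh.IsCoh F)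
    (hs : ClSub.IsProperOver (X ↘ Spec (CommRingCat.of A)) (CohB1.support F)) :
    ClSub.IsProperOver (XB I X ↘ Spec (CommRingCat.of (RB I))) (CohB1.support (GB I X F)) := by
  have h1 : ClSub.IsProperOver (fB I X) (CohB1.support (EB I X F)) :=
    Groth.Agent.S0794.result (X ↘ Spec (CommRingCat.of A)) (qB I) (pB I X) (fB I X)
      (isPullback_B I X) F hF.1 hF.2 hs
  haveI : IsLocallyNoetherian (XB I X) := LocallyOfFiniteType.isLocallyNoetherian (fB I X)
  have hE : Coh.IsCoh (EB I X F) := Groth.Agent.Lib.T2H5.GenIsoD.isCoh_pullback (pB I X) F hF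
  have hG : Coh.IsCoh (GB I X F) := isCoh_GB I X hF
  haveI := hE.1
  haveI := hG.1
  have hK : Coh.IsCoh (kernel (toGB I X F)) :=
    Groth.Agent.Lib.T2H5.Devissage.isCoh_of_mono (kernel.ι (toGB I X F)) hE
      (Groth.Agent.Lib.Helper23.QCohLocal.isQuasicoherent_kernel _)
  let E : ShortComplex (XB I X).Modules :=
    ShortComplex.mk (kernel.ι (toGB I X F)) (toGB I X F) (kernel.condition _)
  have hEx : E.ShortExact := by
    haveI : Mono E.f := inferInstanceAs (Mono (kernel.ι (toGB I X F)))
    haveI : Epi E.g := inferInstanceAs (Epi (toGB I X F))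
    exact ShortComplex.ShortExact.mk (ShortComplex.exact_of_f_is_kernel _ (kernelIsKernel _))
  exact ((Groth.Agent.S0796.result (fB I X) E hEx hK hE hG).1 h1).2

theorem finRees_of_properSupport (hF : Coh.IsCoh F)
    (hs : ClSub.IsProperOver (X ↘ Spec (CommRingCat.of A)) (CohB1.support F)) : FinRees I F :=
  fun p => finite_HH_of_properSupport (RB I) (XB I X) (GB I X F) (isCoh_GB I X hF)
    (isProperOver_support_GB A I X F hF hs) p

/-- S4478 -/
theorem formal_functions_of_properSupport (hF : Coh.IsCoh F)
    (hs : ClSub.IsProperOver (X ↘ Spec (CommRingCat.of A)) (CohB1.support F)) (p : ℕ) :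
    Nonempty (AdicCompletion I (Coh.HH X F p) ≃+ Formal.HHlim I F p) := by
  haveI := hF.1
  exact FFGen.formal_functions I F (finRees_of_properSupport A I X F hF hs) p

/-- S4460 -/
theorem toHHlim_bijective_of_properSupport [IsAdicComplete I A] (hF : Coh.IsCoh F)
    (hs : ClSub.IsProperOver (X ↘ Spec (CommRingCat.of A)) (CohB1.support F)) (p : ℕ) :
    Function.Bijective (Formal.toHHlim I F p) := by
  haveI := hF.1
  exact FFGen.formal_functions_complete I F (finRees_of_properSupport A I X F hF hs) p
    (finite_HH_of_properSupport A X F hF hs p)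

end Groth.Agent.Lib.T2H9.FFSuppMain
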