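import Mathlib
import Groth.Agent.S0047

set_option autoImplicit false
set_option linter.style.haveILetI false
universe u
open CategoryTheory CategoryTheory.Limits AlgebraicGeometry TopologicalSpace

namespace Groth.Agent.Lib.T2H5.Dim0

/-- In a T0 space of Krull dimension `≤ 0`, every point is closed. -/
theorem isClosed_singleton_of_dim_le_zero {Z : Type*} [TopologicalSpace Z] [T0Space Z]
    (h : topologicalKrullDim Z ≤ 0) (x : Z) : IsClosed ({x} : Set Z) := by
  have hmin := Order.krullDim_nonpos_iff_forall_isMin.mp h
  have key : closure ({x} : Set Z) = {x} := by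
    apply Set.Subset.antisymm _ subset_closure
    intro y hy
    let a : IrreducibleCloseds Z := ⟨closure {x}, isIrreducible_singleton.closure, isClosed_closure⟩
    let b : IrreducibleCloseds Z := ⟨closure {y}, isIrreducible_singleton.closure, isClosed_closure⟩
    have hba : b ≤ a := by
      change closure {y} ⊆ closure {x}
      exact closure_minimal (Set.singleton_subset_iff.mpr hy) isClosed_closure
    have hab : a ≤ b := hmin a hba
    have hx : x ∈ closure ({y} : Set Z) := hab (subset_closure (Set.mem_singleton x))
    have h1 : y ⤳ x := specializes_iff_mem_closure.mpr hx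
    have h2 : x ⤳ y := specializes_iff_mem_closure.mpr hy
    have : Inseparable x y := h2.antisymm h1
    exact (this.eq).symm
  rw [← key]
  exact isClosed_closure

/-- If a closed subset of a T0 space has Krull dimension `≤ 0`, all its points are closed in the
ambient space. -/
theorem isClosed_singleton_of_mem {X : Type*} [TopologicalSpace X] [T0Space X]
    (Z : Set X) (hZ : IsClosed Z) (h : topologicalKrullDim Z ≤ 0) (x : X) (hx : x ∈ Z) :
    IsClosed ({x} : Set X) := by
  have h1 : IsClosed ({⟨x, hx⟩} : Set Z) := isClosed_singleton_of_dim_le_zero h ⟨x, hx⟩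
  have h2 := hZ.isClosedEmbedding_subtypeVal.isClosedMap _ h1
  simpa using h2

end Groth.Agent.Lib.T2H5.Dim0
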