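import Mathlib
import Groth.Agent.S0047
import Groth.Agent.Lib.T2H5Dim0
import Groth.Agent.Lib.Helper23LocGen
import Groth.Agent.Lib.Helper23SecTw3

set_option autoImplicit false
set_option linter.style.haveILetI false
universe u
open CategoryTheory CategoryTheory.Limits AlgebraicGeometry TopologicalSpace Opposite

namespace Groth.Agent.Lib.T2H5.Dim0

open Groth.Agent.Lib.Helper23.LocGen Groth.Agent.Lib.Helper23.SecTw Groth.Agent.Lib.Helper6
open Groth.Agent.Lib.Helper23.Support Groth.Agent.Lib.Helper23.AffVanish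

variable {X : Scheme.{u}}

theorem locGen_top_of_closed_points [IsLocallyNoetherian X] (M : X.Modules) (hM : Coh.IsCoh M)
    (h0 : ∀ x ∈ CohB1.support M, IsClosed ({x} : Set X)) : LocGen M ⊤ := by
  have hZ : IsClosed (CohB1.support M) := Groth.Agent.S0020.result X M hM.2
  intro A _ m y hy
  by_cases hyZ : y ∈ CohB1.support M
  · let T : Set X := CohB1.support M \ {y}
    have hTc : IsClosed T := Groth.Agent.S0047.isClosed_of_subset_support M hM h0 T Set.sdiff_subset
    have hyc : IsClosed ({y} : Set X) := h0 y hyZ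
    let B : X.Opens := A ⊓ ⟨Tᶜ, hTc.isOpen_compl⟩
    let W₂ : X.Opens := ⟨({y} : Set X)ᶜ, hyc.isOpen_compl⟩
    have hyB : y ∈ B := ⟨hy, fun h => h.2 rfl⟩
    have hcov : (⊤ : X.Opens) ≤ B ⊔ W₂ := by
      intro x _
      by_cases hxy : x = y
      · left; rw [hxy]; exact hyB
      · right; exact hxy
    have hdis : ∀ x ∈ B ⊓ W₂, x ∉ CohB1.support M := by
      intro x hx hxZ
      exact hx.1.2 ⟨hxZ, hx.2⟩
    have hBA : B ≤ A := inf_le_left
    have hz : (ab' M).obj.map (homOfLE (inf_le_left : B ⊓ W₂ ≤ B)).op (res M hBA m) =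
        (ab' M).obj.map (homOfLE (inf_le_right : B ⊓ W₂ ≤ W₂)).op 0 := by
      rw [map_zero]
      exact eq_zero_of_disjoint_support M (B ⊓ W₂) hdis _
    obtain ⟨c, hc1, -⟩ := Groth.Agent.Lib.Helper16.SectSupp.glue2 (ab' M) B W₂ ⊤ le_top
      le_top hcov (res M hBA m) 0 hz
    refine ⟨B, hBA, hyB, ?_⟩
    have h1 : sv (secHom M c) B = res M le_top c := sv_secHom M c B
    have h2 : res M (le_top : B ≤ ⊤) c = res M hBA m := hc1
    rw [← h2, ← h1]
    exact sv_mem_gspan M (secHom M c) B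
  · let B : X.Opens := A ⊓ ⟨(CohB1.support M)ᶜ, hZ.isOpen_compl⟩
    have hBA : B ≤ A := inf_le_left
    refine ⟨B, hBA, ⟨hy, hyZ⟩, ?_⟩
    rw [eq_zero_of_disjoint_support M B (fun x hx => hx.2) (res M hBA m)]
    exact zero_mem _

theorem isGloballyGenerated_of_closed_points [IsLocallyNoetherian X] (M : X.Modules)
    (hM : Coh.IsCoh M) (h0 : ∀ x ∈ CohB1.support M, IsClosed ({x} : Set X)) :
    Curv2.IsGloballyGenerated M :=
  isGloballyGenerated_of_locGen M
    (fun _ => ⟨⊤, trivial, locGen_top_of_closed_points M hM h0⟩)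

end Groth.Agent.Lib.T2H5.Dim0
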