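import Mathlib
import Groth.Prelude.Def_Pic
import Groth.Agent.Lib.Helper20InvGen
import Groth.Agent.Lib.Helper23StalkLin
import Groth.Agent.Lib.T2H5GenIsoB
import Groth.Agent.S5084

/-!
# Nonzero maps between invertible modules on an integral scheme (helper6)

A nonzero morphism of invertible modules on an integral scheme is a monomorphism and is surjective
at the generic point.
-/

set_option autoImplicit false
universe u

open AlgebraicGeometry CategoryTheory Limits

namespace Groth.Agent.Lib.T2H6.InvMono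

open Groth.Agent.Lib.Helper4.NormDelta Groth.Agent.Lib.Helper23.StalkLin
  Groth.Agent.Lib.Helper20.InvGen Groth.Agent.Lib.Helper2

variable {X : Scheme.{u}}

/-- `t` is a free generator of `N` at all points of `W`. -/
def IsGenOn (N : X.Modules) (W : X.Opens) (t : Γ(N, W)) : Prop :=
  ∀ (y : X) (hy : y ∈ W),
    Function.Bijective (fun c : X.presheaf.stalk y => c • N.presheaf.germ W y hy t)

theorem IsGenOn.res {N : X.Modules} {W W' : X.Opens} {t : Γ(N, W)} (ht : IsGenOn N W t)
    (h : W' ≤ W) : IsGenOn N W' (N.presheaf.map (homOfLE h).op t) :=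
  fun y hy => generator_res N h t ht y hy

/-- Common generators of two invertible modules near a point, inside a given open. -/
theorem exists_common_gen (N L : X.Modules) (hN : PicF.IsInvertible N) (hL : PicF.IsInvertible L)
    (V : X.Opens) (x : X) (hx : x ∈ V) :
    ∃ (W : X.Opens) (_ : W ≤ V) (t : Γ(N, W)) (l : Γ(L, W)), x ∈ W ∧ IsGenOn N W t ∧
      IsGenOn L W l := by
  obtain ⟨W₁, t₁, hx₁, ht₁⟩ := exists_local_generator N hN x
  obtain ⟨W₂, t₂, hx₂, ht₂⟩ := exists_local_generator L hL x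
  refine ⟨W₁ ⊓ W₂ ⊓ V, inf_le_right,
    N.presheaf.map (homOfLE (inf_le_left.trans inf_le_left : W₁ ⊓ W₂ ⊓ V ≤ W₁)).op t₁,
    L.presheaf.map (homOfLE (inf_le_left.trans inf_le_right : W₁ ⊓ W₂ ⊓ V ≤ W₂)).op t₂,
    ⟨⟨hx₁, hx₂⟩, hx⟩, IsGenOn.res (N := N) ht₁ _, IsGenOn.res (N := L) ht₂ _⟩

theorem exists_germ_eq_le_O (W : X.Opens) (y : X) (hy : y ∈ W) (a : X.presheaf.stalk y) :
    ∃ (U : X.Opens) (_ : U ≤ W) (hyU : y ∈ U) (s : Γ(X, U)), X.presheaf.germ U y hyU s = a := by
  obtain ⟨U, hyU, s, rfl⟩ := X.presheaf.exists_germ_eq a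
  refine ⟨U ⊓ W, inf_le_right, ⟨hyU, hy⟩, X.presheaf.map (homOfLE inf_le_left).op s, ?_⟩
  exact TopCat.Presheaf.germ_res_apply X.presheaf (homOfLE inf_le_left) y ⟨hyU, hy⟩ s

/-- The stalk map vanishes as soon as it kills a generator. -/
theorem stalkLin_eq_zero_of_gen {N L : X.Modules} (φ : N ⟶ L) {W : X.Opens} {t : Γ(N, W)}
    (ht : IsGenOn N W t) (y : X) (hy : y ∈ W)
    (h : stalkLin φ y (N.presheaf.germ W y hy t) = 0) : stalkLin φ y = 0 := by
  ext g
  obtain ⟨c, rfl⟩ := (ht y hy).2 g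
  change stalkLin φ y (c • N.presheaf.germ W y hy t) = 0
  rw [map_smul, h, smul_zero]

theorem eq_zero_of_stalkLin_eq_zero {N L : X.Modules} (φ : N ⟶ L)
    (h : ∀ z : X, stalkLin φ z = 0) : φ = 0 := by
  ext U m
  refine TopCat.Presheaf.section_ext ⟨L.presheaf, L.isSheaf⟩ U _ _ (fun z hz => ?_)
  have h1 := stalkLin_germ φ z U hz m
  rw [h z] at h1
  change L.presheaf.germ U z hz (φ.app U m) = L.presheaf.germ U z hz 0
  rw [map_zero]
  exact h1.symm

variable [IsIntegral X]

/-- Vanishing at one point propagates to the generic point. -/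
theorem stalkLin_generic_eq_zero {N L : X.Modules} (hN : PicF.IsInvertible N) (φ : N ⟶ L)
    (x : X) (h : stalkLin φ x = 0) : stalkLin φ (genericPoint X) = 0 := by
  obtain ⟨W, t, hxW, ht⟩ := exists_local_generator N hN x
  have h0 : L.presheaf.germ W x hxW (φ.app W t) = L.presheaf.germ W x hxW 0 := by
    rw [← stalkLin_germ, h, map_zero]
    rfl
  obtain ⟨W₁, hxW₁, i₁, i₂, hW₁⟩ := L.presheaf.germ_eq x hxW hxW _ _ h0
  have hne : (W₁ : Set X).Nonempty := ⟨x, hxW₁⟩
  have hη : genericPoint X ∈ W₁ :=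
    ((genericPoint_spec X).mem_open_set_iff W₁.isOpen).mpr (by simpa using hne)
  have hηW : genericPoint X ∈ W := leOfHom i₁ hη
  refine stalkLin_eq_zero_of_gen φ ht (genericPoint X) hηW ?_
  rw [stalkLin_germ, ← TopCat.Presheaf.germ_res_apply L.presheaf i₁ (genericPoint X) hη, hW₁,
    map_zero, map_zero]

/-- Vanishing at the generic point propagates everywhere. -/
theorem stalkLin_eq_zero_of_generic {N L : X.Modules} (hN : PicF.IsInvertible N)
    (hL : PicF.IsInvertible L) (φ : N ⟶ L) (h : stalkLin φ (genericPoint X) = 0) (z : X) :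
    stalkLin φ z = 0 := by
  obtain ⟨W, -, t, l, hzW, ht, hl⟩ := exists_common_gen N L hN hL ⊤ z trivial
  refine stalkLin_eq_zero_of_gen φ ht z hzW ?_
  obtain ⟨a, ha⟩ := (hl z hzW).2 (stalkLin φ z (N.presheaf.germ W z hzW t))
  obtain ⟨W₁, hW₁, hzW₁, a₁, rfl⟩ := exists_germ_eq_le_O W z hzW a
  -- the two sections `φ t` and `a₁ • l` agree near `z`
  have h1 : L.presheaf.germ W₁ z hzW₁ (L.presheaf.map (homOfLE hW₁).op (φ.app W t)) =
      L.presheaf.germ W₁ z hzW₁ (a₁ • L.presheaf.map (homOfLE hW₁).op l) := by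
    rw [TopCat.Presheaf.germ_res_apply L.presheaf (homOfLE hW₁) z hzW₁, ← stalkLin_germ, ← ha,
      QCoh.germ_smul, TopCat.Presheaf.germ_res_apply L.presheaf (homOfLE hW₁) z hzW₁]
  obtain ⟨W₂, hzW₂, i₁, i₂, hW₂⟩ := L.presheaf.germ_eq z hzW₁ hzW₁ _ _ h1
  have hne : (W₂ : Set X).Nonempty := ⟨z, hzW₂⟩
  have hη : genericPoint X ∈ W₂ :=
    ((genericPoint_spec X).mem_open_set_iff W₂.isOpen).mpr (by simpa using hne)
  have hηW₁ : genericPoint X ∈ W₁ := leOfHom i₁ hη
  have hηW : genericPoint X ∈ W := hW₁ hηW₁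
  -- evaluate at the generic point
  have h2 := congrArg (L.presheaf.germ W₂ (genericPoint X) hη) hW₂
  rw [TopCat.Presheaf.germ_res_apply L.presheaf i₁ (genericPoint X) hη,
    TopCat.Presheaf.germ_res_apply L.presheaf i₂ (genericPoint X) hη,
    TopCat.Presheaf.germ_res_apply L.presheaf (homOfLE hW₁) (genericPoint X) hηW₁,
    ← stalkLin_germ, h, QCoh.germ_smul,
    TopCat.Presheaf.germ_res_apply L.presheaf (homOfLE hW₁) (genericPoint X) hηW₁] at h2
  have h3 : X.presheaf.germ W₁ (genericPoint X) hηW₁ a₁ = 0 := by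
    apply (hl (genericPoint X) hηW).1
    change _ • _ = _ • _
    rw [zero_smul]
    exact h2.symm
  have h4 : a₁ = 0 := by
    apply germ_injective_of_isIntegral X (genericPoint X) hηW₁
    rw [h3, map_zero]
  rw [← ha, h4, map_zero]
  exact zero_smul _ _

/-- A nonzero map of invertible modules is injective on all stalks. -/
theorem stalkLin_ne_zero {N L : X.Modules} (hN : PicF.IsInvertible N) (hL : PicF.IsInvertible L)
    (φ : N ⟶ L) (hφ : φ ≠ 0) (x : X) : stalkLin φ x ≠ 0 := fun h =>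
  hφ (eq_zero_of_stalkLin_eq_zero φ
    (stalkLin_eq_zero_of_generic hN hL φ (stalkLin_generic_eq_zero hN φ x h)))

theorem stalkLin_injective_of_ne_zero {N L : X.Modules} (hN : PicF.IsInvertible N)
    (hL : PicF.IsInvertible L) (φ : N ⟶ L) (hφ : φ ≠ 0) (x : X) :
    Function.Injective (stalkLin φ x) := by
  rw [injective_iff_map_eq_zero]
  intro g hg
  obtain ⟨W, -, t, l, hxW, ht, hl⟩ := exists_common_gen N L hN hL ⊤ x trivial
  obtain ⟨c, rfl⟩ := (ht x hxW).2 g
  obtain ⟨a, ha⟩ := (hl x hxW).2 (stalkLin φ x (N.presheaf.germ W x hxW t))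
  change stalkLin φ x (c • N.presheaf.germ W x hxW t) = 0 at hg
  rw [map_smul, ← ha] at hg
  change c • (a • L.presheaf.germ W x hxW l) = 0 at hg
  rw [smul_smul] at hg
  have hca : c * a = 0 := by
    apply (hl x hxW).1
    change (c * a) • _ = (0 : X.presheaf.stalk x) • _
    rw [zero_smul]
    exact hg
  rcases mul_eq_zero.mp hca with hc | ha0
  · change c • _ = 0
    rw [hc, zero_smul]
  · exfalso
    apply stalkLin_ne_zero hN hL φ hφ x
    refine stalkLin_eq_zero_of_gen φ ht x hxW ?_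
    rw [← ha, ha0]
    exact zero_smul _ _

theorem mono_of_ne_zero {N L : X.Modules} (hN : PicF.IsInvertible N) (hL : PicF.IsInvertible L)
    (φ : N ⟶ L) (hφ : φ ≠ 0) : Mono φ := by
  refine Groth.Agent.S5084.mono_of_injective_app φ fun V => ?_
  rw [injective_iff_map_eq_zero]
  intro m hm
  refine TopCat.Presheaf.section_ext ⟨N.presheaf, N.isSheaf⟩ V _ _ (fun z hz => ?_)
  change N.presheaf.germ V z hz m = N.presheaf.germ V z hz 0
  rw [map_zero]
  apply stalkLin_injective_of_ne_zero hN hL φ hφ z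
  rw [stalkLin_germ, map_zero]
  have : φ.app V m = 0 := hm
  rw [this, map_zero]

/-- A nonzero map of invertible modules is surjective on the generic stalk. -/
theorem stalkLin_generic_surjective {N L : X.Modules} (hN : PicF.IsInvertible N)
    (hL : PicF.IsInvertible L) (φ : N ⟶ L) (hφ : φ ≠ 0) :
    Function.Surjective (stalkLin φ (genericPoint X)) := by
  obtain ⟨W, -, t, l, hxW, ht, hl⟩ :=
    exists_common_gen N L hN hL ⊤ (genericPoint X) trivial
  obtain ⟨a, ha⟩ := (hl _ hxW).2 (stalkLin φ _ (N.presheaf.germ W _ hxW t))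
  have ha0 : a ≠ 0 := by
    intro ha0
    apply stalkLin_ne_zero hN hL φ hφ (genericPoint X)
    refine stalkLin_eq_zero_of_gen φ ht _ hxW ?_
    rw [← ha, ha0]
    exact zero_smul _ _
  letI : Field (X.presheaf.stalk (genericPoint X)) :=
    inferInstanceAs (Field X.functionField)
  intro g
  obtain ⟨c, rfl⟩ := (hl _ hxW).2 g
  refine ⟨(c * a⁻¹) • N.presheaf.germ W _ hxW t, ?_⟩
  rw [map_smul, ← ha]
  change (c * a⁻¹) • (a • _) = c • _
  rw [smul_smul, mul_assoc, inv_mul_cancel₀ ha0, mul_one]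

end Groth.Agent.Lib.T2H6.InvMono
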