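import Mathlib
import Groth.Prelude.Def_Curv2
import Groth.Agent.Lib.T2H6InvMono
import Groth.Agent.Lib.T2H6RankAdd
import Groth.Agent.Lib.Helper20CDiv2
import Groth.Agent.Lib.T2H5Dim0c
import Groth.Agent.Lib.T2H5AmplePn
import Groth.Agent.Lib.Helper23QAffSec
import Groth.Agent.Lib.Helper23TensorUnit
import Groth.Agent.S0047

/-!
# Degrees of invertible modules on a proper integral curve (helper6)

For a nonzero map `φ : N ⟶ L` of invertible modules on a proper integral curve,
`χ(L) = χ(N) + h⁰(coker φ)`, and `φ` is an isomorphism as soon as `h⁰(coker φ) = 0`.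
-/

set_option autoImplicit false
universe u

open AlgebraicGeometry CategoryTheory Limits

namespace Groth.Agent.Lib.T2H6.CurveDeg

open Groth.Agent.Lib.Helper4.NormDelta Groth.Agent.Lib.Helper23.StalkLin
  Groth.Agent.Lib.T2H6.InvMono

variable {X : Scheme.{u}} [IsIntegral X]

/-- The short exact sequence `0 → N → L → coker φ → 0`. -/
noncomputable def sc {N L : X.Modules} (φ : N ⟶ L) : ShortComplex X.Modules :=
  ShortComplex.mk φ (cokernel.π φ) (cokernel.condition φ)

theorem sc_shortExact {N L : X.Modules} (hN : PicF.IsInvertible N) (hL : PicF.IsInvertible L)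
    (φ : N ⟶ L) (hφ : φ ≠ 0) : (sc φ).ShortExact :=
  haveI : Mono (sc φ).f := mono_of_ne_zero hN hL φ hφ
  haveI : Epi (sc φ).g := inferInstanceAs (Epi (cokernel.π φ))
  ShortComplex.ShortExact.mk (ShortComplex.exact_cokernel φ)

theorem generic_notMem_support {N L : X.Modules} (hN : PicF.IsInvertible N)
    (hL : PicF.IsInvertible L) (φ : N ⟶ L) (hφ : φ ≠ 0) :
    genericPoint X ∉ CohB1.support (cokernel φ) := by
  intro h
  apply h
  refine ⟨fun a b => ?_⟩
  have key : ∀ q : (cokernel φ).presheaf.stalk (genericPoint X), q = 0 := by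
    intro q
    obtain ⟨l, rfl⟩ := stalkLin_surjective (cokernel.π φ) (genericPoint X) q
    obtain ⟨n, rfl⟩ := stalkLin_generic_surjective hN hL φ hφ l
    exact ((stalkLin_exact (sc φ) (sc_shortExact hN hL φ hφ) (genericPoint X)) _).mpr ⟨n, rfl⟩
  rw [key a, key b]

theorem isClosed_of_mem_support [IsLocallyNoetherian X] (hdim : topologicalKrullDim X = 1)
    {N L : X.Modules} (hN : PicF.IsInvertible N) (hL : PicF.IsInvertible L) (φ : N ⟶ L)
    (hφ : φ ≠ 0) : ∀ x ∈ CohB1.support (cokernel φ), IsClosed ({x} : Set X) := by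
  intro x hx
  refine Groth.Agent.Lib.Helper20.CDivLib.isClosed_singleton_of_ne_genericPoint hdim.le x ?_
  rintro rfl
  exact generic_notMem_support hN hL φ hφ hx

theorem isCoh_of_isInvertible {Y : Scheme.{u}} (L : Y.Modules) (hL : PicF.IsInvertible L) :
    Coh.IsCoh L :=
  Groth.Agent.Lib.T2H6.RankAdd.isCoh_of_isFinLocFreeOfRank L 1
    (Groth.Agent.Lib.Helper23.SecTw.isFinLocFreeOfRank_one_of_isInvertible L hL)

theorem isCoh_cokernel {N L : X.Modules} (hN : PicF.IsInvertible N) (hL : PicF.IsInvertible L)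
    (φ : N ⟶ L) : Coh.IsCoh (cokernel φ) :=
  Groth.Agent.Lib.T2H5.GenIsoB.isCoh_cokernel φ (isCoh_of_isInvertible N hN)
    (isCoh_of_isInvertible L hL)

variable (k : Type u) [Field k] [X.Over (Spec (CommRingCat.of k))]
  [IsProper (X ↘ (Spec (CommRingCat.of k)))]

include k in
theorem isLocallyNoetherian : IsLocallyNoetherian X :=
  LocallyOfFiniteType.isLocallyNoetherian (X ↘ Spec (CommRingCat.of k))

/-- `χ(L) = χ(N) + h⁰(coker φ)`. -/
theorem euler_eq (hdim : topologicalKrullDim X = 1) {N L : X.Modules}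
    (hN : PicF.IsInvertible N) (hL : PicF.IsInvertible L) (φ : N ⟶ L) (hφ : φ ≠ 0) :
    Curv2.euler k X L = Curv2.euler k X N +
      (Module.finrank k (Coh.HH X (cokernel φ) 0) : ℤ) := by
  haveI := isLocallyNoetherian (X := X) k
  have h1 := Groth.Agent.Lib.T2H6.EulerField.euler_additive k X (sc φ)
    (sc_shortExact hN hL φ hφ) (isCoh_of_isInvertible N hN) (isCoh_of_isInvertible L hL)
    (isCoh_cokernel hN hL φ)
  have h2 : Curv2.euler k X (cokernel φ) = (Module.finrank k (Coh.HH X (cokernel φ) 0) : ℤ) := by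
    rw [Groth.Agent.Lib.T2H6.EulerField.euler_eq_sum k X (cokernel φ) 0
      (fun i hi => Groth.Agent.S0047.result X _ (isCoh_cokernel hN hL φ)
        (isClosed_of_mem_support hdim hN hL φ hφ) i hi)]
    simp
  change Curv2.euler k X L = Curv2.euler k X N + Curv2.euler k X (cokernel φ) at h1
  rw [h1, h2]

theorem deg_le (hdim : topologicalKrullDim X = 1) {N L : X.Modules}
    (hN : PicF.IsInvertible N) (hL : PicF.IsInvertible L) (φ : N ⟶ L) (hφ : φ ≠ 0) :
    Curv2.deg k X N 1 ≤ Curv2.deg k X L 1 := by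
  unfold Curv2.deg
  rw [euler_eq k hdim hN hL φ hφ]
  have : (0 : ℤ) ≤ (Module.finrank k (Coh.HH X (cokernel φ) 0) : ℤ) := Int.natCast_nonneg _
  linarith

/-- If `h⁰(coker φ) = 0` then `φ` is an isomorphism. -/
theorem isIso_of_finrank_eq_zero (hdim : topologicalKrullDim X = 1) {N L : X.Modules}
    (hN : PicF.IsInvertible N) (hL : PicF.IsInvertible L) (φ : N ⟶ L) (hφ : φ ≠ 0)
    (h0 : Module.finrank k (Coh.HH X (cokernel φ) 0) = 0) : IsIso φ := by
  haveI := isLocallyNoetherian (X := X) k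
  haveI : Module.Finite k (Coh.HH X (cokernel φ) 0) :=
    Groth.Agent.Lib.T2H6.EulerField.finite_HH k X _ (isCoh_cokernel hN hL φ) 0
  have hsub : Subsingleton (Coh.HH X (cokernel φ) 0) := Module.finrank_zero_iff.mp h0
  have hgg := Groth.Agent.Lib.T2H5.Dim0.isGloballyGenerated_of_closed_points (cokernel φ)
    (isCoh_cokernel hN hL φ) (isClosed_of_mem_support hdim hN hL φ hφ)
  have hz : IsZero (cokernel φ) :=
    Groth.Agent.Lib.T2H5.AmplePn.isZero_of_isGloballyGenerated _ hgg hsub
  haveI : Mono φ := mono_of_ne_zero hN hL φ hφ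
  haveI : Epi φ := Preadditive.epi_of_isZero_cokernel φ hz
  exact isIso_of_mono_of_epi φ

theorem isIso_of_deg_eq (hdim : topologicalKrullDim X = 1) {N L : X.Modules}
    (hN : PicF.IsInvertible N) (hL : PicF.IsInvertible L) (φ : N ⟶ L) (hφ : φ ≠ 0)
    (h : Curv2.deg k X N 1 = Curv2.deg k X L 1) : IsIso φ := by
  refine isIso_of_finrank_eq_zero k hdim hN hL φ hφ ?_
  unfold Curv2.deg at h
  rw [euler_eq k hdim hN hL φ hφ] at h
  have : (Module.finrank k (Coh.HH X (cokernel φ) 0) : ℤ) = 0 := by linarith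
  exact_mod_cast this

theorem deg_structureModule : Curv2.deg k X (Coh.structureModule X) 1 = 0 := by
  unfold Curv2.deg
  simp

omit [IsIntegral X] in
theorem mem_genLocus_of_isIso (L : X.Modules) (s : Coh.structureModule X ⟶ L) [IsIso s] (x : X) :
    x ∈ CohB1.genLocus L s := by
  have h : (⊤ : X.Opens) ≤ CohB1.genLocus L s := by
    apply le_sSup
    change IsIso ((Scheme.Modules.restrictFunctor (⊤ : X.Opens).ι).map s)
    infer_instance
  exact h trivial

theorem deg_nonneg (hdim : topologicalKrullDim X = 1) (L : X.Modules) (hL : PicF.IsInvertible L)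
    (s : Coh.structureModule X ⟶ L) (hs : s ≠ 0) : 0 ≤ Curv2.deg k X L 1 := by
  have := deg_le k hdim (Groth.Agent.Lib.Helper23.TensorUnit.isInvertible_structureModule X) hL s hs
  rwa [deg_structureModule] at this

theorem isIso_of_deg_nonpos (hdim : topologicalKrullDim X = 1) (L : X.Modules)
    (hL : PicF.IsInvertible L) (s : Coh.structureModule X ⟶ L) (hs : s ≠ 0)
    (hdeg : Curv2.deg k X L 1 ≤ 0) : IsIso s := by
  refine isIso_of_deg_eq k hdim
    (Groth.Agent.Lib.Helper23.TensorUnit.isInvertible_structureModule X) hL s hs ?_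
  rw [deg_structureModule]
  exact le_antisymm (deg_nonneg k hdim L hL s hs) hdeg

theorem deg_pos (hdim : topologicalKrullDim X = 1) (L : X.Modules) (hL : PicF.IsInvertible L)
    (s : Coh.structureModule X ⟶ L) (hs : s ≠ 0) (x : X) (hx : x ∉ CohB1.genLocus L s) :
    0 < Curv2.deg k X L 1 := by
  by_contra hle
  rw [not_lt] at hle
  haveI := isIso_of_deg_nonpos k hdim L hL s hs hle
  exact hx (mem_genLocus_of_isIso L s x)

end Groth.Agent.Lib.T2H6.CurveDeg
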