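import Mathlib
import Groth.Agent.S2385
import Groth.Agent.S19429
import Groth.Agent.Lib.T2H5RegPush
import Groth.Agent.Lib.Helper23ModLocal
import Groth.Agent.Lib.Helper2PullbackSec2
import Groth.Agent.Lib.Helper26FlatLimC
import Groth.Agent.Lib.Helper23RestrTensor
import Groth.Agent.Lib.Helper23TensorQCoh
import Groth.Agent.Lib.T2H6CurveDeg
set_option backward.isDefEq.respectTransparency.types false

/-!
# T2H5FibReg: fibrewise Castelnuovo–Mumford regular flat families on `P^n_S` (helper5)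

Namespace `Groth.Agent.Lib.T2H5.FibReg`.

* `isFlatOver_tensor_of_isInvertible`: twisting by an invertible module preserves flatness over the base.
* `isZero_Rpush_of_fibre`: vanishing of `H^i` on all fibres gives `R^i f_* F = 0` (from helper9's `S2385`).
* `main`: for `Q` coherent on `P^n_S`, flat over `S` Noetherian, with `m`-regular fibres and `d ≥ m`: `π_* Q(d)` is finite
  locally free, `R^i π_* Q(d) = 0` for `i ≥ 1` and `π^* π_* Q(d) ⟶ Q(d)` is an epimorphism.
-/

set_option autoImplicit false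
set_option linter.style.haveILetI false
set_option linter.unusedSectionVars false
universe u
open CategoryTheory CategoryTheory.Limits AlgebraicGeometry TopologicalSpace Opposite

namespace Groth.Agent.Lib.T2H5.FibReg

section Flat

variable {X S : Scheme.{u}} (f : X ⟶ S)

theorem isFlatOverAt_restrict_iff (G : X.Modules) [G.IsQuasicoherent] (U : X.Opens) (x : U) :
    FlatMod.IsFlatOverAt f G (U.ι.base x) ↔
      FlatMod.IsFlatOverAt (U.ι ≫ f) ((Scheme.Modules.pullback U.ι).obj G) x := by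
  refine Groth.Agent.Lib.Helper2.PullbackSec.isFlatOverAt_pullback_iff U.ι f G x ?_
  exact RingHom.Flat.of_bijective (ConcreteCategory.bijective_of_isIso (U.ι.stalkMap x))

theorem isCoh_tensor {F V : X.Modules} (hF : Coh.IsCoh F) (hV : Coh.IsCoh V) :
    Coh.IsCoh (CohB1.tensorMod F V) := by
  haveI := hF.1
  haveI := hV.1
  haveI : SheafOfModules.IsFiniteType (R := X.ringCatSheaf) F := hF.2
  haveI : SheafOfModules.IsFiniteType (R := X.ringCatSheaf) V := hV.2
  exact ⟨Groth.Agent.Lib.Helper23.TensorQCoh.isQuasicoherent_tensorMod F V,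
    Groth.Agent.Lib.Helper23.TensorQCoh.isFiniteType_tensorMod F V⟩

/-- twisting by an invertible module preserves flatness over the base -/
theorem isFlatOver_tensor_of_isInvertible (F L : X.Modules) [F.IsQuasicoherent] (hL : PicF.IsInvertible L)
    (hfl : FlatMod.IsFlatOver f F) : FlatMod.IsFlatOver f (CohB1.tensorMod F L) := by
  intro x
  obtain ⟨U, hxU, ⟨e⟩⟩ := hL x
  haveI : L.IsQuasicoherent := Groth.Agent.Lib.Helper23.SecTw.isQuasicoherent_of_isInvertible L hL
  haveI : (CohB1.tensorMod F L).IsQuasicoherent :=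
    Groth.Agent.Lib.Helper23.TensorQCoh.isQuasicoherent_tensorMod F L
  let e1 : (Scheme.Modules.pullback U.ι).obj (CohB1.tensorMod F L) ≅
      CohB1.tensorMod ((Scheme.Modules.pullback U.ι).obj F) ((Scheme.Modules.pullback U.ι).obj L) :=
    Groth.Agent.Lib.Helper23.RestrTensor.pullbackTensorIso F L U.ι
  let e2 : (Scheme.Modules.pullback U.ι).obj L ≅ Coh.structureModule (↑U) :=
    ((Scheme.Modules.restrictFunctorIsoPullback U.ι).app L).symm ≪≫ e
  let e3 : CohB1.tensorMod ((Scheme.Modules.pullback U.ι).obj F) ((Scheme.Modules.pullback U.ι).obj L) ≅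
      CohB1.tensorMod ((Scheme.Modules.pullback U.ι).obj F) (Coh.structureModule (↑U)) :=
    Groth.Agent.Lib.Helper23.AmpleIso.tensorModIso (Iso.refl _) e2
  let e4 : CohB1.tensorMod ((Scheme.Modules.pullback U.ι).obj F) (Coh.structureModule (↑U)) ≅
      (Scheme.Modules.pullback U.ι).obj F :=
    Groth.Agent.Lib.Helper23.TensorUnit.tensorUnitIso _
  have h1 : FlatMod.IsFlatOverAt (U.ι ≫ f) ((Scheme.Modules.pullback U.ι).obj F) ⟨x, hxU⟩ :=
    (isFlatOverAt_restrict_iff f F U ⟨x, hxU⟩).1 (hfl x)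
  have h2 : FlatMod.IsFlatOverAt (U.ι ≫ f) ((Scheme.Modules.pullback U.ι).obj (CohB1.tensorMod F L)) ⟨x, hxU⟩ :=
    Groth.Agent.Lib.Helper26.FlatLim.isFlatOverAt_of_iso (U.ι ≫ f) (e1 ≪≫ e3 ≪≫ e4).symm ⟨x, hxU⟩ h1
  exact (isFlatOverAt_restrict_iff f (CohB1.tensorMod F L) U ⟨x, hxU⟩).2 h2

end Flat

section Fibre

variable {X Y : Scheme.{u}} (f : X ⟶ Y) [IsProper f] [IsLocallyNoetherian Y] [HasInjectiveResolutions X.Modules]

/-- vanishing of `H^i` on all fibres gives `R^i f_* F = 0` -/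
theorem isZero_Rpush_of_fibre (F : X.Modules) (hF : Coh.IsCoh F) (hfl : FlatMod.IsFlatOver f F) (i : ℕ)
    (h : ∀ y : Y, Subsingleton (CohIII.fiberH f F y i)) : IsZero ((Coh.Rpush f i).obj F) := by
  choose U hyU hU using fun y : Y => Groth.Agent.S2385.result f F hF hfl y i (h y)
  exact Groth.Agent.Lib.Helper23.ModLocal.isZero_of_isZero_restrict (fun y : Y => ((U y : Y.Opens) : Scheme.{u}))
    (fun y => (U y).ι) (fun y => ⟨y, ⟨y, hyU y⟩, rfl⟩) hU

/-- vanishing of `H^i` on all fibres gives `R^i f_* F = 0` (abelian sheaves) -/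
theorem isZero_RpushAb_of_fibre (F : X.Modules) (hF : Coh.IsCoh F) (hfl : FlatMod.IsFlatOver f F) (i : ℕ)
    (h : ∀ y : Y, Subsingleton (CohIII.fiberH f F y i)) :
    IsZero ((Coh.RpushAb f i).obj (Coh.toAb F)) := by
  obtain ⟨e⟩ := Groth.Agent.Lib.Helper23.ModAbBridge.nonempty_toAb_Rpush_iso f F i
  have hz := isZero_Rpush_of_fibre f F hF hfl i h
  have hz' : IsZero (Coh.toAb ((Coh.Rpush f i).obj F)) :=
    (SheafOfModules.toSheaf Y.ringCatSheaf).map_isZero hz
  exact hz'.of_iso e.symm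

end Fibre

section Pn

open Groth.Agent.Lib.T2H5.TwistOver Groth.Agent.Lib.T2H5.RegPush Groth.Agent.Lib.Helper21.ModTensor5

variable (n : ℕ) (S : Scheme.{u})

/-- `O(a) ⊗ (Q ⊗ O(b)) ≅ Q ⊗ O(a + b)` -/
theorem nonempty_twF_tensor_iso (Q : (KRR.PY n S).Modules) (a b c : ℤ) (h : a + b = c) :
    Nonempty (KRR.twF n S a (CohB1.tensorMod Q (Twist.twistOver n S b)) ≅
      CohB1.tensorMod Q (Twist.twistOver n S c)) := by
  obtain ⟨e⟩ := nonempty_twistOver_tensor_iso n S b a c (by omega)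
  let i1 : CohB1.tensorMod (Twist.twistOver n S a) (CohB1.tensorMod Q (Twist.twistOver n S b)) ≅
      CohB1.tensorMod (CohB1.tensorMod Q (Twist.twistOver n S b)) (Twist.twistOver n S a) :=
    brdApp (CohB1.ProjSpaceOver n S).sheaf (Twist.twistOver n S a) (CohB1.tensorMod Q (Twist.twistOver n S b))
  let i2 : CohB1.tensorMod (CohB1.tensorMod Q (Twist.twistOver n S b)) (Twist.twistOver n S a) ≅
      CohB1.tensorMod Q (CohB1.tensorMod (Twist.twistOver n S b) (Twist.twistOver n S a)) :=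
    Groth.Agent.Lib.Helper23.LocGen.tensorAssoc _ _ _
  let i3 : CohB1.tensorMod Q (CohB1.tensorMod (Twist.twistOver n S b) (Twist.twistOver n S a)) ≅
      CohB1.tensorMod Q (Twist.twistOver n S c) :=
    Groth.Agent.Lib.Helper23.AmpleIso.tensorModIso (Iso.refl Q) e
  exact ⟨i1 ≪≫ i2 ≪≫ i3⟩

variable [IsNoetherian S]

/-- **S16625** -/
theorem main (Q : (CohB1.ProjSpaceOver n S).Modules) (hQ : Coh.IsCoh Q)
    (hflat : FlatMod.IsFlatOver (CohB1.ProjSpaceOver.toBase n S) Q) (m : ℤ)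
    (hreg : ∀ (s : S) (i : ℕ), 1 ≤ i →
      Subsingleton (CohIII.fiberH (CohB1.ProjSpaceOver.toBase n S)
        (CohB1.tensorMod Q (Twist.twistOver n S (m - i))) s i))
    (d : ℤ) (hd : m ≤ d) :
    FlatMod.IsFinLocFree ((Coh.push (CohB1.ProjSpaceOver.toBase n S)).obj
        (CohB1.tensorMod Q (Twist.twistOver n S d))) ∧
      (∀ i : ℕ, 1 ≤ i → IsZero ((Coh.RpushAb (CohB1.ProjSpaceOver.toBase n S) i).obj
        (Coh.toAb (CohB1.tensorMod Q (Twist.twistOver n S d))))) ∧
      Epi ((Scheme.Modules.pullbackPushforwardAdjunction (CohB1.ProjSpaceOver.toBase n S)).counit.app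
        (CohB1.tensorMod Q (Twist.twistOver n S d))) := by
  haveI : IsProper (KRR.pr n S) := Groth.Agent.S9705.isProper_toBase n S
  haveI := Groth.Agent.Lib.T2H5.RpushClosed.hasInjectiveResolutions_modules (KRR.PY n S)
  haveI := hQ.1
  have hcoh : ∀ e : ℤ, Coh.IsCoh (CohB1.tensorMod Q (Twist.twistOver n S e)) := fun e =>
    isCoh_tensor hQ (Groth.Agent.Lib.T2H6.CurveDeg.isCoh_of_isInvertible _ (isInvertible_twistOver n S e))
  have hfl : ∀ e : ℤ, FlatMod.IsFlatOver (KRR.pr n S) (CohB1.tensorMod Q (Twist.twistOver n S e)) := fun e =>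
    isFlatOver_tensor_of_isInvertible _ Q _ (isInvertible_twistOver n S e) hflat
  -- `Q(m)` is regular
  have hregm : KRR.IsRegSheaf n S (CohB1.tensorMod Q (Twist.twistOver n S m)) := by
    intro i hi
    obtain ⟨e⟩ := nonempty_twF_tensor_iso n S Q (-(i : ℤ)) m (m - i) (by omega)
    refine isZero_RpushAb_of_iso n S e.symm i ?_
    exact isZero_RpushAb_of_fibre (KRR.pr n S) _ (hcoh _) (hfl _) i (fun s => hreg s i hi)
  haveI := (hcoh m).1
  obtain ⟨k, hk⟩ := Int.eq_ofNat_of_zero_le (show 0 ≤ d - m by omega)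
  -- `Q(d)` is regular
  have hregd : KRR.IsRegSheaf n S (CohB1.tensorMod Q (Twist.twistOver n S d)) := by
    have h1 := (Groth.Agent.Lib.T2H5.RelReg.regular_twists n S _ hregm).1 k
    obtain ⟨e⟩ := nonempty_twF_tensor_iso n S Q (k : ℤ) m d (by omega)
    intro i hi
    obtain ⟨e'⟩ : Nonempty (KRR.twF n S (-(i : ℤ)) (KRR.twF n S (k : ℤ) (CohB1.tensorMod Q (Twist.twistOver n S m))) ≅
        KRR.twF n S (-(i : ℤ)) (CohB1.tensorMod Q (Twist.twistOver n S d))) :=
      ⟨Groth.Agent.Lib.Helper23.AmpleIso.tensorModIso (Iso.refl _) e⟩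
    exact isZero_RpushAb_of_iso n S e' i (h1 i hi)
  haveI := (hcoh d).1
  have hvan := (Groth.Agent.Lib.T2H5.RelReg.regular_twists n S _ hregd).2
  refine ⟨?_, hvan, Groth.Agent.S19429.result n S _ (hcoh d).1 hregd⟩
  have hR : ∀ i : ℕ, 0 < i → IsZero ((Coh.Rpush (KRR.pr n S) i).obj (CohB1.tensorMod Q (Twist.twistOver n S d))) :=
    fun i hi => isZero_Rpush_of_isZero_RpushAb _ _ i (hvan i hi)
  obtain ⟨-, h2⟩ := Groth.Agent.S2390.result (KRR.pr n S) _ (hcoh d) (hfl d) hR
  intro y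
  obtain ⟨U, hyU, e⟩ := h2 y
  exact ⟨U, _, hyU, e⟩

end Pn

end Groth.Agent.Lib.T2H5.FibReg
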