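import Groth.Agent.Lib.T2H9EW2

/-!
# T2H9Reindex (helper9): from cochain complexes to chain complexes

`negEmb` (negation as an embedding of `ComplexShape.down ℤ` into `ComplexShape.up ℤ`),
`toChain L` (`P_i = L^{-i}`), `restrictionHomologyNatIso` (homology of the reindexed complex,
naturally) and `tFunReindexIso L j j' : TFun (toChain L) j ≅ TFun L j'` for `j' = -j`.
-/

set_option autoImplicit false
set_option linter.style.haveILetI false
universe u
open CategoryTheory CategoryTheory.Limits MonoidalCategory

namespace Groth.Agent.Lib.T2H9.Reindex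

open Groth.Agent.Lib.T2H9.EW

/-- negation, as an embedding of the chain complex shape into the cochain complex shape -/
def negEmb : (ComplexShape.down ℤ).Embedding (ComplexShape.up ℤ) where
  f i := -i
  injective_f := neg_injective
  rel {i j} h := by
    simp only [ComplexShape.down_Rel] at h
    simp only [ComplexShape.up_Rel]
    omega

instance : negEmb.IsRelIff where
  rel' i j h := by
    simp only [ComplexShape.up_Rel, negEmb] at h
    simp only [ComplexShape.down_Rel]
    omega

variable {A : Type u} [CommRing A]

/-- the chain complex `P_i = L^{-i}` attached to a cochain complex -/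
noncomputable abbrev toChain (L : CochainComplex (ModuleCat.{u} A) ℤ) :
    ChainComplex (ModuleCat.{u} A) ℤ := L.restriction negEmb

theorem toChain_X (L : CochainComplex (ModuleCat.{u} A) ℤ) (i : ℤ) :
    (toChain L).X i = L.X (-i) := rfl

/-- homology of the reindexed complex, naturally -/
noncomputable def restrictionHomologyNatIso (j j' : ℤ) (h : j' = -j) :
    negEmb.restrictionFunctor (ModuleCat.{u} A) ⋙
        HomologicalComplex.homologyFunctor _ (ComplexShape.down ℤ) j ≅
      HomologicalComplex.homologyFunctor _ (ComplexShape.up ℤ) j' := by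
  subst h
  exact Functor.isoWhiskerLeft _ (HomologicalComplex.homologyFunctorIso' (ModuleCat.{u} A)
      (ComplexShape.down ℤ) (j + 1) j (j - 1) (by simp) (by simp)) ≪≫
    (Functor.associator _ _ _).symm ≪≫
    Functor.isoWhiskerRight
      (NatIso.ofComponents (fun K => Iso.refl _) (fun φ => by
        simp only [Iso.refl_hom]
        rfl) :
        negEmb.restrictionFunctor (ModuleCat.{u} A) ⋙
          HomologicalComplex.shortComplexFunctor' _ (ComplexShape.down ℤ) (j + 1) j (j - 1) ≅
        HomologicalComplex.shortComplexFunctor' _ (ComplexShape.up ℤ) (-(j + 1)) (-j) (-(j - 1))) _ ≪≫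
    (HomologicalComplex.homologyFunctorIso' (ModuleCat.{u} A)
      (ComplexShape.up ℤ) (-(j + 1)) (-j) (-(j - 1)) (by simp; omega) (by simp; omega)).symm

/-- tensoring commutes with reindexing -/
noncomputable def tensorCxRestrictionIso (L : CochainComplex (ModuleCat.{u} A) ℤ) :
    tensorCx (toChain L) ≅ tensorCx L ⋙ negEmb.restrictionFunctor (ModuleCat.{u} A) :=
  NatIso.ofComponents (fun M => Iso.refl _) (fun g => by
    simp only [Iso.refl_hom]
    rfl)

/-- the `T` functors of the reindexed complex -/
noncomputable def tFunReindexIso (L : CochainComplex (ModuleCat.{u} A) ℤ) (j j' : ℤ) (h : j' = -j) :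
    CohIII.TFun (toChain L) j ≅ CohIII.TFun L j' :=
  tFunIso (toChain L) j ≪≫ Functor.isoWhiskerRight (tensorCxRestrictionIso L) _ ≪≫
    Functor.associator _ _ _ ≪≫
    Functor.isoWhiskerLeft (tensorCx L) (restrictionHomologyNatIso j j' h) ≪≫ (tFunIso L j').symm

end Groth.Agent.Lib.T2H9.Reindex
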