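import Groth.Agent.Lib.T2H9Bridge
import Groth.Agent.Lib.T2H9Reindex

/-!
# T2H9Bridge2 (helper9): consumer forms of the bridge theorem

`tensorModComm`, `tensorAIso` (`f^*(M~) ⊗ F ≅ F ⊗_A M`), `exists_chain_bridge` (the bridge theorem
with a chain complex `P` of finite free modules, `H^p(X, f^*(M~) ⊗ F) ≅ H_{-p}(P ⊗ M)`), and
transfer of `PreservesEpimorphisms`, `PreservesMonomorphisms` and surjectivity of maps along an
isomorphism `T1 ⋙ forget₂ ≅ T2`.
-/

set_option autoImplicit false
set_option linter.style.haveILetI false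
universe u
open CategoryTheory CategoryTheory.Limits AlgebraicGeometry MonoidalCategory

namespace Groth.Agent.Lib.T2H9.Bridge

open Groth.Agent.Lib.T2H9.TFunGeo Groth.Agent.Lib.T2H9.Reindex

section comm
variable {X : Scheme.{u}}

/-- symmetry of the tensor product of `O_X`-modules -/
noncomputable def tensorModComm (M N : X.Modules) : CohB1.tensorMod M N ≅ CohB1.tensorMod N M :=
  (CohB1.sheafifyMod X).mapIso
    (show (show X.PresheafOfModules from CohB1.tensorPre M N) ≅
        (show X.PresheafOfModules from CohB1.tensorPre N M) from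
      { hom := (β_ (CohB1.toPMod M) (CohB1.toPMod N)).hom
        inv := (β_ (CohB1.toPMod M) (CohB1.toPMod N)).inv
        hom_inv_id := (β_ (CohB1.toPMod M) (CohB1.toPMod N)).hom_inv_id
        inv_hom_id := (β_ (CohB1.toPMod M) (CohB1.toPMod N)).inv_hom_id })

variable (A : Type u) [CommRing A] [X.Over (Spec (CommRingCat.of A))]

/-- `f^*(M~) ⊗ F ≅ F ⊗_A M` -/
noncomputable def tensorAIso (F : X.Modules) (M : Type u) [AddCommGroup M] [Module A M] :
    (CohIII.tensorAFunctor A F).obj (ModuleCat.of A M) ≅ CohIII.tensorA A F M :=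
  tensorModComm _ _

end comm

/-- the bridge theorem with a chain complex (homological indexing, `H^p ↔ H_{-p}`) -/
theorem exists_chain_bridge (A : Type u) [CommRing A] [IsNoetherianRing A] (X : Scheme.{u})
    [X.Over (Spec (CommRingCat.of A))] [IsProper (X ↘ Spec (CommRingCat.of A))] (F : X.Modules)
    (hF : Coh.IsCoh F) (hfl : FlatMod.IsFlatOver (X ↘ Spec (CommRingCat.of A)) F) :
    ∃ P : ChainComplex (ModuleCat.{u} A) ℤ,
      (∀ i, Module.Finite A (P.X i) ∧ Module.Free A (P.X i)) ∧
      (∃ b : ℤ, ∀ i, i < b → IsZero (P.X i)) ∧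
      ∀ p : ℕ, Nonempty (CohIII.TFun P (-(p : ℤ)) ⋙ forget₂ (ModuleCat.{u} A) AddCommGrpCat.{u} ≅
        CohIII.tensorAFunctor A F ⋙ CohIII.HAb X p) := by
  obtain ⟨L, h1, ⟨b, hb⟩, h3⟩ := exists_cochain_bridge A X F hF hfl
  refine ⟨toChain L, fun i => h1 (-i), ⟨-b, fun i hi => hb (-i) (by omega)⟩, fun p => ?_⟩
  obtain ⟨e⟩ := h3 p
  exact ⟨Functor.isoWhiskerRight (tFunReindexIso L (-(p : ℤ)) (p : ℤ) (by simp)) _ ≪≫ e⟩

section transfer
variable {A : Type u} [CommRing A] {T1 : ModuleCat.{u} A ⥤ ModuleCat.{u} A}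
  {T2 : ModuleCat.{u} A ⥤ AddCommGrpCat.{u}}
  (e : T1 ⋙ forget₂ (ModuleCat.{u} A) AddCommGrpCat.{u} ≅ T2)

include e in
theorem preservesEpi_iff : T2.PreservesEpimorphisms ↔ T1.PreservesEpimorphisms := by
  constructor
  · intro h
    haveI : (T1 ⋙ forget₂ (ModuleCat.{u} A) AddCommGrpCat.{u}).PreservesEpimorphisms :=
      Functor.PreservesEpimorphisms.of_iso e.symm
    exact Functor.preservesEpimorphisms_of_preserves_of_reflects T1
      (forget₂ (ModuleCat.{u} A) AddCommGrpCat.{u})
  · intro h
    haveI : (T1 ⋙ forget₂ (ModuleCat.{u} A) AddCommGrpCat.{u}).PreservesEpimorphisms :=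
      inferInstance
    exact Functor.PreservesEpimorphisms.of_iso e

include e in
theorem preservesMono_iff : T2.PreservesMonomorphisms ↔ T1.PreservesMonomorphisms := by
  constructor
  · intro h
    haveI : (T1 ⋙ forget₂ (ModuleCat.{u} A) AddCommGrpCat.{u}).PreservesMonomorphisms :=
      Functor.PreservesMonomorphisms.of_iso e.symm
    exact Functor.preservesMonomorphisms_of_preserves_of_reflects T1
      (forget₂ (ModuleCat.{u} A) AddCommGrpCat.{u})
  · intro h
    haveI : (T1 ⋙ forget₂ (ModuleCat.{u} A) AddCommGrpCat.{u}).PreservesMonomorphisms :=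
      inferInstance
    exact Functor.PreservesMonomorphisms.of_iso e

include e in
theorem surjective_map_iff {M N : ModuleCat.{u} A} (g : M ⟶ N) :
    Function.Surjective (T2.map g).hom ↔ Function.Surjective (T1.map g).hom := by
  rw [← AddCommGrpCat.epi_iff_surjective, ← ModuleCat.epi_iff_surjective]
  have h1 : Epi (T2.map g) ↔ Epi ((T1 ⋙ forget₂ (ModuleCat.{u} A) AddCommGrpCat.{u}).map g) := by
    have hn := e.hom.naturality g
    constructor
    · intro h
      have : (T1 ⋙ forget₂ (ModuleCat.{u} A) AddCommGrpCat.{u}).map g =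
          e.hom.app M ≫ T2.map g ≫ e.inv.app N := by
        rw [← Category.assoc, ← hn, Category.assoc, Iso.hom_inv_id_app, Category.comp_id]
      rw [this]
      infer_instance
    · intro h
      have : T2.map g = e.inv.app M ≫
          (T1 ⋙ forget₂ (ModuleCat.{u} A) AddCommGrpCat.{u}).map g ≫ e.hom.app N := by
        rw [hn, Iso.inv_hom_id_app_assoc]
      rw [this]
      infer_instance
  rw [h1]
  constructor
  · intro h
    exact (forget₂ (ModuleCat.{u} A) AddCommGrpCat.{u}).epi_of_epi_map h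
  · intro h
    exact (forget₂ (ModuleCat.{u} A) AddCommGrpCat.{u}).map_epi _

end transfer

end Groth.Agent.Lib.T2H9.Bridge
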