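import Mathlib
import Groth.Prelude.Def_ega3
import Groth.Agent.Lib.T2H9Bridge2
import Groth.Agent.Lib.T2H5ProjExact
import Groth.Agent.S2376

/-!
# T2H9BridgeH0 (helper9): global sections of `f^*(M~) ⊗ F` as a corepresentable functor

* `preservesMono_TFun_zero`, `preservesMono_H0`: `M ↦ H^0(X, f^*(M~) ⊗ F)` preserves monomorphisms (`F` flat over `A`),
  read off from the Čech complex of the bridge theorem.
* `H0Iso : H^0(X, −) ≅ Γ(X, −)` (as `Ab`-valued functors), `globalSectionsA_map_smulMod`, `liftIso`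
  (an `Ab`-valued natural isomorphism with `A`-linear components is an isomorphism of `ModuleCat A`-valued functors).
* `exists_chain_bridge_Γ`: `Γ(X, f^*(M~) ⊗ F) ≅ H_0(P ⊗ M)` as functors to `A`-modules;
  `exists_corep` (EGA III 7.7.6): corepresentability by a finitely generated module;
  `coyoneda_nat_apply`, `exists_kernel_corep` (EGA III 7.7.7: kernels of transformations).
-/

set_option autoImplicit false
set_option linter.style.haveILetI false
universe u

namespace Groth.Agent.Lib.T2H9.BridgeH0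

open CategoryTheory CategoryTheory.Limits MonoidalCategory Groth.Agent.Lib.Helper3 AlgebraicGeometry
  Groth.Agent.Lib.T2H9.Bridge Opposite TopologicalSpace

variable {A : Type u} [CommRing A]

/-- for a cochain complex with flat `C^0` and `C^{-1} = 0`, `M ↦ H^0(C ⊗ M)` preserves monomorphisms -/
theorem preservesMono_TFun_zero (C : CochainComplex (ModuleCat.{u} A) ℤ)
    (hflat : Module.Flat A (C.X 0)) (hneg : IsZero (C.X (-1))) :
    (CohIII.TFun C 0).PreservesMonomorphisms := by
  refine ⟨fun {M N} g hg => ?_⟩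
  show Mono (HomologicalComplex.homologyMap (CohIII.tensorMap C g) 0)
  have hd : ∀ L : ModuleCat.{u} A, (CohIII.tensorObj C L).d (-1) 0 = 0 := fun L => by
    have hz : IsZero ((CohIII.tensorObj C L).X (-1)) :=
      (tensorRight L).map_isZero hneg
    exact hz.eq_of_src _ _
  have hprev : (ComplexShape.up ℤ).prev 0 = -1 := by simp
  have hiso : ∀ L : ModuleCat.{u} A, IsIso ((CohIII.tensorObj C L).homologyπ 0) := fun L => by
    apply ShortComplex.isIso_homologyπ
    show (CohIII.tensorObj C L).d ((ComplexShape.up ℤ).prev 0) 0 = 0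
    rw [hprev]
    exact hd L
  have hm1 : Mono (C.X 0 ◁ g) := by
    rw [ModuleCat.mono_iff_injective] at hg ⊢
    exact Module.Flat.lTensor_preserves_injective_linearMap (M := C.X 0) g.hom hg
  have hcyc : Mono (HomologicalComplex.cyclesMap (CohIII.tensorMap C g) 0) := by
    have h : HomologicalComplex.cyclesMap (CohIII.tensorMap C g) 0 ≫
        (CohIII.tensorObj C N).iCycles 0 = (CohIII.tensorObj C M).iCycles 0 ≫ (C.X 0 ◁ g) :=
      HomologicalComplex.cyclesMap_i _ _
    have : Mono (HomologicalComplex.cyclesMap (CohIII.tensorMap C g) 0 ≫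
        (CohIII.tensorObj C N).iCycles 0) := by
      rw [h]
      exact @mono_comp _ _ _ _ _ _ inferInstance _ hm1
    exact mono_of_mono _ ((CohIII.tensorObj C N).iCycles 0)
  have hnat : (CohIII.tensorObj C M).homologyπ 0 ≫
      HomologicalComplex.homologyMap (CohIII.tensorMap C g) 0 =
      HomologicalComplex.cyclesMap (CohIII.tensorMap C g) 0 ≫ (CohIII.tensorObj C N).homologyπ 0 :=
    HomologicalComplex.homologyπ_naturality _ _
  haveI := hiso M
  haveI := hiso N
  have : HomologicalComplex.homologyMap (CohIII.tensorMap C g) 0 =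
      inv ((CohIII.tensorObj C M).homologyπ 0) ≫
      HomologicalComplex.cyclesMap (CohIII.tensorMap C g) 0 ≫
        (CohIII.tensorObj C N).homologyπ 0 := by
    rw [← hnat, IsIso.inv_hom_id_assoc]
  rw [this]
  haveI : Mono (HomologicalComplex.cyclesMap (CohIII.tensorMap C g) 0 ≫
        (CohIII.tensorObj C N).homologyπ 0) := mono_comp _ _
  exact mono_comp _ _

/-- `M ↦ H^0(X, f^*(M~) ⊗ F)` is left exact for `F` flat over `A`. -/
theorem preservesMono_H0 (A : Type u) [CommRing A] [IsNoetherianRing A] (X : Scheme.{u})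
    [X.Over (Spec (CommRingCat.of A))] [IsProper (X ↘ Spec (CommRingCat.of A))] (F : X.Modules)
    (hF : Coh.IsCoh F) (hfl : FlatMod.IsFlatOver (X ↘ Spec (CommRingCat.of A)) F) :
    (CohIII.tensorAFunctor A F ⋙ CohIII.HAb X 0).PreservesMonomorphisms := by
  haveI := hF.1
  haveI : CompactSpace X := QuasiCompact.compactSpace_of_compactSpace (X ↘ Spec (CommRingCat.of A))
  obtain ⟨t, W, hW, hcovW⟩ :=
    Groth.Agent.Lib.Helper22.NA9.exists_fin_affine_cover (⊤ : X.Opens) isCompact_univ
  let U : ULift.{u} (Fin t) → X.Opens := fun i => W i.down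
  have hcov : iSup U = ⊤ := by
    rw [← hcovW]
    apply le_antisymm
    · exact iSup_le fun i => le_iSup W i.down
    · exact iSup_le fun k => le_iSup U ⟨k⟩
  have hUa : ∀ (n : ℕ) (x : Fin (n + 1) → ULift.{u} (Fin t)),
      IsAffineOpen (iInf fun k => U (x k)) := fun n x =>
    isAffineOpen_iInf (X ↘ Spec (CommRingCat.of A)) (fun k => hW (x k).down)
  obtain ⟨e⟩ := nonempty_bridgeC A F U hcov hUa 0
  have h0 := preservesMono_TFun_zero (Cx A F U) (flat_Cx A F U hUa hfl 0)
    (isZero_Cx_neg A F U (-1) (by omega))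
  exact (preservesMono_iff e).mpr h0

section H0
variable (A : Type u) [CommRing A] {X : Scheme.{u}} [X.Over (Spec (CommRingCat.of A))]

/-- `H^0(X, −) ≅ Γ(X, −)` as functors to abelian groups -/
noncomputable def H0Iso : CohIII.HAb X 0 ≅
    CohIII.globalSectionsA A (X := X) ⋙ forget₂ (ModuleCat.{u} A) AddCommGrpCat.{u} :=
  NatIso.ofComponents
    (fun M => AddEquiv.toAddCommGrpIso
      (Sheaf.H.equiv₀ ((SheafOfModules.toSheaf X.ringCatSheaf).obj M) isTerminalTop))
    (by
      intro M N φ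
      ext x
      exact (Sheaf.H.equiv₀_naturality isTerminalTop
        ((SheafOfModules.toSheaf X.ringCatSheaf).map φ) x).symm)

theorem globalSectionsA_map_smulMod (G : X.Modules) (a : A) :
    (CohIII.globalSectionsA A).map (Formal.smulMod A G a) = a • 𝟙 _ := by
  change (moduleSpecΓFunctor (R := CommRingCat.of A)).map
    ((Scheme.Modules.pushforward (X ↘ Spec (CommRingCat.of A))).map
      (Formal.smulModΓ G ((X ↘ Spec (CommRingCat.of A)).appTop.hom
        (Groth.Agent.Lib.Helper23.TildeTensor.rsec (CommRingCat.of A) a)))) = _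
  rw [Groth.Agent.Lib.Helper20.FormalPull.pushforward_map_smulModΓ]
  exact Groth.Agent.Lib.T2H9.TFunGeo.Γ_map_smulModΓ (CommRingCat.of A) _ a

end H0

section lift
variable {A : Type u} [CommRing A] {C : Type*} [Category C]

/-- lift an `Ab`-valued natural isomorphism with `A`-linear components to `ModuleCat A` -/
noncomputable def liftIso (T1 T2 : C ⥤ ModuleCat.{u} A)
    (e : T1 ⋙ forget₂ (ModuleCat.{u} A) AddCommGrpCat.{u} ≅
      T2 ⋙ forget₂ (ModuleCat.{u} A) AddCommGrpCat.{u})
    (hlin : ∀ (M : C) (a : A) (x : T1.obj M),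
      (e.hom.app M).hom (a • x) = a • (show T2.obj M from (e.hom.app M).hom x)) :
    T1 ≅ T2 :=
  NatIso.ofComponents
    (fun M => LinearEquiv.toModuleIso
      { (e.app M).addCommGroupIsoToAddEquiv with map_smul' := hlin M })
    (by
      intro M N g
      ext x
      exact congrArg (fun φ => φ.hom x) (e.hom.naturality g))

end lift

section yoneda
variable {A : Type u} [CommRing A]

/-- the functor `Hom_A(Q, −)` -/
noncomputable abbrev yy (Q : ModuleCat.{u} A) : ModuleCat.{u} A ⥤ ModuleCat.{u} A :=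
  (linearCoyoneda A (ModuleCat.{u} A)).obj (op Q)

/-- a natural transformation between corepresentable functors is precomposition -/
theorem coyoneda_nat_apply {Q Q' : ModuleCat.{u} A} (τ : yy Q ⟶ yy Q') (M : ModuleCat.{u} A)
    (φ : Q ⟶ M) : (τ.app M).hom φ = (show Q' ⟶ Q from (τ.app Q).hom (𝟙 Q)) ≫ φ := by
  have h := congrArg (fun ψ => ψ.hom (𝟙 Q)) (τ.naturality φ)
  simp only [ModuleCat.hom_comp, LinearMap.comp_apply] at h
  have e1 : ((yy Q).map φ).hom (𝟙 Q) = φ := by
    show 𝟙 Q ≫ φ = φ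
    exact Category.id_comp φ
  rw [e1] at h
  exact h

/-- the kernel of a natural transformation between corepresentable functors is corepresentable -/
theorem exists_kernel_corep {G G' : ModuleCat.{u} A ⥤ ModuleCat.{u} A} {Q Q' : ModuleCat.{u} A}
    [Module.Finite A Q] (α : G ≅ yy Q) (α' : G' ≅ yy Q') (η : G ⟶ G') :
    ∃ (R : ModuleCat.{u} A) (ι : yy R ⟶ G), Module.Finite A R ∧
      (∀ M : ModuleCat.{u} A, Function.Injective (ι.app M).hom) ∧
      ∀ (M : ModuleCat.{u} A) (x : G.obj M), (η.app M).hom x = 0 ↔ ∃ y, (ι.app M).hom y = x := by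
  let τ : yy Q ⟶ yy Q' := α.inv ≫ η ≫ α'.hom
  let u : Q' ⟶ Q := (τ.app Q).hom (𝟙 Q)
  let R : ModuleCat.{u} A := ModuleCat.of A (Q ⧸ LinearMap.range u.hom)
  let π : Q ⟶ R := ModuleCat.ofHom (LinearMap.range u.hom).mkQ
  have hπ : Function.Surjective π.hom := Submodule.mkQ_surjective _
  have huπ : u ≫ π = 0 := by
    ext x
    show (LinearMap.range u.hom).mkQ (u.hom x) = 0
    rw [Submodule.mkQ_apply, Submodule.Quotient.mk_eq_zero]
    exact LinearMap.mem_range_self _ x
  have hinjα : ∀ M : ModuleCat.{u} A, Function.Injective (α.inv.app M).hom := fun M =>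
    Function.LeftInverse.injective (g := (α.hom.app M).hom)
      (fun z => congrArg (fun ψ => ψ.hom z) (α.inv_hom_id_app M))
  refine ⟨R, (linearCoyoneda A (ModuleCat.{u} A)).map π.op ≫ α.inv, ?_, ?_, ?_⟩
  · exact Module.Finite.of_surjective π.hom hπ
  · intro M ψ ψ' h
    have h1 : π ≫ ψ = π ≫ ψ' := by
      exact hinjα M h
    haveI : Epi π := (ModuleCat.epi_iff_surjective _).mpr hπ
    exact (cancel_epi π).mp h1
  · intro M x
    set φ : Q ⟶ M := (α.hom.app M).hom x with hφ
    have hx : (α.inv.app M).hom φ = x := by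
      rw [hφ]
      exact congrArg (fun ψ => ψ.hom x) (α.hom_inv_id_app M)
    have hτ : (τ.app M).hom φ = (α'.hom.app M).hom ((η.app M).hom x) := by
      show (α'.hom.app M).hom ((η.app M).hom ((α.inv.app M).hom φ)) = _
      rw [hx]
    have hinj' : Function.Injective (α'.hom.app M).hom :=
      Function.LeftInverse.injective (g := (α'.inv.app M).hom)
        (fun z => congrArg (fun ψ => ψ.hom z) (α'.hom_inv_id_app M))
    have h0 : (η.app M).hom x = 0 ↔ u ≫ φ = 0 := by
      rw [← coyoneda_nat_apply τ M φ, hτ]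
      constructor
      · intro h
        rw [h, map_zero]
        rfl
      · intro h
        apply hinj'
        rw [h, map_zero]
        rfl
    rw [h0]
    constructor
    · intro h
      -- φ kills range u, so it factors through π
      let ψ : R ⟶ M := ModuleCat.ofHom ((LinearMap.range u.hom).liftQ φ.hom (by
        rintro _ ⟨z, rfl⟩
        exact congrArg (fun ψ => ψ.hom z) h))
      refine ⟨ψ, ?_⟩
      show (α.inv.app M).hom (π ≫ ψ) = x
      have : π ≫ ψ = φ := by
        ext z
        rfl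
      rw [this, hx]
    · rintro ⟨ψ, hψ⟩
      have h2 : (α.inv.app M).hom (π ≫ ψ) = x := hψ
      have h3 : π ≫ ψ = φ := hinjα M (h2.trans hx.symm)
      rw [← h3, ← Category.assoc, huπ, zero_comp]

end yoneda

section main
variable (A : Type u) [CommRing A] [IsNoetherianRing A] (X : Scheme.{u})
  [X.Over (Spec (CommRingCat.of A))] [IsProper (X ↘ Spec (CommRingCat.of A))] (F : X.Modules)

open Groth.Agent.Lib.T2H9.TFunGeo Groth.Agent.Lib.T2H9.TFunAlg in
/-- `Γ(X, f^*(M~) ⊗ F)` is `H_0(P ⊗ M)` as functors to `A`-modules -/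
theorem exists_chain_bridge_Γ (hF : Coh.IsCoh F)
    (hfl : FlatMod.IsFlatOver (X ↘ Spec (CommRingCat.of A)) F) :
    ∃ P : ChainComplex (ModuleCat.{u} A) ℤ,
      (∀ i, Module.Finite A (P.X i) ∧ Module.Free A (P.X i)) ∧
      (CohIII.TFun P 0).PreservesMonomorphisms ∧
      Nonempty (CohIII.TFun P 0 ≅ CohIII.tensorAFunctor A F ⋙ CohIII.globalSectionsA A) := by
  obtain ⟨P, h1, h2, h3⟩ := exists_chain_bridge A X F hF hfl
  obtain ⟨e⟩ := h3 0
  have h00 : (-((0 : ℕ) : ℤ)) = 0 := by simp
  rw [h00] at e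
  have hmono : (CohIII.TFun P 0).PreservesMonomorphisms :=
    (preservesMono_iff e).mp (preservesMono_H0 A X F hF hfl)
  refine ⟨P, h1, hmono, ⟨?_⟩⟩
  refine liftIso (CohIII.TFun P 0) (CohIII.tensorAFunctor A F ⋙ CohIII.globalSectionsA A)
    (e ≪≫ Functor.isoWhiskerLeft (CohIII.tensorAFunctor A F) (H0Iso A)) ?_
  intro M a x
  have hnat := (e ≪≫ Functor.isoWhiskerLeft (CohIII.tensorAFunctor A F) (H0Iso A)).hom.naturality
    (a • 𝟙 M)
  have h1' := congrArg (fun φ => φ.hom x) hnat
  have h2' : (CohIII.TFun P 0).map (a • 𝟙 M) = a • 𝟙 _ := by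
    rw [TFun_map_smul, CategoryTheory.Functor.map_id]
  have h3' : (CohIII.tensorAFunctor A F ⋙ CohIII.globalSectionsA A).map (a • 𝟙 M) = a • 𝟙 _ := by
    rw [Functor.comp_map, tensorAFunctor_map_smul, globalSectionsA_map_smulMod]
    rfl
  have h4' : (CohIII.tensorAFunctor A F ⋙ CohIII.globalSectionsA A ⋙
      forget₂ (ModuleCat.{u} A) AddCommGrpCat.{u}).map (a • 𝟙 M) =
      (forget₂ (ModuleCat.{u} A) AddCommGrpCat.{u}).map
        ((CohIII.tensorAFunctor A F ⋙ CohIII.globalSectionsA A).map (a • 𝟙 M)) := rfl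
  rw [h4', h3'] at h1'
  simp only [Functor.comp_map, h2'] at h1'
  exact h1'

/-- **S2436**: `M ↦ Γ(X, f^*(M~) ⊗ F)` is corepresentable by a finitely generated module. -/
theorem exists_corep (hF : Coh.IsCoh F)
    (hfl : FlatMod.IsFlatOver (X ↘ Spec (CommRingCat.of A)) F) :
    ∃ Q : ModuleCat.{u} A, Module.Finite A Q ∧
      Nonempty (CohIII.tensorAFunctor A F ⋙ CohIII.globalSectionsA A ≅
        (linearCoyoneda A (ModuleCat.{u} A)).obj (op Q)) := by
  obtain ⟨P, h1, hmono, ⟨η⟩⟩ := exists_chain_bridge_Γ A X F hF hfl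
  have hP : ∀ i, Module.Finite A (P.X i) ∧ Module.Flat A (P.X i) := fun i =>
    ⟨(h1 i).1, haveI := (h1 i).2; inferInstance⟩
  obtain ⟨Q, ⟨θ⟩⟩ := (Groth.Agent.S2376.result P hP 0).1.mp hmono
  exact ⟨Q, (Groth.Agent.S2376.result P hP 0).2 Q ⟨θ⟩, ⟨η.symm ≪≫ θ⟩⟩

/-- **S4498**: kernels of transformations between the global section functors are corepresentable. -/
theorem exists_kernel_corep_Γ (F' : X.Modules) (hF : Coh.IsCoh F) (hF' : Coh.IsCoh F')
    (hfl : FlatMod.IsFlatOver (X ↘ Spec (CommRingCat.of A)) F)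
    (hfl' : FlatMod.IsFlatOver (X ↘ Spec (CommRingCat.of A)) F')
    (η : CohIII.tensorAFunctor A F ⋙ CohIII.globalSectionsA A ⟶
      CohIII.tensorAFunctor A F' ⋙ CohIII.globalSectionsA A) :
    ∃ (R : ModuleCat.{u} A) (ι : (linearCoyoneda A (ModuleCat.{u} A)).obj (op R) ⟶
        CohIII.tensorAFunctor A F ⋙ CohIII.globalSectionsA A),
      Module.Finite A R ∧ (∀ M : ModuleCat.{u} A, Function.Injective (ι.app M).hom) ∧
        ∀ (M : ModuleCat.{u} A) (x : (CohIII.tensorAFunctor A F ⋙ CohIII.globalSectionsA A).obj M),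
          (η.app M).hom x = 0 ↔ ∃ y, (ι.app M).hom y = x := by
  obtain ⟨Q, hQ, ⟨α⟩⟩ := exists_corep A X F hF hfl
  obtain ⟨Q', hQ', ⟨α'⟩⟩ := exists_corep A X F' hF' hfl'
  exact exists_kernel_corep α α' η

end main

end Groth.Agent.Lib.T2H9.BridgeH0
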